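import Mathlib
import Groth.Agent.Lib.EtSupp_lead
import Groth.Agent.Lib.EtExtZ2_lead
import Groth.Agent.Lib.EtStalkPull_helper9

/-!
# Stalks of constructible abelian étale sheaves (lead)

Stalks of finite locally constant and of constructible sheaves are finite; vanishing of the stalk
of a constructible sheaf at one geometric point over `x` puts `x` outside the support; shrinking
germs to affine étale neighbourhoods; finite biproducts of constructible sheaves.
-/

set_option autoImplicit false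
set_option linter.unusedSimpArgs false
set_option linter.unusedVariables false
set_option linter.unusedSectionVars false
set_option linter.style.longLine false
set_option linter.unnecessarySimpa false
set_option linter.style.haveILetI false
set_option maxHeartbeats 1600000
set_option backward.isDefEq.respectTransparency false
set_option backward.isDefEq.respectTransparency.types false
set_option backward.defeqAttrib.useBackward true

open CategoryTheory CategoryTheory.Limits AlgebraicGeometry Opposite Topology TopologicalSpace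

namespace Groth.Agent.Lib.EtPres

open Groth.Agent.Lib.EtPull Groth.Agent.Lib.EtCons Groth.Agent.Lib.EtLocConst
  Groth.Agent.Lib.EtSchSite_helper7 Groth.Agent.Lib.EtSchExact_helper7 Groth.Agent.Lib.EtSub
  Groth.Agent.Lib.EtSupp

universe w u

section Stalk

variable {T : Scheme.{u}} {K : EtCoh.Ab T}

theorem map_comp_hom' (F : EtCoh.Ab T) {A B C : T.Etale} (f : A ⟶ B) (g : B ⟶ C)
    (τ : F.obj.obj (op C)) :
    (F.obj.map (f ≫ g).op).hom τ = (F.obj.map f.op).hom ((F.obj.map g.op).hom τ) :=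
  congrArg (fun m => m.hom τ) (F.obj.map_comp g.op f.op)

/-- every germ of a locally constant sheaf at a geometric point through `D.U` is the germ of a
constant section. -/
theorem stalk_surj_of_triv (D : Triv K) {Ω : Type u} [Field Ω] [IsSepClosed Ω]
    (ζ : Spec (CommRingCat.of Ω) ⟶ T) (xD : (Scheme.pointSmallEtale ζ).fiber.obj D.U)
    (t : ToType ((Scheme.pointSmallEtale ζ).presheafFiber.obj K.obj)) :
    ∃ n : D.N, (Scheme.pointSmallEtale ζ).toPresheafFiber D.U xD K.obj (D.θ (𝟙 D.U) n) = t := by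
  obtain ⟨V, x, s, rfl⟩ := (Scheme.pointSmallEtale ζ).toPresheafFiber_jointly_surjective t
  let A₀ : (Scheme.pointSmallEtale ζ).fiber.Elements := ⟨V, x⟩
  let B₀ : (Scheme.pointSmallEtale ζ).fiber.Elements := ⟨D.U, xD⟩
  let P : T.Etale := (IsCofiltered.min A₀ B₀).1
  let p₁ : P ⟶ V := (IsCofiltered.minToLeft A₀ B₀).1
  let p₂ : P ⟶ D.U := (IsCofiltered.minToRight A₀ B₀).1
  let y : (Scheme.pointSmallEtale ζ).fiber.obj P := (IsCofiltered.min A₀ B₀).2
  have hy₁ : (Scheme.pointSmallEtale ζ).fiber.map p₁ y = x := (IsCofiltered.minToLeft A₀ B₀).2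
  have hy₂ : (Scheme.pointSmallEtale ζ).fiber.map p₂ y = xD := (IsCofiltered.minToRight A₀ B₀).2
  obtain ⟨Z, k, n, ⟨z', hz'⟩, hn⟩ := D.exists_local p₂ ((K.obj.map p₁.op).hom s)
    (y.left.base (default : ↥(Spec (CommRingCat.of Ω))))
  obtain ⟨l, hl₁, hl₂⟩ := Scheme.exists_fac_of_etale_of_isSepClosed k.left y.left z' hz'
  have hw : l ≫ Z.hom = ζ := by
    rw [← MorphismProperty.Over.w k, ← Category.assoc, hl₁]
    exact Over.w y
  let y' : (Scheme.pointSmallEtale ζ).fiber.obj Z := Over.homMk l hw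
  have hy' : (Scheme.pointSmallEtale ζ).fiber.map k y' = y := by
    apply Over.OverMorphism.ext
    exact hl₁
  have hx1 : (Scheme.pointSmallEtale ζ).fiber.map (k ≫ p₁) y' = x := by
    rw [Functor.map_comp]
    show (Scheme.pointSmallEtale ζ).fiber.map p₁ ((Scheme.pointSmallEtale ζ).fiber.map k y') = x
    rw [hy', hy₁]
  have hx2 : (Scheme.pointSmallEtale ζ).fiber.map (k ≫ p₂) y' = xD := by
    rw [Functor.map_comp]
    show (Scheme.pointSmallEtale ζ).fiber.map p₂ ((Scheme.pointSmallEtale ζ).fiber.map k y') = xD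
    rw [hy', hy₂]
  refine ⟨n, ?_⟩
  have e1 : (Scheme.pointSmallEtale ζ).toPresheafFiber Z y' K.obj (K.obj.map (k ≫ p₁).op s) =
      (Scheme.pointSmallEtale ζ).toPresheafFiber V
        ((Scheme.pointSmallEtale ζ).fiber.map (k ≫ p₁) y') K.obj s :=
    (Scheme.pointSmallEtale ζ).toPresheafFiber_w_apply (k ≫ p₁) y' K.obj s
  have e2 : (Scheme.pointSmallEtale ζ).toPresheafFiber Z y' K.obj
        (K.obj.map (k ≫ p₂).op (D.θ (𝟙 D.U) n)) =
      (Scheme.pointSmallEtale ζ).toPresheafFiber D.U
        ((Scheme.pointSmallEtale ζ).fiber.map (k ≫ p₂) y') K.obj (D.θ (𝟙 D.U) n) :=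
    (Scheme.pointSmallEtale ζ).toPresheafFiber_w_apply (k ≫ p₂) y' K.obj (D.θ (𝟙 D.U) n)
  have e3 : (K.obj.map (k ≫ p₂).op).hom (D.θ (𝟙 D.U) n) = (K.obj.map (k ≫ p₁).op).hom s := by
    have a1 := D.θ_res (𝟙 D.U) (k ≫ p₂) n
    have a2 : D.θ ((k ≫ p₂) ≫ 𝟙 D.U) n = D.θ (k ≫ p₂) n := by rw [Category.comp_id]
    exact a1.trans (a2.trans (hn.trans (map_comp_hom' K k p₁ s).symm))
  rw [hx1] at e1
  rw [hx2] at e2
  rw [← e1, ← e2]
  exact congrArg (fun z => (Scheme.pointSmallEtale ζ).toPresheafFiber Z y' K.obj z) e3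

theorem exists_triv' (hK : EtCoh.IsFiniteLocallyConstant K) (t : T) :
    ∃ (D : Triv K) (pt : D.U.left), D.U.hom.base pt = t ∧ Finite D.N := by
  obtain ⟨κ, U, hcov, hM⟩ := hK
  obtain ⟨i, pt, hpt⟩ := hcov t
  obtain ⟨M, iM, fM, ⟨α⟩⟩ := hM i
  letI := iM
  haveI := fM
  refine ⟨⟨U i, AddCommGrpCat.of (ULift.{u + 1} M), α⟩, pt, hpt, ?_⟩
  exact Finite.of_equiv M Equiv.ulift.symm

/-- stalks of finite locally constant sheaves are finite. -/
theorem finite_stalk_of_flc (hK : EtCoh.IsFiniteLocallyConstant K)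
    {Ω : Type u} [Field Ω] [IsSepClosed Ω] (ζ : Spec (CommRingCat.of Ω) ⟶ T) :
    Finite (ToType ((EtCoh.stalk ζ).obj K)) := by
  obtain ⟨D, pt, hpt, hfin⟩ := exists_triv' hK (ζ.base (default : ↥(Spec (CommRingCat.of Ω))))
  obtain ⟨l, hl₁, hl₂⟩ := Scheme.exists_fac_of_etale_of_isSepClosed D.U.hom ζ pt hpt
  let xD : (Scheme.pointSmallEtale ζ).fiber.obj D.U := Over.homMk l hl₁
  haveI := hfin
  exact Finite.of_surjective
    (fun n : D.N => (Scheme.pointSmallEtale ζ).toPresheafFiber D.U xD K.obj (D.θ (𝟙 D.U) n))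
    (fun t => stalk_surj_of_triv D ζ xD t)

end Stalk

section Cons

variable {X : Scheme.{u}}

theorem exists_stratum (F : EtCoh.Ab X) (hF : EtPBC.IsConstructible F) (x : X) :
    ∃ (T : Scheme.{u}) (g : T ⟶ X) (_ : IsImmersion g) (t : T), g.base t = x ∧
      EtCoh.IsFiniteLocallyConstant ((EtCoh.pull g).obj F) := by
  obtain ⟨U, hU, hxU⟩ : ∃ U : X.Opens, IsAffineOpen U ∧ x ∈ U := by
    obtain ⟨_, ⟨U, hU, rfl⟩, hxU, -⟩ := X.isBasis_affineOpens.exists_subset_of_mem_open
      (Set.mem_univ x) isOpen_univ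
    exact ⟨U, hU, hxU⟩
  obtain ⟨n, T, g, himm, hc, hd, hu, hflc⟩ := hF U hU
  have hx' : x ∈ ⋃ i, Set.range (g i) := by
    rw [hu]
    exact hxU
  obtain ⟨i, t, ht⟩ := Set.mem_iUnion.mp hx'
  exact ⟨T i, g i, himm i, t, ht, hflc i⟩

/-- stalks of constructible sheaves are finite. -/
theorem finite_stalk_of_constructible (F : EtCoh.Ab X) (hF : EtPBC.IsConstructible F)
    {Ω : Type u} [Field Ω] [IsSepClosed Ω] (ξ : Spec (CommRingCat.of Ω) ⟶ X) :
    Finite (ToType ((EtCoh.stalk ξ).obj F)) := by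
  obtain ⟨T, g, himm, t, ht, hflc⟩ :=
    exists_stratum F hF (ξ.base (default : ↥(Spec (CommRingCat.of Ω))))
  haveI := himm
  obtain ⟨ζ, rfl⟩ := exists_lift_immersion g ξ ⟨t, ht⟩
  have hfin := finite_stalk_of_flc hflc ζ
  let e := (EtStalkPull.stalkPullIso g ζ).app F
  exact @Finite.of_equiv _ _ hfin ((forget AddCommGrpCat.{u + 1}).mapIso e).toEquiv

/-- if the stalk of a constructible sheaf vanishes at one geometric point over `x`, then `x` is
not in the support. -/
theorem not_mem_supp_of_isZero_stalk (K : EtCoh.Ab X) (hK : EtPBC.IsConstructible K)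
    {Ω : Type u} [Field Ω] [IsSepClosed Ω] (ξ₀ : Spec (CommRingCat.of Ω) ⟶ X)
    (h0 : IsZero ((EtCoh.stalk ξ₀).obj K)) :
    ξ₀.base (default : ↥(Spec (CommRingCat.of Ω))) ∉ EtPBC.supp K := by
  rintro ⟨Ω₁, iF, iS, ξ₁, hξ₁, hnz⟩
  obtain ⟨T, g, himm, t, ht, hflc⟩ :=
    exists_stratum K hK (ξ₀.base (default : ↥(Spec (CommRingCat.of Ω))))
  haveI := himm
  have hd1 : ξ₁.base (default : ↥(Spec (CommRingCat.of Ω₁))) =
      ξ₀.base (default : ↥(Spec (CommRingCat.of Ω))) := base_default_of_range ξ₁ hξ₁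
  obtain ⟨ζ₁, hζ₁⟩ := exists_lift_immersion g ξ₁ ⟨t, ht.trans hd1.symm⟩
  obtain ⟨ζ₀, hζ₀⟩ := exists_lift_immersion g ξ₀ ⟨t, ht⟩
  obtain ⟨D, pt, hpt, -⟩ := exists_triv' hflc t
  have ht0 : ζ₀.base (default : ↥(Spec (CommRingCat.of Ω))) = t := by
    apply g.isEmbedding.injective
    rw [ht, ← hζ₀]
    rfl
  have ht1 : ζ₁.base (default : ↥(Spec (CommRingCat.of Ω₁))) = t := by
    apply g.isEmbedding.injective
    rw [ht, ← hd1, ← hζ₁]
    rfl
  rcases subsingleton_or_nontrivial D.N with hs | hn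
  · have hz := isZero_stalk_of_subsingleton D ζ₁ pt (hpt.trans ht1.symm)
    apply hnz
    rw [← hζ₁]
    exact IsZero.of_iso hz ((EtStalkPull.stalkPullIso g ζ₁).app K).symm
  · have hz := not_isZero_stalk_of_nontrivial D ζ₀ pt (hpt.trans ht0.symm)
    apply hz
    have h0' : IsZero ((EtCoh.stalk (ζ₀ ≫ g)).obj K) := by
      rw [hζ₀]
      exact h0
    exact IsZero.of_iso h0' ((EtStalkPull.stalkPullIso g ζ₀).app K)

/-- germs can be represented on affine étale neighbourhoods. -/
theorem exists_affine_germ (F : EtCoh.Ab X) {Ω : Type u} [Field Ω] [IsSepClosed Ω]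
    (ξ : Spec (CommRingCat.of Ω) ⟶ X)
    (t : ToType ((Scheme.pointSmallEtale ξ).presheafFiber.obj F.obj)) :
    ∃ (V : X.Etale) (_ : IsAffine V.left) (y : (Scheme.pointSmallEtale ξ).fiber.obj V)
      (s : F.obj.obj (op V)), (Scheme.pointSmallEtale ξ).toPresheafFiber V y F.obj s = t := by
  obtain ⟨V, y, s, rfl⟩ := (Scheme.pointSmallEtale ξ).toPresheafFiber_jointly_surjective t
  obtain ⟨O, hO, hvO⟩ : ∃ O : V.left.Opens, IsAffineOpen O ∧
      y.left.base (default : ↥(Spec (CommRingCat.of Ω))) ∈ O := by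
    obtain ⟨_, ⟨O, hO, rfl⟩, hvO, -⟩ := V.left.isBasis_affineOpens.exists_subset_of_mem_open
      (Set.mem_univ (y.left.base (default : ↥(Spec (CommRingCat.of Ω))))) isOpen_univ
    exact ⟨O, hO, hvO⟩
  haveI : IsAffine O.toScheme := hO
  haveI : Etale (O.ι ≫ V.hom) := inferInstance
  let V' : X.Etale := Scheme.Etale.mk (O.ι ≫ V.hom)
  let i : V' ⟶ V := MorphismProperty.Over.homMk O.ι rfl trivial
  obtain ⟨l, hl₁, hl₂⟩ := Scheme.exists_fac_of_etale_of_isSepClosed O.ι y.left
    (⟨y.left.base (default : ↥(Spec (CommRingCat.of Ω))), hvO⟩ : O.toScheme) rfl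
  have hw : l ≫ V'.hom = ξ := by
    show l ≫ O.ι ≫ V.hom = ξ
    rw [← Category.assoc, hl₁]
    exact Over.w y
  let y' : (Scheme.pointSmallEtale ξ).fiber.obj V' := Over.homMk l hw
  have hy' : (Scheme.pointSmallEtale ξ).fiber.map i y' = y := by
    apply Over.OverMorphism.ext
    exact hl₁
  refine ⟨V', hO, y', (F.obj.map i.op).hom s, ?_⟩
  have e1 : (Scheme.pointSmallEtale ξ).toPresheafFiber V' y' F.obj (F.obj.map i.op s) =
      (Scheme.pointSmallEtale ξ).toPresheafFiber V
        ((Scheme.pointSmallEtale ξ).fiber.map i y') F.obj s :=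
    (Scheme.pointSmallEtale ξ).toPresheafFiber_w_apply i y' F.obj s
  rw [hy'] at e1
  exact e1

end Cons

section Eval

variable {X : Scheme.{u}}

/-- evaluation of morphisms of sheaves on sections, as an additive map. -/
def evalHom (P Q : EtCoh.Ab X) (V : X.Etale) :
    (P ⟶ Q) →+ (P.obj.obj (op V) →+ Q.obj.obj (op V)) :=
  AddMonoidHom.mk' (fun f => (f.hom.app (op V)).hom) (fun f g => rfl)

theorem nsmul_app (P Q : EtCoh.Ab X) (V : X.Etale) (n : ℕ) (f : P ⟶ Q)
    (s : P.obj.obj (op V)) :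
    ((n • f).hom.app (op V)).hom s = n • (f.hom.app (op V)).hom s := by
  have h := congrArg (fun h => h s) (map_nsmul (evalHom P Q V) n f)
  exact h

end Eval

section Biprod

variable {X : Scheme.{u}} [CompactSpace X] [QuasiSeparatedSpace X]

theorem isConstructible_of_isZero {Z : EtCoh.Ab X} (hZ : IsZero Z) :
    EtPBC.IsConstructible Z := by
  haveI : CompactSpace (EtCoh.top X).left := ‹CompactSpace X›
  haveI : QuasiSeparatedSpace (EtCoh.top X).left := ‹QuasiSeparatedSpace X›
  have h0 := Groth.Agent.Lib.EtExtZ.main133 X (EtCoh.top X) (ZMod 1)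
  have h1 := (main31 (𝟙 (EtPBC.extZeroConst (EtCoh.top X) (ZMod 1))) h0 h0).1
  exact isConstructible_of_iso (IsZero.iso (isZero_kernel_of_mono _) hZ) h1

theorem isConstructible_biproduct_aux (ι : Type w) [Finite ι] :
    ∀ (f : ι → EtCoh.Ab X), (∀ i, EtPBC.IsConstructible (f i)) →
      EtPBC.IsConstructible (⨁ f) := by
  classical
  suffices H : ∀ [Finite ι] (f : ι → EtCoh.Ab X), (∀ i, EtPBC.IsConstructible (f i)) →
      EtPBC.IsConstructible (⨁ f) from fun f hf => H f hf
  refine Finite.induction_empty_option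
    (P := fun α => ∀ [Finite α] (f : α → EtCoh.Ab X), (∀ i, EtPBC.IsConstructible (f i)) →
      EtPBC.IsConstructible (⨁ f)) ?_ ?_ ?_ ι
  · intro α β e hα hβ f hf
    haveI : Finite α := Finite.of_equiv β e.symm
    exact isConstructible_of_iso (biproduct.whiskerEquiv (f := f ∘ e) (g := f) e (fun j => Iso.refl _))
      (hα (f ∘ e) (fun i => hf _))
  · intro _ f hf
    apply isConstructible_of_isZero
    rw [IsZero.iff_id_eq_zero]
    apply biproduct.hom_ext
    intro j
    exact j.elim
  · intro α _ hα _ f hf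
    let g : (⨁ f) ⟶ ⨁ (fun a : α => f (some a)) :=
      biproduct.lift (fun a : α => biproduct.π f (some a))
    let sg : (⨁ (fun a : α => f (some a))) ⟶ ⨁ f :=
      biproduct.desc (fun a : α => biproduct.ι f (some a))
    have hιg : ∀ a : α, biproduct.ι f (some a) ≫ g = biproduct.ι (fun a : α => f (some a)) a := by
      intro a
      apply biproduct.hom_ext
      intro b
      rw [Category.assoc, biproduct.lift_π, biproduct.ι_π, biproduct.ι_π]
      by_cases hab : a = b
      · subst hab
        simp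
      · have : some a ≠ some b := fun h => hab (Option.some.inj h)
        simp [hab, this]
    have hz : biproduct.ι f none ≫ g = 0 := by
      apply biproduct.hom_ext
      intro b
      rw [Category.assoc, biproduct.lift_π, zero_comp]
      exact biproduct.ι_π_ne f (by simp)
    let S : ShortComplex (EtCoh.Ab X) := ShortComplex.mk (biproduct.ι f none) g hz
    have spl : S.Splitting :=
      { r := biproduct.π f none
        s := sg
        f_r := biproduct.ι_π_self f none
        s_g := by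
          apply biproduct.hom_ext'
          intro a
          show biproduct.ι (fun a : α => f (some a)) a ≫ sg ≫ g =
            biproduct.ι (fun a : α => f (some a)) a ≫ 𝟙 (⨁ (fun a : α => f (some a)))
          rw [← Category.assoc, biproduct.ι_desc, hιg, Category.comp_id]
        id := by
          apply biproduct.hom_ext'
          intro j
          show biproduct.ι f j ≫ (biproduct.π f none ≫ biproduct.ι f none + g ≫ sg) =
            biproduct.ι f j ≫ 𝟙 _
          rw [Preadditive.comp_add, Category.comp_id]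
          cases j with
          | none =>
            rw [← Category.assoc, biproduct.ι_π_self, Category.id_comp, ← Category.assoc, hz,
              zero_comp, add_zero]
          | some a =>
            rw [← Category.assoc, biproduct.ι_π_ne f (by simp), zero_comp, zero_add,
              ← Category.assoc, hιg, biproduct.ι_desc] }
    exact main32 S spl.shortExact (hf none) (hα (fun a => f (some a)) (fun a => hf _))

theorem isConstructible_biproduct {ι : Type w} [Finite ι] (f : ι → EtCoh.Ab X)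
    (h : ∀ i, EtPBC.IsConstructible (f i)) : EtPBC.IsConstructible (⨁ f) :=
  isConstructible_biproduct_aux ι f h

end Biprod

end Groth.Agent.Lib.EtPres
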