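import Mathlib
import Groth.Agent.Lib.EtPres1_lead

/-!
# Presentation of constructible abelian étale sheaves by `j_! ℤ/n` (lead)

On a quasi-compact quasi-separated scheme every constructible sheaf killed by `n > 0` is a quotient
of a finite direct sum of sheaves `j_{U!} ℤ/n` with `U` affine étale, hence the cokernel of a map
between two such sums.
-/

set_option autoImplicit false
set_option linter.unusedSimpArgs false
set_option linter.unusedVariables false
set_option linter.unusedSectionVars false
set_option linter.style.longLine false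
set_option linter.unnecessarySimpa false
set_option linter.style.haveILetI false
set_option maxHeartbeats 1600000
set_option backward.isDefEq.respectTransparency false
set_option backward.isDefEq.respectTransparency.types false
set_option backward.defeqAttrib.useBackward true

open CategoryTheory CategoryTheory.Limits AlgebraicGeometry Opposite Topology TopologicalSpace

namespace Groth.Agent.Lib.EtPres

open Groth.Agent.Lib.EtPull Groth.Agent.Lib.EtCons Groth.Agent.Lib.EtLocConst
  Groth.Agent.Lib.EtSchSite_helper7 Groth.Agent.Lib.EtSchExact_helper7 Groth.Agent.Lib.EtSub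
  Groth.Agent.Lib.EtSupp Groth.Agent.Lib.EtExtZ

universe u

noncomputable section

variable {X : Scheme.{u}}

/-- the group `ℤ/n` in the universe of étale sheaves. -/
abbrev Lam (n : ℕ) : AddCommGrpCat.{u + 1} := AddCommGrpCat.of (ULift.{u + 1} (ZMod n))

/-- `j_{U!} ℤ/n`. -/
abbrev LZ (n : ℕ) (U : X.Etale) : EtCoh.Ab X := EtPBC.extZeroConst U (ZMod n)

section Phi

variable (n : ℕ) (F : EtCoh.Ab X) (U : X.Etale) (s : F.obj.obj (op U)) (hs : n • s = 0)

/-- `k ↦ k • s` as an element of the domain of `ZMod.lift`. -/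
def liftArg : {f : ℤ →+ F.obj.obj (op U) // f n = 0} :=
  ⟨zmultiplesHom _ s, by simpa using hs⟩

/-- the homomorphism `ℤ/n ⟶ F(U)`, `1 ↦ s`. -/
def secHom : Lam.{u} n ⟶ F.obj.obj (op U) :=
  AddCommGrpCat.ofHom ((ZMod.lift n (liftArg n F U s hs)).comp
    (AddEquiv.ulift.toAddMonoidHom))

theorem secHom_one : (secHom n F U s hs).hom (ULift.up 1) = s := by
  have h := ZMod.lift_coe n (liftArg n F U s hs) (1 : ℤ)
  rw [Int.cast_one] at h
  have h2 : (liftArg n F U s hs).val (1 : ℤ) = s := by
    show (zmultiplesHom _ s) (1 : ℤ) = s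
    simp
  exact h.trans h2

/-- the morphism `j_{U!} ℤ/n ⟶ F` attached to a section `s ∈ F(U)` killed by `n`. -/
def phi : LZ n U ⟶ F :=
  ((adjLU X.smallEtaleTopology AddCommGrpCat.{u + 1} U).homEquiv (Lam.{u} n) F).symm
    (secHom n F U s hs)

/-- the universal section of `j_{U!} ℤ/n` over `U`. -/
def univSec : (LZ n U).obj.obj (op U) :=
  ((adjLU X.smallEtaleTopology AddCommGrpCat.{u + 1} U).unit.app (Lam.{u} n)).hom (ULift.up 1)

theorem phi_univSec : ((phi n F U s hs).hom.app (op U)).hom (univSec n U) = s := by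
  have h1 := Equiv.apply_symm_apply
    ((adjLU X.smallEtaleTopology AddCommGrpCat.{u + 1} U).homEquiv (Lam.{u} n) F)
    (secHom n F U s hs)
  rw [Adjunction.homEquiv_unit] at h1
  have h2 := congrArg (fun m => m.hom (ULift.up 1)) h1
  exact h2.trans (secHom_one n F U s hs)

theorem germ_mem_range {Ω : Type u} [Field Ω] [IsSepClosed Ω] (ξ : Spec (CommRingCat.of Ω) ⟶ X)
    (y : (Scheme.pointSmallEtale ξ).fiber.obj U) :
    (EtCoh.stalk ξ).map (phi n F U s hs)
      ((Scheme.pointSmallEtale ξ).toPresheafFiber U y (LZ n U).obj (univSec n U)) =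
    (Scheme.pointSmallEtale ξ).toPresheafFiber U y F.obj s :=
  ((Scheme.pointSmallEtale ξ).toPresheafFiber_naturality_apply (phi n F U s hs).hom U y
    (univSec n U)).trans
    (congrArg (fun z => (Scheme.pointSmallEtale ξ).toPresheafFiber U y F.obj z)
      (phi_univSec n F U s hs))

end Phi

section Family

variable [CompactSpace X] [QuasiSeparatedSpace X]
  (n : ℕ) (hn : 0 < n) (F : EtCoh.Ab X) (hF : EtPBC.IsConstructible F)
  (hk : EtCoh.KilledBy n F)

/-- sections of `F` over affine étale `X`-schemes. -/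
abbrev Pt (F : EtCoh.Ab X) : Type (u + 1) :=
  {p : Σ U : X.Etale, F.obj.obj (op U) // IsAffine p.1.left}

/-- `⨁_{a ∈ A} j_{U_a !} ℤ/n`. -/
def PA (A : Finset (Pt F)) : EtCoh.Ab X := ⨁ (fun a : A => LZ n a.1.1.1)

/-- the map `⨁_{a ∈ A} j_{U_a !} ℤ/n ⟶ F` given by the sections `s_a`. -/
def phiA (A : Finset (Pt F)) : PA n F A ⟶ F :=
  biproduct.desc (fun a : A => phi n F a.1.1.1 a.1.1.2 (hk _ _))

include hn in
theorem isConstructible_LZ (U : X.Etale) [IsAffine U.left] :
    EtPBC.IsConstructible (LZ n U) := by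
  haveI : NeZero n := ⟨hn.ne'⟩
  exact main133 X U (ZMod n)

include hn in
theorem isConstructible_PA (A : Finset (Pt F)) : EtPBC.IsConstructible (PA n F A) := by
  apply isConstructible_biproduct
  intro a
  haveI : IsAffine a.1.1.1.left := a.1.2
  exact isConstructible_LZ n hn a.1.1.1

/-- the locus where `phiA A` is not surjective on stalks. -/
def EA (A : Finset (Pt F)) : Set X := EtPBC.supp (cokernel (phiA n F hk A))

include hn hF in
theorem isConstructible_coker (A : Finset (Pt F)) :
    EtPBC.IsConstructible (cokernel (phiA n F hk A)) :=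
  (main31 (phiA n F hk A) (isConstructible_PA n hn F A) hF).2

include hn hF in
theorem isConstructible_EA (A : Finset (Pt F)) : Topology.IsConstructible (EA n F hk A) :=
  isConstructible_supp _ (isConstructible_coker n hn F hF hk A)

theorem EA_anti {A B : Finset (Pt F)} (hAB : A ⊆ B) : EA n F hk B ⊆ EA n F hk A := by
  let incl : PA n F A ⟶ PA n F B :=
    biproduct.desc (fun a : A => biproduct.ι (fun b : B => LZ n b.1.1.1) ⟨a.1, hAB a.2⟩)
  have fac : incl ≫ phiA n F hk B = phiA n F hk A := by
    apply biproduct.hom_ext'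
    intro a
    rw [← Category.assoc, biproduct.ι_desc, phiA, biproduct.ι_desc, phiA, biproduct.ι_desc]
  let q : cokernel (phiA n F hk A) ⟶ cokernel (phiA n F hk B) :=
    cokernel.desc _ (cokernel.π (phiA n F hk B))
      (by rw [← fac, Category.assoc, cokernel.condition, comp_zero])
  haveI : Epi q := by
    haveI : Epi (cokernel.π (phiA n F hk A) ≫ q) := by
      rw [cokernel.π_desc]
      infer_instance
    exact epi_of_epi (cokernel.π (phiA n F hk A)) q
  rintro x ⟨Ω, iF, iS, ξ, hξ, hnz⟩
  refine ⟨Ω, iF, iS, ξ, hξ, fun hz => hnz ?_⟩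
  haveI : Epi ((EtCoh.stalk ξ).map q) := inferInstance
  exact IsZero.of_epi ((EtCoh.stalk ξ).map q) hz

include hn hF in
theorem exists_not_mem_EA (x : X) : ∃ A : Finset (Pt F), x ∉ EA n F hk A := by
  classical
  obtain ⟨Ω, iF, iS, ξ, hξ⟩ := exists_geometric_point X x
  have hd : ξ.base (default : ↥(Spec (CommRingCat.of Ω))) = x := base_default_of_range ξ hξ
  haveI := finite_stalk_of_constructible F hF ξ
  letI : Fintype (ToType ((EtCoh.stalk ξ).obj F)) := Fintype.ofFinite _
  choose V aff y s hs using fun t : ToType ((EtCoh.stalk ξ).obj F) => exists_affine_germ F ξ t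
  let pt : ToType ((EtCoh.stalk ξ).obj F) → Pt F := fun t => ⟨⟨V t, s t⟩, aff t⟩
  let A : Finset (Pt F) := Finset.univ.image pt
  refine ⟨A, ?_⟩
  have hsurj : Function.Surjective ((EtCoh.stalk ξ).map (phiA n F hk A)) := by
    intro t
    let a : A := ⟨pt t, Finset.mem_image_of_mem _ (Finset.mem_univ t)⟩
    have h1 : (EtCoh.stalk ξ).map (biproduct.ι (fun a : A => LZ n a.1.1.1) a) ≫
        (EtCoh.stalk ξ).map (phiA n F hk A) =
        (EtCoh.stalk ξ).map (phi n F (V t) (s t) (hk _ _)) := by
      rw [← Functor.map_comp, phiA, biproduct.ι_desc]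
    let g0 := (Scheme.pointSmallEtale ξ).toPresheafFiber (V t) (y t) (LZ n (V t)).obj
      (univSec n (V t))
    refine ⟨((EtCoh.stalk ξ).map (biproduct.ι (fun a : A => LZ n a.1.1.1) a)) g0, ?_⟩
    have h2 := congrArg (fun m => (ConcreteCategory.hom m) g0) h1
    exact h2.trans ((germ_mem_range n F (V t) (s t) (hk _ _) ξ (y t)).trans (hs t))
  have hz : IsZero ((EtCoh.stalk ξ).obj (cokernel (phiA n F hk A))) := by
    haveI : Epi ((EtCoh.stalk ξ).map (phiA n F hk A)) :=
      (AddCommGrpCat.epi_iff_surjective _).2 hsurj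
    exact IsZero.of_iso (isZero_cokernel_of_epi ((EtCoh.stalk ξ).map (phiA n F hk A)))
      (PreservesCokernel.iso (EtCoh.stalk ξ) (phiA n F hk A))
  have := not_mem_supp_of_isZero_stalk _ (isConstructible_coker n hn F hF hk A) ξ hz
  rw [hd] at this
  exact this

include hn hF in
/-- a constructible sheaf killed by `n` is a quotient of a finite sum of `j_! ℤ/n`'s. -/
theorem exists_epi_phiA : ∃ A : Finset (Pt F), Epi (phiA n F hk A) := by
  classical
  obtain ⟨t, ht⟩ := exists_finite_subcover_of_isConstructible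
    (fun A : Finset (Pt F) => (EA n F hk A)ᶜ)
    (fun A => (isConstructible_EA n hn F hF hk A).compl)
    (by
      apply Set.eq_univ_of_forall
      intro x
      obtain ⟨A, hA⟩ := exists_not_mem_EA n hn F hF hk x
      exact Set.mem_iUnion.mpr ⟨A, hA⟩)
  let B : Finset (Pt F) := t.sup id
  refine ⟨B, ?_⟩
  have hB : EA n F hk B = ∅ := by
    apply Set.eq_empty_of_forall_notMem
    intro x hx
    have hx' : x ∈ ⋃ A ∈ t, (EA n F hk A)ᶜ := by
      rw [ht]
      trivial
    obtain ⟨A, hAt, hxA⟩ := Set.mem_iUnion₂.mp hx'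
    exact hxA (EA_anti n F hk (Finset.le_sup (f := id) hAt) hx)
  have hz : IsZero (cokernel (phiA n F hk B)) := by
    apply isZero_of_stalks
    intro K _ _ ξ
    by_contra h
    have hx : ξ.base (default : ↥(Spec (CommRingCat.of K))) ∈ EA n F hk B :=
      ⟨K, inferInstance, inferInstance, ξ, range_geom ξ, h⟩
    rw [hB] at hx
    exact hx
  exact Preadditive.epi_of_isZero_cokernel _ hz

end Family

end

end Groth.Agent.Lib.EtPres
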