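import Mathlib
import Groth.Agent.Lib.EtPres2_lead

/-!
# Presentation of constructible abelian étale sheaves, II (lead)

`main138`: on a qcqs scheme a constructible sheaf killed by `n > 0` is the cokernel of a map between
finite sums of `j_{U!} ℤ/n`, `U` affine étale.  `main3508`: constructible iff such a cokernel (with
varying moduli).
-/

set_option autoImplicit false
set_option linter.unusedSimpArgs false
set_option linter.unusedVariables false
set_option linter.unusedSectionVars false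
set_option linter.style.longLine false
set_option linter.unnecessarySimpa false
set_option linter.style.haveILetI false
set_option maxHeartbeats 1600000
set_option backward.isDefEq.respectTransparency false
set_option backward.isDefEq.respectTransparency.types false
set_option backward.defeqAttrib.useBackward true

open CategoryTheory CategoryTheory.Limits AlgebraicGeometry Opposite Topology TopologicalSpace

namespace Groth.Agent.Lib.EtPres

open Groth.Agent.Lib.EtPull Groth.Agent.Lib.EtCons Groth.Agent.Lib.EtLocConst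
  Groth.Agent.Lib.EtSchSite_helper7 Groth.Agent.Lib.EtSchExact_helper7 Groth.Agent.Lib.EtSub
  Groth.Agent.Lib.EtSupp Groth.Agent.Lib.EtExtZ

universe u

noncomputable section

variable {X : Scheme.{u}}

section Killed

instance sectAdditive (U : X.Etale) :
    ((sheafSections X.smallEtaleTopology AddCommGrpCat.{u + 1}).obj (op U)).Additive where
  map_add := rfl

instance LU_additive (U : X.Etale) :
    (LU X.smallEtaleTopology AddCommGrpCat.{u + 1} U).Additive :=
  (adjLU X.smallEtaleTopology AddCommGrpCat.{u + 1} U).left_adjoint_additive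

theorem nsmul_id_Lam (n : ℕ) : n • 𝟙 (Lam.{u} n) = 0 := by
  apply AddCommGrpCat.hom_ext
  apply AddMonoidHom.ext
  intro x
  show n • x = 0
  apply ULift.ext
  show n • x.down = 0
  rw [nsmul_eq_mul, ZMod.natCast_self, zero_mul]

theorem nsmul_id_LZ (n : ℕ) (U : X.Etale) : n • 𝟙 (LZ n U) = 0 := by
  have h := congrArg (fun f => (LU X.smallEtaleTopology AddCommGrpCat.{u + 1} U).map f)
    (nsmul_id_Lam.{u} n)
  simp only [Functor.map_nsmul, Functor.map_zero, CategoryTheory.Functor.map_id] at h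
  exact h

theorem nsmul_id_biproduct {ι : Type*} [Finite ι] (n : ℕ) (f : ι → EtCoh.Ab X)
    (h : ∀ i, n • 𝟙 (f i) = 0) : n • 𝟙 (⨁ f) = 0 := by
  apply biproduct.hom_ext'
  intro i
  rw [Preadditive.comp_nsmul, Category.comp_id, comp_zero]
  have e : n • biproduct.ι f i = (n • 𝟙 (f i)) ≫ biproduct.ι f i := by
    rw [Preadditive.nsmul_comp, Category.id_comp]
  rw [e, h i, zero_comp]

theorem killedBy_of_nsmul_id (n : ℕ) (G : EtCoh.Ab X) (h : n • 𝟙 G = 0) :
    EtCoh.KilledBy n G := by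
  intro U s
  have h1 := nsmul_app G G U n (𝟙 G) s
  have h0 : (((0 : G ⟶ G)).hom.app (op U)).hom s = 0 :=
    congrArg (fun h => h s) (map_zero (evalHom G G U))
  rw [h] at h1
  exact h1.symm.trans h0

end Killed

section Main138

/-- finite-index version of `exists_epi_phiA`. -/
theorem exists_epi_fin [CompactSpace X] [QuasiSeparatedSpace X]
    (n : ℕ) (hn : 0 < n) (F : EtCoh.Ab X) (hF : EtPBC.IsConstructible F)
    (hk : EtCoh.KilledBy n F) :
    ∃ (m : ℕ) (U : Fin m → X.Etale) (_ : ∀ i, IsAffine (U i).left)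
      (φ : (⨁ fun i => LZ n (U i)) ⟶ F), Epi φ := by
  classical
  obtain ⟨A, hA⟩ := exists_epi_phiA n hn F hF hk
  let e : Fin A.card ≃ A := A.equivFin.symm
  refine ⟨A.card, fun i => (e i).1.1.1, fun i => (e i).1.2,
    (biproduct.whiskerEquiv (f := fun i => LZ n (e i).1.1.1)
      (g := fun a : A => LZ n a.1.1.1) e (fun _ => Iso.refl _)).hom ≫ phiA n F hk A, ?_⟩
  haveI := hA
  exact epi_comp _ _

theorem main138 [CompactSpace X] [QuasiSeparatedSpace X]
    (n : ℕ) (hn : 0 < n) (F : EtCoh.Ab X) (hF : EtPBC.IsConstructible F)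
    (hk : EtCoh.KilledBy n F) :
    ∃ (a b : ℕ) (V : Fin a → X.Etale) (U : Fin b → X.Etale) (_ : ∀ j, IsAffine (V j).left)
      (_ : ∀ i, IsAffine (U i).left)
      (φ : (⨁ fun j => EtPBC.extZeroConst (V j) (ZMod n)) ⟶
        ⨁ fun i => EtPBC.extZeroConst (U i) (ZMod n)),
      Nonempty (F ≅ cokernel φ) := by
  obtain ⟨b, U, hU, π, hπ⟩ := exists_epi_fin n hn F hF hk
  haveI := hπ
  have hP : EtPBC.IsConstructible (⨁ fun i => LZ n (U i)) :=
    isConstructible_biproduct _ (fun i => by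
      haveI := hU i
      exact isConstructible_LZ n hn (U i))
  have hK : EtPBC.IsConstructible (kernel π) := (main31 π hP hF).1
  have hPn : n • 𝟙 (⨁ fun i => LZ n (U i)) = 0 :=
    nsmul_id_biproduct n _ (fun i => nsmul_id_LZ n (U i))
  have hKn : n • 𝟙 (kernel π) = 0 := by
    rw [← cancel_mono (kernel.ι π), Preadditive.nsmul_comp, Category.id_comp, zero_comp]
    have e : n • kernel.ι π = kernel.ι π ≫ (n • 𝟙 _) := by
      rw [Preadditive.comp_nsmul, Category.comp_id]
    rw [e, hPn, comp_zero]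
  obtain ⟨a, V, hV, ψ, hψ⟩ :=
    exists_epi_fin n hn (kernel π) hK (killedBy_of_nsmul_id n _ hKn)
  haveI := hψ
  refine ⟨a, b, V, U, hV, hU, ψ ≫ kernel.ι π, ⟨?_⟩⟩
  have i1 : F ≅ cokernel (kernel.ι π) :=
    (Abelian.epiIsCokernelOfKernel _ (kernelIsKernel π)).coconePointUniqueUpToIso
      (colimit.isColimit (parallelPair (kernel.ι π) 0))
  exact i1 ≪≫ (cokernelEpiComp ψ (kernel.ι π)).symm

end Main138

section Torsion

instance stalk_additive {Ω : Type u} [Field Ω] [IsSepClosed Ω]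
    (ξ : Spec (CommRingCat.of Ω) ⟶ X) : (EtCoh.stalk ξ).Additive :=
  Functor.additive_of_preserves_binary_products _

theorem stalk_map_nsmul {Ω : Type u} [Field Ω] [IsSepClosed Ω]
    (ξ : Spec (CommRingCat.of Ω) ⟶ X) {P Q : EtCoh.Ab X} (m : ℕ) (f : P ⟶ Q) :
    (EtCoh.stalk ξ).map (m • f) = m • (EtCoh.stalk ξ).map f :=
  Functor.map_nsmul _

theorem epi_stalk_kernel_ι {Ω : Type u} [Field Ω] [IsSepClosed Ω]
    (ξ : Spec (CommRingCat.of Ω) ⟶ X) {P Q : EtCoh.Ab X} (f : P ⟶ Q)
    (h : (EtCoh.stalk ξ).map f = 0) : Epi ((EtCoh.stalk ξ).map (kernel.ι f)) := by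
  have hS := (ShortComplex.kernelSequence_exact f).map (EtCoh.stalk ξ)
  exact hS.epi_f h

/-- a morphism of étale sheaves all of whose stalk maps vanish is zero. -/
theorem eq_zero_of_stalks {P Q : EtCoh.Ab X} (f : P ⟶ Q)
    (h : ∀ (Ω : Type u) [Field Ω] [IsSepClosed Ω] (ξ : Spec (CommRingCat.of Ω) ⟶ X),
      (EtCoh.stalk ξ).map f = 0) : f = 0 := by
  haveI : Epi (kernel.ι f) := by
    rw [epi_iff]
    intro Ω _ _ ξ
    haveI := epi_stalk_kernel_ι ξ f (h Ω ξ)
    exact (AddCommGrpCat.epi_iff_surjective _).1 inferInstance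
  rw [← cancel_epi (kernel.ι f), kernel.condition, comp_zero]

/-- a constructible sheaf on a qcqs scheme is killed by a positive integer. -/
theorem exists_nsmul_id_eq_zero [CompactSpace X] [QuasiSeparatedSpace X] (F : EtCoh.Ab X)
    (hF : EtPBC.IsConstructible F) : ∃ N : ℕ, 0 < N ∧ N • 𝟙 F = 0 := by
  classical
  let mu : ℕ → (F ⟶ F) := fun m => (m + 1) • 𝟙 F
  let D : ℕ → EtCoh.Ab X := fun m => cokernel (kernel.ι (mu m))
  have hD : ∀ m, EtPBC.IsConstructible (D m) := fun m =>
    (main31 (kernel.ι (mu m)) (main31 (mu m) hF hF).1 hF).2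
  have hcov : (⋃ m, (EtPBC.supp (D m))ᶜ) = Set.univ := by
    apply Set.eq_univ_of_forall
    intro x
    obtain ⟨Ω, iF, iS, ξ, hξ⟩ := exists_geometric_point X x
    have hd : ξ.base (default : ↥(Spec (CommRingCat.of Ω))) = x := base_default_of_range ξ hξ
    haveI := finite_stalk_of_constructible F hF ξ
    have hc : 0 < Nat.card (ToType ((EtCoh.stalk ξ).obj F)) := Nat.card_pos
    obtain ⟨m, hm⟩ : ∃ m, m + 1 = Nat.card (ToType ((EtCoh.stalk ξ).obj F)) :=
      ⟨_, Nat.succ_pred_eq_of_pos hc⟩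
    refine Set.mem_iUnion.mpr ⟨m, ?_⟩
    have hz0 : (EtCoh.stalk ξ).map (mu m) = 0 := by
      show (EtCoh.stalk ξ).map ((m + 1) • 𝟙 F) = 0
      rw [stalk_map_nsmul, CategoryTheory.Functor.map_id, hm]
      apply AddCommGrpCat.hom_ext
      apply AddMonoidHom.ext
      intro t
      show Nat.card (ToType ((EtCoh.stalk ξ).obj F)) • t = 0
      exact card_nsmul_eq_zero'
    haveI := epi_stalk_kernel_ι ξ (mu m) hz0
    have hz : IsZero ((EtCoh.stalk ξ).obj (D m)) :=
      IsZero.of_iso (isZero_cokernel_of_epi ((EtCoh.stalk ξ).map (kernel.ι (mu m))))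
        (PreservesCokernel.iso (EtCoh.stalk ξ) (kernel.ι (mu m)))
    have := not_mem_supp_of_isZero_stalk _ (hD m) ξ hz
    rw [hd] at this
    exact this
  obtain ⟨t, ht⟩ := exists_finite_subcover_of_isConstructible
    (fun m : ℕ => (EtPBC.supp (D m))ᶜ)
    (fun m => (isConstructible_supp _ (hD m)).compl) hcov
  refine ⟨∏ m ∈ t, (m + 1), Finset.prod_pos (fun m _ => Nat.succ_pos m), ?_⟩
  apply eq_zero_of_stalks
  intro Ω _ _ ξ
  have hx : ξ.base (default : ↥(Spec (CommRingCat.of Ω))) ∈ ⋃ m ∈ t, (EtPBC.supp (D m))ᶜ := by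
    rw [ht]
    trivial
  obtain ⟨m, hmt, hxm⟩ := Set.mem_iUnion₂.mp hx
  have hz : IsZero ((EtCoh.stalk ξ).obj (D m)) := by
    by_contra hnz
    exact hxm ⟨Ω, inferInstance, inferInstance, ξ, range_geom ξ, hnz⟩
  have hz0 : (EtCoh.stalk ξ).map (mu m) = 0 := by
    haveI : Epi ((EtCoh.stalk ξ).map (kernel.ι (mu m))) := by
      apply Preadditive.epi_of_isZero_cokernel
      exact IsZero.of_iso hz (PreservesCokernel.iso (EtCoh.stalk ξ) (kernel.ι (mu m))).symm
    rw [← cancel_epi ((EtCoh.stalk ξ).map (kernel.ι (mu m))), ← Functor.map_comp,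
      kernel.condition, Functor.map_zero, comp_zero]
  obtain ⟨k, hk⟩ := Finset.dvd_prod_of_mem (fun m => m + 1) hmt
  rw [hk, mul_nsmul, stalk_map_nsmul]
  show k • (EtCoh.stalk ξ).map (mu m) = 0
  rw [hz0, smul_zero]

theorem main3508 (X : Scheme.{u}) [CompactSpace X] [QuasiSeparatedSpace X] (F : EtCoh.Ab X) :
    EtPBC.IsConstructible F ↔
      ∃ (a b : ℕ) (U : Fin a → X.Etale) (V : Fin b → X.Etale) (n : Fin a → ℕ) (m : Fin b → ℕ),
        (∀ i, 0 < n i ∧ IsAffine (U i).left) ∧ (∀ j, 0 < m j ∧ IsAffine (V j).left) ∧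
        ∃ φ : (⨁ fun j => EtPBC.extZeroConst (V j) (ZMod (m j))) ⟶
            (⨁ fun i => EtPBC.extZeroConst (U i) (ZMod (n i))),
          Nonempty (F ≅ cokernel φ) := by
  constructor
  · intro hF
    obtain ⟨N, hN, hNF⟩ := exists_nsmul_id_eq_zero F hF
    obtain ⟨a, b, V, U, hV, hU, φ, ⟨e⟩⟩ :=
      main138 N hN F hF (killedBy_of_nsmul_id N F hNF)
    exact ⟨b, a, U, V, fun _ => N, fun _ => N, fun i => ⟨hN, hU i⟩, fun j => ⟨hN, hV j⟩,
      φ, ⟨e⟩⟩
  · rintro ⟨a, b, U, V, n, m, hU, hV, φ, ⟨e⟩⟩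
    have h1 : EtPBC.IsConstructible (⨁ fun j => EtPBC.extZeroConst (V j) (ZMod (m j))) := by
      apply isConstructible_biproduct
      intro j
      haveI : NeZero (m j) := ⟨(hV j).1.ne'⟩
      haveI : IsAffine (V j).left := (hV j).2
      exact main133 X (V j) (ZMod (m j))
    have h2 : EtPBC.IsConstructible (⨁ fun i => EtPBC.extZeroConst (U i) (ZMod (n i))) := by
      apply isConstructible_biproduct
      intro i
      haveI : NeZero (n i) := ⟨(hU i).1.ne'⟩
      haveI : IsAffine (U i).left := (hU i).2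
      exact main133 X (U i) (ZMod (n i))
    exact isConstructible_of_iso e.symm ((main31 φ h1 h2).2)

end Torsion

end

end Groth.Agent.Lib.EtPres
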