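import Mathlib
import Groth.Agent.Lib.EtPres3_lead

/-!
# Torsion étale sheaves are filtered colimits of constructible sheaves (lead)

For `X` qcqs and `F` a torsion abelian sheaf on `X_ét`, the category `Idx F` of presented constructible
sheaves over `F` is filtered, (u+1)-small, and `F` is the colimit of the forgetful diagram.
-/

set_option autoImplicit false
set_option linter.unusedSimpArgs false
set_option linter.unusedVariables false
set_option linter.unusedSectionVars false
set_option linter.style.longLine false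
set_option linter.unnecessarySimpa false
set_option linter.style.haveILetI false
set_option maxHeartbeats 1600000
set_option backward.isDefEq.respectTransparency false
set_option backward.isDefEq.respectTransparency.types false
set_option backward.defeqAttrib.useBackward true

open CategoryTheory CategoryTheory.Limits AlgebraicGeometry Opposite Topology TopologicalSpace

namespace Groth.Agent.Lib.EtInd

open Groth.Agent.Lib.EtPull Groth.Agent.Lib.EtCons Groth.Agent.Lib.EtLocConst
  Groth.Agent.Lib.EtSchSite_helper7 Groth.Agent.Lib.EtSchExact_helper7 Groth.Agent.Lib.EtSub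
  Groth.Agent.Lib.EtSupp Groth.Agent.Lib.EtExtZ Groth.Agent.Lib.EtPres

universe u

noncomputable section

variable {X : Scheme.{u}}

section Germ

variable {Ω : Type u} [Field Ω] [IsSepClosed Ω] (ξ : Spec (CommRingCat.of Ω) ⟶ X)

/-- shrink an étale neighbourhood of a geometric point to an affine one. -/
theorem exists_affine_refine (V : X.Etale) (y : (Scheme.pointSmallEtale ξ).fiber.obj V) :
    ∃ (V' : X.Etale) (_ : IsAffine V'.left) (i : V' ⟶ V)
      (y' : (Scheme.pointSmallEtale ξ).fiber.obj V'),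
      (Scheme.pointSmallEtale ξ).fiber.map i y' = y := by
  obtain ⟨O, hO, hvO⟩ : ∃ O : V.left.Opens, IsAffineOpen O ∧
      y.left.base (default : ↥(Spec (CommRingCat.of Ω))) ∈ O := by
    obtain ⟨_, ⟨O, hO, rfl⟩, hvO, -⟩ := V.left.isBasis_affineOpens.exists_subset_of_mem_open
      (Set.mem_univ (y.left.base (default : ↥(Spec (CommRingCat.of Ω))))) isOpen_univ
    exact ⟨O, hO, hvO⟩
  haveI : IsAffine O.toScheme := hO
  haveI : Etale (O.ι ≫ V.hom) := inferInstance
  let V' : X.Etale := Scheme.Etale.mk (O.ι ≫ V.hom)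
  let i : V' ⟶ V := MorphismProperty.Over.homMk O.ι rfl trivial
  obtain ⟨l, hl₁, hl₂⟩ := Scheme.exists_fac_of_etale_of_isSepClosed O.ι y.left
    (⟨y.left.base (default : ↥(Spec (CommRingCat.of Ω))), hvO⟩ : O.toScheme) rfl
  have hw : l ≫ V'.hom = ξ := by
    show l ≫ O.ι ≫ V.hom = ξ
    rw [← Category.assoc, hl₁]
    exact Over.w y
  let y' : (Scheme.pointSmallEtale ξ).fiber.obj V' := Over.homMk l hw
  have hy' : (Scheme.pointSmallEtale ξ).fiber.map i y' = y := by
    apply Over.OverMorphism.ext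
    exact hl₁
  exact ⟨V', hO, i, y', hy'⟩

/-- lift a geometric point along a morphism of étale `X`-schemes hitting its image. -/
theorem exists_lift_fiber {V U : X.Etale} (g : V ⟶ U)
    (y : (Scheme.pointSmallEtale ξ).fiber.obj U) (v : V.left)
    (hv : g.left.base v = y.left.base (default : ↥(Spec (CommRingCat.of Ω)))) :
    ∃ y' : (Scheme.pointSmallEtale ξ).fiber.obj V,
      (Scheme.pointSmallEtale ξ).fiber.map g y' = y := by
  obtain ⟨l, hl₁, hl₂⟩ := Scheme.exists_fac_of_etale_of_isSepClosed g.left y.left v hv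
  have e : g.left ≫ U.hom = V.hom := by rw [CategoryTheory.Over.w]
  have hw : l ≫ V.hom = ξ := by
    rw [← e, ← Category.assoc, hl₁]
    exact Over.w y
  refine ⟨Over.homMk l hw, ?_⟩
  apply Over.OverMorphism.ext
  exact hl₁

/-- a section with vanishing germ vanishes on an affine étale neighbourhood. -/
theorem exists_affine_vanish (F : EtCoh.Ab X) (V : X.Etale)
    (y : (Scheme.pointSmallEtale ξ).fiber.obj V) (s : F.obj.obj (op V))
    (h : (Scheme.pointSmallEtale ξ).toPresheafFiber V y F.obj s = 0) :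
    ∃ (V' : X.Etale) (_ : IsAffine V'.left) (i : V' ⟶ V)
      (y' : (Scheme.pointSmallEtale ξ).fiber.obj V'),
      (Scheme.pointSmallEtale ξ).fiber.map i y' = y ∧ (F.obj.map i.op).hom s = 0 := by
  have h0 : (Scheme.pointSmallEtale ξ).toPresheafFiber V y F.obj s =
      (Scheme.pointSmallEtale ξ).toPresheafFiber V y F.obj 0 := by
    rw [h]
    exact (map_zero _).symm
  obtain ⟨Y, f, y0, hf, hs⟩ :=
    ((Scheme.pointSmallEtale ξ).toPresheafFiber_eq_iff' V y s 0).1 h0
  obtain ⟨V', hV', i, y', hy'⟩ := exists_affine_refine ξ Y y0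
  refine ⟨V', hV', i ≫ f, y', ?_, ?_⟩
  · rw [FunctorToTypes.map_comp_apply, hy', hf]
  · have e1 : (F.obj.map (i ≫ f).op).hom s = (F.obj.map i.op).hom ((F.obj.map f.op).hom s) := by
      rw [op_comp, Functor.map_comp]
      rfl
    have e2 : (F.obj.map f.op).hom s = 0 := by
      have := hs
      rw [map_zero] at this
      exact this
    rw [e1, e2, map_zero]

/-- maps out of `j_{U!} ℤ/n` are determined by the image of the universal section. -/
theorem LZ_hom_ext (n : ℕ) (U : X.Etale) (F : EtCoh.Ab X) (f f' : LZ n U ⟶ F)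
    (h : (f.hom.app (op U)).hom (univSec n U) = (f'.hom.app (op U)).hom (univSec n U)) :
    f = f' := by
  apply ((adjLU X.smallEtaleTopology AddCommGrpCat.{u + 1} U).homEquiv (Lam.{u} n) F).injective
  rw [Adjunction.homEquiv_unit, Adjunction.homEquiv_unit]
  apply AddCommGrpCat.hom_ext
  apply AddMonoidHom.ext
  intro x
  obtain ⟨k, hk⟩ : ∃ k : ℤ, x = k • (ULift.up 1 : ULift.{u + 1} (ZMod n)) := by
    obtain ⟨k, hk⟩ := ZMod.intCast_surjective x.down
    refine ⟨k, ?_⟩
    apply ULift.ext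
    show x.down = k • (1 : ZMod n)
    rw [zsmul_one, hk]
  rw [hk, map_zsmul, map_zsmul]
  congr 1

end Germ

section Kill

variable [CompactSpace X] [QuasiSeparatedSpace X]

theorem isConstructible_biprod {A B : EtCoh.Ab X} (hA : EtPBC.IsConstructible A)
    (hB : EtPBC.IsConstructible B) : EtPBC.IsConstructible (A ⊞ B) :=
  main32 _ (ShortComplex.Splitting.ofHasBinaryBiproduct A B).shortExact hA hB

/-- an element of the stalk of a constructible `G` dying in `F` is killed by a constructible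
quotient of `G` over `F`. -/
theorem exists_kill {Ω : Type u} [Field Ω] [IsSepClosed Ω] (ξ : Spec (CommRingCat.of Ω) ⟶ X)
    {G F : EtCoh.Ab X} (hG : EtPBC.IsConstructible G) (g : G ⟶ F)
    (x : ToType ((EtCoh.stalk ξ).obj G)) (hx : (EtCoh.stalk ξ).map g x = 0) :
    ∃ (G' : EtCoh.Ab X) (_ : EtPBC.IsConstructible G') (q : G ⟶ G') (g' : G' ⟶ F),
      q ≫ g' = g ∧ (EtCoh.stalk ξ).map q x = 0 := by
  obtain ⟨V, hV, y, p, rfl⟩ := exists_affine_germ G ξ x
  have h1 : (Scheme.pointSmallEtale ξ).toPresheafFiber V y F.obj ((g.hom.app (op V)).hom p) = 0 :=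
    ((Scheme.pointSmallEtale ξ).toPresheafFiber_naturality_apply g.hom V y p).symm.trans hx
  obtain ⟨V', hV', i, y', hy', hz⟩ := exists_affine_vanish ξ F V y _ h1
  haveI := hV'
  obtain ⟨N, hN, hNG⟩ := exists_nsmul_id_eq_zero G hG
  have hk := killedBy_of_nsmul_id N G hNG
  let p' : G.obj.obj (op V') := (G.obj.map i.op).hom p
  let ϕ : LZ N V' ⟶ G := phi N G V' p' (hk _ _)
  have hϕ : ((ϕ.hom.app (op V')).hom (univSec N V')) = p' := phi_univSec N G V' p' (hk _ _)
  have hgp' : (g.hom.app (op V')).hom p' = 0 := by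
    have nat := congrArg (fun m => m.hom p) (g.hom.naturality i.op)
    exact nat.trans hz
  have hϕg : ϕ ≫ g = 0 := by
    apply LZ_hom_ext
    show (g.hom.app (op V')).hom ((ϕ.hom.app (op V')).hom (univSec N V')) =
      ((0 : LZ N V' ⟶ F).hom.app (op V')).hom (univSec N V')
    rw [hϕ, hgp']
    exact (congrArg (fun h => h (univSec N V')) (map_zero (evalHom (LZ N V') F V'))).symm
  refine ⟨cokernel ϕ, (main31 ϕ (isConstructible_LZ N hN V') hG).2, cokernel.π ϕ,
    cokernel.desc ϕ g hϕg, cokernel.π_desc _ _ _, ?_⟩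
  have e1 : (Scheme.pointSmallEtale ξ).toPresheafFiber V y G.obj p =
      (Scheme.pointSmallEtale ξ).toPresheafFiber V' y' G.obj p' := by
    have := (Scheme.pointSmallEtale ξ).toPresheafFiber_w_apply i y' G.obj p
    rw [hy'] at this
    exact this.symm
  rw [e1]
  have e2 := (Scheme.pointSmallEtale ξ).toPresheafFiber_naturality_apply
    (cokernel.π ϕ).hom V' y' p'
  refine e2.trans ?_
  have e3 : ((cokernel.π ϕ).hom.app (op V')).hom p' = 0 := by
    rw [← hϕ]
    show (((ϕ ≫ cokernel.π ϕ)).hom.app (op V')).hom (univSec N V') = 0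
    rw [cokernel.condition]
    exact congrArg (fun h => h (univSec N V')) (map_zero (evalHom (LZ N V') (cokernel ϕ) V'))
  have e4 : (Scheme.pointSmallEtale ξ).toPresheafFiber V' y' (cokernel ϕ).obj
      (((cokernel.π ϕ).hom.app (op V')).hom p') = 0 := by
    rw [e3]
    exact map_zero _
  exact e4

end Kill

/-- small parametrisation of constructible sheaves by presentations. -/
structure Pres (X : Scheme.{u}) : Type (u + 1) where
  a : ℕ
  b : ℕ
  U : Fin a → X.Etale
  V : Fin b → X.Etale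
  n : Fin a → ℕ
  m : Fin b → ℕ
  hU : ∀ i, 0 < n i ∧ IsAffine (U i).left
  hV : ∀ j, 0 < m j ∧ IsAffine (V j).left
  φ : (⨁ fun j => EtPBC.extZeroConst (V j) (ZMod (m j))) ⟶
    (⨁ fun i => EtPBC.extZeroConst (U i) (ZMod (n i)))

/-- the sheaf presented by `P`. -/
def Pres.sheaf (P : Pres X) : EtCoh.Ab X := cokernel P.φ

section Index

variable [CompactSpace X] [QuasiSeparatedSpace X]

theorem Pres.isConstructible (P : Pres X) : EtPBC.IsConstructible P.sheaf :=
  (main3508 X P.sheaf).2 ⟨P.a, P.b, P.U, P.V, P.n, P.m, P.hU, P.hV, P.φ, ⟨Iso.refl _⟩⟩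

theorem exists_pres (G : EtCoh.Ab X) (hG : EtPBC.IsConstructible G) :
    ∃ P : Pres X, Nonempty (P.sheaf ≅ G) := by
  obtain ⟨a, b, U, V, n, m, hU, hV, φ, ⟨e⟩⟩ := (main3508 X G).1 hG
  exact ⟨⟨a, b, U, V, n, m, hU, hV, φ⟩, ⟨e.symm⟩⟩

end Index

/-- the index category: presented constructible sheaves over `F`. -/
structure Idx (F : EtCoh.Ab X) : Type (u + 1) where
  P : Pres X
  hom : P.sheaf ⟶ F

instance idxCategory (F : EtCoh.Ab X) : Category.{u + 1} (Idx F) where
  Hom j j' := {f : j.P.sheaf ⟶ j'.P.sheaf // f ≫ j'.hom = j.hom}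
  id j := ⟨𝟙 _, Category.id_comp _⟩
  comp f g := ⟨f.1 ≫ g.1, by rw [Category.assoc, g.2, f.2]⟩
  id_comp f := Subtype.ext (Category.id_comp _)
  comp_id f := Subtype.ext (Category.comp_id _)
  assoc f g h := Subtype.ext (Category.assoc _ _ _)

/-- the forgetful diagram. -/
def Dfun (F : EtCoh.Ab X) : Idx F ⥤ EtCoh.Ab X where
  obj j := j.P.sheaf
  map f := f.1
  map_id _ := rfl
  map_comp _ _ := rfl

/-- the tautological cocone with point `F`. -/
def cocone (F : EtCoh.Ab X) : Cocone (Dfun F) where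
  pt := F
  ι :=
    { app := fun j => j.hom
      naturality := fun j j' f => by
        show f.1 ≫ j'.hom = j.hom ≫ 𝟙 F
        rw [Category.comp_id, f.2] }

section Filtered

variable [CompactSpace X] [QuasiSeparatedSpace X]

theorem exists_idx (F : EtCoh.Ab X) {G : EtCoh.Ab X} (hG : EtPBC.IsConstructible G)
    (g : G ⟶ F) : ∃ (j : Idx F) (e : j.P.sheaf ≅ G), e.hom ≫ g = j.hom := by
  obtain ⟨P, ⟨e⟩⟩ := exists_pres G hG
  exact ⟨⟨P, e.hom ≫ g⟩, e, rfl⟩

instance idx_isFilteredOrEmpty (F : EtCoh.Ab X) : IsFilteredOrEmpty (Idx F) where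
  cocone_objs j j' := by
    obtain ⟨k, e, he⟩ := exists_idx F
      (isConstructible_biprod j.P.isConstructible j'.P.isConstructible) (biprod.desc j.hom j'.hom)
    refine ⟨k, ⟨biprod.inl ≫ e.inv, ?_⟩, ⟨biprod.inr ≫ e.inv, ?_⟩, trivial⟩
    · rw [← he, Category.assoc, e.inv_hom_id_assoc, biprod.inl_desc]
    · rw [← he, Category.assoc, e.inv_hom_id_assoc, biprod.inr_desc]
  cocone_maps j j' f f' := by
    have hz : (f.1 - f'.1) ≫ j'.hom = 0 := by
      rw [Preadditive.sub_comp, f.2, f'.2, sub_self]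
    obtain ⟨k, e, he⟩ := exists_idx F
      ((main31 (f.1 - f'.1) j.P.isConstructible j'.P.isConstructible).2)
      (cokernel.desc _ j'.hom hz)
    refine ⟨k, ⟨cokernel.π _ ≫ e.inv, ?_⟩, ?_⟩
    · rw [← he, Category.assoc, e.inv_hom_id_assoc, cokernel.π_desc]
    · apply Subtype.ext
      have hc := cokernel.condition (f.1 - f'.1)
      rw [Preadditive.sub_comp, sub_eq_zero] at hc
      show f.1 ≫ cokernel.π _ ≫ e.inv = f'.1 ≫ cokernel.π _ ≫ e.inv
      rw [← Category.assoc, hc, Category.assoc]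

instance idx_nonempty (F : EtCoh.Ab X) : Nonempty (Idx F) := by
  obtain ⟨k, e, he⟩ := exists_idx F (isConstructible_of_isZero (isZero_kernel_of_mono (𝟙 F)))
    (kernel.ι (𝟙 F))
  exact ⟨k⟩

instance idx_isFiltered (F : EtCoh.Ab X) : IsFiltered (Idx F) := {}

end Filtered

section Colimit

variable [CompactSpace X] [QuasiSeparatedSpace X]

theorem epi_desc (F : EtCoh.Ab X) (hF : EtCoh.IsTorsion F) :
    Epi (colimit.desc (Dfun F) (cocone F)) := by
  rw [epi_iff]
  intro Ω _ _ ξ t
  obtain ⟨U, hU, y, s, rfl⟩ := exists_affine_germ F ξ t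
  obtain ⟨V, g, ⟨v, hv⟩, hfin⟩ := hF U s (y.left.base (default : ↥(Spec (CommRingCat.of Ω))))
  obtain ⟨y1, hy1⟩ := exists_lift_fiber ξ g y v hv
  obtain ⟨V', hV', i, y', hy'⟩ := exists_affine_refine ξ V y1
  haveI := hV'
  obtain ⟨n, hn, hns⟩ := (isOfFinAddOrder_iff_nsmul_eq_zero).1 hfin
  have hns' : n • (F.obj.map g.op).hom s = 0 := hns
  let s' : F.obj.obj (op V') := (F.obj.map (i ≫ g).op).hom s
  have hs' : n • s' = 0 := by
    show n • (F.obj.map (i ≫ g).op).hom s = 0
    have e1 : (F.obj.map (i ≫ g).op).hom s = (F.obj.map i.op).hom ((F.obj.map g.op).hom s) := by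
      rw [op_comp, Functor.map_comp]
      rfl
    rw [e1, ← map_nsmul, hns', map_zero]
  have hgerm : (Scheme.pointSmallEtale ξ).toPresheafFiber V' y' F.obj s' =
      (Scheme.pointSmallEtale ξ).toPresheafFiber U y F.obj s := by
    have := (Scheme.pointSmallEtale ξ).toPresheafFiber_w_apply (i ≫ g) y' F.obj s
    have hyy : (Scheme.pointSmallEtale ξ).fiber.map (i ≫ g) y' = y := by
      rw [FunctorToTypes.map_comp_apply, hy', hy1]
    rw [hyy] at this
    exact this
  let ϕ : LZ n V' ⟶ F := phi n F V' s' hs'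
  obtain ⟨j, e, he⟩ := exists_idx F (isConstructible_LZ n hn V') ϕ
  let w0 := (Scheme.pointSmallEtale ξ).toPresheafFiber V' y' (LZ n V').obj (univSec n V')
  refine ⟨(EtCoh.stalk ξ).map (colimit.ι (Dfun F) j) ((EtCoh.stalk ξ).map e.inv w0), ?_⟩
  have hcomp : e.inv ≫ colimit.ι (Dfun F) j ≫ colimit.desc (Dfun F) (cocone F) = ϕ := by
    rw [colimit.ι_desc]
    show e.inv ≫ j.hom = ϕ
    rw [← he, e.inv_hom_id_assoc]
  have h2 : (EtCoh.stalk ξ).map (colimit.desc (Dfun F) (cocone F))
      ((EtCoh.stalk ξ).map (colimit.ι (Dfun F) j) ((EtCoh.stalk ξ).map e.inv w0)) =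
      (EtCoh.stalk ξ).map ϕ w0 := by
    rw [← hcomp, Functor.map_comp, Functor.map_comp]
    rfl
  exact h2.trans ((germ_mem_range n F V' s' hs' ξ y').trans hgerm)

theorem mono_desc (F : EtCoh.Ab X) : Mono (colimit.desc (Dfun F) (cocone F)) := by
  rw [mono_iff]
  intro Ω _ _ ξ
  refine (injective_iff_map_eq_zero
    ((EtCoh.stalk ξ).map (colimit.desc (Dfun F) (cocone F))).hom).2 ?_
  intro z hz
  have hcol := isColimitOfPreserves (EtCoh.stalk ξ) (colimit.isColimit (Dfun F))
  obtain ⟨j, x, rfl⟩ := Concrete.isColimit_exists_rep (Dfun F ⋙ EtCoh.stalk ξ) hcol z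
  have hx : (EtCoh.stalk ξ).map j.hom x = 0 := by
    have e : colimit.ι (Dfun F) j ≫ colimit.desc (Dfun F) (cocone F) = j.hom :=
      colimit.ι_desc _ _
    rw [← e, Functor.map_comp]
    exact hz
  obtain ⟨G', hG', q, g', hq, hqx⟩ := exists_kill ξ j.P.isConstructible j.hom x hx
  obtain ⟨k, e, he⟩ := exists_idx F hG' g'
  let f : j ⟶ k := ⟨q ≫ e.inv, by rw [Category.assoc, ← he, e.inv_hom_id_assoc, hq]⟩
  have hw : (Dfun F).map f ≫ colimit.ι (Dfun F) k = colimit.ι (Dfun F) j :=
    colimit.w (Dfun F) f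
  show (EtCoh.stalk ξ).map (colimit.ι (Dfun F) j) x = 0
  rw [← hw, Functor.map_comp]
  show (EtCoh.stalk ξ).map (colimit.ι (Dfun F) k) ((EtCoh.stalk ξ).map (q ≫ e.inv) x) = 0
  rw [Functor.map_comp]
  show (EtCoh.stalk ξ).map (colimit.ι (Dfun F) k)
    ((EtCoh.stalk ξ).map e.inv ((EtCoh.stalk ξ).map q x)) = 0
  rw [hqx, map_zero, map_zero]

/-- `F` is the colimit of the constructible sheaves over it. -/
def isColimitCocone (F : EtCoh.Ab X) (hF : EtCoh.IsTorsion F) : IsColimit (cocone F) := by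
  haveI := epi_desc F hF
  haveI := mono_desc F
  haveI : IsIso (colimit.desc (Dfun F) (cocone F)) := isIso_of_mono_of_epi _
  haveI : IsIso ((colimit.isColimit (Dfun F)).desc (cocone F)) := this
  exact IsColimit.ofPointIso (colimit.isColimit (Dfun F))

theorem main0134 (X : Scheme.{u}) [CompactSpace X] [QuasiSeparatedSpace X]
    (F : EtCoh.Ab X) (hF : EtCoh.IsTorsion F) :
    ∃ (J : Type (u + 1)) (_ : SmallCategory J) (_ : IsFiltered J) (D : J ⥤ EtCoh.Ab X)
      (c : Cocone D) (_ : IsColimit c),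
      (∀ j, EtPBC.IsConstructible (D.obj j)) ∧ Nonempty (c.pt ≅ F) :=
  ⟨Idx F, idxCategory F, inferInstance, Dfun F, cocone F, isColimitCocone F hF,
    fun j => j.P.isConstructible, ⟨Iso.refl _⟩⟩

theorem main13501 (X : Scheme.{u}) [CompactSpace X] [QuasiSeparatedSpace X]
    (F : EtCoh.Ab X) (hF : EtCoh.IsTorsion F)
    (hc : ∀ (J : Type (u + 1)) [SmallCategory J] [IsFiltered J],
      PreservesColimitsOfShape J (coyoneda.obj (op F))) :
    EtPBC.IsConstructible F := by
  haveI := hc (Idx F)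
  have hcol : IsColimit ((coyoneda.obj (op F)).mapCocone (cocone F)) :=
    isColimitOfPreserves _ (isColimitCocone F hF)
  obtain ⟨j, g0, hg⟩ := Types.jointly_surjective_of_isColimit hcol (𝟙 F)
  let g : F ⟶ j.P.sheaf := g0
  have hg' : g ≫ j.hom = 𝟙 F := hg
  let r : j.P.sheaf ⟶ F := j.hom
  let ε : j.P.sheaf ⟶ j.P.sheaf := 𝟙 _ - r ≫ g
  have h1 : g ≫ ε = 0 := by
    show g ≫ (𝟙 _ - r ≫ g) = 0
    rw [Preadditive.comp_sub, Category.comp_id, ← Category.assoc, hg', Category.id_comp, sub_self]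
  have hker : EtPBC.IsConstructible (kernel ε) :=
    (main31 ε j.P.isConstructible j.P.isConstructible).1
  have hab : kernel.lift ε g h1 ≫ kernel.ι ε ≫ r = 𝟙 F := by
    rw [← Category.assoc, kernel.lift_ι, hg']
  have hba : (kernel.ι ε ≫ r) ≫ kernel.lift ε g h1 = 𝟙 _ := by
    rw [← cancel_mono (kernel.ι ε), Category.assoc, kernel.lift_ι, Category.id_comp]
    have hc' : kernel.ι ε ≫ (𝟙 _ - r ≫ g) = 0 := kernel.condition ε
    rw [Preadditive.comp_sub, Category.comp_id, sub_eq_zero] at hc'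
    rw [Category.assoc]
    exact hc'.symm
  exact isConstructible_of_iso
    (⟨kernel.ι ε ≫ r, kernel.lift ε g h1, hba, hab⟩ : kernel ε ≅ F) hker

end Colimit

end

end Groth.Agent.Lib.EtInd
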