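import Mathlib
import Groth.Agent.Lib.EtInd1_lead
import Groth.Agent.Lib.EtColimSec2_helper8

/-!
# Constructible étale sheaves are compact objects (lead)

On a qcqs scheme, `Hom(F, -)` commutes with filtered colimits for `F` constructible; consequently a
filtered system of constructible sheaves with constructible colimit is essentially constant.
-/

set_option autoImplicit false
set_option linter.unusedSimpArgs false
set_option linter.unusedVariables false
set_option linter.unusedSectionVars false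
set_option linter.style.longLine false
set_option linter.unnecessarySimpa false
set_option linter.style.haveILetI false
set_option maxHeartbeats 1600000
set_option backward.isDefEq.respectTransparency false
set_option backward.isDefEq.respectTransparency.types false
set_option backward.defeqAttrib.useBackward true

open CategoryTheory CategoryTheory.Limits AlgebraicGeometry Opposite Topology TopologicalSpace

namespace Groth.Agent.Lib.EtInd

open Groth.Agent.Lib.EtPull Groth.Agent.Lib.EtCons Groth.Agent.Lib.EtLocConst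
  Groth.Agent.Lib.EtSchSite_helper7 Groth.Agent.Lib.EtSchExact_helper7 Groth.Agent.Lib.EtSub
  Groth.Agent.Lib.EtSupp Groth.Agent.Lib.EtExtZ Groth.Agent.Lib.EtPres
  Groth.Agent.Lib.EtColimSecH8

universe u

noncomputable section

variable {X : Scheme.{u}}

/-- a final functor from a directed preorder living in the universe of the sheaf category. -/
theorem exists_directed_final (J : Type u) [SmallCategory J] [IsFiltered J] :
    ∃ (ι : Type (u + 1)) (_ : Preorder ι) (_ : IsDirected ι (· ≤ ·)) (_ : Nonempty ι)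
      (G : ι ⥤ J), G.Final := by
  obtain ⟨α, hα, hd, hne, G, hG⟩ := IsFiltered.exists_directed J
  letI := hα
  haveI := hd
  haveI := hne
  haveI := hG
  haveI : IsDirected (ULift.{u + 1} α) (· ≤ ·) :=
    ⟨fun a b => by
      obtain ⟨c, h1, h2⟩ := exists_ge_ge a.down b.down
      exact ⟨ULift.up c, h1, h2⟩⟩
  let Dn : ULift.{u + 1} α ⥤ α := Monotone.functor (f := ULift.down) (fun _ _ h => h)
  haveI : Dn.Final := by
    apply Functor.final_of_exists_of_isFiltered
    · intro d
      exact ⟨ULift.up d, ⟨𝟙 _⟩⟩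
    · intro d c s s'
      exact ⟨c, 𝟙 _, Subsingleton.elim _ _⟩
  exact ⟨ULift.{u + 1} α, inferInstance, inferInstance, inferInstance, Dn ⋙ G, inferInstance⟩

section Sec

variable {J : Type u} [SmallCategory J] [IsFiltered J] (K : J ⥤ EtCoh.Ab X) (c : Cocone K)
  (hc : IsColimit c)

include hc in
/-- sections over an affine object of a filtered colimit come from a stage. -/
theorem sec_surj (U : X.Etale) [IsAffine U.left] (t : c.pt.obj.obj (op U)) :
    ∃ (j : J) (s : (K.obj j).obj.obj (op U)), ((c.ι.app j).hom.app (op U)).hom s = t := by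
  obtain ⟨ι, _, _, _, G, hG⟩ := exists_directed_final J
  haveI := hG
  have hc' : IsColimit (c.whisker G) := (Functor.Final.isColimitWhiskerEquiv G c).symm hc
  obtain ⟨i, s, hs⟩ := aff_surj (G ⋙ K) (c.whisker G) hc' U t
  exact ⟨G.obj i, s, hs⟩

include hc in
/-- a section over an affine object dying in a filtered colimit dies at a later stage. -/
theorem sec_inj (U : X.Etale) [IsAffine U.left] (j : J) (s : (K.obj j).obj.obj (op U))
    (h : ((c.ι.app j).hom.app (op U)).hom s = 0) :
    ∃ (k : J) (f : j ⟶ k), ((K.map f).hom.app (op U)).hom s = 0 := by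
  obtain ⟨ι, _, _, _, G, hG⟩ := exists_directed_final J
  haveI := hG
  have hc' : IsColimit (c.whisker G) := (Functor.Final.isColimitWhiskerEquiv G c).symm hc
  obtain ⟨a⟩ : Nonempty (StructuredArrow j G) := (Functor.Final.out (F := G) j).is_nonempty
  let s1 : ((G ⋙ K).obj a.right).obj.obj (op U) := ((K.map a.hom).hom.app (op U)).hom s
  have h1 : ci (G ⋙ K) (c.whisker G) a.right U s1 = 0 := by
    have e : K.map a.hom ≫ c.ι.app (G.obj a.right) = c.ι.app j := c.w a.hom
    have := congrArg (fun m => (m.hom.app (op U)).hom s) e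
    exact this.trans h
  obtain ⟨i', hij, htr⟩ := aff_inj (G ⋙ K) (c.whisker G) hc' U a.right s1 h1
  refine ⟨G.obj i', a.hom ≫ G.map (homOfLE hij), ?_⟩
  have e : K.map (a.hom ≫ G.map (homOfLE hij)) = K.map a.hom ≫ K.map (G.map (homOfLE hij)) :=
    K.map_comp _ _
  have := congrArg (fun m => (m.hom.app (op U)).hom s) e
  exact this.trans htr

end Sec

section Compact

variable {J : Type u} [SmallCategory J] [IsFiltered J] (K : J ⥤ EtCoh.Ab X) (c : Cocone K)
  (hc : IsColimit c)

/-- every map `P ⟶ colim` factors through a stage. -/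
def Lift (P : EtCoh.Ab X) : Prop :=
  ∀ h : P ⟶ c.pt, ∃ (j : J) (g : P ⟶ K.obj j), g ≫ c.ι.app j = h

/-- maps to a stage dying in the colimit die at a later stage. -/
def Kill (P : EtCoh.Ab X) : Prop :=
  ∀ (j : J) (g : P ⟶ K.obj j), g ≫ c.ι.app j = 0 → ∃ (k : J) (f : j ⟶ k), g ≫ K.map f = 0

include hc in
theorem kill_LZ (n : ℕ) (U : X.Etale) [IsAffine U.left] : Kill K c (LZ n U) := by
  intro j g hg
  have h0 : ((c.ι.app j).hom.app (op U)).hom ((g.hom.app (op U)).hom (univSec n U)) = 0 := by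
    have := congrArg (fun m => (m.hom.app (op U)).hom (univSec n U)) hg
    exact this.trans (congrArg (fun h => h (univSec n U)) (map_zero (evalHom (LZ n U) c.pt U)))
  obtain ⟨k, f, hf⟩ := sec_inj K c hc U j _ h0
  refine ⟨k, f, ?_⟩
  apply LZ_hom_ext
  show ((K.map f).hom.app (op U)).hom ((g.hom.app (op U)).hom (univSec n U)) =
    ((0 : LZ n U ⟶ K.obj k).hom.app (op U)).hom (univSec n U)
  rw [hf]
  exact (congrArg (fun h => h (univSec n U)) (map_zero (evalHom (LZ n U) (K.obj k) U))).symm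

include hc in
theorem lift_LZ (n : ℕ) (U : X.Etale) [IsAffine U.left] : Lift K c (LZ n U) := by
  intro h
  let t : c.pt.obj.obj (op U) := (h.hom.app (op U)).hom (univSec n U)
  have hnu : n • univSec n U = 0 := killedBy_of_nsmul_id n _ (nsmul_id_LZ n U) U (univSec n U)
  have hnt : n • t = 0 := by
    show n • (h.hom.app (op U)).hom (univSec n U) = 0
    rw [← map_nsmul, hnu, map_zero]
  obtain ⟨j, s, hs⟩ := sec_surj K c hc U t
  have h0 : ((c.ι.app j).hom.app (op U)).hom (n • s) = 0 := by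
    rw [map_nsmul, hs]
    exact hnt
  obtain ⟨k, f, hf⟩ := sec_inj K c hc U j (n • s) h0
  let s' : (K.obj k).obj.obj (op U) := ((K.map f).hom.app (op U)).hom s
  have hs' : n • s' = 0 := by
    show n • ((K.map f).hom.app (op U)).hom s = 0
    rw [← map_nsmul]
    exact hf
  have hs't : ((c.ι.app k).hom.app (op U)).hom s' = t := by
    have e : K.map f ≫ c.ι.app k = c.ι.app j := c.w f
    have := congrArg (fun m => (m.hom.app (op U)).hom s) e
    exact this.trans hs
  refine ⟨k, phi n (K.obj k) U s' hs', ?_⟩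
  apply LZ_hom_ext
  show ((c.ι.app k).hom.app (op U)).hom
    (((phi n (K.obj k) U s' hs').hom.app (op U)).hom (univSec n U)) = t
  rw [phi_univSec]
  exact hs't

theorem kill_biproduct {m : ℕ} (P : Fin m → EtCoh.Ab X) (hP : ∀ i, Kill K c (P i)) :
    Kill K c (⨁ P) := by
  classical
  intro j g hg
  have key : ∀ S : Finset (Fin m), ∃ (k : J) (f : j ⟶ k),
      ∀ i ∈ S, biproduct.ι P i ≫ g ≫ K.map f = 0 := by
    intro S
    induction S using Finset.induction_on with
    | empty => exact ⟨j, 𝟙 j, fun i hi => absurd hi (Finset.notMem_empty i)⟩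
    | insert i0 S hi0 ih =>
      obtain ⟨k, f, hf⟩ := ih
      have h0 : (biproduct.ι P i0 ≫ g ≫ K.map f) ≫ c.ι.app k = 0 := by
        rw [Category.assoc, Category.assoc, c.w f, hg, comp_zero]
      obtain ⟨k', f', hf'⟩ := hP i0 k _ h0
      refine ⟨k', f ≫ f', fun i hi => ?_⟩
      rw [K.map_comp]
      rcases Finset.mem_insert.1 hi with rfl | hi
      · calc biproduct.ι P i ≫ g ≫ K.map f ≫ K.map f'
            = (biproduct.ι P i ≫ g ≫ K.map f) ≫ K.map f' := by simp only [Category.assoc]
          _ = 0 := hf'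
      · calc biproduct.ι P i ≫ g ≫ K.map f ≫ K.map f'
            = (biproduct.ι P i ≫ g ≫ K.map f) ≫ K.map f' := by simp only [Category.assoc]
          _ = 0 := by rw [hf i hi, zero_comp]
  obtain ⟨k, f, hf⟩ := key Finset.univ
  refine ⟨k, f, ?_⟩
  apply biproduct.hom_ext'
  intro i
  rw [comp_zero]
  exact hf i (Finset.mem_univ i)

theorem lift_biproduct {m : ℕ} (P : Fin m → EtCoh.Ab X) (hP : ∀ i, Lift K c (P i)) :
    Lift K c (⨁ P) := by
  classical
  intro h
  choose jj gg hgg using fun i => hP i (biproduct.ι P i ≫ h)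
  obtain ⟨k, hk⟩ := IsFiltered.sup_objs_exists (Finset.univ.image jj)
  have hk' : ∀ i, Nonempty (jj i ⟶ k) := fun i =>
    hk (Finset.mem_image_of_mem _ (Finset.mem_univ i))
  refine ⟨k, biproduct.desc (fun i => gg i ≫ K.map ((hk' i).some)), ?_⟩
  apply biproduct.hom_ext'
  intro i
  rw [← Category.assoc, biproduct.ι_desc, Category.assoc, c.w, hgg]

theorem kill_of_epi {P F : EtCoh.Ab X} (π : P ⟶ F) [Epi π] (hP : Kill K c P) : Kill K c F := by
  intro j g hg
  obtain ⟨k, f, hf⟩ := hP j (π ≫ g) (by rw [Category.assoc, hg, comp_zero])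
  refine ⟨k, f, ?_⟩
  rw [← cancel_epi π, comp_zero, ← Category.assoc]
  exact hf

theorem lift_of_cokernel {P1 P0 F : EtCoh.Ab X} (φ : P1 ⟶ P0) (π : P0 ⟶ F) [Epi π]
    (hfac : ∀ (T : EtCoh.Ab X) (g0 : P0 ⟶ T), φ ≫ g0 = 0 → ∃ g : F ⟶ T, π ≫ g = g0)
    (hφπ : φ ≫ π = 0) (h0 : Lift K c P0) (k1 : Kill K c P1) : Lift K c F := by
  intro h
  obtain ⟨j, g0, hg0⟩ := h0 (π ≫ h)
  obtain ⟨k, f, hf⟩ := k1 j (φ ≫ g0)
    (by rw [Category.assoc, hg0, ← Category.assoc, hφπ, zero_comp])
  obtain ⟨g, hg⟩ := hfac _ (g0 ≫ K.map f) (by rw [← Category.assoc]; exact hf)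
  refine ⟨k, g, ?_⟩
  rw [← cancel_epi π, ← Category.assoc, hg, Category.assoc, c.w, hg0]

include hc in
/-- constructible sheaves on a qcqs scheme are compact. -/
theorem compact_of_constructible [CompactSpace X] [QuasiSeparatedSpace X] (F : EtCoh.Ab X)
    (hF : EtPBC.IsConstructible F) : Lift K c F ∧ Kill K c F := by
  obtain ⟨a, b, U, V, n, m, hU, hV, φ, ⟨e⟩⟩ := (main3508 X F).1 hF
  have kU : Kill K c (⨁ fun i => EtPBC.extZeroConst (U i) (ZMod (n i))) :=
    kill_biproduct K c _ (fun i => by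
      haveI := (hU i).2
      exact kill_LZ K c hc (n i) (U i))
  have lU : Lift K c (⨁ fun i => EtPBC.extZeroConst (U i) (ZMod (n i))) :=
    lift_biproduct K c _ (fun i => by
      haveI := (hU i).2
      exact lift_LZ K c hc (n i) (U i))
  have kV : Kill K c (⨁ fun j => EtPBC.extZeroConst (V j) (ZMod (m j))) :=
    kill_biproduct K c _ (fun j => by
      haveI := (hV j).2
      exact kill_LZ K c hc (m j) (V j))
  let π : (⨁ fun i => EtPBC.extZeroConst (U i) (ZMod (n i))) ⟶ F := cokernel.π φ ≫ e.inv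
  haveI : Epi π := epi_comp _ _
  refine ⟨lift_of_cokernel K c φ π (fun T g0 h => ⟨e.hom ≫ cokernel.desc φ g0 h, ?_⟩) ?_ lU kV,
    kill_of_epi K c π kU⟩
  · show (cokernel.π φ ≫ e.inv) ≫ e.hom ≫ cokernel.desc φ g0 h = g0
    rw [Category.assoc, e.inv_hom_id_assoc, cokernel.π_desc]
  · show φ ≫ cokernel.π φ ≫ e.inv = 0
    rw [← Category.assoc, cokernel.condition, zero_comp]

end Compact

theorem main0139 (X : Scheme.{u}) [CompactSpace X] [QuasiSeparatedSpace X]
    (F : EtCoh.Ab X) (hF : EtPBC.IsConstructible F) (J : Type u) [SmallCategory J] [IsFiltered J] :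
    PreservesColimitsOfShape J (coyoneda.obj (op F)) := by
  constructor
  intro K
  constructor
  intro c hc
  obtain ⟨hL, hK⟩ := compact_of_constructible K c hc F hF
  refine ⟨Types.FilteredColimit.isColimitOf' _ _ ?_ ?_⟩
  · intro h
    obtain ⟨j, g, hg⟩ := hL h
    exact ⟨j, g, hg.symm⟩
  · intro i x y hxy
    let x' : F ⟶ K.obj i := x
    let y' : F ⟶ K.obj i := y
    have hxy' : x' ≫ c.ι.app i = y' ≫ c.ι.app i := hxy
    obtain ⟨k, f, hf⟩ := hK i (x' - y') (by rw [Preadditive.sub_comp, hxy', sub_self])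
    refine ⟨k, f, ?_⟩
    rw [Preadditive.sub_comp, sub_eq_zero] at hf
    exact hf

theorem main0181 (X : Scheme.{u}) [CompactSpace X] [QuasiSeparatedSpace X]
    {J : Type u} [SmallCategory J] [IsFiltered J] (D : J ⥤ EtCoh.Ab X)
    (c : Cocone D) (hc : IsColimit c)
    (hD : ∀ j, EtPBC.IsConstructible (D.obj j)) (hF : EtPBC.IsConstructible c.pt) :
    ∃ (i : J) (s : c.pt ⟶ D.obj i), s ≫ c.ι.app i = 𝟙 c.pt ∧
      ∀ j : J, ∃ (k : J) (a : i ⟶ k) (b : j ⟶ k), D.map b = c.ι.app j ≫ s ≫ D.map a := by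
  obtain ⟨i, s, hs⟩ := (compact_of_constructible D c hc c.pt hF).1 (𝟙 c.pt)
  refine ⟨i, s, hs, fun j => ?_⟩
  let k0 := IsFiltered.max i j
  let a0 : i ⟶ k0 := IsFiltered.leftToMax i j
  let b0 : j ⟶ k0 := IsFiltered.rightToMax i j
  have hd : (D.map b0 - c.ι.app j ≫ s ≫ D.map a0) ≫ c.ι.app k0 = 0 := by
    rw [Preadditive.sub_comp, c.w b0, Category.assoc, Category.assoc, c.w a0, hs]
    exact sub_eq_zero.2 (Category.comp_id _).symm
  obtain ⟨k, f, hf⟩ := (compact_of_constructible D c hc (D.obj j) (hD j)).2 k0 _ hd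
  refine ⟨k, a0 ≫ f, b0 ≫ f, ?_⟩
  rw [Preadditive.sub_comp, sub_eq_zero] at hf
  rw [D.map_comp, D.map_comp, hf]
  simp only [Category.assoc]

end

end Groth.Agent.Lib.EtInd
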