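import Mathlib
import Groth.Agent.Lib.EtInd2_lead

/-!
# Compactness of constructible sheaves, universe-general version (lead)

`LiftG`/`KillG`: the two halves of "`Hom(P, -)` commutes with the colimit `c` of `K`", for index
categories in any universe, given that sections over affine objects commute with the colimit
(`SecSurj`/`SecInj`).  Instantiated for `(u+1)`-small filtered categories, and transported along
adjunctions.
-/

set_option autoImplicit false
set_option linter.unusedSimpArgs false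
set_option linter.unusedVariables false
set_option linter.unusedSectionVars false
set_option linter.style.longLine false
set_option linter.unnecessarySimpa false
set_option linter.style.haveILetI false
set_option maxHeartbeats 1600000
set_option backward.isDefEq.respectTransparency false
set_option backward.isDefEq.respectTransparency.types false
set_option backward.defeqAttrib.useBackward true

open CategoryTheory CategoryTheory.Limits AlgebraicGeometry Opposite Topology TopologicalSpace

namespace Groth.Agent.Lib.EtInd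

open Groth.Agent.Lib.EtPull Groth.Agent.Lib.EtCons Groth.Agent.Lib.EtLocConst
  Groth.Agent.Lib.EtSchSite_helper7 Groth.Agent.Lib.EtSchExact_helper7 Groth.Agent.Lib.EtSub
  Groth.Agent.Lib.EtSupp Groth.Agent.Lib.EtExtZ Groth.Agent.Lib.EtPres
  Groth.Agent.Lib.EtColimSecH8

universe u w w'

noncomputable section

section Gen

variable {X : Scheme.{u}} {J : Type w} [Category.{w'} J] (K : J ⥤ EtCoh.Ab X) (c : Cocone K)

/-- sections of the cocone point over affine objects come from a stage. -/
def SecSurj : Prop :=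
  ∀ (U : X.Etale) [IsAffine U.left] (t : c.pt.obj.obj (op U)),
    ∃ (j : J) (s : (K.obj j).obj.obj (op U)), ((c.ι.app j).hom.app (op U)).hom s = t

/-- sections over affine objects dying in the cocone point die at a later stage. -/
def SecInj : Prop :=
  ∀ (U : X.Etale) [IsAffine U.left] (j : J) (s : (K.obj j).obj.obj (op U)),
    ((c.ι.app j).hom.app (op U)).hom s = 0 →
      ∃ (k : J) (f : j ⟶ k), ((K.map f).hom.app (op U)).hom s = 0

/-- every map `P ⟶ c.pt` factors through a stage. -/
def LiftG (P : EtCoh.Ab X) : Prop :=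
  ∀ h : P ⟶ c.pt, ∃ (j : J) (g : P ⟶ K.obj j), g ≫ c.ι.app j = h

/-- maps to a stage dying in `c.pt` die at a later stage. -/
def KillG (P : EtCoh.Ab X) : Prop :=
  ∀ (j : J) (g : P ⟶ K.obj j), g ≫ c.ι.app j = 0 → ∃ (k : J) (f : j ⟶ k), g ≫ K.map f = 0

variable {K c}

theorem killG_LZ (hi : SecInj K c) (n : ℕ) (U : X.Etale) [IsAffine U.left] :
    KillG K c (LZ n U) := by
  intro j g hg
  have h0 : ((c.ι.app j).hom.app (op U)).hom ((g.hom.app (op U)).hom (univSec n U)) = 0 := by
    have := congrArg (fun m => (m.hom.app (op U)).hom (univSec n U)) hg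
    exact this.trans (congrArg (fun h => h (univSec n U)) (map_zero (evalHom (LZ n U) c.pt U)))
  obtain ⟨k, f, hf⟩ := hi U j _ h0
  refine ⟨k, f, ?_⟩
  apply LZ_hom_ext
  show ((K.map f).hom.app (op U)).hom ((g.hom.app (op U)).hom (univSec n U)) =
    ((0 : LZ n U ⟶ K.obj k).hom.app (op U)).hom (univSec n U)
  rw [hf]
  exact (congrArg (fun h => h (univSec n U)) (map_zero (evalHom (LZ n U) (K.obj k) U))).symm

theorem liftG_LZ (hs : SecSurj K c) (hi : SecInj K c) (n : ℕ) (U : X.Etale) [IsAffine U.left] :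
    LiftG K c (LZ n U) := by
  intro h
  let t : c.pt.obj.obj (op U) := (h.hom.app (op U)).hom (univSec n U)
  have hnu : n • univSec n U = 0 := killedBy_of_nsmul_id n _ (nsmul_id_LZ n U) U (univSec n U)
  have hnt : n • t = 0 := by
    show n • (h.hom.app (op U)).hom (univSec n U) = 0
    rw [← map_nsmul, hnu, map_zero]
  obtain ⟨j, s, hs'⟩ := hs U t
  have h0 : ((c.ι.app j).hom.app (op U)).hom (n • s) = 0 := by
    rw [map_nsmul, hs']
    exact hnt
  obtain ⟨k, f, hf⟩ := hi U j (n • s) h0
  let s' : (K.obj k).obj.obj (op U) := ((K.map f).hom.app (op U)).hom s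
  have hs'0 : n • s' = 0 := by
    show n • ((K.map f).hom.app (op U)).hom s = 0
    rw [← map_nsmul]
    exact hf
  have hs't : ((c.ι.app k).hom.app (op U)).hom s' = t := by
    have e : K.map f ≫ c.ι.app k = c.ι.app j := c.w f
    have := congrArg (fun m => (m.hom.app (op U)).hom s) e
    exact this.trans hs'
  refine ⟨k, phi n (K.obj k) U s' hs'0, ?_⟩
  apply LZ_hom_ext
  show ((c.ι.app k).hom.app (op U)).hom
    (((phi n (K.obj k) U s' hs'0).hom.app (op U)).hom (univSec n U)) = t
  rw [phi_univSec]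
  exact hs't

theorem killG_biproduct {m : ℕ} (P : Fin m → EtCoh.Ab X) (hP : ∀ i, KillG K c (P i)) :
    KillG K c (⨁ P) := by
  classical
  intro j g hg
  have key : ∀ S : Finset (Fin m), ∃ (k : J) (f : j ⟶ k),
      ∀ i ∈ S, biproduct.ι P i ≫ g ≫ K.map f = 0 := by
    intro S
    induction S using Finset.induction_on with
    | empty => exact ⟨j, 𝟙 j, fun i hi => absurd hi (Finset.notMem_empty i)⟩
    | insert i0 S hi0 ih =>
      obtain ⟨k, f, hf⟩ := ih
      have h0 : (biproduct.ι P i0 ≫ g ≫ K.map f) ≫ c.ι.app k = 0 := by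
        rw [Category.assoc, Category.assoc, c.w f, hg, comp_zero]
      obtain ⟨k', f', hf'⟩ := hP i0 k _ h0
      refine ⟨k', f ≫ f', fun i hi => ?_⟩
      rw [K.map_comp]
      rcases Finset.mem_insert.1 hi with rfl | hi
      · calc biproduct.ι P i ≫ g ≫ K.map f ≫ K.map f'
            = (biproduct.ι P i ≫ g ≫ K.map f) ≫ K.map f' := by simp only [Category.assoc]
          _ = 0 := hf'
      · calc biproduct.ι P i ≫ g ≫ K.map f ≫ K.map f'
            = (biproduct.ι P i ≫ g ≫ K.map f) ≫ K.map f' := by simp only [Category.assoc]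
          _ = 0 := by rw [hf i hi, zero_comp]
  obtain ⟨k, f, hf⟩ := key Finset.univ
  refine ⟨k, f, ?_⟩
  apply biproduct.hom_ext'
  intro i
  rw [comp_zero]
  exact hf i (Finset.mem_univ i)

theorem liftG_biproduct [IsFiltered J] {m : ℕ} (P : Fin m → EtCoh.Ab X)
    (hP : ∀ i, LiftG K c (P i)) : LiftG K c (⨁ P) := by
  classical
  intro h
  choose jj gg hgg using fun i => hP i (biproduct.ι P i ≫ h)
  obtain ⟨k, hk⟩ := IsFiltered.sup_objs_exists (Finset.univ.image jj)
  have hk' : ∀ i, Nonempty (jj i ⟶ k) := fun i =>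
    hk (Finset.mem_image_of_mem _ (Finset.mem_univ i))
  refine ⟨k, biproduct.desc (fun i => gg i ≫ K.map ((hk' i).some)), ?_⟩
  apply biproduct.hom_ext'
  intro i
  rw [← Category.assoc, biproduct.ι_desc, Category.assoc, c.w, hgg]

theorem killG_of_epi {P F : EtCoh.Ab X} (π : P ⟶ F) [Epi π] (hP : KillG K c P) :
    KillG K c F := by
  intro j g hg
  obtain ⟨k, f, hf⟩ := hP j (π ≫ g) (by rw [Category.assoc, hg, comp_zero])
  refine ⟨k, f, ?_⟩
  rw [← cancel_epi π, comp_zero, ← Category.assoc]
  exact hf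

theorem liftG_of_cokernel {P1 P0 F : EtCoh.Ab X} (φ : P1 ⟶ P0) (π : P0 ⟶ F) [Epi π]
    (hfac : ∀ (T : EtCoh.Ab X) (g0 : P0 ⟶ T), φ ≫ g0 = 0 → ∃ g : F ⟶ T, π ≫ g = g0)
    (hφπ : φ ≫ π = 0) (h0 : LiftG K c P0) (k1 : KillG K c P1) : LiftG K c F := by
  intro h
  obtain ⟨j, g0, hg0⟩ := h0 (π ≫ h)
  obtain ⟨k, f, hf⟩ := k1 j (φ ≫ g0)
    (by rw [Category.assoc, hg0, ← Category.assoc, hφπ, zero_comp])
  obtain ⟨g, hg⟩ := hfac _ (g0 ≫ K.map f) (by rw [← Category.assoc]; exact hf)
  refine ⟨k, g, ?_⟩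
  rw [← cancel_epi π, ← Category.assoc, hg, Category.assoc, c.w, hg0]

/-- constructible sheaves on a qcqs scheme are compact with respect to any filtered colimit with
which sections over affines commute. -/
theorem compactG_of_constructible [IsFiltered J] [CompactSpace X] [QuasiSeparatedSpace X]
    (hs : SecSurj K c) (hi : SecInj K c) (F : EtCoh.Ab X)
    (hF : EtPBC.IsConstructible F) : LiftG K c F ∧ KillG K c F := by
  obtain ⟨a, b, U, V, n, m, hU, hV, φ, ⟨e⟩⟩ := (main3508 X F).1 hF
  have kU : KillG K c (⨁ fun i => EtPBC.extZeroConst (U i) (ZMod (n i))) :=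
    killG_biproduct _ (fun i => by
      haveI := (hU i).2
      exact killG_LZ hi (n i) (U i))
  have lU : LiftG K c (⨁ fun i => EtPBC.extZeroConst (U i) (ZMod (n i))) :=
    liftG_biproduct _ (fun i => by
      haveI := (hU i).2
      exact liftG_LZ hs hi (n i) (U i))
  have kV : KillG K c (⨁ fun j => EtPBC.extZeroConst (V j) (ZMod (m j))) :=
    killG_biproduct _ (fun j => by
      haveI := (hV j).2
      exact killG_LZ hi (m j) (V j))
  let π : (⨁ fun i => EtPBC.extZeroConst (U i) (ZMod (n i))) ⟶ F := cokernel.π φ ≫ e.inv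
  haveI : Epi π := epi_comp _ _
  refine ⟨liftG_of_cokernel φ π (fun T g0 h => ⟨e.hom ≫ cokernel.desc φ g0 h, ?_⟩) ?_ lU kV,
    killG_of_epi π kU⟩
  · show (cokernel.π φ ≫ e.inv) ≫ e.hom ≫ cokernel.desc φ g0 h = g0
    rw [Category.assoc, e.inv_hom_id_assoc, cokernel.π_desc]
  · show φ ≫ cokernel.π φ ≫ e.inv = 0
    rw [← Category.assoc, cokernel.condition, zero_comp]

theorem liftG_of_iso {P P' : EtCoh.Ab X} (e : P ≅ P') (h : LiftG K c P) : LiftG K c P' := by
  intro φ
  obtain ⟨j, g, hg⟩ := h (e.hom ≫ φ)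
  exact ⟨j, e.inv ≫ g, by rw [Category.assoc, hg, e.inv_hom_id_assoc]⟩

theorem killG_of_iso {P P' : EtCoh.Ab X} (e : P ≅ P') (h : KillG K c P) : KillG K c P' := by
  intro j g hg
  obtain ⟨k, f, hf⟩ := h j (e.hom ≫ g) (by rw [Category.assoc, hg, comp_zero])
  refine ⟨k, f, ?_⟩
  rw [← cancel_epi e.hom, comp_zero, ← Category.assoc]
  exact hf

variable (K c) in
/-- `LiftG` and `KillG` say that `Hom(F, -)` preserves the colimit. -/
theorem nonempty_isColimit_of_liftKill [IsFiltered J] (F : EtCoh.Ab X) (hL : LiftG K c F)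
    (hK : KillG K c F) : Nonempty (IsColimit ((coyoneda.obj (op F)).mapCocone c)) := by
  refine ⟨Types.FilteredColimit.isColimitOf' _ _ ?_ ?_⟩
  · intro h
    obtain ⟨j, g, hg⟩ := hL h
    exact ⟨j, g, hg.symm⟩
  · intro i x y hxy
    let x' : F ⟶ K.obj i := x
    let y' : F ⟶ K.obj i := y
    have hxy' : x' ≫ c.ι.app i = y' ≫ c.ι.app i := hxy
    obtain ⟨k, f, hf⟩ := hK i (x' - y') (by rw [Preadditive.sub_comp, hxy', sub_self])
    refine ⟨k, f, ?_⟩
    rw [Preadditive.sub_comp, sub_eq_zero] at hf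
    exact hf

end Gen

section Adj

variable {U X : Scheme.{u}} {J : Type w} [Category.{w'} J]
  {L : EtCoh.Ab U ⥤ EtCoh.Ab X} {R : EtCoh.Ab X ⥤ EtCoh.Ab U} (adj : L ⊣ R)
  (K : J ⥤ EtCoh.Ab X) (c : Cocone K) (F : EtCoh.Ab U)

include adj in
theorem liftG_of_adj (h : LiftG (K ⋙ R) (R.mapCocone c) F) : LiftG K c (L.obj F) := by
  intro φ
  obtain ⟨j, g, hg⟩ := h (adj.homEquiv F c.pt φ)
  refine ⟨j, (adj.homEquiv F (K.obj j)).symm g, ?_⟩
  rw [← adj.homEquiv_naturality_right_symm]
  have e : g ≫ R.map (c.ι.app j) = adj.homEquiv F c.pt φ := hg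
  rw [e]
  exact Equiv.symm_apply_apply (adj.homEquiv F c.pt) φ

include adj in
theorem killG_of_adj [R.PreservesZeroMorphisms] (h : KillG (K ⋙ R) (R.mapCocone c) F) :
    KillG K c (L.obj F) := by
  intro j g hg
  have h0 : adj.homEquiv F (K.obj j) g ≫ R.map (c.ι.app j) = 0 := by
    rw [← adj.homEquiv_naturality_right, hg, Adjunction.homEquiv_unit, Functor.map_zero,
      comp_zero]
  obtain ⟨k, f', hf'⟩ := h j (adj.homEquiv F (K.obj j) g) h0
  refine ⟨k, f', ?_⟩
  apply (adj.homEquiv F (K.obj k)).injective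
  rw [adj.homEquiv_naturality_right]
  have hz : adj.homEquiv F (K.obj k) 0 = 0 := by
    rw [Adjunction.homEquiv_unit, Functor.map_zero, comp_zero]
  rw [hz]
  exact hf'

end Adj

section Big

variable {X : Scheme.{u}} {J : Type (u + 1)} [SmallCategory J] [IsFiltered J]
  (K : J ⥤ EtCoh.Ab X) (c : Cocone K) (hc : IsColimit c)

include hc in
theorem secSurj_big : SecSurj K c := by
  intro U _ t
  obtain ⟨α, hα, hd, hne, G, hG⟩ := IsFiltered.exists_directed J
  letI := hα
  haveI := hd
  haveI := hne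
  haveI := hG
  have hc' : IsColimit (c.whisker G) := (Functor.Final.isColimitWhiskerEquiv G c).symm hc
  obtain ⟨i, s, hs⟩ := aff_surj (G ⋙ K) (c.whisker G) hc' U t
  exact ⟨G.obj i, s, hs⟩

include hc in
theorem secInj_big : SecInj K c := by
  intro U _ j s h
  obtain ⟨α, hα, hd, hne, G, hG⟩ := IsFiltered.exists_directed J
  letI := hα
  haveI := hd
  haveI := hne
  haveI := hG
  have hc' : IsColimit (c.whisker G) := (Functor.Final.isColimitWhiskerEquiv G c).symm hc
  obtain ⟨a⟩ : Nonempty (StructuredArrow j G) := (Functor.Final.out (F := G) j).is_nonempty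
  let s1 : ((G ⋙ K).obj a.right).obj.obj (op U) := ((K.map a.hom).hom.app (op U)).hom s
  have h1 : ci (G ⋙ K) (c.whisker G) a.right U s1 = 0 := by
    have e : K.map a.hom ≫ c.ι.app (G.obj a.right) = c.ι.app j := c.w a.hom
    have := congrArg (fun m => (m.hom.app (op U)).hom s) e
    exact this.trans h
  obtain ⟨i', hij, htr⟩ := aff_inj (G ⋙ K) (c.whisker G) hc' U a.right s1 h1
  refine ⟨G.obj i', a.hom ≫ G.map (homOfLE hij), ?_⟩
  have e : K.map (a.hom ≫ G.map (homOfLE hij)) = K.map a.hom ≫ K.map (G.map (homOfLE hij)) :=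
    K.map_comp _ _
  have := congrArg (fun m => (m.hom.app (op U)).hom s) e
  exact this.trans htr

include hc in
/-- constructible sheaves on a qcqs scheme are compact, for `(u+1)`-small filtered colimits. -/
theorem compact_big [CompactSpace X] [QuasiSeparatedSpace X] (F : EtCoh.Ab X)
    (hF : EtPBC.IsConstructible F) : LiftG K c F ∧ KillG K c F :=
  compactG_of_constructible (secSurj_big K c hc) (secInj_big K c hc) F hF

end Big

end

end Groth.Agent.Lib.EtInd
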