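import Mathlib
import Groth.Agent.Lib.EtExtZ2_lead
import Groth.Agent.Lib.EtShriekBC_helper7
import Groth.Agent.Lib.EtTrace3_helper7
import Groth.Agent.Lib.EtFlcPushB_helper7

/-!
# Extension by zero of a finite locally constant sheaf along a qcqs étale morphism is constructible
(lead)
-/

set_option autoImplicit false
set_option linter.unusedSimpArgs false
set_option linter.unusedVariables false
set_option linter.unusedSectionVars false
set_option linter.style.longLine false
set_option linter.unnecessarySimpa false
set_option linter.style.haveILetI false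
set_option maxHeartbeats 1600000
set_option backward.isDefEq.respectTransparency false
set_option backward.isDefEq.respectTransparency.types false
set_option backward.defeqAttrib.useBackward true

open CategoryTheory CategoryTheory.Limits AlgebraicGeometry Opposite Topology TopologicalSpace

namespace Groth.Agent.Lib.EtShriekCons

open Groth.Agent.Lib.EtPull Groth.Agent.Lib.EtCons Groth.Agent.Lib.EtLocConst
  Groth.Agent.Lib.EtSchSite_helper7 Groth.Agent.Lib.EtExtZ
  Groth.Agent.Lib.EtJCont_helper7 Groth.Agent.Lib.EtShriekBC_helper7 Groth.Agent.Lib.EtTraceH7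
  Groth.Agent.Lib.EtFlcPushH7

universe u

noncomputable section

theorem main13505 {U X : Scheme.{u}} [CompactSpace X]
    [QuasiSeparatedSpace X] [CompactSpace U] [QuasiSeparatedSpace U] (f : U ⟶ X) [Etale f]
    [EtShriek.JCont f] (F : EtCoh.Ab U) (hF : EtCoh.IsFiniteLocallyConstant F) :
    EtPBC.IsConstructible ((EtShriek.extZero f).obj F) := by
  rw [main28, adapted_iff]
  obtain ⟨n, T, g, h1, h2, h3, h4, h5⟩ := Groth.Agent.Lib.EtStratH4.main0169 f
  refine ⟨Fin n, inferInstance, T, g, h1, fun i => cin_univ_iff.2 (h2 i), h3, h4, fun i => ?_⟩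
  show EtCoh.IsFiniteLocallyConstant ((EtCoh.pull (g i)).obj ((EtShriek.extZero f).obj F))
  haveI : IsFinite (pullback.snd f (g i)) := h5 i
  have hpb : IsPullback (pullback.snd f (g i)) (pullback.fst f (g i)) (g i) f :=
    (IsPullback.of_hasPullback f (g i)).flip
  have e := (extZeroPullIso f (g i) (pullback.snd f (g i)) (pullback.fst f (g i)) hpb).app F
  have h6 : EtCoh.IsFiniteLocallyConstant ((EtCoh.pull (pullback.fst f (g i))).obj F) :=
    flc_pull _ F hF
  have h7 : EtCoh.IsFiniteLocallyConstant ((EtCoh.push (pullback.snd f (g i))).obj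
      ((EtCoh.pull (pullback.fst f (g i))).obj F)) := main106 _ _ h6
  have h8 : EtCoh.IsFiniteLocallyConstant ((EtShriek.extZero (pullback.snd f (g i))).obj
      ((EtCoh.pull (pullback.fst f (g i))).obj F)) :=
    flc_of_iso ((tauIso (pullback.snd f (g i))).app _).symm h7
  exact flc_of_iso e h8

end

end Groth.Agent.Lib.EtShriekCons
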