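import Mathlib
import Groth.Agent.Lib.EtInd3_lead
import Groth.Agent.Lib.EtShriekCons_lead

/-!
# Finite étale pushforward and surjective pullback of constructible sheaves (lead)

* `main0136`: `f_* F` is constructible for `f` finite étale and `F` constructible.
* `main0135`: for `f : X ⟶ Y` surjective with `X`, `Y` qcqs, `F` is constructible iff `f^* F` is.
-/

set_option autoImplicit false
set_option linter.unusedSimpArgs false
set_option linter.unusedVariables false
set_option linter.unusedSectionVars false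
set_option linter.style.longLine false
set_option linter.unnecessarySimpa false
set_option linter.style.haveILetI false
set_option maxHeartbeats 1600000
set_option backward.isDefEq.respectTransparency false
set_option backward.isDefEq.respectTransparency.types false
set_option backward.defeqAttrib.useBackward true

open CategoryTheory CategoryTheory.Limits AlgebraicGeometry Opposite Topology TopologicalSpace

namespace Groth.Agent.Lib.EtInd

open Groth.Agent.Lib.EtPull Groth.Agent.Lib.EtCons Groth.Agent.Lib.EtLocConst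
  Groth.Agent.Lib.EtSchSite_helper7 Groth.Agent.Lib.EtSchExact_helper7 Groth.Agent.Lib.EtSub
  Groth.Agent.Lib.EtSupp Groth.Agent.Lib.EtExtZ Groth.Agent.Lib.EtPres
  Groth.Agent.Lib.EtJCont_helper7 Groth.Agent.Lib.EtShriekBC_helper7 Groth.Agent.Lib.EtTraceH7
  Groth.Agent.Lib.EtOpenShriek_helper7 Groth.Agent.Lib.EtSchStalk_helper7

universe u

noncomputable section

section Points

variable {X : Scheme.{u}}

/-- local surjectivity can be tested at one geometric point over each point. -/
theorem isLocallySurjective_of_stalks_at {P Q : X.Etaleᵒᵖ ⥤ AddCommGrpCat.{u + 1}} (f : P ⟶ Q)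
    (h : ∀ x : X, ∃ (K : Type u) (_ : Field K) (_ : IsSepClosed K)
      (ξ : Spec (CommRingCat.of K) ⟶ X),
      ξ.base (default : ↥(Spec (CommRingCat.of K))) = x ∧
        Function.Surjective ((Scheme.pointSmallEtale ξ).presheafFiber.map f)) :
    Presheaf.IsLocallySurjective X.smallEtaleTopology f := by
  refine ⟨fun {U} s => ?_⟩
  apply sieve_mem_of_forall_exists
  intro pt
  obtain ⟨K, _, _, ξ, hξ, hsurj⟩ := h (U.hom.base pt)
  obtain ⟨ℓ, hℓ₁, hℓ₂⟩ := Scheme.exists_fac_of_etale_of_isSepClosed U.hom ξ pt hξ.symm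
  let l : (Scheme.pointSmallEtale ξ).fiber.obj U := Over.homMk ℓ hℓ₁
  have hl : l.left (default : ↥(Spec (CommRingCat.of K))) = pt := hℓ₂
  obtain ⟨σ, hσ⟩ := hsurj ((Scheme.pointSmallEtale ξ).toPresheafFiber U l Q s)
  obtain ⟨V, v, z, rfl⟩ := (Scheme.pointSmallEtale ξ).toPresheafFiber_jointly_surjective σ
  rw [GrothendieckTopology.Point.toPresheafFiber_naturality_apply] at hσ
  obtain ⟨W, a, b, -⟩ := IsCofilteredOrEmpty.cone_objs
    (C := (Scheme.pointSmallEtale ξ).fiber.Elements)
    (⟨V, v⟩ : (Scheme.pointSmallEtale ξ).fiber.Elements)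
    (⟨U, l⟩ : (Scheme.pointSmallEtale ξ).fiber.Elements)
  have ha : (Scheme.pointSmallEtale ξ).fiber.map a.1 W.2 = v := a.2
  have hb : (Scheme.pointSmallEtale ξ).fiber.map b.1 W.2 = l := b.2
  have h2 : (Scheme.pointSmallEtale ξ).toPresheafFiber W.1 W.2 Q (Q.map a.1.op (f.app _ z)) =
      (Scheme.pointSmallEtale ξ).toPresheafFiber W.1 W.2 Q (Q.map b.1.op s) := by
    rw [GrothendieckTopology.Point.toPresheafFiber_w_apply,
      GrothendieckTopology.Point.toPresheafFiber_w_apply, ha, hb, hσ]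
  obtain ⟨Y, g, y, hy, heq⟩ :=
    ((Scheme.pointSmallEtale ξ).toPresheafFiber_eq_iff' W.1 W.2 _ _).1 h2
  refine ⟨Y, g ≫ b.1, ⟨P.map (g ≫ a.1).op z, ?_⟩, ?_⟩
  · rw [NatTrans.naturality_apply, op_comp, Functor.map_comp, op_comp, Functor.map_comp,
      ConcreteCategory.comp_apply, ConcreteCategory.comp_apply]
    exact heq
  · rw [← hl]
    refine mem_range_of_map_eq (g ≫ b.1) y l ?_
    rw [Functor.map_comp]
    show (Scheme.pointSmallEtale ξ).fiber.map b.1 ((Scheme.pointSmallEtale ξ).fiber.map g y) = l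
    rw [show (Scheme.pointSmallEtale ξ).fiber.map g y = W.2 from hy]
    exact hb

theorem epi_of_stalks_at {F G : EtCoh.Ab X} (a : F ⟶ G)
    (h : ∀ x : X, ∃ (K : Type u) (_ : Field K) (_ : IsSepClosed K)
      (ξ : Spec (CommRingCat.of K) ⟶ X),
      ξ.base (default : ↥(Spec (CommRingCat.of K))) = x ∧
        Function.Surjective ((EtCoh.stalk ξ).map a)) : Epi a := by
  haveI : Sheaf.IsLocallySurjective a := isLocallySurjective_of_stalks_at a.hom h
  infer_instance

theorem eq_zero_of_stalks_at {P Q : EtCoh.Ab X} (f : P ⟶ Q)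
    (h : ∀ x : X, ∃ (K : Type u) (_ : Field K) (_ : IsSepClosed K)
      (ξ : Spec (CommRingCat.of K) ⟶ X),
      ξ.base (default : ↥(Spec (CommRingCat.of K))) = x ∧ (EtCoh.stalk ξ).map f = 0) :
    f = 0 := by
  haveI : Epi (kernel.ι f) := by
    apply epi_of_stalks_at
    intro x
    obtain ⟨K, i1, i2, ξ, hξ, hz⟩ := h x
    refine ⟨K, i1, i2, ξ, hξ, ?_⟩
    haveI := epi_stalk_kernel_ι ξ f hz
    exact (AddCommGrpCat.epi_iff_surjective _).1 inferInstance
  rw [← cancel_epi (kernel.ι f), kernel.condition, comp_zero]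

theorem isTorsion_of_nsmul_id (G : EtCoh.Ab X) (N : ℕ) (hN : 0 < N) (h : N • 𝟙 G = 0) :
    EtCoh.IsTorsion G := by
  intro U s x
  refine ⟨U, 𝟙 U, ⟨x, rfl⟩, ?_⟩
  rw [isOfFinAddOrder_iff_nsmul_eq_zero]
  exact ⟨N, hN, killedBy_of_nsmul_id N G h U _⟩

end Points

section Push

theorem push_constructible_qcqs {X Y : Scheme.{u}} [CompactSpace X] [QuasiSeparatedSpace X]
    [CompactSpace Y] [QuasiSeparatedSpace Y] (f : X ⟶ Y) [IsFinite f] [Etale f]
    (F : EtCoh.Ab X) (hF : EtPBC.IsConstructible F) :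
    EtPBC.IsConstructible ((EtCoh.push f).obj F) := by
  obtain ⟨N, hN, hNF⟩ := exists_nsmul_id_eq_zero F hF
  have hNG : N • 𝟙 ((EtCoh.push f).obj F) = 0 := by
    have := congrArg (fun m => (EtCoh.push f).map m) hNF
    simp only [Functor.map_nsmul, Functor.map_zero, CategoryTheory.Functor.map_id] at this
    exact this
  apply main13501 Y _ (isTorsion_of_nsmul_id _ N hN hNG)
  intro J _ _
  constructor
  intro K
  constructor
  intro c hc
  haveI : PreservesColimitsOfSize.{u + 1, u + 1} (EtCoh.pull f) :=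
    (EtCoh.pullPushAdj f).leftAdjoint_preservesColimits
  haveI : PreservesColimitsOfSize.{u + 1, u + 1} (EtShriek.restrAlong f) :=
    preservesColimits_of_natIso (restrIsoPull f).symm
  haveI : (EtShriek.restrAlong f).IsRightAdjoint := (EtShriek.extZeroAdj f).isRightAdjoint
  have hRc : IsColimit ((EtShriek.restrAlong f).mapCocone c) := isColimitOfPreserves _ hc
  obtain ⟨hL, hK⟩ := compact_big (K ⋙ EtShriek.restrAlong f) _ hRc F hF
  have hL' := liftG_of_iso ((tauIso f).app F)
    (liftG_of_adj (EtShriek.extZeroAdj f) K c F hL)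
  have hK' := killG_of_iso ((tauIso f).app F)
    (killG_of_adj (EtShriek.extZeroAdj f) K c F hK)
  exact nonempty_isColimit_of_liftKill K c _ hL' hK'

theorem main0136 {X Y : Scheme.{u}} (f : X ⟶ Y) [IsFinite f] [Etale f]
    [EtCoh.BCCont f] (F : EtCoh.Ab X) (hF : EtPBC.IsConstructible F) :
    EtPBC.IsConstructible ((EtCoh.push f).obj F) := by
  apply main29 _ (fun V : Y.affineOpens => V.1) (iSup_affineOpens_eq_top Y)
  intro V
  have hpb : IsPullback (pullback.fst f V.1.ι) (pullback.snd f V.1.ι) f V.1.ι :=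
    IsPullback.of_hasPullback f V.1.ι
  haveI : IsAffine V.1.toScheme := V.2
  haveI : IsAffine (pullback f V.1.ι) := isAffine_of_isAffineHom (pullback.snd f V.1.ι)
  have e1 := (restrIsoPull V.1.ι).symm.app ((EtCoh.push f).obj F)
  have e2 := (pushRestrIso V.1.ι f (pullback.fst f V.1.ι) (pullback.snd f V.1.ι) hpb).app F
  have e3 := (EtCoh.push (pullback.snd f V.1.ι)).mapIso
    ((restrIsoPull (pullback.fst f V.1.ι)).app F)
  have h1 : EtPBC.IsConstructible ((EtCoh.pull (pullback.fst f V.1.ι)).obj F) :=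
    main27 (pullback.fst f V.1.ι) F hF
  have h2 := push_constructible_qcqs (pullback.snd f V.1.ι) _ h1
  exact isConstructible_of_iso (e1 ≪≫ e2 ≪≫ e3).symm h2

end Push

section Pull

variable {X Y : Scheme.{u}}

theorem epi_of_epi_pull (f : X ⟶ Y) [Surjective f] {F G : EtCoh.Ab Y} (a : F ⟶ G)
    [Epi ((EtCoh.pull f).map a)] : Epi a := by
  apply epi_of_stalks_at
  intro y
  obtain ⟨x, rfl⟩ := f.surjective y
  obtain ⟨Ω, iF, iS, ξ', hξ'⟩ := exists_geometric_point X x
  have hd : ξ'.base (default : ↥(Spec (CommRingCat.of Ω))) = x := base_default_of_range ξ' hξ'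
  refine ⟨Ω, iF, iS, ξ' ≫ f, ?_, ?_⟩
  · show f.base (ξ'.base (default : ↥(Spec (CommRingCat.of Ω)))) = f.base x
    rw [hd]
  · let e := EtStalkPull.stalkPullIso f ξ'
    have nat : (EtCoh.stalk ξ').map ((EtCoh.pull f).map a) ≫ e.hom.app G =
        e.hom.app F ≫ (EtCoh.stalk (ξ' ≫ f)).map a := e.hom.naturality a
    haveI : Epi ((EtCoh.stalk ξ').map ((EtCoh.pull f).map a)) := inferInstance
    haveI : Epi (e.hom.app F ≫ (EtCoh.stalk (ξ' ≫ f)).map a) := by
      rw [← nat]
      exact epi_comp _ _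
    haveI : Epi ((EtCoh.stalk (ξ' ≫ f)).map a) := epi_of_epi (e.hom.app F) _
    exact (AddCommGrpCat.epi_iff_surjective _).1 inferInstance

theorem eq_zero_of_pull_eq_zero (f : X ⟶ Y) [Surjective f] {F G : EtCoh.Ab Y} (a : F ⟶ G)
    (h : (EtCoh.pull f).map a = 0) : a = 0 := by
  apply eq_zero_of_stalks_at
  intro y
  obtain ⟨x, rfl⟩ := f.surjective y
  obtain ⟨Ω, iF, iS, ξ', hξ'⟩ := exists_geometric_point X x
  have hd : ξ'.base (default : ↥(Spec (CommRingCat.of Ω))) = x := base_default_of_range ξ' hξ'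
  refine ⟨Ω, iF, iS, ξ' ≫ f, ?_, ?_⟩
  · show f.base (ξ'.base (default : ↥(Spec (CommRingCat.of Ω)))) = f.base x
    rw [hd]
  · let e := EtStalkPull.stalkPullIso f ξ'
    have nat : (EtCoh.stalk ξ').map ((EtCoh.pull f).map a) ≫ e.hom.app G =
        e.hom.app F ≫ (EtCoh.stalk (ξ' ≫ f)).map a := e.hom.naturality a
    rw [h, Functor.map_zero, zero_comp] at nat
    rw [← cancel_epi (e.hom.app F), ← nat, comp_zero]

variable [CompactSpace X] [QuasiSeparatedSpace X] [CompactSpace Y] [QuasiSeparatedSpace Y]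

/-- if `f^* H` is constructible (`f` surjective, qcqs) then `H` is a quotient of a constructible
sheaf. -/
theorem exists_constructible_epi (f : X ⟶ Y) [Surjective f] (H : EtCoh.Ab Y)
    (hH : EtPBC.IsConstructible ((EtCoh.pull f).obj H)) :
    ∃ (G : EtCoh.Ab Y) (_ : EtPBC.IsConstructible G) (π : G ⟶ H), Epi π := by
  haveI : (EtCoh.pull f).Additive := (EtCoh.pullPushAdj f).left_adjoint_additive
  obtain ⟨N, hN, hNH⟩ := exists_nsmul_id_eq_zero _ hH
  have hNH' : N • 𝟙 H = 0 := by
    apply eq_zero_of_pull_eq_zero f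
    rw [Functor.map_nsmul, CategoryTheory.Functor.map_id]
    exact hNH
  have hT : EtCoh.IsTorsion H := isTorsion_of_nsmul_id H N hN hNH'
  have hcol := isColimitCocone H hT
  haveI : PreservesColimitsOfSize.{u + 1, u + 1} (EtCoh.pull f) :=
    (EtCoh.pullPushAdj f).leftAdjoint_preservesColimits
  have hcol' : IsColimit ((EtCoh.pull f).mapCocone (cocone H)) := isColimitOfPreserves _ hcol
  obtain ⟨hL, -⟩ := compact_big (Dfun H ⋙ EtCoh.pull f) _ hcol' _ hH
  obtain ⟨j, s, hs⟩ := hL (𝟙 _)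
  refine ⟨j.P.sheaf, j.P.isConstructible, j.hom, ?_⟩
  haveI : Epi ((EtCoh.pull f).map j.hom) := by
    haveI : IsSplitEpi ((EtCoh.pull f).map j.hom) := ⟨⟨⟨s, hs⟩⟩⟩
    infer_instance
  exact epi_of_epi_pull f j.hom

theorem main0135 (f : X ⟶ Y) [Surjective f] [EtCoh.BCCont f] (F : EtCoh.Ab Y) :
    EtPBC.IsConstructible F ↔ EtPBC.IsConstructible ((EtCoh.pull f).obj F) := by
  constructor
  · exact main27 f F
  · intro hF
    obtain ⟨G, hG, π, hπ⟩ := exists_constructible_epi f F hF
    haveI := hπ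
    have hK : EtPBC.IsConstructible ((EtCoh.pull f).obj (kernel π)) :=
      isConstructible_of_iso (PreservesKernel.iso (EtCoh.pull f) π).symm
        ((main31 ((EtCoh.pull f).map π) (main27 f G hG) hF).1)
    obtain ⟨G', hG', ψ, hψ⟩ := exists_constructible_epi f (kernel π) hK
    haveI := hψ
    have i1 : F ≅ cokernel (kernel.ι π) :=
      (Abelian.epiIsCokernelOfKernel _ (kernelIsKernel π)).coconePointUniqueUpToIso
        (colimit.isColimit (parallelPair (kernel.ι π) 0))
    exact isConstructible_of_iso (i1 ≪≫ (cokernelEpiComp ψ (kernel.ι π)).symm).symm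
      ((main31 (ψ ≫ kernel.ι π) hG' hG).2)

end Pull

end

end Groth.Agent.Lib.EtInd
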