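import Mathlib
import Groth.Agent.Lib.EtInd4_lead
import Groth.Agent.Lib.EtSubB_lead

/-!
# Constructible = Noetherian object (Noetherian base); constructibility descends along surjective
locally finitely presented morphisms (lead)
-/

set_option autoImplicit false
set_option linter.unusedSimpArgs false
set_option linter.unusedVariables false
set_option linter.unusedSectionVars false
set_option linter.style.longLine false
set_option linter.unnecessarySimpa false
set_option linter.style.haveILetI false
set_option maxHeartbeats 1600000
set_option backward.isDefEq.respectTransparency false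
set_option backward.isDefEq.respectTransparency.types false
set_option backward.defeqAttrib.useBackward true

open CategoryTheory CategoryTheory.Limits AlgebraicGeometry Opposite Topology TopologicalSpace

namespace Groth.Agent.Lib.EtInd

open Groth.Agent.Lib.EtPull Groth.Agent.Lib.EtCons Groth.Agent.Lib.EtLocConst
  Groth.Agent.Lib.EtSchSite_helper7 Groth.Agent.Lib.EtSchExact_helper7 Groth.Agent.Lib.EtSub
  Groth.Agent.Lib.EtSupp Groth.Agent.Lib.EtExtZ Groth.Agent.Lib.EtPres

universe u

noncomputable section

section Lfp

/-- descent of constructibility along a surjective locally finitely presented morphism to a qcqs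
base. -/
theorem constructible_of_pull_qcqsBase {X Y : Scheme.{u}} [CompactSpace Y]
    [QuasiSeparatedSpace Y] (f : X ⟶ Y) [Surjective f] [LocallyOfFinitePresentation f]
    (H : EtCoh.Ab Y) (hH : EtPBC.IsConstructible ((EtCoh.pull f).obj H)) :
    EtPBC.IsConstructible H := by
  classical
  have hC : ∀ W : X.affineOpens, Topology.IsConstructible (Set.range (W.1.ι ≫ f).base) := by
    intro W
    haveI : IsAffine W.1.toScheme := W.2
    have := (W.1.ι ≫ f).isConstructible_image (s := Set.univ) Topology.IsConstructible.univ
    rwa [Set.image_univ] at this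
  have hcov : (⋃ W : X.affineOpens, Set.range (W.1.ι ≫ f).base) = Set.univ := by
    apply Set.eq_univ_of_forall
    intro y
    obtain ⟨x, rfl⟩ := f.surjective y
    obtain ⟨_, ⟨W, hW, rfl⟩, hxW, -⟩ := X.isBasis_affineOpens.exists_subset_of_mem_open
      (Set.mem_univ x) isOpen_univ
    exact Set.mem_iUnion.mpr ⟨⟨W, hW⟩, ⟨⟨x, hxW⟩, rfl⟩⟩
  obtain ⟨t, ht⟩ := exists_finite_subcover_of_isConstructible _ hC hcov
  let A : t → Scheme.{u} := fun W => W.1.1.toScheme
  haveI : ∀ W, IsAffine (A W) := fun W => W.1.2
  let q : (∐ A) ⟶ X := Sigma.desc (fun W => W.1.1.ι)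
  haveI : Surjective (q ≫ f) := ⟨fun y => by
    have hy : y ∈ ⋃ W ∈ t, Set.range (W.1.ι ≫ f).base := by
      rw [ht]
      trivial
    obtain ⟨W, hWt, ⟨w, hw⟩⟩ := Set.mem_iUnion₂.mp hy
    refine ⟨(Sigma.ι A ⟨W, hWt⟩).base w, ?_⟩
    have e : Sigma.ι A ⟨W, hWt⟩ ≫ q ≫ f = W.1.ι ≫ f := by
      rw [← Category.assoc, Sigma.ι_desc]
    have := congrArg (fun m => m.base w) e
    exact this.trans hw⟩
  haveI : IsAffine (∐ A) := inferInstance
  have h1 : EtPBC.IsConstructible ((EtCoh.pull (q ≫ f)).obj H) :=
    isConstructible_of_iso ((pullComp f q).app H) (main27 q _ hH)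
  exact (main0135 (q ≫ f) H).2 h1

theorem main8546 {X Y : Scheme.{u}} (f : X ⟶ Y) [Surjective f]
    [LocallyOfFinitePresentation f] (F : EtCoh.Ab Y) :
    EtPBC.IsConstructible F ↔ EtPBC.IsConstructible ((EtCoh.pull f).obj F) := by
  constructor
  · exact main27 f F
  · intro hF
    apply main29 _ (fun V : Y.affineOpens => V.1) (iSup_affineOpens_eq_top Y)
    intro V
    haveI : IsAffine V.1.toScheme := V.2
    apply constructible_of_pull_qcqsBase (pullback.snd f V.1.ι)
    have e1 := (pullComp V.1.ι (pullback.snd f V.1.ι)).app F
    have e2 := (pullComp f (pullback.fst f V.1.ι)).app F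
    have hcond : pullback.fst f V.1.ι ≫ f = pullback.snd f V.1.ι ≫ V.1.ι := pullback.condition
    have e3 := (pullCongr hcond).app F
    exact isConstructible_of_iso (e2 ≪≫ e3 ≪≫ e1.symm) (main27 (pullback.fst f V.1.ι) _ hF)

end Lfp

section Noeth

theorem main8540 (X : Scheme.{u}) [IsNoetherian X] (F : EtCoh.Ab X)
    (hF : EtCoh.IsTorsion F) :
    EtPBC.IsConstructible F ↔ IsNoetherianObject F := by
  constructor
  · intro hc
    rw [isNoetherianObject_iff_monotone_chain_condition]
    intro c
    obtain ⟨N, hN⟩ := main42 X F hc c
    exact ⟨N, fun m h => (hN m h).symm⟩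
  · intro hN
    haveI := hN
    let S : Set (Subobject F) := Set.range (fun j : Idx F => imageSubobject j.hom)
    have hSne : S.Nonempty := ⟨_, ⟨(idx_nonempty F).some, rfl⟩⟩
    obtain ⟨M, ⟨j0, rfl⟩, hmax⟩ := (wellFounded_gt (α := Subobject F)).has_min S hSne
    have hle : ∀ j : Idx F, imageSubobject j.hom ≤ imageSubobject j0.hom := by
      intro j
      obtain ⟨k, a, b, -⟩ := IsFilteredOrEmpty.cocone_objs j0 j
      have h0 : imageSubobject j0.hom ≤ imageSubobject k.hom := by
        rw [← a.2]
        exact imageSubobject_comp_le _ _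
      have h1 : imageSubobject j.hom ≤ imageSubobject k.hom := by
        rw [← b.2]
        exact imageSubobject_comp_le _ _
      have h2 : imageSubobject k.hom = imageSubobject j0.hom := by
        by_contra hne
        exact hmax _ ⟨k, rfl⟩ (lt_of_le_of_ne h0 (Ne.symm hne))
      exact h2 ▸ h1
    have hfac : ∀ j : Idx F, (imageSubobject j0.hom).Factors j.hom := by
      intro j
      have h1 : (imageSubobject j.hom).Factors j.hom := by
        have := Subobject.factors_comp_arrow (factorThruImageSubobject j.hom)
        rwa [imageSubobject_arrow_comp] at this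
      exact Subobject.factors_of_le _ (hle j) h1
    let c' : Cocone (Dfun F) :=
      { pt := ((imageSubobject j0.hom : Subobject F) : EtCoh.Ab X)
        ι :=
          { app := fun j => (imageSubobject j0.hom).factorThru j.hom (hfac j)
            naturality := fun j j' f => by
              rw [← cancel_mono (imageSubobject j0.hom).arrow]
              show (f.1 ≫ (imageSubobject j0.hom).factorThru j'.hom (hfac j')) ≫
                  (imageSubobject j0.hom).arrow =
                ((imageSubobject j0.hom).factorThru j.hom (hfac j) ≫ 𝟙 _) ≫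
                  (imageSubobject j0.hom).arrow
              rw [Category.assoc, Subobject.factorThru_arrow, Category.comp_id,
                Subobject.factorThru_arrow, f.2] } }
    let σ : F ⟶ ((imageSubobject j0.hom : Subobject F) : EtCoh.Ab X) :=
      (isColimitCocone F hF).desc c'
    have hσ : σ ≫ (imageSubobject j0.hom).arrow = 𝟙 F := by
      apply (isColimitCocone F hF).hom_ext
      intro j
      have h1 : (cocone F).ι.app j ≫ σ = c'.ι.app j := (isColimitCocone F hF).fac c' j
      rw [← Category.assoc, h1]
      show (imageSubobject j0.hom).factorThru j.hom (hfac j) ≫ (imageSubobject j0.hom).arrow =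
        j.hom ≫ 𝟙 F
      rw [Subobject.factorThru_arrow, Category.comp_id]
    haveI : IsSplitEpi (imageSubobject j0.hom).arrow := ⟨⟨⟨σ, hσ⟩⟩⟩
    haveI : IsIso (imageSubobject j0.hom).arrow := isIso_of_mono_of_epi _
    have hM : EtPBC.IsConstructible ((imageSubobject j0.hom : Subobject F) : EtCoh.Ab X) :=
      main41 X (factorThruImageSubobject j0.hom) j0.P.isConstructible
    exact isConstructible_of_iso (asIso (imageSubobject j0.hom).arrow) hM

end Noeth

end

end Groth.Agent.Lib.EtInd
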