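import Mathlib
import Groth.Agent.Lib.EtInd5_lead
import Groth.Agent.Lib.Constr_lead

/-!
# Torsion sheaves with vanishing generic stalk (lead)

On an irreducible qcqs scheme, a torsion sheaf whose generic stalk vanishes is a filtered colimit
of constructible sheaves supported on proper closed subsets.
-/

set_option autoImplicit false
set_option linter.unusedSimpArgs false
set_option linter.unusedVariables false
set_option linter.unusedSectionVars false
set_option linter.style.longLine false
set_option linter.unnecessarySimpa false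
set_option linter.style.haveILetI false
set_option maxHeartbeats 1600000
set_option backward.isDefEq.respectTransparency false
set_option backward.isDefEq.respectTransparency.types false
set_option backward.defeqAttrib.useBackward true

open CategoryTheory CategoryTheory.Limits AlgebraicGeometry Opposite Topology TopologicalSpace

namespace Groth.Agent.Lib.EtInd

open Groth.Agent.Lib.EtPull Groth.Agent.Lib.EtCons Groth.Agent.Lib.EtLocConst
  Groth.Agent.Lib.EtSchSite_helper7 Groth.Agent.Lib.EtSchExact_helper7 Groth.Agent.Lib.EtSub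
  Groth.Agent.Lib.EtSupp Groth.Agent.Lib.EtExtZ Groth.Agent.Lib.EtPres
  Groth.Agent.Lib.Constr_lead

universe u

noncomputable section

variable {X : Scheme.{u}}

section KillStalk

/-- an element of the stalk of `G` dying in `F` is the germ of a section over an affine étale
neighbourhood which dies in `F`. -/
theorem exists_affine_germ_vanish {Ω : Type u} [Field Ω] [IsSepClosed Ω]
    (ξ : Spec (CommRingCat.of Ω) ⟶ X) {G F : EtCoh.Ab X} (g : G ⟶ F)
    (x : ToType ((EtCoh.stalk ξ).obj G)) (hx : (EtCoh.stalk ξ).map g x = 0) :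
    ∃ (V : X.Etale) (_ : IsAffine V.left) (y : (Scheme.pointSmallEtale ξ).fiber.obj V)
      (p : G.obj.obj (op V)),
      (Scheme.pointSmallEtale ξ).toPresheafFiber V y G.obj p = x ∧
        (g.hom.app (op V)).hom p = 0 := by
  obtain ⟨V, hV, y, p, rfl⟩ := exists_affine_germ G ξ x
  have h1 : (Scheme.pointSmallEtale ξ).toPresheafFiber V y F.obj ((g.hom.app (op V)).hom p) = 0 :=
    ((Scheme.pointSmallEtale ξ).toPresheafFiber_naturality_apply g.hom V y p).symm.trans hx
  obtain ⟨V', hV', i, y', hy', hz⟩ := exists_affine_vanish ξ F V y _ h1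
  refine ⟨V', hV', y', (G.obj.map i.op).hom p, ?_, ?_⟩
  · have := (Scheme.pointSmallEtale ξ).toPresheafFiber_w_apply i y' G.obj p
    rw [hy'] at this
    exact this
  · have nat := congrArg (fun m => m.hom p) (g.hom.naturality i.op)
    exact nat.trans hz

variable [CompactSpace X] [QuasiSeparatedSpace X]

/-- if the stalk map of `g : G ⟶ F` at `ξ` vanishes (`G` constructible), some constructible
quotient of `G` over `F` has vanishing stalk at `ξ`. -/
theorem exists_kill_stalk {Ω : Type u} [Field Ω] [IsSepClosed Ω]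
    (ξ : Spec (CommRingCat.of Ω) ⟶ X) {G F : EtCoh.Ab X} (hG : EtPBC.IsConstructible G)
    (g : G ⟶ F) (hz : ∀ x : ToType ((EtCoh.stalk ξ).obj G), (EtCoh.stalk ξ).map g x = 0) :
    ∃ (G' : EtCoh.Ab X) (_ : EtPBC.IsConstructible G') (q : G ⟶ G') (g' : G' ⟶ F),
      q ≫ g' = g ∧ IsZero ((EtCoh.stalk ξ).obj G') := by
  classical
  obtain ⟨N, hN, hNG⟩ := exists_nsmul_id_eq_zero G hG
  have hk := killedBy_of_nsmul_id N G hNG
  haveI := finite_stalk_of_constructible G hG ξ
  choose V hV y p hp hgp using fun x : ToType ((EtCoh.stalk ξ).obj G) =>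
    exists_affine_germ_vanish ξ g x (hz x)
  let ϕ : (⨁ fun x : ToType ((EtCoh.stalk ξ).obj G) => LZ N (V x)) ⟶ G :=
    biproduct.desc (fun x => phi N G (V x) (p x) (hk _ _))
  have hϕg : ϕ ≫ g = 0 := by
    apply biproduct.hom_ext'
    intro x
    rw [← Category.assoc, biproduct.ι_desc, comp_zero]
    apply LZ_hom_ext
    show (g.hom.app (op (V x))).hom
        (((phi N G (V x) (p x) (hk _ _)).hom.app (op (V x))).hom (univSec N (V x))) =
      ((0 : LZ N (V x) ⟶ F).hom.app (op (V x))).hom (univSec N (V x))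
    rw [phi_univSec, hgp x]
    exact (congrArg (fun h => h (univSec N (V x)))
      (map_zero (evalHom (LZ N (V x)) F (V x)))).symm
  have hP : EtPBC.IsConstructible
      (⨁ fun x : ToType ((EtCoh.stalk ξ).obj G) => LZ N (V x)) :=
    isConstructible_biproduct _ (fun x => by
      haveI := hV x
      exact isConstructible_LZ N hN (V x))
  refine ⟨cokernel ϕ, (main31 ϕ hP hG).2, cokernel.π ϕ, cokernel.desc ϕ g hϕg,
    cokernel.π_desc _ _ _, ?_⟩
  have hsurj : Function.Surjective ((EtCoh.stalk ξ).map ϕ) := by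
    intro x
    have h1 : (EtCoh.stalk ξ).map
        (biproduct.ι (fun x : ToType ((EtCoh.stalk ξ).obj G) => LZ N (V x)) x) ≫
        (EtCoh.stalk ξ).map ϕ = (EtCoh.stalk ξ).map (phi N G (V x) (p x) (hk _ _)) := by
      rw [← Functor.map_comp, biproduct.ι_desc]
    let g0 := (Scheme.pointSmallEtale ξ).toPresheafFiber (V x) (y x) (LZ N (V x)).obj
      (univSec N (V x))
    refine ⟨((EtCoh.stalk ξ).map
      (biproduct.ι (fun x : ToType ((EtCoh.stalk ξ).obj G) => LZ N (V x)) x)) g0, ?_⟩
    have h2 := congrArg (fun m => (ConcreteCategory.hom m) g0) h1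
    exact h2.trans ((germ_mem_range N G (V x) (p x) (hk _ _) ξ (y x)).trans (hp x))
  haveI : Epi ((EtCoh.stalk ξ).map ϕ) := (AddCommGrpCat.epi_iff_surjective _).2 hsurj
  exact IsZero.of_iso (isZero_cokernel_of_epi ((EtCoh.stalk ξ).map ϕ))
    (PreservesCokernel.iso (EtCoh.stalk ξ) ϕ)

end KillStalk

section Generic

variable [CompactSpace X] [QuasiSeparatedSpace X] [IrreducibleSpace X]

/-- presented constructible sheaves over `F` with vanishing generic stalk. -/
structure Idx0 (F : EtCoh.Ab X) : Type (u + 1) where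
  j : Idx F
  h : genericPoint X ∉ EtPBC.supp j.P.sheaf

instance idx0Category (F : EtCoh.Ab X) : Category.{u + 1} (Idx0 F) where
  Hom a b := a.j ⟶ b.j
  id a := 𝟙 a.j
  comp f g := f ≫ g
  id_comp f := Category.id_comp (obj := Idx F) f
  comp_id f := Category.comp_id (obj := Idx F) f
  assoc f g h := Category.assoc (obj := Idx F) f g h

/-- the inclusion into all presented constructible sheaves over `F`. -/
def incl (F : EtCoh.Ab X) : Idx0 F ⥤ Idx F where
  obj a := a.j
  map f := f
  map_id _ := rfl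
  map_comp _ _ := rfl

theorem exists_to_idx0 (F : EtCoh.Ab X) (hη : genericPoint X ∉ EtPBC.supp F) (j : Idx F) :
    ∃ a : Idx0 F, Nonempty (j ⟶ a.j) := by
  obtain ⟨Ω, iF, iS, ξ, hξ⟩ := exists_geometric_point X (genericPoint X)
  have hd : ξ.base (default : ↥(Spec (CommRingCat.of Ω))) = genericPoint X :=
    base_default_of_range ξ hξ
  have hzF : IsZero ((EtCoh.stalk ξ).obj F) := by
    by_contra hnz
    exact hη ⟨Ω, iF, iS, ξ, hξ, hnz⟩
  haveI : Subsingleton (ToType ((EtCoh.stalk ξ).obj F)) :=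
    AddCommGrpCat.subsingleton_of_isZero hzF
  obtain ⟨G', hG', q, g', hq, hz'⟩ := exists_kill_stalk ξ j.P.isConstructible j.hom
    (fun x => Subsingleton.elim _ _)
  obtain ⟨k, e, he⟩ := exists_idx F hG' g'
  have hk : genericPoint X ∉ EtPBC.supp k.P.sheaf := by
    have hzk : IsZero ((EtCoh.stalk ξ).obj k.P.sheaf) :=
      IsZero.of_iso hz' ((EtCoh.stalk ξ).mapIso e)
    have := not_mem_supp_of_isZero_stalk _ k.P.isConstructible ξ hzk
    rwa [hd] at this
  exact ⟨⟨k, hk⟩, ⟨⟨q ≫ e.inv, by rw [Category.assoc, ← he, e.inv_hom_id_assoc, hq]⟩⟩⟩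

theorem idx0_isFiltered (F : EtCoh.Ab X) (hη : genericPoint X ∉ EtPBC.supp F) :
    IsFiltered (Idx0 F) := by
  haveI : IsFilteredOrEmpty (Idx0 F) :=
    { cocone_objs := fun a b => by
        obtain ⟨k, f, g, -⟩ := IsFilteredOrEmpty.cocone_objs a.j b.j
        obtain ⟨c, ⟨m⟩⟩ := exists_to_idx0 F hη k
        let fm : a.j ⟶ c.j := f ≫ m
        let gm : b.j ⟶ c.j := g ≫ m
        exact ⟨c, fm, gm, trivial⟩
      cocone_maps := fun a b f g => by
        let f' : a.j ⟶ b.j := f
        let g' : a.j ⟶ b.j := g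
        obtain ⟨k, h, hh⟩ := IsFilteredOrEmpty.cocone_maps f' g'
        obtain ⟨c, ⟨m⟩⟩ := exists_to_idx0 F hη k
        let hm : b.j ⟶ c.j := h ≫ m
        refine ⟨c, hm, ?_⟩
        have hf : f' ≫ hm = g' ≫ hm := by
          show f' ≫ h ≫ m = g' ≫ h ≫ m
          rw [← Category.assoc, hh, Category.assoc]
        exact hf }
  haveI : Nonempty (Idx0 F) := by
    obtain ⟨c, -⟩ := exists_to_idx0 F hη (idx_nonempty F).some
    exact ⟨c⟩
  exact {}

theorem incl_final (F : EtCoh.Ab X) (hη : genericPoint X ∉ EtPBC.supp F) :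
    (incl F).Final := by
  haveI := idx0_isFiltered F hη
  apply Functor.final_of_exists_of_isFiltered
  · intro d
    obtain ⟨c, hc⟩ := exists_to_idx0 F hη d
    exact ⟨c, hc⟩
  · intro d c s s'
    let s1 : d ⟶ c.j := s
    let s2 : d ⟶ c.j := s'
    obtain ⟨k, h, hh⟩ := IsFilteredOrEmpty.cocone_maps s1 s2
    obtain ⟨c', ⟨m⟩⟩ := exists_to_idx0 F hη k
    let hm : c.j ⟶ c'.j := h ≫ m
    refine ⟨c', hm, ?_⟩
    have hf : s1 ≫ hm = s2 ≫ hm := by
      show s1 ≫ h ≫ m = s2 ≫ h ≫ m
      rw [← Category.assoc, hh, Category.assoc]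
    exact hf

theorem main0173 (X : Scheme.{u}) [CompactSpace X] [QuasiSeparatedSpace X]
    [IrreducibleSpace X] (F : EtCoh.Ab X) (hF : EtCoh.IsTorsion F)
    (hη : genericPoint X ∉ EtPBC.supp F) :
    ∃ (J : Type (u + 1)) (_ : SmallCategory J) (_ : IsFiltered J) (D : J ⥤ EtCoh.Ab X)
      (c : Cocone D) (_ : IsColimit c), Nonempty (c.pt ≅ F) ∧
      ∀ j, EtPBC.IsConstructible (D.obj j) ∧
        ∃ Z : Set X, IsClosed Z ∧ genericPoint X ∉ Z ∧ EtPBC.supp (D.obj j) ⊆ Z := by
  haveI := incl_final F hη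
  refine ⟨Idx0 F, idx0Category F, idx0_isFiltered F hη, incl F ⋙ Dfun F,
    (cocone F).whisker (incl F),
    (Functor.Final.isColimitWhiskerEquiv (incl F) (cocone F)).symm (isColimitCocone F hF),
    ⟨Iso.refl _⟩, fun a => ⟨a.j.P.isConstructible, ?_⟩⟩
  have hE := isConstructible_supp _ a.j.P.isConstructible
  obtain ⟨U, hU, hηU, h⟩ := exists_open_generic_of_isConstructible hE (genericPoint_spec X)
  refine ⟨Uᶜ, hU.isClosed_compl, fun h' => h' hηU, ?_⟩
  rcases h with h | h
  · exact absurd (h ⟨hηU, trivial⟩) a.h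
  · intro z hz hzU
    exact h ⟨hzU, trivial⟩ hz

end Generic

end

end Groth.Agent.Lib.EtInd
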