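import Mathlib

/-!
# Extension by zero `j_!` for the localized site `Over U` (large sites; adapted by helper7 from
helper2's `OverShriek_helper2`, universe levels changed: `C : Type (u+1)`, `Category.{u} C`,
sheaves valued in `AddCommGrpCat.{u+1}`)

For an object `U` of a small category `C`, the restriction functor
`j^* : PSh(C) ⥤ PSh(Over U)` (precomposition with `Over.forget U`) has the left adjoint
`(j_! Q)(W) = ∐_{f : W ⟶ U} Q(f)`.  This functor preserves monomorphisms; sheafifying gives the
left adjoint of `J.overPullback`, which is exact.  Consequently the restriction of sheaves to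
`Over U` preserves injectives and K-injective complexes.
-/

set_option autoImplicit false
universe u
open CategoryTheory Limits Opposite

namespace Groth.Agent.Lib.OverShriekBig_helper7

variable {C : Type (u+1)} [Category.{u} C] {U : C}

instance ab5' : AB5OfSize.{u, u} AddCommGrpCat.{u+1} :=
  AB5OfSize_of_univLE.{u, u, u+1, u+1} AddCommGrpCat.{u+1}

instance ab4' : AB4OfSize.{u} AddCommGrpCat.{u+1} := AB4.of_AB5 _

section Pre

variable (Q : (Over U)ᵒᵖ ⥤ AddCommGrpCat.{u+1})

/-- the summands of `(j_! Q)(W)` -/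
abbrev summand (W : C) (f : W ⟶ U) : AddCommGrpCat.{u+1} := Q.obj (op (Over.mk f))

/-- `(j_! Q)(W) = ∐_{f : W ⟶ U} Q(f)` -/
noncomputable abbrev shObj (W : C) : AddCommGrpCat.{u+1} := ∐ (summand Q W)

/-- the inclusion of a summand -/
noncomputable abbrev ι (W : C) (f : W ⟶ U) : Q.obj (op (Over.mk f)) ⟶ shObj Q W :=
  Sigma.ι (summand Q W) f

/-- the morphism `g : (W', g ≫ f) ⟶ (W, f)` of `Over U` -/
def hm {W' W : C} (g : W' ⟶ W) (f : W ⟶ U) : Over.mk (g ≫ f) ⟶ Over.mk f := Over.homMk g rfl

@[simp] lemma hm_left {W' W : C} (g : W' ⟶ W) (f : W ⟶ U) : (hm g f).left = g := rfl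

/-- key transport lemma -/
lemma ι_eq {W : C} {f₁ f₂ : W ⟶ U} (h : f₁ = f₂) {V : Over U} (a₁ : Over.mk f₁ ⟶ V)
    (a₂ : Over.mk f₂ ⟶ V) (ha : a₁.left = a₂.left) :
    Q.map a₁.op ≫ ι Q W f₁ = Q.map a₂.op ≫ ι Q W f₂ := by
  subst h
  have : a₁ = a₂ := Over.OverMorphism.ext ha
  rw [this]

/-- restriction maps of `j_! Q` -/
noncomputable def shMap {W' W : C} (g : W' ⟶ W) : shObj Q W ⟶ shObj Q W' :=
  Sigma.desc (fun f => Q.map (hm g f).op ≫ ι Q W' (g ≫ f))

@[reassoc (attr := simp)]
lemma ι_shMap {W' W : C} (g : W' ⟶ W) (f : W ⟶ U) :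
    ι Q W f ≫ shMap Q g = Q.map (hm g f).op ≫ ι Q W' (g ≫ f) := by
  unfold shMap
  exact Sigma.ι_desc _ _

lemma shMap_id (W : C) : shMap Q (𝟙 W) = 𝟙 (shObj Q W) := by
  apply Sigma.hom_ext
  intro f
  have h1 := ι_shMap Q (𝟙 W) f
  have h2 := ι_eq Q (Category.id_comp f) (hm (𝟙 W) f) (𝟙 (Over.mk f)) rfl
  rw [op_id, Q.map_id] at h2
  exact h1.trans (h2.trans ((Category.id_comp _).trans (Category.comp_id _).symm))

lemma shMap_comp {W'' W' W : C} (g' : W'' ⟶ W') (g : W' ⟶ W) :
    shMap Q (g' ≫ g) = shMap Q g ≫ shMap Q g' := by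
  apply Sigma.hom_ext
  intro f
  have h1 := ι_shMap Q (g' ≫ g) f
  have h2 := ι_eq Q (Category.assoc g' g f) (hm (g' ≫ g) f) (hm g' (g ≫ f) ≫ hm g f) rfl
  rw [op_comp, Q.map_comp] at h2
  refine h1.trans (h2.trans ((Category.assoc _ _ _).trans ?_))
  have h3 := ι_shMap_assoc Q g f (shMap Q g')
  rw [ι_shMap] at h3
  exact h3.symm

/-- the presheaf `j_! Q` -/
noncomputable def shriekObj : Cᵒᵖ ⥤ AddCommGrpCat.{u+1} where
  obj W := shObj Q W.unop
  map φ := shMap Q φ.unop
  map_id W := shMap_id Q W.unop
  map_comp φ ψ := shMap_comp Q ψ.unop φ.unop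

end Pre

/-- `j_!` on morphisms -/
noncomputable def shNat {Q Q' : (Over U)ᵒᵖ ⥤ AddCommGrpCat.{u+1}} (α : Q ⟶ Q') (W : C) :
    shObj Q W ⟶ shObj Q' W :=
  Limits.Sigma.map (fun f => α.app (op (Over.mk f)))

@[reassoc (attr := simp)]
lemma ι_shNat {Q Q' : (Over U)ᵒᵖ ⥤ AddCommGrpCat.{u+1}} (α : Q ⟶ Q') (W : C) (f : W ⟶ U) :
    ι Q W f ≫ shNat α W = α.app (op (Over.mk f)) ≫ ι Q' W f := by
  unfold shNat
  exact Limits.Sigma.ι_map _ _

lemma shNat_naturality {Q Q' : (Over U)ᵒᵖ ⥤ AddCommGrpCat.{u+1}} (α : Q ⟶ Q') {W' W : C}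
    (g : W' ⟶ W) : shMap Q g ≫ shNat α W' = shNat α W ≫ shMap Q' g := by
  apply Sigma.hom_ext
  intro f
  have h1 := ι_shMap_assoc Q g f (shNat α W')
  have h2 := ι_shNat_assoc α W f (shMap Q' g)
  rw [ι_shNat] at h1
  rw [ι_shMap] at h2
  refine h1.trans (Eq.trans ?_ h2.symm)
  rw [← Category.assoc, ← Category.assoc, α.naturality]

variable (U) in
/-- the presheaf-level extension by zero -/
noncomputable def shriekPre :
    ((Over U)ᵒᵖ ⥤ AddCommGrpCat.{u+1}) ⥤ (Cᵒᵖ ⥤ AddCommGrpCat.{u+1}) where
  obj Q := shriekObj Q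
  map α := { app := fun W => shNat α W.unop
             naturality := fun _ _ φ => shNat_naturality α φ.unop }
  map_id Q := by
    apply NatTrans.ext
    funext W
    apply Sigma.hom_ext
    intro f
    have h1 := ι_shNat (𝟙 Q) W.unop f
    refine h1.trans ?_
    rw [NatTrans.id_app, Category.id_comp]
    exact (Category.comp_id _).symm
  map_comp α β := by
    apply NatTrans.ext
    funext W
    apply Sigma.hom_ext
    intro f
    have h1 := ι_shNat (α ≫ β) W.unop f
    refine h1.trans ?_
    have h2 := ι_shNat_assoc α W.unop f (shNat β W.unop)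
    rw [ι_shNat] at h2
    rw [NatTrans.comp_app, Category.assoc]
    exact h2.symm

variable (U) in
/-- restriction of presheaves to `Over U` -/
abbrev restrPre : (Cᵒᵖ ⥤ AddCommGrpCat.{u+1}) ⥤ ((Over U)ᵒᵖ ⥤ AddCommGrpCat.{u+1}) :=
  (Functor.whiskeringLeft (Over U)ᵒᵖ Cᵒᵖ AddCommGrpCat.{u+1}).obj (Over.forget U).op

section Adj

variable (Q : (Over U)ᵒᵖ ⥤ AddCommGrpCat.{u+1}) (P : Cᵒᵖ ⥤ AddCommGrpCat.{u+1})

/-- forward direction of the hom-equivalence -/
noncomputable def toRestr (φ : shriekObj Q ⟶ P) : Q ⟶ (restrPre U).obj P where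
  app V := ι Q V.unop.left V.unop.hom ≫ φ.app (op V.unop.left)
  naturality V V' a := by
    have h1 : shMap Q a.unop.left ≫ φ.app (op V'.unop.left) =
        φ.app (op V.unop.left) ≫ P.map (a.unop.left).op := φ.naturality (a.unop.left).op
    have h2 : ι Q V.unop.left V.unop.hom ≫ shMap Q a.unop.left =
        Q.map a ≫ ι Q V'.unop.left V'.unop.hom :=
      (ι_shMap Q a.unop.left V.unop.hom).trans
        (ι_eq Q (Over.w a.unop) (V := V.unop) (hm a.unop.left V.unop.hom) a.unop rfl)
    show Q.map a ≫ (ι Q V'.unop.left V'.unop.hom ≫ φ.app (op V'.unop.left)) =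
      (ι Q V.unop.left V.unop.hom ≫ φ.app (op V.unop.left)) ≫ P.map (a.unop.left).op
    exact (Category.assoc _ _ _).symm.trans
      ((congrArg (fun t => t ≫ φ.app (op V'.unop.left)) h2.symm).trans
        ((Category.assoc _ _ _).trans
          ((congrArg (fun t => ι Q V.unop.left V.unop.hom ≫ t) h1).trans
            (Category.assoc _ _ _).symm)))

/-- the components of the backward direction -/
noncomputable def descApp (ψ : Q ⟶ (restrPre U).obj P) (W : C) : shObj Q W ⟶ P.obj (op W) :=
  Sigma.desc (fun f => ψ.app (op (Over.mk f)))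

@[reassoc]
lemma ι_descApp (ψ : Q ⟶ (restrPre U).obj P) (W : C) (f : W ⟶ U) :
    ι Q W f ≫ descApp Q P ψ W = ψ.app (op (Over.mk f)) := by
  unfold descApp
  exact Sigma.ι_desc _ _

/-- backward direction of the hom-equivalence -/
noncomputable def ofRestr (ψ : Q ⟶ (restrPre U).obj P) : shriekObj Q ⟶ P where
  app W := descApp Q P ψ W.unop
  naturality W W' φ := by
    show shMap Q φ.unop ≫ descApp Q P ψ W'.unop = descApp Q P ψ W.unop ≫ P.map φ
    apply Sigma.hom_ext
    intro f
    have h1 := ι_shMap_assoc Q φ.unop f (descApp Q P ψ W'.unop)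
    rw [ι_descApp] at h1
    have h2 := ι_descApp_assoc Q P ψ W.unop f (P.map φ)
    have h3 : Q.map (hm φ.unop f).op ≫ ψ.app (op (Over.mk (φ.unop ≫ f))) =
        ψ.app (op (Over.mk f)) ≫ P.map φ := ψ.naturality (hm φ.unop f).op
    exact h1.trans (h3.trans h2.symm)

/-- the hom-equivalence of `j_! ⊣ j^*` on presheaves -/
noncomputable def homEquiv : (shriekObj Q ⟶ P) ≃ (Q ⟶ (restrPre U).obj P) where
  toFun := toRestr Q P
  invFun := ofRestr Q P
  left_inv φ := by
    apply NatTrans.ext
    funext W
    apply Sigma.hom_ext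
    intro f
    exact ι_descApp Q P (toRestr Q P φ) W.unop f
  right_inv ψ := by
    apply NatTrans.ext
    funext V
    exact ι_descApp Q P ψ V.unop.left V.unop.hom

end Adj

variable (U) in
/-- `j_! ⊣ j^*` on presheaves -/
noncomputable def adjPre : shriekPre U ⊣ restrPre U :=
  Adjunction.mkOfHomEquiv
    { homEquiv := fun Q P => homEquiv Q P
      homEquiv_naturality_left_symm := by
        intro Q' Q P α ψ
        apply NatTrans.ext
        funext W
        apply Sigma.hom_ext
        intro f
        have h1 := ι_descApp Q' P (α ≫ ψ) W.unop f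
        have h2 := ι_shNat_assoc α W.unop f (descApp Q P ψ W.unop)
        rw [ι_descApp] at h2
        exact h1.trans h2.symm
      homEquiv_naturality_right := by
        intro Q P P' φ β
        apply NatTrans.ext
        funext V
        exact (Category.assoc _ _ _).symm }

instance : (shriekPre U).PreservesMonomorphisms where
  preserves {Q Q'} α hα := by
    haveI : ∀ V, Mono (α.app V) := fun V => (NatTrans.mono_iff_mono_app α).1 hα V
    haveI : ∀ W, Mono (((shriekPre U).map α).app W) := by
      intro W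
      let φ : Discrete.functor (summand Q W.unop) ⟶ Discrete.functor (summand Q' W.unop) :=
        Discrete.natTrans (fun f => α.app (op (Over.mk f.as)))
      haveI : ∀ j, Mono (φ.app j) := fun j => inferInstanceAs (Mono (α.app _))
      haveI : Mono φ := NatTrans.mono_of_mono_app φ
      exact colim.map_mono' φ (colimit.isColimit _) (colimit.isColimit _) _
        (fun j => ι_shNat α W.unop j.as)
    exact NatTrans.mono_of_mono_app _

section KInj

variable {A B : Type*} [Category A] [Category B] [Abelian A] [Abelian B]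
  {L : A ⥤ B} {R : B ⥤ A} (adj : L ⊣ R) [L.Additive] [R.Additive]
  [PreservesFiniteLimits L] [PreservesFiniteColimits L]

include adj in
/-- a right adjoint of an exact functor preserves K-injective complexes -/
theorem isKInjective_map (I : CochainComplex B ℤ) [I.IsKInjective] :
    CochainComplex.IsKInjective ((R.mapHomologicalComplex (ComplexShape.up ℤ)).obj I) where
  nonempty_homotopy_zero {K} f hK := by
    let g : (L.mapHomologicalComplex (ComplexShape.up ℤ)).obj K ⟶ I :=
      { f := fun i => (adj.homEquiv _ _).symm (f.f i)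
        comm' := fun i j _ => by
          show (adj.homEquiv _ _).symm (f.f i) ≫ I.d i j =
            L.map (K.d i j) ≫ (adj.homEquiv _ _).symm (f.f j)
          rw [← adj.homEquiv_naturality_left_symm, ← adj.homEquiv_naturality_right_symm]
          congr 1
          exact f.comm i j }
    have hLK : ((L.mapHomologicalComplex (ComplexShape.up ℤ)).obj K).Acyclic :=
      fun i => ShortComplex.Exact.map (hK i) L
    obtain ⟨h⟩ := CochainComplex.IsKInjective.nonempty_homotopy_zero g hLK
    refine ⟨{ hom := fun i j => adj.homEquiv _ _ (h.hom i j), zero := ?_, comm := ?_ }⟩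
    · intro i j hij
      rw [h.zero i j hij]
      exact adj.homAddEquiv_zero _ _
    · intro i
      have h1 := h.comm i
      have h2 : f.f i = adj.homEquiv _ _ (g.f i) := ((adj.homEquiv _ _).apply_symm_apply _).symm
      have e1 : dNext (C := K) (D := (R.mapHomologicalComplex (ComplexShape.up ℤ)).obj I) i
          (fun i j => adj.homEquiv (K.X i) (I.X j) (h.hom i j)) =
          adj.homEquiv (K.X i) (I.X i) (dNext i h.hom) := by
        show K.d i _ ≫ adj.homEquiv _ _ (h.hom _ i) =
          adj.homEquiv _ _ (L.map (K.d i _) ≫ h.hom _ i)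
        rw [adj.homEquiv_naturality_left]
      have e2 : prevD (C := K) (D := (R.mapHomologicalComplex (ComplexShape.up ℤ)).obj I) i
          (fun i j => adj.homEquiv (K.X i) (I.X j) (h.hom i j)) =
          adj.homEquiv (K.X i) (I.X i) (prevD i h.hom) := by
        show adj.homEquiv _ _ (h.hom i _) ≫ R.map (I.d _ i) =
          adj.homEquiv _ _ (h.hom i _ ≫ I.d _ i)
        rw [adj.homEquiv_naturality_right]
      rw [e1, e2, h2, h1]
      exact (adj.homAddEquiv_add _ _ _ _).trans (congrArg₂ (· + ·) (adj.homAddEquiv_add _ _ _ _)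
        (adj.homAddEquiv_zero _ _))

end KInj

section Sheaf

variable (U) (J : GrothendieckTopology C)

/-- restriction of sheaves to `Over U` -/
noncomputable abbrev restr : Sheaf J AddCommGrpCat.{u+1} ⥤ Sheaf (J.over U) AddCommGrpCat.{u+1} :=
  (Over.forget U).sheafPushforwardContinuous AddCommGrpCat.{u+1} (J.over U) J

/-- extension by zero of sheaves -/
noncomputable def shriek : Sheaf (J.over U) AddCommGrpCat.{u+1} ⥤ Sheaf J AddCommGrpCat.{u+1} :=
  sheafToPresheaf (J.over U) AddCommGrpCat.{u+1} ⋙ shriekPre U ⋙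
    presheafToSheaf J AddCommGrpCat.{u+1}

/-- `j_! ⊣ j^*` on sheaves -/
noncomputable def adj : shriek U J ⊣ restr U J :=
  ((adjPre U).comp (sheafificationAdjunction J AddCommGrpCat.{u+1})).restrictFullyFaithful
    (fullyFaithfulSheafToPresheaf (J.over U) AddCommGrpCat.{u+1}) (Functor.FullyFaithful.id _)
    (Iso.refl _) (Iso.refl _)

instance : (shriek U J).PreservesMonomorphisms := by
  unfold shriek
  haveI : (sheafToPresheaf (J.over U) AddCommGrpCat.{u+1}).PreservesMonomorphisms :=
    Functor.preservesMonomorphisms_of_adjunction (sheafificationAdjunction _ _)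
  haveI : (presheafToSheaf J AddCommGrpCat.{u+1}).PreservesMonomorphisms := inferInstance
  infer_instance

instance restr_injective (I : Sheaf J AddCommGrpCat.{u+1}) [Injective I] :
    Injective ((restr U J).obj I) :=
  Injective.injective_of_adjoint (adj U J) I

instance : (restr U J).Additive where

instance : (shriek U J).Additive := (adj U J).left_adjoint_additive

instance : PreservesFiniteColimits (shriek U J) := by
  haveI : PreservesColimitsOfSize.{u, u} (shriek U J) := (adj U J).leftAdjoint_preservesColimits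
  exact PreservesColimitsOfSize.preservesFiniteColimits _

instance : PreservesFiniteLimits (shriek U J) :=
  (Functor.preservesFiniteLimits_iff_forall_exact_map_and_mono (shriek U J)).2 (fun S hS =>
    ⟨((Functor.preservesFiniteColimits_iff_forall_exact_map_and_epi (shriek U J)).1
      inferInstance S hS).1, by haveI := hS.mono_f; infer_instance⟩)

/-- restriction to `Over U` preserves K-injective complexes -/
theorem restr_isKInjective (I : CochainComplex (Sheaf J AddCommGrpCat.{u+1}) ℤ)
    (hI : I.IsKInjective) :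
    CochainComplex.IsKInjective
      (((restr U J).mapHomologicalComplex (ComplexShape.up ℤ)).obj I) :=
  isKInjective_map (adj U J) I

/-- restriction is exact -/
lemma restr_shortExact (S : ShortComplex (Sheaf J AddCommGrpCat.{u+1})) (hS : S.ShortExact) :
    (S.map (restr U J)).ShortExact := by
  haveI : PreservesColimitsOfSize.{u, u} (restr U J) :=
    ((Over.forget U).sheafAdjunctionCocontinuous AddCommGrpCat.{u+1} (J.over U)
      J).leftAdjoint_preservesColimits
  haveI : PreservesLimitsOfSize.{u, u} (restr U J) := (adj U J).rightAdjoint_preservesLimits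
  haveI : PreservesFiniteLimits (restr U J) := PreservesLimitsOfSize.preservesFiniteLimits _
  haveI : PreservesFiniteColimits (restr U J) := PreservesColimitsOfSize.preservesFiniteColimits _
  exact hS.map_of_exact (restr U J)

end Sheaf

end Groth.Agent.Lib.OverShriekBig_helper7
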