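import Mathlib
import Groth.Agent.Lib.EtInd6_lead
import Groth.Agent.Lib.EtColimH_helper8
import Groth.Agent.Lib.OverShriekBig_helper7

/-!
# Effaceability of cohomology classes inside constructible sheaves (lead)

For an injective abelian sheaf `I` and `N > 0`, the sections of `I` are divisible, hence
`0 → I[N] → I → I → 0` is exact and `I[N]` is acyclic.  A constructible sheaf killed by `N`
embeds in `I[N]`, a torsion sheaf, which is a filtered colimit of constructible sheaves; since
cohomology of a qcqs scheme commutes with directed colimits, every class dies at a finite stage.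
-/

set_option autoImplicit false
set_option linter.unusedSimpArgs false
set_option linter.unusedVariables false
set_option linter.unusedSectionVars false
set_option linter.style.longLine false
set_option linter.unnecessarySimpa false
set_option linter.style.haveILetI false
set_option maxHeartbeats 1600000
set_option backward.isDefEq.respectTransparency false
set_option backward.isDefEq.respectTransparency.types false
set_option backward.defeqAttrib.useBackward true

open CategoryTheory CategoryTheory.Limits AlgebraicGeometry Opposite Topology TopologicalSpace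

namespace Groth.Agent.Lib.EtEff

open Groth.Agent.Lib.EtPull Groth.Agent.Lib.EtCons Groth.Agent.Lib.EtLocConst
  Groth.Agent.Lib.EtSchSite_helper7 Groth.Agent.Lib.EtSchExact_helper7 Groth.Agent.Lib.EtSub
  Groth.Agent.Lib.EtSupp Groth.Agent.Lib.EtExtZ Groth.Agent.Lib.EtPres
  Groth.Agent.Lib.EtInd Groth.Agent.Lib.EtColimSecH8

universe u w

noncomputable section

section Div

/-- injective abelian groups are divisible. -/
theorem exists_nsmul_eq_of_injective (A : AddCommGrpCat.{w}) [Injective A] (N : ℕ) (hN : 0 < N)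
    (a : A) : ∃ b : A, N • b = a := by
  let Z : AddCommGrpCat.{w} := AddCommGrpCat.of (ULift.{w} ℤ)
  let mfun : ULift.{w} ℤ →+ ULift.{w} ℤ :=
    AddMonoidHom.mk' (fun z => N • z) (fun a b => nsmul_add a b N)
  let m : Z ⟶ Z := AddCommGrpCat.ofHom mfun
  haveI : Mono m := by
    rw [AddCommGrpCat.mono_iff_injective]
    intro a b hab
    have h1 : N • a.down = N • b.down := congrArg ULift.down hab
    apply ULift.ext
    rw [nsmul_eq_mul, nsmul_eq_mul] at h1
    exact mul_left_cancel₀ (by exact_mod_cast hN.ne') h1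
  let g : Z ⟶ A := AddCommGrpCat.ofHom ((zmultiplesHom A a).comp AddEquiv.ulift.toAddMonoidHom)
  have h := Injective.comp_factorThru g m
  refine ⟨(Injective.factorThru g m).hom (ULift.up 1), ?_⟩
  have h2 := congrArg (fun k => k.hom (ULift.up (1 : ℤ))) h
  have h3 : g.hom (ULift.up (1 : ℤ)) = a := by
    show (zmultiplesHom A a) (1 : ℤ) = a
    simp
  have h4 : (m ≫ Injective.factorThru g m).hom (ULift.up (1 : ℤ)) =
      N • (Injective.factorThru g m).hom (ULift.up 1) := by
    show (Injective.factorThru g m).hom (N • ULift.up (1 : ℤ)) = _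
    exact map_nsmul _ _ _
  exact h4.symm.trans (h2.trans h3)

variable {X : Scheme.{u}}

instance const_preservesMono {C : Type*} [Category C] {D : Type*} [Category D] :
    (Functor.const C : D ⥤ C ⥤ D).PreservesMonomorphisms where
  preserves {A B} f hf := by
    haveI : ∀ c : C, Mono (((Functor.const C).map f).app c) := fun c => hf
    exact NatTrans.mono_of_mono_app _

theorem LU_preservesMono (U : X.Etale) :
    (LU X.smallEtaleTopology AddCommGrpCat.{u + 1} U).PreservesMonomorphisms := by
  haveI h1 : (constantSheaf (X.smallEtaleTopology.over U)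
      AddCommGrpCat.{u + 1}).PreservesMonomorphisms := by
    unfold constantSheaf
    infer_instance
  haveI h2 : ((Over.forget U).sheafPullback AddCommGrpCat.{u + 1} (X.smallEtaleTopology.over U)
      X.smallEtaleTopology).PreservesMonomorphisms :=
    Functor.PreservesMonomorphisms.of_iso
      ((Groth.Agent.Lib.OverShriekBig_helper7.adj U X.smallEtaleTopology).leftAdjointUniq
        ((Over.forget U).sheafAdjunctionContinuous AddCommGrpCat.{u + 1}
          (X.smallEtaleTopology.over U) X.smallEtaleTopology))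
  unfold LU
  infer_instance

/-- sections of an injective sheaf form an injective abelian group. -/
theorem injective_sect (I : EtCoh.Ab X) [Injective I] (U : X.Etale) :
    Injective (I.obj.obj (op U)) := by
  haveI := LU_preservesMono U
  exact Injective.injective_of_adjoint (adjLU X.smallEtaleTopology AddCommGrpCat.{u + 1} U) I

theorem exists_nsmul_sect (I : EtCoh.Ab X) [Injective I] (N : ℕ) (hN : 0 < N) (U : X.Etale)
    (s : I.obj.obj (op U)) : ∃ t : I.obj.obj (op U), N • t = s := by
  haveI := injective_sect I U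
  exact exists_nsmul_eq_of_injective _ N hN s

theorem epi_nsmul_id (I : EtCoh.Ab X) [Injective I] (N : ℕ) (hN : 0 < N) : Epi (N • 𝟙 I) := by
  haveI : Sheaf.IsLocallySurjective (N • 𝟙 I) := by
    apply Presheaf.isLocallySurjective_of_surjective
    intro U s
    obtain ⟨t, ht⟩ := exists_nsmul_sect I N hN U.unop s
    refine ⟨t, ?_⟩
    have := nsmul_app I I U.unop N (𝟙 I) t
    exact this.trans ht
  infer_instance

end Div

section ExtLemmas

open Abelian

variable {C : Type*} [Category C] [Abelian C] [HasExt.{w} C]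

theorem mk₀_nsmul {A B : C} (n : ℕ) (f : A ⟶ B) : Ext.mk₀ (n • f) = n • Ext.mk₀ f := by
  induction n with
  | zero => rw [zero_nsmul, zero_nsmul, Ext.mk₀_zero]
  | succ n ih => rw [succ_nsmul, succ_nsmul, Ext.mk₀_add, ih]

theorem nsmul_comp' {A B D : C} {a b c : ℕ} (n : ℕ) (α : Ext A B a) (β : Ext B D b)
    (h : a + b = c) : (n • α).comp β h = n • α.comp β h := by
  induction n with
  | zero => rw [zero_nsmul, zero_nsmul, Ext.zero_comp]
  | succ n ih => rw [succ_nsmul, succ_nsmul, Ext.add_comp, ih]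

theorem comp_nsmul' {A B D : C} {a b c : ℕ} (n : ℕ) (α : Ext A B a) (β : Ext B D b)
    (h : a + b = c) : α.comp (n • β) h = n • α.comp β h := by
  induction n with
  | zero => rw [zero_nsmul, zero_nsmul, Ext.comp_zero]
  | succ n ih => rw [succ_nsmul, succ_nsmul, Ext.comp_add, ih]

/-- `Ext` into an object killed by `N` is killed by `N`. -/
theorem nsmul_ext_eq_zero {A K : C} (N : ℕ) (h : N • 𝟙 K = 0) {n : ℕ} (z : Ext A K n) :
    N • z = 0 := by
  have h1 : z.comp (Ext.mk₀ (N • 𝟙 K)) (add_zero n) = N • z := by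
    rw [mk₀_nsmul, comp_nsmul', Ext.comp_mk₀_id]
  rw [← h1, h, Ext.mk₀_zero, Ext.comp_zero]

end ExtLemmas

section Vanish

open Abelian

variable {X : Scheme.{u}} (I : EtCoh.Ab X) [Injective I] (N : ℕ) (hN : 0 < N)

include hN in
theorem shortExact_tors :
    (ShortComplex.mk (kernel.ι (N • 𝟙 I)) (N • 𝟙 I) (kernel.condition _)).ShortExact := by
  haveI := epi_nsmul_id I N hN
  refine ShortComplex.ShortExact.mk' ?_ (inferInstanceAs (Mono (kernel.ι (N • 𝟙 I))))
    (inferInstanceAs (Epi (N • 𝟙 I)))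
  exact ShortComplex.exact_of_f_is_kernel _ (kernelIsKernel _)

theorem nsmul_id_kernel : N • 𝟙 (kernel (N • 𝟙 I)) = 0 := by
  have e1 : (N • 𝟙 (kernel (N • 𝟙 I))) ≫ kernel.ι (N • 𝟙 I) = N • kernel.ι (N • 𝟙 I) := by
    rw [Preadditive.nsmul_comp, Category.id_comp]
  have e2 : kernel.ι (N • 𝟙 I) ≫ (N • 𝟙 I) = N • kernel.ι (N • 𝟙 I) := by
    rw [Preadditive.comp_nsmul, Category.comp_id]
  rw [← cancel_mono (kernel.ι (N • 𝟙 I)), zero_comp, e1, ← e2, kernel.condition]

include hN in
/-- `I[N]` is acyclic. -/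
theorem H_tors_vanish (q : ℕ) (hq : 0 < q) (x : EtCoh.H X (kernel (N • 𝟙 I)) q) : x = 0 := by
  have hS := shortExact_tors I N hN
  obtain ⟨q, rfl⟩ := Nat.exists_eq_succ_of_ne_zero hq.ne'
  have h1 : (x : Ext (ZZ X) (kernel (N • 𝟙 I)) (q + 1)).comp
      (Ext.mk₀ (kernel.ι (N • 𝟙 I))) (add_zero (q + 1)) = 0 :=
    Ext.eq_zero_of_injective _
  obtain ⟨x₃, hx₃⟩ := Ext.covariant_sequence_exact₁ (ZZ X) hS x h1 (rfl : q + 1 = q + 1)
  rw [← hx₃]
  cases q with
  | zero =>
    let e := Sheaf.H.equiv₀ I (EtCore.topIsTerminal X)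
    let x₃' : Sheaf.H I 0 := x₃
    obtain ⟨t, ht⟩ := exists_nsmul_sect I N hN (EtCoh.top X) (e x₃')
    have hy : N • e.symm t = x₃' :=
      (map_nsmul e.symm N t).symm.trans ((congrArg e.symm ht).trans (e.symm_apply_apply x₃'))
    have hy' : x₃ = N • (e.symm t : Ext (ZZ X) I 0) := hy.symm
    rw [hy', nsmul_comp']
    exact nsmul_ext_eq_zero N (nsmul_id_kernel I N) _
  | succ q =>
    have : x₃ = 0 := Ext.eq_zero_of_injective _
    rw [this, Ext.zero_comp]

end Vanish

section Main

open Abelian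

theorem main13504 (X : Scheme.{u}) [CompactSpace X] [QuasiSeparatedSpace X]
    (F : EtCoh.Ab X) (hF : EtPBC.IsConstructible F) (q : ℕ) (hq : 0 < q) (α : EtCoh.H X F q) :
    ∃ (G : EtCoh.Ab X) (u : F ⟶ G), EtPBC.IsConstructible G ∧ Mono u ∧
      (EtCoh.HF X q).map u α = 0 := by
  obtain ⟨N, hN, hNF⟩ := exists_nsmul_id_eq_zero F hF
  let I : EtCoh.Ab X := Injective.under F
  let i : F ⟶ I := Injective.ι F
  haveI : Injective I := inferInstanceAs (Injective (Injective.under F))
  haveI : Mono i := inferInstanceAs (Mono (Injective.ι F))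
  let K : EtCoh.Ab X := kernel (N • 𝟙 I)
  have hi : i ≫ (N • 𝟙 I) = 0 := by
    have e1 : i ≫ (N • 𝟙 I) = N • i := by rw [Preadditive.comp_nsmul, Category.comp_id]
    have e2 : (N • 𝟙 F) ≫ i = N • i := by rw [Preadditive.nsmul_comp, Category.id_comp]
    rw [e1, ← e2, hNF, zero_comp]
  let k : F ⟶ K := kernel.lift _ i hi
  have hk : k ≫ kernel.ι (N • 𝟙 I) = i := kernel.lift_ι _ _ _
  haveI : Mono k := mono_of_mono_fac hk
  have hNK : N • 𝟙 K = 0 := nsmul_id_kernel I N
  have hT : EtCoh.IsTorsion K := isTorsion_of_nsmul_id K N hN hNK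
  have hcol := isColimitCocone K hT
  obtain ⟨hL, -⟩ := compact_big (Dfun K) (cocone K) hcol F hF
  obtain ⟨j, g, hg⟩ := hL k
  obtain ⟨ι, hι, hd, hne, Gf, hGf⟩ := IsFiltered.exists_directed (Idx K)
  letI := hι
  haveI := hd
  haveI := hne
  haveI := hGf
  have hc' : IsColimit ((cocone K).whisker Gf) :=
    (Functor.Final.isColimitWhiskerEquiv Gf (cocone K)).symm hcol
  obtain ⟨a⟩ : Nonempty (StructuredArrow j Gf) := (Functor.Final.out (F := Gf) j).is_nonempty
  let g1 : F ⟶ (Gf ⋙ Dfun K).obj a.right := g ≫ (Dfun K).map a.hom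
  have hg1 : g1 ≫ ((cocone K).whisker Gf).ι.app a.right = k := by
    show (g ≫ (Dfun K).map a.hom) ≫ (cocone K).ι.app (Gf.obj a.right) = k
    rw [Category.assoc, (cocone K).w a.hom, hg]
  let β : Ext (ZZ X) ((Gf ⋙ Dfun K).obj a.right) q :=
    (α : Ext (ZZ X) F q).comp (Ext.mk₀ g1) (add_zero q)
  have hβ : β.comp (Ext.mk₀ (((cocone K).whisker Gf).ι.app a.right)) (add_zero q) = 0 :=
    H_tors_vanish I N hN q hq _
  obtain ⟨b, hab, hb⟩ :=
    (surj_inj q (Gf ⋙ Dfun K) ((cocone K).whisker Gf) hc').2 a.right β hβ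
  refine ⟨(Gf ⋙ Dfun K).obj b, g1 ≫ (Gf ⋙ Dfun K).map (homOfLE hab),
    (Gf.obj b).P.isConstructible, ?_, ?_⟩
  · have : (g1 ≫ (Gf ⋙ Dfun K).map (homOfLE hab)) ≫ ((cocone K).whisker Gf).ι.app b = k := by
      rw [Category.assoc, ((cocone K).whisker Gf).w, hg1]
    exact mono_of_mono_fac this
  · show Sheaf.H.map (g1 ≫ (Gf ⋙ Dfun K).map (homOfLE hab)) q α = 0
    rw [Sheaf.H.map_apply]
    have e := Ext.comp_assoc_of_third_deg_zero (α : Ext (ZZ X) F q) (Ext.mk₀ g1)
      (Ext.mk₀ ((Gf ⋙ Dfun K).map (homOfLE hab))) (add_zero q)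
    rw [Ext.mk₀_comp_mk₀] at e
    exact e.symm.trans hb

end Main

end

end Groth.Agent.Lib.EtEff
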