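import Mathlib
import Groth.Prelude

set_option autoImplicit false
set_option linter.style.haveILetI false
set_option linter.unusedVariables false

universe u

open CategoryTheory CategoryTheory.Limits AlgebraicGeometry TopologicalSpace

namespace Groth.Agent.Lib.EtFieldPtsH4

theorem epi_specMap_field (K Ω : Type u) [Field K] [Field Ω] [Algebra K Ω] :
    Epi (Spec.map (CommRingCat.ofHom (algebraMap K Ω))) := by
  haveI : Flat (Spec.map (CommRingCat.ofHom (algebraMap K Ω))) := inferInstance
  haveI : Surjective (Spec.map (CommRingCat.ofHom (algebraMap K Ω))) :=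
    ⟨fun y => ⟨(default : PrimeSpectrum Ω), Subsingleton.elim (α := PrimeSpectrum K) _ _⟩⟩
  exact Flat.epi_of_flat_of_surjective _

theorem factor_aux (k K Ω : Type u) [Field k] [Field K] [Field Ω] [Algebra k K] [IsAlgClosed K]
    [Algebra K Ω] [Algebra k Ω] [IsScalarTower k K Ω]
    (Z : Scheme.{u}) (f : Z ⟶ Spec (CommRingCat.of k)) [AlgebraicGeometry.Etale f]
    (A : Type u) [CommRing A] (j : Spec (CommRingCat.of A) ⟶ Z) [IsOpenImmersion j]
    (h : Spec (CommRingCat.of Ω) ⟶ Z)
    (hh : h ≫ f = Spec.map (CommRingCat.ofHom (algebraMap k Ω)))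
    (hz : h (default : PrimeSpectrum Ω) ∈ Set.range j) :
    ∃ g : Spec (CommRingCat.of K) ⟶ Z,
      g ≫ f = Spec.map (CommRingCat.ofHom (algebraMap k K)) ∧
        Spec.map (CommRingCat.ofHom (algebraMap K Ω)) ≫ g = h := by
  haveI hepi : Epi (Spec.map (CommRingCat.ofHom (algebraMap K Ω))) := epi_specMap_field K Ω
  have hrange : Set.range h ⊆ Set.range j := by
    rintro _ ⟨x, rfl⟩
    have hx : x = (default : PrimeSpectrum Ω) := Subsingleton.elim (α := PrimeSpectrum Ω) _ _
    rw [hx]; exact hz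
  let h' : Spec (CommRingCat.of Ω) ⟶ Spec (CommRingCat.of A) := IsOpenImmersion.lift j h hrange
  have hh' : h' ≫ j = h := IsOpenImmersion.lift_fac j h hrange
  let ψ : CommRingCat.of A ⟶ CommRingCat.of Ω := Spec.preimage h'
  have hψ : Spec.map ψ = h' := Spec.map_preimage _
  let θ : CommRingCat.of k ⟶ CommRingCat.of A := Spec.preimage (j ≫ f)
  have hθ : Spec.map θ = j ≫ f := Spec.map_preimage _
  have hθet : θ.hom.Etale := by
    have h1 : Etale (Spec.map θ) := by rw [hθ]; infer_instance
    exact (HasRingHomProperty.Spec_iff (P := @Etale)).mp h1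
  letI : Algebra k A := θ.hom.toAlgebra
  haveI : Algebra.Etale k A := hθet
  haveI : Module.Finite k A := Algebra.FormallyUnramified.finite_of_free k A
  haveI : Algebra.IsIntegral k A := Algebra.IsIntegral.of_finite k A
  have hψθ : ψ.hom.comp θ.hom = algebraMap k Ω := by
    have h1 : Spec.map (θ ≫ ψ) = Spec.map (CommRingCat.ofHom (algebraMap k Ω)) := by
      rw [Spec.map_comp, hψ, hθ, ← Category.assoc, hh', hh]
    have h2 := Spec.map_injective h1
    exact congrArg CommRingCat.Hom.hom h2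
  have hmem : ∀ a : A, ψ.hom a ∈ (algebraMap K Ω).range := by
    intro a
    have hint : IsIntegral k a := Algebra.IsIntegral.isIntegral a
    have h1 : IsIntegral k (ψ.hom a) := by
      obtain ⟨p, hp, hpa⟩ := hint
      refine ⟨p, hp, ?_⟩
      rw [← hψθ, ← Polynomial.hom_eval₂]
      show ψ.hom (Polynomial.eval₂ (algebraMap k A) a p) = 0
      rw [hpa, map_zero]
    have h2 : IsIntegral K (ψ.hom a) := h1.tower_top
    have hdeg : (minpoly K (ψ.hom a)).degree = 1 :=
      IsAlgClosed.degree_eq_one_of_irreducible K (minpoly.irreducible h2)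
    exact minpoly.mem_range_of_degree_eq_one K (ψ.hom a) hdeg
  let e : K ≃+* (algebraMap K Ω).range :=
    RingEquiv.ofBijective (algebraMap K Ω).rangeRestrict
      ⟨fun a b hab => (algebraMap K Ω).injective (congrArg Subtype.val hab),
        (algebraMap K Ω).rangeRestrict_surjective⟩
  let ψ' : A →+* K := e.symm.toRingHom.comp (ψ.hom.codRestrict (algebraMap K Ω).range hmem)
  have hψ' : ∀ a, algebraMap K Ω (ψ' a) = ψ.hom a := by
    intro a
    have h1 := e.apply_symm_apply (ψ.hom.codRestrict (algebraMap K Ω).range hmem a)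
    exact congrArg Subtype.val h1
  have hcomp : CommRingCat.ofHom ψ' ≫ CommRingCat.ofHom (algebraMap K Ω) = ψ := by
    ext a
    exact hψ' a
  have hfac : Spec.map (CommRingCat.ofHom (algebraMap K Ω)) ≫
      (Spec.map (CommRingCat.ofHom ψ') ≫ j) = h := by
    rw [← Category.assoc, ← Spec.map_comp, hcomp, hψ, hh']
  refine ⟨Spec.map (CommRingCat.ofHom ψ') ≫ j, ?_, hfac⟩
  rw [← cancel_epi (Spec.map (CommRingCat.ofHom (algebraMap K Ω))), ← Category.assoc, hfac, hh,
    ← Spec.map_comp]
  congr 2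
  ext c
  exact IsScalarTower.algebraMap_apply k K Ω c

theorem main (k K Ω : Type u) [Field k] [Field K] [Field Ω] [Algebra k K] [IsAlgClosed K]
    [Algebra.IsAlgebraic k K]
    [Algebra K Ω] [Algebra k Ω] [IsScalarTower k K Ω]
    (Z : Scheme.{u}) (f : Z ⟶ Spec (CommRingCat.of k)) [AlgebraicGeometry.Etale f] :
    (∀ g₁ g₂ : Spec (CommRingCat.of K) ⟶ Z,
        g₁ ≫ f = Spec.map (CommRingCat.ofHom (algebraMap k K)) →
        g₂ ≫ f = Spec.map (CommRingCat.ofHom (algebraMap k K)) →
        Spec.map (CommRingCat.ofHom (algebraMap K Ω)) ≫ g₁ =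
          Spec.map (CommRingCat.ofHom (algebraMap K Ω)) ≫ g₂ →
        g₁ = g₂) ∧
    (∀ h : Spec (CommRingCat.of Ω) ⟶ Z,
        h ≫ f = Spec.map (CommRingCat.ofHom (algebraMap k Ω)) →
        ∃ g : Spec (CommRingCat.of K) ⟶ Z,
          g ≫ f = Spec.map (CommRingCat.ofHom (algebraMap k K)) ∧
          Spec.map (CommRingCat.ofHom (algebraMap K Ω)) ≫ g = h) := by
  haveI hepi : Epi (Spec.map (CommRingCat.ofHom (algebraMap K Ω))) := epi_specMap_field K Ω
  refine ⟨fun g₁ g₂ _ _ h12 => (cancel_epi _).mp h12, ?_⟩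
  intro h hh
  exact @factor_aux k K Ω _ _ _ _ _ _ _ _ Z f _
    (Z.affineOpenCover.X (Z.affineOpenCover.idx (h (default : PrimeSpectrum Ω)))) _
    (Z.affineOpenCover.f (Z.affineOpenCover.idx (h (default : PrimeSpectrum Ω))))
    (Z.affineOpenCover.map_prop _) h hh (Z.affineOpenCover.covers _)

end Groth.Agent.Lib.EtFieldPtsH4
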