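import Mathlib
import Groth.Agent.Lib.H90Et2_helper8
import Groth.Agent.Lib.EtDim1_helper8
import Groth.Agent.Lib.EtFlasquePush_helper7

/-!
# Sections of `G_m`-extensions over étale schemes of a field lift (helper8)
APPEND-ONLY once landed.
-/

set_option autoImplicit false
set_option linter.style.haveILetI false
universe u
open CategoryTheory CategoryTheory.Limits AlgebraicGeometry Opposite

namespace Groth.Agent.Lib.EtFieldSurjH8

open Groth.Agent.Lib.CechSite Groth.Agent.Lib.EtCechPush
  Groth.Agent.Lib.EtSchSite_helper7 Groth.Agent.Lib.EtZarAff_helper7 Groth.Agent.Lib.H90EtH8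

attribute [local instance] hasFiniteProducts_over

/-- an étale scheme over a reduced one-point scheme (e.g. the spectrum of a field) is discrete -/
theorem discreteTopology_of_subsingleton (S : Scheme.{u}) [Subsingleton S] [IsReduced S]
    (Z : S.Etale) : DiscreteTopology Z.left := by
  haveI : Etale Z.hom := Z.prop
  haveI : LocallyQuasiFinite Z.hom := EtDimH8.locallyQuasiFinite_of_etale Z.hom
  haveI : IsLocallyArtinian S := inferInstance
  haveI : IsLocallyArtinian Z.left := @IsLocallyArtinian.of_locallyQuasiFinite Z.left S Z.hom _ _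
  infer_instance

example (X : Scheme.{u}) (x : X) (Z : (Spec (X.residueField x)).Etale) : DiscreteTopology Z.left :=
  discreteTopology_of_subsingleton _ Z

variable {S : Scheme.{u}}

section Pts

variable (Z : S.Etale) [DiscreteTopology Z.left]

/-- the one-point open -/
def pt (z : Z.left) : Z.left.Opens := ⟨{z}, isOpen_discrete _⟩

lemma pt_isAffineOpen (z : Z.left) : IsAffineOpen (pt Z z) :=
  .of_subsingleton Set.subsingleton_singleton

instance (z : Z.left) : IsAffine (opn Z (pt Z z)).left := pt_isAffineOpen Z z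

lemma pt_cover : Sieve.ofArrows (fun i : ULift.{u + 1} Z.left => opn Z (pt Z i.down))
    (fun i => opnι Z (pt Z i.down)) ∈ S.smallEtaleTopology Z := by
  apply sieve_mem_of_forall_exists
  intro w
  obtain ⟨y, hy⟩ := mem_range_ι (Z := Z) (O := pt Z w) (z := w) rfl
  exact ⟨_, opnι Z (pt Z w), Sieve.ofArrows_mk _ _ (ULift.up w), y, hy⟩

variable {I Q : EtCoh.Ab S} (f : EtCoh.Gm S ⟶ I) (g : I ⟶ Q) (wfg : f ≫ g = 0)
    (hS : (ShortComplex.mk f g wfg).ShortExact)
include hS

lemma exists_lift_pt (q : Q.obj.obj (op Z)) (z : Z.left) :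
    ∃ t : I.obj.obj (op (opn Z (pt Z z))),
      (g.hom.app (op (opn Z (pt Z z)))).hom t = rs Q.obj (opnι Z (pt Z z)) q := by
  obtain ⟨φ, hφ, hlift⟩ := exists_local_lift f g wfg hS (opn Z (pt Z z))
    (rs Q.obj (opnι Z (pt Z z)) q) (⟨z, rfl⟩ : ↥(pt Z z))
  have hunit : IsUnit ((𝟙 (opn Z (pt Z z)) : opn Z (pt Z z) ⟶ opn Z (pt Z z)).left.appTop.hom φ) := by
    apply isUnit_appTop_of_forall_mem
    intro a
    have ha : a = (⟨z, rfl⟩ : ↥(pt Z z)) := Subtype.ext a.2
    rw [ha]
    exact hφ
  obtain ⟨t, ht⟩ := hlift _ (𝟙 _) hunit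
  rw [rs_id] at ht
  exact ⟨t, ht⟩

/-- **every section of `Q` lifts to `I`** over an étale scheme with discrete underlying space,
for a short exact sequence `0 → G_m → I → Q → 0` of étale sheaves -/
theorem exists_lift_of_discrete (q : Q.obj.obj (op Z)) :
    ∃ t : I.obj.obj (op Z), (g.hom.app (op Z)).hom t = q := by
  choose t ht using exists_lift_pt Z f g wfg hS q
  let Y : ULift.{u + 1} Z.left → Over Z := fun i => Over.mk (opnι Z (pt Z i.down))
  have hcov : Sieve.ofArrows (fun i => (Y i).left) (fun i => (Y i).hom) ∈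
      S.smallEtaleTopology Z := pt_cover Z
  obtain ⟨T, hT, -⟩ := existsUnique_glue Y I hcov (fun i => t i.down) (by
    intro i j W gi gj hij
    by_cases hne : i.down = j.down
    · obtain ⟨i⟩ := i
      obtain ⟨j⟩ := j
      have hne' : i = j := hne
      subst hne'
      have e : gi = gj := by
        apply MorphismProperty.Over.Hom.ext
        have e' := congrArg (fun φ => φ.left) hij
        exact (cancel_mono (pt Z i).ι).1 e'
      rw [e]
    · haveI : IsEmpty W.left := by
        refine ⟨fun w => hne ?_⟩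
        have e' := congrArg (fun φ => φ.left w) hij
        have h1 : (gi ≫ (Y i).hom).left w = i.down := (gi.left w).2
        have h2 : (gj ≫ (Y j).hom).left w = j.down := (gj.left w).2
        exact h1.symm.trans (e'.trans h2)
      exact (Groth.Agent.Lib.EtCartanH8.subsingleton_of_isEmpty I W).elim _ _)
  refine ⟨T, ?_⟩
  apply ext_of_cover Y Q hcov
  intro i
  rw [← rs_app, hT i]
  exact ht i.down

end Pts

/-- `v_*` keeps a `G_m`-extension exact when all étale `S`-schemes are discrete
(`R¹v_* G_m = 0`, Hilbert 90) -/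
theorem shortExact_push_of_discrete {X : Scheme.{u}} (v : S ⟶ X)
    (hdisc : ∀ Z : S.Etale, DiscreteTopology Z.left)
    {I Q : EtCoh.Ab S} (f : EtCoh.Gm S ⟶ I) (g : I ⟶ Q) (wfg : f ≫ g = 0)
    (hS : (ShortComplex.mk f g wfg).ShortExact) :
    ((ShortComplex.mk f g wfg).map (EtCoh.push v)).ShortExact := by
  haveI : PreservesLimitsOfSize.{0, 0} (EtCoh.push v) :=
    (EtCoh.pullPushAdj v).rightAdjoint_preservesLimits
  haveI : PreservesFiniteLimits (EtCoh.push v) := PreservesLimitsOfSize.preservesFiniteLimits _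
  have h := (Functor.preservesFiniteLimits_iff_forall_exact_map_and_mono (EtCoh.push v)).1
    inferInstance _ hS
  have hepi : Epi ((EtCoh.push v).map g) := by
    apply Groth.Agent.Lib.EtFlasquePush_helper7.epi_of_sections_surjective
    intro A q
    haveI := hdisc ((EtCoh.bc v).obj A)
    exact exists_lift_of_discrete ((EtCoh.bc v).obj A) f g wfg hS q
  haveI := h.2
  exact ShortComplex.ShortExact.mk' h.1 h.2 hepi

end Groth.Agent.Lib.EtFieldSurjH8
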