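import Mathlib
import Groth.Prelude.Def_EtBase
import Groth.Prelude.Def_EtCore
import Groth.Agent.Lib.EtFinExact_helper7
import Groth.Agent.Lib.HensStalk_helper7
import Groth.Agent.Lib.EtFlasque_helper7

/-!
# Cohomology of schemes finite over a strictly henselian local ring vanishes (helper7)
-/

set_option autoImplicit false
set_option backward.isDefEq.respectTransparency false
set_option linter.style.haveILetI false
universe u
open CategoryTheory CategoryTheory.Limits AlgebraicGeometry Opposite

namespace Groth.Agent.Lib.EtFinHensH7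

open Groth.Agent.Lib.HensStalk_helper7 Groth.Agent.Lib.EtFlasque_helper7
  Groth.Agent.Lib.EtSchExact_helper7 Groth.Agent.Lib.EtFinStalkH7

variable (R : Type u) [CommRing R] [HenselianLocalRing R]
  [IsSepClosed (IsLocalRing.ResidueField R)]

/-- Global sections over the spectrum of a strictly henselian local ring preserve epimorphisms. -/
theorem surjective_top_of_epi {G G' : EtCoh.Ab (Spec (CommRingCat.of R))} (b : G ⟶ G') [Epi b] :
    Function.Surjective (b.hom.app (op (EtCoh.top (Spec (CommRingCat.of R))))) := by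
  intro t
  have hsurj : Function.Surjective ((EtCoh.stalk (clPt R)).map b) :=
    (epi_iff b).1 inferInstance (IsLocalRing.ResidueField R) (clPt R)
  obtain ⟨σ, hσ⟩ := hsurj ((Scheme.pointSmallEtale (clPt R)).toPresheafFiber
      (EtCoh.top (Spec (CommRingCat.of R))) (clLift R) G'.obj t)
  obtain ⟨s, rfl⟩ := (bijective_toStalk R G).2 σ
  refine ⟨s, (bijective_toStalk R G').1 ?_⟩
  have hnat := GrothendieckTopology.Point.toPresheafFiber_naturality_apply
    (Scheme.pointSmallEtale (clPt R)) b.hom (EtCoh.top (Spec (CommRingCat.of R))) (clLift R) s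
  exact hnat.symm.trans hσ

theorem projective_const {X : Scheme.{u}} (f : X ⟶ Spec (CommRingCat.of R)) [IsFinite f] :
    Projective (EtCoh.const X ℤ) := by
  constructor
  intro G G' φ a _
  obtain ⟨m, hm⟩ : ∃ m : EtCoh.top X ⟶ (EtCoh.bc f).obj (EtCoh.top (Spec (CommRingCat.of R))),
      m = (EtCore.bcTopIsTerminal f).from _ := ⟨_, rfl⟩
  obtain ⟨m', hm'⟩ : ∃ m' : (EtCoh.bc f).obj (EtCoh.top (Spec (CommRingCat.of R))) ⟶ EtCoh.top X,
      m' = (EtCore.topIsTerminal X).from _ := ⟨_, rfl⟩
  have hmm : m ≫ m' = 𝟙 _ := (EtCore.topIsTerminal X).hom_ext _ _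
  haveI := epi_push_map f a
  obtain ⟨s', hs'⟩ := surjective_top_of_epi R ((EtCoh.push f).map a)
    (G'.obj.map m'.op (Γhom G' φ))
  have hs'' : a.hom.app (op ((EtCoh.bc f).obj (EtCoh.top (Spec (CommRingCat.of R))))) s' =
      G'.obj.map m'.op (Γhom G' φ) := hs'
  refine ⟨(Γhom G).symm (G.obj.map m.op s'), (Γhom G').injective ?_⟩
  rw [Γhom_comp, Equiv.apply_symm_apply]
  have hnat : a.hom.app (op (EtCoh.top X)) (G.obj.map m.op s') =
      G'.obj.map m.op (a.hom.app _ s') := NatTrans.naturality_apply a.hom m.op s'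
  have hid : G'.obj.map m'.op ≫ G'.obj.map m.op = 𝟙 _ := by
    rw [← CategoryTheory.Functor.map_comp, ← op_comp, hmm, op_id, CategoryTheory.Functor.map_id]
  have hid' : G'.obj.map m.op (G'.obj.map m'.op (Γhom G' φ)) = Γhom G' φ :=
    (ConcreteCategory.comp_apply _ _ _).symm.trans
      ((ConcreteCategory.congr_hom hid (Γhom G' φ)).trans (ConcreteCategory.id_apply _))
  rw [hnat, hs'', hid']

theorem main19222 {X : Scheme.{u}} (f : X ⟶ Spec (CommRingCat.of R)) [IsFinite f]
    (F : EtCoh.Ab X) (j : ℕ) (hj : 1 ≤ j) : Subsingleton (EtCoh.H X F j) := by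
  haveI := projective_const R f
  obtain ⟨j, rfl⟩ := Nat.exists_eq_succ_of_ne_zero (by omega : j ≠ 0)
  refine ⟨fun a b => ?_⟩
  have ha : a = 0 := Abelian.Ext.eq_zero_of_projective (P := EtCoh.const X ℤ) a
  have hb : b = 0 := Abelian.Ext.eq_zero_of_projective (P := EtCoh.const X ℤ) b
  rw [ha, hb]

end Groth.Agent.Lib.EtFinHensH7
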