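import Mathlib
import Groth.Prelude.Def_SGA4b
import Groth.Agent.Lib.EtFinStalkSh_helper7

/-!
# Stalks of the direct image of a sheaf of sets along a finite morphism: the functor iso (helper7)
-/

set_option autoImplicit false
set_option backward.isDefEq.respectTransparency false
set_option linter.style.haveILetI false
universe u
open CategoryTheory CategoryTheory.Limits AlgebraicGeometry Opposite

namespace Groth.Agent.Lib.EtFinStalkShH7

variable {X Y : Scheme.{u}} (f : X ⟶ Y) [IsFinite f] {Ω : Type u} [Field Ω] [IsAlgClosed Ω]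
  (η : Spec (CommRingCat.of Ω) ⟶ Y)

/-- The natural transformation `ψ_ξ`. -/
noncomputable def psiNat (ξ : {ξ : Spec (CommRingCat.of Ω) ⟶ X // ξ ≫ f = η}) :
    EtDesc.pushSh f ⋙ (Scheme.pointSmallEtale η).sheafFiber (A := Type (u + 1)) ⟶
      ((Scheme.pointSmallEtale ξ.1).sheafFiber (A := Type (u + 1)) :
        EtDesc.Sh X ⥤ Type (u + 1)) where
  app F := psiS f F ξ.1 ξ.2
  naturality _ _ a := (psiS_naturality f a ξ.1 ξ.2).symm

theorem main6181 :
    Nonempty (EtDesc.pushSh f ⋙ (Scheme.pointSmallEtale η).sheafFiber (A := Type (u + 1)) ≅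
      ∏ᶜ fun ξ : {ξ : Spec (CommRingCat.of Ω) ⟶ X // ξ ≫ f = η} =>
        ((Scheme.pointSmallEtale ξ.1).sheafFiber (A := Type (u + 1)) :
          EtDesc.Sh X ⥤ Type (u + 1))) := by
  obtain ⟨G, hG⟩ : ∃ G : {ξ : Spec (CommRingCat.of Ω) ⟶ X // ξ ≫ f = η} →
      (EtDesc.Sh X ⥤ Type (u + 1)),
      G = fun ξ => ((Scheme.pointSmallEtale ξ.1).sheafFiber (A := Type (u + 1)) :
        EtDesc.Sh X ⥤ Type (u + 1)) := ⟨_, rfl⟩
  subst hG
  obtain ⟨Ψ, hΨ⟩ : ∃ Ψ : EtDesc.pushSh f ⋙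
      (Scheme.pointSmallEtale η).sheafFiber (A := Type (u + 1)) ⟶
      ∏ᶜ fun ξ : {ξ : Spec (CommRingCat.of Ω) ⟶ X // ξ ≫ f = η} =>
        ((Scheme.pointSmallEtale ξ.1).sheafFiber (A := Type (u + 1)) :
          EtDesc.Sh X ⥤ Type (u + 1)), Ψ = Pi.lift (psiNat f η) := ⟨_, rfl⟩
  have hπ : ∀ (ξ : {ξ : Spec (CommRingCat.of Ω) ⟶ X // ξ ≫ f = η}) (F : EtDesc.Sh X),
      Ψ.app F ≫ (Pi.π (fun ξ : {ξ : Spec (CommRingCat.of Ω) ⟶ X // ξ ≫ f = η} =>
        ((Scheme.pointSmallEtale ξ.1).sheafFiber (A := Type (u + 1)) :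
          EtDesc.Sh X ⥤ Type (u + 1))) ξ).app F = psiS f F ξ.1 ξ.2 := by
    intro ξ F
    rw [← NatTrans.comp_app, hΨ, Pi.lift_π]
    rfl
  haveI : ∀ F, IsIso (Ψ.app F) := by
    intro F
    rw [isIso_iff_bijective]
    constructor
    · intro x x' hxx'
      apply eq_of_psiS_eq f F
      intro ξ hξ
      have h1 := ConcreteCategory.congr_hom (hπ ⟨ξ, hξ⟩ F) x
      have h2 := ConcreteCategory.congr_hom (hπ ⟨ξ, hξ⟩ F) x'
      rw [ConcreteCategory.comp_apply] at h1 h2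
      exact h1.symm.trans ((congrArg _ hxx').trans h2)
    · intro y
      obtain ⟨x, hx⟩ := exists_psiS_eq f F
        (fun ξ => (Pi.π (fun ξ : {ξ : Spec (CommRingCat.of Ω) ⟶ X // ξ ≫ f = η} =>
          ((Scheme.pointSmallEtale ξ.1).sheafFiber (A := Type (u + 1)) :
            EtDesc.Sh X ⥤ Type (u + 1))) ξ).app F y)
      refine ⟨x, ?_⟩
      have hlim : IsLimit (((evaluation _ _).obj F).mapCone
          (limit.cone (Discrete.functor
            (fun ξ : {ξ : Spec (CommRingCat.of Ω) ⟶ X // ξ ≫ f = η} =>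
              ((Scheme.pointSmallEtale ξ.1).sheafFiber (A := Type (u + 1)) :
                EtDesc.Sh X ⥤ Type (u + 1)))))) :=
        isLimitOfPreserves _ (limit.isLimit _)
      apply Concrete.isLimit_ext _ hlim
      rintro ⟨ξ⟩
      have h1 := ConcreteCategory.congr_hom (hπ ξ F) x
      rw [ConcreteCategory.comp_apply] at h1
      exact h1.trans (hx ξ)
  haveI : IsIso Ψ := NatIso.isIso_of_isIso_app Ψ
  exact ⟨asIso Ψ⟩

end Groth.Agent.Lib.EtFinStalkShH7
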