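import Mathlib
import Groth.Agent.Lib.FlatDescent_helper4

/-!
# Flatness of a germ is étale local on source and target (helper4)
-/

set_option autoImplicit false
universe u v
set_option linter.style.haveILetI false

open TensorProduct

namespace Groth.Agent.Lib.EtFlatGermH4

section Unram

variable (R E : Type u) (M : Type v) [CommRing R] [CommRing E] [Algebra R E]
  [AddCommGroup M] [Module R M] [Module E M] [IsScalarTower R E M]

/-- `(a ⊗ b) ⊗ m ↦ a ⊗ (b • m)`. -/
noncomputable def Phi : (E ⊗[R] E) ⊗[R] M →ₗ[R] E ⊗[R] M :=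
  (LinearMap.lTensor E (TensorProduct.lift (Algebra.lsmul R R M).toLinearMap)) ∘ₗ
    (TensorProduct.assoc R E E M).toLinearMap

@[simp]
lemma Phi_tmul (x b : E) (m : M) : Phi R E M ((x ⊗ₜ[R] b) ⊗ₜ[R] m) = x ⊗ₜ[R] (b • m) := by
  simp [Phi]

lemma Phi_smul_right (z : E ⊗[R] E) (a : E) (m : M) :
    Phi R E M (z ⊗ₜ[R] (a • m)) = Phi R E M ((z * (1 ⊗ₜ[R] a)) ⊗ₜ[R] m) := by
  induction z using TensorProduct.induction_on with
  | zero => simp
  | tmul x b => simp [mul_smul]
  | add z w hz hw => simp only [add_tmul, map_add, add_mul, hz, hw]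

lemma Phi_smul_left (z : E ⊗[R] E) (a : E) (m : M) :
    a • Phi R E M (z ⊗ₜ[R] m) = Phi R E M (((a ⊗ₜ[R] 1) * z) ⊗ₜ[R] m) := by
  induction z using TensorProduct.induction_on with
  | zero => simp
  | tmul x b => simp [TensorProduct.smul_tmul']
  | add z w hz hw => simp only [add_tmul, map_add, mul_add, smul_add, hz, hw]

lemma lift_Phi (z : E ⊗[R] E) (m : M) :
    (LinearMap.id : M →ₗ[R] M).liftBaseChange E (Phi R E M (z ⊗ₜ[R] m)) =
      (Algebra.TensorProduct.lmul' R z) • m := by
  induction z using TensorProduct.induction_on with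
  | zero => simp
  | tmul x b => simp [mul_smul]
  | add z w hz hw => simp only [add_tmul, map_add, add_smul, hz, hw]

/-- A module over a formally unramified algebra (essentially of finite type) which is flat over the
base is flat over the algebra. -/
theorem flat_of_flat_of_formallyUnramified [Algebra.FormallyUnramified R E]
    [Algebra.EssFiniteType R E] [Module.Flat R M] : Module.Flat E M := by
  obtain ⟨e, he, hsp⟩ : ∃ e, IsIdempotentElem e ∧ KaehlerDifferential.ideal R E = Ideal.span {e} :=
    (Ideal.isIdempotentElem_iff_of_fg _ (KaehlerDifferential.ideal_fg R E)).mp <|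
      (Ideal.cotangent_subsingleton_iff _).mp <| inferInstanceAs <| Subsingleton Ω[E⁄R]
  have he0 : Algebra.TensorProduct.lmul' R e = 0 := by
    have : e ∈ KaehlerDifferential.ideal R E := hsp ▸ Ideal.mem_span_singleton_self e
    exact (RingHom.mem_ker).mp this
  have hkill : ∀ a : E, (1 - e) * ((1 : E) ⊗ₜ[R] a) = (1 - e) * (a ⊗ₜ[R] (1 : E)) := by
    intro a
    have h1 : (1 : E) ⊗ₜ[R] a - a ⊗ₜ[R] (1 : E) ∈ Ideal.span {e} :=
      hsp ▸ KaehlerDifferential.one_smul_sub_smul_one_mem_ideal R a
    obtain ⟨c, hc⟩ := Ideal.mem_span_singleton'.mp h1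
    have h2 : (1 - e) * ((1 : E) ⊗ₜ[R] a - a ⊗ₜ[R] (1 : E)) = 0 := by
      rw [← hc]
      have : (1 - e) * e = 0 := by rw [sub_mul, one_mul, he.eq, sub_self]
      calc (1 - e) * (c * e) = c * ((1 - e) * e) := by ring
        _ = 0 := by rw [this, mul_zero]
    rw [mul_sub, sub_eq_zero] at h2
    exact h2
  let i : M →ₗ[E] E ⊗[R] M :=
    { toFun := fun m => Phi R E M ((1 - e) ⊗ₜ[R] m)
      map_add' := fun m n => by simp only [tmul_add, map_add]
      map_smul' := fun a m => by
        simp only [RingHom.id_apply]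
        rw [Phi_smul_right, hkill, Phi_smul_left, mul_comm] }
  let p : E ⊗[R] M →ₗ[E] M := (LinearMap.id : M →ₗ[R] M).liftBaseChange E
  have hpi : p.comp i = LinearMap.id := by
    ext m
    show p (Phi R E M ((1 - e) ⊗ₜ[R] m)) = m
    rw [lift_Phi, map_sub, he0, map_one, sub_zero, one_smul]
  exact Module.Flat.of_retract i p hpi

end Unram

theorem main1164 (R S R' S' : Type u) [CommRing R] [CommRing S] [CommRing R'] [CommRing S']
    [IsLocalRing R] [IsLocalRing S] [IsLocalRing R'] [IsLocalRing S']
    [Algebra R S] [IsLocalHom (algebraMap R S)] [Algebra R R'] [IsLocalHom (algebraMap R R')]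
    [Algebra S S'] [IsLocalHom (algebraMap S S')] [Algebra R' S'] [Algebra R S']
    [IsScalarTower R R' S'] [IsScalarTower R S S']
    (E : Type u) [CommRing E] [Algebra R E] [Algebra.Etale R E] (P : Ideal E) [P.IsPrime]
    [Algebra E R'] [IsScalarTower R E R'] [IsLocalization.AtPrime R' P]
    (F : Type u) [CommRing F] [Algebra S F] [Algebra.Etale S F] (Q : Ideal F) [Q.IsPrime]
    [Algebra F S'] [IsScalarTower S F S'] [IsLocalization.AtPrime S' Q] :
    Module.Flat R S ↔ Module.Flat R' S' := by
  have hFS' : Module.Flat F S' := IsLocalization.flat S' Q.primeCompl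
  have hSS' : Module.Flat S S' := Module.Flat.trans S F S'
  have hER' : Module.Flat E R' := IsLocalization.flat R' P.primeCompl
  have hRR' : Module.Flat R R' := Module.Flat.trans R E R'
  constructor
  · intro hRS
    have hRS' : Module.Flat R S' := Module.Flat.trans R S S'
    letI : Algebra E S' := ((algebraMap R' S').comp (algebraMap E R')).toAlgebra
    haveI : IsScalarTower E R' S' := IsScalarTower.of_algebraMap_eq' rfl
    haveI : IsScalarTower R E S' := IsScalarTower.of_algebraMap_eq' (by
      rw [RingHom.algebraMap_toAlgebra, RingHom.comp_assoc, ← IsScalarTower.algebraMap_eq R E R',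
        ← IsScalarTower.algebraMap_eq R R' S'])
    have hES' : Module.Flat E S' := flat_of_flat_of_formallyUnramified R E S'
    exact (Module.flat_iff_of_isLocalization R' P.primeCompl S').mpr hES'
  · intro hR'S'
    have hRS' : Module.Flat R S' := Module.Flat.trans R R' S'
    haveI : Module.FaithfullyFlat S S' := Module.FaithfullyFlat.of_flat_of_isLocalHom
    exact Groth.Agent.Lib.FlatDescent_helper4.flat_of_faithfullyFlat_of_flat R S S'

open AlgebraicGeometry in
theorem main8995 {T S : Scheme.{u}} (g : T ⟶ S) [Etale g] (t : T) (M : Type v) [AddCommGroup M]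
    [Module (T.presheaf.stalk t) M] [Algebra (S.presheaf.stalk (g.base t)) (T.presheaf.stalk t)]
    [Module (S.presheaf.stalk (g.base t)) M]
    [IsScalarTower (S.presheaf.stalk (g.base t)) (T.presheaf.stalk t) M]
    (halg : algebraMap (S.presheaf.stalk (g.base t)) (T.presheaf.stalk t) = (g.stalkMap t).hom) :
    Module.Flat (S.presheaf.stalk (g.base t)) M ↔ Module.Flat (T.presheaf.stalk t) M := by
  have h1 : Algebra.FormallyUnramified (S.presheaf.stalk (g.base t)) (T.presheaf.stalk t) := by
    rw [← RingHom.formallyUnramified_algebraMap, halg]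
    exact FormallyUnramified.stalkMap g t
  have h2 : Algebra.EssFiniteType (S.presheaf.stalk (g.base t)) (T.presheaf.stalk t) := by
    rw [← RingHom.essFiniteType_algebraMap, halg]
    exact LocallyOfFiniteType.stalkMap g t
  have h3 : Module.Flat (S.presheaf.stalk (g.base t)) (T.presheaf.stalk t) := by
    rw [← RingHom.flat_algebraMap_iff, halg]
    exact Flat.stalkMap g t
  exact ⟨fun _ => flat_of_flat_of_formallyUnramified (S.presheaf.stalk (g.base t))
      (T.presheaf.stalk t) M,
    fun _ => Module.Flat.trans (S.presheaf.stalk (g.base t)) (T.presheaf.stalk t) M⟩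

end Groth.Agent.Lib.EtFlatGermH4
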