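import Mathlib

set_option autoImplicit false
set_option linter.style.haveILetI false
set_option linter.unusedSectionVars false

universe w v₁ u₁ u₂

namespace Groth.Agent.Lib.GaloisSheafH4

open CategoryTheory CategoryTheory.Limits Opposite

theorem galois_isSheafFor {C : Type u₁} [Category.{v₁} C] [HasBinaryProducts C] {T : C}
    (hT : IsTerminal T) (Y : C) {G : Type u₂} [Group G] (σ : G →* Aut Y) (P : Cᵒᵖ ⥤ Type w)
    (hP : Function.Injective (fun s : P.obj (op (Y ⨯ Y)) => fun g : G =>
      P.map (prod.lift (𝟙 Y) (σ g).hom).op s)) :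
    Presieve.IsSheafFor P (Presieve.singleton (hT.from Y)) ↔
      (Function.Injective (P.map (hT.from Y).op) ∧
        Set.range (P.map (hT.from Y).op) = {s | ∀ g : G, P.map (σ g).hom.op s = s}) := by
  rw [Presieve.isSheafFor_singleton]
  have key : ∀ x : P.obj (op Y),
      (∀ {Z : C} (p₁ p₂ : Z ⟶ Y), p₁ ≫ hT.from Y = p₂ ≫ hT.from Y →
        P.map p₁.op x = P.map p₂.op x) ↔ ∀ g : G, P.map (σ g).hom.op x = x := by
    intro x
    constructor
    · intro h g
      have := h (σ g).hom (𝟙 Y) (hT.hom_ext _ _)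
      simpa using this
    · intro h Z p₁ p₂ _
      have h2 : P.map (prod.fst : Y ⨯ Y ⟶ Y).op x = P.map (prod.snd : Y ⨯ Y ⟶ Y).op x := by
        apply hP
        funext g
        simp only [← FunctorToTypes.map_comp_apply, ← op_comp, prod.lift_fst, prod.lift_snd]
        simp [h g]
      calc P.map p₁.op x = P.map (prod.lift p₁ p₂).op (P.map (prod.fst : Y ⨯ Y ⟶ Y).op x) := by
            rw [← FunctorToTypes.map_comp_apply, ← op_comp, prod.lift_fst]
        _ = P.map (prod.lift p₁ p₂).op (P.map (prod.snd : Y ⨯ Y ⟶ Y).op x) := by rw [h2]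
        _ = P.map p₂.op x := by
            rw [← FunctorToTypes.map_comp_apply, ← op_comp, prod.lift_snd]
  have hinv : ∀ (t : P.obj (op T)) (g : G),
      P.map (σ g).hom.op (P.map (hT.from Y).op t) = P.map (hT.from Y).op t := fun t g => by
    rw [← FunctorToTypes.map_comp_apply, ← op_comp,
      hT.hom_ext ((σ g).hom ≫ hT.from Y) (hT.from Y)]
  constructor
  · intro h
    refine ⟨?_, ?_⟩
    · intro t t' htt'
      obtain ⟨y, _, hy⟩ := h _ ((key _).mpr (hinv t))
      exact (hy t rfl).trans (hy t' htt'.symm).symm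
    · ext s
      constructor
      · rintro ⟨t, rfl⟩ g
        exact hinv t g
      · intro hs
        obtain ⟨y, hy, _⟩ := h s ((key s).mpr hs)
        exact ⟨y, hy⟩
  · rintro ⟨hinj, hrange⟩ x hx
    have hs : x ∈ Set.range (P.map (hT.from Y).op) := by
      rw [hrange]
      exact (key x).mp @hx
    obtain ⟨t, ht⟩ := hs
    exact ⟨t, ht, fun t' ht' => hinj (ht'.trans ht.symm)⟩

end Groth.Agent.Lib.GaloisSheafH4
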