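import Mathlib
import Groth.Agent.Lib.GaloisSheaf_helper4

/-!
# Coproduct cofans in the small étale site are covering families (helper6)
-/

set_option autoImplicit false
universe u
open CategoryTheory CategoryTheory.Limits AlgebraicGeometry Opposite

namespace Groth.Agent.Lib.EtGaloisH6

theorem etale_sigmaDesc {X : Scheme.{u}} {ι : Type u} (Z : ι → Scheme.{u}) (f : ∀ i, Z i ⟶ X)
    (hf : ∀ i, Etale (f i)) : Etale (Limits.Sigma.desc f) := by
  rw [IsZariskiLocalAtSource.iff_of_openCover (P := @Etale) (sigmaOpenCover Z)]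
  intro i
  have : (sigmaOpenCover Z).f i ≫ Limits.Sigma.desc f = f i := Limits.Sigma.ι_desc f i
  rw [this]
  exact hf i

theorem iUnion_range_eq_univ_of_isColimit {X : Scheme.{u}} {ι : Type u} {Z : X.Etale}
    (Y : ι → X.Etale) (f : ∀ i, Y i ⟶ Z) (hc : IsColimit (Cofan.mk Z f)) :
    ⋃ i, Set.range (f i).left = Set.univ := by
  let YL : ι → Scheme.{u} := fun i => (Y i).left
  let g : ∀ i, YL i ⟶ X := fun i => (Y i).hom
  let ZL : Scheme.{u} := Z.left
  let ZH : ZL ⟶ X := Z.hom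
  let fl : ∀ i, YL i ⟶ ZL := fun i => (f i).left
  have hfl : ∀ i, fl i ≫ ZH = g i := fun i => CategoryTheory.Over.w (f i).toCommaMorphism
  have hg : ∀ i, Etale (g i) := fun i => (Y i).prop
  let W : X.Etale := MorphismProperty.Over.mk ⊤ (Limits.Sigma.desc g) (etale_sigmaDesc YL g hg)
  have hdesc : Limits.Sigma.desc fl ≫ ZH = Limits.Sigma.desc g := by
    apply Limits.Sigma.hom_ext
    intro i
    rw [Limits.Sigma.ι_desc, Limits.Sigma.ι_desc_assoc, hfl]
  let j : ∀ i, Y i ⟶ W := fun i =>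
    MorphismProperty.Over.homMk (A := Y i) (B := W) (Limits.Sigma.ι YL i : (Y i).left ⟶ W.left)
      (Limits.Sigma.ι_desc g i) trivial
  let φ : Z ⟶ W := Cofan.IsColimit.desc hc j
  let ψ : W ⟶ Z := MorphismProperty.Over.homMk (A := W) (B := Z)
    (Limits.Sigma.desc fl : W.left ⟶ Z.left) hdesc trivial
  have hφψ : φ ≫ ψ = 𝟙 Z := by
    apply Cofan.IsColimit.hom_ext hc
    intro i
    simp only [Cofan.mk_pt, Cofan.mk_ι_app]
    rw [← Category.assoc, Cofan.IsColimit.fac hc j i, Category.comp_id]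
    apply MorphismProperty.Over.Hom.ext
    exact Limits.Sigma.ι_desc fl i
  rw [Set.eq_univ_iff_forall]
  intro z
  have hz : ψ.left (φ.left z) = z := by
    have := congrArg (fun g => g.left) hφψ
    change φ.left ≫ ψ.left = 𝟙 _ at this
    rw [← Scheme.Hom.comp_apply, this]
    rfl
  obtain ⟨i, y, hy⟩ : ∃ i, φ.left z ∈ Set.range (Limits.Sigma.ι YL i) :=
    ⟨(sigmaOpenCover YL).idx _, (sigmaOpenCover YL).covers _⟩
  simp only [Set.mem_iUnion]
  refine ⟨i, y, ?_⟩
  have h0 : Limits.Sigma.ι YL i ≫ ψ.left = (f i).left := Limits.Sigma.ι_desc fl i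
  calc (f i).left y = (Limits.Sigma.ι YL i ≫ ψ.left) y := by rw [h0]
    _ = ψ.left (Limits.Sigma.ι YL i y) := Scheme.Hom.comp_apply _ _ _
    _ = ψ.left (φ.left z) := by rw [hy]
    _ = z := hz

end Groth.Agent.Lib.EtGaloisH6
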