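import Mathlib
import Groth.Prelude.Def_EtBase
import Groth.Prelude.Def_EtMod2
import Groth.Agent.Lib.EtSchSite_helper7
import Groth.Agent.Lib.EtLocConst_lead

/-! # Subsheaves of constant sheaves on an irreducible scheme and the generic geometric stalk (lead) -/

set_option autoImplicit false
set_option linter.unusedSimpArgs false
set_option linter.unusedVariables false
set_option linter.unusedSectionVars false
set_option linter.style.longLine false
set_option linter.unnecessarySimpa false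
set_option maxHeartbeats 1600000
set_option backward.isDefEq.respectTransparency false
set_option backward.isDefEq.respectTransparency.types false
set_option backward.defeqAttrib.useBackward true

universe u

open CategoryTheory CategoryTheory.Limits AlgebraicGeometry Opposite

namespace Groth.Agent.Lib.EtGenStalk

open Groth.Agent.Lib.EtSchSite_helper7
open Groth.Agent.Lib.EtLocConst (exists_mem_of_mem)

variable {X : Scheme.{u}} {Λ : Type (u + 1)} [CommRing Λ]

noncomputable instance forgetPres :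
    PreservesFilteredColimitsOfSize.{u, u} (forget (ModuleCat.{u + 1} Λ)) :=
  preservesFilteredColimitsOfSize_shrink.{u, u + 1, u, u + 1} _

section const

variable (X) (N : ModuleCat.{u + 1} Λ)

/-- constant presheaf -/
abbrev cPX : X.Etaleᵒᵖ ⥤ ModuleCat.{u + 1} Λ := (Functor.const X.Etaleᵒᵖ).obj N

/-- constant sheaf -/
noncomputable abbrev csX : EtModW.Mod Λ X :=
  (constantSheaf X.smallEtaleTopology (ModuleCat.{u + 1} Λ)).obj N

/-- the sheafification map of the constant presheaf -/
noncomputable def etaX : cPX X N ⟶ (csX X N).obj :=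
  toSheafify X.smallEtaleTopology (cPX X N)

instance : Presheaf.IsLocallySurjective X.smallEtaleTopology (etaX X N) := by
  unfold etaX; infer_instance

instance : Presheaf.IsLocallyInjective X.smallEtaleTopology (etaX X N) := by
  unfold etaX; infer_instance

variable {X}

theorem etaX_res {A B : X.Etale} (k : B ⟶ A) (n : N) :
    ((csX X N).obj.map k.op).hom (((etaX X N).app (op A)).hom n) =
      ((etaX X N).app (op B)).hom n := by
  have := congrArg (fun m => m.hom n) ((etaX X N).naturality k.op)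
  exact this.symm

theorem etaX_locSurj {Y : X.Etale} (t : (csX X N).obj.obj (op Y)) (y : Y.left) :
    ∃ (Z : X.Etale) (g : Z ⟶ Y) (n : N), y ∈ Set.range g.left ∧
      ((etaX X N).app (op Z)).hom n = ((csX X N).obj.map g.op).hom t := by
  have hS : Presheaf.imageSieve (etaX X N) t ∈ X.smallEtaleTopology Y :=
    Presheaf.imageSieve_mem X.smallEtaleTopology (etaX X N) (U := op Y) t
  obtain ⟨Z, g, hg, hy⟩ := exists_mem_of_mem hS y
  obtain ⟨n, hn⟩ := hg
  exact ⟨Z, g, n, hy, hn⟩

theorem etaX_inj {Y : X.Etale} (y : Y.left) (n n' : N)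
    (key : ((etaX X N).app (op Y)).hom n = ((etaX X N).app (op Y)).hom n') : n = n' := by
  have hS : Presheaf.equalizerSieve (F := cPX X N) (X := op Y) n n' ∈ X.smallEtaleTopology Y :=
    Presheaf.equalizerSieve_mem X.smallEtaleTopology (etaX X N) (X := op Y) n n' key
  obtain ⟨Z, g, hg, -⟩ := exists_mem_of_mem hS y
  exact hg

theorem etaX_nat {N N' : ModuleCat.{u + 1} Λ} (h : N ⟶ N') (Y : X.Etale) (n : N) :
    (((constantSheaf X.smallEtaleTopology (ModuleCat.{u + 1} Λ)).map h).hom.app (op Y)).hom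
      (((etaX X N).app (op Y)).hom n) = ((etaX X N').app (op Y)).hom (h.hom n) := by
  have := congrArg (fun τ => (τ.app (op Y)).hom n)
    (toSheafify_naturality X.smallEtaleTopology ((Functor.const X.Etaleᵒᵖ).map h))
  exact this.symm

end const

theorem map_comp_hom (F : EtModW.Mod Λ X) {A B C : X.Etale} (f : A ⟶ B) (g : B ⟶ C)
    (τ : F.obj.obj (op C)) :
    (F.obj.map (f ≫ g).op).hom τ = (F.obj.map f.op).hom ((F.obj.map g.op).hom τ) :=
  congrArg (fun m => m.hom τ) (F.obj.map_comp g.op f.op)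

theorem app_nat {G H : EtModW.Mod Λ X} (φ : G ⟶ H) {Y Y' : X.Etale} (k : Y' ⟶ Y)
    (s : G.obj.obj (op Y)) :
    (φ.hom.app (op Y')).hom ((G.obj.map k.op).hom s) =
      (H.obj.map k.op).hom ((φ.hom.app (op Y)).hom s) :=
  congrArg (fun τ => τ.hom s) (φ.hom.naturality k.op)

theorem comp_pt {F G H : EtModW.Mod Λ X} (a : F ⟶ G) (b : G ⟶ H) (c : F ⟶ H) (h : a ≫ b = c)
    (Y : X.Etale) (t : F.obj.obj (op Y)) :
    (b.hom.app (op Y)).hom ((a.hom.app (op Y)).hom t) = (c.hom.app (op Y)).hom t :=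
  congrArg (fun τ => (τ.hom.app (op Y)).hom t) h

theorem injective_app_of_mono {G H : EtModW.Mod Λ X} (b : G ⟶ H) [Mono b] (U : X.Etale) :
    Function.Injective (b.hom.app (op U)).hom := by
  haveI h1 : Mono ((sheafToPresheaf X.smallEtaleTopology (ModuleCat.{u + 1} Λ)).map b) :=
    inferInstance
  haveI h2 : Mono b.hom := h1
  haveI h3 : Mono (b.hom.app (op U)) := (NatTrans.mono_iff_mono_app b.hom).1 h2 (op U)
  exact (ModuleCat.mono_iff_injective _).1 h3

theorem epi_of_locSurj {G H : EtModW.Mod Λ X} (a : G ⟶ H)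
    (h : ∀ (U : X.Etale) (s : H.obj.obj (op U)),
      Presheaf.imageSieve a.hom s ∈ X.smallEtaleTopology U) : Epi a := by
  constructor
  intro K f g hfg
  apply Sheaf.hom_ext
  refine NatTrans.ext (funext fun U => ModuleCat.hom_ext (LinearMap.ext fun s => ?_))
  refine Sheaf.isSeparated K U.unop (Presheaf.imageSieve a.hom s) (h U.unop s) _ _ ?_
  rintro Y k ⟨t, ht⟩
  have hf := app_nat f k s
  have hg := app_nat g k s
  have e' : (f.hom.app (op Y)).hom ((a.hom.app (op Y)).hom t) =
      (g.hom.app (op Y)).hom ((a.hom.app (op Y)).hom t) :=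
    congrArg (fun τ => (τ.hom.app (op Y)).hom t) hfg
  exact hf.symm.trans ((congrArg (fun z => (f.hom.app (op Y)).hom z) ht.symm).trans
    (e'.trans ((congrArg (fun z => (g.hom.app (op Y)).hom z) ht).trans hg)))

section main

variable {Ω : Type u} [Field Ω] [IsSepClosed Ω] (ξ : Spec (CommRingCat.of Ω) ⟶ X)

theorem exists_fiber [IrreducibleSpace ↥X] (hξ : ξ.base default = genericPoint ↥X)
    (U' : X.Etale) (u' : U'.left) :
    Nonempty ((Scheme.pointSmallEtale ξ).fiber.obj U') := by
  have hopen : IsOpen (Set.range (fun y : U'.left => U'.hom.base y)) :=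
    U'.hom.isOpenMap.isOpen_range
  have hmem : genericPoint ↥X ∈ Set.range (fun y : U'.left => U'.hom.base y) :=
    ((genericPoint_spec ↥X).mem_open_set_iff hopen).2 ⟨U'.hom.base u', trivial, ⟨u', rfl⟩⟩
  obtain ⟨u'', hu''⟩ := hmem
  obtain ⟨t, -⟩ := Scheme.pointSmallEtaleFiberObjToPreimage_surjective ξ hξ U' ⟨u'', hu''⟩
  exact ⟨t⟩

theorem key_local (M' : ModuleCat.{u + 1} Λ) (G : EtModW.Mod Λ X) (a : csX X M' ⟶ G)
    (hsurj : Function.Surjective ((Scheme.pointSmallEtale ξ).presheafFiber.map a.hom).hom)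
    {U' : X.Etale} (x' : (Scheme.pointSmallEtale ξ).fiber.obj U') (s : G.obj.obj (op U')) :
    ∃ (V : X.Etale) (g : V ⟶ U') (v : V.left) (m' : M'),
      (G.obj.map g.op).hom s = (a.hom.app (op V)).hom (((etaX X M').app (op V)).hom m') := by
  obtain ⟨γ, hγ⟩ := hsurj (((Scheme.pointSmallEtale ξ).toPresheafFiber U' x' G.obj).hom s)
  obtain ⟨V₁, x₁, t, rfl⟩ := (Scheme.pointSmallEtale ξ).toPresheafFiber_jointly_surjective γ
  have nat := congrArg (fun τ => τ.hom t)
    ((Scheme.pointSmallEtale ξ).toPresheafFiber_naturality a.hom V₁ x₁)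
  have h1 : ((Scheme.pointSmallEtale ξ).toPresheafFiber V₁ x₁ G.obj).hom
      ((a.hom.app (op V₁)).hom t) =
      ((Scheme.pointSmallEtale ξ).toPresheafFiber U' x' G.obj).hom s := nat.symm.trans hγ
  let E1 : (Scheme.pointSmallEtale ξ).fiber.Elements := ⟨U', x'⟩
  let E2 : (Scheme.pointSmallEtale ξ).fiber.Elements := ⟨V₁, x₁⟩
  let p : IsCofiltered.min E1 E2 ⟶ E1 := IsCofiltered.minToLeft E1 E2
  let p₁ : IsCofiltered.min E1 E2 ⟶ E2 := IsCofiltered.minToRight E1 E2
  have e1 : (Scheme.pointSmallEtale ξ).toPresheafFiber U' x' G.obj =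
      G.obj.map p.1.op ≫ (Scheme.pointSmallEtale ξ).toPresheafFiber (IsCofiltered.min E1 E2).1
        (IsCofiltered.min E1 E2).2 G.obj := by
    rw [(Scheme.pointSmallEtale ξ).toPresheafFiber_w, p.2]
  have e2 : (Scheme.pointSmallEtale ξ).toPresheafFiber V₁ x₁ G.obj =
      G.obj.map p₁.1.op ≫ (Scheme.pointSmallEtale ξ).toPresheafFiber (IsCofiltered.min E1 E2).1
        (IsCofiltered.min E1 E2).2 G.obj := by
    rw [(Scheme.pointSmallEtale ξ).toPresheafFiber_w, p₁.2]
  rw [e1, e2] at h1
  have h2 : ((Scheme.pointSmallEtale ξ).toPresheafFiber (IsCofiltered.min E1 E2).1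
      (IsCofiltered.min E1 E2).2 G.obj).hom ((G.obj.map p₁.1.op).hom ((a.hom.app (op V₁)).hom t)) =
      ((Scheme.pointSmallEtale ξ).toPresheafFiber (IsCofiltered.min E1 E2).1
        (IsCofiltered.min E1 E2).2 G.obj).hom ((G.obj.map p.1.op).hom s) := h1
  obtain ⟨Y, f, y, -, heq⟩ := ((Scheme.pointSmallEtale ξ).toPresheafFiber_eq_iff' _ _ _ _).1 h2
  -- now localise the section of the constant sheaf
  obtain ⟨V₃, g₃, m', ⟨v, -⟩, hm'⟩ := etaX_locSurj M'
    (((csX X M').obj.map f.op).hom (((csX X M').obj.map p₁.1.op).hom t))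
    (y.left.base (default : Spec (CommRingCat.of Ω)))
  refine ⟨V₃, g₃ ≫ f ≫ p.1, v, m', ?_⟩
  have heq' : (G.obj.map f.op).hom ((G.obj.map p₁.1.op).hom ((a.hom.app (op V₁)).hom t)) =
      (G.obj.map f.op).hom ((G.obj.map p.1.op).hom s) := heq
  have s1 : (G.obj.map (g₃ ≫ f ≫ p.1).op).hom s =
      (G.obj.map g₃.op).hom ((G.obj.map f.op).hom ((G.obj.map p.1.op).hom s)) := by
    rw [map_comp_hom G g₃ (f ≫ p.1), map_comp_hom G f p.1]
  have s3 : (G.obj.map f.op).hom ((G.obj.map p₁.1.op).hom ((a.hom.app (op V₁)).hom t)) =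
      (a.hom.app (op Y)).hom (((csX X M').obj.map f.op).hom
        (((csX X M').obj.map p₁.1.op).hom t)) := by
    rw [app_nat a f, app_nat a p₁.1]
  have s4 := app_nat a g₃ (((csX X M').obj.map f.op).hom (((csX X M').obj.map p₁.1.op).hom t))
  exact s1.trans ((congrArg (fun z => (G.obj.map g₃.op).hom z) (heq'.symm.trans s3)).trans
    (s4.symm.trans (congrArg (fun z => (a.hom.app (op V₃)).hom z) hm'.symm)))

end main

theorem main54 (Λ : Type (u + 1)) [CommRing Λ] {X : Scheme.{u}} [IrreducibleSpace ↥X]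
    {Ω : Type u} [Field Ω] [IsSepClosed Ω] (ξ : Spec (CommRingCat.of Ω) ⟶ X)
    (hξ : ξ.base default = genericPoint ↥X)
    (M : Type (u + 1)) [AddCommGroup M] [Module Λ M] (M' : Submodule Λ M) (G : EtModW.Mod Λ X)
    (a : EtModW.constMod Λ X ↥M' ⟶ G) (b : G ⟶ EtModW.constMod Λ X M) [Mono a] [Mono b]
    (hab : a ≫ b = (constantSheaf X.smallEtaleTopology (ModuleCat.{u + 1} Λ)).map
      (ModuleCat.ofHom M'.subtype))
    (hst : IsIso ((EtModW.stalk Λ ξ).map a)) : IsIso a := by
  have hsurj : Function.Surjective ((Scheme.pointSmallEtale ξ).presheafFiber.map a.hom).hom := by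
    haveI : IsIso ((Scheme.pointSmallEtale ξ).presheafFiber.map a.hom) := hst
    exact (ConcreteCategory.bijective_of_isIso
      ((Scheme.pointSmallEtale ξ).presheafFiber.map a.hom)).2
  haveI : Epi a := by
    apply epi_of_locSurj
    intro U s
    apply sieve_mem_of_forall_exists
    intro u
    obtain ⟨U', k, m, ⟨u', hu'⟩, hm⟩ :=
      etaX_locSurj (ModuleCat.of Λ M) ((b.hom.app (op U)).hom s) u
    obtain ⟨x'⟩ := exists_fiber ξ hξ U' u'
    obtain ⟨V, g, v, m', hV⟩ :=
      key_local ξ (ModuleCat.of Λ ↥M') G a hsurj x' ((G.obj.map k.op).hom s)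
    have e1 : ((etaX X (ModuleCat.of Λ M)).app (op V)).hom m =
        ((etaX X (ModuleCat.of Λ M)).app (op V)).hom (M'.subtype m') := by
      rw [← etaX_res (ModuleCat.of Λ M) g m, hm, ← app_nat b k s, ← app_nat b g, hV,
        comp_pt a b _ hab V]
      exact etaX_nat (ModuleCat.ofHom M'.subtype) V m'
    have hmm : m = M'.subtype m' := etaX_inj (ModuleCat.of Λ M) v _ _ e1
    refine ⟨U', k, ⟨((etaX X (ModuleCat.of Λ ↥M')).app (op U')).hom m', ?_⟩, ⟨u', hu'⟩⟩
    apply injective_app_of_mono b U'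
    have e2 : (b.hom.app (op U')).hom ((a.hom.app (op U')).hom
        (((etaX X (ModuleCat.of Λ ↥M')).app (op U')).hom m')) =
        ((etaX X (ModuleCat.of Λ M)).app (op U')).hom (M'.subtype m') := by
      rw [comp_pt a b _ hab U']
      exact etaX_nat (ModuleCat.ofHom M'.subtype) U' m'
    have e3 : (b.hom.app (op U')).hom ((G.obj.map k.op).hom s) =
        ((etaX X (ModuleCat.of Λ M)).app (op U')).hom m := by
      rw [app_nat b k s, hm]
    exact e2.trans ((congrArg (fun z => ((etaX X (ModuleCat.of Λ M)).app (op U')).hom z)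
      hmm.symm).trans e3.symm)
  exact isIso_of_mono_of_epi a

end Groth.Agent.Lib.EtGenStalk
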