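import Mathlib
import Groth.Agent.Lib.FibCons2_helper8
import Groth.Agent.Lib.SmoothFib_helper4
import Groth.Agent.Lib.FibMapFlat_helper5
import Groth.Agent.S2156

/-!
# Constructibility of the fibrewise smooth locus (helper8)

APPEND-ONLY once landed.
-/

set_option autoImplicit false
universe u

namespace Groth.Agent.Lib.FibConsH8

open AlgebraicGeometry CategoryTheory Limits TopologicalSpace Topology
open Groth.Agent.FibMapFlat Groth.Agent.Lib.UnramLocH4

/-- the fibre through `x` is smooth at `x` over the residue field -/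
def FibSm {X S : Scheme.{u}} (f : X ⟶ S) (x : X) : Prop :=
  ((f.fiberToSpecResidueField (f.base x)).stalkMap (f.asFiber x)).hom.FormallySmooth

theorem fibSm_of_fibre_point {X S : Scheme.{u}} (f : X ⟶ S) (s : S) (z : f.fiber s) (x : X)
    (hz : f.fiberι s z = x) :
    ((f.fiberToSpecResidueField s).stalkMap z).hom.FormallySmooth ↔ FibSm f x := by
  have hs : f x = s := by rw [← hz]; exact Groth.Agent.FibRes2H8.fiberι_mem f s z
  subst hs
  have hz' : z = f.asFiber x := by
    apply (f.fiberι (f x)).isEmbedding.injective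
    rw [hz, Scheme.Hom.fiberι_asFiber]
  subst hz'
  rfl

instance flat_specMap_field {K L : Type u} [Field K] [Field L] (φ : CommRingCat.of K ⟶ CommRingCat.of L) :
    Flat (Spec.map φ) := by
  rw [HasRingHomProperty.Spec_iff (P := @Flat)]
  letI := φ.hom.toAlgebra
  show Module.Flat K L
  infer_instance

theorem fibSm_bc {X Y X' Y' : Scheme.{u}} (f : X ⟶ Y) [LocallyOfFiniteType f]
    (f' : X' ⟶ Y') (g' : X' ⟶ X) (g : Y' ⟶ Y) (hc : IsPullback g' f' f g) (x' : X') :
    FibSm f' x' ↔ FibSm f (g' x') := by
  have hpt : (f.fiberι (g (f' x'))) (fibMap hc (f' x') (f'.asFiber x')) = g' x' := by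
    rw [fiberι_fibMap_apply, Scheme.Hom.fiberι_asFiber]
  have sq := isPullback_fibMap hc (f' x')
  haveI : LocallyOfFiniteType f' :=
    MorphismProperty.of_isPullback (P := @LocallyOfFiniteType) hc inferInstance
  haveI : LocallyOfFiniteType (f.fiberToSpecResidueField (g (f' x'))) :=
    MorphismProperty.pullback_snd _ _ inferInstance
  haveI : LocallyOfFiniteType (f'.fiberToSpecResidueField (f' x')) :=
    MorphismProperty.pullback_snd _ _ inferInstance
  haveI : Flat (Spec.map (g.residueFieldMap (f' x'))) := by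
    rw [HasRingHomProperty.Spec_iff (P := @Flat)]
    letI := (g.residueFieldMap (f' x')).hom.toAlgebra
    show Module.Flat (Y.residueField (g (f' x'))) (Y'.residueField (f' x'))
    infer_instance
  have h1 := stalk_smooth_iff_of_isPullback_of_flat sq (f'.asFiber x')
  rw [← fibSm_of_fibre_point f (g (f' x')) _ (g' x') hpt]
  exact h1

theorem fibSm_loc {X S U : Scheme.{u}} (f : X ⟶ S) [LocallyOfFiniteType f] (j : U ⟶ X)
    [IsOpenImmersion j] (u : U) : FibSm (j ≫ f) u ↔ FibSm f (j u) := by
  set s : S := (j ≫ f) u with hs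
  let p : (j ≫ f).fiber s ⟶ f.fiber s :=
    pullback.map (j ≫ f) (S.fromSpecResidueField s) f (S.fromSpecResidueField s) j (𝟙 _) (𝟙 S)
      (by simp) (by simp)
  haveI : IsOpenImmersion p :=
    inferInstanceAs (IsOpenImmersion (pullback.map (j ≫ f) (S.fromSpecResidueField s) f
      (S.fromSpecResidueField s) j (𝟙 _) (𝟙 S) (by simp) (by simp)))
  have hp1 : p ≫ f.fiberι s = (j ≫ f).fiberι s ≫ j := pullback.lift_fst _ _ _
  have hp2 : p ≫ f.fiberToSpecResidueField s = (j ≫ f).fiberToSpecResidueField s ≫ 𝟙 _ :=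
    pullback.lift_snd _ _ _
  have hpa : p ((j ≫ f).asFiber u) = f.asFiber (j u) := by
    apply (f.fiberι s).isEmbedding.injective
    rw [← Scheme.Hom.comp_apply, hp1, Scheme.Hom.comp_apply, Scheme.Hom.fiberι_asFiber]
    exact (Scheme.Hom.fiberι_asFiber f (j u)).symm
  have h1 := stalk_transfer RingHom.FormallySmooth.respectsIso p (f.fiberToSpecResidueField s)
    ((j ≫ f).fiberToSpecResidueField s) (𝟙 _) hp2 ((j ≫ f).asFiber u)
  have h2 := stalk_congr_point (P := RingHom.FormallySmooth) (f.fiberToSpecResidueField s) hpa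
  exact h1.trans h2

theorem fibSm_isOpen {X S : Scheme.{u}} (f : X ⟶ S) [Flat f] [LocallyOfFinitePresentation f] :
    IsOpen {x : X | FibSm f x} := by
  have := f.smoothLocus.2
  convert this using 1
  ext x
  haveI : LocallyOfFiniteType (f.fiberToSpecResidueField (f x)) :=
    MorphismProperty.pullback_snd _ _ inferInstance
  have h := Groth.Agent.S2156.result f x
  constructor
  · intro hx
    exact h.2 ⟨Flat.stalkMap f x, hx⟩
  · intro hx
    exact (h.1 hx).2

theorem isFibrewise_fibSm : IsFibrewise.{u} (fun {_ _} f x => FibSm f x) where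
  bc f _ f' g' g hc x' := fibSm_bc f f' g' g hc x'
  loc f _ j _ u := fibSm_loc f j u
  isOpen f _ _ := fibSm_isOpen f

theorem main3423 {X S : Scheme.{u}} (f : X ⟶ S)
    [LocallyOfFinitePresentation f]
    [∀ s : S, LocallyOfFinitePresentation (f.fiberToSpecResidueField s)] :
    Topology.IsLocallyConstructible
      {x : X | f.asFiber x ∈ (f.fiberToSpecResidueField (f.base x)).smoothLocus} :=
  isLocallyConstructible isFibrewise_fibSm f

end Groth.Agent.Lib.FibConsH8
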