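import Mathlib
import Groth.Agent.Lib.GeomConnG_helper8
import Groth.Agent.Lib.ConsProp3_helper7

/-!
# Constructibility of the level sets of the counting functions, part H (helper8)
APPEND-ONLY once landed.
-/

set_option autoImplicit false
set_option linter.style.haveILetI false
universe u
open CategoryTheory CategoryTheory.Limits AlgebraicGeometry Topology
open scoped Set.Notation

namespace GeomConnH8

section BC

variable {X Y X₀ Y₀ : Scheme.{u}} {f : X ⟶ Y} {f₀ : X₀ ⟶ Y₀} {a : X ⟶ X₀} {h : Y ⟶ Y₀}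

theorem nGeomIrredComp_of_isPullback (sq : IsPullback a f f₀ h) (y : Y) :
    MoreMor.nGeomIrredComp f y = MoreMor.nGeomIrredComp f₀ (h y) := by
  obtain ⟨K, _, _, t, ht⟩ := exists_sepClosed_point Y y
  have h1 := encard_irr_pullback_eq_nGeomIrredComp' f K t
  have h2 := encard_irr_pullback_eq_nGeomIrredComp' f₀ K (t ≫ h)
  rw [ht] at h1
  rw [Scheme.Hom.comp_apply, ht] at h2
  rw [← h1, ← h2]
  exact encard_irreducibleComponents_eq_of_homeomorph
    ((IsPullback.of_hasPullback f t).paste_horiz sq).isoPullback.hom.homeomorph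

theorem nGeomConnComp_of_isPullback (sq : IsPullback a f f₀ h) (y : Y) :
    MoreMor.nGeomConnComp f y = MoreMor.nGeomConnComp f₀ (h y) := by
  obtain ⟨K, _, _, t, ht⟩ := exists_sepClosed_point Y y
  have h1 := card_cc_pullback_eq_nGeomConnComp' f K t
  have h2 := card_cc_pullback_eq_nGeomConnComp' f₀ K (t ≫ h)
  rw [ht] at h1
  rw [Scheme.Hom.comp_apply, ht] at h2
  rw [← h1, ← h2]
  exact card_connectedComponents_eq_of_homeomorph
    ((IsPullback.of_hasPullback f t).paste_horiz sq).isoPullback.hom.homeomorph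

end BC

section Noeth

variable {X Y : Scheme.{u}} (f : X ⟶ Y)

/-- A function on a Noetherian sober space which is constant near the generic point of every
irreducible closed subset has constructible level sets. -/
theorem isConstructible_level_of_forall {S : Type*} [TopologicalSpace S] [TopologicalSpace.NoetherianSpace S]
    [QuasiSober S] {β : Type*} (c : S → β)
    (hc : ∀ y : S, ∃ V : Set S, V ⊆ closure {y} ∧ y ∈ V ∧
      IsOpen (Subtype.val ⁻¹' V : Set ↑(closure ({y} : Set S))) ∧ ∀ y' ∈ V, c y' = c y)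
    (n : β) : IsConstructible {y | c y = n} := by
  apply Groth.Agent.Lib.ConsPropH7.isConstructible_of_forall_generic
  intro ξ
  obtain ⟨V, hVsub, hξV, hVo, hV⟩ := hc ξ
  obtain ⟨U, hU, hUV⟩ := isOpen_induced_iff.mp hVo
  have hVU : U ∩ closure {ξ} = V := by
    ext z
    constructor
    · rintro ⟨hzU, hzc⟩
      have : (⟨z, hzc⟩ : ↑(closure ({ξ} : Set S))) ∈ Subtype.val ⁻¹' U := hzU
      rw [hUV] at this
      exact this
    · intro hzV
      have hzc := hVsub hzV
      have : (⟨z, hzc⟩ : ↑(closure ({ξ} : Set S))) ∈ Subtype.val ⁻¹' V := hzV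
      rw [← hUV] at this
      exact ⟨this, hzc⟩
  refine ⟨U, hU, (hVU.symm ▸ hξV : ξ ∈ U ∩ closure {ξ}).1, ?_⟩
  rw [hVU]
  by_cases hn : c ξ = n
  · exact Or.inl (fun z hz => (hV z hz).trans hn)
  · exact Or.inr (fun z hz hzn => hn ((hV z hz).symm.trans hzn))

end Noeth

section Main

open Groth.Agent.Lib.ConsPropH7

theorem isConstructible_level_irr_of_isAffine {X S : Scheme.{u}} [IsAffine S] (f : X ⟶ S)
    [LocallyOfFinitePresentation f] [QuasiCompact f] [QuasiSeparated f] (n : ℕ∞) :
    IsConstructible {s | MoreMor.nGeomIrredComp f s = n} := by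
  haveI : LocallyOfFinitePresentation (𝟙 X ≫ f) := by rw [Category.id_comp]; infer_instance
  haveI : QuasiCompact (𝟙 X ≫ f) := by rw [Category.id_comp]; infer_instance
  haveI : QuasiSeparated (𝟙 X ≫ f) := by rw [Category.id_comp]; infer_instance
  obtain ⟨S₀, X₀, Y₀, hN, f₀, g₀, h, qX, qY, h1, h2, h3, h4, h5, h6⟩ :=
    exists_noetherian_model_of_isAffine (𝟙 X) f
  haveI := hN; haveI := h1; haveI := h2
  have e : {s | MoreMor.nGeomIrredComp f s = n} =
      h ⁻¹' {s₀ | MoreMor.nGeomIrredComp g₀ s₀ = n} := by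
    ext s
    simp only [Set.mem_ofPred_eq, Set.mem_preimage]
    rw [nGeomIrredComp_of_isPullback h5 s]
  rw [e]
  exact h.isConstructible_preimage
    (isConstructible_level_of_forall _ (fun y => main1336 g₀ y) n)

theorem isConstructible_level_conn_of_isAffine {X S : Scheme.{u}} [IsAffine S] (f : X ⟶ S)
    [LocallyOfFinitePresentation f] [QuasiCompact f] [QuasiSeparated f] (n : ℕ∞) :
    IsConstructible {s | MoreMor.nGeomConnComp f s = n} := by
  haveI : LocallyOfFinitePresentation (𝟙 X ≫ f) := by rw [Category.id_comp]; infer_instance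
  haveI : QuasiCompact (𝟙 X ≫ f) := by rw [Category.id_comp]; infer_instance
  haveI : QuasiSeparated (𝟙 X ≫ f) := by rw [Category.id_comp]; infer_instance
  obtain ⟨S₀, X₀, Y₀, hN, f₀, g₀, h, qX, qY, h1, h2, h3, h4, h5, h6⟩ :=
    exists_noetherian_model_of_isAffine (𝟙 X) f
  haveI := hN; haveI := h1; haveI := h2
  have e : {s | MoreMor.nGeomConnComp f s = n} =
      h ⁻¹' {s₀ | MoreMor.nGeomConnComp g₀ s₀ = n} := by
    ext s
    simp only [Set.mem_ofPred_eq, Set.mem_preimage]
    rw [nGeomConnComp_of_isPullback h5 s]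
  rw [e]
  exact h.isConstructible_preimage
    (isConstructible_level_of_forall _ (fun y => main1337 g₀ y) n)

variable {X Y : Scheme.{u}} (f : X ⟶ Y)

/-- S1338 -/
theorem main1338 [LocallyOfFinitePresentation f] [QuasiCompact f] [QuasiSeparated f] (n : ℕ∞) :
    IsLocallyConstructible {y : ↑Y | MoreMor.nGeomIrredComp f y = n} := by
  intro x
  obtain ⟨_, ⟨U, hU, rfl⟩, hxU, -⟩ :=
    Y.isBasis_affineOpens.exists_subset_of_mem_open (Set.mem_univ x) isOpen_univ
  refine ⟨U, U.2.mem_nhds hxU, U.2, ?_⟩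
  haveI : IsAffine (U : Scheme.{u}) := hU
  have e : ((U : Set Y) ↓∩ {y : ↑Y | MoreMor.nGeomIrredComp f y = n}) =
      {u : ↥(U : Scheme.{u}) | MoreMor.nGeomIrredComp (f ∣_ U) u = n} := by
    ext u
    show MoreMor.nGeomIrredComp f (Scheme.Opens.ι U u) = n ↔ MoreMor.nGeomIrredComp (f ∣_ U) u = n
    rw [nGeomIrredComp_of_isPullback (isPullback_morphismRestrict f (U : Y.Opens)).flip u]
  rw [e]
  exact isConstructible_level_irr_of_isAffine (f ∣_ U) n

/-- S1339 -/
theorem main1339 [LocallyOfFinitePresentation f] [QuasiCompact f] [QuasiSeparated f] (n : ℕ∞) :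
    IsLocallyConstructible {y : ↑Y | MoreMor.nGeomConnComp f y = n} := by
  intro x
  obtain ⟨_, ⟨U, hU, rfl⟩, hxU, -⟩ :=
    Y.isBasis_affineOpens.exists_subset_of_mem_open (Set.mem_univ x) isOpen_univ
  refine ⟨U, U.2.mem_nhds hxU, U.2, ?_⟩
  haveI : IsAffine (U : Scheme.{u}) := hU
  have e : ((U : Set Y) ↓∩ {y : ↑Y | MoreMor.nGeomConnComp f y = n}) =
      {u : ↥(U : Scheme.{u}) | MoreMor.nGeomConnComp (f ∣_ U) u = n} := by
    ext u
    show MoreMor.nGeomConnComp f (Scheme.Opens.ι U u) = n ↔ MoreMor.nGeomConnComp (f ∣_ U) u = n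
    rw [nGeomConnComp_of_isPullback (isPullback_morphismRestrict f (U : Y.Opens)).flip u]
  rw [e]
  exact isConstructible_level_conn_of_isAffine (f ∣_ U) n

end Main

end GeomConnH8
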