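import Mathlib

/-!
# Shrinking to a finitely generated subalgebra keeping a constructible condition (helper8)
APPEND-ONLY once landed.
-/

set_option autoImplicit false
set_option linter.style.haveILetI false
universe u
open PrimeSpectrum Topology

namespace GeomRedModelH8

section Ring

variable {A₀ A : Type u} [CommRing A₀] [CommRing A] [Algebra A₀ A]

theorem exists_pow_eq_sum (C : BasicConstructibleSetData A₀)
    (h : ∀ p : PrimeSpectrum A, comap (algebraMap A₀ A) p ∉ C.toSet) :
    ∃ (N : ℕ) (c : Fin C.n → A),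
      (algebraMap A₀ A C.f) ^ N = ∑ i, c i * algebraMap A₀ A (C.g i) := by
  have hrad : algebraMap A₀ A C.f ∈
      (Ideal.span (Set.range (fun i => algebraMap A₀ A (C.g i)))).radical := by
    rw [Ideal.radical_eq_sInf, Ideal.mem_sInf]
    rintro J ⟨hIJ, hJ⟩
    by_contra hf
    apply h ⟨J, hJ⟩
    refine ⟨?_, ?_⟩
    · rintro _ ⟨i, rfl⟩
      show algebraMap A₀ A (C.g i) ∈ J
      exact hIJ (Ideal.subset_span ⟨i, rfl⟩)
    · intro hmem
      apply hf
      have := hmem (Set.mem_singleton C.f)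
      exact this
  obtain ⟨N, hN⟩ := hrad
  obtain ⟨c, hc⟩ := Ideal.mem_span_range_iff_exists_fun.mp hN
  exact ⟨N, c, hc.symm⟩

theorem exists_adjoin_forall_comap_mem (E : Set (PrimeSpectrum A₀)) (hE : IsConstructible E)
    (h : ∀ p : PrimeSpectrum A, comap (algebraMap A₀ A) p ∈ E) :
    ∃ t : Finset A, ∀ p₁ : PrimeSpectrum (Algebra.adjoin A₀ (t : Set A)),
      comap (algebraMap A₀ (Algebra.adjoin A₀ (t : Set A))) p₁ ∈ E := by
  classical
  obtain ⟨S, hS⟩ := exists_constructibleSetData_iff.mpr hE.compl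
  have hex : ∀ C ∈ S, ∃ (N : ℕ) (c : Fin C.n → A),
      (algebraMap A₀ A C.f) ^ N = ∑ i, c i * algebraMap A₀ A (C.g i) := by
    intro C hC
    apply exists_pow_eq_sum C
    intro p hp
    have : comap (algebraMap A₀ A) p ∈ S.toSet := Set.mem_biUnion hC hp
    rw [hS] at this
    exact this (h p)
  choose! N c hc using hex
  refine ⟨S.biUnion (fun C => Finset.univ.image (c C)), fun p₁ => ?_⟩
  by_contra hcon
  have hmem : comap (algebraMap A₀ (Algebra.adjoin A₀
      ((S.biUnion (fun C => Finset.univ.image (c C)) : Finset A) : Set A))) p₁ ∈ S.toSet := by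
    rw [hS]
    exact hcon
  obtain ⟨C, hCS, hC⟩ := Set.mem_iUnion₂.mp hmem
  obtain ⟨hg, hf⟩ := hC
  apply hf
  intro x hx
  rw [Set.mem_singleton_iff] at hx
  subst hx
  have hct : ∀ i, c C i ∈ Algebra.adjoin A₀
      ((S.biUnion (fun C => Finset.univ.image (c C)) : Finset A) : Set A) := by
    intro i
    apply Algebra.subset_adjoin
    rw [Finset.mem_coe, Finset.mem_biUnion]
    exact ⟨C, hCS, Finset.mem_image.mpr ⟨i, Finset.mem_univ _, rfl⟩⟩
  have heq : (algebraMap A₀ (Algebra.adjoin A₀
      ((S.biUnion (fun C => Finset.univ.image (c C)) : Finset A) : Set A)) C.f) ^ N C =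
      ∑ i, (⟨c C i, hct i⟩ : Algebra.adjoin A₀
        ((S.biUnion (fun C => Finset.univ.image (c C)) : Finset A) : Set A)) *
        algebraMap A₀ _ (C.g i) := by
    apply Subtype.ext
    simp only [SubmonoidClass.coe_pow, AddSubmonoidClass.coe_finsetSum, MulMemClass.coe_mul]
    exact hc C hCS
  have hpow : (algebraMap A₀ (Algebra.adjoin A₀
      ((S.biUnion (fun C => Finset.univ.image (c C)) : Finset A) : Set A)) C.f) ^ N C ∈
      p₁.asIdeal := by
    rw [heq]
    apply Ideal.sum_mem
    intro i _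
    apply Ideal.mul_mem_left
    exact hg ⟨i, rfl⟩
  exact p₁.isPrime.mem_of_pow_mem _ hpow

end Ring

end GeomRedModelH8
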