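import Mathlib
import Groth.Agent.Lib.GeomRedModel1_helper8
import Groth.Agent.Lib.GeomRedCons1_helper8
import Groth.Agent.Lib.NoethApprox_helper5

/-!
# Models over finite type `ℤ`-algebras with geometrically reduced fibres (helper8)
APPEND-ONLY once landed.
-/

set_option autoImplicit false
set_option linter.style.haveILetI false
universe u
open CategoryTheory CategoryTheory.Limits AlgebraicGeometry Topology

namespace GeomRedModelH8

open Groth.Agent.Lib.ConsPropH7 GeomRedConsH8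

/-- General refinement: a model `f₀ : X₀ ⟶ Spec A₀` of `f` and a constructible property locus
`E₀` containing the image of `S`: there is a finitely generated `A₀`-subalgebra `A₁` of `Γ(S, ⊤)`
such that the image of `Spec A₁` lies in `E₀`. -/
theorem exists_refine {S : Scheme.{u}} [IsAffine S] {A₀ : Type u} [CommRing A₀]
    (g : S ⟶ Spec (CommRingCat.of A₀)) (E₀ : Set (Spec (CommRingCat.of A₀)))
    (hE₀ : IsConstructible E₀) (hg : ∀ s : S, g s ∈ E₀) :
    ∃ (A₁ : Type u) (_ : CommRing A₁) (_ : Algebra A₀ A₁) (g₁ : S ⟶ Spec (CommRingCat.of A₁)),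
      Algebra.FiniteType A₀ A₁ ∧
      g₁ ≫ Spec.map (CommRingCat.ofHom (algebraMap A₀ A₁)) = g ∧
      ∀ s₁ : Spec (CommRingCat.of A₁),
        Spec.map (CommRingCat.ofHom (algebraMap A₀ A₁)) s₁ ∈ E₀ := by
  obtain ⟨ψ, hψ⟩ : ∃ ψ : CommRingCat.of A₀ ⟶ Γ(S, ⊤), Spec.map ψ = S.isoSpec.inv ≫ g :=
    ⟨Spec.preimage (S.isoSpec.inv ≫ g), Spec.map_preimage _⟩
  letI : Algebra A₀ Γ(S, ⊤) := ψ.hom.toAlgebra
  have hψ' : CommRingCat.ofHom (algebraMap A₀ Γ(S, ⊤)) = ψ := rfl
  have hgeq : g = S.isoSpec.hom ≫ Spec.map ψ := by rw [hψ, Iso.hom_inv_id_assoc]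
  have h1 : ∀ p : PrimeSpectrum Γ(S, ⊤),
      PrimeSpectrum.comap (algebraMap A₀ Γ(S, ⊤)) p ∈ (E₀ : Set (PrimeSpectrum A₀)) := by
    intro p
    have h2 := hg (S.isoSpec.inv p)
    rw [hgeq, Scheme.Hom.comp_apply, ← Scheme.Hom.comp_apply S.isoSpec.inv S.isoSpec.hom,
      Iso.inv_hom_id] at h2
    exact h2
  obtain ⟨t, ht⟩ := exists_adjoin_forall_comap_mem (A₀ := A₀) (A := Γ(S, ⊤)) E₀ hE₀ h1
  refine ⟨Algebra.adjoin A₀ (t : Set Γ(S, ⊤)), inferInstance, inferInstance,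
    S.isoSpec.hom ≫ Spec.map (CommRingCat.ofHom
      (algebraMap (Algebra.adjoin A₀ (t : Set Γ(S, ⊤))) Γ(S, ⊤))),
    (Subalgebra.fg_iff_finiteType _).mp (Subalgebra.fg_adjoin_finset t), ?_, fun s₁ => ht s₁⟩
  rw [Category.assoc, ← Spec.map_comp, hgeq, ← hψ']
  rfl

/-- S1461 -/
theorem main1461 {X S : Scheme.{u}} (f : X ⟶ S) [IsAffine X] [IsAffine S]
    [LocallyOfFinitePresentation f] [GeometricallyReduced f] :
    ∃ (X₀ S₀ : Scheme.{u}) (f₀ : X₀ ⟶ S₀) (g : S ⟶ S₀) (g' : X ⟶ X₀), IsAffine X₀ ∧ IsAffine S₀ ∧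
      IsPullback g' f f₀ g ∧ Algebra.FiniteType ℤ Γ(S₀, ⊤) ∧ LocallyOfFiniteType f₀ ∧
      GeometricallyReduced f₀ := by
  obtain ⟨A₀, B₀, _, _, φ₀, g, g', hA₀, hφ₀, sq⟩ :=
    Groth.Agent.Lib.NoethApprox_helper5.exists_isPullback_of_finitePresentation f
  haveI : IsNoetherianRing A₀ := Algebra.FiniteType.isNoetherianRing ℤ A₀
  haveI : LocallyOfFinitePresentation (Spec.map (CommRingCat.ofHom φ₀)) :=
    (HasRingHomProperty.Spec_iff (P := @LocallyOfFinitePresentation)).mpr hφ₀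
  have hE₀ : IsConstructible (ConsProp.locus (fun _ _ g => GeometricallyReduced g)
      (Spec.map (CommRingCat.ofHom φ₀))) := isConstructible_locus isCons_geomRed _
  have hg : ∀ s : S, g s ∈ ConsProp.locus (fun _ _ g => GeometricallyReduced g)
      (Spec.map (CommRingCat.ofHom φ₀)) := by
    intro s
    exact (locus_baseChange isFieldStable_geomRed (Spec.map (CommRingCat.ofHom φ₀)) g g' f sq
      s).mp inferInstance
  obtain ⟨A₁, _, _, g₁, hA₁, hg₁, hmem⟩ := exists_refine g _ hE₀ hg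
  have hlift : g' ≫ Spec.map (CommRingCat.ofHom φ₀) =
      (f ≫ g₁) ≫ Spec.map (CommRingCat.ofHom (algebraMap A₀ A₁)) := by
    rw [Category.assoc, hg₁]
    exact sq.w
  refine ⟨pullback (Spec.map (CommRingCat.ofHom φ₀))
      (Spec.map (CommRingCat.ofHom (algebraMap A₀ A₁))), Spec (CommRingCat.of A₁),
    pullback.snd _ _, g₁, pullback.lift g' (f ≫ g₁) hlift, inferInstance, inferInstance, ?_, ?_,
    inferInstance, ?_⟩
  · refine IsPullback.of_right ?_ (pullback.lift_snd _ _ _) (IsPullback.of_hasPullback _ _)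
    rw [pullback.lift_fst, hg₁]
    exact sq
  · haveI : Algebra.FiniteType ℤ A₁ := Algebra.FiniteType.trans hA₀ hA₁
    exact Algebra.FiniteType.equiv ‹Algebra.FiniteType ℤ A₁›
      (Scheme.ΓSpecIso (CommRingCat.of A₁)).commRingCatIsoToRingEquiv.symm.toIntAlgEquiv
  · rw [geometricallyReduced_iff, geometrically_iff_forall_fiberToSpecResidueField]
    intro s₁
    have h2 := (locus_baseChange isFieldStable_geomRed (Spec.map (CommRingCat.ofHom φ₀))
      (Spec.map (CommRingCat.ofHom (algebraMap A₀ A₁))) (pullback.fst _ _) (pullback.snd _ _)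
      (IsPullback.of_hasPullback _ _) s₁).mpr (hmem s₁)
    exact h2.geometrically_isReduced

end GeomRedModelH8
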