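import Mathlib
import Groth.Agent.Lib.GeomConnH_helper8
import Groth.Agent.Lib.GeomRedModel2_helper8

/-!
# Models over finite type `ℤ`-algebras with geometrically irreducible / connected fibres (helper8)
APPEND-ONLY once landed.
-/

set_option autoImplicit false
set_option linter.style.haveILetI false
universe u
open CategoryTheory CategoryTheory.Limits AlgebraicGeometry Topology

namespace GeomConnH8

section Top

theorem irreducibleSpace_iff_encard_eq_one (α : Type*) [TopologicalSpace α] :
    IrreducibleSpace α ↔ (irreducibleComponents α).encard = 1 := by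
  constructor
  · intro h
    rw [irreducibleComponents_eq_singleton, Set.encard_singleton]
  · intro h
    obtain ⟨C, hC⟩ := Set.encard_eq_one.mp h
    have huniv : (Set.univ : Set α) = C := by
      rw [← sUnion_irreducibleComponents, hC, Set.sUnion_singleton]
    have hCirr : IsIrreducible C := by
      have : C ∈ irreducibleComponents α := by rw [hC]; rfl
      exact this.1
    rw [← huniv] at hCirr
    exact (irreducibleSpace_def α).mpr hCirr

theorem connectedSpace_iff_card_eq_one (α : Type*) [TopologicalSpace α] :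
    ConnectedSpace α ↔ ENat.card (ConnectedComponents α) = 1 := by
  constructor
  · intro h
    obtain ⟨x⟩ : Nonempty α := inferInstance
    haveI : Inhabited (ConnectedComponents α) := ⟨ConnectedComponents.mk x⟩
    exact ENat.card_eq_one_iff_unique.mpr ⟨Unique.mk' _⟩
  · intro h
    obtain ⟨hu⟩ := ENat.card_eq_one_iff_unique.mp h
    obtain ⟨x, hx⟩ := ConnectedComponents.surjective_coe (hu.default)
    haveI : PreconnectedSpace α := by
      refine ⟨?_⟩
      have : (Set.univ : Set α) = connectedComponent x := by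
        ext z
        constructor
        · intro _
          have h1 : (ConnectedComponents.mk z : ConnectedComponents α) =
              ConnectedComponents.mk x := (hu.uniq _).trans (hu.uniq _).symm
          rw [ConnectedComponents.coe_eq_coe] at h1
          rw [← h1]
          exact mem_connectedComponent
        · intro _; trivial
      rw [this]
      exact isPreconnected_connectedComponent
    exact { toNonempty := ⟨x⟩ }

end Top

section Fib

variable {X Y : Scheme.{u}} (f : X ⟶ Y)

theorem irreducibleSpace_pullback_of_lift {K K' : Type u} [Field K] [Field K']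
    (t : Spec (CommRingCat.of K) ⟶ Y) (r : Spec (CommRingCat.of K') ⟶ Spec (CommRingCat.of K))
    (h : IrreducibleSpace ↥(pullback f (r ≫ t))) : IrreducibleSpace ↥(pullback f t) := by
  haveI : Surjective r := ⟨fun x => ⟨IsLocalRing.closedPoint K', Subsingleton.elim _ _⟩⟩
  haveI : IrreducibleSpace ↥(pullback (pullback.snd f t) r) :=
    (pullbackLeftPullbackSndIso f t r).hom.homeomorph.irreducibleSpace_iff.mpr h
  have h1 := (IrreducibleSpace.isIrreducible_univ ↥(pullback (pullback.snd f t) r)).image
    (pullback.fst (pullback.snd f t) r) (pullback.fst (pullback.snd f t) r).continuous.continuousOn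
  rw [Set.image_univ, (pullback.fst (pullback.snd f t) r).surjective.range_eq] at h1
  exact (irreducibleSpace_def _).mpr h1

theorem sepClosure_point_apply {K : Type u} [Field K] (t : Spec (CommRingCat.of K) ⟶ Y) :
    (Spec.map (CommRingCat.ofHom (algebraMap K (SeparableClosure K))) ≫ t)
      (IsLocalRing.closedPoint (SeparableClosure K)) = t (IsLocalRing.closedPoint K) := by
  rw [Scheme.Hom.comp_apply]
  congr 1
  exact Subsingleton.elim _ _

theorem geomIrr_fiber_iff (y : Y) :
    GeometricallyIrreducible (f.fiberToSpecResidueField y) ↔ MoreMor.nGeomIrredComp f y = 1 := by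
  constructor
  · intro h
    obtain ⟨K, _, _, t, ht⟩ := exists_sepClosed_point Y y
    have h1 := encard_irr_pullback_eq_nGeomIrredComp' f K t
    rw [ht] at h1
    rw [← h1, ← irreducibleSpace_iff_encard_eq_one]
    apply pullback_of_geometrically_fiber f (IrreducibleSpace ·) t
    rw [ht]
    exact h.geometrically_irreducibleSpace
  · intro h
    refine ⟨geometrically_fiber_of_forall f (IrreducibleSpace ·) y (fun K _ t ht => ?_)⟩
    apply irreducibleSpace_pullback_of_lift f t
      (Spec.map (CommRingCat.ofHom (algebraMap K (SeparableClosure K))))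
    rw [irreducibleSpace_iff_encard_eq_one,
      encard_irr_pullback_eq_nGeomIrredComp' f (SeparableClosure K), sepClosure_point_apply, ht]
    exact h

theorem geomConn_fiber_iff (y : Y) :
    GeometricallyConnected (f.fiberToSpecResidueField y) ↔ MoreMor.nGeomConnComp f y = 1 := by
  constructor
  · intro h
    obtain ⟨K, _, _, t, ht⟩ := exists_sepClosed_point Y y
    have h1 := card_cc_pullback_eq_nGeomConnComp' f K t
    rw [ht] at h1
    rw [← h1, ← connectedSpace_iff_card_eq_one]
    apply pullback_of_geometrically_fiber f (ConnectedSpace ·) t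
    rw [ht]
    exact h.geometrically_connectedSpace
  · intro h
    refine ⟨geometrically_fiber_of_forall f (ConnectedSpace ·) y (fun K _ t ht => ?_)⟩
    apply connectedSpace_pullback_of_lift f t
      (Spec.map (CommRingCat.ofHom (algebraMap K (SeparableClosure K))))
    rw [connectedSpace_iff_card_eq_one,
      card_cc_pullback_eq_nGeomConnComp' f (SeparableClosure K), sepClosure_point_apply, ht]
    exact h

theorem geomIrr_iff_forall : GeometricallyIrreducible f ↔ ∀ y, MoreMor.nGeomIrredComp f y = 1 := by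
  rw [GeometricallyIrreducible.iff_geometricallyIrreducible_fiber]
  exact forall_congr' (fun y => geomIrr_fiber_iff f y)

theorem geomConn_iff_forall : GeometricallyConnected f ↔ ∀ y, MoreMor.nGeomConnComp f y = 1 := by
  rw [GeometricallyConnected.iff_geometricallyConnected_fiber]
  exact forall_congr' (fun y => geomConn_fiber_iff f y)

end Fib

section Model

open GeomRedModelH8

/-- General model statement: a property of morphisms characterised by a level set of a function
which is compatible with base change and has constructible level sets over affine bases. -/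
theorem exists_model_of_level {β : Type*}
    (c : ∀ {X S : Scheme.{u}} (_ : X ⟶ S), S → β) (n : β)
    (hbc : ∀ {X S X₀ S₀ : Scheme.{u}} {f : X ⟶ S} {f₀ : X₀ ⟶ S₀} {a : X ⟶ X₀} {h : S ⟶ S₀}
      (_ : IsPullback a f f₀ h) (s : S), c f s = c f₀ (h s))
    (hcons : ∀ {X S : Scheme.{u}} [IsAffine S] (f : X ⟶ S) [LocallyOfFinitePresentation f]
      [QuasiCompact f] [QuasiSeparated f], IsConstructible {s | c f s = n})
    {X S : Scheme.{u}} (f : X ⟶ S) [IsAffine X] [IsAffine S]
    [LocallyOfFinitePresentation f] (hf : ∀ s, c f s = n) :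
    ∃ (X₀ S₀ : Scheme.{u}) (f₀ : X₀ ⟶ S₀) (g : S ⟶ S₀) (g' : X ⟶ X₀), IsAffine X₀ ∧ IsAffine S₀ ∧
      IsPullback g' f f₀ g ∧ Algebra.FiniteType ℤ Γ(S₀, ⊤) ∧ LocallyOfFiniteType f₀ ∧
      ∀ s₀, c f₀ s₀ = n := by
  obtain ⟨A₀, B₀, _, _, φ₀, g, g', hA₀, hφ₀, sq⟩ :=
    Groth.Agent.Lib.NoethApprox_helper5.exists_isPullback_of_finitePresentation f
  haveI : LocallyOfFinitePresentation (Spec.map (CommRingCat.ofHom φ₀)) :=
    (HasRingHomProperty.Spec_iff (P := @LocallyOfFinitePresentation)).mpr hφ₀
  have hE₀ : IsConstructible {s | c (Spec.map (CommRingCat.ofHom φ₀)) s = n} := hcons _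
  have hg : ∀ s : S, g s ∈ {s | c (Spec.map (CommRingCat.ofHom φ₀)) s = n} := by
    intro s
    show c (Spec.map (CommRingCat.ofHom φ₀)) (g s) = n
    rw [← hbc sq s]
    exact hf s
  obtain ⟨A₁, _, _, g₁, hA₁, hg₁, hmem⟩ := exists_refine g _ hE₀ hg
  have hlift : g' ≫ Spec.map (CommRingCat.ofHom φ₀) =
      (f ≫ g₁) ≫ Spec.map (CommRingCat.ofHom (algebraMap A₀ A₁)) := by
    rw [Category.assoc, hg₁]
    exact sq.w
  refine ⟨pullback (Spec.map (CommRingCat.ofHom φ₀))
      (Spec.map (CommRingCat.ofHom (algebraMap A₀ A₁))), Spec (CommRingCat.of A₁),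
    pullback.snd _ _, g₁, pullback.lift g' (f ≫ g₁) hlift, inferInstance, inferInstance, ?_, ?_,
    inferInstance, ?_⟩
  · refine IsPullback.of_right ?_ (pullback.lift_snd _ _ _) (IsPullback.of_hasPullback _ _)
    rw [pullback.lift_fst, hg₁]
    exact sq
  · haveI : Algebra.FiniteType ℤ A₁ := Algebra.FiniteType.trans hA₀ hA₁
    exact Algebra.FiniteType.equiv ‹Algebra.FiniteType ℤ A₁›
      (Scheme.ΓSpecIso (CommRingCat.of A₁)).commRingCatIsoToRingEquiv.symm.toIntAlgEquiv
  · intro s₁
    rw [hbc (IsPullback.of_hasPullback (Spec.map (CommRingCat.ofHom φ₀))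
      (Spec.map (CommRingCat.ofHom (algebraMap A₀ A₁)))) s₁]
    exact hmem s₁

/-- S1462 -/
theorem main1462 {X S : Scheme.{u}} (f : X ⟶ S) [IsAffine X] [IsAffine S]
    [LocallyOfFinitePresentation f] [GeometricallyIrreducible f] :
    ∃ (X₀ S₀ : Scheme.{u}) (f₀ : X₀ ⟶ S₀) (g : S ⟶ S₀) (g' : X ⟶ X₀), IsAffine X₀ ∧ IsAffine S₀ ∧
      IsPullback g' f f₀ g ∧ Algebra.FiniteType ℤ Γ(S₀, ⊤) ∧ LocallyOfFiniteType f₀ ∧
      GeometricallyIrreducible f₀ := by
  obtain ⟨X₀, S₀, f₀, g, g', h1, h2, h3, h4, h5, h6⟩ := exists_model_of_level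
    (fun {X S} f s => MoreMor.nGeomIrredComp f s) 1
    (fun sq s => nGeomIrredComp_of_isPullback sq s)
    (fun f => isConstructible_level_irr_of_isAffine f 1) f
    ((geomIrr_iff_forall f).mp inferInstance)
  exact ⟨X₀, S₀, f₀, g, g', h1, h2, h3, h4, h5, (geomIrr_iff_forall f₀).mpr h6⟩

/-- S1463 -/
theorem main1463 {X S : Scheme.{u}} (f : X ⟶ S) [IsAffine X] [IsAffine S]
    [LocallyOfFinitePresentation f] [GeometricallyConnected f] :
    ∃ (X₀ S₀ : Scheme.{u}) (f₀ : X₀ ⟶ S₀) (g : S ⟶ S₀) (g' : X ⟶ X₀), IsAffine X₀ ∧ IsAffine S₀ ∧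
      IsPullback g' f f₀ g ∧ Algebra.FiniteType ℤ Γ(S₀, ⊤) ∧ LocallyOfFiniteType f₀ ∧
      GeometricallyConnected f₀ := by
  obtain ⟨X₀, S₀, f₀, g, g', h1, h2, h3, h4, h5, h6⟩ := exists_model_of_level
    (fun {X S} f s => MoreMor.nGeomConnComp f s) 1
    (fun sq s => nGeomConnComp_of_isPullback sq s)
    (fun f => isConstructible_level_conn_of_isAffine f 1) f
    ((geomConn_iff_forall f).mp inferInstance)
  exact ⟨X₀, S₀, f₀, g, g', h1, h2, h3, h4, h5, (geomConn_iff_forall f₀).mpr h6⟩

end Model

end GeomConnH8
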