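import Mathlib
import Groth.Prelude
import Groth.Agent.Lib.GeomConnPt2_helper4
import Groth.Agent.Lib.ConnMisc_helper4

/-!
# Section components commute with base change (S1324) — helper4
-/

set_option autoImplicit false
universe u
open CategoryTheory CategoryTheory.Limits AlgebraicGeometry

namespace Groth.Agent.Lib.SecCompBCH4

variable {X Y X' Y' : Scheme.{u}}

/-- The connected component of a point of the topological fibre, seen in the scheme-theoretic
fibre. -/
theorem preimage_fiberι_cc (f : X ⟶ Y) (y : Y) (z : f.fiber y) :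
    (f.fiberι y) ⁻¹' connectedComponentIn (f ⁻¹' {y}) (f.fiberι y z) = connectedComponent z := by
  have hemb := (f.fiberι y).isEmbedding
  have hrange : Set.range (f.fiberι y) = f ⁻¹' {y} := f.range_fiberι y
  have hzF : f.fiberι y z ∈ f ⁻¹' {y} := by rw [← hrange]; exact Set.mem_range_self z
  apply Set.Subset.antisymm
  · have himg : (f.fiberι y) '' ((f.fiberι y) ⁻¹'
          connectedComponentIn (f ⁻¹' {y}) (f.fiberι y z)) =
        connectedComponentIn (f ⁻¹' {y}) (f.fiberι y z) := by
      rw [Set.image_preimage_eq_inter_range, hrange]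
      exact Set.inter_eq_left.mpr (connectedComponentIn_subset _ _)
    have hpre : _root_.IsPreconnected ((f.fiberι y) ⁻¹'
        connectedComponentIn (f ⁻¹' {y}) (f.fiberι y z)) := by
      rw [← hemb.isInducing.isPreconnected_image, himg]
      exact isPreconnected_connectedComponentIn
    exact hpre.subset_connectedComponent (mem_connectedComponentIn hzF)
  · intro w hw
    have h1 : _root_.IsPreconnected ((f.fiberι y) '' connectedComponent z) :=
      isPreconnected_connectedComponent.image _ (f.fiberι y).continuous.continuousOn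
    have h2 : (f.fiberι y) '' connectedComponent z ⊆
        connectedComponentIn (f ⁻¹' {y}) (f.fiberι y z) :=
      h1.subset_connectedComponentIn ⟨z, mem_connectedComponent, rfl⟩
        (by rintro _ ⟨w', -, rfl⟩; rw [← hrange]; exact Set.mem_range_self w')
    exact h2 ⟨w, hw, rfl⟩

set_option maxHeartbeats 1600000 in
theorem isPreconnected_preimage_secComp (f : X ⟶ Y) (s : Y ⟶ X) (hs : s ≫ f = 𝟙 Y)
    (f' : X' ⟶ Y') (g' : X' ⟶ X) (g : Y' ⟶ Y) (hc : IsPullback g' f' f g) (y' : Y') :
    _root_.IsPreconnected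
      (g' ⁻¹' connectedComponentIn (f ⁻¹' {g y'}) (s (g y')) ∩ f' ⁻¹' {y'}) := by
  have key : ∃ m : f'.fiber y' ⟶ f.fiber (g y'),
      m ≫ f.fiberι (g y') = f'.fiberι y' ≫ g' ∧
      IsPullback m (f'.fiberToSpecResidueField y') (f.fiberToSpecResidueField (g y'))
        (Spec.map (g.residueFieldMap y')) := by
    refine ⟨_, ?_, isPullback_fiberToSpecResidueField_of_isPullback hc y'⟩
    exact pullback.lift_fst _ _ _
  obtain ⟨m, hm, hA⟩ := key
  letI alg : Algebra (Y.residueField (g y')) (Y'.residueField y') :=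
    (g.residueFieldMap y').hom.toAlgebra
  let σ : Spec (Y.residueField (g y')) ⟶ f.fiber (g y') :=
    pullback.lift (Y.fromSpecResidueField (g y') ≫ s) (𝟙 _)
      (by rw [Category.assoc, hs, Category.comp_id, Category.id_comp])
  have hσ1 : σ ≫ f.fiberι (g y') = Y.fromSpecResidueField (g y') ≫ s := pullback.lift_fst _ _ _
  have hσ2 : σ ≫ f.fiberToSpecResidueField (g y') = 𝟙 _ := pullback.lift_snd _ _ _
  obtain ⟨pt⟩ : Nonempty (Spec (Y.residueField (g y'))) :=
    inferInstanceAs (Nonempty (PrimeSpectrum (Y.residueField (g y'))))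
  have hσpt : f.fiberι (g y') (σ pt) = s (g y') := by
    have h1 := congrArg (fun k : Spec (Y.residueField (g y')) ⟶ X => k pt) hσ1
    simp only [Scheme.Hom.comp_apply, Scheme.fromSpecResidueField_apply] at h1
    exact h1
  haveI : GeometricallyConnected (𝟙 (Spec (CommRingCat.of (Y.residueField (g y'))))) :=
    ConnMiscH4.geomConn_id _
  set π : pullback (f.fiberToSpecResidueField (g y')) (Spec.map (g.residueFieldMap y')) ⟶
      f.fiber (g y') :=
    pullback.fst (f.fiberToSpecResidueField (g y')) (Spec.map (g.residueFieldMap y')) with hπ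
  have hconn : _root_.IsConnected (π ⁻¹' connectedComponent (σ pt)) :=
    GeomConnPt2H4.main4621 (k := Y.residueField (g y')) (K := Y'.residueField y')
      (f.fiberToSpecResidueField (g y')) (𝟙 _) σ hσ2 pt
  let e := hA.isoPullback
  have he : e.hom ≫ π = m := hA.isoPullback_hom_fst
  have hCFpre : (f.fiberι (g y')) ⁻¹' connectedComponentIn (f ⁻¹' {g y'}) (s (g y')) =
      connectedComponent (σ pt) := by
    rw [← hσpt]; exact preimage_fiberι_cc f (g y') (σ pt)
  have himg : _root_.IsPreconnected ((fun w => f'.fiberι y' (e.inv w)) ''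
      (π ⁻¹' connectedComponent (σ pt))) :=
    hconn.isPreconnected.image _
      ((f'.fiberι y').continuous.comp e.inv.continuous).continuousOn
  have hπe : ∀ z', π (e.hom z') = m z' := fun z' =>
    (Scheme.Hom.comp_apply e.hom π z').symm.trans
      (congrArg (fun k : f'.fiber y' ⟶ f.fiber (g y') => k z') he)
  have hmι : ∀ z', f.fiberι (g y') (m z') = g' (f'.fiberι y' z') := fun z' =>
    (Scheme.Hom.comp_apply m (f.fiberι (g y')) z').symm.trans
      ((congrArg (fun k : f'.fiber y' ⟶ X => k z') hm).trans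
        (Scheme.Hom.comp_apply (f'.fiberι y') g' z'))
  have heinv : ∀ w, e.hom (e.inv w) = w := fun w =>
    (Scheme.Hom.comp_apply e.inv e.hom w).symm.trans
      (congrArg (fun k : pullback (f.fiberToSpecResidueField (g y'))
        (Spec.map (g.residueFieldMap y')) ⟶ _ => k w) e.inv_hom_id)
  have hehom : ∀ z', e.inv (e.hom z') = z' := fun z' =>
    (Scheme.Hom.comp_apply e.hom e.inv z').symm.trans
      (congrArg (fun k : f'.fiber y' ⟶ f'.fiber y' => k z') e.hom_inv_id)
  have hS : g' ⁻¹' connectedComponentIn (f ⁻¹' {g y'}) (s (g y')) ∩ f' ⁻¹' {y'} =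
      (fun w => f'.fiberι y' (e.inv w)) '' (π ⁻¹' connectedComponent (σ pt)) := by
    ext x'
    constructor
    · rintro ⟨hx1, hx2⟩
      have hxr : x' ∈ Set.range (f'.fiberι y') := by rw [f'.range_fiberι y']; exact hx2
      obtain ⟨z', rfl⟩ := hxr
      refine ⟨e.hom z', ?_, ?_⟩
      · show π (e.hom z') ∈ connectedComponent (σ pt)
        rw [hπe, ← hCFpre]
        show f.fiberι (g y') (m z') ∈ connectedComponentIn (f ⁻¹' {g y'}) (s (g y'))
        rw [hmι]
        exact hx1
      · show f'.fiberι y' (e.inv (e.hom z')) = f'.fiberι y' z'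
        rw [hehom]
    · rintro ⟨w, hw, rfl⟩
      refine ⟨?_, ?_⟩
      · show g' (f'.fiberι y' (e.inv w)) ∈ connectedComponentIn (f ⁻¹' {g y'}) (s (g y'))
        rw [← hmι, ← hπe, heinv]
        have : π w ∈ (f.fiberι (g y')) ⁻¹'
            connectedComponentIn (f ⁻¹' {g y'}) (s (g y')) := by
          rw [hCFpre]; exact hw
        exact this
      · have : f'.fiberι y' (e.inv w) ∈ Set.range (f'.fiberι y') := Set.mem_range_self _
        rw [f'.range_fiberι y'] at this
        exact this
  rw [hS]
  exact himg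

theorem main1324 (f : X ⟶ Y) (s : Y ⟶ X) (hs : s ≫ f = 𝟙 Y) (f' : X' ⟶ Y') (g' : X' ⟶ X)
    (g : Y' ⟶ Y) (hc : IsPullback g' f' f g) (s' : Y' ⟶ X') (hs' : s' ≫ f' = 𝟙 Y')
    (hs'g : s' ≫ g' = g ≫ s) :
    MoreMor.sectionComponents f' s' = g' ⁻¹' MoreMor.sectionComponents f s := by
  have hf's' : ∀ y', f' (s' y') = y' := fun y' =>
    (Scheme.Hom.comp_apply s' f' y').symm.trans (congrArg (fun k : Y' ⟶ Y' => k y') hs')
  have hfs : ∀ y, f (s y) = y := fun y =>
    (Scheme.Hom.comp_apply s f y).symm.trans (congrArg (fun k : Y ⟶ Y => k y) hs)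
  have hg's' : ∀ y', g' (s' y') = s (g y') := fun y' =>
    (Scheme.Hom.comp_apply s' g' y').symm.trans
      ((congrArg (fun k : Y' ⟶ X => k y') hs'g).trans (Scheme.Hom.comp_apply g s y'))
  have hfg' : ∀ x', f (g' x') = g (f' x') := fun x' =>
    (Scheme.Hom.comp_apply g' f x').symm.trans
      ((congrArg (fun k : X' ⟶ Y => k x') hc.w).trans (Scheme.Hom.comp_apply f' g x'))
  ext x'
  show x' ∈ connectedComponentIn (f' ⁻¹' {f' x'}) (s' (f' x')) ↔
    g' x' ∈ connectedComponentIn (f ⁻¹' {f (g' x')}) (s (f (g' x')))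
  rw [hfg' x']
  constructor
  · intro hx
    have hT : _root_.IsPreconnected
        (g' '' connectedComponentIn (f' ⁻¹' {f' x'}) (s' (f' x'))) :=
      isPreconnected_connectedComponentIn.image _ g'.continuous.continuousOn
    have hmem : s' (f' x') ∈ connectedComponentIn (f' ⁻¹' {f' x'}) (s' (f' x')) :=
      mem_connectedComponentIn (hf's' (f' x'))
    have hsub : g' '' connectedComponentIn (f' ⁻¹' {f' x'}) (s' (f' x')) ⊆
        f ⁻¹' {g (f' x')} := by
      rintro _ ⟨t, ht, rfl⟩
      have ht0 : t ∈ f' ⁻¹' {f' x'} := connectedComponentIn_subset _ _ ht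
      have ht' : f' t = f' x' := ht0
      show f (g' t) = g (f' x')
      rw [hfg' t, ht']
    exact hT.subset_connectedComponentIn ⟨s' (f' x'), hmem, hg's' (f' x')⟩ hsub ⟨x', hx, rfl⟩
  · intro hx
    have hB := isPreconnected_preimage_secComp f s hs f' g' g hc (f' x')
    have h1 : s' (f' x') ∈
        g' ⁻¹' connectedComponentIn (f ⁻¹' {g (f' x')}) (s (g (f' x'))) ∩ f' ⁻¹' {f' x'} := by
      refine ⟨?_, hf's' _⟩
      show g' (s' (f' x')) ∈ connectedComponentIn (f ⁻¹' {g (f' x')}) (s (g (f' x')))
      rw [hg's']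
      exact mem_connectedComponentIn (hfs _)
    exact hB.subset_connectedComponentIn h1 Set.inter_subset_right ⟨hx, rfl⟩

end Groth.Agent.Lib.SecCompBCH4
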