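import Mathlib
import Groth.Agent.Lib.GeomConnI_helper8
import Groth.Agent.Lib.SecCompBC_helper4
import Groth.Agent.Lib.FEtComps_helper4
import Groth.Agent.Lib.CohDev6_helper8

/-!
# Section components near a point (S1325), helper8
APPEND-ONLY once landed.
-/

set_option autoImplicit false
set_option linter.style.haveILetI false
universe u
open CategoryTheory CategoryTheory.Limits AlgebraicGeometry

namespace GeomConnH8

open Groth.Agent.Lib.GeomRedGenH4 GeomRedGenH8 GeomIrrH8

section Top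

theorem connectedSpace_iff_isConnected_range {A B : Type*} [TopologicalSpace A]
    [TopologicalSpace B] {e : A → B} (he : Topology.IsEmbedding e) :
    ConnectedSpace A ↔ _root_.IsConnected (Set.range e) := by
  constructor
  · intro h
    exact isConnected_range he.continuous
  · intro h
    haveI : ConnectedSpace ↥(Set.range e) := isConnected_iff_connectedSpace.mp h
    exact he.toHomeomorph.connectedSpace_iff.mpr inferInstance

/-- transfer of clopen-ness of a trace along an embedding. -/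
theorem isClopen_preimage_val_of_isEmbedding {A B : Type*} [TopologicalSpace A]
    [TopologicalSpace B] {g : A → B} (hg : Topology.IsEmbedding g) (U : Set A) (W : Set B)
    (hUW : g '' U = W) (S : Set B)
    (h : IsClopen (Subtype.val ⁻¹' (g ⁻¹' S) : Set ↥U)) :
    IsClopen (Subtype.val ⁻¹' S : Set ↥W) := by
  subst hUW
  have hemb : Topology.IsEmbedding (fun x : ↥U => g x.1) :=
    hg.comp Topology.IsEmbedding.subtypeVal
  have hr : Set.range (fun x : ↥U => g x.1) = g '' U := by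
    ext b
    constructor
    · rintro ⟨x, rfl⟩
      exact ⟨x.1, x.2, rfl⟩
    · rintro ⟨a, ha, rfl⟩
      exact ⟨⟨a, ha⟩, rfl⟩
  let e : ↥U ≃ₜ ↥(g '' U) := hemb.toHomeomorph.trans (Homeomorph.setCongr hr)
  have he : ∀ x : ↥U, (e x).1 = g x.1 := fun x => rfl
  have h1 : e ⁻¹' (Subtype.val ⁻¹' S : Set ↥(g '' U)) = (Subtype.val ⁻¹' (g ⁻¹' S) : Set ↥U) := by
    ext x
    show (e x).1 ∈ S ↔ g x.1 ∈ S
    rw [he]
  rw [← h1] at h
  exact ⟨e.isClosed_preimage.mp h.1, e.isOpen_preimage.mp h.2⟩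

end Top

section KC

variable {X Y : Scheme.{u}} (f : X ⟶ Y)

theorem connectedSpace_pullback_comp_iff {Z T : Scheme.{u}} (ι : Z ⟶ X) [IsClosedImmersion ι]
    (t : T ⟶ Y) :
    ConnectedSpace ↥(pullback (ι ≫ f) t) ↔
      _root_.IsConnected ((pullback.fst f t) ⁻¹' Set.range ι) := by
  rw [← (pullbackRightPullbackFstIso f t ι).hom.homeomorph.connectedSpace_iff,
    ← Scheme.Pullback.range_snd ι (pullback.fst f t)]
  exact connectedSpace_iff_isConnected_range
    (pullback.snd ι (pullback.fst f t)).isEmbedding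

/-- The connected component of a rational point is geometrically connected. -/
theorem isConnected_preimage_sectionComponent (s : Y ⟶ X) (hs : s ≫ f = 𝟙 Y)
    {K : Type u} [Field K] (t : Spec (CommRingCat.of K) ⟶ Y) :
    _root_.IsConnected ((pullback.fst f t) ⁻¹'
      connectedComponentIn (f ⁻¹' {t (IsLocalRing.closedPoint K)})
        (s (t (IsLocalRing.closedPoint K)))) := by
  have h1 := Groth.Agent.Lib.SecCompBCH4.isPreconnected_preimage_secComp f s hs
    (pullback.snd f t) (pullback.fst f t) t (IsPullback.of_hasPullback f t)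
    (IsLocalRing.closedPoint K)
  have h2 : _root_.IsPreconnected ((pullback.fst f t) ⁻¹'
      connectedComponentIn (f ⁻¹' {t (IsLocalRing.closedPoint K)})
        (s (t (IsLocalRing.closedPoint K)))) := by
    have h3 : (pullback.fst f t) ⁻¹'
        connectedComponentIn (f ⁻¹' {t (IsLocalRing.closedPoint K)})
          (s (t (IsLocalRing.closedPoint K))) =
        (pullback.fst f t) ⁻¹'
          connectedComponentIn (f ⁻¹' {t (IsLocalRing.closedPoint K)})
            (s (t (IsLocalRing.closedPoint K))) ∩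
          (pullback.snd f t) ⁻¹' {IsLocalRing.closedPoint K} :=
      (Set.inter_eq_left.mpr (fun z _ => Subsingleton.elim _ _)).symm
    rw [h3]
    exact h1
  refine ⟨?_, h2⟩
  let σ : Spec (CommRingCat.of K) ⟶ pullback f t :=
    pullback.lift (t ≫ s) (𝟙 _) (by rw [Category.assoc, hs, Category.comp_id, Category.id_comp])
  refine ⟨σ (IsLocalRing.closedPoint K), ?_⟩
  have h4 : (pullback.fst f t) (σ (IsLocalRing.closedPoint K)) =
      s (t (IsLocalRing.closedPoint K)) := by
    rw [← Scheme.Hom.comp_apply, pullback.lift_fst, Scheme.Hom.comp_apply]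
  show (pullback.fst f t) (σ (IsLocalRing.closedPoint K)) ∈
    connectedComponentIn (f ⁻¹' {t (IsLocalRing.closedPoint K)})
      (s (t (IsLocalRing.closedPoint K)))
  rw [h4]
  apply mem_connectedComponentIn
  show f (s _) = _
  rw [← Scheme.Hom.comp_apply, hs]
  rfl

end KC

section Irr

variable {X Y : Scheme.{u}} (f : X ⟶ Y)

theorem exists_open_sectionComponents_eq [IrreducibleSpace ↑Y] [LocallyOfFiniteType f]
    [QuasiCompact f] (s : Y ⟶ X) (hs : s ≫ f = 𝟙 Y) :
    ∃ (V : Y.Opens) (T₁ T₂ : Set X), genericPoint ↑Y ∈ V ∧ IsClosed T₁ ∧ IsClosed T₂ ∧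
      (∀ y ∈ V, f ⁻¹' {y} ⊆ T₁ ∪ T₂) ∧ (∀ y ∈ V, ¬ (T₁ ∩ T₂ ∩ f ⁻¹' {y}).Nonempty) ∧
      ∀ y ∈ V, connectedComponentIn (f ⁻¹' {y}) (s y) = T₁ ∩ f ⁻¹' {y} := by
  classical
  have hfs : ∀ y, f (s y) = y := fun y => by
    rw [← Scheme.Hom.comp_apply, hs]; rfl
  -- the generic fibre
  haveI : LocallyOfFiniteType (f.fiberToSpecResidueField (genericPoint ↑Y)) :=
    MorphismProperty.pullback_snd _ _ inferInstance
  haveI : QuasiCompact (f.fiberToSpecResidueField (genericPoint ↑Y)) :=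
    MorphismProperty.pullback_snd _ _ inferInstance
  haveI : IsLocallyNoetherian (f.fiber (genericPoint ↑Y)) :=
    LocallyOfFiniteType.isLocallyNoetherian (f.fiberToSpecResidueField (genericPoint ↑Y))
  haveI : CompactSpace ↥(f.fiber (genericPoint ↑Y)) :=
    QuasiCompact.compactSpace_of_compactSpace (f.fiberToSpecResidueField (genericPoint ↑Y))
  haveI : IsNoetherian (f.fiber (genericPoint ↑Y)) := {}
  haveI : Finite (_root_.ConnectedComponents ↥(f.fiber (genericPoint ↑Y))) :=
    Groth.Agent.Lib.FEtCompsH4.finite_connectedComponents _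
  have hsη : s (genericPoint ↑Y) ∈ Set.range (f.fiberι (genericPoint ↑Y)) := by
    rw [f.range_fiberι]; exact hfs _
  obtain ⟨w₀, hw₀⟩ := hsη
  have hCwclopen : IsClopen (connectedComponent w₀) := by
    have := Groth.Agent.Lib.FEtCompsH4.isClopen_preimage_mk ↥(f.fiber (genericPoint ↑Y))
      {ConnectedComponents.mk w₀}
    rwa [connectedComponents_preimage_singleton] at this
  have hpre : (f.fiberι (genericPoint ↑Y)) ⁻¹'
      connectedComponentIn (f ⁻¹' {genericPoint ↑Y}) (s (genericPoint ↑Y)) =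
      connectedComponent w₀ := by
    rw [← hw₀]; exact Groth.Agent.Lib.SecCompBCH4.preimage_fiberι_cc f _ w₀
  have hind := (f.fiberι (genericPoint ↑Y)).isEmbedding.isInducing
  have hT₁pre : (f.fiberι (genericPoint ↑Y)) ⁻¹'
      closure ((f.fiberι (genericPoint ↑Y)) '' connectedComponent w₀) =
      connectedComponent w₀ := by
    rw [← hind.closure_eq_preimage_closure_image, hCwclopen.1.closure_eq]
  have hT₂pre : (f.fiberι (genericPoint ↑Y)) ⁻¹'
      closure ((f.fiberι (genericPoint ↑Y)) '' (connectedComponent w₀)ᶜ) =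
      (connectedComponent w₀)ᶜ := by
    rw [← hind.closure_eq_preimage_closure_image, hCwclopen.2.isClosed_compl.closure_eq]
  generalize hT₁ : closure ((f.fiberι (genericPoint ↑Y)) '' connectedComponent w₀) = T₁
    at hT₁pre
  generalize hT₂ : closure ((f.fiberι (genericPoint ↑Y)) '' (connectedComponent w₀)ᶜ) = T₂
    at hT₂pre
  have hT₁c : IsClosed T₁ := hT₁ ▸ isClosed_closure
  have hT₂c : IsClosed T₂ := hT₂ ▸ isClosed_closure
  -- generic fibre: cover and disjointness
  have hcovη : f ⁻¹' {genericPoint ↑Y} ⊆ ⋃ j : Fin 2, (if j = 0 then T₁ else T₂) := by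
    intro x hx
    rw [← f.range_fiberι] at hx
    obtain ⟨w, rfl⟩ := hx
    by_cases hw : w ∈ connectedComponent w₀
    · refine Set.mem_iUnion.mpr ⟨0, ?_⟩
      rw [if_pos rfl]
      have : w ∈ (f.fiberι (genericPoint ↑Y)) ⁻¹' T₁ := by rw [hT₁pre]; exact hw
      exact this
    · refine Set.mem_iUnion.mpr ⟨1, ?_⟩
      rw [if_neg (by decide)]
      have : w ∈ (f.fiberι (genericPoint ↑Y)) ⁻¹' T₂ := by rw [hT₂pre]; exact hw
      exact this
  have hdisjη : ¬ (T₁ ∩ T₂ ∩ f ⁻¹' {genericPoint ↑Y}).Nonempty := by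
    rintro ⟨x, ⟨hx1, hx2⟩, hx⟩
    rw [← f.range_fiberι] at hx
    obtain ⟨w, rfl⟩ := hx
    have h1 : w ∈ (f.fiberι (genericPoint ↑Y)) ⁻¹' T₁ := hx1
    have h2 : w ∈ (f.fiberι (genericPoint ↑Y)) ⁻¹' T₂ := hx2
    rw [hT₁pre] at h1
    rw [hT₂pre] at h2
    exact h2 h1
  obtain ⟨V₁, hV₁η, hV₁⟩ := exists_open_empty f (T₁ ∩ T₂) (hT₁c.inter hT₂c) hdisjη
  obtain ⟨V₂, hV₂η, hV₂⟩ := exists_open_cover f (fun j : Fin 2 => if j = 0 then T₁ else T₂)
    (fun j => by split_ifs <;> assumption) hcovη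
  -- geometric connectedness of `T₁`
  obtain ⟨C, ι, hι, hrange⟩ := ProdGenH8.exists_closedImmersion_range X T₁ hT₁c
  haveI := hι
  have hgc : GeometricallyConnected ((ι ≫ f).fiberToSpecResidueField (genericPoint ↑Y)) :=
    ⟨geometrically_fiber_of_forall (ι ≫ f) (ConnectedSpace ·) _ (fun K _ t ht => by
      rw [connectedSpace_pullback_comp_iff f ι t, hrange]
      have h1 := isConnected_preimage_sectionComponent f s hs t
      rw [ht] at h1
      have h2 : (pullback.fst f t) ⁻¹' T₁ = (pullback.fst f t) ⁻¹'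
          connectedComponentIn (f ⁻¹' {genericPoint ↑Y}) (s (genericPoint ↑Y)) := by
        ext z
        have hz : pullback.fst f t z ∈ f ⁻¹' {genericPoint ↑Y} := by
          have := fst_mem_fiber f t z
          rwa [ht] at this
        rw [← f.range_fiberι] at hz
        obtain ⟨w, hw⟩ := hz
        show pullback.fst f t z ∈ T₁ ↔ pullback.fst f t z ∈
          connectedComponentIn (f ⁻¹' {genericPoint ↑Y}) (s (genericPoint ↑Y))
        rw [← hw]
        have a : (f.fiberι (genericPoint ↑Y)) w ∈ T₁ ↔ w ∈ connectedComponent w₀ := by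
          rw [← hT₁pre]; rfl
        have b : (f.fiberι (genericPoint ↑Y)) w ∈
            connectedComponentIn (f ⁻¹' {genericPoint ↑Y}) (s (genericPoint ↑Y)) ↔
            w ∈ connectedComponent w₀ := by
          rw [← hpre]; rfl
        rw [a, b]
      rw [h2]
      exact h1)⟩
  obtain ⟨V₃, hV₃ne, hV₃⟩ := main0420 (ι ≫ f) hgc
  have hV₃η : genericPoint ↑Y ∈ V₃ :=
    ((genericPoint_spec Y).mem_open_set_iff V₃.2).2 (by simpa using hV₃ne)
  have hconn : ∀ y ∈ V₃, _root_.IsConnected (T₁ ∩ f ⁻¹' {y}) := by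
    intro y hy
    have h1 := (geometrically_restrict_iff (ι ≫ f) (ConnectedSpace ·) V₃).mp
      hV₃.geometrically_connectedSpace (Y.residueField y) (Y.fromSpecResidueField y)
      (by rw [Scheme.fromSpecResidueField_apply]; exact hy)
    rw [connectedSpace_pullback_comp_iff f ι _, hrange] at h1
    have h2 := h1.image (pullback.fst f (Y.fromSpecResidueField y))
      (pullback.fst f (Y.fromSpecResidueField y)).continuous.continuousOn
    rw [Set.image_preimage_eq_inter_range] at h2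
    have h3 : Set.range (pullback.fst f (Y.fromSpecResidueField y)) = f ⁻¹' {y} :=
      f.range_fiberι y
    rwa [h3] at h2
  have hsT₁ : ∀ y, s y ∈ T₁ := by
    intro y
    have h1 : IsClosed (s ⁻¹' T₁) := hT₁c.preimage s.continuous
    have h2 : genericPoint ↑Y ∈ s ⁻¹' T₁ := by
      show s (genericPoint ↑Y) ∈ T₁
      rw [← hw₀]
      have : w₀ ∈ (f.fiberι (genericPoint ↑Y)) ⁻¹' T₁ := by
        rw [hT₁pre]; exact mem_connectedComponent
      exact this
    have h3 : closure {genericPoint ↑Y} ⊆ s ⁻¹' T₁ :=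
      h1.closure_subset_iff.mpr (Set.singleton_subset_iff.mpr h2)
    rw [(genericPoint_spec Y).def] at h3
    exact h3 (Set.mem_univ y)
  refine ⟨V₁ ⊓ V₂ ⊓ V₃, T₁, T₂, ⟨⟨hV₁η, hV₂η⟩, hV₃η⟩, hT₁c, hT₂c, ?_, ?_, ?_⟩
  · rintro y ⟨⟨-, hy2⟩, -⟩ x hx
    obtain ⟨j, hj⟩ := Set.mem_iUnion.mp (hV₂ y hy2 hx)
    by_cases h0 : j = 0
    · rw [if_pos h0] at hj; exact Or.inl hj
    · rw [if_neg h0] at hj; exact Or.inr hj
  · rintro y ⟨⟨hy1, -⟩, -⟩
    exact hV₁ y hy1
  · rintro y ⟨⟨hy1, hy2⟩, hy3⟩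
    apply Set.Subset.antisymm
    · intro x hx
      refine ⟨?_, connectedComponentIn_subset _ _ hx⟩
      by_contra hxT₁
      have hpc : _root_.IsPreconnected (connectedComponentIn (f ⁻¹' {y}) (s y)) :=
        isPreconnected_connectedComponentIn
      rw [isPreconnected_closed_iff] at hpc
      have hsub : connectedComponentIn (f ⁻¹' {y}) (s y) ⊆ T₁ ∪ T₂ := by
        intro x' hx'
        obtain ⟨j, hj⟩ := Set.mem_iUnion.mp (hV₂ y hy2 (connectedComponentIn_subset _ _ hx'))
        by_cases h0 : j = 0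
        · rw [if_pos h0] at hj; exact Or.inl hj
        · rw [if_neg h0] at hj; exact Or.inr hj
      have hxT₂ : x ∈ T₂ := (hsub hx).resolve_left hxT₁
      obtain ⟨x', hx'1, hx'2⟩ := hpc T₁ T₂ hT₁c hT₂c hsub
        ⟨s y, mem_connectedComponentIn (hfs y), hsT₁ y⟩ ⟨x, hx, hxT₂⟩
      exact hV₁ y hy1 ⟨x', hx'2, connectedComponentIn_subset _ _ hx'1⟩
    · exact (hconn y hy3).isPreconnected.subset_connectedComponentIn ⟨hsT₁ y, hfs y⟩
        Set.inter_subset_right

theorem isClopen_sectionComponents_of_irreducible [IrreducibleSpace ↑Y] [LocallyOfFiniteType f]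
    [QuasiCompact f] (s : Y ⟶ X) (hs : s ≫ f = 𝟙 Y) :
    ∃ V : Y.Opens, genericPoint ↑Y ∈ V ∧
      IsClopen (Subtype.val ⁻¹' MoreMor.sectionComponents f s : Set ↥(f ⁻¹' (V : Set ↑Y))) := by
  obtain ⟨V, T₁, T₂, hVη, hT₁c, hT₂c, hcov, hdisj, heq⟩ :=
    exists_open_sectionComponents_eq f s hs
  refine ⟨V, hVη, ?_⟩
  have hB : (Subtype.val ⁻¹' MoreMor.sectionComponents f s : Set ↥(f ⁻¹' (V : Set ↑Y))) =
      Subtype.val ⁻¹' T₁ := by
    ext ⟨x, hx⟩
    show x ∈ connectedComponentIn (f ⁻¹' {f x}) (s (f x)) ↔ x ∈ T₁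
    rw [heq (f x) hx]
    exact ⟨fun h => h.1, fun h => ⟨h, rfl⟩⟩
  have hC : (Subtype.val ⁻¹' T₁ : Set ↥(f ⁻¹' (V : Set ↑Y)))ᶜ = Subtype.val ⁻¹' T₂ := by
    ext ⟨x, hx⟩
    constructor
    · intro h1
      exact (hcov (f x) hx (rfl : x ∈ f ⁻¹' {f x})).resolve_left h1
    · intro h2 h1
      exact hdisj (f x) hx ⟨x, ⟨h1, h2⟩, rfl⟩
  rw [hB]
  refine ⟨hT₁c.preimage continuous_subtype_val, ?_⟩
  rw [← isClosed_compl_iff, hC]
  exact hT₂c.preimage continuous_subtype_val

end Irr

section Main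

variable {X Y : Scheme.{u}} (f : X ⟶ Y)

/-- S1325 -/
theorem main1325 (s : Y ⟶ X) (hs : s ≫ f = 𝟙 Y) [LocallyOfFiniteType f] [QuasiCompact f]
    (y : Y) :
    ∃ V : Set ↑Y, V ⊆ closure {y} ∧ y ∈ V ∧
      IsOpen (Subtype.val ⁻¹' V : Set ↑(closure ({y} : Set ↑Y))) ∧
      IsClopen (Subtype.val ⁻¹' MoreMor.sectionComponents f s : Set ↑(f ⁻¹' V)) := by
  obtain ⟨Y₁, j, hj, hint, hrange, hgen⟩ :=
    CohDevH8.exists_integral_subscheme (closure {y}) isClosed_closure y rfl
  haveI := hj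
  haveI := hint
  haveI : LocallyOfFiniteType (pullback.snd f j) := MorphismProperty.pullback_snd _ _ inferInstance
  haveI : QuasiCompact (pullback.snd f j) := MorphismProperty.pullback_snd _ _ inferInstance
  haveI : IsClosedImmersion (pullback.fst f j) := MorphismProperty.pullback_fst _ _ inferInstance
  let s₁ : Y₁ ⟶ pullback f j := pullback.lift (j ≫ s) (𝟙 Y₁)
    (by rw [Category.assoc, hs, Category.comp_id, Category.id_comp])
  have hs₁ : s₁ ≫ pullback.snd f j = 𝟙 Y₁ := pullback.lift_snd _ _ _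
  have hs₁g : s₁ ≫ pullback.fst f j = j ≫ s := pullback.lift_fst _ _ _
  have hSC := Groth.Agent.Lib.SecCompBCH4.main1324 f s hs (pullback.snd f j) (pullback.fst f j) j
    (IsPullback.of_hasPullback f j) s₁ hs₁ hs₁g
  obtain ⟨V₁, hV₁η, hV₁⟩ := isClopen_sectionComponents_of_irreducible (pullback.snd f j) s₁ hs₁
  refine ⟨j '' (V₁ : Set ↑Y₁), ?_, ⟨_, hV₁η, hgen⟩, ?_, ?_⟩
  · rw [← hrange]
    exact Set.image_subset_range _ _
  · obtain ⟨U, hU, hUV⟩ := j.isEmbedding.isInducing.isOpen_iff.mp V₁.2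
    have hUV' : (V₁ : Set ↑Y₁) = j ⁻¹' U := hUV.symm
    have h1 : j '' (V₁ : Set ↑Y₁) = U ∩ closure {y} := by
      rw [hUV', Set.image_preimage_eq_inter_range, hrange]
    rw [h1, Set.preimage_inter]
    have h2 : (Subtype.val ⁻¹' closure {y} : Set ↑(closure ({y} : Set ↑Y))) = Set.univ := by
      ext z
      simp only [Set.mem_preimage, Set.mem_univ, iff_true]
      exact z.2
    rw [h2, Set.inter_univ]
    exact hU.preimage continuous_subtype_val
  · apply isClopen_preimage_val_of_isEmbedding (pullback.fst f j).isEmbedding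
      ((pullback.snd f j) ⁻¹' (V₁ : Set ↑Y₁))
    · ext x
      constructor
      · rintro ⟨x₁, hx₁, rfl⟩
        refine ⟨(pullback.snd f j) x₁, hx₁, ?_⟩
        rw [← Scheme.Hom.comp_apply, ← pullback.condition, Scheme.Hom.comp_apply]
      · rintro ⟨v, hv, hvx⟩
        obtain ⟨x₁, hx₁1, hx₁2⟩ := Scheme.Pullback.exists_preimage_pullback
          (f := f) (g := j) x v hvx.symm
        refine ⟨x₁, ?_, hx₁1⟩
        show (pullback.snd f j) x₁ ∈ (V₁ : Set ↑Y₁)
        rw [hx₁2]
        exact hv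
    · rw [← hSC]
      exact hV₁

end Main

end GeomConnH8
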