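import Mathlib
import Groth.Agent.Lib.GeomConnJ_helper8
import Groth.Agent.Lib.GeomConnH_helper8

/-!
# Local constructibility of the section components (S1326), helper8
APPEND-ONLY once landed.
-/

set_option autoImplicit false
set_option linter.style.haveILetI false
universe u
open CategoryTheory CategoryTheory.Limits AlgebraicGeometry Topology
open scoped Set.Notation

namespace GeomConnH8

open Groth.Agent.Lib.ConsPropH7

section Noeth

variable {X Y : Scheme.{u}} (f : X ⟶ Y)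

theorem isConstructible_sectionComponents_of_isNoetherian [IsNoetherian Y]
    [LocallyOfFiniteType f] [QuasiCompact f] (s : Y ⟶ X) (hs : s ≫ f = 𝟙 Y) :
    IsConstructible (MoreMor.sectionComponents f s) := by
  haveI : IsLocallyNoetherian X := LocallyOfFiniteType.isLocallyNoetherian f
  haveI : CompactSpace ↥X := QuasiCompact.compactSpace_of_compactSpace f
  haveI : IsNoetherian X := {}
  apply isConstructible_of_forall_generic
  intro ξ
  obtain ⟨V, hVsub, hyV, hVo, hclopen⟩ := main1325 f s hs (f ξ)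
  obtain ⟨UY, hUY, hUV⟩ := isOpen_induced_iff.mp hVo
  have hVU : UY ∩ closure {f ξ} = V := by
    ext z
    constructor
    · rintro ⟨hzU, hzc⟩
      have : (⟨z, hzc⟩ : ↑(closure ({f ξ} : Set ↑Y))) ∈ Subtype.val ⁻¹' UY := hzU
      rw [hUV] at this
      exact this
    · intro hzV
      have hzc := hVsub hzV
      have : (⟨z, hzc⟩ : ↑(closure ({f ξ} : Set ↑Y))) ∈ Subtype.val ⁻¹' V := hzV
      rw [← hUV] at this
      exact ⟨this, hzc⟩
  have hξUY : f ξ ∈ UY := (hVU.symm ▸ hyV : f ξ ∈ UY ∩ closure {f ξ}).1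
  have hcl : ∀ z ∈ closure ({ξ} : Set ↑X), f z ∈ closure ({f ξ} : Set ↑Y) := by
    intro z hz
    have h1 := image_closure_subset_closure_image f.continuous (s := {ξ}) ⟨z, hz, rfl⟩
    rwa [Set.image_singleton] at h1
  have hzV : ∀ z, f z ∈ UY → z ∈ closure ({ξ} : Set ↑X) → z ∈ f ⁻¹' V := by
    intro z hz1 hz2
    show f z ∈ V
    rw [← hVU]
    exact ⟨hz1, hcl z hz2⟩
  have hξV : ξ ∈ f ⁻¹' V := hyV
  by_cases hξ : ξ ∈ MoreMor.sectionComponents f s
  · obtain ⟨W, hW, hWeq⟩ := isOpen_induced_iff.mp hclopen.2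
    have hξW : ξ ∈ W := by
      have : (⟨ξ, hξV⟩ : ↑(f ⁻¹' V)) ∈ Subtype.val ⁻¹' W := by rw [hWeq]; exact hξ
      exact this
    refine ⟨f ⁻¹' UY ∩ W, (hUY.preimage f.continuous).inter hW, ⟨hξUY, hξW⟩, Or.inl ?_⟩
    rintro z ⟨⟨hz1, hz2⟩, hz3⟩
    have : (⟨z, hzV z hz1 hz3⟩ : ↑(f ⁻¹' V)) ∈ Subtype.val ⁻¹' W := hz2
    rw [hWeq] at this
    exact this
  · obtain ⟨W, hW, hWeq⟩ := isOpen_induced_iff.mp hclopen.1.isOpen_compl
    have hξW : ξ ∈ W := by
      have : (⟨ξ, hξV⟩ : ↑(f ⁻¹' V)) ∈ Subtype.val ⁻¹' W := by rw [hWeq]; exact hξ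
      exact this
    refine ⟨f ⁻¹' UY ∩ W, (hUY.preimage f.continuous).inter hW, ⟨hξUY, hξW⟩, Or.inr ?_⟩
    rintro z ⟨⟨hz1, hz2⟩, hz3⟩
    have : (⟨z, hzV z hz1 hz3⟩ : ↑(f ⁻¹' V)) ∈ Subtype.val ⁻¹' W := hz2
    rw [hWeq] at this
    exact this

end Noeth

section Aff

theorem isConstructible_sectionComponents_of_isAffine {X Y : Scheme.{u}} [IsAffine Y] (f : X ⟶ Y)
    [LocallyOfFinitePresentation f] [QuasiCompact f] [QuasiSeparated f]
    (s : Y ⟶ X) (hs : s ≫ f = 𝟙 Y) :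
    IsConstructible (MoreMor.sectionComponents f s) := by
  haveI : LocallyOfFinitePresentation (s ≫ f) := by rw [hs]; infer_instance
  haveI : QuasiCompact (s ≫ f) := by rw [hs]; infer_instance
  haveI : QuasiSeparated (s ≫ f) := by rw [hs]; infer_instance
  obtain ⟨S₀, Y₁, X₀, hN, f₀, g₀, h, qX, qY, h1, h2, h3, h4, h5, h6⟩ :=
    exists_noetherian_model_of_isAffine s f
  haveI := hN; haveI := h1; haveI := h2; haveI := h3; haveI := h4
  haveI : IsLocallyNoetherian Y₁ := LocallyOfFiniteType.isLocallyNoetherian (f₀ ≫ g₀)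
  haveI : CompactSpace ↥Y₁ := QuasiCompact.compactSpace_of_compactSpace (f₀ ≫ g₀)
  haveI : IsNoetherian Y₁ := {}
  haveI : LocallyOfFiniteType (pullback.snd g₀ (f₀ ≫ g₀)) :=
    MorphismProperty.pullback_snd _ _ inferInstance
  haveI : QuasiCompact (pullback.snd g₀ (f₀ ≫ g₀)) :=
    MorphismProperty.pullback_snd _ _ inferInstance
  have hh : qX ≫ f₀ ≫ g₀ = h := by
    rw [← Category.assoc, h6.w, Category.assoc, h5.w, ← Category.assoc, hs, Category.id_comp]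
  let s₁ : Y₁ ⟶ pullback g₀ (f₀ ≫ g₀) := pullback.lift f₀ (𝟙 Y₁) (by rw [Category.id_comp])
  have hs₁ : s₁ ≫ pullback.snd g₀ (f₀ ≫ g₀) = 𝟙 Y₁ := pullback.lift_snd _ _ _
  let g' : X ⟶ pullback g₀ (f₀ ≫ g₀) := pullback.lift qY (f ≫ qX)
    (by rw [h5.w, Category.assoc, hh])
  have hg'1 : g' ≫ pullback.fst g₀ (f₀ ≫ g₀) = qY := pullback.lift_fst _ _ _
  have hg'2 : g' ≫ pullback.snd g₀ (f₀ ≫ g₀) = f ≫ qX := pullback.lift_snd _ _ _
  have hbig : IsPullback (g' ≫ pullback.fst g₀ (f₀ ≫ g₀)) f g₀ (qX ≫ f₀ ≫ g₀) := by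
    rw [hg'1, hh]; exact h5
  have hpb : IsPullback g' f (pullback.snd g₀ (f₀ ≫ g₀)) qX :=
    IsPullback.of_right hbig hg'2 (IsPullback.of_hasPullback g₀ (f₀ ≫ g₀))
  have hsg : s ≫ g' = qX ≫ s₁ := by
    apply pullback.hom_ext
    · rw [Category.assoc, hg'1, Category.assoc, pullback.lift_fst, h6.w]
    · rw [Category.assoc, hg'2, Category.assoc, pullback.lift_snd, ← Category.assoc, hs,
        Category.id_comp, Category.comp_id]
  rw [Groth.Agent.Lib.SecCompBCH4.main1324 (pullback.snd g₀ (f₀ ≫ g₀)) s₁ hs₁ f g' qX hpb s hs hsg]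
  exact g'.isConstructible_preimage
    (isConstructible_sectionComponents_of_isNoetherian _ s₁ hs₁)

end Aff

section Main

variable {X Y : Scheme.{u}} (f : X ⟶ Y)

/-- S1326 -/
theorem main1326 (s : Y ⟶ X) (hs : s ≫ f = 𝟙 Y)
    [LocallyOfFinitePresentation f] [QuasiCompact f] [QuasiSeparated f] :
    IsLocallyConstructible (MoreMor.sectionComponents f s) := by
  intro x
  obtain ⟨_, ⟨U, hU, rfl⟩, hxU, -⟩ :=
    Y.isBasis_affineOpens.exists_subset_of_mem_open (Set.mem_univ (f x)) isOpen_univ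
  refine ⟨(f ⁻¹ᵁ U : X.Opens), (f ⁻¹ᵁ U).2.mem_nhds hxU, (f ⁻¹ᵁ U).2, ?_⟩
  haveI : IsAffine (U : Scheme.{u}) := hU
  have hpb := (isPullback_morphismRestrict f (U : Y.Opens)).flip
  let sU : (U : Scheme.{u}) ⟶ (f ⁻¹ᵁ U : Scheme.{u}) :=
    hpb.lift (Scheme.Opens.ι U ≫ s) (𝟙 _) (by rw [Category.assoc, hs, Category.comp_id, Category.id_comp])
  have hsU1 : sU ≫ (f ⁻¹ᵁ U).ι = Scheme.Opens.ι U ≫ s := hpb.lift_fst _ _ _
  have hsU2 : sU ≫ (f ∣_ U) = 𝟙 _ := hpb.lift_snd _ _ _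
  have e := Groth.Agent.Lib.SecCompBCH4.main1324 f s hs (f ∣_ U) (f ⁻¹ᵁ U).ι (Scheme.Opens.ι U)
    hpb sU hsU2 hsU1
  have e' : (((f ⁻¹ᵁ U : X.Opens) : Set X) ↓∩ MoreMor.sectionComponents f s) =
      MoreMor.sectionComponents (f ∣_ U) sU := by
    rw [e]; rfl
  rw [e']
  exact isConstructible_sectionComponents_of_isAffine (f ∣_ U) sU hsU2

end Main

end GeomConnH8
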