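import Groth.Agent.Lib.SchDomField_lead
import Groth.Agent.Lib.SchImage_helper9
import Groth.Agent.Lib.CohDev6_helper8

/-! # Reduced closure of a family of geometrically reduced schemes commutes with field extension (lead) -/

set_option autoImplicit false
set_option backward.isDefEq.respectTransparency false
set_option linter.unusedSimpArgs false
set_option linter.unusedVariables false
set_option linter.unusedSectionVars false
set_option linter.style.longLine false
set_option linter.style.haveILetI false
set_option linter.unnecessarySimpa false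
set_option maxHeartbeats 1600000

universe u

open CategoryTheory CategoryTheory.Limits AlgebraicGeometry TopologicalSpace

namespace Groth.Agent.Lib.GeomRedClosure

variable {k : Type u} [Field k]

/-- geometric reducedness at all points gives reducedness of the base change. -/
theorem isReduced_bc {Z : Scheme.{u}} (h : Z ⟶ Spec (CommRingCat.of k))
    (hh : ∀ z : Z, FBase.IsGeomReducedAt h z) (K : Type u) [Field K] [Algebra k K] :
    IsReduced (pullback h (Spec.map (CommRingCat.ofHom (algebraMap k K)))) := by
  haveI : ∀ x : ↥(pullback h (Spec.map (CommRingCat.ofHom (algebraMap k K)))),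
      _root_.IsReduced
        ((pullback h (Spec.map (CommRingCat.ofHom (algebraMap k K)))).presheaf.stalk x) :=
    fun x => hh _ K x rfl
  exact isReduced_of_isReduced_stalk _

theorem isReduced_self {Z : Scheme.{u}} (h : Z ⟶ Spec (CommRingCat.of k))
    (hh : ∀ z : Z, FBase.IsGeomReducedAt h z) : IsReduced Z := by
  haveI := isReduced_bc h hh k
  haveI : IsIso (Spec.map (CommRingCat.ofHom (algebraMap k k))) := by
    rw [show CommRingCat.ofHom (algebraMap k k) = 𝟙 _ from rfl, Spec.map_id]; infer_instance
  exact isReduced_of_isOpenImmersion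
    (inv (pullback.fst h (Spec.map (CommRingCat.ofHom (algebraMap k k)))))

theorem sections_dominant {X : Scheme.{u}} {ι : Type u} (Z : ι → Scheme.{u}) (f : ∀ i, Z i ⟶ X)
    (I : X.IdealSheafData)
    (hI : (I.support : Set X) = closure (⋃ i, Set.range (f i)))
    [IsReduced I.subscheme]
    (g : ∀ i, Z i ⟶ I.subscheme) (hg : ∀ i, g i ≫ I.subschemeι = f i) :
    ∀ (V : I.subscheme.Opens) (t : Γ(I.subscheme, V)), (∀ i, (g i).app V t = 0) → t = 0 := by
  intro V t ht
  apply AlgebraicGeometry.eq_zero_of_basicOpen_eq_bot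
  rw [eq_bot_iff]
  intro y hy
  exfalso
  have hyC : I.subschemeι y ∈ closure (⋃ i, Set.range (f i)) := by
    rw [← hI, ← I.range_subschemeι]; exact ⟨y, rfl⟩
  obtain ⟨O, hO, hOeq⟩ := (I.subschemeι.isEmbedding.isInducing.isOpen_iff).mp
    (I.subscheme.basicOpen t).isOpen
  have hyO : I.subschemeι y ∈ O := by
    have : y ∈ I.subschemeι ⁻¹' O := by rw [hOeq]; exact hy
    exact this
  obtain ⟨x, hxO, hxS⟩ := mem_closure_iff.mp hyC O hO hyO
  obtain ⟨i, z, rfl⟩ := Set.mem_iUnion.mp hxS
  have hz : (g i) z ∈ I.subscheme.basicOpen t := by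
    have : (g i) z ∈ I.subschemeι ⁻¹' O := by
      show I.subschemeι ((g i) z) ∈ O
      rw [← Scheme.Hom.comp_apply, hg]; exact hxO
    rw [hOeq] at this; exact this
  have hz' : z ∈ (g i) ⁻¹ᵁ (I.subscheme.basicOpen t) := hz
  rw [Scheme.preimage_basicOpen, ht i, Scheme.basicOpen_zero] at hz'
  exact hz'

theorem core {X : Scheme.{u}} (p : X ⟶ Spec (CommRingCat.of k)) {ι : Type u}
    (Z : ι → Scheme.{u}) (f : ∀ i, Z i ⟶ X)
    (hredZ : ∀ i, IsReduced (Z i))
    {S' : Scheme.{u}} (q : S' ⟶ Spec (CommRingCat.of k))
    (hopen : IsOpenMap (pullback.fst p q))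
    (hred' : ∀ i, IsReduced (pullback (f i ≫ p) q)) :
    Scheme.IdealSheafData.vanishingIdeal (TopologicalSpace.Closeds.closure (⋃ i, Set.range
      (pullback.map (f i ≫ p) q p q (f i) (𝟙 _) (𝟙 _) (Category.comp_id _)
        ((Category.comp_id _).trans (Category.id_comp _).symm)))) =
      (Scheme.IdealSheafData.vanishingIdeal
        (TopologicalSpace.Closeds.closure (⋃ i, Set.range (f i)))).comap (pullback.fst p q) := by
  set C : Closeds X := TopologicalSpace.Closeds.closure (⋃ i, Set.range (f i)) with hC
  set I := Scheme.IdealSheafData.vanishingIdeal C with hIdef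
  set pr := pullback.fst p q with hpr
  haveI hYred : IsReduced I.subscheme := CohDevH8.isReduced_subscheme_vanishingIdeal C
  haveI hZred : ∀ i, IsReduced (Z i) := hredZ
  have hle : ∀ i, I.subschemeι.ker ≤ (f i).ker := by
    intro i
    rw [I.ker_subschemeι, Groth.Agent.Lib.SchImage_helper9.ker_eq_vanishingIdeal]
    apply Scheme.IdealSheafData.vanishingIdeal_antimono
    intro x hx
    exact closure_mono (Set.subset_iUnion (fun i => Set.range (f i)) i) hx
  let g : ∀ i, Z i ⟶ I.subscheme := fun i => IsClosedImmersion.lift I.subschemeι (f i) (hle i)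
  have hg : ∀ i, g i ≫ I.subschemeι = f i := fun i => IsClosedImmersion.lift_fac _ _ _
  have hsupp : (I.support : Set X) = closure (⋃ i, Set.range (f i)) := by
    rw [hIdef, Scheme.IdealSheafData.coe_support_vanishingIdeal]; rfl
  have hdom := sections_dominant Z f I hsupp g hg
  have hdom' := Groth.Agent.Lib.SchDomField.main4877 (I.subschemeι ≫ p) q Z g hdom
  have e : ∀ i, g i ≫ I.subschemeι ≫ p = f i ≫ p := fun i => by rw [← Category.assoc, hg]
  haveI hZ'red : ∀ i, IsReduced (pullback (g i ≫ I.subschemeι ≫ p) q) := by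
    intro i
    rw [e i]; exact hred' i
  haveI hY'red : IsReduced (pullback (I.subschemeι ≫ p) q) := by
    refine ⟨fun V => ⟨fun t ht => ?_⟩⟩
    apply hdom' V t
    intro i
    exact (ht.map _).eq_zero
  haveI hY''red : IsReduced (pullback pr I.subschemeι) :=
    isReduced_of_isOpenImmersion
      ((pullbackSymmetry _ _ ≪≫ pullbackRightPullbackFstIso p q I.subschemeι).hom)
  have hker : I.comap pr = Scheme.IdealSheafData.vanishingIdeal
      ⟨closure (Set.range (pullback.fst pr I.subschemeι)), isClosed_closure⟩ :=
    Groth.Agent.Lib.SchImage_helper9.ker_eq_vanishingIdeal (pullback.fst pr I.subschemeι)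
  rw [hker]
  have hrange : ∀ i, Set.range (pullback.map (f i ≫ p) q p q (f i) (𝟙 _) (𝟙 _)
      (Category.comp_id _) ((Category.comp_id _).trans (Category.id_comp _).symm)) =
      pr ⁻¹' Set.range (f i) := by
    intro i
    rw [Scheme.Pullback.range_map]
    have : Set.range (𝟙 S' : S' ⟶ S') = Set.univ := Set.eq_univ_of_forall fun x => ⟨x, rfl⟩
    rw [this, Set.preimage_univ, Set.inter_univ]
  have hrange2 : Set.range (pullback.fst pr I.subschemeι) = pr ⁻¹' (C : Set X) := by
    rw [Scheme.Pullback.range_fst, I.range_subschemeι, hsupp]; rfl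
  have h1 : closure (⋃ i, Set.range (pullback.map (f i ≫ p) q p q (f i) (𝟙 _) (𝟙 _)
      (Category.comp_id _) ((Category.comp_id _).trans (Category.id_comp _).symm))) =
      pr ⁻¹' (C : Set X) := by
    have : (⋃ i, Set.range (pullback.map (f i ≫ p) q p q (f i) (𝟙 _) (𝟙 _)
        (Category.comp_id _) ((Category.comp_id _).trans (Category.id_comp _).symm))) =
        pr ⁻¹' (⋃ i, Set.range (f i)) := by
      rw [Set.preimage_iUnion]; exact Set.iUnion_congr hrange
    rw [this, ← hopen.preimage_closure_eq_closure_preimage pr.continuous]; rfl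
  have h2 : closure (Set.range (pullback.fst pr I.subschemeι)) = pr ⁻¹' (C : Set X) := by
    rw [hrange2]; exact (C.isClosed.preimage pr.continuous).closure_eq
  congr 1
  ext1
  exact h1.trans h2.symm

theorem main4905 {X : Scheme.{u}}
    (p : X ⟶ Spec (CommRingCat.of k)) {ι : Type u} (Z : ι → Scheme.{u}) (f : ∀ i, Z i ⟶ X)
    (hred : ∀ (i : ι) (z : Z i), FBase.IsGeomReducedAt (f i ≫ p) z)
    (k' : Type u) [Field k'] [Algebra k k'] :
    Scheme.IdealSheafData.vanishingIdeal (TopologicalSpace.Closeds.closure (⋃ i, Set.range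
      (pullback.map (f i ≫ p) (Spec.map (CommRingCat.ofHom (algebraMap k k'))) p
        (Spec.map (CommRingCat.ofHom (algebraMap k k'))) (f i) (𝟙 _) (𝟙 _) (Category.comp_id _)
        ((Category.comp_id _).trans (Category.id_comp _).symm)))) =
      (Scheme.IdealSheafData.vanishingIdeal
        (TopologicalSpace.Closeds.closure (⋃ i, Set.range (f i)))).comap
        (pullback.fst p (Spec.map (CommRingCat.ofHom (algebraMap k k')))) := by
  haveI : Subsingleton ↥(Spec (CommRingCat.of k)) :=
    show Subsingleton (PrimeSpectrum k) from inferInstance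
  haveI : UniversallyOpen (Spec.map (CommRingCat.ofHom (algebraMap k k'))) := inferInstance
  haveI : UniversallyOpen (pullback.fst p (Spec.map (CommRingCat.ofHom (algebraMap k k')))) :=
    MorphismProperty.pullback_fst _ _ inferInstance
  exact core p Z f (fun i => isReduced_self (f i ≫ p) (hred i)) _
    (pullback.fst p (Spec.map (CommRingCat.ofHom (algebraMap k k')))).isOpenMap
    (fun i => isReduced_bc (f i ≫ p) (hred i) k')

end Groth.Agent.Lib.GeomRedClosure
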