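import Mathlib
import Groth.Agent.Lib.GeomRedBC2_helper7
import Groth.Agent.Lib.GeomRedClosure_lead

/-!
# Geometric reducedness of fibres at a point and base change (helper8).  APPEND-ONLY once landed.
-/

set_option autoImplicit false
set_option linter.style.haveILetI false
universe u
open CategoryTheory CategoryTheory.Limits AlgebraicGeometry

namespace SecNbhdH8

/-- The fibre of `f` through `x` is geometrically reduced at `x`. -/
def GRAt {X Y : Scheme.{u}} (f : X ⟶ Y) (x : X) : Prop :=
  FBase.IsGeomReducedAt (f.fiberToSpecResidueField (f x)) (f.asFiber x)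

theorem grAt_iff_of_fiber {X Y : Scheme.{u}} (f : X ⟶ Y) (x : X) (y : Y) (h : f x = y)
    (w : ↥(f.fiber y)) (hw : f.fiberι y w = x) :
    FBase.IsGeomReducedAt (f.fiberToSpecResidueField y) w ↔ GRAt f x := by
  subst h
  have hw' : w = f.asFiber x :=
    (f.fiberι (f x)).isEmbedding.injective (hw.trans (f.fiberι_asFiber x).symm)
  subst hw'
  exact Iff.rfl

/-- abstract base change: geometric reducedness at a point is invariant under base field
extension, for an arbitrary pullback square over `Spec k ← Spec K`. -/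
theorem isGeomReducedAt_iff_of_isPullback {k K : Type u} [Field k] [Field K] [Algebra k K]
    {F F' : Scheme.{u}} (f₀ : F ⟶ Spec (CommRingCat.of k)) (f₀' : F' ⟶ Spec (CommRingCat.of K))
    (a : F' ⟶ F)
    (sq : IsPullback a f₀' f₀ (Spec.map (CommRingCat.ofHom (algebraMap k K)))) (w : F') :
    FBase.IsGeomReducedAt f₀' w ↔ FBase.IsGeomReducedAt f₀ (a w) := by
  have h1 : sq.isoPullback.hom ≫ FBase.bcStr f₀ K = f₀' := sq.isoPullback_hom_snd
  have h2 : sq.isoPullback.hom ≫ FBase.bcπ f₀ K = a := sq.isoPullback_hom_fst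
  have e1 := Groth.Agent.Lib.GeomRedH7.isGeomReducedAt_iff_of_etale (k := K) sq.isoPullback.hom
    f₀' (FBase.bcStr f₀ K) h1 w
  have e2 := Groth.Agent.Lib.GeomRedBC2H7.geomRedAt_bc_iff f₀ K (sq.isoPullback.hom w)
  have h3 : (FBase.bcπ f₀ K) (sq.isoPullback.hom w) = a w :=
    (Scheme.Hom.comp_apply sq.isoPullback.hom (FBase.bcπ f₀ K) w).symm.trans
      (congrArg (fun ψ : F' ⟶ F => ψ w) h2)
  rw [h3] at e2
  exact e1.trans e2.symm

section BC

variable {X Y T P : Scheme.{u}} {f : X ⟶ Y} {t : T ⟶ Y} {p : P ⟶ X} {q : P ⟶ T}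

/-- Geometric reducedness of the fibre at a point is invariant under arbitrary base change. -/
theorem grAt_baseChange_iff (sq : IsPullback p q f t) (z : P) : GRAt q z ↔ GRAt f (p z) := by
  have hy : f (p z) = t (q z) :=
    (Scheme.Hom.comp_apply p f z).symm.trans
      ((congrArg (fun ψ : P ⟶ Y => ψ z) sq.w).trans (Scheme.Hom.comp_apply q t z))
  let ρ : Y.residueField (f (p z)) ⟶ T.residueField (q z) :=
    (Y.residueFieldCongr hy).hom ≫ t.residueFieldMap (q z)
  have hρ : Spec.map ρ ≫ Y.fromSpecResidueField (f (p z)) = T.fromSpecResidueField (q z) ≫ t := by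
    rw [Spec.map_comp, Category.assoc, Scheme.residueFieldCongr_fromSpecResidueField,
      Scheme.Hom.SpecMap_residueFieldMap_fromSpecResidueField]
  have sqT : IsPullback (q.fiberι (q z) ≫ p) (q.fiberToSpecResidueField (q z)) f
      (T.fromSpecResidueField (q z) ≫ t) :=
    (IsPullback.of_hasPullback q (T.fromSpecResidueField (q z))).paste_horiz sq
  rw [← hρ] at sqT
  have sqY : IsPullback (f.fiberι (f (p z))) (f.fiberToSpecResidueField (f (p z))) f
      (Y.fromSpecResidueField (f (p z))) := IsPullback.of_hasPullback _ _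
  let a : q.fiber (q z) ⟶ f.fiber (f (p z)) :=
    sqY.lift (q.fiberι (q z) ≫ p) (q.fiberToSpecResidueField (q z) ≫ Spec.map ρ)
      (by rw [sqT.w, Category.assoc])
  have ha1 : a ≫ f.fiberι _ = q.fiberι (q z) ≫ p := sqY.lift_fst _ _ _
  have ha2 : a ≫ f.fiberToSpecResidueField _ = q.fiberToSpecResidueField (q z) ≫ Spec.map ρ :=
    sqY.lift_snd _ _ _
  have sqL : IsPullback a (q.fiberToSpecResidueField (q z))
      (f.fiberToSpecResidueField (f (p z))) (Spec.map ρ) :=
    IsPullback.of_right (by rw [ha1]; exact sqT) ha2 sqY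
  letI : Algebra (IsLocalRing.ResidueField (Y.presheaf.stalk (f (p z))))
      (IsLocalRing.ResidueField (T.presheaf.stalk (q z))) := ρ.hom.toAlgebra
  have key := isGeomReducedAt_iff_of_isPullback
    (k := IsLocalRing.ResidueField (Y.presheaf.stalk (f (p z))))
    (K := IsLocalRing.ResidueField (T.presheaf.stalk (q z)))
    (f.fiberToSpecResidueField (f (p z))) (q.fiberToSpecResidueField (q z)) a sqL (q.asFiber z)
  have haz : a (q.asFiber z) = f.asFiber (p z) := by
    apply (f.fiberι _).isEmbedding.injective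
    rw [← Scheme.Hom.comp_apply, ha1, Scheme.Hom.comp_apply, Scheme.Hom.fiberι_asFiber,
      Scheme.Hom.fiberι_asFiber]
  rw [haz] at key
  exact key

end BC

section OI

/-- restricting the source along an étale morphism does not change geometric reducedness of the
fibre at a point. -/
theorem grAt_comp_iff_of_etale {U X Y : Scheme.{u}} (j : U ⟶ X) [Etale j] (f : X ⟶ Y) (u : U) :
    GRAt (j ≫ f) u ↔ GRAt f (j u) := by
  have hy : (j ≫ f) u = f (j u) := Scheme.Hom.comp_apply j f u
  obtain ⟨w, hw⟩ : u ∈ Set.range ((j ≫ f).fiberι (f (j u))) := by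
    rw [Scheme.Hom.range_fiberι]; exact hy
  rw [← grAt_iff_of_fiber (j ≫ f) u (f (j u)) hy w hw]
  let sK := Y.fromSpecResidueField (f (j u))
  let G : pullback (j ≫ f) sK ⟶ pullback f sK :=
    pullback.map (j ≫ f) sK f sK j (𝟙 _) (𝟙 _) (by simp) (by simp)
  have h1 : G ≫ pullback.fst f sK = pullback.fst (j ≫ f) sK ≫ j := pullback.lift_fst _ _ _
  have h2 : G ≫ pullback.snd f sK = pullback.snd (j ≫ f) sK :=
    (pullback.lift_snd _ _ _).trans (Category.comp_id _)
  have sq : IsPullback G (pullback.fst (j ≫ f) sK) (pullback.fst f sK) j := by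
    refine IsPullback.of_right ?_ h1 (IsPullback.of_hasPullback f sK).flip
    rw [h2]; exact (IsPullback.of_hasPullback (j ≫ f) sK).flip
  haveI : Etale G := MorphismProperty.of_isPullback (P := @Etale) sq.flip inferInstance
  have e1 := Groth.Agent.Lib.GeomRedH7.isGeomReducedAt_iff_of_etale
    (k := IsLocalRing.ResidueField (Y.presheaf.stalk (f (j u)))) G
    ((j ≫ f).fiberToSpecResidueField (f (j u))) (f.fiberToSpecResidueField (f (j u))) h2 w
  have hGw : G w = f.asFiber (j u) := by
    apply (f.fiberι _).isEmbedding.injective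
    have : (f.fiberι (f (j u))) (G w) = j (((j ≫ f).fiberι (f (j u))) w) :=
      (Scheme.Hom.comp_apply G (pullback.fst f sK) w).symm.trans
        ((congrArg (fun ψ : pullback (j ≫ f) sK ⟶ X => ψ w) h1).trans
          (Scheme.Hom.comp_apply (pullback.fst (j ≫ f) sK) j w))
    rw [this, hw, Scheme.Hom.fiberι_asFiber]
  rw [hGw] at e1
  exact e1

end OI

section Red

theorem isReduced_fiber_of_grAt {X Y : Scheme.{u}} (f : X ⟶ Y) (y : Y)
    (h : ∀ x, f x = y → GRAt f x) : IsReduced (f.fiber y) := by
  apply Groth.Agent.Lib.GeomRedClosure.isReduced_self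
    (k := IsLocalRing.ResidueField (Y.presheaf.stalk y)) (f.fiberToSpecResidueField y)
  intro z
  have hz : f (f.fiberι y z) = y := by
    have h1 : f.fiberι y z ∈ Set.range (f.fiberι y) := Set.mem_range_self z
    rw [Scheme.Hom.range_fiberι] at h1
    exact h1
  exact (grAt_iff_of_fiber f _ y hz z rfl).mpr (h _ hz)

end Red

end SecNbhdH8
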