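import Mathlib
import Groth.Agent.Lib.SecNbhdA_helper8
import Groth.Agent.Lib.DvrFibre2_helper4
import Groth.Agent.Lib.NoethLocConn_helper7

/-!
# Section components over a discrete valuation ring (helper8).  APPEND-ONLY once landed.
-/

set_option autoImplicit false
set_option linter.style.haveILetI false
universe u
open CategoryTheory CategoryTheory.Limits AlgebraicGeometry

namespace SecNbhdH8

section Top

theorem locallyConnectedSpace_of_isLocallyNoetherian (X : Scheme.{u}) [IsLocallyNoetherian X] :
    LocallyConnectedSpace X := by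
  apply Groth.Agent.Lib.NoethLocConnH7.locallyConnectedSpace
  intro x
  obtain ⟨_, ⟨W, hW : IsAffineOpen W, rfl⟩, hxW, -⟩ :=
    (X.isBasis_affineOpens).exists_subset_of_mem_open (Set.mem_univ x) isOpen_univ
  haveI : IsNoetherianRing Γ(X, W) := IsLocallyNoetherian.component_noetherian ⟨W, hW⟩
  haveI : TopologicalSpace.NoetherianSpace W := noetherianSpace_of_isAffineOpen W hW
  exact ⟨(W : Set X), W.isOpen.mem_nhds hxW, inferInstanceAs (TopologicalSpace.NoetherianSpace W)⟩

theorem exists_open_inter_eq_connectedComponentIn {α : Type*} [TopologicalSpace α] (F : Set α)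
    [LocallyConnectedSpace F] (x : α) (hx : x ∈ F) :
    ∃ O : Set α, IsOpen O ∧ O ∩ F = connectedComponentIn F x := by
  have h1 : IsOpen (connectedComponent (⟨x, hx⟩ : F)) := isOpen_connectedComponent
  obtain ⟨O, hO, hOe⟩ := isOpen_induced_iff.mp h1
  refine ⟨O, hO, ?_⟩
  rw [connectedComponentIn_eq_image hx, ← hOe, Subtype.image_preimage_coe, Set.inter_comm]

theorem isPreconnected_pair {α : Type*} [TopologicalSpace α] {a b : α} (h : a ⤳ b) :
    _root_.IsPreconnected ({a, b} : Set α) := by
  refine IsPreconnected.subset_closure (isPreconnected_singleton (x := a)) ?_ ?_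
  · intro z hz
    rw [Set.mem_singleton_iff] at hz
    rw [hz]; exact Set.mem_insert _ _
  · rintro z (rfl | hz)
    · exact subset_closure rfl
    · rw [Set.mem_singleton_iff] at hz
      rw [hz]; exact h.mem_closure

theorem mem_connectedComponentIn_of_specializes {α : Type*} [TopologicalSpace α] {W : Set α}
    {a b c : α} (h : a ⤳ b) (ha : a ∈ W) (hb : b ∈ connectedComponentIn W c) :
    a ∈ connectedComponentIn W c := by
  have hbW : b ∈ W := connectedComponentIn_subset W c hb
  have h1 : ({a, b} : Set α) ⊆ connectedComponentIn W b :=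
    (isPreconnected_pair h).subset_connectedComponentIn (Set.mem_insert_of_mem _ rfl) (by
      rintro z (rfl | hz)
      · exact ha
      · rw [Set.mem_singleton_iff] at hz; rw [hz]; exact hbW)
  rw [connectedComponentIn_eq hb]
  exact h1 (Set.mem_insert _ _)

end Top

section DVR

open Groth.Agent.Lib.DvrFibreH4

variable {A : Type u} [CommRing A] [IsDomain A] [IsDiscreteValuationRing A]

theorem eq_closedPoint_or_eq (η : ↥(Spec (CommRingCat.of A))) (hη : η.asIdeal = ⊥)
    (z : ↥(Spec (CommRingCat.of A))) : z = IsLocalRing.closedPoint A ∨ z = η := by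
  by_cases hz : z.asIdeal = ⊥
  · right
    exact PrimeSpectrum.ext (hz.trans hη.symm)
  · left
    have hmax : z.asIdeal.IsMaximal := Ideal.IsPrime.isMaximal z.2 hz
    exact PrimeSpectrum.ext (IsLocalRing.eq_maximalIdeal hmax)

theorem specializes_of_asIdeal_eq_bot (η : ↥(Spec (CommRingCat.of A))) (hη : η.asIdeal = ⊥)
    (z : ↥(Spec (CommRingCat.of A))) : η ⤳ z := by
  refine (PrimeSpectrum.le_iff_specializes (R := A) η z).mp ?_
  show η.asIdeal ≤ z.asIdeal
  rw [hη]; exact bot_le

variable {X : Scheme.{u}} (f : X ⟶ Spec (CommRingCat.of A)) [LocallyOfFiniteType f]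
  (g : Spec (CommRingCat.of A) ⟶ X) (hg : g ≫ f = 𝟙 _)

include hg in
/-- The DVR step: a point of the generic fibre specialising into the component of the section in
the closed fibre lies in the component of the section in the generic fibre, provided `f` is open
and has geometrically reduced fibre at all points of the closed component. -/
theorem mem_connectedComponentIn_generic (η : ↥(Spec (CommRingCat.of A))) (hη : η.asIdeal = ⊥)
    (hZ : ∀ z ∈ connectedComponentIn (f ⁻¹' {IsLocalRing.closedPoint A})
      (g (IsLocalRing.closedPoint A)), EGA43.IsOpenAt f.base z ∧ GRAt f z)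
    (x' x : X)
    (hx : x ∈ connectedComponentIn (f ⁻¹' {IsLocalRing.closedPoint A})
      (g (IsLocalRing.closedPoint A)))
    (hx'x : x' ⤳ x) (hx' : f x' = η) :
    x' ∈ connectedComponentIn (f ⁻¹' {η}) (g η) := by
  haveI : IsLocallyNoetherian X := LocallyOfFiniteType.isLocallyNoetherian f
  haveI : LocallyConnectedSpace X := locallyConnectedSpace_of_isLocallyNoetherian X
  have hfg : ∀ y, f (g y) = y := fun y =>
    (Scheme.Hom.comp_apply g f y).symm.trans
      (congrArg (fun k : Spec (CommRingCat.of A) ⟶ Spec (CommRingCat.of A) => k y) hg)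
  set s := IsLocalRing.closedPoint A with hs
  have hne : η ≠ s := by
    intro h
    have h1 : η.asIdeal = IsLocalRing.maximalIdeal A := by rw [h]; rfl
    rw [hη] at h1
    exact (IsDiscreteValuationRing.not_a_field A) h1.symm
  have hFcl : IsClosed (f ⁻¹' {s}) :=
    (IsLocalRing.isClosed_singleton_closedPoint A).preimage f.continuous
  have hgs : g s ∈ f ⁻¹' {s} := hfg s
  -- the closed fibre is locally connected
  haveI : LocallyOfFiniteType (f.fiberToSpecResidueField s) :=
    MorphismProperty.pullback_snd _ _ inferInstance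
  haveI : IsLocallyNoetherian (f.fiber s) :=
    LocallyOfFiniteType.isLocallyNoetherian (f.fiberToSpecResidueField s)
  haveI : LocallyConnectedSpace ↥(f.fiber s) := locallyConnectedSpace_of_isLocallyNoetherian _
  haveI : LocallyConnectedSpace ↥(f ⁻¹' {s}) := (f.fiberHomeo s).symm.locallyConnectedSpace
  obtain ⟨O, hO, hOZ⟩ := exists_open_inter_eq_connectedComponentIn (f ⁻¹' {s}) (g s) hgs
  set Z := connectedComponentIn (f ⁻¹' {s}) (g s) with hZdef
  set W : Set X := O ∪ (f ⁻¹' {s})ᶜ with hW
  have hWo : IsOpen W := hO.union hFcl.isOpen_compl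
  have hWF : W ∩ f ⁻¹' {s} = Z := by
    rw [hW, Set.union_inter_distrib_right, Set.compl_inter_self, Set.union_empty, hOZ]
  have hZW : Z ⊆ W := fun z hz => (hWF ▸ hz : z ∈ W ∩ f ⁻¹' {s}).1
  have hgsZ : g s ∈ Z := mem_connectedComponentIn hgs
  set U' := connectedComponentIn W (g s) with hU'
  have hU'o : IsOpen U' := hWo.connectedComponentIn
  have hZU' : Z ⊆ U' :=
    isPreconnected_connectedComponentIn.subset_connectedComponentIn hgsZ hZW
  have hηW : ∀ v : X, f v = η → v ∈ W := fun v hv => Or.inr (fun h => hne (hv.symm.trans h))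
  have hgηU' : g η ∈ U' :=
    mem_connectedComponentIn_of_specializes
      ((specializes_of_asIdeal_eq_bot η hη s).map g.continuous) (hηW _ (hfg η)) (hZU' hgsZ)
  have hx'U' : x' ∈ U' :=
    mem_connectedComponentIn_of_specializes hx'x (hηW _ hx') (hZU' hx)
  have hU'F : U' ∩ f ⁻¹' {s} ⊆ Z := fun v hv =>
    hWF ▸ (⟨connectedComponentIn_subset W _ hv.1, hv.2⟩ : v ∈ W ∩ f ⁻¹' {s})
  -- the open subscheme
  let Uo : X.Opens := ⟨U', hU'o⟩
  let f' : (Uo : Scheme.{u}) ⟶ Spec (CommRingCat.of A) := Uo.ι ≫ f
  haveI : PreconnectedSpace ↥(Uo : Scheme.{u}) :=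
    Subtype.preconnectedSpace (isPreconnected_connectedComponentIn (x := g s) (F := W))
  have hf'v : ∀ v : ↥(Uo : Scheme.{u}), f' v = f (Uo.ι v) := fun v => Scheme.Hom.comp_apply _ _ v
  have hιU : ∀ v : ↥(Uo : Scheme.{u}), Uo.ι v ∈ U' := fun v => v.2
  have hopen : IsOpenMap f'.base := by
    intro V hV
    have hVX : IsOpen (Uo.ι '' V) := Uo.ι.isOpenEmbedding.isOpenMap V hV
    by_cases hsV : s ∈ f' '' V
    · obtain ⟨v, hvV, hv⟩ := hsV
      have hvZ : Uo.ι v ∈ Z := hU'F ⟨hιU v, (hf'v v).symm.trans hv⟩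
      have h1 := (hZ _ hvZ).1 (Uo.ι '' V) (hVX.mem_nhds ⟨v, hvV, rfl⟩)
      have h2 : f '' (Uo.ι '' V) = f' '' V := by
        rw [Set.image_image]
        exact Set.image_congr (fun v _ => (hf'v v).symm)
      rw [h2, ← hf'v v, hv] at h1
      have h3 : f' '' V ∈ nhds η := (specializes_of_asIdeal_eq_bot η hη s) h1
      have hηV : η ∈ f' '' V := mem_of_mem_nhds h3
      have huniv : f' '' V = Set.univ := by
        ext z
        simp only [Set.mem_univ, iff_true]
        rcases eq_closedPoint_or_eq η hη z with rfl | rfl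
        · exact ⟨v, hvV, hv⟩
        · exact hηV
      rw [huniv]; exact isOpen_univ
    · have hsub : f' '' V ⊆ {η} := by
        rintro z hz
        rcases eq_closedPoint_or_eq η hη z with rfl | rfl
        · exact absurd hz hsV
        · rfl
      rcases Set.subset_singleton_iff_eq.mp hsub with h | h
      · rw [h]; exact isOpen_empty
      · rw [h]
        have : ({η} : Set ↥(Spec (CommRingCat.of A))) = {s}ᶜ := by
          ext z
          simp only [Set.mem_singleton_iff, Set.mem_compl_iff]
          rcases eq_closedPoint_or_eq η hη z with rfl | rfl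
          · exact ⟨fun h => absurd h.symm hne, fun h => absurd rfl h⟩
          · exact ⟨fun _ => hne, fun _ => rfl⟩
        rw [this]
        exact (IsLocalRing.isClosed_singleton_closedPoint A).isOpen_compl
  have hred : IsReduced (f'.fiber s) := by
    apply isReduced_fiber_of_grAt
    intro v hv
    have hvZ : Uo.ι v ∈ Z := hU'F ⟨hιU v, (hf'v v).symm.trans hv⟩
    exact (grAt_comp_iff_of_etale Uo.ι f v).mpr (hZ _ hvZ).2
  haveI := main3417 A f' hopen s η (IsLocalRing.isClosed_singleton_closedPoint A)
    (specializes_of_asIdeal_eq_bot η hη) hred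
  have hpre : _root_.IsPreconnected (f' ⁻¹' {η}) := by
    have h1 := (isPreconnected_univ (α := ↥(f'.fiber η))).image (f'.fiberι η)
      (f'.fiberι η).continuous.continuousOn
    rwa [Set.image_univ, Scheme.Hom.range_fiberι] at h1
  have hpre' : _root_.IsPreconnected (Uo.ι '' (f' ⁻¹' {η})) :=
    hpre.image Uo.ι Uo.ι.continuous.continuousOn
  have hsub : Uo.ι '' (f' ⁻¹' {η}) ⊆ f ⁻¹' {η} := by
    rintro _ ⟨v, hv, rfl⟩
    exact (hf'v v).symm.trans hv
  have hmem1 : g η ∈ Uo.ι '' (f' ⁻¹' {η}) :=
    ⟨⟨g η, hgηU'⟩, (hf'v _).trans (hfg η), rfl⟩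
  have hmem2 : x' ∈ Uo.ι '' (f' ⁻¹' {η}) :=
    ⟨⟨x', hx'U'⟩, (hf'v _).trans hx', rfl⟩
  exact hpre'.subset_connectedComponentIn hmem1 hsub hmem2

end DVR

end SecNbhdH8
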