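import Mathlib
import Groth.Agent.Lib.SecNbhdB_helper8
import Groth.Agent.Lib.GeomConnK_helper8
import Groth.Agent.Lib.ConsNhds_helper8
import Groth.Agent.Lib.UnramLocal_helper7

/-!
# Section components are a neighbourhood of a geometrically reduced component: the Noetherian
quasi-compact case (helper8).  APPEND-ONLY once landed.
-/

set_option autoImplicit false
set_option linter.style.haveILetI false
universe u
open CategoryTheory CategoryTheory.Limits AlgebraicGeometry

namespace SecNbhdH8

section Basic

variable {X Y : Scheme.{u}} (f : X ⟶ Y) (g : Y ⟶ X)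

theorem mem_sectionComponents_iff (x : X) (y : Y) (hxy : f x = y) :
    x ∈ MoreMor.sectionComponents f g ↔ x ∈ connectedComponentIn (f ⁻¹' {y}) (g y) := by
  subst hxy; exact Iff.rfl

theorem apply_eq_of_mem_component {x : X} {y : Y}
    (hx : x ∈ connectedComponentIn (f ⁻¹' {y}) (g y)) : f x = y := by
  have h := connectedComponentIn_subset (f ⁻¹' {y}) (g y) hx
  exact h

theorem quasiSeparated_of_isLocallyNoetherian [IsLocallyNoetherian X] : QuasiSeparated f := by
  haveI : QuasiSeparated (f ≫ terminal.from Y) := by
    rw [show f ≫ terminal.from Y = terminal.from X from Subsingleton.elim _ _]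
    exact (quasiSeparatedSpace_iff_quasiSeparated X).mp inferInstance
  exact QuasiSeparated.of_comp f (terminal.from Y)

end Basic

section Noeth

variable {X Y : Scheme.{u}} [IsLocallyNoetherian Y] (f : X ⟶ Y) [LocallyOfFiniteType f]
  [QuasiCompact f] (g : Y ⟶ X) (hg : g ≫ f = 𝟙 Y)

include hg in
theorem subset_interior_of_noetherian (y : Y)
    (h : ∀ x ∈ connectedComponentIn (f ⁻¹' {y}) (g y), EGA43.IsUnivOpenAt f x ∧ GRAt f x) :
    connectedComponentIn (f ⁻¹' {y}) (g y) ⊆ interior (MoreMor.sectionComponents f g) := by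
  haveI : IsLocallyNoetherian X := LocallyOfFiniteType.isLocallyNoetherian f
  haveI : QuasiSeparated f := quasiSeparated_of_isLocallyNoetherian f
  have hcons := GeomConnH8.main1326 f g hg
  intro x hx
  rw [mem_interior_iff_mem_nhds]
  apply ConsNhdsH8.mem_nhds_of_isLocallyConstructible hcons x
  intro x' hx'x
  have hfx : f x = y := apply_eq_of_mem_component f g hx
  by_cases hfx' : f x' = y
  · rw [mem_sectionComponents_iff f g x' y hfx']
    exact mem_connectedComponentIn_of_specializes hx'x hfx' hx
  · have hne : x' ≠ x := fun h => hfx' (h ▸ hfx)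
    obtain ⟨A, _, _, _, a, η, hη, hacl, haη⟩ :=
      Groth.Agent.Lib.UnramLocal_helper7.exists_dvr_of_specializes x' x hx'x hne
    let T : Scheme.{u} := Spec (CommRingCat.of A)
    let t : T ⟶ Y := a ≫ f
    let gT : T ⟶ pullback f t := pullback.lift (t ≫ g) (𝟙 T)
      (by rw [Category.assoc, hg, Category.comp_id, Category.id_comp])
    let σ : T ⟶ pullback f t := pullback.lift a (𝟙 T) (by rw [Category.id_comp])
    have hgT : gT ≫ pullback.snd f t = 𝟙 T := pullback.lift_snd _ _ _
    have hgT1 : gT ≫ pullback.fst f t = t ≫ g := pullback.lift_fst _ _ _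
    have hσ1 : σ ≫ pullback.fst f t = a := pullback.lift_fst _ _ _
    have hσ2 : σ ≫ pullback.snd f t = 𝟙 T := pullback.lift_snd _ _ _
    have hcomp := Groth.Agent.Lib.SecCompBCH4.main1324 f g hg (pullback.snd f t)
      (pullback.fst f t) t (IsPullback.of_hasPullback f t) gT hgT hgT1
    have hpσ : ∀ v : T, pullback.fst f t (σ v) = a v := fun v =>
      (Scheme.Hom.comp_apply σ (pullback.fst f t) v).symm.trans
        (congrArg (fun ψ : T ⟶ X => ψ v) hσ1)
    have hqσ : ∀ v : T, pullback.snd f t (σ v) = v := fun v =>
      (Scheme.Hom.comp_apply σ (pullback.snd f t) v).symm.trans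
        (congrArg (fun ψ : T ⟶ T => ψ v) hσ2)
    have hfp : ∀ z : ↥(pullback f t), f (pullback.fst f t z) = t (pullback.snd f t z) := fun z =>
      (Scheme.Hom.comp_apply (pullback.fst f t) f z).symm.trans
        ((congrArg (fun ψ : pullback f t ⟶ Y => ψ z) pullback.condition).trans
          (Scheme.Hom.comp_apply (pullback.snd f t) t z))
    have hts : t (IsLocalRing.closedPoint A) = y := by
      have : t (IsLocalRing.closedPoint A) = f (a (IsLocalRing.closedPoint A)) :=
        Scheme.Hom.comp_apply a f _
      rw [this, hacl, hfx]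
    have hxsec : x ∈ MoreMor.sectionComponents f g :=
      (mem_sectionComponents_iff f g x y hfx).mpr hx
    -- the goal
    rw [← haη, ← hpσ η]
    show σ η ∈ (pullback.fst f t) ⁻¹' MoreMor.sectionComponents f g
    rw [← hcomp, mem_sectionComponents_iff (pullback.snd f t) gT (σ η) η (hqσ η)]
    refine mem_connectedComponentIn_generic (pullback.snd f t) gT hgT η hη ?_ (σ η)
      (σ (IsLocalRing.closedPoint A)) ?_
      ((specializes_of_asIdeal_eq_bot η hη (IsLocalRing.closedPoint A)).map σ.continuous)
      (hqσ η)
    · intro z hz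
      have hqz : pullback.snd f t z = IsLocalRing.closedPoint A :=
        apply_eq_of_mem_component _ _ hz
      have hz1 : z ∈ MoreMor.sectionComponents (pullback.snd f t) gT :=
        (mem_sectionComponents_iff _ _ z _ hqz).mpr hz
      rw [hcomp] at hz1
      have hz2 : pullback.fst f t z ∈ MoreMor.sectionComponents f g := hz1
      have hfz : f (pullback.fst f t z) = y := by rw [hfp z, hqz, hts]
      rw [mem_sectionComponents_iff f g _ y hfz] at hz2
      obtain ⟨h1, h2⟩ := h _ hz2
      exact ⟨h1 T t z rfl, (grAt_baseChange_iff (IsPullback.of_hasPullback f t) z).mpr h2⟩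
    · refine (mem_sectionComponents_iff (pullback.snd f t) gT _ _ (hqσ _)).mp ?_
      rw [hcomp]
      show pullback.fst f t (σ (IsLocalRing.closedPoint A)) ∈ MoreMor.sectionComponents f g
      rw [hpσ, hacl]
      exact hxsec

end Noeth

end SecNbhdH8
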