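import Mathlib
import Groth.Agent.Lib.SecNbhdC_helper8

/-!
# Section components are a neighbourhood of a geometrically reduced component: reduction of the
general locally Noetherian case to the quasi-compact case (helper8).  APPEND-ONLY once landed.
-/

set_option autoImplicit false
set_option linter.style.haveILetI false
universe u
open CategoryTheory CategoryTheory.Limits AlgebraicGeometry

namespace SecNbhdH8

section UO

theorem isUnivOpenAt_baseChange {X Y T P : Scheme.{u}} {f : X ⟶ Y} {t : T ⟶ Y} {p : P ⟶ X}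
    {q : P ⟶ T} (sq : IsPullback p q f t) (z : P) (h : EGA43.IsUnivOpenAt f (p z)) :
    EGA43.IsUnivOpenAt q z := by
  intro Y' k x'' hx''
  have big : IsPullback (pullback.fst q k ≫ p) (pullback.snd q k) f (k ≫ t) :=
    (IsPullback.of_hasPullback q k).paste_horiz sq
  have e1 : big.isoPullback.hom ≫ pullback.fst f (k ≫ t) = pullback.fst q k ≫ p :=
    big.isoPullback_hom_fst
  have e2 : big.isoPullback.hom ≫ pullback.snd f (k ≫ t) = pullback.snd q k :=
    big.isoPullback_hom_snd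
  have hfst : (pullback.fst f (k ≫ t)) (big.isoPullback.hom x'') = p z := by
    have h1 : (pullback.fst f (k ≫ t)) (big.isoPullback.hom x'') = p ((pullback.fst q k) x'') :=
      (Scheme.Hom.comp_apply _ _ x'').symm.trans
        ((congrArg (fun ψ : pullback q k ⟶ X => ψ x'') e1).trans (Scheme.Hom.comp_apply _ _ x''))
    rw [h1]
    exact congrArg p hx''
  have h1 := h Y' (k ≫ t) (big.isoPullback.hom x'') hfst
  have hsnd : ∀ w : ↥(pullback q k),
      (pullback.snd f (k ≫ t)) (big.isoPullback.hom w) = (pullback.snd q k) w := fun w =>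
    (Scheme.Hom.comp_apply _ _ w).symm.trans
      (congrArg (fun ψ : pullback q k ⟶ Y' => ψ w) e2)
  intro N hN
  have h2 := h1 (big.isoPullback.hom '' N)
    (big.isoPullback.hom.isOpenEmbedding.isOpenMap.image_mem_nhds hN)
  rw [Set.image_image] at h2
  have h3 : (fun w => (pullback.snd f (k ≫ t)) (big.isoPullback.hom w)) '' N =
      (pullback.snd q k) '' N := Set.image_congr (fun w _ => hsnd w)
  rw [h3] at h2
  have h4 := hsnd x''
  exact h4 ▸ h2

theorem isUnivOpenAt_comp_of_isOpenImmersion {U X Y : Scheme.{u}} (j : U ⟶ X) [IsOpenImmersion j]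
    (f : X ⟶ Y) (u : U) (h : EGA43.IsUnivOpenAt f (j u)) : EGA43.IsUnivOpenAt (j ≫ f) u := by
  intro Y' k x'' hx''
  let G : pullback (j ≫ f) k ⟶ pullback f k :=
    pullback.map (j ≫ f) k f k j (𝟙 _) (𝟙 _) (by simp) (by simp)
  have e1 : G ≫ pullback.fst f k = pullback.fst (j ≫ f) k ≫ j := pullback.lift_fst _ _ _
  have e2 : G ≫ pullback.snd f k = pullback.snd (j ≫ f) k :=
    (pullback.lift_snd _ _ _).trans (Category.comp_id _)
  have sq : IsPullback G (pullback.fst (j ≫ f) k) (pullback.fst f k) j := by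
    refine IsPullback.of_right ?_ e1 (IsPullback.of_hasPullback f k).flip
    rw [e2]; exact (IsPullback.of_hasPullback (j ≫ f) k).flip
  haveI : IsOpenImmersion G :=
    MorphismProperty.of_isPullback (P := @IsOpenImmersion) sq.flip inferInstance
  have hfst : (pullback.fst f k) (G x'') = j u := by
    have h1 : (pullback.fst f k) (G x'') = j ((pullback.fst (j ≫ f) k) x'') :=
      (Scheme.Hom.comp_apply _ _ x'').symm.trans
        ((congrArg (fun ψ : pullback (j ≫ f) k ⟶ X => ψ x'') e1).trans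
          (Scheme.Hom.comp_apply _ _ x''))
    rw [h1]
    exact congrArg j hx''
  have h1 := h Y' k (G x'') hfst
  have hsnd : ∀ w : ↥(pullback (j ≫ f) k),
      (pullback.snd f k) (G w) = (pullback.snd (j ≫ f) k) w := fun w =>
    (Scheme.Hom.comp_apply _ _ w).symm.trans
      (congrArg (fun ψ : pullback (j ≫ f) k ⟶ Y' => ψ w) e2)
  intro N hN
  have h2 := h1 (G '' N) (G.isOpenEmbedding.isOpenMap.image_mem_nhds hN)
  rw [Set.image_image] at h2
  have h3 : (fun w => (pullback.snd f k) (G w)) '' N = (pullback.snd (j ≫ f) k) '' N :=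
    Set.image_congr (fun w _ => hsnd w)
  rw [h3] at h2
  have h4 := hsnd x''
  exact h4 ▸ h2

end UO

section Chain

/-- In a locally connected space covered by a family of opens closed under binary unions, every
point of the connected component of `a` lies in the component of `a` in some member. -/
theorem exists_mem_connectedComponentIn_of_cover {α : Type*} [TopologicalSpace α]
    [LocallyConnectedSpace α] (𝓤 : Set (Set α)) (hopen : ∀ U ∈ 𝓤, IsOpen U)
    (hunion : ∀ U ∈ 𝓤, ∀ V ∈ 𝓤, U ∪ V ∈ 𝓤) (hcover : ∀ b : α, ∃ B ∈ 𝓤, b ∈ B)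
    (a b : α) (hb : b ∈ connectedComponent a) :
    ∃ U ∈ 𝓤, a ∈ U ∧ b ∈ connectedComponentIn U a := by
  let S : Set α := {b | ∃ U ∈ 𝓤, a ∈ U ∧ b ∈ connectedComponentIn U a}
  have haS : a ∈ S := by
    obtain ⟨B, hB, haB⟩ := hcover a
    exact ⟨B, hB, haB, mem_connectedComponentIn haB⟩
  have hSo : IsOpen S := by
    rw [isOpen_iff_forall_mem_open]
    rintro c ⟨U, hU, haU, hc⟩
    exact ⟨connectedComponentIn U a, fun d hd => ⟨U, hU, haU, hd⟩,
      (hopen U hU).connectedComponentIn, hc⟩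
  have hSc : IsClosed S := by
    rw [← isOpen_compl_iff, isOpen_iff_forall_mem_open]
    intro c hc
    obtain ⟨B, hB, hcB⟩ := hcover c
    refine ⟨connectedComponentIn B c, ?_, (hopen B hB).connectedComponentIn,
      mem_connectedComponentIn hcB⟩
    rintro d hd ⟨U, hU, haU, hdU⟩
    apply hc
    refine ⟨U ∪ B, hunion U hU B hB, Or.inl haU, ?_⟩
    have hpre : _root_.IsPreconnected (connectedComponentIn U a ∪ connectedComponentIn B c) :=
      IsPreconnected.union d hdU hd isPreconnected_connectedComponentIn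
        isPreconnected_connectedComponentIn
    have hsub : connectedComponentIn U a ∪ connectedComponentIn B c ⊆ U ∪ B :=
      Set.union_subset_union (connectedComponentIn_subset U a) (connectedComponentIn_subset B c)
    exact hpre.subset_connectedComponentIn (Or.inl (mem_connectedComponentIn haU)) hsub
      (Or.inr (mem_connectedComponentIn hcB))
  exact (IsClopen.connectedComponent_subset ⟨hSc, hSo⟩ haS) hb

/-- subspace version -/
theorem exists_mem_connectedComponentIn_of_cover' {α : Type*} [TopologicalSpace α] (F : Set α)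
    [LocallyConnectedSpace ↥F] (𝓤 : Set (Set α)) (hopen : ∀ U ∈ 𝓤, IsOpen U)
    (hunion : ∀ U ∈ 𝓤, ∀ V ∈ 𝓤, U ∪ V ∈ 𝓤) (hcover : ∀ b : α, ∃ B ∈ 𝓤, b ∈ B)
    (a b : α) (hb : b ∈ connectedComponentIn F a) :
    ∃ U ∈ 𝓤, a ∈ U ∧ b ∈ connectedComponentIn (U ∩ F) a := by
  have ha : a ∈ F := by
    by_contra hna
    rw [connectedComponentIn_eq_empty hna] at hb
    exact hb
  rw [connectedComponentIn_eq_image ha] at hb
  obtain ⟨b', hb', rfl⟩ := hb
  let 𝓤' : Set (Set ↥F) := {U' | ∃ U ∈ 𝓤, U' = Subtype.val ⁻¹' U}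
  obtain ⟨U', ⟨U, hU, rfl⟩, haU, hbU⟩ := exists_mem_connectedComponentIn_of_cover 𝓤'
    (by rintro _ ⟨U, hU, rfl⟩; exact (hopen U hU).preimage continuous_subtype_val)
    (by
      rintro _ ⟨U, hU, rfl⟩ _ ⟨V, hV, rfl⟩
      exact ⟨U ∪ V, hunion U hU V hV, rfl⟩)
    (by
      intro c
      obtain ⟨B, hB, hcB⟩ := hcover c.1
      exact ⟨_, ⟨B, hB, rfl⟩, hcB⟩)
    ⟨a, ha⟩ b' hb'
  refine ⟨U, hU, haU, ?_⟩
  have hpre : _root_.IsPreconnected
      (Subtype.val '' connectedComponentIn (Subtype.val ⁻¹' U : Set ↥F) ⟨a, ha⟩) :=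
    isPreconnected_connectedComponentIn.image _ continuous_subtype_val.continuousOn
  refine hpre.subset_connectedComponentIn ⟨⟨a, ha⟩, mem_connectedComponentIn haU, rfl⟩ ?_
    ⟨b', hbU, rfl⟩
  rintro _ ⟨c, hc, rfl⟩
  have hcU : c ∈ (Subtype.val ⁻¹' U : Set ↥F) := connectedComponentIn_subset _ _ hc
  exact ⟨hcU, c.2⟩

end Chain

section Assemble

variable {X Y : Scheme.{u}}

theorem exists_compact_open_component (f : X ⟶ Y) [LocallyOfFiniteType f] (y : Y) (a x : X)
    (hx : x ∈ connectedComponentIn (f ⁻¹' {y}) a) :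
    ∃ U : X.Opens, IsCompact (U : Set X) ∧ a ∈ U ∧
      x ∈ connectedComponentIn ((U : Set X) ∩ f ⁻¹' {y}) a := by
  haveI : LocallyOfFiniteType (f.fiberToSpecResidueField y) :=
    MorphismProperty.pullback_snd _ _ inferInstance
  haveI : IsLocallyNoetherian (f.fiber y) :=
    LocallyOfFiniteType.isLocallyNoetherian (f.fiberToSpecResidueField y)
  haveI : LocallyConnectedSpace ↥(f.fiber y) := locallyConnectedSpace_of_isLocallyNoetherian _
  haveI : LocallyConnectedSpace ↥(f ⁻¹' {y}) := (f.fiberHomeo y).symm.locallyConnectedSpace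
  obtain ⟨U, ⟨hUo, hUc⟩, haU, hxU⟩ := exists_mem_connectedComponentIn_of_cover' (f ⁻¹' {y})
    {U : Set X | IsOpen U ∧ IsCompact U} (fun U hU => hU.1)
    (fun U hU V hV => ⟨hU.1.union hV.1, hU.2.union hV.2⟩)
    (by
      intro b
      obtain ⟨_, ⟨W, hW, rfl⟩, hbW, -⟩ :=
        X.isBasis_affineOpens.exists_subset_of_mem_open (Set.mem_univ b) isOpen_univ
      exact ⟨(W : Set X), ⟨W.2, IsAffineOpen.isCompact hW⟩, hbW⟩)
    a x hx
  exact ⟨⟨U, hUo⟩, hUc, haU, hxU⟩

theorem image_component_subset {X₁ V' : Scheme.{u}} (j : X₁ ⟶ X) (f₁ : X₁ ⟶ V') (ι : V' ⟶ Y)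
    (f : X ⟶ Y) (g₁ : V' ⟶ X₁) (g : Y ⟶ X) (hfj : ∀ v, f (j v) = ι (f₁ v))
    (hjg : ∀ w, j (g₁ w) = g (ι w)) (w : V') (v : X₁)
    (hv : v ∈ connectedComponentIn (f₁ ⁻¹' {w}) (g₁ w)) :
    j v ∈ connectedComponentIn (f ⁻¹' {ι w}) (g (ι w)) := by
  have hw : g₁ w ∈ f₁ ⁻¹' {w} := by
    by_contra hna
    rw [connectedComponentIn_eq_empty hna] at hv
    exact hv
  have hpre : _root_.IsPreconnected (j '' connectedComponentIn (f₁ ⁻¹' {w}) (g₁ w)) :=
    isPreconnected_connectedComponentIn.image _ j.continuous.continuousOn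
  refine hpre.subset_connectedComponentIn ⟨g₁ w, mem_connectedComponentIn hw, hjg w⟩ ?_
    ⟨v, hv, rfl⟩
  rintro _ ⟨c, hc, rfl⟩
  have hc'' : c ∈ f₁ ⁻¹' {w} := connectedComponentIn_subset (f₁ ⁻¹' {w}) (g₁ w) hc
  have hc' : f₁ c = w := hc''
  show f (j c) = ι w
  rw [hfj, hc']

variable [IsLocallyNoetherian Y] (f : X ⟶ Y) [LocallyOfFiniteType f] (g : Y ⟶ X)
  (hg : g ≫ f = 𝟙 Y)

include hg in
theorem subset_interior_of_locallyNoetherian (y : Y)
    (h : ∀ x ∈ connectedComponentIn (f ⁻¹' {y}) (g y), EGA43.IsUnivOpenAt f x ∧ GRAt f x) :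
    connectedComponentIn (f ⁻¹' {y}) (g y) ⊆ interior (MoreMor.sectionComponents f g) := by
  intro x hx
  haveI : IsLocallyNoetherian X := LocallyOfFiniteType.isLocallyNoetherian f
  obtain ⟨U, hUc, hgyU, hxU⟩ := exists_compact_open_component f y (g y) x hx
  have hyg : y ∈ g ⁻¹ᵁ U := hgyU
  obtain ⟨V, hV, hyV, hVsub⟩ := exists_isAffineOpen_mem_and_subset (X := Y) (x := y)
    (U := g ⁻¹ᵁ U) hyg
  haveI : IsAffine (V : Scheme.{u}) := hV
  let hh : (U : Scheme.{u}) ⟶ Y := U.ι ≫ f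
  let X1 : (U : Scheme.{u}).Opens := hh ⁻¹ᵁ V
  let f1 : (X1 : Scheme.{u}) ⟶ (V : Scheme.{u}) := hh ∣_ V
  have sq1 : IsPullback X1.ι f1 hh V.ι := (isPullback_morphismRestrict hh V).flip
  have hrange : Set.range (V.ι ≫ g) ⊆ Set.range U.ι := by
    rintro _ ⟨w, rfl⟩
    rw [Scheme.Opens.range_ι]
    have : (V.ι ≫ g) w = g (V.ι w) := Scheme.Hom.comp_apply _ _ w
    rw [this]
    exact hVsub w.2
  let gU : (V : Scheme.{u}) ⟶ (U : Scheme.{u}) := IsOpenImmersion.lift U.ι (V.ι ≫ g) hrange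
  have hgU : gU ≫ U.ι = V.ι ≫ g := IsOpenImmersion.lift_fac _ _ _
  let g1 : (V : Scheme.{u}) ⟶ (X1 : Scheme.{u}) := sq1.lift gU (𝟙 _) (by
    rw [Category.id_comp, ← Category.assoc, hgU, Category.assoc, hg, Category.comp_id])
  have hg1a : g1 ≫ X1.ι = gU := sq1.lift_fst _ _ _
  have hg1 : g1 ≫ f1 = 𝟙 _ := sq1.lift_snd _ _ _
  let j : (X1 : Scheme.{u}) ⟶ X := X1.ι ≫ U.ι
  have hj : ∀ v, j v = U.ι (X1.ι v) := fun v => Scheme.Hom.comp_apply _ _ v
  have hfj : ∀ v, f (j v) = V.ι (f1 v) := by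
    intro v
    have h1 : f (j v) = (X1.ι ≫ hh) v := by
      rw [hj]
      exact ((Scheme.Hom.comp_apply X1.ι hh v).trans
        (Scheme.Hom.comp_apply U.ι f (X1.ι v))).symm
    rw [h1, sq1.w]
    exact Scheme.Hom.comp_apply _ _ v
  have hjg : ∀ w, j (g1 w) = g (V.ι w) := by
    intro w
    have h1 : j (g1 w) = (g1 ≫ X1.ι ≫ U.ι) w := (Scheme.Hom.comp_apply g1 j w).symm
    rw [h1, ← Category.assoc, hg1a, hgU]
    exact Scheme.Hom.comp_apply _ _ w
  haveI : CompactSpace ↥(U : Scheme.{u}) := isCompact_iff_compactSpace.mp hUc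
  haveI : IsNoetherian (U : Scheme.{u}) := {}
  haveI : TopologicalSpace.NoetherianSpace ↥(X1 : Scheme.{u}) :=
    inferInstanceAs (TopologicalSpace.NoetherianSpace ↥(X1 : Set ↥(U : Scheme.{u})))
  let y1 : ↥(V : Scheme.{u}) := ⟨y, hyV⟩
  have hyp1 : ∀ x1 ∈ connectedComponentIn (f1 ⁻¹' {y1}) (g1 y1),
      EGA43.IsUnivOpenAt f1 x1 ∧ GRAt f1 x1 := by
    intro x1 hx1
    have hmem := image_component_subset j f1 V.ι f g1 g hfj hjg y1 x1 hx1
    obtain ⟨h1, h2⟩ := h _ hmem
    rw [hj] at h1 h2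
    exact ⟨isUnivOpenAt_baseChange sq1 x1 (isUnivOpenAt_comp_of_isOpenImmersion U.ι f _ h1),
      (grAt_baseChange_iff sq1 x1).mpr ((grAt_comp_iff_of_etale U.ι f _).mpr h2)⟩
  have res := subset_interior_of_noetherian f1 g1 hg1 y1 hyp1
  -- the point `x` as a point of `X1`
  have hxUF : x ∈ (U : Set X) ∩ f ⁻¹' {y} := connectedComponentIn_subset _ _ hxU
  have hrangej : ∀ c : X, c ∈ (U : Set X) ∩ f ⁻¹' {y} → c ∈ Set.range j := by
    rintro c ⟨hcU, hcy⟩
    have hcy' : f c = y := hcy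
    have hc1 : (⟨c, hcU⟩ : ↥(U : Scheme.{u})) ∈ X1 := by
      show hh ⟨c, hcU⟩ ∈ V
      have : hh ⟨c, hcU⟩ = f c := Scheme.Hom.comp_apply U.ι f ⟨c, hcU⟩
      rw [this, hcy']; exact hyV
    exact ⟨⟨⟨c, hcU⟩, hc1⟩, hj _⟩
  obtain ⟨x1, rfl⟩ := hrangej x hxUF
  have hx1 : x1 ∈ connectedComponentIn (f1 ⁻¹' {y1}) (g1 y1) := by
    set C := connectedComponentIn ((U : Set X) ∩ f ⁻¹' {y}) (g y) with hC
    have hCsub : C ⊆ Set.range j := fun c hc => hrangej c (connectedComponentIn_subset _ _ hc)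
    have hpre : _root_.IsPreconnected (j ⁻¹' C) := by
      rw [← j.isEmbedding.isInducing.isPreconnected_image, Set.image_preimage_eq_of_subset hCsub]
      exact isPreconnected_connectedComponentIn
    have hgy1 : g1 y1 ∈ j ⁻¹' C := by
      show j (g1 y1) ∈ C
      rw [hjg]
      exact mem_connectedComponentIn ⟨hgyU, by
        show f (g y) = y
        exact (Scheme.Hom.comp_apply g f y).symm.trans (congrArg (fun k : Y ⟶ Y => k y) hg)⟩
    refine hpre.subset_connectedComponentIn hgy1 ?_ hxU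
    intro c hc
    have hc' : f (j c) = y := (connectedComponentIn_subset _ _ hc).2
    rw [hfj] at hc'
    exact Subtype.ext hc'
  have hint := res hx1
  rw [mem_interior_iff_mem_nhds] at hint ⊢
  have h2 := j.isOpenEmbedding.isOpenMap.image_mem_nhds hint
  refine Filter.mem_of_superset h2 ?_
  rintro _ ⟨v, hv, rfl⟩
  have hv' := image_component_subset j f1 V.ι f g1 g hfj hjg (f1 v) v hv
  rw [← hfj] at hv'
  exact hv'

end Assemble

section Main

variable {X Y : Scheme.{u}} [IsLocallyNoetherian Y] (f : X ⟶ Y) [LocallyOfFiniteType f]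
  (g : Y ⟶ X) (hg : g ≫ f = 𝟙 Y)

theorem isUnivOpenAt_of_universallyOpen {X Y : Scheme.{u}} (f : X ⟶ Y) [UniversallyOpen f]
    (x : X) : EGA43.IsUnivOpenAt f x := by
  intro Y' k x'' _ N hN
  exact (pullback.snd f k).isOpenMap.image_mem_nhds hN

include hg in
/-- S3420 -/
theorem main3420 :
    (∀ y : Y, (∀ x ∈ connectedComponentIn (f ⁻¹' {y}) (g y), EGA43.IsUnivOpenAt f x ∧
        FBase.IsGeomReducedAt (f.fiberToSpecResidueField (f x)) (f.asFiber x)) →
      connectedComponentIn (f ⁻¹' {y}) (g y) ⊆ interior (MoreMor.sectionComponents f g)) ∧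
    (UniversallyOpen f → (∀ x ∈ MoreMor.sectionComponents f g,
        FBase.IsGeomReducedAt (f.fiberToSpecResidueField (f x)) (f.asFiber x)) →
      IsOpen (MoreMor.sectionComponents f g)) := by
  refine ⟨fun y h => subset_interior_of_locallyNoetherian f g hg y h, ?_⟩
  intro huo hred
  rw [← subset_interior_iff_isOpen]
  intro x hx
  have hx' : x ∈ connectedComponentIn (f ⁻¹' {f x}) (g (f x)) := hx
  refine subset_interior_of_locallyNoetherian f g hg (f x) ?_ hx'
  intro x1 hx1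
  have hfx1 : f x1 = f x := apply_eq_of_mem_component f g hx1
  exact ⟨isUnivOpenAt_of_universallyOpen f x1,
    hred x1 ((mem_sectionComponents_iff f g x1 (f x) hfx1).mpr hx1)⟩

end Main

end SecNbhdH8
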