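import Mathlib
import Groth.Agent.Lib.SecNbhdD_helper8
import Groth.Agent.Lib.LimDescFP4_helper7
import Groth.Agent.Lib.SchPbPoints_helper7

/-!
# Section components are a neighbourhood of a geometrically reduced component: flat morphisms of
finite presentation over an arbitrary base (S4953), helper8.  APPEND-ONLY once landed.
-/

set_option autoImplicit false
set_option linter.style.haveILetI false
universe u
open CategoryTheory CategoryTheory.Limits AlgebraicGeometry

namespace SecNbhdH8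

section SelfProduct

variable {X Y X' T : Scheme.{u}} (f : X ⟶ Y) (s : Y ⟶ X) (hs : s ≫ f = 𝟙 Y)
  (f' : X' ⟶ T) (t : Y ⟶ T) (q : X ⟶ X') (sq : IsPullback q f f' t)

/-- the diagonal section of the second projection `X' ×_T X' ⟶ X'` -/
noncomputable def diagSec : X' ⟶ pullback f' f' := pullback.lift (𝟙 X') (𝟙 X') rfl

theorem diagSec_snd : diagSec f' ≫ pullback.snd f' f' = 𝟙 X' := pullback.lift_snd _ _ _

theorem diagSec_fst : diagSec f' ≫ pullback.fst f' f' = 𝟙 X' := pullback.lift_fst _ _ _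

include hs sq in
theorem selfProduct_w : q ≫ f' = (f ≫ s ≫ q) ≫ f' := by
  rw [Category.assoc, Category.assoc, sq.w, ← Category.assoc s, hs, Category.id_comp]

/-- the comparison morphism `X ⟶ X' ×_T X'` -/
noncomputable def toSelfProduct : X ⟶ pullback f' f' :=
  pullback.lift q (f ≫ s ≫ q) (selfProduct_w f s hs f' t q sq)

theorem toSelfProduct_fst : toSelfProduct f s hs f' t q sq ≫ pullback.fst f' f' = q :=
  pullback.lift_fst _ _ _

theorem toSelfProduct_snd : toSelfProduct f s hs f' t q sq ≫ pullback.snd f' f' = f ≫ s ≫ q :=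
  pullback.lift_snd _ _ _

/-- a morphism with a section is the base change of the second projection of the self product of
any model, the section corresponding to the diagonal. -/
theorem isPullback_toSelfProduct :
    IsPullback (toSelfProduct f s hs f' t q sq) f (pullback.snd f' f') (s ≫ q) := by
  refine IsPullback.of_right ?_ (toSelfProduct_snd f s hs f' t q sq)
    (IsPullback.of_hasPullback f' f')
  rw [toSelfProduct_fst]
  have : (s ≫ q) ≫ f' = t := by
    rw [Category.assoc, sq.w, ← Category.assoc, hs, Category.id_comp]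
  rw [this]
  exact sq

theorem sec_toSelfProduct : s ≫ toSelfProduct f s hs f' t q sq = (s ≫ q) ≫ diagSec f' := by
  apply pullback.hom_ext
  · rw [Category.assoc, toSelfProduct_fst, Category.assoc, diagSec_fst, Category.comp_id]
  · rw [Category.assoc, toSelfProduct_snd, Category.assoc, diagSec_snd, Category.comp_id,
      ← Category.assoc, hs, Category.id_comp]

end SelfProduct

section Flat

variable {X Y : Scheme.{u}} (f : X ⟶ Y) [Flat f] [LocallyOfFinitePresentation f] [QuasiCompact f]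
  [QuasiSeparated f] (g : Y ⟶ X) (hg : g ≫ f = 𝟙 Y)

include hg in
theorem subset_interior_of_flat_of_isAffine [IsAffine Y] (y : Y)
    (h : ∀ x ∈ connectedComponentIn (f ⁻¹' {y}) (g y), GRAt f x) :
    connectedComponentIn (f ⁻¹' {y}) (g y) ⊆ interior (MoreMor.sectionComponents f g) := by
  obtain ⟨A₀, hfg, X₀, f₀, q, hflat, hlfp, hqc, hpb⟩ :=
    Groth.Agent.Lib.LimDescFPH7.exists_model_fg (P := @Flat)
      Groth.Agent.Lib.LimDescFPH7.descendsProp_flat Γ(Y, ⊤) (f ≫ Y.isoSpec.hom)
      (inferInstance : Flat (f ≫ Y.isoSpec.hom))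
  haveI : Flat f₀ := hflat
  haveI := hlfp
  haveI := hqc
  haveI : Algebra.FiniteType ℤ A₀ := (Subalgebra.fg_iff_finiteType A₀).mp hfg
  haveI : IsNoetherianRing A₀ := Algebra.FiniteType.isNoetherianRing ℤ A₀
  let t : Y ⟶ Spec (CommRingCat.of A₀) :=
    Y.isoSpec.hom ≫ Spec.map (CommRingCat.ofHom (algebraMap A₀ Γ(Y, ⊤)))
  have sq : IsPullback q f f₀ t := by
    have hiso : IsPullback (𝟙 X) f (f ≫ Y.isoSpec.hom) Y.isoSpec.hom :=
      IsPullback.of_horiz_isIso ⟨by simp⟩
    have h7 := hiso.paste_horiz hpb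
    simpa using h7
  haveI : IsLocallyNoetherian X₀ := LocallyOfFiniteType.isLocallyNoetherian f₀
  have sqr := isPullback_toSelfProduct f g hg f₀ t q sq
  have hΔ := diagSec_snd f₀
  have hcomp := Groth.Agent.Lib.SecCompBCH4.main1324 (pullback.snd f₀ f₀) (diagSec f₀) hΔ f
    (toSelfProduct f g hg f₀ t q sq) (g ≫ q) sqr g hg (sec_toSelfProduct f g hg f₀ t q sq)
  have hfr : ∀ x : X, (pullback.snd f₀ f₀) ((toSelfProduct f g hg f₀ t q sq) x) = (g ≫ q) (f x) :=
    fun x => (Scheme.Hom.comp_apply _ _ x).symm.trans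
      ((congrArg (fun ψ : X ⟶ X₀ => ψ x) sqr.w).trans (Scheme.Hom.comp_apply _ _ x))
  have key := subset_interior_of_locallyNoetherian (pullback.snd f₀ f₀) (diagSec f₀) hΔ
    ((g ≫ q) y) (by
      intro z hz
      have hpz : (pullback.snd f₀ f₀) z = (g ≫ q) y := apply_eq_of_mem_component _ _ hz
      obtain ⟨x, hrx, hfx⟩ := SchPbPointsH7.exists_of_isPullback sqr z y hpz
      have hx1 : x ∈ MoreMor.sectionComponents f g := by
        rw [hcomp]
        show (toSelfProduct f g hg f₀ t q sq) x ∈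
          MoreMor.sectionComponents (pullback.snd f₀ f₀) (diagSec f₀)
        rw [hrx]
        exact (mem_sectionComponents_iff _ _ z _ hpz).mpr hz
      have hx2 := (mem_sectionComponents_iff f g x y hfx).mp hx1
      refine ⟨isUnivOpenAt_of_universallyOpen _ z, ?_⟩
      rw [← hrx]
      exact (grAt_baseChange_iff sqr x).mp (h x hx2))
  intro x hx
  have hfx : f x = y := apply_eq_of_mem_component f g hx
  have hx1 : x ∈ MoreMor.sectionComponents f g := (mem_sectionComponents_iff f g x y hfx).mpr hx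
  have hx2 : (toSelfProduct f g hg f₀ t q sq) x ∈
      MoreMor.sectionComponents (pullback.snd f₀ f₀) (diagSec f₀) := by
    rw [hcomp] at hx1; exact hx1
  have hx3 := (mem_sectionComponents_iff _ _ _ ((g ≫ q) y) (by rw [hfr, hfx])).mp hx2
  have hx4 := key hx3
  have hx5 : x ∈ (toSelfProduct f g hg f₀ t q sq) ⁻¹'
      interior (MoreMor.sectionComponents (pullback.snd f₀ f₀) (diagSec f₀)) := hx4
  have hx6 := preimage_interior_subset_interior_preimage
    (toSelfProduct f g hg f₀ t q sq).continuous hx5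
  rw [← hcomp] at hx6
  exact hx6

end Flat

section FlatGeneral

variable {X Y : Scheme.{u}} (f : X ⟶ Y) [Flat f] [LocallyOfFinitePresentation f] [QuasiCompact f]
  [QuasiSeparated f] (g : Y ⟶ X) (hg : g ≫ f = 𝟙 Y)

include hg in
theorem subset_interior_of_flat (y : Y)
    (h : ∀ x ∈ connectedComponentIn (f ⁻¹' {y}) (g y), GRAt f x) :
    connectedComponentIn (f ⁻¹' {y}) (g y) ⊆ interior (MoreMor.sectionComponents f g) := by
  intro x hx
  have hfx : f x = y := apply_eq_of_mem_component f g hx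
  obtain ⟨V, hV, hyV, -⟩ := exists_isAffineOpen_mem_and_subset (X := Y) (x := y) (U := ⊤) trivial
  haveI : IsAffine (V : Scheme.{u}) := hV
  have hpb := (isPullback_morphismRestrict f V).flip
  let gV : (V : Scheme.{u}) ⟶ (f ⁻¹ᵁ V : Scheme.{u}) :=
    hpb.lift (V.ι ≫ g) (𝟙 _) (by rw [Category.assoc, hg, Category.comp_id, Category.id_comp])
  have hgV1 : gV ≫ (f ⁻¹ᵁ V).ι = V.ι ≫ g := hpb.lift_fst _ _ _
  have hgV2 : gV ≫ (f ∣_ V) = 𝟙 _ := hpb.lift_snd _ _ _
  have hcomp := Groth.Agent.Lib.SecCompBCH4.main1324 f g hg (f ∣_ V) (f ⁻¹ᵁ V).ι V.ι hpb gV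
    hgV2 hgV1
  let yV : ↥(V : Scheme.{u}) := ⟨y, hyV⟩
  have hfι : ∀ v : ↥(f ⁻¹ᵁ V : Scheme.{u}), f ((f ⁻¹ᵁ V).ι v) = V.ι ((f ∣_ V) v) := fun v =>
    (Scheme.Hom.comp_apply _ _ v).symm.trans
      ((congrArg (fun ψ : (f ⁻¹ᵁ V : Scheme.{u}) ⟶ Y => ψ v) hpb.w).trans
        (Scheme.Hom.comp_apply _ _ v))
  have key := subset_interior_of_flat_of_isAffine (f ∣_ V) gV hgV2 yV (by
    intro v hv
    have hv1 : (f ∣_ V) v = yV := apply_eq_of_mem_component _ _ hv
    have hv2 : v ∈ MoreMor.sectionComponents (f ∣_ V) gV :=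
      (mem_sectionComponents_iff _ _ v yV hv1).mpr hv
    rw [hcomp] at hv2
    have hv2' : (f ⁻¹ᵁ V).ι v ∈ MoreMor.sectionComponents f g := hv2
    have hv3 : f ((f ⁻¹ᵁ V).ι v) = y := by rw [hfι, hv1]; rfl
    have hv4 := (mem_sectionComponents_iff f g _ y hv3).mp hv2'
    exact (grAt_baseChange_iff hpb v).mpr (h _ hv4))
  have hxV : x ∈ f ⁻¹ᵁ V := by
    show f x ∈ V
    rw [hfx]; exact hyV
  let xV : ↥(f ⁻¹ᵁ V : Scheme.{u}) := ⟨x, hxV⟩
  have hxV1 : xV ∈ MoreMor.sectionComponents (f ∣_ V) gV := by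
    rw [hcomp]
    exact (mem_sectionComponents_iff f g x y hfx).mpr hx
  have hxV0 : (f ∣_ V) xV = yV := by
    apply Subtype.ext
    have := hfι xV
    exact this.symm.trans hfx
  have hxV2 := (mem_sectionComponents_iff (f ∣_ V) gV xV yV hxV0).mp hxV1
  have hint := key hxV2
  rw [mem_interior_iff_mem_nhds] at hint ⊢
  have h2 := (f ⁻¹ᵁ V).ι.isOpenEmbedding.isOpenMap.image_mem_nhds hint
  refine Filter.mem_of_superset h2 ?_
  rintro _ ⟨v, hv, rfl⟩
  rw [hcomp] at hv
  exact hv

include hg in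
/-- S4953 -/
theorem main4953 (y : Y)
    (hred : ∀ x' : ↥(f.fiber y), (f.fiberι y) x' ∈ connectedComponentIn (f ⁻¹' {y}) (g y) →
      FBase.IsGeomReducedAt (f.fiberToSpecResidueField y) x') :
    connectedComponentIn (f ⁻¹' {y}) (g y) ⊆ interior (MoreMor.sectionComponents f g) := by
  refine subset_interior_of_flat f g hg y ?_
  intro x hx
  have hfx : f x = y := apply_eq_of_mem_component f g hx
  obtain ⟨w, hw⟩ : x ∈ Set.range (f.fiberι y) := by
    rw [Scheme.Hom.range_fiberι]; exact hfx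
  exact (grAt_iff_of_fiber f x y hfx w hw).mp (hred w (hw ▸ hx))

end FlatGeneral

end SecNbhdH8
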