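import Mathlib
import Groth.Agent.Lib.SecNbhdE_helper8
import Groth.Agent.Lib.EtaleReduced_helper7

/-!
# Section components of a smooth morphism are open (S15351), helper8.  APPEND-ONLY once landed.
-/

set_option autoImplicit false
set_option linter.style.haveILetI false
universe u
open CategoryTheory CategoryTheory.Limits AlgebraicGeometry

namespace SecNbhdH8

section Restrict

variable {X Y : Scheme.{u}} (f : X ⟶ Y) (g : Y ⟶ X) (hg : g ≫ f = 𝟙 Y)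
  (U : X.Opens) (V : Y.Opens)

theorem restrict_apply (v : ↥(((U.ι ≫ f) ⁻¹ᵁ V : (U : Scheme.{u}).Opens) : Scheme.{u})) :
    f (U.ι (((U.ι ≫ f) ⁻¹ᵁ V).ι v)) = V.ι (((U.ι ≫ f) ∣_ V) v) := by
  have sq1 := (isPullback_morphismRestrict (U.ι ≫ f) V).flip
  have h1 : f (U.ι (((U.ι ≫ f) ⁻¹ᵁ V).ι v)) = (((U.ι ≫ f) ⁻¹ᵁ V).ι ≫ (U.ι ≫ f)) v :=
    ((Scheme.Hom.comp_apply ((U.ι ≫ f) ⁻¹ᵁ V).ι (U.ι ≫ f) v).trans
      (Scheme.Hom.comp_apply U.ι f _)).symm
  rw [h1, sq1.w]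
  exact Scheme.Hom.comp_apply _ _ v

variable (g1 : (V : Scheme.{u}) ⟶ (((U.ι ≫ f) ⁻¹ᵁ V : (U : Scheme.{u}).Opens) : Scheme.{u}))
  (hjg : g1 ≫ ((U.ι ≫ f) ⁻¹ᵁ V).ι ≫ U.ι = V.ι ≫ g)

include hjg in
theorem restrict_sec_apply (w : ↥(V : Scheme.{u})) :
    U.ι (((U.ι ≫ f) ⁻¹ᵁ V).ι (g1 w)) = g (V.ι w) := by
  have h1 : U.ι (((U.ι ≫ f) ⁻¹ᵁ V).ι (g1 w)) = (g1 ≫ ((U.ι ≫ f) ⁻¹ᵁ V).ι ≫ U.ι) w :=
    ((Scheme.Hom.comp_apply g1 _ w).trans (Scheme.Hom.comp_apply _ U.ι _)).symm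
  rw [h1, hjg]
  exact Scheme.Hom.comp_apply _ _ w

include hjg in
theorem mem_component_of_restrict (w : ↥(V : Scheme.{u}))
    (v : ↥(((U.ι ≫ f) ⁻¹ᵁ V : (U : Scheme.{u}).Opens) : Scheme.{u}))
    (hv : v ∈ connectedComponentIn (((U.ι ≫ f) ∣_ V) ⁻¹' {w}) (g1 w)) :
    U.ι (((U.ι ≫ f) ⁻¹ᵁ V).ι v) ∈ connectedComponentIn (f ⁻¹' {V.ι w}) (g (V.ι w)) := by
  have h := image_component_subset (((U.ι ≫ f) ⁻¹ᵁ V).ι ≫ U.ι) ((U.ι ≫ f) ∣_ V) V.ι f g1 g
    (fun v => by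
      have : (((U.ι ≫ f) ⁻¹ᵁ V).ι ≫ U.ι) v = U.ι (((U.ι ≫ f) ⁻¹ᵁ V).ι v) :=
        Scheme.Hom.comp_apply _ _ v
      rw [this]; exact restrict_apply f U V v)
    (fun w => by
      have : (((U.ι ≫ f) ⁻¹ᵁ V).ι ≫ U.ι) (g1 w) = U.ι (((U.ι ≫ f) ⁻¹ᵁ V).ι (g1 w)) :=
        Scheme.Hom.comp_apply _ _ _
      rw [this]; exact restrict_sec_apply f g U V g1 hjg w)
    w v hv
  have h2 : (((U.ι ≫ f) ⁻¹ᵁ V).ι ≫ U.ι) v = U.ι (((U.ι ≫ f) ⁻¹ᵁ V).ι v) :=
    Scheme.Hom.comp_apply _ _ v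
  rw [h2] at h
  exact h

include hg in
/-- localisation principle: to show that the section components are a neighbourhood of a point
`x` of `X⁰_y` one may replace `X` by an open `U` inside which `x` is connected to the section,
and `Y` by an open neighbourhood `V` of `y` whose image under the section lies in `U`. -/
theorem mem_interior_of_restrict (y : Y) (hyV : y ∈ V) (hVU : (V : Set Y) ⊆ g ⁻¹ᵁ U) (x : X)
    (hxU : x ∈ connectedComponentIn ((U : Set X) ∩ f ⁻¹' {y}) (g y))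
    (H : ∀ (g1 : (V : Scheme.{u}) ⟶ (((U.ι ≫ f) ⁻¹ᵁ V : (U : Scheme.{u}).Opens) : Scheme.{u})),
      g1 ≫ ((U.ι ≫ f) ∣_ V) = 𝟙 _ → g1 ≫ ((U.ι ≫ f) ⁻¹ᵁ V).ι ≫ U.ι = V.ι ≫ g →
      connectedComponentIn (((U.ι ≫ f) ∣_ V) ⁻¹' {⟨y, hyV⟩}) (g1 ⟨y, hyV⟩) ⊆
        interior (MoreMor.sectionComponents ((U.ι ≫ f) ∣_ V) g1)) :
    x ∈ interior (MoreMor.sectionComponents f g) := by
  have hgyU : g y ∈ U := hVU hyV
  let hh : (U : Scheme.{u}) ⟶ Y := U.ι ≫ f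
  let X1 : (U : Scheme.{u}).Opens := hh ⁻¹ᵁ V
  let f1 : (X1 : Scheme.{u}) ⟶ (V : Scheme.{u}) := hh ∣_ V
  have sq1 : IsPullback X1.ι f1 hh V.ι := (isPullback_morphismRestrict hh V).flip
  have hrange : Set.range (V.ι ≫ g) ⊆ Set.range U.ι := by
    rintro _ ⟨w, rfl⟩
    rw [Scheme.Opens.range_ι]
    have : (V.ι ≫ g) w = g (V.ι w) := Scheme.Hom.comp_apply _ _ w
    rw [this]
    exact hVU w.2
  let gU : (V : Scheme.{u}) ⟶ (U : Scheme.{u}) := IsOpenImmersion.lift U.ι (V.ι ≫ g) hrange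
  have hgU : gU ≫ U.ι = V.ι ≫ g := IsOpenImmersion.lift_fac _ _ _
  let g1 : (V : Scheme.{u}) ⟶ (X1 : Scheme.{u}) := sq1.lift gU (𝟙 _) (by
    rw [Category.id_comp, ← Category.assoc, hgU, Category.assoc, hg, Category.comp_id])
  have hg1a : g1 ≫ X1.ι = gU := sq1.lift_fst _ _ _
  have hg1 : g1 ≫ f1 = 𝟙 _ := sq1.lift_snd _ _ _
  have hjg : g1 ≫ X1.ι ≫ U.ι = V.ι ≫ g := by rw [← Category.assoc, hg1a, hgU]
  have res := H g1 hg1 hjg
  let j : (X1 : Scheme.{u}) ⟶ X := X1.ι ≫ U.ι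
  have hj : ∀ v, j v = U.ι (X1.ι v) := fun v => Scheme.Hom.comp_apply _ _ v
  have hfj : ∀ v, f (j v) = V.ι (f1 v) := fun v => by rw [hj]; exact restrict_apply f U V v
  have hjg' : ∀ w, j (g1 w) = g (V.ι w) := fun w => by
    rw [hj]; exact restrict_sec_apply f g U V g1 hjg w
  let y1 : ↥(V : Scheme.{u}) := ⟨y, hyV⟩
  have hxUF : x ∈ (U : Set X) ∩ f ⁻¹' {y} := connectedComponentIn_subset _ _ hxU
  have hrangej : ∀ c : X, c ∈ (U : Set X) ∩ f ⁻¹' {y} → c ∈ Set.range j := by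
    rintro c ⟨hcU, hcy⟩
    have hcy' : f c = y := hcy
    have hc1 : (⟨c, hcU⟩ : ↥(U : Scheme.{u})) ∈ X1 := by
      show hh ⟨c, hcU⟩ ∈ V
      have : hh ⟨c, hcU⟩ = f c := Scheme.Hom.comp_apply U.ι f ⟨c, hcU⟩
      rw [this, hcy']; exact hyV
    exact ⟨⟨⟨c, hcU⟩, hc1⟩, hj _⟩
  obtain ⟨x1, rfl⟩ := hrangej x hxUF
  have hx1 : x1 ∈ connectedComponentIn (f1 ⁻¹' {y1}) (g1 y1) := by
    set C := connectedComponentIn ((U : Set X) ∩ f ⁻¹' {y}) (g y) with hC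
    have hCsub : C ⊆ Set.range j := fun c hc => hrangej c (connectedComponentIn_subset _ _ hc)
    have hpre : _root_.IsPreconnected (j ⁻¹' C) := by
      rw [← j.isEmbedding.isInducing.isPreconnected_image, Set.image_preimage_eq_of_subset hCsub]
      exact isPreconnected_connectedComponentIn
    have hgy1 : g1 y1 ∈ j ⁻¹' C := by
      show j (g1 y1) ∈ C
      rw [hjg']
      exact mem_connectedComponentIn ⟨hgyU, by
        show f (g y) = y
        exact (Scheme.Hom.comp_apply g f y).symm.trans (congrArg (fun k : Y ⟶ Y => k y) hg)⟩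
    refine hpre.subset_connectedComponentIn hgy1 ?_ hxU
    intro c hc
    have hc' : f (j c) = y := (connectedComponentIn_subset _ _ hc).2
    rw [hfj] at hc'
    exact Subtype.ext hc'
  have hint := res hx1
  rw [mem_interior_iff_mem_nhds] at hint ⊢
  have h2 := j.isOpenEmbedding.isOpenMap.image_mem_nhds hint
  refine Filter.mem_of_superset h2 ?_
  rintro _ ⟨v, hv, rfl⟩
  have hv' := image_component_subset j f1 V.ι f g1 g hfj hjg' (f1 v) v hv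
  rw [← hfj] at hv'
  exact hv'

end Restrict

section Smooth

theorem grAt_of_smooth {X Y : Scheme.{u}} (f : X ⟶ Y) [Smooth f] (x : X) : GRAt f x := by
  intro K _ _ x'' _
  have h1 : Smooth (f.fiberToSpecResidueField (f x)) :=
    MorphismProperty.pullback_snd _ _ inferInstance
  haveI : Smooth (FBase.bcStr (k := IsLocalRing.ResidueField (Y.presheaf.stalk (f x)))
      (f.fiberToSpecResidueField (f x)) K) :=
    MorphismProperty.pullback_snd _ _ h1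
  haveI : IsReduced (FBase.bc (k := IsLocalRing.ResidueField (Y.presheaf.stalk (f x)))
      (f.fiberToSpecResidueField (f x)) K) :=
    Groth.Agent.Lib.EtaleReduced_helper7.isReduced_of_smooth_scheme
      (FBase.bcStr (k := IsLocalRing.ResidueField (Y.presheaf.stalk (f x)))
        (f.fiberToSpecResidueField (f x)) K)
  infer_instance

end Smooth

section QA

variable {X Y : Scheme.{u}} (f : X ⟶ Y) [Flat f] [LocallyOfFinitePresentation f]
  (g : Y ⟶ X) (hg : g ≫ f = 𝟙 Y)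

include hg in
/-- flat, locally of finite presentation, quasi-separated source, affine base; no
quasi-compactness. -/
theorem subset_interior_of_flat_of_isAffine' [IsAffine Y] [QuasiSeparatedSpace ↥X] (y : Y)
    (h : ∀ x ∈ connectedComponentIn (f ⁻¹' {y}) (g y), GRAt f x) :
    connectedComponentIn (f ⁻¹' {y}) (g y) ⊆ interior (MoreMor.sectionComponents f g) := by
  intro x hx
  obtain ⟨U, hUc, hgyU, hxU⟩ := exists_compact_open_component f y (g y) x hx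
  have hyg : y ∈ g ⁻¹ᵁ U := hgyU
  obtain ⟨V, hV, hyV, hVsub⟩ := exists_isAffineOpen_mem_and_subset (X := Y) (x := y)
    (U := g ⁻¹ᵁ U) hyg
  haveI : IsAffine (V : Scheme.{u}) := hV
  haveI : CompactSpace ↥(U : Scheme.{u}) := isCompact_iff_compactSpace.mp hUc
  haveI : QuasiCompact (U.ι ≫ f) := quasiCompact_of_compactSpace _
  haveI : QuasiSeparatedSpace ↥(U : Scheme.{u}) := quasiSeparatedSpace_of_quasiSeparated U.ι
  haveI : QuasiSeparated (U.ι ≫ f) := QuasiSeparated.of_quasiSeparatedSpace _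
  refine mem_interior_of_restrict f g hg U V y hyV hVsub x hxU ?_
  intro g1 hg1 hjg
  refine subset_interior_of_flat ((U.ι ≫ f) ∣_ V) g1 hg1 ⟨y, hyV⟩ ?_
  intro v hv
  have hmem := mem_component_of_restrict f g U V g1 hjg ⟨y, hyV⟩ v hv
  have h2 := h _ hmem
  exact (grAt_baseChange_iff (isPullback_morphismRestrict (U.ι ≫ f) V).flip v).mpr
    ((grAt_comp_iff_of_etale U.ι f _).mpr h2)

end QA

section Main

/-- S15351 -/
theorem main15351 {S X : Scheme.{u}} [QuasiSeparatedSpace ↥X] (f : X ⟶ S) [Smooth f]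
    (e : S ⟶ X) (he : e ≫ f = 𝟙 S) : IsOpen (MoreMor.sectionComponents f e) := by
  rw [← subset_interior_iff_isOpen]
  intro x hx
  have hx' : x ∈ connectedComponentIn (f ⁻¹' {f x}) (e (f x)) := hx
  obtain ⟨V, hV, hyV, -⟩ := exists_isAffineOpen_mem_and_subset (X := S) (x := f x) (U := ⊤)
    trivial
  haveI : IsAffine (V : Scheme.{u}) := hV
  have hfe : ∀ w, f (e w) = w := fun w =>
    (Scheme.Hom.comp_apply e f w).symm.trans (congrArg (fun k : S ⟶ S => k w) he)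
  have hVU : (V : Set S) ⊆ e ⁻¹ᵁ (f ⁻¹ᵁ V) := by
    intro w hw
    show f (e w) ∈ V
    rw [hfe]; exact hw
  have hinter : ((f ⁻¹ᵁ V : X.Opens) : Set X) ∩ f ⁻¹' {f x} = f ⁻¹' {f x} := by
    apply Set.inter_eq_self_of_subset_right
    intro c hc
    have hc' : f c = f x := hc
    show f c ∈ V
    rw [hc']; exact hyV
  have hxU : x ∈ connectedComponentIn (((f ⁻¹ᵁ V : X.Opens) : Set X) ∩ f ⁻¹' {f x}) (e (f x)) := by
    rw [hinter]; exact hx'
  haveI : IsOpenImmersion (f ⁻¹ᵁ V).ι := inferInstance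
  haveI : Smooth ((f ⁻¹ᵁ V).ι ≫ f) := inferInstance
  haveI : QuasiSeparatedSpace ↥((f ⁻¹ᵁ V : X.Opens) : Scheme.{u}) :=
    quasiSeparatedSpace_of_quasiSeparated (f ⁻¹ᵁ V).ι
  haveI : QuasiSeparatedSpace
      ↥((((f ⁻¹ᵁ V).ι ≫ f) ⁻¹ᵁ V : ((f ⁻¹ᵁ V : X.Opens) : Scheme.{u}).Opens) : Scheme.{u}) :=
    quasiSeparatedSpace_of_quasiSeparated (((f ⁻¹ᵁ V).ι ≫ f) ⁻¹ᵁ V).ι
  refine mem_interior_of_restrict f e he (f ⁻¹ᵁ V) V (f x) hyV hVU x hxU ?_
  intro g1 hg1 hjg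
  exact subset_interior_of_flat_of_isAffine' (((f ⁻¹ᵁ V).ι ≫ f) ∣_ V) g1 hg1 ⟨f x, hyV⟩
    (fun v _ => grAt_of_smooth _ v)

end Main

end SecNbhdH8
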