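import Mathlib
import Groth.Agent.Lib.SecNbhdF_helper8
import Groth.Agent.Lib.GeomConnComps_helper4
import Groth.Agent.Lib.SecCompBC_helper4

/-!
# Connected components under field extension; components of fibres meeting a multi-section
(S15350), helper8.  APPEND-ONLY once landed.
-/

set_option autoImplicit false
set_option linter.style.haveILetI false
universe u
open CategoryTheory CategoryTheory.Limits AlgebraicGeometry
open Groth.Agent.Lib

namespace SecNbhdH8

section FieldExt

variable {k : Type u} [Field k] {X : Scheme.{u}} (f : X ⟶ Spec (CommRingCat.of k))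

/-- `X` locally of finite type over a field `k`, `K/k` any field extension: the image in `X` of a
connected component of `X_K` is a whole connected component of `X`. -/
theorem connectedComponent_subset_image_bc [LocallyOfFiniteType f] (K : Type u) [Field K]
    [Algebra k K] (z : ↥(FBase.bc f K)) :
    connectedComponent ((FBase.bcπ f K) z) ⊆ (FBase.bcπ f K) '' connectedComponent z := by
  obtain ⟨Ω, _, iK, iS, hcomp⟩ := GeomBC_helper4.exists_compositum k K (SeparableClosure k)
  letI : Algebra K Ω := iK.toAlgebra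
  letI : Algebra (SeparableClosure k) Ω := iS.toAlgebra
  letI : Algebra k Ω := (iK.comp (algebraMap k K)).toAlgebra
  haveI : IsScalarTower k K Ω := IsScalarTower.of_algebraMap_eq (fun _ => rfl)
  haveI : IsScalarTower k (SeparableClosure k) Ω :=
    IsScalarTower.of_algebraMap_eq (fun x => RingHom.congr_fun hcomp x)
  -- surjectivity of the transition maps
  haveI : Surjective (Spec.map (CommRingCat.ofHom (algebraMap K Ω))) :=
    RatPtsH4.surjective_specMap K Ω
  haveI : Surjective (Spec.map (CommRingCat.ofHom (algebraMap (SeparableClosure k) Ω))) :=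
    RatPtsH4.surjective_specMap (SeparableClosure k) Ω
  haveI : Surjective (BCPointH4.bcMap f K Ω) :=
    MorphismProperty.of_isPullback (P := @Surjective) (BCPointH4.isPullback_bcMap f K Ω).flip
      inferInstance
  haveI : Surjective (BCPointH4.bcMap f (SeparableClosure k) Ω) :=
    MorphismProperty.of_isPullback (P := @Surjective)
      (BCPointH4.isPullback_bcMap f (SeparableClosure k) Ω).flip inferInstance
  have hsK : Function.Surjective (BCPointH4.bcMap f K Ω) := Scheme.Hom.surjective _
  have hsS : Function.Surjective (BCPointH4.bcMap f (SeparableClosure k) Ω) :=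
    Scheme.Hom.surjective _
  have hπK : ∀ w, (FBase.bcπ f K) ((BCPointH4.bcMap f K Ω) w) = (FBase.bcπ f Ω) w := fun w => by
    rw [← Scheme.Hom.comp_apply, BCPointH4.bcMap_fst]
  have hπS : ∀ w, (FBase.bcπ f (SeparableClosure k)) ((BCPointH4.bcMap f (SeparableClosure k) Ω) w)
      = (FBase.bcπ f Ω) w := fun w => by
    rw [← Scheme.Hom.comp_apply, BCPointH4.bcMap_fst]
  obtain ⟨zΩ, hzΩ⟩ := hsK z
  set zS := (BCPointH4.bcMap f (SeparableClosure k) Ω) zΩ with hzS
  -- `X_S` is locally Noetherian, so its components are clopen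
  haveI : LocallyOfFiniteType (FBase.bcStr f (SeparableClosure k)) :=
    MorphismProperty.pullback_snd _ _ inferInstance
  haveI : IsLocallyNoetherian (FBase.bc f (SeparableClosure k)) :=
    LocallyOfFiniteType.isLocallyNoetherian (FBase.bcStr f (SeparableClosure k))
  haveI : LocallyConnectedSpace ↥(FBase.bc f (SeparableClosure k)) :=
    locallyConnectedSpace_of_isLocallyNoetherian _
  set T := connectedComponent zS with hT
  have hTo : IsOpen T := isOpen_connectedComponent
  have hTc : IsClosed T := isClosed_connectedComponent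
  -- the projection `X_S → X` is open and closed
  haveI := GeomIrrSchH4.universallyOpen_specMap (k := k) (SeparableClosure k)
  haveI := GeomConnPtH4.isIntegralHom_specMap k (SeparableClosure k)
  have hopen : IsOpenMap (FBase.bcπ f (SeparableClosure k)) :=
    (pullback.fst f (Spec.map (CommRingCat.ofHom (algebraMap k (SeparableClosure k))))).isOpenMap
  have hclosed : IsClosedMap (FBase.bcπ f (SeparableClosure k)) :=
    (pullback.fst f (Spec.map (CommRingCat.ofHom (algebraMap k (SeparableClosure k))))).isClosedMap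
  have hclopen : IsClopen ((FBase.bcπ f (SeparableClosure k)) '' T) :=
    ⟨hclosed _ hTc, hopen _ hTo⟩
  -- the preimage of `T` in `X_Ω` is connected
  have hB1 := GeomIrrSchH4.isConnected_preimage (k := SeparableClosure k) Ω
    (FBase.bcStr f (SeparableClosure k)) (Z := T) isConnected_connectedComponent
  have hTΩ : _root_.IsConnected ((BCPointH4.bcMap f (SeparableClosure k) Ω) ⁻¹' T) := by
    have e : (BCPointH4.bcMap f (SeparableClosure k) Ω) ⁻¹' T =
        (BCPointH4.eBC f (SeparableClosure k) Ω).hom.homeomorph ⁻¹'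
          ((FBase.bcπ (FBase.bcStr f (SeparableClosure k)) Ω) ⁻¹' T) := by
      ext w
      show (BCPointH4.bcMap f (SeparableClosure k) Ω) w ∈ T ↔
        (FBase.bcπ (FBase.bcStr f (SeparableClosure k)) Ω)
          ((BCPointH4.eBC f (SeparableClosure k) Ω).hom w) ∈ T
      rw [← Scheme.Hom.comp_apply, BCPointH4.eBC_hom_fst]
    rw [e]
    exact (Homeomorph.isConnected_preimage _).mpr hB1
  -- its image in `X_K` is connected and contains `z`
  have himg : _root_.IsPreconnected ((BCPointH4.bcMap f K Ω) ''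
      ((BCPointH4.bcMap f (SeparableClosure k) Ω) ⁻¹' T)) :=
    hTΩ.isPreconnected.image _ (BCPointH4.bcMap f K Ω).continuous.continuousOn
  have hzmem : z ∈ (BCPointH4.bcMap f K Ω) ''
      ((BCPointH4.bcMap f (SeparableClosure k) Ω) ⁻¹' T) :=
    ⟨zΩ, mem_connectedComponent, hzΩ⟩
  have hsub := himg.subset_connectedComponent hzmem
  -- conclusion
  have hπz : (FBase.bcπ f K) z = (FBase.bcπ f (SeparableClosure k)) zS := by
    rw [← hzΩ, hπK, hzS, hπS]
  intro x hx
  have hx' : x ∈ (FBase.bcπ f (SeparableClosure k)) '' T := by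
    refine hclopen.connectedComponent_subset ?_ hx
    rw [hπz]
    exact ⟨zS, mem_connectedComponent, rfl⟩
  obtain ⟨t, ht, rfl⟩ := hx'
  obtain ⟨w, rfl⟩ := hsS t
  refine ⟨(BCPointH4.bcMap f K Ω) w, hsub ⟨w, ht, rfl⟩, ?_⟩
  rw [hπK, hπS]

end FieldExt


section SmoothQS

/-- Variant of `main15351`: the section components of a smooth quasi-separated morphism are
open. -/
theorem isOpen_sectionComponents_of_smooth {S X : Scheme.{u}} (f : X ⟶ S) [Smooth f]
    [QuasiSeparated f] (e : S ⟶ X) (he : e ≫ f = 𝟙 S) :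
    IsOpen (MoreMor.sectionComponents f e) := by
  rw [← subset_interior_iff_isOpen]
  intro x hx
  have hx' : x ∈ connectedComponentIn (f ⁻¹' {f x}) (e (f x)) := hx
  obtain ⟨V, hV, hyV, -⟩ := exists_isAffineOpen_mem_and_subset (X := S) (x := f x) (U := ⊤)
    trivial
  haveI : IsAffine (V : Scheme.{u}) := hV
  have hfe : ∀ w, f (e w) = w := fun w =>
    (Scheme.Hom.comp_apply e f w).symm.trans (congrArg (fun k : S ⟶ S => k w) he)
  have hVU : (V : Set S) ⊆ e ⁻¹ᵁ (f ⁻¹ᵁ V) := by
    intro w hw
    show f (e w) ∈ V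
    rw [hfe]; exact hw
  have hinter : ((f ⁻¹ᵁ V : X.Opens) : Set X) ∩ f ⁻¹' {f x} = f ⁻¹' {f x} := by
    apply Set.inter_eq_self_of_subset_right
    intro c hc
    have hc' : f c = f x := hc
    show f c ∈ V
    rw [hc']; exact hyV
  have hxU : x ∈ connectedComponentIn (((f ⁻¹ᵁ V : X.Opens) : Set X) ∩ f ⁻¹' {f x}) (e (f x)) := by
    rw [hinter]; exact hx'
  haveI : IsOpenImmersion (f ⁻¹ᵁ V).ι := inferInstance
  haveI : Smooth ((f ⁻¹ᵁ V).ι ≫ f) := inferInstance
  haveI : QuasiSeparated ((f ⁻¹ᵁ V).ι ≫ f) := inferInstance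
  haveI : QuasiSeparated (((f ⁻¹ᵁ V).ι ≫ f) ∣_ V) := inferInstance
  haveI : QuasiSeparatedSpace
      ↥((((f ⁻¹ᵁ V).ι ≫ f) ⁻¹ᵁ V : ((f ⁻¹ᵁ V : X.Opens) : Scheme.{u}).Opens) : Scheme.{u}) :=
    quasiSeparatedSpace_of_quasiSeparated (((f ⁻¹ᵁ V).ι ≫ f) ∣_ V)
  refine mem_interior_of_restrict f e he (f ⁻¹ᵁ V) V (f x) hyV hVU x hxU ?_
  intro g1 hg1 hjg
  exact subset_interior_of_flat_of_isAffine' (((f ⁻¹ᵁ V).ι ≫ f) ∣_ V) g1 hg1 ⟨f x, hyV⟩
    (fun v _ => grAt_of_smooth _ v)

end SmoothQS

section Multi

variable {S S' X : Scheme.{u}} (f : X ⟶ S) (g : S' ⟶ S) (e : S' ⟶ X) (he : e ≫ f = g)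

include he in
/-- Fibrewise key step for S15350: with `X' = X ×_S S'`, every point of the component of `e s'` in
the fibre `X_{g s'}` is the image of a point of the component of `(e, id) s'` in `X'_{s'}`. -/
theorem exists_mem_component_bc [LocallyOfFiniteType f] (s' : S') (x : X)
    (hx : x ∈ connectedComponentIn (f ⁻¹' {g s'}) (e s')) :
    ∃ x' : ↥(pullback f g), (pullback.fst f g) x' = x ∧
      x' ∈ connectedComponentIn ((pullback.snd f g) ⁻¹' {s'})
        ((pullback.lift e (𝟙 S') (by rw [he, Category.id_comp]) : S' ⟶ pullback f g) s') := by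
  set pr := pullback.fst f g with hpr
  set f' := pullback.snd f g with hf'
  set e' : S' ⟶ pullback f g := pullback.lift e (𝟙 S') (by rw [he, Category.id_comp]) with he'
  have he'f : e' ≫ f' = 𝟙 S' := pullback.lift_snd _ _ _
  have he'pr : e' ≫ pr = e := pullback.lift_fst _ _ _
  have hc : IsPullback pr f' f g := IsPullback.of_hasPullback f g
  have hA := isPullback_fiberToSpecResidueField_of_isPullback hc s'
  set m : f'.fiber s' ⟶ f.fiber (g s') :=
    pullback.map _ _ _ _ pr (Spec.map (g.residueFieldMap s')) g hc.w.symm (by simp) with hm0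
  have hm : m ≫ f.fiberι (g s') = f'.fiberι s' ≫ pr := pullback.lift_fst _ _ _
  letI alg : Algebra (S.residueField (g s')) (S'.residueField s') :=
    (g.residueFieldMap s').hom.toAlgebra
  haveI : LocallyOfFiniteType (f.fiberToSpecResidueField (g s')) :=
    MorphismProperty.pullback_snd _ _ inferInstance
  set φ := f.fiberToSpecResidueField (g s') with hφ
  let eI := hA.isoPullback
  set π : pullback φ (Spec.map (g.residueFieldMap s')) ⟶ f.fiber (g s') :=
    pullback.fst φ (Spec.map (g.residueFieldMap s')) with hπ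
  have heI : eI.hom ≫ π = m := hA.isoPullback_hom_fst
  have hπe : ∀ z', π (eI.hom z') = m z' := fun z' =>
    (Scheme.Hom.comp_apply eI.hom π z').symm.trans
      (congrArg (fun k : f'.fiber s' ⟶ f.fiber (g s') => k z') heI)
  have hmι : ∀ z', f.fiberι (g s') (m z') = pr (f'.fiberι s' z') := fun z' =>
    (Scheme.Hom.comp_apply m (f.fiberι (g s')) z').symm.trans
      ((congrArg (fun k : f'.fiber s' ⟶ X => k z') hm).trans
        (Scheme.Hom.comp_apply (f'.fiberι s') pr z'))
  have heinv : ∀ w, eI.hom (eI.inv w) = w := fun w =>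
    (Scheme.Hom.comp_apply eI.inv eI.hom w).symm.trans
      (congrArg (fun k : pullback φ (Spec.map (g.residueFieldMap s')) ⟶ _ => k w) eI.inv_hom_id)
  have hehom : ∀ z', eI.inv (eI.hom z') = z' := fun z' =>
    (Scheme.Hom.comp_apply eI.hom eI.inv z').symm.trans
      (congrArg (fun k : f'.fiber s' ⟶ f'.fiber s' => k z') eI.hom_inv_id)
  -- the point `a'' ` of the fibre of `f'` over `s'` given by the section
  have hf'e' : f' (e' s') = s' :=
    (Scheme.Hom.comp_apply e' f' s').symm.trans (congrArg (fun k : S' ⟶ S' => k s') he'f)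
  have hpre' : pr (e' s') = e s' :=
    (Scheme.Hom.comp_apply e' pr s').symm.trans (congrArg (fun k : S' ⟶ X => k s') he'pr)
  obtain ⟨a'', ha''⟩ : e' s' ∈ Set.range (f'.fiberι s') := by
    rw [Scheme.Hom.range_fiberι]; exact hf'e'
  have hma : f.fiberι (g s') (m a'') = e s' := by rw [hmι, ha'', hpre']
  -- the point `x0` of the fibre of `f` over `g s'`
  have hfx : f x = g s' := connectedComponentIn_subset (f ⁻¹' {g s'}) (e s') hx
  obtain ⟨x0, hx0⟩ : x ∈ Set.range (f.fiberι (g s')) := by
    rw [Scheme.Hom.range_fiberι]; exact hfx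
  have hx0c : x0 ∈ connectedComponent (m a'') := by
    rw [← SecCompBCH4.preimage_fiberι_cc f (g s') (m a'')]
    show f.fiberι (g s') x0 ∈ connectedComponentIn (f ⁻¹' {g s'}) (f.fiberι (g s') (m a''))
    rw [hx0, hma]; exact hx
  -- apply the field-extension lemma
  have hFE := connectedComponent_subset_image_bc (k := S.residueField (g s')) φ
    (S'.residueField s') (eI.hom a'')
  have hx0c' : x0 ∈ connectedComponent ((FBase.bcπ (k := S.residueField (g s')) φ
      (S'.residueField s')) (eI.hom a'')) := by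
    have : (FBase.bcπ (k := S.residueField (g s')) φ (S'.residueField s')) (eI.hom a'') = m a'' :=
      hπe a''
    rw [this]; exact hx0c
  obtain ⟨w, hw, hwx⟩ := hFE hx0c'
  have hwx' : π w = x0 := hwx
  refine ⟨f'.fiberι s' (eI.inv w), ?_, ?_⟩
  · rw [← hmι, ← hπe, heinv, hwx', hx0]
  · have h1 : eI.inv w ∈ connectedComponent a'' := by
      have h2 := Continuous.image_connectedComponent_subset eI.inv.continuous (eI.hom a'')
        ⟨w, hw, rfl⟩
      rw [hehom] at h2
      exact h2
    rw [← SecCompBCH4.preimage_fiberι_cc f' s' a''] at h1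
    have h3 : f'.fiberι s' (eI.inv w) ∈
        connectedComponentIn (f' ⁻¹' {s'}) (f'.fiberι s' a'') := h1
    rw [ha''] at h3
    exact h3

include he in
/-- S15350 -/
theorem main15350 [Smooth f] [QuasiSeparated f] [UniversallyOpen g] :
    ∃ U : X.Opens, ∀ s : S, (U : Set ↥X) ∩ f ⁻¹' {s} =
      ⋃ x ∈ Set.range e ∩ f ⁻¹' {s}, connectedComponentIn (f ⁻¹' {s}) x := by
  set pr := pullback.fst f g with hpr
  set f' := pullback.snd f g with hf'
  set e' : S' ⟶ pullback f g := pullback.lift e (𝟙 S') (by rw [he, Category.id_comp]) with he'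
  have he'f : e' ≫ f' = 𝟙 S' := pullback.lift_snd _ _ _
  have he'pr : e' ≫ pr = e := pullback.lift_fst _ _ _
  have hc : IsPullback pr f' f g := IsPullback.of_hasPullback f g
  have hf'e' : ∀ s', f' (e' s') = s' := fun s' =>
    (Scheme.Hom.comp_apply e' f' s').symm.trans (congrArg (fun k : S' ⟶ S' => k s') he'f)
  have hpre' : ∀ s', pr (e' s') = e s' := fun s' =>
    (Scheme.Hom.comp_apply e' pr s').symm.trans (congrArg (fun k : S' ⟶ X => k s') he'pr)
  have hfpr : ∀ x', f (pr x') = g (f' x') := fun x' =>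
    (Scheme.Hom.comp_apply pr f x').symm.trans
      ((congrArg (fun k : pullback f g ⟶ S => k x') hc.w).trans (Scheme.Hom.comp_apply f' g x'))
  have hfe : ∀ s', f (e s') = g s' := fun s' =>
    (Scheme.Hom.comp_apply e f s').symm.trans (congrArg (fun k : S' ⟶ S => k s') he)
  haveI : Smooth f' := MorphismProperty.pullback_snd _ _ inferInstance
  haveI : QuasiSeparated f' := MorphismProperty.pullback_snd _ _ inferInstance
  have hWo : IsOpen (MoreMor.sectionComponents f' e') :=
    isOpen_sectionComponents_of_smooth f' e' he'f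
  haveI : UniversallyOpen pr := MorphismProperty.pullback_fst _ _ inferInstance
  have hopen : IsOpenMap pr := pr.isOpenMap
  refine ⟨⟨pr '' MoreMor.sectionComponents f' e', hopen _ hWo⟩, ?_⟩
  intro s
  ext x
  simp only [Set.mem_inter_iff, Set.mem_iUnion, exists_prop]
  constructor
  · rintro ⟨⟨x', hx', rfl⟩, hxs⟩
    have hxs' : f (pr x') = s := hxs
    have hx'' := (mem_sectionComponents_iff f' e' x' (f' x') rfl).mp hx'
    refine ⟨e (f' x'), ⟨⟨f' x', rfl⟩, ?_⟩, ?_⟩
    · show f (e (f' x')) = s
      rw [hfe, ← hfpr]; exact hxs'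
    · have hT : _root_.IsPreconnected
          (pr '' connectedComponentIn (f' ⁻¹' {f' x'}) (e' (f' x'))) :=
        isPreconnected_connectedComponentIn.image _ pr.continuous.continuousOn
      have hsub : pr '' connectedComponentIn (f' ⁻¹' {f' x'}) (e' (f' x')) ⊆ f ⁻¹' {s} := by
        rintro _ ⟨t, ht, rfl⟩
        have ht' : f' t = f' x' := connectedComponentIn_subset (f' ⁻¹' {f' x'}) (e' (f' x')) ht
        show f (pr t) = s
        rw [hfpr, ht', ← hfpr]; exact hxs'
      have hmem : e (f' x') ∈ pr '' connectedComponentIn (f' ⁻¹' {f' x'}) (e' (f' x')) :=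
        ⟨e' (f' x'), mem_connectedComponentIn (hf'e' _), hpre' _⟩
      exact hT.subset_connectedComponentIn hmem hsub ⟨x', hx'', rfl⟩
  · rintro ⟨a, ⟨⟨s', rfl⟩, has⟩, hxa⟩
    have has' : f (e s') = s := has
    have hgs : g s' = s := by rw [← hfe]; exact has'
    subst hgs
    have hfx : f x = g s' := connectedComponentIn_subset (f ⁻¹' {g s'}) (e s') hxa
    refine ⟨?_, hfx⟩
    obtain ⟨x', hx'1, hx'2⟩ := exists_mem_component_bc f g e he s' x hxa
    have hf'x' : f' x' = s' := connectedComponentIn_subset (f' ⁻¹' {s'}) _ hx'2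
    exact ⟨x', (mem_sectionComponents_iff f' e' x' s' hf'x').mpr hx'2, hx'1⟩

end Multi

end SecNbhdH8
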