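import Mathlib
import Groth.Agent.Lib.SecNbhdG_helper8
import Groth.Agent.Lib.GeomConnK_helper8
import Groth.Agent.Lib.GenSmoothGR_helper6
import Groth.Agent.Lib.SmoothSec_helper4
import Groth.Agent.Lib.SmoothFib_helper4
import Groth.Agent.Lib.FibCons4_helper8
import Groth.Agent.Lib.ConnMisc_helper4

/-!
# Flat lfp morphisms with geometrically reduced fibres have, étale locally, geometrically connected
fibres (S1361), helper8.  APPEND-ONLY once landed.
-/

set_option autoImplicit false
set_option linter.style.haveILetI false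
universe u
open CategoryTheory CategoryTheory.Limits AlgebraicGeometry Topology
open Groth.Agent.Lib

namespace SecNbhdH8

section Top

theorem isCompact_of_isConstructible' {X : Type*} [TopologicalSpace X] [CompactSpace X]
    [QuasiSeparatedSpace X] [PrespectralSpace X]
    {s : Set X} (hs : Topology.IsConstructible s) : IsCompact s := by
  haveI : Nonempty {U : Set X // IsOpen U ∧ IsCompact U} :=
    ⟨⟨∅, isOpen_empty, isCompact_empty⟩⟩
  refine Topology.IsConstructible.induction_of_isTopologicalBasis (P := fun s _ => IsCompact s)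
    (fun U : {U : Set X // IsOpen U ∧ IsCompact U} => U.1) ?_ (fun U => U.2.2) ?_ ?_ s hs
  · rw [Subtype.range_coe_subtype]
    exact PrespectralSpace.isTopologicalBasis
  · intro i t ht
    exact i.2.2.diff (isOpen_biUnion fun j _ => j.2.1)
  · intro s _ t _ h1 h2
    exact h1.union h2

end Top

section GR

theorem geometricallyReduced_comp_of_isOpenImmersion {U X S : Scheme.{u}} (j : U ⟶ X)
    [IsOpenImmersion j] (g : X ⟶ S) [hg : GeometricallyReduced g] :
    GeometricallyReduced (j ≫ g) := by
  refine ⟨geometrically_iff_of_isClosedUnderIsomorphisms.mpr fun K _ y => ?_⟩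
  haveI : IsReduced (pullback g y) :=
    hg.geometrically_isReduced _ _ _ (IsPullback.of_hasPullback _ _)
  haveI : IsReduced (pullback j (pullback.fst g y)) :=
    isReduced_of_isOpenImmersion (pullback.snd j (pullback.fst g y))
  exact isReduced_of_isOpenImmersion (pullbackRightPullbackFstIso g y j).inv

end GR


section Core

variable {X S S' : Scheme.{u}} (f : X ⟶ S) (c : S' ⟶ S) (e : S' ⟶ X) (he : e ≫ f = c)

include he in
/-- Core step of S1361: all schemes affine, `c` étale, `e` a "multi-section" through the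
connected component of `x` in its fibre. -/
theorem exists_etale_geomConn_core [IsAffine X] [IsAffine S] [IsAffine S'] [Flat f]
    [LocallyOfFinitePresentation f] [hgr : GeometricallyReduced f] [Etale c] (s' : S') (x : X)
    (hx : x ∈ connectedComponentIn (f ⁻¹' {c s'}) (e s')) :
    ∃ (X' : Scheme.{u}) (a : X' ⟶ X) (b : X' ⟶ S'), Etale a ∧ x ∈ Set.range ⇑a ∧
      a ≫ f = b ≫ c ∧ Flat b ∧ LocallyOfFinitePresentation b ∧ QuasiCompact b ∧
      QuasiSeparated b ∧ GeometricallyConnected b ∧ GeometricallyReduced b := by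
  classical
  set pr := pullback.fst f c with hpr
  set f'' := pullback.snd f c with hf''
  set σ : S' ⟶ pullback f c := pullback.lift e (𝟙 S') (by rw [he, Category.id_comp]) with hσ
  have hσf : σ ≫ f'' = 𝟙 S' := pullback.lift_snd _ _ _
  have hσpr : σ ≫ pr = e := pullback.lift_fst _ _ _
  have hf''σ : ∀ t, f'' (σ t) = t := fun t =>
    (Scheme.Hom.comp_apply σ f'' t).symm.trans (congrArg (fun k : S' ⟶ S' => k t) hσf)
  haveI : Flat f'' := MorphismProperty.pullback_snd _ _ inferInstance
  haveI : LocallyOfFinitePresentation f'' := MorphismProperty.pullback_snd _ _ inferInstance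
  haveI : GeometricallyReduced f'' := MorphismProperty.pullback_snd _ _ hgr
  haveI : Etale pr := MorphismProperty.pullback_fst _ _ inferInstance
  haveI : QuasiCompact f'' := inferInstance
  haveI : QuasiSeparated f'' := inferInstance
  set W := MoreMor.sectionComponents f'' σ with hW
  have hWo : IsOpen W := by
    rw [← subset_interior_iff_isOpen]
    intro w hw
    have hw' : w ∈ connectedComponentIn (f'' ⁻¹' {f'' w}) (σ (f'' w)) := hw
    refine main4953 f'' σ hσf (f'' w) ?_ hw'
    intro x' _ K _ _ z _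
    have hred : IsReduced (FBase.bc (f''.fiberToSpecResidueField (f'' w)) K) :=
      (inferInstance : GeometricallyReduced (f''.fiberToSpecResidueField (f'' w))).geometrically_isReduced
        _ _ _ (IsPullback.of_hasPullback _ _)
    exact inferInstanceAs (_root_.IsReduced
      ((FBase.bc (f''.fiberToSpecResidueField (f'' w)) K).presheaf.stalk z))
  have hWc : IsLocallyConstructible W := GeomConnH8.main1326 f'' σ hσf
  have hWcomp : IsCompact W := isCompact_of_isConstructible' hWc.isConstructible
  let Wo : (pullback f c).Opens := ⟨W, hWo⟩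
  haveI : CompactSpace ↥(Wo : Scheme.{u}) := isCompact_iff_compactSpace.mp hWcomp
  haveI : QuasiSeparatedSpace ↥(Wo : Scheme.{u}) := quasiSeparatedSpace_of_quasiSeparated Wo.ι
  -- the section factors through `Wo`
  have hσW : ∀ t, σ t ∈ W := fun t =>
    (mem_sectionComponents_iff f'' σ (σ t) t (hf''σ t)).mpr (mem_connectedComponentIn (hf''σ t))
  have hrange : Set.range σ ⊆ Set.range Wo.ι := by
    rintro _ ⟨t, rfl⟩
    rw [Scheme.Opens.range_ι]
    exact hσW t
  let σW : S' ⟶ (Wo : Scheme.{u}) := IsOpenImmersion.lift Wo.ι σ hrange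
  have hσWι : σW ≫ Wo.ι = σ := IsOpenImmersion.lift_fac _ _ _
  set a : (Wo : Scheme.{u}) ⟶ X := Wo.ι ≫ pr with ha
  set b : (Wo : Scheme.{u}) ⟶ S' := Wo.ι ≫ f'' with hb
  have hσWb : σW ≫ b = 𝟙 S' := by rw [hb, ← Category.assoc, hσWι, hσf]
  refine ⟨Wo, a, b, inferInstance, ?_, ?_, inferInstance, inferInstance, ?_, ?_, ?_, ?_⟩
  · obtain ⟨x'', hx1, hx2⟩ := exists_mem_component_bc f c e he s' x hx
    have hf''x : f'' x'' = s' := connectedComponentIn_subset (f'' ⁻¹' {s'}) _ hx2
    have hmem : x'' ∈ W := (mem_sectionComponents_iff f'' σ x'' s' hf''x).mpr hx2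
    refine ⟨⟨x'', hmem⟩, ?_⟩
    rw [ha, Scheme.Hom.comp_apply]
    exact hx1
  · rw [ha, hb, Category.assoc, Category.assoc, pullback.condition]
  · exact quasiCompact_of_compactSpace _
  · exact QuasiSeparated.of_quasiSeparatedSpace _
  · rw [GeometricallyConnected.iff_geometricallyConnected_fiber]
    intro t
    let τ : Spec (S'.residueField t) ⟶ b.fiber t :=
      pullback.lift (S'.fromSpecResidueField t ≫ σW) (𝟙 _)
        (by rw [Category.assoc, hσWb, Category.comp_id, Category.id_comp])
    have hτ : τ ≫ b.fiberToSpecResidueField t = 𝟙 _ := pullback.lift_snd _ _ _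
    -- the fibre is connected
    have hemb : IsEmbedding (fun p : ↥(b.fiber t) => Wo.ι (b.fiberι t p)) :=
      Wo.ι.isEmbedding.comp (b.fiberι t).isEmbedding
    have hrg : Set.range (fun p : ↥(b.fiber t) => Wo.ι (b.fiberι t p)) =
        connectedComponentIn (f'' ⁻¹' {t}) (σ t) := by
      ext w
      constructor
      · rintro ⟨p, rfl⟩
        have h1 : b (b.fiberι t p) = t := by
          have : b.fiberι t p ∈ Set.range (b.fiberι t) := Set.mem_range_self p
          rw [Scheme.Hom.range_fiberι] at this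
          exact this
        have h2 : f'' (Wo.ι (b.fiberι t p)) = t := by
          rw [← Scheme.Hom.comp_apply]; exact h1
        exact (mem_sectionComponents_iff f'' σ _ t h2).mp (b.fiberι t p).2
      · intro hw
        have hwt : f'' w = t := connectedComponentIn_subset (f'' ⁻¹' {t}) (σ t) hw
        have hwW : w ∈ W := (mem_sectionComponents_iff f'' σ w t hwt).mpr hw
        have h1 : (⟨w, hwW⟩ : ↥(Wo : Scheme.{u})) ∈ Set.range (b.fiberι t) := by
          rw [Scheme.Hom.range_fiberι]
          show b ⟨w, hwW⟩ = t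
          rw [hb, Scheme.Hom.comp_apply]
          exact hwt
        obtain ⟨p, hp⟩ := h1
        exact ⟨p, by show Wo.ι (b.fiberι t p) = w; rw [hp]; rfl⟩
    have hpre : _root_.IsPreconnected (Set.univ : Set ↥(b.fiber t)) := by
      rw [← hemb.isInducing.isPreconnected_image, Set.image_univ, hrg]
      exact isPreconnected_connectedComponentIn
    obtain ⟨pt⟩ : Nonempty (Spec (S'.residueField t)) :=
      inferInstanceAs (Nonempty (PrimeSpectrum (S'.residueField t)))
    haveI : Nonempty ↥(b.fiber t) := ⟨τ pt⟩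
    haveI : PreconnectedSpace ↥(b.fiber t) := ⟨hpre⟩
    haveI : ConnectedSpace ↥(b.fiber t) := { toNonempty := inferInstance }
    haveI : Nonempty ↥(Spec (S'.residueField t)) := ⟨pt⟩
    haveI : GeometricallyConnected (τ ≫ b.fiberToSpecResidueField t) := by
      rw [hτ]; exact ConnMiscH4.geomConn_id _
    exact GeomConnPtH4.main2502 (k := S'.residueField t) τ (b.fiberToSpecResidueField t)
  · exact geometricallyReduced_comp_of_isOpenImmersion Wo.ι f''

end Core


section Affine

theorem exists_etale_geomConn_of_isAffine {X S : Scheme.{u}} [IsAffine X] [IsAffine S] (f : X ⟶ S)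
    [Flat f] [LocallyOfFinitePresentation f] [GeometricallyReduced f] (x : X) :
    ∃ (X' S' : Scheme.{u}) (a : X' ⟶ X) (b : X' ⟶ S') (c : S' ⟶ S), Etale a ∧
      x ∈ Set.range ⇑a ∧ Etale c ∧ a ≫ f = b ≫ c ∧ Flat b ∧ LocallyOfFinitePresentation b ∧
      QuasiCompact b ∧ QuasiSeparated b ∧ GeometricallyConnected b ∧ GeometricallyReduced b := by
  classical
  obtain ⟨s, hxs⟩ : ∃ s, f x = s := ⟨_, rfl⟩
  set φ := f.fiberToSpecResidueField s with hφ
  haveI : LocallyOfFinitePresentation φ := MorphismProperty.pullback_snd _ _ inferInstance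
  haveI : LocallyOfFiniteType φ := inferInstance
  haveI : GeometricallyReduced φ := inferInstance
  haveI : IsLocallyNoetherian (f.fiber s) := LocallyOfFiniteType.isLocallyNoetherian φ
  haveI : LocallyConnectedSpace ↥(f.fiber s) := locallyConnectedSpace_of_isLocallyNoetherian _
  obtain ⟨x0, hx0⟩ : x ∈ Set.range (f.fiberι s) := by
    rw [Scheme.Hom.range_fiberι]; exact hxs
  -- generic point of an irreducible component through `x0`
  have hZirr : IsIrreducible (irreducibleComponent x0) := isIrreducible_irreducibleComponent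
  have hZcl : IsClosed (irreducibleComponent x0) := isClosed_irreducibleComponent
  set η := hZirr.genericPoint with hη
  have hηgen : IsGenericPoint η (irreducibleComponent x0) :=
    hZirr.isGenericPoint_genericPoint hZcl
  have hηcl : closure {η} ∈ irreducibleComponents ↥(f.fiber s) := by
    rw [hηgen.def]; exact irreducibleComponent_mem_irreducibleComponents x0
  have hηx0 : η ⤳ x0 := hηgen.specializes mem_irreducibleComponent
  have hηC : η ∈ connectedComponent x0 :=
    hηx0.mem_open isOpen_connectedComponent mem_connectedComponent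
  have hηsm : η ∈ φ.smoothLocus :=
    GenSmoothGRH6.mem_smoothLocus_of_geometricallyReduced (K := S.residueField s) φ η hηcl
  set z := f.fiberι s η with hz
  have hfz : f z = s := by
    have : z ∈ Set.range (f.fiberι s) := Set.mem_range_self η
    rw [Scheme.Hom.range_fiberι] at this
    exact this
  have hzsm : z ∈ f.smoothLocus := by
    haveI : LocallyOfFinitePresentation (f.fiberToSpecResidueField (f z)) :=
      MorphismProperty.pullback_snd _ _ inferInstance
    rw [UnramLocH4.main2156 f z]
    refine ⟨Flat.stalkMap f z, ?_⟩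
    exact (FibConsH8.fibSm_of_fibre_point f s η z rfl).mp hηsm
  -- an open of `X` cutting out the connected component of `x0` in the fibre
  obtain ⟨O, hOo, hOC⟩ := (f.fiberι s).isEmbedding.isInducing.isOpen_iff.mp
    (isOpen_connectedComponent (x := x0))
  let U₁ : X.Opens := f.smoothLocus ⊓ ⟨O, hOo⟩
  have hzO : z ∈ O := by
    have : η ∈ (f.fiberι s) ⁻¹' O := by rw [hOC]; exact hηC
    exact this
  have hzU₁ : z ∈ U₁ := ⟨hzsm, hzO⟩
  haveI : Smooth (U₁.ι ≫ f) := by
    rw [← Scheme.Hom.smoothLocus_eq_top_iff, ← Scheme.Hom.preimage_smoothLocus_eq]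
    ext w
    simp only [Scheme.Hom.coe_preimage, Set.mem_preimage, SetLike.mem_coe,
      TopologicalSpace.Opens.coe_top, Set.mem_univ, iff_true]
    have hw : U₁.ι w ∈ U₁ := by
      have : U₁.ι w ∈ Set.range U₁.ι := Set.mem_range_self w
      rw [Scheme.Opens.range_ι] at this
      exact this
    exact hw.1
  have hsr : s ∈ Set.range (U₁.ι ≫ f) := by
    refine ⟨⟨z, hzU₁⟩, ?_⟩
    rw [Scheme.Hom.comp_apply]
    exact hfz
  obtain ⟨S'', g, s'', hg, hgs, h, hh⟩ := SmoothSecH4.main0412 (U₁.ι ≫ f) s hsr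
  obtain ⟨V, hV, hsV, -⟩ := exists_isAffineOpen_mem_and_subset (X := S'') (x := s'') (U := ⊤)
    trivial
  haveI : IsAffine (V : Scheme.{u}) := hV
  haveI : Etale g := hg
  set c : (V : Scheme.{u}) ⟶ S := V.ι ≫ g with hc
  set e : (V : Scheme.{u}) ⟶ X := V.ι ≫ h ≫ U₁.ι with he0
  have he : e ≫ f = c := by
    rw [he0, hc, Category.assoc, Category.assoc, hh]
  let s' : ↥(V : Scheme.{u}) := ⟨s'', hsV⟩
  have hcs' : c s' = s := by
    rw [hc, Scheme.Hom.comp_apply]
    exact hgs
  have hes'U : e s' ∈ U₁ := by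
    have h1 : e s' = U₁.ι (h (V.ι s')) := by
      rw [he0, Scheme.Hom.comp_apply, Scheme.Hom.comp_apply]
    rw [h1]
    have : U₁.ι (h (V.ι s')) ∈ Set.range U₁.ι := Set.mem_range_self _
    rw [Scheme.Opens.range_ι] at this
    exact this
  have hfes' : f (e s') = s := by
    rw [← Scheme.Hom.comp_apply, he]; exact hcs'
  obtain ⟨c0, hc0⟩ : e s' ∈ Set.range (f.fiberι s) := by
    rw [Scheme.Hom.range_fiberι]; exact hfes'
  have hc0C : c0 ∈ connectedComponent x0 := by
    rw [← hOC]
    show f.fiberι s c0 ∈ O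
    rw [hc0]; exact hes'U.2
  have hx_comp : x ∈ connectedComponentIn (f ⁻¹' {c s'}) (e s') := by
    rw [hcs']
    have h1 := SecCompBCH4.preimage_fiberι_cc f s c0
    have hx0c : x0 ∈ connectedComponent c0 := by
      rw [← connectedComponent_eq hc0C]; exact mem_connectedComponent
    rw [← h1] at hx0c
    have h2 : f.fiberι s x0 ∈ connectedComponentIn (f ⁻¹' {s}) (f.fiberι s c0) := hx0c
    rw [hx0, hc0] at h2
    exact h2
  haveI : Etale c := inferInstance
  obtain ⟨X', a, b, h1, h2, h3, h4, h5, h6, h7, h8, h9⟩ :=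
    exists_etale_geomConn_core f c e he s' x hx_comp
  exact ⟨X', V, a, b, c, h1, h2, inferInstance, h3, h4, h5, h6, h7, h8, h9⟩

end Affine

section General

/-- S1361 -/
theorem main1361 {X S : Scheme.{u}} (f : X ⟶ S) [Flat f] [LocallyOfFinitePresentation f]
    [GeometricallyReduced f] (x : X) :
    ∃ (X' S' : Scheme.{u}) (a : X' ⟶ X) (b : X' ⟶ S') (c : S' ⟶ S), Etale a ∧
      x ∈ Set.range ⇑a ∧ Etale c ∧ a ≫ f = b ≫ c ∧ Flat b ∧ LocallyOfFinitePresentation b ∧
      QuasiCompact b ∧ QuasiSeparated b ∧ GeometricallyConnected b ∧ GeometricallyReduced b := by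
  obtain ⟨V, hV, hsV, -⟩ := exists_isAffineOpen_mem_and_subset (X := S) (x := f x) (U := ⊤)
    trivial
  haveI : IsAffine (V : Scheme.{u}) := hV
  have hxV : x ∈ f ⁻¹ᵁ V := hsV
  obtain ⟨U, hU, hxU, -⟩ := exists_isAffineOpen_mem_and_subset
    (X := ((f ⁻¹ᵁ V : X.Opens) : Scheme.{u})) (x := ⟨x, hxV⟩) (U := ⊤) trivial
  haveI : IsAffine (U : Scheme.{u}) := hU
  set fU : (U : Scheme.{u}) ⟶ (V : Scheme.{u}) := U.ι ≫ (f ∣_ V) with hfU
  haveI : GeometricallyReduced fU := geometricallyReduced_comp_of_isOpenImmersion U.ι (f ∣_ V)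
  obtain ⟨X', S', a, b, c, h1, ⟨w, hw⟩, h3, h4, h5, h6, h7, h8, h9, h10⟩ :=
    exists_etale_geomConn_of_isAffine fU ⟨⟨x, hxV⟩, hxU⟩
  haveI : Etale a := h1
  haveI : Etale c := h3
  refine ⟨X', S', a ≫ U.ι ≫ (f ⁻¹ᵁ V).ι, b, c ≫ V.ι, inferInstance, ?_, inferInstance, ?_,
    h5, h6, h7, h8, h9, h10⟩
  · refine ⟨w, ?_⟩
    rw [Scheme.Hom.comp_apply, Scheme.Hom.comp_apply, hw]
    rfl
  · have sq := (isPullback_morphismRestrict f V).flip.w
    -- sq : (f ⁻¹ᵁ V).ι ≫ f = (f ∣_ V) ≫ V.ι
    rw [Category.assoc, Category.assoc, sq, ← Category.assoc b, ← h4, hfU]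
    simp only [Category.assoc]

end General

end SecNbhdH8
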