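import Mathlib
import Groth.Prelude.Def_EtGlue
import Groth.Agent.Lib.EtGlue2_helper4

/-!
# Beauville–Laszlo glueing, part 3 (helper4): essential surjectivity

Given a glueing pair `(R → R', f)`, an `R'`-module `M'` with localization `ℓ : M' → L` at `f`,
an `R`-module `M₁` on which `f` is bijective and `α : L ≃ R' ⊗ M₁`, the module
`Glue = {(x, y) | ℓ x = α⁻¹(1 ⊗ y)}` is glueable with `R' ⊗ Glue ≅ M'` and `Glue_f ≅ M₁`.
-/

set_option autoImplicit false
set_option linter.unusedSectionVars false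

namespace Groth.Agent.Lib.EtGlueH4

open TensorProduct

universe u

section Tors

variable {R R' : Type u} [CommRing R] [CommRing R'] [Algebra R R'] {f : R}

lemma torsion_of_lTensor_eq_zero {X Y : Type u} [AddCommGroup X] [Module R X] [AddCommGroup Y]
    [Module R Y] (π : X →ₗ[R] Y) [IsLocalizedModule (Submonoid.powers f) π] (z : R' ⊗[R] X)
    (h : LinearMap.lTensor R' π z = 0) : ∃ n : ℕ, f ^ n • z = 0 := by
  have key : ∀ z : R' ⊗[R] X,
      TensorProduct.AlgebraTensorModule.rTensor R R' π (TensorProduct.comm R R' X z)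
        = TensorProduct.comm R R' Y (LinearMap.lTensor R' π z) := by
    intro z
    induction z using TensorProduct.induction_on with
    | zero => simp
    | tmul r' x => simp
    | add z₁ z₂ h₁ h₂ => rw [map_add, map_add, h₁, h₂, map_add, map_add]
  have h' : TensorProduct.AlgebraTensorModule.rTensor R R' π (TensorProduct.comm R R' X z) = 0 := by
    rw [key, h, map_zero]
  rw [IsLocalizedModule.eq_zero_iff (Submonoid.powers f)] at h'
  obtain ⟨⟨_, n, rfl⟩, hn⟩ := h'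
  replace hn : f ^ n • (TensorProduct.comm R R' X z) = 0 := hn
  rw [← map_smul] at hn
  exact ⟨n, (TensorProduct.comm R R' X).injective (by rw [hn, map_zero])⟩

end Tors

section Main

variable {R R' : Type u} [CommRing R] [CommRing R'] [Algebra R R'] {f : R}
variable {M' : Type u} [AddCommGroup M'] [Module R' M'] [Module R M'] [IsScalarTower R R' M']
variable {L : Type u} [AddCommGroup L] [Module R' L] [Module R L] [IsScalarTower R R' L]
variable (ℓ : M' →ₗ[R'] L)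
variable {M₁ : Type u} [AddCommGroup M₁] [Module R M₁]
variable (α : L ≃ₗ[R'] R' ⊗[R] M₁)

/-- `β y = α⁻¹(1 ⊗ y)`. -/
noncomputable def beta : M₁ →ₗ[R] L :=
  (α.symm.toLinearMap.restrictScalars R).comp (TensorProduct.mk R R' M₁ 1)

lemma beta_apply (y : M₁) : beta α y = α.symm ((1 : R') ⊗ₜ[R] y) := rfl

lemma beta_pow_smul (n : ℕ) (y : M₁) :
    beta α (f ^ n • y) = (algebraMap R R' f) ^ n • beta α y := by
  rw [map_smul, ← map_pow, algebraMap_smul]

lemma smul_beta (r' : R') (y : M₁) : r' • beta α y = α.symm (r' ⊗ₜ[R] y) := by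
  rw [beta_apply, ← map_smul, smul_tmul', smul_eq_mul, mul_one]

noncomputable def Dmap : M' × M₁ →ₗ[R] L :=
  (ℓ.restrictScalars R).comp (LinearMap.fst R M' M₁) - (beta α).comp (LinearMap.snd R M' M₁)

lemma Dmap_apply (p : M' × M₁) : Dmap ℓ α p = ℓ p.1 - beta α p.2 := rfl

/-- the glued module. -/
noncomputable abbrev Glue : Submodule R (M' × M₁) := LinearMap.ker (Dmap ℓ α)

lemma mem_glue (p : M' × M₁) : p ∈ Glue ℓ α ↔ ℓ p.1 = beta α p.2 := by
  rw [LinearMap.mem_ker, Dmap_apply, sub_eq_zero]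

noncomputable def pi1 : Glue ℓ α →ₗ[R] M' := (LinearMap.fst R M' M₁).comp (Glue ℓ α).subtype

noncomputable def pi2 : Glue ℓ α →ₗ[R] M₁ := (LinearMap.snd R M' M₁).comp (Glue ℓ α).subtype

lemma pi1_apply (m : Glue ℓ α) : pi1 ℓ α m = m.1.1 := rfl

lemma pi2_apply (m : Glue ℓ α) : pi2 ℓ α m = m.1.2 := rfl

lemma glue_spec (m : Glue ℓ α) : ℓ (pi1 ℓ α m) = beta α (pi2 ℓ α m) :=
  (mem_glue ℓ α m.1).mp m.2

lemma glue_ext {m₁ m₂ : Glue ℓ α} (h1 : pi1 ℓ α m₁ = pi1 ℓ α m₂)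
    (h2 : pi2 ℓ α m₁ = pi2 ℓ α m₂) : m₁ = m₂ :=
  Subtype.ext (Prod.ext h1 h2)

variable [hℓ : IsLocalizedModule (Submonoid.powers (algebraMap R R' f)) ℓ]
variable (hf : ∀ n : ℕ, Function.Bijective fun y : M₁ => f ^ n • y)

include hℓ hf in
lemma pi2_isLocalizedModule : IsLocalizedModule (Submonoid.powers f) (pi2 ℓ α) where
  map_units := by
    rintro ⟨_, n, rfl⟩
    rw [Module.End.isUnit_iff]
    have e : ⇑(algebraMap R (Module.End R M₁) (f ^ n)) = fun y : M₁ => f ^ n • y := by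
      funext y; rw [Module.algebraMap_end_apply]
    rw [e]; exact hf n
  surj y := by
    obtain ⟨⟨x₀, ⟨_, n, rfl⟩⟩, h⟩ :=
      IsLocalizedModule.surj (Submonoid.powers (algebraMap R R' f)) ℓ (beta α y)
    replace h : algebraMap R R' f ^ n • beta α y = ℓ x₀ := h
    have hmem : (x₀, f ^ n • y) ∈ Glue ℓ α := by
      rw [mem_glue, beta_pow_smul, h]
    exact ⟨(⟨(x₀, f ^ n • y), hmem⟩, ⟨f ^ n, n, rfl⟩), rfl⟩
  exists_of_eq := by
    intro m₁ m₂ h
    have h1 : ℓ (pi1 ℓ α m₁) = ℓ (pi1 ℓ α m₂) := by rw [glue_spec, glue_spec, h]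
    obtain ⟨⟨_, n, rfl⟩, hn⟩ := IsLocalizedModule.exists_of_eq
      (S := Submonoid.powers (algebraMap R R' f)) (f := ℓ) h1
    replace hn : algebraMap R R' f ^ n • pi1 ℓ α m₁ = algebraMap R R' f ^ n • pi1 ℓ α m₂ := hn
    refine ⟨⟨f ^ n, n, rfl⟩, ?_⟩
    show f ^ n • m₁ = f ^ n • m₂
    apply glue_ext
    · rw [map_smul, map_smul, ← algebraMap_smul R' (f ^ n) (pi1 ℓ α m₁),
        ← algebraMap_smul R' (f ^ n) (pi1 ℓ α m₂), map_pow, hn]
    · rw [map_smul, map_smul, h]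

noncomputable def e0 : R' ⊗[R] (Glue ℓ α) →ₗ[R'] M' := (pi1 ℓ α).liftBaseChange R'

lemma e0_tmul (r' : R') (m : Glue ℓ α) : e0 ℓ α (r' ⊗ₜ[R] m) = r' • pi1 ℓ α m := rfl

include hℓ in
lemma e0_surjective (hq : EtGlue.QuotPowBijective R R' f) : Function.Surjective (e0 ℓ α) := by
  have step1 : ∀ (y : M₁) (r' : R'), ∃ x₁ ∈ LinearMap.range (e0 ℓ α), ∃ y₁ : M₁,
      r' • beta α y = ℓ x₁ + beta α y₁ := by
    intro y r'
    obtain ⟨⟨x₀, ⟨_, k, rfl⟩⟩, h⟩ :=
      IsLocalizedModule.surj (Submonoid.powers (algebraMap R R' f)) ℓ (beta α y)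
    replace h : algebraMap R R' f ^ k • beta α y = ℓ x₀ := h
    have hmem : (x₀, f ^ k • y) ∈ Glue ℓ α := by rw [mem_glue, beta_pow_smul, h]
    obtain ⟨a, s', rfl⟩ := q1 hq k r'
    refine ⟨s' • x₀, ⟨s' ⊗ₜ[R] (⟨(x₀, f ^ k • y), hmem⟩ : Glue ℓ α), rfl⟩, a • y, ?_⟩
    have e1 : (algebraMap R R' a + algebraMap R R' (f ^ k) * s') • beta α y
        = a • beta α y + s' • (algebraMap R R' f ^ k • beta α y) := by
      rw [add_smul, algebraMap_smul, map_pow, mul_comm, mul_smul]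
    rw [e1, h, map_smul, map_smul, add_comm]
  have step2 : ∀ z : R' ⊗[R] M₁, ∃ x₁ ∈ LinearMap.range (e0 ℓ α), ∃ y₁ : M₁,
      α.symm z = ℓ x₁ + beta α y₁ := by
    intro z
    induction z using TensorProduct.induction_on with
    | zero => exact ⟨0, Submodule.zero_mem _, 0, by simp⟩
    | tmul r' y => rw [← smul_beta]; exact step1 y r'
    | add z₁ z₂ h₁ h₂ =>
      obtain ⟨x₁, hx₁, y₁, e₁⟩ := h₁
      obtain ⟨x₂, hx₂, y₂, e₂⟩ := h₂
      exact ⟨x₁ + x₂, Submodule.add_mem _ hx₁ hx₂, y₁ + y₂, by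
        rw [map_add, e₁, e₂, map_add, map_add]; abel⟩
  intro x
  obtain ⟨x₁, hx₁, y₁, e⟩ := step2 (α (ℓ x))
  rw [α.symm_apply_apply] at e
  have hmem : (x - x₁, y₁) ∈ Glue ℓ α := by
    rw [mem_glue, map_sub, e, add_sub_cancel_left]
  have h2 : x - x₁ ∈ LinearMap.range (e0 ℓ α) :=
    ⟨(1 : R') ⊗ₜ[R] (⟨(x - x₁, y₁), hmem⟩ : Glue ℓ α), by rw [e0_tmul, one_smul, pi1_apply]⟩
  have h3 := Submodule.add_mem _ h2 hx₁
  rw [sub_add_cancel] at h3
  exact h3

lemma alpha_e0 (z : R' ⊗[R] (Glue ℓ α)) :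
    α (ℓ (e0 ℓ α z)) = LinearMap.lTensor R' (pi2 ℓ α) z := by
  induction z using TensorProduct.induction_on with
  | zero => simp
  | tmul r' m =>
    rw [e0_tmul, map_smul, map_smul, glue_spec, beta_apply, α.apply_symm_apply,
      LinearMap.lTensor_tmul, smul_tmul', smul_eq_mul, mul_one]
  | add z₁ z₂ h₁ h₂ => rw [map_add, map_add, map_add, h₁, h₂, map_add]

include hℓ hf in
lemma e0_injective (hRR : EtGlue.IsGlueingPair R R' f) : Function.Injective (e0 ℓ α) := by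
  have := pi2_isLocalizedModule ℓ α hf
  rw [injective_iff_map_eq_zero]
  intro z hz
  have h1 : LinearMap.lTensor R' (pi2 ℓ α) z = 0 := by
    rw [← alpha_e0, hz, map_zero, map_zero]
  obtain ⟨n, hn⟩ := torsion_of_lTensor_eq_zero (f := f) (pi2 ℓ α) z h1
  obtain ⟨m, hm, rfl⟩ := torsion_lift hRR.1 (tb_of_glueingPair hRR) _ n z hn
  have hm1 : pi1 ℓ α m = 0 := by
    have := hz
    rwa [e0_tmul, one_smul] at this
  have hm2 : pi2 ℓ α m = 0 := by
    apply (hf n).1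
    show f ^ n • pi2 ℓ α m = f ^ n • 0
    rw [← map_smul, hm, map_zero, smul_zero]
  have : m = 0 := glue_ext ℓ α (by rw [hm1, map_zero]) (by rw [hm2, map_zero])
  rw [this, tmul_zero]

include hℓ hf in
lemma glue_glueable (hRR : EtGlue.IsGlueingPair R R' f) :
    EtGlue.IsGlueable R R' f (Glue ℓ α) := by
  rw [glueable_iff_of_pair _ hRR]
  rintro m ⟨n, hn⟩ hm
  have hm1 : pi1 ℓ α m = 0 := by
    have := congrArg (e0 ℓ α) hm
    rwa [e0_tmul, one_smul, map_zero] at this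
  have hm2 : pi2 ℓ α m = 0 := by
    apply (hf n).1
    show f ^ n • pi2 ℓ α m = f ^ n • 0
    rw [← map_smul, hn, map_zero, smul_zero]
  exact glue_ext ℓ α (by rw [hm1, map_zero]) (by rw [hm2, map_zero])

include hℓ hf in
theorem main (hRR : EtGlue.IsGlueingPair R R' f) :
    ∃ (e' : R' ⊗[R] (Glue ℓ α) ≃ₗ[R'] M')
      (e₁ : LocalizedModule (Submonoid.powers f) (Glue ℓ α) ≃ₗ[R] M₁),
      EtGlue.IsGlueable R R' f (Glue ℓ α) ∧
      ∀ m : Glue ℓ α, α (ℓ (e' ((1 : R') ⊗ₜ[R] m))) =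
        (1 : R') ⊗ₜ[R] e₁ (LocalizedModule.mkLinearMap (Submonoid.powers f) (Glue ℓ α) m) := by
  have := pi2_isLocalizedModule ℓ α hf
  refine ⟨LinearEquiv.ofBijective (e0 ℓ α) ⟨e0_injective ℓ α hf hRR, e0_surjective ℓ α hRR.1⟩,
    IsLocalizedModule.iso (Submonoid.powers f) (pi2 ℓ α), glue_glueable ℓ α hf hRR, ?_⟩
  intro m
  rw [LinearEquiv.ofBijective_apply, e0_tmul, one_smul, glue_spec, beta_apply,
    α.apply_symm_apply, LocalizedModule.mkLinearMap_apply, IsLocalizedModule.iso_mk_one]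

end Main

end Groth.Agent.Lib.EtGlueH4
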