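import Mathlib
import Groth.Prelude.Def_EtGlue
import Groth.Agent.Lib.EtGlue3_helper4

/-!
# Beauville–Laszlo glueing of algebras (helper4)

Given a glueing pair `(R → R', f)`, an `R`-algebra `A₁` with `f` invertible, an `R'`-algebra `A'`
and `φ : A'_f ≃ₐ[R'] R' ⊗ A₁`, the glued algebra `GA φ ⊆ A' × A₁`.
-/

set_option autoImplicit false
set_option linter.unusedSectionVars false
set_option synthInstance.maxHeartbeats 400000
set_option maxHeartbeats 1000000

namespace Groth.Agent.Lib.EtGlueH4

open TensorProduct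

universe u

section GlueAlg

variable {R R' : Type u} [CommRing R] [CommRing R'] [Algebra R R'] {f : R}
variable {A₁ : Type u} [CommRing A₁] [Algebra R A₁]
variable {A' : Type u} [CommRing A'] [Algebra R A'] [Algebra R' A'] [IsScalarTower R R' A']
variable (φ : Localization.Away (algebraMap R A' f) ≃ₐ[R'] R' ⊗[R] A₁)

/-- `A₁ → A'_f`, `y ↦ φ⁻¹(1 ⊗ y)` as `R`-algebra map. -/
noncomputable def betaAlg : A₁ →ₐ[R] Localization.Away (algebraMap R A' f) :=
  (φ.symm.toAlgHom.restrictScalars R).comp (Algebra.TensorProduct.includeRight)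

lemma betaAlg_apply (y : A₁) : betaAlg φ y = φ.symm ((1 : R') ⊗ₜ[R] y) := rfl

/-- the glued algebra. -/
noncomputable def GA : Subalgebra R (A' × A₁) :=
  AlgHom.equalizer
    ((IsScalarTower.toAlgHom R A' (Localization.Away (algebraMap R A' f))).comp
      (AlgHom.fst R A' A₁))
    ((betaAlg φ).comp (AlgHom.snd R A' A₁))

lemma mem_GA (p : A' × A₁) : p ∈ GA φ ↔
    algebraMap A' (Localization.Away (algebraMap R A' f)) p.1 = φ.symm ((1 : R') ⊗ₜ[R] p.2) :=
  Iff.rfl

/-- the localization map `A' → A'_f` as an `R'`-linear map. -/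
noncomputable abbrev ellLin : A' →ₗ[R'] Localization.Away (algebraMap R A' f) :=
  (IsScalarTower.toAlgHom R' A' (Localization.Away (algebraMap R A' f))).toLinearMap

instance ellLin_isLocalizedModule :
    IsLocalizedModule (Submonoid.powers (algebraMap R R' f))
      (ellLin (R := R) (R' := R') (f := f) (A' := A')) := by
  have hS : Algebra.algebraMapSubmonoid A' (Submonoid.powers (algebraMap R R' f)) =
      Submonoid.powers (algebraMap R A' f) := by
    rw [Algebra.algebraMapSubmonoid, Submonoid.map_powers, ← IsScalarTower.algebraMap_apply]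
  haveI : IsLocalization (Algebra.algebraMapSubmonoid A' (Submonoid.powers (algebraMap R R' f)))
      (Localization.Away (algebraMap R A' f)) := by rw [hS]; infer_instance
  exact isLocalizedModule_iff_isLocalization.mpr this

lemma mem_GA_iff_mem_glue (p : A' × A₁) :
    p ∈ GA φ ↔ p ∈ Glue (ellLin (R := R) (R' := R') (f := f) (A' := A')) φ.toLinearEquiv := by
  rw [mem_GA, mem_glue, beta_apply]
  rfl

lemma bij_of_isUnit (h₁ : IsUnit (algebraMap R A₁ f)) (n : ℕ) :
    Function.Bijective fun y : A₁ => f ^ n • y := by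
  have hu : IsUnit (algebraMap R A₁ (f ^ n)) := by rw [map_pow]; exact h₁.pow n
  have : (fun y : A₁ => f ^ n • y) = fun y => algebraMap R A₁ (f ^ n) * y := by
    funext y; rw [Algebra.smul_def]
  rw [this]
  exact IsUnit.isUnit_iff_mulLeft_bijective.mp hu

/-- first projection -/
noncomputable def p1 : GA φ →ₐ[R] A' := (AlgHom.fst R A' A₁).comp (GA φ).val

/-- second projection -/
noncomputable def p2 : GA φ →ₐ[R] A₁ := (AlgHom.snd R A' A₁).comp (GA φ).val

lemma p1_apply (a : GA φ) : p1 φ a = a.1.1 := rfl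

lemma p2_apply (a : GA φ) : p2 φ a = a.1.2 := rfl

/-- the identification with the glued module. -/
noncomputable def toGlue :
    GA φ ≃ₗ[R] Glue (ellLin (R := R) (R' := R') (f := f) (A' := A')) φ.toLinearEquiv where
  toFun a := ⟨a.1, (mem_GA_iff_mem_glue φ a.1).mp a.2⟩
  invFun m := ⟨m.1, (mem_GA_iff_mem_glue φ m.1).mpr m.2⟩
  map_add' _ _ := rfl
  map_smul' _ _ := rfl
  left_inv _ := rfl
  right_inv _ := rfl

lemma toGlue_val (a : GA φ) : (toGlue φ a).1 = a.1 := rfl

lemma GA_glueable (hRR : EtGlue.IsGlueingPair R R' f) (h₁ : IsUnit (algebraMap R A₁ f)) :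
    EtGlue.IsGlueable R R' f (GA φ) := by
  rw [glueable_iff_of_pair _ hRR]
  rintro m ⟨n, hn⟩ hm
  have hm1 : p1 φ m = 0 := by
    have := congrArg ((p1 φ).toLinearMap.liftBaseChange R') hm
    rw [LinearMap.liftBaseChange_tmul, one_smul, map_zero] at this
    exact this
  have hm2 : p2 φ m = 0 := by
    apply (bij_of_isUnit h₁ n).1
    show f ^ n • p2 φ m = f ^ n • 0
    rw [← map_smul, hn, map_zero, smul_zero]
  exact Subtype.ext (Prod.ext hm1 hm2)

/-- the comparison map `R' ⊗ GA → A'`. -/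
noncomputable def ePrimeHom : R' ⊗[R] (GA φ) →ₐ[R'] A' :=
  Algebra.TensorProduct.lift (Algebra.ofId R' A') (p1 φ) (fun _ _ => Commute.all _ _)

lemma ePrimeHom_tmul (r : R') (a : GA φ) : ePrimeHom φ (r ⊗ₜ[R] a) = r • (a.1.1) := by
  rw [ePrimeHom, Algebra.TensorProduct.lift_tmul, Algebra.ofId_apply, Algebra.smul_def]
  rfl

lemma ePrimeHom_eq (z : R' ⊗[R] (GA φ)) :
    ePrimeHom φ z = e0 (ellLin (R := R) (R' := R') (f := f) (A' := A')) φ.toLinearEquiv
      (LinearEquiv.lTensor R' (toGlue φ) z) := by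
  induction z using TensorProduct.induction_on with
  | zero => rw [map_zero, map_zero, map_zero]
  | tmul r a =>
    rw [ePrimeHom_tmul, LinearEquiv.lTensor_tmul, e0_tmul]
    rfl
  | add x y hx hy => rw [map_add, map_add, map_add, hx, hy]

lemma ePrimeHom_bijective (hRR : EtGlue.IsGlueingPair R R' f)
    (h₁ : IsUnit (algebraMap R A₁ f)) : Function.Bijective (ePrimeHom φ) := by
  have hf := bij_of_isUnit (f := f) h₁
  have h0 : Function.Bijective
      (e0 (ellLin (R := R) (R' := R') (f := f) (A' := A')) φ.toLinearEquiv) :=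
    ⟨e0_injective _ _ hf hRR, e0_surjective _ _ hRR.1⟩
  have hl : Function.Bijective (LinearEquiv.lTensor R' (toGlue φ)) :=
    (LinearEquiv.lTensor R' (toGlue φ)).bijective
  have : ⇑(ePrimeHom φ) =
      (e0 (ellLin (R := R) (R' := R') (f := f) (A' := A')) φ.toLinearEquiv) ∘
        (LinearEquiv.lTensor R' (toGlue φ)) := funext (ePrimeHom_eq φ)
  rw [this]
  exact h0.comp hl

noncomputable instance algGA : Algebra (GA φ) A₁ := (p2 φ).toRingHom.toAlgebra

lemma algebraMap_GA (a : GA φ) : algebraMap (GA φ) A₁ a = a.1.2 := rfl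

instance isScalarTower_GA : IsScalarTower R (GA φ) A₁ :=
  IsScalarTower.of_algebraMap_eq (fun r => ((p2 φ).commutes r).symm)

lemma GA_isLocalization (h₁ : IsUnit (algebraMap R A₁ f)) :
    IsLocalization.Away (algebraMap R (GA φ) f) A₁ := by
  have hf := bij_of_isUnit (f := f) h₁
  have hloc := pi2_isLocalizedModule
    (ellLin (R := R) (R' := R') (f := f) (A' := A')) φ.toLinearEquiv hf
  refine IsLocalization.Away.mk _ ?_ ?_ ?_
  · rw [← IsScalarTower.algebraMap_apply]; exact h₁
  · intro s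
    obtain ⟨⟨x, ⟨_, n, rfl⟩⟩, hx⟩ := IsLocalizedModule.surj (Submonoid.powers f)
      (pi2 (ellLin (R := R) (R' := R') (f := f) (A' := A')) φ.toLinearEquiv) s
    replace hx : f ^ n • s = x.1.2 := hx
    refine ⟨n, (toGlue φ).symm x, ?_⟩
    rw [← IsScalarTower.algebraMap_apply, ← map_pow, mul_comm, ← Algebra.smul_def, hx]
    rfl
  · intro a b hab
    have hab' : pi2 (ellLin (R := R) (R' := R') (f := f) (A' := A')) φ.toLinearEquiv
        (toGlue φ a) = pi2 (ellLin (R := R) (R' := R') (f := f) (A' := A')) φ.toLinearEquiv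
        (toGlue φ b) := hab
    obtain ⟨⟨_, n, rfl⟩, hn⟩ := IsLocalizedModule.exists_of_eq
      (S := Submonoid.powers f)
      (f := pi2 (ellLin (R := R) (R' := R') (f := f) (A' := A')) φ.toLinearEquiv) hab'
    replace hn : f ^ n • toGlue φ a = f ^ n • toGlue φ b := hn
    refine ⟨n, ?_⟩
    rw [← map_smul, ← map_smul] at hn
    have := (toGlue φ).injective hn
    rw [Algebra.smul_def, Algebra.smul_def, map_pow] at this
    exact this

theorem glueAlg_main (hRR : EtGlue.IsGlueingPair R R' f) (h₁ : IsUnit (algebraMap R A₁ f)) :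
    ∃ (e₁ : Localization.Away (algebraMap R (GA φ) f) ≃ₐ[R] A₁)
      (e' : R' ⊗[R] (GA φ) ≃ₐ[R'] A'),
      ∀ a : GA φ, φ (algebraMap A' (Localization.Away (algebraMap R A' f))
          (e' ((1 : R') ⊗ₜ[R] a))) =
        (1 : R') ⊗ₜ[R] e₁ (algebraMap (GA φ) (Localization.Away (algebraMap R (GA φ) f)) a) := by
  have := GA_isLocalization φ h₁
  refine ⟨(IsLocalization.algEquiv (Submonoid.powers (algebraMap R (GA φ) f))
      (Localization.Away (algebraMap R (GA φ) f)) A₁).restrictScalars R,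
    AlgEquiv.ofBijective (ePrimeHom φ) (ePrimeHom_bijective φ hRR h₁), ?_⟩
  intro a
  rw [AlgEquiv.coe_ofBijective, ePrimeHom_tmul, one_smul, (mem_GA φ a.1).mp a.2,
    AlgEquiv.apply_symm_apply, AlgEquiv.restrictScalars_apply, AlgEquiv.commutes]
  rfl

end GlueAlg

end Groth.Agent.Lib.EtGlueH4
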