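import Mathlib
import Groth.Prelude.Def_EtGlue

/-!
# Formal glueing for a flat map and an ideal (helper4)

`R → S` flat, `I` an ideal of `R` with `R/I → S/IS` bijective.
* `tors_bijective`: for an `I`-power torsion module `T`, `T → S ⊗ T` is bijective.
* `eq_zero_of_one_tmul_eq_zero_flat`, `exists_one_tmul_flat`.
* `qbij_of_tors_bij`: converse.
* `mem_range_of_lTensor_eq`, `exists_one_tmul_of_lTensor_eq_zero`: glueing helpers.
-/

set_option autoImplicit false
set_option linter.unusedSectionVars false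

namespace Groth.Agent.Lib.EtGlueH4

open TensorProduct

universe u

section FlatIdeal

variable {R S : Type u} [CommRing R] [CommRing S] [Algebra R S] {I : Ideal R}
variable (hq : Function.Bijective
  (Ideal.quotientMap (I.map (algebraMap R S)) (algebraMap R S) Ideal.le_comap_map))
variable {T : Type u} [AddCommGroup T] [Module R T]

include hq in
lemma exists_sub_mem_map (s : S) : ∃ a : R, s - algebraMap R S a ∈ I.map (algebraMap R S) := by
  obtain ⟨y, hy⟩ := hq.2 (Ideal.Quotient.mk _ s)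
  obtain ⟨a, rfl⟩ := Ideal.Quotient.mk_surjective y
  rw [Ideal.quotientMap_mk, Ideal.Quotient.eq] at hy
  exact ⟨a, by rw [← neg_sub]; exact neg_mem hy⟩

lemma tmul_eq_zero_of_mem_map (hT1 : ∀ a ∈ I, ∀ t : T, a • t = 0) {x : S}
    (hx : x ∈ I.map (algebraMap R S)) (t : T) : x ⊗ₜ[R] t = 0 := by
  rw [Ideal.map] at hx
  induction hx using Submodule.span_induction with
  | mem x hx =>
    obtain ⟨a, ha, rfl⟩ := hx
    rw [Algebra.algebraMap_eq_smul_one, smul_tmul, hT1 a ha, tmul_zero]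
  | zero => rw [zero_tmul]
  | add x y _ _ hx hy => rw [add_tmul, hx, hy, add_zero]
  | smul s x _ hx => rw [← smul_tmul', hx, smul_zero]

include hq in
lemma exists_one_tmul_of_killed (hT1 : ∀ a ∈ I, ∀ t : T, a • t = 0) (w : S ⊗[R] T) :
    ∃ t : T, w = (1 : S) ⊗ₜ[R] t := by
  induction w using TensorProduct.induction_on with
  | zero => exact ⟨0, by simp⟩
  | tmul s t =>
    obtain ⟨a, ha⟩ := exists_sub_mem_map hq s
    refine ⟨a • t, ?_⟩
    have h0 := tmul_eq_zero_of_mem_map hT1 ha t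
    rw [sub_tmul, sub_eq_zero] at h0
    rw [h0, Algebra.algebraMap_eq_smul_one, smul_tmul]
  | add z₁ z₂ h₁ h₂ =>
    obtain ⟨t₁, rfl⟩ := h₁
    obtain ⟨t₂, rfl⟩ := h₂
    exact ⟨t₁ + t₂, by rw [tmul_add]⟩

/-- `S → S/IS ≅ R/I`. -/
noncomputable def sigmaI : S →ₗ[R] R ⧸ I where
  toFun x := (RingEquiv.ofBijective _ hq).symm (Ideal.Quotient.mk _ x)
  map_add' x y := by simp only [map_add]
  map_smul' r x := by
    simp only [RingHom.id_apply, Algebra.smul_def, map_mul]
    congr 1
    rw [RingEquiv.symm_apply_eq]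
    simp

lemma sigmaI_one : sigmaI hq (1 : S) = 1 := by
  simp [sigmaI]

include hq in
lemma eq_zero_of_killed (hT1 : ∀ a ∈ I, ∀ t : T, a • t = 0) {t : T}
    (h : (1 : S) ⊗ₜ[R] t = 0) : t = 0 := by
  have h1 := congrArg (LinearMap.rTensor T (sigmaI hq)) h
  rw [LinearMap.rTensor_tmul, map_zero, sigmaI_one] at h1
  have h2 := congrArg (TensorProduct.quotTensorEquivQuotSMul T I) h1
  rw [TensorProduct.quotTensorEquivQuotSMul_mk_one_tmul, map_zero,
    Submodule.Quotient.mk_eq_zero] at h2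
  have h3 : I • (⊤ : Submodule R T) ≤ ⊥ := by
    rw [Submodule.smul_le]
    intro r hr m _
    rw [Submodule.mem_bot, hT1 r hr]
  exact (Submodule.mem_bot R).mp (h3 h2)

/-- elements killed by `I`. -/
def killedBy (I : Ideal R) (T : Type u) [AddCommGroup T] [Module R T] : Submodule R T where
  carrier := {t | ∀ a ∈ I, a • t = 0}
  add_mem' := fun {x y} hx hy a ha => by rw [smul_add, hx a ha, hy a ha, add_zero]
  zero_mem' := fun a _ => smul_zero a
  smul_mem' := fun r t ht a ha => by rw [smul_comm, ht a ha, smul_zero]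

lemma mem_killedBy {t : T} : t ∈ killedBy I T ↔ ∀ a ∈ I, a • t = 0 := Iff.rfl

lemma killedBy_killed : ∀ a ∈ I, ∀ t : killedBy I T, a • t = 0 :=
  fun a ha t => Subtype.ext (t.2 a ha)

lemma quot_killed {n : ℕ} (hT : ∀ a ∈ I ^ (n + 1), ∀ t : T, a • t = 0) :
    ∀ b ∈ I ^ n, ∀ q : T ⧸ killedBy I T, b • q = 0 := by
  intro b hb q
  obtain ⟨t, rfl⟩ := Submodule.Quotient.mk_surjective _ q
  rw [← Submodule.Quotient.mk_smul, Submodule.Quotient.mk_eq_zero, mem_killedBy]
  intro a ha
  rw [← mul_smul]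
  exact hT _ (by rw [pow_succ']; exact Ideal.mul_mem_mul ha hb) t

include hq in
theorem bounded_bij [Module.Flat R S] :
    ∀ (n : ℕ) (T : Type u) [AddCommGroup T] [Module R T],
    (∀ a ∈ I ^ n, ∀ t : T, a • t = 0) →
    (∀ t : T, (1 : S) ⊗ₜ[R] t = 0 → t = 0) ∧
      (∀ w : S ⊗[R] T, ∃ t : T, w = (1 : S) ⊗ₜ[R] t) := by
  intro n
  induction n with
  | zero =>
    intro T _ _ hT
    have h0 : ∀ t : T, t = 0 := fun t => by
      have := hT 1 (by rw [pow_zero, Ideal.one_eq_top]; trivial) t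
      rwa [one_smul] at this
    refine ⟨fun t _ => h0 t, fun w => ⟨0, ?_⟩⟩
    induction w using TensorProduct.induction_on with
    | zero => simp
    | tmul s t => rw [h0 t, tmul_zero, tmul_zero]
    | add x y hx hy => rw [hx, hy, tmul_zero, add_zero]
  | succ n ih =>
    intro T _ _ hT
    obtain ⟨ihinj, ihsurj⟩ := ih (T ⧸ killedBy I T) (quot_killed hT)
    have hflat : Function.Injective ((killedBy I T).subtype.lTensor S) :=
      Module.Flat.lTensor_preserves_injective_linearMap _ (Submodule.injective_subtype _)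
    constructor
    · intro t ht
      have h1 : (1 : S) ⊗ₜ[R] ((killedBy I T).mkQ t) = 0 := by
        have := congrArg ((killedBy I T).mkQ.lTensor S) ht
        rwa [LinearMap.lTensor_tmul, map_zero] at this
      have h2 : t ∈ killedBy I T := by
        have := ihinj _ h1
        rwa [Submodule.mkQ_apply, Submodule.Quotient.mk_eq_zero] at this
      have h3 : (1 : S) ⊗ₜ[R] (⟨t, h2⟩ : killedBy I T) = 0 := by
        apply hflat
        rw [LinearMap.lTensor_tmul, map_zero]; exact ht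
      have := eq_zero_of_killed hq killedBy_killed h3
      exact congrArg Subtype.val this
    · intro w
      obtain ⟨q, hq'⟩ := ihsurj ((killedBy I T).mkQ.lTensor S w)
      obtain ⟨t, rfl⟩ := Submodule.Quotient.mk_surjective _ q
      have hex : Function.Exact ((killedBy I T).subtype.lTensor S)
          ((killedBy I T).mkQ.lTensor S) :=
        lTensor_exact S (M := killedBy I T) (LinearMap.exact_subtype_mkQ _)
          (Submodule.mkQ_surjective _)
      have hk : (killedBy I T).mkQ.lTensor S (w - (1 : S) ⊗ₜ[R] t) = 0 := by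
        rw [map_sub, hq', LinearMap.lTensor_tmul, Submodule.mkQ_apply, sub_self]
      obtain ⟨w₁, hw₁⟩ := (hex _).mp hk
      obtain ⟨t₁, rfl⟩ := exists_one_tmul_of_killed hq killedBy_killed w₁
      rw [LinearMap.lTensor_tmul] at hw₁
      have hw₂ : (1 : S) ⊗ₜ[R] (t₁ : T) = w - (1 : S) ⊗ₜ[R] t := hw₁
      refine ⟨t + t₁.1, ?_⟩
      rw [tmul_add, hw₂]; abel

lemma span_singleton_killed {M : Type u} [AddCommGroup M] [Module R M] {m : M} {J : Ideal R}
    (hm : ∀ a ∈ J, a • m = 0) : ∀ a ∈ J, ∀ x : Submodule.span R {m}, a • x = 0 := by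
  intro a ha x
  obtain ⟨r, hr⟩ := Submodule.mem_span_singleton.mp x.2
  apply Subtype.ext
  rw [Submodule.coe_smul, ← hr, smul_comm, hm a ha, smul_zero]; rfl

include hq in
theorem eq_zero_of_one_tmul_eq_zero_flat [Module.Flat R S] {M : Type u} [AddCommGroup M]
    [Module R M] {m : M} (hm : ∃ n : ℕ, ∀ a ∈ I ^ n, a • m = 0)
    (h : (1 : S) ⊗ₜ[R] m = 0) : m = 0 := by
  obtain ⟨n, hn⟩ := hm
  have hflat : Function.Injective ((Submodule.span R {m}).subtype.lTensor S) :=
    Module.Flat.lTensor_preserves_injective_linearMap _ (Submodule.injective_subtype _)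
  have h3 : (1 : S) ⊗ₜ[R]
      (⟨m, Submodule.mem_span_singleton_self m⟩ : Submodule.span R {m}) = 0 := by
    apply hflat
    rw [LinearMap.lTensor_tmul, map_zero]; exact h
  have := (bounded_bij hq n (Submodule.span R {m}) (span_singleton_killed hn)).1 _ h3
  exact congrArg Subtype.val this

include hq in
theorem exists_one_tmul_flat [Module.Flat R S] {M : Type u} [AddCommGroup M] [Module R M]
    (hM : ∀ m : M, ∃ n : ℕ, ∀ a ∈ I ^ n, a • m = 0) (w : S ⊗[R] M) :
    ∃ m : M, w = (1 : S) ⊗ₜ[R] m := by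
  induction w using TensorProduct.induction_on with
  | zero => exact ⟨0, by simp⟩
  | tmul s m =>
    obtain ⟨n, hn⟩ := hM m
    obtain ⟨t, ht⟩ := (bounded_bij hq n (Submodule.span R {m}) (span_singleton_killed hn)).2
      (s ⊗ₜ[R] (⟨m, Submodule.mem_span_singleton_self m⟩ : Submodule.span R {m}))
    refine ⟨t.1, ?_⟩
    have := congrArg ((Submodule.span R {m}).subtype.lTensor S) ht
    rwa [LinearMap.lTensor_tmul, LinearMap.lTensor_tmul] at this
  | add z₁ z₂ h₁ h₂ =>
    obtain ⟨t₁, rfl⟩ := h₁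
    obtain ⟨t₂, rfl⟩ := h₂
    exact ⟨t₁ + t₂, by rw [tmul_add]⟩

include hq in
theorem tors_bijective [Module.Flat R S] {M : Type u} [AddCommGroup M] [Module R M]
    (hM : ∀ m : M, ∃ n : ℕ, ∀ a ∈ I ^ n, a • m = 0) :
    Function.Bijective (TensorProduct.mk R S M 1) := by
  constructor
  · rw [injective_iff_map_eq_zero]
    intro t ht
    exact eq_zero_of_one_tmul_eq_zero_flat hq (hM t) ht
  · intro w
    obtain ⟨t, rfl⟩ := exists_one_tmul_flat hq hM w
    exact ⟨t, rfl⟩

theorem qbij_of_tors_bij (h : Function.Bijective (TensorProduct.mk R S (R ⧸ I) 1)) :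
    Function.Bijective
      (Ideal.quotientMap (I.map (algebraMap R S)) (algebraMap R S) Ideal.le_comap_map) := by
  have hk : ∀ a ∈ I, ∀ t : R ⧸ I, a • t = 0 := by
    intro a ha t
    obtain ⟨r, rfl⟩ := Ideal.Quotient.mk_surjective t
    rw [Algebra.smul_def, Ideal.Quotient.algebraMap_eq, ← map_mul,
      Ideal.Quotient.eq_zero_iff_mem]
    exact I.mul_mem_right _ ha
  have e : ∀ r : R, r • (Ideal.Quotient.mk I 1) = Ideal.Quotient.mk I r := fun r => by
    rw [Algebra.smul_def, Ideal.Quotient.algebraMap_eq, map_one, mul_one]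
  constructor
  · rw [injective_iff_map_eq_zero]
    intro q hq0
    obtain ⟨r, rfl⟩ := Ideal.Quotient.mk_surjective q
    rw [Ideal.quotientMap_mk, Ideal.Quotient.eq_zero_iff_mem] at hq0
    have h1 : (1 : S) ⊗ₜ[R] (Ideal.Quotient.mk I r) = 0 := by
      have := tmul_eq_zero_of_mem_map hk hq0 (Ideal.Quotient.mk I 1)
      rwa [Algebra.algebraMap_eq_smul_one, smul_tmul, e] at this
    exact h.1 (by rw [TensorProduct.mk_apply, h1, map_zero])
  · intro q
    obtain ⟨s, rfl⟩ := Ideal.Quotient.mk_surjective q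
    obtain ⟨t, ht⟩ := h.2 (s ⊗ₜ[R] (Ideal.Quotient.mk I 1))
    obtain ⟨r, rfl⟩ := Ideal.Quotient.mk_surjective t
    rw [TensorProduct.mk_apply] at ht
    refine ⟨Ideal.Quotient.mk I r, ?_⟩
    rw [Ideal.quotientMap_mk, Ideal.Quotient.eq]
    have h0 : (algebraMap R S r - s) ⊗ₜ[R] (Ideal.Quotient.mk I 1) = 0 := by
      rw [sub_tmul, Algebra.algebraMap_eq_smul_one, smul_tmul, e, ht, sub_self]
    have h2 := congrArg (TensorProduct.tensorQuotEquivQuotSMul S I) h0
    rw [TensorProduct.tensorQuotEquivQuotSMul_tmul_mk, one_smul, map_zero,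
      Submodule.Quotient.mk_eq_zero, Ideal.smul_top_eq_map] at h2
    exact h2

include hq in
/-- glueing helper: an element `y` of `P` which is `I`-power torsion modulo `range δ` and whose
tensor `1 ⊗ y` comes from `S ⊗ M` lies in `range δ`. -/
lemma mem_range_of_lTensor_eq [Module.Flat R S] {M : Type u} [AddCommGroup M] [Module R M]
    {P : Type u} [AddCommGroup P] [Module R P] (δ : M →ₗ[R] P) (y : P) (x : S ⊗[R] M)
    (ha : ∃ n : ℕ, ∀ a ∈ I ^ n, a • y ∈ LinearMap.range δ)
    (hb : δ.lTensor S x = (1 : S) ⊗ₜ[R] y) : y ∈ LinearMap.range δ := by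
  have h0 : (1 : S) ⊗ₜ[R] ((LinearMap.range δ).mkQ y) = 0 := by
    have := congrArg ((LinearMap.range δ).mkQ.lTensor S) hb
    rw [LinearMap.lTensor_tmul, ← LinearMap.comp_apply, ← LinearMap.lTensor_comp,
      LinearMap.range_mkQ_comp, LinearMap.lTensor_zero, LinearMap.zero_apply] at this
    exact this.symm
  have ht : ∃ n : ℕ, ∀ a ∈ I ^ n, a • ((LinearMap.range δ).mkQ y) = 0 := by
    obtain ⟨n, hn⟩ := ha
    exact ⟨n, fun a haI => by
      rw [← map_smul, Submodule.mkQ_apply, Submodule.Quotient.mk_eq_zero]; exact hn a haI⟩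
  have := eq_zero_of_one_tmul_eq_zero_flat hq ht h0
  rwa [Submodule.mkQ_apply, Submodule.Quotient.mk_eq_zero] at this

include hq in
/-- glueing helper: an element of `S ⊗ M` killed by `S ⊗ g` with `ker g` torsion comes from
`ker g`. -/
lemma exists_one_tmul_of_lTensor_eq_zero [Module.Flat R S] {M : Type u} [AddCommGroup M]
    [Module R M] {P : Type u} [AddCommGroup P] [Module R P] (g : M →ₗ[R] P)
    (hker : ∀ k : M, g k = 0 → ∃ n : ℕ, ∀ a ∈ I ^ n, a • k = 0)
    (z : S ⊗[R] M) (hz : g.lTensor S z = 0) : ∃ k : M, g k = 0 ∧ z = (1 : S) ⊗ₜ[R] k := by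
  have hex : Function.Exact ((LinearMap.ker g).subtype.lTensor S) (g.lTensor S) :=
    Module.Flat.lTensor_exact S (N := LinearMap.ker g) (LinearMap.exact_subtype_ker_map g)
  obtain ⟨w, hw⟩ := (hex z).mp hz
  have htor : ∀ k : LinearMap.ker g, ∃ n : ℕ, ∀ a ∈ I ^ n, a • k = 0 := by
    intro k
    obtain ⟨n, hn⟩ := hker k.1 k.2
    exact ⟨n, fun a ha => Subtype.ext (hn a ha)⟩
  obtain ⟨k, rfl⟩ := exists_one_tmul_flat hq htor w
  rw [LinearMap.lTensor_tmul] at hw
  exact ⟨k.1, k.2, hw.symm⟩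

lemma exists_pow_killed {t : ℕ} (f : Fin t → R) {M : Type u} [AddCommGroup M] [Module R M]
    {m : M} (h : ∀ i, ∃ c : ℕ, f i ^ c • m = 0) :
    ∃ n : ℕ, ∀ a ∈ (Ideal.span (Set.range f)) ^ n, a • m = 0 := by
  let J : Ideal R := LinearMap.ker (LinearMap.toSpanSingleton R M m)
  have hJ : ∀ a, a ∈ J ↔ a • m = 0 := fun a => by
    rw [LinearMap.mem_ker, LinearMap.toSpanSingleton_apply]
  have hle : Ideal.span (Set.range f) ≤ J.radical := by
    rw [Ideal.span_le]
    rintro _ ⟨i, rfl⟩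
    obtain ⟨c, hc⟩ := h i
    exact ⟨c, (hJ _).mpr hc⟩
  have hfg : (Ideal.span (Set.range f)).FG := Submodule.fg_span (Set.finite_range f)
  obtain ⟨n, hn⟩ := Ideal.exists_pow_le_of_le_radical_of_fg hle hfg
  exact ⟨n, fun a ha => (hJ a).mp (hn ha)⟩

end FlatIdeal

end Groth.Agent.Lib.EtGlueH4
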