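import Mathlib
import Groth.Prelude.Def_EtGlue
import Groth.Agent.Lib.EtGlue6_helper4

/-!
# The glueing complex for a flat map and a finitely generated ideal (helper4)
-/

set_option autoImplicit false
set_option linter.unusedSectionVars false

namespace Groth.Agent.Lib.EtGlueH4

open TensorProduct

universe u

section Glue7

variable {R S : Type u} [CommRing R] [CommRing S] [Algebra R S] [Module.Flat R S]
  {t : ℕ} (f : Fin t → R)
  (hq : Function.Bijective
    (Ideal.quotientMap (Ideal.map (algebraMap R S) (Ideal.span (Set.range f))) (algebraMap R S)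
      Ideal.le_comap_map))
  {M : Type u} [AddCommGroup M] [Module R M]

include hq in
theorem glue_part1 (m : M) (h1 : (1 : S) ⊗ₜ[R] m = 0)
    (h2 : ∀ i, LocalizedModule.mkLinearMap (Submonoid.powers (f i)) M m = 0) : m = 0 := by
  apply eq_zero_of_one_tmul_eq_zero_flat hq _ h1
  apply exists_pow_killed f
  intro i
  have := h2 i
  rw [IsLocalizedModule.eq_zero_iff (Submonoid.powers (f i))] at this
  obtain ⟨⟨_, c, rfl⟩, hc⟩ := this
  exact ⟨c, hc⟩

lemma smul_pow_injective_tensor (i : Fin t) (k : ℕ) :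
    Function.Injective
      (fun w : S ⊗[R] LocalizedModule (Submonoid.powers (f i)) M => f i ^ k • w) := by
  have hu := IsLocalizedModule.map_units
    (LocalizedModule.mkLinearMap (Submonoid.powers (f i)) M)
    (⟨f i ^ k, k, rfl⟩ : Submonoid.powers (f i))
  have hinj : Function.Injective
      (algebraMap R (Module.End R (LocalizedModule (Submonoid.powers (f i)) M)) (f i ^ k)) :=
    ((Module.End.isUnit_iff _).mp hu).1
  have hflat := Module.Flat.lTensor_preserves_injective_linearMap (M := S) _ hinj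
  have e : ⇑((algebraMap R (Module.End R (LocalizedModule (Submonoid.powers (f i)) M))
      (f i ^ k)).lTensor S) = fun w => f i ^ k • w := by
    funext w
    induction w using TensorProduct.induction_on with
    | zero => simp
    | tmul s x => rw [LinearMap.lTensor_tmul, Module.algebraMap_end_apply, tmul_smul]
    | add x y hx hy => rw [map_add, hx, hy, smul_add]
  rw [← e]; exact hflat

lemma lTensor_eq_of_loc (i : Fin t) (x : S ⊗[R] M) (N : ℕ) (mi : M)
    (h : EtGlue.locOfTensor R S (f i) M x = EtGlue.tensorOfLoc R S (f i) M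
      (LocalizedModule.mk mi
        ⟨f i ^ N, Submonoid.pow_mem _ (Submonoid.mem_powers (f i)) N⟩)) :
    (LocalizedModule.mkLinearMap (Submonoid.powers (f i)) M).lTensor S x =
      (1 : S) ⊗ₜ[R] (LocalizedModule.mk mi
        ⟨f i ^ N, Submonoid.pow_mem _ (Submonoid.mem_powers (f i)) N⟩ :
          LocalizedModule (Submonoid.powers (f i)) M) := by
  set y : LocalizedModule (Submonoid.powers (f i)) M := LocalizedModule.mk mi
    ⟨f i ^ N, Submonoid.pow_mem _ (Submonoid.mem_powers (f i)) N⟩ with hy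
  have hy1 : f i ^ N • y = LocalizedModule.mkLinearMap (Submonoid.powers (f i)) M mi := by
    rw [hy, LocalizedModule.mkLinearMap_apply, LocalizedModule.smul'_mk, LocalizedModule.mk_eq]
    exact ⟨1, by simp [Submonoid.smul_def]⟩
  have e1 : f i ^ N • EtGlue.tensorOfLoc R S (f i) M y =
      LocalizedModule.mkLinearMap (Submonoid.powers (f i)) (S ⊗[R] M) ((1 : S) ⊗ₜ[R] mi) := by
    rw [← map_smul, hy1, EtGlue.tensorOfLoc, IsLocalizedModule.map_apply]; rfl
  have e3 : LocalizedModule.mkLinearMap (Submonoid.powers (f i)) (S ⊗[R] M) (f i ^ N • x) =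
      LocalizedModule.mkLinearMap (Submonoid.powers (f i)) (S ⊗[R] M) ((1 : S) ⊗ₜ[R] mi) := by
    rw [map_smul, ← e1, ← h]
  obtain ⟨⟨_, c, rfl⟩, hc⟩ := (IsLocalizedModule.eq_iff_exists (Submonoid.powers (f i))
    (LocalizedModule.mkLinearMap (Submonoid.powers (f i)) (S ⊗[R] M))).mp e3
  replace hc : f i ^ c • (f i ^ N • x) = f i ^ c • ((1 : S) ⊗ₜ[R] mi) := hc
  apply smul_pow_injective_tensor f i (c + N)
  show f i ^ (c + N) • (LocalizedModule.mkLinearMap (Submonoid.powers (f i)) M).lTensor S x =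
    f i ^ (c + N) • ((1 : S) ⊗ₜ[R] y)
  calc f i ^ (c + N) • (LocalizedModule.mkLinearMap (Submonoid.powers (f i)) M).lTensor S x
      = (LocalizedModule.mkLinearMap (Submonoid.powers (f i)) M).lTensor S
          (f i ^ c • (f i ^ N • x)) := by rw [← map_smul, pow_add, mul_smul]
    _ = (LocalizedModule.mkLinearMap (Submonoid.powers (f i)) M).lTensor S
          (f i ^ c • ((1 : S) ⊗ₜ[R] mi)) := by rw [hc]
    _ = f i ^ c • ((1 : S) ⊗ₜ[R] (f i ^ N • y)) := by
        rw [map_smul, LinearMap.lTensor_tmul, hy1]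
    _ = f i ^ (c + N) • ((1 : S) ⊗ₜ[R] y) := by rw [tmul_smul, ← mul_smul, ← pow_add]

/-- the diagonal map to the product of the localizations. -/
noncomputable def delta :
    M →ₗ[R] ((i : Fin t) → LocalizedModule (Submonoid.powers (f i)) M) :=
  LinearMap.pi (fun i => LocalizedModule.mkLinearMap (Submonoid.powers (f i)) M)

lemma delta_apply (μ : M) (i : Fin t) :
    delta f μ i = LocalizedModule.mkLinearMap (Submonoid.powers (f i)) M μ := rfl

lemma lTensor_delta_eq (x : S ⊗[R] M)
    (y : (i : Fin t) → LocalizedModule (Submonoid.powers (f i)) M)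
    (h : ∀ i, (LocalizedModule.mkLinearMap (Submonoid.powers (f i)) M).lTensor S x =
      (1 : S) ⊗ₜ[R] y i) :
    (delta f).lTensor S x = (1 : S) ⊗ₜ[R] y := by
  classical
  apply (TensorProduct.piRight R R S
    (fun i => LocalizedModule (Submonoid.powers (f i)) M)).injective
  rw [TensorProduct.piRight_apply, TensorProduct.piRight_apply, TensorProduct.piRightHom_tmul]
  funext i
  rw [← h i]
  have key : (LinearMap.proj i) ∘ₗ (TensorProduct.piRightHom R R S
      (fun i => LocalizedModule (Submonoid.powers (f i)) M)) ∘ₗ ((delta f).lTensor S) =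
      (LocalizedModule.mkLinearMap (Submonoid.powers (f i)) M).lTensor S := by
    apply TensorProduct.ext'
    intro s m
    rfl
  exact LinearMap.congr_fun key x

include hq in
theorem glue_part2 (x : S ⊗[R] M) (N : ℕ) (m : Fin t → M)
    (h1 : ∀ i : Fin t, EtGlue.locOfTensor R S (f i) M x =
      EtGlue.tensorOfLoc R S (f i) M (LocalizedModule.mk (m i)
        ⟨f i ^ N, Submonoid.pow_mem _ (Submonoid.mem_powers (f i)) N⟩))
    (h2 : ∀ i j : Fin t, ∃ e : ℕ, (f i * f j) ^ e • (f j ^ N • m i - f i ^ N • m j) = 0) :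
    ∃ μ : M, (1 : S) ⊗ₜ[R] μ = x ∧
      ∀ i : Fin t, LocalizedModule.mkLinearMap (Submonoid.powers (f i)) M μ =
        LocalizedModule.mk (m i)
          ⟨f i ^ N, Submonoid.pow_mem _ (Submonoid.mem_powers (f i)) N⟩ := by
  classical
  set y : (i : Fin t) → LocalizedModule (Submonoid.powers (f i)) M := fun i =>
    LocalizedModule.mk (m i) ⟨f i ^ N, Submonoid.pow_mem _ (Submonoid.mem_powers (f i)) N⟩
    with hy
  -- (A)
  have hA : (delta f).lTensor S x = (1 : S) ⊗ₜ[R] y :=
    lTensor_delta_eq f x y (fun i => lTensor_eq_of_loc f i x N (m i) (h1 i))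
  -- uniform exponent
  choose e he using h2
  let E : ℕ := Finset.univ.sup (fun p : Fin t × Fin t => e p.1 p.2)
  have hE : ∀ i j, (f i * f j) ^ E • (f j ^ N • m i - f i ^ N • m j) = 0 := by
    intro i j
    have hle : e i j ≤ E :=
      Finset.le_sup (f := fun p : Fin t × Fin t => e p.1 p.2) (Finset.mem_univ (i, j))
    rw [← Nat.sub_add_cancel hle, pow_add, mul_smul, he, smul_zero]
  -- (B)
  have hB : ∀ i, f i ^ (N + E) • y ∈ LinearMap.range (delta f) := by
    intro i
    refine ⟨f i ^ E • m i, ?_⟩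
    funext j
    show LocalizedModule.mk (f i ^ E • m i) 1 = f i ^ (N + E) • LocalizedModule.mk (m j)
      ⟨f j ^ N, Submonoid.pow_mem _ (Submonoid.mem_powers (f j)) N⟩
    rw [LocalizedModule.smul'_mk, LocalizedModule.mk_eq]
    refine ⟨⟨f j ^ E, E, rfl⟩, ?_⟩
    have h3 := hE i j
    rw [smul_sub, sub_eq_zero] at h3
    show f j ^ E • f j ^ N • f i ^ E • m i = f j ^ E • (1 : R) • f i ^ (N + E) • m j
    calc f j ^ E • f j ^ N • f i ^ E • m i = (f i * f j) ^ E • f j ^ N • m i := by
          simp only [smul_smul]; congr 1; ring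
      _ = (f i * f j) ^ E • f i ^ N • m j := h3
      _ = f j ^ E • (1 : R) • f i ^ (N + E) • m j := by
          simp only [smul_smul]; congr 1; ring
  have hB' : ∃ n : ℕ, ∀ a ∈ (Ideal.span (Set.range f)) ^ n,
      a • y ∈ LinearMap.range (delta f) := by
    have hk : ∀ i, ∃ c : ℕ, f i ^ c • ((LinearMap.range (delta f)).mkQ y) = 0 := fun i =>
      ⟨N + E, by
        rw [← map_smul, Submodule.mkQ_apply, Submodule.Quotient.mk_eq_zero]; exact hB i⟩
    obtain ⟨n, hn⟩ := exists_pow_killed f hk
    refine ⟨n, fun a ha => ?_⟩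
    have := hn a ha
    rwa [← map_smul, Submodule.mkQ_apply, Submodule.Quotient.mk_eq_zero] at this
  obtain ⟨μ₀, hμ₀⟩ := mem_range_of_lTensor_eq hq (delta f) y x hB' hA
  -- (C)
  have hC : ∀ k : M, delta f k = 0 →
      ∃ n : ℕ, ∀ a ∈ (Ideal.span (Set.range f)) ^ n, a • k = 0 := by
    intro k hk
    apply exists_pow_killed f
    intro i
    have := congrFun hk i
    rw [delta_apply, Pi.zero_apply,
      IsLocalizedModule.eq_zero_iff (Submonoid.powers (f i))] at this
    obtain ⟨⟨_, c, rfl⟩, hc⟩ := this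
    exact ⟨c, hc⟩
  have hz : (delta f).lTensor S (x - (1 : S) ⊗ₜ[R] μ₀) = 0 := by
    rw [map_sub, hA, LinearMap.lTensor_tmul, hμ₀, sub_self]
  obtain ⟨k, hk0, hk⟩ := exists_one_tmul_of_lTensor_eq_zero hq (delta f) hC _ hz
  refine ⟨μ₀ + k, ?_, fun i => ?_⟩
  · rw [tmul_add, ← hk]; abel
  · have h4 := congrFun hμ₀ i
    have h5 := congrFun hk0 i
    rw [delta_apply] at h4 h5
    rw [map_add, h4, h5, Pi.zero_apply, add_zero]

end Glue7

end Groth.Agent.Lib.EtGlueH4
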