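import Mathlib
import Groth.Prelude.Def_EtGlue
import Groth.Agent.Lib.EtGlue6_helper4

/-!
# Formal glueing of maps for a flat map and an ideal (helper4)
-/

set_option autoImplicit false
set_option linter.unusedSectionVars false

namespace Groth.Agent.Lib.EtGlueH4

open TensorProduct

universe u

section GlueMaps

variable {R S : Type u} [CommRing R] [CommRing S] [Algebra R S] [Module.Flat R S] {I : Ideal R}
variable (hq : Function.Bijective
  (Ideal.quotientMap (I.map (algebraMap R S)) (algebraMap R S) Ideal.le_comap_map))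
variable {N : Type u} [AddCommGroup N] [Module R N]
variable {M' : Type u} [AddCommGroup M'] [Module S M'] [Module R M'] [IsScalarTower R S M']
variable (φ : M' →ₗ[S] S ⊗[R] N)

/-- difference map defining the fibre product. -/
noncomputable def fibD : M' × N →ₗ[R] S ⊗[R] N :=
  (φ.restrictScalars R).comp (LinearMap.fst R M' N) -
    (TensorProduct.mk R S N 1).comp (LinearMap.snd R M' N)

/-- the fibre product `M' ×_{S ⊗ N} N`. -/
noncomputable abbrev Mfib : Submodule R (M' × N) := LinearMap.ker (fibD φ)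

lemma mem_Mfib (p : M' × N) : p ∈ Mfib φ ↔ φ p.1 = (1 : S) ⊗ₜ[R] p.2 := by
  rw [LinearMap.mem_ker, fibD, LinearMap.sub_apply, sub_eq_zero]; rfl

/-- first projection. -/
noncomputable def fq1 : Mfib φ →ₗ[R] M' := (LinearMap.fst R M' N).comp (Mfib φ).subtype

/-- second projection. -/
noncomputable def fq2 : Mfib φ →ₗ[R] N := (LinearMap.snd R M' N).comp (Mfib φ).subtype

lemma fib_spec (m : Mfib φ) : φ (fq1 φ m) = (1 : S) ⊗ₜ[R] (fq2 φ m) :=
  (mem_Mfib φ m.1).mp m.2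

/-- the comparison map. -/
noncomputable def fe0 : S ⊗[R] (Mfib φ) →ₗ[S] M' := (fq1 φ).liftBaseChange S

lemma fe0_tmul (s : S) (m : Mfib φ) : fe0 φ (s ⊗ₜ[R] m) = s • fq1 φ m := rfl

lemma phi_fe0 (z : S ⊗[R] (Mfib φ)) : φ (fe0 φ z) = (fq2 φ).baseChange S z := by
  induction z using TensorProduct.induction_on with
  | zero => simp
  | tmul s m =>
    rw [fe0_tmul, map_smul, fib_spec, LinearMap.baseChange_tmul, smul_tmul', smul_eq_mul,
      mul_one]
  | add x y hx hy => rw [map_add, map_add, map_add, hx, hy]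

include hq in
lemma fe0_surjective
    (hcoker : ∀ y : S ⊗[R] N, ∃ n : ℕ, ∀ a ∈ I ^ n,
      algebraMap R S a • y ∈ LinearMap.range φ) :
    Function.Surjective (fe0 φ) := by
  have hsub : ∀ w : S ⊗[R] (LinearMap.range (fq2 φ)),
      ∃ z, φ (fe0 φ z) = (LinearMap.range (fq2 φ)).subtype.lTensor S w := by
    intro w
    induction w using TensorProduct.induction_on with
    | zero => exact ⟨0, by simp⟩
    | tmul s n₀ =>
      obtain ⟨m, hm⟩ := n₀.2
      refine ⟨s ⊗ₜ[R] m, ?_⟩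
      rw [phi_fe0, LinearMap.baseChange_tmul, LinearMap.lTensor_tmul, hm]; rfl
    | add x y hx hy =>
      obtain ⟨z₁, h₁⟩ := hx
      obtain ⟨z₂, h₂⟩ := hy
      exact ⟨z₁ + z₂, by rw [map_add, map_add, map_add, h₁, h₂]⟩
  have hC : ∀ c : N ⧸ LinearMap.range (fq2 φ), ∃ n : ℕ, ∀ a ∈ I ^ n, a • c = 0 := by
    intro c
    obtain ⟨n, rfl⟩ := Submodule.Quotient.mk_surjective _ c
    obtain ⟨k, hk⟩ := hcoker ((1 : S) ⊗ₜ[R] n)
    refine ⟨k, fun a ha => ?_⟩
    rw [← Submodule.Quotient.mk_smul, Submodule.Quotient.mk_eq_zero]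
    obtain ⟨m', hm'⟩ := hk a ha
    rw [algebraMap_smul, ← tmul_smul] at hm'
    have hmem : (m', a • n) ∈ Mfib φ := (mem_Mfib φ _).mpr hm'
    exact ⟨⟨(m', a • n), hmem⟩, rfl⟩
  intro m'
  obtain ⟨c, hc⟩ := exists_one_tmul_flat hq hC ((LinearMap.range (fq2 φ)).mkQ.lTensor S (φ m'))
  obtain ⟨n, rfl⟩ := Submodule.Quotient.mk_surjective _ c
  have hex : Function.Exact ((LinearMap.range (fq2 φ)).subtype.lTensor S)
      ((LinearMap.range (fq2 φ)).mkQ.lTensor S) :=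
    lTensor_exact S (M := LinearMap.range (fq2 φ)) (LinearMap.exact_subtype_mkQ _)
      (Submodule.mkQ_surjective _)
  have hk : (LinearMap.range (fq2 φ)).mkQ.lTensor S (φ m' - (1 : S) ⊗ₜ[R] n) = 0 := by
    rw [map_sub, hc, LinearMap.lTensor_tmul, Submodule.mkQ_apply, sub_self]
  obtain ⟨w, hw⟩ := (hex _).mp hk
  obtain ⟨z₁, hz₁⟩ := hsub w
  have hn : φ (m' - fe0 φ z₁) = (1 : S) ⊗ₜ[R] n := by
    rw [map_sub, hz₁, hw]; abel
  have hmem : (m' - fe0 φ z₁, n) ∈ Mfib φ := (mem_Mfib φ _).mpr hn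
  refine ⟨z₁ + (1 : S) ⊗ₜ[R] ⟨(m' - fe0 φ z₁, n), hmem⟩, ?_⟩
  rw [map_add, fe0_tmul, one_smul]
  show fe0 φ z₁ + (m' - fe0 φ z₁) = m'
  abel

include hq in
lemma fe0_injective
    (hker : ∀ x : M', φ x = 0 → ∃ n : ℕ, ∀ a ∈ I ^ n, algebraMap R S a • x = 0) :
    Function.Injective (fe0 φ) := by
  rw [injective_iff_map_eq_zero]
  intro z hz
  have h1 : (fq2 φ).lTensor S z = 0 := by
    have := phi_fe0 φ z
    rw [hz, map_zero] at this
    rw [← LinearMap.baseChange_eq_ltensor]; exact this.symm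
  have hker' : ∀ k : Mfib φ, fq2 φ k = 0 → ∃ n : ℕ, ∀ a ∈ I ^ n, a • k = 0 := by
    intro k hk
    have h0 : φ (fq1 φ k) = 0 := by rw [fib_spec, hk, tmul_zero]
    obtain ⟨n, hn⟩ := hker _ h0
    refine ⟨n, fun a ha => ?_⟩
    apply Subtype.ext
    apply Prod.ext
    · show a • (fq1 φ k) = 0
      rw [← algebraMap_smul S a (fq1 φ k)]; exact hn a ha
    · show a • (fq2 φ k) = 0
      rw [hk, smul_zero]
  obtain ⟨k, hk0, rfl⟩ := exists_one_tmul_of_lTensor_eq_zero hq (fq2 φ) hker' z h1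
  rw [fe0_tmul, one_smul] at hz
  have : k = 0 := Subtype.ext (Prod.ext hz hk0)
  rw [this, tmul_zero]

include hq in
theorem glue_maps
    (hker : ∀ x : M', φ x = 0 → ∃ n : ℕ, ∀ a ∈ I ^ n, algebraMap R S a • x = 0)
    (hcoker : ∀ y : S ⊗[R] N, ∃ n : ℕ, ∀ a ∈ I ^ n,
      algebraMap R S a • y ∈ LinearMap.range φ) :
    ∃ (ψ : Mfib φ →ₗ[R] N) (e : S ⊗[R] (Mfib φ) ≃ₗ[S] M'),
      φ ∘ₗ e.toLinearMap = ψ.baseChange S := by
  refine ⟨fq2 φ, LinearEquiv.ofBijective (fe0 φ)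
    ⟨fe0_injective hq φ hker, fe0_surjective hq φ hcoker⟩, ?_⟩
  apply LinearMap.ext
  intro z
  exact phi_fe0 φ z

end GlueMaps

end Groth.Agent.Lib.EtGlueH4
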