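import Mathlib
import Groth.Agent.Lib.ExtMapBij_helper2

/-!
# A diagram chase for the comparison maps on `Ext` induced by an exact functor (helper7)

If `0 → F → G → Q → 0` is exact, the comparison maps for `Q` are injective in degree `n + 1` and
surjective in degree `n`, then a class in `Ext^{n+1}(K', Φ F)` whose image in `Ext^{n+1}(K', Φ G)`
comes from `Ext^{n+1}(K, G)` comes from `Ext^{n+1}(K, F)`.
-/

set_option autoImplicit false
universe w w' v v' u u'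
open CategoryTheory Limits Abelian

namespace Groth.Agent.Lib.ExtChaseH7

open Groth.Agent.Lib.ExtMapBij

variable {A : Type u} [Category.{v} A] [Abelian A] [HasExt.{w} A]
  {B : Type u'} [Category.{v'} B] [Abelian B] [HasExt.{w'} B]
  (Φ : A ⥤ B) [Φ.Additive] [PreservesFiniteLimits Φ] [PreservesFiniteColimits Φ]
  {K : A} {K' : B} (c : K' ⟶ Φ.obj K)

theorem exists_cmp_eq_of_mono (n : ℕ) {S : ShortComplex A} (hS : S.ShortExact)
    (hinj : Function.Injective (cmp Φ c S.X₃ (n + 1)))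
    (hsurj : Function.Surjective (cmp Φ c S.X₃ n))
    (ξ : Ext K' (Φ.obj S.X₁) (n + 1)) (γ : Ext K S.X₂ (n + 1))
    (hγ : cmp Φ c S.X₂ (n + 1) γ = ξ.comp (Ext.mk₀ (Φ.map S.f)) (add_zero (n + 1))) :
    ∃ φ : Ext K S.X₁ (n + 1), cmp Φ c S.X₁ (n + 1) φ = ξ := by
  have hS' := hS.map_of_exact Φ
  have h1 : γ.comp (Ext.mk₀ S.g) (add_zero (n + 1)) = 0 := by
    apply hinj
    rw [cmp_comp_mk₀, hγ, map_zero, Ext.comp_assoc_of_third_deg_zero, Ext.mk₀_comp_mk₀,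
      ← Φ.map_comp, S.zero, Φ.map_zero, Ext.mk₀_zero, Ext.comp_zero]
  obtain ⟨φ, hφ⟩ := Ext.covariant_sequence_exact₂ K hS γ h1
  have e : (cmp Φ c S.X₁ (n + 1) φ).comp (Ext.mk₀ (Φ.map S.f)) (add_zero (n + 1)) =
      cmp Φ c S.X₂ (n + 1) γ := by
    rw [← cmp_comp_mk₀, hφ]
  have h3 : (ξ - cmp Φ c S.X₁ (n + 1) φ).comp (Ext.mk₀ (S.map Φ).f) (add_zero (n + 1)) = 0 := by
    rw [sub_eq_add_neg, Ext.add_comp, Ext.neg_comp]
    show ξ.comp (Ext.mk₀ (Φ.map S.f)) (add_zero (n + 1)) +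
      -((cmp Φ c S.X₁ (n + 1) φ).comp (Ext.mk₀ (Φ.map S.f)) (add_zero (n + 1))) = 0
    rw [e, hγ, add_neg_cancel]
  obtain ⟨q', hq'⟩ := Ext.covariant_sequence_exact₁ K' hS' _ h3 rfl
  obtain ⟨q, rfl⟩ := hsurj q'
  refine ⟨q.comp hS.extClass rfl + φ, ?_⟩
  have h5 := cmp_comp_extClass Φ c hS n q
  have h6 : cmp Φ c S.X₁ (n + 1) (q.comp hS.extClass rfl) = ξ - cmp Φ c S.X₁ (n + 1) φ :=
    h5.trans hq'
  rw [map_add, h6, sub_add_cancel]

end Groth.Agent.Lib.ExtChaseH7
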