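import Mathlib
import Groth.Prelude.Def_EtAcyc
import Groth.Agent.Lib.ExtChase_helper7
import Groth.Agent.Lib.EtLTorsion_helper7

/-!
# Pullback on étale cohomology and monomorphisms of `L`-torsion sheaves (helper7)

`main8536`: if `h⁻¹` is bijective on cohomology of `L`-torsion sheaves in degrees `≤ n` and
injective in degree `n + 1`, `u : F → G` is a monomorphism of `L`-torsion sheaves and the image of
`ξ ∈ H^{n+1}(Y, h⁻¹F)` in `H^{n+1}(Y, h⁻¹G)` comes from `X`, then `ξ` comes from `X`.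
-/

set_option autoImplicit false
set_option backward.isDefEq.respectTransparency false
set_option linter.style.haveILetI false
universe u
open CategoryTheory CategoryTheory.Limits AlgebraicGeometry Opposite

namespace Groth.Agent.Lib.EtHpullChaseH7

open Groth.Agent.Lib.EtSchExact_helper7 Groth.Agent.Lib.EtLTorsion_helper7
  Groth.Agent.Lib.ExtMapBij Groth.Agent.Lib.ExtChaseH7

/-- A quotient of an `L`-torsion sheaf is `L`-torsion. -/
theorem isLTorsion_of_epi {X : Scheme.{u}} (L : Set ℕ) {G Q : EtCoh.Ab X} (π : G ⟶ Q) [Epi π]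
    (hG : EtAcyc.IsLTorsion L G) : EtAcyc.IsLTorsion L Q := by
  rw [isLTorsion_iff] at hG ⊢
  intro Ω _ _ ξ t
  obtain ⟨s, rfl⟩ := (epi_iff π).1 inferInstance Ω ξ t
  obtain ⟨m, hm, hms⟩ := hG Ω ξ s
  refine ⟨m, hm, ?_⟩
  exact (map_nsmul ((EtCoh.stalk ξ).map π).hom m s).symm.trans
    ((congrArg ((EtCoh.stalk ξ).map π).hom hms).trans (map_zero _))

theorem main8536 {X Y : Scheme.{u}} (h : Y ⟶ X) (L : Set ℕ) (n : ℕ) (hc : EtAcyc.CompN h L n)
    [PreservesFiniteLimits (EtCoh.pull h)] {F G : EtCoh.Ab X} (a : F ⟶ G) [Mono a]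
    (hF : EtAcyc.IsLTorsion L F) (hG : EtAcyc.IsLTorsion L G)
    (ξ : EtCoh.H Y ((EtCoh.pull h).obj F) (n + 1))
    (hξ : (EtCoh.HF Y (n + 1)).map ((EtCoh.pull h).map a) ξ ∈
      Set.range (EtCore.Hpull h G (n + 1))) :
    ξ ∈ Set.range (EtCore.Hpull h F (n + 1)) := by
  obtain ⟨S, hS⟩ : ∃ S : ShortComplex (EtCoh.Ab X),
      S = ShortComplex.mk a (cokernel.π a) (cokernel.condition a) := ⟨_, rfl⟩
  have hSe : S.ShortExact := by
    subst hS
    exact { exact := ShortComplex.exact_cokernel _ }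
  have hQ : EtAcyc.IsLTorsion L S.X₃ := by
    subst hS
    exact isLTorsion_of_epi L (cokernel.π a) hG
  obtain ⟨hb, hi⟩ := hc S.X₃ hQ
  obtain ⟨γ, hγ⟩ := hξ
  subst hS
  obtain ⟨φ, hφ⟩ := exists_cmp_eq_of_mono (EtCoh.pull h) (EtCore.pullConst h ℤ).inv n hSe hi
    (hb n le_rfl).2 ξ γ hγ
  exact ⟨φ, hφ⟩

end Groth.Agent.Lib.EtHpullChaseH7
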