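import Mathlib
import Groth.Agent.Lib.EtInd6_lead

/-!
# Torsion sheaves supported in a specialization-stable set (lead)

On a Noetherian scheme, a torsion sheaf supported in a set `E` stable under specialization is a
filtered colimit of constructible sheaves supported in closed subsets of `E`: replace every
presented constructible sheaf over `F` by its image in `F`.
-/

set_option autoImplicit false
set_option linter.unusedSimpArgs false
set_option linter.unusedVariables false
set_option linter.unusedSectionVars false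
set_option linter.style.longLine false
set_option linter.unnecessarySimpa false
set_option linter.style.haveILetI false
set_option maxHeartbeats 1600000
set_option backward.isDefEq.respectTransparency false
set_option backward.isDefEq.respectTransparency.types false
set_option backward.defeqAttrib.useBackward true

open CategoryTheory CategoryTheory.Limits AlgebraicGeometry Opposite Topology TopologicalSpace

namespace Groth.Agent.Lib.EtInd

open Groth.Agent.Lib.EtPull Groth.Agent.Lib.EtCons Groth.Agent.Lib.EtLocConst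
  Groth.Agent.Lib.EtSchSite_helper7 Groth.Agent.Lib.EtSchExact_helper7 Groth.Agent.Lib.EtSub
  Groth.Agent.Lib.EtSupp Groth.Agent.Lib.EtExtZ Groth.Agent.Lib.EtPres
  Groth.Agent.Lib.Constr_lead

universe u

noncomputable section

section Top

variable {T : Type*} [TopologicalSpace T]

/-- In a Noetherian quasi-sober space, every point of the closure of a constructible set is a
specialization of a point of the set. -/
theorem exists_specializes_of_mem_closure [NoetherianSpace T] [QuasiSober T] {E : Set T}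
    (hE : IsConstructible E) : ∀ x ∈ closure E, ∃ t ∈ E, t ⤳ x := by
  suffices h : ∀ Z : Closeds T, ∀ x ∈ closure (E ∩ (Z : Set T)), ∃ t ∈ E, t ⤳ x by
    intro x hx
    refine h ⊤ x ?_
    simpa using hx
  intro Z
  induction Z using WellFoundedLT.induction with
  | ind Z ih =>
  by_cases hZ : IsIrreducible (Z : Set T)
  · obtain ⟨ξ, hξ⟩ := QuasiSober.sober hZ Z.isClosed
    obtain ⟨U, hU, hξU, h⟩ := exists_open_generic_of_isConstructible hE hξ
    rcases h with h | h
    · intro x hx
      have hxZ : x ∈ (Z : Set T) := closure_minimal Set.inter_subset_right Z.isClosed hx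
      exact ⟨ξ, h ⟨hξU, hξ.mem⟩, hξ.specializes hxZ⟩
    · have hcl : IsClosed ((Z : Set T) \ U) := Z.isClosed.sdiff hU
      have hlt : (⟨(Z : Set T) \ U, hcl⟩ : Closeds T) < Z := by
        refine lt_of_le_of_ne (fun z hz => hz.1) ?_
        intro heq
        have : ξ ∈ ((⟨(Z : Set T) \ U, hcl⟩ : Closeds T) : Set T) := by rw [heq]; exact hξ.mem
        exact this.2 hξU
      intro x hx
      have hsub : E ∩ (Z : Set T) ⊆ E ∩ ((Z : Set T) \ U) := by
        rintro z ⟨hzE, hzZ⟩
        exact ⟨hzE, hzZ, fun hzU => h ⟨hzU, hzZ⟩ hzE⟩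
      exact ih _ hlt x (closure_mono hsub hx)
  · by_cases hne : (Z : Set T).Nonempty
    · have hnp : ¬ IsPreirreducible (Z : Set T) := fun h => hZ ⟨hne, h⟩
      rw [isPreirreducible_iff_isClosed_union_isClosed] at hnp
      push Not at hnp
      obtain ⟨z₁, z₂, h1, h2, hsub, hn1, hn2⟩ := hnp
      have hlt1 : (⟨(Z : Set T) ∩ z₁, Z.isClosed.inter h1⟩ : Closeds T) < Z := by
        refine lt_of_le_of_ne (fun z hz => hz.1) ?_
        intro heq
        apply hn1
        intro z hz
        have : z ∈ ((⟨(Z : Set T) ∩ z₁, Z.isClosed.inter h1⟩ : Closeds T) : Set T) := by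
          rw [heq]; exact hz
        exact this.2
      have hlt2 : (⟨(Z : Set T) ∩ z₂, Z.isClosed.inter h2⟩ : Closeds T) < Z := by
        refine lt_of_le_of_ne (fun z hz => hz.1) ?_
        intro heq
        apply hn2
        intro z hz
        have : z ∈ ((⟨(Z : Set T) ∩ z₂, Z.isClosed.inter h2⟩ : Closeds T) : Set T) := by
          rw [heq]; exact hz
        exact this.2
      intro x hx
      have hsub' : E ∩ (Z : Set T) ⊆
          (E ∩ ((Z : Set T) ∩ z₁)) ∪ (E ∩ ((Z : Set T) ∩ z₂)) := by
        rintro z ⟨hzE, hzZ⟩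
        rcases hsub hzZ with h | h
        · exact Or.inl ⟨hzE, hzZ, h⟩
        · exact Or.inr ⟨hzE, hzZ, h⟩
      have hx' := closure_mono hsub' hx
      rw [closure_union] at hx'
      rcases hx' with hx' | hx'
      · exact ih _ hlt1 x hx'
      · exact ih _ hlt2 x hx'
    · intro x hx
      rw [Set.not_nonempty_iff_eq_empty] at hne
      rw [hne, Set.inter_empty, closure_empty] at hx
      exact absurd hx (Set.notMem_empty x)

theorem closure_subset_of_stableUnderSpecialization [NoetherianSpace T] [QuasiSober T]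
    {E S : Set T} (hS : IsConstructible S) (hE : StableUnderSpecialization E) (h : S ⊆ E) :
    closure S ⊆ E := by
  intro x hx
  obtain ⟨t, ht, hs⟩ := exists_specializes_of_mem_closure hS x hx
  exact hE hs (h ht)

end Top

section SubIdx

variable {X : Scheme.{u}} [CompactSpace X] [QuasiSeparatedSpace X]

/-- presented constructible sheaves over `F` satisfying `p`. -/
structure IdxP (F : EtCoh.Ab X) (p : Idx F → Prop) : Type (u + 1) where
  j : Idx F
  h : p j

instance idxPCategory (F : EtCoh.Ab X) (p : Idx F → Prop) : Category.{u + 1} (IdxP F p) where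
  Hom a b := a.j ⟶ b.j
  id a := 𝟙 a.j
  comp f g := f ≫ g
  id_comp f := Category.id_comp (obj := Idx F) f
  comp_id f := Category.comp_id (obj := Idx F) f
  assoc f g h := Category.assoc (obj := Idx F) f g h

/-- the inclusion into all presented constructible sheaves over `F`. -/
def inclP (F : EtCoh.Ab X) (p : Idx F → Prop) : IdxP F p ⥤ Idx F where
  obj a := a.j
  map f := f
  map_id _ := rfl
  map_comp _ _ := rfl

theorem idxP_isFiltered (F : EtCoh.Ab X) (p : Idx F → Prop)
    (hp : ∀ j : Idx F, ∃ a : IdxP F p, Nonempty (j ⟶ a.j)) : IsFiltered (IdxP F p) := by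
  haveI : IsFilteredOrEmpty (IdxP F p) :=
    { cocone_objs := fun a b => by
        obtain ⟨k, f, g, -⟩ := IsFilteredOrEmpty.cocone_objs a.j b.j
        obtain ⟨c, ⟨m⟩⟩ := hp k
        let fm : a.j ⟶ c.j := f ≫ m
        let gm : b.j ⟶ c.j := g ≫ m
        exact ⟨c, fm, gm, trivial⟩
      cocone_maps := fun a b f g => by
        let f' : a.j ⟶ b.j := f
        let g' : a.j ⟶ b.j := g
        obtain ⟨k, h, hh⟩ := IsFilteredOrEmpty.cocone_maps f' g'
        obtain ⟨c, ⟨m⟩⟩ := hp k
        let hm : b.j ⟶ c.j := h ≫ m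
        refine ⟨c, hm, ?_⟩
        have hf : f' ≫ hm = g' ≫ hm := by
          show f' ≫ h ≫ m = g' ≫ h ≫ m
          rw [← Category.assoc, hh, Category.assoc]
        exact hf }
  haveI : Nonempty (IdxP F p) := by
    obtain ⟨c, -⟩ := hp (idx_nonempty F).some
    exact ⟨c⟩
  exact {}

theorem inclP_final (F : EtCoh.Ab X) (p : Idx F → Prop)
    (hp : ∀ j : Idx F, ∃ a : IdxP F p, Nonempty (j ⟶ a.j)) : (inclP F p).Final := by
  haveI := idxP_isFiltered F p hp
  apply Functor.final_of_exists_of_isFiltered
  · intro d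
    obtain ⟨c, hc⟩ := hp d
    exact ⟨c, hc⟩
  · intro d c s s'
    let s1 : d ⟶ c.j := s
    let s2 : d ⟶ c.j := s'
    obtain ⟨k, h, hh⟩ := IsFilteredOrEmpty.cocone_maps s1 s2
    obtain ⟨c', ⟨m⟩⟩ := hp k
    let hm : c.j ⟶ c'.j := h ≫ m
    refine ⟨c', hm, ?_⟩
    have hf : s1 ≫ hm = s2 ≫ hm := by
      show s1 ≫ h ≫ m = s2 ≫ h ≫ m
      rw [← Category.assoc, hh, Category.assoc]
    exact hf

end SubIdx

section Supp

variable {X : Scheme.{u}}

theorem supp_subset_of_mono {G F : EtCoh.Ab X} (ι : G ⟶ F) [Mono ι] :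
    EtPBC.supp G ⊆ EtPBC.supp F := by
  rintro x ⟨Ω, iF, iS, ξ, hξ, hnz⟩
  refine ⟨Ω, iF, iS, ξ, hξ, fun hz => hnz ?_⟩
  haveI : Mono ((EtCoh.stalk ξ).map ι) := inferInstance
  exact IsZero.of_mono ((EtCoh.stalk ξ).map ι) hz

end Supp

section Main

variable {X : Scheme.{u}} [IsNoetherian X]

theorem exists_to_idxE (E : Set X) (hE : StableUnderSpecialization E) (F : EtCoh.Ab X)
    (hsupp : EtPBC.supp F ⊆ E) (j : Idx F) :
    ∃ a : IdxP F (fun k => ∃ Z : Set X, IsClosed Z ∧ Z ⊆ E ∧ EtPBC.supp k.P.sheaf ⊆ Z),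
      Nonempty (j ⟶ a.j) := by
  have hG : EtPBC.IsConstructible (Limits.image j.hom) :=
    main41 X (factorThruImage j.hom) j.P.isConstructible
  obtain ⟨k, e, he⟩ := exists_idx F hG (Limits.image.ι j.hom)
  have hk : EtPBC.supp k.P.sheaf ⊆ EtPBC.supp F := by
    haveI : Mono k.hom := by
      rw [← he]
      infer_instance
    exact supp_subset_of_mono k.hom
  have hc := isConstructible_supp _ k.P.isConstructible
  refine ⟨⟨k, closure (EtPBC.supp k.P.sheaf), isClosed_closure,
    closure_subset_of_stableUnderSpecialization hc hE (hk.trans hsupp), subset_closure⟩,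
    ⟨⟨factorThruImage j.hom ≫ e.inv, ?_⟩⟩⟩
  rw [Category.assoc, ← he, e.inv_hom_id_assoc, image.fac]

theorem main0145 (X : Scheme.{u}) [IsNoetherian X]
    (E : Set X) (hE : StableUnderSpecialization E)
    (F : EtCoh.Ab X) (hF : EtCoh.IsTorsion F) (hsupp : EtPBC.supp F ⊆ E) :
    ∃ (J : Type (u + 1)) (_ : SmallCategory J) (_ : IsFiltered J) (D : J ⥤ EtCoh.Ab X)
      (c : Cocone D) (_ : IsColimit c), Nonempty (c.pt ≅ F) ∧
      ∀ j, EtPBC.IsConstructible (D.obj j) ∧
        ∃ Z : Set X, IsClosed Z ∧ Z ⊆ E ∧ EtPBC.supp (D.obj j) ⊆ Z := by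
  have hp := exists_to_idxE E hE F hsupp
  haveI := inclP_final F _ hp
  exact ⟨IdxP F _, idxPCategory F _, idxP_isFiltered F _ hp, inclP F _ ⋙ Dfun F,
    (cocone F).whisker (inclP F _),
    (Functor.Final.isColimitWhiskerEquiv (inclP F _) (cocone F)).symm (isColimitCocone F hF),
    ⟨Iso.refl _⟩, fun a => ⟨a.j.P.isConstructible, a.h⟩⟩

end Main

end

end Groth.Agent.Lib.EtInd
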