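import Mathlib
import Groth.Prelude.Def_EtBCD
import Groth.Agent.Lib.EtIntBC6_helper7
import Groth.Agent.Lib.EtFinStalkSh_helper7

/-!
# Base change for integral morphisms and sheaves of sets, part 1 (helper7)

The germ formula for the stalk of a pullback, the base change map on sections, the main
compatibility with the maps `ψ`, and injectivity on stalks.
-/

set_option autoImplicit false
set_option backward.isDefEq.respectTransparency false
set_option linter.style.haveILetI false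
set_option linter.unusedSectionVars false
universe u
open CategoryTheory CategoryTheory.Limits AlgebraicGeometry Opposite

namespace Groth.Agent.Lib.EtIntShH7

open Groth.Agent.Lib.EtFinGeomH7 Groth.Agent.Lib.EtSchSite_helper7
  Groth.Agent.Lib.EtSchExact_helper7 Groth.Agent.Lib.EtFinStalkH7
  Groth.Agent.Lib.EtSchStalk_helper7 Groth.Agent.Lib.EtFinBCH7
  Groth.Agent.Lib.EtFinStalkShH7 Groth.Agent.Lib.EtIntH7
  Groth.Agent.Lib.EtSchPullConserv_helper7 Groth.Agent.Lib.PointComapCounit_helper7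

section Germ

variable {X Y : Scheme.{u}} (g : X ⟶ Y) {Ω : Type u} [Field Ω] [IsAlgClosed Ω]
  (ξ : Spec (CommRingCat.of Ω) ⟶ X)

theorem stalkPullIsoSh_inv_germ (G : EtDesc.Sh Y) (H : EtDesc.Sh X)
    (φ : (EtDesc.pullSh g).obj G ⟶ H) (U : Y.Etale)
    (u₀ : (Scheme.pointSmallEtale (ξ ≫ g)).fiber.obj U) (s : ToType (G.obj.obj (op U))) :
    ((Scheme.pointSmallEtale ξ).sheafFiber (A := Type (u + 1))).map φ
      ((stalkPullIsoSh g ξ).inv.app G
        ((Scheme.pointSmallEtale (ξ ≫ g)).toPresheafFiber U u₀ G.obj s)) =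
    (Scheme.pointSmallEtale ξ).toPresheafFiber ((EtCoh.bc g).obj U) (liftPt g ξ rfl U u₀) H.obj
      (((EtDesc.adjSh g).homEquiv G H φ).hom.app (op U) s) := by
  have e1 : (stalkPullIsoSh g ξ).inv.app G =
      (EtStalkPull.sheafFiberIsoOfIso (A := Type (u + 1)) (EtStalkPull.pointIso g ξ)).hom.app G ≫
        ((Scheme.pointSmallEtale ξ).sheafFiberComapIso (EtCoh.bc g)
          (EtCoh.coverPreserving_bc g) (Type (u + 1))).hom.app G := rfl
  have e2 : (EtStalkPull.sheafFiberIsoOfIso (A := Type (u + 1))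
      (EtStalkPull.pointIso g ξ)).hom.app G
      ((Scheme.pointSmallEtale (ξ ≫ g)).toPresheafFiber U u₀ G.obj s) =
      ((Scheme.pointSmallEtale ξ).comap (EtCoh.bc g)
        (EtCoh.coverPreserving_bc g)).toPresheafFiber U
        ((EtStalkPull.fiberIso g ξ).inv.app U u₀) G.obj s := by
    have h := (Scheme.pointSmallEtale (ξ ≫ g)).toPresheafFiber_presheafFiberDesc
      (P := G.obj)
      (fun V v => ((Scheme.pointSmallEtale ξ).comap (EtCoh.bc g)
        (EtCoh.coverPreserving_bc g)).toPresheafFiber V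
        ((EtStalkPull.fiberIso g ξ).inv.app V v) G.obj)
      (by
        intro V W t v
        have hn := NatTrans.naturality_apply (EtStalkPull.fiberIso g ξ).inv t v
        have hw := ((Scheme.pointSmallEtale ξ).comap (EtCoh.bc g)
          (EtCoh.coverPreserving_bc g)).toPresheafFiber_w t
          ((EtStalkPull.fiberIso g ξ).inv.app V v) G.obj
        rw [hw]
        exact congrArg (fun z => ((Scheme.pointSmallEtale ξ).comap (EtCoh.bc g)
          (EtCoh.coverPreserving_bc g)).toPresheafFiber W z G.obj) hn.symm) U u₀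
    exact (ConcreteCategory.comp_apply (C := Type (u + 1)) _ _ _).symm.trans
      (congrArg (fun m => (ConcreteCategory.hom m) s) h)
  rw [e1]
  rw [fiberIso_inv_app] at e2
  refine (congrArg (fun z => ((Scheme.pointSmallEtale ξ).sheafFiber (A := Type (u + 1))).map φ z)
    (ConcreteCategory.comp_apply (C := Type (u + 1)) _ _ _)).trans ?_
  refine (congrArg (fun z => ((Scheme.pointSmallEtale ξ).sheafFiber (A := Type (u + 1))).map φ
    (((Scheme.pointSmallEtale ξ).sheafFiberComapIso (EtCoh.bc g)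
      (EtCoh.coverPreserving_bc g) (Type (u + 1))).hom.app G z)) e2).trans ?_
  have h4 := comapIso_map_germ (Scheme.pointSmallEtale ξ) (EtCoh.bc g)
    (EtCoh.coverPreserving_bc g) (Type (u + 1)) G H φ U
    ((EtStalkPull.fiberIso g ξ).inv.app U u₀) s
  rw [fiberIso_inv_app] at h4
  exact h4

end Germ

section Square

variable {X Y X' Y' : Scheme.{u}} (f : X ⟶ Y) (g : Y' ⟶ Y) (f' : X' ⟶ Y') (g' : X' ⟶ X)
  (w : g' ≫ f = f' ≫ g) (F : EtDesc.Sh X)

theorem gamma_appS (U : Y.Etale) (s : ToType (F.obj.obj (op ((EtCoh.bc f).obj U)))) :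
    (((EtDesc.adjSh g).homEquiv ((EtDesc.pushSh f).obj F)
      ((EtDesc.pushSh f').obj ((EtDesc.pullSh g').obj F))
      (EtBC.baseChange0Sh f g f' g' w F)).hom.app (op U)) s =
    ((EtDesc.pullSh g').obj F).obj.map (θ f g f' g' w U).op
      (((EtDesc.adjSh g').unit.app F).hom.app (op ((EtCoh.bc f).obj U)) s) := by
  have hβ : (EtDesc.adjSh g).homEquiv ((EtDesc.pushSh f).obj F)
      ((EtDesc.pushSh f').obj ((EtDesc.pullSh g').obj F)) (EtBC.baseChange0Sh f g f' g' w F) =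
      (EtDesc.pushSh f).map ((EtDesc.adjSh g').unit.app F) ≫
        (EtDesc.pushCompSh f g').hom.app _ ≫ (EtBC.pushCongrSh w).hom.app _ ≫
          (EtDesc.pushCompSh g f').inv.app _ := Equiv.apply_symm_apply _ _
  rw [hβ]
  have h3 : ((EtDesc.pullSh g').obj F).obj.map (θ f g f' g' w U).op
      (((EtDesc.adjSh g').unit.app F).hom.app (op ((EtCoh.bc f).obj U)) s) =
      ((EtDesc.pullSh g').obj F).obj.map (c₃ g f' U).op
        (((EtDesc.pullSh g').obj F).obj.map (c₂ f g f' g' w U).op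
          (((EtDesc.pullSh g').obj F).obj.map (c₁ f g' U).op
            (((EtDesc.adjSh g').unit.app F).hom.app (op ((EtCoh.bc f).obj U)) s))) := by
    have h0 : θ f g f' g' w U = c₃ g f' U ≫ c₂ f g f' g' w U ≫ c₁ f g' U := rfl
    rw [h0, map_comp_applyS, map_comp_applyS]
  rw [h3]
  rfl

variable {Ω : Type u} [Field Ω] [IsAlgClosed Ω]

/-- The main compatibility between the base change map and the stalk maps `ψ`, for sheaves of
sets. -/
theorem mcS (η' : Spec (CommRingCat.of Ω) ⟶ Y')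
    (ξ' : Spec (CommRingCat.of Ω) ⟶ X') (hξ' : ξ' ≫ f' = η')
    (hρ : (ξ' ≫ g') ≫ f = η' ≫ g)
    (y : ToType ((Scheme.pointSmallEtale (η' ≫ g)).presheafFiber.obj
      ((EtDesc.pushSh f).obj F).obj)) :
    psiS f' ((EtDesc.pullSh g').obj F) ξ' hξ'
      (((Scheme.pointSmallEtale η').sheafFiber (A := Type (u + 1))).map
        (EtBC.baseChange0Sh f g f' g' w F)
        ((stalkPullIsoSh g η').inv.app ((EtDesc.pushSh f).obj F) y)) =
    (stalkPullIsoSh g' ξ').inv.app F (psiS f F (ξ' ≫ g') hρ y) := by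
  obtain ⟨U, u₀, s, rfl⟩ :=
    (Scheme.pointSmallEtale (η' ≫ g)).toPresheafFiber_jointly_surjective y
  have h1 := stalkPullIsoSh_inv_germ g η' ((EtDesc.pushSh f).obj F)
    ((EtDesc.pushSh f').obj ((EtDesc.pullSh g').obj F)) (EtBC.baseChange0Sh f g f' g' w F) U u₀ s
  have h2 := gamma_appS f g f' g' w F U s
  have h3 := psiS_germ f' ((EtDesc.pullSh g').obj F) ξ' hξ' ((EtCoh.bc g).obj U)
    (liftPt g η' rfl U u₀)
    (((EtDesc.pullSh g').obj F).obj.map (θ f g f' g' w U).op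
      (((EtDesc.adjSh g').unit.app F).hom.app (op ((EtCoh.bc f).obj U)) s))
  have h4 := (Scheme.pointSmallEtale ξ').toPresheafFiber_w_apply (θ f g f' g' w U)
    (liftPt f' ξ' hξ' ((EtCoh.bc g).obj U) (liftPt g η' rfl U u₀))
    ((EtDesc.pullSh g').obj F).obj
    (((EtDesc.adjSh g').unit.app F).hom.app (op ((EtCoh.bc f).obj U)) s)
  rw [lift_θ f g f' g' w U η' ξ' hξ' hρ u₀] at h4
  have h5 := psiS_germ f F (ξ' ≫ g') hρ U u₀ s
  have hJ := stalkPullIsoSh_inv_germ g' ξ' F ((EtDesc.pullSh g').obj F) (𝟙 _)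
    ((EtCoh.bc f).obj U) (liftPt f (ξ' ≫ g') hρ U u₀) s
  rw [CategoryTheory.Functor.map_id, Adjunction.homEquiv_id] at hJ
  have hJ' : (stalkPullIsoSh g' ξ').inv.app F
      ((Scheme.pointSmallEtale (ξ' ≫ g')).toPresheafFiber ((EtCoh.bc f).obj U)
        (liftPt f (ξ' ≫ g') hρ U u₀) F.obj s) =
      (Scheme.pointSmallEtale ξ').toPresheafFiber
        ((EtCoh.bc g').obj ((EtCoh.bc f).obj U))
        (liftPt g' ξ' rfl ((EtCoh.bc f).obj U) (liftPt f (ξ' ≫ g') hρ U u₀))
        ((EtDesc.pullSh g').obj F).obj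
        (((EtDesc.adjSh g').unit.app F).hom.app (op ((EtCoh.bc f).obj U)) s) := hJ
  rw [h5, hJ']
  rw [h2] at h1
  exact ((congrArg (fun z => psiS f' ((EtDesc.pullSh g').obj F) ξ' hξ' z) h1).trans h3).trans h4

end Square

section Inj

variable {X Y : Scheme.{u}} (f : X ⟶ Y) {Ω : Type u} [Field Ω] [IsAlgClosed Ω]
  [IsIntegralHom f] (F : EtDesc.Sh X) {η : Spec (CommRingCat.of Ω) ⟶ Y}

theorem eq_of_psiS_eq_int
    (x x' : ToType ((Scheme.pointSmallEtale η).presheafFiber.obj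
      ((EtDesc.pushSh f).obj F).obj))
    (hx : ∀ (ξ : Spec (CommRingCat.of Ω) ⟶ X) (hξ : ξ ≫ f = η),
      psiS f F ξ hξ x = psiS f F ξ hξ x') :
    x = x' := by
  obtain ⟨U, u, s, s', rfl, rfl⟩ :=
    (Scheme.pointSmallEtale η).toPresheafFiber_jointly_surjective₂ x x'
  obtain ⟨W, hW⟩ := exists_opens_agree F ((EtCoh.bc f).obj U) s s'
  have hWfib : ∀ p : ((EtCoh.bc f).obj U).left, pr₁ f U p = ptLeft u default → p ∈ W := by
    intro p hp
    obtain ⟨ξ, hξ, hpξ⟩ := exists_point_over_int f U u p hp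
    have h0 := hx ξ hξ
    rw [psiS_germ, psiS_germ] at h0
    obtain ⟨V, g, v, hv, heq⟩ := ((Scheme.pointSmallEtale ξ).toPresheafFiber_eq_iff' _
      (liftPt f ξ hξ U u) s s').1 h0
    have hsub := (hW V g).1 heq
    rw [← hpξ, ← hv]
    exact hsub ⟨ptLeft v default, rfl⟩
  obtain ⟨U', t, u', hu', hrange⟩ := exists_shrink_int f U u W hWfib
  have hs' : F.obj.map ((EtCoh.bc f).map t).op s = F.obj.map ((EtCoh.bc f).map t).op s' :=
    (hW _ ((EtCoh.bc f).map t)).2 hrange
  have h1 := (Scheme.pointSmallEtale η).toPresheafFiber_w_apply t u'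
    ((EtDesc.pushSh f).obj F).obj s
  have h1' := (Scheme.pointSmallEtale η).toPresheafFiber_w_apply t u'
    ((EtDesc.pushSh f).obj F).obj s'
  rw [hu'] at h1 h1'
  rw [← h1, ← h1']
  have h2 : ((EtDesc.pushSh f).obj F).obj.map t.op s = ((EtDesc.pushSh f).obj F).obj.map t.op s' :=
    hs'
  rw [h2]

end Inj

section BC

variable {X Y X' Y' : Scheme.{u}} (f : X ⟶ Y) (g : Y' ⟶ Y) (f' : X' ⟶ Y') (g' : X' ⟶ X)
  {Ω : Type u} [Field Ω] [IsAlgClosed Ω]
  [IsIntegralHom f] (h : IsPullback g' f' f g) (F : EtDesc.Sh X)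

theorem injective_stalk_map_intS (η' : Spec (CommRingCat.of Ω) ⟶ Y') :
    Function.Injective (((Scheme.pointSmallEtale η').sheafFiber (A := Type (u + 1))).map
      (EtBC.baseChange0Sh f g f' g' h.w F)) := by
  have hiso : Function.Bijective
      ((stalkPullIsoSh g η').inv.app ((EtDesc.pushSh f).obj F)) :=
    ConcreteCategory.bijective_of_isIso _
  refine (Function.Injective.of_comp_iff' _ hiso).1 ?_
  intro y₁ y₂ hy
  apply eq_of_psiS_eq_int f F
  intro ξ hξ
  obtain ⟨ξ', hξ'1, hξ'2⟩ : ∃ ξ' : Spec (CommRingCat.of Ω) ⟶ X', ξ' ≫ g' = ξ ∧ ξ' ≫ f' = η' :=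
    ⟨h.lift ξ η' hξ, h.lift_fst _ _ _, h.lift_snd _ _ _⟩
  subst hξ'1
  have h1 := mcS f g f' g' h.w F η' ξ' hξ'2 hξ y₁
  have h2 := mcS f g f' g' h.w F η' ξ' hξ'2 hξ y₂
  have hJ : Function.Bijective ((stalkPullIsoSh g' ξ').inv.app F) :=
    ConcreteCategory.bijective_of_isIso _
  apply hJ.1
  rw [← h1, ← h2]
  exact congrArg (fun z => psiS f' ((EtDesc.pullSh g').obj F) ξ' hξ'2 z) hy

end BC

end Groth.Agent.Lib.EtIntShH7
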