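import Mathlib
import Groth.Prelude.Def_EtBCD
import Groth.Agent.Lib.EtIntBCSh1_helper7

/-!
# Base change for integral morphisms and sheaves of sets, part 2 (helper7)

Surjectivity on stalks and the isomorphism statement.
-/

set_option autoImplicit false
set_option backward.isDefEq.respectTransparency false
set_option linter.style.haveILetI false
set_option linter.unusedSectionVars false
universe u
open CategoryTheory CategoryTheory.Limits AlgebraicGeometry Opposite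

namespace Groth.Agent.Lib.EtIntShH7

open Groth.Agent.Lib.EtFinGeomH7 Groth.Agent.Lib.EtSchSite_helper7
  Groth.Agent.Lib.EtSchExact_helper7 Groth.Agent.Lib.EtFinStalkH7
  Groth.Agent.Lib.EtSchStalk_helper7 Groth.Agent.Lib.EtFinBCH7
  Groth.Agent.Lib.EtFinStalkShH7 Groth.Agent.Lib.EtIntH7
  Groth.Agent.Lib.EtSchPullConserv_helper7

section Sub

variable {X : Scheme.{u}}

/-- A morphism of étale `X`-schemes mapping an open into an open restricts to the open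
subschemes. -/
theorem exists_subE_lift {A B : X.Etale} (m : A ⟶ B) (O : A.left.Opens) (O' : B.left.Opens)
    (hO : ∀ p ∈ O, m.left p ∈ O') :
    ∃ m' : subE A O ⟶ subE B O', m' ≫ subι B O' = subι A O ≫ m := by
  have hrange : Set.range (O.ι ≫ m.left) ⊆ Set.range O'.ι := by
    rintro _ ⟨p, rfl⟩
    rw [Scheme.Opens.range_ι]
    have h1 : (O.ι ≫ m.left) p = m.left (O.ι p) := Scheme.Hom.comp_apply _ _ _
    rw [h1]
    exact hO _ p.2
  obtain ⟨l, hl⟩ : ∃ l : O.toScheme ⟶ O'.toScheme, l ≫ O'.ι = O.ι ≫ m.left :=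
    ⟨IsOpenImmersion.lift O'.ι _ hrange, IsOpenImmersion.lift_fac _ _ _⟩
  have hw : l ≫ (O'.ι ≫ B.hom) = O.ι ≫ A.hom := by
    rw [← Category.assoc, hl, Category.assoc]
    exact congrArg (fun k => O.ι ≫ k) (MorphismProperty.Over.w m)
  refine ⟨MorphismProperty.Over.homMk l hw trivial, ?_⟩
  apply MorphismProperty.Over.Hom.ext
  exact hl

/-- Gluing two sections on complementary opens. -/
theorem glue_two (F : EtDesc.Sh X) (P : X.Etale) (A B : P.left.Opens)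
    (hcov : ∀ p : P.left, p ∈ A ∨ p ∈ B) (hdisj : ∀ p : P.left, p ∈ A → p ∈ B → False)
    (a : F.obj.obj (op (subE P A))) (b : F.obj.obj (op (subE P B))) :
    ∃ s : F.obj.obj (op P),
      F.obj.map (subι P A).op s = a ∧ F.obj.map (subι P B).op s = b := by
  obtain ⟨s, hs⟩ := glue_disjoint F P (famO A B)
    (fun p => (hcov p).elim (fun h => ⟨true, h⟩) (fun h => ⟨false, h⟩))
    (by
      intro i j p hi hj
      cases i
      · cases j
        · rfl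
        · exact (hdisj p hj hi).elim
      · cases j
        · exact (hdisj p hi hj).elim
        · rfl)
    (fun c => Bool.rec (motive := fun c => F.obj.obj (op (subE P (famO A B c)))) b a c)
  exact ⟨s, hs true, hs false⟩

end Sub

variable {Ω : Type u} [Field Ω] [IsAlgClosed Ω]

section Glue

variable {X Y : Scheme.{u}} (f : X ⟶ Y) (F : EtDesc.Sh X) {η : Spec (CommRingCat.of Ω) ⟶ Y}

set_option maxHeartbeats 1600000 in
/-- Gluing local sections given near every geometric point of the fibre. -/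
theorem glue_local [IsIntegralHom f]
    (Ud : {ξ : Spec (CommRingCat.of Ω) ⟶ X // ξ ≫ f = η} → Y.Etale)
    (ud : ∀ x, (Scheme.pointSmallEtale η).fiber.obj (Ud x))
    (Od : ∀ x, ((EtCoh.bc f).obj (Ud x)).left.Opens)
    (hmem : ∀ x : {ξ : Spec (CommRingCat.of Ω) ⟶ X // ξ ≫ f = η},
      ptLeft (liftPt f x.1 x.2 (Ud x) (ud x)) default ∈ Od x)
    (rd : ∀ x, F.obj.obj (op (subE ((EtCoh.bc f).obj (Ud x)) (Od x)))) :
    ∃ (U : Y.Etale) (u : (Scheme.pointSmallEtale η).fiber.obj U)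
      (s : F.obj.obj (op ((EtCoh.bc f).obj U))),
      ∀ (ξ₁ : Spec (CommRingCat.of Ω) ⟶ X) (hξ₁ : ξ₁ ≫ f = η),
        ∃ (x : {ξ : Spec (CommRingCat.of Ω) ⟶ X // ξ ≫ f = η})
          (w : (Scheme.pointSmallEtale ξ₁).fiber.obj
            (subE ((EtCoh.bc f).obj (Ud x)) (Od x))),
          (Scheme.pointSmallEtale ξ₁).fiber.map (subι ((EtCoh.bc f).obj (Ud x)) (Od x)) w =
            liftPt f ξ₁ hξ₁ (Ud x) (ud x) ∧
          (Scheme.pointSmallEtale ξ₁).toPresheafFiber ((EtCoh.bc f).obj U)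
            (liftPt f ξ₁ hξ₁ U u) F.obj s =
          (Scheme.pointSmallEtale ξ₁).toPresheafFiber
            (subE ((EtCoh.bc f).obj (Ud x)) (Od x)) w F.obj (rd x) := by
  obtain ⟨U, u, κ, P, hcov, hdisj, hk⟩ := loc_to_glob f Ud ud Od hmem
  choose xk τk hτk hPk using hk
  have hl : ∀ k, ∃ m' : subE ((EtCoh.bc f).obj U) (P k) ⟶
      subE ((EtCoh.bc f).obj (Ud (xk k))) (Od (xk k)),
      m' ≫ subι ((EtCoh.bc f).obj (Ud (xk k))) (Od (xk k)) =
        subι ((EtCoh.bc f).obj U) (P k) ≫ (EtCoh.bc f).map (τk k) :=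
    fun k => exists_subE_lift ((EtCoh.bc f).map (τk k)) (P k) (Od (xk k)) (hPk k)
  choose mk hmk using hl
  obtain ⟨s, hs⟩ := glue_disjoint F ((EtCoh.bc f).obj U) P hcov hdisj
    (fun k => F.obj.map (mk k).op (rd (xk k)))
  refine ⟨U, u, s, ?_⟩
  intro ξ₁ hξ₁
  obtain ⟨k, hkmem⟩ := hcov (ptLeft (liftPt f ξ₁ hξ₁ U u) default)
  obtain ⟨w, hw⟩ := exists_subPt ((EtCoh.bc f).obj U) (P k) (liftPt f ξ₁ hξ₁ U u) hkmem
  refine ⟨xk k, (Scheme.pointSmallEtale ξ₁).fiber.map (mk k) w, ?_, ?_⟩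
  · have a1 : (Scheme.pointSmallEtale ξ₁).fiber.map
        (subι ((EtCoh.bc f).obj (Ud (xk k))) (Od (xk k)))
        ((Scheme.pointSmallEtale ξ₁).fiber.map (mk k) w) =
        (Scheme.pointSmallEtale ξ₁).fiber.map
          (mk k ≫ subι ((EtCoh.bc f).obj (Ud (xk k))) (Od (xk k))) w :=
      (CategoryTheory.Functor.map_comp_apply _ _ _ _).symm
    rw [a1, hmk k, CategoryTheory.Functor.map_comp_apply, hw, liftPt_map, hτk]
  · have e1 := (Scheme.pointSmallEtale ξ₁).toPresheafFiber_w_apply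
      (subι ((EtCoh.bc f).obj U) (P k)) w F.obj s
    rw [hw] at e1
    have e2 := (Scheme.pointSmallEtale ξ₁).toPresheafFiber_w_apply (mk k) w F.obj (rd (xk k))
    exact e1.symm.trans ((congrArg (fun q => (Scheme.pointSmallEtale ξ₁).toPresheafFiber
      (subE ((EtCoh.bc f).obj U) (P k)) w F.obj q) (hs k)).trans e2)

/-- If all the stalks of `F` at the geometric points over `η` are nonempty, then `F` has a
section over `U ×_Y X` for some étale neighbourhood `U` of `η`. -/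
theorem exists_base_section [IsIntegralHom f]
    (hne : ∀ (ξ : Spec (CommRingCat.of Ω) ⟶ X) (_ : ξ ≫ f = η),
      Nonempty (ToType ((Scheme.pointSmallEtale ξ).presheafFiber.obj F.obj))) :
    ∃ (U : Y.Etale) (_ : (Scheme.pointSmallEtale η).fiber.obj U),
      Nonempty (F.obj.obj (op ((EtCoh.bc f).obj U))) := by
  have hdat : ∀ x : {ξ : Spec (CommRingCat.of Ω) ⟶ X // ξ ≫ f = η},
      ∃ (U : Y.Etale) (u : (Scheme.pointSmallEtale η).fiber.obj U)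
        (O : ((EtCoh.bc f).obj U).left.Opens),
        ptLeft (liftPt f x.1 x.2 U u) default ∈ O ∧
        Nonempty (F.obj.obj (op (subE ((EtCoh.bc f).obj U) O))) := by
    intro x
    obtain ⟨t₀⟩ := hne x.1 x.2
    obtain ⟨V', v', τ, -⟩ := (Scheme.pointSmallEtale x.1).toPresheafFiber_jointly_surjective t₀
    obtain ⟨U, u, V, -, hmem, h, hh1, -⟩ := int_key f V' x.1 x.2 v'
    exact ⟨U, u, V, hmem, ⟨F.obj.map (MorphismProperty.Over.homMk h hh1 trivial :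
      subE ((EtCoh.bc f).obj U) V ⟶ V').op τ⟩⟩
  choose Ud ud Od hmemd hrd using hdat
  obtain ⟨U, u, s, -⟩ := glue_local f F Ud ud Od hmemd (fun x => (hrd x).some)
  exact ⟨U, u, ⟨s⟩⟩

set_option maxHeartbeats 1600000 in
/-- Every germ of `F` at a geometric point `ξ₀` over `η` comes from the stalk of `f_* F` at `η`,
for `f` integral, provided `F` has a section over some `U₀ ×_Y X`. -/
theorem exists_psiS_int [IsIntegralHom f] (U₀ : Y.Etale)
    (u₀ : (Scheme.pointSmallEtale η).fiber.obj U₀)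
    (σ₀ : F.obj.obj (op ((EtCoh.bc f).obj U₀)))
    (ξ₀ : Spec (CommRingCat.of Ω) ⟶ X) (hξ₀ : ξ₀ ≫ f = η)
    (t₀ : ToType ((Scheme.pointSmallEtale ξ₀).presheafFiber.obj F.obj)) :
    ∃ x : ToType ((Scheme.pointSmallEtale η).presheafFiber.obj ((EtDesc.pushSh f).obj F).obj),
      psiS f F ξ₀ hξ₀ x = t₀ := by
  obtain ⟨V', v', τ, rfl⟩ := (Scheme.pointSmallEtale ξ₀).toPresheafFiber_jointly_surjective t₀
  obtain ⟨U₁, u₁, V, hVclopen, hmem, h, hh1, hh2⟩ := int_key f V' ξ₀ hξ₀ v'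
  obtain ⟨Vc, hVc⟩ : ∃ Vc : ((EtCoh.bc f).obj U₁).left.Opens,
      (Vc : Set ((EtCoh.bc f).obj U₁).left) = (V : Set ((EtCoh.bc f).obj U₁).left)ᶜ :=
    ⟨⟨(V : Set ((EtCoh.bc f).obj U₁).left)ᶜ, hVclopen.compl.isOpen⟩, rfl⟩
  have hmemVc : ∀ p : ((EtCoh.bc f).obj U₁).left, p ∈ Vc ↔ p ∉ V := by
    intro p
    have : p ∈ (Vc : Set ((EtCoh.bc f).obj U₁).left) ↔
        p ∈ (V : Set ((EtCoh.bc f).obj U₁).left)ᶜ := by rw [hVc]
    exact this
  obtain ⟨hE, hhE⟩ : ∃ hE : subE ((EtCoh.bc f).obj U₁) V ⟶ V', hE.left = h :=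
    ⟨MorphismProperty.Over.homMk h hh1 trivial, rfl⟩
  obtain ⟨U, u, c₁, c₀, hc₁, hc₀⟩ := exists_common U₁ U₀ u₁ u₀
  obtain ⟨A, hA⟩ : ∃ A : ((EtCoh.bc f).obj U).left.Opens,
      A = ((EtCoh.bc f).map c₁).left ⁻¹ᵁ V := ⟨_, rfl⟩
  obtain ⟨B, hB⟩ : ∃ B : ((EtCoh.bc f).obj U).left.Opens,
      B = ((EtCoh.bc f).map c₁).left ⁻¹ᵁ Vc := ⟨_, rfl⟩
  have hAmem : ∀ p : ((EtCoh.bc f).obj U).left, p ∈ A ↔ ((EtCoh.bc f).map c₁).left p ∈ V := by
    intro p; rw [hA]; exact Iff.rfl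
  have hBmem : ∀ p : ((EtCoh.bc f).obj U).left, p ∈ B ↔ ((EtCoh.bc f).map c₁).left p ∉ V := by
    intro p; rw [hB]; exact (hmemVc _)
  obtain ⟨mA, hmA⟩ := exists_subE_lift ((EtCoh.bc f).map c₁) A V (fun p hp => (hAmem p).1 hp)
  obtain ⟨s, hs1, -⟩ := glue_two F ((EtCoh.bc f).obj U) A B
    (fun p => (em (((EtCoh.bc f).map c₁).left p ∈ V)).imp (fun hp => (hAmem p).2 hp)
      (fun hp => (hBmem p).2 hp))
    (fun p hp hp' => (hBmem p).1 hp' ((hAmem p).1 hp))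
    (F.obj.map (mA ≫ hE).op τ)
    (F.obj.map (subι ((EtCoh.bc f).obj U) B ≫ (EtCoh.bc f).map c₀).op σ₀)
  refine ⟨(Scheme.pointSmallEtale η).toPresheafFiber U u ((EtDesc.pushSh f).obj F).obj s, ?_⟩
  rw [psiS_germ]
  have hinA : ptLeft (liftPt f ξ₀ hξ₀ U u) default ∈ A := by
    rw [hAmem, liftPt_map_apply, hc₁]
    exact hmem
  obtain ⟨w, hw⟩ := exists_subPt ((EtCoh.bc f).obj U) A (liftPt f ξ₀ hξ₀ U u) hinA
  have hw2 : (Scheme.pointSmallEtale ξ₀).fiber.map (mA ≫ hE) w = v' := by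
    apply ptLeft_ext
    have k1 : ptLeft ((Scheme.pointSmallEtale ξ₀).fiber.map (mA ≫ hE) w) =
        (ptLeft w ≫ mA.left) ≫ h := by
      rw [ptLeft_map, ← hhE, Category.assoc]
      rfl
    rw [k1]
    apply hh2
    have k2 : (ptLeft w ≫ mA.left) ≫ V.ι =
        ptLeft ((Scheme.pointSmallEtale ξ₀).fiber.map
          (mA ≫ subι ((EtCoh.bc f).obj U₁) V) w) := by
      rw [ptLeft_map, Category.assoc]
      rfl
    rw [k2, hmA, CategoryTheory.Functor.map_comp_apply, hw, liftPt_map, hc₁]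
  have e1 := (Scheme.pointSmallEtale ξ₀).toPresheafFiber_w_apply
    (subι ((EtCoh.bc f).obj U) A) w F.obj s
  rw [hw] at e1
  have e2 := (Scheme.pointSmallEtale ξ₀).toPresheafFiber_w_apply (mA ≫ hE) w F.obj τ
  rw [hw2] at e2
  exact e1.symm.trans ((congrArg (fun q => (Scheme.pointSmallEtale ξ₀).toPresheafFiber
    (subE ((EtCoh.bc f).obj U) A) w F.obj q) hs1).trans e2)

/-- If two elements of the stalk of `f_* F` at `η` have the same germ at `ξ₀`, then they have the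
same germ at all geometric points of a neighbourhood of `ξ₀` in `U ×_Y X`, for a suitable `U`. -/
theorem psiS_agree_nbhd
    (δ δ' : ToType ((Scheme.pointSmallEtale η).presheafFiber.obj ((EtDesc.pushSh f).obj F).obj))
    (ξ₀ : Spec (CommRingCat.of Ω) ⟶ X) (hξ₀ : ξ₀ ≫ f = η)
    (h0 : psiS f F ξ₀ hξ₀ δ = psiS f F ξ₀ hξ₀ δ') :
    ∃ (U : Y.Etale) (u : (Scheme.pointSmallEtale η).fiber.obj U)
      (O : ((EtCoh.bc f).obj U).left.Opens),
      ptLeft (liftPt f ξ₀ hξ₀ U u) default ∈ O ∧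
      ∀ (ξ₁ : Spec (CommRingCat.of Ω) ⟶ X) (hξ₁ : ξ₁ ≫ f = η),
        ptLeft (liftPt f ξ₁ hξ₁ U u) default ∈ O →
          psiS f F ξ₁ hξ₁ δ = psiS f F ξ₁ hξ₁ δ' := by
  obtain ⟨U, u, s, s', rfl, rfl⟩ :=
    (Scheme.pointSmallEtale η).toPresheafFiber_jointly_surjective₂ δ δ'
  obtain ⟨W, hW⟩ := exists_opens_agree F ((EtCoh.bc f).obj U) s s'
  refine ⟨U, u, W, ?_, ?_⟩
  · rw [psiS_germ, psiS_germ] at h0
    obtain ⟨V, g, v, hv, heq⟩ := ((Scheme.pointSmallEtale ξ₀).toPresheafFiber_eq_iff' _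
      (liftPt f ξ₀ hξ₀ U u) s s').1 h0
    have hsub := (hW V g).1 heq
    rw [← hv]
    exact hsub ⟨ptLeft v default, rfl⟩
  · intro ξ₁ hξ₁ hin
    rw [psiS_germ, psiS_germ]
    obtain ⟨w, hw⟩ := exists_subPt ((EtCoh.bc f).obj U) W (liftPt f ξ₁ hξ₁ U u) hin
    have hs' : F.obj.map (subι ((EtCoh.bc f).obj U) W).op s =
        F.obj.map (subι ((EtCoh.bc f).obj U) W).op s' :=
      (hW _ (subι ((EtCoh.bc f).obj U) W)).2 (by
        rintro _ ⟨p, rfl⟩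
        exact p.2)
    have e1 := (Scheme.pointSmallEtale ξ₁).toPresheafFiber_w_apply
      (subι ((EtCoh.bc f).obj U) W) w F.obj s
    have e2 := (Scheme.pointSmallEtale ξ₁).toPresheafFiber_w_apply
      (subι ((EtCoh.bc f).obj U) W) w F.obj s'
    rw [hw] at e1 e2
    exact e1.symm.trans ((congrArg (fun q => (Scheme.pointSmallEtale ξ₁).toPresheafFiber
      (subE ((EtCoh.bc f).obj U) W) w F.obj q) hs').trans e2)

end Glue

section Rel

variable {X Y X' Y' : Scheme.{u}} (f : X ⟶ Y) (g : Y' ⟶ Y) (f' : X' ⟶ Y') (g' : X' ⟶ X)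
  (F : EtDesc.Sh X)

set_option maxHeartbeats 1600000 in
/-- The local datum. -/
theorem local_datumS [IsIntegralHom f] (h : IsPullback g' f' f g)
    (η' : Spec (CommRingCat.of Ω) ⟶ Y')
    (U₀ : Y.Etale) (u₀ : (Scheme.pointSmallEtale (η' ≫ g)).fiber.obj U₀)
    (σ₀ : F.obj.obj (op ((EtCoh.bc f).obj U₀)))
    (z : ToType ((Scheme.pointSmallEtale η').presheafFiber.obj
      ((EtDesc.pushSh f').obj ((EtDesc.pullSh g').obj F)).obj))
    (ξ₀' : Spec (CommRingCat.of Ω) ⟶ X') (hξ₀' : ξ₀' ≫ f' = η')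
    (hρ₀ : (ξ₀' ≫ g') ≫ f = η' ≫ g) :
    ∃ (U : Y.Etale) (u : (Scheme.pointSmallEtale (η' ≫ g)).fiber.obj U)
      (O : ((EtCoh.bc f).obj U).left.Opens)
      (r : ToType (F.obj.obj (op ((EtCoh.bc f).obj U)))),
      ptLeft (liftPt f (ξ₀' ≫ g') hρ₀ U u) default ∈ O ∧
      ∀ (ξ₁' : Spec (CommRingCat.of Ω) ⟶ X') (hξ₁' : ξ₁' ≫ f' = η')
        (hρ₁ : (ξ₁' ≫ g') ≫ f = η' ≫ g),
        ptLeft (liftPt f (ξ₁' ≫ g') hρ₁ U u) default ∈ O →
        psiS f' ((EtDesc.pullSh g').obj F) ξ₁' hξ₁' z =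
          (stalkPullIsoSh g' ξ₁').inv.app F
            ((Scheme.pointSmallEtale (ξ₁' ≫ g')).toPresheafFiber ((EtCoh.bc f).obj U)
              (liftPt f (ξ₁' ≫ g') hρ₁ U u) F.obj r) := by
  haveI : IsIntegralHom f' := isIntegralHom_of_isPullback f g f' g' h
  have hJ : ∀ ξ' : Spec (CommRingCat.of Ω) ⟶ X',
      Function.Bijective ((stalkPullIsoSh g' ξ').inv.app F) :=
    fun ξ' => ConcreteCategory.bijective_of_isIso _
  obtain ⟨e₀, he₀⟩ := (hJ ξ₀').2 (psiS f' ((EtDesc.pullSh g').obj F) ξ₀' hξ₀' z)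
  obtain ⟨y₀, hy₀⟩ := exists_psiS_int f F U₀ u₀ σ₀ (ξ₀' ≫ g') hρ₀ e₀
  obtain ⟨zt, hzt⟩ : ∃ zt : ToType ((Scheme.pointSmallEtale η').presheafFiber.obj
      ((EtDesc.pushSh f').obj ((EtDesc.pullSh g').obj F)).obj),
      zt = ((Scheme.pointSmallEtale η').sheafFiber (A := Type (u + 1))).map
        (EtBC.baseChange0Sh f g f' g' h.w F)
        ((stalkPullIsoSh g η').inv.app ((EtDesc.pushSh f).obj F) y₀) := ⟨_, rfl⟩
  have hmc : ∀ (ξ' : Spec (CommRingCat.of Ω) ⟶ X') (hξ' : ξ' ≫ f' = η')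
      (hρ : (ξ' ≫ g') ≫ f = η' ≫ g),
      psiS f' ((EtDesc.pullSh g').obj F) ξ' hξ' zt =
        (stalkPullIsoSh g' ξ').inv.app F (psiS f F (ξ' ≫ g') hρ y₀) := by
    intro ξ' hξ' hρ
    rw [hzt]
    exact mcS f g f' g' h.w F η' ξ' hξ' hρ y₀
  have hδ0 : psiS f' ((EtDesc.pullSh g').obj F) ξ₀' hξ₀' z =
      psiS f' ((EtDesc.pullSh g').obj F) ξ₀' hξ₀' zt := by
    rw [hmc ξ₀' hξ₀' hρ₀, hy₀, he₀]
  obtain ⟨U₃, u₃, O₃, hmem₃, hvan⟩ :=
    psiS_agree_nbhd f' ((EtDesc.pullSh g').obj F) z zt ξ₀' hξ₀' hδ0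
  obtain ⟨U₄, u₄, O₄, hmem₄, himp⟩ := nbhd_rel f g f' g' h η' U₃ u₃ O₃ ξ₀' hξ₀' hρ₀ hmem₃
  obtain ⟨U₅, u₅, r₅, hr₅⟩ :=
    (Scheme.pointSmallEtale (η' ≫ g)).toPresheafFiber_jointly_surjective y₀
  obtain ⟨U, u, c₄, c₅, hc₄, hc₅⟩ := exists_common U₄ U₅ u₄ u₅
  refine ⟨U, u, ((EtCoh.bc f).map c₄).left ⁻¹ᵁ O₄, F.obj.map ((EtCoh.bc f).map c₅).op r₅, ?_, ?_⟩
  · show ((EtCoh.bc f).map c₄).left (ptLeft (liftPt f (ξ₀' ≫ g') hρ₀ U u) default) ∈ O₄
    rw [liftPt_map_apply, hc₄]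
    exact hmem₄
  · intro ξ₁' hξ₁' hρ₁ hin
    have hin' : ((EtCoh.bc f).map c₄).left (ptLeft (liftPt f (ξ₁' ≫ g') hρ₁ U u) default) ∈ O₄ :=
      hin
    rw [liftPt_map_apply, hc₄] at hin'
    have h3 := himp ξ₁' hξ₁' hρ₁ hin'
    have h4 := hvan ξ₁' hξ₁' h3
    rw [h4, hmc ξ₁' hξ₁' hρ₁, ← hr₅, psiS_germ]
    have h5 := (Scheme.pointSmallEtale (ξ₁' ≫ g')).toPresheafFiber_w_apply
      ((EtCoh.bc f).map c₅) (liftPt f (ξ₁' ≫ g') hρ₁ U u) F.obj r₅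
    rw [liftPt_map, hc₅] at h5
    rw [h5]

set_option maxHeartbeats 1600000 in
theorem surjective_stalk_map_intS [IsIntegralHom f] (h : IsPullback g' f' f g)
    (η' : Spec (CommRingCat.of Ω) ⟶ Y') :
    Function.Surjective (((Scheme.pointSmallEtale η').sheafFiber (A := Type (u + 1))).map
      (EtBC.baseChange0Sh f g f' g' h.w F)) := by
  haveI : IsIntegralHom f' := isIntegralHom_of_isPullback f g f' g' h
  intro z
  have hJ : ∀ ξ' : Spec (CommRingCat.of Ω) ⟶ X',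
      Function.Bijective ((stalkPullIsoSh g' ξ').inv.app F) :=
    fun ξ' => ConcreteCategory.bijective_of_isIso _
  have hlift : ∀ x : {ξ : Spec (CommRingCat.of Ω) ⟶ X // ξ ≫ f = η' ≫ g},
      ∃ ξ' : Spec (CommRingCat.of Ω) ⟶ X', ξ' ≫ g' = x.1 ∧ ξ' ≫ f' = η' :=
    fun x => ⟨h.lift x.1 η' x.2, h.lift_fst _ _ _, h.lift_snd _ _ _⟩
  choose lf hlf1 hlf2 using hlift
  have hne : ∀ (ξ : Spec (CommRingCat.of Ω) ⟶ X) (_ : ξ ≫ f = η' ≫ g),
      Nonempty (ToType ((Scheme.pointSmallEtale ξ).presheafFiber.obj F.obj)) := by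
    intro ξ hξ
    obtain ⟨ξ', h1, h2⟩ : ∃ ξ' : Spec (CommRingCat.of Ω) ⟶ X', ξ' ≫ g' = ξ ∧ ξ' ≫ f' = η' :=
      ⟨h.lift ξ η' hξ, h.lift_fst _ _ _, h.lift_snd _ _ _⟩
    subst h1
    obtain ⟨e, -⟩ := (hJ ξ').2 (psiS f' ((EtDesc.pullSh g').obj F) ξ' h2 z)
    exact ⟨e⟩
  obtain ⟨U₀, u₀, ⟨σ₀⟩⟩ := exists_base_section f F hne
  have hdat : ∀ x : {ξ : Spec (CommRingCat.of Ω) ⟶ X // ξ ≫ f = η' ≫ g},
      ∃ (U : Y.Etale) (u : (Scheme.pointSmallEtale (η' ≫ g)).fiber.obj U)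
        (O : ((EtCoh.bc f).obj U).left.Opens)
        (r : ToType (F.obj.obj (op ((EtCoh.bc f).obj U)))),
        ptLeft (liftPt f x.1 x.2 U u) default ∈ O ∧
        ∀ (ξ₁' : Spec (CommRingCat.of Ω) ⟶ X') (hξ₁' : ξ₁' ≫ f' = η')
          (hρ₁ : (ξ₁' ≫ g') ≫ f = η' ≫ g),
          ptLeft (liftPt f (ξ₁' ≫ g') hρ₁ U u) default ∈ O →
          psiS f' ((EtDesc.pullSh g').obj F) ξ₁' hξ₁' z =
            (stalkPullIsoSh g' ξ₁').inv.app F
              ((Scheme.pointSmallEtale (ξ₁' ≫ g')).toPresheafFiber ((EtCoh.bc f).obj U)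
                (liftPt f (ξ₁' ≫ g') hρ₁ U u) F.obj r) := by
    intro x
    have hρ₀ : (lf x ≫ g') ≫ f = η' ≫ g := by rw [hlf1]; exact x.2
    obtain ⟨U, u, O, r, h1, h2⟩ :=
      local_datumS f g f' g' F h η' U₀ u₀ σ₀ z (lf x) (hlf2 x) hρ₀
    refine ⟨U, u, O, r, ?_, h2⟩
    rw [← liftPt_congr f (hlf1 x) hρ₀ x.2 U u]
    exact h1
  choose Ud ud Od rd hmemd hdatd using hdat
  obtain ⟨U, u, s, hs⟩ := glue_local f F Ud ud Od hmemd
    (fun x => F.obj.map (subι ((EtCoh.bc f).obj (Ud x)) (Od x)).op (rd x))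
  refine ⟨(stalkPullIsoSh g η').inv.app ((EtDesc.pushSh f).obj F)
    ((Scheme.pointSmallEtale (η' ≫ g)).toPresheafFiber U u ((EtDesc.pushSh f).obj F).obj s), ?_⟩
  apply eq_of_psiS_eq_int f' ((EtDesc.pullSh g').obj F)
  intro ξ₁' hξ₁'
  have hρ₁ : (ξ₁' ≫ g') ≫ f = η' ≫ g := by
    rw [Category.assoc, h.w, ← Category.assoc, hξ₁']
  rw [mcS f g f' g' h.w F η' ξ₁' hξ₁' hρ₁, psiS_germ]
  obtain ⟨x, w, hw, hgerm⟩ := hs (ξ₁' ≫ g') hρ₁
  have e := (Scheme.pointSmallEtale (ξ₁' ≫ g')).toPresheafFiber_w_apply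
    (subι ((EtCoh.bc f).obj (Ud x)) (Od x)) w F.obj (rd x)
  rw [hw] at e
  have hin : ptLeft (liftPt f (ξ₁' ≫ g') hρ₁ (Ud x) (ud x)) default ∈ Od x := by
    have k1 : ptLeft ((Scheme.pointSmallEtale (ξ₁' ≫ g')).fiber.map
        (subι ((EtCoh.bc f).obj (Ud x)) (Od x)) w) = ptLeft w ≫ (Od x).ι := rfl
    have k2 : (ptLeft w ≫ (Od x).ι) default = (Od x).ι (ptLeft w default) :=
      Scheme.Hom.comp_apply _ _ _
    rw [← hw, k1, k2]
    exact (ptLeft w default).2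
  rw [hgerm, e]
  exact (hdatd x ξ₁' hξ₁' hρ₁ hin).symm

variable [IsIntegralHom f] (h : IsPullback g' f' f g)

include h in
theorem isIso_baseChange0Sh_int : IsIso (EtBC.baseChange0Sh f g f' g' h.w F) := by
  haveI : Sheaf.IsLocallyInjective (EtBC.baseChange0Sh f g f' g' h.w F) :=
    isLocallyInjective_of_stalks (EtBC.baseChange0Sh f g f' g' h.w F).hom
      (fun K _ _ η' => injective_stalk_map_intS f g f' g' h F η')
  haveI : Sheaf.IsLocallySurjective (EtBC.baseChange0Sh f g f' g' h.w F) :=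
    isLocallySurjective_of_stalks (EtBC.baseChange0Sh f g f' g' h.w F).hom
      (fun K _ _ η' => surjective_stalk_map_intS f g f' g' F h η')
  exact (Sheaf.isLocallyBijective_iff_isIso _).1 ⟨inferInstance, inferInstance⟩

end Rel

end Groth.Agent.Lib.EtIntShH7
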