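import Mathlib
import Groth.Prelude.Def_W4c6modpairsegaMP

/-!
# Étale pullback preserves "`O_X` integrally closed in `O_{X°}`" (helper3)

Uses Mathlib's `TensorProduct.toIntegralClosure_bijective_of_smooth` (integral closure commutes with
smooth base change).
-/

set_option autoImplicit false
set_option linter.all false
set_option maxHeartbeats 1600000

universe u

open CategoryTheory AlgebraicGeometry TopologicalSpace Opposite TensorProduct

namespace Groth.Agent.Lib.EtIntClH3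

section Algebra

/-- Algebra core: if `A` is integrally closed in `A_f` and `A → B` is smooth, then `B` is
integrally closed in `B_f`. -/
theorem alg_core {A B Af Bf : Type u} [CommRing A] [CommRing B] [CommRing Af] [CommRing Bf]
    [Algebra A B] [Algebra.Smooth A B] [Algebra A Af] [Algebra B Bf]
    (f : A) [IsLocalization.Away f Af] [IsLocalization.Away (algebraMap A B f) Bf]
    (hA : ∀ s : Af, IsIntegral A s → s ∈ Set.range (algebraMap A Af))
    (t : Bf) (ht : IsIntegral B t) : t ∈ Set.range (algebraMap B Bf) := by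
  -- `B ⊗[A] Af` is the localization of `B` away from `f`
  have hloc : IsLocalization (Algebra.algebraMapSubmonoid B (Submonoid.powers f)) (B ⊗[A] Af) :=
    IsLocalization.tensor (S := B) Af (Submonoid.powers f)
  have hpow : Algebra.algebraMapSubmonoid B (Submonoid.powers f) =
      Submonoid.powers (algebraMap A B f) := by
    simp [Algebra.algebraMapSubmonoid, Submonoid.map_powers]
  rw [hpow] at hloc
  let e : (B ⊗[A] Af) ≃ₐ[B] Bf :=
    IsLocalization.algEquiv (Submonoid.powers (algebraMap A B f)) (B ⊗[A] Af) Bf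
  have ht' : IsIntegral B (e.symm t) := ht.map e.symm.toAlgHom
  -- every element of `B ⊗ integralClosure A Af` is of the form `b ⊗ 1`
  have hsurj : Function.Surjective (algebraMap A (integralClosure A Af)) := by
    intro c
    obtain ⟨a, ha⟩ := hA c.1 c.2
    exact ⟨a, Subtype.ext ha⟩
  have hall : ∀ z : B ⊗[A] integralClosure A Af, ∃ b : B, z = b ⊗ₜ[A] (1 : integralClosure A Af) := by
    intro z
    induction z using TensorProduct.induction_on with
    | zero => exact ⟨0, by simp⟩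
    | tmul b c =>
      obtain ⟨a, rfl⟩ := hsurj c
      refine ⟨a • b, ?_⟩
      rw [Algebra.algebraMap_eq_smul_one, TensorProduct.tmul_smul, TensorProduct.smul_tmul']
    | add x y hx hy =>
      obtain ⟨b, rfl⟩ := hx
      obtain ⟨b', rfl⟩ := hy
      exact ⟨b + b', by rw [TensorProduct.add_tmul]⟩
  obtain ⟨z, hz⟩ := (TensorProduct.toIntegralClosure_bijective_of_smooth (R := A) (S := B)
    (B := Af)).2 ⟨e.symm t, ht'⟩
  have hz' := hall z
  obtain ⟨b, rfl⟩ := hz'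
  refine ⟨b, ?_⟩
  have h1 : ((TensorProduct.toIntegralClosure A B Af) (b ⊗ₜ[A] 1) : B ⊗[A] Af) = b ⊗ₜ[A] 1 := by
    simp [TensorProduct.toIntegralClosure]
  have h2 : e.symm t = b ⊗ₜ[A] (1 : Af) := by
    rw [← h1, hz]
  have h3 : t = e (b ⊗ₜ[A] (1 : Af)) := by
    rw [← h2, AlgEquiv.apply_symm_apply]
  rw [h3]
  have h4 : (b ⊗ₜ[A] (1 : Af) : B ⊗[A] Af) = algebraMap B (B ⊗[A] Af) b := by
    simp [Algebra.TensorProduct.algebraMap_apply]
  rw [h4, AlgEquiv.commutes]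

end Algebra


section Geometry

variable {X Y : Scheme.{u}}

/-- Restriction of sections, as a ring homomorphism. -/
noncomputable abbrev res (Y : Scheme.{u}) {W V : Y.Opens} (h : W ≤ V) : Γ(Y, V) →+* Γ(Y, W) :=
  (Y.presheaf.map (homOfLE h).op).hom

lemma res_res {W₁ W₂ W₃ : Y.Opens} (h₁ : W₁ ≤ W₂) (h₂ : W₂ ≤ W₃) (s : Γ(Y, W₃)) :
    res Y h₁ (res Y h₂ s) = res Y (h₁.trans h₂) s := by
  show (Y.presheaf.map (homOfLE h₂).op ≫ Y.presheaf.map (homOfLE h₁).op) s = _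
  rw [← Functor.map_comp]
  rfl

lemma res_comp {W₁ W₂ W₃ : Y.Opens} (h₁ : W₁ ≤ W₂) (h₂ : W₂ ≤ W₃) :
    (res Y h₁).comp (res Y h₂) = res Y (h₁.trans h₂) :=
  RingHom.ext fun s => res_res h₁ h₂ s

/-- `Γ(Y, V)` is integrally closed in `Γ(Y, W)` along the restriction map. -/
def ICl (Y : Scheme.{u}) (V W : Y.Opens) (h : W ≤ V) : Prop :=
  ∀ s : Γ(Y, W), (res Y h).IsIntegralElem s → s ∈ Set.range (res Y h)

lemma ICl_congr {V W₁ W₂ : Y.Opens} (e : W₁ = W₂) (h₁ : W₁ ≤ V) (h₂ : W₂ ≤ V)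
    (H : ICl Y V W₁ h₁) : ICl Y V W₂ h₂ := by
  subst e
  exact H

/-- Integrality is preserved by restriction to smaller opens. -/
lemma isIntegralElem_res {V V' W W' : Y.Opens} (hWV : W ≤ V) (hW'V' : W' ≤ V') (hV'V : V' ≤ V)
    (hW'W : W' ≤ W) (t : Γ(Y, W)) (ht : (res Y hWV).IsIntegralElem t) :
    (res Y hW'V').IsIntegralElem (res Y hW'W t) := by
  obtain ⟨p, hp, hpt⟩ := ht
  refine ⟨p.map (res Y hV'V), hp.map _, ?_⟩
  rw [Polynomial.eval₂_map, res_comp, ← res_comp hW'W hWV, ← Polynomial.hom_eval₂, hpt, map_zero]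

theorem bridge (g : Y ⟶ X) [Etale g] {U : X.Opens} (hU : IsAffineOpen U) {V : Y.Opens}
    (hV : IsAffineOpen V) (e : V ≤ g ⁻¹ᵁ U) (f : Γ(X, U))
    (H : ICl X U (X.basicOpen f) (X.basicOpen_le f)) :
    ICl Y V (Y.basicOpen ((g.appLE U V e).hom f)) (Y.basicOpen_le _) := by
  have hφ : (g.appLE U V e).hom.Etale :=
    HasRingHomProperty.appLE @Etale g inferInstance ⟨U, hU⟩ ⟨V, hV⟩ e
  letI : Algebra Γ(X, U) Γ(Y, V) := (g.appLE U V e).hom.toAlgebra
  haveI : Algebra.Etale Γ(X, U) Γ(Y, V) := hφ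
  haveI := hU.isLocalization_basicOpen f
  haveI : IsLocalization.Away (algebraMap Γ(X, U) Γ(Y, V) f)
      Γ(Y, Y.basicOpen ((g.appLE U V e).hom f)) := hV.isLocalization_basicOpen _
  intro t ht
  exact alg_core (A := Γ(X, U)) (B := Γ(Y, V)) (Af := Γ(X, X.basicOpen f))
    (Bf := Γ(Y, Y.basicOpen ((g.appLE U V e).hom f))) f (fun s hs => H s hs) t ht

lemma inf_interior_eq (I : X.IdealSheafData) (U : X.affineOpens) (f : Γ(X, U.1))
    (hf : I.ideal U = Ideal.span {f}) : U.1 ⊓ ModPair.interior I = X.basicOpen f := by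
  ext y
  constructor
  · rintro ⟨hyU, hy⟩
    have h1 : y ∉ I.support := hy
    rw [Scheme.IdealSheafData.mem_support_iff_of_mem hyU, hf, Scheme.zeroLocus_span,
      Scheme.zeroLocus_singleton] at h1
    simpa using h1
  · intro hy
    have hyU : y ∈ U.1 := X.basicOpen_le f hy
    refine ⟨hyU, ?_⟩
    show y ∉ I.support
    rw [Scheme.IdealSheafData.mem_support_iff_of_mem hyU, hf, Scheme.zeroLocus_span,
      Scheme.zeroLocus_singleton]
    simpa using hy

theorem local_data (IX : X.IdealSheafData) (hX : BlowUp.IsEffCartierIdeal IX) (g : Y ⟶ X)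
    (W : Y.Opens) (y : Y) (hy : y ∈ W) :
    ∃ (U : X.Opens) (_ : IsAffineOpen U) (f : Γ(X, U)) (V : Y.Opens) (_ : IsAffineOpen V)
      (e : V ≤ g ⁻¹ᵁ U), y ∈ V ∧ V ≤ W ∧ f ∈ nonZeroDivisors Γ(X, U) ∧
      U ⊓ ModPair.interior IX = X.basicOpen f ∧
      V ⊓ g ⁻¹ᵁ ModPair.interior IX = Y.basicOpen ((g.appLE U V e).hom f) := by
  obtain ⟨U, hxU, f, hf, hI⟩ := hX (g y)
  obtain ⟨_, ⟨V, hV, rfl⟩, hyV, hVle⟩ := Y.isBasis_affineOpens.exists_subset_of_mem_open
    (show y ∈ ((W ⊓ g ⁻¹ᵁ U.1 : Y.Opens) : Set Y) from ⟨hy, hxU⟩) (W ⊓ g ⁻¹ᵁ U.1).isOpen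
  have e : V ≤ g ⁻¹ᵁ U.1 := fun x hx => (hVle hx).2
  have hUD := inf_interior_eq IX U f hI
  refine ⟨U.1, U.2, f, V, hV, e, hyV, fun x hx => (hVle hx).1, hf, hUD, ?_⟩
  have h2 := Scheme.basicOpen_appLE g V U.1 e f
  rw [show (g.appLE U.1 V e).hom f = g.appLE U.1 V e f from rfl, h2, ← hUD]
  ext x
  constructor
  · rintro ⟨hxV, hxD⟩
    exact ⟨hxV, e hxV, hxD⟩
  · rintro ⟨hxV, -, hxD⟩
    exact ⟨hxV, hxD⟩

theorem res_injective (IX : X.IdealSheafData) (hX : BlowUp.IsEffCartierIdeal IX) (g : Y ⟶ X)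
    [Flat g] (W : Y.Opens) :
    Function.Injective (res Y (inf_le_left : W ⊓ g ⁻¹ᵁ ModPair.interior IX ≤ W)) := by
  rw [injective_iff_map_eq_zero]
  intro s hs
  apply Y.IsSheaf.section_ext
  intro y hy
  obtain ⟨U, hU, f, V, hV, e, hyV, hVW, hf, hUD, hVE⟩ := local_data IX hX g W y hy
  refine ⟨V, hVW, hyV, ?_⟩
  rw [map_zero]
  show res Y hVW s = 0
  have hle : Y.basicOpen ((g.appLE U V e).hom f) ≤ W ⊓ g ⁻¹ᵁ ModPair.interior IX := by
    rw [← hVE]; exact inf_le_inf_right _ hVW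
  have hz : res Y (Y.basicOpen_le ((g.appLE U V e).hom f)) (res Y hVW s) = 0 := by
    have : res Y (Y.basicOpen_le ((g.appLE U V e).hom f)) (res Y hVW s) =
        res Y hle (res Y inf_le_left s) := by rw [res_res, res_res]
    rw [this, hs, map_zero]
  have hφ : (g.appLE U V e).hom.Flat :=
    HasRingHomProperty.appLE @Flat g inferInstance ⟨U, hU⟩ ⟨V, hV⟩ e
  letI : Algebra Γ(X, U) Γ(Y, V) := (g.appLE U V e).hom.toAlgebra
  haveI : Module.Flat Γ(X, U) Γ(Y, V) := hφ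
  have hreg : IsSMulRegular Γ(Y, V) f := Module.Flat.isSMulRegular_of_nonZeroDivisors hf
  have hnzd : (g.appLE U V e).hom f ∈ nonZeroDivisors Γ(Y, V) := by
    rw [mem_nonZeroDivisors_iff_right]
    intro x hx
    apply hreg
    show f • x = f • (0 : Γ(Y, V))
    rw [smul_zero, Algebra.smul_def, mul_comm]
    exact hx
  haveI := hV.isLocalization_basicOpen ((g.appLE U V e).hom f)
  have hinj := IsLocalization.injective Γ(Y, Y.basicOpen ((g.appLE U V e).hom f))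
    (M := Submonoid.powers ((g.appLE U V e).hom f)) (Submonoid.powers_le.mpr hnzd)
  apply hinj
  rw [map_zero]
  exact hz

theorem glue (Y : Scheme.{u}) (E : Y.Opens)
    (hinj : ∀ W : Y.Opens, Function.Injective (res Y (inf_le_left : W ⊓ E ≤ W)))
    (V : Y.Opens) (t : Γ(Y, V ⊓ E))
    (hloc : ∀ y ∈ V, ∃ (V' : Y.Opens) (hV' : V' ≤ V), y ∈ V' ∧ ∃ b : Γ(Y, V'),
      res Y (inf_le_left : V' ⊓ E ≤ V') b = res Y (inf_le_inf_right E hV') t) :
    t ∈ Set.range (res Y (inf_le_left : V ⊓ E ≤ V)) := by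
  choose V' hV' hyV' b hb using hloc
  let ι := {y : Y // y ∈ V}
  let Wf : ι → Y.Opens := fun i => V' i.1 i.2
  have hWf : ∀ i, Wf i ≤ V := fun i => hV' i.1 i.2
  have hcover : V ≤ iSup Wf := by
    intro y hy
    rw [Opens.mem_iSup]
    exact ⟨⟨y, hy⟩, hyV' y hy⟩
  let sf : ∀ i : ι, Γ(Y, Wf i) := fun i => b i.1 i.2
  have hsf : ∀ i : ι, res Y (inf_le_left : Wf i ⊓ E ≤ Wf i) (sf i) =
      res Y (inf_le_inf_right E (hWf i)) t := fun i => hb i.1 i.2
  have hcompat : TopCat.Presheaf.IsCompatible Y.presheaf Wf sf := by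
    intro i j
    apply hinj (Wf i ⊓ Wf j)
    show res Y _ (res Y (inf_le_left : Wf i ⊓ Wf j ≤ Wf i) (sf i)) =
      res Y _ (res Y (inf_le_right : Wf i ⊓ Wf j ≤ Wf j) (sf j))
    have hi : (Wf i ⊓ Wf j) ⊓ E ≤ Wf i ⊓ E := inf_le_inf_right E inf_le_left
    have hj : (Wf i ⊓ Wf j) ⊓ E ≤ Wf j ⊓ E := inf_le_inf_right E inf_le_right
    have e1 : res Y (inf_le_left : (Wf i ⊓ Wf j) ⊓ E ≤ Wf i ⊓ Wf j)
        (res Y (inf_le_left : Wf i ⊓ Wf j ≤ Wf i) (sf i)) =
        res Y hi (res Y (inf_le_left : Wf i ⊓ E ≤ Wf i) (sf i)) := by rw [res_res, res_res]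
    have e2 : res Y (inf_le_left : (Wf i ⊓ Wf j) ⊓ E ≤ Wf i ⊓ Wf j)
        (res Y (inf_le_right : Wf i ⊓ Wf j ≤ Wf j) (sf j)) =
        res Y hj (res Y (inf_le_left : Wf j ⊓ E ≤ Wf j) (sf j)) := by rw [res_res, res_res]
    rw [e1, e2, hsf, hsf, res_res, res_res]
  obtain ⟨s, hs, -⟩ : ∃! s : Γ(Y, V), ∀ i : ι,
      Y.presheaf.map (homOfLE (hWf i)).op s = sf i :=
    Y.sheaf.existsUnique_gluing' Wf V (fun i => homOfLE (hWf i)) hcover sf hcompat
  refine ⟨s, ?_⟩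
  apply Y.IsSheaf.section_ext
  intro y hy
  have hyV : y ∈ V := hy.1
  let i : ι := ⟨y, hyV⟩
  refine ⟨Wf i ⊓ E, inf_le_inf_right E (hWf i), ⟨hyV' y hyV, hy.2⟩, ?_⟩
  show res Y (inf_le_inf_right E (hWf i)) (res Y inf_le_left s) = res Y _ t
  have e1 : res Y (inf_le_inf_right E (hWf i)) (res Y (inf_le_left : V ⊓ E ≤ V) s) =
      res Y (inf_le_left : Wf i ⊓ E ≤ Wf i) (res Y (hWf i) s) := by rw [res_res, res_res]
  rw [e1, show res Y (hWf i) s = sf i from hs i, hsf]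

/-- Main theorem: étale pullback preserves integral closedness of `O` in `O` of the interior. -/
theorem main (IX : X.IdealSheafData) (hX : BlowUp.IsEffCartierIdeal IX)
    (hint : ∀ U ∈ X.affineOpens, ICl X U (U ⊓ ModPair.interior IX) inf_le_left)
    (g : Y ⟶ X) [Etale g] :
    ∀ V ∈ Y.affineOpens, ICl Y V (V ⊓ g ⁻¹ᵁ ModPair.interior IX) inf_le_left := by
  intro V hV t ht
  apply glue Y (g ⁻¹ᵁ ModPair.interior IX) (res_injective IX hX g) V t
  intro y hy
  obtain ⟨U, hU, f, V', hV', e, hyV', hV'V, hf, hUD, hVE⟩ := local_data IX hX g V y hy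
  refine ⟨V', hV'V, hyV', ?_⟩
  have h1 : ICl X U (X.basicOpen f) (X.basicOpen_le f) :=
    ICl_congr hUD inf_le_left _ (hint U hU)
  have h2 := bridge g hU hV' e f h1
  have h3 : ICl Y V' (V' ⊓ g ⁻¹ᵁ ModPair.interior IX) inf_le_left :=
    ICl_congr hVE.symm _ _ h2
  obtain ⟨b, hb⟩ := h3 _ (isIntegralElem_res inf_le_left inf_le_left hV'V
    (inf_le_inf_right _ hV'V) t ht)
  exact ⟨b, hb⟩

end Geometry

end Groth.Agent.Lib.EtIntClH3
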