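import Mathlib
import Groth.Prelude.Def_BigSite
import Groth.Agent.Lib.EtIntProp_helper7

/-!
# Condition (B) for integral morphisms (helper7)
-/

set_option autoImplicit false
set_option backward.isDefEq.respectTransparency false
set_option linter.style.haveILetI false
universe u
open CategoryTheory CategoryTheory.Limits AlgebraicGeometry Opposite

namespace Groth.Agent.Lib.EtIntH7

open Groth.Agent.Lib.EtFinGeomH7 Groth.Agent.Lib.EtFinStalkH7 Groth.Agent.Lib.Kummer_helper7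

variable {X Y : Scheme.{u}} (f : X ⟶ Y)

theorem propB_point [IsIntegralHom f] (V : Scheme.{u}) (v : V ⟶ Y) [Etale v] (ι : Type u)
    (U : ι → Scheme.{u}) (g : ∀ i, U i ⟶ pullback f v) (hg : ∀ i, Etale (g i))
    (hcov : ∀ x : ↥(pullback f v), ∃ i, x ∈ Set.range (g i).base) (y : V) :
    ∃ (V' : Scheme.{u}) (v' : V' ⟶ V), Etale v' ∧ y ∈ Set.range v'.base ∧
      ∃ (μ : Type u) (W : μ → (pullback f (v' ≫ v)).Opens),
        (∀ a b, a ≠ b → Disjoint (W a) (W b)) ∧ (⨆ a, W a) = ⊤ ∧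
        ∀ a, ∃ (i : ι) (h : ((W a : (pullback f (v' ≫ v)).Opens) : Scheme.{u}) ⟶ U i),
          h ≫ g i = (W a).ι ≫ pullback.map f (v' ≫ v) f v (𝟙 X) v' (𝟙 Y)
            (by simp) (by simp) := by
  obtain ⟨A, hA, hyA, -⟩ := exists_isAffineOpen_mem_and_subset (x := y)
    (U := (⊤ : V.Opens)) trivial
  haveI : Etale (A.ι ≫ v) := inferInstance
  let Ua : Y.Etale := Scheme.Etale.mk (A.ι ≫ v)
  haveI : IsAffine Ua.left := hA
  haveI : IsIntegralHom (pr₁ f Ua) := inferInstanceAs (IsIntegralHom (pullback.fst Ua.hom f))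
  haveI : IsAffine ((EtCoh.bc f).obj Ua).left := isAffine_of_isAffineHom (pr₁ f Ua)
  have hτc : ((EtCoh.bc f).obj Ua).hom ≫ f = (pr₁ f Ua ≫ A.ι) ≫ v :=
    (pr₁_hom f Ua).symm.trans (Category.assoc _ _ _).symm
  obtain ⟨τ, hτ1, hτ2⟩ : ∃ τ : ((EtCoh.bc f).obj Ua).left ⟶ pullback f v,
      τ ≫ pullback.fst f v = ((EtCoh.bc f).obj Ua).hom ∧
      τ ≫ pullback.snd f v = pr₁ f Ua ≫ A.ι :=
    ⟨pullback.lift _ _ hτc, pullback.lift_fst _ _ _, pullback.lift_snd _ _ _⟩
  have hcov' : ∀ x : ((EtCoh.bc f).obj Ua).left,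
      ∃ i, x ∈ Set.range (pullback.snd (g i) τ).base := by
    intro x
    obtain ⟨i, u, hu⟩ := hcov (τ x)
    obtain ⟨z, -, hz⟩ := Scheme.Pullback.exists_preimage_pullback (f := g i) (g := τ) u x hu
    exact ⟨i, z, hz⟩
  obtain ⟨σ, hσ, B, hB, idx, b, hbet, hbcov⟩ := affine_refinement
    (fun i => pullback (g i) τ) (fun i => pullback.snd (g i) τ)
    (fun i => haveI := hg i; inferInstance) hcov'
  haveI := hσ
  haveI := hB
  let rk : ∀ k, B k ⟶ ((EtCoh.bc f).obj Ua).left :=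
    fun k => b k ≫ pullback.snd (g (idx k)) τ
  haveI : ∀ k, Etale (rk k) := hbet
  haveI : Etale (Sigma.desc rk) :=
    IsZariskiLocalAtSource.sigmaDesc (P := @Etale) (fun k => inferInstance)
  haveI : Etale ((EtCoh.bc f).obj Ua).hom := ((EtCoh.bc f).obj Ua).prop
  haveI : Surjective (Sigma.desc rk) := by
    apply Surjective.sigmaDesc_of_union_range_eq_univ
    rw [Set.eq_univ_iff_forall]
    intro x
    obtain ⟨k, hk⟩ := hbcov x
    exact Set.mem_iUnion.2 ⟨k, hk⟩
  let Wt : X.Etale := Scheme.Etale.mk (Sigma.desc rk ≫ ((EtCoh.bc f).obj Ua).hom)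
  let rt : Wt ⟶ (EtCoh.bc f).obj Ua := MorphismProperty.Over.homMk (Sigma.desc rk) rfl trivial
  haveI : IsAffine Wt.left := inferInstanceAs (IsAffine (∐ B))
  haveI : Surjective rt.left := inferInstanceAs (Surjective (Sigma.desc rk))
  obtain ⟨U', t, ι', O, hy, hOcov, hOdisj, hE⟩ := int_cover f Ua Wt rt ⟨y, hyA⟩
  choose E hE using hE
  have hEl : ∀ a, (E a).left ≫ Sigma.desc rk = (O a).ι ≫ ((EtCoh.bc f).map t).left :=
    fun a => congrArg (fun m => m.left) (hE a)
  have href := fun a => refine_sigma (O a) B (E a).left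
  choose T hTcov hTdisj hT using href
  choose hTle ψ hψ using hT
  haveI : Etale t.left := inferInstance
  obtain ⟨v', hv'⟩ : ∃ v' : U'.left ⟶ V, v' = t.left ≫ A.ι := ⟨_, rfl⟩
  haveI : Etale v' := by rw [hv']; infer_instance
  have hU' : v' ≫ v = U'.hom := by
    rw [hv']
    exact (Category.assoc _ _ _).trans (MorphismProperty.Over.w t)
  have hsc : pullback.snd f (v' ≫ v) ≫ U'.hom = pullback.fst f (v' ≫ v) ≫ f := by
    rw [← hU']
    exact pullback.condition.symm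
  obtain ⟨s, hs1, hs2⟩ : ∃ s : pullback f (v' ≫ v) ⟶ ((EtCoh.bc f).obj U').left,
      s ≫ pr₁ f U' = pullback.snd _ _ ∧ s ≫ ((EtCoh.bc f).obj U').hom = pullback.fst _ _ :=
    ⟨pullback.lift _ _ hsc, pullback.lift_fst _ _ _, pullback.lift_snd _ _ _⟩
  have hkey : s ≫ ((EtCoh.bc f).map t).left ≫ τ =
      pullback.map f (v' ≫ v) f v (𝟙 X) v' (𝟙 Y) (by simp) (by simp) := by
    apply pullback.hom_ext
    · rw [Category.assoc, Category.assoc, hτ1, map_hom, hs2]
      exact ((pullback.lift_fst _ _ _).trans (Category.comp_id _)).symm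
    · rw [Category.assoc, Category.assoc, hτ2, ← Category.assoc _ (pr₁ f Ua), map_pr₁,
        Category.assoc, ← Category.assoc s, hs1, ← hv']
      exact (pullback.lift_snd _ _ _).symm
  refine ⟨U'.left, v', inferInstance, ?_, ι' × σ, fun a => s ⁻¹ᵁ T a.1 a.2,
    ?_, ?_, ?_⟩
  · obtain ⟨u', hu'⟩ := hy
    refine ⟨u', ?_⟩
    have h2 : v' u' = A.ι (t.left u') := by
      rw [hv']
      exact Scheme.Hom.comp_apply _ _ _
    refine h2.trans ?_
    rw [hu']
    rfl
  · rintro ⟨a, k⟩ ⟨a', k'⟩ hne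
    rw [disjoint_iff_inf_le]
    rintro z ⟨h1, h2⟩
    have h1' : s z ∈ T a k := h1
    have h2' : s z ∈ T a' k' := h2
    have e1 : a = a' := hOdisj a a' (s z) (hTle a k h1') (hTle a' k' h2')
    subst e1
    have e2 : k = k' := hTdisj a k k' (s z) h1' h2'
    subst e2
    exact hne rfl
  · rw [eq_top_iff]
    intro z _
    obtain ⟨a, ha⟩ := hOcov (s z)
    obtain ⟨k, hk⟩ := hTcov a (s z) ha
    exact TopologicalSpace.Opens.mem_iSup.2 ⟨(a, k), hk⟩
  · rintro ⟨a, k⟩
    refine ⟨idx k, (s ∣_ T a k) ≫ ψ a k ≫ b k ≫ pullback.fst (g (idx k)) τ, ?_⟩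
    have h1 : ψ a k ≫ rk k = (T a k).ι ≫ ((EtCoh.bc f).map t).left := by
      have h2 : ψ a k ≫ rk k = (ψ a k ≫ Sigma.ι B k) ≫ Sigma.desc rk := by
        rw [Category.assoc, Sigma.ι_desc]
      rw [h2, hψ a k, Category.assoc, hEl a, ← Category.assoc, Scheme.homOfLE_ι]
    have h3 : (ψ a k ≫ b k ≫ pullback.fst (g (idx k)) τ) ≫ g (idx k) =
        (T a k).ι ≫ ((EtCoh.bc f).map t).left ≫ τ := by
      rw [Category.assoc, Category.assoc, pullback.condition, ← Category.assoc (b k),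
        ← Category.assoc (ψ a k)]
      show (ψ a k ≫ rk k) ≫ τ = _
      rw [h1, Category.assoc]
    show ((s ∣_ T a k) ≫ ψ a k ≫ b k ≫ pullback.fst (g (idx k)) τ) ≫ g (idx k) =
      (s ⁻¹ᵁ T a k).ι ≫ _
    rw [Category.assoc, h3, ← Category.assoc, morphismRestrict_ι, Category.assoc, hkey]

/-- Condition (B) for integral morphisms. -/
theorem propB_int [IsIntegralHom f] : BigSite.PropB f := by
  intro V v _ ι U g hg hcov
  have hpt := fun y : V => propB_point f V v ι U g hg hcov y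
  choose V' v' het hy hrest using hpt
  exact ⟨V, V', v', het, fun y => ⟨y, hy y⟩, hrest⟩

end Groth.Agent.Lib.EtIntH7
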