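import Mathlib

/-!
# Lifting étale algebras / affine étale schemes along a nil-thickening (helper7)
-/

open TensorProduct CategoryTheory CategoryTheory.Limits AlgebraicGeometry

universe u

set_option linter.style.haveILetI false

namespace Groth.Agent.Lib.EtLiftH7

/-- Lifting étale algebras along a surjection with nil kernel. -/
theorem exists_etale_lift {A A₀ B₀ : Type u} [CommRing A] [CommRing A₀] [CommRing B₀]
    [Algebra A A₀] [Algebra A₀ B₀] [Algebra A B₀] [IsScalarTower A A₀ B₀]
    (hsurj : Function.Surjective (algebraMap A A₀))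
    (hnil : ∀ a : A, algebraMap A A₀ a = 0 → IsNilpotent a) [Algebra.Etale A₀ B₀] :
    ∃ (B : Type u) (_ : CommRing B) (_ : Algebra A B), Algebra.Etale A B ∧
      Nonempty (A₀ ⊗[A] B ≃ₐ[A₀] B₀) := by
  classical
  have h0 : Algebra.IsStandardSmoothOfRelativeDimension 0 A₀ B₀ :=
    Algebra.Etale.iff_isStandardSmoothOfRelativeDimension_zero.mp inferInstance
  obtain ⟨ι, σ, hσ, hι, P, hP⟩ := h0.out
  letI : Fintype σ := Fintype.ofFinite σ
  haveI : P.HasCoeffs A := ⟨fun x _ => hsurj x⟩
  let P' : Algebra.PreSubmersivePresentation A (P.toPresentation.ModelOfHasCoeffs A) ι σ :=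
    P.toPreSubmersivePresentation.ofHasCoeffs A
  have hmap : MvPolynomial.map (algebraMap A A₀)
      (∑ i, P.jacobianRelationsOfHasCoeffs A i * P.relationOfHasCoeffs A i) =
      MvPolynomial.map (algebraMap A A₀)
        (P.jacobianOfHasCoeffs A * P.invJacobianOfHasCoeffs A - 1) := by
    simp [P.map_relationOfHasCoeffs, Algebra.SubmersivePresentation.jacobianRelations_spec]
  obtain ⟨D, hDdef⟩ : ∃ D : MvPolynomial ι A,
      D = ∑ i, P.jacobianRelationsOfHasCoeffs A i * P.relationOfHasCoeffs A i -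
      (P.jacobianOfHasCoeffs A * P.invJacobianOfHasCoeffs A - 1) := ⟨_, rfl⟩
  have hD0 : MvPolynomial.map (algebraMap A A₀) D = 0 := by
    rw [hDdef, map_sub, hmap, sub_self]
  have hDnil : IsNilpotent D := by
    rw [MvPolynomial.isNilpotent_iff]
    intro m
    apply hnil
    have := congrArg (MvPolynomial.coeff m) hD0
    simpa [MvPolynomial.coeff_map] using this
  have hunit : IsUnit P'.jacobian := by
    have hmk : (Ideal.Quotient.mk (Ideal.span <| Set.range (P.relationOfHasCoeffs A))
          (P.jacobianOfHasCoeffs A)) *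
        Ideal.Quotient.mk _ (P.invJacobianOfHasCoeffs A) = 1 - Ideal.Quotient.mk _ D := by
      rw [hDdef]
      simp only [map_sub, map_sum, map_mul, Ideal.Quotient.mk_span_range, mul_zero,
        Finset.sum_const_zero, map_one]
      ring
    have hu : IsUnit ((1 : P.toPresentation.ModelOfHasCoeffs A) -
        Ideal.Quotient.mk _ D) := (hDnil.map _).isUnit_one_sub
    rw [← hmk] at hu
    have h3 := isUnit_of_mul_isUnit_left hu
    have hjac : P'.jacobian = Ideal.Quotient.mk _ (P.jacobianOfHasCoeffs A) := by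
      rw [Algebra.PreSubmersivePresentation.jacobian_eq_jacobiMatrix_det]
      rfl
    rw [hjac]
    exact h3
  let P'' : Algebra.SubmersivePresentation A (P.toPresentation.ModelOfHasCoeffs A) ι σ :=
    { toPreSubmersivePresentation := P', jacobian_isUnit := hunit }
  have hdim : P''.dimension = 0 := hP
  haveI h1 : Algebra.IsStandardSmoothOfRelativeDimension 0 A
      (P.toPresentation.ModelOfHasCoeffs A) :=
    P''.isStandardSmoothOfRelativeDimension hdim
  exact ⟨P.toPresentation.ModelOfHasCoeffs A, inferInstance, inferInstance, inferInstance,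
    ⟨P.toPresentation.tensorModelOfHasCoeffsEquiv A⟩⟩

/-- `CommRingCat` version: pushout square. -/
theorem exists_isPushout {A A₀ B₀ : CommRingCat.{u}} (π : A ⟶ A₀) (φ₀ : A₀ ⟶ B₀)
    (hsurj : Function.Surjective π.hom) (hnil : ∀ a : A, π.hom a = 0 → IsNilpotent a)
    (het : φ₀.hom.Etale) :
    ∃ (B : CommRingCat.{u}) (φ : A ⟶ B) (ρ : B ⟶ B₀), φ.hom.Etale ∧ IsPushout π φ φ₀ ρ := by
  letI : Algebra A A₀ := π.hom.toAlgebra
  letI : Algebra A₀ B₀ := φ₀.hom.toAlgebra
  letI : Algebra A B₀ := (π ≫ φ₀).hom.toAlgebra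
  haveI : IsScalarTower A A₀ B₀ := IsScalarTower.of_algebraMap_eq' rfl
  haveI : Algebra.Etale A₀ B₀ := het
  obtain ⟨B, _, _, hB, ⟨e⟩⟩ := exists_etale_lift (A := A) (A₀ := A₀) (B₀ := B₀) hsurj hnil
  refine ⟨CommRingCat.of B, CommRingCat.ofHom (algebraMap A B),
    CommRingCat.ofHom ((e : A₀ ⊗[A] B →+* B₀).comp
      (Algebra.TensorProduct.includeRight : B →ₐ[A] A₀ ⊗[A] B).toRingHom), ?_, ?_⟩
  · exact RingHom.etale_algebraMap.mpr hB
  · have h := CommRingCat.isPushout_tensorProduct A A₀ B
    refine h.of_iso (Iso.refl _) (Iso.refl _) (Iso.refl _) e.toRingEquiv.toCommRingCatIso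
      ?_ ?_ ?_ ?_
    · rfl
    · rfl
    · ext x
      have h1 : (x ⊗ₜ[A] (1 : B) : A₀ ⊗[A] B) = algebraMap A₀ (A₀ ⊗[A] B) x := by
        rw [Algebra.TensorProduct.algebraMap_apply]; rfl
      simp
      rw [h1]
      exact e.commutes x
    · ext x
      simp

/-- Affine lifting: an étale morphism of affine schemes lifts along a surjective closed
immersion of the (affine) base. -/
theorem exists_lift_affine {T T₀ V₀ : Scheme.{u}} [IsAffine T] [IsAffine V₀] (j : T₀ ⟶ T)
    [IsClosedImmersion j] [Surjective j] (q : V₀ ⟶ T₀) [Etale q] :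
    ∃ (V : Scheme.{u}) (p : V ⟶ T) (k : V₀ ⟶ V), Etale p ∧ IsPullback k q p j := by
  haveI : IsAffine T₀ := (IsClosedImmersion.isAffine_surjective_of_isAffine j).1
  have hsurj : Function.Surjective j.appTop.hom :=
    fun x => (IsClosedImmersion.isAffine_surjective_of_isAffine j).2 x
  have hnil : ∀ a : Γ(T, ⊤), j.appTop.hom a = 0 → IsNilpotent a := by
    intro a ha
    rw [Scheme.isNilpotent_iff_basicOpen_eq_bot]
    have h2 : j ⁻¹ᵁ T.basicOpen a = ⊥ := by
      rw [Scheme.preimage_basicOpen_top]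
      have : (j.appTop.hom a) = 0 := ha
      erw [this]
      exact Scheme.basicOpen_zero _ _
    ext x
    obtain ⟨x₀, rfl⟩ := j.surjective x
    constructor
    · intro hx
      have : x₀ ∈ j ⁻¹ᵁ T.basicOpen a := hx
      rw [h2] at this
      exact this
    · intro hx
      exact absurd hx (by simp)
  have het : q.appTop.hom.Etale :=
    (HasRingHomProperty.iff_of_isAffine (P := @Etale)).mp inferInstance
  obtain ⟨B, φ, ρ, hφ, hpo⟩ := exists_isPushout j.appTop q.appTop hsurj hnil het
  have hpb : IsPullback (Spec.map ρ) (Spec.map q.appTop) (Spec.map φ) (Spec.map j.appTop) :=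
    (isPullback_SpecMap_of_isPushout _ _ _ _ hpo).flip
  haveI : Etale (Spec.map φ) := (HasRingHomProperty.Spec_iff (P := @Etale)).mpr hφ
  refine ⟨Spec B, Spec.map φ ≫ T.isoSpec.inv, V₀.isoSpec.hom ≫ Spec.map ρ, inferInstance, ?_⟩
  refine IsPullback.of_iso hpb V₀.isoSpec.symm (Iso.refl _) T₀.isoSpec.symm T.isoSpec.symm
    ?_ ?_ ?_ ?_
  · simp
  · exact Scheme.isoSpec_inv_naturality q
  · simp
  · exact Scheme.isoSpec_inv_naturality j

end Groth.Agent.Lib.EtLiftH7
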