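import Mathlib

/-!
# Topological invariance of étale morphisms: Hom-sets (helper4)

For `X` étale over `S`, any `S`-scheme `Y` and a surjective closed immersion `S₀ ⟶ S`,
`S`-morphisms `Y ⟶ X` correspond bijectively to `S₀`-morphisms of the base changes.
-/

open AlgebraicGeometry CategoryTheory Limits MorphismProperty

universe u

set_option linter.style.haveILetI false

namespace Groth.Agent.Lib.TopInvH4

/-- étale + universally injective + surjective implies isomorphism. -/
theorem isIso_of_etale_of_universallyInjective {X Y : Scheme.{u}} (f : X ⟶ Y) [Etale f]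
    [UniversallyInjective f] [Surjective f] : IsIso f := by
  have h2 : Surjective (pullback.diagonal f) := (UniversallyInjective.iff_diagonal f).mp ‹_›
  have h3 : IsIso (pullback.diagonal f) :=
    (isIso_iff_isOpenImmersion_and_surjective _).mpr ⟨inferInstance, h2⟩
  have hm : Mono f := (pullback.isIso_diagonal_iff f).mp h3
  have ho : IsOpenImmersion f := IsOpenImmersion.of_flat_of_mono f
  exact (isIso_iff_isOpenImmersion_and_surjective f).mpr ⟨ho, ‹_›⟩

/-- A section of an étale morphism is an open immersion. -/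
theorem isOpenImmersion_of_section {T P : Scheme.{u}} (σ : T ⟶ P) (h : P ⟶ T)
    [Etale h] (hσ : σ ≫ h = 𝟙 T) : IsOpenImmersion σ := by
  haveI : IsOpenImmersion (σ ≫ h) := by rw [hσ]; infer_instance
  haveI : Etale σ := MorphismProperty.of_postcomp (W := @Etale)
    (W' := @LocallyOfFiniteType ⊓ @FormallyUnramified) σ h ⟨inferInstance, inferInstance⟩
    inferInstance
  haveI : Mono σ := mono_of_mono σ h
  exact IsOpenImmersion.of_flat_of_mono σ

/-- A morphism that becomes an isomorphism after a surjective base change is surjective and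
universally injective. -/
theorem surjective_and_universallyInjective_of_isPullback {A X Y Z : Scheme.{u}} {fst : A ⟶ X}
    {snd : A ⟶ Y} {j : X ⟶ Z} {g : Y ⟶ Z} (h : IsPullback fst snd j g) [Surjective j]
    [IsIso fst] : Surjective g ∧ UniversallyInjective g := by
  have hD : DescendsAlong @UniversallyInjective.{u} @Surjective.{u} := by
    rw [universallyInjective_eq_diagonal]; infer_instance
  exact ⟨of_isPullback_of_descendsAlong (P := @Surjective) (Q := @Surjective) h ‹_› inferInstance,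
    of_isPullback_of_descendsAlong (P := @UniversallyInjective) (Q := @Surjective) h ‹_›
      inferInstance⟩

/-- Uniqueness: two `S`-morphisms into an étale `S`-scheme agreeing after a surjective map
are equal. -/
theorem unique_lift {S X Y Y₀ : Scheme.{u}} (p : X ⟶ S) [Etale p] (q : Y ⟶ S) (j : Y₀ ⟶ Y)
    [Surjective j] (φ ψ : Y ⟶ X) (hφ : φ ≫ p = q) (hψ : ψ ≫ p = q) (h : j ≫ φ = j ≫ ψ) :
    φ = ψ := by
  let Δ : X ⟶ pullback p p := pullback.diagonal p
  let t : Y ⟶ pullback p p := pullback.lift φ ψ (by rw [hφ, hψ])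
  have hjt : j ≫ t = (j ≫ φ) ≫ Δ := by
    apply pullback.hom_ext
    · rw [Category.assoc, Category.assoc, pullback.lift_fst, pullback.diagonal_fst,
        Category.comp_id]
    · rw [Category.assoc, Category.assoc, pullback.lift_snd, pullback.diagonal_snd,
        Category.comp_id, h]
  have hr : Set.range t ⊆ Set.range Δ := by
    rintro _ ⟨y, rfl⟩
    obtain ⟨y₀, rfl⟩ := j.surjective y
    exact ⟨(j ≫ φ) y₀, by change ((j ≫ φ) ≫ Δ) y₀ = (j ≫ t) y₀; rw [hjt]⟩
  let ℓ : Y ⟶ X := IsOpenImmersion.lift Δ t hr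
  have hℓ : ℓ ≫ Δ = t := IsOpenImmersion.lift_fac _ _ _
  have h1 : φ = ℓ := by
    have := congr($hℓ ≫ pullback.fst p p)
    rw [Category.assoc, pullback.diagonal_fst, Category.comp_id, pullback.lift_fst] at this
    exact this.symm
  have h2 : ψ = ℓ := by
    have := congr($hℓ ≫ pullback.snd p p)
    rw [Category.assoc, pullback.diagonal_snd, Category.comp_id, pullback.lift_snd] at this
    exact this.symm
  rw [h1, h2]

set_option maxHeartbeats 800000 in
/-- Existence of the lift along a surjective closed immersion. -/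
theorem exists_lift {S X Y Y₀ : Scheme.{u}} (p : X ⟶ S) [Etale p] (q : Y ⟶ S) (j : Y₀ ⟶ Y)
    [IsClosedImmersion j] [Surjective j] (γ : Y₀ ⟶ X) (hγ : γ ≫ p = j ≫ q) :
    ∃ φ : Y ⟶ X, φ ≫ p = q ∧ j ≫ φ = γ := by
  let π : pullback p q ⟶ Y := pullback.snd p q
  let γ' : Y₀ ⟶ pullback p q := pullback.lift γ j hγ
  have hγ'π : γ' ≫ π = j := pullback.lift_snd _ _ _
  have hγ'fst : γ' ≫ pullback.fst p q = γ := pullback.lift_fst _ _ _
  let j' : pullback π j ⟶ pullback p q := pullback.fst π j
  let π₀ : pullback π j ⟶ Y₀ := pullback.snd π j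
  let σ : Y₀ ⟶ pullback π j := pullback.lift γ' (𝟙 Y₀) (by rw [hγ'π, Category.id_comp])
  have hσπ₀ : σ ≫ π₀ = 𝟙 Y₀ := pullback.lift_snd _ _ _
  have hσj' : σ ≫ j' = γ' := pullback.lift_fst _ _ _
  haveI : IsOpenImmersion σ := isOpenImmersion_of_section σ π₀ hσπ₀
  have hj'emb : Topology.IsClosedEmbedding j' := j'.isClosedEmbedding
  have hj'surj : Function.Surjective j' := j'.surjective
  have hj'open : IsOpenMap j' :=
    (isHomeomorph_iff_isEmbedding_surjective.mpr ⟨hj'emb.isEmbedding, hj'surj⟩).isOpenMap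
  have hrange : Set.range γ' = j' '' Set.range σ := by
    rw [← Set.range_comp, ← hσj']
    rfl
  let Γ : (pullback p q).Opens := ⟨Set.range γ', by
    rw [hrange]; exact hj'open _ σ.isOpenEmbedding.isOpen_range⟩
  let Γ₀ : (pullback π j).Opens := j' ⁻¹ᵁ Γ
  have hsq : IsPullback (Γ₀.ι ≫ π₀) (j' ∣_ Γ) j (Γ.ι ≫ π) :=
    ((isPullback_morphismRestrict j' Γ).paste_vert (IsPullback.of_hasPullback π j)).flip
  have hσΓ₀ : Set.range σ ⊆ Set.range Γ₀.ι := by
    rintro _ ⟨y₀, rfl⟩
    rw [Scheme.Opens.range_ι]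
    change j' (σ y₀) ∈ Set.range γ'
    exact ⟨y₀, by rw [← hσj']; rfl⟩
  let σ' : Y₀ ⟶ Γ₀ := IsOpenImmersion.lift Γ₀.ι σ hσΓ₀
  have hσ' : σ' ≫ Γ₀.ι = σ := IsOpenImmersion.lift_fac _ _ _
  haveI : IsOpenImmersion (σ' ≫ Γ₀.ι) := by rw [hσ']; infer_instance
  haveI : IsOpenImmersion σ' := IsOpenImmersion.of_comp σ' Γ₀.ι
  haveI : Surjective σ' := ⟨fun z => by
    have hz : j' (Γ₀.ι z) ∈ Set.range γ' := z.2
    obtain ⟨y₀, hy₀⟩ := hz
    refine ⟨y₀, Γ₀.ι.isOpenEmbedding.injective (hj'emb.injective ?_)⟩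
    change j' ((σ' ≫ Γ₀.ι) y₀) = _
    rw [hσ', ← hy₀, ← hσj']
    rfl⟩
  haveI : IsIso σ' :=
    (isIso_iff_isOpenImmersion_and_surjective σ').mpr ⟨inferInstance, inferInstance⟩
  haveI : IsIso (Γ₀.ι ≫ π₀) := by
    have : Γ₀.ι ≫ π₀ = inv σ' := by
      rw [← cancel_epi σ', IsIso.hom_inv_id, ← Category.assoc, hσ', hσπ₀]
    rw [this]; infer_instance
  let f : (Γ : Scheme.{u}) ⟶ Y := Γ.ι ≫ π
  obtain ⟨hfs, hfu⟩ := surjective_and_universallyInjective_of_isPullback hsq
  haveI : Surjective f := hfs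
  haveI : UniversallyInjective f := hfu
  haveI : IsIso f := isIso_of_etale_of_universallyInjective f
  have hγ'Γ : Set.range γ' ⊆ Set.range Γ.ι := by
    rw [Scheme.Opens.range_ι]
    exact subset_rfl
  let γ'' : Y₀ ⟶ Γ := IsOpenImmersion.lift Γ.ι γ' hγ'Γ
  have hγ'' : γ'' ≫ Γ.ι = γ' := IsOpenImmersion.lift_fac _ _ _
  have hjf : γ'' ≫ f = j := by
    change γ'' ≫ Γ.ι ≫ π = j
    rw [← Category.assoc, hγ'', hγ'π]
  refine ⟨inv f ≫ Γ.ι ≫ pullback.fst p q, ?_, ?_⟩
  · rw [Category.assoc, Category.assoc, pullback.condition]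
    change inv f ≫ Γ.ι ≫ π ≫ q = q
    rw [← Category.assoc Γ.ι, IsIso.inv_hom_id_assoc]
  · have : j ≫ inv f = γ'' := by
      rw [← hjf, Category.assoc, IsIso.hom_inv_id, Category.comp_id]
    rw [← Category.assoc, this, ← Category.assoc, hγ'', hγ'fst]

set_option maxHeartbeats 800000 in
theorem main0117 {S S₀ : Scheme.{u}} (i : S₀ ⟶ S) [IsClosedImmersion i] [Surjective i]
    (X Y : Over S) [Etale X.hom] :
    Function.Bijective (fun φ : Y ⟶ X => (Over.pullback i).map φ) := by
  let p : X.left ⟶ S := X.hom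
  let q : Y.left ⟶ S := Y.hom
  haveI : Etale p := ‹_›
  let j : pullback q i ⟶ Y.left := pullback.fst q i
  have hmap : ∀ φ : Y ⟶ X,
      ((Over.pullback i).map φ).left ≫ pullback.fst p i = j ≫ φ.left := by
    intro φ
    change pullback.lift (pullback.fst Y.hom i ≫ φ.left) (pullback.snd Y.hom i) _ ≫
      pullback.fst X.hom i = pullback.fst Y.hom i ≫ φ.left
    exact pullback.lift_fst _ _ _
  constructor
  · intro φ ψ h
    have h' : ((Over.pullback i).map φ).left = ((Over.pullback i).map ψ).left :=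
      congrArg (fun α => α.left) h
    have h2 : j ≫ φ.left = j ≫ ψ.left := by rw [← hmap, ← hmap, h']
    apply Over.OverMorphism.ext
    exact unique_lift p q j φ.left ψ.left (Over.w φ) (Over.w ψ) h2
  · intro ψ
    let γ : pullback q i ⟶ X.left := ψ.left ≫ pullback.fst p i
    have hψ : ψ.left ≫ pullback.snd p i = pullback.snd q i := Over.w ψ
    have hγ : γ ≫ p = j ≫ q := by
      change (ψ.left ≫ pullback.fst p i) ≫ p = pullback.fst q i ≫ q
      rw [Category.assoc, pullback.condition, ← Category.assoc, hψ, pullback.condition]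
    obtain ⟨φ, hφ1, hφ2⟩ := exists_lift p q j γ hγ
    refine ⟨Over.homMk φ hφ1, ?_⟩
    apply Over.OverMorphism.ext
    apply pullback.hom_ext
    · change ((Over.pullback i).map (Over.homMk φ hφ1)).left ≫ pullback.fst p i =
        ψ.left ≫ pullback.fst p i
      rw [hmap]
      exact hφ2
    · change ((Over.pullback i).map (Over.homMk φ hφ1)).left ≫ pullback.snd p i =
        ψ.left ≫ pullback.snd p i
      rw [hψ]
      change pullback.lift (pullback.fst Y.hom i ≫ φ) (pullback.snd Y.hom i) _ ≫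
        pullback.snd X.hom i = pullback.snd Y.hom i
      exact pullback.lift_snd _ _ _

end Groth.Agent.Lib.TopInvH4
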