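import Mathlib
import Groth.Agent.Lib.EtLift1_helper7
import Groth.Agent.Lib.TopInv_helper4

/-!
# Lifting étale schemes along a surjective closed immersion: local lifts and the diagram (helper7)
-/

open CategoryTheory CategoryTheory.Limits AlgebraicGeometry

universe u

set_option linter.style.haveILetI false

namespace Groth.Agent.Lib.EtLiftH7

open Groth.Agent.Lib.TopInvH4

variable {S S₀ : Scheme.{u}} (i : S₀ ⟶ S)

/-- `q : Y₀ ⟶ S₀` is the base change along `i` of an étale `S`-scheme. -/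
def Liftable {Y₀ : Scheme.{u}} (q : Y₀ ⟶ S₀) : Prop :=
  ∃ (V : Scheme.{u}) (p : V ⟶ S) (k : Y₀ ⟶ V), Etale p ∧ IsPullback k q p i

variable [IsClosedImmersion i] [Surjective i]

theorem isClosedImmersion_of_isPullback {Y₀ V : Scheme.{u}} {k : Y₀ ⟶ V} {q : Y₀ ⟶ S₀}
    {p : V ⟶ S} (h : IsPullback k q p i) : IsClosedImmersion k :=
  MorphismProperty.of_isPullback (P := @IsClosedImmersion) h.flip inferInstance

theorem surjective_of_isPullback {Y₀ V : Scheme.{u}} {k : Y₀ ⟶ V} {q : Y₀ ⟶ S₀}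
    {p : V ⟶ S} (h : IsPullback k q p i) : Surjective k :=
  MorphismProperty.of_isPullback (P := @Surjective) h.flip inferInstance

theorem Liftable.comp_openImmersion {Y₀ Z₀ : Scheme.{u}} {q : Y₀ ⟶ S₀} (h : Liftable i q)
    (g : Z₀ ⟶ Y₀) [IsOpenImmersion g] : Liftable i (g ≫ q) := by
  obtain ⟨V, p, k, hp, hpb⟩ := h
  haveI : IsClosedImmersion k := isClosedImmersion_of_isPullback i hpb
  haveI : Surjective k := surjective_of_isPullback i hpb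
  have hkemb : Topology.IsClosedEmbedding k := k.isClosedEmbedding
  have hkopen : IsOpenMap k :=
    (isHomeomorph_iff_isEmbedding_surjective.mpr ⟨hkemb.isEmbedding, k.surjective⟩).isOpenMap
  let Z : V.Opens := ⟨k '' Set.range g, hkopen _ g.isOpenEmbedding.isOpen_range⟩
  have hpre : Set.range (k ⁻¹ᵁ Z).ι = Set.range g := by
    rw [Scheme.Opens.range_ι]
    show k ⁻¹' (k '' Set.range g) = Set.range g
    exact Set.preimage_image_eq _ hkemb.injective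
  have hsq : IsPullback (k ∣_ Z) ((k ⁻¹ᵁ Z).ι ≫ q) (Z.ι ≫ p) i :=
    (isPullback_morphismRestrict k Z).paste_vert hpb
  let e : Z₀ ≅ ((k ⁻¹ᵁ Z : Y₀.Opens) : Scheme.{u}) :=
    IsOpenImmersion.isoOfRangeEq g (k ⁻¹ᵁ Z).ι hpre.symm
  have he : e.hom ≫ (k ⁻¹ᵁ Z).ι = g := IsOpenImmersion.isoOfRangeEq_hom_fac _ _ _
  refine ⟨Z, Z.ι ≫ p, e.hom ≫ (k ∣_ Z), inferInstance, ?_⟩
  refine IsPullback.of_iso hsq e.symm (Iso.refl _) (Iso.refl _) (Iso.refl _) ?_ ?_ ?_ ?_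
  · simp
  · rw [Iso.refl_hom, Category.comp_id, Iso.symm_hom, ← he, Category.assoc, Iso.inv_hom_id_assoc]
  · simp
  · simp

theorem liftable_of_le {X₀ : Scheme.{u}} (p₀ : X₀ ⟶ S₀) {U U' : X₀.Opens} (h : U ≤ U')
    (hL : Liftable i (U'.ι ≫ p₀)) : Liftable i (U.ι ≫ p₀) := by
  have := hL.comp_openImmersion i (X₀.homOfLE h)
  simpa using this

theorem exists_liftable_nhd {X₀ : Scheme.{u}} (p₀ : X₀ ⟶ S₀) [Etale p₀] (x : X₀) :
    ∃ U₀ : X₀.Opens, x ∈ U₀ ∧ Liftable i (U₀.ι ≫ p₀) := by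
  obtain ⟨W, hW', hxW⟩ : ∃ W : S.Opens, IsAffineOpen W ∧ i (p₀ x) ∈ W := by
    obtain ⟨W, hW, hxW, -⟩ := TopologicalSpace.Opens.isBasis_iff_nbhd.mp S.isBasis_affineOpens
      (TopologicalSpace.Opens.mem_top (i (p₀ x)))
    exact ⟨W, hW, hxW⟩
  have hW₀ : IsAffineOpen (i ⁻¹ᵁ W) := hW'.preimage i
  obtain ⟨U₀, hU₀', hxU, hUle⟩ : ∃ U₀ : X₀.Opens, IsAffineOpen U₀ ∧ x ∈ U₀ ∧
      U₀ ≤ p₀ ⁻¹ᵁ (i ⁻¹ᵁ W) := by
    obtain ⟨U₀, hU₀, hxU, hUle⟩ := TopologicalSpace.Opens.isBasis_iff_nbhd.mp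
      X₀.isBasis_affineOpens (show x ∈ p₀ ⁻¹ᵁ (i ⁻¹ᵁ W) from hxW)
    exact ⟨U₀, hU₀, hxU, hUle⟩
  haveI : IsAffine (W : Scheme.{u}) := hW'
  haveI : IsAffine (U₀ : Scheme.{u}) := hU₀'
  have hq : p₀.resLE (i ⁻¹ᵁ W) U₀ hUle ≫ (i ⁻¹ᵁ W).ι = U₀.ι ≫ p₀ := Scheme.Hom.resLE_comp_ι _ _
  haveI : Surjective (i ∣_ W) := MorphismProperty.of_isPullback (P := @Surjective)
    (isPullback_morphismRestrict i W).flip inferInstance
  obtain ⟨V, p, k, hp, hpb⟩ := exists_lift_affine (i ∣_ W) (p₀.resLE (i ⁻¹ᵁ W) U₀ hUle)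
  refine ⟨U₀, hxU, V, p ≫ W.ι, k, inferInstance, ?_⟩
  have := hpb.paste_vert (isPullback_morphismRestrict i W)
  rwa [hq] at this

section Diagram

variable {X₀ : Scheme.{u}} (p₀ : X₀ ⟶ S₀)

/-- The liftable opens of `X₀`. -/
abbrev J : Type u := {U₀ : X₀.Opens // Liftable i (U₀.ι ≫ p₀)}

/-- chosen lift -/
noncomputable def LV (U : J i p₀) : Scheme.{u} := U.2.choose

/-- chosen structure map -/
noncomputable def Lp (U : J i p₀) : LV i p₀ U ⟶ S := U.2.choose_spec.choose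

/-- chosen thickening map -/
noncomputable def Lk (U : J i p₀) : (U.1 : Scheme.{u}) ⟶ LV i p₀ U :=
  U.2.choose_spec.choose_spec.choose

instance (U : J i p₀) : Etale (Lp i p₀ U) := U.2.choose_spec.choose_spec.choose_spec.1

theorem Lpb (U : J i p₀) : IsPullback (Lk i p₀ U) (U.1.ι ≫ p₀) (Lp i p₀ U) i :=
  U.2.choose_spec.choose_spec.choose_spec.2

instance (U : J i p₀) : IsClosedImmersion (Lk i p₀ U) :=
  isClosedImmersion_of_isPullback i (Lpb i p₀ U)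

instance (U : J i p₀) : Surjective (Lk i p₀ U) :=
  surjective_of_isPullback i (Lpb i p₀ U)

theorem exists_trans {U U' : J i p₀} (h : U.1 ≤ U'.1) :
    ∃ τ : LV i p₀ U ⟶ LV i p₀ U', τ ≫ Lp i p₀ U' = Lp i p₀ U ∧
      Lk i p₀ U ≫ τ = X₀.homOfLE h ≫ Lk i p₀ U' := by
  apply exists_lift (Lp i p₀ U') (Lp i p₀ U) (Lk i p₀ U) (X₀.homOfLE h ≫ Lk i p₀ U')
  have h1 := (Lpb i p₀ U').w
  have h2 := (Lpb i p₀ U).w
  rw [Category.assoc, h1, h2]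
  simp only [Category.assoc, Scheme.homOfLE_ι_assoc]

/-- transition maps -/
noncomputable def tr {U U' : J i p₀} (h : U.1 ≤ U'.1) : LV i p₀ U ⟶ LV i p₀ U' :=
  (exists_trans i p₀ h).choose

theorem tr_p {U U' : J i p₀} (h : U.1 ≤ U'.1) : tr i p₀ h ≫ Lp i p₀ U' = Lp i p₀ U :=
  (exists_trans i p₀ h).choose_spec.1

theorem k_tr {U U' : J i p₀} (h : U.1 ≤ U'.1) :
    Lk i p₀ U ≫ tr i p₀ h = X₀.homOfLE h ≫ Lk i p₀ U' :=
  (exists_trans i p₀ h).choose_spec.2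

theorem tr_unique {U U' : J i p₀} (h : U.1 ≤ U'.1) (t : LV i p₀ U ⟶ LV i p₀ U')
    (h1 : t ≫ Lp i p₀ U' = Lp i p₀ U) (h2 : Lk i p₀ U ≫ t = X₀.homOfLE h ≫ Lk i p₀ U') :
    t = tr i p₀ h :=
  unique_lift (Lp i p₀ U') (Lp i p₀ U) (Lk i p₀ U) t (tr i p₀ h) h1 (tr_p i p₀ h)
    (by rw [h2, k_tr])

/-- the diagram of lifts -/
@[reducible] noncomputable def F : J i p₀ ⥤ Scheme.{u} where
  obj U := LV i p₀ U
  map {U U'} f := tr i p₀ (leOfHom f)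
  map_id U := (tr_unique i p₀ _ (𝟙 _) (Category.id_comp _)
    (by rw [Category.comp_id, Scheme.homOfLE_rfl, Category.id_comp])).symm
  map_comp {U U' U''} f g := (tr_unique i p₀ _ _ (by rw [Category.assoc, tr_p, tr_p])
    (by rw [← Category.assoc, k_tr, Category.assoc, k_tr, ← Category.assoc,
      Scheme.homOfLE_homOfLE])).symm

theorem F_map {U U' : J i p₀} (f : U ⟶ U') : (F i p₀).map f = tr i p₀ (leOfHom f) := rfl

theorem tr_mono {U U' : J i p₀} (h : U.1 ≤ U'.1) : Mono (tr i p₀ h) := by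
  constructor
  intro T a b hab
  have hb : b ≫ Lp i p₀ U = a ≫ Lp i p₀ U := by
    rw [← tr_p i p₀ h, ← Category.assoc, ← hab, Category.assoc]
  have ha₀' : (pullback.fst (a ≫ Lp i p₀ U) i ≫ a) ≫ Lp i p₀ U =
      pullback.snd (a ≫ Lp i p₀ U) i ≫ i := by
    rw [Category.assoc]; exact pullback.condition
  have hb₀' : (pullback.fst (a ≫ Lp i p₀ U) i ≫ b) ≫ Lp i p₀ U =
      pullback.snd (a ≫ Lp i p₀ U) i ≫ i := by
    rw [Category.assoc, hb]; exact pullback.condition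
  obtain ⟨a₀, ha₀, -⟩ : ∃ a₀ : pullback (a ≫ Lp i p₀ U) i ⟶ (U.1 : Scheme.{u}),
      a₀ ≫ Lk i p₀ U = pullback.fst (a ≫ Lp i p₀ U) i ≫ a ∧ True :=
    ⟨(Lpb i p₀ U).lift _ _ ha₀', (Lpb i p₀ U).lift_fst _ _ _, trivial⟩
  obtain ⟨b₀, hb₀, -⟩ : ∃ b₀ : pullback (a ≫ Lp i p₀ U) i ⟶ (U.1 : Scheme.{u}),
      b₀ ≫ Lk i p₀ U = pullback.fst (a ≫ Lp i p₀ U) i ≫ b ∧ True :=
    ⟨(Lpb i p₀ U).lift _ _ hb₀', (Lpb i p₀ U).lift_fst _ _ _, trivial⟩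
  have hab₀ : a₀ = b₀ := by
    haveI : Mono (X₀.homOfLE h ≫ Lk i p₀ U') := mono_comp _ _
    rw [← cancel_mono (X₀.homOfLE h ≫ Lk i p₀ U'), ← k_tr, ← Category.assoc, ← Category.assoc,
      ha₀, hb₀, Category.assoc, Category.assoc, hab]
  exact unique_lift (Lp i p₀ U) (a ≫ Lp i p₀ U) (pullback.fst (a ≫ Lp i p₀ U) i) a b rfl hb
    (by rw [← ha₀, ← hb₀, hab₀])

theorem tr_isOpenImmersion {U U' : J i p₀} (h : U.1 ≤ U'.1) : IsOpenImmersion (tr i p₀ h) := by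
  haveI : Etale (tr i p₀ h ≫ Lp i p₀ U') := by rw [tr_p]; infer_instance
  haveI : Etale (tr i p₀ h) := MorphismProperty.of_postcomp (W := @Etale)
    (W' := @Etale) _ (Lp i p₀ U') inferInstance inferInstance
  haveI := tr_mono i p₀ h
  exact IsOpenImmersion.of_flat_of_mono _

instance {U U' : J i p₀} (f : U ⟶ U') : IsOpenImmersion ((F i p₀).map f) :=
  tr_isOpenImmersion i p₀ (leOfHom f)

theorem locdir_aux {U₁ U₂ U₃ : J i p₀} (h₁ : U₁.1 ≤ U₃.1) (h₂ : U₂.1 ≤ U₃.1)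
    (x₁ : LV i p₀ U₁) (x₂ : LV i p₀ U₂) (heq : tr i p₀ h₁ x₁ = tr i p₀ h₂ x₂) :
    ∃ (U : J i p₀) (h₁' : U.1 ≤ U₁.1) (h₂' : U.1 ≤ U₂.1) (x : LV i p₀ U),
      tr i p₀ h₁' x = x₁ ∧ tr i p₀ h₂' x = x₂ := by
  obtain ⟨y₁, rfl⟩ := (Lk i p₀ U₁).surjective x₁
  obtain ⟨y₂, rfl⟩ := (Lk i p₀ U₂).surjective x₂
  have e1 : tr i p₀ h₁ (Lk i p₀ U₁ y₁) = Lk i p₀ U₃ (X₀.homOfLE h₁ y₁) := by
    rw [← Scheme.Hom.comp_apply, k_tr, Scheme.Hom.comp_apply]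
  have e2 : tr i p₀ h₂ (Lk i p₀ U₂ y₂) = Lk i p₀ U₃ (X₀.homOfLE h₂ y₂) := by
    rw [← Scheme.Hom.comp_apply, k_tr, Scheme.Hom.comp_apply]
  rw [e1, e2] at heq
  have h3 : X₀.homOfLE h₁ y₁ = X₀.homOfLE h₂ y₂ :=
    (Lk i p₀ U₃).isClosedEmbedding.injective heq
  have h4 : U₁.1.ι y₁ = U₂.1.ι y₂ := by
    have := congrArg (U₃.1.ι) h3
    rwa [← Scheme.Hom.comp_apply, ← Scheme.Hom.comp_apply, X₀.homOfLE_ι, X₀.homOfLE_ι] at this
  have hz : U₁.1.ι y₁ ∈ U₁.1 ⊓ U₂.1 := ⟨y₁.2, by rw [h4]; exact y₂.2⟩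
  refine ⟨⟨U₁.1 ⊓ U₂.1, liftable_of_le i p₀ inf_le_left U₁.2⟩, inf_le_left, inf_le_right,
    Lk i p₀ _ ⟨U₁.1.ι y₁, hz⟩, ?_, ?_⟩
  · rw [← Scheme.Hom.comp_apply, k_tr, Scheme.Hom.comp_apply]
    congr 1
    apply U₁.1.ι.isOpenEmbedding.injective
    rw [← Scheme.Hom.comp_apply, X₀.homOfLE_ι]
    rfl
  · rw [← Scheme.Hom.comp_apply, k_tr, Scheme.Hom.comp_apply]
    congr 1
    apply U₂.1.ι.isOpenEmbedding.injective
    rw [← Scheme.Hom.comp_apply, X₀.homOfLE_ι]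
    exact h4

instance : ((F i p₀) ⋙ Scheme.forget).IsLocallyDirected where
  cond {U₁ U₂ U₃} f₁ f₂ x₁ x₂ heq := by
    obtain ⟨U, h1, h2, x, e1, e2⟩ := locdir_aux i p₀ (leOfHom f₁) (leOfHom f₂) x₁ x₂ heq
    exact ⟨U, homOfLE h1, homOfLE h2, x, e1, e2⟩

end Diagram

end Groth.Agent.Lib.EtLiftH7
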