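import Mathlib
import Groth.Agent.Lib.EtLift2_helper7

/-!
# Lifting étale schemes along a surjective closed immersion: gluing (helper7)
-/

open CategoryTheory CategoryTheory.Limits AlgebraicGeometry

universe u

set_option linter.style.haveILetI false
set_option linter.unusedSectionVars false

namespace Groth.Agent.Lib.EtLiftH7

open Groth.Agent.Lib.TopInvH4

section Glue

variable {S S₀ : Scheme.{u}} (i : S₀ ⟶ S) [IsClosedImmersion i] [Surjective i]
variable {X₀ : Scheme.{u}} (p₀ : X₀ ⟶ S₀)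

/-- the glued scheme -/
noncomputable abbrev Xc : Scheme.{u} := colimit (F i p₀)

/-- cocone to `S` -/
noncomputable def coconeS : Cocone (F i p₀) where
  pt := S
  ι :=
    { app := fun U => Lp i p₀ U
      naturality := fun U U' f => by
        simp only [Functor.const_obj_obj, Functor.const_obj_map, Category.comp_id]
        exact tr_p i p₀ (leOfHom f) }

/-- structure map of the glued scheme -/
noncomputable def pc : Xc i p₀ ⟶ S := colimit.desc (F i p₀) (coconeS i p₀)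

theorem ι_pc (U : J i p₀) : colimit.ι (F i p₀) U ≫ pc i p₀ = Lp i p₀ U :=
  colimit.ι_desc _ _

/-- the open cover of the glued scheme -/
noncomputable abbrev covX : (Xc i p₀).OpenCover where
  I₀ := J i p₀
  X U := LV i p₀ U
  f U := colimit.ι (F i p₀) U
  mem₀ := by
    rw [Scheme.presieve₀_mem_precoverage_iff]
    refine ⟨fun x => ?_, fun U => inferInstanceAs (IsOpenImmersion (colimit.ι (F i p₀) U))⟩
    obtain ⟨U, y, hy⟩ := Scheme.IsLocallyDirected.ι_jointly_surjective (F i p₀) x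
    exact ⟨U, y, hy⟩

instance pc_etale : Etale (pc i p₀) := by
  have key : ∀ V : J i p₀, Etale (colimit.ι (F i p₀) V ≫ pc i p₀) := fun V => by
    rw [ι_pc]; infer_instance
  rw [IsZariskiLocalAtSource.iff_of_openCover (P := @Etale) (covX i p₀)]
  exact key

instance : Category (covX i p₀).I₀ := inferInstanceAs (Category (J i p₀))

noncomputable instance covX_locDir : (covX i p₀).LocallyDirected where
  trans {U U'} f := (F i p₀).map f
  trans_id U := (F i p₀).map_id U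
  trans_comp f g := (F i p₀).map_comp f g
  w {U U'} f := colimit.w (F i p₀) f
  directed {U U'} x := by
    have hx := congr($(pullback.condition (f := (covX i p₀).f U) (g := (covX i p₀).f U')) x)
    rw [Scheme.Hom.comp_apply, Scheme.Hom.comp_apply] at hx
    obtain ⟨V, fV, fV', y, h1, h2⟩ := (Scheme.IsLocallyDirected.ι_eq_ι_iff (F i p₀)).mp hx
    refine ⟨V, fV, fV', y, ?_⟩
    haveI : IsOpenImmersion ((covX i p₀).f U') :=
      inferInstanceAs (IsOpenImmersion (colimit.ι (F i p₀) U'))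
    apply (pullback.fst ((covX i p₀).f U) ((covX i p₀).f U')).isOpenEmbedding.injective
    rw [← Scheme.Hom.comp_apply, pullback.lift_fst]
    exact h1
  property_trans {U U'} f := inferInstanceAs (IsOpenImmersion ((F i p₀).map f))

variable [Etale p₀]

/-- the cover of `X₀` by liftable opens -/
noncomputable abbrev cov₀ : X₀.OpenCover where
  I₀ := J i p₀
  X U := U.1
  f U := U.1.ι
  mem₀ := by
    rw [Scheme.presieve₀_mem_precoverage_iff]
    refine ⟨fun x => ?_, fun U => inferInstance⟩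
    obtain ⟨U₀, hx, hL⟩ := exists_liftable_nhd i p₀ x
    exact ⟨⟨U₀, hL⟩, ⟨x, hx⟩, rfl⟩

instance : Preorder (cov₀ i p₀).I₀ := inferInstanceAs (Preorder (J i p₀))

noncomputable instance cov₀_locDir : (cov₀ i p₀).LocallyDirected :=
  .ofIsBasisOpensRange
    (by
      intro U U'
      change U.1 ≤ U'.1 ↔ U.1.ι.opensRange ≤ U'.1.ι.opensRange
      rw [Scheme.Opens.opensRange_ι, Scheme.Opens.opensRange_ι])
    (by
      rw [TopologicalSpace.Opens.isBasis_iff_nbhd]
      intro O x hx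
      obtain ⟨U₀, hxU, hL⟩ := exists_liftable_nhd i p₀ x
      refine ⟨U₀ ⊓ O, ⟨⟨U₀ ⊓ O, liftable_of_le i p₀ inf_le_left hL⟩, ?_⟩, ⟨hxU, hx⟩, inf_le_right⟩
      exact Scheme.Opens.opensRange_ι _)

theorem cov₀_trans {U U' : J i p₀} (f : U ⟶ U') :
    (cov₀ i p₀).trans f = X₀.homOfLE (leOfHom f) :=
  (cancel_mono (U'.1.ι)).mp (((cov₀ i p₀).trans_map f).trans (X₀.homOfLE_ι _).symm)

theorem hmap_compat {U U' : J i p₀} (f : U ⟶ U') :
    X₀.homOfLE (leOfHom f) ≫ Lk i p₀ U' ≫ colimit.ι (F i p₀) U' =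
      Lk i p₀ U ≫ colimit.ι (F i p₀) U := by
  rw [← Category.assoc, ← k_tr i p₀ (leOfHom f), Category.assoc]
  congr 1
  exact colimit.w (F i p₀) f

theorem hmap_compat' {U U' : (cov₀ i p₀).I₀} (f : U ⟶ U') :
    (cov₀ i p₀).trans f ≫ (Lk i p₀ U' ≫ colimit.ι (F i p₀) U') =
      Lk i p₀ U ≫ colimit.ι (F i p₀) U :=
  Eq.trans (congrArg (fun t => t ≫ (Lk i p₀ U' ≫ colimit.ι (F i p₀) U')) (cov₀_trans i p₀ f))
    (hmap_compat i p₀ f)

/-- the map `X₀ ⟶ Xc` -/
noncomputable def hmap : X₀ ⟶ Xc i p₀ :=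
  (cov₀ i p₀).glueMorphismsOfLocallyDirected
    (fun U => Lk i p₀ U ≫ colimit.ι (F i p₀) U) (hmap_compat' i p₀)

theorem ι_hmap (U : J i p₀) : U.1.ι ≫ hmap i p₀ = Lk i p₀ U ≫ colimit.ι (F i p₀) U :=
  (cov₀ i p₀).map_glueMorphismsOfLocallyDirected
    (fun U => Lk i p₀ U ≫ colimit.ι (F i p₀) U) (hmap_compat' i p₀) U

theorem hmap_pc : hmap i p₀ ≫ pc i p₀ = p₀ ≫ i := by
  have key : ∀ U : J i p₀, U.1.ι ≫ hmap i p₀ ≫ pc i p₀ = U.1.ι ≫ p₀ ≫ i := fun U => by
    rw [← Category.assoc, ι_hmap, Category.assoc, ι_pc, (Lpb i p₀ U).w, Category.assoc]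
  exact (cov₀ i p₀).hom_ext _ _ key

/-- comparison map -/
noncomputable def psi : X₀ ⟶ pullback (pc i p₀) i :=
  pullback.lift (hmap i p₀) p₀ (hmap_pc i p₀)

/-- cover of the pullback -/
noncomputable abbrev covP : (pullback (pc i p₀) i).OpenCover :=
  (covX i p₀).pullback₁ (pullback.fst (pc i p₀) i)

theorem sqP (U : J i p₀) :
    IsPullback (pullback.snd (pullback.fst (pc i p₀) i) (colimit.ι (F i p₀) U))
      (pullback.fst (pullback.fst (pc i p₀) i) (colimit.ι (F i p₀) U) ≫ pullback.snd (pc i p₀) i)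
      (Lp i p₀ U) i := by
  have h1 := (IsPullback.of_hasPullback (pullback.fst (pc i p₀) i) (colimit.ι (F i p₀) U)).flip
  have h2 := IsPullback.of_hasPullback (pc i p₀) i
  have := h1.paste_vert h2
  rwa [ι_pc] at this

/-- local comparison isos -/
noncomputable def eps (U : J i p₀) :
    (U.1 : Scheme.{u}) ≅ pullback (pullback.fst (pc i p₀) i) (colimit.ι (F i p₀) U) :=
  (Lpb i p₀ U).isoIsPullback _ _ (sqP i p₀ U)

theorem eps_hom_snd (U : J i p₀) :
    (eps i p₀ U).hom ≫ pullback.snd (pullback.fst (pc i p₀) i) (colimit.ι (F i p₀) U) =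
      Lk i p₀ U :=
  IsPullback.isoIsPullback_hom_fst _ _ _ _

theorem eps_hom_fst (U : J i p₀) :
    (eps i p₀ U).hom ≫ pullback.fst (pullback.fst (pc i p₀) i) (colimit.ι (F i p₀) U) ≫
      pullback.snd (pc i p₀) i = U.1.ι ≫ p₀ :=
  IsPullback.isoIsPullback_hom_snd _ _ _ _

theorem eps_inv_k (U : J i p₀) :
    (eps i p₀ U).inv ≫ Lk i p₀ U =
      pullback.snd (pullback.fst (pc i p₀) i) (colimit.ι (F i p₀) U) :=
  IsPullback.isoIsPullback_inv_fst _ _ _ _

theorem eps_inv_p (U : J i p₀) :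
    (eps i p₀ U).inv ≫ U.1.ι ≫ p₀ =
      pullback.fst (pullback.fst (pc i p₀) i) (colimit.ι (F i p₀) U) ≫
        pullback.snd (pc i p₀) i :=
  IsPullback.isoIsPullback_inv_snd _ _ _ _

/-- transition maps of the pulled back cover, explicitly -/
noncomputable def trP {U U' : J i p₀} (f : U ⟶ U') :
    pullback (pullback.fst (pc i p₀) i) (colimit.ι (F i p₀) U) ⟶
      pullback (pullback.fst (pc i p₀) i) (colimit.ι (F i p₀) U') :=
  pullback.map _ _ _ _ (𝟙 _) ((F i p₀).map f) (𝟙 _) (by simp)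
    (by rw [Category.comp_id]; exact (colimit.w (F i p₀) f).symm)

theorem trP_fst {U U' : J i p₀} (f : U ⟶ U') :
    trP i p₀ f ≫ pullback.fst _ _ = pullback.fst _ _ := by
  unfold trP
  exact (pullback.lift_fst _ _ _).trans (Category.comp_id _)

theorem trP_snd {U U' : J i p₀} (f : U ⟶ U') :
    trP i p₀ f ≫ pullback.snd _ _ = pullback.snd _ _ ≫ (F i p₀).map f := by
  unfold trP
  exact pullback.lift_snd _ _ _

theorem covP_trans {U U' : J i p₀} (f : U ⟶ U') : (covP i p₀).trans f = trP i p₀ f := rfl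

theorem trP_eps {U U' : J i p₀} (f : U ⟶ U') :
    trP i p₀ f ≫ (eps i p₀ U').inv = (eps i p₀ U).inv ≫ X₀.homOfLE (leOfHom f) := by
  apply (Lpb i p₀ U').hom_ext
  · rw [Category.assoc, eps_inv_k, Category.assoc, ← k_tr i p₀ (leOfHom f), ← Category.assoc,
      eps_inv_k, trP_snd]
  · rw [Category.assoc, eps_inv_p, Category.assoc, Scheme.homOfLE_ι_assoc, eps_inv_p,
      ← Category.assoc, trP_fst]

theorem phi_compat {U U' : J i p₀} (f : U ⟶ U') :
    trP i p₀ f ≫ (eps i p₀ U').inv ≫ U'.1.ι = (eps i p₀ U).inv ≫ U.1.ι := by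
  rw [← Category.assoc, trP_eps, Category.assoc, Scheme.homOfLE_ι]

/-- inverse comparison map -/
theorem phi_compat' {U U' : (covP i p₀).I₀} (f : U ⟶ U') :
    (covP i p₀).trans f ≫ (eps i p₀ U').inv ≫ U'.1.ι = (eps i p₀ U).inv ≫ U.1.ι :=
  phi_compat i p₀ f

noncomputable def phi : pullback (pc i p₀) i ⟶ X₀ :=
  (covP i p₀).glueMorphismsOfLocallyDirected (fun U => (eps i p₀ U).inv ≫ U.1.ι)
    (phi_compat' i p₀)

theorem fst_phi (U : J i p₀) :
    pullback.fst (pullback.fst (pc i p₀) i) (colimit.ι (F i p₀) U) ≫ phi i p₀ =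
      (eps i p₀ U).inv ≫ U.1.ι :=
  (covP i p₀).map_glueMorphismsOfLocallyDirected (fun U => (eps i p₀ U).inv ≫ U.1.ι)
    (phi_compat' i p₀) U

theorem ι_psi (U : J i p₀) :
    U.1.ι ≫ psi i p₀ =
      (eps i p₀ U).hom ≫ pullback.fst (pullback.fst (pc i p₀) i) (colimit.ι (F i p₀) U) := by
  apply pullback.hom_ext
  · rw [Category.assoc, Category.assoc, psi, pullback.lift_fst, ι_hmap, pullback.condition,
      ← Category.assoc, eps_hom_snd]
  · rw [Category.assoc, Category.assoc, psi, pullback.lift_snd, eps_hom_fst]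

theorem psi_phi : psi i p₀ ≫ phi i p₀ = 𝟙 X₀ := by
  have key : ∀ U : J i p₀, U.1.ι ≫ psi i p₀ ≫ phi i p₀ = U.1.ι ≫ 𝟙 X₀ := fun U => by
    rw [← Category.assoc, ι_psi, Category.assoc, fst_phi, Iso.hom_inv_id_assoc, Category.comp_id]
  exact (cov₀ i p₀).hom_ext _ _ key

theorem phi_psi : phi i p₀ ≫ psi i p₀ = 𝟙 _ := by
  have key : ∀ U : J i p₀,
      pullback.fst (pullback.fst (pc i p₀) i) (colimit.ι (F i p₀) U) ≫ phi i p₀ ≫ psi i p₀ =
        pullback.fst (pullback.fst (pc i p₀) i) (colimit.ι (F i p₀) U) ≫ 𝟙 _ := fun U => by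
    rw [← Category.assoc, fst_phi, Category.assoc, ι_psi, Iso.inv_hom_id_assoc, Category.comp_id]
  exact (covP i p₀).hom_ext _ _ key

theorem exists_lift_global :
    ∃ (X : Scheme.{u}) (p : X ⟶ S) (_ : Etale p) (θ : pullback p i ≅ X₀),
      θ.hom ≫ p₀ = pullback.snd p i := by
  refine ⟨Xc i p₀, pc i p₀, inferInstance, ⟨phi i p₀, psi i p₀, phi_psi i p₀, psi_phi i p₀⟩, ?_⟩
  change phi i p₀ ≫ p₀ = _
  have h1 : psi i p₀ ≫ pullback.snd (pc i p₀) i = p₀ := pullback.lift_snd _ _ _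
  calc phi i p₀ ≫ p₀ = phi i p₀ ≫ psi i p₀ ≫ pullback.snd (pc i p₀) i := by rw [h1]
    _ = pullback.snd (pc i p₀) i := by rw [← Category.assoc, phi_psi, Category.id_comp]

end Glue

end Groth.Agent.Lib.EtLiftH7
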