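import Mathlib
import Groth.Agent.Lib.ThickAff5_helper6

/-!
# Opens of a thickening with affine trace are affine; affine morphisms and thickenings (helper6)
-/

set_option backward.isDefEq.respectTransparency false
set_option backward.isDefEq.respectTransparency.types false
set_option autoImplicit false

universe u

open CategoryTheory CategoryTheory.Limits AlgebraicGeometry TopologicalSpace

namespace Groth.Agent.Lib.ThickAffH6

variable {Z X : Scheme.{u}}

/-- An open of a thickening whose trace on the closed subscheme is affine is affine. -/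
theorem isAffineOpen_of_thickening (t : Z ⟶ X) [IsClosedImmersion t] [Surjective t] (O : X.Opens)
    (hO : IsAffineOpen (t ⁻¹ᵁ O)) : IsAffineOpen O := by
  haveI : IsAffine ((t ⁻¹ᵁ O : Z.Opens) : Scheme.{u}) := hO
  haveI : IsClosedImmersion (t ∣_ O) :=
    IsZariskiLocalAtTarget.restrict (P := @IsClosedImmersion) inferInstance O
  haveI : Surjective (t ∣_ O) :=
    IsZariskiLocalAtTarget.restrict (P := @Surjective) inferInstance O
  show IsAffine (O : Scheme.{u})
  exact isAffine_of_thickening (t ∣_ O)

/-- A morphism of thickenings is affine iff its restriction to the thin schemes is. -/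
theorem isAffineHom_iff_of_thickening {X X' S S' : Scheme.{u}} (iX : X ⟶ X') (iS : S ⟶ S')
    (f : X ⟶ S) (f' : X' ⟶ S') [IsClosedImmersion iX] [Surjective iX] [IsClosedImmersion iS]
    (w : iX ≫ f' = f ≫ iS) : IsAffineHom f ↔ IsAffineHom f' := by
  constructor
  · intro hf
    refine ⟨fun U' hU' => ?_⟩
    apply isAffineOpen_of_thickening iX
    have e : iX ⁻¹ᵁ (f' ⁻¹ᵁ U') = f ⁻¹ᵁ (iS ⁻¹ᵁ U') := by
      rw [← Scheme.Hom.comp_preimage, ← Scheme.Hom.comp_preimage, w]
    rw [e]
    exact (hU'.preimage iS).preimage f
  · intro hf'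
    haveI : IsAffineHom (f ≫ iS) := by
      rw [← w]
      infer_instance
    exact IsAffineHom.of_comp f iS

end Groth.Agent.Lib.ThickAffH6
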