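import Mathlib
import Groth.Agent.Lib.ThickAff6_helper6

/-!
# Integral morphisms and thickenings (helper6)
-/

set_option backward.isDefEq.respectTransparency false
set_option backward.isDefEq.respectTransparency.types false
set_option autoImplicit false

universe u

open CategoryTheory CategoryTheory.Limits AlgebraicGeometry TopologicalSpace

namespace Groth.Agent.Lib.ThickAffH6

/-- integrality lifts along a surjection with nil kernel. -/
lemma isIntegral_of_comp_nil {A B C : Type*} [CommRing A] [CommRing B] [CommRing C] (φ : A →+* B)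
    (π : B →+* C) (hker : ∀ x ∈ RingHom.ker π, IsNilpotent x)
    (h : ∀ b : B, (π.comp φ).IsIntegralElem (π b)) : φ.IsIntegral := by
  intro b
  obtain ⟨p, hp, hpe⟩ := h b
  rw [← Polynomial.hom_eval₂] at hpe
  obtain ⟨k, hk⟩ := hker _ hpe
  refine ⟨p ^ k, hp.pow k, ?_⟩
  rw [Polynomial.eval₂_pow, hk]

/-- A morphism of thickenings is integral iff its restriction to the thin schemes is. -/
theorem isIntegralHom_iff_of_thickening {X X' S S' : Scheme.{u}} (iX : X ⟶ X') (iS : S ⟶ S')
    (f : X ⟶ S) (f' : X' ⟶ S') [IsClosedImmersion iX] [Surjective iX] [IsClosedImmersion iS]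
    (w : iX ≫ f' = f ≫ iS) : IsIntegralHom f ↔ IsIntegralHom f' := by
  constructor
  · intro hf
    haveI haff : IsAffineHom f' := (isAffineHom_iff_of_thickening iX iS f f' w).mp inferInstance
    haveI hint : IsIntegralHom (iX ≫ f') := by
      rw [w]
      infer_instance
    refine { toIsAffineHom := haff, isIntegral_app := fun U' hU' => ?_ }
    have hO' : IsAffineOpen (f' ⁻¹ᵁ U') := hU'.preimage f'
    refine isIntegral_of_comp_nil (f'.app U').hom (iX.app (f' ⁻¹ᵁ U')).hom ?_ ?_
    · intro x hx
      have h1 : x ∈ iX.ker.ideal ⟨f' ⁻¹ᵁ U', hO'⟩ := by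
        rw [Scheme.Hom.ker_apply]
        exact hx
      have h2 := NilAffH8.ker_le_nilradical iX ⟨f' ⁻¹ᵁ U', hO'⟩ h1
      change x ∈ Ideal.radical ⊥ at h2
      obtain ⟨n, hn⟩ := h2
      exact ⟨n, hn⟩
    · intro b
      have h3 := (iX ≫ f').isIntegral_app U' hU' ((iX.app (f' ⁻¹ᵁ U')).hom b)
      exact h3
  · intro hf'
    haveI : IsIntegralHom (f ≫ iS) := by
      rw [← w]
      infer_instance
    exact IsIntegralHom.of_comp f iS

end Groth.Agent.Lib.ThickAffH6
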