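import Mathlib
import Groth.Agent.Lib.EtLift3_helper7
import Groth.Agent.Lib.ThickAff7_helper6
import Groth.Prelude.Def_EtBase
import Groth.Prelude.Def_FEt

/-!
# Topological invariance of the (finite) étale site (helper7)
-/

open CategoryTheory CategoryTheory.Limits AlgebraicGeometry

universe u

set_option linter.style.haveILetI false
set_option linter.unusedSectionVars false

namespace Groth.Agent.Lib.EtLiftH7

open Groth.Agent.Lib.TopInvH4

variable {S S₀ : Scheme.{u}} (i : S₀ ⟶ S) [IsClosedImmersion i] [Surjective i]

section FF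

variable (P : MorphismProperty Scheme.{u}) [P.IsStableUnderBaseChange] (hP : P ≤ @Etale)

include hP

theorem faithful_pullback : (MorphismProperty.Over.pullback P ⊤ i).Faithful := by
  refine ⟨fun {Y X} φ ψ h => ?_⟩
  haveI : Etale X.hom := hP _ X.prop
  apply MorphismProperty.Over.Hom.ext
  have h' : ((MorphismProperty.Over.pullback P ⊤ i).map φ).left =
      ((MorphismProperty.Over.pullback P ⊤ i).map ψ).left := congrArg (fun α => α.left) h
  have e1 : ((MorphismProperty.Over.pullback P ⊤ i).map φ).left ≫ pullback.fst X.hom i =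
      pullback.fst Y.hom i ≫ φ.left := by
    rw [MorphismProperty.Over.pullback_map_left]; exact pullback.lift_fst _ _ _
  have e2 : ((MorphismProperty.Over.pullback P ⊤ i).map ψ).left ≫ pullback.fst X.hom i =
      pullback.fst Y.hom i ≫ ψ.left := by
    rw [MorphismProperty.Over.pullback_map_left]; exact pullback.lift_fst _ _ _
  exact unique_lift X.hom Y.hom (pullback.fst Y.hom i) φ.left ψ.left
    (MorphismProperty.Over.w φ) (MorphismProperty.Over.w ψ) (by rw [← e1, ← e2, h'])

theorem full_pullback : (MorphismProperty.Over.pullback P ⊤ i).Full := by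
  refine ⟨fun {Y X} g => ?_⟩
  haveI : Etale X.hom := hP _ X.prop
  obtain ⟨gl, hgl⟩ : ∃ gl : pullback Y.hom i ⟶ pullback X.hom i, gl = g.left := ⟨g.left, rfl⟩
  have hg : gl ≫ pullback.snd X.hom i = pullback.snd Y.hom i := by
    subst hgl; exact MorphismProperty.Over.w g
  obtain ⟨φ, hφ1, hφ2⟩ := exists_lift X.hom Y.hom (pullback.fst Y.hom i)
    (gl ≫ pullback.fst X.hom i) (by
      rw [Category.assoc, pullback.condition (f := X.hom) (g := i), ← Category.assoc, hg]
      exact (pullback.condition (f := Y.hom) (g := i)).symm)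
  refine ⟨MorphismProperty.Over.homMk φ hφ1 trivial, ?_⟩
  apply MorphismProperty.Over.Hom.ext
  rw [MorphismProperty.Over.pullback_map_left]
  refine Eq.trans ?_ hgl
  apply pullback.hom_ext
  · rw [pullback.lift_fst]; exact hφ2
  · rw [pullback.lift_snd]; exact hg.symm

theorem essSurj_pullback
    (hrec : ∀ {X : Scheme.{u}} (p : X ⟶ S), Etale p → P (pullback.snd p i) → P p) :
    (MorphismProperty.Over.pullback P ⊤ i).EssSurj := by
  refine ⟨fun X₀ => ?_⟩
  haveI : Etale X₀.hom := hP _ X₀.prop
  obtain ⟨X, p, hp, θ, hθ⟩ := exists_lift_global i X₀.hom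
  have hPp : P p := hrec p hp (by
    rw [← hθ]; exact (P.cancel_left_of_respectsIso θ.hom X₀.hom).mpr X₀.prop)
  exact ⟨MorphismProperty.Over.mk ⊤ p hPp, ⟨MorphismProperty.Over.isoMk
    (A := (MorphismProperty.Over.pullback P ⊤ i).obj (MorphismProperty.Over.mk ⊤ p hPp))
    (B := X₀) θ hθ⟩⟩

end FF

/-- S0118: base change of étale schemes along a surjective closed immersion is an equivalence. -/
theorem main118 : (EtCoh.bc i).IsEquivalence := by
  show (MorphismProperty.Over.pullback EtCoh.etaleMP.{u} ⊤ i).IsEquivalence
  haveI := faithful_pullback i (@Etale) le_rfl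
  haveI := full_pullback i (@Etale) le_rfl
  haveI := essSurj_pullback i (@Etale) le_rfl (fun p hp _ => hp)
  exact { faithful := inferInstance, full := inferInstance, essSurj := inferInstance }

theorem fet_le : FEt.prop.{u} ≤ @Etale := fun _ _ _ h => h.2

theorem fet_rec {X : Scheme.{u}} (p : X ⟶ S) (hp : Etale p)
    (h : FEt.prop (pullback.snd p i)) : FEt.prop p := by
  refine ⟨?_, hp⟩
  haveI : IsFinite (pullback.snd p i) := h.1
  have hint : IsIntegralHom (pullback.snd p i) :=
    ((IsFinite.iff_isIntegralHom_and_locallyOfFiniteType _).mp inferInstance).1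
  have hint' : IsIntegralHom p :=
    (Groth.Agent.Lib.ThickAffH6.isIntegralHom_iff_of_thickening (pullback.fst p i) i
      (pullback.snd p i) p pullback.condition).mp hint
  exact (IsFinite.iff_isIntegralHom_and_locallyOfFiniteType _).mpr ⟨hint', inferInstance⟩

/-- S0238: restriction of finite étale covers along a surjective closed immersion is an
equivalence. -/
theorem main238 : (FEt.restrict i).IsEquivalence := by
  show (MorphismProperty.Over.pullback FEt.prop.{u} ⊤ i).IsEquivalence
  haveI := faithful_pullback i FEt.prop.{u} fet_le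
  haveI := full_pullback i FEt.prop.{u} fet_le
  haveI := essSurj_pullback i FEt.prop.{u} fet_le (fun p hp h => fet_rec i p hp h)
  exact { faithful := inferInstance, full := inferInstance, essSurj := inferInstance }

end Groth.Agent.Lib.EtLiftH7
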