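import Mathlib

set_option autoImplicit false
universe u

open TensorProduct MvPolynomial

namespace EtLocH8

open Algebra

/-- Clearing denominators in a multivariate polynomial over a localization. -/
theorem exists_clear_denominators {R : Type u} [CommRing R] (M : Submonoid R) (B : Type u)
    [CommRing B] [Algebra R B] [IsLocalization M B] {ι : Type*} (p : MvPolynomial ι B) :
    ∃ (m : M) (V : MvPolynomial ι R),
      MvPolynomial.map (algebraMap R B) V = C (algebraMap R B (m : R)) * p := by
  induction p using MvPolynomial.induction_on with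
  | C b =>
    obtain ⟨⟨a, m⟩, hm⟩ := IsLocalization.surj M b
    refine ⟨m, C a, ?_⟩
    rw [MvPolynomial.map_C, ← C_mul]
    congr 1
    rw [mul_comm]
    exact hm.symm
  | add p q hp hq =>
    obtain ⟨m, V, hV⟩ := hp
    obtain ⟨m', V', hV'⟩ := hq
    refine ⟨m * m', C (m' : R) * V + C (m : R) * V', ?_⟩
    rw [map_add, map_mul, map_mul, hV, hV', MvPolynomial.map_C, MvPolynomial.map_C,
      Submonoid.coe_mul, map_mul, C_mul]
    ring
  | mul_X p i hp =>
    obtain ⟨m, V, hV⟩ := hp
    refine ⟨m, V * X i, ?_⟩
    rw [map_mul, hV, MvPolynomial.map_X, mul_assoc]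

end EtLocH8
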