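import Mathlib
import Groth.Agent.Lib.EtLoc1_helper8

set_option autoImplicit false
universe u

open TensorProduct MvPolynomial

namespace EtLocH8

open Algebra

set_option maxHeartbeats 1000000 in
/-- Étale algebras over a localization descend to étale algebras over the base. -/
theorem exists_etale_descent (R : Type u) [CommRing R] (M : Submonoid R) (B : Type u)
    [CommRing B] [Algebra R B] [IsLocalization M B] (Sb : Type u)
    [CommRing Sb] [Algebra B Sb] [Algebra.Etale B Sb] :
    ∃ (S : Type u) (_ : CommRing S) (_ : Algebra R S), Algebra.Etale R S ∧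
      Nonempty ((B ⊗[R] S) ≃ₐ[B] Sb) := by
  classical
  obtain ⟨ι, σ, _, _, P, hdim⟩ :=
    (Algebra.Etale.iff_isStandardSmoothOfRelativeDimension_zero.mp
      (inferInstance : Algebra.Etale B Sb)).out
  haveI : Fintype σ := Fintype.ofFinite σ
  choose m V hV using fun s : σ => exists_clear_denominators M B (P.relation s)
  let P₀ : PreSubmersivePresentation R (MvPolynomial ι R ⧸ Ideal.span (Set.range V)) ι σ :=
    PreSubmersivePresentation.naive (v := V) P.map P.map_inj
  let Δ : MvPolynomial ι R ⧸ Ideal.span (Set.range V) := P₀.jacobian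
  let Q : SubmersivePresentation (MvPolynomial ι R ⧸ Ideal.span (Set.range V))
      (Localization.Away Δ) Unit Unit :=
    SubmersivePresentation.localizationAway (Localization.Away Δ) Δ
  let QP : PreSubmersivePresentation R (Localization.Away Δ) (Unit ⊕ ι) (Unit ⊕ σ) :=
    Q.toPreSubmersivePresentation.comp P₀
  have hjac : IsUnit QP.jacobian := by
    show IsUnit (Q.toPreSubmersivePresentation.comp P₀).jacobian
    rw [PreSubmersivePresentation.comp_jacobian_eq_jacobian_smul_jacobian, Algebra.smul_def,
      IsUnit.mul_iff]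
    refine ⟨?_, Q.jacobian_isUnit⟩
    exact IsLocalization.map_units _ (⟨Δ, 1, by simp⟩ : Submonoid.powers Δ)
  let SP : SubmersivePresentation R (Localization.Away Δ) (Unit ⊕ ι) (Unit ⊕ σ) := ⟨QP, hjac⟩
  have hSPdim : SP.dimension = 0 := by
    show (Q.toPreSubmersivePresentation.comp P₀).dimension = 0
    rw [PreSubmersivePresentation.dimension_comp_eq_dimension_add_dimension]
    have h1 : Q.dimension = 0 := by simp [Presentation.dimension]
    have h2 : P₀.dimension = 0 := hdim
    rw [h1, h2]
  haveI : Algebra.IsStandardSmoothOfRelativeDimension 0 R (Localization.Away Δ) :=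
    SP.isStandardSmoothOfRelativeDimension hSPdim
  refine ⟨Localization.Away Δ, inferInstance, inferInstance, inferInstance, ⟨?_⟩⟩
  letI : Algebra R Sb := ((algebraMap B Sb).comp (algebraMap R B)).toAlgebra
  haveI : IsScalarTower R B Sb := IsScalarTower.of_algebraMap_eq' rfl
  have hrel : ∀ s, MvPolynomial.aeval (R := R) P.val (V s) = 0 := by
    intro s
    rw [← MvPolynomial.aeval_map_algebraMap B P.val (V s), hV, map_mul]
    have := P.aeval_val_relation s
    rw [this, mul_zero]
  let f₀ : (MvPolynomial ι R ⧸ Ideal.span (Set.range V)) →ₐ[R] Sb :=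
    Ideal.Quotient.liftₐ _ (MvPolynomial.aeval P.val) (by
      intro a ha
      have : Ideal.span (Set.range V) ≤
          RingHom.ker (MvPolynomial.aeval (R := R) P.val).toRingHom := by
        rw [Ideal.span_le]; rintro _ ⟨s, rfl⟩; exact hrel s
      exact this ha)
  have hf₀mk : ∀ p : MvPolynomial ι R,
      f₀ (Ideal.Quotient.mk _ p) = MvPolynomial.aeval P.val p := fun p => rfl
  have hcunit : ∀ s, IsUnit (algebraMap R B (m s : R)) := fun s => IsLocalization.map_units B (m s)
  have hΔ : f₀ Δ = P.jacobian * ∏ j, algebraMap B Sb (algebraMap R B (m j : R)) := by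
    show f₀ P₀.jacobian = _
    rw [PreSubmersivePresentation.jacobian_eq_jacobiMatrix_det,
      PreSubmersivePresentation.jacobian_eq_jacobiMatrix_det]
    have h1 : ∀ p : MvPolynomial ι R, f₀ (algebraMap P₀.Ring _ p) =
        MvPolynomial.aeval P.val p := fun p => rfl
    rw [h1, Generators.algebraMap_apply, AlgHom.map_det, AlgHom.map_det,
      ← Matrix.det_diagonal, ← Matrix.det_mul]
    congr 1
    ext i j
    rw [Matrix.mul_diagonal]
    simp only [AlgHom.mapMatrix_apply, Matrix.map_apply,
      PreSubmersivePresentation.jacobiMatrix_apply]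
    show MvPolynomial.aeval P.val (MvPolynomial.pderiv (P.map i) (V j)) =
      MvPolynomial.aeval P.val (MvPolynomial.pderiv (P.map i) (P.relation j)) *
        algebraMap B Sb (algebraMap R B (m j : R))
    rw [← MvPolynomial.aeval_map_algebraMap B P.val, ← MvPolynomial.pderiv_map, hV j,
      MvPolynomial.C_mul', Derivation.map_smul, map_smul, Algebra.smul_def, mul_comm]
  have hΔunit : IsUnit (f₀ Δ) := by
    rw [hΔ]
    refine P.jacobian_isUnit.mul ?_
    rw [IsUnit.prod_univ_iff]
    intro j
    exact (hcunit j).map (algebraMap B Sb)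
  have hunit : ∀ y : Submonoid.powers Δ, IsUnit (f₀ y) := by
    rintro ⟨_, n, rfl⟩
    rw [map_pow]; exact hΔunit.pow n
  let f : Localization.Away Δ →ₐ[R] Sb :=
    IsLocalization.liftAlgHom (M := Submonoid.powers Δ) (f := f₀) hunit
  have hf : ∀ x, f (algebraMap _ _ x) = f₀ x := fun x => IsLocalization.lift_eq _ x
  let g : B ⊗[R] Localization.Away Δ →ₐ[B] Sb :=
    Algebra.TensorProduct.lift (Algebra.ofId B Sb) f (fun _ _ => Commute.all _ _)
  have hg : ∀ a x, g (a ⊗ₜ x) = algebraMap B Sb a * f x := by
    intro a x; simp [g, Algebra.ofId_apply]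
  let t : ι → B ⊗[R] Localization.Away Δ := fun i =>
    1 ⊗ₜ (algebraMap _ (Localization.Away Δ) (Ideal.Quotient.mk (Ideal.span (Set.range V)) (X i)))
  have ht : ∀ p : MvPolynomial ι R,
      MvPolynomial.aeval (R := B) t (MvPolynomial.map (algebraMap R B) p) =
        1 ⊗ₜ (algebraMap _ (Localization.Away Δ)
          (Ideal.Quotient.mk (Ideal.span (Set.range V)) p)) := by
    intro p
    rw [MvPolynomial.aeval_map_algebraMap]
    have : (MvPolynomial.aeval (R := R) t) =
        ((Algebra.TensorProduct.includeRight : Localization.Away Δ →ₐ[R] _).comp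
          ((IsScalarTower.toAlgHom R (MvPolynomial ι R ⧸ Ideal.span (Set.range V))
            (Localization.Away Δ)).comp (Ideal.Quotient.mkₐ R _))) := by
      apply MvPolynomial.algHom_ext; intro i; simp [t]
    rw [this]; rfl
  have hker : ∀ a ∈ P.ker, MvPolynomial.aeval (R := B) t a = 0 := by
    intro a ha
    have : P.ker ≤ RingHom.ker (MvPolynomial.aeval (R := B) t).toRingHom := by
      rw [← P.span_range_relation_eq_ker, Ideal.span_le]
      rintro _ ⟨s, rfl⟩
      show MvPolynomial.aeval t (P.relation s) = 0
      have h2 : MvPolynomial.aeval (R := B) t (C (algebraMap R B (m s : R)) * P.relation s) = 0 := by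
        rw [← hV s, ht]
        have : Ideal.Quotient.mk (Ideal.span (Set.range V)) (V s) = 0 :=
          Ideal.Quotient.eq_zero_iff_mem.mpr (Ideal.subset_span ⟨s, rfl⟩)
        rw [this, map_zero, tmul_zero]
      rw [map_mul, MvPolynomial.aeval_C] at h2
      exact ((hcunit s).map (algebraMap B (B ⊗[R] Localization.Away Δ))).mul_right_eq_zero.mp h2
    exact this ha
  let h₁ : P.Quotient →ₐ[B] B ⊗[R] Localization.Away Δ :=
    Ideal.Quotient.liftₐ P.ker (MvPolynomial.aeval t) hker
  let h : Sb →ₐ[B] B ⊗[R] Localization.Away Δ :=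
    h₁.comp (P.quotientEquiv.restrictScalars B).symm.toAlgHom
  have hh : ∀ q : MvPolynomial ι B, h (MvPolynomial.aeval P.val q) =
      MvPolynomial.aeval t q := by
    intro q
    have : (P.quotientEquiv.restrictScalars B).symm (MvPolynomial.aeval P.val q) =
        Ideal.Quotient.mk P.ker q := by
      rw [AlgEquiv.symm_apply_eq]
      show MvPolynomial.aeval P.val q = P.quotientEquiv (Ideal.Quotient.mk _ q)
      rw [Presentation.quotientEquiv_mk, Generators.algebraMap_apply]
    show h₁ ((P.quotientEquiv.restrictScalars B).symm (MvPolynomial.aeval P.val q)) = _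
    rw [this]
    rfl
  have hA : ∀ x : MvPolynomial ι R ⧸ Ideal.span (Set.range V),
      h (f₀ x) = 1 ⊗ₜ (algebraMap _ (Localization.Away Δ) x) := by
    intro x
    obtain ⟨p, rfl⟩ := Ideal.Quotient.mk_surjective x
    rw [hf₀mk, ← MvPolynomial.aeval_map_algebraMap B P.val p, hh, ht]
  have hB : ∀ b : Localization.Away Δ, h (f b) = 1 ⊗ₜ b := by
    have : (h.toRingHom.comp f.toRingHom) =
        (Algebra.TensorProduct.includeRight : Localization.Away Δ →ₐ[R] _).toRingHom := by
      apply IsLocalization.ringHom_ext (Submonoid.powers Δ)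
      refine RingHom.ext fun x => ?_
      show h (f (algebraMap _ _ x)) = 1 ⊗ₜ (algebraMap _ _ x)
      rw [hf, hA]
    intro b
    exact RingHom.congr_fun this b
  have hhg : ∀ z, h (g z) = z := by
    intro z
    induction z using TensorProduct.induction_on with
    | zero => simp
    | add x y hx hy => rw [map_add, map_add, hx, hy]
    | tmul a b =>
      rw [hg, map_mul, AlgHom.commutes, hB, Algebra.TensorProduct.algebraMap_apply,
        Algebra.TensorProduct.tmul_mul_tmul, mul_one, one_mul]
      rfl
  have hgt : ∀ i, g (t i) = P.val i := by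
    intro i
    show g (1 ⊗ₜ _) = _
    rw [hg, map_one, one_mul, hf, hf₀mk, MvPolynomial.aeval_X]
  have hgh : ∀ y, g (h y) = y := by
    intro y
    obtain ⟨q, rfl⟩ := P.algebraMap_surjective y
    rw [Generators.algebraMap_apply, hh, MvPolynomial.comp_aeval_apply]
    congr 2
    funext i
    exact hgt i
  exact AlgEquiv.ofBijective g ⟨Function.LeftInverse.injective hhg,
    Function.RightInverse.surjective hgh⟩

end EtLocH8
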