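import Mathlib
import Groth.Agent.Lib.EtLoc2_helper4

/-!
# Étale-local structure of unramified and étale morphisms: the master theorem (helper4)
-/

open AlgebraicGeometry CategoryTheory Limits

universe u

namespace Groth.Agent.Lib.EtLocH4

open PurInsepH4 EtNbhdFinH4

/-- The closed immersion / isomorphism neighbourhood of one finite part. -/
theorem exists_open_part {P X' U S : Scheme.{u}} {p₁ : P ⟶ X'} {p₂ : P ⟶ U} {f' : X' ⟶ S}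
    {g : U ⟶ S} (hpb : IsPullback p₁ p₂ f' g) [LocallyOfFiniteType f'] [FormallyUnramified f']
    (u : U) (V : P.Opens) (v : P) (hmem : v ∈ V) (hfin : IsFinite (V.ι ≫ p₂)) (hsnd : p₂ v = u)
    (huniq : ∀ w : P, w ∈ V → p₂ w = u → w = v) (hPI : PI (p₂.residueFieldMap v).hom) :
    ∃ U₀ : U.Opens, u ∈ U₀ ∧ ∀ {U' P' : Scheme.{u}} (j : U' ⟶ U) (q₁ : P' ⟶ V.toScheme) (q₂ : P' ⟶ U'),
      IsPullback q₁ q₂ (V.ι ≫ p₂) j → (∀ y, j y ∈ U₀) →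
        IsClosedImmersion q₂ ∧ (Etale f' → IsIso q₂) := by
  haveI : FormallyUnramified p₂ :=
    MorphismProperty.of_isPullback (P := @FormallyUnramified) hpb inferInstance
  haveI : FormallyUnramified (V.ι ≫ p₂) :=
    MorphismProperty.comp_mem (W := @FormallyUnramified) _ _ inferInstance inferInstance
  have huniq' : ∀ w : ↥V, (V.ι ≫ p₂) w = u → w = ⟨v, hmem⟩ := fun w hw => by
    apply V.ι.isOpenEmbedding.injective
    exact huniq _ w.2 hw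
  have hPI' : PI ((V.ι ≫ p₂).residueFieldMap ⟨v, hmem⟩).hom := by
    rw [Scheme.residueFieldMap_comp]
    exact hPI.of_square _ (RingHom.id _) (V.ι.residueFieldMap ⟨v, hmem⟩).hom
      (ConcreteCategory.bijective_of_isIso (V.ι.residueFieldMap ⟨v, hmem⟩)).2 rfl
  obtain ⟨U₀, hu₀, H⟩ :=
    exists_open_forall_isClosedImmersion (V.ι ≫ p₂) u ⟨v, hmem⟩ huniq' hPI'
  by_cases het : Etale f'
  · haveI : Etale p₂ := MorphismProperty.of_isPullback (P := @Etale) hpb het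
    obtain ⟨U₁, hu₁, H₁⟩ :=
      exists_open_forall_isIso (V.ι ≫ p₂) u ⟨v, hmem⟩ hsnd huniq' hPI'
    exact ⟨U₀ ⊓ U₁, ⟨hu₀, hu₁⟩, fun j q₁ q₂ hsq hj =>
      ⟨H j q₁ q₂ hsq (fun y => (hj y).1), fun _ => H₁ j q₁ q₂ hsq (fun y => (hj y).2)⟩⟩
  · exact ⟨U₀, hu₀, fun j q₁ q₂ hsq hj => ⟨H j q₁ q₂ hsq hj, fun h => (het h).elim⟩⟩

set_option maxHeartbeats 1600000 in
/-- Master theorem: étale-local structure of a morphism which is unramified (resp. étale) on an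
open subscheme `X'` containing finitely many given points of a fibre. -/
theorem master {X' X S : Scheme.{u}} (i : X' ⟶ X) [IsOpenImmersion i] (f : X ⟶ S)
    [LocallyOfFiniteType (i ≫ f)] [FormallyUnramified (i ≫ f)] (s : S)
    {ι : Type} [Finite ι] (x : ι → ↑X') (hinj : Function.Injective x)
    (hs : ∀ k, (i ≫ f) (x k) = s) :
    ∃ (U : Scheme.{u}) (g : U ⟶ S) (u : U), Etale g ∧ g u = s ∧
      ∃ (n : ℕ) (lab : Fin n → ι) (V : Fin n → (pullback f g).Opens),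
        (∀ m, IsClosedImmersion ((V m).ι ≫ pullback.snd f g) ∧
          (Etale (i ≫ f) → IsIso ((V m).ι ≫ pullback.snd f g)) ∧
          ∃ w : ↑(pullback f g), w ∈ V m ∧ pullback.snd f g w = u) ∧
        (∀ (m m' : Fin n) (w : ↑(pullback f g)), w ∈ V m → w ∈ V m' →
          pullback.snd f g w = u → m = m') ∧
        (∀ (w : ↑(pullback f g)) (k : ι), pullback.snd f g w = u →
          pullback.fst f g w = i (x k) → ∃ m, lab m = k ∧ w ∈ V m) ∧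
        (IsSeparated (i ≫ f) → ∀ m m', m ≠ m' → Disjoint (V m) (V m')) ∧
        (IsFinite (i ≫ f) → (∀ y : X', (i ≫ f) y = s → ∃ k, y = x k) →
          ∀ w : ↑(pullback f g), pullback.fst f g w ∈ Set.range i → ∃ m, w ∈ V m) := by
  haveI := locallyQuasiFinite_of_unramified (i ≫ f)
  obtain ⟨U, P, g, u, p₁, p₂, hg, hgu, hpb, n, lab, V, v, hSD, hfin, hPI⟩ :=
    core (i ≫ f) s x hinj hs (fun k => Scheme.Hom.quasiFiniteAt (i ≫ f) (x k))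
  -- the closed immersion / isomorphism neighbourhoods
  have hCI : ∀ m, ∃ U₀ : U.Opens, u ∈ U₀ ∧
      ∀ {U' P' : Scheme.{u}} (j : U' ⟶ U) (q₁ : P' ⟶ (V m).toScheme) (q₂ : P' ⟶ U'),
      IsPullback q₁ q₂ ((V m).ι ≫ p₂) j → (∀ y, j y ∈ U₀) →
        IsClosedImmersion q₂ ∧ (Etale (i ≫ f) → IsIso q₂) := fun m =>
    exists_open_part hpb u (V m) (v m) (hSD.mem m) (hfin m) (hSD.snd_v m) (hSD.uniq m) (hPI m)
  choose U₀ hU₀u hU₀ using hCI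
  -- the disjointness neighbourhood
  obtain ⟨U_d, hU_du, hU_d⟩ : ∃ U_d : U.Opens, u ∈ U_d ∧ (IsSeparated (i ≫ f) →
      ∀ (w : P) (m m' : Fin n), p₂ w ∈ U_d → w ∈ V m → w ∈ V m' → m = m') := by
    by_cases hsep : IsSeparated (i ≫ f)
    · haveI : IsSeparated p₂ := MorphismProperty.of_isPullback (P := @IsSeparated) hpb hsep
      obtain ⟨U_d, h1, h2⟩ := exists_open_disjoint p₂ u V v hSD.inj
        (fun m => ⟨hSD.mem m, hfin m, hSD.snd_v m, hSD.uniq m⟩)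
      exact ⟨U_d, h1, fun _ => h2⟩
    · exact ⟨⊤, trivial, fun h => (hsep h).elim⟩
  -- the covering neighbourhood
  have hcomm : ∀ c : P, (i ≫ f) (p₁ c) = g (p₂ c) := fun c => by
    rw [← Scheme.Hom.comp_apply, ← Scheme.Hom.comp_apply, hpb.w]
  obtain ⟨U_e, hU_eu, hU_e⟩ : ∃ U_e : U.Opens, u ∈ U_e ∧ (IsFinite (i ≫ f) →
      (∀ y : X', (i ≫ f) y = s → ∃ k, y = x k) → ∀ w : P, p₂ w ∈ U_e → ∃ m, w ∈ V m) := by
    by_cases hff : IsFinite (i ≫ f) ∧ (∀ y : X', (i ≫ f) y = s → ∃ k, y = x k)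
    · obtain ⟨hff, hall⟩ := hff
      haveI : IsFinite p₂ := MorphismProperty.of_isPullback (P := @IsFinite) hpb hff
      have hCcl : IsClosed (⋃ m, (V m : Set P))ᶜ :=
        (isOpen_iUnion fun m => (V m).2).isClosed_compl
      have hZcl := p₂.isClosedMap _ hCcl
      refine ⟨⟨(p₂ '' (⋃ m, (V m : Set P))ᶜ)ᶜ, hZcl.isOpen_compl⟩, ?_, fun _ _ w hw => ?_⟩
      · rintro ⟨c, hc, hcu⟩
        apply hc
        have h1 : (i ≫ f) (p₁ c) = s := by rw [hcomm, hcu, hgu]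
        obtain ⟨k, hk⟩ := hall _ h1
        obtain ⟨m, -, hm⟩ := hSD.cov c k hcu hk
        exact Set.mem_iUnion.mpr ⟨m, hm⟩
      · by_contra hne
        apply hw
        refine ⟨w, fun hmem => hne ?_, rfl⟩
        obtain ⟨m, hm⟩ := Set.mem_iUnion.mp hmem
        exact ⟨m, hm⟩
    · exact ⟨⊤, trivial, fun h1 h2 => (hff ⟨h1, h2⟩).elim⟩
  -- the common neighbourhood
  obtain ⟨U₃, hu₃mem, hU₃0, hU₃d, hU₃e⟩ : ∃ U₃ : U.Opens, u ∈ U₃ ∧ (∀ m, U₃ ≤ U₀ m) ∧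
      U₃ ≤ U_d ∧ U₃ ≤ U_e :=
    ⟨⟨(⋂ m, (U₀ m : Set U)) ∩ ((U_d : Set U) ∩ U_e),
      (isOpen_iInter_of_finite fun m => (U₀ m).2).inter (U_d.2.inter U_e.2)⟩,
      ⟨Set.mem_iInter.mpr hU₀u, hU_du, hU_eu⟩, fun m y hy => Set.mem_iInter.mp hy.1 m,
      fun y hy => hy.2.1, fun y hy => hy.2.2⟩
  obtain ⟨P₃, q₁, q₂, sq3⟩ : ∃ (P₃ : Scheme.{u}) (q₁ : P₃ ⟶ P) (q₂ : P₃ ⟶ U₃.toScheme),
      IsPullback q₁ q₂ p₂ U₃.ι := ⟨_, _, _, IsPullback.of_hasPullback p₂ U₃.ι⟩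
  have hb₃ : Function.Bijective (U₃.ι.residueFieldMap (⟨u, hu₃mem⟩ : ↥U₃)) :=
    ConcreteCategory.bijective_of_isIso _
  have hu₃ : U₃.ι (⟨u, hu₃mem⟩ : ↥U₃) = u := rfl
  obtain ⟨v₃, hv₃, hSD₃⟩ := hSD.baseChange hfin sq3 (⟨u, hu₃mem⟩ : ↥U₃) hu₃ hb₃
  have hc3 : ∀ w : P₃, p₂ (q₁ w) = U₃.ι (q₂ w) := fun w => by
    rw [← Scheme.Hom.comp_apply, ← Scheme.Hom.comp_apply, sq3.w]
  have hmemU₃ : ∀ w : P₃, p₂ (q₁ w) ∈ U₃ := fun w => by rw [hc3]; exact (q₂ w).2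
  have hpb₃ : IsPullback (q₁ ≫ p₁) q₂ (i ≫ f) (U₃.ι ≫ g) := sq3.paste_horiz hpb
  obtain ⟨j, hjopen, hjsnd, hjfst, hleft⟩ := exists_openImmersion i hpb₃
  have hjsnd' : ∀ w : P₃, pullback.snd f (U₃.ι ≫ g) (j w) = q₂ w := fun w => by
    rw [← Scheme.Hom.comp_apply, hjsnd]
  have hsq : ∀ m, IsPullback (q₁ ∣_ V m) ((q₁ ⁻¹ᵁ V m).ι ≫ q₂) ((V m).ι ≫ p₂) U₃.ι := fun m =>
    (isPullback_morphismRestrict q₁ (V m)).paste_vert sq3
  have hQ : ∀ m, IsClosedImmersion ((q₁ ⁻¹ᵁ V m).ι ≫ q₂) ∧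
      (Etale (i ≫ f) → IsIso ((q₁ ⁻¹ᵁ V m).ι ≫ q₂)) := fun m =>
    hU₀ m U₃.ι _ _ (hsq m) (fun y => hU₃0 m y.2)
  have hιeq : ∀ m, (j ''ᵁ (q₁ ⁻¹ᵁ V m)).ι ≫ pullback.snd f (U₃.ι ≫ g) =
      (j.isoImage (q₁ ⁻¹ᵁ V m)).inv ≫ (q₁ ⁻¹ᵁ V m).ι ≫ q₂ := fun m => by
    rw [← j.isoImage_inv_ι, Category.assoc, Category.assoc, hjsnd]
  refine ⟨U₃.toScheme, U₃.ι ≫ g, (⟨u, hu₃mem⟩ : ↥U₃), inferInstance,
    by rw [Scheme.Hom.comp_apply, hu₃, hgu], n, lab, fun m => j ''ᵁ (q₁ ⁻¹ᵁ V m),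
    ?_, ?_, ?_, ?_, ?_⟩
  · intro m
    refine ⟨?_, ?_, j (v₃ m), ⟨v₃ m, hSD₃.mem m, rfl⟩, ?_⟩
    · rw [hιeq]
      haveI := (hQ m).1
      infer_instance
    · intro het
      rw [hιeq]
      haveI := (hQ m).2 het
      infer_instance
    · rw [hjsnd', hSD₃.snd_v m]
  · rintro m m' w ⟨w₁, hw₁, rfl⟩ ⟨w₂, hw₂, hw₂e⟩ hwu
    have h21 : w₂ = w₁ := j.isOpenEmbedding.injective hw₂e
    subst h21
    have hwu' : q₂ w₂ = (⟨u, hu₃mem⟩ : ↥U₃) := (hjsnd' w₂).symm.trans hwu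
    have e1 := hSD₃.uniq m w₂ hw₁ hwu'
    have e2 := hSD₃.uniq m' w₂ hw₂ hwu'
    exact hSD₃.inj (e1.symm.trans e2)
  · intro w k hw1 hw2
    obtain ⟨w', hw'1, hw'2⟩ := Scheme.exists_preimage_of_isPullback hleft w (x k) hw2
    have hw'1' : j w' = w := hw'1
    have h1 : q₂ w' = (⟨u, hu₃mem⟩ : ↥U₃) := by rw [← hjsnd', hw'1', hw1]
    obtain ⟨m, hm1, hm2⟩ := hSD₃.cov w' k h1 hw'2
    exact ⟨m, hm1, w', hm2, hw'1'⟩
  · intro hsep m m' hne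
    rw [disjoint_iff_inf_le]
    rintro w ⟨⟨w₁, hw₁, rfl⟩, ⟨w₂, hw₂, hw₂e⟩⟩
    have h21 : w₂ = w₁ := j.isOpenEmbedding.injective hw₂e
    subst h21
    exact (hne (hU_d hsep (q₁ w₂) m m' (hU₃d (hmemU₃ w₂)) hw₁ hw₂)).elim
  · intro hff hall w hw
    obtain ⟨y, hy⟩ := hw
    obtain ⟨w', hw'1, -⟩ := Scheme.exists_preimage_of_isPullback hleft w y hy.symm
    have hw'1' : j w' = w := hw'1
    obtain ⟨m, hm⟩ := hU_e hff hall (q₁ w') (hU₃e (hmemU₃ w'))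
    exact ⟨m, w', hm, hw'1'⟩

end Groth.Agent.Lib.EtLocH4
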