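import Mathlib
import Groth.Agent.Lib.EtLoc3_helper4

/-!
# Étale-local structure of unramified and étale morphisms: the statements (helper4)
-/

open AlgebraicGeometry CategoryTheory Limits

universe u

namespace Groth.Agent.Lib.EtLocH4

open PurInsepH4 EtNbhdFinH4

theorem main9555 {X S : Scheme.{u}} (f : X ⟶ S) (s : S)
    {ι : Type} [Finite ι] (x : ι → ↑X) (hinj : Function.Injective x) (hs : ∀ i, f (x i) = s)
    (hx : ∀ i, ∃ W : X.Opens, x i ∈ W ∧ LocallyOfFiniteType (W.ι ≫ f) ∧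
      FormallyUnramified (W.ι ≫ f)) :
    ∃ (U : Scheme.{u}) (g : U ⟶ S) (u : U), Etale g ∧ g u = s ∧
      ∃ (K : Type) (_ : Finite K) (lab : K → ι) (V : K → (pullback f g).Opens),
        (∀ k, IsClosedImmersion ((V k).ι ≫ pullback.snd f g) ∧
          ∃ w : ↑(pullback f g), w ∈ V k ∧ pullback.snd f g w = u) ∧
        (∀ (k k' : K) (w : ↑(pullback f g)), w ∈ V k → w ∈ V k' →
          pullback.snd f g w = u → k = k') ∧
        (∀ (w : ↑(pullback f g)) (i : ι), pullback.snd f g w = u → pullback.fst f g w = x i →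
          ∃ k, lab k = i ∧ w ∈ V k) := by
  choose W hxW hWlft hWunr using hx
  haveI : LocallyOfFiniteType ((⨆ i, W i).ι ≫ f) :=
    of_iSup (P := @LocallyOfFiniteType) f W hWlft
  haveI : FormallyUnramified ((⨆ i, W i).ι ≫ f) :=
    of_iSup (P := @FormallyUnramified) f W hWunr
  have hmem : ∀ i, x i ∈ ⨆ i, W i := fun i => TopologicalSpace.Opens.mem_iSup.mpr ⟨i, hxW i⟩
  have hinj' : Function.Injective (fun i => (⟨x i, hmem i⟩ : ↥(⨆ i, W i))) :=
    fun a b h => hinj (congrArg Subtype.val h)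
  obtain ⟨U, g, u, hg, hgu, n, lab, V, hA, hB, hC, -, -⟩ :=
    master (⨆ i, W i).ι f s (fun i => (⟨x i, hmem i⟩ : ↥(⨆ i, W i))) hinj' (fun k => hs k)
  exact ⟨U, g, u, hg, hgu, Fin n, inferInstance, lab, V, fun m => ⟨(hA m).1, (hA m).2.2⟩, hB,
    fun w i h1 h2 => hC w i h1 h2⟩

theorem main9557 {X S : Scheme.{u}} (f : X ⟶ S) (s : S)
    {ι : Type} [Finite ι] (x : ι → ↑X) (hinj : Function.Injective x) (hs : ∀ i, f (x i) = s)
    (hx : ∀ i, ∃ W : X.Opens, x i ∈ W ∧ Etale (W.ι ≫ f)) :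
    ∃ (U : Scheme.{u}) (g : U ⟶ S) (u : U), Etale g ∧ g u = s ∧
      ∃ (K : Type) (_ : Finite K) (lab : K → ι) (V : K → (pullback f g).Opens),
        (∀ k, IsIso ((V k).ι ≫ pullback.snd f g)) ∧
        (∀ (k k' : K) (w : ↑(pullback f g)), w ∈ V k → w ∈ V k' →
          pullback.snd f g w = u → k = k') ∧
        (∀ (w : ↑(pullback f g)) (i : ι), pullback.snd f g w = u → pullback.fst f g w = x i →
          ∃ k, lab k = i ∧ w ∈ V k) := by
  choose W hxW hWet using hx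
  haveI het : Etale ((⨆ i, W i).ι ≫ f) := of_iSup (P := @Etale) f W hWet
  have hmem : ∀ i, x i ∈ ⨆ i, W i := fun i => TopologicalSpace.Opens.mem_iSup.mpr ⟨i, hxW i⟩
  have hinj' : Function.Injective (fun i => (⟨x i, hmem i⟩ : ↥(⨆ i, W i))) :=
    fun a b h => hinj (congrArg Subtype.val h)
  obtain ⟨U, g, u, hg, hgu, n, lab, V, hA, hB, hC, -, -⟩ :=
    master (⨆ i, W i).ι f s (fun i => (⟨x i, hmem i⟩ : ↥(⨆ i, W i))) hinj' (fun k => hs k)
  exact ⟨U, g, u, hg, hgu, Fin n, inferInstance, lab, V, fun m => (hA m).2.1 het, hB,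
    fun w i h1 h2 => hC w i h1 h2⟩

/-- The complement of finitely many clopen pieces. -/
theorem exists_compl {Y : Scheme.{u}} {n : ℕ} (V : Fin n → Y.Opens)
    (hcl : ∀ m, IsClosed (V m : Set Y)) :
    ∃ W : Y.Opens, W ⊔ (⨆ k, V k) = ⊤ ∧ (∀ k, Disjoint W (V k)) ∧
      ∀ w, w ∈ W → ∀ k, w ∉ V k := by
  refine ⟨⟨(⋃ k, (V k : Set Y))ᶜ, (isClosed_iUnion_of_finite hcl).isOpen_compl⟩, ?_, ?_, ?_⟩
  · rw [eq_top_iff]
    intro w _
    by_cases h : ∃ k, w ∈ V k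
    · obtain ⟨k, hk⟩ := h
      exact (le_sup_right : (⨆ k, V k) ≤ _ ⊔ ⨆ k, V k)
        (TopologicalSpace.Opens.mem_iSup.mpr ⟨k, hk⟩)
    · refine (le_sup_left : _ ≤ _ ⊔ ⨆ k, V k) ?_
      change w ∈ (⋃ k, (V k : Set Y))ᶜ
      intro hw
      obtain ⟨k, hk⟩ := Set.mem_iUnion.mp hw
      exact h ⟨k, hk⟩
  · intro k
    rw [disjoint_iff_inf_le]
    rintro w ⟨hW, hV⟩
    exact (hW (Set.mem_iUnion.mpr ⟨k, hV⟩)).elim
  · intro w hW k hk
    exact hW (Set.mem_iUnion.mpr ⟨k, hk⟩)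

theorem main9556 {X S : Scheme.{u}} (f : X ⟶ S) [IsSeparated f] (s : S)
    {ι : Type} [Finite ι] (x : ι → ↑X) (hinj : Function.Injective x) (hs : ∀ i, f (x i) = s)
    (hx : ∀ i, ∃ W : X.Opens, x i ∈ W ∧ LocallyOfFiniteType (W.ι ≫ f) ∧
      FormallyUnramified (W.ι ≫ f)) :
    ∃ (U : Scheme.{u}) (g : U ⟶ S) (u : U), Etale g ∧ g u = s ∧
      ∃ (K : Type) (_ : Finite K) (W : (pullback f g).Opens) (V : K → (pullback f g).Opens),
        W ⊔ (⨆ k, V k) = ⊤ ∧ (∀ k, Disjoint W (V k)) ∧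
        (∀ k k', k ≠ k' → Disjoint (V k) (V k')) ∧
        (∀ k, IsClosedImmersion ((V k).ι ≫ pullback.snd f g) ∧
          ∃ w : ↑(pullback f g), w ∈ V k ∧ pullback.snd f g w = u) ∧
        (∀ (w : ↑(pullback f g)) (i : ι), w ∈ W → pullback.snd f g w = u →
          pullback.fst f g w ≠ x i) := by
  choose W hxW hWlft hWunr using hx
  haveI : LocallyOfFiniteType ((⨆ i, W i).ι ≫ f) :=
    of_iSup (P := @LocallyOfFiniteType) f W hWlft
  haveI : FormallyUnramified ((⨆ i, W i).ι ≫ f) :=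
    of_iSup (P := @FormallyUnramified) f W hWunr
  have hsep : IsSeparated ((⨆ i, W i).ι ≫ f) := inferInstance
  have hmem : ∀ i, x i ∈ ⨆ i, W i := fun i => TopologicalSpace.Opens.mem_iSup.mpr ⟨i, hxW i⟩
  have hinj' : Function.Injective (fun i => (⟨x i, hmem i⟩ : ↥(⨆ i, W i))) :=
    fun a b h => hinj (congrArg Subtype.val h)
  obtain ⟨U, g, u, hg, hgu, n, lab, V, hA, hB, hC, hD, -⟩ :=
    master (⨆ i, W i).ι f s (fun i => (⟨x i, hmem i⟩ : ↥(⨆ i, W i))) hinj' (fun k => hs k)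
  have hcl : ∀ m, IsClosed (V m : Set ↑(pullback f g)) := fun m => by
    haveI := (hA m).1
    exact isClosed_of_isFinite (pullback.snd f g) (V m) inferInstance
  obtain ⟨W', hW1, hW2, hW3⟩ := exists_compl V hcl
  refine ⟨U, g, u, hg, hgu, Fin n, inferInstance, W', V, hW1, hW2, hD hsep,
    fun m => ⟨(hA m).1, (hA m).2.2⟩, ?_⟩
  intro w i hw hu hfst
  obtain ⟨m, -, hm⟩ := hC w i hu hfst
  exact hW3 w hw m hm

theorem main9558 {X S : Scheme.{u}} (f : X ⟶ S) [IsSeparated f] (s : S)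
    {ι : Type} [Finite ι] (x : ι → ↑X) (hinj : Function.Injective x) (hs : ∀ i, f (x i) = s)
    (hx : ∀ i, ∃ W : X.Opens, x i ∈ W ∧ Etale (W.ι ≫ f)) :
    ∃ (U : Scheme.{u}) (g : U ⟶ S) (u : U), Etale g ∧ g u = s ∧
      ∃ (K : Type) (_ : Finite K) (W : (pullback f g).Opens) (V : K → (pullback f g).Opens),
        W ⊔ (⨆ k, V k) = ⊤ ∧ (∀ k, Disjoint W (V k)) ∧
        (∀ k k', k ≠ k' → Disjoint (V k) (V k')) ∧
        (∀ k, IsIso ((V k).ι ≫ pullback.snd f g)) ∧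
        (∀ (w : ↑(pullback f g)) (i : ι), w ∈ W → pullback.snd f g w = u →
          pullback.fst f g w ≠ x i) := by
  choose W hxW hWet using hx
  haveI het : Etale ((⨆ i, W i).ι ≫ f) := of_iSup (P := @Etale) f W hWet
  have hsep : IsSeparated ((⨆ i, W i).ι ≫ f) := inferInstance
  have hmem : ∀ i, x i ∈ ⨆ i, W i := fun i => TopologicalSpace.Opens.mem_iSup.mpr ⟨i, hxW i⟩
  have hinj' : Function.Injective (fun i => (⟨x i, hmem i⟩ : ↥(⨆ i, W i))) :=
    fun a b h => hinj (congrArg Subtype.val h)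
  obtain ⟨U, g, u, hg, hgu, n, lab, V, hA, hB, hC, hD, -⟩ :=
    master (⨆ i, W i).ι f s (fun i => (⟨x i, hmem i⟩ : ↥(⨆ i, W i))) hinj' (fun k => hs k)
  have hcl : ∀ m, IsClosed (V m : Set ↑(pullback f g)) := fun m => by
    haveI := (hA m).1
    exact isClosed_of_isFinite (pullback.snd f g) (V m) inferInstance
  obtain ⟨W', hW1, hW2, hW3⟩ := exists_compl V hcl
  refine ⟨U, g, u, hg, hgu, Fin n, inferInstance, W', V, hW1, hW2, hD hsep,
    fun m => (hA m).2.1 het, ?_⟩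
  intro w i hw hu hfst
  obtain ⟨m, -, hm⟩ := hC w i hu hfst
  exact hW3 w hw m hm

open scoped Function in
theorem main9559 {X S : Scheme.{u}} (f : X ⟶ S) [IsFinite f] [Etale f] (s : S) :
    ∃ (U : Scheme.{u}) (g : U ⟶ S) (_ : AlgebraicGeometry.Etale g) (u : U) (_ : g.base u = s)
      (n : ℕ) (V : Fin n → Scheme.{u}) (c : ∀ j, V j ⟶ U) (_ : ∀ j, IsIso (c j))
      (e : (∐ V) ≅ pullback f g), ∀ j, Sigma.ι V j ≫ e.hom ≫ pullback.snd f g = c j := by
  have hfib : (f ⁻¹' {s}).Finite := Scheme.Hom.finite_preimage_singleton f s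
  obtain ⟨N, x, hxinj, hxF, hxsurj⟩ := exists_enum _ hfib
  have e0 : 𝟙 X ≫ f = f := Category.id_comp f
  haveI : LocallyOfFiniteType (𝟙 X ≫ f) := e0.symm ▸ inferInstance
  haveI het : Etale (𝟙 X ≫ f) := e0.symm ▸ inferInstance
  haveI : FormallyUnramified (𝟙 X ≫ f) := inferInstance
  have hsep : IsSeparated (𝟙 X ≫ f) := e0.symm ▸ inferInstance
  have hff : IsFinite (𝟙 X ≫ f) := e0.symm ▸ inferInstance
  obtain ⟨U, g, u, hg, hgu, n, lab, V, hA, hB, hC, hD, hE⟩ :=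
    master (𝟙 X) f s x hxinj (fun k => hxF k)
  have hall : ∀ y : X, (𝟙 X ≫ f) y = s → ∃ k, y = x k := fun y hy => by
    obtain ⟨k, hk⟩ := hxsurj y hy
    exact ⟨k, hk.symm⟩
  have hcov : ∀ w : ↑(pullback f g), ∃ m, w ∈ V m := fun w =>
    hE hff hall w ⟨pullback.fst f g w, rfl⟩
  have hdisj := hD hsep
  haveI hopen : IsOpenImmersion (Sigma.desc fun m => (V m).ι) := by
    apply isOpenImmersion_sigmaDesc
    intro m m' hne
    change Disjoint (Set.range (V m).ι) (Set.range (V m').ι)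
    rw [Scheme.Opens.range_ι, Scheme.Opens.range_ι]
    rw [Set.disjoint_iff]
    rintro w ⟨h1, h2⟩
    exact (disjoint_iff_inf_le.mp (hdisj m m' hne)) ⟨h1, h2⟩
  haveI hsurj : Surjective (Sigma.desc fun m => (V m).ι) := ⟨fun w => by
    obtain ⟨m, hm⟩ := hcov w
    refine ⟨Sigma.ι (fun m => (V m).toScheme) m ⟨w, hm⟩, ?_⟩
    rw [← Scheme.Hom.comp_apply, Sigma.ι_desc]
    rfl⟩
  haveI hiso : IsIso (Sigma.desc fun m => (V m).ι) :=
    (isIso_iff_isOpenImmersion_and_surjective _).mpr ⟨hopen, hsurj⟩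
  refine ⟨U, g, hg, u, hgu, n, fun m => (V m).toScheme, fun m => (V m).ι ≫ pullback.snd f g,
    fun m => (hA m).2.1 het, asIso (Sigma.desc fun m => (V m).ι), fun m => ?_⟩
  rw [asIso_hom, ← Category.assoc, Sigma.ι_desc]

end Groth.Agent.Lib.EtLocH4
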