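import Mathlib
import Groth.Agent.Lib.EtLoc4_helper4

/-!
# Finite unramified morphisms are étale-locally disjoint unions of closed immersions (helper4)
-/

open AlgebraicGeometry CategoryTheory Limits

universe u

namespace Groth.Agent.Lib.EtLocH4

open PurInsepH4 EtNbhdFinH4

open scoped Function in
theorem main0096 {X S : Scheme.{u}} (f : X ⟶ S) [IsFinite f] [FormallyUnramified f] (s : S) :
    ∃ (U : Scheme.{u}) (g : U ⟶ S) (_ : AlgebraicGeometry.Etale g) (u : U) (_ : g.base u = s)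
      (n : ℕ) (V : Fin n → Scheme.{u}) (c : ∀ j, V j ⟶ U) (_ : ∀ j, IsClosedImmersion (c j))
      (e : (∐ V) ≅ pullback f g), ∀ j, Sigma.ι V j ≫ e.hom ≫ pullback.snd f g = c j := by
  have hfib : (f ⁻¹' {s}).Finite := Scheme.Hom.finite_preimage_singleton f s
  obtain ⟨N, x, hxinj, hxF, hxsurj⟩ := exists_enum _ hfib
  have e0 : 𝟙 X ≫ f = f := Category.id_comp f
  haveI : LocallyOfFiniteType (𝟙 X ≫ f) := e0.symm ▸ inferInstance
  haveI : FormallyUnramified (𝟙 X ≫ f) := e0.symm ▸ inferInstance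
  have hsep : IsSeparated (𝟙 X ≫ f) := e0.symm ▸ inferInstance
  have hff : IsFinite (𝟙 X ≫ f) := e0.symm ▸ inferInstance
  obtain ⟨U, g, u, hg, hgu, n, lab, V, hA, hB, hC, hD, hE⟩ :=
    master (𝟙 X) f s x hxinj (fun k => hxF k)
  have hall : ∀ y : X, (𝟙 X ≫ f) y = s → ∃ k, y = x k := fun y hy => by
    obtain ⟨k, hk⟩ := hxsurj y hy
    exact ⟨k, hk.symm⟩
  have hcov : ∀ w : ↑(pullback f g), ∃ m, w ∈ V m := fun w =>
    hE hff hall w ⟨pullback.fst f g w, rfl⟩
  have hdisj := hD hsep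
  haveI hopen : IsOpenImmersion (Sigma.desc fun m => (V m).ι) := by
    apply isOpenImmersion_sigmaDesc
    intro m m' hne
    change Disjoint (Set.range (V m).ι) (Set.range (V m').ι)
    rw [Scheme.Opens.range_ι, Scheme.Opens.range_ι]
    rw [Set.disjoint_iff]
    rintro w ⟨h1, h2⟩
    exact (disjoint_iff_inf_le.mp (hdisj m m' hne)) ⟨h1, h2⟩
  haveI hsurj : Surjective (Sigma.desc fun m => (V m).ι) := ⟨fun w => by
    obtain ⟨m, hm⟩ := hcov w
    refine ⟨Sigma.ι (fun m => (V m).toScheme) m ⟨w, hm⟩, ?_⟩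
    rw [← Scheme.Hom.comp_apply, Sigma.ι_desc]
    rfl⟩
  haveI hiso : IsIso (Sigma.desc fun m => (V m).ι) :=
    (isIso_iff_isOpenImmersion_and_surjective _).mpr ⟨hopen, hsurj⟩
  refine ⟨U, g, hg, u, hgu, n, fun m => (V m).toScheme, fun m => (V m).ι ≫ pullback.snd f g,
    fun m => (hA m).1, asIso (Sigma.desc fun m => (V m).ι), fun m => ?_⟩
  rw [asIso_hom, ← Category.assoc, Sigma.ι_desc]

end Groth.Agent.Lib.EtLocH4
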