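import Mathlib
import Groth.Prelude.Def_EtBase
import Groth.Prelude.Def_EtMod2
import Groth.Agent.Lib.EtSchSite_helper7
import Groth.Agent.Lib.EtLocConst_lead
import Groth.Agent.Lib.EtLocConstMap_lead

/-! # Maps of finite type locally constant étale sheaves of modules are locally constant maps (lead) -/

set_option autoImplicit false
set_option linter.unusedSimpArgs false
set_option linter.unusedVariables false
set_option linter.unusedSectionVars false
set_option linter.style.longLine false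
set_option linter.unnecessarySimpa false
set_option maxHeartbeats 1600000
set_option backward.isDefEq.respectTransparency false
set_option backward.isDefEq.respectTransparency.types false
set_option backward.defeqAttrib.useBackward true

universe u

open CategoryTheory CategoryTheory.Limits AlgebraicGeometry Opposite

namespace Groth.Agent.Lib.EtLocConstMod

open Groth.Agent.Lib.EtSchSite_helper7
open Groth.Agent.Lib.EtLocConst (exists_mem_of_mem exists_common)

variable {X : Scheme.{u}} {Λ : Type (u + 1)} [CommRing Λ]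

section const

variable (U : X.Etale) (N : ModuleCat.{u + 1} Λ)

/-- constant presheaf on `Over U` -/
abbrev cP : (Over U)ᵒᵖ ⥤ ModuleCat.{u + 1} Λ := (Functor.const (Over U)ᵒᵖ).obj N

/-- constant sheaf on `Over U` -/
noncomputable abbrev cs : Sheaf (X.smallEtaleTopology.over U) (ModuleCat.{u + 1} Λ) :=
  (constantSheaf (X.smallEtaleTopology.over U) (ModuleCat.{u + 1} Λ)).obj N

/-- the sheafification map of the constant presheaf -/
noncomputable def eta : cP U N ⟶ (cs U N).obj :=
  toSheafify (X.smallEtaleTopology.over U) (cP U N)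

instance : Presheaf.IsLocallySurjective (X.smallEtaleTopology.over U) (eta U N) := by
  unfold eta; infer_instance

instance : Presheaf.IsLocallyInjective (X.smallEtaleTopology.over U) (eta U N) := by
  unfold eta; infer_instance

theorem eta_res {A B : Over U} (k : B ⟶ A) (n : N) :
    ((cs U N).obj.map k.op).hom (((eta U N).app (op A)).hom n) =
      ((eta U N).app (op B)).hom n := by
  have := congrArg (fun m => m.hom n) ((eta U N).naturality k.op)
  exact this.symm

theorem eta_locSurj {Y : X.Etale} (h : Y ⟶ U) (t : (cs U N).obj.obj (op (Over.mk h)))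
    (y : Y.left) :
    ∃ (Z : X.Etale) (g : Z ⟶ Y) (n : N), y ∈ Set.range g.left ∧
      ((eta U N).app (op (Over.mk (g ≫ h)))).hom n =
        ((cs U N).obj.map (Over.homMk g rfl : Over.mk (g ≫ h) ⟶ Over.mk h).op).hom t := by
  have hS : Presheaf.imageSieve (eta U N) t ∈ (X.smallEtaleTopology.over U) (Over.mk h) :=
    Presheaf.imageSieve_mem (X.smallEtaleTopology.over U) (eta U N) (U := op (Over.mk h)) t
  rw [GrothendieckTopology.mem_over_iff] at hS
  obtain ⟨Z, g, hg, hy⟩ := exists_mem_of_mem hS y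
  have hg' := (Sieve.overEquiv_iff _ g).1 hg
  obtain ⟨n, hn⟩ := hg'
  exact ⟨Z, g, n, hy, hn⟩

theorem eta_inj {Y : X.Etale} (h : Y ⟶ U) (y : Y.left) (n n' : N)
    (key : ((eta U N).app (op (Over.mk h))).hom n = ((eta U N).app (op (Over.mk h))).hom n') :
    n = n' := by
  have hS : Presheaf.equalizerSieve (F := cP U N) (X := op (Over.mk h)) n n' ∈
      (X.smallEtaleTopology.over U) (Over.mk h) :=
    Presheaf.equalizerSieve_mem (X.smallEtaleTopology.over U) (eta U N) (X := op (Over.mk h))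
      n n' key
  rw [GrothendieckTopology.mem_over_iff] at hS
  obtain ⟨Z, g, hg, -⟩ := exists_mem_of_mem hS y
  have hg' := (Sieve.overEquiv_iff _ g).1 hg
  exact hg'

end const

/-- a trivialisation of `F` on an étale `X`-scheme -/
structure Triv {X : Scheme.{u}} {Λ : Type (u + 1)} [CommRing Λ] (F : EtModW.Mod Λ X) where
  U : X.Etale
  N : ModuleCat.{u + 1} Λ
  α : EtModW.restr Λ F U ≅ cs U N

variable {F G : EtModW.Mod Λ X}

theorem map_comp_hom (F : EtModW.Mod Λ X) {A B C : X.Etale} (f : A ⟶ B) (g : B ⟶ C)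
    (τ : F.obj.obj (op C)) :
    (F.obj.map (f ≫ g).op).hom τ = (F.obj.map f.op).hom ((F.obj.map g.op).hom τ) :=
  congrArg (fun m => m.hom τ) (F.obj.map_comp g.op f.op)

namespace Triv

variable (D : Triv F)

/-- the "constant sections" map -/
noncomputable def θ {Y : X.Etale} (h : Y ⟶ D.U) : D.N →ₗ[Λ] F.obj.obj (op Y) :=
  (show ((cs D.U D.N).obj.obj (op (Over.mk h)) : Type _) →ₗ[Λ] (F.obj.obj (op Y) : Type _) from
    (D.α.inv.hom.app (op (Over.mk h))).hom).comp ((eta D.U D.N).app (op (Over.mk h))).hom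

theorem θ_apply {Y : X.Etale} (h : Y ⟶ D.U) (n : D.N) :
    D.θ h n = (D.α.inv.hom.app (op (Over.mk h))).hom
      (((eta D.U D.N).app (op (Over.mk h))).hom n) := rfl

theorem θ_res {Y Y' : X.Etale} (h : Y ⟶ D.U) (g : Y' ⟶ Y) (n : D.N) :
    (F.obj.map g.op).hom (D.θ h n) = D.θ (g ≫ h) n := by
  let k : Over.mk (g ≫ h) ⟶ Over.mk h := Over.homMk g rfl
  have h1 := congrArg (fun m => m.hom (((eta D.U D.N).app (op (Over.mk h))).hom n))
    (D.α.inv.hom.naturality k.op)
  have h2 := eta_res D.U D.N k n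
  rw [θ_apply, θ_apply]
  exact h1.symm.trans
    (congrArg (fun z => (D.α.inv.hom.app (op (Over.mk (g ≫ h)))).hom z) h2)

theorem exists_local {Y : X.Etale} (h : Y ⟶ D.U) (s : F.obj.obj (op Y)) (y : Y.left) :
    ∃ (Z : X.Etale) (g : Z ⟶ Y) (n : D.N), y ∈ Set.range g.left ∧
      D.θ (g ≫ h) n = (F.obj.map g.op).hom s := by
  obtain ⟨Z, g, n, hy, hn⟩ :=
    eta_locSurj D.U D.N h ((D.α.hom.hom.app (op (Over.mk h))).hom s) y
  refine ⟨Z, g, n, hy, ?_⟩
  let k : Over.mk (g ≫ h) ⟶ Over.mk h := Over.homMk g rfl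
  have h1 := congrArg (fun m => m.hom s) (D.α.hom.hom.naturality k.op)
  have h2 := congrArg (fun m => (m.hom.app (op (Over.mk (g ≫ h)))).hom
    ((F.obj.map g.op).hom s)) D.α.hom_inv_id
  rw [θ_apply]
  exact (congrArg (fun z => (D.α.inv.hom.app (op (Over.mk (g ≫ h)))).hom z)
    (hn.trans h1.symm)).trans h2

theorem θ_injective {Y : X.Etale} (h : Y ⟶ D.U) (y : Y.left) :
    Function.Injective (D.θ h) := by
  intro n n' hnn
  have h2 : ∀ z, (D.α.hom.hom.app (op (Over.mk h))).hom
      ((D.α.inv.hom.app (op (Over.mk h))).hom z) = z := by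
    intro z
    exact congrArg (fun m => (m.hom.app (op (Over.mk h))).hom z) D.α.inv_hom_id
  have key : ((eta D.U D.N).app (op (Over.mk h))).hom n =
      ((eta D.U D.N).app (op (Over.mk h))).hom n' := by
    rw [θ_apply, θ_apply] at hnn
    have := congrArg (fun z => (D.α.hom.hom.app (op (Over.mk h))).hom z) hnn
    exact (h2 _).symm.trans (this.trans (h2 _))
  exact eta_inj D.U D.N h y n n' key

variable {Z : X.Etale} (c : Z ⟶ D.U)

/-- the presheaf map `const N ⟶ F|_Z` given by the trivialisation pulled back along `c` -/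
noncomputable def ψ : cP Z D.N ⟶ (EtModW.restr Λ F Z).obj where
  app A := ModuleCat.ofHom (D.θ (A.unop.hom ≫ c))
  naturality A B k := by
    apply ModuleCat.hom_ext
    apply LinearMap.ext
    intro n
    show D.θ (B.unop.hom ≫ c) n = (F.obj.map k.unop.left.op).hom (D.θ (A.unop.hom ≫ c) n)
    rw [D.θ_res, ← Category.assoc, Over.w k.unop]

instance ψ_locInj : Presheaf.IsLocallyInjective (X.smallEtaleTopology.over Z) (D.ψ c) where
  equalizerSieve_mem {A} n n' hnn := by
    rw [GrothendieckTopology.mem_over_iff]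
    apply sieve_mem_of_forall_exists
    intro y
    have hn : n = n' := D.θ_injective (A.unop.hom ≫ c) y hnn
    subst hn
    refine ⟨A.unop.left, 𝟙 _, ?_, ⟨y, rfl⟩⟩
    rw [Sieve.overEquiv_iff]
    rfl

instance ψ_locSurj : Presheaf.IsLocallySurjective (X.smallEtaleTopology.over Z) (D.ψ c) where
  imageSieve_mem {A} s := by
    rw [GrothendieckTopology.mem_over_iff]
    apply sieve_mem_of_forall_exists
    intro y
    obtain ⟨Z', g, n, hy, hn⟩ := D.exists_local (A.hom ≫ c) s y
    refine ⟨Z', g, ?_, hy⟩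
    rw [Sieve.overEquiv_iff]
    refine ⟨n, ?_⟩
    show D.θ ((g ≫ A.hom) ≫ c) n = (F.obj.map g.op).hom s
    rw [Category.assoc]
    exact hn

/-- the induced map of sheaves -/
noncomputable def ψS : cs Z D.N ⟶ EtModW.restr Λ F Z :=
  ⟨sheafifyLift (X.smallEtaleTopology.over Z) (D.ψ c) (EtModW.restr Λ F Z).property⟩

theorem ψS_fac : eta Z D.N ≫ (D.ψS c).hom = D.ψ c :=
  toSheafify_sheafifyLift _ _ _

instance isIso_ψS : IsIso (D.ψS c) := by
  refine (Sheaf.isLocallyBijective_iff_isIso (D.ψS c)).1 ⟨?_, ?_⟩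
  · exact Presheaf.isLocallyInjective_of_isLocallyInjective_of_isLocallySurjective_fac
      (X.smallEtaleTopology.over Z) (D.ψ c) (D.ψS_fac c)
  · exact Presheaf.isLocallySurjective_of_isLocallySurjective_fac
      (X.smallEtaleTopology.over Z) (D.ψS_fac c)

/-- restriction of a trivialisation along `c : Z ⟶ D.U` -/
noncomputable def restrict : Triv F := ⟨Z, D.N, (asIso (D.ψS c)).symm⟩

theorem restrict_fac (A : Over Z) (n : D.N) :
    ((D.restrict c).α.inv.hom.app (op A)).hom (((eta Z D.N).app (op A)).hom n) =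
      D.θ (A.hom ≫ c) n := by
  have := congrArg (fun τ => (τ.app (op A)).hom n) (D.ψS_fac c)
  exact this

end Triv

theorem const_map_eq (φ : F ⟶ G) (P : X.Etale) (M N : ModuleCat.{u + 1} Λ)
    (α : EtModW.restr Λ F P ≅ cs P M) (β : EtModW.restr Λ G P ≅ cs P N) (h : M ⟶ N)
    (hpt : ∀ (A : Over P) (m : M),
      (φ.hom.app (op A.left)).hom ((α.inv.hom.app (op A)).hom (((eta P M).app (op A)).hom m)) =
        (β.inv.hom.app (op A)).hom (((eta P N).app (op A)).hom (h.hom m))) :
    (X.smallEtaleTopology.overPullback (ModuleCat.{u + 1} Λ) P).map φ ≫ β.hom =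
      α.hom ≫ (constantSheaf (X.smallEtaleTopology.over P) (ModuleCat.{u + 1} Λ)).map h := by
  have key : α.inv ≫ (X.smallEtaleTopology.overPullback (ModuleCat.{u + 1} Λ) P).map φ =
      (constantSheaf (X.smallEtaleTopology.over P) (ModuleCat.{u + 1} Λ)).map h ≫ β.inv := by
    apply Sheaf.hom_ext
    refine sheafify_hom_ext (X.smallEtaleTopology.over P) (P := cP P M) _ _
      (EtModW.restr Λ G P).property ?_
    refine NatTrans.ext (funext fun A => ModuleCat.hom_ext (LinearMap.ext fun m => ?_))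
    have nat := congrArg (fun τ => (τ.app A).hom m)
      (toSheafify_naturality (X.smallEtaleTopology.over P) ((Functor.const (Over P)ᵒᵖ).map h))
    have h1 := hpt A.unop m
    exact h1.trans (congrArg (fun z => (β.inv.hom.app A).hom z) nat)
  rw [← Iso.inv_comp_eq, ← Category.assoc, key, Category.assoc, Iso.inv_hom_id, Category.comp_id]

theorem local_const (φ : F ⟶ G) (D : Triv F) (E : Triv G) [Module.Finite Λ D.N]
    (u : D.U.left) (v : E.U.left) (huv : D.U.hom.base u = E.U.hom.base v) :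
    ∃ (P : X.Etale) (c : P ⟶ D.U) (d : P ⟶ E.U) (z : P.left) (h : D.N →ₗ[Λ] E.N),
      c.left.base z = u ∧ ∀ m, (φ.hom.app (op P)).hom (D.θ c m) = E.θ d (h m) := by
  classical
  let T : X.Etale := Scheme.Etale.mk (𝟙 X)
  let φ₁ : D.U ⟶ T := MorphismProperty.Over.homMk D.U.hom (Category.comp_id _) trivial
  let φ₂ : E.U ⟶ T := MorphismProperty.Over.homMk E.U.hom (Category.comp_id _) trivial
  obtain ⟨W, a, b, w, -, ha, -⟩ := exists_prod φ₁ φ₂ u v huv
  have hloc : ∀ m : D.N, ∃ (Z : X.Etale) (g : Z ⟶ W) (n : E.N), w ∈ Set.range g.left ∧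
      E.θ (g ≫ b) n = (G.obj.map g.op).hom ((φ.hom.app (op W)).hom (D.θ a m)) :=
    fun m => E.exists_local b ((φ.hom.app (op W)).hom (D.θ a m)) w
  choose Zt g n hw hn using hloc
  obtain ⟨S, hS⟩ := (Module.Finite.fg_top : (⊤ : Submodule Λ D.N).FG)
  obtain ⟨P, q, ⟨z, hz⟩, hr⟩ := exists_common w S Zt g hw
  have nat : ∀ {Y Y' : X.Etale} (k : Y' ⟶ Y) (s : F.obj.obj (op Y)),
      (φ.hom.app (op Y')).hom ((F.obj.map k.op).hom s) =
        (G.obj.map k.op).hom ((φ.hom.app (op Y)).hom s) := by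
    intro Y Y' k s
    exact congrArg (fun τ => τ.hom s) (φ.hom.naturality k.op)
  have key : ∀ m ∈ S, (φ.hom.app (op P)).hom (D.θ (q ≫ a) m) = E.θ (q ≫ b) (n m) := by
    intro m hm
    obtain ⟨r, hr'⟩ := hr m hm
    rw [← D.θ_res a q m, nat, ← hr', map_comp_hom, ← hn m, E.θ_res, Category.assoc]
  let L₁ : D.N →ₗ[Λ] G.obj.obj (op P) := (φ.hom.app (op P)).hom.comp (D.θ (q ≫ a))
  let L₂ : E.N →ₗ[Λ] G.obj.obj (op P) := E.θ (q ≫ b)
  have hinj : Function.Injective L₂ := E.θ_injective (q ≫ b) z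
  have hrange : ∀ m : D.N, ∃ n' : E.N, L₂ n' = L₁ m := by
    intro m
    have hm : m ∈ Submodule.span Λ (S : Set D.N) := by rw [hS]; trivial
    have hle : Submodule.span Λ (S : Set D.N) ≤ (LinearMap.range L₂).comap L₁ :=
      Submodule.span_le.2 (fun m hm => ⟨n m, (key m hm).symm⟩)
    exact hle hm
  choose hfun hh using hrange
  let h : D.N →ₗ[Λ] E.N :=
    { toFun := hfun
      map_add' := fun m m' => hinj (by rw [hh, map_add, map_add, hh, hh])
      map_smul' := fun r m => hinj (by rw [hh, map_smul, RingHom.id_apply, map_smul, hh]) }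
  refine ⟨P, q ≫ a, q ≫ b, z, h, ?_, fun m => (hh m).symm⟩
  show a.left (q.left z) = u
  rw [hz, ha]

theorem pt_res (φ : F ⟶ G) (D : Triv F) (E : Triv G) {P : X.Etale} (c : P ⟶ D.U) (d : P ⟶ E.U)
    (h : D.N →ₗ[Λ] E.N) (hpt : ∀ m, (φ.hom.app (op P)).hom (D.θ c m) = E.θ d (h m))
    {Y : X.Etale} (g : Y ⟶ P) (m : D.N) :
    (φ.hom.app (op Y)).hom (D.θ (g ≫ c) m) = E.θ (g ≫ d) (h m) := by
  have nat : (φ.hom.app (op Y)).hom ((F.obj.map g.op).hom (D.θ c m)) =
      (G.obj.map g.op).hom ((φ.hom.app (op P)).hom (D.θ c m)) :=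
    congrArg (fun τ => τ.hom (D.θ c m)) (φ.hom.naturality g.op)
  rw [← D.θ_res c g, ← E.θ_res d g, ← hpt m, nat]

theorem main55 (Λ : Type (u + 1)) [CommRing Λ] {X : Scheme.{u}} (F G : EtModW.Mod Λ X)
    (φ : F ⟶ G) (hF : EtModW.IsFTLocConst Λ F) (hG : EtModW.IsFTLocConst Λ G) :
    ∃ (ι : Type u) (U : ι → X.Etale), EtCoh.Covers U ∧ ∀ i, ∃ (M N : Type (u + 1))
      (_ : AddCommGroup M) (_ : AddCommGroup N) (_ : Module Λ M) (_ : Module Λ N) (h : M →ₗ[Λ] N)
      (α : EtModW.restr Λ F (U i) ≅ (constantSheaf (X.smallEtaleTopology.over (U i))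
        (ModuleCat.{u + 1} Λ)).obj (ModuleCat.of Λ M))
      (β : EtModW.restr Λ G (U i) ≅ (constantSheaf (X.smallEtaleTopology.over (U i))
        (ModuleCat.{u + 1} Λ)).obj (ModuleCat.of Λ N)),
      (X.smallEtaleTopology.overPullback (ModuleCat.{u + 1} Λ) (U i)).map φ ≫ β.hom =
        α.hom ≫ (constantSheaf (X.smallEtaleTopology.over (U i)) (ModuleCat.{u + 1} Λ)).map
          (ModuleCat.ofHom h) := by
  classical
  obtain ⟨ι, U, hcov, hM⟩ := hF
  obtain ⟨κ, V, hcovV, hN⟩ := hG
  have hloc : ∀ x : X, ∃ (P : X.Etale) (z : P.left), P.hom.base z = x ∧ ∃ (M N : Type (u + 1))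
      (_ : AddCommGroup M) (_ : AddCommGroup N) (_ : Module Λ M) (_ : Module Λ N) (h : M →ₗ[Λ] N)
      (α : EtModW.restr Λ F P ≅ (constantSheaf (X.smallEtaleTopology.over P)
        (ModuleCat.{u + 1} Λ)).obj (ModuleCat.of Λ M))
      (β : EtModW.restr Λ G P ≅ (constantSheaf (X.smallEtaleTopology.over P)
        (ModuleCat.{u + 1} Λ)).obj (ModuleCat.of Λ N)),
      (X.smallEtaleTopology.overPullback (ModuleCat.{u + 1} Λ) P).map φ ≫ β.hom =
        α.hom ≫ (constantSheaf (X.smallEtaleTopology.over P) (ModuleCat.{u + 1} Λ)).map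
          (ModuleCat.ofHom h) := by
    intro x
    obtain ⟨i, y, hy⟩ := hcov x
    obtain ⟨j, y', hy'⟩ := hcovV x
    obtain ⟨M, iM, mM, fM, ⟨α⟩⟩ := hM i
    obtain ⟨N, iN, mN, fN, ⟨β⟩⟩ := hN j
    let D : Triv F := ⟨U i, ModuleCat.of Λ M, α⟩
    let E : Triv G := ⟨V j, ModuleCat.of Λ N, β⟩
    haveI : Module.Finite Λ D.N := fM
    obtain ⟨P, c, d, z, h, hz, hpt⟩ := local_const φ D E y y' (hy.trans hy'.symm)
    refine ⟨P, z, ?_, D.N, E.N, inferInstance, inferInstance, inferInstance, inferInstance, h,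
      (D.restrict c).α, (E.restrict d).α, ?_⟩
    · calc P.hom.base z = (c.left ≫ D.U.hom).base z :=
          congrArg (fun f => f.base z) (MorphismProperty.Over.w c).symm
        _ = x := by
          show (U i).hom.base (c.left.base z) = x
          rw [hz]
          exact hy
    · refine const_map_eq φ P D.N E.N (D.restrict c).α (E.restrict d).α (ModuleCat.ofHom h) ?_
      intro A m
      have e1 := D.restrict_fac c A m
      have e2 := E.restrict_fac d A (h m)
      have e3 := pt_res φ D E c d h hpt A.hom m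
      exact (congrArg (fun z => (φ.hom.app (op A.left)).hom z) e1).trans (e3.trans e2.symm)
  choose P z hz hrest using hloc
  exact ⟨X, P, fun x => ⟨x, z x, hz x⟩, hrest⟩

end Groth.Agent.Lib.EtLocConstMod
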