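import Mathlib
import Groth.Prelude.Def_EtBase
import Groth.Prelude.Def_EtMod2
import Groth.Agent.Lib.EtSchSite_helper7
import Groth.Agent.Lib.EtLocConst_lead
import Groth.Agent.Lib.EtLocConstMap_lead
import Groth.Agent.Lib.EtLocConstMod_lead

/-! # Finite type locally constant étale sheaves of modules form a weak Serre subcategory (lead) -/

set_option autoImplicit false
set_option linter.unusedSimpArgs false
set_option linter.unusedVariables false
set_option linter.unusedSectionVars false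
set_option linter.style.longLine false
set_option linter.unnecessarySimpa false
set_option maxHeartbeats 1600000
set_option backward.isDefEq.respectTransparency false
set_option backward.isDefEq.respectTransparency.types false
set_option backward.defeqAttrib.useBackward true

universe u

open CategoryTheory CategoryTheory.Limits AlgebraicGeometry Opposite

namespace Groth.Agent.Lib.EtLocConstMod

open Groth.Agent.Lib.EtSchSite_helper7
open Groth.Agent.Lib.EtLocConst (exists_mem_of_mem exists_common)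

variable {X : Scheme.{u}} {Λ : Type (u + 1)} [CommRing Λ]

/-- local-constancy data for a sheaf of modules `K` on an étale `X`-scheme `P` with value `B` -/
structure LCData (K : EtModW.Mod Λ X) (P : X.Etale) (B : Type (u + 1)) [AddCommGroup B]
    [Module Λ B] where
  τ : ∀ {Y : X.Etale} (h : Y ⟶ P), B →ₗ[Λ] K.obj.obj (op Y)
  res : ∀ {Y Y' : X.Etale} (h : Y ⟶ P) (g : Y' ⟶ Y) (b : B),
    (K.obj.map g.op).hom (τ h b) = τ (g ≫ h) b
  inj : ∀ {Y : X.Etale} (h : Y ⟶ P) (y : Y.left), Function.Injective (τ h)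
  surj : ∀ {Y : X.Etale} (h : Y ⟶ P) (s : K.obj.obj (op Y)) (y : Y.left),
    ∃ (Z : X.Etale) (g : Z ⟶ Y) (b : B), y ∈ Set.range g.left ∧
      τ (g ≫ h) b = (K.obj.map g.op).hom s

namespace LCData

variable {K : EtModW.Mod Λ X} {P : X.Etale} {B : Type (u + 1)} [AddCommGroup B] [Module Λ B]
  (L : LCData K P B)

/-- the presheaf map `const B ⟶ K|_P` -/
noncomputable def ψ : cP P (ModuleCat.of Λ B) ⟶ (EtModW.restr Λ K P).obj where
  app A := ModuleCat.ofHom (L.τ A.unop.hom)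
  naturality A A' k := by
    apply ModuleCat.hom_ext
    apply LinearMap.ext
    intro n
    show L.τ A'.unop.hom n = (K.obj.map k.unop.left.op).hom (L.τ A.unop.hom n)
    rw [L.res, Over.w k.unop]

instance ψ_locInj : Presheaf.IsLocallyInjective (X.smallEtaleTopology.over P) L.ψ where
  equalizerSieve_mem {A} n n' hnn := by
    rw [GrothendieckTopology.mem_over_iff]
    apply sieve_mem_of_forall_exists
    intro y
    have hn : n = n' := L.inj A.unop.hom y hnn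
    subst hn
    refine ⟨A.unop.left, 𝟙 _, ?_, ⟨y, rfl⟩⟩
    rw [Sieve.overEquiv_iff]
    rfl

instance ψ_locSurj : Presheaf.IsLocallySurjective (X.smallEtaleTopology.over P) L.ψ where
  imageSieve_mem {A} s := by
    rw [GrothendieckTopology.mem_over_iff]
    apply sieve_mem_of_forall_exists
    intro y
    obtain ⟨Z', g, n, hy, hn⟩ := L.surj A.hom s y
    refine ⟨Z', g, ?_, hy⟩
    rw [Sieve.overEquiv_iff]
    refine ⟨n, ?_⟩
    show L.τ (g ≫ A.hom) n = (K.obj.map g.op).hom s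
    exact hn

/-- the induced map of sheaves -/
noncomputable def ψS : cs P (ModuleCat.of Λ B) ⟶ EtModW.restr Λ K P :=
  ⟨sheafifyLift (X.smallEtaleTopology.over P) L.ψ (EtModW.restr Λ K P).property⟩

theorem ψS_fac : eta P (ModuleCat.of Λ B) ≫ L.ψS.hom = L.ψ :=
  toSheafify_sheafifyLift _ _ _

instance isIso_ψS : IsIso L.ψS := by
  refine (Sheaf.isLocallyBijective_iff_isIso L.ψS).1 ⟨?_, ?_⟩
  · exact Presheaf.isLocallyInjective_of_isLocallyInjective_of_isLocallySurjective_fac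
      (X.smallEtaleTopology.over P) L.ψ L.ψS_fac
  · exact Presheaf.isLocallySurjective_of_isLocallySurjective_fac
      (X.smallEtaleTopology.over P) L.ψS_fac

include L in
theorem nonempty_iso : Nonempty (EtModW.restr Λ K P ≅ cs P (ModuleCat.of Λ B)) :=
  ⟨(asIso L.ψS).symm⟩

end LCData

theorem ftlc_of_local (K : EtModW.Mod Λ X)
    (h : ∀ x : X, ∃ (P : X.Etale) (z : P.left), P.hom.base z = x ∧
      ∃ (B : Type (u + 1)) (_ : AddCommGroup B) (_ : Module Λ B) (_ : Module.Finite Λ B),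
        Nonempty (LCData K P B)) :
    EtModW.IsFTLocConst Λ K := by
  classical
  choose P z hz B iB mB fB hL using h
  refine ⟨X, P, fun x => ⟨x, z x, hz x⟩, fun x => ?_⟩
  letI := iB x
  letI := mB x
  exact ⟨B x, iB x, mB x, fB x, (hL x).some.nonempty_iso⟩

section sections

variable {F G : EtModW.Mod Λ X}

/-- the sections functor -/
noncomputable abbrev secF (Y : X.Etale) : EtModW.Mod Λ X ⥤ ModuleCat.{u + 1} Λ :=
  sheafToPresheaf X.smallEtaleTopology (ModuleCat.{u + 1} Λ) ⋙ (evaluation _ _).obj (op Y)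

theorem nat_apply (φ : F ⟶ G) {Y Y' : X.Etale} (k : Y' ⟶ Y) (s : F.obj.obj (op Y)) :
    (φ.hom.app (op Y')).hom ((F.obj.map k.op).hom s) =
      (G.obj.map k.op).hom ((φ.hom.app (op Y)).hom s) :=
  congrArg (fun τ => τ.hom s) (φ.hom.naturality k.op)

theorem comp_zero_sec {A B C : EtModW.Mod Λ X} (f : A ⟶ B) (g : B ⟶ C) (w : f ≫ g = 0)
    (Y : X.Etale) (t : A.obj.obj (op Y)) :
    (g.hom.app (op Y)).hom ((f.hom.app (op Y)).hom t) = 0 := by
  have h1 : (secF Y).map f ≫ (secF Y).map g = 0 := by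
    rw [← Functor.map_comp, w, Functor.map_zero]
  exact congrArg (fun m => m.hom t) h1

theorem sec_exact (S : ShortComplex (EtModW.Mod Λ X)) (hS : S.Exact) [Mono S.f] (Y : X.Etale)
    (s : S.X₂.obj.obj (op Y)) (hs : (S.g.hom.app (op Y)).hom s = 0) :
    ∃ t : S.X₁.obj.obj (op Y), (S.f.hom.app (op Y)).hom t = s := by
  have h1 : (S.map (secF Y)).Exact :=
    hS.map_of_mono_of_preservesKernel (secF Y) inferInstance inferInstance
  exact (ShortComplex.moduleCat_exact_iff _).1 h1 s hs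

theorem sec_injective (i : F ⟶ G) [Mono i] (Y : X.Etale) :
    Function.Injective (i.hom.app (op Y)).hom := by
  have h1 : Mono ((secF Y).map i) := inferInstance
  exact (ModuleCat.mono_iff_injective _).1 h1

theorem epi_locSurj (p : F ⟶ G) [Epi p] {Y : X.Etale} (s : G.obj.obj (op Y)) (y : Y.left) :
    ∃ (Z : X.Etale) (g : Z ⟶ Y) (t : F.obj.obj (op Z)), y ∈ Set.range g.left ∧
      (p.hom.app (op Z)).hom t = (G.obj.map g.op).hom s := by
  haveI : Sheaf.IsLocallySurjective p :=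
    (Sheaf.isLocallySurjective_iff_epi' (ModuleCat.{u + 1} Λ) p).2 inferInstance
  have hS : Presheaf.imageSieve p.hom s ∈ X.smallEtaleTopology Y :=
    Presheaf.imageSieve_mem X.smallEtaleTopology p.hom (U := op Y) s
  obtain ⟨Z, g, ⟨t, ht⟩, hy⟩ := exists_mem_of_mem hS y
  exact ⟨Z, g, t, hy, ht⟩

theorem exact_locSurj (S : ShortComplex (EtModW.Mod Λ X)) (hS : S.Exact) {Y : X.Etale}
    (s : S.X₂.obj.obj (op Y)) (hs : (S.g.hom.app (op Y)).hom s = 0) (y : Y.left) :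
    ∃ (Z : X.Etale) (g : Z ⟶ Y) (t : S.X₁.obj.obj (op Z)), y ∈ Set.range g.left ∧
      (S.f.hom.app (op Z)).hom t = (S.X₂.obj.map g.op).hom s := by
  haveI : Epi (kernel.lift S.g S.f S.zero) := (S.exact_iff_epi_kernel_lift).1 hS
  let S' : ShortComplex (EtModW.Mod Λ X) :=
    ShortComplex.mk (kernel.ι S.g) S.g (kernel.condition S.g)
  have hS' : S'.Exact := ShortComplex.exact_of_f_is_kernel S' (kernelIsKernel S.g)
  haveI : Mono S'.f := (inferInstance : Mono (kernel.ι S.g))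
  obtain ⟨s', hs'⟩ := sec_exact S' hS' Y s hs
  have hs'' : ((kernel.ι S.g).hom.app (op Y)).hom s' = s := hs'
  obtain ⟨Z, g, t, hy, ht⟩ := epi_locSurj (kernel.lift S.g S.f S.zero) s' y
  refine ⟨Z, g, t, hy, ?_⟩
  have e1 : (S.f.hom.app (op Z)).hom t = ((kernel.ι S.g).hom.app (op Z)).hom
      (((kernel.lift S.g S.f S.zero).hom.app (op Z)).hom t) :=
    (congrArg (fun m => (m.hom.app (op Z)).hom t) (kernel.lift_ι S.g S.f S.zero)).symm
  rw [e1, ht, nat_apply (kernel.ι S.g) g s', hs'']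

end sections

section kercoker

variable {F G : EtModW.Mod Λ X}

theorem lcdata_kernel (φ : F ⟶ G) (D : Triv F) (E : Triv G) {P : X.Etale} (c : P ⟶ D.U)
    (d : P ⟶ E.U) (h : D.N →ₗ[Λ] E.N)
    (hpt : ∀ m, (φ.hom.app (op P)).hom (D.θ c m) = E.θ d (h m)) :
    Nonempty (LCData (kernel φ) P (LinearMap.ker h)) := by
  classical
  let S : ShortComplex (EtModW.Mod Λ X) := ShortComplex.mk (kernel.ι φ) φ (kernel.condition φ)
  have hS : S.Exact := ShortComplex.exact_of_f_is_kernel S (kernelIsKernel φ)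
  haveI : Mono S.f := (inferInstance : Mono (kernel.ι φ))
  have hinj : ∀ Y : X.Etale, Function.Injective ((kernel.ι φ).hom.app (op Y)).hom :=
    fun Y => sec_injective (kernel.ι φ) Y
  have hzero : ∀ (Y : X.Etale) (t : (kernel φ).obj.obj (op Y)),
      (φ.hom.app (op Y)).hom (((kernel.ι φ).hom.app (op Y)).hom t) = 0 :=
    fun Y t => comp_zero_sec (kernel.ι φ) φ (kernel.condition φ) Y t
  have hlift : ∀ (Y : X.Etale) (g : Y ⟶ P) (b : LinearMap.ker h),
      ∃ t : (kernel φ).obj.obj (op Y),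
        ((kernel.ι φ).hom.app (op Y)).hom t = D.θ (g ≫ c) b.1 := by
    intro Y g b
    refine sec_exact S hS Y (D.θ (g ≫ c) b.1) ?_
    show (φ.hom.app (op Y)).hom (D.θ (g ≫ c) b.1) = 0
    rw [pt_res φ D E c d h hpt g b.1, LinearMap.mem_ker.1 b.2, map_zero]
  choose τ hτ using hlift
  have hadd : ∀ (Y : X.Etale) (g : Y ⟶ P) (b b' : LinearMap.ker h),
      τ Y g (b + b') = τ Y g b + τ Y g b' := by
    intro Y g b b'
    apply hinj Y
    rw [map_add, hτ, hτ, hτ]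
    show D.θ (g ≫ c) (b.1 + b'.1) = _
    rw [map_add]
  have hsmul : ∀ (Y : X.Etale) (g : Y ⟶ P) (r : Λ) (b : LinearMap.ker h),
      τ Y g (r • b) = r • τ Y g b := by
    intro Y g r b
    apply hinj Y
    rw [map_smul, hτ, hτ]
    show D.θ (g ≫ c) (r • b.1) = _
    rw [map_smul]
  refine ⟨{ τ := fun {Y} g =>
              { toFun := τ Y g, map_add' := hadd Y g, map_smul' := hsmul Y g },
            res := ?_, inj := ?_, surj := ?_ }⟩
  · intro Y Y' g k b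
    show ((kernel φ).obj.map k.op).hom (τ Y g b) = τ Y' (k ≫ g) b
    apply hinj Y'
    rw [nat_apply (kernel.ι φ) k, hτ, hτ, D.θ_res, Category.assoc]
  · intro Y g y b b' hbb
    have hbb' : τ Y g b = τ Y g b' := hbb
    apply Subtype.ext
    apply D.θ_injective (g ≫ c) y
    rw [← hτ Y g b, ← hτ Y g b', hbb']
  · intro Y g s y
    obtain ⟨Z, k, n, ⟨z, hz⟩, hn⟩ :=
      D.exists_local (g ≫ c) (((kernel.ι φ).hom.app (op Y)).hom s) y
    have hnker : n ∈ LinearMap.ker h := by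
      rw [LinearMap.mem_ker]
      apply E.θ_injective (k ≫ g ≫ d) z
      rw [map_zero]
      have e1 := pt_res φ D E c d h hpt (k ≫ g) n
      simp only [Category.assoc] at e1
      rw [← e1, hn, ← nat_apply (kernel.ι φ) k s]
      exact hzero Z _
    refine ⟨Z, k, ⟨n, hnker⟩, ⟨z, hz⟩, ?_⟩
    show τ Z (k ≫ g) ⟨n, hnker⟩ = ((kernel φ).obj.map k.op).hom s
    apply hinj Z
    rw [hτ, nat_apply (kernel.ι φ) k s, ← hn, Category.assoc]

theorem lcdata_cokernel (φ : F ⟶ G) (D : Triv F) (E : Triv G) {P : X.Etale} (c : P ⟶ D.U)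
    (d : P ⟶ E.U) (h : D.N →ₗ[Λ] E.N)
    (hpt : ∀ m, (φ.hom.app (op P)).hom (D.θ c m) = E.θ d (h m)) :
    Nonempty (LCData (cokernel φ) P (E.N ⧸ LinearMap.range h)) := by
  classical
  let S : ShortComplex (EtModW.Mod Λ X) :=
    ShortComplex.mk φ (cokernel.π φ) (cokernel.condition φ)
  have hS : S.Exact := ShortComplex.exact_of_g_is_cokernel S (cokernelIsCokernel φ)
  have hzero : ∀ (Y : X.Etale) (t : F.obj.obj (op Y)),
      ((cokernel.π φ).hom.app (op Y)).hom ((φ.hom.app (op Y)).hom t) = 0 :=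
    fun Y t => comp_zero_sec φ (cokernel.π φ) (cokernel.condition φ) Y t
  let τ0 : ∀ (Y : X.Etale) (g : Y ⟶ P), E.N →ₗ[Λ] (cokernel φ).obj.obj (op Y) := fun Y g =>
    ((cokernel.π φ).hom.app (op Y)).hom.comp (E.θ (g ≫ d))
  have hτ0 : ∀ (Y : X.Etale) (g : Y ⟶ P) (n : E.N),
      τ0 Y g n = ((cokernel.π φ).hom.app (op Y)).hom (E.θ (g ≫ d) n) := fun _ _ _ => rfl
  have hker : ∀ (Y : X.Etale) (g : Y ⟶ P), LinearMap.range h ≤ LinearMap.ker (τ0 Y g) := by
    rintro Y g _ ⟨m, rfl⟩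
    rw [LinearMap.mem_ker, hτ0, ← pt_res φ D E c d h hpt g m]
    exact hzero Y _
  refine ⟨{ τ := fun {Y} g => (LinearMap.range h).liftQ (τ0 Y g) (hker Y g),
            res := ?_, inj := ?_, surj := ?_ }⟩
  · intro Y Y' g k b
    obtain ⟨n, rfl⟩ := Submodule.mkQ_surjective (LinearMap.range h) b
    show ((cokernel φ).obj.map k.op).hom
        (((cokernel.π φ).hom.app (op Y)).hom (E.θ (g ≫ d) n)) =
      ((cokernel.π φ).hom.app (op Y')).hom (E.θ ((k ≫ g) ≫ d) n)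
    rw [← nat_apply (cokernel.π φ) k, E.θ_res, Category.assoc]
  · intro Y g y
    rw [injective_iff_map_eq_zero]
    intro b hb
    obtain ⟨n, rfl⟩ := Submodule.mkQ_surjective (LinearMap.range h) b
    have hn' : ((cokernel.π φ).hom.app (op Y)).hom (E.θ (g ≫ d) n) = 0 := hb
    obtain ⟨Z, k, t, ⟨z, hz⟩, ht⟩ := exact_locSurj S hS (E.θ (g ≫ d) n) hn' y
    have ht' : (φ.hom.app (op Z)).hom t = (G.obj.map k.op).hom (E.θ (g ≫ d) n) := ht
    obtain ⟨Z', k', m, ⟨z', hz'⟩, hm⟩ := D.exists_local ((k ≫ g) ≫ c) t z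
    show (Submodule.Quotient.mk n : E.N ⧸ LinearMap.range h) = 0
    rw [Submodule.Quotient.mk_eq_zero]
    refine ⟨m, ?_⟩
    apply E.θ_injective (k' ≫ (k ≫ g) ≫ d) z'
    have e1 := pt_res φ D E c d h hpt (k' ≫ k ≫ g) m
    simp only [Category.assoc] at e1 hm ⊢
    rw [← e1, hm, nat_apply φ k' t, ht', E.θ_res, E.θ_res]
  · intro Y g s y
    obtain ⟨Z, k, t, ⟨z, hz⟩, ht⟩ := epi_locSurj (cokernel.π φ) s y
    obtain ⟨Z', k', n, ⟨z', hz'⟩, hn⟩ := E.exists_local ((k ≫ g) ≫ d) t z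
    refine ⟨Z', k' ≫ k, (Submodule.Quotient.mk n : E.N ⧸ LinearMap.range h), ⟨z', ?_⟩, ?_⟩
    · show k.left (k'.left z') = y
      rw [hz', hz]
    · show ((cokernel.π φ).hom.app (op Z')).hom (E.θ (((k' ≫ k) ≫ g) ≫ d) n) =
        ((cokernel φ).obj.map (k' ≫ k).op).hom s
      rw [map_comp_hom, ← ht, ← nat_apply (cokernel.π φ) k' t, ← hn]
      simp only [Category.assoc]

end kercoker

section ext

variable (S : ShortComplex (EtModW.Mod Λ X)) (D' : Triv S.X₁) (D'' : Triv S.X₃)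

/-- `i ∘ θ'` -/
noncomputable def jθ {P : X.Etale} (a : P ⟶ D'.U) : D'.N →ₗ[Λ] S.X₂.obj.obj (op P) :=
  (S.f.hom.app (op P)).hom.comp (D'.θ a)

theorem jθ_apply {P : X.Etale} (a : P ⟶ D'.U) (n : D'.N) :
    jθ S D' a n = (S.f.hom.app (op P)).hom (D'.θ a n) := rfl

theorem lcdata_ext_aux (hS : S.ShortExact) [Module.Finite Λ D'.N]
    {P : X.Etale} (a : P ⟶ D'.U) (b : P ⟶ D''.U)
    {V : Type (u + 1)} [AddCommGroup V] [Module Λ V] [Module.Finite Λ V]
    (π : V →ₗ[Λ] D''.N) (hπ : Function.Surjective π) (Φ : V →ₗ[Λ] S.X₂.obj.obj (op P))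
    (hΦ : ∀ v, (S.g.hom.app (op P)).hom (Φ v) = D''.θ b (π v))
    (hker : ∀ v, π v = 0 → ∃ a', Φ v = jθ S D' a a') :
    ∃ B : Submodule Λ (S.X₂.obj.obj (op P)), Module.Finite Λ B ∧
      Nonempty (LCData S.X₂ P B) := by
  classical
  haveI := hS.mono_f
  haveI := hS.epi_g
  obtain ⟨B, hBdef⟩ : ∃ B : Submodule Λ (S.X₂.obj.obj (op P)),
      B = LinearMap.range ((jθ S D' a).coprod Φ) := ⟨_, rfl⟩
  have hB : ∀ x, x ∈ B ↔ ∃ n v, x = jθ S D' a n + Φ v := by
    intro x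
    rw [hBdef]
    constructor
    · rintro ⟨⟨n, v⟩, rfl⟩
      exact ⟨n, v, LinearMap.coprod_apply _ _ _⟩
    · rintro ⟨n, v, rfl⟩
      exact ⟨(n, v), LinearMap.coprod_apply _ _ _⟩
  have hBfin : Module.Finite Λ B := by
    rw [hBdef]
    exact Module.Finite.range _
  have hpj : ∀ n, (S.g.hom.app (op P)).hom (jθ S D' a n) = 0 :=
    fun n => comp_zero_sec S.f S.g S.zero P (D'.θ a n)
  have hjres : ∀ {Y : X.Etale} (g : Y ⟶ P) (n : D'.N),
      (S.X₂.obj.map g.op).hom (jθ S D' a n) =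
        (S.f.hom.app (op Y)).hom (D'.θ (g ≫ a) n) := by
    intro Y g n
    rw [← D'.θ_res a g n]
    exact (nat_apply S.f g (D'.θ a n)).symm
  have hΦres : ∀ {Y : X.Etale} (g : Y ⟶ P) (v : V),
      (S.g.hom.app (op Y)).hom ((S.X₂.obj.map g.op).hom (Φ v)) = D''.θ (g ≫ b) (π v) := by
    intro Y g v
    rw [nat_apply S.g g (Φ v), hΦ v, D''.θ_res]
  refine ⟨B, hBfin, ⟨{ τ := fun {Y} g => (S.X₂.obj.map g.op).hom.comp B.subtype,
                       res := ?_, inj := ?_, surj := ?_ }⟩⟩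
  · intro Y Y' g k x
    exact (map_comp_hom S.X₂ k g x.1).symm
  · intro Y g y
    rw [injective_iff_map_eq_zero]
    rintro ⟨x, hx⟩ hx0
    obtain ⟨n, v, rfl⟩ := (hB x).1 hx
    have hx0' : (S.X₂.obj.map g.op).hom (jθ S D' a n + Φ v) = 0 := hx0
    have hv : π v = 0 := by
      apply D''.θ_injective (g ≫ b) y
      rw [map_zero, ← hΦres g v]
      have e : (S.g.hom.app (op Y)).hom ((S.X₂.obj.map g.op).hom (jθ S D' a n)) +
          (S.g.hom.app (op Y)).hom ((S.X₂.obj.map g.op).hom (Φ v)) = 0 := by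
        rw [← map_add, ← map_add, hx0', map_zero]
      rw [nat_apply S.g g (jθ S D' a n), hpj n, map_zero, zero_add] at e
      exact e
    obtain ⟨a₁, ha₁⟩ := hker v hv
    have hn : n + a₁ = 0 := by
      apply D'.θ_injective (g ≫ a) y
      rw [map_zero]
      apply sec_injective S.f Y
      rw [map_zero, ← hjres g, map_add]
      rw [ha₁] at hx0'
      exact hx0'
    apply Subtype.ext
    show jθ S D' a n + Φ v = 0
    rw [ha₁, ← map_add, hn, map_zero]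
  · intro Y g s y
    obtain ⟨Z, k, c, ⟨z, hz⟩, hc⟩ :=
      D''.exists_local (g ≫ b) ((S.g.hom.app (op Y)).hom s) y
    obtain ⟨v, rfl⟩ := hπ c
    have hs' : (S.g.hom.app (op Z)).hom
        ((S.X₂.obj.map k.op).hom s - (S.X₂.obj.map (k ≫ g).op).hom (Φ v)) = 0 := by
      rw [map_sub, nat_apply S.g k s, ← hc, hΦres (k ≫ g) v, Category.assoc, sub_self]
    obtain ⟨κ, hκ⟩ := sec_exact S hS.exact Z _ hs'
    obtain ⟨Z', k', n, ⟨z', hz'⟩, hn⟩ := D'.exists_local ((k ≫ g) ≫ a) κ z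
    refine ⟨Z', k' ≫ k, ⟨jθ S D' a n + Φ v, (hB _).2 ⟨n, v, rfl⟩⟩, ⟨z', ?_⟩, ?_⟩
    · show k.left (k'.left z') = y
      rw [hz', hz]
    · show (S.X₂.obj.map ((k' ≫ k) ≫ g).op).hom (jθ S D' a n + Φ v) =
        (S.X₂.obj.map (k' ≫ k).op).hom s
      have e1 : (S.X₂.obj.map k'.op).hom ((S.f.hom.app (op Z)).hom κ) =
          (S.X₂.obj.map ((k' ≫ k) ≫ g).op).hom (jθ S D' a n) := by
        rw [← nat_apply S.f k' κ, ← hn, hjres]
        simp only [Category.assoc]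
      rw [map_add, ← e1, hκ, map_sub, ← map_comp_hom, ← map_comp_hom, Category.assoc]
      abel

theorem ext_local [IsNoetherianRing Λ] (hS : S.ShortExact) [Module.Finite Λ D'.N]
    [Module.Finite Λ D''.N] {W : X.Etale} (a : W ⟶ D'.U) (b : W ⟶ D''.U) (w : W.left) :
    ∃ (P : X.Etale) (q : P ⟶ W) (z : P.left), q.left z = w ∧
      ∃ (B : Type (u + 1)) (_ : AddCommGroup B) (_ : Module Λ B) (_ : Module.Finite Λ B),
        Nonempty (LCData S.X₂ P B) := by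
  classical
  haveI := hS.mono_f
  haveI := hS.epi_g
  obtain ⟨T, hT⟩ := (Module.Finite.fg_top : (⊤ : Submodule Λ D''.N).FG)
  have h1 : ∀ c : D''.N, ∃ (Z : X.Etale) (g : Z ⟶ W) (t : S.X₂.obj.obj (op Z)),
      w ∈ Set.range g.left ∧
      (S.g.hom.app (op Z)).hom t = (S.X₃.obj.map g.op).hom (D''.θ b c) :=
    fun c => epi_locSurj S.g (D''.θ b c) w
  choose Z₁ g₁ t₁ hw₁ ht₁ using h1
  obtain ⟨P₁, q₁, ⟨z₁, hz₁⟩, hr₁⟩ := exists_common w T Z₁ g₁ hw₁
  choose r₁ hr₁' using hr₁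
  let σ₁ : {c // c ∈ T} → S.X₂.obj.obj (op P₁) :=
    fun c => (S.X₂.obj.map (r₁ c.1 c.2).op).hom (t₁ c.1)
  have hσ₁ : ∀ c : {c // c ∈ T},
      (S.g.hom.app (op P₁)).hom (σ₁ c) = D''.θ (q₁ ≫ b) c.1 := by
    intro c
    show (S.g.hom.app (op P₁)).hom ((S.X₂.obj.map (r₁ c.1 c.2).op).hom (t₁ c.1)) = _
    rw [nat_apply S.g (r₁ c.1 c.2) (t₁ c.1), ht₁ c.1, D''.θ_res, D''.θ_res, ← Category.assoc,
      hr₁' c.1 c.2]
  obtain ⟨π, hπdef⟩ : ∃ π : ({c // c ∈ T} →₀ Λ) →ₗ[Λ] D''.N,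
      π = Finsupp.linearCombination Λ (fun c : {c // c ∈ T} => c.1) := ⟨_, rfl⟩
  obtain ⟨Φ₁, hΦ₁def⟩ : ∃ Φ₁ : ({c // c ∈ T} →₀ Λ) →ₗ[Λ] S.X₂.obj.obj (op P₁),
      Φ₁ = Finsupp.linearCombination Λ σ₁ := ⟨_, rfl⟩
  have hπ : Function.Surjective π := by
    rw [← LinearMap.range_eq_top, hπdef, Finsupp.range_linearCombination]
    have hrange : Set.range (fun c : {c // c ∈ T} => c.1) = (T : Set D''.N) := by
      ext x
      simp
    rw [hrange, hT]
  have hΦ₁ : ∀ v : ({c // c ∈ T} →₀ Λ),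
      (S.g.hom.app (op P₁)).hom (Φ₁ v) = D''.θ (q₁ ≫ b) (π v) := by
    intro v
    have hcomp : (S.g.hom.app (op P₁)).hom.comp Φ₁ = (D''.θ (q₁ ≫ b)).comp π := by
      apply Finsupp.lhom_ext
      intro c r
      show (S.g.hom.app (op P₁)).hom (Φ₁ (Finsupp.single c r)) =
        D''.θ (q₁ ≫ b) (π (Finsupp.single c r))
      rw [hΦ₁def, hπdef, Finsupp.linearCombination_single, Finsupp.linearCombination_single,
        map_smul, map_smul, hσ₁]
    exact congrArg (fun f => f v) hcomp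
  haveI : IsNoetherian Λ ({c // c ∈ T} →₀ Λ) :=
    isNoetherian_of_isNoetherianRing_of_finite Λ _
  haveI : Module.Finite Λ (LinearMap.ker π) :=
    Module.Finite.iff_fg.2 (IsNoetherian.noetherian _)
  obtain ⟨R₀, hR₀⟩ := (Module.Finite.fg_top : (⊤ : Submodule Λ (LinearMap.ker π)).FG)
  have h2 : ∀ ρ : LinearMap.ker π, ∃ (Z : X.Etale) (g : Z ⟶ P₁) (n : D'.N),
      z₁ ∈ Set.range g.left ∧
      (S.f.hom.app (op Z)).hom (D'.θ (g ≫ q₁ ≫ a) n) =
        (S.X₂.obj.map g.op).hom (Φ₁ ρ.1) := by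
    intro ρ
    have hδ : (S.g.hom.app (op P₁)).hom (Φ₁ ρ.1) = 0 := by
      rw [hΦ₁, LinearMap.mem_ker.1 ρ.2, map_zero]
    obtain ⟨κ, hκ⟩ := sec_exact S hS.exact P₁ _ hδ
    obtain ⟨Z, g, n, hz, hn⟩ := D'.exists_local (q₁ ≫ a) κ z₁
    refine ⟨Z, g, n, hz, ?_⟩
    rw [hn, nat_apply S.f g κ, hκ]
  choose Z₂ g₂ n₂ hw₂ hn₂ using h2
  obtain ⟨P, q₂, ⟨z, hz⟩, hr₂⟩ := exists_common z₁ R₀ Z₂ g₂ hw₂
  choose r₂ hr₂' using hr₂
  obtain ⟨ΦP, hΦPdef⟩ : ∃ ΦP : ({c // c ∈ T} →₀ Λ) →ₗ[Λ] S.X₂.obj.obj (op P),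
      ΦP = (S.X₂.obj.map q₂.op).hom.comp Φ₁ := ⟨_, rfl⟩
  have hΦPa : ∀ v, ΦP v = (S.X₂.obj.map q₂.op).hom (Φ₁ v) := by
    intro v
    rw [hΦPdef]
    rfl
  have hΦP : ∀ v, (S.g.hom.app (op P)).hom (ΦP v) = D''.θ (q₂ ≫ q₁ ≫ b) (π v) := by
    intro v
    rw [hΦPa, nat_apply S.g q₂ (Φ₁ v), hΦ₁ v, D''.θ_res]
  have hgen : ∀ ρ (hρ : ρ ∈ R₀), ΦP ρ.1 = jθ S D' (q₂ ≫ q₁ ≫ a) (n₂ ρ) := by
    intro ρ hρ
    have e := hn₂ ρ
    have e' := congrArg (fun t => (S.X₂.obj.map (r₂ ρ hρ).op).hom t) e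
    have e1 : (S.X₂.obj.map (r₂ ρ hρ).op).hom ((S.f.hom.app (op (Z₂ ρ))).hom
        (D'.θ (g₂ ρ ≫ q₁ ≫ a) (n₂ ρ))) = jθ S D' (q₂ ≫ q₁ ≫ a) (n₂ ρ) := by
      rw [jθ_apply, ← nat_apply S.f (r₂ ρ hρ), D'.θ_res, ← Category.assoc, hr₂' ρ hρ]
    have e2 : (S.X₂.obj.map (r₂ ρ hρ).op).hom ((S.X₂.obj.map (g₂ ρ).op).hom (Φ₁ ρ.1)) =
        ΦP ρ.1 := by
      rw [hΦPa, ← map_comp_hom, hr₂' ρ hρ]
    exact e2.symm.trans (e'.symm.trans e1)
  have hker : ∀ v, π v = 0 → ∃ a', ΦP v = jθ S D' (q₂ ≫ q₁ ≫ a) a' := by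
    intro v hv
    have hle : (⊤ : Submodule Λ (LinearMap.ker π)) ≤
        Submodule.comap (ΦP.comp (LinearMap.ker π).subtype)
          (LinearMap.range (jθ S D' (q₂ ≫ q₁ ≫ a))) := by
      rw [← hR₀]
      refine Submodule.span_le.2 (fun ρ hρ => ?_)
      exact Submodule.mem_comap.2 (LinearMap.mem_range.2
        ⟨n₂ ρ, (hgen ρ (Finset.mem_coe.1 hρ)).symm⟩)
    have hmem := hle (Submodule.mem_top : (⟨v, LinearMap.mem_ker.2 hv⟩ : LinearMap.ker π) ∈ ⊤)
    obtain ⟨a', ha'⟩ := LinearMap.mem_range.1 (Submodule.mem_comap.1 hmem)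
    exact ⟨a', ha'.symm⟩
  obtain ⟨B, hfin, ⟨L⟩⟩ :=
    lcdata_ext_aux S D' D'' hS (q₂ ≫ q₁ ≫ a) (q₂ ≫ q₁ ≫ b) π hπ ΦP hΦP hker
  refine ⟨P, q₂ ≫ q₁, z, ?_, B, inferInstance, inferInstance, hfin, ⟨L⟩⟩
  show q₁.left (q₂.left z) = w
  rw [hz, hz₁]

end ext

theorem main46 (Λ : Type (u + 1)) [CommRing Λ] [IsNoetherianRing Λ] (X : Scheme.{u}) :
    (∀ (F G : EtModW.Mod Λ X) (φ : F ⟶ G), EtModW.IsFTLocConst Λ F → EtModW.IsFTLocConst Λ G →
      EtModW.IsFTLocConst Λ (kernel φ) ∧ EtModW.IsFTLocConst Λ (cokernel φ)) ∧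
    ObjectProperty.IsClosedUnderExtensions
      (fun F : EtModW.Mod Λ X => EtModW.IsFTLocConst Λ F) := by
  classical
  refine ⟨fun F G φ hF hG => ?_, ⟨fun {S} hS h₁ h₃ => ?_⟩⟩
  · obtain ⟨ι, U, hcov, hM⟩ := hF
    obtain ⟨κ, V, hcovV, hN⟩ := hG
    have hloc : ∀ x : X, ∃ (P : X.Etale) (z : P.left), P.hom.base z = x ∧
        ∃ (D : Triv F) (E : Triv G) (_ : Module.Finite Λ D.N) (_ : Module.Finite Λ E.N)
          (c : P ⟶ D.U) (d : P ⟶ E.U) (h : D.N →ₗ[Λ] E.N),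
          ∀ m, (φ.hom.app (op P)).hom (D.θ c m) = E.θ d (h m) := by
      intro x
      obtain ⟨i, y, hy⟩ := hcov x
      obtain ⟨j, y', hy'⟩ := hcovV x
      obtain ⟨M, iM, mM, fM, ⟨α⟩⟩ := hM i
      obtain ⟨N, iN, mN, fN, ⟨β⟩⟩ := hN j
      let D : Triv F := ⟨U i, ModuleCat.of Λ M, α⟩
      let E : Triv G := ⟨V j, ModuleCat.of Λ N, β⟩
      haveI : Module.Finite Λ D.N := fM
      haveI : Module.Finite Λ E.N := fN
      obtain ⟨P, c, d, z, h, hz, hpt⟩ := local_const φ D E y y' (hy.trans hy'.symm)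
      refine ⟨P, z, ?_, D, E, fM, fN, c, d, h, hpt⟩
      calc P.hom.base z = (c.left ≫ D.U.hom).base z :=
          congrArg (fun f => f.base z) (MorphismProperty.Over.w c).symm
        _ = x := by
          show (U i).hom.base (c.left.base z) = x
          rw [hz]
          exact hy
    constructor
    · apply ftlc_of_local
      intro x
      obtain ⟨P, z, hz, D, E, fD, fE, c, d, h, hpt⟩ := hloc x
      obtain ⟨L⟩ := lcdata_kernel φ D E c d h hpt
      haveI := fD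
      haveI : IsNoetherian Λ D.N := isNoetherian_of_isNoetherianRing_of_finite Λ D.N
      exact ⟨P, z, hz, LinearMap.ker h, inferInstance, inferInstance,
        Module.Finite.iff_fg.2 (IsNoetherian.noetherian _), ⟨L⟩⟩
    · apply ftlc_of_local
      intro x
      obtain ⟨P, z, hz, D, E, fD, fE, c, d, h, hpt⟩ := hloc x
      obtain ⟨L⟩ := lcdata_cokernel φ D E c d h hpt
      haveI := fE
      exact ⟨P, z, hz, E.N ⧸ LinearMap.range h, inferInstance, inferInstance, inferInstance, ⟨L⟩⟩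
  · have h₁' : EtModW.IsFTLocConst Λ S.X₁ := h₁
    have h₃' : EtModW.IsFTLocConst Λ S.X₃ := h₃
    show EtModW.IsFTLocConst Λ S.X₂
    obtain ⟨ι, U, hcov, hM⟩ := h₁'
    obtain ⟨κ, V, hcovV, hN⟩ := h₃'
    apply ftlc_of_local
    intro x
    obtain ⟨i, y, hy⟩ := hcov x
    obtain ⟨j, y', hy'⟩ := hcovV x
    obtain ⟨M, iM, mM, fM, ⟨α⟩⟩ := hM i
    obtain ⟨N, iN, mN, fN, ⟨β⟩⟩ := hN j
    let D' : Triv S.X₁ := ⟨U i, ModuleCat.of Λ M, α⟩
    let D'' : Triv S.X₃ := ⟨V j, ModuleCat.of Λ N, β⟩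
    haveI : Module.Finite Λ D'.N := fM
    haveI : Module.Finite Λ D''.N := fN
    let T : X.Etale := Scheme.Etale.mk (𝟙 X)
    let φ₁ : D'.U ⟶ T := MorphismProperty.Over.homMk D'.U.hom (Category.comp_id _) trivial
    let φ₂ : D''.U ⟶ T := MorphismProperty.Over.homMk D''.U.hom (Category.comp_id _) trivial
    obtain ⟨W, a, b, w, -, ha, -⟩ := exists_prod φ₁ φ₂ y y' (hy.trans hy'.symm)
    obtain ⟨P, q, z, hz, B, iB, mB, fB, hL⟩ := ext_local S D' D'' hS a b w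
    refine ⟨P, z, ?_, B, iB, mB, fB, hL⟩
    calc P.hom.base z = ((q ≫ a).left ≫ D'.U.hom).base z :=
          congrArg (fun f => f.base z) (MorphismProperty.Over.w (q ≫ a)).symm
      _ = x := by
          show (U i).hom.base (a.left (q.left z)) = x
          rw [hz, ha]
          exact hy

end Groth.Agent.Lib.EtLocConstMod
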