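import Mathlib

/-!
# Étale-local extension of a morphism to a smooth target (helper7)

`core`: given a closed immersion `pr : X₀ ⟶ X`, an étale `e' : U' ⟶ X`, an open immersion
`a₀ : T ⟶ X₀` and a lift `σ : T ⟶ U'` of `a₀ ≫ pr`, one can shrink `U'` to an open `U` so that
`U ×_X X₀ ≅ T` over `X₀`.

`main14069`: the étale-local extension statement.
-/

set_option autoImplicit false
universe u
open CategoryTheory Limits AlgebraicGeometry

namespace Groth.Agent.Lib.EtLocExtH7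

theorem core {X X₀ Y U' T : Scheme.{u}} (pr : X₀ ⟶ X) [IsClosedImmersion pr]
    (e' : U' ⟶ X) [Etale e'] (f' : U' ⟶ Y) (f₀ : X₀ ⟶ Y)
    (a₀ : T ⟶ X₀) [IsOpenImmersion a₀] (σ : T ⟶ U')
    (h₁ : σ ≫ e' = a₀ ≫ pr) (h₂ : σ ≫ f' = a₀ ≫ f₀) (x₀ : X₀)
    (hx₀ : x₀ ∈ Set.range a₀.base) :
    ∃ (U : Scheme.{u}) (e : U ⟶ X) (f : U ⟶ Y), Etale e ∧
      (∃ j : U ⟶ U', e = j ≫ e' ∧ f = j ≫ f') ∧
      IsOpenImmersion (pullback.snd e pr) ∧ x₀ ∈ Set.range (pullback.snd e pr).base ∧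
      pullback.snd e pr ≫ f₀ = pullback.fst e pr ≫ f := by
  let k := pullback.fst e' pr
  let s := pullback.snd e' pr
  let σ' : T ⟶ pullback e' pr := pullback.lift σ a₀ h₁
  have hσ'k : σ' ≫ k = σ := pullback.lift_fst _ _ _
  have hσ's : σ' ≫ s = a₀ := pullback.lift_snd _ _ _
  have hEt : Etale σ' := by
    have h1 : Etale (σ' ≫ s) := by rw [hσ's]; infer_instance
    exact MorphismProperty.of_postcomp (W := @Etale) (W' := @Etale) σ' s inferInstance h1
  have hMono : Mono σ' := mono_of_mono_fac hσ's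
  have hOI : IsOpenImmersion σ' := IsOpenImmersion.of_flat_of_mono σ'
  have hkinj : Function.Injective k.base := k.isClosedEmbedding.injective
  let Zc : Set U' := k.base '' (Set.range σ'.base)ᶜ
  have hZ : IsClosed Zc :=
    k.isClosedEmbedding.isClosedMap _ (σ'.isOpenEmbedding.isOpen_range.isClosed_compl)
  let Uo : U'.Opens := ⟨Zcᶜ, hZ.isOpen_compl⟩
  have hmem : ∀ t : ↥(pullback e' pr), k.base t ∈ Uo ↔ t ∈ Set.range σ'.base := by
    intro t
    show k.base t ∈ Zcᶜ ↔ _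
    constructor
    · intro ht
      by_contra hn
      exact ht ⟨t, hn, rfl⟩
    · rintro ht ⟨z, hz, hzt⟩
      exact hz (hkinj hzt ▸ ht)
  have hpre : k ⁻¹ᵁ Uo = σ'.opensRange := by
    ext t
    exact hmem t
  have hσU : Set.range σ.base ⊆ (Uo : Set U') := by
    rintro _ ⟨t, rfl⟩
    have : σ.base t = k.base (σ'.base t) := by
      rw [← hσ'k]; rfl
    rw [this]
    exact (hmem _).2 ⟨t, rfl⟩
  let σU : T ⟶ Uo.toScheme := IsOpenImmersion.lift Uo.ι σ (by
    rw [Scheme.Opens.range_ι]; exact hσU)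
  have hσU_ι : σU ≫ Uo.ι = σ := IsOpenImmersion.lift_fac _ _ _
  have top : IsPullback σU σ' Uo.ι k :=
    IsOpenImmersion.isPullback σU σ' Uo.ι k (by rw [hσ'k, hσU_ι])
      (by rw [Scheme.Opens.opensRange_ι]; exact hpre)
  have bot : IsPullback k s e' pr := IsPullback.of_hasPullback e' pr
  have big : IsPullback σU a₀ (Uo.ι ≫ e') pr := by
    have := top.paste_vert bot
    rwa [hσ's] at this
  refine ⟨Uo.toScheme, Uo.ι ≫ e', Uo.ι ≫ f', inferInstance, ⟨Uo.ι, rfl, rfl⟩, ?_, ?_, ?_⟩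
  · have : pullback.snd (Uo.ι ≫ e') pr = big.isoPullback.inv ≫ a₀ := by
      rw [Iso.eq_inv_comp]; exact big.isoPullback_hom_snd
    rw [this]; infer_instance
  · obtain ⟨t, ht⟩ := hx₀
    refine ⟨big.isoPullback.hom.base t, ?_⟩
    rw [← Scheme.Hom.comp_apply, big.isoPullback_hom_snd]; exact ht
  · rw [← cancel_epi big.isoPullback.hom, big.isoPullback_hom_snd_assoc,
      big.isoPullback_hom_fst_assoc, ← Category.assoc, hσU_ι, h₂]

theorem main14069 {S S₀ X Y : Scheme.{u}} (i : S₀ ⟶ S) [IsClosedImmersion i]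
    (p : X ⟶ S) (q : Y ⟶ S) [Smooth q] (f₀ : pullback p i ⟶ Y)
    (hf₀ : f₀ ≫ q = pullback.fst p i ≫ p) (x₀ : ↥(pullback p i)) :
    ∃ (U : Scheme.{u}) (e : U ⟶ X) (f : U ⟶ Y), Etale e ∧ f ≫ q = e ≫ p ∧
      IsOpenImmersion (pullback.snd e (pullback.fst p i)) ∧
      x₀ ∈ Set.range (pullback.snd e (pullback.fst p i)).base ∧
      pullback.snd e (pullback.fst p i) ≫ f₀ =
        pullback.fst e (pullback.fst p i) ≫ f := by
  set pr := pullback.fst p i with hpr
  obtain ⟨W, hW, V, hV, hy₀V, hVW, hss⟩ := Smooth.exists_isStandardSmooth q (f₀.base x₀)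
  obtain ⟨n, g, hgC, hgE⟩ := RingHom.IsStandardSmooth.exists_etale_mvPolynomial hss
  -- choose the affine open `X'`
  have hopen : IsOpen (f₀.base ⁻¹' (V : Set Y)) := V.2.preimage f₀.continuous
  obtain ⟨O, hO, hOeq⟩ := pr.isClosedEmbedding.isEmbedding.isOpen_iff.mp hopen
  let O' : X.Opens := ⟨O, hO⟩ ⊓ p ⁻¹ᵁ W
  have hxO' : pr.base x₀ ∈ O' := by
    refine ⟨?_, ?_⟩
    · have : x₀ ∈ pr.base ⁻¹' O := by rw [hOeq]; exact hy₀V
      exact this
    · show p.base (pr.base x₀) ∈ W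
      have h1 : p.base (pr.base x₀) = q.base (f₀.base x₀) := by
        rw [← Scheme.Hom.comp_apply, ← Scheme.Hom.comp_apply, hf₀]
      rw [h1]
      exact hVW hy₀V
  obtain ⟨X', hX', hxX', hX'O⟩ := exists_isAffineOpen_mem_and_subset hxO'
  have hX'W : X' ≤ p ⁻¹ᵁ W := fun z hz => (hX'O hz).2
  let X'₀ : (pullback p i).Opens := pr ⁻¹ᵁ X'
  have hX'₀ : IsAffineOpen X'₀ := hX'.preimage pr
  have hX'₀V : X'₀ ≤ f₀ ⁻¹ᵁ V := by
    intro z hz
    have h1 : pr.base z ∈ O := (hX'O hz).1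
    have h2 : z ∈ pr.base ⁻¹' O := h1
    rw [hOeq] at h2
    exact h2
  -- the rings
  let ψ : Γ(Y, V) ⟶ Γ(pullback p i, X'₀) := f₀.appLE V X'₀ hX'₀V
  let ρ : Γ(X, X') ⟶ Γ(pullback p i, X'₀) := pr.app X'
  have hρ : Function.Surjective ρ := pr.app_surjective X' hX'
  let β : Γ(S, W) ⟶ Γ(X, X') := p.appLE W X' hX'W
  have hcompat : β ≫ ρ = q.appLE W V hVW ≫ ψ := by
    have e1 : β ≫ ρ = (pr ≫ p).appLE W X'₀ (fun z hz => hX'W hz) := by
      simp only [β, ρ, Scheme.Hom.app_eq_appLE, Scheme.Hom.appLE_comp_appLE]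
      rfl
    have e2 : q.appLE W V hVW ≫ ψ = (f₀ ≫ q).appLE W X'₀ (fun z hz => hVW (hX'₀V hz)) := by
      simp only [ψ, Scheme.Hom.appLE_comp_appLE]
    rw [e1, e2]
    congr 1
    exact hf₀.symm
  choose b hb using fun k : Fin n => hρ (ψ (g (MvPolynomial.X k)))
  let h : MvPolynomial (Fin n) Γ(S, W) →+* Γ(X, X') := MvPolynomial.eval₂Hom β.hom b
  have hh : ρ.hom.comp h = ψ.hom.comp g := by
    apply MvPolynomial.ringHom_ext
    · intro r
      have h1 : g (MvPolynomial.C r) = (q.appLE W V hVW).hom r := by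
        rw [← hgC]; rfl
      have h2 : ρ.hom (β.hom r) = ψ.hom ((q.appLE W V hVW).hom r) := by
        have := congrArg (fun φ => φ.hom r) hcompat
        simpa using this
      simp only [RingHom.comp_apply, h, MvPolynomial.coe_eval₂Hom, MvPolynomial.eval₂_C]
      rw [h1]
      exact h2
    · intro k
      simp only [RingHom.comp_apply, h, MvPolynomial.coe_eval₂Hom, MvPolynomial.eval₂_X]
      exact hb k
  have hhC : h.comp MvPolynomial.C = β.hom := by
    ext r
    simp [h]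
  -- the schemes
  let a := hX'.fromSpec
  let a₀ := hX'₀.fromSpec
  let c := hV.fromSpec
  let sh := Spec.map (CommRingCat.ofHom h)
  let sg := Spec.map (CommRingCat.ofHom g)
  have hsg : Etale sg := (HasRingHomProperty.Spec_iff (P := @Etale)).mpr hgE
  let e' : pullback sh sg ⟶ X := pullback.fst sh sg ≫ a
  let f' : pullback sh sg ⟶ Y := pullback.snd sh sg ≫ c
  have he' : Etale e' := inferInstance
  have hcond : Spec.map ρ ≫ sh = Spec.map ψ ≫ sg := by
    simp only [sh, sg]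
    rw [← Spec.map_comp, ← Spec.map_comp]
    congr 1
    ext1
    exact hh
  let σ : Spec Γ(pullback p i, X'₀) ⟶ pullback sh sg :=
    pullback.lift (Spec.map ρ) (Spec.map ψ) hcond
  have h₁ : σ ≫ e' = a₀ ≫ pr := by
    simp only [σ, e', pullback.lift_fst_assoc]
    have := IsAffineOpen.SpecMap_appLE_fromSpec pr hX' hX'₀ le_rfl
    rw [← this]
    congr 2
    simp only [ρ, Scheme.Hom.app_eq_appLE]
    rfl
  have h₂ : σ ≫ f' = a₀ ≫ f₀ := by
    simp only [σ, f', pullback.lift_snd_assoc]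
    exact IsAffineOpen.SpecMap_appLE_fromSpec f₀ hV hX'₀ hX'₀V
  have hx₀ : x₀ ∈ Set.range a₀.base := by
    rw [hX'₀.range_fromSpec]; exact hxX'
  have hf'q : f' ≫ q = e' ≫ p := by
    simp only [e', f', Category.assoc]
    rw [← IsAffineOpen.SpecMap_appLE_fromSpec q hW hV hVW,
      ← IsAffineOpen.SpecMap_appLE_fromSpec p hW hX' hX'W]
    have e1 : Spec.map (q.appLE W V hVW) =
        sg ≫ Spec.map (CommRingCat.ofHom MvPolynomial.C) := by
      simp only [sg]
      rw [← Spec.map_comp]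
      congr 1
      ext1
      exact hgC.symm
    have e2 : Spec.map (p.appLE W X' hX'W) =
        sh ≫ Spec.map (CommRingCat.ofHom MvPolynomial.C) := by
      simp only [sh]
      rw [← Spec.map_comp]
      congr 1
      ext1
      exact hhC.symm
    rw [e1, e2]
    simp only [Category.assoc]
    rw [← Category.assoc (pullback.snd sh sg), ← Category.assoc (pullback.fst sh sg),
      pullback.condition]
  obtain ⟨U, e, f, he, ⟨j, rfl, rfl⟩, h3, h4, h5⟩ := core pr e' f' f₀ a₀ σ h₁ h₂ x₀ hx₀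
  refine ⟨U, _, _, he, ?_, h3, h4, h5⟩
  rw [Category.assoc, hf'q]
  exact (Category.assoc _ _ _).symm

end Groth.Agent.Lib.EtLocExtH7
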