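import Mathlib
import Groth.Prelude.Def_ModSite
import Groth.Agent.Lib.EtStalkPt_helper7
import Groth.Agent.Lib.IdealEtB_helper7

/-!
# The small étale site of an algebraic space is locally ringed (helper7)
-/

set_option autoImplicit false
set_option backward.isDefEq.respectTransparency false
universe u
open CategoryTheory CategoryTheory.Limits AlgebraicGeometry Opposite
open AlgSp Groth.Agent.Lib.AlgSpPoints_helper7 Groth.Agent.Lib.EtNbhd_helper7
  Groth.Agent.Lib.EtStalkPt_helper7

namespace Groth.Agent.Lib.EtLocRinged_helper7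

variable {S : Scheme.{u}} {X : Sp S}

theorem isUnit_appTop_of_range_subset {V U : Scheme.{u}} (j : V ⟶ U) (f : Γ(U, ⊤))
    (h : Set.range j ⊆ (U.basicOpen f : Set U)) : IsUnit (j.appTop.hom f) := by
  refine RingedSpace.isUnit_of_isUnit_germ V.toRingedSpace ⊤ _ (fun x _ => ?_)
  have hx : x ∈ V.basicOpen (j.appTop.hom f) := by
    rw [← Scheme.preimage_basicOpen_top]; exact h ⟨x, rfl⟩
  exact (Scheme.mem_basicOpen_top _ _ x).1 hx

theorem isUnit_map_of_range_subset {V U : EtOver X} (g : V ⟶ U) (f : ↥((OEt X).obj.obj (op U)))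
    (h : Set.range g.hom.left.left ⊆ (U.obj.left.left.basicOpen f.down : Set _)) :
    IsUnit (((OEt X).obj.map g.op).hom f) := by
  have hu := isUnit_appTop_of_range_subset g.hom.left.left f.down h
  exact hu.map (ULift.ringEquiv.symm : _ ≃+* ULift.{u + 1} _)

theorem exists_chartOpen (U : EtOver X) (D : U.obj.left.left.Opens) :
    ∃ (V : EtOver X) (g : V ⟶ U), Set.range g.hom.left.left = (D : Set _) := by
  refine ⟨Groth.Agent.Lib.IdealEtBH7.chartOpen U.obj.hom U.property D,
    EtOver.homMk (Groth.Agent.Lib.IdealEtBH7.openι U.obj.left D) rfl, ?_⟩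
  show Set.range D.ι = _
  exact Scheme.Opens.range_ι D

theorem isLocallyRinged : ModSite.IsLocallyRinged (etTop X) (OEt X) := by
  refine ⟨fun U f => ?_, fun U h => ?_⟩
  · let R : Sieve U :=
      { arrows := fun V g => IsUnit (((OEt X).obj.map g.op).hom f) ∨
          IsUnit (((OEt X).obj.map g.op).hom (1 - f))
        downward_closed := by
          intro V W g hg k
          simp only [op_comp, Functor.map_comp, CommRingCat.hom_comp, RingHom.comp_apply]
          exact hg.imp (fun h => h.map _) (fun h => h.map _) }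
    refine ⟨R, ?_, fun V g hg => hg⟩
    apply sieve_mem_of_forall_exists
    intro x
    rcases IsLocalRing.isUnit_or_isUnit_one_sub_self
      (U.obj.left.left.presheaf.germ ⊤ x trivial f.down) with h | h
    · have hxD : x ∈ U.obj.left.left.basicOpen f.down := (Scheme.mem_basicOpen_top _ _ x).2 h
      obtain ⟨V, g, hg⟩ := exists_chartOpen U (U.obj.left.left.basicOpen f.down)
      exact ⟨V, g, Or.inl (isUnit_map_of_range_subset g f hg.le), hg ▸ hxD⟩
    · have h' : IsUnit (U.obj.left.left.presheaf.germ ⊤ x trivial (1 - f).down) := by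
        have e : (1 - f).down = 1 - f.down := rfl
        rw [e, map_sub, map_one]
        exact h
      have hxD : x ∈ U.obj.left.left.basicOpen (1 - f).down := (Scheme.mem_basicOpen_top _ _ x).2 h'
      obtain ⟨V, g, hg⟩ := exists_chartOpen U (U.obj.left.left.basicOpen (1 - f).down)
      exact ⟨V, g, Or.inr (isUnit_map_of_range_subset g (1 - f) hg.le), hg ▸ hxD⟩
  · apply sieve_mem_of_forall_exists
    intro x
    exfalso
    have h1 : (0 : Γ(U.obj.left.left, ⊤)) = 1 := congrArg ULift.down h
    have h2 := congrArg (U.obj.left.left.presheaf.germ ⊤ x trivial).hom h1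
    rw [map_zero, map_one] at h2
    exact zero_ne_one h2

end Groth.Agent.Lib.EtLocRinged_helper7
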