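import Mathlib
import Groth.Agent.Lib.WeaklyEtaleAff_lead

open AlgebraicGeometry CategoryTheory Limits Polynomial

namespace Groth.Agent.Lib.EtLocalOpenImm

universe u

theorem std_open (R : Type u) [CommRing R] (P : StandardEtalePair R) :
    ∃ θ₁ : Localization.Away (AdjoinRoot.mk P.f (derivative P.f)) →ₐ[R]
      Localization.Away (AdjoinRoot.mk P.f P.g),
      IsOpenImmersion (Spec.map (CommRingCat.ofHom θ₁.toRingHom)) := by
  obtain ⟨p₁, p₂, n, hcond⟩ := P.cond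
  have h1 : AdjoinRoot.mk P.f (derivative P.f) * AdjoinRoot.mk P.f p₁ =
      (AdjoinRoot.mk P.f P.g) ^ n := by
    rw [← map_mul, ← map_pow, ← hcond, map_add, map_mul (AdjoinRoot.mk P.f) P.f,
      AdjoinRoot.mk_self, zero_mul, add_zero]
  have hd : IsUnit (algebraMap (AdjoinRoot P.f) (Localization.Away (AdjoinRoot.mk P.f P.g))
      (AdjoinRoot.mk P.f (derivative P.f))) := by
    have h2 : IsUnit (algebraMap (AdjoinRoot P.f) (Localization.Away (AdjoinRoot.mk P.f P.g))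
        ((AdjoinRoot.mk P.f P.g) ^ n)) := by
      rw [map_pow]
      exact (IsLocalization.Away.algebraMap_isUnit _).pow n
    rw [← h1, map_mul] at h2
    exact isUnit_of_mul_isUnit_left h2
  obtain ⟨θ₁, hring⟩ : ∃ θ₁ : Localization.Away (AdjoinRoot.mk P.f (derivative P.f)) →ₐ[R]
      Localization.Away (AdjoinRoot.mk P.f P.g), (θ₁.toRingHom).comp (algebraMap (AdjoinRoot P.f)
      (Localization.Away (AdjoinRoot.mk P.f (derivative P.f)))) =
      algebraMap (AdjoinRoot P.f) (Localization.Away (AdjoinRoot.mk P.f P.g)) :=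
    by
    refine ⟨{ toRingHom := IsLocalization.Away.lift (AdjoinRoot.mk P.f (derivative P.f))
                (g := algebraMap (AdjoinRoot P.f) (Localization.Away (AdjoinRoot.mk P.f P.g))) hd
              commutes' := fun r => ?_ }, ?_⟩
    · rw [IsScalarTower.algebraMap_apply R (AdjoinRoot P.f)
        (Localization.Away (AdjoinRoot.mk P.f (derivative P.f)))]
      exact (IsLocalization.Away.lift_eq _ hd _).trans
        (IsScalarTower.algebraMap_apply R (AdjoinRoot P.f)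
          (Localization.Away (AdjoinRoot.mk P.f P.g)) r).symm
    · exact IsLocalization.Away.lift_comp _ hd
  refine ⟨θ₁, ?_⟩
  haveI : IsOpenImmersion (Spec.map (CommRingCat.ofHom (algebraMap (AdjoinRoot P.f)
      (Localization.Away (AdjoinRoot.mk P.f (derivative P.f)))))) :=
    IsOpenImmersion.of_isLocalization (AdjoinRoot.mk P.f (derivative P.f))
  haveI h3 : IsOpenImmersion (Spec.map (CommRingCat.ofHom (algebraMap (AdjoinRoot P.f)
      (Localization.Away (AdjoinRoot.mk P.f P.g))))) :=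
    IsOpenImmersion.of_isLocalization (AdjoinRoot.mk P.f P.g)
  have hcomp : Spec.map (CommRingCat.ofHom θ₁.toRingHom) ≫
      Spec.map (CommRingCat.ofHom (algebraMap (AdjoinRoot P.f)
        (Localization.Away (AdjoinRoot.mk P.f (derivative P.f))))) =
      Spec.map (CommRingCat.ofHom (algebraMap (AdjoinRoot P.f)
        (Localization.Away (AdjoinRoot.mk P.f P.g)))) := by
    rw [← Spec.map_comp, ← CommRingCat.ofHom_comp, hring]
  haveI : IsOpenImmersion (Spec.map (CommRingCat.ofHom θ₁.toRingHom) ≫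
      Spec.map (CommRingCat.ofHom (algebraMap (AdjoinRoot P.f)
        (Localization.Away (AdjoinRoot.mk P.f (derivative P.f)))))) := by
    rw [hcomp]; exact h3
  exact IsOpenImmersion.of_comp _ (Spec.map (CommRingCat.ofHom (algebraMap (AdjoinRoot P.f)
      (Localization.Away (AdjoinRoot.mk P.f (derivative P.f))))))

theorem comp_equiv_open {A B C : Type u} [CommRing A] [CommRing B] [CommRing C]
    (θ₁ : A →+* B) (E : B ≃+* C) (h : IsOpenImmersion (Spec.map (CommRingCat.ofHom θ₁))) :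
    IsOpenImmersion (Spec.map (CommRingCat.ofHom (E.toRingHom.comp θ₁))) := by
  rw [CommRingCat.ofHom_comp, Spec.map_comp]
  haveI : IsIso (CommRingCat.ofHom E.toRingHom) :=
    inferInstanceAs (IsIso E.toCommRingCatIso.hom)
  infer_instance

theorem ring_main {R B : Type u} [CommRing R] [CommRing B] [Algebra R B] [Algebra.Etale R B]
    (Q : Ideal B) [Q.IsPrime] :
    ∃ (f : B) (_ : f ∉ Q) (p : Polynomial R) (_ : p.Monic)
      (θ : Localization.Away (AdjoinRoot.mk p (Polynomial.derivative p)) →ₐ[R]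
        Localization.Away f),
      IsOpenImmersion (Spec.map (CommRingCat.ofHom θ.toRingHom)) := by
  haveI : Algebra.FormallyEtale B (Localization.AtPrime Q) :=
    Algebra.FormallyEtale.of_isLocalization Q.primeCompl
  haveI : Algebra.IsEtaleAt R Q := Algebra.FormallyEtale.comp R B (Localization.AtPrime Q)
  obtain ⟨f, hfQ, hstd⟩ := Algebra.IsEtaleAt.exists_isStandardEtale (R := R) Q
  obtain ⟨pres⟩ := hstd.nonempty_standardEtalePresentation
  obtain ⟨E, -⟩ : ∃ E : Localization.Away f ≃ₐ[R]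
      Localization.Away (AdjoinRoot.mk pres.P.f pres.P.g), True :=
    ⟨pres.equivRing.trans pres.P.equivAwayAdjoinRoot, trivial⟩
  obtain ⟨θ₁, hθ₁⟩ := std_open R pres.P
  refine ⟨f, hfQ, pres.P.f, pres.P.monic_f, E.symm.toAlgHom.comp θ₁, ?_⟩
  exact comp_equiv_open θ₁.toRingHom E.symm.toRingEquiv hθ₁

theorem main {X Y : Scheme.{u}} (φ : X ⟶ Y) (x : X)
    (V : Y.Opens) (hV : IsAffineOpen V) (hxV : φ.base x ∈ V)
    (hφ : ∃ W : X.Opens, x ∈ W ∧ Etale (W.ι ≫ φ)) :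
    ∃ (U : X.Opens) (hU : IsAffineOpen U) (_ : x ∈ U) (e : U ≤ φ ⁻¹ᵁ V)
      (p : Polynomial Γ(Y, V)) (_ : p.Monic)
      (j : U.toScheme ⟶ Spec (CommRingCat.of (Localization.Away (AdjoinRoot.mk p (Polynomial.derivative p))))),
      IsOpenImmersion j ∧
        j ≫ Spec.map (CommRingCat.ofHom
            (algebraMap Γ(Y, V) (Localization.Away (AdjoinRoot.mk p (Polynomial.derivative p))))) =
          hU.isoSpec.hom ≫ Spec.map (φ.appLE V U e) := by
  obtain ⟨W, hxW, hW⟩ := hφ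
  obtain ⟨U₀, hU₀, hxU₀, hU₀le⟩ : ∃ U₀ : X.Opens, IsAffineOpen U₀ ∧ x ∈ U₀ ∧
      U₀ ≤ W ⊓ φ ⁻¹ᵁ V := by
    obtain ⟨_, ⟨U₀, hU₀, rfl⟩, hxU₀, hU₀le⟩ :=
      X.isBasis_affineOpens.exists_subset_of_mem_open
        (show x ∈ ((W ⊓ φ ⁻¹ᵁ V : X.Opens) : Set X) from ⟨hxW, hxV⟩) (W ⊓ φ ⁻¹ᵁ V).isOpen
    exact ⟨U₀, hU₀, hxU₀, hU₀le⟩
  have hU₀W : U₀ ≤ W := fun y hy => (hU₀le hy).1
  have e₀ : U₀ ≤ φ ⁻¹ᵁ V := fun y hy => (hU₀le hy).2
  have h1 : Etale (U₀.ι ≫ φ) := by
    have : U₀.ι = X.homOfLE hU₀W ≫ W.ι := (X.homOfLE_ι hU₀W).symm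
    rw [this, Category.assoc]
    infer_instance
  have h2 : Etale (φ.resLE V U₀ e₀) := by
    haveI : Etale (φ.resLE V U₀ e₀ ≫ V.ι) := by
      rw [Scheme.Hom.resLE_comp_ι]; exact h1
    exact Etale.of_comp (φ.resLE V U₀ e₀) V.ι
  rw [Groth.Agent.Lib.WeaklyEtaleAff.resLE_eq φ hU₀ hV e₀,
    MorphismProperty.cancel_left_of_respectsIso @Etale,
    MorphismProperty.cancel_right_of_respectsIso @Etale,
    HasRingHomProperty.Spec_iff (P := @Etale)] at h2
  letI : Algebra Γ(Y, V) Γ(X, U₀) := (φ.appLE V U₀ e₀).hom.toAlgebra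
  haveI : Algebra.Etale Γ(Y, V) Γ(X, U₀) := h2
  haveI := (hU₀.primeIdealOf ⟨x, hxU₀⟩).isPrime
  obtain ⟨f, hfQ, p, hp, θ, hθ⟩ := ring_main (R := Γ(Y, V)) (B := Γ(X, U₀))
    (hU₀.primeIdealOf ⟨x, hxU₀⟩).asIdeal
  have hxf : x ∈ X.basicOpen f := by
    have h3 : hU₀.fromSpec (hU₀.primeIdealOf ⟨x, hxU₀⟩) ∈ X.basicOpen f := by
      show hU₀.primeIdealOf ⟨x, hxU₀⟩ ∈ hU₀.fromSpec ⁻¹ᵁ X.basicOpen f
      rw [hU₀.fromSpec_preimage_basicOpen f]
      exact hfQ
    have h4 : hU₀.fromSpec (hU₀.primeIdealOf ⟨x, hxU₀⟩) = x :=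
      hU₀.fromSpec_primeIdealOf ⟨x, hxU₀⟩
    rwa [h4] at h3
  have hU : IsAffineOpen (X.basicOpen f) := hU₀.basicOpen f
  have e : X.basicOpen f ≤ φ ⁻¹ᵁ V := (X.basicOpen_le f).trans e₀
  haveI : IsLocalization.Away f Γ(X, X.basicOpen f) := hU₀.isLocalization_basicOpen f
  let ε : Localization.Away f ≃ₐ[Γ(X, U₀)] Γ(X, X.basicOpen f) :=
    IsLocalization.algEquiv (Submonoid.powers f) (Localization.Away f) Γ(X, X.basicOpen f)
  haveI : IsIso (CommRingCat.ofHom ε.toRingEquiv.toRingHom) :=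
    inferInstanceAs (IsIso ε.toRingEquiv.toCommRingCatIso.hom)
  refine ⟨X.basicOpen f, hU, hxf, e, p, hp,
    hU.isoSpec.hom ≫ Spec.map (CommRingCat.ofHom ε.toRingEquiv.toRingHom) ≫
      Spec.map (CommRingCat.ofHom θ.toRingHom), inferInstance, ?_⟩
  rw [Category.assoc, Category.assoc, ← Spec.map_comp, ← Spec.map_comp]
  congr 2
  ext r
  show ε (θ (algebraMap Γ(Y, V) _ r)) = (φ.appLE V (X.basicOpen f) e).hom r
  rw [θ.commutes, IsScalarTower.algebraMap_apply Γ(Y, V) Γ(X, U₀) (Localization.Away f),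
    ε.commutes]
  rw [← Scheme.Hom.appLE_map φ e₀ (homOfLE (X.basicOpen_le f)).op]
  rfl

end Groth.Agent.Lib.EtLocalOpenImm
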