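import Mathlib
import Groth.Prelude.Def_PBC
import Groth.Agent.Lib.EtIntBC6_helper7

/-!
# Sections of a pullback of an étale sheaf: vanishing loci (helper7)

For `f : X ⟶ S`, an abelian étale sheaf `F` on `S` and `G = f⁻¹ F`, we study the vanishing loci of
sections of `G` over the base changes `U ×_S X`: they are locally constant along the fibres of
`U ×_S X ⟶ U`.
-/

set_option autoImplicit false
set_option backward.isDefEq.respectTransparency false
set_option linter.style.haveILetI false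
set_option linter.unusedSectionVars false
universe u
open CategoryTheory CategoryTheory.Limits AlgebraicGeometry Opposite

namespace Groth.Agent.Lib.EtSubmH7

open Groth.Agent.Lib.EtFinGeomH7 Groth.Agent.Lib.EtSchSite_helper7
  Groth.Agent.Lib.EtSchExact_helper7 Groth.Agent.Lib.EtFinStalkH7
  Groth.Agent.Lib.EtSchStalk_helper7 Groth.Agent.Lib.EtFinBCH7
  Groth.Agent.Lib.EtIntH7

section Vz

variable {X : Scheme.{u}}

/-- The largest open subset on which a section vanishes. -/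
noncomputable def vz (G : EtCoh.Ab X) (V : X.Etale) (τ : EtCoh.sect G V) : V.left.Opens :=
  (exists_opens_vanishing G V τ).choose

theorem vz_spec (G : EtCoh.Ab X) (V : X.Etale) (τ : EtCoh.sect G V) {V' : X.Etale}
    (φ : V' ⟶ V) :
    G.obj.map φ.op τ = 0 ↔ Set.range φ.left.base ⊆ (vz G V τ : Set V.left) :=
  (exists_opens_vanishing G V τ).choose_spec V' φ

theorem mem_vz_iff (G : EtCoh.Ab X) (V : X.Etale) (τ : EtCoh.sect G V) (p : V.left) :
    p ∈ vz G V τ ↔ ∃ (V' : X.Etale) (φ : V' ⟶ V) (v : V'.left),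
      φ.left v = p ∧ G.obj.map φ.op τ = 0 := by
  constructor
  · intro hp
    have hrange : p ∈ Set.range (vz G V τ).ι := by
      rw [Scheme.Opens.range_ι]
      exact hp
    obtain ⟨v, hv⟩ := hrange
    refine ⟨subE V (vz G V τ), subι V (vz G V τ), v, hv, ?_⟩
    refine (vz_spec G V τ (subι V (vz G V τ))).2 ?_
    rintro _ ⟨q, rfl⟩
    exact q.2
  · rintro ⟨V', φ, v, hv, h0⟩
    have h1 := (vz_spec G V τ φ).1 h0
    rw [← hv]
    exact h1 ⟨v, rfl⟩

theorem eq_zero_of_forall_mem_vz (G : EtCoh.Ab X) (V : X.Etale) (τ : EtCoh.sect G V)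
    (h : ∀ p : V.left, p ∈ vz G V τ) : τ = 0 := by
  have h1 : G.obj.map (𝟙 V).op τ = 0 := (vz_spec G V τ (𝟙 V)).2 (fun p _ => h p)
  have h2 : G.obj.map (𝟙 V).op τ = τ := by
    rw [op_id, CategoryTheory.Functor.map_id]
    rfl
  exact h2.symm.trans h1

theorem mem_vz_map (G : EtCoh.Ab X) {V V₁ : X.Etale} (ψ : V₁ ⟶ V) (τ : EtCoh.sect G V)
    (q : V₁.left) :
    q ∈ vz G V₁ (G.obj.map ψ.op τ) ↔ ψ.left q ∈ vz G V τ := by
  constructor
  · intro hq
    obtain ⟨V', φ, v, hv, h0⟩ := (mem_vz_iff G V₁ _ q).1 hq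
    refine (mem_vz_iff G V τ _).2 ⟨V', φ ≫ ψ, v, ?_, ?_⟩
    · have h1 : (φ ≫ ψ).left v = ψ.left (φ.left v) := Scheme.Hom.comp_apply _ _ _
      rw [h1, hv]
    · rw [map_comp_apply]
      exact h0
  · intro hq
    obtain ⟨V', φ, v, hv, h0⟩ := (mem_vz_iff G V τ _).1 hq
    obtain ⟨P, a, b, z, hab, hz1, hz2⟩ := exists_prod ψ φ q v hv.symm
    refine (mem_vz_iff G V₁ _ q).2 ⟨P, a, z, hz1, ?_⟩
    rw [← map_comp_apply, hab, map_comp_apply, h0]
    exact map_zero _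

end Vz

section Unit

variable {X S : Scheme.{u}} (f : X ⟶ S) (F : EtCoh.Ab S)

/-- The unit `F(U) ⟶ (f⁻¹ F)(U ×_S X)`. -/
noncomputable abbrev υ (U : S.Etale) (a : EtCoh.sect F U) :
    EtCoh.sect ((EtCoh.pull f).obj F) ((EtCoh.bc f).obj U) :=
  ((EtCoh.pullPushAdj f).unit.app F).hom.app (op U) a

theorem unit_nat {U U' : S.Etale} (φ : U' ⟶ U) (a : EtCoh.sect F U) :
    υ f F U' (F.obj.map φ.op a) =
      ((EtCoh.pull f).obj F).obj.map ((EtCoh.bc f).map φ).op (υ f F U a) :=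
  NatTrans.naturality_apply ((EtCoh.pullPushAdj f).unit.app F).hom φ.op a

theorem exists_bc_map_preimage {U V : S.Etale} (g : V ⟶ U) (p : ((EtCoh.bc f).obj U).left)
    (v : V.left) (hv : g.left v = pr₁ f U p) :
    ∃ z : ((EtCoh.bc f).obj V).left, ((EtCoh.bc f).map g).left z = p ∧ pr₁ f V z = v := by
  have sq := EtCoh.isPullback_bc_map f g
  obtain ⟨z, hz1, hz2⟩ := Scheme.Pullback.exists_preimage_pullback
    (f := pr₁ f U) (g := g.left) p v hv.symm
  refine ⟨sq.isoPullback.inv z, ?_, ?_⟩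
  · rw [← hz1, ← Scheme.Hom.comp_apply, IsPullback.isoPullback_inv_fst]
  · rw [← hz2, ← Scheme.Hom.comp_apply, IsPullback.isoPullback_inv_snd]

variable {K : Type u} [Field K] [IsAlgClosed K]

theorem unit_germ (ξ : Spec (CommRingCat.of K) ⟶ X) (U : S.Etale)
    (u₀ : (Scheme.pointSmallEtale (ξ ≫ f)).fiber.obj U) (a : ToType (F.obj.obj (op U))) :
    (EtStalkPull.stalkPullIso f ξ).inv.app F
      ((Scheme.pointSmallEtale (ξ ≫ f)).toPresheafFiber U u₀ F.obj a) =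
    (Scheme.pointSmallEtale ξ).toPresheafFiber ((EtCoh.bc f).obj U) (liftPt f ξ rfl U u₀)
      ((EtCoh.pull f).obj F).obj (υ f F U a) := by
  have hJ := stalkPullIso_inv_germ f ξ F ((EtCoh.pull f).obj F) (𝟙 _) U u₀ a
  rw [CategoryTheory.Functor.map_id, Adjunction.homEquiv_id] at hJ
  exact hJ

end Unit

section Geom

variable {X S : Scheme.{u}} (f : X ⟶ S)

/-- A geometric point through a given point of an étale scheme over `U ×_S X`. -/
theorem exists_geom_liftPt (U : S.Etale) {V' : X.Etale} (φ : V' ⟶ (EtCoh.bc f).obj U)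
    (v' : V'.left) :
    ∃ (K : Type u) (_ : Field K) (_ : IsAlgClosed K) (ξ : Spec (CommRingCat.of K) ⟶ X)
      (l : (Scheme.pointSmallEtale ξ).fiber.obj V')
      (u₀ : (Scheme.pointSmallEtale (ξ ≫ f)).fiber.obj U),
      ptLeft l default = v' ∧
      (Scheme.pointSmallEtale ξ).fiber.map φ l = liftPt f ξ rfl U u₀ ∧
      ptLeft (liftPt f ξ rfl U u₀) default = φ.left v' := by
  obtain ⟨K, hK1, hK2, ξ, l, hl⟩ := exists_geometric_lift V' v'
  obtain ⟨w, hw⟩ : ∃ w : (Scheme.pointSmallEtale ξ).fiber.obj ((EtCoh.bc f).obj U),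
      w = (Scheme.pointSmallEtale ξ).fiber.map φ l := ⟨_, rfl⟩
  have hu : (ptLeft w ≫ pr₁ f U) ≫ U.hom = ξ ≫ f := by
    rw [Category.assoc, pr₁_hom, ← Category.assoc, ptLeft_hom]
  obtain ⟨u₀, hu₀⟩ : ∃ u₀ : (Scheme.pointSmallEtale (ξ ≫ f)).fiber.obj U,
      ptLeft u₀ = ptLeft w ≫ pr₁ f U := ⟨Over.homMk (ptLeft w ≫ pr₁ f U) hu, rfl⟩
  have hwl : w = liftPt f ξ rfl U u₀ := by
    apply ptLeft_ext
    apply bc_hom_ext f U
    · rw [liftPt_pr₁, hu₀]
    · rw [liftPt_hom, ptLeft_hom]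
  refine ⟨K, hK1, hK2, ξ, l, u₀, hl, hw.symm.trans hwl, ?_⟩
  rw [← hwl, hw]
  have h1 : ptLeft ((Scheme.pointSmallEtale ξ).fiber.map φ l) = ptLeft l ≫ φ.left := rfl
  have h2 : (ptLeft l ≫ φ.left) default = φ.left (ptLeft l default) :=
    Scheme.Hom.comp_apply _ _ _
  rw [h1, h2]
  exact congrArg (fun z => φ.left z) hl

end Geom

section Main

variable {X S : Scheme.{u}} (f : X ⟶ S) (F : EtCoh.Ab S)

/-- The vanishing locus of `υ d` is the preimage of the vanishing locus of `d`. -/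
theorem mem_vz_unit (U : S.Etale) (d : EtCoh.sect F U) (p : ((EtCoh.bc f).obj U).left) :
    p ∈ vz ((EtCoh.pull f).obj F) ((EtCoh.bc f).obj U) (υ f F U d) ↔ pr₁ f U p ∈ vz F U d := by
  constructor
  · intro hp
    obtain ⟨V', φ, v', hv', h0⟩ := (mem_vz_iff _ _ _ p).1 hp
    obtain ⟨K, hK1, hK2, ξ, l, u₀, hl, hw, hpt⟩ := exists_geom_liftPt f U φ v'
    have e1 := (Scheme.pointSmallEtale ξ).toPresheafFiber_w_apply φ l
      ((EtCoh.pull f).obj F).obj (υ f F U d)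
    rw [h0, hw] at e1
    have e2 := unit_germ f F ξ U u₀ d
    have hJ : Function.Bijective ((EtStalkPull.stalkPullIso f ξ).inv.app F) :=
      ConcreteCategory.bijective_of_isIso _
    have e3 : (Scheme.pointSmallEtale (ξ ≫ f)).toPresheafFiber U u₀ F.obj d =
        (Scheme.pointSmallEtale (ξ ≫ f)).toPresheafFiber U u₀ F.obj 0 := by
      apply hJ.1
      rw [e2, ← e1, map_zero, map_zero, map_zero]
    obtain ⟨U'', ψ, u'', hu'', heq⟩ :=
      ((Scheme.pointSmallEtale (ξ ≫ f)).toPresheafFiber_eq_iff' U u₀ d 0).1 e3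
    refine (mem_vz_iff F U d _).2 ⟨U'', ψ, ptLeft u'' default, ?_, heq.trans (map_zero _)⟩
    have h1 : ptLeft ((Scheme.pointSmallEtale (ξ ≫ f)).fiber.map ψ u'') = ptLeft u'' ≫ ψ.left :=
      rfl
    have h2 : (ptLeft u'' ≫ ψ.left) default = ψ.left (ptLeft u'' default) :=
      Scheme.Hom.comp_apply _ _ _
    have h3 : (ptLeft (liftPt f ξ rfl U u₀) ≫ pr₁ f U) default =
        pr₁ f U (ptLeft (liftPt f ξ rfl U u₀) default) := Scheme.Hom.comp_apply _ _ _
    rw [← h2, ← h1, hu'', ← liftPt_pr₁ f ξ rfl U u₀, h3, hpt, hv']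
  · intro hp
    obtain ⟨U'', ψ, u'', hu'', h0⟩ := (mem_vz_iff F U d _).1 hp
    obtain ⟨z, hz, -⟩ := exists_bc_map_preimage f ψ p u'' hu''
    refine (mem_vz_iff _ _ _ p).2 ⟨(EtCoh.bc f).obj U'', (EtCoh.bc f).map ψ, z, hz, ?_⟩
    rw [← unit_nat, h0]
    exact map_zero _

/-- Local representation of a section of `f⁻¹ F` over `U ×_S X` by a section of `F`. -/
theorem local_rep (U : S.Etale)
    (τ : EtCoh.sect ((EtCoh.pull f).obj F) ((EtCoh.bc f).obj U))
    (q : ((EtCoh.bc f).obj U).left) :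
    ∃ (U' : S.Etale) (π : U' ⟶ U) (a' : EtCoh.sect F U') (V' : X.Etale)
      (γ : V' ⟶ (EtCoh.bc f).obj U') (v' : V'.left),
      ((EtCoh.bc f).map π).left (γ.left v') = q ∧
      ((EtCoh.pull f).obj F).obj.map γ.op
        (((EtCoh.pull f).obj F).obj.map ((EtCoh.bc f).map π).op τ) =
      ((EtCoh.pull f).obj F).obj.map γ.op (υ f F U' a') := by
  obtain ⟨K, hK1, hK2, ξ, l, u₀, hl, hw, hpt⟩ :=
    exists_geom_liftPt f U (𝟙 ((EtCoh.bc f).obj U)) q
  have hq : ptLeft (liftPt f ξ rfl U u₀) default = q := hpt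
  have hJ : Function.Bijective ((EtStalkPull.stalkPullIso f ξ).inv.app F) :=
    ConcreteCategory.bijective_of_isIso _
  obtain ⟨e, he⟩ := hJ.2 ((Scheme.pointSmallEtale ξ).toPresheafFiber ((EtCoh.bc f).obj U)
    (liftPt f ξ rfl U u₀) ((EtCoh.pull f).obj F).obj τ)
  obtain ⟨U₁, u₁, a₁, rfl⟩ :=
    (Scheme.pointSmallEtale (ξ ≫ f)).toPresheafFiber_jointly_surjective e
  obtain ⟨U', u', π, π₁, hπ, hπ₁⟩ := exists_common U U₁ u₀ u₁
  have g1 := (Scheme.pointSmallEtale (ξ ≫ f)).toPresheafFiber_w_apply π₁ u' F.obj a₁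
  rw [hπ₁] at g1
  have g2₀ := unit_germ f F ξ U' u' (F.obj.map π₁.op a₁)
  have he' : (EtStalkPull.stalkPullIso f ξ).inv.app F
      ((Scheme.pointSmallEtale (ξ ≫ f)).toPresheafFiber U₁ u₁ F.obj a₁) =
      (Scheme.pointSmallEtale ξ).toPresheafFiber ((EtCoh.bc f).obj U)
        (liftPt f ξ rfl U u₀) ((EtCoh.pull f).obj F).obj τ := he
  have g2 : (Scheme.pointSmallEtale ξ).toPresheafFiber ((EtCoh.bc f).obj U)
      (liftPt f ξ rfl U u₀) ((EtCoh.pull f).obj F).obj τ =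
      (Scheme.pointSmallEtale ξ).toPresheafFiber ((EtCoh.bc f).obj U') (liftPt f ξ rfl U' u')
        ((EtCoh.pull f).obj F).obj (υ f F U' (F.obj.map π₁.op a₁)) :=
    he'.symm.trans ((congrArg (fun z => (EtStalkPull.stalkPullIso f ξ).inv.app F z)
      g1.symm).trans g2₀)
  have g3 := (Scheme.pointSmallEtale ξ).toPresheafFiber_w_apply ((EtCoh.bc f).map π)
    (liftPt f ξ rfl U' u') ((EtCoh.pull f).obj F).obj τ
  rw [liftPt_map, hπ] at g3
  obtain ⟨V', γ, v'', hv'', heq⟩ :=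
    ((Scheme.pointSmallEtale ξ).toPresheafFiber_eq_iff' ((EtCoh.bc f).obj U')
      (liftPt f ξ rfl U' u')
      (((EtCoh.pull f).obj F).obj.map ((EtCoh.bc f).map π).op τ)
      (υ f F U' (F.obj.map π₁.op a₁))).1 (g3.trans g2)
  refine ⟨U', π, F.obj.map π₁.op a₁, V', γ, ptLeft v'' default, ?_, heq⟩
  have h1 : ptLeft ((Scheme.pointSmallEtale ξ).fiber.map γ v'') = ptLeft v'' ≫ γ.left := rfl
  have h2 : (ptLeft v'' ≫ γ.left) default = γ.left (ptLeft v'' default) :=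
    Scheme.Hom.comp_apply _ _ _
  rw [← h2, ← h1, hv'', liftPt_map_apply, hπ]
  exact hq

end Main

end Groth.Agent.Lib.EtSubmH7
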