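import Mathlib
import Groth.Prelude.Def_PBC
import Groth.Agent.Lib.EtSubm1_helper7

/-!
# Sections of a pullback along a universally submersive morphism with connected geometric fibres
(helper7)
-/

set_option autoImplicit false
set_option backward.isDefEq.respectTransparency false
set_option linter.style.haveILetI false
set_option linter.unusedSectionVars false
universe u
open CategoryTheory CategoryTheory.Limits AlgebraicGeometry Opposite

namespace Groth.Agent.Lib.EtSubmH7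

open Groth.Agent.Lib.EtFinGeomH7 Groth.Agent.Lib.EtSchSite_helper7
  Groth.Agent.Lib.EtSchExact_helper7 Groth.Agent.Lib.EtFinStalkH7
  Groth.Agent.Lib.EtSchStalk_helper7 Groth.Agent.Lib.EtFinBCH7
  Groth.Agent.Lib.EtIntH7 Groth.Agent.Lib.Kummer_helper7

/-- An étale morphism is locally quasi-finite. -/
theorem lqf_of_etale {A B : Scheme.{u}} (g : A ⟶ B) [Etale g] : LocallyQuasiFinite g := by
  constructor
  intro U hU V hV e
  have h1 := LocallyOfFiniteType.finiteType_appLE (f := g) hU hV e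
  have h2 := FormallyUnramified.formallyUnramified_appLE (f := g) hU hV e
  algebraize [(g.appLE U V e).hom]
  have : Algebra.EssFiniteType Γ(B, U) Γ(A, V) := inferInstance
  show Algebra.QuasiFinite _ _
  infer_instance

variable {X S : Scheme.{u}} (f : X ⟶ S) (F : EtCoh.Ab S)

section Fibre

/-- The vanishing locus of a section of `f⁻¹ F` over `U ×_S X` is locally constant along the
fibres of `U ×_S X ⟶ U`. -/
theorem exists_nbhd_fibre_const (U : S.Etale)
    (τ : EtCoh.sect ((EtCoh.pull f).obj F) ((EtCoh.bc f).obj U))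
    (q : ((EtCoh.bc f).obj U).left) :
    ∃ N : Set ((EtCoh.bc f).obj U).left, IsOpen N ∧ q ∈ N ∧
      ∀ p₁ ∈ N, pr₁ f U p₁ = pr₁ f U q →
        (p₁ ∈ vz ((EtCoh.pull f).obj F) ((EtCoh.bc f).obj U) τ ↔
          q ∈ vz ((EtCoh.pull f).obj F) ((EtCoh.bc f).obj U) τ) := by
  obtain ⟨U', π, a', V', γ, v', hv', heq⟩ := local_rep f F U τ q
  have key : ∀ v : V'.left,
      (((EtCoh.bc f).map π).left (γ.left v) ∈
        vz ((EtCoh.pull f).obj F) ((EtCoh.bc f).obj U) τ ↔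
        pr₁ f U' (γ.left v) ∈ vz F U' a') := by
    intro v
    rw [← mem_vz_map, ← mem_vz_map, heq, mem_vz_map, mem_vz_unit]
  haveI : LocallyQuasiFinite π.left := lqf_of_etale π.left
  have hdisc := π.left.isDiscrete_preimage_singleton (pr₁ f U q)
  haveI : DiscreteTopology ↥(π.left ⁻¹' {pr₁ f U q}) := hdisc.to_subtype
  have hpr : ∀ v : V'.left, π.left (pr₁ f U' (γ.left v)) =
      pr₁ f U (((EtCoh.bc f).map π).left (γ.left v)) := by
    intro v
    have h1 := congrArg (fun (k : ((EtCoh.bc f).obj U').left ⟶ U.left) => k (γ.left v))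
      (map_pr₁ f π)
    exact ((Scheme.Hom.comp_apply _ _ _).symm.trans h1.symm).trans (Scheme.Hom.comp_apply _ _ _)
  have hu₂ : pr₁ f U' (γ.left v') ∈ π.left ⁻¹' {pr₁ f U q} := by
    show π.left (pr₁ f U' (γ.left v')) = pr₁ f U q
    rw [hpr, hv']
  have hop : IsOpen ({⟨pr₁ f U' (γ.left v'), hu₂⟩} : Set ↥(π.left ⁻¹' {pr₁ f U q})) :=
    isOpen_discrete _
  obtain ⟨M, hM, hMeq⟩ := isOpen_induced_iff.1 hop
  have hMmem : pr₁ f U' (γ.left v') ∈ M := by
    have : (⟨pr₁ f U' (γ.left v'), hu₂⟩ : ↥(π.left ⁻¹' {pr₁ f U q})) ∈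
        Subtype.val ⁻¹' M := by rw [hMeq]; rfl
    exact this
  have hMuniq : ∀ y : U'.left, y ∈ M → π.left y = pr₁ f U q → y = pr₁ f U' (γ.left v') := by
    intro y hy hy'
    have : (⟨y, hy'⟩ : ↥(π.left ⁻¹' {pr₁ f U q})) ∈ Subtype.val ⁻¹' M := hy
    rw [hMeq] at this
    exact congrArg Subtype.val (Set.mem_singleton_iff.1 this)
  refine ⟨(fun v => ((EtCoh.bc f).map π).left (γ.left v)) ''
    ((fun v => pr₁ f U' (γ.left v)) ⁻¹' M), ?_, ⟨v', hMmem, hv'⟩, ?_⟩
  · have h1 : IsOpen ((fun v => pr₁ f U' (γ.left v)) ⁻¹' M) :=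
      hM.preimage ((pr₁ f U').continuous.comp γ.left.continuous)
    have h2 : IsOpenMap (fun v => ((EtCoh.bc f).map π).left (γ.left v)) :=
      ((EtCoh.bc f).map π).left.isOpenMap.comp γ.left.isOpenMap
    exact h2 _ h1
  · rintro _ ⟨v, hvM, rfl⟩ hp₁
    have h3 : pr₁ f U' (γ.left v) = pr₁ f U' (γ.left v') :=
      hMuniq _ hvM ((hpr v).trans hp₁)
    rw [key v, h3, ← key v', hv']

/-- If the fibres of `U ×_S X ⟶ U` are connected, then the vanishing locus of a section of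
`f⁻¹ F` over `U ×_S X` is a union of fibres. -/
theorem vz_fibre_saturated (U : S.Etale)
    (τ : EtCoh.sect ((EtCoh.pull f).obj F) ((EtCoh.bc f).obj U))
    (hconn : ∀ u : U.left, _root_.IsPreconnected (pr₁ f U ⁻¹' {u}))
    (p p' : ((EtCoh.bc f).obj U).left)
    (hp : p ∈ vz ((EtCoh.pull f).obj F) ((EtCoh.bc f).obj U) τ)
    (hpp' : pr₁ f U p' = pr₁ f U p) :
    p' ∈ vz ((EtCoh.pull f).obj F) ((EtCoh.bc f).obj U) τ := by
  by_contra hp'
  choose N hNopen hNmem hN using exists_nbhd_fibre_const f F U τ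
  obtain ⟨B, hB⟩ : ∃ B : Set ((EtCoh.bc f).obj U).left,
      B = ⋃ q ∈ {q : ((EtCoh.bc f).obj U).left | pr₁ f U q = pr₁ f U p ∧
        q ∉ vz ((EtCoh.pull f).obj F) ((EtCoh.bc f).obj U) τ}, N q := ⟨_, rfl⟩
  have hBopen : IsOpen B := by
    rw [hB]
    exact isOpen_biUnion (fun q _ => hNopen q)
  have hsub : pr₁ f U ⁻¹' {pr₁ f U p} ⊆
      (vz ((EtCoh.pull f).obj F) ((EtCoh.bc f).obj U) τ : Set ((EtCoh.bc f).obj U).left) ∪ B := by
    intro z hz
    by_cases hzv : z ∈ vz ((EtCoh.pull f).obj F) ((EtCoh.bc f).obj U) τ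
    · exact Or.inl hzv
    · refine Or.inr ?_
      rw [hB]
      exact Set.mem_biUnion (show z ∈ {q : ((EtCoh.bc f).obj U).left |
        pr₁ f U q = pr₁ f U p ∧ q ∉ vz ((EtCoh.pull f).obj F) ((EtCoh.bc f).obj U) τ} from
        ⟨hz, hzv⟩) (hNmem z)
  have hp'B : p' ∈ B := by
    rw [hB]
    exact Set.mem_biUnion (show p' ∈ {q : ((EtCoh.bc f).obj U).left |
      pr₁ f U q = pr₁ f U p ∧ q ∉ vz ((EtCoh.pull f).obj F) ((EtCoh.bc f).obj U) τ} from
      ⟨hpp', hp'⟩) (hNmem p')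
  obtain ⟨z, hzZ, hzv, hzB⟩ := hconn (pr₁ f U p) _ B
    (vz ((EtCoh.pull f).obj F) ((EtCoh.bc f).obj U) τ).isOpen hBopen hsub
    ⟨p, rfl, hp⟩ ⟨p', hpp', hp'B⟩
  rw [hB] at hzB
  obtain ⟨q, ⟨hq1, hq2⟩, hzq⟩ := Set.mem_iUnion₂.1 hzB
  exact hq2 ((hN q z hzq ((show pr₁ f U z = pr₁ f U p from hzZ).trans hq1.symm)).1 hzv)

/-- The fibres of `U ×_S X ⟶ U` are connected when the geometric fibres of `f` are. -/
theorem isPreconnected_fibre
    (hc : ∀ (Ω : Type u) [Field Ω] [IsAlgClosed Ω] (s : Spec (CommRingCat.of Ω) ⟶ S),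
      ConnectedSpace ↥(pullback f s))
    (U : S.Etale) (u : U.left) : _root_.IsPreconnected (pr₁ f U ⁻¹' {u}) := by
  obtain ⟨K, hK1, hK2, g₀, hg₀⟩ := exists_geometric_point u
  haveI := hc K (g₀ ≫ U.hom)
  have top : IsPullback (pullback.snd (pr₁ f U) g₀) (pullback.fst (pr₁ f U) g₀) g₀ (pr₁ f U) :=
    (IsPullback.of_hasPullback (pr₁ f U) g₀).flip
  have bot : IsPullback (pr₁ f U) ((EtCoh.bc f).obj U).hom U.hom f :=
    IsPullback.of_hasPullback U.hom f
  have big := (top.paste_vert bot).flip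
  obtain ⟨e, he1, he2⟩ : ∃ e : pullback (pr₁ f U) g₀ ≅ pullback f (g₀ ≫ U.hom),
      e.hom ≫ pullback.fst f (g₀ ≫ U.hom) =
        pullback.fst (pr₁ f U) g₀ ≫ ((EtCoh.bc f).obj U).hom ∧
      e.hom ≫ pullback.snd f (g₀ ≫ U.hom) = pullback.snd (pr₁ f U) g₀ :=
    ⟨big.isoPullback, big.isoPullback_hom_fst, big.isoPullback_hom_snd⟩
  obtain ⟨c, hc0⟩ : ∃ c : pullback f (g₀ ≫ U.hom) ⟶ ((EtCoh.bc f).obj U).left,
      c = e.inv ≫ pullback.fst (pr₁ f U) g₀ := ⟨_, rfl⟩
  have hc1 : e.hom ≫ c = pullback.fst (pr₁ f U) g₀ := by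
    rw [hc0, Iso.hom_inv_id_assoc]
  have hc2 : c ≫ pr₁ f U = (e.inv ≫ pullback.snd (pr₁ f U) g₀) ≫ g₀ := by
    rw [hc0, Category.assoc, Category.assoc, pullback.condition]
  have hrange : pr₁ f U ⁻¹' {u} = Set.range c := by
    ext p
    constructor
    · intro hp
      have hp' : pr₁ f U p = g₀ default := (show pr₁ f U p = u from hp).trans hg₀.symm
      obtain ⟨z, hz1, -⟩ := Scheme.Pullback.exists_preimage_pullback
        (f := pr₁ f U) (g := g₀) p default hp'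
      refine ⟨e.hom z, ?_⟩
      have h1 : c (e.hom z) = (e.hom ≫ c) z := (Scheme.Hom.comp_apply _ _ _).symm
      rw [h1, hc1]
      exact hz1
    · rintro ⟨t, rfl⟩
      show pr₁ f U (c t) = u
      have h1 : pr₁ f U (c t) = (c ≫ pr₁ f U) t := (Scheme.Hom.comp_apply _ _ _).symm
      have h2 : ((e.inv ≫ pullback.snd (pr₁ f U) g₀) ≫ g₀) t =
          g₀ ((e.inv ≫ pullback.snd (pr₁ f U) g₀) t) := Scheme.Hom.comp_apply _ _ _
      rw [h1, hc2, h2, Subsingleton.elim ((e.inv ≫ pullback.snd (pr₁ f U) g₀) t) default]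
      exact hg₀
  rw [hrange]
  exact isPreconnected_range c.continuous

end Fibre

section Quot

variable (hsub : ∀ (S' : Scheme.{u}) (g : S' ⟶ S), Topology.IsQuotientMap (pullback.snd f g).base)

include hsub in
theorem pr₁_symm_apply (U : S.Etale) (z : ↥(pullback f U.hom)) :
    pr₁ f U ((pullbackSymmetry f U.hom).hom z) = pullback.snd f U.hom z := by
  have h1 : pr₁ f U ((pullbackSymmetry f U.hom).hom z) =
      ((pullbackSymmetry f U.hom).hom ≫ pr₁ f U) z := (Scheme.Hom.comp_apply _ _ _).symm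
  rw [h1]
  exact congrArg (fun (k : pullback f U.hom ⟶ U.left) => k z)
    (pullbackSymmetry_hom_comp_fst f U.hom)

include hsub in
theorem pr₁_surjective (U : S.Etale) : Function.Surjective (pr₁ f U) := by
  intro u
  obtain ⟨z, hz⟩ := (hsub U.left U.hom).surjective u
  exact ⟨(pullbackSymmetry f U.hom).hom z, (pr₁_symm_apply f hsub U z).trans hz⟩

include hsub in
theorem isOpen_of_isOpen_preimage_pr₁ (U : S.Etale) (s : Set U.left)
    (hs : IsOpen (pr₁ f U ⁻¹' s)) : IsOpen s := by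
  refine (hsub U.left U.hom).isOpen_preimage.1 ?_
  have h4 : IsOpen ((pullbackSymmetry f U.hom).hom ⁻¹' (pr₁ f U ⁻¹' s)) :=
    hs.preimage (pullbackSymmetry f U.hom).hom.continuous
  convert h4 using 1
  ext z
  show pullback.snd f U.hom z ∈ s ↔ pr₁ f U ((pullbackSymmetry f U.hom).hom z) ∈ s
  rw [pr₁_symm_apply f hsub U z]

end Quot

end Groth.Agent.Lib.EtSubmH7
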