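import Mathlib
import Groth.Prelude.Def_PBC
import Groth.Agent.Lib.EtSubm2_helper7

/-!
# Sections of a pullback along a universally submersive morphism with connected geometric fibres,
part 3: the main theorem (helper7)
-/

set_option autoImplicit false
set_option backward.isDefEq.respectTransparency false
set_option linter.style.haveILetI false
set_option linter.unusedSectionVars false
universe u
open CategoryTheory CategoryTheory.Limits AlgebraicGeometry Opposite

namespace Groth.Agent.Lib.EtSubmH7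

open Groth.Agent.Lib.EtFinGeomH7 Groth.Agent.Lib.EtSchSite_helper7
  Groth.Agent.Lib.EtSchExact_helper7 Groth.Agent.Lib.EtFinStalkH7
  Groth.Agent.Lib.EtSchStalk_helper7 Groth.Agent.Lib.EtFinBCH7
  Groth.Agent.Lib.EtIntH7 Groth.Agent.Lib.Kummer_helper7

variable {X S : Scheme.{u}} (f : X ⟶ S) (F : EtCoh.Ab S)

/-- The canonical morphism to the final object of the small étale site. -/
noncomputable abbrev toTop (U : S.Etale) : U ⟶ EtCoh.top S := (EtCore.topIsTerminal S).from U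

theorem toTop_comp {U U' : S.Etale} (φ : U' ⟶ U) : φ ≫ toTop U = toTop U' :=
  (EtCore.topIsTerminal S).hom_ext _ _

theorem pr₁_map_apply {U U' : S.Etale} (φ : U' ⟶ U) (z : ((EtCoh.bc f).obj U').left) :
    pr₁ f U (((EtCoh.bc f).map φ).left z) = φ.left (pr₁ f U' z) := by
  have h3 := congrArg (fun (k : ((EtCoh.bc f).obj U').left ⟶ U.left) => k z) (map_pr₁ f φ)
  exact ((Scheme.Hom.comp_apply _ _ _).symm.trans h3).trans (Scheme.Hom.comp_apply _ _ _)

theorem υ_sub (U : S.Etale) (a b : EtCoh.sect F U) :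
    υ f F U (a - b) = υ f F U a - υ f F U b :=
  map_sub _ _ _

section Data

variable (t : EtCoh.sect ((EtCoh.pull f).obj F) ((EtCoh.bc f).obj (EtCoh.top S)))

/-- The restriction of `t` to `U ×_S X`. -/
noncomputable def tU (U : S.Etale) : EtCoh.sect ((EtCoh.pull f).obj F) ((EtCoh.bc f).obj U) :=
  ((EtCoh.pull f).obj F).obj.map ((EtCoh.bc f).map (toTop U)).op t

theorem tU_map {U U' : S.Etale} (φ : U' ⟶ U) :
    ((EtCoh.pull f).obj F).obj.map ((EtCoh.bc f).map φ).op (tU f F t U) = tU f F t U' := by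
  unfold tU
  rw [← map_comp_apply, ← Functor.map_comp, toTop_comp]

theorem tU_top : tU f F t (EtCoh.top S) = t := by
  unfold tU
  have h : toTop (EtCoh.top S) = 𝟙 _ := (EtCore.topIsTerminal S).hom_ext _ _
  rw [h, CategoryTheory.Functor.map_id, op_id, CategoryTheory.Functor.map_id]
  rfl

/-- The locus where `t` agrees with the pullback of `a`. -/
noncomputable def Wl (U : S.Etale) (a : EtCoh.sect F U) : ((EtCoh.bc f).obj U).left.Opens :=
  vz ((EtCoh.pull f).obj F) ((EtCoh.bc f).obj U) (tU f F t U - υ f F U a)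

theorem diff_map {U U' : S.Etale} (φ : U' ⟶ U) (a : EtCoh.sect F U) :
    ((EtCoh.pull f).obj F).obj.map ((EtCoh.bc f).map φ).op (tU f F t U - υ f F U a) =
      tU f F t U' - υ f F U' (F.obj.map φ.op a) := by
  rw [map_sub, tU_map, unit_nat]

theorem mem_Wl_map {U U' : S.Etale} (φ : U' ⟶ U) (a : EtCoh.sect F U)
    (z : ((EtCoh.bc f).obj U').left) :
    z ∈ Wl f F t U' (F.obj.map φ.op a) ↔ ((EtCoh.bc f).map φ).left z ∈ Wl f F t U a := by
  unfold Wl
  rw [← diff_map, mem_vz_map]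

theorem claimA (x₀ : ((EtCoh.bc f).obj (EtCoh.top S)).left) :
    ∃ (U : S.Etale) (a : EtCoh.sect F U) (p : ((EtCoh.bc f).obj U).left),
      p ∈ Wl f F t U a ∧ ((EtCoh.bc f).map (toTop U)).left p = x₀ := by
  obtain ⟨U', π, a', V', γ, v', hv', heq⟩ := local_rep f F (EtCoh.top S) t x₀
  have hπ : π = toTop U' := (EtCore.topIsTerminal S).hom_ext _ _
  subst hπ
  refine ⟨U', a', γ.left v', ?_, hv'⟩
  refine (mem_vz_iff _ _ _ _).2 ⟨V', γ, v', rfl, ?_⟩
  rw [map_sub, sub_eq_zero]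
  exact heq

theorem unit_eq_tU {Z U : S.Etale} (φ : Z ⟶ U) (a : EtCoh.sect F U)
    (h : ∀ z' : ((EtCoh.bc f).obj Z).left, ((EtCoh.bc f).map φ).left z' ∈ Wl f F t U a) :
    υ f F Z (F.obj.map φ.op a) = tU f F t Z := by
  have h0 : ((EtCoh.pull f).obj F).obj.map ((EtCoh.bc f).map φ).op
      (tU f F t U - υ f F U a) = 0 :=
    (vz_spec _ _ _ _).2 (by
      rintro _ ⟨z', rfl⟩
      exact h z')
  rw [diff_map, sub_eq_zero] at h0
  exact h0.symm

end Data

section Main

variable (hsub : ∀ (S' : Scheme.{u}) (g : S' ⟶ S), Topology.IsQuotientMap (pullback.snd f g).base)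
  (hc : ∀ (Ω : Type u) [Field Ω] [IsAlgClosed Ω] (s : Spec (CommRingCat.of Ω) ⟶ S),
    ConnectedSpace ↥(pullback f s))

include hsub in
theorem unit_injective (Z : S.Etale) (d : EtCoh.sect F Z) (hd : υ f F Z d = 0) : d = 0 := by
  apply eq_zero_of_forall_mem_vz
  intro z
  obtain ⟨p, hp⟩ := pr₁_surjective f hsub Z z
  rw [← hp, ← mem_vz_unit, hd]
  exact (mem_vz_iff _ _ _ _).2 ⟨(EtCoh.bc f).obj Z, 𝟙 _, p, rfl, map_zero _⟩

set_option maxHeartbeats 1600000 in
include hsub hc in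
theorem exists_unit_eq
    (t : EtCoh.sect ((EtCoh.pull f).obj F) ((EtCoh.bc f).obj (EtCoh.top S))) :
    ∃ σ : EtCoh.sect F (EtCoh.top S), υ f F (EtCoh.top S) σ = t := by
  classical
  have hsat : ∀ (U : S.Etale) (a : EtCoh.sect F U) (p p' : ((EtCoh.bc f).obj U).left),
      p ∈ Wl f F t U a → pr₁ f U p' = pr₁ f U p → p' ∈ Wl f F t U a :=
    fun U a p p' hp h =>
      vz_fibre_saturated f F U _ (isPreconnected_fibre f hc U) p p' hp h
  have hopen : ∀ (U : S.Etale) (a : EtCoh.sect F U),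
      IsOpen (pr₁ f U '' (Wl f F t U a : Set ((EtCoh.bc f).obj U).left)) := by
    intro U a
    apply isOpen_of_isOpen_preimage_pr₁ f hsub U
    have h1 : pr₁ f U ⁻¹' (pr₁ f U '' (Wl f F t U a : Set ((EtCoh.bc f).obj U).left)) =
        (Wl f F t U a : Set ((EtCoh.bc f).obj U).left) := by
      ext p'
      constructor
      · rintro ⟨p, hp, hpp⟩
        exact hsat U a p p' hp hpp.symm
      · intro hp'
        exact ⟨p', hp', rfl⟩
    rw [h1]
    exact (Wl f F t U a).isOpen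
  obtain ⟨O, hO⟩ : ∃ O : ∀ (U : S.Etale) (_ : EtCoh.sect F U), U.left.Opens,
      ∀ (U : S.Etale) (a : EtCoh.sect F U) (u : U.left),
        u ∈ O U a ↔ ∃ p, p ∈ Wl f F t U a ∧ pr₁ f U p = u :=
    ⟨fun U a => ⟨_, hopen U a⟩, fun U a u => Iff.rfl⟩
  have hWO : ∀ (U : S.Etale) (a : EtCoh.sect F U) (p : ((EtCoh.bc f).obj U).left),
      p ∈ Wl f F t U a ↔ pr₁ f U p ∈ O U a := by
    intro U a p
    rw [hO]
    exact ⟨fun hp => ⟨p, hp, rfl⟩, fun ⟨p₀, hp₀, h⟩ => hsat U a p₀ p hp₀ h.symm⟩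
  have hside : ∀ (U : S.Etale) (a : EtCoh.sect F U) (Z : S.Etale) (g : Z ⟶ subE U (O U a))
      (z' : ((EtCoh.bc f).obj Z).left),
      ((EtCoh.bc f).map (g ≫ subι U (O U a))).left z' ∈ Wl f F t U a := by
    intro U a Z g z'
    rw [hWO, pr₁_map_apply]
    have h1 : (g ≫ subι U (O U a)).left (pr₁ f Z z') = (O U a).ι (g.left (pr₁ f Z z')) :=
      Scheme.Hom.comp_apply _ _ _
    rw [h1]
    exact (g.left (pr₁ f Z z')).2
  have hcov : Sieve.ofArrows
      (fun i : (Σ U : S.Etale, EtCoh.sect F U) => subE i.1 (O i.1 i.2))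
      (fun i => subι i.1 (O i.1 i.2) ≫ toTop i.1) ∈ S.smallEtaleTopology (EtCoh.top S) := by
    apply sieve_mem_of_forall_exists
    intro s
    obtain ⟨x₀, hx₀⟩ := pr₁_surjective f hsub (EtCoh.top S) s
    obtain ⟨U, a, p, hp, hpx⟩ := claimA f F t x₀
    have hpO : pr₁ f U p ∈ O U a := (hWO U a p).1 hp
    have hrange : pr₁ f U p ∈ Set.range (O U a).ι := by
      rw [Scheme.Opens.range_ι]
      exact hpO
    obtain ⟨z₀, hz₀⟩ := hrange
    refine ⟨subE U (O U a), subι U (O U a) ≫ toTop U,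
      Sieve.ofArrows_mk (fun i : (Σ U : S.Etale, EtCoh.sect F U) => subE i.1 (O i.1 i.2))
        (fun i => subι i.1 (O i.1 i.2) ≫ toTop i.1) ⟨U, a⟩, z₀, ?_⟩
    have h1 : (subι U (O U a) ≫ toTop U).left z₀ = (toTop U).left ((O U a).ι z₀) :=
      Scheme.Hom.comp_apply _ _ _
    rw [h1, hz₀, ← pr₁_map_apply, hpx, hx₀]
  have hQ : Presieve.IsSheaf S.smallEtaleTopology (F.obj ⋙ forget AddCommGrpCat.{u + 1}) :=
    (isSheaf_iff_isSheaf_of_type _ _).1
      ((Presheaf.isSheaf_iff_isSheaf_forget _ F.obj (forget AddCommGrpCat.{u + 1})).1 F.2)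
  have hsh : Presieve.IsSheafFor (F.obj ⋙ forget AddCommGrpCat.{u + 1})
      (Presieve.ofArrows (fun i : (Σ U : S.Etale, EtCoh.sect F U) => subE i.1 (O i.1 i.2))
        (fun i => subι i.1 (O i.1 i.2) ≫ toTop i.1)) :=
    (Presieve.isSheafFor_iff_generate _).2 (hQ _ hcov)
  rw [Presieve.isSheafFor_arrows_iff] at hsh
  obtain ⟨σ, hσ, -⟩ := hsh (fun i => F.obj.map (subι i.1 (O i.1 i.2)).op i.2) (by
    intro i j Z gi gj hij
    show F.obj.map gi.op (F.obj.map (subι i.1 (O i.1 i.2)).op i.2) =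
      F.obj.map gj.op (F.obj.map (subι j.1 (O j.1 j.2)).op j.2)
    rw [← map_comp_apply, ← map_comp_apply]
    apply sub_eq_zero.1
    apply unit_injective f F hsub
    rw [υ_sub, sub_eq_zero,
      unit_eq_tU f F t (gi ≫ subι i.1 (O i.1 i.2)) i.2 (hside i.1 i.2 Z gi),
      unit_eq_tU f F t (gj ≫ subι j.1 (O j.1 j.2)) j.2 (hside j.1 j.2 Z gj)])
  refine ⟨σ, ?_⟩
  have hfin : tU f F t (EtCoh.top S) - υ f F (EtCoh.top S) σ = 0 := by
    apply eq_zero_of_forall_mem_vz
    intro x₀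
    obtain ⟨U, a, p, hp, hpx⟩ := claimA f F t x₀
    have hpO : pr₁ f U p ∈ O U a := (hWO U a p).1 hp
    have hrange : pr₁ f U p ∈ Set.range (O U a).ι := by
      rw [Scheme.Opens.range_ι]
      exact hpO
    obtain ⟨z₀, hz₀⟩ := hrange
    obtain ⟨z, hz, -⟩ := exists_bc_map_preimage f (subι U (O U a)) p z₀ hz₀
    have h1 : z ∈ Wl f F t (subE U (O U a)) (F.obj.map (subι U (O U a)).op a) := by
      rw [mem_Wl_map, hz]
      exact hp
    have h2 : F.obj.map (subι U (O U a)).op a =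
        F.obj.map (subι U (O U a) ≫ toTop U).op σ := (hσ ⟨U, a⟩).symm
    rw [h2, mem_Wl_map] at h1
    have h3 : ((EtCoh.bc f).map (subι U (O U a) ≫ toTop U)).left z = x₀ := by
      rw [Functor.map_comp]
      have h4 : (((EtCoh.bc f).map (subι U (O U a))) ≫ ((EtCoh.bc f).map (toTop U))).left z =
          ((EtCoh.bc f).map (toTop U)).left (((EtCoh.bc f).map (subι U (O U a))).left z) :=
        Scheme.Hom.comp_apply _ _ _
      rw [h4, hz, hpx]
    rw [h3] at h1
    exact h1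
  rw [tU_top, sub_eq_zero] at hfin
  exact hfin.symm

include hsub hc in
theorem main629 :
    Function.Bijective (((EtCoh.pullPushAdj f).unit.app F).hom.app (op (EtCoh.top S))) := by
  constructor
  · intro a b hab
    have h0 : υ f F (EtCoh.top S) (a - b) = 0 := by
      show ((EtCoh.pullPushAdj f).unit.app F).hom.app (op (EtCoh.top S)) (a - b) = 0
      rw [map_sub, hab, sub_self]
    exact sub_eq_zero.1 (unit_injective f F hsub _ _ h0)
  · intro t
    exact exists_unit_eq f F hsub hc t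

end Main

end Groth.Agent.Lib.EtSubmH7
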