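import Mathlib
import Groth.Prelude.Def_PBC
import Groth.Agent.Lib.EtSubm3_helper7

/-!
# Flat quasi-compact morphisms with connected geometric fibres (helper7)
-/

set_option autoImplicit false
set_option backward.isDefEq.respectTransparency false
set_option linter.style.haveILetI false
set_option linter.unusedSectionVars false
universe u
open CategoryTheory CategoryTheory.Limits AlgebraicGeometry Opposite

namespace Groth.Agent.Lib.EtSubmH7

open Groth.Agent.Lib.Kummer_helper7

variable {T S : Scheme.{u}} (f : T ⟶ S)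

theorem surjective_of_connected_fibres
    (hc : ∀ (Ω : Type u) [Field Ω] [IsAlgClosed Ω] (s : Spec (CommRingCat.of Ω) ⟶ S),
      ConnectedSpace ↥(pullback f s)) : Surjective f := by
  refine ⟨fun s => ?_⟩
  obtain ⟨K, hK1, hK2, g₀, hg₀⟩ := exists_geometric_point s
  haveI := hc K g₀
  obtain ⟨z⟩ : Nonempty ↥(pullback f g₀) := inferInstance
  refine ⟨pullback.fst f g₀ z, ?_⟩
  have h1 : f (pullback.fst f g₀ z) = (pullback.fst f g₀ ≫ f) z :=
    (Scheme.Hom.comp_apply _ _ _).symm
  have h2 : (pullback.snd f g₀ ≫ g₀) z = g₀ (pullback.snd f g₀ z) :=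
    Scheme.Hom.comp_apply _ _ _
  rw [h1, pullback.condition, h2, Subsingleton.elim (pullback.snd f g₀ z) default]
  exact hg₀

theorem main94 [Flat f] [QuasiCompact f]
    (hc : ∀ (Ω : Type u) [Field Ω] [IsAlgClosed Ω] (s : Spec (CommRingCat.of Ω) ⟶ S),
      ConnectedSpace ↥(pullback f s))
    (F : EtCoh.Ab S) :
    Function.Bijective (((EtCoh.pullPushAdj f).unit.app F).hom.app (op (EtCoh.top S))) := by
  haveI : Surjective f := surjective_of_connected_fibres f hc
  refine main629 f F (fun S' g => ?_) hc
  exact Flat.isQuotientMap_of_surjective (pullback.snd f g)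

end Groth.Agent.Lib.EtSubmH7
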