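import Mathlib
import Groth.Prelude.Def_SGA4b
import Groth.Agent.Lib.EtIntBCSh2_helper7
import Groth.Agent.Lib.EtSubm4_helper7

/-!
# Sections of a pullback of an étale sheaf of sets: agreement loci (helper7)

Port of `EtSubm1_helper7` to sheaves of sets: for `f : X ⟶ S`, a sheaf of sets `F` on `S` and
`G = f⁻¹ F`, the agreement locus of two sections of `G`, its behaviour under the unit, and the
local representation of sections of `G` by sections of `F`.
-/

set_option autoImplicit false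
set_option backward.isDefEq.respectTransparency false
set_option linter.style.haveILetI false
set_option linter.unusedSectionVars false
universe u
open CategoryTheory CategoryTheory.Limits AlgebraicGeometry Opposite

namespace Groth.Agent.Lib.EtShDescH7

open Groth.Agent.Lib.EtFinGeomH7 Groth.Agent.Lib.EtSchSite_helper7
  Groth.Agent.Lib.EtSchExact_helper7 Groth.Agent.Lib.EtFinStalkH7
  Groth.Agent.Lib.EtSchStalk_helper7 Groth.Agent.Lib.EtFinBCH7
  Groth.Agent.Lib.EtIntH7 Groth.Agent.Lib.EtFinStalkShH7 Groth.Agent.Lib.EtIntShH7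
  Groth.Agent.Lib.EtSchPullConserv_helper7 Groth.Agent.Lib.Kummer_helper7

section Eqz

variable {X : Scheme.{u}}

/-- The largest open subset on which two sections agree. -/
noncomputable def eqz (G : EtDesc.Sh X) (V : X.Etale) (τ τ' : G.obj.obj (op V)) : V.left.Opens :=
  (exists_opens_agree G V τ τ').choose

theorem eqz_spec (G : EtDesc.Sh X) (V : X.Etale) (τ τ' : G.obj.obj (op V)) {V' : X.Etale}
    (φ : V' ⟶ V) :
    G.obj.map φ.op τ = G.obj.map φ.op τ' ↔
      Set.range φ.left.base ⊆ (eqz G V τ τ' : Set V.left) :=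
  (exists_opens_agree G V τ τ').choose_spec V' φ

theorem mem_eqz_iff (G : EtDesc.Sh X) (V : X.Etale) (τ τ' : G.obj.obj (op V)) (p : V.left) :
    p ∈ eqz G V τ τ' ↔ ∃ (V' : X.Etale) (φ : V' ⟶ V) (v : V'.left),
      φ.left v = p ∧ G.obj.map φ.op τ = G.obj.map φ.op τ' := by
  constructor
  · intro hp
    have hrange : p ∈ Set.range (eqz G V τ τ').ι := by
      rw [Scheme.Opens.range_ι]
      exact hp
    obtain ⟨v, hv⟩ := hrange
    refine ⟨subE V (eqz G V τ τ'), subι V (eqz G V τ τ'), v, hv, ?_⟩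
    refine (eqz_spec G V τ τ' (subι V (eqz G V τ τ'))).2 ?_
    rintro _ ⟨q, rfl⟩
    exact q.2
  · rintro ⟨V', φ, v, hv, h0⟩
    have h1 := (eqz_spec G V τ τ' φ).1 h0
    rw [← hv]
    exact h1 ⟨v, rfl⟩

theorem eq_of_forall_mem_eqz (G : EtDesc.Sh X) (V : X.Etale) (τ τ' : G.obj.obj (op V))
    (h : ∀ p : V.left, p ∈ eqz G V τ τ') : τ = τ' := by
  have h1 : G.obj.map (𝟙 V).op τ = G.obj.map (𝟙 V).op τ' :=
    (eqz_spec G V τ τ' (𝟙 V)).2 (fun p _ => h p)
  have h2 : ∀ σ : G.obj.obj (op V), G.obj.map (𝟙 V).op σ = σ := by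
    intro σ
    rw [op_id, CategoryTheory.Functor.map_id]
    rfl
  exact (h2 τ).symm.trans (h1.trans (h2 τ'))

theorem mem_eqz_self (G : EtDesc.Sh X) (V : X.Etale) (τ : G.obj.obj (op V)) (p : V.left) :
    p ∈ eqz G V τ τ :=
  (mem_eqz_iff G V τ τ p).2 ⟨V, 𝟙 V, p, rfl, rfl⟩

theorem mem_eqz_map (G : EtDesc.Sh X) {V V₁ : X.Etale} (ψ : V₁ ⟶ V) (τ τ' : G.obj.obj (op V))
    (q : V₁.left) :
    q ∈ eqz G V₁ (G.obj.map ψ.op τ) (G.obj.map ψ.op τ') ↔ ψ.left q ∈ eqz G V τ τ' := by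
  constructor
  · intro hq
    obtain ⟨V', φ, v, hv, h0⟩ := (mem_eqz_iff G V₁ _ _ q).1 hq
    refine (mem_eqz_iff G V τ τ' _).2 ⟨V', φ ≫ ψ, v, ?_, ?_⟩
    · have h1 : (φ ≫ ψ).left v = ψ.left (φ.left v) := Scheme.Hom.comp_apply _ _ _
      rw [h1, hv]
    · rw [map_comp_applyS, map_comp_applyS]
      exact h0
  · intro hq
    obtain ⟨V', φ, v, hv, h0⟩ := (mem_eqz_iff G V τ τ' _).1 hq
    obtain ⟨P, a, b, z, hab, hz1, hz2⟩ := exists_prod ψ φ q v hv.symm
    refine (mem_eqz_iff G V₁ _ _ q).2 ⟨P, a, z, hz1, ?_⟩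
    rw [← map_comp_applyS, ← map_comp_applyS, hab, map_comp_applyS, map_comp_applyS, h0]

end Eqz

section Germ

variable {X : Scheme.{u}} {K : Type u} [Field K] [IsAlgClosed K]

theorem mem_eqz_of_germ_eq (G : EtDesc.Sh X) (ξ : Spec (CommRingCat.of K) ⟶ X) (V : X.Etale)
    (l : (Scheme.pointSmallEtale ξ).fiber.obj V) (τ τ' : G.obj.obj (op V))
    (h : (Scheme.pointSmallEtale ξ).toPresheafFiber V l G.obj τ =
      (Scheme.pointSmallEtale ξ).toPresheafFiber V l G.obj τ') :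
    ptLeft l default ∈ eqz G V τ τ' := by
  obtain ⟨V'', g, v'', hv'', heq⟩ :=
    ((Scheme.pointSmallEtale ξ).toPresheafFiber_eq_iff' (P := G.obj) V l τ τ').1 h
  refine (mem_eqz_iff G V τ τ' _).2 ⟨V'', g, ptLeft v'' default, ?_, heq⟩
  have h1 : ptLeft ((Scheme.pointSmallEtale ξ).fiber.map g v'') = ptLeft v'' ≫ g.left := rfl
  have h2 : (ptLeft v'' ≫ g.left) default = g.left (ptLeft v'' default) :=
    Scheme.Hom.comp_apply _ _ _
  rw [← h2, ← h1, hv'']

theorem germ_eq_of_mem_eqz (G : EtDesc.Sh X) (ξ : Spec (CommRingCat.of K) ⟶ X) (V : X.Etale)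
    (l : (Scheme.pointSmallEtale ξ).fiber.obj V) (τ τ' : G.obj.obj (op V))
    (h : ptLeft l default ∈ eqz G V τ τ') :
    (Scheme.pointSmallEtale ξ).toPresheafFiber V l G.obj τ =
      (Scheme.pointSmallEtale ξ).toPresheafFiber V l G.obj τ' := by
  obtain ⟨W, hW⟩ : ∃ W : V.left.Opens, W = eqz G V τ τ' := ⟨_, rfl⟩
  have hlrange : Set.range (ptLeft l) ⊆ Set.range W.ι := by
    rintro _ ⟨z, rfl⟩
    rw [Subsingleton.elim z default, Scheme.Opens.range_ι, hW]
    exact h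
  obtain ⟨l₀, hl₀⟩ : ∃ l₀ : Spec (CommRingCat.of K) ⟶ W.toScheme, l₀ ≫ W.ι = ptLeft l :=
    ⟨IsOpenImmersion.lift _ _ hlrange, IsOpenImmersion.lift_fac _ _ _⟩
  have hlw : l₀ ≫ (W.ι ≫ V.hom) = ξ := by
    rw [← Category.assoc, hl₀, ptLeft_hom]
  obtain ⟨w', hw'⟩ : ∃ w' : (Scheme.pointSmallEtale ξ).fiber.obj (subE V W),
      ptLeft w' = l₀ := ⟨Over.homMk l₀ hlw, rfl⟩
  have hmap : (Scheme.pointSmallEtale ξ).fiber.map (subι V W) w' = l := by
    apply ptLeft_ext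
    rw [ptLeft_map, hw']
    exact hl₀
  have hsec : G.obj.map (subι V W).op τ = G.obj.map (subι V W).op τ' := by
    refine (eqz_spec G V τ τ' (subι V W)).2 ?_
    rintro _ ⟨q, rfl⟩
    rw [← hW]
    exact q.2
  have e1 := (Scheme.pointSmallEtale ξ).toPresheafFiber_w_apply (subι V W) w' G.obj τ
  have e2 := (Scheme.pointSmallEtale ξ).toPresheafFiber_w_apply (subι V W) w' G.obj τ'
  rw [hmap] at e1 e2
  rw [← e1, ← e2, hsec]

end Germ

section Unit

variable {X S : Scheme.{u}} (f : X ⟶ S) (F : EtDesc.Sh S)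

/-- The unit `F(U) ⟶ (f⁻¹ F)(U ×_S X)`. -/
noncomputable abbrev υ (U : S.Etale) (a : F.obj.obj (op U)) :
    ((EtDesc.pullSh f).obj F).obj.obj (op ((EtCoh.bc f).obj U)) :=
  ((EtDesc.adjSh f).unit.app F).hom.app (op U) a

theorem unit_nat {U U' : S.Etale} (φ : U' ⟶ U) (a : F.obj.obj (op U)) :
    υ f F U' (F.obj.map φ.op a) =
      ((EtDesc.pullSh f).obj F).obj.map ((EtCoh.bc f).map φ).op (υ f F U a) :=
  NatTrans.naturality_apply ((EtDesc.adjSh f).unit.app F).hom φ.op a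

/-- Naturality of the unit in the sheaf. -/
theorem unit_nat_sheaf {F F' : EtDesc.Sh S} (b : F ⟶ F') (U : S.Etale) (a : F.obj.obj (op U)) :
    υ f F' U (b.hom.app (op U) a) =
      ((EtDesc.pullSh f).map b).hom.app (op ((EtCoh.bc f).obj U)) (υ f F U a) := by
  have h := (EtDesc.adjSh f).unit.naturality b
  have h2 := congrArg (fun (m : F ⟶ (EtDesc.pushSh f).obj ((EtDesc.pullSh f).obj F')) =>
    m.hom.app (op U) a) h
  exact h2

variable {K : Type u} [Field K] [IsAlgClosed K]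

theorem unit_germ (ξ : Spec (CommRingCat.of K) ⟶ X) (U : S.Etale)
    (u₀ : (Scheme.pointSmallEtale (ξ ≫ f)).fiber.obj U) (a : F.obj.obj (op U)) :
    (stalkPullIsoSh f ξ).inv.app F
      ((Scheme.pointSmallEtale (ξ ≫ f)).toPresheafFiber U u₀ F.obj a) =
    (Scheme.pointSmallEtale ξ).toPresheafFiber ((EtCoh.bc f).obj U) (liftPt f ξ rfl U u₀)
      ((EtDesc.pullSh f).obj F).obj (υ f F U a) := by
  have hJ := stalkPullIsoSh_inv_germ f ξ F ((EtDesc.pullSh f).obj F) (𝟙 _) U u₀ a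
  rw [CategoryTheory.Functor.map_id, Adjunction.homEquiv_id] at hJ
  exact hJ

theorem stalkPull_inv_injective (ξ : Spec (CommRingCat.of K) ⟶ X) :
    Function.Injective ((stalkPullIsoSh f ξ).inv.app F) := by
  intro a b hab
  have h := congrArg (fun z => (stalkPullIsoSh f ξ).hom.app F z) hab
  have e : ∀ z, (stalkPullIsoSh f ξ).hom.app F ((stalkPullIsoSh f ξ).inv.app F z) = z := by
    intro z
    have h1 := (stalkPullIsoSh f ξ).inv_hom_id_app F
    exact congrArg (fun m => (ConcreteCategory.hom m) z) h1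
  exact (e a).symm.trans (h.trans (e b))

theorem stalkPull_inv_surjective (ξ : Spec (CommRingCat.of K) ⟶ X) :
    Function.Surjective ((stalkPullIsoSh f ξ).inv.app F) := by
  intro y
  refine ⟨(stalkPullIsoSh f ξ).hom.app F y, ?_⟩
  have h1 := (stalkPullIsoSh f ξ).hom_inv_id_app F
  exact congrArg (fun m => (ConcreteCategory.hom m) y) h1

end Unit

section Main

variable {X S : Scheme.{u}} (f : X ⟶ S) (F : EtDesc.Sh S)

/-- The agreement locus of `υ d`, `υ d'` is the preimage of the agreement locus of `d`, `d'`. -/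
theorem mem_eqz_unit (U : S.Etale) (d d' : F.obj.obj (op U)) (p : ((EtCoh.bc f).obj U).left) :
    p ∈ eqz ((EtDesc.pullSh f).obj F) ((EtCoh.bc f).obj U) (υ f F U d) (υ f F U d') ↔
      pr₁ f U p ∈ eqz F U d d' := by
  constructor
  · intro hp
    obtain ⟨V', φ, v', hv', h0⟩ := (mem_eqz_iff _ _ _ _ p).1 hp
    obtain ⟨K, hK1, hK2, ξ, l, u₀, hl, hw, hpt⟩ := EtSubmH7.exists_geom_liftPt f U φ v'
    have e1 := (Scheme.pointSmallEtale ξ).toPresheafFiber_w_apply φ l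
      ((EtDesc.pullSh f).obj F).obj (υ f F U d)
    have e1' := (Scheme.pointSmallEtale ξ).toPresheafFiber_w_apply φ l
      ((EtDesc.pullSh f).obj F).obj (υ f F U d')
    rw [hw] at e1 e1'
    have e2 := unit_germ f F ξ U u₀ d
    have e2' := unit_germ f F ξ U u₀ d'
    have e3 : (Scheme.pointSmallEtale (ξ ≫ f)).toPresheafFiber U u₀ F.obj d =
        (Scheme.pointSmallEtale (ξ ≫ f)).toPresheafFiber U u₀ F.obj d' := by
      apply stalkPull_inv_injective f F ξ
      rw [e2, e2', ← e1, ← e1', h0]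
    have h4 := mem_eqz_of_germ_eq F (ξ ≫ f) U u₀ d d' e3
    have h3 : (ptLeft (liftPt f ξ rfl U u₀) ≫ pr₁ f U) default =
        pr₁ f U (ptLeft (liftPt f ξ rfl U u₀) default) := Scheme.Hom.comp_apply _ _ _
    rw [← liftPt_pr₁ f ξ rfl U u₀, h3, hpt, hv'] at h4
    exact h4
  · intro hp
    obtain ⟨U'', ψ, u'', hu'', h0⟩ := (mem_eqz_iff F U d d' _).1 hp
    obtain ⟨z, hz, -⟩ := EtSubmH7.exists_bc_map_preimage f ψ p u'' hu''
    refine (mem_eqz_iff _ _ _ _ p).2 ⟨(EtCoh.bc f).obj U'', (EtCoh.bc f).map ψ, z, hz, ?_⟩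
    rw [← unit_nat, ← unit_nat, h0]

/-- Local representation of a section of `f⁻¹ F` over `U ×_S X` by a section of `F`. -/
theorem local_rep (U : S.Etale)
    (τ : ((EtDesc.pullSh f).obj F).obj.obj (op ((EtCoh.bc f).obj U)))
    (q : ((EtCoh.bc f).obj U).left) :
    ∃ (U' : S.Etale) (π : U' ⟶ U) (a' : F.obj.obj (op U')) (V' : X.Etale)
      (γ : V' ⟶ (EtCoh.bc f).obj U') (v' : V'.left),
      ((EtCoh.bc f).map π).left (γ.left v') = q ∧
      ((EtDesc.pullSh f).obj F).obj.map γ.op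
        (((EtDesc.pullSh f).obj F).obj.map ((EtCoh.bc f).map π).op τ) =
      ((EtDesc.pullSh f).obj F).obj.map γ.op (υ f F U' a') := by
  obtain ⟨K, hK1, hK2, ξ, l, u₀, hl, hw, hpt⟩ :=
    EtSubmH7.exists_geom_liftPt f U (𝟙 ((EtCoh.bc f).obj U)) q
  have hq : ptLeft (liftPt f ξ rfl U u₀) default = q := hpt
  obtain ⟨e, he⟩ := stalkPull_inv_surjective f F ξ
    ((Scheme.pointSmallEtale ξ).toPresheafFiber ((EtCoh.bc f).obj U)
    (liftPt f ξ rfl U u₀) ((EtDesc.pullSh f).obj F).obj τ)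
  obtain ⟨U₁, u₁, a₁, rfl⟩ :=
    (Scheme.pointSmallEtale (ξ ≫ f)).toPresheafFiber_jointly_surjective (P := F.obj) e
  obtain ⟨U', u', π, π₁, hπ, hπ₁⟩ := exists_common U U₁ u₀ u₁
  have g1 := (Scheme.pointSmallEtale (ξ ≫ f)).toPresheafFiber_w_apply π₁ u' F.obj a₁
  rw [hπ₁] at g1
  have g2₀ := unit_germ f F ξ U' u' (F.obj.map π₁.op a₁)
  have he' : (stalkPullIsoSh f ξ).inv.app F
      ((Scheme.pointSmallEtale (ξ ≫ f)).toPresheafFiber U₁ u₁ F.obj a₁) =
      (Scheme.pointSmallEtale ξ).toPresheafFiber ((EtCoh.bc f).obj U)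
        (liftPt f ξ rfl U u₀) ((EtDesc.pullSh f).obj F).obj τ := he
  have g2 : (Scheme.pointSmallEtale ξ).toPresheafFiber ((EtCoh.bc f).obj U)
      (liftPt f ξ rfl U u₀) ((EtDesc.pullSh f).obj F).obj τ =
      (Scheme.pointSmallEtale ξ).toPresheafFiber ((EtCoh.bc f).obj U') (liftPt f ξ rfl U' u')
        ((EtDesc.pullSh f).obj F).obj (υ f F U' (F.obj.map π₁.op a₁)) :=
    he'.symm.trans ((congrArg (fun z => (stalkPullIsoSh f ξ).inv.app F z)
      g1.symm).trans g2₀)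
  have g3 := (Scheme.pointSmallEtale ξ).toPresheafFiber_w_apply ((EtCoh.bc f).map π)
    (liftPt f ξ rfl U' u') ((EtDesc.pullSh f).obj F).obj τ
  rw [liftPt_map, hπ] at g3
  obtain ⟨V', γ, v'', hv'', heq⟩ :=
    ((Scheme.pointSmallEtale ξ).toPresheafFiber_eq_iff' (P := ((EtDesc.pullSh f).obj F).obj)
      ((EtCoh.bc f).obj U') (liftPt f ξ rfl U' u')
      (((EtDesc.pullSh f).obj F).obj.map ((EtCoh.bc f).map π).op τ)
      (υ f F U' (F.obj.map π₁.op a₁))).1 (g3.trans g2)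
  refine ⟨U', π, F.obj.map π₁.op a₁, V', γ, ptLeft v'' default, ?_, heq⟩
  have h1 : ptLeft ((Scheme.pointSmallEtale ξ).fiber.map γ v'') = ptLeft v'' ≫ γ.left := rfl
  have h2 : (ptLeft v'' ≫ γ.left) default = γ.left (ptLeft v'' default) :=
    Scheme.Hom.comp_apply _ _ _
  rw [← h2, ← h1, hv'', liftPt_map_apply, hπ]
  exact hq

end Main

end Groth.Agent.Lib.EtShDescH7
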