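import Mathlib
import Groth.Prelude.Def_SGA4b
import Groth.Agent.Lib.EtShDesc1_helper7

/-!
# The composition isomorphisms of inverse images on unit sections (helper7)

`pullCompSh`, `pullVia` and the canonical descent datum `canIso` evaluated on sections of the form
`υ (υ x)`.
-/

set_option autoImplicit false
set_option backward.isDefEq.respectTransparency false
set_option linter.style.haveILetI false
set_option linter.unusedSectionVars false
universe u
open CategoryTheory CategoryTheory.Limits AlgebraicGeometry Opposite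

namespace Groth.Agent.Lib.EtShDescH7

open Groth.Agent.Lib.EtFinGeomH7 Groth.Agent.Lib.EtSchSite_helper7
  Groth.Agent.Lib.EtSchExact_helper7 Groth.Agent.Lib.EtFinStalkH7
  Groth.Agent.Lib.EtSchStalk_helper7 Groth.Agent.Lib.EtFinBCH7
  Groth.Agent.Lib.EtIntH7 Groth.Agent.Lib.EtFinStalkShH7 Groth.Agent.Lib.EtIntShH7
  Groth.Agent.Lib.EtSchPullConserv_helper7 Groth.Agent.Lib.Kummer_helper7

section Ext

variable {T X Y : Scheme.{u}}

/-- Morphisms of étale schemes into a base change are determined by their first projection. -/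
theorem etale_hom_ext_bc (b : T ⟶ Y) (U : Y.Etale) {A : T.Etale}
    (m m' : A ⟶ (EtCoh.bc b).obj U) (h : m.left ≫ pr₁ b U = m'.left ≫ pr₁ b U) : m = m' := by
  apply MorphismProperty.Over.Hom.ext
  apply bc_hom_ext b U h
  rw [MorphismProperty.Over.w m, MorphismProperty.Over.w m']

theorem etale_hom_ext_bc_bc (g : T ⟶ X) (a : X ⟶ Y) (U : Y.Etale) {A : T.Etale}
    (m m' : A ⟶ (EtCoh.bc g).obj ((EtCoh.bc a).obj U))
    (h : m.left ≫ pr₁ g ((EtCoh.bc a).obj U) ≫ pr₁ a U =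
      m'.left ≫ pr₁ g ((EtCoh.bc a).obj U) ≫ pr₁ a U) : m = m' := by
  apply etale_hom_ext_bc g
  apply bc_hom_ext a U
  · exact (Category.assoc _ _ _).trans (h.trans (Category.assoc _ _ _).symm)
  · have e1 : m.left ≫ (pr₁ g ((EtCoh.bc a).obj U) ≫ ((EtCoh.bc a).obj U).hom) =
        m'.left ≫ (pr₁ g ((EtCoh.bc a).obj U) ≫ ((EtCoh.bc a).obj U).hom) := by
      rw [pr₁_hom, ← Category.assoc, ← Category.assoc, MorphismProperty.Over.w m,
        MorphismProperty.Over.w m']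
    exact (Category.assoc _ _ _).trans (e1.trans (Category.assoc _ _ _).symm)

theorem exists_kappa {T S X : Scheme.{u}} (g : T ⟶ S) (a : S ⟶ X) (b : T ⟶ X) (w : g ≫ a = b)
    (U : X.Etale) :
    ∃ κ : (EtCoh.bc g).obj ((EtCoh.bc a).obj U) ⟶ (EtCoh.bc b).obj U,
      κ.left ≫ pr₁ b U = pr₁ g ((EtCoh.bc a).obj U) ≫ pr₁ a U := by
  subst w
  exact ⟨c₃ a g U, c₃_fst a g U⟩

end Ext

section PullComp

variable {Z X Y : Scheme.{u}} (g : Z ⟶ X) (f : X ⟶ Y) (F : EtDesc.Sh Y)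

theorem pullComp_unit (U : Y.Etale) (x : F.obj.obj (op U)) :
    ((EtDesc.pullCompSh g f).hom.app F).hom.app (op ((EtCoh.bc (g ≫ f)).obj U))
      (υ (g ≫ f) F U x) =
    ((EtDesc.pullSh g).obj ((EtDesc.pullSh f).obj F)).obj.map (c₁ f g U).op
      (υ g ((EtDesc.pullSh f).obj F) ((EtCoh.bc f).obj U) (υ f F U x)) := by
  have h := Adjunction.unit_leftAdjointUniq_hom_app (EtDesc.adjSh (g ≫ f))
    (((EtDesc.adjSh f).comp (EtDesc.adjSh g)).ofNatIsoRight (EtDesc.pushCompSh f g)) F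
  exact congrArg (fun (m : F ⟶ (EtDesc.pushSh (g ≫ f)).obj
    ((EtDesc.pullSh f ⋙ EtDesc.pullSh g).obj F)) => m.hom.app (op U) x) h

theorem pullComp_inv_unit (U : Y.Etale) (x : F.obj.obj (op U)) :
    ((EtDesc.pullCompSh g f).inv.app F).hom.app
      (op ((EtCoh.bc g).obj ((EtCoh.bc f).obj U)))
      (υ g ((EtDesc.pullSh f).obj F) ((EtCoh.bc f).obj U) (υ f F U x)) =
    ((EtDesc.pullSh (g ≫ f)).obj F).obj.map (c₃ f g U).op (υ (g ≫ f) F U x) := by
  obtain ⟨y, hy⟩ : ∃ y, y = υ g ((EtDesc.pullSh f).obj F) ((EtCoh.bc f).obj U) (υ f F U x) :=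
    ⟨_, rfl⟩
  have h1 := pullComp_unit g f F U x
  rw [← hy] at h1 ⊢
  have h2 : υ (g ≫ f) F U x =
      ((EtDesc.pullCompSh g f).inv.app F).hom.app (op ((EtCoh.bc (g ≫ f)).obj U))
        (((EtDesc.pullSh g).obj ((EtDesc.pullSh f).obj F)).obj.map (c₁ f g U).op y) := by
    rw [← h1]
    have h3 := (EtDesc.pullCompSh g f).hom_inv_id_app F
    exact (congrArg (fun (m : (EtDesc.pullSh (g ≫ f)).obj F ⟶ (EtDesc.pullSh (g ≫ f)).obj F) =>
      m.hom.app (op ((EtCoh.bc (g ≫ f)).obj U)) (υ (g ≫ f) F U x)) h3).symm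
  have h4 := NatTrans.naturality_apply ((EtDesc.pullCompSh g f).inv.app F).hom (c₁ f g U).op y
  have h2' := h2.trans h4
  rw [h2', ← map_comp_applyS]
  have h5 : c₃ f g U ≫ c₁ f g U = 𝟙 _ :=
    (MorphismProperty.Over.pullbackComp (P := EtCoh.etaleMP) (Q := ⊤) g f).inv_hom_id_app U
  rw [h5, op_id, CategoryTheory.Functor.map_id]
  rfl

end PullComp

section PullVia

theorem pullVia_unit {T S X : Scheme.{u}} (g : T ⟶ S) (a : S ⟶ X) (b : T ⟶ X) (w : g ≫ a = b)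
    (F : EtDesc.Sh X) (U : X.Etale) (x : F.obj.obj (op U))
    (κ : (EtCoh.bc g).obj ((EtCoh.bc a).obj U) ⟶ (EtCoh.bc b).obj U)
    (hκ : κ.left ≫ pr₁ b U = pr₁ g ((EtCoh.bc a).obj U) ≫ pr₁ a U) :
    (EtDesc.pullVia g a b w F).hom.hom.app (op ((EtCoh.bc g).obj ((EtCoh.bc a).obj U)))
      (υ g ((EtDesc.pullSh a).obj F) ((EtCoh.bc a).obj U) (υ a F U x)) =
    ((EtDesc.pullSh b).obj F).obj.map κ.op (υ b F U x) := by
  subst w
  have hκ' : κ = c₃ a g U := etale_hom_ext_bc (g ≫ a) U _ _ (hκ.trans (c₃_fst a g U).symm)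
  subst hκ'
  have e : (EtDesc.pullVia g a (g ≫ a) rfl F).hom = (EtDesc.pullCompSh g a).inv.app F := by
    have e1 : (EtDesc.pullVia g a (g ≫ a) rfl F).hom =
        (EtDesc.pullCompSh g a).inv.app F ≫
          (EtDesc.pullCongrSh (rfl : g ≫ a = g ≫ a)).hom.app F := rfl
    have e2 : (EtDesc.pullCongrSh (rfl : g ≫ a = g ≫ a)).hom = 𝟙 (EtDesc.pullSh (g ≫ a)) := by
      unfold EtDesc.pullCongrSh
      rfl
    rw [e1, e2, NatTrans.id_app, Category.comp_id]
  rw [e]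
  exact pullComp_inv_unit g a F U x

end PullVia

section CanIso

variable {X S : Scheme.{u}} (f : X ⟶ S) (F : EtDesc.Sh S)

theorem canIso_unit (U : S.Etale) (x : F.obj.obj (op U))
    (θ : (EtCoh.bc (pullback.fst f f)).obj ((EtCoh.bc f).obj U) ⟶
      (EtCoh.bc (pullback.snd f f)).obj ((EtCoh.bc f).obj U))
    (hθ : θ.left ≫ pr₁ (pullback.snd f f) ((EtCoh.bc f).obj U) ≫ pr₁ f U =
      pr₁ (pullback.fst f f) ((EtCoh.bc f).obj U) ≫ pr₁ f U) :
    (EtDesc.canIso f F).hom.hom.app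
      (op ((EtCoh.bc (pullback.fst f f)).obj ((EtCoh.bc f).obj U)))
      (υ (pullback.fst f f) ((EtDesc.pullSh f).obj F) ((EtCoh.bc f).obj U) (υ f F U x)) =
    ((EtDesc.pullSh (pullback.snd f f)).obj ((EtDesc.pullSh f).obj F)).obj.map θ.op
      (υ (pullback.snd f f) ((EtDesc.pullSh f).obj F) ((EtCoh.bc f).obj U) (υ f F U x)) := by
  obtain ⟨κ₁, hκ₁⟩ := exists_kappa (pullback.fst f f) f (pullback.fst f f ≫ f) rfl U
  obtain ⟨κ₂, hκ₂⟩ := exists_kappa (pullback.snd f f) f (pullback.fst f f ≫ f)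
    pullback.condition.symm U
  have h1 := pullVia_unit (pullback.fst f f) f (pullback.fst f f ≫ f) rfl F U x κ₁ hκ₁
  have h2 := pullVia_unit (pullback.snd f f) f (pullback.fst f f ≫ f)
    pullback.condition.symm F U x κ₂ hκ₂
  have hθκ : θ ≫ κ₂ = κ₁ := by
    apply etale_hom_ext_bc (pullback.fst f f ≫ f) U
    have e0 : (θ ≫ κ₂).left = θ.left ≫ κ₂.left := rfl
    rw [e0, Category.assoc, hκ₂, hθ, hκ₁]
  obtain ⟨V₁, hV₁⟩ : ∃ V₁, V₁ = EtDesc.pullVia (pullback.fst f f) f (pullback.fst f f ≫ f) rfl F :=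
    ⟨_, rfl⟩
  obtain ⟨V₂, hV₂⟩ : ∃ V₂, V₂ = EtDesc.pullVia (pullback.snd f f) f (pullback.fst f f ≫ f)
    pullback.condition.symm F := ⟨_, rfl⟩
  have hc : (EtDesc.canIso f F).hom = V₁.hom ≫ V₂.inv := by
    rw [hV₁, hV₂, EtDesc.canIso, Iso.trans_hom, Iso.symm_hom]
  rw [← hV₁] at h1
  rw [← hV₂] at h2
  obtain ⟨y₁, hy₁⟩ : ∃ y₁, y₁ = υ (pullback.fst f f) ((EtDesc.pullSh f).obj F)
    ((EtCoh.bc f).obj U) (υ f F U x) := ⟨_, rfl⟩
  obtain ⟨y₂, hy₂⟩ : ∃ y₂, y₂ = υ (pullback.snd f f) ((EtDesc.pullSh f).obj F)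
    ((EtCoh.bc f).obj U) (υ f F U x) := ⟨_, rfl⟩
  rw [← hy₁] at h1 ⊢
  rw [← hy₂] at h2 ⊢
  have inj : Function.Injective (V₂.hom.hom.app
      (op ((EtCoh.bc (pullback.fst f f)).obj ((EtCoh.bc f).obj U)))) := by
    intro a b hab
    have h := congrArg (fun z => V₂.inv.hom.app
      (op ((EtCoh.bc (pullback.fst f f)).obj ((EtCoh.bc f).obj U))) z) hab
    have e : ∀ z, V₂.inv.hom.app (op ((EtCoh.bc (pullback.fst f f)).obj ((EtCoh.bc f).obj U)))
        (V₂.hom.hom.app (op ((EtCoh.bc (pullback.fst f f)).obj ((EtCoh.bc f).obj U))) z) = z :=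
      fun z => congrArg (fun (m : (EtDesc.pullSh (pullback.snd f f)).obj
        ((EtDesc.pullSh f).obj F) ⟶ (EtDesc.pullSh (pullback.snd f f)).obj
        ((EtDesc.pullSh f).obj F)) => m.hom.app
          (op ((EtCoh.bc (pullback.fst f f)).obj ((EtCoh.bc f).obj U))) z) V₂.hom_inv_id
    exact (e a).symm.trans (h.trans (e b))
  apply inj
  have e3 : V₂.hom.hom.app (op ((EtCoh.bc (pullback.fst f f)).obj ((EtCoh.bc f).obj U)))
      ((EtDesc.canIso f F).hom.hom.app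
        (op ((EtCoh.bc (pullback.fst f f)).obj ((EtCoh.bc f).obj U))) y₁) =
      V₁.hom.hom.app (op ((EtCoh.bc (pullback.fst f f)).obj ((EtCoh.bc f).obj U))) y₁ := by
    rw [hc]
    exact congrArg (fun (m : (EtDesc.pullSh (pullback.fst f f ≫ f)).obj F ⟶
      (EtDesc.pullSh (pullback.fst f f ≫ f)).obj F) => m.hom.app
        (op ((EtCoh.bc (pullback.fst f f)).obj ((EtCoh.bc f).obj U)))
        (V₁.hom.hom.app (op ((EtCoh.bc (pullback.fst f f)).obj ((EtCoh.bc f).obj U))) y₁))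
      V₂.inv_hom_id
  have e4 := NatTrans.naturality_apply V₂.hom.hom θ.op y₂
  rw [e3, h1, e4, h2, ← map_comp_applyS, hθκ]

end CanIso

section SecPull

variable {T X : Scheme.{u}} (g : T ⟶ X) (G : EtDesc.Sh X)

/-- The canonical morphism to the final object of the small étale site. -/
noncomputable abbrev toTop {S : Scheme.{u}} (U : S.Etale) : U ⟶ EtCoh.top S :=
  (EtCore.topIsTerminal S).from U

theorem toTop_comp {S : Scheme.{u}} {U U' : S.Etale} (φ : U' ⟶ U) : φ ≫ toTop U = toTop U' :=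
  (EtCore.topIsTerminal S).hom_ext _ _

theorem secPull_eq (s' : G.obj.obj (op (EtCoh.top X))) :
    EtDesc.secPull g G s' = ((EtDesc.pullSh g).obj G).obj.map (EtCore.bcTopIso g).inv.op
      (υ g G (EtCoh.top X) s') := rfl

theorem unit_toTop (s' : G.obj.obj (op (EtCoh.top X))) (V : X.Etale) :
    υ g G V (G.obj.map (toTop V).op s') =
      ((EtDesc.pullSh g).obj G).obj.map (toTop ((EtCoh.bc g).obj V)).op
        (EtDesc.secPull g G s') := by
  have h : (EtCoh.bc g).map (toTop V) = toTop ((EtCoh.bc g).obj V) ≫ (EtCore.bcTopIso g).inv :=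
    (EtCore.bcTopIsTerminal g).hom_ext _ _
  rw [unit_nat, secPull_eq, ← map_comp_applyS, h]

end SecPull

end Groth.Agent.Lib.EtShDescH7
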