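import Mathlib
import Groth.Prelude.Def_SGA4b
import Groth.Agent.Lib.EtShDesc2_helper7

/-!
# Descent of sections of étale sheaves of sets along a universally submersive morphism (helper7)

For `f : X ⟶ S` universally submersive, `F` a sheaf of sets on `S_ét`, a section `τ` of `f⁻¹ F`
over `U ×_S X` whose two pullbacks to `X ×_S X` agree (condition `DescCond`, also for all the
restrictions of `τ`) is the pullback of a unique section of `F` over `U`.
-/

set_option autoImplicit false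
set_option backward.isDefEq.respectTransparency false
set_option linter.style.haveILetI false
set_option linter.unusedSectionVars false
universe u
open CategoryTheory CategoryTheory.Limits AlgebraicGeometry Opposite

namespace Groth.Agent.Lib.EtShDescH7

open Groth.Agent.Lib.EtFinGeomH7 Groth.Agent.Lib.EtSchSite_helper7
  Groth.Agent.Lib.EtSchExact_helper7 Groth.Agent.Lib.EtFinStalkH7
  Groth.Agent.Lib.EtSchStalk_helper7 Groth.Agent.Lib.EtFinBCH7
  Groth.Agent.Lib.EtIntH7 Groth.Agent.Lib.EtFinStalkShH7 Groth.Agent.Lib.EtIntShH7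
  Groth.Agent.Lib.EtSchPullConserv_helper7 Groth.Agent.Lib.Kummer_helper7

variable {X S : Scheme.{u}} (f : X ⟶ S) (F : EtDesc.Sh S)

/-- The canonical isomorphism `(U ×_S X) ×_{X,pr₁} X'' ⟶ (U ×_S X) ×_{X,pr₂} X''`. -/
noncomputable abbrev Θ (U : S.Etale) :
    (EtCoh.bc (pullback.fst f f)).obj ((EtCoh.bc f).obj U) ⟶
      (EtCoh.bc (pullback.snd f f)).obj ((EtCoh.bc f).obj U) :=
  θ f f (pullback.fst f f) (pullback.snd f f) pullback.condition.symm U

theorem Θ_fst (U : S.Etale) :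
    (Θ f U).left ≫ pr₁ (pullback.snd f f) ((EtCoh.bc f).obj U) ≫ pr₁ f U =
      pr₁ (pullback.fst f f) ((EtCoh.bc f).obj U) ≫ pr₁ f U :=
  θ_fst f f (pullback.fst f f) (pullback.snd f f) pullback.condition.symm U

/-- The descent condition for a section `τ` of `f⁻¹ F` over `U ×_S X`. -/
def DescCond (U : S.Etale)
    (τ : ((EtDesc.pullSh f).obj F).obj.obj (op ((EtCoh.bc f).obj U))) : Prop :=
  (EtDesc.canIso f F).hom.hom.app
      (op ((EtCoh.bc (pullback.fst f f)).obj ((EtCoh.bc f).obj U)))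
      (υ (pullback.fst f f) ((EtDesc.pullSh f).obj F) ((EtCoh.bc f).obj U) τ) =
    ((EtDesc.pullSh (pullback.snd f f)).obj ((EtDesc.pullSh f).obj F)).obj.map (Θ f U).op
      (υ (pullback.snd f f) ((EtDesc.pullSh f).obj F) ((EtCoh.bc f).obj U) τ)

section Sat

/-- Saturation: the agreement locus of a section satisfying the descent condition with a pulled
back section is a union of fibres of `U ×_S X ⟶ U`. -/
theorem sat (U : S.Etale) (τ : ((EtDesc.pullSh f).obj F).obj.obj (op ((EtCoh.bc f).obj U)))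
    (hτ : DescCond f F U τ) (a : F.obj.obj (op U)) (p p' : ((EtCoh.bc f).obj U).left)
    (hpp : pr₁ f U p' = pr₁ f U p)
    (hp : p ∈ eqz ((EtDesc.pullSh f).obj F) ((EtCoh.bc f).obj U) τ (υ f F U a)) :
    p' ∈ eqz ((EtDesc.pullSh f).obj F) ((EtCoh.bc f).obj U) τ (υ f F U a) := by
  obtain ⟨w₀, hw1, hw2⟩ := Scheme.Pullback.exists_preimage_pullback
    (f := pr₁ f U) (g := pr₁ f U) p p' hpp.symm
  obtain ⟨K, hK1, hK2, g₀, hg₀⟩ := exists_geometric_point w₀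
  obtain ⟨ζ₁, hζ₁⟩ : ∃ ζ₁ : Spec (CommRingCat.of K) ⟶ ((EtCoh.bc f).obj U).left,
      ζ₁ = g₀ ≫ pullback.fst (pr₁ f U) (pr₁ f U) := ⟨_, rfl⟩
  obtain ⟨ζ₂, hζ₂⟩ : ∃ ζ₂ : Spec (CommRingCat.of K) ⟶ ((EtCoh.bc f).obj U).left,
      ζ₂ = g₀ ≫ pullback.snd (pr₁ f U) (pr₁ f U) := ⟨_, rfl⟩
  have hζp : ζ₁ default = p := by
    rw [hζ₁, Scheme.Hom.comp_apply, hg₀]
    exact hw1
  have hζp' : ζ₂ default = p' := by
    rw [hζ₂, Scheme.Hom.comp_apply, hg₀]
    exact hw2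
  have hζ : ζ₁ ≫ pr₁ f U = ζ₂ ≫ pr₁ f U := by
    rw [hζ₁, hζ₂, Category.assoc, Category.assoc, pullback.condition]
  have hz0 : (ζ₁ ≫ ((EtCoh.bc f).obj U).hom) ≫ f = (ζ₂ ≫ ((EtCoh.bc f).obj U).hom) ≫ f := by
    rw [Category.assoc, Category.assoc, ← pr₁_hom, ← Category.assoc, ← Category.assoc, hζ]
  obtain ⟨z, hz1, hz2⟩ : ∃ z : Spec (CommRingCat.of K) ⟶ pullback f f,
      z ≫ pullback.fst f f = ζ₁ ≫ ((EtCoh.bc f).obj U).hom ∧
      z ≫ pullback.snd f f = ζ₂ ≫ ((EtCoh.bc f).obj U).hom :=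
    ⟨pullback.lift _ _ hz0, pullback.lift_fst _ _ _, pullback.lift_snd _ _ _⟩
  obtain ⟨l₁, hl₁⟩ : ∃ l₁ : (Scheme.pointSmallEtale (z ≫ pullback.fst f f)).fiber.obj
      ((EtCoh.bc f).obj U), ptLeft l₁ = ζ₁ := ⟨Over.homMk ζ₁ hz1.symm, rfl⟩
  obtain ⟨l₂, hl₂⟩ : ∃ l₂ : (Scheme.pointSmallEtale (z ≫ pullback.snd f f)).fiber.obj
      ((EtCoh.bc f).obj U), ptLeft l₂ = ζ₂ := ⟨Over.homMk ζ₂ hz2.symm, rfl⟩
  obtain ⟨L₁, hL₁⟩ : ∃ L₁, L₁ = liftPt (pullback.fst f f) z rfl ((EtCoh.bc f).obj U) l₁ :=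
    ⟨_, rfl⟩
  obtain ⟨L₂, hL₂⟩ : ∃ L₂, L₂ = liftPt (pullback.snd f f) z rfl ((EtCoh.bc f).obj U) l₂ :=
    ⟨_, rfl⟩
  -- (a) the germs at `l₁` agree
  have ha : (Scheme.pointSmallEtale (z ≫ pullback.fst f f)).toPresheafFiber
      ((EtCoh.bc f).obj U) l₁ ((EtDesc.pullSh f).obj F).obj τ =
      (Scheme.pointSmallEtale (z ≫ pullback.fst f f)).toPresheafFiber
      ((EtCoh.bc f).obj U) l₁ ((EtDesc.pullSh f).obj F).obj (υ f F U a) := by
    apply germ_eq_of_mem_eqz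
    rw [hl₁, hζp]
    exact hp
  -- (b) pull back along `pr₁`
  have hb : (Scheme.pointSmallEtale z).toPresheafFiber
      ((EtCoh.bc (pullback.fst f f)).obj ((EtCoh.bc f).obj U)) L₁
      ((EtDesc.pullSh (pullback.fst f f)).obj ((EtDesc.pullSh f).obj F)).obj
      (υ (pullback.fst f f) ((EtDesc.pullSh f).obj F) ((EtCoh.bc f).obj U) τ) =
      (Scheme.pointSmallEtale z).toPresheafFiber
      ((EtCoh.bc (pullback.fst f f)).obj ((EtCoh.bc f).obj U)) L₁
      ((EtDesc.pullSh (pullback.fst f f)).obj ((EtDesc.pullSh f).obj F)).obj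
      (υ (pullback.fst f f) ((EtDesc.pullSh f).obj F) ((EtCoh.bc f).obj U) (υ f F U a)) := by
    rw [hL₁]
    exact (unit_germ (pullback.fst f f) ((EtDesc.pullSh f).obj F) z _ l₁ τ).symm.trans
      ((congrArg (fun y => (stalkPullIsoSh (pullback.fst f f) z).inv.app
        ((EtDesc.pullSh f).obj F) y) ha).trans
        (unit_germ (pullback.fst f f) ((EtDesc.pullSh f).obj F) z _ l₁ (υ f F U a)))
  -- (c) apply the canonical descent datum
  have hc := congrArg (fun y => (Scheme.pointSmallEtale z).presheafFiber.map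
    (EtDesc.canIso f F).hom.hom y) hb
  have hc' := ((Scheme.pointSmallEtale z).toPresheafFiber_naturality_apply
    (EtDesc.canIso f F).hom.hom _ L₁ _).symm.trans
    (hc.trans ((Scheme.pointSmallEtale z).toPresheafFiber_naturality_apply
      (EtDesc.canIso f F).hom.hom _ L₁ _))
  -- (d) rewrite both sides
  have hd1 : (EtDesc.canIso f F).hom.hom.app
      (op ((EtCoh.bc (pullback.fst f f)).obj ((EtCoh.bc f).obj U)))
      (υ (pullback.fst f f) ((EtDesc.pullSh f).obj F) ((EtCoh.bc f).obj U) τ) =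
    ((EtDesc.pullSh (pullback.snd f f)).obj ((EtDesc.pullSh f).obj F)).obj.map (Θ f U).op
      (υ (pullback.snd f f) ((EtDesc.pullSh f).obj F) ((EtCoh.bc f).obj U) τ) := hτ
  have hd2 := canIso_unit f F U a (Θ f U) (Θ_fst f U)
  rw [hd1, hd2, (Scheme.pointSmallEtale z).toPresheafFiber_w_apply,
    (Scheme.pointSmallEtale z).toPresheafFiber_w_apply] at hc'
  -- (e) the image point
  have hL : (Scheme.pointSmallEtale z).fiber.map (Θ f U) L₁ = L₂ := by
    apply ptLeft_ext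
    rw [ptLeft_map]
    apply bc_hom_ext (pullback.snd f f) ((EtCoh.bc f).obj U)
    · have e1 : ptLeft L₂ ≫ pr₁ (pullback.snd f f) ((EtCoh.bc f).obj U) = ζ₂ := by
        rw [hL₂, liftPt_pr₁, hl₂]
      rw [e1]
      apply bc_hom_ext f U
      · rw [Category.assoc, Category.assoc, Θ_fst, ← Category.assoc, hL₁, liftPt_pr₁, hl₁, hζ]
      · have e2 : (Θ f U).left ≫ ((EtCoh.bc (pullback.snd f f)).obj ((EtCoh.bc f).obj U)).hom =
            ((EtCoh.bc (pullback.fst f f)).obj ((EtCoh.bc f).obj U)).hom :=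
          MorphismProperty.Over.w (Θ f U)
        rw [Category.assoc, Category.assoc, pr₁_hom, ← Category.assoc (Θ f U).left, e2,
          ← Category.assoc, hL₁, liftPt_hom, hz2]
    · have e2 : (Θ f U).left ≫ ((EtCoh.bc (pullback.snd f f)).obj ((EtCoh.bc f).obj U)).hom =
          ((EtCoh.bc (pullback.fst f f)).obj ((EtCoh.bc f).obj U)).hom :=
        MorphismProperty.Over.w (Θ f U)
      rw [Category.assoc, e2, hL₁, hL₂, liftPt_hom, liftPt_hom]
  rw [hL, hL₂] at hc'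
  -- (f) descend along `pr₂`
  have hf := stalkPull_inv_injective (pullback.snd f f) ((EtDesc.pullSh f).obj F) z
    ((unit_germ (pullback.snd f f) ((EtDesc.pullSh f).obj F) z _ l₂ τ).trans
      (hc'.trans (unit_germ (pullback.snd f f) ((EtDesc.pullSh f).obj F) z _ l₂
        (υ f F U a)).symm))
  have hg := mem_eqz_of_germ_eq ((EtDesc.pullSh f).obj F) (z ≫ pullback.snd f f)
    ((EtCoh.bc f).obj U) l₂ τ (υ f F U a) hf
  rw [hl₂, hζp'] at hg
  exact hg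

end Sat

section Main

variable (hsub : ∀ (S' : Scheme.{u}) (g : S' ⟶ S), Topology.IsQuotientMap (pullback.snd f g).base)

include hsub in
theorem unit_injective (Z : S.Etale) (d d' : F.obj.obj (op Z)) (hd : υ f F Z d = υ f F Z d') :
    d = d' := by
  apply eq_of_forall_mem_eqz
  intro z
  obtain ⟨p, hp⟩ := EtSubmH7.pr₁_surjective f hsub Z z
  rw [← hp, ← mem_eqz_unit, hd]
  exact mem_eqz_self _ _ _ _

variable (U₀ : S.Etale) (τ : ((EtDesc.pullSh f).obj F).obj.obj (op ((EtCoh.bc f).obj U₀)))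

theorem restr_restr {U U' : S.Etale} (ψ : U' ⟶ U) (φ : U ⟶ U₀) :
    ((EtDesc.pullSh f).obj F).obj.map ((EtCoh.bc f).map ψ).op
      (((EtDesc.pullSh f).obj F).obj.map ((EtCoh.bc f).map φ).op τ) =
    ((EtDesc.pullSh f).obj F).obj.map ((EtCoh.bc f).map (ψ ≫ φ)).op τ := by
  rw [← map_comp_applyS, ← Functor.map_comp]

theorem mem_eqz_bc_map {U U' : S.Etale} (ψ : U' ⟶ U) (φ : U ⟶ U₀) (a : F.obj.obj (op U))
    (z : ((EtCoh.bc f).obj U').left) :
    z ∈ eqz ((EtDesc.pullSh f).obj F) ((EtCoh.bc f).obj U')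
      (((EtDesc.pullSh f).obj F).obj.map ((EtCoh.bc f).map (ψ ≫ φ)).op τ)
      (υ f F U' (F.obj.map ψ.op a)) ↔
    ((EtCoh.bc f).map ψ).left z ∈ eqz ((EtDesc.pullSh f).obj F) ((EtCoh.bc f).obj U)
      (((EtDesc.pullSh f).obj F).obj.map ((EtCoh.bc f).map φ).op τ) (υ f F U a) := by
  rw [← mem_eqz_map, restr_restr, ← unit_nat]

theorem unit_eq_restr {Z U : S.Etale} (ψ : Z ⟶ U) (φ : U ⟶ U₀) (a : F.obj.obj (op U))
    (h : ∀ z' : ((EtCoh.bc f).obj Z).left, ((EtCoh.bc f).map ψ).left z' ∈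
      eqz ((EtDesc.pullSh f).obj F) ((EtCoh.bc f).obj U)
        (((EtDesc.pullSh f).obj F).obj.map ((EtCoh.bc f).map φ).op τ) (υ f F U a)) :
    υ f F Z (F.obj.map ψ.op a) =
      ((EtDesc.pullSh f).obj F).obj.map ((EtCoh.bc f).map (ψ ≫ φ)).op τ := by
  have h0 : ((EtDesc.pullSh f).obj F).obj.map ((EtCoh.bc f).map ψ).op
      (((EtDesc.pullSh f).obj F).obj.map ((EtCoh.bc f).map φ).op τ) =
      ((EtDesc.pullSh f).obj F).obj.map ((EtCoh.bc f).map ψ).op (υ f F U a) :=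
    (eqz_spec _ _ _ _ _).2 (by
      rintro _ ⟨z', rfl⟩
      exact h z')
  rw [restr_restr, ← unit_nat] at h0
  exact h0.symm

theorem claimA (x₀ : ((EtCoh.bc f).obj U₀).left) :
    ∃ (U : S.Etale) (φ : U ⟶ U₀) (a : F.obj.obj (op U)) (p : ((EtCoh.bc f).obj U).left),
      p ∈ eqz ((EtDesc.pullSh f).obj F) ((EtCoh.bc f).obj U)
        (((EtDesc.pullSh f).obj F).obj.map ((EtCoh.bc f).map φ).op τ) (υ f F U a) ∧
      ((EtCoh.bc f).map φ).left p = x₀ := by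
  obtain ⟨U', π, a', V', γ, v', hv', heq⟩ := local_rep f F U₀ τ x₀
  exact ⟨U', π, a', γ.left v', (mem_eqz_iff _ _ _ _ _).2 ⟨V', γ, v', rfl, heq⟩, hv'⟩

set_option maxHeartbeats 1600000 in
include hsub in
/-- Descent of sections: a section of `f⁻¹ F` over `U₀ ×_S X` all of whose restrictions satisfy
the descent condition comes from a section of `F` over `U₀`. -/
theorem exists_unit_eq
    (hD : ∀ (U : S.Etale) (φ : U ⟶ U₀),
      DescCond f F U (((EtDesc.pullSh f).obj F).obj.map ((EtCoh.bc f).map φ).op τ)) :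
    ∃ σ : F.obj.obj (op U₀), υ f F U₀ σ = τ := by
  classical
  obtain ⟨W, hW⟩ : ∃ W : ∀ (U : S.Etale) (_ : U ⟶ U₀) (_ : F.obj.obj (op U)),
      ((EtCoh.bc f).obj U).left.Opens, W = fun U φ a =>
        eqz ((EtDesc.pullSh f).obj F) ((EtCoh.bc f).obj U)
          (((EtDesc.pullSh f).obj F).obj.map ((EtCoh.bc f).map φ).op τ) (υ f F U a) := ⟨_, rfl⟩
  have hWdef : ∀ (U : S.Etale) (φ : U ⟶ U₀) (a : F.obj.obj (op U)),
      W U φ a = eqz ((EtDesc.pullSh f).obj F) ((EtCoh.bc f).obj U)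
        (((EtDesc.pullSh f).obj F).obj.map ((EtCoh.bc f).map φ).op τ) (υ f F U a) := by
    intro U φ a
    rw [hW]
  have hsat : ∀ (U : S.Etale) (φ : U ⟶ U₀) (a : F.obj.obj (op U))
      (p p' : ((EtCoh.bc f).obj U).left),
      p ∈ W U φ a → pr₁ f U p' = pr₁ f U p → p' ∈ W U φ a := by
    intro U φ a p p' hp h
    rw [hWdef] at hp ⊢
    exact sat f F U _ (hD U φ) a p p' h hp
  have hopen : ∀ (U : S.Etale) (φ : U ⟶ U₀) (a : F.obj.obj (op U)),
      IsOpen (pr₁ f U '' (W U φ a : Set ((EtCoh.bc f).obj U).left)) := by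
    intro U φ a
    apply EtSubmH7.isOpen_of_isOpen_preimage_pr₁ f hsub U
    have h1 : pr₁ f U ⁻¹' (pr₁ f U '' (W U φ a : Set ((EtCoh.bc f).obj U).left)) =
        (W U φ a : Set ((EtCoh.bc f).obj U).left) := by
      ext p'
      constructor
      · rintro ⟨p, hp, hpp⟩
        exact hsat U φ a p p' hp hpp.symm
      · intro hp'
        exact ⟨p', hp', rfl⟩
    rw [h1]
    exact (W U φ a).isOpen
  obtain ⟨O, hO⟩ : ∃ O : ∀ (U : S.Etale) (_ : U ⟶ U₀) (_ : F.obj.obj (op U)), U.left.Opens,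
      ∀ (U : S.Etale) (φ : U ⟶ U₀) (a : F.obj.obj (op U)) (u : U.left),
        u ∈ O U φ a ↔ ∃ p, p ∈ W U φ a ∧ pr₁ f U p = u :=
    ⟨fun U φ a => ⟨_, hopen U φ a⟩, fun U φ a u => Iff.rfl⟩
  have hWO : ∀ (U : S.Etale) (φ : U ⟶ U₀) (a : F.obj.obj (op U))
      (p : ((EtCoh.bc f).obj U).left), p ∈ W U φ a ↔ pr₁ f U p ∈ O U φ a := by
    intro U φ a p
    rw [hO]
    exact ⟨fun hp => ⟨p, hp, rfl⟩, fun ⟨p₀, hp₀, h⟩ => hsat U φ a p₀ p hp₀ h.symm⟩
  have hside : ∀ (U : S.Etale) (φ : U ⟶ U₀) (a : F.obj.obj (op U)) (Z : S.Etale)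
      (g : Z ⟶ subE U (O U φ a)) (z' : ((EtCoh.bc f).obj Z).left),
      ((EtCoh.bc f).map (g ≫ subι U (O U φ a))).left z' ∈ W U φ a := by
    intro U φ a Z g z'
    rw [hWO, EtSubmH7.pr₁_map_apply]
    have h1 : (g ≫ subι U (O U φ a)).left (pr₁ f Z z') =
        (O U φ a).ι (g.left (pr₁ f Z z')) := Scheme.Hom.comp_apply _ _ _
    rw [h1]
    exact (g.left (pr₁ f Z z')).2
  have hcov : Sieve.ofArrows
      (fun i : (Σ U : S.Etale, (U ⟶ U₀) × F.obj.obj (op U)) => subE i.1 (O i.1 i.2.1 i.2.2))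
      (fun i => subι i.1 (O i.1 i.2.1 i.2.2) ≫ i.2.1) ∈ S.smallEtaleTopology U₀ := by
    apply sieve_mem_of_forall_exists
    intro s
    obtain ⟨x₀, hx₀⟩ := EtSubmH7.pr₁_surjective f hsub U₀ s
    obtain ⟨U, φ, a, p, hp, hpx⟩ := claimA f F U₀ τ x₀
    rw [← hWdef] at hp
    have hpO : pr₁ f U p ∈ O U φ a := (hWO U φ a p).1 hp
    have hrange : pr₁ f U p ∈ Set.range (O U φ a).ι := by
      rw [Scheme.Opens.range_ι]
      exact hpO
    obtain ⟨z₀, hz₀⟩ := hrange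
    refine ⟨subE U (O U φ a), subι U (O U φ a) ≫ φ,
      Sieve.ofArrows_mk
        (fun i : (Σ U : S.Etale, (U ⟶ U₀) × F.obj.obj (op U)) => subE i.1 (O i.1 i.2.1 i.2.2))
        (fun i => subι i.1 (O i.1 i.2.1 i.2.2) ≫ i.2.1) ⟨U, φ, a⟩, z₀, ?_⟩
    have h1 : (subι U (O U φ a) ≫ φ).left z₀ = φ.left ((O U φ a).ι z₀) :=
      Scheme.Hom.comp_apply _ _ _
    rw [h1, hz₀, ← EtSubmH7.pr₁_map_apply, hpx, hx₀]
  have hQ : Presieve.IsSheaf S.smallEtaleTopology F.obj :=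
    (isSheaf_iff_isSheaf_of_type _ _).1 F.2
  have hsh : Presieve.IsSheafFor F.obj
      (Presieve.ofArrows
        (fun i : (Σ U : S.Etale, (U ⟶ U₀) × F.obj.obj (op U)) => subE i.1 (O i.1 i.2.1 i.2.2))
        (fun i => subι i.1 (O i.1 i.2.1 i.2.2) ≫ i.2.1)) :=
    (Presieve.isSheafFor_iff_generate _).2 (hQ _ hcov)
  rw [Presieve.isSheafFor_arrows_iff] at hsh
  obtain ⟨σ, hσ, -⟩ := hsh (fun i => F.obj.map (subι i.1 (O i.1 i.2.1 i.2.2)).op i.2.2) (by
    intro i j Z gi gj hij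
    show F.obj.map gi.op (F.obj.map (subι i.1 (O i.1 i.2.1 i.2.2)).op i.2.2) =
      F.obj.map gj.op (F.obj.map (subι j.1 (O j.1 j.2.1 j.2.2)).op j.2.2)
    rw [← map_comp_applyS, ← map_comp_applyS]
    apply unit_injective f F hsub
    have hi := unit_eq_restr f F U₀ τ (gi ≫ subι i.1 (O i.1 i.2.1 i.2.2)) i.2.1 i.2.2 (by
      intro z'
      rw [← hWdef]
      exact hside i.1 i.2.1 i.2.2 Z gi z')
    have hj := unit_eq_restr f F U₀ τ (gj ≫ subι j.1 (O j.1 j.2.1 j.2.2)) j.2.1 j.2.2 (by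
      intro z'
      rw [← hWdef]
      exact hside j.1 j.2.1 j.2.2 Z gj z')
    have hij' : (gi ≫ subι i.1 (O i.1 i.2.1 i.2.2)) ≫ i.2.1 =
        (gj ≫ subι j.1 (O j.1 j.2.1 j.2.2)) ≫ j.2.1 := by
      rw [Category.assoc, Category.assoc]
      exact hij
    rw [hi, hj, hij'])
  refine ⟨σ, ?_⟩
  apply eq_of_forall_mem_eqz
  intro x₀
  obtain ⟨U, φ, a, p, hp, hpx⟩ := claimA f F U₀ τ x₀
  have hpW : p ∈ W U φ a := by
    rw [hWdef]
    exact hp
  have hpO : pr₁ f U p ∈ O U φ a := (hWO U φ a p).1 hpW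
  have hrange : pr₁ f U p ∈ Set.range (O U φ a).ι := by
    rw [Scheme.Opens.range_ι]
    exact hpO
  obtain ⟨z₀, hz₀⟩ := hrange
  obtain ⟨z, hz, -⟩ := EtSubmH7.exists_bc_map_preimage f (subι U (O U φ a)) p z₀ hz₀
  have h1 : z ∈ eqz ((EtDesc.pullSh f).obj F) ((EtCoh.bc f).obj (subE U (O U φ a)))
      (((EtDesc.pullSh f).obj F).obj.map
        ((EtCoh.bc f).map (subι U (O U φ a) ≫ φ)).op τ)
      (υ f F (subE U (O U φ a)) (F.obj.map (subι U (O U φ a)).op a)) := by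
    rw [mem_eqz_bc_map, hz]
    exact hp
  have h2 : F.obj.map (subι U (O U φ a)).op a =
      F.obj.map (subι U (O U φ a) ≫ φ).op σ := (hσ ⟨U, φ, a⟩).symm
  rw [h2, unit_nat, mem_eqz_map] at h1
  have h3 : ((EtCoh.bc f).map (subι U (O U φ a) ≫ φ)).left z = x₀ := by
    rw [Functor.map_comp]
    have h4 : (((EtCoh.bc f).map (subι U (O U φ a))) ≫ ((EtCoh.bc f).map φ)).left z =
        ((EtCoh.bc f).map φ).left (((EtCoh.bc f).map (subι U (O U φ a))).left z) :=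
      Scheme.Hom.comp_apply _ _ _
    rw [h4, hz, hpx]
  rw [h3] at h1
  -- symmetry of the agreement locus
  obtain ⟨V', ψ, v, hv, h0⟩ := (mem_eqz_iff _ _ _ _ _).1 h1
  exact (mem_eqz_iff _ _ _ _ _).2 ⟨V', ψ, v, hv, h0.symm⟩

end Main

end Groth.Agent.Lib.EtShDescH7
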