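import Mathlib
import Groth.Prelude.Def_SGA4b
import Groth.Agent.Lib.EtShDesc3_helper7

/-!
# Exactness of `Γ(X, F) → Γ(X', F') ⇉ Γ(X'', F'')` for universally submersive morphisms (helper7)
-/

set_option autoImplicit false
set_option backward.isDefEq.respectTransparency false
set_option linter.style.haveILetI false
set_option linter.unusedSectionVars false
universe u
open CategoryTheory CategoryTheory.Limits AlgebraicGeometry Opposite

namespace Groth.Agent.Lib.EtShDescH7

open Groth.Agent.Lib.EtFinGeomH7 Groth.Agent.Lib.EtSchSite_helper7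
  Groth.Agent.Lib.EtSchExact_helper7 Groth.Agent.Lib.EtFinStalkH7
  Groth.Agent.Lib.EtSchStalk_helper7 Groth.Agent.Lib.EtFinBCH7
  Groth.Agent.Lib.EtIntH7 Groth.Agent.Lib.EtFinStalkShH7 Groth.Agent.Lib.EtIntShH7
  Groth.Agent.Lib.EtSchPullConserv_helper7 Groth.Agent.Lib.Kummer_helper7

section Aux

variable {T : Scheme.{u}}

/-- Abstract form of the descent condition for restrictions of a global section. -/
theorem descCond_aux (H₁ H₂ : EtDesc.Sh T) (c : H₁ ⟶ H₂) {A B : T.Etale} (θ : A ⟶ B)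
    (y₁ : H₁.obj.obj (op (EtCoh.top T))) (y₂ : H₂.obj.obj (op (EtCoh.top T)))
    (h : c.hom.app (op (EtCoh.top T)) y₁ = y₂) :
    c.hom.app (op A) (H₁.obj.map (toTop A).op y₁) =
      H₂.obj.map θ.op (H₂.obj.map (toTop B).op y₂) := by
  have hn := NatTrans.naturality_apply c.hom (toTop A).op y₁
  rw [hn, h, ← map_comp_applyS, toTop_comp]

/-- Abstract form: transport of a relation over an object to the terminal object. -/
theorem descCond_aux' (H₁ H₂ : EtDesc.Sh T) (c : H₁ ⟶ H₂) {A B : T.Etale} (θ : A ⟶ B)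
    (m₁ : EtCoh.top T ⟶ A) (m₂ : EtCoh.top T ⟶ B) (hm : m₁ ≫ θ = m₂)
    (y₁ : H₁.obj.obj (op A)) (y₂ : H₂.obj.obj (op B))
    (h : c.hom.app (op A) y₁ = H₂.obj.map θ.op y₂) :
    c.hom.app (op (EtCoh.top T)) (H₁.obj.map m₁.op y₁) = H₂.obj.map m₂.op y₂ := by
  have hn := NatTrans.naturality_apply c.hom m₁.op y₁
  rw [hn, h, ← map_comp_applyS, hm]

end Aux

variable {X S : Scheme.{u}} (f : X ⟶ S) (F : EtDesc.Sh S)

theorem hom_ext_top2 {T : Scheme.{u}} (g : T ⟶ X) {A : T.Etale}
    (m m' : A ⟶ (EtCoh.bc g).obj ((EtCoh.bc f).obj (EtCoh.top S))) : m = m' :=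
  (IsTerminal.isTerminalObj (EtCoh.bc g) _ (EtCore.bcTopIsTerminal f)).hom_ext m m'

/-- A global section of `f⁻¹ F` whose two pullbacks agree satisfies the descent condition over
every `U`. -/
theorem descCond_of_global (s' : ((EtDesc.pullSh f).obj F).obj.obj (op (EtCoh.top X)))
    (hs' : (EtDesc.canIso f F).hom.hom.app (op (EtCoh.top (EtDesc.X2 f)))
        (EtDesc.secPull (pullback.fst f f) ((EtDesc.pullSh f).obj F) s') =
      EtDesc.secPull (pullback.snd f f) ((EtDesc.pullSh f).obj F) s') (U : S.Etale) :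
    DescCond f F U
      (((EtDesc.pullSh f).obj F).obj.map (toTop ((EtCoh.bc f).obj U)).op s') := by
  obtain ⟨C, hC⟩ : ∃ C, C = (EtDesc.canIso f F).hom := ⟨_, rfl⟩
  rw [← hC] at hs'
  unfold DescCond
  rw [← hC]
  have h1 := unit_toTop (pullback.fst f f) ((EtDesc.pullSh f).obj F) s' ((EtCoh.bc f).obj U)
  have h2 := unit_toTop (pullback.snd f f) ((EtDesc.pullSh f).obj F) s' ((EtCoh.bc f).obj U)
  rw [h1, h2]
  exact descCond_aux _ _ C (Θ f U) _ _ hs'

theorem main3049 (hf : EtDesc.IsUnivSubmersive f) :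
    Function.Injective (EtDesc.secPull f F) ∧
    Set.range (EtDesc.secPull f F) =
      {s' | (EtDesc.canIso f F).hom.hom.app (op (EtCoh.top (EtDesc.X2 f)))
          (EtDesc.secPull (pullback.fst f f) ((EtDesc.pullSh f).obj F) s') =
        EtDesc.secPull (pullback.snd f f) ((EtDesc.pullSh f).obj F) s'} := by
  have hsub : ∀ (S' : Scheme.{u}) (g : S' ⟶ S),
      Topology.IsQuotientMap (pullback.snd f g).base := fun S' g => (hf S' g).2
  have e : ∀ y : ((EtDesc.pullSh f).obj F).obj.obj (op ((EtCoh.bc f).obj (EtCoh.top S))),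
      ((EtDesc.pullSh f).obj F).obj.map (EtCore.bcTopIso f).hom.op
        (((EtDesc.pullSh f).obj F).obj.map (EtCore.bcTopIso f).inv.op y) = y := by
    intro y
    rw [← map_comp_applyS, Iso.hom_inv_id, op_id, CategoryTheory.Functor.map_id]
    rfl
  have e' : ∀ y : ((EtDesc.pullSh f).obj F).obj.obj (op (EtCoh.top X)),
      ((EtDesc.pullSh f).obj F).obj.map (EtCore.bcTopIso f).inv.op
        (((EtDesc.pullSh f).obj F).obj.map (EtCore.bcTopIso f).hom.op y) = y := by
    intro y
    rw [← map_comp_applyS, Iso.inv_hom_id, op_id, CategoryTheory.Functor.map_id]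
    rfl
  constructor
  · intro s t hst
    rw [secPull_eq, secPull_eq] at hst
    apply unit_injective f F hsub
    have h := congrArg (fun y => ((EtDesc.pullSh f).obj F).obj.map
      (EtCore.bcTopIso f).hom.op y) hst
    exact (e _).symm.trans (h.trans (e _))
  · ext s'
    constructor
    · rintro ⟨s, rfl⟩
      have e1 : ∀ (T : Scheme.{u}) (g : T ⟶ X),
          EtDesc.secPull g ((EtDesc.pullSh f).obj F) (EtDesc.secPull f F s) =
          ((EtDesc.pullSh g).obj ((EtDesc.pullSh f).obj F)).obj.map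
            ((EtCore.bcTopIso g).inv ≫ (EtCoh.bc g).map (EtCore.bcTopIso f).inv).op
            (υ g ((EtDesc.pullSh f).obj F) ((EtCoh.bc f).obj (EtCoh.top S))
              (υ f F (EtCoh.top S) s)) := by
        intro T g
        rw [secPull_eq, secPull_eq, unit_nat, ← map_comp_applyS]
      show (EtDesc.canIso f F).hom.hom.app (op (EtCoh.top (EtDesc.X2 f)))
          (EtDesc.secPull (pullback.fst f f) ((EtDesc.pullSh f).obj F)
            (EtDesc.secPull f F s)) =
        EtDesc.secPull (pullback.snd f f) ((EtDesc.pullSh f).obj F) (EtDesc.secPull f F s)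
      have hcu := canIso_unit f F (EtCoh.top S) s (Θ f _) (Θ_fst f _)
      obtain ⟨C, hC⟩ : ∃ C, C = (EtDesc.canIso f F).hom := ⟨_, rfl⟩
      rw [← hC] at hcu ⊢
      rw [e1 _ (pullback.fst f f), e1 _ (pullback.snd f f)]
      have hm : ((EtCore.bcTopIso (pullback.fst f f)).inv ≫
          (EtCoh.bc (pullback.fst f f)).map (EtCore.bcTopIso f).inv) ≫ Θ f (EtCoh.top S) =
          (EtCore.bcTopIso (pullback.snd f f)).inv ≫
          (EtCoh.bc (pullback.snd f f)).map (EtCore.bcTopIso f).inv :=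
        hom_ext_top2 f (pullback.snd f f) _ _
      exact descCond_aux' _ _ C (Θ f (EtCoh.top S)) _ _ hm _ _ hcu
    · intro hs'
      obtain ⟨τ, hτ⟩ : ∃ τ, τ = ((EtDesc.pullSh f).obj F).obj.map (EtCore.bcTopIso f).hom.op s' :=
        ⟨_, rfl⟩
      have hD : ∀ (U : S.Etale) (φ : U ⟶ EtCoh.top S),
          DescCond f F U (((EtDesc.pullSh f).obj F).obj.map ((EtCoh.bc f).map φ).op τ) := by
        intro U φ
        have h1 : ((EtDesc.pullSh f).obj F).obj.map ((EtCoh.bc f).map φ).op τ =
            ((EtDesc.pullSh f).obj F).obj.map (toTop ((EtCoh.bc f).obj U)).op s' := by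
          have hh : (EtCoh.bc f).map φ ≫ (EtCore.bcTopIso f).hom = toTop ((EtCoh.bc f).obj U) :=
            (EtCore.topIsTerminal X).hom_ext _ _
          rw [hτ, ← map_comp_applyS, hh]
        rw [h1]
        exact descCond_of_global f F s' hs' U
      obtain ⟨σ, hσ⟩ := exists_unit_eq f F hsub (EtCoh.top S) τ hD
      refine ⟨σ, ?_⟩
      rw [secPull_eq, hσ, hτ]
      exact e' s'

end Groth.Agent.Lib.EtShDescH7
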