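import Mathlib
import Groth.Prelude.Def_SGA4b
import Groth.Agent.Lib.EtShDesc4_helper7

/-!
# Full faithfulness of `f⁻¹` into sheaves with descent data, `f` universally submersive (helper7)
-/

set_option autoImplicit false
set_option backward.isDefEq.respectTransparency false
set_option linter.style.haveILetI false
set_option linter.unusedSectionVars false
universe u
open CategoryTheory CategoryTheory.Limits AlgebraicGeometry Opposite

namespace Groth.Agent.Lib.EtShDescH7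

open Groth.Agent.Lib.EtFinGeomH7 Groth.Agent.Lib.EtSchSite_helper7
  Groth.Agent.Lib.EtSchExact_helper7 Groth.Agent.Lib.EtFinStalkH7
  Groth.Agent.Lib.EtSchStalk_helper7 Groth.Agent.Lib.EtFinBCH7
  Groth.Agent.Lib.EtIntH7 Groth.Agent.Lib.EtFinStalkShH7 Groth.Agent.Lib.EtIntShH7
  Groth.Agent.Lib.EtSchPullConserv_helper7 Groth.Agent.Lib.Kummer_helper7

section Aux

variable {T : Scheme.{u}}

theorem descCond_hom_aux (H₁F H₂F H₁E H₂E : EtDesc.Sh T) (CF : H₁F ⟶ H₂F) (CE : H₁E ⟶ H₂E)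
    (P₁ : H₁F ⟶ H₁E) (P₂ : H₂F ⟶ H₂E) (hsq : CF ≫ P₂ = P₁ ≫ CE) {W₁ W₂ : T.Etale}
    (θ : W₁ ⟶ W₂) (w₁ : H₁F.obj.obj (op W₁)) (w₂ : H₂F.obj.obj (op W₂))
    (h : CF.hom.app (op W₁) w₁ = H₂F.obj.map θ.op w₂) :
    CE.hom.app (op W₁) (P₁.hom.app (op W₁) w₁) =
      H₂E.obj.map θ.op (P₂.hom.app (op W₂) w₂) := by
  have h1 := congrArg (fun (m : H₁F ⟶ H₂E) => m.hom.app (op W₁) w₁) hsq
  exact h1.symm.trans ((congrArg (fun z => P₂.hom.app (op W₁) z) h).trans
    (NatTrans.naturality_apply P₂.hom θ.op w₂))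

end Aux

variable {X S : Scheme.{u}} (f : X ⟶ S) (F E : EtDesc.Sh S)
  (a : (EtDesc.pullSh f).obj F ⟶ (EtDesc.pullSh f).obj E)

theorem descCond_of_hom
    (ha : (EtDesc.canIso f F).hom ≫ (EtDesc.pullSh (pullback.snd f f)).map a =
      (EtDesc.pullSh (pullback.fst f f)).map a ≫ (EtDesc.canIso f E).hom)
    (U : S.Etale) (x : F.obj.obj (op U)) :
    DescCond f E U (a.hom.app (op ((EtCoh.bc f).obj U)) (υ f F U x)) := by
  unfold DescCond
  have hcu := canIso_unit f F U x (Θ f U) (Θ_fst f U)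
  have hi := unit_nat_sheaf (pullback.fst f f) a ((EtCoh.bc f).obj U) (υ f F U x)
  have hii := unit_nat_sheaf (pullback.snd f f) a ((EtCoh.bc f).obj U) (υ f F U x)
  obtain ⟨CF, hCF⟩ : ∃ CF, CF = (EtDesc.canIso f F).hom := ⟨_, rfl⟩
  obtain ⟨CE, hCE⟩ : ∃ CE, CE = (EtDesc.canIso f E).hom := ⟨_, rfl⟩
  obtain ⟨P₁, hP₁⟩ : ∃ P₁, P₁ = (EtDesc.pullSh (pullback.fst f f)).map a := ⟨_, rfl⟩
  obtain ⟨P₂, hP₂⟩ : ∃ P₂, P₂ = (EtDesc.pullSh (pullback.snd f f)).map a := ⟨_, rfl⟩
  rw [← hCF, ← hCE, ← hP₁, ← hP₂] at ha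
  rw [← hCF] at hcu
  rw [← hP₁] at hi
  rw [← hP₂] at hii
  rw [← hCE, hi, hii]
  exact descCond_hom_aux _ _ _ _ CF CE P₁ P₂ ha (Θ f U) _ _ hcu

theorem restr_hom {U U₀ : S.Etale} (φ : U ⟶ U₀) (x : F.obj.obj (op U₀)) :
    ((EtDesc.pullSh f).obj E).obj.map ((EtCoh.bc f).map φ).op
      (a.hom.app (op ((EtCoh.bc f).obj U₀)) (υ f F U₀ x)) =
    a.hom.app (op ((EtCoh.bc f).obj U)) (υ f F U (F.obj.map φ.op x)) := by
  have h1 := NatTrans.naturality_apply a.hom ((EtCoh.bc f).map φ).op (υ f F U₀ x)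
  rw [unit_nat]
  exact h1.symm

theorem main3048 (hf : EtDesc.IsUnivSubmersive f)
    (ha : (EtDesc.canIso f F).hom ≫ (EtDesc.pullSh (pullback.snd f f)).map a =
      (EtDesc.pullSh (pullback.fst f f)).map a ≫ (EtDesc.canIso f E).hom) :
    ∃! b : F ⟶ E, (EtDesc.pullSh f).map b = a := by
  have hsub : ∀ (S' : Scheme.{u}) (g : S' ⟶ S),
      Topology.IsQuotientMap (pullback.snd f g).base := fun S' g => (hf S' g).2
  have hex : ∀ (U : S.Etale) (x : F.obj.obj (op U)),
      ∃ σ : E.obj.obj (op U), υ f E U σ = a.hom.app (op ((EtCoh.bc f).obj U)) (υ f F U x) := by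
    intro U x
    apply exists_unit_eq f E hsub U
    intro U' φ
    rw [restr_hom]
    exact descCond_of_hom f F E a ha U' _
  choose bfun hb using hex
  have hnat : ∀ {U U' : S.Etale} (φ : U' ⟶ U) (x : F.obj.obj (op U)),
      bfun U' (F.obj.map φ.op x) = E.obj.map φ.op (bfun U x) := by
    intro U U' φ x
    apply unit_injective f E hsub
    have h1 : υ f E U' (E.obj.map φ.op (bfun U x)) =
        ((EtDesc.pullSh f).obj E).obj.map ((EtCoh.bc f).map φ).op (υ f E U (bfun U x)) :=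
      unit_nat f E φ (bfun U x)
    rw [hb, h1, hb, restr_hom]
  obtain ⟨b, hbb⟩ : ∃ b : F ⟶ E, ∀ (U : S.Etale) (x : F.obj.obj (op U)),
      b.hom.app (op U) x = bfun U x :=
    ⟨ObjectProperty.homMk
      { app := fun U => TypeCat.ofHom (fun x : F.obj.obj U => (bfun U.unop x : E.obj.obj U))
        naturality := fun U U' g => by
          refine ConcreteCategory.hom_ext _ _ (fun x => ?_)
          exact hnat g.unop x }, fun U x => rfl⟩
  have key : ∀ (b' : F ⟶ E), (EtDesc.pullSh f).map b' = a ↔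
      ∀ (U : S.Etale) (x : F.obj.obj (op U)), b'.hom.app (op U) x = bfun U x := by
    intro b'
    constructor
    · intro h U x
      apply unit_injective f E hsub
      rw [hb, unit_nat_sheaf, h]
    · intro h
      apply ((EtDesc.adjSh f).homEquiv F ((EtDesc.pullSh f).obj E)).injective
      rw [Adjunction.homEquiv_unit, Adjunction.homEquiv_unit]
      refine ObjectProperty.hom_ext _ (NatTrans.ext (funext fun U =>
        ConcreteCategory.hom_ext _ _ fun x => ?_))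
      show ((EtDesc.pullSh f).map b').hom.app (op ((EtCoh.bc f).obj U.unop)) (υ f F U.unop x) =
        a.hom.app (op ((EtCoh.bc f).obj U.unop)) (υ f F U.unop x)
      rw [← unit_nat_sheaf, ← hb]
      exact congrArg (fun z => υ f E U.unop z) (h U.unop x)
  refine ⟨b, (key b).2 hbb, fun b' hb' => ?_⟩
  refine ObjectProperty.hom_ext _ (NatTrans.ext (funext fun U =>
    ConcreteCategory.hom_ext _ _ fun x => ?_))
  exact ((key b').1 hb' U.unop x).trans (hbb U.unop x).symm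

end Groth.Agent.Lib.EtShDescH7
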