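import Mathlib
import Groth.Prelude.Def_SGA4b
import Groth.Agent.Lib.EtShDesc5_helper7
import Groth.Agent.Lib.EtPullExact_helper9

/-!
# Subsheaves of étale sheaves of sets: exactness of pullback, local images (helper7)

* `pull_pfl_type`: the inverse image functor for étale sheaves of sets preserves finite limits
  (hence monomorphisms).
* `LocIm a V h v`: the section `h` of the target of `a : G ⟶ H` lies, locally at the point `v`,
  in the image of `a`; `mono_glue`: for `a` mono this glues to a global preimage.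
* `local_rep_gen`: sections of `f⁻¹ F` are locally pulled back from sections of `F`.
-/

set_option autoImplicit false
set_option backward.isDefEq.respectTransparency false
set_option linter.style.haveILetI false
set_option linter.unusedSectionVars false
universe u
open CategoryTheory CategoryTheory.Limits AlgebraicGeometry Opposite

namespace Groth.Agent.Lib.EtShDescH7

open Groth.Agent.Lib.EtFinGeomH7 Groth.Agent.Lib.EtSchSite_helper7
  Groth.Agent.Lib.EtSchExact_helper7 Groth.Agent.Lib.EtFinStalkH7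
  Groth.Agent.Lib.EtSchStalk_helper7 Groth.Agent.Lib.EtFinBCH7
  Groth.Agent.Lib.EtIntH7 Groth.Agent.Lib.EtFinStalkShH7 Groth.Agent.Lib.EtIntShH7
  Groth.Agent.Lib.EtSchPullConserv_helper7 Groth.Agent.Lib.Kummer_helper7

section Exact

variable {X Y : Scheme.{u}} (f : X ⟶ Y)

instance hasExact_costr_type (K : X.Etaleᵒᵖ) :
    HasExactColimitsOfShape (CostructuredArrow (EtCoh.bc f).op K) (Type (u + 1)) := by
  haveI := EtPullExact.isFiltered_costr f K
  haveI : HasFilteredColimitsOfSize.{u, u + 1} (Type (u + 1)) :=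
    hasFilteredColimitsOfSize_shrink.{u, u + 1, u + 1, u + 1}
  haveI : AB5OfSize.{u, u + 1} (Type (u + 1)) :=
    AB5OfSize_shrink.{u, u + 1, u + 1, u + 1} (Type (u + 1))
  infer_instance

instance lan_pfl_type : PreservesFiniteLimits
    ((EtCoh.bc f).op.lan : (Y.Etaleᵒᵖ ⥤ Type (u + 1)) ⥤ X.Etaleᵒᵖ ⥤ Type (u + 1)) :=
  LanFlat.lan_preservesFiniteLimits_of_flat _ (EtCoh.bc f)

/-- The inverse image of étale sheaves of sets is left exact. -/
instance pull_pfl_type : PreservesFiniteLimits (EtDesc.pullSh f) :=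
  Functor.sheafPullbackConstruction.preservesFiniteLimits _ _ _ _

instance pullSh_preservesMono : (EtDesc.pullSh f).PreservesMonomorphisms := inferInstance

theorem mono_pullSh_map {G H : EtDesc.Sh Y} (a : G ⟶ H) [Mono a] :
    Mono ((EtDesc.pullSh f).map a) := inferInstance

end Exact

section Mono

variable {Y : Scheme.{u}} {G H : EtDesc.Sh Y} (a : G ⟶ H)

theorem injective_of_mono [Mono a] (V : Y.Etale) : Function.Injective (a.hom.app (op V)) := by
  haveI : Mono ((sheafToPresheaf _ _).map a) := inferInstance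
  exact (mono_iff_injective _).1 ((NatTrans.mono_iff_mono_app _).1 this (op V))

theorem hom_map_apply {V V' : Y.Etale} (k : V' ⟶ V) (w : G.obj.obj (op V)) :
    a.hom.app (op V') (G.obj.map k.op w) = H.obj.map k.op (a.hom.app (op V) w) :=
  NatTrans.naturality_apply a.hom k.op w

/-- The section `h` lies, locally at the point `v`, in the image of `a`. -/
def LocIm (V : Y.Etale) (h : H.obj.obj (op V)) (v : V.left) : Prop :=
  ∃ (V₁ : Y.Etale) (γ : V₁ ⟶ V) (v₁ : V₁.left) (w₁ : G.obj.obj (op V₁)),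
    γ.left v₁ = v ∧ a.hom.app (op V₁) w₁ = H.obj.map γ.op h

theorem locIm_map {V V' : Y.Etale} (k : V' ⟶ V) (h : H.obj.obj (op V)) (v' : V'.left)
    (hl : LocIm a V h (k.left v')) : LocIm a V' (H.obj.map k.op h) v' := by
  obtain ⟨V₁, γ, v₁, w₁, hv, hw⟩ := hl
  obtain ⟨P, p, q, z, hpq, hz1, hz2⟩ := exists_prod γ k v₁ v' hv
  refine ⟨P, q, z, G.obj.map p.op w₁, hz2, ?_⟩
  rw [hom_map_apply, hw, ← map_comp_applyS, ← map_comp_applyS, hpq]

theorem locIm_of_map {V V' : Y.Etale} (k : V' ⟶ V) (h : H.obj.obj (op V)) (v' : V'.left)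
    (hl : LocIm a V' (H.obj.map k.op h) v') : LocIm a V h (k.left v') := by
  obtain ⟨V₁, γ, v₁, w₁, hv, hw⟩ := hl
  refine ⟨V₁, γ ≫ k, v₁, w₁, ?_, ?_⟩
  · have h1 : (γ ≫ k).left v₁ = k.left (γ.left v₁) := Scheme.Hom.comp_apply _ _ _
    rw [h1, hv]
  · rw [hw, ← map_comp_applyS]

theorem isOpen_locIm (V : Y.Etale) (h : H.obj.obj (op V)) :
    IsOpen {v : V.left | LocIm a V h v} := by
  rw [isOpen_iff_forall_mem_open]
  rintro v ⟨V₁, γ, v₁, w₁, hv, hw⟩
  refine ⟨Set.range γ.left, ?_, γ.left.isOpenMap.isOpen_range, ⟨v₁, hv⟩⟩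
  rintro _ ⟨v₂, rfl⟩
  exact ⟨V₁, γ, v₂, w₁, rfl, hw⟩

/-- A section which is locally in the image of a monomorphism of sheaves is in the image. -/
theorem mono_glue [Mono a] (V : Y.Etale) (h : H.obj.obj (op V))
    (hloc : ∀ v : V.left, LocIm a V h v) : ∃ w : G.obj.obj (op V), a.hom.app (op V) w = h := by
  have hQG : Presieve.IsSheaf Y.smallEtaleTopology G.obj :=
    (isSheaf_iff_isSheaf_of_type _ _).1 G.2
  have hQH : Presieve.IsSheaf Y.smallEtaleTopology H.obj :=
    (isSheaf_iff_isSheaf_of_type _ _).1 H.2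
  obtain ⟨R, hR⟩ : ∃ R : Sieve V, ∀ (P : Y.Etale) (g : P ⟶ V),
      R g ↔ ∃ w : G.obj.obj (op P), a.hom.app (op P) w = H.obj.map g.op h :=
    ⟨{ arrows := fun P g => ∃ w : G.obj.obj (op P), a.hom.app (op P) w = H.obj.map g.op h
       downward_closed := by
         rintro P Q g ⟨w, hw⟩ b
         refine ⟨G.obj.map b.op w, ?_⟩
         rw [hom_map_apply, hw, ← map_comp_applyS] }, fun P g => Iff.rfl⟩
  have hRmem : R ∈ Y.smallEtaleTopology V := by
    apply sieve_mem_of_forall_exists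
    intro v
    obtain ⟨V₁, γ, v₁, w₁, hv, hw⟩ := hloc v
    exact ⟨V₁, γ, (hR V₁ γ).2 ⟨w₁, hw⟩, ⟨v₁, hv⟩⟩
  have hinj := injective_of_mono a
  obtain ⟨fam, hfam⟩ : ∃ fam : Presieve.FamilyOfElements G.obj R.arrows,
      ∀ (P : Y.Etale) (g : P ⟶ V) (hg : R g),
        a.hom.app (op P) (fam g hg) = H.obj.map g.op h :=
    ⟨fun P g hg => ((hR P g).1 hg).choose, fun P g hg => ((hR P g).1 hg).choose_spec⟩
  have hcompat : fam.Compatible := by
    rw [Presieve.compatible_iff_sieveCompatible]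
    intro P Q g b hg
    apply hinj Q
    rw [hfam, hom_map_apply, hfam, ← map_comp_applyS]
  obtain ⟨w, hw, -⟩ := hQG R hRmem fam hcompat
  refine ⟨w, ?_⟩
  refine (hQH R hRmem).isSeparatedFor.ext (fun P g hg => ?_)
  have h1 : G.obj.map g.op w = fam g hg := hw g hg
  rw [← hom_map_apply, h1, hfam]

/-- Sections of a pullback of sheaves. -/
theorem exists_pullback_section {P Q R : EtDesc.Sh Y} (c : P ⟶ R) (b : Q ⟶ R) (U : Y.Etale)
    (x : P.obj.obj (op U)) (q : Q.obj.obj (op U))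
    (h : c.hom.app (op U) x = b.hom.app (op U) q) :
    ∃ y : (pullback c b).obj.obj (op U),
      (pullback.fst c b).hom.app (op U) y = x ∧ (pullback.snd c b).hom.app (op U) y = q := by
  have hp := (IsPullback.of_hasPullback c b).map
    (sheafToPresheaf Y.smallEtaleTopology (Type (u + 1)) ⋙ (evaluation _ _).obj (op U))
  exact Types.exists_of_isPullback hp x q h

/-- A monomorphism of sheaves which is locally surjective is an isomorphism. -/
theorem isIso_of_mono_of_locSurj (ψ : G ⟶ H) [Mono ψ]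
    (hs : ∀ (V : Y.Etale) (w : H.obj.obj (op V)) (v : V.left),
      ∃ (V' : Y.Etale) (g : V' ⟶ V) (v' : V'.left) (t : G.obj.obj (op V')),
        g.left v' = v ∧ ψ.hom.app (op V') t = H.obj.map g.op w) : IsIso ψ := by
  haveI : Sheaf.IsLocallyInjective ψ := by
    rw [Sheaf.isLocallyInjective_iff_injective]
    intro U
    exact injective_of_mono ψ U.unop
  haveI : Sheaf.IsLocallySurjective ψ := by
    refine ⟨fun {U} w => ?_⟩
    apply sieve_mem_of_forall_exists
    intro v
    obtain ⟨V', g, v', t, hv, ht⟩ := hs U w v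
    exact ⟨V', g, ⟨t, ht⟩, ⟨v', hv⟩⟩
  exact (Sheaf.isLocallyBijective_iff_isIso ψ).1 ⟨inferInstance, inferInstance⟩

variable {K : Type u} [Field K] [IsAlgClosed K]

/-- Two germs at a geometric point agree iff the sections agree on a common refinement. -/
theorem germ_eq_two (H : EtDesc.Sh Y) (ξ : Spec (CommRingCat.of K) ⟶ Y) (A B : Y.Etale)
    (lA : (Scheme.pointSmallEtale ξ).fiber.obj A) (lB : (Scheme.pointSmallEtale ξ).fiber.obj B)
    (sA : H.obj.obj (op A)) (sB : H.obj.obj (op B))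
    (h : (Scheme.pointSmallEtale ξ).toPresheafFiber A lA H.obj sA =
      (Scheme.pointSmallEtale ξ).toPresheafFiber B lB H.obj sB) :
    ∃ (W : Y.Etale) (α : W ⟶ A) (β : W ⟶ B) (w : (Scheme.pointSmallEtale ξ).fiber.obj W),
      (Scheme.pointSmallEtale ξ).fiber.map α w = lA ∧
      (Scheme.pointSmallEtale ξ).fiber.map β w = lB ∧
      H.obj.map α.op sA = H.obj.map β.op sB := by
  obtain ⟨W₀, w₀, α₀, β₀, hα₀, hβ₀⟩ := exists_common A B lA lB
  have e1 := (Scheme.pointSmallEtale ξ).toPresheafFiber_w_apply α₀ w₀ H.obj sA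
  have e2 := (Scheme.pointSmallEtale ξ).toPresheafFiber_w_apply β₀ w₀ H.obj sB
  rw [hα₀] at e1
  rw [hβ₀] at e2
  obtain ⟨W, k, w, hk, heq⟩ := ((Scheme.pointSmallEtale ξ).toPresheafFiber_eq_iff'
    (P := H.obj) W₀ w₀ (H.obj.map α₀.op sA) (H.obj.map β₀.op sB)).1
    (e1.trans (h.trans e2.symm))
  refine ⟨W, k ≫ α₀, k ≫ β₀, w, ?_, ?_, ?_⟩
  · have h1 : (Scheme.pointSmallEtale ξ).fiber.map (k ≫ α₀) w =
        (Scheme.pointSmallEtale ξ).fiber.map α₀ ((Scheme.pointSmallEtale ξ).fiber.map k w) := by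
      rw [Functor.map_comp]
      rfl
    rw [h1, hk, hα₀]
  · have h1 : (Scheme.pointSmallEtale ξ).fiber.map (k ≫ β₀) w =
        (Scheme.pointSmallEtale ξ).fiber.map β₀ ((Scheme.pointSmallEtale ξ).fiber.map k w) := by
      rw [Functor.map_comp]
      rfl
    rw [h1, hk, hβ₀]
  · rw [map_comp_applyS, map_comp_applyS]
    exact heq

/-- If the germ of `h` at a geometric point is the image of a germ of `G`, then `h` is locally
in the image of `a` at the underlying point. -/
theorem locIm_of_germ (ξ : Spec (CommRingCat.of K) ⟶ Y) (V V₂ : Y.Etale)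
    (l : (Scheme.pointSmallEtale ξ).fiber.obj V) (l₂ : (Scheme.pointSmallEtale ξ).fiber.obj V₂)
    (h : H.obj.obj (op V)) (w₂ : G.obj.obj (op V₂))
    (he : (Scheme.pointSmallEtale ξ).toPresheafFiber V l H.obj h =
      (Scheme.pointSmallEtale ξ).toPresheafFiber V₂ l₂ H.obj (a.hom.app (op V₂) w₂)) :
    LocIm a V h (ptLeft l default) := by
  obtain ⟨W, α, β, w, hα, hβ, heq⟩ := germ_eq_two H ξ V V₂ l l₂ h _ he
  refine ⟨W, α, ptLeft w default, G.obj.map β.op w₂, ?_, ?_⟩
  · have h1 : ptLeft ((Scheme.pointSmallEtale ξ).fiber.map α w) = ptLeft w ≫ α.left := rfl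
    have h2 : (ptLeft w ≫ α.left) default = α.left (ptLeft w default) :=
      Scheme.Hom.comp_apply _ _ _
    rw [← h2, ← h1, hα]
  · rw [hom_map_apply]
    exact heq.symm

end Mono

section Rep

variable {X S : Scheme.{u}} (f : X ⟶ S) (F : EtDesc.Sh S)

/-- Local representation of a section of `f⁻¹ F` over an arbitrary étale `X`-scheme. -/
theorem local_rep_gen (V : X.Etale) (τ : ((EtDesc.pullSh f).obj F).obj.obj (op V))
    (v : V.left) :
    ∃ (U : S.Etale) (x : F.obj.obj (op U)) (V' : X.Etale) (g : V' ⟶ V)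
      (γ : V' ⟶ (EtCoh.bc f).obj U) (v' : V'.left), g.left v' = v ∧
      ((EtDesc.pullSh f).obj F).obj.map g.op τ =
        ((EtDesc.pullSh f).obj F).obj.map γ.op (υ f F U x) := by
  obtain ⟨K, _, _, ξ, l, hl⟩ := exists_geometric_lift V v
  obtain ⟨e, he⟩ := stalkPull_inv_surjective f F ξ
    ((Scheme.pointSmallEtale ξ).toPresheafFiber V l ((EtDesc.pullSh f).obj F).obj τ)
  obtain ⟨U₁, u₁, a₁, rfl⟩ :=
    (Scheme.pointSmallEtale (ξ ≫ f)).toPresheafFiber_jointly_surjective (P := F.obj) e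
  have g2 := unit_germ f F ξ U₁ u₁ a₁
  have he' : (stalkPullIsoSh f ξ).inv.app F
      ((Scheme.pointSmallEtale (ξ ≫ f)).toPresheafFiber U₁ u₁ F.obj a₁) =
      (Scheme.pointSmallEtale ξ).toPresheafFiber V l ((EtDesc.pullSh f).obj F).obj τ := he
  obtain ⟨W, α, β, w, hα, hβ, heq⟩ := germ_eq_two ((EtDesc.pullSh f).obj F) ξ V
    ((EtCoh.bc f).obj U₁) l (liftPt f ξ rfl U₁ u₁) τ (υ f F U₁ a₁) (he'.symm.trans g2)
  refine ⟨U₁, a₁, W, α, β, ptLeft w default, ?_, heq⟩
  have h1 : ptLeft ((Scheme.pointSmallEtale ξ).fiber.map α w) = ptLeft w ≫ α.left := rfl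
  have h2 : (ptLeft w ≫ α.left) default = α.left (ptLeft w default) :=
    Scheme.Hom.comp_apply _ _ _
  rw [← h2, ← h1, hα]
  exact hl

/-- `f⁻¹` is faithful when the unit is injective on sections. -/
theorem pullSh_map_injective
    (hsub : ∀ (S' : Scheme.{u}) (g : S' ⟶ S), Topology.IsQuotientMap (pullback.snd f g).base)
    {F E : EtDesc.Sh S} (b b' : F ⟶ E) (h : (EtDesc.pullSh f).map b = (EtDesc.pullSh f).map b') :
    b = b' := by
  refine ObjectProperty.hom_ext _ (NatTrans.ext (funext fun U =>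
    ConcreteCategory.hom_ext _ _ fun x => ?_))
  apply unit_injective f E hsub U.unop
  have h1 := unit_nat_sheaf f b U.unop x
  have h2 := unit_nat_sheaf f b' U.unop x
  rw [h] at h1
  exact h1.trans h2.symm

end Rep

end Groth.Agent.Lib.EtShDescH7
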