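import Mathlib
import Groth.Prelude.Def_EtAcyc
import Groth.Agent.Lib.EtShDesc6_helper7

/-!
# `(-1)`-acyclic morphisms are the surjective ones (helper7)

`g : X ⟶ Y` surjective ⟹ for every étale `V → Y` and sheaf of sets `F` on `V`, the unit
`F → g'_* g'^* F` is a monomorphism; conversely for `g` quasi-compact.  The converse uses a
skyscraper sheaf at a geometric point over a point `y` outside the image, on an open
neighbourhood of `y` in which the image of `g` avoids the closure of `y`.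
-/

set_option autoImplicit false
set_option backward.isDefEq.respectTransparency false
set_option linter.style.haveILetI false
set_option linter.unusedSectionVars false
universe u
open CategoryTheory CategoryTheory.Limits AlgebraicGeometry Opposite

namespace Groth.Agent.Lib.EtMinusOneH7

open Groth.Agent.Lib.EtFinGeomH7 Groth.Agent.Lib.EtSchSite_helper7
  Groth.Agent.Lib.EtSchExact_helper7 Groth.Agent.Lib.EtFinStalkH7
  Groth.Agent.Lib.EtSchStalk_helper7 Groth.Agent.Lib.EtFinBCH7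
  Groth.Agent.Lib.EtIntH7 Groth.Agent.Lib.EtFinStalkShH7 Groth.Agent.Lib.EtIntShH7
  Groth.Agent.Lib.EtSchPullConserv_helper7 Groth.Agent.Lib.Kummer_helper7
  Groth.Agent.Lib.EtShDescH7

section Surj

variable {X S : Scheme.{u}} (f : X ⟶ S)

/-- For `f` surjective the unit `F → f_* f^* F` is a monomorphism. -/
theorem mono_unit_of_surjective [Surjective f] (F : EtDesc.Sh S) :
    Mono ((EtDesc.adjSh f).unit.app F) := by
  apply Sheaf.mono_of_injective
  intro U d d' hd
  apply eq_of_forall_mem_eqz F U.unop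
  intro z
  obtain ⟨p, hp⟩ := (inferInstance : Surjective (pr₁ f U.unop)).surj z
  have hd' : υ f F U.unop d = υ f F U.unop d' := hd
  rw [← hp, ← mem_eqz_unit, hd']
  exact mem_eqz_self _ _ _ _

end Surj

section Ring

theorem exists_not_mem_of_not_mem_range {A R : Type*} [CommRing A] [CommRing R] (φ : A →+* R)
    (p : PrimeSpectrum A) (hp : p ∉ Set.range (PrimeSpectrum.comap φ)) :
    ∃ s : A, s ∉ p.asIdeal ∧ ∀ r : PrimeSpectrum R, p ≤ PrimeSpectrum.comap φ r →
      s ∈ (PrimeSpectrum.comap φ r).asIdeal := by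
  rw [PrimeSpectrum.mem_range_comap_iff] at hp
  have hle : p.asIdeal ≤ (p.asIdeal.map φ).comap φ := Ideal.le_comap_map
  have hlt : ¬ ((p.asIdeal.map φ).comap φ ≤ p.asIdeal) := fun h => hp (le_antisymm h hle)
  obtain ⟨s, hs1, hs2⟩ := SetLike.not_le_iff_exists.1 hlt
  refine ⟨s, hs2, fun r hr => ?_⟩
  have hr' : p.asIdeal ≤ r.asIdeal.comap φ := hr
  have h1 : p.asIdeal.map φ ≤ r.asIdeal := Ideal.map_le_iff_le_comap.2 hr'
  exact h1 hs1

end Ring

section Avoid

/-- A quasi-compact morphism to an affine scheme missing a point `p` misses the closure of `p`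
in a neighbourhood of `p`. -/
theorem exists_open_avoiding_affine {X' : Scheme.{u}} {A : CommRingCat.{u}} (g' : X' ⟶ Spec A)
    [QuasiCompact g'] (p : Spec A) (hp : p ∉ Set.range g') :
    ∃ O : (Spec A).Opens, p ∈ O ∧ ∀ x : X', g' x ∈ O → ¬ (p ⤳ g' x) := by
  haveI : CompactSpace X' := QuasiCompact.compactSpace_of_compactSpace g'
  obtain ⟨R, h, hh⟩ := compactSpace_iff_exists.mp (inferInstance : CompactSpace X')
  obtain ⟨φ, hφ⟩ := Spec.homEquiv.symm.surjective (h ≫ g')
  have hpt : ∀ r : Spec R, g' (h r) = PrimeSpectrum.comap φ.hom r := by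
    intro r
    have h1 : (h ≫ g') r = g' (h r) := Scheme.Hom.comp_apply _ _ _
    rw [← h1, ← hφ]
    rfl
  have hp' : (p : PrimeSpectrum A) ∉ Set.range (PrimeSpectrum.comap φ.hom) := by
    rintro ⟨r, hr⟩
    exact hp ⟨h r, (hpt r).trans hr⟩
  obtain ⟨s, hs1, hs2⟩ := exists_not_mem_of_not_mem_range φ.hom p hp'
  refine ⟨PrimeSpectrum.basicOpen s, hs1, fun x hx hsp => ?_⟩
  obtain ⟨r, rfl⟩ := hh x
  rw [hpt] at hx hsp
  exact hx (hs2 r ((PrimeSpectrum.le_iff_specializes _ _).2 hsp))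

/-- A quasi-compact morphism missing a point `p` misses the closure of `p` in a neighbourhood
of `p`. -/
theorem exists_open_avoiding {X' T : Scheme.{u}} (g' : X' ⟶ T) [QuasiCompact g'] (p : T)
    (hp : p ∉ Set.range g') :
    ∃ O : T.Opens, p ∈ O ∧ ∀ x : X', g' x ∈ O → ¬ (p ⤳ g' x) := by
  obtain ⟨W, hW, hpW, -⟩ := exists_isAffineOpen_mem_and_subset (x := p) (U := (⊤ : T.Opens))
    trivial
  have hrange : p ∈ Set.range hW.fromSpec := by
    rw [hW.range_fromSpec]
    exact hpW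
  obtain ⟨p₀, hp₀⟩ := hrange
  have hp₀' : p₀ ∉ Set.range (pullback.snd g' hW.fromSpec) := by
    rintro ⟨z, hz⟩
    have h1 := congrArg (fun (k : pullback g' hW.fromSpec ⟶ T) => k z)
      (pullback.condition (f := g') (g := hW.fromSpec))
    have h2 : (pullback.fst g' hW.fromSpec ≫ g') z = g' (pullback.fst g' hW.fromSpec z) :=
      Scheme.Hom.comp_apply _ _ _
    have h3 : (pullback.snd g' hW.fromSpec ≫ hW.fromSpec) z =
        hW.fromSpec (pullback.snd g' hW.fromSpec z) := Scheme.Hom.comp_apply _ _ _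
    exact hp ⟨pullback.fst g' hW.fromSpec z, h2.symm.trans (h1.trans (h3.trans
      ((congrArg (fun t => hW.fromSpec t) hz).trans hp₀)))⟩
  obtain ⟨O₀, hpO₀, hO₀⟩ := exists_open_avoiding_affine (pullback.snd g' hW.fromSpec) p₀ hp₀'
  refine ⟨hW.fromSpec ''ᵁ O₀, ⟨p₀, hpO₀, hp₀⟩, ?_⟩
  rintro x ⟨q₀, hq₀, hq₀x⟩ hsp
  obtain ⟨z, hz1, hz2⟩ := Scheme.Pullback.exists_preimage_pullback
    (f := g') (g := hW.fromSpec) x q₀ hq₀x.symm
  have h4 : pullback.snd g' hW.fromSpec z ∈ O₀ := by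
    rw [hz2]
    exact hq₀
  refine hO₀ z h4 ?_
  rw [hz2]
  have hq' : hW.fromSpec q₀ = g' x := hq₀x
  have hsp' : hW.fromSpec p₀ ⤳ hW.fromSpec q₀ := by
    rw [hp₀, hq']
    exact hsp
  exact (hW.fromSpec.isOpenEmbedding.isInducing.specializes_iff).1 hsp'

end Avoid

section Sky

theorem subsingleton_pi (ι : Type u) [IsEmpty ι] (M : Type (u + 1)) :
    Subsingleton (∏ᶜ fun _ : ι => M : Type (u + 1)) :=
  (Types.productIso.{u, u + 1} (fun _ : ι => M)).toEquiv.subsingleton

theorem exists_ne_pi (ι : Type u) (i₀ : ι) (M : Type (u + 1)) (a b : M) (hab : a ≠ b) :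
    ∃ x y : (∏ᶜ fun _ : ι => M : Type (u + 1)), x ≠ y := by
  obtain ⟨e, -⟩ : ∃ e : (∏ᶜ fun _ : ι => M : Type (u + 1)) ≃ (ι → M), True :=
    ⟨(Types.productIso.{u, u + 1} (fun _ : ι => M)).toEquiv, trivial⟩
  refine ⟨e.symm (fun _ => a), e.symm (fun _ => b), fun h => hab ?_⟩
  exact congrFun (e.symm.injective h) i₀

/-- A sheaf of sets with sections a singleton away from `y₀` and at least two sections over any
étale scheme meeting the fibre over `y₀`. -/
theorem exists_skyscraper {V : Scheme.{u}} (y₀ : V) :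
    ∃ F : EtDesc.Sh V,
      (∀ U : V.Etale, y₀ ∉ Set.range U.hom → Subsingleton (F.obj.obj (op U))) ∧
      (∀ U : V.Etale, y₀ ∈ Set.range U.hom → ∃ a b : F.obj.obj (op U), a ≠ b) := by
  obtain ⟨K, _, _, yb, hyb⟩ := exists_geometric_point y₀
  refine ⟨(Scheme.pointSmallEtale yb).skyscraperSheaf (ULift.{u + 1} Bool), ?_, ?_⟩
  · intro U hU
    haveI : IsEmpty ((Scheme.pointSmallEtale yb).fiber.obj U) := by
      refine ⟨fun l => hU ⟨ptLeft l default, ?_⟩⟩
      have h1 : (ptLeft l ≫ U.hom) default = U.hom (ptLeft l default) :=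
        Scheme.Hom.comp_apply _ _ _
      rw [← h1, ptLeft_hom]
      exact hyb
    exact subsingleton_pi ((Scheme.pointSmallEtale yb).fiber.obj U) (ULift.{u + 1} Bool)
  · rintro U ⟨u₀, hu₀⟩
    obtain ⟨l, hl1, hl2⟩ := Scheme.exists_fac_of_etale_of_isSepClosed U.hom yb u₀
      (hu₀.trans hyb.symm)
    obtain ⟨l₀, -⟩ : ∃ l₀ : (Scheme.pointSmallEtale yb).fiber.obj U, ptLeft l₀ = l :=
      ⟨Over.homMk l hl1, rfl⟩
    exact exists_ne_pi ((Scheme.pointSmallEtale yb).fiber.obj U) l₀ (ULift.{u + 1} Bool)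
      ⟨true⟩ ⟨false⟩ (fun h => by simpa using congrArg ULift.down h)

end Sky

section Main

/-- A quasi-compact `(-1)`-acyclic morphism is surjective. -/
theorem surjective_of_minusOne {X Y : Scheme.{u}} (g : X ⟶ Y) [QuasiCompact g]
    (hg : EtAcyc.IsMinusOneAcyclic g) : Function.Surjective g.base := by
  by_contra hns
  obtain ⟨y, hy⟩ : ∃ y : Y, y ∉ Set.range g := by
    by_contra hcon
    push Not at hcon
    exact hns hcon
  obtain ⟨g', hg'⟩ : ∃ g' : pullback (EtCoh.top Y).hom g ⟶ Y, g' = EtAcyc.prj g (EtCoh.top Y) :=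
    ⟨_, rfl⟩
  haveI : QuasiCompact g' := by
    rw [hg']
    infer_instance
  have hy' : y ∉ Set.range g' := by
    rintro ⟨z, hz⟩
    rw [hg'] at hz
    have h1 := congrArg (fun (k : pullback (EtCoh.top Y).hom g ⟶ Y) => k z)
      (pullback.condition (f := (EtCoh.top Y).hom) (g := g))
    have h2 : (pullback.fst (EtCoh.top Y).hom g ≫ (EtCoh.top Y).hom) z =
        (EtCoh.top Y).hom (pullback.fst (EtCoh.top Y).hom g z) := Scheme.Hom.comp_apply _ _ _
    have h3 : (pullback.snd (EtCoh.top Y).hom g ≫ g) z = g (pullback.snd (EtCoh.top Y).hom g z) :=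
      Scheme.Hom.comp_apply _ _ _
    have h4 : (EtCoh.top Y).hom (pullback.fst (EtCoh.top Y).hom g z) = y :=
      (congrArg (fun t => (EtCoh.top Y).hom t) hz)
    exact hy ⟨pullback.snd (EtCoh.top Y).hom g z, h3.symm.trans (h1.symm.trans (h2.trans h4))⟩
  obtain ⟨O, hyO, hO⟩ := exists_open_avoiding g' y hy'
  obtain ⟨F, hF1, hF2⟩ := exists_skyscraper y
  obtain ⟨U, hU⟩ : ∃ U : Y.Etale, U = subE (EtCoh.top Y) O := ⟨_, rfl⟩
  have hUhom : ∀ q : U.left, U.hom q ∈ O := by
    intro q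
    subst hU
    exact q.2
  have hyU : y ∈ Set.range U.hom := by
    subst hU
    have hr : y ∈ Set.range O.ι := by
      rw [Scheme.Opens.range_ι]
      exact hyO
    obtain ⟨q, hq⟩ := hr
    exact ⟨q, hq⟩
  obtain ⟨a, b, hab⟩ := hF2 U hyU
  have hm : Mono ((EtDesc.adjSh g').unit.app F) := by
    rw [hg']
    exact hg (EtCoh.top Y) F
  apply hab
  apply injective_of_mono ((EtDesc.adjSh g').unit.app F) U
  show υ g' F U a = υ g' F U b
  apply eq_of_forall_mem_eqz
  intro p
  rw [mem_eqz_unit]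
  obtain ⟨q, hq⟩ : ∃ q : U.left, q = pr₁ g' U p := ⟨_, rfl⟩
  rw [← hq]
  have hq2 : U.hom q = g' (((EtCoh.bc g').obj U).hom p) := by
    rw [hq]
    have h1 := congrArg (fun (k : ((EtCoh.bc g').obj U).left ⟶ Y) => k p) (pr₁_hom g' U)
    exact (Scheme.Hom.comp_apply _ _ _).symm.trans (h1.trans (Scheme.Hom.comp_apply _ _ _))
  have hns' : ¬ (y ⤳ U.hom q) := by
    rw [hq2]
    apply hO
    rw [← hq2]
    exact hUhom q
  obtain ⟨O'', hO''⟩ : ∃ O'' : U.left.Opens, ∀ t : U.left, t ∈ O'' ↔ ¬ (y ⤳ U.hom t) := by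
    refine ⟨⟨(U.hom ⁻¹' (closure {y}))ᶜ, ?_⟩, fun t => ?_⟩
    · exact (isClosed_closure.preimage U.hom.continuous).isOpen_compl
    · rw [specializes_iff_mem_closure]
      exact Iff.rfl
  have hsub : Subsingleton (F.obj.obj (op (subE U O''))) := by
    apply hF1
    rintro ⟨t, ht⟩
    have h1 : (subE U O'').hom t = U.hom (O''.ι t) := Scheme.Hom.comp_apply _ _ _
    have h2 : ¬ (y ⤳ U.hom (O''.ι t)) := (hO'' (O''.ι t)).1 t.2
    rw [← h1, ht] at h2
    exact h2 specializes_rfl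
  refine (mem_eqz_iff F U a b q).2 ⟨subE U O'', subι U O'', ⟨q, (hO'' q).2 hns'⟩, rfl, ?_⟩
  exact Subsingleton.elim _ _

theorem main3473 {X Y : Scheme.{u}} (g : X ⟶ Y) :
    (Function.Surjective g.base → EtAcyc.IsMinusOneAcyclic g) ∧
      (∀ [QuasiCompact g] [QuasiSeparated g],
        EtAcyc.IsMinusOneAcyclic g → Function.Surjective g.base) := by
  refine ⟨fun hs V F => ?_, fun hg => surjective_of_minusOne g hg⟩
  haveI : Surjective g := ⟨hs⟩
  exact mono_unit_of_surjective (EtAcyc.prj g V) F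

end Main

end Groth.Agent.Lib.EtMinusOneH7
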