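import Mathlib
import Groth.Prelude.Def_SixF2
import Groth.Agent.Lib.CechInjMod_helper7
import Groth.Agent.Lib.EtCartanGen_helper7

/-!
# Cohomology of a sheaf of `Λ`-modules agrees with that of the underlying abelian sheaf (helper7)
-/

set_option autoImplicit false
set_option backward.isDefEq.respectTransparency false
set_option backward.isDefEq.respectTransparency.types false
set_option linter.style.haveILetI false
set_option linter.unusedSectionVars false
universe w w' v u v' u'
open CategoryTheory CategoryTheory.Limits AlgebraicGeometry Opposite Abelian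

namespace Groth.Agent.Lib.EtModAbH7

section Abstract

variable {C : Type u} [Category.{v} C] [Abelian C] {D : Type u'} [Category.{v'} D] [Abelian D]
  [HasExt.{w} C] [HasExt.{w'} D] [EnoughInjectives C]
  (G : C ⥤ D) [G.Additive] [PreservesFiniteLimits G] [PreservesFiniteColimits G]
  {A : C} {A' : D} (σ : A' ⟶ G.obj A)

open Groth.Agent.Lib.EtExtFr_helper7

/-- variant of `Ψ_bijective`: `G` need only send injectives to `Ext(A', -)`-acyclic objects -/
theorem Ψ_bijective' (hG : ∀ I : C, Injective I → ∀ (m : ℕ) (ξ : Ext.{w'} A' (G.obj I) (m + 1)), ξ = 0)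
    (h0 : ∀ F : C, Function.Bijective (fun φ : A ⟶ F => σ ≫ G.map φ)) (n : ℕ) :
    ∀ F : C, Function.Bijective (Ψ G σ F n) := by
  induction n with
  | zero =>
    intro F
    constructor
    · intro x y hxy
      obtain ⟨g, rfl⟩ := (Ext.mk₀_bijective _ _).2 x
      obtain ⟨g', rfl⟩ := (Ext.mk₀_bijective _ _).2 y
      rw [Ψ_mk₀, Ψ_mk₀] at hxy
      rw [(h0 F).1 ((Ext.mk₀_bijective _ _).1 hxy)]
    · intro y
      obtain ⟨g, rfl⟩ := (Ext.mk₀_bijective _ _).2 y
      obtain ⟨φ, hφ⟩ := (h0 F).2 g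
      exact ⟨Ext.mk₀ φ, by rw [Ψ_mk₀]; exact congrArg Ext.mk₀ hφ⟩
  | succ n hn =>
    intro F
    let I : InjectivePresentation F := Classical.arbitrary _
    let S := ShortComplex.mk _ _ (cokernel.condition I.f)
    have hS : S.ShortExact := { exact := ShortComplex.exact_cokernel I.f }
    haveI : Injective S.X₂ := I.injective
    have hGS : (S.map G).ShortExact := hS.map_of_exact G
    constructor
    · intro x x' hxx'
      rw [← sub_eq_zero]
      have hx0 : Ψ G σ S.X₁ (n + 1) (x - x') = 0 := by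
        rw [map_sub]; exact sub_eq_zero.2 hxx'
      generalize x - x' = x at hx0
      obtain ⟨y, hy⟩ : ∃ y : Ext.{w} A S.X₃ n, y.comp hS.extClass rfl = x :=
        Ext.covariant_sequence_exact₁ A hS x (Ext.eq_zero_of_injective _) rfl
      have hx0' : (Ψ G σ S.X₃ n y).comp hGS.extClass rfl = 0 :=
        (Ψ_comp_extClass G σ S hS n y).symm.trans
          ((congrArg (Ψ G σ S.X₁ (n + 1)) hy).trans hx0)
      obtain ⟨z, hz⟩ := Ext.covariant_sequence_exact₃ A' hGS _ rfl hx0'
      obtain ⟨z', hz'⟩ := (hn S.X₂).2 z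
      have h3 : Ψ G σ S.X₃ n (z'.comp (Ext.mk₀ S.g) (add_zero n)) = Ψ G σ S.X₃ n y :=
        (Ψ_comp_mk₀ G σ S.g n z').trans
          ((congrArg (fun t => t.comp (Ext.mk₀ (G.map S.g)) (add_zero n)) hz').trans hz)
      have hy2 : z'.comp (Ext.mk₀ S.g) (add_zero n) = y := (hn S.X₃).1 h3
      refine hy.symm.trans ?_
      refine (congrArg (fun t => t.comp hS.extClass rfl) hy2).symm.trans ?_
      refine (Ext.comp_assoc_of_second_deg_zero z' (Ext.mk₀ S.g) hS.extClass rfl).trans ?_
      exact (congrArg (fun t => z'.comp t rfl) hS.comp_extClass).trans (Ext.comp_zero _ _ _ _ _)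
    · intro y
      obtain ⟨y₃, hy₃⟩ : ∃ y₃ : Ext.{w'} A' (G.obj S.X₃) n, y₃.comp hGS.extClass rfl = y :=
        Ext.covariant_sequence_exact₁ A' hGS y (hG S.X₂ I.injective n _) rfl
      obtain ⟨e, he⟩ := (hn S.X₃).2 y₃
      refine ⟨e.comp hS.extClass rfl, ?_⟩
      refine (Ψ_comp_extClass G σ S hS n e).trans ?_
      exact (congrArg (fun t => t.comp hGS.extClass rfl) he).trans hy₃

end Abstract

section Eval

/-- evaluation at `1` on maps out of `Λ` -/
theorem eval_one_bijective_mod (Λ : Type w) [CommRing Λ] (M : ModuleCat.{w} Λ) :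
    Function.Bijective (fun g : ModuleCat.of Λ Λ ⟶ M => g.hom (1 : Λ)) := by
  constructor
  · intro g g' h
    apply ModuleCat.hom_ext
    apply LinearMap.ext_ring
    exact h
  · intro m
    refine ⟨ModuleCat.ofHom (LinearMap.toSpanSingleton Λ M m), ?_⟩
    show LinearMap.toSpanSingleton Λ M m 1 = m
    exact LinearMap.toSpanSingleton_apply_one _ _ _

/-- evaluation at `1` on maps out of `ℤ` -/
theorem eval_one_bijective_ab (B : AddCommGrpCat.{w}) :
    Function.Bijective
      (fun g : AddCommGrpCat.of (ULift.{w} ℤ) ⟶ B => g.hom (ULift.up (1 : ℤ))) := by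
  constructor
  · intro g g' h
    apply AddCommGrpCat.hom_ext
    apply AddMonoidHom.ext
    intro x
    have hx : x = x.down • (ULift.up (1 : ℤ) : ULift.{w} ℤ) := by
      apply ULift.ext
      simp
    rw [hx, map_zsmul, map_zsmul]
    exact congrArg (fun t => x.down • t) h
  · intro b
    refine ⟨AddCommGrpCat.ofHom ((zmultiplesHom B b).comp
      (AddEquiv.ulift (α := ℤ)).toAddMonoidHom), ?_⟩
    show (1 : ℤ) • b = b
    exact one_zsmul b

end Eval

section Et

open Groth.Agent.Lib.EtExtFr_helper7 Groth.Agent.Lib.EtCartanGenH7 Groth.Agent.Lib.CechInjModH7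

variable (Λ : Type (u + 1)) [CommRing Λ] {X : Scheme.{u}}

lemma injective_obj_mod (I : EtModW.Mod Λ X) [Injective I] : Injective I.obj :=
  (Injective.injective_of_adjoint
    (sheafificationAdjunction X.smallEtaleTopology (ModuleCat.{u + 1} Λ)) I :
    Injective ((sheafToPresheaf X.smallEtaleTopology (ModuleCat.{u + 1} Λ)).obj I))

attribute [local instance] Groth.Agent.Lib.EtCechPush.hasFiniteProducts_over

/-- the underlying abelian sheaf of an injective sheaf of modules is Čech-flasque -/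
theorem cf_forget_of_injective (I : EtModW.Mod Λ X) [Injective I] :
    CF ((EtModD.forgetToAb Λ X).obj I) := by
  intro U ι Uf hU p hp
  obtain ⟨q, rfl⟩ : ∃ q, p = q + 1 := ⟨p - 1, by omega⟩
  haveI := injective_obj_mod Λ I
  exact isZero_cech_of_injective_mod Uf I.obj q

/-- the comparison in degree zero -/
theorem h0_bijective (F : EtModW.Mod Λ X) :
    Function.Bijective (fun φ : EtSix.constΛ Λ X ⟶ F =>
      EtSix.intToConstΛ Λ X ≫ (EtModD.forgetToAb Λ X).map φ) := by
  -- the two evaluation maps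
  obtain ⟨f1, hf1⟩ : ∃ f1 : (EtSix.constΛ Λ X ⟶ F) → F.obj.obj (op (EtCoh.top X)),
      f1 = fun φ => (((EtSix.constModAdj Λ X).homEquiv (ModuleCat.of Λ Λ) F) φ).hom (1 : Λ) :=
    ⟨_, rfl⟩
  obtain ⟨f2, hf2⟩ : ∃ f2 : (EtCoh.const X ℤ ⟶ (EtModD.forgetToAb Λ X).obj F) →
      ((EtCore.gsec X).obj ((EtModD.forgetToAb Λ X).obj F)),
      f2 = fun ψ => (((EtCore.constAdj X).homEquiv (AddCommGrpCat.of (ULift.{u + 1} ℤ))
        ((EtModD.forgetToAb Λ X).obj F)) ψ).hom (ULift.up (1 : ℤ)) := ⟨_, rfl⟩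
  have hb1 : Function.Bijective f1 := by
    rw [hf1]
    exact (eval_one_bijective_mod Λ _).comp
      ((EtSix.constModAdj Λ X).homEquiv (ModuleCat.of Λ Λ) F).bijective
  have hb2 : Function.Bijective f2 := by
    rw [hf2]
    exact (eval_one_bijective_ab _).comp
      ((EtCore.constAdj X).homEquiv (AddCommGrpCat.of (ULift.{u + 1} ℤ))
        ((EtModD.forgetToAb Λ X).obj F)).bijective
  have hcomp : ∀ φ : EtSix.constΛ Λ X ⟶ F,
      f2 (EtSix.intToConstΛ Λ X ≫ (EtModD.forgetToAb Λ X).map φ) = f1 φ := by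
    intro φ
    rw [hf1, hf2]
    have e1 : ((EtCore.constAdj X).homEquiv (AddCommGrpCat.of (ULift.{u + 1} ℤ))
        ((EtModD.forgetToAb Λ X).obj F)) (EtSix.intToConstΛ Λ X ≫ (EtModD.forgetToAb Λ X).map φ) =
        EtSix.oneSection Λ X ≫ (EtCore.gsec X).map ((EtModD.forgetToAb Λ X).map φ) := by
      rw [Adjunction.homEquiv_naturality_right]
      unfold EtSix.intToConstΛ
      rw [Equiv.apply_symm_apply]
    have e2 : ((EtSix.constModAdj Λ X).homEquiv (ModuleCat.of Λ Λ) F) φ =
        (EtSix.constModAdj Λ X).unit.app (ModuleCat.of Λ Λ) ≫ (EtSix.gsecMod Λ X).map φ :=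
      Adjunction.homEquiv_unit _ _ _ _
    show (((EtCore.constAdj X).homEquiv (AddCommGrpCat.of (ULift.{u + 1} ℤ))
        ((EtModD.forgetToAb Λ X).obj F))
        (EtSix.intToConstΛ Λ X ≫ (EtModD.forgetToAb Λ X).map φ)).hom (ULift.up (1 : ℤ)) =
      (((EtSix.constModAdj Λ X).homEquiv (ModuleCat.of Λ Λ) F) φ).hom (1 : Λ)
    rw [e1, e2]
    show (φ.hom.app (op (EtCoh.top X))).hom ((EtSix.oneSection Λ X).hom (ULift.up (1 : ℤ))) =
      (φ.hom.app (op (EtCoh.top X))).hom
        (((EtSix.constModAdj Λ X).unit.app (ModuleCat.of Λ Λ)).hom (1 : Λ))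
    congr 1
    unfold EtSix.oneSection
    show (zmultiplesHom _ (((EtSix.constModAdj Λ X).unit.app (ModuleCat.of Λ Λ)).hom (1 : Λ)))
      ((AddEquiv.ulift (α := ℤ)) (ULift.up (1 : ℤ))) = _
    exact one_zsmul _
  have hfun : f2 ∘ (fun φ : EtSix.constΛ Λ X ⟶ F =>
      EtSix.intToConstΛ Λ X ≫ (EtModD.forgetToAb Λ X).map φ) = f1 := funext hcomp
  have hb : Function.Bijective (f2 ∘ (fun φ : EtSix.constΛ Λ X ⟶ F =>
      EtSix.intToConstΛ Λ X ≫ (EtModD.forgetToAb Λ X).map φ)) := by
    rw [hfun]; exact hb1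
  exact (Function.Bijective.of_comp_iff' hb2 _).1 hb

theorem main4332 [PreservesFiniteLimits (EtModD.forgetToAb Λ X)]
    [PreservesFiniteColimits (EtModD.forgetToAb Λ X)]
    [(EtModD.forgetToAb Λ X).Additive] (F : EtModW.Mod Λ X) (n : ℕ) :
    Function.Bijective (EtSix.HModToH Λ F n) := by
  have h := Ψ_bijective' (EtModD.forgetToAb Λ X) (EtSix.intToConstΛ Λ X)
    (fun I hI m ξ => by
      haveI := hI
      exact H_eq_zero_of_cf _ (cf_forget_of_injective Λ I) m ξ)
    (h0_bijective Λ) n F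
  exact h

end Et

end Groth.Agent.Lib.EtModAbH7
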