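import Mathlib
import Groth.Prelude.Def_MoreMor
import Groth.Agent.Lib.EtNbhdC_helper8

/-! Étale neighbourhoods of a point in its fibre lift to étale neighbourhoods in the total space
(EGA IV 18.1.1-type statement; helper8). APPEND-ONLY once landed. -/

set_option autoImplicit false
universe u

namespace Groth.Agent.Lib.EtNbhdH8

open AlgebraicGeometry CategoryTheory Limits

theorem isPullback_fiberMap {U X S : Scheme.{u}} (p : U ⟶ X) (f : X ⟶ S) (s : S) :
    IsPullback ((p ≫ f).fiberι s) (MoreMor.fiberMap p f s) p (f.fiberι s) := by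
  refine IsPullback.of_bot ?_ (pullback.lift_fst _ _ _).symm
    (IsPullback.of_hasPullback f (S.fromSpecResidueField s))
  have h : MoreMor.fiberMap p f s ≫ pullback.snd f (S.fromSpecResidueField s) =
      pullback.snd (p ≫ f) (S.fromSpecResidueField s) := pullback.lift_snd _ _ _
  rw [h]
  exact IsPullback.of_hasPullback (p ≫ f) _

theorem main9727 {X S V : Scheme.{u}} (f : X ⟶ S) (x : X)
    (g : V ⟶ f.fiber (f x)) [Etale g] (v : V) (hv : g v = f.asFiber x) :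
    ∃ (U : Scheme.{u}) (p : U ⟶ X) (u : U) (m : (p ≫ f).fiber (f x) ⟶ V)
      (u' : ↑((p ≫ f).fiber (f x))),
      Etale p ∧ p u = x ∧ IsOpenImmersion m ∧ m ≫ g = MoreMor.fiberMap p f (f x) ∧
      (p ≫ f).fiberι (f x) u' = u ∧ m u' = v := by
  obtain ⟨_, ⟨W, hW, rfl⟩, hsW, -⟩ := S.isBasis_affineOpens.exists_subset_of_mem_open
    (Set.mem_univ (f x)) isOpen_univ
  obtain ⟨_, ⟨X₀, hX₀, rfl⟩, hxX₀, hle⟩ := X.isBasis_affineOpens.exists_subset_of_mem_open
    (show x ∈ (f ⁻¹ᵁ W : Set X) from hsW) (f ⁻¹ᵁ W).isOpen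
  have hle' : X₀ ≤ f ⁻¹ᵁ W := hle
  obtain ⟨hAff, hFS⟩ := fiber_affine_fracSurj f (f x) hW hsW hX₀ hle'
  have hv' : g v ∈ (f.fiberι (f x)) ⁻¹ᵁ X₀ := by
    change f.fiberι (f x) (g v) ∈ X₀
    rw [hv, Scheme.Hom.fiberι_asFiber]
    exact hxX₀
  obtain ⟨U, U', p, a, m, u', hp, hpb, hm, hmu⟩ :=
    exists_etale_lift (f.fiberι (f x)) hX₀ hAff hFS g v hv'
  have hfib := isPullback_fiberMap p f (f x)
  let e := hfib.isoIsPullback _ _ hpb
  have he1 : e.hom ≫ a = (p ≫ f).fiberι (f x) := hfib.isoIsPullback_hom_fst _ _ hpb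
  have he2 : e.hom ≫ m ≫ g = MoreMor.fiberMap p f (f x) := hfib.isoIsPullback_hom_snd _ _ hpb
  have hee : e.hom (e.inv u') = u' := by
    rw [← Scheme.Hom.comp_apply, e.inv_hom_id]; rfl
  refine ⟨U, p, (p ≫ f).fiberι (f x) (e.inv u'), e.hom ≫ m, e.inv u', hp, ?_, inferInstance,
    by rw [Category.assoc]; exact he2, rfl, ?_⟩
  · rw [← Scheme.Hom.comp_apply, hfib.w, ← he2]
    simp only [Scheme.Hom.comp_apply]
    rw [hee, hmu, hv, Scheme.Hom.fiberι_asFiber]
  · rw [Scheme.Hom.comp_apply, hee, hmu]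

end Groth.Agent.Lib.EtNbhdH8
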