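import Mathlib
import Groth.Agent.Lib.EtGeomConn_helper8

/-!
# Opens with geometrically connected fibres through a given fibre, via a finite locally free
multi-section (S1453), helper8.  APPEND-ONLY once landed.
-/

set_option autoImplicit false
set_option linter.style.haveILetI false
universe u
open CategoryTheory CategoryTheory.Limits AlgebraicGeometry Topology
open Groth.Agent.Lib

namespace SecNbhdH8

section TopC

theorem isLocallyConstructible_compl' {T : Type*} [TopologicalSpace T] {s : Set T}
    (hs : IsLocallyConstructible s) : IsLocallyConstructible sᶜ := by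
  intro x
  obtain ⟨U, hU, hUo, hc⟩ := hs x
  refine ⟨U, hU, hUo, ?_⟩
  have : (Subtype.val ⁻¹' sᶜ : Set U) = (Subtype.val ⁻¹' s : Set U)ᶜ := rfl
  rw [this]
  exact hc.compl

end TopC

section FEfib

variable {S S' X : Scheme.{u}} (f : X ⟶ S) (g : S' ⟶ S)

/-- Generalisation of `exists_mem_component_bc` to an arbitrary base point `w` of `X ×_S S'`. -/
theorem exists_mem_component_bc' [LocallyOfFiniteType f] (w : ↥(pullback f g)) (x : X)
    (hx : x ∈ connectedComponentIn (f ⁻¹' {g ((pullback.snd f g) w)}) ((pullback.fst f g) w)) :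
    ∃ x' : ↥(pullback f g), (pullback.fst f g) x' = x ∧
      x' ∈ connectedComponentIn ((pullback.snd f g) ⁻¹' {(pullback.snd f g) w}) w := by
  set pr := pullback.fst f g with hpr
  set f' := pullback.snd f g with hf'
  set s' := f' w with hs'
  have hc : IsPullback pr f' f g := IsPullback.of_hasPullback f g
  have hA := isPullback_fiberToSpecResidueField_of_isPullback hc s'
  set m : f'.fiber s' ⟶ f.fiber (g s') :=
    pullback.map _ _ _ _ pr (Spec.map (g.residueFieldMap s')) g hc.w.symm (by simp) with hm0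
  have hm : m ≫ f.fiberι (g s') = f'.fiberι s' ≫ pr := pullback.lift_fst _ _ _
  letI alg : Algebra (S.residueField (g s')) (S'.residueField s') :=
    (g.residueFieldMap s').hom.toAlgebra
  haveI : LocallyOfFiniteType (f.fiberToSpecResidueField (g s')) :=
    MorphismProperty.pullback_snd _ _ inferInstance
  set φ := f.fiberToSpecResidueField (g s') with hφ
  let eI := hA.isoPullback
  set π : pullback φ (Spec.map (g.residueFieldMap s')) ⟶ f.fiber (g s') :=
    pullback.fst φ (Spec.map (g.residueFieldMap s')) with hπ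
  have heI : eI.hom ≫ π = m := hA.isoPullback_hom_fst
  have hπe : ∀ z', π (eI.hom z') = m z' := fun z' =>
    (Scheme.Hom.comp_apply eI.hom π z').symm.trans
      (congrArg (fun k : f'.fiber s' ⟶ f.fiber (g s') => k z') heI)
  have hmι : ∀ z', f.fiberι (g s') (m z') = pr (f'.fiberι s' z') := fun z' =>
    (Scheme.Hom.comp_apply m (f.fiberι (g s')) z').symm.trans
      ((congrArg (fun k : f'.fiber s' ⟶ X => k z') hm).trans
        (Scheme.Hom.comp_apply (f'.fiberι s') pr z'))
  have heinv : ∀ w', eI.hom (eI.inv w') = w' := fun w' =>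
    (Scheme.Hom.comp_apply eI.inv eI.hom w').symm.trans
      (congrArg (fun k : pullback φ (Spec.map (g.residueFieldMap s')) ⟶ _ => k w') eI.inv_hom_id)
  have hehom : ∀ z', eI.inv (eI.hom z') = z' := fun z' =>
    (Scheme.Hom.comp_apply eI.hom eI.inv z').symm.trans
      (congrArg (fun k : f'.fiber s' ⟶ f'.fiber s' => k z') eI.hom_inv_id)
  obtain ⟨a'', ha''⟩ : w ∈ Set.range (f'.fiberι s') := by
    rw [Scheme.Hom.range_fiberι]; rfl
  have hma : f.fiberι (g s') (m a'') = pr w := by rw [hmι, ha'']
  have hfx : f x = g s' := connectedComponentIn_subset (f ⁻¹' {g s'}) (pr w) hx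
  obtain ⟨x0, hx0⟩ : x ∈ Set.range (f.fiberι (g s')) := by
    rw [Scheme.Hom.range_fiberι]; exact hfx
  have hx0c : x0 ∈ connectedComponent (m a'') := by
    rw [← SecCompBCH4.preimage_fiberι_cc f (g s') (m a'')]
    show f.fiberι (g s') x0 ∈ connectedComponentIn (f ⁻¹' {g s'}) (f.fiberι (g s') (m a''))
    rw [hx0, hma]; exact hx
  have hFE := connectedComponent_subset_image_bc (k := S.residueField (g s')) φ
    (S'.residueField s') (eI.hom a'')
  have hx0c' : x0 ∈ connectedComponent ((FBase.bcπ (k := S.residueField (g s')) φ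
      (S'.residueField s')) (eI.hom a'')) := by
    have : (FBase.bcπ (k := S.residueField (g s')) φ (S'.residueField s')) (eI.hom a'') = m a'' :=
      hπe a''
    rw [this]; exact hx0c
  obtain ⟨w', hw', hwx⟩ := hFE hx0c'
  have hwx' : π w' = x0 := hwx
  refine ⟨f'.fiberι s' (eI.inv w'), ?_, ?_⟩
  · rw [← hmι, ← hπe, heinv, hwx', hx0]
  · have h1 : eI.inv w' ∈ connectedComponent a'' := by
      have h2 := Continuous.image_connectedComponent_subset eI.inv.continuous (eI.hom a'')
        ⟨w', hw', rfl⟩
      rw [hehom] at h2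
      exact h2
    rw [← SecCompBCH4.preimage_fiberι_cc f' s' a''] at h1
    have h3 : f'.fiberι s' (eI.inv w') ∈
        connectedComponentIn (f' ⁻¹' {s'}) (f'.fiberι s' a'') := h1
    rw [ha''] at h3
    exact h3

end FEfib

section GC

/-- A fibre which is (topologically) connected and has a rational point is geometrically
connected. -/
theorem geometricallyConnected_fiber_of_point {P Z : Scheme.{u}} (b : P ⟶ Z) (z : Z)
    (ρ : Spec (Z.residueField z) ⟶ P) (hρ : ρ ≫ b = Z.fromSpecResidueField z)
    (hconn : _root_.IsPreconnected (b ⁻¹' {z})) :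
    GeometricallyConnected (b.fiberToSpecResidueField z) := by
  let τ : Spec (Z.residueField z) ⟶ b.fiber z :=
    pullback.lift ρ (𝟙 _) (by rw [hρ, Category.id_comp])
  have hτ : τ ≫ b.fiberToSpecResidueField z = 𝟙 _ := pullback.lift_snd _ _ _
  have hpre : _root_.IsPreconnected (Set.univ : Set ↥(b.fiber z)) := by
    rw [← (b.fiberι z).isEmbedding.isInducing.isPreconnected_image, Set.image_univ,
      Scheme.Hom.range_fiberι]
    exact hconn
  obtain ⟨pt⟩ : Nonempty (Spec (Z.residueField z)) :=
    inferInstanceAs (Nonempty (PrimeSpectrum (Z.residueField z)))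
  haveI : Nonempty ↥(b.fiber z) := ⟨τ pt⟩
  haveI : PreconnectedSpace ↥(b.fiber z) := ⟨hpre⟩
  haveI : ConnectedSpace ↥(b.fiber z) := { toNonempty := inferInstance }
  haveI : Nonempty ↥(Spec (Z.residueField z)) := ⟨pt⟩
  haveI : GeometricallyConnected (τ ≫ b.fiberToSpecResidueField z) := by
    rw [hτ]; exact ConnMiscH4.geomConn_id _
  exact GeomConnPtH4.main2502 (k := Z.residueField z) τ (b.fiberToSpecResidueField z)

end GC


section Claims

variable {X Y Z : Scheme.{u}} (f : X ⟶ Y) (g : Z ⟶ Y) (σ : Z ⟶ X) (hσ : σ ≫ f = g)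

/-- the section of `X ×_Y Z → Z` induced by `σ` -/
noncomputable def msec : Z ⟶ pullback f g :=
  pullback.lift σ (𝟙 Z) (by rw [hσ, Category.id_comp])

/-- the "good" set: points all of whose preimages in `X ×_Y Z` lie in the section components -/
def goodSet : Set X :=
  {x | ∀ w : ↥(pullback f g), (pullback.fst f g) w = x →
    w ∈ MoreMor.sectionComponents (pullback.snd f g) (msec f g σ hσ)}

theorem msec_snd : msec f g σ hσ ≫ pullback.snd f g = 𝟙 Z := pullback.lift_snd _ _ _

theorem msec_fst : msec f g σ hσ ≫ pullback.fst f g = σ := pullback.lift_fst _ _ _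

theorem snd_msec_apply (z : Z) : (pullback.snd f g) ((msec f g σ hσ) z) = z :=
  (Scheme.Hom.comp_apply _ _ z).symm.trans (congrArg (fun k : Z ⟶ Z => k z) (msec_snd f g σ hσ))

theorem fst_msec_apply (z : Z) : (pullback.fst f g) ((msec f g σ hσ) z) = σ z :=
  (Scheme.Hom.comp_apply _ _ z).symm.trans (congrArg (fun k : Z ⟶ X => k z) (msec_fst f g σ hσ))

theorem f_fst_apply (w : ↥(pullback f g)) :
    f ((pullback.fst f g) w) = g ((pullback.snd f g) w) :=
  (Scheme.Hom.comp_apply _ f w).symm.trans
    ((congrArg (fun k : pullback f g ⟶ Y => k w) pullback.condition).trans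
      (Scheme.Hom.comp_apply _ g w))

include hσ in
theorem f_sigma_apply (z : Z) : f (σ z) = g z :=
  (Scheme.Hom.comp_apply σ f z).symm.trans (congrArg (fun k : Z ⟶ Y => k z) hσ)

/-- the image of a section component lies in the component of `σ z` -/
theorem fst_mem_of_mem_component (z : Z) (w : ↥(pullback f g))
    (hw : w ∈ connectedComponentIn ((pullback.snd f g) ⁻¹' {z}) ((msec f g σ hσ) z)) :
    (pullback.fst f g) w ∈ connectedComponentIn (f ⁻¹' {g z}) (σ z) := by
  have hT : _root_.IsPreconnected ((pullback.fst f g) ''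
      connectedComponentIn ((pullback.snd f g) ⁻¹' {z}) ((msec f g σ hσ) z)) :=
    isPreconnected_connectedComponentIn.image _ (pullback.fst f g).continuous.continuousOn
  have hsub : (pullback.fst f g) ''
      connectedComponentIn ((pullback.snd f g) ⁻¹' {z}) ((msec f g σ hσ) z) ⊆ f ⁻¹' {g z} := by
    rintro _ ⟨t, ht, rfl⟩
    have ht' : (pullback.snd f g) t = z :=
      connectedComponentIn_subset ((pullback.snd f g) ⁻¹' {z}) ((msec f g σ hσ) z) ht
    show f ((pullback.fst f g) t) = g z
    rw [f_fst_apply, ht']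
  have hmem : σ z ∈ (pullback.fst f g) ''
      connectedComponentIn ((pullback.snd f g) ⁻¹' {z}) ((msec f g σ hσ) z) :=
    ⟨(msec f g σ hσ) z, mem_connectedComponentIn (snd_msec_apply f g σ hσ z),
      fst_msec_apply f g σ hσ z⟩
  exact hT.subset_connectedComponentIn hmem hsub ⟨w, hw, rfl⟩

/-- C1 -/
theorem mem_component_of_mem_goodSet (x : X) (hx : x ∈ goodSet f g σ hσ) (z : Z)
    (hz : g z = f x) : x ∈ connectedComponentIn (f ⁻¹' {g z}) (σ z) := by
  obtain ⟨w, hw1, hw2⟩ := Scheme.Pullback.exists_preimage_pullback (f := f) (g := g) x z hz.symm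
  have hwW := hx w hw1
  have hwc := (mem_sectionComponents_iff (pullback.snd f g) (msec f g σ hσ) w z hw2).mp hwW
  have := fst_mem_of_mem_component f g σ hσ z w hwc
  rw [hw1] at this
  exact this

/-- C4 -/
theorem component_subset_goodSet [LocallyOfFiniteType f] (x : X) (hx : x ∈ goodSet f g σ hσ) :
    connectedComponentIn (f ⁻¹' {f x}) x ⊆ goodSet f g σ hσ := by
  intro x₂ hx₂ w₂ hw₂
  set f' := pullback.snd f g with hf'
  set pr := pullback.fst f g with hpr
  have hfx₂ : f x₂ = f x := connectedComponentIn_subset (f ⁻¹' {f x}) x hx₂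
  have hgz₂ : g (f' w₂) = f x := by rw [← f_fst_apply, hw₂]; exact hfx₂
  have hx' : x ∈ connectedComponentIn (f ⁻¹' {g (f' w₂)}) (pr w₂) := by
    rw [hgz₂, hw₂, ← connectedComponentIn_eq hx₂]
    exact mem_connectedComponentIn rfl
  obtain ⟨w₃, hw₃1, hw₃2⟩ := exists_mem_component_bc' f g w₂ x hx'
  have hw₃W := hx w₃ hw₃1
  have hf'w₃ : f' w₃ = f' w₂ := connectedComponentIn_subset (f' ⁻¹' {f' w₂}) w₂ hw₃2
  have hw₃c := (mem_sectionComponents_iff f' (msec f g σ hσ) w₃ (f' w₂) hf'w₃).mp hw₃W
  refine (mem_sectionComponents_iff f' (msec f g σ hσ) w₂ (f' w₂) rfl).mpr ?_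
  rw [connectedComponentIn_eq hw₃c, ← connectedComponentIn_eq hw₃2]
  exact mem_connectedComponentIn rfl

/-- C5: the trace of the good set on a fibre over a point of `g(Z)` is a connected component
of the fibre (or empty). -/
theorem goodSet_inter_fiber [LocallyOfFiniteType f] (x : X) (hx : x ∈ goodSet f g σ hσ) (z : Z)
    (hz : g z = f x) :
    goodSet f g σ hσ ∩ f ⁻¹' {f x} = connectedComponentIn (f ⁻¹' {g z}) (σ z) := by
  have h1 := mem_component_of_mem_goodSet f g σ hσ x hx z hz
  apply Set.Subset.antisymm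
  · rintro x₃ ⟨hx₃, hfx₃⟩
    have hfx₃' : f x₃ = f x := hfx₃
    exact mem_component_of_mem_goodSet f g σ hσ x₃ hx₃ z (hz.trans hfx₃'.symm)
  · intro x₃ hx₃
    have h2 : connectedComponentIn (f ⁻¹' {g z}) (σ z) = connectedComponentIn (f ⁻¹' {f x}) x := by
      rw [connectedComponentIn_eq h1, hz]
    rw [h2] at hx₃
    exact ⟨component_subset_goodSet f g σ hσ x hx hx₃,
      connectedComponentIn_subset (f ⁻¹' {f x}) x hx₃⟩

/-- C6 -/
theorem preimage_goodSet_inter_fiber [LocallyOfFiniteType f] (x : X) (hx : x ∈ goodSet f g σ hσ)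
    (z : Z) (hz : g z = f x) :
    (pullback.fst f g) ⁻¹' (goodSet f g σ hσ) ∩ (pullback.snd f g) ⁻¹' {z} =
      connectedComponentIn ((pullback.snd f g) ⁻¹' {z}) ((msec f g σ hσ) z) := by
  apply Set.Subset.antisymm
  · rintro w ⟨hw1, hw2⟩
    have hw2' : (pullback.snd f g) w = z := hw2
    exact (mem_sectionComponents_iff (pullback.snd f g) (msec f g σ hσ) w z hw2').mp
      (hw1 w rfl)
  · intro w hw
    have hw2 : (pullback.snd f g) w = z :=
      connectedComponentIn_subset ((pullback.snd f g) ⁻¹' {z}) ((msec f g σ hσ) z) hw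
    refine ⟨?_, hw2⟩
    have h1 := fst_mem_of_mem_component f g σ hσ z w hw
    rw [← goodSet_inter_fiber f g σ hσ x hx z hz] at h1
    exact h1.1

end Claims


section Main

variable {X Y Z : Scheme.{u}} (f : X ⟶ Y) (g : Z ⟶ Y) (σ : Z ⟶ X) (hσ : σ ≫ f = g)

/-- geometric connectedness of the fibre of `U := goodSet ∩ f⁻¹V` over a point `g z` of `V`. -/
theorem geometricallyConnected_fiber_goodSet [LocallyOfFiniteType f] (U : X.Opens) (V : Y.Opens)
    (hU : (U : Set X) = goodSet f g σ hσ ∩ f ⁻¹' (V : Set Y)) (x : X) (hxU : x ∈ U) (z : Z)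
    (hz : g z = f x) :
    GeometricallyConnected ((U.ι ≫ f).fiberToSpecResidueField (g z)) := by
  set pr := pullback.fst f g with hpr
  set f' := pullback.snd f g with hf'
  set σ' := msec f g σ hσ with hσ'
  have hxU' : x ∈ goodSet f g σ hσ ∩ f ⁻¹' (V : Set Y) := by rw [← hU]; exact hxU
  have hxg : x ∈ goodSet f g σ hσ := hxU'.1
  have hxV : f x ∈ V := hxU'.2
  let U' : (pullback f g).Opens := pr ⁻¹ᵁ U
  set b : (U' : Scheme.{u}) ⟶ Z := U'.ι ≫ f' with hb
  -- the pullback square
  have sqL : IsPullback U'.ι (pr ∣_ U) pr U.ι := (isPullback_morphismRestrict pr U).flip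
  have sqR : IsPullback f' pr g f := (IsPullback.of_hasPullback f g).flip
  have hc' : IsPullback (pr ∣_ U) b (U.ι ≫ f) g := (sqL.paste_horiz sqR).flip
  have hA' := isPullback_fiberToSpecResidueField_of_isPullback hc' z
  -- membership of the section point
  have hσzU : σ z ∈ U := by
    have h1 : σ z ∈ connectedComponentIn (f ⁻¹' {g z}) (σ z) :=
      mem_connectedComponentIn (f_sigma_apply f g σ hσ z)
    rw [← goodSet_inter_fiber f g σ hσ x hxg z hz] at h1
    have : σ z ∈ goodSet f g σ hσ ∩ f ⁻¹' (V : Set Y) := by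
      refine ⟨h1.1, ?_⟩
      show f (σ z) ∈ V
      rw [f_sigma_apply f g σ hσ z, hz]; exact hxV
    rw [← hU] at this
    exact this
  have hσ'zU' : σ' z ∈ U' := by
    show pr (σ' z) ∈ U
    rw [fst_msec_apply]; exact hσzU
  -- the rational point
  have hrange : Set.range (Z.fromSpecResidueField z ≫ σ') ⊆ Set.range U'.ι := by
    rintro _ ⟨t, rfl⟩
    rw [Scheme.Opens.range_ι, Scheme.Hom.comp_apply, Scheme.fromSpecResidueField_apply]
    exact hσ'zU'
  let ρ : Spec (Z.residueField z) ⟶ (U' : Scheme.{u}) :=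
    IsOpenImmersion.lift U'.ι (Z.fromSpecResidueField z ≫ σ') hrange
  have hρι : ρ ≫ U'.ι = Z.fromSpecResidueField z ≫ σ' := IsOpenImmersion.lift_fac _ _ _
  have hρ : ρ ≫ b = Z.fromSpecResidueField z := by
    rw [hb, ← Category.assoc, hρι, Category.assoc, msec_snd, Category.comp_id]
  -- connectedness of the fibre
  have himg : U'.ι '' (b ⁻¹' {z}) =
      connectedComponentIn (f' ⁻¹' {z}) (σ' z) := by
    rw [← preimage_goodSet_inter_fiber f g σ hσ x hxg z hz]
    ext w
    constructor
    · rintro ⟨v, hv, rfl⟩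
      have hv' : f' (U'.ι v) = z := by
        rw [← Scheme.Hom.comp_apply]; exact hv
      refine ⟨?_, hv'⟩
      have h1 : pr (U'.ι v) ∈ U := v.2
      have h2 : pr (U'.ι v) ∈ goodSet f g σ hσ ∩ f ⁻¹' (V : Set Y) := by rw [← hU]; exact h1
      exact h2.1
    · rintro ⟨hw1, hw2⟩
      have hw2' : f' w = z := hw2
      have hwU : pr w ∈ U := by
        have : pr w ∈ goodSet f g σ hσ ∩ f ⁻¹' (V : Set Y) := by
          refine ⟨hw1, ?_⟩
          show f (pr w) ∈ V
          rw [f_fst_apply, hw2', hz]; exact hxV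
        rw [← hU] at this
        exact this
      refine ⟨⟨w, hwU⟩, ?_, rfl⟩
      show b ⟨w, hwU⟩ = z
      rw [hb, Scheme.Hom.comp_apply]
      exact hw2'
  have hconn : _root_.IsPreconnected (b ⁻¹' {z}) := by
    rw [← U'.ι.isEmbedding.isInducing.isPreconnected_image, himg]
    exact isPreconnected_connectedComponentIn
  have hγ : GeometricallyConnected (b.fiberToSpecResidueField z) :=
    geometricallyConnected_fiber_of_point b z ρ hρ hconn
  -- descent
  letI alg : Algebra (IsLocalRing.ResidueField (Y.presheaf.stalk (g z))) (Z.residueField z) :=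
    (g.residueFieldMap z).hom.toAlgebra
  set φ' := (U.ι ≫ f).fiberToSpecResidueField (g z) with hφ'
  have e := hA'.isoPullback_hom_snd
  have h2 : GeometricallyConnected (pullback.snd φ' (Spec.map (g.residueFieldMap z))) := by
    have h3 := hγ
    rw [← e] at h3
    exact (MorphismProperty.cancel_left_of_respectsIso @GeometricallyConnected _ _).mp h3
  have h1 : geometrically (fun X => ConnectedSpace X)
      (FBase.bcStr (k := IsLocalRing.ResidueField (Y.presheaf.stalk (g z))) φ'
        (Z.residueField z)) :=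
    h2.geometrically_connectedSpace
  exact ⟨GeomBC_helper4.geometrically_of_bcStr
    (k := IsLocalRing.ResidueField (Y.presheaf.stalk (g z)))
    GeomBC_helper4.descendsFlatSurj_connected φ' (Z.residueField z) h1⟩

end Main


section Final

/-- S1453 -/
theorem main1453 {X Y Z : Scheme.{u}} (f : X ⟶ Y) [Flat f] [LocallyOfFinitePresentation f]
    [QuasiCompact f] [QuasiSeparated f] [hgr : GeometricallyReduced f] (g : Z ⟶ Y)
    (hg : Mor2.IsFinLocFree g) (σ : Z ⟶ X) (hσ : σ ≫ f = g) (y : Y) (hZy : y ∈ Set.range ⇑g)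
    (hXy : GeometricallyConnected (f.fiberToSpecResidueField y)) :
    ∃ U : X.Opens, IsCompact (U : Set ↑X) ∧ f ⁻¹' {y} ⊆ (U : Set ↑X) ∧
      ∀ y' : Y, (∃ x ∈ U, f x = y') →
        GeometricallyConnected ((U.ι ≫ f).fiberToSpecResidueField y') := by
  classical
  obtain ⟨hgfin, hgflat, hglfp⟩ := hg
  haveI := hgfin
  haveI := hgflat
  haveI := hglfp
  set pr := pullback.fst f g with hpr
  set f' := pullback.snd f g with hf'
  set σ' := msec f g σ hσ with hσ'
  haveI : Flat f' := MorphismProperty.pullback_snd _ _ inferInstance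
  haveI : LocallyOfFinitePresentation f' := MorphismProperty.pullback_snd _ _ inferInstance
  haveI : QuasiCompact f' := MorphismProperty.pullback_snd _ _ inferInstance
  haveI : QuasiSeparated f' := MorphismProperty.pullback_snd _ _ inferInstance
  haveI : GeometricallyReduced f' := MorphismProperty.pullback_snd _ _ hgr
  haveI : IsFinite pr := MorphismProperty.pullback_fst _ _ inferInstance
  haveI : LocallyOfFinitePresentation pr := MorphismProperty.pullback_fst _ _ inferInstance
  set W := MoreMor.sectionComponents f' σ' with hW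
  have hWo : IsOpen W := by
    rw [← subset_interior_iff_isOpen]
    intro w hw
    have hw' : w ∈ connectedComponentIn (f' ⁻¹' {f' w}) (σ' (f' w)) := hw
    refine main4953 f' σ' (msec_snd f g σ hσ) (f' w) ?_ hw'
    intro x' _ K _ _ z _
    have hred : IsReduced (FBase.bc (f'.fiberToSpecResidueField (f' w)) K) :=
      (inferInstance : GeometricallyReduced
        (f'.fiberToSpecResidueField (f' w))).geometrically_isReduced
        _ _ _ (IsPullback.of_hasPullback _ _)
    exact inferInstanceAs (_root_.IsReduced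
      ((FBase.bc (f'.fiberToSpecResidueField (f' w)) K).presheaf.stalk z))
  have hWc : IsLocallyConstructible W := GeomConnH8.main1326 f' σ' (msec_snd f g σ hσ)
  have hBcl : IsClosed (pr '' Wᶜ) := pr.isClosedMap _ hWo.isClosed_compl
  have hBc : IsLocallyConstructible (pr '' Wᶜ) := pr.isLocallyConstructible_image (isLocallyConstructible_compl' hWc)
  have hgood : goodSet f g σ hσ = (pr '' Wᶜ)ᶜ := by
    ext x
    simp only [goodSet, Set.mem_ofPred_eq, Set.mem_compl_iff, Set.mem_image, not_exists, not_and]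
    constructor
    · intro h w hw hwx
      exact hw (h w hwx)
    · intro h w hwx
      by_contra hw
      exact h w hw hwx
  have hgo : IsOpen (goodSet f g σ hσ) := by rw [hgood]; exact hBcl.isOpen_compl
  have hgc : IsLocallyConstructible (goodSet f g σ hσ) := by rw [hgood]; exact isLocallyConstructible_compl' hBc
  -- an affine neighbourhood of `y` inside `g(Z)`
  have hgopen : IsOpen (Set.range g) := g.isOpenMap.isOpen_range
  obtain ⟨V, hV, hyV, hVsub⟩ := exists_isAffineOpen_mem_and_subset (X := Y) (x := y)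
    (U := ⟨Set.range g, hgopen⟩) hZy
  let U : X.Opens := ⟨goodSet f g σ hσ ∩ f ⁻¹' (V : Set Y), hgo.inter (f ⁻¹ᵁ V).2⟩
  have hUdef : (U : Set X) = goodSet f g σ hσ ∩ f ⁻¹' (V : Set Y) := rfl
  refine ⟨U, ?_, ?_, ?_⟩
  · -- compactness
    haveI : IsAffine (V : Scheme.{u}) := hV
    have hXVc : IsCompact ((f ⁻¹ᵁ V : X.Opens) : Set X) :=
      QuasiCompact.isCompact_preimage (f := f) _ V.2 hV.isCompact
    haveI : CompactSpace ↥((f ⁻¹ᵁ V : X.Opens) : Scheme.{u}) := isCompact_iff_compactSpace.mp hXVc
    haveI : QuasiSeparatedSpace ↥((f ⁻¹ᵁ V : X.Opens) : Scheme.{u}) :=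
      quasiSeparatedSpace_of_quasiSeparated (f ∣_ V)
    have h1 : IsLocallyConstructible ((f ⁻¹ᵁ V).ι ⁻¹' (goodSet f g σ hσ)) :=
      hgc.preimage_of_isOpenEmbedding (f ⁻¹ᵁ V).ι.isOpenEmbedding
    have h2 : IsCompact ((f ⁻¹ᵁ V).ι ⁻¹' (goodSet f g σ hσ)) :=
      isCompact_of_isConstructible' h1.isConstructible
    have h3 : (U : Set X) = (f ⁻¹ᵁ V).ι '' ((f ⁻¹ᵁ V).ι ⁻¹' (goodSet f g σ hσ)) := by
      rw [Set.image_preimage_eq_inter_range, Scheme.Opens.range_ι]
      rfl
    rw [h3]
    exact h2.image (f ⁻¹ᵁ V).ι.continuous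
  · -- the fibre over `y`
    intro x hx
    have hfx : f x = y := hx
    refine ⟨?_, by show f x ∈ V; rw [hfx]; exact hyV⟩
    intro w hw
    have hgz : g (f' w) = y := by rw [← f_fst_apply, hw]; exact hfx
    subst hgz
    have hc : IsPullback pr f' f g := IsPullback.of_hasPullback f g
    have hA := isPullback_fiberToSpecResidueField_of_isPullback hc (f' w)
    haveI : GeometricallyConnected (f'.fiberToSpecResidueField (f' w)) :=
      MorphismProperty.of_isPullback hA hXy
    haveI : Nonempty ↥(Spec (Z.residueField (f' w))) :=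
      inferInstanceAs (Nonempty (PrimeSpectrum (Z.residueField (f' w))))
    haveI : Subsingleton ↥(Spec (Z.residueField (f' w))) :=
      inferInstanceAs (Subsingleton (PrimeSpectrum (Z.residueField (f' w))))
    haveI : ConnectedSpace ↥(f'.fiber (f' w)) :=
      GeometricallyConnected.connectedSpace_of_subsingleton (f'.fiberToSpecResidueField (f' w))
    have hpre : _root_.IsPreconnected (f' ⁻¹' {f' w}) := by
      rw [← Scheme.Hom.range_fiberι, ← Set.image_univ]
      exact isPreconnected_univ.image _ (f'.fiberι (f' w)).continuous.continuousOn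
    have hsub := hpre.subset_connectedComponentIn (snd_msec_apply f g σ hσ (f' w)) subset_rfl
    exact (mem_sectionComponents_iff f' σ' w (f' w) rfl).mpr (hsub rfl)
  · rintro y' ⟨x, hxU, rfl⟩
    have hxV : f x ∈ V := hxU.2
    obtain ⟨z, hz⟩ := hVsub hxV
    have key := geometricallyConnected_fiber_goodSet f g σ hσ U V hUdef x hxU z hz
    rw [hz] at key
    exact key

end Final

end SecNbhdH8
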