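import Mathlib
import Groth.Agent.Lib.MultiSec_helper8
import Groth.Agent.S1353

/-!
# S1356: geometrically connected open of a fibre spreads out after an elementary étale
neighbourhood (helper8).  APPEND-ONLY once landed.
-/

set_option autoImplicit false
set_option linter.style.haveILetI false
universe u
open CategoryTheory CategoryTheory.Limits AlgebraicGeometry Topology
open Groth.Agent.Lib

namespace SecNbhdH8

section L1

/-- A quasi-compact open of `Y`, inside `h⁻¹(S₁)`, whose trace on the fibre over `s` is the given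
open `T` of the fibre. -/
theorem exists_compact_open_fiber_eq {Y S : Scheme.{u}} (h : Y ⟶ S) [LocallyOfFiniteType h]
    [QuasiCompact h] (s : S) (T : (h.fiber s).Opens) (S₁ : S.Opens) (hs : s ∈ S₁) :
    ∃ Y₀ : Y.Opens, IsCompact (Y₀ : Set Y) ∧ Y₀ ≤ h ⁻¹ᵁ S₁ ∧
      (h.fiberι s) ⁻¹' (Y₀ : Set Y) = (T : Set ↥(h.fiber s)) := by
  classical
  haveI : LocallyOfFiniteType (h.fiberToSpecResidueField s) :=
    MorphismProperty.pullback_snd _ _ inferInstance
  haveI : QuasiCompact (h.fiberToSpecResidueField s) :=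
    MorphismProperty.pullback_snd _ _ inferInstance
  haveI : IsLocallyNoetherian (h.fiber s) :=
    LocallyOfFiniteType.isLocallyNoetherian (h.fiberToSpecResidueField s)
  haveI : CompactSpace ↥(h.fiber s) :=
    QuasiCompact.compactSpace_of_compactSpace (h.fiberToSpecResidueField s)
  haveI : IsNoetherian (h.fiber s) := {}
  have hTc : IsCompact (T : Set ↥(h.fiber s)) := TopologicalSpace.NoetherianSpace.isCompact _
  obtain ⟨O, hOo, hOT⟩ := (h.fiberι s).isEmbedding.isInducing.isOpen_iff.mp T.2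
  have hfib : ∀ t : ↥(h.fiber s), h (h.fiberι s t) = s := fun t => by
    have : h.fiberι s t ∈ Set.range (h.fiberι s) := Set.mem_range_self t
    rw [Scheme.Hom.range_fiberι] at this
    exact this
  have key : ∀ t : T, ∃ A : Y.Opens, IsAffineOpen A ∧ h.fiberι s t.1 ∈ A ∧
      A ≤ (⟨O, hOo⟩ : Y.Opens) ⊓ h ⁻¹ᵁ S₁ := by
    intro t
    have hmem : h.fiberι s t.1 ∈ (⟨O, hOo⟩ : Y.Opens) ⊓ h ⁻¹ᵁ S₁ := by
      refine ⟨?_, ?_⟩
      · have : t.1 ∈ (h.fiberι s) ⁻¹' O := by rw [hOT]; exact t.2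
        exact this
      · show h (h.fiberι s t.1) ∈ S₁
        rw [hfib]; exact hs
    exact exists_isAffineOpen_mem_and_subset (X := Y) (x := h.fiberι s t.1) hmem
  choose A hA hAt hAsub using key
  obtain ⟨F, hF⟩ := hTc.elim_finite_subcover (fun t : T => (h.fiberι s) ⁻¹' (A t : Set Y))
    (fun t => (A t).2.preimage (h.fiberι s).continuous)
    (fun t ht => Set.mem_iUnion.mpr ⟨⟨t, ht⟩, hAt ⟨t, ht⟩⟩)
  let Y₀ : Y.Opens := ⟨⋃ t ∈ F, (A t : Set Y), isOpen_biUnion fun t _ => (A t).2⟩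
  refine ⟨Y₀, ?_, ?_, ?_⟩
  · exact F.isCompact_biUnion fun t _ => (hA t).isCompact
  · intro y hy
    obtain ⟨t, ht, hyt⟩ := Set.mem_iUnion₂.mp hy
    exact (hAsub t hyt).2
  · apply Set.Subset.antisymm
    · intro t ht
      obtain ⟨t', ht', hyt⟩ := Set.mem_iUnion₂.mp ht
      have : t ∈ (h.fiberι s) ⁻¹' O := (hAsub t' hyt).1
      rw [hOT] at this
      exact this
    · intro t ht
      obtain ⟨t', ht', hyt⟩ := Set.mem_iUnion₂.mp (hF ht)
      exact Set.mem_iUnion₂.mpr ⟨t', ht', hyt⟩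

end L1

section L2

theorem quasiCompact_snd_of_mono {Y₀ S'' S₁ S : Scheme.{u}} (h₀' : Y₀ ⟶ S) (g : S'' ⟶ S)
    (i : S₁ ⟶ S) [Mono i] (h₀₁ : Y₀ ⟶ S₁) (g₁ : S'' ⟶ S₁) (e₁ : h₀₁ ≫ i = h₀') (e₂ : g₁ ≫ i = g)
    [QuasiCompact h₀₁] : QuasiCompact (pullback.snd h₀' g) := by
  subst e₁ e₂
  have hright : IsPullback (𝟙 S'') g₁ (g₁ ≫ i) i := by
    have h1 : IsPullback (𝟙 S'') g₁ g₁ (𝟙 S₁) := IsPullback.id_horiz g₁
    have h2 : IsPullback (𝟙 S₁) (𝟙 S₁) i i := (IsKernelPair.id_of_mono i)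
    have := h1.paste_vert h2
    simpa using this
  have houter : IsPullback (pullback.snd (h₀₁ ≫ i) (g₁ ≫ i) ≫ 𝟙 S'')
      (pullback.fst (h₀₁ ≫ i) (g₁ ≫ i)) (g₁ ≫ i) (h₀₁ ≫ i) := by
    rw [Category.comp_id]
    exact (IsPullback.of_hasPullback _ _).flip
  have hcomm : pullback.snd (h₀₁ ≫ i) (g₁ ≫ i) ≫ g₁ = pullback.fst (h₀₁ ≫ i) (g₁ ≫ i) ≫ h₀₁ := by
    rw [← cancel_mono i, Category.assoc, Category.assoc, pullback.condition]
  have hleft : IsPullback (pullback.snd (h₀₁ ≫ i) (g₁ ≫ i))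
      (pullback.fst (h₀₁ ≫ i) (g₁ ≫ i)) g₁ h₀₁ :=
    IsPullback.of_right houter hcomm hright
  exact MorphismProperty.of_isPullback hleft.flip inferInstance

end L2

section L3

theorem geometricallyConnected_fiber_open {Y S : Scheme.{u}} (h : Y ⟶ S) (Y₀ : Y.Opens) (s : S)
    (T : (h.fiber s).Opens) (hT₀ : (h.fiberι s) ⁻¹' (Y₀ : Set Y) = (T : Set ↥(h.fiber s)))
    (hT : GeometricallyConnected (T.ι ≫ h.fiberToSpecResidueField s)) :
    GeometricallyConnected ((Y₀.ι ≫ h).fiberToSpecResidueField s) := by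
  let p : (Y₀.ι ≫ h).fiber s ⟶ h.fiber s :=
    pullback.map (Y₀.ι ≫ h) (S.fromSpecResidueField s) h (S.fromSpecResidueField s) Y₀.ι (𝟙 _)
      (𝟙 S) (by simp) (by simp)
  haveI : IsOpenImmersion p :=
    inferInstanceAs (IsOpenImmersion (pullback.map (Y₀.ι ≫ h) (S.fromSpecResidueField s) h
      (S.fromSpecResidueField s) Y₀.ι (𝟙 _) (𝟙 S) (by simp) (by simp)))
  have hp1 : p ≫ h.fiberι s = (Y₀.ι ≫ h).fiberι s ≫ Y₀.ι := pullback.lift_fst _ _ _
  have hp2 : p ≫ h.fiberToSpecResidueField s = (Y₀.ι ≫ h).fiberToSpecResidueField s ≫ 𝟙 _ :=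
    pullback.lift_snd _ _ _
  have hrange : Set.range p = Set.range T.ι := by
    rw [Scheme.Opens.range_ι, ← hT₀]
    have := Scheme.Pullback.range_map (f := Y₀.ι ≫ h) (g := S.fromSpecResidueField s) h
      (S.fromSpecResidueField s) Y₀.ι (𝟙 _) (𝟙 S) (by simp) (by simp)
    rw [show Set.range p = _ from this]
    ext t
    simp only [Set.mem_inter_iff, Set.mem_preimage, Scheme.Opens.range_ι, SetLike.mem_coe]
    constructor
    · intro ht; exact ht.1
    · intro ht
      exact ⟨ht, ⟨_, rfl⟩⟩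
  let q := IsOpenImmersion.isoOfRangeEq p T.ι hrange
  have hq : q.hom ≫ T.ι = p := IsOpenImmersion.isoOfRangeEq_hom_fac _ _ _
  have heq : (Y₀.ι ≫ h).fiberToSpecResidueField s =
      q.hom ≫ T.ι ≫ h.fiberToSpecResidueField s := by
    rw [← Category.assoc, hq, hp2, Category.comp_id]
  rw [heq]
  exact (MorphismProperty.cancel_left_of_respectsIso @GeometricallyConnected _ _).mpr hT

end L3


section L4

theorem locallyQuasiFinite_of_unramified' {A B : Scheme.{u}} (g : A ⟶ B) [LocallyOfFiniteType g]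
    [FormallyUnramified g] : LocallyQuasiFinite g := by
  constructor
  intro U hU V hV e
  have h1 := LocallyOfFiniteType.finiteType_appLE (f := g) hU hV e
  have h2 := FormallyUnramified.formallyUnramified_appLE (f := g) hU hV e
  algebraize [(g.appLE U V e).hom]
  have : Algebra.EssFiniteType Γ(B, U) Γ(A, V) := inferInstance
  show Algebra.QuasiFinite _ _
  infer_instance

/-- a smooth point in a fibre: for `h₀` flat lfp with geometrically reduced fibres and nonempty
fibre over `s`, there is a point of the smooth locus over `s`. -/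
theorem exists_mem_smoothLocus_fiber {Y₀ S : Scheme.{u}} (h₀ : Y₀ ⟶ S) [Flat h₀]
    [LocallyOfFinitePresentation h₀] [GeometricallyReduced h₀] (s : S)
    (x0 : ↥(h₀.fiber s)) : ∃ z : Y₀, z ∈ h₀.smoothLocus ∧ h₀ z = s := by
  set φ := h₀.fiberToSpecResidueField s with hφ
  haveI : LocallyOfFinitePresentation φ := MorphismProperty.pullback_snd _ _ inferInstance
  haveI : LocallyOfFiniteType φ := inferInstance
  haveI : GeometricallyReduced φ := inferInstance
  have hZirr : IsIrreducible (irreducibleComponent x0) := isIrreducible_irreducibleComponent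
  have hZcl : IsClosed (irreducibleComponent x0) := isClosed_irreducibleComponent
  set η := hZirr.genericPoint with hη
  have hηgen : IsGenericPoint η (irreducibleComponent x0) :=
    hZirr.isGenericPoint_genericPoint hZcl
  have hηcl : closure {η} ∈ irreducibleComponents ↥(h₀.fiber s) := by
    rw [hηgen.def]; exact irreducibleComponent_mem_irreducibleComponents x0
  have hηsm : η ∈ φ.smoothLocus :=
    GenSmoothGRH6.mem_smoothLocus_of_geometricallyReduced (K := S.residueField s) φ η hηcl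
  set z := h₀.fiberι s η with hz
  have hfz : h₀ z = s := by
    have : z ∈ Set.range (h₀.fiberι s) := Set.mem_range_self η
    rw [Scheme.Hom.range_fiberι] at this
    exact this
  refine ⟨z, ?_, hfz⟩
  haveI : LocallyOfFinitePresentation (h₀.fiberToSpecResidueField (h₀ z)) :=
    MorphismProperty.pullback_snd _ _ inferInstance
  rw [UnramLocH4.main2156 h₀ z]
  refine ⟨Flat.stalkMap h₀ z, ?_⟩
  exact (FibConsH8.fibSm_of_fibre_point h₀ s η z rfl).mp hηsm

end L4


section PartA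

/-- Part A of S1356: an affine elementary étale neighbourhood over which `h₀` acquires a finite
locally free multi-section. -/
theorem exists_multisection {Y₀ S : Scheme.{u}} (h₀ : Y₀ ⟶ S) [Flat h₀]
    [LocallyOfFinitePresentation h₀] [GeometricallyReduced h₀] (s : S)
    (x0 : ↥(h₀.fiber s)) (S₁ : S.Opens) (hsS₁ : s ∈ S₁) :
    ∃ (S'' : Scheme.{u}) (g'' : S'' ⟶ S) (s'' : S''), IsAffine S'' ∧ Hens2.IsEtaleNbhd g'' s'' s ∧
      Set.range g'' ⊆ (S₁ : Set S) ∧
      ∃ (Z'' : Scheme.{u}) (ζ'' : Z'' ⟶ S'') (σ'' : Z'' ⟶ pullback h₀ g''),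
        Mor2.IsFinLocFree ζ'' ∧ σ'' ≫ pullback.snd h₀ g'' = ζ'' ∧ s'' ∈ Set.range ζ'' := by
  classical
  obtain ⟨z, hzsm, hfz⟩ := exists_mem_smoothLocus_fiber h₀ s x0
  let U₁ : Y₀.Opens := h₀.smoothLocus
  haveI : Smooth (U₁.ι ≫ h₀) := by
    rw [← Scheme.Hom.smoothLocus_eq_top_iff, ← Scheme.Hom.preimage_smoothLocus_eq]
    exact Scheme.Opens.ι_preimage_self _
  have hsr : s ∈ Set.range (U₁.ι ≫ h₀) := by
    refine ⟨⟨z, hzsm⟩, ?_⟩
    rw [Scheme.Hom.comp_apply]
    exact hfz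
  obtain ⟨S₁', g₁', s₁', hg₁', hgs₁', e₀, he₀⟩ := SmoothSecH4.main0412 (U₁.ι ≫ h₀) s hsr
  haveI : Etale g₁' := hg₁'
  set e : S₁' ⟶ Y₀ := e₀ ≫ U₁.ι with he_def
  have he : e ≫ h₀ = g₁' := by rw [he_def, Category.assoc]; exact he₀
  haveI : LocallyQuasiFinite g₁' := locallyQuasiFinite_of_unramified' g₁'
  have hqf : g₁'.QuasiFiniteAt s₁' := g₁'.quasiFiniteAt s₁'
  obtain ⟨S', g', s', hnb, V₁, v, hvV₁, hfin, hsndv, -, -, -⟩ :=
    Groth.Agent.S1353.result g₁' s₁' hqf
  haveI : Etale g' := hnb.etale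
  haveI : Etale (pullback.snd g₁' g') := MorphismProperty.pullback_snd _ _ inferInstance
  set ζ : (V₁ : Scheme.{u}) ⟶ S' := V₁.ι ≫ pullback.snd g₁' g' with hζ
  haveI : IsFinite ζ := hfin
  haveI : Etale ζ := inferInstance
  have hζopen : IsOpen (Set.range ζ) := ζ.isOpenMap.isOpen_range
  have hs'1 : s' ∈ Set.range ζ := by
    refine ⟨⟨v, hvV₁⟩, ?_⟩
    rw [hζ, Scheme.Hom.comp_apply]
    exact hsndv
  have hg's' : g' s' = s := hnb.base_eq.trans hgs₁'
  have hs'2 : s' ∈ g' ⁻¹ᵁ S₁ := by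
    show g' s' ∈ S₁
    rw [hg's']; exact hsS₁
  obtain ⟨S'', hS'', hs'S'', hS''sub⟩ := exists_isAffineOpen_mem_and_subset (X := S') (x := s')
    (U := (⟨Set.range ζ, hζopen⟩ : S'.Opens) ⊓ g' ⁻¹ᵁ S₁) ⟨hs'1, hs'2⟩
  haveI : IsAffine (S'' : Scheme.{u}) := hS''
  set g'' : (S'' : Scheme.{u}) ⟶ S := S''.ι ≫ g' with hg''
  let s'' : ↥(S'' : Scheme.{u}) := ⟨s', hs'S''⟩
  let Z'' : (V₁ : Scheme.{u}).Opens := ζ ⁻¹ᵁ S''
  set ζ'' : (Z'' : Scheme.{u}) ⟶ (S'' : Scheme.{u}) := ζ ∣_ S'' with hζ''def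
  have hζ'' : ζ'' ≫ S''.ι = Z''.ι ≫ ζ := morphismRestrict_ι ζ S''
  have hcond : (Z''.ι ≫ V₁.ι ≫ pullback.fst g₁' g' ≫ e) ≫ h₀ = ζ'' ≫ g'' := by
    rw [hg'', ← Category.assoc ζ'', hζ'', hζ]
    simp only [Category.assoc]
    rw [he, pullback.condition]
  let σ'' : (Z'' : Scheme.{u}) ⟶ pullback h₀ g'' :=
    pullback.lift (Z''.ι ≫ V₁.ι ≫ pullback.fst g₁' g' ≫ e) ζ'' hcond
  refine ⟨S'', g'', s'', hS'', ⟨inferInstance, ?_, ?_⟩, ?_, Z'', ζ'', σ'', ?_, ?_, ?_⟩
  · show g'' s'' = s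
    rw [hg'', Scheme.Hom.comp_apply]
    exact hg's'
  · have h1 : g''.residueFieldMap s'' =
        g'.residueFieldMap (S''.ι s'') ≫ S''.ι.residueFieldMap s'' :=
      Scheme.residueFieldMap_comp S''.ι g' s''
    rw [h1]
    have h2 : Function.Bijective (g'.residueFieldMap (S''.ι s'')) := hnb.residue_bijective
    have h3 : Function.Bijective (S''.ι.residueFieldMap s'') :=
      ConcreteCategory.bijective_of_isIso _
    have h4 : ⇑(g'.residueFieldMap (S''.ι s'') ≫ S''.ι.residueFieldMap s'') =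
        ⇑(S''.ι.residueFieldMap s'') ∘ ⇑(g'.residueFieldMap (S''.ι s'')) := by
      ext a; rfl
    exact (congrArg Function.Bijective h4).mpr (h3.comp h2)
  · rintro _ ⟨t, rfl⟩
    have ht : S''.ι t ∈ (⟨Set.range ζ, hζopen⟩ : S'.Opens) ⊓ g' ⁻¹ᵁ S₁ := hS''sub t.2
    show g'' t ∈ S₁
    rw [hg'', Scheme.Hom.comp_apply]
    exact ht.2
  · exact ⟨inferInstance, inferInstance, inferInstance⟩
  · exact pullback.lift_snd _ _ _
  · have hvZ : (⟨v, hvV₁⟩ : ↥(V₁ : Scheme.{u})) ∈ Z'' := by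
      show ζ ⟨v, hvV₁⟩ ∈ S''
      have : ζ ⟨v, hvV₁⟩ = s' := by
        rw [hζ, Scheme.Hom.comp_apply]
        exact hsndv
      rw [this]; exact hs'S''
    refine ⟨⟨⟨v, hvV₁⟩, hvZ⟩, ?_⟩
    apply Subtype.ext
    have h1 : S''.ι (ζ'' ⟨⟨v, hvV₁⟩, hvZ⟩) = ζ (Z''.ι ⟨⟨v, hvV₁⟩, hvZ⟩) := by
      rw [← Scheme.Hom.comp_apply, hζ'', Scheme.Hom.comp_apply]
    have h2 : ζ (Z''.ι ⟨⟨v, hvV₁⟩, hvZ⟩) = s' := by
      rw [hζ, Scheme.Hom.comp_apply]
      exact hsndv
    exact h1.trans h2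

end PartA


section PartB

set_option maxHeartbeats 800000 in
/-- S1356 -/
theorem main1356 {Y S : Scheme.{u}} (h : Y ⟶ S) [Flat h] [LocallyOfFinitePresentation h]
    [QuasiCompact h] [QuasiSeparated h] [hgr : GeometricallyReduced h] (s : S)
    (T : (h.fiber s).Opens)
    (hT : GeometricallyConnected (T.ι ≫ h.fiberToSpecResidueField s)) :
    ∃ (S' : Scheme.{u}) (g : S' ⟶ S) (s' : S'), IsAffine S' ∧ Hens2.IsEtaleNbhd g s' s ∧
      ∃ V : (pullback h g).Opens, IsCompact (V : Set ↑(pullback h g)) ∧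
        GeometricallyConnected (V.ι ≫ pullback.snd h g) ∧
        ∀ y' : ↑(pullback h g), pullback.snd h g y' = s' →
          (y' ∈ V ↔ pullback.fst h g y' ∈ (h.fiberι s) '' (T : Set ↑(h.fiber s))) := by
  classical
  -- Step 1
  obtain ⟨S₁, hS₁, hsS₁, -⟩ := exists_isAffineOpen_mem_and_subset (X := S) (x := s) (U := ⊤)
    trivial
  haveI : IsAffine (S₁ : Scheme.{u}) := hS₁
  obtain ⟨Y₀, hY₀c, hY₀S₁, hY₀T⟩ := exists_compact_open_fiber_eq h s T S₁ hsS₁
  set h₀ : (Y₀ : Scheme.{u}) ⟶ S := Y₀.ι ≫ h with hh₀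
  haveI : CompactSpace ↥(Y₀ : Scheme.{u}) := isCompact_iff_compactSpace.mp hY₀c
  haveI : GeometricallyReduced h₀ := geometricallyReduced_comp_of_isOpenImmersion Y₀.ι h
  have hrange₀ : Set.range h₀ ⊆ Set.range S₁.ι := by
    rintro _ ⟨y, rfl⟩
    rw [Scheme.Opens.range_ι]
    have h1 : h₀ y = h (Y₀.ι y) := Scheme.Hom.comp_apply _ _ y
    rw [h1]
    exact hY₀S₁ y.2
  let h₀₁ : (Y₀ : Scheme.{u}) ⟶ (S₁ : Scheme.{u}) := IsOpenImmersion.lift S₁.ι h₀ hrange₀
  have hh₀₁ : h₀₁ ≫ S₁.ι = h₀ := IsOpenImmersion.lift_fac _ _ _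
  haveI : QuasiCompact h₀₁ := quasiCompact_of_compactSpace _
  have hGC₀ : GeometricallyConnected (h₀.fiberToSpecResidueField s) :=
    geometricallyConnected_fiber_open h Y₀ s T hY₀T hT
  haveI : Surjective (h₀.fiberToSpecResidueField s) := inferInstance
  obtain ⟨pt⟩ : Nonempty (Spec (S.residueField s)) :=
    inferInstanceAs (Nonempty (PrimeSpectrum (S.residueField s)))
  obtain ⟨x0, -⟩ := (h₀.fiberToSpecResidueField s).surjective pt
  -- Part A
  obtain ⟨S'', g'', s'', hS'', hnb, hg''S₁, Z'', ζ'', σ'', hfinlf, hσ'', hZy⟩ :=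
    exists_multisection h₀ s x0 S₁ hsS₁
  haveI : IsAffine S'' := hS''
  haveI : Etale g'' := hnb.etale
  have hg''s : g'' s'' = s := hnb.base_eq
  have hrange₁ : Set.range g'' ⊆ Set.range S₁.ι := by
    rw [Scheme.Opens.range_ι]; exact hg''S₁
  let g₁ : S'' ⟶ (S₁ : Scheme.{u}) := IsOpenImmersion.lift S₁.ι g'' hrange₁
  have hg₁ : g₁ ≫ S₁.ι = g'' := IsOpenImmersion.lift_fac _ _ _
  set f := pullback.snd h₀ g'' with hf
  haveI : Flat f := MorphismProperty.pullback_snd _ _ inferInstance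
  haveI : LocallyOfFinitePresentation f := MorphismProperty.pullback_snd _ _ inferInstance
  haveI : QuasiSeparated f := MorphismProperty.pullback_snd _ _ inferInstance
  haveI : GeometricallyReduced f := MorphismProperty.pullback_snd _ _ inferInstance
  haveI : QuasiCompact f := quasiCompact_snd_of_mono h₀ g'' S₁.ι h₀₁ g₁ hh₀₁ hg₁
  have hXy : GeometricallyConnected (f.fiberToSpecResidueField s'') := by
    have hA := isPullback_fiberToSpecResidueField_of_isPullback
      (IsPullback.of_hasPullback h₀ g'') s''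
    have h1 : GeometricallyConnected (h₀.fiberToSpecResidueField (g'' s'')) := by
      rw [hg''s]; exact hGC₀
    exact MorphismProperty.of_isPullback hA h1
  obtain ⟨U, hUc, hUfib, hUgc⟩ := main1453 f ζ'' hfinlf σ'' hσ'' s'' hZy hXy
  -- Step 6
  have hfopen : IsOpen (f '' (U : Set ↥(pullback h₀ g''))) := f.isOpenMap _ U.2
  haveI : Surjective (f.fiberToSpecResidueField s'') := inferInstance
  obtain ⟨pt'⟩ : Nonempty (Spec (S''.residueField s'')) :=
    inferInstanceAs (Nonempty (PrimeSpectrum (S''.residueField s'')))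
  obtain ⟨x1, -⟩ := (f.fiberToSpecResidueField s'').surjective pt'
  have hx1 : f (f.fiberι s'' x1) = s'' := by
    have : f.fiberι s'' x1 ∈ Set.range (f.fiberι s'') := Set.mem_range_self x1
    rw [Scheme.Hom.range_fiberι] at this
    exact this
  have hs''fU : s'' ∈ (⟨f '' (U : Set ↥(pullback h₀ g'')), hfopen⟩ : S''.Opens) :=
    ⟨f.fiberι s'' x1, hUfib hx1, hx1⟩
  obtain ⟨D, hD, hs''D, hDsub⟩ := exists_isAffineOpen_mem_and_subset (X := S'') (x := s'')
    (U := ⟨f '' (U : Set ↥(pullback h₀ g'')), hfopen⟩) hs''fU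
  haveI : IsAffine (D : Scheme.{u}) := hD
  set gD : (D : Scheme.{u}) ⟶ S := D.ι ≫ g'' with hgD
  set bU : (U : Scheme.{u}) ⟶ S'' := U.ι ≫ f with hbU
  haveI : CompactSpace ↥(U : Scheme.{u}) := isCompact_iff_compactSpace.mp hUc
  haveI : QuasiCompact bU := quasiCompact_of_compactSpace _
  let UD : (U : Scheme.{u}).Opens := bU ⁻¹ᵁ D
  set bD : (UD : Scheme.{u}) ⟶ (D : Scheme.{u}) := bU ∣_ D with hbDdef
  have hbD : bD ≫ D.ι = UD.ι ≫ bU := morphismRestrict_ι bU D
  have hUDc : IsCompact (UD : Set ↥(U : Scheme.{u})) :=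
    QuasiCompact.isCompact_preimage (f := bU) _ D.2 hD.isCompact
  haveI : CompactSpace ↥(UD : Scheme.{u}) := isCompact_iff_compactSpace.mp hUDc
  have hJcond : (UD.ι ≫ U.ι ≫ pullback.fst h₀ g'' ≫ Y₀.ι) ≫ h = bD ≫ gD := by
    rw [hgD, ← Category.assoc bD, hbD, hbU]
    simp only [Category.assoc]
    rw [← hh₀, pullback.condition]
  let J : (UD : Scheme.{u}) ⟶ pullback h gD :=
    pullback.lift (UD.ι ≫ U.ι ≫ pullback.fst h₀ g'' ≫ Y₀.ι) bD hJcond
  have hJ1 : J ≫ pullback.fst h gD = UD.ι ≫ U.ι ≫ pullback.fst h₀ g'' ≫ Y₀.ι :=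
    pullback.lift_fst _ _ _
  have hJ2 : J ≫ pullback.snd h gD = bD := pullback.lift_snd _ _ _
  let k : pullback h gD ⟶ pullback h g'' :=
    pullback.map h gD h g'' (𝟙 Y) D.ι (𝟙 S) (by simp) (by simp [hgD])
  let j : pullback h₀ g'' ⟶ pullback h g'' :=
    pullback.map h₀ g'' h g'' Y₀.ι (𝟙 _) (𝟙 S) (by simp [hh₀]) (by simp)
  haveI : IsOpenImmersion k :=
    inferInstanceAs (IsOpenImmersion (pullback.map h gD h g'' (𝟙 Y) D.ι (𝟙 S) (by simp)
      (by simp [hgD])))
  haveI : IsOpenImmersion j :=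
    inferInstanceAs (IsOpenImmersion (pullback.map h₀ g'' h g'' Y₀.ι (𝟙 _) (𝟙 S)
      (by simp [hh₀]) (by simp)))
  have hk1 : k ≫ pullback.fst h g'' = pullback.fst h gD ≫ 𝟙 Y := pullback.lift_fst _ _ _
  have hk2 : k ≫ pullback.snd h g'' = pullback.snd h gD ≫ D.ι := pullback.lift_snd _ _ _
  have hj1 : j ≫ pullback.fst h g'' = pullback.fst h₀ g'' ≫ Y₀.ι := pullback.lift_fst _ _ _
  have hj2 : j ≫ pullback.snd h g'' = pullback.snd h₀ g'' ≫ 𝟙 _ := pullback.lift_snd _ _ _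
  have hJk : J ≫ k = UD.ι ≫ U.ι ≫ j := by
    apply pullback.hom_ext
    · rw [Category.assoc, hk1, Category.comp_id, hJ1]
      simp only [Category.assoc]
      rw [hj1]
    · rw [Category.assoc, hk2, ← Category.assoc, hJ2, hbD, hbU]
      simp only [Category.assoc]
      rw [hj2, Category.comp_id]
  haveI : IsOpenImmersion (J ≫ k) := by rw [hJk]; infer_instance
  haveI : IsOpenImmersion J := IsOpenImmersion.of_comp J k
  let d₀ : ↥(D : Scheme.{u}) := ⟨s'', hs''D⟩
  have hgDd₀ : gD d₀ = s := by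
    rw [hgD, Scheme.Hom.comp_apply]
    exact hg''s
  refine ⟨D, gD, d₀, hD, ⟨inferInstance, hgDd₀, ?_⟩, J.opensRange, ?_, ?_, ?_⟩
  · -- residue field
    have h1 : gD.residueFieldMap d₀ =
        g''.residueFieldMap (D.ι d₀) ≫ D.ι.residueFieldMap d₀ :=
      Scheme.residueFieldMap_comp D.ι g'' d₀
    rw [h1]
    have h2 : Function.Bijective (g''.residueFieldMap (D.ι d₀)) := hnb.residue_bijective
    have h3 : Function.Bijective (D.ι.residueFieldMap d₀) :=
      ConcreteCategory.bijective_of_isIso _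
    have h4 : ⇑(g''.residueFieldMap (D.ι d₀) ≫ D.ι.residueFieldMap d₀) =
        ⇑(D.ι.residueFieldMap d₀) ∘ ⇑(g''.residueFieldMap (D.ι d₀)) := by
      ext a; rfl
    exact (congrArg Function.Bijective h4).mpr (h3.comp h2)
  · -- compactness
    show IsCompact (Set.range J)
    exact isCompact_range J.continuous
  · -- geometric connectedness
    have hιV : J.opensRange.ι ≫ pullback.snd h gD = J.isoOpensRange.inv ≫ bD := by
      rw [← hJ2, ← Category.assoc, Scheme.Hom.isoOpensRange_inv_comp]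
    rw [hιV]
    refine (MorphismProperty.cancel_left_of_respectsIso @GeometricallyConnected _ _).mpr ?_
    rw [GeometricallyConnected.iff_geometricallyConnected_fiber]
    intro d
    have hAd := isPullback_fiberToSpecResidueField_of_isPullback
      (isPullback_morphismRestrict bU D).flip d
    have hmem : D.ι d ∈ f '' (U : Set ↥(pullback h₀ g'')) := hDsub d.2
    obtain ⟨x, hxU, hfx⟩ := hmem
    have h1 : GeometricallyConnected (bU.fiberToSpecResidueField (D.ι d)) :=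
      hUgc (D.ι d) ⟨x, hxU, hfx⟩
    exact MorphismProperty.of_isPullback hAd h1
  · -- the fibre over `d₀`
    intro y' hy'
    have hfib : ∀ t : ↥(h.fiber s), h (h.fiberι s t) = s := fun t => by
      have : h.fiberι s t ∈ Set.range (h.fiberι s) := Set.mem_range_self t
      rw [Scheme.Hom.range_fiberι] at this
      exact this
    have hhy' : h (pullback.fst h gD y') = s := by
      have h1 : h (pullback.fst h gD y') = gD (pullback.snd h gD y') :=
        (Scheme.Hom.comp_apply _ h y').symm.trans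
          ((congrArg (fun k : pullback h gD ⟶ S => k y') pullback.condition).trans
            (Scheme.Hom.comp_apply _ gD y'))
      rw [h1, hy', hgDd₀]
    constructor
    · rintro ⟨u, rfl⟩
      have h1 : pullback.fst h gD (J u) = Y₀.ι (pullback.fst h₀ g'' (U.ι (UD.ι u))) := by
        rw [← Scheme.Hom.comp_apply, hJ1]
        simp only [Scheme.Hom.comp_apply]
      have h2 : pullback.fst h gD (J u) ∈ Y₀ := by
        rw [h1]
        have : Y₀.ι (pullback.fst h₀ g'' (U.ι (UD.ι u))) ∈ Set.range Y₀.ι := Set.mem_range_self _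
        rw [Scheme.Opens.range_ι] at this
        exact this
      obtain ⟨t, ht⟩ : pullback.fst h gD (J u) ∈ Set.range (h.fiberι s) := by
        rw [Scheme.Hom.range_fiberι]; exact hhy'
      refine ⟨t, ?_, ht⟩
      have : t ∈ (h.fiberι s) ⁻¹' (Y₀ : Set Y) := by
        show h.fiberι s t ∈ Y₀
        rw [ht]; exact h2
      rw [hY₀T] at this
      exact this
    · rintro ⟨t, htT, ht⟩
      have htY₀ : pullback.fst h gD y' ∈ Y₀ := by
        rw [← ht]
        have : t ∈ (h.fiberι s) ⁻¹' (Y₀ : Set Y) := by rw [hY₀T]; exact htT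
        exact this
      have hkfst : pullback.fst h g'' (k y') = pullback.fst h gD y' := by
        rw [← Scheme.Hom.comp_apply, hk1, Category.comp_id]
      have hkr : k y' ∈ Set.range j := by
        have := Scheme.Pullback.range_map (f := h₀) (g := g'') h g'' Y₀.ι (𝟙 _) (𝟙 S)
          (by simp [hh₀]) (by simp)
        rw [show Set.range j = _ from this]
        refine ⟨?_, ⟨_, rfl⟩⟩
        show pullback.fst h g'' (k y') ∈ Set.range Y₀.ι
        rw [Scheme.Opens.range_ι, hkfst]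
        exact htY₀
      obtain ⟨x, hx⟩ := hkr
      have hfx : f x = s'' := by
        have h1 : f x = pullback.snd h g'' (j x) := by
          rw [← Scheme.Hom.comp_apply, hj2, Category.comp_id]
        have h2 : pullback.snd h g'' (k y') = D.ι (pullback.snd h gD y') := by
          rw [← Scheme.Hom.comp_apply, hk2, Scheme.Hom.comp_apply]
        rw [h1, hx, h2, hy']
        rfl
      have hxU : x ∈ U := hUfib hfx
      have hxUD : (⟨x, hxU⟩ : ↥(U : Scheme.{u})) ∈ UD := by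
        show bU ⟨x, hxU⟩ ∈ D
        have : bU ⟨x, hxU⟩ = f x := by rw [hbU, Scheme.Hom.comp_apply]; rfl
        rw [this, hfx]; exact hs''D
      refine ⟨⟨⟨x, hxU⟩, hxUD⟩, ?_⟩
      apply k.isOpenEmbedding.injective
      have h1 : k (J ⟨⟨x, hxU⟩, hxUD⟩) = j x := by
        rw [← Scheme.Hom.comp_apply, hJk]
        simp only [Scheme.Hom.comp_apply]
        rfl
      rw [h1, hx]

end PartB

end SecNbhdH8
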