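import Mathlib

/-!
# Étale neighbourhoods `(S, q)` of a prime `p` with trivial residue field extension
-/

namespace Groth.Agent.Lib.EtNbhd

open TensorProduct

universe u

section point

variable {R : Type u} [CommRing R] (p : Ideal R) [p.IsPrime]
variable {S : Type u} [CommRing S] [Algebra R S] (q : Ideal S) [q.IsPrime]

/-- the `κ(p)`-point of a pair with trivial residue extension -/
noncomputable def point (hq : p = q.comap (algebraMap R S))
    (hκ : Function.Bijective (Ideal.ResidueField.map p q (algebraMap R S) hq)) :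
    S →ₐ[R] p.ResidueField :=
  { ((RingEquiv.ofBijective _ hκ).symm : q.ResidueField →+* p.ResidueField).comp
      (algebraMap S q.ResidueField) with
    commutes' := fun r => by
      show (RingEquiv.ofBijective _ hκ).symm
        (algebraMap S q.ResidueField (algebraMap R S r)) = algebraMap R p.ResidueField r
      rw [RingEquiv.symm_apply_eq]
      exact (Ideal.ResidueField.map_algebraMap p q (algebraMap R S) hq r).symm }

theorem point_apply (hq : p = q.comap (algebraMap R S))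
    (hκ : Function.Bijective (Ideal.ResidueField.map p q (algebraMap R S) hq)) (s : S) :
    point p q hq hκ s =
      (RingEquiv.ofBijective _ hκ).symm (algebraMap S q.ResidueField s) := rfl

theorem point_eq_zero_iff (hq : p = q.comap (algebraMap R S))
    (hκ : Function.Bijective (Ideal.ResidueField.map p q (algebraMap R S) hq)) (s : S) :
    point p q hq hκ s = 0 ↔ s ∈ q := by
  rw [point_apply, map_eq_zero_iff _ (RingEquiv.injective _),
    Ideal.algebraMap_residueField_eq_zero]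

/-- the map `κ(q) → κ(p)` induced by a point with kernel `q` -/
noncomputable def lam (ρ : S →ₐ[R] p.ResidueField) (hρ : ∀ s, ρ s = 0 ↔ s ∈ q) :
    q.ResidueField →ₐ[R] p.ResidueField :=
  Ideal.ResidueField.liftₐ q ρ (fun s hs => RingHom.mem_ker.mpr ((hρ s).mpr hs))
    (fun s hs => by
      show IsUnit (ρ s)
      rw [isUnit_iff_ne_zero]
      exact fun h0 => hs ((hρ s).mp h0))

theorem lam_algebraMap (ρ : S →ₐ[R] p.ResidueField) (hρ : ∀ s, ρ s = 0 ↔ s ∈ q) (s : S) :
    lam p q ρ hρ (algebraMap S q.ResidueField s) = ρ s :=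
  Ideal.ResidueField.liftₐ_algebraMap _ _ _ _ _

theorem lam_map (ρ : S →ₐ[R] p.ResidueField) (hρ : ∀ s, ρ s = 0 ↔ s ∈ q)
    (hq : p = q.comap (algebraMap R S)) (x : p.ResidueField) :
    lam p q ρ hρ (Ideal.ResidueField.map p q (algebraMap R S) hq x) = x := by
  have hcomp : ((lam p q ρ hρ : q.ResidueField →+* p.ResidueField)).comp
      (Ideal.ResidueField.map p q (algebraMap R S) hq) = RingHom.id _ := by
    apply Ideal.ResidueField.ringHom_ext
    ext r
    show lam p q ρ hρ (Ideal.ResidueField.map p q (algebraMap R S) hq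
      (algebraMap R p.ResidueField r)) = algebraMap R p.ResidueField r
    rw [Ideal.ResidueField.map_algebraMap, lam_algebraMap, AlgHom.commutes]
  exact DFunLike.congr_fun hcomp x

theorem pair_of_point (ρ : S →ₐ[R] p.ResidueField) (hρ : ∀ s, ρ s = 0 ↔ s ∈ q) :
    ∃ hq : p = q.comap (algebraMap R S),
      Function.Bijective (Ideal.ResidueField.map p q (algebraMap R S) hq) := by
  have hq : p = q.comap (algebraMap R S) := by
    ext r
    rw [Ideal.mem_comap, ← hρ, AlgHom.commutes, Ideal.algebraMap_residueField_eq_zero]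
  refine ⟨hq, RingHom.injective _, fun y => ⟨lam p q ρ hρ y, ?_⟩⟩
  apply (lam p q ρ hρ : q.ResidueField →+* p.ResidueField).injective
  exact lam_map p q ρ hρ hq _

theorem point_unique (hq : p = q.comap (algebraMap R S))
    (hκ : Function.Bijective (Ideal.ResidueField.map p q (algebraMap R S) hq))
    (ρ : S →ₐ[R] p.ResidueField) (hρ : ∀ s, ρ s = 0 ↔ s ∈ q) : ρ = point p q hq hκ := by
  ext s
  rw [point_apply, ← lam_algebraMap p q ρ hρ s]
  obtain ⟨x, hx⟩ := hκ.2 (algebraMap S q.ResidueField s)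
  rw [← hx, lam_map]
  exact ((RingEquiv.ofBijective _ hκ).symm_apply_apply x).symm

end point

/-- S9468 -/
theorem exists_common (R : Type u) [CommRing R]
    (p : Ideal R) [p.IsPrime] (S₁ : Type u) [CommRing S₁] [Algebra R S₁] [Algebra.Etale R S₁]
    (q₁ : Ideal S₁) [q₁.IsPrime] (hq₁ : p = q₁.comap (algebraMap R S₁))
    (hq₁κ : Function.Bijective (Ideal.ResidueField.map p q₁ (algebraMap R S₁) hq₁))
    (S₂ : Type u) [CommRing S₂] [Algebra R S₂] [Algebra.Etale R S₂] (q₂ : Ideal S₂) [q₂.IsPrime]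
    (hq₂ : p = q₂.comap (algebraMap R S₂))
    (hq₂κ : Function.Bijective (Ideal.ResidueField.map p q₂ (algebraMap R S₂) hq₂)) :
    ∃ (S₃ : Type u) (_ : CommRing S₃) (_ : Algebra R S₃) (_ : Algebra.Etale R S₃) (q₃ : Ideal S₃)
      (_ : q₃.IsPrime) (hq₃ : p = q₃.comap (algebraMap R S₃)),
      Function.Bijective (Ideal.ResidueField.map p q₃ (algebraMap R S₃) hq₃) ∧
        ∃ (φ₁ : S₁ →ₐ[R] S₃) (φ₂ : S₂ →ₐ[R] S₃),
          q₃.comap φ₁.toRingHom = q₁ ∧ q₃.comap φ₂.toRingHom = q₂ := by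
  haveI : Algebra.Etale R (S₁ ⊗[R] S₂) := Algebra.Etale.comp R S₁ _
  let ρ : S₁ ⊗[R] S₂ →ₐ[R] p.ResidueField :=
    Algebra.TensorProduct.productMap (point p q₁ hq₁ hq₁κ) (point p q₂ hq₂ hq₂κ)
  haveI : (RingHom.ker ρ).IsPrime := RingHom.ker_isPrime ρ
  have hmem : ∀ d, ρ d = 0 ↔ d ∈ RingHom.ker ρ := fun d => RingHom.mem_ker.symm
  obtain ⟨hq₃, hbij⟩ := pair_of_point p (RingHom.ker ρ) ρ hmem
  refine ⟨S₁ ⊗[R] S₂, inferInstance, inferInstance, inferInstance, RingHom.ker ρ, inferInstance,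
    hq₃, hbij, Algebra.TensorProduct.includeLeft, Algebra.TensorProduct.includeRight, ?_, ?_⟩
  · ext s
    rw [Ideal.mem_comap, ← hmem]
    show ρ (s ⊗ₜ[R] (1 : S₂)) = 0 ↔ _
    rw [Algebra.TensorProduct.productMap_apply_tmul, map_one, mul_one, point_eq_zero_iff]
  · ext s
    rw [Ideal.mem_comap, ← hmem]
    show ρ ((1 : S₁) ⊗ₜ[R] s) = 0 ↔ _
    rw [Algebra.TensorProduct.productMap_apply_tmul, map_one, one_mul, point_eq_zero_iff]

/-- S9469 -/
theorem exists_coeq (R : Type u) [CommRing R]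
    (p : Ideal R) [p.IsPrime] (S₁ : Type u) [CommRing S₁] [Algebra R S₁] [Algebra.Etale R S₁]
    (q₁ : Ideal S₁) [q₁.IsPrime] (hq₁ : p = q₁.comap (algebraMap R S₁))
    (hq₁κ : Function.Bijective (Ideal.ResidueField.map p q₁ (algebraMap R S₁) hq₁))
    (S₂ : Type u) [CommRing S₂] [Algebra R S₂] [Algebra.Etale R S₂] (q₂ : Ideal S₂) [q₂.IsPrime]
    (hq₂ : p = q₂.comap (algebraMap R S₂))
    (hq₂κ : Function.Bijective (Ideal.ResidueField.map p q₂ (algebraMap R S₂) hq₂))
    (φ ψ : S₁ →ₐ[R] S₂) (hφ : q₂.comap φ.toRingHom = q₁) (hψ : q₂.comap ψ.toRingHom = q₁) :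
    ∃ (S₃ : Type u) (_ : CommRing S₃) (_ : Algebra R S₃) (_ : Algebra.Etale R S₃) (q₃ : Ideal S₃)
      (_ : q₃.IsPrime) (hq₃ : p = q₃.comap (algebraMap R S₃)),
      Function.Bijective (Ideal.ResidueField.map p q₃ (algebraMap R S₃) hq₃) ∧
        ∃ χ : S₂ →ₐ[R] S₃, q₃.comap χ.toRingHom = q₂ ∧ χ.comp φ = χ.comp ψ := by
  have h1 : (point p q₂ hq₂ hq₂κ).comp φ = point p q₁ hq₁ hq₁κ :=
    point_unique p q₁ hq₁ hq₁κ _ (fun s => by
      show point p q₂ hq₂ hq₂κ (φ s) = 0 ↔ s ∈ q₁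
      rw [point_eq_zero_iff, ← hφ]; rfl)
  have h2 : (point p q₂ hq₂ hq₂κ).comp ψ = point p q₁ hq₁ hq₁κ :=
    point_unique p q₁ hq₁ hq₁κ _ (fun s => by
      show point p q₂ hq₂ hq₂κ (ψ s) = 0 ↔ s ∈ q₁
      rw [point_eq_zero_iff, ← hψ]; rfl)
  have hI : IsIdempotentElem (KaehlerDifferential.ideal R S₁) := by
    apply (Ideal.cotangent_subsingleton_iff _).mp
    exact inferInstanceAs <| Subsingleton (KaehlerDifferential R S₁)
  obtain ⟨e, he, hIe⟩ :=
    (Ideal.isIdempotentElem_iff_of_fg _ (KaehlerDifferential.ideal_fg R S₁)).mp hI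
  have heI : e ∈ KaehlerDifferential.ideal R S₁ := by
    rw [hIe]; exact Ideal.mem_span_singleton_self e
  let g : S₁ ⊗[R] S₁ →ₐ[R] S₂ := Algebra.TensorProduct.productMap φ ψ
  have hε : IsIdempotentElem (g e) := he.map g
  have hρg : (point p q₂ hq₂ hq₂κ).comp g =
      (point p q₁ hq₁ hq₁κ).comp (Algebra.TensorProduct.lmul' R (S := S₁)) := by
    apply Algebra.TensorProduct.ext'
    intro a b
    show point p q₂ hq₂ hq₂κ (g (a ⊗ₜ[R] b)) =
      point p q₁ hq₁ hq₁κ (Algebra.TensorProduct.lmul' R (a ⊗ₜ[R] b))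
    rw [Algebra.TensorProduct.lmul'_apply_tmul, Algebra.TensorProduct.productMap_apply_tmul,
      map_mul, map_mul]
    have e1 : point p q₁ hq₁ hq₁κ a = point p q₂ hq₂ hq₂κ (φ a) := by rw [← h1]; rfl
    have e2 : point p q₁ hq₁ hq₁κ b = point p q₂ hq₂ hq₂κ (ψ b) := by rw [← h2]; rfl
    rw [e1, e2]
  have hρε : point p q₂ hq₂ hq₂κ (g e) = 0 := by
    have h3 := DFunLike.congr_fun hρg e
    have h4 : Algebra.TensorProduct.lmul' R (S := S₁) e = 0 := RingHom.mem_ker.mp heI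
    show ((point p q₂ hq₂ hq₂κ).comp g) e = 0
    rw [h3]
    show point p q₁ hq₁ hq₁κ (Algebra.TensorProduct.lmul' R (S := S₁) e) = 0
    rw [h4, map_zero]
  haveI : Algebra.Etale S₂ (Localization.Away (1 - g e)) :=
    Algebra.Etale.of_isLocalizationAway (1 - g e)
  haveI : Algebra.Etale R (Localization.Away (1 - g e)) := Algebra.Etale.comp R S₂ _
  let χ : S₂ →ₐ[R] Localization.Away (1 - g e) := IsScalarTower.toAlgHom R S₂ _
  have hχ : ∀ s, χ s = algebraMap S₂ (Localization.Away (1 - g e)) s := fun s => rfl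
  have hχε : χ (g e) = 0 := by
    have hu : IsUnit (χ (1 - g e)) := IsLocalization.Away.algebraMap_isUnit (1 - g e)
    have h0 : χ (g e) * χ (1 - g e) = 0 := by
      rw [← map_mul, mul_sub, mul_one, hε.eq, sub_self, map_zero]
    exact (hu.mul_left_eq_zero).mp h0
  have hcoeq : χ.comp φ = χ.comp ψ := by
    ext s
    show χ (φ s) = χ (ψ s)
    have hmemI := KaehlerDifferential.one_smul_sub_smul_one_mem_ideal R s
    rw [hIe] at hmemI
    obtain ⟨y, hy⟩ := Ideal.mem_span_singleton'.mp hmemI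
    have h5 : g ((1 : S₁) ⊗ₜ[R] s - s ⊗ₜ[R] (1 : S₁)) = ψ s - φ s := by
      simp only [g, map_sub, Algebra.TensorProduct.productMap_apply_tmul, map_one, one_mul,
        mul_one]
    have h6 : χ (ψ s - φ s) = 0 := by
      rw [← h5, ← hy, map_mul, map_mul, hχε, mul_zero]
    rw [map_sub, sub_eq_zero] at h6
    exact h6.symm
  have hunit : ∀ y : Submonoid.powers (1 - g e), IsUnit (point p q₂ hq₂ hq₂κ y) := by
    rintro ⟨_, n, rfl⟩
    rw [map_pow, map_sub, map_one, hρε, sub_zero, one_pow]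
    exact isUnit_one
  let ρ₃ : Localization.Away (1 - g e) →ₐ[R] p.ResidueField :=
    IsLocalization.liftAlgHom (M := Submonoid.powers (1 - g e)) (f := point p q₂ hq₂ hq₂κ) hunit
  have hρ₃ : ∀ s, ρ₃ (χ s) = point p q₂ hq₂ hq₂κ s := fun s => IsLocalization.lift_eq _ s
  haveI : (RingHom.ker ρ₃).IsPrime := RingHom.ker_isPrime ρ₃
  have hmem : ∀ d, ρ₃ d = 0 ↔ d ∈ RingHom.ker ρ₃ := fun d => RingHom.mem_ker.symm
  obtain ⟨hq₃, hbij⟩ := pair_of_point p (RingHom.ker ρ₃) ρ₃ hmem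
  refine ⟨Localization.Away (1 - g e), inferInstance, inferInstance, inferInstance,
    RingHom.ker ρ₃, inferInstance, hq₃, hbij, χ, ?_, hcoeq⟩
  ext s
  rw [Ideal.mem_comap, ← hmem]
  show ρ₃ (χ s) = 0 ↔ _
  rw [hρ₃, point_eq_zero_iff]

end Groth.Agent.Lib.EtNbhd
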