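import Mathlib
import Groth.Prelude.Def_Hensel
import Groth.Agent.Lib.HensInduction_helper3
import Groth.Agent.Lib.EtNbhd_lead
import Groth.Agent.Lib.EtaleSection_lead
import Groth.Agent.Lib.HensJointFin_helper3

/-!
# The henselization of `R_p` as the colimit of étale neighbourhoods `(S, q)` of `p` (helper3)
-/

set_option autoImplicit false
set_option maxSynthPendingDepth 3
universe u

namespace Groth.Agent.Lib.EtNbhdHensH3

open IsLocalRing Polynomial TensorProduct Groth.Agent.Lib.EtNbhd

section agree

variable {R : Type u} [CommRing R] (p : Ideal R) [p.IsPrime]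
variable {S : Type u} [CommRing S] [Algebra R S] (q : Ideal S) [q.IsPrime]

/-- modulo `q`, every element of `S` is a fraction `r/u` with `u ∉ p` -/
theorem exists_mul_sub_mem (hq : p = q.comap (algebraMap R S))
    (hκ : Function.Bijective (Ideal.ResidueField.map p q (algebraMap R S) hq)) (s : S) :
    ∃ (r u : R), u ∉ p ∧ algebraMap R S u * s - algebraMap R S r ∈ q := by
  obtain ⟨y, hy⟩ := IsLocalRing.residue_surjective (point p q hq hκ s)
  obtain ⟨r, u, rfl⟩ := IsLocalization.exists_mk'_eq p.primeCompl y
  refine ⟨r, u, u.2, ?_⟩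
  rw [← point_eq_zero_iff p q hq hκ, map_sub, map_mul, AlgHom.commutes, AlgHom.commutes, ← hy,
    IsScalarTower.algebraMap_apply R (Localization.AtPrime p) p.ResidueField,
    IsScalarTower.algebraMap_apply R (Localization.AtPrime p) p.ResidueField,
    IsLocalRing.ResidueField.algebraMap_eq, ← map_mul, IsLocalization.mk'_spec', sub_self]

/-- two algebra maps from a trivial-residue pair `(S, q)` to a local ring, both pulling the maximal
ideal back to `q`, agree modulo the maximal ideal -/
theorem agree_mod (hq : p = q.comap (algebraMap R S))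
    (hκ : Function.Bijective (Ideal.ResidueField.map p q (algebraMap R S) hq))
    {T : Type*} [CommRing T] [IsLocalRing T] [Algebra R T] (a b : S →ₐ[R] T)
    (ha : (maximalIdeal T).comap a.toRingHom = q) (hb : (maximalIdeal T).comap b.toRingHom = q)
    (s : S) : a s - b s ∈ maximalIdeal T := by
  obtain ⟨r, u, hu, hmem⟩ := exists_mul_sub_mem p q hq hκ s
  have h1 : a (algebraMap R S u * s - algebraMap R S r) ∈ maximalIdeal T := by
    have : algebraMap R S u * s - algebraMap R S r ∈ (maximalIdeal T).comap a.toRingHom := by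
      rw [ha]; exact hmem
    exact this
  have h2 : b (algebraMap R S u * s - algebraMap R S r) ∈ maximalIdeal T := by
    have : algebraMap R S u * s - algebraMap R S r ∈ (maximalIdeal T).comap b.toRingHom := by
      rw [hb]; exact hmem
    exact this
  rw [map_sub, map_mul, AlgHom.commutes, AlgHom.commutes] at h1 h2
  have h3 : algebraMap R T u * (a s - b s) ∈ maximalIdeal T := by
    have := (maximalIdeal T).sub_mem h1 h2
    have e : algebraMap R T u * a s - algebraMap R T r - (algebraMap R T u * b s - algebraMap R T r)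
        = algebraMap R T u * (a s - b s) := by ring
    rwa [e] at this
  rcases (Ideal.IsMaximal.isPrime' (maximalIdeal T)).mem_or_mem h3 with h | h
  · exfalso
    apply hu
    rw [hq, Ideal.mem_comap, ← ha]
    show a (algebraMap R S u) ∈ maximalIdeal T
    rw [AlgHom.commutes]
    exact h
  · exact h

theorem unique_of_comap [Algebra.Etale R S] (hq : p = q.comap (algebraMap R S))
    (hκ : Function.Bijective (Ideal.ResidueField.map p q (algebraMap R S) hq))
    {T : Type u} [CommRing T] [IsLocalRing T] [Algebra R T] (a b : S →ₐ[R] T)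
    (ha : (maximalIdeal T).comap a.toRingHom = q) (hb : (maximalIdeal T).comap b.toRingHom = q) :
    a = b := by
  refine Groth.Agent.Lib.EtaleSection.algHom_eq_of_sub_mem (maximalIdeal T) ?_ a b
    (agree_mod p q hq hκ a b ha hb)
  rw [IsLocalRing.jacobson_eq_maximalIdeal ⊥ bot_ne_top]

end agree

section main

variable (R : Type u) [CommRing R] (p : Ideal R) [p.IsPrime] (Rh : Type u) [CommRing Rh]
    [IsLocalRing Rh] [Algebra (Localization.AtPrime p) Rh]
    [IsLocalHom (algebraMap (Localization.AtPrime p) Rh)]
    [Hensel.IsHenselization (Localization.AtPrime p) Rh] [Algebra R Rh]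
    [IsScalarTower R (Localization.AtPrime p) Rh]

/-- `κ(p) → κ(R^h)` as an `R`-algebra map -/
noncomputable def psi : p.ResidueField →ₐ[R] ResidueField Rh :=
  { ResidueField.map (algebraMap (Localization.AtPrime p) Rh) with
    commutes' := fun r => by
      show ResidueField.map (algebraMap (Localization.AtPrime p) Rh)
        (algebraMap R p.ResidueField r) = algebraMap R (ResidueField Rh) r
      rw [IsScalarTower.algebraMap_apply R (Localization.AtPrime p) p.ResidueField,
        IsLocalRing.ResidueField.algebraMap_eq, ResidueField.map_residue,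
        ← IsScalarTower.algebraMap_apply R (Localization.AtPrime p) Rh]
      rfl }

theorem psi_bijective : Function.Bijective (psi R p Rh) :=
  Groth.Agent.Lib.HenselizationH3.residueField_map_bijective_of_isHenselization
    (R := Localization.AtPrime p) Rh

/-- the `κ(p)`-point of `R^h` -/
noncomputable def resPt : Rh →ₐ[R] p.ResidueField :=
  ((AlgEquiv.ofBijective (psi R p Rh) (psi_bijective R p Rh)).symm : ResidueField Rh →ₐ[R] _).comp
    (IsScalarTower.toAlgHom R Rh (ResidueField Rh))

theorem psi_resPt (x : Rh) : psi R p Rh (resPt R p Rh x) = residue Rh x := by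
  show psi R p Rh ((AlgEquiv.ofBijective (psi R p Rh) (psi_bijective R p Rh)).symm
    (residue Rh x)) = _
  exact (AlgEquiv.ofBijective (psi R p Rh) (psi_bijective R p Rh)).apply_symm_apply _

theorem resPt_eq_zero_iff (x : Rh) : resPt R p Rh x = 0 ↔ x ∈ maximalIdeal Rh := by
  rw [← residue_eq_zero_iff, ← psi_resPt R p Rh x,
    map_eq_zero_iff _ (psi_bijective R p Rh).1]

variable {S : Type u} [CommRing S] [Algebra R S]

/-- any `R`-algebra map `f : S → R^h` makes `(S, f⁻¹𝔪)` a pair with trivial residue extension -/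
theorem pair_of_map (f : S →ₐ[R] Rh) :
    ∃ hq : p = ((maximalIdeal Rh).comap f.toRingHom).comap (algebraMap R S),
      Function.Bijective (Ideal.ResidueField.map p ((maximalIdeal Rh).comap f.toRingHom)
        (algebraMap R S) hq) :=
  pair_of_point p _ ((resPt R p Rh).comp f) (fun s => by
    show resPt R p Rh (f s) = 0 ↔ _
    rw [resPt_eq_zero_iff]; rfl)

theorem exists_map [Algebra.Etale R S] (q : Ideal S) [q.IsPrime]
    (hq : p = q.comap (algebraMap R S))
    (hκ : Function.Bijective (Ideal.ResidueField.map p q (algebraMap R S) hq)) :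
    ∃ f : S →ₐ[R] Rh, (maximalIdeal Rh).comap f.toRingHom = q := by
  haveI : HenselianLocalRing Rh := Hensel.IsHenselization.henselian (Localization.AtPrime p)
  have hJ : HenselianRing Rh (maximalIdeal Rh) := inferInstance
  let ρ : S →ₐ[R] Rh ⧸ maximalIdeal Rh := (psi R p Rh).comp (point p q hq hκ)
  obtain ⟨φ, hφ⟩ := Groth.Agent.Lib.EtaleSection.exists_algHom_lift hJ ρ
  refine ⟨φ, ?_⟩
  ext s
  rw [Ideal.mem_comap]
  show φ s ∈ maximalIdeal Rh ↔ _
  rw [← Ideal.Quotient.eq_zero_iff_mem, hφ]
  show psi R p Rh (point p q hq hκ s) = 0 ↔ _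
  rw [map_eq_zero_iff _ (psi_bijective R p Rh).1, point_eq_zero_iff]

theorem existsUnique_map [Algebra.Etale R S] (q : Ideal S) [q.IsPrime]
    (hq : p = q.comap (algebraMap R S))
    (hκ : Function.Bijective (Ideal.ResidueField.map p q (algebraMap R S) hq)) :
    ∃! f : S →ₐ[R] Rh, (maximalIdeal Rh).comap f.toRingHom = q := by
  obtain ⟨f, hf⟩ := exists_map R p Rh q hq hκ
  exact ⟨f, hf, fun g hg => unique_of_comap p q hq hκ g f hg hf⟩

end main

section InT

variable (R : Type u) [CommRing R] (Rh : Type u) [CommRing Rh] [Algebra R Rh]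

/-- `x` lies in the image of some étale `R`-algebra -/
def InT (x : Rh) : Prop :=
  ∃ (S : Type u) (_ : CommRing S) (_ : Algebra R S) (_ : Algebra.Etale R S) (f : S →ₐ[R] Rh)
    (s : S), f s = x

variable {R Rh}

theorem inT_algebraMap (r : R) : InT R Rh (algebraMap R Rh r) :=
  ⟨R, inferInstance, inferInstance, inferInstance, Algebra.ofId R Rh, r, rfl⟩

theorem inT_pair {x y : Rh} (hx : InT R Rh x) (hy : InT R Rh y) :
    ∃ (S : Type u) (_ : CommRing S) (_ : Algebra R S) (_ : Algebra.Etale R S) (f : S →ₐ[R] Rh)
      (s₁ s₂ : S), f s₁ = x ∧ f s₂ = y := by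
  obtain ⟨S₁, _, _, _, f₁, s₁, rfl⟩ := hx
  obtain ⟨S₂, _, _, _, f₂, s₂, rfl⟩ := hy
  haveI : Algebra.Etale R (S₁ ⊗[R] S₂) := Algebra.Etale.comp R S₁ _
  refine ⟨S₁ ⊗[R] S₂, inferInstance, inferInstance, inferInstance,
    Algebra.TensorProduct.productMap f₁ f₂, s₁ ⊗ₜ 1, 1 ⊗ₜ s₂, ?_, ?_⟩
  · rw [Algebra.TensorProduct.productMap_apply_tmul, map_one, mul_one]
  · rw [Algebra.TensorProduct.productMap_apply_tmul, map_one, one_mul]

theorem inT_add {x y : Rh} (hx : InT R Rh x) (hy : InT R Rh y) : InT R Rh (x + y) := by
  obtain ⟨S, _, _, _, f, s₁, s₂, rfl, rfl⟩ := inT_pair hx hy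
  exact ⟨S, inferInstance, inferInstance, inferInstance, f, s₁ + s₂, map_add f _ _⟩

theorem inT_mul {x y : Rh} (hx : InT R Rh x) (hy : InT R Rh y) : InT R Rh (x * y) := by
  obtain ⟨S, _, _, _, f, s₁, s₂, rfl, rfl⟩ := inT_pair hx hy
  exact ⟨S, inferInstance, inferInstance, inferInstance, f, s₁ * s₂, map_mul f _ _⟩

theorem inT_neg {x : Rh} (hx : InT R Rh x) : InT R Rh (-x) := by
  obtain ⟨S, _, _, _, f, s, rfl⟩ := hx
  exact ⟨S, inferInstance, inferInstance, inferInstance, f, -s, map_neg f _⟩

theorem inT_fin : ∀ (n : ℕ) (x : Fin n → Rh), (∀ i, InT R Rh (x i)) →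
    ∃ (S : Type u) (_ : CommRing S) (_ : Algebra R S) (_ : Algebra.Etale R S) (f : S →ₐ[R] Rh)
      (s : Fin n → S), ∀ i, f (s i) = x i := by
  intro n
  induction n with
  | zero =>
    intro x _
    exact ⟨R, inferInstance, inferInstance, inferInstance, Algebra.ofId R Rh,
      fun i => i.elim0, fun i => i.elim0⟩
  | succ n ih =>
    intro x hx
    obtain ⟨S₁, _, _, _, f₁, s₁, h₁⟩ := ih (fun i => x i.succ) (fun i => hx i.succ)
    obtain ⟨S₂, _, _, _, f₂, s₂, h₂⟩ := hx 0
    haveI : Algebra.Etale R (S₁ ⊗[R] S₂) := Algebra.Etale.comp R S₁ _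
    refine ⟨S₁ ⊗[R] S₂, inferInstance, inferInstance, inferInstance,
      Algebra.TensorProduct.productMap f₁ f₂,
      Fin.cons ((1 : S₁) ⊗ₜ[R] s₂) (fun i => s₁ i ⊗ₜ[R] (1 : S₂)), ?_⟩
    intro i
    refine Fin.cases ?_ (fun j => ?_) i
    · rw [Fin.cons_zero, Algebra.TensorProduct.productMap_apply_tmul, map_one, one_mul, h₂]
    · rw [Fin.cons_succ, Algebra.TensorProduct.productMap_apply_tmul, map_one, mul_one, h₁]

theorem inT_inv {x : Rh} (hx : InT R Rh x) (hu : IsUnit x) : ∃ y, InT R Rh y ∧ x * y = 1 := by
  obtain ⟨S, _, _, _, f, s, rfl⟩ := hx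
  haveI : Algebra.Etale S (Localization.Away s) := Algebra.Etale.of_isLocalizationAway s
  haveI : Algebra.Etale R (Localization.Away s) := Algebra.Etale.comp R S _
  have hunit : ∀ y : Submonoid.powers s, IsUnit (f y) := by
    rintro ⟨_, n, rfl⟩
    rw [map_pow]
    exact hu.pow n
  let f' : Localization.Away s →ₐ[R] Rh :=
    IsLocalization.liftAlgHom (M := Submonoid.powers s) (f := f) hunit
  have hf' : ∀ t, f' (algebraMap S (Localization.Away s) t) = f t :=
    fun t => IsLocalization.lift_eq _ t
  refine ⟨f' (IsLocalization.Away.invSelf s), ⟨_, inferInstance, inferInstance, inferInstance,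
    f', _, rfl⟩, ?_⟩
  rw [← hf', ← map_mul, IsLocalization.Away.mul_invSelf, map_one]

theorem inT_root {S : Type u} [CommRing S] [Algebra R S] [Algebra.Etale R S] (f : S →ₐ[R] Rh)
    (n : ℕ) (c : Fin n → S) (a : Rh)
    (h0 : (X ^ n + ∑ i : Fin n, C (f (c i)) * X ^ (i : ℕ) : Rh[X]).eval a = 0)
    (hu : IsUnit ((X ^ n + ∑ i : Fin n, C (f (c i)) * X ^ (i : ℕ) : Rh[X]).derivative.eval a)) :
    InT R Rh a := by
  let F : S[X] := X ^ n + ∑ i : Fin n, C (c i) * X ^ (i : ℕ)
  have hF : F.Monic := monic_X_pow_add (degree_sum_fin_lt c)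
  have hmap : F.map (f : S →+* Rh) = X ^ n + ∑ i : Fin n, C (f (c i)) * X ^ (i : ℕ) := by
    simp only [F, Polynomial.map_add, Polynomial.map_pow, Polynomial.map_X, Polynomial.map_sum,
      Polynomial.map_mul, Polynomial.map_C, RingHom.coe_coe]
  let P : StandardEtalePair S := ⟨F, hF, derivative F, 1, 0, 1, by ring⟩
  letI : Algebra S Rh := (f : S →+* Rh).toAlgebra
  haveI : IsScalarTower R S Rh := IsScalarTower.of_algebraMap_eq (fun r => (f.commutes r).symm)
  letI : Algebra R P.Ring := ((algebraMap S P.Ring).comp (algebraMap R S)).toAlgebra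
  haveI : IsScalarTower R S P.Ring := IsScalarTower.of_algebraMap_eq (fun r => rfl)
  haveI : Algebra.Etale R P.Ring := Algebra.Etale.comp R S P.Ring
  have hmapP : P.HasMap a := by
    constructor
    · show aeval a F = 0
      rw [aeval_def, ← eval_map]
      show (F.map (f : S →+* Rh)).eval a = 0
      rw [hmap]; exact h0
    · show IsUnit (aeval a (derivative F))
      rw [aeval_def, ← eval_map]
      show IsUnit ((F.derivative.map (f : S →+* Rh)).eval a)
      rw [← derivative_map, hmap]; exact hu
  exact ⟨P.Ring, inferInstance, inferInstance, inferInstance,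
    (P.lift a hmapP).restrictScalars R, P.X, P.lift_X a hmapP⟩

end InT

section main2

variable (R : Type u) [CommRing R] (p : Ideal R) [p.IsPrime] (Rh : Type u) [CommRing Rh]
    [IsLocalRing Rh] [Algebra (Localization.AtPrime p) Rh]
    [IsLocalHom (algebraMap (Localization.AtPrime p) Rh)]
    [Hensel.IsHenselization (Localization.AtPrime p) Rh] [Algebra R Rh]
    [IsScalarTower R (Localization.AtPrime p) Rh]

include p in
/-- every element of the henselization of `R_p` comes from an étale `R`-algebra -/
theorem inT_all (x : Rh) : InT R Rh x := by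
  let T : Subring Rh :=
    { carrier := {x | InT R Rh x}
      mul_mem' := fun hx hy => inT_mul hx hy
      one_mem' := by
        have := inT_algebraMap (R := R) (Rh := Rh) 1
        rwa [map_one] at this
      add_mem' := fun hx hy => inT_add hx hy
      zero_mem' := by
        have := inT_algebraMap (R := R) (Rh := Rh) 0
        rwa [map_zero] at this
      neg_mem' := fun hx => inT_neg hx }
  have hT : T = ⊤ := by
    refine Groth.Agent.Lib.HensInductionH3.subring_eq_top (Localization.AtPrime p) Rh T ?_ ?_ ?_
    · intro y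
      obtain ⟨r, u, rfl⟩ := IsLocalization.exists_mk'_eq p.primeCompl y
      have huu : IsUnit (algebraMap R Rh (u : R)) := by
        rw [IsScalarTower.algebraMap_apply R (Localization.AtPrime p) Rh]
        exact (IsLocalization.map_units (Localization.AtPrime p) u).map _
      obtain ⟨z, hz, hmul⟩ := inT_inv (inT_algebraMap (R := R) (Rh := Rh) (u : R)) huu
      have e : algebraMap (Localization.AtPrime p) Rh (IsLocalization.mk' _ r u) =
          algebraMap R Rh r * z := by
        have e1 : algebraMap R Rh (u : R) *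
            algebraMap (Localization.AtPrime p) Rh (IsLocalization.mk' _ r u) =
            algebraMap R Rh r := by
          rw [IsScalarTower.algebraMap_apply R (Localization.AtPrime p) Rh,
            IsScalarTower.algebraMap_apply R (Localization.AtPrime p) Rh, ← map_mul,
            IsLocalization.mk'_spec']
        rw [← e1]
        calc algebraMap (Localization.AtPrime p) Rh (IsLocalization.mk' _ r u)
            = algebraMap (Localization.AtPrime p) Rh (IsLocalization.mk' _ r u) *
              (algebraMap R Rh (u : R) * z) := by rw [hmul, mul_one]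
          _ = _ := by ring
      show InT R Rh _
      rw [e]
      exact inT_mul (inT_algebraMap r) hz
    · intro x hx hu
      obtain ⟨y, hy, hxy⟩ := inT_inv hx hu
      exact ⟨y, hy, hxy⟩
    · intro n c a hc h0 hu
      obtain ⟨S, _, _, _, f, s, hs⟩ := inT_fin n c hc
      have hc' : c = fun i => f (s i) := funext fun i => (hs i).symm
      subst hc'
      exact inT_root f n s a h0 hu
  have : x ∈ T := by rw [hT]; trivial
  exact this

/-- part (b) -/
theorem exists_pair (x : Rh) :
    ∃ (S : Type u) (_ : CommRing S) (_ : Algebra R S) (_ : Algebra.Etale R S) (q : Ideal S)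
        (_ : q.IsPrime) (hq : p = q.comap (algebraMap R S)),
        Function.Bijective (Ideal.ResidueField.map p q (algebraMap R S) hq) ∧
          ∃ (f : S →ₐ[R] Rh) (s : S), (maximalIdeal Rh).comap f.toRingHom = q ∧ f s = x := by
  obtain ⟨S, _, _, _, f, s, hs⟩ := inT_all R p Rh x
  obtain ⟨hq, hκ⟩ := pair_of_map R p Rh f
  exact ⟨S, inferInstance, inferInstance, inferInstance, (maximalIdeal Rh).comap f.toRingHom,
    inferInstance, hq, hκ, f, s, rfl, hs⟩

/-- if `f s = 0` in `R^h` then `s` dies in `S_q` -/
theorem exists_kill {S : Type u} [CommRing S] [Algebra R S] [Algebra.Etale R S] (q : Ideal S)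
    [q.IsPrime] (hq : p = q.comap (algebraMap R S))
    (hκ : Function.Bijective (Ideal.ResidueField.map p q (algebraMap R S) hq))
    (f : S →ₐ[R] Rh) (hf : (maximalIdeal Rh).comap f.toRingHom = q) (s : S) (hs : f s = 0) :
    ∃ t, t ∉ q ∧ t * s = 0 := by
  let g : Localization.AtPrime p →+* Groth.Agent.Lib.HenselizationH3.Hens (Localization.AtPrime q) :=
    (algebraMap (Localization.AtPrime q) _).comp
      (Localization.localRingHom p q (algebraMap R S) hq)
  have hg : IsLocalHom g := RingHom.isLocalHom_comp _ _
  obtain ⟨h, hh, -⟩ := Hensel.IsHenselization.universal (R := Localization.AtPrime p) (S := Rh)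
    (Groth.Agent.Lib.HenselizationH3.Hens (Localization.AtPrime q)) g hg
  haveI hhloc : IsLocalHom h :=
    Groth.Agent.Lib.HensInductionH3.isLocalHom_of_comp (Localization.AtPrime p) Rh h
      (by rw [hh]; exact hg)
  letI : Algebra R (Groth.Agent.Lib.HenselizationH3.Hens (Localization.AtPrime q)) :=
    ((algebraMap (Localization.AtPrime q) _).comp
      ((algebraMap S (Localization.AtPrime q)).comp (algebraMap R S))).toAlgebra
  let b : S →ₐ[R] Groth.Agent.Lib.HenselizationH3.Hens (Localization.AtPrime q) :=
    { toRingHom := (algebraMap (Localization.AtPrime q) _).comp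
        (algebraMap S (Localization.AtPrime q))
      commutes' := fun r => rfl }
  let a : S →ₐ[R] Groth.Agent.Lib.HenselizationH3.Hens (Localization.AtPrime q) :=
    { toRingHom := h.comp f.toRingHom
      commutes' := fun r => by
        show h (f (algebraMap R S r)) = algebraMap (Localization.AtPrime q) _
          (algebraMap S (Localization.AtPrime q) (algebraMap R S r))
        rw [AlgHom.commutes, IsScalarTower.algebraMap_apply R (Localization.AtPrime p) Rh,
          ← RingHom.comp_apply, hh]
        show algebraMap (Localization.AtPrime q) _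
          (Localization.localRingHom p q (algebraMap R S) hq (algebraMap R _ r)) = _
        rw [Localization.localRingHom_to_map] }
  have ha : (maximalIdeal (Groth.Agent.Lib.HenselizationH3.Hens (Localization.AtPrime q))).comap
      a.toRingHom = q := by
    have h1 : (maximalIdeal (Groth.Agent.Lib.HenselizationH3.Hens (Localization.AtPrime q))).comap
        a.toRingHom = ((maximalIdeal (Groth.Agent.Lib.HenselizationH3.Hens
          (Localization.AtPrime q))).comap h).comap f.toRingHom := by
      rw [Ideal.comap_comap]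
      first | done | rfl
    rw [h1, Groth.Agent.Lib.HensJointH3.comap_maximalIdeal_of_isLocalHom h]
    exact hf
  have hb : (maximalIdeal (Groth.Agent.Lib.HenselizationH3.Hens (Localization.AtPrime q))).comap
      b.toRingHom = q := by
    have h1 : (maximalIdeal (Groth.Agent.Lib.HenselizationH3.Hens (Localization.AtPrime q))).comap
        b.toRingHom = ((maximalIdeal (Groth.Agent.Lib.HenselizationH3.Hens
          (Localization.AtPrime q))).comap (algebraMap (Localization.AtPrime q) _)).comap
          (algebraMap S (Localization.AtPrime q)) := by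
      rw [Ideal.comap_comap]
      first | done | rfl
    rw [h1, Groth.Agent.Lib.HensJointH3.comap_maximalIdeal_of_isLocalHom]
    exact Localization.AtPrime.under_maximalIdeal
  have hab : a = b := unique_of_comap p q hq hκ a b ha hb
  have h0 : algebraMap (Localization.AtPrime q)
      (Groth.Agent.Lib.HenselizationH3.Hens (Localization.AtPrime q))
      (algebraMap S (Localization.AtPrime q) s) = 0 := by
    show b s = 0
    rw [← hab]
    show h (f s) = 0
    rw [hs, map_zero]
  have h1 : algebraMap S (Localization.AtPrime q) s = 0 := by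
    apply FaithfulSMul.algebraMap_injective (Localization.AtPrime q)
      (Groth.Agent.Lib.HenselizationH3.Hens (Localization.AtPrime q))
    rw [h0, map_zero]
  obtain ⟨t, ht⟩ := (IsLocalization.map_eq_zero_iff q.primeCompl _ s).mp h1
  exact ⟨t, t.2, ht⟩

/-- part (c) -/
theorem exists_refine {S : Type u} [CommRing S] [Algebra R S] [Algebra.Etale R S] (q : Ideal S)
    [q.IsPrime] (hq : p = q.comap (algebraMap R S))
    (hκ : Function.Bijective (Ideal.ResidueField.map p q (algebraMap R S) hq))
    (f : S →ₐ[R] Rh) (hf : (maximalIdeal Rh).comap f.toRingHom = q) (s : S) (hs : f s = 0) :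
    ∃ (S' : Type u) (_ : CommRing S') (_ : Algebra R S') (_ : Algebra.Etale R S') (q' : Ideal S')
      (_ : q'.IsPrime) (hq' : p = q'.comap (algebraMap R S')),
      Function.Bijective (Ideal.ResidueField.map p q' (algebraMap R S') hq') ∧
        ∃ φ : S →ₐ[R] S', q'.comap φ.toRingHom = q ∧ φ s = 0 := by
  obtain ⟨t, htq, hts⟩ := exists_kill R p Rh q hq hκ f hf s hs
  haveI : Algebra.Etale S (Localization.Away t) := Algebra.Etale.of_isLocalizationAway t
  haveI : Algebra.Etale R (Localization.Away t) := Algebra.Etale.comp R S _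
  let χ : S →ₐ[R] Localization.Away t := IsScalarTower.toAlgHom R S _
  have hunit : ∀ y : Submonoid.powers t, IsUnit (point p q hq hκ y) := by
    rintro ⟨_, n, rfl⟩
    rw [map_pow]
    refine IsUnit.pow n ?_
    rw [isUnit_iff_ne_zero, Ne, point_eq_zero_iff]
    exact htq
  let ρ₃ : Localization.Away t →ₐ[R] p.ResidueField :=
    IsLocalization.liftAlgHom (M := Submonoid.powers t) (f := point p q hq hκ) hunit
  have hρ₃ : ∀ x, ρ₃ (χ x) = point p q hq hκ x := fun x => IsLocalization.lift_eq _ x
  haveI : (RingHom.ker ρ₃).IsPrime := RingHom.ker_isPrime ρ₃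
  have hmem : ∀ d, ρ₃ d = 0 ↔ d ∈ RingHom.ker ρ₃ := fun d => RingHom.mem_ker.symm
  obtain ⟨hq₃, hbij⟩ := pair_of_point p (RingHom.ker ρ₃) ρ₃ hmem
  refine ⟨Localization.Away t, inferInstance, inferInstance, inferInstance,
    RingHom.ker ρ₃, inferInstance, hq₃, hbij, χ, ?_, ?_⟩
  · ext x
    rw [Ideal.mem_comap, ← hmem]
    show ρ₃ (χ x) = 0 ↔ _
    rw [hρ₃, point_eq_zero_iff]
  · have hu : IsUnit (χ t) := IsLocalization.Away.algebraMap_isUnit t
    have h0 : χ t * χ s = 0 := by rw [← map_mul, hts, map_zero]
    exact (hu.mul_right_eq_zero).mp h0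

end main2

end Groth.Agent.Lib.EtNbhdHensH3
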