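import Groth.Agent.Lib.EtNormA_helper4
import Groth.Agent.Lib.GrpSepDisc_helper4
import Groth.Prelude.Def_Pi1

set_option autoImplicit false
set_option linter.style.haveILetI false
set_option linter.unusedSectionVars false
universe u
open CategoryTheory CategoryTheory.Limits AlgebraicGeometry MonoidalCategory CartesianMonoidalCategory MonObj

namespace Groth.Agent.Lib.EtNormH4

section

variable {k : Type u} [Field k] (G : Over (Spec (CommRingCat.of k))) [GrpObj G] [Etale G.hom]
  {S : Scheme.{u}} (s : S ⟶ Spec (CommRingCat.of k))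
  (E : NonAbH1.TorsorSch (Red.bc s G) Scheme.fppfPrecoverage)

theorem torsor_fpqc : NonAbH1.IsTorsorFor Scheme.fpqcPrecoverage E.act := by
  obtain ⟨h1, Rr, hR, hsec⟩ := E.isTorsor
  exact ⟨h1, Rr, Scheme.fppfPrecoverage_le_fpqcPrecoverage _ hR, hsec⟩

theorem etale_torsor : Etale E.X.hom :=
  Groth.Agent.Lib.TorsorProp_helper7.prop_of_torsor @Etale E.act (torsor_fpqc G s E)
    (inferInstanceAs (Etale (pullback.snd G.hom s)))

theorem isSeparated_torsor : IsSeparated E.X.hom := by
  haveI := Groth.Agent.Lib.TorsorProp_helper7.isSeparated_descends.{u}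
  haveI : IsSeparated G.hom := Groth.Agent.Lib.GrpSepDiscH4.main5331 _ G
  exact Groth.Agent.Lib.TorsorProp_helper7.prop_of_torsor @IsSeparated E.act (torsor_fpqc G s E)
    (inferInstanceAs (IsSeparated (pullback.snd G.hom s)))

theorem isIso_residue_genericPoint (S : Scheme.{u}) [IsIntegral S] :
    IsIso (S.residue (genericPoint S)) := by
  rw [ConcreteCategory.isIso_iff_bijective]
  refine ⟨?_, S.residue_surjective _⟩
  exact RingHom.injective (S.residue (genericPoint S)).hom

theorem exists_section [IsIntegral S] (hS : Pi1.IsNormalScheme S)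
    (x : Spec (S.residueField (genericPoint S)) ⟶ E.X.left)
    (hx : x ≫ E.X.hom = S.fromSpecResidueField (genericPoint S)) :
    ∃ σ : S ⟶ E.X.left, σ ≫ E.X.hom = 𝟙 S ∧ S.fromSpecResidueField (genericPoint S) ≫ σ = x := by
  haveI := etale_torsor G s E
  haveI := isSeparated_torsor G s E
  haveI := isIso_residue_genericPoint S
  have hN : ∀ y : S, IsIntegrallyClosed (S.presheaf.stalk y) := fun y => (hS y).2
  -- the image
  haveI : Subsingleton (Spec (S.residueField (genericPoint S))) :=
    inferInstanceAs (Subsingleton (PrimeSpectrum (S.residueField (genericPoint S))))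
  haveI : QuasiCompact x := Groth.Agent.Lib.SectionExtH7.quasiCompact_of_subsingleton x
  haveI : IsIntegral x.image := Groth.Agent.Lib.SectionExtH7.isIntegral_image x
  obtain ⟨pt⟩ : Nonempty (Spec (S.residueField (genericPoint S))) := inferInstance
  have hrx : Set.range x = {x pt} := by
    ext y
    constructor
    · rintro ⟨p, rfl⟩
      rw [Subsingleton.elim p pt]; rfl
    · rintro rfl
      exact ⟨pt, rfl⟩
  have hri : Set.range x.imageι = closure {x pt} := by
    rw [Scheme.IdealSheafData.range_subschemeι, Scheme.Hom.support_ker, hrx]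
  haveI : Finite (Spec (S.residueField (genericPoint S))) := Finite.of_subsingleton
  haveI : IsFinite (x.imageι ≫ E.X.hom) :=
    isFinite_closure G s E x.imageι x (x pt) hrx hri.le
  -- spreading out
  obtain ⟨φ, hφ⟩ : ∃ φ : Spec (S.presheaf.stalk (genericPoint S)) ⟶ E.X.left,
      φ = Spec.map (inv (S.residue (genericPoint S))) ≫ x := ⟨_, rfl⟩
  have hφ1 : Spec.map (S.residue (genericPoint S)) ≫ φ = x := by
    rw [hφ, ← Category.assoc, ← Spec.map_comp, IsIso.inv_hom_id, Spec.map_id, Category.id_comp]
  have hφ2 : φ ≫ E.X.hom = S.fromSpecStalk (genericPoint S) ≫ 𝟙 S := by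
    rw [hφ, Category.assoc, hx, Scheme.fromSpecResidueField, ← Category.assoc, ← Spec.map_comp,
      IsIso.hom_inv_id, Spec.map_id, Category.id_comp, Category.comp_id]
  obtain ⟨U, hηU, t, ht1, ht2⟩ := spread_out_of_isGermInjective' (𝟙 S) E.X.hom φ hφ2
  rw [Category.comp_id] at ht2
  -- the spread-out section factors through the image
  obtain ⟨ηU, hηUdef⟩ : ∃ ηU : U.toScheme, U.ι ηU = genericPoint S := ⟨⟨_, hηU⟩, rfl⟩
  have hpt : ∀ p : Spec (S.presheaf.stalk (genericPoint S)),
      (U.fromSpecStalkOfMem (genericPoint S) hηU) p = ηU := by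
    intro p
    apply U.ι.injective
    rw [← Scheme.Hom.comp_apply, Scheme.Opens.fromSpecStalkOfMem_ι, hηUdef]
    have h1 := Scheme.range_fromSpecStalk (X := S) (x := genericPoint S)
    have h2 : S.fromSpecStalk (genericPoint S) p ∈
        Set.range (S.fromSpecStalk (genericPoint S)) := ⟨p, rfl⟩
    rw [h1] at h2
    exact ((genericPoint_specializes _).antisymm h2).eq.symm
  have hrange : Set.range t ⊆ Set.range x.imageι := by
    rw [hri]
    rintro _ ⟨v, rfl⟩
    obtain ⟨p⟩ : Nonempty (Spec (S.presheaf.stalk (genericPoint S))) := inferInstance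
    have h0 : t ηU = x pt := by
      rw [← hpt p, ← Scheme.Hom.comp_apply, ← ht1, hφ, Scheme.Hom.comp_apply]
      congr 1
      exact Subsingleton.elim _ _
    have h1 : ηU ⤳ v := by
      rw [← U.ι.isEmbedding.isInducing.specializes_iff, hηUdef]
      exact genericPoint_specializes _
    have h2 : t ηU ⤳ t v := h1.map t.continuous
    rw [h0] at h2
    exact specializes_iff_mem_closure.mp h2
  haveI : IsReduced U.toScheme := inferInstance
  obtain ⟨t', ht'⟩ := Groth.Agent.Lib.SectionExtH7.exists_lift_of_isReduced t x.imageι hrange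
  have hth : t' ≫ (x.imageι ≫ E.X.hom) = U.ι := by rw [← Category.assoc, ht', ht2]
  haveI : IsIso (x.imageι ≫ E.X.hom) :=
    Groth.Agent.Lib.IntegralSectionH7.isIso_of_rational_section hN (x.imageι ≫ E.X.hom) U
      ⟨genericPoint S, hηU⟩ t' hth
  refine ⟨inv (x.imageι ≫ E.X.hom) ≫ x.imageι, ?_, ?_⟩
  · rw [Category.assoc, IsIso.inv_hom_id]
  · have hU : U.ι ≫ inv (x.imageι ≫ E.X.hom) ≫ x.imageι = t := by
      rw [← hth, Category.assoc, IsIso.hom_inv_id_assoc, ht']
    rw [Scheme.fromSpecResidueField, ← Scheme.Opens.fromSpecStalkOfMem_ι U (genericPoint S) hηU,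
      Category.assoc, Category.assoc, hU, ← ht1, hφ1]

end

end Groth.Agent.Lib.EtNormH4
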