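import Groth.Agent.Lib.TorsorSeq_lead

/-! # A `G`-scheme is trivial iff it is a pseudo-torsor with a section (lead) -/

set_option linter.unusedSimpArgs false
set_option linter.unusedVariables false
set_option linter.unusedSectionVars false
set_option linter.style.longLine false
set_option maxHeartbeats 800000

universe u

open CategoryTheory CategoryTheory.Limits MonoidalCategory CartesianMonoidalCategory MonObj GrpObj
  AlgebraicGeometry Opposite

namespace Groth.Agent.Lib.TorsorTriv

open Groth.Agent.Lib.TorsorSeq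

variable {S : Scheme.{u}}

theorem trivial_iff (G X : Over S) [GrpObj G] (a : AlgGrp.Action G X) :
    Nonempty (NonAbH1.EquivIso (NonAbH1.trivialAction G) a) ↔
      (NonAbH1.IsPseudoTorsorSch a ∧ NonAbH1.HasSectionOver X (𝟙 S)) := by
  constructor
  · rintro ⟨⟨iso, comm⟩⟩
    have comm' : μ[G] ≫ iso.hom = (G ◁ iso.hom) ≫ a.act := comm
    refine ⟨?_, ?_⟩
    · unfold NonAbH1.IsPseudoTorsorSch
      haveI hG : IsIso (lift μ[G] (snd G G)) := NonAbH1.isPseudoTorsorSch_trivialAction G
      have e : lift a.act (snd G X) =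
          (G ◁ iso.inv) ≫ lift μ[G] (snd G G) ≫ (iso.hom ⊗ₘ iso.hom) := by
        apply CartesianMonoidalCategory.hom_ext
        · rw [lift_fst, Category.assoc, Category.assoc, tensorHom_fst, lift_fst_assoc, comm',
            ← Category.assoc, ← MonoidalCategory.whiskerLeft_comp, Iso.inv_hom_id,
            MonoidalCategory.whiskerLeft_id, Category.id_comp]
        · rw [lift_snd, Category.assoc, Category.assoc, tensorHom_snd, lift_snd_assoc,
            ← Category.assoc, whiskerLeft_snd, Category.assoc, Iso.inv_hom_id, Category.comp_id]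
      rw [e]
      infer_instance
    · exact ⟨(η[G] ≫ iso.hom).left, Over.w (η[G] ≫ iso.hom)⟩
  · rintro ⟨hps, s, hs⟩
    haveI : IsIso (lift a.act (snd G X)) := hps
    obtain ⟨x0, -⟩ : ∃ x0 : 𝟙_ (Over S) ⟶ X, True := ⟨Over.homMk s hs, trivial⟩
    have hy : ∀ {A B : Over S} (k : A ⟶ B), k ≫ toUnit B ≫ x0 = toUnit A ≫ x0 := by
      intro A B k
      rw [← Category.assoc]
      exact congrArg (fun m => m ≫ x0) (toUnit_unique _ _)
    refine ⟨⟨⟨lift (𝟙 G) (toUnit G ≫ x0) ≫ a.act, dif a.act (𝟙 X) (toUnit X ≫ x0), ?_, ?_⟩, ?_⟩⟩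
    · rw [comp_dif, hy, Category.comp_id]
      exact (dif_unique a.act _ _ (𝟙 G) rfl).symm
    · rw [← Category.assoc, comp_lift, Category.comp_id, hy, dif_spec]
    · show μ[G] ≫ lift (𝟙 G) (toUnit G ≫ x0) ≫ a.act =
        (G ◁ (lift (𝟙 G) (toUnit G ≫ x0) ≫ a.act)) ≫ a.act
      have hμ : μ[G] = fst G G * snd G G := by
        rw [Hom.mul_def, lift_fst_snd, Category.id_comp]
      have e3 : G ◁ (lift (𝟙 G) (toUnit G ≫ x0) ≫ a.act) =
          lift (fst G G) (lift (snd G G) (toUnit (G ⊗ G) ≫ x0) ≫ a.act) := by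
        apply CartesianMonoidalCategory.hom_ext
        · rw [whiskerLeft_fst, lift_fst]
        · rw [whiskerLeft_snd, lift_snd, ← Category.assoc, comp_lift, Category.comp_id, hy]
      rw [← Category.assoc, comp_lift, Category.comp_id, hy, e3]
      have h1 := act_mul' a (fst G G) (snd G G) (toUnit (G ⊗ G) ≫ x0)
      rw [← hμ] at h1
      exact h1

end Groth.Agent.Lib.TorsorTriv
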