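import Groth.Agent.Lib.EtNormB_helper4
import Groth.Agent.Lib.TorsorTriv_lead

set_option autoImplicit false
set_option linter.style.haveILetI false
set_option linter.unusedSectionVars false
universe u
open CategoryTheory CategoryTheory.Limits AlgebraicGeometry MonoidalCategory CartesianMonoidalCategory MonObj

namespace Groth.Agent.Lib.EtNormH4

section

variable {k : Type u} [Field k] (G : Over (Spec (CommRingCat.of k))) [GrpObj G] [Etale G.hom]
  {S : Scheme.{u}} (s : S ⟶ Spec (CommRingCat.of k))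

theorem main15873 [IsIntegral S] (hS : Pi1.IsNormalScheme S)
    (E : NonAbH1.TorsorSch (Red.bc s G) Scheme.fppfPrecoverage) :
    (∀ σ₁ σ₂ : S ⟶ E.X.left, σ₁ ≫ E.X.hom = 𝟙 S → σ₂ ≫ E.X.hom = 𝟙 S →
        S.fromSpecResidueField (genericPoint S) ≫ σ₁ = S.fromSpecResidueField (genericPoint S) ≫ σ₂ → σ₁ = σ₂) ∧
    (∀ x : Spec (S.residueField (genericPoint S)) ⟶ E.X.left,
        x ≫ E.X.hom = S.fromSpecResidueField (genericPoint S) →
        ∃ σ : S ⟶ E.X.left, σ ≫ E.X.hom = 𝟙 S ∧ S.fromSpecResidueField (genericPoint S) ≫ σ = x) := by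
  refine ⟨?_, fun x hx => exists_section G s E hS x hx⟩
  intro σ₁ σ₂ h1 h2 h
  haveI := isSeparated_torsor G s E
  refine ext_of_fromSpecResidueField_eq σ₁ σ₂ E.X.hom {genericPoint S} ?_ ?_ (h1.trans h2.symm)
  · rw [dense_iff_closure_eq]
    exact (genericPoint_spec S)
  · rintro y rfl
    exact h

/-- having a section is invariant under equivariant isomorphism -/
theorem hasSection_of_equivIso {B : Scheme.{u}} {H : Over B} [GrpObj H] {X X' : Over B}
    {a : AlgGrp.Action H X} {a' : AlgGrp.Action H X'} (e : NonAbH1.EquivIso a a')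
    (h : NonAbH1.HasSectionOver X (𝟙 B)) : NonAbH1.HasSectionOver X' (𝟙 B) := by
  obtain ⟨t, ht⟩ := h
  exact ⟨t ≫ e.iso.hom.left, by rw [Category.assoc, Over.w e.iso.hom, ht]⟩

theorem hasSection_of_equivIso' {B : Scheme.{u}} {H : Over B} [GrpObj H] {X X' : Over B}
    {a : AlgGrp.Action H X} {a' : AlgGrp.Action H X'} (e : NonAbH1.EquivIso a a')
    (h : NonAbH1.HasSectionOver X' (𝟙 B)) : NonAbH1.HasSectionOver X (𝟙 B) := by
  obtain ⟨t, ht⟩ := h
  exact ⟨t ≫ e.iso.inv.left, by rw [Category.assoc, Over.w e.iso.inv, ht]⟩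

theorem hasSection_of_cl_eq_one {B : Scheme.{u}} {H : Over B} [GrpObj H]
    (K : Precoverage Scheme.{u}) [K.HasIsos] (P : NonAbH1.TorsorSch H K)
    (h : P.cl = 1) : NonAbH1.HasSectionOver P.X (𝟙 B) := by
  have h1 := Quot.eqvGen_exact h
  have key : ∀ P Q : NonAbH1.TorsorSch H K,
      Relation.EqvGen (fun P Q : NonAbH1.TorsorSch H K =>
        Nonempty (NonAbH1.EquivIso P.act Q.act)) P Q →
      (NonAbH1.HasSectionOver P.X (𝟙 B) ↔ NonAbH1.HasSectionOver Q.X (𝟙 B)) := by
    intro P Q hPQ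
    induction hPQ with
    | rel P Q hr =>
      obtain ⟨e⟩ := hr
      exact ⟨hasSection_of_equivIso e, hasSection_of_equivIso' e⟩
    | refl P => exact Iff.rfl
    | symm P Q _ ih => exact ih.symm
    | trans P Q R _ _ ih1 ih2 => exact ih1.trans ih2
  refine (key _ _ h1).mpr ?_
  exact ⟨η[H].left, Over.w η[H]⟩

theorem main15874 [IsIntegral S] (hS : Pi1.IsNormalScheme S)
    (c : NonAbH1.H1Sch (Red.bc s G) Scheme.fppfPrecoverage)
    (hc : NonAbH1.H1Sch.bcMap (S.fromSpecResidueField (genericPoint S)) (Red.bc s G)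
      Scheme.fppfPrecoverage c = 1) : c = 1 := by
  induction c using Quot.ind with
  | _ E =>
    have h1 : (E.bc (S.fromSpecResidueField (genericPoint S))).cl = 1 := hc
    obtain ⟨σ₀, hσ₀⟩ := hasSection_of_cl_eq_one _ (E.bc (S.fromSpecResidueField (genericPoint S))) h1
    obtain ⟨σ₁, hσ₁⟩ : ∃ σ₁ : Spec (S.residueField (genericPoint S)) ⟶
        pullback E.X.hom (S.fromSpecResidueField (genericPoint S)),
        σ₁ ≫ pullback.snd E.X.hom (S.fromSpecResidueField (genericPoint S)) = 𝟙 _ := ⟨σ₀, hσ₀⟩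
    have hx : (σ₁ ≫ pullback.fst E.X.hom (S.fromSpecResidueField (genericPoint S))) ≫ E.X.hom =
        S.fromSpecResidueField (genericPoint S) := by
      rw [Category.assoc, pullback.condition, ← Category.assoc, hσ₁, Category.id_comp]
    obtain ⟨σ, hσ, -⟩ := exists_section G s E hS _ hx
    obtain ⟨e⟩ := (Groth.Agent.Lib.TorsorTriv.trivial_iff _ _ E.act).mpr ⟨E.isTorsor.1, σ, hσ⟩
    exact (Quot.sound ⟨e⟩).symm

end

end Groth.Agent.Lib.EtNormH4
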