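import Groth.Agent.Lib.EtNormB_helper4
import Groth.Agent.Lib.TLineI_helper4
import Groth.Agent.Lib.TorsorIso_helper7

set_option autoImplicit false
set_option linter.style.haveILetI false
set_option linter.unusedSectionVars false
universe u
open CategoryTheory CategoryTheory.Limits AlgebraicGeometry MonoidalCategory CartesianMonoidalCategory MonObj

namespace Groth.Agent.Lib.EtNormH4

theorem fpqc_of_fppf {B : Scheme.{u}} {H Y : Over B} [GrpObj H] {a : AlgGrp.Action H Y}
    (ha : NonAbH1.IsTorsorFor Scheme.fppfPrecoverage a) :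
    NonAbH1.IsTorsorFor Scheme.fpqcPrecoverage a := by
  obtain ⟨h1, Rr, hR, hsec⟩ := ha
  exact ⟨h1, Rr, Scheme.fppfPrecoverage_le_fpqcPrecoverage _ hR, hsec⟩

/-- an equivariant map of torsors along a homomorphism which is an isomorphism after a base change `j`
is an isomorphism after that base change -/
theorem isIso_bc_of_pushforward {X T : Scheme.{u}} (j : T ⟶ X) {G G' P P' : Over X} [GrpObj G]
    [GrpObj G'] (g : G ⟶ G') [IsMonHom g] (hg : IsIso ((Over.pullback j).map g))
    (a : AlgGrp.Action G P) (hP : NonAbH1.IsTorsorFor Scheme.fppfPrecoverage a)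
    (a' : AlgGrp.Action G' P') (hP' : NonAbH1.IsTorsorFor Scheme.fppfPrecoverage a')
    (φ : P ⟶ P') (hφ : a.act ≫ φ = lift (fst G P ≫ g) (snd G P ≫ φ) ≫ a'.act) :
    IsIso ((Over.pullback j).map φ) := by
  have heq : AlgGrp.Action.IsEquivariant a (a'.restrict g) φ := by
    unfold AlgGrp.Action.IsEquivariant
    rw [hφ, AlgGrp.Action.restrict_act, ← Category.assoc]
    congr 1
    apply CartesianMonoidalCategory.hom_ext
    · simp
    · simp
  have h1 := AlgGrp.Action.isEquivariant_bc j heq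
  rw [AlgGrp.Action.bc_restrict] at h1
  have hT : NonAbH1.IsTorsorFor Scheme.fppfPrecoverage (a.bc j) :=
    NonAbH1.isTorsorFor_bc j _ hP
  have hT' : NonAbH1.IsTorsorFor Scheme.fppfPrecoverage
      ((a'.bc j).restrict ((Over.pullback j).map g)) :=
    Groth.Agent.Lib.TLineH4.isTorsorFor_restrict _ _ _ (NonAbH1.isTorsorFor_bc j _ hP')
  exact Groth.Agent.Lib.TorsorIso_helper7.main _ _ (fpqc_of_fppf hT) (fpqc_of_fppf hT') _ h1

/-- a section of `P'` lifts to a `T`-point of `P` over `j` when the equivariant map is an iso over `T` -/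
theorem exists_point_of_isIso_bc {X T : Scheme.{u}} (j : T ⟶ X) {P P' : Over X} (φ : P ⟶ P')
    [IsIso ((Over.pullback j).map φ)] (σ' : X ⟶ P'.left) (hσ' : σ' ≫ P'.hom = 𝟙 X) :
    ∃ x : T ⟶ P.left, x ≫ P.hom = j := by
  obtain ⟨y, hy⟩ : ∃ y : T ⟶ pullback P'.hom j, y ≫ pullback.snd P'.hom j = 𝟙 T :=
    ⟨pullback.lift (j ≫ σ') (𝟙 T) (by rw [Category.assoc, hσ', Category.comp_id, Category.id_comp]),
      pullback.lift_snd _ _ _⟩
  have hw : (inv ((Over.pullback j).map φ)).left ≫ pullback.snd P.hom j = pullback.snd P'.hom j :=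
    Over.w (inv ((Over.pullback j).map φ))
  refine ⟨y ≫ (inv ((Over.pullback j).map φ)).left ≫ pullback.fst P.hom j, ?_⟩
  rw [Category.assoc, Category.assoc, pullback.condition]
  calc y ≫ (inv ((Over.pullback j).map φ)).left ≫ pullback.snd P.hom j ≫ j
      = y ≫ ((inv ((Over.pullback j).map φ)).left ≫ pullback.snd P.hom j) ≫ j := by
        simp only [Category.assoc]
    _ = j := by rw [hw, ← Category.assoc, hy, Category.id_comp]

/-- generic points of finite schemes over a normal integral scheme extend to sections -/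
theorem exists_section_of_generic_point {X : Scheme.{u}} [IsIntegral X]
    (hX : Pi1.IsNormalScheme X) {P : Scheme.{u}} (p : P ⟶ X) [IsFinite p]
    (x : Spec (X.presheaf.stalk (genericPoint X)) ⟶ P)
    (hx : x ≫ p = X.fromSpecStalk (genericPoint X)) :
    ∃ σ : X ⟶ P, σ ≫ p = 𝟙 X := by
  have hN : ∀ y : X, IsIntegrallyClosed (X.presheaf.stalk y) := fun y => (hX y).2
  have hx' : x ≫ p = X.fromSpecStalk (genericPoint X) ≫ 𝟙 X := by rw [hx, Category.comp_id]
  obtain ⟨U, hηU, t, -, ht2⟩ := spread_out_of_isGermInjective' (𝟙 X) p x hx'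
  rw [Category.comp_id] at ht2
  obtain ⟨σ, hσ, -⟩ := Groth.Agent.Lib.SectionExtH7.exists_section_extension hN p U
    ⟨genericPoint X, hηU⟩ t ht2
  exact ⟨σ, hσ⟩

theorem main14695 {X : Scheme.{u}} [IsIntegral X]
    (hX : Pi1.IsNormalScheme X) (G G' : Over X) [GrpObj G] [GrpObj G']
    [IsFinite G.hom] (g : G ⟶ G') [IsMonHom g]
    (hg : IsIso ((Over.pullback (X.fromSpecStalk (genericPoint X))).map g))
    (P : Over X) (a : AlgGrp.Action G P) (hP : NonAbH1.IsTorsorFor Scheme.fppfPrecoverage a)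
    (P' : Over X) (a' : AlgGrp.Action G' P') (hP' : NonAbH1.IsTorsorFor Scheme.fppfPrecoverage a')
    (hpush : NonAbH1.IsPushforwardAlongSch g a a') (htriv : NonAbH1.HasSectionOver P' (𝟙 X)) :
    NonAbH1.HasSectionOver P (𝟙 X) := by
  obtain ⟨φ, hφ⟩ := hpush
  obtain ⟨σ', hσ'⟩ := htriv
  haveI := isIso_bc_of_pushforward (X.fromSpecStalk (genericPoint X)) g hg a hP a' hP' φ hφ
  obtain ⟨x, hx⟩ := exists_point_of_isIso_bc (X.fromSpecStalk (genericPoint X)) φ σ' hσ'
  haveI := Groth.Agent.Lib.TorsorProp_helper7.isFinite_descends.{u}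
  haveI : IsFinite P.hom :=
    Groth.Agent.Lib.TorsorProp_helper7.prop_of_torsor @IsFinite a (fpqc_of_fppf hP) inferInstance
  obtain ⟨σ, hσ⟩ := exists_section_of_generic_point hX P.hom x hx
  exact ⟨σ, hσ⟩

end Groth.Agent.Lib.EtNormH4
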