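import Groth.Agent.Lib.EtNormal3_helper4

/-!
# Smooth ring maps are normal homomorphisms (helper4)
-/

universe u

set_option linter.style.haveILetI false

open TensorProduct AlgebraicGeometry

namespace Groth.Agent.Lib.EtNormal4H4

/-- A field is a normal ring. -/
theorem isNormalRing_of_field (k : Type u) [Field k] : EGA4.IsNormalRing k := by
  intro P hP
  refine ⟨inferInstance, ?_⟩
  exact isIntegrallyClosed_of_isLocalization (Localization.AtPrime P) P.primeCompl
    P.primeCompl_le_nonZeroDivisors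

/-- A smooth ring map is a normal homomorphism. -/
theorem isNormalHom_of_smooth (R B : Type u) [CommRing R] [CommRing B] [Algebra R B]
    [Algebra.Smooth R B] : EGA4.IsNormalHom R B := by
  refine ⟨inferInstance, ?_⟩
  intro p hp k' _ _ _
  exact (Groth.Agent.Lib.EtNormal3H4.main1182 k' (k' ⊗[p.ResidueField] p.Fiber B)).1
    (isNormalRing_of_field k')

theorem main1469 {X Y : Scheme.{u}} (f : X ⟶ Y) [Smooth f] (U : X.Opens) (V : Y.Opens)
    (hU : IsAffineOpen U) (hV : IsAffineOpen V) (hUV : U ≤ f ⁻¹ᵁ V) :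
    letI := (f.appLE V U hUV).hom.toAlgebra
    EGA4.IsNormalHom Γ(Y, V) Γ(X, U) := by
  letI := (f.appLE V U hUV).hom.toAlgebra
  haveI : Algebra.Smooth Γ(Y, V) Γ(X, U) := f.smooth_appLE hV hU hUV
  exact isNormalHom_of_smooth Γ(Y, V) Γ(X, U)

end Groth.Agent.Lib.EtNormal4H4
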