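import Mathlib
import Groth.Agent.Lib.EtConstSec_helper7
import Groth.Agent.Lib.EtNormal2_helper4
import Groth.Agent.Lib.AlgSpGeneriz_helper6

/-!
# Constant sheaves on a normal scheme are recovered from a dense quasi-compact open (helper7)
APPEND-ONLY once landed.
-/

set_option autoImplicit false
set_option backward.isDefEq.respectTransparency false
set_option backward.isDefEq.respectTransparency.types false
set_option linter.style.haveILetI false
set_option linter.unusedSectionVars false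
universe u
open CategoryTheory CategoryTheory.Limits AlgebraicGeometry Opposite TopologicalSpace

namespace Groth.Agent.Lib.EtNormalDenseH7

open Groth.Agent.Lib.EtGenStalkAb (csX etaX etaX_res etaX_locSurj etaX_inj app_nat)
open Groth.Agent.Lib.EtConstSecH7 Groth.Agent.Lib.EtSchSite_helper7
  Groth.Agent.Lib.EtZarAff_helper7

section Locus

variable {Y : Scheme.{u}}

/-- the loci where a section of a constant sheaf takes a given value -/
theorem exists_locus (N : AddCommGrpCat.{u + 1}) (P : Y.Etale)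
    (t : (csX Y N).obj.obj (op P)) :
    ∃ W : N → P.left.Opens,
      (∀ (n : N) (V : Y.Etale) (φ : V ⟶ P),
        ((csX Y N).obj.map φ.op).hom (t - ((etaX Y N).app (op P)).hom n) = 0 ↔
          Set.range φ.left.base ⊆ (W n : Set P.left)) ∧
      (∀ p : P.left, ∃ n : N, p ∈ W n) ∧
      (∀ (m n : N) (p : P.left), p ∈ W m → p ∈ W n → m = n) := by
  have hV : ∀ n : N, ∃ W : P.left.Opens, ∀ (V : Y.Etale) (φ : V ⟶ P),
      ((csX Y N).obj.map φ.op).hom (t - ((etaX Y N).app (op P)).hom n) = 0 ↔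
        Set.range φ.left.base ⊆ (W : Set P.left) :=
    fun n => exists_opens_vanishing (csX Y N) P (t - ((etaX Y N).app (op P)).hom n)
  choose W hW using hV
  refine ⟨W, hW, ?_, ?_⟩
  · intro p
    obtain ⟨Z, k, n, ⟨z, hz⟩, hn⟩ := etaX_locSurj N t p
    refine ⟨n, ?_⟩
    have h0 : ((csX Y N).obj.map k.op).hom (t - ((etaX Y N).app (op P)).hom n) = 0 := by
      rw [map_sub]
      exact sub_eq_zero.mpr (hn.symm.trans (etaX_res N k n).symm)
    have := (hW n Z k).1 h0 ⟨z, rfl⟩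
    rw [← hz]
    exact this
  · intro m n p hm hn
    obtain ⟨O, hO⟩ : ∃ O : P.left.Opens, O = W m ⊓ W n := ⟨_, rfl⟩
    have hpO : p ∈ O := by rw [hO]; exact ⟨hm, hn⟩
    have hr : Set.range (opnι P O).left.base = (O : Set P.left) := Scheme.Opens.range_ι O
    have hm0 := (hW m _ (opnι P O)).2 (by rw [hr, hO]; exact inf_le_left)
    have hn0 := (hW n _ (opnι P O)).2 (by rw [hr, hO]; exact inf_le_right)
    rw [map_sub, sub_eq_zero] at hm0 hn0
    have key : ((etaX Y N).app (op (opn P O))).hom m = ((etaX Y N).app (op (opn P O))).hom n :=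
      (etaX_res N (opnι P O) m).symm.trans (hm0.symm.trans (hn0.trans (etaX_res N (opnι P O) n)))
    obtain ⟨y, -⟩ := mem_range_ι hpO
    exact etaX_inj N y m n key

end Locus

section Iso

variable {Y X : Scheme.{u}}

theorem isIso_phi' (g : Y ⟶ X) (N : AddCommGrpCat.{u + 1})
    (H1 : ∀ V : X.Etale, Nonempty V.left → Nonempty ((EtCoh.bc g).obj V).left)
    (H2 : ∀ (V : X.Etale) (s : ((EtCoh.push g).obj (csX Y N)).obj.obj (op V)) (v : V.left),
      ∃ (W : X.Etale) (k : W ⟶ V), v ∈ Set.range k.left ∧ ∃ n : N,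
        (((EtCoh.push g).obj (csX Y N)).obj.map k.op).hom s =
          ((etaX Y N).app (op ((EtCoh.bc g).obj W))).hom n) :
    IsIso (phi g N) := by
  haveI : Sheaf.IsLocallyInjective (phi g N) := by
    constructor
    intro U x y h
    apply sieve_mem_of_forall_exists
    intro w
    obtain ⟨Z, k, n, ⟨z, hz⟩, hn⟩ := etaX_locSurj N (x - y) w
    refine ⟨Z, k, ?_, ⟨z, hz⟩⟩
    have h0 : ((phi g N).hom.app U).hom (x - y) = 0 := by
      rw [map_sub]
      exact sub_eq_zero.mpr h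
    have h1 := app_nat (phi g N) k (x - y)
    rw [← hn, h0, map_zero, phi_e] at h1
    obtain ⟨y'⟩ := H1 Z ⟨z⟩
    have h2 : n = 0 := etaX_inj N y' n 0 (h1.trans (map_zero _).symm)
    rw [h2, map_zero, map_sub] at hn
    exact (sub_eq_zero.mp hn.symm)
  haveI : Sheaf.IsLocallySurjective (phi g N) := by
    constructor
    intro U s
    apply sieve_mem_of_forall_exists
    intro w
    obtain ⟨W, k, hw, n, hn⟩ := H2 U s w
    refine ⟨W, k, ?_, hw⟩
    exact ⟨((etaX X N).app (op W)).hom n, (phi_e g N W n).trans hn.symm⟩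
  exact (Sheaf.isLocallyBijective_iff_isIso (phi g N)).1 ⟨inferInstance, inferInstance⟩

theorem isIso_unit' (g : Y ⟶ X) (M : Type) [AddCommGroup M]
    (H1 : ∀ V : X.Etale, Nonempty V.left → Nonempty ((EtCoh.bc g).obj V).left)
    (H2 : ∀ (V : X.Etale)
      (s : ((EtCoh.push g).obj (csX Y (AddCommGrpCat.of (ULift.{u + 1} M)))).obj.obj (op V))
      (v : V.left),
      ∃ (W : X.Etale) (k : W ⟶ V), v ∈ Set.range k.left ∧
        ∃ n : (AddCommGrpCat.of (ULift.{u + 1} M) : AddCommGrpCat.{u + 1}),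
        (((EtCoh.push g).obj (csX Y (AddCommGrpCat.of (ULift.{u + 1} M)))).obj.map k.op).hom s =
          ((etaX Y (AddCommGrpCat.of (ULift.{u + 1} M))).app
            (op ((EtCoh.bc g).obj W))).hom n) :
    IsIso ((EtCoh.pullPushAdj g).unit.app (EtCoh.const X M)) := by
  haveI := isIso_phi' g (AddCommGrpCat.of (ULift.{u + 1} M)) H1 H2
  have h : (EtCoh.pullPushAdj g).unit.app (EtCoh.const X M) =
      phi g (AddCommGrpCat.of (ULift.{u + 1} M)) ≫
        (EtCoh.push g).map ((EtCore.pullConstIso g).inv.app _) := by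
    unfold phi
    rw [Category.assoc, ← Functor.map_comp, Iso.hom_inv_id_app]
    exact ((congrArg (fun z => (EtCoh.pullPushAdj g).unit.app
      (csX X (AddCommGrpCat.of (ULift.{u + 1} M))) ≫ z) ((EtCoh.push g).map_id _)).trans
        (Category.comp_id _)).symm
  rw [h]
  infer_instance

end Iso

section Top

/-- specializations into an affine open from a compact source -/
theorem exists_specializes_of_affineOpen {F Y : Scheme.{u}} [CompactSpace F] (f : F ⟶ Y)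
    (A : Y.Opens) (hA : IsAffineOpen A) (hr : Set.range f ⊆ (A : Set Y)) (y : Y) (hyA : y ∈ A)
    (hy : y ∈ closure (Set.range f)) : ∃ x : F, f x ⤳ y := by
  haveI : IsAffine (A : Scheme.{u}) := hA
  obtain ⟨fA, hfA⟩ : ∃ fA : F ⟶ (A : Scheme.{u}), fA ≫ A.ι = f :=
    ⟨IsOpenImmersion.lift A.ι f (by rw [Scheme.Opens.range_ι]; exact hr),
      IsOpenImmersion.lift_fac _ _ _⟩
  haveI : QuasiCompact fA := inferInstance
  have hpt : ∀ x : F, A.ι (fA x) = f x := fun x => by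
    rw [← Scheme.Hom.comp_apply, hfA]
  have himg : A.ι '' Set.range fA = Set.range f := by
    ext z
    constructor
    · rintro ⟨_, ⟨x, rfl⟩, rfl⟩
      exact ⟨x, (hpt x).symm⟩
    · rintro ⟨x, rfl⟩
      exact ⟨fA x, ⟨x, rfl⟩, hpt x⟩
  have hyA' : (⟨y, hyA⟩ : ↥(A : Scheme.{u})) ∈ closure (Set.range fA) := by
    rw [A.ι.isOpenEmbedding.closure_eq_preimage_closure_image]
    show A.ι ⟨y, hyA⟩ ∈ closure (A.ι '' Set.range fA)
    rw [himg]
    exact hy
  obtain ⟨x, hx⟩ :=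
    Groth.Agent.Lib.AlgSpGeneriz_helper6.exists_specializes_of_mem_closure fA _ hyA'
  refine ⟨x, ?_⟩
  have h1 := hx.map A.ι.continuous
  rw [hpt] at h1
  exact h1

/-- the key topological statement: a locally constant function on a dense quasi-compact open of a
scheme with integral local rings is constant near every point -/
theorem exists_open_nhd {P V : Scheme.{u}} (q : P ⟶ V) [IsOpenImmersion q] [QuasiCompact q]
    (hq : Dense (Set.range q)) (hdom : ∀ v : V, IsDomain (V.presheaf.stalk v))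
    {ι : Type*} (W : ι → P.Opens) (hcov : ∀ p : P, ∃ n, p ∈ W n)
    (hdisj : ∀ (m n : ι) (p : P), p ∈ W m → p ∈ W n → m = n) (v : V) :
    ∃ (B : V.Opens) (n₀ : ι), v ∈ B ∧ ∀ z : P, q z ∈ B → z ∈ W n₀ := by
  obtain ⟨A, hA, hvA, -⟩ :=
    exists_isAffineOpen_mem_and_subset (x := v) (U := (⊤ : V.Opens)) trivial
  haveI := hdom v
  obtain ⟨ξ₀, hξ₀⟩ : ∃ ξ₀ : PrimeSpectrum (V.presheaf.stalk v), ξ₀.asIdeal = ⊥ :=
    ⟨⟨⊥, Ideal.isPrime_bot⟩, rfl⟩
  obtain ⟨ξ, hξdef⟩ : ∃ ξ : V, ξ = V.fromSpecStalk v ξ₀ := ⟨_, rfl⟩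
  have hrange : ∀ y : V, y ⤳ v ↔ y ∈ Set.range (V.fromSpecStalk v) := fun y => by
    rw [Scheme.range_fromSpecStalk]
    rfl
  have hξv : ξ ⤳ v := (hrange ξ).2 ⟨ξ₀, hξdef.symm⟩
  have hξA : ξ ∈ A := hξv.mem_open A.2 hvA
  have hgen : ∀ y : V, y ⤳ v → ξ ⤳ y := by
    intro y hy
    obtain ⟨p, rfl⟩ := (hrange y).1 hy
    have h1 : ξ₀ ⤳ p := (PrimeSpectrum.le_iff_specializes _ _).mp (by
      show ξ₀.asIdeal ≤ p.asIdeal
      rw [hξ₀]
      exact bot_le)
    rw [hξdef]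
    exact h1.map (V.fromSpecStalk v).continuous
  have hmax : ∀ y : V, y ⤳ ξ → y = ξ := by
    intro y hy
    obtain ⟨p, rfl⟩ := (hrange y).1 (hy.trans hξv)
    rw [hξdef] at hy ⊢
    have h1 : p ⤳ ξ₀ := (V.fromSpecStalk v).isEmbedding.isInducing.specializes_iff.1 hy
    have h2 : p.asIdeal ≤ ξ₀.asIdeal := (PrimeSpectrum.le_iff_specializes _ _).mpr h1
    rw [hξ₀] at h2
    have h3 : p = ξ₀ := PrimeSpectrum.ext ((le_bot_iff.1 h2).trans hξ₀.symm)
    rw [h3]
  -- the generic point of the local ring lies in the dense open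
  have hPA : IsCompact ((q ⁻¹ᵁ A : P.Opens) : Set P) := q.isCompact_preimage hA.isCompact
  obtain ⟨p₀, hp₀⟩ : ∃ p₀ : P, q p₀ = ξ := by
    haveI : CompactSpace ↥((q ⁻¹ᵁ A : P.Opens) : Scheme.{u}) := isCompact_iff_compactSpace.1 hPA
    have hpt : ∀ x : ↥((q ⁻¹ᵁ A : P.Opens) : Scheme.{u}),
        ((q ⁻¹ᵁ A).ι ≫ q) x = q ((q ⁻¹ᵁ A).ι x) := fun x => Scheme.Hom.comp_apply _ _ x
    have hmemA : ∀ x : ↥((q ⁻¹ᵁ A : P.Opens) : Scheme.{u}), (q ⁻¹ᵁ A).ι x ∈ q ⁻¹ᵁ A := by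
      intro x
      have := Set.mem_range_self (f := (q ⁻¹ᵁ A).ι) x
      rw [Scheme.Opens.range_ι] at this
      exact this
    have hr : Set.range ((q ⁻¹ᵁ A).ι ≫ q) ⊆ (A : Set V) := by
      rintro _ ⟨x, rfl⟩
      rw [hpt]
      exact hmemA x
    have hcl : ξ ∈ closure (Set.range ((q ⁻¹ᵁ A).ι ≫ q)) := by
      have h1 : (A : Set V) ∩ Set.range q ⊆ Set.range ((q ⁻¹ᵁ A).ι ≫ q) := by
        rintro _ ⟨hzA, z, rfl⟩
        have hz : z ∈ Set.range (q ⁻¹ᵁ A).ι := by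
          rw [Scheme.Opens.range_ι]
          exact hzA
        obtain ⟨x, rfl⟩ := hz
        exact ⟨x, hpt x⟩
      refine closure_mono h1 (A.2.inter_closure ⟨hξA, ?_⟩)
      rw [hq.closure_eq]
      exact Set.mem_univ _
    obtain ⟨x, hx⟩ := exists_specializes_of_affineOpen ((q ⁻¹ᵁ A).ι ≫ q) A hA hr ξ hξA hcl
    exact ⟨(q ⁻¹ᵁ A).ι x, (hpt x).symm.trans (hmax _ hx)⟩
  obtain ⟨n₀, hn₀⟩ := hcov p₀
  -- the part of `q⁻¹ A` where the value differs from `n₀`
  obtain ⟨O', hO'⟩ : ∃ O' : P.Opens, O' = q ⁻¹ᵁ A ⊓ ⨆ n : {n : ι // n ≠ n₀}, W n.1 := ⟨_, rfl⟩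
  have hmemO' : ∀ z : P, z ∈ O' ↔ q z ∈ A ∧ z ∉ W n₀ := by
    intro z
    rw [hO']
    constructor
    · rintro ⟨h1, h2⟩
      refine ⟨h1, fun hz => ?_⟩
      obtain ⟨n, hn⟩ := Opens.mem_iSup.1 h2
      exact n.2 (hdisj n.1 n₀ z hn hz)
    · rintro ⟨h1, h2⟩
      refine ⟨h1, ?_⟩
      obtain ⟨n, hn⟩ := hcov z
      refine Opens.mem_iSup.2 ⟨⟨n, ?_⟩, hn⟩
      rintro rfl
      exact h2 hn
  have hO'c : IsCompact (O' : Set P) := by
    have h1 : (O' : Set P) = ((q ⁻¹ᵁ A : P.Opens) : Set P) ∩ ((W n₀ : Set P))ᶜ := by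
      ext z
      exact hmemO' z
    rw [h1]
    exact hPA.inter_right (W n₀).2.isClosed_compl
  haveI : CompactSpace ↥(O' : Scheme.{u}) := isCompact_iff_compactSpace.1 hO'c
  have hpt' : ∀ x : ↥(O' : Scheme.{u}), (O'.ι ≫ q) x = q (O'.ι x) :=
    fun x => Scheme.Hom.comp_apply _ _ x
  have hmemO'' : ∀ x : ↥(O' : Scheme.{u}), O'.ι x ∈ O' := by
    intro x
    have := Set.mem_range_self (f := O'.ι) x
    rw [Scheme.Opens.range_ι] at this
    exact this
  have hr' : Set.range (O'.ι ≫ q) ⊆ (A : Set V) := by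
    rintro _ ⟨x, rfl⟩
    rw [hpt']
    exact ((hmemO' _).1 (hmemO'' x)).1
  have hvC : v ∉ closure (Set.range (O'.ι ≫ q)) := by
    intro hv
    obtain ⟨t, ht⟩ := exists_specializes_of_affineOpen (O'.ι ≫ q) A hA hr' v hvA hv
    rw [hpt'] at ht
    have h1 : q p₀ ⤳ q (O'.ι t) := by
      rw [hp₀]
      exact hgen _ ht
    have h2 : p₀ ⤳ O'.ι t := q.isEmbedding.isInducing.specializes_iff.1 h1
    obtain ⟨n, hn, hne⟩ : ∃ n, O'.ι t ∈ W n ∧ n ≠ n₀ := by
      obtain ⟨n, hn⟩ := hcov (O'.ι t)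
      refine ⟨n, hn, ?_⟩
      rintro rfl
      exact ((hmemO' _).1 (hmemO'' t)).2 hn
    exact hne (hdisj n n₀ p₀ (h2.mem_open (W n).2 hn) hn₀)
  refine ⟨⟨(A : Set V) ∩ (closure (Set.range (O'.ι ≫ q)))ᶜ,
    A.2.inter isClosed_closure.isOpen_compl⟩, n₀, ⟨hvA, hvC⟩, ?_⟩
  rintro z ⟨hzA, hzC⟩
  by_contra hz
  have hzO' : z ∈ O' := (hmemO' z).2 ⟨hzA, hz⟩
  have hz' : z ∈ Set.range O'.ι := by
    rw [Scheme.Opens.range_ι]
    exact hzO'
  obtain ⟨x, rfl⟩ := hz'
  exact hzC (subset_closure ⟨x, hpt' x⟩)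

end Top

section Main

variable {X U : Scheme.{u}}

theorem H1 (j : U ⟶ X) (hj : Dense (Set.range j)) (V : X.Etale) (hV : Nonempty V.left) :
    Nonempty ((EtCoh.bc j).obj V).left := by
  haveI : Etale V.hom := V.prop
  obtain ⟨v₀⟩ := hV
  have hopen : IsOpen (Set.range V.hom) := V.hom.isOpenMap.isOpen_range
  obtain ⟨x, hx1, hx2⟩ := hj.inter_open_nonempty _ hopen ⟨V.hom v₀, ⟨v₀, rfl⟩⟩
  obtain ⟨v, hv⟩ := hx1
  obtain ⟨y, hy⟩ := hx2
  obtain ⟨z, -, -⟩ := Scheme.Pullback.exists_preimage_pullback (f := V.hom) (g := j) v y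
    (hv.trans hy.symm)
  exact ⟨z⟩

theorem H2 (hX : Pi1.IsNormalScheme X) (j : U ⟶ X) [IsOpenImmersion j] [QuasiCompact j]
    (hj : Dense (Set.range j)) (N : AddCommGrpCat.{u + 1}) (V : X.Etale)
    (s : ((EtCoh.push j).obj (csX U N)).obj.obj (op V)) (v : V.left) :
    ∃ (W : X.Etale) (k : W ⟶ V), v ∈ Set.range k.left ∧ ∃ n : N,
      (((EtCoh.push j).obj (csX U N)).obj.map k.op).hom s =
        ((etaX U N).app (op ((EtCoh.bc j).obj W))).hom n := by
  haveI : Etale V.hom := V.prop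
  obtain ⟨q, hqdef⟩ : ∃ q : ((EtCoh.bc j).obj V).left ⟶ V.left, q = pullback.fst V.hom j :=
    ⟨_, rfl⟩
  haveI : IsOpenImmersion q := by rw [hqdef]; infer_instance
  haveI : QuasiCompact q := by rw [hqdef]; infer_instance
  have hr : Set.range q = V.hom ⁻¹' Set.range j := by
    rw [hqdef]; exact Scheme.Pullback.range_fst V.hom j
  have hq : Dense (Set.range q) := by
    rw [hr]
    exact hj.preimage V.hom.isOpenMap
  have hdom : ∀ w : V.left, IsDomain (V.left.presheaf.stalk w) :=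
    fun w => (Groth.Agent.Lib.EtNormal2H4.isNormalScheme_of_etale V.hom hX w).1
  obtain ⟨Wl, h1, hcov, hdisj⟩ := exists_locus N ((EtCoh.bc j).obj V) s
  obtain ⟨B, n₀, hvB, hB⟩ := exists_open_nhd q hq hdom Wl hcov hdisj v
  obtain ⟨v', hv'⟩ := mem_range_ι (Z := V) hvB
  refine ⟨opn V B, opnι V B, ⟨v', hv'⟩, n₀, ?_⟩
  have hφ : Set.range ((EtCoh.bc j).map (opnι V B)).left.base ⊆ (Wl n₀ : Set _) := by
    rintro _ ⟨z, rfl⟩
    apply hB
    have hw := (EtCoh.isPullback_bc_map j (opnι V B)).w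
    have h2 : q (((EtCoh.bc j).map (opnι V B)).left z) =
        (opnι V B).left (pullback.fst (opn V B).hom j z) := by
      rw [hqdef]
      exact congrArg (fun (m : ((EtCoh.bc j).obj (opn V B)).left ⟶ V.left) => m z) hw
    rw [h2]
    have := Set.mem_range_self (f := B.ι) (pullback.fst (opn V B).hom j z)
    rw [Scheme.Opens.range_ι] at this
    exact this
  have h3 := (h1 n₀ _ ((EtCoh.bc j).map (opnι V B))).2 hφ
  rw [map_sub, sub_eq_zero] at h3
  exact h3.trans (etaX_res N ((EtCoh.bc j).map (opnι V B)) n₀)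

theorem main3104 (hX : Pi1.IsNormalScheme X) (j : U ⟶ X) [IsOpenImmersion j] [QuasiCompact j]
    (hj : Dense (Set.range j)) (M : Type) [AddCommGroup M] :
    IsIso ((EtCoh.pullPushAdj j).unit.app (EtCoh.const X M)) :=
  isIso_unit' j M (H1 j hj) (fun V s v => H2 hX j hj _ V s v)

end Main

end Groth.Agent.Lib.EtNormalDenseH7
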