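import Mathlib
import Groth.Prelude.Def_BigSite
import Groth.Agent.Lib.EtIntProp_helper7

/-!
# Condition (A) for separated locally quasi-finite morphisms (helper7)
-/

set_option autoImplicit false
set_option backward.isDefEq.respectTransparency false
set_option linter.style.haveILetI false
universe u
open CategoryTheory CategoryTheory.Limits AlgebraicGeometry Opposite

namespace Groth.Agent.Lib.EtIntH7

variable {X Y : Scheme.{u}} (f : X ⟶ Y)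

theorem propA_qf [IsSeparated f] [LocallyQuasiFinite f] [LocallyOfFiniteType f] :
    BigSite.PropA f := by
  intro U g' _ u
  obtain ⟨U₁, g₁, het₁, -, Vo, Wo, vpt, hcompl, hfin, hvx⟩ :=
    exists_etale_isCompl_of_quasiFiniteAt f (x := g' u) (s := f (g' u)) rfl
      (Scheme.Hom.quasiFiniteAt f (g' u))
  haveI := het₁
  haveI := hfin
  obtain ⟨φ, hφ⟩ : ∃ φ : Vo.toScheme ⟶ U₁, φ = Vo.ι ≫ pullback.snd f g₁ := ⟨_, rfl⟩
  obtain ⟨κ, hκ⟩ : ∃ κ : Vo.toScheme ⟶ X, κ = Vo.ι ≫ pullback.fst f g₁ := ⟨_, rfl⟩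
  haveI : IsFinite φ := by rw [hφ]; exact hfin
  have hκφ : κ ≫ f = φ ≫ g₁ := by
    rw [hκ, hφ, Category.assoc, Category.assoc, pullback.condition]
  have hVclosed : IsClosed (Vo : Set ↥(pullback f g₁)) := by
    have h1 : (Vo : Set ↥(pullback f g₁)) = (Wo : Set ↥(pullback f g₁))ᶜ := by
      have h2 := TopologicalSpace.Opens.coe_disjoint.2 hcompl.disjoint
      have h3 : (Vo : Set ↥(pullback f g₁)) ∪ (Wo : Set ↥(pullback f g₁)) = Set.univ := by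
        have h4 := congrArg (fun (O : (pullback f g₁).Opens) => (O : Set ↥(pullback f g₁)))
          hcompl.sup_eq_top
        exact h4
      ext p
      constructor
      · intro hp hp'
        exact Set.disjoint_left.1 h2 hp hp'
      · intro hp
        have h5 : p ∈ (Vo : Set ↥(pullback f g₁)) ∪ (Wo : Set ↥(pullback f g₁)) := by
          rw [h3]; trivial
        rcases h5 with h5 | h5
        · exact h5
        · exact absurd h5 hp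
    rw [h1]
    exact Wo.isOpen.isClosed_compl
  -- the étale scheme over `Vo`
  have hκv : g' u = κ vpt := by
    rw [hκ]
    have h0 : (Vo.ι ≫ pullback.fst f g₁) vpt = (pullback.fst f g₁) (Vo.ι vpt) :=
      Scheme.Hom.comp_apply _ _ _
    exact (h0.trans hvx).symm
  obtain ⟨z, hz1, hz2⟩ := Scheme.Pullback.exists_preimage_pullback (f := g') (g := κ) u vpt hκv
  obtain ⟨V₂, v₂, het₂, W₂, hW₂, h₂, hh₂, hz⟩ :=
    propA_fin φ (pullback g' κ) (pullback.snd g' κ) z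
  haveI := het₂
  obtain ⟨w₂, hw₂⟩ := hz
  -- the comparison maps
  obtain ⟨vv, hvv⟩ : ∃ vv : V₂ ⟶ Y, vv = v₂ ≫ g₁ := ⟨_, rfl⟩
  haveI : Etale vv := by rw [hvv]; infer_instance
  have hlc : pullback.fst f vv ≫ f = (pullback.snd f vv ≫ v₂) ≫ g₁ := by
    rw [Category.assoc, ← hvv]
    exact pullback.condition
  obtain ⟨lam, hlam1, hlam2⟩ : ∃ lam : pullback f vv ⟶ pullback f g₁,
      lam ≫ pullback.fst f g₁ = pullback.fst f vv ∧
      lam ≫ pullback.snd f g₁ = pullback.snd f vv ≫ v₂ :=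
    ⟨pullback.lift _ _ hlc, pullback.lift_fst _ _ _, pullback.lift_snd _ _ _⟩
  have hmc : (lam ∣_ Vo) ≫ φ = ((lam ⁻¹ᵁ Vo).ι ≫ pullback.snd f vv) ≫ v₂ := by
    rw [hφ, ← Category.assoc, morphismRestrict_ι, Category.assoc, hlam2, Category.assoc]
  obtain ⟨m, hm1, hm2⟩ : ∃ m : (lam ⁻¹ᵁ Vo).toScheme ⟶ pullback φ v₂,
      m ≫ pullback.fst φ v₂ = lam ∣_ Vo ∧
      m ≫ pullback.snd φ v₂ = (lam ⁻¹ᵁ Vo).ι ≫ pullback.snd f vv :=
    ⟨pullback.lift _ _ hmc, pullback.lift_fst _ _ _, pullback.lift_snd _ _ _⟩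
  have hn₀c : (pullback.fst φ v₂ ≫ κ) ≫ f = pullback.snd φ v₂ ≫ vv := by
    rw [Category.assoc, hκφ, ← Category.assoc, pullback.condition, Category.assoc, hvv]
  obtain ⟨n₀, hn₀1, hn₀2⟩ : ∃ n₀ : pullback φ v₂ ⟶ pullback f vv,
      n₀ ≫ pullback.fst f vv = pullback.fst φ v₂ ≫ κ ∧
      n₀ ≫ pullback.snd f vv = pullback.snd φ v₂ :=
    ⟨pullback.lift _ _ hn₀c, pullback.lift_fst _ _ _, pullback.lift_snd _ _ _⟩
  have hn₀lam : n₀ ≫ lam = pullback.fst φ v₂ ≫ Vo.ι := by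
    apply pullback.hom_ext
    · rw [Category.assoc, hlam1, hn₀1, hκ, Category.assoc]
    · rw [Category.assoc, hlam2, ← Category.assoc, hn₀2, pullback.condition.symm, hφ]
      exact (Category.assoc _ _ _).symm
  have hn₀range : Set.range n₀ ⊆ Set.range (lam ⁻¹ᵁ Vo).ι := by
    rintro _ ⟨p, rfl⟩
    rw [Scheme.Opens.range_ι]
    show lam (n₀ p) ∈ Vo
    have h1 : lam (n₀ p) = Vo.ι ((pullback.fst φ v₂) p) :=
      (Scheme.Hom.comp_apply _ _ _).symm.trans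
        ((congrArg (fun (q : pullback φ v₂ ⟶ pullback f g₁) => q p) hn₀lam).trans
          (Scheme.Hom.comp_apply _ _ _))
    rw [h1]
    exact ((pullback.fst φ v₂) p).2
  obtain ⟨n, hn⟩ : ∃ n : pullback φ v₂ ⟶ (lam ⁻¹ᵁ Vo).toScheme, n ≫ (lam ⁻¹ᵁ Vo).ι = n₀ :=
    ⟨IsOpenImmersion.lift (lam ⁻¹ᵁ Vo).ι n₀ hn₀range, IsOpenImmersion.lift_fac _ _ _⟩
  have hnm : n ≫ m = 𝟙 _ := by
    apply pullback.hom_ext
    · rw [Category.assoc, hm1, Category.id_comp, ← cancel_mono Vo.ι, Category.assoc,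
        morphismRestrict_ι, ← Category.assoc, hn, hn₀lam]
    · rw [Category.assoc, hm2, ← Category.assoc, hn, hn₀2, Category.id_comp]
  -- the point
  obtain ⟨r, hr⟩ : ∃ r : (lam ⁻¹ᵁ Vo).toScheme, m r = W₂.ι w₂ :=
    ⟨n (W₂.ι w₂), (Scheme.Hom.comp_apply _ _ _).symm.trans
      (congrArg (fun (q : pullback φ v₂ ⟶ pullback φ v₂) => q (W₂.ι w₂)) hnm)⟩
  have hrmem : r ∈ m ⁻¹ᵁ W₂ := by
    show m r ∈ W₂
    rw [hr]
    exact w₂.2
  have hr' : (m ∣_ W₂) ⟨r, hrmem⟩ = w₂ := by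
    apply W₂.ι.isOpenEmbedding.injective
    have h1 : W₂.ι ((m ∣_ W₂) ⟨r, hrmem⟩) = m ((m ⁻¹ᵁ W₂).ι ⟨r, hrmem⟩) :=
      (Scheme.Hom.comp_apply _ _ _).symm.trans
        ((congrArg (fun (q : (m ⁻¹ᵁ W₂).toScheme ⟶ pullback φ v₂) => q ⟨r, hrmem⟩)
          (morphismRestrict_ι m W₂)).trans (Scheme.Hom.comp_apply _ _ _))
    exact h1.trans hr
  -- the closed embedding
  have hclemb : Topology.IsClosedEmbedding (lam ⁻¹ᵁ Vo).ι :=
    ⟨(lam ⁻¹ᵁ Vo).ι.isOpenEmbedding.isEmbedding, by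
      rw [Scheme.Opens.range_ι]
      exact hVclosed.preimage lam.continuous⟩
  have hWcl : IsClosed (((lam ⁻¹ᵁ Vo).ι ''ᵁ (m ⁻¹ᵁ W₂) : (pullback f vv).Opens) :
      Set ↥(pullback f vv)) :=
    hclemb.isClosedMap _ (hW₂.preimage m.continuous)
  have hιW : ((lam ⁻¹ᵁ Vo).ι.isoImage (m ⁻¹ᵁ W₂)).inv ≫ (m ⁻¹ᵁ W₂).ι ≫ (lam ⁻¹ᵁ Vo).ι =
      ((lam ⁻¹ᵁ Vo).ι ''ᵁ (m ⁻¹ᵁ W₂)).ι := Scheme.Hom.isoImage_inv_ι _ _
  refine ⟨V₂, vv, inferInstance, (lam ⁻¹ᵁ Vo).ι ''ᵁ (m ⁻¹ᵁ W₂), hWcl,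
    ((lam ⁻¹ᵁ Vo).ι.isoImage (m ⁻¹ᵁ W₂)).inv ≫ (m ∣_ W₂) ≫ h₂ ≫ pullback.fst g' κ, ?_, ?_⟩
  · rw [Category.assoc, Category.assoc, Category.assoc, pullback.condition,
      ← Category.assoc h₂, hh₂, Category.assoc, ← Category.assoc (m ∣_ W₂),
      morphismRestrict_ι, Category.assoc, ← Category.assoc m, hm1, hκ,
      ← Category.assoc (lam ∣_ Vo), morphismRestrict_ι, Category.assoc, hlam1,
      ← hιW, Category.assoc, Category.assoc]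
  · refine ⟨((lam ⁻¹ᵁ Vo).ι.isoImage (m ⁻¹ᵁ W₂)).hom ⟨r, hrmem⟩, ?_⟩
    have h1 : (((lam ⁻¹ᵁ Vo).ι.isoImage (m ⁻¹ᵁ W₂)).inv ≫ (m ∣_ W₂) ≫ h₂ ≫
        pullback.fst g' κ) (((lam ⁻¹ᵁ Vo).ι.isoImage (m ⁻¹ᵁ W₂)).hom ⟨r, hrmem⟩) =
        ((m ∣_ W₂) ≫ h₂ ≫ pullback.fst g' κ) ⟨r, hrmem⟩ :=
      (Scheme.Hom.comp_apply _ _ _).symm.trans
        (congrArg (fun (q : (m ⁻¹ᵁ W₂).toScheme ⟶ U) => q ⟨r, hrmem⟩)
          (Iso.hom_inv_id_assoc _ _))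
    refine h1.trans ?_
    have h2 : ((m ∣_ W₂) ≫ h₂ ≫ pullback.fst g' κ) ⟨r, hrmem⟩ =
        (h₂ ≫ pullback.fst g' κ) ((m ∣_ W₂) ⟨r, hrmem⟩) := Scheme.Hom.comp_apply _ _ _
    rw [h2, hr']
    exact (Scheme.Hom.comp_apply _ _ _).trans ((congrArg (fun p => (pullback.fst g' κ) p) hw₂).trans hz1)

end Groth.Agent.Lib.EtIntH7
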