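import Mathlib

set_option autoImplicit false
set_option linter.unusedSimpArgs false
set_option linter.unusedVariables false
set_option linter.unusedSectionVars false
set_option linter.style.longLine false
set_option linter.unnecessarySimpa false
set_option maxHeartbeats 1600000

universe u v w

open TensorProduct KaehlerDifferential

namespace Groth.Agent.Lib.EtQuot18416

/-! The first two lemmas are universe-generalized copies of lemmas from `EtCoord_helper8`. -/

/-- If `A` is a finitely presented `k`-algebra with `H¹(L_{A/k}) = 0` and `Ω[A/k]` is free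
on `d a_i`, then `k[X_i] → A`, `X_i ↦ a_i` is étale. -/
theorem etale_of_basis_D {k : Type v} {A : Type w} [CommRing k] [CommRing A] [Algebra k A]
    [Algebra.FinitePresentation k A] [Subsingleton (Algebra.H1Cotangent k A)]
    {ι : Type} [Finite ι] (a : ι → A) (b' : Module.Basis ι A Ω[A⁄k])
    (ha : ∀ i, D k A (a i) = b' i) :
    (MvPolynomial.aeval a : MvPolynomial ι k →ₐ[k] A).toRingHom.Etale := by
  classical
  let φ : MvPolynomial ι k →ₐ[k] A := MvPolynomial.aeval a
  change φ.toRingHom.Etale
  letI : Algebra (MvPolynomial ι k) A := φ.toRingHom.toAlgebra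
  haveI : IsScalarTower k (MvPolynomial ι k) A :=
    IsScalarTower.of_algebraMap_eq (fun r => (φ.commutes r).symm)
  have halg : ∀ p : MvPolynomial ι k, algebraMap (MvPolynomial ι k) A p = φ p :=
    fun _ => rfl
  -- the base-changed basis
  let bP : Module.Basis ι (MvPolynomial ι k) Ω[MvPolynomial ι k⁄k] :=
    KaehlerDifferential.mvPolynomialBasis k ι
  let bA : Module.Basis ι A (A ⊗[MvPolynomial ι k] Ω[MvPolynomial ι k⁄k]) :=
    bP.baseChange A
  have hbP : ∀ i, bP i = D k _ (MvPolynomial.X i) := by
    intro i
    apply bP.repr.injective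
    rw [Module.Basis.repr_self]
    exact (KaehlerDifferential.mvPolynomialBasis_repr_D_X k ι i).symm
  have hmbc : ∀ i, KaehlerDifferential.mapBaseChange k (MvPolynomial ι k) A (bA i) = b' i := by
    intro i
    simp only [bA, Module.Basis.baseChange_apply, KaehlerDifferential.mapBaseChange_tmul, one_smul,
      hbP, KaehlerDifferential.map_D, halg]
    rw [← ha i]
    simp [φ]
  have hmbc_eq : KaehlerDifferential.mapBaseChange k (MvPolynomial ι k) A =
      (bA.equiv b' (Equiv.refl _)).toLinearMap := by
    apply bA.ext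
    intro i
    rw [hmbc]
    simp
  have hbij : Function.Bijective (KaehlerDifferential.mapBaseChange k (MvPolynomial ι k) A) := by
    rw [hmbc_eq]
    exact (bA.equiv b' (Equiv.refl _)).bijective
  -- Claim 1: Ω[A/Pol] = 0
  haveI hΩ : Subsingleton Ω[A⁄MvPolynomial ι k] := by
    have hex := KaehlerDifferential.exact_mapBaseChange_map k (MvPolynomial ι k) A
    have hsurj := KaehlerDifferential.map_surjective k (MvPolynomial ι k) A
    refine ⟨fun x y => ?_⟩
    obtain ⟨x', rfl⟩ := hsurj x
    obtain ⟨y', rfl⟩ := hsurj y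
    obtain ⟨x'', rfl⟩ := hbij.2 x'
    obtain ⟨y'', rfl⟩ := hbij.2 y'
    rw [hex.apply_apply_eq_zero, hex.apply_apply_eq_zero]
  -- Claim 3: H1 = 0
  haveI hH : Subsingleton (Algebra.H1Cotangent (MvPolynomial ι k) A) := by
    have hex1 := Algebra.H1Cotangent.exact_map_δ k (MvPolynomial ι k) A
    have hex2 := Algebra.H1Cotangent.exact_δ_mapBaseChange k (MvPolynomial ι k) A
    refine subsingleton_of_forall_eq 0 (fun x => ?_)
    have h1 : Algebra.H1Cotangent.δ k (MvPolynomial ι k) A x = 0 := by
      apply hbij.1
      rw [hex2.apply_apply_eq_zero, map_zero]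
    obtain ⟨y, rfl⟩ := (hex1 x).mp h1
    rw [Subsingleton.elim y 0, map_zero]
  haveI : Algebra.FormallySmooth (MvPolynomial ι k) A := ⟨inferInstance, hH⟩
  haveI : Algebra.FormallyUnramified (MvPolynomial ι k) A := ⟨hΩ⟩
  haveI : Algebra.FormallyEtale (MvPolynomial ι k) A :=
    Algebra.FormallyEtale.iff_formallyUnramified_and_formallySmooth.mpr ⟨inferInstance, inferInstance⟩
  haveI : Algebra.FinitePresentation (MvPolynomial ι k) A :=
    Algebra.FinitePresentation.of_restrict_scalars_finitePresentation k _ A
  exact (⟨inferInstance, inferInstance⟩ : Algebra.Etale (MvPolynomial ι k) A)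

/-- D2: a basis of `Ω[B_q/A]` of the form `d a_i` spreads out to a basic open neighbourhood. -/
theorem exists_basis_away_of_dvd {A : Type v} {B : Type w} [CommRing A] [CommRing B] [Algebra A B]
    [Algebra.FinitePresentation A B] (q : Ideal B) [q.IsPrime] {ι : Type} [Finite ι] (a : ι → B)
    (b : Module.Basis ι (Localization.AtPrime q) Ω[Localization.AtPrime q⁄A])
    (hb : ∀ i, b i = D A (Localization.AtPrime q) (algebraMap B (Localization.AtPrime q) (a i))) :
    ∃ f ∉ q, ∀ t, f ∣ t →
      ∃ b' : Module.Basis ι (Localization.Away t) Ω[Localization.Away t⁄A],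
        ∀ i, b' i = D A (Localization.Away t) (algebraMap B (Localization.Away t) (a i)) := by
  classical
  let e : (ι →₀ B) →ₗ[B] Ω[B⁄A] :=
    Finsupp.linearCombination B fun i : ι ↦ D A B (a i)
  let l₁ : (ι →₀ B) →ₗ[B] (ι →₀ Localization.AtPrime q) :=
    Finsupp.mapRange.linearMap (Algebra.linearMap B (Localization.AtPrime q))
  let l₂ : Ω[B⁄A] →ₗ[B] Ω[Localization.AtPrime q⁄A] := map A A B (Localization.AtPrime q)
  let eₚ : (ι →₀ Localization.AtPrime q) →ₗ[Localization.AtPrime q] Ω[Localization.AtPrime q⁄A] :=
    IsLocalizedModule.mapExtendScalars q.primeCompl l₁ l₂ (Localization.AtPrime q) e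
  have : eₚ = b.repr.symm := by
    ext i
    trans IsLocalizedModule.map q.primeCompl l₁ l₂ e <| l₁ <| Finsupp.single i 1
    · simp [eₚ, -IsLocalizedModule.map_apply, l₁]
    · simp [l₂, e, hb]
  have heₚ : Function.Bijective eₚ := this ▸ b.repr.symm.bijective
  obtain ⟨f, hf, h⟩ := exists_bijective_map_powers q.primeCompl l₁ l₂ e heₚ
  refine ⟨f, hf, fun t ht => ?_⟩
  have h := h t ht
  let l₁ₜ : (ι →₀ B) →ₗ[B] (ι →₀ Localization.Away t) :=
    Finsupp.mapRange.linearMap (Algebra.linearMap B _)
  let l₂ₜ : Ω[B⁄A] →ₗ[B] Ω[Localization.Away t⁄A] :=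
    map A A B (Localization.Away t)
  rw [← IsLocalizedModule.map_bijective_iff_localizedModuleMap_bijective l₁ₜ l₂ₜ] at h
  let eₜ' : (ι →₀ Localization.Away t) →ₗ[Localization.Away t] Ω[Localization.Away t⁄A] :=
    IsLocalizedModule.mapExtendScalars (Submonoid.powers t) l₁ₜ l₂ₜ (Localization.Away t) e
  refine ⟨.ofRepr (LinearEquiv.ofBijective eₜ' h).symm, ?_⟩
  intro i
  simp +zetaDelta [IsLocalizedModule.map_linearCombination]

attribute [local instance] Module.finitePresentation_of_projective in
/-- a basis of `Ω[B_q/A]` of the form `d b_j` at a smooth point. -/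
theorem exists_basis_localization0 {A : Type v} {B : Type w} [CommRing A] [CommRing B]
    [Algebra A B] [Algebra.FinitePresentation A B] (q : Ideal B) [q.IsPrime]
    [Algebra.IsSmoothAt A q] :
    ∃ (m : ℕ) (bb : Fin m → B)
      (b : Module.Basis (Fin m) (Localization.AtPrime q) Ω[Localization.AtPrime q⁄A]),
      ∀ i, b i = D A (Localization.AtPrime q) (algebraMap B (Localization.AtPrime q) (bb i)) := by
  classical
  let P := Localization.AtPrime q
  haveI : Algebra.EssFiniteType B P := .of_isLocalization _ q.primeCompl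
  haveI : Algebra.EssFiniteType A P := .comp _ B _
  haveI : Algebra.FormallySmooth A P := ‹Algebra.IsSmoothAt A q›
  haveI : Module.Finite P Ω[P⁄A] := inferInstance
  haveI : Module.Projective P Ω[P⁄A] := inferInstance
  haveI : Module.FinitePresentation P Ω[P⁄A] := inferInstance
  haveI : Module.Flat P Ω[P⁄A] := inferInstance
  let w : B → Ω[P⁄A] := fun b => D A P (algebraMap B P b)
  have hw : Submodule.span P (Set.range w) = ⊤ := by
    have := span_range_map_derivation_of_isLocalization A B P q.primeCompl
    rw [← this]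
    congr 1
    ext x
    simp [w]
  obtain ⟨κ, a, b, hb⟩ := Module.exists_basis_of_span_of_flat w hw
  haveI : Finite κ := Module.Finite.finite_basis b
  let m := Nat.card κ
  let eκ : Fin m ≃ κ := (Finite.equivFin κ).symm
  refine ⟨m, a ∘ eκ, b.reindex eκ.symm, fun i => ?_⟩
  rw [Module.Basis.reindex_apply, Equiv.symm_symm, hb]
  rfl

theorem main18416 (R : Type u) (C : Type v) (B : Type w)
    [CommRing R] [CommRing C] [CommRing B] [Algebra R C] [Algebra C B] [Algebra R B]
    [IsScalarTower R C B]
    [Algebra.Smooth R C] [Algebra.Smooth C B] (J : Ideal B)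
    (hsurj : Function.Surjective ((Ideal.Quotient.mk J).comp (algebraMap C B)))
    (x : PrimeSpectrum (B ⧸ J)) :
    ∃ f : B, Ideal.Quotient.mk J f ∉ x.asIdeal ∧
      ∃ J₀ : Ideal (Localization.Away f), J₀ ≤ J.map (algebraMap B (Localization.Away f)) ∧
        ((Ideal.Quotient.mk J₀).comp
          ((algebraMap B (Localization.Away f)).comp (algebraMap C B))).Etale := by
  classical
  let q : Ideal B := x.asIdeal.comap (Ideal.Quotient.mk J)
  haveI hqp : q.IsPrime := Ideal.comap_isPrime _ _
  haveI : Algebra.FormallySmooth B (Localization.AtPrime q) :=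
    Algebra.FormallySmooth.of_isLocalization q.primeCompl
  haveI hsm : Algebra.IsSmoothAt C q := Algebra.FormallySmooth.comp C B (Localization.AtPrime q)
  obtain ⟨m, bb, b, hb⟩ := exists_basis_localization0 (A := C) q
  have hc : ∀ j, ∃ c : C, Ideal.Quotient.mk J (algebraMap C B c) = Ideal.Quotient.mk J (bb j) :=
    fun j => hsurj _
  choose c hc using hc
  let a : Fin m → B := fun j => bb j - algebraMap C B (c j)
  have haJ : ∀ j, a j ∈ J := by
    intro j
    rw [← Ideal.Quotient.eq_zero_iff_mem]
    show Ideal.Quotient.mk J (bb j - algebraMap C B (c j)) = 0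
    rw [map_sub, hc j, sub_self]
  have hb' : ∀ i, b i =
      D C (Localization.AtPrime q) (algebraMap B (Localization.AtPrime q) (a i)) := by
    intro i
    rw [hb i]
    show _ = D C _ (algebraMap B _ (bb i - algebraMap C B (c i)))
    rw [map_sub, map_sub, ← IsScalarTower.algebraMap_apply, Derivation.map_algebraMap, sub_zero]
  obtain ⟨f, hfq, hf⟩ := exists_basis_away_of_dvd (A := C) q a b hb'
  obtain ⟨b', hb''⟩ := hf f dvd_rfl
  refine ⟨f, fun h => hfq h, ?_⟩
  haveI : Algebra.Smooth B (Localization.Away f) := Algebra.Smooth.of_isLocalization_Away f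
  haveI : Algebra.Smooth C (Localization.Away f) := Algebra.Smooth.comp C B (Localization.Away f)
  have key := etale_of_basis_D (k := C) (A := Localization.Away f)
    (fun i => algebraMap B (Localization.Away f) (a i)) b' (fun i => (hb'' i).symm)
  let φ : MvPolynomial (Fin m) C →ₐ[C] Localization.Away f :=
    MvPolynomial.aeval (fun i => algebraMap B (Localization.Away f) (a i))
  letI : Algebra (MvPolynomial (Fin m) C) (Localization.Away f) := φ.toRingHom.toAlgebra
  haveI : Algebra.Etale (MvPolynomial (Fin m) C) (Localization.Away f) := key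
  let I : Ideal (MvPolynomial (Fin m) C) :=
    Ideal.span (Set.range (MvPolynomial.X : Fin m → MvPolynomial (Fin m) C))
  haveI : Algebra.Etale (MvPolynomial (Fin m) C ⧸ I)
      ((MvPolynomial (Fin m) C ⧸ I) ⊗[MvPolynomial (Fin m) C] Localization.Away f) :=
    inferInstance
  let e := Algebra.TensorProduct.quotIdealMapEquivQuotTensor (Localization.Away f) I
  haveI : Algebra.Etale (MvPolynomial (Fin m) C ⧸ I)
      (Localization.Away f ⧸ I.map (algebraMap (MvPolynomial (Fin m) C) (Localization.Away f))) :=
    Algebra.Etale.of_equiv (R := MvPolynomial (Fin m) C ⧸ I)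
      (A := (MvPolynomial (Fin m) C ⧸ I) ⊗[MvPolynomial (Fin m) C] Localization.Away f) e.symm
  have h1 : (algebraMap (MvPolynomial (Fin m) C ⧸ I)
      (Localization.Away f ⧸
        I.map (algebraMap (MvPolynomial (Fin m) C) (Localization.Away f)))).Etale :=
    RingHom.etale_algebraMap.mpr inferInstance
  let ψ : C →+* MvPolynomial (Fin m) C ⧸ I := (Ideal.Quotient.mk I).comp MvPolynomial.C
  have hψ : Function.Bijective ψ := by
    constructor
    · intro c₁ c₂ h
      have hI : I ≤ RingHom.ker (MvPolynomial.eval (0 : Fin m → C)) := by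
        rw [Ideal.span_le]
        rintro _ ⟨i, rfl⟩
        simp [RingHom.mem_ker]
      have h' : (MvPolynomial.C c₁ - MvPolynomial.C c₂ : MvPolynomial (Fin m) C) ∈ I :=
        (Ideal.Quotient.eq).mp h
      have := hI h'
      rw [RingHom.mem_ker, map_sub, MvPolynomial.eval_C, MvPolynomial.eval_C, sub_eq_zero] at this
      exact this
    · intro y
      obtain ⟨p, rfl⟩ := Ideal.Quotient.mk_surjective y
      induction p using MvPolynomial.induction_on with
      | C a => exact ⟨a, rfl⟩
      | add p₁ p₂ h₁ h₂ =>
        obtain ⟨c₁, hc₁⟩ := h₁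
        obtain ⟨c₂, hc₂⟩ := h₂
        exact ⟨c₁ + c₂, by rw [map_add, hc₁, hc₂, map_add]⟩
      | mul_X p i h =>
        refine ⟨0, ?_⟩
        have hX : Ideal.Quotient.mk I (MvPolynomial.X i) = 0 :=
          Ideal.Quotient.eq_zero_iff_mem.mpr (Ideal.subset_span ⟨i, rfl⟩)
        rw [map_zero, map_mul, hX, mul_zero]
  have h2 : ψ.Etale := RingHom.Etale.of_bijective hψ
  have hψ' : algebraMap C (MvPolynomial (Fin m) C ⧸ I) = ψ := RingHom.ext fun c => rfl
  haveI e1 : Algebra.Etale C (MvPolynomial (Fin m) C ⧸ I) :=
    RingHom.etale_algebraMap.mp (hψ' ▸ h2)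
  haveI : IsScalarTower C (MvPolynomial (Fin m) C ⧸ I) (Localization.Away f ⧸
      I.map (algebraMap (MvPolynomial (Fin m) C) (Localization.Away f))) :=
    IsScalarTower.of_algebraMap_eq (R := C) (S := MvPolynomial (Fin m) C ⧸ I)
      (A := Localization.Away f ⧸
        I.map (algebraMap (MvPolynomial (Fin m) C) (Localization.Away f))) (fun c => by
      show Ideal.Quotient.mk
          (I.map (algebraMap (MvPolynomial (Fin m) C) (Localization.Away f)))
          (algebraMap C (Localization.Away f) c) =
        Ideal.Quotient.mk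
          (I.map (algebraMap (MvPolynomial (Fin m) C) (Localization.Away f)))
          (φ (MvPolynomial.C c))
      simp only [φ, MvPolynomial.aeval_C])
  haveI e3 : Algebra.Etale C (Localization.Away f ⧸
      I.map (algebraMap (MvPolynomial (Fin m) C) (Localization.Away f))) :=
    Algebra.Etale.comp C (MvPolynomial (Fin m) C ⧸ I) (Localization.Away f ⧸
        I.map (algebraMap (MvPolynomial (Fin m) C) (Localization.Away f)))
  have h3 : (algebraMap C (Localization.Away f ⧸
      I.map (algebraMap (MvPolynomial (Fin m) C) (Localization.Away f)))).Etale :=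
    RingHom.etale_algebraMap.mpr e3
  refine ⟨I.map (algebraMap (MvPolynomial (Fin m) C) (Localization.Away f)), ?_, ?_⟩
  · rw [Ideal.map_span, Ideal.span_le]
    rintro _ ⟨_, ⟨i, rfl⟩, rfl⟩
    have hXi : algebraMap (MvPolynomial (Fin m) C) (Localization.Away f) (MvPolynomial.X i) =
        algebraMap B (Localization.Away f) (a i) := by
      show φ (MvPolynomial.X i) = _
      simp [φ]
    rw [SetLike.mem_coe, hXi]
    exact Ideal.mem_map_of_mem _ (haJ i)
  · have heq : (Ideal.Quotient.mk
          (I.map (algebraMap (MvPolynomial (Fin m) C) (Localization.Away f)))).comp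
        ((algebraMap B (Localization.Away f)).comp (algebraMap C B)) =
        algebraMap C (Localization.Away f ⧸
          I.map (algebraMap (MvPolynomial (Fin m) C) (Localization.Away f))) := by
      ext cc
      show Ideal.Quotient.mk _ (algebraMap B (Localization.Away f) (algebraMap C B cc)) =
        Ideal.Quotient.mk _ (algebraMap C (Localization.Away f) cc)
      rw [← IsScalarTower.algebraMap_apply C B (Localization.Away f) cc]
    rw [heq]
    exact h3

end Groth.Agent.Lib.EtQuot18416
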