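import Mathlib

set_option autoImplicit false
universe u
open TensorProduct

namespace EtQuotH8

section inv

variable {R A B : Type u} [CommRing R] [CommRing A] [CommRing B] [Algebra R A] [Algebra A B]
  [Algebra R B] [IsScalarTower R A B]
variable {G : Type u} [Group G] [Finite G]

theorem eq_zero_of_proj_rTensor (M : Type u) [AddCommGroup M] [Module R M]
    (y : (G → B) ⊗[R] M)
    (h : ∀ g, ((LinearMap.proj g : (G → B) →ₗ[R] B).rTensor M) y = 0) : y = 0 := by
  classical
  haveI : Fintype G := Fintype.ofFinite G
  have key : ∀ (y : (G → B) ⊗[R] M) (g : G),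
      (TensorProduct.piLeft (R := R) (N := M) (M := fun _ : G => B)) y g =
        ((LinearMap.proj g : (G → B) →ₗ[R] B).rTensor M) y := by
    intro y g
    induction y using TensorProduct.induction_on with
    | zero => simp
    | tmul x m => simp
    | add a b ha hb => simp only [map_add, Pi.add_apply, ha, hb]
  apply (TensorProduct.piLeft (R := R) (N := M) (M := fun _ : G => B)).injective
  rw [map_zero]
  funext g
  rw [Pi.zero_apply, key, h g]

/-- flat base change of invariants. -/
theorem mem_range_of_invariant [Module.Flat R B] (act : G → B →ₐ[A] B)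
    (hinv : ∀ b, (∀ g, act g b = b) → b ∈ Set.range (algebraMap A B))
    (x : B ⊗[R] B)
    (hx : ∀ g, Algebra.TensorProduct.map ((act g).restrictScalars R) (AlgHom.id R B) x = x) :
    x ∈ Set.range (Algebra.TensorProduct.map (IsScalarTower.toAlgHom R A B) (AlgHom.id R B)) := by
  classical
  let i : A →ₗ[R] B := (IsScalarTower.toAlgHom R A B).toLinearMap
  let d : B →ₗ[R] (G → B) := LinearMap.pi fun g => ((act g).restrictScalars R).toLinearMap - LinearMap.id
  have hex : Function.Exact i d := by
    intro b
    constructor
    · intro hb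
      refine hinv b fun g => ?_
      have := congrFun hb g
      simpa [d, sub_eq_zero] using this
    · rintro ⟨a, rfl⟩
      funext g
      simp [d, i]
  have hex' := Module.Flat.rTensor_exact B hex
  have hz : (d.rTensor B) x = 0 := by
    apply eq_zero_of_proj_rTensor
    intro g
    rw [← LinearMap.comp_apply, ← LinearMap.rTensor_comp]
    have : (LinearMap.proj g : (G → B) →ₗ[R] B) ∘ₗ d =
        ((act g).restrictScalars R).toLinearMap - LinearMap.id := by
      ext b; simp [d]
    rw [this, LinearMap.rTensor_sub, LinearMap.sub_apply, LinearMap.rTensor_id, LinearMap.id_apply,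
      sub_eq_zero]
    exact hx g
  obtain ⟨z, hz⟩ := (hex' x).mp hz
  exact ⟨z, hz⟩

theorem theta_mul (act : G → B →ₐ[A] B) (hmul : ∀ g h b, act (g * h) b = act h (act g b))
    (g h : G) (x : B ⊗[R] B) :
    Algebra.TensorProduct.map ((act (g * h)).restrictScalars R) (AlgHom.id R B) x =
      Algebra.TensorProduct.map ((act h).restrictScalars R) (AlgHom.id R B)
        (Algebra.TensorProduct.map ((act g).restrictScalars R) (AlgHom.id R B) x) := by
  induction x using TensorProduct.induction_on with
  | zero => simp
  | tmul x y => simp [hmul]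
  | add a b ha hb => simp only [map_add, ha, hb]

theorem theta_one (act : G → B →ₐ[A] B) (h1 : ∀ b, act 1 b = b) (x : B ⊗[R] B) :
    Algebra.TensorProduct.map ((act 1).restrictScalars R) (AlgHom.id R B) x = x := by
  induction x using TensorProduct.induction_on with
  | zero => simp
  | tmul x y => simp [h1]
  | add a b ha hb => simp only [map_add, ha, hb]

theorem theta_iota (act : G → B →ₐ[A] B) (g : G) (x : A ⊗[R] B) :
    Algebra.TensorProduct.map ((act g).restrictScalars R) (AlgHom.id R B)
      (Algebra.TensorProduct.map (IsScalarTower.toAlgHom R A B) (AlgHom.id R B) x) =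
      Algebra.TensorProduct.map (IsScalarTower.toAlgHom R A B) (AlgHom.id R B) x := by
  induction x using TensorProduct.induction_on with
  | zero => simp
  | tmul x y => simp
  | add a b ha hb => simp only [map_add, ha, hb]

/-- Main theorem: if `B` is flat and unramified over `R` and a finite group acts on `B` by
`R`-automorphisms, then `B` is flat over the ring of invariants. -/
theorem flat_of_unramified [Module.Flat R B] [Algebra.FormallyUnramified R B]
    [Algebra.EssFiniteType R B]
    (act : G → B →ₐ[A] B) (h1 : ∀ b, act 1 b = b)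
    (hmul : ∀ g h b, act (g * h) b = act h (act g b))
    (hinj : Function.Injective (algebraMap A B))
    (hinv : ∀ b, (∀ g, act g b = b) → b ∈ Set.range (algebraMap A B)) :
    Module.Flat A B := by
  classical
  haveI : Fintype G := Fintype.ofFinite G
  obtain ⟨ε, hε, hsp⟩ : ∃ e, IsIdempotentElem e ∧ KaehlerDifferential.ideal R B = Ideal.span {e} :=
    (Ideal.isIdempotentElem_iff_of_fg _ (KaehlerDifferential.ideal_fg R B)).mp <|
      (Ideal.cotangent_subsingleton_iff _).mp <| inferInstanceAs <| Subsingleton Ω[B⁄R]
  let μ : B ⊗[R] B →ₐ[R] B := Algebra.TensorProduct.lmul' R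
  let θ : G → B ⊗[R] B →ₐ[R] B ⊗[R] B := fun g =>
    Algebra.TensorProduct.map ((act g).restrictScalars R) (AlgHom.id R B)
  let ι : A ⊗[R] B →ₐ[R] B ⊗[R] B :=
    Algebra.TensorProduct.map (IsScalarTower.toAlgHom R A B) (AlgHom.id R B)
  have hι : Function.Injective ι := by
    have := Module.Flat.rTensor_preserves_injective_linearMap (M := B)
      (IsScalarTower.toAlgHom R A B).toLinearMap hinj
    exact this
  have hμε : μ ε = 0 := by
    have : ε ∈ KaehlerDifferential.ideal R B := hsp ▸ Ideal.mem_span_singleton_self ε
    exact this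
  have hker : ∀ y, μ y = 0 → y * ε = y := by
    intro y hy
    have : y ∈ KaehlerDifferential.ideal R B := hy
    rw [hsp, Ideal.mem_span_singleton'] at this
    obtain ⟨z, rfl⟩ := this
    rw [mul_assoc, hε.eq]
  let P : B ⊗[R] B := ∏ g : G, θ g ε
  have hPinv : ∀ h, θ h P = P := by
    intro h
    show θ h (∏ g : G, θ g ε) = ∏ g : G, θ g ε
    rw [map_prod]
    refine Fintype.prod_equiv (Equiv.mulRight h) _ _ fun g => ?_
    exact (theta_mul act hmul g h ε).symm
  have hμP : μ P = 0 := by
    show μ (∏ g : G, θ g ε) = 0
    rw [map_prod]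
    refine Finset.prod_eq_zero (Finset.mem_univ (1 : G)) ?_
    show μ (θ 1 ε) = 0
    rw [show θ 1 ε = ε from theta_one act h1 ε, hμε]
  have hyP : ∀ y, (∀ g, θ g y = y) → μ y = 0 → y * P = y := by
    intro y hy hμy
    have hstep : ∀ g, y * θ g ε = y := by
      intro g
      have := congrArg (θ g) (hker y hμy)
      rwa [map_mul, hy g] at this
    show y * ∏ g : G, θ g ε = y
    refine Finset.induction_on (Finset.univ : Finset G) (by simp) ?_
    intro a s ha ih
    rw [Finset.prod_insert ha, ← mul_assoc, hstep a, ih]
  have hPP : P * P = P := hyP P hPinv hμP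
  obtain ⟨P', hP'⟩ := mem_range_of_invariant act hinv P hPinv
  have hP'P' : IsIdempotentElem P' := by
    apply hι
    show ι (P' * P') = ι P'
    rw [map_mul]
    show Algebra.TensorProduct.map (IsScalarTower.toAlgHom R A B) (AlgHom.id R B) P' *
      Algebra.TensorProduct.map (IsScalarTower.toAlgHom R A B) (AlgHom.id R B) P' = _
    rw [hP', hPP]
  -- the multiplication map `A ⊗ B → B`
  let m : A ⊗[R] B →ₐ[A] B :=
    Algebra.TensorProduct.lift (Algebra.ofId A B) (IsScalarTower.toAlgHom R B B |>.comp (AlgHom.id R B))
      (fun _ _ => Commute.all _ _)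
  have hm : ∀ x, m x = μ (ι x) := by
    intro x
    induction x using TensorProduct.induction_on with
    | zero => simp
    | tmul x y => simp [m, μ, ι, Algebra.ofId_apply]
    | add a b ha hb => simp only [map_add, ha, hb]
  have hmsurj : Function.Surjective m := fun b => ⟨1 ⊗ₜ b, by simp [m]⟩
  have hmker : RingHom.ker m.toRingHom = Ideal.span {1 - (1 - P')} := by
    rw [sub_sub_cancel]
    apply le_antisymm
    · intro x hx
      have hx' : μ (ι x) = 0 := by rw [← hm]; exact hx
      have := hyP (ι x) (fun g => theta_iota act g x) hx'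
      have h2 : x * P' = x := by
        apply hι
        rw [map_mul]
        show ι x * Algebra.TensorProduct.map (IsScalarTower.toAlgHom R A B) (AlgHom.id R B) P' = _
        rw [hP']
        exact this
      rw [Ideal.mem_span_singleton']
      exact ⟨x, h2⟩
    · rw [Ideal.span_singleton_le_iff_mem]
      show m P' = 0
      rw [hm]
      show μ (Algebra.TensorProduct.map (IsScalarTower.toAlgHom R A B) (AlgHom.id R B) P') = 0
      rw [hP', hμP]
  letI : Algebra (A ⊗[R] B) B := m.toRingHom.toAlgebra
  haveI : IsScalarTower A (A ⊗[R] B) B := IsScalarTower.of_algebraMap_eq fun a => by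
    show algebraMap A B a = m (algebraMap A (A ⊗[R] B) a)
    rw [AlgHom.commutes]
  haveI : IsLocalization.Away (1 - P') B :=
    IsLocalization.away_of_isIdempotentElem hP'P'.one_sub hmker hmsurj
  haveI : Module.Flat (A ⊗[R] B) B := IsLocalization.flat B (Submonoid.powers (1 - P'))
  exact Module.Flat.trans A (A ⊗[R] B) B

end inv

end EtQuotH8
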