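import Mathlib
import Groth.Agent.Lib.EtQuot1_helper8
import Groth.Agent.Lib.EtQuot2_helper8

set_option autoImplicit false
universe u
open TensorProduct

namespace EtQuotH8

/-- Ring-level form of SGA1 V.1.8 (with finite generation of invariants assumed): if `B` is étale
over the Noetherian ring `R`, a finite group acts on `B` by `R`-automorphisms with invariants `A`
of finite type over `R`, then `A` is étale over `R` and `B` is étale over `A`. -/
theorem etale_of_invariants {R A B : Type u} [CommRing R] [CommRing A] [CommRing B]
    [IsNoetherianRing R] {G : Type u} [Group G] [Finite G]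
    (φ : R →+* A) (ψ : A →+* B) (hφ : φ.FiniteType) (hψφ : (ψ.comp φ).Etale)
    (hint : ψ.IsIntegral)
    (act : G → B →+* B) (hact : ∀ g a, act g (ψ a) = ψ a)
    (h1 : ∀ b, act 1 b = b) (hmul : ∀ g h b, act (g * h) b = act h (act g b))
    (hinj : Function.Injective ψ) (hinv : ∀ b, (∀ g, act g b = b) → b ∈ Set.range ψ) :
    φ.Etale ∧ ψ.Etale := by
  letI : Algebra R A := φ.toAlgebra
  letI : Algebra A B := ψ.toAlgebra
  letI : Algebra R B := (ψ.comp φ).toAlgebra
  haveI : IsScalarTower R A B := IsScalarTower.of_algebraMap_eq' rfl
  haveI : Algebra.Etale R B := hψφ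
  haveI : Algebra.FiniteType R A := hφ
  let act' : G → B →ₐ[A] B := fun g => { act g with commutes' := fun a => hact g a }
  haveI : Module.Flat R B := inferInstance
  haveI : Algebra.FormallyUnramified R B := inferInstance
  haveI : Algebra.EssFiniteType R B := inferInstance
  haveI hflat : Module.Flat A B :=
    flat_of_unramified (R := R) act' h1 hmul hinj hinv
  haveI : Module.FaithfullyFlat A B :=
    Module.FaithfullyFlat.of_comap_surjective (RingHom.IsIntegral.comap_surjective hint hinj)
  haveI : Algebra.FormallyUnramified A B := Algebra.FormallyUnramified.of_restrictScalars R A B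
  haveI : IsNoetherianRing A := Algebra.FiniteType.isNoetherianRing R A
  haveI : Algebra.FiniteType A B := Algebra.FiniteType.of_restrictScalars_finiteType R A B
  haveI : Algebra.FinitePresentation A B := Algebra.FinitePresentation.of_finiteType.mp inferInstance
  haveI hAB : Algebra.Etale A B := Algebra.Etale.of_formallyUnramified_of_flat
  haveI : Module.Flat R A := flat_of_faithfullyFlat (R := R) (A := A) (B := B)
  haveI : Algebra.FormallySmooth A B := inferInstance
  haveI : Algebra.FormallyUnramified R A :=
    formallyUnramified_of_faithfullyFlat (R := R) (A := A) (B := B)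
  haveI : Algebra.FinitePresentation R A := Algebra.FinitePresentation.of_finiteType.mp inferInstance
  haveI hRA : Algebra.Etale R A := Algebra.Etale.of_formallyUnramified_of_flat
  exact ⟨hRA, hAB⟩

end EtQuotH8
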