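import Mathlib
import Groth.Agent.Lib.EssEtTrans_helper4

/-!
# Étale algebras realizing a finite separable residue field extension (helper8)
APPEND-ONLY once landed.
-/

set_option autoImplicit false
set_option linter.style.haveILetI false
universe u
open Polynomial

namespace EtResExtH8

section Local

variable (B k K : Type u) [CommRing B] [Field k] [Field K] [Algebra B k] [Algebra k K]
  [Algebra B K] [IsScalarTower B k K] [FiniteDimensional k K] [Algebra.IsSeparable k K]

/-- Over a ring `B` surjecting onto a field `k`, a finite separable extension `K` of `k` is a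
quotient of a standard étale `B`-algebra. -/
theorem exists_standardEtale_surjective (hB : Function.Surjective (algebraMap B k)) :
    ∃ (P : StandardEtalePair B) (φ : P.Ring →ₐ[B] K), Function.Surjective φ := by
  obtain ⟨θ, hθ⟩ := Field.exists_primitive_element k K
  have hint : IsIntegral k θ := Algebra.IsIntegral.isIntegral θ
  obtain ⟨Pt, hPt, -, hmonic⟩ := lifts_and_natDegree_eq_and_monic
    (mem_lifts_of_surjective hB (minpoly k θ)) (minpoly.monic hint)
  let P : StandardEtalePair B :=
    { f := Pt, monic_f := hmonic, g := derivative Pt,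
      cond := ⟨1, 0, 1, by simp⟩ }
  have haeval : ∀ q : B[X], aeval θ q = aeval θ (q.map (algebraMap B k)) := by
    intro q
    rw [aeval_def, aeval_def, eval₂_map, ← IsScalarTower.algebraMap_eq]
  have h1 : aeval θ Pt = 0 := by
    rw [haeval, hPt, minpoly.aeval]
  have h2 : IsUnit (aeval θ (derivative Pt)) := by
    rw [haeval, ← derivative_map, hPt]
    exact ((Algebra.IsSeparable.isSeparable k θ).aeval_derivative_ne_zero
      (minpoly.aeval k θ)).isUnit
  have hmap : P.HasMap θ := ⟨h1, h2⟩
  refine ⟨P, P.lift θ hmap, ?_⟩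
  intro x
  have hx : x ∈ Algebra.adjoin k {θ} := by
    rw [← IntermediateField.adjoin_simple_toSubalgebra_of_isAlgebraic hint.isAlgebraic, hθ]
    trivial
  rw [Algebra.adjoin_singleton_eq_range_aeval] at hx
  obtain ⟨q, rfl⟩ := hx
  obtain ⟨qt, rfl⟩ := (mem_lifts q).mp (mem_lifts_of_surjective hB q)
  refine ⟨aeval P.X qt, ?_⟩
  rw [← aeval_algHom_apply, StandardEtalePair.lift_X]
  exact haeval qt

end Local

section Global

variable (A k K : Type u) [CommRing A] [Field k] [Field K] [Algebra A k] [Algebra k K]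
  [Algebra A K] [IsScalarTower A k K] [FiniteDimensional k K] [Algebra.IsSeparable k K]

/-- If `k` is the fraction field of the image of `A`, a finite separable extension `K` of `k`
is generated (as a field) by the image of an étale `A`-algebra. -/
theorem exists_etale_algHom
    (hk : ∀ c : k, ∃ a d : A, algebraMap A k d ≠ 0 ∧ c * algebraMap A k d = algebraMap A k a) :
    ∃ (E : Type u) (_ : CommRing E) (_ : Algebra A E) (_ : Algebra.Etale A E) (φ : E →ₐ[A] K),
      ∀ x : K, ∃ e₁ e₂ : E, φ e₂ ≠ 0 ∧ x * φ e₂ = φ e₁ := by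
  let 𝔭 : Ideal A := RingHom.ker (algebraMap A k)
  haveI h𝔭 : 𝔭.IsPrime := RingHom.ker_isPrime _
  have hunit : ∀ y : 𝔭.primeCompl, IsUnit (algebraMap A k y) := fun y => by
    rw [isUnit_iff_ne_zero]
    exact fun h => y.2 ((RingHom.mem_ker).mpr h)
  let ρ : Localization.AtPrime 𝔭 →+* k := IsLocalization.lift hunit
  letI algBk : Algebra (Localization.AtPrime 𝔭) k := ρ.toAlgebra
  haveI tow1 : IsScalarTower A (Localization.AtPrime 𝔭) k :=
    IsScalarTower.of_algebraMap_eq (fun a => (IsLocalization.lift_eq hunit a).symm)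
  letI algBK : Algebra (Localization.AtPrime 𝔭) K := ((algebraMap k K).comp ρ).toAlgebra
  haveI tow2 : IsScalarTower (Localization.AtPrime 𝔭) k K :=
    IsScalarTower.of_algebraMap_eq (fun _ => rfl)
  haveI tow3 : IsScalarTower A (Localization.AtPrime 𝔭) K :=
    IsScalarTower.of_algebraMap_eq (fun a => by
      rw [IsScalarTower.algebraMap_apply A k K, IsScalarTower.algebraMap_apply A (Localization.AtPrime 𝔭) k,
        ← IsScalarTower.algebraMap_apply (Localization.AtPrime 𝔭) k K])
  have hρ : Function.Surjective (algebraMap (Localization.AtPrime 𝔭) k) := by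
    intro c
    obtain ⟨a, d, hd, hcd⟩ := hk c
    have hd' : d ∈ 𝔭.primeCompl := fun h => hd ((RingHom.mem_ker).mp h)
    refine ⟨IsLocalization.mk' (Localization.AtPrime 𝔭) a ⟨d, hd'⟩, ?_⟩
    show ρ (IsLocalization.mk' (Localization.AtPrime 𝔭) a ⟨d, hd'⟩) = c
    rw [IsLocalization.lift_mk'_spec]
    show algebraMap A k a = algebraMap A k d * c
    rw [← hcd, mul_comm]
  obtain ⟨P, φ₂, hφ₂⟩ := exists_standardEtale_surjective (Localization.AtPrime 𝔭) k K hρ
  haveI hq₂ : (RingHom.ker φ₂.toRingHom).IsPrime := RingHom.ker_isPrime _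
  letI algAC : Algebra A P.Ring :=
    ((algebraMap (Localization.AtPrime 𝔭) P.Ring).comp (algebraMap A (Localization.AtPrime 𝔭))).toAlgebra
  haveI tow4 : IsScalarTower A (Localization.AtPrime 𝔭) P.Ring :=
    IsScalarTower.of_algebraMap_eq (fun _ => rfl)
  obtain ⟨E, _, _, q, _, hE, ⟨κ⟩⟩ := Groth.Agent.Lib.EssEtTransH4.core A A
    (Localization.AtPrime 𝔭) P.Ring 𝔭 (RingHom.ker φ₂.toRingHom)
  have hunit2 : ∀ y : (RingHom.ker φ₂.toRingHom).primeCompl,
      IsUnit ((φ₂.restrictScalars A) y) := fun y => by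
    rw [isUnit_iff_ne_zero]
    exact fun h => y.2 ((RingHom.mem_ker).mpr h)
  let φloc : Localization.AtPrime (RingHom.ker φ₂.toRingHom) →ₐ[A] K :=
    IsLocalization.liftAlgHom (M := (RingHom.ker φ₂.toRingHom).primeCompl)
      (f := φ₂.restrictScalars A) hunit2
  let ψ : Localization.AtPrime q →ₐ[A] K := φloc.comp κ.toAlgHom
  refine ⟨E, inferInstance, inferInstance, hE,
    ψ.comp (IsScalarTower.toAlgHom A E (Localization.AtPrime q)), ?_⟩
  intro x
  obtain ⟨c, rfl⟩ := hφ₂ x
  obtain ⟨e₁, e₂, hz⟩ := IsLocalization.exists_mk'_eq q.primeCompl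
    (κ.symm (algebraMap P.Ring (Localization.AtPrime (RingHom.ker φ₂.toRingHom)) c))
  have hψz : ψ (κ.symm (algebraMap P.Ring (Localization.AtPrime (RingHom.ker φ₂.toRingHom)) c)) =
      φ₂ c := by
    show φloc (κ (κ.symm _)) = _
    rw [AlgEquiv.apply_symm_apply]
    exact IsLocalization.lift_eq _ c
  have hu : IsUnit (algebraMap E (Localization.AtPrime q) (e₂ : E)) :=
    IsLocalization.map_units (Localization.AtPrime q) e₂
  refine ⟨e₁, e₂, ?_, ?_⟩
  · exact (hu.map ψ).ne_zero
  · show φ₂ c * ψ (algebraMap E (Localization.AtPrime q) (e₂ : E)) =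
      ψ (algebraMap E (Localization.AtPrime q) e₁)
    rw [← hψz, ← hz, ← map_mul, IsLocalization.mk'_spec]

end Global

section Sch

open AlgebraicGeometry CategoryTheory

/-- An étale neighbourhood realizing a given finite separable residue field extension. -/
theorem exists_etale_nbhd_of_finite_separable (S : Scheme.{u}) (s : S) (K : Type u) [Field K]
    [Algebra (S.residueField s) K] [FiniteDimensional (S.residueField s) K]
    [Algebra.IsSeparable (S.residueField s) K] :
    ∃ (U : Scheme.{u}) (g : U ⟶ S) (tK : Spec (CommRingCat.of K) ⟶ U), Etale g ∧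
      tK ≫ g = Spec.map (CommRingCat.ofHom (algebraMap (S.residueField s) K)) ≫
        S.fromSpecResidueField s ∧
      Function.Bijective ((Scheme.SpecToEquivOfField K U tK).2).hom := by
  obtain ⟨V, hV, hsV, -⟩ := exists_isAffineOpen_mem_and_subset (x := s) (U := ⊤) trivial
  letI algRA : Algebra Γ(S, V) (S.presheaf.stalk s) := S.presheaf.algebra_section_stalk ⟨s, hsV⟩
  haveI hlocA : IsLocalization.AtPrime (S.presheaf.stalk s)
      (hV.primeIdealOf ⟨s, hsV⟩).asIdeal := hV.isLocalization_stalk ⟨s, hsV⟩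
  letI algAk : Algebra Γ(S, V) (S.residueField s) :=
    (S.presheaf.germ V s hsV ≫ S.residue s).hom.toAlgebra
  letI algAK : Algebra Γ(S, V) K :=
    ((algebraMap (S.residueField s) K).comp (S.presheaf.germ V s hsV ≫ S.residue s).hom).toAlgebra
  haveI tow : IsScalarTower Γ(S, V) (S.residueField s) K :=
    IsScalarTower.of_algebraMap_eq (fun _ => rfl)
  have hk : ∀ c : S.residueField s, ∃ a d : Γ(S, V),
      algebraMap Γ(S, V) (S.residueField s) d ≠ 0 ∧
      c * algebraMap Γ(S, V) (S.residueField s) d = algebraMap Γ(S, V) (S.residueField s) a := by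
    intro c
    obtain ⟨z, rfl⟩ := IsLocalRing.residue_surjective c
    obtain ⟨a, d, hz⟩ := IsLocalization.exists_mk'_eq
      (hV.primeIdealOf ⟨s, hsV⟩).asIdeal.primeCompl z
    have hu : IsUnit (algebraMap Γ(S, V) (S.presheaf.stalk s) (d : Γ(S, V))) :=
      IsLocalization.map_units (S.presheaf.stalk s) d
    refine ⟨a, d, ?_, ?_⟩
    · exact (hu.map (IsLocalRing.residue (S.presheaf.stalk s))).ne_zero
    · show IsLocalRing.residue _ z * IsLocalRing.residue _
        (algebraMap Γ(S, V) (S.presheaf.stalk s) (d : Γ(S, V))) =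
        IsLocalRing.residue _ (algebraMap Γ(S, V) (S.presheaf.stalk s) a)
      rw [← map_mul, ← hz, IsLocalization.mk'_spec]
  obtain ⟨E, _, _, hE, φ, hφ⟩ := exists_etale_algHom Γ(S, V) (S.residueField s) K hk
  haveI := hE
  haveI hetφ : Etale (Spec.map (CommRingCat.ofHom (algebraMap Γ(S, V) E))) :=
    (HasRingHomProperty.Spec_iff (P := @Etale)).mpr (RingHom.etale_algebraMap.mpr hE)
  have hcomp : Spec.map (CommRingCat.ofHom φ.toRingHom) ≫
      Spec.map (CommRingCat.ofHom (algebraMap Γ(S, V) E)) ≫ hV.fromSpec =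
      Spec.map (CommRingCat.ofHom (algebraMap (S.residueField s) K)) ≫
        S.fromSpecResidueField s := by
    rw [Scheme.fromSpecResidueField, ← hV.fromSpecStalk_eq_fromSpecStalk hsV,
      IsAffineOpen.fromSpecStalk, ← Spec.map_comp_assoc, ← Spec.map_comp_assoc,
      ← Spec.map_comp_assoc]
    congr 2
    ext x
    exact φ.commutes x
  refine ⟨Spec (CommRingCat.of E),
    Spec.map (CommRingCat.ofHom (algebraMap Γ(S, V) E)) ≫ hV.fromSpec,
    Spec.map (CommRingCat.ofHom φ.toRingHom), inferInstance, hcomp, ?_⟩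
  set tK : Spec (CommRingCat.of K) ⟶ Spec (CommRingCat.of E) :=
    Spec.map (CommRingCat.ofHom φ.toRingHom) with htK
  have hg : Spec.map ((Scheme.SpecToEquivOfField K _) tK).2 ≫
      (Spec (CommRingCat.of E)).fromSpecResidueField ((Scheme.SpecToEquivOfField K _) tK).1 = tK :=
    (Scheme.SpecToEquivOfField K _).symm_apply_apply tK
  refine ⟨RingHom.injective _, ?_⟩
  rw [Scheme.fromSpecResidueField, Spec.fromSpecStalk_eq, ← Spec.map_comp, ← Spec.map_comp, htK]
    at hg
  have hg' := Spec.map_injective hg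
  intro x
  obtain ⟨e₁, e₂, he₂, hx⟩ := hφ x
  set ρ : CommRingCat.of E ⟶ (Spec (CommRingCat.of E)).residueField
      ((Scheme.SpecToEquivOfField K _) tK).1 :=
    ((Scheme.ΓSpecIso (CommRingCat.of E)).inv ≫
      (Spec (CommRingCat.of E)).presheaf.germ ⊤ _ trivial) ≫
      (Spec (CommRingCat.of E)).residue _ with hρ
  have h1 : ∀ e : E, ((Scheme.SpecToEquivOfField K _) tK).2.hom (ρ.hom e) = φ e := by
    intro e
    exact congrArg (fun m : CommRingCat.of E ⟶ CommRingCat.of K => m.hom e) hg'
  refine ⟨ρ.hom e₁ / ρ.hom e₂, ?_⟩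
  rw [map_div₀, h1, h1, ← hx, mul_div_assoc, div_self he₂, mul_one]

end Sch

end EtResExtH8
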