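import Mathlib
import Groth.Agent.Lib.EtPostcomp_helper7
import Groth.Agent.Lib.QCEt28_helper7

/-!
# Pullback of modules along a representable étale morphism is restriction (helper7)

For `f : X ⟶ Y` representable and étale, `EtOver.postcomp f hf ⊣ EtOver.bc hrep`, hence the
pushforward of modules along `postcomp` (restriction) is left adjoint to `pushModEt hrep`, and so
is isomorphic to `pullModEt hrep`.
-/

set_option backward.isDefEq.respectTransparency false
set_option backward.isDefEq.respectTransparency.types false
set_option linter.style.haveILetI false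
set_option linter.unusedSectionVars false
set_option linter.unusedVariables false
set_option autoImplicit false
set_option maxHeartbeats 1600000
set_option maxSynthPendingDepth 3

universe u

open CategoryTheory Limits Opposite AlgebraicGeometry AlgSp

namespace Groth.Agent.Lib.EtRestrH7

open Groth.Agent.Lib.EtPostcomp_helper7 Groth.Agent.Lib.QCEtH7

variable {S : Scheme.{u}} {X Y : Sp S} (f : X ⟶ Y) (hrep : Representable f) (hf : IsEtaleMor f)

instance instContPostcomp : (EtOver.postcomp f hf).IsContinuous (etTop X) (etTop Y) :=
  isContinuous_postcomp f hf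

/-- the unit `E ⟶ (E ×_Y X)` (graph of the structure morphism) -/
noncomputable def unitApp (E : EtOver X) :
    E ⟶ (EtOver.bc hrep).obj ((EtOver.postcomp f hf).obj E) :=
  EtOver.homMk (hrep.lift E.obj.hom (𝟙 E.obj.left) (by
    show E.obj.hom ≫ f = (yon S).map (𝟙 E.obj.left) ≫ (E.obj.hom ≫ f)
    rw [CategoryTheory.Functor.map_id, Category.id_comp])) (hrep.lift_fst _ _ _)

theorem unitApp_left_snd (E : EtOver X) :
    (unitApp f hrep hf E).hom.left ≫ hrep.snd ((EtOver.postcomp f hf).obj E).obj.hom =
      𝟙 E.obj.left :=
  hrep.lift_snd _ _ _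

/-- the counit `(E' ×_Y X) ⟶ E'` (the projection) -/
noncomputable def counitApp (E' : EtOver Y) :
    (EtOver.postcomp f hf).obj ((EtOver.bc hrep).obj E') ⟶ E' :=
  EtOver.homMk (hrep.snd E'.obj.hom) (by
    show (yon S).map (hrep.snd E'.obj.hom) ≫ E'.obj.hom = hrep.fst E'.obj.hom ≫ f
    exact (hrep.w E'.obj.hom).symm)

theorem counitApp_left (E' : EtOver Y) :
    (counitApp f hrep hf E').hom.left = hrep.snd E'.obj.hom := rfl

theorem unitApp_left_fst (E : EtOver X) :
    (yon S).map (unitApp f hrep hf E).hom.left ≫
      hrep.fst ((EtOver.postcomp f hf).obj E).obj.hom = E.obj.hom :=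
  hrep.lift_fst _ _ _

/-- `postcomp f ⊣ bc f` -/
noncomputable def postcompBcAdj : EtOver.postcomp f hf ⊣ EtOver.bc hrep :=
  Adjunction.mkOfUnitCounit
    { unit :=
        { app := fun E => unitApp f hrep hf E
          naturality := fun E E' g => by
            apply EtOver.hom_ext
            apply hrep.hom_ext
            · show (yon S).map (g.hom.left ≫ (unitApp f hrep hf E').hom.left) ≫ hrep.fst _ =
                (yon S).map ((unitApp f hrep hf E).hom.left ≫
                  (EtOver.bcMap hrep ((EtOver.postcomp f hf).map g)).hom.left) ≫ hrep.fst _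
              rw [Functor.map_comp, Functor.map_comp, Category.assoc, Category.assoc,
                unitApp_left_fst, EtOver.map_bcMap_fst, unitApp_left_fst, EtOver.w g]
            · show (g.hom.left ≫ (unitApp f hrep hf E').hom.left) ≫ hrep.snd _ =
                ((unitApp f hrep hf E).hom.left ≫
                  (EtOver.bcMap hrep ((EtOver.postcomp f hf).map g)).hom.left) ≫ hrep.snd _
              rw [Category.assoc, Category.assoc, unitApp_left_snd, EtOver.bcMap_snd,
                ← Category.assoc, unitApp_left_snd, Category.comp_id, Category.id_comp]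
              rfl }
      counit :=
        { app := fun E' => counitApp f hrep hf E'
          naturality := fun E E' g => by
            apply EtOver.hom_ext
            show (EtOver.bcMap hrep g).hom.left ≫ hrep.snd E'.obj.hom =
              hrep.snd E.obj.hom ≫ g.hom.left
            exact EtOver.bcMap_snd hrep g }
      left_triangle := by
        apply NatTrans.ext
        funext E
        apply EtOver.hom_ext
        show (unitApp f hrep hf E).hom.left ≫ 𝟙 _ ≫
          hrep.snd ((EtOver.postcomp f hf).obj E).obj.hom = 𝟙 _
        rw [Category.id_comp]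
        exact unitApp_left_snd f hrep hf E
      right_triangle := by
        apply NatTrans.ext
        funext E
        apply EtOver.hom_ext
        show (unitApp f hrep hf ((EtOver.bc hrep).obj E)).hom.left ≫ 𝟙 _ ≫
          (EtOver.bcMap hrep (counitApp f hrep hf E)).hom.left = 𝟙 _
        rw [Category.id_comp]
        apply hrep.hom_ext
        · rw [Functor.map_comp, Category.assoc, EtOver.map_bcMap_fst, unitApp_left_fst,
            CategoryTheory.Functor.map_id, Category.id_comp]
          rfl
        · rw [Category.assoc, EtOver.bcMap_snd, ← Category.assoc, unitApp_left_snd,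
            Category.id_comp, Category.id_comp]
          rfl }

/-- the comparison `O_X ⟶ (postcomp f)_* O_Y` (identity on rings of functions) -/
noncomputable def restrRingHom :
    OEtRing X ⟶ ((EtOver.postcomp f hf).sheafPushforwardContinuous RingCat.{u + 1}
      (etTop X) (etTop Y)).obj (OEtRing Y) :=
  ObjectProperty.homMk
    { app := fun E => 𝟙 ((OEtRing X).obj.obj E)
      naturality := fun E E' g => by
        change (BigSite.ORing Scheme.etalePrecoverage S).obj.map g.unop.hom.left.op ≫ 𝟙 _ =
          𝟙 _ ≫ (BigSite.ORing Scheme.etalePrecoverage S).obj.map g.unop.hom.left.op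
        rw [Category.comp_id, Category.id_comp] }

theorem restrRingHom_app (E : (EtOver X)ᵒᵖ) :
    (restrRingHom f hf).hom.app E = 𝟙 ((OEtRing X).obj.obj E) := rfl

/-- restriction of modules along an étale morphism -/
noncomputable abbrev restrModEt : ModEt Y ⥤ ModEt X :=
  SheafOfModules.pushforward.{u + 1} (restrRingHom f hf)

/-- restriction is left adjoint to the direct image -/
noncomputable def restrAdj : restrModEt f hf ⊣ pushModEt hrep :=
  SheafOfModules.pushforwardPushforwardAdj (postcompBcAdj f hrep hf) (restrRingHom f hf)
    (bcRingHom hrep)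
    (by
      apply NatTrans.ext
      funext E
      change (BigSite.ORing Scheme.etalePrecoverage S).obj.map (hrep.snd E.unop.obj.hom).op =
        (BigSite.ORing Scheme.etalePrecoverage S).obj.map (hrep.snd E.unop.obj.hom).op ≫ 𝟙 _
      rw [Category.comp_id])
    (by
      apply NatTrans.ext
      funext E
      change 𝟙 _ ≫
        (BigSite.ORing Scheme.etalePrecoverage S).obj.map
          (hrep.snd ((EtOver.postcomp f hf).obj E.unop).obj.hom).op ≫
        (BigSite.ORing Scheme.etalePrecoverage S).obj.map
          (unitApp f hrep hf E.unop).hom.left.op = 𝟙 _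
      rw [Category.id_comp, ← Functor.map_comp, ← op_comp, unitApp_left_snd,
        op_id]
      exact CategoryTheory.Functor.map_id _ _)

/-- pullback of modules along a representable étale morphism is restriction -/
noncomputable def pullIsoRestr
    [(SheafOfModules.pushforward.{u + 1} (bcRingHom hrep)).IsRightAdjoint] :
    pullModEt hrep ≅ restrModEt f hf :=
  (pullPushAdjModEt hrep).leftAdjointUniq (restrAdj f hrep hf)

theorem hasBC_restr (F : ModEt Y) (h : HasBC F) : HasBC ((restrModEt f hf).obj F) := by
  intro E' E hE' hE g
  exact h ((EtOver.postcomp f hf).obj E') ((EtOver.postcomp f hf).obj E) hE' hE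
    ((EtOver.postcomp f hf).map g)

/-- restriction commutes with the forgetful functors to presheaves of abelian groups -/
noncomputable def restrCompToPresheafIso :
    restrModEt f hf ⋙ SheafOfModules.toSheaf.{u + 1} (OEtRing X) ⋙
        sheafToPresheaf (etTop X) AddCommGrpCat.{u + 1} ≅
      (SheafOfModules.toSheaf.{u + 1} (OEtRing Y) ⋙
        sheafToPresheaf (etTop Y) AddCommGrpCat.{u + 1}) ⋙
        (Functor.whiskeringLeft _ _ AddCommGrpCat.{u + 1}).obj (EtOver.postcomp f hf).op :=
  NatIso.ofComponents (fun M => Iso.refl _) (fun {M N} g => by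
    rw [Iso.refl_hom, Iso.refl_hom, Category.comp_id, Category.id_comp]
    rfl)

instance preservesFiniteLimits_restr : PreservesFiniteLimits (restrModEt f hf) := by
  haveI h0 : PreservesFiniteLimits
      ((Functor.whiskeringLeft _ _ AddCommGrpCat.{u + 1}).obj (EtOver.postcomp f hf).op) :=
    ⟨fun J _ _ => inferInstance⟩
  haveI h1 : PreservesFiniteLimits ((SheafOfModules.toSheaf.{u + 1} (OEtRing Y) ⋙
        sheafToPresheaf (etTop Y) AddCommGrpCat.{u + 1}) ⋙
        (Functor.whiskeringLeft _ _ AddCommGrpCat.{u + 1}).obj (EtOver.postcomp f hf).op) :=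
    comp_preservesFiniteLimits _ _
  haveI h2 : PreservesFiniteLimits (restrModEt f hf ⋙
      SheafOfModules.toSheaf.{u + 1} (OEtRing X) ⋙
        sheafToPresheaf (etTop X) AddCommGrpCat.{u + 1}) :=
    preservesFiniteLimits_of_natIso (restrCompToPresheafIso f hf).symm
  haveI h3 : PreservesFiniteLimits ((restrModEt f hf ⋙
      SheafOfModules.toSheaf.{u + 1} (OEtRing X)) ⋙
        sheafToPresheaf (etTop X) AddCommGrpCat.{u + 1}) := h2
  haveI h4 : PreservesFiniteLimits (restrModEt f hf ⋙
      SheafOfModules.toSheaf.{u + 1} (OEtRing X)) :=
    preservesFiniteLimits_of_reflects_of_preserves _ (sheafToPresheaf _ _)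
  exact preservesFiniteLimits_of_reflects_of_preserves _
    (SheafOfModules.toSheaf.{u + 1} (OEtRing X))

include hf in
theorem preservesFiniteLimits_pull
    [(SheafOfModules.pushforward.{u + 1} (bcRingHom hrep)).IsRightAdjoint] :
    PreservesFiniteLimits (pullModEt hrep) :=
  preservesFiniteLimits_of_natIso (pullIsoRestr f hrep hf).symm

include hf in
theorem isQuasicoherent_pull_of_etale (hY : IsAlgSpace Y)
    [(SheafOfModules.pushforward.{u + 1} (bcRingHom hrep)).IsRightAdjoint]
    (F : ModEt Y) [F.IsQuasicoherent] : ((pullModEt hrep).obj F).IsQuasicoherent := by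
  have h1 : HasBC F := hasBC_of_qc hY F
  have h2 : ((restrModEt f hf).obj F).IsQuasicoherent :=
    isQuasicoherent_of_hasBC _ (hasBC_restr f hf F h1)
  exact (SheafOfModules.isQuasicoherent (OEtRing X)).prop_of_iso
    ((pullIsoRestr f hrep hf).app F).symm h2

end Groth.Agent.Lib.EtRestrH7
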