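import Mathlib
import Groth.Agent.Lib.EtStalkPt_helper7

/-!
# Germs of sections at geometric points, supports (helper7)
-/

set_option autoImplicit false
set_option backward.isDefEq.respectTransparency false
universe u
open CategoryTheory CategoryTheory.Limits AlgebraicGeometry Opposite
open AlgSp Groth.Agent.Lib.AlgSpPoints_helper7 Groth.Agent.Lib.EtNbhd_helper7
  Groth.Agent.Lib.EtStalkPt_helper7

namespace Groth.Agent.Lib.EtStalkSupp_helper7

instance hcCRing : HasColimitsOfSize.{u, u} CommRingCat.{u+1} :=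
  hasColimitsOfSizeShrink.{u, u, u+1, u+1} _
instance pfcCRing : PreservesFilteredColimitsOfSize.{u, u} (forget CommRingCat.{u+1}) :=
  preservesFilteredColimitsOfSize_shrink.{u, u+1, u, u+1} _

variable {S : Scheme.{u}} {X : Sp S}

theorem ofPt_lift (p : FieldPt X) (E : EtOver X) (ū : (FieldPt.liftsTo p).obj E) :
    Points.ofPt E.obj.hom (ū.1.left (default : ↥(Spec (CommRingCat.of p.K)))) = Points.mk p := by
  rw [← ofPt_comp, ū.2, Points.ofPt_toHom]

theorem germ_eq_zero_iff (hX : IsAlgSpace X) (p : FieldPt X) [IsSepClosed p.K] (F : AbEt X)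
    (E : EtOver X) (ū : (FieldPt.liftsTo p).obj E) (σ : ↥(F.obj.obj (op E))) :
    (point hX p).toPresheafFiber E ū F.obj σ = 0 ↔
      ∃ (V : EtOver X) (g : V ⟶ E) (y : (FieldPt.liftsTo p).obj V),
        (FieldPt.liftsTo p).map g y = ū ∧ (F.obj.map g.op).hom σ = 0 := by
  have h0 : (point hX p).toPresheafFiber E ū F.obj (0 : ↥(F.obj.obj (op E))) = 0 := map_zero _
  rw [← h0, (point hX p).toPresheafFiber_eq_iff' E ū σ 0]
  constructor
  · rintro ⟨V, g, y, hy, heq⟩
    refine ⟨V, g, y, hy, ?_⟩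
    rw [map_zero] at heq
    exact heq
  · rintro ⟨V, g, y, hy, heq⟩
    refine ⟨V, g, y, hy, ?_⟩
    rw [map_zero]
    exact heq

theorem section_eq_zero_of_germs (hX : IsAlgSpace X) (F : AbEt X) (V : EtOver X)
    (τ : ↥(F.obj.obj (op V)))
    (h : ∀ (p : FieldPt X) [IsAlgClosed p.K] (vb : (FieldPt.liftsTo p).obj V),
      (point hX p).toPresheafFiber V vb F.obj τ = 0) : τ = 0 := by
  refine Sheaf.isSeparated F V (Presheaf.equalizerSieve (F := F.obj) (X := op V) τ 0) ?_ τ 0
    (fun Y f hf => hf)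
  apply sieve_mem_of_forall_exists
  intro pt
  obtain ⟨p, hp, vb, hvb⟩ := exists_geometric_lift V pt
  haveI := hp
  obtain ⟨Y, g, y, hy, heq⟩ := (germ_eq_zero_iff hX p F V vb τ).1 (h p vb)
  refine ⟨Y, g, ?_, ?_⟩
  · show F.obj.map g.op τ = F.obj.map g.op 0
    rw [map_zero]
    exact heq
  · rw [← hvb]
    exact mem_range_of_map_eq g y vb hy

theorem germ_restrict (hX : IsAlgSpace X) (p : FieldPt X) [IsSepClosed p.K] (F : AbEt X)
    {V E : EtOver X} (g : V ⟶ E) (y : (FieldPt.liftsTo p).obj V) (σ : ↥(F.obj.obj (op E))) :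
    (point hX p).toPresheafFiber V y F.obj ((F.obj.map g.op).hom σ) =
      (point hX p).toPresheafFiber E ((FieldPt.liftsTo p).map g y) F.obj σ :=
  (point hX p).toPresheafFiber_w_apply g y F.obj σ

/-- The largest open of `U` on which a section of an abelian sheaf vanishes. -/
theorem exists_opens_vanishing (hX : IsAlgSpace X) (F : AbEt X) (U : EtOver X)
    (σ : ↥(F.obj.obj (op U))) :
    ∃ W : TopologicalSpace.Opens ↥U.obj.left.left,
      (∀ (V : EtOver X) (φ : V ⟶ U), (F.obj.map φ.op).hom σ = 0 ↔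
        Set.range (fun v => φ.hom.left.left v) ⊆ (W : Set ↥U.obj.left.left)) ∧
      (∀ (p : FieldPt X) [IsAlgClosed p.K] (l : (FieldPt.liftsTo p).obj U),
        (point hX p).toPresheafFiber U l F.obj σ = 0 ↔
          l.1.left (default : ↥(Spec (CommRingCat.of p.K))) ∈ W) := by
  let Wset : Set ↥U.obj.left.left := {x | ∃ (V : EtOver X) (φ : V ⟶ U),
    (F.obj.map φ.op).hom σ = 0 ∧ x ∈ Set.range φ.hom.left.left}
  have hopen : IsOpen Wset := by
    rw [isOpen_iff_forall_mem_open]
    rintro x ⟨V, φ, hφ, hx⟩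
    haveI : Etale φ.hom.left.left := EtOver.etale_left φ
    exact ⟨Set.range φ.hom.left.left, fun y hy => ⟨V, φ, hφ, hy⟩,
      φ.hom.left.left.isOpenMap.isOpen_range, hx⟩
  -- key: a lift through a point of `W` has vanishing germ
  have key : ∀ (p : FieldPt X) [IsAlgClosed p.K] (l : (FieldPt.liftsTo p).obj U),
      l.1.left (default : ↥(Spec (CommRingCat.of p.K))) ∈ Wset →
      (point hX p).toPresheafFiber U l F.obj σ = 0 := by
    intro p _ l hl
    obtain ⟨V', φ', hφ', v', hv'⟩ := hl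
    obtain ⟨l', hl', -⟩ := exists_lift_of_map φ' l v' hv'
    rw [← hl', ← germ_restrict, hφ']
    exact map_zero _
  refine ⟨⟨Wset, hopen⟩, ?_, ?_⟩
  · intro V φ
    constructor
    · rintro h _ ⟨v, rfl⟩
      exact ⟨V, φ, h, v, rfl⟩
    · intro h
      apply section_eq_zero_of_germs hX F V
      intro p _ vb
      rw [germ_restrict]
      apply key
      apply h
      exact ⟨vb.1.left (default : ↥(Spec (CommRingCat.of p.K))), rfl⟩
  · intro p _ l
    constructor
    · intro h
      obtain ⟨V, g, y, hy, heq⟩ := (germ_eq_zero_iff hX p F U l σ).1 h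
      exact ⟨V, g, heq, mem_range_of_map_eq g y l hy⟩
    · intro h
      exact key p l h

end Groth.Agent.Lib.EtStalkSupp_helper7
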