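import Mathlib
import Groth.Agent.Lib.QCEt29_helper7
import Groth.Agent.Lib.LimTower1_helper7

/-!
# Direct images of quasi-coherent modules along affine morphisms (helper7)
-/

set_option backward.isDefEq.respectTransparency false
set_option backward.isDefEq.respectTransparency.types false
set_option linter.style.haveILetI false
set_option linter.unusedSectionVars false
set_option linter.unusedVariables false
set_option autoImplicit false
set_option maxHeartbeats 1600000
set_option maxSynthPendingDepth 3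

universe u v

open CategoryTheory Limits Opposite AlgebraicGeometry AlgSp TensorProduct

namespace Groth.Agent.Lib.QCEtH7

open Groth.Agent.Lib.WeakAssEtH7 Groth.Agent.Lib.IdealEtBH7 Groth.Agent.Lib.EtPostcomp_helper7
  Groth.Agent.Lib.EtStalkPt_helper7

variable {S : Scheme.{u}} {X Y : Sp S} {f : X ⟶ Y} (hf : Representable f)

section Sections

/-- pullback of functions along the projection `V ×_Y X ⟶ V` -/
noncomputable def bcRg (E : EtOver Y) : Rg E →+* Rg ((EtOver.bc hf).obj E) :=
  ((bcRingHom hf).hom.app (op E)).hom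

theorem bcRg_down (E : EtOver Y) (x : Rg E) :
    (bcRg hf E x).down = (EtOver.bcπ hf E).left.appTop.hom x.down := rfl

theorem sec_push (M : ModEt X) (E : EtOver Y) :
    Sec ((pushModEt hf).obj M) E = Sec M ((EtOver.bc hf).obj E) := rfl

/-- a section of the direct image as a section of the module -/
def ofPush (M : ModEt X) (E : EtOver Y) (m : Sec ((pushModEt hf).obj M) E) :
    Sec M ((EtOver.bc hf).obj E) := m

theorem smul_push (M : ModEt X) (E : EtOver Y) (a : Rg E) (m : Sec ((pushModEt hf).obj M) E) :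
    ofPush hf M E (a • m) = bcRg hf E a • ofPush hf M E m := rfl

theorem resAdd_push (M : ModEt X) {E' E : EtOver Y} (g : E' ⟶ E)
    (m : Sec ((pushModEt hf).obj M) E) :
    ofPush hf M E' (resAdd ((pushModEt hf).obj M) g m) =
      resAdd M ((EtOver.bc hf).map g) (ofPush hf M E m) := rfl

end Sections

section PO

/-- functions on a pullback square of affine schemes form a pushout (`ULift` form) -/
theorem isPO_of_isPullback {P A B Z : Scheme.{u}} {fst : P ⟶ A} {snd : P ⟶ B} {a : A ⟶ Z}
    {b : B ⟶ Z} (h : IsPullback fst snd a b) [IsAffine A] [IsAffine B] [IsAffine Z]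
    (φ_ZA : ULift.{u + 1} Γ(Z, ⊤) →+* ULift.{u + 1} Γ(A, ⊤))
    (h1 : ∀ x, (φ_ZA x).down = a.appTop.hom x.down)
    (φ_ZB : ULift.{u + 1} Γ(Z, ⊤) →+* ULift.{u + 1} Γ(B, ⊤))
    (h2 : ∀ x, (φ_ZB x).down = b.appTop.hom x.down)
    (φ_AP : ULift.{u + 1} Γ(A, ⊤) →+* ULift.{u + 1} Γ(P, ⊤))
    (h3 : ∀ x, (φ_AP x).down = fst.appTop.hom x.down)
    (φ_BP : ULift.{u + 1} Γ(B, ⊤) →+* ULift.{u + 1} Γ(P, ⊤))
    (h4 : ∀ x, (φ_BP x).down = snd.appTop.hom x.down) :
    IsPO φ_ZA φ_ZB φ_AP φ_BP := by
  have hpo := isPushout_appTop_of_isPullback h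
  letI a01 : Algebra Γ(Z, ⊤) Γ(A, ⊤) := a.appTop.hom.toAlgebra
  letI a02 : Algebra Γ(Z, ⊤) Γ(B, ⊤) := b.appTop.hom.toAlgebra
  letI a1P : Algebra Γ(A, ⊤) Γ(P, ⊤) := fst.appTop.hom.toAlgebra
  letI a2P : Algebra Γ(B, ⊤) Γ(P, ⊤) := snd.appTop.hom.toAlgebra
  letI a0P : Algebra Γ(Z, ⊤) Γ(P, ⊤) := (fst.appTop.hom.comp a.appTop.hom).toAlgebra
  haveI t1 : IsScalarTower Γ(Z, ⊤) Γ(A, ⊤) Γ(P, ⊤) :=
    IsScalarTower.of_algebraMap_eq (fun x => rfl)
  haveI t2 : IsScalarTower Γ(Z, ⊤) Γ(B, ⊤) Γ(P, ⊤) :=
    IsScalarTower.of_algebraMap_eq (fun x => by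
      have h := congrArg (fun k => k.hom x) hpo.w
      exact h)
  haveI hpush : Algebra.IsPushout Γ(Z, ⊤) Γ(A, ⊤) Γ(B, ⊤) Γ(P, ⊤) :=
    CommRingCat.isPushout_iff_isPushout.1 hpo
  exact isPO_ulift.{u, u + 1} φ_ZA h1 φ_ZB h2 φ_AP h3 φ_BP h4

end PO

section BC

variable (haff : IsAffineMor f)

include haff in
theorem isAffine_bc (E : EtOver Y) [hE : IsAffine E.obj.left.left] :
    IsAffine ((EtOver.bc hf).obj E).obj.left.left := by
  have h1 := Groth.Agent.Lib.LimTowerH7.repWith_isAffineHom_of_isAffineMor f haff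
  haveI h2 : IsAffineHom (EtOver.bcπ hf E).left :=
    h1.2 E.obj.hom (hf.fst E.obj.hom) (hf.snd E.obj.hom) (hf.isPullback E.obj.hom)
  exact isAffine_of_isAffineHom (EtOver.bcπ hf E).left

include haff in
/-- the square of rings of functions attached to a base change square is a pushout -/
theorem isPO_bc {E' E : EtOver Y} [hE' : IsAffine E'.obj.left.left]
    [hE : IsAffine E.obj.left.left] (g : E' ⟶ E) :
    IsPO (resRing g) (bcRg hf E) (bcRg hf E') (resRing ((EtOver.bc hf).map g)) := by
  haveI h0 : IsAffine (EtOver.bcObj hf E).obj.left.left := isAffine_bc hf haff E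
  have hpb := (EtOver.isPullback_bcMap_left hf g).flip
  exact isPO_of_isPullback hpb (resRing g) (fun x => rfl) (bcRg hf E) (fun x => rfl)
    (bcRg hf E') (fun x => rfl) (resRing ((EtOver.bc hf).map g)) (fun x => rfl)

include haff in
/-- **base change for the direct image along an affine morphism** -/
theorem hasBC_push (M : ModEt X) (hM : HasBC M) : HasBC ((pushModEt hf).obj M) := by
  intro E' E hE' hE g
  haveI := hE'
  haveI := hE
  haveI h1 := isAffine_bc hf haff E
  haveI h2 := isAffine_bc hf haff E'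
  have h3 := hM _ _ h2 h1 ((EtOver.bc hf).map g)
  exact IsBCAlong.pushout (isPO_bc hf haff g) (resAdd M ((EtOver.bc hf).map g)) h3

end BC

section Finite

variable (hfin : IsFiniteMor f)

include hfin in
theorem isAffineMor_of_isFiniteMor : IsAffineMor f := by
  intro Z hZ g
  obtain ⟨W, i, fst, sq, hW, -⟩ := hfin hZ g
  exact ⟨W, i, fst, sq, hW⟩

include hfin in
theorem isFinite_bcπ (E : EtOver Y) : IsFinite (EtOver.bcπ hf E).left := by
  have h1 : RepWith @IsFinite f :=
    Groth.Agent.Lib.AlgSpGlue2H7.repWith_of_affine_local @IsFinite f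
      (fun Z hZ g => by
        obtain ⟨W, i, fst, sq, -, hi⟩ := hfin hZ g
        exact ⟨W, i, fst, sq, hi⟩)
  exact h1.2 E.obj.hom (hf.fst E.obj.hom) (hf.snd E.obj.hom) (hf.isPullback E.obj.hom)

include hfin in
theorem finite_bcRg (E : EtOver Y) [hE : IsAffine E.obj.left.left] : (bcRg hf E).Finite := by
  haveI := isFinite_bcπ hf hfin E
  have h : (EtOver.bcπ hf E).left.appTop.hom.Finite := (EtOver.bcπ hf E).left.finite_appTop
  have h1 : bcRg hf E = ((ULift.ringEquiv.{u, u + 1}
      (R := Γ(((EtOver.bc hf).obj E).obj.left.left, ⊤))).symm.toRingHom.comp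
        (EtOver.bcπ hf E).left.appTop.hom).comp
      (ULift.ringEquiv.{u, u + 1} (R := Γ(E.obj.left.left, ⊤))).toRingHom := by
    apply RingHom.ext
    intro x
    rfl
  rw [h1]
  apply RingHom.Finite.comp
  · apply RingHom.Finite.comp
    · exact RingHom.Finite.of_surjective _ (ULift.ringEquiv).symm.surjective
    · exact h
  · exact RingHom.Finite.of_surjective _ (ULift.ringEquiv).surjective

include hfin in
/-- sections of the direct image of a module with finite sections, along a finite morphism -/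
theorem finite_sec_push (M : ModEt X) (E : EtOver Y) [hE : IsAffine E.obj.left.left]
    (h : Module.Finite (Rg ((EtOver.bc hf).obj E)) (Sec M ((EtOver.bc hf).obj E))) :
    Module.Finite (Rg E) (Sec ((pushModEt hf).obj M) E) := by
  have hfinR := finite_bcRg hf hfin E
  letI alg : Algebra (Rg E) (Rg ((EtOver.bc hf).obj E)) := (bcRg hf E).toAlgebra
  haveI : Module.Finite (Rg E) (Rg ((EtOver.bc hf).obj E)) := hfinR
  letI : Module (Rg E) (Sec M ((EtOver.bc hf).obj E)) :=
    modAlong (bcRg hf E) (Sec M ((EtOver.bc hf).obj E))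
  haveI : IsScalarTower (Rg E) (Rg ((EtOver.bc hf).obj E)) (Sec M ((EtOver.bc hf).obj E)) :=
    towerAlong (bcRg hf E) (Sec M ((EtOver.bc hf).obj E))
  exact Module.Finite.trans (Rg ((EtOver.bc hf).obj E)) (Sec M ((EtOver.bc hf).obj E))

end Finite

section Main

variable {S' : Scheme.{u}}

/-- the direct image of a quasi-coherent module along an affine representable morphism of
algebraic spaces is quasi-coherent -/
theorem isQuasicoherent_push_of_affine {X Y : Sp S} {f : X ⟶ Y} (hf : Representable f)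
    (haff : IsAffineMor f) (hX : IsAlgSpace X) (M : ModEt X) [M.IsQuasicoherent] :
    ((pushModEt hf).obj M).IsQuasicoherent :=
  isQuasicoherent_of_hasBC _ (hasBC_push hf haff M (hasBC_of_qc hX M))

/-- **S10746** -/
theorem main10746 {X Y : AlgSp.Space S'} (f : X ⟶ Y) (hf : AlgSp.Representable f.hom)
    (hfin : AlgSp.IsFiniteMor f.hom) (hY : AlgSp.IsLocNoethSp Y.obj) (M : AlgSp.ModEt X.obj)
    [M.IsFinitePresentation] : ((AlgSp.pushModEt hf).obj M).IsFinitePresentation := by
  have haff := isAffineMor_of_isFiniteMor hfin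
  haveI : ((pushModEt hf).obj M).IsQuasicoherent :=
    isQuasicoherent_push_of_affine hf haff X.property M
  apply isFinitePresentation_of_finite_sections Y.property hY
  intro E hE
  haveI := isAffine_bc hf haff E
  exact finite_sec_push hf hfin M E (finite_sec M X.property _)

end Main

end Groth.Agent.Lib.QCEtH7
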