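import Mathlib
import Groth.Agent.Lib.QCEt30_helper7

/-!
# Modules of finite type and finite morphisms (helper7): S10577
-/

set_option backward.isDefEq.respectTransparency false
set_option backward.isDefEq.respectTransparency.types false
set_option linter.style.haveILetI false
set_option linter.unusedSectionVars false
set_option linter.unusedVariables false
set_option autoImplicit false
set_option maxHeartbeats 1600000
set_option maxSynthPendingDepth 3

universe u v

open CategoryTheory Limits Opposite AlgebraicGeometry AlgSp TensorProduct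

namespace Groth.Agent.Lib.QCEtH7

open Groth.Agent.Lib.WeakAssEtH7 Groth.Agent.Lib.IdealEtBH7 Groth.Agent.Lib.EtPostcomp_helper7
  Groth.Agent.Lib.EtStalkPt_helper7 Groth.Agent.Lib.AlgSpPoints_helper7

variable {S : Scheme.{u}}

section FiniteType

variable {X : Sp S} (M : ModEt X)

/-- finitely many generating sections of the restriction to an affine object with finite
sections -/
theorem exists_generatingSections_of_finite (hbc : HasBC M) (E : EtOver X)
    [hE : IsAffine E.obj.left.left] (h : Module.Finite (Rg E) (Sec M E)) :
    ∃ σ : (M.over E).GeneratingSections, σ.IsFiniteType := by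
  obtain ⟨s0, hs0⟩ := h.fg_top
  obtain ⟨s, hsdef⟩ : ∃ s : {y // y ∈ s0} → Sec M E, s = Subtype.val := ⟨_, rfl⟩
  have hs : Submodule.span (Rg E) (Set.range s) = ⊤ := by
    rw [hsdef, Subtype.range_coe]
    exact hs0
  have hepi := epi_gsec_of_hasBC M hbc E s hs
  exact ⟨{ I := {y // y ∈ s0}, s := fun i => gsec M E (s i), epi := hepi }, ⟨inferInstance⟩⟩

/-- local generators from generating sections over a covering family -/
noncomputable def localGensOfCover {ι : Type (u + 1)} (W : ι → EtOver X)
    (hcov : (etTop X).CoversTop W) (σ : ∀ i, (M.over (W i)).GeneratingSections) :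
    SheafOfModules.LocalGeneratorsData.{u + 1} (R := OEtRing X) M where
  I := ι
  X := W
  coversTop := hcov
  generators := σ

theorem localGensOfCover_isFiniteType {ι : Type (u + 1)} (W : ι → EtOver X)
    (hcov : (etTop X).CoversTop W) (σ : ∀ i, (M.over (W i)).GeneratingSections)
    (hσ : ∀ i, (σ i).IsFiniteType) : (localGensOfCover M W hcov σ).IsFiniteType := by
  constructor
  intro i
  exact hσ i

/-- a module with the base change property whose sections over a covering family of affine
objects are finite is of finite type -/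
theorem isFiniteType_of_cover (hbc : HasBC M) {ι : Type (u + 1)} (W : ι → EtOver X)
    (hW : ∀ i, IsAffine (W i).obj.left.left) (hcov : (etTop X).CoversTop W)
    (h : ∀ i, Module.Finite (Rg (W i)) (Sec M (W i))) : M.IsFiniteType := by
  have h1 : ∀ i, ∃ σ : (M.over (W i)).GeneratingSections, σ.IsFiniteType := by
    intro i
    haveI := hW i
    exact exists_generatingSections_of_finite M hbc (W i) (h i)
  choose σ hσ using h1
  constructor
  exact ⟨localGensOfCover M W hcov σ, localGensOfCover_isFiniteType M W hcov σ hσ⟩

theorem isFiniteType_of_finite_sections (hbc : HasBC M)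
    (h : ∀ (E : EtOver X) [IsAffine E.obj.left.left], Module.Finite (Rg E) (Sec M E)) :
    M.IsFiniteType := by
  apply isFiniteType_of_cover M hbc
    (fun i : {E : EtOver X // IsAffine E.obj.left.left} => i.1) (fun i => i.2) coversTop_affine
  intro i
  haveI := i.2
  exact h i.1

end FiniteType

section Cover

variable {X Y : Sp S} {f : X ⟶ Y} (hf : Representable f)

/-- the base changes of the affine objects of the small étale site of `Y` cover that of `X` -/
theorem coversTop_bc (hY : IsAlgSpace Y) :
    (etTop X).CoversTop (fun i : {E : EtOver Y // IsAffine E.obj.left.left} =>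
      (EtOver.bc hf).obj i.1) := by
  intro U
  apply sieve_mem_of_forall_exists
  intro u
  obtain ⟨E, hE, e, he⟩ := exists_affine_chart hY (Points.map f (Points.ofPt U.obj.hom u))
  have sq := EtOver.isPullback_bcObj hf E
  have h1 : Points.map f (Points.ofPt U.obj.hom u) =
      Points.map E.obj.hom (Points.ofScheme E.obj.left e) := by
    rw [← Points.ofPt_eq_map_ofScheme]
    exact he.symm
  obtain ⟨z, hz1, hz2⟩ := exists_of_isPullback sq _ _ h1
  obtain ⟨w, rfl⟩ := (Points.schemeEquiv (EtOver.bcObj hf E).obj.left).surjective z
  have h2 : Points.ofPt U.obj.hom u = Points.ofPt ((EtOver.bc hf).obj E).obj.hom w := by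
    rw [← hz1]
    exact (Points.ofPt_eq_map_ofScheme _ w).symm
  obtain ⟨P, g, g', v, hv, hv'⟩ := exists_prod' U ((EtOver.bc hf).obj E) u w h2
  exact ⟨P, g, (Sieve.mem_ofObjects_iff _ _).2 ⟨⟨E, hE⟩, ⟨g'⟩⟩, ⟨v, hv⟩⟩

end Cover

section Main

variable {X Y : Sp S} {f : X ⟶ Y} (hf : Representable f)

/-- finiteness over the ring of the base change from finiteness over the base -/
theorem finite_of_finite_push (M : ModEt X) (E : EtOver Y)
    (h : Module.Finite (Rg E) (Sec ((pushModEt hf).obj M) E)) :
    Module.Finite (Rg ((EtOver.bc hf).obj E)) (Sec M ((EtOver.bc hf).obj E)) := by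
  letI alg : Algebra (Rg E) (Rg ((EtOver.bc hf).obj E)) := (bcRg hf E).toAlgebra
  letI : Module (Rg E) (Sec M ((EtOver.bc hf).obj E)) :=
    modAlong (bcRg hf E) (Sec M ((EtOver.bc hf).obj E))
  haveI : IsScalarTower (Rg E) (Rg ((EtOver.bc hf).obj E)) (Sec M ((EtOver.bc hf).obj E)) :=
    towerAlong (bcRg hf E) (Sec M ((EtOver.bc hf).obj E))
  haveI : Module.Finite (Rg E) (Sec M ((EtOver.bc hf).obj E)) := h
  exact Module.Finite.of_restrictScalars_finite (Rg E) (Rg ((EtOver.bc hf).obj E))
    (Sec M ((EtOver.bc hf).obj E))

variable {S' : Scheme.{u}}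

/-- **S10577** -/
theorem main10577 {X Y : AlgSp.Space S'} (f : X ⟶ Y) (hrep : AlgSp.Representable f.hom)
    (hfin : AlgSp.IsFiniteMor f.hom) (F : AlgSp.ModEt X.obj) [F.IsQuasicoherent] :
    F.IsFiniteType ↔ ((AlgSp.pushModEt hrep).obj F).IsFiniteType := by
  have haff := isAffineMor_of_isFiniteMor hfin
  have hbcF : HasBC F := hasBC_of_qc X.property F
  have hbcP : HasBC ((pushModEt hrep).obj F) := hasBC_push hrep haff F hbcF
  haveI hqcP : ((pushModEt hrep).obj F).IsQuasicoherent :=
    isQuasicoherent_of_hasBC _ hbcP
  constructor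
  · intro hF
    apply isFiniteType_of_finite_sections _ hbcP
    intro E hE
    haveI := isAffine_bc hrep haff E
    exact finite_sec_push hrep hfin F E (finite_sec F X.property _)
  · intro hP
    apply isFiniteType_of_cover F hbcF
      (fun i : {E : EtOver Y.obj // IsAffine E.obj.left.left} => (EtOver.bc hrep).obj i.1)
      (fun i => by
        haveI := i.2
        exact isAffine_bc hrep haff i.1)
      (coversTop_bc hrep Y.property)
    intro i
    haveI := i.2
    exact finite_of_finite_push hrep F i.1 (finite_sec _ Y.property i.1)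

end Main

end Groth.Agent.Lib.QCEtH7
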