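import Mathlib
import Groth.Agent.Lib.QCEt31_helper7
import Groth.Agent.Lib.MonicGsect_helper6

/-!
# Ascending chains of quasi-coherent submodules of a coherent module (helper7): S10747
-/

set_option backward.isDefEq.respectTransparency false
set_option backward.isDefEq.respectTransparency.types false
set_option linter.style.haveILetI false
set_option linter.unusedSectionVars false
set_option linter.unusedVariables false
set_option autoImplicit false
set_option maxHeartbeats 1600000
set_option maxSynthPendingDepth 3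

universe u v

open CategoryTheory Limits Opposite AlgebraicGeometry AlgSp TensorProduct

namespace Groth.Agent.Lib.QCEtH7

open Groth.Agent.Lib.WeakAssEtH7 Groth.Agent.Lib.IdealEtBH7 Groth.Agent.Lib.EtPostcomp_helper7
  Groth.Agent.Lib.EtStalkPt_helper7 Groth.Agent.Lib.AlgSpPoints_helper7

section Generic

variable {C : Type (v + 1)} [Category.{v} C] {J : GrothendieckTopology C}
  {R : Sheaf J RingCat.{v + 1}}
  [HasSheafify J AddCommGrpCat.{v + 1}] [J.WEqualsLocallyBijective AddCommGrpCat.{v + 1}]

/-- **a locally surjective morphism of sheaves of modules is an epimorphism** -/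
theorem epi_of_imSieve_mem {M N : SheafOfModules.{v + 1} R} (π : M ⟶ N)
    (h : ∀ (U : C) (n : N.val.obj (op U)), imSieve π U n ∈ J U) : Epi π := by
  have h1 : Sheaf.IsLocallySurjective ((SheafOfModules.toSheaf.{v + 1} R).map π) := by
    constructor
    intro U s
    refine J.superset_covering ?_ (h U s)
    rintro V f ⟨t, ht⟩
    exact ⟨t, ht⟩
  haveI h2 : Epi ((SheafOfModules.toSheaf.{v + 1} R).map π) :=
    (Sheaf.isLocallySurjective_iff_epi' AddCommGrpCat.{v + 1}
      ((SheafOfModules.toSheaf.{v + 1} R).map π)).1 h1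
  exact (SheafOfModules.toSheaf.{v + 1} R).epi_of_epi_map h2

end Generic

variable {S : Scheme.{u}} {X : Sp S}

section Local

/-- a morphism of modules with the base change property which is surjective on sections over an
affine étale atlas is an epimorphism -/
theorem epi_of_surjective_on_atlas (hX : IsAlgSpace X) {A B : ModEt X} (i : A ⟶ B)
    (hB : HasBC B) (E₀ : EtOver X) [hE₀ : IsAffine E₀.obj.left.left]
    (hsurjE : Function.Surjective (Points.ofPt E₀.obj.hom))
    (hi : Function.Surjective (secLin i E₀)) : Epi i := by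
  apply epi_of_imSieve_mem
  intro U b
  apply sieve_mem_of_forall_exists
  intro u
  obtain ⟨e, he⟩ := hsurjE (Points.ofPt U.obj.hom u)
  obtain ⟨P, g, g', v, hv, hv'⟩ := exists_prod' U E₀ u e he.symm
  obtain ⟨W, ι, hW, w, hw⟩ := exists_affine_piece P v
  refine ⟨W, ι ≫ g, ?_, ⟨w, ?_⟩⟩
  · -- the restriction of `b` to `W` lies in the image
    have hspan : Submodule.span (Rg W) ((resAdd B (ι ≫ g')) '' Set.univ) = ⊤ :=
      IsBCAlong.span_image_eq_top (resRing (ι ≫ g')) (hB W E₀ hW hE₀ (ι ≫ g')) Set.univ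
        Submodule.span_univ
    have hle : Submodule.span (Rg W) ((resAdd B (ι ≫ g')) '' Set.univ) ≤
        LinearMap.range (secLin i W) := by
      rw [Submodule.span_le]
      rintro _ ⟨β, -, rfl⟩
      obtain ⟨α, rfl⟩ := hi β
      exact ⟨resAdd A (ι ≫ g') α, secLin_resAdd i (ι ≫ g') α⟩
    have hmem : resAdd B (ι ≫ g) b ∈ LinearMap.range (secLin i W) :=
      hle (hspan ▸ Submodule.mem_top)
    obtain ⟨a, ha⟩ := hmem
    exact ⟨a, ha⟩
  · rw [← hv, ← hw]
    rfl

end Local

section Chain

variable {S' : Scheme.{u}}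

/-- **S10747** -/
theorem main10747 (X : AlgSp.Space S') (hqc : AlgSp.IsQuasiCompactSp X.obj)
    (hqs : AlgSp.IsQuasiSeparatedSp X.obj) (hN : AlgSp.IsLocNoethSp X.obj)
    (M : AlgSp.ModEt X.obj) [M.IsFinitePresentation] (N : ℕ →o Subobject M)
    (hq : ∀ n, (Subobject.underlying.obj (N n)).IsQuasicoherent) :
    ∃ n, ∀ m, n ≤ m → N m = N n := by
  have hAS : IsAlgSpace X.obj := X.property
  obtain ⟨U, p, hU, hpe, hps⟩ := Groth.Agent.Lib.MonicGsectH6.exists_affine_atlas hqc
  obtain ⟨E₀, hE₀def⟩ : ∃ E₀ : EtOver X.obj, E₀ = EtOver.mk p hpe := ⟨_, rfl⟩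
  haveI hE₀ : IsAffine E₀.obj.left.left := by
    rw [hE₀def]
    exact hU
  have hsurjE : Function.Surjective (Points.ofPt E₀.obj.hom) := by
    rw [hE₀def]
    exact ofPt_surjective p hps
  -- the module of sections over the atlas is Noetherian
  haveI := isNoetherianRing_Rg hN E₀
  haveI : Module.Finite (Rg E₀) (Sec M E₀) := finite_sec M hAS E₀
  haveI : IsNoetherian (Rg E₀) (Sec M E₀) := isNoetherian_of_isNoetherianRing_of_finite _ _
  -- the chain of images
  have hfac : ∀ {n m : ℕ} (h : n ≤ m),
      Subobject.ofLE (N n) (N m) (N.monotone h) ≫ (N m).arrow = (N n).arrow :=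
    fun h => Subobject.ofLE_arrow _
  let Rn : ℕ →o Submodule (Rg E₀) (Sec M E₀) :=
    { toFun := fun n => LinearMap.range (secLin (N n).arrow E₀)
      monotone' := by
        intro n m h
        rintro _ ⟨α, rfl⟩
        refine ⟨secLin (Subobject.ofLE (N n) (N m) (N.monotone h)) E₀ α, ?_⟩
        rw [← secLin_comp]
        exact congrArg (fun ψ => secLin ψ E₀ α) (hfac h) }
  obtain ⟨n, hn⟩ := (monotone_stabilizes_iff_noetherian.2 inferInstance) Rn
  refine ⟨n, fun m hm => ?_⟩
  have hle : N n ≤ N m := N.monotone hm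
  apply le_antisymm _ hle
  -- the inclusion is an epimorphism
  haveI := hq m
  haveI := hq n
  have hsurj : Function.Surjective (secLin (Subobject.ofLE (N n) (N m) hle) E₀) := by
    intro β
    have h1 : secLin (N m).arrow E₀ β ∈ Rn m := ⟨β, rfl⟩
    rw [← hn m hm] at h1
    obtain ⟨α, hα⟩ := h1
    refine ⟨α, ?_⟩
    apply app_injective_of_mono (N m).arrow E₀
    have h2 : secLin (N m).arrow E₀ (secLin (Subobject.ofLE (N n) (N m) hle) E₀ α) =
        secLin (N n).arrow E₀ α := by
      rw [← secLin_comp]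
      exact congrArg (fun ψ => secLin ψ E₀ α) (hfac hm)
    exact h2.trans hα
  haveI hepi : Epi (Subobject.ofLE (N n) (N m) hle) :=
    epi_of_surjective_on_atlas hAS _ (hasBC_of_qc hAS _) E₀ hsurjE hsurj
  haveI : IsIso (Subobject.ofLE (N n) (N m) hle) := isIso_of_mono_of_epi _
  apply Subobject.le_of_comm (inv (Subobject.ofLE (N n) (N m) hle))
  rw [IsIso.inv_comp_eq]
  exact (hfac hm).symm

end Chain

end Groth.Agent.Lib.QCEtH7
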