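import Mathlib
import Groth.Agent.Lib.QCEt32_helper7

/-!
# Sections of a module of finite presentation over affine objects are finitely presented (helper7)
-/

set_option backward.isDefEq.respectTransparency false
set_option backward.isDefEq.respectTransparency.types false
set_option linter.style.haveILetI false
set_option linter.unusedSectionVars false
set_option linter.unusedVariables false
set_option autoImplicit false
set_option maxHeartbeats 1600000
set_option maxSynthPendingDepth 3

universe u v

open CategoryTheory Limits Opposite AlgebraicGeometry AlgSp TensorProduct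

namespace Groth.Agent.Lib.QCEtH7

open Groth.Agent.Lib.WeakAssEtH7 Groth.Agent.Lib.IdealEtBH7 Groth.Agent.Lib.EtPostcomp_helper7
  Groth.Agent.Lib.EtStalkPt_helper7 Groth.Agent.Lib.AlgSpPoints_helper7

section Presented

variable {S : Scheme.{u}} {X : Sp S} (M : ModEt X) (Y : EtOver X) (P : (M.over Y).Presentation)

/-- over an affine object lying over `Y`, the sections are presented by the generators and
relations of a presentation of `M.over Y` -/
theorem fp_sec_of_map (hX : IsAlgSpace X) [hP : P.IsFinite] {E : EtOver X}
    [IsAffine E.obj.left.left] (a : E ⟶ Y) : Module.FinitePresentation (Rg E) (Sec M E) := by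
  haveI : Finite P.generators.I := hP.isFiniteType_generators.finite
  haveI : Finite P.relations.I := hP.isFiniteType_relations.finite
  have hsurj := lcE_surjective M Y P hX a
  -- coefficient vectors of the relations
  have hy : ∀ j : P.relations.I, ∃ y : P.generators.I →₀ Rg E,
      freeE Y P.generators.I a y = rho M Y P a j :=
    fun j => freeE_surjective' Y P.generators.I hX a (rho M Y P a j)
  choose y hy using hy
  have h1 : Set.range (rho M Y P a) = (freeE Y P.generators.I a) '' (Set.range y) := by
    ext t
    constructor
    · rintro ⟨j, rfl⟩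
      exact ⟨y j, ⟨j, rfl⟩, hy j⟩
    · rintro ⟨_, ⟨j, rfl⟩, rfl⟩
      exact ⟨j, (hy j).symm⟩
  have h2 : Submodule.span (Rg E) (Set.range (rho M Y P a)) =
      (Submodule.span (Rg E) (Set.range y)).map (freeE Y P.generators.I a) := by
    rw [h1]
    exact (Submodule.map_span _ _).symm
  have hker : LinearMap.ker (lcE M Y P a) = Submodule.span (Rg E) (Set.range y) := by
    ext x
    constructor
    · intro hx
      have hx1 : lcE M Y P a x = 0 := hx
      have hx2 := (mem_relE_iff M Y P a x).1 ((ker_lcE_iff M Y P hX a x).1 hx1)
      have hx3 : freeE Y P.generators.I a x ∈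
          (Submodule.span (Rg E) (Set.range y)).map (freeE Y P.generators.I a) := h2 ▸ hx2
      obtain ⟨x', hx', hxx'⟩ := hx3
      have h4 := freeE_injective Y P.generators.I a hxx'
      exact h4 ▸ hx'
    · intro hx
      have hx3 : freeE Y P.generators.I a x ∈
          (Submodule.span (Rg E) (Set.range y)).map (freeE Y P.generators.I a) :=
        ⟨x, hx, rfl⟩
      have hx2 : freeE Y P.generators.I a x ∈
          Submodule.span (Rg E) (Set.range (rho M Y P a)) := h2.symm ▸ hx3
      exact (ker_lcE_iff M Y P hX a x).2 ((mem_relE_iff M Y P a x).2 hx2)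
  have hfg : (LinearMap.ker (lcE M Y P a)).FG := by
    rw [hker]
    exact Submodule.fg_span (Set.finite_range y)
  exact Module.finitePresentation_of_surjective (lcE M Y P a) hsurj hfg

end Presented

section Descent

variable {A : Type*} [CommRing A] {K : Type*} {Ac : K → Type*} [∀ c, CommRing (Ac c)]
  (φ : ∀ c, A →+* Ac c)

theorem lc_single_one {R : Type*} [CommRing R] {I : Type*} (x : I →₀ R) :
    Finsupp.linearCombination R (fun i => Finsupp.single i (1 : R)) x = x := by
  induction x using Finsupp.induction_linear with
  | zero => rw [map_zero]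
  | add x y hx hy => rw [map_add, hx, hy]
  | single i a =>
    rw [Finsupp.linearCombination_single, Finsupp.smul_single, smul_eq_mul, mul_one]

/-- the free module satisfies base change -/
theorem isBCAlong_mapH {B : Type*} [CommRing B] (ψ : A →+* B) (I : Type*) :
    IsBCAlong ψ (AddMonoidHom.mk' (mapH (I := I) ψ) (mapH_add ψ)) := by
  have hsemi : IsSemi ψ (AddMonoidHom.mk' (mapH (I := I) ψ) (mapH_add ψ)) := by
    intro a x
    exact mapH_smul ψ a x
  have hval : ∀ i, (AddMonoidHom.mk' (mapH (I := I) ψ) (mapH_add ψ))
      (Finsupp.single i (1 : A)) = Finsupp.single i (1 : B) := by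
    intro i
    show mapH ψ (Finsupp.single i (1 : A)) = _
    rw [mapH_single, map_one]
  refine IsBCAlong.of_presented ψ (fun i => Finsupp.single i (1 : A))
    (AddMonoidHom.mk' (mapH (I := I) ψ) (mapH_add ψ)) hsemi (∅ : Set (I →₀ A)) ?_ ?_ ?_ ?_
  · intro x
    exact ⟨x, lc_single_one x⟩
  · intro x
    refine ⟨x, ?_⟩
    have h1 : (fun i => (AddMonoidHom.mk' (mapH (I := I) ψ) (mapH_add ψ))
        (Finsupp.single i (1 : A))) = fun i => Finsupp.single i (1 : B) := funext hval
    rw [h1]
    exact lc_single_one x
  · intro y hy
    exact absurd hy (Set.notMem_empty y)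
  · intro x' hx'
    have h1 : (fun i => (AddMonoidHom.mk' (mapH (I := I) ψ) (mapH_add ψ))
        (Finsupp.single i (1 : A))) = fun i => Finsupp.single i (1 : B) := funext hval
    rw [h1, lc_single_one x'] at hx'
    rw [hx']
    exact zero_mem _

/-- **descent of finite presentation** along a finite jointly faithfully flat family -/
theorem fp_of_local [Finite K] (hflat : ∀ c, (φ c).Flat)
    (hJ : @JointSurj A _ K Ac _ (fun c => (φ c).toAlgebra))
    {N : Type*} [AddCommGroup N] [Module A N] {N' : K → Type*} [∀ c, AddCommGroup (N' c)]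
    [∀ c, Module (Ac c) (N' c)] (ρ : ∀ c, N →+ N' c) (hρ : ∀ c, IsBCAlong (φ c) (ρ c))
    (hfp : ∀ c, Module.FinitePresentation (Ac c) (N' c)) : Module.FinitePresentation A N := by
  haveI hfin : Module.Finite A N :=
    finite_of_local Ac φ hflat hJ ρ hρ (fun c => inferInstance)
  obtain ⟨s0, hs0⟩ := hfin.fg_top
  obtain ⟨s, hsdef⟩ : ∃ s : {y // y ∈ s0} → N, s = Subtype.val := ⟨_, rfl⟩
  have hs : Submodule.span A (Set.range s) = ⊤ := by
    rw [hsdef, Subtype.range_coe]
    exact hs0
  have hsurj : Function.Surjective (Finsupp.linearCombination A s) := by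
    rw [← LinearMap.range_eq_top, Finsupp.range_linearCombination]
    exact hs
  -- the base-changed presentations
  have hsurj' : ∀ c, Function.Surjective
      (Finsupp.linearCombination (Ac c) (fun i => ρ c (s i))) := by
    intro c
    rw [← LinearMap.range_eq_top, Finsupp.range_linearCombination]
    have h1 := IsBCAlong.span_image_eq_top (φ c) (hρ c) (Set.range s) hs
    have h2 : (Set.range fun i => ρ c (s i)) = (ρ c) '' (Set.range s) := by
      ext t
      constructor
      · rintro ⟨i, rfl⟩
        exact ⟨s i, ⟨i, rfl⟩, rfl⟩
      · rintro ⟨_, ⟨i, rfl⟩, rfl⟩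
        exact ⟨i, rfl⟩
    rw [h2]
    exact h1
  have hkfg : ∀ c, (LinearMap.ker
      (Finsupp.linearCombination (Ac c) (fun i => ρ c (s i)))).FG := by
    intro c
    haveI := hfp c
    exact Module.FinitePresentation.fg_ker _ (hsurj' c)
  -- compatibility
  have hcompat : ∀ c (x : {y // y ∈ s0} →₀ A),
      Finsupp.linearCombination (Ac c) (fun i => ρ c (s i)) (mapH (φ c) x) =
        ρ c (Finsupp.linearCombination A s x) := by
    intro c x
    induction x using Finsupp.induction_linear with
    | zero => rw [mapH_zero, map_zero, map_zero, map_zero]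
    | add x y hx hy => rw [mapH_add, map_add, map_add, map_add, hx, hy]
    | single i a =>
      rw [mapH_single, Finsupp.linearCombination_single, Finsupp.linearCombination_single]
      exact ((hρ c).1 a (s i)).symm
  -- restriction to the kernels
  have hmapsK : ∀ c (k : LinearMap.ker (Finsupp.linearCombination A s)),
      mapH (φ c) k.1 ∈ LinearMap.ker
        (Finsupp.linearCombination (Ac c) (fun i => ρ c (s i))) := by
    intro c k
    rw [LinearMap.mem_ker, hcompat c k.1]
    have hk : Finsupp.linearCombination A s k.1 = 0 := k.2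
    rw [hk, map_zero]
  let βK : ∀ c, LinearMap.ker (Finsupp.linearCombination A s) →+
      LinearMap.ker (Finsupp.linearCombination (Ac c) (fun i => ρ c (s i))) := fun c =>
    AddMonoidHom.mk' (fun k => ⟨mapH (φ c) k.1, hmapsK c k⟩) (fun k k' => by
      apply Subtype.ext
      exact mapH_add (φ c) k.1 k'.1)
  have hβK : ∀ c, IsBCAlong (φ c) (βK c) := by
    intro c
    refine IsBCAlong.of_exact (φ c) (hflat c)
      (LinearMap.ker (Finsupp.linearCombination A s)).subtype (Finsupp.linearCombination A s)
      (LinearMap.ker (Finsupp.linearCombination (Ac c) (fun i => ρ c (s i)))).subtype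
      (Finsupp.linearCombination (Ac c) (fun i => ρ c (s i)))
      Subtype.val_injective (fun k => k.2) (fun p hp => ⟨⟨p, hp⟩, rfl⟩)
      Subtype.val_injective (fun k => k.2)
      (βK c) (AddMonoidHom.mk' (mapH (φ c)) (mapH_add (φ c))) (ρ c) ?_ (fun k => rfl) ?_
      (isBCAlong_mapH (φ c) _) (hρ c)
    · intro a k
      apply Subtype.ext
      exact mapH_smul (φ c) a k.1
    · intro p
      exact hcompat c p
  haveI hKfin : Module.Finite A (LinearMap.ker (Finsupp.linearCombination A s)) :=
    finite_of_local Ac φ hflat hJ βK hβK (fun c => Module.Finite.iff_fg.2 (hkfg c))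
  exact Module.finitePresentation_of_surjective (Finsupp.linearCombination A s) hsurj
    (Module.Finite.iff_fg.1 hKfin)

end Descent

section Main

variable {S : Scheme.{u}} {X : Sp S}

/-- **sections of a module of finite presentation over an affine object are finitely
presented** -/
theorem fp_sec (M : ModEt X) (hX : IsAlgSpace X) [hM : M.IsFinitePresentation] (E : EtOver X)
    [IsAffine E.obj.left.left] : Module.FinitePresentation (Rg E) (Sec M E) := by
  obtain ⟨q, hq⟩ := hM.exists_quasicoherentData
  obtain ⟨n, W, gk, hW, hT, hcov⟩ := exists_finite_affine_refinement hX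
    (Sieve.ofObjects q.X E) (q.coversTop E)
  have h1 : ∀ k, ∃ i, Nonempty (W k ⟶ q.X i) := fun k => (Sieve.mem_ofObjects_iff _ _).1 (hT k)
  choose i hi using h1
  have hJ := jointSurj_of_cover W gk hcov
  refine fp_of_local (fun k => resRing (gk k)) (fun k => ?_) hJ (fun k => resAdd M (gk k))
    (fun k => ?_) (fun k => ?_)
  · haveI := hW k
    exact flat_resRing (gk k)
  · haveI := hW k
    exact bc_qc M hX (gk k)
  · haveI := hW k
    haveI := hq.isFinite_presentation (i k)
    exact fp_sec_of_map M (q.X (i k)) (q.presentation (i k)) hX (hi k).some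

end Main

end Groth.Agent.Lib.QCEtH7
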