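import Mathlib
import Groth.Agent.Lib.QCEt33_helper7

/-!
# Modules of finite presentation and finite morphisms of finite presentation (helper7): S10578
-/

set_option backward.isDefEq.respectTransparency false
set_option backward.isDefEq.respectTransparency.types false
set_option linter.style.haveILetI false
set_option linter.unusedSectionVars false
set_option linter.unusedVariables false
set_option autoImplicit false
set_option maxHeartbeats 1600000
set_option maxSynthPendingDepth 3

universe u v

open CategoryTheory Limits Opposite AlgebraicGeometry AlgSp TensorProduct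

namespace Groth.Agent.Lib.QCEtH7

open Groth.Agent.Lib.WeakAssEtH7 Groth.Agent.Lib.IdealEtBH7 Groth.Agent.Lib.EtPostcomp_helper7
  Groth.Agent.Lib.EtStalkPt_helper7 Groth.Agent.Lib.AlgSpPoints_helper7

section Algebra

/-- a module finitely presented over `R` is finitely presented over a finite `R`-algebra acting
on it -/
theorem fp_of_restrictScalars_fp (R A M : Type*) [CommRing R] [CommRing A] [Algebra R A]
    [AddCommGroup M] [Module R M] [Module A M] [IsScalarTower R A M] [Module.Finite R A]
    [Module.FinitePresentation R M] : Module.FinitePresentation A M := by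
  haveI : Module.Finite A M := Module.Finite.of_restrictScalars_finite R A M
  obtain ⟨n, f, hf⟩ := Module.Finite.exists_fin' A M
  haveI : Module.Finite R (Fin n → A) := Module.Finite.pi
  have hfg : (LinearMap.ker (f.restrictScalars R)).FG :=
    Module.FinitePresentation.fg_ker (f.restrictScalars R) hf
  have hfg' : (LinearMap.ker f).FG := by
    apply Submodule.FG.of_restrictScalars R
    exact hfg
  exact Module.finitePresentation_of_surjective f hf hfg'

end Algebra

variable {S : Scheme.{u}}

section Cover

variable {X : Sp S} (M : ModEt X)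

/-- quasi-coherent data from presentations over a covering family -/
noncomputable def qcDataOfCover {ι : Type (u + 1)} (W : ι → EtOver X)
    (hcov : (etTop X).CoversTop W) (P : ∀ i, (M.over (W i)).Presentation) :
    SheafOfModules.QuasicoherentData.{u + 1} (R := OEtRing X) M where
  I := ι
  X := W
  coversTop := hcov
  presentation := P

theorem qcDataOfCover_isFinitePresentation {ι : Type (u + 1)} (W : ι → EtOver X)
    (hcov : (etTop X).CoversTop W) (P : ∀ i, (M.over (W i)).Presentation)
    (hP : ∀ i, (P i).IsFinite) : (qcDataOfCover M W hcov P).IsFinitePresentation := by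
  constructor
  intro i
  exact hP i

/-- a quasi-coherent module whose sections over a covering family of affine objects are finitely
presented is of finite presentation -/
theorem isFinitePresentation_of_cover (hX : IsAlgSpace X) [M.IsQuasicoherent]
    {ι : Type (u + 1)} (W : ι → EtOver X)
    (hW : ∀ i, IsAffine (W i).obj.left.left) (hcov : (etTop X).CoversTop W)
    (h : ∀ i, Module.FinitePresentation (Rg (W i)) (Sec M (W i))) :
    M.IsFinitePresentation := by
  have h1 : ∀ i, ∃ P : (M.over (W i)).Presentation, P.IsFinite := by
    intro i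
    haveI := hW i
    exact exists_finite_presentation M hX (W i) (h i)
  choose P hP using h1
  constructor
  exact ⟨qcDataOfCover M W hcov P, qcDataOfCover_isFinitePresentation M W hcov P hP⟩

end Cover

section Push

variable {X Y : Sp S} {f : X ⟶ Y} (hf : Representable f)

/-- functions on the base change form a finitely presented module, for a finite morphism of
finite presentation -/
theorem fp_bcRg (hfin : IsFiniteMor f) (hlfp : LocP @LocallyOfFinitePresentation f)
    (E : EtOver Y) [hE : IsAffine E.obj.left.left] :
    @Module.FinitePresentation (Rg E) (Rg ((EtOver.bc hf).obj E)) _ _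
      (bcRg hf E).toAlgebra.toModule := by
  have haff := isAffineMor_of_isFiniteMor hfin
  haveI hbcaff : IsAffine (EtOver.bcObj hf E).obj.left.left := isAffine_bc hf haff E
  have h1 : LocallyOfFinitePresentation (EtOver.bcπ hf E).left :=
    hlfp ((EtOver.bc hf).obj E).obj.hom E.obj.hom (EtOver.bcπ hf E)
      ((EtOver.bc hf).obj E).property E.property (EtOver.isPullback_bcObj hf E).w
  have h2 : (EtOver.bcπ hf E).left.appTop.hom.FinitePresentation :=
    (HasRingHomProperty.iff_of_isAffine (P := @LocallyOfFinitePresentation)).1 h1
  have h3 : bcRg hf E = ((ULift.ringEquiv.{u, u + 1}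
      (R := Γ(((EtOver.bc hf).obj E).obj.left.left, ⊤))).symm.toRingHom.comp
        (EtOver.bcπ hf E).left.appTop.hom).comp
      (ULift.ringEquiv.{u, u + 1} (R := Γ(E.obj.left.left, ⊤))).toRingHom := by
    apply RingHom.ext
    intro x
    rfl
  have h4 : (bcRg hf E).FinitePresentation := by
    rw [h3]
    apply RingHom.FinitePresentation.comp
    · apply RingHom.FinitePresentation.comp
      · exact RingHom.FinitePresentation.of_bijective (ULift.ringEquiv).symm.bijective
      · exact h2
    · exact RingHom.FinitePresentation.of_bijective (ULift.ringEquiv).bijective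
  have h5 := finite_bcRg hf hfin E
  letI alg : Algebra (Rg E) (Rg ((EtOver.bc hf).obj E)) := (bcRg hf E).toAlgebra
  haveI : Module.Finite (Rg E) (Rg ((EtOver.bc hf).obj E)) := h5
  haveI : Algebra.FinitePresentation (Rg E) (Rg ((EtOver.bc hf).obj E)) := h4
  exact Module.FinitePresentation.of_finite_of_finitePresentation (Rg E)
    (Rg ((EtOver.bc hf).obj E))

theorem fp_sec_push (hfin : IsFiniteMor f) (hlfp : LocP @LocallyOfFinitePresentation f)
    (M : ModEt X) (E : EtOver Y) [hE : IsAffine E.obj.left.left]
    (h : Module.FinitePresentation (Rg ((EtOver.bc hf).obj E)) (Sec M ((EtOver.bc hf).obj E))) :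
    Module.FinitePresentation (Rg E) (Sec ((pushModEt hf).obj M) E) := by
  have h1 := fp_bcRg hf hfin hlfp E
  letI alg : Algebra (Rg E) (Rg ((EtOver.bc hf).obj E)) := (bcRg hf E).toAlgebra
  haveI : Module.FinitePresentation (Rg E) (Rg ((EtOver.bc hf).obj E)) := h1
  letI : Module (Rg E) (Sec M ((EtOver.bc hf).obj E)) :=
    modAlong (bcRg hf E) (Sec M ((EtOver.bc hf).obj E))
  haveI : IsScalarTower (Rg E) (Rg ((EtOver.bc hf).obj E)) (Sec M ((EtOver.bc hf).obj E)) :=
    towerAlong (bcRg hf E) (Sec M ((EtOver.bc hf).obj E))
  exact Module.FinitePresentation.trans (Rg E) (Sec M ((EtOver.bc hf).obj E))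
    (Rg ((EtOver.bc hf).obj E))

theorem fp_of_fp_push (hfin : IsFiniteMor f) (M : ModEt X) (E : EtOver Y)
    [hE : IsAffine E.obj.left.left]
    (h : Module.FinitePresentation (Rg E) (Sec ((pushModEt hf).obj M) E)) :
    Module.FinitePresentation (Rg ((EtOver.bc hf).obj E)) (Sec M ((EtOver.bc hf).obj E)) := by
  have h5 := finite_bcRg hf hfin E
  letI alg : Algebra (Rg E) (Rg ((EtOver.bc hf).obj E)) := (bcRg hf E).toAlgebra
  haveI : Module.Finite (Rg E) (Rg ((EtOver.bc hf).obj E)) := h5
  letI : Module (Rg E) (Sec M ((EtOver.bc hf).obj E)) :=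
    modAlong (bcRg hf E) (Sec M ((EtOver.bc hf).obj E))
  haveI : IsScalarTower (Rg E) (Rg ((EtOver.bc hf).obj E)) (Sec M ((EtOver.bc hf).obj E)) :=
    towerAlong (bcRg hf E) (Sec M ((EtOver.bc hf).obj E))
  haveI : Module.FinitePresentation (Rg E) (Sec M ((EtOver.bc hf).obj E)) := h
  exact fp_of_restrictScalars_fp (Rg E) (Rg ((EtOver.bc hf).obj E))
    (Sec M ((EtOver.bc hf).obj E))

end Push

section Main

variable {S' : Scheme.{u}}

/-- **S10578** -/
theorem main10578 {X Y : AlgSp.Space S'} (f : X ⟶ Y) (hrep : AlgSp.Representable f.hom)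
    (hfin : AlgSp.IsFiniteMor f.hom) (hfp : AlgSp.IsFinitePresentationMor f.hom)
    (F : AlgSp.ModEt X.obj) [F.IsQuasicoherent] :
    F.IsFinitePresentation ↔ ((AlgSp.pushModEt hrep).obj F).IsFinitePresentation := by
  have haff := isAffineMor_of_isFiniteMor hfin
  have hbcF : HasBC F := hasBC_of_qc X.property F
  have hbcP : HasBC ((pushModEt hrep).obj F) := hasBC_push hrep haff F hbcF
  haveI hqcP : ((pushModEt hrep).obj F).IsQuasicoherent :=
    isQuasicoherent_of_hasBC _ hbcP
  constructor
  · intro hF
    apply isFinitePresentation_of_sections _ Y.property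
    intro E hE
    haveI := isAffine_bc hrep haff E
    exact fp_sec_push hrep hfin hfp.1 F E (fp_sec F X.property _)
  · intro hP
    apply isFinitePresentation_of_cover F X.property
      (fun i : {E : EtOver Y.obj // IsAffine E.obj.left.left} => (EtOver.bc hrep).obj i.1)
      (fun i => by
        haveI := i.2
        exact isAffine_bc hrep haff i.1)
      (coversTop_bc hrep Y.property)
    intro i
    haveI := i.2
    exact fp_of_fp_push hrep hfin F i.1 (fp_sec _ Y.property i.1)

end Main

end Groth.Agent.Lib.QCEtH7
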