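import Mathlib
import Groth.Agent.Lib.QCEt34_helper7
import Groth.Agent.Lib.EtStalkSupp_helper7
import Groth.Agent.Lib.AlgSpOpenSub_helper7

/-!
# Vanishing of a module of finite type near a geometric point (helper7): S10757
-/

set_option backward.isDefEq.respectTransparency false
set_option backward.isDefEq.respectTransparency.types false
set_option linter.style.haveILetI false
set_option linter.unusedSectionVars false
set_option linter.unusedVariables false
set_option autoImplicit false
set_option maxHeartbeats 1600000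
set_option maxSynthPendingDepth 3

universe u v

open CategoryTheory Limits Opposite AlgebraicGeometry AlgSp TensorProduct

namespace Groth.Agent.Lib.QCEtH7

open Groth.Agent.Lib.WeakAssEtH7 Groth.Agent.Lib.IdealEtBH7 Groth.Agent.Lib.EtPostcomp_helper7
  Groth.Agent.Lib.EtStalkPt_helper7 Groth.Agent.Lib.AlgSpPoints_helper7
  Groth.Agent.Lib.EtNbhd_helper7 Groth.Agent.Lib.EtStalkSupp_helper7

variable {S : Scheme.{u}} {X : Sp S}

theorem ofPt_etOver_map {E' E : EtOver X} (g : E' ⟶ E) (e' : E'.obj.left.left) :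
    Points.ofPt E'.obj.hom e' = Points.ofPt E.obj.hom (g.hom.left.left e') := by
  rw [← EtOver.w g, ofPt_comp]

section Vanish

variable (K : ModEt X)

/-- all germs of `K` at the point `p` vanish -/
def GermsVanish (p : FieldPt X) : Prop :=
  ∀ (E : EtOver X) (ū : (FieldPt.liftsTo p).obj E) (k : Sec K E),
    ∃ (V : EtOver X) (g : V ⟶ E) (y : (FieldPt.liftsTo p).obj V),
      (FieldPt.liftsTo p).map g y = ū ∧ resAdd K g k = 0

/-- a module with finite sections and base change, all of whose germs at a geometric point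
vanish, vanishes on an affine étale neighbourhood of the point -/
theorem exists_affine_nbhd_vanishing (hX : IsAlgSpace X) (hK : HasBC K)
    (hfin : ∀ (E : EtOver X) [IsAffine E.obj.left.left], Module.Finite (Rg E) (Sec K E))
    (p : FieldPt X) [IsSepClosed p.K] (hp : GermsVanish K p) :
    ∃ (W₀ : EtOver X), IsAffine W₀.obj.left.left ∧
      Points.mk p ∈ Set.range (Points.ofPt W₀.obj.hom) ∧ ∀ k : Sec K W₀, k = 0 := by
  classical
  obtain ⟨E₀, hE₀, u₀, hu₀⟩ := exists_affine_chart hX (Points.mk p)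
  haveI := hE₀
  obtain ⟨ū₀, -⟩ := exists_lift_of_ofPt_eq p E₀ u₀ hu₀
  obtain ⟨s0, hs0⟩ := (hfin E₀).fg_top
  -- a neighbourhood killing finitely many sections
  have hT : ∀ T : Finset (Sec K E₀), ∃ (V : EtOver X) (g : V ⟶ E₀)
      (y : (FieldPt.liftsTo p).obj V), (FieldPt.liftsTo p).map g y = ū₀ ∧
        ∀ k ∈ T, resAdd K g k = 0 := by
    intro T
    induction T using Finset.induction_on with
    | empty =>
      refine ⟨E₀, 𝟙 E₀, ū₀, ?_, ?_⟩
      · rw [(FieldPt.liftsTo p).map_id]
        rfl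
      · intro k hk
        exact absurd hk (Finset.notMem_empty k)
    | insert a T ha ih =>
      obtain ⟨V, g, y, hy, hT⟩ := ih
      obtain ⟨V', g', y', hy', ha'⟩ := hp V y (resAdd K g a)
      refine ⟨V', g' ≫ g, y', ?_, ?_⟩
      · rw [(FieldPt.liftsTo p).map_comp]
        show (FieldPt.liftsTo p).map g ((FieldPt.liftsTo p).map g' y') = ū₀
        rw [hy', hy]
      · intro k hk
        rw [resAdd_comp]
        rcases Finset.mem_insert.1 hk with rfl | hk
        · exact ha'
        · rw [hT k hk, map_zero]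
  obtain ⟨V, g, y, hy, hV⟩ := hT s0
  obtain ⟨W₀, ι, hW₀, w, hw⟩ := exists_affine_piece V
    (y.1.left (default : ↥(Spec (CommRingCat.of p.K))))
  refine ⟨W₀, hW₀, ⟨w, ?_⟩, ?_⟩
  · rw [ofPt_etOver_map ι w, hw]
    exact ofPt_lift p V y
  · have hspan : Submodule.span (Rg W₀) ((resAdd K (ι ≫ g)) '' (s0 : Set (Sec K E₀))) = ⊤ :=
      IsBCAlong.span_image_eq_top (resRing (ι ≫ g)) (hK W₀ E₀ hW₀ hE₀ (ι ≫ g)) _ hs0
    have hzero : (resAdd K (ι ≫ g)) '' (s0 : Set (Sec K E₀)) ⊆ {0} := by
      rintro _ ⟨k, hk, rfl⟩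
      rw [resAdd_comp, hV k hk, map_zero]
      rfl
    have hbot : Submodule.span (Rg W₀) ((resAdd K (ι ≫ g)) '' (s0 : Set (Sec K E₀))) = ⊥ := by
      rw [Submodule.span_eq_bot]
      intro x hx
      exact hzero hx
    intro k
    have hk : k ∈ (⊤ : Submodule (Rg W₀) (Sec K W₀)) := Submodule.mem_top
    rw [← hspan, hbot] at hk
    exact hk

/-- a module with base change vanishing on an affine object vanishes on every object whose image
lies in that of the affine object -/
theorem eq_zero_of_range_subset (hK : HasBC K) (W₀ : EtOver X) [hW₀ : IsAffine W₀.obj.left.left]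
    (h0 : ∀ k : Sec K W₀, k = 0) (E : EtOver X)
    (hE : Set.range (Points.ofPt E.obj.hom) ⊆ Set.range (Points.ofPt W₀.obj.hom))
    (k : Sec K E) : k = 0 := by
  -- sections over affine objects lying over `W₀` vanish
  have hWzero : ∀ (W : EtOver X) (hW : IsAffine W.obj.left.left) (b : W ⟶ W₀) (m : Sec K W),
      m = 0 := by
    intro W hW b
    have hspan : Submodule.span (Rg W) ((resAdd K b) '' Set.univ) = ⊤ :=
      IsBCAlong.span_image_eq_top (resRing b) (hK W W₀ hW hW₀ b) Set.univ Submodule.span_univ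
    have hbot : Submodule.span (Rg W) ((resAdd K b) '' Set.univ) = ⊥ := by
      rw [Submodule.span_eq_bot]
      rintro _ ⟨m, -, rfl⟩
      rw [h0 m, map_zero]
    intro m
    have hm : m ∈ (⊤ : Submodule (Rg W) (Sec K W)) := Submodule.mem_top
    rw [← hspan, hbot] at hm
    exact hm
  let T : Sieve E :=
    { arrows := fun V f => K.val.map f.op k = 0
      downward_closed := by
        intro V V' f hf g
        show K.val.map (g ≫ f).op k = 0
        rw [op_comp, PresheafOfModules.map_comp_apply, hf, map_zero] }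
  apply eq_zero_of_sieve K E k T
  · apply sieve_mem_of_forall_exists
    intro e
    obtain ⟨w₀, hw₀⟩ := hE ⟨e, rfl⟩
    obtain ⟨P, g, g', v, hv, hv'⟩ := exists_prod' E W₀ e w₀ hw₀.symm
    obtain ⟨W, ι, hW, w, hw⟩ := exists_affine_piece P v
    refine ⟨W, ι ≫ g, hWzero W hW (ι ≫ g') _, ⟨w, ?_⟩⟩
    rw [← hv, ← hw]
    rfl
  · intro V f hf
    exact hf

end Vanish

section Stalk

variable (hX : IsAlgSpace X) {G F : ModEt X} (φ : G ⟶ F) (p : FieldPt X) [IsSepClosed p.K]

/-- the germ of a section of a module at a lift of the point -/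
noncomputable def germ (G : ModEt X) (E : EtOver X) (ū : (FieldPt.liftsTo p).obj E)
    (m : Sec G E) : ↥((point hX p).presheafFiber.obj ((toAbEt X).obj G).obj) :=
  (point hX p).toPresheafFiber E ū ((toAbEt X).obj G).obj m

theorem germ_zero (G : ModEt X) (E : EtOver X) (ū : (FieldPt.liftsTo p).obj E) :
    germ hX p G E ū 0 = 0 :=
  map_zero ((point hX p).toPresheafFiber E ū ((toAbEt X).obj G).obj).hom

theorem germ_map (E : EtOver X) (ū : (FieldPt.liftsTo p).obj E) (m : Sec G E) :
    (point hX p).presheafFiber.map ((toAbEt X).map φ).hom (germ hX p G E ū m) =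
      germ hX p F E ū (secLin φ E m) :=
  (point hX p).toPresheafFiber_naturality_apply ((toAbEt X).map φ).hom E ū m

theorem germ_eq_zero_iff' (G : ModEt X) (E : EtOver X) (ū : (FieldPt.liftsTo p).obj E)
    (m : Sec G E) :
    germ hX p G E ū m = 0 ↔
      ∃ (V : EtOver X) (g : V ⟶ E) (y : (FieldPt.liftsTo p).obj V),
        (FieldPt.liftsTo p).map g y = ū ∧ resAdd G g m = 0 :=
  germ_eq_zero_iff hX p ((toAbEt X).obj G) E ū m

/-- germs of the kernel vanish when the stalk map is injective -/
theorem germsVanish_kernel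
    (hinj : Function.Injective ((point hX p).presheafFiber.map ((toAbEt X).map φ).hom)) :
    GermsVanish (kernel φ) p := by
  intro E ū k
  have h1 : secLin φ E (secLin (kernel.ι φ) E k) = 0 := by
    have hc := kernel.condition φ
    exact congrArg (fun ψ : kernel φ ⟶ F => (ψ.val.app (op E)).hom k) hc
  have h2 : germ hX p G E ū (secLin (kernel.ι φ) E k) = 0 := by
    apply hinj
    rw [germ_map, h1, germ_zero]
    exact (map_zero _).symm
  obtain ⟨V, g, y, hy, heq⟩ := (germ_eq_zero_iff' hX p G E ū _).1 h2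
  refine ⟨V, g, y, hy, ?_⟩
  apply app_injective_of_mono (kernel.ι φ) V
  have h3 := secLin_resAdd (kernel.ι φ) g k
  rw [heq] at h3
  rw [map_zero]
  exact h3

end Stalk

section Main

variable {S' : Scheme.{u}}

/-- **S10757** -/
theorem main10757 (X : AlgSp.Space S') (hX : AlgSp.IsLocNoethSp X.obj) {G F : AlgSp.ModEt X.obj}
    [G.IsFinitePresentation] [F.IsFinitePresentation] (φ : G ⟶ F) (xbar : AlgSp.FieldPt X.obj)
    (hx : xbar.IsGeometric)
    (hinj : Mono ((AlgSp.stalkEtFunctor AddCommGrpCat.{u + 1} xbar).map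
      ((AlgSp.toAbEt X.obj).map φ))) :
    ∃ (X' : AlgSp.Space S') (j : X' ⟶ X), AlgSp.RepWith @IsOpenImmersion j.hom ∧
      AlgSp.Points.mk xbar ∈ Set.range (AlgSp.Points.map j.hom) ∧
        ∀ E : AlgSp.EtOver X.obj,
          Set.range (AlgSp.Points.ofPt E.obj.hom) ⊆ Set.range (AlgSp.Points.map j.hom) →
          Mono (φ.val.app (op E)) := by
  have hAS : IsAlgSpace X.obj := X.property
  haveI : IsAlgClosed xbar.K := hx
  haveI hKfp : (kernel φ).IsFinitePresentation := (main10742 X hX φ).1
  have hKbc : HasBC (kernel φ) := hasBC_of_qc hAS _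
  have hinj' : Function.Injective
      ((point hAS xbar).presheafFiber.map ((toAbEt X.obj).map φ).hom) :=
    (AddCommGrpCat.mono_iff_injective _).1 hinj
  obtain ⟨W₀, hW₀, hmem, hzero⟩ := exists_affine_nbhd_vanishing (kernel φ) hAS hKbc
    (fun E _ => finite_sec (kernel φ) hAS E) xbar (germsVanish_kernel hAS φ xbar hinj')
  obtain ⟨X', j, hj, hrange⟩ := Groth.Agent.Lib.AlgSpOpenSub_helper7.exists_openSubspace X (Set.range (Points.ofPt W₀.obj.hom))
    (isOpenMap_ofPt_of_etale W₀.obj.hom W₀.property).isOpen_range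
  refine ⟨X', j, hj, hrange ▸ hmem, fun E hE => ?_⟩
  rw [ModuleCat.mono_iff_injective]
  intro a b hab
  have h1 : secLin φ E (a - b) = 0 := by
    rw [map_sub]
    exact sub_eq_zero.2 hab
  obtain ⟨k, hk⟩ := exists_kernel_lift φ (op E) (a - b) h1
  haveI := hW₀
  have hk0 := eq_zero_of_range_subset (kernel φ) hKbc W₀ hzero E (hrange ▸ hE) k
  rw [hk0, map_zero] at hk
  exact sub_eq_zero.1 hk.symm

end Main

end Groth.Agent.Lib.QCEtH7
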