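import Mathlib
import Groth.Agent.Lib.QCEt35_helper7

/-!
# Isomorphism of coherent modules near a geometric point (helper7): S10758
-/

set_option backward.isDefEq.respectTransparency false
set_option backward.isDefEq.respectTransparency.types false
set_option linter.style.haveILetI false
set_option linter.unusedSectionVars false
set_option linter.unusedVariables false
set_option autoImplicit false
set_option maxHeartbeats 1600000
set_option maxSynthPendingDepth 3

universe u v

open CategoryTheory Limits Opposite AlgebraicGeometry AlgSp TensorProduct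

namespace Groth.Agent.Lib.QCEtH7

open Groth.Agent.Lib.WeakAssEtH7 Groth.Agent.Lib.IdealEtBH7 Groth.Agent.Lib.EtPostcomp_helper7
  Groth.Agent.Lib.EtStalkPt_helper7 Groth.Agent.Lib.AlgSpPoints_helper7
  Groth.Agent.Lib.EtNbhd_helper7 Groth.Agent.Lib.EtStalkSupp_helper7

variable {S : Scheme.{u}} {X : Sp S}

section Stalk

variable (hX : IsAlgSpace X) {G F : ModEt X} (φ : G ⟶ F) (p : FieldPt X) [IsSepClosed p.K]

theorem germ_jointly_surjective (G : ModEt X)
    (γ : ↥((point hX p).presheafFiber.obj ((toAbEt X).obj G).obj)) :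
    ∃ (E : EtOver X) (ū : (FieldPt.liftsTo p).obj E) (m : Sec G E), germ hX p G E ū m = γ :=
  (point hX p).toPresheafFiber_jointly_surjective γ

/-- germs of the cokernel vanish when the stalk map is surjective -/
theorem germsVanish_cokernel
    (hsurj : Function.Surjective ((point hX p).presheafFiber.map ((toAbEt X).map φ).hom)) :
    GermsVanish (cokernel φ) p := by
  intro E ū c
  have hS := imSieve_mem_of_epi (cokernel.π φ) E c
  obtain ⟨Y, g, ⟨t, ht⟩, y, hy⟩ := (point hX p).jointly_surjective _ hS ū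
  obtain ⟨γ, hγ⟩ := hsurj (germ hX p F Y y t)
  obtain ⟨Z, z, m, hm⟩ := germ_jointly_surjective hX p G γ
  have h1 : (point hX p).presheafFiber.map ((toAbEt X).map (cokernel.π φ)).hom
      (germ hX p F Y y t) = 0 := by
    rw [← hγ, ← hm, germ_map hX φ p Z z m, germ_map hX (cokernel.π φ) p Z z _,
      secLin_cokernel_condition, germ_zero]
  rw [germ_map hX (cokernel.π φ) p Y y t] at h1
  obtain ⟨V, g', y', hy', heq⟩ := (germ_eq_zero_iff' hX p (cokernel φ) Y y _).1 h1
  refine ⟨V, g' ≫ g, y', ?_, ?_⟩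
  · rw [(FieldPt.liftsTo p).map_comp]
    show (FieldPt.liftsTo p).map g ((FieldPt.liftsTo p).map g' y') = ū
    rw [hy']
    exact hy
  · have h2 : resAdd (cokernel φ) g c = secLin (cokernel.π φ) Y t := ht.symm
    rw [resAdd_comp, h2]
    exact heq

end Stalk

section Bij

variable {G F : ModEt X} (φ : G ⟶ F)

theorem injective_of_kernel_zero (V : EtOver X) (hK : ∀ k : Sec (kernel φ) V, k = 0) :
    Function.Injective (secLin φ V) := by
  intro a b hab
  have h1 : secLin φ V (a - b) = 0 := by
    rw [map_sub]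
    exact sub_eq_zero.2 hab
  obtain ⟨k, hk⟩ := exists_kernel_lift φ (op V) (a - b) h1
  rw [hK k, map_zero] at hk
  exact sub_eq_zero.1 hk.symm

/-- a morphism whose kernel vanishes over everything above `E` and whose cokernel has no sections
over `E` is bijective on sections over `E` -/
theorem bijective_of_vanishing (hX : IsAlgSpace X) (E : EtOver X)
    (hK : ∀ (V : EtOver X) (g : V ⟶ E) (k : Sec (kernel φ) V), k = 0)
    (hC : ∀ c : Sec (cokernel φ) E, c = 0) : Function.Bijective (secLin φ E) := by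
  refine ⟨injective_of_kernel_zero φ E (hK E (𝟙 E)), ?_⟩
  intro f
  have h0 : secLin (cokernel.π φ) E f = 0 := hC _
  choose W ι m hW hpt hm using fun pt : E.obj.left.left => exists_local_preimage φ hX E f h0 pt
  have hcov : ∀ x : E.obj.left.left, ∃ k, x ∈ Set.range (ι k).hom.left.left :=
    fun x => ⟨x, hpt x⟩
  obtain ⟨n0, hn0⟩ := exists_glue G W ι hcov m (by
    intro k l
    apply injective_of_kernel_zero φ _ (hK _ (EtOver.pullbackFst (ι k) (ι l) ≫ ι k))
    rw [secLin_resAdd, secLin_resAdd, hm k, hm l, ← resAdd_comp, ← resAdd_comp,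
      EtOver.pullback_condition])
  refine ⟨n0, ?_⟩
  apply resAdd_injective_of_cover F W ι hcov
  intro k
  rw [← secLin_resAdd, hn0 k, hm k]

end Bij

section Main

variable {S' : Scheme.{u}}

/-- **S10758** -/
theorem main10758 (X : AlgSp.Space S') (hX : AlgSp.IsLocNoethSp X.obj) {G F : AlgSp.ModEt X.obj}
    [G.IsFinitePresentation] [F.IsFinitePresentation] (φ : G ⟶ F) (xbar : AlgSp.FieldPt X.obj)
    (hx : xbar.IsGeometric)
    (hbij : IsIso ((AlgSp.stalkEtFunctor AddCommGrpCat.{u + 1} xbar).map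
      ((AlgSp.toAbEt X.obj).map φ))) :
    ∃ (X' : AlgSp.Space S') (j : X' ⟶ X), AlgSp.RepWith @IsOpenImmersion j.hom ∧
      AlgSp.Points.mk xbar ∈ Set.range (AlgSp.Points.map j.hom) ∧
        ∀ E : AlgSp.EtOver X.obj,
          Set.range (AlgSp.Points.ofPt E.obj.hom) ⊆ Set.range (AlgSp.Points.map j.hom) →
          IsIso (φ.val.app (op E)) := by
  have hAS : IsAlgSpace X.obj := X.property
  haveI : IsAlgClosed xbar.K := hx
  haveI hKfp : (kernel φ).IsFinitePresentation := (main10742 X hX φ).1
  haveI hCfp : (cokernel φ).IsFinitePresentation := (main10742 X hX φ).2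
  have hKbc : HasBC (kernel φ) := hasBC_of_qc hAS _
  have hCbc : HasBC (cokernel φ) := hasBC_of_qc hAS _
  have hbij' : Function.Bijective
      ((point hAS xbar).presheafFiber.map ((toAbEt X.obj).map φ).hom) :=
    (ConcreteCategory.isIso_iff_bijective _).1 hbij
  obtain ⟨W₀, hW₀, hmem₀, hzero₀⟩ := exists_affine_nbhd_vanishing (kernel φ) hAS hKbc
    (fun E _ => finite_sec (kernel φ) hAS E) xbar (germsVanish_kernel hAS φ xbar hbij'.1)
  obtain ⟨W₁, hW₁, hmem₁, hzero₁⟩ := exists_affine_nbhd_vanishing (cokernel φ) hAS hCbc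
    (fun E _ => finite_sec (cokernel φ) hAS E) xbar (germsVanish_cokernel hAS φ xbar hbij'.2)
  obtain ⟨X', j, hj, hrange⟩ := Groth.Agent.Lib.AlgSpOpenSub_helper7.exists_openSubspace X
    (Set.range (Points.ofPt W₀.obj.hom) ∩ Set.range (Points.ofPt W₁.obj.hom))
    ((isOpenMap_ofPt_of_etale W₀.obj.hom W₀.property).isOpen_range.inter
      (isOpenMap_ofPt_of_etale W₁.obj.hom W₁.property).isOpen_range)
  refine ⟨X', j, hj, hrange ▸ ⟨hmem₀, hmem₁⟩, fun E hE => ?_⟩
  haveI := hW₀
  haveI := hW₁
  have hE' : Set.range (Points.ofPt E.obj.hom) ⊆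
      Set.range (Points.ofPt W₀.obj.hom) ∩ Set.range (Points.ofPt W₁.obj.hom) := hrange ▸ hE
  have hb : Function.Bijective (secLin φ E) := by
    apply bijective_of_vanishing φ hAS E
    · intro V g k
      apply eq_zero_of_range_subset (kernel φ) hKbc W₀ hzero₀ V _ k
      rintro _ ⟨v, rfl⟩
      rw [ofPt_etOver_map g v]
      exact (hE' ⟨_, rfl⟩).1
    · intro c
      exact eq_zero_of_range_subset (cokernel φ) hCbc W₁ hzero₁ E
        (fun q hq => (hE' hq).2) c
  exact (ConcreteCategory.isIso_iff_bijective (φ.val.app (op E))).2 hb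

end Main

end Groth.Agent.Lib.QCEtH7
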