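import Mathlib
import Groth.Agent.Lib.QCEt1_helper7

/-!
# Local sub-presheaves of a sheaf of modules are sheaves (helper7)

Generic site statement: a family of submodules `P(U) ⊆ N(U)` of a sheaf of modules `N`, stable
under restriction and *local* (a section lying in `P` locally lies in `P`) is a sheaf of modules.
-/

set_option backward.isDefEq.respectTransparency false
set_option backward.isDefEq.respectTransparency.types false
set_option linter.style.haveILetI false
set_option linter.unusedSectionVars false
set_option linter.unusedVariables false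
set_option autoImplicit false
set_option maxHeartbeats 1600000
set_option maxSynthPendingDepth 3

universe v

open CategoryTheory Limits Opposite

namespace Groth.Agent.Lib.QCEtH7

variable {C : Type (v + 1)} [Category.{v} C] {J : GrothendieckTopology C}
  {R : Sheaf J RingCat.{v + 1}}
  [HasSheafify J AddCommGrpCat.{v + 1}] [J.WEqualsLocallyBijective AddCommGrpCat.{v + 1}]

section LocalSub

variable (N : SheafOfModules.{v + 1} R) (P : PresheafOfModules.Submodule N.val)

/-- the sieve of those restrictions of `n` which lie in the sub-presheaf -/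
def memSieve (U : C) (n : N.val.obj (op U)) : Sieve U where
  arrows V f := N.val.map f.op n ∈ P.obj (op V)
  downward_closed := by
    intro V W f hf g
    show N.val.map (g ≫ f).op n ∈ P.obj (op W)
    rw [op_comp, PresheafOfModules.map_comp_apply]
    exact P.map_mem g.op hf

theorem memSieve_apply (U : C) (n : N.val.obj (op U)) {V : C} (f : V ⟶ U) :
    (memSieve N P U n).arrows f ↔ N.val.map f.op n ∈ P.obj (op V) := Iff.rfl

/-- the sub-presheaf is local for the topology -/
def IsLocalSub : Prop :=
  ∀ (U : C) (n : N.val.obj (op U)), memSieve N P U n ∈ J U → n ∈ P.obj (op U)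

/-- an element of the type-valued presheaf as an element of the submodule -/
def subOfP (V : Cᵒᵖ)
    (z : (P.toPresheafOfModules.presheaf ⋙ forget AddCommGrpCat.{v + 1}).obj V) :
    ↥(P.obj V) := z

variable {N P}

theorem localSub_isSheaf (h : IsLocalSub N P) :
    Presheaf.IsSheaf J P.toPresheafOfModules.presheaf := by
  apply Presheaf.isSheaf_of_isSheaf_comp J _ (forget AddCommGrpCat.{v + 1})
  rw [isSheaf_iff_isSheaf_of_type]
  intro U T hT x hx
  have hN := isSheaf_type_of_sheafOfModules N
  obtain ⟨y, hy⟩ : ∃ y : Presieve.FamilyOfElements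
      (N.val.presheaf ⋙ forget AddCommGrpCat.{v + 1}) T.arrows,
      y = fun V f hf => (subOfP N P (op V) (x f hf)).1 := ⟨_, rfl⟩
  have hyc : y.Compatible := by
    intro Y₁ Y₂ Z g₁ g₂ f₁ f₂ h₁ h₂ hcomm
    have h := hx g₁ g₂ h₁ h₂ hcomm
    rw [hy]
    exact congrArg Subtype.val h
  obtain ⟨n, hn, hnuniq⟩ := hN T hT y hyc
  have hmem : n ∈ P.obj (op U) := by
    apply h
    refine J.superset_covering ?_ hT
    intro V f hf
    show N.val.map f.op n ∈ P.obj (op V)
    have h1 : N.val.map f.op n = y f hf := hn f hf
    rw [h1, hy]
    exact (subOfP N P (op V) (x f hf)).2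
  refine ⟨⟨n, hmem⟩, ?_, ?_⟩
  · intro V f hf
    apply Subtype.ext
    have h1 : N.val.map f.op n = y f hf := hn f hf
    rw [hy] at h1
    exact h1
  · intro t ht
    apply Subtype.ext
    apply hnuniq
    intro V f hf
    have h1 := ht f hf
    rw [hy]
    exact congrArg Subtype.val h1

/-- the sheaf of modules defined by a local sub-presheaf -/
noncomputable def subSheaf (h : IsLocalSub N P) : SheafOfModules.{v + 1} R where
  val := P.toPresheafOfModules
  isSheaf := localSub_isSheaf h

/-- the inclusion -/
noncomputable def subSheafι (h : IsLocalSub N P) : subSheaf h ⟶ N := ⟨P.ι⟩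

instance mono_subSheafι (h : IsLocalSub N P) : Mono (subSheafι h) := by
  haveI : Mono ((SheafOfModules.forget R).map (subSheafι h)) := by
    show Mono P.ι
    infer_instance
  exact Functor.mono_of_mono_map (SheafOfModules.forget R) this

theorem subSheafι_app_apply (h : IsLocalSub N P) (U : Cᵒᵖ) (x : (subSheaf h).val.obj U) :
    ((subSheafι h).val.app U).hom x = (x : ↥(P.obj U)).1 := rfl

theorem range_subSheafι (h : IsLocalSub N P) (U : Cᵒᵖ) :
    Set.range ((subSheafι h).val.app U).hom = (P.obj U : Set (N.val.obj U)) := by
  ext n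
  constructor
  · rintro ⟨x, rfl⟩
    exact (x : ↥(P.obj U)).2
  · intro hn
    exact ⟨(⟨n, hn⟩ : ↥(P.obj U)), rfl⟩

end LocalSub

end Groth.Agent.Lib.QCEtH7
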