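import Mathlib
import Groth.Agent.Lib.QCEt36_helper7
import Groth.Agent.Lib.QCEt37_helper7

/-!
# The subsheaf of sections annihilated by a quasi-coherent ideal of finite type (helper7): S10083
-/

set_option backward.isDefEq.respectTransparency false
set_option backward.isDefEq.respectTransparency.types false
set_option linter.style.haveILetI false
set_option linter.unusedSectionVars false
set_option linter.unusedVariables false
set_option autoImplicit false
set_option maxHeartbeats 1600000
set_option maxSynthPendingDepth 3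

universe u v

open CategoryTheory Limits Opposite AlgebraicGeometry AlgSp TensorProduct

namespace Groth.Agent.Lib.QCEtH7

open Groth.Agent.Lib.WeakAssEtH7 Groth.Agent.Lib.IdealEtBH7 Groth.Agent.Lib.EtPostcomp_helper7
  Groth.Agent.Lib.EtStalkPt_helper7 Groth.Agent.Lib.AlgSpPoints_helper7

variable {S : Scheme.{u}} {X : Sp S}

theorem resAdd_id (M : ModEt X) (E : EtOver X) (n : Sec M E) : resAdd M (𝟙 E) n = n := by
  rw [resAdd_apply]
  have h : (𝟙 E : E ⟶ E).op = 𝟙 (op E) := rfl
  rw [h, M.val.map_id]
  rfl

/-- a function as an element of the lifted ring -/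
def upR (E : EtOver X) (a : Γ(E.obj.left.left, ⊤)) : Rg E := ULift.up a

theorem resRing_upR {E' E : EtOver X} (g : E' ⟶ E) (a : Γ(E.obj.left.left, ⊤)) :
    resRing g (upR E a) = upR E' (g.hom.left.left.appTop.hom a) := rfl

theorem upR_zero (E : EtOver X) : upR E 0 = 0 := rfl
theorem upR_add (E : EtOver X) (a b : Γ(E.obj.left.left, ⊤)) :
    upR E (a + b) = upR E a + upR E b := rfl
theorem upR_mul (E : EtOver X) (a b : Γ(E.obj.left.left, ⊤)) :
    upR E (a * b) = upR E a * upR E b := rfl

section Ann

variable (I : IdealEt X) (F : ModEt X)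

/-- the sections annihilated by the ideal on every affine object above -/
def annSet (U : EtOver X) : Set (Sec F U) :=
  {s | ∀ (V : EtOver X) (hV : IsAffine V.obj.left.left) (g : V ⟶ U)
      (a : Γ(V.obj.left.left, ⊤)), a ∈ I.ideal V hV → upR V a • resAdd F g s = 0}

theorem mem_annSet_iff (U : EtOver X) (s : Sec F U) :
    s ∈ annSet I F U ↔ ∀ (V : EtOver X) (hV : IsAffine V.obj.left.left) (g : V ⟶ U)
      (a : Γ(V.obj.left.left, ⊤)), a ∈ I.ideal V hV → upR V a • resAdd F g s = 0 := Iff.rfl

/-- the sub-presheaf of sections annihilated by the ideal -/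
noncomputable def annSub : PresheafOfModules.Submodule F.val where
  obj U :=
    { carrier := annSet I F U.unop
      zero_mem' := by
        intro V hV g a ha
        rw [map_zero, smul_zero]
      add_mem' := by
        intro s t hs ht V hV g a ha
        rw [map_add, smul_add, hs V hV g a ha, ht V hV g a ha, add_zero]
      smul_mem' := by
        intro c s hs V hV g a ha
        have h1 : resAdd F g (c • s) = resRing g c • resAdd F g s := resAdd_semi F g c s
        rw [h1, smul_comm, hs V hV g a ha, smul_zero] }
  map := by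
    intro U U' f s hs V hV g a ha
    have h1 : resAdd F g (F.val.map f s) = resAdd F (g ≫ f.unop) s := by
      rw [resAdd_comp]
      rfl
    have h2 := hs V hV (g ≫ f.unop) a ha
    rw [← h1] at h2
    exact h2

theorem mem_annSub_iff (U : EtOver X) (s : Sec F U) :
    s ∈ (annSub I F).obj (op U) ↔ ∀ (V : EtOver X) (hV : IsAffine V.obj.left.left) (g : V ⟶ U)
      (a : Γ(V.obj.left.left, ⊤)), a ∈ I.ideal V hV → upR V a • resAdd F g s = 0 := Iff.rfl

/-- the annihilated sections form a local sub-presheaf -/
theorem annSub_isLocal (hX : IsAlgSpace X) : IsLocalSub F (annSub I F) := by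
  intro U s hs
  rw [mem_annSub_iff]
  intro V hV g a ha
  let T : Sieve V :=
    { arrows := fun W f => F.val.map f.op (upR V a • resAdd F g s) = 0
      downward_closed := by
        intro W W' f hf h
        show F.val.map (h ≫ f).op (upR V a • resAdd F g s) = 0
        rw [op_comp, PresheafOfModules.map_comp_apply, hf, map_zero] }
  apply eq_zero_of_sieve F V _ T
  · apply sieve_mem_of_forall_exists
    intro x
    have hpb : (memSieve F (annSub I F) U s).pullback g ∈ etTop X V :=
      (etTop X).pullback_stable g hs
    obtain ⟨W, h, hh, w, hw⟩ := (mem_etTop_iff hX _).1 hpb x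
    obtain ⟨W', ι, hW', w', hw'⟩ := exists_affine_piece W w
    refine ⟨W', ι ≫ h, ?_, ⟨w', ?_⟩⟩
    · show resAdd F (ι ≫ h) (upR V a • resAdd F g s) = 0
      have h1 : resAdd F (ι ≫ h) (upR V a • resAdd F g s) =
          resRing (ι ≫ h) (upR V a) • resAdd F (ι ≫ h) (resAdd F g s) :=
        resAdd_semi F (ι ≫ h) _ _
      have h2 : resAdd F (ι ≫ h) (resAdd F g s) = resAdd F ι (resAdd F (h ≫ g) s) := by
        rw [← resAdd_comp, ← resAdd_comp, Category.assoc]
      have h3 : resAdd F (h ≫ g) s ∈ (annSub I F).obj (op W) := hh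
      have h4 : (ι ≫ h).hom.left.left.appTop.hom a ∈ I.ideal W' hW' :=
        I.map_le (ι ≫ h) hV hW' (Ideal.mem_map_of_mem _ ha)
      rw [h1, h2, resRing_upR]
      exact (mem_annSub_iff I F W _).1 h3 W' hW' ι _ h4
    · rw [← hw, ← hw']
      rfl
  · intro W f hf
    exact hf

/-- over an affine object the annihilated sections are those killed by the ideal there -/
theorem mem_annSub_affine_iff (hI : I.IsQCoh) (E : EtOver X) (hE : IsAffine E.obj.left.left)
    (s : Sec F E) :
    s ∈ (annSub I F).obj (op E) ↔ ∀ a ∈ I.ideal E hE, upR E a • s = 0 := by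
  rw [mem_annSub_iff]
  constructor
  · intro hs a ha
    have h := hs E hE (𝟙 E) a ha
    rw [resAdd_id] at h
    exact h
  · intro hs V hV g a ha
    have ha' : a ∈ (I.ideal E hE).map g.hom.left.left.appTop.hom := hI g hE hV ha
    rw [Ideal.map] at ha'
    clear ha
    induction ha' using Submodule.span_induction with
    | mem x hx =>
      obtain ⟨b, hb, rfl⟩ := hx
      have h1 : resAdd F g (upR E b • s) = resRing g (upR E b) • resAdd F g s :=
        resAdd_semi F g _ _
      rw [← resRing_upR, ← h1, hs b hb, map_zero]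
    | zero => rw [upR_zero, zero_smul]
    | add x y _ _ hx hy => rw [upR_add, add_smul, hx, hy, add_zero]
    | smul c x _ hx =>
      rw [smul_eq_mul, upR_mul, mul_smul, hx, smul_zero]

end Ann

section AnnSheaf

variable (I : IdealEt X) (F : ModEt X)

/-- multiplication by a family of functions -/
noncomputable def mulMap (E : EtOver X) {K : Type*} (a : K → Rg E) :
    Sec F E →ₗ[Rg E] (K → Sec F E) where
  toFun s k := a k • s
  map_add' s t := by
    funext k
    exact smul_add _ _ _
  map_smul' c s := by
    funext k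
    exact smul_comm _ _ _

theorem mulMap_apply (E : EtOver X) {K : Type*} (a : K → Rg E) (s : Sec F E) (k : K) :
    mulMap F E a s k = a k • s := rfl

variable (hX : IsAlgSpace X)

/-- the sheaf of sections annihilated by the ideal -/
noncomputable def annSheaf : ModEt X := subSheaf (annSub_isLocal I F hX)

/-- the inclusion -/
noncomputable def annι : annSheaf I F hX ⟶ F := subSheafι (annSub_isLocal I F hX)

instance mono_annι : Mono (annι I F hX) := mono_subSheafι _

theorem annι_mem (E : EtOver X) (n : Sec (annSheaf I F hX) E) :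
    secLin (annι I F hX) E n ∈ (annSub I F).obj (op E) := by
  have h := range_subSheafι (annSub_isLocal I F hX) (op E)
  have h1 : secLin (annι I F hX) E n ∈
      Set.range ((subSheafι (annSub_isLocal I F hX)).val.app (op E)).hom := ⟨n, rfl⟩
  rw [h] at h1
  exact h1

theorem exists_annι_eq (E : EtOver X) (s : Sec F E) (hs : s ∈ (annSub I F).obj (op E)) :
    ∃ n : Sec (annSheaf I F hX) E, secLin (annι I F hX) E n = s := by
  have h := range_subSheafι (annSub_isLocal I F hX) (op E)
  have h1 : s ∈ Set.range ((subSheafι (annSub_isLocal I F hX)).val.app (op E)).hom := by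
    rw [h]
    exact hs
  exact h1

theorem hasBC_ann (hI : I.IsQCoh)
    (hft : ∀ (E : EtOver X) (hE : IsAffine E.obj.left.left), (I.ideal E hE).FG)
    (hF : HasBC F) : HasBC (annSheaf I F hX) := by
  classical
  intro E' E hE' hE g
  haveI := hE'
  haveI := hE
  obtain ⟨t, ht⟩ := hft E hE
  obtain ⟨a, ha⟩ : ∃ a : ↥t → Rg E, a = fun k => upR E k.1 := ⟨_, rfl⟩
  obtain ⟨a', ha'⟩ : ∃ a' : ↥t → Rg E', a' = fun k => resRing g (a k) := ⟨_, rfl⟩
  refine IsBCAlong.of_exact (resRing g) (flat_resRing g)
    (secLin (annι I F hX) E) (mulMap F E a) (secLin (annι I F hX) E') (mulMap F E' a')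
    (app_injective_of_mono (annι I F hX) E) ?_ ?_ (app_injective_of_mono (annι I F hX) E') ?_
    (resAdd (annSheaf I F hX) g) (resAdd F g) (piAdd fun _ : ↥t => resAdd F g)
    (resAdd_semi (annSheaf I F hX) g) ?_ ?_
    (hF E' E hE' hE g) (IsBCAlong.pi (resRing g) _ fun _ => hF E' E hE' hE g)
  · intro n
    funext k
    rw [mulMap_apply, ha]
    have hk : k.1 ∈ I.ideal E hE := by
      rw [← ht]
      exact Ideal.subset_span k.2
    exact (mem_annSub_affine_iff I F hI E hE _).1 (annι_mem I F hX E n) k.1 hk
  · intro p hp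
    apply exists_annι_eq I F hX E p
    rw [mem_annSub_affine_iff I F hI E hE]
    intro b hb
    rw [← ht, Ideal.span] at hb
    induction hb using Submodule.span_induction with
    | mem x hx =>
      have h1 := congrFun hp ⟨x, hx⟩
      rw [mulMap_apply, ha] at h1
      exact h1
    | zero => rw [upR_zero, zero_smul]
    | add x y _ _ hx hy => rw [upR_add, add_smul, hx, hy, add_zero]
    | smul c x _ hx => rw [smul_eq_mul, upR_mul, mul_smul, hx, smul_zero]
  · intro n
    funext k
    rw [mulMap_apply, ha', ha]
    have hk : k.1 ∈ I.ideal E hE := by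
      rw [← ht]
      exact Ideal.subset_span k.2
    have hk' : g.hom.left.left.appTop.hom k.1 ∈ I.ideal E' hE' :=
      I.map_le g hE hE' (Ideal.mem_map_of_mem _ hk)
    exact (mem_annSub_affine_iff I F hI E' hE' _).1 (annι_mem I F hX E' n) _ hk'
  · intro n
    exact PresheafOfModules.naturality_apply (annι I F hX).val g.op n
  · intro p
    funext k
    rw [mulMap_apply, piAdd_apply, mulMap_apply, ha']
    exact (resAdd_semi F g (a k) p).symm

/-- the module of sections annihilated by a quasi-coherent ideal of finite type is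
quasi-coherent -/
theorem isQuasicoherent_ann (hI : I.IsQCoh)
    (hft : ∀ (E : EtOver X) (hE : IsAffine E.obj.left.left), (I.ideal E hE).FG)
    [F.IsQuasicoherent] : (annSheaf I F hX).IsQuasicoherent :=
  isQuasicoherent_of_hasBC _ (hasBC_ann I F hX hI hft (hasBC_of_qc hX F))

end AnnSheaf

section Main

variable {S' : Scheme.{u}}

/-- **S10083** -/
theorem main10083 (X : AlgSp.Space S') (I : AlgSp.IdealEt X.obj) (hI : I.IsQCoh)
    (hft : ∀ (E : AlgSp.EtOver X.obj) (hE : IsAffine E.obj.left.left), (I.ideal E hE).FG)
    (F : AlgSp.ModEt X.obj) [F.IsQuasicoherent] :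
    ∃ (F' : AlgSp.ModEt X.obj) (ι : F' ⟶ F), Mono ι ∧ F'.IsQuasicoherent ∧
      ∀ (E : AlgSp.EtOver X.obj) (hE : IsAffine E.obj.left.left),
        Set.range (ι.val.app (op E)).hom =
          {s : AlgSp.sectModEt F E | ∀ a ∈ I.ideal E hE, (AlgSp.upΓ E a) • s = 0} := by
  refine ⟨annSheaf I F X.property, annι I F X.property, inferInstance,
    isQuasicoherent_ann I F X.property hI hft, fun E hE => ?_⟩
  have h := range_subSheafι (annSub_isLocal I F X.property) (op E)
  refine h.trans ?_
  ext s
  exact mem_annSub_affine_iff I F hI E hE s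

end Main

end Groth.Agent.Lib.QCEtH7
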