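import Mathlib
import Groth.Agent.Lib.EtRestr1_helper7
import Groth.Agent.Lib.QCEt11_helper7
import Groth.Agent.Lib.QCEt38_helper7

/-!
# Base change of sections is local on the small étale site (helper7)

* `IsBCAlong.of_bijective`, `IsBCAlong.comp`: bijective semilinear maps and composites.
* `bc_of_iso`, `bc_comp`, `bc_of_iso_sq`: invariance of `BC M g` under isomorphisms.
* `bc_of_cover_local`: `BC M gm` from `BC` for all morphisms of affines over members of a cover.
-/

set_option backward.isDefEq.respectTransparency false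
set_option backward.isDefEq.respectTransparency.types false
set_option linter.style.haveILetI false
set_option linter.unusedSectionVars false
set_option linter.unusedVariables false
set_option autoImplicit false
set_option maxHeartbeats 1600000
set_option maxSynthPendingDepth 3

universe u

open CategoryTheory Limits Opposite AlgebraicGeometry AlgSp TensorProduct

namespace Groth.Agent.Lib.QCEtH7

section Abstract

variable {A B C : Type*} [CommRing A] [CommRing B] [CommRing C]

/-- a bijective semilinear map over a bijective ring homomorphism is a base change -/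
theorem IsBCAlong.of_bijective (φ : A →+* B) (hφ : Function.Bijective φ)
    {N N' : Type*} [AddCommGroup N] [Module A N] [AddCommGroup N'] [Module B N']
    (ρ : N →+ N') (hs : IsSemi φ ρ) (hρ : Function.Bijective ρ) : IsBCAlong φ ρ := by
  refine ⟨hs, ?_⟩
  letI aAB : Algebra A B := φ.toAlgebra
  letI mAN' : Module A N' := modAlong φ N'
  haveI tw : IsScalarTower A B N' := towerAlong φ N'
  obtain ⟨σ, hσ1, hσ2⟩ : ∃ σ : N' → N, (∀ n, σ (ρ n) = n) ∧ (∀ n', ρ (σ n') = n') := by
    obtain ⟨σ, hσ⟩ := hρ.2.hasRightInverse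
    exact ⟨σ, fun n => hρ.1 (hσ (ρ n)), hσ⟩
  have hσadd : ∀ x y, σ (x + y) = σ x + σ y := by
    intro x y
    apply hρ.1
    rw [map_add, hσ2, hσ2, hσ2]
  have hσsmul : ∀ (a : A) (x : N'), σ (φ a • x) = a • σ x := by
    intro a x
    apply hρ.1
    rw [hs, hσ2, hσ2]
  apply IsBaseChange.of_lift_unique
  intro Q _ _ _ _ g
  refine ⟨{ toFun := fun n' => g (σ n'), map_add' := ?_, map_smul' := ?_ }, ?_, ?_⟩
  · intro x y
    show g (σ (x + y)) = g (σ x) + g (σ y)
    rw [hσadd, map_add]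
  · intro b x
    obtain ⟨a, rfl⟩ := hφ.2 b
    show g (σ (φ a • x)) = (RingHom.id B) (φ a) • g (σ x)
    rw [hσsmul, map_smul]
    exact (algebraMap_smul B a (g (σ x))).symm
  · apply LinearMap.ext
    intro n
    show g (σ (ρ n)) = g n
    rw [hσ1]
  · intro g' hg'
    apply LinearMap.ext
    intro n'
    show g' n' = g (σ n')
    rw [← hg']
    show g' n' = g' (ρ (σ n'))
    rw [hσ2]

/-- composite of base changes -/
theorem IsBCAlong.comp (φ : A →+* B) (ψ : B →+* C)
    {N N' N'' : Type*} [AddCommGroup N] [Module A N] [AddCommGroup N'] [Module B N']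
    [AddCommGroup N''] [Module C N''] (ρ : N →+ N') (σ : N' →+ N'')
    (h1 : IsBCAlong φ ρ) (h2 : IsBCAlong ψ σ) : IsBCAlong (ψ.comp φ) (σ.comp ρ) := by
  obtain ⟨hs1, hb1⟩ := h1
  obtain ⟨hs2, hb2⟩ := h2
  have hs : IsSemi (ψ.comp φ) (σ.comp ρ) := by
    intro a n
    show σ (ρ (a • n)) = ψ (φ a) • σ (ρ n)
    rw [hs1, hs2]
  refine ⟨hs, ?_⟩
  letI aAB : Algebra A B := φ.toAlgebra
  letI aBC : Algebra B C := ψ.toAlgebra
  letI aAC : Algebra A C := (ψ.comp φ).toAlgebra
  haveI t0 : IsScalarTower A B C := IsScalarTower.of_algebraMap_eq (fun x => rfl)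
  letI mAN' : Module A N' := modAlong φ N'
  haveI t1 : IsScalarTower A B N' := towerAlong φ N'
  letI mBN'' : Module B N'' := modAlong ψ N''
  haveI t2 : IsScalarTower B C N'' := towerAlong ψ N''
  letI mAN'' : Module A N'' := modAlong (ψ.comp φ) N''
  haveI t3 : IsScalarTower A C N'' := towerAlong (ψ.comp φ) N''
  haveI t4 : IsScalarTower A B N'' := ⟨fun a b n => by
    show ψ (φ a * b) • n = (ψ.comp φ) a • (ψ b • n)
    rw [map_mul, mul_smul]
    rfl⟩
  have h := IsBaseChange.comp (R := A) (S := B) (T := C) (f := linAlong φ ρ hs1) hb1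
    (g := linAlong ψ σ hs2) hb2
  exact h

end Abstract

open Groth.Agent.Lib.WeakAssEtH7 Groth.Agent.Lib.IdealEtBH7 Groth.Agent.Lib.EtPostcomp_helper7
  Groth.Agent.Lib.EtStalkPt_helper7

variable {S : Scheme.{u}} {X : Sp S}

theorem resRing_bijective_of_isIso {E' E : EtOver X} (e : E' ⟶ E) [IsIso e] :
    Function.Bijective (resRing e) := by
  refine ⟨Function.LeftInverse.injective (g := resRing (inv e)) ?_,
    Function.RightInverse.surjective (g := resRing (inv e)) ?_⟩
  · intro x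
    rw [← resRing_comp_apply, IsIso.inv_hom_id, resRing_id]
  · intro x
    rw [← resRing_comp_apply, IsIso.hom_inv_id, resRing_id]

variable (M : ModEt X)

theorem resAdd_bijective_of_isIso {E' E : EtOver X} (e : E' ⟶ E) [IsIso e] :
    Function.Bijective (resAdd M e) := by
  refine ⟨Function.LeftInverse.injective (g := resAdd M (inv e)) ?_,
    Function.RightInverse.surjective (g := resAdd M (inv e)) ?_⟩
  · intro x
    rw [← resAdd_comp, IsIso.inv_hom_id, resAdd_id]
  · intro x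
    rw [← resAdd_comp, IsIso.hom_inv_id, resAdd_id]

theorem bc_of_isIso {E' E : EtOver X} (e : E' ⟶ E) [IsIso e] : BC M e :=
  IsBCAlong.of_bijective _ (resRing_bijective_of_isIso e) _ (resAdd_semi M e)
    (resAdd_bijective_of_isIso M e)

theorem bc_comp {E'' E' E : EtOver X} (g : E'' ⟶ E') (h : E' ⟶ E) (hg : BC M g) (hh : BC M h) :
    BC M (g ≫ h) := by
  have h1 := IsBCAlong.comp (resRing h) (resRing g) (resAdd M h) (resAdd M g) hh hg
  have h2 : resAdd M (g ≫ h) = (resAdd M g).comp (resAdd M h) := by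
    apply AddMonoidHom.ext
    intro n
    exact resAdd_comp M g h n
  unfold BC
  rw [resRing_comp, h2]
  exact h1

theorem bc_of_iso_sq {T₁ T'₁ T T' : EtOver X} (t₁ : T'₁ ⟶ T₁) (t : T' ⟶ T) (e : T₁ ⟶ T)
    (e' : T'₁ ⟶ T') [IsIso e] [IsIso e'] (hsq : t₁ ≫ e = e' ≫ t) (h : BC M t₁) : BC M t := by
  have h1 : t = inv e' ≫ t₁ ≫ e := by rw [hsq, IsIso.inv_hom_id_assoc]
  rw [h1]
  exact bc_comp M _ _ (bc_of_isIso M (inv e')) (bc_comp M _ _ h (bc_of_isIso M e))

/-- base change from a fibre product, from `BC` of the second projection -/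
theorem bc_pullback_snd' {E W T : EtOver X} [IsAffine E.obj.left.left] [IsAffine W.obj.left.left]
    [IsAffine T.obj.left.left] (g₁ : W ⟶ E) (g₂ : T ⟶ E)
    (hbc : BC M (EtOver.pullbackSnd g₁ g₂)) :
    @IsBCAlong (Rg E) (Rg W) _ _ (resRing g₁) (Sec M T) (Sec M (EtOver.pullbackObj g₁ g₂)) _
      (modAlong (resRing g₂) (Sec M T)) _
      (modAlong (resRing (EtOver.pullbackFst g₁ g₂)) (Sec M (EtOver.pullbackObj g₁ g₂)))
      (resAdd M (EtOver.pullbackSnd g₁ g₂)) := by
  haveI : IsAffine (EtOver.pullbackObj g₁ g₂).obj.left.left := isAffine_pullbackObj g₁ g₂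
  exact IsBCAlong.pushout (isPO_pullback g₁ g₂) (resAdd M (EtOver.pullbackSnd g₁ g₂)) hbc

/-- **`BC` is local**: base change along `gm : E' ⟶ E` of affine objects, given a finite affine
covering family of `E` such that `BC` holds for all morphisms of affine objects lying over a
member of the family -/
theorem bc_of_cover_local {E E' : EtOver X} [IsAffine E.obj.left.left]
    [IsAffine E'.obj.left.left] (gm : E' ⟶ E)
    {K : Type} [Fintype K] [DecidableEq K] (W : K → EtOver X)
    [hWaff : ∀ k, IsAffine (W k).obj.left.left] (g : ∀ k, W k ⟶ E)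
    (hcov : ∀ x : E.obj.left.left, ∃ k, x ∈ Set.range (g k).hom.left.left)
    (hloc : ∀ (k : K) (T T' : EtOver X), IsAffine T.obj.left.left → IsAffine T'.obj.left.left →
      ∀ (t : T' ⟶ T) (a : T ⟶ W k), BC M t) :
    BC M gm := by
  -- the overlaps
  obtain ⟨Wl, f1, f2, hl, hf1, hf2, hWlaff, hglue⟩ : ∃ (Wl : K × K → EtOver X)
      (f1 : ∀ l, Wl l ⟶ W l.1) (f2 : ∀ l, Wl l ⟶ W l.2) (hl : ∀ l, Wl l ⟶ E),
      (∀ l, f1 l ≫ g l.1 = hl l) ∧ (∀ l, f2 l ≫ g l.2 = hl l) ∧
      (∀ l, IsAffine (Wl l).obj.left.left) ∧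
      (∀ p : ∀ k, Sec M (W k),
        (∀ l : K × K, resAdd M (f1 l) (p l.1) = resAdd M (f2 l) (p l.2)) →
          ∃ n, ∀ k, resAdd M (g k) n = p k) :=
    ⟨fun l => EtOver.pullbackObj (g l.1) (g l.2), fun l => EtOver.pullbackFst (g l.1) (g l.2),
      fun l => EtOver.pullbackSnd (g l.1) (g l.2),
      fun l => EtOver.pullbackFst (g l.1) (g l.2) ≫ g l.1, fun l => rfl,
      fun l => (EtOver.pullback_condition (g l.1) (g l.2)).symm,
      fun l => isAffine_pullbackObj (g l.1) (g l.2),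
      fun p hp => exists_glue M W g hcov p (fun k l => hp (k, l))⟩
  -- the base changes to `E'`
  obtain ⟨V, p1, p2, hp, hVaff, hVlim, hVcov, hbk⟩ : ∃ (V : K → EtOver X) (p1 : ∀ k, V k ⟶ E')
      (p2 : ∀ k, V k ⟶ W k), (∀ k, p1 k ≫ gm = p2 k ≫ g k) ∧
      (∀ k, IsAffine (V k).obj.left.left) ∧
      (∀ (k : K) (Z : EtOver X) (z1 : Z ⟶ E') (z2 : Z ⟶ W k), z1 ≫ gm = z2 ≫ g k →
        ∃ z : Z ⟶ V k, z ≫ p1 k = z1 ∧ z ≫ p2 k = z2) ∧
      (∀ w : E'.obj.left.left, ∃ k, w ∈ Set.range (p1 k).hom.left.left) ∧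
      (∀ k, @IsBCAlong (Rg E) (Rg E') _ _ (resRing gm) (Sec M (W k)) (Sec M (V k)) _
        (modAlong (resRing (g k)) (Sec M (W k))) _ (modAlong (resRing (p1 k)) (Sec M (V k)))
        (resAdd M (p2 k))) :=
    ⟨fun k => EtOver.pullbackObj gm (g k), fun k => EtOver.pullbackFst gm (g k),
      fun k => EtOver.pullbackSnd gm (g k), fun k => EtOver.pullback_condition gm (g k),
      fun k => isAffine_pullbackObj gm (g k),
      fun k Z z1 z2 hz => ⟨(EtOver.pullbackIsLimit gm (g k)).lift (PullbackCone.mk z1 z2 hz),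
        (EtOver.pullbackIsLimit gm (g k)).fac _ WalkingCospan.left,
        (EtOver.pullbackIsLimit gm (g k)).fac _ WalkingCospan.right⟩,
      fun w => cover_pullback gm W g hcov w,
      fun k => bc_pullback_snd' M gm (g k)
        (hloc k _ _ (hWaff k) (isAffine_pullbackObj gm (g k)) (EtOver.pullbackSnd gm (g k))
          (𝟙 _))⟩
  haveI := hWlaff
  obtain ⟨Vl, q1, q2, hq, hbl⟩ : ∃ (Vl : K × K → EtOver X) (q1 : ∀ l, Vl l ⟶ E')
      (q2 : ∀ l, Vl l ⟶ Wl l), (∀ l, q1 l ≫ gm = q2 l ≫ hl l) ∧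
      (∀ l, @IsBCAlong (Rg E) (Rg E') _ _ (resRing gm) (Sec M (Wl l)) (Sec M (Vl l)) _
        (modAlong (resRing (hl l)) (Sec M (Wl l))) _ (modAlong (resRing (q1 l)) (Sec M (Vl l)))
        (resAdd M (q2 l))) :=
    ⟨fun l => EtOver.pullbackObj gm (hl l), fun l => EtOver.pullbackFst gm (hl l),
      fun l => EtOver.pullbackSnd gm (hl l), fun l => EtOver.pullback_condition gm (hl l),
      fun l => bc_pullback_snd' M gm (hl l)
        (hloc l.1 _ _ (hWlaff l) (isAffine_pullbackObj gm (hl l))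
          (EtOver.pullbackSnd gm (hl l)) (f1 l))⟩
  have hα : ∀ l : K × K, ∃ z : Vl l ⟶ V l.1, z ≫ p1 l.1 = q1 l ∧ z ≫ p2 l.1 = q2 l ≫ f1 l := by
    intro l
    apply hVlim
    rw [hq l, ← hf1 l, Category.assoc]
  have hβ : ∀ l : K × K, ∃ z : Vl l ⟶ V l.2, z ≫ p1 l.2 = q1 l ∧ z ≫ p2 l.2 = q2 l ≫ f2 l := by
    intro l
    apply hVlim
    rw [hq l, ← hf2 l, Category.assoc]
  choose α hα1 hα2 using hα
  choose β hβ1 hβ2 using hβ
  exact bc_of_cover_data M gm W g Wl f1 f2 hl hf1 hf2 V p1 p2 hp Vl q1 q2 α β hα1 hα2 hβ1 hβ2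
    (resAdd_injective_of_cover M W g hcov) hglue
    (resAdd_injective_of_cover M V p1 hVcov) hbk hbl

/-- `HasBC` is local: it suffices to have `BC` for the morphisms of affine objects lying over
objects `Y i` through which every point of every object factors locally -/
theorem hasBC_of_local (hX : IsAlgSpace X) {I : Type*} (Y : I → EtOver X)
    (hcov : ∀ (E : EtOver X) (x : E.obj.left.left), ∃ (i : I) (E'' : EtOver X) (h : E'' ⟶ E)
      (c : E'' ⟶ Y i), x ∈ Set.range h.hom.left.left)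
    (hloc : ∀ (i : I) (T T' : EtOver X), IsAffine T.obj.left.left → IsAffine T'.obj.left.left →
      ∀ (t : T' ⟶ T) (a : T ⟶ Y i), BC M t) : HasBC M := by
  intro E' E hE' hE gm
  haveI := hE
  haveI := hE'
  have hT : Sieve.ofObjects Y E ∈ etTop X E := by
    apply sieve_mem_of_forall_exists
    intro x
    obtain ⟨i, E'', h, c, hx⟩ := hcov E x
    exact ⟨E'', h, (Sieve.mem_ofObjects_iff _ _).2 ⟨i, ⟨c⟩⟩, hx⟩
  obtain ⟨n, W, gk, hW, hTk, hcovW⟩ := exists_finite_affine_refinement hX (Sieve.ofObjects Y E) hT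
  have h1 : ∀ k, ∃ i, Nonempty (W k ⟶ Y i) := fun k => (Sieve.mem_ofObjects_iff _ _).1 (hTk k)
  choose i hi using h1
  haveI := hW
  exact bc_of_cover_local M gm W gk hcovW
    (fun k T T' hT hT' t a => hloc (i k) T T' hT hT' t (a ≫ (hi k).some))

end Groth.Agent.Lib.QCEtH7
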