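import Mathlib
import Groth.Agent.Lib.EtRestr2_helper7
import Groth.Agent.Lib.QCEt13_helper7

/-!
# Quasi-coherence descends along a surjective étale chart (helper7)
-/

set_option backward.isDefEq.respectTransparency false
set_option backward.isDefEq.respectTransparency.types false
set_option linter.style.haveILetI false
set_option linter.unusedSectionVars false
set_option linter.unusedVariables false
set_option autoImplicit false
set_option maxHeartbeats 1600000
set_option maxSynthPendingDepth 3

universe u

open CategoryTheory Limits Opposite AlgebraicGeometry AlgSp TensorProduct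

namespace Groth.Agent.Lib.EtRestrH7

open Groth.Agent.Lib.EtPostcomp_helper7 Groth.Agent.Lib.QCEtH7
  Groth.Agent.Lib.AlgSpPoints_helper7

variable {S : Scheme.{u}} {X : Sp S} {U : Over S} (p : (yon S).obj U ⟶ X)
  (hp : RepWith @Etale p)

/-- an object of the small étale site of `X` lying over the chart `U`, as an object of the small
étale site of `h_U` -/
noncomputable def liftObj (T : EtOver X) (c : T ⟶ EtOver.mk p hp) : EtOver ((yon S).obj U) :=
  EtOver.mk ((yon S).map c.hom.left) ((repWith_yon_map_iff _ _).2 (EtOver.etale_left c))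

noncomputable def liftMap {T T' : EtOver X} (t : T' ⟶ T) (c : T ⟶ EtOver.mk p hp) :
    liftObj p hp T' (t ≫ c) ⟶ liftObj p hp T c :=
  EtOver.homMk t.hom.left (by
    show (yon S).map t.hom.left ≫ (yon S).map c.hom.left = (yon S).map (t ≫ c).hom.left
    rw [← Functor.map_comp]
    rfl)

variable (hpe : IsEtaleMor p)

noncomputable def postcompLiftHom (T : EtOver X) (c : T ⟶ EtOver.mk p hp) :
    (EtOver.postcomp p hpe).obj (liftObj p hp T c) ⟶ T :=
  EtOver.homMk (𝟙 _) (by
    show (yon S).map (𝟙 _) ≫ T.obj.hom = (yon S).map c.hom.left ≫ p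
    rw [CategoryTheory.Functor.map_id, Category.id_comp]
    exact (EtOver.w c).symm)

noncomputable def postcompLiftInv (T : EtOver X) (c : T ⟶ EtOver.mk p hp) :
    T ⟶ (EtOver.postcomp p hpe).obj (liftObj p hp T c) :=
  EtOver.homMk (𝟙 _) (by
    show (yon S).map (𝟙 _) ≫ ((yon S).map c.hom.left ≫ p) = T.obj.hom
    rw [CategoryTheory.Functor.map_id, Category.id_comp]
    exact EtOver.w c)

instance isIso_postcompLiftHom (T : EtOver X) (c : T ⟶ EtOver.mk p hp) :
    IsIso (postcompLiftHom p hp hpe T c) :=
  ⟨postcompLiftInv p hp hpe T c, EtOver.hom_ext _ _ (Category.id_comp _),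
    EtOver.hom_ext _ _ (Category.id_comp _)⟩

include hp in
/-- **quasi-coherence descends along a surjective étale chart** -/
theorem isQuasicoherent_of_pull_surj (hX : IsAlgSpace X) (hrep : Representable p)
    (hs : RepWith @Surjective p)
    [(SheafOfModules.pushforward.{u + 1} (bcRingHom hrep)).IsRightAdjoint]
    (F : ModEt X) (hF : ((pullModEt hrep).obj F).IsQuasicoherent) : F.IsQuasicoherent := by
  have hpe : IsEtaleMor p := isEtaleMor_of_repWith p hp
  have hG : ((restrModEt p hpe).obj F).IsQuasicoherent :=
    (SheafOfModules.isQuasicoherent (OEtRing ((yon S).obj U))).prop_of_iso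
      ((pullIsoRestr p hrep hpe).app F) hF
  haveI := hG
  have hbcG : HasBC ((restrModEt p hpe).obj F) := hasBC_of_qc (IsAlgSpace.yon_obj U) _
  apply isQuasicoherent_of_hasBC
  apply hasBC_of_local F hX (fun _ : Unit => EtOver.mk p hp)
  · intro E x
    obtain ⟨u, hu⟩ := ofPt_surjective p hs (Points.ofPt E.obj.hom x)
    obtain ⟨P, g, g', v, hv1, hv2⟩ := exists_prod' E (EtOver.mk p hp) x u hu.symm
    exact ⟨(), P, g, g', v, hv1⟩
  · intro _ T T' hT hT' t a
    have h : BC F ((EtOver.postcomp p hpe).map (liftMap p hp t a)) :=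
      hbcG (liftObj p hp T' (t ≫ a)) (liftObj p hp T a) hT' hT (liftMap p hp t a)
    exact bc_of_iso_sq F ((EtOver.postcomp p hpe).map (liftMap p hp t a)) t
      (postcompLiftHom p hp hpe T a) (postcompLiftHom p hp hpe T' (t ≫ a))
      (EtOver.hom_ext _ _ ((Category.comp_id _).trans (Category.id_comp _).symm)) h

end Groth.Agent.Lib.EtRestrH7
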