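import Mathlib
import Groth.Prelude.Def_EtBase
import Groth.Agent.Lib.EtSchSite_helper7

/-!
# Subsheaves of the final object of the small étale topos of a scheme are opens (helper7)
-/

set_option autoImplicit false
set_option backward.isDefEq.respectTransparency false
universe u v
open CategoryTheory CategoryTheory.Limits AlgebraicGeometry Opposite

namespace Groth.Agent.Lib.EtSchSubTerm_helper7

open Groth.Agent.Lib.EtSchSite_helper7

variable {S : Scheme.{u}}

theorem nonempty_hom_iff (U : S.Etale) (W : S.Opens) :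
    Nonempty (U ⟶ Scheme.Etale.mk W.ι) ↔ Set.range U.hom ⊆ (W : Set S) := by
  constructor
  · rintro ⟨g⟩ _ ⟨x, rfl⟩
    have h : g.left ≫ W.ι = U.hom := MorphismProperty.Over.w g
    have h1 : U.hom x = W.ι (g.left x) :=
      (congrArg (fun (m : U.left ⟶ S) => m x) h).symm
    rw [h1]
    exact (g.left x).2
  · intro h
    have hr : Set.range U.hom ⊆ Set.range W.ι := by rwa [Scheme.Opens.range_ι]
    exact ⟨MorphismProperty.Over.homMk (IsOpenImmersion.lift W.ι U.hom hr)
      (IsOpenImmersion.lift_fac _ _ _) trivial⟩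

theorem subsingleton_hom (U : S.Etale) (W : S.Opens) :
    Subsingleton (U ⟶ Scheme.Etale.mk W.ι) := by
  refine ⟨fun g g' => ?_⟩
  apply MorphismProperty.Over.Hom.ext
  have h : g.left ≫ W.ι = U.hom := MorphismProperty.Over.w g
  have h' : g'.left ≫ W.ι = U.hom := MorphismProperty.Over.w g'
  exact (cancel_mono W.ι).1 (h.trans h'.symm)

theorem range_mk_ι (W : S.Opens) : Set.range (Scheme.Etale.mk W.ι).hom = (W : Set S) :=
  Scheme.Opens.range_ι W

noncomputable def toTop (U : S.Etale) : U ⟶ EtCoh.top S :=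
  MorphismProperty.Over.homMk U.hom (Category.comp_id _) trivial

theorem existsUnique_open (F : Sheaf S.smallEtaleTopology (Type u))
    (hF : ∀ U : S.Etale, Subsingleton (F.obj.obj (op U))) :
    ∃! W : S.Opens, Nonempty (F.obj ≅ yoneda.obj (Scheme.Etale.mk W.ι)) := by
  let Wset : Set S := {x | ∃ U : S.Etale, Nonempty (F.obj.obj (op U)) ∧ x ∈ Set.range U.hom}
  have hW : IsOpen Wset := by
    rw [isOpen_iff_forall_mem_open]
    rintro x ⟨U, hU, hx⟩
    exact ⟨Set.range U.hom, fun y hy => ⟨U, hU, hy⟩, U.hom.isOpenMap.isOpen_range, hx⟩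
  have hWF : ∀ U : S.Etale, Nonempty (F.obj.obj (op U)) ↔ Set.range U.hom ⊆ Wset := by
    intro U
    constructor
    · intro hU x hx
      exact ⟨U, hU, hx⟩
    · intro hsub
      let R : Sieve U :=
        { arrows := fun Y _ => Nonempty (F.obj.obj (op Y))
          downward_closed := by
            rintro Y Z g ⟨s⟩ k
            exact ⟨F.obj.map k.op s⟩ }
      have hR : R ∈ S.smallEtaleTopology U := by
        apply sieve_mem_of_forall_exists
        intro x
        obtain ⟨U', ⟨s'⟩, x', hx'⟩ := hsub ⟨x, rfl⟩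
        obtain ⟨P, a, b, z, -, hz1, -⟩ := exists_prod (toTop U) (toTop U') x x' hx'.symm
        exact ⟨P, a, ⟨F.obj.map b.op s'⟩, ⟨z, hz1⟩⟩
      have hsh : Presieve.IsSheaf S.smallEtaleTopology F.obj :=
        (isSheaf_iff_isSheaf_of_type _ _).1 F.2
      let x : Presieve.FamilyOfElements F.obj R.arrows := fun Y g hg => hg.some
      have hx : x.Compatible := by
        intro Y₁ Y₂ Z g₁ g₂ f₁ f₂ h₁ h₂ _
        haveI := hF Z
        exact Subsingleton.elim _ _
      exact ⟨(hsh R hR).amalgamate x hx⟩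
  have key : ∀ W' : S.Opens, Nonempty (F.obj ≅ yoneda.obj (Scheme.Etale.mk W'.ι)) ↔
      ∀ U : S.Etale, Nonempty (F.obj.obj (op U)) ↔ Set.range U.hom ⊆ (W' : Set S) := by
    intro W'
    constructor
    · rintro ⟨e⟩ U
      rw [← nonempty_hom_iff]
      exact ⟨fun ⟨s⟩ => ⟨e.hom.app (op U) s⟩, fun ⟨g⟩ => ⟨e.inv.app (op U) g⟩⟩
    · intro h
      have h1 : ∀ U : S.Etale, Nonempty (F.obj.obj (op U)) ↔
          Nonempty (U ⟶ Scheme.Etale.mk W'.ι) := fun U => (h U).trans (nonempty_hom_iff U W').symm
      refine ⟨NatIso.ofComponents (fun U =>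
        { hom := ↾fun s => ((h1 U.unop).1 ⟨s⟩).some
          inv := ↾fun g => ((h1 U.unop).2 ⟨g⟩).some
          hom_inv_id := by
            haveI := hF U.unop
            ext s
            exact Subsingleton.elim _ _
          inv_hom_id := by
            haveI := subsingleton_hom U.unop W'
            ext g
            exact Subsingleton.elim _ _ }) ?_⟩
      intro U V f
      haveI := subsingleton_hom V.unop W'
      ext s
      exact Subsingleton.elim _ _
  refine ⟨⟨Wset, hW⟩, (key _).2 hWF, ?_⟩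
  intro W' hW'
  have hW'F := (key W').1 hW'
  apply TopologicalSpace.Opens.ext
  apply Set.Subset.antisymm
  · intro x hx
    refine ⟨Scheme.Etale.mk W'.ι, (hW'F _).2 ?_, ?_⟩
    · rw [range_mk_ι]
    · rw [range_mk_ι]; exact hx
  · rintro x ⟨U, hU, hx⟩
    exact (hW'F U).1 hU hx

end Groth.Agent.Lib.EtSchSubTerm_helper7
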