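import Mathlib
import Groth.Prelude.Def_EtBCD
import Groth.Agent.Lib.EtMinusOne_helper7

/-!
# Global sections of inverse images of étale sheaves of sets and base change (helper7)

For a commutative square `hb ≫ p = pY ≫ h` and a sheaf of sets `Fb` on the source of `p`, the
pull-back map on global sections `Γ(Xb, Fb) → Γ(Yb, hb^* Fb)` factors as
`Γ(X, p_* Fb) → Γ(Y, h^* p_* Fb) → Γ(Y, pY_* hb^* Fb)` (`key_rel`).  Consequences: the reduction
lemmas of SGA 4 XII 5/6 for sheaves of sets (`main8542`, `main8547`, `main3517`).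
-/

set_option autoImplicit false
set_option backward.isDefEq.respectTransparency false
set_option linter.style.haveILetI false
set_option linter.unusedSectionVars false
universe u
open CategoryTheory CategoryTheory.Limits AlgebraicGeometry Opposite

namespace Groth.Agent.Lib.EtSecBCH7

open Groth.Agent.Lib.EtFinGeomH7 Groth.Agent.Lib.EtSchSite_helper7
  Groth.Agent.Lib.EtSchExact_helper7 Groth.Agent.Lib.EtFinStalkH7
  Groth.Agent.Lib.EtSchStalk_helper7 Groth.Agent.Lib.EtFinBCH7
  Groth.Agent.Lib.EtIntH7 Groth.Agent.Lib.EtFinStalkShH7 Groth.Agent.Lib.EtIntShH7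
  Groth.Agent.Lib.EtSchPullConserv_helper7 Groth.Agent.Lib.Kummer_helper7
  Groth.Agent.Lib.EtShDescH7 Groth.Agent.Lib.EtMinusOneH7

section Basic

variable {X : Scheme.{u}}

theorem map_iso_inv_hom (G : EtDesc.Sh X) {A B : X.Etale} (e : A ≅ B) (τ : G.obj.obj (op A)) :
    G.obj.map e.hom.op (G.obj.map e.inv.op τ) = τ := by
  rw [← map_comp_applyS, e.hom_inv_id, op_id, CategoryTheory.Functor.map_id]
  rfl

theorem map_iso_hom_inv (G : EtDesc.Sh X) {A B : X.Etale} (e : A ≅ B) (τ : G.obj.obj (op B)) :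
    G.obj.map e.inv.op (G.obj.map e.hom.op τ) = τ := by
  rw [← map_comp_applyS, e.inv_hom_id, op_id, CategoryTheory.Functor.map_id]
  rfl

theorem map_iso_inv_injective (G : EtDesc.Sh X) {A B : X.Etale} (e : A ≅ B) :
    Function.Injective (G.obj.map e.inv.op) := by
  intro τ τ' h
  have h1 := congrArg (fun z => G.obj.map e.hom.op z) h
  exact (map_iso_inv_hom G e τ).symm.trans (h1.trans (map_iso_inv_hom G e τ'))

theorem sections_surjective_of_isIso {G H : EtDesc.Sh X} (a : G ⟶ H) [IsIso a] (V : X.Etale) :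
    Function.Surjective (a.hom.app (op V)) := by
  intro z
  refine ⟨(inv a).hom.app (op V) z, ?_⟩
  exact congrArg (fun (m : H ⟶ H) => m.hom.app (op V) z) (IsIso.inv_hom_id a)

end Basic

section Nat

variable {X Y : Scheme.{u}} (h : Y ⟶ X)

/-- Naturality of the pull-back of global sections in the sheaf. -/
theorem secPull_nat {F G : EtDesc.Sh X} (a : F ⟶ G) (s : F.obj.obj (op (EtCoh.top X))) :
    EtDesc.secPull h G (a.hom.app (op (EtCoh.top X)) s) =
      ((EtDesc.pullSh h).map a).hom.app (op (EtCoh.top Y)) (EtDesc.secPull h F s) := by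
  have h1 : EtDesc.secPull h G (a.hom.app (op (EtCoh.top X)) s) =
      ((EtDesc.pullSh h).obj G).obj.map (EtCore.bcTopIso h).inv.op
        (υ h G (EtCoh.top X) (a.hom.app (op (EtCoh.top X)) s)) := rfl
  have h2 : EtDesc.secPull h F s = ((EtDesc.pullSh h).obj F).obj.map (EtCore.bcTopIso h).inv.op
      (υ h F (EtCoh.top X) s) := rfl
  rw [h1, h2, unit_nat_sheaf, hom_map_apply]

theorem secPull_injective_of_surjective [Surjective h] (F : EtDesc.Sh X) :
    Function.Injective (EtDesc.secPull h F) := by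
  intro s s' hs
  haveI := mono_unit_of_surjective h F
  apply injective_of_mono ((EtDesc.adjSh h).unit.app F) (EtCoh.top X)
  exact map_iso_inv_injective ((EtDesc.pullSh h).obj F) (EtCore.bcTopIso h) hs

end Nat

section Classifier

variable {X : Scheme.{u}} {F G : EtDesc.Sh X} (a : F ⟶ G)

/-- The sheaf of closed sieves on the small étale site. -/
noncomputable def Ω (X : Scheme.{u}) : EtDesc.Sh X :=
  ⟨(Functor.closedSieves X.smallEtaleTopology).toFunctor,
    (isSheaf_iff_isSheaf_of_type _ _).2 (classifier_isSheaf X.smallEtaleTopology)⟩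

theorem mem_range_of_covering [Mono a] (V : X.Etaleᵒᵖ) (s : G.obj.obj V)
    (hs : (Subfunctor.range a.hom).sieveOfSection s ∈ X.smallEtaleTopology V.unop) :
    s ∈ (Subfunctor.range a.hom).obj V := by
  haveI M : Mono a.hom := (Sheaf.Hom.mono_iff_presheaf_mono _ _ _).mp inferInstance
  have hF : Presieve.IsSheaf X.smallEtaleTopology F.obj :=
    (isSheaf_iff_isSheaf_of_type _ _).1 F.2
  have hG : Presieve.IsSheaf X.smallEtaleTopology G.obj :=
    (isSheaf_iff_isSheaf_of_type _ _).1 G.2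
  have hR : Presieve.IsSheaf X.smallEtaleTopology (Subfunctor.range a.hom).toFunctor :=
    Presieve.isSheaf_iso X.smallEtaleTopology (asIso (Subfunctor.toRange a.hom)) hF
  exact (Subfunctor.isSheaf_iff _ hG).1 hR V s hs

theorem isClosed_sieveOfSection [Mono a] (V : X.Etaleᵒᵖ) (s : G.obj.obj V) :
    X.smallEtaleTopology.IsClosed ((Subfunctor.range a.hom).sieveOfSection s) := by
  intro W φ hφ
  have h1 : ((Subfunctor.range a.hom).sieveOfSection s).pullback φ ∈
      X.smallEtaleTopology W := hφ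
  have h2 : ((Subfunctor.range a.hom).sieveOfSection s).pullback φ =
      (Subfunctor.range a.hom).sieveOfSection (U := op W) (G.obj.map φ.op s) := by
    ext W' ψ
    show G.obj.map (ψ ≫ φ).op s ∈ _ ↔ G.obj.map ψ.op (G.obj.map φ.op s) ∈ _
    rw [op_comp, CategoryTheory.Functor.map_comp]
    rfl
  rw [h2] at h1
  exact mem_range_of_covering a (op W) (G.obj.map φ.op s) h1

/-- The characteristic morphism of the subsheaf `a : F ⟶ G`. -/
noncomputable def chi [Mono a] : G ⟶ Ω X :=
  ⟨{ app := fun V => TypeCat.ofHom (fun s =>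
        (⟨(Subfunctor.range a.hom).sieveOfSection s, isClosed_sieveOfSection a V s⟩ :
          (Functor.closedSieves X.smallEtaleTopology).toFunctor.obj V))
     naturality := fun A B k => by
       ext s
       apply Subtype.ext
       apply Sieve.ext
       intro W' ψ
       show G.obj.map ψ.op (G.obj.map k s) ∈ _ ↔ G.obj.map (ψ ≫ k.unop).op s ∈ _
       rw [op_comp, CategoryTheory.Functor.map_comp]
       rfl }⟩

/-- The morphism `G ⟶ Ω` constant with value the maximal sieve. -/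
noncomputable def tru : G ⟶ Ω X :=
  ⟨{ app := fun V => TypeCat.ofHom (fun _ =>
        (⟨(⊤ : Sieve V.unop), fun _ _ _ => trivial⟩ :
          (Functor.closedSieves X.smallEtaleTopology).toFunctor.obj V))
     naturality := fun A B k => by
       ext s
       apply Subtype.ext
       apply Sieve.ext
       intro W' ψ
       exact Iff.rfl }⟩

theorem chi_val [Mono a] (V : X.Etale) (s : G.obj.obj (op V)) :
    ((chi a).hom.app (op V) s).1 = (Subfunctor.range a.hom).sieveOfSection (U := op V) s := rfl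

theorem tru_val (V : X.Etale) (s : G.obj.obj (op V)) :
    ((tru (G := G)).hom.app (op V) s).1 = (⊤ : Sieve V) := rfl

theorem comp_chi [Mono a] : a ≫ chi a = a ≫ tru := by
  apply ObjectProperty.hom_ext
  apply NatTrans.ext
  funext V
  apply ConcreteCategory.hom_ext
  intro s
  apply Subtype.ext
  apply Sieve.ext
  intro W' ψ
  refine ⟨fun _ => trivial, fun _ => ?_⟩
  show G.obj.map ψ.op (a.hom.app V s) ∈ Set.range (a.hom.app (op W'))
  exact ⟨F.obj.map ψ.op s, NatTrans.naturality_apply a.hom ψ.op s⟩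

theorem exists_of_chi_eq [Mono a] (V : X.Etale) (s : G.obj.obj (op V))
    (hs : (chi a).hom.app (op V) s = (tru (G := G)).hom.app (op V) s) :
    ∃ w : F.obj.obj (op V), a.hom.app (op V) w = s := by
  have h1 := congrArg Subtype.val hs
  rw [chi_val, tru_val] at h1
  have h2 : ((Subfunctor.range a.hom).sieveOfSection (U := op V) s) (𝟙 V) := by
    rw [h1]
    trivial
  have h3 : G.obj.map (𝟙 V).op s ∈ Set.range (a.hom.app (op V)) := h2
  rw [op_id, CategoryTheory.Functor.map_id] at h3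
  exact h3

end Classifier

section Lemma8542

variable {X Y : Scheme.{u}} (h : Y ⟶ X)

/-- SGA 4 XII 6.x: if pull-back of global sections along `h` is injective for all sheaves of
sets, then a section of `h^* F` whose image in `h^* G` (for `F ⊆ G`) descends, descends. -/
theorem main8542 (hinj : ∀ F : EtDesc.Sh X, Function.Injective (EtDesc.secPull h F))
    {F G : EtDesc.Sh X} (a : F ⟶ G) [Mono a]
    (ξ : EtDesc.sect ((EtDesc.pullSh h).obj F) (EtCoh.top Y))
    (hξ : ((EtDesc.pullSh h).map a).hom.app (op (EtCoh.top Y)) ξ ∈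
      Set.range (EtDesc.secPull h G)) :
    ξ ∈ Set.range (EtDesc.secPull h F) := by
  obtain ⟨σ, hσ⟩ := hξ
  have e1 : EtDesc.secPull h (Ω X) ((chi a).hom.app (op (EtCoh.top X)) σ) =
      EtDesc.secPull h (Ω X) ((tru (G := G)).hom.app (op (EtCoh.top X)) σ) := by
    rw [secPull_nat, secPull_nat, hσ]
    have c1 := congrArg (fun (m : (EtDesc.pullSh h).obj F ⟶ (EtDesc.pullSh h).obj (Ω X)) =>
      m.hom.app (op (EtCoh.top Y)) ξ) ((EtDesc.pullSh h).map_comp a (chi a))
    have c2 := congrArg (fun (m : (EtDesc.pullSh h).obj F ⟶ (EtDesc.pullSh h).obj (Ω X)) =>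
      m.hom.app (op (EtCoh.top Y)) ξ) ((EtDesc.pullSh h).map_comp a (tru (G := G)))
    have c3 := congrArg (fun (m : F ⟶ Ω X) =>
      ((EtDesc.pullSh h).map m).hom.app (op (EtCoh.top Y)) ξ) (comp_chi a)
    exact c1.symm.trans (c3.trans c2)
  obtain ⟨τ, hτ⟩ := exists_of_chi_eq a (EtCoh.top X) σ (hinj (Ω X) e1)
  refine ⟨τ, ?_⟩
  haveI := mono_pullSh_map h a
  apply injective_of_mono ((EtDesc.pullSh h).map a) (EtCoh.top Y)
  rw [← secPull_nat, hτ, hσ]

end Lemma8542

section Key

variable {X Y Xb Yb : Scheme.{u}} (h : Y ⟶ X) (p : Xb ⟶ X) (hb : Yb ⟶ Xb) (pY : Yb ⟶ Y)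
  (w : hb ≫ p = pY ≫ h) (Fb : EtDesc.Sh Xb)

/-- The base change morphism evaluated on a unit section. -/
theorem bc0_unit (U : X.Etale) (s : ToType (Fb.obj.obj (op ((EtCoh.bc p).obj U)))) :
    (EtBC.baseChange0Sh p h pY hb w Fb).hom.app (op ((EtCoh.bc h).obj U))
      (υ h ((EtDesc.pushSh p).obj Fb) U s) =
    ((EtDesc.pullSh hb).obj Fb).obj.map (θ p h pY hb w U).op (υ hb Fb ((EtCoh.bc p).obj U) s) := by
  have h1 := gamma_appS p h pY hb w Fb U s
  rw [Adjunction.homEquiv_unit] at h1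
  exact h1

/-- The two morphisms from the final object to `(Xb ×_X X) ×_{Xb} Yb` agree. -/
theorem kappa_eq :
    (EtCore.bcTopIso pY).inv ≫ (EtCoh.bc pY).map (EtCore.bcTopIso h).inv ≫
      θ p h pY hb w (EtCoh.top X) =
    (EtCore.bcTopIso hb).inv ≫ (EtCoh.bc hb).map (EtCore.bcTopIso p).inv := by
  rw [← cancel_mono ((EtCoh.bc hb).map (EtCore.bcTopIso p).hom ≫ (EtCore.bcTopIso hb).hom)]
  exact (EtCore.topIsTerminal Yb).hom_ext _ _

/-- The pull-back map on global sections along `hb` factors through the base change map. -/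
theorem key_rel (s : ToType (Fb.obj.obj (op ((EtCoh.bc p).obj (EtCoh.top X))))) :
    ((EtDesc.pullSh hb).obj Fb).obj.map (EtCore.bcTopIso pY).inv.op
      ((EtBC.baseChange0Sh p h pY hb w Fb).hom.app (op (EtCoh.top Y))
        (EtDesc.secPull h ((EtDesc.pushSh p).obj Fb) s)) =
    EtDesc.secPull hb Fb (Fb.obj.map (EtCore.bcTopIso p).inv.op s) := by
  have h1 : EtDesc.secPull h ((EtDesc.pushSh p).obj Fb) s =
      ((EtDesc.pullSh h).obj ((EtDesc.pushSh p).obj Fb)).obj.map (EtCore.bcTopIso h).inv.op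
        (υ h ((EtDesc.pushSh p).obj Fb) (EtCoh.top X) s) := rfl
  have h2 : (EtBC.baseChange0Sh p h pY hb w Fb).hom.app (op (EtCoh.top Y))
      (EtDesc.secPull h ((EtDesc.pushSh p).obj Fb) s) =
      ((EtDesc.pullSh hb).obj Fb).obj.map ((EtCoh.bc pY).map (EtCore.bcTopIso h).inv).op
        (((EtDesc.pullSh hb).obj Fb).obj.map (θ p h pY hb w (EtCoh.top X)).op
          (υ hb Fb ((EtCoh.bc p).obj (EtCoh.top X)) s)) := by
    rw [h1, ← bc0_unit]
    exact hom_map_apply (EtBC.baseChange0Sh p h pY hb w Fb) (EtCore.bcTopIso h).inv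
      (υ h ((EtDesc.pushSh p).obj Fb) (EtCoh.top X) s)
  have h3 : EtDesc.secPull hb Fb (Fb.obj.map (EtCore.bcTopIso p).inv.op s) =
      ((EtDesc.pullSh hb).obj Fb).obj.map (EtCore.bcTopIso hb).inv.op
        (υ hb Fb (EtCoh.top Xb) (Fb.obj.map (EtCore.bcTopIso p).inv.op s)) := rfl
  rw [h2, h3, unit_nat, ← map_comp_applyS, ← map_comp_applyS, ← map_comp_applyS, Category.assoc,
    kappa_eq]

end Key

section Main8547

variable {X Y Xb Yb : Scheme.{u}} (h : Y ⟶ X) (p : Xb ⟶ X) (hb : Yb ⟶ Xb) (pY : Yb ⟶ Y)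
  (w : hb ≫ p = pY ≫ h)

theorem secPull_hb_injective (Fb : EtDesc.Sh Xb)
    (hinj : Function.Injective (EtDesc.secPull h ((EtDesc.pushSh p).obj Fb)))
    (hB : Function.Injective ((EtBC.baseChange0Sh p h pY hb w Fb).hom.app (op (EtCoh.top Y)))) :
    Function.Injective (EtDesc.secPull hb Fb) := by
  intro t t' ht
  obtain ⟨s, hs⟩ : ∃ s : ToType (Fb.obj.obj (op ((EtCoh.bc p).obj (EtCoh.top X)))),
      s = Fb.obj.map (EtCore.bcTopIso p).hom.op t := ⟨_, rfl⟩
  obtain ⟨s', hs'⟩ : ∃ s' : ToType (Fb.obj.obj (op ((EtCoh.bc p).obj (EtCoh.top X)))),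
      s' = Fb.obj.map (EtCore.bcTopIso p).hom.op t' := ⟨_, rfl⟩
  have e1 : Fb.obj.map (EtCore.bcTopIso p).inv.op s = t := by
    rw [hs]
    exact map_iso_hom_inv Fb (EtCore.bcTopIso p) t
  have e2 : Fb.obj.map (EtCore.bcTopIso p).inv.op s' = t' := by
    rw [hs']
    exact map_iso_hom_inv Fb (EtCore.bcTopIso p) t'
  have k1 := key_rel h p hb pY w Fb s
  have k2 := key_rel h p hb pY w Fb s'
  rw [e1] at k1
  rw [e2] at k2
  have k3 := k1.trans (ht.trans k2.symm)
  have k4 := hinj (hB (map_iso_inv_injective ((EtDesc.pullSh hb).obj Fb) (EtCore.bcTopIso pY) k3))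
  rw [← e1, ← e2, k4]

theorem secPull_hb_surjective (Fb : EtDesc.Sh Xb)
    (hsurj : Function.Surjective (EtDesc.secPull h ((EtDesc.pushSh p).obj Fb)))
    (hB : Function.Surjective ((EtBC.baseChange0Sh p h pY hb w Fb).hom.app (op (EtCoh.top Y)))) :
    Function.Surjective (EtDesc.secPull hb Fb) := by
  intro ξ
  obtain ⟨ζ, hζ⟩ := hB (((EtDesc.pullSh hb).obj Fb).obj.map (EtCore.bcTopIso pY).hom.op ξ)
  obtain ⟨s, hs⟩ := hsurj ζ
  refine ⟨Fb.obj.map (EtCore.bcTopIso p).inv.op s, ?_⟩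
  have k1 := key_rel h p hb pY w Fb s
  rw [← k1, hs, hζ]
  exact map_iso_hom_inv ((EtDesc.pullSh hb).obj Fb) (EtCore.bcTopIso pY) ξ

theorem main8547 :
    ((∀ F : EtDesc.Sh X, Function.Injective (EtDesc.secPull h F)) →
      (∀ Fb : EtDesc.Sh Xb, Mono (EtBC.baseChange0Sh p h pY hb w Fb)) →
      ∀ Fb : EtDesc.Sh Xb, Function.Injective (EtDesc.secPull hb Fb)) ∧
    ((∀ F : EtDesc.Sh X, Function.Bijective (EtDesc.secPull h F)) →
      (∀ Fb : EtDesc.Sh Xb, IsIso (EtBC.baseChange0Sh p h pY hb w Fb)) →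
      ∀ Fb : EtDesc.Sh Xb, Function.Bijective (EtDesc.secPull hb Fb)) := by
  refine ⟨fun hinj hmono Fb => ?_, fun hbij hiso Fb => ⟨?_, ?_⟩⟩
  · haveI := hmono Fb
    exact secPull_hb_injective h p hb pY w Fb (hinj _)
      (injective_of_mono (EtBC.baseChange0Sh p h pY hb w Fb) (EtCoh.top Y))
  · haveI := hiso Fb
    exact secPull_hb_injective h p hb pY w Fb (hbij _).1
      (injective_of_mono (EtBC.baseChange0Sh p h pY hb w Fb) (EtCoh.top Y))
  · haveI := hiso Fb
    exact secPull_hb_surjective h p hb pY w Fb (hbij _).2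
      (sections_surjective_of_isIso (EtBC.baseChange0Sh p h pY hb w Fb) (EtCoh.top Y))

end Main8547

section Main3517

variable {X Y Xb Yb : Scheme.{u}} (h : Y ⟶ X) (p : Xb ⟶ X) (hb : Yb ⟶ Xb) (pY : Yb ⟶ Y)
  (w : hb ≫ p = pY ≫ h)

include pY w in
theorem secPull_h_injective [Surjective p] (F : EtDesc.Sh X)
    (hinj : Function.Injective (EtDesc.secPull hb ((EtDesc.pullSh p).obj F))) :
    Function.Injective (EtDesc.secPull h F) := by
  intro s s' hs
  obtain ⟨a, ha⟩ : ∃ a : F ⟶ (EtDesc.pushSh p).obj ((EtDesc.pullSh p).obj F),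
      a = (EtDesc.adjSh p).unit.app F := ⟨_, rfl⟩
  haveI : Mono a := by
    rw [ha]
    exact mono_unit_of_surjective p F
  apply injective_of_mono a (EtCoh.top X)
  have e1 := secPull_nat h a s
  have e2 := secPull_nat h a s'
  rw [hs] at e1
  have e3 := e1.trans e2.symm
  have k1 := key_rel h p hb pY w ((EtDesc.pullSh p).obj F) (a.hom.app (op (EtCoh.top X)) s)
  have k2 := key_rel h p hb pY w ((EtDesc.pullSh p).obj F) (a.hom.app (op (EtCoh.top X)) s')
  rw [e3] at k1
  exact map_iso_inv_injective ((EtDesc.pullSh p).obj F) (EtCore.bcTopIso p)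
    (hinj (k1.symm.trans k2))

theorem secPull_h_surjective [Surjective p]
    (hinjall : ∀ F : EtDesc.Sh X, Function.Injective (EtDesc.secPull h F))
    (F : EtDesc.Sh X)
    (hsurj : Function.Surjective (EtDesc.secPull hb ((EtDesc.pullSh p).obj F)))
    (hB : Function.Injective ((EtBC.baseChange0Sh p h pY hb w
      ((EtDesc.pullSh p).obj F)).hom.app (op (EtCoh.top Y)))) :
    Function.Surjective (EtDesc.secPull h F) := by
  intro ξ
  obtain ⟨a, ha⟩ : ∃ a : F ⟶ (EtDesc.pushSh p).obj ((EtDesc.pullSh p).obj F),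
      a = (EtDesc.adjSh p).unit.app F := ⟨_, rfl⟩
  haveI : Mono a := by
    rw [ha]
    exact mono_unit_of_surjective p F
  apply main8542 h hinjall a ξ
  obtain ⟨ξ', hξ'⟩ : ∃ ξ', ξ' = ((EtDesc.pullSh h).map a).hom.app (op (EtCoh.top Y)) ξ :=
    ⟨_, rfl⟩
  rw [← hξ']
  obtain ⟨t, ht⟩ := hsurj (((EtDesc.pullSh hb).obj ((EtDesc.pullSh p).obj F)).obj.map
    (EtCore.bcTopIso pY).inv.op ((EtBC.baseChange0Sh p h pY hb w
      ((EtDesc.pullSh p).obj F)).hom.app (op (EtCoh.top Y)) ξ'))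
  obtain ⟨s, hs⟩ : ∃ s : ToType (((EtDesc.pullSh p).obj F).obj.obj
      (op ((EtCoh.bc p).obj (EtCoh.top X)))),
      s = ((EtDesc.pullSh p).obj F).obj.map (EtCore.bcTopIso p).hom.op t := ⟨_, rfl⟩
  have e1 : ((EtDesc.pullSh p).obj F).obj.map (EtCore.bcTopIso p).inv.op s = t := by
    rw [hs]
    exact map_iso_hom_inv ((EtDesc.pullSh p).obj F) (EtCore.bcTopIso p) t
  have k1 := key_rel h p hb pY w ((EtDesc.pullSh p).obj F) s
  rw [e1, ht] at k1
  exact ⟨s, hB (map_iso_inv_injective ((EtDesc.pullSh hb).obj ((EtDesc.pullSh p).obj F))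
    (EtCore.bcTopIso pY) k1)⟩

theorem main3517 (hp : Function.Surjective p.base) :
    ((∀ Fb : EtDesc.Sh Xb, Function.Injective (EtDesc.secPull hb Fb)) →
      ∀ F : EtDesc.Sh X, Function.Injective (EtDesc.secPull h F)) ∧
    ((∀ Fb : EtDesc.Sh Xb, Function.Bijective (EtDesc.secPull hb Fb)) →
      (∀ Fb : EtDesc.Sh Xb, Mono (EtBC.baseChange0Sh p h pY hb w Fb)) →
      ∀ F : EtDesc.Sh X, Function.Bijective (EtDesc.secPull h F)) := by
  haveI : Surjective p := ⟨hp⟩
  refine ⟨fun hinj F => secPull_h_injective h p hb pY w F (hinj _), fun hbij hmono F => ?_⟩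
  have hinjall : ∀ F : EtDesc.Sh X, Function.Injective (EtDesc.secPull h F) :=
    fun F => secPull_h_injective h p hb pY w F (hbij _).1
  refine ⟨hinjall F, ?_⟩
  haveI := hmono ((EtDesc.pullSh p).obj F)
  exact secPull_h_surjective h p hb pY w hinjall F (hbij _).2
    (injective_of_mono (EtBC.baseChange0Sh p h pY hb w ((EtDesc.pullSh p).obj F))
      (EtCoh.top Y))

end Main3517

end Groth.Agent.Lib.EtSecBCH7
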