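import Mathlib
import Groth.Agent.Lib.PointComapCounit_helper7

/-!
# Compatibility of `sheafFiberComapIso` with the unit of the pullback/pushforward adjunction
(helper7)
-/

set_option autoImplicit false
set_option backward.isDefEq.respectTransparency false
universe w v
open CategoryTheory CategoryTheory.Limits Opposite

namespace Groth.Agent.Lib.PointComapUnit_helper7

open GrothendieckTopology Groth.Agent.Lib.PointComapCounit_helper7

variable {C D : Type*} [Category C] [Category D] {K : GrothendieckTopology D}
  (Φ : Point.{w} K) (F : C ⥤ D) [RepresentablyFlat F] {J : GrothendieckTopology C}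
  (hF : CoverPreserving J K F) [InitiallySmall (F ⋙ Φ.fiber).Elements]
  (A : Type*) [Category.{v} A] [HasProducts.{w} A] [Functor.IsContinuous F J K]
  [(F.sheafPushforwardContinuous A J K).IsRightAdjoint] [HasColimitsOfSize.{w, w} A]

theorem comapIso_eq (H : Sheaf J A) :
    (Φ.sheafFiberComapIso F hF A).hom.app H =
      (Φ.comap F hF).sheafFiber.map ((F.sheafAdjunctionContinuous A J K).unit.app H) ≫
        comparison Φ F hF A ((F.sheafPullback A J K).obj H) := by
  unfold comparison
  have hn := (Φ.sheafFiberComapIso F hF A).hom.naturality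
    ((F.sheafAdjunctionContinuous A J K).unit.app H)
  have ht := (F.sheafAdjunctionContinuous A J K).left_triangle_components H
  have h1 : (F.sheafPullback A J K ⋙ Φ.sheafFiber).map
      ((F.sheafAdjunctionContinuous A J K).unit.app H) ≫
      Φ.sheafFiber.map ((F.sheafAdjunctionContinuous A J K).counit.app
        ((F.sheafPullback A J K).obj H)) = 𝟙 _ := by
    show Φ.sheafFiber.map ((F.sheafPullback A J K).map
      ((F.sheafAdjunctionContinuous A J K).unit.app H)) ≫ _ = _
    rw [← Functor.map_comp, ht]
    exact Φ.sheafFiber.map_id _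
  refine Eq.trans ?_ (Category.assoc _ _ _)
  refine Eq.trans ?_ (congrArg (fun m => m ≫ Φ.sheafFiber.map
    ((F.sheafAdjunctionContinuous A J K).counit.app ((F.sheafPullback A J K).obj H))) hn.symm)
  refine Eq.trans ?_ (Category.assoc _ _ _).symm
  refine Eq.trans (Category.comp_id _).symm ?_
  exact congrArg (fun m => (Φ.sheafFiberComapIso F hF A).hom.app H ≫ m) h1.symm

theorem toPresheafFiber_comapIso (H : Sheaf J A) (U : C) (u : Φ.fiber.obj (F.obj U)) :
    (Φ.comap F hF).toPresheafFiber U u H.obj ≫ (Φ.sheafFiberComapIso F hF A).hom.app H =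
      ((F.sheafAdjunctionContinuous A J K).unit.app H).hom.app (op U) ≫
        Φ.toPresheafFiber (F.obj U) u ((F.sheafPullback A J K).obj H).obj := by
  rw [comapIso_eq]
  have hnat := (Φ.comap F hF).toPresheafFiber_naturality
    ((F.sheafAdjunctionContinuous A J K).unit.app H).hom U u
  refine (Category.assoc _ _ _).symm.trans ?_
  refine (congrArg (fun m => m ≫ comparison Φ F hF A ((F.sheafPullback A J K).obj H)) hnat).trans ?_
  refine (Category.assoc _ _ _).trans ?_
  exact congrArg (fun m => ((F.sheafAdjunctionContinuous A J K).unit.app H).hom.app (op U) ≫ m)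
    (toPresheafFiber_comparison Φ F hF A ((F.sheafPullback A J K).obj H) U u)

end Groth.Agent.Lib.PointComapUnit_helper7
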