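import Mathlib
import Groth.Prelude.Def_EtShriek2
import Groth.Agent.Lib.PointComapUnit_helper7
import Groth.Agent.Lib.EtPushVanish_helper7

/-!
# The open locus where two global sections of an étale sheaf agree (helper7)
-/

set_option autoImplicit false
set_option backward.isDefEq.respectTransparency false
universe u
open CategoryTheory CategoryTheory.Limits AlgebraicGeometry Opposite

namespace Groth.Agent.Lib.EtSectAgree_helper7

open Groth.Agent.Lib.EtSchSite_helper7 Groth.Agent.Lib.PointComapUnit_helper7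
  Groth.Agent.Lib.EtPushVanish_helper7 Groth.Agent.Lib.EtSchSupp_helper7
  Groth.Agent.Lib.Kummer_helper7

variable {S T : Scheme.{u}} (f : T ⟶ S) (F : EtCoh.Ab S)

/-- germ formula for the unit of `f⁻¹ ⊣ f_*`. -/
theorem germ_unit {K : Type u} [Field K] [IsSepClosed K] (η : Spec (CommRingCat.of K) ⟶ T)
    (W : S.Etale) (l : (Scheme.pointSmallEtale η).fiber.obj ((EtCoh.bc f).obj W))
    (σ : EtCoh.sect F W) :
    (Scheme.pointSmallEtale η).toPresheafFiber ((EtCoh.bc f).obj W) l ((EtCoh.pull f).obj F).obj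
      (((EtCoh.pullPushAdj f).unit.app F).hom.app (op W) σ) =
    ((Scheme.pointSmallEtale η).sheafFiberComapIso (EtCoh.bc f) (EtCoh.coverPreserving_bc f)
      AddCommGrpCat.{u + 1}).hom.app F
      (((Scheme.pointSmallEtale η).comap (EtCoh.bc f)
        (EtCoh.coverPreserving_bc f)).toPresheafFiber W l F.obj σ) := by
  have h := toPresheafFiber_comapIso (Scheme.pointSmallEtale η) (EtCoh.bc f)
    (EtCoh.coverPreserving_bc f) AddCommGrpCat.{u + 1} F W l
  exact (congrArg (fun m => (ConcreteCategory.hom m) σ) h).symm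

theorem not_mem_sectSupp_of_unit_eq_zero (σ : EtCoh.sect F (EtCoh.top S))
    (h0 : ((EtCoh.pullPushAdj f).unit.app F).hom.app (op (EtCoh.top S)) σ = 0) (x : T) :
    f x ∉ EtShriek.sectSupp F (EtCoh.top S) σ := by
  obtain ⟨K, _, _, τ, rfl⟩ := exists_geometric_point x
  have hl : pullback.lift (τ ≫ f) τ (Category.comp_id _) ≫ pullback.snd (𝟙 S) f = τ :=
    pullback.lift_snd _ _ _
  obtain ⟨u, hu⟩ : ∃ u : (Scheme.pointSmallEtale τ).fiber.obj ((EtCoh.bc f).obj (EtCoh.top S)),
      u = Over.homMk (pullback.lift (τ ≫ f) τ (Category.comp_id _)) hl := ⟨_, rfl⟩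
  have h1 := germ_unit f F τ (EtCoh.top S) u σ
  rw [h0, map_zero] at h1
  haveI : IsIso (((Scheme.pointSmallEtale τ).sheafFiberComapIso (EtCoh.bc f)
      (EtCoh.coverPreserving_bc f) AddCommGrpCat.{u + 1}).hom.app F) := inferInstance
  have hinj : Function.Injective (((Scheme.pointSmallEtale τ).sheafFiberComapIso (EtCoh.bc f)
      (EtCoh.coverPreserving_bc f) AddCommGrpCat.{u + 1}).hom.app F) :=
    (ConcreteCategory.bijective_of_isIso _).1
  have h2 : ((Scheme.pointSmallEtale τ).comap (EtCoh.bc f)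
      (EtCoh.coverPreserving_bc f)).toPresheafFiber (EtCoh.top S) u F.obj σ =
      ((Scheme.pointSmallEtale τ).comap (EtCoh.bc f)
      (EtCoh.coverPreserving_bc f)).toPresheafFiber (EtCoh.top S) u F.obj 0 := by
    apply hinj
    rw [← h1, map_zero, map_zero]
  obtain ⟨W, g, y, hy, hs⟩ := (((Scheme.pointSmallEtale τ).comap (EtCoh.bc f)
      (EtCoh.coverPreserving_bc f)).toPresheafFiber_eq_iff' (EtCoh.top S) u σ 0).1 h2
  obtain ⟨yl, hyl⟩ : ∃ yl : Spec (CommRingCat.of K) ⟶ ((EtCoh.bc f).obj W).left,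
      yl = y.left := ⟨y.left, rfl⟩
  have hyτ : yl ≫ pullback.snd W.hom f = τ := by rw [hyl]; exact Over.w y
  intro hmem
  refine hmem W g ⟨(pullback.fst W.hom f) (yl (default : ↥(Spec (CommRingCat.of K)))), ?_⟩
    (hs.trans (map_zero _))
  have hg : g.left = W.hom := by
    have := MorphismProperty.Over.w g
    exact (Category.comp_id _).symm.trans this
  have e1 : W.hom ((pullback.fst W.hom f) (yl (default : ↥(Spec (CommRingCat.of K))))) =
      f ((pullback.snd W.hom f) (yl (default : ↥(Spec (CommRingCat.of K))))) :=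
    (Scheme.Hom.comp_apply _ _ _).symm.trans
      ((congrArg (fun (m : pullback W.hom f ⟶ S) =>
        m (yl (default : ↥(Spec (CommRingCat.of K))))) pullback.condition).trans
        (Scheme.Hom.comp_apply _ _ _))
  have e2 : (pullback.snd W.hom f) (yl (default : ↥(Spec (CommRingCat.of K)))) =
      τ (default : ↥(Spec (CommRingCat.of K))) :=
    (Scheme.Hom.comp_apply _ _ _).symm.trans
      (congrArg (fun (m : Spec (CommRingCat.of K) ⟶ T) =>
        m (default : ↥(Spec (CommRingCat.of K)))) hyτ)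
  rw [hg]
  exact e1.trans (congrArg (fun q => f q) e2)

theorem unit_eq_zero_of_forall_not_mem (σ : EtCoh.sect F (EtCoh.top S))
    (h : ∀ x : T, f x ∉ EtShriek.sectSupp F (EtCoh.top S) σ) :
    ((EtCoh.pullPushAdj f).unit.app F).hom.app (op (EtCoh.top S)) σ = 0 := by
  apply eq_zero_of_germs ((EtCoh.pull f).obj F) ((EtCoh.bc f).obj (EtCoh.top S))
  intro K _ _ η l
  refine (germ_unit f F η (EtCoh.top S) l σ).trans ?_
  suffices h3 : ((Scheme.pointSmallEtale η).comap (EtCoh.bc f)
      (EtCoh.coverPreserving_bc f)).toPresheafFiber (EtCoh.top S) l F.obj σ = 0 by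
    rw [h3, map_zero]
  obtain ⟨ll, hll⟩ : ∃ ll : Spec (CommRingCat.of K) ⟶ ((EtCoh.bc f).obj (EtCoh.top S)).left,
      ll = l.left := ⟨l.left, rfl⟩
  have hlη : ll ≫ pullback.snd (𝟙 S) f = η := by rw [hll]; exact Over.w l
  have hx := h (η (default : ↥(Spec (CommRingCat.of K))))
  have hx' : ∃ (W : S.Etale) (g : W ⟶ EtCoh.top S),
      (∃ w : W.left, g.left.base w = f (η (default : ↥(Spec (CommRingCat.of K))))) ∧
      F.obj.map g.op σ = 0 := by
    by_contra hcon
    apply hx
    intro W g hw h0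
    exact hcon ⟨W, g, hw, h0⟩
  obtain ⟨W, g, ⟨w, hw⟩, h0⟩ := hx'
  have hg : g.left = W.hom := by
    have := MorphismProperty.Over.w g
    exact (Category.comp_id _).symm.trans this
  have hw' : W.hom w = f (η (default : ↥(Spec (CommRingCat.of K)))) := by
    rw [← hg]; exact hw
  obtain ⟨p', hp1, hp2⟩ := Scheme.Pullback.exists_preimage_pullback (f := W.hom) (g := f)
    w (η (default : ↥(Spec (CommRingCat.of K)))) hw'
  -- the two points of `S ×_S T` agree
  haveI : IsIso (pullback.snd (𝟙 S) f) := inferInstance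
  have hinj : Function.Injective (pullback.snd (𝟙 S) f) := by
    intro a b hab
    have := congrArg (fun q => (inv (pullback.snd (𝟙 S) f)) q) hab
    simpa [← Scheme.Hom.comp_apply] using this
  have hq : ((EtCoh.bc f).map g).left p' = ll (default : ↥(Spec (CommRingCat.of K))) := by
    apply hinj
    have e1 : ((EtCoh.bc f).map g).left ≫ pullback.snd (𝟙 S) f = pullback.snd W.hom f :=
      pullback.lift_snd _ _ _
    have e2 : (pullback.snd (𝟙 S) f) (((EtCoh.bc f).map g).left p') =
        (pullback.snd W.hom f) p' :=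
      (Scheme.Hom.comp_apply _ _ _).symm.trans
        (congrArg (fun (m : ((EtCoh.bc f).obj W).left ⟶ T) => m p') e1)
    have e3 : (pullback.snd (𝟙 S) f) (ll (default : ↥(Spec (CommRingCat.of K)))) =
        η (default : ↥(Spec (CommRingCat.of K))) :=
      (Scheme.Hom.comp_apply _ _ _).symm.trans
        (congrArg (fun (m : Spec (CommRingCat.of K) ⟶ T) =>
          m (default : ↥(Spec (CommRingCat.of K)))) hlη)
    exact e2.trans (hp2.trans e3.symm)
  obtain ⟨l'', hl1, hl2⟩ := Scheme.exists_fac_of_etale_of_isSepClosed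
    ((EtCoh.bc f).map g).left ll p' hq
  have hw'' : l'' ≫ ((EtCoh.bc f).obj W).hom = η := by
    rw [← MorphismProperty.Over.w ((EtCoh.bc f).map g), ← Category.assoc, hl1]
    exact hlη
  obtain ⟨y, hy⟩ : ∃ y : (Scheme.pointSmallEtale η).fiber.obj ((EtCoh.bc f).obj W),
      y = Over.homMk l'' hw'' := ⟨_, rfl⟩
  have hyl : ((Scheme.pointSmallEtale η).comap (EtCoh.bc f)
      (EtCoh.coverPreserving_bc f)).fiber.map g y = l := by
    apply Over.OverMorphism.ext
    rw [hy]
    exact hl1.trans hll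
  rw [← hyl, ← ((Scheme.pointSmallEtale η).comap (EtCoh.bc f)
      (EtCoh.coverPreserving_bc f)).toPresheafFiber_w_apply g y F.obj σ, h0]
  exact map_zero _

theorem exists_open_agree (s t : EtCoh.sect F (EtCoh.top S)) :
    ∃ W : S.Opens, ∀ (T : Scheme.{u}) (f : T ⟶ S),
      Set.range f.base ⊆ (W : Set S) ↔
        ((EtCoh.pullPushAdj f).unit.app F).hom.app (op (EtCoh.top S)) s =
          ((EtCoh.pullPushAdj f).unit.app F).hom.app (op (EtCoh.top S)) t := by
  refine ⟨⟨(EtShriek.sectSupp F (EtCoh.top S) (s - t) : Set S)ᶜ,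
    (isClosed_sectSupp F (EtCoh.top S) (s - t)).isOpen_compl⟩, fun T f => ?_⟩
  have hsub : ((EtCoh.pullPushAdj f).unit.app F).hom.app (op (EtCoh.top S)) s =
      ((EtCoh.pullPushAdj f).unit.app F).hom.app (op (EtCoh.top S)) t ↔
      ((EtCoh.pullPushAdj f).unit.app F).hom.app (op (EtCoh.top S)) (s - t) = 0 := by
    rw [map_sub, sub_eq_zero]
  rw [hsub]
  constructor
  · intro hr
    apply unit_eq_zero_of_forall_not_mem
    intro x
    exact hr ⟨x, rfl⟩
  · rintro h0 _ ⟨x, rfl⟩
    exact not_mem_sectSupp_of_unit_eq_zero f F _ h0 x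

end Groth.Agent.Lib.EtSectAgree_helper7
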