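import Mathlib

/-! A map of algebras with sections which is an isomorphism on conormal modules and whose source
is smooth along the section is étale along the section (helper1). -/

set_option autoImplicit false
set_option maxHeartbeats 1000000

universe u

open TensorProduct

namespace Groth.Agent.Lib.EtSectH1

section Crux

/-- Nakayama-type lemma: a map of modules which is surjective near `P`, with target free at `P`,
and whose kernel lies in `b • ⊤` (with `b ≤ P`), has kernel vanishing near `P`. -/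
theorem ker_locally_zero {B : Type*} [CommRing B] {T Ω : Type*} [AddCommGroup T] [Module B T]
    [AddCommGroup Ω] [Module B Ω] [Module.Finite B T] (u : T →ₗ[B] Ω) (P : Ideal B) [P.IsPrime]
    (b : Ideal B) (hbP : b ≤ P)
    (hfree : Module.Free (Localization.AtPrime P) (LocalizedModule P.primeCompl Ω))
    (hsurj : ∀ ω : Ω, ∃ r, r ∉ P ∧ r • ω ∈ LinearMap.range u)
    (hinj : ∀ t : T, u t = 0 → t ∈ b • (⊤ : Submodule B T)) :
    ∀ k : T, u k = 0 → ∃ r, r ∉ P ∧ r • k = 0 := by
  classical
  have huP : ∀ t s, LocalizedModule.map P.primeCompl u (LocalizedModule.mk t s) =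
      LocalizedModule.mk (u t) s := LocalizedModule.map_mk P.primeCompl u
  have hsurjP : Function.Surjective (LocalizedModule.map P.primeCompl u) := by
    intro x
    refine LocalizedModule.induction_on (fun ω s => ?_) x
    obtain ⟨r, hr, t, ht⟩ := hsurj ω
    refine ⟨LocalizedModule.mk t (⟨r, hr⟩ * s), ?_⟩
    rw [huP, ht, LocalizedModule.mk_eq]
    refine ⟨1, ?_⟩
    simp only [one_smul, Submonoid.smul_def, Submonoid.coe_mul, mul_smul]
    exact smul_comm _ _ _
  haveI : Module.Projective (Localization.AtPrime P) (LocalizedModule P.primeCompl Ω) :=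
    Module.Projective.of_free
  obtain ⟨sec, hsec⟩ := Module.projective_lifting_property
    (LocalizedModule.map P.primeCompl u) LinearMap.id hsurjP
  have hsec' : ∀ y, LocalizedModule.map P.primeCompl u (sec y) = y :=
    fun y => LinearMap.congr_fun hsec y
  obtain ⟨e, he⟩ : ∃ e : LocalizedModule P.primeCompl T →ₗ[Localization.AtPrime P]
      LocalizedModule P.primeCompl T,
      e = LinearMap.id - sec ∘ₗ (LocalizedModule.map P.primeCompl u) := ⟨_, rfl⟩
  have he_apply : ∀ x, e x = x - sec (LocalizedModule.map P.primeCompl u x) := by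
    intro x
    rw [he]
    rfl
  have he_ker : ∀ x, LocalizedModule.map P.primeCompl u x = 0 → e x = x := by
    intro x hx
    rw [he_apply, hx, map_zero, sub_zero]
  have hu_e : ∀ x, LocalizedModule.map P.primeCompl u (e x) = 0 := by
    intro x
    rw [he_apply, map_sub, hsec', sub_self]
  -- elements of `b • ⊤` localize into `𝔪 • ⊤`
  have hD1 : ∀ t' ∈ b • (⊤ : Submodule B T),
      LocalizedModule.mk t' (1 : P.primeCompl) ∈
        (IsLocalRing.maximalIdeal (Localization.AtPrime P)) •
          (⊤ : Submodule (Localization.AtPrime P) (LocalizedModule P.primeCompl T)) := by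
    intro t' ht'
    refine Submodule.smul_induction_on ht' ?_ ?_
    · intro β hβ t₁ _
      have h1 : LocalizedModule.mk (β • t₁) (1 : P.primeCompl) =
          algebraMap B (Localization.AtPrime P) β • LocalizedModule.mk t₁ (1 : P.primeCompl) := by
        rw [algebraMap_smul, LocalizedModule.smul'_mk]
      rw [h1]
      exact Submodule.smul_mem_smul
        ((IsLocalization.AtPrime.to_map_mem_maximal_iff (Localization.AtPrime P) P β).mpr
          (hbP hβ)) Submodule.mem_top
    · intro x y hx hy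
      have h1 : LocalizedModule.mk (x + y) (1 : P.primeCompl) =
          LocalizedModule.mk x (1 : P.primeCompl) + LocalizedModule.mk y (1 : P.primeCompl) := by
        rw [LocalizedModule.mk_add_mk]
        simp
      rw [h1]
      exact Submodule.add_mem _ hx hy
  have hD : ∀ t' ∈ b • (⊤ : Submodule B T), ∀ s : P.primeCompl,
      LocalizedModule.mk t' s ∈
        (IsLocalRing.maximalIdeal (Localization.AtPrime P)) •
          (⊤ : Submodule (Localization.AtPrime P) (LocalizedModule P.primeCompl T)) := by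
    intro t' ht' s
    have h1 : LocalizedModule.mk t' s =
        (Localization.mk 1 s : Localization.AtPrime P) • LocalizedModule.mk t' (1 : P.primeCompl) := by
      rw [LocalizedModule.mk_smul_mk, one_smul, mul_one]
    rw [h1]
    exact Submodule.smul_mem _ _ (hD1 t' ht')
  have hC : ∀ x, LocalizedModule.map P.primeCompl u x = 0 →
      x ∈ (IsLocalRing.maximalIdeal (Localization.AtPrime P)) •
          (⊤ : Submodule (Localization.AtPrime P) (LocalizedModule P.primeCompl T)) := by
    intro x
    refine LocalizedModule.induction_on (fun t s => ?_) x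
    intro hx
    rw [huP, ← LocalizedModule.zero_mk s, LocalizedModule.mk_eq] at hx
    obtain ⟨v, hv⟩ := hx
    rw [smul_zero, smul_zero] at hv
    have hv' : (v : B) • (s : B) • u t = 0 := hv
    have hut : u (((v : B) * (s : B)) • t) = 0 := by
      rw [map_smul, mul_smul]
      exact hv'
    have hmem := hinj _ hut
    have h1 : LocalizedModule.mk t s =
        LocalizedModule.mk (((v : B) * (s : B)) • t) ((v * s) * s) := by
      rw [LocalizedModule.mk_eq]
      refine ⟨1, ?_⟩
      simp only [one_smul, Submonoid.smul_def, Submonoid.coe_mul, mul_smul]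
      rw [smul_comm (s : B) (v : B)]
    rw [h1]
    exact hD _ hmem _
  have hKfg : (LinearMap.range e).FG := by
    rw [LinearMap.range_eq_map]
    exact Module.Finite.fg_top.map e
  have hKle : LinearMap.range e ≤ (IsLocalRing.maximalIdeal (Localization.AtPrime P)) •
      LinearMap.range e := by
    rintro _ ⟨y, rfl⟩
    have h1 := hC (e y) (hu_e y)
    have h2 : e (e y) = e y := he_ker _ (hu_e y)
    rw [← h2, LinearMap.range_eq_map, ← Submodule.map_smul'']
    exact Submodule.mem_map_of_mem h1
  have hK : LinearMap.range e = ⊥ :=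
    Submodule.eq_bot_of_le_smul_of_le_jacobson_bot _ _ hKfg hKle
      (IsLocalRing.maximalIdeal_le_jacobson _)
  intro k hk
  have h1 : LocalizedModule.map P.primeCompl u (LocalizedModule.mk k (1 : P.primeCompl)) = 0 := by
    rw [huP, hk, LocalizedModule.zero_mk]
  have h2 : LocalizedModule.mk k (1 : P.primeCompl) ∈ LinearMap.range e :=
    ⟨_, he_ker _ h1⟩
  rw [hK, Submodule.mem_bot, ← LocalizedModule.zero_mk (1 : P.primeCompl),
    LocalizedModule.mk_eq] at h2
  obtain ⟨v, hv⟩ := h2
  rw [one_smul, one_smul, smul_zero] at hv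
  exact ⟨v, v.2, hv⟩

end Crux

section Aug

variable {A B : Type u} [CommRing A] [CommRing B] [Algebra A B]

/-- the augmentation-ideal part of an element -/
def augPart (σ : B →ₐ[A] A) (x : B) : RingHom.ker σ :=
  ⟨x - algebraMap A B (σ x), by
    rw [RingHom.mem_ker, map_sub, AlgHom.commutes]
    exact sub_self _⟩

theorem coe_augPart (σ : B →ₐ[A] A) (x : B) :
    ((augPart σ x : RingHom.ker σ) : B) = x - algebraMap A B (σ x) := rfl

theorem augPart_add (σ : B →ₐ[A] A) (x y : B) :
    augPart σ (x + y) = augPart σ x + augPart σ y := by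
  apply Subtype.ext
  rw [Submodule.coe_add, coe_augPart, coe_augPart, coe_augPart, map_add, map_add]
  ring

theorem augPart_smul (σ : B →ₐ[A] A) (a : A) (x : B) :
    augPart σ (a • x) = a • augPart σ x := by
  apply Subtype.ext
  show a • x - algebraMap A B (σ (a • x)) = a • (x - algebraMap A B (σ x))
  rw [map_smul, smul_eq_mul, map_mul, smul_sub, Algebra.smul_def a (algebraMap A B (σ x))]

theorem augPart_algebraMap (σ : B →ₐ[A] A) (a : A) : augPart σ (algebraMap A B a) = 0 := by
  apply Subtype.ext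
  rw [coe_augPart, AlgHom.commutes]
  exact sub_self _

theorem augPart_of_mem (σ : B →ₐ[A] A) (x : B) (hx : x ∈ RingHom.ker σ) :
    augPart σ x = ⟨x, hx⟩ := by
  apply Subtype.ext
  rw [coe_augPart, RingHom.mem_ker.mp hx, map_zero, sub_zero]

/-- the conormal derivation, linear part -/
noncomputable def dCotLin (σ : B →ₐ[A] A) : B →ₗ[A] (RingHom.ker σ).Cotangent where
  toFun x := (RingHom.ker σ).toCotangent (augPart σ x)
  map_add' x y := by rw [augPart_add, map_add]
  map_smul' a x := by
    rw [RingHom.id_apply, augPart_smul, LinearMap.map_smul_of_tower]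

/-- the conormal derivation of an augmented algebra -/
noncomputable def dCot (σ : B →ₐ[A] A) : Derivation A B (RingHom.ker σ).Cotangent where
  toLinearMap := dCotLin σ
  map_one_eq_zero' := by
    show (RingHom.ker σ).toCotangent (augPart σ 1) = 0
    have h : augPart σ (1 : B) = 0 := by
      rw [← map_one (algebraMap A B)]
      exact augPart_algebraMap σ 1
    rw [h, map_zero]
  leibniz' x y := by
    show (RingHom.ker σ).toCotangent (augPart σ (x * y)) =
      x • (RingHom.ker σ).toCotangent (augPart σ y) + y • (RingHom.ker σ).toCotangent (augPart σ x)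
    rw [← map_smul, ← map_smul, ← map_add, Ideal.toCotangent_eq]
    have h : ((augPart σ (x * y) : RingHom.ker σ) : B) -
        ((x • augPart σ y + y • augPart σ x : RingHom.ker σ) : B) =
        -(((augPart σ x : RingHom.ker σ) : B) * ((augPart σ y : RingHom.ker σ) : B)) := by
      rw [Submodule.coe_add, Submodule.coe_smul, Submodule.coe_smul, coe_augPart, coe_augPart,
        coe_augPart, smul_eq_mul, smul_eq_mul, map_mul, map_mul]
      ring
    rw [h, pow_two]
    exact neg_mem (Ideal.mul_mem_mul (augPart σ x).2 (augPart σ y).2)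

theorem dCot_apply (σ : B →ₐ[A] A) (x : B) :
    dCot σ x = (RingHom.ker σ).toCotangent (augPart σ x) := rfl

end Aug

section Main

variable {A B C : Type u} [CommRing A] [CommRing B] [CommRing C] [Algebra A B] [Algebra A C]
  [Algebra C B] [IsScalarTower A C B]
  (σ₁ : B →ₐ[A] A) (σ₂ : C →ₐ[A] A)
  (hσ : σ₁.comp (IsScalarTower.toAlgHom A C B) = σ₂)
  (hle : RingHom.ker σ₂ ≤ (RingHom.ker σ₁).comap (IsScalarTower.toAlgHom A C B))

include hσ in
theorem sigma_algebraMap (z : C) : σ₁ (algebraMap C B z) = σ₂ z := by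
  rw [← hσ]
  rfl

include hle in
theorem algebraMap_mem (z : C) (hz : z ∈ RingHom.ker σ₂) : algebraMap C B z ∈ RingHom.ker σ₁ :=
  hle hz

omit [Algebra A C] [IsScalarTower A C B] in
/-- `D w ∈ b • ⊤` for `w ∈ b ^ 2` -/
theorem D_sq_mem (w : B) (hw : w ∈ (RingHom.ker σ₁) ^ 2) :
    KaehlerDifferential.D C B w ∈ (RingHom.ker σ₁) • (⊤ : Submodule B Ω[B⁄C]) := by
  rw [pow_two] at hw
  refine Submodule.mul_induction_on hw ?_ ?_
  · intro p hp q hq
    rw [Derivation.leibniz]
    exact Submodule.add_mem _ (Submodule.smul_mem_smul hp Submodule.mem_top)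
      (Submodule.smul_mem_smul hq Submodule.mem_top)
  · intro x y hx hy
    rw [map_add]
    exact Submodule.add_mem _ hx hy

include hσ hle in
/-- Part 1: the relative differentials vanish near the section -/
theorem kaehler_locally_zero [Algebra.FiniteType C B]
    (hsurj : Function.Surjective (Ideal.mapCotangent (RingHom.ker σ₂) (RingHom.ker σ₁)
      (IsScalarTower.toAlgHom A C B) hle)) :
    ∃ r : B, r - 1 ∈ RingHom.ker σ₁ ∧ ∀ ω : Ω[B⁄C], r • ω = 0 := by
  have key : ∀ x : B, KaehlerDifferential.D C B x ∈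
      (RingHom.ker σ₁) • (⊤ : Submodule B Ω[B⁄C]) := by
    intro x
    obtain ⟨m, hm⟩ := hsurj ((RingHom.ker σ₁).toCotangent (augPart σ₁ x))
    obtain ⟨z, rfl⟩ := Ideal.toCotangent_surjective _ m
    rw [Ideal.mapCotangent_toCotangent, Ideal.toCotangent_eq] at hm
    have hx : x = algebraMap C B (z : C) + algebraMap C B (algebraMap A C (σ₁ x)) -
        (algebraMap C B (z : C) - ((augPart σ₁ x : RingHom.ker σ₁) : B)) := by
      rw [coe_augPart, ← IsScalarTower.algebraMap_apply A C B]
      ring
    rw [hx, map_sub, map_add, Derivation.map_algebraMap, Derivation.map_algebraMap, add_zero,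
      zero_sub]
    exact neg_mem (D_sq_mem σ₁ _ hm)
  have htop : (⊤ : Submodule B Ω[B⁄C]) ≤ (RingHom.ker σ₁) • (⊤ : Submodule B Ω[B⁄C]) := by
    rw [← KaehlerDifferential.span_range_derivation, Submodule.span_le]
    rintro _ ⟨x, rfl⟩
    rw [KaehlerDifferential.span_range_derivation]
    exact key x
  obtain ⟨r, hr1, hr2⟩ := Submodule.exists_sub_one_mem_and_smul_eq_zero_of_fg_of_le_smul
    (RingHom.ker σ₁) (⊤ : Submodule B Ω[B⁄C]) Module.Finite.fg_top htop
  exact ⟨r, hr1, fun ω => hr2 ω Submodule.mem_top⟩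

/-- every element of `B ⊗[C] Ω[C⁄A]` is congruent to some `1 ⊗ D z` modulo `b • ⊤` -/
theorem exists_D_sub_mem (t : B ⊗[C] Ω[C⁄A]) :
    ∃ z : C, t - (1 : B) ⊗ₜ[C] KaehlerDifferential.D A C z ∈
      (RingHom.ker σ₁) • (⊤ : Submodule B (B ⊗[C] Ω[C⁄A])) := by
  have hpure : ∀ ω : Ω[C⁄A], ∀ b' : B, ∃ z : C,
      b' ⊗ₜ[C] ω - (1 : B) ⊗ₜ[C] KaehlerDifferential.D A C z ∈
        (RingHom.ker σ₁) • (⊤ : Submodule B (B ⊗[C] Ω[C⁄A])) := by
    intro ω
    have hω : ω ∈ Submodule.span C (Set.range (KaehlerDifferential.D A C)) := by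
      rw [KaehlerDifferential.span_range_derivation]
      exact Submodule.mem_top
    induction hω using Submodule.span_induction with
    | mem ω' hω' =>
      obtain ⟨z', rfl⟩ := hω'
      intro b'
      refine ⟨algebraMap A C (σ₁ b') * z', ?_⟩
      have h1 : KaehlerDifferential.D A C (algebraMap A C (σ₁ b') * z') =
          algebraMap A C (σ₁ b') • KaehlerDifferential.D A C z' := by
        rw [Derivation.leibniz, Derivation.map_algebraMap, smul_zero, add_zero]
      have h2 : (1 : B) ⊗ₜ[C] (algebraMap A C (σ₁ b') • KaehlerDifferential.D A C z') =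
          (algebraMap A B (σ₁ b')) ⊗ₜ[C] KaehlerDifferential.D A C z' := by
        rw [← TensorProduct.smul_tmul, Algebra.smul_def, mul_one,
          ← IsScalarTower.algebraMap_apply A C B]
      rw [h1, h2, ← TensorProduct.sub_tmul]
      have h3 : (b' - algebraMap A B (σ₁ b')) ⊗ₜ[C] KaehlerDifferential.D A C z' =
          (b' - algebraMap A B (σ₁ b')) • ((1 : B) ⊗ₜ[C] KaehlerDifferential.D A C z') := by
        rw [TensorProduct.smul_tmul', smul_eq_mul, mul_one]
      rw [h3]
      exact Submodule.smul_mem_smul (augPart σ₁ b').2 Submodule.mem_top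
    | zero =>
      intro b'
      refine ⟨0, ?_⟩
      rw [map_zero, TensorProduct.tmul_zero, TensorProduct.tmul_zero, sub_zero]
      exact zero_mem _
    | add ω₁ ω₂ _ _ h₁ h₂ =>
      intro b'
      obtain ⟨z₁, hz₁⟩ := h₁ b'
      obtain ⟨z₂, hz₂⟩ := h₂ b'
      refine ⟨z₁ + z₂, ?_⟩
      have e : b' ⊗ₜ[C] (ω₁ + ω₂) - (1 : B) ⊗ₜ[C] KaehlerDifferential.D A C (z₁ + z₂) =
          (b' ⊗ₜ[C] ω₁ - (1 : B) ⊗ₜ[C] KaehlerDifferential.D A C z₁) +
          (b' ⊗ₜ[C] ω₂ - (1 : B) ⊗ₜ[C] KaehlerDifferential.D A C z₂) := by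
        rw [map_add, TensorProduct.tmul_add, TensorProduct.tmul_add]
        abel
      rw [e]
      exact Submodule.add_mem _ hz₁ hz₂
    | smul c ω' _ h =>
      intro b'
      obtain ⟨z, hz⟩ := h (c • b')
      refine ⟨z, ?_⟩
      rw [← TensorProduct.smul_tmul]
      exact hz
  induction t using TensorProduct.induction_on with
  | zero =>
    refine ⟨0, ?_⟩
    rw [map_zero, TensorProduct.tmul_zero, sub_zero]
    exact zero_mem _
  | tmul b' ω => exact hpure ω b'
  | add t₁ t₂ h₁ h₂ =>
    obtain ⟨z₁, hz₁⟩ := h₁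
    obtain ⟨z₂, hz₂⟩ := h₂
    refine ⟨z₁ + z₂, ?_⟩
    have e : t₁ + t₂ - (1 : B) ⊗ₜ[C] KaehlerDifferential.D A C (z₁ + z₂) =
        (t₁ - (1 : B) ⊗ₜ[C] KaehlerDifferential.D A C z₁) +
        (t₂ - (1 : B) ⊗ₜ[C] KaehlerDifferential.D A C z₂) := by
      rw [map_add, TensorProduct.tmul_add]
      abel
    rw [e]
    exact Submodule.add_mem _ hz₁ hz₂

include hle in
/-- `1 ⊗ D w ∈ b • ⊤` for `w ∈ c ^ 2` -/
theorem one_tmul_D_sq_mem (w : C) (hw : w ∈ (RingHom.ker σ₂) ^ 2) :
    (1 : B) ⊗ₜ[C] KaehlerDifferential.D A C w ∈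
      (RingHom.ker σ₁) • (⊤ : Submodule B (B ⊗[C] Ω[C⁄A])) := by
  rw [pow_two] at hw
  refine Submodule.mul_induction_on hw ?_ ?_
  · intro p hp q hq
    have h1 : ∀ (p q : C), p ∈ RingHom.ker σ₂ →
        (1 : B) ⊗ₜ[C] (p • KaehlerDifferential.D A C q) ∈
          (RingHom.ker σ₁) • (⊤ : Submodule B (B ⊗[C] Ω[C⁄A])) := by
      intro p q hp
      have e : (1 : B) ⊗ₜ[C] (p • KaehlerDifferential.D A C q) =
          (algebraMap C B p) • ((1 : B) ⊗ₜ[C] KaehlerDifferential.D A C q) := by
        rw [← TensorProduct.smul_tmul, Algebra.smul_def, mul_one, TensorProduct.smul_tmul',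
          smul_eq_mul, mul_one]
      rw [e]
      exact Submodule.smul_mem_smul (algebraMap_mem σ₁ σ₂ hle p hp) Submodule.mem_top
    rw [Derivation.leibniz, TensorProduct.tmul_add]
    exact Submodule.add_mem _ (h1 p q hp) (h1 q p hq)
  · intro x y hx hy
    rw [map_add, TensorProduct.tmul_add]
    exact Submodule.add_mem _ hx hy

include hσ hle in
/-- the kernel of `B ⊗[C] Ω[C⁄A] → Ω[B⁄A]` lies in `b • ⊤` -/
theorem ker_mapBaseChange_le
    (hinj : Function.Injective (Ideal.mapCotangent (RingHom.ker σ₂) (RingHom.ker σ₁)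
      (IsScalarTower.toAlgHom A C B) hle))
    (t : B ⊗[C] Ω[C⁄A]) (ht : KaehlerDifferential.mapBaseChange A C B t = 0) :
    t ∈ (RingHom.ker σ₁) • (⊤ : Submodule B (B ⊗[C] Ω[C⁄A])) := by
  obtain ⟨z, hz⟩ := exists_D_sub_mem σ₁ t
  -- the composite to the conormal module kills `b • ⊤`
  have hkill : ∀ v ∈ (RingHom.ker σ₁) • (⊤ : Submodule B (B ⊗[C] Ω[C⁄A])),
      (dCot σ₁).liftKaehlerDifferential (KaehlerDifferential.mapBaseChange A C B v) = 0 := by
    intro v hv
    refine Submodule.smul_induction_on hv ?_ ?_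
    · intro β hβ t₁ _
      rw [map_smul, map_smul]
      exact Ideal.Cotangent.smul_eq_zero_of_mem hβ _
    · intro x y hx hy
      rw [map_add, map_add, hx, hy, add_zero]
  have h1 := hkill _ hz
  rw [map_sub, map_sub, ht, map_zero, zero_sub, neg_eq_zero,
    KaehlerDifferential.mapBaseChange_tmul, one_smul, KaehlerDifferential.map_D,
    Derivation.liftKaehlerDifferential_comp_D, dCot_apply] at h1
  -- transport to the conormal module of `C`
  have h2 : Ideal.mapCotangent (RingHom.ker σ₂) (RingHom.ker σ₁)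
      (IsScalarTower.toAlgHom A C B) hle ((RingHom.ker σ₂).toCotangent (augPart σ₂ z)) =
      (RingHom.ker σ₁).toCotangent (augPart σ₁ (algebraMap C B z)) := by
    rw [Ideal.mapCotangent_toCotangent]
    congr 1
    apply Subtype.ext
    show (IsScalarTower.toAlgHom A C B) (z - algebraMap A C (σ₂ z)) =
      algebraMap C B z - algebraMap A B (σ₁ (algebraMap C B z))
    rw [sigma_algebraMap σ₁ σ₂ hσ, map_sub, IsScalarTower.algebraMap_apply A C B]
    rfl
  rw [← h2] at h1
  have h3 : (RingHom.ker σ₂).toCotangent (augPart σ₂ z) = 0 := hinj (by rw [h1, map_zero])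
  rw [Ideal.toCotangent_eq_zero, coe_augPart] at h3
  have h4 : KaehlerDifferential.D A C z =
      KaehlerDifferential.D A C (z - algebraMap A C (σ₂ z)) := by
    rw [map_sub, Derivation.map_algebraMap, sub_zero]
  have h5 := one_tmul_D_sq_mem σ₁ σ₂ hle _ h3
  rw [← h4] at h5
  have e : t = (t - (1 : B) ⊗ₜ[C] KaehlerDifferential.D A C z) +
      (1 : B) ⊗ₜ[C] KaehlerDifferential.D A C z := by abel
  rw [e]
  exact Submodule.add_mem _ hz h5

include hσ hle in
/-- Assembly: étaleness at primes containing the augmentation ideal. -/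
theorem main [Algebra.FinitePresentation A B] [Algebra.FiniteType A C]
    (hcot : Function.Bijective (Ideal.mapCotangent (RingHom.ker σ₂) (RingHom.ker σ₁)
      (IsScalarTower.toAlgHom A C B) hle))
    (hsm : ∀ (P : Ideal B) [P.IsPrime], RingHom.ker σ₁ ≤ P → Algebra.IsSmoothAt A P)
    (P : Ideal B) [P.IsPrime] (hP : RingHom.ker σ₁ ≤ P) : Algebra.IsEtaleAt C P := by
  haveI : Algebra.FiniteType A B := inferInstance
  haveI : Algebra.FiniteType C B := Algebra.FiniteType.of_restrictScalars_finiteType A C B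
  obtain ⟨r, hr1, hr2⟩ := kaehler_locally_zero σ₁ σ₂ hσ hle hcot.surjective
  have hrP : r ∉ P := by
    intro h
    have h1 : (1 : B) ∈ P := by
      have : (1 : B) = r - (r - 1) := by ring
      rw [this]
      exact P.sub_mem h (hP hr1)
    exact (Ideal.ne_top_iff_one P).mp (Ideal.IsPrime.ne_top inferInstance) h1
  have hs : (⟨P, inferInstance⟩ : PrimeSpectrum B) ∈ Algebra.smoothLocus A B := hsm P hP
  rw [Algebra.smoothLocus_eq_compl_support_inter] at hs
  have hs1 := hs.1
  have hs2 : Module.Free (Localization.AtPrime P) (LocalizedModule P.primeCompl Ω[B⁄A]) := hs.2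
  rw [Set.mem_compl_iff, Module.notMem_support_iff'] at hs1
  show (⟨P, inferInstance⟩ : PrimeSpectrum B) ∈ Algebra.etaleLocus C B
  rw [Algebra.etaleLocus_eq_compl_support]
  refine ⟨?_, ?_⟩
  · rw [Set.mem_compl_iff, Module.notMem_support_iff']
    intro ω
    exact ⟨r, hrP, hr2 ω⟩
  · rw [Set.mem_compl_iff, Module.notMem_support_iff']
    intro m
    have hsurj' : ∀ ω : Ω[B⁄A], ∃ r', r' ∉ P ∧
        r' • ω ∈ LinearMap.range (KaehlerDifferential.mapBaseChange A C B) := by
      intro ω
      refine ⟨r, hrP, ?_⟩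
      have hex := KaehlerDifferential.exact_mapBaseChange_map A C B
      have h1 : KaehlerDifferential.map A C B B (r • ω) = 0 := by
        rw [map_smul]
        exact hr2 _
      obtain ⟨y, hy⟩ := (hex (r • ω)).mp h1
      exact ⟨y, hy⟩
    have hker := ker_locally_zero (KaehlerDifferential.mapBaseChange A C B) P (RingHom.ker σ₁) hP
      hs2 hsurj' (ker_mapBaseChange_le σ₁ σ₂ hσ hle hcot.injective)
    have h0 : KaehlerDifferential.mapBaseChange A C B (Algebra.H1Cotangent.δ A C B m) = 0 :=
      (Algebra.H1Cotangent.exact_δ_mapBaseChange A C B _).mpr ⟨m, rfl⟩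
    obtain ⟨r₁, hr₁P, hr₁⟩ := hker _ h0
    rw [← map_smul] at hr₁
    obtain ⟨m', hm'⟩ := (Algebra.H1Cotangent.exact_map_δ A C B _).mp hr₁
    obtain ⟨r₂, hr₂P, hr₂⟩ := hs1 m'
    refine ⟨r₂ * r₁, ?_, ?_⟩
    · intro h
      rcases (Ideal.IsPrime.mem_or_mem inferInstance h) with h | h
      · exact hr₂P h
      · exact hr₁P h
    · rw [mul_smul, ← hm', ← map_smul, hr₂, map_zero]

end Main

end Groth.Agent.Lib.EtSectH1
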