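import Mathlib
import Groth.Prelude.Def_SGA4b
import Groth.Agent.Lib.EtShDesc6_helper7

/-!
# Descent of subsheaves: saturation of the local image locus (helper7)

For `f : X ⟶ S`, `F` a sheaf of sets on `S_ét`, a subsheaf `a' : G' ⟶ f⁻¹ F` carrying a descent
datum compatible with the canonical one of `f⁻¹ F`, and a section `x` of `F` over `U`, the locus
of `U ×_S X` where `υ x` lies locally in `G'` is a union of fibres of `U ×_S X ⟶ U`.
-/

set_option autoImplicit false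
set_option backward.isDefEq.respectTransparency false
set_option linter.style.haveILetI false
set_option linter.unusedSectionVars false
universe u
open CategoryTheory CategoryTheory.Limits AlgebraicGeometry Opposite

namespace Groth.Agent.Lib.EtShDescH7

open Groth.Agent.Lib.EtFinGeomH7 Groth.Agent.Lib.EtSchSite_helper7
  Groth.Agent.Lib.EtSchExact_helper7 Groth.Agent.Lib.EtFinStalkH7
  Groth.Agent.Lib.EtSchStalk_helper7 Groth.Agent.Lib.EtFinBCH7
  Groth.Agent.Lib.EtIntH7 Groth.Agent.Lib.EtFinStalkShH7 Groth.Agent.Lib.EtIntShH7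
  Groth.Agent.Lib.EtSchPullConserv_helper7 Groth.Agent.Lib.Kummer_helper7

variable {X S : Scheme.{u}} (f : X ⟶ S) (F : EtDesc.Sh S)

section Pt

variable {K : Type u} [Field K] [IsAlgClosed K]

/-- The canonical isomorphism `Θ` matches the geometric points `(l₁, z)` and `(l₂, z)`. -/
theorem Θ_liftPt (U : S.Etale) (z : Spec (CommRingCat.of K) ⟶ pullback f f)
    (l₁ : (Scheme.pointSmallEtale (z ≫ pullback.fst f f)).fiber.obj ((EtCoh.bc f).obj U))
    (l₂ : (Scheme.pointSmallEtale (z ≫ pullback.snd f f)).fiber.obj ((EtCoh.bc f).obj U))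
    (h : ptLeft l₁ ≫ pr₁ f U = ptLeft l₂ ≫ pr₁ f U) :
    (Scheme.pointSmallEtale z).fiber.map (Θ f U)
      (liftPt (pullback.fst f f) z rfl ((EtCoh.bc f).obj U) l₁) =
    liftPt (pullback.snd f f) z rfl ((EtCoh.bc f).obj U) l₂ := by
  have e2 : (Θ f U).left ≫ ((EtCoh.bc (pullback.snd f f)).obj ((EtCoh.bc f).obj U)).hom =
      ((EtCoh.bc (pullback.fst f f)).obj ((EtCoh.bc f).obj U)).hom :=
    MorphismProperty.Over.w (Θ f U)
  apply ptLeft_ext
  rw [ptLeft_map]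
  apply bc_hom_ext (pullback.snd f f) ((EtCoh.bc f).obj U)
  · have e1 : ptLeft (liftPt (pullback.snd f f) z rfl ((EtCoh.bc f).obj U) l₂) ≫
        pr₁ (pullback.snd f f) ((EtCoh.bc f).obj U) = ptLeft l₂ := liftPt_pr₁ _ _ _ _ _
    rw [e1]
    apply bc_hom_ext f U
    · rw [Category.assoc, Category.assoc, Θ_fst, ← Category.assoc, liftPt_pr₁, h]
    · rw [Category.assoc, Category.assoc, pr₁_hom, ← Category.assoc (Θ f U).left, e2,
        ← Category.assoc, liftPt_hom, ptLeft_hom]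
  · rw [Category.assoc, e2, liftPt_hom, liftPt_hom]

end Pt

section Sat

variable (G' : EtDesc.Sh X) (a' : G' ⟶ (EtDesc.pullSh f).obj F)
  (φ : (EtDesc.pullSh (pullback.fst f f)).obj G' ⟶ (EtDesc.pullSh (pullback.snd f f)).obj G')

set_option maxHeartbeats 1600000 in
/-- Saturation of the local image locus, with the descent datum of `f⁻¹ F` abstracted. -/
theorem sat_locIm_aux
    (C : (EtDesc.pullSh (pullback.fst f f)).obj ((EtDesc.pullSh f).obj F) ⟶
      (EtDesc.pullSh (pullback.snd f f)).obj ((EtDesc.pullSh f).obj F))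
    (hCu : ∀ (U : S.Etale) (x : F.obj.obj (op U)),
      C.hom.app (op ((EtCoh.bc (pullback.fst f f)).obj ((EtCoh.bc f).obj U)))
        (υ (pullback.fst f f) ((EtDesc.pullSh f).obj F) ((EtCoh.bc f).obj U) (υ f F U x)) =
      ((EtDesc.pullSh (pullback.snd f f)).obj ((EtDesc.pullSh f).obj F)).obj.map (Θ f U).op
        (υ (pullback.snd f f) ((EtDesc.pullSh f).obj F) ((EtCoh.bc f).obj U) (υ f F U x)))
    (hφ : φ ≫ (EtDesc.pullSh (pullback.snd f f)).map a' =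
      (EtDesc.pullSh (pullback.fst f f)).map a' ≫ C)
    (U : S.Etale) (x : F.obj.obj (op U)) (p p' : ((EtCoh.bc f).obj U).left)
    (hpp : pr₁ f U p' = pr₁ f U p)
    (hp : LocIm a' ((EtCoh.bc f).obj U) (υ f F U x) p) :
    LocIm a' ((EtCoh.bc f).obj U) (υ f F U x) p' := by
  obtain ⟨V₁, γ, v₁, w₁, hv₁, hw₁⟩ := hp
  have hpp' : (γ.left ≫ pr₁ f U) v₁ = pr₁ f U p' := by
    have h1 : (γ.left ≫ pr₁ f U) v₁ = pr₁ f U (γ.left v₁) := Scheme.Hom.comp_apply _ _ _
    rw [h1, hv₁, hpp]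
  obtain ⟨w₀, hw1, hw2⟩ := Scheme.Pullback.exists_preimage_pullback
    (f := γ.left ≫ pr₁ f U) (g := pr₁ f U) v₁ p' hpp'
  obtain ⟨K, hK1, hK2, g₀, hg₀⟩ := exists_geometric_point w₀
  obtain ⟨ζ₁, hζ₁⟩ : ∃ ζ₁ : Spec (CommRingCat.of K) ⟶ V₁.left,
      ζ₁ = g₀ ≫ pullback.fst (γ.left ≫ pr₁ f U) (pr₁ f U) := ⟨_, rfl⟩
  obtain ⟨ζ₂, hζ₂⟩ : ∃ ζ₂ : Spec (CommRingCat.of K) ⟶ ((EtCoh.bc f).obj U).left,
      ζ₂ = g₀ ≫ pullback.snd (γ.left ≫ pr₁ f U) (pr₁ f U) := ⟨_, rfl⟩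
  have hζp' : ζ₂ default = p' := by
    rw [hζ₂, Scheme.Hom.comp_apply, hg₀]
    exact hw2
  have hζ : (ζ₁ ≫ γ.left) ≫ pr₁ f U = ζ₂ ≫ pr₁ f U := by
    rw [hζ₁, hζ₂]
    simp only [Category.assoc]
    rw [pullback.condition]
  have hV₁ : V₁.hom = γ.left ≫ ((EtCoh.bc f).obj U).hom := (MorphismProperty.Over.w γ).symm
  have hz0 : (ζ₁ ≫ V₁.hom) ≫ f = (ζ₂ ≫ ((EtCoh.bc f).obj U).hom) ≫ f := by
    have h1 := congrArg (fun k => k ≫ U.hom) hζ
    simp only [Category.assoc] at h1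
    rw [hV₁]
    simp only [Category.assoc]
    rw [← pr₁_hom]
    exact h1
  obtain ⟨z, hz1, hz2⟩ : ∃ z : Spec (CommRingCat.of K) ⟶ pullback f f,
      z ≫ pullback.fst f f = ζ₁ ≫ V₁.hom ∧
      z ≫ pullback.snd f f = ζ₂ ≫ ((EtCoh.bc f).obj U).hom :=
    ⟨pullback.lift _ _ hz0, pullback.lift_fst _ _ _, pullback.lift_snd _ _ _⟩
  obtain ⟨l₁, hl₁⟩ : ∃ l₁ : (Scheme.pointSmallEtale (z ≫ pullback.fst f f)).fiber.obj V₁,
      ptLeft l₁ = ζ₁ := ⟨Over.homMk ζ₁ hz1.symm, rfl⟩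
  obtain ⟨l₂, hl₂⟩ : ∃ l₂ : (Scheme.pointSmallEtale (z ≫ pullback.snd f f)).fiber.obj
      ((EtCoh.bc f).obj U), ptLeft l₂ = ζ₂ := ⟨Over.homMk ζ₂ hz2.symm, rfl⟩
  obtain ⟨L₁, hL₁⟩ : ∃ L₁, L₁ = liftPt (pullback.fst f f) z rfl V₁ l₁ := ⟨_, rfl⟩
  obtain ⟨L₂, hL₂⟩ : ∃ L₂, L₂ = liftPt (pullback.snd f f) z rfl ((EtCoh.bc f).obj U) l₂ :=
    ⟨_, rfl⟩
  -- Step A: the germ of `φ (υ w₁)` comes from a germ of `G'` at `z ≫ pr₂`
  obtain ⟨e, he⟩ := stalkPull_inv_surjective (pullback.snd f f) G' z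
    ((Scheme.pointSmallEtale z).toPresheafFiber ((EtCoh.bc (pullback.fst f f)).obj V₁) L₁
      ((EtDesc.pullSh (pullback.snd f f)).obj G').obj
      (φ.hom.app (op ((EtCoh.bc (pullback.fst f f)).obj V₁)) (υ (pullback.fst f f) G' V₁ w₁)))
  obtain ⟨V₂, l₂', w₂, rfl⟩ :=
    (Scheme.pointSmallEtale (z ≫ pullback.snd f f)).toPresheafFiber_jointly_surjective
      (P := G'.obj) e
  have hA := unit_germ (pullback.snd f f) G' z V₂ l₂' w₂
  have hE : (Scheme.pointSmallEtale z).toPresheafFiber ((EtCoh.bc (pullback.snd f f)).obj V₂)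
      (liftPt (pullback.snd f f) z rfl V₂ l₂') ((EtDesc.pullSh (pullback.snd f f)).obj G').obj
      (υ (pullback.snd f f) G' V₂ w₂) =
    (Scheme.pointSmallEtale z).toPresheafFiber ((EtCoh.bc (pullback.fst f f)).obj V₁) L₁
      ((EtDesc.pullSh (pullback.snd f f)).obj G').obj
      (φ.hom.app (op ((EtCoh.bc (pullback.fst f f)).obj V₁))
        (υ (pullback.fst f f) G' V₁ w₁)) :=
    hA.symm.trans he
  -- Step B: apply `pr₂^* a'`
  obtain ⟨P₂, hP₂⟩ : ∃ P₂, P₂ = (EtDesc.pullSh (pullback.snd f f)).map a' := ⟨_, rfl⟩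
  obtain ⟨P₁, hP₁⟩ : ∃ P₁, P₁ = (EtDesc.pullSh (pullback.fst f f)).map a' := ⟨_, rfl⟩
  rw [← hP₁, ← hP₂] at hφ
  have hB := congrArg (fun y => (Scheme.pointSmallEtale z).presheafFiber.map P₂.hom y) hE
  have hB' := ((Scheme.pointSmallEtale z).toPresheafFiber_naturality_apply P₂.hom _ _ _).symm.trans
    (hB.trans ((Scheme.pointSmallEtale z).toPresheafFiber_naturality_apply P₂.hom _ L₁ _))
  have hi2 : P₂.hom.app (op ((EtCoh.bc (pullback.snd f f)).obj V₂))
      (υ (pullback.snd f f) G' V₂ w₂) =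
      υ (pullback.snd f f) ((EtDesc.pullSh f).obj F) V₂ (a'.hom.app (op V₂) w₂) := by
    rw [hP₂]
    exact (unit_nat_sheaf (pullback.snd f f) a' V₂ w₂).symm
  have hr1 : P₂.hom.app (op ((EtCoh.bc (pullback.fst f f)).obj V₁))
      (φ.hom.app (op ((EtCoh.bc (pullback.fst f f)).obj V₁)) (υ (pullback.fst f f) G' V₁ w₁)) =
      C.hom.app (op ((EtCoh.bc (pullback.fst f f)).obj V₁))
        (P₁.hom.app (op ((EtCoh.bc (pullback.fst f f)).obj V₁))
          (υ (pullback.fst f f) G' V₁ w₁)) :=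
    congrArg (fun (m : (EtDesc.pullSh (pullback.fst f f)).obj G' ⟶
      (EtDesc.pullSh (pullback.snd f f)).obj ((EtDesc.pullSh f).obj F)) =>
      m.hom.app (op ((EtCoh.bc (pullback.fst f f)).obj V₁)) (υ (pullback.fst f f) G' V₁ w₁)) hφ
  have hr2 : P₁.hom.app (op ((EtCoh.bc (pullback.fst f f)).obj V₁))
      (υ (pullback.fst f f) G' V₁ w₁) =
      υ (pullback.fst f f) ((EtDesc.pullSh f).obj F) V₁ (a'.hom.app (op V₁) w₁) := by
    rw [hP₁]
    exact (unit_nat_sheaf (pullback.fst f f) a' V₁ w₁).symm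
  have hr3 : υ (pullback.fst f f) ((EtDesc.pullSh f).obj F) V₁ (a'.hom.app (op V₁) w₁) =
      ((EtDesc.pullSh (pullback.fst f f)).obj ((EtDesc.pullSh f).obj F)).obj.map
        ((EtCoh.bc (pullback.fst f f)).map γ).op
        (υ (pullback.fst f f) ((EtDesc.pullSh f).obj F) ((EtCoh.bc f).obj U) (υ f F U x)) := by
    rw [hw₁]
    exact unit_nat (pullback.fst f f) ((EtDesc.pullSh f).obj F) γ (υ f F U x)
  have hr4 := hom_map_apply C ((EtCoh.bc (pullback.fst f f)).map γ)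
    (υ (pullback.fst f f) ((EtDesc.pullSh f).obj F) ((EtCoh.bc f).obj U) (υ f F U x))
  have hr : P₂.hom.app (op ((EtCoh.bc (pullback.fst f f)).obj V₁))
      (φ.hom.app (op ((EtCoh.bc (pullback.fst f f)).obj V₁)) (υ (pullback.fst f f) G' V₁ w₁)) =
      ((EtDesc.pullSh (pullback.snd f f)).obj ((EtDesc.pullSh f).obj F)).obj.map
        ((EtCoh.bc (pullback.fst f f)).map γ).op
        (((EtDesc.pullSh (pullback.snd f f)).obj ((EtDesc.pullSh f).obj F)).obj.map (Θ f U).op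
          (υ (pullback.snd f f) ((EtDesc.pullSh f).obj F) ((EtCoh.bc f).obj U)
            (υ f F U x))) :=
    hr1.trans ((congrArg (fun t => C.hom.app (op ((EtCoh.bc (pullback.fst f f)).obj V₁)) t)
      (hr2.trans hr3)).trans (hr4.trans
        (congrArg (fun t => ((EtDesc.pullSh (pullback.snd f f)).obj
          ((EtDesc.pullSh f).obj F)).obj.map ((EtCoh.bc (pullback.fst f f)).map γ).op t)
          (hCu U x))))
  rw [hi2, hr, (Scheme.pointSmallEtale z).toPresheafFiber_w_apply,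
    (Scheme.pointSmallEtale z).toPresheafFiber_w_apply] at hB'
  -- the image point
  have hL : (Scheme.pointSmallEtale z).fiber.map (Θ f U)
      ((Scheme.pointSmallEtale z).fiber.map ((EtCoh.bc (pullback.fst f f)).map γ) L₁) = L₂ := by
    rw [hL₁, hL₂, liftPt_map]
    apply Θ_liftPt
    rw [ptLeft_map, hl₁, hl₂]
    exact hζ
  rw [hL, hL₂] at hB'
  -- Step C: descend along `pr₂`
  have hD := stalkPull_inv_injective (pullback.snd f f) ((EtDesc.pullSh f).obj F) z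
    ((unit_germ (pullback.snd f f) ((EtDesc.pullSh f).obj F) z V₂ l₂'
      (a'.hom.app (op V₂) w₂)).trans
      (hB'.trans (unit_germ (pullback.snd f f) ((EtDesc.pullSh f).obj F) z _ l₂
        (υ f F U x)).symm))
  have hfin := locIm_of_germ a' (z ≫ pullback.snd f f) ((EtCoh.bc f).obj U) V₂ l₂ l₂'
    (υ f F U x) w₂ hD.symm
  rw [hl₂, hζp'] at hfin
  exact hfin

/-- Saturation of the local image locus of a subsheaf with descent datum. -/
theorem sat_locIm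
    (hφ : φ ≫ (EtDesc.pullSh (pullback.snd f f)).map a' =
      (EtDesc.pullSh (pullback.fst f f)).map a' ≫ (EtDesc.canIso f F).hom)
    (U : S.Etale) (x : F.obj.obj (op U)) (p p' : ((EtCoh.bc f).obj U).left)
    (hpp : pr₁ f U p' = pr₁ f U p)
    (hp : LocIm a' ((EtCoh.bc f).obj U) (υ f F U x) p) :
    LocIm a' ((EtCoh.bc f).obj U) (υ f F U x) p' :=
  sat_locIm_aux f F G' a' φ (EtDesc.canIso f F).hom
    (fun U x => canIso_unit f F U x (Θ f U) (Θ_fst f U)) hφ U x p p' hpp hp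

end Sat

end Groth.Agent.Lib.EtShDescH7
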