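import Mathlib
import Groth.Prelude.Def_SGA4b
import Groth.Agent.Lib.EtShDesc7_helper7

/-!
# Descent of subsheaves of étale sheaves of sets along a universally submersive morphism (helper7)

`main5595`: for `f : X ⟶ S` universally submersive and `F` a sheaf of sets on `S_ét`,
(a) subsheaves of `F` with the same inverse image agree, and (b) a subsheaf of `f⁻¹ F`
compatible with the canonical descent datum is the inverse image of a subsheaf of `F`.
-/

set_option autoImplicit false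
set_option backward.isDefEq.respectTransparency false
set_option linter.style.haveILetI false
set_option linter.unusedSectionVars false
universe u
open CategoryTheory CategoryTheory.Limits AlgebraicGeometry Opposite

namespace Groth.Agent.Lib.EtShDescH7

open Groth.Agent.Lib.EtFinGeomH7 Groth.Agent.Lib.EtSchSite_helper7
  Groth.Agent.Lib.EtSchExact_helper7 Groth.Agent.Lib.EtFinStalkH7
  Groth.Agent.Lib.EtSchStalk_helper7 Groth.Agent.Lib.EtFinBCH7
  Groth.Agent.Lib.EtIntH7 Groth.Agent.Lib.EtFinStalkShH7 Groth.Agent.Lib.EtIntShH7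
  Groth.Agent.Lib.EtSchPullConserv_helper7 Groth.Agent.Lib.Kummer_helper7

section Cat

variable {𝒞 : Type*} [Category 𝒞]

theorem iso_sq {P Q R P' Q' R' : 𝒞} (A : P ≅ Q) (B : R ≅ Q) (A' : P' ≅ Q') (B' : R' ≅ Q')
    (mp : P ⟶ P') (mq : Q ⟶ Q') (mr : R ⟶ R')
    (h1 : A.hom ≫ mq = mp ≫ A'.hom) (h2 : B.hom ≫ mq = mr ≫ B'.hom) :
    (A ≪≫ B.symm).hom ≫ mr = mp ≫ (A' ≪≫ B'.symm).hom := by
  have h3 : B.inv ≫ mr = mq ≫ B'.inv := by
    rw [Iso.inv_comp_eq, ← Category.assoc, h2, Category.assoc, Iso.hom_inv_id, Category.comp_id]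
  calc (A ≪≫ B.symm).hom ≫ mr = A.hom ≫ (B.inv ≫ mr) := by
        rw [Iso.trans_hom, Iso.symm_hom, Category.assoc]
    _ = A.hom ≫ (mq ≫ B'.inv) := by rw [h3]
    _ = (A.hom ≫ mq) ≫ B'.inv := (Category.assoc _ _ _).symm
    _ = (mp ≫ A'.hom) ≫ B'.inv := by rw [h1]
    _ = mp ≫ (A' ≪≫ B'.symm).hom := by
        rw [Iso.trans_hom, Iso.symm_hom, Category.assoc]

theorem cancel_sq {P₁ P₂ PF Q₁ Q₂ QF : 𝒞} (C₁ : P₁ ⟶ Q₁) (C₂ : P₂ ⟶ Q₂) (CF : PF ⟶ QF)
    (φp : P₁ ⟶ P₂) (φq : Q₁ ⟶ Q₂) (ap₁ : P₁ ⟶ PF) (ap₂ : P₂ ⟶ PF) (aq₁ : Q₁ ⟶ QF)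
    (aq₂ : Q₂ ⟶ QF) [Mono aq₂] (hn1 : C₁ ≫ aq₁ = ap₁ ≫ CF) (hn2 : C₂ ≫ aq₂ = ap₂ ≫ CF)
    (e1 : φq ≫ aq₂ = aq₁) (e2 : φp ≫ ap₂ = ap₁) : C₁ ≫ φq = φp ≫ C₂ := by
  apply (cancel_mono aq₂).1
  calc (C₁ ≫ φq) ≫ aq₂ = C₁ ≫ (φq ≫ aq₂) := Category.assoc _ _ _
    _ = C₁ ≫ aq₁ := by rw [e1]
    _ = ap₁ ≫ CF := hn1
    _ = (φp ≫ ap₂) ≫ CF := by rw [e2]
    _ = φp ≫ (ap₂ ≫ CF) := Category.assoc _ _ _
    _ = φp ≫ (C₂ ≫ aq₂) := by rw [hn2]
    _ = (φp ≫ C₂) ≫ aq₂ := (Category.assoc _ _ _).symm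

end Cat

section Nat

theorem pullVia_naturality {T S' X' : Scheme.{u}} (g : T ⟶ S') (a : S' ⟶ X') (b : T ⟶ X')
    (w : g ≫ a = b) {F F' : EtDesc.Sh X'} (m : F ⟶ F') :
    (EtDesc.pullVia g a b w F).hom ≫ (EtDesc.pullSh b).map m =
      (EtDesc.pullSh g).map ((EtDesc.pullSh a).map m) ≫ (EtDesc.pullVia g a b w F').hom :=
  (((EtDesc.pullCompSh g a).symm ≪≫ EtDesc.pullCongrSh w).hom.naturality m).symm

variable {X S : Scheme.{u}} (f : X ⟶ S)

theorem canIso_naturality {F F' : EtDesc.Sh S} (m : F ⟶ F') :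
    (EtDesc.canIso f F).hom ≫
        (EtDesc.pullSh (pullback.snd f f)).map ((EtDesc.pullSh f).map m) =
      (EtDesc.pullSh (pullback.fst f f)).map ((EtDesc.pullSh f).map m) ≫
        (EtDesc.canIso f F').hom := by
  unfold EtDesc.canIso
  exact iso_sq _ _ _ _ _ _ _ (pullVia_naturality _ _ _ _ m) (pullVia_naturality _ _ _ _ m)

end Nat

variable {X S : Scheme.{u}} (f : X ⟶ S) (F : EtDesc.Sh S)

section Part2

variable (hsub : ∀ (S' : Scheme.{u}) (g : S' ⟶ S), Topology.IsQuotientMap (pullback.snd f g).base)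
  (G' : EtDesc.Sh X) (a' : G' ⟶ (EtDesc.pullSh f).obj F) [Mono a']
  (φ : (EtDesc.pullSh (pullback.fst f f)).obj G' ⟶ (EtDesc.pullSh (pullback.snd f f)).obj G')
  (hφ : φ ≫ (EtDesc.pullSh (pullback.snd f f)).map a' =
    (EtDesc.pullSh (pullback.fst f f)).map a' ≫ (EtDesc.canIso f F).hom)

include hsub hφ in
/-- Around a point where `υ x` lies locally in `G'`, the section `x` restricted to an open
neighbourhood `U''` of the image point has `υ (x|U'')` globally in `G'`. -/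
theorem exists_sub_section (U : S.Etale) (x : F.obj.obj (op U)) (q : ((EtCoh.bc f).obj U).left)
    (hq : LocIm a' ((EtCoh.bc f).obj U) (υ f F U x) q) :
    ∃ (U'' : S.Etale) (ι : U'' ⟶ U) (w'' : G'.obj.obj (op ((EtCoh.bc f).obj U'')))
      (q'' : ((EtCoh.bc f).obj U'').left),
      ((EtCoh.bc f).map ι).left q'' = q ∧
      a'.hom.app (op ((EtCoh.bc f).obj U'')) w'' = υ f F U'' (F.obj.map ι.op x) := by
  obtain ⟨M, hM⟩ : ∃ M : Set ((EtCoh.bc f).obj U).left,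
      M = {p | LocIm a' ((EtCoh.bc f).obj U) (υ f F U x) p} := ⟨_, rfl⟩
  have hMmem : ∀ p, p ∈ M ↔ LocIm a' ((EtCoh.bc f).obj U) (υ f F U x) p := by
    intro p
    rw [hM]
    exact Iff.rfl
  have hMopen : IsOpen M := by
    rw [hM]
    exact isOpen_locIm a' _ _
  have hsat : ∀ p p', p ∈ M → pr₁ f U p' = pr₁ f U p → p' ∈ M := by
    intro p p' hp h
    rw [hMmem] at hp ⊢
    exact sat_locIm f F G' a' φ hφ U x p p' h hp
  have hopen : IsOpen (pr₁ f U '' M) := by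
    apply EtSubmH7.isOpen_of_isOpen_preimage_pr₁ f hsub U
    have h1 : pr₁ f U ⁻¹' (pr₁ f U '' M) = M := by
      ext p'
      constructor
      · rintro ⟨p, hp, hpp⟩
        exact hsat p p' hp hpp.symm
      · intro hp'
        exact ⟨p', hp', rfl⟩
    rw [h1]
    exact hMopen
  obtain ⟨O, hO⟩ : ∃ O : U.left.Opens, ∀ u, u ∈ O ↔ ∃ p, p ∈ M ∧ pr₁ f U p = u :=
    ⟨⟨_, hopen⟩, fun u => Iff.rfl⟩
  have hMO : ∀ p, p ∈ M ↔ pr₁ f U p ∈ O := by
    intro p
    rw [hO]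
    exact ⟨fun hp => ⟨p, hp, rfl⟩, fun ⟨p₀, hp₀, h⟩ => hsat p₀ p hp₀ h.symm⟩
  have hall : ∀ p'' : ((EtCoh.bc f).obj (subE U O)).left,
      LocIm a' ((EtCoh.bc f).obj (subE U O))
        (υ f F (subE U O) (F.obj.map (subι U O).op x)) p'' := by
    intro p''
    rw [unit_nat]
    apply locIm_map
    rw [← hMmem, hMO, EtSubmH7.pr₁_map_apply]
    exact (pr₁ f (subE U O) p'').2
  obtain ⟨w'', hw''⟩ := mono_glue a' _ _ hall
  have hqO : pr₁ f U q ∈ O := (hMO q).1 ((hMmem q).2 hq)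
  have hrange : pr₁ f U q ∈ Set.range O.ι := by
    rw [Scheme.Opens.range_ι]
    exact hqO
  obtain ⟨z₀, hz₀⟩ := hrange
  obtain ⟨q'', hq'', -⟩ := EtSubmH7.exists_bc_map_preimage f (subι U O) q z₀ hz₀
  exact ⟨subE U O, subι U O, w'', q'', hq'', hw''⟩

set_option maxHeartbeats 1600000 in
include hsub hφ in
/-- Part (b): a subsheaf of `f⁻¹ F` with compatible descent datum descends. -/
theorem main5595_2 :
    ∃ (G : EtDesc.Sh S) (a : G ⟶ F) (_ : Mono a) (ψ : (EtDesc.pullSh f).obj G ≅ G'),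
      ψ.hom ≫ a' = (EtDesc.pullSh f).map a := by
  haveI : Mono ((EtDesc.pushSh f).map a') := by
    apply Sheaf.mono_of_injective
    intro U w w' hww'
    exact injective_of_mono a' ((EtCoh.bc f).obj U.unop) hww'
  obtain ⟨G, a, β, hcond, hmono, hsec⟩ : ∃ (G : EtDesc.Sh S) (a : G ⟶ F)
      (β : G ⟶ (EtDesc.pushSh f).obj G'),
      a ≫ (EtDesc.adjSh f).unit.app F = β ≫ (EtDesc.pushSh f).map a' ∧ Mono a ∧
      ∀ (U : S.Etale) (x : F.obj.obj (op U)) (w : G'.obj.obj (op ((EtCoh.bc f).obj U))),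
        υ f F U x = a'.hom.app (op ((EtCoh.bc f).obj U)) w →
        ∃ y : G.obj.obj (op U), a.hom.app (op U) y = x ∧ β.hom.app (op U) y = w :=
    ⟨pullback ((EtDesc.adjSh f).unit.app F) ((EtDesc.pushSh f).map a'),
      pullback.fst _ _, pullback.snd _ _, pullback.condition, inferInstance,
      fun U x w h => exists_pullback_section ((EtDesc.adjSh f).unit.app F)
        ((EtDesc.pushSh f).map a') U x w h⟩
  haveI := hmono
  -- the comparison morphism
  obtain ⟨ψ₀, hψ₀⟩ : ∃ ψ₀ : (EtDesc.pullSh f).obj G ⟶ G',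
      ((EtDesc.adjSh f).homEquiv G G') ψ₀ = β :=
    ⟨((EtDesc.adjSh f).homEquiv G G').symm β, Equiv.apply_symm_apply _ _⟩
  have hψa : ψ₀ ≫ a' = (EtDesc.pullSh f).map a := by
    apply ((EtDesc.adjSh f).homEquiv _ _).injective
    rw [Adjunction.homEquiv_naturality_right, hψ₀, Adjunction.homEquiv_unit, ← hcond]
    exact ((EtDesc.adjSh f).unit.naturality a)
  have hunit : (EtDesc.adjSh f).unit.app G ≫ (EtDesc.pushSh f).map ψ₀ = β := by
    exact (Adjunction.homEquiv_unit (EtDesc.adjSh f) G G' ψ₀).symm.trans hψ₀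
  have hψu : ∀ (U : S.Etale) (y : G.obj.obj (op U)),
      ψ₀.hom.app (op ((EtCoh.bc f).obj U)) (υ f G U y) = β.hom.app (op U) y := by
    intro U y
    exact congrArg (fun (m : G ⟶ (EtDesc.pushSh f).obj G') => m.hom.app (op U) y) hunit
  have hβa : ∀ (U : S.Etale) (y : G.obj.obj (op U)),
      a'.hom.app (op ((EtCoh.bc f).obj U)) (β.hom.app (op U) y) =
        υ f F U (a.hom.app (op U) y) := by
    intro U y
    exact (congrArg (fun (m : G ⟶ (EtDesc.pushSh f).obj ((EtDesc.pullSh f).obj F)) =>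
      m.hom.app (op U) y) hcond).symm
  haveI : Mono ((EtDesc.pullSh f).map a) := mono_pullSh_map f a
  haveI : Mono ψ₀ := mono_of_mono_fac hψa
  haveI : IsIso ψ₀ := by
    refine isIso_of_mono_of_locSurj ψ₀ (fun V w v => ?_)
    obtain ⟨U, x, V', g, γ, v', hv', heq⟩ := local_rep_gen f F V (a'.hom.app (op V) w) v
    have hq : LocIm a' ((EtCoh.bc f).obj U) (υ f F U x) (γ.left v') :=
      ⟨V', γ, v', G'.obj.map g.op w, rfl, (hom_map_apply a' g w).trans heq⟩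
    obtain ⟨U'', ι, w'', q'', hq'', hw''⟩ :=
      exists_sub_section f F hsub G' a' φ hφ U x (γ.left v') hq
    obtain ⟨y, hy1, hy2⟩ := hsec U'' (F.obj.map ι.op x) w'' hw''.symm
    obtain ⟨P, c', d, z, hcd, hz1, hz2⟩ :=
      exists_prod γ ((EtCoh.bc f).map ι) v' q'' hq''.symm
    refine ⟨P, c' ≫ g, z, ((EtDesc.pullSh f).obj G).obj.map d.op (υ f G U'' y), ?_, ?_⟩
    · have h1 : (c' ≫ g).left z = g.left (c'.left z) := Scheme.Hom.comp_apply _ _ _
      rw [h1, hz1, hv']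
    · apply injective_of_mono a' P
      have e1 : a'.hom.app (op P) (ψ₀.hom.app (op P)
          (((EtDesc.pullSh f).obj G).obj.map d.op (υ f G U'' y))) =
          ((EtDesc.pullSh f).obj F).obj.map (c' ≫ γ).op (υ f F U x) :=
        (congrArg (fun t => a'.hom.app (op P) t)
          ((hom_map_apply ψ₀ d _).trans
            (congrArg (fun t => G'.obj.map d.op t) (hψu U'' y)))).trans
        ((hom_map_apply a' d _).trans
          ((congrArg (fun t => ((EtDesc.pullSh f).obj F).obj.map d.op t)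
            ((hβa U'' y).trans ((congrArg (fun t => υ f F U'' t) hy1).trans
              (unit_nat f F ι x)))).trans
          ((map_comp_applyS _ d ((EtCoh.bc f).map ι) _).symm.trans
            (congrArg (fun (k : P ⟶ (EtCoh.bc f).obj U) =>
              ((EtDesc.pullSh f).obj F).obj.map k.op (υ f F U x)) hcd.symm))))
      have e2 : a'.hom.app (op P) (G'.obj.map (c' ≫ g).op w) =
          ((EtDesc.pullSh f).obj F).obj.map (c' ≫ γ).op (υ f F U x) :=
        (hom_map_apply a' (c' ≫ g) w).trans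
          ((map_comp_applyS _ c' g _).trans
            ((congrArg (fun t => ((EtDesc.pullSh f).obj F).obj.map c'.op t) heq).trans
              (map_comp_applyS _ c' γ _).symm))
      exact e1.trans e2.symm
  exact ⟨G, a, hmono, asIso ψ₀, hψa⟩

end Part2

section Part1

/-- Part (a): subsheaves of `F` with the same inverse image agree. -/
theorem main5595_1 (hf : EtDesc.IsUnivSubmersive f) (G₁ G₂ : EtDesc.Sh S) (a₁ : G₁ ⟶ F)
    (a₂ : G₂ ⟶ F) [Mono a₁] [Mono a₂]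
    (φ : (EtDesc.pullSh f).obj G₁ ≅ (EtDesc.pullSh f).obj G₂)
    (hφ : φ.hom ≫ (EtDesc.pullSh f).map a₂ = (EtDesc.pullSh f).map a₁) :
    ∃ ψ : G₁ ≅ G₂, ψ.hom ≫ a₂ = a₁ := by
  have hsub : ∀ (S' : Scheme.{u}) (g : S' ⟶ S),
      Topology.IsQuotientMap (pullback.snd f g).base := fun S' g => (hf S' g).2
  have hφ' : φ.inv ≫ (EtDesc.pullSh f).map a₁ = (EtDesc.pullSh f).map a₂ := by
    rw [Iso.inv_comp_eq, hφ]
  haveI : Mono ((EtDesc.pullSh f).map a₁) := mono_pullSh_map f a₁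
  haveI : Mono ((EtDesc.pullSh f).map a₂) := mono_pullSh_map f a₂
  haveI : Mono ((EtDesc.pullSh (pullback.snd f f)).map ((EtDesc.pullSh f).map a₁)) :=
    mono_pullSh_map _ _
  haveI : Mono ((EtDesc.pullSh (pullback.snd f f)).map ((EtDesc.pullSh f).map a₂)) :=
    mono_pullSh_map _ _
  have ha1 : (EtDesc.canIso f G₁).hom ≫ (EtDesc.pullSh (pullback.snd f f)).map φ.hom =
      (EtDesc.pullSh (pullback.fst f f)).map φ.hom ≫ (EtDesc.canIso f G₂).hom :=
    cancel_sq _ _ (EtDesc.canIso f F).hom _ _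
      ((EtDesc.pullSh (pullback.fst f f)).map ((EtDesc.pullSh f).map a₁))
      ((EtDesc.pullSh (pullback.fst f f)).map ((EtDesc.pullSh f).map a₂))
      ((EtDesc.pullSh (pullback.snd f f)).map ((EtDesc.pullSh f).map a₁))
      ((EtDesc.pullSh (pullback.snd f f)).map ((EtDesc.pullSh f).map a₂))
      (canIso_naturality f a₁) (canIso_naturality f a₂)
      (by rw [← Functor.map_comp, hφ]) (by rw [← Functor.map_comp, hφ])
  have ha2 : (EtDesc.canIso f G₂).hom ≫ (EtDesc.pullSh (pullback.snd f f)).map φ.inv =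
      (EtDesc.pullSh (pullback.fst f f)).map φ.inv ≫ (EtDesc.canIso f G₁).hom :=
    cancel_sq _ _ (EtDesc.canIso f F).hom _ _
      ((EtDesc.pullSh (pullback.fst f f)).map ((EtDesc.pullSh f).map a₂))
      ((EtDesc.pullSh (pullback.fst f f)).map ((EtDesc.pullSh f).map a₁))
      ((EtDesc.pullSh (pullback.snd f f)).map ((EtDesc.pullSh f).map a₂))
      ((EtDesc.pullSh (pullback.snd f f)).map ((EtDesc.pullSh f).map a₁))
      (canIso_naturality f a₂) (canIso_naturality f a₁)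
      (by rw [← Functor.map_comp, hφ']) (by rw [← Functor.map_comp, hφ'])
  obtain ⟨b₁, hb₁, -⟩ := main3048 f G₁ G₂ φ.hom hf ha1
  obtain ⟨b₂, hb₂, -⟩ := main3048 f G₂ G₁ φ.inv hf ha2
  have h12 : b₁ ≫ b₂ = 𝟙 G₁ := by
    apply pullSh_map_injective f hsub
    rw [Functor.map_comp, hb₁, hb₂, Iso.hom_inv_id, CategoryTheory.Functor.map_id]
  have h21 : b₂ ≫ b₁ = 𝟙 G₂ := by
    apply pullSh_map_injective f hsub
    rw [Functor.map_comp, hb₁, hb₂, Iso.inv_hom_id, CategoryTheory.Functor.map_id]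
  refine ⟨⟨b₁, b₂, h12, h21⟩, ?_⟩
  apply pullSh_map_injective f hsub
  rw [Functor.map_comp, hb₁]
  exact hφ

end Part1

/-- Descent of subsheaves along a universally submersive morphism. -/
theorem main5595 {X' X : Scheme.{u}} (f : X' ⟶ X)
    (hf : EtDesc.IsUnivSubmersive f) (F : EtDesc.Sh X) :
    (∀ (G₁ G₂ : EtDesc.Sh X) (a₁ : G₁ ⟶ F) (a₂ : G₂ ⟶ F) [Mono a₁] [Mono a₂],
      (∃ φ : (EtDesc.pullSh f).obj G₁ ≅ (EtDesc.pullSh f).obj G₂,
          φ.hom ≫ (EtDesc.pullSh f).map a₂ = (EtDesc.pullSh f).map a₁) →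
      ∃ ψ : G₁ ≅ G₂, ψ.hom ≫ a₂ = a₁) ∧
    (∀ (G' : EtDesc.Sh X') (a' : G' ⟶ (EtDesc.pullSh f).obj F) [Mono a'],
      (∃ φ : (EtDesc.pullSh (pullback.fst f f)).obj G' ≅ (EtDesc.pullSh (pullback.snd f f)).obj G',
          φ.hom ≫ (EtDesc.pullSh (pullback.snd f f)).map a' =
            (EtDesc.pullSh (pullback.fst f f)).map a' ≫ (EtDesc.canIso f F).hom) →
      ∃ (G : EtDesc.Sh X) (a : G ⟶ F) (_ : Mono a) (ψ : (EtDesc.pullSh f).obj G ≅ G'),
        ψ.hom ≫ a' = (EtDesc.pullSh f).map a) := by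
  have hsub : ∀ (S' : Scheme.{u}) (g : S' ⟶ X),
      Topology.IsQuotientMap (pullback.snd f g).base := fun S' g => (hf S' g).2
  refine ⟨?_, ?_⟩
  · rintro G₁ G₂ a₁ a₂ _ _ ⟨φ, hφ⟩
    exact main5595_1 f F hf G₁ G₂ a₁ a₂ φ hφ
  · rintro G' a' _ ⟨φ, hφ⟩
    exact main5595_2 f F hsub G' a' φ.hom hφ

end Groth.Agent.Lib.EtShDescH7
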