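import Mathlib
import Groth.Prelude.Def_EtShriek2
import Groth.Agent.Lib.EtShriek1_helper7
import Groth.Agent.Lib.EtTrace7_helper7
import Groth.Agent.Lib.SchDescent_helper6

/-!
# Sections with proper support form a sheaf (helper7)

Properness is étale local on the base; `ClSub.IsProperOver` is étale local on the base;
the presheaf `EtShriek.lowerShriekPre f F` is a sheaf.
-/

set_option autoImplicit false
set_option backward.isDefEq.respectTransparency false
set_option linter.style.haveILetI false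
set_option linter.unusedSectionVars false
universe u
open CategoryTheory CategoryTheory.Limits AlgebraicGeometry Opposite

namespace Groth.Agent.Lib.EtShriekH7

open Groth.Agent.Lib.EtSchSite_helper7 ProperOver Groth.Agent.Lib.EtSchSupp_helper7
  Groth.Agent.Lib.EtTraceH7

section Local

/-- Properness is étale local on the base. -/
theorem isProper_of_etale_local {W S : Scheme.{u}} (h : W ⟶ S)
    (H : ∀ s : S, ∃ (S' A : Scheme.{u}) (g : S' ⟶ S) (a : A ⟶ W) (b : A ⟶ S'),
      Etale g ∧ s ∈ Set.range g ∧ IsPullback a b h g ∧ IsProper b) : IsProper h := by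
  haveI := Groth.Agent.Lib.SchDescent_helper6.descendsAlong_isProper.{u}
  choose S' A g a b hg hs sq hb using H
  haveI : ∀ s, Etale (g s) := hg
  let O : S → S.Opens := fun s => ⟨Set.range (g s), (g s).isOpenMap.isOpen_range⟩
  have hO : iSup O = ⊤ := by
    rw [eq_top_iff]
    intro s _
    exact TopologicalSpace.Opens.mem_iSup.2 ⟨s, hs s⟩
  refine IsZariskiLocalAtTarget.of_iSup_eq_top (P := @IsProper) O hO (fun s => ?_)
  have hr : Set.range (g s) ⊆ Set.range (O s).ι := by
    rw [Scheme.Opens.range_ι]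
    exact subset_rfl
  obtain ⟨g₀, hg₀⟩ : ∃ g₀ : S' s ⟶ (O s).toScheme, g₀ ≫ (O s).ι = g s :=
    ⟨IsOpenImmersion.lift (O s).ι (g s) hr, IsOpenImmersion.lift_fac _ _ _⟩
  have sqR := isPullback_morphismRestrict h (O s)
  obtain ⟨a₀, ha1, ha2⟩ : ∃ a₀ : A s ⟶ (h ⁻¹ᵁ O s).toScheme,
      a₀ ≫ (h ∣_ O s) = b s ≫ g₀ ∧ a₀ ≫ (h ⁻¹ᵁ O s).ι = a s :=
    ⟨sqR.lift (b s ≫ g₀) (a s) (by rw [Category.assoc, hg₀]; exact (sq s).w.symm),
      sqR.lift_fst _ _ _, sqR.lift_snd _ _ _⟩
  have big : IsPullback (a₀ ≫ (h ⁻¹ᵁ O s).ι) (b s) h (g₀ ≫ (O s).ι) := by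
    rw [ha2, hg₀]
    exact sq s
  have left : IsPullback a₀ (b s) (h ∣_ O s) g₀ := IsPullback.of_right big ha1 sqR.flip
  have hsurj : Surjective g₀ := by
    constructor
    intro y
    obtain ⟨x, hx⟩ : (O s).ι y ∈ Set.range (g s) := y.2
    refine ⟨x, ?_⟩
    apply (O s).ι.isOpenEmbedding.injective
    rw [← Scheme.Hom.comp_apply, hg₀]
    exact hx
  haveI : Etale (g₀ ≫ (O s).ι) := by
    rw [hg₀]
    infer_instance
  haveI het : Etale g₀ := Etale.of_comp g₀ (O s).ι
  exact MorphismProperty.of_isPullback_of_descendsAlong (P := @IsProper)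
    (Q := @Surjective ⊓ @Flat ⊓ @LocallyOfFinitePresentation) left.flip
    ⟨⟨hsurj, inferInstance⟩, inferInstance⟩ (hb s)

/-- Being proper over the base is étale local on the base, for closed subsets. -/
theorem isProperOver_of_etale_local {T S : Scheme.{u}} (q : T ⟶ S) [LocallyOfFiniteType q]
    (Z : Set T) (hZ : IsClosed Z)
    (H : ∀ s : S, ∃ (S' T' : Scheme.{u}) (g : S' ⟶ S) (g' : T' ⟶ T) (q' : T' ⟶ S'),
      Etale g ∧ s ∈ Set.range g ∧ IsPullback g' q' q g ∧ ClSub.IsProperOver q' (g' ⁻¹' Z)) :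
    ClSub.IsProperOver q Z := by
  refine ⟨hZ, ?_⟩
  show IsProper (redι Z hZ ≫ q)
  refine isProper_of_etale_local (redι Z hZ ≫ q) (fun s => ?_)
  obtain ⟨S', T', g, g', q', hg, hs, sq, hp⟩ := H s
  haveI : LocallyOfFiniteType q' :=
    MorphismProperty.of_isPullback (P := @LocallyOfFiniteType) sq inferInstance
  have hr : Set.range (pullback.fst g' (redι Z hZ)) = g' ⁻¹' Z := by
    rw [Scheme.Pullback.range_fst, range_redι]
  have hp' : IsProper (pullback.fst g' (redι Z hZ) ≫ q') :=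
    (isProperOver_iff_of_closedImmersion q' (pullback.fst g' (redι Z hZ)) hr).1 hp
  have big : IsPullback (pullback.snd g' (redι Z hZ)) (pullback.fst g' (redι Z hZ) ≫ q')
      (redι Z hZ ≫ q) g :=
    (IsPullback.of_hasPullback g' (redι Z hZ)).flip.paste_vert sq
  exact ⟨S', pullback g' (redι Z hZ), g, pullback.snd _ _, pullback.fst _ _ ≫ q', hg, hs, big,
    hp'⟩

end Local

section Sheaf

variable {X Y : Scheme.{u}}

theorem preimage_sectSupp_subset (F : EtCoh.Ab X) {A B : X.Etale} (k : A ⟶ B)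
    (t : EtCoh.sect F B) :
    k.left ⁻¹' EtShriek.sectSupp F B t ⊆ EtShriek.sectSupp F A (F.obj.map k.op t) := by
  intro x hx
  by_contra hcon
  rw [not_mem_sectSupp_iff] at hcon
  obtain ⟨W, g, ⟨w, hw⟩, h0⟩ := hcon
  refine (not_mem_sectSupp_iff F B t (k.left x)).2 ⟨W, g ≫ k, ⟨w, ?_⟩, ?_⟩ hx
  · show k.left (g.left w) = k.left x
    rw [hw]
  · rw [map_comp_apply]
    exact h0

theorem sectSupp_map_eq_preimage (F : EtCoh.Ab X) {A B : X.Etale} (k : A ⟶ B)
    (t : EtCoh.sect F B) :
    EtShriek.sectSupp F A (F.obj.map k.op t) = k.left ⁻¹' EtShriek.sectSupp F B t :=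
  Set.Subset.antisymm (sectSupp_map_subset_preimage F k t) (preimage_sectSupp_subset F k t)

variable (f : X ⟶ Y) [LocallyOfFiniteType f] (F : EtCoh.Ab X)

/-- Having proper support is étale local on the base. -/
theorem mem_shriekSubgroup_of_local (V : Y.Etale) (s : EtCoh.sect F ((EtCoh.bc f).obj V))
    (hs : ∀ v : V.left, ∃ (V' : Y.Etale) (φ : V' ⟶ V), v ∈ Set.range φ.left ∧
      F.obj.map ((EtCoh.bc f).map φ).op s ∈ EtShriek.shriekSubgroup f F V') :
    s ∈ EtShriek.shriekSubgroup f F V := by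
  rw [mem_shriekSubgroup_iff, shriekPred_iff]
  haveI : LocallyOfFiniteType (EtShriek.prV f V) :=
    inferInstanceAs (LocallyOfFiniteType (pullback.fst V.hom f))
  have hcl : IsClosed (EtShriek.sectSupp F ((EtCoh.bc f).obj V) s) := isClosed_sectSupp F _ s
  refine ⟨_, subset_rfl, isProperOver_of_etale_local (EtShriek.prV f V) _ hcl (fun v => ?_)⟩
  obtain ⟨V', φ, hv, hmem⟩ := hs v
  rw [mem_shriekSubgroup_iff, shriekPred_iff] at hmem
  obtain ⟨Z', hZ', hp'⟩ := hmem
  refine ⟨V'.left, ((EtCoh.bc f).obj V').left, φ.left, ((EtCoh.bc f).map φ).left,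
    EtShriek.prV f V', inferInstance, hv, EtCoh.isPullback_bc_map f φ, ?_⟩
  exact isProperOver_of_subset _ hp' (hcl.preimage (((EtCoh.bc f).map φ).left.continuous))
    ((preimage_sectSupp_subset F _ s).trans hZ')

/-- The sub-presheaf of types of `f_* F` of sections with proper support. -/
def shriekSub :
    Subfunctor (((EtCoh.push f).obj F).obj ⋙ forget AddCommGrpCat.{u + 1}) where
  obj V := {s | s ∈ EtShriek.shriekSubgroup f F V.unop}
  map i := fun _ hs => EtShriek.shriekSubgroup_le_comap f F i.unop hs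

theorem isSheaf_shriekSub :
    Presieve.IsSheaf Y.smallEtaleTopology (shriekSub f F).toFunctor := by
  have hG : Presieve.IsSheaf Y.smallEtaleTopology
      (((EtCoh.push f).obj F).obj ⋙ forget AddCommGrpCat.{u + 1}) :=
    (isSheaf_iff_isSheaf_of_type _ _).1
      ((Presheaf.isSheaf_iff_isSheaf_forget _ ((EtCoh.push f).obj F).obj
        (forget AddCommGrpCat.{u + 1})).1 ((EtCoh.push f).obj F).2)
  rw [Subfunctor.isSheaf_iff _ hG]
  intro V s hs
  refine mem_shriekSubgroup_of_local f F V.unop s (fun v => ?_)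
  obtain ⟨V', φ, hφ, hv⟩ := exists_of_mem_smallEtaleTopology _ hs v
  exact ⟨V', φ, hv, hφ⟩

/-- The presheaf of sections with proper support is a sheaf. -/
theorem main680 :
    Presheaf.IsSheaf Y.smallEtaleTopology (EtShriek.lowerShriekPre f F) := by
  rw [Presheaf.isSheaf_iff_isSheaf_forget _ _ (forget AddCommGrpCat.{u + 1}),
    isSheaf_iff_isSheaf_of_type]
  refine Presieve.isSheaf_iso Y.smallEtaleTopology ?_ (isSheaf_shriekSub f F)
  exact NatIso.ofComponents (fun V =>
    { hom := TypeCat.ofHom (fun x => ⟨x.1, x.2⟩)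
      inv := TypeCat.ofHom (fun x => ⟨x.1, x.2⟩)
      hom_inv_id := by ext x; rfl
      inv_hom_id := by ext x; rfl })
    (by intro V V' i; ext x; rfl)

end Sheaf

end Groth.Agent.Lib.EtShriekH7
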