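import Mathlib
import Groth.Agent.Lib.EtShriek3_helper7
import Groth.Agent.Lib.EtShriek5_helper7

/-!
# Direct images with proper support compose (helper7)

For `f : X ⟶ Y` and `g : Y ⟶ Z` locally of finite type with `g` separated,
`(f ≫ g)_! ≅ f_! ⋙ g_!`.
-/

set_option autoImplicit false
set_option backward.isDefEq.respectTransparency false
set_option linter.style.haveILetI false
set_option linter.unusedSectionVars false
universe u
open CategoryTheory CategoryTheory.Limits AlgebraicGeometry Opposite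

namespace Groth.Agent.Lib.EtShriekH7

open Groth.Agent.Lib.EtSchSite_helper7 Groth.Agent.Lib.EtFinStalkH7
  Groth.Agent.Lib.EtFinGeomH7 ProperOver Groth.Agent.Lib.EtSchSupp_helper7
  Groth.Agent.Lib.EtTraceH7 Groth.Agent.Lib.EtFinBCH7
open Groth.Agent.Lib.EtFlasque_helper7 (app_map_apply map_id_apply app_comp_apply
  sections_injective_of_mono)

section Aux

theorem exists_of_isPullback' {P A B C : Scheme.{u}} {a : P ⟶ A} {b : P ⟶ B} {h : A ⟶ C}
    {i : B ⟶ C} (sq : IsPullback a b h i) (x : A) (y : B) (hxy : h x = i y) :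
    ∃ r : P, a r = x ∧ b r = y := by
  obtain ⟨w, hw1, hw2⟩ := Scheme.Pullback.exists_preimage_pullback x y hxy
  refine ⟨sq.isoPullback.inv w, ?_, ?_⟩
  · rw [← Scheme.Hom.comp_apply, sq.isoPullback_inv_fst]
    exact hw1
  · rw [← Scheme.Hom.comp_apply, sq.isoPullback_inv_snd]
    exact hw2

theorem isReduced_red {X : Scheme.{u}} (Z : Set X) (hZ : IsClosed Z) : IsReduced (red Z hZ) := by
  rw [IsReduced.iff_of_openCover
    (X := (Scheme.IdealSheafData.vanishingIdeal ⟨Z, hZ⟩).subscheme)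
    (Scheme.IdealSheafData.vanishingIdeal ⟨Z, hZ⟩).subschemeCover.openCover]
  intro V'
  let V : X.affineOpens := V'
  change IsReduced (Spec (.of (Γ(X, V) ⧸ (Scheme.IdealSheafData.vanishingIdeal ⟨Z, hZ⟩).ideal V)))
  rw [affine_isReduced_iff]
  apply (Ideal.isRadical_iff_quotient_reduced _).1
  rw [Scheme.IdealSheafData.vanishingIdeal_ideal]
  exact PrimeSpectrum.isRadical_vanishingIdeal _

/-- a closed set proper over `B` whose image lies in a closed set proper over `S` is proper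
over `S` -/
theorem isProperOver_comp_of_image_subset {A B S : Scheme.{u}} (a : A ⟶ B) (b : B ⟶ S)
    (Z : Set A) (Z₁ : Set B) (hZ : ClSub.IsProperOver a Z) (hZ₁ : ClSub.IsProperOver b Z₁)
    (hsub : a '' Z ⊆ Z₁) : ClSub.IsProperOver (a ≫ b) Z := by
  obtain ⟨hcl, hp⟩ := hZ
  obtain ⟨hcl₁, hp₁⟩ := hZ₁
  refine ⟨hcl, ?_⟩
  haveI : IsReduced (red Z hcl) := isReduced_red Z hcl
  have hr : Set.range (redι Z hcl ≫ a) ⊆ Z₁ := by
    rw [range_comp', range_redι]
    exact hsub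
  obtain ⟨g', hg'⟩ := exists_lift_of_reduced' (redι Z hcl ≫ a) hcl₁ hr
  haveI : IsProper (g' ≫ redι Z₁ hcl₁) := by
    rw [hg']
    exact hp
  haveI : IsProper g' := IsProper.of_comp g' (redι Z₁ hcl₁)
  haveI : IsProper (redι Z₁ hcl₁ ≫ b) := hp₁
  show IsProper (redι Z hcl ≫ a ≫ b)
  rw [← Category.assoc, ← hg', Category.assoc]
  infer_instance

theorem eq_zero_of_sectSupp_eq_empty {X : Scheme.{u}} (F : EtCoh.Ab X) (U : X.Etale)
    (s : EtCoh.sect F U) (h : EtShriek.sectSupp F U s = ∅) : s = 0 := by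
  apply eq_zero_of_locally_zero
  intro v
  have hv : v ∉ EtShriek.sectSupp F U s := by
    rw [h]
    exact Set.notMem_empty v
  rw [not_mem_sectSupp_iff] at hv
  obtain ⟨W, g, hvr, h0⟩ := hv
  exact ⟨W, g, hvr, h0⟩

end Aux

section Sec

variable {X Y : Scheme.{u}} (f : X ⟶ Y) (F : EtCoh.Ab X)

theorem toPush_toSheafify_apply (V : Y.Etale) (x : EtShriek.shriekSubgroup f F V) :
    (EtShriek.lowerShriekToPush f F).hom.app (op V)
      ((toSheafify Y.smallEtaleTopology (EtShriek.lowerShriekPre f F)).app (op V) x) = x.1 := by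
  have h3 := congrArg (fun (m : EtShriek.lowerShriekPre f F ⟶ ((EtCoh.push f).obj F).obj) =>
    m.app (op V)) (toSheafify_toPush f F)
  exact (comp2_apply _ _ _ h3 x).trans rfl

theorem exists_toPush_eq (V : Y.Etale) (s : EtCoh.sect F ((EtCoh.bc f).obj V))
    (hs : s ∈ EtShriek.shriekSubgroup f F V) :
    ∃ t : ((EtShriek.lowerShriek f).obj F).obj.obj (op V),
      (EtShriek.lowerShriekToPush f F).hom.app (op V) t = s := by
  obtain ⟨x, hx⟩ : ∃ x : EtShriek.shriekSubgroup f F V, x.1 = s := ⟨⟨s, hs⟩, rfl⟩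
  exact ⟨(toSheafify Y.smallEtaleTopology (EtShriek.lowerShriekPre f F)).app (op V) x,
    (toPush_toSheafify_apply f F V x).trans hx⟩

theorem sectSupp_toPush_subset (V : Y.Etale)
    (t : ((EtShriek.lowerShriek f).obj F).obj.obj (op V)) :
    EtShriek.sectSupp F ((EtCoh.bc f).obj V)
        ((EtShriek.lowerShriekToPush f F).hom.app (op V) t) ⊆
      EtShriek.prV f V ⁻¹' EtShriek.sectSupp ((EtShriek.lowerShriek f).obj F) V t := by
  intro x hx
  show EtShriek.prV f V x ∈ EtShriek.sectSupp ((EtShriek.lowerShriek f).obj F) V t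
  by_contra hcon
  rw [not_mem_sectSupp_iff] at hcon
  obtain ⟨V', φ, ⟨v', hv'⟩, h0⟩ := hcon
  obtain ⟨z, hz1, hz2⟩ := exists_of_isPullback' (EtCoh.isPullback_bc_map f φ) x v' hv'.symm
  refine (not_mem_sectSupp_iff F _ _ x).2
    ⟨(EtCoh.bc f).obj V', (EtCoh.bc f).map φ, ⟨z, hz1⟩, ?_⟩ hx
  have h1 : F.obj.map ((EtCoh.bc f).map φ).op
      ((EtShriek.lowerShriekToPush f F).hom.app (op V) t) =
      (EtShriek.lowerShriekToPush f F).hom.app (op V')
        (((EtShriek.lowerShriek f).obj F).obj.map φ.op t) :=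
    (app_map_apply (EtShriek.lowerShriekToPush f F) φ t).symm
  rw [h1, h0, map_zero]

theorem sectSupp_lowerShriek_subset (V : Y.Etale)
    (t : ((EtShriek.lowerShriek f).obj F).obj.obj (op V)) :
    EtShriek.sectSupp ((EtShriek.lowerShriek f).obj F) V t ⊆
      closure (EtShriek.prV f V '' EtShriek.sectSupp F ((EtCoh.bc f).obj V)
        ((EtShriek.lowerShriekToPush f F).hom.app (op V) t)) := by
  intro y hy
  by_contra hcon
  obtain ⟨s, hs⟩ : ∃ s : EtCoh.sect F ((EtCoh.bc f).obj V),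
      s = (EtShriek.lowerShriekToPush f F).hom.app (op V) t := ⟨_, rfl⟩
  rw [← hs] at hcon
  obtain ⟨O, hO⟩ : ∃ O : V.left.Opens, (O : Set V.left) =
      (closure (EtShriek.prV f V '' EtShriek.sectSupp F ((EtCoh.bc f).obj V) s))ᶜ :=
    ⟨⟨_, isClosed_closure.isOpen_compl⟩, rfl⟩
  have hyO : y ∈ (O : Set V.left) := by
    rw [hO]
    exact hcon
  have hyr : y ∈ Set.range (subι V O).left := by
    show y ∈ Set.range O.ι
    rw [Scheme.Opens.range_ι]
    exact hyO
  refine (not_mem_sectSupp_iff _ V t y).2 ⟨subE V O, subι V O, hyr, ?_⟩ hy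
  apply sections_injective_of_mono (EtShriek.lowerShriekToPush f F) (subE V O)
  rw [map_zero, app_map_apply, ← hs]
  show F.obj.map ((EtCoh.bc f).map (subι V O)).op s = 0
  apply eq_zero_of_sectSupp_eq_empty
  rw [Set.eq_empty_iff_forall_notMem]
  intro x hx
  have hx' : ((EtCoh.bc f).map (subι V O)).left x ∈
      EtShriek.sectSupp F ((EtCoh.bc f).obj V) s := sectSupp_map_subset_preimage F _ s hx
  have e : EtShriek.prV f V (((EtCoh.bc f).map (subι V O)).left x) =
      O.ι (EtShriek.prV f (subE V O) x) :=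
    congrArg (fun (m : ((EtCoh.bc f).obj (subE V O)).left ⟶ V.left) => m x)
      (map_pr₁ f (subι V O))
  have h1 : O.ι (EtShriek.prV f (subE V O) x) ∈ Set.range O.ι := ⟨_, rfl⟩
  rw [Scheme.Opens.range_ι, hO, ← e] at h1
  exact h1 (subset_closure ⟨_, hx', rfl⟩)

variable [LocallyOfFiniteType f]

theorem exists_toSheafify_eq (V : Y.Etale)
    (t : ((EtShriek.lowerShriek f).obj F).obj.obj (op V)) :
    ∃ x : EtShriek.shriekSubgroup f F V,
      (toSheafify Y.smallEtaleTopology (EtShriek.lowerShriekPre f F)).app (op V) x = t := by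
  haveI : IsIso (toSheafify Y.smallEtaleTopology (EtShriek.lowerShriekPre f F)) :=
    isIso_toSheafify _ (main680 f F)
  refine ⟨(inv (toSheafify Y.smallEtaleTopology (EtShriek.lowerShriekPre f F))).app (op V) t, ?_⟩
  have h : (inv (toSheafify Y.smallEtaleTopology (EtShriek.lowerShriekPre f F))).app (op V) ≫
      (toSheafify Y.smallEtaleTopology (EtShriek.lowerShriekPre f F)).app (op V) = 𝟙 _ := by
    rw [← NatTrans.comp_app, IsIso.inv_hom_id]
    rfl
  exact (comp2_apply _ _ _ h t).trans rfl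

theorem toPush_mem (V : Y.Etale) (t : ((EtShriek.lowerShriek f).obj F).obj.obj (op V)) :
    (EtShriek.lowerShriekToPush f F).hom.app (op V) t ∈ EtShriek.shriekSubgroup f F V := by
  obtain ⟨x, hx⟩ := exists_toSheafify_eq f F V t
  rw [← hx, toPush_toSheafify_apply]
  exact x.2

end Sec

section Comp

variable {X Y Z : Scheme.{u}} (f : X ⟶ Y) (g : Y ⟶ Z)

/-- the inclusion `g_! f_! F ⟶ (f ≫ g)_* F` -/
noncomputable def m2c (F : EtCoh.Ab X) :
    (EtShriek.lowerShriek g).obj ((EtShriek.lowerShriek f).obj F) ⟶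
      (EtCoh.push (f ≫ g)).obj F :=
  EtShriek.lowerShriekToPush g ((EtShriek.lowerShriek f).obj F) ≫
    (EtCoh.push g).map (EtShriek.lowerShriekToPush f F) ≫ (EtCoh.pushComp g f).hom.app F

theorem m2c_app_apply (F : EtCoh.Ab X) (W : Z.Etale)
    (s : ((EtShriek.lowerShriek g).obj ((EtShriek.lowerShriek f).obj F)).obj.obj (op W)) :
    (m2c f g F).hom.app (op W) s =
      F.obj.map (c₁ g f W).op ((EtShriek.lowerShriekToPush f F).hom.app (op ((EtCoh.bc g).obj W))
        ((EtShriek.lowerShriekToPush g ((EtShriek.lowerShriek f).obj F)).hom.app (op W) s)) :=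
  rfl

instance mono_m2c (F : EtCoh.Ab X) : Mono (m2c f g F) := by
  haveI : (EtCoh.push g).IsRightAdjoint := (EtCoh.pullPushAdj g).isRightAdjoint
  haveI : Mono ((EtCoh.push g).map (EtShriek.lowerShriekToPush f F)) := inferInstance
  haveI : Mono ((EtCoh.push g).map (EtShriek.lowerShriekToPush f F) ≫
      (EtCoh.pushComp g f).hom.app F) := mono_comp _ _
  exact mono_comp _ _

theorem m2c_naturality {F G : EtCoh.Ab X} (α : F ⟶ G) :
    (EtShriek.lowerShriek g).map ((EtShriek.lowerShriek f).map α) ≫ m2c f g G =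
      m2c f g F ≫ (EtCoh.push (f ≫ g)).map α := by
  have h1 := (EtCoh.pushComp g f).hom.naturality α
  have h2 := toPush_naturality f α
  have h3 : (EtCoh.push g).map ((EtShriek.lowerShriek f).map α) ≫
      (EtCoh.push g).map (EtShriek.lowerShriekToPush f G) =
      (EtCoh.push g).map (EtShriek.lowerShriekToPush f F) ≫
        (EtCoh.push g).map ((EtCoh.push f).map α) := by
    rw [← Functor.map_comp, ← Functor.map_comp, h2]
  have h4 := toPush_naturality g ((EtShriek.lowerShriek f).map α)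
  unfold m2c
  rw [← Category.assoc, h4, Category.assoc, ← Category.assoc ((EtCoh.push g).map _), h3,
    Category.assoc, Category.assoc, Category.assoc]
  exact congrArg (fun k => EtShriek.lowerShriekToPush g ((EtShriek.lowerShriek f).obj F) ≫
    (EtCoh.push g).map (EtShriek.lowerShriekToPush f F) ≫ k) h1

variable [LocallyOfFiniteType f] [IsSeparated g] [LocallyOfFiniteType g]

theorem exists_lift_A' (F : EtCoh.Ab X) :
    ∃ k : (EtShriek.lowerShriek (f ≫ g)).obj F ⟶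
        (EtShriek.lowerShriek g).obj ((EtShriek.lowerShriek f).obj F),
      k ≫ m2c f g F = EtShriek.lowerShriekToPush (f ≫ g) F := by
  apply exists_factor_of_local
  intro W s w
  refine ⟨W, 𝟙 W, ⟨w, rfl⟩, ?_⟩
  obtain ⟨x, hx⟩ := exists_toSheafify_eq (f ≫ g) F W s
  have hpred : EtShriek.ShriekPred (f ≫ g) F W x.1 :=
    (mem_shriekSubgroup_iff (f ≫ g) F W x.1).1 x.2
  obtain ⟨Z₀, hZ₀, hp₀⟩ := (shriekPred_iff (f ≫ g) F W x.1).1 hpred
  obtain ⟨t₀, ht₀⟩ : ∃ t₀ : EtCoh.sect F ((EtCoh.bc f).obj ((EtCoh.bc g).obj W)),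
      t₀ = F.obj.map (c₃ g f W).op x.1 := ⟨_, rfl⟩
  haveI : IsSeparated (pr₁ g W) := inferInstanceAs (IsSeparated (pullback.fst W.hom g))
  haveI : LocallyOfFiniteType (pr₁ f ((EtCoh.bc g).obj W)) :=
    inferInstanceAs (LocallyOfFiniteType (pullback.fst ((EtCoh.bc g).obj W).hom f))
  haveI : LocallyOfFiniteType (pr₁ g W) :=
    inferInstanceAs (LocallyOfFiniteType (pullback.fst W.hom g))
  haveI : LocallyOfFiniteType (pr₁ f ((EtCoh.bc g).obj W) ≫ pr₁ g W) := inferInstance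
  have hZ : ClSub.IsProperOver (pr₁ f ((EtCoh.bc g).obj W) ≫ pr₁ g W)
      ((c₃ g f W).left ⁻¹' Z₀) :=
    isProperOver_preimage_of_isProper (pr₁ f ((EtCoh.bc g).obj W) ≫ pr₁ g W)
      (EtShriek.prV (f ≫ g) W) (c₃ g f W).left (c₃_fst g f W) Z₀ hp₀
  have hsupp : EtShriek.sectSupp F _ t₀ ⊆ (c₃ g f W).left ⁻¹' Z₀ := by
    rw [ht₀]
    exact (sectSupp_map_subset_preimage F _ x.1).trans (Set.preimage_mono hZ₀)
  have hps : EtShriek.HasProperSupport F ((EtCoh.bc f).obj ((EtCoh.bc g).obj W)) t₀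
      (EtShriek.prV f ((EtCoh.bc g).obj W)) :=
    ⟨_, hsupp, isProperOver_of_comp_sep (pr₁ f ((EtCoh.bc g).obj W)) (pr₁ g W) _ hZ⟩
  have hmem : t₀ ∈ EtShriek.shriekSubgroup f F ((EtCoh.bc g).obj W) :=
    (mem_shriekSubgroup_iff f F _ t₀).2 ((shriekPred_iff f F _ t₀).2 hps)
  obtain ⟨t₁, ht₁⟩ := exists_toPush_eq f F ((EtCoh.bc g).obj W) t₀ hmem
  have hpi : ClSub.IsProperOver (EtShriek.prV g W)
      (pr₁ f ((EtCoh.bc g).obj W) '' ((c₃ g f W).left ⁻¹' Z₀)) :=
    isProperOver_image_of_isSeparated (pr₁ f ((EtCoh.bc g).obj W) ≫ pr₁ g W) (pr₁ g W)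
      (pr₁ f ((EtCoh.bc g).obj W)) rfl _ hZ
  have hsupp1 : EtShriek.sectSupp ((EtShriek.lowerShriek f).obj F) ((EtCoh.bc g).obj W) t₁ ⊆
      pr₁ f ((EtCoh.bc g).obj W) '' ((c₃ g f W).left ⁻¹' Z₀) := by
    refine (sectSupp_lowerShriek_subset f F _ t₁).trans ?_
    rw [ht₁]
    obtain ⟨hcl, -⟩ := hpi
    exact closure_minimal (Set.image_mono hsupp) hcl
  have hmem1 : t₁ ∈ EtShriek.shriekSubgroup g ((EtShriek.lowerShriek f).obj F) W :=
    (mem_shriekSubgroup_iff g _ W t₁).2 ((shriekPred_iff g _ W t₁).2 ⟨_, hsupp1, hpi⟩)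
  obtain ⟨s', hs'⟩ := exists_toPush_eq g ((EtShriek.lowerShriek f).obj F) W t₁ hmem1
  refine ⟨s', ?_⟩
  rw [map_id_apply, m2c_app_apply, hs', ht₁, ht₀, ← map_comp_apply, c₁_c₃, map_id_apply, ← hx]
  exact (toPush_toSheafify_apply (f ≫ g) F W x).symm

theorem exists_lift_B' (F : EtCoh.Ab X) :
    ∃ k : (EtShriek.lowerShriek g).obj ((EtShriek.lowerShriek f).obj F) ⟶
        (EtShriek.lowerShriek (f ≫ g)).obj F,
      k ≫ EtShriek.lowerShriekToPush (f ≫ g) F = m2c f g F := by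
  apply exists_factor_of_local
  intro W s' w
  refine ⟨W, 𝟙 W, ⟨w, rfl⟩, ?_⟩
  obtain ⟨t₁, ht₁⟩ : ∃ t₁ : ((EtShriek.lowerShriek f).obj F).obj.obj (op ((EtCoh.bc g).obj W)),
      t₁ = (EtShriek.lowerShriekToPush g ((EtShriek.lowerShriek f).obj F)).hom.app (op W) s' :=
    ⟨_, rfl⟩
  have hmem1 : t₁ ∈ EtShriek.shriekSubgroup g ((EtShriek.lowerShriek f).obj F) W := by
    rw [ht₁]
    exact toPush_mem g _ W s'
  obtain ⟨Z₁, hZ₁, hp₁⟩ := (shriekPred_iff g _ W t₁).1 ((mem_shriekSubgroup_iff g _ W t₁).1 hmem1)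
  obtain ⟨t₀, ht₀⟩ : ∃ t₀ : EtCoh.sect F ((EtCoh.bc f).obj ((EtCoh.bc g).obj W)),
      t₀ = (EtShriek.lowerShriekToPush f F).hom.app (op ((EtCoh.bc g).obj W)) t₁ := ⟨_, rfl⟩
  have hmem0 : t₀ ∈ EtShriek.shriekSubgroup f F ((EtCoh.bc g).obj W) := by
    rw [ht₀]
    exact toPush_mem f F _ t₁
  obtain ⟨Z₀, hZ₀, hp₀⟩ := (shriekPred_iff f F _ t₀).1 ((mem_shriekSubgroup_iff f F _ t₀).1 hmem0)
  have hsuppA : EtShriek.sectSupp F _ t₀ ⊆
      Z₀ ∩ (EtShriek.prV f ((EtCoh.bc g).obj W) ⁻¹' Z₁) := by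
    intro x hx
    refine ⟨hZ₀ hx, hZ₁ ?_⟩
    rw [ht₀] at hx
    exact sectSupp_toPush_subset f F _ t₁ hx
  have hcl₀ : IsClosed Z₀ := hp₀.1
  have hcl₁ : IsClosed Z₁ := hp₁.1
  have hclA : IsClosed (Z₀ ∩ (EtShriek.prV f ((EtCoh.bc g).obj W) ⁻¹' Z₁)) :=
    hcl₀.inter (hcl₁.preimage (EtShriek.prV f ((EtCoh.bc g).obj W)).continuous)
  have hpA : ClSub.IsProperOver (EtShriek.prV f ((EtCoh.bc g).obj W))
      (Z₀ ∩ (EtShriek.prV f ((EtCoh.bc g).obj W) ⁻¹' Z₁)) :=
    isProperOver_of_subset _ hp₀ hclA Set.inter_subset_left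
  have hpAW : ClSub.IsProperOver (pr₁ f ((EtCoh.bc g).obj W) ≫ pr₁ g W)
      (Z₀ ∩ (EtShriek.prV f ((EtCoh.bc g).obj W) ⁻¹' Z₁)) :=
    isProperOver_comp_of_image_subset _ _ _ Z₁ hpA hp₁ (by
      rintro _ ⟨x, hx, rfl⟩
      exact hx.2)
  haveI : LocallyOfFiniteType (EtShriek.prV (f ≫ g) W) :=
    inferInstanceAs (LocallyOfFiniteType (pullback.fst W.hom (f ≫ g)))
  have hps : EtShriek.HasProperSupport F ((EtCoh.bc (f ≫ g)).obj W)
      (F.obj.map (c₁ g f W).op t₀) (EtShriek.prV (f ≫ g) W) := by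
    refine ⟨(c₁ g f W).left ⁻¹' (Z₀ ∩ (EtShriek.prV f ((EtCoh.bc g).obj W) ⁻¹' Z₁)),
      (sectSupp_map_subset_preimage F _ t₀).trans (Set.preimage_mono hsuppA), ?_⟩
    exact isProperOver_preimage_of_isProper (EtShriek.prV (f ≫ g) W)
      (pr₁ f ((EtCoh.bc g).obj W) ≫ pr₁ g W) (c₁ g f W).left (c₁_fst g f W) _ hpAW
  have hmem : F.obj.map (c₁ g f W).op t₀ ∈ EtShriek.shriekSubgroup (f ≫ g) F W :=
    (mem_shriekSubgroup_iff (f ≫ g) F W _).2 ((shriekPred_iff (f ≫ g) F W _).2 hps)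
  obtain ⟨s, hs⟩ := exists_toPush_eq (f ≫ g) F W _ hmem
  refine ⟨s, ?_⟩
  rw [map_id_apply, hs, m2c_app_apply, ← ht₁, ← ht₀]

/-- the comparison isomorphism -/
noncomputable def compIso' (F : EtCoh.Ab X) :
    (EtShriek.lowerShriek (f ≫ g)).obj F ≅
      (EtShriek.lowerShriek g).obj ((EtShriek.lowerShriek f).obj F) where
  hom := (exists_lift_A' f g F).choose
  inv := (exists_lift_B' f g F).choose
  hom_inv_id := by
    apply (cancel_mono (EtShriek.lowerShriekToPush (f ≫ g) F)).1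
    rw [Category.assoc, (exists_lift_B' f g F).choose_spec, (exists_lift_A' f g F).choose_spec,
      Category.id_comp]
  inv_hom_id := by
    apply (cancel_mono (m2c f g F)).1
    rw [Category.assoc, (exists_lift_A' f g F).choose_spec, (exists_lift_B' f g F).choose_spec,
      Category.id_comp]

theorem compIso'_hom_m2c (F : EtCoh.Ab X) :
    (compIso' f g F).hom ≫ m2c f g F = EtShriek.lowerShriekToPush (f ≫ g) F :=
  (exists_lift_A' f g F).choose_spec

theorem main685 :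
    Nonempty (EtShriek.lowerShriek (f ≫ g) ≅ EtShriek.lowerShriek f ⋙ EtShriek.lowerShriek g) := by
  refine ⟨NatIso.ofComponents (fun F => compIso' f g F) ?_⟩
  intro F G α
  apply (cancel_mono (m2c f g G)).1
  rw [Category.assoc, compIso'_hom_m2c, toPush_naturality, Category.assoc]
  have h := m2c_naturality f g α
  have e : (EtShriek.lowerShriek f ⋙ EtShriek.lowerShriek g).map α =
      (EtShriek.lowerShriek g).map ((EtShriek.lowerShriek f).map α) := rfl
  rw [e, h, ← Category.assoc, compIso'_hom_m2c]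

end Comp

end Groth.Agent.Lib.EtShriekH7
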