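import Mathlib
import Groth.Prelude.Def_EtShriek2
import Groth.Agent.Lib.EtFinGeomB_helper7
import Groth.Agent.Lib.ProperOver_helper9

/-!
# Geometric points and separated quasi-finite morphisms (helper7)

The key geometric lemma of `EtFinGeomB_helper7`, generalised from finite morphisms to separated
locally quasi-finite morphisms: for `f : X ⟶ Y` separated and locally quasi-finite, every étale
neighbourhood `V'` of a geometric point `ξ₀` of `X` is dominated by an open and closed piece of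
`U ×_Y X`, proper over `U`, for a suitable étale neighbourhood `U` of `f ξ₀`, which contains no
other geometric point over `f ξ₀`.
-/

set_option autoImplicit false
set_option backward.isDefEq.respectTransparency false
set_option linter.style.haveILetI false
set_option linter.unusedSectionVars false
universe u
open CategoryTheory CategoryTheory.Limits AlgebraicGeometry Opposite

namespace Groth.Agent.Lib.EtShriekH7

open Groth.Agent.Lib.PurInsepH4 Groth.Agent.Lib.EtNbhdFinH4 Groth.Agent.Lib.EtFinGeomH7 ProperOver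

section Range

theorem isProperOver_univ {T S : Scheme.{u}} (p : T ⟶ S) [IsProper p] :
    ClSub.IsProperOver p (Set.univ : Set T) := by
  refine ⟨isClosed_univ, ?_⟩
  show IsProper (redι (Set.univ : Set T) isClosed_univ ≫ p)
  infer_instance

theorem isProperOver_range {T B S : Scheme.{u}} (q : T ⟶ B) (b : B ⟶ S)
    [LocallyOfFiniteType b] [IsSeparated b] [IsProper (q ≫ b)] :
    ClSub.IsProperOver b (Set.range q) := by
  have h := isProperOver_image_of_isSeparated (q ≫ b) b q rfl Set.univ (isProperOver_univ (q ≫ b))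
  rwa [Set.image_univ] at h

end Range

variable {X Y : Scheme.{u}} (f : X ⟶ Y) {Ω : Type u} [Field Ω] [IsAlgClosed Ω]

set_option maxHeartbeats 1600000 in
/-- The key lemma, for a separated étale neighbourhood. -/
theorem key_sep' [IsSeparated f] [LocallyOfFiniteType f] [LocallyQuasiFinite f] {η : Spec (CommRingCat.of Ω) ⟶ Y} (V' : X.Etale)
    [IsSeparated V'.hom] (ξ₀ : Spec (CommRingCat.of Ω) ⟶ X) (hξ₀ : ξ₀ ≫ f = η)
    (v' : (Scheme.pointSmallEtale ξ₀).fiber.obj V') :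
    ∃ (U : Y.Etale) (u : (Scheme.pointSmallEtale η).fiber.obj U)
      (V : ((EtCoh.bc f).obj U).left.Opens),
      IsClopen (V : Set ((EtCoh.bc f).obj U).left) ∧
      ClSub.IsProperOver (pr₁ f U) (V : Set ((EtCoh.bc f).obj U).left) ∧
      ptLeft (liftPt f ξ₀ hξ₀ U u) default ∈ V ∧
      (∀ (ξ : Spec (CommRingCat.of Ω) ⟶ X) (hξ : ξ ≫ f = η),
        ptLeft (liftPt f ξ hξ U u) default ∈ V → ξ = ξ₀) ∧
      ∃ h : V.toScheme ⟶ V'.left, h ≫ V'.hom = V.ι ≫ ((EtCoh.bc f).obj U).hom ∧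
        ∀ l : Spec (CommRingCat.of Ω) ⟶ V.toScheme,
          l ≫ V.ι = ptLeft (liftPt f ξ₀ hξ₀ U u) → l ≫ h = ptLeft v' := by
  haveI : Etale V'.hom := V'.prop
  haveI : LocallyQuasiFinite V'.hom := locallyQuasiFinite_of_unramified _
  haveI : LocallyQuasiFinite (V'.hom ≫ f) := inferInstance
  have hvl : ptLeft v' ≫ (V'.hom ≫ f) = η := by
    rw [← Category.assoc, ptLeft_hom, hξ₀]
  obtain ⟨U₁, g₁, hg₁, u1, TT, tt, a, hu1, ha1, ha2, hatt, httT, hTTfin, httuniq, httPI⟩ :=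
    split_at_point (V'.hom ≫ f) η (ptLeft v') hvl
  haveI := hg₁
  let U₁e : Y.Etale := Scheme.Etale.mk g₁
  haveI : Etale ((EtCoh.bc f).obj U₁e).hom := ((EtCoh.bc f).obj U₁e).prop
  -- the map to `U₁ ×_Y X`
  obtain ⟨q', hq'1, hq'2⟩ : ∃ q' : pullback (V'.hom ≫ f) g₁ ⟶ ((EtCoh.bc f).obj U₁e).left,
      q' ≫ pr₁ f U₁e = pullback.snd (V'.hom ≫ f) g₁ ∧
      q' ≫ ((EtCoh.bc f).obj U₁e).hom = pullback.fst (V'.hom ≫ f) g₁ ≫ V'.hom :=
    ⟨pullback.lift (pullback.snd (V'.hom ≫ f) g₁) (pullback.fst (V'.hom ≫ f) g₁ ≫ V'.hom)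
      ((pullback.condition).symm.trans (Category.assoc _ _ _).symm),
      pullback.lift_fst _ _ _, pullback.lift_snd _ _ _⟩
  obtain ⟨q, hq⟩ : ∃ q : TT.toScheme ⟶ ((EtCoh.bc f).obj U₁e).left, q = TT.ι ≫ q' := ⟨_, rfl⟩
  have hq1 : q ≫ pr₁ f U₁e = TT.ι ≫ pullback.snd (V'.hom ≫ f) g₁ := by
    rw [hq, Category.assoc, hq'1]
  have hq2 : q ≫ ((EtCoh.bc f).obj U₁e).hom =
      TT.ι ≫ pullback.fst (V'.hom ≫ f) g₁ ≫ V'.hom := by
    rw [hq, Category.assoc, hq'2]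
  haveI : IsFinite (q ≫ pr₁ f U₁e) := by rw [hq1]; exact hTTfin
  haveI : IsSeparated (pr₁ f U₁e) := inferInstanceAs (IsSeparated (pullback.fst U₁e.hom f))
  haveI : LocallyOfFiniteType (pr₁ f U₁e) :=
    inferInstanceAs (LocallyOfFiniteType (pullback.fst U₁e.hom f))
  haveI : IsFinite q := IsFinite.of_comp q (pr₁ f U₁e)
  haveI : Etale (q ≫ ((EtCoh.bc f).obj U₁e).hom) := by rw [hq2]; infer_instance
  haveI : Etale q := Etale.of_comp q ((EtCoh.bc f).obj U₁e).hom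
  -- points
  have e1 : ∀ z : TT.toScheme,
      pr₁ f U₁e (q z) = pullback.snd (V'.hom ≫ f) g₁ (TT.ι z) := fun z =>
    (Scheme.Hom.comp_apply _ _ _).symm.trans
      ((congrArg (fun (m : TT.toScheme ⟶ U₁) => m z) hq1).trans (Scheme.Hom.comp_apply _ _ _))
  have huniqT : ∀ z : TT.toScheme, pullback.snd (V'.hom ≫ f) g₁ (TT.ι z) =
      pullback.snd (V'.hom ≫ f) g₁ tt → z = ⟨tt, httT⟩ := by
    intro z hz
    exact Subtype.ext (httuniq (TT.ι z) z.2 hz)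
  have hx' : ∀ x' : TT.toScheme, q x' = q ⟨tt, httT⟩ → x' = ⟨tt, httT⟩ := by
    intro x' hx
    apply huniqT
    have h0 := congrArg (fun z => pr₁ f U₁e z) hx
    exact (e1 x').symm.trans (h0.trans (e1 ⟨tt, httT⟩))
  have hPIT : PI ((TT.ι ≫ pullback.snd (V'.hom ≫ f) g₁).residueFieldMap ⟨tt, httT⟩).hom := by
    have hsurj : Function.Surjective (TT.ι.residueFieldMap ⟨tt, httT⟩).hom :=
      (ConcreteCategory.bijective_of_isIso (TT.ι.residueFieldMap ⟨tt, httT⟩)).2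
    refine PI.of_square httPI _ (RingHom.id _) (TT.ι.residueFieldMap ⟨tt, httT⟩).hom hsurj ?_
    rw [Scheme.residueFieldMap_comp]
    rfl
  have hκ : Function.Surjective (q.residueFieldMap ⟨tt, httT⟩) := by
    have hc := Scheme.Hom.residueFieldMap_congr hq1.symm ⟨tt, httT⟩
    have hc2 : (q ≫ pr₁ f U₁e).residueFieldMap ⟨tt, httT⟩ =
        (pr₁ f U₁e).residueFieldMap (q ⟨tt, httT⟩) ≫ q.residueFieldMap ⟨tt, httT⟩ :=
      Scheme.residueFieldMap_comp _ _ _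
    rw [hc2, ← Category.assoc] at hc
    have hPIq : PI (q.residueFieldMap ⟨tt, httT⟩).hom :=
      PI_of_comp_eq _ _ _ (congrArg (fun m => m.hom) hc) hPIT
    exact surjective_of_PI_of_isSeparable _ hPIq inferInstance
  obtain ⟨N, hN1, hN2⟩ := Groth.Agent.FinUnr.exists_isIso q ⟨tt, httT⟩ hx' hκ
  haveI := hN2
  obtain ⟨r, hr1, hr2⟩ := section_of_isIso_restrict q N
  have hZo : IsOpen (Set.range q) := q.isOpenMap.isOpen_range
  have hZc : IsClosed (Set.range q) := q.isClosedMap.isClosed_range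
  have hCcl : IsClosed (pr₁ f U₁e ''
      (Set.range q ∩ (N : Set ((EtCoh.bc f).obj U₁e).left)ᶜ)) := by
    have himg : pr₁ f U₁e '' (Set.range q ∩ (N : Set ((EtCoh.bc f).obj U₁e).left)ᶜ) =
        (q ≫ pr₁ f U₁e) '' (q ⁻¹' (N : Set ((EtCoh.bc f).obj U₁e).left)ᶜ) := by
      ext y
      constructor
      · rintro ⟨c, ⟨⟨x', rfl⟩, hcN⟩, rfl⟩
        exact ⟨x', hcN, Scheme.Hom.comp_apply _ _ _⟩
      · rintro ⟨x', hx'N, rfl⟩
        exact ⟨q x', ⟨⟨x', rfl⟩, hx'N⟩, (Scheme.Hom.comp_apply _ _ _).symm⟩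
    rw [himg]
    exact (q ≫ pr₁ f U₁e).isClosedMap _ (N.isOpen.isClosed_compl.preimage q.continuous)
  have hu1O : pullback.snd (V'.hom ≫ f) g₁ tt ∉ pr₁ f U₁e ''
      (Set.range q ∩ (N : Set ((EtCoh.bc f).obj U₁e).left)ᶜ) := by
    rintro ⟨c, ⟨⟨x', rfl⟩, hcN⟩, hc⟩
    have h1 : x' = ⟨tt, httT⟩ := huniqT x' ((e1 x').symm.trans hc)
    rw [h1] at hcN
    exact hcN hN1
  have hu1pt : u1 default = pullback.snd (V'.hom ≫ f) g₁ tt := by
    rw [← hatt]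
    exact (congrArg (fun (m : Spec (CommRingCat.of Ω) ⟶ U₁) => m default) ha2).symm.trans
      (Scheme.Hom.comp_apply _ _ _)
  -- the smaller neighbourhood
  let O : U₁.Opens := ⟨(pr₁ f U₁e ''
    (Set.range q ∩ (N : Set ((EtCoh.bc f).obj U₁e).left)ᶜ))ᶜ, hCcl.isOpen_compl⟩
  haveI : Etale (O.ι ≫ g₁) := inferInstance
  let U₃e : Y.Etale := Scheme.Etale.mk (O.ι ≫ g₁)
  let t31 : U₃e ⟶ U₁e := MorphismProperty.Over.homMk O.ι rfl trivial
  have hrange : Set.range u1 ⊆ Set.range O.ι := by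
    rintro _ ⟨z, rfl⟩
    rw [Subsingleton.elim z default, hu1pt, Scheme.Opens.range_ι]
    exact hu1O
  obtain ⟨u3l, hu3l⟩ : ∃ u3l : Spec (CommRingCat.of Ω) ⟶ O.toScheme, u3l ≫ O.ι = u1 :=
    ⟨IsOpenImmersion.lift O.ι u1 hrange, IsOpenImmersion.lift_fac _ _ _⟩
  have hu3η : u3l ≫ (O.ι ≫ g₁) = η := by rw [← Category.assoc, hu3l, hu1]
  obtain ⟨u₃, hu₃⟩ : ∃ u₃ : (Scheme.pointSmallEtale η).fiber.obj U₃e, ptLeft u₃ = u3l :=
    ⟨Over.homMk u3l hu3η, rfl⟩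
  obtain ⟨u₁pt, hu₁pt⟩ : ∃ u₁pt : (Scheme.pointSmallEtale η).fiber.obj U₁e, ptLeft u₁pt = u1 :=
    ⟨Over.homMk u1 hu1, rfl⟩
  have hu31 : (Scheme.pointSmallEtale η).fiber.map t31 u₃ = u₁pt := by
    apply ptLeft_ext
    rw [ptLeft_map, hu₃, hu₁pt]
    exact hu3l
  obtain ⟨jU, hjU⟩ : ∃ jU : ((EtCoh.bc f).obj U₃e).left ⟶ ((EtCoh.bc f).obj U₁e).left,
      jU = ((EtCoh.bc f).map t31).left := ⟨_, rfl⟩
  have hjU1 : jU ≫ pr₁ f U₁e = pr₁ f U₃e ≫ O.ι := by rw [hjU]; exact map_pr₁ f t31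
  have hjU2 : jU ≫ ((EtCoh.bc f).obj U₁e).hom = ((EtCoh.bc f).obj U₃e).hom := by
    rw [hjU]; exact map_hom f t31
  let V : ((EtCoh.bc f).obj U₃e).left.Opens := jU ⁻¹ᵁ ⟨Set.range q, hZo⟩
  have hVclopen : IsClopen (V : Set ((EtCoh.bc f).obj U₃e).left) :=
    ⟨hZc.preimage jU.continuous, V.isOpen⟩
  have hVN : ∀ p : ((EtCoh.bc f).obj U₃e).left, p ∈ V → jU p ∈ N := by
    intro p hp
    by_contra hpN
    have h1 : pr₁ f U₁e (jU p) ∈ pr₁ f U₁e ''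
        (Set.range q ∩ (N : Set ((EtCoh.bc f).obj U₁e).left)ᶜ) := ⟨jU p, ⟨hp, hpN⟩, rfl⟩
    have h2 : pr₁ f U₁e (jU p) = O.ι (pr₁ f U₃e p) :=
      (Scheme.Hom.comp_apply _ _ _).symm.trans
        ((congrArg (fun (m : ((EtCoh.bc f).obj U₃e).left ⟶ U₁) => m p) hjU1).trans
          (Scheme.Hom.comp_apply _ _ _))
    rw [h2] at h1
    exact (pr₁ f U₃e p).2 h1
  have hkrange : Set.range (V.ι ≫ jU) ⊆ Set.range N.ι := by
    rintro _ ⟨z, rfl⟩
    rw [Scheme.Opens.range_ι]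
    exact hVN (V.ι z) z.2
  obtain ⟨k, hk⟩ : ∃ k : V.toScheme ⟶ N.toScheme, k ≫ N.ι = V.ι ≫ jU :=
    ⟨IsOpenImmersion.lift N.ι _ hkrange, IsOpenImmersion.lift_fac _ _ _⟩
  obtain ⟨h, hh⟩ : ∃ h : V.toScheme ⟶ V'.left,
      h = k ≫ r ≫ TT.ι ≫ pullback.fst (V'.hom ≫ f) g₁ := ⟨_, rfl⟩
  have s1 : r ≫ q ≫ ((EtCoh.bc f).obj U₁e).hom = N.ι ≫ ((EtCoh.bc f).obj U₁e).hom := by
    rw [← Category.assoc, hr1]
  have s2 : k ≫ N.ι ≫ ((EtCoh.bc f).obj U₁e).hom =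
      V.ι ≫ jU ≫ ((EtCoh.bc f).obj U₁e).hom := by
    rw [← Category.assoc, hk, Category.assoc]
  have hh1 : h ≫ V'.hom = V.ι ≫ ((EtCoh.bc f).obj U₃e).hom := by
    rw [hh]
    simp only [Category.assoc]
    rw [← hq2, s1, s2, hjU2]
  -- the geometric point of `TT`
  have harange : Set.range a ⊆ Set.range TT.ι := by
    rintro _ ⟨z, rfl⟩
    rw [Subsingleton.elim z default, hatt, Scheme.Opens.range_ι]
    exact httT
  obtain ⟨aT, haT⟩ : ∃ aT : Spec (CommRingCat.of Ω) ⟶ TT.toScheme, aT ≫ TT.ι = a :=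
    ⟨IsOpenImmersion.lift TT.ι a harange, IsOpenImmersion.lift_fac _ _ _⟩
  have haTq : aT ≫ q = ptLeft (liftPt f ξ₀ hξ₀ U₁e u₁pt) := by
    apply bc_hom_ext f U₁e
    · rw [Category.assoc, hq1, ← Category.assoc, haT, ha2, liftPt_pr₁, hu₁pt]
    · rw [Category.assoc, hq2, ← Category.assoc, haT, ← Category.assoc, ha1, ptLeft_hom,
        liftPt_hom]
  have hp31 : ∀ (ξ : Spec (CommRingCat.of Ω) ⟶ X) (hξ : ξ ≫ f = η),
      ptLeft (liftPt f ξ hξ U₃e u₃) ≫ jU = ptLeft (liftPt f ξ hξ U₁e u₁pt) := by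
    intro ξ hξ
    rw [hjU, ← ptLeft_map, liftPt_map, hu31]
  have hcompat : ∀ l : Spec (CommRingCat.of Ω) ⟶ V.toScheme,
      l ≫ V.ι = ptLeft (liftPt f ξ₀ hξ₀ U₃e u₃) → l ≫ h = ptLeft v' := by
    intro l hl
    have h1 : aT ≫ q = (l ≫ k) ≫ N.ι := by
      rw [Category.assoc, hk, ← Category.assoc, hl, hp31, haTq]
    have h2 : aT = (l ≫ k) ≫ r := hr2 aT (l ≫ k) h1
    rw [hh, ← Category.assoc l, ← Category.assoc (l ≫ k), ← h2, ← Category.assoc, haT, ha1]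
  have hpt : ∀ c : Spec (CommRingCat.of Ω) ⟶ TT.toScheme,
      c ≫ (TT.ι ≫ pullback.snd (V'.hom ≫ f) g₁) = u1 → c default = ⟨tt, httT⟩ := by
    intro c hc
    apply huniqT
    have h0 := congrArg (fun (m : Spec (CommRingCat.of Ω) ⟶ U₁) => m default) hc
    have e : pullback.snd (V'.hom ≫ f) g₁ (TT.ι (c default)) =
        (c ≫ (TT.ι ≫ pullback.snd (V'.hom ≫ f) g₁)) default :=
      ((Scheme.Hom.comp_apply _ _ _).trans (Scheme.Hom.comp_apply _ _ _)).symm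
    exact e.trans (h0.trans hu1pt)
  have haTsnd : aT ≫ (TT.ι ≫ pullback.snd (V'.hom ≫ f) g₁) = u1 := by
    rw [← Category.assoc, haT, ha2]
  have huniq : ∀ (ξ : Spec (CommRingCat.of Ω) ⟶ X) (hξ : ξ ≫ f = η),
      ptLeft (liftPt f ξ hξ U₃e u₃) default ∈ V → ξ = ξ₀ := by
    intro ξ hξ hmem
    have hlrange : Set.range (ptLeft (liftPt f ξ hξ U₃e u₃)) ⊆ Set.range V.ι := by
      rintro _ ⟨z, rfl⟩
      rw [Subsingleton.elim z default, Scheme.Opens.range_ι]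
      exact hmem
    obtain ⟨l', hl'⟩ : ∃ l' : Spec (CommRingCat.of Ω) ⟶ V.toScheme,
        l' ≫ V.ι = ptLeft (liftPt f ξ hξ U₃e u₃) :=
      ⟨IsOpenImmersion.lift V.ι _ hlrange, IsOpenImmersion.lift_fac _ _ _⟩
    obtain ⟨b, hb⟩ : ∃ b : Spec (CommRingCat.of Ω) ⟶ TT.toScheme, b = (l' ≫ k) ≫ r :=
      ⟨_, rfl⟩
    have hbq : b ≫ q = ptLeft (liftPt f ξ hξ U₁e u₁pt) := by
      rw [hb, Category.assoc, hr1, Category.assoc, hk, ← Category.assoc, hl', hp31 ξ hξ]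
    have hbsnd : b ≫ (TT.ι ≫ pullback.snd (V'.hom ≫ f) g₁) = u1 := by
      rw [← hq1, ← Category.assoc, hbq, liftPt_pr₁, hu₁pt]
    have hbaT : b = aT :=
      eq_of_PI (TT.ι ≫ pullback.snd (V'.hom ≫ f) g₁) ⟨tt, httT⟩ hPIT b aT (hpt b hbsnd)
        (hpt aT haTsnd) (hbsnd.trans haTsnd.symm)
    refine (liftPt_hom f ξ hξ U₃e u₃).symm.trans ?_
    have e2 : l' ≫ h = b ≫ TT.ι ≫ pullback.fst (V'.hom ≫ f) g₁ := by
      rw [hh, hb]
      simp only [Category.assoc]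
    rw [← hl', Category.assoc, ← hh1, ← Category.assoc, e2, hbaT, ← Category.assoc, haT, ha1,
      ptLeft_hom]
  have hVprop : ClSub.IsProperOver (pr₁ f U₃e) (V : Set ((EtCoh.bc f).obj U₃e).left) := by
    have hR : ClSub.IsProperOver (pr₁ f U₁e) (Set.range q) := isProperOver_range q (pr₁ f U₁e)
    have sq : IsPullback jU (pr₁ f U₃e) (pr₁ f U₁e) t31.left := by
      rw [hjU]
      exact EtCoh.isPullback_bc_map f t31
    exact ProperOver.isProperOver_preimage_of_isPullback (pr₁ f U₁e) t31.left jU (pr₁ f U₃e) sq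
      (Set.range q) hR
  refine ⟨U₃e, u₃, V, hVclopen, hVprop, ?_, huniq, h, hh1, hcompat⟩
  show jU (ptLeft (liftPt f ξ₀ hξ₀ U₃e u₃) default) ∈ Set.range q
  refine ⟨aT default, ?_⟩
  have e3 := congrArg
    (fun (m : Spec (CommRingCat.of Ω) ⟶ ((EtCoh.bc f).obj U₁e).left) => m default)
    (haTq.trans (hp31 ξ₀ hξ₀).symm)
  exact (Scheme.Hom.comp_apply _ _ _).symm.trans (e3.trans (Scheme.Hom.comp_apply _ _ _))

/-- The key lemma. -/
theorem key' [IsSeparated f] [LocallyOfFiniteType f] [LocallyQuasiFinite f] {η : Spec (CommRingCat.of Ω) ⟶ Y} (V' : X.Etale)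
    (ξ₀ : Spec (CommRingCat.of Ω) ⟶ X) (hξ₀ : ξ₀ ≫ f = η)
    (v' : (Scheme.pointSmallEtale ξ₀).fiber.obj V') :
    ∃ (U : Y.Etale) (u : (Scheme.pointSmallEtale η).fiber.obj U)
      (V : ((EtCoh.bc f).obj U).left.Opens),
      IsClopen (V : Set ((EtCoh.bc f).obj U).left) ∧
      ClSub.IsProperOver (pr₁ f U) (V : Set ((EtCoh.bc f).obj U).left) ∧
      ptLeft (liftPt f ξ₀ hξ₀ U u) default ∈ V ∧
      (∀ (ξ : Spec (CommRingCat.of Ω) ⟶ X) (hξ : ξ ≫ f = η),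
        ptLeft (liftPt f ξ hξ U u) default ∈ V → ξ = ξ₀) ∧
      ∃ h : V.toScheme ⟶ V'.left, h ≫ V'.hom = V.ι ≫ ((EtCoh.bc f).obj U).hom ∧
        ∀ l : Spec (CommRingCat.of Ω) ⟶ V.toScheme,
          l ≫ V.ι = ptLeft (liftPt f ξ₀ hξ₀ U u) → l ≫ h = ptLeft v' := by
  haveI : Etale V'.hom := V'.prop
  obtain ⟨A, hA, hvA, -⟩ := exists_isAffineOpen_mem_and_subset
    (x := ptLeft v' default) (U := (⊤ : V'.left.Opens)) trivial
  haveI : IsAffine A.toScheme := hA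
  haveI : Etale (A.ι ≫ V'.hom) := inferInstance
  let V'' : X.Etale := Scheme.Etale.mk (A.ι ≫ V'.hom)
  haveI : IsSeparated V''.hom := (inferInstance : IsSeparated (A.ι ≫ V'.hom))
  have hrange : Set.range (ptLeft v') ⊆ Set.range A.ι := by
    rintro _ ⟨z, rfl⟩
    rw [Subsingleton.elim z default, Scheme.Opens.range_ι]
    exact hvA
  obtain ⟨vl, hvl⟩ : ∃ vl : Spec (CommRingCat.of Ω) ⟶ A.toScheme, vl ≫ A.ι = ptLeft v' :=
    ⟨IsOpenImmersion.lift A.ι _ hrange, IsOpenImmersion.lift_fac _ _ _⟩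
  have hvl2 : vl ≫ (A.ι ≫ V'.hom) = ξ₀ := by rw [← Category.assoc, hvl, ptLeft_hom]
  obtain ⟨v'', hv''⟩ : ∃ v'' : (Scheme.pointSmallEtale ξ₀).fiber.obj V'', ptLeft v'' = vl :=
    ⟨Over.homMk vl hvl2, rfl⟩
  obtain ⟨U, u, V, h1, hprop, h2, h3, h, hh1, hh2⟩ := key_sep' f V'' ξ₀ hξ₀ v''
  refine ⟨U, u, V, h1, hprop, h2, h3, h ≫ A.ι, ?_, ?_⟩
  · rw [Category.assoc]
    exact hh1
  · intro l hl
    rw [← Category.assoc, hh2 l hl, hv'', hvl]

end Groth.Agent.Lib.EtShriekH7
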