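import Mathlib
import Groth.Agent.Lib.EtShriek6_helper7
import Groth.Agent.Lib.EtShriek7_helper7
import Groth.Agent.Lib.EtFinStalk2_helper7

/-!
# Stalks of the direct image with proper support along a separated quasi-finite morphism (helper7)

For `f : X ⟶ Y` separated, locally of finite type and locally quasi-finite, the stalk
`(f_! F)_η` is the direct sum of the stalks `F_ξ` over the geometric points `ξ` over `η`.
-/

set_option autoImplicit false
set_option backward.isDefEq.respectTransparency false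
set_option linter.style.haveILetI false
set_option linter.unusedSectionVars false
universe u
open CategoryTheory CategoryTheory.Limits AlgebraicGeometry Opposite

namespace Groth.Agent.Lib.EtShriekH7

open Groth.Agent.Lib.EtSchSite_helper7 Groth.Agent.Lib.EtFinStalkH7
  Groth.Agent.Lib.EtFinGeomH7 ProperOver Groth.Agent.Lib.EtSchSupp_helper7
  Groth.Agent.Lib.EtTraceH7 Groth.Agent.Lib.EtPushVanish_helper7
  Groth.Agent.Lib.EtSchExact_helper7
open Groth.Agent.Lib.EtFlasque_helper7 (app_map_apply map_id_apply app_comp_apply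
  sections_injective_of_mono)

section Aux

theorem isClosed_image_of_isProperOver {T S : Scheme.{u}} (p : T ⟶ S) (Z : Set T)
    (h : ClSub.IsProperOver p Z) : IsClosed (p '' Z) := by
  obtain ⟨hcl, hprop⟩ := h
  haveI : IsProper (redι Z hcl ≫ p) := hprop
  have hr : Set.range (redι Z hcl ≫ p) = p '' Z := by
    rw [range_comp', range_redι]
  rw [← hr]
  exact (Scheme.Hom.isClosedMap (redι Z hcl ≫ p)).isClosed_range

end Aux

variable {X Y : Scheme.{u}} (f : X ⟶ Y) {Ω : Type u} [Field Ω] [IsAlgClosed Ω]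

section Fin

variable [LocallyQuasiFinite f] {η : Spec (CommRingCat.of Ω) ⟶ Y}

theorem finite_lifts_in' (V : Y.Etale) (y : (Scheme.pointSmallEtale η).fiber.obj V)
    (Z : Set ((EtCoh.bc f).obj V).left) (hZ : ClSub.IsProperOver (EtShriek.prV f V) Z) :
    {v : {ξ : Spec (CommRingCat.of Ω) ⟶ X // ξ ≫ f = η} |
      ptLeft (liftPt f v.1 v.2 V y) default ∈ Z}.Finite := by
  obtain ⟨hcl, hprop⟩ := hZ
  haveI : IsProper (redι Z hcl ≫ EtShriek.prV f V) := hprop
  haveI : LocallyQuasiFinite (EtShriek.prV f V) :=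
    inferInstanceAs (LocallyQuasiFinite (pullback.fst V.hom f))
  haveI : LocallyQuasiFinite (redι Z hcl ≫ EtShriek.prV f V) := inferInstance
  haveI : IsFinite (redι Z hcl ≫ EtShriek.prV f V) :=
    IsFinite.of_isProper_of_locallyQuasiFinite _
  haveI := finite_points (redι Z hcl ≫ EtShriek.prV f V) (ptLeft y)
  have hfac : ∀ v : {v : {ξ : Spec (CommRingCat.of Ω) ⟶ X // ξ ≫ f = η} //
      ptLeft (liftPt f v.1 v.2 V y) default ∈ Z},
      ∃ g : Spec (CommRingCat.of Ω) ⟶ red Z hcl,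
        g ≫ redι Z hcl = ptLeft (liftPt f v.1.1 v.1.2 V y) := by
    intro v
    apply exists_lift_of_reduced' _ hcl
    rintro _ ⟨pt, rfl⟩
    rw [Subsingleton.elim pt default]
    exact v.2
  choose g hg using hfac
  let Φ : {v : {ξ : Spec (CommRingCat.of Ω) ⟶ X // ξ ≫ f = η} //
      ptLeft (liftPt f v.1 v.2 V y) default ∈ Z} →
      {ξ : Spec (CommRingCat.of Ω) ⟶ red Z hcl //
        ξ ≫ (redι Z hcl ≫ EtShriek.prV f V) = ptLeft y} :=
    fun v => ⟨g v, by
      rw [← Category.assoc, hg v]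
      exact liftPt_pr₁ f v.1.1 v.1.2 V y⟩
  have hinj : Function.Injective Φ := by
    intro v v' hvv
    have h1 : g v = g v' := congrArg Subtype.val hvv
    have h2 : ptLeft (liftPt f v.1.1 v.1.2 V y) = ptLeft (liftPt f v'.1.1 v'.1.2 V y) := by
      rw [← hg v, ← hg v', h1]
    apply Subtype.ext
    apply Subtype.ext
    have h3 := congrArg (fun m => m ≫ ((EtCoh.bc f).obj V).hom) h2
    exact (liftPt_hom f v.1.1 v.1.2 V y).symm.trans (h3.trans (liftPt_hom f v'.1.1 v'.1.2 V y))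
  exact Set.finite_coe_iff.mp (Finite.of_injective Φ hinj)

end Fin

section Phi

variable (F : EtCoh.Ab X) {η : Spec (CommRingCat.of Ω) ⟶ Y}

/-- The map `(f_! F)_η ⟶ F_ξ` for a geometric point `ξ` over `η`. -/
noncomputable def phi (ξ : Spec (CommRingCat.of Ω) ⟶ X) (hξ : ξ ≫ f = η) :
    (Scheme.pointSmallEtale η).presheafFiber.obj ((EtShriek.lowerShriek f).obj F).obj ⟶
      (Scheme.pointSmallEtale ξ).presheafFiber.obj F.obj :=
  (Scheme.pointSmallEtale η).presheafFiber.map (EtShriek.lowerShriekToPush f F).hom ≫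
    psi f F ξ hξ

theorem phi_apply (ξ : Spec (CommRingCat.of Ω) ⟶ X) (hξ : ξ ≫ f = η)
    (x : ToType ((Scheme.pointSmallEtale η).presheafFiber.obj
      ((EtShriek.lowerShriek f).obj F).obj)) :
    phi f F ξ hξ x = psi f F ξ hξ
      ((Scheme.pointSmallEtale η).presheafFiber.map (EtShriek.lowerShriekToPush f F).hom x) :=
  rfl

theorem map_toPush_germ (U : Y.Etale) (u : (Scheme.pointSmallEtale η).fiber.obj U)
    (t : ToType (((EtShriek.lowerShriek f).obj F).obj.obj (op U))) :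
    (Scheme.pointSmallEtale η).presheafFiber.map (EtShriek.lowerShriekToPush f F).hom
      ((Scheme.pointSmallEtale η).toPresheafFiber U u ((EtShriek.lowerShriek f).obj F).obj t) =
    (Scheme.pointSmallEtale η).toPresheafFiber U u ((EtCoh.push f).obj F).obj
      ((EtShriek.lowerShriekToPush f F).hom.app (op U) t) := by
  have h1 := (Scheme.pointSmallEtale η).toPresheafFiber_naturality
    (EtShriek.lowerShriekToPush f F).hom U u
  exact (comp2_apply _ _ _ h1 t).trans rfl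

theorem phi_germ (ξ : Spec (CommRingCat.of Ω) ⟶ X) (hξ : ξ ≫ f = η) (U : Y.Etale)
    (u : (Scheme.pointSmallEtale η).fiber.obj U)
    (t : ToType (((EtShriek.lowerShriek f).obj F).obj.obj (op U))) :
    phi f F ξ hξ ((Scheme.pointSmallEtale η).toPresheafFiber U u
      ((EtShriek.lowerShriek f).obj F).obj t) =
      (Scheme.pointSmallEtale ξ).toPresheafFiber ((EtCoh.bc f).obj U)
        (liftPt f ξ hξ U u) F.obj ((EtShriek.lowerShriekToPush f F).hom.app (op U) t) := by
  rw [phi_apply, map_toPush_germ, psi_germ]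

theorem phi_naturality {F G : EtCoh.Ab X} (a : F ⟶ G) (ξ : Spec (CommRingCat.of Ω) ⟶ X)
    (hξ : ξ ≫ f = η) :
    phi f F ξ hξ ≫ (Scheme.pointSmallEtale ξ).presheafFiber.map a.hom =
      (Scheme.pointSmallEtale η).presheafFiber.map ((EtShriek.lowerShriek f).map a).hom ≫
        phi f G ξ hξ := by
  have h1 := psi_naturality f a ξ hξ
  have h2 : (Scheme.pointSmallEtale η).presheafFiber.map
      ((EtShriek.lowerShriek f).map a).hom ≫
      (Scheme.pointSmallEtale η).presheafFiber.map (EtShriek.lowerShriekToPush f G).hom =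
      (Scheme.pointSmallEtale η).presheafFiber.map (EtShriek.lowerShriekToPush f F).hom ≫
        (Scheme.pointSmallEtale η).presheafFiber.map ((EtCoh.push f).map a).hom := by
    rw [← Functor.map_comp, ← Functor.map_comp]
    exact congrArg (fun (m : (EtShriek.lowerShriek f).obj F ⟶ (EtCoh.push f).obj G) =>
      (Scheme.pointSmallEtale η).presheafFiber.map m.hom) (toPush_naturality f a)
  unfold phi
  rw [Category.assoc, h1, ← Category.assoc, ← h2, Category.assoc]

end Phi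

section Inj

variable [LocallyOfFiniteType f] [LocallyQuasiFinite f] (F : EtCoh.Ab X)
  {η : Spec (CommRingCat.of Ω) ⟶ Y}

theorem eq_zero_of_phi_eq_zero
    (x : ToType ((Scheme.pointSmallEtale η).presheafFiber.obj
      ((EtShriek.lowerShriek f).obj F).obj))
    (hx : ∀ (ξ : Spec (CommRingCat.of Ω) ⟶ X) (hξ : ξ ≫ f = η), phi f F ξ hξ x = 0) :
    x = 0 := by
  obtain ⟨U, u, t, rfl⟩ := (Scheme.pointSmallEtale η).toPresheafFiber_jointly_surjective x
  obtain ⟨s, hs⟩ : ∃ s : EtCoh.sect F ((EtCoh.bc f).obj U),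
      s = (EtShriek.lowerShriekToPush f F).hom.app (op U) t := ⟨_, rfl⟩
  have hmem : s ∈ EtShriek.shriekSubgroup f F U := by
    rw [hs]
    exact toPush_mem f F U t
  obtain ⟨Z, hZ, hp⟩ := (shriekPred_iff f F U s).1 ((mem_shriekSubgroup_iff f F U s).1 hmem)
  have hcl : IsClosed (pr₁ f U '' EtShriek.sectSupp F ((EtCoh.bc f).obj U) s) :=
    isClosed_image_of_isProperOver _ _
      (isProperOver_of_subset _ hp (isClosed_sectSupp F _ s) hZ)
  have h0 : (Scheme.pointSmallEtale η).toPresheafFiber U u ((EtCoh.push f).obj F).obj s = 0 := by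
    refine germ_eq_zero_of_psi f F U u s hcl (fun ξ hξ => ?_)
    have h := hx ξ hξ
    rw [phi_germ, ← hs] at h
    rw [psi_germ]
    exact h
  have hinj : Function.Injective
      ((Scheme.pointSmallEtale η).presheafFiber.map (EtShriek.lowerShriekToPush f F).hom) :=
    (mono_iff (EtShriek.lowerShriekToPush f F)).1 inferInstance Ω η
  apply hinj
  rw [map_toPush_germ, ← hs, h0, map_zero]

theorem finite_phi_ne_zero
    (x : ToType ((Scheme.pointSmallEtale η).presheafFiber.obj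
      ((EtShriek.lowerShriek f).obj F).obj)) :
    {v : {ξ : Spec (CommRingCat.of Ω) ⟶ X // ξ ≫ f = η} | phi f F v.1 v.2 x ≠ 0}.Finite := by
  obtain ⟨U, u, t, rfl⟩ := (Scheme.pointSmallEtale η).toPresheafFiber_jointly_surjective x
  obtain ⟨s, hs⟩ : ∃ s : EtCoh.sect F ((EtCoh.bc f).obj U),
      s = (EtShriek.lowerShriekToPush f F).hom.app (op U) t := ⟨_, rfl⟩
  have hmem : s ∈ EtShriek.shriekSubgroup f F U := by
    rw [hs]
    exact toPush_mem f F U t
  obtain ⟨Z, hZ, hp⟩ := (shriekPred_iff f F U s).1 ((mem_shriekSubgroup_iff f F U s).1 hmem)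
  refine (finite_lifts_in' f U u Z hp).subset ?_
  intro v hv
  show ptLeft (liftPt f v.1 v.2 U u) default ∈ Z
  by_contra hnot
  apply hv
  rw [phi_germ, ← hs]
  exact germ_eq_zero_of_not_mem F ((EtCoh.bc f).obj U) s v.1 (liftPt f v.1 v.2 U u)
    (fun hm => hnot (hZ hm))

end Inj

section Surj

variable [IsSeparated f] [LocallyOfFiniteType f] [LocallyQuasiFinite f] (F : EtCoh.Ab X)
  {η : Spec (CommRingCat.of Ω) ⟶ Y}

theorem exists_phi_single (ξ₀ : Spec (CommRingCat.of Ω) ⟶ X) (hξ₀ : ξ₀ ≫ f = η)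
    (t₀ : ToType ((Scheme.pointSmallEtale ξ₀).presheafFiber.obj F.obj)) :
    ∃ x : ToType ((Scheme.pointSmallEtale η).presheafFiber.obj
        ((EtShriek.lowerShriek f).obj F).obj),
      phi f F ξ₀ hξ₀ x = t₀ ∧
      ∀ (ξ : Spec (CommRingCat.of Ω) ⟶ X) (hξ : ξ ≫ f = η), ξ ≠ ξ₀ → phi f F ξ hξ x = 0 := by
  obtain ⟨V', v', τ, rfl⟩ := (Scheme.pointSmallEtale ξ₀).toPresheafFiber_jointly_surjective t₀
  obtain ⟨U, u, V, hVclopen, hVprop, hmem, huniq, h, hh1, hh2⟩ := key' f V' ξ₀ hξ₀ v'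
  obtain ⟨Vc, hVc⟩ : ∃ Vc : ((EtCoh.bc f).obj U).left.Opens,
      (Vc : Set ((EtCoh.bc f).obj U).left) = (V : Set ((EtCoh.bc f).obj U).left)ᶜ :=
    ⟨⟨(V : Set ((EtCoh.bc f).obj U).left)ᶜ, hVclopen.compl.isOpen⟩, rfl⟩
  have hmemVc : ∀ p : ((EtCoh.bc f).obj U).left, p ∈ Vc ↔ p ∉ V := by
    intro p
    have : p ∈ (Vc : Set ((EtCoh.bc f).obj U).left) ↔
        p ∈ (V : Set ((EtCoh.bc f).obj U).left)ᶜ := by rw [hVc]
    exact this
  let hE : subE ((EtCoh.bc f).obj U) V ⟶ V' := MorphismProperty.Over.homMk h hh1 trivial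
  obtain ⟨s, hs1, hs2⟩ := glue_clopen F ((EtCoh.bc f).obj U) V Vc
    (fun p => (em (p ∈ V)).imp id (fun hp => (hmemVc p).2 hp))
    (fun p hp hp' => (hmemVc p).1 hp' hp) (F.obj.map hE.op τ)
  have hsupp : EtShriek.sectSupp F ((EtCoh.bc f).obj U) s ⊆
      (V : Set ((EtCoh.bc f).obj U).left) := by
    intro p hp
    by_contra hpV
    have hpVc : p ∈ Vc := (hmemVc p).2 hpV
    exact hp (subE ((EtCoh.bc f).obj U) Vc) (subι ((EtCoh.bc f).obj U) Vc)
      ⟨(⟨p, hpVc⟩ : Vc.toScheme), rfl⟩ hs2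
  have hmemS : s ∈ EtShriek.shriekSubgroup f F U :=
    (mem_shriekSubgroup_iff f F U s).2 ((shriekPred_iff f F U s).2 ⟨_, hsupp, hVprop⟩)
  obtain ⟨t, ht⟩ := exists_toPush_eq f F U s hmemS
  refine ⟨(Scheme.pointSmallEtale η).toPresheafFiber U u
    ((EtShriek.lowerShriek f).obj F).obj t, ?_, ?_⟩
  · rw [phi_germ, ht]
    have hlrange : Set.range (ptLeft (liftPt f ξ₀ hξ₀ U u)) ⊆ Set.range V.ι := by
      rintro _ ⟨z, rfl⟩
      rw [Subsingleton.elim z default, Scheme.Opens.range_ι]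
      exact hmem
    obtain ⟨l, hl⟩ : ∃ l : Spec (CommRingCat.of Ω) ⟶ V.toScheme,
        l ≫ V.ι = ptLeft (liftPt f ξ₀ hξ₀ U u) :=
      ⟨IsOpenImmersion.lift V.ι _ hlrange, IsOpenImmersion.lift_fac _ _ _⟩
    have hlw : l ≫ (V.ι ≫ ((EtCoh.bc f).obj U).hom) = ξ₀ := by
      rw [← Category.assoc, hl, liftPt_hom]
    obtain ⟨w, hw⟩ : ∃ w : (Scheme.pointSmallEtale ξ₀).fiber.obj
        (subE ((EtCoh.bc f).obj U) V), ptLeft w = l := ⟨Over.homMk l hlw, rfl⟩
    have hw1 : (Scheme.pointSmallEtale ξ₀).fiber.map (subι ((EtCoh.bc f).obj U) V) w =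
        liftPt f ξ₀ hξ₀ U u := by
      apply ptLeft_ext
      rw [ptLeft_map, hw]
      exact hl
    have hw2 : (Scheme.pointSmallEtale ξ₀).fiber.map hE w = v' := by
      apply ptLeft_ext
      rw [ptLeft_map, hw]
      exact hh2 l hl
    rw [← hw1, ← (Scheme.pointSmallEtale ξ₀).toPresheafFiber_w_apply
      (subι ((EtCoh.bc f).obj U) V) w F.obj s, hs1,
      (Scheme.pointSmallEtale ξ₀).toPresheafFiber_w_apply hE w F.obj τ, hw2]
  · intro ξ hξ hne
    rw [phi_germ, ht]
    have hnotV : ptLeft (liftPt f ξ hξ U u) default ∉ V := fun hV => hne (huniq ξ hξ hV)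
    have hlrange : Set.range (ptLeft (liftPt f ξ hξ U u)) ⊆ Set.range Vc.ι := by
      rintro _ ⟨z, rfl⟩
      rw [Subsingleton.elim z default, Scheme.Opens.range_ι]
      exact (hmemVc _).2 hnotV
    obtain ⟨l, hl⟩ : ∃ l : Spec (CommRingCat.of Ω) ⟶ Vc.toScheme,
        l ≫ Vc.ι = ptLeft (liftPt f ξ hξ U u) :=
      ⟨IsOpenImmersion.lift Vc.ι _ hlrange, IsOpenImmersion.lift_fac _ _ _⟩
    have hlw : l ≫ (Vc.ι ≫ ((EtCoh.bc f).obj U).hom) = ξ := by
      rw [← Category.assoc, hl, liftPt_hom]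
    obtain ⟨w, hw⟩ : ∃ w : (Scheme.pointSmallEtale ξ).fiber.obj
        (subE ((EtCoh.bc f).obj U) Vc), ptLeft w = l := ⟨Over.homMk l hlw, rfl⟩
    have hw1 : (Scheme.pointSmallEtale ξ).fiber.map (subι ((EtCoh.bc f).obj U) Vc) w =
        liftPt f ξ hξ U u := by
      apply ptLeft_ext
      rw [ptLeft_map, hw]
      exact hl
    rw [← hw1, ← (Scheme.pointSmallEtale ξ).toPresheafFiber_w_apply
      (subι ((EtCoh.bc f).obj U) Vc) w F.obj s, hs2, map_zero]

end Surj

section Iso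

open DirectSum

variable [IsSeparated f] [LocallyOfFiniteType f] [LocallyQuasiFinite f] (F : EtCoh.Ab X)
  (η : Spec (CommRingCat.of Ω) ⟶ Y)

/-- The joint map `(f_! F)_η → ∏_ξ F_ξ` as an additive map. -/
noncomputable def phiPi :
    ((Scheme.pointSmallEtale η).presheafFiber.obj ((EtShriek.lowerShriek f).obj F).obj :
        AddCommGrpCat.{u + 1}) →+
      (∀ ξ : {ξ : Spec (CommRingCat.of Ω) ⟶ X // ξ ≫ f = η},
        ((Scheme.pointSmallEtale ξ.1).presheafFiber.obj F.obj : AddCommGrpCat.{u + 1})) :=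
  AddMonoidHom.pi (fun ξ => (phi f F ξ.1 ξ.2).hom)

theorem phiPi_apply (x : ToType ((Scheme.pointSmallEtale η).presheafFiber.obj
    ((EtShriek.lowerShriek f).obj F).obj))
    (ξ : {ξ : Spec (CommRingCat.of Ω) ⟶ X // ξ ≫ f = η}) :
    phiPi f F η x ξ = phi f F ξ.1 ξ.2 x := rfl

theorem phiPi_injective : Function.Injective (phiPi f F η) := by
  rw [injective_iff_map_eq_zero]
  intro x hx
  apply eq_zero_of_phi_eq_zero f F x
  intro ξ hξ
  exact congrFun hx ⟨ξ, hξ⟩

open Classical in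
theorem phiPi_range :
    (phiPi f F η).range = (DFinsupp.coeFnAddMonoidHom
      (β := fun ξ : {ξ : Spec (CommRingCat.of Ω) ⟶ X // ξ ≫ f = η} =>
        ((Scheme.pointSmallEtale ξ.1).presheafFiber.obj F.obj : AddCommGrpCat.{u + 1}))).range := by
  apply le_antisymm
  · rintro _ ⟨x, rfl⟩
    have hfin := finite_phi_ne_zero f F x
    refine ⟨DFinsupp.mk (β := fun ξ : {ξ : Spec (CommRingCat.of Ω) ⟶ X // ξ ≫ f = η} =>
        ((Scheme.pointSmallEtale ξ.1).presheafFiber.obj F.obj : AddCommGrpCat.{u + 1}))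
      hfin.toFinset (fun i => phiPi f F η x i.1), ?_⟩
    funext ξ
    show (DFinsupp.mk (β := fun ξ : {ξ : Spec (CommRingCat.of Ω) ⟶ X // ξ ≫ f = η} =>
        ((Scheme.pointSmallEtale ξ.1).presheafFiber.obj F.obj : AddCommGrpCat.{u + 1}))
      hfin.toFinset (fun i => phiPi f F η x i.1)) ξ = phiPi f F η x ξ
    rw [DFinsupp.mk_apply]
    split_ifs with hmem
    · rfl
    · have h1 : ¬ (phi f F ξ.1 ξ.2 x ≠ 0) := fun h => hmem (hfin.mem_toFinset.2 h)
      exact (not_not.1 h1).symm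
  · rintro _ ⟨d, rfl⟩
    induction d using DirectSum.induction_on with
    | zero => exact ⟨0, (map_zero _).trans (map_zero _).symm⟩
    | of i y =>
      obtain ⟨x, hx1, hx2⟩ := exists_phi_single f F i.1 i.2 y
      refine ⟨x, ?_⟩
      funext ξ
      show phi f F ξ.1 ξ.2 x = (DirectSum.of
        (fun ξ : {ξ : Spec (CommRingCat.of Ω) ⟶ X // ξ ≫ f = η} =>
          ((Scheme.pointSmallEtale ξ.1).presheafFiber.obj F.obj : AddCommGrpCat.{u + 1})) i y :
        Π₀ ξ : {ξ : Spec (CommRingCat.of Ω) ⟶ X // ξ ≫ f = η},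
          ((Scheme.pointSmallEtale ξ.1).presheafFiber.obj F.obj : AddCommGrpCat.{u + 1})) ξ
      by_cases hξ : ξ = i
      · subst hξ
        exact hx1.trans (DirectSum.of_eq_same
          (β := fun ξ : {ξ : Spec (CommRingCat.of Ω) ⟶ X // ξ ≫ f = η} =>
            ((Scheme.pointSmallEtale ξ.1).presheafFiber.obj F.obj : AddCommGrpCat.{u + 1}))
          ξ y).symm
      · exact (hx2 ξ.1 ξ.2 (fun h => hξ (Subtype.ext h))).trans
          (DirectSum.of_eq_of_ne
            (β := fun ξ : {ξ : Spec (CommRingCat.of Ω) ⟶ X // ξ ≫ f = η} =>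
              ((Scheme.pointSmallEtale ξ.1).presheafFiber.obj F.obj : AddCommGrpCat.{u + 1}))
            i ξ y hξ).symm
    | add a b ha hb =>
      obtain ⟨xa, hxa⟩ := ha
      obtain ⟨xb, hxb⟩ := hb
      exact ⟨xa + xb, by rw [map_add, hxa, hxb, map_add]⟩

open Classical in
/-- The stalk formula for a direct image with proper support along a separated locally
quasi-finite morphism. -/
theorem main683 :
    Nonempty ((EtCoh.stalk η).obj ((EtShriek.lowerShriek f).obj F) ≅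
      ∐ fun ξ : {ξ : Spec (CommRingCat.of Ω) ⟶ X // ξ ≫ f = η} => (EtCoh.stalk ξ.1).obj F) := by
  let g : {ξ : Spec (CommRingCat.of Ω) ⟶ X // ξ ≫ f = η} → AddCommGrpCat.{u + 1} :=
    fun ξ => (Scheme.pointSmallEtale ξ.1).presheafFiber.obj F.obj
  have hC : Function.Injective (DFinsupp.coeFnAddMonoidHom (β := fun ξ => g ξ)) :=
    DFunLike.coe_injective
  let e : ((Scheme.pointSmallEtale η).presheafFiber.obj ((EtShriek.lowerShriek f).obj F).obj :
      AddCommGrpCat.{u + 1}) ≃+ (⨁ ξ, g ξ) :=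
    (AddMonoidHom.ofInjective (phiPi_injective f F η)).trans
      ((AddEquiv.addSubgroupCongr (phiPi_range f F η)).trans
        (AddMonoidHom.ofInjective hC).symm)
  let e2 : ∐ g ≅ AddCommGrpCat.of (⨁ ξ, g ξ) :=
    (colimit.isColimit _).coconePointUniqueUpToIso (dsIsColimit g)
  exact ⟨AddEquiv.toAddCommGrpIso
    (X := (Scheme.pointSmallEtale η).presheafFiber.obj ((EtShriek.lowerShriek f).obj F).obj)
    (Y := AddCommGrpCat.of (⨁ ξ, g ξ)) e ≪≫ e2.symm⟩

end Iso

end Groth.Agent.Lib.EtShriekH7
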