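import Mathlib
import Groth.Agent.Lib.EtShriek8_helper7

/-!
# Exactness of the direct image with proper support along a separated quasi-finite morphism
(helper7)
-/

set_option autoImplicit false
set_option backward.isDefEq.respectTransparency false
set_option linter.style.haveILetI false
set_option linter.unusedSectionVars false
universe u
open CategoryTheory CategoryTheory.Limits AlgebraicGeometry Opposite

namespace Groth.Agent.Lib.EtShriekH7

open Groth.Agent.Lib.EtSchSite_helper7 Groth.Agent.Lib.EtFinStalkH7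
  Groth.Agent.Lib.EtFinGeomH7 ProperOver Groth.Agent.Lib.EtSchSupp_helper7
  Groth.Agent.Lib.EtTraceH7 Groth.Agent.Lib.EtPushVanish_helper7
  Groth.Agent.Lib.EtSchExact_helper7 Groth.Agent.Lib.EtSchStalk_helper7

section General

variable {X : Scheme.{u}}

theorem exact_of_algClosed_stalks (C : ShortComplex (EtCoh.Ab X))
    (h : ∀ (K : Type u) [Field K] [IsAlgClosed K] (ξ : Spec (CommRingCat.of K) ⟶ X),
      (C.map (EtCoh.stalk ξ)).Exact) : C.Exact := by
  rw [ShortComplex.exact_iff_isZero_homology]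
  apply isZero_of_stalks
  intro K _ _ ξ
  exact IsZero.of_iso ((ShortComplex.exact_iff_isZero_homology _).1 (h K ξ))
    (C.mapHomologyIso _).symm

end General

section Add

variable {X Y : Scheme.{u}} (f : X ⟶ Y)

instance additive_push : (EtCoh.push f).Additive :=
  ⟨by
    intro F G a b
    ext V s
    rfl⟩

instance additive_lowerShriek : (EtShriek.lowerShriek f).Additive where
  map_add := by
    intro F G a b
    apply (cancel_mono (EtShriek.lowerShriekToPush f G)).1
    rw [toPush_naturality, Preadditive.add_comp, toPush_naturality, toPush_naturality,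
      Functor.map_add, Preadditive.comp_add]

theorem mono_lowerShriek_map {F G : EtCoh.Ab X} (a : F ⟶ G) [Mono a] :
    Mono ((EtShriek.lowerShriek f).map a) := by
  haveI : (EtCoh.push f).IsRightAdjoint := (EtCoh.pullPushAdj f).isRightAdjoint
  haveI : Mono ((EtCoh.push f).map a) := inferInstance
  haveI : Mono (EtShriek.lowerShriekToPush f F ≫ (EtCoh.push f).map a) := mono_comp _ _
  haveI : Mono ((EtShriek.lowerShriek f).map a ≫ EtShriek.lowerShriekToPush f G) := by
    rw [toPush_naturality]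
    infer_instance
  exact mono_of_mono ((EtShriek.lowerShriek f).map a) (EtShriek.lowerShriekToPush f G)

end Add

section Stalkwise

variable {X Y : Scheme.{u}} (f : X ⟶ Y) [IsSeparated f] [LocallyOfFiniteType f]
  [LocallyQuasiFinite f] {Ω : Type u} [Field Ω] [IsAlgClosed Ω] (η : Spec (CommRingCat.of Ω) ⟶ Y)

theorem phi_naturality_apply {F G : EtCoh.Ab X} (a : F ⟶ G) (ξ : Spec (CommRingCat.of Ω) ⟶ X)
    (hξ : ξ ≫ f = η)
    (x : ToType ((Scheme.pointSmallEtale η).presheafFiber.obj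
      ((EtShriek.lowerShriek f).obj F).obj)) :
    phi f G ξ hξ ((Scheme.pointSmallEtale η).presheafFiber.map
      ((EtShriek.lowerShriek f).map a).hom x) =
      (Scheme.pointSmallEtale ξ).presheafFiber.map a.hom (phi f F ξ hξ x) :=
  (comp2_apply _ _ _ (phi_naturality f a ξ hξ).symm x).trans rfl

open Classical in
theorem exists_phiPi_eq (F : EtCoh.Ab X)
    (b : ∀ ξ : {ξ : Spec (CommRingCat.of Ω) ⟶ X // ξ ≫ f = η},
      ((Scheme.pointSmallEtale ξ.1).presheafFiber.obj F.obj : AddCommGrpCat.{u + 1}))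
    (hb : {ξ | b ξ ≠ 0}.Finite) :
    ∃ x : ToType ((Scheme.pointSmallEtale η).presheafFiber.obj
        ((EtShriek.lowerShriek f).obj F).obj),
      ∀ (ξ : Spec (CommRingCat.of Ω) ⟶ X) (hξ : ξ ≫ f = η), phi f F ξ hξ x = b ⟨ξ, hξ⟩ := by
  have hmem : b ∈ (DFinsupp.coeFnAddMonoidHom
      (β := fun ξ : {ξ : Spec (CommRingCat.of Ω) ⟶ X // ξ ≫ f = η} =>
        ((Scheme.pointSmallEtale ξ.1).presheafFiber.obj F.obj : AddCommGrpCat.{u + 1}))).range := by
    refine ⟨DFinsupp.mk (β := fun ξ : {ξ : Spec (CommRingCat.of Ω) ⟶ X // ξ ≫ f = η} =>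
        ((Scheme.pointSmallEtale ξ.1).presheafFiber.obj F.obj : AddCommGrpCat.{u + 1}))
      hb.toFinset (fun i => b i.1), ?_⟩
    funext ξ
    show (DFinsupp.mk (β := fun ξ : {ξ : Spec (CommRingCat.of Ω) ⟶ X // ξ ≫ f = η} =>
        ((Scheme.pointSmallEtale ξ.1).presheafFiber.obj F.obj : AddCommGrpCat.{u + 1}))
      hb.toFinset (fun i => b i.1)) ξ = b ξ
    rw [DFinsupp.mk_apply]
    split_ifs with hmem
    · rfl
    · have h1 : ¬ (b ξ ≠ 0) := fun h => hmem (hb.mem_toFinset.2 h)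
      exact (not_not.1 h1).symm
  rw [← phiPi_range f F η] at hmem
  obtain ⟨x, hx⟩ := hmem
  exact ⟨x, fun ξ hξ => congrFun hx ⟨ξ, hξ⟩⟩

open Classical in
theorem exists_lift_family {F G : EtCoh.Ab X} (a : F ⟶ G)
    (c : ∀ ξ : {ξ : Spec (CommRingCat.of Ω) ⟶ X // ξ ≫ f = η},
      ((Scheme.pointSmallEtale ξ.1).presheafFiber.obj G.obj : AddCommGrpCat.{u + 1}))
    (hc : {ξ | c ξ ≠ 0}.Finite)
    (hsurj : ∀ ξ : {ξ : Spec (CommRingCat.of Ω) ⟶ X // ξ ≫ f = η},
      ∃ b : ((Scheme.pointSmallEtale ξ.1).presheafFiber.obj F.obj : AddCommGrpCat.{u + 1}),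
        (Scheme.pointSmallEtale ξ.1).presheafFiber.map a.hom b = c ξ) :
    ∃ x : ToType ((Scheme.pointSmallEtale η).presheafFiber.obj
        ((EtShriek.lowerShriek f).obj F).obj),
      ∀ (ξ : Spec (CommRingCat.of Ω) ⟶ X) (hξ : ξ ≫ f = η),
        (Scheme.pointSmallEtale ξ).presheafFiber.map a.hom (phi f F ξ hξ x) = c ⟨ξ, hξ⟩ := by
  choose b0 hb0 using hsurj
  obtain ⟨b, hbdef⟩ : ∃ b : ∀ ξ : {ξ : Spec (CommRingCat.of Ω) ⟶ X // ξ ≫ f = η},
      ((Scheme.pointSmallEtale ξ.1).presheafFiber.obj F.obj : AddCommGrpCat.{u + 1}),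
      ∀ ξ, b ξ = if c ξ = 0 then 0 else b0 ξ := ⟨fun ξ => if c ξ = 0 then 0 else b0 ξ, fun _ => rfl⟩
  have hb : {ξ | b ξ ≠ 0}.Finite := by
    refine hc.subset (fun ξ hξ hcz => hξ ?_)
    rw [hbdef ξ, if_pos hcz]
  obtain ⟨x, hx⟩ := exists_phiPi_eq f η F b hb
  refine ⟨x, fun ξ hξ => ?_⟩
  rw [hx ξ hξ, hbdef ⟨ξ, hξ⟩]
  split_ifs with h0
  · rw [map_zero, h0]
  · exact hb0 ⟨ξ, hξ⟩

theorem stalk_map_surjective {F G : EtCoh.Ab X} (a : F ⟶ G) [Epi a] :
    Function.Surjective ((Scheme.pointSmallEtale η).presheafFiber.map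
      ((EtShriek.lowerShriek f).map a).hom) := by
  intro y
  have hsurj : ∀ ξ : {ξ : Spec (CommRingCat.of Ω) ⟶ X // ξ ≫ f = η},
      Function.Surjective ((Scheme.pointSmallEtale ξ.1).presheafFiber.map a.hom) :=
    fun ξ => (epi_iff a).1 inferInstance Ω ξ.1
  obtain ⟨x, hx⟩ := exists_lift_family f η a (fun ξ => phi f G ξ.1 ξ.2 y)
    (finite_phi_ne_zero f G y) (fun ξ => hsurj ξ _)
  refine ⟨x, ?_⟩
  apply phiPi_injective f G η
  funext ξ
  rw [phiPi_apply, phiPi_apply]
  exact (phi_naturality_apply f η a ξ.1 ξ.2 x).trans (hx ξ.1 ξ.2)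

theorem stalk_exact (S : ShortComplex (EtCoh.Ab X)) (hS : S.ShortExact) :
    ((S.map (EtShriek.lowerShriek f)).map (EtCoh.stalk η)).Exact := by
  rw [ShortComplex.ab_exact_iff]
  intro x₂ hx₂
  have hx₂' : (Scheme.pointSmallEtale η).presheafFiber.map
      ((EtShriek.lowerShriek f).map S.g).hom x₂ = 0 := hx₂
  have hc : ∀ ξ : {ξ : Spec (CommRingCat.of Ω) ⟶ X // ξ ≫ f = η},
      ∃ b : ((Scheme.pointSmallEtale ξ.1).presheafFiber.obj S.X₁.obj : AddCommGrpCat.{u + 1}),
        (Scheme.pointSmallEtale ξ.1).presheafFiber.map S.f.hom b =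
          phi f S.X₂ ξ.1 ξ.2 x₂ := by
    intro ξ
    have hex : (S.map (EtCoh.stalk ξ.1)).Exact := hS.exact.map _
    have h0 : (Scheme.pointSmallEtale ξ.1).presheafFiber.map S.g.hom
        (phi f S.X₂ ξ.1 ξ.2 x₂) = 0 := by
      rw [← phi_naturality_apply, hx₂', map_zero]
    exact (ShortComplex.ab_exact_iff _).1 hex (phi f S.X₂ ξ.1 ξ.2 x₂) h0
  obtain ⟨x₁, hx₁⟩ := exists_lift_family f η S.f (fun ξ => phi f S.X₂ ξ.1 ξ.2 x₂)
    (finite_phi_ne_zero f S.X₂ x₂) hc
  refine ⟨x₁, ?_⟩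
  apply phiPi_injective f S.X₂ η
  funext ξ
  rw [phiPi_apply, phiPi_apply]
  exact (phi_naturality_apply f η S.f ξ.1 ξ.2 x₁).trans (hx₁ ξ.1 ξ.2)

end Stalkwise

section Main

variable {X Y : Scheme.{u}} (f : X ⟶ Y) [IsSeparated f] [LocallyOfFiniteType f]
  [LocallyQuasiFinite f]

theorem exact_lowerShriek_map (S : ShortComplex (EtCoh.Ab X)) (hS : S.ShortExact) :
    (S.map (EtShriek.lowerShriek f)).Exact :=
  exact_of_algClosed_stalks _ (fun _ _ _ η => stalk_exact f η S hS)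

theorem epi_lowerShriek_map {F G : EtCoh.Ab X} (a : F ⟶ G) [Epi a] :
    Epi ((EtShriek.lowerShriek f).map a) := by
  haveI : Sheaf.IsLocallySurjective ((EtShriek.lowerShriek f).map a) :=
    isLocallySurjective_of_stalks ((EtShriek.lowerShriek f).map a).hom
      (fun _ _ _ η => stalk_map_surjective f η a)
  infer_instance

theorem main684 :
    PreservesFiniteLimits (EtShriek.lowerShriek f) ∧
      PreservesFiniteColimits (EtShriek.lowerShriek f) := by
  constructor
  · rw [Functor.preservesFiniteLimits_iff_forall_exact_map_and_mono]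
    intro S hS
    haveI := hS.mono_f
    exact ⟨exact_lowerShriek_map f S hS, mono_lowerShriek_map f S.f⟩
  · rw [Functor.preservesFiniteColimits_iff_forall_exact_map_and_epi]
    intro S hS
    haveI := hS.epi_g
    exact ⟨exact_lowerShriek_map f S hS, epi_lowerShriek_map f S.g⟩

end Main

end Groth.Agent.Lib.EtShriekH7
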