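import Mathlib
import Groth.Agent.Lib.EtShriek9_helper7

/-!
# The direct image with proper support commutes with direct sums (helper7)
-/

set_option autoImplicit false
set_option backward.isDefEq.respectTransparency false
set_option linter.style.haveILetI false
set_option linter.unusedSectionVars false
universe u
open CategoryTheory CategoryTheory.Limits AlgebraicGeometry Opposite

namespace Groth.Agent.Lib.EtShriekH7

open Groth.Agent.Lib.EtSchSite_helper7 Groth.Agent.Lib.EtFinStalkH7
  Groth.Agent.Lib.EtFinGeomH7 ProperOver Groth.Agent.Lib.EtSchSupp_helper7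
  Groth.Agent.Lib.EtTraceH7 Groth.Agent.Lib.EtPushVanish_helper7
  Groth.Agent.Lib.EtSchExact_helper7 Groth.Agent.Lib.EtSchStalk_helper7
open Groth.Agent.Lib.EtFlasque_helper7 (app_map_apply map_id_apply app_comp_apply
  sections_injective_of_mono zero_app_apply)

section AbCoprod

open DirectSum

variable {ι : Type (u + 1)} (B : ι → AddCommGrpCat.{u + 1})

/-- the direct sum cofan -/
noncomputable def dsCofan' [DecidableEq ι] : Cofan B :=
  Cofan.mk (AddCommGrpCat.of (⨁ i, B i))
    (fun i => AddCommGrpCat.ofHom (DirectSum.of (fun i => B i) i))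

/-- the direct sum is a coproduct -/
noncomputable def dsIsColimit' [DecidableEq ι] : IsColimit (dsCofan' B) :=
  Cofan.IsColimit.mk (dsCofan' B)
    (fun s => AddCommGrpCat.ofHom (DirectSum.toAddMonoid (fun i => (s.inj i).hom)))
    (fun s i => by
      ext x
      exact DirectSum.toAddMonoid_of (fun i => (s.inj i).hom) i x)
    (fun s m hm => by
      ext x
      refine DFunLike.congr_fun (DirectSum.addHom_ext (f := m.hom)
        (g := DirectSum.toAddMonoid (fun i => (s.inj i).hom)) ?_) x
      intro i y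
      have h1 := congrArg (fun (k : B i ⟶ s.pt) => k y) (hm i)
      exact h1.trans (DirectSum.toAddMonoid_of (fun i => (s.inj i).hom) i y).symm)

open Classical in
theorem exists_finset_sum [DecidableEq ι] (c : Cofan B) (hc : IsColimit c) (z : ToType c.pt) :
    ∃ (I : Finset ι) (b : ∀ i, B i), z = ∑ i ∈ I, c.inj i (b i) := by
  let e : c.pt ≅ AddCommGrpCat.of (⨁ i, B i) := hc.coconePointUniqueUpToIso (dsIsColimit' B)
  have he : ∀ i, (dsCofan' B).inj i ≫ e.inv = c.inj i := fun i =>
    hc.comp_coconePointUniqueUpToIso_inv (dsIsColimit' B) ⟨i⟩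
  obtain ⟨d, hd⟩ : ∃ d : ⨁ i, B i, d = e.hom z := ⟨_, rfl⟩
  have h1 : e.inv d = z := by
    rw [hd]
    exact congrArg (fun (k : c.pt ⟶ c.pt) => k z) e.hom_inv_id
  refine ⟨d.support, fun i => d i, ?_⟩
  rw [← h1]
  have h2 : d = ∑ i ∈ d.support, DirectSum.of (fun i => B i) i (d i) :=
    (DirectSum.sum_support_of d).symm
  conv_lhs => rw [h2]
  rw [map_sum]
  refine Finset.sum_congr rfl (fun i _ => ?_)
  exact comp2_apply _ _ _ (he i) (d i)

theorem eq_zero_of_proj [DecidableEq ι] (c : Cofan B) (hc : IsColimit c)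
    (q : ∀ j, c.pt ⟶ B j) (hq1 : ∀ i, c.inj i ≫ q i = 𝟙 _)
    (hq2 : ∀ i j, i ≠ j → c.inj i ≫ q j = 0)
    (z : ToType c.pt) (hz : ∀ j, q j z = 0) : z = 0 := by
  obtain ⟨I, b, rfl⟩ := exists_finset_sum B c hc z
  have hb : ∀ j ∈ I, b j = 0 := by
    intro j hj
    have h1 := hz j
    rw [map_sum, Finset.sum_eq_single j] at h1
    · exact ((id_hom_apply (b j)).symm.trans (comp2_apply _ _ _ (hq1 j) (b j)).symm).trans h1
    · intro i _ hij
      exact (comp2_apply _ _ _ (hq2 i j hij) (b i)).trans (zero_hom_apply (b i))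
    · intro hnot
      exact (hnot hj).elim
  exact Finset.sum_eq_zero (fun i hi => by rw [hb i hi, map_zero])

end AbCoprod

section SheafCoprod

open DirectSum

variable {X : Scheme.{u}} {ι : Type (u + 1)} [DecidableEq ι] (A : ι → EtCoh.Ab X)

theorem map_germ {F G : EtCoh.Ab X} (a : F ⟶ G) {K : Type u} [Field K] [IsSepClosed K]
    (ξ : Spec (CommRingCat.of K) ⟶ X) (N : X.Etale) (n : (Scheme.pointSmallEtale ξ).fiber.obj N)
    (t : ToType (F.obj.obj (op N))) :
    (Scheme.pointSmallEtale ξ).presheafFiber.map a.hom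
      ((Scheme.pointSmallEtale ξ).toPresheafFiber N n F.obj t) =
    (Scheme.pointSmallEtale ξ).toPresheafFiber N n G.obj (a.hom.app (op N) t) :=
  (comp2_apply _ _ _ ((Scheme.pointSmallEtale ξ).toPresheafFiber_naturality a.hom N n) t).trans rfl

/-- finite sums in the sections of a coproduct of sheaves -/
noncomputable def theta (N : X.Etale) :
    (⨁ i, ((A i).obj.obj (op N) : AddCommGrpCat.{u + 1})) →+
      ((∐ A).obj.obj (op N) : AddCommGrpCat.{u + 1}) :=
  DirectSum.toAddMonoid (fun i => ((Sigma.ι A i).hom.app (op N)).hom)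

theorem theta_of (N : X.Etale) (i : ι) (a : ((A i).obj.obj (op N) : AddCommGrpCat.{u + 1})) :
    theta A N (DirectSum.of (fun i => ((A i).obj.obj (op N) : AddCommGrpCat.{u + 1})) i a) =
      (Sigma.ι A i).hom.app (op N) a := by
  unfold theta
  exact (DirectSum.toAddMonoid_of (fun i => ((Sigma.ι A i).hom.app (op N)).hom) i a).trans rfl

theorem map_theta_mem {N N' : X.Etale} (g : N' ⟶ N)
    (d : ⨁ i, ((A i).obj.obj (op N) : AddCommGrpCat.{u + 1})) :
    (∐ A).obj.map g.op (theta A N d) ∈ (theta A N').range := by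
  induction d using DirectSum.induction_on with
  | zero =>
    rw [map_zero, map_zero]
    exact zero_mem _
  | of i a =>
    refine ⟨DirectSum.of (fun i => ((A i).obj.obj (op N') : AddCommGrpCat.{u + 1})) i
      ((A i).obj.map g.op a), ?_⟩
    rw [theta_of, theta_of]
    exact app_map_apply (Sigma.ι A i) g a
  | add x y hx hy =>
    rw [map_add, map_add]
    exact add_mem hx hy

theorem pi_theta (N : X.Etale) (d : ⨁ i, ((A i).obj.obj (op N) : AddCommGrpCat.{u + 1}))
    (i : ι) : (Sigma.π A i).hom.app (op N) (theta A N d) = d i := by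
  induction d using DirectSum.induction_on with
  | zero =>
    rw [map_zero, map_zero]
    rfl
  | of j a =>
    rw [theta_of, ← app_comp_apply]
    by_cases h : j = i
    · subst h
      rw [Sigma.ι_π_eq_id, DirectSum.of_eq_same]
      rfl
    · rw [Sigma.ι_π_of_ne A h, DirectSum.of_eq_of_ne _ _ _ (fun h' => h h'.symm)]
      exact zero_app_apply N a
  | add x y hx hy =>
    rw [map_add, map_add, hx, hy]
    rfl

open Classical in
theorem theta_eq_sum (N : X.Etale) (d : ⨁ i, ((A i).obj.obj (op N) : AddCommGrpCat.{u + 1}))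
    (I : Finset ι) (hI : d.support ⊆ I) :
    theta A N d = ∑ i ∈ I, (Sigma.ι A i).hom.app (op N) (d i) := by
  have h2 : d = ∑ i ∈ d.support,
      DirectSum.of (fun i => ((A i).obj.obj (op N) : AddCommGrpCat.{u + 1})) i (d i) :=
    (DirectSum.sum_support_of d).symm
  conv_lhs => rw [h2]
  rw [map_sum]
  have h3 : ∑ i ∈ d.support, theta A N
      (DirectSum.of (fun i => ((A i).obj.obj (op N) : AddCommGrpCat.{u + 1})) i (d i)) =
      ∑ i ∈ d.support, (Sigma.ι A i).hom.app (op N) (d i) :=
    Finset.sum_congr rfl (fun i _ => theta_of A N i (d i))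
  rw [h3]
  refine Finset.sum_subset hI (fun i _ hi => ?_)
  have : d i = 0 := by
    by_contra hne
    exact hi (DFinsupp.mem_support_iff.2 hne)
  rw [this, map_zero]

/-- every section of a coproduct of sheaves is locally a finite sum -/
theorem exists_local_theta (U : X.Etale) (s : (∐ A).obj.obj (op U)) (x : U.left) :
    ∃ (N : X.Etale) (g : N ⟶ U), x ∈ Set.range g.left ∧
      (∐ A).obj.map g.op s ∈ (theta A N).range := by
  obtain ⟨K, _, _, ξ, l, hl⟩ := exists_geometric_lift U x
  have hst : IsColimit (Cofan.mk _ fun j => (EtCoh.stalk ξ).map (Sigma.ι A j)) :=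
    isColimitOfHasCoproductOfPreservesColimit (EtCoh.stalk ξ) A
  obtain ⟨I, b, hb⟩ := exists_finset_sum (fun j => (EtCoh.stalk ξ).obj (A j)) _ hst
    ((Scheme.pointSmallEtale ξ).toPresheafFiber U l (∐ A).obj s)
  have key : ∀ I : Finset ι, ∃ (N : X.Etale) (n : (Scheme.pointSmallEtale ξ).fiber.obj N)
      (d : ⨁ i, ((A i).obj.obj (op N) : AddCommGrpCat.{u + 1})),
      ∑ i ∈ I, (Scheme.pointSmallEtale ξ).presheafFiber.map (Sigma.ι A i).hom (b i) =
        (Scheme.pointSmallEtale ξ).toPresheafFiber N n (∐ A).obj (theta A N d) := by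
    intro I
    induction I using Finset.induction_on with
    | empty => exact ⟨U, l, 0, by rw [Finset.sum_empty, map_zero, map_zero]⟩
    | insert j I' hj ih =>
      obtain ⟨N', n', d', hd'⟩ := ih
      obtain ⟨Nj, nj, aj, haj⟩ :=
        (Scheme.pointSmallEtale ξ).toPresheafFiber_jointly_surjective (b j)
      obtain ⟨P, p₁, p₂, y, hy1, hy2⟩ := exists_common ξ Nj N' nj n'
      obtain ⟨d1, hd1⟩ := map_theta_mem A p₁
        (DirectSum.of (fun i => ((A i).obj.obj (op Nj) : AddCommGrpCat.{u + 1})) j aj)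
      obtain ⟨d2, hd2⟩ := map_theta_mem A p₂ d'
      refine ⟨P, y, d1 + d2, ?_⟩
      have e1 : (Scheme.pointSmallEtale ξ).presheafFiber.map (Sigma.ι A j).hom (b j) =
          (Scheme.pointSmallEtale ξ).toPresheafFiber P y (∐ A).obj (theta A P d1) := by
        rw [← haj]
        refine (map_germ (Sigma.ι A j) ξ Nj nj aj).trans ?_
        rw [← theta_of, hd1, (Scheme.pointSmallEtale ξ).toPresheafFiber_w_apply p₁ y, hy1]
      have e2 : (Scheme.pointSmallEtale ξ).toPresheafFiber N' n' (∐ A).obj (theta A N' d') =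
          (Scheme.pointSmallEtale ξ).toPresheafFiber P y (∐ A).obj (theta A P d2) := by
        rw [hd2, (Scheme.pointSmallEtale ξ).toPresheafFiber_w_apply p₂ y, hy2]
      rw [Finset.sum_insert hj, hd', e1, e2, map_add, map_add]
  obtain ⟨N, n, d, hd⟩ := key I
  have heq : (Scheme.pointSmallEtale ξ).toPresheafFiber U l (∐ A).obj s =
      (Scheme.pointSmallEtale ξ).toPresheafFiber N n (∐ A).obj (theta A N d) := hb.trans hd
  obtain ⟨P, p₁, p₂, y, hy1, hy2⟩ := exists_common ξ U N l n
  have h1 : (Scheme.pointSmallEtale ξ).toPresheafFiber P y (∐ A).obj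
      ((∐ A).obj.map p₁.op s) =
      (Scheme.pointSmallEtale ξ).toPresheafFiber P y (∐ A).obj
        ((∐ A).obj.map p₂.op (theta A N d)) := by
    rw [(Scheme.pointSmallEtale ξ).toPresheafFiber_w_apply p₁ y,
      (Scheme.pointSmallEtale ξ).toPresheafFiber_w_apply p₂ y, hy1, hy2]
    exact heq
  obtain ⟨Q, g, q, hq, hqeq⟩ :=
    ((Scheme.pointSmallEtale ξ).toPresheafFiber_eq_iff' P y _ _).1 h1
  refine ⟨Q, g ≫ p₁, ?_, ?_⟩
  · rw [← hl]
    refine mem_range_of_map_eq (g ≫ p₁) q l ?_
    rw [Functor.map_comp]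
    exact (congrArg ((Scheme.pointSmallEtale ξ).fiber.map p₁) hq).trans hy1
  · rw [map_comp_apply, hqeq, ← map_comp_apply]
    exact map_theta_mem A (g ≫ p₂) d

end SheafCoprod

section Compact

theorem isCompact_of_isProperOver {T S : Scheme.{u}} (p : T ⟶ S) [CompactSpace S] (Z : Set T)
    (h : ClSub.IsProperOver p Z) : IsCompact Z := by
  obtain ⟨hcl, hprop⟩ := h
  haveI : IsProper (redι Z hcl ≫ p) := hprop
  haveI : CompactSpace (red Z hcl) :=
    QuasiCompact.compactSpace_of_compactSpace (redι Z hcl ≫ p)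
  rw [← range_redι Z hcl]
  exact isCompact_range (redι Z hcl).continuous

end Compact

section Main

variable {X Y : Scheme.{u}} (f : X ⟶ Y) [LocallyOfFiniteType f] {ι : Type (u + 1)}
  [DecidableEq ι] (A : ι → EtCoh.Ab X)

theorem sigma_pi (j : ι) :
    sigmaComparison (EtShriek.lowerShriek f) A ≫
      (EtShriek.lowerShriek f).map (Sigma.π A j) =
    Sigma.π (fun i => (EtShriek.lowerShriek f).obj (A i)) j := by
  apply Sigma.hom_ext
  intro i
  rw [← Category.assoc, ι_comp_sigmaComparison, ← Functor.map_comp]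
  by_cases h : i = j
  · subst h
    rw [Sigma.ι_π_eq_id, Sigma.ι_π_eq_id, CategoryTheory.Functor.map_id]
  · rw [Sigma.ι_π_of_ne A h, Sigma.ι_π_of_ne _ h, Functor.map_zero]

theorem mono_sigmaComparison : Mono (sigmaComparison (EtShriek.lowerShriek f) A) := by
  haveI : Sheaf.IsLocallyInjective (sigmaComparison (EtShriek.lowerShriek f) A) := by
    apply isLocallyInjective_of_stalks
    intro K _ _ η
    rw [injective_iff_map_eq_zero]
    intro z hz
    have hst : IsColimit (Cofan.mk _ fun j => (EtCoh.stalk η).map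
        (Sigma.ι (fun i => (EtShriek.lowerShriek f).obj (A i)) j)) :=
      isColimitOfHasCoproductOfPreservesColimit (EtCoh.stalk η)
        (fun i => (EtShriek.lowerShriek f).obj (A i))
    refine eq_zero_of_proj (fun j => (EtCoh.stalk η).obj ((EtShriek.lowerShriek f).obj (A j)))
      _ hst (fun j => (EtCoh.stalk η).map
        (Sigma.π (fun i => (EtShriek.lowerShriek f).obj (A i)) j)) ?_ ?_ z ?_
    · intro i
      show (EtCoh.stalk η).map (Sigma.ι _ i) ≫ (EtCoh.stalk η).map (Sigma.π _ i) = 𝟙 _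
      rw [← Functor.map_comp, Sigma.ι_π_eq_id, CategoryTheory.Functor.map_id]
    · intro i j hij
      show (EtCoh.stalk η).map (Sigma.ι _ i) ≫ (EtCoh.stalk η).map (Sigma.π _ j) = 0
      rw [← Functor.map_comp, Sigma.ι_π_of_ne _ hij, Functor.map_zero]
    · intro j
      rw [← sigma_pi f A j, Functor.map_comp]
      have hz' : (EtCoh.stalk η).map (sigmaComparison (EtShriek.lowerShriek f) A) z = 0 := hz
      have h3 : (EtCoh.stalk η).map ((EtShriek.lowerShriek f).map (Sigma.π A j))
          ((EtCoh.stalk η).map (sigmaComparison (EtShriek.lowerShriek f) A) z) = 0 := by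
        rw [hz', map_zero]
      exact (comp2_apply _ _ _ rfl z).symm.trans h3
  exact Sheaf.mono_of_isLocallyInjective _

theorem exists_preimage_of_compact (W : Y.Etale) [CompactSpace W.left]
    (s' : ((EtShriek.lowerShriek f).obj (∐ A)).obj.obj (op W)) :
    ∃ y : (∐ fun i => (EtShriek.lowerShriek f).obj (A i)).obj.obj (op W),
      (sigmaComparison (EtShriek.lowerShriek f) A).hom.app (op W) y = s' := by
  classical
  obtain ⟨s, hs⟩ : ∃ s : EtCoh.sect (∐ A) ((EtCoh.bc f).obj W),
      s = (EtShriek.lowerShriekToPush f (∐ A)).hom.app (op W) s' := ⟨_, rfl⟩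
  have hmem : s ∈ EtShriek.shriekSubgroup f (∐ A) W := by
    rw [hs]
    exact toPush_mem f (∐ A) W s'
  obtain ⟨Z, hZ, hp⟩ := (shriekPred_iff f (∐ A) W s).1
    ((mem_shriekSubgroup_iff f (∐ A) W s).1 hmem)
  have hZc : IsCompact Z := isCompact_of_isProperOver (EtShriek.prV f W) Z hp
  choose N g hxg d hd using fun x : ((EtCoh.bc f).obj W).left =>
    exists_local_theta A ((EtCoh.bc f).obj W) s x
  obtain ⟨t, ht⟩ := hZc.elim_finite_subcover (fun x => Set.range (g x).left)
    (fun x => (g x).left.isOpenMap.isOpen_range) (fun z _ => Set.mem_iUnion.2 ⟨z, hxg z⟩)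
  obtain ⟨I, hI⟩ : ∃ I : Finset ι, ∀ x ∈ t, (d x).support ⊆ I :=
    ⟨t.biUnion (fun x => (d x).support), fun x hx => Finset.subset_biUnion_of_mem
      (fun x => (d x).support) hx⟩
  obtain ⟨si, hsi⟩ : ∃ si : ∀ i, (A i).obj.obj (op ((EtCoh.bc f).obj W)),
      ∀ i, si i = (Sigma.π A i).hom.app (op ((EtCoh.bc f).obj W)) s := ⟨_, fun _ => rfl⟩
  have hsum : s = ∑ i ∈ I, (Sigma.ι A i).hom.app (op ((EtCoh.bc f).obj W)) (si i) := by
    rw [← sub_eq_zero]
    apply eq_zero_of_locally_zero
    intro x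
    by_cases hx : ∃ x₀ ∈ t, x ∈ Set.range (g x₀).left
    · obtain ⟨x₀, hx₀t, hx₀⟩ := hx
      refine ⟨N x₀, g x₀, hx₀, ?_⟩
      rw [map_sub, sub_eq_zero, map_sum, ← hd x₀, theta_eq_sum A (N x₀) (d x₀) I (hI x₀ hx₀t)]
      refine Finset.sum_congr rfl (fun i _ => ?_)
      rw [← app_map_apply, hsi i, ← app_map_apply, ← hd x₀, pi_theta]
    · have hxZ : x ∉ Z := by
        intro hxZ
        obtain ⟨x₀, hx₀, hm⟩ := Set.mem_iUnion₂.1 (ht hxZ)
        exact hx ⟨x₀, hx₀, hm⟩
      have hxs : x ∉ EtShriek.sectSupp (∐ A) ((EtCoh.bc f).obj W) s := fun h => hxZ (hZ h)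
      rw [not_mem_sectSupp_iff] at hxs
      obtain ⟨N₀, g₀, hxg₀, h0⟩ := hxs
      refine ⟨N₀, g₀, hxg₀, ?_⟩
      rw [map_sub, h0, zero_sub, neg_eq_zero, map_sum]
      refine Finset.sum_eq_zero (fun i _ => ?_)
      rw [← app_map_apply, hsi i, ← app_map_apply, h0, map_zero, map_zero]
  have hsiS : ∀ i, si i ∈ EtShriek.shriekSubgroup f (A i) W := by
    intro i
    refine (mem_shriekSubgroup_iff f (A i) W _).2 ((shriekPred_iff f (A i) W _).2
      ⟨Z, ?_, hp⟩)
    rw [hsi i]
    exact (EtShriek.sectSupp_map_subset (Sigma.π A i) _ s).trans hZ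
  choose ti hti using fun i => exists_toPush_eq f (A i) W (si i) (hsiS i)
  refine ⟨∑ i ∈ I, (Sigma.ι (fun i => (EtShriek.lowerShriek f).obj (A i)) i).hom.app (op W)
    (ti i), ?_⟩
  apply sections_injective_of_mono (EtShriek.lowerShriekToPush f (∐ A)) W
  rw [← hs, hsum, map_sum, map_sum]
  refine Finset.sum_congr rfl (fun i _ => ?_)
  have h1 : (sigmaComparison (EtShriek.lowerShriek f) A).hom.app (op W)
      ((Sigma.ι (fun i => (EtShriek.lowerShriek f).obj (A i)) i).hom.app (op W) (ti i)) =
      ((EtShriek.lowerShriek f).map (Sigma.ι A i)).hom.app (op W) (ti i) := by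
    rw [← app_comp_apply, ι_comp_sigmaComparison]
  have h2 : (EtShriek.lowerShriekToPush f (∐ A)).hom.app (op W)
      (((EtShriek.lowerShriek f).map (Sigma.ι A i)).hom.app (op W) (ti i)) =
      (Sigma.ι A i).hom.app (op ((EtCoh.bc f).obj W))
        ((EtShriek.lowerShriekToPush f (A i)).hom.app (op W) (ti i)) := by
    rw [← app_comp_apply, toPush_naturality, app_comp_apply]
    rfl
  exact (congrArg _ h1).trans (h2.trans (congrArg _ (hti i)))

theorem epi_sigmaComparison : Epi (sigmaComparison (EtShriek.lowerShriek f) A) := by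
  haveI : Sheaf.IsLocallySurjective (sigmaComparison (EtShriek.lowerShriek f) A) := by
    refine ⟨fun {V} s' => ?_⟩
    apply sieve_mem_of_forall_exists
    intro v
    obtain ⟨V₀, hV₀, hvV₀, -⟩ := exists_isAffineOpen_mem_and_subset
      (x := v) (U := (⊤ : V.left.Opens)) trivial
    haveI : IsAffine V₀.toScheme := hV₀
    haveI : CompactSpace (subE V V₀).left := inferInstanceAs (CompactSpace V₀.toScheme)
    refine ⟨subE V V₀, subι V V₀, ?_, ?_⟩
    · exact exists_preimage_of_compact f A (subE V V₀) _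
    · show v ∈ Set.range V₀.ι
      rw [Scheme.Opens.range_ι]
      exact hvV₀
  infer_instance

theorem isIso_sigmaComparison : IsIso (sigmaComparison (EtShriek.lowerShriek f) A) := by
  haveI := mono_sigmaComparison f A
  haveI := epi_sigmaComparison f A
  exact isIso_of_mono_of_epi _

end Main

section Final

variable {X Y : Scheme.{u}} (f : X ⟶ Y) [LocallyOfFiniteType f]

theorem preservesCoproducts_big (ι : Type (u + 1)) :
    PreservesColimitsOfShape (Discrete ι) (EtShriek.lowerShriek f) := by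
  classical
  haveI : ∀ A : ι → EtCoh.Ab X,
      PreservesColimit (Discrete.functor A) (EtShriek.lowerShriek f) := by
    intro A
    haveI := isIso_sigmaComparison f A
    exact PreservesCoproduct.of_iso_comparison (EtShriek.lowerShriek f) A
  exact preservesColimitsOfShape_of_discrete _

theorem main682 (ι : Type u) :
    PreservesColimitsOfShape (Discrete ι) (EtShriek.lowerShriek f) := by
  haveI := preservesCoproducts_big f (ULift.{u + 1} ι)
  exact preservesColimitsOfShape_of_equiv
    (Discrete.equivalence (Equiv.ulift : ULift.{u + 1} ι ≃ ι)) (EtShriek.lowerShriek f)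

end Final

end Groth.Agent.Lib.EtShriekH7
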