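import Mathlib
import Groth.Agent.Lib.EtShriek10_helper7

/-!
# The direct image with proper support along a separated quasi-finite morphism is a left adjoint
(helper7)
-/

set_option autoImplicit false
set_option backward.isDefEq.respectTransparency false
set_option linter.style.haveILetI false
set_option linter.unusedSectionVars false
universe u
open CategoryTheory CategoryTheory.Limits AlgebraicGeometry Opposite

namespace Groth.Agent.Lib.EtShriekH7

variable {X Y : Scheme.{u}} (f : X ⟶ Y) [IsSeparated f] [LocallyOfFiniteType f]
  [LocallyQuasiFinite f]

theorem preservesColimits_lowerShriek :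
    PreservesColimitsOfSize.{u + 1, u + 1} (EtShriek.lowerShriek f) := by
  haveI : PreservesFiniteColimits (EtShriek.lowerShriek f) := (main684 f).2
  haveI : PreservesColimitsOfShape WalkingParallelPair (EtShriek.lowerShriek f) := inferInstance
  haveI : ∀ J : Type (u + 1), PreservesColimitsOfShape (Discrete J) (EtShriek.lowerShriek f) :=
    preservesCoproducts_big f
  exact preservesColimits_of_preservesCoequalizers_and_coproducts (EtShriek.lowerShriek f)

theorem main689 : (EtShriek.lowerShriek f).IsLeftAdjoint := by
  haveI := preservesColimits_lowerShriek f
  haveI : WellPowered.{u + 1} (EtCoh.Ab X)ᵒᵖ := inferInstance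
  exact isLeftAdjoint_of_preservesColimits_of_isSeparating
    (P := ObjectProperty.singleton (separator (EtCoh.Ab X))) (isSeparator_separator _)
    (EtShriek.lowerShriek f)

end Groth.Agent.Lib.EtShriekH7
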