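import Mathlib
import Groth.Agent.Lib.EtShriek6_helper7

/-!
# The composition isomorphism `(f ≫ g)_! ≅ f_! ⋙ g_!` is unique subject to compatibility
with the inclusions into direct images (helper7)
-/

set_option autoImplicit false
set_option backward.isDefEq.respectTransparency false
set_option linter.style.haveILetI false
set_option linter.unusedSectionVars false
universe u
open CategoryTheory CategoryTheory.Limits AlgebraicGeometry Opposite

namespace Groth.Agent.Lib.EtShriekH7

section CompU

variable {X Y Z : Scheme.{u}} (f : X ⟶ Y) (g : Y ⟶ Z)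

theorem compat_iff (F : EtCoh.Ab X)
    (ψ : (EtShriek.lowerShriek (f ≫ g)).obj F ⟶
      (EtShriek.lowerShriek g).obj ((EtShriek.lowerShriek f).obj F)) :
    (ψ ≫ (EtShriek.lowerShriek g).map (EtShriek.lowerShriekToPush f F) ≫
        EtShriek.lowerShriekToPush g ((EtCoh.push f).obj F) =
      EtShriek.lowerShriekToPush (f ≫ g) F ≫ (EtCoh.pushComp g f).inv.app F) ↔
    ψ ≫ m2c f g F = EtShriek.lowerShriekToPush (f ≫ g) F := by
  have hn : (EtShriek.lowerShriek g).map (EtShriek.lowerShriekToPush f F) ≫
        EtShriek.lowerShriekToPush g ((EtCoh.push f).obj F) =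
      EtShriek.lowerShriekToPush g ((EtShriek.lowerShriek f).obj F) ≫
        (EtCoh.push g).map (EtShriek.lowerShriekToPush f F) :=
    toPush_naturality g (EtShriek.lowerShriekToPush f F)
  have hm : m2c f g F = (EtShriek.lowerShriekToPush g ((EtShriek.lowerShriek f).obj F) ≫
        (EtCoh.push g).map (EtShriek.lowerShriekToPush f F)) ≫
      (EtCoh.pushComp g f).hom.app F := by
    unfold m2c
    rw [Category.assoc]
  rw [hn, hm]
  constructor
  · intro h
    rw [← Category.assoc, h, Category.assoc, Iso.inv_hom_id_app]
    exact Category.comp_id _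
  · intro h
    rw [← Category.assoc] at h
    rw [← h, Category.assoc, Iso.hom_inv_id_app]
    exact (Category.comp_id _).symm

variable [LocallyOfFiniteType f] [IsSeparated g] [LocallyOfFiniteType g]

/-- the comparison isomorphism of functors -/
noncomputable def compNatIso' :
    EtShriek.lowerShriek (f ≫ g) ≅ EtShriek.lowerShriek f ⋙ EtShriek.lowerShriek g :=
  NatIso.ofComponents (fun F => compIso' f g F) (by
    intro F G α
    apply (cancel_mono (m2c f g G)).1
    rw [Category.assoc, compIso'_hom_m2c, toPush_naturality, Category.assoc]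
    have h := m2c_naturality f g α
    have e : (EtShriek.lowerShriek f ⋙ EtShriek.lowerShriek g).map α =
        (EtShriek.lowerShriek g).map ((EtShriek.lowerShriek f).map α) := rfl
    rw [e, h, ← Category.assoc, compIso'_hom_m2c])

theorem compNatIso'_hom_app (F : EtCoh.Ab X) :
    (compNatIso' f g).hom.app F = (compIso' f g F).hom := rfl

theorem main12103 :
    ∃! φ : EtShriek.lowerShriek (f ≫ g) ≅ EtShriek.lowerShriek f ⋙ EtShriek.lowerShriek g,
      ∀ F : EtCoh.Ab X,
        φ.hom.app F ≫ (EtShriek.lowerShriek g).map (EtShriek.lowerShriekToPush f F) ≫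
            EtShriek.lowerShriekToPush g ((EtCoh.push f).obj F) =
          EtShriek.lowerShriekToPush (f ≫ g) F ≫ (EtCoh.pushComp g f).inv.app F := by
  refine ⟨compNatIso' f g, ?_, ?_⟩
  · intro F
    refine (compat_iff f g F _).2 ?_
    rw [compNatIso'_hom_app]
    exact compIso'_hom_m2c f g F
  · intro φ hφ
    apply Iso.ext
    apply NatTrans.ext
    funext F
    apply (cancel_mono (m2c f g F)).1
    have h1 := (compat_iff f g F (φ.hom.app F)).1 (hφ F)
    rw [h1, compNatIso'_hom_app]
    exact (compIso'_hom_m2c f g F).symm

end CompU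

end Groth.Agent.Lib.EtShriekH7
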