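import Mathlib
import Groth.Agent.Lib.EtShriek3_helper7
import Groth.Agent.Lib.EtLocConstSerre_lead

/-!
# Sections with compact support and extension by zero to a compactification (helper7)
-/

set_option autoImplicit false
set_option backward.isDefEq.respectTransparency false
set_option linter.style.haveILetI false
set_option linter.unusedSectionVars false
universe u
open CategoryTheory CategoryTheory.Limits AlgebraicGeometry Opposite

namespace Groth.Agent.Lib.EtShriekH7

open Groth.Agent.Lib.EtSchSite_helper7 Groth.Agent.Lib.EtFinStalkH7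
  Groth.Agent.Lib.EtFinGeomH7 Groth.Agent.Lib.EtSchStalk_helper7 ProperOver
  Groth.Agent.Lib.EtPushVanish_helper7 Groth.Agent.Lib.EtSchSupp_helper7
  Groth.Agent.Lib.EtShriekStalk_helper7 Groth.Agent.Lib.EtTraceH7
  Groth.Agent.Lib.EtNbhdFinH4 Groth.Agent.Lib.EtIntH7 Groth.Agent.Lib.EtFinBCH7
  Groth.Agent.Lib.EtOpenShriek_helper7
open Groth.Agent.Lib.EtFlasque_helper7 (app_map_apply map_id_apply app_comp_apply)

section HPS

variable {X S : Scheme.{u}} (F : EtCoh.Ab X) (U : X.Etale) (g : U.left ⟶ S)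
  [LocallyOfFiniteType g]

theorem hasProperSupport_zero : EtShriek.HasProperSupport F U (0 : EtCoh.sect F U) g :=
  ⟨∅, by rw [sectSupp_zero], isProperOver_empty g⟩

theorem hasProperSupport_neg (s : EtCoh.sect F U) (h : EtShriek.HasProperSupport F U s g) :
    EtShriek.HasProperSupport F U (-s) g := by
  obtain ⟨Z, hZ, hp⟩ := h
  refine ⟨Z, ?_, hp⟩
  rw [sectSupp_neg]
  exact hZ

theorem hasProperSupport_add (s s' : EtCoh.sect F U) (h : EtShriek.HasProperSupport F U s g)
    (h' : EtShriek.HasProperSupport F U s' g) : EtShriek.HasProperSupport F U (s + s') g := by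
  obtain ⟨Z, hZ, hp⟩ := h
  obtain ⟨Z', hZ', hp'⟩ := h'
  refine ⟨Z ∪ Z', ?_, isProperOver_union g hp hp'⟩
  exact (sectSupp_add_subset F U s s').trans (Set.union_subset_union hZ hZ')

/-- the sections with proper support form a subgroup -/
def hpsSubgroup : AddSubgroup (EtCoh.sect F U) where
  carrier := {s | EtShriek.HasProperSupport F U s g}
  add_mem' := fun {a b} ha hb => hasProperSupport_add F U g a b ha hb
  zero_mem' := hasProperSupport_zero F U g
  neg_mem' := fun {a} ha => hasProperSupport_neg F U g a ha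

end HPS

section H0c

variable {k : Type u} [Field k] {X Xb : Scheme.{u}} (j : X ⟶ Xb) [IsOpenImmersion j]
  [EtShriek.JCont j] (pb : Xb ⟶ Spec (CommRingCat.of k)) [IsProper pb] (F : EtCoh.Ab X)

theorem mem_H0c_iff (p : X ⟶ Spec (CommRingCat.of k)) [LocallyOfFiniteType p]
    (s : EtCoh.sect F (EtCoh.top X)) :
    s ∈ EtShriek.H0c p F ↔ EtShriek.HasProperSupport F (EtCoh.top X) s p := by
  constructor
  · intro h
    have hle : EtShriek.H0c p F ≤ hpsSubgroup F (EtCoh.top X) p :=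
      (AddSubgroup.closure_le (hpsSubgroup F (EtCoh.top X) p)).2 (fun t ht => ht)
    exact hle h
  · intro h
    exact AddSubgroup.subset_closure h

instance isIso_bcTopIso_inv_left : IsIso (EtCore.bcTopIso j).inv.left :=
  ⟨⟨(EtCore.bcTopIso j).hom.left,
    congrArg (fun (m : EtCoh.top X ⟶ EtCoh.top X) => m.left) (EtCore.bcTopIso j).inv_hom_id,
    congrArg (fun (m : (EtCoh.bc j).obj (EtCoh.top Xb) ⟶ (EtCoh.bc j).obj (EtCoh.top Xb)) =>
      m.left) (EtCore.bcTopIso j).hom_inv_id⟩⟩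

instance isIso_bcTopIso_hom_left : IsIso (EtCore.bcTopIso j).hom.left :=
  ⟨⟨(EtCore.bcTopIso j).inv.left,
    congrArg (fun (m : (EtCoh.bc j).obj (EtCoh.top Xb) ⟶ (EtCoh.bc j).obj (EtCoh.top Xb)) =>
      m.left) (EtCore.bcTopIso j).hom_inv_id,
    congrArg (fun (m : EtCoh.top X ⟶ EtCoh.top X) => m.left) (EtCore.bcTopIso j).inv_hom_id⟩⟩

omit [IsOpenImmersion j] [EtShriek.JCont j] in
theorem bcTopIso_hom_left_comp :
    (EtCore.bcTopIso j).hom.left ≫ j = pr₁ j (EtCoh.top Xb) := by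
  have h1 : (EtCore.bcTopIso j).hom.left ≫ (EtCoh.top X).hom =
      ((EtCoh.bc j).obj (EtCoh.top Xb)).hom := MorphismProperty.Over.w (EtCore.bcTopIso j).hom
  have h1' : (EtCore.bcTopIso j).hom.left = ((EtCoh.bc j).obj (EtCoh.top Xb)).hom :=
    (Category.comp_id _).symm.trans h1
  have h2 : pr₁ j (EtCoh.top Xb) ≫ (EtCoh.top Xb).hom =
      ((EtCoh.bc j).obj (EtCoh.top Xb)).hom ≫ j := pr₁_hom j (EtCoh.top Xb)
  rw [h1', ← h2]
  exact Category.comp_id _

omit [EtShriek.JCont j] in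
theorem bcTopIso_inv_left_comp :
    (EtCore.bcTopIso j).inv.left ≫ pr₁ j (EtCoh.top Xb) = j := by
  rw [← bcTopIso_hom_left_comp, ← Category.assoc]
  have h : (EtCore.bcTopIso j).inv.left ≫ (EtCore.bcTopIso j).hom.left = 𝟙 _ :=
    congrArg (fun (m : EtCoh.top X ⟶ EtCoh.top X) => m.left) (EtCore.bcTopIso j).inv_hom_id
  rw [h]
  exact Category.id_comp j

/-- the map `Γ(Xb, j_! F) ⟶ Γ(X, F)` -/
noncomputable def gammaShriek :
    ((EtShriek.extZero j).obj F).obj.obj (op (EtCoh.top Xb)) →+ EtCoh.sect F (EtCoh.top X) :=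
  (F.obj.map (EtCore.bcTopIso j).inv.op).hom.comp
    (((tau j).app F).hom.app (op (EtCoh.top Xb))).hom

theorem gammaShriek_apply (z : ((EtShriek.extZero j).obj F).obj.obj (op (EtCoh.top Xb))) :
    gammaShriek j F z = F.obj.map (EtCore.bcTopIso j).inv.op
      (((tau j).app F).hom.app (op (EtCoh.top Xb)) z) := rfl

theorem gammaShriek_injective : Function.Injective (gammaShriek j F) := by
  haveI : Mono ((tau j).app F) := mono_tau j F
  intro z z' h
  rw [gammaShriek_apply, gammaShriek_apply] at h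
  have h1 := congrArg (fun s => F.obj.map (EtCore.bcTopIso j).hom.op s) h
  simp only [← map_comp_apply, Iso.hom_inv_id, map_id_apply] at h1
  exact Groth.Agent.Lib.EtLocConst.sec_injective ((tau j).app F) (EtCoh.top Xb) h1

theorem gammaShriek_mem [LocallyOfFiniteType (j ≫ pb)]
    (z : ((EtShriek.extZero j).obj F).obj.obj (op (EtCoh.top Xb))) :
    gammaShriek j F z ∈ EtShriek.H0c (j ≫ pb) F := by
  rw [mem_H0c_iff, gammaShriek_apply]
  have hcl := isClosed_image_supp_tau j F (EtCoh.top Xb) z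
  obtain ⟨t₀, ht₀⟩ : ∃ t₀ : EtCoh.sect F ((EtCoh.bc j).obj (EtCoh.top Xb)),
      t₀ = ((tau j).app F).hom.app (op (EtCoh.top Xb)) z := ⟨_, rfl⟩
  rw [← ht₀] at hcl ⊢
  haveI : IsOpenImmersion (pr₁ j (EtCoh.top Xb)) :=
    inferInstanceAs (IsOpenImmersion (pullback.fst (EtCoh.top Xb).hom j))
  have hp0 := isProperOver_of_openImmersion (pr₁ j (EtCoh.top Xb)) _
    (isClosed_sectSupp F _ t₀) hcl
  have hp1 := isProperOver_comp_proper (pr₁ j (EtCoh.top Xb)) pb _ hp0
  refine ⟨(EtCore.bcTopIso j).inv.left ⁻¹' EtShriek.sectSupp F _ t₀, ?_, ?_⟩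
  · exact sectSupp_map_subset_preimage F _ t₀
  · refine isProperOver_preimage_of_isProper (j ≫ pb) (pr₁ j (EtCoh.top Xb) ≫ pb)
      (EtCore.bcTopIso j).inv.left ?_ _ hp1
    rw [← Category.assoc, bcTopIso_inv_left_comp]

theorem gammaShriek_surjective [LocallyOfFiniteType (j ≫ pb)]
    (s : EtCoh.sect F (EtCoh.top X)) (hs : s ∈ EtShriek.H0c (j ≫ pb) F) :
    ∃ z, gammaShriek j F z = s := by
  rw [mem_H0c_iff] at hs
  obtain ⟨Z, hZ, hp⟩ := hs
  haveI : IsOpenImmersion (pr₁ j (EtCoh.top Xb)) :=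
    inferInstanceAs (IsOpenImmersion (pullback.fst (EtCoh.top Xb).hom j))
  haveI : LocallyOfFiniteType (pr₁ j (EtCoh.top Xb) ≫ pb) := inferInstance
  have hp1 : ClSub.IsProperOver (pr₁ j (EtCoh.top Xb) ≫ pb)
      ((EtCore.bcTopIso j).hom.left ⁻¹' Z) := by
    refine isProperOver_preimage_of_isProper (pr₁ j (EtCoh.top Xb) ≫ pb) (j ≫ pb)
      (EtCore.bcTopIso j).hom.left ?_ _ hp
    rw [← Category.assoc, bcTopIso_hom_left_comp]
  have hp0 := isProperOver_of_comp_sep (pr₁ j (EtCoh.top Xb)) pb _ hp1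
  have hps : EtShriek.HasProperSupport F ((EtCoh.bc j).obj (EtCoh.top Xb))
      (F.obj.map (EtCore.bcTopIso j).hom.op s) (EtShriek.prV j (EtCoh.top Xb)) :=
    ⟨_, (sectSupp_map_subset_preimage F _ s).trans (Set.preimage_mono hZ), hp0⟩
  obtain ⟨z, hz⟩ := exists_tau_eq_section j F (EtCoh.top Xb) _
    ((shriekPred_iff j F _ _).2 hps)
  refine ⟨z, ?_⟩
  rw [gammaShriek_apply, hz, ← map_comp_apply, Iso.inv_hom_id, map_id_apply]

theorem main687' [LocallyOfFiniteType (j ≫ pb)] :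
    Nonempty ((EtShriek.H0c (j ≫ pb) F) ≃+
      EtCoh.sect ((EtShriek.extZero j).obj F) (EtCoh.top Xb)) := by
  let Ψ : ((EtShriek.extZero j).obj F).obj.obj (op (EtCoh.top Xb)) →+
      EtShriek.H0c (j ≫ pb) F :=
    (gammaShriek j F).codRestrict (EtShriek.H0c (j ≫ pb) F) (gammaShriek_mem j pb F)
  have hinj : Function.Injective Ψ := by
    intro z z' h
    exact gammaShriek_injective j F (congrArg Subtype.val h)
  have hsurj : Function.Surjective Ψ := by
    rintro ⟨s, hs⟩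
    obtain ⟨z, hz⟩ := gammaShriek_surjective j pb F s hs
    exact ⟨z, Subtype.ext hz⟩
  exact ⟨(AddEquiv.ofBijective Ψ ⟨hinj, hsurj⟩).symm⟩

theorem main687 (p : X ⟶ Spec (CommRingCat.of k)) (hp : p = j ≫ pb) [LocallyOfFiniteType p] :
    Nonempty ((EtShriek.H0c p F) ≃+
      EtCoh.sect ((EtShriek.extZero j).obj F) (EtCoh.top Xb)) := by
  subst hp
  exact main687' j pb F

end H0c

end Groth.Agent.Lib.EtShriekH7
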