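import Mathlib
import Groth.Prelude.Def_EtShriek2
import Groth.Agent.Lib.EtShriekStalk_helper7

/-!
# The counit `j_! j⁻¹ F ⟶ F` on stalks (helper7)
-/

set_option autoImplicit false
set_option backward.isDefEq.respectTransparency false
universe u
open CategoryTheory CategoryTheory.Limits AlgebraicGeometry Opposite

namespace Groth.Agent.Lib.EtShriekCounit_helper7

open Groth.Agent.Lib.EtSchExact_helper7 Groth.Agent.Lib.EtShriekStalk_helper7

variable {U X : Scheme.{u}} (j : U ⟶ X) [hj : Etale j] [EtShriek.JCont j]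
variable {Ω : Type u} [Field Ω] [IsSepClosed Ω] (ξ : Spec (CommRingCat.of Ω) ⟶ X)

theorem b_counit (F : EtCoh.Ab X) (V : U.Etale)
    (x : (Scheme.pointSmallEtale ξ).fiber.obj ((EtShriek.compEtale j).obj V)) :
    b j ξ ((EtShriek.restrAlong j).obj F) V x ≫
      (EtCoh.stalk ξ).map ((EtShriek.extZeroAdj j).counit.app F) =
      (Scheme.pointSmallEtale ξ).toPresheafFiber ((EtShriek.compEtale j).obj V) x F.obj := by
  have h1 := (Scheme.pointSmallEtale ξ).toPresheafFiber_naturality
    ((EtShriek.extZeroAdj j).counit.app F).hom ((EtShriek.compEtale j).obj V) x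
  have h2 := congrArg (fun m => m.hom.app (op V))
    ((EtShriek.extZeroAdj j).right_triangle_components F)
  exact (Category.assoc _ _ _).trans
    ((congrArg (fun m => ((EtShriek.extZeroAdj j).unit.app
      ((EtShriek.restrAlong j).obj F)).hom.app (op V) ≫ m) h1).trans
    ((Category.assoc _ _ _).symm.trans
      ((congrArg (fun m => m ≫ (Scheme.pointSmallEtale ξ).toPresheafFiber
        ((EtShriek.compEtale j).obj V) x F.obj) h2).trans (Category.id_comp _))))

theorem epi_counit_of_surjective [Surjective j] (F : EtCoh.Ab X) :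
    Epi ((EtShriek.extZeroAdj j).counit.app F) := by
  refine (epi_iff _).2 (fun Ω _ _ ξ t => ?_)
  obtain ⟨W, w, s, rfl⟩ := (Scheme.pointSmallEtale ξ).toPresheafFiber_jointly_surjective t
  obtain ⟨wl, hwl⟩ : ∃ wl : Spec (CommRingCat.of Ω) ⟶ W.left, wl = w.left := ⟨w.left, rfl⟩
  have hwξ : wl ≫ W.hom = ξ := by rw [hwl]; exact Over.w w
  obtain ⟨y, hy⟩ := (inferInstance : Surjective j).surj
    (W.hom (wl (default : ↥(Spec (CommRingCat.of Ω)))))
  obtain ⟨p, hp1, hp2⟩ := Scheme.Pullback.exists_preimage_pullback (f := W.hom) (g := j)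
    (wl (default : ↥(Spec (CommRingCat.of Ω)))) y hy.symm
  obtain ⟨l, hl1, hl2⟩ := Scheme.exists_fac_of_etale_of_isSepClosed (pullback.fst W.hom j) wl p hp1
  let π : (EtShriek.compEtale j).obj ((EtCoh.bc j).obj W) ⟶ W :=
    MorphismProperty.Over.homMk (pullback.fst W.hom j) pullback.condition trivial
  have hlξ : l ≫ (pullback.snd W.hom j ≫ j) = ξ := by
    rw [← pullback.condition, ← Category.assoc, hl1, hwξ]
  let x : (Scheme.pointSmallEtale ξ).fiber.obj
      ((EtShriek.compEtale j).obj ((EtCoh.bc j).obj W)) := Over.homMk l hlξ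
  have hx : (Scheme.pointSmallEtale ξ).fiber.map π x = w := by
    apply Over.OverMorphism.ext
    exact hl1.trans hwl
  refine ⟨b j ξ ((EtShriek.restrAlong j).obj F) ((EtCoh.bc j).obj W) x (F.obj.map π.op s), ?_⟩
  have h := b_counit j ξ F ((EtCoh.bc j).obj W) x
  have h' := congrArg (fun m => m (F.obj.map π.op s)) h
  refine h'.trans ?_
  rw [← hx]
  exact (Scheme.pointSmallEtale ξ).toPresheafFiber_w_apply π x F.obj s

end Groth.Agent.Lib.EtShriekCounit_helper7
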