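import Mathlib
import Groth.Agent.Lib.MuP_helper1

set_option autoImplicit false
set_option maxHeartbeats 1000000

/-!
# A simple finite étale commutative group scheme over an algebraically closed field has prime order
(helper1)
-/

namespace EtSimpleH1

open TensorProduct WithConv Module

universe u

section
variable (k : Type u) [Field k] (A : Type u) [CommRing A] [HopfAlgebra k A]
  [FiniteDimensional k A]

local notation "Γ" => WithConv (A →ₐ[k] k)

/-- The ideal of functions vanishing on a set of points. -/
def vanishing (H : Set Γ) : Ideal A where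
  carrier := {a | ∀ χ ∈ H, χ.ofConv a = 0}
  add_mem' := fun {a b} ha hb χ hχ => by rw [map_add, ha χ hχ, hb χ hχ, add_zero]
  zero_mem' := fun χ _ => map_zero _
  smul_mem' := fun c a ha χ hχ => by rw [smul_eq_mul, map_mul, ha χ hχ, mul_zero]

theorem mem_vanishing (H : Set Γ) (a : A) :
    a ∈ vanishing k A H ↔ ∀ χ ∈ H, χ.ofConv a = 0 := Iff.rfl

theorem bil_zero (H : Subgroup Γ) (a : A) (ha : a ∈ vanishing k A (H : Set Γ))
    (F G : A →ₗ[k] k)
    (hF : (vanishing k A (H : Set Γ)).restrictScalars k ≤ LinearMap.ker F)
    (hG : (vanishing k A (H : Set Γ)).restrictScalars k ≤ LinearMap.ker G) :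
    LinearMap.mul' k k (TensorProduct.map F G (Coalgebra.comul a)) = 0 := by
  let L : H → (A →ₗ[k] k) := fun χ => χ.1.ofConv.toLinearMap
  have hI : ∀ F' : A →ₗ[k] k,
      (vanishing k A (H : Set Γ)).restrictScalars k ≤ LinearMap.ker F' →
      ⨅ χ : H, LinearMap.ker (L χ) ≤ LinearMap.ker F' := by
    intro F' hF' x hx
    apply hF'
    intro χ hχ
    exact (Submodule.mem_iInf _).mp hx ⟨χ, hχ⟩
  have hFs := FiniteDimensional.mem_span_of_iInf_ker_le_ker (hI F hF)
  have hGs := FiniteDimensional.mem_span_of_iInf_ker_le_ker (hI G hG)
  have key : ∀ F ∈ Submodule.span k (Set.range L), ∀ G ∈ Submodule.span k (Set.range L),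
      LinearMap.mul' k k (TensorProduct.map F G (Coalgebra.comul a)) = 0 := by
    intro F hF
    induction hF using Submodule.span_induction with
    | mem F hF' =>
      obtain ⟨χ, rfl⟩ := hF'
      intro G hG
      induction hG using Submodule.span_induction with
      | mem G hG' =>
        obtain ⟨χ', rfl⟩ := hG'
        exact ha (χ.1 * χ'.1) (H.mul_mem χ.2 χ'.2)
      | zero => simp
      | add x y _ _ hx hy =>
        rw [TensorProduct.map_add_right, LinearMap.add_apply, map_add, hx, hy, add_zero]
      | smul c x _ hx =>
        rw [TensorProduct.map_smul_right, LinearMap.smul_apply, map_smul, hx, smul_zero]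
    | zero => intro G _; simp
    | add x y _ _ hx hy =>
      intro G hG
      rw [TensorProduct.map_add_left, LinearMap.add_apply, map_add, hx G hG, hy G hG, add_zero]
    | smul c x _ hx =>
      intro G hG
      rw [TensorProduct.map_smul_left, LinearMap.smul_apply, map_smul, hx G hG, smul_zero]
  exact key F hFs G hGs

theorem hopfIdeal_vanishing (H : Subgroup Γ) : (vanishing k A (H : Set Γ)).IsHopfIdeal k := by
  have hco : ((vanishing k A (H : Set Γ)).restrictScalars k).IsCoideal := by
    refine ⟨?_, ?_⟩
    · intro a ha
      exact ha 1 H.one_mem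
    · intro a ha
      refine MuPH1.sep k _ _ (fun f g => ?_)
      have h1 : TensorProduct.map f g (TensorProduct.map
          ((vanishing k A (H : Set Γ)).restrictScalars k).mkQ
          ((vanishing k A (H : Set Γ)).restrictScalars k).mkQ (Coalgebra.comul a)) =
          TensorProduct.map (f ∘ₗ ((vanishing k A (H : Set Γ)).restrictScalars k).mkQ)
            (g ∘ₗ ((vanishing k A (H : Set Γ)).restrictScalars k).mkQ) (Coalgebra.comul a) := by
        rw [TensorProduct.map_comp]; rfl
      rw [h1]
      apply bil_zero k A H a ha
      · intro x hx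
        rw [LinearMap.mem_ker, LinearMap.comp_apply, Submodule.mkQ_apply,
          (Submodule.Quotient.mk_eq_zero _).mpr hx, map_zero]
      · intro x hx
        rw [LinearMap.mem_ker, LinearMap.comp_apply, Submodule.mkQ_apply,
          (Submodule.Quotient.mk_eq_zero _).mpr hx, map_zero]
  exact
    { toIsCoideal := hco
      antipode_mem := by
        intro a ha χ hχ
        exact ha χ⁻¹ (H.inv_mem hχ) }

theorem main [IsAlgClosed k] [Coalgebra.IsCocomm k A] [IsReduced A]
    (hA : 1 < Module.finrank k A)
    (hsimple : ∀ I : Ideal A, I.IsHopfIdeal k →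
      I = ⊥ ∨ I = RingHom.ker (Bialgebra.counitAlgHom k A)) :
    (Module.finrank k A).Prime := by
  classical
  haveI : Algebra.Etale k A := HopfTraceH1.etale_of_reduced k A
  have hcard : Nat.card Γ = Module.finrank k A := by
    rw [← CartEtH1.card_points (k := k) (A := A) k]
    exact Nat.card_congr (WithConv.equiv _)
  haveI : Finite Γ := Nat.finite_of_card_ne_zero (by rw [hcard]; omega)
  haveI : IsSimpleGroup Γ := by
    refine { toNontrivial := ?_, eq_bot_or_eq_top_of_normal := ?_ }
    · rw [← Finite.one_lt_card_iff_nontrivial, hcard]; exact hA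
    · intro H _
      rcases hsimple _ (hopfIdeal_vanishing k A H) with h0 | h1
      · right
        apply Subgroup.eq_top_of_le_card
        rw [hcard]
        let ev : A →ₗ[k] (H → k) := LinearMap.pi (fun χ => χ.1.ofConv.toLinearMap)
        have hinj : Function.Injective ev := by
          rw [← LinearMap.ker_eq_bot, eq_bot_iff]
          intro a ha
          have h2 : a ∈ vanishing k A (H : Set Γ) := by
            intro χ hχ
            exact congrFun (LinearMap.mem_ker.mp ha) ⟨χ, hχ⟩
          rw [h0] at h2
          exact (Submodule.mem_bot k).mpr ((Ideal.mem_bot).mp h2)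
        have h3 := LinearMap.finrank_le_finrank_of_injective hinj
        letI := Fintype.ofFinite H
        rw [Module.finrank_fintype_fun_eq_card, ← Nat.card_eq_fintype_card] at h3
        exact h3
      · left
        rw [Subgroup.eq_bot_iff_forall]
        intro χ hχ
        apply WithConv.ofConv_injective
        apply AlgHom.ext
        intro a
        have h2 : a - algebraMap k A (Coalgebra.counit a) ∈ vanishing k A (H : Set Γ) := by
          rw [h1, RingHom.mem_ker]
          show Coalgebra.counit (a - algebraMap k A (Coalgebra.counit a)) = 0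
          rw [map_sub, Bialgebra.counit_algebraMap, sub_self]
        have h3 := h2 χ hχ
        rw [map_sub, AlgHom.commutes, sub_eq_zero] at h3
        exact h3
  have hprime : (Nat.card Γ).Prime := IsSimpleGroup.prime_card
  rwa [hcard] at hprime

end

end EtSimpleH1
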