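import Mathlib

open TensorProduct KaehlerDifferential IsLocalRing

universe u

namespace Groth.Agent.Lib.EtSliceH8

section Core

variable {A : Type u} [CommRing A]

/-- `P` a local `A`-algebra, formally smooth, with `Ω[P/A]` finite and with residue field
formally unramified over `A`. Then there are `x₁, …, xₙ` in the maximal ideal of `P` whose
differentials form a basis of `Ω[P/A]`. -/
theorem exists_basis_D (P : Type u) [CommRing P] [IsLocalRing P] [Algebra A P]
    [Algebra.FormallySmooth A P] [Module.Finite P Ω[P⁄A]]
    [Algebra.FormallyUnramified A (ResidueField P)]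
    (T : Set P) (hT : Ideal.span T = maximalIdeal P) :
    ∃ (n : ℕ) (x : Fin n → P), (∀ i, x i ∈ T) ∧
      ∃ b : Module.Basis (Fin n) P Ω[P⁄A], ∀ i, b i = D A P (x i) := by
  classical
  let K := ResidueField P
  haveI : Module.Projective P Ω[P⁄A] := inferInstance
  haveI : Module.Free P Ω[P⁄A] := Module.free_of_flat_of_isLocalRing
  have hsurjK : Function.Surjective (algebraMap P K) := IsLocalRing.residue_surjective
  have hker : RingHom.ker (algebraMap P K) = maximalIdeal P := IsLocalRing.ker_residue
  -- surjectivity of the cotangent map
  have hex := KaehlerDifferential.exact_kerCotangentToTensor_mapBaseChange A P K hsurjK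
  have hsurj : Function.Surjective (kerCotangentToTensor A P K) := by
    intro y
    have : (KaehlerDifferential.mapBaseChange A P K) y = 0 := Subsingleton.elim _ _
    exact (hex y).mp this
  -- the spanning set
  let s : Set (K ⊗[P] Ω[P⁄A]) := {y | ∃ x ∈ T, y = (1 : K) ⊗ₜ[P] D A P x}
  have hTm : ∀ x ∈ Ideal.span T, algebraMap P K x = 0 := fun x hx => by
    rw [← RingHom.mem_ker, hker, ← hT]; exact hx
  have hmem : ∀ x ∈ Ideal.span T, (1 : K) ⊗ₜ[P] D A P x ∈ Submodule.span K s := by
    intro x hx
    induction hx using Submodule.span_induction with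
    | mem y hy => exact Submodule.subset_span ⟨y, hy, rfl⟩
    | zero => simp
    | add y z _ _ hy hz => rw [map_add, TensorProduct.tmul_add]; exact add_mem hy hz
    | smul c y hy' hy =>
      rw [smul_eq_mul, Derivation.leibniz, TensorProduct.tmul_add]
      apply add_mem
      · have : (1 : K) ⊗ₜ[P] (c • D A P y) = (algebraMap P K c) • ((1 : K) ⊗ₜ[P] D A P y) := by
          rw [TensorProduct.tmul_smul, TensorProduct.smul_tmul', TensorProduct.smul_tmul',
            Algebra.smul_def, smul_eq_mul]
        rw [this]
        exact Submodule.smul_mem _ _ hy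
      · have : (1 : K) ⊗ₜ[P] (y • D A P c) = 0 := by
          rw [TensorProduct.tmul_smul, TensorProduct.smul_tmul', Algebra.smul_def, hTm y hy',
            zero_mul, TensorProduct.zero_tmul]
        rw [this]
        exact zero_mem _
  have hs : Submodule.span K s = ⊤ := by
    rw [eq_top_iff]
    rintro y -
    obtain ⟨c, rfl⟩ := hsurj y
    obtain ⟨x, rfl⟩ := Ideal.toCotangent_surjective _ c
    rw [kerCotangentToTensor_toCotangent]
    apply hmem
    rw [hT, ← hker]
    exact x.2
  obtain ⟨f, hfs, hfspan, hfli⟩ := Submodule.exists_fun_fin_finrank_span_eq K s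
  replace hfspan : Submodule.span K (Set.range f) = ⊤ := hfspan.trans hs
  have hn : Module.finrank K (Submodule.span K s) = Module.finrank P Ω[P⁄A] := by
    rw [hs, finrank_top, Module.finrank_baseChange]
  choose x hxm hx using hfs
  refine ⟨_, x, hxm, ?_⟩
  let bK : Module.Basis (Fin (Module.finrank K (Submodule.span K s))) K (K ⊗[P] Ω[P⁄A]) :=
    Module.Basis.mk hfli hfspan.ge
  have hbK : ∀ i, (1 : K) ⊗ₜ[P] D A P (x i) = bK i := fun i => by
    rw [Module.Basis.mk_apply, hx i]
  have hspan := IsLocalRing.span_eq_top_of_tmul_eq_basis (fun i => D A P (x i)) bK hbK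
  refine ⟨basisOfTopLeSpanOfCardEqFinrank (fun i => D A P (x i)) hspan.ge
    (by rw [Fintype.card_fin, hn]), fun i => ?_⟩
  rw [coe_basisOfTopLeSpanOfCardEqFinrank]


theorem injective_of_linearIndependent_comp {K V W : Type*} [Field K] [AddCommGroup V]
    [Module K V] [AddCommGroup W] [Module K W] (φ : V →ₗ[K] W) {ι : Type*} (v : ι → V)
    (hv : Submodule.span K (Set.range v) = ⊤) (hli : LinearIndependent K (φ ∘ v)) :
    Function.Injective φ := by
  rw [← LinearMap.ker_eq_bot, eq_bot_iff]
  intro y hy
  have hy' : y ∈ Submodule.span K (Set.range v) := hv ▸ Submodule.mem_top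
  obtain ⟨c, rfl⟩ := Finsupp.mem_span_range_iff_exists_finsupp.mp hy'
  have h0 : Finsupp.linearCombination K (φ ∘ v) c = 0 := by
    rw [LinearMap.mem_ker] at hy
    rw [← hy, Finsupp.linearCombination_apply, map_finsuppSum]
    simp [Function.comp]
  have hc : c = 0 := linearIndependent_iff.mp hli c h0
  simp [hc]

set_option maxHeartbeats 1600000 in
/-- Jacobian criterion: quotient of a formally smooth local-ish algebra by elements whose
differentials form a basis of `Ω` is formally étale. -/
theorem formallyEtale_of_basis (P S : Type u) [CommRing P] [CommRing S] [IsLocalRing S]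
    [Algebra A P] [Algebra A S] [Algebra P S] [IsScalarTower A P S]
    [Algebra.FormallySmooth A P] [Module.Finite P Ω[P⁄A]] [Module.Free P Ω[P⁄A]]
    (hsurj : Function.Surjective (algebraMap P S))
    {n : ℕ} (x : Fin n → P) (hker : RingHom.ker (algebraMap P S) = Ideal.span (Set.range x))
    (b : Module.Basis (Fin n) P Ω[P⁄A]) (hb : ∀ i, b i = D A P (x i)) :
    Algebra.FormallyEtale A S := by
  classical
  have hx0 : ∀ i, algebraMap P S (x i) = 0 := fun i => by
    rw [← RingHom.mem_ker, hker]
    exact Ideal.subset_span ⟨i, rfl⟩
  -- unramified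
  have hunr : Algebra.FormallyUnramified A S := by
    rw [Algebra.formallyUnramified_iff]
    have hD : ∀ s : S, D A S s = 0 := by
      intro s
      obtain ⟨p, rfl⟩ := hsurj s
      rw [← KaehlerDifferential.map_D A A P S]
      have hp : D A P p ∈ Submodule.span P (Set.range b) := by
        rw [b.span_eq]; exact Submodule.mem_top
      have : ∀ ω ∈ Submodule.span P (Set.range b), KaehlerDifferential.map A A P S ω = 0 := by
        intro ω hω
        induction hω using Submodule.span_induction with
        | mem y hy =>
          obtain ⟨i, rfl⟩ := hy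
          rw [hb i, KaehlerDifferential.map_D, hx0 i, map_zero]
        | zero => simp
        | add y z _ _ hy hz => rw [map_add, hy, hz, add_zero]
        | smul c y _ hy => rw [map_smul, hy, smul_zero]
      exact this _ hp
    have htop := KaehlerDifferential.span_range_derivation A S
    have hbot : Submodule.span S (Set.range (D A S)) = ⊥ := by
      rw [Submodule.span_eq_bot]
      rintro _ ⟨s, rfl⟩
      exact hD s
    rw [hbot] at htop
    exact (Submodule.subsingleton_iff S).mp (subsingleton_of_bot_eq_top htop)
  -- smooth
  have hFG : (RingHom.ker (algebraMap P S)).FG := by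
    rw [hker]; exact Submodule.fg_span (Set.finite_range x)
  have hsm : Algebra.FormallySmooth A S := by
    rw [Algebra.FormallySmooth.iff_injective_cotangentComplexBaseChange_residueField P hsurj hFG]
    let K := ResidueField S
    let J := RingHom.ker (algebraMap P S)
    have hxJ : ∀ i, x i ∈ J := fun i => (RingHom.mem_ker).mpr (hx0 i)
    let x' : Fin n → J := fun i => ⟨x i, hxJ i⟩
    have hx'span : Submodule.span P (Set.range x') = ⊤ := by
      apply Submodule.map_injective_of_injective J.subtype_injective
      rw [Submodule.map_span, Submodule.map_subtype_top, ← Set.range_comp]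
      exact hker.symm
    let v : Fin n → K ⊗[P] J := fun i => (1 : K) ⊗ₜ[P] x' i
    have hv : Submodule.span K (Set.range v) = ⊤ := by
      have h1 := Submodule.baseChange_span (R := P) K (Set.range x')
      rw [hx'span, Submodule.baseChange_top, ← Set.range_comp] at h1
      exact h1.symm
    apply injective_of_linearIndependent_comp _ v hv
    have : (cotangentComplexBaseChange A S P K) ∘ v = b.baseChange K := by
      funext i
      simp only [Function.comp, v, Module.Basis.baseChange_apply, hb i]
      rw [cotangentComplexBaseChange_tmul, one_smul, kerToTensor_apply]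
    rw [this]
    exact (b.baseChange K).linearIndependent
  exact Algebra.FormallyEtale.of_formallyUnramified_and_formallySmooth


set_option maxHeartbeats 1600000 in
/-- Slicing: `B` smooth over `A`, `q` a prime of `B` whose residue field is formally unramified
over `A`. Then there is a finitely generated ideal `I ≤ q` such that `B ⧸ I` is étale over `A` at
the prime corresponding to `q`. -/
theorem exists_isEtaleAt_quotient {B : Type u} [CommRing B] [Algebra A B]
    [Algebra.Smooth A B] (q : Ideal B) [q.IsPrime]
    [Algebra.FormallyUnramified A q.ResidueField] :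
    ∃ (I : Ideal B), I.FG ∧ I ≤ q ∧
      ∀ (q' : Ideal (B ⧸ I)) [q'.IsPrime], q'.comap (Ideal.Quotient.mk I) = q →
        Algebra.IsEtaleAt A q' := by
  classical
  let P := Localization.AtPrime q
  haveI : Algebra.FormallySmooth B P := Algebra.FormallySmooth.of_isLocalization q.primeCompl
  haveI : Algebra.FormallySmooth A P := Algebra.FormallySmooth.comp A B P
  haveI : Algebra.EssFiniteType A P := Algebra.EssFiniteType.comp A B P
  haveI : Module.Finite P Ω[P⁄A] := inferInstance
  haveI : Algebra.FormallyUnramified A (ResidueField P) := ‹_›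
  have hT : Ideal.span (algebraMap B P '' (q : Set B)) = maximalIdeal P := by
    rw [← Ideal.map, Localization.AtPrime.map_eq_maximalIdeal]
  obtain ⟨n, x, hxT, b, hb⟩ := exists_basis_D (A := A) P _ hT
  choose h hhq hh using hxT
  refine ⟨Ideal.span (Set.range h), Submodule.fg_span (Set.finite_range h),
    Ideal.span_le.mpr (by rintro _ ⟨i, rfl⟩; exact hhq i), ?_⟩
  intro q' _ hq'
  subst hq'
  let I := Ideal.span (Set.range h)
  let S := Localization.AtPrime q'
  let φ : P →+* S := Localization.localRingHom _ q' (Ideal.Quotient.mk I) rfl
  letI : Algebra P S := φ.toAlgebra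
  haveI : IsScalarTower A P S := IsScalarTower.of_algebraMap_eq' (by
    ext a
    simp only [RingHom.algebraMap_toAlgebra, φ, RingHom.comp_apply,
      IsScalarTower.algebraMap_apply A B P,
      IsScalarTower.algebraMap_apply A (B ⧸ I) S]
    rw [Localization.localRingHom_to_map]
    rfl)
  have hsurj : Function.Surjective (algebraMap P S) :=
    RingHom.surjective_localRingHom_of_surjective _ Ideal.Quotient.mk_surjective q'
  have hker : RingHom.ker (algebraMap P S) = Ideal.span (Set.range x) := by
    have h1 := IsLocalization.ker_map (S := P) (M := (q'.comap (Ideal.Quotient.mk I)).primeCompl)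
      (T := q'.primeCompl) S (Ideal.Quotient.mk I)
      (Submonoid.map_comap_eq_of_surjective Ideal.Quotient.mk_surjective q'.primeCompl)
    have h2 : RingHom.ker (algebraMap P S) = (RingHom.ker (Ideal.Quotient.mk I)).map
        (algebraMap B P) := h1
    rw [h2, Ideal.mk_ker, Ideal.map_span, ← Set.range_comp]
    congr 2
    funext i
    exact (hh i)
  haveI : Module.Free P Ω[P⁄A] := Module.Free.of_basis b
  exact formallyEtale_of_basis (A := A) P S hsurj x hker b hb

end Core

end Groth.Agent.Lib.EtSliceH8
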