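import Mathlib
import Groth.Agent.Lib.EtSliceA_helper8

open AlgebraicGeometry CategoryTheory Limits

universe u

namespace Groth.Agent.Lib.EtSliceH8

section Sch

theorem formallyUnramified_fromSpecResidueField_comp {X S : Scheme.{u}} (f : X ⟶ S) (x : X)
    (hsep : @Algebra.IsSeparable (S.residueField (f x)) (X.residueField x) _ _
      (f.residueFieldMap x).hom.toAlgebra) :
    FormallyUnramified (X.fromSpecResidueField x ≫ f) := by
  rw [← Scheme.Hom.SpecMap_residueFieldMap_fromSpecResidueField]
  haveI : FormallyUnramified (Spec.map (f.residueFieldMap x)) := by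
    rw [HasRingHomProperty.Spec_iff (P := @FormallyUnramified)]
    letI := (f.residueFieldMap x).hom.toAlgebra
    exact Algebra.FormallyUnramified.of_isSeparable _ _
  haveI : FormallyUnramified (S.fromSpecResidueField (f x)) := inferInstance
  exact MorphismProperty.comp_mem (W := @FormallyUnramified) _ _ ‹_› ‹_›

theorem locallyQuasiFinite_of_unramified'' {A B : Scheme.{u}} (g : A ⟶ B)
    [LocallyOfFiniteType g] [FormallyUnramified g] : LocallyQuasiFinite g := by
  constructor
  intro U hU V hV e
  have h1 := LocallyOfFiniteType.finiteType_appLE (f := g) hU hV e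
  have h2 := FormallyUnramified.formallyUnramified_appLE (f := g) hU hV e
  algebraize [(g.appLE U V e).hom]
  have : Algebra.EssFiniteType Γ(B, U) Γ(A, V) := inferInstance
  show Algebra.QuasiFinite _ _
  infer_instance

theorem exists_open_fiber_singleton {Z S : Scheme.{u}} (e : Z ⟶ S) [Etale e] (z : Z) :
    ∃ O : Z.Opens, z ∈ O ∧ ∀ z' ∈ O, e z' = e z → z' = z := by
  haveI : LocallyQuasiFinite e := locallyQuasiFinite_of_unramified'' e
  have hd := e.isDiscrete_preimage_singleton (e z)
  rw [isDiscrete_iff_forall_mem_exists_isOpen] at hd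
  obtain ⟨u, hu, hus⟩ := hd z rfl
  refine ⟨⟨u, hu⟩, ?_, ?_⟩
  · have : z ∈ u ∩ e ⁻¹' {e z} := by rw [hus]; rfl
    exact this.1
  · intro z' hz' hez
    have : z' ∈ u ∩ e ⁻¹' {e z} := ⟨hz', hez⟩
    rw [hus] at this
    exact this


set_option maxHeartbeats 1600000 in
theorem exists_slice_affine {A B : CommRingCat.{u}} (φ : A ⟶ B) (hφ : φ.hom.Smooth) (q : Spec B)
    [FormallyUnramified ((Spec B).fromSpecResidueField q ≫ Spec.map φ)] :
    ∃ (Z : Scheme.{u}) (i : Z ⟶ Spec B) (z : Z), IsImmersion i ∧ Etale (i ≫ Spec.map φ) ∧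
      i z = q := by
  algebraize [φ.hom]
  haveI : Algebra.FormallyUnramified A q.asIdeal.ResidueField := by
    have h1 : FormallyUnramified
        (Spec.map (CommRingCat.ofHom (algebraMap B q.asIdeal.ResidueField)) ≫ Spec.map φ) := by
      have : Spec.map (CommRingCat.ofHom (algebraMap B q.asIdeal.ResidueField)) =
          Spec.map (Scheme.Spec.residueFieldIso B q).hom ≫ (Spec B).fromSpecResidueField q := by
        rw [← Scheme.Spec.map_residueFieldIso_inv_eq_fromSpecResidueField, ← Spec.map_comp_assoc,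
          Iso.inv_hom_id, Spec.map_id, Category.id_comp]
      rw [this, Category.assoc]
      exact MorphismProperty.comp_mem (W := @FormallyUnramified) _ _ inferInstance ‹_›
    rw [← Spec.map_comp, HasRingHomProperty.Spec_iff (P := @FormallyUnramified)] at h1
    rw [← RingHom.formallyUnramified_algebraMap,
      IsScalarTower.algebraMap_eq A B q.asIdeal.ResidueField]
    exact h1
  obtain ⟨I, hFG, hIq, hI⟩ := exists_isEtaleAt_quotient (A := A) (B := B) q.asIdeal
  let C := B ⧸ I
  have hmks : Function.Surjective (Ideal.Quotient.mk I) := Ideal.Quotient.mk_surjective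
  let q' : Ideal C := q.asIdeal.map (Ideal.Quotient.mk I)
  haveI hq'prime : q'.IsPrime :=
    Ideal.map_isPrime_of_surjective hmks (by rw [Ideal.mk_ker]; exact hIq)
  have hcomap : q'.comap (Ideal.Quotient.mk I) = q.asIdeal := by
    rw [Ideal.comap_map_of_surjective _ hmks, ← RingHom.ker_eq_comap_bot, Ideal.mk_ker]
    exact sup_eq_left.mpr hIq
  haveI : Algebra.FinitePresentation A C := Algebra.FinitePresentation.quotient hFG
  haveI : Algebra.IsEtaleAt A q' := hI q' hcomap
  obtain ⟨g, hg, hEt⟩ := Algebra.exists_etale_of_isEtaleAt (R := A) q'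
  let j : Spec (.of (Localization.Away g)) ⟶ Spec (.of C) :=
    Spec.map (CommRingCat.ofHom (algebraMap C (Localization.Away g)))
  let c : Spec (.of C) ⟶ Spec B := Spec.map (CommRingCat.ofHom (Ideal.Quotient.mk I))
  haveI : IsOpenImmersion j := IsOpenImmersion.of_isLocalization g
  haveI : IsClosedImmersion c := IsClosedImmersion.spec_of_surjective _ hmks
  obtain ⟨z, hz⟩ : ∃ z : PrimeSpectrum (Localization.Away g),
      PrimeSpectrum.comap (algebraMap C (Localization.Away g)) z = ⟨q', hq'prime⟩ := by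
    have := PrimeSpectrum.localization_away_comap_range (Localization.Away g) g
    have hmem : (⟨q', hq'prime⟩ : PrimeSpectrum C) ∈ Set.range
        (PrimeSpectrum.comap (algebraMap C (Localization.Away g))) := by
      rw [this]; exact hg
    exact hmem
  refine ⟨_, j ≫ c, z, inferInstance, ?_, ?_⟩
  · have : (j ≫ c) ≫ Spec.map φ = Spec.map (CommRingCat.ofHom
        (algebraMap A (Localization.Away g))) := by
      rw [← Spec.map_comp, ← Spec.map_comp]
      congr 1
    rw [this, HasRingHomProperty.Spec_iff (P := @Etale)]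
    exact RingHom.etale_algebraMap.mpr hEt
  · rw [Scheme.Hom.comp_apply]
    have h1 : j z = (⟨q', hq'prime⟩ : PrimeSpectrum C) := hz
    rw [h1]
    apply PrimeSpectrum.ext
    exact hcomap


set_option maxHeartbeats 1600000 in
theorem main0413 {X S : Scheme.{u}} (f : X ⟶ S) [Smooth f] (x : X)
    (hsep : @Algebra.IsSeparable (S.residueField (f x)) (X.residueField x) _ _
      (f.residueFieldMap x).hom.toAlgebra) :
    ∃ (Z : Scheme.{u}) (i : Z ⟶ X) (z : Z), IsImmersion i ∧ Etale (i ≫ f) ∧ i z = x ∧
      ∀ z' : ↑Z, f (i z') = f x → z' = z := by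
  have hunr := formallyUnramified_fromSpecResidueField_comp f x hsep
  obtain ⟨_, ⟨U, hU, rfl⟩, hxU, -⟩ :=
    S.isBasis_affineOpens.exists_subset_of_mem_open (Set.mem_univ (f x)) isOpen_univ
  obtain ⟨_, ⟨V, hV, rfl⟩, hxV, hVU⟩ :=
    X.isBasis_affineOpens.exists_subset_of_mem_open hxU (U.2.preimage f.continuous)
  have hsm := f.smooth_appLE hU hV hVU
  obtain ⟨q, rfl⟩ : ∃ q : Spec Γ(X, V), hV.fromSpec q = x := by
    have : x ∈ Set.range hV.fromSpec := by rw [hV.range_fromSpec]; exact hxV
    exact this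
  have hsq : Spec.map (f.appLE U V hVU) ≫ hU.fromSpec = hV.fromSpec ≫ f :=
    IsAffineOpen.SpecMap_appLE_fromSpec f hU hV hVU
  haveI : FormallyUnramified
      ((Spec Γ(X, V)).fromSpecResidueField q ≫ Spec.map (f.appLE U V hVU)) := by
    haveI : FormallyUnramified (((Spec Γ(X, V)).fromSpecResidueField q ≫
        Spec.map (f.appLE U V hVU)) ≫ hU.fromSpec) := by
      rw [Category.assoc, hsq, ← Category.assoc,
        ← Scheme.Hom.SpecMap_residueFieldMap_fromSpecResidueField, Category.assoc]
      exact MorphismProperty.comp_mem (W := @FormallyUnramified) _ _ inferInstance hunr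
    exact FormallyUnramified.of_comp _ hU.fromSpec
  obtain ⟨Z, i, z, hi, het, hz⟩ := exists_slice_affine (f.appLE U V hVU) hsm q
  haveI := hi
  haveI := het
  haveI : Etale ((i ≫ hV.fromSpec) ≫ f) := by
    rw [Category.assoc, ← hsq, ← Category.assoc]
    infer_instance
  obtain ⟨O, hzO, hO⟩ := exists_open_fiber_singleton ((i ≫ hV.fromSpec) ≫ f) z
  refine ⟨O, O.ι ≫ i ≫ hV.fromSpec, ⟨z, hzO⟩, inferInstance, ?_, ?_, ?_⟩
  · rw [Category.assoc, Category.assoc]
    have : O.ι ≫ i ≫ hV.fromSpec ≫ f = O.ι ≫ ((i ≫ hV.fromSpec) ≫ f) := by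
      simp only [Category.assoc]
    rw [this]
    infer_instance
  · rw [Scheme.Hom.comp_apply, Scheme.Hom.comp_apply]
    change hV.fromSpec (i z) = _
    rw [hz]
  · intro z' hz'
    apply Subtype.ext
    apply hO z'.1 z'.2
    have h1 : ((i ≫ hV.fromSpec) ≫ f) z'.1 = f ((O.ι ≫ i ≫ hV.fromSpec) z') := by
      simp only [Scheme.Hom.comp_apply]
      rfl
    have h2 : ((i ≫ hV.fromSpec) ≫ f) z = f (hV.fromSpec q) := by
      simp only [Scheme.Hom.comp_apply]
      rw [hz]
    rw [h1, h2]
    exact hz'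

end Sch

end Groth.Agent.Lib.EtSliceH8
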