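import Mathlib
import Groth.Agent.Lib.Regular_helper5
import Groth.Agent.Lib.Cartier_helper3
import Groth.Agent.Lib.FracDiff_helper3
import Groth.Agent.Lib.DimFT_helper8
import Groth.Agent.Lib.DimIneq_helper8
import Groth.Agent.Lib.PerfectGR_helper3

/-!
# Kähler differentials at a rational point and regularity  (helper3)

For a local `k`-algebra `B` with residue field `k`: the cotangent space `m/m²` is identified with
`κ ⊗ Ω[B/k]`; `Ω[B/k]` free of rank `dim B` implies `B` regular; conversely for `k` perfect and
`B` regular essentially of finite type, `Ω[B/k]` is free of rank `dim B`.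
-/

universe u

open TensorProduct KaehlerDifferential IsLocalRing

namespace Groth.Agent.Lib.KaehlerRegH3

section Cot

variable (k B : Type u) [Field k] [CommRing B] [Algebra k B] [IsLocalRing B]

theorem kerCotangentToTensor_surjective
    (hres : Function.Surjective (algebraMap k (ResidueField B))) :
    Function.Surjective (kerCotangentToTensor k B (ResidueField B)) := by
  intro y
  haveI : Subsingleton (Ω[ResidueField B⁄k]) :=
    KaehlerDifferential.subsingleton_of_surjective k (ResidueField B) hres
  have hex := KaehlerDifferential.exact_kerCotangentToTensor_mapBaseChange k B (ResidueField B)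
    (IsLocalRing.residue_surjective)
  exact (hex y).1 (Subsingleton.elim _ _)

theorem kerCotangentToTensor_injective
    (hres : Function.Bijective (algebraMap k (ResidueField B))) :
    Function.Injective (kerCotangentToTensor k B (ResidueField B)) := by
  have hf : Function.Surjective (algebraMap B (ResidueField B)) := IsLocalRing.residue_surjective
  let e : k ≃ₐ[k] ResidueField B := AlgEquiv.ofBijective (Algebra.ofId k (ResidueField B)) hres
  let g : ResidueField B →ₐ[k] B ⧸ (RingHom.ker (algebraMap B (ResidueField B)) ^ 2) :=
    (Algebra.ofId k _).comp e.symm.toAlgHom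
  have hg : (IsScalarTower.toAlgHom k B (ResidueField B)).kerSquareLift.comp g =
      AlgHom.id k (ResidueField B) := by
    ext x
    obtain ⟨c, rfl⟩ := e.surjective x
    simp [g, e]
  obtain ⟨l, hl⟩ := (retractionKerCotangentToTensorEquivSection (R := k) hf).symm ⟨g, hg⟩
  intro x y hxy
  have := congrArg l hxy
  rwa [← LinearMap.comp_apply, ← LinearMap.comp_apply, hl] at this

theorem finrank_eq_of_bijective (I : Ideal B) (hI : I = maximalIdeal B)
    (V : Type u) [AddCommGroup V] [Module B V] [Module (ResidueField B) V]
    [IsScalarTower B (ResidueField B) V]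
    (f : I.Cotangent →ₗ[B] V) (hf : Function.Bijective f) :
    Module.finrank (ResidueField B) V = Module.finrank (ResidueField B) (CotangentSpace B) := by
  subst hI
  let f' : CotangentSpace B →ₗ[ResidueField B] V :=
    { toFun := f
      map_add' := f.map_add
      map_smul' := fun c x => by
        obtain ⟨b, rfl⟩ := IsLocalRing.residue_surjective c
        show f (residue B b • x) = residue B b • f x
        have h1 : residue B b • x = b • x := by
          rw [← IsLocalRing.ResidueField.algebraMap_eq, algebraMap_smul]
        have h2 : residue B b • f x = b • f x := by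
          rw [← IsLocalRing.ResidueField.algebraMap_eq, algebraMap_smul]
        rw [h1, h2, map_smul] }
  exact (LinearEquiv.ofBijective f' hf).finrank_eq.symm

theorem finrank_tensor_eq (hres : Function.Bijective (algebraMap k (ResidueField B))) :
    Module.finrank (ResidueField B) (ResidueField B ⊗[B] Ω[B⁄k]) =
      Module.finrank (ResidueField B) (CotangentSpace B) :=
  finrank_eq_of_bijective B _ (IsLocalRing.ker_residue (R := B)) _
    (kerCotangentToTensor k B (ResidueField B))
    ⟨kerCotangentToTensor_injective k B hres, kerCotangentToTensor_surjective k B hres.2⟩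

/-- `Ω[B/k]` free of rank `dim B` implies regular. -/
theorem isRegularLocalRing_of_free [IsNoetherianRing B]
    (hres : Function.Bijective (algebraMap k (ResidueField B)))
    (d : ℕ) (hd : ringKrullDim B = (d : WithBot ℕ∞))
    [Module.Free B (Ω[B⁄k])] (hr : Module.finrank B (Ω[B⁄k]) = d) :
    IsRegularLocalRing B := by
  rw [IsRegularLocalRing.iff_finrank_cotangentSpace, ← finrank_tensor_eq k B hres,
    Module.finrank_baseChange, hr, hd]

end Cot

section Conv

variable (k B : Type u) [Field k] [CommRing B] [Algebra k B] [IsLocalRing B]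
  [Algebra.EssFiniteType k B]

/-- `dim B ≤ trdeg_k Frac(B)` (and the latter is finite). -/
theorem exists_trdeg_eq [IsDomain B] (K : Type u) [Field K] [Algebra B K] [IsFractionRing B K]
    [Algebra k K] [IsScalarTower k B K] (d : ℕ) (hd : ringKrullDim B = (d : WithBot ℕ∞)) :
    ∃ n : ℕ, Algebra.trdeg k K = n ∧ d ≤ n := by
  let B₀ := Algebra.EssFiniteType.subalgebra k B
  let M := Algebra.EssFiniteType.submonoid k B
  haveI : IsLocalization M B := Algebra.EssFiniteType.isLocalization k B
  obtain ⟨n, -, hn2, hn3, -⟩ := Groth.Agent.DimFTH8.exists_dim_eq k B₀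
  have h1 : ringKrullDim B ≤ ringKrullDim B₀ := by
    rw [← IsLocalRing.maximalIdeal_height_eq_ringKrullDim, ← IsLocalization.height_under M]
    exact Ideal.height_le_ringKrullDim_of_isPrime
  rw [hd, hn3] at h1
  have h2 : d ≤ n := by exact_mod_cast h1
  refine ⟨n, ?_, h2⟩
  haveI : IsScalarTower k B₀ K := IsScalarTower.of_algebraMap_eq fun c => by
    rw [IsScalarTower.algebraMap_apply k B K]
    rfl
  haveI : Algebra.IsAlgebraic B₀ B := IsLocalization.isAlgebraic B M
  haveI : Algebra.IsAlgebraic B K := IsLocalization.isAlgebraic K (nonZeroDivisors B)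
  haveI : Algebra.IsAlgebraic B₀ K := Algebra.IsAlgebraic.trans B₀ B K
  haveI : FaithfulSMul k B₀ := (faithfulSMul_iff_algebraMap_injective k B₀).2
    (algebraMap k B₀).injective
  haveI : FaithfulSMul B₀ K := (faithfulSMul_iff_algebraMap_injective B₀ K).2 (by
    intro x y hxy
    have : algebraMap B K (x : B) = algebraMap B K (y : B) := hxy
    exact Subtype.ext (IsFractionRing.injective B K this))
  rw [← Groth.Agent.DimIneqH8.trdeg_eq_of_algebraic_top k B₀ K, hn2]

theorem finrank_kaehler_eq_trdeg [PerfectField k] (K : Type u) [Field K] [Algebra k K]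
    [Algebra.EssFiniteType k K] :
    Module.Finite K (Ω[K⁄k]) ∧
      Module.finrank K (Ω[K⁄k]) = Cardinal.toNat (Algebra.trdeg k K) := by
  obtain ⟨h1, h2, h3⟩ := Groth.Agent.Lib.CartierH3.cartier (K := k) (L := K)
  haveI : Algebra.IsGeometricallyReduced k K :=
    Groth.Agent.Lib.PerfectGRH3.isGeometricallyReduced_of_perfectField k K
  have hinj := Groth.Agent.Lib.FracDiffH3.mbc_injective_of_gr (k := k) (L₀ := K)
  have h0 : Module.finrank K (EGA41.imperfection ℤ k K) = 0 := by
    have : EGA41.imperfection ℤ k K = ⊥ := LinearMap.ker_eq_bot.2 hinj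
    rw [this]
    exact finrank_bot K _
  refine ⟨h1, ?_⟩
  rw [h0] at h3
  omega

theorem free_of_regular [PerfectField k] [IsRegularLocalRing B]
    (hres : Function.Bijective (algebraMap k (ResidueField B)))
    (d : ℕ) (hd : ringKrullDim B = (d : WithBot ℕ∞)) :
    Module.Free B (Ω[B⁄k]) ∧ Module.finrank B (Ω[B⁄k]) = d := by
  haveI : IsDomain B := Groth.Agent.RegularLib.isDomain B
  -- finrank κ (κ ⊗ Ω) = d
  have hκ : Module.finrank (ResidueField B) (ResidueField B ⊗[B] Ω[B⁄k]) = d := by
    rw [finrank_tensor_eq k B hres]
    have := (IsRegularLocalRing.iff_finrank_cotangentSpace B).1 inferInstance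
    rw [hd] at this
    exact_mod_cast this
  haveI : Module.Finite B (Ω[B⁄k]) := inferInstance
  let b : Module.Basis (Fin d) (ResidueField B) (ResidueField B ⊗[B] Ω[B⁄k]) :=
    Module.finBasisOfFinrankEq _ _ hκ
  have hsurj : Function.Surjective (TensorProduct.mk B (ResidueField B) (Ω[B⁄k]) 1) :=
    TensorProduct.mk_surjective B (Ω[B⁄k]) (ResidueField B) IsLocalRing.residue_surjective
  choose f hf using fun i => hsurj (b i)
  have hspan : Submodule.span B (Set.range f) = ⊤ :=
    IsLocalRing.span_eq_top_of_tmul_eq_basis f b hf
  let φ : (Fin d → B) →ₗ[B] Ω[B⁄k] := Fintype.linearCombination B f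
  have hφs : Function.Surjective φ := by
    rw [← LinearMap.range_eq_top, Fintype.range_linearCombination, hspan]
  -- the generic fibre
  let K := FractionRing B
  haveI : Algebra.EssFiniteType B K := Algebra.EssFiniteType.of_isLocalization K (nonZeroDivisors B)
  haveI : Algebra.EssFiniteType k K := Algebra.EssFiniteType.comp k B K
  obtain ⟨hfin, hrk⟩ := finrank_kaehler_eq_trdeg k K
  obtain ⟨n, hn, hdn⟩ := exists_trdeg_eq k B K d hd
  rw [hn, Cardinal.toNat_natCast] at hrk
  -- the spanning family over `K`
  have hspanK : Submodule.span K (Set.range fun i => KaehlerDifferential.map k k B K (f i)) = ⊤ := by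
    have := span_eq_top_of_isLocalizedModule K (nonZeroDivisors B)
      (KaehlerDifferential.map k k B K) hspan
    rwa [← Set.range_comp] at this
  let ψ : (Fin d → K) →ₗ[K] Ω[K⁄k] :=
    Fintype.linearCombination K (fun i => KaehlerDifferential.map k k B K (f i))
  have hψs : Function.Surjective ψ := by
    rw [← LinearMap.range_eq_top, Fintype.range_linearCombination, hspanK]
  have hle := LinearMap.finrank_le_finrank_of_surjective hψs
  rw [Module.finrank_fin_fun, hrk] at hle
  have hψi : Function.Injective ψ := by
    rw [LinearMap.injective_iff_surjective_of_finrank_eq_finrank]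
    · exact hψs
    · rw [Module.finrank_fin_fun, hrk]
      omega
  have hφi : Function.Injective φ := by
    rw [← LinearMap.ker_eq_bot, LinearMap.ker_eq_bot']
    intro x hx
    have h1 : ψ (fun i => algebraMap B K (x i)) = KaehlerDifferential.map k k B K (φ x) := by
      simp only [ψ, φ, Fintype.linearCombination_apply, map_sum]
      refine Finset.sum_congr rfl fun i _ => ?_
      rw [algebraMap_smul, map_smul]
    rw [hx, map_zero] at h1
    have h2 := hψi (h1.trans (map_zero ψ).symm)
    funext i
    have := congrFun h2 i
    exact IsFractionRing.injective B K (this.trans (map_zero _).symm)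
  let e : (Fin d → B) ≃ₗ[B] Ω[B⁄k] := LinearEquiv.ofBijective φ ⟨hφi, hφs⟩
  refine ⟨Module.Free.of_equiv e, ?_⟩
  rw [← e.finrank_eq, Module.finrank_fin_fun]

end Conv

end Groth.Agent.Lib.KaehlerRegH3
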