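import Mathlib
import Groth.Agent.Lib.CotKaehler_lead
import Groth.Agent.Lib.KaehlerReg_helper3
import Groth.Agent.Lib.DimFT3_helper8
import Groth.Agent.Lib.IntegralHeight_helper5

/-!
# Number of generators of `Ω_{A/K}` at a prime (helper3)

* `exists_finset_span_of_finrank_le`: Nakayama, finset form.
* `finrank_residue_tensor_localizedModule`: `κ(A_p) ⊗_{A_p} M_p ≃ κ(p) ⊗_A M`.
* `finrank_tensor_field_eq`: the fibre dimension of a module at a prime can be computed over any
  field `L` with `ker (A → L) = p`.
* `finrank_tensor_kaehler_le`: for a local `k`-algebra `C` essentially of finite type with residue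
  field `L`: `dim_L L ⊗ Ω[C/k] ≤ dim_L m/m² + dim_L Ω[L/k]`.
-/

universe u

open TensorProduct KaehlerDifferential IsLocalRing

namespace Groth.Agent.Lib.KaehlerGensH3

/-- Nakayama: a finite module over a local ring whose fibre has dimension `≤ m` is generated by
`≤ m` elements. -/
theorem exists_finset_span_of_finrank_le (R : Type*) [CommRing R] [IsLocalRing R]
    (M : Type*) [AddCommGroup M] [Module R M] [Module.Finite R M] (m : ℕ)
    (h : Module.finrank (ResidueField R) (ResidueField R ⊗[R] M) ≤ m) :
    ∃ s : Finset M, s.card ≤ m ∧ Submodule.span R (s : Set M) = ⊤ := by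
  classical
  let b := Module.finBasis (ResidueField R) (ResidueField R ⊗[R] M)
  have hsurj : Function.Surjective (TensorProduct.mk R (ResidueField R) M 1) :=
    TensorProduct.mk_surjective R M (ResidueField R) IsLocalRing.residue_surjective
  let f : Fin (Module.finrank (ResidueField R) (ResidueField R ⊗[R] M)) → M :=
    fun i => Function.surjInv hsurj (b i)
  have hf : ∀ i, (1 : ResidueField R) ⊗ₜ[R] f i = b i := fun i => Function.surjInv_eq hsurj (b i)
  have hspan := IsLocalRing.span_eq_top_of_tmul_eq_basis f b hf
  refine ⟨Finset.univ.image f, ?_, ?_⟩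
  · refine (Finset.card_image_le).trans ?_
    rw [Finset.card_univ, Fintype.card_fin]
    exact h
  · rw [Finset.coe_image, Finset.coe_univ, Set.image_univ]
    exact hspan

/-- The fibre of a localized module at the closed point is the fibre of the module at the prime. -/
theorem finrank_residue_tensor_localizedModule {A : Type u} [CommRing A] (p : Ideal A) [p.IsPrime]
    (M : Type u) [AddCommGroup M] [Module A M] :
    Module.finrank (ResidueField (Localization.AtPrime p))
        (ResidueField (Localization.AtPrime p) ⊗[Localization.AtPrime p]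
          LocalizedModule p.primeCompl M) =
      Module.finrank p.ResidueField (p.ResidueField ⊗[A] M) := by
  have hbc : IsBaseChange (Localization.AtPrime p) (LocalizedModule.mkLinearMap p.primeCompl M) :=
    IsLocalizedModule.isBaseChange p.primeCompl (Localization.AtPrime p)
      (LocalizedModule.mkLinearMap p.primeCompl M)
  let e1 : (Localization.AtPrime p) ⊗[A] M ≃ₗ[Localization.AtPrime p]
      LocalizedModule p.primeCompl M := hbc.equiv
  let e2 : p.ResidueField ⊗[Localization.AtPrime p] ((Localization.AtPrime p) ⊗[A] M)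
      ≃ₗ[p.ResidueField] p.ResidueField ⊗[Localization.AtPrime p] LocalizedModule p.primeCompl M :=
    TensorProduct.AlgebraTensorModule.congr (LinearEquiv.refl p.ResidueField p.ResidueField) e1
  let e3 : p.ResidueField ⊗[Localization.AtPrime p] ((Localization.AtPrime p) ⊗[A] M)
      ≃ₗ[p.ResidueField] p.ResidueField ⊗[A] M :=
    TensorProduct.AlgebraTensorModule.cancelBaseChange A (Localization.AtPrime p)
      p.ResidueField p.ResidueField M
  exact (e2.symm.trans e3).finrank_eq

/-- The fibre dimension of a module at a prime `p` can be computed over any field `L` with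
`ker (A → L) = p`. -/
theorem finrank_tensor_field_eq {A : Type u} [CommRing A] (p : Ideal A) [p.IsPrime]
    (L : Type u) [Field L] [Algebra A L] (hker : RingHom.ker (algebraMap A L) = p)
    (M : Type u) [AddCommGroup M] [Module A M] :
    Module.finrank L (L ⊗[A] M) = Module.finrank p.ResidueField (p.ResidueField ⊗[A] M) := by
  let φ : p.ResidueField →+* L := Ideal.ResidueField.lift p (algebraMap A L) hker.ge
    (fun x hx => by
      show IsUnit (algebraMap A L x)
      rw [isUnit_iff_ne_zero]
      intro h0
      exact hx (hker ▸ (RingHom.mem_ker.2 h0)))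
  letI : Algebra p.ResidueField L := φ.toAlgebra
  haveI : IsScalarTower A p.ResidueField L := IsScalarTower.of_algebraMap_eq fun x =>
    (Ideal.ResidueField.lift_algebraMap p (algebraMap A L) hker.ge _ x).symm
  let e : L ⊗[p.ResidueField] (p.ResidueField ⊗[A] M) ≃ₗ[L] L ⊗[A] M :=
    TensorProduct.AlgebraTensorModule.cancelBaseChange A p.ResidueField L L M
  rw [← e.finrank_eq, Module.finrank_baseChange]

/-- For a local `k`-algebra `C` essentially of finite type with residue field `L`:
`dim_L (L ⊗ Ω[C/k]) ≤ dim_L m/m² + dim_L Ω[L/k]` (second fundamental exact sequence). -/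
theorem finrank_tensor_kaehler_le (k C : Type u) [Field k] [CommRing C] [Algebra k C]
    [IsLocalRing C] [Algebra.EssFiniteType k C] :
    Module.finrank (ResidueField C) (ResidueField C ⊗[C] Ω[C⁄k]) ≤
      Module.finrank (ResidueField C) (CotangentSpace C) +
        Module.finrank (ResidueField C) (Ω[ResidueField C⁄k]) := by
  haveI : IsNoetherianRing C := Algebra.EssFiniteType.isNoetherianRing k C
  have hsur : Function.Surjective (algebraMap C (ResidueField C)) :=
    IsLocalRing.residue_surjective
  let g : ResidueField C ⊗[C] Ω[C⁄k] →ₗ[ResidueField C] Ω[ResidueField C⁄k] :=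
    mapBaseChange k C (ResidueField C)
  have hg : Function.Surjective g := mapBaseChange_surjective k C (ResidueField C) hsur
  have hex := exact_kerCotangentToTensor_mapBaseChange k C (ResidueField C) hsur
  let T : CotangentSpace C →ₗ[ResidueField C] ResidueField C ⊗[C] Ω[C⁄k] :=
    (Groth.Agent.Lib.CotKaehler.TB C k).extendScalarsOfSurjective hsur
  have hker : LinearMap.ker g = LinearMap.range T := by
    ext x
    rw [LinearMap.mem_ker, LinearMap.mem_range]
    constructor
    · intro hx
      obtain ⟨y, hy⟩ := (hex x).1 hx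
      refine ⟨(Groth.Agent.Lib.CotKaehler.eqv C).symm y, ?_⟩
      show kerCotangentToTensor k C (ResidueField C)
        (Groth.Agent.Lib.CotKaehler.eqv C ((Groth.Agent.Lib.CotKaehler.eqv C).symm y)) = x
      rw [LinearEquiv.apply_symm_apply]
      exact hy
    · rintro ⟨y, rfl⟩
      exact (hex _).2 ⟨_, rfl⟩
  have h1 := LinearMap.finrank_range_add_finrank_ker g
  have h2 : Module.finrank (ResidueField C) (LinearMap.range g) =
      Module.finrank (ResidueField C) (Ω[ResidueField C⁄k]) := by
    rw [LinearMap.range_eq_top.2 hg, finrank_top]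
  have h3 : Module.finrank (ResidueField C) (LinearMap.ker g) ≤
      Module.finrank (ResidueField C) (CotangentSpace C) := by
    rw [hker]
    exact LinearMap.finrank_range_le T
  omega

/-- Abstract form of S17877: `B = Kb ⊗_K A` a domain with `Kb/K` algebraic, `Kb` perfect; all local
rings of `B` have embedding dimension `≤ ht + 1`; `dim A = d`.  Then `(Ω_{A/K})_p` is generated by
`≤ d + 1` elements. -/
theorem main_abstract (K Kb A B : Type u) [Field K] [Field Kb] [Algebra K Kb] [PerfectField Kb]
    [Algebra.IsAlgebraic K Kb]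
    [CommRing A] [CommRing B] [IsDomain B] [Algebra K A] [Algebra K B] [Algebra A B] [Algebra Kb B]
    [IsScalarTower K A B] [IsScalarTower K Kb B] [Algebra.IsPushout K Kb A B]
    [Algebra.FiniteType K A] [Algebra.FiniteType Kb B]
    (hinj : Function.Injective (algebraMap A B))
    (hhyp : ∀ (q : Ideal B) [q.IsPrime],
      (Module.finrank (ResidueField (Localization.AtPrime q))
          (CotangentSpace (Localization.AtPrime q)) : ℕ∞) ≤ q.height + 1)
    (d : ℕ) (hd : ringKrullDim A = d) (p : Ideal A) [p.IsPrime] :
    ∃ s : Finset (LocalizedModule p.primeCompl (Ω[A⁄K])),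
      s.card ≤ d + 1 ∧ Submodule.span (Localization.AtPrime p)
        (s : Set (LocalizedModule p.primeCompl (Ω[A⁄K]))) = ⊤ := by
  haveI : Algebra.IsIntegral K Kb := inferInstance
  haveI : Algebra.IsIntegral A B := Algebra.IsPushout.isIntegral K A Kb B
  -- a prime `q` over `p`
  obtain ⟨q, hqp, hqc⟩ := Ideal.exists_ideal_over_prime_of_isIntegral_of_isDomain (S := B) p (by
    rw [(RingHom.injective_iff_ker_eq_bot _).1 hinj]; exact bot_le)
  haveI := hqp
  -- dimension
  have hdimB : ringKrullDim B = d :=
    (Groth.Agent.IntegralHeight.ringKrullDim_eq_of_isIntegral_of_injective A B hinj).trans hd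
  obtain ⟨n, -, hn2, hn3, -⟩ := Groth.Agent.DimFTH8.exists_dim_eq Kb B
  have hnd : n = d := by
    rw [hdimB] at hn3
    exact_mod_cast hn3.symm
  subst hnd
  obtain ⟨r, hr1, hr2⟩ := Groth.Agent.DimFT3H8.height_add_trdeg_quotient n Kb B hn2 q
  -- the local ring `C` and its residue field `L`
  haveI : Algebra.EssFiniteType Kb (Localization.AtPrime q) := inferInstance
  have hle := finrank_tensor_kaehler_le Kb (Localization.AtPrime q)
  haveI : Algebra.EssFiniteType Kb q.ResidueField :=
    Algebra.EssFiniteType.comp Kb (Localization.AtPrime q) q.ResidueField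
  obtain ⟨-, hΩL⟩ := Groth.Agent.Lib.KaehlerRegH3.finrank_kaehler_eq_trdeg Kb q.ResidueField
  have htr : Algebra.trdeg Kb q.ResidueField = r := by
    rw [← hr1]
    symm
    haveI : FaithfulSMul Kb (B ⧸ q) := (faithfulSMul_iff_algebraMap_injective _ _).2
      (algebraMap Kb (B ⧸ q)).injective
    haveI : FaithfulSMul (B ⧸ q) q.ResidueField := (faithfulSMul_iff_algebraMap_injective _ _).2
      (Ideal.injective_algebraMap_quotient_residueField q)
    haveI : Algebra.IsAlgebraic (B ⧸ q) q.ResidueField :=
      IsLocalization.isAlgebraic q.ResidueField (nonZeroDivisors (B ⧸ q))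
    exact Groth.Agent.DimIneqH8.trdeg_eq_of_algebraic_top Kb (B ⧸ q) q.ResidueField
  rw [htr, Cardinal.toNat_natCast] at hΩL
  -- the chain of isomorphisms
  haveI : Algebra.FormallyEtale B (Localization.AtPrime q) :=
    Algebra.FormallyEtale.of_isLocalization q.primeCompl
  let e1 : q.ResidueField ⊗[Localization.AtPrime q] ((Localization.AtPrime q) ⊗[B] Ω[B⁄Kb])
      ≃ₗ[q.ResidueField] q.ResidueField ⊗[Localization.AtPrime q] Ω[Localization.AtPrime q⁄Kb] :=
    TensorProduct.AlgebraTensorModule.congr (LinearEquiv.refl q.ResidueField q.ResidueField)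
      (tensorKaehlerEquivOfFormallyEtale Kb B (Localization.AtPrime q))
  let e2 : q.ResidueField ⊗[Localization.AtPrime q] ((Localization.AtPrime q) ⊗[B] Ω[B⁄Kb])
      ≃ₗ[q.ResidueField] q.ResidueField ⊗[B] Ω[B⁄Kb] :=
    TensorProduct.AlgebraTensorModule.cancelBaseChange B (Localization.AtPrime q)
      q.ResidueField q.ResidueField (Ω[B⁄Kb])
  let e3 : q.ResidueField ⊗[B] (B ⊗[A] Ω[A⁄K]) ≃ₗ[q.ResidueField] q.ResidueField ⊗[B] Ω[B⁄Kb] :=
    TensorProduct.AlgebraTensorModule.congr (LinearEquiv.refl q.ResidueField q.ResidueField)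
      (tensorKaehlerEquiv K Kb A B)
  let e4 : q.ResidueField ⊗[B] (B ⊗[A] Ω[A⁄K]) ≃ₗ[q.ResidueField] q.ResidueField ⊗[A] Ω[A⁄K] :=
    TensorProduct.AlgebraTensorModule.cancelBaseChange A B q.ResidueField q.ResidueField (Ω[A⁄K])
  have hfr : Module.finrank q.ResidueField (q.ResidueField ⊗[A] Ω[A⁄K]) =
      Module.finrank q.ResidueField
        (q.ResidueField ⊗[Localization.AtPrime q] Ω[Localization.AtPrime q⁄Kb]) :=
    (e4.symm.trans (e3.trans (e2.symm.trans e1))).finrank_eq
  -- numerics
  have hh := hhyp q
  have hnum : Module.finrank q.ResidueField (q.ResidueField ⊗[A] Ω[A⁄K]) ≤ n + 1 := by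
    rw [hfr]
    refine hle.trans ?_
    rw [hΩL]
    have h3 : ((Module.finrank (ResidueField (Localization.AtPrime q))
          (CotangentSpace (Localization.AtPrime q)) + r : ℕ) : ℕ∞) ≤ ((n + 1 : ℕ) : ℕ∞) := by
      push_cast
      calc ((Module.finrank (ResidueField (Localization.AtPrime q))
            (CotangentSpace (Localization.AtPrime q)) : ℕ) : ℕ∞) + (r : ℕ∞)
          ≤ (q.height + 1) + r := by gcongr
        _ = (q.height + r) + 1 := by ring
        _ = (n : ℕ∞) + 1 := by rw [hr2]
    exact_mod_cast h3
  -- transfer to `κ(p)`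
  have hkerL : RingHom.ker (algebraMap A q.ResidueField) = p := by
    rw [IsScalarTower.algebraMap_eq A B q.ResidueField, ← RingHom.comap_ker,
      Ideal.ker_algebraMap_residueField, hqc]
  have h5 := finrank_tensor_field_eq p q.ResidueField hkerL (Ω[A⁄K])
  have h6 := finrank_residue_tensor_localizedModule p (Ω[A⁄K])
  exact exists_finset_span_of_finrank_le (Localization.AtPrime p)
    (LocalizedModule p.primeCompl (Ω[A⁄K])) (n + 1) (by rw [h6, ← h5]; exact hnum)

attribute [local instance] Algebra.TensorProduct.rightAlgebra in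
/-- S17877. -/
theorem main17877
    {K : Type u} [Field K] {A : Type u} [CommRing A] [Algebra K A] [Algebra.FiniteType K A]
    [IsDomain (TensorProduct K (AlgebraicClosure K) A)]
    (hhyp : ∀ (q : Ideal (TensorProduct K (AlgebraicClosure K) A)) [q.IsPrime],
      (Module.finrank (IsLocalRing.ResidueField (Localization.AtPrime q))
          (IsLocalRing.CotangentSpace (Localization.AtPrime q)) : ℕ∞) ≤ q.height + 1)
    (d : ℕ) (hd : ringKrullDim A = d) (p : Ideal A) [p.IsPrime] :
    ∃ s : Finset (LocalizedModule p.primeCompl (KaehlerDifferential K A)),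
      s.card ≤ d + 1 ∧ Submodule.span (Localization.AtPrime p)
        (s : Set (LocalizedModule p.primeCompl (KaehlerDifferential K A))) = ⊤ := by
  have hinj : Function.Injective
      (algebraMap A (TensorProduct K (AlgebraicClosure K) A)) :=
    Algebra.TensorProduct.includeRight_injective (algebraMap K (AlgebraicClosure K)).injective
  exact main_abstract K (AlgebraicClosure K) A (TensorProduct K (AlgebraicClosure K) A) hinj
    hhyp d hd p

end Groth.Agent.Lib.KaehlerGensH3
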