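import Mathlib
import Groth.Prelude
import Groth.Agent.Lib.Fitt5_helper8
import Groth.Agent.Lib.KaehlerGens_helper3

/-!
# Fitting ideals and fibre ranks (helper3)

`Fit_k(M) ⊆ p ↔ k < dim_{κ(p)} κ(p) ⊗ M` for a finite module `M`.

APPEND-ONLY once landed.
-/

set_option autoImplicit false
universe u

open TensorProduct

namespace Groth.Agent.Lib.FittFibreH3

variable {R : Type u} [CommRing R] {M : Type u} [AddCommGroup M] [Module R M] [Module.Finite R M]

theorem fitt_le_iff_lt_finrank (k : ℕ) (p : Ideal R) [p.IsPrime] :
    Fitt.ideal R M k ≤ p ↔ k < Module.finrank p.ResidueField (p.ResidueField ⊗[R] M) := by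
  constructor
  · intro hle
    by_contra hlt
    rw [not_lt] at hlt
    rw [← Groth.Agent.Lib.KaehlerGensH3.finrank_residue_tensor_localizedModule p M] at hlt
    haveI : Module.Finite (Localization.AtPrime p) (LocalizedModule p.primeCompl M) :=
      Module.Finite.of_isLocalizedModule p.primeCompl
        (LocalizedModule.mkLinearMap p.primeCompl M)
    obtain ⟨s, hs, hspan⟩ := Groth.Agent.Lib.KaehlerGensH3.exists_finset_span_of_finrank_le
      (Localization.AtPrime p) (LocalizedModule p.primeCompl M) k hlt
    obtain ⟨g, hg⟩ := FittH8.exists_fin_of_finset s (fun z => z) k hs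
      (by rw [Set.image_id']; exact hspan)
    refine FittH8.fitt_not_le_of_span k p p.primeCompl ?_ (Localization.AtPrime p)
      (LocalizedModule p.primeCompl M) (LocalizedModule.mkLinearMap p.primeCompl M) g hg hle
    rw [Set.disjoint_left]
    intro a ha hap
    exact ha hap
  · intro hlt
    by_contra hp
    have hle' : Module.finrank p.ResidueField (p.ResidueField ⊗[R] M) ≤ k := by
      obtain ⟨n, x, hx⟩ := Module.Finite.exists_fin (R := R) (M := M)
      obtain ⟨z, e, hrel, hdet⟩ := FittH8.exists_minor_notMem x hx k p hp
      obtain ⟨g, hg⟩ := FittH8.exists_fin_span_of_minor x hx k z e hrel p.ResidueField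
        (p.ResidueField ⊗[R] M) (TensorProduct.mk R p.ResidueField M 1) (by
          rw [eq_top_iff]
          rintro t -
          induction t using TensorProduct.induction_on with
          | zero => exact Submodule.zero_mem _
          | tmul c m =>
            have : c ⊗ₜ[R] m = c • ((1 : p.ResidueField) ⊗ₜ[R] m) := by
              rw [TensorProduct.smul_tmul', smul_eq_mul, mul_one]
            rw [this]
            exact Submodule.smul_mem _ _ (Submodule.subset_span ⟨m, rfl⟩)
          | add a b ha hb => exact Submodule.add_mem _ ha hb) (by
          rw [isUnit_iff_ne_zero, Ne, Ideal.algebraMap_residueField_eq_zero]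
          exact hdet)
      have := finrank_le_of_span_eq_top hg
      rwa [Fintype.card_fin] at this
    omega

end Groth.Agent.Lib.FittFibreH3
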