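import Mathlib
import Groth.Prelude.Def_Fitting
import Groth.Agent.Lib.Fitt14_helper8

/-!
# The Kähler different of a global complete intersection presentation (helper8)
APPEND-ONLY once landed.
-/

set_option autoImplicit false

namespace FittH8

open Matrix TensorProduct KaehlerDifferential

universe u v w

section Square

variable {R : Type u} [CommRing R]

/-- The ideal of `n`-minors of an `n × n` matrix is generated by its determinant. -/
theorem minorsIdeal_square {n : ℕ} (c : Fin n → Fin n → R) :
    minorsIdeal c n = Ideal.span {(Matrix.of c).det} := by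
  classical
  apply le_antisymm
  · apply Ideal.span_le.mpr
    rintro d ⟨t, e, rfl⟩
    rw [SetLike.mem_coe]
    by_cases ht : Function.Injective t
    · by_cases he : Function.Injective e
      · let τ : Equiv.Perm (Fin n) := Equiv.ofBijective t (Finite.injective_iff_bijective.mp ht)
        let ε : Equiv.Perm (Fin n) := Equiv.ofBijective e (Finite.injective_iff_bijective.mp he)
        have h1 : (Matrix.of fun a b => c (t b) (e a)) =
            (((Matrix.of c).submatrix τ id).submatrix id ε)ᵀ := by
          ext a b
          rfl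
        rw [h1, Matrix.det_transpose, Matrix.det_permute', Matrix.det_permute]
        exact Ideal.mul_mem_left _ _ (Ideal.mul_mem_left _ _ (Ideal.mem_span_singleton_self _))
      · obtain ⟨a, a', haa, hne⟩ : ∃ a a', e a = e a' ∧ a ≠ a' := by
          by_contra hcon
          apply he
          intro a a' h
          by_contra hne
          exact hcon ⟨a, a', h, hne⟩
        have h0 : (Matrix.of fun a b => c (t b) (e a)).det = 0 :=
          Matrix.det_zero_of_row_eq hne (by funext b; simp [haa])
        rw [h0]
        exact Ideal.zero_mem _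
    · obtain ⟨b, b', hbb, hne⟩ : ∃ b b', t b = t b' ∧ b ≠ b' := by
        by_contra hcon
        apply ht
        intro a a' h
        by_contra hne
        exact hcon ⟨a, a', h, hne⟩
      have h0 : (Matrix.of fun a b => c (t b) (e a)).det = 0 :=
        Matrix.det_zero_of_column_eq hne (by intro a; simp [hbb])
      rw [h0]
      exact Ideal.zero_mem _
  · apply Ideal.span_le.mpr
    rintro d hd
    rw [Set.mem_singleton_iff] at hd
    subst hd
    apply Ideal.subset_span
    refine ⟨id, id, ?_⟩
    rw [← Matrix.det_transpose]
    rfl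

end Square

section Kaehler

variable (A : Type u) [CommRing A] (n : ℕ) (f : Fin n → MvPolynomial (Fin n) A)
  (B : Type v) [CommRing B] [Algebra A B] [Algebra (MvPolynomial (Fin n) A) B]
  [IsScalarTower A (MvPolynomial (Fin n) A) B]

/-- the basis `1 ⊗ dX_i` of `B ⊗_P Ω_P`. -/
noncomputable def kBasis : Module.Basis (Fin n) B
    (B ⊗[MvPolynomial (Fin n) A] Ω[MvPolynomial (Fin n) A⁄A]) :=
  (KaehlerDifferential.mvPolynomialBasis A (Fin n)).baseChange B

theorem mapBaseChange_kBasis (i : Fin n) :
    KaehlerDifferential.mapBaseChange A (MvPolynomial (Fin n) A) B (kBasis A n B i) =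
    D A B (algebraMap (MvPolynomial (Fin n) A) B (MvPolynomial.X i)) := by
  rw [kBasis, Module.Basis.baseChange_apply, KaehlerDifferential.mvPolynomialBasis_apply,
    KaehlerDifferential.mapBaseChange_tmul, KaehlerDifferential.map_D, one_smul]

theorem kBasis_equivFun_tmul (g : MvPolynomial (Fin n) A) :
    (kBasis A n B).equivFun ((1 : B) ⊗ₜ D A (MvPolynomial (Fin n) A) g) =
    fun i => algebraMap (MvPolynomial (Fin n) A) B (MvPolynomial.pderiv i g) := by
  funext i
  rw [Module.Basis.equivFun_apply, kBasis, Module.Basis.baseChange_repr_tmul,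
    KaehlerDifferential.mvPolynomialBasis_repr_apply, Algebra.smul_def, mul_one]

variable {A n B} in
theorem one_tmul_D_mem (hker : RingHom.ker (algebraMap (MvPolynomial (Fin n) A) B) =
      Ideal.span (Set.range f))
    (g : MvPolynomial (Fin n) A) (hg : g ∈ Ideal.span (Set.range f)) :
    ((1 : B) ⊗ₜ[MvPolynomial (Fin n) A] D A (MvPolynomial (Fin n) A) g) ∈
    Submodule.span B (Set.range fun j => ((1 : B)
        ⊗ₜ[MvPolynomial (Fin n) A] D A (MvPolynomial (Fin n) A) (f j))) := by
  induction hg using Submodule.span_induction with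
  | mem x hx =>
    obtain ⟨j, rfl⟩ := hx
    exact Submodule.subset_span ⟨j, rfl⟩
  | zero => simp
  | add x y _ _ hx hy =>
    rw [map_add, TensorProduct.tmul_add]
    exact Submodule.add_mem _ hx hy
  | smul p x hx hx' =>
    rw [smul_eq_mul, Derivation.leibniz, TensorProduct.tmul_add]
    apply Submodule.add_mem
    · have : ((1 : B) ⊗ₜ[MvPolynomial (Fin n) A] (p • D A (MvPolynomial (Fin n) A) x)) =
          (algebraMap (MvPolynomial (Fin n) A) B p) •
            ((1 : B) ⊗ₜ[MvPolynomial (Fin n) A] D A (MvPolynomial (Fin n) A) x) := by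
        rw [TensorProduct.tmul_smul, TensorProduct.smul_tmul', TensorProduct.smul_tmul',
          Algebra.smul_def, smul_eq_mul]
      rw [this]
      exact Submodule.smul_mem _ _ hx'
    · have : ((1 : B) ⊗ₜ[MvPolynomial (Fin n) A] (x • D A (MvPolynomial (Fin n) A) p)) = 0 := by
        rw [TensorProduct.tmul_smul, TensorProduct.smul_tmul', Algebra.smul_def, mul_one]
        have : algebraMap (MvPolynomial (Fin n) A) B x = 0 := by
          rw [← RingHom.mem_ker, hker]
          exact hx
        rw [this, TensorProduct.zero_tmul]
      rw [this]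
      exact Submodule.zero_mem _

variable {A n B} in
theorem ker_mapBaseChange_eq (hsurj : Function.Surjective (algebraMap (MvPolynomial (Fin n) A) B))
    (hker : RingHom.ker (algebraMap (MvPolynomial (Fin n) A) B) = Ideal.span (Set.range f)) :
    LinearMap.ker (KaehlerDifferential.mapBaseChange A (MvPolynomial (Fin n) A) B) =
    Submodule.span B (Set.range fun j => ((1 : B)
        ⊗ₜ[MvPolynomial (Fin n) A] D A (MvPolynomial (Fin n) A) (f j))) := by
  apply le_antisymm
  · intro y hy
    rw [LinearMap.mem_ker] at hy
    obtain ⟨c, rfl⟩ := (KaehlerDifferential.exact_kerCotangentToTensor_mapBaseChange A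
      (MvPolynomial (Fin n) A) B hsurj y).mp hy
    obtain ⟨⟨g, hg⟩, rfl⟩ := Ideal.toCotangent_surjective _ c
    rw [KaehlerDifferential.kerCotangentToTensor_toCotangent]
    exact one_tmul_D_mem f hker g (by rw [← hker]; exact hg)
  · apply Submodule.span_le.mpr
    rintro _ ⟨j, rfl⟩
    rw [SetLike.mem_coe, LinearMap.mem_ker, KaehlerDifferential.mapBaseChange_tmul,
      KaehlerDifferential.map_D, one_smul]
    have : algebraMap (MvPolynomial (Fin n) A) B (f j) = 0 := by
      rw [← RingHom.mem_ker, hker]
      exact Ideal.subset_span ⟨j, rfl⟩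
    rw [this, map_zero]

variable {A n B} in
/-- The Kähler different of `B = A[x_1..x_n]/(f_1..f_n)` is generated by the Jacobian
determinant. -/
theorem kaehler_different (hsurj : Function.Surjective (algebraMap (MvPolynomial (Fin n) A) B))
    (hker : RingHom.ker (algebraMap (MvPolynomial (Fin n) A) B) = Ideal.span (Set.range f)) :
    Fitt.ideal B (Ω[B⁄A]) 0 = Ideal.span {algebraMap (MvPolynomial (Fin n) A) B
      (Matrix.det (Matrix.of fun i j : Fin n => MvPolynomial.pderiv j (f i)))} := by
  classical
  let x : Fin n → Ω[B⁄A] := fun i => D A B (algebraMap (MvPolynomial (Fin n) A) B (MvPolynomial.X i))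
  let Ψ := (kBasis A n B).equivFun
  have hπ : ∀ z : Fin n → B, Fintype.linearCombination B x z =
      KaehlerDifferential.mapBaseChange A (MvPolynomial (Fin n) A) B (Ψ.symm z) := by
    intro z
    rw [Fintype.linearCombination_apply, Module.Basis.equivFun_symm_apply, map_sum]
    apply Finset.sum_congr rfl
    intro i _
    rw [map_smul, mapBaseChange_kBasis]
  have hx : Submodule.span B (Set.range x) = ⊤ := by
    rw [← Fintype.range_linearCombination, LinearMap.range_eq_top]
    intro ω
    obtain ⟨y, rfl⟩ := KaehlerDifferential.mapBaseChange_surjective A (MvPolynomial (Fin n) A) B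
      hsurj ω
    refine ⟨Ψ y, ?_⟩
    rw [hπ, LinearEquiv.symm_apply_apply]
  let c : Fin n → Fin n → B := fun j i =>
    algebraMap (MvPolynomial (Fin n) A) B (MvPolynomial.pderiv i (f j))
  have hS : Submodule.map Ψ.toLinearMap (Submodule.span B (Set.range fun j => ((1 : B)
        ⊗ₜ[MvPolynomial (Fin n) A] D A (MvPolynomial (Fin n) A) (f j)))) =
      Submodule.span B (Set.range c) := by
    rw [Submodule.map_span, ← Set.range_comp]
    congr 2
    funext j
    exact kBasis_equivFun_tmul A n B (f j)
  have hc : Submodule.span B (Set.range c) = LinearMap.ker (Fintype.linearCombination B x) := by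
    ext z
    rw [LinearMap.mem_ker, hπ, ← LinearMap.mem_ker, ker_mapBaseChange_eq f hsurj hker, ← hS]
    constructor
    · rintro ⟨y, hy, rfl⟩
      rw [LinearEquiv.coe_coe, LinearEquiv.symm_apply_apply]
      exact hy
    · intro hz
      exact ⟨Ψ.symm z, hz, by rw [LinearEquiv.coe_coe, LinearEquiv.apply_symm_apply]⟩
  rw [fitt_eq_minorsIdeal x hx c hc 0, Nat.sub_zero, minorsIdeal_square, RingHom.map_det]
  rfl

end Kaehler

end FittH8
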