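import Mathlib
import Groth.Prelude.Def_Fitting
import Groth.Agent.Lib.Fitt15_helper8

/-!
# Jacobian loci: Fitting ideals of Kähler differentials via Jacobian minors, and local smooth
models (helper3)
APPEND-ONLY once landed.
-/

set_option autoImplicit false

universe u v w

open Matrix TensorProduct KaehlerDifferential FittH8

namespace Groth.Agent.Lib.JacLocusH3

section Kaehler

variable {A : Type u} [CommRing A] {n : ℕ} {ι : Type w} (f : ι → MvPolynomial (Fin n) A)
  {B : Type v} [CommRing B] [Algebra A B] [Algebra (MvPolynomial (Fin n) A) B]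
  [IsScalarTower A (MvPolynomial (Fin n) A) B]

theorem one_tmul_D_mem (hker : RingHom.ker (algebraMap (MvPolynomial (Fin n) A) B) =
      Ideal.span (Set.range f))
    (g : MvPolynomial (Fin n) A) (hg : g ∈ Ideal.span (Set.range f)) :
    ((1 : B) ⊗ₜ[MvPolynomial (Fin n) A] D A (MvPolynomial (Fin n) A) g) ∈
    Submodule.span B (Set.range fun j => ((1 : B)
        ⊗ₜ[MvPolynomial (Fin n) A] D A (MvPolynomial (Fin n) A) (f j))) := by
  induction hg using Submodule.span_induction with
  | mem x hx =>
    obtain ⟨j, rfl⟩ := hx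
    exact Submodule.subset_span ⟨j, rfl⟩
  | zero => simp
  | add x y _ _ hx hy =>
    rw [map_add, TensorProduct.tmul_add]
    exact Submodule.add_mem _ hx hy
  | smul p x hx hx' =>
    rw [smul_eq_mul, Derivation.leibniz, TensorProduct.tmul_add]
    apply Submodule.add_mem
    · have : ((1 : B) ⊗ₜ[MvPolynomial (Fin n) A] (p • D A (MvPolynomial (Fin n) A) x)) =
          (algebraMap (MvPolynomial (Fin n) A) B p) •
            ((1 : B) ⊗ₜ[MvPolynomial (Fin n) A] D A (MvPolynomial (Fin n) A) x) := by
        rw [TensorProduct.tmul_smul, TensorProduct.smul_tmul', TensorProduct.smul_tmul',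
          Algebra.smul_def, smul_eq_mul]
      rw [this]
      exact Submodule.smul_mem _ _ hx'
    · have : ((1 : B) ⊗ₜ[MvPolynomial (Fin n) A] (x • D A (MvPolynomial (Fin n) A) p)) = 0 := by
        rw [TensorProduct.tmul_smul, TensorProduct.smul_tmul', Algebra.smul_def, mul_one]
        have : algebraMap (MvPolynomial (Fin n) A) B x = 0 := by
          rw [← RingHom.mem_ker, hker]
          exact hx
        rw [this, TensorProduct.zero_tmul]
      rw [this]
      exact Submodule.zero_mem _

theorem ker_mapBaseChange_eq (hsurj : Function.Surjective (algebraMap (MvPolynomial (Fin n) A) B))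
    (hker : RingHom.ker (algebraMap (MvPolynomial (Fin n) A) B) = Ideal.span (Set.range f)) :
    LinearMap.ker (KaehlerDifferential.mapBaseChange A (MvPolynomial (Fin n) A) B) =
    Submodule.span B (Set.range fun j => ((1 : B)
        ⊗ₜ[MvPolynomial (Fin n) A] D A (MvPolynomial (Fin n) A) (f j))) := by
  apply le_antisymm
  · intro y hy
    rw [LinearMap.mem_ker] at hy
    obtain ⟨c, rfl⟩ := (KaehlerDifferential.exact_kerCotangentToTensor_mapBaseChange A
      (MvPolynomial (Fin n) A) B hsurj y).mp hy
    obtain ⟨⟨g, hg⟩, rfl⟩ := Ideal.toCotangent_surjective _ c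
    rw [KaehlerDifferential.kerCotangentToTensor_toCotangent]
    exact one_tmul_D_mem f hker g (by rw [← hker]; exact hg)
  · apply Submodule.span_le.mpr
    rintro _ ⟨j, rfl⟩
    rw [SetLike.mem_coe, LinearMap.mem_ker, KaehlerDifferential.mapBaseChange_tmul,
      KaehlerDifferential.map_D, one_smul]
    have : algebraMap (MvPolynomial (Fin n) A) B (f j) = 0 := by
      rw [← RingHom.mem_ker, hker]
      exact Ideal.subset_span ⟨j, rfl⟩
    rw [this, map_zero]

/-- The `k`-th Fitting ideal of `Ω_{B/A}` for `B = A[x_1..x_n]/(f_j)` is generated by the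
`(n-k)`-minors of the Jacobian matrix. -/
theorem fitt_kaehler_eq_minorsIdeal
    (hsurj : Function.Surjective (algebraMap (MvPolynomial (Fin n) A) B))
    (hker : RingHom.ker (algebraMap (MvPolynomial (Fin n) A) B) = Ideal.span (Set.range f))
    (k : ℕ) :
    Fitt.ideal B (Ω[B⁄A]) k = minorsIdeal (fun (j : ι) (i : Fin n) =>
      algebraMap (MvPolynomial (Fin n) A) B (MvPolynomial.pderiv i (f j))) (n - k) := by
  classical
  let x : Fin n → Ω[B⁄A] := fun i => D A B (algebraMap (MvPolynomial (Fin n) A) B (MvPolynomial.X i))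
  let Ψ := (kBasis A n B).equivFun
  have hπ : ∀ z : Fin n → B, Fintype.linearCombination B x z =
      KaehlerDifferential.mapBaseChange A (MvPolynomial (Fin n) A) B (Ψ.symm z) := by
    intro z
    rw [Fintype.linearCombination_apply, Module.Basis.equivFun_symm_apply, map_sum]
    apply Finset.sum_congr rfl
    intro i _
    rw [map_smul, mapBaseChange_kBasis]
  have hx : Submodule.span B (Set.range x) = ⊤ := by
    rw [← Fintype.range_linearCombination, LinearMap.range_eq_top]
    intro ω
    obtain ⟨y, rfl⟩ := KaehlerDifferential.mapBaseChange_surjective A (MvPolynomial (Fin n) A) B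
      hsurj ω
    refine ⟨Ψ y, ?_⟩
    rw [hπ, LinearEquiv.symm_apply_apply]
  let c : ι → Fin n → B := fun j i =>
    algebraMap (MvPolynomial (Fin n) A) B (MvPolynomial.pderiv i (f j))
  have hS : Submodule.map Ψ.toLinearMap (Submodule.span B (Set.range fun j => ((1 : B)
        ⊗ₜ[MvPolynomial (Fin n) A] D A (MvPolynomial (Fin n) A) (f j)))) =
      Submodule.span B (Set.range c) := by
    rw [Submodule.map_span, ← Set.range_comp]
    congr 2
    funext j
    exact kBasis_equivFun_tmul A n B (f j)
  have hc : Submodule.span B (Set.range c) = LinearMap.ker (Fintype.linearCombination B x) := by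
    ext z
    rw [LinearMap.mem_ker, hπ, ← LinearMap.mem_ker, ker_mapBaseChange_eq f hsurj hker, ← hS]
    constructor
    · rintro ⟨y, hy, rfl⟩
      rw [LinearEquiv.coe_coe, LinearEquiv.symm_apply_apply]
      exact hy
    · intro hz
      exact ⟨Ψ.symm z, hz, by rw [LinearEquiv.coe_coe, LinearEquiv.apply_symm_apply]⟩
  exact fitt_eq_minorsIdeal x hx c hc k

end Kaehler

section Smooth

open Algebra MvPolynomial

/-- For a system `V` of polynomial equations with a chosen injection `m` from the equations to the
variables, the localization of the quotient at the corresponding Jacobian minor is standard smooth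
of relative dimension `#variables - #equations`. -/
theorem isStandardSmooth_away_jacobian {R : Type u} [CommRing R] {ι σ : Type} [Finite ι] [Finite σ]
    (V : σ → MvPolynomial ι R) (m : σ → ι) (hm : Function.Injective m) :
    Algebra.IsStandardSmoothOfRelativeDimension (Nat.card ι - Nat.card σ) R
      (Localization.Away (PreSubmersivePresentation.naive (v := V) m hm).jacobian) := by
  classical
  let P₀ : PreSubmersivePresentation R (MvPolynomial ι R ⧸ Ideal.span (Set.range V)) ι σ :=
    PreSubmersivePresentation.naive (v := V) m hm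
  let Δ : MvPolynomial ι R ⧸ Ideal.span (Set.range V) := P₀.jacobian
  let Q : SubmersivePresentation (MvPolynomial ι R ⧸ Ideal.span (Set.range V))
      (Localization.Away Δ) Unit Unit :=
    SubmersivePresentation.localizationAway (Localization.Away Δ) Δ
  let QP : PreSubmersivePresentation R (Localization.Away Δ) (Unit ⊕ ι) (Unit ⊕ σ) :=
    Q.toPreSubmersivePresentation.comp P₀
  have hjac : IsUnit QP.jacobian := by
    show IsUnit (Q.toPreSubmersivePresentation.comp P₀).jacobian
    rw [PreSubmersivePresentation.comp_jacobian_eq_jacobian_smul_jacobian, Algebra.smul_def,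
      IsUnit.mul_iff]
    refine ⟨?_, Q.jacobian_isUnit⟩
    exact IsLocalization.map_units _ (⟨Δ, 1, by simp⟩ : Submonoid.powers Δ)
  let SP : SubmersivePresentation R (Localization.Away Δ) (Unit ⊕ ι) (Unit ⊕ σ) := ⟨QP, hjac⟩
  have hSPdim : SP.dimension = Nat.card ι - Nat.card σ := by
    show (Q.toPreSubmersivePresentation.comp P₀).dimension = _
    rw [PreSubmersivePresentation.dimension_comp_eq_dimension_add_dimension]
    have h1 : Q.dimension = 0 := by simp [Presentation.dimension]
    have h2 : P₀.dimension = Nat.card ι - Nat.card σ := rfl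
    rw [h1, h2, zero_add]
  exact SP.isStandardSmoothOfRelativeDimension hSPdim

/-- **Local smooth models.**  If `A` is a finitely presented `R`-algebra and the `p`-th Fitting
ideal of `Ω_{A/R}` is not contained in the prime `q`, then a principal localisation `A_h` (`h ∉ q`)
is a quotient of a standard smooth `R`-algebra of relative dimension `p`. -/
theorem exists_smooth_model (R A : Type u) [CommRing R] [CommRing A] [Algebra R A]
    [Algebra.FinitePresentation R A] (q : Ideal A) [q.IsPrime] (p : ℕ)
    (hq : ¬ Fitt.ideal A Ω[A⁄R] p ≤ q) :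
    ∃ (h : A) (B : Type u) (_ : CommRing B) (_ : Algebra R B) (ψ : B →ₐ[R] Localization.Away h),
      h ∉ q ∧ Function.Surjective ψ ∧ Algebra.IsStandardSmoothOfRelativeDimension p R B := by
  classical
  obtain ⟨n₀, φ₀, hφ₀, -⟩ := Algebra.FinitePresentation.out (R := R) (A := A)
  let vals : Fin (n₀ + p) → A := Fin.append (fun i => φ₀ (MvPolynomial.X i)) (fun _ => 0)
  let φ : MvPolynomial (Fin (n₀ + p)) R →ₐ[R] A := MvPolynomial.aeval vals
  have hφ : Function.Surjective φ := by
    intro a
    obtain ⟨g, rfl⟩ := hφ₀ a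
    refine ⟨MvPolynomial.rename (Fin.castAdd p) g, ?_⟩
    show MvPolynomial.aeval vals (MvPolynomial.rename (Fin.castAdd p) g) = φ₀ g
    rw [MvPolynomial.aeval_rename]
    have h1 : vals ∘ Fin.castAdd p = fun i => φ₀ (MvPolynomial.X i) := by
      funext i
      simp [vals, Fin.append_left]
    rw [h1]
    exact (DFunLike.congr_fun (MvPolynomial.aeval_unique φ₀) g).symm
  obtain ⟨s, hs⟩ := Algebra.FinitePresentation.ker_fg_of_mvPolynomial φ hφ
  let f : (↥s) → MvPolynomial (Fin (n₀ + p)) R := Subtype.val
  letI : Algebra (MvPolynomial (Fin (n₀ + p)) R) A := φ.toRingHom.toAlgebra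
  haveI : IsScalarTower R (MvPolynomial (Fin (n₀ + p)) R) A :=
    IsScalarTower.of_algebraMap_eq' φ.comp_algebraMap.symm
  have hsurj : Function.Surjective (algebraMap (MvPolynomial (Fin (n₀ + p)) R) A) := hφ
  have hker : RingHom.ker (algebraMap (MvPolynomial (Fin (n₀ + p)) R) A) =
      Ideal.span (Set.range f) := by
    rw [Subtype.range_coe]
    exact hs.symm
  have hF := fitt_kaehler_eq_minorsIdeal f hsurj hker p
  rw [hF, Nat.add_sub_cancel] at hq
  obtain ⟨t, e, hd⟩ : ∃ (t : Fin n₀ → ↥s) (e : Fin n₀ → Fin (n₀ + p)),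
      (Matrix.of fun a b => algebraMap (MvPolynomial (Fin (n₀ + p)) R) A
        (MvPolynomial.pderiv (e a) (f (t b)))).det ∉ q := by
    by_contra hcon
    push_neg at hcon
    apply hq
    apply Ideal.span_le.mpr
    rintro d ⟨t, e, rfl⟩
    exact hcon t e
  have he : Function.Injective e := by
    intro a a' haa
    by_contra hne
    apply hd
    rw [Matrix.det_zero_of_row_eq hne (by
      funext b
      show algebraMap (MvPolynomial (Fin (n₀ + p)) R) A (MvPolynomial.pderiv (e a) (f (t b))) =
        algebraMap (MvPolynomial (Fin (n₀ + p)) R) A (MvPolynomial.pderiv (e a') (f (t b)))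
      rw [haa])]
    exact q.zero_mem
  let V : Fin n₀ → MvPolynomial (Fin (n₀ + p)) R := fun b => f (t b)
  let P₀ : PreSubmersivePresentation R
      (MvPolynomial (Fin (n₀ + p)) R ⧸ Ideal.span (Set.range V)) (Fin (n₀ + p)) (Fin n₀) :=
    PreSubmersivePresentation.naive (v := V) e he
  let Δ : MvPolynomial (Fin (n₀ + p)) R ⧸ Ideal.span (Set.range V) := P₀.jacobian
  have hB : Algebra.IsStandardSmoothOfRelativeDimension p R (Localization.Away Δ) := by
    have := isStandardSmooth_away_jacobian V e he
    rw [Nat.card_fin, Nat.card_fin, Nat.add_sub_cancel_left] at this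
    exact this
  have hV : ∀ x ∈ Ideal.span (Set.range V), φ x = 0 := by
    intro x hx
    have h1 : Ideal.span (Set.range V) ≤ RingHom.ker φ.toRingHom := by
      apply Ideal.span_le.mpr
      rintro _ ⟨b, rfl⟩
      show f (t b) ∈ RingHom.ker φ.toRingHom
      rw [← hs]
      exact Ideal.subset_span (t b).2
    exact h1 hx
  let π : (MvPolynomial (Fin (n₀ + p)) R ⧸ Ideal.span (Set.range V)) →ₐ[R] A :=
    Ideal.Quotient.liftₐ (Ideal.span (Set.range V)) φ hV
  have hπ : Function.Surjective π := by
    intro a
    obtain ⟨g, rfl⟩ := hφ a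
    exact ⟨Ideal.Quotient.mk _ g, rfl⟩
  have hπΔ : π Δ = (Matrix.of fun a b => algebraMap (MvPolynomial (Fin (n₀ + p)) R) A
        (MvPolynomial.pderiv (e a) (f (t b)))).det := by
    show π P₀.jacobian = _
    rw [PreSubmersivePresentation.jacobian_eq_jacobiMatrix_det]
    have h1 : π (algebraMap P₀.Ring _ P₀.jacobiMatrix.det) = φ P₀.jacobiMatrix.det := rfl
    rw [h1, AlgHom.map_det]
    congr 1
    ext a b
    show φ (P₀.jacobiMatrix a b) = _
    rw [PreSubmersivePresentation.jacobiMatrix_naive]
    rfl
  refine ⟨π Δ, Localization.Away Δ, inferInstance, inferInstance,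
    Localization.awayMapₐ π Δ, ?_, ?_, hB⟩
  · rw [hπΔ]
    exact hd
  · exact IsLocalization.Away.mapₐ_surjective_of_surjective Δ hπ

end Smooth

end Groth.Agent.Lib.JacLocusH3
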