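import Mathlib
import Groth.Prelude
import Groth.Agent.Lib.JacLocus1_helper3
import Groth.Agent.Lib.JacCrit2_helper1
import Groth.Agent.Lib.KoszulLow_helper2
import Groth.Agent.Lib.KRegIdeal_helper2
import Groth.Agent.Lib.FittFibre1_helper3
import Groth.Agent.Lib.KaehlerGens_helper3

/-!
# Smoothness of a Koszul-regular quotient of a standard smooth algebra and the Jacobian locus
(helper3)
APPEND-ONLY once landed.
-/

set_option autoImplicit false

universe u

open TensorProduct KaehlerDifferential IsLocalRing

namespace Groth.Agent.Lib.JacLocusH3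

section Aux

/-- Right exactness of base change to a field, as a dimension count. -/
theorem finrank_add_finrank_span_aux {A : Type u} [CommRing A] {M N : Type u} [AddCommGroup M]
    [AddCommGroup N] [Module A M] [Module A N] (L : Type u) [Field L] [Algebra A L]
    [Module.Finite A M] (g₀ : M →ₗ[A] N) (hg₀ : Function.Surjective g₀) {ι : Type*} (y : ι → M)
    (hy : LinearMap.ker g₀ = Submodule.span A (Set.range y)) :
    Module.finrank L (L ⊗[A] N) +
      Module.finrank L (Submodule.span L (Set.range fun j => ((1 : L) ⊗ₜ[A] y j))) =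
    Module.finrank L (L ⊗[A] M) := by
  have hψsurj : Function.Surjective (g₀.baseChange L) := LinearMap.lTensor_surjective L hg₀
  have step : ∀ z, (g₀.baseChange L) z = 0 ↔ z ∈ (LinearMap.ker g₀).baseChange L := by
    intro z
    have hex := lTensor_exact L (LinearMap.exact_subtype_ker_map g₀) hg₀
    exact hex z
  have hkerψ : LinearMap.ker (g₀.baseChange L) =
      Submodule.span L (Set.range fun j => ((1 : L) ⊗ₜ[A] y j)) := by
    have h1 : LinearMap.ker (g₀.baseChange L) = (LinearMap.ker g₀).baseChange L := by
      ext z
      rw [LinearMap.mem_ker]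
      exact step z
    rw [h1, hy, Submodule.baseChange_span, ← Set.range_comp]
    rfl
  have hrn := LinearMap.finrank_range_add_finrank_ker (g₀.baseChange L)
  rw [LinearMap.range_eq_top.mpr hψsurj, finrank_top, hkerψ] at hrn
  exact hrn

end Aux

section KerGeneral

variable {R A' A : Type u} [CommRing R] [CommRing A'] [CommRing A] [Algebra R A'] [Algebra R A]
  [Algebra A' A] [IsScalarTower R A' A] {ι : Type*} (g : ι → A')

theorem one_tmul_D_mem' (hker : RingHom.ker (algebraMap A' A) = Ideal.span (Set.range g))
    (x : A') (hx : x ∈ Ideal.span (Set.range g)) :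
    ((1 : A) ⊗ₜ[A'] D R A' x) ∈
      Submodule.span A (Set.range fun j => ((1 : A) ⊗ₜ[A'] D R A' (g j))) := by
  induction hx using Submodule.span_induction with
  | mem x hx =>
    obtain ⟨j, rfl⟩ := hx
    exact Submodule.subset_span ⟨j, rfl⟩
  | zero => simp
  | add x y _ _ hx hy =>
    rw [map_add, TensorProduct.tmul_add]
    exact Submodule.add_mem _ hx hy
  | smul p x hx hx' =>
    rw [smul_eq_mul, Derivation.leibniz, TensorProduct.tmul_add]
    apply Submodule.add_mem
    · have : ((1 : A) ⊗ₜ[A'] (p • D R A' x)) = (algebraMap A' A p) • ((1 : A) ⊗ₜ[A'] D R A' x) := by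
        rw [TensorProduct.tmul_smul, TensorProduct.smul_tmul', TensorProduct.smul_tmul',
          Algebra.smul_def, smul_eq_mul]
      rw [this]
      exact Submodule.smul_mem _ _ hx'
    · have : ((1 : A) ⊗ₜ[A'] (x • D R A' p)) = 0 := by
        rw [TensorProduct.tmul_smul, TensorProduct.smul_tmul', Algebra.smul_def, mul_one]
        have : algebraMap A' A x = 0 := by
          rw [← RingHom.mem_ker, hker]
          exact hx
        rw [this, TensorProduct.zero_tmul]
      rw [this]
      exact Submodule.zero_mem _

theorem ker_mapBaseChange_eq' (hsurj : Function.Surjective (algebraMap A' A))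
    (hker : RingHom.ker (algebraMap A' A) = Ideal.span (Set.range g)) :
    LinearMap.ker (KaehlerDifferential.mapBaseChange R A' A) =
      Submodule.span A (Set.range fun j => ((1 : A) ⊗ₜ[A'] D R A' (g j))) := by
  apply le_antisymm
  · intro y hy
    rw [LinearMap.mem_ker] at hy
    obtain ⟨c, rfl⟩ := (KaehlerDifferential.exact_kerCotangentToTensor_mapBaseChange R
      A' A hsurj y).mp hy
    obtain ⟨⟨x, hx⟩, rfl⟩ := Ideal.toCotangent_surjective _ c
    rw [KaehlerDifferential.kerCotangentToTensor_toCotangent]
    exact one_tmul_D_mem' g hker x (by rw [← hker]; exact hx)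
  · apply Submodule.span_le.mpr
    rintro _ ⟨j, rfl⟩
    rw [SetLike.mem_coe, LinearMap.mem_ker, KaehlerDifferential.mapBaseChange_tmul,
      KaehlerDifferential.map_D, one_smul]
    have : algebraMap A' A (g j) = 0 := by
      rw [← RingHom.mem_ker, hker]
      exact Ideal.subset_span ⟨j, rfl⟩
    rw [this, map_zero]

variable (L : Type u) [Field L] [Algebra A L] [Algebra A' L] [IsScalarTower A' A L]

/-- The conormal sequence after base change to a field: dimension count. -/
theorem finrank_add_finrank_span [Module.Finite A' Ω[A'⁄R]]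
    (hsurj : Function.Surjective (algebraMap A' A))
    (hker : RingHom.ker (algebraMap A' A) = Ideal.span (Set.range g)) :
    Module.finrank L (L ⊗[A] Ω[A⁄R]) +
      Module.finrank L (Submodule.span L (Set.range fun j => ((1 : L) ⊗ₜ[A'] D R A' (g j)))) =
    Module.finrank L (L ⊗[A'] Ω[A'⁄R]) := by
  have hg₀ : Function.Surjective (KaehlerDifferential.mapBaseChange R A' A) :=
    KaehlerDifferential.mapBaseChange_surjective R A' A hsurj
  let e : L ⊗[A] (A ⊗[A'] Ω[A'⁄R]) ≃ₗ[L] L ⊗[A'] Ω[A'⁄R] :=
    AlgebraTensorModule.cancelBaseChange A' A L L Ω[A'⁄R]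
  have h1 := finrank_add_finrank_span_aux L (KaehlerDifferential.mapBaseChange R A' A) hg₀
    (fun j => ((1 : A) ⊗ₜ[A'] D R A' (g j))) (ker_mapBaseChange_eq' g hsurj hker)
  rw [e.finrank_eq] at h1
  have hS : Submodule.map e.toLinearMap (Submodule.span L (Set.range fun j =>
      ((1 : L) ⊗ₜ[A] ((1 : A) ⊗ₜ[A'] D R A' (g j))))) =
      Submodule.span L (Set.range fun j => ((1 : L) ⊗ₜ[A'] D R A' (g j))) := by
    rw [Submodule.map_span, ← Set.range_comp]
    congr 2
    funext j
    show e ((1 : L) ⊗ₜ[A] ((1 : A) ⊗ₜ[A'] D R A' (g j))) = _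
    rw [AlgebraTensorModule.cancelBaseChange_tmul, one_smul]
  have h2 := LinearEquiv.finrank_map_eq e (Submodule.span L (Set.range fun j =>
      ((1 : L) ⊗ₜ[A] ((1 : A) ⊗ₜ[A'] D R A' (g j)))))
  rw [hS] at h2
  rw [h2]
  exact h1

/-- With `Ω_{A'/R}` free of rank `m + c` and `ker (A' → A)` generated by `c` elements: the
differentials of the generators are linearly independent at `L` iff `dim L ⊗ Ω_{A/R} ≤ m`. -/
theorem li_iff_finrank_le {c : ℕ} (g : Fin c → A') (m : ℕ) [Nontrivial A']
    [Module.Finite A' Ω[A'⁄R]] [Module.Free A' Ω[A'⁄R]] (hrank : Module.finrank A' Ω[A'⁄R] = m + c)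
    (hsurj : Function.Surjective (algebraMap A' A))
    (hker : RingHom.ker (algebraMap A' A) = Ideal.span (Set.range g)) :
    LinearIndependent L (fun j => ((1 : L) ⊗ₜ[A'] D R A' (g j))) ↔
      Module.finrank L (L ⊗[A] Ω[A⁄R]) ≤ m := by
  have h1 := finrank_add_finrank_span (R := R) g L hsurj hker
  have h0 : Module.finrank L (L ⊗[A'] Ω[A'⁄R]) = m + c := by
    rw [Module.finrank_baseChange, hrank]
  rw [h0] at h1
  have h2 : (Set.range fun j => ((1 : L) ⊗ₜ[A'] D R A' (g j))).finrank L ≤ Fintype.card (Fin c) :=
    finrank_range_le_card _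
  rw [Fintype.card_fin] at h2
  rw [linearIndependent_iff_card_eq_finrank_span, Fintype.card_fin]
  have h3 : (Set.range fun j => ((1 : L) ⊗ₜ[A'] D R A' (g j))).finrank L =
      Module.finrank L (Submodule.span L (Set.range fun j => ((1 : L) ⊗ₜ[A'] D R A' (g j)))) := rfl
  rw [h3] at h2 ⊢
  omega

end KerGeneral

section Local

open Groth.Agent.Lib.JacCritH1 Groth.Agent.Lib.JacCrit2H1

variable {R A' A : Type u} [CommRing R] [CommRing A'] [CommRing A] [Algebra R A'] [Algebra R A]
  [Algebra A' A] [IsScalarTower R A' A]

/-- **Jacobian criterion for a Koszul-regular quotient of a smooth algebra.** -/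
theorem isSmoothAt_iff_li [Algebra.Smooth R A'] (hsurj : Function.Surjective (algebraMap A' A))
    (q : Ideal A) [q.IsPrime] {c : ℕ} (g : Fin c → A')
    (hker : RingHom.ker (algebraMap A' A) = Ideal.span (Set.range g))
    (hreg : LCI.IsKoszulRegularSeq A' (List.ofFn g)) :
    Algebra.IsSmoothAt R q ↔
      LinearIndependent (q.comap (algebraMap A' A)).ResidueField
        (fun j => ((1 : (q.comap (algebraMap A' A)).ResidueField) ⊗ₜ[A'] D R A' (g j))) := by
  classical
  set q' : Ideal A' := q.comap (algebraMap A' A) with hq'
  letI : Algebra (Localization.AtPrime q') (Localization.AtPrime q) :=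
    (Localization.localRingHom q' q (algebraMap A' A) rfl).toAlgebra
  haveI : IsScalarTower R (Localization.AtPrime q') (Localization.AtPrime q) :=
    IsScalarTower.of_algebraMap_eq (fun r => by
      show algebraMap R (Localization.AtPrime q) r =
        Localization.localRingHom q' q (algebraMap A' A) rfl (algebraMap R _ r)
      rw [IsScalarTower.algebraMap_apply R A' (Localization.AtPrime q'),
        Localization.localRingHom_to_map,
        IsScalarTower.algebraMap_apply R A (Localization.AtPrime q),
        ← IsScalarTower.algebraMap_apply R A' A])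
  haveI : Algebra.FormallySmooth A' (Localization.AtPrime q') :=
    Algebra.FormallySmooth.of_isLocalization q'.primeCompl
  haveI : Algebra.FormallySmooth R (Localization.AtPrime q') :=
    Algebra.FormallySmooth.comp R A' _
  haveI : Module.Free (Localization.AtPrime q') Ω[Localization.AtPrime q'⁄R] :=
    Module.free_of_flat_of_isLocalRing
  have h₁ : Function.Surjective
      (algebraMap (Localization.AtPrime q') (Localization.AtPrime q)) :=
    RingHom.surjective_localRingHom_of_surjective (algebraMap A' A) hsurj q
  let w : Fin c → Localization.AtPrime q' := fun j => algebraMap A' (Localization.AtPrime q') (g j)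
  have hkl : RingHom.ker
      (algebraMap (Localization.AtPrime q') (Localization.AtPrime q)) =
      Ideal.span (Set.range w) := by
    have h0 := ker_localRingHom (algebraMap A' A) hsurj q
    rw [hker, Ideal.map_span, ← Set.range_comp] at h0
    exact h0
  have h₂ : (RingHom.ker
      (algebraMap (Localization.AtPrime q') (Localization.AtPrime q))).FG := by
    rw [hkl]
    exact Submodule.fg_span (Set.finite_range _)
  have hw : ∀ j, w j ∈ RingHom.ker
      (algebraMap (Localization.AtPrime q') (Localization.AtPrime q)) := by
    intro j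
    rw [hkl]
    exact Ideal.subset_span ⟨j, rfl⟩
  -- transfer of linear independence along `Phi`
  have hΦ : LinearIndependent q'.ResidueField
        (fun j => ((1 : q'.ResidueField) ⊗ₜ[A'] D R A' (g j))) ↔
      LinearIndependent q'.ResidueField
        (fun j => ((1 : q'.ResidueField) ⊗ₜ[Localization.AtPrime q']
          D R (Localization.AtPrime q') (w j))) := by
    have h3 : (⇑(Phi R q').toLinearMap ∘ fun j =>
        ((1 : q'.ResidueField) ⊗ₜ[A'] D R A' (g j))) =
        fun j => ((1 : q'.ResidueField) ⊗ₜ[Localization.AtPrime q']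
          D R (Localization.AtPrime q') (w j)) := by
      funext j
      rw [Function.comp_apply, LinearEquiv.coe_coe, Phi_one_tmul_D]
    rw [← h3]
    exact ((Phi R q').toLinearMap.linearIndependent_iff (LinearEquiv.ker _)).symm
  rw [hΦ]
  constructor
  · intro hsm
    have hsm' : Algebra.FormallySmooth R (Localization.AtPrime q) := hsm
    obtain ⟨c', rows, hgen, hli⟩ := jc_sub (R := R) h₁ h₂ w hw hkl hsm'
    -- `rows` is surjective by `H_1`-regularity
    have hkreg : LCI.IsKoszulRegularSeq (Localization.AtPrime q') (List.ofFn w) := by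
      have := Groth.Agent.Lib.KRegIdeal.kreg_map_of_isLocalization q'.primeCompl
        (C := Localization.AtPrime q') (List.ofFn g) hreg
      rw [List.map_ofFn] at this
      exact this
    have hH1 : CAlgX.IsH1Regular w := Groth.Agent.Lib.KoszulLow.h1_ofFn w hkreg
    have hrows : Function.Surjective rows := by
      by_contra hns
      rw [Function.Surjective] at hns
      push_neg at hns
      obtain ⟨i₀, hi₀⟩ := hns
      have hmem : w i₀ ∈ Ideal.span (Set.range (w ∘ rows)) := by
        rw [← hgen]
        exact hw i₀
      obtain ⟨b, hb⟩ := (Ideal.mem_span_range_iff_exists_fun).mp hmem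
      let a : Fin c → Localization.AtPrime q' :=
        Pi.single i₀ 1 - ∑ j, Pi.single (rows j) (b j)
      have ha0 : ∑ i, a i * w i = 0 := by
        have h4 : ∀ i, a i * w i = (Pi.single i₀ 1 : Fin c → Localization.AtPrime q') i * w i -
            ∑ j, (Pi.single (rows j) (b j) : Fin c → Localization.AtPrime q') i * w i := by
          intro i
          show (Pi.single i₀ 1 - ∑ j, Pi.single (rows j) (b j) :
            Fin c → Localization.AtPrime q') i * w i = _
          rw [Pi.sub_apply, Finset.sum_apply, sub_mul, Finset.sum_mul]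
        simp_rw [h4]
        rw [Finset.sum_sub_distrib, Finset.sum_comm]
        have h5 : ∑ i, (Pi.single i₀ 1 : Fin c → Localization.AtPrime q') i * w i = w i₀ := by
          simp [Pi.single_apply]
        have h6 : ∀ j, ∑ i, (Pi.single (rows j) (b j) : Fin c → Localization.AtPrime q') i * w i =
            b j * w (rows j) := by
          intro j
          simp [Pi.single_apply]
        rw [h5]
        simp_rw [h6]
        rw [sub_eq_zero]
        exact hb.symm
      have hspan := hH1 a ha0
      have hle : Submodule.span (Localization.AtPrime q')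
          {v : Fin c → Localization.AtPrime q' | ∃ i j : Fin c,
            v = Pi.single i (w j) - Pi.single j (w i)} ≤
          Submodule.comap (LinearMap.proj i₀ : (Fin c → Localization.AtPrime q') →ₗ[_] _)
            (Ideal.span (Set.range w)) := by
        apply Submodule.span_le.mpr
        rintro v ⟨i, j, rfl⟩
        show (Pi.single i (w j) - Pi.single j (w i) : Fin c → Localization.AtPrime q') i₀ ∈
          Ideal.span (Set.range w)
        rw [Pi.sub_apply, Pi.single_apply, Pi.single_apply]
        apply Ideal.sub_mem
        · split_ifs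
          · exact Ideal.subset_span ⟨j, rfl⟩
          · exact Ideal.zero_mem _
        · split_ifs
          · exact Ideal.subset_span ⟨i, rfl⟩
          · exact Ideal.zero_mem _
      have h7 : a i₀ ∈ Ideal.span (Set.range w) := hle hspan
      have h8 : a i₀ = 1 := by
        show (Pi.single i₀ 1 - ∑ j, Pi.single (rows j) (b j) :
          Fin c → Localization.AtPrime q') i₀ = 1
        rw [Pi.sub_apply, Finset.sum_apply, Pi.single_eq_same]
        have : ∀ j ∈ Finset.univ, (Pi.single (rows j) (b j) :
            Fin c → Localization.AtPrime q') i₀ = 0 := by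
          intro j _
          exact Pi.single_eq_of_ne (hi₀ j).symm _
        rw [Finset.sum_eq_zero this, sub_zero]
      rw [h8, ← hkl, RingHom.mem_ker, map_one] at h7
      exact one_ne_zero h7
    let E : Fin c' ≃ Fin c := Equiv.ofBijective rows ⟨rows.injective, hrows⟩
    exact (linearIndependent_equiv E).mp hli
  · intro hli
    exact (jc (R := R) h₁ h₂).mpr ⟨c, w, hw, hkl, hli⟩

end Local

section Combine

variable {R A' A : Type u} [CommRing R] [CommRing A'] [CommRing A] [Algebra R A'] [Algebra R A]
  [Algebra A' A] [IsScalarTower R A' A]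

/-- Let `A'` be standard smooth of relative dimension `m + c` over `R` and `A` the quotient of
`A'` by a Koszul-regular sequence of length `c`.  Then `A` is smooth over `R` at a prime `q` iff
`q` does not contain the `m`-th Fitting ideal of `Ω_{A/R}`. -/
theorem isSmoothAt_iff_not_fitt_le (m c : ℕ)
    [Algebra.IsStandardSmoothOfRelativeDimension (m + c) R A']
    (hsurj : Function.Surjective (algebraMap A' A)) (rs : List A') (hlen : rs.length = c)
    (hrs : LCI.IsKoszulRegularSeq A' rs)
    (hker : RingHom.ker (algebraMap A' A) = Ideal.ofList rs) (q : Ideal A) [q.IsPrime] :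
    Algebra.IsSmoothAt R q ↔ ¬ Fitt.ideal A Ω[A⁄R] m ≤ q := by
  subst hlen
  haveI : Algebra.IsStandardSmooth R A' :=
    Algebra.IsStandardSmoothOfRelativeDimension.isStandardSmooth (m + rs.length)
  haveI : Algebra.Smooth R A' := inferInstance
  have hker' : RingHom.ker (algebraMap A' A) = Ideal.span (Set.range rs.get) := by
    rw [hker, Set.range_list_get]
  have hreg : LCI.IsKoszulRegularSeq A' (List.ofFn rs.get) := by
    rw [List.ofFn_get]
    exact hrs
  set q' : Ideal A' := q.comap (algebraMap A' A) with hq'
  haveI : Nontrivial A' := ⟨⟨0, 1, fun h01 => by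
    have : (1 : A') ∈ q' := h01 ▸ q'.zero_mem
    exact (inferInstance : q'.IsPrime).ne_top ((Ideal.eq_top_iff_one _).mpr this)⟩⟩
  have hrank : Module.finrank A' Ω[A'⁄R] = m + rs.length := by
    have h1 : Module.rank A' Ω[A'⁄R] = ((m + rs.length : ℕ) : Cardinal) :=
      Algebra.IsStandardSmoothOfRelativeDimension.rank_kaehlerDifferential (m + rs.length)
    rw [Module.finrank, h1, Cardinal.toNat_natCast]
  -- the residue field of `q'` as an `A`-algebra
  have hle : RingHom.ker (algebraMap A' A) ≤ RingHom.ker (algebraMap A' q'.ResidueField) := by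
    intro x hx
    rw [RingHom.mem_ker, Ideal.algebraMap_residueField_eq_zero]
    show algebraMap A' A x ∈ q
    rw [RingHom.mem_ker.mp hx]
    exact q.zero_mem
  let θ : A →+* q'.ResidueField :=
    RingHom.liftOfSurjective (algebraMap A' A) hsurj ⟨algebraMap A' q'.ResidueField, hle⟩
  have hθ : ∀ x, θ (algebraMap A' A x) = algebraMap A' q'.ResidueField x :=
    fun x => RingHom.liftOfRightInverse_comp_apply _ _ _ _ x
  letI : Algebra A q'.ResidueField := θ.toAlgebra
  haveI : IsScalarTower A' A q'.ResidueField :=
    IsScalarTower.of_algebraMap_eq (fun x => (hθ x).symm)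
  have hkerθ : RingHom.ker (algebraMap A q'.ResidueField) = q := by
    ext y
    obtain ⟨x, rfl⟩ := hsurj y
    rw [RingHom.mem_ker]
    show θ (algebraMap A' A x) = 0 ↔ _
    rw [hθ, Ideal.algebraMap_residueField_eq_zero]
    rfl
  haveI : Algebra.FiniteType R A :=
    Algebra.FiniteType.of_surjective (IsScalarTower.toAlgHom R A' A) hsurj
  rw [isSmoothAt_iff_li hsurj q rs.get hker' hreg,
    li_iff_finrank_le (R := R) q'.ResidueField rs.get m hrank hsurj hker',
    Groth.Agent.Lib.KaehlerGensH3.finrank_tensor_field_eq q q'.ResidueField hkerθ Ω[A⁄R],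
    Groth.Agent.Lib.FittFibreH3.fitt_le_iff_lt_finrank, not_lt]

end Combine

end Groth.Agent.Lib.JacLocusH3
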