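import Mathlib
import Groth.Prelude
import Groth.Agent.Lib.JacLocus3_helper3

/-!
# Étale slices through closed subschemes of smooth schemes (helper3)
APPEND-ONLY once landed.
-/

set_option autoImplicit false

universe u

open TensorProduct KaehlerDifferential IsLocalRing

namespace Groth.Agent.Lib.EtSliceH3

open Groth.Agent.Lib.JacLocusH3 Groth.Agent.Lib.JacCritH1 Groth.Agent.Lib.JacCrit2H1

section Ring

variable {R A' A : Type u} [CommRing R] [CommRing A'] [CommRing A] [Algebra R A'] [Algebra R A]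
  [Algebra A' A] [IsScalarTower R A' A]

/-- The sufficiency half of the Jacobian criterion: no regularity hypothesis is needed. -/
theorem isSmoothAt_of_li [Algebra.Smooth R A'] (hsurj : Function.Surjective (algebraMap A' A))
    (q : Ideal A) [q.IsPrime] (q' : Ideal A') [q'.IsPrime]
    (hq' : q' = q.comap (algebraMap A' A)) {c : ℕ} (g : Fin c → A')
    (hker : RingHom.ker (algebraMap A' A) = Ideal.span (Set.range g))
    (hli : LinearIndependent q'.ResidueField
        (fun j => ((1 : q'.ResidueField) ⊗ₜ[A'] D R A' (g j)))) :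
    Algebra.IsSmoothAt R q := by
  classical
  subst hq'
  set q' : Ideal A' := q.comap (algebraMap A' A) with hq'
  letI : Algebra (Localization.AtPrime q') (Localization.AtPrime q) :=
    (Localization.localRingHom q' q (algebraMap A' A) rfl).toAlgebra
  haveI : IsScalarTower R (Localization.AtPrime q') (Localization.AtPrime q) :=
    IsScalarTower.of_algebraMap_eq (fun r => by
      show algebraMap R (Localization.AtPrime q) r =
        Localization.localRingHom q' q (algebraMap A' A) rfl (algebraMap R _ r)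
      rw [IsScalarTower.algebraMap_apply R A' (Localization.AtPrime q'),
        Localization.localRingHom_to_map,
        IsScalarTower.algebraMap_apply R A (Localization.AtPrime q),
        ← IsScalarTower.algebraMap_apply R A' A])
  haveI : Algebra.FormallySmooth A' (Localization.AtPrime q') :=
    Algebra.FormallySmooth.of_isLocalization q'.primeCompl
  haveI : Algebra.FormallySmooth R (Localization.AtPrime q') :=
    Algebra.FormallySmooth.comp R A' _
  haveI : Module.Free (Localization.AtPrime q') Ω[Localization.AtPrime q'⁄R] :=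
    Module.free_of_flat_of_isLocalRing
  have h₁ : Function.Surjective
      (algebraMap (Localization.AtPrime q') (Localization.AtPrime q)) :=
    RingHom.surjective_localRingHom_of_surjective (algebraMap A' A) hsurj q
  let w : Fin c → Localization.AtPrime q' := fun j => algebraMap A' (Localization.AtPrime q') (g j)
  have hkl : RingHom.ker
      (algebraMap (Localization.AtPrime q') (Localization.AtPrime q)) =
      Ideal.span (Set.range w) := by
    have h0 := ker_localRingHom (algebraMap A' A) hsurj q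
    rw [hker, Ideal.map_span, ← Set.range_comp] at h0
    exact h0
  have h₂ : (RingHom.ker
      (algebraMap (Localization.AtPrime q') (Localization.AtPrime q))).FG := by
    rw [hkl]
    exact Submodule.fg_span (Set.finite_range _)
  have hw : ∀ j, w j ∈ RingHom.ker
      (algebraMap (Localization.AtPrime q') (Localization.AtPrime q)) := by
    intro j
    rw [hkl]
    exact Ideal.subset_span ⟨j, rfl⟩
  have hΦ : LinearIndependent q'.ResidueField
        (fun j => ((1 : q'.ResidueField) ⊗ₜ[A'] D R A' (g j))) ↔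
      LinearIndependent q'.ResidueField
        (fun j => ((1 : q'.ResidueField) ⊗ₜ[Localization.AtPrime q']
          D R (Localization.AtPrime q') (w j))) := by
    have h3 : (⇑(Phi R q').toLinearMap ∘ fun j =>
        ((1 : q'.ResidueField) ⊗ₜ[A'] D R A' (g j))) =
        fun j => ((1 : q'.ResidueField) ⊗ₜ[Localization.AtPrime q']
          D R (Localization.AtPrime q') (w j)) := by
      funext j
      rw [Function.comp_apply, LinearEquiv.coe_coe, Phi_one_tmul_D]
    rw [← h3]
    exact ((Phi R q').toLinearMap.linearIndependent_iff (LinearEquiv.ker _)).symm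
  exact (jc (R := R) h₁ h₂).mpr ⟨c, w, hw, hkl, hΦ.mp hli⟩

end Ring

section Slice

variable {B A C : Type u} [CommRing B] [CommRing A] [CommRing C] [Algebra B A] [Algebra A C]
  [Algebra B C] [IsScalarTower B A C]

/-- Let `A` be smooth over `B`, `A → C` a surjection such that `C` is formally unramified over
`B`, and `q` a prime of `A` containing the kernel.  Then there are finitely many elements `t_i` of
the kernel and `h ∉ q` such that `(A/(t))_h` is étale over `B`. -/
theorem exists_slice [Algebra.Smooth B A] [Algebra.FormallyUnramified B C]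
    (hsurj : Function.Surjective (algebraMap A C)) (q : Ideal A) [q.IsPrime]
    (hq : RingHom.ker (algebraMap A C) ≤ q) :
    ∃ (n : ℕ) (t : Fin n → A), (∀ i, algebraMap A C (t i) = 0) ∧
      ∃ h : A, h ∉ q ∧ Algebra.Etale B
        (Localization.Away (Ideal.Quotient.mk (Ideal.span (Set.range t)) h)) := by
  classical
  haveI : Algebra.FinitePresentation B A := Algebra.Smooth.finitePresentation
  let χ : C →+* q.ResidueField := RingHom.liftOfSurjective (algebraMap A C) hsurj
    ⟨algebraMap A q.ResidueField, fun x hx => by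
      rw [RingHom.mem_ker, Ideal.algebraMap_residueField_eq_zero]
      exact hq hx⟩
  have hχ : ∀ x, χ (algebraMap A C x) = algebraMap A q.ResidueField x :=
    fun x => RingHom.liftOfRightInverse_comp_apply _ _ _ _ x
  letI : Algebra C q.ResidueField := χ.toAlgebra
  haveI : IsScalarTower A C q.ResidueField :=
    IsScalarTower.of_algebraMap_eq (fun x => (hχ x).symm)
  let g : RingHom.ker (algebraMap A C) → A := Subtype.val
  have hker : RingHom.ker (algebraMap A C) = Ideal.span (Set.range g) := by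
    rw [Subtype.range_val]
    exact (Ideal.span_eq _).symm
  have h1 := finrank_add_finrank_span (R := B) g q.ResidueField hsurj hker
  have h0 : Module.finrank q.ResidueField (q.ResidueField ⊗[C] Ω[C⁄B]) = 0 := by
    haveI : Subsingleton (q.ResidueField ⊗[C] Ω[C⁄B]) := by
      refine ⟨fun x y => ?_⟩
      have hz : ∀ z : q.ResidueField ⊗[C] Ω[C⁄B], z = 0 := by
        intro z
        induction z using TensorProduct.induction_on with
        | zero => rfl
        | tmul a b => rw [Subsingleton.elim b 0, TensorProduct.tmul_zero]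
        | add a b ha hb => rw [ha, hb, add_zero]
      rw [hz x, hz y]
    exact Module.finrank_zero_of_subsingleton
  rw [h0, zero_add] at h1
  have htop : Submodule.span q.ResidueField
      (Set.range fun j => ((1 : q.ResidueField) ⊗ₜ[A] D B A (g j))) = ⊤ :=
    Submodule.eq_top_of_finrank_eq h1
  obtain ⟨f, hf, hspan, hli⟩ := Submodule.exists_fun_fin_finrank_span_eq q.ResidueField
    (Set.range fun j => ((1 : q.ResidueField) ⊗ₜ[A] D B A (g j)))
  choose j hj using hf
  let t : Fin (Module.finrank q.ResidueField (Submodule.span q.ResidueField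
      (Set.range fun j => ((1 : q.ResidueField) ⊗ₜ[A] D B A (g j))))) → A := fun i => (j i : A)
  have hft : f = fun i => ((1 : q.ResidueField) ⊗ₜ[A] D B A (t i)) := funext fun i => (hj i).symm
  have ht : ∀ i, algebraMap A C (t i) = 0 := fun i => (j i).2
  have htq : ∀ i, t i ∈ q := fun i => hq (j i).2
  set K : Ideal A := Ideal.span (Set.range t) with hK
  have hKq : K ≤ q := Ideal.span_le.mpr (by rintro _ ⟨i, rfl⟩; exact htq i)
  have hmk : Function.Surjective (algebraMap A (A ⧸ K)) := Ideal.Quotient.mk_surjective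
  have hkerD : RingHom.ker (algebraMap A (A ⧸ K)) = Ideal.span (Set.range t) := by
    rw [Ideal.Quotient.algebraMap_eq, Ideal.mk_ker]
  let qb : Ideal (A ⧸ K) := q.map (Ideal.Quotient.mk K)
  haveI hqb : qb.IsPrime := Ideal.map_isPrime_of_surjective Ideal.Quotient.mk_surjective
    (by rwa [Ideal.mk_ker])
  have hcomap : q = qb.comap (algebraMap A (A ⧸ K)) := by
    rw [Ideal.Quotient.algebraMap_eq, Ideal.comap_map_of_surjective _ Ideal.Quotient.mk_surjective,
      ← RingHom.ker_eq_comap_bot, Ideal.mk_ker, sup_eq_left.mpr hKq]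
  -- smoothness at `qb`
  have hsm : Algebra.IsSmoothAt B qb := by
    refine isSmoothAt_of_li (R := B) hmk qb q hcomap t hkerD ?_
    rw [← hft]
    exact hli
  -- unramifiedness at `qb`
  let ψ : A ⧸ K →+* q.ResidueField := Ideal.Quotient.lift K (algebraMap A q.ResidueField)
    (fun a ha => by
      rw [Ideal.algebraMap_residueField_eq_zero]
      exact hKq ha)
  letI : Algebra (A ⧸ K) q.ResidueField := ψ.toAlgebra
  haveI : IsScalarTower A (A ⧸ K) q.ResidueField :=
    IsScalarTower.of_algebraMap_eq (fun x => rfl)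
  have h2 := finrank_add_finrank_span (R := B) t q.ResidueField hmk hkerD
  have hspan2 : Submodule.span q.ResidueField
      (Set.range fun i => ((1 : q.ResidueField) ⊗ₜ[A] D B A (t i))) = ⊤ := by
    rw [← hft, hspan, htop]
  rw [hspan2, finrank_top] at h2
  have h3 : Module.finrank q.ResidueField (q.ResidueField ⊗[A ⧸ K] Ω[(A ⧸ K)⁄B]) = 0 := by
    omega
  have hkerL : RingHom.ker (algebraMap (A ⧸ K) q.ResidueField) = qb := by
    ext x
    obtain ⟨a, rfl⟩ := Ideal.Quotient.mk_surjective x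
    rw [RingHom.mem_ker]
    show algebraMap A q.ResidueField a = 0 ↔ _
    rw [Ideal.algebraMap_residueField_eq_zero]
    constructor
    · intro ha
      exact Ideal.mem_map_of_mem _ ha
    · intro ha
      have : a ∈ qb.comap (algebraMap A (A ⧸ K)) := ha
      rwa [← hcomap] at this
  have h4 := Groth.Agent.Lib.KaehlerGensH3.finrank_tensor_field_eq qb q.ResidueField hkerL
    Ω[(A ⧸ K)⁄B]
  rw [h3] at h4
  haveI : Algebra.FinitePresentation B (A ⧸ K) :=
    Algebra.FinitePresentation.quotient (Submodule.fg_span (Set.finite_range t))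
  have hunr : Algebra.IsUnramifiedAt B qb := by
    have hmem : (⟨qb, hqb⟩ : PrimeSpectrum (A ⧸ K)) ∈ Algebra.unramifiedLocus B (A ⧸ K) := by
      rw [Algebra.unramifiedLocus_eq_compl_support, Set.mem_compl_iff,
        Module.mem_support_iff_nontrivial_residueField_tensorProduct,
        not_nontrivial_iff_subsingleton]
      exact Module.finrank_zero_iff.mp h4.symm
    exact hmem
  haveI : Algebra.IsEtaleAt B qb :=
    Algebra.FormallyEtale.iff_formallyUnramified_and_formallySmooth.mpr ⟨hunr, hsm⟩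
  obtain ⟨hb, hhb, hEt⟩ := Algebra.exists_etale_of_isEtaleAt (R := B) qb
  obtain ⟨h, rfl⟩ := Ideal.Quotient.mk_surjective hb
  refine ⟨_, t, ht, h, fun hh => hhb (Ideal.mem_map_of_mem _ hh), hEt⟩

end Slice

section Scheme

open CategoryTheory CategoryTheory.Limits AlgebraicGeometry Opposite TopologicalSpace

variable {X Y Z : Scheme.{u}} (f : X ⟶ Y) [Smooth f] (i : Z ⟶ X) [IsClosedImmersion i]
  [IsClosedImmersion (i ≫ f)]

theorem main15303 (z : Z) :
    ∃ (U : X.Opens) (_ : i.base z ∈ U) (W : Scheme.{u}) (j : W ⟶ (U : Scheme.{u}))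
      (_ : IsClosedImmersion j) (_ : Etale (j ≫ U.ι ≫ f))
      (g : ((i ⁻¹ᵁ U : Z.Opens) : Scheme.{u}) ⟶ W), g ≫ j = i ∣_ U := by
  obtain ⟨_, ⟨V, hV : IsAffineOpen V, rfl⟩, hzV, -⟩ :=
    (Y.isBasis_affineOpens).exists_subset_of_mem_open (Set.mem_univ (f (i z))) isOpen_univ
  obtain ⟨_, ⟨U₀, hU₀ : IsAffineOpen U₀, rfl⟩, hzU₀, hUV⟩ :=
    (X.isBasis_affineOpens).exists_subset_of_mem_open (show i z ∈ f ⁻¹ᵁ V from hzV)
      (f ⁻¹ᵁ V).isOpen
  have hW₀ : IsAffineOpen (i ⁻¹ᵁ U₀) := hU₀.preimage i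
  letI : Algebra Γ(Y, V) Γ(X, U₀) := (f.appLE V U₀ hUV).hom.toAlgebra
  letI : Algebra Γ(X, U₀) Γ(Z, i ⁻¹ᵁ U₀) := (i.app U₀).hom.toAlgebra
  letI : Algebra Γ(Y, V) Γ(Z, i ⁻¹ᵁ U₀) := ((f.appLE V U₀ hUV) ≫ (i.app U₀)).hom.toAlgebra
  haveI : IsScalarTower Γ(Y, V) Γ(X, U₀) Γ(Z, i ⁻¹ᵁ U₀) :=
    IsScalarTower.of_algebraMap_eq (fun r => rfl)
  haveI : Algebra.Smooth Γ(Y, V) Γ(X, U₀) := f.smooth_appLE hV hU₀ hUV
  haveI : FormallyUnramified (i ≫ f) := inferInstance
  haveI : Algebra.FormallyUnramified Γ(Y, V) Γ(Z, i ⁻¹ᵁ U₀) := by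
    have hunr : ((f.appLE V U₀ hUV) ≫ (i.app U₀)).hom.FormallyUnramified := by
      have := (i ≫ f).formallyUnramified_appLE hV hW₀
        (show i ⁻¹ᵁ U₀ ≤ (i ≫ f) ⁻¹ᵁ V from fun a ha => hUV ha)
      rwa [← Scheme.Hom.appLE_comp_appLE i f V U₀ (i ⁻¹ᵁ U₀) hUV le_rfl,
        Scheme.Hom.appLE_eq_app] at this
    exact hunr
  have hsurj : Function.Surjective (algebraMap Γ(X, U₀) Γ(Z, i ⁻¹ᵁ U₀)) :=
    i.app_surjective U₀ hU₀
  set q : Ideal Γ(X, U₀) := (hU₀.primeIdealOf ⟨i z, hzU₀⟩).asIdeal with hq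
  have hkq : RingHom.ker (algebraMap Γ(X, U₀) Γ(Z, i ⁻¹ᵁ U₀)) ≤ q := by
    have h1 := IsAffineOpen.comap_primeIdealOf_appLE (f := i) (x := z) U₀ hU₀ (i ⁻¹ᵁ U₀) hW₀ le_rfl
      (show z ∈ i ⁻¹ᵁ U₀ from hzU₀)
    intro a ha
    rw [hq, ← h1]
    show (i.appLE U₀ (i ⁻¹ᵁ U₀) le_rfl).hom a ∈ (hW₀.primeIdealOf ⟨z, hzU₀⟩).asIdeal
    rw [Scheme.Hom.appLE_eq_app]
    have : (i.app U₀).hom a = 0 := ha
    rw [this]
    exact Ideal.zero_mem _
  obtain ⟨n, t, ht, h, hh, hEt⟩ := exists_slice (B := Γ(Y, V)) hsurj q hkq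
  set K : Ideal Γ(X, U₀) := Ideal.span (Set.range t) with hK
  set E := Localization.Away (Ideal.Quotient.mk K h) with hE
  have hU : IsAffineOpen (X.basicOpen h) := hU₀.basicOpen h
  have hW : IsAffineOpen (i ⁻¹ᵁ X.basicOpen h) := hU.preimage i
  haveI : IsLocalization.Away h Γ(X, X.basicOpen h) := hU₀.isLocalization_basicOpen h
  -- the ring maps
  let α : Γ(X, X.basicOpen h) →+* E :=
    IsLocalization.Away.map Γ(X, X.basicOpen h) E (Ideal.Quotient.mk K) h
  have hα : α.comp (algebraMap Γ(X, U₀) Γ(X, X.basicOpen h)) =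
      (algebraMap (Γ(X, U₀) ⧸ K) E).comp (Ideal.Quotient.mk K) :=
    IsLocalization.map_comp _
  have hαs : Function.Surjective α := by
    rw [IsLocalization.Away.map_surjective_iff]
    intro a
    obtain ⟨b, rfl⟩ := Ideal.Quotient.mk_surjective a
    exact ⟨b, 0, by rw [pow_zero, one_mul]⟩
  have hres : algebraMap Γ(X, U₀) Γ(X, X.basicOpen h) =
      (X.presheaf.map (homOfLE (X.basicOpen_le h)).op).hom := rfl
  have hαB : α.comp (f.appLE V (X.basicOpen h) ((X.basicOpen_le h).trans hUV)).hom =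
      algebraMap Γ(Y, V) E := by
    have h1 : (f.appLE V (X.basicOpen h) ((X.basicOpen_le h).trans hUV)).hom =
        (algebraMap Γ(X, U₀) Γ(X, X.basicOpen h)).comp (algebraMap Γ(Y, V) Γ(X, U₀)) := by
      rw [hres]
      show _ = (X.presheaf.map (homOfLE (X.basicOpen_le h)).op).hom.comp (f.appLE V U₀ hUV).hom
      rw [← CommRingCat.hom_comp, Scheme.Hom.appLE_map]
    rw [h1, ← RingHom.comp_assoc, hα]
    ext r
    show algebraMap (Γ(X, U₀) ⧸ K) E (Ideal.Quotient.mk K (algebraMap Γ(Y, V) Γ(X, U₀) r)) = _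
    have e1 : algebraMap Γ(Y, V) E r =
        algebraMap (Γ(X, U₀) ⧸ K) E (algebraMap Γ(Y, V) (Γ(X, U₀) ⧸ K) r) :=
      IsScalarTower.algebraMap_apply _ _ _ r
    have e2 : algebraMap Γ(Y, V) (Γ(X, U₀) ⧸ K) r =
        Ideal.Quotient.mk K (algebraMap Γ(Y, V) Γ(X, U₀) r) :=
      IsScalarTower.algebraMap_apply Γ(Y, V) Γ(X, U₀) (Γ(X, U₀) ⧸ K) r
    rw [e1, e2]
  -- the map on `Z`
  let ρ : Γ(X, U₀) →+* Γ(Z, i ⁻¹ᵁ X.basicOpen h) :=
    (i.app (X.basicOpen h)).hom.comp (algebraMap Γ(X, U₀) Γ(X, X.basicOpen h))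
  have hρK : ∀ a ∈ K, ρ a = 0 := by
    intro a ha
    have hle : K ≤ RingHom.ker ρ := by
      rw [hK, Ideal.span_le]
      rintro _ ⟨k, rfl⟩
      rw [SetLike.mem_coe, RingHom.mem_ker]
      show (i.app (X.basicOpen h)).hom ((X.presheaf.map (homOfLE (X.basicOpen_le h)).op).hom (t k))
        = 0
      rw [← CommRingCat.comp_apply, i.naturality, CommRingCat.comp_apply]
      have : (i.app U₀).hom (t k) = 0 := ht k
      rw [this, map_zero]
    exact hle ha
  let γ : Γ(X, U₀) ⧸ K →+* Γ(Z, i ⁻¹ᵁ X.basicOpen h) := Ideal.Quotient.lift K ρ hρK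
  have hγu : IsUnit (γ (Ideal.Quotient.mk K h)) := by
    show IsUnit ((i.app (X.basicOpen h)).hom (algebraMap Γ(X, U₀) Γ(X, X.basicOpen h) h))
    exact (IsLocalization.Away.algebraMap_isUnit h).map _
  let β : E →+* Γ(Z, i ⁻¹ᵁ X.basicOpen h) := IsLocalization.Away.lift (Ideal.Quotient.mk K h) hγu
  have hβ : β.comp (algebraMap (Γ(X, U₀) ⧸ K) E) = γ := IsLocalization.Away.lift_comp _ hγu
  have hβα : β.comp α = (i.app (X.basicOpen h)).hom := by
    apply IsLocalization.ringHom_ext (Submonoid.powers h)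
    rw [RingHom.comp_assoc, hα, ← RingHom.comp_assoc, hβ]
    ext a
    rfl
  refine ⟨X.basicOpen h, ?_, Spec (CommRingCat.of E),
    Spec.map (CommRingCat.ofHom α) ≫ hU.isoSpec.inv, ?_, ?_,
    hW.isoSpec.hom ≫ Spec.map (CommRingCat.ofHom β), ?_⟩
  · have h1 : hU₀.fromSpec (hU₀.primeIdealOf ⟨i z, hzU₀⟩) = i z :=
      hU₀.fromSpec_primeIdealOf ⟨i z, hzU₀⟩
    rw [← h1]
    show hU₀.primeIdealOf ⟨i z, hzU₀⟩ ∈ hU₀.fromSpec ⁻¹ᵁ X.basicOpen h
    rw [hU₀.fromSpec_preimage_basicOpen]
    exact hh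
  · haveI : IsClosedImmersion (Spec.map (CommRingCat.ofHom α)) :=
      IsClosedImmersion.spec_of_surjective _ hαs
    infer_instance
  · have heq : (Spec.map (CommRingCat.ofHom α) ≫ hU.isoSpec.inv) ≫ (X.basicOpen h).ι ≫ f =
        Spec.map (CommRingCat.ofHom (algebraMap Γ(Y, V) E)) ≫ hV.fromSpec := by
      rw [Category.assoc, ← Category.assoc hU.isoSpec.inv, hU.isoSpec_inv_ι,
        ← IsAffineOpen.SpecMap_appLE_fromSpec f hV hU ((X.basicOpen_le h).trans hUV),
        ← Category.assoc, ← Spec.map_comp, ← hαB]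
      rfl
    rw [heq]
    haveI : Etale (Spec.map (CommRingCat.ofHom (algebraMap Γ(Y, V) E))) := by
      rw [HasRingHomProperty.Spec_iff (P := @Etale)]
      exact RingHom.etale_algebraMap.mpr hEt
    infer_instance
  · rw [← cancel_mono (X.basicOpen h).ι, morphismRestrict_ι, Category.assoc, Category.assoc,
      Category.assoc, hU.isoSpec_inv_ι, ← Category.assoc (Spec.map _), ← Spec.map_comp,
      ← CommRingCat.ofHom_comp, hβα, CommRingCat.ofHom_hom, Scheme.Hom.app_eq_appLE,
      IsAffineOpen.SpecMap_appLE_fromSpec i hU hW le_rfl, hW.isoSpec_hom_fromSpec_assoc]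

end Scheme

end Groth.Agent.Lib.EtSliceH3
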