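import Mathlib
import Groth.Prelude.Def_EtBaseX
import Groth.Agent.Lib.StrictHens_helper7

/-!
# The étale local ring of a scheme at a geometric point is strictly henselian (helper7)
-/

set_option autoImplicit false
set_option backward.isDefEq.respectTransparency false
universe u
open CategoryTheory CategoryTheory.Limits AlgebraicGeometry Opposite
open Groth.Agent.Lib.StrictHens_helper7

namespace Groth.Agent.Lib.EtStalkHensSch_helper7

variable {X : Scheme.{u}} {Ω : Type u} [Field Ω] [IsSepClosed Ω]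
  (ξ : Spec (CommRingCat.of Ω) ⟶ X)

/-- Evaluation of functions at a lift of the geometric point. -/
noncomputable def evHom (U : X.Etale) (l : (Scheme.pointSmallEtale ξ).fiber.obj U) :
    (EtBase.OO X).obj (op U) ⟶ CommRingCat.of Ω :=
  (CommRingCat.ofHom (ev (K := Ω) (U := U.left) l.left) :
    CommRingCat.of Γ(U.left, ⊤) ⟶ CommRingCat.of Ω)

theorem evHom_w {U U' : X.Etale} (g : U ⟶ U') (l : (Scheme.pointSmallEtale ξ).fiber.obj U) :
    (EtBase.OO X).map g.op ≫ evHom ξ U l =
      evHom ξ U' ((Scheme.pointSmallEtale ξ).fiber.map g l) := by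
  ext s
  rfl

/-- The value at the point of a germ. -/
noncomputable def stalkEv : ↥(EtBase.etaleLocalRing ξ) →+* Ω :=
  ((Scheme.pointSmallEtale ξ).presheafFiberDesc (P := EtBase.OO X) (evHom ξ)
    (fun _ _ g l => evHom_w ξ g l)).hom

/-- The germ of a function on an étale neighbourhood. -/
noncomputable def germ (U : X.Etale) (l : (Scheme.pointSmallEtale ξ).fiber.obj U) :
    Γ(U.left, ⊤) →+* ↥(EtBase.etaleLocalRing ξ) :=
  ((Scheme.pointSmallEtale ξ).toPresheafFiber U l (EtBase.OO X)).hom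

theorem stalkEv_germ (U : X.Etale) (l : (Scheme.pointSmallEtale ξ).fiber.obj U)
    (f : Γ(U.left, ⊤)) : stalkEv ξ (germ ξ U l f) = ev (K := Ω) (U := U.left) l.left f :=
  congrArg (fun m => m.hom f)
    ((Scheme.pointSmallEtale ξ).toPresheafFiber_presheafFiberDesc (P := EtBase.OO X) (evHom ξ)
      (fun _ _ g l => evHom_w ξ g l) U l)

theorem germ_map {U U' : X.Etale} (g : U ⟶ U') (l : (Scheme.pointSmallEtale ξ).fiber.obj U)
    (f : Γ(U'.left, ⊤)) :
    germ ξ U l (g.left.appTop.hom f) =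
      germ ξ U' ((Scheme.pointSmallEtale ξ).fiber.map g l) f :=
  (Scheme.pointSmallEtale ξ).toPresheafFiber_w_apply g l (EtBase.OO X) f

theorem germ_elem {k i : (Scheme.pointSmallEtale ξ).fiber.Elements} (m : k ⟶ i)
    (f : Γ(i.1.left, ⊤)) :
    germ ξ k.1 k.2 (m.1.left.appTop.hom f) = germ ξ i.1 i.2 f := by
  rw [germ_map]
  have h2 : (Scheme.pointSmallEtale ξ).fiber.map m.1 k.2 = i.2 := m.2
  rw [h2]

theorem exists_common (s : Finset ↥(EtBase.etaleLocalRing ξ)) :
    ∃ i : (Scheme.pointSmallEtale ξ).fiber.Elements,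
      (↑s : Set ↥(EtBase.etaleLocalRing ξ)) ⊆ Set.range (germ ξ i.1 i.2) := by
  classical
  haveI := (Scheme.pointSmallEtale ξ).isCofiltered
  induction s using Finset.induction_on with
  | empty =>
    obtain ⟨i⟩ := IsCofiltered.nonempty (C := (Scheme.pointSmallEtale ξ).fiber.Elements)
    exact ⟨i, by simp⟩
  | insert a s _ ih =>
    obtain ⟨i, hi⟩ := ih
    obtain ⟨E, l, z, hz⟩ :=
      (Scheme.pointSmallEtale ξ).toPresheafFiber_jointly_surjective (P := EtBase.OO X) a
    obtain ⟨i', hi'⟩ : ∃ i' : (Scheme.pointSmallEtale ξ).fiber.Elements, i' = ⟨E, l⟩ :=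
      ⟨_, rfl⟩
    refine ⟨IsCofiltered.min i i', ?_⟩
    intro r hr
    rw [Finset.coe_insert, Set.mem_insert_iff] at hr
    rcases hr with hr | hr
    · refine ⟨(IsCofiltered.minToRight i i').1.left.appTop.hom
        (by rw [hi']; exact z), ?_⟩
      rw [germ_elem ξ (IsCofiltered.minToRight i i'), hr, ← hz]
      subst hi'
      rfl
    · obtain ⟨f, rfl⟩ := hi hr
      exact ⟨(IsCofiltered.minToLeft i i').1.left.appTop.hom f,
        germ_elem ξ (IsCofiltered.minToLeft i i') f⟩

theorem isStrictlyHenselian_etaleLocalRing :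
    IsLocalRing ↥(EtBase.etaleLocalRing ξ) ∧
      EtCoh.IsStrictlyHenselianLocalRing ↥(EtBase.etaleLocalRing ξ) := by
  refine isStrictlyHenselian_of_germs (K := Ω) (stalkEv ξ)
    (ι := (Scheme.pointSmallEtale ξ).fiber.Elements)
    (fun i => i.1.left) (fun i => i.2.left) (fun i => germ ξ i.1 i.2)
    (fun i f => stalkEv_germ ξ i.1 i.2 f) (exists_common ξ) ?_
  intro i V g hg ξ' hξ'
  obtain ⟨U, l⟩ := i
  haveI := hg
  haveI : Etale (g ≫ U.hom) := inferInstance
  let U' : X.Etale := Scheme.Etale.mk (g ≫ U.hom)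
  let m : U' ⟶ U := MorphismProperty.Over.homMk g rfl trivial
  have hw : ξ' ≫ (g ≫ U.hom) = ξ := by
    rw [← Category.assoc, hξ']
    exact Over.w l
  let l' : (Scheme.pointSmallEtale ξ).fiber.obj U' := Over.homMk ξ' hw
  have hml : (Scheme.pointSmallEtale ξ).fiber.map m l' = l := by
    apply Over.OverMorphism.ext
    exact hξ'
  refine ⟨⟨U', l'⟩, 𝟙 V, Category.comp_id _, fun f => ?_⟩
  have e : (𝟙 V ≫ g) = g := Category.id_comp g
  have h3 := germ_map ξ m l' f
  rw [hml] at h3
  show germ ξ U' l' ((𝟙 V ≫ g).appTop.hom f) = germ ξ U l f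
  rw [e]
  exact h3

end Groth.Agent.Lib.EtStalkHensSch_helper7
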