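import Mathlib
import Groth.Agent.Lib.EtStalkSupp_helper7
import Groth.Agent.Lib.StrictHens_helper7
import Groth.Agent.Lib.IdealEtB_helper7

/-!
# The étale local ring of an algebraic space at a geometric point is strictly henselian (helper7)
-/

set_option autoImplicit false
set_option backward.isDefEq.respectTransparency false
universe u
open CategoryTheory CategoryTheory.Limits AlgebraicGeometry Opposite
open AlgSp Groth.Agent.Lib.AlgSpPoints_helper7 Groth.Agent.Lib.EtNbhd_helper7
  Groth.Agent.Lib.EtStalkPt_helper7 Groth.Agent.Lib.EtStalkSupp_helper7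
  Groth.Agent.Lib.StrictHens_helper7

namespace Groth.Agent.Lib.EtStalkHens_helper7

variable {S : Scheme.{u}} {X : Sp S}

/-- Evaluation of functions at a lift of a field-valued point. -/
noncomputable def evHom (p : FieldPt X) (E : EtOver X) (l : (FieldPt.liftsTo p).obj E) :
    (OEt X).obj.obj (op E) ⟶ CommRingCat.of (ULift.{u+1} p.K) :=
  (CommRingCat.ofHom
    (((ULift.ringEquiv.symm : p.K ≃+* ULift.{u+1} p.K) : p.K →+* ULift.{u+1} p.K).comp
      ((ev (K := p.K) l.1.left).comp
        ((ULift.ringEquiv : ULift.{u+1} Γ(E.obj.left.left, ⊤) ≃+* Γ(E.obj.left.left, ⊤)) :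
          ULift.{u+1} Γ(E.obj.left.left, ⊤) →+* Γ(E.obj.left.left, ⊤)))) :
    CommRingCat.of (ULift.{u+1} Γ(E.obj.left.left, ⊤)) ⟶ CommRingCat.of (ULift.{u+1} p.K))

theorem evHom_w (p : FieldPt X) {E E' : EtOver X} (g : E ⟶ E')
    (l : (FieldPt.liftsTo p).obj E) :
    (OEt X).obj.map g.op ≫ evHom p E l = evHom p E' ((FieldPt.liftsTo p).map g l) := by
  ext s
  rfl

variable (hX : IsAlgSpace X) (p : FieldPt X) [IsSepClosed p.K]

/-- The value at the point of a germ. -/
noncomputable def stalkEv : ↥(OEtStalk p) →+* p.K :=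
  ((ULift.ringEquiv : ULift.{u+1} p.K ≃+* p.K) : ULift.{u+1} p.K →+* p.K).comp
    (show ↥(OEtStalk p) →+* ULift.{u+1} p.K from
      ((point hX p).presheafFiberDesc (P := (OEt X).obj) (evHom p)
        (fun _ _ g l => evHom_w p g l)).hom)

/-- The germ of a function on an étale neighbourhood. -/
noncomputable def germ (E : EtOver X) (l : (FieldPt.liftsTo p).obj E) :
    Γ(E.obj.left.left, ⊤) →+* ↥(OEtStalk p) :=
  (show ULift.{u+1} Γ(E.obj.left.left, ⊤) →+* ↥(OEtStalk p) from
    ((point hX p).toPresheafFiber E l (OEt X).obj).hom).comp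
    ((ULift.ringEquiv.symm : Γ(E.obj.left.left, ⊤) ≃+* ULift.{u+1} Γ(E.obj.left.left, ⊤)) :
      Γ(E.obj.left.left, ⊤) →+* ULift.{u+1} Γ(E.obj.left.left, ⊤))

theorem germ_apply (E : EtOver X) (l : (FieldPt.liftsTo p).obj E) (f : Γ(E.obj.left.left, ⊤)) :
    germ hX p E l f = (point hX p).toPresheafFiber E l (OEt X).obj (ULift.up f) := rfl

theorem stalkEv_germ (E : EtOver X) (l : (FieldPt.liftsTo p).obj E)
    (f : Γ(E.obj.left.left, ⊤)) : stalkEv hX p (germ hX p E l f) = ev (K := p.K) l.1.left f := by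
  have h := congrArg (fun m => m.hom (ULift.up f))
    ((point hX p).toPresheafFiber_presheafFiberDesc (P := (OEt X).obj) (evHom p)
      (fun _ _ g l => evHom_w p g l) E l)
  exact congrArg ULift.down h

theorem germ_map {E E' : EtOver X} (g : E ⟶ E') (l : (FieldPt.liftsTo p).obj E)
    (f : Γ(E'.obj.left.left, ⊤)) :
    germ hX p E l (g.hom.left.left.appTop.hom f) =
      germ hX p E' ((FieldPt.liftsTo p).map g l) f :=
  (point hX p).toPresheafFiber_w_apply g l (OEt X).obj (ULift.up f)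

theorem germ_elem {k i : EtNbhd p} (m : k ⟶ i) (f : Γ(i.1.obj.left.left, ⊤)) :
    germ hX p k.1 k.2 (m.1.hom.left.left.appTop.hom f) = germ hX p i.1 i.2 f := by
  rw [germ_map]
  have h2 : (FieldPt.liftsTo p).map m.1 k.2 = i.2 := m.2
  rw [h2]

theorem exists_common (s : Finset ↥(OEtStalk p)) :
    ∃ i : EtNbhd p, (↑s : Set ↥(OEtStalk p)) ⊆ Set.range (germ hX p i.1 i.2) := by
  classical
  haveI := isCofiltered_etNbhd hX p
  induction s using Finset.induction_on with
  | empty =>
    obtain ⟨i⟩ := nonempty_etNbhd hX p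
    exact ⟨i, by simp⟩
  | insert a s _ ih =>
    obtain ⟨i, hi⟩ := ih
    obtain ⟨E, l, z, hz⟩ :=
      (point hX p).toPresheafFiber_jointly_surjective (P := (OEt X).obj) a
    obtain ⟨i', hi'⟩ : ∃ i' : EtNbhd p, i' = ⟨E, l⟩ := ⟨_, rfl⟩
    refine ⟨IsCofiltered.min i i', ?_⟩
    intro r hr
    rw [Finset.coe_insert, Set.mem_insert_iff] at hr
    rcases hr with hr | hr
    · refine ⟨(IsCofiltered.minToRight i i').1.hom.left.left.appTop.hom
        (by rw [hi']; exact z.down), ?_⟩
      rw [germ_elem hX p (IsCofiltered.minToRight i i'), hr, ← hz]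
      subst hi'
      rfl
    · obtain ⟨f, rfl⟩ := hi hr
      exact ⟨(IsCofiltered.minToLeft i i').1.hom.left.left.appTop.hom f,
        germ_elem hX p (IsCofiltered.minToLeft i i') f⟩

include hX in
theorem isStrictlyHenselian_OEtStalk :
    IsLocalRing ↥(OEtStalk p) ∧ EtCoh.IsStrictlyHenselianLocalRing ↥(OEtStalk p) := by
  refine isStrictlyHenselian_of_germs (K := p.K) (stalkEv hX p) (ι := EtNbhd p)
    (fun i => i.1.obj.left.left) (fun i => i.2.1.left) (fun i => germ hX p i.1 i.2)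
    (fun i f => stalkEv_germ hX p i.1 i.2 f) (exists_common hX p) ?_
  intro i V g hg ξ' hξ'
  obtain ⟨E, l⟩ := i
  haveI := hg
  let W : Over S := Over.mk (g ≫ E.obj.left.hom)
  let gO : W ⟶ E.obj.left := Over.homMk g rfl
  have hb : RepWith @Etale ((yon S).map gO ≫ E.obj.hom) :=
    (repWith_isMultiplicative (S := S) @Etale).comp_mem _ _
      ((repWith_yon_map_iff _ _).2 (show Etale gO.left from hg)) E.property
  let E' : EtOver X := EtOver.mk ((yon S).map gO ≫ E.obj.hom) hb
  let m : E' ⟶ E := EtOver.homMk gO rfl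
  have hw : ξ' ≫ W.hom = p.pt.hom := by
    show ξ' ≫ g ≫ E.obj.left.hom = _
    rw [← Category.assoc, hξ']
    exact Over.w l.1
  let u' : p.pt ⟶ W := Over.homMk ξ' hw
  have hu' : u' ≫ gO = l.1 := by
    ext
    exact hξ'
  let l' : (FieldPt.liftsTo p).obj E' := ⟨u', by
    show (yon S).map u' ≫ (yon S).map gO ≫ E.obj.hom = p.toHom
    rw [← Category.assoc, ← Functor.map_comp, hu']
    exact l.2⟩
  have hml : (FieldPt.liftsTo p).map m l' = l := Subtype.ext hu'
  refine ⟨⟨E', l'⟩, 𝟙 V, Category.comp_id _, fun f => ?_⟩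
  have e : (𝟙 V ≫ g) = g := Category.id_comp g
  have h3 := germ_map hX p m l' f
  rw [hml] at h3
  show germ hX p E' l' ((𝟙 V ≫ g).appTop.hom f) = germ hX p E l f
  rw [e]
  exact h3

end Groth.Agent.Lib.EtStalkHens_helper7
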