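import Mathlib
import Groth.Agent.Lib.EtStalkSupp_helper7

/-!
# Supports of sheaves on the small étale site of an algebraic space (helper7)
-/

set_option autoImplicit false
set_option backward.isDefEq.respectTransparency false
universe u
open CategoryTheory CategoryTheory.Limits AlgebraicGeometry Opposite
open AlgSp Groth.Agent.Lib.AlgSpPoints_helper7 Groth.Agent.Lib.EtNbhd_helper7
  Groth.Agent.Lib.EtStalkPt_helper7 Groth.Agent.Lib.EtStalkSupp_helper7

namespace Groth.Agent.Lib.EtStalkSupp2_helper7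

variable {S : Scheme.{u}} {X : Sp S}

theorem isClosed_support_ring (hX : IsAlgSpace X) (O' : EtSh X CommRingCat.{u+1}) :
    IsClosed {x : Points X | ∃ p : FieldPt X, p.IsGeometric ∧ Points.mk p = x ∧
      Nontrivial ↥(stalkEt p O')} := by
  rw [← isOpen_compl_iff, isOpen_iff_forall_mem_open]
  intro x hx
  obtain ⟨T, a, hae, has⟩ := hX.atlas
  obtain ⟨t, rfl⟩ := ofPt_surjective a has x
  obtain ⟨p, hp, ū, hū⟩ := exists_geometric_lift (EtOver.mk a hae) t
  haveI := hp
  have hpx : Points.mk p = Points.ofPt a t := by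
    rw [← hū]; exact (ofPt_lift p _ ū).symm
  have htriv : ¬ Nontrivial ↥(stalkEt p O') := fun hn => hx ⟨p, hp, hpx, hn⟩
  rw [not_nontrivial_iff_subsingleton] at htriv
  have h10 : (point hX p).toPresheafFiber _ ū O'.obj
      (1 : ↥(O'.obj.obj (op (EtOver.mk a hae)))) =
      (point hX p).toPresheafFiber _ ū O'.obj 0 := htriv.elim _ _
  obtain ⟨V, g, y, hy, heq⟩ := ((point hX p).toPresheafFiber_eq_iff' _ ū _ _).1 h10
  rw [map_one, map_zero] at heq
  refine ⟨Set.range (Points.ofPt V.obj.hom), ?_, ?_, ?_⟩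
  · rintro _ ⟨v, rfl⟩ ⟨p', hp', hp'x, hn⟩
    haveI : IsAlgClosed p'.K := hp'
    obtain ⟨l, -⟩ := exists_lift_of_ofPt_eq p' V v hp'x.symm
    have h : (1 : ↥(stalkEt p' O')) = 0 := by
      calc (1 : ↥(stalkEt p' O')) = (point hX p').toPresheafFiber V l O'.obj 1 :=
            (map_one _).symm
        _ = (point hX p').toPresheafFiber V l O'.obj 0 := by rw [heq]
        _ = 0 := map_zero _
    exact one_ne_zero h
  · exact (isOpenMap_ofPt_of_etale V.obj.hom V.property).isOpen_range
  · refine ⟨y.1.left (default : ↥(Spec (CommRingCat.of p.K))), ?_⟩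
    rw [ofPt_lift p V y]; exact hpx

end Groth.Agent.Lib.EtStalkSupp2_helper7
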