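import Mathlib
import Groth.Prelude.Def_SGA4b
import Groth.Prelude.Def_EtOpen
import Groth.Agent.Lib.EtSchSite_helper7
import Groth.Agent.Lib.EtSchSubTerm_helper7

/-! # Opens of a scheme and subterminal objects of its small etale topos (lead) -/

set_option autoImplicit false
set_option linter.unusedSimpArgs false
set_option linter.unusedVariables false
set_option linter.unusedSectionVars false
set_option linter.style.longLine false
set_option linter.unnecessarySimpa false
set_option maxHeartbeats 1600000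
set_option backward.isDefEq.respectTransparency false
set_option backward.isDefEq.respectTransparency.types false
set_option backward.defeqAttrib.useBackward true

universe u

open CategoryTheory CategoryTheory.Limits AlgebraicGeometry Opposite

namespace Groth.Agent.Lib.EtSubTerm

open Groth.Agent.Lib.EtSchSite_helper7 Groth.Agent.Lib.EtSchSubTerm_helper7

variable {X : Scheme.{u}}

theorem exists_mem_of_mem {V : X.Etale} {R : Sieve V} (hR : R ∈ X.smallEtaleTopology V)
    (x : V.left) : ∃ (Y : X.Etale) (g : Y ⟶ V), R g ∧ x ∈ Set.range g.left := by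
  have eX : X.smallEtaleTopology =
      (X.smallPretopology (P := EtCoh.etaleMP) (Q := EtCoh.etaleMP)).toGrothendieck :=
    Scheme.smallGrothendieckTopology_eq_toGrothendieck_smallPretopology X le_rfl
  rw [eX] at hR
  obtain ⟨Y, g, v, hg, -, hv⟩ := (Scheme.mem_toGrothendieck_smallPretopology V R).1 hR x
  exact ⟨Y, g, hg, ⟨v, hv⟩⟩

instance subsingleton_P (W : X.Opens) (Y : X.Etaleᵒᵖ) : Subsingleton
    ((yoneda.obj (EtDesc.ofOpen W) ⋙ uliftFunctor.{u + 1, u}).obj Y) := by
  haveI := subsingleton_hom Y.unop W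
  exact ⟨fun a b => ULift.ext _ _ (Subsingleton.elim _ _)⟩

theorem isSheaf_P (W : X.Opens) : Presheaf.IsSheaf X.smallEtaleTopology
    (yoneda.obj (EtDesc.ofOpen W) ⋙ uliftFunctor.{u + 1, u}) := by
  rw [isSheaf_iff_isSheaf_of_type]
  intro V R hR x hx
  have hsub : Set.range V.hom ⊆ (W : Set X) := by
    rintro _ ⟨v, rfl⟩
    obtain ⟨Y, g, hg, y, hy⟩ := exists_mem_of_mem hR v
    have h1 : Nonempty (Y ⟶ Scheme.Etale.mk W.ι) := ⟨(x g hg).down⟩
    have h2 := (nonempty_hom_iff Y W).1 h1
    have h3 : V.hom (g.left y) = Y.hom y :=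
      congrArg (fun (m : Y.left ⟶ X) => m y) (MorphismProperty.Over.w g)
    rw [← hy, h3]
    exact h2 ⟨y, rfl⟩
  obtain ⟨t⟩ := (nonempty_hom_iff V W).2 hsub
  exact ⟨ULift.up t, fun Y g hg => Subsingleton.elim _ _, fun t' _ => Subsingleton.elim _ _⟩

/-- The representable sheaf of an open. -/
noncomputable def shW (W : X.Opens) : EtDesc.Sh X :=
  ⟨yoneda.obj (EtDesc.ofOpen W) ⋙ uliftFunctor.{u + 1, u}, isSheaf_P W⟩

noncomputable def repIso (W : X.Opens) : EtDesc.repSh (EtDesc.ofOpen W) ≅ shW W :=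
  asIso ((sheafificationAdjunction X.smallEtaleTopology (Type (u + 1))).counit.app (shW W))

/-- The presheaf morphism attached to a section. -/
noncomputable def preHom (F : EtDesc.Sh X) {V : X.Etale} (s : F.obj.obj (op V)) :
    (yoneda.obj V ⋙ uliftFunctor.{u + 1, u}) ⟶ F.obj where
  app Y := ↾fun g => F.obj.map g.down.op s
  naturality Y Y' k := by
    ext g
    show F.obj.map (k.unop ≫ g.down).op s = F.obj.map k (F.obj.map g.down.op s)
    rw [op_comp, FunctorToTypes.map_comp_apply]
    rfl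

noncomputable def homOfSec (F : EtDesc.Sh X) {V : X.Etale} (s : F.obj.obj (op V)) :
    EtDesc.repSh V ⟶ F :=
  ((sheafificationAdjunction X.smallEtaleTopology (Type (u + 1))).homEquiv _ F).symm (preHom F s)

noncomputable def secOfHom (F : EtDesc.Sh X) {V : X.Etale} (a : EtDesc.repSh V ⟶ F) :
    F.obj.obj (op V) :=
  (((sheafificationAdjunction X.smallEtaleTopology (Type (u + 1))).homEquiv
    (yoneda.obj V ⋙ uliftFunctor.{u + 1, u}) F) a).app (op V) (ULift.up (𝟙 V))

theorem secOfHom_homOfSec (F : EtDesc.Sh X) {V : X.Etale} (s : F.obj.obj (op V)) :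
    secOfHom F (homOfSec F s) = s := by
  unfold secOfHom homOfSec
  rw [Equiv.apply_symm_apply]
  show F.obj.map (𝟙 V).op s = s
  rw [op_id, FunctorToTypes.map_id_apply]

theorem subsingleton_of_mono (F : EtDesc.Sh X) (hF : Mono (terminal.from F)) (V : X.Etale) :
    Subsingleton (F.obj.obj (op V)) := by
  refine ⟨fun s s' => ?_⟩
  have h : homOfSec F s = homOfSec F s' := by
    rw [← cancel_mono (terminal.from F)]
    exact Subsingleton.elim _ _
  have := congrArg (secOfHom F) h
  rwa [secOfHom_homOfSec, secOfHom_homOfSec] at this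

theorem mono_of_subsingleton (F : EtDesc.Sh X)
    (h : ∀ V : X.Etale, Subsingleton (F.obj.obj (op V))) : Mono (terminal.from F) := by
  refine ⟨fun {G} a b _ => ?_⟩
  apply Sheaf.hom_ext
  apply NatTrans.ext
  funext V
  ext s
  haveI := h V.unop
  exact Subsingleton.elim _ _

theorem mono_rep (W : X.Opens) : Mono (terminal.from (EtDesc.repSh (EtDesc.ofOpen W))) := by
  haveI : Mono (terminal.from (shW W)) := mono_of_subsingleton (shW W) (fun V => by
    show Subsingleton ((yoneda.obj (EtDesc.ofOpen W) ⋙ uliftFunctor.{u + 1, u}).obj (op V))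
    infer_instance)
  have e : terminal.from (EtDesc.repSh (EtDesc.ofOpen W)) =
      (repIso W).hom ≫ terminal.from (shW W) := Subsingleton.elim _ _
  rw [e]
  infer_instance

theorem le_iff (U V : X.Opens) :
    U ≤ V ↔ Nonempty (EtDesc.repSh (EtDesc.ofOpen U) ⟶ EtDesc.repSh (EtDesc.ofOpen V)) := by
  constructor
  · intro h
    have h1 : Set.range (EtDesc.ofOpen U).hom ⊆ (V : Set X) := by
      rw [range_mk_ι]
      exact h
    obtain ⟨k⟩ := (nonempty_hom_iff (EtDesc.ofOpen U) V).2 h1
    exact ⟨(presheafToSheaf X.smallEtaleTopology (Type (u + 1))).map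
      (Functor.whiskerRight (yoneda.map k) uliftFunctor.{u + 1, u})⟩
  · rintro ⟨a⟩
    have s : ULift.{u + 1} (EtDesc.ofOpen U ⟶ EtDesc.ofOpen V) :=
      secOfHom (shW V) (a ≫ (repIso V).hom)
    have h1 := (nonempty_hom_iff (EtDesc.ofOpen U) V).1 ⟨s.down⟩
    rw [range_mk_ι] at h1
    exact h1

theorem exists_open (F : EtDesc.Sh X) (hF : Mono (terminal.from F)) :
    ∃ U : X.Opens, Nonempty (F ≅ EtDesc.repSh (EtDesc.ofOpen U)) := by
  have hsub : ∀ V : X.Etale, Subsingleton (F.obj.obj (op V)) := subsingleton_of_mono F hF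
  let Wset : Set X := {x | ∃ U : X.Etale, Nonempty (F.obj.obj (op U)) ∧ x ∈ Set.range U.hom}
  have hW : IsOpen Wset := by
    rw [isOpen_iff_forall_mem_open]
    rintro x ⟨U, hU, hx⟩
    exact ⟨Set.range U.hom, fun y hy => ⟨U, hU, hy⟩, U.hom.isOpenMap.isOpen_range, hx⟩
  have hWF : ∀ U : X.Etale, Nonempty (F.obj.obj (op U)) ↔ Set.range U.hom ⊆ Wset := by
    intro U
    constructor
    · intro hU x hx
      exact ⟨U, hU, hx⟩
    · intro hsubs
      let R : Sieve U :=
        { arrows := fun Y _ => Nonempty (F.obj.obj (op Y))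
          downward_closed := by
            rintro Y Z g ⟨s⟩ k
            exact ⟨F.obj.map k.op s⟩ }
      have hR : R ∈ X.smallEtaleTopology U := by
        apply sieve_mem_of_forall_exists
        intro x
        obtain ⟨U', ⟨s'⟩, x', hx'⟩ := hsubs ⟨x, rfl⟩
        obtain ⟨P, a, b, z, -, hz1, -⟩ := exists_prod (toTop U) (toTop U') x x' hx'.symm
        exact ⟨P, a, ⟨F.obj.map b.op s'⟩, ⟨z, hz1⟩⟩
      have hsh : Presieve.IsSheaf X.smallEtaleTopology F.obj :=
        (isSheaf_iff_isSheaf_of_type _ _).1 F.2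
      let x : Presieve.FamilyOfElements F.obj R.arrows := fun Y g hg => hg.some
      have hx : x.Compatible := by
        intro Y₁ Y₂ Z g₁ g₂ f₁ f₂ h₁ h₂ _
        haveI := hsub Z
        exact Subsingleton.elim _ _
      exact ⟨(hsh R hR).amalgamate x hx⟩
  obtain ⟨W, hWdef⟩ : ∃ W : X.Opens, (W : Set X) = Wset := ⟨⟨Wset, hW⟩, rfl⟩
  have hWF' : ∀ U : X.Etale, Nonempty (F.obj.obj (op U)) ↔ Set.range U.hom ⊆ (W : Set X) :=
    fun U => by
      rw [hWdef]
      exact hWF U
  have h1 : ∀ U : X.Etale, Nonempty (F.obj.obj (op U)) ↔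
      Nonempty (U ⟶ Scheme.Etale.mk W.ι) :=
    fun U => (hWF' U).trans (nonempty_hom_iff U W).symm
  have e : F.obj ≅ (shW W).obj := by
    refine NatIso.ofComponents (fun U =>
      { hom := ↾fun s => ULift.up ((h1 U.unop).1 ⟨s⟩).some
        inv := ↾fun g => ((h1 U.unop).2 ⟨g.down⟩).some
        hom_inv_id := by
          haveI := hsub U.unop
          ext s
          exact Subsingleton.elim _ _
        inv_hom_id := by
          ext g
          exact Subsingleton.elim (α := (yoneda.obj (EtDesc.ofOpen W) ⋙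
            uliftFunctor.{u + 1, u}).obj U) _ _ }) ?_
    intro U V f
    ext s
    exact Subsingleton.elim (α := (yoneda.obj (EtDesc.ofOpen W) ⋙
      uliftFunctor.{u + 1, u}).obj V) _ _
  have e' : (sheafToPresheaf X.smallEtaleTopology (Type (u + 1))).obj F ≅
      (sheafToPresheaf X.smallEtaleTopology (Type (u + 1))).obj (shW W) := e
  exact ⟨W, ⟨(fullyFaithfulSheafToPresheaf _ _).preimageIso e' ≪≫ (repIso W).symm⟩⟩

theorem main (X : Scheme.{u}) :
    (∀ U : X.Opens, Mono (terminal.from (EtDesc.repSh (EtDesc.ofOpen U)))) ∧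
    (∀ U V : X.Opens, U ≤ V ↔
      Nonempty (EtDesc.repSh (EtDesc.ofOpen U) ⟶ EtDesc.repSh (EtDesc.ofOpen V))) ∧
    (∀ F : EtDesc.Sh X, Mono (terminal.from F) →
      ∃ U : X.Opens, Nonempty (F ≅ EtDesc.repSh (EtDesc.ofOpen U))) :=
  ⟨mono_rep, le_iff, exists_open⟩

end Groth.Agent.Lib.EtSubTerm
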