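import Mathlib
import Groth.Agent.Lib.GeomIrr1_lead

/-!
# Tensor products over a separably closed field (helper7)

For `k` separably closed, `Ω` algebraically closed and `K` any field extension of `k`,
the spectrum of `Ω ⊗[k] K` is irreducible (its nilradical is prime).
-/

set_option autoImplicit false
set_option linter.style.haveILetI false
set_option linter.unusedSectionVars false
universe u
open TensorProduct

namespace Groth.Agent.Lib.SepClosedTensorH7

/-- If `j : R → R'` is injective and `π : R' → D` maps to a domain with a kernel made of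
nilpotents, then the nilradical of `R` is prime. -/
theorem isPrime_nilradical_of_injective {R R' D : Type*} [CommRing R] [CommRing R'] [CommRing D]
    [IsDomain D] (j : R →+* R') (hj : Function.Injective j) (π : R' →+* D)
    (hπ : ∀ x, π x = 0 → IsNilpotent x) : (nilradical R).IsPrime := by
  haveI hP : (RingHom.ker (π.comp j)).IsPrime := RingHom.ker_isPrime _
  have hker : nilradical R = RingHom.ker (π.comp j) := by
    refine le_antisymm (nilradical_le_prime _) (fun x hx => ?_)
    have h1 : π (j x) = 0 := hx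
    have h2 : IsNilpotent (j x) := hπ _ h1
    exact mem_nilradical.2 ((IsNilpotent.map_iff hj).1 h2)
  rw [hker]
  exact hP

/-- For a purely inseparable extension `E / k`, the kernel of `A ⊗[k] B → A ⊗[E] B` consists of
nilpotent elements. -/
theorem isNilpotent_of_map_eq_zero
    {k E A B : Type*} [Field k] [Field E] [Algebra k E] [IsPurelyInseparable k E]
    [CommRing A] [CommRing B] [Algebra k A] [Algebra k B] [Algebra E A] [Algebra E B]
    [IsScalarTower k E A] [IsScalarTower k E B]
    (x : A ⊗[k] B) (hx : Algebra.TensorProduct.mapOfCompatibleSMul E k k A B x = 0) :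
    IsNilpotent x := by
  rw [← mem_nilradical, nilradical_eq_sInf, Ideal.mem_sInf]
  intro 𝔭 h𝔭
  haveI : 𝔭.IsPrime := h𝔭
  let q : A ⊗[k] B →+* (A ⊗[k] B) ⧸ 𝔭 := Ideal.Quotient.mk 𝔭
  let v : E →+* (A ⊗[k] B) ⧸ 𝔭 :=
    q.comp ((Algebra.TensorProduct.includeRight : B →ₐ[k] A ⊗[k] B).toRingHom.comp
      (algebraMap E B))
  have huv : algebraMap E ((A ⊗[k] B) ⧸ 𝔭) = v := by
    apply IsPurelyInseparable.injective_comp_algebraMap k E ((A ⊗[k] B) ⧸ 𝔭)
    ext c
    show q ((algebraMap E A (algebraMap k E c)) ⊗ₜ[k] (1 : B)) =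
      q ((1 : A) ⊗ₜ[k] (algebraMap E B (algebraMap k E c)))
    congr 1
    rw [← IsScalarTower.algebraMap_apply k E A, ← IsScalarTower.algebraMap_apply k E B,
      Algebra.algebraMap_eq_smul_one, Algebra.algebraMap_eq_smul_one, TensorProduct.smul_tmul]
  let f : A →ₐ[E] (A ⊗[k] B) ⧸ 𝔭 :=
    (Ideal.Quotient.mkₐ E 𝔭).comp (Algebra.TensorProduct.includeLeft : A →ₐ[E] A ⊗[k] B)
  let g : B →ₐ[E] (A ⊗[k] B) ⧸ 𝔭 :=
    { q.comp (Algebra.TensorProduct.includeRight : B →ₐ[k] A ⊗[k] B).toRingHom with
      commutes' := fun e => (RingHom.congr_fun huv e).symm }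
  have key : ∀ y : A ⊗[k] B,
      Algebra.TensorProduct.lift f g (fun _ _ => Commute.all _ _)
        (Algebra.TensorProduct.mapOfCompatibleSMul E k k A B y) = q y := by
    intro y
    induction y using TensorProduct.induction_on with
    | zero => simp
    | tmul a b =>
      show Algebra.TensorProduct.lift f g (fun _ _ => Commute.all _ _) (a ⊗ₜ[E] b) =
        q (a ⊗ₜ[k] b)
      rw [Algebra.TensorProduct.lift_tmul]
      show q (a ⊗ₜ[k] (1 : B)) * q ((1 : A) ⊗ₜ[k] b) = _
      rw [← map_mul, Algebra.TensorProduct.tmul_mul_tmul, mul_one, one_mul]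
    | add y z hy hz => rw [map_add, map_add, hy, hz, map_add]
  have hq : q x = 0 := by rw [← key x, hx, map_zero]
  exact Ideal.Quotient.eq_zero_iff_mem.1 hq

/-- Over a separably closed field `k`, the tensor product of an algebraically closed field and
an arbitrary field extension has a prime nilradical. -/
theorem isPrime_nilradical_tensor (k Ω K : Type u) [Field k] [IsSepClosed k] [Field Ω]
    [IsAlgClosed Ω] [Field K] [Algebra k Ω] [Algebra k K] :
    (nilradical (Ω ⊗[k] K)).IsPrime := by
  let σ : AlgebraicClosure k →ₐ[k] Ω := IsAlgClosed.lift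
  let τ : AlgebraicClosure k →ₐ[k] AlgebraicClosure K := IsAlgClosed.lift
  letI : Algebra (AlgebraicClosure k) Ω := σ.toRingHom.toAlgebra
  letI : Algebra (AlgebraicClosure k) (AlgebraicClosure K) := τ.toRingHom.toAlgebra
  haveI : IsScalarTower k (AlgebraicClosure k) Ω :=
    IsScalarTower.of_algebraMap_eq (fun c => (σ.commutes c).symm)
  haveI : IsScalarTower k (AlgebraicClosure k) (AlgebraicClosure K) :=
    IsScalarTower.of_algebraMap_eq (fun c => (τ.commutes c).symm)
  haveI : IsDomain (Ω ⊗[AlgebraicClosure k] AlgebraicClosure K) :=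
    Groth.Agent.Lib.GeomIrr.isDomain_tensor_of_isAlgClosed (AlgebraicClosure k) Ω
      (AlgebraicClosure K)
  let j : Ω ⊗[k] K →ₐ[k] Ω ⊗[k] AlgebraicClosure K :=
    Algebra.TensorProduct.map (AlgHom.id k Ω) (IsScalarTower.toAlgHom k K (AlgebraicClosure K))
  have hj : Function.Injective j := by
    have := Module.Flat.lTensor_preserves_injective_linearMap (M := Ω)
      (IsScalarTower.toAlgHom k K (AlgebraicClosure K)).toLinearMap
      (FaithfulSMul.algebraMap_injective K (AlgebraicClosure K))
    exact this
  exact isPrime_nilradical_of_injective (D := Ω ⊗[AlgebraicClosure k] AlgebraicClosure K)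
    j.toRingHom hj
    (Algebra.TensorProduct.mapOfCompatibleSMul (AlgebraicClosure k) k k Ω
      (AlgebraicClosure K)).toRingHom
    (fun x hx => isNilpotent_of_map_eq_zero x hx)

/-- The spectrum of `Ω ⊗[k] K` is connected. -/
theorem connectedSpace_tensor (k Ω K : Type u) [Field k] [IsSepClosed k] [Field Ω]
    [IsAlgClosed Ω] [Field K] [Algebra k Ω] [Algebra k K] :
    ConnectedSpace (PrimeSpectrum (Ω ⊗[k] K)) := by
  haveI : IrreducibleSpace (PrimeSpectrum (Ω ⊗[k] K)) :=
    PrimeSpectrum.irreducibleSpace_iff_isPrime_nilradical.2 (isPrime_nilradical_tensor k Ω K)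
  infer_instance

end Groth.Agent.Lib.SepClosedTensorH7
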