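import Mathlib
import Groth.Prelude.Def_PBC
import Groth.Agent.Lib.EtSubm4_helper7
import Groth.Agent.Lib.SepClosedTensor_helper7

/-!
# Base change of a scheme over a separably closed field to a bigger field (helper7)
-/

set_option autoImplicit false
set_option backward.isDefEq.respectTransparency false
set_option linter.style.haveILetI false
set_option linter.unusedSectionVars false
universe u
open CategoryTheory CategoryTheory.Limits AlgebraicGeometry Opposite TensorProduct

namespace Groth.Agent.Lib.EtSubmH7

theorem connectedSpace_pullback_field {k K Ω : Type u} [Field k] [IsSepClosed k] [Field K]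
    [Algebra k K] [Field Ω] [IsAlgClosed Ω]
    (b : Spec (CommRingCat.of Ω) ⟶ Spec (CommRingCat.of k)) :
    ConnectedSpace ↥(pullback b (Spec.map (CommRingCat.ofHom (algebraMap k K)))) := by
  obtain ⟨ψ, rfl⟩ : ∃ ψ, Spec.map ψ = b := ⟨_, Spec.map_preimage _⟩
  letI : Algebra k Ω := ψ.hom.toAlgebra
  haveI : ConnectedSpace ↥(Spec (CommRingCat.of (Ω ⊗[k] K))) :=
    Groth.Agent.Lib.SepClosedTensorH7.connectedSpace_tensor k Ω K
  let e : pullback (Spec.map ψ) (Spec.map (CommRingCat.ofHom (algebraMap k K))) ≅
      Spec (CommRingCat.of (Ω ⊗[k] K)) := pullbackSpecIso k Ω K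
  exact (Scheme.homeoOfIso e.symm).surjective.connectedSpace
    (Scheme.homeoOfIso e.symm).continuous

theorem main95 {k K : Type u} [Field k] [IsSepClosed k] [Field K] [Algebra k K]
    {S : Scheme.{u}} (a : S ⟶ Spec (CommRingCat.of k))
    [EtCoh.BCCont (pullback.fst a (Spec.map (CommRingCat.ofHom (algebraMap k K))))]
    (F : EtCoh.Ab S) :
    Function.Bijective (((EtCoh.pullPushAdj
      (pullback.fst a (Spec.map (CommRingCat.ofHom (algebraMap k K))))).unit.app F).hom.app
        (op (EtCoh.top S))) := by
  haveI : Flat (Spec.map (CommRingCat.ofHom (algebraMap k K))) := by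
    rw [Flat.SpecMap_iff]
    exact RingHom.flat_algebraMap_iff.2 inferInstance
  refine main94 _ (fun Ω _ _ s => ?_) F
  haveI := connectedSpace_pullback_field (K := K) (s ≫ a)
  let e : pullback (pullback.fst a (Spec.map (CommRingCat.ofHom (algebraMap k K)))) s ≅
      pullback (s ≫ a) (Spec.map (CommRingCat.ofHom (algebraMap k K))) :=
    pullbackSymmetry _ _ ≪≫ pullbackRightPullbackFstIso a _ s
  exact (Scheme.homeoOfIso e.symm).surjective.connectedSpace
    (Scheme.homeoOfIso e.symm).continuous

end Groth.Agent.Lib.EtSubmH7
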