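import Mathlib
import Groth.Prelude.Def_EtRam
import Groth.Agent.Lib.EtTame1_helper8

set_option autoImplicit false
universe u

namespace Groth.Agent.Lib.EtTameH8

open AlgebraicGeometry CategoryTheory Limits

/-- existence part of the valuative criterion for a proper morphism -/
theorem existence_of_isProper {X S : Scheme.{u}} (s : X ⟶ S) [IsProper s] :
    ValuativeCriterion.Existence s := by
  have h : ValuativeCriterion s := by
    have h2 : (ValuativeCriterion ⊓ @QuasiCompact ⊓ @QuasiSeparated ⊓ @LocallyOfFiniteType :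
      MorphismProperty Scheme) s := by
      rw [← IsProper.eq_valuativeCriterion]; infer_instance
    exact h2.1.1.1
  exact h.existence

section main

variable (k : Type u) [Field k] {X Y : Scheme.{u}} (s : X ⟶ Spec (CommRingCat.of k))
    [IsProper s] (f : Y ⟶ X) [IsFinite f] [Etale f] (y : Y)
    (A : ValuationSubring (X.residueField (f.base y))) [IsDiscreteValuationRing A]
    (a : Spec (CommRingCat.of A) ⟶ Spec (CommRingCat.of k))
    (ha : Spec.map (CommRingCat.ofHom A.subtype) ≫ a = X.fromSpecResidueField (f.base y) ≫ s)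

include ha in
/-- Step 1: the lift `Spec A ⟶ X` -/
theorem exists_lift : ∃ ℓ : Spec (CommRingCat.of A) ⟶ X,
    Spec.map (CommRingCat.ofHom A.subtype) ≫ ℓ = X.fromSpecResidueField (f.base y) := by
  have hex := existence_of_isProper s
  let S : ValuativeCommSq s :=
    { R := A
      K := X.residueField (f.base y)
      i₁ := X.fromSpecResidueField (f.base y)
      i₂ := a
      commSq := ⟨ha.symm⟩ }
  obtain ⟨⟨l⟩⟩ := hex S
  exact ⟨l.l, l.fac_left⟩

include ha in
theorem main18596 : EtRam.IsTamelyRamified A ((f.residueFieldMap y).hom.comp A.subtype) := by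
  obtain ⟨ℓ, hℓ⟩ := exists_lift k s f y A a ha
  let q : pullback f ℓ ⟶ Spec (CommRingCat.of A) := pullback.snd f ℓ
  haveI : IsFinite q := inferInstance
  haveI : Etale q := inferInstance
  haveI : IsAffine (pullback f ℓ) := isAffine_of_isAffineHom q
  let B : CommRingCat := Γ(pullback f ℓ, ⊤)
  let e : pullback f ℓ ≅ Spec B := (pullback f ℓ).isoSpec
  let φ : CommRingCat.of A ⟶ B := Spec.preimage (e.inv ≫ q)
  have hφ : Spec.map φ = e.inv ≫ q := Spec.map_preimage _
  have hfin : φ.hom.Finite := by
    rw [← IsFinite.SpecMap_iff, hφ]; infer_instance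
  have het : φ.hom.Etale := by
    rw [← HasRingHomProperty.Spec_iff (P := @Etale), hφ]; infer_instance
  let t : Spec (Y.residueField y) ⟶ pullback f ℓ := pullback.lift (Y.fromSpecResidueField y)
      (Spec.map (f.residueFieldMap y) ≫ Spec.map (CommRingCat.ofHom A.subtype)) (by
        rw [Category.assoc, ← Scheme.Hom.SpecMap_residueFieldMap_fromSpecResidueField, ← hℓ]
        rfl)
  have ht1 : t ≫ pullback.fst f ℓ = Y.fromSpecResidueField y := pullback.lift_fst _ _ _
  have ht2 : t ≫ q = Spec.map (f.residueFieldMap y) ≫ Spec.map (CommRingCat.ofHom A.subtype) :=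
    pullback.lift_snd _ _ _
  haveI : SurjectiveOnStalks (t ≫ pullback.fst f ℓ) := by rw [ht1]; infer_instance
  haveI : SurjectiveOnStalks t := SurjectiveOnStalks.of_comp t (pullback.fst f ℓ)
  let ψ : B ⟶ Y.residueField y := Spec.preimage (t ≫ e.hom)
  have hψ : Spec.map ψ = t ≫ e.hom := Spec.map_preimage _
  have hψs : ψ.hom.SurjectiveOnStalks := by
    rw [← SurjectiveOnStalks.Spec_iff, hψ]; infer_instance
  have hcomp : φ ≫ ψ = CommRingCat.ofHom A.subtype ≫ f.residueFieldMap y := by
    apply Spec.map_injective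
    rw [Spec.map_comp, Spec.map_comp, hψ, hφ, Category.assoc, Iso.hom_inv_id_assoc]
    exact ht2
  letI : Algebra A B := φ.hom.toAlgebra
  haveI : Module.Finite A B := hfin
  haveI : Algebra.Etale A B := het
  have hcomp' : ψ.hom.comp (algebraMap A B) = (f.residueFieldMap y).hom.comp A.subtype := by
    have := congrArg CommRingCat.Hom.hom hcomp
    exact this
  refine tame_of_finite_etale (B := B) ((f.residueFieldMap y).hom.comp A.subtype) ?_ ψ.hom hcomp' ?_
  · exact (RingHom.injective (f.residueFieldMap y).hom).comp Subtype.val_injective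
  · intro z
    obtain ⟨x, r, c, hc, hr, e⟩ :=
      (RingHom.surjective_localRingHom_iff (f := ψ.hom) (⊥ : Ideal (Y.residueField y))).mp
        (hψs ⊥ Ideal.bot_prime) z
    refine ⟨x, r, ?_, ?_⟩
    · intro h; exact hr (by rw [h]; exact Submodule.zero_mem _)
    · have hc0 : c ≠ 0 := fun h => hc (by rw [h]; exact Submodule.zero_mem _)
      apply mul_left_cancel₀ hc0
      rw [← mul_assoc]; exact e

end main

end Groth.Agent.Lib.EtTameH8
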