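import Mathlib
import Groth.Prelude.Def_EtRam
import Groth.Agent.Lib.EtTame1_helper8

/-!
# Finite étale algebras over a Noetherian local ring with principal maximal ideal: unramified at every
dominating valuation ring (helper8)
-/

set_option autoImplicit false
universe u

namespace Groth.Agent.Lib.EtTameH8

open IsLocalRing Polynomial

section ring

variable {A : Type u} [CommRing A] [IsLocalRing A] [IsNoetherianRing A]
  {B : Type u} [CommRing B] [Algebra A B] [Module.Finite A B] [Algebra.Etale A B]
  {L : Type u} [Field L]

/-- **Finite étale over a Noetherian local ring with principal maximal ideal `(π)` is unramified at every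
place**: let `B` be finite étale over `A`, `ψ : B → L` a ring map to a field compatible with `g : A → L`,
`g π ≠ 0`, such that `L` is generated as a field by `ψ(B)`. Then `L` is unramified with respect to `A`. -/
theorem unramified_of_finite_etale (π : A) (hmA : maximalIdeal A = Ideal.span {π})
    (g : A →+* L) (hgπ : g π ≠ 0)
    (ψ : B →+* L) (hψ : ψ.comp (algebraMap A B) = g)
    (hgen : ∀ z : L, ∃ b c : B, ψ c ≠ 0 ∧ ψ c * z = ψ b) :
    EtRam.IsUnramifiedExt A g := by
  intro V hV
  letI algAV : Algebra A V := (RingHom.codRestrict g V hV.1).toAlgebra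
  intro hloc
  -- Step 1: `ψ(B) ⊆ V`
  have hBV : ∀ b : B, ψ b ∈ V := by
    intro b
    obtain ⟨f, hf, hfb⟩ := Algebra.IsIntegral.isIntegral (R := A) b
    apply Groth.Agent.Lib.MonoLocH8.mem_of_eval₂_eq_zero V g hV.1 f hf (ψ b)
    have := Polynomial.hom_eval₂ f (algebraMap A B) ψ b
    rw [hψ] at this
    rw [← this, hfb, map_zero]
  let ψV : B →+* V := RingHom.codRestrict ψ V hBV
  have hψVA : ∀ a, ψV (algebraMap A B a) = algebraMap A V a := by
    intro a
    apply Subtype.ext
    show ψ (algebraMap A B a) = g a
    rw [← hψ]; rfl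
  let n : Ideal B := (maximalIdeal V).comap ψV
  haveI hnp : n.IsPrime := Ideal.comap_isPrime _ _
  have hunit : ∀ y : n.primeCompl, IsUnit (ψV y) := by
    intro y
    have hy : (y : B) ∉ n := y.2
    have : ψV y ∉ maximalIdeal V := fun h => hy (Ideal.mem_comap.mpr h)
    rwa [mem_maximalIdeal, mem_nonunits_iff, not_not] at this
  let ψn0 : Localization.AtPrime n →+* V := IsLocalization.lift hunit
  have hψn0 : ∀ b : B, ψn0 (algebraMap B (Localization.AtPrime n) b) = ψV b := fun b =>
    IsLocalization.lift_eq hunit b
  let ψn : Localization.AtPrime n →ₐ[A] V :=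
    { ψn0 with
      commutes' := by
        intro a
        show ψn0 (algebraMap A (Localization.AtPrime n) a) = algebraMap A V a
        rw [IsScalarTower.algebraMap_apply A B (Localization.AtPrime n), hψn0, hψVA] }
  have hψn : ∀ b : B, ψn (algebraMap B (Localization.AtPrime n) b) = ψV b := hψn0
  -- local hom `A → B_n`
  haveI hlocn : IsLocalHom (algebraMap A (Localization.AtPrime n)) := by
    have hcomp : (ψn : Localization.AtPrime n →+* V).comp (algebraMap A (Localization.AtPrime n)) =
        algebraMap A V := by
      ext a; exact congrArg Subtype.val (ψn.commutes a)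
    haveI : IsLocalHom ((ψn : Localization.AtPrime n →+* V).comp
        (algebraMap A (Localization.AtPrime n))) := by rw [hcomp]; exact hloc
    exact isLocalHom_of_comp _ (ψn : Localization.AtPrime n →+* V)
  haveI : Algebra.FormallyUnramified A (Localization.AtPrime n) :=
    Algebra.FormallyUnramified.comp A B (Localization.AtPrime n)
  haveI : Algebra.EssFiniteType A (Localization.AtPrime n) :=
    Algebra.EssFiniteType.comp A B (Localization.AtPrime n)
  have hmn : (maximalIdeal A).map (algebraMap A (Localization.AtPrime n)) =
      maximalIdeal (Localization.AtPrime n) := Algebra.FormallyUnramified.map_maximalIdeal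
  have hmn' : maximalIdeal (Localization.AtPrime n) =
      Ideal.span {algebraMap A (Localization.AtPrime n) π} := by
    rw [← hmn, hmA, Ideal.map_span, Set.image_singleton]
  haveI : IsNoetherianRing B := IsNoetherianRing.of_finite A B
  haveI : IsNoetherianRing (Localization.AtPrime n) :=
    IsLocalization.isNoetherianRing n.primeCompl _ inferInstance
  -- the uniformizer in `V`
  have hϖm : algebraMap A V π ∈ maximalIdeal V := by
    have := hV.2 π (by rw [hmA]; exact Ideal.mem_span_singleton_self π)
    exact (V.valuation_lt_one_iff (algebraMap A V π)).mpr this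
  have hϖ0 : algebraMap A V π ≠ 0 := by
    intro h0
    have : g π = 0 := congrArg Subtype.val h0
    exact hgπ this
  have hψnπ : ψn (algebraMap A (Localization.AtPrime n) π) = algebraMap A V π := ψn.commutes π
  -- Step 2: surjectivity of `ψn`
  have hsurj : Function.Surjective ψn := by
    intro v
    by_cases hv0 : v = 0
    · exact ⟨0, by rw [hv0, map_zero]⟩
    obtain ⟨b, c, hc, hbc⟩ := hgen (v : L)
    have hbc' : ψV c * v = ψV b := Subtype.ext hbc
    have hψVc : ψV c ≠ 0 := fun h => hc (congrArg Subtype.val h)
    have hψVb : ψV b ≠ 0 := by rw [← hbc']; exact mul_ne_zero hψVc hv0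
    have hb0 : algebraMap B (Localization.AtPrime n) b ≠ 0 := by
      intro h; apply hψVb; rw [← hψn, h, map_zero]
    have hc0 : algebraMap B (Localization.AtPrime n) c ≠ 0 := by
      intro h; apply hψVc; rw [← hψn, h, map_zero]
    obtain ⟨i, u, hu, hbu⟩ := exists_pow_mul_unit _ hmn' _ hb0
    obtain ⟨j, w, hw, hcw⟩ := exists_pow_mul_unit _ hmn' _ hc0
    have hc1 : ψV c = (algebraMap A V π) ^ j * ψn w := by
      rw [← hψn, hcw, map_mul, map_pow, hψnπ]
    have hb1 : ψV b = (algebraMap A V π) ^ i * ψn u := by
      rw [← hψn, hbu, map_mul, map_pow, hψnπ]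
    have e1 : (algebraMap A V π) ^ j * ψn w * v = (algebraMap A V π) ^ i * ψn u := by
      rw [← hc1, ← hb1]
      exact hbc'
    have hwu : IsUnit (ψn w) := hw.map ψn
    have huu : IsUnit (ψn u) := hu.map ψn
    rcases le_or_gt j i with hji | hij
    · obtain ⟨w', hw'⟩ := hw.exists_left_inv
      refine ⟨w' * algebraMap A (Localization.AtPrime n) π ^ (i - j) * u, ?_⟩
      have hpow : (algebraMap A V π) ^ i = (algebraMap A V π) ^ j * (algebraMap A V π) ^ (i - j) := by
        rw [← pow_add]; congr 1; omega
      rw [hpow] at e1
      have e2 : ψn w * v = (algebraMap A V π) ^ (i - j) * ψn u := by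
        apply mul_left_cancel₀ (pow_ne_zero j hϖ0)
        rw [← mul_assoc, e1, mul_assoc]
      rw [map_mul, map_mul, map_pow, hψnπ]
      have hw'' : ψn w' * ψn w = 1 := by rw [← map_mul, hw', map_one]
      calc ψn w' * (algebraMap A V π) ^ (i - j) * ψn u
          = ψn w' * ((algebraMap A V π) ^ (i - j) * ψn u) := by ring
        _ = ψn w' * (ψn w * v) := by rw [e2]
        _ = (ψn w' * ψn w) * v := by ring
        _ = v := by rw [hw'', one_mul]
    · exfalso
      have hpow : (algebraMap A V π) ^ j = (algebraMap A V π) ^ i * (algebraMap A V π) ^ (j - i) := by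
        rw [← pow_add]; congr 1; omega
      rw [hpow] at e1
      have e2 : (algebraMap A V π) ^ (j - i) * ψn w * v = ψn u := by
        apply mul_left_cancel₀ (pow_ne_zero i hϖ0)
        rw [← e1]; ring
      have hmem : (algebraMap A V π) ^ (j - i) * ψn w * v ∈ maximalIdeal V := by
        rw [mul_assoc]
        apply Ideal.mul_mem_right
        have hji : j - i = (j - i - 1) + 1 := by omega
        rw [hji, pow_succ]
        exact Ideal.mul_mem_left _ _ hϖm
      rw [e2] at hmem
      exact (mem_maximalIdeal _).mp hmem huu
  haveI : Algebra.FormallyUnramified A V := Algebra.FormallyUnramified.of_surjective ψn hsurj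
  haveI : Algebra.EssFiniteType A V := Algebra.EssFiniteType.of_surjective ψn hsurj
  have h1 : (maximalIdeal A).map (algebraMap A V) = maximalIdeal V :=
    Algebra.FormallyUnramified.map_maximalIdeal
  have h2 : Algebra.IsSeparable (ResidueField A) (ResidueField V) := inferInstance
  exact ⟨h1, h2⟩

end ring

end Groth.Agent.Lib.EtTameH8
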