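import Mathlib
import Groth.Prelude.Def_EtTens2
import Groth.Agent.Lib.EtSchExact_helper7

/-!
# Stalks of the tensor product of presheaves of abelian groups on the small étale site (helper7)

For presheaves `P Q` on `X.Etale` and a geometric point `ξ`, the canonical map
`P_ξ ⊗ Q_ξ ⟶ (P ⊗ Q)_ξ`, `germ p ⊗ germ q ↦ germ (p ⊗ q)`, is bijective.
-/

set_option autoImplicit false
set_option backward.isDefEq.respectTransparency false
set_option linter.style.haveILetI false
set_option linter.unusedSectionVars false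
universe u
open CategoryTheory CategoryTheory.Limits AlgebraicGeometry Opposite TensorProduct

namespace Groth.Agent.Lib.EtTensH7

open Groth.Agent.Lib.EtSchExact_helper7

variable {X : Scheme.{u}} {K : Type u} [Field K] [IsSepClosed K]
  (ξ : Spec (CommRingCat.of K) ⟶ X)

section Common

theorem exists_common (V₁ V₂ : X.Etale) (y₁ : (Scheme.pointSmallEtale ξ).fiber.obj V₁)
    (y₂ : (Scheme.pointSmallEtale ξ).fiber.obj V₂) :
    ∃ (W : X.Etale) (p₁ : W ⟶ V₁) (p₂ : W ⟶ V₂) (y : (Scheme.pointSmallEtale ξ).fiber.obj W),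
      (Scheme.pointSmallEtale ξ).fiber.map p₁ y = y₁ ∧
        (Scheme.pointSmallEtale ξ).fiber.map p₂ y = y₂ := by
  let A : (Scheme.pointSmallEtale ξ).fiber.Elements := ⟨V₁, y₁⟩
  let B : (Scheme.pointSmallEtale ξ).fiber.Elements := ⟨V₂, y₂⟩
  exact ⟨(IsCofiltered.min A B).1, (IsCofiltered.minToLeft A B).1,
    (IsCofiltered.minToRight A B).1, (IsCofiltered.min A B).2,
    (IsCofiltered.minToLeft A B).2, (IsCofiltered.minToRight A B).2⟩

variable (P : X.Etaleᵒᵖ ⥤ AddCommGrpCat.{u + 1})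

/-- two sections with the same germ agree on a common refinement -/
theorem exists_eq_of_germ_eq (V₁ V₂ : X.Etale) (y₁ : (Scheme.pointSmallEtale ξ).fiber.obj V₁)
    (y₂ : (Scheme.pointSmallEtale ξ).fiber.obj V₂) (s₁ : P.obj (op V₁)) (s₂ : P.obj (op V₂))
    (h : (Scheme.pointSmallEtale ξ).toPresheafFiber V₁ y₁ P s₁ =
      (Scheme.pointSmallEtale ξ).toPresheafFiber V₂ y₂ P s₂) :
    ∃ (W : X.Etale) (p₁ : W ⟶ V₁) (p₂ : W ⟶ V₂) (y : (Scheme.pointSmallEtale ξ).fiber.obj W),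
      (Scheme.pointSmallEtale ξ).fiber.map p₁ y = y₁ ∧
        (Scheme.pointSmallEtale ξ).fiber.map p₂ y = y₂ ∧ P.map p₁.op s₁ = P.map p₂.op s₂ := by
  obtain ⟨W', a, b, w', ha, hb⟩ := exists_common ξ V₁ V₂ y₁ y₂
  have h2 : (Scheme.pointSmallEtale ξ).toPresheafFiber W' w' P (P.map a.op s₁) =
      (Scheme.pointSmallEtale ξ).toPresheafFiber W' w' P (P.map b.op s₂) := by
    rw [GrothendieckTopology.Point.toPresheafFiber_w_apply,
      GrothendieckTopology.Point.toPresheafFiber_w_apply, ha, hb, h]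
  obtain ⟨W, g, y, hy, heq⟩ :=
    ((Scheme.pointSmallEtale ξ).toPresheafFiber_eq_iff' W' w' _ _).1 h2
  refine ⟨W, g ≫ a, g ≫ b, y, ?_, ?_, ?_⟩
  · rw [Functor.map_comp]
    show (Scheme.pointSmallEtale ξ).fiber.map a ((Scheme.pointSmallEtale ξ).fiber.map g y) = y₁
    rw [show (Scheme.pointSmallEtale ξ).fiber.map g y = w' from hy]
    exact ha
  · rw [Functor.map_comp]
    show (Scheme.pointSmallEtale ξ).fiber.map b ((Scheme.pointSmallEtale ξ).fiber.map g y) = y₂
    rw [show (Scheme.pointSmallEtale ξ).fiber.map g y = w' from hy]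
    exact hb
  · rw [op_comp, Functor.map_comp, op_comp, Functor.map_comp, ConcreteCategory.comp_apply,
      ConcreteCategory.comp_apply]
    exact heq

end Common

section Germ

variable (P Q : X.Etaleᵒᵖ ⥤ AddCommGrpCat.{u + 1})

/-- the germ of a pure tensor -/
noncomputable def tg (W : X.Etale) (w : (Scheme.pointSmallEtale ξ).fiber.obj W)
    (p : P.obj (op W)) (q : Q.obj (op W)) :
    ((Scheme.pointSmallEtale ξ).presheafFiber.obj (EtTens.tensorObj P Q) :
      AddCommGrpCat.{u + 1}) :=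
  (Scheme.pointSmallEtale ξ).toPresheafFiber W w (EtTens.tensorObj P Q)
    ((p ⊗ₜ[ℤ] q : (P.obj (op W) : AddCommGrpCat.{u + 1}) ⊗[ℤ]
      (Q.obj (op W) : AddCommGrpCat.{u + 1})))

theorem tg_restrict {W W' : X.Etale} (g : W' ⟶ W) (w' : (Scheme.pointSmallEtale ξ).fiber.obj W')
    (w : (Scheme.pointSmallEtale ξ).fiber.obj W)
    (hw : (Scheme.pointSmallEtale ξ).fiber.map g w' = w) (p : P.obj (op W)) (q : Q.obj (op W)) :
    tg ξ P Q W' w' (P.map g.op p) (Q.map g.op q) = tg ξ P Q W w p q := by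
  subst hw
  exact (Scheme.pointSmallEtale ξ).toPresheafFiber_w_apply g w' (EtTens.tensorObj P Q)
    ((p ⊗ₜ[ℤ] q : (P.obj (op W) : AddCommGrpCat.{u + 1}) ⊗[ℤ]
      (Q.obj (op W) : AddCommGrpCat.{u + 1})))

theorem tg_indep (W₁ W₂ : X.Etale) (w₁ : (Scheme.pointSmallEtale ξ).fiber.obj W₁)
    (w₂ : (Scheme.pointSmallEtale ξ).fiber.obj W₂)
    (p₁ : P.obj (op W₁)) (q₁ : Q.obj (op W₁)) (p₂ : P.obj (op W₂)) (q₂ : Q.obj (op W₂))
    (hp : (Scheme.pointSmallEtale ξ).toPresheafFiber W₁ w₁ P p₁ =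
      (Scheme.pointSmallEtale ξ).toPresheafFiber W₂ w₂ P p₂)
    (hq : (Scheme.pointSmallEtale ξ).toPresheafFiber W₁ w₁ Q q₁ =
      (Scheme.pointSmallEtale ξ).toPresheafFiber W₂ w₂ Q q₂) :
    tg ξ P Q W₁ w₁ p₁ q₁ = tg ξ P Q W₂ w₂ p₂ q₂ := by
  obtain ⟨W₃, a, b, w₃, ha, hb, hpe⟩ := exists_eq_of_germ_eq ξ P W₁ W₂ w₁ w₂ p₁ p₂ hp
  have hq3 : (Scheme.pointSmallEtale ξ).toPresheafFiber W₃ w₃ Q (Q.map a.op q₁) =
      (Scheme.pointSmallEtale ξ).toPresheafFiber W₃ w₃ Q (Q.map b.op q₂) := by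
    rw [GrothendieckTopology.Point.toPresheafFiber_w_apply,
      GrothendieckTopology.Point.toPresheafFiber_w_apply, ha, hb, hq]
  obtain ⟨W₄, c, w₄, hc, hqe⟩ :=
    ((Scheme.pointSmallEtale ξ).toPresheafFiber_eq_iff' W₃ w₃ _ _).1 hq3
  calc tg ξ P Q W₁ w₁ p₁ q₁
      = tg ξ P Q W₃ w₃ (P.map a.op p₁) (Q.map a.op q₁) := (tg_restrict ξ P Q a w₃ w₁ ha p₁ q₁).symm
    _ = tg ξ P Q W₄ w₄ (P.map c.op (P.map a.op p₁)) (Q.map c.op (Q.map a.op q₁)) :=
        (tg_restrict ξ P Q c w₄ w₃ hc _ _).symm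
    _ = tg ξ P Q W₄ w₄ (P.map c.op (P.map b.op p₂)) (Q.map c.op (Q.map b.op q₂)) := by
        rw [hpe, hqe]
    _ = tg ξ P Q W₃ w₃ (P.map b.op p₂) (Q.map b.op q₂) := tg_restrict ξ P Q c w₄ w₃ hc _ _
    _ = tg ξ P Q W₂ w₂ p₂ q₂ := tg_restrict ξ P Q b w₃ w₂ hb p₂ q₂

theorem exists_beta
    (a : ((Scheme.pointSmallEtale ξ).presheafFiber.obj P : AddCommGrpCat.{u + 1}))
    (b : ((Scheme.pointSmallEtale ξ).presheafFiber.obj Q : AddCommGrpCat.{u + 1})) :
    ∃ z : ((Scheme.pointSmallEtale ξ).presheafFiber.obj (EtTens.tensorObj P Q) :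
        AddCommGrpCat.{u + 1}),
      ∀ (W : X.Etale) (w : (Scheme.pointSmallEtale ξ).fiber.obj W) (p : P.obj (op W))
        (q : Q.obj (op W)), (Scheme.pointSmallEtale ξ).toPresheafFiber W w P p = a →
        (Scheme.pointSmallEtale ξ).toPresheafFiber W w Q q = b → z = tg ξ P Q W w p q := by
  obtain ⟨U, u, p₀, hp₀⟩ := (Scheme.pointSmallEtale ξ).toPresheafFiber_jointly_surjective a
  obtain ⟨V, v, q₀, hq₀⟩ := (Scheme.pointSmallEtale ξ).toPresheafFiber_jointly_surjective b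
  obtain ⟨W₀, a₀, b₀, w₀, ha₀, hb₀⟩ := exists_common ξ U V u v
  refine ⟨tg ξ P Q W₀ w₀ (P.map a₀.op p₀) (Q.map b₀.op q₀), ?_⟩
  intro W w p q hp hq
  apply tg_indep
  · rw [GrothendieckTopology.Point.toPresheafFiber_w_apply, ha₀, hp₀, hp]
  · rw [GrothendieckTopology.Point.toPresheafFiber_w_apply, hb₀, hq₀, hq]

/-- the germ-tensor pairing -/
noncomputable def beta
    (a : ((Scheme.pointSmallEtale ξ).presheafFiber.obj P : AddCommGrpCat.{u + 1}))
    (b : ((Scheme.pointSmallEtale ξ).presheafFiber.obj Q : AddCommGrpCat.{u + 1})) :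
    ((Scheme.pointSmallEtale ξ).presheafFiber.obj (EtTens.tensorObj P Q) :
      AddCommGrpCat.{u + 1}) :=
  (exists_beta ξ P Q a b).choose

theorem beta_eq (W : X.Etale) (w : (Scheme.pointSmallEtale ξ).fiber.obj W) (p : P.obj (op W))
    (q : Q.obj (op W)) :
    beta ξ P Q ((Scheme.pointSmallEtale ξ).toPresheafFiber W w P p)
      ((Scheme.pointSmallEtale ξ).toPresheafFiber W w Q q) = tg ξ P Q W w p q :=
  (exists_beta ξ P Q _ _).choose_spec W w p q rfl rfl

/-- simultaneous representatives -/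
theorem exists_reps
    (a a' : ((Scheme.pointSmallEtale ξ).presheafFiber.obj P : AddCommGrpCat.{u + 1}))
    (b b' : ((Scheme.pointSmallEtale ξ).presheafFiber.obj Q : AddCommGrpCat.{u + 1})) :
    ∃ (W : X.Etale) (w : (Scheme.pointSmallEtale ξ).fiber.obj W) (p p' : P.obj (op W))
      (q q' : Q.obj (op W)),
      (Scheme.pointSmallEtale ξ).toPresheafFiber W w P p = a ∧
      (Scheme.pointSmallEtale ξ).toPresheafFiber W w P p' = a' ∧
      (Scheme.pointSmallEtale ξ).toPresheafFiber W w Q q = b ∧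
      (Scheme.pointSmallEtale ξ).toPresheafFiber W w Q q' = b' := by
  obtain ⟨U, u, p₀, p₀', hp₀, hp₀'⟩ :=
    (Scheme.pointSmallEtale ξ).toPresheafFiber_jointly_surjective₂ a a'
  obtain ⟨V, v, q₀, q₀', hq₀, hq₀'⟩ :=
    (Scheme.pointSmallEtale ξ).toPresheafFiber_jointly_surjective₂ b b'
  obtain ⟨W, g, h, w, hg, hh⟩ := exists_common ξ U V u v
  refine ⟨W, w, P.map g.op p₀, P.map g.op p₀', Q.map h.op q₀, Q.map h.op q₀', ?_, ?_, ?_, ?_⟩
  · rw [GrothendieckTopology.Point.toPresheafFiber_w_apply, hg, hp₀]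
  · rw [GrothendieckTopology.Point.toPresheafFiber_w_apply, hg, hp₀']
  · rw [GrothendieckTopology.Point.toPresheafFiber_w_apply, hh, hq₀]
  · rw [GrothendieckTopology.Point.toPresheafFiber_w_apply, hh, hq₀']

theorem beta_add_left
    (a a' : ((Scheme.pointSmallEtale ξ).presheafFiber.obj P : AddCommGrpCat.{u + 1}))
    (b : ((Scheme.pointSmallEtale ξ).presheafFiber.obj Q : AddCommGrpCat.{u + 1})) :
    beta ξ P Q (a + a') b = beta ξ P Q a b + beta ξ P Q a' b := by
  obtain ⟨W, w, p, p', q, -, hp, hp', hq, -⟩ := exists_reps ξ P Q a a' b b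
  have hs : (Scheme.pointSmallEtale ξ).toPresheafFiber W w P (p + p') = a + a' := by
    rw [map_add, hp, hp']
  rw [← hs, ← hp, ← hp', ← hq, beta_eq, beta_eq, beta_eq]
  unfold tg
  rw [add_tmul, map_add]

theorem beta_add_right
    (a : ((Scheme.pointSmallEtale ξ).presheafFiber.obj P : AddCommGrpCat.{u + 1}))
    (b b' : ((Scheme.pointSmallEtale ξ).presheafFiber.obj Q : AddCommGrpCat.{u + 1})) :
    beta ξ P Q a (b + b') = beta ξ P Q a b + beta ξ P Q a b' := by
  obtain ⟨W, w, p, -, q, q', hp, -, hq, hq'⟩ := exists_reps ξ P Q a a b b'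
  have hs : (Scheme.pointSmallEtale ξ).toPresheafFiber W w Q (q + q') = b + b' := by
    rw [map_add, hq, hq']
  rw [← hs, ← hp, ← hq, ← hq', beta_eq, beta_eq, beta_eq]
  unfold tg
  rw [tmul_add, map_add]

/-- `beta` as a biadditive map -/
noncomputable def betaHom :
    ((Scheme.pointSmallEtale ξ).presheafFiber.obj P : AddCommGrpCat.{u + 1}) →+
      ((Scheme.pointSmallEtale ξ).presheafFiber.obj Q : AddCommGrpCat.{u + 1}) →+
      ((Scheme.pointSmallEtale ξ).presheafFiber.obj (EtTens.tensorObj P Q) :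
        AddCommGrpCat.{u + 1}) :=
  AddMonoidHom.mk' (fun a => AddMonoidHom.mk' (fun b => beta ξ P Q a b) (beta_add_right ξ P Q a))
    (by
      intro a a'
      ext b
      exact beta_add_left ξ P Q a a' b)

theorem betaHom_apply
    (a : ((Scheme.pointSmallEtale ξ).presheafFiber.obj P : AddCommGrpCat.{u + 1}))
    (b : ((Scheme.pointSmallEtale ξ).presheafFiber.obj Q : AddCommGrpCat.{u + 1})) :
    betaHom ξ P Q a b = beta ξ P Q a b := rfl

/-- the canonical map `P_ξ ⊗ Q_ξ ⟶ (P ⊗ Q)_ξ` -/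
noncomputable def mu :
    ((Scheme.pointSmallEtale ξ).presheafFiber.obj P : AddCommGrpCat.{u + 1}) ⊗[ℤ]
      ((Scheme.pointSmallEtale ξ).presheafFiber.obj Q : AddCommGrpCat.{u + 1}) →+
      ((Scheme.pointSmallEtale ξ).presheafFiber.obj (EtTens.tensorObj P Q) :
        AddCommGrpCat.{u + 1}) :=
  TensorProduct.liftAddHom (betaHom ξ P Q) (by
    intro r m n
    rw [map_zsmul, AddMonoidHom.smul_apply, map_zsmul])

theorem mu_tmul
    (a : ((Scheme.pointSmallEtale ξ).presheafFiber.obj P : AddCommGrpCat.{u + 1}))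
    (b : ((Scheme.pointSmallEtale ξ).presheafFiber.obj Q : AddCommGrpCat.{u + 1})) :
    mu ξ P Q (a ⊗ₜ[ℤ] b) = beta ξ P Q a b := rfl

theorem mu_tmul_germ (W : X.Etale) (w : (Scheme.pointSmallEtale ξ).fiber.obj W)
    (p : P.obj (op W)) (q : Q.obj (op W)) :
    mu ξ P Q ((Scheme.pointSmallEtale ξ).toPresheafFiber W w P p ⊗ₜ[ℤ]
      (Scheme.pointSmallEtale ξ).toPresheafFiber W w Q q) = tg ξ P Q W w p q :=
  (mu_tmul ξ P Q _ _).trans (beta_eq ξ P Q W w p q)

/-- the canonical map `(P ⊗ Q)_ξ ⟶ P_ξ ⊗ Q_ξ` -/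
noncomputable def delta :
    (Scheme.pointSmallEtale ξ).presheafFiber.obj (EtTens.tensorObj P Q) ⟶
      AddCommGrpCat.of
        (((Scheme.pointSmallEtale ξ).presheafFiber.obj P : AddCommGrpCat.{u + 1}) ⊗[ℤ]
          ((Scheme.pointSmallEtale ξ).presheafFiber.obj Q : AddCommGrpCat.{u + 1})) :=
  (Scheme.pointSmallEtale ξ).presheafFiberDesc
    (fun U u => AddCommGrpCat.ofHom
      (TensorProduct.map ((Scheme.pointSmallEtale ξ).toPresheafFiber U u P).hom.toIntLinearMap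
        ((Scheme.pointSmallEtale ξ).toPresheafFiber U u Q).hom.toIntLinearMap).toAddMonoidHom)
    (by
      intro U V g u
      apply EtTens.hom_ext_tmul
      intro m n
      show ((Scheme.pointSmallEtale ξ).toPresheafFiber U u P (P.map g.op m)) ⊗ₜ[ℤ]
          ((Scheme.pointSmallEtale ξ).toPresheafFiber U u Q (Q.map g.op n)) =
        ((Scheme.pointSmallEtale ξ).toPresheafFiber V ((Scheme.pointSmallEtale ξ).fiber.map g u)
            P m) ⊗ₜ[ℤ]
          ((Scheme.pointSmallEtale ξ).toPresheafFiber V ((Scheme.pointSmallEtale ξ).fiber.map g u)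
            Q n)
      rw [GrothendieckTopology.Point.toPresheafFiber_w_apply,
        GrothendieckTopology.Point.toPresheafFiber_w_apply])

theorem delta_tg (W : X.Etale) (w : (Scheme.pointSmallEtale ξ).fiber.obj W)
    (p : P.obj (op W)) (q : Q.obj (op W)) :
    delta ξ P Q (tg ξ P Q W w p q) =
      (Scheme.pointSmallEtale ξ).toPresheafFiber W w P p ⊗ₜ[ℤ]
        (Scheme.pointSmallEtale ξ).toPresheafFiber W w Q q := by
  have h := (Scheme.pointSmallEtale ξ).toPresheafFiber_presheafFiberDesc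
    (P := EtTens.tensorObj P Q)
    (fun U u => AddCommGrpCat.ofHom
      (TensorProduct.map ((Scheme.pointSmallEtale ξ).toPresheafFiber U u P).hom.toIntLinearMap
        ((Scheme.pointSmallEtale ξ).toPresheafFiber U u Q).hom.toIntLinearMap).toAddMonoidHom)
    (by
      intro U V g u
      apply EtTens.hom_ext_tmul
      intro m n
      show ((Scheme.pointSmallEtale ξ).toPresheafFiber U u P (P.map g.op m)) ⊗ₜ[ℤ]
          ((Scheme.pointSmallEtale ξ).toPresheafFiber U u Q (Q.map g.op n)) =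
        ((Scheme.pointSmallEtale ξ).toPresheafFiber V ((Scheme.pointSmallEtale ξ).fiber.map g u)
            P m) ⊗ₜ[ℤ]
          ((Scheme.pointSmallEtale ξ).toPresheafFiber V ((Scheme.pointSmallEtale ξ).fiber.map g u)
            Q n)
      rw [GrothendieckTopology.Point.toPresheafFiber_w_apply,
        GrothendieckTopology.Point.toPresheafFiber_w_apply]) W w
  exact ConcreteCategory.congr_hom h
    ((p ⊗ₜ[ℤ] q : (P.obj (op W) : AddCommGrpCat.{u + 1}) ⊗[ℤ]
      (Q.obj (op W) : AddCommGrpCat.{u + 1})))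

theorem mu_delta
    (z : ((Scheme.pointSmallEtale ξ).presheafFiber.obj (EtTens.tensorObj P Q) :
      AddCommGrpCat.{u + 1})) : mu ξ P Q (delta ξ P Q z) = z := by
  obtain ⟨W, w, x, rfl⟩ := (Scheme.pointSmallEtale ξ).toPresheafFiber_jointly_surjective z
  induction x using TensorProduct.induction_on with
  | zero => rw [map_zero, map_zero, map_zero]
  | tmul p q =>
    exact (congrArg (mu ξ P Q) (delta_tg ξ P Q W w p q)).trans (mu_tmul_germ ξ P Q W w p q)
  | add x y hx hy => rw [map_add, map_add, map_add, hx, hy]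

theorem delta_mu
    (t : ((Scheme.pointSmallEtale ξ).presheafFiber.obj P : AddCommGrpCat.{u + 1}) ⊗[ℤ]
      ((Scheme.pointSmallEtale ξ).presheafFiber.obj Q : AddCommGrpCat.{u + 1})) :
    delta ξ P Q (mu ξ P Q t) = t := by
  induction t using TensorProduct.induction_on with
  | zero => rw [map_zero, map_zero]
  | tmul a b =>
    obtain ⟨W, w, p, -, q, -, hp, -, hq, -⟩ := exists_reps ξ P Q a a b b
    rw [← hp, ← hq, mu_tmul_germ, delta_tg]
  | add x y hx hy => rw [map_add, map_add, hx, hy]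

theorem mu_bijective : Function.Bijective (mu ξ P Q) :=
  ⟨Function.LeftInverse.injective (delta_mu ξ P Q),
    Function.RightInverse.surjective (mu_delta ξ P Q)⟩

end Germ

end Groth.Agent.Lib.EtTensH7
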