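import Mathlib
import Groth.Agent.Lib.EtTens1_helper7
import Groth.Agent.Lib.EtShriek6_helper7

/-!
# Stalks of the tensor product of abelian étale sheaves (helper7)
-/

set_option autoImplicit false
set_option backward.isDefEq.respectTransparency false
set_option linter.style.haveILetI false
set_option linter.unusedSectionVars false
universe u
open CategoryTheory CategoryTheory.Limits AlgebraicGeometry Opposite TensorProduct

namespace Groth.Agent.Lib.EtTensH7

open Groth.Agent.Lib.EtSchExact_helper7 Groth.Agent.Lib.EtShriekH7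
  Groth.Agent.Lib.EtTraceH7

variable {X : Scheme.{u}}

/-- presheaf tensor product → sheaf tensor product -/
noncomputable def toTens (F G : EtCoh.Ab X) :
    EtTens.tensorObj F.obj G.obj ⟶ ((EtTens.tensorBi.obj F).obj G).obj :=
  toSheafify X.smallEtaleTopology (EtTens.tensorObj F.obj G.obj)

instance (F G : EtCoh.Ab X) : Presheaf.IsLocallyInjective X.smallEtaleTopology (toTens F G) :=
  inferInstanceAs (Presheaf.IsLocallyInjective X.smallEtaleTopology
    (toSheafify X.smallEtaleTopology (EtTens.tensorObj F.obj G.obj)))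

instance (F G : EtCoh.Ab X) : Presheaf.IsLocallySurjective X.smallEtaleTopology (toTens F G) :=
  inferInstanceAs (Presheaf.IsLocallySurjective X.smallEtaleTopology
    (toSheafify X.smallEtaleTopology (EtTens.tensorObj F.obj G.obj)))

theorem toTens_map (F G : EtCoh.Ab X) {U V : X.Etale} (g : V ⟶ U)
    (x : (F.obj.obj (op U) : AddCommGrpCat.{u + 1}) ⊗[ℤ]
      (G.obj.obj (op U) : AddCommGrpCat.{u + 1})) :
    ((EtTens.tensorBi.obj F).obj G).obj.map g.op ((toTens F G).app (op U) x) =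
      (toTens F G).app (op V) ((EtTens.tensorObj F.obj G.obj).map g.op x) :=
  (NatTrans.naturality_apply (toTens F G) g.op x).symm

theorem toTens_map_tmul (F G : EtCoh.Ab X) {U V : X.Etale} (g : V ⟶ U)
    (s : F.obj.obj (op U)) (t : G.obj.obj (op U)) :
    ((EtTens.tensorBi.obj F).obj G).obj.map g.op ((toTens F G).app (op U)
      ((s ⊗ₜ[ℤ] t : (F.obj.obj (op U) : AddCommGrpCat.{u + 1}) ⊗[ℤ]
        (G.obj.obj (op U) : AddCommGrpCat.{u + 1})))) =
      (toTens F G).app (op V)
        ((F.obj.map g.op s ⊗ₜ[ℤ] G.obj.map g.op t :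
          (F.obj.obj (op V) : AddCommGrpCat.{u + 1}) ⊗[ℤ]
            (G.obj.obj (op V) : AddCommGrpCat.{u + 1}))) :=
  toTens_map F G g _

theorem sectSupp_toTens_tmul_subset (F G : EtCoh.Ab X) (U : X.Etale)
    (s : F.obj.obj (op U)) (t : G.obj.obj (op U)) :
    EtShriek.sectSupp ((EtTens.tensorBi.obj F).obj G) U ((toTens F G).app (op U)
      ((s ⊗ₜ[ℤ] t : (F.obj.obj (op U) : AddCommGrpCat.{u + 1}) ⊗[ℤ]
        (G.obj.obj (op U) : AddCommGrpCat.{u + 1})))) ⊆ EtShriek.sectSupp F U s := by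
  intro x hx
  by_contra hcon
  rw [not_mem_sectSupp_iff] at hcon
  obtain ⟨W, g, hxr, h0⟩ := hcon
  refine (not_mem_sectSupp_iff _ U _ x).2 ⟨W, g, hxr, ?_⟩ hx
  rw [toTens_map_tmul, h0, zero_tmul, map_zero]

/-- every section of the tensor product sheaf is locally in the image of the presheaf tensor
product -/
theorem exists_local_toTens (F G : EtCoh.Ab X) (U : X.Etale)
    (s : ((EtTens.tensorBi.obj F).obj G).obj.obj (op U)) (x : U.left) :
    ∃ (V : X.Etale) (g : V ⟶ U), x ∈ Set.range g.left ∧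
      ∃ y : (F.obj.obj (op V) : AddCommGrpCat.{u + 1}) ⊗[ℤ]
          (G.obj.obj (op V) : AddCommGrpCat.{u + 1}),
        (toTens F G).app (op V) y = ((EtTens.tensorBi.obj F).obj G).obj.map g.op s := by
  have hmem := Presheaf.imageSieve_mem X.smallEtaleTopology (toTens F G) s
  obtain ⟨V, g, ⟨y, hy⟩, hv⟩ := exists_of_mem_smallEtaleTopology _ hmem x
  exact ⟨V, g, hv, y, hy⟩

section Stalk

variable {K : Type u} [Field K] [IsSepClosed K] (ξ : Spec (CommRingCat.of K) ⟶ X)
  (F G : EtCoh.Ab X)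

/-- the canonical map `F_ξ ⊗ G_ξ ⟶ (F ⊗ G)_ξ` -/
noncomputable def TT :
    ((Scheme.pointSmallEtale ξ).presheafFiber.obj F.obj : AddCommGrpCat.{u + 1}) ⊗[ℤ]
      ((Scheme.pointSmallEtale ξ).presheafFiber.obj G.obj : AddCommGrpCat.{u + 1}) →+
      ((Scheme.pointSmallEtale ξ).presheafFiber.obj ((EtTens.tensorBi.obj F).obj G).obj :
        AddCommGrpCat.{u + 1}) :=
  ((Scheme.pointSmallEtale ξ).presheafFiber.map (toTens F G)).hom.comp (mu ξ F.obj G.obj)

theorem TT_tmul_germ (W : X.Etale) (w : (Scheme.pointSmallEtale ξ).fiber.obj W)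
    (p : F.obj.obj (op W)) (q : G.obj.obj (op W)) :
    TT ξ F G ((Scheme.pointSmallEtale ξ).toPresheafFiber W w F.obj p ⊗ₜ[ℤ]
      (Scheme.pointSmallEtale ξ).toPresheafFiber W w G.obj q) =
    (Scheme.pointSmallEtale ξ).toPresheafFiber W w ((EtTens.tensorBi.obj F).obj G).obj
      ((toTens F G).app (op W)
        ((p ⊗ₜ[ℤ] q : (F.obj.obj (op W) : AddCommGrpCat.{u + 1}) ⊗[ℤ]
          (G.obj.obj (op W) : AddCommGrpCat.{u + 1})))) := by
  show (Scheme.pointSmallEtale ξ).presheafFiber.map (toTens F G)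
    (mu ξ F.obj G.obj ((Scheme.pointSmallEtale ξ).toPresheafFiber W w F.obj p ⊗ₜ[ℤ]
      (Scheme.pointSmallEtale ξ).toPresheafFiber W w G.obj q)) = _
  rw [mu_tmul_germ]
  exact (Scheme.pointSmallEtale ξ).toPresheafFiber_naturality_apply (toTens F G) W w _

theorem TT_bijective : Function.Bijective (TT ξ F G) := by
  have h1 := (Scheme.pointSmallEtale ξ).toPresheafFiber_map_bijective (toTens F G)
  exact h1.comp (mu_bijective ξ F.obj G.obj)

end Stalk

end Groth.Agent.Lib.EtTensH7
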