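import Mathlib
import Groth.Agent.Lib.EtTens2_helper7

/-!
# The projection morphism `f_! F ⊗ G ⟶ f_!(F ⊗ f⁻¹G)` (helper7)
-/

set_option autoImplicit false
set_option backward.isDefEq.respectTransparency false
set_option linter.style.haveILetI false
set_option linter.unusedSectionVars false
universe u
open CategoryTheory CategoryTheory.Limits AlgebraicGeometry Opposite TensorProduct

namespace Groth.Agent.Lib.EtTensH7

open Groth.Agent.Lib.EtSchExact_helper7 Groth.Agent.Lib.EtShriekH7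
  Groth.Agent.Lib.EtTraceH7
open Groth.Agent.Lib.EtFlasque_helper7 (app_map_apply map_id_apply app_comp_apply)

section General

variable {X : Scheme.{u}}

/-- the adjunct of a presheaf morphism into a sheaf -/
noncomputable def sheafLift (P : X.Etaleᵒᵖ ⥤ AddCommGrpCat.{u + 1}) (S : EtCoh.Ab X)
    (a : P ⟶ S.obj) :
    (presheafToSheaf X.smallEtaleTopology AddCommGrpCat.{u + 1}).obj P ⟶ S :=
  ((sheafificationAdjunction X.smallEtaleTopology AddCommGrpCat.{u + 1}).homEquiv P S).symm a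

theorem toSheafify_sheafLift (P : X.Etaleᵒᵖ ⥤ AddCommGrpCat.{u + 1}) (S : EtCoh.Ab X)
    (a : P ⟶ S.obj) :
    toSheafify X.smallEtaleTopology P ≫ (sheafLift P S a).hom = a := by
  have h := (sheafificationAdjunction X.smallEtaleTopology AddCommGrpCat.{u + 1}).homEquiv_unit
    (X := P) (Y := S) (f := sheafLift P S a)
  exact h.symm.trans (Equiv.apply_symm_apply _ _)

end General

section Proj

variable {X Y : Scheme.{u}} (f : X ⟶ Y) (F : EtCoh.Ab X) (G : EtCoh.Ab Y)

/-- `f⁻¹ G` -/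
noncomputable abbrev PG : EtCoh.Ab X := (EtCoh.pull f).obj G

/-- `F ⊗ f⁻¹ G` -/
noncomputable abbrev HH : EtCoh.Ab X := (EtTens.tensorBi.obj F).obj (PG f G)

/-- `f_! F ⊗ G` -/
noncomputable abbrev AA : EtCoh.Ab Y :=
  (EtTens.tensorBi.obj ((EtShriek.lowerShriek f).obj F)).obj G

/-- `f_!(F ⊗ f⁻¹ G)` -/
noncomputable abbrev BB : EtCoh.Ab Y := (EtShriek.lowerShriek f).obj (HH f F G)

/-- the unit `G ⟶ f_* f⁻¹ G` -/
noncomputable abbrev unitG : G ⟶ (EtCoh.push f).obj (PG f G) := (EtCoh.pullPushAdj f).unit.app G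

noncomputable def toPushHom (V : Y.Etale) :
    (((EtShriek.lowerShriek f).obj F).obj.obj (op V) : AddCommGrpCat.{u + 1}) →+
      (F.obj.obj (op ((EtCoh.bc f).obj V)) : AddCommGrpCat.{u + 1}) :=
  ((EtShriek.lowerShriekToPush f F).hom.app (op V)).hom

theorem toPushHom_apply (V : Y.Etale) (s : ((EtShriek.lowerShriek f).obj F).obj.obj (op V)) :
    toPushHom f F V s = (EtShriek.lowerShriekToPush f F).hom.app (op V) s := rfl

noncomputable def unitHom (V : Y.Etale) :
    (G.obj.obj (op V) : AddCommGrpCat.{u + 1}) →+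
      ((PG f G).obj.obj (op ((EtCoh.bc f).obj V)) : AddCommGrpCat.{u + 1}) :=
  ((unitG f G).hom.app (op V)).hom

theorem unitHom_apply (V : Y.Etale) (t : G.obj.obj (op V)) :
    unitHom f G V t = (unitG f G).hom.app (op V) t := rfl

/-- the projection map on sections of the presheaf tensor product -/
noncomputable def psi0Hom (V : Y.Etale) :
    (((EtShriek.lowerShriek f).obj F).obj.obj (op V) : AddCommGrpCat.{u + 1}) ⊗[ℤ]
        (G.obj.obj (op V) : AddCommGrpCat.{u + 1}) →+
      ((HH f F G).obj.obj (op ((EtCoh.bc f).obj V)) : AddCommGrpCat.{u + 1}) :=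
  ((toTens F (PG f G)).app (op ((EtCoh.bc f).obj V))).hom.comp
    (TensorProduct.map (toPushHom f F V).toIntLinearMap
      (unitHom f G V).toIntLinearMap).toAddMonoidHom

theorem psi0Hom_tmul (V : Y.Etale) (s : ((EtShriek.lowerShriek f).obj F).obj.obj (op V))
    (t : G.obj.obj (op V)) :
    psi0Hom f F G V (s ⊗ₜ[ℤ] t) =
      (toTens F (PG f G)).app (op ((EtCoh.bc f).obj V))
        ((toPushHom f F V s ⊗ₜ[ℤ] unitHom f G V t :
          (F.obj.obj (op ((EtCoh.bc f).obj V)) : AddCommGrpCat.{u + 1}) ⊗[ℤ]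
            ((PG f G).obj.obj (op ((EtCoh.bc f).obj V)) : AddCommGrpCat.{u + 1}))) := rfl

theorem psi0Hom_map {V V' : Y.Etale} (g : V' ⟶ V)
    (x : (((EtShriek.lowerShriek f).obj F).obj.obj (op V) : AddCommGrpCat.{u + 1}) ⊗[ℤ]
        (G.obj.obj (op V) : AddCommGrpCat.{u + 1})) :
    psi0Hom f F G V' ((EtTens.tensorObj ((EtShriek.lowerShriek f).obj F).obj G.obj).map g.op x) =
      (HH f F G).obj.map ((EtCoh.bc f).map g).op (psi0Hom f F G V x) := by
  induction x using TensorProduct.induction_on with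
  | zero => rw [map_zero, map_zero, map_zero, map_zero]
  | tmul s t =>
    have e1 : (EtTens.tensorObj ((EtShriek.lowerShriek f).obj F).obj G.obj).map g.op
        ((s ⊗ₜ[ℤ] t : (((EtShriek.lowerShriek f).obj F).obj.obj (op V) :
          AddCommGrpCat.{u + 1}) ⊗[ℤ] (G.obj.obj (op V) : AddCommGrpCat.{u + 1}))) =
        (((EtShriek.lowerShriek f).obj F).obj.map g.op s ⊗ₜ[ℤ] G.obj.map g.op t :
          (((EtShriek.lowerShriek f).obj F).obj.obj (op V') : AddCommGrpCat.{u + 1}) ⊗[ℤ]
            (G.obj.obj (op V') : AddCommGrpCat.{u + 1})) := rfl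
    rw [e1, psi0Hom_tmul, psi0Hom_tmul, toTens_map_tmul]
    have h1 : toPushHom f F V' (((EtShriek.lowerShriek f).obj F).obj.map g.op s) =
        F.obj.map ((EtCoh.bc f).map g).op (toPushHom f F V s) :=
      app_map_apply (EtShriek.lowerShriekToPush f F) g s
    have h2 : unitHom f G V' (G.obj.map g.op t) =
        (PG f G).obj.map ((EtCoh.bc f).map g).op (unitHom f G V t) :=
      app_map_apply (unitG f G) g t
    rw [h1, h2]
  | add x y hx hy => rw [map_add, map_add, map_add, map_add, hx, hy]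

/-- the projection map as a morphism of presheaves -/
noncomputable def psi0 :
    EtTens.tensorObj ((EtShriek.lowerShriek f).obj F).obj G.obj ⟶
      ((EtCoh.push f).obj (HH f F G)).obj where
  app V := AddCommGrpCat.ofHom (psi0Hom f F G V.unop)
  naturality V V' φ := by
    obtain ⟨V⟩ := V
    obtain ⟨V'⟩ := V'
    obtain ⟨g, rfl⟩ : ∃ g : V' ⟶ V, φ = g.op := ⟨φ.unop, rfl⟩
    ext x
    exact psi0Hom_map f F G g x

theorem psi0_app_apply (V : Y.Etale)
    (x : (((EtShriek.lowerShriek f).obj F).obj.obj (op V) : AddCommGrpCat.{u + 1}) ⊗[ℤ]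
        (G.obj.obj (op V) : AddCommGrpCat.{u + 1})) :
    (psi0 f F G).app (op V) x = psi0Hom f F G V x := rfl

/-- the projection map `f_! F ⊗ G ⟶ f_*(F ⊗ f⁻¹ G)` -/
noncomputable def psi : AA f F G ⟶ (EtCoh.push f).obj (HH f F G) :=
  sheafLift _ _ (psi0 f F G)

theorem psi_toTens (V : Y.Etale)
    (x : (((EtShriek.lowerShriek f).obj F).obj.obj (op V) : AddCommGrpCat.{u + 1}) ⊗[ℤ]
        (G.obj.obj (op V) : AddCommGrpCat.{u + 1})) :
    (psi f F G).hom.app (op V) ((toTens ((EtShriek.lowerShriek f).obj F) G).app (op V) x) =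
      psi0Hom f F G V x := by
  have h := toSheafify_sheafLift
    (EtTens.tensorObj ((EtShriek.lowerShriek f).obj F).obj G.obj)
    ((EtCoh.push f).obj (HH f F G)) (psi0 f F G)
  have h2 := congrArg (fun (m : EtTens.tensorObj ((EtShriek.lowerShriek f).obj F).obj G.obj ⟶
    ((EtCoh.push f).obj (HH f F G)).obj) => m.app (op V)) h
  exact (comp2_apply _ _ _ h2 x).trans rfl

variable [LocallyOfFiniteType f]

theorem psi0Hom_mem (V : Y.Etale)
    (x : (((EtShriek.lowerShriek f).obj F).obj.obj (op V) : AddCommGrpCat.{u + 1}) ⊗[ℤ]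
        (G.obj.obj (op V) : AddCommGrpCat.{u + 1})) :
    psi0Hom f F G V x ∈ EtShriek.shriekSubgroup f (HH f F G) V := by
  induction x using TensorProduct.induction_on with
  | zero =>
    rw [map_zero]
    exact zero_mem _
  | tmul s t =>
    rw [psi0Hom_tmul]
    have hs : toPushHom f F V s ∈ EtShriek.shriekSubgroup f F V := toPush_mem f F V s
    obtain ⟨Z, hZ, hp⟩ := (shriekPred_iff f F V _).1 ((mem_shriekSubgroup_iff f F V _).1 hs)
    exact (mem_shriekSubgroup_iff f _ V _).2 ((shriekPred_iff f _ V _).2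
      ⟨Z, (sectSupp_toTens_tmul_subset F (PG f G) _ _ _).trans hZ, hp⟩)
  | add x y hx hy =>
    rw [map_add]
    exact add_mem hx hy

theorem exists_Phi :
    ∃ k : AA f F G ⟶ BB f F G,
      k ≫ EtShriek.lowerShriekToPush f (HH f F G) = psi f F G := by
  apply exists_factor_of_local
  intro V s v
  obtain ⟨V', g, hv, y, hy⟩ := exists_local_toTens ((EtShriek.lowerShriek f).obj F) G V s v
  refine ⟨V', g, hv, ?_⟩
  obtain ⟨s', hs'⟩ := exists_toPush_eq f (HH f F G) V' (psi0Hom f F G V' y)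
    (psi0Hom_mem f F G V' y)
  refine ⟨s', ?_⟩
  refine hs'.trans ?_
  refine Eq.trans ?_ (app_map_apply (psi f F G) g s)
  rw [← hy]
  exact (psi_toTens f F G V' y).symm

/-- the projection morphism `f_! F ⊗ G ⟶ f_!(F ⊗ f⁻¹ G)` -/
noncomputable def Phi : AA f F G ⟶ BB f F G := (exists_Phi f F G).choose

theorem Phi_toPush : Phi f F G ≫ EtShriek.lowerShriekToPush f (HH f F G) = psi f F G :=
  (exists_Phi f F G).choose_spec

theorem toPush_Phi_toTens_tmul (V : Y.Etale)
    (s : ((EtShriek.lowerShriek f).obj F).obj.obj (op V)) (t : G.obj.obj (op V)) :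
    (EtShriek.lowerShriekToPush f (HH f F G)).hom.app (op V)
      ((Phi f F G).hom.app (op V) ((toTens ((EtShriek.lowerShriek f).obj F) G).app (op V)
        ((s ⊗ₜ[ℤ] t : (((EtShriek.lowerShriek f).obj F).obj.obj (op V) :
          AddCommGrpCat.{u + 1}) ⊗[ℤ] (G.obj.obj (op V) : AddCommGrpCat.{u + 1}))))) =
      (toTens F (PG f G)).app (op ((EtCoh.bc f).obj V))
        ((toPushHom f F V s ⊗ₜ[ℤ] unitHom f G V t :
          (F.obj.obj (op ((EtCoh.bc f).obj V)) : AddCommGrpCat.{u + 1}) ⊗[ℤ]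
            ((PG f G).obj.obj (op ((EtCoh.bc f).obj V)) : AddCommGrpCat.{u + 1}))) := by
  refine (app_comp_apply (Phi f F G) (EtShriek.lowerShriekToPush f (HH f F G)) V _).symm.trans ?_
  rw [Phi_toPush, psi_toTens, psi0Hom_tmul]

end Proj

end Groth.Agent.Lib.EtTensH7
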