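import Mathlib

/-!
# An algebraic lemma: tensoring a "finitely supported product" decomposition (helper7)
-/

set_option autoImplicit false
set_option backward.isDefEq.respectTransparency false
set_option linter.style.haveILetI false
set_option linter.unusedSectionVars false
open TensorProduct DirectSum

namespace Groth.Agent.Lib.EtTensH7

universe a b c d

theorem mem_range_coe_iff {ι : Type a} (Hi : ι → Type b) [∀ i, AddCommGroup (Hi i)]
    (c : ∀ i, Hi i) :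
    c ∈ (DFinsupp.coeFnAddMonoidHom (β := Hi)).range ↔ {i | c i ≠ 0}.Finite := by
  classical
  constructor
  · rintro ⟨d, rfl⟩
    exact DFinsupp.finite_support d
  · intro hfin
    refine ⟨DFinsupp.mk (β := Hi) hfin.toFinset (fun i => c i.1), ?_⟩
    funext i
    show (DFinsupp.mk (β := Hi) hfin.toFinset (fun i => c i.1)) i = c i
    rw [DFinsupp.mk_apply]
    split_ifs with hmem
    · rfl
    · by_contra hne
      exact hmem (hfin.mem_toFinset.2 (fun h0 => hne h0.symm))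

theorem alg_key {ι : Type a} {M : Type b} {N : Type c} [AddCommGroup M] [AddCommGroup N]
    (Mi : ι → Type d) [∀ i, AddCommGroup (Mi i)]
    (φ : M →+ ∀ i, Mi i) (hφ : Function.Injective φ)
    (hr : φ.range = (DFinsupp.coeFnAddMonoidHom (β := Mi)).range) :
    ∃ κ : M ⊗[ℤ] N →+ ∀ i, (Mi i ⊗[ℤ] N),
      (∀ m n i, κ (m ⊗ₜ[ℤ] n) i = φ m i ⊗ₜ[ℤ] n) ∧ Function.Injective κ ∧
      ∀ c : ∀ i, (Mi i ⊗[ℤ] N), (c ∈ κ.range ↔ {i | c i ≠ 0}.Finite) := by
  classical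
  obtain ⟨c₀, hc₀def⟩ : ∃ c₀ : (⨁ i, Mi i) →+ ∀ i, Mi i,
      c₀ = DFinsupp.coeFnAddMonoidHom (β := Mi) := ⟨_, rfl⟩
  have hc₀ : Function.Injective c₀ := by
    rw [hc₀def]
    exact DFunLike.coe_injective
  have hr' : φ.range = c₀.range := by rw [hc₀def]; exact hr
  obtain ⟨e, he⟩ : ∃ e : M ≃+ (⨁ i, Mi i), ∀ m, c₀ (e m) = φ m := by
    refine ⟨(AddMonoidHom.ofInjective hφ).trans ((AddEquiv.addSubgroupCongr hr').trans
      (AddMonoidHom.ofInjective hc₀).symm), ?_⟩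
    intro m
    obtain ⟨y, hy⟩ : ∃ y : c₀.range,
        y = (AddEquiv.addSubgroupCongr hr') (AddMonoidHom.ofInjective hφ m) := ⟨_, rfl⟩
    have h1 : ((AddMonoidHom.ofInjective hc₀) ((AddMonoidHom.ofInjective hc₀).symm y) :
        ∀ i, Mi i) = c₀ ((AddMonoidHom.ofInjective hc₀).symm y) :=
      AddMonoidHom.ofInjective_apply hc₀
    rw [AddEquiv.apply_symm_apply] at h1
    have h2 : (y : ∀ i, Mi i) = φ m := by
      rw [hy]
      exact AddMonoidHom.ofInjective_apply hφ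
    show c₀ ((AddMonoidHom.ofInjective hc₀).symm
      ((AddEquiv.addSubgroupCongr hr') (AddMonoidHom.ofInjective hφ m))) = φ m
    rw [← hy, ← h1, h2]
  have he' : ∀ m i, (e m) i = φ m i := by
    intro m i
    have h := congrFun (he m) i
    rw [hc₀def] at h
    exact h
  obtain ⟨κ₀, hκ₀⟩ : ∃ κ₀ : M ⊗[ℤ] N ≃ₗ[ℤ] ⨁ i, Mi i ⊗[ℤ] N,
      κ₀ = (TensorProduct.congr e.toIntLinearEquiv (LinearEquiv.refl ℤ N)).trans
        (TensorProduct.directSumLeft ℤ ℤ Mi N) := ⟨_, rfl⟩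
  have hκ₀_tmul : ∀ m n i, (κ₀ (m ⊗ₜ[ℤ] n)) i = φ m i ⊗ₜ[ℤ] n := by
    intro m n i
    rw [hκ₀]
    show (TensorProduct.directSumLeft ℤ ℤ Mi N
      ((TensorProduct.congr e.toIntLinearEquiv (LinearEquiv.refl ℤ N)) (m ⊗ₜ[ℤ] n))) i = _
    rw [TensorProduct.congr_tmul, TensorProduct.directSumLeft_tmul]
    show (e m) i ⊗ₜ[ℤ] n = _
    rw [he']
  obtain ⟨c₁, hc₁def⟩ : ∃ c₁ : (⨁ i, Mi i ⊗[ℤ] N) →+ ∀ i, (Mi i ⊗[ℤ] N),
      c₁ = DFinsupp.coeFnAddMonoidHom (β := fun i => Mi i ⊗[ℤ] N) := ⟨_, rfl⟩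
  have hc₁ : Function.Injective c₁ := by
    rw [hc₁def]
    exact DFunLike.coe_injective
  refine ⟨c₁.comp κ₀.toLinearMap.toAddMonoidHom, ?_, ?_, ?_⟩
  · intro m n i
    show c₁ (κ₀ (m ⊗ₜ[ℤ] n)) i = _
    rw [hc₁def]
    exact hκ₀_tmul m n i
  · intro x y hxy
    exact κ₀.injective (hc₁ hxy)
  · intro c
    rw [← mem_range_coe_iff (fun i => Mi i ⊗[ℤ] N) c, ← hc₁def]
    constructor
    · rintro ⟨x, rfl⟩
      exact ⟨κ₀ x, rfl⟩
    · rintro ⟨dd, rfl⟩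
      refine ⟨κ₀.symm dd, ?_⟩
      show c₁ (κ₀ (κ₀.symm dd)) = c₁ dd
      rw [LinearEquiv.apply_symm_apply]

/-- the abstract bijectivity criterion -/
theorem alg_bijective {ι : Type a} {M : Type b} {N : Type c} {B : Type d}
    [AddCommGroup M] [AddCommGroup N] [AddCommGroup B]
    (Mi : ι → Type d) [∀ i, AddCommGroup (Mi i)] (Hi : ι → Type d) [∀ i, AddCommGroup (Hi i)]
    (φ : M →+ ∀ i, Mi i) (hφ : Function.Injective φ)
    (hr : φ.range = (DFinsupp.coeFnAddMonoidHom (β := Mi)).range)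
    (ψ : B →+ ∀ i, Hi i) (hψ : Function.Injective ψ)
    (hrψ : ψ.range = (DFinsupp.coeFnAddMonoidHom (β := Hi)).range)
    (τ : ∀ i, Mi i ⊗[ℤ] N →+ Hi i) (hτ : ∀ i, Function.Bijective (τ i))
    (Θ : M ⊗[ℤ] N →+ B)
    (hΘ : ∀ m n i, ψ (Θ (m ⊗ₜ[ℤ] n)) i = τ i (φ m i ⊗ₜ[ℤ] n)) :
    Function.Bijective Θ := by
  obtain ⟨κ, hκ, hκinj, hκrange⟩ := alg_key (N := N) Mi φ hφ hr
  have hcomp : ∀ x i, ψ (Θ x) i = τ i (κ x i) := by
    intro x i
    induction x using TensorProduct.induction_on with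
    | zero => rw [map_zero, map_zero, map_zero, Pi.zero_apply, Pi.zero_apply, map_zero]
    | tmul m n => rw [hΘ, hκ]
    | add x y hx hy => rw [map_add, map_add, map_add, Pi.add_apply, Pi.add_apply, map_add, hx, hy]
  constructor
  · rw [injective_iff_map_eq_zero]
    intro x hx
    apply (injective_iff_map_eq_zero κ).1 hκinj
    funext i
    apply (hτ i).1
    rw [← hcomp, hx, map_zero, Pi.zero_apply, Pi.zero_apply, map_zero]
  · intro bb
    have hfin : {i | ψ bb i ≠ 0}.Finite := by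
      rw [← mem_range_coe_iff Hi (ψ bb), ← hrψ]
      exact ⟨bb, rfl⟩
    obtain ⟨cc, hcc⟩ : ∃ cc : ∀ i, Mi i ⊗[ℤ] N, ∀ i, τ i (cc i) = ψ bb i :=
      ⟨fun i => ((hτ i).2 (ψ bb i)).choose, fun i => ((hτ i).2 (ψ bb i)).choose_spec⟩
    have hccfin : {i | cc i ≠ 0}.Finite := by
      refine hfin.subset ?_
      intro i hi h0
      apply hi
      apply (hτ i).1
      rw [hcc, h0, map_zero]
    obtain ⟨x, hx⟩ := (hκrange cc).2 hccfin
    refine ⟨x, ?_⟩
    apply hψ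
    funext i
    rw [hcomp, hx, hcc]

end Groth.Agent.Lib.EtTensH7
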