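import Mathlib
import Groth.Agent.Lib.EtTens3_helper7
import Groth.Agent.Lib.EtTens4_helper7
import Groth.Agent.Lib.EtShriek9_helper7
import Groth.Agent.Lib.EtPullStalkGerm_helper7

/-!
# The projection formula for `f_!` along a separated locally quasi-finite morphism (helper7)
-/

set_option autoImplicit false
set_option backward.isDefEq.respectTransparency false
set_option linter.style.haveILetI false
set_option linter.unusedSectionVars false
universe u
open CategoryTheory CategoryTheory.Limits AlgebraicGeometry Opposite TensorProduct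

namespace Groth.Agent.Lib.EtTensH7

open Groth.Agent.Lib.EtSchExact_helper7 Groth.Agent.Lib.EtShriekH7
  Groth.Agent.Lib.EtTraceH7 Groth.Agent.Lib.EtFinGeomH7 Groth.Agent.Lib.EtSchStalk_helper7
open Groth.Agent.Lib.EtFlasque_helper7 (app_map_apply map_id_apply app_comp_apply)

section Alg

theorem map_id_bijective {A B C : Type*} [AddCommGroup A] [AddCommGroup B] [AddCommGroup C]
    (g : B →+ C) (hg : Function.Bijective g) :
    Function.Bijective (TensorProduct.map (LinearMap.id : A →ₗ[ℤ] A) g.toIntLinearMap) := by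
  obtain ⟨e, he⟩ : ∃ e : B ≃ₗ[ℤ] C, ∀ b, e b = g b :=
    ⟨(AddEquiv.ofBijective g hg).toIntLinearEquiv, fun b => rfl⟩
  have h : TensorProduct.map (LinearMap.id : A →ₗ[ℤ] A) g.toIntLinearMap =
      (TensorProduct.congr (LinearEquiv.refl ℤ A) e).toLinearMap := by
    apply TensorProduct.ext'
    intro a b
    show a ⊗ₜ[ℤ] g b = (TensorProduct.congr (LinearEquiv.refl ℤ A) e) (a ⊗ₜ[ℤ] b)
    rw [TensorProduct.congr_tmul, he]
    rfl
  rw [h]
  exact (TensorProduct.congr (LinearEquiv.refl ℤ A) e).bijective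

end Alg

variable {X Y : Scheme.{u}} (f : X ⟶ Y) {Ω : Type u} [Field Ω] [IsAlgClosed Ω]

section PGerm

variable (G : EtCoh.Ab Y) {η : Spec (CommRingCat.of Ω) ⟶ Y}

/-- the identification `G_η ≅ (f⁻¹G)_ξ` for a lift `ξ` of `η` -/
noncomputable def pg (ξ : Spec (CommRingCat.of Ω) ⟶ X) (hξ : ξ ≫ f = η) :
    (Scheme.pointSmallEtale η).presheafFiber.obj G.obj ⟶
      (Scheme.pointSmallEtale ξ).presheafFiber.obj (PG f G).obj := by
  subst hξ
  exact (EtStalkPull.stalkPullIso f ξ).inv.app G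

theorem pg_bijective (ξ : Spec (CommRingCat.of Ω) ⟶ X) (hξ : ξ ≫ f = η) :
    Function.Bijective (pg f G ξ hξ) := by
  subst hξ
  haveI : IsIso (pg f G ξ rfl) :=
    inferInstanceAs (IsIso ((EtStalkPull.stalkPullIso f ξ).inv.app G))
  exact ConcreteCategory.bijective_of_isIso _

theorem pg_germ (ξ : Spec (CommRingCat.of Ω) ⟶ X) (hξ : ξ ≫ f = η) (U : Y.Etale)
    (u : (Scheme.pointSmallEtale η).fiber.obj U) (t : G.obj.obj (op U)) :
    pg f G ξ hξ ((Scheme.pointSmallEtale η).toPresheafFiber U u G.obj t) =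
      (Scheme.pointSmallEtale ξ).toPresheafFiber ((EtCoh.bc f).obj U) (liftPt f ξ hξ U u)
        (PG f G).obj (unitHom f G U t) := by
  subst hξ
  have h := stalkPullIso_inv_germ f ξ G (PG f G) (𝟙 _) U u t
  rw [CategoryTheory.Functor.map_id, Adjunction.homEquiv_id] at h
  exact h

end PGerm

section Main

variable [IsSeparated f] [LocallyOfFiniteType f] [LocallyQuasiFinite f]
  (F : EtCoh.Ab X) (G : EtCoh.Ab Y) (η : Spec (CommRingCat.of Ω) ⟶ Y)

/-- the componentwise comparison `F_ξ ⊗ G_η ⟶ (F ⊗ f⁻¹G)_ξ` -/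
noncomputable def tauC (ξ : {ξ : Spec (CommRingCat.of Ω) ⟶ X // ξ ≫ f = η}) :
    ((Scheme.pointSmallEtale ξ.1).presheafFiber.obj F.obj : AddCommGrpCat.{u + 1}) ⊗[ℤ]
      ((Scheme.pointSmallEtale η).presheafFiber.obj G.obj : AddCommGrpCat.{u + 1}) →+
      ((Scheme.pointSmallEtale ξ.1).presheafFiber.obj (HH f F G).obj : AddCommGrpCat.{u + 1}) :=
  (TT ξ.1 F (PG f G)).comp
    (TensorProduct.map (LinearMap.id : ((Scheme.pointSmallEtale ξ.1).presheafFiber.obj F.obj :
        AddCommGrpCat.{u + 1}) →ₗ[ℤ] _) (pg f G ξ.1 ξ.2).hom.toIntLinearMap).toAddMonoidHom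

theorem tauC_tmul (ξ : {ξ : Spec (CommRingCat.of Ω) ⟶ X // ξ ≫ f = η})
    (a : ((Scheme.pointSmallEtale ξ.1).presheafFiber.obj F.obj : AddCommGrpCat.{u + 1}))
    (b : ((Scheme.pointSmallEtale η).presheafFiber.obj G.obj : AddCommGrpCat.{u + 1})) :
    tauC f F G η ξ (a ⊗ₜ[ℤ] b) = TT ξ.1 F (PG f G) (a ⊗ₜ[ℤ] pg f G ξ.1 ξ.2 b) := rfl

theorem tauC_bijective (ξ : {ξ : Spec (CommRingCat.of Ω) ⟶ X // ξ ≫ f = η}) :
    Function.Bijective (tauC f F G η ξ) :=
  (TT_bijective ξ.1 F (PG f G)).comp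
    (map_id_bijective (pg f G ξ.1 ξ.2).hom (pg_bijective f G ξ.1 ξ.2))

/-- the stalk of the projection morphism, precomposed with the tensor comparison -/
noncomputable def ThetaM :
    ((Scheme.pointSmallEtale η).presheafFiber.obj ((EtShriek.lowerShriek f).obj F).obj :
        AddCommGrpCat.{u + 1}) ⊗[ℤ]
      ((Scheme.pointSmallEtale η).presheafFiber.obj G.obj : AddCommGrpCat.{u + 1}) →+
      ((Scheme.pointSmallEtale η).presheafFiber.obj (BB f F G).obj : AddCommGrpCat.{u + 1}) :=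
  ((Scheme.pointSmallEtale η).presheafFiber.map (Phi f F G).hom).hom.comp
    (TT η ((EtShriek.lowerShriek f).obj F) G)

theorem ThetaM_apply
    (x : ((Scheme.pointSmallEtale η).presheafFiber.obj ((EtShriek.lowerShriek f).obj F).obj :
        AddCommGrpCat.{u + 1}) ⊗[ℤ]
      ((Scheme.pointSmallEtale η).presheafFiber.obj G.obj : AddCommGrpCat.{u + 1})) :
    ThetaM f F G η x = (Scheme.pointSmallEtale η).presheafFiber.map (Phi f F G).hom
      (TT η ((EtShriek.lowerShriek f).obj F) G x) := rfl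

theorem key_formula
    (m : ((Scheme.pointSmallEtale η).presheafFiber.obj ((EtShriek.lowerShriek f).obj F).obj :
        AddCommGrpCat.{u + 1}))
    (n : ((Scheme.pointSmallEtale η).presheafFiber.obj G.obj : AddCommGrpCat.{u + 1}))
    (ξ : {ξ : Spec (CommRingCat.of Ω) ⟶ X // ξ ≫ f = η}) :
    phiPi f (HH f F G) η (ThetaM f F G η (m ⊗ₜ[ℤ] n)) ξ =
      tauC f F G η ξ (phiPi f F η m ξ ⊗ₜ[ℤ] n) := by
  obtain ⟨V, v, s, -, t, -, hs, -, ht, -⟩ :=
    exists_reps η ((EtShriek.lowerShriek f).obj F).obj G.obj m m n n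
  rw [← hs, ← ht, phiPi_apply, phiPi_apply, ThetaM_apply, TT_tmul_germ,
    (Scheme.pointSmallEtale η).toPresheafFiber_naturality_apply (Phi f F G).hom V v,
    phi_germ, phi_germ, toPush_Phi_toTens_tmul, tauC_tmul, pg_germ]
  exact (TT_tmul_germ ξ.1 F (PG f G) ((EtCoh.bc f).obj V) (liftPt f ξ.1 ξ.2 V v)
    (toPushHom f F V s) (unitHom f G V t)).symm

theorem ThetaM_bijective : Function.Bijective (ThetaM f F G η) :=
  alg_bijective
    (fun ξ : {ξ : Spec (CommRingCat.of Ω) ⟶ X // ξ ≫ f = η} =>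
      ((Scheme.pointSmallEtale ξ.1).presheafFiber.obj F.obj : AddCommGrpCat.{u + 1}))
    (fun ξ : {ξ : Spec (CommRingCat.of Ω) ⟶ X // ξ ≫ f = η} =>
      ((Scheme.pointSmallEtale ξ.1).presheafFiber.obj (HH f F G).obj : AddCommGrpCat.{u + 1}))
    (phiPi f F η) (phiPi_injective f F η) (phiPi_range f F η)
    (phiPi f (HH f F G) η) (phiPi_injective f (HH f F G) η) (phiPi_range f (HH f F G) η)
    (tauC f F G η) (tauC_bijective f F G η) (ThetaM f F G η) (key_formula f F G η)

theorem stalk_Phi_bijective :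
    Function.Bijective ((Scheme.pointSmallEtale η).presheafFiber.map (Phi f F G).hom) := by
  have h1 := ThetaM_bijective f F G η
  have h2 := TT_bijective η ((EtShriek.lowerShriek f).obj F) G
  exact (Function.Bijective.of_comp_iff _ h2).1 h1

end Main

section Final

variable [IsSeparated f] [LocallyOfFiniteType f] [LocallyQuasiFinite f]
  (F : EtCoh.Ab X) (G : EtCoh.Ab Y)

theorem isIso_Phi : IsIso (Phi f F G) := by
  haveI : Sheaf.IsLocallyInjective (Phi f F G) :=
    isLocallyInjective_of_stalks (Phi f F G).hom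
      (fun _ _ _ η => (stalk_Phi_bijective f F G η).1)
  haveI : Sheaf.IsLocallySurjective (Phi f F G) :=
    isLocallySurjective_of_stalks (Phi f F G).hom
      (fun _ _ _ η => (stalk_Phi_bijective f F G η).2)
  haveI : Mono (Phi f F G) := Sheaf.mono_of_isLocallyInjective _
  haveI : Epi (Phi f F G) := inferInstance
  exact isIso_of_mono_of_epi _

theorem main780 :
    Nonempty ((EtTens.tensorBi.obj ((EtShriek.lowerShriek f).obj F)).obj G ≅
      (EtShriek.lowerShriek f).obj ((EtTens.tensorBi.obj F).obj ((EtCoh.pull f).obj G))) := by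
  haveI := isIso_Phi f F G
  exact ⟨asIso (Phi f F G)⟩

end Final

end Groth.Agent.Lib.EtTensH7
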