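import Mathlib
import Groth.Agent.Lib.EtTrace7_helper7

/-!
# Period and index have the same prime factors (helper7)
-/

set_option autoImplicit false
set_option backward.isDefEq.respectTransparency false
set_option linter.style.haveILetI false
set_option linter.unusedSectionVars false
universe u
open CategoryTheory CategoryTheory.Limits AlgebraicGeometry Opposite Abelian

namespace Groth.Agent.Lib.EtTraceH7

open Groth.Agent.Lib.ExtNat_helper7 EtPullExact

section TwoStep

variable {X'' X' X : Scheme.{u}} (f : X'' ⟶ X') (w : X' ⟶ X)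

theorem Hpull_congr_zero {g g' : X' ⟶ X} (h : g = g') [PreservesFiniteLimits (EtCoh.pull g)]
    [PreservesFiniteLimits (EtCoh.pull g')] (F : EtCoh.Ab X) (q : ℕ) (α : EtCoh.H X F q)
    (h0 : EtCore.Hpull g F q α = 0) : EtCore.Hpull g' F q α = 0 := by
  subst h
  exact h0

theorem Hpull_Hpull_eq_zero [PreservesFiniteLimits (EtCoh.pull w)]
    [PreservesFiniteLimits (EtCoh.pull f)] [PreservesFiniteLimits (EtCoh.pull (f ≫ w))]
    (F : EtCoh.Ab X) (q : ℕ) (α : EtCoh.H X F q) (h : EtCore.Hpull (f ≫ w) F q α = 0) :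
    EtCore.Hpull f ((EtCoh.pull w).obj F) q (EtCore.Hpull w F q α) = 0 := by
  apply Hpull_eq_zero_of_mapExt
  have e : EtCore.Hpull w F q α = (Ext.mk₀ (EtCore.pullConst w ℤ).inv).comp
      (Ext.mapExactFunctor (EtCoh.pull w) α) (zero_add q) := rfl
  rw [e, Ext.mapExactFunctor_comp, Ext.mapExactFunctor_mk₀]
  have h0 := mapExt_eq_zero_of_Hpull (f ≫ w) F q α h
  have hn := ext_naturality (EtCoh.pull w) (EtCoh.pull f) (EtCoh.pull (f ≫ w))
    (EtCore.pullComp f w).inv q F α
  rw [h0, Ext.comp_zero] at hn
  haveI : IsIso ((EtCore.pullComp f w).inv.app F) := inferInstance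
  have h1 : Ext.mapExactFunctor (EtCoh.pull f) (Ext.mapExactFunctor (EtCoh.pull w) α) = 0 :=
    eq_zero_of_comp_mk₀_iso _ _ hn
  rw [h1, Ext.comp_zero]

end TwoStep

section Tower0

variable (K : Type u) [Field K] (L' : Type u) [Field L'] [Algebra K L'] (M : Type u) [Field M]
  [Algebra K M] [Algebra L' M] [IsScalarTower K L' M]

theorem specMap_tower' :
    Spec.map (CommRingCat.ofHom (algebraMap L' M)) ≫
      Spec.map (CommRingCat.ofHom (algebraMap K L')) =
    Spec.map (CommRingCat.ofHom (algebraMap K M)) := by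
  rw [← Spec.map_comp]
  congr 1
  ext x
  exact (IsScalarTower.algebraMap_apply K L' M x).symm

end Tower0

section Tower

variable (K : Type u) [Field K] (L' : Type u) [Field L'] [Algebra K L'] (M : Type u) [Field M]
  [Algebra K M] [Algebra L' M] [IsScalarTower K L' M] [FiniteDimensional L' M]
  [Algebra.IsSeparable L' M]

theorem specMap_tower :
    Spec.map (CommRingCat.ofHom (algebraMap L' M)) ≫
      Spec.map (CommRingCat.ofHom (algebraMap K L')) =
    Spec.map (CommRingCat.ofHom (algebraMap K M)) := by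
  rw [← Spec.map_comp]
  congr 1
  ext x
  exact (IsScalarTower.algebraMap_apply K L' M x).symm

theorem Hpull_tower_eq_zero (F : EtCoh.Ab (Spec (CommRingCat.of K))) (i : ℕ)
    (α : EtCoh.H (Spec (CommRingCat.of K)) F i)
    (h : EtCore.Hpull (Spec.map (CommRingCat.ofHom (algebraMap K M))) F i α = 0)
    (p a : ℕ) (hp : p.Prime) (hdeg : Module.finrank L' M = p ^ a)
    (hpα : ¬ p ∣ addOrderOf α) :
    EtCore.Hpull (Spec.map (CommRingCat.ofHom (algebraMap K L'))) F i α = 0 := by
  have h1 : EtCore.Hpull (Spec.map (CommRingCat.ofHom (algebraMap L' M)) ≫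
      Spec.map (CommRingCat.ofHom (algebraMap K L'))) F i α = 0 :=
    Hpull_congr_zero (specMap_tower K L' M).symm F i α h
  have h2 := Hpull_Hpull_eq_zero (Spec.map (CommRingCat.ofHom (algebraMap L' M)))
    (Spec.map (CommRingCat.ofHom (algebraMap K L'))) F i α h1
  have h3 := main13842 L' M _ i _ h2
  rw [hdeg] at h3
  have h4 : addOrderOf α • EtCore.Hpull (Spec.map (CommRingCat.ofHom (algebraMap K L'))) F i α =
      0 := by
    rw [← map_nsmul, addOrderOf_nsmul_eq_zero, map_zero]
  have hcop : Nat.Coprime (p ^ a) (addOrderOf α) :=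
    Nat.Coprime.pow_left a ((Nat.Prime.coprime_iff_not_dvd hp).2 hpα)
  exact eq_zero_of_coprime_nsmul _ _ _ hcop h3 h4

end Tower

section Galois

variable (K : Type u) [Field K]

theorem exists_galois_closure (L : Type u) [Field L] [Algebra K L] [FiniteDimensional K L]
    [Algebra.IsSeparable K L] :
    ∃ (M : Type u) (_ : Field M) (_ : Algebra K M) (_ : Algebra L M)
      (_ : IsScalarTower K L M) (_ : FiniteDimensional K M), IsGalois K M := by
  haveI : Algebra.IsSeparable K ↥(IntermediateField.normalClosure K L (AlgebraicClosure L)) := by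
    haveI : ∀ f : L →ₐ[K] AlgebraicClosure L, Algebra.IsSeparable K f.fieldRange :=
      fun f => AlgEquiv.Algebra.isSeparable (AlgHom.equivFieldRange f)
    show Algebra.IsSeparable K ↥(⨆ f : L →ₐ[K] AlgebraicClosure L, f.fieldRange)
    infer_instance
  exact ⟨↥(IntermediateField.normalClosure K L (AlgebraicClosure L)), inferInstance,
    inferInstance, inferInstance, inferInstance, inferInstance, {}⟩

theorem exists_sylow_fixed (M : Type u) [Field M] [Algebra K M] [FiniteDimensional K M]
    [IsGalois K M] (p : ℕ) [Fact p.Prime] :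
    ∃ L' : IntermediateField K M, ¬ p ∣ Module.finrank K L' ∧
      ∃ a : ℕ, Module.finrank L' M = p ^ a := by
  obtain ⟨P⟩ := (inferInstance : Nonempty (Sylow p Gal(M/K)))
  refine ⟨IntermediateField.fixedField (P : Subgroup Gal(M/K)), ?_, ?_⟩
  · have h1 : Module.finrank (IntermediateField.fixedField (P : Subgroup Gal(M/K))) M =
        Nat.card (P : Subgroup Gal(M/K)) :=
      IntermediateField.finrank_fixedField_eq_card _
    have h2 : Module.finrank K (IntermediateField.fixedField (P : Subgroup Gal(M/K))) *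
        Module.finrank (IntermediateField.fixedField (P : Subgroup Gal(M/K))) M =
        Module.finrank K M := Module.finrank_mul_finrank K _ M
    have h3 : Nat.card Gal(M/K) = Module.finrank K M := IsGalois.card_aut_eq_finrank K M
    have h4 : (P : Subgroup Gal(M/K)).index * Nat.card (P : Subgroup Gal(M/K)) =
        Nat.card Gal(M/K) := Subgroup.index_mul_card _
    have hpos : 0 < Nat.card (P : Subgroup Gal(M/K)) := Nat.card_pos
    have h5 : Module.finrank K (IntermediateField.fixedField (P : Subgroup Gal(M/K))) =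
        (P : Subgroup Gal(M/K)).index := by
      apply Nat.eq_of_mul_eq_mul_right hpos
      rw [h4, h3, ← h2, h1]
    rw [h5]
    exact P.not_dvd_index
  · obtain ⟨a, ha⟩ := IsPGroup.iff_card.1 P.isPGroup'
    exact ⟨a, (IntermediateField.finrank_fixedField_eq_card _).trans ha⟩

theorem main13843 (F : EtCoh.Ab (Spec (CommRingCat.of K))) (i : ℕ)
    (α : EtCoh.H (Spec (CommRingCat.of K)) F i) (L : Type u) [Field L] [Algebra K L]
    [FiniteDimensional K L] [Algebra.IsSeparable K L]
    [PreservesFiniteLimits (EtCoh.pull (Spec.map (CommRingCat.ofHom (algebraMap K L))))]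
    (hα : EtCore.Hpull (Spec.map (CommRingCat.ofHom (algebraMap K L))) F i α = 0) (p : ℕ)
    (hp : p.Prime) (hpα : ¬ p ∣ addOrderOf α) :
    ∃ (L' : Type u) (_ : Field L') (_ : Algebra K L') (_ : FiniteDimensional K L')
      (_ : Algebra.IsSeparable K L'),
      ¬ p ∣ Module.finrank K L' ∧
        ∀ [PreservesFiniteLimits (EtCoh.pull (Spec.map (CommRingCat.ofHom (algebraMap K L'))))],
          EtCore.Hpull (Spec.map (CommRingCat.ofHom (algebraMap K L'))) F i α = 0 := by
  haveI : Fact p.Prime := ⟨hp⟩
  obtain ⟨M, _, _, _, _, _, hgal⟩ := exists_galois_closure K L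
  haveI := hgal
  have hM : EtCore.Hpull (Spec.map (CommRingCat.ofHom (algebraMap K M))) F i α = 0 :=
    Hpull_comp_eq_zero (Spec.map (CommRingCat.ofHom (algebraMap K L)))
      (Spec.map (CommRingCat.ofHom (algebraMap L M))) _ (specMap_tower' K L M) F i α hα
  obtain ⟨L', hL', a, ha⟩ := exists_sylow_fixed K M p
  refine ⟨↥L', inferInstance, inferInstance, inferInstance, inferInstance, hL', ?_⟩
  intro _
  exact Hpull_tower_eq_zero K ↥L' M F i α hM p a hp ha hpα

end Galois

end Groth.Agent.Lib.EtTraceH7
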