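import Mathlib
import Groth.Prelude.Def_EtBase
import Groth.Agent.Lib.EtSchPullConserv_helper7
import Groth.Agent.Lib.EtSchExact_helper7

/-!
# The unit `F ⟶ g_* g⁻¹ F` is a monomorphism for surjective `g` (helper7)
-/

set_option autoImplicit false
set_option backward.isDefEq.respectTransparency false
universe u
open CategoryTheory CategoryTheory.Limits AlgebraicGeometry Opposite

namespace Groth.Agent.Lib.EtUnitMono_helper7

open Groth.Agent.Lib.EtSchPullConserv_helper7 Groth.Agent.Lib.EtSchExact_helper7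

theorem mono_unit_of_surjective {Y Y' : Scheme.{u}} (g : Y' ⟶ Y) [Surjective g]
    (F : EtCoh.Ab Y) : Mono ((EtCoh.pullPushAdj g).unit.app F) := by
  obtain ⟨ξ, hξdef⟩ : ∃ ξ : ∀ y' : Y',
      Spec (CommRingCat.of (AlgebraicClosure (Y'.residueField y'))) ⟶ Y', ξ = fun y' => geomPt y' :=
    ⟨_, rfl⟩
  have hξ : ∀ y', ξ y' default = y' := by
    intro y'; rw [hξdef]; exact geomPt_default y'
  have hs : ∀ y : Y, ∃ y' : Y', (ξ y' ≫ g) default = y := by
    intro y
    obtain ⟨y', rfl⟩ := g.surjective y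
    exact ⟨y', by rw [Scheme.Hom.comp_apply, hξ]⟩
  have hinj : ∀ y' : Y', Function.Injective
      ((Scheme.pointSmallEtale (ξ y' ≫ g)).presheafFiber.map
        ((EtCoh.pullPushAdj g).unit.app F).hom) := by
    intro y'
    have e := EtStalkPull.stalkPullIso g (ξ y')
    have h4 := (EtCoh.pullPushAdj g).left_triangle_components F
    have h5 : (EtCoh.stalk (ξ y')).map ((EtCoh.pull g).map ((EtCoh.pullPushAdj g).unit.app F)) ≫
        (EtCoh.stalk (ξ y')).map ((EtCoh.pullPushAdj g).counit.app ((EtCoh.pull g).obj F)) =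
        𝟙 _ := by
      rw [← CategoryTheory.Functor.map_comp, h4]
      exact (EtCoh.stalk (ξ y')).map_id _
    haveI : Mono ((EtCoh.pull g ⋙ EtCoh.stalk (ξ y')).map ((EtCoh.pullPushAdj g).unit.app F)) := by
      show Mono ((EtCoh.stalk (ξ y')).map
        ((EtCoh.pull g).map ((EtCoh.pullPushAdj g).unit.app F)))
      haveI : Mono ((EtCoh.stalk (ξ y')).map
          ((EtCoh.pull g).map ((EtCoh.pullPushAdj g).unit.app F)) ≫
        (EtCoh.stalk (ξ y')).map ((EtCoh.pullPushAdj g).counit.app ((EtCoh.pull g).obj F))) := by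
        rw [h5]; infer_instance
      exact mono_of_mono _
        ((EtCoh.stalk (ξ y')).map ((EtCoh.pullPushAdj g).counit.app ((EtCoh.pull g).obj F)))
    have h6 := e.hom.naturality ((EtCoh.pullPushAdj g).unit.app F)
    haveI : Mono (e.hom.app F ≫
        (EtCoh.stalk (ξ y' ≫ g)).map ((EtCoh.pullPushAdj g).unit.app F)) := by
      show Mono (e.hom.app ((𝟭 (EtCoh.Ab Y)).obj F) ≫
        (EtCoh.stalk (ξ y' ≫ g)).map ((EtCoh.pullPushAdj g).unit.app F))
      rw [← h6]; infer_instance
    have h7 : (EtCoh.stalk (ξ y' ≫ g)).map ((EtCoh.pullPushAdj g).unit.app F) =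
        e.inv.app F ≫ (e.hom.app F ≫
          (EtCoh.stalk (ξ y' ≫ g)).map ((EtCoh.pullPushAdj g).unit.app F)) := by
      rw [← Category.assoc, Iso.inv_hom_id_app, Category.id_comp]
    haveI : Mono ((EtCoh.stalk (ξ y' ≫ g)).map ((EtCoh.pullPushAdj g).unit.app F)) := by
      rw [h7]; infer_instance
    exact (AddCommGrpCat.mono_iff_injective _).1 this
  haveI : Sheaf.IsLocallyInjective ((EtCoh.pullPushAdj g).unit.app F) :=
    isLocallyInjective_of_family (fun y' => ξ y' ≫ g) hs
      ((EtCoh.pullPushAdj g).unit.app F).hom hinj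
  exact Sheaf.mono_of_isLocallyInjective _

end Groth.Agent.Lib.EtUnitMono_helper7
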