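import Mathlib
import Groth.Prelude.Def_W4c1chowmix47Eta

namespace Groth.Agent.Lib.EtaDomH1

universe u
open EtaPt

variable (η : EtaPt.FieldEndo.{u})

lemma map_bijective_of_equiv {K L : Type u} [Field K] [Field L] (e : K ≃+* L) :
    Function.Bijective (η.map (e : K →+* L)) := by
  have h1 : (η.map (e.symm : L →+* K)).comp (η.map (e : K →+* L)) = RingHom.id _ := by
    rw [← η.map_comp, ← η.map_id]; congr 1; ext x; simp
  have h2 : (η.map (e : K →+* L)).comp (η.map (e.symm : L →+* K)) = RingHom.id _ := by
    rw [← η.map_comp, ← η.map_id]; congr 1; ext x; simp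
  refine Function.bijective_iff_has_inverse.mpr
    ⟨η.map (e.symm : L →+* K), fun x => ?_, fun x => ?_⟩
  · exact RingHom.congr_fun h1 x
  · exact RingHom.congr_fun h2 x

lemma eta_bijective_of_equiv {K L : Type u} [Field K] [Field L] (e : K ≃+* L)
    (h : Function.Bijective (η.eta K)) : Function.Bijective (η.eta L) := by
  have hnat := η.eta_natural (e : K →+* L)
  have hfun : ⇑(η.eta L) = ⇑(η.map (e : K →+* L)) ∘ ⇑(η.eta K) ∘ ⇑e.symm := by
    funext l
    have h3 := RingHom.congr_fun hnat (e.symm l)
    simp only [RingHom.comp_apply, RingHom.coe_coe, RingEquiv.apply_symm_apply] at h3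
    simp only [Function.comp_apply]
    exact h3.symm
  rw [hfun]
  exact (map_bijective_of_equiv η e).comp (h.comp e.symm.bijective)

lemma Nmap_apply {A B : Type u} [CommRing A] [CommRing B] (g : A →+* B) (x : η.N A)
    (q : PrimeSpectrum B) :
    η.Nmap g x q = η.map (Ideal.ResidueField.map (PrimeSpectrum.comap g q).asIdeal q.asIdeal g rfl)
      (x (PrimeSpectrum.comap g q)) := rfl

lemma t_apply {A : Type u} [CommRing A] (a : A) (p : PrimeSpectrum A) :
    η.t A a p = η.eta _ (algebraMap A p.asIdeal.ResidueField a) := rfl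

lemma mem_M_iff {A : Type u} [CommRing A] (x : η.N A) :
    x ∈ η.M A ↔ ∀ (R : Type u) [CommRing R] [IsDomain R] [ValuationRing R], η.InV R →
      ∀ g : A →+* R, η.Nmap g x ∈ (η.t R).range := Iff.rfl

/-- InV for a valuation subring of a field `L` at which `η` is bijective. -/
lemma inV_valuationSubring {L : Type u} [Field L] (hL : Function.Bijective (η.eta L))
    (V : ValuationSubring L) : η.InV V :=
  eta_bijective_of_equiv η ((FractionRing.algEquiv V L).symm.toRingEquiv) hL

theorem eq_zero_of_generic_zero (A : Type u) [CommRing A] [IsDomain A] (hA : η.InV A)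
    (x : η.N A) (hx : x ∈ η.M A) (h0 : x ⟨⊥, Ideal.isPrime_bot⟩ = 0) : x = 0 := by
  funext p
  rw [Pi.zero_apply]
  have hAK : Function.Bijective (η.eta (FractionRing A)) := hA
  have hunits : ∀ y : p.asIdeal.primeCompl, IsUnit (algebraMap A (FractionRing A) y) := by
    intro y
    apply IsUnit.mk0
    rw [Ne, map_eq_zero_iff _ (IsFractionRing.injective A (FractionRing A))]
    intro h
    exact y.2 (h ▸ p.asIdeal.zero_mem)
  obtain ⟨f, hf⟩ : ∃ f : Localization.AtPrime p.asIdeal →+* FractionRing A,
      ∀ a, f (algebraMap A _ a) = algebraMap A (FractionRing A) a :=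
    ⟨IsLocalization.lift (M := p.asIdeal.primeCompl) hunits, fun a => IsLocalization.lift_eq _ a⟩
  obtain ⟨V, hV, hloc⟩ := IsLocalRing.exists_factor_valuationRing f
  obtain ⟨g, hg⟩ : ∃ g : A →+* V, ∀ a, ((g a : V) : FractionRing A) = algebraMap A _ a :=
    ⟨(f.codRestrict V.toSubring hV).comp (algebraMap A (Localization.AtPrime p.asIdeal)),
      fun a => hf a⟩
  have hginj : Function.Injective g := by
    intro a b hab
    apply IsFractionRing.injective A (FractionRing A)
    rw [← hg, ← hg, hab]
  have hInV : η.InV V := inV_valuationSubring η hAK V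
  obtain ⟨r, hr⟩ := (mem_M_iff η x).mp hx V hInV g
  have hr0 : r = 0 := by
    have h1 := congrFun hr ⟨⊥, Ideal.isPrime_bot⟩
    rw [t_apply, Nmap_apply] at h1
    have hc : ∀ P : PrimeSpectrum A, P = ⟨⊥, Ideal.isPrime_bot⟩ → x P = 0 := by
      rintro _ rfl; exact h0
    have hcomap : PrimeSpectrum.comap g ⟨⊥, Ideal.isPrime_bot⟩ = ⟨⊥, Ideal.isPrime_bot⟩ := by
      apply PrimeSpectrum.ext
      exact Ideal.comap_bot_of_injective g hginj
    rw [hc _ hcomap, map_zero, map_eq_zero, Ideal.algebraMap_residueField_eq_zero] at h1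
    exact h1
  have h3 := congrFun hr (IsLocalRing.closedPoint V)
  rw [hr0, map_zero, Pi.zero_apply, Nmap_apply] at h3
  have h4 := (map_eq_zero _).mp h3.symm
  have hcomap2 : PrimeSpectrum.comap g (IsLocalRing.closedPoint V) = p := by
    apply PrimeSpectrum.ext
    ext a
    change g a ∈ IsLocalRing.maximalIdeal V ↔ a ∈ p.asIdeal
    rw [IsLocalRing.mem_maximalIdeal, mem_nonunits_iff]
    have hga : g a = (f.codRestrict V.toSubring hV)
        (algebraMap A (Localization.AtPrime p.asIdeal) a) := by
      apply Subtype.ext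
      rw [hg]
      exact (hf a).symm
    constructor
    · intro hnu
      by_contra hap
      apply hnu
      have hu : IsUnit (algebraMap A (Localization.AtPrime p.asIdeal) a) :=
        IsLocalization.map_units (M := p.asIdeal.primeCompl) _ ⟨a, hap⟩
      have := hu.map (f.codRestrict V.toSubring hV)
      rw [hga]
      exact this
    · intro hap hu
      have hu' : IsUnit ((f.codRestrict V.toSubring hV)
          (algebraMap A (Localization.AtPrime p.asIdeal) a)) := by
        rw [hga] at hu
        exact hu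
      have hu2 := hloc.map_nonunit _ hu'
      have : algebraMap A (Localization.AtPrime p.asIdeal) a ∈
          IsLocalRing.maximalIdeal (Localization.AtPrime p.asIdeal) :=
        (IsLocalization.AtPrime.to_map_mem_maximal_iff _ p.asIdeal a).mpr hap
      exact (IsLocalRing.mem_maximalIdeal _).mp this hu2
  have hc2 : ∀ P : PrimeSpectrum A, P = p → x P = 0 → x p = 0 := by
    rintro _ rfl h; exact h
  exact hc2 _ hcomap2 h4

theorem main13808 (A : Type u) [CommRing A] [IsDomain A] (hA : η.InV A) :
    Set.InjOn (fun x : η.N A => x ⟨⊥, Ideal.isPrime_bot⟩) (η.M A) := by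
  intro x hx y hy hxy
  have hxy' : x ⟨⊥, Ideal.isPrime_bot⟩ = y ⟨⊥, Ideal.isPrime_bot⟩ := hxy
  have := eq_zero_of_generic_zero η A hA (x - y) ((η.M A).sub_mem hx hy)
    (by rw [Pi.sub_apply, hxy', sub_self])
  exact sub_eq_zero.mp this

end Groth.Agent.Lib.EtaDomH1
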