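import Mathlib
import Groth.Agent.Lib.EtaDom_helper1

namespace Groth.Agent.Lib.EtaLiftH1

universe u
open EtaPt
open Groth.Agent.Lib.EtaDomH1

variable (η : EtaPt.FieldEndo.{u})

lemma comap_surjective_of_Nmap_injective {A B : Type u} [CommRing A] [CommRing B] (f : A →+* B)
    (hN : Function.Injective (η.Nmap f)) : Function.Surjective (PrimeSpectrum.comap f) := by
  classical
  intro p
  by_contra hp
  push Not at hp
  have hx : η.Nmap f (Function.update (0 : η.N A) p 1) = η.Nmap f 0 := by
    rw [map_zero]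
    funext q
    rw [Nmap_apply, Pi.zero_apply, Function.update_of_ne (hp q), Pi.zero_apply, map_zero]
  have h1 := congrFun (hN hx) p
  rw [Function.update_self, Pi.zero_apply] at h1
  exact one_ne_zero h1

lemma map_residue_surjective {A B : Type u} [CommRing A] [CommRing B] (f : A →+* B)
    (hN : Function.Surjective (η.Nmap f)) (q : PrimeSpectrum B) :
    Function.Surjective (η.map
      (Ideal.ResidueField.map (PrimeSpectrum.comap f q).asIdeal q.asIdeal f rfl)) := by
  classical
  intro c
  obtain ⟨x, hx⟩ := hN (Function.update (0 : η.N B) q c)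
  refine ⟨x (PrimeSpectrum.comap f q), ?_⟩
  have := congrFun hx q
  rw [Nmap_apply, Function.update_self] at this
  exact this

theorem exists_factor {A B : Type u} [CommRing A] [CommRing B] (f : A →+* B)
    (hf : f.IsIntegral) (hN : Function.Bijective (η.Nmap f))
    (R : Type u) [CommRing R] [IsDomain R] [ValuationRing R] (hR : η.InV R) (g : A →+* R) :
    ∃ g' : B →+* R, g'.comp f = g := by
  have hRK : Function.Bijective (η.eta (FractionRing R)) := hR
  have hL : Function.Bijective (η.eta (⊥ : Ideal R).ResidueField) :=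
    eta_bijective_of_equiv η (FractionRing.algEquiv R (⊥ : Ideal R).ResidueField).toRingEquiv hRK
  obtain ⟨q, hq⟩ := comap_surjective_of_Nmap_injective η f hN.1
    (PrimeSpectrum.comap g ⟨⊥, Ideal.isPrime_bot⟩)
  have hφsurj := map_residue_surjective η f hN.2 q
  obtain ⟨φ, hφdef⟩ : ∃ φ : (PrimeSpectrum.comap f q).asIdeal.ResidueField →+*
      q.asIdeal.ResidueField,
      φ = Ideal.ResidueField.map (PrimeSpectrum.comap f q).asIdeal q.asIdeal f rfl := ⟨_, rfl⟩
  rw [← hφdef] at hφsurj
  have hφbij : Function.Bijective (η.map φ) := ⟨(η.map φ).injective, hφsurj⟩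
  have hι : (PrimeSpectrum.comap f q).asIdeal = Ideal.comap g (⊥ : Ideal R) :=
    congrArg PrimeSpectrum.asIdeal hq
  obtain ⟨ι, hιdef⟩ : ∃ ι : (PrimeSpectrum.comap f q).asIdeal.ResidueField →+*
      (⊥ : Ideal R).ResidueField,
      ι = Ideal.ResidueField.map (PrimeSpectrum.comap f q).asIdeal (⊥ : Ideal R) g hι := ⟨_, rfl⟩
  obtain ⟨e1, he1⟩ : ∃ e1 : η.obj (PrimeSpectrum.comap f q).asIdeal.ResidueField ≃+*
      η.obj q.asIdeal.ResidueField, ∀ w, e1 w = η.map φ w :=
    ⟨RingEquiv.ofBijective (η.map φ) hφbij, fun w => rfl⟩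
  obtain ⟨e2, he2⟩ : ∃ e2 : (⊥ : Ideal R).ResidueField ≃+* η.obj (⊥ : Ideal R).ResidueField,
      ∀ w, e2 w = η.eta _ w :=
    ⟨RingEquiv.ofBijective (η.eta (⊥ : Ideal R).ResidueField) hL, fun w => rfl⟩
  obtain ⟨G, hG⟩ : ∃ G : B →+* (⊥ : Ideal R).ResidueField, ∀ b, G b =
      e2.symm (η.map ι (e1.symm (η.eta _ (algebraMap B q.asIdeal.ResidueField b)))) :=
    ⟨(e2.symm : η.obj (⊥ : Ideal R).ResidueField →+* (⊥ : Ideal R).ResidueField).comp
      ((η.map ι).comp ((e1.symm : η.obj q.asIdeal.ResidueField →+*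
        η.obj (PrimeSpectrum.comap f q).asIdeal.ResidueField).comp
        ((η.eta q.asIdeal.ResidueField).comp (algebraMap B q.asIdeal.ResidueField)))),
      fun b => rfl⟩
  have hGf : ∀ a, G (f a) = algebraMap R _ (g a) := by
    intro a
    have h1 : algebraMap B q.asIdeal.ResidueField (f a) = φ (algebraMap A _ a) := by
      rw [hφdef]
      exact (Ideal.ResidueField.map_algebraMap _ _ f rfl a).symm
    have h2 : η.eta _ (φ (algebraMap A _ a)) = η.map φ (η.eta _ (algebraMap A _ a)) :=
      (RingHom.congr_fun (η.eta_natural φ) _).symm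
    have h3 : η.map ι (η.eta _ (algebraMap A _ a)) = η.eta _ (ι (algebraMap A _ a)) :=
      RingHom.congr_fun (η.eta_natural ι) _
    have h4 : ι (algebraMap A _ a) = algebraMap R _ (g a) := by
      rw [hιdef]
      exact Ideal.ResidueField.map_algebraMap _ _ g hι a
    rw [hG, h1, h2, ← he1, e1.symm_apply_apply, h3, h4, ← he2, e2.symm_apply_apply]
  have hGint : ∀ b, ∃ r : R, algebraMap R (⊥ : Ideal R).ResidueField r = G b := by
    intro b
    obtain ⟨P, hmonic, hP⟩ := hf b
    have hint : IsIntegral R (G b) := by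
      refine ⟨P.map g, hmonic.map g, ?_⟩
      rw [Polynomial.eval₂_map]
      have hcomp : (algebraMap R (⊥ : Ideal R).ResidueField).comp g = G.comp f := by
        ext a; exact (hGf a).symm
      rw [hcomp, ← Polynomial.hom_eval₂, hP, map_zero]
    exact (IsIntegrallyClosed.isIntegral_iff (R := R)
      (K := (⊥ : Ideal R).ResidueField)).mp hint
  choose ρ hρ using hGint
  have hinj := IsFractionRing.injective R (⊥ : Ideal R).ResidueField
  refine ⟨{ toFun := ρ, map_one' := ?_, map_mul' := ?_, map_zero' := ?_, map_add' := ?_ }, ?_⟩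
  · apply hinj; rw [hρ, map_one, map_one]
  · intro a b; apply hinj; rw [hρ, map_mul, map_mul, hρ, hρ]
  · apply hinj; rw [hρ, map_zero, map_zero]
  · intro a b; apply hinj; rw [hρ, map_add, map_add, hρ, hρ]
  · ext a
    apply hinj
    change algebraMap R _ (ρ (f a)) = _
    rw [hρ, hGf]

end Groth.Agent.Lib.EtaLiftH1
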