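import Mathlib
import Groth.Agent.Lib.EtaLift_helper1

namespace Groth.Agent.Lib.EtaLift2H1

universe u
open EtaPt
open Groth.Agent.Lib.EtaDomH1 Groth.Agent.Lib.EtaLiftH1

variable (η : EtaPt.FieldEndo.{u})

lemma residueField_hom_ext {R : Type u} [CommRing R] (I : Ideal R) [I.IsPrime] {K : Type u}
    [CommRing K] (φ ψ : I.ResidueField →+* K)
    (h : ∀ r, φ (algebraMap R _ r) = ψ (algebraMap R _ r)) : φ = ψ := by
  apply IsLocalization.ringHom_ext (nonZeroDivisors (R ⧸ I))
  apply Ideal.Quotient.ringHom_ext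
  ext r
  exact h r

lemma Nmap_comp {A B C : Type u} [CommRing A] [CommRing B] [CommRing C] (f : A →+* B)
    (g : B →+* C) (x : η.N A) :
    η.Nmap (g.comp f) x = η.Nmap g (η.Nmap f x) := by
  funext q
  rw [Nmap_apply, Nmap_apply, Nmap_apply]
  have hcomp : Ideal.ResidueField.map (PrimeSpectrum.comap (g.comp f) q).asIdeal q.asIdeal
      (g.comp f) rfl =
     (Ideal.ResidueField.map (PrimeSpectrum.comap g q).asIdeal q.asIdeal g rfl).comp
       (Ideal.ResidueField.map (PrimeSpectrum.comap f (PrimeSpectrum.comap g q)).asIdeal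
        (PrimeSpectrum.comap g q).asIdeal f rfl) := by
    apply residueField_hom_ext
    intro r
    exact (Ideal.ResidueField.map_algebraMap (PrimeSpectrum.comap (g.comp f) q).asIdeal q.asIdeal
        (g.comp f) rfl r).trans
      ((congrArg _ (Ideal.ResidueField.map_algebraMap
        (PrimeSpectrum.comap f (PrimeSpectrum.comap g q)).asIdeal
        (PrimeSpectrum.comap g q).asIdeal f rfl r)).trans
        (Ideal.ResidueField.map_algebraMap (PrimeSpectrum.comap g q).asIdeal q.asIdeal g rfl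
          (f r))).symm
  have h1 := congrArg (fun h => η.map h) hcomp
  exact (RingHom.congr_fun h1 (x (PrimeSpectrum.comap (g.comp f) q))).trans
    (RingHom.congr_fun (η.map_comp _ _) (x (PrimeSpectrum.comap f (PrimeSpectrum.comap g q))))

theorem mapsTo_Nmap {A B : Type u} [CommRing A] [CommRing B] (f : A →+* B) (x : η.N A)
    (hx : x ∈ η.M A) : η.Nmap f x ∈ η.M B := by
  rw [mem_M_iff] at hx ⊢
  intro R _ _ _ hR g
  rw [← Nmap_comp]
  exact hx R hR (g.comp f)

theorem mem_M_of_Nmap_mem {A B : Type u} [CommRing A] [CommRing B] (f : A →+* B)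
    (hf : f.IsIntegral) (hN : Function.Bijective (η.Nmap f)) (x : η.N A)
    (hy : η.Nmap f x ∈ η.M B) : x ∈ η.M A := by
  rw [mem_M_iff] at hy ⊢
  intro R _ _ _ hR g
  obtain ⟨g', hg'⟩ := exists_factor η f hf hN R hR g
  rw [← hg', Nmap_comp]
  exact hy R hR g'

theorem bijOn {A B : Type u} [CommRing A] [CommRing B] (f : A →+* B)
    (hf : f.IsIntegral) (hN : Function.Bijective (η.Nmap f)) :
    Set.BijOn (η.Nmap f) (η.M A) (η.M B) := by
  refine ⟨?_, hN.1.injOn, ?_⟩
  · intro x hx
    exact mapsTo_Nmap η f x hx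
  · intro y hy
    obtain ⟨x, rfl⟩ := hN.2 y
    exact ⟨x, mem_M_of_Nmap_mem η f hf hN x hy, rfl⟩

end Groth.Agent.Lib.EtaLift2H1
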