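import Mathlib
import Groth.Agent.Lib.EtaLift2_helper1

namespace Groth.Agent.Lib.EtaLift3H1

universe u
open EtaPt
open Groth.Agent.Lib.EtaDomH1 Groth.Agent.Lib.EtaLiftH1 Groth.Agent.Lib.EtaLift2H1

variable (η : EtaPt.FieldEndo.{u})

lemma comap_injective_of_Nmap_surjective {A B : Type u} [CommRing A] [CommRing B] (f : A →+* B)
    (hN : Function.Surjective (η.Nmap f)) : Function.Injective (PrimeSpectrum.comap f) := by
  classical
  intro q₁ q₂ h12
  by_contra hne
  obtain ⟨x, hx⟩ := hN (Function.update (0 : η.N B) q₁ 1)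
  have h1 := congrFun hx q₁
  have h2 := congrFun hx q₂
  rw [Nmap_apply, Function.update_self] at h1
  rw [Nmap_apply, Function.update_of_ne (Ne.symm hne), Pi.zero_apply, map_eq_zero] at h2
  have tr : ∀ P P' : PrimeSpectrum A, P = P' → x P' = 0 → x P = 0 := by
    rintro _ _ rfl h; exact h
  rw [tr _ _ h12 h2, map_zero] at h1
  exact zero_ne_one h1

lemma eq_eta_of_comp_eq {K L : Type u} [Field K] [Field L] (φ : K →+* L)
    (hφ : Function.Surjective (η.map φ)) (ψ : L →+* η.obj L)
    (hψ : ψ.comp φ = (η.eta L).comp φ) : ψ = η.eta L := by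
  ext β
  obtain ⟨e, he⟩ : ∃ e, e = ringExpChar K := ⟨_, rfl⟩
  haveI : ExpChar K e := by rw [he]; exact ringExpChar.expChar K
  haveI : ExpChar L e := expChar_of_injective_ringHom φ.injective e
  haveI : ExpChar (η.obj L) e := expChar_of_injective_ringHom (η.eta L).injective e
  obtain ⟨c, hc⟩ := hφ (η.eta L β)
  obtain ⟨n, α, hα⟩ := η.exists_pow_mem_range_eta K c
  rw [ringExpChar.eq K e] at hα
  have h1 : β ^ e ^ n = φ α := by
    apply (η.eta L).injective
    rw [map_pow, ← hc, ← map_pow, ← hα]
    exact RingHom.congr_fun (η.eta_natural φ) α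
  apply iterateFrobenius_inj (η.obj L) e n
  rw [iterateFrobenius_def, iterateFrobenius_def, ← map_pow, ← map_pow, h1]
  exact RingHom.congr_fun hψ α

theorem existsUnique_lift {A B : Type u} [CommRing A] [CommRing B] (g : A →+* B)
    (hg : g.IsIntegral) (hN : Function.Bijective (η.Nmap g)) :
    ∃! g' : B →+* η.M A, g'.comp g = η.q A := by
  obtain ⟨E, hE⟩ : ∃ E : η.N A ≃+* η.N B, ∀ x, E x = η.Nmap g x :=
    ⟨RingEquiv.ofBijective _ hN, fun _ => rfl⟩
  have hmem : ∀ b, E.symm (η.t B b) ∈ η.M A := by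
    intro b
    apply mem_M_of_Nmap_mem η g hg hN
    rw [← hE, E.apply_symm_apply]
    exact η.t_mem_M B b
  refine ⟨((E.symm : η.N B →+* η.N A).comp (η.t B)).codRestrict (η.M A) hmem, ?_, ?_⟩
  · refine RingHom.ext fun a => Subtype.ext ?_
    change E.symm (η.t B (g a)) = η.t A a
    rw [← η.Nmap_t_apply g a, ← hE, E.symm_apply_apply]
  · intro h hh
    refine RingHom.ext fun b => Subtype.ext ?_
    change (h b : η.N A) = E.symm (η.t B b)
    rw [RingEquiv.eq_symm_apply, hE]
    funext q
    rw [Nmap_apply, t_apply]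
    obtain ⟨θ, hθ⟩ : ∃ θ : B →+* η.obj (PrimeSpectrum.comap g q).asIdeal.ResidueField,
        ∀ b', θ b' = (h b' : η.N A) (PrimeSpectrum.comap g q) :=
      ⟨(Pi.evalRingHom (fun P : PrimeSpectrum A => η.obj P.asIdeal.ResidueField)
        (PrimeSpectrum.comap g q)).comp ((η.M A).subtype.comp h), fun _ => rfl⟩
    have hθg : ∀ a, θ (g a) =
        η.eta _ (algebraMap A (PrimeSpectrum.comap g q).asIdeal.ResidueField a) := by
      intro a
      have h1 := RingHom.congr_fun hh a
      have h2 : (h (g a) : η.N A) = η.t A a := congrArg Subtype.val h1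
      rw [hθ, h2]; rfl
    haveI : (RingHom.ker θ).IsPrime := RingHom.ker_isPrime θ
    have hker : RingHom.ker θ = q.asIdeal := by
      have hc : PrimeSpectrum.comap g ⟨RingHom.ker θ, inferInstance⟩ = PrimeSpectrum.comap g q := by
        apply PrimeSpectrum.ext
        ext a
        change g a ∈ RingHom.ker θ ↔ a ∈ (PrimeSpectrum.comap g q).asIdeal
        rw [RingHom.mem_ker, hθg, map_eq_zero, Ideal.algebraMap_residueField_eq_zero]
      exact congrArg PrimeSpectrum.asIdeal (comap_injective_of_Nmap_surjective η g hN.2 hc)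
    obtain ⟨θb, hθb⟩ : ∃ θb : q.asIdeal.ResidueField →+*
        η.obj (PrimeSpectrum.comap g q).asIdeal.ResidueField,
        ∀ b', θb (algebraMap B _ b') = θ b' :=
      ⟨Ideal.ResidueField.lift q.asIdeal θ (le_of_eq hker.symm) (by
        intro b' hb'
        change IsUnit (θ b')
        rw [isUnit_iff_ne_zero]
        intro h0
        exact hb' (by rw [← hker]; exact RingHom.mem_ker.mpr h0)),
        fun b' => Ideal.ResidueField.lift_algebraMap _ _ _ _ b'⟩
    obtain ⟨φ, hφdef⟩ : ∃ φ : (PrimeSpectrum.comap g q).asIdeal.ResidueField →+*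
        q.asIdeal.ResidueField,
        φ = Ideal.ResidueField.map (PrimeSpectrum.comap g q).asIdeal q.asIdeal g rfl := ⟨_, rfl⟩
    have hφa : ∀ a, φ (algebraMap A _ a) = algebraMap B _ (g a) := by
      intro a; rw [hφdef]; exact Ideal.ResidueField.map_algebraMap _ _ g rfl a
    have hφs : Function.Surjective (η.map φ) := by
      rw [hφdef]; exact map_residue_surjective η g hN.2 q
    have key := eq_eta_of_comp_eq η φ hφs ((η.map φ).comp θb) (by
      apply residueField_hom_ext
      intro a
      change η.map φ (θb (φ (algebraMap A _ a))) = η.eta _ (φ (algebraMap A _ a))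
      have hnat := RingHom.congr_fun (η.eta_natural φ) (algebraMap A _ a)
      simp only [RingHom.comp_apply] at hnat
      rw [hφa, hθb, hθg, hnat, hφa])
    have h3 := RingHom.congr_fun key (algebraMap B _ b)
    rw [← hφdef, ← hθ, ← hθb]
    exact h3

end Groth.Agent.Lib.EtaLift3H1
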