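import Mathlib
import Groth.Agent.Lib.EtaLift3_helper1

namespace Groth.Agent.Lib.EtaIntH1

universe u
open EtaPt
open Groth.Agent.Lib.EtaDomH1 Groth.Agent.Lib.EtaLiftH1 Groth.Agent.Lib.EtaLift2H1
  Groth.Agent.Lib.EtaLift3H1

variable (η : EtaPt.FieldEndo.{u})

lemma map_eta_eq (K : Type u) [Field K] : η.map (η.eta K) = η.eta (η.obj K) :=
  eq_eta_of_comp_eq η (η.eta K) (η.bijective_map_eta K).2 (η.map (η.eta K))
    (η.eta_natural (η.eta K))

lemma eta_obj_bijective (K : Type u) [Field K] : Function.Bijective (η.eta (η.obj K)) := by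
  rw [← map_eta_eq]; exact η.bijective_map_eta K

set_option maxHeartbeats 3200000 in
theorem eq_zero_of_le {A : Type u} [CommRing A] (y : η.N A) (hy : y ∈ η.M A)
    (p₀ p : PrimeSpectrum A) (hle : p₀.asIdeal ≤ p.asIdeal) (h0 : y p₀ = 0) : y p = 0 := by
  have hK' : Function.Bijective (η.eta (η.obj p₀.asIdeal.ResidueField)) :=
    eta_obj_bijective η _
  obtain ⟨ρ, hρ⟩ : ∃ ρ : A →+* η.obj p₀.asIdeal.ResidueField,
      ∀ a, ρ a = η.eta _ (algebraMap A _ a) :=
    ⟨(η.eta _).comp (algebraMap A _), fun _ => rfl⟩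
  have hρ0 : ∀ a, ρ a = 0 ↔ a ∈ p₀.asIdeal := by
    intro a; rw [hρ, map_eq_zero, Ideal.algebraMap_residueField_eq_zero]
  have hunits : ∀ s : p.asIdeal.primeCompl, IsUnit (ρ s) := by
    intro s
    rw [isUnit_iff_ne_zero, Ne, hρ0]
    exact fun h => s.2 (hle h)
  obtain ⟨f, hf⟩ : ∃ f : Localization.AtPrime p.asIdeal →+* η.obj p₀.asIdeal.ResidueField,
      ∀ a, f (algebraMap A _ a) = ρ a :=
    ⟨IsLocalization.lift (M := p.asIdeal.primeCompl) hunits, fun a => IsLocalization.lift_eq _ a⟩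
  obtain ⟨V, hV, hloc⟩ := IsLocalRing.exists_factor_valuationRing f
  obtain ⟨g, hg⟩ : ∃ g : A →+* V, ∀ a, ((g a : V) : η.obj p₀.asIdeal.ResidueField) = ρ a :=
    ⟨(f.codRestrict V.toSubring hV).comp (algebraMap A (Localization.AtPrime p.asIdeal)),
      fun a => hf a⟩
  have hInV : η.InV V := inV_valuationSubring η hK' V
  obtain ⟨r, hr⟩ := (mem_M_iff η y).mp hy V hInV g
  have hcomap : PrimeSpectrum.comap g ⟨⊥, Ideal.isPrime_bot⟩ = p₀ := by
    apply PrimeSpectrum.ext
    ext a
    change g a ∈ (⊥ : Ideal V) ↔ a ∈ p₀.asIdeal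
    rw [Ideal.mem_bot, ← hρ0, ← hg]
    exact ⟨fun h => by rw [h]; rfl, fun h => Subtype.ext h⟩
  have hr0 : r = 0 := by
    have h1 := congrFun hr ⟨⊥, Ideal.isPrime_bot⟩
    rw [t_apply, Nmap_apply] at h1
    have hc : ∀ P : PrimeSpectrum A, P = p₀ → y P = 0 := by rintro _ rfl; exact h0
    rw [hc _ hcomap, map_zero] at h1
    have h5 : algebraMap V (⊥ : Ideal V).ResidueField r = 0 := (map_eq_zero (η.eta _)).mp h1
    exact Ideal.mem_bot.mp (Ideal.algebraMap_residueField_eq_zero.mp h5)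
  have h3 := congrFun hr (IsLocalRing.closedPoint V)
  rw [hr0, map_zero, Pi.zero_apply, Nmap_apply] at h3
  have h4 := (map_eq_zero _).mp h3.symm
  have hcomap2 : PrimeSpectrum.comap g (IsLocalRing.closedPoint V) = p := by
    apply PrimeSpectrum.ext
    ext a
    change g a ∈ IsLocalRing.maximalIdeal V ↔ a ∈ p.asIdeal
    rw [IsLocalRing.mem_maximalIdeal, mem_nonunits_iff]
    have hga : g a = (f.codRestrict V.toSubring hV)
        (algebraMap A (Localization.AtPrime p.asIdeal) a) := by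
      apply Subtype.ext
      rw [hg]
      exact (hf a).symm
    constructor
    · intro hnu
      by_contra hap
      apply hnu
      have hu : IsUnit (algebraMap A (Localization.AtPrime p.asIdeal) a) :=
        IsLocalization.map_units (M := p.asIdeal.primeCompl) _ ⟨a, hap⟩
      have := hu.map (f.codRestrict V.toSubring hV)
      rw [hga]
      exact this
    · intro hap hu
      have hu' : IsUnit ((f.codRestrict V.toSubring hV)
          (algebraMap A (Localization.AtPrime p.asIdeal) a)) := by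
        rw [hga] at hu
        exact hu
      have hu2 := hloc.map_nonunit _ hu'
      have : algebraMap A (Localization.AtPrime p.asIdeal) a ∈
          IsLocalRing.maximalIdeal (Localization.AtPrime p.asIdeal) :=
        (IsLocalization.AtPrime.to_map_mem_maximal_iff _ p.asIdeal a).mpr hap
      exact (IsLocalRing.mem_maximalIdeal _).mp this hu2
  have hc2 : ∀ P : PrimeSpectrum A, P = p → y P = 0 → y p = 0 := by
    rintro _ rfl h; exact h
  exact hc2 _ hcomap2 h4

theorem component_mem_valuationSubring {A : Type u} [CommRing A] (x : η.N A) (hx : x ∈ η.M A)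
    (p₀ : PrimeSpectrum A) (V : ValuationSubring (η.obj p₀.asIdeal.ResidueField))
    (hV : ∀ a : A, η.eta _ (algebraMap A p₀.asIdeal.ResidueField a) ∈ V) : x p₀ ∈ V := by
  have hK' := eta_obj_bijective η p₀.asIdeal.ResidueField
  obtain ⟨g, hg⟩ : ∃ g : A →+* V, ∀ a, ((g a : V) : η.obj p₀.asIdeal.ResidueField) =
      η.eta _ (algebraMap A _ a) :=
    ⟨((η.eta _).comp (algebraMap A p₀.asIdeal.ResidueField)).codRestrict V.toSubring hV,
      fun a => rfl⟩
  have hInV : η.InV V := inV_valuationSubring η hK' V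
  obtain ⟨r, hr⟩ := (mem_M_iff η x).mp hx V hInV g
  have hcomap : PrimeSpectrum.comap g ⟨⊥, Ideal.isPrime_bot⟩ = p₀ := by
    apply PrimeSpectrum.ext
    ext a
    change g a ∈ (⊥ : Ideal V) ↔ a ∈ p₀.asIdeal
    rw [Ideal.mem_bot, ← Ideal.algebraMap_residueField_eq_zero (I := p₀.asIdeal),
      ← map_eq_zero (η.eta p₀.asIdeal.ResidueField), ← hg]
    exact ⟨fun h => by rw [h]; rfl, fun h => Subtype.ext h⟩
  have h1 := congrFun hr ⟨⊥, Ideal.isPrime_bot⟩
  rw [t_apply, Nmap_apply] at h1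
  have key : ∀ (P : PrimeSpectrum A) (_ : p₀ = P)
      (φ : P.asIdeal.ResidueField →+* (⊥ : Ideal V).ResidueField)
      (_ : ∀ a, φ (algebraMap A _ a) = algebraMap V _ (g a)),
      η.eta _ (algebraMap V (⊥ : Ideal V).ResidueField r) = η.map φ (x P) →
        x p₀ = (r : η.obj p₀.asIdeal.ResidueField) := by
    rintro _ rfl φ hφ h
    let ψ : (⊥ : Ideal V).ResidueField ≃ₐ[V] η.obj p₀.asIdeal.ResidueField :=
      IsLocalization.algEquiv (nonZeroDivisors V) _ _
    have hψφ : ((ψ : (⊥ : Ideal V).ResidueField →+* η.obj p₀.asIdeal.ResidueField).comp φ) =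
        η.eta p₀.asIdeal.ResidueField := by
      apply residueField_hom_ext
      intro a
      change ψ (φ (algebraMap A _ a)) = η.eta _ (algebraMap A _ a)
      rw [hφ]
      exact (ψ.commutes (g a)).trans (hg a)
    have h2 := congrArg
      (η.map (ψ : (⊥ : Ideal V).ResidueField →+* η.obj p₀.asIdeal.ResidueField)) h
    have hnat := RingHom.congr_fun
      (η.eta_natural (ψ : (⊥ : Ideal V).ResidueField →+* η.obj p₀.asIdeal.ResidueField))
      (algebraMap V _ r)
    simp only [RingHom.comp_apply] at hnat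
    rw [hnat] at h2
    have hψr : (ψ : (⊥ : Ideal V).ResidueField →+* η.obj p₀.asIdeal.ResidueField)
        (algebraMap V (⊥ : Ideal V).ResidueField r) = (r : η.obj p₀.asIdeal.ResidueField) :=
      ψ.commutes r
    rw [hψr] at h2
    have hcomp := RingHom.congr_fun (η.map_comp φ
      (ψ : (⊥ : Ideal V).ResidueField →+* η.obj p₀.asIdeal.ResidueField)) (x p₀)
    simp only [RingHom.comp_apply] at hcomp
    rw [← hcomp, hψφ, map_eta_eq] at h2
    exact (hK'.1 h2).symm
  have := key _ hcomap.symm _ (fun a => Ideal.ResidueField.map_algebraMap _ _ g rfl a) h1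
  rw [this]; exact r.2

theorem component_isIntegralElem {A : Type u} [CommRing A] (x : η.N A) (hx : x ∈ η.M A)
    (p₀ : PrimeSpectrum A) :
    ((η.eta _).comp (algebraMap A p₀.asIdeal.ResidueField)).IsIntegralElem (x p₀) := by
  obtain ⟨ρ, hρdef⟩ : ∃ ρ : A →+* η.obj p₀.asIdeal.ResidueField,
      ρ = (η.eta _).comp (algebraMap A p₀.asIdeal.ResidueField) := ⟨_, rfl⟩
  rw [← hρdef]
  by_contra hni
  have hnot : x p₀ ∉ (integralClosure ρ.range (η.obj p₀.asIdeal.ResidueField)).toSubring := by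
    intro hmem
    apply hni
    have hint : IsIntegral ρ.range (x p₀) := hmem
    letI : Algebra A (η.obj p₀.asIdeal.ResidueField) := ρ.toAlgebra
    letI : Algebra A ρ.range := ρ.rangeRestrict.toAlgebra
    haveI : IsScalarTower A ρ.range (η.obj p₀.asIdeal.ResidueField) :=
      IsScalarTower.of_algebraMap_eq (fun a => rfl)
    haveI : Algebra.IsIntegral A ρ.range :=
      Algebra.isIntegral_of_surjective ρ.rangeRestrict_surjective
    exact isIntegral_trans (x p₀) hint
  obtain ⟨V, hVle, hxV⟩ := Subring.exists_le_valuationSubring_of_isIntegrallyClosedIn hnot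
  apply hxV
  apply component_mem_valuationSubring η x hx p₀ V
  intro a
  apply hVle
  have : ρ a = algebraMap ρ.range (η.obj p₀.asIdeal.ResidueField) ⟨ρ a, a, rfl⟩ := rfl
  rw [← RingHom.comp_apply, ← hρdef, this]
  exact (integralClosure ρ.range (η.obj p₀.asIdeal.ResidueField)).algebraMap_mem _

theorem q_isIntegral (A : Type u) [CommRing A] (hA : (minimalPrimes A).Finite) :
    (η.q A).IsIntegral := by
  classical
  rintro ⟨x, hx⟩
  have hfin : {P : PrimeSpectrum A | P.asIdeal ∈ minimalPrimes A}.Finite :=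
    hA.preimage (fun _ _ _ _ h => PrimeSpectrum.ext h)
  choose Q hQmonic hQ using fun P : PrimeSpectrum A => component_isIntegralElem η x hx P
  refine ⟨∏ P ∈ hfin.toFinset, Q P, Polynomial.monic_prod_of_monic _ _ (fun P _ => hQmonic P), ?_⟩
  apply Subtype.ext
  have hsub : ((η.M A).subtype) (Polynomial.eval₂ (η.q A) ⟨x, hx⟩ (∏ P ∈ hfin.toFinset, Q P)) =
      Polynomial.eval₂ (η.t A) x (∏ P ∈ hfin.toFinset, Q P) :=
    Polynomial.hom_eval₂ _ (η.q A) (η.M A).subtype ⟨x, hx⟩
  change ((η.M A).subtype) (Polynomial.eval₂ (η.q A) ⟨x, hx⟩ (∏ P ∈ hfin.toFinset, Q P)) = 0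
  rw [hsub]
  -- membership in M
  have hmemM : Polynomial.eval₂ (η.t A) x (∏ P ∈ hfin.toFinset, Q P) ∈ η.M A := by
    rw [← hsub]; exact Subtype.property _
  -- components
  have hcomp : ∀ P : PrimeSpectrum A,
      (Polynomial.eval₂ (η.t A) x (∏ P ∈ hfin.toFinset, Q P)) P =
      Polynomial.eval₂ ((η.eta _).comp (algebraMap A P.asIdeal.ResidueField)) (x P)
        (∏ P ∈ hfin.toFinset, Q P) := by
    intro P
    exact Polynomial.hom_eval₂ _ (η.t A)
      (Pi.evalRingHom (fun P : PrimeSpectrum A => η.obj P.asIdeal.ResidueField) P) x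
  funext p
  rw [Pi.zero_apply]
  obtain ⟨I, hI, hIle⟩ := Ideal.exists_minimalPrimes_le (bot_le : (⊥ : Ideal A) ≤ p.asIdeal)
  haveI : I.IsPrime := hI.1.1
  apply eq_zero_of_le η _ hmemM ⟨I, inferInstance⟩ p hIle
  rw [hcomp, Polynomial.eval₂_finset_prod]
  apply Finset.prod_eq_zero (i := (⟨I, inferInstance⟩ : PrimeSpectrum A))
  · rw [Set.Finite.mem_toFinset]
    exact hI
  · exact hQ _

end Groth.Agent.Lib.EtaIntH1
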