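import Mathlib
import Groth.Agent.Lib.EtaInt_helper1

namespace Groth.Agent.Lib.EtaSpecH1

universe u
open EtaPt
open Groth.Agent.Lib.EtaDomH1 Groth.Agent.Lib.EtaLiftH1 Groth.Agent.Lib.EtaLift2H1
  Groth.Agent.Lib.EtaLift3H1 Groth.Agent.Lib.EtaIntH1

variable (η : EtaPt.FieldEndo.{u})

set_option maxHeartbeats 1600000 in
theorem component_eq {A : Type u} [CommRing A] (x : η.N A)
    (p₀ : PrimeSpectrum A) (V : ValuationSubring (η.obj p₀.asIdeal.ResidueField))
    (g : A →+* V)
    (hg : ∀ a, ((g a : V) : η.obj p₀.asIdeal.ResidueField) = η.eta _ (algebraMap A _ a))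
    (r : V) (hr : η.t V r = η.Nmap g x) :
    x p₀ = (r : η.obj p₀.asIdeal.ResidueField) := by
  have hK' := eta_obj_bijective η p₀.asIdeal.ResidueField
  have hcomap : PrimeSpectrum.comap g ⟨⊥, Ideal.isPrime_bot⟩ = p₀ := by
    apply PrimeSpectrum.ext
    ext a
    change g a ∈ (⊥ : Ideal V) ↔ a ∈ p₀.asIdeal
    rw [Ideal.mem_bot, ← Ideal.algebraMap_residueField_eq_zero (I := p₀.asIdeal),
      ← map_eq_zero (η.eta p₀.asIdeal.ResidueField), ← hg]
    exact ⟨fun h => by rw [h]; rfl, fun h => Subtype.ext h⟩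
  have h1 := congrFun hr ⟨⊥, Ideal.isPrime_bot⟩
  rw [t_apply, Nmap_apply] at h1
  have key : ∀ (P : PrimeSpectrum A) (_ : p₀ = P)
      (φ : P.asIdeal.ResidueField →+* (⊥ : Ideal V).ResidueField)
      (_ : ∀ a, φ (algebraMap A _ a) = algebraMap V _ (g a)),
      η.eta _ (algebraMap V (⊥ : Ideal V).ResidueField r) = η.map φ (x P) →
        x p₀ = (r : η.obj p₀.asIdeal.ResidueField) := by
    rintro _ rfl φ hφ h
    let ψ : (⊥ : Ideal V).ResidueField ≃ₐ[V] η.obj p₀.asIdeal.ResidueField :=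
      IsLocalization.algEquiv (nonZeroDivisors V) _ _
    have hψφ : ((ψ : (⊥ : Ideal V).ResidueField →+* η.obj p₀.asIdeal.ResidueField).comp φ) =
        η.eta p₀.asIdeal.ResidueField := by
      apply residueField_hom_ext
      intro a
      change ψ (φ (algebraMap A _ a)) = η.eta _ (algebraMap A _ a)
      rw [hφ]
      exact (ψ.commutes (g a)).trans (hg a)
    have h2 := congrArg
      (η.map (ψ : (⊥ : Ideal V).ResidueField →+* η.obj p₀.asIdeal.ResidueField)) h
    have hnat := RingHom.congr_fun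
      (η.eta_natural (ψ : (⊥ : Ideal V).ResidueField →+* η.obj p₀.asIdeal.ResidueField))
      (algebraMap V _ r)
    simp only [RingHom.comp_apply] at hnat
    rw [hnat] at h2
    have hψr : (ψ : (⊥ : Ideal V).ResidueField →+* η.obj p₀.asIdeal.ResidueField)
        (algebraMap V (⊥ : Ideal V).ResidueField r) = (r : η.obj p₀.asIdeal.ResidueField) :=
      ψ.commutes r
    rw [hψr] at h2
    have hcomp := RingHom.congr_fun (η.map_comp φ
      (ψ : (⊥ : Ideal V).ResidueField →+* η.obj p₀.asIdeal.ResidueField)) (x p₀)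
    simp only [RingHom.comp_apply] at hcomp
    rw [← hcomp, hψφ, map_eta_eq] at h2
    exact (hK'.1 h2).symm
  exact key _ hcomap.symm _ (fun a => Ideal.ResidueField.map_algebraMap _ _ g rfl a) h1

theorem eq_zero_of_minimal {A : Type u} [CommRing A] (y : η.N A) (hy : y ∈ η.M A)
    (h0 : ∀ P : PrimeSpectrum A, P.asIdeal ∈ minimalPrimes A → y P = 0) : y = 0 := by
  funext p
  rw [Pi.zero_apply]
  obtain ⟨I, hI, hIle⟩ := Ideal.exists_minimalPrimes_le (bot_le : (⊥ : Ideal A) ≤ p.asIdeal)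
  haveI : I.IsPrime := hI.1.1
  exact eq_zero_of_le η y hy ⟨I, inferInstance⟩ p hIle (h0 ⟨I, inferInstance⟩ hI)

theorem exists_minimal_ker_le (A : Type u) [CommRing A] (hA : (minimalPrimes A).Finite)
    (Q : PrimeSpectrum (η.M A)) :
    ∃ P₁ : PrimeSpectrum A, P₁.asIdeal ∈ minimalPrimes A ∧
      ∀ m' : η.M A, (m' : η.N A) P₁ = 0 → m' ∈ Q.asIdeal := by
  classical
  have hfin : {P : PrimeSpectrum A | P.asIdeal ∈ minimalPrimes A}.Finite :=
    hA.preimage (fun _ _ _ _ h => PrimeSpectrum.ext h)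
  have hle : hfin.toFinset.inf (fun P : PrimeSpectrum A => RingHom.ker
      ((Pi.evalRingHom (fun P : PrimeSpectrum A => η.obj P.asIdeal.ResidueField) P).comp
        (η.M A).subtype)) ≤ Q.asIdeal := by
    intro m' hm'
    rw [Submodule.mem_finsetInf] at hm'
    have : m' = 0 := by
      apply Subtype.ext
      apply eq_zero_of_minimal η _ m'.2
      intro P hP
      exact RingHom.mem_ker.mp (hm' P (by rw [Set.Finite.mem_toFinset]; exact hP))
    rw [this]; exact Q.asIdeal.zero_mem
  obtain ⟨P₁, hP₁, hP₁le⟩ := (Ideal.IsPrime.inf_le' Q.isPrime).mp hle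
  refine ⟨P₁, by rw [Set.Finite.mem_toFinset] at hP₁; exact hP₁, ?_⟩
  intro m' hm'
  exact hP₁le (RingHom.mem_ker.mpr hm')

set_option maxHeartbeats 1600000 in
theorem mem_prime_iff (A : Type u) [CommRing A] (hA : (minimalPrimes A).Finite)
    (Q : PrimeSpectrum (η.M A)) (m : η.M A) :
    m ∈ Q.asIdeal ↔ (m : η.N A) (PrimeSpectrum.comap (η.q A) Q) = 0 := by
  obtain ⟨P₁, -, hker⟩ := exists_minimal_ker_le η A hA Q
  obtain ⟨π, hπ⟩ : ∃ π : η.M A →+* η.obj P₁.asIdeal.ResidueField,
      ∀ m', π m' = (m' : η.N A) P₁ :=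
    ⟨(Pi.evalRingHom (fun P : PrimeSpectrum A => η.obj P.asIdeal.ResidueField) P₁).comp
      (η.M A).subtype, fun _ => rfl⟩
  have hunits : ∀ s : Q.asIdeal.primeCompl, IsUnit (π s) := by
    intro s
    rw [isUnit_iff_ne_zero]
    intro h0
    exact s.2 (hker _ (by rw [← hπ]; exact h0))
  obtain ⟨f, hf⟩ : ∃ f : Localization.AtPrime Q.asIdeal →+* η.obj P₁.asIdeal.ResidueField,
      ∀ m', f (algebraMap _ _ m') = π m' :=
    ⟨IsLocalization.lift (M := Q.asIdeal.primeCompl) hunits, fun a => IsLocalization.lift_eq _ a⟩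
  obtain ⟨V, hV, hloc⟩ := IsLocalRing.exists_factor_valuationRing f
  obtain ⟨gt, hgt⟩ : ∃ gt : η.M A →+* V,
      ∀ m', ((gt m' : V) : η.obj P₁.asIdeal.ResidueField) = π m' :=
    ⟨(f.codRestrict V.toSubring hV).comp (algebraMap _ (Localization.AtPrime Q.asIdeal)),
      fun a => hf a⟩
  have hcp : ∀ m', gt m' ∈ IsLocalRing.maximalIdeal V ↔ m' ∈ Q.asIdeal := by
    intro a
    rw [IsLocalRing.mem_maximalIdeal, mem_nonunits_iff]
    have hga : gt a = (f.codRestrict V.toSubring hV)
        (algebraMap _ (Localization.AtPrime Q.asIdeal) a) := by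
      apply Subtype.ext
      rw [hgt]
      exact (hf a).symm
    constructor
    · intro hnu
      by_contra hap
      apply hnu
      have hu : IsUnit (algebraMap _ (Localization.AtPrime Q.asIdeal) a) :=
        IsLocalization.map_units (M := Q.asIdeal.primeCompl) _ ⟨a, hap⟩
      have := hu.map (f.codRestrict V.toSubring hV)
      rw [hga]
      exact this
    · intro hap hu
      have hu' : IsUnit ((f.codRestrict V.toSubring hV)
          (algebraMap _ (Localization.AtPrime Q.asIdeal) a)) := by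
        rw [hga] at hu
        exact hu
      have hu2 := hloc.map_nonunit _ hu'
      have : algebraMap _ (Localization.AtPrime Q.asIdeal) a ∈
          IsLocalRing.maximalIdeal (Localization.AtPrime Q.asIdeal) :=
        (IsLocalization.AtPrime.to_map_mem_maximal_iff _ Q.asIdeal a).mpr hap
      exact (IsLocalRing.mem_maximalIdeal _).mp this hu2
  obtain ⟨g, hgdef⟩ : ∃ g : A →+* V, g = gt.comp (η.q A) := ⟨_, rfl⟩
  have hg : ∀ a, ((g a : V) : η.obj P₁.asIdeal.ResidueField) =
      η.eta _ (algebraMap A _ a) := by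
    intro a
    rw [hgdef, RingHom.comp_apply, hgt, hπ]
    rfl
  have hInV : η.InV V := inV_valuationSubring η (eta_obj_bijective η _) V
  obtain ⟨r, hr⟩ := (mem_M_iff η (m : η.N A)).mp m.2 V hInV g
  have hrx := component_eq η (m : η.N A) P₁ V g hg r hr
  have hrg : r = gt m := Subtype.ext (by rw [← hrx, hgt, hπ])
  have h3 := congrFun hr (IsLocalRing.closedPoint V)
  rw [t_apply, Nmap_apply] at h3
  have hcomap : PrimeSpectrum.comap g (IsLocalRing.closedPoint V) =
      PrimeSpectrum.comap (η.q A) Q := by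
    have h4 : PrimeSpectrum.comap gt (IsLocalRing.closedPoint V) = Q := by
      apply PrimeSpectrum.ext
      ext m'
      exact hcp m'
    rw [hgdef, ← h4]
    rfl
  have tr : ∀ P P' : PrimeSpectrum A, P = P' →
      ((m : η.N A) P = 0 ↔ (m : η.N A) P' = 0) := by
    rintro _ _ rfl; exact Iff.rfl
  rw [← hcp, ← hrg, ← tr _ _ hcomap]
  constructor
  · intro hrm
    have h5 : algebraMap V (IsLocalRing.closedPoint V).asIdeal.ResidueField r = 0 :=
      Ideal.algebraMap_residueField_eq_zero.mpr hrm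
    rw [h5, map_zero] at h3
    exact (map_eq_zero _).mp h3.symm
  · intro h0
    rw [h0, map_zero] at h3
    have h5 := (map_eq_zero (η.eta _)).mp h3
    exact Ideal.algebraMap_residueField_eq_zero.mp h5

theorem comap_q_bijective (A : Type u) [CommRing A] (hA : (minimalPrimes A).Finite) :
    Function.Bijective (PrimeSpectrum.comap (η.q A)) := by
  constructor
  · intro Q₁ Q₂ h12
    apply PrimeSpectrum.ext
    ext m
    rw [mem_prime_iff η A hA Q₁ m, mem_prime_iff η A hA Q₂ m]
    have tr : ∀ P P' : PrimeSpectrum A, P = P' →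
        ((m : η.N A) P = 0 ↔ (m : η.N A) P' = 0) := by
      rintro _ _ rfl; exact Iff.rfl
    exact tr _ _ h12
  · intro p
    haveI : (RingHom.ker ((Pi.evalRingHom
        (fun P : PrimeSpectrum A => η.obj P.asIdeal.ResidueField) p).comp
        (η.M A).subtype)).IsPrime := RingHom.ker_isPrime _
    refine ⟨⟨RingHom.ker ((Pi.evalRingHom
        (fun P : PrimeSpectrum A => η.obj P.asIdeal.ResidueField) p).comp
        (η.M A).subtype), inferInstance⟩, ?_⟩
    apply PrimeSpectrum.ext
    ext a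
    change η.q A a ∈ RingHom.ker _ ↔ a ∈ p.asIdeal
    rw [RingHom.mem_ker]
    change η.eta _ (algebraMap A p.asIdeal.ResidueField a) = 0 ↔ _
    rw [map_eq_zero, Ideal.algebraMap_residueField_eq_zero]

theorem exists_factor_eta (A : Type u) [CommRing A] (hA : (minimalPrimes A).Finite)
    (Q : PrimeSpectrum (η.M A)) :
    ∃ φ : Q.asIdeal.ResidueField →+*
        η.obj (PrimeSpectrum.comap (η.q A) Q).asIdeal.ResidueField,
      (∀ m : η.M A, φ (algebraMap _ _ m) = (m : η.N A) (PrimeSpectrum.comap (η.q A) Q)) ∧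
      φ.comp (Ideal.ResidueField.map (PrimeSpectrum.comap (η.q A) Q).asIdeal Q.asIdeal
          (η.q A) rfl) =
        η.eta (PrimeSpectrum.comap (η.q A) Q).asIdeal.ResidueField := by
  obtain ⟨π, hπ⟩ : ∃ π : η.M A →+*
      η.obj (PrimeSpectrum.comap (η.q A) Q).asIdeal.ResidueField,
      ∀ m', π m' = (m' : η.N A) (PrimeSpectrum.comap (η.q A) Q) :=
    ⟨(Pi.evalRingHom (fun P : PrimeSpectrum A => η.obj P.asIdeal.ResidueField)
      (PrimeSpectrum.comap (η.q A) Q)).comp (η.M A).subtype, fun _ => rfl⟩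
  have hker : ∀ m', π m' = 0 ↔ m' ∈ Q.asIdeal := by
    intro m'; rw [hπ, mem_prime_iff η A hA Q m']
  obtain ⟨φ, hφ⟩ : ∃ φ : Q.asIdeal.ResidueField →+*
      η.obj (PrimeSpectrum.comap (η.q A) Q).asIdeal.ResidueField,
      ∀ m : η.M A, φ (algebraMap _ _ m) = π m :=
    ⟨Ideal.ResidueField.lift Q.asIdeal π
      (fun m' hm' => RingHom.mem_ker.mpr ((hker m').mpr hm')) (by
        intro b' hb'
        change IsUnit (π b')
        rw [isUnit_iff_ne_zero]
        intro h0
        exact hb' ((hker b').mp h0)),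
      fun m => Ideal.ResidueField.lift_algebraMap _ _ _ _ m⟩
  refine ⟨φ, ?_, ?_⟩
  · intro m
    rw [hφ, hπ]
  · apply residueField_hom_ext
    intro a
    change φ (Ideal.ResidueField.map _ _ (η.q A) rfl (algebraMap A _ a)) = _
    rw [Ideal.ResidueField.map_algebraMap _ _ (η.q A) rfl a, hφ, hπ]
    rfl

theorem main13803 (A : Type u) [CommRing A] (hA : (minimalPrimes A).Finite) :
    Function.Bijective (PrimeSpectrum.comap (η.q A)) ∧
      ∀ Q : PrimeSpectrum (η.M A),
        ∃ φ : Q.asIdeal.ResidueField →+* η.obj (PrimeSpectrum.comap (η.q A) Q).asIdeal.ResidueField,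
          φ.comp (Ideal.ResidueField.map (PrimeSpectrum.comap (η.q A) Q).asIdeal Q.asIdeal (η.q A) rfl) =
            η.eta (PrimeSpectrum.comap (η.q A) Q).asIdeal.ResidueField := by
  refine ⟨comap_q_bijective η A hA, fun Q => ?_⟩
  obtain ⟨φ, -, hφ⟩ := exists_factor_eta η A hA Q
  exact ⟨φ, hφ⟩

end Groth.Agent.Lib.EtaSpecH1
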