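import Mathlib
import Groth.Agent.Lib.EtaSpec_helper1

namespace Groth.Agent.Lib.EtaSpec2H1

universe u
open EtaPt
open Groth.Agent.Lib.EtaDomH1 Groth.Agent.Lib.EtaLiftH1 Groth.Agent.Lib.EtaLift2H1
  Groth.Agent.Lib.EtaLift3H1 Groth.Agent.Lib.EtaIntH1 Groth.Agent.Lib.EtaSpecH1

variable (η : EtaPt.FieldEndo.{u})

lemma Nmap_bijective_of {A B : Type u} [CommRing A] [CommRing B] (f : A →+* B)
    (hbij : Function.Bijective (PrimeSpectrum.comap f))
    (hsurj : ∀ q : PrimeSpectrum B, Function.Surjective (η.map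
      (Ideal.ResidueField.map (PrimeSpectrum.comap f q).asIdeal q.asIdeal f rfl))) :
    Function.Bijective (η.Nmap f) := by
  constructor
  · intro x x' hxx
    funext p
    obtain ⟨q, hq⟩ := hbij.2 p
    have h1 := congrFun hxx q
    rw [Nmap_apply, Nmap_apply] at h1
    have h2 := (η.map _).injective h1
    have tr : ∀ P P' : PrimeSpectrum A, P = P' → x P = x' P → x P' = x' P' := by
      rintro _ _ rfl h; exact h
    exact tr _ _ hq h2
  · intro y
    have hex : ∀ p : PrimeSpectrum A, ∃ z : η.obj p.asIdeal.ResidueField,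
        ∀ q : PrimeSpectrum B, ∀ (h : p.asIdeal = Ideal.comap f q.asIdeal),
        η.map (Ideal.ResidueField.map p.asIdeal q.asIdeal f h) z = y q := by
      intro p
      obtain ⟨q₀, hq₀⟩ := hbij.2 p
      subst hq₀
      obtain ⟨z, hz⟩ := hsurj q₀ (y q₀)
      refine ⟨z, ?_⟩
      intro q h
      have hqq : q = q₀ := hbij.1 (PrimeSpectrum.ext h.symm)
      subst hqq
      exact hz
    choose x hx using hex
    refine ⟨x, ?_⟩
    funext q
    rw [Nmap_apply]
    exact hx (PrimeSpectrum.comap f q) q rfl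

lemma map_residue_q_surjective (A : Type u) [CommRing A] (hA : (minimalPrimes A).Finite)
    (Q : PrimeSpectrum (η.M A)) :
    Function.Surjective (η.map (Ideal.ResidueField.map
      (PrimeSpectrum.comap (η.q A) Q).asIdeal Q.asIdeal (η.q A) rfl)) := by
  obtain ⟨θ, -, hθ⟩ := exists_factor_eta η A hA Q
  intro c
  obtain ⟨d, hd⟩ := (η.bijective_map_eta _).2 (η.map θ c)
  refine ⟨d, ?_⟩
  apply (η.map θ).injective
  rw [← hd]
  have h1 := RingHom.congr_fun (η.map_comp (Ideal.ResidueField.map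
      (PrimeSpectrum.comap (η.q A) Q).asIdeal Q.asIdeal (η.q A) rfl) θ) d
  rw [hθ] at h1
  exact h1.symm

theorem Nmap_q_bijective (A : Type u) [CommRing A] (hA : (minimalPrimes A).Finite) :
    Function.Bijective (η.Nmap (η.q A)) :=
  Nmap_bijective_of η (η.q A) (comap_q_bijective η A hA) (map_residue_q_surjective η A hA)

theorem Nmap_q_eq_t (A : Type u) [CommRing A] (hA : (minimalPrimes A).Finite) (x : η.M A) :
    η.Nmap (η.q A) (x : η.N A) = η.t (η.M A) x := by
  funext Q
  rw [Nmap_apply, t_apply]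
  obtain ⟨θ, hθ1, hθ2⟩ := exists_factor_eta η A hA Q
  apply (η.map θ).injective
  have h1 := RingHom.congr_fun (η.map_comp (Ideal.ResidueField.map
      (PrimeSpectrum.comap (η.q A) Q).asIdeal Q.asIdeal (η.q A) rfl) θ)
      ((x : η.N A) (PrimeSpectrum.comap (η.q A) Q))
  rw [hθ2, map_eta_eq] at h1
  have h2 := RingHom.congr_fun (η.eta_natural θ) (algebraMap (η.M A) Q.asIdeal.ResidueField x)
  simp only [RingHom.comp_apply] at h1 h2
  rw [← h1, h2, hθ1]

theorem main13815 (A : Type u) [CommRing A] (hA : (minimalPrimes A).Finite) :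
    (∀ x : η.M A, η.Nmap (η.q A) (x : η.N A) = η.t (η.M A) x) ∧
      Function.Bijective (η.q (η.M A)) := by
  refine ⟨Nmap_q_eq_t η A hA, ?_, ?_⟩
  · rw [injective_iff_map_eq_zero]
    intro x hx
    have h1 : η.t (η.M A) x = 0 := congrArg Subtype.val hx
    rw [← Nmap_q_eq_t η A hA x] at h1
    have h2 : (x : η.N A) = 0 := (Nmap_q_bijective η A hA).1 (by rw [h1, map_zero])
    exact Subtype.ext h2
  · rintro ⟨z, hz⟩
    obtain ⟨x, rfl⟩ := (Nmap_q_bijective η A hA).2 z
    have hx : x ∈ η.M A :=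
      mem_M_of_Nmap_mem η (η.q A) (q_isIntegral η A hA) (Nmap_q_bijective η A hA) x hz
    refine ⟨⟨x, hx⟩, ?_⟩
    apply Subtype.ext
    change η.t (η.M A) ⟨x, hx⟩ = η.Nmap (η.q A) x
    rw [← Nmap_q_eq_t η A hA ⟨x, hx⟩]

lemma t_injective_of_isReduced (B : Type u) [CommRing B] [IsReduced B] :
    Function.Injective (η.t B) := by
  rw [injective_iff_map_eq_zero]
  intro b hb
  have hmem : b ∈ nilradical B := by
    rw [nilradical_eq_sInf, Ideal.mem_sInf]
    intro J hJ
    haveI : J.IsPrime := hJ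
    have h1 := congrFun hb ⟨J, hJ⟩
    rw [t_apply, Pi.zero_apply, map_eq_zero, Ideal.algebraMap_residueField_eq_zero] at h1
    exact h1
  exact IsNilpotent.eq_zero (mem_nilradical.mp hmem)

lemma lift_spec {A B : Type u} [CommRing A] [CommRing B] (g : A →+* B)
    (hg : g.IsIntegral) (hN : Function.Bijective (η.Nmap g)) (h : B →+* η.M A)
    (hh : h.comp g = η.q A) (b : B) : η.Nmap g (h b : η.N A) = η.t B b := by
  obtain ⟨E, hE⟩ : ∃ E : η.N A ≃+* η.N B, ∀ x, E x = η.Nmap g x :=
    ⟨RingEquiv.ofBijective _ hN, fun _ => rfl⟩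
  have hmem : ∀ b, E.symm (η.t B b) ∈ η.M A := by
    intro b
    apply mem_M_of_Nmap_mem η g hg hN
    rw [← hE, E.apply_symm_apply]
    exact η.t_mem_M B b
  obtain ⟨h₀, hh₀⟩ : ∃ h₀ : B →+* η.M A, ∀ b, (h₀ b : η.N A) = E.symm (η.t B b) :=
    ⟨((E.symm : η.N B →+* η.N A).comp (η.t B)).codRestrict (η.M A) hmem, fun _ => rfl⟩
  have hh₀g : h₀.comp g = η.q A := by
    refine RingHom.ext fun a => Subtype.ext ?_
    change (h₀ (g a) : η.N A) = η.t A a
    rw [hh₀, ← η.Nmap_t_apply g a, ← hE, E.symm_apply_apply]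
  obtain ⟨u, -, huniq⟩ := existsUnique_lift η g hg hN
  have : h = h₀ := (huniq h hh).trans (huniq h₀ hh₀g).symm
  rw [this, hh₀, ← hE, E.apply_symm_apply]

theorem main13805 (A : Type u) [CommRing A]
    (hA : (minimalPrimes A).Finite) (B : Type u) [CommRing B] [IsReduced B] (f : η.M A →+* B)
    (hf : f.IsIntegral) (hN : Function.Bijective (η.Nmap f)) : Function.Bijective f := by
  have hqint := q_isIntegral η A hA
  have hqN := Nmap_q_bijective η A hA
  obtain ⟨g, hgdef⟩ : ∃ g : A →+* B, g = f.comp (η.q A) := ⟨_, rfl⟩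
  have hgint : g.IsIntegral := by rw [hgdef]; exact RingHom.IsIntegral.trans _ _ hqint hf
  have hgN : Function.Bijective (η.Nmap g) := by
    have : ⇑(η.Nmap g) = ⇑(η.Nmap f) ∘ ⇑(η.Nmap (η.q A)) := by
      funext x; rw [hgdef]; exact Nmap_comp η (η.q A) f x
    rw [this]; exact hN.comp hqN
  obtain ⟨g', hg', -⟩ := existsUnique_lift η g hgint hgN
  -- g' ∘ f = id
  obtain ⟨u, -, huniq⟩ := existsUnique_lift η (η.q A) hqint hqN
  have h1 : g'.comp f = RingHom.id _ := by
    have ha : (g'.comp f).comp (η.q A) = η.q A := by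
      rw [RingHom.comp_assoc, ← hgdef, hg']
    have hb : (RingHom.id (η.M A)).comp (η.q A) = η.q A := RingHom.id_comp _
    exact (huniq _ ha).trans (huniq _ hb).symm
  have hg'inj : Function.Injective g' := by
    intro b b' hbb
    apply t_injective_of_isReduced η B
    rw [← lift_spec η g hgint hgN g' hg' b, ← lift_spec η g hgint hgN g' hg' b', hbb]
  constructor
  · intro m m' hmm
    have := congrArg g' hmm
    have e1 := RingHom.congr_fun h1 m
    have e2 := RingHom.congr_fun h1 m'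
    simp only [RingHom.comp_apply, RingHom.id_apply] at e1 e2
    rw [e1, e2] at this
    exact this
  · intro b
    refine ⟨g' b, ?_⟩
    apply hg'inj
    exact RingHom.congr_fun h1 (g' b)

end Groth.Agent.Lib.EtaSpec2H1
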