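import Mathlib
import Groth.Agent.Lib.EtaSpec2_helper1

namespace Groth.Agent.Lib.EtaRelH1

universe u
open EtaPt
open Groth.Agent.Lib.EtaDomH1 Groth.Agent.Lib.EtaLiftH1 Groth.Agent.Lib.EtaLift2H1
  Groth.Agent.Lib.EtaLift3H1 Groth.Agent.Lib.EtaIntH1 Groth.Agent.Lib.EtaSpecH1
  Groth.Agent.Lib.EtaSpec2H1

variable (η : EtaPt.FieldEndo.{u})

lemma Nmap_injective_of_comap_surjective {A B : Type u} [CommRing A] [CommRing B] (f : A →+* B)
    (hs : Function.Surjective (PrimeSpectrum.comap f)) : Function.Injective (η.Nmap f) := by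
  intro x x' hxx
  funext p
  obtain ⟨q, hq⟩ := hs p
  have h1 := congrFun hxx q
  rw [Nmap_apply, Nmap_apply] at h1
  have h2 := (η.map _).injective h1
  have tr : ∀ P P' : PrimeSpectrum A, P = P' → x P = x' P → x P' = x' P' := by
    rintro _ _ rfl h; exact h
  exact tr _ _ hq h2

lemma mem_rel_iff {A B : Type u} [CommRing A] [CommRing B] (f : A →+* B) (b : B) :
    b ∈ η.rel f ↔ ∃ x ∈ η.M A, η.Nmap f x = η.t B b := by
  unfold FieldEndo.rel
  rw [Subring.mem_comap, Subring.mem_map]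

lemma isNilpotent_of_t_eq_zero {B : Type u} [CommRing B] (b : B) (hb : η.t B b = 0) :
    IsNilpotent b := by
  have hmem : b ∈ nilradical B := by
    rw [nilradical_eq_sInf, Ideal.mem_sInf]
    intro J hJ
    haveI : J.IsPrime := hJ
    have h1 := congrFun hb ⟨J, hJ⟩
    rw [t_apply, Pi.zero_apply, map_eq_zero, Ideal.algebraMap_residueField_eq_zero] at h1
    exact h1
  exact mem_nilradical.mp hmem

theorem exists_rho {A B : Type u} [CommRing A] [CommRing B] (f : A →+* B)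
    (hs : Function.Surjective (PrimeSpectrum.comap f)) :
    ∃ ρ : η.rel f →+* η.M A, (∀ b, η.Nmap f (ρ b : η.N A) = η.t B b) ∧
      ρ.comp (η.qRel f) = η.q A := by
  have hinj := Nmap_injective_of_comap_surjective η f hs
  have hmem : ∀ b : η.rel f, ∃ x : η.M A, η.Nmap f (x : η.N A) = η.t B b := by
    intro b
    obtain ⟨x, hx, hxb⟩ := (mem_rel_iff η f b).mp b.2
    exact ⟨⟨x, hx⟩, hxb⟩
  choose ρ₀ hρ₀ using hmem
  have hext : ∀ m m' : η.M A, η.Nmap f (m : η.N A) = η.Nmap f (m' : η.N A) → m = m' :=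
    fun m m' h => Subtype.ext (hinj h)
  refine ⟨{ toFun := ρ₀, map_one' := ?_, map_mul' := ?_, map_zero' := ?_, map_add' := ?_ },
    ?_, ?_⟩
  · apply hext
    rw [hρ₀]
    change η.t B 1 = η.Nmap f 1
    rw [map_one, map_one]
  · intro b b'
    apply hext
    rw [hρ₀]
    change η.t B (b * b') = η.Nmap f ((ρ₀ b : η.N A) * (ρ₀ b' : η.N A))
    rw [map_mul, map_mul, hρ₀, hρ₀]
  · apply hext
    rw [hρ₀]
    change η.t B 0 = η.Nmap f 0
    rw [map_zero, map_zero]
  · intro b b'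
    apply hext
    rw [hρ₀]
    change η.t B (b + b') = η.Nmap f ((ρ₀ b : η.N A) + (ρ₀ b' : η.N A))
    rw [map_add, map_add, hρ₀, hρ₀]
  · intro b; exact hρ₀ b
  · refine RingHom.ext fun a => ?_
    apply hext
    change η.Nmap f (ρ₀ (η.qRel f a) : η.N A) = η.Nmap f (η.t A a)
    rw [hρ₀, η.Nmap_t_apply]
    rfl

lemma exists_prime_over {R S : Type u} [CommRing R] [CommRing S] (ρ : R →+* S)
    (hρ : ρ.IsIntegral) (P : PrimeSpectrum R) (hker : RingHom.ker ρ ≤ P.asIdeal) :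
    ∃ Q : PrimeSpectrum S, PrimeSpectrum.comap ρ Q = P := by
  letI := ρ.toAlgebra
  haveI : Algebra.IsIntegral R S := ⟨hρ⟩
  obtain ⟨Q, -, hQ, hQP⟩ := Ideal.exists_ideal_over_prime_of_isIntegral P.asIdeal (⊥ : Ideal S) (by
    intro x hx
    apply hker
    rw [RingHom.mem_ker]
    exact Ideal.mem_bot.mp (Ideal.mem_comap.mp hx))
  exact ⟨⟨Q, hQ⟩, PrimeSpectrum.ext hQP⟩

theorem rel_mem_prime_iff {A B : Type u} [CommRing A] [CommRing B]
    (hA : (minimalPrimes A).Finite) (f : A →+* B)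
    (ρ : η.rel f →+* η.M A) (hρ : ∀ b, η.Nmap f (ρ b : η.N A) = η.t B b)
    (hρq : ρ.comp (η.qRel f) = η.q A) (Q : PrimeSpectrum (η.rel f)) (b : η.rel f) :
    b ∈ Q.asIdeal ↔ (ρ b : η.N A) (PrimeSpectrum.comap (η.qRel f) Q) = 0 := by
  have hρint : ρ.IsIntegral := by
    apply RingHom.IsIntegral.tower_top (η.qRel f) ρ
    rw [hρq]; exact q_isIntegral η A hA
  have hker : RingHom.ker ρ ≤ Q.asIdeal := by
    intro c hc
    rw [RingHom.mem_ker] at hc
    have h1 : η.t B c = 0 := by rw [← hρ, hc]; exact map_zero _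
    obtain ⟨N, hN⟩ := isNilpotent_of_t_eq_zero η (c : B) h1
    have h2 : c ^ N = 0 := Subtype.ext (by simpa using hN)
    exact Q.isPrime.mem_of_pow_mem N (h2 ▸ Q.asIdeal.zero_mem)
  obtain ⟨QQ, hQQ⟩ := exists_prime_over ρ hρint Q hker
  subst hQQ
  have hcomap : PrimeSpectrum.comap (η.q A) QQ =
      PrimeSpectrum.comap (η.qRel f) (PrimeSpectrum.comap ρ QQ) := by
    apply PrimeSpectrum.ext
    ext a
    change η.q A a ∈ QQ.asIdeal ↔ ρ (η.qRel f a) ∈ QQ.asIdeal
    rw [← hρq]; rfl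
  have tr : ∀ P P' : PrimeSpectrum A, P = P' →
      ((ρ b : η.N A) P = 0 ↔ (ρ b : η.N A) P' = 0) := by
    rintro _ _ rfl; exact Iff.rfl
  rw [← tr _ _ hcomap, ← mem_prime_iff η A hA QQ (ρ b)]
  rfl

theorem main13817 {A B : Type u} [CommRing A] [CommRing B] (hA : (minimalPrimes A).Finite)
    (f : A →+* B) (hs : Function.Surjective (PrimeSpectrum.comap f)) :
    (η.qRel f).IsIntegral ∧ Function.Bijective (PrimeSpectrum.comap (η.qRel f)) := by
  obtain ⟨ρ, hρ, hρq⟩ := exists_rho η f hs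
  refine ⟨?_, ?_, ?_⟩
  · -- integrality
    intro b
    obtain ⟨P, hPmonic, hP⟩ := q_isIntegral η A hA (ρ b)
    -- eval₂ (q A) (ρ b) P = 0
    have h1 : η.t B (Polynomial.eval₂ f (b : B) P) = 0 := by
      have e1 : η.t B (Polynomial.eval₂ f (b : B) P) =
          Polynomial.eval₂ ((η.t B).comp f) (η.t B b) P := Polynomial.hom_eval₂ _ _ _ _
      have e2 : (η.t B).comp f = (η.Nmap f).comp (η.t A) :=
        RingHom.ext fun a => (η.Nmap_t_apply f a).symm
      have e3 : η.Nmap f (Polynomial.eval₂ (η.t A) (ρ b : η.N A) P) =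
          Polynomial.eval₂ ((η.Nmap f).comp (η.t A)) (η.Nmap f (ρ b : η.N A)) P :=
        Polynomial.hom_eval₂ _ _ _ _
      have e4 : Polynomial.eval₂ (η.t A) (ρ b : η.N A) P = 0 := by
        have := congrArg Subtype.val hP
        have e5 : ((η.M A).subtype) (Polynomial.eval₂ (η.q A) (ρ b) P) =
            Polynomial.eval₂ (η.t A) (ρ b : η.N A) P :=
          Polynomial.hom_eval₂ _ (η.q A) (η.M A).subtype (ρ b)
        rw [← e5]; exact this
      rw [e1, e2, ← hρ, ← e3, e4, map_zero]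
    obtain ⟨N, hN⟩ := isNilpotent_of_t_eq_zero η _ h1
    refine ⟨P ^ N, hPmonic.pow N, ?_⟩
    apply Subtype.ext
    have e6 : ((η.rel f).subtype) (Polynomial.eval₂ (η.qRel f) b (P ^ N)) =
        Polynomial.eval₂ f (b : B) (P ^ N) :=
      Polynomial.hom_eval₂ _ (η.qRel f) (η.rel f).subtype b
    change ((η.rel f).subtype) (Polynomial.eval₂ (η.qRel f) b (P ^ N)) = 0
    rw [e6, Polynomial.eval₂_pow, hN]
  · -- injective
    intro Q₁ Q₂ h12
    apply PrimeSpectrum.ext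
    ext b
    rw [rel_mem_prime_iff η hA f ρ hρ hρq Q₁ b, rel_mem_prime_iff η hA f ρ hρ hρq Q₂ b]
    have tr : ∀ P P' : PrimeSpectrum A, P = P' →
        ((ρ b : η.N A) P = 0 ↔ (ρ b : η.N A) P' = 0) := by
      rintro _ _ rfl; exact Iff.rfl
    exact tr _ _ h12
  · -- surjective
    intro P
    obtain ⟨q, hq⟩ := hs P
    refine ⟨PrimeSpectrum.comap (η.rel f).subtype q, ?_⟩
    rw [← hq]
    rfl

theorem main13818 {A B : Type u} [CommRing A] [CommRing B] (hA : (minimalPrimes A).Finite)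
    (f : A →+* B) (hs : Function.Surjective (PrimeSpectrum.comap f)) :
    (∀ Q : PrimeSpectrum (η.rel f),
        ∃ φ : Q.asIdeal.ResidueField →+* η.obj (PrimeSpectrum.comap (η.qRel f) Q).asIdeal.ResidueField,
          φ.comp (Ideal.ResidueField.map (PrimeSpectrum.comap (η.qRel f) Q).asIdeal Q.asIdeal (η.qRel f) rfl) =
            η.eta (PrimeSpectrum.comap (η.qRel f) Q).asIdeal.ResidueField) ∧
      Function.Bijective (η.Nmap (η.qRel f)) := by
  obtain ⟨ρ, hρ, hρq⟩ := exists_rho η f hs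
  have hfac : ∀ Q : PrimeSpectrum (η.rel f),
        ∃ φ : Q.asIdeal.ResidueField →+* η.obj (PrimeSpectrum.comap (η.qRel f) Q).asIdeal.ResidueField,
          φ.comp (Ideal.ResidueField.map (PrimeSpectrum.comap (η.qRel f) Q).asIdeal Q.asIdeal (η.qRel f) rfl) =
            η.eta (PrimeSpectrum.comap (η.qRel f) Q).asIdeal.ResidueField := by
    intro Q
    obtain ⟨π, hπ⟩ : ∃ π : η.rel f →+*
        η.obj (PrimeSpectrum.comap (η.qRel f) Q).asIdeal.ResidueField,
        ∀ b, π b = (ρ b : η.N A) (PrimeSpectrum.comap (η.qRel f) Q) :=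
      ⟨((Pi.evalRingHom (fun P : PrimeSpectrum A => η.obj P.asIdeal.ResidueField)
        (PrimeSpectrum.comap (η.qRel f) Q)).comp (η.M A).subtype).comp ρ, fun _ => rfl⟩
    have hker : ∀ b, π b = 0 ↔ b ∈ Q.asIdeal := by
      intro b; rw [hπ, rel_mem_prime_iff η hA f ρ hρ hρq Q b]
    obtain ⟨φ, hφ⟩ : ∃ φ : Q.asIdeal.ResidueField →+*
        η.obj (PrimeSpectrum.comap (η.qRel f) Q).asIdeal.ResidueField,
        ∀ b : η.rel f, φ (algebraMap _ _ b) = π b :=
      ⟨Ideal.ResidueField.lift Q.asIdeal π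
        (fun m' hm' => RingHom.mem_ker.mpr ((hker m').mpr hm')) (by
          intro b' hb'
          change IsUnit (π b')
          rw [isUnit_iff_ne_zero]
          intro h0
          exact hb' ((hker b').mp h0)),
        fun m => Ideal.ResidueField.lift_algebraMap _ _ _ _ m⟩
    refine ⟨φ, ?_⟩
    apply residueField_hom_ext
    intro a
    change φ (Ideal.ResidueField.map _ _ (η.qRel f) rfl (algebraMap A _ a)) = _
    rw [Ideal.ResidueField.map_algebraMap _ _ (η.qRel f) rfl a, hφ, hπ]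
    have : ρ (η.qRel f a) = η.q A a := RingHom.congr_fun hρq a
    rw [this]
    rfl
  refine ⟨hfac, ?_⟩
  apply Nmap_bijective_of η (η.qRel f) (main13817 η hA f hs).2
  intro Q
  obtain ⟨θ, hθ⟩ := hfac Q
  intro c
  obtain ⟨d, hd⟩ := (η.bijective_map_eta _).2 (η.map θ c)
  refine ⟨d, ?_⟩
  apply (η.map θ).injective
  rw [← hd]
  have h1 := RingHom.congr_fun (η.map_comp (Ideal.ResidueField.map
      (PrimeSpectrum.comap (η.qRel f) Q).asIdeal Q.asIdeal (η.qRel f) rfl) θ) d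
  rw [hθ] at h1
  exact h1.symm

end Groth.Agent.Lib.EtaRelH1
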