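import Mathlib
import Groth.Agent.Lib.EtaRel_helper1

namespace Groth.Agent.Lib.EtaRel2H1

universe u
open EtaPt
open Groth.Agent.Lib.EtaDomH1 Groth.Agent.Lib.EtaLiftH1 Groth.Agent.Lib.EtaLift2H1
  Groth.Agent.Lib.EtaLift3H1 Groth.Agent.Lib.EtaIntH1 Groth.Agent.Lib.EtaSpecH1
  Groth.Agent.Lib.EtaSpec2H1 Groth.Agent.Lib.EtaRelH1

variable (η : EtaPt.FieldEndo.{u})

theorem main13819 {A B' B : Type u} [CommRing A] [CommRing B'] [CommRing B]
    (f₁ : A →+* B') (f₂ : B' →+* B)
    (h₁ : f₁.IsIntegral) (hN : Function.Bijective (η.Nmap f₁)) :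
    f₂.range ≤ η.rel (f₂.comp f₁) := by
  rintro _ ⟨b', rfl⟩
  rw [mem_rel_iff]
  obtain ⟨x, hx, hxb⟩ := (bijOn η f₁ h₁ hN).surjOn (η.t_mem_M B' b')
  refine ⟨x, hx, ?_⟩
  rw [Nmap_comp, hxb, η.Nmap_t_apply]

lemma qRel_injective_iff {A B : Type u} [CommRing A] [CommRing B] (f : A →+* B) :
    Function.Injective (η.qRel f) ↔ Function.Injective f := by
  constructor
  · intro h a a' haa
    apply h
    exact Subtype.ext haa
  · intro h a a' haa
    apply h
    exact congrArg Subtype.val haa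

lemma qRel_surjective_iff {A B : Type u} [CommRing A] [CommRing B] (f : A →+* B) :
    Function.Surjective (η.qRel f) ↔ ∀ b ∈ η.rel f, ∃ a, f a = b := by
  constructor
  · intro h b hb
    obtain ⟨a, ha⟩ := h ⟨b, hb⟩
    exact ⟨a, congrArg Subtype.val ha⟩
  · rintro h ⟨b, hb⟩
    obtain ⟨a, ha⟩ := h b hb
    exact ⟨a, Subtype.ext ha⟩

theorem main13821 {A B C : Type u} [CommRing A] [CommRing B] [CommRing C]
    (f : A →+* B) (g : B →+* C)
    (hg : Function.Surjective (PrimeSpectrum.comap g)) :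
    (Function.Bijective (η.qRel f) → Function.Bijective (η.qRel g) →
        Function.Bijective (η.qRel (g.comp f))) ∧
      (Function.Injective g → Function.Bijective (η.qRel (g.comp f)) →
        Function.Bijective (η.qRel f)) := by
  have hginj := Nmap_injective_of_comap_surjective η g hg
  constructor
  · rintro ⟨hf1, hf2⟩ ⟨hg1, hg2⟩
    rw [qRel_injective_iff] at hf1 hg1
    rw [qRel_surjective_iff] at hf2 hg2
    constructor
    · rw [qRel_injective_iff]
      intro a a' haa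
      exact hf1 (hg1 haa)
    · rw [qRel_surjective_iff]
      intro c hc
      obtain ⟨x, hx, hxc⟩ := (mem_rel_iff η _ c).mp hc
      rw [Nmap_comp] at hxc
      have hcg : c ∈ η.rel g := (mem_rel_iff η g c).mpr ⟨_, mapsTo_Nmap η f x hx, hxc⟩
      obtain ⟨b, rfl⟩ := hg2 c hcg
      rw [← η.Nmap_t_apply g b] at hxc
      have hb : b ∈ η.rel f := (mem_rel_iff η f b).mpr ⟨x, hx, hginj hxc⟩
      obtain ⟨a, rfl⟩ := hf2 b hb
      exact ⟨a, rfl⟩
  · rintro hgi ⟨h1, h2⟩
    rw [qRel_injective_iff] at h1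
    rw [qRel_surjective_iff] at h2
    constructor
    · rw [qRel_injective_iff]
      intro a a' haa
      apply h1
      change g (f a) = g (f a')
      rw [haa]
    · rw [qRel_surjective_iff]
      intro b hb
      obtain ⟨x, hx, hxb⟩ := (mem_rel_iff η f b).mp hb
      have hgb : g b ∈ η.rel (g.comp f) := by
        rw [mem_rel_iff]
        refine ⟨x, hx, ?_⟩
        rw [Nmap_comp, hxb, η.Nmap_t_apply]
      obtain ⟨a, ha⟩ := h2 (g b) hgb
      exact ⟨a, hgi ha⟩

theorem main13828 {A A' B B' : Type u} [CommRing A] [CommRing A'] [CommRing B] [CommRing B']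
    (j : A →+* B) (f : A →+* A') (g : B →+* B') (j' : A' →+* B') (hcomm : j'.comp f = g.comp j)
    (hcart : ∀ (a' : A') (b : B), j' a' = g b → ∃! a : A, f a = a' ∧ j a = b)
    (h : Function.Bijective (η.qRel j')) : Function.Bijective (η.qRel j) := by
  obtain ⟨h1, h2⟩ := h
  rw [qRel_injective_iff] at h1
  rw [qRel_surjective_iff] at h2
  constructor
  · rw [qRel_injective_iff, injective_iff_map_eq_zero]
    intro a ha
    have hfa : f a = 0 := by
      apply h1
      have := RingHom.congr_fun hcomm a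
      simp only [RingHom.comp_apply] at this
      rw [this, ha, map_zero, map_zero]
    obtain ⟨a₀, -, huniq⟩ := hcart 0 0 (by rw [map_zero, map_zero])
    rw [huniq a ⟨hfa, ha⟩, huniq 0 ⟨map_zero _, map_zero _⟩]
  · rw [qRel_surjective_iff]
    intro b hb
    obtain ⟨x, hx, hxb⟩ := (mem_rel_iff η j b).mp hb
    have hgb : g b ∈ η.rel j' := by
      rw [mem_rel_iff]
      refine ⟨η.Nmap f x, mapsTo_Nmap η f x hx, ?_⟩
      rw [← Nmap_comp, hcomm, Nmap_comp, hxb, η.Nmap_t_apply]
    obtain ⟨a', ha'⟩ := h2 (g b) hgb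
    obtain ⟨a, ⟨-, ha⟩, -⟩ := hcart a' b ha'
    exact ⟨a, ha⟩

end Groth.Agent.Lib.EtaRel2H1
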