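import Mathlib
import Groth.Agent.Lib.EtaRel2_helper1

namespace Groth.Agent.Lib.EtaRel3H1

universe u
open EtaPt
open Groth.Agent.Lib.EtaDomH1 Groth.Agent.Lib.EtaLiftH1 Groth.Agent.Lib.EtaLift2H1
  Groth.Agent.Lib.EtaLift3H1 Groth.Agent.Lib.EtaIntH1 Groth.Agent.Lib.EtaSpecH1
  Groth.Agent.Lib.EtaSpec2H1 Groth.Agent.Lib.EtaRelH1 Groth.Agent.Lib.EtaRel2H1

variable (η : EtaPt.FieldEndo.{u})

theorem exists_factor_rel {A B : Type u} [CommRing A] [CommRing B]
    (hA : (minimalPrimes A).Finite) (f : A →+* B)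
    (ρ : η.rel f →+* η.M A) (hρ : ∀ b, η.Nmap f (ρ b : η.N A) = η.t B b)
    (hρq : ρ.comp (η.qRel f) = η.q A) (Q : PrimeSpectrum (η.rel f)) :
    ∃ φ : Q.asIdeal.ResidueField →+*
        η.obj (PrimeSpectrum.comap (η.qRel f) Q).asIdeal.ResidueField,
      (∀ b : η.rel f, φ (algebraMap _ _ b) =
        (ρ b : η.N A) (PrimeSpectrum.comap (η.qRel f) Q)) ∧
      φ.comp (Ideal.ResidueField.map (PrimeSpectrum.comap (η.qRel f) Q).asIdeal Q.asIdeal
        (η.qRel f) rfl) = η.eta (PrimeSpectrum.comap (η.qRel f) Q).asIdeal.ResidueField := by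
  obtain ⟨π, hπ⟩ : ∃ π : η.rel f →+*
      η.obj (PrimeSpectrum.comap (η.qRel f) Q).asIdeal.ResidueField,
      ∀ b, π b = (ρ b : η.N A) (PrimeSpectrum.comap (η.qRel f) Q) :=
    ⟨((Pi.evalRingHom (fun P : PrimeSpectrum A => η.obj P.asIdeal.ResidueField)
      (PrimeSpectrum.comap (η.qRel f) Q)).comp (η.M A).subtype).comp ρ, fun _ => rfl⟩
  have hker : ∀ b, π b = 0 ↔ b ∈ Q.asIdeal := by
    intro b; rw [hπ, rel_mem_prime_iff η hA f ρ hρ hρq Q b]
  obtain ⟨φ, hφ⟩ : ∃ φ : Q.asIdeal.ResidueField →+*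
      η.obj (PrimeSpectrum.comap (η.qRel f) Q).asIdeal.ResidueField,
      ∀ b : η.rel f, φ (algebraMap _ _ b) = π b :=
    ⟨Ideal.ResidueField.lift Q.asIdeal π
      (fun m' hm' => RingHom.mem_ker.mpr ((hker m').mpr hm')) (by
        intro b' hb'
        change IsUnit (π b')
        rw [isUnit_iff_ne_zero]
        intro h0
        exact hb' ((hker b').mp h0)),
      fun m => Ideal.ResidueField.lift_algebraMap _ _ _ _ m⟩
  refine ⟨φ, fun b => by rw [hφ, hπ], ?_⟩
  apply residueField_hom_ext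
  intro a
  change φ (Ideal.ResidueField.map _ _ (η.qRel f) rfl (algebraMap A _ a)) = _
  rw [Ideal.ResidueField.map_algebraMap _ _ (η.qRel f) rfl a, hφ, hπ]
  have : ρ (η.qRel f a) = η.q A a := RingHom.congr_fun hρq a
  rw [this]
  rfl

theorem Nmap_qRel_eq_t {A B : Type u} [CommRing A] [CommRing B]
    (hA : (minimalPrimes A).Finite) (f : A →+* B)
    (ρ : η.rel f →+* η.M A) (hρ : ∀ b, η.Nmap f (ρ b : η.N A) = η.t B b)
    (hρq : ρ.comp (η.qRel f) = η.q A) (b : η.rel f) :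
    η.Nmap (η.qRel f) (ρ b : η.N A) = η.t (η.rel f) b := by
  funext Q
  rw [Nmap_apply, t_apply]
  obtain ⟨θ, hθ1, hθ2⟩ := exists_factor_rel η hA f ρ hρ hρq Q
  apply (η.map θ).injective
  have h1 := RingHom.congr_fun (η.map_comp (Ideal.ResidueField.map
      (PrimeSpectrum.comap (η.qRel f) Q).asIdeal Q.asIdeal (η.qRel f) rfl) θ)
      ((ρ b : η.N A) (PrimeSpectrum.comap (η.qRel f) Q))
  rw [hθ2, map_eta_eq] at h1
  have h2 := RingHom.congr_fun (η.eta_natural θ) (algebraMap (η.rel f) Q.asIdeal.ResidueField b)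
  simp only [RingHom.comp_apply] at h1 h2
  rw [← h1, h2, hθ1]

theorem main13820 (A B : Type u) [CommRing A] [CommRing B] [Algebra A B]
    (hA : (minimalPrimes A).Finite)
    (hs : Function.Surjective (PrimeSpectrum.comap (algebraMap A B))) :
    (η.rel (algebraMap A (integralClosure A B))).map (integralClosure A B).val.toRingHom =
      η.rel (algebraMap A B) := by
  have hcompι : (integralClosure A B).val.toRingHom.comp (algebraMap A (integralClosure A B)) =
      algebraMap A B := RingHom.ext fun a => rfl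
  apply le_antisymm
  · rintro _ ⟨c, hc, rfl⟩
    obtain ⟨x, hx, hxc⟩ := (mem_rel_iff η _ c).mp hc
    rw [mem_rel_iff]
    refine ⟨x, hx, ?_⟩
    rw [← hcompι, Nmap_comp, hxc, η.Nmap_t_apply]
  · intro b hb
    obtain ⟨ρ, hρ, hρq⟩ := exists_rho η (algebraMap A B) hs
    have hint : ∀ b' : η.rel (algebraMap A B), (b' : B) ∈ integralClosure A B := by
      intro b'
      obtain ⟨P, hPm, hP⟩ := (main13817 η hA (algebraMap A B) hs).1 b'
      refine ⟨P, hPm, ?_⟩
      have e6 : ((η.rel (algebraMap A B)).subtype)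
          (Polynomial.eval₂ (η.qRel (algebraMap A B)) b' P) =
          Polynomial.eval₂ (algebraMap A B) (b' : B) P :=
        Polynomial.hom_eval₂ _ (η.qRel (algebraMap A B)) (η.rel (algebraMap A B)).subtype b'
      rw [← e6, hP, map_zero]
    obtain ⟨ν, hν⟩ : ∃ ν : η.rel (algebraMap A B) →+* integralClosure A B,
        ∀ b', ((ν b' : integralClosure A B) : B) = (b' : B) :=
      ⟨((η.rel (algebraMap A B)).subtype).codRestrict (integralClosure A B) hint, fun _ => rfl⟩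
    have hνq : ν.comp (η.qRel (algebraMap A B)) = algebraMap A (integralClosure A B) :=
      RingHom.ext fun a => Subtype.ext (by rw [RingHom.comp_apply, hν]; rfl)
    refine ⟨ν ⟨b, hb⟩, ?_, hν ⟨b, hb⟩⟩
    change ν ⟨b, hb⟩ ∈ η.rel (algebraMap A (integralClosure A B))
    rw [mem_rel_iff]
    refine ⟨(ρ ⟨b, hb⟩ : η.N A), (ρ ⟨b, hb⟩).2, ?_⟩
    rw [← hνq, Nmap_comp, Nmap_qRel_eq_t η hA (algebraMap A B) ρ hρ hρq ⟨b, hb⟩,
      η.Nmap_t_apply]

end Groth.Agent.Lib.EtaRel3H1
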