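import Mathlib
import Groth.Agent.Lib.EtaRel3_helper1

namespace Groth.Agent.Lib.EtaDescH1

universe u
open EtaPt
open scoped TensorProduct
open Groth.Agent.Lib.EtaDomH1 Groth.Agent.Lib.EtaLiftH1 Groth.Agent.Lib.EtaLift2H1
  Groth.Agent.Lib.EtaLift3H1 Groth.Agent.Lib.EtaIntH1 Groth.Agent.Lib.EtaSpecH1
  Groth.Agent.Lib.EtaSpec2H1 Groth.Agent.Lib.EtaRelH1 Groth.Agent.Lib.EtaRel2H1
  Groth.Agent.Lib.EtaRel3H1

variable (η : EtaPt.FieldEndo.{u})

theorem rel_functorial {A B A' B' : Type u} [CommRing A] [CommRing B] [CommRing A']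
    [CommRing B'] (φ : A →+* B) (φ' : A' →+* B') (α : A →+* A') (β : B →+* B')
    (hsq : β.comp φ = φ'.comp α) (b : B) (hb : b ∈ η.rel φ) : β b ∈ η.rel φ' := by
  obtain ⟨m, hmM, hmb⟩ := (mem_rel_iff η φ b).mp hb
  rw [mem_rel_iff]
  refine ⟨η.Nmap α m, mapsTo_Nmap η α m hmM, ?_⟩
  rw [← Nmap_comp, ← hsq, Nmap_comp, hmb, EtaPt.FieldEndo.Nmap_t_apply]

theorem main13822 (A A' B : Type u) [CommRing A] [CommRing A'] [CommRing B]
    [Algebra A A'] [Algebra A B] [Module.FaithfullyFlat A A']
    (h : Function.Bijective
      (η.qRel (Algebra.TensorProduct.includeLeftRingHom : A' →+* A' ⊗[A] B))) :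
    Function.Bijective (η.qRel (algebraMap A B)) := by
  have hsq : (Algebra.TensorProduct.includeRight : B →ₐ[A] A' ⊗[A] B).toRingHom.comp
      (algebraMap A B) =
      (Algebra.TensorProduct.includeLeftRingHom : A' →+* A' ⊗[A] B).comp (algebraMap A A') :=
    Algebra.TensorProduct.includeLeftRingHom_comp_algebraMap.symm
  have hinjA' : Function.Injective (algebraMap A A') := FaithfulSMul.algebraMap_injective A A'
  have hφ'inj : Function.Injective
      (Algebra.TensorProduct.includeLeftRingHom : A' →+* A' ⊗[A] B) := by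
    intro u v huv; exact h.1 (Subtype.ext huv)
  constructor
  · rw [injective_iff_map_eq_zero]
    intro a ha
    have hφa : algebraMap A B a = 0 := congrArg Subtype.val ha
    apply hinjA'
    apply hφ'inj
    rw [map_zero, map_zero]
    have := RingHom.congr_fun hsq a
    rw [RingHom.comp_apply, RingHom.comp_apply, hφa, map_zero] at this
    exact this.symm
  · rintro ⟨b, hb⟩
    have hmem := rel_functorial η (algebraMap A B)
      (Algebra.TensorProduct.includeLeftRingHom : A' →+* A' ⊗[A] B) (algebraMap A A')
      (Algebra.TensorProduct.includeRight : B →ₐ[A] A' ⊗[A] B).toRingHom hsq b hb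
    obtain ⟨a', ha'⟩ := h.2 ⟨_, hmem⟩
    have ha'' : (a' ⊗ₜ[A] (1 : B) : A' ⊗[A] B) = (1 : A') ⊗ₜ[A] b := congrArg Subtype.val ha'
    obtain ⟨S, hSdef⟩ : ∃ S : Submodule A B, S = LinearMap.range (Algebra.linearMap A B) :=
      ⟨_, rfl⟩
    have h1 : (LinearMap.lTensor A' S.mkQ) (a' ⊗ₜ[A] (1 : B)) = 0 := by
      rw [LinearMap.lTensor_tmul]
      have : S.mkQ (1 : B) = 0 := by
        rw [Submodule.mkQ_apply, Submodule.Quotient.mk_eq_zero, hSdef]
        exact ⟨1, by simp⟩
      rw [this, TensorProduct.tmul_zero]
    rw [ha'', LinearMap.lTensor_tmul] at h1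
    have h2 : S.mkQ b = 0 := by
      apply Module.FaithfullyFlat.tensorProduct_mk_injective (A := A) (B := A') (B ⧸ S)
      rw [map_zero]; exact h1
    rw [Submodule.mkQ_apply, Submodule.Quotient.mk_eq_zero, hSdef] at h2
    obtain ⟨a, ha⟩ := h2
    exact ⟨a, Subtype.ext ha⟩

theorem main13823 (A A' : Type u) [CommRing A] [CommRing A'] [Algebra A A']
    [Module.FaithfullyFlat A A']
    (h : Function.Bijective (η.qRel (algebraMap A' (integralClosure A' (FractionRing A'))))) :
    Function.Bijective (η.qRel (algebraMap A (integralClosure A (FractionRing A)))) := by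
  have hnzd : nonZeroDivisors A ≤ (nonZeroDivisors A').comap (algebraMap A A') := by
    intro s hs
    rw [Submonoid.mem_comap, mem_nonZeroDivisors_iff_left]
    intro x hx
    have hreg : IsSMulRegular A' s := Module.Flat.isSMulRegular_of_nonZeroDivisors hs
    apply hreg
    change s • x = s • (0 : A')
    rw [smul_zero, Algebra.smul_def]; exact hx
  obtain ⟨Ψ, hΨ⟩ : ∃ Ψ : FractionRing A →+* FractionRing A', ∀ a,
      Ψ (algebraMap A (FractionRing A) a) =
        algebraMap A' (FractionRing A') (algebraMap A A' a) :=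
    ⟨IsLocalization.map (FractionRing A') (algebraMap A A') hnzd,
      fun a => IsLocalization.map_eq hnzd a⟩
  have hΨint : ∀ x : integralClosure A (FractionRing A),
      Ψ x ∈ integralClosure A' (FractionRing A') := by
    intro x
    exact IsIntegral.map_of_comp_eq (algebraMap A A') Ψ
      (RingHom.ext fun a => (hΨ a).symm) x.2
  obtain ⟨ψ, hψ⟩ : ∃ ψ : integralClosure A (FractionRing A) →+*
      integralClosure A' (FractionRing A'), ∀ x, ((ψ x : integralClosure A' (FractionRing A')) :
        FractionRing A') = Ψ x :=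
    ⟨(Ψ.comp (integralClosure A (FractionRing A)).val.toRingHom).codRestrict
      (integralClosure A' (FractionRing A')) hΨint, fun _ => rfl⟩
  have hsq : ψ.comp (algebraMap A (integralClosure A (FractionRing A))) =
      (algebraMap A' (integralClosure A' (FractionRing A'))).comp (algebraMap A A') := by
    refine RingHom.ext fun a => Subtype.ext ?_
    change ((ψ (algebraMap A (integralClosure A (FractionRing A)) a) :
      integralClosure A' (FractionRing A')) : FractionRing A') = _
    rw [hψ]
    exact hΨ a
  constructor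
  · intro a a₁ haa
    have h1 : algebraMap A (FractionRing A) a = algebraMap A (FractionRing A) a₁ :=
      congrArg (fun z => ((z : integralClosure A (FractionRing A)) : FractionRing A))
        (congrArg Subtype.val haa)
    exact IsLocalization.injective (FractionRing A) (le_refl _) h1
  · rintro ⟨b, hb⟩
    have hmem := rel_functorial η (algebraMap A (integralClosure A (FractionRing A)))
      (algebraMap A' (integralClosure A' (FractionRing A'))) (algebraMap A A') ψ hsq b hb
    obtain ⟨a', ha'⟩ := h.2 ⟨_, hmem⟩
    have ha'' : algebraMap A' (FractionRing A') a' = Ψ (b : FractionRing A) := by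
      have := congrArg (fun z => ((z : integralClosure A' (FractionRing A')) : FractionRing A'))
        (congrArg Subtype.val ha')
      rw [← hψ]
      exact this
    obtain ⟨⟨a, s⟩, has⟩ := IsLocalization.surj (nonZeroDivisors A) (b : FractionRing A)
    have has' : (b : FractionRing A) * algebraMap A _ (s : A) = algebraMap A _ a := has
    have h3 := congrArg Ψ has'
    rw [map_mul, hΨ, hΨ, ← ha'', ← map_mul] at h3
    have h4 : a' * algebraMap A A' (s : A) = algebraMap A A' a :=
      IsLocalization.injective (FractionRing A') (le_refl _) h3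
    have h5 : a ∈ Ideal.span {(s : A)} := by
      rw [← Ideal.comap_map_eq_self_of_faithfullyFlat (B := A') (Ideal.span {(s : A)}),
        Ideal.mem_comap, Ideal.map_span, Set.image_singleton, ← h4]
      exact Ideal.mul_mem_left _ _ (Ideal.subset_span rfl)
    obtain ⟨a₀, ha₀⟩ := Ideal.mem_span_singleton'.mp h5
    refine ⟨a₀, Subtype.ext (Subtype.ext ?_)⟩
    change algebraMap A (FractionRing A) a₀ = (b : FractionRing A)
    have hu := IsLocalization.map_units (FractionRing A) s
    apply hu.mul_left_injective
    change algebraMap A _ a₀ * algebraMap A _ (s : A) = (b : FractionRing A) * algebraMap A _ (s : A)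
    rw [has', ← map_mul, ha₀]

end Groth.Agent.Lib.EtaDescH1
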