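import Mathlib
import Groth.Agent.Lib.EtaDom_helper1

namespace Groth.Agent.Lib.EtaDom2H1

universe u
open EtaPt
open Groth.Agent.Lib.EtaDomH1

variable (η : EtaPt.FieldEndo.{u})

lemma range_integrallyClosedIn (A : Type u) [CommRing A] [IsDomain A] [IsIntegrallyClosed A]
    (L : Type u) [Field L] [Algebra A L] [IsFractionRing A L] :
    IsIntegrallyClosedIn (algebraMap A L).range L := by
  rw [Subring.isIntegrallyClosedIn_iff]
  intro x hx
  letI : Algebra A (algebraMap A L).range := (algebraMap A L).rangeRestrict.toAlgebra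
  haveI : IsScalarTower A (algebraMap A L).range L :=
    IsScalarTower.of_algebraMap_eq (fun a => rfl)
  haveI : Algebra.IsIntegral A (algebraMap A L).range :=
    Algebra.isIntegral_of_surjective (algebraMap A L).rangeRestrict_surjective
  have hx' : IsIntegral A x := isIntegral_trans x hx
  obtain ⟨y, hy⟩ := (isIntegrallyClosed_iff L).mp inferInstance hx'
  exact ⟨y, hy⟩

theorem main13809 (A : Type u) [CommRing A] [IsDomain A] [IsIntegrallyClosed A]
    (hA : η.InV A) : Function.Bijective (η.q A) := by
  have hAK : Function.Bijective (η.eta (FractionRing A)) := hA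
  constructor
  · rw [injective_iff_map_eq_zero]
    intro a ha
    have h1 : η.t A a = 0 := congrArg Subtype.val ha
    have h2 := congrFun h1 ⟨⊥, Ideal.isPrime_bot⟩
    rw [t_apply, Pi.zero_apply, map_eq_zero, Ideal.algebraMap_residueField_eq_zero] at h2
    exact h2
  · rintro ⟨x, hx⟩
    have hL : Function.Bijective (η.eta (⊥ : Ideal A).ResidueField) :=
      eta_bijective_of_equiv η
        (FractionRing.algEquiv A (⊥ : Ideal A).ResidueField).toRingEquiv hAK
    obtain ⟨z, hz⟩ := hL.2 (x ⟨⊥, Ideal.isPrime_bot⟩)
    have hzA : z ∈ (algebraMap A (⊥ : Ideal A).ResidueField).range := by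
      by_contra hzn
      haveI := range_integrallyClosedIn A (⊥ : Ideal A).ResidueField
      obtain ⟨V, hVle, hzV⟩ := Subring.exists_le_valuationSubring_of_isIntegrallyClosedIn hzn
      obtain ⟨g, hg⟩ : ∃ g : A →+* V,
          ∀ a, ((g a : V) : (⊥ : Ideal A).ResidueField) = algebraMap A _ a :=
        ⟨(algebraMap A (⊥ : Ideal A).ResidueField).codRestrict V.toSubring
          (fun a => hVle ⟨a, rfl⟩), fun a => rfl⟩
      have hginj : Function.Injective g := by
        intro a b hab
        apply IsFractionRing.injective A (⊥ : Ideal A).ResidueField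
        rw [← hg, ← hg, hab]
      have hInV : η.InV V := inV_valuationSubring η hL V
      obtain ⟨r, hr⟩ := (mem_M_iff η x).mp hx V hInV g
      have h1 := congrFun hr ⟨⊥, Ideal.isPrime_bot⟩
      rw [t_apply, Nmap_apply] at h1
      have hcomap : PrimeSpectrum.comap g ⟨⊥, Ideal.isPrime_bot⟩ = ⟨⊥, Ideal.isPrime_bot⟩ := by
        apply PrimeSpectrum.ext
        exact Ideal.comap_bot_of_injective g hginj
      have key : ∀ (P : PrimeSpectrum A) (_ : P = ⟨⊥, Ideal.isPrime_bot⟩)
          (φ : P.asIdeal.ResidueField →+* (⊥ : Ideal V).ResidueField)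
          (_ : ∀ a, φ (algebraMap A _ a) = algebraMap V _ (g a)),
          η.eta _ (algebraMap V (⊥ : Ideal V).ResidueField r) = η.map φ (x P) → z ∈ V := by
        rintro _ rfl φ hφ h
        rw [← hz] at h
        have hnat := RingHom.congr_fun (η.eta_natural φ) z
        simp only [RingHom.comp_apply] at hnat
        rw [hnat] at h
        have h5 : algebraMap V (⊥ : Ideal V).ResidueField r = φ z := (η.eta _).injective h
        let ψ : (⊥ : Ideal V).ResidueField ≃ₐ[V] (⊥ : Ideal A).ResidueField :=
          IsLocalization.algEquiv (nonZeroDivisors V) _ _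
        have hcomp : ((ψ : (⊥ : Ideal V).ResidueField →+* (⊥ : Ideal A).ResidueField).comp φ) =
            RingHom.id _ := by
          apply IsLocalization.ringHom_ext (nonZeroDivisors A)
          ext a
          change ψ (φ (algebraMap A _ a)) = algebraMap A _ a
          rw [hφ]
          exact (ψ.commutes (g a)).trans (hg a)
        have hψφ : ∀ w, ψ (φ w) = w := fun w => RingHom.congr_fun hcomp w
        have hzr : z = (r : (⊥ : Ideal A).ResidueField) := by
          rw [← hψφ z, ← h5]
          exact ψ.commutes r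
        rw [hzr]; exact r.2
      exact hzV (key _ hcomap _ (fun a => Ideal.ResidueField.map_algebraMap _ _ g rfl a) h1)
    obtain ⟨a, ha⟩ := hzA
    refine ⟨a, ?_⟩
    apply Subtype.ext
    change η.t A a = x
    have hsub : η.t A a - x ∈ η.M A := (η.M A).sub_mem (η.t_mem_M A a) hx
    have h0 : (η.t A a - x) ⟨⊥, Ideal.isPrime_bot⟩ = 0 := by
      change η.eta _ (algebraMap A (⊥ : Ideal A).ResidueField a) - x ⟨⊥, Ideal.isPrime_bot⟩ = 0
      rw [ha, hz, sub_self]
    have := eq_zero_of_generic_zero η A hA (η.t A a - x) hsub h0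
    exact sub_eq_zero.mp this

end Groth.Agent.Lib.EtaDom2H1
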