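import Mathlib

/-!
# η-étale criterion via Kähler differentials over a DVR (helper3)
-/

set_option autoImplicit false
universe u

open TensorProduct KaehlerDifferential

namespace Groth.Agent.Lib.EtaEtale

section Core

/-- Changing the base along a formally unramified `V → K` does not change the differentials of `B`. -/
theorem map_bijective_of_subsingleton (V K B : Type u) [CommRing V] [CommRing K] [CommRing B]
    [Algebra V K] [Algebra V B] [Algebra K B] [IsScalarTower V K B] [Subsingleton Ω[K⁄V]] :
    Function.Bijective (KaehlerDifferential.map V K B B) := by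
  refine ⟨?_, KaehlerDifferential.map_surjective V K B⟩
  rw [injective_iff_map_eq_zero]
  intro x hx
  obtain ⟨y, rfl⟩ := (KaehlerDifferential.exact_mapBaseChange_map V K B x).mp hx
  rw [Subsingleton.elim y 0, map_zero]

/-- The linear equivalence `Ω[B/V] ≃ Ω[B/K]`. -/
noncomputable def kaehlerEquivOfSubsingleton (V K B : Type u) [CommRing V] [CommRing K]
    [CommRing B] [Algebra V K] [Algebra V B] [Algebra K B] [IsScalarTower V K B]
    [Subsingleton Ω[K⁄V]] : Ω[B⁄V] ≃ₗ[B] Ω[B⁄K] :=
  LinearEquiv.ofBijective (KaehlerDifferential.map V K B B)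
    (map_bijective_of_subsingleton V K B)

/-- Core criterion: an unramified map between algebras with differentials of the same constant
rank, the target being formally smooth over the base, is formally étale. -/
theorem formallyEtale_of_rank (V A₁ T : Type u) [CommRing V] [CommRing A₁] [CommRing T]
    [Algebra V A₁] [Algebra V T] [Algebra A₁ T] [IsScalarTower V A₁ T]
    [Algebra.FormallySmooth V T]
    [Module.Finite A₁ Ω[A₁⁄V]] [Module.Flat A₁ Ω[A₁⁄V]]
    [Module.Finite T Ω[T⁄V]] [Module.Flat T Ω[T⁄V]]
    (d : ℕ) (h2 : ∀ q : PrimeSpectrum A₁, Module.rankAtStalk (R := A₁) Ω[A₁⁄V] q = d)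
    (h3 : ∀ q : PrimeSpectrum T, Module.rankAtStalk (R := T) Ω[T⁄V] q = d)
    [Subsingleton Ω[T⁄A₁]] : Algebra.FormallyEtale A₁ T := by
  have hsurj : Function.Surjective (mapBaseChange V A₁ T) := fun x =>
    (KaehlerDifferential.exact_mapBaseChange_map V A₁ T x).mp (Subsingleton.elim _ _)
  have hbij : Function.Bijective (mapBaseChange V A₁ T) := by
    refine Module.bijective_of_surjective_of_rankAtStalk_eq hsurj fun m _ => ?_
    rw [Module.rankAtStalk_baseChange, h2, h3]
  have hH1 : Subsingleton (Algebra.H1Cotangent A₁ T) := by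
    refine ⟨fun x y => ?_⟩
    have hx : ∀ z : Algebra.H1Cotangent A₁ T, z = 0 := by
      intro z
      have h0 : Algebra.H1Cotangent.δ V A₁ T z = 0 := by
        apply hbij.1
        rw [map_zero]
        exact (Algebra.H1Cotangent.exact_δ_mapBaseChange V A₁ T _).mpr ⟨z, rfl⟩
      obtain ⟨w, rfl⟩ := (Algebra.H1Cotangent.exact_map_δ V A₁ T z).mp h0
      rw [Subsingleton.elim w 0, map_zero]
    rw [hx x, hx y]
  haveI : Algebra.FormallySmooth A₁ T := ⟨inferInstance, hH1⟩
  haveI : Algebra.FormallyUnramified A₁ T := ⟨inferInstance⟩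
  exact Algebra.FormallyEtale.of_formallyUnramified_and_formallySmooth
end Core


section Locally

/-- From "locally standard smooth of relative dimension `d`" to smoothness and constant rank of
the differentials. -/
theorem smooth_and_rank_of_locally (K B : Type u) [CommRing K] [CommRing B] [Algebra K B] (d : ℕ)
    (h : RingHom.Locally (RingHom.IsStandardSmoothOfRelativeDimension d) (algebraMap K B)) :
    Algebra.Smooth K B ∧
      ∀ q : PrimeSpectrum B, Module.rankAtStalk (R := B) Ω[B⁄K] q = d := by
  have hsm : Algebra.Smooth K B := by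
    rw [← RingHom.smooth_algebraMap, RingHom.smooth_iff_locally_isStandardSmooth]
    exact RingHom.locally_of_locally (fun h => h.isStandardSmooth) h
  refine ⟨hsm, fun q => ?_⟩
  haveI : Algebra.FinitePresentation K B := Algebra.Smooth.finitePresentation
  haveI : Algebra.FormallySmooth K B := Algebra.Smooth.formallySmooth
  obtain ⟨s, hs, hP⟩ := h
  obtain ⟨t, hts, htq⟩ : ∃ t ∈ s, t ∉ q.asIdeal := by
    by_contra hcon
    push_neg at hcon
    have : Ideal.span s ≤ q.asIdeal := Ideal.span_le.mpr fun t ht => hcon t ht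
    rw [hs, top_le_iff] at this
    exact q.2.ne_top this
  have hPt := hP t hts
  rw [← IsScalarTower.algebraMap_eq K B (Localization.Away t),
    RingHom.isStandardSmoothOfRelativeDimension_algebraMap] at hPt
  haveI := hPt
  haveI : Algebra.IsStandardSmooth K (Localization.Away t) :=
    Algebra.IsStandardSmoothOfRelativeDimension.isStandardSmooth d
  have hdisj : Disjoint (Submonoid.powers t : Set B) (q.asIdeal : Set B) := by
    rw [Ideal.disjoint_powers_iff_notMem _ q.2.isRadical]
    exact htq
  haveI hq' : (Ideal.map (algebraMap B (Localization.Away t)) q.asIdeal).IsPrime :=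
    IsLocalization.isPrime_of_isPrime_disjoint (Submonoid.powers t) _ _ q.2 hdisj
  have hcomap : Ideal.comap (algebraMap B (Localization.Away t))
      (Ideal.map (algebraMap B (Localization.Away t)) q.asIdeal) = q.asIdeal :=
    IsLocalization.comap_map_of_isPrime_disjoint (Submonoid.powers t) _ q.2 hdisj
  let q' : PrimeSpectrum (Localization.Away t) :=
    ⟨Ideal.map (algebraMap B (Localization.Away t)) q.asIdeal, hq'⟩
  have hq'q : PrimeSpectrum.comap (algebraMap B (Localization.Away t)) q' = q :=
    PrimeSpectrum.ext hcomap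
  haveI : Nontrivial (Localization.Away t) := q'.nontrivial
  have h1 := Module.rankAtStalk_baseChange (R := B) (M := Ω[B⁄K]) (S := Localization.Away t) q'
  rw [hq'q] at h1
  rw [← h1]
  haveI : Algebra.FormallyEtale B (Localization.Away t) :=
    Algebra.FormallyEtale.of_isLocalization (Submonoid.powers t)
  rw [Module.rankAtStalk_eq_of_equiv
    (KaehlerDifferential.tensorKaehlerEquivOfFormallyEtale K B (Localization.Away t)),
    Module.rankAtStalk_eq_finrank_of_free]
  have h2 := Algebra.IsStandardSmoothOfRelativeDimension.rank_kaehlerDifferential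
    (R := K) (S := Localization.Away t) d
  simp only [Pi.natCast_def, Nat.cast_id]
  exact Module.finrank_eq_of_rank_eq h2

end Locally

section Generic

/-- Lemma X: the core criterion, with the target a formally étale algebra over a second smooth
algebra. -/
theorem formallyEtale_of_rank' (V A₁ R₁ R' : Type u) [CommRing V] [CommRing A₁] [CommRing R₁]
    [CommRing R'] [Algebra V A₁] [Algebra V R₁] [Algebra V R'] [Algebra A₁ R'] [Algebra R₁ R']
    [IsScalarTower V A₁ R'] [IsScalarTower V R₁ R']
    [Algebra.FormallySmooth V R₁] [Algebra.FormallyEtale R₁ R']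
    [Module.Finite A₁ Ω[A₁⁄V]] [Module.Flat A₁ Ω[A₁⁄V]]
    [Module.Finite R₁ Ω[R₁⁄V]] [Module.Flat R₁ Ω[R₁⁄V]]
    (d : ℕ) (h2 : ∀ q : PrimeSpectrum A₁, Module.rankAtStalk (R := A₁) Ω[A₁⁄V] q = d)
    (h3 : ∀ q : PrimeSpectrum R₁, Module.rankAtStalk (R := R₁) Ω[R₁⁄V] q = d)
    [Subsingleton Ω[R'⁄A₁]] : Algebra.FormallyEtale A₁ R' := by
  haveI : Algebra.FormallySmooth V R' := Algebra.FormallySmooth.comp V R₁ R'
  let e := KaehlerDifferential.tensorKaehlerEquivOfFormallyEtale V R₁ R'
  haveI : Module.Finite R' Ω[R'⁄V] := Module.Finite.equiv e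
  haveI : Module.Flat R' Ω[R'⁄V] := Module.Flat.of_linearEquiv e.symm
  refine formallyEtale_of_rank V A₁ R' d h2 fun q => ?_
  rw [← Module.rankAtStalk_eq_of_equiv e, Module.rankAtStalk_baseChange, h3]

/-- Lemma Y: smoothness data over `V` for an algebra over a formally étale `V`-algebra `K`. -/
theorem data_of_locally (V K B : Type u) [CommRing V] [CommRing K] [CommRing B]
    [Algebra V K] [Algebra V B] [Algebra K B] [IsScalarTower V K B] [Algebra.FormallyEtale V K]
    (d : ℕ)
    (h : RingHom.Locally (RingHom.IsStandardSmoothOfRelativeDimension d) (algebraMap K B)) :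
    Algebra.FormallySmooth V B ∧ Module.Finite B Ω[B⁄V] ∧ Module.Flat B Ω[B⁄V] ∧
      ∀ q : PrimeSpectrum B, Module.rankAtStalk (R := B) Ω[B⁄V] q = d := by
  obtain ⟨hsm, hrank⟩ := smooth_and_rank_of_locally K B d h
  haveI : Algebra.FormallySmooth K B := Algebra.Smooth.formallySmooth
  haveI : Algebra.FinitePresentation K B := Algebra.Smooth.finitePresentation
  haveI : Subsingleton Ω[K⁄V] := inferInstance
  let e := kaehlerEquivOfSubsingleton V K B
  haveI : Module.Projective B Ω[B⁄K] := inferInstance
  haveI : Module.Finite B Ω[B⁄K] := inferInstance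
  refine ⟨Algebra.FormallySmooth.comp V K B, Module.Finite.equiv e.symm,
    Module.Flat.of_linearEquiv e, fun q => ?_⟩
  rw [Module.rankAtStalk_eq_of_equiv e, hrank]

variable (V K A R' : Type u) [CommRing V] [CommRing K] [Algebra V K] [IsFractionRing V K]
  [CommRing A] [CommRing R'] [Algebra V A] [Algebra A R'] [Algebra V R'] [IsScalarTower V A R']

/-- The canonical map `K ⊗[V] A → R'` when the nonzero elements of `V` become units in `R'`. -/
noncomputable def toLoc (h : ∀ x : nonZeroDivisors V, IsUnit (Algebra.ofId V R' x)) :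
    K ⊗[V] A →ₐ[V] R' :=
  Algebra.TensorProduct.lift
    (IsLocalization.liftAlgHom (M := nonZeroDivisors V) (f := Algebra.ofId V R') h)
    (IsScalarTower.toAlgHom V A R') (fun _ _ => Commute.all _ _)

theorem toLoc_one_tmul (h : ∀ x : nonZeroDivisors V, IsUnit (Algebra.ofId V R' x)) (x : A) :
    toLoc V K A R' h (1 ⊗ₜ x) = algebraMap A R' x := by
  simp [toLoc]

end Generic

section Main

attribute [local instance] Algebra.TensorProduct.rightAlgebra

/-- If the generic fibres of `A` and `R` are smooth of the same relative dimension and `R'` is a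
formally étale `R`-algebra in which the nonzero elements of `V` are invertible and which is
unramified over `A`, then `R'` is formally étale over `A`. -/
theorem formallyEtale_of_generic (V K A R R' : Type u) [CommRing V] [CommRing K] [Algebra V K]
    [IsFractionRing V K] [CommRing A] [CommRing R] [CommRing R']
    [Algebra V A] [Algebra V R] [Algebra A R] [IsScalarTower V A R]
    [Algebra R R'] [Algebra A R'] [Algebra V R'] [IsScalarTower A R R'] [IsScalarTower V R R']
    [IsScalarTower V A R'] [Algebra.FormallyEtale R R']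
    (hunit : ∀ x : nonZeroDivisors V, IsUnit (Algebra.ofId V R' x)) (d : ℕ)
    (hA : RingHom.Locally (RingHom.IsStandardSmoothOfRelativeDimension d)
      (algebraMap K (K ⊗[V] A)))
    (hR : RingHom.Locally (RingHom.IsStandardSmoothOfRelativeDimension d)
      (algebraMap K (K ⊗[V] R)))
    [Subsingleton Ω[R'⁄A]] : Algebra.FormallyEtale A R' := by
  haveI : Algebra.FormallyEtale V K := Algebra.FormallyEtale.of_isLocalization (nonZeroDivisors V)
  obtain ⟨hA1, hA2, hA3, hA4⟩ := data_of_locally V K (K ⊗[V] A) d hA
  obtain ⟨hR1, hR2, hR3, hR4⟩ := data_of_locally V K (K ⊗[V] R) d hR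
  letI algA : Algebra (K ⊗[V] A) R' := (toLoc V K A R' hunit).toRingHom.toAlgebra
  letI algR : Algebra (K ⊗[V] R) R' := (toLoc V K R R' hunit).toRingHom.toAlgebra
  haveI : IsScalarTower V (K ⊗[V] A) R' :=
    IsScalarTower.of_algebraMap_eq fun x => ((toLoc V K A R' hunit).commutes x).symm
  haveI : IsScalarTower V (K ⊗[V] R) R' :=
    IsScalarTower.of_algebraMap_eq fun x => ((toLoc V K R R' hunit).commutes x).symm
  haveI : IsScalarTower A (K ⊗[V] A) R' :=
    IsScalarTower.of_algebraMap_eq fun x => (toLoc_one_tmul V K A R' hunit x).symm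
  haveI : IsScalarTower R (K ⊗[V] R) R' :=
    IsScalarTower.of_algebraMap_eq fun x => (toLoc_one_tmul V K R R' hunit x).symm
  haveI : Algebra.FormallyEtale R (K ⊗[V] R) :=
    Algebra.FormallyEtale.of_isLocalization (Algebra.algebraMapSubmonoid R (nonZeroDivisors V))
  haveI : Algebra.FormallyEtale (K ⊗[V] R) R' := Algebra.FormallyEtale.of_restrictScalars (R := R)
  haveI : Subsingleton Ω[R'⁄(K ⊗[V] A)] :=
    (KaehlerDifferential.map_surjective A (K ⊗[V] A) R').subsingleton
  haveI := formallyEtale_of_rank' V (K ⊗[V] A) (K ⊗[V] R) R' d hA4 hR4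
  haveI : Algebra.FormallyEtale A (K ⊗[V] A) :=
    Algebra.FormallyEtale.of_isLocalization (Algebra.algebraMapSubmonoid A (nonZeroDivisors V))
  exact Algebra.FormallyEtale.comp A (K ⊗[V] A) R'

end Main

section Final

variable (V : Type u) [CommRing V] [IsDomain V] [IsDiscreteValuationRing V]
  (ϖ : V) (hϖ : Irreducible ϖ) (p : ℕ)
  (A : Type u) [CommRing A] [Algebra V A] [Algebra.FiniteType V A]
  (R : Type u) [CommRing R] [Algebra V R] [Algebra.FiniteType V R] [Algebra A R]
  [IsScalarTower V A R]

include hϖ in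
/-- Second half: vanishing of `p^n Ω` along the closed fibre forces η-étaleness when the generic
fibres are smooth of the same dimension. -/
theorem part2 (hp : (p : V) ≠ 0) (d : ℕ)
    (hA : RingHom.Locally (RingHom.IsStandardSmoothOfRelativeDimension d)
      (algebraMap (FractionRing V) (FractionRing V ⊗[V] A)))
    (hR : RingHom.Locally (RingHom.IsStandardSmoothOfRelativeDimension d)
      (algebraMap (FractionRing V) (FractionRing V ⊗[V] R)))
    (n : ℕ)
    (hn : Ideal.span {((p : R)) ^ n} • (⊤ : Submodule R (Ω[R⁄A])) ≤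
        Ideal.span {algebraMap V R ϖ * (p : R) ^ n} • (⊤ : Submodule R (Ω[R⁄A]))) :
    ∃ a : R, Ideal.span {a} ⊔ Ideal.span {algebraMap V R ϖ} = ⊤ ∧
      ((algebraMap R (Localization.Away (a * algebraMap V R ϖ))).comp (algebraMap A R)).Etale := by
  classical
  haveI : Algebra.FiniteType A R := Algebra.FiniteType.of_restrictScalars_finiteType V A R
  haveI : Module.Finite R Ω[R⁄A] := inferInstance
  set ϖR : R := algebraMap V R ϖ with hϖR
  set N : Submodule R Ω[R⁄A] := Ideal.span {((p : R)) ^ n} • (⊤ : Submodule R (Ω[R⁄A])) with hN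
  have hNfg : N.FG := Submodule.FG.smul (Submodule.fg_span_singleton _) Module.Finite.fg_top
  have hle : N ≤ Ideal.span {ϖR} • N := by
    rw [hN, ← Submodule.mul_smul, Ideal.span_singleton_mul_span_singleton]
    exact hn
  obtain ⟨a, ha1, haN⟩ :=
    Submodule.exists_sub_one_mem_and_smul_eq_zero_of_fg_of_le_smul (Ideal.span {ϖR}) N hNfg hle
  refine ⟨a, ?_, ?_⟩
  · rw [Ideal.eq_top_iff_one]
    have h1 : (1 : R) = a - (a - 1) := by ring
    rw [h1]
    exact Submodule.sub_mem _ (Submodule.mem_sup_left (Ideal.mem_span_singleton_self a))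
      (Submodule.mem_sup_right ha1)
  · rw [← IsScalarTower.algebraMap_eq A R (Localization.Away (a * ϖR)), RingHom.etale_algebraMap]
    have hu : IsUnit (algebraMap R (Localization.Away (a * ϖR)) (a * ϖR)) :=
      IsLocalization.Away.algebraMap_isUnit _
    rw [map_mul] at hu
    have hua : IsUnit (algebraMap R (Localization.Away (a * ϖR)) a) :=
      isUnit_of_mul_isUnit_left hu
    have huϖ : IsUnit (algebraMap V (Localization.Away (a * ϖR)) ϖ) := by
      rw [IsScalarTower.algebraMap_apply V R (Localization.Away (a * ϖR))]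
      exact isUnit_of_mul_isUnit_right hu
    have hunit : ∀ x : nonZeroDivisors V,
        IsUnit (Algebra.ofId V (Localization.Away (a * ϖR)) x) := by
      rintro ⟨x, hx⟩
      obtain ⟨k, u, rfl⟩ :=
        IsDiscreteValuationRing.eq_unit_mul_pow_irreducible (nonZeroDivisors.ne_zero hx) hϖ
      change IsUnit (algebraMap V (Localization.Away (a * ϖR)) (u * ϖ ^ k))
      rw [map_mul, map_pow]
      exact (u.isUnit.map _).mul (huϖ.pow k)
    have hup : IsUnit (algebraMap R (Localization.Away (a * ϖR)) ((p : R) ^ n)) := by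
      have h2 : algebraMap R (Localization.Away (a * ϖR)) ((p : R) ^ n) =
          algebraMap V (Localization.Away (a * ϖR)) ((p : V) ^ n) := by
        simp
      rw [h2]
      exact hunit ⟨(p : V) ^ n, mem_nonZeroDivisors_of_ne_zero (pow_ne_zero _ hp)⟩
    haveI : Algebra.FormallyEtale R (Localization.Away (a * ϖR)) :=
      Algebra.FormallyEtale.of_isLocalization (Submonoid.powers (a * ϖR))
    haveI : Subsingleton Ω[(Localization.Away (a * ϖR))⁄A] := by
      let e := KaehlerDifferential.tensorKaehlerEquivOfFormallyEtale A R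
        (Localization.Away (a * ϖR))
      suffices h : Subsingleton ((Localization.Away (a * ϖR)) ⊗[R] Ω[R⁄A]) from
        e.symm.toEquiv.subsingleton
      refine subsingleton_of_forall_eq 0 fun z => ?_
      induction z using TensorProduct.induction_on with
      | zero => rfl
      | tmul x ω =>
        obtain ⟨c, hc⟩ := (hua.mul hup).exists_left_inv
        have hx : x = (x * c) * algebraMap R (Localization.Away (a * ϖR)) (a * (p : R) ^ n) := by
          rw [map_mul, mul_assoc, hc, mul_one]
        have h0 : (a * (p : R) ^ n) • ω = 0 := by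
          rw [mul_smul]
          exact haN _ (Submodule.smul_mem_smul (Ideal.mem_span_singleton_self _)
            Submodule.mem_top)
        rw [hx, mul_comm (x * c), ← Algebra.smul_def, TensorProduct.smul_tmul, h0,
          TensorProduct.tmul_zero]
      | add x y hx hy => rw [hx, hy, add_zero]
    haveI : IsNoetherianRing A := Algebra.FiniteType.isNoetherianRing V A
    haveI : Algebra.FiniteType R (Localization.Away (a * ϖR)) :=
      haveI := IsLocalization.Away.finitePresentation (S := Localization.Away (a * ϖR)) (a * ϖR)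
      Algebra.FiniteType.of_finitePresentation
    haveI : Algebra.FiniteType A (Localization.Away (a * ϖR)) :=
      Algebra.FiniteType.trans ‹Algebra.FiniteType A R› inferInstance
    haveI : Algebra.FinitePresentation A (Localization.Away (a * ϖR)) :=
      Algebra.FinitePresentation.of_finiteType.mp inferInstance
    haveI := formallyEtale_of_generic V (FractionRing V) A R (Localization.Away (a * ϖR))
      hunit d hA hR
    exact ⟨inferInstance, inferInstance⟩

/-- First half: η-étaleness forces vanishing of `p^n Ω` along the closed fibre. -/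
theorem part1 (hpϖ : ϖ ∣ (p : V)) (a : R)
    (ha : Ideal.span {a} ⊔ Ideal.span {algebraMap V R ϖ} = ⊤)
    (het : ((algebraMap R (Localization.Away (a * algebraMap V R ϖ))).comp
      (algebraMap A R)).Etale) :
    ∃ n : ℕ, Ideal.span {((p : R)) ^ n} • (⊤ : Submodule R (Ω[R⁄A])) ≤
        Ideal.span {algebraMap V R ϖ * (p : R) ^ n} • (⊤ : Submodule R (Ω[R⁄A])) := by
  classical
  haveI : Algebra.FiniteType A R := Algebra.FiniteType.of_restrictScalars_finiteType V A R
  haveI : Module.Finite R Ω[R⁄A] := inferInstance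
  set ϖR : R := algebraMap V R ϖ with hϖR
  rw [← IsScalarTower.algebraMap_eq A R (Localization.Away (a * ϖR)),
    RingHom.etale_algebraMap] at het
  haveI : Algebra.FormallyEtale A (Localization.Away (a * ϖR)) := het.formallyEtale
  haveI : Subsingleton Ω[(Localization.Away (a * ϖR))⁄A] := inferInstance
  haveI : Algebra.FormallyEtale R (Localization.Away (a * ϖR)) :=
    Algebra.FormallyEtale.of_isLocalization (Submonoid.powers (a * ϖR))
  let e := KaehlerDifferential.tensorKaehlerEquivOfFormallyEtale A R (Localization.Away (a * ϖR))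
  haveI : Subsingleton ((Localization.Away (a * ϖR)) ⊗[R] Ω[R⁄A]) := e.toEquiv.subsingleton
  have hkill : ∀ ω : Ω[R⁄A], ∃ k : ℕ, (a * ϖR) ^ k • ω = 0 := by
    intro ω
    haveI : IsLocalizedModule (Submonoid.powers (a * ϖR))
        (TensorProduct.mk R (Localization.Away (a * ϖR)) Ω[R⁄A] 1) :=
      (isLocalizedModule_iff_isBaseChange (Submonoid.powers (a * ϖR))
        (Localization.Away (a * ϖR)) _).mpr
        (TensorProduct.isBaseChange R Ω[R⁄A] (Localization.Away (a * ϖR)))
    have h0 : TensorProduct.mk R (Localization.Away (a * ϖR)) Ω[R⁄A] 1 ω = 0 :=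
      Subsingleton.elim _ _
    obtain ⟨⟨_, k, rfl⟩, hk⟩ :=
      (IsLocalizedModule.eq_zero_iff (Submonoid.powers (a * ϖR)) _).mp h0
    exact ⟨k, hk⟩
  obtain ⟨s, hs⟩ := (Module.Finite.fg_top : (⊤ : Submodule R Ω[R⁄A]).FG)
  choose kf hkf using hkill
  let N := s.sup kf
  have hN : ∀ ω : Ω[R⁄A], (a * ϖR) ^ N • ω = 0 := by
    intro ω
    have hω : ω ∈ Submodule.span R (s : Set Ω[R⁄A]) := hs ▸ Submodule.mem_top
    induction hω using Submodule.span_induction with
    | mem x hx =>
      have hle : kf x ≤ N := Finset.le_sup hx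
      rw [← Nat.sub_add_cancel hle, pow_add, mul_smul, hkf, smul_zero]
    | zero => rw [smul_zero]
    | add x y _ _ hx hy => rw [smul_add, hx, hy, add_zero]
    | smul r x _ hx => rw [smul_comm, hx, smul_zero]
  have hcop : IsCoprime (a ^ N) ϖR := by
    have h1 : IsCoprime a ϖR := by
      have h1 : (1 : R) ∈ Ideal.span {a} ⊔ Ideal.span {ϖR} := ha ▸ Submodule.mem_top
      obtain ⟨x, hx, y, hy, hxy⟩ := Submodule.mem_sup.mp h1
      obtain ⟨x', rfl⟩ := Ideal.mem_span_singleton'.mp hx
      obtain ⟨y', rfl⟩ := Ideal.mem_span_singleton'.mp hy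
      exact ⟨x', y', hxy⟩
    exact h1.pow_left
  obtain ⟨r, s', hrs⟩ := hcop
  obtain ⟨c, hc⟩ := hpϖ
  refine ⟨N, ?_⟩
  rw [Submodule.smul_le]
  intro x hx ω _
  obtain ⟨y, rfl⟩ := Ideal.mem_span_singleton'.mp hx
  have hpR : (p : R) = ϖR * algebraMap V R c := by
    rw [hϖR, ← map_mul, ← hc]
    simp
  have h1 : ϖR ^ N • ω = (s' * ϖR ^ (N + 1)) • ω := by
    calc ϖR ^ N • ω = ((r * a ^ N + s' * ϖR) * ϖR ^ N) • ω := by rw [hrs, one_mul]
      _ = (r * (a * ϖR) ^ N + s' * ϖR ^ (N + 1)) • ω := by ring_nf
      _ = _ := by rw [add_smul, mul_smul r, hN, smul_zero, zero_add]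
  have key : ((p : R) ^ N) • ω = (ϖR * (p : R) ^ N) • (s' • ω) := by
    calc (p : R) ^ N • ω = (algebraMap V R c) ^ N • (ϖR ^ N • ω) := by
          rw [hpR, mul_pow, mul_comm, mul_smul]
      _ = (algebraMap V R c) ^ N • ((s' * ϖR ^ (N + 1)) • ω) := by rw [h1]
      _ = _ := by
          rw [hpR, smul_smul, smul_smul]
          congr 1
          ring
  rw [mul_smul, key, smul_comm]
  exact Submodule.smul_mem_smul (Ideal.mem_span_singleton_self _) Submodule.mem_top

end Final

end Groth.Agent.Lib.EtaEtale
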