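import Mathlib
import Groth.Prelude.Def_W4c1chowmix47Eta

namespace Groth.Agent.Lib.EtaFieldH1

universe u
open EtaPt

theorem main (η : EtaPt.FieldEndo.{u}) (K : Type u) [Field K] : η.M K = ⊤ := by
  rw [eq_top_iff]
  intro x _
  change ∀ (R : Type u) [CommRing R] [IsDomain R] [ValuationRing R], η.InV R →
    ∀ g : K →+* R, η.Nmap g x ∈ (η.t R).range
  intro R _ _ _ hR g
  have hR' : Function.Bijective (η.eta (FractionRing R)) := hR
  obtain ⟨e, he⟩ : ∃ e, e = ringExpChar K := ⟨_, rfl⟩
  haveI : ExpChar K e := by rw [he]; exact ringExpChar.expChar K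
  obtain ⟨p₁, -⟩ : ∃ p : PrimeSpectrum K, p = default := ⟨_, rfl⟩
  haveI hek : ExpChar p₁.asIdeal.ResidueField e :=
    expChar_of_injective_ringHom (algebraMap K p₁.asIdeal.ResidueField).injective e
  obtain ⟨n, y, hy⟩ := η.exists_pow_mem_range_eta p₁.asIdeal.ResidueField (x p₁)
  rw [ringExpChar.eq p₁.asIdeal.ResidueField e] at hy
  obtain ⟨y₀, rfl⟩ := (Ideal.algEquivResidueFieldOfField p₁.asIdeal).surjective y
  rw [Ideal.algEquivResidueFieldOfField_apply] at hy
  have key : ∀ p : PrimeSpectrum K,
      x p ^ e ^ n = η.eta _ (algebraMap K p.asIdeal.ResidueField y₀) := by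
    intro p
    obtain rfl : p = p₁ := Subsingleton.elim _ _
    exact hy.symm
  have hpos : 0 < e ^ n := by
    have := expChar_pos K e
    positivity
  -- a root in R
  obtain ⟨r, hr⟩ : ∃ r : R, r ^ e ^ n = g y₀ := by
    let φ' : p₁.asIdeal.ResidueField →+* FractionRing R :=
      ((algebraMap R (FractionRing R)).comp g).comp
        ((Ideal.algEquivResidueFieldOfField p₁.asIdeal).symm : p₁.asIdeal.ResidueField →+* K)
    have hφ : φ' (algebraMap K p₁.asIdeal.ResidueField y₀) =
        algebraMap R (FractionRing R) (g y₀) := by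
      change algebraMap R (FractionRing R)
        (g ((Ideal.algEquivResidueFieldOfField p₁.asIdeal).symm (algebraMap K _ y₀))) = _
      rw [← Ideal.algEquivResidueFieldOfField_apply, AlgEquiv.symm_apply_apply]
    obtain ⟨z, hz⟩ := hR'.2 (η.map φ' (x p₁))
    have hz2 : z ^ e ^ n = algebraMap R (FractionRing R) (g y₀) := by
      apply hR'.1
      rw [map_pow, hz, ← map_pow, key p₁]
      have hnat := congrArg (fun h => h (algebraMap K p₁.asIdeal.ResidueField y₀))
        (congrArg DFunLike.coe (η.eta_natural φ'))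
      simp only [RingHom.comp_apply] at hnat
      rw [hnat, hφ]
    obtain ⟨r, hr⟩ := IsIntegrallyClosed.exists_algebraMap_eq_of_isIntegral_pow (R := R) hpos
      (x := z) (by rw [hz2]; exact isIntegral_algebraMap)
    refine ⟨r, ?_⟩
    apply IsFractionRing.injective R (FractionRing R)
    rw [map_pow, hr, hz2]
  refine ⟨r, ?_⟩
  funext q
  change η.eta _ (algebraMap R q.asIdeal.ResidueField r) =
    η.map (Ideal.ResidueField.map (PrimeSpectrum.comap g q).asIdeal q.asIdeal g rfl)
      (x (PrimeSpectrum.comap g q))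
  haveI : ExpChar (η.obj q.asIdeal.ResidueField) e :=
    expChar_of_injective_ringHom
      (f := ((η.eta q.asIdeal.ResidueField).comp (algebraMap R q.asIdeal.ResidueField)).comp g)
      (RingHom.injective _) e
  apply iterateFrobenius_inj (η.obj q.asIdeal.ResidueField) e n
  rw [iterateFrobenius_def, iterateFrobenius_def]
  have hnat := congrArg (fun h => h (algebraMap K _ y₀))
    (congrArg DFunLike.coe (η.eta_natural
      (Ideal.ResidueField.map (PrimeSpectrum.comap g q).asIdeal q.asIdeal g rfl)))
  simp only [RingHom.comp_apply] at hnat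
  have hL : (η.eta _ (algebraMap R q.asIdeal.ResidueField r)) ^ e ^ n =
      η.eta _ (algebraMap R q.asIdeal.ResidueField (g y₀)) := by
    rw [← map_pow, ← map_pow, hr]
  have hRr : (η.map (Ideal.ResidueField.map (PrimeSpectrum.comap g q).asIdeal q.asIdeal g rfl)
      (x (PrimeSpectrum.comap g q))) ^ e ^ n =
      η.eta _ (algebraMap R q.asIdeal.ResidueField (g y₀)) := by
    rw [← map_pow, key, hnat,
      Ideal.ResidueField.map_algebraMap (PrimeSpectrum.comap g q).asIdeal q.asIdeal g rfl y₀]
  rw [hL, hRr]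

end Groth.Agent.Lib.EtaFieldH1
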