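import Mathlib
import Groth.Agent.Lib.IntegralHeight_helper5

/-!
# Relative Noether normalization over a discrete valuation ring, by `N`-th powers (helper3)
-/

set_option autoImplicit false
universe u
open MvPolynomial TensorProduct

namespace Groth.Agent.Lib.RelNoetherH3

section Digits

/-- Uniqueness of base-`B` digits. -/
theorem digits_inj (B : ℕ) : ∀ (n : ℕ) (v w : Fin n → ℕ), (∀ i, v i < B) → (∀ i, w i < B) →
    ∑ i : Fin n, B ^ (i : ℕ) * v i = ∑ i : Fin n, B ^ (i : ℕ) * w i → v = w := by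
  intro n
  induction n with
  | zero =>
    intro v w _ _ _
    funext i
    exact i.elim0
  | succ n ih =>
    intro v w hv hw h
    rw [Fin.sum_univ_succ, Fin.sum_univ_succ] at h
    simp only [Fin.val_zero, pow_zero, one_mul, Fin.val_succ, pow_succ'] at h
    have hB : 0 < B := lt_of_le_of_lt (Nat.zero_le _) (hv 0)
    have e1 : ∑ x : Fin n, B * B ^ (x : ℕ) * v x.succ = B * ∑ x : Fin n, B ^ (x : ℕ) * v x.succ := by
      rw [Finset.mul_sum]
      exact Finset.sum_congr rfl fun x _ => by ring
    have e2 : ∑ x : Fin n, B * B ^ (x : ℕ) * w x.succ = B * ∑ x : Fin n, B ^ (x : ℕ) * w x.succ := by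
      rw [Finset.mul_sum]
      exact Finset.sum_congr rfl fun x _ => by ring
    rw [e1, e2] at h
    have h0 : v 0 = w 0 := by
      have := congrArg (· % B) h
      simp only [Nat.add_mul_mod_self_left] at this
      rwa [Nat.mod_eq_of_lt (hv 0), Nat.mod_eq_of_lt (hw 0)] at this
    rw [h0, add_right_inj] at h
    have h1 := Nat.eq_of_mul_eq_mul_left hB h
    have h2 := ih (fun i => v i.succ) (fun i => w i.succ) (fun i => hv _) (fun i => hw _) h1
    funext i
    refine Fin.cases h0 (fun j => ?_) i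
    exact congrFun h2 j

end Digits

section Integral

variable (F : Type*) [Field F] {A B : Type*} [CommRing A] [CommRing B] [Algebra F A] [Algebra F B]
  [Algebra A B] [IsScalarTower F A B] {n : ℕ}

/-- The weight of a monomial. -/
def wt (a : Fin n → ℕ) (v : Fin (n + 1) →₀ ℕ) : ℕ := v 0 + ∑ i, a i * v i.succ

/-- The monic polynomial attached to a monomial. -/
noncomputable def Mv (u' : Fin n → A) (a : Fin n → ℕ) (v : Fin (n + 1) →₀ ℕ) : Polynomial A :=
  Polynomial.X ^ v 0 * ∏ i, (Polynomial.X ^ a i + Polynomial.C (u' i)) ^ v i.succ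

theorem Mv_monic (u' : Fin n → A) (a : Fin n → ℕ) (ha : ∀ i, a i ≠ 0) (v : Fin (n + 1) →₀ ℕ) :
    (Mv u' a v).Monic := by
  unfold Mv
  refine (Polynomial.monic_X_pow _).mul (Polynomial.monic_prod_of_monic _ _ fun i _ => ?_)
  exact (Polynomial.monic_X_pow_add_C _ (ha i)).pow _

theorem Mv_natDegree [Nontrivial A] (u' : Fin n → A) (a : Fin n → ℕ) (ha : ∀ i, a i ≠ 0)
    (v : Fin (n + 1) →₀ ℕ) : (Mv u' a v).natDegree = wt a v := by
  unfold Mv wt
  have h1 : ∀ i ∈ (Finset.univ : Finset (Fin n)),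
      ((Polynomial.X ^ a i + Polynomial.C (u' i)) ^ v i.succ : Polynomial A).Monic :=
    fun i _ => (Polynomial.monic_X_pow_add_C _ (ha i)).pow _
  rw [(Polynomial.monic_X_pow _).natDegree_mul (Polynomial.monic_prod_of_monic _ _ h1),
    Polynomial.natDegree_X_pow, Polynomial.natDegree_prod_of_monic _ _ h1]
  congr 1
  refine Finset.sum_congr rfl fun i _ => ?_
  rw [(Polynomial.monic_X_pow_add_C _ (ha i)).natDegree_pow, Polynomial.natDegree_X_pow_add_C,
    mul_comm]

theorem Mv_aeval (t : B) (u : Fin n → B) (u' : Fin n → A) (a : Fin n → ℕ)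
    (hu : ∀ i, algebraMap A B (u' i) = u i - t ^ a i) (v : Fin (n + 1) →₀ ℕ) :
    Polynomial.aeval t (Mv u' a v) = ∏ j, (Fin.cons t u : Fin (n + 1) → B) j ^ v j := by
  unfold Mv
  rw [map_mul, map_pow, Polynomial.aeval_X, map_prod, Fin.prod_univ_succ]
  simp only [Fin.cons_zero, Fin.cons_succ]
  congr 1
  refine Finset.prod_congr rfl fun i _ => ?_
  rw [map_pow, map_add, map_pow, Polynomial.aeval_X, Polynomial.aeval_C, hu]
  congr 1
  ring

/-- Nagata's trick: integrality of `t` over the algebra containing the shifted elements. -/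
theorem isIntegral_of_relation (t : B) (u : Fin n → B) (u' : Fin n → A) (a : Fin n → ℕ)
    (ha : ∀ i, a i ≠ 0) (hu : ∀ i, algebraMap A B (u' i) = u i - t ^ a i)
    (g : MvPolynomial (Fin (n + 1)) F) (hg : g ≠ 0)
    (hrel : aeval (Fin.cons t u : Fin (n + 1) → B) g = 0)
    (hinj : Set.InjOn (wt a) (g.support : Set (Fin (n + 1) →₀ ℕ))) : IsIntegral A t := by
  classical
  rcases subsingleton_or_nontrivial A with hA | hA
  · exact ⟨1, Polynomial.monic_one, Subsingleton.elim (α := B)
      (h := (algebraMap A B).codomain_trivial) _ _⟩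
  have hne : g.support.Nonempty := by
    rw [Finset.nonempty_iff_ne_empty, Ne, MvPolynomial.support_eq_empty]
    exact hg
  obtain ⟨vs, hvs, hmax⟩ := Finset.exists_max_image g.support (wt a) hne
  have hcs : coeff vs g ≠ 0 := MvPolynomial.mem_support_iff.mp hvs
  set G : Polynomial A := Mv u' a vs + ∑ v ∈ g.support.erase vs,
    Polynomial.C (algebraMap F A ((coeff vs g)⁻¹ * coeff v g)) * Mv u' a v with hG
  refine ⟨G, ?_, ?_⟩
  · refine (Mv_monic u' a ha vs).add_of_left ?_
    refine lt_of_le_of_lt (Polynomial.degree_sum_le _ _) ?_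
    rw [Finset.sup_lt_iff]
    · intro v hv
      have hv' := Finset.mem_erase.mp hv
      refine lt_of_le_of_lt Polynomial.degree_le_natDegree ?_
      rw [Polynomial.degree_eq_natDegree (Mv_monic u' a ha vs).ne_zero, Mv_natDegree u' a ha]
      have hle := hmax v hv'.2
      have hne' : wt a v ≠ wt a vs := fun h => hv'.1 (hinj hv'.2 hvs h)
      have h5 : (Polynomial.C (algebraMap F A ((coeff vs g)⁻¹ * coeff v g)) * Mv u' a v).natDegree <
          wt a vs := by
        refine lt_of_le_of_lt (Polynomial.natDegree_C_mul_le _ _) ?_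
        rw [Mv_natDegree u' a ha]
        exact lt_of_le_of_ne hle hne'
      exact_mod_cast h5
    · rw [Polynomial.degree_eq_natDegree (Mv_monic u' a ha vs).ne_zero]
      exact WithBot.bot_lt_coe _
  · rw [← Polynomial.aeval_def, hG, map_add, map_sum]
    have h1 : ∀ v, Polynomial.aeval t
        (Polynomial.C (algebraMap F A ((coeff vs g)⁻¹ * coeff v g)) * Mv u' a v) =
        algebraMap F B (coeff vs g)⁻¹ *
          (algebraMap F B (coeff v g) * ∏ j, (Fin.cons t u : Fin (n + 1) → B) j ^ v j) := by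
      intro v
      rw [map_mul, Polynomial.aeval_C, Mv_aeval t u u' a hu, ← IsScalarTower.algebraMap_apply,
        map_mul, mul_assoc]
    simp_rw [h1]
    rw [← Finset.mul_sum]
    have h2 : aeval (Fin.cons t u : Fin (n + 1) → B) g =
        ∑ v ∈ g.support, algebraMap F B (coeff v g) *
          ∏ j, (Fin.cons t u : Fin (n + 1) → B) j ^ v j := by
      rw [MvPolynomial.aeval_def, MvPolynomial.eval₂_eq']
    rw [hrel, ← Finset.add_sum_erase _ _ hvs] at h2
    have h3 : ∑ v ∈ g.support.erase vs, algebraMap F B (coeff v g) *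
        ∏ j, (Fin.cons t u : Fin (n + 1) → B) j ^ v j =
        - (algebraMap F B (coeff vs g) * ∏ j, (Fin.cons t u : Fin (n + 1) → B) j ^ vs j) := by
      rw [eq_neg_iff_add_eq_zero, add_comm]
      exact h2.symm
    rw [h3, Mv_aeval t u u' a hu, mul_neg, ← mul_assoc, ← map_mul, inv_mul_cancel₀ hcs, map_one,
      one_mul, add_neg_cancel]

end Integral

section Tensor

variable {V : Type u} [CommRing V] (F : Type u) [Field F] [Algebra V F] {R : Type u} [CommRing R]
  [Algebra V R] {ι : Type*}

/-- Naturality of evaluation under base change of the coefficients. -/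
theorem aeval_map_tmul (w : ι → R) (g : MvPolynomial ι V) :
    aeval (fun j => (1 : F) ⊗ₜ[V] w j) (map (algebraMap V F) g) = (1 : F) ⊗ₜ[V] (aeval w g) := by
  induction g using MvPolynomial.induction_on with
  | C a =>
    rw [map_C, aeval_C, aeval_C, Algebra.TensorProduct.algebraMap_apply, Algebra.algebraMap_self,
      RingHom.id_apply, Algebra.algebraMap_eq_smul_one, Algebra.algebraMap_eq_smul_one,
      TensorProduct.smul_tmul]
  | add p q hp hq => rw [map_add, map_add, map_add, hp, hq, tmul_add]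
  | mul_X p i hp =>
    rw [map_mul, map_mul, map_mul, hp, map_X, aeval_X, aeval_X,
      Algebra.TensorProduct.tmul_mul_tmul, one_mul]

/-- Generators of `R` over `V` give generators of `F ⊗ R` over `F`. -/
theorem aeval_tmul_surjective (w : ι → R) (hw : Algebra.adjoin V (Set.range w) = ⊤) :
    Function.Surjective
      (aeval (fun j => (1 : F) ⊗ₜ[V] w j) : MvPolynomial ι F →ₐ[F] F ⊗[V] R) := by
  intro x
  induction x using TensorProduct.induction_on with
  | zero => exact ⟨0, map_zero _⟩
  | tmul a r =>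
    have hr : r ∈ Algebra.adjoin V (Set.range w) := hw ▸ Algebra.mem_top
    rw [Algebra.adjoin_range_eq_range_aeval] at hr
    obtain ⟨g, rfl⟩ := hr
    refine ⟨C a * map (algebraMap V F) g, ?_⟩
    rw [map_mul, aeval_C, aeval_map_tmul, Algebra.TensorProduct.algebraMap_apply,
      Algebra.algebraMap_self, RingHom.id_apply, Algebra.TensorProduct.tmul_mul_tmul, mul_one,
      one_mul]
    rfl
  | add x y hx hy =>
    obtain ⟨p, rfl⟩ := hx
    obtain ⟨q, rfl⟩ := hy
    exact ⟨p + q, map_add _ _ _⟩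

end Tensor

section Primitive

variable {V : Type u} [CommRing V] [IsDomain V] [IsDiscreteValuationRing V] {R : Type u}
  [CommRing R] [Algebra V R] {ι : Type*}

theorem exists_primitive (ϖ : V) (hϖ : Irreducible ϖ)
    (htf : ∀ (c : V) (r : R), c ≠ 0 → c • r = 0 → r = 0) (w : ι → R) :
    ∀ (n : ℕ) (g₁ : MvPolynomial ι V), aeval w g₁ = 0 →
      (∃ s, ∃ u : Vˣ, coeff s g₁ = u * ϖ ^ n) →
      ∃ g : MvPolynomial ι V, aeval w g = 0 ∧ map (IsLocalRing.residue V) g ≠ 0 := by
  intro n
  induction n with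
  | zero =>
    rintro g₁ h1 ⟨s, u, hs⟩
    refine ⟨g₁, h1, fun h0 => ?_⟩
    have h2 := congrArg (coeff s) h0
    rw [coeff_map, hs, pow_zero, mul_one, coeff_zero, IsLocalRing.residue_eq_zero_iff] at h2
    exact (IsLocalRing.mem_maximalIdeal _).mp h2 u.isUnit
  | succ n ih =>
    rintro g₁ h1 ⟨s, u, hs⟩
    by_cases h0 : map (IsLocalRing.residue V) g₁ = 0
    · have hdvd : C ϖ ∣ g₁ := by
        rw [MvPolynomial.C_dvd_iff_dvd_coeff]
        intro i
        have h2 := congrArg (coeff i) h0
        rw [coeff_map, coeff_zero, IsLocalRing.residue_eq_zero_iff, hϖ.maximalIdeal_eq] at h2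
        exact Ideal.mem_span_singleton.mp h2
      obtain ⟨g₂, rfl⟩ := hdvd
      refine ih g₂ ?_ ⟨s, u, ?_⟩
      · rw [map_mul, aeval_C, ← Algebra.smul_def] at h1
        exact htf ϖ _ hϖ.ne_zero h1
      · rw [coeff_C_mul, pow_succ, ← mul_assoc, mul_comm (↑u * ϖ ^ n)] at hs
        exact mul_left_cancel₀ hϖ.ne_zero hs
    · exact ⟨g₁, h1, h0⟩

/-- `R → K ⊗ R` is injective for torsion-free `R`. -/
theorem tmul_eq_zero (htf : ∀ (c : V) (r : R), c ≠ 0 → c • r = 0 → r = 0) (r : R)
    (h : (1 : FractionRing V) ⊗ₜ[V] r = 0) : r = 0 := by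
  haveI : IsLocalizedModule (nonZeroDivisors V) (TensorProduct.mk V (FractionRing V) R 1) :=
    (isLocalizedModule_iff_isBaseChange (nonZeroDivisors V) (FractionRing V) _).mpr
      (TensorProduct.isBaseChange V R (FractionRing V))
  have h1 : TensorProduct.mk V (FractionRing V) R 1 r = 0 := h
  obtain ⟨c, hc⟩ := (IsLocalizedModule.eq_zero_iff (nonZeroDivisors V) _).mp h1
  exact htf c r (nonZeroDivisors.ne_zero c.2) hc

/-- Existence of a primitive relation between more than `d` generators when the generic fibre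
has dimension at most `d`. -/
theorem exists_relation (ϖ : V) (hϖ : Irreducible ϖ)
    (htf : ∀ (c : V) (r : R), c ≠ 0 → c • r = 0 → r = 0) {n : ℕ} (w : Fin n → R)
    (hw : Algebra.adjoin V (Set.range w) = ⊤) (d : ℕ) (hd : d < n)
    (hdim : ringKrullDim (FractionRing V ⊗[V] R) ≤ d) :
    ∃ g : MvPolynomial (Fin n) V, aeval w g = 0 ∧ map (IsLocalRing.residue V) g ≠ 0 := by
  classical
  set K := FractionRing V with hK
  set φK : MvPolynomial (Fin n) K →ₐ[K] K ⊗[V] R := aeval (fun j => (1 : K) ⊗ₜ[V] w j) with hφK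
  have hsurj : Function.Surjective φK := aeval_tmul_surjective K w hw
  have hninj : ¬ Function.Injective φK := by
    intro hinj
    have e := RingEquiv.ofBijective φK.toRingHom ⟨hinj, hsurj⟩
    have h1 := ringKrullDim_eq_of_ringEquiv e
    rw [MvPolynomial.ringKrullDim_of_isNoetherianRing, ringKrullDim_eq_zero_of_field, zero_add,
      Nat.card_eq_fintype_card, Fintype.card_fin] at h1
    rw [← h1] at hdim
    have : (n : WithBot ℕ∞) ≤ (d : WithBot ℕ∞) := hdim
    have h2 : n ≤ d := by exact_mod_cast this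
    omega
  obtain ⟨gK, hgK0, hgK⟩ : ∃ gK, φK gK = 0 ∧ gK ≠ 0 := by
    by_contra hcon
    push_neg at hcon
    exact hninj ((injective_iff_map_eq_zero φK).mpr hcon)
  obtain ⟨b, hb⟩ := IsLocalization.exist_integer_multiples_of_finset (nonZeroDivisors V)
    (gK.support.image fun v => coeff v gK)
  have hb' : ∀ v ∈ gK.support, ∃ r : V, algebraMap V K r = (b : V) • coeff v gK :=
    fun v hv => hb _ (Finset.mem_image_of_mem _ hv)
  choose! rf hrf using hb'
  set g₁ : MvPolynomial (Fin n) V := ∑ v ∈ gK.support, monomial v (rf v) with hg₁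
  have hmap : map (algebraMap V K) g₁ = C (algebraMap V K (b : V)) * gK := by
    rw [hg₁, map_sum]
    conv_rhs => rw [← MvPolynomial.support_sum_monomial_coeff gK, Finset.mul_sum]
    refine Finset.sum_congr rfl fun v hv => ?_
    rw [map_monomial, hrf v hv, C_mul_monomial, Algebra.smul_def]
  have hb0 : (b : V) ≠ 0 := nonZeroDivisors.ne_zero b.2
  have hg₁0 : g₁ ≠ 0 := by
    intro h0
    rw [h0, map_zero] at hmap
    have h1 := hmap.symm
    rw [mul_eq_zero] at h1
    rcases h1 with h1 | h1
    · rw [MvPolynomial.C_eq_zero] at h1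
      exact hb0 ((IsFractionRing.injective V K) (h1.trans (map_zero _).symm))
    · exact hgK h1
  have hrel : aeval w g₁ = 0 := by
    apply tmul_eq_zero htf
    rw [← aeval_map_tmul, hmap, map_mul, ← hφK, hgK0, mul_zero]
  obtain ⟨s, hs⟩ := MvPolynomial.ne_zero_iff.mp hg₁0
  obtain ⟨m, u, hu⟩ := IsDiscreteValuationRing.eq_unit_mul_pow_irreducible hs hϖ
  exact exists_primitive ϖ hϖ htf w m g₁ hrel ⟨s, u, hu⟩

end Primitive

section FiniteStep

variable {V : Type u} [CommRing V] (F : Type u) [Field F] [Algebra V F] {R : Type u} [CommRing R]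
  [Algebra V R] {n : ℕ}

/-- After Nagata's shift, `F ⊗ R` is finite over `F ⊗ R'`. -/
theorem finite_step (R' : Subalgebra V R) (t : R) (u : Fin n → R) (a : Fin n → ℕ)
    (ha : ∀ i, a i ≠ 0) (hu' : ∀ i, u i - t ^ a i ∈ R')
    (hgen : Algebra.adjoin V (Set.range (Fin.cons t u : Fin (n + 1) → R)) = ⊤)
    (g : MvPolynomial (Fin (n + 1)) F) (hg : g ≠ 0)
    (hrel : aeval (fun j => (1 : F) ⊗ₜ[V] (Fin.cons t u : Fin (n + 1) → R) j) g = 0)
    (hinj : Set.InjOn (wt a) (g.support : Set (Fin (n + 1) →₀ ℕ))) :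
    (Algebra.TensorProduct.map (AlgHom.id F F) R'.val :
      F ⊗[V] R' →ₐ[F] F ⊗[V] R).toRingHom.Finite := by
  classical
  set ψ : F ⊗[V] R' →ₐ[F] F ⊗[V] R := Algebra.TensorProduct.map (AlgHom.id F F) R'.val with hψ
  letI : Algebra (F ⊗[V] R') (F ⊗[V] R) := ψ.toRingHom.toAlgebra
  haveI : IsScalarTower F (F ⊗[V] R') (F ⊗[V] R) :=
    IsScalarTower.of_algebraMap_eq fun x => (ψ.commutes x).symm
  have hψ1 : ∀ x : R', algebraMap (F ⊗[V] R') (F ⊗[V] R) ((1 : F) ⊗ₜ[V] x) =
      (1 : F) ⊗ₜ[V] (x : R) := by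
    intro x
    change ψ _ = _
    rw [hψ, Algebra.TensorProduct.map_tmul]
    rfl
  have hcons : (fun j => (1 : F) ⊗ₜ[V] (Fin.cons t u : Fin (n + 1) → R) j) =
      (Fin.cons ((1 : F) ⊗ₜ[V] t) (fun i => (1 : F) ⊗ₜ[V] u i) : Fin (n + 1) → F ⊗[V] R) := by
    funext j
    refine Fin.cases ?_ (fun i => ?_) j
    · simp
    · simp
  have ht : IsIntegral (F ⊗[V] R') ((1 : F) ⊗ₜ[V] t) := by
    refine isIntegral_of_relation F ((1 : F) ⊗ₜ[V] t) (fun i => (1 : F) ⊗ₜ[V] u i)
      (fun i => (1 : F) ⊗ₜ[V] (⟨u i - t ^ a i, hu' i⟩ : R')) a ha ?_ g hg ?_ hinj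
    · intro i
      rw [hψ1, Algebra.TensorProduct.tmul_pow, one_pow, ← tmul_sub]
    · rw [← hcons]
      exact hrel
  have hsurj := aeval_tmul_surjective F (Fin.cons t u : Fin (n + 1) → R) hgen
  have hint : Algebra.IsIntegral (F ⊗[V] R') (F ⊗[V] R) := by
    constructor
    intro x
    have hx : x ∈ Algebra.adjoin F
        (Set.range fun j => (1 : F) ⊗ₜ[V] (Fin.cons t u : Fin (n + 1) → R) j) := by
      rw [Algebra.adjoin_range_eq_range_aeval]
      exact hsurj x
    induction hx using Algebra.adjoin_induction with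
    | mem y hy =>
      obtain ⟨j, rfl⟩ := hy
      refine Fin.cases ?_ (fun i => ?_) j
      · simpa using ht
      · have h1 : (1 : F) ⊗ₜ[V] u i =
            algebraMap (F ⊗[V] R') (F ⊗[V] R) ((1 : F) ⊗ₜ[V] (⟨u i - t ^ a i, hu' i⟩ : R')) +
              ((1 : F) ⊗ₜ[V] t) ^ a i := by
          rw [hψ1, Algebra.TensorProduct.tmul_pow, one_pow, ← tmul_add, sub_add_cancel]
        simp only [Fin.cons_succ]
        rw [h1]
        exact isIntegral_algebraMap.add (ht.pow _)
    | algebraMap c =>
      rw [IsScalarTower.algebraMap_apply F (F ⊗[V] R') (F ⊗[V] R)]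
      exact isIntegral_algebraMap
    | add _ _ _ _ hx hy => exact hx.add hy
    | mul _ _ _ _ hx hy => exact hx.mul hy
  haveI : Algebra.FiniteType F (F ⊗[V] R) := by
    refine ⟨⟨Finset.univ.image fun j => (1 : F) ⊗ₜ[V] (Fin.cons t u : Fin (n + 1) → R) j, ?_⟩⟩
    rw [Finset.coe_image, Finset.coe_univ, Set.image_univ, Algebra.adjoin_range_eq_range_aeval,
      AlgHom.range_eq_top]
    exact hsurj
  haveI : Algebra.FiniteType (F ⊗[V] R') (F ⊗[V] R) :=
    Algebra.FiniteType.of_restrictScalars_finiteType F _ _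
  exact Algebra.IsIntegral.finite

end FiniteStep

section Main

variable {V : Type u} [CommRing V] [IsDomain V] [IsDiscreteValuationRing V]

/-- Fibrewise finiteness of the map to affine space given by `f`. -/
def FibFin (V : Type u) [CommRing V] (F : Type u) [Field F] [Algebra V F] (R : Type u)
    [CommRing R] [Algebra V R] {d : ℕ} (f : Fin d → R) : Prop :=
  (aeval (fun i => (1 : F) ⊗ₜ[V] f i) : MvPolynomial (Fin d) F →ₐ[F] F ⊗[V] R).toRingHom.Finite

theorem fibFin_of_step (F : Type u) [Field F] [Algebra V F] {R : Type u} [CommRing R]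
    [Algebra V R] (R' : Subalgebra V R) {d : ℕ} (f' : Fin d → R') (f : Fin d → R)
    (hff : ∀ i, f i = (f' i : R))
    (h1 : (Algebra.TensorProduct.map (AlgHom.id F F) R'.val :
      F ⊗[V] R' →ₐ[F] F ⊗[V] R).toRingHom.Finite)
    (h2 : FibFin V F R' f') : FibFin V F R f := by
  unfold FibFin at h2 ⊢
  have h3 : (aeval (fun i => (1 : F) ⊗ₜ[V] f i) : MvPolynomial (Fin d) F →ₐ[F] F ⊗[V] R) =
      (Algebra.TensorProduct.map (AlgHom.id F F) R'.val).comp
        (aeval (fun i => (1 : F) ⊗ₜ[V] f' i)) := by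
    refine MvPolynomial.algHom_ext fun i => ?_
    rw [AlgHom.comp_apply, aeval_X, aeval_X, Algebra.TensorProduct.map_tmul, hff]
    rfl
  rw [h3]
  exact RingHom.Finite.comp h1 h2

theorem claim (ϖ : V) (hϖ : Irreducible ϖ) (d N : ℕ) (hN : 1 ≤ N) :
    ∀ (m : ℕ) (R : Type u) [CommRing R] [Algebra V R],
      (∀ (c : V) (r : R), c ≠ 0 → c • r = 0 → r = 0) →
      ringKrullDim (FractionRing V ⊗[V] R) ≤ d →
      ∀ (x : Fin d → R) (z : Fin m → R), Algebra.adjoin V (Set.range x ∪ Set.range z) = ⊤ →
      ∃ y : Fin d → R, (∀ i, y i ∈ Subring.closure (Set.range fun r : R => r ^ N)) ∧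
        FibFin V (IsLocalRing.ResidueField V) R (fun i => x i + y i) ∧
        FibFin V (FractionRing V) R (fun i => x i + y i) := by
  intro m
  induction m with
  | zero =>
    intro R _ _ htf hdim x z hgen
    have hx : Algebra.adjoin V (Set.range x) = ⊤ := by
      rw [← hgen, Set.range_eq_empty z, Set.union_empty]
    refine ⟨fun _ => 0, fun i => Subring.zero_mem _, ?_, ?_⟩
    · unfold FibFin
      simp only [add_zero]
      exact RingHom.Finite.of_surjective _ (aeval_tmul_surjective _ x hx)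
    · unfold FibFin
      simp only [add_zero]
      exact RingHom.Finite.of_surjective _ (aeval_tmul_surjective _ x hx)
  | succ m ih =>
    intro R _ _ htf hdim x z hgen
    classical
    obtain ⟨t, ht⟩ : ∃ t : R, t = z (Fin.last m) := ⟨_, rfl⟩
    obtain ⟨u, hu⟩ : ∃ u : Fin (d + m) → R, u = Fin.append x (Fin.init z) := ⟨_, rfl⟩
    have hux : ∀ i, u (Fin.castAdd m i) = x i := fun i => by rw [hu, Fin.append_left]
    have huz : ∀ j, u (Fin.natAdd d j) = z (Fin.castSucc j) := fun j => by
      rw [hu, Fin.append_right]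
      rfl
    have hwgen : Algebra.adjoin V (Set.range (Fin.cons t u : Fin (d + m + 1) → R)) = ⊤ := by
      rw [eq_top_iff, ← hgen]
      refine Algebra.adjoin_mono ?_
      rintro r (⟨i, rfl⟩ | ⟨j, rfl⟩)
      · exact ⟨Fin.succ (Fin.castAdd m i), by rw [Fin.cons_succ, hux]⟩
      · refine Fin.lastCases ?_ (fun j' => ?_) j
        · exact ⟨0, by rw [Fin.cons_zero, ht]⟩
        · exact ⟨Fin.succ (Fin.natAdd d j'), by rw [Fin.cons_succ, huz]⟩
    obtain ⟨g, hg0, hgres⟩ := exists_relation ϖ hϖ htf (Fin.cons t u : Fin (d + m + 1) → R)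
      hwgen d (by omega) hdim
    obtain ⟨B, hB⟩ : ∃ B : ℕ, B = N * (g.totalDegree + 2) := ⟨_, rfl⟩
    have hBD : g.totalDegree < B := by
      rw [hB]
      nlinarith
    have hB0 : B ≠ 0 := by omega
    obtain ⟨a, ha⟩ : ∃ a : Fin (d + m) → ℕ, a = fun i : Fin (d + m) => B ^ ((i : ℕ) + 1) := ⟨_, rfl⟩
    have ha0 : ∀ i, a i ≠ 0 := fun i => by
      rw [ha]
      exact pow_ne_zero _ hB0
    have hNa : ∀ i, N ∣ a i := fun i => by
      rw [ha]
      exact dvd_pow (hB ▸ dvd_mul_right N _) (Nat.succ_ne_zero _)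
    have hinjV : Set.InjOn (wt a) (g.support : Set (Fin (d + m + 1) →₀ ℕ)) := by
      have key : ∀ v : Fin (d + m + 1) →₀ ℕ,
          wt a v = ∑ j : Fin (d + m + 1), B ^ (j : ℕ) * v j := by
        intro v
        unfold wt
        rw [Fin.sum_univ_succ, ha]
        simp only [Fin.val_zero, pow_zero, one_mul, Fin.val_succ]
      have hbd : ∀ v ∈ g.support, ∀ j, v j < B := fun v hv j =>
        lt_of_le_of_lt ((monomial_le_degreeOf j hv).trans (degreeOf_le_totalDegree g j)) hBD
      intro v hv v' hv' h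
      rw [key, key] at h
      exact DFunLike.coe_injective (digits_inj B _ v v' (hbd v hv) (hbd v' hv') h)
    obtain ⟨R', hR'⟩ : ∃ R' : Subalgebra V R,
        R' = Algebra.adjoin V (Set.range fun i => u i - t ^ a i) := ⟨_, rfl⟩
    have hu'mem : ∀ i, u i - t ^ a i ∈ R' := fun i => by
      rw [hR']
      exact Algebra.subset_adjoin ⟨i, rfl⟩
    have step : ∀ (F : Type u) [Field F] [Algebra V F], map (algebraMap V F) g ≠ 0 →
        (Algebra.TensorProduct.map (AlgHom.id F F) R'.val :
          F ⊗[V] R' →ₐ[F] F ⊗[V] R).toRingHom.Finite := by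
      intro F _ _ hne
      refine finite_step F R' t u a ha0 hu'mem hwgen (map (algebraMap V F) g) hne ?_ ?_
      · rw [aeval_map_tmul, hg0, tmul_zero]
      · exact hinjV.mono (Finset.coe_subset.mpr (support_map_subset _ _))
    have stepk := step (IsLocalRing.ResidueField V) hgres
    have hgK : map (algebraMap V (FractionRing V)) g ≠ 0 := by
      intro h0
      have h1 : g = 0 := map_injective _ (IsFractionRing.injective V (FractionRing V))
        (h0.trans (map_zero _).symm)
      rw [h1, map_zero] at hgres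
      exact hgres rfl
    have stepK := step (FractionRing V) hgK
    -- the inductive hypothesis for `R'`
    have htf' : ∀ (c : V) (r : R'), c ≠ 0 → c • r = 0 → r = 0 := by
      intro c r hc hr
      apply Subtype.ext
      exact htf c r hc (congrArg Subtype.val hr)
    have hdim' : ringKrullDim (FractionRing V ⊗[V] R') ≤ d := by
      refine le_trans ?_ hdim
      letI : Algebra (FractionRing V ⊗[V] R') (FractionRing V ⊗[V] R) :=
        (Algebra.TensorProduct.map (AlgHom.id (FractionRing V) (FractionRing V))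
          R'.val).toRingHom.toAlgebra
      haveI : Module.Finite (FractionRing V ⊗[V] R') (FractionRing V ⊗[V] R) := stepK
      haveI : Algebra.IsIntegral (FractionRing V ⊗[V] R') (FractionRing V ⊗[V] R) :=
        Algebra.IsIntegral.of_finite _ _
      refine Groth.Agent.IntegralHeight.ringKrullDim_le_of_isIntegral_of_injective _ _ ?_
      have hflat := Module.Flat.lTensor_preserves_injective_linearMap (M := FractionRing V)
        R'.val.toLinearMap Subtype.val_injective
      intro p q hpq
      exact hflat hpq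
    obtain ⟨x', hx'⟩ : ∃ x' : Fin d → R', x' = fun i =>
        ⟨u (Fin.castAdd m i) - t ^ a (Fin.castAdd m i), hu'mem _⟩ := ⟨_, rfl⟩
    obtain ⟨z', hz'⟩ : ∃ z' : Fin m → R', z' = fun j =>
        ⟨u (Fin.natAdd d j) - t ^ a (Fin.natAdd d j), hu'mem _⟩ := ⟨_, rfl⟩
    have hgen' : Algebra.adjoin V (Set.range x' ∪ Set.range z') = ⊤ := by
      subst hR'
      rw [eq_top_iff, ← Algebra.adjoin_adjoin_coe_preimage]
      refine Algebra.adjoin_mono ?_
      rintro ⟨r, hr⟩ ⟨i, hi⟩
      refine Fin.addCases (fun i' hi => ?_) (fun j' hi => ?_) i hi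
      · left
        refine ⟨i', Subtype.ext ?_⟩
        rw [hx']
        exact hi
      · right
        refine ⟨j', Subtype.ext ?_⟩
        rw [hz']
        exact hi
    obtain ⟨y', hy'mem, hy'k, hy'K⟩ := ih R' htf' hdim' x' z' hgen'
    refine ⟨fun i => (y' i : R) - t ^ a (Fin.castAdd m i), fun i => ?_, ?_, ?_⟩
    · refine Subring.sub_mem _ ?_ ?_
      · have hle : Subring.closure (Set.range fun r : R' => r ^ N) ≤
            (Subring.closure (Set.range fun r : R => r ^ N)).comap R'.val.toRingHom := by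
          rw [Subring.closure_le]
          rintro _ ⟨r, rfl⟩
          exact Subring.subset_closure ⟨(r : R), by simp⟩
        exact hle (hy'mem i)
      · obtain ⟨q, hq⟩ := hNa (Fin.castAdd m i)
        refine Subring.subset_closure ⟨t ^ q, ?_⟩
        simp only
        rw [hq, pow_mul']
    · refine fibFin_of_step _ R' (fun i => x' i + y' i) _ (fun i => ?_) stepk hy'k
      rw [hx']
      simp only [Subalgebra.coe_add]
      rw [hux]
      ring
    · refine fibFin_of_step _ R' (fun i => x' i + y' i) _ (fun i => ?_) stepK hy'K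
      rw [hx']
      simp only [Subalgebra.coe_add]
      rw [hux]
      ring

end Main

section Final

variable {V : Type u} [CommRing V] [IsDomain V] [IsDiscreteValuationRing V]

/-- Relative Noether normalization over a discrete valuation ring, perturbing by elements of the
subring generated by `N`-th powers. Only the bound on the dimension of the generic fibre is
used. -/
theorem main (R : Type u) [CommRing R] [Algebra V R] [Module.Flat V R] [Algebra.FiniteType V R]
    (d : ℕ) (hη : ringKrullDim (FractionRing V ⊗[V] R) ≤ d) (x : Fin d → R) (N : ℕ)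
    (hN : 1 ≤ N) :
    ∃ y : Fin d → R, (∀ i, y i ∈ Subring.closure (Set.range fun r : R => r ^ N)) ∧
      FibFin V (IsLocalRing.ResidueField V) R (fun i => x i + y i) ∧
      FibFin V (FractionRing V) R (fun i => x i + y i) := by
  classical
  obtain ⟨ϖ, hϖ⟩ := IsDiscreteValuationRing.exists_irreducible V
  have htf : ∀ (c : V) (r : R), c ≠ 0 → c • r = 0 → r = 0 := by
    intro c r hc hr
    have hreg : IsSMulRegular R c :=
      Module.Flat.isSMulRegular_of_nonZeroDivisors (mem_nonZeroDivisors_of_ne_zero hc)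
    exact hreg (hr.trans (smul_zero c).symm)
  obtain ⟨s, hs⟩ := (Algebra.FiniteType.out : (⊤ : Subalgebra V R).FG)
  refine claim ϖ hϖ d N hN s.card R htf hη x (fun j => (s.equivFin.symm j : R)) ?_
  rw [eq_top_iff, ← hs]
  refine Algebra.adjoin_mono ?_
  intro r hr
  right
  exact ⟨s.equivFin ⟨r, hr⟩, by simp⟩

end Final

end Groth.Agent.Lib.RelNoetherH3
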