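import Mathlib
import Groth.Agent.Lib.EtaEtale_helper3
import Groth.Agent.Lib.RelNoether_helper3
import Groth.Agent.Lib.EtaleDiffCrit_helper3

/-!
# η-étale morphisms to affine space, finite on the fibres (helper3)
-/

set_option autoImplicit false
universe u
open MvPolynomial TensorProduct KaehlerDifferential

namespace Groth.Agent.Lib.EtaFinH3

section MvSmooth

/-- The standard submersive presentation of a polynomial algebra: no relations. -/
noncomputable def mvPres (R : Type u) [CommRing R] (ι : Type) [Finite ι] :
    Algebra.SubmersivePresentation R (MvPolynomial ι R) ι PEmpty.{1} where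
  toGenerators := Algebra.Generators.ofSurjective (R := R) (S := MvPolynomial ι R) X (by
    rw [aeval_X_left]
    exact fun x => ⟨x, rfl⟩)
  relation := PEmpty.elim
  span_range_relation_eq_ker := by
    simp only [Set.range_eq_empty, Ideal.span_empty]
    rw [Algebra.Generators.ker_eq_ker_aeval_val]
    symm
    rw [← RingHom.injective_iff_ker_eq_bot]
    change Function.Injective (aeval (X : ι → MvPolynomial ι R))
    rw [aeval_X_left]
    exact fun _ _ h => h
  map := PEmpty.elim
  map_inj a := a.elim
  jacobian_isUnit := by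
    rw [Algebra.PreSubmersivePresentation.jacobian_eq_jacobiMatrix_det, Matrix.det_isEmpty,
      map_one]
    exact isUnit_one

instance (R : Type u) [CommRing R] (d : ℕ) :
    Algebra.IsStandardSmoothOfRelativeDimension d R (MvPolynomial (Fin d) R) :=
  ⟨Fin d, PEmpty.{1}, inferInstance, inferInstance, mvPres R (Fin d), by
    simp [Algebra.Presentation.dimension]⟩

end MvSmooth

section Dim

/-- A nonzero standard smooth algebra of relative dimension `d` over a field has Krull
dimension `d` (as in `SmoothSynt_helper4`, repeated here to keep the imports light). -/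
theorem ringKrullDim_of_relDim (k : Type u) [Field k] (F : Type u) [CommRing F] [Algebra k F]
    [Nontrivial F] (d : ℕ) [Algebra.IsStandardSmoothOfRelativeDimension d k F] :
    ringKrullDim F = (d : WithBot ℕ∞) := by
  obtain ⟨g, hg⟩ := Algebra.IsStandardSmoothOfRelativeDimension.exists_etale_mvPolynomial d k F
  letI algPF : Algebra (MvPolynomial (Fin d) k) F := g.toRingHom.toAlgebra
  haveI : IsScalarTower k (MvPolynomial (Fin d) k) F :=
    IsScalarTower.of_algebraMap_eq' g.comp_algebraMap.symm
  haveI hEt : Algebra.Etale (MvPolynomial (Fin d) k) F := hg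
  haveI : Algebra.FiniteType (MvPolynomial (Fin d) k) F := inferInstance
  have hm : ∀ (m : Ideal F) [m.IsMaximal], m.height = (d : ℕ∞) := by
    intro m _
    have h1 := Groth.Agent.Lib.EtaleDiffCritH3.ringKrullDim_of_etale k d F m
    rw [IsLocalization.AtPrime.ringKrullDim_eq_height m (Localization.AtPrime m)] at h1
    exact_mod_cast h1
  apply le_antisymm
  · rw [ringKrullDim_le_iff_isMaximal_height_le]
    intro m hm'
    haveI := hm'
    rw [hm m]
    exact_mod_cast le_rfl
  · obtain ⟨m, hm'⟩ := Ideal.exists_maximal F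
    haveI := hm'
    have h2 := Ideal.height_le_ringKrullDim_of_isPrime (I := m)
    rw [hm m] at h2
    exact_mod_cast h2

theorem ringKrullDim_le_of_locally (K B : Type u) [Field K] [CommRing B] [Algebra K B] (d : ℕ)
    (h : RingHom.Locally (RingHom.IsStandardSmoothOfRelativeDimension d) (algebraMap K B)) :
    ringKrullDim B ≤ d := by
  rw [ringKrullDim_le_iff_isMaximal_height_le]
  intro m hm
  haveI := hm
  obtain ⟨s, hs, hP⟩ := h
  obtain ⟨t, hts, htm⟩ : ∃ t ∈ s, t ∉ m := by
    by_contra hcon
    push_neg at hcon
    have h1 : Ideal.span s ≤ m := Ideal.span_le.mpr fun t ht => hcon t ht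
    rw [hs, top_le_iff] at h1
    exact hm.ne_top h1
  have hPt := hP t hts
  rw [← IsScalarTower.algebraMap_eq K B (Localization.Away t),
    RingHom.isStandardSmoothOfRelativeDimension_algebraMap] at hPt
  haveI := hPt
  have hdisj : Disjoint (Submonoid.powers t : Set B) (m : Set B) := by
    rw [Ideal.disjoint_powers_iff_notMem _ hm.isPrime.isRadical]
    exact htm
  have hh := IsLocalization.height_map_of_disjoint (S := Localization.Away t)
    (Submonoid.powers t) m hdisj
  haveI hq' : (Ideal.map (algebraMap B (Localization.Away t)) m).IsPrime :=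
    IsLocalization.isPrime_of_isPrime_disjoint (Submonoid.powers t) _ _ hm.isPrime hdisj
  haveI : Nontrivial (Localization.Away t) :=
    (⟨_, hq'⟩ : PrimeSpectrum (Localization.Away t)).nontrivial
  have hdim := ringKrullDim_of_relDim K (Localization.Away t) d
  have h2 := Ideal.height_le_ringKrullDim_of_isPrime
    (I := Ideal.map (algebraMap B (Localization.Away t)) m)
  rw [hh, hdim] at h2
  exact h2

end Dim

section Translate

variable {V : Type u} [CommRing V] {R : Type u} [CommRing R] [Algebra V R] {d : ℕ}

theorem D_aeval_mem (x : Fin d → R) (p : MvPolynomial (Fin d) V) :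
    D V R (aeval x p) ∈ Submodule.span R (Set.range fun i => D V R (x i)) := by
  induction p using MvPolynomial.induction_on with
  | C a =>
    rw [aeval_C, Derivation.map_algebraMap]
    exact Submodule.zero_mem _
  | add p q hp hq =>
    rw [map_add, map_add]
    exact Submodule.add_mem _ hp hq
  | mul_X p i hp =>
    rw [map_mul, aeval_X, Derivation.leibniz]
    exact Submodule.add_mem _ (Submodule.smul_mem _ _ (Submodule.subset_span ⟨i, rfl⟩))
      (Submodule.smul_mem _ _ hp)

variable (A : Type u) [CommRing A] [Algebra V A] [Algebra A R] [IsScalarTower V A R]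

theorem ker_map_le (S : Submodule R Ω[R⁄V]) (hS : ∀ p : A, D V R (algebraMap A R p) ∈ S) :
    LinearMap.ker (KaehlerDifferential.map V A R R) ≤ S := by
  intro ω hω
  rw [← KaehlerDifferential.range_mapBaseChange] at hω
  obtain ⟨z, rfl⟩ := hω
  induction z using TensorProduct.induction_on with
  | zero =>
    rw [map_zero]
    exact Submodule.zero_mem _
  | add z z' hz hz' =>
    rw [map_add]
    exact Submodule.add_mem _ hz hz'
  | tmul r η =>
    rw [KaehlerDifferential.mapBaseChange_tmul]
    refine Submodule.smul_mem _ _ ?_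
    have hη : η ∈ Submodule.span A (Set.range (D V A)) := by
      rw [KaehlerDifferential.span_range_derivation]
      exact Submodule.mem_top
    induction hη using Submodule.span_induction with
    | mem y hy =>
      obtain ⟨a, rfl⟩ := hy
      rw [KaehlerDifferential.map_D]
      exact hS a
    | zero =>
      rw [map_zero]
      exact Submodule.zero_mem _
    | add y y' _ _ hy hy' =>
      rw [map_add]
      exact Submodule.add_mem _ hy hy'
    | smul a y _ hy =>
      rw [map_smul, ← algebraMap_smul R a]
      exact Submodule.smul_mem _ _ hy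

theorem mem_ker_map (p : A) :
    D V R (algebraMap A R p) ∈ LinearMap.ker (KaehlerDifferential.map V A R R) := by
  rw [LinearMap.mem_ker, KaehlerDifferential.map_D, Algebra.algebraMap_self, RingHom.id_apply,
    Derivation.map_algebraMap]

theorem smul_le_iff (I J : Ideal R) :
    I • (⊤ : Submodule R Ω[R⁄A]) ≤ J • (⊤ : Submodule R Ω[R⁄A]) ↔
      I • (⊤ : Submodule R Ω[R⁄V]) ≤
        J • (⊤ : Submodule R Ω[R⁄V]) ⊔ LinearMap.ker (KaehlerDifferential.map V A R R) := by
  have hsurj := KaehlerDifferential.map_surjective V A R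
  have h1 : ∀ I : Ideal R, (I • (⊤ : Submodule R Ω[R⁄V])).map (KaehlerDifferential.map V A R R) =
      I • (⊤ : Submodule R Ω[R⁄A]) := by
    intro I
    rw [Submodule.map_smul'', Submodule.map_top, LinearMap.range_eq_top.mpr hsurj]
  rw [← h1 I, ← h1 J, Submodule.map_le_iff_le_comap, Submodule.comap_map_eq]

end Translate

section Assemble

variable (V : Type u) [CommRing V] (R : Type u) [CommRing R] [Algebra V R] {d : ℕ}

theorem ker_eq_span [Algebra (MvPolynomial (Fin d) V) R]
    [IsScalarTower V (MvPolynomial (Fin d) V) R] (x : Fin d → R)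
    (hx : ∀ i, algebraMap (MvPolynomial (Fin d) V) R (X i) = x i) :
    LinearMap.ker (KaehlerDifferential.map V (MvPolynomial (Fin d) V) R R) =
      Submodule.span R (Set.range fun i => D V R (x i)) := by
  have halg : ∀ q, algebraMap (MvPolynomial (Fin d) V) R q = aeval x q := by
    intro q
    have h1 : (IsScalarTower.toAlgHom V (MvPolynomial (Fin d) V) R) = aeval x := by
      refine MvPolynomial.algHom_ext fun i => ?_
      rw [aeval_X]
      exact hx i
    exact DFunLike.congr_fun h1 q
  apply le_antisymm
  · apply ker_map_le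
    intro q
    rw [halg]
    exact D_aeval_mem x q
  · rw [Submodule.span_le]
    rintro _ ⟨i, rfl⟩
    show D V R (x i) ∈ LinearMap.ker (KaehlerDifferential.map V (MvPolynomial (Fin d) V) R R)
    rw [← hx i]
    exact mem_ker_map _ _

variable [IsDomain V] [IsDiscreteValuationRing V] (ϖ : V) (hϖ : Irreducible ϖ) (p : ℕ)
  [Algebra.FiniteType V R]

theorem forward (hpϖ : ϖ ∣ (p : V)) (x : Fin d → R)
    (h : ∃ a : R, Ideal.span {a} ⊔ Ideal.span {algebraMap V R ϖ} = ⊤ ∧
        ((algebraMap R (Localization.Away (a * algebraMap V R ϖ))).comp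
          (MvPolynomial.aeval x : MvPolynomial (Fin d) V →ₐ[V] R).toRingHom).Etale) :
    ∃ n : ℕ, Ideal.span {((p : R)) ^ n} • (⊤ : Submodule R (Ω[R⁄V])) ≤
      Ideal.span {algebraMap V R ϖ * (p : R) ^ n} • (⊤ : Submodule R (Ω[R⁄V])) ⊔
        Submodule.span R (Set.range fun i => KaehlerDifferential.D V R (x i)) := by
  letI : Algebra (MvPolynomial (Fin d) V) R := (aeval x).toRingHom.toAlgebra
  haveI : IsScalarTower V (MvPolynomial (Fin d) V) R :=
    IsScalarTower.of_algebraMap_eq fun c => ((aeval x).commutes c).symm
  obtain ⟨a, ha, het⟩ := h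
  obtain ⟨n, hn⟩ := EtaEtale.part1 V ϖ p (MvPolynomial (Fin d) V) R hpϖ a ha het
  refine ⟨n, ?_⟩
  rw [smul_le_iff (V := V), ker_eq_span V R x (fun i => aeval_X x i)] at hn
  exact hn

include hϖ in
theorem backward (hp : (p : V) ≠ 0)
    (hR : RingHom.Locally (RingHom.IsStandardSmoothOfRelativeDimension d)
      (algebraMap (FractionRing V) (FractionRing V ⊗[V] R)))
    (x : Fin d → R) (n : ℕ)
    (hn : Ideal.span {((p : R)) ^ n} • (⊤ : Submodule R (Ω[R⁄V])) ≤
      Ideal.span {algebraMap V R ϖ * (p : R) ^ n} • (⊤ : Submodule R (Ω[R⁄V])) ⊔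
        Submodule.span R (Set.range fun i => KaehlerDifferential.D V R (x i))) :
    ∃ a : R, Ideal.span {a} ⊔ Ideal.span {algebraMap V R ϖ} = ⊤ ∧
        ((algebraMap R (Localization.Away (a * algebraMap V R ϖ))).comp
          (MvPolynomial.aeval x : MvPolynomial (Fin d) V →ₐ[V] R).toRingHom).Etale := by
  letI : Algebra (MvPolynomial (Fin d) V) R := (aeval x).toRingHom.toAlgebra
  haveI : IsScalarTower V (MvPolynomial (Fin d) V) R :=
    IsScalarTower.of_algebraMap_eq fun c => ((aeval x).commutes c).symm
  have hA : RingHom.Locally (RingHom.IsStandardSmoothOfRelativeDimension d)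
      (algebraMap (FractionRing V) (FractionRing V ⊗[V] MvPolynomial (Fin d) V)) := by
    apply RingHom.locally_of RingHom.isStandardSmoothOfRelativeDimension_respectsIso
    rw [RingHom.isStandardSmoothOfRelativeDimension_algebraMap]
    infer_instance
  have hn' : Ideal.span {((p : R)) ^ n} • (⊤ : Submodule R (Ω[R⁄MvPolynomial (Fin d) V])) ≤
      Ideal.span {algebraMap V R ϖ * (p : R) ^ n} •
        (⊤ : Submodule R (Ω[R⁄MvPolynomial (Fin d) V])) := by
    rw [smul_le_iff (V := V), ker_eq_span V R x (fun i => aeval_X x i)]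
    exact hn
  exact EtaEtale.part2 V ϖ hϖ p (MvPolynomial (Fin d) V) R hp d hA hR n hn'

end Assemble

end Groth.Agent.Lib.EtaFinH3
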