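import Mathlib
import Groth.Agent.Lib.EtaRel3_helper1

namespace Groth.Agent.Lib.EtaLocH1

universe u
open EtaPt
open Groth.Agent.Lib.EtaDomH1 Groth.Agent.Lib.EtaLiftH1 Groth.Agent.Lib.EtaLift2H1
  Groth.Agent.Lib.EtaLift3H1 Groth.Agent.Lib.EtaIntH1 Groth.Agent.Lib.EtaSpecH1
  Groth.Agent.Lib.EtaSpec2H1 Groth.Agent.Lib.EtaRelH1 Groth.Agent.Lib.EtaRel2H1
  Groth.Agent.Lib.EtaRel3H1

variable (η : EtaPt.FieldEndo.{u})

lemma residueField_exists_frac' {A : Type u} [CommRing A] (𝔭 : Ideal A) [𝔭.IsPrime]
    (y : 𝔭.ResidueField) :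
    ∃ a s : A, s ∉ 𝔭 ∧
      algebraMap A 𝔭.ResidueField s * y = algebraMap A 𝔭.ResidueField a := by
  obtain ⟨z, rfl⟩ := IsLocalRing.residue_surjective y
  obtain ⟨a, s, rfl⟩ := IsLocalization.exists_mk'_eq 𝔭.primeCompl z
  refine ⟨a, s, s.2, ?_⟩
  rw [IsScalarTower.algebraMap_apply A (Localization.AtPrime 𝔭) 𝔭.ResidueField,
    IsScalarTower.algebraMap_apply A (Localization.AtPrime 𝔭) 𝔭.ResidueField,
    IsLocalRing.ResidueField.algebraMap_eq, ← map_mul, mul_comm, IsLocalization.mk'_spec]

lemma minimalPrimes_away_finite (A : Type u) [CommRing A] (hA : (minimalPrimes A).Finite)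
    (f : A) : (minimalPrimes (Localization.Away f)).Finite := by
  have h1 := IsLocalization.minimalPrimes_map (Submonoid.powers f) (Localization.Away f)
    (⊥ : Ideal A)
  rw [Ideal.map_bot] at h1
  have h2 : minimalPrimes (Localization.Away f) = Ideal.under A ⁻¹' minimalPrimes A := h1
  rw [h2]
  apply hA.preimage
  intro I _ J _ hIJ
  rw [← IsLocalization.map_under (Submonoid.powers f) (Localization.Away f) I,
    ← IsLocalization.map_under (Submonoid.powers f) (Localization.Away f) J]
  exact congrArg _ hIJ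

lemma residue_map_surjective_of_isLocalization {R S : Type u} [CommRing R] [CommRing S]
    [Algebra R S] (M : Submonoid R) [IsLocalization M S] (Q : PrimeSpectrum S) :
    Function.Surjective (Ideal.ResidueField.map
      (PrimeSpectrum.comap (algebraMap R S) Q).asIdeal Q.asIdeal (algebraMap R S) rfl) := by
  obtain ⟨φ, hφdef⟩ : ∃ φ : (PrimeSpectrum.comap (algebraMap R S) Q).asIdeal.ResidueField →+*
      Q.asIdeal.ResidueField, φ = Ideal.ResidueField.map
      (PrimeSpectrum.comap (algebraMap R S) Q).asIdeal Q.asIdeal (algebraMap R S) rfl := ⟨_, rfl⟩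
  rw [← hφdef]
  have hφa : ∀ r, φ (algebraMap R _ r) =
      algebraMap S Q.asIdeal.ResidueField (algebraMap R S r) := by
    intro r; rw [hφdef]; exact Ideal.ResidueField.map_algebraMap _ _ (algebraMap R S) rfl r
  intro y
  obtain ⟨b, s', hs', hy⟩ := residueField_exists_frac' Q.asIdeal y
  obtain ⟨⟨a₁, m₁⟩, h₁⟩ := IsLocalization.surj M b
  obtain ⟨⟨a₂, m₂⟩, h₂⟩ := IsLocalization.surj M s'
  have h₁' : b * algebraMap R S (m₁ : R) = algebraMap R S a₁ := h₁
  have h₂' : s' * algebraMap R S (m₂ : R) = algebraMap R S a₂ := h₂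
  have hu₁ : algebraMap R S (m₁ : R) ∉ Q.asIdeal := fun h =>
    Q.isPrime.ne_top (Ideal.eq_top_of_isUnit_mem _ h (IsLocalization.map_units S m₁))
  have hu₂ : algebraMap R S (m₂ : R) ∉ Q.asIdeal := fun h =>
    Q.isPrime.ne_top (Ideal.eq_top_of_isUnit_mem _ h (IsLocalization.map_units S m₂))
  have hne₁ : algebraMap S Q.asIdeal.ResidueField (algebraMap R S (m₁ : R)) ≠ 0 := by
    rw [Ne, Ideal.algebraMap_residueField_eq_zero]; exact hu₁
  have hne₂ : algebraMap S Q.asIdeal.ResidueField (algebraMap R S (m₂ : R)) ≠ 0 := by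
    rw [Ne, Ideal.algebraMap_residueField_eq_zero]; exact hu₂
  have hne' : algebraMap S Q.asIdeal.ResidueField s' ≠ 0 := by
    rw [Ne, Ideal.algebraMap_residueField_eq_zero]; exact hs'
  have e₁ := congrArg (algebraMap S Q.asIdeal.ResidueField) h₁'
  have e₂ := congrArg (algebraMap S Q.asIdeal.ResidueField) h₂'
  rw [map_mul] at e₁ e₂
  refine ⟨algebraMap R _ a₁ * algebraMap R _ (m₂ : R) *
    (algebraMap R _ (m₁ : R) * algebraMap R _ a₂)⁻¹, ?_⟩
  rw [map_mul, map_mul, map_inv₀, map_mul, hφa, hφa, hφa, hφa, ← e₁, ← e₂, ← hy]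
  field_simp

lemma map_res_surjective_of_isLocalization {R S : Type u} [CommRing R] [CommRing S]
    [Algebra R S] (M : Submonoid R) [IsLocalization M S] (Q : PrimeSpectrum S) :
    Function.Surjective (η.map (Ideal.ResidueField.map
      (PrimeSpectrum.comap (algebraMap R S) Q).asIdeal Q.asIdeal (algebraMap R S) rfl)) := by
  have hb : Function.Bijective (Ideal.ResidueField.map
      (PrimeSpectrum.comap (algebraMap R S) Q).asIdeal Q.asIdeal (algebraMap R S) rfl) :=
    ⟨RingHom.injective _, residue_map_surjective_of_isLocalization M Q⟩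
  exact (map_bijective_of_equiv η (RingEquiv.ofBijective _ hb)).2

theorem exists_Nmap_eq {R S : Type u} [CommRing R] [CommRing S]
    [Algebra R S] (M : Submonoid R) [IsLocalization M S] (y : η.N S) :
    ∃ x : η.N R, η.Nmap (algebraMap R S) x = y := by
  classical
  have hinj := PrimeSpectrum.localization_comap_injective S M
  have hex : ∀ p : PrimeSpectrum R, ∃ z : η.obj p.asIdeal.ResidueField,
      ∀ q : PrimeSpectrum S, ∀ (h : p.asIdeal = Ideal.comap (algebraMap R S) q.asIdeal),
      η.map (Ideal.ResidueField.map p.asIdeal q.asIdeal (algebraMap R S) h) z = y q := by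
    intro p
    by_cases hp : ∃ q₀, PrimeSpectrum.comap (algebraMap R S) q₀ = p
    · obtain ⟨q₀, hq₀⟩ := hp
      subst hq₀
      obtain ⟨z, hz⟩ := map_res_surjective_of_isLocalization η M q₀ (y q₀)
      refine ⟨z, ?_⟩
      intro q h
      have hqq : q = q₀ := hinj (PrimeSpectrum.ext h.symm)
      subst hqq
      exact hz
    · refine ⟨0, ?_⟩
      intro q h
      exact absurd ⟨q, PrimeSpectrum.ext h.symm⟩ hp
  choose x hx using hex
  refine ⟨x, ?_⟩
  funext q
  rw [Nmap_apply]
  exact hx (PrimeSpectrum.comap (algebraMap R S) q) q rfl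

theorem t_mul_eq_zero {A : Type u} [CommRing A] (f : A) (x : η.N A)
    (hx : η.Nmap (algebraMap A (Localization.Away f)) x = 0) : η.t A f * x = 0 := by
  funext P
  rw [Pi.mul_apply, Pi.zero_apply, t_apply]
  by_cases hf : f ∈ P.asIdeal
  · rw [(Ideal.algebraMap_residueField_eq_zero).mpr hf, map_zero, zero_mul]
  · have hP : P ∈ Set.range (PrimeSpectrum.comap (algebraMap A (Localization.Away f))) := by
      rw [PrimeSpectrum.localization_away_comap_range (Localization.Away f) f]
      exact hf
    obtain ⟨Q, rfl⟩ := hP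
    have h1 := congrFun hx Q
    rw [Nmap_apply, Pi.zero_apply, map_eq_zero] at h1
    rw [h1, mul_zero]

theorem main13824 (A : Type u) [CommRing A] (f : A) :
    (∀ y : η.N (Localization.Away f), ∃ (x : η.N A) (n : ℕ),
        y * η.t (Localization.Away f) (algebraMap A (Localization.Away f) f) ^ n =
          η.Nmap (algebraMap A (Localization.Away f)) x) ∧
      ∀ x : η.N A, η.Nmap (algebraMap A (Localization.Away f)) x = 0 →
        ∃ n : ℕ, η.t A f ^ n * x = 0 := by
  refine ⟨fun y => ?_, fun x hx => ⟨1, by rw [pow_one]; exact t_mul_eq_zero η f x hx⟩⟩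
  obtain ⟨x, hx⟩ := exists_Nmap_eq η (Submonoid.powers f) y
  exact ⟨x, 0, by rw [pow_zero, mul_one, hx]⟩

lemma away_facts (R : Type u) [CommRing R] [IsDomain R] [ValuationRing R] (hR : η.InV R)
    (r : R) (hr : r ≠ 0) :
    ∃ (_ : IsDomain (Localization.Away r)) (_ : ValuationRing (Localization.Away r)),
      η.InV (Localization.Away r) ∧
      ∀ x : Localization.Away r, (∃ P : Polynomial R, P.Monic ∧
        Polynomial.eval₂ (algebraMap R (Localization.Away r)) x P = 0) →
        ∃ r₀ : R, algebraMap R (Localization.Away r) r₀ = x := by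
  have hM : Submonoid.powers r ≤ nonZeroDivisors R :=
    powers_le_nonZeroDivisors_of_noZeroDivisors hr
  haveI hdom : IsDomain (Localization.Away r) := IsLocalization.isDomain_localization hM
  have hu : IsUnit (algebraMap R (FractionRing R) r) :=
    IsUnit.mk0 _ (by
      rw [Ne, map_eq_zero_iff _ (IsFractionRing.injective R (FractionRing R))]; exact hr)
  letI : Algebra (Localization.Away r) (FractionRing R) :=
    (IsLocalization.Away.lift r hu).toAlgebra
  haveI : IsScalarTower R (Localization.Away r) (FractionRing R) :=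
    IsScalarTower.of_algebraMap_eq (fun x => (IsLocalization.Away.lift_eq r hu x).symm)
  haveI : IsFractionRing (Localization.Away r) (FractionRing R) :=
    IsFractionRing.isFractionRing_of_isDomain_of_isLocalization (Submonoid.powers r)
      (Localization.Away r) (FractionRing R)
  have hval : ValuationRing (Localization.Away r) := by
    rw [ValuationRing.iff_dvd_total]
    refine ⟨fun a' b' => ?_⟩
    obtain ⟨⟨a, s⟩, ha⟩ := IsLocalization.surj (Submonoid.powers r) a'
    obtain ⟨⟨b, t⟩, hb⟩ := IsLocalization.surj (Submonoid.powers r) b'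
    have ha' : a' * algebraMap R (Localization.Away r) (s : R) = algebraMap R _ a := ha
    have hb' : b' * algebraMap R (Localization.Away r) (t : R) = algebraMap R _ b := hb
    have hs := IsLocalization.map_units (Localization.Away r) s
    have ht := IsLocalization.map_units (Localization.Away r) t
    rcases ValuationRing.dvd_total a b with h | h
    · left
      have h1 : algebraMap R (Localization.Away r) a ∣ algebraMap R (Localization.Away r) b :=
        map_dvd _ h
      rw [← ha', ← hb'] at h1
      exact (ht.dvd_mul_right).mp ((dvd_mul_right a' _).trans h1)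
    · right
      have h1 : algebraMap R (Localization.Away r) b ∣ algebraMap R (Localization.Away r) a :=
        map_dvd _ h
      rw [← ha', ← hb'] at h1
      exact (hs.dvd_mul_right).mp ((dvd_mul_right b' _).trans h1)
  refine ⟨hdom, hval, ?_, ?_⟩
  · exact eta_bijective_of_equiv η
      ((FractionRing.algEquiv (Localization.Away r) (FractionRing R)).symm.toRingEquiv) hR
  · rintro x ⟨P, hmonic, hP⟩
    have hint : IsIntegral R (algebraMap (Localization.Away r) (FractionRing R) x) := by
      refine ⟨P, hmonic, ?_⟩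
      rw [IsScalarTower.algebraMap_eq R (Localization.Away r) (FractionRing R),
        ← Polynomial.hom_eval₂, hP, map_zero]
    obtain ⟨r₀, hr₀⟩ := (IsIntegrallyClosed.isIntegral_iff (R := R)
      (K := FractionRing R)).mp hint
    refine ⟨r₀, ?_⟩
    apply IsFractionRing.injective (Localization.Away r) (FractionRing R)
    rw [← hr₀, ← IsScalarTower.algebraMap_apply]

theorem exists_M_lift (A : Type u) [CommRing A] (hA : (minimalPrimes A).Finite) (f : A)
    (y : η.N (Localization.Away f)) (hy : y ∈ η.M (Localization.Away f)) :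
    ∃ x ∈ η.M A, ∃ n : ℕ,
      y * η.t (Localization.Away f) (algebraMap A (Localization.Away f) f) ^ n =
      η.Nmap (algebraMap A (Localization.Away f)) x := by
  have hAf := minimalPrimes_away_finite A hA f
  obtain ⟨n, P', hP'monic, hP'⟩ : ∃ n : ℕ, ∃ P' : Polynomial A, P'.Monic ∧
      Polynomial.eval₂ ((η.q (Localization.Away f)).comp (algebraMap A (Localization.Away f)))
        (η.q (Localization.Away f) (algebraMap A (Localization.Away f) f) ^ n * ⟨y, hy⟩) P'
        = 0 := by
    letI : Algebra (Localization.Away f) (η.M (Localization.Away f)) :=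
      (η.q (Localization.Away f)).toAlgebra
    letI : Algebra A (η.M (Localization.Away f)) :=
      ((η.q (Localization.Away f)).comp (algebraMap A (Localization.Away f))).toAlgebra
    haveI : IsScalarTower A (Localization.Away f) (η.M (Localization.Away f)) :=
      IsScalarTower.of_algebraMap_eq (fun _ => rfl)
    have hy' : IsIntegral (Localization.Away f) (⟨y, hy⟩ : η.M (Localization.Away f)) :=
      q_isIntegral η (Localization.Away f) hAf ⟨y, hy⟩
    obtain ⟨⟨_, n, rfl⟩, hm⟩ := IsIntegral.exists_multiple_integral_of_isLocalization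
      (Submonoid.powers f) (⟨y, hy⟩ : η.M (Localization.Away f)) hy'
    obtain ⟨P', hmonic, hP'⟩ := hm
    refine ⟨n, P', hmonic, ?_⟩
    have e : ((⟨f ^ n, n, rfl⟩ : Submonoid.powers f) • (⟨y, hy⟩ : η.M (Localization.Away f))) =
        η.q (Localization.Away f) (algebraMap A (Localization.Away f) f) ^ n * ⟨y, hy⟩ := by
      rw [Submonoid.smul_def, Algebra.smul_def]
      change η.q (Localization.Away f) (algebraMap A (Localization.Away f) (f ^ n)) * _ = _
      rw [map_pow, map_pow]
    rw [← e]; exact hP'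
  obtain ⟨z, hzdef⟩ : ∃ z : η.M (Localization.Away f),
      z = η.q _ (algebraMap A _ f) ^ n * ⟨y, hy⟩ := ⟨_, rfl⟩
  rw [← hzdef] at hP'
  have hzval : (z : η.N (Localization.Away f)) = y * η.t _ (algebraMap A _ f) ^ n := by
    rw [hzdef, Subring.coe_mul, Subring.coe_pow, mul_comm]; rfl
  obtain ⟨x₁, hx₁⟩ := exists_Nmap_eq η (Submonoid.powers f) (z : η.N (Localization.Away f))
  refine ⟨η.t A f * x₁, ?_, n + 1, ?_⟩
  swap
  · rw [map_mul, hx₁, hzval, EtaPt.FieldEndo.Nmap_t_apply, pow_succ]; ring
  rw [mem_M_iff]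
  intro R _ _ _ hR h
  by_cases hf0 : h f = 0
  · refine ⟨0, ?_⟩
    rw [map_zero, map_mul, EtaPt.FieldEndo.Nmap_t_apply, hf0, map_zero, zero_mul]
  · obtain ⟨hdom, hval, hInV, hic⟩ := away_facts η R hR (h f) hf0
    haveI := hdom
    haveI := hval
    obtain ⟨h', hh'def⟩ : ∃ h' : Localization.Away f →+* Localization.Away (h f),
        h' = Localization.awayMap h f := ⟨_, rfl⟩
    have hsq : h'.comp (algebraMap A (Localization.Away f)) =
        (algebraMap R (Localization.Away (h f))).comp h := by
      rw [hh'def]; exact IsLocalization.map_comp _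
    obtain ⟨r', hr'⟩ := (mem_M_iff η _).mp z.2 (Localization.Away (h f)) hInV h'
    obtain ⟨Θ, hΘ⟩ : ∃ Θ : η.M (Localization.Away f) →+* η.N (Localization.Away (h f)),
        ∀ m, Θ m = η.Nmap h' (m : η.N _) :=
      ⟨(η.Nmap h').comp (η.M _).subtype, fun _ => rfl⟩
    have hcomp : Θ.comp ((η.q (Localization.Away f)).comp
        (algebraMap A (Localization.Away f))) =
        (η.t (Localization.Away (h f))).comp
          ((algebraMap R (Localization.Away (h f))).comp h) := by
      refine RingHom.ext fun a => ?_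
      change Θ (η.q _ (algebraMap A _ a)) = η.t _ (algebraMap R _ (h a))
      rw [hΘ]
      change η.Nmap h' (η.t _ (algebraMap A _ a)) = _
      rw [EtaPt.FieldEndo.Nmap_t_apply]
      exact congrArg _ (RingHom.congr_fun hsq a)
    have hint0 : Polynomial.eval₂ ((algebraMap R (Localization.Away (h f))).comp h) r' P'
        = 0 := by
      apply t_injective_of_isReduced η (Localization.Away (h f))
      rw [map_zero, Polynomial.hom_eval₂, ← hcomp, hr', ← hΘ, ← Polynomial.hom_eval₂, hP',
        map_zero]
    obtain ⟨r₀, hr₀⟩ := hic r' ⟨P'.map h, hP'monic.map h, by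
      rw [Polynomial.eval₂_map]; exact hint0⟩
    have hker : η.Nmap (algebraMap R (Localization.Away (h f)))
        (η.Nmap h x₁ - η.t R r₀) = 0 := by
      rw [map_sub, ← Nmap_comp, ← hsq, Nmap_comp, hx₁, EtaPt.FieldEndo.Nmap_t_apply, hr₀, hr',
        sub_self]
    have h0 := t_mul_eq_zero η (h f) _ hker
    refine ⟨h f * r₀, ?_⟩
    rw [map_mul, map_mul, EtaPt.FieldEndo.Nmap_t_apply]
    rw [mul_sub, sub_eq_zero] at h0
    exact h0.symm

theorem main13825 (A : Type u) [CommRing A] (hA : (minimalPrimes A).Finite) (f : A) :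
    (∀ y ∈ η.M (Localization.Away f), ∃ x ∈ η.M A, ∃ n : ℕ,
        y * η.t (Localization.Away f) (algebraMap A (Localization.Away f) f) ^ n =
          η.Nmap (algebraMap A (Localization.Away f)) x) ∧
      ∀ x ∈ η.M A, η.Nmap (algebraMap A (Localization.Away f)) x = 0 →
        ∃ n : ℕ, η.t A f ^ n * x = 0 :=
  ⟨fun y hy => exists_M_lift η A hA f y hy,
    fun x _ hx => ⟨1, by rw [pow_one]; exact t_mul_eq_zero η f x hx⟩⟩

end Groth.Agent.Lib.EtaLocH1
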