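import Mathlib
import Groth.Agent.Lib.EtaLoc_helper1
import Groth.Agent.Lib.UnivHomeo12_helper6

namespace Groth.Agent.Lib.EtaIntDescH1

universe u
open EtaPt
open Groth.Agent.Lib.EtaDomH1 Groth.Agent.Lib.EtaLiftH1 Groth.Agent.Lib.EtaLift2H1
  Groth.Agent.Lib.EtaLift3H1 Groth.Agent.Lib.EtaIntH1 Groth.Agent.Lib.EtaSpecH1
  Groth.Agent.Lib.EtaSpec2H1 Groth.Agent.Lib.EtaRelH1 Groth.Agent.Lib.EtaLocH1

variable (η : EtaPt.FieldEndo.{u})

lemma eta_bijective_of_perfectField (K : Type u) [Field K] [PerfectField K] :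
    Function.Bijective (η.eta K) := by
  refine ⟨(η.eta K).injective, fun y => ?_⟩
  obtain ⟨n, z, hz⟩ := η.exists_pow_mem_range_eta K y
  haveI : ExpChar K (ringExpChar K) := inferInstance
  haveI : PerfectRing K (ringExpChar K) := PerfectField.toPerfectRing (ringExpChar K)
  haveI : ExpChar (η.obj K) (ringExpChar K) :=
    expChar_of_injective_ringHom (η.eta K).injective (ringExpChar K)
  obtain ⟨w, hw⟩ : ∃ w : K, w ^ ringExpChar K ^ n = z :=
    ⟨(iterateFrobeniusEquiv K (ringExpChar K) n).symm z, by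
      rw [← iterateFrobeniusEquiv_def, RingEquiv.apply_symm_apply]⟩
  refine ⟨w, ?_⟩
  apply iterateFrobenius_inj (η.obj K) (ringExpChar K) n
  rw [iterateFrobenius_def, iterateFrobenius_def, ← map_pow, hw, hz]

lemma eta_bijective_residue_of_bot (R : Type u) [CommRing R] [IsDomain R] (hR : η.InV R)
    (P : PrimeSpectrum R) (hP : P.asIdeal = ⊥) :
    Function.Bijective (η.eta P.asIdeal.ResidueField) := by
  obtain ⟨I, hI⟩ := P
  change I = ⊥ at hP
  subst hP
  exact eta_bijective_of_equiv η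
    (FractionRing.algEquiv R (⊥ : Ideal R).ResidueField).toRingEquiv hR

/-- Domination: an element of the bigger valuation ring which is a fraction of the smaller one
lies in the smaller one. -/
lemma exists_eq_of_mul_eq {R R' : Type u} [CommRing R] [IsDomain R] [ValuationRing R]
    [CommRing R'] [IsDomain R'] (ι' : R →+* R') [hloc : IsLocalHom ι']
    (s a : R) (r' : R') (hs : ι' s ≠ 0) (h : ι' s * r' = ι' a) : ∃ r : R, ι' r = r' := by
  rcases ValuationRing.dvd_total s a with ⟨r, hr⟩ | ⟨u, hu⟩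
  · refine ⟨r, ?_⟩
    rw [hr, map_mul] at h
    exact (mul_left_cancel₀ hs h).symm
  · have ha : ι' a ≠ 0 := by
      intro h0
      apply hs
      rw [hu, map_mul, h0, zero_mul]
    rw [hu, map_mul, mul_assoc] at h
    have h1 : ι' u * r' = 1 := mul_left_cancel₀ ha (h.trans (mul_one _).symm)
    have hunit : IsUnit (ι' u) := IsUnit.of_mul_eq_one _ h1
    have hu' : IsUnit u := hloc.map_nonunit u hunit
    obtain ⟨v, hv⟩ := hu'.exists_right_inv
    refine ⟨v, ?_⟩
    have h2 : ι' u * ι' v = 1 := by rw [← map_mul, hv, map_one]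
    have hune : ι' u ≠ 0 := hunit.ne_zero
    exact mul_left_cancel₀ hune (h2.trans h1.symm)

theorem main13816 {A B : Type u} [CommRing A] [CommRing B] (f : A →+* B)
    (hf : f.IsIntegral) (hs : Function.Surjective (PrimeSpectrum.comap f)) (x : η.N A) :
    x ∈ η.M A ↔ η.Nmap f x ∈ η.M B := by
  refine ⟨fun hx => mapsTo_Nmap η f x hx, fun hy => ?_⟩
  rw [mem_M_iff]
  intro R _ _ _ hR g
  -- Step 1: extend the point to B after enlarging the field
  obtain ⟨K', hK', ι, ψ', hψ'⟩ : ∃ (K' : Type u) (_ : Field K') (ι : FractionRing R →+* K')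
      (ψ' : B →+* K'), ψ'.comp f = ι.comp ((algebraMap R (FractionRing R)).comp g) := by
    letI : Algebra A B := f.toAlgebra
    haveI : Algebra.IsIntegral A B := ⟨hf⟩
    have hker : RingHom.ker (algebraMap A B) ≤ nilradical A := by
      intro a ha
      rw [nilradical_eq_sInf, Ideal.mem_sInf]
      intro J hJ
      obtain ⟨Q, hQ⟩ := hs ⟨J, hJ⟩
      have h1 : a ∈ (PrimeSpectrum.comap f Q).asIdeal := by
        change f a ∈ Q.asIdeal
        have : f a = 0 := ha
        rw [this]; exact zero_mem _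
      rw [hQ] at h1
      exact h1
    exact Groth.Agent.Lib.UnivHomeo.exists_field_ext hker (FractionRing R)
      ((algebraMap R (FractionRing R)).comp g)
  letI := hK'
  -- Step 2: the algebraic closure
  obtain ⟨j, hjdef⟩ : ∃ j : R →+* AlgebraicClosure K',
      j = (algebraMap K' (AlgebraicClosure K')).comp (ι.comp (algebraMap R (FractionRing R))) :=
    ⟨_, rfl⟩
  have hjinj : Function.Injective j := by
    rw [hjdef]
    exact ((algebraMap K' (AlgebraicClosure K')).injective.comp ι.injective).comp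
      (IsFractionRing.injective R (FractionRing R))
  obtain ⟨ψΩ, hψΩdef⟩ : ∃ ψΩ : B →+* AlgebraicClosure K',
      ψΩ = (algebraMap K' (AlgebraicClosure K')).comp ψ' := ⟨_, rfl⟩
  have hsq0 : ∀ a, ψΩ (f a) = j (g a) := by
    intro a
    rw [hψΩdef, hjdef]
    change algebraMap K' (AlgebraicClosure K') (ψ' (f a)) = _
    have := RingHom.congr_fun hψ' a
    rw [RingHom.comp_apply] at this
    rw [this]; rfl
  have hΩ : Function.Bijective (η.eta (AlgebraicClosure K')) :=
    eta_bijective_of_perfectField η (AlgebraicClosure K')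
  -- Step 4: a dominating valuation ring
  obtain ⟨R', hR'mem, hloc⟩ := IsLocalRing.exists_factor_valuationRing j
  obtain ⟨ι', hι'⟩ : ∃ ι' : R →+* R', ∀ r, ((ι' r : R') : AlgebraicClosure K') = j r :=
    ⟨j.codRestrict R' hR'mem, fun _ => rfl⟩
  have hι'inj : Function.Injective ι' := by
    intro r r₁ hrr
    apply hjinj
    rw [← hι', ← hι', hrr]
  haveI hloc' : IsLocalHom ι' := by
    constructor
    intro r hr
    have h1 : IsUnit ((ι' r : R') : AlgebraicClosure K')⁻¹ → True := fun _ => trivial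
    apply hloc.map_nonunit r
    obtain ⟨v, hv⟩ := hr.exists_right_inv
    refine IsUnit.of_mul_eq_one (⟨(v : AlgebraicClosure K'), v.2⟩ : R'.toSubring) ?_
    apply Subtype.ext
    have := congrArg (fun z : R' => (z : AlgebraicClosure K')) hv
    simpa [hι'] using this
  have hInV' : η.InV R' := inV_valuationSubring η hΩ R'
  -- Step 5: the map B → R'
  have hBmem : ∀ b, ψΩ b ∈ R' := by
    intro b
    obtain ⟨P, hPmonic, hP⟩ := hf b
    have hint : IsIntegral R' (ψΩ b) := by
      refine ⟨P.map (ι'.comp g), hPmonic.map _, ?_⟩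
      rw [Polynomial.eval₂_map]
      have hcomp : (algebraMap R' (AlgebraicClosure K')).comp (ι'.comp g) = ψΩ.comp f := by
        refine RingHom.ext fun a => ?_
        change ((ι' (g a) : R') : AlgebraicClosure K') = ψΩ (f a)
        rw [hι', hsq0]
      rw [hcomp, ← Polynomial.hom_eval₂, hP, map_zero]
    obtain ⟨y, hy⟩ := (IsIntegrallyClosed.isIntegral_iff (R := R')
      (K := AlgebraicClosure K')).mp hint
    rw [← hy]
    exact y.2
  obtain ⟨g', hg'⟩ : ∃ g' : B →+* R', ∀ b, ((g' b : R') : AlgebraicClosure K') = ψΩ b :=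
    ⟨ψΩ.codRestrict R' hBmem, fun _ => rfl⟩
  have hsq : g'.comp f = ι'.comp g := by
    refine RingHom.ext fun a => Subtype.ext ?_
    change ((g' (f a) : R') : AlgebraicClosure K') = ((ι' (g a) : R') : AlgebraicClosure K')
    rw [hg', hι', hsq0]
  -- Step 6
  obtain ⟨r', hr'⟩ := (mem_M_iff η _).mp hy R' hInV' g'
  rw [← Nmap_comp, hsq, Nmap_comp] at hr'
  -- Step 7: descend r' to R
  obtain ⟨r, hr⟩ : ∃ r : R, ι' r = r' := by
    have hbot : (PrimeSpectrum.comap ι' ⟨⊥, Ideal.isPrime_bot⟩).asIdeal = ⊥ :=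
      Ideal.comap_bot_of_injective ι' hι'inj
    have hbij₀ := eta_bijective_residue_of_bot η R hR _ hbot
    obtain ⟨c, hc⟩ := hbij₀.2 (η.Nmap g x (PrimeSpectrum.comap ι' ⟨⊥, Ideal.isPrime_bot⟩))
    have h1 := congrFun hr' ⟨⊥, Ideal.isPrime_bot⟩
    rw [t_apply, Nmap_apply, ← hc] at h1
    have hnat := RingHom.congr_fun (η.eta_natural (Ideal.ResidueField.map
      (PrimeSpectrum.comap ι' ⟨⊥, Ideal.isPrime_bot⟩).asIdeal
      (⟨⊥, Ideal.isPrime_bot⟩ : PrimeSpectrum R').asIdeal ι' rfl)) c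
    rw [RingHom.comp_apply, RingHom.comp_apply] at hnat
    rw [hnat] at h1
    have h2 := (η.eta (⟨⊥, Ideal.isPrime_bot⟩ : PrimeSpectrum R').asIdeal.ResidueField).injective h1
    obtain ⟨a, s, hsn, hsa⟩ := residueField_exists_frac'
      (PrimeSpectrum.comap ι' ⟨⊥, Ideal.isPrime_bot⟩).asIdeal c
    have h3 := congrArg (Ideal.ResidueField.map
      (PrimeSpectrum.comap ι' ⟨⊥, Ideal.isPrime_bot⟩).asIdeal
      (⟨⊥, Ideal.isPrime_bot⟩ : PrimeSpectrum R').asIdeal ι' rfl) hsa
    have e1 := Ideal.ResidueField.map_algebraMap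
      (PrimeSpectrum.comap ι' ⟨⊥, Ideal.isPrime_bot⟩).asIdeal
      (⟨⊥, Ideal.isPrime_bot⟩ : PrimeSpectrum R').asIdeal ι' rfl s
    have e2 := Ideal.ResidueField.map_algebraMap
      (PrimeSpectrum.comap ι' ⟨⊥, Ideal.isPrime_bot⟩).asIdeal
      (⟨⊥, Ideal.isPrime_bot⟩ : PrimeSpectrum R').asIdeal ι' rfl a
    rw [map_mul, e1, e2, ← h2, ← map_mul, ← sub_eq_zero, ← map_sub,
      Ideal.algebraMap_residueField_eq_zero] at h3
    have h4 : ι' s * r' - ι' a = 0 := Ideal.mem_bot.mp h3
    have hs' : ι' s ≠ 0 := by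
      intro h0
      apply hsn
      change ι' s ∈ (⊥ : Ideal R')
      rw [h0]; exact zero_mem _
    exact exists_eq_of_mul_eq ι' s a r' hs' (sub_eq_zero.mp h4)
  -- Step 8: injectivity of Nmap ι'
  have hsurj : Function.Surjective (PrimeSpectrum.comap ι') := by
    letI : Algebra R R' := ι'.toAlgebra
    haveI : Module.Flat R R' :=
      (Module.Flat.flat_iff_torsion_eq_bot_of_isBezout).mpr
        (Submodule.isTorsionFree_iff_torsion_eq_bot.mp
          (Module.isTorsionFree_iff_algebraMap_injective.mpr hι'inj))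
    haveI : IsLocalHom (algebraMap R R') := hloc'
    haveI : Module.FaithfullyFlat R R' := Module.FaithfullyFlat.of_flat_of_isLocalHom
    exact PrimeSpectrum.comap_surjective_of_faithfullyFlat
  refine ⟨r, ?_⟩
  apply Nmap_injective_of_comap_surjective η ι' hsurj
  rw [EtaPt.FieldEndo.Nmap_t_apply, hr]
  exact hr'

end Groth.Agent.Lib.EtaIntDescH1
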