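import Mathlib
import Groth.Agent.Lib.FlatUnramFP_helper4

/-!
# Finiteness of irreducible components ascends along flat lfp morphisms (helper1)
-/

set_option autoImplicit false
universe u

open AlgebraicGeometry CategoryTheory TopologicalSpace

namespace Groth.Agent.Lib.EtaIrrCompH1

open Groth.Agent.Lib.FlatUnramFPH4

section Top

theorem finite_irreducibleComponents_of_cover {α ι : Type*} [TopologicalSpace α] [Finite ι]
    (β : ι → Type*) [∀ i, TopologicalSpace (β i)] (j : ∀ i, β i → α)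
    (hj : ∀ i, Topology.IsOpenEmbedding (j i)) (hcov : ∀ x, ∃ i, x ∈ Set.range (j i))
    (h : ∀ i, (irreducibleComponents (β i)).Finite) : (irreducibleComponents α).Finite := by
  have hfin : (⋃ i, (fun t : Set (β i) => closure (j i '' t)) ''
      irreducibleComponents (β i)).Finite :=
    Set.finite_iUnion fun i => (h i).image _
  refine hfin.subset ?_
  intro Z hZ
  obtain ⟨z, hz⟩ := hZ.1.1
  obtain ⟨i, b, hb⟩ := hcov z
  refine Set.mem_iUnion.2 ⟨i, (j i) ⁻¹' Z, ?_, ?_⟩
  · exact preimage_mem_irreducibleComponents hZ (hj i) ⟨z, hz, b, hb⟩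
  · show closure (j i '' ((j i) ⁻¹' Z)) = Z
    rw [Set.image_preimage_eq_inter_range]
    apply subset_antisymm
    · exact (isClosed_of_mem_irreducibleComponents Z hZ).closure_subset_iff.2
        Set.inter_subset_left
    · exact subset_closure_inter_of_isPreirreducible_of_isOpen hZ.1.2 (hj i).isOpen_range
        ⟨z, hz, b, hb⟩

theorem finite_irreducibleComponents_of_homeomorph {α β : Type*} [TopologicalSpace α]
    [TopologicalSpace β] (e : α ≃ₜ β) (h : (irreducibleComponents α).Finite) :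
    (irreducibleComponents β).Finite :=
  finite_irreducibleComponents_of_isOpenEmbedding e.symm.isOpenEmbedding h

end Top

section Alg

theorem finite_minimalPrimes_over {A B : Type*} [CommRing A] [CommRing B] [Algebra A B]
    [Algebra.FiniteType A B] (P : Ideal A) [P.IsPrime] :
    {Q : Ideal B | Q ∈ minimalPrimes B ∧ Q.comap (algebraMap A B) = P}.Finite := by
  haveI : Algebra.FiniteType P.ResidueField (P.Fiber B) := inferInstance
  haveI : IsNoetherianRing (P.Fiber B) := Algebra.FiniteType.isNoetherianRing P.ResidueField _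
  have hfin : (minimalPrimes (P.Fiber B)).Finite := minimalPrimes.finite_of_isNoetherianRing _
  let e := PrimeSpectrum.primesOverOrderIsoFiber A B P
  refine (hfin.image (fun q' : Ideal (P.Fiber B) =>
    q'.comap (Algebra.TensorProduct.includeRight : B →ₐ[A] P.Fiber B))).subset ?_
  rintro Q ⟨hQ, hQP⟩
  have hQp : Q.IsPrime := hQ.1.1
  have hmem : Q ∈ P.primesOver B := ⟨hQp, ⟨hQP.symm⟩⟩
  refine ⟨(e ⟨Q, hmem⟩).asIdeal, ⟨⟨(e ⟨Q, hmem⟩).isPrime, bot_le⟩, ?_⟩, ?_⟩
  · rintro q' ⟨hq', -⟩ hle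
    have h1 : e.symm ⟨q', hq'⟩ ≤ ⟨Q, hmem⟩ := by
      rw [← e.le_iff_le, e.apply_symm_apply]
      exact hle
    have h2 : Q ≤ (e.symm ⟨q', hq'⟩).1 := hQ.2 ⟨(e.symm ⟨q', hq'⟩).2.1, bot_le⟩ h1
    have h3 : e.symm ⟨q', hq'⟩ = ⟨Q, hmem⟩ := le_antisymm h1 h2
    have h4 : (⟨q', hq'⟩ : PrimeSpectrum _) = e ⟨Q, hmem⟩ := by
      rw [← h3, e.apply_symm_apply]
    rw [← h4]
  · have h5 := PrimeSpectrum.coe_primesOverOrderIsoFiber_symm_apply (R := A) (S := B) (p := P)
      (e ⟨Q, hmem⟩)
    have h6 : ((e.symm (e ⟨Q, hmem⟩) : P.primesOver B) : Ideal B) = Q := by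
      rw [e.symm_apply_apply]
    exact h5.symm.trans h6

theorem finite_minimalPrimes_of_flat_finiteType {A B : Type*} [CommRing A] [CommRing B]
    [Algebra A B] [Module.Flat A B] [Algebra.FiniteType A B] (h : (minimalPrimes A).Finite) :
    (minimalPrimes B).Finite := by
  have hfin : (⋃ P ∈ minimalPrimes A,
      {Q : Ideal B | Q ∈ minimalPrimes B ∧ Q.comap (algebraMap A B) = P}).Finite := by
    refine h.biUnion fun P hP => ?_
    haveI := hP.1.1
    exact finite_minimalPrimes_over P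
  refine hfin.subset fun Q hQ => ?_
  simp only [Set.mem_iUnion]
  exact ⟨_, comap_mem_minimalPrimes hQ, hQ, rfl⟩

theorem finite_minimalPrimes_of_ringHom {A B : Type u} [CommRing A] [CommRing B] (φ : A →+* B)
    (h1 : φ.Flat) (h2 : φ.FinitePresentation) (h : (minimalPrimes A).Finite) :
    (minimalPrimes B).Finite := by
  algebraize [φ]
  haveI : Algebra.FiniteType A B := Algebra.FiniteType.of_finitePresentation
  exact finite_minimalPrimes_of_flat_finiteType h

end Alg

section Sch

theorem finite_irreducibleComponents_of_affineOpen {Y : Scheme.{u}} {W : Y.Opens}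
    (hW : IsAffineOpen W) (h : (minimalPrimes Γ(Y, W)).Finite) :
    (irreducibleComponents (W : Type u)).Finite := by
  haveI : Finite (minimalPrimes Γ(Y, W)) := h.to_subtype
  haveI : Finite (irreducibleComponents (PrimeSpectrum Γ(Y, W))) :=
    Finite.of_equiv _ (minimalPrimes.equivIrreducibleComponents Γ(Y, W)).toEquiv
  have h1 : (irreducibleComponents (PrimeSpectrum Γ(Y, W))).Finite := Set.toFinite _
  exact finite_irreducibleComponents_of_homeomorph (Scheme.homeoOfIso hW.isoSpec).symm h1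

theorem main {Y X : Scheme.{u}} (f : Y ⟶ X) [Flat f] [LocallyOfFinitePresentation f]
    (hX : ∀ U : X.Opens, IsCompact (U : Set X) → (irreducibleComponents (U : Type u)).Finite)
    (V : Y.Opens) (hV : IsCompact (V : Set Y)) : (irreducibleComponents (V : Type u)).Finite := by
  have key : ∀ y : V, ∃ W : Y.Opens, (y : Y) ∈ W ∧ W ≤ V ∧
      (irreducibleComponents (W : Type u)).Finite := by
    intro y
    obtain ⟨U, hU, hyU, -⟩ := Opens.isBasis_iff_nbhd.mp X.isBasis_affineOpens
      (Opens.mem_top (f (y : Y)))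
    obtain ⟨W, hW, hyW, hWle⟩ := Opens.isBasis_iff_nbhd.mp Y.isBasis_affineOpens
      (show (y : Y) ∈ V ⊓ f ⁻¹ᵁ U from ⟨y.2, hyU⟩)
    have e : W ≤ f ⁻¹ᵁ U := hWle.trans inf_le_right
    refine ⟨W, hyW, hWle.trans inf_le_left, ?_⟩
    have hUfin : (minimalPrimes Γ(X, U)).Finite :=
      finite_minimalPrimes_of_affineOpen hU le_rfl (hX U hU.isCompact)
    exact finite_irreducibleComponents_of_affineOpen hW
      (finite_minimalPrimes_of_ringHom (f.appLE U W e).hom
        (HasRingHomProperty.appLE @Flat f inferInstance ⟨U, hU⟩ ⟨W, hW⟩ e)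
        (HasRingHomProperty.appLE @LocallyOfFinitePresentation f inferInstance ⟨U, hU⟩ ⟨W, hW⟩ e)
        hUfin)
  choose W hyW hWV hWfin using key
  obtain ⟨t, ht⟩ := hV.elim_finite_subcover (fun y : V => ((W y : Y.Opens) : Set Y))
    (fun y => (W y).isOpen) (fun y hy => Set.mem_iUnion.2 ⟨⟨y, hy⟩, hyW ⟨y, hy⟩⟩)
  refine finite_irreducibleComponents_of_cover (ι := t) (fun i => ↥(W i.1))
    (fun i => Set.inclusion (SetLike.coe_subset_coe.2 (hWV i.1)))
    (fun i => Opens.isOpenEmbedding_of_le (hWV i.1)) ?_ (fun i => hWfin i.1)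
  intro x
  have hx := ht x.2
  simp only [Set.mem_iUnion] at hx
  obtain ⟨i, hi, hx⟩ := hx
  exact ⟨⟨i, hi⟩, ⟨⟨x.1, hx⟩, Subtype.ext rfl⟩⟩

end Sch

end Groth.Agent.Lib.EtaIrrCompH1
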