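import Mathlib
import Groth.Agent.Lib.EtaLoc_helper1

namespace Groth.Agent.Lib.EtaLoc2H1

universe u
open EtaPt
open Groth.Agent.Lib.EtaDomH1 Groth.Agent.Lib.EtaLiftH1 Groth.Agent.Lib.EtaLift2H1
  Groth.Agent.Lib.EtaLift3H1 Groth.Agent.Lib.EtaIntH1 Groth.Agent.Lib.EtaSpecH1
  Groth.Agent.Lib.EtaSpec2H1 Groth.Agent.Lib.EtaRelH1 Groth.Agent.Lib.EtaRel2H1
  Groth.Agent.Lib.EtaRel3H1 Groth.Agent.Lib.EtaLocH1

variable (η : EtaPt.FieldEndo.{u})

set_option maxHeartbeats 1600000 in
theorem main13829 {A B : Type u} [CommRing A] [CommRing B] (hA : (minimalPrimes A).Finite)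
    (φ : A →+* B) (f : A) :
    (η.rel φ).map (algebraMap B (Localization.Away (φ f))) ≤ η.rel (Localization.awayMap φ f) ∧
      ∀ y ∈ η.rel (Localization.awayMap φ f), ∃ x ∈ η.rel φ, ∃ n : ℕ,
        y * algebraMap B (Localization.Away (φ f)) (φ f) ^ n =
          algebraMap B (Localization.Away (φ f)) x := by
  have hsq : (Localization.awayMap φ f).comp (algebraMap A (Localization.Away f)) =
      (algebraMap B (Localization.Away (φ f))).comp φ := IsLocalization.map_comp _
  have hsqa : ∀ c, Localization.awayMap φ f (algebraMap A _ c) = algebraMap B _ (φ c) :=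
    fun c => RingHom.congr_fun hsq c
  constructor
  · rintro _ ⟨b, hb, rfl⟩
    obtain ⟨x, hxM, hxb⟩ := (mem_rel_iff η φ b).mp hb
    rw [mem_rel_iff]
    refine ⟨η.Nmap (algebraMap A _) x, mapsTo_Nmap η _ x hxM, ?_⟩
    rw [← Nmap_comp, hsq, Nmap_comp, hxb, EtaPt.FieldEndo.Nmap_t_apply]
  · intro y hy
    obtain ⟨m, hmM, hmy⟩ := (mem_rel_iff η _ y).mp hy
    obtain ⟨x₀, hx₀M, n₀, hx₀⟩ := exists_M_lift η A hA f m hmM
    obtain ⟨⟨b, s⟩, hb⟩ := IsLocalization.surj (Submonoid.powers (φ f)) y
    obtain ⟨n₁, hn₁⟩ := s.2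
    have hb' : y * algebraMap B (Localization.Away (φ f)) (φ f) ^ n₁ = algebraMap B _ b := by
      rw [← map_pow]
      have : (φ f) ^ n₁ = (s : B) := hn₁
      rw [this]; exact hb
    obtain ⟨X, hXdef⟩ : ∃ X : η.N A, X = η.t A f ^ n₁ * x₀ := ⟨_, rfl⟩
    have hXM : X ∈ η.M A := by
      rw [hXdef]
      exact Subring.mul_mem _ (Subring.pow_mem _ (EtaPt.FieldEndo.t_mem_M η A f) n₁) hx₀M
    obtain ⟨b₁, hb₁def⟩ : ∃ b₁ : B, b₁ = φ f ^ n₀ * b := ⟨_, rfl⟩
    obtain ⟨T, hTdef⟩ : ∃ T : η.N (Localization.Away (φ f)),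
        T = η.t _ (algebraMap B (Localization.Away (φ f)) (φ f)) := ⟨_, rfl⟩
    have e3 : η.Nmap (Localization.awayMap φ f) (η.t _ (algebraMap A _ f)) = T := by
      rw [EtaPt.FieldEndo.Nmap_t_apply, hsqa, hTdef]
    have e1 : η.Nmap (algebraMap B (Localization.Away (φ f))) (η.Nmap φ X) =
        η.Nmap (Localization.awayMap φ f) (η.Nmap (algebraMap A _) X) := by
      rw [← Nmap_comp, ← hsq, Nmap_comp]
    have e2 : η.Nmap (algebraMap A (Localization.Away f)) X =
        η.t _ (algebraMap A _ f) ^ n₁ * (m * η.t _ (algebraMap A _ f) ^ n₀) := by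
      rw [hXdef, map_mul, map_pow, EtaPt.FieldEndo.Nmap_t_apply, hx₀]
    have e4 : η.Nmap (Localization.awayMap φ f) (η.Nmap (algebraMap A _) X) =
        T ^ n₁ * (η.t _ y * T ^ n₀) := by
      rw [e2, map_mul, map_pow, map_mul, map_pow, e3, hmy]
    have e5 : η.Nmap (algebraMap B (Localization.Away (φ f))) (η.t B b₁) =
        T ^ n₀ * (η.t _ y * T ^ n₁) := by
      rw [EtaPt.FieldEndo.Nmap_t_apply, hb₁def, map_mul (algebraMap B _), map_pow (algebraMap B _),
        ← hb', map_mul (η.t _), map_pow (η.t _), map_mul (η.t _), map_pow (η.t _), hTdef]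
    have hker : η.Nmap (algebraMap B (Localization.Away (φ f)))
        (η.Nmap φ X - η.t B b₁) = 0 := by
      rw [map_sub, e1, e4, e5, sub_eq_zero]
      ring
    have h0 := t_mul_eq_zero η (φ f) _ hker
    rw [mul_sub, sub_eq_zero] at h0
    refine ⟨φ f * b₁, ?_, n₀ + n₁ + 1, ?_⟩
    · rw [mem_rel_iff]
      refine ⟨η.t A f * X, Subring.mul_mem _ (EtaPt.FieldEndo.t_mem_M η A f) hXM, ?_⟩
      rw [map_mul, EtaPt.FieldEndo.Nmap_t_apply, map_mul]
      exact h0
    · rw [map_mul, hb₁def, map_mul, map_pow, ← hb']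
      ring

theorem main19575 {A B : Type u} [CommRing A] [CommRing B]
    (hA : (minimalPrimes A).Finite) (φ : A →+* B)
    (h : Function.Bijective (η.qRel φ)) (f : A) :
    Function.Bijective (η.qRel (Localization.awayMap φ f)) := by
  have hsq : (Localization.awayMap φ f).comp (algebraMap A (Localization.Away f)) =
      (algebraMap B (Localization.Away (φ f))).comp φ := IsLocalization.map_comp _
  have hsqa : ∀ c, Localization.awayMap φ f (algebraMap A _ c) = algebraMap B _ (φ c) :=
    fun c => RingHom.congr_fun hsq c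
  have hφinj : Function.Injective φ := by
    intro a a' haa
    apply h.1
    exact Subtype.ext haa
  constructor
  · intro a a' haa
    have h1 : Localization.awayMap φ f a = Localization.awayMap φ f a' :=
      congrArg Subtype.val haa
    have hinj : Function.Injective (Localization.awayMap φ f) := by
      rw [Localization.awayMap_injective_iff]
      intro c hc
      refine ⟨0, ?_⟩
      rw [pow_zero, one_mul]
      exact hφinj (hc.trans (map_zero φ).symm)
    exact hinj h1
  · rintro ⟨y, hy⟩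
    obtain ⟨x, hx, n, hxn⟩ := (main13829 η hA φ f).2 y hy
    obtain ⟨a, ha⟩ := h.2 ⟨x, hx⟩
    have hax : φ a = x := congrArg Subtype.val ha
    obtain ⟨a', ha'⟩ : ∃ a' : Localization.Away f,
        a' * algebraMap A (Localization.Away f) f ^ n = algebraMap A _ a :=
      ⟨IsLocalization.mk' _ a (⟨f ^ n, n, rfl⟩ : Submonoid.powers f), by
        rw [← map_pow]
        exact IsLocalization.mk'_spec _ a (⟨f ^ n, n, rfl⟩ : Submonoid.powers f)⟩
    have h2 := congrArg (Localization.awayMap φ f) ha'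
    rw [map_mul, map_pow, hsqa, hsqa, hax, ← hxn] at h2
    have hu : IsUnit (algebraMap B (Localization.Away (φ f)) (φ f) ^ n) :=
      (IsLocalization.Away.algebraMap_isUnit (φ f)).pow n
    refine ⟨a', Subtype.ext ?_⟩
    exact hu.mul_left_injective h2

theorem main19576 {A B : Type u} [CommRing A] [CommRing B]
    (hA : (minimalPrimes A).Finite) (φ : A →+* B)
    (s : Finset A) (hspan : Ideal.span (s : Set A) = ⊤)
    (h : ∀ f ∈ s, Function.Bijective (η.qRel (Localization.awayMap φ f))) :
    Function.Bijective (η.qRel φ) := by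
  have key : ∀ J : Ideal A, (∀ f ∈ s, ∃ n : ℕ, f ^ n ∈ J) → (1 : A) ∈ J := by
    intro J hJ
    have hrad : Ideal.span (s : Set A) ≤ J.radical := by
      rw [Ideal.span_le]
      intro f hf
      exact hJ f hf
    rw [hspan, top_le_iff, Ideal.radical_eq_top] at hrad
    rw [hrad]; exact Submodule.mem_top
  constructor
  · rw [injective_iff_map_eq_zero]
    intro a ha
    have hφa : φ a = 0 := congrArg Subtype.val ha
    have hloc : ∀ f ∈ s, ∃ n : ℕ, f ^ n * a = 0 := by
      intro f hf
      have hinj : Function.Injective (Localization.awayMap φ f) := by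
        intro u v huv; exact (h f hf).1 (Subtype.ext huv)
      exact Localization.awayMap_injective_iff.mp hinj a hφa
    let J : Ideal A :=
      { carrier := {c | c * a = 0}
        add_mem' := fun {c d} hc hd => by
          change (c + d) * a = 0
          rw [add_mul, show c * a = 0 from hc, show d * a = 0 from hd, add_zero]
        zero_mem' := zero_mul a
        smul_mem' := fun c d hd => by
          change (c • d) * a = 0
          rw [smul_eq_mul, mul_assoc, show d * a = 0 from hd, mul_zero] }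
    have h1 : (1 : A) ∈ J := key J (fun f hf => hloc f hf)
    have h2 : (1 : A) * a = 0 := h1
    rwa [one_mul] at h2
  · rintro ⟨b, hb⟩
    have hloc : ∀ f ∈ s, ∃ n : ℕ, ∃ a₁ : A, φ (f ^ n) * b = φ a₁ := by
      intro f hf
      have hmem : algebraMap B (Localization.Away (φ f)) b ∈ η.rel (Localization.awayMap φ f) :=
        (main13829 η hA φ f).1 ⟨b, hb, rfl⟩
      obtain ⟨a', ha'⟩ := (h f hf).2 ⟨_, hmem⟩
      have ha'' : Localization.awayMap φ f a' = algebraMap B _ b := congrArg Subtype.val ha'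
      obtain ⟨⟨a₀, t⟩, hat⟩ := IsLocalization.surj (Submonoid.powers f) a'
      obtain ⟨n, hn⟩ := t.2
      have hat' : a' * algebraMap A (Localization.Away f) (f ^ n) = algebraMap A _ a₀ := by
        have : f ^ n = (t : A) := hn
        rw [this]; exact hat
      have hsq : (Localization.awayMap φ f).comp (algebraMap A (Localization.Away f)) =
          (algebraMap B (Localization.Away (φ f))).comp φ := IsLocalization.map_comp _
      have hsqa : ∀ c, Localization.awayMap φ f (algebraMap A _ c) = algebraMap B _ (φ c) :=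
        fun c => RingHom.congr_fun hsq c
      have h2 := congrArg (Localization.awayMap φ f) hat'
      rw [map_mul, hsqa, hsqa, ha'', ← map_mul, ← sub_eq_zero, ← map_sub,
        IsLocalization.map_eq_zero_iff (Submonoid.powers (φ f))] at h2
      obtain ⟨⟨_, k, rfl⟩, hk⟩ := h2
      refine ⟨k + n, f ^ k * a₀, ?_⟩
      have hk' : φ f ^ k * (b * φ (f ^ n) - φ a₀) = 0 := hk
      rw [mul_sub, sub_eq_zero] at hk'
      rw [pow_add, map_mul, map_mul, map_pow φ f k, ← hk']
      ring
    let J : Ideal A :=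
      { carrier := {c | ∃ a₁ : A, φ c * b = φ a₁}
        add_mem' := fun {c d} hc hd => by
          obtain ⟨a₁, h₁⟩ := hc
          obtain ⟨a₂, h₂⟩ := hd
          exact ⟨a₁ + a₂, by rw [map_add, add_mul, h₁, h₂, map_add]⟩
        zero_mem' := ⟨0, by rw [map_zero, zero_mul]⟩
        smul_mem' := fun c d hd => by
          obtain ⟨a₁, h₁⟩ := hd
          exact ⟨c * a₁, by rw [smul_eq_mul, map_mul, mul_assoc, h₁, map_mul]⟩ }
    have h1 : (1 : A) ∈ J := key J (fun f hf => hloc f hf)
    obtain ⟨a₁, ha₁⟩ := h1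
    rw [map_one, one_mul] at ha₁
    exact ⟨a₁, Subtype.ext ha₁.symm⟩

end Groth.Agent.Lib.EtaLoc2H1
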