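import Mathlib
import Groth.Agent.Lib.EtaRel_helper1

namespace Groth.Agent.Lib.EtaMmapH1

universe u
open EtaPt
open Groth.Agent.Lib.EtaDomH1 Groth.Agent.Lib.EtaLiftH1 Groth.Agent.Lib.EtaLift2H1
  Groth.Agent.Lib.EtaLift3H1 Groth.Agent.Lib.EtaIntH1 Groth.Agent.Lib.EtaSpecH1
  Groth.Agent.Lib.EtaSpec2H1 Groth.Agent.Lib.EtaRelH1

variable (η : EtaPt.FieldEndo.{u})

lemma comm_sq {A B : Type u} [CommRing A] [CommRing B] (f : A →+* B)
    (g : η.M A →+* η.M B) (hg : ∀ x : η.M A, ((g x : η.M B) : η.N B) = η.Nmap f (x : η.N A)) :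
    g.comp (η.q A) = (η.q B).comp f := by
  refine RingHom.ext fun a => Subtype.ext ?_
  change ((g (η.q A a) : η.M B) : η.N B) = η.t B (f a)
  rw [hg, ← η.Nmap_t_apply f a]
  rfl

lemma comap_sq {A B : Type u} [CommRing A] [CommRing B] (f : A →+* B)
    (g : η.M A →+* η.M B) (hcomm : g.comp (η.q A) = (η.q B).comp f)
    (QQ : PrimeSpectrum (η.M B)) :
    PrimeSpectrum.comap (η.q A) (PrimeSpectrum.comap g QQ) =
      PrimeSpectrum.comap f (PrimeSpectrum.comap (η.q B) QQ) := by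
  have := congrArg (fun h => PrimeSpectrum.comap h QQ) hcomm
  exact this

theorem main19577 {A B : Type u} [CommRing A] [CommRing B]
    (hA : (minimalPrimes A).Finite) (hB : (minimalPrimes B).Finite) (f : A →+* B)
    (g : η.M A →+* η.M B) (hg : ∀ x : η.M A, ((g x : η.M B) : η.N B) = η.Nmap f (x : η.N A)) :
    (f.IsIntegral ↔ g.IsIntegral) ∧
      (Function.Surjective (PrimeSpectrum.comap f) ↔
        Function.Surjective (PrimeSpectrum.comap g)) := by
  have hcomm := comm_sq η f g hg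
  have hqA := q_isIntegral η A hA
  have hqB := q_isIntegral η B hB
  have hbA := comap_q_bijective η A hA
  have hbB := comap_q_bijective η B hB
  refine ⟨⟨?_, ?_⟩, ⟨?_, ?_⟩⟩
  · intro hf
    apply RingHom.IsIntegral.tower_top (η.q A) g
    rw [hcomm]
    exact RingHom.IsIntegral.trans _ _ hf hqB
  · intro hgi b
    have h1 : (g.comp (η.q A)).IsIntegral := RingHom.IsIntegral.trans _ _ hqA hgi
    rw [hcomm] at h1
    obtain ⟨P, hPm, hP⟩ := h1 (η.q B b)
    have e1 : η.q B (Polynomial.eval₂ f b P) =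
        Polynomial.eval₂ ((η.q B).comp f) (η.q B b) P := Polynomial.hom_eval₂ _ _ _ _
    rw [hP] at e1
    have e2 : η.t B (Polynomial.eval₂ f b P) = 0 := congrArg Subtype.val e1
    obtain ⟨N, hN⟩ := isNilpotent_of_t_eq_zero η _ e2
    exact ⟨P ^ N, hPm.pow N, by rw [Polynomial.eval₂_pow, hN]⟩
  · intro hf PP
    obtain ⟨Q, hQ⟩ := hf (PrimeSpectrum.comap (η.q A) PP)
    obtain ⟨QQ, hQQ⟩ := hbB.2 Q
    refine ⟨QQ, hbA.1 ?_⟩
    rw [comap_sq η f g hcomm, hQQ, hQ]
  · intro hgs P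
    obtain ⟨PP, hPP⟩ := hbA.2 P
    obtain ⟨QQ, hQQ⟩ := hgs PP
    refine ⟨PrimeSpectrum.comap (η.q B) QQ, ?_⟩
    rw [← comap_sq η f g hcomm, hQQ, hPP]

theorem main19578 {A B : Type u} [CommRing A] [CommRing B]
    (hA : (minimalPrimes A).Finite) (hB : (minimalPrimes B).Finite) (f : A →+* B)
    (g : η.M A →+* η.M B) (hg : ∀ x : η.M A, ((g x : η.M B) : η.N B) = η.Nmap f (x : η.N A))
    (hbij : Function.Bijective g) :
    Function.Bijective (PrimeSpectrum.comap f) ∧
      ∀ Q : PrimeSpectrum B,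
        ∃ φ : Q.asIdeal.ResidueField →+* η.obj (PrimeSpectrum.comap f Q).asIdeal.ResidueField,
          φ.comp (Ideal.ResidueField.map (PrimeSpectrum.comap f Q).asIdeal Q.asIdeal f rfl) =
            η.eta (PrimeSpectrum.comap f Q).asIdeal.ResidueField := by
  have hcomm := comm_sq η f g hg
  have hbA := comap_q_bijective η A hA
  have hbB := comap_q_bijective η B hB
  obtain ⟨e, he⟩ : ∃ e : η.M A ≃+* η.M B, ∀ m, e m = g m :=
    ⟨RingEquiv.ofBijective g hbij, fun _ => rfl⟩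
  have hginj : Function.Injective (PrimeSpectrum.comap g) :=
    PrimeSpectrum.comap_injective_of_surjective g hbij.2
  have hgsurj : Function.Surjective (PrimeSpectrum.comap g) := by
    intro PP
    refine ⟨PrimeSpectrum.comap (e.symm : η.M B →+* η.M A) PP, ?_⟩
    apply PrimeSpectrum.ext
    ext m
    change (e.symm : η.M B →+* η.M A) (g m) ∈ PP.asIdeal ↔ m ∈ PP.asIdeal
    rw [← he]
    simp
  refine ⟨⟨?_, ?_⟩, ?_⟩
  · intro Q₁ Q₂ h12
    obtain ⟨QQ₁, rfl⟩ := hbB.2 Q₁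
    obtain ⟨QQ₂, rfl⟩ := hbB.2 Q₂
    rw [← comap_sq η f g hcomm, ← comap_sq η f g hcomm] at h12
    rw [hginj (hbA.1 h12)]
  · exact ((main19577 η hA hB f g hg).2).mpr hgsurj
  · intro Q
    obtain ⟨QQ, hQQ⟩ := hbB.2 Q
    obtain ⟨π, hπ⟩ : ∃ π : B →+* η.obj (PrimeSpectrum.comap f Q).asIdeal.ResidueField,
        ∀ b, π b = ((e.symm (η.q B b) : η.M A) : η.N A) (PrimeSpectrum.comap f Q) :=
      ⟨((Pi.evalRingHom (fun P : PrimeSpectrum A => η.obj P.asIdeal.ResidueField)
        (PrimeSpectrum.comap f Q)).comp (η.M A).subtype).comp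
        ((e.symm : η.M B →+* η.M A).comp (η.q B)), fun _ => rfl⟩
    have hker : ∀ b, π b = 0 ↔ b ∈ Q.asIdeal := by
      intro b
      rw [hπ]
      have h1 : b ∈ Q.asIdeal ↔ η.q B b ∈ QQ.asIdeal := by
        rw [← hQQ]; rfl
      have h2 : η.q B b ∈ QQ.asIdeal ↔
          e.symm (η.q B b) ∈ (PrimeSpectrum.comap g QQ).asIdeal := by
        change _ ↔ g (e.symm (η.q B b)) ∈ QQ.asIdeal
        rw [← he, e.apply_symm_apply]
      have h3 := mem_prime_iff η A hA (PrimeSpectrum.comap g QQ) (e.symm (η.q B b))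
      have h4 : PrimeSpectrum.comap (η.q A) (PrimeSpectrum.comap g QQ) =
          PrimeSpectrum.comap f Q := by
        rw [comap_sq η f g hcomm, hQQ]
      have tr : ∀ P P' : PrimeSpectrum A, P = P' →
          (((e.symm (η.q B b) : η.M A) : η.N A) P = 0 ↔
            ((e.symm (η.q B b) : η.M A) : η.N A) P' = 0) := by
        rintro _ _ rfl; exact Iff.rfl
      rw [h1, h2, h3, tr _ _ h4]
    obtain ⟨φ, hφ⟩ : ∃ φ : Q.asIdeal.ResidueField →+*
        η.obj (PrimeSpectrum.comap f Q).asIdeal.ResidueField,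
        ∀ b : B, φ (algebraMap _ _ b) = π b :=
      ⟨Ideal.ResidueField.lift Q.asIdeal π
        (fun m' hm' => RingHom.mem_ker.mpr ((hker m').mpr hm')) (by
          intro b' hb'
          change IsUnit (π b')
          rw [isUnit_iff_ne_zero]
          intro h0
          exact hb' ((hker b').mp h0)),
        fun m => Ideal.ResidueField.lift_algebraMap _ _ _ _ m⟩
    refine ⟨φ, ?_⟩
    apply residueField_hom_ext
    intro a
    change φ (Ideal.ResidueField.map _ _ f rfl (algebraMap A _ a)) = _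
    rw [Ideal.ResidueField.map_algebraMap _ _ f rfl a, hφ, hπ]
    have h5 : η.q B (f a) = g (η.q A a) := (RingHom.congr_fun hcomm a).symm
    rw [h5, ← he, e.symm_apply_apply]
    rfl

end Groth.Agent.Lib.EtaMmapH1
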