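import Mathlib
import Groth.Agent.Lib.EtaLoc_helper1
import Groth.Prelude.Def_EGA4b

namespace Groth.Agent.Lib.EtaNormalH1

universe u
open EtaPt
open Groth.Agent.Lib.EtaDomH1 Groth.Agent.Lib.EtaLiftH1 Groth.Agent.Lib.EtaLift2H1
  Groth.Agent.Lib.EtaLift3H1 Groth.Agent.Lib.EtaIntH1 Groth.Agent.Lib.EtaSpecH1
  Groth.Agent.Lib.EtaSpec2H1 Groth.Agent.Lib.EtaRelH1 Groth.Agent.Lib.EtaLocH1

variable (η : EtaPt.FieldEndo.{u})

set_option maxHeartbeats 1600000 in
theorem main13827 (A : Type u) [CommRing A] (hn : EGA4.IsNormalRing A)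
    (hA : (minimalPrimes A).Finite)
    (hη : ∀ p : PrimeSpectrum A, p.asIdeal ∈ minimalPrimes A →
      Function.Bijective (η.eta p.asIdeal.ResidueField)) :
    Function.Bijective (η.q A) := by
  classical
  haveI hred : IsReduced A := by
    apply isReduced_ofLocalizationMaximal
    intro P hP
    haveI := hP.isPrime
    haveI := (hn P).1
    infer_instance
  have htinj := t_injective_of_isReduced η A
  have hqinj : Function.Injective (η.q A) := fun a a' h => htinj (congrArg Subtype.val h)
  refine ⟨hqinj, ?_⟩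
  rintro ⟨m, hm⟩
  rcases isEmpty_or_nonempty (PrimeSpectrum A) with hemp | hne
  · exact ⟨0, Subtype.ext (funext fun P => isEmptyElim P)⟩
  obtain ⟨P₀⟩ := hne
  have hfin : {P : PrimeSpectrum A | P.asIdeal ∈ minimalPrimes A}.Finite :=
    hA.preimage (fun _ _ _ _ h => PrimeSpectrum.ext h)
  -- the denominator ideal
  let S : Ideal A :=
    { carrier := {s | ∃ a : A, η.t A s * m = η.t A a}
      add_mem' := fun {s s'} hs hs' => by
        obtain ⟨a, ha⟩ := hs
        obtain ⟨a', ha'⟩ := hs'
        exact ⟨a + a', by rw [map_add, add_mul, ha, ha', map_add]⟩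
      zero_mem' := ⟨0, by rw [map_zero, zero_mul]⟩
      smul_mem' := fun c s hs => by
        obtain ⟨a, ha⟩ := hs
        exact ⟨c * a, by rw [smul_eq_mul, map_mul, mul_assoc, ha, map_mul]⟩ }
  have hSP : ∀ P : PrimeSpectrum A, P.asIdeal ∈ minimalPrimes A →
      ∃ s ∈ S, s ∉ P.asIdeal := by
    intro P hP
    obtain ⟨c, hc⟩ := (hη P hP).2 (m P)
    obtain ⟨a₁, s₁, hs₁, hsa⟩ := residueField_exists_frac' P.asIdeal c
    have hnle : ¬ ((hfin.toFinset.erase P).inf (fun P' : PrimeSpectrum A => P'.asIdeal) ≤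
        P.asIdeal) := by
      rw [Ideal.IsPrime.inf_le' P.isPrime]
      rintro ⟨P', hP'mem, hle⟩
      rw [Finset.mem_erase, Set.Finite.mem_toFinset] at hP'mem
      have hle' : P.asIdeal ≤ P'.asIdeal := hP.2 ⟨P'.isPrime, bot_le⟩ hle
      exact hP'mem.1 (PrimeSpectrum.ext (le_antisymm hle hle'))
    obtain ⟨e, he, heP⟩ := SetLike.not_le_iff_exists.mp hnle
    rw [Submodule.mem_finsetInf] at he
    refine ⟨e * s₁, ⟨e * a₁, ?_⟩, ?_⟩
    · have hd : η.t A (e * s₁) * m - η.t A (e * a₁) = 0 := by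
        apply eq_zero_of_minimal η _ (Subring.sub_mem _
          (Subring.mul_mem _ (η.t_mem_M A _) hm) (η.t_mem_M A _))
        intro P' hP'
        rw [Pi.sub_apply, Pi.mul_apply, t_apply, t_apply]
        by_cases hPP : P' = P
        · subst hPP
          have h0 : algebraMap A _ (e * s₁) * c - algebraMap A _ (e * a₁) = 0 := by
            rw [map_mul, map_mul, mul_assoc, hsa, sub_self]
          rw [← hc, ← map_mul, ← map_sub, h0, map_zero]
        · have heP' : e ∈ P'.asIdeal := he P' (by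
            rw [Finset.mem_erase, Set.Finite.mem_toFinset]; exact ⟨hPP, hP'⟩)
          have h0 : algebraMap A P'.asIdeal.ResidueField e = 0 :=
            Ideal.algebraMap_residueField_eq_zero.mpr heP'
          have h1 : algebraMap A P'.asIdeal.ResidueField (e * s₁) = 0 := by
            rw [map_mul, h0, zero_mul]
          have h2 : algebraMap A P'.asIdeal.ResidueField (e * a₁) = 0 := by
            rw [map_mul, h0, zero_mul]
          rw [h1, h2, map_zero, zero_mul, sub_zero]
      exact sub_eq_zero.mp hd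
    · exact fun h => (P.isPrime.mem_or_mem h).elim heP hs₁
  -- prime avoidance
  obtain ⟨s, hsS, hsP⟩ : ∃ s ∈ S, ∀ P : PrimeSpectrum A,
      P.asIdeal ∈ minimalPrimes A → s ∉ P.asIdeal := by
    by_contra hcon
    push_neg at hcon
    have hsub : (S : Set A) ⊆
        ⋃ P ∈ (hfin.toFinset : Set (PrimeSpectrum A)), (P.asIdeal : Set A) := by
      intro s hs
      obtain ⟨P, hP, hsP⟩ := hcon s hs
      refine Set.mem_biUnion (x := P) ?_ hsP
      rw [Finset.mem_coe, Set.Finite.mem_toFinset]
      exact hP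
    obtain ⟨P, hPmem, hle⟩ := (Ideal.subset_union_prime (s := hfin.toFinset)
      (f := fun P : PrimeSpectrum A => P.asIdeal) P₀ P₀ (fun P _ _ _ => P.isPrime)).mp hsub
    rw [Set.Finite.mem_toFinset] at hPmem
    obtain ⟨s, hs, hsn⟩ := hSP P hPmem
    exact hsn (hle hs)
  obtain ⟨a, hsa⟩ := hsS
  obtain ⟨Pm, hmonic, hPm⟩ := q_isIntegral η A hA ⟨m, hm⟩
  have hroot : Polynomial.eval a (Polynomial.scaleRoots Pm s) = 0 := by
    apply hqinj
    rw [map_zero, ← Polynomial.eval₂_at_apply]
    have hqa : η.q A a = η.q A s * ⟨m, hm⟩ := Subtype.ext hsa.symm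
    rw [hqa, Polynomial.scaleRoots_eval₂_mul, hPm, mul_zero]
  have hdiv : a ∈ Ideal.span {s} := by
    apply Ideal.mem_of_localization_maximal
    intro 𝔭 h𝔭
    haveI := h𝔭.isPrime
    obtain ⟨hdom, hic⟩ := hn 𝔭
    haveI := hdom
    haveI := hic
    have hker : (⊥ : Ideal (Localization.AtPrime 𝔭)).comap
        (algebraMap A (Localization.AtPrime 𝔭)) ∈ minimalPrimes A := by
      have h1 := IsLocalization.minimalPrimes_map 𝔭.primeCompl (Localization.AtPrime 𝔭)
        (⊥ : Ideal A)
      rw [Ideal.map_bot] at h1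
      have h2 : (⊥ : Ideal (Localization.AtPrime 𝔭)) ∈
          (⊥ : Ideal (Localization.AtPrime 𝔭)).minimalPrimes := by
        have h3 : (⊥ : Ideal (Localization.AtPrime 𝔭)).minimalPrimes =
            minimalPrimes (Localization.AtPrime 𝔭) := rfl
        rw [h3, IsDomain.minimalPrimes_eq_singleton_bot]; rfl
      rw [h1] at h2
      exact h2
    have hs0 : algebraMap A (Localization.AtPrime 𝔭) s ≠ 0 := by
      intro h0
      exact hsP ⟨_, hker.1.1⟩ hker (by
        change algebraMap A (Localization.AtPrime 𝔭) s ∈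
          (⊥ : Ideal (Localization.AtPrime 𝔭))
        rw [h0]; exact zero_mem _)
    obtain ⟨χ, hχ⟩ : ∃ χ : A →+* FractionRing (Localization.AtPrime 𝔭),
        ∀ x, χ x = algebraMap (Localization.AtPrime 𝔭) _ (algebraMap A _ x) :=
      ⟨(algebraMap (Localization.AtPrime 𝔭) (FractionRing (Localization.AtPrime 𝔭))).comp
        (algebraMap A (Localization.AtPrime 𝔭)), fun _ => rfl⟩
    have hχs : χ s ≠ 0 := by
      rw [hχ, Ne, map_eq_zero_iff _ (IsFractionRing.injective (Localization.AtPrime 𝔭)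
        (FractionRing (Localization.AtPrime 𝔭)))]
      exact hs0
    have hmul : χ s * (χ a / χ s) = χ a := by field_simp
    have hz : Polynomial.eval₂ χ (χ a / χ s) Pm = 0 := by
      have h1 : Polynomial.eval₂ χ (χ s * (χ a / χ s)) (Polynomial.scaleRoots Pm s) = 0 := by
        rw [hmul, Polynomial.eval₂_at_apply, hroot, map_zero]
      rw [Polynomial.scaleRoots_eval₂_mul] at h1
      exact (mul_eq_zero.mp h1).resolve_left (pow_ne_zero _ hχs)
    have hχcomp : χ = (algebraMap (Localization.AtPrime 𝔭)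
        (FractionRing (Localization.AtPrime 𝔭))).comp
        (algebraMap A (Localization.AtPrime 𝔭)) := RingHom.ext fun x => hχ x
    have hint : IsIntegral (Localization.AtPrime 𝔭) (χ a / χ s) :=
      ⟨Pm.map (algebraMap A (Localization.AtPrime 𝔭)), hmonic.map _, by
        rw [Polynomial.eval₂_map, ← hχcomp]; exact hz⟩
    obtain ⟨z, hz'⟩ := (IsIntegrallyClosed.isIntegral_iff (R := Localization.AtPrime 𝔭)
      (K := FractionRing (Localization.AtPrime 𝔭))).mp hint
    have h5 : algebraMap A (Localization.AtPrime 𝔭) s * z =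
        algebraMap A (Localization.AtPrime 𝔭) a := by
      apply IsFractionRing.injective (Localization.AtPrime 𝔭)
        (FractionRing (Localization.AtPrime 𝔭))
      rw [map_mul, hz', ← hχ, ← hχ]
      exact hmul
    rw [Ideal.map_span, Set.image_singleton, ← h5]
    exact Ideal.mul_mem_right _ _ (Ideal.subset_span rfl)
  obtain ⟨a₀, ha₀⟩ := Ideal.mem_span_singleton'.mp hdiv
  refine ⟨a₀, Subtype.ext ?_⟩
  change η.t A a₀ = m
  have hd : m - η.t A a₀ = 0 := by
    apply eq_zero_of_minimal η _ (Subring.sub_mem _ hm (η.t_mem_M A _))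
    intro P hP
    have h1 := congrFun hsa P
    rw [Pi.mul_apply, ← ha₀, map_mul, Pi.mul_apply] at h1
    have hne : η.t A s P ≠ 0 := by
      rw [t_apply, Ne, map_eq_zero, Ideal.algebraMap_residueField_eq_zero]; exact hsP P hP
    rw [Pi.sub_apply, sub_eq_zero]
    apply mul_left_cancel₀ hne
    rw [h1, mul_comm]
  exact (sub_eq_zero.mp hd).symm

end Groth.Agent.Lib.EtaNormalH1
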