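import Mathlib
import Groth.Agent.Lib.EtaLoc_helper1

namespace Groth.Agent.Lib.EtaProdH1

universe u
open EtaPt
open Groth.Agent.Lib.EtaDomH1 Groth.Agent.Lib.EtaLiftH1 Groth.Agent.Lib.EtaLift2H1
  Groth.Agent.Lib.EtaLift3H1 Groth.Agent.Lib.EtaIntH1 Groth.Agent.Lib.EtaSpecH1
  Groth.Agent.Lib.EtaSpec2H1 Groth.Agent.Lib.EtaRelH1 Groth.Agent.Lib.EtaLocH1

variable (η : EtaPt.FieldEndo.{u})

lemma residue_map_surjective_of_surjective {R S : Type u} [CommRing R] [CommRing S]
    (f : R →+* S) (hf : Function.Surjective f) (Q : PrimeSpectrum S) :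
    Function.Surjective (Ideal.ResidueField.map
      (PrimeSpectrum.comap f Q).asIdeal Q.asIdeal f rfl) := by
  obtain ⟨φ, hφdef⟩ : ∃ φ : (PrimeSpectrum.comap f Q).asIdeal.ResidueField →+*
      Q.asIdeal.ResidueField, φ = Ideal.ResidueField.map
      (PrimeSpectrum.comap f Q).asIdeal Q.asIdeal f rfl := ⟨_, rfl⟩
  rw [← hφdef]
  have hφa : ∀ r, φ (algebraMap R _ r) = algebraMap S Q.asIdeal.ResidueField (f r) := by
    intro r; rw [hφdef]; exact Ideal.ResidueField.map_algebraMap _ _ f rfl r
  intro y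
  obtain ⟨b, s', hs', hy⟩ := residueField_exists_frac' Q.asIdeal y
  obtain ⟨a, rfl⟩ := hf b
  obtain ⟨s, rfl⟩ := hf s'
  have hne : algebraMap S Q.asIdeal.ResidueField (f s) ≠ 0 := by
    rw [Ne, Ideal.algebraMap_residueField_eq_zero]; exact hs'
  refine ⟨algebraMap R _ a * (algebraMap R _ s)⁻¹, ?_⟩
  rw [map_mul, map_inv₀, hφa, hφa, ← hy]
  field_simp

lemma map_res_surjective_of_surjective {R S : Type u} [CommRing R] [CommRing S]
    (f : R →+* S) (hf : Function.Surjective f) (Q : PrimeSpectrum S) :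
    Function.Surjective (η.map (Ideal.ResidueField.map
      (PrimeSpectrum.comap f Q).asIdeal Q.asIdeal f rfl)) := by
  have hb : Function.Bijective (Ideal.ResidueField.map
      (PrimeSpectrum.comap f Q).asIdeal Q.asIdeal f rfl) :=
    ⟨RingHom.injective _, residue_map_surjective_of_surjective f hf Q⟩
  exact (map_bijective_of_equiv η (RingEquiv.ofBijective _ hb)).2

lemma exists_comap_fst_or_snd {A B : Type u} [CommRing A] [CommRing B]
    (𝔓 : PrimeSpectrum (A × B)) :
    (∃ P, PrimeSpectrum.comap (RingHom.fst A B) P = 𝔓) ∨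
      (∃ Q, PrimeSpectrum.comap (RingHom.snd A B) Q = 𝔓) := by
  rcases (Ideal.ideal_prod_prime 𝔓.asIdeal).mp 𝔓.isPrime with ⟨p, hp, h⟩ | ⟨p, hp, h⟩
  · left
    refine ⟨⟨p, hp⟩, PrimeSpectrum.ext ?_⟩
    rw [h]
    ext ⟨a, b⟩
    change a ∈ p ↔ (a ∈ p ∧ b ∈ (⊤ : Ideal B))
    simp
  · right
    refine ⟨⟨p, hp⟩, PrimeSpectrum.ext ?_⟩
    rw [h]
    ext ⟨a, b⟩
    change b ∈ p ↔ (a ∈ (⊤ : Ideal A) ∧ b ∈ p)
    simp

theorem main13810 (A B : Type u) [CommRing A] [CommRing B] :
    Set.BijOn (fun x : η.N (A × B) =>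
        (η.Nmap (RingHom.fst A B) x, η.Nmap (RingHom.snd A B) x))
      (η.M (A × B)) ((η.M A : Set (η.N A)) ×ˢ (η.M B : Set (η.N B))) := by
  have hfs : Function.Surjective (RingHom.fst A B) := fun a => ⟨(a, 0), rfl⟩
  have hss : Function.Surjective (RingHom.snd A B) := fun b => ⟨(0, b), rfl⟩
  refine ⟨?_, ?_, ?_⟩
  · intro x hx
    exact ⟨mapsTo_Nmap η _ x hx, mapsTo_Nmap η _ x hx⟩
  · intro x _ x' _ hxx
    have h1 : η.Nmap (RingHom.fst A B) x = η.Nmap (RingHom.fst A B) x' := congrArg Prod.fst hxx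
    have h2 : η.Nmap (RingHom.snd A B) x = η.Nmap (RingHom.snd A B) x' := congrArg Prod.snd hxx
    funext 𝔓
    have tr : ∀ P P' : PrimeSpectrum (A × B), P = P' → x P = x' P → x P' = x' P' := by
      rintro _ _ rfl h; exact h
    rcases exists_comap_fst_or_snd 𝔓 with ⟨P, hP⟩ | ⟨Q, hQ⟩
    · have h3 := congrFun h1 P
      rw [Nmap_apply, Nmap_apply] at h3
      exact tr _ _ hP ((η.map _).injective h3)
    · have h3 := congrFun h2 Q
      rw [Nmap_apply, Nmap_apply] at h3
      exact tr _ _ hQ ((η.map _).injective h3)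
  · rintro ⟨a, b⟩ ⟨ha, hb⟩
    have hex : ∀ 𝔓 : PrimeSpectrum (A × B), ∃ z : η.obj 𝔓.asIdeal.ResidueField,
        (∀ P : PrimeSpectrum A, ∀ (h : 𝔓.asIdeal = Ideal.comap (RingHom.fst A B) P.asIdeal),
          η.map (Ideal.ResidueField.map 𝔓.asIdeal P.asIdeal (RingHom.fst A B) h) z = a P) ∧
        (∀ Q : PrimeSpectrum B, ∀ (h : 𝔓.asIdeal = Ideal.comap (RingHom.snd A B) Q.asIdeal),
          η.map (Ideal.ResidueField.map 𝔓.asIdeal Q.asIdeal (RingHom.snd A B) h) z = b Q) := by
      intro 𝔓
      rcases exists_comap_fst_or_snd 𝔓 with ⟨P₀, hP₀⟩ | ⟨Q₀, hQ₀⟩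
      · subst hP₀
        obtain ⟨z, hz⟩ := map_res_surjective_of_surjective η (RingHom.fst A B) hfs P₀ (a P₀)
        refine ⟨z, ?_, ?_⟩
        · intro P h
          have hPP : P = P₀ :=
            PrimeSpectrum.comap_injective_of_surjective _ hfs (PrimeSpectrum.ext h.symm)
          subst hPP
          exact hz
        · intro Q h
          exfalso
          have h01 : ((0, 1) : A × B) ∈ (PrimeSpectrum.comap (RingHom.fst A B) P₀).asIdeal := by
            change (0 : A) ∈ P₀.asIdeal; exact zero_mem _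
          rw [h] at h01
          have h1 : (1 : B) ∈ Q.asIdeal := h01
          exact Q.isPrime.ne_top ((Ideal.eq_top_iff_one _).mpr h1)
      · subst hQ₀
        obtain ⟨z, hz⟩ := map_res_surjective_of_surjective η (RingHom.snd A B) hss Q₀ (b Q₀)
        refine ⟨z, ?_, ?_⟩
        · intro P h
          exfalso
          have h10 : ((1, 0) : A × B) ∈ (PrimeSpectrum.comap (RingHom.snd A B) Q₀).asIdeal := by
            change (0 : B) ∈ Q₀.asIdeal; exact zero_mem _
          rw [h] at h10
          have h1 : (1 : A) ∈ P.asIdeal := h10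
          exact P.isPrime.ne_top ((Ideal.eq_top_iff_one _).mpr h1)
        · intro Q h
          have hQQ : Q = Q₀ :=
            PrimeSpectrum.comap_injective_of_surjective _ hss (PrimeSpectrum.ext h.symm)
          subst hQQ
          exact hz
    choose x hx using hex
    have hxa : η.Nmap (RingHom.fst A B) x = a :=
      funext fun P => by rw [Nmap_apply]; exact (hx _).1 P rfl
    have hxb : η.Nmap (RingHom.snd A B) x = b :=
      funext fun Q => by rw [Nmap_apply]; exact (hx _).2 Q rfl
    refine ⟨x, ?_, Prod.ext hxa hxb⟩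
    change x ∈ η.M (A × B)
    rw [mem_M_iff]
    intro R _ _ _ hR g
    have hprod : g (1, 0) * g (0, 1) = 0 := by
      rw [← map_mul, Prod.mk_mul_mk, one_mul, mul_one]; exact map_zero g
    rcases mul_eq_zero.mp hprod with h10 | h01
    · -- factors through snd
      have hg : ∀ a' b', g (a', b') = g (0, b') := by
        intro a' b'
        have : ((a', b') : A × B) = (0, b') + (1, 0) * (a', 0) := by
          rw [Prod.mk_mul_mk, Prod.mk_add_mk, one_mul, zero_mul, zero_add, add_zero]
        rw [this, map_add, map_mul, h10, zero_mul, add_zero]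
      let g₁ : B →+* R :=
        { toFun := fun b' => g (0, b')
          map_one' := (hg 1 1).symm.trans (map_one g)
          map_mul' := fun b' b'' => by rw [← map_mul, Prod.mk_mul_mk, mul_zero]
          map_zero' := map_zero g
          map_add' := fun b' b'' => by rw [← map_add, Prod.mk_add_mk, add_zero] }
      have hcomp : g = g₁.comp (RingHom.snd A B) := RingHom.ext fun ⟨a', b'⟩ => hg a' b'
      rw [hcomp, Nmap_comp, hxb]
      exact (mem_M_iff η b).mp hb R hR g₁
    · have hg : ∀ a' b', g (a', b') = g (a', 0) := by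
        intro a' b'
        have : ((a', b') : A × B) = (a', 0) + (0, 1) * (0, b') := by
          rw [Prod.mk_mul_mk, Prod.mk_add_mk, one_mul, zero_mul, zero_add, add_zero]
        rw [this, map_add, map_mul, h01, zero_mul, add_zero]
      let g₁ : A →+* R :=
        { toFun := fun a' => g (a', 0)
          map_one' := (hg 1 1).symm.trans (map_one g)
          map_mul' := fun a' a'' => by rw [← map_mul, Prod.mk_mul_mk, mul_zero]
          map_zero' := map_zero g
          map_add' := fun a' a'' => by rw [← map_add, Prod.mk_add_mk, add_zero] }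
      have hcomp : g = g₁.comp (RingHom.fst A B) := RingHom.ext fun ⟨a', b'⟩ => hg a' b'
      rw [hcomp, Nmap_comp, hxa]
      exact (mem_M_iff η a).mp ha R hR g₁

end Groth.Agent.Lib.EtaProdH1
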