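import Mathlib
import Groth.Agent.Lib.EtaRel3_helper1
import Groth.Agent.Lib.UnivHomeo12_helper6
import Groth.Prelude.Def_HTop2

namespace Groth.Agent.Lib.EtaSNH1

universe u
open EtaPt AlgebraicGeometry CategoryTheory
open Groth.Agent.Lib.EtaDomH1 Groth.Agent.Lib.EtaLiftH1 Groth.Agent.Lib.EtaLift2H1
  Groth.Agent.Lib.EtaLift3H1 Groth.Agent.Lib.EtaIntH1 Groth.Agent.Lib.EtaSpecH1
  Groth.Agent.Lib.EtaSpec2H1 Groth.Agent.Lib.EtaRelH1 Groth.Agent.Lib.EtaRel2H1
  Groth.Agent.Lib.EtaRel3H1 Groth.Agent.Lib.UnivHomeo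

/-- flexible form of residue surjectivity -/
lemma residue_surj_flex {R S : Type u} [CommRing R] [CommRing S] (φ : R →+* S)
    (hres : ∀ Q : PrimeSpectrum S, Function.Surjective
      (Ideal.ResidueField.map (PrimeSpectrum.comap φ Q).asIdeal Q.asIdeal φ rfl))
    (P : Ideal R) [P.IsPrime] (Q : Ideal S) [hQ : Q.IsPrime] (h : P = Q.comap φ) :
    Function.Surjective (Ideal.ResidueField.map P Q φ h) := by
  subst h
  exact hres ⟨Q, hQ⟩

/-- Uniqueness of field-valued points from injectivity on spectra and residue surjectivity. -/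
theorem PU_of {R S : Type u} [CommRing R] [CommRing S] (φ : R →+* S)
    (hinj : Function.Injective (PrimeSpectrum.comap φ))
    (hres : ∀ Q : PrimeSpectrum S, Function.Surjective
      (Ideal.ResidueField.map (PrimeSpectrum.comap φ Q).asIdeal Q.asIdeal φ rfl))
    (K : Type u) [Field K] (ψ₁ ψ₂ : S →+* K) (h : ψ₁.comp φ = ψ₂.comp φ) : ψ₁ = ψ₂ := by
  have hk1 : (RingHom.ker ψ₁).IsPrime := RingHom.ker_isPrime ψ₁
  have hk2 : (RingHom.ker ψ₂).IsPrime := RingHom.ker_isPrime ψ₂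
  have hφ : ∀ r, ψ₁ (φ r) = ψ₂ (φ r) := fun r => RingHom.congr_fun h r
  have hQ : (⟨RingHom.ker ψ₁, hk1⟩ : PrimeSpectrum S) = ⟨RingHom.ker ψ₂, hk2⟩ := by
    apply hinj
    apply PrimeSpectrum.ext
    ext r
    change ψ₁ (φ r) = 0 ↔ ψ₂ (φ r) = 0
    rw [hφ r]
  have hker : RingHom.ker ψ₁ = RingHom.ker ψ₂ := congrArg PrimeSpectrum.asIdeal hQ
  ext m
  obtain ⟨x, hx⟩ := hres ⟨RingHom.ker ψ₁, hk1⟩ (algebraMap S (RingHom.ker ψ₁).ResidueField m)
  obtain ⟨a, s, hs, hsa⟩ := residueField_exists_frac _ x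
  have h1 := congrArg (Ideal.ResidueField.map
    (PrimeSpectrum.comap φ ⟨RingHom.ker ψ₁, hk1⟩).asIdeal (RingHom.ker ψ₁) φ rfl) hsa
  have e1 := Ideal.ResidueField.map_algebraMap
    (PrimeSpectrum.comap φ ⟨RingHom.ker ψ₁, hk1⟩).asIdeal (RingHom.ker ψ₁) φ rfl s
  have e2 := Ideal.ResidueField.map_algebraMap
    (PrimeSpectrum.comap φ ⟨RingHom.ker ψ₁, hk1⟩).asIdeal (RingHom.ker ψ₁) φ rfl a
  rw [map_mul, hx, e1, e2, ← map_mul, ← sub_eq_zero, ← map_sub,
    Ideal.algebraMap_residueField_eq_zero] at h1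
  have h2 : φ s * m - φ a ∈ RingHom.ker ψ₂ := by rw [← hker]; exact h1
  rw [RingHom.mem_ker, map_sub, map_mul, sub_eq_zero] at h1 h2
  have hne : ψ₁ (φ s) ≠ 0 := fun h0 => hs (show φ s ∈ RingHom.ker ψ₁ from h0)
  rw [← hφ s, ← hφ a, ← h1] at h2
  exact (mul_left_cancel₀ hne h2).symm

/-- Existence of field-valued points from surjectivity on spectra and residue surjectivity. -/
theorem PE_of {R S : Type u} [CommRing R] [CommRing S] (φ : R →+* S)
    (hsurj : Function.Surjective (PrimeSpectrum.comap φ))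
    (hres : ∀ Q : PrimeSpectrum S, Function.Surjective
      (Ideal.ResidueField.map (PrimeSpectrum.comap φ Q).asIdeal Q.asIdeal φ rfl))
    (K : Type u) [Field K] (χ : R →+* K) : ∃ ψ : S →+* K, ψ.comp φ = χ := by
  haveI hk : (RingHom.ker χ).IsPrime := RingHom.ker_isPrime χ
  obtain ⟨Q, hQ⟩ := hsurj ⟨RingHom.ker χ, hk⟩
  have hP : RingHom.ker χ = Q.asIdeal.comap φ := (congrArg PrimeSpectrum.asIdeal hQ).symm
  have hsur := residue_surj_flex φ hres (RingHom.ker χ) Q.asIdeal hP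
  have hbij : Function.Bijective (Ideal.ResidueField.map (RingHom.ker χ) Q.asIdeal φ hP) :=
    ⟨(Ideal.ResidueField.map (RingHom.ker χ) Q.asIdeal φ hP).injective, hsur⟩
  obtain ⟨e, he⟩ : ∃ e : (RingHom.ker χ).ResidueField ≃+* Q.asIdeal.ResidueField,
      ∀ x, e x = Ideal.ResidueField.map (RingHom.ker χ) Q.asIdeal φ hP x :=
    ⟨RingEquiv.ofBijective _ hbij, fun _ => rfl⟩
  obtain ⟨l, hl⟩ : ∃ l : (RingHom.ker χ).ResidueField →+* K,
      ∀ r, l (algebraMap R _ r) = χ r :=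
    ⟨Ideal.ResidueField.lift (RingHom.ker χ) χ le_rfl (by
        intro b' hb'
        change IsUnit (χ b')
        rw [isUnit_iff_ne_zero]
        intro h0
        exact hb' (RingHom.mem_ker.mpr h0)),
      fun r => Ideal.ResidueField.lift_algebraMap _ _ _ _ r⟩
  refine ⟨(l.comp (e.symm : Q.asIdeal.ResidueField →+* (RingHom.ker χ).ResidueField)).comp
    (algebraMap S Q.asIdeal.ResidueField), ?_⟩
  ext r
  change l (e.symm (algebraMap S _ (φ r))) = χ r
  rw [← Ideal.ResidueField.map_algebraMap (RingHom.ker χ) Q.asIdeal φ hP r, ← he,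
    e.symm_apply_apply, hl]

/-- Ring-level criterion: integral, bijective on spectra, surjective on residue fields implies
universal homeomorphism inducing isomorphisms on residue fields. -/
theorem isUnivHomeo_res_of {R S : Type u} [CommRing R] [CommRing S] (φ : R →+* S)
    (hint : φ.IsIntegral) (hbij : Function.Bijective (PrimeSpectrum.comap φ))
    (hres : ∀ Q : PrimeSpectrum S, Function.Surjective
      (Ideal.ResidueField.map (PrimeSpectrum.comap φ Q).asIdeal Q.asIdeal φ rfl)) :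
    FlatMor.IsUnivHomeo (Spec.map (CommRingCat.ofHom φ)) ∧
      HTop.ResidueFieldsIso (Spec.map (CommRingCat.ofHom φ)) := by
  have hPU := PU_of φ hbij.1 hres
  have hPE := PE_of φ hbij.2 hres
  refine ⟨isUnivHomeo_SpecMap_of (CommRingCat.ofHom φ) hint hPU
    (fun K _ χ => ⟨K, inferInstance, RingHom.id K, ?_⟩), ?_⟩
  · obtain ⟨ψ, hψ⟩ := hPE K χ
    exact ⟨ψ, hψ.trans (RingHom.id_comp χ).symm⟩
  · intro y
    exact (ConcreteCategory.isIso_iff_bijective _).mpr
      ⟨((Spec.map (CommRingCat.ofHom φ)).residueFieldMap y).hom.injective,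
        residueFieldMap_surjective_SpecMap_of (CommRingCat.ofHom φ) hPU hPE y⟩

/-- Converse direction: a universal homeomorphism with residue isomorphisms is integral and
induces a bijection on `N`. -/
theorem facts_of_univHomeo_res (η : EtaPt.FieldEndo.{u}) {A C : Type u} [CommRing A] [CommRing C]
    (ψ : A →+* C)
    (hU : FlatMor.IsUnivHomeo (Spec.map (CommRingCat.ofHom ψ)))
    (hres : HTop.ResidueFieldsIso (Spec.map (CommRingCat.ofHom ψ))) :
    ψ.IsIntegral ∧ Function.Bijective (PrimeSpectrum.comap ψ) ∧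
      (∀ Q : PrimeSpectrum C, Function.Surjective
        (Ideal.ResidueField.map (PrimeSpectrum.comap ψ Q).asIdeal Q.asIdeal ψ rfl)) := by
  letI : Algebra A C := ψ.toAlgebra
  have hU' : FlatMor.IsUnivHomeo (Spec.map (CommRingCat.ofHom (algebraMap A C))) := hU
  obtain ⟨hint, hPU, hPE⟩ := (isUnivHomeo_res_iff_alg A C).mp
    ⟨hU', fun x => ((ConcreteCategory.isIso_iff_bijective _).mp (hres x)).2⟩
  obtain ⟨-, hinj, -⟩ := facts_of_isUnivHomeo hU'
  have hinj' : Function.Injective (PrimeSpectrum.comap ψ) := hinj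
  have hPE' : ∀ (K : Type u) [Field K] (χ : A →+* K), ∃ ψ' : C →+* K, ψ'.comp ψ = χ := hPE
  refine ⟨hint.isIntegral, ⟨hinj', ?_⟩, ?_⟩
  · intro P
    obtain ⟨ψ', hψ'⟩ := hPE' P.asIdeal.ResidueField (algebraMap A P.asIdeal.ResidueField)
    refine ⟨⟨RingHom.ker ψ', RingHom.ker_isPrime ψ'⟩, ?_⟩
    apply PrimeSpectrum.ext
    ext a
    change ψ' (ψ a) = 0 ↔ a ∈ P.asIdeal
    have : ψ' (ψ a) = algebraMap A P.asIdeal.ResidueField a := RingHom.congr_fun hψ' a
    rw [this, Ideal.algebraMap_residueField_eq_zero]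
  · intro Q
    obtain ⟨ψ', hψ'⟩ := hPE' (PrimeSpectrum.comap ψ Q).asIdeal.ResidueField
      (algebraMap A (PrimeSpectrum.comap ψ Q).asIdeal.ResidueField)
    have hψa : ∀ a, ψ' (ψ a) = algebraMap A (PrimeSpectrum.comap ψ Q).asIdeal.ResidueField a :=
      fun a => RingHom.congr_fun hψ' a
    have hQ' : (⟨RingHom.ker ψ', RingHom.ker_isPrime ψ'⟩ : PrimeSpectrum C) = Q := by
      apply hinj'
      apply PrimeSpectrum.ext
      ext a
      change ψ' (ψ a) = 0 ↔ a ∈ (PrimeSpectrum.comap ψ Q).asIdeal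
      rw [hψa, Ideal.algebraMap_residueField_eq_zero]
    have hker : RingHom.ker ψ' = Q.asIdeal := congrArg PrimeSpectrum.asIdeal hQ'
    obtain ⟨l, hl⟩ : ∃ l : Q.asIdeal.ResidueField →+*
        (PrimeSpectrum.comap ψ Q).asIdeal.ResidueField,
        ∀ c, l (algebraMap C _ c) = ψ' c :=
      ⟨Ideal.ResidueField.lift Q.asIdeal ψ' (le_of_eq hker.symm) (by
        intro b' hb'
        change IsUnit (ψ' b')
        rw [isUnit_iff_ne_zero]
        intro h0
        exact hb' (by rw [← hker]; exact RingHom.mem_ker.mpr h0)),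
        fun c => Ideal.ResidueField.lift_algebraMap _ _ _ _ c⟩
    have hcomp : l.comp (Ideal.ResidueField.map (PrimeSpectrum.comap ψ Q).asIdeal Q.asIdeal ψ rfl)
        = RingHom.id _ := by
      apply residueField_hom_ext
      intro a
      change l (Ideal.ResidueField.map _ _ ψ rfl (algebraMap A _ a)) = algebraMap A _ a
      rw [Ideal.ResidueField.map_algebraMap _ _ ψ rfl a, hl, hψa]
    intro y
    refine ⟨l y, ?_⟩
    apply l.injective
    exact RingHom.congr_fun hcomp (l y)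

/-- `Nmap` is bijective along a universal homeomorphism with residue isomorphisms. -/
theorem Nmap_bijective_of_univHomeo_res (η : EtaPt.FieldEndo.{u}) {A C : Type u} [CommRing A]
    [CommRing C] (ψ : A →+* C)
    (hU : FlatMor.IsUnivHomeo (Spec.map (CommRingCat.ofHom ψ)))
    (hres : HTop.ResidueFieldsIso (Spec.map (CommRingCat.ofHom ψ))) :
    ψ.IsIntegral ∧ Function.Bijective (η.Nmap ψ) := by
  obtain ⟨hint, hbij, hsur⟩ := facts_of_univHomeo_res η ψ hU hres
  refine ⟨hint, Nmap_bijective_of η ψ hbij ?_⟩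
  intro Q
  have hb : Function.Bijective
      (Ideal.ResidueField.map (PrimeSpectrum.comap ψ Q).asIdeal Q.asIdeal ψ rfl) :=
    ⟨(Ideal.ResidueField.map (PrimeSpectrum.comap ψ Q).asIdeal Q.asIdeal ψ rfl).injective, hsur Q⟩
  exact (map_bijective_of_equiv η (RingEquiv.ofBijective _ hb)).2

/-- S13826: `q_A : A → M_id(A)` is a seminormalization of the ring `A`. -/
theorem main13826 (A : Type u) [CommRing A] (hA : (minimalPrimes A).Finite) :
    HTop.IsRingSN (EtaPt.FieldEndo.ident.{u}.q A) := by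
  refine ⟨isUnivHomeo_res_of _ (q_isIntegral _ A hA) (comap_q_bijective _ A hA)
    (fun Q => map_residue_q_surjective EtaPt.FieldEndo.ident.{u} A hA Q), ?_⟩
  intro C _ ψ hU hres
  obtain ⟨hint, hN⟩ := Nmap_bijective_of_univHomeo_res EtaPt.FieldEndo.ident.{u} ψ hU hres
  exact existsUnique_lift _ ψ hint hN

/-- S13830: relative seminormalization. -/
theorem main13830 (A B : Type u) [CommRing A] [CommRing B] [Algebra A B]
    (hA : (minimalPrimes A).Finite)
    (hs : Function.Surjective (PrimeSpectrum.comap (algebraMap A B))) :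
    (FlatMor.IsUnivHomeo (Spec.map (CommRingCat.ofHom
        (EtaPt.FieldEndo.ident.{u}.qRel (algebraMap A B)))) ∧
      HTop.ResidueFieldsIso (Spec.map (CommRingCat.ofHom
        (EtaPt.FieldEndo.ident.{u}.qRel (algebraMap A B))))) ∧
    ∀ C : Subalgebra A B,
      FlatMor.IsUnivHomeo (Spec.map (CommRingCat.ofHom (algebraMap A C))) →
      HTop.ResidueFieldsIso (Spec.map (CommRingCat.ofHom (algebraMap A C))) →
      C.toSubring ≤ EtaPt.FieldEndo.ident.{u}.rel (algebraMap A B) := by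
  obtain ⟨hint, hbij⟩ := main13817 EtaPt.FieldEndo.ident.{u} hA (algebraMap A B) hs
  obtain ⟨hfac, -⟩ := main13818 EtaPt.FieldEndo.ident.{u} hA (algebraMap A B) hs
  refine ⟨isUnivHomeo_res_of _ hint hbij ?_, ?_⟩
  · intro Q y
    obtain ⟨θ, hθ⟩ := hfac Q
    refine ⟨θ y, ?_⟩
    apply θ.injective
    exact RingHom.congr_fun hθ (θ y)
  · intro C hU hres b hb
    obtain ⟨hintC, hN⟩ := Nmap_bijective_of_univHomeo_res EtaPt.FieldEndo.ident.{u}
      (algebraMap A C) hU hres
    obtain ⟨x, hx⟩ := hN.2 (EtaPt.FieldEndo.ident.{u}.t C ⟨b, hb⟩)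
    have hxM : x ∈ EtaPt.FieldEndo.ident.{u}.M A := by
      apply mem_M_of_Nmap_mem _ (algebraMap A C) hintC hN
      rw [hx]
      exact EtaPt.FieldEndo.t_mem_M _ C ⟨b, hb⟩
    rw [mem_rel_iff]
    refine ⟨x, hxM, ?_⟩
    have hcomp : algebraMap A B = (C.val.toRingHom).comp (algebraMap A C) :=
      RingHom.ext fun a => rfl
    rw [hcomp, Nmap_comp, hx, EtaPt.FieldEndo.Nmap_t_apply]
    rfl

end Groth.Agent.Lib.EtaSNH1
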