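import Mathlib
import Groth.Agent.Lib.EtaSpec_helper1

namespace Groth.Agent.Lib.EtaValH1

universe u
open EtaPt
open Groth.Agent.Lib.EtaDomH1 Groth.Agent.Lib.EtaLiftH1 Groth.Agent.Lib.EtaLift2H1
  Groth.Agent.Lib.EtaLift3H1 Groth.Agent.Lib.EtaIntH1 Groth.Agent.Lib.EtaSpecH1

variable (η : EtaPt.FieldEndo.{u})

lemma exists_pow_eq_of_perfect (F : Type u) [Field F] [PerfectField F] (p : ℕ) (hp : p.Prime)
    [CharP F p] (n : ℕ) (a : F) : ∃ w : F, w ^ p ^ n = a := by
  haveI : ExpChar F p := ExpChar.prime hp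
  haveI : PerfectRing F p := PerfectField.toPerfectRing p
  exact ⟨(iterateFrobeniusEquiv F p n).symm a, by
    rw [← iterateFrobeniusEquiv_def, RingEquiv.apply_symm_apply]⟩

lemma eta_bijective_of_charZero (K : Type u) [Field K] [CharZero K] :
    Function.Bijective (η.eta K) := by
  refine ⟨(η.eta K).injective, fun y => ?_⟩
  obtain ⟨n, z, hz⟩ := η.exists_pow_mem_range_eta K y
  rw [ringExpChar.eq_one K, one_pow, pow_one] at hz
  exact ⟨z, hz⟩

section
variable (R : Type u) [CommRing R] [IsDomain R] [ValuationRing R]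

/-- pull integrality back along `η`. -/
lemma integral_of_eta_integral (z : (⊥ : Ideal R).ResidueField)
    (hz : ((η.eta (⊥ : Ideal R).ResidueField).comp
      (algebraMap R (⊥ : Ideal R).ResidueField)).IsIntegralElem (η.eta _ z)) :
    ∃ r : R, algebraMap R (⊥ : Ideal R).ResidueField r = z := by
  obtain ⟨P, hPm, hP⟩ := hz
  have h1 : η.eta (⊥ : Ideal R).ResidueField
      (Polynomial.eval₂ (algebraMap R (⊥ : Ideal R).ResidueField) z P) = 0 := by
    rw [Polynomial.hom_eval₂]; exact hP
  have h2 : Polynomial.eval₂ (algebraMap R (⊥ : Ideal R).ResidueField) z P = 0 :=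
    (map_eq_zero _).mp h1
  have h3 : IsIntegral R z := ⟨P, hPm, h2⟩
  exact IsIntegrallyClosed.isIntegral_iff.mp h3

theorem exists_lift_of_bijective
    (hK : Function.Bijective (η.eta (⊥ : Ideal R).ResidueField))
    (y : η.obj (⊥ : Ideal R).ResidueField)
    (hy : ((η.eta (⊥ : Ideal R).ResidueField).comp
      (algebraMap R (⊥ : Ideal R).ResidueField)).IsIntegralElem y) :
    ∃ x ∈ η.M R, x ⟨⊥, Ideal.isPrime_bot⟩ = y := by
  obtain ⟨z, rfl⟩ := hK.2 y
  obtain ⟨r, rfl⟩ := integral_of_eta_integral η R z hy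
  exact ⟨η.t R r, η.t_mem_M R r, rfl⟩

set_option maxHeartbeats 1600000 in
theorem exists_lift_of_charP (p : ℕ) (hp : p.Prime) [CharP R p]
    (hperf : ∀ (k : Type u) [Field k], ringChar k = ringChar R →
      Function.Bijective (η.eta k) → PerfectField k)
    (y : η.obj (⊥ : Ideal R).ResidueField)
    (hy : ((η.eta (⊥ : Ideal R).ResidueField).comp
      (algebraMap R (⊥ : Ideal R).ResidueField)).IsIntegralElem y) :
    ∃ x ∈ η.M R, x ⟨⊥, Ideal.isPrime_bot⟩ = y := by
  have hRchar : ringChar R = p := ringChar.eq R p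
  haveI : CharP (⊥ : Ideal R).ResidueField p :=
    CharP.of_ringHom_of_ne_zero (algebraMap R (⊥ : Ideal R).ResidueField) p hp.ne_zero
  haveI : ExpChar (⊥ : Ideal R).ResidueField p := ExpChar.prime hp
  obtain ⟨n, z, hz⟩ := η.exists_pow_mem_range_eta (⊥ : Ideal R).ResidueField y
  rw [ringExpChar.eq (⊥ : Ideal R).ResidueField p] at hz
  have hzint : ((η.eta (⊥ : Ideal R).ResidueField).comp
      (algebraMap R (⊥ : Ideal R).ResidueField)).IsIntegralElem (η.eta _ z) := by
    rw [hz]
    letI : Algebra R (η.obj (⊥ : Ideal R).ResidueField) :=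
      ((η.eta (⊥ : Ideal R).ResidueField).comp
        (algebraMap R (⊥ : Ideal R).ResidueField)).toAlgebra
    have hy' : IsIntegral R y := hy
    exact hy'.pow _
  obtain ⟨r, hr⟩ := integral_of_eta_integral η R z hzint
  -- y ^ p ^ n = η (alg r)
  have hyr : y ^ p ^ n = η.eta _ (algebraMap R (⊥ : Ideal R).ResidueField r) := by
    rw [hr, hz]
  -- roots
  have hroot : ∀ P : PrimeSpectrum R, ∃ w : η.obj P.asIdeal.ResidueField,
      w ^ p ^ n = η.eta _ (algebraMap R P.asIdeal.ResidueField r) := by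
    intro P
    haveI : CharP (η.obj P.asIdeal.ResidueField) p :=
      CharP.of_ringHom_of_ne_zero
        ((η.eta P.asIdeal.ResidueField).comp (algebraMap R P.asIdeal.ResidueField)) p hp.ne_zero
    haveI : PerfectField (η.obj P.asIdeal.ResidueField) :=
      hperf _ (by rw [hRchar]; exact ringChar.eq _ p) (eta_obj_bijective η _)
    exact exists_pow_eq_of_perfect _ p hp n _
  choose x hx using hroot
  refine ⟨x, ?_, ?_⟩
  · rw [mem_M_iff]
    intro R₁ _ _ _ hR₁ g
    have hK₁ : Function.Bijective (η.eta (FractionRing R₁)) := hR₁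
    haveI : CharP (FractionRing R₁) p :=
      CharP.of_ringHom_of_ne_zero ((algebraMap R₁ (FractionRing R₁)).comp g) p hp.ne_zero
    haveI : PerfectField (FractionRing R₁) :=
      hperf _ (by rw [hRchar]; exact ringChar.eq _ p) hK₁
    obtain ⟨w₁, hw₁⟩ := exists_pow_eq_of_perfect (FractionRing R₁) p hp n
      (algebraMap R₁ (FractionRing R₁) (g r))
    have hpos : 0 < p ^ n := pow_pos hp.pos n
    obtain ⟨r₁, hr₁⟩ := IsIntegrallyClosed.exists_algebraMap_eq_of_isIntegral_pow (R := R₁) hpos
      (x := w₁) (by rw [hw₁]; exact isIntegral_algebraMap)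
    have hr₁' : r₁ ^ p ^ n = g r := by
      apply IsFractionRing.injective R₁ (FractionRing R₁)
      rw [map_pow, hr₁, hw₁]
    refine ⟨r₁, ?_⟩
    funext Q
    rw [t_apply, Nmap_apply]
    haveI : CharP (η.obj Q.asIdeal.ResidueField) p :=
      CharP.of_ringHom_of_ne_zero
        (((η.eta Q.asIdeal.ResidueField).comp (algebraMap R₁ Q.asIdeal.ResidueField)).comp g)
        p hp.ne_zero
    haveI : ExpChar (η.obj Q.asIdeal.ResidueField) p := ExpChar.prime hp
    apply iterateFrobenius_inj (η.obj Q.asIdeal.ResidueField) p n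
    rw [iterateFrobenius_def, iterateFrobenius_def]
    have hnat := RingHom.congr_fun (η.eta_natural
      (Ideal.ResidueField.map (PrimeSpectrum.comap g Q).asIdeal Q.asIdeal g rfl))
      (algebraMap R _ r)
    simp only [RingHom.comp_apply] at hnat
    have hL : (η.eta _ (algebraMap R₁ Q.asIdeal.ResidueField r₁)) ^ p ^ n =
        η.eta _ (algebraMap R₁ Q.asIdeal.ResidueField (g r)) := by
      rw [← map_pow, ← map_pow, hr₁']
    have hRr : (η.map (Ideal.ResidueField.map (PrimeSpectrum.comap g Q).asIdeal Q.asIdeal g rfl)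
        (x (PrimeSpectrum.comap g Q))) ^ p ^ n =
        η.eta _ (algebraMap R₁ Q.asIdeal.ResidueField (g r)) := by
      rw [← map_pow, hx, hnat,
        Ideal.ResidueField.map_algebraMap (PrimeSpectrum.comap g Q).asIdeal Q.asIdeal g rfl r]
    rw [hL, hRr]
  · haveI : CharP (η.obj (⊥ : Ideal R).ResidueField) p :=
      CharP.of_ringHom_of_ne_zero
        ((η.eta (⊥ : Ideal R).ResidueField).comp (algebraMap R (⊥ : Ideal R).ResidueField))
        p hp.ne_zero
    haveI : ExpChar (η.obj (⊥ : Ideal R).ResidueField) p := ExpChar.prime hp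
    apply iterateFrobenius_inj (η.obj (⊥ : Ideal R).ResidueField) p n
    rw [iterateFrobenius_def, iterateFrobenius_def, hyr]
    exact hx ⟨⊥, Ideal.isPrime_bot⟩

theorem exists_lift
    (hη : η.InV R ∨ ∀ (k : Type u) [Field k], ringChar k = ringChar R →
      Function.Bijective (η.eta k) → PerfectField k)
    (y : η.obj (⊥ : Ideal R).ResidueField)
    (hy : ((η.eta (⊥ : Ideal R).ResidueField).comp
      (algebraMap R (⊥ : Ideal R).ResidueField)).IsIntegralElem y) :
    ∃ x ∈ η.M R, x ⟨⊥, Ideal.isPrime_bot⟩ = y := by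
  rcases hη with hInV | hperf
  · have hAK : Function.Bijective (η.eta (FractionRing R)) := hInV
    have hK : Function.Bijective (η.eta (⊥ : Ideal R).ResidueField) :=
      eta_bijective_of_equiv η
        (FractionRing.algEquiv R (⊥ : Ideal R).ResidueField).toRingEquiv hAK
    exact exists_lift_of_bijective η R hK y hy
  · by_cases h0 : ringChar R = 0
    · haveI : CharZero R := (CharP.ringChar_zero_iff_CharZero R).mp h0
      haveI : CharZero (⊥ : Ideal R).ResidueField :=
        charZero_of_injective_algebraMap (IsFractionRing.injective R _)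
      exact exists_lift_of_bijective η R (eta_bijective_of_charZero η _) y hy
    · haveI : CharP R (ringChar R) := ringChar.charP R
      have hp : (ringChar R).Prime :=
        (CharP.char_is_prime_or_zero R (ringChar R)).resolve_right h0
      exact exists_lift_of_charP η R (ringChar R) hp hperf y hy

theorem generic_injOn :
    Set.InjOn (fun x : η.N R => x ⟨⊥, Ideal.isPrime_bot⟩) (η.M R) := by
  intro x hx y hy hxy
  have hxy' : x ⟨⊥, Ideal.isPrime_bot⟩ = y ⟨⊥, Ideal.isPrime_bot⟩ := hxy
  have h0 : (x - y) = 0 := by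
    funext P
    rw [Pi.zero_apply]
    apply eq_zero_of_le η (x - y) ((η.M R).sub_mem hx hy) ⟨⊥, Ideal.isPrime_bot⟩ P bot_le
    rw [Pi.sub_apply, hxy', sub_self]
  exact sub_eq_zero.mp h0

theorem main13813
    (hη : η.InV R ∨ ∀ (k : Type u) [Field k], ringChar k = ringChar R →
      Function.Bijective (η.eta k) → PerfectField k) :
    Set.InjOn (fun x : η.N R => x ⟨⊥, Ideal.isPrime_bot⟩) (η.M R) ∧
      (fun x : η.N R => x ⟨⊥, Ideal.isPrime_bot⟩) '' (η.M R : Set (η.N R)) =
        {y | ((η.eta (⊥ : Ideal R).ResidueField).comp (algebraMap R (⊥ : Ideal R).ResidueField)).IsIntegralElem y} := by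
  refine ⟨generic_injOn η R, ?_⟩
  ext y
  constructor
  · rintro ⟨x, hx, rfl⟩
    exact component_isIntegralElem η x hx ⟨⊥, Ideal.isPrime_bot⟩
  · intro hy
    obtain ⟨x, hx, hxy⟩ := exists_lift η R hη y hy
    exact ⟨x, hx, hxy⟩

end

end Groth.Agent.Lib.EtaValH1
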