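import Mathlib
import Groth.Agent.Lib.EtaVal_helper1

namespace Groth.Agent.Lib.EtaVal2H1

universe u
open EtaPt
open Groth.Agent.Lib.EtaDomH1 Groth.Agent.Lib.EtaLiftH1 Groth.Agent.Lib.EtaLift2H1
  Groth.Agent.Lib.EtaLift3H1 Groth.Agent.Lib.EtaIntH1 Groth.Agent.Lib.EtaSpecH1
  Groth.Agent.Lib.EtaValH1

variable (η : EtaPt.FieldEndo.{u})
variable (R : Type u) [CommRing R] [IsDomain R] [ValuationRing R]

lemma integral_or_inv_integral (y : η.obj (⊥ : Ideal R).ResidueField) :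
    ((η.eta (⊥ : Ideal R).ResidueField).comp
      (algebraMap R (⊥ : Ideal R).ResidueField)).IsIntegralElem y ∨
    ((η.eta (⊥ : Ideal R).ResidueField).comp
      (algebraMap R (⊥ : Ideal R).ResidueField)).IsIntegralElem y⁻¹ := by
  obtain ⟨n, z, hz⟩ := η.exists_pow_mem_range_eta (⊥ : Ideal R).ResidueField y
  have hpos : 0 < ringExpChar (⊥ : Ideal R).ResidueField ^ n :=
    pow_pos (expChar_pos (⊥ : Ideal R).ResidueField _) n
  letI : Algebra R (η.obj (⊥ : Ideal R).ResidueField) :=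
    ((η.eta (⊥ : Ideal R).ResidueField).comp
      (algebraMap R (⊥ : Ideal R).ResidueField)).toAlgebra
  rcases ValuationRing.isInteger_or_isInteger R z with ⟨r, hr⟩ | ⟨r, hr⟩
  · left
    have h1 : IsIntegral R (y ^ ringExpChar (⊥ : Ideal R).ResidueField ^ n) := by
      rw [← hz, ← hr]
      exact isIntegral_algebraMap (R := R) (A := η.obj (⊥ : Ideal R).ResidueField) (x := r)
    exact IsIntegral.of_pow hpos h1
  · right
    have h1 : IsIntegral R (y⁻¹ ^ ringExpChar (⊥ : Ideal R).ResidueField ^ n) := by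
      rw [inv_pow, ← hz, ← map_inv₀, ← hr]
      exact isIntegral_algebraMap (R := R) (A := η.obj (⊥ : Ideal R).ResidueField) (x := r)
    exact IsIntegral.of_pow hpos h1

theorem main13814
    (hη : η.InV R ∨ ∀ (k : Type u) [Field k], ringChar k = ringChar R →
      Function.Bijective (η.eta k) → PerfectField k) :
    IsDomain (η.M R) ∧ PreValuationRing (η.M R) ∧
      (∀ y : η.obj (⊥ : Ideal R).ResidueField, ∃ a b : η.M R,
        (b : η.N R) ⟨⊥, Ideal.isPrime_bot⟩ ≠ 0 ∧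
          y * (b : η.N R) ⟨⊥, Ideal.isPrime_bot⟩ = (a : η.N R) ⟨⊥, Ideal.isPrime_bot⟩) ∧
      (fun x : η.N R => x ⟨⊥, Ideal.isPrime_bot⟩) '' (η.M R : Set (η.N R)) ∩
          Set.range (η.eta (⊥ : Ideal R).ResidueField) =
        Set.range ((η.eta (⊥ : Ideal R).ResidueField).comp (algebraMap R (⊥ : Ideal R).ResidueField)) := by
  obtain ⟨ev, hev⟩ : ∃ ev : η.M R →+* η.obj (⊥ : Ideal R).ResidueField,
      ∀ m, ev m = (m : η.N R) ⟨⊥, Ideal.isPrime_bot⟩ :=
    ⟨(Pi.evalRingHom (fun P : PrimeSpectrum R => η.obj P.asIdeal.ResidueField)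
      ⟨⊥, Ideal.isPrime_bot⟩).comp (η.M R).subtype, fun _ => rfl⟩
  have hinj : Function.Injective ev := by
    intro m m' hmm
    rw [hev, hev] at hmm
    exact Subtype.ext (generic_injOn η R m.2 m'.2 hmm)
  have hlift : ∀ y : η.obj (⊥ : Ideal R).ResidueField,
      ((η.eta (⊥ : Ideal R).ResidueField).comp
        (algebraMap R (⊥ : Ideal R).ResidueField)).IsIntegralElem y → ∃ c : η.M R, ev c = y := by
    intro y hy
    obtain ⟨x, hx, hxy⟩ := exists_lift η R hη y hy
    exact ⟨⟨x, hx⟩, by rw [hev]; exact hxy⟩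
  refine ⟨Function.Injective.isDomain ev hinj, ⟨?_⟩, ?_, ?_⟩
  · intro a b
    by_cases hα : ev a = 0
    · have : a = 0 := hinj (by rw [hα, map_zero])
      exact ⟨0, Or.inr (by rw [this, mul_zero])⟩
    by_cases hβ : ev b = 0
    · have : b = 0 := hinj (by rw [hβ, map_zero])
      exact ⟨0, Or.inl (by rw [this, mul_zero])⟩
    rcases integral_or_inv_integral η R (ev b / ev a) with hy | hy
    · obtain ⟨c, hc⟩ := hlift _ hy
      refine ⟨c, Or.inl (hinj ?_)⟩
      rw [map_mul, hc]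
      field_simp
    · obtain ⟨c, hc⟩ := hlift _ hy
      refine ⟨c, Or.inr (hinj ?_)⟩
      rw [map_mul, hc]
      field_simp
  · intro y
    by_cases hy0 : y = 0
    · refine ⟨0, 1, ?_, ?_⟩
      · rw [← hev, map_one]; exact one_ne_zero
      · rw [hy0, zero_mul, ← hev, map_zero]
    rcases integral_or_inv_integral η R y with hy | hy
    · obtain ⟨c, hc⟩ := hlift _ hy
      refine ⟨c, 1, ?_, ?_⟩
      · rw [← hev, map_one]; exact one_ne_zero
      · rw [← hev, ← hev, map_one, mul_one, hc]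
    · obtain ⟨c, hc⟩ := hlift _ hy
      refine ⟨1, c, ?_, ?_⟩
      · rw [← hev, hc]; exact inv_ne_zero hy0
      · rw [← hev, ← hev, hc, map_one, mul_inv_cancel₀ hy0]
  · ext v
    constructor
    · rintro ⟨⟨x, hx, rfl⟩, ⟨z, hz⟩⟩
      have hint := component_isIntegralElem η x hx ⟨⊥, Ideal.isPrime_bot⟩
      have hz' : η.eta (⊥ : Ideal R).ResidueField z = x ⟨⊥, Ideal.isPrime_bot⟩ := hz
      have hint' : ((η.eta (⊥ : Ideal R).ResidueField).comp
          (algebraMap R (⊥ : Ideal R).ResidueField)).IsIntegralElem (η.eta _ z) := by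
        rw [hz']; exact hint
      obtain ⟨r, hr⟩ := integral_of_eta_integral η R z hint'
      refine ⟨r, ?_⟩
      change η.eta _ (algebraMap R _ r) = x ⟨⊥, Ideal.isPrime_bot⟩
      rw [hr, hz']
    · rintro ⟨r, rfl⟩
      exact ⟨⟨η.t R r, η.t_mem_M R r, rfl⟩, ⟨algebraMap R _ r, rfl⟩⟩

end Groth.Agent.Lib.EtaVal2H1
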