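import Mathlib

/-! `A[X]/(f)` (f monic) is étale over `A` iff `f'` is a unit in `A[X]/(f)`. -/

universe u

open Polynomial

namespace Groth.Agent.Lib.EtaleAdjoinRoot

variable {A : Type u} [CommRing A]

theorem isUnit_derivative_of_unramified (f : A[X])
    [Algebra.FormallyUnramified A (AdjoinRoot f)] :
    IsUnit (AdjoinRoot.mk f (derivative f)) := by
  obtain ⟨J, hJ⟩ : ∃ J : Ideal (AdjoinRoot f), J = Ideal.span {AdjoinRoot.mk f (derivative f)} :=
    ⟨_, rfl⟩
  rw [← Ideal.span_singleton_eq_top, ← hJ, ← Ideal.Quotient.subsingleton_iff]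
  let Q := AdjoinRoot f ⧸ J
  let π : AdjoinRoot f →ₐ[A] Q := Ideal.Quotient.mkₐ A J
  let ι : Q →ₐ[A] DualNumber Q := TrivSqZeroExt.inlAlgHom A Q Q
  let g₁ : AdjoinRoot f →ₐ[A] DualNumber Q := ι.comp π
  let y : DualNumber Q := g₁ (AdjoinRoot.root f) + DualNumber.eps
  have hπ : π (AdjoinRoot.mk f (derivative f)) = 0 := by
    change Ideal.Quotient.mk J _ = 0
    rw [Ideal.Quotient.eq_zero_iff_mem, hJ]
    exact Ideal.subset_span rfl
  have hy : aeval y f = 0 := by
    rw [Polynomial.aeval_add_of_sq_eq_zero _ _ _ (by rw [pow_two, DualNumber.eps_mul_eps])]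
    rw [Polynomial.aeval_algHom_apply, Polynomial.aeval_algHom_apply, AdjoinRoot.aeval_eq,
      AdjoinRoot.aeval_eq, AdjoinRoot.mk_self, map_zero, zero_add]
    change ι (π (AdjoinRoot.mk f (derivative f))) * _ = 0
    rw [hπ, map_zero, zero_mul]
  let g₂ : AdjoinRoot f →ₐ[A] DualNumber Q :=
    AdjoinRoot.liftAlgHom f (Algebra.ofId A _) y (by rw [← hy]; rfl)
  have hnil : IsNilpotent (RingHom.ker ((TrivSqZeroExt.fstHom Q Q Q : DualNumber Q →ₐ[Q] Q) :
      DualNumber Q →+* Q)) := ⟨2, TrivSqZeroExt.kerIdeal_sq Q Q⟩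
  have h12 : g₁ = g₂ := by
    apply Algebra.FormallyUnramified.ext' ((TrivSqZeroExt.fstHom Q Q Q : DualNumber Q →ₐ[Q] Q) :
      DualNumber Q →+* Q) hnil
    let F : DualNumber Q →ₐ[A] Q := TrivSqZeroExt.fstHom A Q Q
    have hF : F.comp g₁ = F.comp g₂ := by
      apply AdjoinRoot.algHom_ext
      change F (g₁ (AdjoinRoot.root f)) = F (g₂ (AdjoinRoot.root f))
      rw [AdjoinRoot.liftAlgHom_root]
      change _ = F (g₁ (AdjoinRoot.root f) + DualNumber.eps)
      rw [map_add]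
      change _ = _ + TrivSqZeroExt.fst (DualNumber.eps : DualNumber Q)
      rw [DualNumber.fst_eps, add_zero]
    intro x
    exact AlgHom.congr_fun hF x
  have h3 : g₁ (AdjoinRoot.root f) = g₂ (AdjoinRoot.root f) := by rw [h12]
  rw [AdjoinRoot.liftAlgHom_root] at h3
  have h4 : (DualNumber.eps : DualNumber Q) = 0 := by
    have : g₁ (AdjoinRoot.root f) = g₁ (AdjoinRoot.root f) + DualNumber.eps := h3
    exact (left_eq_add.1 this)
  have h5 : (1 : Q) = 0 := by
    have := congrArg TrivSqZeroExt.snd h4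
    rw [DualNumber.snd_eps] at this
    exact this
  exact subsingleton_of_zero_eq_one h5.symm

theorem etale_of_isUnit_derivative (f : A[X]) (hf : f.Monic)
    (h : IsUnit (AdjoinRoot.mk f (derivative f))) : Algebra.Etale A (AdjoinRoot f) := by
  obtain ⟨b, hb⟩ := h.exists_right_inv
  obtain ⟨p₁, rfl⟩ := AdjoinRoot.mk_surjective b
  rw [← map_mul, ← map_one (AdjoinRoot.mk f), AdjoinRoot.mk_eq_mk] at hb
  obtain ⟨p₂, hp₂⟩ := hb
  let P : StandardEtalePair A := ⟨f, hf, 1, p₁, -p₂, 0, by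
    rw [pow_zero]
    linear_combination hp₂⟩
  let e1 : P.Ring ≃ₐ[A] Localization.Away (AdjoinRoot.mk f (1 : A[X])) := P.equivAwayAdjoinRoot
  have hle : Submonoid.powers (AdjoinRoot.mk f (1 : A[X])) ≤ IsUnit.submonoid (AdjoinRoot f) := by
    rintro _ ⟨n, rfl⟩
    change IsUnit ((AdjoinRoot.mk f (1 : A[X])) ^ n)
    rw [map_one, one_pow]
    exact isUnit_one
  let e2 : AdjoinRoot f ≃ₐ[AdjoinRoot f] Localization.Away (AdjoinRoot.mk f (1 : A[X])) :=
    IsLocalization.atUnits (AdjoinRoot f) (Submonoid.powers (AdjoinRoot.mk f (1 : A[X]))) hle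
  exact Algebra.Etale.of_equiv (e1.trans (e2.restrictScalars A).symm)

theorem etale_iff (f : A[X]) (hf : f.Monic) :
    Algebra.Etale A (AdjoinRoot f) ↔ IsUnit (AdjoinRoot.mk f (derivative f)) :=
  ⟨fun _ => isUnit_derivative_of_unramified f, etale_of_isUnit_derivative f hf⟩

end Groth.Agent.Lib.EtaleAdjoinRoot
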