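import Mathlib

universe u
open TensorProduct KaehlerDifferential

namespace Groth.Agent.Lib.EtaleAtMvPoly

section General
variable (R S T : Type u) [CommRing R] [CommRing S] [CommRing T]
variable [Algebra R S] [Algebra R T] [Algebra S T] [IsScalarTower R S T]

/-- If `T` is formally smooth over `R` and `T ⊗ Ω[S/R] → Ω[T/R]` is bijective then `T` is formally
etale over `S`. -/
theorem formallyEtale_of_bijective [Algebra.FormallySmooth R T]
    (hbij : Function.Bijective (mapBaseChange R S T)) : Algebra.FormallyEtale S T := by
  constructor
  · refine ⟨fun a b => ?_⟩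
    have hz : ∀ w : Ω[T⁄S], w = 0 := by
      intro w
      obtain ⟨y, rfl⟩ := KaehlerDifferential.map_surjective R S T w
      obtain ⟨x, rfl⟩ := hbij.2 y
      exact (KaehlerDifferential.exact_mapBaseChange_map R S T _).mpr ⟨x, rfl⟩
    rw [hz a, hz b]
  · refine ⟨fun a b => ?_⟩
    have hz : ∀ z : Algebra.H1Cotangent S T, z = 0 := by
      intro z
      have h1 : Algebra.H1Cotangent.δ R S T z = 0 := by
        apply hbij.1
        rw [map_zero]
        exact (Algebra.H1Cotangent.exact_δ_mapBaseChange R S T _).mpr ⟨z, rfl⟩
      obtain ⟨z', rfl⟩ := (Algebra.H1Cotangent.exact_map_δ R S T z).mp h1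
      rw [Subsingleton.elim z' 0, map_zero]
    rw [hz a, hz b]

theorem aux [Algebra.FormallySmooth R T] {ι : Type*} (b : Module.Basis ι S Ω[S⁄R])
    (v : ι → Ω[T⁄R]) (hv : ∀ i, mapBaseChange R S T ((b.baseChange T) i) = v i) :
    Algebra.FormallyEtale S T ↔ LinearIndependent T v ∧ Submodule.span T (Set.range v) = ⊤ := by
  constructor
  · intro h
    let e := tensorKaehlerEquivOfFormallyEtale R S T
    let b' := (b.baseChange T).map e
    have hb' : v = ⇑b' := by
      funext i
      rw [Module.Basis.map_apply]
      exact (hv i).symm
    rw [hb']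
    exact ⟨b'.linearIndependent, b'.span_eq⟩
  · rintro ⟨hli, hsp⟩
    let b' := Module.Basis.mk hli hsp.ge
    let e := (b.baseChange T).equiv b' (Equiv.refl _)
    have he : mapBaseChange R S T = e.toLinearMap := by
      apply (b.baseChange T).ext
      intro i
      rw [hv i, LinearEquiv.coe_coe, Module.Basis.equiv_apply, Equiv.refl_apply,
        Module.Basis.mk_apply]
    have hbij : Function.Bijective (mapBaseChange R S T) := by
      rw [he]; exact e.bijective
    exact formallyEtale_of_bijective R S T hbij

end General

theorem main (A C : Type u) [CommRing A] [CommRing C]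
    [Algebra A C] [Algebra.Smooth A C] (r : ℕ) [Algebra (MvPolynomial (Fin r) A) C]
    [IsScalarTower A (MvPolynomial (Fin r) A) C] (q : Ideal C) [q.IsPrime] :
    Algebra.IsEtaleAt (MvPolynomial (Fin r) A) q ↔
      LinearIndependent (Localization.AtPrime q)
          (fun i : Fin r => KaehlerDifferential.D A (Localization.AtPrime q)
            (algebraMap C (Localization.AtPrime q)
              (algebraMap (MvPolynomial (Fin r) A) C (MvPolynomial.X i)))) ∧
        Submodule.span (Localization.AtPrime q)
          (Set.range fun i : Fin r => KaehlerDifferential.D A (Localization.AtPrime q)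
            (algebraMap C (Localization.AtPrime q)
              (algebraMap (MvPolynomial (Fin r) A) C (MvPolynomial.X i)))) = ⊤ := by
  haveI : IsScalarTower A (MvPolynomial (Fin r) A) (Localization.AtPrime q) :=
    IsScalarTower.of_algebraMap_eq' (by
      rw [IsScalarTower.algebraMap_eq A C (Localization.AtPrime q),
        IsScalarTower.algebraMap_eq (MvPolynomial (Fin r) A) C (Localization.AtPrime q),
        RingHom.comp_assoc, ← IsScalarTower.algebraMap_eq A (MvPolynomial (Fin r) A) C])
  haveI : Algebra.FormallySmooth A (Localization.AtPrime q) := by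
    haveI : Algebra.FormallySmooth C (Localization.AtPrime q) :=
      Algebra.FormallySmooth.of_isLocalization (Rₘ := Localization.AtPrime q) q.primeCompl
    exact Algebra.FormallySmooth.comp A C (Localization.AtPrime q)
  refine aux A (MvPolynomial (Fin r) A) (Localization.AtPrime q)
    (mvPolynomialBasis A (Fin r)) _ ?_
  intro i
  rw [Module.Basis.baseChange_apply, mvPolynomialBasis_apply, mapBaseChange_tmul, one_smul,
    map_D, IsScalarTower.algebraMap_apply (MvPolynomial (Fin r) A) C (Localization.AtPrime q)]

end Groth.Agent.Lib.EtaleAtMvPoly
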