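import Mathlib

/-!
# Étale neighbourhoods from sections modulo `I`

`C` an étale (more generally: unramified, essentially of finite type) `A`-algebra with an
`A`-algebra map `φ : C → A/I`.  Then there is `a ∈ C` with `φ a = 1` such that, for
`A' = C[1/a]`, `A/I → A'/IA'` is bijective and `C → A' → A'/IA'` is `φ` followed by that bijection.
-/

open TensorProduct

namespace Groth.Agent.Lib.EtaleSectionH3

universe u

variable {A : Type u} [CommRing A] (I : Ideal A) (C : Type u) [CommRing C] [Algebra A C]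

/-- the map `C ⊗ C → C/IC`, `x ⊗ y ↦ φ(x) y`. -/
noncomputable def psi (φ : C →ₐ[A] A ⧸ I) :
    C ⊗[A] C →ₐ[A] C ⧸ I.map (algebraMap A C) :=
  Algebra.TensorProduct.lift
    (((Algebra.ofId (A ⧸ I) (C ⧸ I.map (algebraMap A C))).restrictScalars A).comp φ)
    (Ideal.Quotient.mkₐ A (I.map (algebraMap A C)))
    (fun _ _ => Commute.all _ _)

theorem psi_tmul (φ : C →ₐ[A] A ⧸ I) (x y : C) :
    psi I C φ (x ⊗ₜ y) = algebraMap (A ⧸ I) (C ⧸ I.map (algebraMap A C)) (φ x) *
      Ideal.Quotient.mk _ y := by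
  simp [psi]

/-- `φ` descends to `C/IC`. -/
noncomputable def phiBar (φ : C →ₐ[A] A ⧸ I) : (C ⧸ I.map (algebraMap A C)) →ₐ[A] A ⧸ I :=
  Ideal.Quotient.liftₐ (I.map (algebraMap A C)) φ (by
    intro x hx
    have hle : I.map (algebraMap A C) ≤ RingHom.ker (φ : C →+* A ⧸ I) := by
      rw [Ideal.map_le_iff_le_comap]
      intro i hi
      rw [Ideal.mem_comap, RingHom.mem_ker]
      change φ (algebraMap A C i) = 0
      rw [φ.commutes]
      exact Ideal.Quotient.eq_zero_iff_mem.mpr hi
    exact hle hx)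

theorem phiBar_mk (φ : C →ₐ[A] A ⧸ I) (c : C) :
    phiBar I C φ (Ideal.Quotient.mk _ c) = φ c := rfl

theorem phiBar_algebraMap (φ : C →ₐ[A] A ⧸ I) (x : A ⧸ I) :
    phiBar I C φ (algebraMap (A ⧸ I) (C ⧸ I.map (algebraMap A C)) x) = x := by
  obtain ⟨r, rfl⟩ := Ideal.Quotient.mk_surjective x
  have : algebraMap (A ⧸ I) (C ⧸ I.map (algebraMap A C)) (Ideal.Quotient.mk I r) =
      Ideal.Quotient.mk _ (algebraMap A C r) := rfl
  rw [this, phiBar_mk, φ.commutes]
  rfl

theorem phiBar_psi (φ : C →ₐ[A] A ⧸ I) (t : C ⊗[A] C) :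
    phiBar I C φ (psi I C φ t) = φ (Algebra.TensorProduct.lmul' A t) := by
  induction t using TensorProduct.induction_on with
  | zero => simp
  | tmul x y =>
    rw [psi_tmul, map_mul, phiBar_algebraMap, phiBar_mk, Algebra.TensorProduct.lmul'_apply_tmul, map_mul]
  | add x y hx hy => rw [map_add, map_add, hx, hy, map_add, map_add]

/-- **Core lemma**: the "idempotent" cutting out the section. -/
theorem exists_elem [Algebra.FormallyUnramified A C] [Algebra.EssFiniteType A C]
    (φ : C →ₐ[A] A ⧸ I) :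
    ∃ a : C, φ a = 1 ∧ ∀ (c : C) (r : A), φ c = Ideal.Quotient.mk I r →
      (c - algebraMap A C r) * a ∈ I.map (algebraMap A C) := by
  obtain ⟨a, ha⟩ := Ideal.Quotient.mk_surjective
    (psi I C φ (Algebra.FormallyUnramified.elem A C))
  refine ⟨a, ?_, ?_⟩
  · rw [← phiBar_mk, ha, phiBar_psi, Algebra.FormallyUnramified.lmul_elem (R := A) (S := C), map_one]
  · intro c r hr
    rw [← Ideal.Quotient.eq_zero_iff_mem, map_mul, ha]
    have h1 := congrArg (psi I C φ)
      (Algebra.FormallyUnramified.one_tmul_sub_tmul_one_mul_elem (R := A) (S := C) c)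
    rw [map_mul, map_sub, psi_tmul, psi_tmul, map_zero, map_one, map_one, map_one, one_mul,
      mul_one, hr] at h1
    have : algebraMap (A ⧸ I) (C ⧸ I.map (algebraMap A C)) (Ideal.Quotient.mk I r) =
      Ideal.Quotient.mk _ (algebraMap A C r) := rfl
    rw [this] at h1
    rw [map_sub]
    exact h1

section Loc

variable {I C}
variable (φ : C →ₐ[A] A ⧸ I) (a : C) (ha : φ a = 1)
  (hc : ∀ (c : C) (r : A), φ c = Ideal.Quotient.mk I r →
    (c - algebraMap A C r) * a ∈ I.map (algebraMap A C))
  (A' : Type u) [CommRing A'] [Algebra C A'] [Algebra A A'] [IsScalarTower A C A']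
  [IsLocalization.Away a A']

include hc in
/-- `C → A' → A'/IA'` is `φ` followed by `A/I → A'/IA'`. -/
theorem mk_algebraMap_eq (c : C) :
    Ideal.Quotient.mk (I.map (algebraMap A A')) (algebraMap C A' c) =
      algebraMap (A ⧸ I) (A' ⧸ I.map (algebraMap A A')) (φ c) := by
  obtain ⟨r, hr⟩ := Ideal.Quotient.mk_surjective (φ c)
  rw [← hr]
  have h0 : algebraMap (A ⧸ I) (A' ⧸ I.map (algebraMap A A')) (Ideal.Quotient.mk I r) =
      Ideal.Quotient.mk _ (algebraMap A A' r) := rfl
  rw [h0, Ideal.Quotient.eq]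
  have h1 := hc c r hr.symm
  have h2 : algebraMap C A' ((c - algebraMap A C r) * a) ∈ I.map (algebraMap A A') := by
    have : I.map (algebraMap A A') = (I.map (algebraMap A C)).map (algebraMap C A') := by
      rw [Ideal.map_map, ← IsScalarTower.algebraMap_eq]
    rw [this]
    exact Ideal.mem_map_of_mem _ h1
  obtain ⟨u, hu⟩ := IsLocalization.Away.algebraMap_isUnit (S := A') a
  rw [map_mul, map_sub, ← IsScalarTower.algebraMap_apply, ← hu] at h2
  have h3 := (I.map (algebraMap A A')).mul_mem_right (↑u⁻¹ : A') h2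
  rwa [mul_assoc, Units.mul_inv, mul_one] at h3

include ha hc in
theorem bijective_algebraMap_quotient :
    Function.Bijective (algebraMap (A ⧸ I) (A' ⧸ I.map (algebraMap A A'))) := by
  have hK := mk_algebraMap_eq φ a hc A'
  constructor
  · rw [injective_iff_map_eq_zero]
    intro x hx
    obtain ⟨r, rfl⟩ := Ideal.Quotient.mk_surjective x
    have h0 : algebraMap (A ⧸ I) (A' ⧸ I.map (algebraMap A A')) (Ideal.Quotient.mk I r) =
      Ideal.Quotient.mk _ (algebraMap A A' r) := rfl
    rw [h0, Ideal.Quotient.eq_zero_iff_mem] at hx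
    have : I.map (algebraMap A A') = (I.map (algebraMap A C)).map (algebraMap C A') := by
      rw [Ideal.map_map, ← IsScalarTower.algebraMap_eq]
    rw [this, IsLocalization.mem_map_algebraMap_iff (Submonoid.powers a)] at hx
    obtain ⟨⟨y, s⟩, hys⟩ := hx
    rw [IsScalarTower.algebraMap_apply A C A', ← map_mul,
      IsLocalization.eq_iff_exists (Submonoid.powers a)] at hys
    obtain ⟨t, ht⟩ := hys
    have h1 := congrArg φ ht
    have hpow : ∀ s : Submonoid.powers a, φ (s : C) = 1 := by
      rintro ⟨_, n, rfl⟩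
      change φ (a ^ n) = 1
      rw [map_pow, ha, one_pow]
    have hy : φ (y : C) = 0 := by
      have hle : I.map (algebraMap A C) ≤ RingHom.ker (φ : C →+* A ⧸ I) := by
        rw [Ideal.map_le_iff_le_comap]
        intro i hi
        rw [Ideal.mem_comap, RingHom.mem_ker]
        change φ (algebraMap A C i) = 0
        rw [φ.commutes]
        exact Ideal.Quotient.eq_zero_iff_mem.mpr hi
      exact hle y.2
    rw [map_mul, map_mul, map_mul, hpow, hpow, hy, φ.commutes, one_mul, mul_one, mul_zero] at h1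
    exact h1
  · intro x
    obtain ⟨x', rfl⟩ := Ideal.Quotient.mk_surjective x
    obtain ⟨⟨c, s⟩, hcs⟩ := IsLocalization.surj (Submonoid.powers a) x'
    refine ⟨φ c, ?_⟩
    rw [← hK c, ← hcs, map_mul]
    obtain ⟨_, n, rfl⟩ := s
    have : Ideal.Quotient.mk (I.map (algebraMap A A')) (algebraMap C A' (a ^ n)) = 1 := by
      rw [hK, map_pow, ha, one_pow, map_one]
    rw [this, mul_one]

end Loc

/-- packaged version: an étale `A`-algebra with a section modulo `I` can be shrunk to an étale
neighbourhood `A'` of `V(I)` (i.e. `A/I ≅ A'/IA'`). -/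
theorem exists_etale_nbhd [Algebra.Etale A C] (φ : C →ₐ[A] A ⧸ I) :
    ∃ (A' : Type u) (_ : CommRing A') (_ : Algebra A A'), Algebra.Etale A A' ∧
      Function.Bijective (algebraMap (A ⧸ I) (A' ⧸ I.map (algebraMap A A'))) ∧
      ∃ τ : C →ₐ[A] A', ∀ c : C, Ideal.Quotient.mk (I.map (algebraMap A A')) (τ c) =
        algebraMap (A ⧸ I) (A' ⧸ I.map (algebraMap A A')) (φ c) := by
  obtain ⟨a, ha, hc⟩ := exists_elem I C φ
  refine ⟨Localization.Away a, inferInstance, inferInstance,
    Algebra.Etale.comp A C (Localization.Away a),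
    bijective_algebraMap_quotient φ a ha hc (Localization.Away a),
    IsScalarTower.toAlgHom A C (Localization.Away a), fun c => ?_⟩
  exact mk_algebraMap_eq φ a hc (Localization.Away a) c

end Groth.Agent.Lib.EtaleSectionH3
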