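import Mathlib
import Groth.Agent.Lib.EtaleSection_helper3

/-!
# Lifting complete orthogonal idempotents / units to an étale neighbourhood
-/

namespace Groth.Agent.Lib.EtaleSectionH3

universe u

variable {A : Type u} [CommRing A] (I : Ideal A)

/-- the algebra map `Aⁿ → A/I` attached to a complete system of orthogonal idempotents. -/
noncomputable def coiHom {n : ℕ} (e : Fin n → A ⧸ I) (he : CompleteOrthogonalIdempotents e) :
    (Fin n → A) →ₐ[A] A ⧸ I where
  toFun a := ∑ i, Ideal.Quotient.mk I (a i) * e i
  map_one' := by simp [he.complete]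
  map_mul' a b := by
    classical
    rw [Finset.sum_mul_sum]
    refine Finset.sum_congr rfl fun i _ => ?_
    rw [Finset.sum_eq_single i]
    · rw [Pi.mul_apply, map_mul]
      have := (he.idem i).eq
      calc (Ideal.Quotient.mk I (a i) * Ideal.Quotient.mk I (b i)) * e i
          = (Ideal.Quotient.mk I (a i) * Ideal.Quotient.mk I (b i)) * (e i * e i) := by rw [this]
        _ = _ := by ring
    · intro j _ hji
      have := he.ortho (Ne.symm hji)
      calc Ideal.Quotient.mk I (a i) * e i * (Ideal.Quotient.mk I (b j) * e j)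
          = Ideal.Quotient.mk I (a i) * Ideal.Quotient.mk I (b j) * (e i * e j) := by ring
        _ = 0 := by rw [this, mul_zero]
    · intro h; exact absurd (Finset.mem_univ i) h
  map_zero' := by simp
  map_add' a b := by
    simp only [Pi.add_apply, map_add, add_mul, Finset.sum_add_distrib]
  commutes' r := by
    simp only [Pi.algebraMap_apply, Algebra.algebraMap_self, RingHom.id_apply]
    rw [← Finset.mul_sum, he.complete, mul_one]
    rfl

theorem coiHom_single {n : ℕ} (e : Fin n → A ⧸ I) (he : CompleteOrthogonalIdempotents e)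
    (j : Fin n) : coiHom I e he (Pi.single j 1) = e j := by
  classical
  change ∑ i, Ideal.Quotient.mk I ((Pi.single j (1 : A) : Fin n → A) i) * e i = e j
  rw [Finset.sum_eq_single j]
  · rw [Pi.single_eq_same, map_one, one_mul]
  · intro i _ hij
    rw [Pi.single_eq_of_ne hij, map_zero, zero_mul]
  · intro h; exact absurd (Finset.mem_univ j) h

theorem exists_etale_coi (n : ℕ) (e : Fin n → A ⧸ I) (he : CompleteOrthogonalIdempotents e) :
    ∃ (A' : Type u) (_ : CommRing A') (_ : Algebra A A'), Algebra.Etale A A' ∧
      Function.Bijective (algebraMap (A ⧸ I) (A' ⧸ I.map (algebraMap A A'))) ∧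
      ∃ e' : Fin n → A', CompleteOrthogonalIdempotents e' ∧
        ∀ j, Ideal.Quotient.mk (I.map (algebraMap A A')) (e' j) =
          algebraMap (A ⧸ I) (A' ⧸ I.map (algebraMap A A')) (e j) := by
  classical
  obtain ⟨A', i1, i2, hE, hbij, τ, hτ⟩ := exists_etale_nbhd I (Fin n → A) (coiHom I e he)
  refine ⟨A', i1, i2, hE, hbij, fun j => τ (Pi.single j 1), ?_, fun j => ?_⟩
  · exact (CompleteOrthogonalIdempotents.single (fun _ : Fin n => A)).map (τ : (Fin n → A) →+* A')
  · rw [hτ, coiHom_single]

end Groth.Agent.Lib.EtaleSectionH3
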