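import Mathlib
import Groth.Agent.Lib.UnramGU4_helper3
import Groth.Agent.Lib.SchSrcLocal2_helper7

/-!
# `g ∘ f` étale, target of `f` geometrically unibranch ⇒ `f` and `g` étale (helper3)

* `etale_of_comp_etale_surjective`: étaleness descends along étale surjective maps of the source
  (assembled from helper7's flat / lfp / unramified descent lemmas).
* `main1452`.
-/

set_option autoImplicit false
universe u
open CategoryTheory AlgebraicGeometry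

namespace Groth.Agent.Lib.EtaleCompH3

/-- Étaleness is étale-local on the source. -/
theorem etale_of_comp_etale_surjective {W U V : Scheme.{u}} (c : W ⟶ U) (h : U ⟶ V)
    [Etale c] [Surjective c] [Etale (c ≫ h)] : Etale h := by
  haveI : Flat h := Groth.Agent.Lib.SchSrcLocal_helper7.flat_of_comp_surjective c h
  haveI : LocallyOfFinitePresentation h :=
    Groth.Agent.Lib.SchSrcLocal2_helper7.locallyOfFinitePresentation_of_comp_smooth_surjective c h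
  haveI : FormallyUnramified h :=
    Groth.Agent.Lib.SchSrcLocal2_helper7.formallyUnramified_of_comp_etale_surjective c h
  exact Etale.of_formallyUnramified_of_flat h

theorem main1452 {X Y Z : Scheme.{u}} (f : X ⟶ Y) (g : Y ⟶ Z) [IsIntegral Y] (x : X)
    (hY : CAlg2.IsGeomUnibranch (Y.presheaf.stalk (f x)))
    (het : ∃ U : X.Opens, x ∈ U ∧ Etale (U.ι ≫ f ≫ g))
    (hsp : ∃ x' : X, x' ⤳ x ∧ f x' = genericPoint ↑Y) :
    (∃ U : X.Opens, x ∈ U ∧ Etale (U.ι ≫ f)) ∧ ∃ V : Y.Opens, f x ∈ V ∧ Etale (V.ι ≫ g) := by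
  obtain ⟨U, hxU, hU⟩ := het
  -- Step 1: `f` is étale near `x`.
  have step1 : ∃ W : X.Opens, x ∈ W ∧ W ≤ U ∧ Etale (W.ι ≫ f) := by
    obtain ⟨f₁, hf₁⟩ : ∃ f₁ : U.toScheme ⟶ Y, f₁ = U.ι ≫ f := ⟨_, rfl⟩
    haveI : Etale (f₁ ≫ g) := by rw [hf₁, Category.assoc]; exact hU
    haveI : LocallyOfFiniteType (f₁ ≫ g) := inferInstance
    haveI : LocallyOfFiniteType f₁ := locallyOfFiniteType_of_comp f₁ g
    haveI : FormallyUnramified f₁ := FormallyUnramified.of_comp f₁ g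
    obtain ⟨x₁, hx₁⟩ : ∃ x₁ : U.toScheme, U.ι x₁ = x := ⟨⟨x, hxU⟩, rfl⟩
    have e1 : f₁ x₁ = f x := by rw [hf₁, Scheme.Hom.comp_apply, hx₁]
    obtain ⟨x', hx'x, hfx'⟩ := hsp
    have hx'U : x' ∈ U := hx'x.mem_open U.2 hxU
    obtain ⟨x₁', hx₁'⟩ : ∃ x₁' : U.toScheme, U.ι x₁' = x' := ⟨⟨x', hx'U⟩, rfl⟩
    have hsp1 : x₁' ⤳ x₁ := by
      rw [← U.ι.isOpenEmbedding.isInducing.specializes_iff, hx₁, hx₁']
      exact hx'x
    have hgen : f₁ x₁' = genericPoint ↑Y := by rw [hf₁, Scheme.Hom.comp_apply, hx₁', hfx']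
    have hY1 : CAlg2.IsGeomUnibranch (Y.presheaf.stalk (f₁ x₁)) := e1 ▸ hY
    obtain ⟨U', hxU', hU'⟩ := Groth.Agent.Lib.UnramGUH3.exists_etale_nhd_of_generization f₁ x₁ hY1
      ⟨x₁', hsp1, hgen⟩ ⟨⊤, trivial, MorphismProperty.comp_mem _ _ _
        (inferInstance : FormallyUnramified (⊤ : U.toScheme.Opens).ι) ‹FormallyUnramified f₁›⟩
    refine ⟨U.ι ''ᵁ U', ⟨x₁, hxU', hx₁⟩, U.ι_image_le U', ?_⟩
    have h2 : (U.ι ''ᵁ U').ι ≫ f = (U.ι.isoImage U').inv ≫ U'.ι ≫ f₁ := by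
      rw [hf₁, ← Scheme.Hom.isoImage_inv_ι, Category.assoc, Category.assoc]
    rw [h2]
    infer_instance
  obtain ⟨W, hxW, hWU, hW⟩ := step1
  refine ⟨⟨W, hxW, hW⟩, ?_⟩
  -- Step 2: `g` is étale near `f x`.
  obtain ⟨c₀, hc₀⟩ : ∃ c₀ : W.toScheme ⟶ Y, c₀ = W.ι ≫ f := ⟨_, rfl⟩
  haveI : Etale c₀ := hc₀ ▸ hW
  obtain ⟨V, hV⟩ : ∃ V : Y.Opens, (V : Set Y) = Set.range c₀ :=
    ⟨⟨Set.range c₀, c₀.isOpenMap.isOpen_range⟩, rfl⟩
  have hrange : Set.range c₀ ⊆ Set.range V.ι := by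
    rw [Scheme.Opens.range_ι, hV]
  obtain ⟨c, hc⟩ : ∃ c : W.toScheme ⟶ V.toScheme, c ≫ V.ι = c₀ :=
    ⟨IsOpenImmersion.lift V.ι c₀ hrange, IsOpenImmersion.lift_fac _ _ _⟩
  haveI : Etale (c ≫ V.ι) := hc ▸ inferInstance
  haveI : Etale c := Etale.of_comp c V.ι
  haveI : Surjective c := ⟨fun v => by
    have hv : V.ι v ∈ Set.range c₀ := by rw [← hV]; exact v.2
    obtain ⟨w, hw⟩ := hv
    refine ⟨w, ?_⟩
    apply V.ι.injective
    rw [← Scheme.Hom.comp_apply, hc, hw]⟩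
  haveI : Etale (c ≫ V.ι ≫ g) := by
    have h3 : c ≫ V.ι ≫ g = X.homOfLE hWU ≫ U.ι ≫ f ≫ g := by
      rw [← Category.assoc, hc, hc₀, Category.assoc, ← X.homOfLE_ι_assoc hWU]
    rw [h3]
    infer_instance
  refine ⟨V, ?_, etale_of_comp_etale_surjective c (V.ι ≫ g)⟩
  show f x ∈ (V : Set Y)
  rw [hV]
  exact ⟨⟨x, hxW⟩, by rw [hc₀, Scheme.Hom.comp_apply]; rfl⟩

end Groth.Agent.Lib.EtaleCompH3
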