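import Mathlib
import Groth.Prelude
import Groth.Agent.Lib.PunctConn1_helper3
import Groth.Agent.Lib.IndEtaleTrans_helper3
import Groth.Agent.Lib.IndEtaleFib_helper3
import Groth.Agent.Lib.HensBranches6_helper3
import Groth.Agent.Lib.HensBranches8_helper3

/-!
# Localizations of a strict henselization at primes (helper3)

For a prime `Q` of a strict henselization `A` of `O` lying over `p`, the number of minimal primes
of `A_Q` is at most the number of geometric branches of `O_p`.
-/

set_option autoImplicit false
set_option maxSynthPendingDepth 3
universe u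

open TensorProduct IsLocalRing Polynomial

namespace Groth.Agent.Lib.PunctConnH3

open Groth.Agent.Lib.IndEtaleH3 Groth.Agent.Lib.StrictHens Groth.Agent.Lib.HensBranchesH3

/-- the residue field extension of a local ind-étale algebra is algebraic, in elementary form -/
theorem exists_monic_of_isIndEtale_local {R T : Type u} [CommRing R] [IsLocalRing R] [CommRing T]
    [IsLocalRing T] [Algebra R T] [IsLocalHom (algebraMap R T)] (hie : EtPBC.IsIndEtale R T)
    (s : T) :
    ∃ P : R[X], P.Monic ∧ Polynomial.eval₂ (algebraMap R T) s P ∈ maximalIdeal T := by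
  have hcomap : (maximalIdeal T).comap (algebraMap R T) = maximalIdeal R :=
    ((local_hom_TFAE (algebraMap R T)).out 0 4).mp (inferInstance : IsLocalHom (algebraMap R T))
  haveI : (maximalIdeal T).LiesOver (maximalIdeal R) := ⟨by
    rw [Ideal.under_def]
    exact hcomap.symm⟩
  letI := (Ideal.ResidueField.mapₐ (maximalIdeal R) (maximalIdeal T) (Algebra.ofId R T)
    ((maximalIdeal T).over_def (maximalIdeal R))).toRingHom.toAlgebra
  have hsep := isSeparable_residueField_of_isIndEtale hie (maximalIdeal R) (maximalIdeal T)
  have hint : IsIntegral (maximalIdeal R).ResidueField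
      (algebraMap T (maximalIdeal T).ResidueField s) :=
    (hsep.isSeparable _ (algebraMap T (maximalIdeal T).ResidueField s)).isIntegral
  obtain ⟨q, hq, hqs⟩ := hint
  have hsurj : Function.Surjective (algebraMap R (maximalIdeal R).ResidueField) :=
    Ideal.algebraMap_residueField_surjective _
  have hlift : q ∈ Polynomial.lifts (algebraMap R (maximalIdeal R).ResidueField) := by
    obtain ⟨p, hp⟩ := Polynomial.map_surjective _ hsurj q
    exact ⟨p, hp⟩
  obtain ⟨P, hPq, -, hP⟩ := Polynomial.lifts_and_natDegree_eq_and_monic hlift hq
  refine ⟨P, hP, ?_⟩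
  rw [← Ideal.algebraMap_residueField_eq_zero (I := maximalIdeal T), Polynomial.hom_eval₂]
  have h1 : (algebraMap T (maximalIdeal T).ResidueField).comp (algebraMap R T) =
      (algebraMap (maximalIdeal R).ResidueField (maximalIdeal T).ResidueField).comp
        (algebraMap R (maximalIdeal R).ResidueField) := by
    ext a
    exact (Ideal.ResidueField.map_algebraMap (maximalIdeal R) (maximalIdeal T)
      (Algebra.ofId R T : R →+* T) ((maximalIdeal T).over_def (maximalIdeal R)) a).symm
  rw [h1, ← Polynomial.eval₂_map, hPq]
  exact hqs

section Main

variable (O : Type u) [CommRing O] [IsLocalRing O] (A : Type u) [CommRing A] [IsLocalRing A]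
  [Algebra O A] [IsLocalHom (algebraMap O A)] [Hensel.IsStrictHenselization O A]

/-- **Localizations of a strict henselization have at most as many minimal primes as the local
ring below has geometric branches.** -/
theorem card_minimalPrimes_atPrime_le (Q : Ideal A) [Q.IsPrime] (p : Ideal O) [p.IsPrime]
    (hp : p = Q.comap (algebraMap O A)) :
    ENat.card (minimalPrimes (Localization.AtPrime Q)) ≤
      Brnch.numGeomBranches (Localization.AtPrime p) := by
  haveI := isStrictHenselization_shens (R := Localization.AtPrime Q)
  haveI hT : HenselianLocalRing (SHens (Localization.AtPrime Q)) :=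
    Hensel.IsStrictHenselization.henselian (Localization.AtPrime Q)
  haveI : Module.FaithfullyFlat (Localization.AtPrime Q) (SHens (Localization.AtPrime Q)) :=
    faithfullyFlat_of_isStrictHenselization (R := Localization.AtPrime Q) _
  have hLT : EtPBC.IsIndEtale (Localization.AtPrime Q) (SHens (Localization.AtPrime Q)) :=
    isIndEtale_of_isStrictHenselization (R := Localization.AtPrime Q) _
  have hOA : EtPBC.IsIndEtale O A := isIndEtale_of_isStrictHenselization (R := O) A
  have hAL : EtPBC.IsIndEtale A (Localization.AtPrime Q) :=
    isIndEtale_of_isLocalization Q.primeCompl _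
  haveI hsc : IsSepClosed (ResidueField (SHens (Localization.AtPrime Q))) :=
    (Hensel.IsStrictHenselization.isSepClosure (R := Localization.AtPrime Q)
      (S := SHens (Localization.AtPrime Q))).sep_closed
  obtain ⟨T, hTdef⟩ : ∃ T : Type u, T = SHens (Localization.AtPrime Q) := ⟨_, rfl⟩
  have hOL : EtPBC.IsIndEtale O (Localization.AtPrime Q) :=
    isIndEtale_trans O A (Localization.AtPrime Q) hOA hAL
  letI aOT : Algebra O (SHens (Localization.AtPrime Q)) :=
    ((algebraMap (Localization.AtPrime Q) (SHens (Localization.AtPrime Q))).comp
      (algebraMap O (Localization.AtPrime Q))).toAlgebra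
  haveI : IsScalarTower O (Localization.AtPrime Q) (SHens (Localization.AtPrime Q)) :=
    IsScalarTower.of_algebraMap_eq' rfl
  have hOT : EtPBC.IsIndEtale O (SHens (Localization.AtPrime Q)) :=
    isIndEtale_trans O (Localization.AtPrime Q) _ hOL hLT
  letI aRL : Algebra (Localization.AtPrime p) (Localization.AtPrime Q) :=
    (Localization.localRingHom p Q (algebraMap O A) hp).toAlgebra
  letI aRT : Algebra (Localization.AtPrime p) (SHens (Localization.AtPrime Q)) :=
    ((algebraMap (Localization.AtPrime Q) (SHens (Localization.AtPrime Q))).comp
      (algebraMap (Localization.AtPrime p) (Localization.AtPrime Q))).toAlgebra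
  haveI : IsScalarTower (Localization.AtPrime p) (Localization.AtPrime Q)
      (SHens (Localization.AtPrime Q)) := IsScalarTower.of_algebraMap_eq' rfl
  haveI : IsScalarTower O (Localization.AtPrime p) (SHens (Localization.AtPrime Q)) :=
    IsScalarTower.of_algebraMap_eq (fun a => by
      show algebraMap (Localization.AtPrime Q) (SHens (Localization.AtPrime Q))
          (algebraMap O (Localization.AtPrime Q) a) =
        algebraMap (Localization.AtPrime Q) (SHens (Localization.AtPrime Q))
          (Localization.localRingHom p Q (algebraMap O A) hp (algebraMap O _ a))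
      rw [Localization.localRingHom_to_map]
      rfl)
  have hOR : EtPBC.IsIndEtale O (Localization.AtPrime p) :=
    isIndEtale_of_isLocalization p.primeCompl _
  have hRT : EtPBC.IsIndEtale (Localization.AtPrime p) (SHens (Localization.AtPrime Q)) :=
    isIndEtale_cancel O (Localization.AtPrime p) _ hOR hOT
  haveI hloc1 : IsLocalHom (algebraMap (Localization.AtPrime p) (Localization.AtPrime Q)) :=
    Localization.isLocalHom_localRingHom p Q (algebraMap O A) hp
  haveI hloc : IsLocalHom (algebraMap (Localization.AtPrime p)
      (SHens (Localization.AtPrime Q))) := by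
    show IsLocalHom ((algebraMap (Localization.AtPrime Q) (SHens (Localization.AtPrime Q))).comp
      (algebraMap (Localization.AtPrime p) (Localization.AtPrime Q)))
    exact RingHom.isLocalHom_comp _ _
  haveI : Module.Flat (Localization.AtPrime p) (SHens (Localization.AtPrime Q)) :=
    flat_of_isIndEtale hRT
  haveI : Module.FaithfullyFlat (Localization.AtPrime p) (SHens (Localization.AtPrime Q)) :=
    Module.FaithfullyFlat.of_flat_of_isLocalHom
  have key := card_minimalPrimes_eq_numGeomBranches (Localization.AtPrime p)
    (SHens (Localization.AtPrime Q)) hRT (exists_monic_of_isIndEtale_local hRT)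
  rw [← key]
  exact card_minimalPrimes_le_of_faithfullyFlat

end Main

end Groth.Agent.Lib.PunctConnH3
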