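import Mathlib
import Groth.Prelude
import Groth.Agent.Lib.PunctConn2_helper3
import Groth.Agent.Lib.HensBranches7_helper3
import Groth.Agent.Lib.IndEtaleLoc1_helper3
import Groth.Agent.Lib.StrictHens8_helper3

/-!
# Geometric unibranchness and connectedness of punctured spectra (helper3)
-/

set_option autoImplicit false
set_option maxSynthPendingDepth 3
universe u

open TensorProduct IsLocalRing Polynomial

namespace Groth.Agent.Lib.PunctConnH3

open Groth.Agent.Lib.IndEtaleH3 Groth.Agent.Lib.StrictHens Groth.Agent.Lib.HensBranchesH3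

section Ring

variable (A : Type u) [CommRing A] [IsLocalRing A]

/-- two distinct minimal primes below a prime `Q` give two distinct minimal primes of `A_Q` -/
theorem eq_of_card_minimalPrimes_atPrime_le_one {A : Type u} [CommRing A] (Q : Ideal A)
    [Q.IsPrime]
    (h : ENat.card (minimalPrimes (Localization.AtPrime Q)) ≤ 1)
    (P₁ P₂ : Ideal A) (h₁ : P₁ ∈ minimalPrimes A) (h₂ : P₂ ∈ minimalPrimes A)
    (h₁Q : P₁ ≤ Q) (h₂Q : P₂ ≤ Q) : P₁ = P₂ := by
  haveI := (ENat.card_le_one_iff_subsingleton _).mp h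
  haveI hP₁ : P₁.IsPrime := h₁.1.1
  haveI hP₂ : P₂.IsPrime := h₂.1.1
  have hd₁ : Disjoint (Q.primeCompl : Set A) (P₁ : Set A) := by
    rw [Set.disjoint_left]
    intro a ha ha'
    exact ha (h₁Q ha')
  have hd₂ : Disjoint (Q.primeCompl : Set A) (P₂ : Set A) := by
    rw [Set.disjoint_left]
    intro a ha ha'
    exact ha (h₂Q ha')
  have hmin := IsLocalization.minimalPrimes_map Q.primeCompl (Localization.AtPrime Q)
    (⊥ : Ideal A)
  rw [Ideal.map_bot] at hmin
  have hu₁ : (P₁.map (algebraMap A (Localization.AtPrime Q))).under A = P₁ :=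
    IsLocalization.under_map_of_isPrime_disjoint Q.primeCompl _ hP₁ hd₁
  have hu₂ : (P₂.map (algebraMap A (Localization.AtPrime Q))).under A = P₂ :=
    IsLocalization.under_map_of_isPrime_disjoint Q.primeCompl _ hP₂ hd₂
  have hm₁ : P₁.map (algebraMap A (Localization.AtPrime Q)) ∈
      minimalPrimes (Localization.AtPrime Q) := by
    show _ ∈ (⊥ : Ideal (Localization.AtPrime Q)).minimalPrimes
    rw [hmin, Set.mem_preimage, hu₁]
    exact h₁
  have hm₂ : P₂.map (algebraMap A (Localization.AtPrime Q)) ∈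
      minimalPrimes (Localization.AtPrime Q) := by
    show _ ∈ (⊥ : Ideal (Localization.AtPrime Q)).minimalPrimes
    rw [hmin, Set.mem_preimage, hu₂]
    exact h₂
  have heq : (⟨_, hm₁⟩ : minimalPrimes (Localization.AtPrime Q)) = ⟨_, hm₂⟩ :=
    Subsingleton.elim _ _
  have heq' := congrArg Subtype.val heq
  simp only at heq'
  rw [← hu₁, ← hu₂, heq']

/-- **If the punctured spectrum of a Noetherian local ring is connected and all the localizations
at non-maximal primes have at most one minimal prime, then the ring has exactly one minimal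
prime.** -/
theorem card_minimalPrimes_eq_one_of_connected [IsNoetherianRing A]
    (hloc : ∀ (Q : Ideal A) [Q.IsPrime], Q ≠ maximalIdeal A →
      ENat.card (minimalPrimes (Localization.AtPrime Q)) ≤ 1)
    (hconn : ConnectedSpace ↥({closedPoint A}ᶜ : Set (PrimeSpectrum A))) :
    ENat.card (minimalPrimes A) = 1 := by
  obtain ⟨P₁, hP₁, -⟩ := Ideal.exists_minimalPrimes_le (bot_le : (⊥ : Ideal A) ≤ maximalIdeal A)
  have hP₁' : P₁ ∈ minimalPrimes A := hP₁
  haveI hP₁p : P₁.IsPrime := hP₁.1.1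
  rw [ENat.card_eq_one_iff_unique]
  refine ⟨⟨⟨⟨P₁, hP₁'⟩⟩, ?_⟩⟩
  rintro ⟨P₂, hP₂⟩
  apply Subtype.ext
  show P₂ = P₁
  by_contra hne
  haveI hP₂p : P₂.IsPrime := hP₂.1.1
  have hfin : (minimalPrimes A).Finite := minimalPrimes.finite_of_isNoetherianRing A
  -- neither is the maximal ideal
  have hne₁ : P₁ ≠ maximalIdeal A := by
    intro h
    apply hne
    have hle : P₂ ≤ P₁ := h ▸ IsLocalRing.le_maximalIdeal hP₂p.ne_top
    exact le_antisymm hle (hP₁.2 ⟨hP₂p, bot_le⟩ hle)
  have hne₂ : P₂ ≠ maximalIdeal A := by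
    intro h
    apply hne
    have hle : P₁ ≤ P₂ := h ▸ IsLocalRing.le_maximalIdeal hP₁p.ne_top
    exact (le_antisymm hle (hP₂.2 ⟨hP₁p, bot_le⟩ hle)).symm
  have hU : IsPreconnected ({closedPoint A}ᶜ : Set (PrimeSpectrum A)) :=
    (isConnected_iff_connectedSpace.mpr hconn).isPreconnected
  rw [isPreconnected_closed_iff] at hU
  have hcl₁ : IsClosed (PrimeSpectrum.zeroLocus (P₁ : Set A)) :=
    PrimeSpectrum.isClosed_zeroLocus _
  have hcl₂ : IsClosed (⋃ P ∈ (minimalPrimes A \ {P₁}),
      PrimeSpectrum.zeroLocus ((P : Ideal A) : Set A)) :=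
    (hfin.subset Set.diff_subset).isClosed_biUnion fun P _ => PrimeSpectrum.isClosed_zeroLocus _
  have hcov : ({closedPoint A}ᶜ : Set (PrimeSpectrum A)) ⊆
      PrimeSpectrum.zeroLocus (P₁ : Set A) ∪ ⋃ P ∈ (minimalPrimes A \ {P₁}),
        PrimeSpectrum.zeroLocus ((P : Ideal A) : Set A) := by
    intro x _
    obtain ⟨P, hP, hPx⟩ := Ideal.exists_minimalPrimes_le (bot_le : (⊥ : Ideal A) ≤ x.asIdeal)
    by_cases hPP : P = P₁
    · left
      rw [PrimeSpectrum.mem_zeroLocus]
      exact hPP ▸ hPx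
    · right
      simp only [Set.mem_iUnion]
      exact ⟨P, ⟨hP, hPP⟩, by rw [PrimeSpectrum.mem_zeroLocus]; exact hPx⟩
  have hn₁ : (({closedPoint A}ᶜ : Set (PrimeSpectrum A)) ∩
      PrimeSpectrum.zeroLocus (P₁ : Set A)).Nonempty := by
    refine ⟨⟨P₁, hP₁p⟩, ?_, ?_⟩
    · intro h
      apply hne₁
      exact congrArg PrimeSpectrum.asIdeal h
    · rw [PrimeSpectrum.mem_zeroLocus]
  have hn₂ : (({closedPoint A}ᶜ : Set (PrimeSpectrum A)) ∩
      ⋃ P ∈ (minimalPrimes A \ {P₁}), PrimeSpectrum.zeroLocus ((P : Ideal A) : Set A)).Nonempty := by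
    refine ⟨⟨P₂, hP₂p⟩, ?_, ?_⟩
    · intro h
      apply hne₂
      exact congrArg PrimeSpectrum.asIdeal h
    · simp only [Set.mem_iUnion]
      exact ⟨P₂, ⟨hP₂, hne⟩, by rw [PrimeSpectrum.mem_zeroLocus]⟩
  obtain ⟨x, hxU, hx₁, hx₂⟩ := hU _ _ hcl₁ hcl₂ hcov hn₁ hn₂
  simp only [Set.mem_iUnion] at hx₂
  obtain ⟨P, ⟨hP, hPP⟩, hPx⟩ := hx₂
  rw [PrimeSpectrum.mem_zeroLocus] at hx₁ hPx
  have hxm : x.asIdeal ≠ maximalIdeal A := by
    intro h
    apply hxU
    exact PrimeSpectrum.ext h
  exact hPP (eq_of_card_minimalPrimes_atPrime_le_one x.asIdeal (hloc x.asIdeal hxm) P P₁ hP hP₁'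
    hPx hx₁)

end Ring

section Strict

variable (O : Type u) [CommRing O] [IsLocalRing O] (A : Type u) [CommRing A] [IsLocalRing A]
  [Algebra O A] [IsLocalHom (algebraMap O A)] [Hensel.IsStrictHenselization O A]

theorem comap_maximalIdeal_eq : (maximalIdeal A).comap (algebraMap O A) = maximalIdeal O :=
  ((local_hom_TFAE (algebraMap O A)).out 0 4).mp (inferInstance : IsLocalHom (algebraMap O A))

/-- a prime of the strict henselization over the maximal ideal is the maximal ideal -/
theorem eq_maximalIdeal_of_comap_eq (Q : Ideal A) [Q.IsPrime]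
    (h : Q.comap (algebraMap O A) = maximalIdeal O) : Q = maximalIdeal A := by
  have hOA : EtPBC.IsIndEtale O A := isIndEtale_of_isStrictHenselization (R := O) A
  exact prime_eq_of_le_of_isIndEtale hOA Q (maximalIdeal A)
    (IsLocalRing.le_maximalIdeal (Ideal.IsPrime.ne_top inferInstance))
    (by rw [h, comap_maximalIdeal_eq])

/-- **A zero-dimensional local ring is geometrically unibranch.** -/
theorem isGeomUnibranch_of_maximalIdeal_mem_minimalPrimes
    (hmin : maximalIdeal O ∈ minimalPrimes O) : CAlg2.IsGeomUnibranch O := by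
  haveI := isStrictHenselization_shens (R := O)
  rw [← numGeomBranches_eq_one_iff, ← card_minimalPrimes_strictHenselization O (SHens O),
    ENat.card_eq_one_iff_unique]
  have hall : ∀ P ∈ minimalPrimes (SHens O), P = maximalIdeal (SHens O) := by
    intro P hP
    haveI : P.IsPrime := hP.1.1
    apply eq_maximalIdeal_of_comap_eq O (SHens O) P
    have hle : P.comap (algebraMap O (SHens O)) ≤ maximalIdeal O :=
      IsLocalRing.le_maximalIdeal (Ideal.IsPrime.ne_top inferInstance)
    exact le_antisymm hle (hmin.2 ⟨inferInstance, bot_le⟩ hle)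
  obtain ⟨P₁, hP₁, -⟩ := Ideal.exists_minimalPrimes_le
    (bot_le : (⊥ : Ideal (SHens O)) ≤ maximalIdeal (SHens O))
  refine ⟨⟨⟨⟨P₁, hP₁⟩⟩, ?_⟩⟩
  rintro ⟨P₂, hP₂⟩
  apply Subtype.ext
  show P₂ = P₁
  rw [hall P₂ hP₂, hall P₁ hP₁]

/-- **(⇐)**: if all proper localizations of a Noetherian local ring are geometrically unibranch
and the punctured spectrum of its strict henselization is connected, then the ring is
geometrically unibranch. -/
theorem isGeomUnibranch_of_connected [IsNoetherianRing O]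
    (hloc : ∀ (p : Ideal O) [p.IsPrime], p ≠ maximalIdeal O →
      Brnch.numGeomBranches (Localization.AtPrime p) = 1)
    (hconn : ConnectedSpace ↥({closedPoint A}ᶜ : Set (PrimeSpectrum A))) :
    CAlg2.IsGeomUnibranch O := by
  rw [← numGeomBranches_eq_one_iff, ← card_minimalPrimes_strictHenselization O A]
  haveI : IsNoetherianRing A :=
    (isNoetherianRing_iff_of_isStrictHenselization (R := O) A).mp inferInstance
  apply card_minimalPrimes_eq_one_of_connected A _ hconn
  intro Q _ hQ
  have h1 := card_minimalPrimes_atPrime_le O A Q (Q.comap (algebraMap O A)) rfl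
  rw [hloc _ (fun h => hQ (eq_maximalIdeal_of_comap_eq O A Q h))] at h1
  exact h1

/-- **(⇒)**: the punctured spectrum of the strict henselization of a geometrically unibranch
local ring of positive dimension is connected. -/
theorem connectedSpace_punctured_of_isGeomUnibranch (h : CAlg2.IsGeomUnibranch O)
    (hdim : maximalIdeal O ∉ minimalPrimes O) :
    ConnectedSpace ↥({closedPoint A}ᶜ : Set (PrimeSpectrum A)) := by
  rw [← numGeomBranches_eq_one_iff, ← card_minimalPrimes_strictHenselization O A,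
    ENat.card_eq_one_iff_unique] at h
  obtain ⟨u⟩ := h
  obtain ⟨P, hP⟩ : ∃ P : Ideal A, P ∈ minimalPrimes A := ⟨u.default.1, u.default.2⟩
  have huniq : ∀ P' ∈ minimalPrimes A, P' = P := fun P' hP' =>
    congrArg Subtype.val ((u.uniq ⟨P', hP'⟩).trans (u.uniq ⟨P, hP⟩).symm)
  haveI hPp : P.IsPrime := hP.1.1
  have hOA : EtPBC.IsIndEtale O A := isIndEtale_of_isStrictHenselization (R := O) A
  have hPm : P ≠ maximalIdeal A := by
    intro hPm
    apply hdim
    have := comap_mem_minimalPrimes' hOA P hP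
    rwa [hPm, comap_maximalIdeal_eq] at this
  rw [← isConnected_iff_connectedSpace]
  have hmem : (⟨P, hPp⟩ : PrimeSpectrum A) ∈ ({closedPoint A}ᶜ : Set (PrimeSpectrum A)) := by
    intro h
    apply hPm
    exact congrArg PrimeSpectrum.asIdeal h
  refine ⟨⟨_, hmem⟩, ?_⟩
  apply (isPreconnected_singleton (x := (⟨P, hPp⟩ : PrimeSpectrum A))).subset_closure
  · rw [Set.singleton_subset_iff]
    exact hmem
  · intro x _
    rw [PrimeSpectrum.closure_singleton, PrimeSpectrum.mem_zeroLocus]
    obtain ⟨P', hP', hP'x⟩ := Ideal.exists_minimalPrimes_le (bot_le : (⊥ : Ideal A) ≤ x.asIdeal)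
    rw [huniq P' hP'] at hP'x
    exact hP'x

end Strict

end Groth.Agent.Lib.PunctConnH3
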