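import Mathlib
import Groth.Prelude
import Groth.Agent.Lib.UnramGU4_helper3
import Groth.Agent.Lib.SmoothUnibranch3_helper3
import Groth.Agent.Lib.PunctConn3_helper3

/-!
# Étaleness of a morphism of smooth curves at a closed point (helper3)

`main19541`: for integral smooth curves `X`, `Y` over an algebraically closed field and a closed
point `x` of `X`, `φ : X ⟶ Y` is étale near `x` iff `m_{φ x} 𝒪_{X,x} = m_x`.
-/

set_option autoImplicit false
universe u
open CategoryTheory AlgebraicGeometry IsLocalRing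

namespace Groth.Agent.Lib.EtaleCurvePtH3

theorem ringKrullDim_stalk_le (X : Scheme.{u}) (x : X) :
    ringKrullDim (X.presheaf.stalk x) ≤ topologicalKrullDim X := by
  obtain ⟨V, hV, hxV, -⟩ := exists_isAffineOpen_mem_and_subset (x := x) (U := ⊤) trivial
  letI := X.presheaf.algebra_section_stalk ⟨x, hxV⟩
  haveI := hV.isLocalization_stalk ⟨x, hxV⟩
  rw [IsLocalization.AtPrime.ringKrullDim_eq_height (hV.primeIdealOf ⟨x, hxV⟩).asIdeal]
  have h1 : ((hV.primeIdealOf ⟨x, hxV⟩).asIdeal.height : WithBot ℕ∞) ≤ ringKrullDim Γ(X, V) :=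
    Ideal.height_le_ringKrullDim_of_ne_top (Ideal.IsPrime.ne_top inferInstance)
  have h2 : ringKrullDim Γ(X, V) ≤ topologicalKrullDim X := by
    rw [← PrimeSpectrum.topologicalKrullDim_eq_ringKrullDim]
    exact hV.fromSpec.isOpenEmbedding.isInducing.topologicalKrullDim_le
  exact h1.trans h2

/-- the local rings of a scheme smooth over a field are geometrically unibranch -/
theorem isGeomUnibranch_stalk_of_smooth_field (K : Type u) [Field K] {Y : Scheme.{u}}
    (pY : Y ⟶ Spec (CommRingCat.of K)) [Smooth pY] (y : Y) :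
    CAlg2.IsGeomUnibranch (Y.presheaf.stalk y) := by
  apply Groth.Agent.Lib.SmoothUnibranchH3.isGeomUnibranch_stalk_of_smooth pY y
  apply Groth.Agent.Lib.PunctConnH3.isGeomUnibranch_of_maximalIdeal_mem_minimalPrimes
  have hy : pY y = genericPoint (Spec (CommRingCat.of K)) := Subsingleton.elim _ _
  have hF : IsField ((Spec (CommRingCat.of K)).presheaf.stalk (pY y)) :=
    Groth.Agent.Lib.UnramGUH3.isField_stalk_of_eq_genericPoint _ hy
  have hbot : maximalIdeal ((Spec (CommRingCat.of K)).presheaf.stalk (pY y)) = ⊥ :=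
    IsLocalRing.isField_iff_maximalIdeal_eq.mp hF
  rw [hbot]
  letI := hF.toField
  exact ⟨⟨Ideal.isPrime_bot, bot_le⟩, fun J _ _ => bot_le⟩

theorem maximalIdeal_ne_bot_of_isClosed {X : Scheme.{u}} [IsIntegral X]
    (hd : topologicalKrullDim X = 1) (x : X) (hx : IsClosed ({x} : Set X)) :
    maximalIdeal (X.presheaf.stalk x) ≠ ⊥ := by
  intro h
  have hxg : x = genericPoint X := by
    have hf : IsField (X.presheaf.stalk x) := IsLocalRing.isField_iff_maximalIdeal_eq.mpr h
    have h0 : ringKrullDim (X.presheaf.stalk x) = 0 := ringKrullDim_eq_zero_of_isField hf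
    rw [ringKrullDim_stalk_eq_coheight] at h0
    have h1 : Order.coheight x = 0 := by exact_mod_cast h0
    have hmax : IsMax x := Order.coheight_eq_zero.mp h1
    have h3 : x ≤ genericPoint X := genericPoint_specializes x
    have h4 : genericPoint X ≤ x := hmax h3
    exact (Specializes.antisymm h3 h4).eq.symm
  have huniv : (Set.univ : Set X) = {x} := by
    have h1 : closure ({x} : Set X) = Set.univ := by
      rw [hxg]
      exact (genericPoint_spec X).def
    rw [← h1, hx.closure_eq]
  haveI : Subsingleton (TopologicalSpace.IrreducibleCloseds X) := by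
    refine ⟨fun Z₁ Z₂ => ?_⟩
    have key : ∀ Z : TopologicalSpace.IrreducibleCloseds X, (Z : Set X) = {x} := by
      intro Z
      have h1 : (Z : Set X) ⊆ {x} := by rw [← huniv]; exact Set.subset_univ _
      exact (Set.Nonempty.subset_singleton_iff Z.isIrreducible'.nonempty).mp h1
    apply SetLike.coe_injective
    rw [key Z₁, key Z₂]
  have h2 : topologicalKrullDim X ≤ 0 := Order.krullDim_nonpos_of_subsingleton
  rw [hd] at h2
  exact absurd h2 (by norm_num)

theorem residueFieldMap_surjective (K : Type u) [Field K] [IsAlgClosed K] {X Y : Scheme.{u}}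
    (pX : X ⟶ Spec (CommRingCat.of K)) (pY : Y ⟶ Spec (CommRingCat.of K)) (φ : X ⟶ Y)
    (w : φ ≫ pY = pX) [LocallyOfFiniteType pX] (x : X) (hx : IsClosed ({x} : Set X)) :
    Function.Surjective (φ.residueFieldMap x).hom := by
  have h1 : Spec.map (residueFieldIsoBase pX x hx).inv = X.fromSpecResidueField x ≫ pX :=
    SpecMap_residueFieldIsoBase_inv pX x hx
  obtain ⟨ψ, hψ⟩ : ∃ ψ : CommRingCat.of K ⟶ Y.residueField (φ x),
      Spec.map ψ = Y.fromSpecResidueField (φ x) ≫ pY :=
    ⟨Spec.preimage (Y.fromSpecResidueField (φ x) ≫ pY), Spec.map_preimage _⟩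
  have h2 : (residueFieldIsoBase pX x hx).inv = ψ ≫ φ.residueFieldMap x := by
    apply Spec.map_injective
    rw [h1, Spec.map_comp, hψ, ← w,
      Scheme.Hom.SpecMap_residueFieldMap_fromSpecResidueField_assoc]
  intro b
  obtain ⟨a, ha⟩ := (ConcreteCategory.bijective_of_isIso (residueFieldIsoBase pX x hx).inv).2 b
  refine ⟨ψ a, ?_⟩
  rw [← ha, h2]
  rfl

theorem main19541 (k : Type u) [Field k] [IsAlgClosed k] {X Y : Scheme.{u}}
    (pX : X ⟶ Spec (CommRingCat.of k)) (pY : Y ⟶ Spec (CommRingCat.of k)) (φ : X ⟶ Y)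
    (w : φ ≫ pY = pX)
    [IsIntegral X] [Smooth pX] (hdX : topologicalKrullDim X = 1)
    [IsIntegral Y] [Smooth pY] (hdY : topologicalKrullDim Y = 1)
    (x : X) (hx : IsClosed ({x} : Set X)) :
    (∃ U : X.Opens, x ∈ U ∧ Etale (U.ι ≫ φ)) ↔
      Ideal.map (φ.stalkMap x).hom (maximalIdeal (Y.presheaf.stalk (φ.base x))) =
        maximalIdeal (X.presheaf.stalk x) := by
  haveI : LocallyOfFiniteType (φ ≫ pY) := by rw [w]; infer_instance
  haveI : LocallyOfFiniteType φ := locallyOfFiniteType_of_comp φ pY
  have hess : (φ.stalkMap x).hom.EssFiniteType := LocallyOfFiniteType.stalkMap φ x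
  constructor
  · rintro ⟨U, hxU, hU⟩
    have hunr : (φ.stalkMap x).hom.FormallyUnramified :=
      Groth.Agent.Lib.UnramGUH3.formallyUnramified_stalkMap_of_nhd φ x ⟨U, hxU, inferInstance⟩
    algebraize [(φ.stalkMap x).hom]
    haveI : IsLocalHom (algebraMap (Y.presheaf.stalk (φ x)) (X.presheaf.stalk x)) :=
      inferInstanceAs <| IsLocalHom (φ.stalkMap x).hom
    exact Algebra.FormallyUnramified.map_maximalIdeal
  · intro hmap
    have hGU := isGeomUnibranch_stalk_of_smooth_field k pY (φ x)
    have hunr : (φ.stalkMap x).hom.FormallyUnramified := by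
      algebraize [(φ.stalkMap x).hom]
      haveI : IsLocalHom (algebraMap (Y.presheaf.stalk (φ x)) (X.presheaf.stalk x)) :=
        inferInstanceAs <| IsLocalHom (φ.stalkMap x).hom
      haveI : Algebra.IsSeparable (ResidueField (Y.presheaf.stalk (φ x)))
          (ResidueField (X.presheaf.stalk x)) := by
        have hs : Function.Surjective (algebraMap (ResidueField (Y.presheaf.stalk (φ x)))
            (ResidueField (X.presheaf.stalk x))) :=
          residueFieldMap_surjective k pX pY φ w x hx
        refine ⟨fun b => ?_⟩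
        obtain ⟨a, rfl⟩ := hs b
        exact isSeparable_algebraMap a
      exact Algebra.FormallyUnramified.of_map_maximalIdeal hmap
    have hinj : Function.Injective (φ.stalkMap x).hom := by
      have hdA : ringKrullDim (Y.presheaf.stalk (φ x)) ≤ 1 :=
        (ringKrullDim_stalk_le Y (φ x)).trans hdY.le
      haveI hKD : Ring.KrullDimLE 1 (Y.presheaf.stalk (φ x)) := Ring.krullDimLE_iff.mpr hdA
      haveI hP : (RingHom.ker (φ.stalkMap x).hom).IsPrime := RingHom.ker_isPrime _
      rw [RingHom.injective_iff_ker_eq_bot]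
      rcases Ring.krullDimLE_one_iff.mp hKD _ hP with hmin | hmax
      · exact le_bot_iff.mp (hmin.2 ⟨Ideal.isPrime_bot, bot_le⟩ bot_le)
      · exfalso
        have h1 : RingHom.ker (φ.stalkMap x).hom = maximalIdeal (Y.presheaf.stalk (φ x)) :=
          eq_maximalIdeal hmax
        apply maximalIdeal_ne_bot_of_isClosed hdX x hx
        rw [← hmap, ← h1, Ideal.map_eq_bot_iff_le_ker]
    exact Groth.Agent.Lib.UnramGUH3.exists_etale_nhd φ x inferInstance hGU hunr hinj
      (Or.inl inferInstance)

end Groth.Agent.Lib.EtaleCurvePtH3
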