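import Mathlib
import Groth.Agent.Lib.EtaleDiffCrit2_helper3

/-!
# Étale at a rational-type point over a polynomial ring ⟺ the coordinates generate the maximal
ideal (helper3)
-/

set_option autoImplicit false
universe u

namespace Groth.Agent.Lib.EtaleDiffCritH3

open KaehlerDifferential IsLocalRing

section

variable (k : Type u) [Field k] (n : ℕ) (A : Type u) [CommRing A] [Algebra k A]
  [Algebra (MvPolynomial (Fin n) k) A] [IsScalarTower k (MvPolynomial (Fin n) k) A]

theorem under_eq_span_X (p : Ideal A) [p.IsPrime]
    (hg : ∀ i : Fin n, algebraMap (MvPolynomial (Fin n) k) A (MvPolynomial.X i) ∈ p) :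
    p.under (MvPolynomial (Fin n) k) = Ideal.span (Set.range MvPolynomial.X) := by
  have hle : Ideal.span (Set.range (MvPolynomial.X : Fin n → MvPolynomial (Fin n) k))
      ≤ p.under (MvPolynomial (Fin n) k) := by
    rw [Ideal.span_le]
    rintro _ ⟨i, rfl⟩
    exact hg i
  refine le_antisymm ?_ hle
  intro f hf
  have h1 : f - MvPolynomial.C (MvPolynomial.constantCoeff f)
      ∈ MvPolynomial.idealOfVars (Fin n) k := by
    have := (MvPolynomial.mem_pow_idealOfVars_iff' (σ := Fin n) (R := k) 1
      (f - MvPolynomial.C (MvPolynomial.constantCoeff f))).2 (by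
        intro x hx
        have hx0 : x = 0 := by
          have : Finsupp.degree x = 0 := by omega
          exact (Finsupp.degree_eq_zero_iff x).1 this
        subst hx0
        simp [MvPolynomial.constantCoeff_eq])
    rwa [pow_one] at this
  have h2 : MvPolynomial.C (MvPolynomial.constantCoeff f) ∈ p.under (MvPolynomial (Fin n) k) := by
    have : MvPolynomial.C (MvPolynomial.constantCoeff f)
        = f - (f - MvPolynomial.C (MvPolynomial.constantCoeff f)) := by ring
    rw [this]
    exact Ideal.sub_mem _ hf (hle h1)
  have h3 : MvPolynomial.constantCoeff f = 0 := by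
    by_contra hne
    have hu : IsUnit (MvPolynomial.C (σ := Fin n) (MvPolynomial.constantCoeff f)) :=
      (isUnit_iff_ne_zero.2 hne).map MvPolynomial.C
    exact (Ideal.IsPrime.ne_top inferInstance) (Ideal.eq_top_of_isUnit_mem _ h2 hu)
  rw [h3, map_zero, sub_zero] at h1
  exact h1

end

end Groth.Agent.Lib.EtaleDiffCritH3
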