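import Mathlib
import Groth.Agent.Lib.EtaleDiffCrit3_helper3

/-!
# Coordinate primes of polynomial rings; étale at a prime via parameters and residue differentials
(helper3)
-/

set_option autoImplicit false
universe u

namespace Groth.Agent.Lib.EtaleDiffCritH3

open KaehlerDifferential IsLocalRing

section Poly

variable (k : Type u) [Field k] (n : ℕ)

open Classical in
/-- the endomorphism of the polynomial ring killing the variables in `s` -/
noncomputable def killVars (s : Set (Fin n)) : MvPolynomial (Fin n) k →ₐ[k] MvPolynomial (Fin n) k :=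
  MvPolynomial.aeval (fun i => if i ∈ s then 0 else MvPolynomial.X i)

theorem sub_killVars_mem (s : Set (Fin n)) (f : MvPolynomial (Fin n) k) :
    f - killVars k n s f ∈ Ideal.span (MvPolynomial.X '' s : Set (MvPolynomial (Fin n) k)) := by
  classical
  induction f using MvPolynomial.induction_on with
  | C a =>
    simp [killVars]
  | add f g hf hg =>
    have : f + g - killVars k n s (f + g) = (f - killVars k n s f) + (g - killVars k n s g) := by
      rw [map_add]; ring
    rw [this]
    exact Ideal.add_mem _ hf hg
  | mul_X f i hf =>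
    by_cases hi : i ∈ s
    · have h1 : killVars k n s (f * MvPolynomial.X i) = 0 := by
        rw [map_mul]
        simp [killVars, hi]
      rw [h1, sub_zero]
      exact Ideal.mul_mem_left _ _ (Ideal.subset_span ⟨i, hi, rfl⟩)
    · have h1 : killVars k n s (f * MvPolynomial.X i) = killVars k n s f * MvPolynomial.X i := by
        rw [map_mul]
        simp [killVars, hi]
      rw [h1, ← sub_mul]
      exact Ideal.mul_mem_right _ _ hf

theorem ker_killVars (s : Set (Fin n)) :
    RingHom.ker (killVars k n s).toRingHom
      = Ideal.span (MvPolynomial.X '' s : Set (MvPolynomial (Fin n) k)) := by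
  classical
  apply le_antisymm
  · intro f hf
    have h1 := sub_killVars_mem k n s f
    have h2 : killVars k n s f = 0 := hf
    rwa [h2, sub_zero] at h1
  · rw [Ideal.span_le]
    rintro _ ⟨i, hi, rfl⟩
    change killVars k n s (MvPolynomial.X i) = 0
    simp [killVars, hi]

theorem isPrime_span_X_image (s : Set (Fin n)) :
    (Ideal.span (MvPolynomial.X '' s : Set (MvPolynomial (Fin n) k))).IsPrime := by
  rw [← ker_killVars]
  exact RingHom.ker_isPrime _

theorem X_mem_span_X_image_iff (s : Set (Fin n)) (j : Fin n) :
    (MvPolynomial.X j : MvPolynomial (Fin n) k)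
      ∈ Ideal.span (MvPolynomial.X '' s : Set (MvPolynomial (Fin n) k)) ↔ j ∈ s := by
  classical
  rw [MvPolynomial.mem_ideal_span_X_image]
  constructor
  · intro h
    obtain ⟨i, his, hi⟩ := h (Finsupp.single j 1) (by
      rw [MvPolynomial.mem_support_iff, MvPolynomial.coeff_X, if_pos rfl]
      exact (one_ne_zero : (1 : k) ≠ 0))
    have : i = j := by
      by_contra hne
      exact hi (Finsupp.single_eq_of_ne hne)
    exact this ▸ his
  · intro hj m hm
    refine ⟨j, hj, ?_⟩
    rw [MvPolynomial.mem_support_iff, MvPolynomial.coeff_X'] at hm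
    have : Finsupp.single j 1 = m := by
      by_contra hne
      exact hm (if_neg hne)
    rw [← this]
    simp

theorem le_height_span_X_image (j : ℕ) (hj : j ≤ n) :
    (j : ℕ∞) ≤ (Ideal.span (MvPolynomial.X '' {i : Fin n | (i : ℕ) < j} :
      Set (MvPolynomial (Fin n) k))).height := by
  induction j with
  | zero => simp
  | succ j ih =>
    haveI := isPrime_span_X_image k n {i : Fin n | (i : ℕ) < j}
    haveI := isPrime_span_X_image k n {i : Fin n | (i : ℕ) < j + 1}
    have hlt : Ideal.span (MvPolynomial.X '' {i : Fin n | (i : ℕ) < j} :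
        Set (MvPolynomial (Fin n) k))
        < Ideal.span (MvPolynomial.X '' {i : Fin n | (i : ℕ) < j + 1}) := by
      refine lt_of_le_of_ne (Ideal.span_mono (Set.image_mono fun i hi => ?_)) ?_
      · exact Nat.lt_succ_of_lt hi
      · intro heq
        have h1 : (MvPolynomial.X ⟨j, hj⟩ : MvPolynomial (Fin n) k)
            ∈ Ideal.span (MvPolynomial.X '' {i : Fin n | (i : ℕ) < j + 1}) :=
          (X_mem_span_X_image_iff k n _ _).2 (Nat.lt_succ_self j)
        rw [← heq, X_mem_span_X_image_iff] at h1
        exact lt_irrefl j h1
    have h2 := Ideal.height_add_one_le_of_lt_of_isPrime hlt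
    have h3 := ih (Nat.le_of_succ_le hj)
    calc ((j + 1 : ℕ) : ℕ∞) = (j : ℕ∞) + 1 := by push_cast; rfl
      _ ≤ _ + 1 := by gcongr
      _ ≤ _ := h2

theorem eq_span_X_image_of_height (r : ℕ) (q : Ideal (MvPolynomial (Fin n) k)) [q.IsPrime]
    (hX : ∀ i : Fin n, (i : ℕ) < r → MvPolynomial.X i ∈ q) (hht : q.height = r) :
    q = Ideal.span (MvPolynomial.X '' {i : Fin n | (i : ℕ) < r}) := by
  haveI := isPrime_span_X_image k n {i : Fin n | (i : ℕ) < r}
  have hle : Ideal.span (MvPolynomial.X '' {i : Fin n | (i : ℕ) < r} :
      Set (MvPolynomial (Fin n) k)) ≤ q := by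
    rw [Ideal.span_le]
    rintro _ ⟨i, hi, rfl⟩
    exact hX i hi
  symm
  refine Ideal.eq_of_le_of_height_le _ hle ?_
  rw [hht]
  by_cases hr : r ≤ n
  · exact le_height_span_X_image k n r hr
  · push_neg at hr
    have h1 : {i : Fin n | (i : ℕ) < r} = {i : Fin n | (i : ℕ) < n} := by
      ext i
      simp only [Set.mem_setOf_eq]
      exact ⟨fun _ => i.2, fun _ => lt_trans i.2 hr⟩
    have h2 : ((n : ℕ) : ℕ∞) ≤ q.height := by
      refine le_trans (le_height_span_X_image k n n le_rfl) (Ideal.height_mono ?_)
      rw [← h1]; exact hle
    have h3 : q.height ≤ (n : ℕ∞) := by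
      have h4 := Ideal.height_le_ringKrullDim_of_isPrime (I := q)
      rw [MvPolynomial.ringKrullDim_of_isNoetherianRing, ringKrullDim_eq_zero_of_field,
        zero_add, Nat.card_eq_fintype_card, Fintype.card_fin] at h4
      exact_mod_cast h4
    rw [hht] at h2 h3
    have : r ≤ n := by exact_mod_cast h3
    omega

end Poly

section Sep

variable (k : Type u) [Field k] (n : ℕ) (A : Type u) [CommRing A] [Algebra k A]
  [Algebra (MvPolynomial (Fin n) k) A] [IsScalarTower k (MvPolynomial (Fin n) k) A]
  (p : Ideal A) [p.IsPrime]
  [Algebra (Localization.AtPrime (p.under (MvPolynomial (Fin n) k))) (Localization.AtPrime p)]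
  [Localization.AtPrime.IsLiesOverAlgebra (p.under (MvPolynomial (Fin n) k)) p]

theorem residue_eq_algebraMap (f : MvPolynomial (Fin n) k) :
    residue (Localization.AtPrime p) (algebraMap A _ (algebraMap (MvPolynomial (Fin n) k) A f))
      = algebraMap (p.under (MvPolynomial (Fin n) k)).ResidueField p.ResidueField
        (residue _ (algebraMap (MvPolynomial (Fin n) k)
          (Localization.AtPrime (p.under (MvPolynomial (Fin n) k))) f)) := by
  have h1 : algebraMap (p.under (MvPolynomial (Fin n) k)).ResidueField p.ResidueField
        (residue _ (algebraMap (MvPolynomial (Fin n) k)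
          (Localization.AtPrime (p.under (MvPolynomial (Fin n) k))) f))
      = residue (Localization.AtPrime p)
        (algebraMap (Localization.AtPrime (p.under (MvPolynomial (Fin n) k)))
          (Localization.AtPrime p) (algebraMap (MvPolynomial (Fin n) k)
          (Localization.AtPrime (p.under (MvPolynomial (Fin n) k))) f)) := rfl
  rw [h1, ← IsScalarTower.algebraMap_apply (MvPolynomial (Fin n) k)
    (Localization.AtPrime (p.under (MvPolynomial (Fin n) k))) (Localization.AtPrime p),
    IsScalarTower.algebraMap_apply (MvPolynomial (Fin n) k) A (Localization.AtPrime p)]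

theorem isSeparable_residueField_of_span [Algebra.FiniteType k A] (S : Set (Fin n))
    (hΩ : Submodule.span p.ResidueField ((fun i : Fin n =>
          KaehlerDifferential.D k p.ResidueField
            (IsLocalRing.residue (Localization.AtPrime p)
              (algebraMap A (Localization.AtPrime p)
                (algebraMap (MvPolynomial (Fin n) k) A (MvPolynomial.X i))))) '' S) = ⊤) :
    Algebra.IsSeparable (p.under (MvPolynomial (Fin n) k)).ResidueField p.ResidueField := by
  haveI : Algebra.FiniteType (MvPolynomial (Fin n) k) A :=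
    Algebra.FiniteType.of_restrictScalars_finiteType k (MvPolynomial (Fin n) k) A
  rw [← Algebra.FormallyUnramified.iff_isSeparable]
  refine ⟨subsingleton_of_forall_eq 0 fun x => ?_⟩
  obtain ⟨w, rfl⟩ := KaehlerDifferential.map_surjective k
    (p.under (MvPolynomial (Fin n) k)).ResidueField p.ResidueField x
  have hw : w ∈ Submodule.span p.ResidueField ((fun i : Fin n =>
          KaehlerDifferential.D k p.ResidueField
            (IsLocalRing.residue (Localization.AtPrime p)
              (algebraMap A (Localization.AtPrime p)
                (algebraMap (MvPolynomial (Fin n) k) A (MvPolynomial.X i))))) '' S) := by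
    rw [hΩ]; trivial
  induction hw using Submodule.span_induction with
  | mem y hy =>
    obtain ⟨i, -, rfl⟩ := hy
    rw [map_D, Algebra.algebraMap_self_apply, residue_eq_algebraMap]
    exact Derivation.map_algebraMap _ _
  | zero => exact map_zero _
  | add x y _ _ hx hy => rw [map_add, hx, hy, add_zero]
  | smul a y _ hy => rw [map_smul, hy, smul_zero]

end Sep

end Groth.Agent.Lib.EtaleDiffCritH3
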