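import Mathlib
import Groth.Agent.Lib.EtaleSection_helper3

/-!
# Lifting coprime monic factorizations to an étale neighbourhood
-/

open Polynomial

namespace Groth.Agent.Lib.EtaleSectionH3

universe u

theorem exists_etale_factorization_of_section {A : Type u} [CommRing A] (I : Ideal A)
    (C : Type u) [CommRing C] [Algebra A C] [Algebra.Etale A C] (φ : C →ₐ[A] A ⧸ I)
    (f : A[X]) (G₁ G₂ : C[X]) (h1 : G₁.Monic) (h2 : G₂.Monic) (hc : IsCoprime G₁ G₂)
    (hmul : G₁ * G₂ = f.map (algebraMap A C)) :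
    ∃ (A' : Type u) (_ : CommRing A') (_ : Algebra A A'), Algebra.Etale A A' ∧
      Function.Bijective (algebraMap (A ⧸ I) (A' ⧸ I.map (algebraMap A A'))) ∧
      ∃ g' h' : A'[X], g'.Monic ∧ h'.Monic ∧ IsCoprime g' h' ∧
        f.map (algebraMap A A') = g' * h' ∧
        g'.map (Ideal.Quotient.mk (I.map (algebraMap A A'))) =
          (G₁.map (φ : C →+* A ⧸ I)).map (algebraMap (A ⧸ I) (A' ⧸ I.map (algebraMap A A'))) ∧
        h'.map (Ideal.Quotient.mk (I.map (algebraMap A A'))) =
          (G₂.map (φ : C →+* A ⧸ I)).map (algebraMap (A ⧸ I) (A' ⧸ I.map (algebraMap A A'))) := by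
  obtain ⟨A', _, _, hE, hbij, τ, hτ⟩ := exists_etale_nbhd I C φ
  have hτr : (Ideal.Quotient.mk (I.map (algebraMap A A'))).comp (τ : C →+* A') =
      (algebraMap (A ⧸ I) (A' ⧸ I.map (algebraMap A A'))).comp (φ : C →+* A ⧸ I) :=
    RingHom.ext hτ
  refine ⟨A', inferInstance, inferInstance, hE, hbij, G₁.map (τ : C →+* A'),
    G₂.map (τ : C →+* A'), h1.map _, h2.map _, ?_, ?_, ?_, ?_⟩
  · exact hc.map (Polynomial.mapRingHom (τ : C →+* A'))
  · rw [← Polynomial.map_mul, hmul, Polynomial.map_map]
    congr 1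
    exact (τ.comp_algebraMap).symm
  · rw [Polynomial.map_map, hτr, ← Polynomial.map_map]
  · rw [Polynomial.map_map, hτr, ← Polynomial.map_map]

theorem exists_etale_factorization_aux {A : Type u} [CommRing A] (I : Ideal A) (n m k : ℕ)
    (hn : n = m + k) (p : MonicDegreeEq A n) (G : MonicDegreeEq (A ⧸ I) m)
    (H : MonicDegreeEq (A ⧸ I) k) (hGH : G.1 * H.1 = p.1.map (algebraMap A (A ⧸ I)))
    (hcop : IsCoprime G.1 H.1) :
    ∃ (A' : Type u) (_ : CommRing A') (_ : Algebra A A'), Algebra.Etale A A' ∧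
      Function.Bijective (algebraMap (A ⧸ I) (A' ⧸ I.map (algebraMap A A'))) ∧
      ∃ g' h' : A'[X], g'.Monic ∧ h'.Monic ∧ IsCoprime g' h' ∧
        p.1.map (algebraMap A A') = g' * h' ∧
        g'.map (Ideal.Quotient.mk (I.map (algebraMap A A'))) =
          G.1.map (algebraMap (A ⧸ I) (A' ⧸ I.map (algebraMap A A'))) ∧
        h'.map (Ideal.Quotient.mk (I.map (algebraMap A A'))) =
          H.1.map (algebraMap (A ⧸ I) (A' ⧸ I.map (algebraMap A A'))) := by
  have hφ := (UniversalCoprimeFactorizationRing.homEquiv (A ⧸ I) m k hn p).apply_symm_apply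
    ⟨(G, H), hGH, hcop⟩
  set φ : UniversalCoprimeFactorizationRing m k hn p →ₐ[A] A ⧸ I :=
    (UniversalCoprimeFactorizationRing.homEquiv (A ⧸ I) m k hn p).symm ⟨(G, H), hGH, hcop⟩ with hφdef
  have hφ1 : (UniversalCoprimeFactorizationRing.factor₁ m k hn p).1.map
      (φ : UniversalCoprimeFactorizationRing m k hn p →+* A ⧸ I) = G.1 := by
    have := congrArg (fun q => q.1.1.1) hφ
    simp only at this
    rw [← this]
    simp [UniversalCoprimeFactorizationRing.homEquiv, UniversalFactorizationRing.homEquiv,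
      UniversalCoprimeFactorizationRing.factor₁, Polynomial.map_map]
    rfl
  have hφ2 : (UniversalCoprimeFactorizationRing.factor₂ m k hn p).1.map
      (φ : UniversalCoprimeFactorizationRing m k hn p →+* A ⧸ I) = H.1 := by
    have := congrArg (fun q => q.1.2.1) hφ
    simp only at this
    rw [← this]
    simp [UniversalCoprimeFactorizationRing.homEquiv, UniversalFactorizationRing.homEquiv,
      UniversalCoprimeFactorizationRing.factor₂, Polynomial.map_map]
    rfl
  have := exists_etale_factorization_of_section I (UniversalCoprimeFactorizationRing m k hn p) φ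
    p.1 (UniversalCoprimeFactorizationRing.factor₁ m k hn p).1
    (UniversalCoprimeFactorizationRing.factor₂ m k hn p).1
    (MonicDegreeEq.monic _) (MonicDegreeEq.monic _)
    (UniversalCoprimeFactorizationRing.isCoprime_factor₁_factor₂ m k hn p)
    (UniversalCoprimeFactorizationRing.factor₁_mul_factor₂ m k hn p)
  rw [hφ1, hφ2] at this
  exact this

theorem exists_etale_factorization {A : Type u} [CommRing A] (I : Ideal A) (f : A[X])
    (hf : f.Monic) (g h : (A ⧸ I)[X]) (hg : g.Monic) (hh : h.Monic) (hcop : IsCoprime g h)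
    (hfgh : f.map (Ideal.Quotient.mk I) = g * h) :
    ∃ (A' : Type u) (_ : CommRing A') (_ : Algebra A A'), Algebra.Etale A A' ∧
      Function.Bijective (algebraMap (A ⧸ I) (A' ⧸ I.map (algebraMap A A'))) ∧
      ∃ g' h' : A'[X], g'.Monic ∧ h'.Monic ∧ IsCoprime g' h' ∧
        f.map (algebraMap A A') = g' * h' ∧
        g'.map (Ideal.Quotient.mk (I.map (algebraMap A A'))) =
          g.map (algebraMap (A ⧸ I) (A' ⧸ I.map (algebraMap A A'))) ∧
        h'.map (Ideal.Quotient.mk (I.map (algebraMap A A'))) =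
          h.map (algebraMap (A ⧸ I) (A' ⧸ I.map (algebraMap A A'))) := by
  cases subsingleton_or_nontrivial (A ⧸ I) with
  | inl hsub =>
    have hI : I = ⊤ := Ideal.Quotient.subsingleton_iff.mp hsub
    haveI : Subsingleton (A ⧸ I.map (algebraMap A A)) := by
      rw [Ideal.Quotient.subsingleton_iff, hI, Ideal.map_top]
    refine ⟨A, inferInstance, inferInstance, inferInstance, ?_, f, 1, ?_, monic_one,
      isCoprime_one_right, ?_, Subsingleton.elim _ _, Subsingleton.elim _ _⟩
    · exact ⟨fun x y _ => Subsingleton.elim _ _, fun y => ⟨0, Subsingleton.elim _ _⟩⟩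
    · simpa using hf
    · simp
  | inr hnt =>
    have hn : f.natDegree = g.natDegree + h.natDegree := by
      have := congrArg Polynomial.natDegree hfgh
      rwa [hf.natDegree_map, hg.natDegree_mul hh] at this
    exact exists_etale_factorization_aux I f.natDegree g.natDegree h.natDegree hn
      (.mk f hf rfl) (.mk g hg rfl) (.mk h hh rfl) hfgh.symm hcop

end Groth.Agent.Lib.EtaleSectionH3
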