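import Mathlib
import Groth.Agent.Lib.EtaleFactor_helper3

/-!
# Étale neighbourhoods: making an element invertible; factorizations with unit leading coefficient
-/

open Polynomial

namespace Groth.Agent.Lib.EtaleSectionH3

universe u

variable {A : Type u} [CommRing A] (I : Ideal A)

/-- variant of `exists_etale_nbhd` making a given element (invertible modulo `I`) invertible. -/
theorem exists_etale_nbhd_unit (C : Type u) [CommRing C] [Algebra A C] [Algebra.Etale A C]
    (φ : C →ₐ[A] A ⧸ I) (s : C) (hs : IsUnit (φ s)) :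
    ∃ (A' : Type u) (_ : CommRing A') (_ : Algebra A A'), Algebra.Etale A A' ∧
      Function.Bijective (algebraMap (A ⧸ I) (A' ⧸ I.map (algebraMap A A'))) ∧
      ∃ τ : C →ₐ[A] A', (∀ c : C, Ideal.Quotient.mk (I.map (algebraMap A A')) (τ c) =
        algebraMap (A ⧸ I) (A' ⧸ I.map (algebraMap A A')) (φ c)) ∧ IsUnit (τ s) := by
  have hunits : ∀ y : Submonoid.powers s, IsUnit (φ y) := by
    rintro ⟨_, n, rfl⟩
    change IsUnit (φ (s ^ n))
    rw [map_pow]
    exact hs.pow n
  let φ' : Localization.Away s →ₐ[A] A ⧸ I := IsLocalization.liftAlgHom (f := φ) hunits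
  haveI : Algebra.Etale A (Localization.Away s) := Algebra.Etale.comp A C (Localization.Away s)
  obtain ⟨A', i1, i2, hE, hbij, τ', hτ'⟩ := exists_etale_nbhd I (Localization.Away s) φ'
  refine ⟨A', i1, i2, hE, hbij, τ'.comp (IsScalarTower.toAlgHom A C (Localization.Away s)),
    fun c => ?_, ?_⟩
  · rw [AlgHom.comp_apply, hτ']
    congr 1
    change IsLocalization.lift hunits (algebraMap C (Localization.Away s) c) = φ c
    rw [IsLocalization.lift_eq]
    rfl
  · rw [AlgHom.comp_apply]
    exact (IsLocalization.Away.algebraMap_isUnit (S := Localization.Away s) s).map τ'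

/-- universal coprime factorization + a prescribed unit. -/
theorem exists_etale_factorization_unit_aux (n m k : ℕ)
    (hn : n = m + k) (p : MonicDegreeEq A n) (G : MonicDegreeEq (A ⧸ I) m)
    (H : MonicDegreeEq (A ⧸ I) k) (hGH : G.1 * H.1 = p.1.map (algebraMap A (A ⧸ I)))
    (hcop : IsCoprime G.1 H.1) (a : A) (ha : IsUnit (Ideal.Quotient.mk I a)) :
    ∃ (A' : Type u) (_ : CommRing A') (_ : Algebra A A'), Algebra.Etale A A' ∧
      Function.Bijective (algebraMap (A ⧸ I) (A' ⧸ I.map (algebraMap A A'))) ∧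
      IsUnit (algebraMap A A' a) ∧
      ∃ g' h' : A'[X], g'.Monic ∧ h'.Monic ∧ IsCoprime g' h' ∧
        p.1.map (algebraMap A A') = g' * h' ∧
        g'.map (Ideal.Quotient.mk (I.map (algebraMap A A'))) =
          G.1.map (algebraMap (A ⧸ I) (A' ⧸ I.map (algebraMap A A'))) ∧
        h'.map (Ideal.Quotient.mk (I.map (algebraMap A A'))) =
          H.1.map (algebraMap (A ⧸ I) (A' ⧸ I.map (algebraMap A A'))) := by
  have hφ := (UniversalCoprimeFactorizationRing.homEquiv (A ⧸ I) m k hn p).apply_symm_apply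
    ⟨(G, H), hGH, hcop⟩
  set φ : UniversalCoprimeFactorizationRing m k hn p →ₐ[A] A ⧸ I :=
    (UniversalCoprimeFactorizationRing.homEquiv (A ⧸ I) m k hn p).symm ⟨(G, H), hGH, hcop⟩ with hφdef
  have hφ1 : (UniversalCoprimeFactorizationRing.factor₁ m k hn p).1.map
      (φ : UniversalCoprimeFactorizationRing m k hn p →+* A ⧸ I) = G.1 := by
    have := congrArg (fun q => q.1.1.1) hφ
    simp only at this
    rw [← this]
    simp [UniversalCoprimeFactorizationRing.homEquiv, UniversalFactorizationRing.homEquiv,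
      UniversalCoprimeFactorizationRing.factor₁, Polynomial.map_map]
    rfl
  have hφ2 : (UniversalCoprimeFactorizationRing.factor₂ m k hn p).1.map
      (φ : UniversalCoprimeFactorizationRing m k hn p →+* A ⧸ I) = H.1 := by
    have := congrArg (fun q => q.1.2.1) hφ
    simp only at this
    rw [← this]
    simp [UniversalCoprimeFactorizationRing.homEquiv, UniversalFactorizationRing.homEquiv,
      UniversalCoprimeFactorizationRing.factor₂, Polynomial.map_map]
    rfl
  have hs : IsUnit (φ (algebraMap A (UniversalCoprimeFactorizationRing m k hn p) a)) := by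
    rw [φ.commutes]; exact ha
  obtain ⟨A', i1, i2, hE, hbij, τ, hτ, hu⟩ := exists_etale_nbhd_unit I
    (UniversalCoprimeFactorizationRing m k hn p) φ _ hs
  have hτr : (Ideal.Quotient.mk (I.map (algebraMap A A'))).comp
      (τ : UniversalCoprimeFactorizationRing m k hn p →+* A') =
      (algebraMap (A ⧸ I) (A' ⧸ I.map (algebraMap A A'))).comp
        (φ : UniversalCoprimeFactorizationRing m k hn p →+* A ⧸ I) :=
    RingHom.ext hτ
  refine ⟨A', i1, i2, hE, hbij, ?_,
    (UniversalCoprimeFactorizationRing.factor₁ m k hn p).1.map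
      (τ : UniversalCoprimeFactorizationRing m k hn p →+* A'),
    (UniversalCoprimeFactorizationRing.factor₂ m k hn p).1.map
      (τ : UniversalCoprimeFactorizationRing m k hn p →+* A'),
    (MonicDegreeEq.monic _).map _, (MonicDegreeEq.monic _).map _, ?_, ?_, ?_, ?_⟩
  · rwa [τ.commutes] at hu
  · exact (UniversalCoprimeFactorizationRing.isCoprime_factor₁_factor₂ m k hn p).map
      (Polynomial.mapRingHom (τ : UniversalCoprimeFactorizationRing m k hn p →+* A'))
  · rw [← Polynomial.map_mul, UniversalCoprimeFactorizationRing.factor₁_mul_factor₂ m k hn p,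
      MonicDegreeEq.map_coe, Polynomial.map_map]
    congr 1
    exact (τ.comp_algebraMap).symm
  · rw [Polynomial.map_map, hτr, ← Polynomial.map_map, hφ1]
  · rw [Polynomial.map_map, hτr, ← Polynomial.map_map, hφ2]

/-- **Factorization with unit leading coefficient lifts to an étale neighbourhood.** -/
theorem exists_etale_factorization_unit (f : A[X]) (hf : f.Monic)
    (g h : (A ⧸ I)[X]) (hgh : f.map (Ideal.Quotient.mk I) = g * h) (hlead : IsUnit g.leadingCoeff)
    (hcop : IsCoprime g h) :
    ∃ (A' : Type u) (_ : CommRing A') (_ : Algebra A A'), Algebra.Etale A A' ∧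
      Function.Bijective (algebraMap (A ⧸ I) (A' ⧸ I.map (algebraMap A A'))) ∧
      ∃ g' h' : A'[X], f.map (algebraMap A A') = g' * h' ∧
        g'.map (Ideal.Quotient.mk (I.map (algebraMap A A'))) =
          g.map (algebraMap (A ⧸ I) (A' ⧸ I.map (algebraMap A A'))) ∧
        h'.map (Ideal.Quotient.mk (I.map (algebraMap A A'))) =
          h.map (algebraMap (A ⧸ I) (A' ⧸ I.map (algebraMap A A'))) := by
  cases subsingleton_or_nontrivial (A ⧸ I) with
  | inl hsub =>
    have hI : I = ⊤ := Ideal.Quotient.subsingleton_iff.mp hsub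
    haveI : Subsingleton (A ⧸ I.map (algebraMap A A)) := by
      rw [Ideal.Quotient.subsingleton_iff, hI, Ideal.map_top]
    refine ⟨A, inferInstance, inferInstance, inferInstance, ?_, f, 1, ?_,
      Subsingleton.elim _ _, Subsingleton.elim _ _⟩
    · exact ⟨fun x y _ => Subsingleton.elim _ _, fun y => ⟨0, Subsingleton.elim _ _⟩⟩
    · simp
  | inr hnt =>
    obtain ⟨u, hu⟩ := hlead
    obtain ⟨a, ha⟩ := Ideal.Quotient.mk_surjective (u : A ⧸ I)
    have hg₁ : (C (↑u⁻¹ : A ⧸ I) * g).Monic := by
      apply monic_C_mul_of_mul_leadingCoeff_eq_one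
      rw [← hu, Units.inv_mul]
    have hmul : (C (↑u⁻¹ : A ⧸ I) * g) * (C (u : A ⧸ I) * h) = f.map (Ideal.Quotient.mk I) := by
      rw [hgh]
      have : C (↑u⁻¹ : A ⧸ I) * C (u : A ⧸ I) = 1 := by
        rw [← C_mul, Units.inv_mul, C_1]
      calc (C (↑u⁻¹ : A ⧸ I) * g) * (C (u : A ⧸ I) * h)
          = (C (↑u⁻¹ : A ⧸ I) * C (u : A ⧸ I)) * (g * h) := by ring
        _ = g * h := by rw [this, one_mul]
    have hh₁ : (C (u : A ⧸ I) * h).Monic :=
      hg₁.of_mul_monic_left (by rw [hmul]; exact hf.map _)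
    have hcop₁ : IsCoprime (C (↑u⁻¹ : A ⧸ I) * g) (C (u : A ⧸ I) * h) := by
      rw [isCoprime_mul_unit_left_left (Polynomial.isUnit_C.mpr u⁻¹.isUnit),
        isCoprime_mul_unit_left_right (Polynomial.isUnit_C.mpr u.isUnit)]
      exact hcop
    have hn : f.natDegree = (C (↑u⁻¹ : A ⧸ I) * g).natDegree + (C (u : A ⧸ I) * h).natDegree := by
      have := congrArg Polynomial.natDegree hmul
      rw [hf.natDegree_map, hg₁.natDegree_mul hh₁] at this
      exact this.symm
    obtain ⟨A', i1, i2, hE, hbij, hua, g₀, h₀, hg₀, hh₀, -, hfac, hgm, hhm⟩ :=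
      exists_etale_factorization_unit_aux I f.natDegree _ _ hn (.mk f hf rfl) (.mk _ hg₁ rfl)
        (.mk _ hh₁ rfl) hmul hcop₁ a (by rw [ha]; exact u.isUnit)
    obtain ⟨c, hc⟩ := hua
    refine ⟨A', i1, i2, hE, hbij, C (c : A') * g₀, C (↑c⁻¹ : A') * h₀, ?_, ?_, ?_⟩
    · change f.map (algebraMap A A') = _ at hfac
      rw [hfac]
      have : C (c : A') * C (↑c⁻¹ : A') = 1 := by rw [← C_mul, Units.mul_inv, C_1]
      calc g₀ * h₀ = (C (c : A') * C (↑c⁻¹ : A')) * (g₀ * h₀) := by rw [this, one_mul]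
        _ = _ := by ring
    · have hcmk : Ideal.Quotient.mk (I.map (algebraMap A A')) (c : A') =
          algebraMap (A ⧸ I) (A' ⧸ I.map (algebraMap A A')) u := by
        rw [hc, ← ha]; rfl
      change g₀.map _ = (C (↑u⁻¹ : A ⧸ I) * g).map _ at hgm
      rw [Polynomial.map_mul, Polynomial.map_C, hgm, hcmk, Polynomial.map_mul, Polynomial.map_C,
        ← mul_assoc, ← C_mul, ← map_mul, Units.mul_inv, map_one, C_1, one_mul]
    · have hcmk : Ideal.Quotient.mk (I.map (algebraMap A A')) (↑c⁻¹ : A') =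
          algebraMap (A ⧸ I) (A' ⧸ I.map (algebraMap A A')) (↑u⁻¹ : A ⧸ I) := by
        have h1 : Ideal.Quotient.mk (I.map (algebraMap A A')) (c : A') =
            algebraMap (A ⧸ I) (A' ⧸ I.map (algebraMap A A')) u := by
          rw [hc, ← ha]; rfl
        have h2 : Ideal.Quotient.mk (I.map (algebraMap A A')) (c : A') *
            Ideal.Quotient.mk (I.map (algebraMap A A')) (↑c⁻¹ : A') = 1 := by
          rw [← map_mul, Units.mul_inv, map_one]
        have h3 : algebraMap (A ⧸ I) (A' ⧸ I.map (algebraMap A A')) u *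
            algebraMap (A ⧸ I) (A' ⧸ I.map (algebraMap A A')) (↑u⁻¹ : A ⧸ I) = 1 := by
          rw [← map_mul, Units.mul_inv, map_one]
        rw [h1] at h2
        calc Ideal.Quotient.mk (I.map (algebraMap A A')) (↑c⁻¹ : A')
            = (algebraMap (A ⧸ I) (A' ⧸ I.map (algebraMap A A')) (↑u⁻¹ : A ⧸ I) *
                algebraMap (A ⧸ I) (A' ⧸ I.map (algebraMap A A')) u) *
                Ideal.Quotient.mk (I.map (algebraMap A A')) (↑c⁻¹ : A') := by
              rw [mul_comm (algebraMap (A ⧸ I) (A' ⧸ I.map (algebraMap A A')) (↑u⁻¹ : A ⧸ I)), h3,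
                one_mul]
          _ = algebraMap (A ⧸ I) (A' ⧸ I.map (algebraMap A A')) (↑u⁻¹ : A ⧸ I) := by
              rw [mul_assoc, h2, mul_one]
      change h₀.map _ = (C (u : A ⧸ I) * h).map _ at hhm
      rw [Polynomial.map_mul, Polynomial.map_C, hhm, hcmk, Polynomial.map_mul, Polynomial.map_C,
        ← mul_assoc, ← C_mul, ← map_mul, Units.inv_mul, map_one, C_1, one_mul]

end Groth.Agent.Lib.EtaleSectionH3
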