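import Mathlib

/-!
# Étale schemes over a field (helper4)

A scheme étale over `Spec k` is the disjoint union of the spectra of the residue fields of its
points, each of which is finite separable over `k`.
-/

open AlgebraicGeometry CategoryTheory CategoryTheory.Limits

universe u

set_option linter.style.haveILetI false

namespace Groth.Agent.Lib.EtaleFieldH4

section Ring

theorem finite_separable_of_etale_of_surjective {k A L : Type u} [Field k] [CommRing A] [Field L]
    [Algebra k A] [Algebra.Etale k A] [Algebra k L] (ρ : A →ₐ[k] L)
    (hρ : Function.Surjective ρ) :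
    Module.Finite k L ∧ Algebra.IsSeparable k L := by
  haveI : Algebra.FormallyUnramified k L := Algebra.FormallyUnramified.of_surjective ρ hρ
  haveI : Module.Finite k A := Algebra.FormallyUnramified.finite_of_free k A
  haveI : Module.Finite k L := Module.Finite.of_surjective ρ.toLinearMap hρ
  exact ⟨inferInstance, (Algebra.FormallyUnramified.iff_isSeparable k L).mp inferInstance⟩

theorem etale_of_finite_separable (k L : Type u) [Field k] [Field L] [Algebra k L]
    [FiniteDimensional k L] [Algebra.IsSeparable k L] : Algebra.Etale k L := by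
  haveI : Algebra.FormallyEtale k L := Algebra.FormallyEtale.of_isSeparable k L
  haveI : Algebra.FinitePresentation k L :=
    Algebra.FinitePresentation.of_finiteType.mp inferInstance
  exact {}

theorem etale_specMap_of_finite_separable (k L : Type u) [Field k] [Field L] [Algebra k L]
    [FiniteDimensional k L] [Algebra.IsSeparable k L] :
    Etale (Spec.map (CommRingCat.ofHom (algebraMap k L))) := by
  haveI := etale_of_finite_separable k L
  rw [HasRingHomProperty.Spec_iff (P := @Etale)]
  exact RingHom.etale_algebraMap.mpr inferInstance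

end Ring

section Scheme

variable (k : Type u) [Field k] {U : Scheme.{u}} (φ : U ⟶ Spec (CommRingCat.of k))

/-- The structure map `k → κ(x)`. -/
noncomputable def resMap (x : U) : CommRingCat.of k ⟶ U.residueField x :=
  Spec.preimage (U.fromSpecResidueField x ≫ φ)

lemma spec_resMap (x : U) : Spec.map (resMap k φ x) = U.fromSpecResidueField x ≫ φ :=
  Spec.map_preimage _

theorem finite_separable_residueField [Etale φ] (x : U) :
    letI := (resMap k φ x).hom.toAlgebra
    Module.Finite k (U.residueField x) ∧ Algebra.IsSeparable k (U.residueField x) := by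
  letI := (resMap k φ x).hom.toAlgebra
  obtain ⟨_, ⟨W, hW, rfl⟩, hx, -⟩ :=
    U.isBasis_affineOpens.exists_subset_of_mem_open (Set.mem_univ x) isOpen_univ
  replace hx : x ∈ W := hx
  let θ : CommRingCat.of k ⟶ Γ(U, W) := Spec.preimage (hW.fromSpec ≫ φ)
  have hθ : Spec.map θ = hW.fromSpec ≫ φ := Spec.map_preimage _
  have hθe : θ.hom.Etale := by
    rw [← HasRingHomProperty.Spec_iff (P := @Etale), hθ]
    infer_instance
  letI : Algebra k Γ(U, W) := θ.hom.toAlgebra
  haveI : Algebra.Etale k Γ(U, W) := RingHom.etale_algebraMap.mp hθe
  let ρ : Γ(U, W) ⟶ U.residueField x := U.presheaf.germ W x hx ≫ U.residue x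
  have hρ : Spec.map ρ ≫ hW.fromSpec = U.fromSpecResidueField x := by
    rw [Scheme.fromSpecResidueField, ← hW.fromSpecStalk_eq_fromSpecStalk hx,
      IsAffineOpen.fromSpecStalk, Spec.map_comp, Category.assoc]
  have hψ : resMap k φ x = θ ≫ ρ := by
    apply Spec.map_injective
    rw [spec_resMap, Spec.map_comp, hθ, ← Category.assoc, hρ]
  haveI : Module.Finite k Γ(U, W) := Algebra.FormallyUnramified.finite_of_free k _
  haveI : IsArtinianRing Γ(U, W) := isArtinian_of_tower k inferInstance
  have hgerm : Function.Surjective (U.presheaf.germ W x hx).hom := by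
    letI := TopCat.Presheaf.algebra_section_stalk U.presheaf (⟨x, hx⟩ : ↥W)
    haveI := hW.isLocalization_stalk ⟨x, hx⟩
    exact IsArtinianRing.localization_surjective
      (hW.primeIdealOf ⟨x, hx⟩).asIdeal.primeCompl (U.presheaf.stalk x)
  have hρs : Function.Surjective ρ.hom := by
    intro l
    obtain ⟨s, rfl⟩ := IsLocalRing.residue_surjective l
    obtain ⟨a, rfl⟩ := hgerm s
    exact ⟨a, rfl⟩
  let ρA : Γ(U, W) →ₐ[k] U.residueField x :=
    { ρ.hom with
      commutes' := fun r => by
        change ρ.hom (θ.hom r) = (resMap k φ x).hom r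
        rw [hψ]
        rfl }
  exact finite_separable_of_etale_of_surjective ρA hρs

theorem isOpenImmersion_fromSpecResidueField [Etale φ] (x : U) :
    IsOpenImmersion (U.fromSpecResidueField x) := by
  letI := (resMap k φ x).hom.toAlgebra
  obtain ⟨h1, h2⟩ := finite_separable_residueField k φ x
  haveI : Etale (U.fromSpecResidueField x ≫ φ) := by
    rw [← spec_resMap]
    exact etale_specMap_of_finite_separable k (U.residueField x)
  haveI : Etale (U.fromSpecResidueField x) := Etale.of_comp (f := U.fromSpecResidueField x) φ
  exact IsOpenImmersion.of_flat_of_mono _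

theorem main0658 (k : Type u) [Field k] (U : Scheme.{u}) (φ : U ⟶ Spec (CommRingCat.of k)) :
    AlgebraicGeometry.Etale φ ↔
      ∃ (ι : Type u) (K : ι → Type u) (_ : ∀ i, Field (K i)) (_ : ∀ i, Algebra k (K i))
        (_ : ∀ i, FiniteDimensional k (K i)) (_ : ∀ i, Algebra.IsSeparable k (K i))
        (e : (∐ fun i => Spec (CommRingCat.of (K i))) ≅ U),
        ∀ i, Sigma.ι (fun i => Spec (CommRingCat.of (K i))) i ≫ e.hom ≫ φ =
          Spec.map (CommRingCat.ofHom (algebraMap k (K i))) := by
  constructor
  · intro hφ
    haveI := hφ
    haveI : ∀ x : U, IsOpenImmersion (U.fromSpecResidueField x) :=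
      isOpenImmersion_fromSpecResidueField k φ
    let g : ∀ x : U, Spec (U.residueField x) ⟶ U := fun x => U.fromSpecResidueField x
    have hdisj : Pairwise (Function.onFun Disjoint (fun x => Set.range (g x))) := by
      intro x y hxy
      change Disjoint (Set.range (U.fromSpecResidueField x))
        (Set.range (U.fromSpecResidueField y))
      rw [Scheme.range_fromSpecResidueField, Scheme.range_fromSpecResidueField]
      exact Set.disjoint_singleton.mpr hxy
    haveI : IsOpenImmersion (Sigma.desc g) := isOpenImmersion_sigmaDesc _ g hdisj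
    haveI : Surjective (Sigma.desc g) := ⟨fun x => by
      refine ⟨(Sigma.ι (fun x => Spec (U.residueField x)) x)
        (IsLocalRing.closedPoint (U.residueField x)), ?_⟩
      rw [← Scheme.Hom.comp_apply, Sigma.ι_desc]
      exact Scheme.fromSpecResidueField_apply x _⟩
    haveI : IsIso (Sigma.desc g) :=
      (isIso_iff_isOpenImmersion_and_surjective _).mpr ⟨inferInstance, inferInstance⟩
    refine ⟨U, fun x => U.residueField x, fun x => inferInstance,
      fun x => (resMap k φ x).hom.toAlgebra,
      fun x => (finite_separable_residueField k φ x).1,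
      fun x => (finite_separable_residueField k φ x).2,
      asIso (Sigma.desc g), fun x => ?_⟩
    rw [asIso_hom, Sigma.ι_desc_assoc]
    exact (spec_resMap k φ x).symm
  · rintro ⟨ι, K, instF, instA, instFD, instS, e, h⟩
    have h1 : Etale (e.hom ≫ φ) := by
      rw [IsZariskiLocalAtSource.iff_of_openCover (P := @Etale) (sigmaOpenCover _)]
      intro (i : ι)
      change Etale (Sigma.ι _ i ≫ e.hom ≫ φ)
      rw [h i]
      exact etale_specMap_of_finite_separable k (K i)
    have h2 : φ = e.inv ≫ e.hom ≫ φ := by simp
    rw [h2]
    infer_instance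

end Scheme

end Groth.Agent.Lib.EtaleFieldH4
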