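import Groth.Agent.Lib.ExtProps_lead

/-! # Étale equivariant maps reflect fixed points (connected fibres) (lead) -/

set_option backward.isDefEq.respectTransparency false
set_option backward.isDefEq.respectTransparency.types false
set_option linter.unusedSimpArgs false
set_option linter.unusedVariables false
set_option linter.unusedSectionVars false
set_option linter.style.longLine false
set_option linter.style.haveILetI false
set_option maxHeartbeats 800000

universe u

open CategoryTheory CategoryTheory.Limits MonoidalCategory CartesianMonoidalCategory MonObj GrpObj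
  AlgebraicGeometry Opposite Topology

namespace Groth.Agent.Lib.EtaleFixed

open Groth.Agent.Lib.ExtProps Groth.Agent.Lib.TorsorSeq

/-- (helper7, `EtFullConn_helper7`) An unramified morphism of schemes is locally quasi-finite. -/
theorem locallyQuasiFinite_of_unramified {A B : Scheme.{u}} (g : A ⟶ B) [LocallyOfFiniteType g]
    [FormallyUnramified g] : LocallyQuasiFinite g := by
  constructor
  intro U hU V hV e
  have h1 := LocallyOfFiniteType.finiteType_appLE (f := g) hU hV e
  have h2 := FormallyUnramified.formallyUnramified_appLE (f := g) hU hV e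
  algebraize [(g.appLE U V e).hom]
  have : Algebra.EssFiniteType Γ(B, U) Γ(A, V) := inferInstance
  show Algebra.QuasiFinite _ _
  infer_instance

/-- (helper7, `EtFullConn_helper7`) Morphisms into an unramified `Y/S` whose pairing lands in the
diagonal are equal. -/
theorem eq_of_range_subset {Y S T : Scheme.{u}} (q : Y ⟶ S) [LocallyOfFiniteType q]
    [FormallyUnramified q] (a b : T ⟶ Y) (h : a ≫ q = b ≫ q)
    (hr : Set.range (pullback.lift a b h) ⊆ Set.range (pullback.diagonal q)) : a = b := by
  haveI : IsOpenImmersion (pullback.diagonal q) := inferInstance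
  obtain ⟨c, hc⟩ : ∃ c : T ⟶ Y, c ≫ pullback.diagonal q = pullback.lift a b h :=
    ⟨IsOpenImmersion.lift (pullback.diagonal q) (pullback.lift a b h) hr,
      IsOpenImmersion.lift_fac _ _ _⟩
  have ha : a = c := by
    have := congrArg (· ≫ pullback.fst q q) hc
    simpa using this.symm
  have hb : b = c := by
    have := congrArg (· ≫ pullback.snd q q) hc
    simpa using this.symm
  rw [ha, hb]

variable {S : Scheme.{u}}

/-- a group scheme with connected fibres is geometrically connected over the base -/
theorem geomConn_of_fibres (G : Over S) [GrpObj G]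
    (hconn : ∀ s : S, ConnectedSpace (G.hom.fiber s)) : GeometricallyConnected G.hom := by
  rw [GeometricallyConnected.iff_geometricallyConnected_fiber]
  intro s
  haveI := hconn s
  let u : S ⟶ G.left := (η[G]).left
  have hu : u ≫ G.hom = 𝟙 S := Over.w η[G]
  let e : Spec (S.residueField s) ⟶ G.hom.fiber s :=
    pullback.lift (S.fromSpecResidueField s ≫ u) (𝟙 _) (by
      rw [Category.assoc, hu, Category.comp_id, Category.id_comp])
  have he : e ≫ G.hom.fiberToSpecResidueField s = 𝟙 _ := pullback.lift_snd _ _ _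
  haveI : GeometricallyConnected (e ≫ G.hom.fiberToSpecResidueField s) := by
    rw [he]; exact geomConn_id _
  exact GeomConnPtH4.main2502 (k := S.residueField s) e (G.hom.fiberToSpecResidueField s)

theorem fixed_core {G X Y : Over S} [GrpObj G] [GeometricallyConnected G.hom]
    (a : AlgGrp.Action G X) (b : AlgGrp.Action G Y) (f : X ⟶ Y) [Etale f.left]
    (hf : a.act ≫ f = (G ◁ f) ≫ b.act) (T : Over S) (x : T ⟶ X)
    (hx : ∀ (T' : Over S) (t : T' ⟶ T) (g : T' ⟶ G),
      lift g (t ≫ x ≫ f) ≫ b.act = t ≫ x ≫ f) :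
    (G ◁ x) ≫ a.act = snd G T ≫ x := by
  have hAB : ((G ◁ x) ≫ a.act) ≫ f = (snd G T ≫ x) ≫ f := by
    have h1 := hx (G ⊗ T) (snd G T) (fst G T)
    have h0 : (G ◁ x) ≫ (G ◁ f) = lift (fst G T) (snd G T ≫ x ≫ f) := by
      apply CartesianMonoidalCategory.hom_ext <;> simp
    calc ((G ◁ x) ≫ a.act) ≫ f = ((G ◁ x) ≫ (G ◁ f)) ≫ b.act := by
          rw [Category.assoc, hf, Category.assoc]
      _ = lift (fst G T) (snd G T ≫ x ≫ f) ≫ b.act := by rw [h0]
      _ = snd G T ≫ x ≫ f := h1
      _ = (snd G T ≫ x) ≫ f := (Category.assoc _ _ _).symm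
  apply Over.OverMorphism.ext
  have hAB' : ((G ◁ x) ≫ a.act).left ≫ f.left = (snd G T ≫ x).left ≫ f.left := by
    rw [← Over.comp_left, hAB, Over.comp_left]
  apply eq_of_range_subset f.left _ _ hAB'
  rintro _ ⟨z, rfl⟩
  let L : (G ⊗ T).left ⟶ pullback f.left f.left :=
    pullback.lift ((G ◁ x) ≫ a.act).left (snd G T ≫ x).left hAB'
  let τ : T.left := (snd G T).left z
  haveI : GeometricallyConnected (snd G T).left :=
    MorphismProperty.of_isPullback (P := @GeometricallyConnected)
      (IsPullback.of_hasPullback G.hom T.hom :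
        IsPullback (fst G T).left (snd G T).left G.hom T.hom) inferInstance
  have hF : _root_.IsConnected ((snd G T).left ⁻¹' {τ}) :=
    (snd G T).left.isConnected_preimage_singleton τ
  haveI : LocallyQuasiFinite (pullback.snd f.left f.left) := locallyQuasiFinite_of_unramified _
  have hdisc : _root_.IsDiscrete ((pullback.snd f.left f.left) ⁻¹' {x.left τ}) :=
    (pullback.snd f.left f.left).isDiscrete_preimage_singleton _
  have hmaps : Set.MapsTo L ((snd G T).left ⁻¹' {τ})
      ((pullback.snd f.left f.left) ⁻¹' {x.left τ}) := by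
    intro w hw
    have h1 : L ≫ pullback.snd f.left f.left = (snd G T ≫ x).left := pullback.lift_snd _ _ _
    have h2 : (L ≫ pullback.snd f.left f.left) w = (snd G T ≫ x).left w := by rw [h1]
    have h3 : (snd G T).left w = τ := hw
    show (pullback.snd f.left f.left) (L w) = x.left τ
    rw [← h3]
    exact h2
  let ε : T ⟶ G ⊗ T := lift (toUnit T ≫ η[G]) (𝟙 T)
  have hε2 : ε ≫ snd G T = 𝟙 T := lift_snd _ _
  have hz₀ : ε.left τ ∈ (snd G T).left ⁻¹' {τ} := by
    show (snd G T).left (ε.left τ) = τ
    have h4 : (ε.left ≫ (snd G T).left) τ = τ := by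
      rw [← Over.comp_left, hε2]; rfl
    exact h4
  have hz : z ∈ (snd G T).left ⁻¹' {τ} := rfl
  have hconst : L z = L (ε.left τ) :=
    hF.isPreconnected.constant_of_mapsTo hdisc L.continuous.continuousOn hmaps hz hz₀
  have hεA : ε ≫ (G ◁ x) ≫ a.act = x := by
    rw [lift_whiskerLeft_assoc, Category.id_comp, ← Hom.one_def]
    exact act_one' a x
  have hεL : ε.left ≫ L = x.left ≫ pullback.diagonal f.left := by
    apply pullback.hom_ext
    · rw [Category.assoc, pullback.lift_fst, Category.assoc, pullback.diagonal_fst,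
        Category.comp_id, ← Over.comp_left, hεA]
    · rw [Category.assoc, pullback.lift_snd, Category.assoc, pullback.diagonal_snd,
        Category.comp_id, ← Over.comp_left, ← Category.assoc, hε2, Category.id_comp]
  have hfinal : L z ∈ Set.range (pullback.diagonal f.left) := by
    rw [hconst]
    refine ⟨x.left τ, ?_⟩
    have h5 : (x.left ≫ pullback.diagonal f.left) τ = (ε.left ≫ L) τ := by rw [hεL]
    exact h5
  exact hfinal

theorem fixed_of_etale {G X Y : Over S} [GrpObj G]
    (hconn : ∀ s : S, ConnectedSpace (G.hom.fiber s))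
    (a : AlgGrp.Action G X) (b : AlgGrp.Action G Y) (f : X ⟶ Y) [Etale f.left]
    (hf : a.act ≫ f = (G ◁ f) ≫ b.act) (T : Over S) (x : T ⟶ X)
    (hx : ∀ (T' : Over S) (t : T' ⟶ T) (g : T' ⟶ G),
      lift g (t ≫ x ≫ f) ≫ b.act = t ≫ x ≫ f)
    (T' : Over S) (t : T' ⟶ T) (g : T' ⟶ G) : lift g (t ≫ x) ≫ a.act = t ≫ x := by
  haveI : GeometricallyConnected G.hom := geomConn_of_fibres G hconn
  have h := fixed_core a b f hf T x hx
  calc lift g (t ≫ x) ≫ a.act = lift g t ≫ (G ◁ x) ≫ a.act := by rw [lift_whiskerLeft_assoc]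
    _ = lift g t ≫ snd G T ≫ x := by rw [h]
    _ = t ≫ x := by rw [← Category.assoc, lift_snd]

end Groth.Agent.Lib.EtaleFixed
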