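import Groth.Statements.S19288
import Groth.Agent.S0346

/-! # Homomorphisms from a group with connected fibres to an étale separated group are trivial
(lead) -/

set_option backward.isDefEq.respectTransparency false
set_option backward.isDefEq.respectTransparency.types false
set_option linter.unusedSimpArgs false
set_option linter.unusedVariables false
set_option linter.unusedSectionVars false
set_option linter.style.longLine false
set_option linter.style.haveILetI false
set_option maxHeartbeats 800000

universe u

open CategoryTheory CategoryTheory.Limits MonoidalCategory CartesianMonoidalCategory MonObj GrpObj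
  AlgebraicGeometry Opposite Topology

namespace Groth.Agent.Lib.EtaleHomTriv

theorem main19288 {S : Scheme.{u}} (P X : Over S) [GrpObj P] [GrpObj X] [Etale X.hom]
    [IsSeparated X.hom] (hP : ∀ s : S, ConnectedSpace ↥(P.hom.fiber s)) (f : P ⟶ X)
    (hf : η[P] ≫ f = η[X]) : f = 1 := by
  obtain ⟨e, he⟩ : ∃ e : S ⟶ X.left, e = (η[X]).left := ⟨_, rfl⟩
  have he1 : e ≫ X.hom = 𝟙 S := by rw [he]; exact Over.w η[X]
  haveI : Etale (e ≫ X.hom) := by rw [he1]; infer_instance
  haveI : Etale e := Etale.of_comp e X.hom
  haveI : Mono e := mono_of_mono_fac he1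
  haveI : IsOpenImmersion e := IsOpenImmersion.of_flat_of_mono e
  haveI : IsClosedImmersion e := by
    rw [he]; exact (Groth.Agent.S0346.result S X).1.1 inferInstance
  have hopen : IsOpen (f.left ⁻¹' Set.range e) :=
    (e.isOpenEmbedding.isOpen_range).preimage f.left.continuous
  have hclosed : IsClosed (f.left ⁻¹' Set.range e) :=
    (e.isClosedEmbedding.isClosed_range).preimage f.left.continuous
  have hηP : ∀ s : S, P.hom ((η[P]).left s) = s := by
    intro s
    have h1 : (η[P]).left ≫ P.hom = 𝟙 S := Over.w η[P]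
    rw [← Scheme.Hom.comp_apply, h1]; rfl
  have hall : ∀ p : P.left, f.left p ∈ Set.range e := by
    intro p
    obtain ⟨s, hs⟩ : ∃ s : S, s = P.hom p := ⟨_, rfl⟩
    haveI := hP s
    have hconn : _root_.IsPreconnected (P.hom ⁻¹' {s}) := by
      rw [← P.hom.range_fiberι s]
      exact isPreconnected_range (P.hom.fiberι s).continuous
    have hne : ((P.hom ⁻¹' {s}) ∩ (f.left ⁻¹' Set.range e)).Nonempty := by
      refine ⟨(η[P]).left s, hηP s, ?_⟩
      refine ⟨s, ?_⟩
      rw [he, ← hf]; rfl
    exact hconn.subset_isClopen ⟨hclosed, hopen⟩ hne (show p ∈ P.hom ⁻¹' {s} from hs.symm)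
  have hrange : Set.range f.left ⊆ Set.range e := by
    rintro _ ⟨p, rfl⟩; exact hall p
  obtain ⟨g, hg⟩ : ∃ g : P.left ⟶ S, g ≫ e = f.left :=
    ⟨IsOpenImmersion.lift e f.left hrange, IsOpenImmersion.lift_fac _ _ _⟩
  have hg' : g = P.hom := by
    calc g = g ≫ e ≫ X.hom := by rw [he1, Category.comp_id]
      _ = f.left ≫ X.hom := by rw [← Category.assoc, hg]
      _ = P.hom := Over.w f
  rw [Hom.one_def]
  ext
  show f.left = (toUnit P).left ≫ (η[X]).left
  rw [← hg, hg', he, Over.toUnit_left]

end Groth.Agent.Lib.EtaleHomTriv
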