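import Mathlib
import Groth.Agent.Lib.EtaleFactor_helper3

/-!
# Lifting idempotents along integral maps to an étale neighbourhood
-/

open Polynomial TensorProduct

namespace Groth.Agent.Lib.EtaleSectionH3

universe u

/-- abstract idempotent lifting: `T'` an `A'`-algebra, `J` an ideal of `T'`, `β ∈ T'` idempotent modulo
`J`, killed by `g' * h'` with `g', h'` coprime monic over `A'` which modulo `J` look like `X^n`,
`(X-1)^n` (`n ≥ 1`): then there is an idempotent `e'` congruent to `β`. -/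
theorem exists_idem_of_factorization {A' T' : Type u} [CommRing A'] [CommRing T'] [Algebra A' T']
    (J : Ideal T') (β : T') (hβ : β ^ 2 - β ∈ J) (g' h' : A'[X]) (hcop : IsCoprime g' h')
    (hzero : aeval β (g' * h') = 0) (n : ℕ) (hn : 1 ≤ n)
    (hg : aeval β g' - β ^ n ∈ J) (hh : aeval β h' - (β - 1) ^ n ∈ J) :
    ∃ e' : T', IsIdempotentElem e' ∧ e' - β ∈ J := by
  obtain ⟨u, v, huv⟩ := hcop
  refine ⟨aeval β (u * g'), ?_, ?_⟩
  · -- idempotent
    have h1 : aeval β (u * g') + aeval β (v * h') = 1 := by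
      rw [← map_add, huv, map_one]
    have h2 : aeval β (u * g') * aeval β (v * h') = 0 := by
      rw [← map_mul]
      have : u * g' * (v * h') = (u * v) * (g' * h') := by ring
      rw [this, map_mul, hzero, mul_zero]
    have h3 : aeval β (v * h') = 1 - aeval β (u * g') := by
      rw [← h1]; ring
    rw [h3] at h2
    change aeval β (u * g') * aeval β (u * g') = aeval β (u * g')
    linear_combination -h2
  · -- congruence
    rw [← Ideal.Quotient.eq]
    have e1 : (Ideal.Quotient.mk J β) ^ 2 = Ideal.Quotient.mk J β := by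
      rw [← map_pow, Ideal.Quotient.eq]; exact hβ
    have e2 : Ideal.Quotient.mk J (aeval β g') = (Ideal.Quotient.mk J β) ^ n := by
      rw [← map_pow, Ideal.Quotient.eq]; exact hg
    have e3 : Ideal.Quotient.mk J (aeval β h') = (Ideal.Quotient.mk J β - 1) ^ n := by
      rw [← map_one (Ideal.Quotient.mk J), ← map_sub, ← map_pow, Ideal.Quotient.eq]; exact hh
    have e4 : Ideal.Quotient.mk J (aeval β (u * g')) + Ideal.Quotient.mk J (aeval β (v * h')) = 1 := by
      rw [← map_add, ← map_add, huv, map_one, map_one]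
    set x := Ideal.Quotient.mk J β with hx
    have hxn : ∀ m : ℕ, 1 ≤ m → x ^ m = x := by
      intro m hm
      induction m with
      | zero => omega
      | succ m ih =>
        rcases Nat.eq_zero_or_pos m with rfl | hpos
        · simp
        · rw [pow_succ, ih hpos, ← pow_two, e1]
    have hx1 : (x - 1) ^ n * x = 0 := by
      obtain ⟨m, rfl⟩ : ∃ m, n = m + 1 := ⟨n - 1, by omega⟩
      have : (x - 1) * x = 0 := by
        have : (x - 1) * x = x ^ 2 - x := by ring
        rw [this, e1, sub_self]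
      rw [pow_succ, mul_assoc, this, mul_zero]
    simp only [map_mul] at e4 ⊢
    rw [e2, e3, hxn n hn] at e4
    rw [e2, hxn n hn]
    have := congrArg (· * x) e4
    simp only [add_mul, one_mul] at this
    rw [mul_assoc, ← pow_two, e1, mul_assoc, hx1, mul_zero, add_zero] at this
    exact this

end Groth.Agent.Lib.EtaleSectionH3

namespace Groth.Agent.Lib.EtaleSectionH3

universe u

/-- evaluation modulo `J` only depends on the polynomial modulo `IA'`. -/
theorem mk_aeval_eq {A : Type u} [CommRing A] (I : Ideal A) {A' T' : Type u} [CommRing A']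
    [CommRing T'] [Algebra A A'] [Algebra A' T'] [Algebra A T'] [IsScalarTower A A' T']
    (β : T') (P : A'[X]) (Q : (A ⧸ I)[X])
    (hPQ : P.map (Ideal.Quotient.mk (I.map (algebraMap A A'))) =
      Q.map (algebraMap (A ⧸ I) (A' ⧸ I.map (algebraMap A A')))) :
    ∃ ρ : (A ⧸ I) →+* T' ⧸ I.map (algebraMap A T'),
      Ideal.Quotient.mk (I.map (algebraMap A T')) (aeval β P) =
        Q.eval₂ ρ (Ideal.Quotient.mk (I.map (algebraMap A T')) β) := by
  have hle : I.map (algebraMap A A') ≤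
      RingHom.ker ((Ideal.Quotient.mk (I.map (algebraMap A T'))).comp (algebraMap A' T')) := by
    rw [Ideal.map_le_iff_le_comap]
    intro i hi
    rw [Ideal.mem_comap, RingHom.mem_ker, RingHom.comp_apply, ← IsScalarTower.algebraMap_apply,
      Ideal.Quotient.eq_zero_iff_mem]
    exact Ideal.mem_map_of_mem _ hi
  let ρ' : (A' ⧸ I.map (algebraMap A A')) →+* T' ⧸ I.map (algebraMap A T') :=
    Ideal.Quotient.lift _ ((Ideal.Quotient.mk (I.map (algebraMap A T'))).comp (algebraMap A' T'))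
      (fun x hx => hle hx)
  have hρ' : ρ'.comp (Ideal.Quotient.mk (I.map (algebraMap A A'))) =
      (Ideal.Quotient.mk (I.map (algebraMap A T'))).comp (algebraMap A' T') := by
    ext x; rfl
  refine ⟨ρ'.comp (algebraMap (A ⧸ I) (A' ⧸ I.map (algebraMap A A'))), ?_⟩
  rw [aeval_def, Polynomial.hom_eval₂, ← hρ', ← Polynomial.eval₂_map, hPQ, Polynomial.eval₂_map]

theorem exists_etale_idem {A B : Type u} [CommRing A] [CommRing B] [Algebra A B]
    [Algebra.IsIntegral A B] (I : Ideal A) (e : B ⧸ I.map (algebraMap A B))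
    (he : IsIdempotentElem e) :
    ∃ (A' : Type u) (_ : CommRing A') (_ : Algebra A A'), Algebra.Etale A A' ∧
      Function.Bijective (algebraMap (A ⧸ I) (A' ⧸ I.map (algebraMap A A'))) ∧
      ∃ e' : A' ⊗[A] B, IsIdempotentElem e' ∧
        ∀ b : B, Ideal.Quotient.mk (I.map (algebraMap A B)) b = e →
          e' - 1 ⊗ₜ b ∈ I.map (algebraMap A (A' ⊗[A] B)) := by
  cases subsingleton_or_nontrivial A with
  | inl hsub =>
    haveI : Subsingleton (A ⊗[A] B) := Module.subsingleton A _
    haveI : Subsingleton (A ⧸ I) := Module.subsingleton A _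
    haveI : Subsingleton (A ⧸ I.map (algebraMap A A)) := Module.subsingleton A _
    refine ⟨A, inferInstance, inferInstance, inferInstance,
      ⟨fun x y _ => Subsingleton.elim _ _, fun y => ⟨0, Subsingleton.elim _ _⟩⟩, 0,
      IsIdempotentElem.zero, fun b _ => ?_⟩
    rw [Subsingleton.elim (0 - (1 : A) ⊗ₜ[A] b) 0]
    exact Ideal.zero_mem _
  | inr hnt =>
  obtain ⟨b, rfl⟩ := Ideal.Quotient.mk_surjective e
  have hz : b ^ 2 - b ∈ I.map (algebraMap A B) := by
    rw [← Ideal.Quotient.eq, map_pow, pow_two]; exact he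
  obtain ⟨q₀, hq₀m, hq₀z, hq₀c⟩ := Polynomial.exists_monic_aeval_eq_zero_forall_mem_of_mem_map hz
  set n := q₀.natDegree + 1 with hn
  have hq₀map : q₀.map (Ideal.Quotient.mk I) = X ^ q₀.natDegree := by
    ext i
    rw [coeff_map, coeff_X_pow]
    split_ifs with h
    · rw [h, hq₀m.coeff_natDegree, map_one]
    · exact Ideal.Quotient.eq_zero_iff_mem.mpr (hq₀c i h)
  have hqm : (q₀ * X).Monic := hq₀m.mul monic_X
  have hqz : aeval (b ^ 2 - b) (q₀ * X) = 0 := by rw [map_mul, hq₀z, zero_mul]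
  have hqmap : (q₀ * X).map (Ideal.Quotient.mk I) = X ^ n := by
    rw [Polynomial.map_mul, hq₀map, map_X, ← pow_succ]
  -- the polynomial `s = X (X - 1)`
  have hsm : (X * (X - C (1 : A))).Monic := monic_X.mul (monic_X_sub_C 1)
  have hsd : (X * (X - C (1 : A))).natDegree ≠ 0 := by
    rw [monic_X.natDegree_mul (monic_X_sub_C 1), natDegree_X, natDegree_X_sub_C]
    norm_num
  -- the polynomial `f = q(s)`
  have hfm : ((q₀ * X).comp (X * (X - C (1 : A)))).Monic := hqm.comp hsm hsd
  have hfz : aeval b ((q₀ * X).comp (X * (X - C (1 : A)))) = 0 := by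
    rw [Polynomial.aeval_comp]
    have : aeval b (X * (X - C (1 : A))) = b ^ 2 - b := by
      simp only [map_mul, aeval_X, map_sub, aeval_C, map_one]
      ring
    rw [this, hqz]
  have hfmap : ((q₀ * X).comp (X * (X - C (1 : A)))).map (Ideal.Quotient.mk I) =
      X ^ n * (X - C (1 : A ⧸ I)) ^ n := by
    rw [Polynomial.map_comp, hqmap, X_pow_comp, Polynomial.map_mul, map_X, Polynomial.map_sub,
      map_X, Polynomial.map_C, map_one, mul_pow]
  have hcop : IsCoprime (X ^ n : (A ⧸ I)[X]) ((X - C (1 : A ⧸ I)) ^ n) := by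
    apply IsCoprime.pow
    refine ⟨1, -1, ?_⟩
    rw [map_one]
    ring
  obtain ⟨A', i1, i2, hE, hbij, g', h', hg'm, hh'm, hcop', hmul, hgm, hhm⟩ :=
    exists_etale_factorization I _ hfm _ _ (monic_X_pow n) ((monic_X_sub_C 1).pow n) hcop hfmap
  refine ⟨A', i1, i2, hE, hbij, ?_⟩
  -- inclusion of `IB` into `I(A' ⊗ B)`
  have hincl : ∀ x ∈ I.map (algebraMap A B), (1 : A') ⊗ₜ[A] x ∈ I.map (algebraMap A (A' ⊗[A] B)) := by
    intro x hx
    have h1 := Ideal.mem_map_of_mem
      ((Algebra.TensorProduct.includeRight : B →ₐ[A] A' ⊗[A] B) : B →+* A' ⊗[A] B) hx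
    rw [Ideal.map_map] at h1
    have h2 : (↑(Algebra.TensorProduct.includeRight : B →ₐ[A] A' ⊗[A] B) : B →+* A' ⊗[A] B).comp
        (algebraMap A B) = algebraMap A (A' ⊗[A] B) :=
      (Algebra.TensorProduct.includeRight : B →ₐ[A] A' ⊗[A] B).comp_algebraMap
    rw [h2] at h1
    exact h1
  have hβ : ((1 : A') ⊗ₜ[A] b) ^ 2 - (1 : A') ⊗ₜ[A] b ∈ I.map (algebraMap A (A' ⊗[A] B)) := by
    have := hincl _ hz
    rwa [TensorProduct.tmul_sub, pow_two, ← one_mul (1 : A'),
      ← Algebra.TensorProduct.tmul_mul_tmul, one_mul, ← pow_two] at this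
  have hzero : aeval ((1 : A') ⊗ₜ[A] b) (g' * h') = 0 := by
    rw [← hmul, Polynomial.aeval_map_algebraMap]
    have : ((1 : A') ⊗ₜ[A] b) = (Algebra.TensorProduct.includeRight : B →ₐ[A] A' ⊗[A] B) b := rfl
    rw [this, Polynomial.aeval_algHom_apply, hfz, map_zero]
  obtain ⟨ρ, hρ⟩ := mk_aeval_eq I ((1 : A') ⊗ₜ[A] b) g' _ hgm
  obtain ⟨ρ₂, hρ₂⟩ := mk_aeval_eq I ((1 : A') ⊗ₜ[A] b) h' _ hhm
  have hg : aeval ((1 : A') ⊗ₜ[A] b) g' - ((1 : A') ⊗ₜ[A] b) ^ n ∈
      I.map (algebraMap A (A' ⊗[A] B)) := by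
    rw [← Ideal.Quotient.eq, hρ, eval₂_X_pow, map_pow]
  have hh : aeval ((1 : A') ⊗ₜ[A] b) h' - ((1 : A') ⊗ₜ[A] b - 1) ^ n ∈
      I.map (algebraMap A (A' ⊗[A] B)) := by
    rw [← Ideal.Quotient.eq, hρ₂, eval₂_pow, eval₂_sub, eval₂_X, eval₂_C, map_one, map_pow,
      map_sub, map_one]
  obtain ⟨e', he', hcong⟩ := exists_idem_of_factorization (I.map (algebraMap A (A' ⊗[A] B)))
    ((1 : A') ⊗ₜ[A] b) hβ g' h' hcop' hzero n (by omega) hg hh
  refine ⟨e', he', fun b' hb' => ?_⟩
  have h1 : b - b' ∈ I.map (algebraMap A B) := by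
    rw [← Ideal.Quotient.eq]; exact hb'.symm
  have h2 := hincl _ h1
  rw [TensorProduct.tmul_sub] at h2
  have := Ideal.add_mem _ hcong h2
  rwa [sub_add_sub_cancel] at this

end Groth.Agent.Lib.EtaleSectionH3
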