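import Mathlib
import Groth.Agent.Lib.EtaleCompl_helper4
import Groth.Agent.Lib.LocFlatSch_helper9

/-!
# Étale on all infinitesimal neighbourhoods ⇒ étale near the closed subscheme (helper4)
-/

universe u

set_option linter.style.haveILetI false

open CategoryTheory CategoryTheory.Limits AlgebraicGeometry

namespace Groth.Agent.Lib.UnramLocH4

theorem main1360 {X S : Scheme.{u}} (f : X ⟶ S) [IsLocallyNoetherian S]
    [LocallyOfFinitePresentation f]
    (I : S.IdealSheafData) (h : ∀ n : ℕ, Etale (pullback.snd f (I ^ (n + 1)).subschemeι))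
    (x : X) (hx : f x ∈ I.support) :
    ∃ U : X.Opens, x ∈ U ∧ Etale (U.ι ≫ f) := by
  haveI : IsLocallyNoetherian X := LocallyOfFiniteType.isLocallyNoetherian f
  have hflat : (f.stalkMap x).hom.Flat :=
    Groth.Agent.Lib.LocFlatSch.flat_stalkMap_of_flat_infinitesimal f I
      (fun n => (Etale.iff_flat_and_formallyUnramified.mp (h n)).1) x hx
  have hx1 : f x ∈ Set.range (I ^ (0 + 1)).subschemeι := by
    rw [Scheme.IdealSheafData.range_subschemeι]
    exact hx
  obtain ⟨z, hz⟩ := hx1
  obtain ⟨x₀, hx₀, -⟩ := Scheme.Pullback.exists_preimage_pullback x z hz.symm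
  haveI : FormallyUnramified (pullback.snd f (I ^ (0 + 1)).subschemeι) :=
    (Etale.iff_flat_and_formallyUnramified.mp (h 0)).2.1
  have h1 : ((pullback.snd f (I ^ (0 + 1)).subschemeι).stalkMap x₀).hom.FormallyUnramified :=
    FormallyUnramified.stalkMap _ x₀
  have h2 := stalk_unramified_descent f (I ^ (0 + 1)).subschemeι x₀ h1
  have h3 : (f.stalkMap x).hom.FormallyUnramified :=
    (stalk_congr_point (P := RingHom.FormallyUnramified) f hx₀).mp h2
  exact (Groth.Agent.Lib.FibreFieldH4.exists_etale_nhd_iff_stalk f x).mpr ⟨hflat, h3⟩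

end Groth.Agent.Lib.UnramLocH4
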