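import Mathlib
import Groth.Agent.Lib.UnramFlat_helper5

/-!
# Local rings of étale algebras (helper5)
-/

set_option autoImplicit false
universe u

namespace Groth.Agent.EtaleLocal

open IsLocalRing

variable (A B : Type u) [CommRing A] [CommRing B] [Algebra A B] [Algebra.Etale A B]
  (q : Ideal B) [q.IsPrime]

theorem noetherian_and_regular_iff :
    (IsNoetherianRing (Localization.AtPrime (Ideal.comap (algebraMap A B) q)) ↔
      IsNoetherianRing (Localization.AtPrime q)) ∧
    (IsRegularLocalRing (Localization.AtPrime (Ideal.comap (algebraMap A B) q)) ↔
      IsRegularLocalRing (Localization.AtPrime q)) := by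
  set p := Ideal.comap (algebraMap A B) q with hp
  haveI : q.LiesOver p := ⟨rfl⟩
  letI := Localization.AtPrime.algebraOfLiesOver p q
  haveI : IsLocalHom (algebraMap (Localization.AtPrime p) (Localization.AtPrime q)) := by
    rw [RingHom.algebraMap_toAlgebra]
    exact Localization.isLocalHom_localRingHom p q (algebraMap A B) Ideal.LiesOver.over
  haveI : Module.Flat A B := inferInstance
  haveI : Module.Flat (Localization.AtPrime p) (Localization.AtPrime q) := inferInstance
  haveI : Algebra.EssFiniteType (Localization.AtPrime p) (Localization.AtPrime q) :=
    .of_comp A _ _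
  haveI : Algebra.FormallyUnramified (Localization.AtPrime p) (Localization.AtPrime q) :=
    .of_restrictScalars A _ _
  have hm := Algebra.FormallyUnramified.map_maximalIdeal (R := Localization.AtPrime p)
    (S := Localization.AtPrime q)
  have hnoeth : IsNoetherianRing (Localization.AtPrime p) ↔
      IsNoetherianRing (Localization.AtPrime q) := by
    constructor
    · intro h
      exact Algebra.EssFiniteType.isNoetherianRing (Localization.AtPrime p) _
    · intro h
      haveI : Module.FaithfullyFlat (Localization.AtPrime p) (Localization.AtPrime q) :=
        Module.FaithfullyFlat.of_flat_of_isLocalHom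
      apply Submodule.IsNoetherian.of_isNoetherian_tensorProduct_of_faithfullyFlat
        (A := Localization.AtPrime q)
      exact isNoetherian_of_linearEquiv (TensorProduct.AlgebraTensorModule.rid
        (Localization.AtPrime p) (Localization.AtPrime q) (Localization.AtPrime q)).symm
  refine ⟨hnoeth, ?_, ?_⟩
  · intro h
    haveI : IsNoetherianRing (Localization.AtPrime q) := hnoeth.mp inferInstance
    exact (Groth.Agent.UnramFlat.regular_iff _ _ hm).mp h
  · intro h
    haveI : IsNoetherianRing (Localization.AtPrime p) := hnoeth.mpr inferInstance
    exact (Groth.Agent.UnramFlat.regular_iff _ _ hm).mpr h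

end Groth.Agent.EtaleLocal
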