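import Mathlib

/-!
# Base change of the range of an idempotent matrix
-/

open TensorProduct

namespace Groth.Agent.Lib.IdemRangeH3

universe u v

section L1

variable {R : Type u} (S : Type u) {M : Type v} [CommRing R] [CommRing S] [Algebra R S]
  [AddCommGroup M] [Module R M]

/-- base change of the range of an idempotent is the range of the base change. -/
theorem nonempty_baseChange_range_equiv (e : M →ₗ[R] M) (he : e ∘ₗ e = e) :
    Nonempty (S ⊗[R] (LinearMap.range e) ≃ₗ[S] LinearMap.range (e.baseChange S)) := by
  set ι := (LinearMap.range e).subtype with hι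
  set p := e.rangeRestrict with hp
  have h1 : p ∘ₗ ι = LinearMap.id := by
    ext ⟨x, y, rfl⟩
    have := LinearMap.congr_fun he y
    simpa [hι, hp] using this
  have h2 : ι ∘ₗ p = e := by
    ext x
    simp [hι, hp]
  have h1S : (p.baseChange S) ∘ₗ (ι.baseChange S) = LinearMap.id := by
    rw [← LinearMap.baseChange_comp, h1, LinearMap.baseChange_id]
  have h2S : (ι.baseChange S) ∘ₗ (p.baseChange S) = e.baseChange S := by
    rw [← LinearMap.baseChange_comp, h2]
  have hinj : Function.Injective (ι.baseChange S) :=
    LinearMap.injective_of_comp_eq_id _ _ h1S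
  have hsurj : Function.Surjective (p.baseChange S) :=
    LinearMap.surjective_of_comp_eq_id _ _ h1S
  have hrange : LinearMap.range (ι.baseChange S) = LinearMap.range (e.baseChange S) := by
    rw [← h2S, LinearMap.range_comp_of_range_eq_top _ (LinearMap.range_eq_top.mpr hsurj)]
  exact ⟨(LinearEquiv.ofInjective _ hinj).trans (LinearEquiv.ofEq _ _ hrange)⟩

end L1

section L2

variable {R : Type u} (S : Type u) [CommRing R] [CommRing S] [Algebra R S] {n : ℕ}

theorem piScalarRight_comp_baseChange (N : Matrix (Fin n) (Fin n) R) :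
    (TensorProduct.piScalarRight R S S (Fin n)).toLinearMap ∘ₗ (Matrix.toLin' N).baseChange S =
      (Matrix.toLin' (N.map (algebraMap R S))) ∘ₗ
        (TensorProduct.piScalarRight R S S (Fin n)).toLinearMap := by
  apply TensorProduct.AlgebraTensorModule.ext
  intro s v
  simp only [LinearMap.coe_comp, LinearEquiv.coe_coe, Function.comp_apply,
    LinearMap.baseChange_tmul, TensorProduct.piScalarRight_apply,
    TensorProduct.piScalarRightHom_tmul]
  ext j
  simp only [Matrix.toLin'_apply, Matrix.mulVec, dotProduct, Matrix.map_apply]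
  rw [Finset.sum_smul]
  refine Finset.sum_congr rfl fun l _ => ?_
  rw [mul_smul, Algebra.smul_def (N j l)]

theorem nonempty_range_baseChange_equiv (N : Matrix (Fin n) (Fin n) R) :
    Nonempty (LinearMap.range ((Matrix.toLin' N).baseChange S) ≃ₗ[S]
      LinearMap.range (Matrix.toLin' (N.map (algebraMap R S)))) := by
  set Ψ := TensorProduct.piScalarRight R S S (Fin n) with hΨ
  have h := piScalarRight_comp_baseChange S N
  have hr : (LinearMap.range ((Matrix.toLin' N).baseChange S)).map Ψ.toLinearMap =
      LinearMap.range (Matrix.toLin' (N.map (algebraMap R S))) := by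
    rw [← LinearMap.range_comp, h,
      LinearMap.range_comp_of_range_eq_top _ (LinearMap.range_eq_top.mpr Ψ.surjective)]
  exact ⟨(Ψ.submoduleMap _).trans (LinearEquiv.ofEq _ _ hr)⟩

/-- base change of the range of an idempotent matrix. -/
theorem nonempty_baseChange_range_matrix_equiv (N : Matrix (Fin n) (Fin n) R) (hN : N * N = N) :
    Nonempty (S ⊗[R] (LinearMap.range (Matrix.toLin' N)) ≃ₗ[S]
      LinearMap.range (Matrix.toLin' (N.map (algebraMap R S)))) := by
  have he : (Matrix.toLin' N) ∘ₗ (Matrix.toLin' N) = Matrix.toLin' N := by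
    rw [← Matrix.toLin'_mul, hN]
  obtain ⟨e1⟩ := nonempty_baseChange_range_equiv S (Matrix.toLin' N) he
  obtain ⟨e2⟩ := nonempty_range_baseChange_equiv S N
  exact ⟨e1.trans e2⟩

end L2

section Proj

variable {R : Type u} [CommRing R] {n : ℕ}

theorem finite_range (N : Matrix (Fin n) (Fin n) R) :
    Module.Finite R (LinearMap.range (Matrix.toLin' N)) := inferInstance

theorem projective_range (N : Matrix (Fin n) (Fin n) R) (hN : N * N = N) :
    Module.Projective R (LinearMap.range (Matrix.toLin' N)) := by
  have he : (Matrix.toLin' N) ∘ₗ (Matrix.toLin' N) = Matrix.toLin' N := by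
    rw [← Matrix.toLin'_mul, hN]
  refine Module.Projective.of_split (LinearMap.range (Matrix.toLin' N)).subtype
    (Matrix.toLin' N).rangeRestrict ?_
  refine LinearMap.ext fun ⟨x, y, hy⟩ => ?_
  subst hy
  have := LinearMap.congr_fun he y
  apply Subtype.ext
  simpa using this

/-- a finite projective module is the range of an idempotent matrix. -/
theorem exists_idem_matrix (P : Type v) [AddCommGroup P] [Module R P] [Module.Finite R P]
    [Module.Projective R P] :
    ∃ (n : ℕ) (N : Matrix (Fin n) (Fin n) R), N * N = N ∧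
      Nonempty (P ≃ₗ[R] LinearMap.range (Matrix.toLin' N)) := by
  obtain ⟨n, f, g, hf, hg, hfg⟩ := Module.Finite.exists_comp_eq_id_of_projective R P
  refine ⟨n, LinearMap.toMatrix' (g ∘ₗ f), ?_, ?_⟩
  · rw [← LinearMap.toMatrix'_comp]
    congr 1
    rw [LinearMap.comp_assoc, ← LinearMap.comp_assoc f g f, hfg, LinearMap.id_comp]
  · rw [Matrix.toLin'_toMatrix']
    have hr : LinearMap.range g = LinearMap.range (g ∘ₗ f) := by
      rw [LinearMap.range_comp_of_range_eq_top _ (LinearMap.range_eq_top.mpr hf)]
    exact ⟨(LinearEquiv.ofInjective g hg).trans (LinearEquiv.ofEq _ _ hr)⟩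

end Proj

end Groth.Agent.Lib.IdemRangeH3
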