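import Mathlib
import Groth.Agent.Lib.EtaleIdem_helper3
import Groth.Agent.Lib.IdemRange_helper3

/-!
# Lifting idempotent matrices / finite projective modules to an étale neighbourhood
-/

open Polynomial TensorProduct

namespace Groth.Agent.Lib.EtaleSectionH3

universe u

/-- evaluation modulo `J` only depends on the polynomial modulo `IA'` (general `J ⊇ I T'`). -/
theorem mk_aeval_eq' {A : Type u} [CommRing A] (I : Ideal A) {A' T' : Type u} [CommRing A']
    [CommRing T'] [Algebra A A'] [Algebra A' T'] (J : Ideal T')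
    (hJ : ∀ i ∈ I, algebraMap A' T' (algebraMap A A' i) ∈ J)
    (β : T') (P : A'[X]) (Q : (A ⧸ I)[X])
    (hPQ : P.map (Ideal.Quotient.mk (I.map (algebraMap A A'))) =
      Q.map (algebraMap (A ⧸ I) (A' ⧸ I.map (algebraMap A A')))) :
    ∃ ρ : (A ⧸ I) →+* T' ⧸ J,
      Ideal.Quotient.mk J (aeval β P) = Q.eval₂ ρ (Ideal.Quotient.mk J β) := by
  have hle : I.map (algebraMap A A') ≤
      RingHom.ker ((Ideal.Quotient.mk J).comp (algebraMap A' T')) := by
    rw [Ideal.map_le_iff_le_comap]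
    intro i hi
    rw [Ideal.mem_comap, RingHom.mem_ker, RingHom.comp_apply, Ideal.Quotient.eq_zero_iff_mem]
    exact hJ i hi
  let ρ' : (A' ⧸ I.map (algebraMap A A')) →+* T' ⧸ J :=
    Ideal.Quotient.lift _ ((Ideal.Quotient.mk J).comp (algebraMap A' T')) (fun x hx => hle hx)
  have hρ' : ρ'.comp (Ideal.Quotient.mk (I.map (algebraMap A A'))) =
      (Ideal.Quotient.mk J).comp (algebraMap A' T') := by
    ext x; rfl
  refine ⟨ρ'.comp (algebraMap (A ⧸ I) (A' ⧸ I.map (algebraMap A A'))), ?_⟩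
  rw [aeval_def, Polynomial.hom_eval₂, ← hρ', ← Polynomial.eval₂_map, hPQ, Polynomial.eval₂_map]

/-- **Lifting idempotent matrices to an étale neighbourhood.** -/
theorem exists_etale_idem_matrix {A : Type u} [CommRing A] (I : Ideal A) (n : ℕ)
    (N : Matrix (Fin n) (Fin n) (A ⧸ I)) (hN : N * N = N) :
    ∃ (A' : Type u) (_ : CommRing A') (_ : Algebra A A'), Algebra.Etale A A' ∧
      Function.Bijective (algebraMap (A ⧸ I) (A' ⧸ I.map (algebraMap A A'))) ∧
      ∃ N' : Matrix (Fin n) (Fin n) A', N' * N' = N' ∧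
        N'.map (Ideal.Quotient.mk (I.map (algebraMap A A'))) =
          N.map (algebraMap (A ⧸ I) (A' ⧸ I.map (algebraMap A A'))) := by
  cases subsingleton_or_nontrivial A with
  | inl hsub =>
    haveI : Subsingleton (A ⧸ I) := Module.subsingleton A _
    haveI : Subsingleton (A ⧸ I.map (algebraMap A A)) := Module.subsingleton A _
    exact ⟨A, inferInstance, inferInstance, inferInstance,
      ⟨fun x y _ => Subsingleton.elim _ _, fun y => ⟨0, Subsingleton.elim _ _⟩⟩, 0,
      by simp, Subsingleton.elim _ _⟩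
  | inr hnt =>
  -- lift the matrix
  let E : Matrix (Fin n) (Fin n) A := N.map (Function.surjInv Ideal.Quotient.mk_surjective)
  have hE : E.map (Ideal.Quotient.mk I) = N := by
    ext i j
    simp only [E, Matrix.map_apply]
    exact Function.surjInv_eq Ideal.Quotient.mk_surjective _
  have hE' : (Ideal.Quotient.mk I).mapMatrix E = N := hE
  set Z := E * E - E with hZ
  have hZ0 : (Ideal.Quotient.mk I).mapMatrix Z = 0 := by
    rw [hZ, map_sub, map_mul, hE', hN, sub_self]
  have hqmap : Z.charpoly.map (Ideal.Quotient.mk I) = X ^ n := by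
    rw [← Matrix.charpoly_map]
    have : Z.map (Ideal.Quotient.mk I) = 0 := hZ0
    rw [this, Matrix.charpoly_zero, Fintype.card_fin]
  have hqm : (Z.charpoly * X).Monic := (Matrix.charpoly_monic Z).mul monic_X
  have hqz : aeval Z (Z.charpoly * X) = 0 := by
    rw [map_mul, Matrix.aeval_self_charpoly, zero_mul]
  have hqmap' : (Z.charpoly * X).map (Ideal.Quotient.mk I) = X ^ (n + 1) := by
    rw [Polynomial.map_mul, hqmap, map_X, ← pow_succ]
  have hsm : (X * (X - C (1 : A))).Monic := monic_X.mul (monic_X_sub_C 1)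
  have hsd : (X * (X - C (1 : A))).natDegree ≠ 0 := by
    rw [monic_X.natDegree_mul (monic_X_sub_C 1), natDegree_X, natDegree_X_sub_C]
    norm_num
  have hfm : ((Z.charpoly * X).comp (X * (X - C (1 : A)))).Monic := hqm.comp hsm hsd
  have hfz : aeval E ((Z.charpoly * X).comp (X * (X - C (1 : A)))) = 0 := by
    rw [Polynomial.aeval_comp]
    have : aeval E (X * (X - C (1 : A))) = Z := by
      simp only [map_mul, aeval_X, map_sub, aeval_C, map_one]
      rw [hZ, mul_sub, mul_one]
    rw [this, hqz]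
  have hfmap : ((Z.charpoly * X).comp (X * (X - C (1 : A)))).map (Ideal.Quotient.mk I) =
      X ^ (n + 1) * (X - C (1 : A ⧸ I)) ^ (n + 1) := by
    rw [Polynomial.map_comp, hqmap', X_pow_comp, Polynomial.map_mul, map_X, Polynomial.map_sub,
      map_X, Polynomial.map_C, map_one, mul_pow]
  have hcop : IsCoprime (X ^ (n + 1) : (A ⧸ I)[X]) ((X - C (1 : A ⧸ I)) ^ (n + 1)) := by
    apply IsCoprime.pow
    refine ⟨1, -1, ?_⟩
    rw [map_one]
    ring
  obtain ⟨A', i1, i2, hEt, hbij, g', h', hg'm, hh'm, hcop', hmul, hgm, hhm⟩ :=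
    exists_etale_factorization I _ hfm _ _ (monic_X_pow (n + 1)) ((monic_X_sub_C 1).pow (n + 1))
      hcop hfmap
  refine ⟨A', i1, i2, hEt, hbij, ?_⟩
  -- the matrix over `A'`
  set E' : Matrix (Fin n) (Fin n) A' := (Algebra.ofId A A').mapMatrix E with hE'def
  have hzeroE : aeval E' (g' * h') = 0 := by
    rw [← hmul, Polynomial.aeval_map_algebraMap, hE'def, Polynomial.aeval_algHom_apply, hfz,
      map_zero]
  -- the commutative ring `T' = A'[X]/(g' h')`
  set β : AdjoinRoot (g' * h') := AdjoinRoot.root (g' * h') with hβdef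
  set J : Ideal (AdjoinRoot (g' * h')) := Ideal.span ({β ^ 2 - β} ∪
    Set.range (fun i : I => algebraMap A' (AdjoinRoot (g' * h')) (algebraMap A A' i))) with hJ
  have hβ : β ^ 2 - β ∈ J := Ideal.subset_span (Or.inl rfl)
  have hJI : ∀ i ∈ I, algebraMap A' (AdjoinRoot (g' * h')) (algebraMap A A' i) ∈ J :=
    fun i hi => Ideal.subset_span (Or.inr ⟨⟨i, hi⟩, rfl⟩)
  have hzero : aeval β (g' * h') = 0 := by
    rw [hβdef, AdjoinRoot.aeval_eq, AdjoinRoot.mk_self]
  obtain ⟨ρ, hρ⟩ := mk_aeval_eq' I J hJI β g' _ hgm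
  obtain ⟨ρ₂, hρ₂⟩ := mk_aeval_eq' I J hJI β h' _ hhm
  have hg : aeval β g' - β ^ (n + 1) ∈ J := by
    rw [← Ideal.Quotient.eq, hρ, eval₂_X_pow, map_pow]
  have hh : aeval β h' - (β - 1) ^ (n + 1) ∈ J := by
    rw [← Ideal.Quotient.eq, hρ₂, eval₂_pow, eval₂_sub, eval₂_X, eval₂_C, map_one, map_pow,
      map_sub, map_one]
  obtain ⟨e', he', hcong⟩ := exists_idem_of_factorization J β hβ g' h' hcop' hzero (n + 1)
    (by omega) hg hh
  -- the map to matrices
  let Φ : AdjoinRoot (g' * h') →+* Matrix (Fin n) (Fin n) A' :=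
    Ideal.Quotient.lift (Ideal.span {g' * h'})
      ((aeval E' : A'[X] →ₐ[A'] Matrix (Fin n) (Fin n) A') : A'[X] →+* Matrix (Fin n) (Fin n) A')
      (by
        intro a ha
        obtain ⟨c, rfl⟩ := Ideal.mem_span_singleton'.mp ha
        change aeval E' (c * (g' * h')) = 0
        rw [map_mul, hzeroE, mul_zero])
  have hΦmk : ∀ P : A'[X], Φ (AdjoinRoot.mk (g' * h') P) = aeval E' P := fun P => rfl
  have hΦβ : Φ β = E' := by
    rw [hβdef, ← AdjoinRoot.mk_X, hΦmk, aeval_X]
  have hΦalg : ∀ a : A', Φ (algebraMap A' (AdjoinRoot (g' * h')) a) =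
      algebraMap A' (Matrix (Fin n) (Fin n) A') a := by
    intro a
    rw [AdjoinRoot.algebraMap_eq, ← AdjoinRoot.mk_C, hΦmk, aeval_C]
  -- reduction of matrices
  set μ : Matrix (Fin n) (Fin n) A' →+* Matrix (Fin n) (Fin n) (A' ⧸ I.map (algebraMap A A')) :=
    (Ideal.Quotient.mk (I.map (algebraMap A A'))).mapMatrix with hμ
  have hμE' : μ E' = (algebraMap (A ⧸ I) (A' ⧸ I.map (algebraMap A A'))).mapMatrix N := by
    rw [← hE']
    ext i j
    simp only [hμ, hE'def, RingHom.mapMatrix_apply, AlgHom.mapMatrix_apply, Matrix.map_apply]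
    rfl
  have hJμ : ∀ t ∈ J, μ (Φ t) = 0 := by
    intro t ht
    rw [hJ] at ht
    refine Submodule.span_induction ?_ ?_ ?_ ?_ ht
    · rintro x (hx | ⟨⟨i, hi⟩, rfl⟩)
      · rw [Set.mem_singleton_iff] at hx
        rw [hx, map_sub, map_pow, hΦβ, map_sub, map_pow, hμE', pow_two, ← map_mul, hN, sub_self]
      · rw [hΦalg, Matrix.algebraMap_eq_diagonal]
        ext a b
        simp only [hμ, RingHom.mapMatrix_apply, Matrix.map_apply, Matrix.zero_apply]
        by_cases hab : a = b
        · subst hab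
          rw [Matrix.diagonal_apply_eq]
          exact Ideal.Quotient.eq_zero_iff_mem.mpr (Ideal.mem_map_of_mem _ hi)
        · rw [Matrix.diagonal_apply_ne _ hab, map_zero]
    · simp
    · intro x y _ _ hx hy
      rw [map_add, map_add, hx, hy, add_zero]
    · intro r x _ hx
      rw [smul_eq_mul, map_mul, map_mul, hx, mul_zero]
  refine ⟨Φ e', ?_, ?_⟩
  · rw [← map_mul, he'.eq]
  · have h1 := hJμ _ hcong
    rw [map_sub, map_sub, hΦβ, sub_eq_zero, hμE'] at h1
    exact h1

/-- **Lifting finite projective modules to an étale neighbourhood.** -/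
theorem exists_etale_lift_projective {A : Type u} [CommRing A] (I : Ideal A) (P : Type u)
    [AddCommGroup P] [Module (A ⧸ I) P] [Module.Finite (A ⧸ I) P] [Module.Projective (A ⧸ I) P] :
    ∃ (A' : Type u) (_ : CommRing A') (_ : Algebra A A'), Algebra.Etale A A' ∧
      Function.Bijective (algebraMap (A ⧸ I) (A' ⧸ I.map (algebraMap A A'))) ∧
      ∃ (P' : Type u) (_ : AddCommGroup P') (_ : Module A' P'), Module.Finite A' P' ∧
        Module.Projective A' P' ∧
        Nonempty (((A' ⧸ I.map (algebraMap A A')) ⊗[A'] P') ≃ₗ[A' ⧸ I.map (algebraMap A A')]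
          ((A' ⧸ I.map (algebraMap A A')) ⊗[A ⧸ I] P)) := by
  obtain ⟨n, N, hN, ⟨eP⟩⟩ := Groth.Agent.Lib.IdemRangeH3.exists_idem_matrix (R := A ⧸ I) P
  obtain ⟨A', i1, i2, hEt, hbij, N', hN', hred⟩ := exists_etale_idem_matrix I n N hN
  refine ⟨A', i1, i2, hEt, hbij, LinearMap.range (Matrix.toLin' N'), inferInstance, inferInstance,
    Groth.Agent.Lib.IdemRangeH3.finite_range N',
    Groth.Agent.Lib.IdemRangeH3.projective_range N' hN', ?_⟩
  obtain ⟨e1⟩ := Groth.Agent.Lib.IdemRangeH3.nonempty_baseChange_range_matrix_equiv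
    (A' ⧸ I.map (algebraMap A A')) N' hN'
  obtain ⟨e2⟩ := Groth.Agent.Lib.IdemRangeH3.nonempty_baseChange_range_matrix_equiv
    (A' ⧸ I.map (algebraMap A A')) N hN
  have e3 := LinearEquiv.baseChange (A ⧸ I) (A' ⧸ I.map (algebraMap A A')) _ _ eP
  have hr : LinearMap.range (Matrix.toLin' (N'.map (algebraMap A' (A' ⧸ I.map (algebraMap A A'))))) =
      LinearMap.range (Matrix.toLin' (N.map (algebraMap (A ⧸ I) (A' ⧸ I.map (algebraMap A A'))))) := by
    have : N'.map (algebraMap A' (A' ⧸ I.map (algebraMap A A'))) =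
        N.map (algebraMap (A ⧸ I) (A' ⧸ I.map (algebraMap A A'))) := hred
    rw [this]
  exact ⟨e1.trans ((LinearEquiv.ofEq _ _ hr).trans (e2.symm.trans e3.symm))⟩

end Groth.Agent.Lib.EtaleSectionH3
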