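import Groth.Agent.Lib.TrigStruct_helper1
import Groth.Agent.Lib.PerfectRed_lead

/-!
# Étale quotient with infinitesimal kernel over a perfect field: the reduced subgroup is a section
(helper1)
-/

set_option autoImplicit false
set_option maxHeartbeats 1000000

universe u

open TensorProduct

namespace EtaleRetractH1

open Groth.Agent.Lib.HopfFFH1 TrigStrH1

section Surj

variable {k : Type u} [Field k] {A B : Type u} [CommRing A] [HopfAlgebra k A] [CommRing B]
  [HopfAlgebra k B]

/-- a bialgebra map whose augmentation ideal is the whole augmentation ideal is surjective -/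
theorem surjective_of_augIdeal (ψ : B →ₐc[k] A)
    (h : RingHom.ker (Bialgebra.counitAlgHom k A) ≤ augIdeal ψ) : Function.Surjective ψ := by
  intro a
  have ha : a ∈ (ψ : B →ₐ[k] A).range := by
    apply mem_range_of_coinv ψ a
    have hmk : (Ideal.Quotient.mkₐ k (augIdeal ψ)).toLinearMap =
        ((Ideal.Quotient.mkₐ k (augIdeal ψ)).toLinearMap ∘ₗ (Algebra.linearMap k A)) ∘ₗ
          (Coalgebra.counit (R := k) (A := A)) := by
      apply LinearMap.ext
      intro x
      rw [LinearMap.comp_apply, LinearMap.comp_apply, AlgHom.toLinearMap_apply,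
        AlgHom.toLinearMap_apply, Algebra.linearMap_apply, Ideal.Quotient.mkₐ_eq_mk, ← sub_eq_zero,
        ← map_sub, Ideal.Quotient.eq_zero_iff_mem]
      apply h
      rw [RingHom.mem_ker, map_sub, AlgHom.commutes, Bialgebra.counitAlgHom_apply]
      simp
    rw [hmk, LinearMap.lTensor_comp, LinearMap.comp_apply, Coalgebra.lTensor_counit_comul,
      LinearMap.lTensor_tmul, LinearMap.comp_apply, Algebra.linearMap_apply, map_one,
      AlgHom.toLinearMap_apply, map_one]
  obtain ⟨b, hb⟩ := (AlgHom.mem_range _).mp ha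
  exact ⟨b, hb⟩

end Surj

section Idem

theorem exists_idem_of_reduced_artinian {C : Type u} [CommRing C] [IsArtinianRing C] [IsReduced C]
    (I : Ideal C) : ∃ e : C, IsIdempotentElem e ∧ I = Ideal.span {e} := by
  have hfg : I.FG := (isNoetherianRing_iff_ideal_fg C).mp inferInstance I
  rw [← Ideal.isIdempotentElem_iff_of_fg I hfg]
  apply le_antisymm Ideal.mul_le_right
  intro x hx
  obtain ⟨n, y, hy⟩ := IsArtinian.exists_pow_succ_smul_dvd x (1 : C)
  rw [smul_eq_mul, smul_eq_mul, mul_one] at hy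
  have h1 : (x * (1 - x * y)) ^ (n + 1) = 0 := by
    have h2 : x ^ n * (1 - x * y) = 0 := by
      rw [mul_sub, mul_one, ← mul_assoc, ← pow_succ, hy, sub_self]
    generalize (1 - x * y) = z at h2 ⊢
    calc (x * z) ^ (n + 1) = (x ^ n * z) * (x * z ^ n) := by
          rw [mul_pow, pow_succ, pow_succ]; ring
      _ = 0 := by rw [h2, zero_mul]
  have h3 : x * (1 - x * y) = 0 := IsReduced.eq_zero _ ⟨n + 1, h1⟩
  have h4 : x = x * (x * y) := by
    rw [mul_sub, mul_one, sub_eq_zero] at h3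
    exact h3
  rw [h4]
  exact Ideal.mul_mem_mul hx (I.mul_mem_right y hx)

end Idem

section Main

variable (k : Type u) [Field k] (A : Type u) [CommRing A] [HopfAlgebra k A]
  [Algebra.FiniteType k A] (J : Ideal A) [J.IsHopfIdeal k] [IsLocalRing (A ⧸ J)]

theorem exists_pow_mem (a : A) (ha : Coalgebra.counit (R := k) a = 0) : ∃ n : ℕ, a ^ n ∈ J := by
  have hnu : Ideal.Quotient.mk J a ∈ IsLocalRing.maximalIdeal (A ⧸ J) := by
    rw [IsLocalRing.mem_maximalIdeal, mem_nonunits_iff]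
    intro hu
    have h1 := hu.map (Bialgebra.counitAlgHom k (A ⧸ J))
    have h2 : Bialgebra.counitAlgHom k (A ⧸ J) (Ideal.Quotient.mk J a) =
        Coalgebra.counit (R := k) a := rfl
    rw [h2, ha] at h1
    exact not_isUnit_zero h1
  haveI : IsJacobsonRing (A ⧸ J) := isJacobsonRing_of_finiteType (A := k)
  have hnil : IsLocalRing.maximalIdeal (A ⧸ J) = nilradical (A ⧸ J) := by
    have h1 := IsLocalRing.jacobson_eq_maximalIdeal (⊥ : Ideal (A ⧸ J)) bot_ne_top
    have h2 := IsJacobsonRing.out' _ (Ideal.radical_isRadical (⊥ : Ideal (A ⧸ J)))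
    rw [Ideal.jacobson_radical_eq_jacobson, h1] at h2
    rw [h2]; rfl
  rw [hnil, mem_nilradical] at hnu
  obtain ⟨n, hn⟩ := hnu
  exact ⟨n, by rw [← map_pow] at hn; exact Ideal.Quotient.eq_zero_iff_mem.mp hn⟩

end Main


theorem s5441 (k : Type u) [Field k] [PerfectField k] (A C : Type u) [CommRing A] [HopfAlgebra k A]
    [Algebra.FiniteType k A] [CommRing C] [HopfAlgebra k C] [Algebra.Etale k C] (ψ : C →ₐc[k] A)
    (hψ : Function.Injective ψ) (J : Ideal A) [J.IsHopfIdeal k]
    (hJ : J = Ideal.map (ψ : C →+* A) (RingHom.ker (Bialgebra.counitAlgHom k C)))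
    [IsLocalRing (A ⧸ J)] :
    (∃! r : A →ₐc[k] C, r.comp ψ = BialgHom.id k C) ∧
    ∀ r : A →ₐc[k] C, r.comp ψ = BialgHom.id k C → RingHom.ker (r : A →+* C) = nilradical A := by
  haveI hN : (nilradical A).IsHopfIdeal k :=
    Groth.Agent.Lib.PerfectRed.nilradical_isHopfIdeal k A
  haveI : Module.Finite k C := Algebra.FormallyUnramified.finite_of_free k C
  haveI : IsReduced C := Algebra.FormallyUnramified.isReduced_of_field k C
  haveI : IsArtinianRing C := IsArtinianRing.of_finite k C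
  haveI hred : IsReduced (A ⧸ nilradical A) :=
    (Ideal.isRadical_iff_quotient_reduced _).mp (Ideal.radical_isRadical (⊥ : Ideal A))
  obtain ⟨e, he, hCe⟩ := exists_idem_of_reduced_artinian (RingHom.ker (Bialgebra.counitAlgHom k C))
  have hemem : e ∈ RingHom.ker (Bialgebra.counitAlgHom k C) := by
    rw [hCe]; exact Ideal.mem_span_singleton_self e
  have hJe : J = Ideal.span {ψ e} := by
    rw [hJ, hCe, Ideal.map_span, Set.image_singleton]; rfl
  obtain ⟨π, hπ⟩ : ∃ π : A →ₐc[k] A ⧸ nilradical A,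
      ∀ a, π a = Ideal.Quotient.mk (nilradical A) a :=
    ⟨Bialgebra.Quotient.mkBialgHom (nilradical A), fun _ => rfl⟩
  obtain ⟨ψ', hψ'⟩ : ∃ ψ' : C →ₐc[k] A ⧸ nilradical A, ∀ c, ψ' c = π (ψ c) :=
    ⟨π.comp ψ, fun _ => rfl⟩
  have hψ'inj : Function.Injective ψ' := by
    rw [injective_iff_map_eq_zero]
    intro c hc
    rw [hψ', hπ, Ideal.Quotient.eq_zero_iff_mem, mem_nilradical] at hc
    obtain ⟨n, hn⟩ := hc
    have h1 : ψ (c ^ n) = ψ 0 := by rw [map_pow, hn, map_zero]
    have h0 : c ^ n = 0 := hψ h1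
    exact IsReduced.eq_zero _ ⟨n, h0⟩
  have hz : ψ e * (1 - ψ e) = 0 := by
    rw [mul_sub, mul_one, (he.map ψ).eq, sub_self]
  have haug : RingHom.ker (Bialgebra.counitAlgHom k (A ⧸ nilradical A)) ≤ augIdeal ψ' := by
    intro x hx
    obtain ⟨a, rfl⟩ := Ideal.Quotient.mk_surjective x
    have hx' : Bialgebra.counitAlgHom k (A ⧸ nilradical A)
        (Ideal.Quotient.mk (nilradical A) a) = 0 := RingHom.mem_ker.mp hx
    have ha : Coalgebra.counit (R := k) a = 0 := hx'
    obtain ⟨n, hn⟩ := exists_pow_mem k A J a ha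
    rw [hJe, Ideal.mem_span_singleton'] at hn
    obtain ⟨b, hb⟩ := hn
    have h0 : a ^ n * (1 - ψ e) = 0 := by rw [← hb, mul_assoc, hz, mul_zero]
    have h1 : (a * (1 - ψ e)) ^ (n + 1) = 0 := by
      generalize (1 - ψ e) = z at h0 ⊢
      calc (a * z) ^ (n + 1) = (a ^ n * z) * (a * z ^ n) := by
            rw [mul_pow, pow_succ, pow_succ]; ring
        _ = 0 := by rw [h0, zero_mul]
    have h2 : π (a * (1 - ψ e)) = 0 :=
      IsReduced.eq_zero _ ⟨n + 1, by rw [← map_pow, h1, map_zero]⟩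
    have h3 : Ideal.Quotient.mk (nilradical A) a = π a * ψ' e := by
      rw [map_mul, map_sub, map_one, mul_sub, mul_one, sub_eq_zero] at h2
      rw [hψ', ← h2, hπ]
    rw [h3]
    exact Ideal.mul_mem_left _ _ (Ideal.mem_map_of_mem _ hemem)
  have hψ'surj := surjective_of_augIdeal ψ' haug
  obtain ⟨E, hE⟩ : ∃ E : C ≃ₐc[k] A ⧸ nilradical A, ∀ c, E c = ψ' c :=
    ⟨BialgEquiv.ofBijective ψ' ⟨hψ'inj, hψ'surj⟩, fun _ => rfl⟩
  have key : ∀ r : A →ₐc[k] C, r.comp ψ = BialgHom.id k C → ∀ a, r a = E.symm (π a) := by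
    intro r hr a
    have hrψ : ∀ c, r (ψ c) = c := fun c => DFunLike.congr_fun hr c
    have h1 : π (a - ψ (E.symm (π a))) = 0 := by
      rw [map_sub, ← hψ', ← hE, E.apply_symm_apply, sub_self]
    rw [hπ, Ideal.Quotient.eq_zero_iff_mem, mem_nilradical] at h1
    have h2 : r (a - ψ (E.symm (π a))) = 0 := (h1.map r).eq_zero
    rw [map_sub, hrψ, sub_eq_zero] at h2
    exact h2
  obtain ⟨r₀, hr₀def⟩ : ∃ r₀ : A →ₐc[k] C, ∀ a, r₀ a = E.symm (π a) :=
    ⟨(E.symm : (A ⧸ nilradical A) →ₐc[k] C).comp π, fun _ => rfl⟩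
  have hr₀ : r₀.comp ψ = BialgHom.id k C := by
    apply BialgHom.ext
    intro c
    show r₀ (ψ c) = c
    rw [hr₀def, ← hψ', ← hE, E.symm_apply_apply]
  refine ⟨⟨r₀, hr₀, fun r hr => ?_⟩, fun r hr => ?_⟩
  · apply BialgHom.ext
    intro a
    rw [key r hr a, hr₀def]
  · ext a
    rw [RingHom.mem_ker]
    show r a = 0 ↔ a ∈ nilradical A
    rw [key r hr a, ← Ideal.Quotient.eq_zero_iff_mem (I := nilradical A), ← hπ]
    constructor
    · intro h
      have h1 := congrArg E h
      rwa [E.apply_symm_apply, map_zero] at h1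
    · intro h
      rw [h, map_zero]

end EtaleRetractH1
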