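import Mathlib
import Groth.Prelude.Def_W4c5stcicurvesp3Euclid

open W4c5stcicurvesp3

namespace Groth.Agent.Lib.EuclidB

theorem irem_zero (a b : ℕ) : irem a b 0 = b := rfl
theorem irem_one (a b : ℕ) : irem a b 1 = a % b := rfl
theorem irem_add_two (a b n : ℕ) : irem a b (n + 1 + 1) =
    if irem a b (n + 1) = 0 then 0 else irem a b n % irem a b (n + 1) := by
  first | rfl | rw [irem] | simp [irem]
theorem idiv_one (a b : ℕ) : idiv a b 1 = a / b := rfl
theorem idiv_add_two (a b n : ℕ) : idiv a b (n + 1 + 1) =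
    if irem a b (n + 1) = 0 then 0 else irem a b n / irem a b (n + 1) := by
  first | rfl | rw [idiv] | simp [idiv]

theorem div_id (a b m : ℕ) (h : irem a b (m + 1) ≠ 0) :
    irem a b m = idiv a b (m + 1 + 1) * irem a b (m + 1) + irem a b (m + 1 + 1) := by
  rw [irem_add_two, idiv_add_two, if_neg h, if_neg h]
  exact (Nat.div_add_mod' _ _).symm

theorem irem_lt (N k : ℕ) (hk : 0 < k) (m : ℕ) (h : m = 0 ∨ irem N k m ≠ 0) :
    irem N k (m + 1) < irem N k m := by
  cases m with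
  | zero =>
    show N % k < k
    exact Nat.mod_lt _ hk
  | succ n =>
    have hn : irem N k (n + 1) ≠ 0 := by
      rcases h with h | h
      · exact absurd h (Nat.succ_ne_zero n)
      · exact h
    rw [irem_add_two, if_neg hn]
    exact Nat.mod_lt _ (Nat.pos_of_ne_zero hn)

theorem Qs_ge (N k : ℕ) (hk : 0 < k) (hkN : 2 * k ≤ N) (m : ℕ) :
    (2 : ℚ) ≤ ∑ j ∈ Finset.Icc 1 (m + 1), (idiv N k j : ℚ) := by
  have h1 : (idiv N k 1 : ℚ) ≤ ∑ j ∈ Finset.Icc 1 (m + 1), (idiv N k j : ℚ) :=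
    Finset.single_le_sum (f := fun j => (idiv N k j : ℚ)) (fun j _ => Nat.cast_nonneg _)
      (Finset.mem_Icc.mpr ⟨le_rfl, by omega⟩)
  have h2 : 2 ≤ idiv N k 1 := by
    rw [idiv_one]; exact (Nat.le_div_iff_mul_le hk).mpr hkN
  have h3 : (2 : ℚ) ≤ (idiv N k 1 : ℚ) := by exact_mod_cast h2
  linarith

theorem key_eq (b r c : ℚ) (h0 : c ≠ 0) (h1 : c * r + b ≠ 0) (h2 : c * b + r ≠ 0) :
    b ^ 2 / (c * b + r) - ((b - r) / c + r ^ 2 / (c * r + b)) =
      b * r * (c - 1) * (b - r) / (c * (c * r + b) * (c * b + r)) := by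
  rw [div_add_div _ _ h0 h1, div_sub_div _ _ h2 (mul_ne_zero h0 h1),
    div_eq_div_iff (mul_ne_zero h2 (mul_ne_zero h0 h1)) (mul_ne_zero (mul_ne_zero h0 h1) h2)]
  ring

theorem key_ineq (b r c : ℚ) (hc : 1 ≤ c) (hr : 0 ≤ r) (hrb : r ≤ b) (hb : 0 < b) :
    (b - r) / c + r ^ 2 / (c * r + b) ≤ b ^ 2 / (c * b + r) := by
  have hc0 : 0 < c := by linarith
  have h1 : 0 < c * r + b := by positivity
  have h2 : 0 < c * b + r := by positivity
  have e := key_eq b r c hc0.ne' h1.ne' h2.ne'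
  have : 0 ≤ b * r * (c - 1) * (b - r) / (c * (c * r + b) * (c * b + r)) := by
    apply div_nonneg
    · exact mul_nonneg (mul_nonneg (mul_nonneg hb.le hr) (by linarith)) (by linarith)
    · positivity
  linarith

theorem inv (N k t : ℕ) (hk : 0 < k) (hkN : 2 * k ≤ N)
    (hmin : ∀ i, 0 < i → i < t → irem N k i ≠ 0) :
    ∀ m, m < t →
      ∑ i ∈ Finset.range m, ((irem N k i : ℚ) - irem N k (i + 1)) /
          (∑ j ∈ Finset.Icc 1 (i + 1), (idiv N k j : ℚ))
        + (irem N k m : ℚ) ^ 2 /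
          ((∑ j ∈ Finset.Icc 1 (m + 1), (idiv N k j : ℚ)) * irem N k m + irem N k (m + 1))
        ≤ (k : ℚ) ^ 2 / N := by
  intro m
  induction m with
  | zero =>
    intro _
    rw [Finset.sum_range_zero, zero_add]
    have hN : ((∑ j ∈ Finset.Icc 1 (0 + 1), (idiv N k j : ℚ)) * irem N k 0 + irem N k (0 + 1))
        = (N : ℚ) := by
      simp only [zero_add, Finset.Icc_self, Finset.sum_singleton, irem_zero, irem_one, idiv_one]
      exact_mod_cast Nat.div_add_mod' N k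
    exact le_of_eq (by rw [hN, irem_zero])
  | succ m ih =>
    intro hm
    have ihm := ih (Nat.lt_of_succ_lt hm)
    have hr1 : irem N k (m + 1) ≠ 0 := hmin (m + 1) (Nat.succ_pos m) hm
    have hlt : irem N k (m + 1) < irem N k m := by
      apply irem_lt N k hk m
      rcases Nat.eq_zero_or_pos m with h | h
      · exact Or.inl h
      · exact Or.inr (hmin m h (by omega))
    have hbpos : 0 < irem N k m := lt_of_le_of_lt (Nat.zero_le _) hlt
    have hdiv := div_id N k m hr1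
    have hQ : (1 : ℚ) ≤ ∑ j ∈ Finset.Icc 1 (m + 1), (idiv N k j : ℚ) := by
      have := Qs_ge N k hk hkN m; linarith
    rw [Finset.sum_range_succ]
    have hE : (∑ j ∈ Finset.Icc 1 (m + 1 + 1), (idiv N k j : ℚ)) * irem N k (m + 1)
          + irem N k (m + 1 + 1) =
        (∑ j ∈ Finset.Icc 1 (m + 1), (idiv N k j : ℚ)) * irem N k (m + 1) + irem N k m := by
      rw [Finset.sum_Icc_succ_top (by omega)]
      have : (irem N k m : ℚ) = (idiv N k (m + 1 + 1) : ℚ) * irem N k (m + 1)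
          + irem N k (m + 1 + 1) := by exact_mod_cast hdiv
      rw [this]; ring
    rw [hE]
    have hkey := key_ineq (irem N k m : ℚ) (irem N k (m + 1) : ℚ)
      (∑ j ∈ Finset.Icc 1 (m + 1), (idiv N k j : ℚ)) hQ (Nat.cast_nonneg _)
      (by exact_mod_cast hlt.le) (by exact_mod_cast hbpos)
    linarith

theorem main52 (k N t : ℕ) (hk : 0 < k) (hkN : 2 * k ≤ N) (ht : 0 < t)
    (hzero : irem N k t = 0) (hmin : ∀ i, 0 < i → i < t → irem N k i ≠ 0) :
    ∑ i ∈ Finset.range t, ((irem N k i : ℚ) - irem N k (i + 1)) /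
        (∑ j ∈ Finset.Icc 1 (i + 1), (idiv N k j : ℚ))
      ≤ (k : ℚ) ^ 2 / N := by
  obtain ⟨m, rfl⟩ := Nat.exists_eq_add_one_of_ne_zero ht.ne'
  have h := inv N k (m + 1) hk hkN hmin m (Nat.lt_succ_self m)
  rw [Finset.sum_range_succ]
  have hb : irem N k m ≠ 0 := by
    rcases Nat.eq_zero_or_pos m with rfl | hm
    · rw [irem_zero]; exact hk.ne'
    · exact hmin m hm (Nat.lt_succ_self m)
  have hQ : (1 : ℚ) ≤ ∑ j ∈ Finset.Icc 1 (m + 1), (idiv N k j : ℚ) := by
    have := Qs_ge N k hk hkN m; linarith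
  have e : (irem N k m : ℚ) ^ 2 /
      ((∑ j ∈ Finset.Icc 1 (m + 1), (idiv N k j : ℚ)) * irem N k m + irem N k (m + 1)) =
      ((irem N k m : ℚ) - irem N k (m + 1)) / (∑ j ∈ Finset.Icc 1 (m + 1), (idiv N k j : ℚ)) := by
    rw [hzero, Nat.cast_zero, add_zero, sub_zero]
    have hb' : (irem N k m : ℚ) ≠ 0 := Nat.cast_ne_zero.mpr hb
    have hQ' : (∑ j ∈ Finset.Icc 1 (m + 1), (idiv N k j : ℚ)) ≠ 0 :=
      (lt_of_lt_of_le one_pos hQ).ne'
    rw [div_eq_div_iff (mul_ne_zero hQ' hb') hQ']; ring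
  rw [e] at h
  exact h

theorem three_step (a c u v k : ℚ) (ha : 2 ≤ a) (hc : 1 ≤ c) (hv : 0 < v) (hvu : v < u)
    (hk : k = c * u + v) :
    (k - u) / a + (u - v) / (a + c) + v / (a + c + 1) ≤ k ^ 2 / (a * k + u) := by
  have hu : 0 < u := lt_trans hv hvu
  have hvd : v ≤ k - u := by rw [hk]; nlinarith
  have hku : u < k := by linarith
  have hk0 : 0 < k := lt_trans hu hku
  have ha0 : 0 < a := by linarith
  have hs0 : 0 < a + c := by linarith
  have hs1 : 0 < a + c + 1 := by linarith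
  have hE : a * u + k = (a + c) * u + v := by rw [hk]; ring
  have hEpos : 0 < a * u + k := by positivity
  have hNpos : 0 < a * k + u := by positivity
  have hA := key_eq k u a ha0.ne' hEpos.ne' hNpos.ne'
  have hB : (u - v) / (a + c) + v / (a + c + 1) - u ^ 2 / (a * u + k) =
      v * (u - v) / ((a + c) * (a + c + 1) * (a * u + k)) := by
    rw [hE]
    have h1 : (a + c) ≠ 0 := hs0.ne'
    have h2 : (a + c + 1) ≠ 0 := hs1.ne'
    have h3 : ((a + c) * u + v) ≠ 0 := by rw [← hE]; exact hEpos.ne'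
    field_simp
    ring
  have hw : 0 ≤ u - v := by linarith
  have hd : 0 ≤ k - u := by linarith
  have e1 : v * (u - v) ≤ (k - u) * u := mul_le_mul hvd (by linarith) hw hd
  have e2 : a * (a * k + u) ≤ a * ((a + 1) * k) := by
    apply mul_le_mul_of_nonneg_left _ ha0.le
    linarith
  have e12 : v * (u - v) * (a * (a * k + u)) ≤ (k - u) * u * (a * ((a + 1) * k)) :=
    mul_le_mul e1 e2 (by positivity) (mul_nonneg hd hu.le)
  have h5 : (a + 1) * (a + 2) ≤ (a + c) * (a + c + 1) := by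
    nlinarith [mul_nonneg (by linarith : (0:ℚ) ≤ c - 1) (by linarith : (0:ℚ) ≤ a + c + a + 2)]
  have h6 : a * (a + 1) ≤ (a - 1) * ((a + 1) * (a + 2)) := by
    have h7 : (0:ℚ) ≤ a * a - 2 := by nlinarith [mul_self_nonneg (a - 2)]
    nlinarith [mul_nonneg (by linarith : (0:ℚ) ≤ a + 1) h7]
  have e3 : a * (a + 1) ≤ (a - 1) * ((a + c) * (a + c + 1)) :=
    le_trans h6 (mul_le_mul_of_nonneg_left h5 (by linarith))
  have e3' := mul_le_mul_of_nonneg_left e3 (mul_nonneg (mul_nonneg hk0.le hu.le) hd)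
  have hPQ : v * (u - v) * (a * (a * k + u)) ≤
      k * u * (a - 1) * (k - u) * ((a + c) * (a + c + 1)) := by linarith [e12, e3']
  have hXY : v * (u - v) / ((a + c) * (a + c + 1) * (a * u + k)) ≤
      k * u * (a - 1) * (k - u) / (a * (a * u + k) * (a * k + u)) := by
    rw [div_le_div_iff₀ (by positivity) (by positivity)]
    have := mul_le_mul_of_nonneg_right hPQ hEpos.le
    linarith
  linarith [hA, hB, hXY]

theorem main51 (k N : ℕ) (hk : 0 < k) (hkN : 2 * k ≤ N)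
    (h1 : irem N k 1 ≠ 0) (h2 : irem N k 2 ≠ 0) :
    ((irem N k 0 : ℚ) - irem N k 1) / (idiv N k 1)
      + ((irem N k 1 : ℚ) - irem N k 2) / ((idiv N k 1 : ℚ) + idiv N k 2)
      + (irem N k 2 : ℚ) / ((idiv N k 1 : ℚ) + idiv N k 2 + 1)
      ≤ (k : ℚ) ^ 2 / N := by
  have hu_lt : irem N k 1 < k := Nat.mod_lt _ hk
  have hv_lt : irem N k 2 < irem N k 1 := irem_lt N k hk 1 (Or.inr h1)
  have hdiv2 : k = idiv N k 2 * irem N k 1 + irem N k 2 := div_id N k 0 h1
  have ha2 : 2 ≤ idiv N k 1 := (Nat.le_div_iff_mul_le hk).mpr hkN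
  have hc1 : 1 ≤ idiv N k 2 := by
    have : idiv N k 2 = k / irem N k 1 := by
      have := idiv_add_two N k 0
      rw [if_neg h1] at this
      exact this
    rw [this]; exact Nat.div_pos hu_lt.le (Nat.pos_of_ne_zero h1)
  have hN : (N : ℚ) = (idiv N k 1 : ℚ) * (k : ℚ) + (irem N k 1 : ℚ) := by
    have : N = idiv N k 1 * k + irem N k 1 := (Nat.div_add_mod' N k).symm
    exact_mod_cast this
  have hkq : (k : ℚ) = (idiv N k 2 : ℚ) * (irem N k 1 : ℚ) + (irem N k 2 : ℚ) := by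
    exact_mod_cast hdiv2
  rw [hN]
  exact three_step (idiv N k 1 : ℚ) (idiv N k 2 : ℚ) (irem N k 1 : ℚ) (irem N k 2 : ℚ) (k : ℚ)
    (by exact_mod_cast ha2) (by exact_mod_cast hc1) (by exact_mod_cast Nat.pos_of_ne_zero h2)
    (by exact_mod_cast hv_lt) hkq

end Groth.Agent.Lib.EuclidB
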