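import Mathlib
import Groth.Prelude.Def_DRing2
import Groth.Agent.Lib.DMod9_helper6

/-!
# Euler characteristic of a bounded complex of finite projective modules (helper6)

* an exact bounded complex of finite projective modules has vanishing Euler characteristic
  (ranks at every prime);
* if the cohomology of a bounded complex of finite projective modules vanishes at all minimal
  primes, then the Euler characteristic vanishes at every prime.
-/

set_option autoImplicit false
universe u
open CategoryTheory CategoryTheory.Limits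
open scoped TensorProduct
attribute [local instance] HasDerivedCategory.standard

namespace Groth.Agent.Lib.DMod_helper6

open DRing Groth.Agent.ExtendScalarsLib

/-- telescoping of an alternating sum -/
lemma sum_negOnePow_telescope (s : Finset ℤ) (z : ℤ → ℤ) (h1 : ∀ i, i ∉ s → z i = 0)
    (h2 : ∀ i, i ∉ s → z (i + 1) = 0) :
    (s.sum fun i => ((i.negOnePow : ℤˣ) : ℤ) * (z i + z (i + 1))) = 0 := by
  let F : ℤ → ℤ := fun i => ((i.negOnePow : ℤˣ) : ℤ) * z i
  have hF : ∀ i, ((i.negOnePow : ℤˣ) : ℤ) * (z i + z (i + 1)) = F i - F (i + 1) := by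
    intro i
    simp only [F, Int.negOnePow_succ, Units.val_neg]
    ring
  simp_rw [hF]
  rw [Finset.sum_sub_distrib]
  let e : ℤ ↪ ℤ := ⟨fun i => i + 1, add_left_injective 1⟩
  have hs' : (s.sum fun i => F (i + 1)) = (s.map e).sum F := by
    rw [Finset.sum_map]; rfl
  rw [hs']
  have a1 : s.sum F = (s ∪ s.map e).sum F := by
    apply Finset.sum_subset Finset.subset_union_left
    intro i _ hi
    simp only [F, h1 i hi, mul_zero]
  have a2 : (s.map e).sum F = (s ∪ s.map e).sum F := by
    apply Finset.sum_subset Finset.subset_union_right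
    intro i _ hi
    have hm : i - 1 ∉ s := by
      intro hmem
      apply hi
      rw [Finset.mem_map]
      exact ⟨i - 1, hmem, by simp [e]⟩
    have h3 := h2 (i - 1) hm
    rw [sub_add_cancel] at h3
    simp only [F, h3, mul_zero]
  rw [a1, a2, sub_self]

variable {A : Type u} [CommRing A]

/-- the term `X j` of a complex exact at `j+1` with projective cycles splits as a product of
cycles -/
lemma exists_equiv_cycles_prod (E : Cx A) (j : ℤ) (hex : E.ExactAt (j + 1))
    (hp : Module.Projective A (E.cycles (j + 1))) :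
    Nonempty (E.X j ≃ₗ[A] (E.cycles j × E.cycles (j + 1))) := by
  let ι : E.cycles j →ₗ[A] E.X j := (E.iCycles j).hom
  let δ : E.X j →ₗ[A] E.cycles (j + 1) := (E.toCycles j (j + 1)).hom
  have hι : Function.Injective ι := (ModuleCat.mono_iff_injective _).1 inferInstance
  haveI : Epi (E.toCycles j (j + 1)) := epi_toCycles_of_exactAt E j (j + 1) rfl hex
  have hδ : Function.Surjective δ := (ModuleCat.epi_iff_surjective _).1 inferInstance
  have h0 : E.iCycles j ≫ E.toCycles j (j + 1) = 0 := by
    rw [← cancel_mono (E.iCycles (j + 1)), Category.assoc, E.toCycles_i, E.iCycles_d,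
      zero_comp]
  have hexact : Function.Exact ι δ := by
    intro x
    constructor
    · intro hx
      have hd : (E.d j (j + 1)).hom x = 0 := by
        have := congrArg (fun f => f.hom x) (E.toCycles_i j (j + 1))
        simp only [ModuleCat.hom_comp, LinearMap.comp_apply] at this
        rw [← this]
        show (E.iCycles (j + 1)).hom (δ x) = 0
        rw [hx, map_zero]
      let W : ModuleCat.{u} A := ModuleCat.of A (LinearMap.ker (E.d j (j + 1)).hom)
      let k : W ⟶ E.X j := ModuleCat.ofHom (LinearMap.ker (E.d j (j + 1)).hom).subtype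
      have hk : k ≫ E.d j (j + 1) = 0 := by
        ext w
        exact w.2
      let l : W ⟶ E.cycles j := E.liftCycles k (j + 1) (by simp) hk
      refine ⟨l.hom (⟨x, hd⟩ : LinearMap.ker (E.d j (j + 1)).hom), ?_⟩
      have := congrArg (fun f => f.hom (⟨x, hd⟩ : LinearMap.ker (E.d j (j + 1)).hom))
        (E.liftCycles_i k (j + 1) (by simp) hk)
      simp only [ModuleCat.hom_comp, LinearMap.comp_apply] at this
      exact this
    · rintro ⟨y, rfl⟩
      have := congrArg (fun f => f.hom y) h0
      simp only [ModuleCat.hom_comp, LinearMap.comp_apply] at this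
      exact this
  obtain ⟨l, hl⟩ := Module.projective_lifting_property δ LinearMap.id hδ
  exact ⟨((hexact.splitSurjectiveEquiv hι) ⟨l, hl⟩).1⟩

/-- An exact bounded complex of finite projective modules has vanishing Euler characteristic. -/
theorem euler_eq_zero_of_exact (E : Cx A) (s : Finset ℤ)
    (hfp : TermwiseFiniteProjective E) (hs : ∀ i, i ∉ s → IsZero (E.X i))
    (hex : ∀ i, E.ExactAt i) (p : PrimeSpectrum A) :
    (s.sum fun i => ((i.negOnePow : ℤˣ) : ℤ) *
      (Module.rankAtStalk (R := A) (E.X i) p : ℤ)) = 0 := by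
  obtain ⟨b, hb⟩ : ∃ b : ℤ, ∀ i, b < i → IsZero (E.X i) := by
    by_cases hne : s.Nonempty
    · exact ⟨s.max' hne, fun i hi => hs i (fun hmem => absurd (s.le_max' i hmem) (not_le.2 hi))⟩
    · exact ⟨0, fun i _ => hs i (fun hmem => hne ⟨i, hmem⟩)⟩
  have hcyc : ∀ j, Module.Finite A (E.cycles j) ∧ Module.Projective A (E.cycles j) := fun j =>
    cycles_finite_projective E b (j - 1) hb hfp (fun i _ => hex i) j (by omega)
  let z : ℤ → ℤ := fun i => (Module.rankAtStalk (R := A) (E.cycles i) p : ℤ)
  have hrank : ∀ i, (Module.rankAtStalk (R := A) (E.X i) p : ℤ) = z i + z (i + 1) := by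
    intro i
    obtain ⟨e⟩ := exists_equiv_cycles_prod E i (hex (i + 1)) (hcyc (i + 1)).2
    haveI := (hcyc i).1
    haveI := (hcyc i).2
    haveI := (hcyc (i + 1)).1
    haveI := (hcyc (i + 1)).2
    rw [Module.rankAtStalk_eq_of_equiv e, Module.rankAtStalk_prod]
    simp [z]
  have hzero : ∀ i, i ∉ s → z i + z (i + 1) = 0 := by
    intro i hi
    rw [← hrank i]
    haveI := ModuleCat.subsingleton_of_isZero (hs i hi)
    rw [Module.rankAtStalk_eq_zero_of_subsingleton]
    simp
  simp_rw [hrank]
  apply sum_negOnePow_telescope s z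
  · intro i hi
    have := hzero i hi
    have h1 : 0 ≤ z i := Int.natCast_nonneg _
    have h2 : 0 ≤ z (i + 1) := Int.natCast_nonneg _
    omega
  · intro i hi
    have := hzero i hi
    have h1 : 0 ≤ z i := Int.natCast_nonneg _
    have h2 : 0 ≤ z (i + 1) := Int.natCast_nonneg _
    omega

/-- If the cohomology of a bounded complex of finite projective modules vanishes at all minimal
primes, its Euler characteristic vanishes at every prime. -/
theorem euler_rankAtStalk_eq_zero (P : Cx A) (s : Finset ℤ)
    (hP : ∀ i : ℤ, Module.Finite A (P.X i) ∧ Module.Projective A (P.X i))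
    (hs : ∀ i : ℤ, i ∉ s → IsZero (P.X i))
    (hsupp : ∀ q : PrimeSpectrum A, q.asIdeal ∈ minimalPrimes A →
      ∀ i : ℤ, Subsingleton (LocalizedModule q.asIdeal.primeCompl (P.homology i)))
    (x : PrimeSpectrum A) :
    (s.sum fun i => ((i.negOnePow : ℤˣ) : ℤ) *
      (Module.rankAtStalk (R := A) (P.X i) x : ℤ)) = 0 := by
  obtain ⟨q, hqmin, hqx⟩ :=
    Ideal.exists_minimalPrimes_le (show (⊥ : Ideal A) ≤ x.asIdeal from bot_le)
  haveI hqprime : q.IsPrime := Ideal.minimalPrimes_isPrime hqmin
  let qq : PrimeSpectrum A := ⟨q, hqprime⟩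
  let B := Localization.AtPrime q
  let E : Cx B := ((ES A B).mapHomologicalComplex (ComplexShape.up ℤ)).obj P
  have hE1 : TermwiseFiniteProjective E := fun i =>
    ⟨finite_ES (P.X i) (hP i).1, projective_ES (P.X i) (hP i).2⟩
  have hE2 : ∀ i, i ∉ s → IsZero (E.X i) := fun i hi => (ES A B).map_isZero (hs i hi)
  have hE3 : ∀ i, E.ExactAt i := by
    intro i
    rw [HomologicalComplex.exactAt_iff_isZero_homology]
    have e₁ : E.homology i ≅ (ES A B).obj (P.homology i) := (P.sc i).mapHomologyIso (ES A B)
    refine IsZero.of_iso ?_ e₁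
    haveI := hsupp qq hqmin i
    have e₂ := extendScalarsEquivTensor (S := B) (P.homology i)
    have e₃ : LocalizedModule q.primeCompl (P.homology i) ≃ₗ[B] B ⊗[A] (P.homology i) :=
      LocalizedModule.equivTensorProduct q.primeCompl _
    haveI : Subsingleton (B ⊗[A] (P.homology i)) := e₃.symm.toEquiv.subsingleton
    haveI : Subsingleton ((ES A B).obj (P.homology i)) := e₂.toEquiv.subsingleton
    exact ModuleCat.isZero_of_subsingleton _
  have key := euler_eq_zero_of_exact E s hE1 hE2 hE3 (IsLocalRing.closedPoint B)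
  have hcomap : PrimeSpectrum.comap (algebraMap A B) (IsLocalRing.closedPoint B) = qq :=
    PrimeSpectrum.ext (Localization.AtPrime.under_maximalIdeal (I := q))
  have hr : ∀ i, Module.rankAtStalk (R := B) (E.X i) (IsLocalRing.closedPoint B) =
      Module.rankAtStalk (R := A) (P.X i) x := by
    intro i
    haveI := (hP i).1
    haveI := (hP i).2
    have h1 : Module.rankAtStalk (R := B) (E.X i) =
        Module.rankAtStalk (R := B) (B ⊗[A] (P.X i)) :=
      Module.rankAtStalk_eq_of_equiv (extendScalarsEquivTensor (S := B) (P.X i))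
    rw [h1, Module.rankAtStalk_baseChange, hcomap]
    exact Module.rankAtStalk_eq_of_le_of_finite_of_flat (P.X i) (show qq ≤ x from hqx)
  simp_rw [hr] at key
  exact key

end Groth.Agent.Lib.DMod_helper6
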