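import Mathlib

set_option autoImplicit false

namespace Groth.Agent.Lib.ExactMinor

open Matrix Module

variable {K : Type*} [Field K]

/-- From a finite family of vectors extract a finite subfamily which is linearly independent and
has the same span. -/
theorem exists_finset_basis {n V : Type*} [Finite n] [AddCommGroup V] [Module K V] (v : n → V) :
    ∃ J : Finset n, LinearIndependent K (fun j : ↥J => v j.1) ∧
      Submodule.span K (Set.range (fun j : ↥J => v j.1)) = Submodule.span K (Set.range v) := by
  classical
  have hs := linearIndepOn_empty K v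
  have hli : LinearIndepOn K v (hs.extend (Set.subset_univ ∅)) := hs.linearIndepOn_extend _
  have hsp : Submodule.span K (v '' (hs.extend (Set.subset_univ ∅)))
      = Submodule.span K (Set.range v) := by
    rw [hs.span_image_extend_eq_span_image, Set.image_univ]
  generalize hs.extend (Set.subset_univ ∅) = s at hli hsp
  have hfin : s.Finite := Set.toFinite s
  refine ⟨hfin.toFinset, ?_, ?_⟩
  · have hmem : ∀ x : ↥(hfin.toFinset), x.1 ∈ s := fun x => (Set.Finite.mem_toFinset _).mp x.2
    exact LinearIndependent.comp hli (fun x : ↥(hfin.toFinset) => (⟨x.1, hmem x⟩ : ↥s))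
      (fun a b hab => Subtype.ext (congrArg (fun y : ↥s => y.1) hab))
  · rw [← hsp]
    apply le_antisymm
    · refine Submodule.span_le.mpr ?_
      rintro _ ⟨j, rfl⟩
      exact Submodule.subset_span ⟨j.1, (Set.Finite.mem_toFinset _).mp j.2, rfl⟩
    · refine Submodule.span_le.mpr ?_
      rintro _ ⟨j, hj, rfl⟩
      exact Submodule.subset_span ⟨⟨j, (Set.Finite.mem_toFinset _).mpr hj⟩, rfl⟩

/-- Column selection: a matrix with surjective `mulVec` has a set of columns on which it is
bijective. -/
theorem exists_cols {m n : Type*} [Fintype m] [Fintype n] (M : Matrix m n K)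
    (hsurj : Function.Surjective M.mulVecLin) :
    ∃ T : Finset n, Function.Bijective (M.submatrix id (Subtype.val : ↥T → n)).mulVecLin := by
  obtain ⟨T, hli, hsp⟩ := exists_finset_basis (K := K) M.col
  refine ⟨T, ?_, ?_⟩
  · rw [Matrix.coe_mulVecLin, Matrix.mulVec_injective_iff]; exact hli
  · rw [← LinearMap.range_eq_top, Matrix.range_mulVecLin]
    have h : (M.submatrix id (Subtype.val : ↥T → n)).col = fun j : ↥T => M.col j.1 := rfl
    rw [h, hsp, ← Matrix.range_mulVecLin]; exact LinearMap.range_eq_top.mpr hsurj

theorem bijective_of_transpose {a b : Type*} [Fintype a] [Fintype b] (B : Matrix a b K)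
    (h : Function.Bijective Bᵀ.mulVecLin) : Function.Bijective B.mulVecLin := by
  have hcard : Fintype.card a = Fintype.card b := by
    have e := (LinearEquiv.ofBijective Bᵀ.mulVecLin h).finrank_eq
    rwa [Module.finrank_fintype_fun_eq_card, Module.finrank_fintype_fun_eq_card] at e
  have hr : Bᵀ.rank = Fintype.card b := by
    rw [Matrix.rank, LinearMap.range_eq_top.mpr h.2, finrank_top,
      Module.finrank_fintype_fun_eq_card]
  rw [Matrix.rank_transpose] at hr
  have hsurj : Function.Surjective B.mulVecLin := by
    rw [← LinearMap.range_eq_top]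
    apply Submodule.eq_top_of_finrank_eq
    have h' : B.rank = Module.finrank K (LinearMap.range B.mulVecLin) := rfl
    rw [← h', hr, Module.finrank_fintype_fun_eq_card, hcard]
  have hfr : Module.finrank K (b → K) = Module.finrank K (a → K) := by
    rw [Module.finrank_fintype_fun_eq_card, Module.finrank_fintype_fun_eq_card, hcard]
  exact ⟨(LinearMap.injective_iff_surjective_of_finrank_eq_finrank hfr).mpr hsurj, hsurj⟩

/-- Row selection: a matrix with injective `mulVec` has a set of rows on which it is bijective. -/
theorem exists_rows {m n : Type*} [Fintype m] [Fintype n] (M : Matrix m n K)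
    (hinj : Function.Injective M.mulVecLin) :
    ∃ S : Finset m, Function.Bijective (M.submatrix (Subtype.val : ↥S → m) id).mulVecLin := by
  have hr : M.rank = Fintype.card n := by
    rw [Matrix.rank, LinearMap.finrank_range_of_inj hinj, Module.finrank_fintype_fun_eq_card]
  have hsurj : Function.Surjective Mᵀ.mulVecLin := by
    rw [← LinearMap.range_eq_top]
    apply Submodule.eq_top_of_finrank_eq
    have h' : Mᵀ.rank = Module.finrank K (LinearMap.range Mᵀ.mulVecLin) := rfl
    rw [← h', Matrix.rank_transpose, hr, Module.finrank_fintype_fun_eq_card]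
  obtain ⟨T, hT⟩ := exists_cols Mᵀ hsurj
  refine ⟨T, bijective_of_transpose _ ?_⟩
  rw [Matrix.transpose_submatrix]; exact hT

theorem main {N : Type*} [Fintype N] [DecidableEq N] (A : Matrix N N K)
    (hA : LinearMap.ker A.mulVecLin = LinearMap.range A.mulVecLin) :
    ∃ N₁₂ N₂₁ N₃₁ : Finset N,
      Function.Bijective (A.submatrix (Subtype.val : ↥N₃₁ → N) (Subtype.val : ↥N₂₁ → N)).mulVecLin ∧
      Function.Bijective
        (A.submatrix (Subtype.val : {x : N // x ∉ N₂₁} → N)
          (Subtype.val : ↥N₁₂ → N)).mulVecLin := by
  obtain ⟨J, hJli, hJsp⟩ := exists_finset_basis (K := K) A.col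
  rw [← Matrix.range_mulVecLin] at hJsp
  have hinj1 : Function.Injective (A.submatrix id (Subtype.val : ↥J → N)).mulVecLin := by
    rw [Matrix.coe_mulVecLin, Matrix.mulVec_injective_iff]; exact hJli
  obtain ⟨S, hS⟩ := exists_rows _ hinj1
  have hsurj2 : Function.Surjective
      (A.submatrix (Subtype.val : {x : N // x ∉ J} → N) id).mulVecLin := by
    have hcardJ : Module.finrank K (LinearMap.range A.mulVecLin) = J.card := by
      rw [← hJsp, finrank_span_eq_card hJli, Fintype.card_coe]
    have hrn := LinearMap.finrank_range_add_finrank_ker A.mulVecLin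
    rw [hA, Module.finrank_fintype_fun_eq_card] at hrn
    have hcardc : Fintype.card {x : N // x ∉ J}
        = Module.finrank K (LinearMap.range A.mulVecLin) := by
      rw [Fintype.card_subtype_compl, Fintype.card_coe]
      omega
    let ρ : (N → K) →ₗ[K] ({x : N // x ∉ J} → K) :=
      LinearMap.funLeft K K (Subtype.val : {x : N // x ∉ J} → N)
    let φ : ↥(LinearMap.range A.mulVecLin) →ₗ[K] ({x : N // x ∉ J} → K) :=
      ρ.domRestrict (LinearMap.range A.mulVecLin)
    have hφinj : Function.Injective φ := by
      rw [← LinearMap.ker_eq_bot, LinearMap.ker_eq_bot']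
      rintro ⟨u, hu⟩ h0
      have hu0 : ∀ i, i ∉ J → u i = 0 := fun i hi => by
        have h := congrFun h0 ⟨i, hi⟩
        simpa [φ, ρ] using h
      have hker : A *ᵥ u = 0 := by
        have h : u ∈ LinearMap.ker A.mulVecLin := by rw [hA]; exact hu
        simpa using h
      have hsum : ∑ j : ↥J, u j.1 • A.col j.1 = 0 := by
        funext i
        have hi := congrFun hker i
        simp only [Matrix.mulVec, dotProduct, Pi.zero_apply] at hi
        rw [Finset.sum_apply, Pi.zero_apply]
        simp only [Pi.smul_apply, smul_eq_mul, Matrix.col_apply]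
        rw [Finset.sum_coe_sort J (fun j => u j * A i j),
          Finset.sum_subset (Finset.subset_univ J) (fun j _ hj => by rw [hu0 j hj, zero_mul]),
          ← hi]
        exact Finset.sum_congr rfl fun j _ => mul_comm _ _
      have h := Fintype.linearIndependent_iff.mp hJli (fun j => u j.1) hsum
      have hu_all : u = 0 := by
        funext i
        by_cases hi : i ∈ J
        · exact h ⟨i, hi⟩
        · exact hu0 i hi
      exact Subtype.ext hu_all
    have hφsurj : Function.Surjective φ :=
      (LinearMap.injective_iff_surjective_of_finrank_eq_finrank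
        (by rw [Module.finrank_fintype_fun_eq_card, hcardc])).mp hφinj
    intro y
    obtain ⟨⟨u, hu⟩, huy⟩ := hφsurj y
    obtain ⟨x, rfl⟩ := hu
    refine ⟨x, ?_⟩
    rw [← huy]
    rfl
  obtain ⟨T, hT⟩ := exists_cols _ hsurj2
  refine ⟨T, J, S, ?_, ?_⟩
  · simpa only [Matrix.submatrix_submatrix, Function.id_comp, Function.comp_id] using hS
  · simpa only [Matrix.submatrix_submatrix, Function.id_comp, Function.comp_id] using hT

end Groth.Agent.Lib.ExactMinor
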