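import Groth.Prelude.Def_DRing2
import Mathlib.Algebra.Homology.DerivedCategory.HomologySequence
import Groth.Prelude.Def_DRing4
import Mathlib.CategoryTheory.Monoidal.Rigid.Basic
import Mathlib.CategoryTheory.Monoidal.Rigid.Braided
import Mathlib.CategoryTheory.GradedObject.Braiding
import Mathlib.LinearAlgebra.Contraction

/-!
# Exact pairings of complexes of modules (helper2)

A dualizable object of the monoidal category of cochain complexes of `R`-modules is bounded with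
finite projective terms.
-/

set_option autoImplicit false
universe u
open CategoryTheory CategoryTheory.Limits MonoidalCategory

namespace Groth.Agent.Lib.ExactPairingCx

section Transfer

open Functor.LaxMonoidal Functor.OplaxMonoidal

variable {C D : Type*} [Category C] [Category D] [MonoidalCategory C] [MonoidalCategory D]

/-- A (strong) monoidal functor carries exact pairings to exact pairings. -/
@[instance_reducible]
noncomputable def exactPairingMap (F : C ⥤ D) [F.Monoidal] (X Y : C) [ExactPairing X Y] :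
    ExactPairing (F.obj X) (F.obj Y) where
  coevaluation' := ε F ≫ F.map (η_ X Y) ≫ δ F X Y
  evaluation' := μ F Y X ≫ F.map (ε_ X Y) ≫ η F
  coevaluation_evaluation' := by
    have h := congrArg F.map (ExactPairing.coevaluation_evaluation X Y)
    simp only [Functor.map_comp, Functor.Monoidal.map_whiskerLeft, Functor.Monoidal.map_whiskerRight,
      Functor.Monoidal.map_associator_inv, Functor.Monoidal.map_rightUnitor,
      Functor.Monoidal.map_leftUnitor_inv, Category.assoc, Functor.Monoidal.μ_δ_assoc,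
      Functor.Monoidal.μ_δ] at h
    have h2 : F.obj Y ◁ F.map (η_ X Y) ≫ F.obj Y ◁ δ F X Y ≫ (α_ _ _ _).inv ≫
        μ F Y X ▷ F.obj Y ≫ F.map (ε_ X Y) ▷ F.obj Y =
        F.obj Y ◁ η F ≫ (ρ_ (F.obj Y)).hom ≫ (λ_ (F.obj Y)).inv ≫ ε F ▷ F.obj Y := by
      rw [← cancel_epi (δ F Y (𝟙_ C)), ← cancel_mono (μ F (𝟙_ C) Y)]
      simpa only [Category.assoc] using h
    simp only [MonoidalCategory.whiskerLeft_comp, MonoidalCategory.comp_whiskerRight, Category.assoc]
    rw [reassoc_of% h2]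
    simp
  evaluation_coevaluation' := by
    have h := congrArg F.map (ExactPairing.evaluation_coevaluation X Y)
    simp only [Functor.map_comp, Functor.Monoidal.map_whiskerLeft, Functor.Monoidal.map_whiskerRight,
      Functor.Monoidal.map_associator, Functor.Monoidal.map_leftUnitor,
      Functor.Monoidal.map_rightUnitor_inv, Category.assoc, Functor.Monoidal.μ_δ_assoc,
      Functor.Monoidal.μ_δ] at h
    have h2 : F.map (η_ X Y) ▷ F.obj X ≫ δ F X Y ▷ F.obj X ≫ (α_ _ _ _).hom ≫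
        F.obj X ◁ μ F Y X ≫ F.obj X ◁ F.map (ε_ X Y) =
        η F ▷ F.obj X ≫ (λ_ (F.obj X)).hom ≫ (ρ_ (F.obj X)).inv ≫ F.obj X ◁ ε F := by
      rw [← cancel_epi (δ F (𝟙_ C) X), ← cancel_mono (μ F X (𝟙_ C))]
      simpa only [Category.assoc] using h
    simp only [MonoidalCategory.whiskerLeft_comp, MonoidalCategory.comp_whiskerRight, Category.assoc]
    rw [reassoc_of% h2]
    simp

end Transfer

section Graded

open GradedObject.Monoidal

variable {R : Type u} [CommRing R]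

/-- graded modules -/
abbrev G (R : Type u) [CommRing R] := GradedObject ℤ (ModuleCat.{u} R)

lemma wr_apply {L M : ModuleCat.{u} R} (f : L ⟶ M) (N : ModuleCat.{u} R) (l : L) (n : N) :
    (f ▷ N).hom (l ⊗ₜ[R] n) = f.hom l ⊗ₜ[R] n := rfl

lemma wl_apply (L : ModuleCat.{u} R) {M N : ModuleCat.{u} R} (f : M ⟶ N) (l : L) (m : M) :
    (L ◁ f).hom (l ⊗ₜ[R] m) = l ⊗ₜ[R] f.hom m := rfl

lemma lu_inv_apply (M : ModuleCat.{u} R) (m : M) :
    (λ_ M).inv.hom m = (1 : R) ⊗ₜ[R] m := TensorProduct.lid_symm_apply m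

lemma ru_inv_apply (M : ModuleCat.{u} R) (m : M) :
    (ρ_ M).inv.hom m = m ⊗ₜ[R] (1 : R) := TensorProduct.rid_symm_apply m

lemma lu_hom_apply (M : ModuleCat.{u} R) (r : R) (m : M) :
    (λ_ M).hom.hom (r ⊗ₜ[R] m) = r • m := TensorProduct.lid_tmul m r

lemma ru_hom_apply (M : ModuleCat.{u} R) (m : M) (r : R) :
    (ρ_ M).hom.hom (m ⊗ₜ[R] r) = r • m := TensorProduct.rid_tmul m r

lemma assoc_hom_apply (M N K : ModuleCat.{u} R) (m : M) (n : N) (k : K) :
    (α_ M N K).hom.hom ((m ⊗ₜ[R] n) ⊗ₜ[R] k) = m ⊗ₜ[R] (n ⊗ₜ[R] k) := rfl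

lemma assoc_inv_apply (M N K : ModuleCat.{u} R) (m : M) (n : N) (k : K) :
    (α_ M N K).inv.hom (m ⊗ₜ[R] (n ⊗ₜ[R] k)) = (m ⊗ₜ[R] n) ⊗ₜ[R] k := rfl

/-- A submodule of a component of a tensor product of graded modules that contains
the images of all the inclusions is everything. -/
lemma tensorObj_submodule_eq_top (X₁ X₂ : G R) (j : ℤ)
    (S : Submodule R ((X₁ ⊗ X₂ : G R) j : ModuleCat.{u} R))
    (h : ∀ (p q : ℤ) (hpq : p + q = j) (t : (X₁ p ⊗ X₂ q : ModuleCat.{u} R)),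
      (ιTensorObj X₁ X₂ p q j hpq).hom t ∈ S) :
    S = ⊤ := by
  let π : ((X₁ ⊗ X₂ : G R) j : ModuleCat.{u} R) ⟶ ModuleCat.of R (_ ⧸ S) := ModuleCat.ofHom S.mkQ
  have h0 : π = 0 := by
    apply tensorObj_ext
    intro p q hpq
    refine ModuleCat.hom_ext (LinearMap.ext fun t => ?_)
    show S.mkQ ((ιTensorObj X₁ X₂ p q j hpq).hom t) = 0
    exact (Submodule.Quotient.mk_eq_zero S).2 (h p q hpq t)
  have h1 : S.mkQ = 0 := congrArg ModuleCat.Hom.hom h0
  rw [← Submodule.ker_mkQ S, h1, LinearMap.ker_zero]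

lemma ι_rightUnitor_hom (X : G R) (k : ℤ) :
    ιTensorObj X (𝟙_ (G R)) k 0 k (add_zero k) ≫ (ρ_ X).hom k =
      (X k ◁ (tensorUnit₀ (I := ℤ) (C := ModuleCat.{u} R)).hom) ≫ (ρ_ (X k)).hom := by
  have h : (ρ_ X).inv k = (ρ_ (X k)).inv ≫ (X k) ◁ (tensorUnit₀ (I := ℤ)).inv ≫
      ιTensorObj X (𝟙_ (G R)) k 0 k (add_zero k) := rightUnitor_inv_apply X k
  have h' : (ρ_ X).inv k ≫ (ρ_ X).hom k = 𝟙 _ := congrFun (ρ_ X).inv_hom_id k
  have h1 : ιTensorObj X (𝟙_ (G R)) k 0 k (add_zero k) =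
      (X k ◁ (tensorUnit₀ (I := ℤ)).hom) ≫ (ρ_ (X k)).hom ≫ (ρ_ X).inv k := by
    rw [h]; simp
  rw [h1]; simp only [Category.assoc]; rw [h']; simp

lemma ι_leftUnitor_hom (X : G R) (k : ℤ) :
    ιTensorObj (𝟙_ (G R)) X 0 k k (zero_add k) ≫ (λ_ X).hom k =
      ((tensorUnit₀ (I := ℤ) (C := ModuleCat.{u} R)).hom ▷ X k) ≫ (λ_ (X k)).hom := by
  have h : (λ_ X).inv k = (λ_ (X k)).inv ≫ (tensorUnit₀ (I := ℤ)).inv ▷ (X k) ≫
      ιTensorObj (𝟙_ (G R)) X 0 k k (zero_add k) := leftUnitor_inv_apply X k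
  have h' : (λ_ X).inv k ≫ (λ_ X).hom k = 𝟙 _ := congrFun (λ_ X).inv_hom_id k
  have h1 : ιTensorObj (𝟙_ (G R)) X 0 k k (zero_add k) =
      ((tensorUnit₀ (I := ℤ)).hom ▷ X k) ≫ (λ_ (X k)).hom ≫ (λ_ X).inv k := by
    rw [h]; simp
  rw [h1]; simp only [Category.assoc]; rw [h']; simp

lemma isZero_unit (r : ℤ) (hr : r ≠ 0) : IsZero ((𝟙_ (G R)) r) :=
  (isInitialTensorUnitApply (I := ℤ) (C := ModuleCat.{u} R) r hr).isZero

section Pairing

variable (X Y : G R) [ExactPairing X Y]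

/-- the unit element of the degree zero part of the tensor unit -/
noncomputable def one0 : ((𝟙_ (G R)) 0 : ModuleCat.{u} R) :=
  (tensorUnit₀ (I := ℤ) (C := ModuleCat.{u} R)).inv.hom (1 : R)

/-- the image of `1` under the coevaluation -/
noncomputable def eta0 : ((X ⊗ Y : G R) 0 : ModuleCat.{u} R) :=
  ((η_ X Y) 0).hom one0

/-- the contraction `Ψ_k`. -/
noncomputable def Psi (k : ℤ) : ((X ⊗ Y : G R) 0 ⊗ X k : ModuleCat.{u} R) ⟶ X k :=
  ιTensorObj (X ⊗ Y) X 0 k k (zero_add k) ≫ (α_ X Y X).hom k ≫ (X ◁ ε_ X Y) k ≫ (ρ_ X).hom k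

lemma psi_eta (k : ℤ) (x : X k) : (Psi X Y k).hom (eta0 X Y ⊗ₜ[R] x) = x := by
  have h := ExactPairing.evaluation_coevaluation X Y
  have h2 : (λ_ X).inv ≫ (η_ X Y ▷ X ≫ (α_ X Y X).hom ≫ X ◁ ε_ X Y) ≫ (ρ_ X).hom = 𝟙 X := by
    rw [h]; simp
  have h3 : (λ_ X).inv k ≫ ((η_ X Y ▷ X) k ≫ (α_ X Y X).hom k ≫ (X ◁ ε_ X Y) k) ≫ (ρ_ X).hom k =
      𝟙 (X k) := congrFun h2 k
  have h4 : (λ_ X).inv k = (λ_ (X k)).inv ≫ (tensorUnit₀ (I := ℤ)).inv ▷ (X k) ≫
      ιTensorObj (𝟙_ (G R)) X 0 k k (zero_add k) := leftUnitor_inv_apply X k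
  have h5 : ιTensorObj (𝟙_ (G R)) X 0 k k (zero_add k) ≫ (η_ X Y ▷ X) k =
      ((η_ X Y) 0 ▷ X k) ≫ ιTensorObj (X ⊗ Y) X 0 k k (zero_add k) := by
    have := ι_tensorHom (η_ X Y) (𝟙 X) 0 k k (zero_add k)
    rw [show (𝟙 X : X ⟶ X) k = 𝟙 (X k) from rfl, MonoidalCategory.tensorHom_id] at this
    exact this
  rw [h4] at h3
  simp only [Category.assoc] at h3
  rw [reassoc_of% h5] at h3
  have h6 := congrArg (fun f => f.hom x) h3
  simp only [ModuleCat.hom_comp, LinearMap.comp_apply, ModuleCat.hom_id, LinearMap.id_apply] at h6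
  rw [lu_inv_apply, wr_apply, wr_apply] at h6
  exact h6

lemma psi_ι (p q r k : ℤ) (h : p + q = 0) (hr : q + k = r) :
    (ιTensorObj X Y p q 0 h ▷ X k) ≫ Psi X Y k =
      (α_ (X p) (Y q) (X k)).hom ≫ (X p ◁ (ιTensorObj Y X q k r hr ≫ (ε_ X Y) r)) ≫
        ιTensorObj X (𝟙_ (G R)) p r k (by omega) ≫ (ρ_ X).hom k := by
  unfold Psi
  have e1 : (ιTensorObj X Y p q 0 h ▷ X k) ≫ ιTensorObj (X ⊗ Y) X 0 k k (zero_add k) =
      ιTensorObj₃' X Y X p q k k (by omega) :=
    (ιTensorObj₃'_eq X Y X p q k k (by omega) 0 h).symm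
  rw [reassoc_of% e1]
  have e2 : ιTensorObj₃' X Y X p q k k (by omega) ≫ (α_ X Y X).hom k =
      (α_ (X p) (Y q) (X k)).hom ≫ ιTensorObj₃ X Y X p q k k (by omega) :=
    ιTensorObj₃'_associator_hom X Y X p q k k (by omega)
  rw [reassoc_of% e2]
  rw [ιTensorObj₃_eq X Y X p q k k (by omega) r hr]
  simp only [Category.assoc]
  have e3 : ιTensorObj X (GradedObject.Monoidal.tensorObj Y X) p r k (by omega) ≫ (X ◁ ε_ X Y) k =
      (X p ◁ (ε_ X Y) r) ≫ ιTensorObj X (𝟙_ (G R)) p r k (by omega) := by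
    have := ι_tensorHom (𝟙 X) (ε_ X Y) p r k (by omega)
    rw [show (𝟙 X : X ⟶ X) p = 𝟙 (X p) from rfl, MonoidalCategory.id_tensorHom] at this
    exact this
  rw [reassoc_of% e3]
  simp only [MonoidalCategory.whiskerLeft_comp, Category.assoc]

lemma psi_ι_zero (p q r k : ℤ) (h : p + q = 0) (hr : q + k = r) (hr0 : r ≠ 0) :
    (ιTensorObj X Y p q 0 h ▷ X k) ≫ Psi X Y k = 0 := by
  rw [psi_ι X Y p q r k h hr]
  have : (ε_ X Y) r = 0 := (isZero_unit r hr0).eq_of_tgt _ _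
  rw [this, Limits.comp_zero, MonoidalPreadditive.whiskerLeft_zero, Limits.zero_comp,
    Limits.comp_zero]

/-- the linear functional used in the dual basis -/
noncomputable def phi (q k : ℤ) (hr : q + k = 0) : (Y q ⊗ X k : ModuleCat.{u} R) ⟶ 𝟙_ (ModuleCat.{u} R) :=
  ιTensorObj Y X q k 0 hr ≫ (ε_ X Y) 0 ≫ (tensorUnit₀ (I := ℤ) (C := ModuleCat.{u} R)).hom

lemma psi_ι_diag (q k : ℤ) (h : k + q = 0) (hr : q + k = 0) :
    (ιTensorObj X Y k q 0 h ▷ X k) ≫ Psi X Y k =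
      (α_ (X k) (Y q) (X k)).hom ≫ (X k ◁ phi X Y q k hr) ≫ (ρ_ (X k)).hom := by
  rw [psi_ι X Y k q 0 k h hr]
  have := ι_rightUnitor_hom X k
  rw [this]
  unfold phi
  simp only [MonoidalCategory.whiskerLeft_comp, Category.assoc]

/-- `u ↦ (x ↦ Ψ_k (u ⊗ x))`. -/
noncomputable def L (k : ℤ) : ((X ⊗ Y : G R) 0 : ModuleCat.{u} R) →ₗ[R] (X k →ₗ[R] X k) :=
  (TensorProduct.mk R ((X ⊗ Y : G R) 0 : ModuleCat.{u} R) (X k)).compr₂ (Psi X Y k).hom

lemma L_apply (k : ℤ) (u : ((X ⊗ Y : G R) 0 : ModuleCat.{u} R)) (x : X k) :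
    L X Y k u x = (Psi X Y k).hom (u ⊗ₜ[R] x) := rfl

lemma L_eta (k : ℤ) : L X Y k (eta0 X Y) = LinearMap.id := LinearMap.ext (psi_eta X Y k)

lemma L_ι_of_ne (k p q : ℤ) (h : p + q = 0) (hpk : p ≠ k) (t : (X p ⊗ Y q : ModuleCat.{u} R)) :
    L X Y k ((ιTensorObj X Y p q 0 h).hom t) = 0 := by
  ext x
  rw [L_apply]
  have := psi_ι_zero X Y p q (q + k) k h rfl (by omega)
  have h2 := congrArg (fun f => f.hom (t ⊗ₜ[R] x)) this
  simp only [ModuleCat.hom_comp, LinearMap.comp_apply, wr_apply, ModuleCat.hom_zero] at h2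
  exact h2

lemma L_ι_diag_mem (k q : ℤ) (h : k + q = 0) (m : X k) (n : Y q) :
    L X Y k ((ιTensorObj X Y k q 0 h).hom (m ⊗ₜ[R] n)) ∈
      LinearMap.range (dualTensorHom R (X k) (X k)) := by
  have hr : q + k = 0 := by omega
  refine ⟨((phi X Y q k hr).hom.comp (TensorProduct.mk R (Y q) (X k) n)) ⊗ₜ[R] m, ?_⟩
  ext x
  rw [dualTensorHom_apply, L_apply]
  have h2 := congrArg (fun f => f.hom ((m ⊗ₜ[R] n) ⊗ₜ[R] x)) (psi_ι_diag X Y q k h hr)
  simp only [ModuleCat.hom_comp, LinearMap.comp_apply, wr_apply] at h2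
  rw [h2, assoc_hom_apply, wl_apply, ru_hom_apply]
  rfl

end Pairing

theorem graded_main (X Y : G R) [ExactPairing X Y] :
    (∃ F : Finset ℤ, ∀ k, k ∉ F → IsZero (X k)) ∧
      ∀ k, Module.Finite R (X k) ∧ Module.Projective R (X k) := by
  constructor
  · let S : Submodule R ((X ⊗ Y : G R) 0 : ModuleCat.{u} R) :=
      { carrier := {u | ∃ F : Finset ℤ, ∀ k, k ∉ F → L X Y k u = 0}
        add_mem' := by
          rintro u v ⟨F, hF⟩ ⟨F', hF'⟩
          classical
          refine ⟨F ∪ F', fun k hk => ?_⟩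
          rw [map_add, hF k (fun h => hk (Finset.mem_union_left _ h)),
            hF' k (fun h => hk (Finset.mem_union_right _ h)), add_zero]
        zero_mem' := ⟨∅, fun k _ => map_zero _⟩
        smul_mem' := by
          rintro c u ⟨F, hF⟩
          exact ⟨F, fun k hk => by rw [map_smul, hF k hk, smul_zero]⟩ }
    have hS : S = ⊤ := tensorObj_submodule_eq_top X Y 0 S (fun p q hpq t =>
      ⟨{p}, fun k hk => L_ι_of_ne X Y k p q hpq (fun h => hk (by simp [h])) t⟩)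
    have hmem : eta0 X Y ∈ S := hS ▸ Submodule.mem_top
    obtain ⟨F, hF⟩ := hmem
    refine ⟨F, fun k hk => ?_⟩
    have h1 := hF k hk
    rw [L_eta] at h1
    haveI : Subsingleton (X k) := ⟨fun a b => by
      have ha := LinearMap.congr_fun h1 a
      have hb := LinearMap.congr_fun h1 b
      simp only [LinearMap.id_apply, LinearMap.zero_apply] at ha hb
      rw [ha, hb]⟩
    exact ModuleCat.isZero_of_subsingleton _
  · intro k
    have hk : (1 : Module.End R (X k)) ∈ LinearMap.range (dualTensorHom R (X k) (X k)) := by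
      let S : Submodule R ((X ⊗ Y : G R) 0 : ModuleCat.{u} R) :=
        (LinearMap.range (dualTensorHom R (X k) (X k))).comap (L X Y k)
      have hS : S = ⊤ := by
        refine tensorObj_submodule_eq_top X Y 0 S (fun p q hpq t => ?_)
        show L X Y k _ ∈ LinearMap.range _
        by_cases hpk : p = k
        · subst hpk
          induction t using TensorProduct.induction_on with
          | zero => rw [map_zero, map_zero]; exact Submodule.zero_mem _
          | tmul m n => exact L_ι_diag_mem X Y p q hpq m n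
          | add a b ha hb => rw [map_add, map_add]; exact Submodule.add_mem _ ha hb
        · rw [L_ι_of_ne X Y k p q hpq hpk t]; exact Submodule.zero_mem _
      have hmem : eta0 X Y ∈ S := hS ▸ Submodule.mem_top
      have h2 : L X Y k (eta0 X Y) ∈ LinearMap.range (dualTensorHom R (X k) (X k)) := hmem
      rw [L_eta] at h2
      exact h2
    exact ⟨Module.Finite.of_one_mem_range_dualTensorHom hk,
      Module.Projective.of_one_mem_range_dualTensorHom hk⟩

end Graded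

section Complexes

variable {R : Type u} [CommRing R]

lemma finset_bdd (F : Finset ℤ) : ∃ a b : ℤ, ∀ k ∈ F, a ≤ k ∧ k ≤ b := by
  obtain ⟨b, hb⟩ := F.bddAbove
  obtain ⟨a, ha⟩ := F.bddBelow
  exact ⟨a, b, fun k hk => ⟨ha (Finset.mem_coe.2 hk), hb (Finset.mem_coe.2 hk)⟩⟩

/-- the forgetful functor from complexes to graded objects is monoidal -/
noncomputable instance forgetMonoidal :
    (HomologicalComplex.forget (ModuleCat.{u} R) (ComplexShape.up ℤ)).Monoidal :=
  Monoidal.fromInducedMonoidal _ (HomologicalComplex.Monoidal.inducingFunctorData _ _)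

/-- the underlying graded module -/
noncomputable abbrev gr (M : DRing.Cx R) : G R :=
  (HomologicalComplex.forget (ModuleCat.{u} R) (ComplexShape.up ℤ)).obj M

theorem main (M N : DRing.Cx R) [ExactPairing M N] :
    (∃ a b : ℤ, DRing.VanishesOutside M a b) ∧ (∃ a b : ℤ, DRing.VanishesOutside N a b) ∧
      DRing.TermwiseFiniteProjective M ∧ DRing.TermwiseFiniteProjective N := by
  letI e1 : ExactPairing (gr M) (gr N) :=
    exactPairingMap (HomologicalComplex.forget (ModuleCat.{u} R) (ComplexShape.up ℤ)) M N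
  letI e2 : ExactPairing (gr N) (gr M) := BraidedCategory.exactPairing_swap (gr M) (gr N)
  obtain ⟨⟨F, hF⟩, hM⟩ := graded_main (gr M) (gr N)
  obtain ⟨⟨F', hF'⟩, hN⟩ := graded_main (gr N) (gr M)
  obtain ⟨a, b, hab⟩ := finset_bdd F
  obtain ⟨a', b', hab'⟩ := finset_bdd F'
  refine ⟨⟨a, b, fun i hi => hF i (fun h => ?_)⟩, ⟨a', b', fun i hi => hF' i (fun h => ?_)⟩,
    hM, hN⟩
  · have := hab i h; omega
  · have := hab' i h; omega

end Complexes

end Groth.Agent.Lib.ExactPairingCx
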