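import Mathlib
import Groth.Prelude.Def_Found
import Groth.Prelude.Def_EGA4b
import Groth.Agent.Lib.QENagata_helper3
import Groth.Agent.Lib.N2QuasiFinite_helper3
import Groth.Agent.Lib.Japanese_helper9

set_option autoImplicit false
universe u

namespace Groth.Agent.Lib.ExcDVRInsep

theorem finite_part (R K L : Type u) [CommRing R] [IsDomain R] (hR : EGA4.IsExcellent R)
    [Field K] [Algebra R K] [IsFractionRing R K] [Field L] [Algebra K L] [FiniteDimensional K L]
    [Algebra R L] [IsScalarTower R K L] : Module.Finite R ↥(integralClosure R L) := by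
  have hQE : EGA4.IsQuasiExcellent R := ⟨hR.1, hR.2.2.1, hR.2.2.2⟩
  have hNag := Groth.Agent.Lib.QENagataH3.isNagata_of_isQuasiExcellent R hQE
  have h0 : CAlg.IsN2 (R ⧸ (⊥ : Ideal R)) := hNag.2 ⊥
  have h1 : CAlg.IsN2 R :=
    Groth.Agent.Lib.N2QuasiFiniteH3.isN2_of_ringEquiv (RingEquiv.quotientBot R) h0
  exact (Groth.Agent.Lib.Japanese.isN2_iff_isN2' R).mp h1 K L inferInstance

theorem valuationRing_part (R K L : Type u) [CommRing R] [IsDomain R] [IsDiscreteValuationRing R]
    [Field K] [Algebra R K] [IsFractionRing R K] [Field L] [Algebra K L] [FiniteDimensional K L]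
    [IsPurelyInseparable K L] [Algebra R L] [IsScalarTower R K L] :
    ValuationRing ↥(integralClosure R L) := by
  haveI : IsFractionRing ↥(integralClosure R L) L :=
    integralClosure.isFractionRing_of_finite_extension K L
  rw [ValuationRing.iff_isInteger_or_isInteger ↥(integralClosure R L) L]
  intro x
  obtain ⟨q, hq⟩ := ExpChar.exists K
  haveI := hq
  obtain ⟨n, hn⟩ := IsPurelyInseparable.pow_mem K q x
  obtain ⟨y, hy⟩ := RingHom.mem_range.mp hn
  have hqn : 0 < q ^ n := pow_pos (expChar_pos K q) n
  have key : ∀ z : L, (∃ r : R, z ^ (q ^ n) = algebraMap R L r) →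
      IsLocalization.IsInteger ↥(integralClosure R L) z := by
    rintro z ⟨r, hr⟩
    have hz : IsIntegral R z := IsIntegral.of_pow hqn (hr ▸ isIntegral_algebraMap)
    exact RingHom.mem_rangeS.mpr ⟨⟨z, hz⟩, rfl⟩
  haveI : ValuationRing R := inferInstance
  rcases ValuationRing.isInteger_or_isInteger R y with h | h
  · obtain ⟨r, hr⟩ := RingHom.mem_rangeS.mp h
    left
    refine key x ⟨r, ?_⟩
    rw [IsScalarTower.algebraMap_apply R K L, hr, hy]
  · obtain ⟨r, hr⟩ := RingHom.mem_rangeS.mp h
    right
    refine key x⁻¹ ⟨r, ?_⟩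
    rw [IsScalarTower.algebraMap_apply R K L, hr, map_inv₀, hy, inv_pow]

theorem main (R K L : Type u) [CommRing R] [IsDomain R] [IsDiscreteValuationRing R]
    (hR : EGA4.IsExcellent R) [Field K] [Algebra R K] [IsFractionRing R K] [Field L] [Algebra K L]
    [FiniteDimensional K L] [IsPurelyInseparable K L] [Algebra R L] [IsScalarTower R K L] :
    IsDiscreteValuationRing ↥(integralClosure R L) ∧ Module.Finite R ↥(integralClosure R L) := by
  have hfin := finite_part R K L hR
  refine ⟨?_, hfin⟩
  haveI := hfin
  haveI : IsNoetherianRing ↥(integralClosure R L) := Algebra.FiniteType.isNoetherianRing R _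
  haveI hV := valuationRing_part R K L
  have hnf : ¬ IsField ↥(integralClosure R L) := by
    intro hF
    have hRL : Function.Injective (algebraMap R L) := by
      rw [IsScalarTower.algebraMap_eq R K L]
      exact (algebraMap K L).injective.comp (IsFractionRing.injective R K)
    have hinj : Function.Injective (algebraMap R ↥(integralClosure R L)) := by
      intro a b hab
      exact hRL (congrArg Subtype.val hab)
    exact IsDiscreteValuationRing.not_isField R (isField_of_isIntegral_of_isField hinj hF)
  exact ((IsDiscreteValuationRing.TFAE ↥(integralClosure R L) hnf).out 0 1).mpr hV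

end Groth.Agent.Lib.ExcDVRInsep
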