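import Mathlib
import Groth.Prelude.Def_EGA4b
import Groth.Agent.Lib.NormalEssFT_helper3
import Groth.Agent.Lib.IAdicRegular_helper3
import Groth.Agent.Lib.ComplReg_helper3
import Groth.Agent.Lib.GeomNormal_helper3
import Groth.Agent.Lib.GeomNormalSep_helper3
import Groth.Agent.Lib.StalkSub_helper3
import Groth.Agent.Lib.RegLoc_helper3

/-!
# Completions of localizations of excellent normal domains (helper3)

* `complMap_surjective`: the completion of a surjective ring map (with the image ideal) is
  surjective.
* `main17803`.
APPEND-ONLY once landed.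
-/

set_option autoImplicit false
set_option maxSynthPendingDepth 3

namespace Groth.Agent.Lib.ExcNormalComplH3

universe u

open AdicCompletion

section Surj

variable {S T : Type u} [CommRing S] [CommRing T] (I : Ideal S) (K : Ideal T)

theorem complMap_surjective (g : S →+* T) (hg : Function.Surjective g) (h : I.map g = K) :
    Function.Surjective (FSch.complMap I K g h.le) := by
  subst h
  intro x
  obtain ⟨c, rfl⟩ := AdicCompletion.mk_surjective (I.map g) T x
  have hd : ∀ n, ∃ d ∈ I ^ n, g d = c (n + 1) - c n := by
    intro n
    have h1 : c (n + 1) - c n ∈ (I.map g) ^ n := by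
      have h2 := c.2 (Nat.le_succ n)
      rw [SModEq.sub_mem] at h2
      simp only [smul_eq_mul, Ideal.mul_top] at h2
      rw [← neg_sub]
      exact ((I.map g) ^ n).neg_mem h2
    rw [← Ideal.map_pow] at h1
    exact (Ideal.mem_map_iff_of_surjective g hg).1 h1
  choose d hdI hdg using hd
  obtain ⟨s0, hs0⟩ := hg (c 0)
  let s : ℕ → S := fun n => s0 + ∑ k ∈ Finset.range n, d k
  have hsucc : ∀ n, s (n + 1) = s n + d n := fun n => by
    simp only [s, Finset.sum_range_succ, add_assoc]
  have hgs : ∀ n, g (s n) = c n := by
    intro n
    induction n with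
    | zero => simp [s, hs0]
    | succ n ih =>
      rw [hsucc, map_add, ih, hdg]
      ring
  let sc : AdicCompletion.AdicCauchySequence I S :=
    AdicCompletion.AdicCauchySequence.mk I S s (fun n => by
      rw [SModEq.sub_mem]
      simp only [smul_eq_mul, Ideal.mul_top]
      have h3 : s n - s (n + 1) = - d n := by rw [hsucc]; ring
      rw [h3]
      exact (I ^ n).neg_mem (hdI n))
  refine ⟨AdicCompletion.mk I S sc, ?_⟩
  apply AdicCompletion.ext_evalₐ
  intro n
  rw [Groth.Agent.Lib.StalkSubH3.evalₐ_complMap, AdicCompletion.evalₐ_mk, AdicCompletion.evalₐ_mk,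
    Ideal.quotientMap_mk]
  congr 1
  exact hgs n

end Surj

section Main

/-- S17803 -/
theorem main17803 (A : Type u) [CommRing A] [IsDomain A] [IsIntegrallyClosed A]
    (hexc : EGA4.IsExcellent A)
    (hreg : ∃ (R : Type u) (_ : CommRing R) (_ : IsRegularRing R) (φ : R →+* A),
      Function.Surjective φ) (I : Ideal A) (f : A) :
    EGA4.IsNormalRing (AdicCompletion (I.map (algebraMap A (Localization.Away f)))
      (Localization.Away f)) ∧
    ∃ (R' : Type u) (_ : CommRing R') (_ : IsRegularRing R')
      (ψ : R' →+* AdicCompletion (I.map (algebraMap A (Localization.Away f)))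
        (Localization.Away f)), Function.Surjective ψ := by
  obtain ⟨hN, hUC, hG, hJ2⟩ := hexc
  haveI := hN
  have hGf : CAlg.IsGRing (Localization.Away f) :=
    Groth.Agent.Lib.NormalEssFTH3.isGRing_of_isLocalization (Submonoid.powers f) _ hG
  haveI : IsNoetherianRing (Localization.Away f) := hGf.1
  have hreg' : CAlg.IsRegularHom (Localization.Away f)
      (AdicCompletion (I.map (algebraMap A (Localization.Away f))) (Localization.Away f)) :=
    Groth.Agent.Lib.IAdicRegularH3.isRegularHom_adicCompletion _ _ hGf
  haveI : IsNoetherianRing
      (AdicCompletion (I.map (algebraMap A (Localization.Away f))) (Localization.Away f)) :=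
    Groth.Agent.Lib.ComplRegH3.isNoetherianRing_adicCompletion _ _
  have hAn : EGA4.IsNormalRing A := fun p _ =>
    ⟨inferInstance, isIntegrallyClosed_of_isLocalization _ p.primeCompl
      p.primeCompl_le_nonZeroDivisors⟩
  have hAfn : EGA4.IsNormalRing (Localization.Away f) :=
    Groth.Agent.Lib.GeomNormalSepH3.isNormalRing_of_isLocalization A (Submonoid.powers f) _ hAn
  constructor
  · haveI : Module.Flat (Localization.Away f)
        (AdicCompletion (I.map (algebraMap A (Localization.Away f))) (Localization.Away f)) :=
      hreg'.1
    exact Groth.Agent.Lib.GeomNormalH3.isNormalRing_of_flat_of_regular_fibers _ _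
      (fun p _ => Groth.Agent.Lib.RegFlatH3.isRegularRing_of_isGeometricallyRegular _ _
        (hreg'.2 p).2) hAfn
  · obtain ⟨R, _, _, φ, hφ⟩ := hreg
    obtain ⟨g, rfl⟩ := hφ f
    haveI : IsLocalization ((Submonoid.powers g).map φ) (Localization.Away (φ g)) := by
      rw [Submonoid.map_powers]
      infer_instance
    let φg : Localization.Away g →+* Localization.Away (φ g) :=
      IsLocalization.map (Localization.Away (φ g)) φ (Submonoid.powers g).le_comap_map
    have hφg : Function.Surjective φg :=
      IsLocalization.map_surjective_of_surjective (Submonoid.powers g) (Localization.Away g)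
        (Localization.Away (φ g)) hφ
    haveI : IsRegularRing (Localization.Away g) :=
      Groth.Agent.Lib.RegLocH3.isRegularRing_of_isLocalization (Submonoid.powers g) _
    have hJ : ((I.map (algebraMap A (Localization.Away (φ g)))).comap φg).map φg =
        I.map (algebraMap A (Localization.Away (φ g))) :=
      Ideal.map_comap_of_surjective φg hφg _
    exact ⟨AdicCompletion ((I.map (algebraMap A (Localization.Away (φ g)))).comap φg)
        (Localization.Away g), inferInstance,
      Groth.Agent.Lib.ComplRegH3.isRegularRing_adicCompletion _ _,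
      FSch.complMap _ _ φg hJ.le, complMap_surjective _ _ φg hφg hJ⟩

end Main

end Groth.Agent.Lib.ExcNormalComplH3
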