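import Mathlib
import Groth.Agent.Lib.CharpolyRevExp_helper1
import Groth.Agent.Lib.ZetaLogDeriv_helper1

/-!
# `exp(Σ R(q^v) t^v / v) = ∏ (1 - q^n t)^(-r_n)` (S14192)
-/

namespace Groth.Agent.Lib.ExpSumLaurent

open PowerSeries Finset Groth.Agent.Lib.ZetaLogDeriv

section general

variable {A : Type*} [CommRing A]

lemma X_mul_deriv_lin_pow (c : A) (k : ℕ) :
    X * d⁄dX A ((1 - C c * X) ^ k) = -((1 - C c * X) ^ k * (C (k : A) * D c)) := by
  induction k with
  | zero => simp [Derivation.map_one_eq_zero]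
  | succ k ih =>
    rw [pow_succ, Derivation.leibniz, smul_eq_mul, smul_eq_mul, mul_add]
    have h1 : X * ((1 - C c * X) ^ k * d⁄dX A (1 - C c * X))
        = (1 - C c * X) ^ k * (X * d⁄dX A (1 - C c * X)) := by ring
    have h2 : X * ((1 - C c * X) * d⁄dX A ((1 - C c * X) ^ k))
        = (1 - C c * X) * (X * d⁄dX A ((1 - C c * X) ^ k)) := by ring
    rw [h1, h2, ih, X_mul_deriv_lin]
    push_cast
    rw [map_add, map_one]
    ring

lemma X_mul_deriv_prod_pow {ι : Type*} [DecidableEq ι] (s : Finset ι) (c : ι → A) (k : ι → ℕ) :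
    X * d⁄dX A (∏ n ∈ s, (1 - C (c n) * X) ^ k n)
      = -((∏ n ∈ s, (1 - C (c n) * X) ^ k n) * ∑ n ∈ s, C (k n : A) * D (c n)) := by
  induction s using Finset.induction_on with
  | empty => simp [Derivation.map_one_eq_zero]
  | insert i s hi ih =>
    rw [Finset.prod_insert hi, Finset.sum_insert hi, Derivation.leibniz, smul_eq_mul, smul_eq_mul,
      mul_add]
    have h1 : X * ((1 - C (c i) * X) ^ k i * d⁄dX A (∏ n ∈ s, (1 - C (c n) * X) ^ k n))
        = (1 - C (c i) * X) ^ k i * (X * d⁄dX A (∏ n ∈ s, (1 - C (c n) * X) ^ k n)) := by ring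
    have h2 : X * ((∏ n ∈ s, (1 - C (c n) * X) ^ k n) * d⁄dX A ((1 - C (c i) * X) ^ k i))
        = (∏ n ∈ s, (1 - C (c n) * X) ^ k n) * (X * d⁄dX A ((1 - C (c i) * X) ^ k i)) := by ring
    rw [h1, h2, ih, X_mul_deriv_lin_pow]
    ring

lemma constantCoeff_prod_pow {ι : Type*} (s : Finset ι) (c : ι → A) (k : ι → ℕ) :
    constantCoeff (∏ n ∈ s, (1 - C (c n) * X) ^ k n) = 1 := by
  rw [map_prod]
  apply Finset.prod_eq_one
  intro n _
  simp

end general

theorem main (R : LaurentPolynomial ℤ) (q : ℤ) (hq : 1 < q) :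
    (PowerSeries.exp ℚ).subst
        (PowerSeries.mk fun v : ℕ => if v = 0 then (0 : ℚ)
          else (R.coeff.sum fun (n : ℤ) (r : ℤ) => (r : ℚ) * (q : ℚ) ^ (n * (v : ℤ))) / (v : ℚ))
      * ∏ n ∈ R.coeff.support, (1 - PowerSeries.C ((q : ℚ) ^ n) * PowerSeries.X) ^ (R.coeff n).toNat
    = ∏ n ∈ R.coeff.support,
        (1 - PowerSeries.C ((q : ℚ) ^ n) * PowerSeries.X) ^ (-(R.coeff n)).toNat := by
  set g : PowerSeries ℚ := PowerSeries.mk fun v : ℕ => if v = 0 then (0 : ℚ)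
    else (R.coeff.sum fun (n : ℤ) (r : ℤ) => (r : ℚ) * (q : ℚ) ^ (n * (v : ℤ))) / (v : ℚ) with hg
  have hg0 : constantCoeff g = 0 := by
    rw [← coeff_zero_eq_constantCoeff_apply, hg, coeff_mk]
    simp
  have hsub : HasSubst g := HasSubst.of_constantCoeff_zero' hg0
  set c : ℤ → ℚ := fun n => (q : ℚ) ^ n with hc
  have hXdg : X * d⁄dX ℚ g = ∑ n ∈ R.coeff.support, C ((R.coeff n : ℤ) : ℚ) * D (c n) := by
    ext v
    cases v with
    | zero =>
      rw [coeff_zero_X_mul, map_sum]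
      symm
      apply Finset.sum_eq_zero
      intro n _
      rw [coeff_C_mul, D, coeff_mk, if_pos rfl, mul_zero]
    | succ v =>
      rw [coeff_succ_X_mul, coeff_derivative, hg, coeff_mk, if_neg (Nat.succ_ne_zero v), map_sum]
      have h3 : ((v + 1 : ℕ) : ℚ) ≠ 0 := by exact_mod_cast Nat.succ_ne_zero v
      have h4 : ((v : ℚ) + 1) = ((v + 1 : ℕ) : ℚ) := by push_cast; ring
      rw [h4, div_mul_cancel₀ _ h3, Finsupp.sum]
      apply Finset.sum_congr rfl
      intro n _
      rw [coeff_C_mul, D, coeff_mk, if_neg (Nat.succ_ne_zero v), hc]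
      simp only
      rw [zpow_mul, zpow_natCast]
  set Ee : PowerSeries ℚ := (PowerSeries.exp ℚ).subst g with hEe
  have hE0 : constantCoeff Ee = 1 := by
    have e : PowerSeries.exp ℚ = 1 + (PowerSeries.exp ℚ - 1) := by ring
    rw [hEe, e, subst_add hsub, map_add]
    have e1 : PowerSeries.subst g (1 : PowerSeries ℚ) = 1 := by
      rw [← coe_substAlgHom hsub, map_one]
    have e2 : constantCoeff (PowerSeries.subst g (PowerSeries.exp ℚ - 1)) = 0 :=
      constantCoeff_subst_eq_zero hg0 _ (by rw [map_sub, constantCoeff_exp, map_one, sub_self])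
    rw [e1, e2, map_one, add_zero]
  have hdE : X * d⁄dX ℚ Ee = Ee * (X * d⁄dX ℚ g) := by
    rw [hEe, derivative_subst hsub, derivative_exp]
    ring
  have hP := X_mul_deriv_prod_pow R.coeff.support c (fun n => (R.coeff n).toNat)
  have hM := X_mul_deriv_prod_pow R.coeff.support c (fun n => (-(R.coeff n)).toNat)
  apply Groth.Agent.Lib.CharpolyRevExp.unique_of_logDeriv _ _
    (-∑ n ∈ R.coeff.support, C (((-(R.coeff n)).toNat : ℕ) : ℚ) * D (c n))
  · rw [map_mul, hE0, constantCoeff_prod_pow, constantCoeff_prod_pow, mul_one]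
  · rw [map_neg, map_sum, neg_eq_zero]
    apply Finset.sum_eq_zero
    intro n _
    rw [← coeff_zero_eq_constantCoeff_apply, coeff_C_mul, D, coeff_mk, if_pos rfl, mul_zero]
  · rw [Derivation.leibniz, smul_eq_mul, smul_eq_mul, mul_add]
    have h1 : X * (Ee * d⁄dX ℚ (∏ n ∈ R.coeff.support, (1 - C (c n) * X) ^ (R.coeff n).toNat))
        = Ee * (X * d⁄dX ℚ (∏ n ∈ R.coeff.support, (1 - C (c n) * X) ^ (R.coeff n).toNat)) := by
      ring
    have h2 : X * ((∏ n ∈ R.coeff.support, (1 - C (c n) * X) ^ (R.coeff n).toNat) * d⁄dX ℚ Ee)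
        = (∏ n ∈ R.coeff.support, (1 - C (c n) * X) ^ (R.coeff n).toNat) * (X * d⁄dX ℚ Ee) := by
      ring
    rw [h1, h2, hP, hdE, hXdg]
    have h5 : ∑ n ∈ R.coeff.support, C ((R.coeff n : ℤ) : ℚ) * D (c n)
        = ∑ n ∈ R.coeff.support, C (((R.coeff n).toNat : ℕ) : ℚ) * D (c n)
          - ∑ n ∈ R.coeff.support, C (((-(R.coeff n)).toNat : ℕ) : ℚ) * D (c n) := by
      rw [← Finset.sum_sub_distrib]
      apply Finset.sum_congr rfl
      intro n _
      rw [← sub_mul, ← map_sub]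
      congr 2
      have := Int.toNat_sub_toNat_neg (R.coeff n)
      have h6 := congrArg (fun t : ℤ => (t : ℚ)) this
      simp only [Int.cast_sub, Int.cast_natCast] at h6
      exact h6.symm
    rw [h5]
    ring
  · rw [hM]
    ring

end Groth.Agent.Lib.ExpSumLaurent
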