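import Mathlib
import Groth.Prelude.Def_Exal

set_option autoImplicit false
universe u

namespace Groth.Agent.Lib.ExtARH1

open IsLocalRing

theorem mem_smul_top_of_forall {R : Type u} [CommRing R] {d : ℕ} (I : Ideal R) (v : Fin d → R)
    (hv : ∀ i, v i ∈ I) : v ∈ I • (⊤ : Submodule R (Fin d → R)) := by
  classical
  rw [← Finset.univ_sum_single v]
  refine Submodule.sum_mem _ (fun i _ => ?_)
  have : (Pi.single i (v i) : Fin d → R) = v i • (Pi.single i (1 : R) : Fin d → R) := by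
    ext j
    by_cases h : j = i
    · subst h; simp
    · simp [Pi.single_apply, h]
  rw [this]
  exact Submodule.smul_mem_smul (hv i) Submodule.mem_top

theorem core {R : Type u} [CommRing R] [IsLocalRing R] [IsNoetherianRing R]
    {Λ : Type u} [CommRing Λ] [Algebra Λ R] :
    ∃ n : ℕ, ∀ X : Exal.Ext Λ R (ResidueField R),
      ∃ I : Ideal X.E, (∀ x ∈ I, X.proj x = 0 → x = 0) ∧
        Ideal.map X.proj I = maximalIdeal R ^ (n + 1) := by
  classical
  obtain ⟨d, r, hr⟩ : ∃ (d : ℕ) (r : Fin d → R), Ideal.span (Set.range r) = maximalIdeal R := by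
    have hfg : (maximalIdeal R).FG := (isNoetherianRing_iff_ideal_fg R).1 inferInstance _
    obtain ⟨d, r, hr⟩ := Submodule.fg_iff_exists_fin_generating_family.1 hfg
    exact ⟨d, r, hr⟩
  let π : (Fin d → R) →ₗ[R] R :=
    { toFun := fun v => ∑ i, v i * r i
      map_add' := fun v w => by simp [add_mul, Finset.sum_add_distrib]
      map_smul' := fun s v => by simp [Finset.mul_sum, mul_assoc] }
  have hπ : ∀ v, π v = ∑ i, v i * r i := fun _ => rfl
  obtain ⟨c, hc⟩ := Ideal.exists_pow_inf_eq_pow_smul (maximalIdeal R) (LinearMap.ker π)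
  have hAR : (maximalIdeal R ^ (c + 1)) • (⊤ : Submodule R (Fin d → R)) ⊓ LinearMap.ker π
      ≤ maximalIdeal R • LinearMap.ker π := by
    rw [hc (c + 1) (Nat.le_succ c)]
    have : c + 1 - c = 1 := by omega
    rw [this, pow_one]
    exact Submodule.smul_mono le_rfl inf_le_right
  refine ⟨c + 1, fun X => ?_⟩
  obtain ⟨𝔫, h𝔫⟩ : ∃ 𝔫 : Ideal X.E, ∀ y, y ∈ 𝔫 ↔ X.proj y ∈ maximalIdeal R :=
    ⟨Ideal.comap X.proj (maximalIdeal R), fun _ => Iff.rfl⟩
  have hsurj := X.isExtension.proj_surjective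
  have hmap : ∀ m : ℕ, Ideal.map X.proj (𝔫 ^ m) = maximalIdeal R ^ m := by
    intro m
    have : 𝔫 = Ideal.comap X.proj (maximalIdeal R) := Ideal.ext (fun y => h𝔫 y)
    rw [Ideal.map_pow, this, Ideal.map_comap_of_surjective _ hsurj]
  refine ⟨𝔫 ^ (c + 1 + 1), ?_, hmap _⟩
  have hkill : ∀ y ∈ 𝔫, ∀ z : ResidueField R, y * X.incl z = 0 := by
    intro y hy z
    rw [X.isExtension.mul_incl]
    have : X.proj y • z = 0 := by
      rw [Algebra.smul_def, ResidueField.algebraMap_eq,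
        (residue_eq_zero_iff _).2 ((h𝔫 y).1 hy), zero_mul]
    rw [this, map_zero]
  choose e he using fun i => hsurj (r i)
  have he𝔫 : ∀ i, e i ∈ 𝔫 := fun i => by
    rw [h𝔫, he, ← hr]; exact Ideal.subset_span ⟨i, rfl⟩
  have hB : ∀ x ∈ 𝔫 ^ (c + 1 + 1), ∃ a : Fin d → X.E, (∀ i, a i ∈ 𝔫 ^ (c + 1)) ∧
      x = ∑ i, e i * a i := by
    intro x hx
    rw [pow_succ] at hx
    refine Submodule.mul_induction_on hx ?_ ?_
    · intro w hw y hy
      have hy' : X.proj y ∈ Ideal.span (Set.range r) := by rw [hr]; exact (h𝔫 y).1 hy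
      obtain ⟨b, hb⟩ := (Ideal.mem_span_range_iff_exists_fun).1 hy'
      choose bt hbt using fun i => hsurj (b i)
      have h0 : X.proj (y - ∑ i, bt i * e i) = 0 := by
        rw [map_sub, map_sum, sub_eq_zero, ← hb]
        refine Finset.sum_congr rfl (fun i _ => ?_)
        rw [map_mul, hbt, he]
      obtain ⟨z', hz'⟩ := (X.isExtension.exact _).1 h0
      have hw𝔫 : w ∈ 𝔫 := Ideal.pow_le_self (Nat.succ_ne_zero c) hw
      refine ⟨fun i => bt i * w, fun i => Ideal.mul_mem_left _ _ hw, ?_⟩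
      have hy_eq : y = ∑ i, bt i * e i + X.incl z' := by rw [hz']; ring
      rw [hy_eq, mul_add, hkill w hw𝔫 z', add_zero, Finset.mul_sum]
      refine Finset.sum_congr rfl (fun i _ => by ring)
    · rintro x₁ x₂ ⟨a₁, ha₁, rfl⟩ ⟨a₂, ha₂, rfl⟩
      refine ⟨fun i => a₁ i + a₂ i, fun i => Ideal.add_mem _ (ha₁ i) (ha₂ i), ?_⟩
      rw [← Finset.sum_add_distrib]
      refine Finset.sum_congr rfl (fun i _ => by ring)
  have hQ : ∀ v ∈ maximalIdeal R • LinearMap.ker π, ∀ a : Fin d → X.E,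
      (∀ i, X.proj (a i) = v i) → ∑ i, e i * a i = 0 := by
    intro v hv
    refine Submodule.smul_induction_on hv ?_ ?_
    · intro s hs z hz a ha
      obtain ⟨st, hst⟩ := hsurj s
      choose zt hzt using fun i => hsurj (z i)
      have hst𝔫 : st ∈ 𝔫 := by rw [h𝔫, hst]; exact hs
      have h0 : X.proj (∑ i, e i * zt i) = 0 := by
        have hz0 : π z = 0 := hz
        rw [map_sum, ← hz0, hπ]
        refine Finset.sum_congr rfl (fun i _ => ?_)
        rw [map_mul, he, hzt, mul_comm]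
      obtain ⟨z', hz'⟩ := (X.isExtension.exact _).1 h0
      have h1 : ∀ i, ∃ w, X.incl w = a i - st * zt i := fun i =>
        (X.isExtension.exact _).1 (by
          rw [map_sub, map_mul, ha, hst, hzt, Pi.smul_apply, smul_eq_mul, sub_self])
      choose w hw using h1
      have hsum : ∑ i, e i * a i = st * ∑ i, e i * zt i + ∑ i, e i * X.incl (w i) := by
        rw [Finset.mul_sum, ← Finset.sum_add_distrib]
        refine Finset.sum_congr rfl (fun i _ => ?_)
        rw [hw]; ring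
      rw [hsum, ← hz', hkill st hst𝔫, zero_add]
      exact Finset.sum_eq_zero (fun i _ => hkill (e i) (he𝔫 i) _)
    · intro v₁ v₂ h₁ h₂ a ha
      choose a₁ ha₁ using fun i => hsurj (v₁ i)
      have e1 := h₁ a₁ ha₁
      have e2 := h₂ (fun i => a i - a₁ i) (fun i => by
        rw [map_sub, ha, ha₁, Pi.add_apply]; ring)
      calc ∑ i, e i * a i = ∑ i, e i * a₁ i + ∑ i, e i * (a i - a₁ i) := by
            rw [← Finset.sum_add_distrib]
            exact Finset.sum_congr rfl (fun i _ => by ring)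
        _ = 0 := by rw [e1, e2, add_zero]
  intro x hx hpx
  obtain ⟨a, ha, rfl⟩ := hB x hx
  refine hQ (fun i => X.proj (a i)) ?_ a (fun i => rfl)
  apply hAR
  refine Submodule.mem_inf.2 ⟨mem_smul_top_of_forall _ _ (fun i => ?_), ?_⟩
  · have := Ideal.mem_map_of_mem X.proj (ha i)
    rwa [hmap] at this
  · show π (fun i => X.proj (a i)) = 0
    rw [← hpx, map_sum, hπ]
    refine Finset.sum_congr rfl (fun i _ => ?_)
    rw [map_mul, he, mul_comm]

theorem main11282
    {k : Type u} [Field k] [IsAlgClosed k]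
    {Λ : Type u} [CommRing Λ] [Algebra k Λ] [IsLocalRing Λ] [IsNoetherianRing Λ]
    [IsAdicComplete (IsLocalRing.maximalIdeal Λ) Λ]
    (hΛ : ∀ a : Λ, ∃ c : k, a - algebraMap k Λ c ∈ IsLocalRing.maximalIdeal Λ)
    {R : Type u} [CommRing R] [Algebra Λ R] [IsLocalRing R] [IsNoetherianRing R]
    [IsLocalHom (algebraMap Λ R)]
    (hR : ∀ r : R, ∃ c : k, r - algebraMap Λ R (algebraMap k Λ c) ∈ IsLocalRing.maximalIdeal R) :
    ∃ n : ℕ, ∀ X : Exal.Ext Λ R (IsLocalRing.ResidueField R),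
      ∃ I : Ideal X.E, (∀ x ∈ I, X.proj x = 0 → x = 0) ∧
        Ideal.map X.proj I = IsLocalRing.maximalIdeal R ^ (n + 1) :=
  core

end Groth.Agent.Lib.ExtARH1
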