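import Mathlib
import Groth.Prelude.Def_DeRham
import Groth.Agent.Lib.ExtBC1_helper9
import Groth.Agent.Lib.DeRham_helper1

/-!
Base change of the modules of differential forms (helper9).  APPEND-ONLY once landed.
-/

set_option autoImplicit false
universe u

open TensorProduct exteriorPower

namespace Groth.Agent.ExtBC9

section Forms

variable (R S A B : Type u) [CommRing R] [CommRing S] [CommRing A] [CommRing B]
  [Algebra R S] [Algebra R A] [Algebra R B] [Algebra A B] [Algebra S B]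
  [IsScalarTower R A B] [IsScalarTower R S B] [Algebra.IsPushout R S A B]

/-- `⋀[B]^p (B ⊗[A] Ω[A⁄R]) ≃ ⋀[B]^p Ω[B⁄S]`. -/
noncomputable def e3 (p : ℕ) :
    ↥(⋀[B]^p (B ⊗[A] (Ω[A⁄R]))) ≃ₗ[B] ↥(⋀[B]^p (Ω[B⁄S])) :=
  LinearEquiv.ofBijective
    (exteriorPower.map p (KaehlerDifferential.tensorKaehlerEquiv R S A B).toLinearMap)
    (map_bijective_of_equiv p (KaehlerDifferential.tensorKaehlerEquiv R S A B))

/-- The base-change isomorphism `S ⊗[R] ⋀[A]^p Ω[A⁄R] ≃ₗ[S] ⋀[B]^p Ω[B⁄S]`. -/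
noncomputable def bcEquiv (p : ℕ) :
    (S ⊗[R] ↥(⋀[A]^p (Ω[A⁄R]))) ≃ₗ[S] ↥(⋀[B]^p (Ω[B⁄S])) :=
  (Algebra.IsPushout.cancelBaseChange R S A B ↥(⋀[A]^p (Ω[A⁄R]))).symm ≪≫ₗ
    ((equivP A B (Ω[A⁄R]) p) ≪≫ₗ (e3 R S A B p)).restrictScalars S

lemma bcEquiv_tmul_gen (p : ℕ) (s : S) (b₀ : A) (b : Fin p → A) :
    bcEquiv R S A B p (s ⊗ₜ DeRham.gen (KaehlerDifferential.D R A) p b₀ b) =
      s • DeRham.gen (KaehlerDifferential.D S B) p (algebraMap A B b₀)
        (fun i => algebraMap A B (b i)) := by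
  unfold DeRham.gen
  show e3 R S A B p (equivP A B (Ω[A⁄R]) p
    ((Algebra.IsPushout.cancelBaseChange R S A B ↥(⋀[A]^p (Ω[A⁄R]))).symm _)) = _
  rw [Algebra.IsPushout.cancelBaseChange_symm_tmul, TensorProduct.tmul_smul,
    TensorProduct.smul_tmul', equivP_tmul, map_smul]
  show _ • exteriorPower.map p _ _ = _
  rw [exteriorPower.map_apply_ιMulti]
  have : (⇑(KaehlerDifferential.tensorKaehlerEquiv R S A B).toLinearMap ∘ fun i =>
      (1 : B) ⊗ₜ[A] (KaehlerDifferential.D R A) (b i)) =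
      fun i => (KaehlerDifferential.D S B) ((algebraMap A B) (b i)) := by
    funext i
    simp [KaehlerDifferential.tensorKaehlerEquiv_tmul_D]
  rw [this, ← algebraMap_smul B s, smul_smul, Algebra.smul_def b₀, mul_comm]

lemma bcEquiv_tmul (ψ : ∀ p : ℕ, ↥(⋀[A]^p (Ω[A⁄R])) →+ ↥(⋀[B]^p (Ω[B⁄S])))
    (hψ : DeRham.IsCxMap (KaehlerDifferential.D R A) (KaehlerDifferential.D S B)
      (algebraMap A B) ψ) (p : ℕ) (s : S) (x : ↥(⋀[A]^p (Ω[A⁄R]))) :
    bcEquiv R S A B p (s ⊗ₜ x) = s • ψ p x := by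
  induction x using Groth.Agent.Lib.DeRhamH1.kaehler_gen_induction with
  | h0 => simp
  | hadd x y hx hy => rw [TensorProduct.tmul_add, map_add, hx, hy, map_add, smul_add]
  | hgen b₀ b => rw [bcEquiv_tmul_gen, hψ p b₀ b]

lemma map_baseChange_eq_span (ψ : ∀ p : ℕ, ↥(⋀[A]^p (Ω[A⁄R])) →+ ↥(⋀[B]^p (Ω[B⁄S])))
    (hψ : DeRham.IsCxMap (KaehlerDifferential.D R A) (KaehlerDifferential.D S B)
      (algebraMap A B) ψ) (p : ℕ) (N : Submodule R ↥(⋀[A]^p (Ω[A⁄R]))) :
    Submodule.map (bcEquiv R S A B p).toLinearMap (N.baseChange S) =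
      Submodule.span S (ψ p '' (N : Set ↥(⋀[A]^p (Ω[A⁄R])))) := by
  rw [Submodule.baseChange_eq_span, Submodule.map_span, Submodule.map_coe, Set.image_image]
  congr 1
  apply Set.image_congr
  intro x _
  simp [bcEquiv_tmul R S A B ψ hψ]

end Forms

section Flat

variable {k : Type*} (K : Type*) [CommRing k] [CommRing K] [Algebra k K]
  {V W : Type*} [AddCommGroup V] [Module k V] [AddCommGroup W] [Module k W] (f : V →ₗ[k] W)

lemma ker_baseChange_of_flat [Module.Flat k K] :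
    LinearMap.ker (f.baseChange K) = (LinearMap.ker f).baseChange K :=
  Module.Flat.ker_lTensor_eq K K f

lemma range_baseChange :
    LinearMap.range (f.baseChange K) = (LinearMap.range f).baseChange K := by
  apply le_antisymm
  · rintro _ ⟨z, rfl⟩
    induction z with
    | zero => simp
    | add x y hx hy => rw [map_add]; exact Submodule.add_mem _ hx hy
    | tmul s x =>
      rw [LinearMap.baseChange_tmul]
      exact Submodule.tmul_mem_baseChange_of_mem s ⟨x, rfl⟩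
  · rw [Submodule.baseChange_eq_span, Submodule.span_le]
    rintro _ ⟨_, ⟨x, rfl⟩, rfl⟩
    exact ⟨1 ⊗ₜ x, by simp⟩

end Flat

end Groth.Agent.ExtBC9
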