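import Mathlib
import Groth.Prelude
import Groth.Agent.Lib.Kosz3_lead
import Groth.Agent.Lib.RGammaZ5_lead
import Groth.Agent.Lib.ExtCech2_helper7

/-!
# The extended Čech complex represents `RΓ_Z` on an affine scheme (lead; S7267)

* `noHom_of_nilp_of_isIso`: no maps from an object on which `f` is nilpotent to one on which `f`
  is invertible;
* `eps`: the canonical map `extCech M fs ⟶ M[0]`; `bijective_comp_eps`: it induces bijections on
  maps out of objects on which every `f ∈ fs` is nilpotent;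
* `noHom_obj₃_of_bijective`: vanishing of maps to the cone;
* `nonempty_iso_RgammaZ_of_UP`: recognising `RΓ_Z(K)` by its universal property;
* `main7267`.

APPEND-ONLY once landed.
-/

set_option autoImplicit false
set_option linter.all false
set_option maxHeartbeats 1600000
set_option backward.isDefEq.respectTransparency false
set_option backward.isDefEq.respectTransparency.types false
set_option backward.defeqAttrib.useBackward true

universe u
open CategoryTheory CategoryTheory.Limits AlgebraicGeometry Opposite TopologicalSpace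
open DerivedCategory CategoryTheory.Pretriangulated
attribute [local instance] HasDerivedCategory.standard

namespace Groth.Agent.Lib.ExtCechRGL

open Groth.Agent.Lib Groth.Agent.Lib.HomVanL Groth.Agent.Lib.DCohLocLead Groth.Agent.Lib.PerfLocL
open Groth.Agent.Lib.StalkSkyL Groth.Agent.Lib.MVPushL Groth.Agent.Lib.KoszL
open Groth.Agent.Lib.RGammaZL Groth.Agent.Lib.DSectL

noncomputable section

/-- derived pushforwards exist -/
local instance hasRpushInst7 {X Y : Scheme.{u}} (g : X ⟶ Y) : DCoh.HasRpush g :=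
  BCOpenL.hasRpush g

/-! ### Abstract lemmas -/

section Abstract

variable {R : Type*} [CommRing R] {C : Type*} [Category C] [Preadditive C] [Linear R C]

theorem isIso_pow_smul_id (f : R) {N : C} (hN : IsIso (f • 𝟙 N)) :
    ∀ k : ℕ, IsIso ((f ^ k) • 𝟙 N)
  | 0 => by
    rw [pow_zero, one_smul]; infer_instance
  | k + 1 => by
    haveI := isIso_pow_smul_id f hN k
    haveI := hN
    have h : (f ^ (k + 1)) • 𝟙 N = ((f ^ k) • 𝟙 N) ≫ (f • 𝟙 N) := by
      rw [Linear.smul_comp, Category.id_comp, smul_smul, pow_succ]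
    rw [h]; infer_instance

theorem noHom_of_nilp_of_isIso (f : R) {P N : C} (k : ℕ) (hP : (f ^ k) • 𝟙 P = 0)
    (hN : IsIso (f • 𝟙 N)) : NoHom P N := fun φ => by
  haveI := isIso_pow_smul_id f hN k
  have h1 : φ ≫ ((f ^ k) • 𝟙 N) = 0 := by
    rw [comp_smul_id, ← smul_id_comp, hP, zero_comp]
  exact (cancel_mono ((f ^ k) • 𝟙 N)).1 (h1.trans zero_comp.symm)

end Abstract

section Tri

variable {C : Type*} [Category C] [Preadditive C] [HasZeroObject C] [HasShift C ℤ]
  [∀ n : ℤ, (shiftFunctor C n).Additive] [Pretriangulated C]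

/-- if composition with `T.mor₁` is injective on maps out of `P[-1]` and surjective on maps out
of `P`, then there are no maps from `P` to the cone -/
theorem noHom_obj₃_of_bijective (T : Triangle C) (hT : T ∈ distTriang C) (P : C)
    (hinj : Function.Injective (fun φ : P⟦(-1 : ℤ)⟧ ⟶ T.obj₁ => φ ≫ T.mor₁))
    (hsurj : Function.Surjective (fun φ : P ⟶ T.obj₁ => φ ≫ T.mor₁)) : NoHom P T.obj₃ := by
  intro φ
  have hψ : (φ ≫ T.mor₃) ≫ T.mor₁⟦(1 : ℤ)⟧' = 0 := by
    rw [Category.assoc, comp_distTriang_mor_zero₃₁ T hT, comp_zero]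
  let e := shiftFunctorCompIsoId C (1 : ℤ) (-1) (by norm_num)
  have hnat : e.hom.app T.obj₁ ≫ T.mor₁ =
      (T.mor₁⟦(1 : ℤ)⟧')⟦(-1 : ℤ)⟧' ≫ e.hom.app T.obj₂ :=
    (e.hom.naturality T.mor₁).symm
  have h0 : ((φ ≫ T.mor₃)⟦(-1 : ℤ)⟧' ≫ e.hom.app T.obj₁) ≫ T.mor₁ =
      (0 : P⟦(-1 : ℤ)⟧ ⟶ T.obj₁) ≫ T.mor₁ := by
    rw [Category.assoc, hnat, ← Category.assoc, ← CategoryTheory.Functor.map_comp, hψ,
      Functor.map_zero, zero_comp, zero_comp]
  have h1 : (φ ≫ T.mor₃)⟦(-1 : ℤ)⟧' ≫ e.hom.app T.obj₁ = 0 := hinj h0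
  have h2 : (φ ≫ T.mor₃)⟦(-1 : ℤ)⟧' = 0 := by
    have h := congrArg (fun t => t ≫ e.inv.app T.obj₁) h1
    simpa using h
  have h3 : φ ≫ T.mor₃ = 0 :=
    (shiftFunctor C (-1 : ℤ)).map_injective (by rw [h2, Functor.map_zero])
  obtain ⟨g, hg⟩ := Triangle.coyoneda_exact₃ T hT φ h3
  obtain ⟨χ, hχ⟩ := hsurj g
  have hχ' : χ ≫ T.mor₁ = g := hχ
  rw [hg, ← hχ', Category.assoc, comp_distTriang_mor_zero₁₂ T hT, comp_zero]

end Tri

/-! ### Algebra in `D(A)` -/

section Alg

variable {A : Type u} [CommRing A]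

theorem isIso_smul_locFunctor (f : A) (X : ModuleCat.{u} A) :
    IsIso (f • 𝟙 ((DerCA.locFunctor (Submonoid.powers f)).obj X)) := by
  have hu : IsUnit (algebraMap A (Module.End A (LocalizedModule (Submonoid.powers f) X)) f) :=
    IsLocalizedModule.map_units (LocalizedModule.mkLinearMap (Submonoid.powers f) X)
      ⟨f, Submonoid.mem_powers f⟩
  have hb := (Module.End.isUnit_iff _).1 hu
  rw [ConcreteCategory.isIso_iff_bijective]
  exact hb

theorem isIso_smul_locCx (f : A) (E : DRing.Cx A) :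
    IsIso (f • 𝟙 ((DerCA.locCx (Submonoid.powers f)).obj E)) := by
  haveI : ∀ i, IsIso ((f • 𝟙 ((DerCA.locCx (Submonoid.powers f)).obj E)).f i) := fun i => by
    have h : (f • 𝟙 ((DerCA.locCx (Submonoid.powers f)).obj E)).f i =
        f • 𝟙 ((DerCA.locFunctor (Submonoid.powers f)).obj (E.X i)) := rfl
    rw [h]
    exact isIso_smul_locFunctor f (E.X i)
  exact HomologicalComplex.Hom.isIso_of_components _

theorem isIso_smul_Q_locCx (f : A) (E : DRing.Cx A) :
    IsIso (f • 𝟙 (Q.obj ((DerCA.locCx (Submonoid.powers f)).obj E))) := by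
  haveI := isIso_smul_locCx f E
  have h : f • 𝟙 (Q.obj ((DerCA.locCx (Submonoid.powers f)).obj E)) =
      Q.map (f • 𝟙 ((DerCA.locCx (Submonoid.powers f)).obj E)) := by
    rw [CategoryTheory.Functor.map_smul, CategoryTheory.Functor.map_id]
  rw [h]
  infer_instance

theorem isIso_smul_shift (f : A) (N : DerivedCategory (ModuleCat.{u} A)) (n : ℤ)
    (h : IsIso (f • 𝟙 N)) : IsIso (f • 𝟙 (N⟦n⟧)) := by
  haveI := h
  have h' : f • 𝟙 (N⟦n⟧) = (f • 𝟙 N)⟦n⟧' := by
    rw [CategoryTheory.Functor.map_smul, CategoryTheory.Functor.map_id]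
  rw [h']
  infer_instance

/-- every element of `fs` acts nilpotently on `P` -/
def Nilp (fs : List A) (P : DerivedCategory (ModuleCat.{u} A)) : Prop :=
  ∀ f ∈ fs, ∃ k : ℕ, (f ^ k) • 𝟙 P = 0

theorem Nilp.shift {fs : List A} {P : DerivedCategory (ModuleCat.{u} A)} (h : Nilp fs P)
    (n : ℤ) : Nilp fs (P⟦n⟧) := by
  intro f hf
  obtain ⟨k, hk⟩ := h f hf
  refine ⟨k, ?_⟩
  have h' : (f ^ k) • 𝟙 (P⟦n⟧) = ((f ^ k) • 𝟙 P)⟦n⟧' := by
    rw [CategoryTheory.Functor.map_smul, CategoryTheory.Functor.map_id]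
  rw [h', hk, Functor.map_zero]

theorem nilp_Kz (fs : List A) : Nilp fs (Kz fs) := fun f hf => exists_kills_Kz fs f hf

/-- the canonical map from the extended Čech complex to `M[0]` -/
def eps (M : ModuleCat.{u} A) : ∀ fs : List A, DerCA.extCech M fs ⟶
    (HomologicalComplex.single (ModuleCat.{u} A) (ComplexShape.up ℤ) 0).obj M
  | [] => 𝟙 _
  | f :: fs => CochainComplex.mappingCocone.fst
      (DerCA.locCxUnit (Submonoid.powers f) (DerCA.extCech M fs)) ≫ eps M fs

theorem bijective_comp_eps (M : ModuleCat.{u} A) :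
    ∀ (fs : List A) (P : DerivedCategory (ModuleCat.{u} A)), Nilp fs P →
      Function.Bijective (fun φ : P ⟶ Q.obj (DerCA.extCech M fs) => φ ≫ Q.map (eps M fs))
  | [], P, _ => by
    have h : (fun φ : P ⟶ Q.obj (DerCA.extCech M []) => φ ≫ Q.map (eps M [])) = id := by
      funext φ
      show φ ≫ Q.map (𝟙 _) = φ
      rw [CategoryTheory.Functor.map_id]
      exact Category.comp_id _
    rw [h]
    exact Function.bijective_id
  | f :: fs, P, hP => by
    have ih := bijective_comp_eps M fs P (fun g hg => hP g (List.mem_cons.2 (Or.inr hg)))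
    obtain ⟨k, hk⟩ := hP f (List.mem_cons.2 (Or.inl rfl))
    have hT := DerivedCategory.mappingCocone_triangle_distinguished
      (DerCA.locCxUnit (Submonoid.powers f) (DerCA.extCech M fs))
    have h3 : NoHom P (Q.obj ((DerCA.locCx (Submonoid.powers f)).obj (DerCA.extCech M fs))) :=
      noHom_of_nilp_of_isIso f k hk (isIso_smul_Q_locCx f _)
    have h3' : NoHom P
        ((Q.obj ((DerCA.locCx (Submonoid.powers f)).obj (DerCA.extCech M fs)))⟦(-1 : ℤ)⟧) :=
      noHom_of_nilp_of_isIso f k hk (isIso_smul_shift f _ (-1) (isIso_smul_Q_locCx f _))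
    have hb := bijective_comp_mor₁ _ hT P h3 h3'
    have hb' : Function.Bijective
        (fun a : P ⟶ Q.obj (CochainComplex.mappingCocone
            (DerCA.locCxUnit (Submonoid.powers f) (DerCA.extCech M fs))) =>
          a ≫ Q.map (CochainComplex.mappingCocone.fst
            (DerCA.locCxUnit (Submonoid.powers f) (DerCA.extCech M fs)))) := hb
    have hcomp : (fun φ : P ⟶ Q.obj (DerCA.extCech M (f :: fs)) =>
        φ ≫ Q.map (eps M (f :: fs))) =
        (fun ψ : P ⟶ Q.obj (DerCA.extCech M fs) => ψ ≫ Q.map (eps M fs)) ∘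
          (fun a : P ⟶ Q.obj (CochainComplex.mappingCocone
              (DerCA.locCxUnit (Submonoid.powers f) (DerCA.extCech M fs))) =>
            a ≫ Q.map (CochainComplex.mappingCocone.fst
              (DerCA.locCxUnit (Submonoid.powers f) (DerCA.extCech M fs)))) := by
      funext φ
      show φ ≫ Q.map (CochainComplex.mappingCocone.fst
          (DerCA.locCxUnit (Submonoid.powers f) (DerCA.extCech M fs)) ≫ eps M fs) =
        (φ ≫ Q.map _) ≫ Q.map _
      rw [CategoryTheory.Functor.map_comp, Category.assoc]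
    rw [hcomp]
    exact ih.comp hb'

theorem HT_extCech (M : ModuleCat.{u} A) (fs : List A) (f : A) (hf : f ∈ fs) (i : ℤ) :
    HT f (Q.obj (DerCA.extCech M fs)) i := by
  have h : HTm f ((DerCA.extCech M fs).homology i) := fun x => by
    obtain ⟨n, -, hn⟩ := Groth.Agent.Lib.ExtCechH7.S9265_main fs M i x
    exact ⟨n, hn f hf⟩
  exact HTm.of_iso h ((homologyFunctorFactors (ModuleCat.{u} A) i).app (DerCA.extCech M fs)).symm

end Alg

/-! ### Recognising `RΓ_Z` -/

section UP

variable {Y : Scheme.{u}} (W : Y.Opens) [CxOX.HasRgammaZ W.ι]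

theorem nonempty_iso_RgammaZ_of_UP (T K : DCoh.D Y) (ε : T ⟶ K)
    (hT : IsZero ((DCoh.restrictD W.ι).obj T))
    (hUP : ∀ A' : DCoh.D Y, IsZero ((DCoh.restrictD W.ι).obj A') →
      Function.Bijective (fun a : A' ⟶ T => a ≫ ε)) :
    Nonempty (T ≅ (CxOX.RgammaZ W.ι).obj K) := by
  have hR := isZero_restrictD_RgammaZ W K
  obtain ⟨a, ha⟩ := (bijective_comp_RgammaZToId W T K hT).2 ε
  obtain ⟨b, hb⟩ := (hUP _ hR).2 ((CxOX.RgammaZToId W.ι).app K)
  have ha' : a ≫ (CxOX.RgammaZToId W.ι).app K = ε := ha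
  have hb' : b ≫ ε = (CxOX.RgammaZToId W.ι).app K := hb
  refine ⟨⟨a, b, ?_, ?_⟩⟩
  · apply (hUP T hT).1
    show (a ≫ b) ≫ ε = 𝟙 T ≫ ε
    rw [Category.assoc, hb', ha', Category.id_comp]
  · apply (bijective_comp_RgammaZToId W _ K hR).1
    show (b ≫ a) ≫ (CxOX.RgammaZToId W.ι).app K = 𝟙 _ ≫ (CxOX.RgammaZToId W.ι).app K
    rw [Category.assoc, ha', hb', Category.id_comp]

end UP

/-! ### The main theorem -/

section Main

variable (A : Type u) [CommRing A] (fs : List A) (M : ModuleCat.{u} A)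
  [PreservesFiniteLimits (tilde.functor (CommRingCat.of A))]

theorem isZero_DD_tilde_extCech :
    IsZero ((DD (UA A fs).ι).obj
      ((DCoh.tildeD (CommRingCat.of A)).obj (Q.obj (DerCA.extCech M fs)))) := by
  apply isZero_of_forall_isZero_homology
  intro i
  obtain ⟨e1⟩ := nonempty_HD_restrict_iso (UA A fs).ι
    ((DCoh.tildeD (CommRingCat.of A)).obj (Q.obj (DerCA.extCech M fs))) i
  obtain ⟨e2⟩ := nonempty_homology_mapExact_iso (tilde.functor (CommRingCat.of A))
    (Q.obj (DerCA.extCech M fs)) i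
  refine IsZero.of_iso ?_ e1
  refine IsZero.of_iso ?_ ((Scheme.Modules.restrictFunctor (UA A fs).ι).mapIso e2)
  exact isZero_restrict_of_HTm A fs _ (fun f hf => HT_extCech M fs f hf i)

theorem main7267_aux [CxOX.HasRgammaZ (UA A fs).ι] :
    Nonempty ((DCoh.tildeD (CommRingCat.of A)).obj (Q.obj (DerCA.extCech M fs)) ≅
      (CxOX.RgammaZ (UA A fs).ι).obj ((DCoh.tildeD (CommRingCat.of A)).obj
        (Q.obj ((HomologicalComplex.single (ModuleCat.{u} A) (ComplexShape.up ℤ) 0).obj M)))) := by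
  obtain ⟨CA, β, δ, hT⟩ := distinguished_cocone_triangle (Q.map (eps M fs))
  have hK : ∀ n : ℤ, NoHom ((Kz fs)⟦n⟧) CA := fun n =>
    noHom_obj₃_of_bijective (Triangle.mk (Q.map (eps M fs)) β δ) hT ((Kz fs)⟦n⟧)
      (bijective_comp_eps M fs _ (((nilp_Kz fs).shift n).shift (-1))).1
      (bijective_comp_eps M fs _ ((nilp_Kz fs).shift n)).2
  have hT' : (DCoh.tildeD (CommRingCat.of A)).mapTriangle.obj
      (Triangle.mk (Q.map (eps M fs)) β δ) ∈ distTriang _ :=
    (DCoh.tildeD (CommRingCat.of A)).map_distinguished _ hT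
  have hC : DCoh.IsQCohD ((DCoh.tildeD (CommRingCat.of A)).obj CA) :=
    ((DSectX.main0997 (CommRingCat.of A)).2.2 _).2 ⟨CA, ⟨Iso.refl _⟩⟩
  obtain ⟨G, -, ⟨eC⟩⟩ := (main1044 A fs ((DCoh.tildeD (CommRingCat.of A)).obj CA) hC).2
    (fun n => (noHom_tildeD_iff A (Kz fs) CA n).2 (hK n))
  obtain ⟨adj⟩ := nonempty_adj_DD (UA A fs).ι
  refine nonempty_iso_RgammaZ_of_UP (UA A fs) _ _
    ((DCoh.tildeD (CommRingCat.of A)).map (Q.map (eps M fs)))
    (isZero_DD_tilde_extCech A fs M) ?_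
  intro A' hA'
  have h0 : NoHom A' ((DCoh.Rpush (UA A fs).ι).obj G) :=
    NoHom.of_adj adj (NoHom.of_isZero_left hA')
  have h3 : NoHom A' ((DCoh.tildeD (CommRingCat.of A)).obj CA) := h0.of_iso_right eC.symm
  have hA1 : IsZero ((DD (UA A fs).ι).obj (A'⟦(1 : ℤ)⟧)) :=
    IsZero.of_iso ((shiftFunctor _ (1 : ℤ)).map_isZero hA')
      (((DD (UA A fs).ι).commShiftIso (1 : ℤ)).app A')
  have h0s : NoHom (A'⟦(1 : ℤ)⟧) ((DCoh.Rpush (UA A fs).ι).obj G) :=
    NoHom.of_adj adj (NoHom.of_isZero_left hA1)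
  have h3s : NoHom (A'⟦(1 : ℤ)⟧) ((DCoh.tildeD (CommRingCat.of A)).obj CA) :=
    h0s.of_iso_right eC.symm
  have h3' : NoHom A' (((DCoh.tildeD (CommRingCat.of A)).obj CA)⟦(-1 : ℤ)⟧) :=
    NoHom.shift_right (-1) 1 (by norm_num) h3s
  exact bijective_comp_mor₁ _ hT' A' h3 h3'

/-- **S7267** -/
theorem main7267 [CxOX.HasRgammaZ (UA A fs).ι] :
    Nonempty ((DCoh.tildeD (CommRingCat.of A)).obj (DRing.toD (DerCA.extCech M fs)) ≅
      (CxOX.RgammaZ (UA A fs).ι).obj
        ((DCoh.tildeD (CommRingCat.of A)).obj (Dual.inD A M))) :=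
  main7267_aux A fs M

end Main

end

end Groth.Agent.Lib.ExtCechRGL
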