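import Mathlib

/-!
# Lifting maps along the last differential of an exact chain complex with `Ext` vanishing (helper7)
-/

set_option autoImplicit false
universe w v u
open CategoryTheory CategoryTheory.Limits Abelian

namespace Groth.Agent.Lib.ExtChain_helper7

variable {𝒜 : Type u} [Category.{v} 𝒜] [Abelian 𝒜]

/-- the short exact sequence `0 → ker f → X → ker g → 0` attached to an exact `X → Y → Z` -/
lemma kernel_ses {X Y Z : 𝒜} (f : X ⟶ Y) (g : Y ⟶ Z) (w : f ≫ g = 0)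
    (hS : (ShortComplex.mk f g w).Exact) :
    (ShortComplex.mk (kernel.ι f) (kernel.lift g f w)
      (by rw [← cancel_mono (kernel.ι g)]; simp)).ShortExact := by
  have hepi : Epi (kernel.lift g f w) := (ShortComplex.exact_iff_epi_kernel_lift _).1 hS
  refine ShortComplex.ShortExact.mk' ?_ (inferInstanceAs (Mono (kernel.ι f))) hepi
  exact ShortComplex.exact_of_f_is_kernel _
    (isKernelOfComp (kernel.ι g) f (kernelIsKernel f)
      (by rw [← cancel_mono (kernel.ι g)]; simp) (kernel.lift_ι _ _ _))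

variable [HasExt.{w} 𝒜]

lemma ext_eq_zero_of_isZero {A Z : 𝒜} (hZ : IsZero Z) {n : ℕ} (x : Ext.{w} A Z n) : x = 0 := by
  rw [← Ext.comp_mk₀_id x, hZ.eq_of_src (𝟙 Z) 0, Ext.mk₀_zero, Ext.comp_zero]

theorem exists_lift (A : 𝒜) (R : ℕ) (F : ChainComplex 𝒜 ℕ)
    (hmono : Mono (F.d (R + 1) R)) (hepi : Epi (F.d 1 0))
    (hex : ∀ j : ℕ, 1 ≤ j → j ≤ R → F.ExactAt j)
    (hvan : ∀ j : ℕ, 1 ≤ j → j ≤ R → ∀ x : Ext.{w} A (F.X (j + 1)) j, x = 0)
    (s : A ⟶ F.X 0) : ∃ t : A ⟶ F.X 1, t ≫ F.d 1 0 = s := by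
  have hP : ∀ k j : ℕ, j + k = R → ∀ x : Ext.{w} A (kernel (F.d (j + 1) j)) (j + 1), x = 0 := by
    intro k
    induction k with
    | zero =>
      intro j hj x
      obtain rfl : j = R := by omega
      haveI := hmono
      exact ext_eq_zero_of_isZero (isZero_kernel_of_mono _) x
    | succ k ih =>
      intro j hj x
      have hS := kernel_ses (F.d (j + 2) (j + 1)) (F.d (j + 1) j) (F.d_comp_d _ _ _)
        ((HomologicalComplex.exactAt_iff' F (j + 2) (j + 1) j (by simp) (by simp)).1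
          (hex (j + 1) (by omega) (by omega)))
      have h0 : x.comp hS.extClass rfl = 0 := ih (j + 1) (by omega) _
      obtain ⟨y, hy⟩ := Ext.covariant_sequence_exact₃ A hS x rfl h0
      rw [← hy, hvan (j + 1) (by omega) (by omega) y, Ext.zero_comp]
  have hS := kernel_ses (F.d 1 0) (0 : F.X 0 ⟶ F.X 0) comp_zero
    ((ShortComplex.exact_iff_epi _ rfl).2 hepi)
  have h0 : (Ext.mk₀ (s ≫ inv (kernel.ι (0 : F.X 0 ⟶ F.X 0)))).comp hS.extClass (zero_add 1) = 0 :=
    hP R 0 (by omega) _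
  obtain ⟨y, hy⟩ := Ext.covariant_sequence_exact₃ A hS _ (zero_add 1) h0
  obtain ⟨t, rfl⟩ := (Ext.mk₀_bijective _ _).2 y
  rw [Ext.mk₀_comp_mk₀] at hy
  have h1 := (Ext.mk₀_bijective _ _).1 hy
  refine ⟨t, ?_⟩
  have h2 := congrArg (fun z => z ≫ kernel.ι (0 : F.X 0 ⟶ F.X 0)) h1
  simpa using h2

end Groth.Agent.Lib.ExtChain_helper7
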