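import Mathlib

/-! Generic multilinear algebra for exterior powers (helper1): expansion of an alternating map on
`u + v` when all `v i` are multiples of one vector, exterior powers of semilinear maps,
projectivity of exterior powers, semilinear maps agreeing on a spanning set.
APPEND-ONLY once landed. -/

set_option autoImplicit false
universe u v w

namespace Groth.Agent.Lib.ExtDispH1

section Alt

variable {A : Type*} [CommRing A] {M N : Type*} [AddCommGroup M] [Module A M]
  [AddCommGroup N] [Module A N] {ι : Type*} [DecidableEq ι]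

lemma alt_eq_zero_of_smul (f : M [⋀^ι]→ₗ[A] N) (w : ι → M) (t : M) {i j : ι} (hij : i ≠ j)
    (hi : ∃ c : A, w i = c • t) (hj : ∃ c : A, w j = c • t) : f w = 0 := by
  obtain ⟨ci, hci⟩ := hi
  obtain ⟨cj, hcj⟩ := hj
  have h1 : f w = f (Function.update (Function.update w i (ci • t)) j (cj • t)) := by
    have e1 : Function.update w i (ci • t) = w := by rw [← hci, Function.update_eq_self]
    rw [e1, ← hcj, Function.update_eq_self]
  rw [h1, f.map_update_smul, Function.update_comm hij, f.map_update_smul]
  have h2 : f (Function.update (Function.update w j t) i t) = 0 := by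
    refine f.map_eq_zero_of_eq _ ?_ hij
    rw [Function.update_self, Function.update_of_ne hij.symm, Function.update_self]
  rw [h2, smul_zero, smul_zero]

theorem alt_add_expand [Fintype ι] (f : M [⋀^ι]→ₗ[A] N) (u v : ι → M) (t : M)
    (hv : ∀ i, ∃ c : A, v i = c • t) :
    f (u + v) = f u + ∑ j, f (Function.update u j (v j)) := by
  classical
  have h : f (u + v) = ∑ s : Finset ι, f (s.piecewise u v) :=
    f.toMultilinearMap.map_add_univ u v
  rw [h]
  set S : Finset (Finset ι) :=
    insert (Finset.univ : Finset ι) (Finset.univ.image fun j : ι => Finset.univ.erase j) with hS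
  have hvan : ∀ s ∈ (Finset.univ : Finset (Finset ι)), s ∉ S → f (s.piecewise u v) = 0 := by
    intro s _ hs
    have hs1 : s ≠ Finset.univ := fun h => hs (by rw [h, hS]; exact Finset.mem_insert_self _ _)
    obtain ⟨i, hi⟩ : ∃ i, i ∉ s := by
      by_contra hcon
      exact hs1 (Finset.eq_univ_iff_forall.2 fun i => by
        by_contra hi
        exact hcon ⟨i, hi⟩)
    have hs2 : s ≠ Finset.univ.erase i := fun h => hs (by
      rw [h, hS]
      exact Finset.mem_insert_of_mem (Finset.mem_image_of_mem _ (Finset.mem_univ i)))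
    obtain ⟨j, hji, hj⟩ : ∃ j, j ≠ i ∧ j ∉ s := by
      by_contra hcon
      apply hs2
      ext k
      rw [Finset.mem_erase]
      constructor
      · intro hk
        exact ⟨fun hki => hi (hki ▸ hk), Finset.mem_univ k⟩
      · rintro ⟨hki, -⟩
        by_contra hk
        exact hcon ⟨k, hki, hk⟩
    refine alt_eq_zero_of_smul f _ t hji.symm ?_ ?_
    · rw [Finset.piecewise_eq_of_notMem _ _ _ hi]
      exact hv i
    · rw [Finset.piecewise_eq_of_notMem _ _ _ hj]
      exact hv j
  rw [← Finset.sum_subset (Finset.subset_univ S) hvan]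
  have hnot : (Finset.univ : Finset ι) ∉ Finset.univ.image fun j : ι => Finset.univ.erase j := by
    intro hm
    obtain ⟨j, -, hj⟩ := Finset.mem_image.1 hm
    have h1 := Finset.mem_univ j
    rw [← hj] at h1
    exact Finset.notMem_erase j _ h1
  have hinj : ∀ x ∈ (Finset.univ : Finset ι), ∀ y ∈ (Finset.univ : Finset ι),
      (Finset.univ : Finset ι).erase x = Finset.univ.erase y → x = y := by
    intro x _ y _ hxy
    by_contra hne
    have h1 : x ∈ (Finset.univ : Finset ι).erase y := Finset.mem_erase.2 ⟨hne, Finset.mem_univ x⟩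
    rw [← hxy] at h1
    exact Finset.notMem_erase x _ h1
  rw [hS, Finset.sum_insert hnot, Finset.piecewise_univ, Finset.sum_image hinj]
  refine congrArg _ (Finset.sum_congr rfl fun j _ => ?_)
  rw [Finset.piecewise_erase_univ]

end Alt

lemma comp_update' {ι α β : Type*} [DecidableEq ι] (Ψ : α → β) (v : ι → α) (i : ι) (x : α) :
    (fun k => Ψ (Function.update v i x k)) = Function.update (fun k => Ψ (v k)) i (Ψ x) := by
  funext k
  by_cases h : k = i
  · subst h
    rw [Function.update_self, Function.update_self]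
  · rw [Function.update_of_ne h, Function.update_of_ne h]

section Semi

/-- a module with scalars twisted by `σ` -/
def Tw {A : Type u} [CommRing A] (_σ : A →+* A) (X : Type v) : Type v := X

variable {A : Type u} [CommRing A] (σ : A →+* A)

instance (X : Type v) [AddCommGroup X] : AddCommGroup (Tw σ X) := inferInstanceAs (AddCommGroup X)

noncomputable instance (X : Type v) [AddCommGroup X] [Module A X] : Module A (Tw σ X) :=
  Module.compHom X σ

variable {σ}
variable {M N : Type*} [AddCommGroup M] [Module A M] [AddCommGroup N] [Module A N]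


/-- the alternating map `v ↦ Ψ v₁ ∧ ⋯ ∧ Ψ v_r` with values in the twisted exterior power -/
noncomputable def semiAlt (Ψ : M →ₛₗ[σ] N) (r : ℕ) : M [⋀^Fin r]→ₗ[A] Tw σ (⋀[A]^r N) where
  toFun v := (exteriorPower.ιMulti A r (fun i => Ψ (v i)) : ⋀[A]^r N)
  map_update_add' := by
    intro _ v i x y
    show (exteriorPower.ιMulti A r (fun k => Ψ (Function.update v i (x + y) k)) : ⋀[A]^r N) =
      (exteriorPower.ιMulti A r (fun k => Ψ (Function.update v i x k)) : ⋀[A]^r N) +
        (exteriorPower.ιMulti A r (fun k => Ψ (Function.update v i y k)) : ⋀[A]^r N)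
    rw [comp_update', comp_update', comp_update', map_add, AlternatingMap.map_update_add]
  map_update_smul' := by
    intro _ v i c x
    show (exteriorPower.ιMulti A r (fun k => Ψ (Function.update v i (c • x) k)) : ⋀[A]^r N) =
      σ c • (exteriorPower.ιMulti A r (fun k => Ψ (Function.update v i x k)) : ⋀[A]^r N)
    rw [comp_update', comp_update', LinearMap.map_smulₛₗ, AlternatingMap.map_update_smul]
  map_eq_zero_of_eq' := by
    intro v i j hv hij
    show (exteriorPower.ιMulti A r (fun k => Ψ (v k)) : ⋀[A]^r N) = 0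
    exact (exteriorPower.ιMulti A r).map_eq_zero_of_eq _ (by rw [hv]) hij

/-- the exterior power of a semilinear map -/
noncomputable def semiMap (Ψ : M →ₛₗ[σ] N) (r : ℕ) : ⋀[A]^r M →ₛₗ[σ] ⋀[A]^r N where
  toFun x := (exteriorPower.alternatingMapLinearEquiv (semiAlt Ψ r) x : Tw σ (⋀[A]^r N))
  map_add' x y := (exteriorPower.alternatingMapLinearEquiv (semiAlt Ψ r)).map_add x y
  map_smul' c x := (exteriorPower.alternatingMapLinearEquiv (semiAlt Ψ r)).map_smul c x

lemma semiMap_ιMulti (Ψ : M →ₛₗ[σ] N) (r : ℕ) (v : Fin r → M) :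
    semiMap Ψ r (exteriorPower.ιMulti A r v) = exteriorPower.ιMulti A r (fun i => Ψ (v i)) :=
  exteriorPower.alternatingMapLinearEquiv_apply_ιMulti (semiAlt Ψ r) v

end Semi

section Proj

variable {A : Type u} [CommRing A] {M : Type v} [AddCommGroup M] [Module A M]

theorem projective_exteriorPower [Module.Finite A M] [Module.Projective A M] (r : ℕ) :
    Module.Projective A (⋀[A]^r M) := by
  obtain ⟨n, f, s, -, -, hfs⟩ := Module.Finite.exists_comp_eq_id_of_projective A M
  refine Module.Projective.of_split (exteriorPower.map r s) (exteriorPower.map r f) ?_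
  rw [← exteriorPower.map_comp, hfs, exteriorPower.map_id]

end Proj

section Span

variable {A : Type*} [CommRing A] {σ : A →+* A} {M X : Type*} [AddCommGroup M] [Module A M]
  [AddCommGroup X] [Module A X]

theorem semilinear_eq_of_span (Q₁ Q₂ : Submodule A M) (S : Set M)
    (h₁ : Q₁ = Submodule.span A S) (h₂ : Q₂ = Submodule.span A S)
    (f₁ : Q₁ →ₛₗ[σ] X) (f₂ : Q₂ →ₛₗ[σ] X)
    (hS : ∀ z ∈ S, ∀ (a : z ∈ Q₁) (b : z ∈ Q₂), f₁ ⟨z, a⟩ = f₂ ⟨z, b⟩) :
    ∀ (z : M) (a : z ∈ Q₁) (b : z ∈ Q₂), f₁ ⟨z, a⟩ = f₂ ⟨z, b⟩ := by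
  subst h₁
  subst h₂
  have key : ∀ z, z ∈ Submodule.span A S →
      ∀ (a b : z ∈ Submodule.span A S), f₁ ⟨z, a⟩ = f₂ ⟨z, b⟩ := by
    intro z hz
    induction hz using Submodule.span_induction with
    | mem z hz => exact fun a b => hS z hz a b
    | zero =>
      intro a b
      have e1 : (⟨0, a⟩ : Submodule.span A S) = 0 := rfl
      rw [e1, map_zero, map_zero]
    | add x y hx hy ihx ihy =>
      intro a b
      have e1 : (⟨x + y, a⟩ : Submodule.span A S) = ⟨x, hx⟩ + ⟨y, hy⟩ := rfl
      rw [e1, map_add, map_add, ihx hx hx, ihy hy hy]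
    | smul c x hx ihx =>
      intro a b
      have e1 : (⟨c • x, a⟩ : Submodule.span A S) = c • ⟨x, hx⟩ := rfl
      rw [e1, LinearMap.map_smulₛₗ, LinearMap.map_smulₛₗ, ihx hx hx]
  exact fun z a b => key z a a b

end Span

end Groth.Agent.Lib.ExtDispH1
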