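import Mathlib
import Groth.Prelude.Def_W4c1extbt610Disp
import Groth.Agent.Lib.ExtDisp1_helper1
import Groth.Agent.Lib.DispBCx2_helper1

/-! The exterior power of a 3n-display whose tangent module is free of rank one (helper1;
S13684, S13685, S13686). APPEND-ONLY once landed. -/

set_option autoImplicit false
universe u v w

namespace Groth.Agent.Lib.ExtDispH1

open W4c1extbt610 WittVector Groth.Agent.Lib.DispNormal Groth.Agent.Lib.DispBCx

variable {p : ℕ} [Fact p.Prime] {R : Type u} [CommRing R]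

section DivV

variable {M : Type*} [AddCommGroup M] [Module (WittVector p R) M]
  {M' : Type*} [AddCommGroup M'] [Module (WittVector p R) M']
  {n : ℕ} (fr : (Fin n → WittVector p R) →ₗ[WittVector p R] M)
  (sr : M →ₗ[WittVector p R] (Fin n → WittVector p R))
  (Λ : M →ₛₗ[(frobenius : WittVector p R →+* WittVector p R)] M')

/-- `z = Σ V(u_i) m_i ↦ Σ u_i Λ(m_i)`, as a function on the whole module -/
noncomputable def divVFun (z : M) : M' := ∑ i, (sr z i).shift 1 • Λ (fr (bv i))

lemma sr_mem_IV' {z : M} (hz : z ∈ IV p R • (⊤ : Submodule (WittVector p R) M)) (i : Fin n) :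
    sr z i ∈ IV p R := by
  refine Submodule.smul_induction_on hz (fun a ha t _ => ?_) (fun x y hx hy => ?_)
  · rw [map_smul, Pi.smul_apply, smul_eq_mul]
    exact Ideal.mul_mem_right _ _ ha
  · rw [map_add, Pi.add_apply]
    exact Ideal.add_mem _ hx hy

lemma divVFun_add {z z' : M} (hz : z ∈ IV p R • (⊤ : Submodule (WittVector p R) M))
    (hz' : z' ∈ IV p R • (⊤ : Submodule (WittVector p R) M)) :
    divVFun fr sr Λ (z + z') = divVFun fr sr Λ z + divVFun fr sr Λ z' := by
  unfold divVFun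
  rw [← Finset.sum_add_distrib]
  refine Finset.sum_congr rfl fun i _ => ?_
  rw [map_add, Pi.add_apply, shift_add_of_mem (sr_mem_IV' sr hz i) (sr_mem_IV' sr hz' i),
    add_smul]

lemma divVFun_smul (c : WittVector p R) {z : M}
    (hz : z ∈ IV p R • (⊤ : Submodule (WittVector p R) M)) :
    divVFun fr sr Λ (c • z) = frobenius c • divVFun fr sr Λ z := by
  unfold divVFun
  rw [Finset.smul_sum]
  refine Finset.sum_congr rfl fun i _ => ?_
  rw [map_smul, Pi.smul_apply, smul_eq_mul, shift_mul_of_mem c (sr_mem_IV' sr hz i), mul_smul]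

lemma divVFun_verschiebung_smul (hfs : fr ∘ₗ sr = LinearMap.id) (u : WittVector p R) (m : M) :
    divVFun fr sr Λ (verschiebung u • m) = u • Λ m := by
  unfold divVFun
  have h1 : ∀ i, (sr (verschiebung u • m) i).shift 1 = u * frobenius (sr m i) := by
    intro i
    rw [map_smul, Pi.smul_apply, smul_eq_mul, ← verschiebung_mul_frobenius, shift_verschiebung]
  have h2 : Λ m = ∑ i, frobenius (sr m i) • Λ (fr (bv i)) := by
    conv_lhs => rw [eq_sum_of_comp_eq_id fr sr hfs m]
    rw [map_sum]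
    exact Finset.sum_congr rfl fun i _ => by rw [LinearMap.map_smulₛₗ]
  rw [h2, Finset.smul_sum]
  refine Finset.sum_congr rfl fun i _ => ?_
  rw [h1 i, mul_smul]

/-- division by `V` on `I·M`, twisted by a semilinear map -/
noncomputable def divV :
    ↥(IV p R • (⊤ : Submodule (WittVector p R) M)) →ₛₗ[(frobenius :
      WittVector p R →+* WittVector p R)] M' where
  toFun z := divVFun fr sr Λ z.1
  map_add' z z' := divVFun_add fr sr Λ z.2 z'.2
  map_smul' c z := divVFun_smul fr sr Λ c z.2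

lemma divV_apply (z : ↥(IV p R • (⊤ : Submodule (WittVector p R) M))) :
    divV fr sr Λ z = divVFun fr sr Λ z.1 := rfl

end DivV

variable {P : Type v} [AddCommGroup P] [Module (WittVector p R) P]

/-- the span of the wedges of elements of `Q` -/
noncomputable def QE (D : Display3n p R P) (r : ℕ) :
    Submodule (WittVector p R) (⋀[WittVector p R]^r P) :=
  Submodule.span (WittVector p R)
    (Set.range fun q : Fin r → D.Q =>
      exteriorPower.ιMulti (WittVector p R) r (fun i => (q i : P)))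

/-- data for the construction of the exterior power display -/
structure XData (D : Display3n p R P) (r : ℕ) where
  N : NData D
  t₀ : P
  ht₀ : t₀ ∈ N.T
  hspan : ∀ x ∈ N.T, ∃ c : WittVector p R, x = c • t₀
  n' : ℕ
  fr' : (Fin n' → WittVector p R) →ₗ[WittVector p R] ⋀[WittVector p R]^r P
  sr' : ⋀[WittVector p R]^r P →ₗ[WittVector p R] (Fin n' → WittVector p R)
  hfs' : fr' ∘ₗ sr' = LinearMap.id

namespace XData

variable {D : Display3n p R P} {r : ℕ} (X : XData D r)

/-- `V⁻¹` on `L`, `F` on `T` -/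
noncomputable def Psi : P →ₛₗ[(frobenius : WittVector p R →+* WittVector p R)] P :=
  X.N.Vsemi + D.F.comp X.N.prT

lemma Psi_apply (x : P) :
    X.Psi x = D.Vinv ⟨X.N.prL x, X.N.prL_mem_Q x⟩ + D.F (X.N.prT x) := rfl

lemma Psi_prL (x : P) : X.Psi (X.N.prL x) = D.Vinv ⟨X.N.prL x, X.N.prL_mem_Q x⟩ := by
  rw [Psi_apply]
  have h1 : X.N.prT (X.N.prL x) = 0 := X.N.prT_of_mem_L (X.N.prL_mem x)
  have h2 : (⟨X.N.prL (X.N.prL x), X.N.prL_mem_Q _⟩ : D.Q) = ⟨X.N.prL x, X.N.prL_mem_Q x⟩ :=
    Subtype.ext (X.N.prL_prL x)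
  rw [h1, map_zero, add_zero, h2]

lemma Psi_t₀ : X.Psi X.t₀ = D.F X.t₀ := by
  rw [Psi_apply]
  have h2 : (⟨X.N.prL X.t₀, X.N.prL_mem_Q _⟩ : D.Q) = 0 :=
    Subtype.ext (X.N.prL_of_mem_T X.ht₀)
  rw [h2, map_zero, zero_add, X.N.prT_of_mem_T X.ht₀]

/-- `⋀^r Ψ` -/
noncomputable def Lam : ⋀[WittVector p R]^r P →ₛₗ[(frobenius :
    WittVector p R →+* WittVector p R)] ⋀[WittVector p R]^r P := semiMap X.Psi r

/-- the projection onto `⋀^r L` -/
noncomputable def piL : ⋀[WittVector p R]^r P →ₗ[WittVector p R] ⋀[WittVector p R]^r P :=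
  exteriorPower.map r X.N.prL

/-- the complementary projection -/
noncomputable def piT : ⋀[WittVector p R]^r P →ₗ[WittVector p R] ⋀[WittVector p R]^r P :=
  LinearMap.id - X.piL

lemma piL_ιMulti (v : Fin r → P) :
    X.piL (exteriorPower.ιMulti (WittVector p R) r v) =
      exteriorPower.ιMulti (WittVector p R) r (fun i => X.N.prL (v i)) := by
  rw [piL, exteriorPower.map_apply_ιMulti]
  rfl

lemma piL_idem : X.piL ∘ₗ X.piL = X.piL := by
  unfold piL
  rw [← exteriorPower.map_comp]
  congr 1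
  exact LinearMap.ext fun x => X.N.prL_prL x

lemma piL_piL (z : ⋀[WittVector p R]^r P) : X.piL (X.piL z) = X.piL z :=
  LinearMap.congr_fun X.piL_idem z

lemma piT_apply (z : ⋀[WittVector p R]^r P) : X.piT z = z - X.piL z := rfl

lemma piL_add_piT (z : ⋀[WittVector p R]^r P) : X.piL z + X.piT z = z := by
  rw [piT_apply]; abel

lemma piT_of_ker {z : ⋀[WittVector p R]^r P} (hz : X.piL z = 0) : X.piT z = z := by
  rw [piT_apply, hz, sub_zero]

lemma isCompl : IsCompl (LinearMap.range X.piL) (LinearMap.ker X.piL) :=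
  LinearMap.IsIdempotentElem.isCompl X.piL_idem

lemma prT_smul (x : P) : ∃ c : WittVector p R, X.N.prT x = c • X.t₀ :=
  X.hspan _ (X.N.prT_mem x)

lemma ιMulti_expand (v : Fin r → P) :
    exteriorPower.ιMulti (WittVector p R) r v =
      exteriorPower.ιMulti (WittVector p R) r (fun i => X.N.prL (v i)) +
        ∑ j, exteriorPower.ιMulti (WittVector p R) r
          (Function.update (fun i => X.N.prL (v i)) j (X.N.prT (v j))) := by
  have h := alt_add_expand (exteriorPower.ιMulti (WittVector p R) r)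
    (fun i => X.N.prL (v i)) (fun i => X.N.prT (v i)) X.t₀ (fun i => X.prT_smul (v i))
  have e : (fun i => X.N.prL (v i)) + (fun i => X.N.prT (v i)) = v :=
    funext fun i => X.N.prL_add_prT (v i)
  rw [e] at h
  exact h

lemma piT_ιMulti (v : Fin r → P) :
    X.piT (exteriorPower.ιMulti (WittVector p R) r v) =
      ∑ j, exteriorPower.ιMulti (WittVector p R) r
        (Function.update (fun i => X.N.prL (v i)) j (X.N.prT (v j))) := by
  rw [piT_apply, piL_ιMulti]
  have h := X.ιMulti_expand v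
  rw [sub_eq_iff_eq_add, add_comm]
  exact h

lemma ιMulti_update_t₀_mem_ker (w : Fin r → P) (j : Fin r) :
    exteriorPower.ιMulti (WittVector p R) r (Function.update w j X.t₀) ∈
      LinearMap.ker X.piL := by
  rw [LinearMap.mem_ker, piL_ιMulti]
  refine (exteriorPower.ιMulti (WittVector p R) r).map_coord_zero j ?_
  show X.N.prL (Function.update w j X.t₀ j) = 0
  rw [Function.update_self]
  exact X.N.prL_of_mem_T X.ht₀

lemma exists_of_mem_IT {x : P} (hx : x ∈ IV p R • X.N.T) :
    ∃ u : WittVector p R, x = verschiebung u • X.t₀ := by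
  refine Submodule.smul_induction_on hx (fun a ha t ht => ?_) (fun x y hx hy => ?_)
  · obtain ⟨c, hc⟩ := X.hspan t ht
    obtain ⟨u, hu⟩ := exists_eq_verschiebung_of_mem_IV a ha
    refine ⟨u * frobenius c, ?_⟩
    rw [verschiebung_mul_frobenius, mul_smul, ← hc, ← hu]
  · obtain ⟨u, hu⟩ := hx
    obtain ⟨u', hu'⟩ := hy
    exact ⟨u + u', by rw [map_add, add_smul, ← hu, ← hu']⟩

lemma range_piL_le : LinearMap.range X.piL ≤ QE D r := by
  rw [LinearMap.range_eq_map, ← exteriorPower.ιMulti_span, Submodule.map_span_le]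
  rintro _ ⟨v, rfl⟩
  rw [piL_ιMulti]
  exact Submodule.subset_span ⟨fun i => ⟨X.N.prL (v i), X.N.prL_mem_Q (v i)⟩, rfl⟩

lemma smul_piT_mem {a : WittVector p R} (ha : a ∈ IV p R) (z : ⋀[WittVector p R]^r P) :
    a • X.piT z ∈ QE D r := by
  have hz : z ∈ Submodule.span (WittVector p R)
      (Set.range (exteriorPower.ιMulti (WittVector p R) r (M := P))) := by
    rw [exteriorPower.ιMulti_span]; exact Submodule.mem_top
  induction hz using Submodule.span_induction with
  | mem z hz =>
    obtain ⟨v, rfl⟩ := hz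
    rw [piT_ιMulti, Finset.smul_sum]
    refine Submodule.sum_mem _ fun j _ => ?_
    rw [← AlternatingMap.map_update_smul]
    have hmem : a • X.N.prT (v j) ∈ D.Q :=
      D.IV_smul_le (Submodule.smul_mem_smul ha Submodule.mem_top)
    refine Submodule.subset_span
      ⟨Function.update (fun i => (⟨X.N.prL (v i), X.N.prL_mem_Q (v i)⟩ : D.Q)) j
        ⟨a • X.N.prT (v j), hmem⟩, ?_⟩
    show exteriorPower.ιMulti (WittVector p R) r _ = _
    congr 1
    exact comp_update' (Subtype.val : D.Q → P) _ j _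
  | zero => rw [map_zero, smul_zero]; exact Submodule.zero_mem _
  | add x y _ _ hx hy => rw [map_add, smul_add]; exact Submodule.add_mem _ hx hy
  | smul c x _ hx => rw [map_smul, smul_comm]; exact Submodule.smul_mem _ c hx

include X in
lemma smul_top_le : IV p R • (⊤ : Submodule (WittVector p R) (⋀[WittVector p R]^r P)) ≤
    QE D r := by
  rw [Submodule.smul_le]
  intro a ha z _
  have h := X.piL_add_piT z
  rw [← h, smul_add]
  exact Submodule.add_mem _
    (Submodule.smul_mem _ a (X.range_piL_le (LinearMap.mem_range_self _ z)))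
    (X.smul_piT_mem ha z)

lemma piT_gen (q : Fin r → D.Q) : ∃ u : Fin r → WittVector p R,
    X.piT (exteriorPower.ιMulti (WittVector p R) r fun i => (q i : P)) =
      ∑ j, verschiebung (u j) • exteriorPower.ιMulti (WittVector p R) r
        (Function.update (fun i => X.N.prL (q i : P)) j X.t₀) ∧
    ∀ j, X.N.prT (q j : P) = verschiebung (u j) • X.t₀ := by
  choose u hu using fun j => X.exists_of_mem_IT (X.N.prT_mem_IT (q j).2)
  refine ⟨u, ?_, hu⟩
  rw [piT_ιMulti]
  refine Finset.sum_congr rfl fun j _ => ?_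
  rw [hu j, AlternatingMap.map_update_smul]

lemma gen_mem_sup (q : Fin r → D.Q) :
    exteriorPower.ιMulti (WittVector p R) r (fun i => (q i : P)) ∈
      LinearMap.range X.piL ⊔ IV p R • LinearMap.ker X.piL := by
  have h := X.piL_add_piT (exteriorPower.ιMulti (WittVector p R) r (fun i => (q i : P)))
  rw [← h]
  refine Submodule.add_mem_sup (LinearMap.mem_range_self _ _) ?_
  obtain ⟨u, hu, -⟩ := X.piT_gen q
  rw [hu]
  refine Submodule.sum_mem _ fun j _ => ?_
  exact Submodule.smul_mem_smul (verschiebung_mem_IV p R (u j))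
    (X.ιMulti_update_t₀_mem_ker _ j)

lemma QE_eq : QE D r = LinearMap.range X.piL ⊔ IV p R • LinearMap.ker X.piL := by
  apply le_antisymm
  · refine Submodule.span_le.2 ?_
    rintro _ ⟨q, rfl⟩
    exact X.gen_mem_sup q
  · refine sup_le X.range_piL_le ?_
    rw [Submodule.smul_le]
    intro a ha z hz
    have h := X.piT_of_ker (LinearMap.mem_ker.1 hz)
    rw [← h]
    exact X.smul_piT_mem ha z

lemma piT_mem {z : ⋀[WittVector p R]^r P} (hz : z ∈ QE D r) :
    X.piT z ∈ IV p R • (⊤ : Submodule (WittVector p R) (⋀[WittVector p R]^r P)) := by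
  have hgen : ∀ q : Fin r → D.Q,
      X.piT (exteriorPower.ιMulti (WittVector p R) r fun i => (q i : P)) ∈
        IV p R • (⊤ : Submodule (WittVector p R) (⋀[WittVector p R]^r P)) := by
    intro q
    obtain ⟨u, hu, -⟩ := X.piT_gen q
    rw [hu]
    exact Submodule.sum_mem _ fun j _ =>
      Submodule.smul_mem_smul (verschiebung_mem_IV p R (u j)) Submodule.mem_top
  have hle : QE D r ≤ Submodule.comap X.piT
      (IV p R • (⊤ : Submodule (WittVector p R) (⋀[WittVector p R]^r P))) := by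
    refine Submodule.span_le.2 ?_
    rintro _ ⟨q, rfl⟩
    exact hgen q
  exact hle hz

/-- `π_T` on `Q_E`, with values in `I·⋀^r P` -/
noncomputable def tau : ↥(QE D r) →ₗ[WittVector p R]
    ↥(IV p R • (⊤ : Submodule (WittVector p R) (⋀[WittVector p R]^r P))) :=
  LinearMap.codRestrict _ (X.piT ∘ₗ (QE D r).subtype) (fun z => X.piT_mem z.2)

/-- the operator `V⁻¹` of the exterior power -/
noncomputable def VinvE : ↥(QE D r) →ₛₗ[(frobenius :
    WittVector p R →+* WittVector p R)] ⋀[WittVector p R]^r P :=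
  X.Lam.comp (X.piL ∘ₗ (QE D r).subtype) + (divV X.fr' X.sr' X.Lam).comp X.tau

lemma VinvE_apply (z : QE D r) :
    X.VinvE z = X.Lam (X.piL z.1) + divVFun X.fr' X.sr' X.Lam (X.piT z.1) := rfl

/-- the operator `F` of the exterior power -/
noncomputable def FE : ⋀[WittVector p R]^r P →ₛₗ[(frobenius :
    WittVector p R →+* WittVector p R)] ⋀[WittVector p R]^r P :=
  X.Lam.comp ((p : WittVector p R) • X.piL + X.piT)

lemma FE_apply (z : ⋀[WittVector p R]^r P) :
    X.FE z = X.Lam ((p : WittVector p R) • X.piL z + X.piT z) := rfl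

lemma VinvE_verschiebung_smul (w : WittVector p R) (z : ⋀[WittVector p R]^r P)
    (h : verschiebung w • z ∈ QE D r) :
    X.VinvE ⟨verschiebung w • z, h⟩ = w • X.FE z := by
  rw [VinvE_apply, FE_apply]
  show X.Lam (X.piL (verschiebung w • z)) +
    divVFun X.fr' X.sr' X.Lam (X.piT (verschiebung w • z)) = _
  rw [X.piL.map_smul, X.piT.map_smul, divVFun_verschiebung_smul X.fr' X.sr' X.Lam X.hfs',
    LinearMap.map_smulₛₗ, frobenius_verschiebung, map_add, LinearMap.map_smulₛₗ, map_natCast,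
    smul_add, mul_smul]

lemma VinvE_gen (q : Fin r → D.Q)
    (h : exteriorPower.ιMulti (WittVector p R) r (fun i => (q i : P)) ∈ QE D r) :
    X.VinvE ⟨_, h⟩ = exteriorPower.ιMulti (WittVector p R) r (fun i => D.Vinv (q i)) := by
  obtain ⟨u, hu, hu'⟩ := X.piT_gen q
  rw [VinvE_apply]
  show X.Lam (X.piL (exteriorPower.ιMulti (WittVector p R) r (fun i => (q i : P)))) +
    divVFun X.fr' X.sr' X.Lam
      (X.piT (exteriorPower.ιMulti (WittVector p R) r (fun i => (q i : P)))) = _
  obtain ⟨Vl, hVl⟩ : ∃ Vl : Fin r → P,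
      Vl = fun i => D.Vinv ⟨X.N.prL (q i : P), X.N.prL_mem_Q _⟩ := ⟨_, rfl⟩
  have h1 : X.Lam (X.piL (exteriorPower.ιMulti (WittVector p R) r fun i => (q i : P))) =
      exteriorPower.ιMulti (WittVector p R) r Vl := by
    rw [piL_ιMulti, Lam, semiMap_ιMulti, hVl]
    congr 1
    funext i
    exact X.Psi_prL (q i : P)
  have h4 : ∀ j, X.Lam (exteriorPower.ιMulti (WittVector p R) r
      (Function.update (fun i => X.N.prL (q i : P)) j X.t₀)) =
      exteriorPower.ιMulti (WittVector p R) r (Function.update Vl j (D.F X.t₀)) := by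
    intro j
    rw [Lam, semiMap_ιMulti, comp_update' (fun y => X.Psi y), X.Psi_t₀, hVl]
    congr 2
    funext i
    exact X.Psi_prL (q i : P)
  have h2 : divVFun X.fr' X.sr' X.Lam
      (X.piT (exteriorPower.ιMulti (WittVector p R) r fun i => (q i : P))) =
      ∑ j, u j • exteriorPower.ιMulti (WittVector p R) r
        (Function.update Vl j (D.F X.t₀)) := by
    rw [hu]
    have hmem : ∀ j, verschiebung (u j) • exteriorPower.ιMulti (WittVector p R) r
        (Function.update (fun i => X.N.prL (q i : P)) j X.t₀) ∈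
        IV p R • (⊤ : Submodule (WittVector p R) (⋀[WittVector p R]^r P)) := fun j =>
      Submodule.smul_mem_smul (verschiebung_mem_IV p R (u j)) Submodule.mem_top
    have h3 := map_sum (divV X.fr' X.sr' X.Lam)
      (fun j => (⟨_, hmem j⟩ :
        ↥(IV p R • (⊤ : Submodule (WittVector p R) (⋀[WittVector p R]^r P)))))
      Finset.univ
    rw [divV_apply, Submodule.coe_sum] at h3
    refine h3.trans (Finset.sum_congr rfl fun j _ => ?_)
    rw [divV_apply]
    show divVFun X.fr' X.sr' X.Lam (verschiebung (u j) • _) = _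
    rw [divVFun_verschiebung_smul X.fr' X.sr' X.Lam X.hfs', h4 j]
  have e3 : (fun i => D.Vinv (q i)) = Vl + fun i => u i • D.F X.t₀ := by
    funext i
    have hm : verschiebung (u i) • X.t₀ ∈ D.Q :=
      D.IV_smul_le (Submodule.smul_mem_smul (verschiebung_mem_IV p R (u i)) Submodule.mem_top)
    have hq : q i = ⟨X.N.prL (q i : P), X.N.prL_mem_Q _⟩ + ⟨verschiebung (u i) • X.t₀, hm⟩ := by
      apply Subtype.ext
      show (q i : P) = X.N.prL (q i : P) + verschiebung (u i) • X.t₀
      rw [← hu' i, X.N.prL_add_prT]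
    have hq' : D.Vinv (q i) = D.Vinv (⟨X.N.prL (q i : P), X.N.prL_mem_Q _⟩ +
        ⟨verschiebung (u i) • X.t₀, hm⟩) := congrArg D.Vinv hq
    rw [hq', map_add, D.Vinv_verschiebung_smul, hVl]
    rfl
  rw [h1, h2, e3, alt_add_expand (exteriorPower.ιMulti (WittVector p R) r) Vl
    (fun i => u i • D.F X.t₀) (D.F X.t₀) (fun i => ⟨u i, rfl⟩)]
  congr 1
  refine Finset.sum_congr rfl fun j _ => ?_
  rw [AlternatingMap.map_update_smul]

lemma span_range_VinvE :
    Submodule.span (WittVector p R) (Set.range X.VinvE) = ⊤ := by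
  rw [eq_top_iff, ← exteriorPower.ιMulti_span_of_span (WittVector p R) r P D.span_range_Vinv]
  refine Submodule.span_mono ?_
  rintro _ ⟨v, hv, rfl⟩
  have hv' : ∀ i, ∃ q : D.Q, D.Vinv q = v i := fun i => hv (Set.mem_range_self i)
  choose q hq using hv'
  have hmem : exteriorPower.ιMulti (WittVector p R) r (fun i => (q i : P)) ∈ QE D r :=
    Submodule.subset_span ⟨q, rfl⟩
  refine ⟨⟨_, hmem⟩, ?_⟩
  rw [X.VinvE_gen q hmem]
  congr 1
  funext i
  exact hq i

/-- the exterior power display -/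
noncomputable def E : Display3n p R (⋀[WittVector p R]^r P) where
  Q := QE D r
  F := X.FE
  Vinv := X.VinvE
  finite := by
    haveI := D.finite
    infer_instance
  projective := by
    haveI := D.finite
    haveI := D.projective
    exact projective_exteriorPower r
  IV_smul_le := X.smul_top_le
  exists_normal := ⟨_, _, X.isCompl, X.QE_eq⟩
  span_range_Vinv := X.span_range_VinvE
  Vinv_verschiebung_smul := fun w z => X.VinvE_verschiebung_smul w z _

theorem isExtPow_E : IsExtPow D r X.E := ⟨rfl, fun q hq => X.VinvE_gen q hq⟩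

end XData

theorem exists_XData (D : Display3n p R P) (r : ℕ)
    (L T : Submodule (WittVector p R) P) (hLT : IsCompl L T) (hQ : D.Q = L ⊔ IV p R • T)
    (e : T ≃ₗ[WittVector p R] WittVector p R) :
    ∃ X : XData D r, X.N.L = L ∧ X.N.T = T ∧ X.t₀ = (e.symm 1 : P) := by
  haveI := D.finite
  haveI := D.projective
  obtain ⟨n, fr, sr, -, -, hfs⟩ :=
    Module.Finite.exists_comp_eq_id_of_projective (WittVector p R) P
  haveI : Module.Projective (WittVector p R) (⋀[WittVector p R]^r P) :=
    projective_exteriorPower r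
  obtain ⟨n', fr', sr', -, -, hfs'⟩ :=
    Module.Finite.exists_comp_eq_id_of_projective (WittVector p R) (⋀[WittVector p R]^r P)
  refine ⟨⟨⟨L, T, hLT, hQ, n, fr, sr, hfs⟩, (e.symm 1 : P), (e.symm 1).2, ?_, n', fr', sr', hfs'⟩,
    rfl, rfl, rfl⟩
  intro x hx
  refine ⟨e ⟨x, hx⟩, ?_⟩
  have h1 : (⟨x, hx⟩ : T) = e ⟨x, hx⟩ • e.symm 1 := by
    rw [← map_smul, smul_eq_mul, mul_one, LinearEquiv.symm_apply_apply]
  exact congrArg Subtype.val h1

theorem isExtPow_unique {D : Display3n p R P} {r : ℕ}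
    (E₁ E₂ : Display3n p R (⋀[WittVector p R]^r P)) (h₁ : IsExtPow D r E₁)
    (h₂ : IsExtPow D r E₂) : E₁ = E₂ := by
  have hV : ∀ (z : ⋀[WittVector p R]^r P) (a : z ∈ E₁.Q) (b : z ∈ E₂.Q),
      E₁.Vinv ⟨z, a⟩ = E₂.Vinv ⟨z, b⟩ :=
    semilinear_eq_of_span E₁.Q E₂.Q _ h₁.1 h₂.1 E₁.Vinv E₂.Vinv (by
      rintro _ ⟨q, rfl⟩ a b
      rw [h₁.2 q a, h₂.2 q b])
  refine display3n_ext E₁ E₂ (h₁.1.trans h₂.1.symm) ?_ hV
  refine LinearMap.ext fun x => ?_
  have e1 := E₁.Vinv_verschiebung_smul 1 x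
  have e2 := E₂.Vinv_verschiebung_smul 1 x
  rw [one_smul] at e1 e2
  rw [← e1, ← e2]
  exact hV _ _ _

theorem main13684 (D : Display3n p R P)
    (hT : ∃ L T : Submodule (WittVector p R) P, IsCompl L T ∧ D.Q = L ⊔ IV p R • T ∧
      Nonempty (T ≃ₗ[WittVector p R] WittVector p R))
    (r : ℕ) :
    ∃ E : Display3n p R (⋀[WittVector p R]^r P), IsExtPow D r E ∧
      ∀ E' : Display3n p R (⋀[WittVector p R]^r P), IsExtPow D r E' → E' = E := by
  obtain ⟨L, T, hLT, hQ, ⟨e⟩⟩ := hT
  obtain ⟨X, -⟩ := exists_XData D r L T hLT hQ e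
  exact ⟨X.E, X.isExtPow_E, fun E' h' => isExtPow_unique E' X.E h' X.isExtPow_E⟩

end Groth.Agent.Lib.ExtDispH1
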