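import Mathlib
import Groth.Prelude.Def_W4c1extbt610Disp
import Groth.Agent.Lib.ExtDisp2_helper1

/-! The exterior power of a 3n-display: universal property (S13685) and rank of the tangent
module (S13686) (helper1). APPEND-ONLY once landed. -/

set_option autoImplicit false
universe u v w

namespace Groth.Agent.Lib.ExtDispH1

open W4c1extbt610 WittVector Groth.Agent.Lib.DispNormal Groth.Agent.Lib.DispBCx

variable {p : ℕ} [Fact p.Prime] {R : Type u} [CommRing R]
variable {P : Type v} [AddCommGroup P] [Module (WittVector p R) P]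

section Univ

variable {D : Display3n p R P} {r : ℕ}

theorem isAltMult_ιMulti (E : Display3n p R (⋀[WittVector p R]^r P)) (hE : IsExtPow D r E) :
    IsAltMult D E (exteriorPower.ιMulti (WittVector p R) r) := by
  have hm : ∀ q : Fin r → D.Q,
      exteriorPower.ιMulti (WittVector p R) r (fun i => (q i : P)) ∈ E.Q := by
    intro q
    rw [hE.1]
    exact Submodule.subset_span ⟨q, rfl⟩
  refine ⟨hm, fun q => hE.2 q _, ?_⟩
  intro i x q
  have hx : verschiebung (1 : WittVector p R) • x ∈ D.Q :=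
    D.IV_smul_le (Submodule.smul_mem_smul (verschiebung_mem_IV p R 1) Submodule.mem_top)
  obtain ⟨q', hq'⟩ : ∃ q' : Fin r → D.Q,
      q' = Function.update q i ⟨verschiebung (1 : WittVector p R) • x, hx⟩ := ⟨_, rfl⟩
  have e1 : (fun j => (q' j : P)) =
      Function.update (fun j => (q j : P)) i (verschiebung (1 : WittVector p R) • x) := by
    rw [hq']
    exact comp_update' (Subtype.val : D.Q → P) q i _
  have e2 : (fun j => D.Vinv (q' j)) =
      Function.update (fun j => D.Vinv (q j)) i (D.F x) := by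
    rw [hq', comp_update' (fun y => D.Vinv y) q i, D.Vinv_verschiebung_smul, one_smul]
  have e3 := hE.2 q' (hm q')
  have e4 := E.Vinv_verschiebung_smul 1
    (exteriorPower.ιMulti (WittVector p R) r (Function.update (fun j => (q j : P)) i x))
  rw [one_smul] at e4
  rw [← e4, ← e2, ← e3]
  refine congrArg E.Vinv (Subtype.ext ?_)
  show verschiebung (1 : WittVector p R) •
      exteriorPower.ιMulti (WittVector p R) r (Function.update (fun j => (q j : P)) i x) =
    exteriorPower.ιMulti (WittVector p R) r (fun j => (q' j : P))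
  rw [e1, AlternatingMap.map_update_smul]

theorem existsUnique_hom (E : Display3n p R (⋀[WittVector p R]^r P)) (hE : IsExtPow D r E)
    {P' : Type w} [AddCommGroup P'] [Module (WittVector p R) P'] (D' : Display3n p R P')
    (φ : P [⋀^Fin r]→ₗ[WittVector p R] P') (hφ : IsAltMult D D' φ) :
    ∃! ψ : ⋀[WittVector p R]^r P →ₗ[WittVector p R] P',
      IsHom E D' ψ ∧ ψ.compAlternatingMap (exteriorPower.ιMulti (WittVector p R) r) = φ := by
  obtain ⟨ψ, hψ⟩ : ∃ ψ : ⋀[WittVector p R]^r P →ₗ[WittVector p R] P',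
      ψ = exteriorPower.alternatingMapLinearEquiv φ := ⟨_, rfl⟩
  have hψι : ∀ v, ψ (exteriorPower.ιMulti (WittVector p R) r v) = φ v := fun v => by
    rw [hψ]
    exact exteriorPower.alternatingMapLinearEquiv_apply_ιMulti φ v
  have hcomp : ψ.compAlternatingMap (exteriorPower.ιMulti (WittVector p R) r) = φ := by
    rw [hψ]
    exact exteriorPower.alternatingMapLinearEquiv_comp_ιMulti φ
  have hmaps : ∀ z ∈ E.Q, ψ z ∈ D'.Q := by
    have hle : E.Q ≤ Submodule.comap ψ D'.Q := by
      rw [hE.1]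
      refine Submodule.span_le.2 ?_
      rintro _ ⟨q, rfl⟩
      show ψ (exteriorPower.ιMulti (WittVector p R) r fun i => (q i : P)) ∈ D'.Q
      rw [hψι]
      exact hφ.mapsTo q
    exact fun z hz => hle hz
  obtain ⟨f₁, hf₁⟩ : ∃ f₁ : ↥E.Q →ₛₗ[(frobenius : WittVector p R →+* WittVector p R)] P',
      f₁ = ψ.comp E.Vinv := ⟨_, rfl⟩
  obtain ⟨f₂, hf₂⟩ : ∃ f₂ : ↥E.Q →ₛₗ[(frobenius : WittVector p R →+* WittVector p R)] P',
      f₂ = D'.Vinv.comp (ψ.restrict hmaps) := ⟨_, rfl⟩
  have hV : ∀ (z : ⋀[WittVector p R]^r P) (a : z ∈ E.Q) (b : z ∈ E.Q),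
      ψ (E.Vinv ⟨z, a⟩) = D'.Vinv ⟨ψ z, hmaps z b⟩ := by
    have h := semilinear_eq_of_span E.Q E.Q _ hE.1 hE.1 f₁ f₂ (by
      rintro _ ⟨q, rfl⟩ a b
      rw [hf₁, hf₂]
      show ψ (E.Vinv ⟨exteriorPower.ιMulti (WittVector p R) r (fun i => (q i : P)), a⟩) =
        D'.Vinv ⟨ψ (exteriorPower.ιMulti (WittVector p R) r (fun i => (q i : P))), hmaps _ b⟩
      rw [hE.2 q a, hψι, ← hφ.vCond q]
      exact congrArg D'.Vinv (Subtype.ext (hψι _).symm))
    intro z a b
    have h' := h z a b
    rw [hf₁, hf₂] at h'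
    exact h'
  have hF : ∀ x, ψ (E.F x) = D'.F (ψ x) := by
    intro x
    have hmem : verschiebung (1 : WittVector p R) • x ∈ E.Q :=
      E.IV_smul_le (Submodule.smul_mem_smul (verschiebung_mem_IV p R 1) Submodule.mem_top)
    have e4 := E.Vinv_verschiebung_smul 1 x
    have e5 := D'.Vinv_verschiebung_smul 1 (ψ x)
    rw [one_smul] at e4 e5
    rw [← e4, ← e5]
    refine (hV _ hmem hmem).trans (congrArg D'.Vinv (Subtype.ext ?_))
    exact ψ.map_smul _ _
  refine ⟨ψ, ⟨⟨hmaps, hF, fun z => hV z.1 z.2 z.2⟩, hcomp⟩, ?_⟩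
  rintro ψ' ⟨-, h'⟩
  exact exteriorPower.linearMap_ext (h'.trans hcomp.symm)

end Univ

section Rank

lemma card_powersetCard_mem {I : Type*} [Fintype I] (i₀ : I) (k : ℕ) :
    Nat.card {s : Set.powersetCard I (k + 1) // i₀ ∈ s} = (Fintype.card I - 1).choose k := by
  classical
  let S : Finset (Finset I) := Finset.powersetCard (k + 1) (Finset.univ : Finset I)
  let e : {s : Set.powersetCard I (k + 1) // i₀ ∈ s} ≃
      {s : Finset I // s ∈ S.filter (fun s => i₀ ∈ s)} :=
    { toFun := fun x => ⟨x.1.1, by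
        rw [Finset.mem_filter, Finset.mem_powersetCard]
        exact ⟨⟨Finset.subset_univ _, x.1.2⟩, x.2⟩⟩
      invFun := fun y => ⟨⟨y.1, (Finset.mem_powersetCard.1 (Finset.mem_filter.1 y.2).1).2⟩,
        (Finset.mem_filter.1 y.2).2⟩
      left_inv := fun x => rfl
      right_inv := fun y => rfl }
  rw [Nat.card_congr e, Nat.card_eq_fintype_card, Fintype.card_coe]
  have h1 := Finset.card_filter_add_card_filter_not (s := S) (fun s => i₀ ∈ s)
  have h2 : S.filter (fun s => ¬ i₀ ∈ s) =
      Finset.powersetCard (k + 1) ((Finset.univ : Finset I).erase i₀) := by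
    ext s
    rw [Finset.mem_filter, Finset.mem_powersetCard, Finset.mem_powersetCard, Finset.subset_erase]
    tauto
  have h3 : S.card = (Fintype.card I).choose (k + 1) := by
    rw [Finset.card_powersetCard, Finset.card_univ]
  have h4 : (Finset.powersetCard (k + 1) ((Finset.univ : Finset I).erase i₀)).card =
      (Fintype.card I - 1).choose (k + 1) := by
    rw [Finset.card_powersetCard, Finset.card_erase_of_mem (Finset.mem_univ i₀), Finset.card_univ]
  have h5 : 1 ≤ Fintype.card I := Fintype.card_pos_iff.2 ⟨i₀⟩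
  obtain ⟨n, hn⟩ : ∃ n, Fintype.card I = n + 1 := ⟨Fintype.card I - 1, by omega⟩
  rw [h2, h3, h4, hn, Nat.choose_succ_succ'] at h1
  rw [hn]
  simp only [Nat.add_sub_cancel] at h1 ⊢
  omega

variable {D : Display3n p R P} {r : ℕ}

theorem ker_piL_free [Nontrivial R] (X : XData D r) {I : Type*} [LinearOrder I] [Fintype I]
    (b : Module.Basis I (WittVector p R) P) (i₀ : I) (hb₀ : b i₀ = X.t₀)
    (hbL : ∀ i, i ≠ i₀ → b i ∈ X.N.L) :
    ∃ T' : Submodule (WittVector p R) (⋀[WittVector p R]^r P),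
      T' = LinearMap.ker X.piL ∧ Module.Free (WittVector p R) T' ∧
        Module.finrank (WittVector p R) T' = Nat.card {s : Set.powersetCard I r // i₀ ∈ s} := by
  classical
  obtain ⟨B, hBdef⟩ : ∃ B : Module.Basis (Set.powersetCard I r) (WittVector p R)
      (⋀[WittVector p R]^r P), B = b.exteriorPower r := ⟨_, rfl⟩
  have hB : ∀ s, B s = exteriorPower.ιMulti (WittVector p R) r
      (fun k => b (Set.powersetCard.ofFinEmbEquiv.symm s k)) := fun s => by
    rw [hBdef, exteriorPower.basis_apply]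
    rfl
  have ha1 : ∀ s : Set.powersetCard I r, i₀ ∈ s → X.piL (B s) = 0 := by
    intro s hs
    obtain ⟨k, hk⟩ := (Set.powersetCard.mem_range_ofFinEmbEquiv_symm_iff_mem s i₀).mpr hs
    rw [hB, XData.piL_ιMulti]
    refine (exteriorPower.ιMulti (WittVector p R) r).map_coord_zero k ?_
    show X.N.prL (b (Set.powersetCard.ofFinEmbEquiv.symm s k)) = 0
    rw [hk, hb₀]
    exact X.N.prL_of_mem_T X.ht₀
  have ha2 : ∀ s : Set.powersetCard I r, i₀ ∉ s → X.piL (B s) = B s := by
    intro s hs
    rw [hB, XData.piL_ιMulti]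
    congr 1
    funext k
    refine X.N.prL_of_mem_L (hbL _ ?_)
    intro hk
    exact hs ((Set.powersetCard.mem_range_ofFinEmbEquiv_symm_iff_mem s i₀).mp ⟨k, hk⟩)
  have hli : LinearIndependent (WittVector p R)
      (fun s : {s : Set.powersetCard I r // i₀ ∈ s} => B s.1) :=
    B.linearIndependent.comp Subtype.val Subtype.val_injective
  refine ⟨Submodule.span (WittVector p R)
    (Set.range fun s : {s : Set.powersetCard I r // i₀ ∈ s} => B s.1), ?_,
    Module.Free.of_basis (Module.Basis.span hli),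
    Module.finrank_eq_nat_card_basis (Module.Basis.span hli)⟩
  apply le_antisymm
  · refine Submodule.span_le.2 ?_
    rintro _ ⟨s, rfl⟩
    exact LinearMap.mem_ker.2 (ha1 s.1 s.2)
  · intro x hxker
    have hx : X.piT (∑ s, B.repr x s • B s) = x := by
      rw [B.sum_repr x]
      exact X.piT_of_ker (LinearMap.mem_ker.1 hxker)
    rw [map_sum] at hx
    rw [← hx]
    refine Submodule.sum_mem _ fun s _ => ?_
    rw [map_smul]
    refine Submodule.smul_mem _ _ ?_
    rw [XData.piT_apply]
    by_cases hs : i₀ ∈ s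
    · rw [ha1 s hs, sub_zero]
      exact Submodule.subset_span ⟨⟨s, hs⟩, rfl⟩
    · rw [ha2 s hs, sub_self]
      exact Submodule.zero_mem _

theorem main13686 [Nontrivial R] (D : Display3n p R P) (m : ℕ)
    (L T : Submodule (WittVector p R) P) (hLT : IsCompl L T) (hQ : D.Q = L ⊔ IV p R • T)
    (hL : Module.Free (WittVector p R) L) (hLr : Module.finrank (WittVector p R) L = m)
    (hT : Nonempty (T ≃ₗ[WittVector p R] WittVector p R))
    (r : ℕ) (hr : 1 ≤ r) (E : Display3n p R (⋀[WittVector p R]^r P)) (hE : IsExtPow D r E) :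
    ∃ L' T' : Submodule (WittVector p R) (⋀[WittVector p R]^r P), IsCompl L' T' ∧
      E.Q = L' ⊔ IV p R • T' ∧ Module.Free (WittVector p R) T' ∧
      Module.finrank (WittVector p R) T' = m.choose (r - 1) := by
  classical
  obtain ⟨e⟩ := hT
  obtain ⟨X, hXL, hXT, hXt⟩ := exists_XData D r L T hLT hQ e
  haveI := D.finite
  haveI : Module.Finite (WittVector p R) L :=
    Module.Finite.of_surjective (L.projectionOnto T hLT) (Submodule.projectionOnto_surjective hLT)
  let bL := Module.Free.chooseBasis (WittVector p R) L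
  let bT : Module.Basis Unit (WittVector p R) T :=
    (Module.Basis.singleton Unit (WittVector p R)).map e.symm
  let bP : Module.Basis (Module.Free.ChooseBasisIndex (WittVector p R) L ⊕ Unit)
      (WittVector p R) P := (bL.prod bT).map (Submodule.prodEquivOfIsCompl L T hLT)
  letI : LinearOrder (Module.Free.ChooseBasisIndex (WittVector p R) L ⊕ Unit) :=
    linearOrderOfSTO WellOrderingRel
  have hb₀ : bP (Sum.inr ()) = X.t₀ := by
    rw [hXt]
    show ((bL.prod bT (Sum.inr ())).1 : P) + ((bL.prod bT (Sum.inr ())).2 : P) = _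
    rw [Module.Basis.prod_apply_inr_fst, Module.Basis.prod_apply_inr_snd]
    show ((0 : L) : P) + ((e.symm (Module.Basis.singleton Unit (WittVector p R) ()) : T) : P) = _
    rw [Module.Basis.singleton_apply, Submodule.coe_zero, zero_add]
  have hbL : ∀ i, i ≠ Sum.inr () → bP i ∈ X.N.L := by
    rintro (i | ⟨⟩) hi
    · rw [hXL]
      show ((bL.prod bT (Sum.inl i)).1 : P) + ((bL.prod bT (Sum.inl i)).2 : P) ∈ L
      rw [Module.Basis.prod_apply_inl_fst, Module.Basis.prod_apply_inl_snd, Submodule.coe_zero,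
        add_zero]
      exact (bL i).2
    · exact absurd rfl hi
  obtain ⟨T', hT', hfree, hrank⟩ := ker_piL_free X bP (Sum.inr ()) hb₀ hbL
  refine ⟨LinearMap.range X.piL, T', ?_, ?_, hfree, ?_⟩
  · rw [hT']
    exact X.isCompl
  · rw [hT', hE.1]
    exact X.QE_eq
  · obtain ⟨k, rfl⟩ : ∃ k, r = k + 1 := ⟨r - 1, by omega⟩
    rw [hrank, card_powersetCard_mem, Fintype.card_sum, Fintype.card_unit,
      ← Module.finrank_eq_card_chooseBasisIndex, hLr]
    simp

end Rank

end Groth.Agent.Lib.ExtDispH1
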