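import Mathlib

/-!
# Effaceability of `Ext` classes and comparison of `Ext` along an exact functor
-/

set_option autoImplicit false
universe w w' v v' u u'
open CategoryTheory Limits DerivedCategory Abelian

namespace Groth.Agent.Lib.ExtEfface

section Derived

variable {C : Type u} [Category.{v} C] [Abelian C] [HasDerivedCategory.{w} C]

/-- Any morphism `L[0] ⟶ M[n]` with `n ≠ 0` in the derived category is killed by precomposing with
an epimorphism `L' ⟶ L` of `C`. -/
theorem exists_epi_comp_eq_zero {L M : C} {n : ℤ} (hn : n ≠ 0)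
    (y : (singleFunctor C 0).obj L ⟶ ((singleFunctor C 0).obj M)⟦n⟧) :
    ∃ (L' : C) (p : L' ⟶ L), Epi p ∧ (singleFunctor C 0).map p ≫ y = 0 := by
  let e := (Q.commShiftIso n).app ((HomologicalComplex.single C (ComplexShape.up ℤ) 0).obj M)
  let y' : Q.obj ((HomologicalComplex.single C (ComplexShape.up ℤ) 0).obj L) ⟶
      Q.obj (((HomologicalComplex.single C (ComplexShape.up ℤ) 0).obj M)⟦n⟧) := y ≫ e.inv
  have hy : y = y' ≫ e.hom := (e.comp_inv_eq (f := y) (g := y ≫ e.inv)).1 rfl
  obtain ⟨K, hK, s, hs, g, hfac⟩ := right_fac_of_isStrictlyLE y' 0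
  have hd : ∀ k, (ComplexShape.up ℤ).Rel 0 k → 𝟙 (K.X 0) ≫ K.d 0 k = 0 := by
    intro k hk
    simp only [ComplexShape.up_Rel] at hk
    exact (K.isZero_of_isStrictlyLE 0 k (by omega)).eq_of_tgt _ _
  let σ : (HomologicalComplex.single C (ComplexShape.up ℤ) 0).obj (K.X 0) ⟶ K :=
    HomologicalComplex.mkHomFromSingle (𝟙 _) hd
  let p : K.X 0 ⟶ L := s.f 0 ≫ (HomologicalComplex.singleObjXSelf (ComplexShape.up ℤ) 0 L).hom
  have hσs : σ ≫ s = (HomologicalComplex.single C (ComplexShape.up ℤ) 0).map p := by
    apply HomologicalComplex.from_single_hom_ext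
    simp [σ, p, HomologicalComplex.single_map_f_self]
  refine ⟨K.X 0, p, ?_, ?_⟩
  · rw [Preadditive.epi_iff_cancel_zero]
    intro T t ht
    have h1 : s ≫ (HomologicalComplex.single C (ComplexShape.up ℤ) 0).map t = 0 := by
      apply HomologicalComplex.to_single_hom_ext
      rw [HomologicalComplex.comp_f, HomologicalComplex.single_map_f_self,
        HomologicalComplex.zero_f]
      have ht' : s.f 0 ≫ (HomologicalComplex.singleObjXSelf (ComplexShape.up ℤ) 0 L).hom ≫ t = 0 := by
        rw [← Category.assoc]; exact ht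
      rw [reassoc_of% ht', zero_comp]
    have h2 : Q.map ((HomologicalComplex.single C (ComplexShape.up ℤ) 0).map t) = 0 := by
      rw [← cancel_epi (Q.map s), ← Q.map_comp, h1, Q.map_zero, comp_zero]
    have h3 : (singleFunctor C 0).map t = 0 := h2
    exact (singleFunctor C 0).map_injective (by rw [h3, Functor.map_zero])
  · have hpQ : Q.map ((HomologicalComplex.single C (ComplexShape.up ℤ) 0).map p) =
        Q.map σ ≫ Q.map s := by rw [← Q.map_comp, hσs]
    have e2 : σ ≫ g = 0 := by
      apply HomologicalComplex.from_single_hom_ext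
      apply IsZero.eq_of_tgt
      exact HomologicalComplex.isZero_single_obj_X (ComplexShape.up ℤ) 0 M (0 + n) (by omega)
    have h4 : Q.map ((HomologicalComplex.single C (ComplexShape.up ℤ) 0).map p) ≫ y' = 0 := by
      rw [hpQ, hfac, Category.assoc, IsIso.hom_inv_id_assoc, ← Q.map_comp, e2, Q.map_zero]
    have h5 : Q.map ((HomologicalComplex.single C (ComplexShape.up ℤ) 0).map p) ≫
        (y' ≫ e.hom) = 0 := by
      rw [reassoc_of% h4, zero_comp]
    have h6 : (singleFunctor C 0).map p ≫ y =
        Q.map ((HomologicalComplex.single C (ComplexShape.up ℤ) 0).map p) ≫ (y' ≫ e.hom) := by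
      rw [← hy]
      rfl
    rw [h6]
    exact h5

end Derived

section Ext

variable {C : Type u} [Category.{v} C] [Abelian C] [HasExt.{w} C]

/-- `Ext` classes of positive degree are effaceable: they are killed by precomposition with an
epimorphism. -/
theorem ext_exists_epi_comp_eq_zero {L M : C} {n : ℕ} (hn : 1 ≤ n) (y : Ext.{w} L M n) :
    ∃ (L' : C) (p : L' ⟶ L), Epi p ∧ (Ext.mk₀ p).comp y (zero_add n) = 0 := by
  letI := HasDerivedCategory.standard C
  obtain ⟨L', p, hp, h⟩ := exists_epi_comp_eq_zero (C := C) (n := (n : ℤ)) (by omega) y.hom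
  refine ⟨L', p, hp, ?_⟩
  apply Ext.ext
  rw [← Ext.singleFunctor_map_comp_hom, Ext.zero_hom]
  exact h

end Ext

section Compare

variable {A : Type u} [Category.{v} A] [Abelian A] [HasExt.{w} A]
  {B : Type u'} [Category.{v'} B] [Abelian B] [HasExt.{w'} B]
  (φ : A ⥤ B) [φ.Additive] [PreservesFiniteLimits φ] [PreservesFiniteColimits φ] (M : A)

theorem compare_iff :
    (∀ (L : A) (n : ℕ), Function.Bijective
      (fun f : Abelian.Ext.{w} L M n => Abelian.Ext.mapExactFunctor φ f)) ↔
      ((∀ L : A, Function.Bijective (fun f : L ⟶ M => φ.map f)) ∧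
        ∀ (L : A) (n : ℕ), 1 ≤ n → ∀ x : Abelian.Ext.{w'} (φ.obj L) (φ.obj M) n,
          ∃ (L' : A) (p : L' ⟶ L), Epi p ∧ (Abelian.Ext.mk₀ (φ.map p)).comp x (zero_add n) = 0) := by
  constructor
  · intro h
    refine ⟨fun L => ⟨?_, ?_⟩, fun L n hn x => ?_⟩
    · intro f g hfg
      apply (Ext.mk₀_bijective L M).1
      apply (h L 0).1
      show (Ext.mk₀ f).mapExactFunctor φ = (Ext.mk₀ g).mapExactFunctor φ
      rw [Ext.mapExactFunctor_mk₀, Ext.mapExactFunctor_mk₀]
      exact congrArg Ext.mk₀ hfg
    · intro g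
      obtain ⟨x, hx⟩ := (h L 0).2 (Ext.mk₀ g)
      obtain ⟨f, rfl⟩ := (Ext.mk₀_bijective L M).2 x
      refine ⟨f, ?_⟩
      apply (Ext.mk₀_bijective _ _).1
      rw [← Ext.mapExactFunctor_mk₀]
      exact hx
    · obtain ⟨y, rfl⟩ := (h L n).2 x
      obtain ⟨L', p, hp, hpy⟩ := ext_exists_epi_comp_eq_zero hn y
      refine ⟨L', p, hp, ?_⟩
      show (Ext.mk₀ (φ.map p)).comp (y.mapExactFunctor φ) (zero_add n) = 0
      rw [← Ext.mapExactFunctor_mk₀, ← Ext.mapExactFunctor_comp, hpy, Ext.mapExactFunctor_zero]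
  · rintro ⟨ha, hb⟩
    intro L n
    induction n generalizing L with
    | zero =>
      constructor
      · intro x₁ x₂ h12
        obtain ⟨f₁, rfl⟩ := (Ext.mk₀_bijective L M).2 x₁
        obtain ⟨f₂, rfl⟩ := (Ext.mk₀_bijective L M).2 x₂
        have h12' : (Ext.mk₀ f₁).mapExactFunctor φ = (Ext.mk₀ f₂).mapExactFunctor φ := h12
        rw [Ext.mapExactFunctor_mk₀, Ext.mapExactFunctor_mk₀] at h12'
        have := (Ext.mk₀_bijective _ _).1 h12'
        rw [(ha L).1 this]
      · intro x
        obtain ⟨g, rfl⟩ := (Ext.mk₀_bijective _ _).2 x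
        obtain ⟨f, rfl⟩ := (ha L).2 g
        exact ⟨Ext.mk₀ f, Ext.mapExactFunctor_mk₀ φ f⟩
    | succ n ih =>
      constructor
      · -- injectivity
        have key : ∀ y : Abelian.Ext.{w} L M (n + 1), y.mapExactFunctor φ = 0 → y = 0 := by
          intro y hy
          obtain ⟨L', p, hp, hpy⟩ := ext_exists_epi_comp_eq_zero (Nat.succ_le_succ (Nat.zero_le n)) y
          have hS : (ShortComplex.mk (kernel.ι p) p (kernel.condition p)).ShortExact :=
            ShortComplex.ShortExact.mk' (ShortComplex.exact_of_f_is_kernel _ (kernelIsKernel p))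
              inferInstance hp
          obtain ⟨(z : Abelian.Ext.{w} (kernel p) M n), hz⟩ :=
            Ext.contravariant_sequence_exact₃ hS M y hpy (add_comm 1 n)
          have hz' : (hS.map_of_exact φ).extClass.comp (z.mapExactFunctor φ) (add_comm 1 n) = 0 := by
            have e1 : (hS.extClass.comp z (add_comm 1 n)).mapExactFunctor φ =
                (hS.extClass.mapExactFunctor φ).comp (z.mapExactFunctor φ) (add_comm 1 n) :=
              Ext.mapExactFunctor_comp φ _ _ _
            rw [hz, hy, Ext.mapExactFunctor_extClass] at e1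
            exact e1.symm
          obtain ⟨(w : Abelian.Ext.{w'} (φ.obj L') (φ.obj M) n), hw⟩ :=
            Ext.contravariant_sequence_exact₁ (hS.map_of_exact φ) (φ.obj M)
            (z.mapExactFunctor φ) (add_comm 1 n) hz'
          change (Ext.mk₀ (φ.map (kernel.ι p))).comp w (zero_add n) = z.mapExactFunctor φ at hw
          obtain ⟨w', rfl⟩ := (ih L').2 w
          have hz2 : z = (Ext.mk₀ (kernel.ι p)).comp w' (zero_add n) := by
            apply (ih (kernel p)).1
            show z.mapExactFunctor φ = ((Ext.mk₀ (kernel.ι p)).comp w' (zero_add n)).mapExactFunctor φ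
            rw [Ext.mapExactFunctor_comp, Ext.mapExactFunctor_mk₀]
            exact hw.symm
          rw [← hz, hz2]
          exact hS.extClass_comp_assoc w'
        intro y₁ y₂ h12
        have h0 : (y₁ - y₂).mapExactFunctor φ = 0 := by
          have := (φ.mapExtAddHom L M (n + 1)).map_sub y₁ y₂
          rw [Functor.mapExtAddHom_apply, Functor.mapExtAddHom_apply, Functor.mapExtAddHom_apply] at this
          rw [this]
          exact sub_eq_zero.2 h12
        exact sub_eq_zero.1 (key _ h0)
      · -- surjectivity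
        intro x
        obtain ⟨L', p, hp, hpx⟩ := hb L (n + 1) (Nat.succ_le_succ (Nat.zero_le n)) x
        have hS : (ShortComplex.mk (kernel.ι p) p (kernel.condition p)).ShortExact :=
          ShortComplex.ShortExact.mk' (ShortComplex.exact_of_f_is_kernel _ (kernelIsKernel p))
            inferInstance hp
        obtain ⟨(z : Abelian.Ext.{w'} (φ.obj (kernel p)) (φ.obj M) n), hz⟩ :=
          Ext.contravariant_sequence_exact₃ (hS.map_of_exact φ) (φ.obj M) x hpx (add_comm 1 n)
        obtain ⟨z', rfl⟩ := (ih (kernel p)).2 z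
        refine ⟨hS.extClass.comp z' (add_comm 1 n), ?_⟩
        show (hS.extClass.comp z' (add_comm 1 n)).mapExactFunctor φ = x
        rw [Ext.mapExactFunctor_comp, Ext.mapExactFunctor_extClass]
        exact hz

end Compare

end Groth.Agent.Lib.ExtEfface
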