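import Mathlib
import Groth.Prelude
import Groth.Agent.Lib.ModFreeExt_helper2
import Groth.Agent.Lib.ProperFin9_helper9

/-!
# `Ext^n_{O_X}(O_X, M)` versus `H^n(X, M)`: a natural, linear, injective comparison (helper3)

For a scheme `X` over `Spec A` we construct the comparison map
`Ψ : Ext^n_{O_X}(O_X, M) → H^n(X, M) = Coh.HH X M n` (apply the exact forgetful functor to abelian
sheaves and precompose with `ℤ_X → O_X`), show that it is natural, compatible with connecting
morphisms, `A`-linear and injective.  Consequently, for `X` proper over a Noetherian ring `A` and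
`M` coherent, `Ext^n(O_X, M)` is a finite `A`-module.
APPEND-ONLY once landed.
-/

set_option autoImplicit false
set_option linter.all false
set_option maxHeartbeats 1600000
set_option backward.isDefEq.respectTransparency false
set_option backward.isDefEq.respectTransparency.types false
set_option backward.defeqAttrib.useBackward true

universe u
open CategoryTheory CategoryTheory.Limits AlgebraicGeometry TopologicalSpace Opposite Abelian

namespace Groth.Agent.Lib.ExtHHH3

open Groth.Agent.Lib.ModFree Groth.Agent.Lib.FunctorialInjective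

noncomputable section

variable (X : Scheme.{u})

/-- the forgetful functor to abelian sheaves -/
abbrev T : X.Modules ⥤ Sheaf (Opens.grothendieckTopology X) AddCommGrpCat.{u} :=
  SheafOfModules.toSheaf X.ringCatSheaf

instance isGA : IsGrothendieckAbelian.{u} X.Modules :=
  isGrothendieckAbelian_sheafOfModules (Opens.grothendieckTopology X) X.ringCatSheaf

instance pfl : PreservesFiniteLimits (T X) := inferInstance

instance pfc : PreservesFiniteColimits (T X) := by
  haveI := Groth.Agent.Lib.ModSiteH8.toSheaf_preservesColimitsOfSize X.ringCatSheaf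
  exact ⟨fun _ _ _ => inferInstance⟩

/-- the constant sheaf `ℤ` -/
abbrev ZZ : Sheaf (Opens.grothendieckTopology X) AddCommGrpCat.{u} :=
  cZ (Opens.grothendieckTopology X)

/-- the structure sheaf as a module -/
abbrev OO : X.Modules := SheafOfModules.unit X.ringCatSheaf

/-- `ℤ_X → O_X` -/
def uu : ZZ X ⟶ (T X).obj (OO X) := eΓ X.ringCatSheaf (OO X) (𝟙 _)

variable {X}

/-- the comparison map -/
def Psi (M : X.Modules) (n : ℕ) (x : Ext (OO X) M n) : Coh.HH X M n :=
  (Ext.mk₀ (uu X)).comp (x.mapExactFunctor (T X)) (zero_add n)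

theorem Psi_add (M : X.Modules) (n : ℕ) (x y : Ext (OO X) M n) :
    Psi M n (x + y) = Psi M n x + Psi M n y := by
  unfold Psi
  rw [Ext.mapExactFunctor_add, Ext.comp_add]

theorem Psi_zero (M : X.Modules) (n : ℕ) : Psi M n 0 = 0 := by
  unfold Psi
  rw [Ext.mapExactFunctor_zero, Ext.comp_zero]

/-- naturality -/
theorem Psi_comp_mk₀ {M N : X.Modules} (n : ℕ) (x : Ext (OO X) M n) (φ : M ⟶ N) :
    Psi N n (x.comp (Ext.mk₀ φ) (add_zero n)) =
      (Psi M n x).comp (Ext.mk₀ ((T X).map φ)) (add_zero n) := by
  unfold Psi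
  rw [Ext.mapExactFunctor_comp, Ext.mapExactFunctor_mk₀, Ext.comp_assoc_of_third_deg_zero]

/-- compatibility with connecting morphisms -/
theorem Psi_comp_extClass {S : ShortComplex X.Modules} (hS : S.ShortExact) (n : ℕ)
    (x : Ext (OO X) S.X₃ n) :
    Psi S.X₁ (n + 1) (x.comp hS.extClass rfl) =
      (Psi S.X₃ n x).comp (hS.map_of_exact (T X)).extClass rfl := by
  unfold Psi
  rw [Ext.mapExactFunctor_comp, Ext.mapExactFunctor_extClass]
  exact (Ext.comp_assoc _ _ _ (zero_add n) rfl (by omega)).symm

theorem Psi_mk₀ (M : X.Modules) (g : OO X ⟶ M) :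
    Psi M 0 (Ext.mk₀ g) = Ext.mk₀ (eΓ X.ringCatSheaf M g) := by
  unfold Psi
  rw [Ext.mapExactFunctor_mk₀, Ext.mk₀_comp_mk₀]
  congr 1
  have := eΓ_comp X.ringCatSheaf (𝟙 (OO X)) g
  rw [Category.id_comp] at this
  exact this.symm

theorem Psi_zero_bijective (M : X.Modules) : Function.Bijective (Psi M 0) := by
  constructor
  · intro x y h
    obtain ⟨g, rfl⟩ := (Ext.mk₀_bijective _ _).2 x
    obtain ⟨g', rfl⟩ := (Ext.mk₀_bijective _ _).2 y
    rw [Psi_mk₀, Psi_mk₀] at h
    have h2 := (Ext.mk₀_bijective _ _).1 h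
    rw [(eΓ X.ringCatSheaf M).injective h2]
  · intro y
    obtain ⟨g, rfl⟩ := (Ext.mk₀_bijective _ _).2 y
    refine ⟨Ext.mk₀ ((eΓ X.ringCatSheaf M).symm g), ?_⟩
    rw [Psi_mk₀, Equiv.apply_symm_apply]

/-- cohomology of the underlying abelian sheaf of an injective module vanishes -/
theorem subsingleton_HH_of_injective (I : X.Modules) [Injective I] (k : ℕ) :
    Subsingleton (Coh.HH X I (k + 1)) := by
  have h := totallyAcyclic_toSheaf_of_injective X.ringCatSheaf I
    (ptSheaf (Opens.grothendieckTopology X)) k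
  exact ExtRes.subsingleton_ext_of_iso _ (L₂ptIso (Opens.grothendieckTopology X)).symm (k + 1) h

/-- the injective-hull short exact sequence -/
def sesI (M : X.Modules) : ShortComplex X.Modules :=
  ShortComplex.mk (Injective.ι M) (cokernel.π (Injective.ι M)) (cokernel.condition _)

theorem sesI_shortExact (M : X.Modules) : (sesI M).ShortExact :=
  { exact := ShortComplex.exact_of_g_is_cokernel _ (cokernelIsCokernel _)
    mono_f := by dsimp [sesI]; infer_instance
    epi_g := by dsimp [sesI]; infer_instance }

/-- **Injectivity of the comparison map.** -/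
theorem Psi_injective : ∀ (n : ℕ) (M : X.Modules) (x : Ext (OO X) M n), Psi M n x = 0 → x = 0 := by
  intro n
  induction n with
  | zero =>
    intro M x hx
    exact (Psi_zero_bijective M).1 (hx.trans (Psi_zero M 0).symm)
  | succ n ih =>
    intro M x hx
    have hS := sesI_shortExact M
    haveI : Injective (sesI M).X₂ := by dsimp [sesI]; infer_instance
    have hx1 : x.comp (Ext.mk₀ (sesI M).f) (add_zero (n + 1)) = 0 := Ext.eq_zero_of_injective _
    obtain ⟨y, hy⟩ := Ext.covariant_sequence_exact₁ (OO X) hS x hx1 (rfl : n + 1 = n + 1)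
    have h1 : (Psi (sesI M).X₃ n y).comp (hS.map_of_exact (T X)).extClass rfl = 0 := by
      rw [← Psi_comp_extClass hS n y]
      have : y.comp hS.extClass rfl = x := hy
      rw [this]
      exact hx
    obtain ⟨z, hz⟩ := Ext.covariant_sequence_exact₃ (ZZ X) (hS.map_of_exact (T X))
      (Psi (sesI M).X₃ n y) rfl h1
    cases n with
    | zero =>
      obtain ⟨z', rfl⟩ := (Psi_zero_bijective (sesI M).X₂).2 z
      have h2 : Psi (sesI M).X₃ 0 (z'.comp (Ext.mk₀ (sesI M).g) (add_zero 0)) =
          Psi (sesI M).X₃ 0 y := by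
        rw [Psi_comp_mk₀]
        exact hz
      have h3 := (Psi_zero_bijective (sesI M).X₃).1 h2
      rw [← hy, ← h3, Ext.comp_assoc_of_second_deg_zero, hS.comp_extClass, Ext.comp_zero]
    | succ k =>
      have hz0 : z = 0 :=
        @Subsingleton.elim _ (subsingleton_HH_of_injective (sesI M).X₂ k) z 0
      rw [hz0, Ext.zero_comp] at hz
      have hy0 : y = 0 := ih _ y hz.symm
      rw [← hy, hy0, Ext.zero_comp]

section Linear

variable (A : Type u) [CommRing A] {X : Scheme.{u}} [X.Over (Spec (CommRingCat.of A))]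

theorem T_map_smul (M : X.Modules) (a : A) :
    (T X).map (a • 𝟙 M) = Coh.smulAb M (Coh.toGlobal (X ↘ Spec (CommRingCat.of A)) a) := by
  rw [KLin.smul_id]
  rfl

theorem Psi_smul (M : X.Modules) (n : ℕ) (a : A) (x : Ext (OO X) M n) :
    Psi M n (a • x) = a • Psi M n x := by
  rw [Ext.smul_eq_comp_mk₀, Psi_comp_mk₀, T_map_smul]
  rfl

/-- the comparison map, as a linear map -/
def PsiL (M : X.Modules) (n : ℕ) : Ext (OO X) M n →ₗ[A] Coh.HH X M n where
  toFun := Psi M n
  map_add' := Psi_add M n
  map_smul' := Psi_smul A M n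

theorem PsiL_injective (M : X.Modules) (n : ℕ) : Function.Injective (PsiL A M n) := by
  rw [injective_iff_map_eq_zero]
  intro x hx
  exact Psi_injective n M x hx

/-- **`Ext^n(O_X, M)` is a finite `A`-module** for `X` proper over Noetherian `A`, `M` coherent. -/
theorem finite_ext [IsNoetherianRing A] [IsProper (X ↘ Spec (CommRingCat.of A))]
    (M : X.Modules) (hM : Coh.IsCoh M) (n : ℕ) : Module.Finite A (Ext (OO X) M n) := by
  haveI := ProperFinH9.finite_HH_of_proper A X M hM n
  haveI : IsNoetherian A (Coh.HH X M n) := isNoetherian_of_isNoetherianRing_of_finite A _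
  exact Module.Finite.of_injective (PsiL A M n) (PsiL_injective A M n)

attribute [local instance] HasDerivedCategory.standard

/-- **`Hom_{D(O_X)}(O_X, M[n])` is a finite `A`-module** for all integers `n`. -/
theorem finite_hom_single [IsNoetherianRing A] [IsProper (X ↘ Spec (CommRingCat.of A))]
    (M : X.Modules) (hM : Coh.IsCoh M) (n : ℤ) :
    Module.Finite A ((DerivedCategory.singleFunctor X.Modules 0).obj (OO X) ⟶
      ((DerivedCategory.singleFunctor X.Modules 0).obj M)⟦n⟧) := by
  by_cases hn : 0 ≤ n
  · obtain ⟨k, rfl⟩ := Int.eq_ofNat_of_zero_le hn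
    haveI := finite_ext A M hM k
    exact Module.Finite.equiv (Ext.homLinearEquiv (R := A) (X := OO X) (Y := M) (n := k))
  · haveI : Subsingleton ((DerivedCategory.singleFunctor X.Modules 0).obj (OO X) ⟶
        ((DerivedCategory.singleFunctor X.Modules 0).obj M)⟦n⟧) := by
      refine ⟨fun f g => ?_⟩
      haveI : ((DerivedCategory.singleFunctor X.Modules 0).obj (OO X)).IsLE 0 := inferInstance
      haveI : (((DerivedCategory.singleFunctor X.Modules 0).obj M)⟦n⟧).IsGE (-n) :=
        DerivedCategory.TStructure.t.isGE_shift _ 0 n (-n) (by omega)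
      exact (DerivedCategory.TStructure.t.zero f 0 (-n) (by omega)).trans
        (DerivedCategory.TStructure.t.zero g 0 (-n) (by omega)).symm
    exact Module.Finite.of_finite

end Linear

end

end Groth.Agent.Lib.ExtHHH3
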