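import Mathlib
import Groth.Prelude
import Groth.Agent.Lib.ExtInv6_helper5

/-!
# Extension of invertible modules across factorial points, VII (helper5).  APPEND-ONLY once landed.

Charts at the maximal points of the complement, and the extension theorem: on a locally Noetherian
scheme an invertible module on an open subset extends to the whole scheme when the local rings at
the points of the complement are factorial.
-/

set_option autoImplicit false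
universe u
open CategoryTheory AlgebraicGeometry TopologicalSpace Opposite IsLocalRing

noncomputable section

namespace Groth.Agent.ExtInv

open QcqsLoc GenLocH8 TensH8 Groth.Agent.PFact

/-- Every section over an empty open is a generator. -/
theorem isGen_of_forall_notMem {Z : Scheme.{u}} (M : Z.Modules) (W : Z.Opens)
    (hW : ∀ z : Z, z ∉ W) (e : Γ(M, W)) : IsGen M W e := by
  intro O hO
  have hO' : O = ⊥ := by
    apply le_antisymm _ bot_le
    intro z hz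
    exact (hW z (hO hz)).elim
  subst hO'
  have h10 : (1 : Γ(Z, ⊥)) = 0 := Subsingleton.elim _ _
  constructor
  · intro l
    refine ⟨0, ?_⟩
    rw [zero_smul, ← one_smul Γ(Z, ⊥) l, h10, zero_smul]
  · intro c _
    exact Subsingleton.elim _ _

section Near

variable (X : Scheme.{u}) [IsLocallyNoetherian X]

/-- **Local triviality near a factorial point**, general locally Noetherian scheme. -/
theorem exists_isGen_near' (U : X.Opens) (L : (U : Scheme.{u}).Modules)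
    (hL : PicF.IsInvertible L) (p : X)
    (hufd : UniqueFactorizationMonoid (X.presheaf.stalk p)) :
    ∃ O : X.Opens, p ∈ O ∧ ∃ e : Γ(L, U.ι ⁻¹ᵁ O), IsGen L (U.ι ⁻¹ᵁ O) e := by
  haveI : IsDomain (X.presheaf.stalk p) := {}
  obtain ⟨W, hW, hpW, -, hWdom, -⟩ :=
    NormH8.exists_domain_nhd (X := X) (x := p) (W₀ := ⊤) trivial
  haveI : IsAffine ((W : X.Opens) : Scheme.{u}) := hW
  haveI : Nonempty ((W : X.Opens) : Scheme.{u}) := ⟨⟨p, hpW⟩⟩
  haveI : IsDomain Γ(((W : X.Opens) : Scheme.{u}), ⊤) :=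
    MulEquiv.isDomain Γ(X, W) (W.topIso.commRingCatIsoToRingEquiv.toMulEquiv)
  haveI : IsIntegral ((W : X.Opens) : Scheme.{u}) := isIntegral_of_isAffine_of_isDomain _
  have hufd' : UniqueFactorizationMonoid
      (((W : X.Opens) : Scheme.{u}).presheaf.stalk (⟨p, hpW⟩ : ↥((W : X.Opens) : Scheme.{u}))) :=
    (stalkEquiv W.ι ⟨p, hpW⟩).toMulEquiv.uniqueFactorizationMonoid hufd
  have hL' : PicF.IsInvertible (L.restrict (W.ι ∣_ U)) := isInvertible_restrict (W.ι ∣_ U) hL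
  obtain ⟨O', hpO', e', he'⟩ := exists_isGen_near (X := ((W : X.Opens) : Scheme.{u}))
    (W.ι ⁻¹ᵁ U) (L.restrict (W.ι ∣_ U)) hL' ⟨p, hpW⟩ hufd'
  have h1 := isGen_of_restrict (W.ι ∣_ U) L e' he'
  have heq : (W.ι ∣_ U) ''ᵁ ((W.ι ⁻¹ᵁ U).ι ⁻¹ᵁ O') = U.ι ⁻¹ᵁ (W.ι ''ᵁ O') := by
    ext u
    constructor
    · rintro ⟨v, hv, rfl⟩
      refine ⟨(W.ι ⁻¹ᵁ U).ι v, hv, ?_⟩
      exact (morphismRestrict_base_coe W.ι U v).symm
    · rintro ⟨w, hw, hwu⟩
      have h2 : W.ι w = U.ι u := hwu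
      have hwU : w ∈ W.ι ⁻¹ᵁ U := by
        show W.ι w ∈ U
        rw [h2]
        exact u.2
      refine ⟨⟨w, hwU⟩, hw, ?_⟩
      apply Subtype.ext
      exact (morphismRestrict_base_coe W.ι U ⟨w, hwU⟩).trans h2
  obtain ⟨e, he⟩ := exists_isGen_of_eq L heq _ h1
  exact ⟨W.ι ''ᵁ O', ⟨⟨p, hpW⟩, hpO', rfl⟩, e, he⟩

/-- **Charts at the maximal points of the complement.** -/
theorem exists_chart (U : X.Opens) (L : (U : Scheme.{u}).Modules) (hL : PicF.IsInvertible L)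
    (z : X) (hufd : UniqueFactorizationMonoid (X.presheaf.stalk z))
    (hmax : ∀ b : X, b ∉ U → b ⤳ z → b = z) :
    ∃ N : X.Opens, z ∈ N ∧ (∀ y ∈ N, y ∉ U → z ⤳ y) ∧
      ∃ e : Γ(L, U.ι ⁻¹ᵁ N), IsGen L (U.ι ⁻¹ᵁ N) e := by
  obtain ⟨O, hzO, e, he⟩ := exists_isGen_near' X U L hL z hufd
  obtain ⟨_, ⟨W, hW : IsAffineOpen W, rfl⟩, hzW, -⟩ :=
    X.isBasis_affineOpens.exists_subset_of_mem_open (Set.mem_univ z) isOpen_univ
  have hzW' : z ∈ W := hzW
  haveI : IsNoetherianRing Γ(X, W) := IsLocallyNoetherian.component_noetherian ⟨W, hW⟩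
  haveI hWN : NoetherianSpace W := noetherianSpace_of_isAffineOpen W hW
  haveI : NoetherianSpace ((W : X.Opens) : Set X) := hWN
  haveI : QuasiSober ((W : X.Opens) : Set X) := W.isOpen.isOpenEmbedding_subtypeVal.quasiSober
  obtain ⟨B, hB⟩ : ∃ B : Set X, B = {b | b ∈ W ∧ b ∉ U ∧ ¬ z ⤳ b} := ⟨_, rfl⟩
  have hzB : z ∉ closure B := by
    apply notMem_closure_of_forall_not_specializes (W := ((W : X.Opens) : Set X))
      (G := (W : Set X) ∩ (closure {z})ᶜ) (W.isOpen.inter isClosed_closure.isOpen_compl)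
    · intro b hb
      rw [hB] at hb
      exact ⟨hb.1, fun h => hb.2.2 (specializes_iff_mem_closure.mpr h)⟩
    · intro b hb
      rw [hB] at hb
      exact hb.1
    · rintro x ⟨hxc, hxW, hxz⟩
      rw [hB]
      refine ⟨hxW, ?_, fun h => hxz (specializes_iff_mem_closure.mp h)⟩
      have hcl : closure B ⊆ ((U : Set X)ᶜ) := by
        apply closure_minimal _ U.isOpen.isClosed_compl
        intro b hb
        rw [hB] at hb
        exact hb.2.1
      exact hcl hxc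
    · exact hzW'
    · intro b hb hbz
      rw [hB] at hb
      obtain rfl := hmax b hb.2.1 hbz
      exact hb.2.2 specializes_rfl
  refine ⟨⟨(W : Set X) ∩ (closure B)ᶜ, W.isOpen.inter isClosed_closure.isOpen_compl⟩ ⊓ O,
    ⟨⟨hzW', hzB⟩, hzO⟩, ?_, _, he.res ?_⟩
  · rintro y ⟨⟨hyW, hyB⟩, -⟩ hyU
    by_contra hzy
    apply hyB
    apply subset_closure
    rw [hB]
    exact ⟨hyW, hyU, hzy⟩
  · intro w hw
    exact hw.2

end Near

section GlueGen

variable (X : Scheme.{u})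

/-- **Gluing**, relative form: the charts cover an open `U₁` containing `U`. -/
theorem exists_extension_of_charts' {U U₁ : X.Opens} (hUU₁ : U ≤ U₁)
    (L : (U : Scheme.{u}).Modules) (hL : PicF.IsInvertible L) {ι : Type u} (V : ι → X.Opens)
    (e : ∀ i, Γ(L, U.ι ⁻¹ᵁ V i)) (he : ∀ i, IsGen L (U.ι ⁻¹ᵁ V i) (e i))
    (hdisj : ∀ i j, i ≠ j → V i ⊓ V j ≤ U) (hcov : ∀ x ∈ U₁, ∃ i, x ∈ V i) :
    ∃ L₁ : (U₁ : Scheme.{u}).Modules, PicF.IsInvertible L₁ ∧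
      Nonempty (L₁.restrict (X.homOfLE hUU₁) ≅ L) := by
  haveI : IsIso (U₁.ι ∣_ U) := by
    rw [isIso_iff_isOpenImmersion_and_surjective]
    refine ⟨inferInstance, ⟨fun u => ?_⟩⟩
    refine ⟨⟨⟨u.1, hUU₁ u.2⟩, u.2⟩, ?_⟩
    apply Subtype.ext
    exact (morphismRestrict_base_coe U₁.ι U _).trans rfl
  have hgen : ∀ i, ∃ e' : Γ(L.restrict (U₁.ι ∣_ U), (U₁.ι ⁻¹ᵁ U).ι ⁻¹ᵁ (U₁.ι ⁻¹ᵁ V i)),
      IsGen (L.restrict (U₁.ι ∣_ U)) ((U₁.ι ⁻¹ᵁ U).ι ⁻¹ᵁ (U₁.ι ⁻¹ᵁ V i)) e' := by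
    intro i
    have heq : U.ι ⁻¹ᵁ V i = (U₁.ι ∣_ U) ''ᵁ ((U₁.ι ⁻¹ᵁ U).ι ⁻¹ᵁ (U₁.ι ⁻¹ᵁ V i)) := by
      ext u
      constructor
      · intro hu
        refine ⟨⟨⟨u.1, hUU₁ u.2⟩, u.2⟩, hu, ?_⟩
        apply Subtype.ext
        exact (morphismRestrict_base_coe U₁.ι U _).trans rfl
      · rintro ⟨v, hv, rfl⟩
        show ((U₁.ι ∣_ U) v).1 ∈ V i
        have h3 := morphismRestrict_base_coe U₁.ι U v
        rw [h3]
        exact hv
    obtain ⟨e₂, he₂⟩ := exists_isGen_of_eq L heq (e i) (he i)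
    exact ⟨_, isGen_restrict (U₁.ι ∣_ U) L e₂ he₂⟩
  choose e' he' using hgen
  obtain ⟨L₁, hL₁, ⟨θ⟩⟩ := exists_extension_of_charts (S := (U₁ : Scheme.{u})) (U₁.ι ⁻¹ᵁ U)
    (L.restrict (U₁.ι ∣_ U)) (fun i => U₁.ι ⁻¹ᵁ V i) e' he'
    (by
      intro i j hij w hw
      exact hdisj i j hij hw)
    (by
      intro w
      obtain ⟨i, hi⟩ := hcov w.1 w.2
      exact ⟨i, hi⟩)
  refine ⟨L₁, hL₁, ?_⟩
  have hk : (U₁.ι ∣_ U) ≫ X.homOfLE hUU₁ = (U₁.ι ⁻¹ᵁ U).ι := by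
    rw [← cancel_mono U₁.ι, Category.assoc, Scheme.homOfLE_ι, morphismRestrict_ι]
  exact nonempty_iso_of_ffInv (U₁.ι ∣_ U) (ffInv_of_isIso (U₁.ι ∣_ U))
    (isInvertible_restrict (X.homOfLE hUU₁) hL₁) hL
    (((restrictCompIso (U₁.ι ∣_ U) (X.homOfLE hUU₁) (U₁.ι ⁻¹ᵁ U).ι hk).app L₁).symm ≪≫ θ)

end GlueGen

end Groth.Agent.ExtInv
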