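import Mathlib
import Groth.Prelude
import Groth.Agent.Lib.ExtInv7_helper5

/-!
# Extension of invertible modules across factorial points, VIII (helper5).  APPEND-ONLY once landed.

The extension theorem: on a locally Noetherian scheme an invertible module on an open subset
extends to the whole scheme when the local rings at the points of the complement are factorial.
-/

set_option autoImplicit false
universe u
open CategoryTheory AlgebraicGeometry TopologicalSpace Opposite IsLocalRing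

noncomputable section

namespace Groth.Agent.ExtInv

open QcqsLoc GenLocH8 TensH8 Groth.Agent.PFact

variable (X : Scheme.{u}) [IsLocallyNoetherian X]

/-- A point all of whose proper generizations... : if `b` is a maximal point of `X` lying in an
open `W` whose scheme is integral, then every point of `W` is a specialization of `b`. -/
theorem specializes_of_isMax_of_integral (W : X.Opens) [IsIntegral ((W : X.Opens) : Scheme.{u})]
    (b : X) (hbW : b ∈ W) (hb : IsMax b) (w : X) (hw : w ∈ W) : b ⤳ w := by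
  have h1 : genericPoint ↥((W : X.Opens) : Scheme.{u}) ⤳ (⟨b, hbW⟩ : ↥((W : X.Opens) : Scheme.{u})) :=
    genericPoint_specializes _
  have h2 : genericPoint ↥((W : X.Opens) : Scheme.{u}) ⤳ (⟨w, hw⟩ : ↥((W : X.Opens) : Scheme.{u})) :=
    genericPoint_specializes _
  have h1' : W.ι (genericPoint ↥((W : X.Opens) : Scheme.{u})) ⤳ b := h1.map W.ι.continuous
  have h2' : W.ι (genericPoint ↥((W : X.Opens) : Scheme.{u})) ⤳ w := h2.map W.ι.continuous
  have h3 : b ⤳ W.ι (genericPoint ↥((W : X.Opens) : Scheme.{u})) :=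
    Scheme.le_iff_specializes.mp (hb (Scheme.le_iff_specializes.mpr h1'))
  exact h3.trans h2'

/-- **Extension of invertible modules across factorial points.** -/
theorem exists_extension (U : X.Opens) (L : (U : Scheme.{u}).Modules)
    (hL : PicF.IsInvertible L)
    (hufd : ∀ x : X, x ∉ U → UniqueFactorizationMonoid (X.presheaf.stalk x)) :
    ∃ L' : X.Modules, PicF.IsInvertible L' ∧ Nonempty (L'.restrict U.ι ≅ L) := by
  classical
  obtain ⟨I₀, hI₀⟩ : ∃ I₀ : X.Opens, (I₀ : Set X) = interior ((U : Set X)ᶜ) :=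
    ⟨⟨_, isOpen_interior⟩, rfl⟩
  have hI₀U : ∀ x ∈ I₀, x ∉ U := by
    intro x hx
    have hx' : x ∈ (I₀ : Set X) := hx
    rw [hI₀] at hx'
    exact interior_subset hx'
  have hI₀max : ∀ W : X.Opens, (∀ w ∈ W, w ∉ U) → W ≤ I₀ := by
    intro W hW w hw
    show w ∈ (I₀ : Set X)
    rw [hI₀]
    exact interior_maximal (fun w hw => hW w hw) W.isOpen hw
  obtain ⟨Z₁, hZ₁⟩ : ∃ Z₁ : Set X,
      Z₁ = {z | z ∉ U ∧ z ∉ I₀ ∧ ∀ b : X, b ∉ U → b ⤳ z → b = z} := ⟨_, rfl⟩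
  have hZ₁U : ∀ z : Z₁, z.1 ∉ U := by
    rintro ⟨z, hz⟩
    rw [hZ₁] at hz
    exact hz.1
  have hZ₁I : ∀ z : Z₁, z.1 ∉ I₀ := by
    rintro ⟨z, hz⟩
    rw [hZ₁] at hz
    exact hz.2.1
  have hZ₁max : ∀ z : Z₁, ∀ b : X, b ∉ U → b ⤳ z.1 → b = z.1 := by
    rintro ⟨z, hz⟩
    rw [hZ₁] at hz
    exact hz.2.2
  have hch : ∀ z : Z₁, ∃ N : X.Opens, z.1 ∈ N ∧ (∀ y ∈ N, y ∉ U → z.1 ⤳ y) ∧
      ∃ e : Γ(L, U.ι ⁻¹ᵁ N), IsGen L (U.ι ⁻¹ᵁ N) e :=
    fun z => exists_chart X U L hL z.1 (hufd _ (hZ₁U z)) (hZ₁max z)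
  choose N hzN hNb eN heN using hch
  have hUch : ∀ x : ↥(U : Scheme.{u}), ∃ W : (U : Scheme.{u}).Opens, x ∈ W ∧
      ∃ e : Γ(L, W), IsGen L W e := by
    intro x
    obtain ⟨W, -, hxW, e, he⟩ := exists_isGen hL x
    exact ⟨W, hxW, e, he⟩
  choose WU hxWU eU heU using hUch
  -- the charts
  let V : Option (↥(U : Scheme.{u}) ⊕ Z₁) → X.Opens := fun i =>
    match i with
    | none => I₀
    | some (Sum.inl x) => U.ι ''ᵁ WU x
    | some (Sum.inr z) => N z
  have hgen : ∀ i, ∃ e : Γ(L, U.ι ⁻¹ᵁ V i), IsGen L (U.ι ⁻¹ᵁ V i) e := by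
    rintro (_ | x | z)
    · exact ⟨0, isGen_of_forall_notMem L _ (fun u hu => hI₀U _ hu u.2) _⟩
    · have hle : U.ι ⁻¹ᵁ (U.ι ''ᵁ WU x) ≤ WU x := by
        rw [Scheme.Hom.preimage_image_eq]
      exact ⟨_, (heU x).res hle⟩
    · exact ⟨eN z, heN z⟩
  choose e he using hgen
  have hVU : ∀ x : ↥(U : Scheme.{u}), V (some (Sum.inl x)) ≤ U := by
    rintro x _ ⟨w, -, rfl⟩
    exact w.2
  have hIN : ∀ z : Z₁, ∀ y : X, y ∈ I₀ → y ∈ N z → False := by
    intro z y hyI hyN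
    have h1 : z.1 ⤳ y := hNb z y hyN (hI₀U y hyI)
    exact hZ₁I z (h1.mem_open I₀.isOpen hyI)
  have hdisj : ∀ i j, i ≠ j → V i ⊓ V j ≤ U := by
    rintro (_ | x | z) (_ | x' | z') hij
    · exact (hij rfl).elim
    · exact inf_le_right.trans (hVU x')
    · rintro y ⟨hyI, hyN⟩
      exact (hIN z' y hyI hyN).elim
    · exact inf_le_left.trans (hVU x)
    · exact inf_le_left.trans (hVU x)
    · exact inf_le_left.trans (hVU x)
    · rintro y ⟨hyN, hyI⟩
      exact (hIN z y hyI hyN).elim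
    · exact inf_le_right.trans (hVU x')
    · rintro y ⟨hyN, hyN'⟩
      by_contra hyU
      have h1 : z'.1 ⤳ y := hNb z' y hyN' hyU
      have h2 : z'.1 ∈ N z := h1.mem_open (N z).isOpen hyN
      have h3 : z.1 ⤳ z'.1 := hNb z z'.1 h2 (hZ₁U z')
      have h4 : z.1 = z'.1 := hZ₁max z' z.1 (hZ₁U z) h3
      exact hij (by rw [Subtype.ext h4])
  obtain ⟨U₁, hU₁⟩ : ∃ U₁ : X.Opens, U₁ = ⨆ i, V i := ⟨_, rfl⟩
  have hVU₁ : ∀ i, V i ≤ U₁ := by
    intro i
    rw [hU₁]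
    exact le_iSup V i
  have hUU₁ : U ≤ U₁ := by
    intro x hx
    exact hVU₁ (some (Sum.inl ⟨x, hx⟩)) ⟨⟨x, hx⟩, hxWU _, rfl⟩
  obtain ⟨L₁, hL₁, ⟨θ⟩⟩ := exists_extension_of_charts' X hUU₁ L hL V e he hdisj
    (by
      intro x hx
      rw [hU₁] at hx
      exact Opens.mem_iSup.mp hx)
  -- the remaining closed subset
  obtain ⟨Y₁, hY₁⟩ : ∃ Y₁ : Closeds X, (Y₁ : Set X) = (U₁ : Set X)ᶜ :=
    ⟨⟨_, U₁.isOpen.isClosed_compl⟩, rfl⟩
  have hY₁mem : ∀ y : X, y ∈ Y₁ ↔ y ∉ U₁ := by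
    intro y
    have : y ∈ Y₁ ↔ y ∈ (Y₁ : Set X) := Iff.rfl
    rw [this, hY₁]
    rfl
  have hY₁U : ∀ y ∈ Y₁, y ∉ U := fun y hy h => (hY₁mem y).mp hy (hUU₁ h)
  have hnotmax : ∀ y ∈ Y₁, ∃ b : X, b ∉ U ∧ b ⤳ y ∧ b ≠ y := by
    intro y hy
    have hyU₁ := (hY₁mem y).mp hy
    have hyI : y ∉ I₀ := fun h => hyU₁ (hVU₁ none h)
    have hyZ : y ∉ Z₁ := fun h => hyU₁ (hVU₁ (some (Sum.inr ⟨y, h⟩)) (hzN ⟨y, h⟩))
    rw [hZ₁] at hyZ
    by_contra hcon
    apply hyZ
    refine ⟨hY₁U y hy, hyI, fun b hbU hby => ?_⟩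
    by_contra hne
    exact hcon ⟨b, hbU, hby, hne⟩
  have hpara : ParaF.IsParafactorialPair X Y₁ := by
    apply isParafactorialPair_of_ufd X Y₁ (fun y hy => hufd y (hY₁U y hy))
    intro y hy
    obtain ⟨b, hbU, hby, hne⟩ := hnotmax y hy
    have hlt : y < b := by
      rw [lt_iff_le_not_ge]
      refine ⟨Scheme.le_iff_specializes.mpr hby, fun h => hne ?_⟩
      exact (((Scheme.le_iff_specializes.mp h).antisymm hby).eq).symm
    constructor
    · intro h0
      rw [Order.coheight_eq_zero] at h0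
      exact hlt.not_ge (h0 hlt.le)
    · intro h1
      have h2 := Order.coheight_add_one_le hlt
      rw [h1] at h2
      have h3 : Order.coheight b = 0 := by
        have : Order.coheight b + 1 ≤ 0 + 1 := by simpa using h2
        exact le_antisymm (WithTop.add_le_add_iff_right WithTop.one_ne_top |>.mp this) zero_le
      rw [Order.coheight_eq_zero] at h3
      -- integral neighbourhood of y
      haveI := hufd y (hY₁U y hy)
      haveI : IsDomain (X.presheaf.stalk y) := {}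
      obtain ⟨W, hW, hyW, -, hWdom, -⟩ :=
        NormH8.exists_domain_nhd (X := X) (x := y) (W₀ := ⊤) trivial
      haveI : IsAffine ((W : X.Opens) : Scheme.{u}) := hW
      haveI : Nonempty ((W : X.Opens) : Scheme.{u}) := ⟨⟨y, hyW⟩⟩
      haveI : IsDomain Γ(((W : X.Opens) : Scheme.{u}), ⊤) :=
        MulEquiv.isDomain Γ(X, W) (W.topIso.commRingCatIsoToRingEquiv.toMulEquiv)
      haveI : IsIntegral ((W : X.Opens) : Scheme.{u}) := isIntegral_of_isAffine_of_isDomain _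
      have hbW : b ∈ W := hby.mem_open W.isOpen hyW
      have hWU : ∀ w ∈ W, w ∉ U := by
        intro w hw hwU
        have := specializes_of_isMax_of_integral X W b hbW h3 w hw
        exact hbU (this.mem_open U.isOpen hwU)
      have hyI : y ∈ I₀ := hI₀max W hWU hyW
      exact (hY₁mem y).mp hy (hVU₁ none hyI)
  have hA : U₁ = ⊤ ⊓ Y₁.compl := by
    ext x
    constructor
    · intro hx
      exact ⟨trivial, fun h => (hY₁mem x).mp h hx⟩
    · rintro ⟨-, hx⟩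
      by_contra hn
      exact hx ((hY₁mem x).mpr hn)
  have h1 := invRestrictEquiv_of_eq X hpara (le_top : U₁ ≤ ⊤) hA
  have h2 := invRestrictEquiv_ι_of_homOfLE X U₁ h1
  obtain ⟨L', hL', ⟨ψ⟩⟩ := h2.2 L₁ hL₁
  refine ⟨L', hL', ⟨?_⟩⟩
  exact (restrictCompIso (X.homOfLE hUU₁) U₁.ι U.ι (X.homOfLE_ι hUU₁)).app L' ≪≫
    (Scheme.Modules.restrictFunctor (X.homOfLE hUU₁)).mapIso ψ ≪≫ θ

end Groth.Agent.ExtInv
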