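import Mathlib
import Groth.Prelude
import Groth.Agent.Lib.ExtInv8_helper5

/-!
# Hartogs for normal locally Noetherian schemes and invertible modules (helper5).
APPEND-ONLY once landed.

On a locally Noetherian scheme `T`, a closed subset `Y` all of whose points are normal of
dimension at least two: functions and sections of invertible modules extend uniquely across `Y`,
and an invertible module trivial outside `Y` is trivial.
-/

set_option autoImplicit false
universe u
open CategoryTheory AlgebraicGeometry TopologicalSpace Opposite IsLocalRing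

noncomputable section

namespace Groth.Agent.ExtInv

open QcqsLoc GenLocH8 TensH8 Groth.Agent.PFact

section Normal

variable (T : Scheme.{u})

/-- transfer of bijectivity of restrictions from an open subscheme -/
theorem presheaf_map_bijective_of_restrict (W : T.Opens) (Y : Closeds T)
    (h : ∀ V' : (W : Scheme.{u}).Opens, Function.Bijective ((W : Scheme.{u}).presheaf.map
      (homOfLE (inf_le_left : V' ⊓ (ParaF.closedsIn W Y).compl ≤ V')).op))
    (V : T.Opens) (hV : V ≤ W) :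
    Function.Bijective (T.presheaf.map (homOfLE (inf_le_left : V ⊓ Y.compl ≤ V)).op) := by
  have h1 := h (W.ι ⁻¹ᵁ V)
  have h2 : Function.Bijective (T.presheaf.map (homOfLE (W.ι.image_mono
      (inf_le_left : W.ι ⁻¹ᵁ V ⊓ (ParaF.closedsIn W Y).compl ≤ W.ι ⁻¹ᵁ V))).op) := h1
  refine presheaf_map_bijective_congr T _ _ ?_ ?_ h2
  · ext x
    constructor
    · rintro ⟨w, ⟨hwV, hwY⟩, rfl⟩
      exact ⟨hwV, hwY⟩
    · rintro ⟨hxV, hxY⟩
      exact ⟨⟨x, hV hxV⟩, ⟨hxV, hxY⟩, rfl⟩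
  · ext x
    constructor
    · rintro ⟨w, hwV, rfl⟩
      exact hwV
    · intro hxV
      exact ⟨⟨x, hV hxV⟩, hxV, rfl⟩

variable [IsLocallyNoetherian T]

/-- **Hartogs** on a locally Noetherian scheme: functions extend uniquely across a closed subset
all of whose points are normal of dimension at least two. -/
theorem presheaf_map_bijective_of_normal (Y : Closeds T)
    (hd : ∀ y ∈ Y, IsDomain (T.presheaf.stalk y))
    (hn : ∀ y ∈ Y, IsIntegrallyClosed (T.presheaf.stalk y))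
    (hco : ∀ y ∈ Y, Order.coheight y ≠ 0 ∧ Order.coheight y ≠ 1) (V : T.Opens) :
    Function.Bijective (T.presheaf.map (homOfLE (inf_le_left : V ⊓ Y.compl ≤ V)).op) := by
  have hloc : ∀ x : T, ∃ W : T.Opens, x ∈ W ∧ ∀ V : T.Opens, V ≤ W →
      Function.Bijective (T.presheaf.map (homOfLE (inf_le_left : V ⊓ Y.compl ≤ V)).op) := by
    intro x
    by_cases hx : x ∈ Y
    · haveI := hd x hx
      obtain ⟨W, hW, hxW, -, hWdom, -⟩ :=
        NormH8.exists_domain_nhd (X := T) (x := x) (W₀ := ⊤) trivial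
      haveI : IsAffine ((W : T.Opens) : Scheme.{u}) := hW
      haveI : Nonempty ((W : T.Opens) : Scheme.{u}) := ⟨⟨x, hxW⟩⟩
      haveI : IsDomain Γ(((W : T.Opens) : Scheme.{u}), ⊤) :=
        MulEquiv.isDomain Γ(T, W) (W.topIso.commRingCatIsoToRingEquiv.toMulEquiv)
      haveI : IsIntegral ((W : T.Opens) : Scheme.{u}) := isIntegral_of_isAffine_of_isDomain _
      refine ⟨W, hxW, fun V hV => presheaf_map_bijective_of_restrict T W Y ?_ V hV⟩
      apply presheaf_map_bijective_of_codim_two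
      · intro w hw
        have hw' : W.ι w ∈ Y := hw
        haveI := hd (W.ι w) hw'
        haveI := hn (W.ι w) hw'
        exact IsIntegrallyClosed.of_equiv (stalkEquiv W.ι w)
      · intro w hw
        have hw' : W.ι w ∈ Y := hw
        have := hco (W.ι w) hw'
        rwa [coheight_eq_of_isOpenImmersion W.ι] at this
    · obtain ⟨U₀, hU₀⟩ : ∃ U₀ : T.Opens, U₀ = Y.compl := ⟨_, rfl⟩
      refine ⟨U₀, by rw [hU₀]; exact hx, fun V hV => ?_⟩
      apply presheaf_map_bijective_of_eq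
      apply le_antisymm inf_le_left
      intro z hz
      refine ⟨hz, ?_⟩
      have := hV hz
      rw [hU₀] at this
      exact this
  choose W hxW hW using hloc
  apply presheaf_map_bijective_of_cover T W ?_ Y (fun i V hV => hW i V hV) V
  apply top_le_iff.mp
  intro x _
  exact Opens.mem_iSup.mpr ⟨x, hxW x⟩

end Normal

section Sections

variable {T : Scheme.{u}} (Y : Closeds T)
  (hA : ∀ V : T.Opens,
    Function.Bijective (T.presheaf.map (homOfLE (inf_le_left : V ⊓ Y.compl ≤ V)).op))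
  {L : T.Modules} (hL : PicF.IsInvertible L)

include hA hL

theorem rF_injective_of_bij (V : T.Opens) :
    Function.Injective (rF L (inf_le_left : V ⊓ Y.compl ≤ V)) := by
  rw [injective_iff_map_eq_zero]
  intro s hs
  apply eq_of_cover L s 0
  intro x hx
  obtain ⟨W, -, hxW, e, he⟩ := exists_isGen hL x
  have he' := he.res (inf_le_right : V ⊓ W ≤ W)
  obtain ⟨c, hc⟩ := he'.exists_coef (rF L (inf_le_left : V ⊓ W ≤ V) s)
  refine ⟨V ⊓ W, inf_le_left, ⟨hx, hxW⟩, ?_⟩
  rw [map_zero]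
  have h1 : rF L (inf_le_left : (V ⊓ W) ⊓ Y.compl ≤ V ⊓ W) (rF L (inf_le_left : V ⊓ W ≤ V) s) = 0 := by
    rw [rF_rF, ← rF_rF L (inf_le_inf_right Y.compl inf_le_left :
      (V ⊓ W) ⊓ Y.compl ≤ V ⊓ Y.compl) (inf_le_left : V ⊓ Y.compl ≤ V) s, hs, map_zero]
  rw [hc, rF_smul] at h1
  have h2 := (he' ((V ⊓ W) ⊓ Y.compl) inf_le_left).2 _ h1
  have h3 : c = 0 := (hA (V ⊓ W)).1 (by
    show rX (inf_le_left : (V ⊓ W) ⊓ Y.compl ≤ V ⊓ W) c = rX _ 0
    rw [h2, map_zero])
  rw [hc, h3, zero_smul]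

theorem rF_bijective_of_bij (V : T.Opens) :
    Function.Bijective (rF L (inf_le_left : V ⊓ Y.compl ≤ V)) := by
  refine ⟨rF_injective_of_bij Y hA hL V, fun s' => ?_⟩
  have hloc : ∀ x : {x // x ∈ V}, ∃ (O : T.Opens) (hO : O ≤ V) (τ : Γ(L, O)), x.1 ∈ O ∧
      rF L (inf_le_left : O ⊓ Y.compl ≤ O) τ =
        rF L (inf_le_inf_right Y.compl hO : O ⊓ Y.compl ≤ V ⊓ Y.compl) s' := by
    rintro ⟨x, hx⟩
    obtain ⟨W, -, hxW, e, he⟩ := exists_isGen hL x
    have he' := he.res (inf_le_right : V ⊓ W ≤ W)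
    obtain ⟨c', hc'⟩ := (he'.res (inf_le_left : (V ⊓ W) ⊓ Y.compl ≤ V ⊓ W)).exists_coef
      (rF L (inf_le_inf_right Y.compl inf_le_left : (V ⊓ W) ⊓ Y.compl ≤ V ⊓ Y.compl) s')
    obtain ⟨c, hc⟩ := (hA (V ⊓ W)).2 c'
    have hc2 : rX (inf_le_left : (V ⊓ W) ⊓ Y.compl ≤ V ⊓ W) c = c' := hc
    refine ⟨V ⊓ W, inf_le_left, c • rF L (inf_le_right : V ⊓ W ≤ W) e, ⟨hx, hxW⟩, ?_⟩
    rw [rF_smul, hc2, hc']
  choose O hO τ hxO hτ using hloc
  have hcompat : ∀ i j, rF L (inf_le_left : O i ⊓ O j ≤ O i) (τ i) =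
      rF L (inf_le_right : O i ⊓ O j ≤ O j) (τ j) := by
    intro i j
    apply rF_injective_of_bij Y hA hL (O i ⊓ O j)
    rw [rF_rF, rF_rF,
      ← rF_rF L (inf_le_inf_right Y.compl inf_le_left : (O i ⊓ O j) ⊓ Y.compl ≤ O i ⊓ Y.compl)
        (inf_le_left : O i ⊓ Y.compl ≤ O i) (τ i),
      ← rF_rF L (inf_le_inf_right Y.compl inf_le_right : (O i ⊓ O j) ⊓ Y.compl ≤ O j ⊓ Y.compl)
        (inf_le_left : O j ⊓ Y.compl ≤ O j) (τ j), hτ i, hτ j, rF_rF, rF_rF]
  obtain ⟨t, ht⟩ := glue L O V hO (fun x hx => Opens.mem_iSup.mpr ⟨⟨x, hx⟩, hxO ⟨x, hx⟩⟩) τ hcompat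
  refine ⟨t, ?_⟩
  apply eq_of_cover L
  rintro z ⟨hzV, hzY⟩
  refine ⟨O ⟨z, hzV⟩ ⊓ Y.compl, inf_le_inf_right Y.compl (hO _), ⟨hxO ⟨z, hzV⟩, hzY⟩, ?_⟩
  rw [rF_rF, ← hτ ⟨z, hzV⟩, ← ht ⟨z, hzV⟩, rF_rF]

end Sections

theorem rF_bijective_congr {T : Scheme.{u}} (L : T.Modules) {A B A' B' : T.Opens} (h : A ≤ B)
    (h' : A' ≤ B') (hA : A = A') (hB : B = B') (hb : Function.Bijective (rF L h)) :
    Function.Bijective (rF L h') := by
  subst hA
  subst hB
  exact hb

/-- **Hartogs for invertible modules and injectivity of `Pic T → Pic U`** on a normal locally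
Noetherian scheme, `U` the complement of a closed subset of codimension at least two. -/
theorem bijective_and_trivial_of_normal (T : Scheme.{u}) [IsLocallyNoetherian T]
    (hT : ∀ x : T, IsDomain (T.presheaf.stalk x) ∧ IsIntegrallyClosed (T.presheaf.stalk x))
    (U : T.Opens) (hU : ∀ x : T, x ∉ (U : Set T) → 2 ≤ ringKrullDim (T.presheaf.stalk x))
    (L : T.Modules) (hL : PicF.IsInvertible L) :
    Function.Bijective (rF L (le_top : U ≤ ⊤)) ∧
      (Nonempty (L.restrict U.ι ≅ Coh.structureModule (U : Scheme.{u})) →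
        Nonempty (L ≅ Coh.structureModule T)) := by
  obtain ⟨Y, hY⟩ : ∃ Y : Closeds T, (Y : Set T) = (U : Set T)ᶜ :=
    ⟨⟨_, U.isOpen.isClosed_compl⟩, rfl⟩
  have hYmem : ∀ y : T, y ∈ Y ↔ y ∉ U := by
    intro y
    have : y ∈ Y ↔ y ∈ (Y : Set T) := Iff.rfl
    rw [this, hY]
    rfl
  have hUY : ∀ V : T.Opens, V ⊓ Y.compl = V ⊓ U := by
    intro V
    ext x
    constructor
    · rintro ⟨hxV, hxY⟩
      refine ⟨hxV, ?_⟩
      by_contra hn
      exact hxY ((hYmem x).mpr hn)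
    · rintro ⟨hxV, hxU⟩
      exact ⟨hxV, fun h => (hYmem x).mp h hxU⟩
  have hco : ∀ y ∈ Y, Order.coheight y ≠ 0 ∧ Order.coheight y ≠ 1 := by
    intro y hy
    have h1 := hU y ((hYmem y).mp hy)
    rw [ringKrullDim_stalk_eq_coheight] at h1
    constructor
    · intro h0
      rw [h0] at h1
      exact absurd h1 (by norm_num)
    · intro h0
      rw [h0] at h1
      exact absurd h1 (by norm_num)
  have hA := presheaf_map_bijective_of_normal T Y (fun y _ => (hT y).1) (fun y _ => (hT y).2) hco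
  constructor
  · refine rF_bijective_congr L (inf_le_left : ⊤ ⊓ Y.compl ≤ ⊤) _ ?_ rfl
      (rF_bijective_of_bij Y hA hL ⊤)
    rw [hUY, top_inf_eq]
  · rintro ⟨θ⟩
    have hb : ∀ V : T.Opens, Function.Bijective (U.ι.app V) := by
      intro V
      rw [Scheme.Opens.ι_app]
      refine presheaf_map_bijective_congr T (inf_le_left : V ⊓ Y.compl ≤ V) _ ?_ rfl (hA V)
      rw [Scheme.Hom.image_preimage_eq_opensRange_inf, Scheme.Opens.opensRange_ι, hUY, inf_comm]
    have hff : FFInv U.ι := fun M M' _ hM' =>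
      map_bijective_of_natIso (Scheme.Modules.restrictFunctorIsoPullback U.ι) M M'
        (pullback_map_bijective U.ι hb M M' (isFinLocFree_of_isInvertible hM'))
    exact nonempty_iso_of_ffInv U.ι hff hL isInvertible_structureModule
      (θ ≪≫ (Scheme.Modules.restrictUnitIso U.ι).symm)

end Groth.Agent.ExtInv
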