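import Mathlib
import Groth.Prelude.Def_DeRham
import Groth.Agent.Lib.ExtKer1_helper9
import Groth.Agent.Lib.DeRham_helper1

/-!
Descending the de Rham differential to a quotient of the Kähler differentials (helper9).
APPEND-ONLY once landed.
-/

set_option autoImplicit false
universe u

open exteriorPower

namespace Groth.Agent.ExtKer9

section Descend

variable {R A Ω' : Type u} [CommRing R] [CommRing A] [Algebra R A]
  [AddCommGroup Ω'] [Module A Ω'] [Module R Ω'] [IsScalarTower R A Ω']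
  (π : Ω[A⁄R] →ₗ[A] Ω')
  (dA : ∀ p : ℕ, ↥(⋀[A]^p (Ω[A⁄R])) →ₗ[R] ↥(⋀[A]^(p + 1) (Ω[A⁄R])))
  (hdA : DeRham.IsDiff (KaehlerDifferential.D R A) dA)

local notation "D" => KaehlerDifferential.D R A

include hdA in
/-- The key Leibniz-type identity. -/
lemma key_identity (q : ℕ) (a : A) (b : Fin q → A) (x : ↥(⋀[A]^1 (Ω[A⁄R]))) :
    exteriorPower.map (q + 2) π
        (dA (q + 1) (a • C A (Ω[A⁄R]) q (oneEquiv A (Ω[A⁄R]) x) (ιMulti A q (fun i => D (b i))))) =
      a • L A q (fun i => π (D (b i))) (exteriorPower.map 2 π (dA 1 x)) +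
        C A Ω' (q + 1) (π (D a))
          (C A Ω' q (π (oneEquiv A (Ω[A⁄R]) x)) (ιMulti A q (fun i => π (D (b i))))) := by
  induction x using Groth.Agent.Lib.DeRhamH1.kaehler_gen_induction with
  | h0 => simp
  | hadd x y hx hy =>
    simp only [map_add, LinearMap.add_apply, smul_add] at hx hy ⊢
    rw [hx, hy]
    abel
  | hgen c e =>
    have h1 : oneEquiv A (Ω[A⁄R]) (DeRham.gen D 1 c e) = c • D (e 0) := by
      unfold DeRham.gen
      rw [map_smul, oneEquiv_ιMulti]
    have h2 : a • C A (Ω[A⁄R]) q (c • D (e 0)) (ιMulti A q (fun i => D (b i))) =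
        DeRham.gen D (q + 1) (a * c) (Fin.cons (e 0) b) := by
      unfold DeRham.gen
      rw [map_smul, LinearMap.smul_apply, C_ιMulti, smul_smul,
        Groth.Agent.Lib.DeRhamH1.comp_cons]
    rw [h1, h2, hdA.1 (q + 1) (a * c) (Fin.cons (e 0) b), hdA.1 1 c e,
      Groth.Agent.Lib.DeRhamH1.comp_cons, map_apply_ιMulti, map_apply_ιMulti, L_ιMulti]
    have h3 : (⇑π ∘ (Fin.cons (D (a * c)) (Fin.cons (D (e 0)) fun i => D (b i)) :
        Fin (q + 2) → Ω[A⁄R])) =
        Fin.cons (π (D (a * c))) (Fin.cons (π (D (e 0))) fun i => π (D (b i))) := by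
      funext i
      refine Fin.cases ?_ (fun j => ?_) i
      · simp
      · refine Fin.cases ?_ (fun l => ?_) j
        · simp
        · simp
    rw [h3, ← C_ιMulti, ← C_ιMulti, ← C_ιMulti, ← C_ιMulti]
    simp only [Function.comp_apply, Fin.cons_zero, Fin.cons_one, Derivation.leibniz, map_add,
      map_smul, LinearMap.add_apply, LinearMap.smul_apply]

/-- `Z p = ⋀^(p+1) π ∘ dA p`, an `R`-linear map. -/
noncomputable def Z (p : ℕ) : ↥(⋀[A]^p (Ω[A⁄R])) →ₗ[R] ↥(⋀[A]^(p + 1) Ω') :=
  ((exteriorPower.map (p + 1) π).restrictScalars R) ∘ₗ dA p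

lemma Z_apply (p : ℕ) (x : ↥(⋀[A]^p (Ω[A⁄R]))) :
    Z π dA p x = exteriorPower.map (p + 1) π (dA p x) := rfl

/-- The special elements of the kernel. -/
def special : Set (Ω[A⁄R]) :=
  {ω | π ω = 0 ∧ exteriorPower.map 2 π (dA 1 ((oneEquiv A (Ω[A⁄R])).symm ω)) = 0}

include hdA in
lemma Z_C_special (q : ℕ) (ω : Ω[A⁄R]) (hω : ω ∈ special π dA) (y : ↥(⋀[A]^q (Ω[A⁄R]))) :
    Z π dA (q + 1) (C A (Ω[A⁄R]) q ω y) = 0 := by
  induction y using Groth.Agent.Lib.DeRhamH1.kaehler_gen_induction with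
  | h0 => simp
  | hadd x y hx hy => rw [map_add, map_add, hx, hy, add_zero]
  | hgen a b =>
    unfold DeRham.gen
    rw [map_smul, Z_apply]
    have := key_identity π dA hdA q a b ((oneEquiv A (Ω[A⁄R])).symm ω)
    rw [LinearEquiv.apply_symm_apply] at this
    rw [this, hω.2, hω.1]
    simp

/-- The submodule of those `n` with `Z (C n y) = 0` for all `y`. -/
def good (q : ℕ) : Submodule A (Ω[A⁄R]) where
  carrier := {n | ∀ y : ↥(⋀[A]^q (Ω[A⁄R])), Z π dA (q + 1) (C A (Ω[A⁄R]) q n y) = 0}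
  add_mem' := by
    intro n₁ n₂ h₁ h₂ y
    rw [map_add, LinearMap.add_apply, map_add, h₁ y, h₂ y, add_zero]
  zero_mem' := by
    intro y
    simp
  smul_mem' := by
    intro a n hn y
    rw [map_smul, LinearMap.smul_apply, ← map_smul]
    exact hn (a • y)

include hdA in
lemma ker_le_good (q : ℕ) (hker : LinearMap.ker π ≤ Submodule.span A (special π dA)) :
    LinearMap.ker π ≤ good π dA q := by
  refine hker.trans (Submodule.span_le.mpr ?_)
  intro ω hω y
  exact Z_C_special π dA hdA q ω hω y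

include hdA in
lemma K_le (q : ℕ) (hker : LinearMap.ker π ≤ Submodule.span A (special π dA))
    (x : ↥(⋀[A]^(q + 1) (Ω[A⁄R]))) (hx : x ∈ K π q) : ∀ a : A, Z π dA (q + 1) (a • x) = 0 := by
  induction hx using Submodule.span_induction with
  | mem x hx =>
    obtain ⟨m, hm, rfl⟩ := hx
    intro a
    rw [ιMulti_eq_C, ← map_smul]
    exact ker_le_good π dA hdA q hker (LinearMap.mem_ker.mpr hm) _
  | zero => intro a; simp
  | add x y _ _ hx hy => intro a; rw [smul_add, map_add, hx a, hy a, add_zero]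
  | smul c x _ hx => intro a; rw [smul_smul]; exact hx (a * c)

include hdA in
lemma ker_map_le_ker_Z (hπ : Function.Surjective π)
    (hker : LinearMap.ker π ≤ Submodule.span A (special π dA)) (p : ℕ)
    (x : ↥(⋀[A]^p (Ω[A⁄R]))) (hx : exteriorPower.map p π x = 0) : Z π dA p x = 0 := by
  cases p with
  | zero =>
    have h := LinearMap.congr_fun (zeroEquiv_naturality (R := A) π) x
    rw [LinearMap.comp_apply, hx, map_zero] at h
    have hx0 : x = 0 := by
      apply (zeroEquiv A (Ω[A⁄R])).injective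
      rw [map_zero]
      exact h.symm
    rw [hx0, map_zero]
  | succ q =>
    have := K_le π dA hdA q hker x (ker_map_le q hπ (LinearMap.mem_ker.mpr hx)) 1
    rwa [one_smul] at this

/-- Descend an `R`-linear map through a surjection. -/
lemma exists_factor {V W U : Type*} [AddCommGroup V] [Module R V] [AddCommGroup W] [Module R W]
    [AddCommGroup U] [Module R U] (P : V →ₗ[R] W) (hP : Function.Surjective P) (Zm : V →ₗ[R] U)
    (h : ∀ x, P x = 0 → Zm x = 0) : ∃ d : W →ₗ[R] U, ∀ x, d (P x) = Zm x := by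
  have hle : LinearMap.ker P ≤ LinearMap.ker Zm := fun x hx =>
    LinearMap.mem_ker.mpr (h x (LinearMap.mem_ker.mp hx))
  refine ⟨(Submodule.liftQ (LinearMap.ker P) Zm hle) ∘ₗ
    (P.quotKerEquivOfSurjective hP).symm.toLinearMap, fun x => ?_⟩
  have : (P.quotKerEquivOfSurjective hP).symm (P x) = Submodule.Quotient.mk x := by
    rw [LinearEquiv.symm_apply_eq, LinearMap.quotKerEquivOfSurjective_apply_mk]
  rw [LinearMap.comp_apply, LinearEquiv.coe_coe, this, Submodule.liftQ_apply]

include hdA in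
theorem exists_descend (hπ : Function.Surjective π)
    (hker : LinearMap.ker π ≤ Submodule.span A (special π dA)) :
    ∃ d : ∀ p : ℕ, ↥(⋀[A]^p Ω') →ₗ[R] ↥(⋀[A]^(p + 1) Ω'),
      DeRham.IsDiff (π.compDer (KaehlerDifferential.D R A)) d ∧
        ∀ (p : ℕ) (x : ↥(⋀[A]^p (Ω[A⁄R]))),
          d p (exteriorPower.map p π x) = exteriorPower.map (p + 1) π (dA p x) := by
  have hsurj : ∀ p, Function.Surjective ((exteriorPower.map p π).restrictScalars R) :=
    fun p => exteriorPower.map_surjective (n := p) hπ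
  have hex : ∀ p, ∃ d : ↥(⋀[A]^p Ω') →ₗ[R] ↥(⋀[A]^(p + 1) Ω'),
      ∀ x, d (((exteriorPower.map p π).restrictScalars R) x) = Z π dA p x :=
    fun p => exists_factor _ (hsurj p) (Z π dA p)
      (fun x hx => ker_map_le_ker_Z π dA hdA hπ hker p x hx)
  choose d hd using hex
  have hd' : ∀ (p : ℕ) (x : ↥(⋀[A]^p (Ω[A⁄R]))),
      d p (exteriorPower.map p π x) = exteriorPower.map (p + 1) π (dA p x) := fun p x => hd p x
  refine ⟨d, ⟨?_, ?_⟩, hd'⟩
  · intro p b₀ b
    have hgen : DeRham.gen (π.compDer (KaehlerDifferential.D R A)) p b₀ b =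
        exteriorPower.map p π (DeRham.gen (KaehlerDifferential.D R A) p b₀ b) := by
      unfold DeRham.gen
      rw [map_smul, map_apply_ιMulti]
      rfl
    rw [hgen, hd', hdA.1 p b₀ b, map_apply_ιMulti]
    congr 1
    funext i
    refine Fin.cases ?_ (fun j => ?_) i
    · simp
    · simp
  · intro p
    apply LinearMap.ext
    intro y
    obtain ⟨x, rfl⟩ := hsurj p y
    have h2 := LinearMap.congr_fun (hdA.2 p) x
    simp only [LinearMap.comp_apply, LinearMap.zero_apply, LinearMap.restrictScalars_apply] at h2 ⊢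
    rw [hd', hd', h2, map_zero]

end Descend

end Groth.Agent.ExtKer9
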