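import Groth.Agent.Lib.ExtKoszul_helper5

/-!
# `Ext^i_A(A/J, M) ≅ M^(p choose i)` for `J` generated by a regular sequence of length `p`, `JM = 0`
(helper5)

Induction on the sequence.  The short exact sequence
`0 → Ext^{i-1}(N, M) → Ext^i(N/xN, M) → Ext^i(N, M) → 0` is split by a Yoneda argument, using that
the isomorphisms constructed so far are natural in `M`.
-/

set_option autoImplicit false
universe u

namespace Groth.Agent.ExtKoszulAll

open CategoryTheory Abelian RingTheory.Sequence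

variable {A : Type u} [CommRing A]

/-- a family of isomorphisms `(ι → M) ≃ Ext^i(N, M)`, natural in `M` from the class `𝒦`. -/
structure NatRep (𝒦 : ModuleCat.{u} A → Prop) (N : ModuleCat.{u} A) (i : ℕ) (ι : Type) where
  Ψ : ∀ M : ModuleCat.{u} A, 𝒦 M → ((ι → M) ≃ₗ[A] Ext N M i)
  nat : ∀ (M M' : ModuleCat.{u} A) (hM : 𝒦 M) (hM' : 𝒦 M') (f : M ⟶ M') (v : ι → M),
    Ψ M' hM' (fun k => f.hom (v k)) = (Ψ M hM v).comp (Ext.mk₀ f) (add_zero i)

/-- restriction to a smaller class -/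
def NatRep.restrict {𝒦 𝒦' : ModuleCat.{u} A → Prop} (h : ∀ M, 𝒦' M → 𝒦 M) {N : ModuleCat.{u} A}
    {i : ℕ} {ι : Type} (R : NatRep 𝒦 N i ι) : NatRep 𝒦' N i ι where
  Ψ M hM := R.Ψ M (h M hM)
  nat M M' hM hM' f v := R.nat M M' (h M hM) (h M' hM') f v

/-- transport along an isomorphism in the first variable -/
noncomputable def NatRep.congrLeft {𝒦 : ModuleCat.{u} A → Prop} {N N' : ModuleCat.{u} A}
    (e : N ≅ N') {i : ℕ} {ι : Type} (R : NatRep 𝒦 N i ι) : NatRep 𝒦 N' i ι where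
  Ψ M hM := (R.Ψ M hM).trans (Groth.Agent.ExtKoszul.extCongrLeft e M i)
  nat M M' hM hM' f v := by
    show (Ext.mk₀ e.inv).comp (R.Ψ M' hM' (fun k => f.hom (v k))) (zero_add i) =
      ((Ext.mk₀ e.inv).comp (R.Ψ M hM v) (zero_add i)).comp (Ext.mk₀ f) (add_zero i)
    rw [R.nat M M' hM hM' f v, Ext.comp_assoc_of_third_deg_zero]

/-- change of index type -/
noncomputable def NatRep.reindex {𝒦 : ModuleCat.{u} A → Prop} {N : ModuleCat.{u} A}
    {i : ℕ} {ι κ : Type} (σ : κ ≃ ι) (R : NatRep 𝒦 N i ι) : NatRep 𝒦 N i κ where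
  Ψ M hM := (LinearEquiv.funCongrLeft A M σ.symm).trans (R.Ψ M hM)
  nat M M' hM hM' f v := by
    show R.Ψ M' hM' (fun k => f.hom (v (σ.symm k))) =
      (R.Ψ M hM (fun k => v (σ.symm k))).comp (Ext.mk₀ f) (add_zero i)
    exact R.nat M M' hM hM' f _

/-- the universal object of the class `𝒦` -/
structure Univ (𝒦 : ModuleCat.{u} A → Prop) where
  U : ModuleCat.{u} A
  hU : 𝒦 U
  u₀ : U
  φ : ∀ M : ModuleCat.{u} A, 𝒦 M → M → (U ⟶ M)
  φ_apply : ∀ M hM m, (φ M hM m).hom u₀ = m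
  φ_add : ∀ M hM m m', φ M hM (m + m') = φ M hM m + φ M hM m'
  φ_smul : ∀ M hM (a : A) m, φ M hM (a • m) = a • φ M hM m
  φ_nat : ∀ M M' hM hM' (f : M ⟶ M') m, φ M hM m ≫ f = φ M' hM' (f.hom m)

theorem smul_ext_eq_zero_of_tgt {N M : ModuleCat.{u} A} (a : A) (ha : ∀ m : M, a • m = 0) (n : ℕ)
    (x : Ext N M n) : a • x = 0 := by
  have h0 : a • 𝟙 M = 0 := by
    ext y
    exact ha y
  rw [Ext.smul_eq_comp_mk₀, h0, Ext.mk₀_zero, Ext.comp_zero]

section step

variable (𝒦 : ModuleCat.{u} A → Prop) (N : ModuleCat.{u} A) (x : A) (reg : IsSMulRegular N x)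
  (hx : ∀ M : ModuleCat.{u} A, 𝒦 M → ∀ m : M, x • m = 0)

include reg hx

/-- degree zero: `Hom(N/xN, M) = Hom(N, M)`. -/
theorem step_zero {ι : Type} (R : NatRep 𝒦 N 0 ι) :
    Nonempty (NatRep 𝒦 (ModuleCat.of A (QuotSMulTop x N)) 0 ι) := by
  have hS := reg.smulShortComplex_shortExact
  -- π : Ext^0(N/xN, M) → Ext^0(N, M) is bijective
  have hbij : ∀ M : ModuleCat.{u} A, 𝒦 M → Function.Bijective
      (Ext.precompOfLinear (Ext.mk₀ (N.smulShortComplex x).g) A M (zero_add 0)) := by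
    intro M hM
    constructor
    · haveI := hS.epi_g
      exact Ext.precomp_mk₀_injective_of_epi M (N.smulShortComplex x).g
    · intro β
      have h1 : (Ext.mk₀ (x • 𝟙 N)).comp β (zero_add 0) = 0 := by
        rw [Ext.mk₀_smul, Ext.smul_comp, Ext.mk₀_id_comp]
        exact smul_ext_eq_zero_of_tgt x (hx M hM) 0 β
      obtain ⟨β₁, hβ₁⟩ := Ext.contravariant_sequence_exact₂ hS M β h1
      exact ⟨β₁, hβ₁⟩
  refine ⟨{ Ψ := fun M hM => (R.Ψ M hM).trans
              (LinearEquiv.ofBijective _ (hbij M hM)).symm, nat := ?_ }⟩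
  intro M M' hM hM' f v
  apply (hbij M' hM').1
  show (Ext.mk₀ (N.smulShortComplex x).g).comp
      ((LinearEquiv.ofBijective _ (hbij M' hM')).symm (R.Ψ M' hM' fun k => f.hom (v k)))
      (zero_add 0) =
    (Ext.mk₀ (N.smulShortComplex x).g).comp
      (((LinearEquiv.ofBijective _ (hbij M hM)).symm (R.Ψ M hM v)).comp (Ext.mk₀ f) (add_zero 0))
      (zero_add 0)
  have e1 : ∀ (M : ModuleCat.{u} A) (hM : 𝒦 M) (y : Ext N M 0),
      (Ext.mk₀ (N.smulShortComplex x).g).comp
        ((LinearEquiv.ofBijective _ (hbij M hM)).symm y) (zero_add 0) = y := by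
    intro M hM y
    exact (LinearEquiv.ofBijective _ (hbij M hM)).apply_symm_apply y
  rw [e1 M' hM', ← Ext.comp_assoc_of_third_deg_zero, e1 M hM, R.nat M M' hM hM' f v]
  rfl

/-- positive degrees -/
theorem step_succ (W : Univ 𝒦) (j : ℕ) {ι' ι : Type} [Fintype ι] [DecidableEq ι]
    (R' : NatRep 𝒦 N j ι') (R : NatRep 𝒦 N (j + 1) ι) :
    Nonempty (NatRep 𝒦 (ModuleCat.of A (QuotSMulTop x N)) (j + 1) (ι' ⊕ ι)) := by
  have hS := reg.smulShortComplex_shortExact
  -- basic maps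
  let δ : ∀ M : ModuleCat.{u} A, Ext N M j →ₗ[A] Ext (ModuleCat.of A (QuotSMulTop x N)) M (j + 1) :=
    fun M => Ext.precompOfLinear hS.extClass A M (add_comm 1 j)
  let π : ∀ M : ModuleCat.{u} A,
      Ext (ModuleCat.of A (QuotSMulTop x N)) M (j + 1) →ₗ[A] Ext N M (j + 1) :=
    fun M => Ext.precompOfLinear (Ext.mk₀ (N.smulShortComplex x).g) A M (zero_add (j + 1))
  have hδ : ∀ M (α : Ext N M j), δ M α = hS.extClass.comp α (add_comm 1 j) := fun M α => rfl
  have hπ : ∀ M (β : Ext (ModuleCat.of A (QuotSMulTop x N)) M (j + 1)),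
      π M β = (Ext.mk₀ (N.smulShortComplex x).g).comp β (zero_add (j + 1)) := fun M β => rfl
  have hπδ : ∀ M (α : Ext N M j), π M (δ M α) = 0 := by
    intro M α
    rw [hπ, hδ]
    exact hS.comp_extClass_assoc α (add_comm 1 j)
  have hker : ∀ M (β : Ext (ModuleCat.of A (QuotSMulTop x N)) M (j + 1)), π M β = 0 →
      ∃ α, δ M α = β := by
    intro M β hβ
    obtain ⟨α, hα⟩ := Ext.contravariant_sequence_exact₃ hS M β hβ (add_comm 1 j)
    exact ⟨α, hα⟩
  have hfzero : ∀ (M : ModuleCat.{u} A), 𝒦 M → ∀ (n : ℕ) (α : Ext N M n),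
      (Ext.mk₀ (x • 𝟙 N)).comp α (zero_add n) = 0 := by
    intro M hM n α
    rw [Ext.mk₀_smul, Ext.smul_comp, Ext.mk₀_id_comp]
    exact smul_ext_eq_zero_of_tgt x (hx M hM) n α
  have hδinj : ∀ M, 𝒦 M → ∀ α : Ext N M j, δ M α = 0 → α = 0 := by
    intro M hM α hα
    obtain ⟨α', hα'⟩ := Ext.contravariant_sequence_exact₁ hS M α (add_comm 1 j) hα
    rw [← hα']
    exact hfzero M hM j α'
  have hπsurj : ∀ M, 𝒦 M → ∀ β : Ext N M (j + 1), ∃ β₁, π M β₁ = β := by
    intro M hM β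
    obtain ⟨β₁, hβ₁⟩ := Ext.contravariant_sequence_exact₂ hS M β (hfzero M hM (j + 1) β)
    exact ⟨β₁, hβ₁⟩
  -- universal lifts
  choose t ht using fun k : ι => hπsurj W.U W.hU (R.Ψ W.U W.hU (Pi.single k W.u₀))
  -- the section
  let s : ∀ (M : ModuleCat.{u} A) (hM : 𝒦 M),
      (ι → M) →ₗ[A] Ext (ModuleCat.of A (QuotSMulTop x N)) M (j + 1) := fun M hM =>
    { toFun := fun v => ∑ k, (t k).comp (Ext.mk₀ (W.φ M hM (v k))) (add_zero (j + 1))
      map_add' := by
        intro v w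
        rw [← Finset.sum_add_distrib]
        refine Finset.sum_congr rfl (fun k _ => ?_)
        rw [Pi.add_apply, W.φ_add, Ext.mk₀_add, Ext.comp_add]
      map_smul' := by
        intro a v
        rw [RingHom.id_apply, Finset.smul_sum]
        refine Finset.sum_congr rfl (fun k _ => ?_)
        rw [Pi.smul_apply, W.φ_smul, Ext.mk₀_smul, Ext.comp_smul] }
  have hs : ∀ (M : ModuleCat.{u} A) (hM : 𝒦 M) (v : ι → M), s M hM v =
      ∑ k, (t k).comp (Ext.mk₀ (W.φ M hM (v k))) (add_zero (j + 1)) := fun M hM v => rfl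
  have hπs : ∀ (M : ModuleCat.{u} A) (hM : 𝒦 M) (v : ι → M), π M (s M hM v) = R.Ψ M hM v := by
    intro M hM v
    rw [hs, map_sum]
    have h1 : ∀ k, π M ((t k).comp (Ext.mk₀ (W.φ M hM (v k))) (add_zero (j + 1))) =
        R.Ψ M hM (fun k' => (W.φ M hM (v k)).hom ((Pi.single k W.u₀ : ι → W.U) k')) := by
      intro k
      have hassoc := Ext.comp_assoc (Ext.mk₀ (N.smulShortComplex x).g) (t k)
        (Ext.mk₀ (W.φ M hM (v k))) (zero_add (j + 1)) (add_zero (j + 1))
        (show 0 + (j + 1) + 0 = j + 1 by omega)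
      have h2 : π M ((t k).comp (Ext.mk₀ (W.φ M hM (v k))) (add_zero (j + 1))) =
          (π W.U (t k)).comp (Ext.mk₀ (W.φ M hM (v k))) (add_zero (j + 1)) := hassoc.symm
      rw [h2, ht k, ← R.nat W.U M W.hU hM (W.φ M hM (v k)) (Pi.single k W.u₀)]
    rw [Finset.sum_congr rfl (fun k _ => h1 k), ← map_sum]
    congr 1
    funext k'
    rw [Finset.sum_apply, Finset.sum_eq_single k']
    · rw [Pi.single_eq_same, W.φ_apply]
    · intro b _ hb
      rw [Pi.single_eq_of_ne (Ne.symm hb), map_zero]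
    · intro h
      exact absurd (Finset.mem_univ k') h
  have hsnat : ∀ (M M' : ModuleCat.{u} A) (hM : 𝒦 M) (hM' : 𝒦 M') (f : M ⟶ M') (v : ι → M),
      s M' hM' (fun k => f.hom (v k)) = (s M hM v).comp (Ext.mk₀ f) (add_zero (j + 1)) := by
    intro M M' hM hM' f v
    rw [hs, hs, Ext.sum_comp]
    refine Finset.sum_congr rfl (fun k _ => ?_)
    rw [Ext.comp_assoc_of_third_deg_zero, Ext.mk₀_comp_mk₀, W.φ_nat M M' hM hM' f (v k)]
  -- the combined map
  let Φ : ∀ (M : ModuleCat.{u} A) (hM : 𝒦 M),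
      ((ι' ⊕ ι) → M) →ₗ[A] Ext (ModuleCat.of A (QuotSMulTop x N)) M (j + 1) := fun M hM =>
    (δ M) ∘ₗ (R'.Ψ M hM).toLinearMap ∘ₗ (LinearMap.funLeft A M Sum.inl) +
      (s M hM) ∘ₗ (LinearMap.funLeft A M Sum.inr)
  have hΦ : ∀ (M : ModuleCat.{u} A) (hM : 𝒦 M) (w : (ι' ⊕ ι) → M), Φ M hM w =
      δ M (R'.Ψ M hM (fun k => w (Sum.inl k))) + s M hM (fun k => w (Sum.inr k)) :=
    fun M hM w => rfl
  have hΦbij : ∀ (M : ModuleCat.{u} A) (hM : 𝒦 M), Function.Bijective (Φ M hM) := by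
    intro M hM
    constructor
    · rw [injective_iff_map_eq_zero]
      intro w hw
      rw [hΦ] at hw
      have h1 := congrArg (π M) hw
      rw [map_add, hπδ, zero_add, hπs, map_zero] at h1
      have h2 : (fun k => w (Sum.inr k)) = 0 := (R.Ψ M hM).map_eq_zero_iff.mp h1
      rw [h2, map_zero, add_zero] at hw
      have h3 := hδinj M hM _ hw
      have h4 : (fun k => w (Sum.inl k)) = 0 := (R'.Ψ M hM).map_eq_zero_iff.mp h3
      funext k
      rcases k with k | k
      · exact congrFun h4 k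
      · exact congrFun h2 k
    · intro β
      set v := (R.Ψ M hM).symm (π M β) with hv
      have h1 : π M (β - s M hM v) = 0 := by
        rw [map_sub, hπs, hv, LinearEquiv.apply_symm_apply, sub_self]
      obtain ⟨α, hα⟩ := hker M _ h1
      refine ⟨Sum.elim ((R'.Ψ M hM).symm α) v, ?_⟩
      rw [hΦ]
      simp only [Sum.elim_inl, Sum.elim_inr]
      rw [LinearEquiv.apply_symm_apply, hα]
      abel
  refine ⟨{ Ψ := fun M hM => LinearEquiv.ofBijective (Φ M hM) (hΦbij M hM), nat := ?_ }⟩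
  intro M M' hM hM' f w
  show Φ M' hM' (fun k => f.hom (w k)) = (Φ M hM w).comp (Ext.mk₀ f) (add_zero (j + 1))
  have h := Ext.comp_assoc hS.extClass (R'.Ψ M hM fun k => w (Sum.inl k)) (Ext.mk₀ f)
    (add_comm 1 j) (add_zero j) (show 1 + j + 0 = j + 1 by omega)
  rw [hΦ, hΦ, Ext.add_comp, hsnat M M' hM hM' f, R'.nat M M' hM hM' f, hδ, hδ]
  congr 1
  exact h.symm

end step

section main

/-- the class of modules killed by the ideal generated by `rs` -/
def Killed (rs : List A) (M : ModuleCat.{u} A) : Prop :=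
  Ideal.ofList rs • (⊤ : Submodule A M) = ⊥

theorem Killed.smul_eq_zero {rs : List A} {M : ModuleCat.{u} A} (h : Killed rs M) {a : A}
    (ha : a ∈ Ideal.ofList rs) (m : M) : a • m = 0 := by
  have : a • m ∈ Ideal.ofList rs • (⊤ : Submodule A M) :=
    Submodule.smul_mem_smul ha Submodule.mem_top
  rw [h] at this
  exact (Submodule.mem_bot A).mp this

/-- the universal object `A/J`. -/
noncomputable def univ (rs : List A) : Univ (Killed (A := A) rs) where
  U := ModuleCat.of A (A ⧸ Ideal.ofList rs)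
  hU := by
    unfold Killed
    rw [eq_bot_iff, Submodule.smul_le]
    intro a ha y _
    obtain ⟨b, rfl⟩ := Submodule.Quotient.mk_surjective _ y
    rw [Submodule.mem_bot, ← Submodule.Quotient.mk_smul, Submodule.Quotient.mk_eq_zero,
      smul_eq_mul]
    exact Ideal.mul_mem_right b _ ha
  u₀ := Submodule.Quotient.mk (1 : A)
  φ M hM m := ModuleCat.ofHom (Submodule.liftQ (Ideal.ofList rs) (LinearMap.toSpanSingleton A M m)
    (by
      intro a ha
      rw [LinearMap.mem_ker, LinearMap.toSpanSingleton_apply]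
      exact hM.smul_eq_zero ha m))
  φ_apply M hM m := by
    show Submodule.liftQ _ _ _ (Submodule.Quotient.mk (1 : A)) = m
    rw [Submodule.liftQ_apply, LinearMap.toSpanSingleton_apply, one_smul]
  φ_add M hM m m' := by
    apply ModuleCat.hom_ext
    apply Submodule.linearMap_qext
    apply LinearMap.ext_ring
    show (1 : A) • (m + m') = (1 : A) • m + (1 : A) • m'
    rw [smul_add]
  φ_smul M hM a m := by
    apply ModuleCat.hom_ext
    apply Submodule.linearMap_qext
    apply LinearMap.ext_ring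
    show (1 : A) • (a • m) = a • ((1 : A) • m)
    rw [one_smul, one_smul]
  φ_nat M M' hM hM' f m := by
    apply ModuleCat.hom_ext
    apply Submodule.linearMap_qext
    apply LinearMap.ext_ring
    show f.hom ((1 : A) • m) = (1 : A) • f.hom m
    rw [one_smul, one_smul]

/-- `Ext^0(A, M) = M`. -/
noncomputable def baseEquiv (M : ModuleCat.{u} A) :
    Ext (ModuleCat.of A A) M 0 ≃ₗ[A] (Unit → M) :=
  (Ext.linearEquiv₀ (R := A)).trans ((ModuleCat.homLinearEquiv (S := A)).trans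
    ((LinearMap.ringLmapEquivSelf A A M).trans (LinearEquiv.funUnique Unit A M).symm))

theorem baseEquiv_mk₀ (M : ModuleCat.{u} A) (g : ModuleCat.of A A ⟶ M) (k : Unit) :
    baseEquiv M (Ext.mk₀ g) k = g.hom (1 : A) := by
  have h : Ext.linearEquiv₀ (R := A) (Ext.mk₀ g) = g := by
    rw [← Ext.linearEquiv₀_symm_apply (R := A), LinearEquiv.apply_symm_apply]
  show (ModuleCat.Hom.hom (Ext.linearEquiv₀ (R := A) (Ext.mk₀ g))) (1 : A) = g.hom 1
  rw [h]

theorem baseEquiv_comp {M M' : ModuleCat.{u} A} (f : M ⟶ M') (α : Ext (ModuleCat.of A A) M 0) :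
    baseEquiv M' (α.comp (Ext.mk₀ f) (add_zero 0)) = fun k => f.hom (baseEquiv M α k) := by
  obtain ⟨g, rfl⟩ : ∃ g, α = Ext.mk₀ g :=
    ⟨Ext.linearEquiv₀ (R := A) α, (Ext.mk₀_linearEquiv₀_apply (R := A) α).symm⟩
  funext k
  rw [Ext.mk₀_comp_mk₀, baseEquiv_mk₀, baseEquiv_mk₀]
  rfl

/-- base case: `Ext^0(A, M) = M`. -/
noncomputable def baseZero (𝒦 : ModuleCat.{u} A → Prop) : NatRep 𝒦 (ModuleCat.of A A) 0 Unit where
  Ψ M _ := (baseEquiv M).symm
  nat M M' hM hM' f v := by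
    apply (baseEquiv M').injective
    rw [LinearEquiv.apply_symm_apply, baseEquiv_comp, LinearEquiv.apply_symm_apply]

/-- base case: `Ext^{i+1}(A, M) = 0`. -/
noncomputable def baseSucc (𝒦 : ModuleCat.{u} A → Prop) (i : ℕ) :
    NatRep 𝒦 (ModuleCat.of A A) (i + 1) Empty where
  Ψ M _ :=
    { toFun := fun _ => 0
      map_add' := fun _ _ => (add_zero _).symm
      map_smul' := fun _ _ => (smul_zero _).symm
      invFun := fun _ => 0
      left_inv := fun v => funext (fun k => k.elim)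
      right_inv := fun e => (Ext.eq_zero_of_projective e).symm }
  nat M M' hM hM' f v := by
    show (0 : Ext (ModuleCat.of A A) M' (i + 1)) =
      (0 : Ext (ModuleCat.of A A) M (i + 1)).comp (Ext.mk₀ f) (add_zero (i + 1))
    rw [Ext.zero_comp]

theorem main (rs : List A) : IsWeaklyRegular A rs → ∀ i : ℕ,
    ∃ (ι : Type) (_ : Fintype ι), Fintype.card ι = rs.length.choose i ∧
      Nonempty (NatRep (Killed (A := A) rs)
        (ModuleCat.of A (A ⧸ (Ideal.ofList rs • ⊤ : Submodule A A))) i ι) := by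
  induction rs using List.reverseRecOn with
  | nil =>
    intro _ i
    have hbot : (Ideal.ofList ([] : List A) • ⊤ : Submodule A A) = ⊥ := by
      rw [Ideal.ofList_nil, Submodule.bot_smul]
    let eA : (A ⧸ (Ideal.ofList ([] : List A) • ⊤ : Submodule A A)) ≃ₗ[A] A :=
      Submodule.quotEquivOfEqBot _ hbot
    cases i with
    | zero =>
      exact ⟨Unit, inferInstance, by simp, ⟨(baseZero _).congrLeft eA.symm.toModuleIso⟩⟩
    | succ i =>
      exact ⟨Empty, inferInstance, by simp, ⟨(baseSucc _ i).congrLeft eA.symm.toModuleIso⟩⟩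
  | append_singleton rs x ih =>
    intro hreg i
    obtain ⟨h1, h2⟩ := (isWeaklyRegular_append_iff A rs [x]).mp hreg
    have reg : IsSMulRegular (A ⧸ (Ideal.ofList rs • ⊤ : Submodule A A)) x :=
      (isWeaklyRegular_singleton_iff _ x).mp h2
    have hideal : Ideal.ofList (rs ++ [x]) = Ideal.ofList (x :: rs) := by
      rw [Ideal.ofList_append, Ideal.ofList_singleton, Ideal.ofList_cons, sup_comm]
    let iso0 : QuotSMulTop x (A ⧸ (Ideal.ofList rs • ⊤ : Submodule A A)) ≃ₗ[A]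
        (A ⧸ (Ideal.ofList (rs ++ [x]) • ⊤ : Submodule A A)) :=
      ((Submodule.quotEquivOfEq _ _ (by rw [hideal])).trans
        (Submodule.quotOfListConsSMulTopEquivQuotSMulTopOuter A x rs)).symm
    have hsub : ∀ M, Killed (rs ++ [x]) M → Killed rs M := by
      intro M hM
      unfold Killed at hM ⊢
      rw [eq_bot_iff] at hM ⊢
      refine le_trans (Submodule.smul_mono_left ?_) hM
      rw [Ideal.ofList_append]
      exact le_sup_left
    have hxk : ∀ M : ModuleCat.{u} A, Killed (rs ++ [x]) M → ∀ m : M, x • m = 0 := by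
      intro M hM m
      apply hM.smul_eq_zero _ m
      rw [Ideal.ofList_append, Ideal.ofList_singleton]
      exact Ideal.mem_sup_right (Ideal.mem_span_singleton_self x)
    have hlen : (rs ++ [x]).length = rs.length + 1 := by simp
    cases i with
    | zero =>
      obtain ⟨ι, hι, hcard, ⟨R⟩⟩ := ih h1 0
      obtain ⟨R1⟩ := step_zero (Killed (rs ++ [x]))
        (ModuleCat.of A (A ⧸ (Ideal.ofList rs • ⊤ : Submodule A A))) x reg hxk (R.restrict hsub)
      refine ⟨ι, hι, ?_, ⟨R1.congrLeft iso0.toModuleIso⟩⟩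
      rw [hcard, Nat.choose_zero_right, Nat.choose_zero_right]
    | succ j =>
      obtain ⟨ι', hι', hcard', ⟨R'⟩⟩ := ih h1 j
      obtain ⟨ι, hι, hcard, ⟨R⟩⟩ := ih h1 (j + 1)
      classical
      obtain ⟨R1⟩ := step_succ (Killed (rs ++ [x]))
        (ModuleCat.of A (A ⧸ (Ideal.ofList rs • ⊤ : Submodule A A))) x reg hxk
        (univ (rs ++ [x])) j (R'.restrict hsub) (R.restrict hsub)
      refine ⟨ι' ⊕ ι, inferInstance, ?_, ⟨R1.congrLeft iso0.toModuleIso⟩⟩
      rw [Fintype.card_sum, hcard', hcard, hlen, Nat.choose_succ_succ]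

/-- S5666. -/
theorem ext_quot_regular_all (xs : List A) (hreg : IsWeaklyRegular A xs) (M : Type u)
    [AddCommGroup M] [Module A M] (hJM : Ideal.ofList xs • (⊤ : Submodule A M) = ⊥) (i : ℕ) :
    Nonempty (Ext (ModuleCat.of A (A ⧸ Ideal.ofList xs)) (ModuleCat.of A M) i ≃ₗ[A]
      (Fin (xs.length.choose i) → M)) := by
  obtain ⟨ι, hι, hcard, ⟨R⟩⟩ := main xs hreg i
  let e : (A ⧸ (Ideal.ofList xs • ⊤ : Submodule A A)) ≃ₗ[A] (A ⧸ Ideal.ofList xs) :=
    Submodule.quotEquivOfEq _ _ (by rw [smul_eq_mul, Ideal.mul_top])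
  let R2 := (R.congrLeft e.toModuleIso).reindex (Fintype.equivFinOfCardEq hcard).symm
  exact ⟨(R2.Ψ (ModuleCat.of A M) hJM).symm⟩

end main

end Groth.Agent.ExtKoszulAll
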