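import Mathlib
import Groth.Prelude.Def_Exal

set_option autoImplicit false
universe u

namespace Groth.Agent.Lib.ExtLiftH1

open IsLocalRing

section General

variable {Λ : Type u} {R : Type u} [CommRing Λ] [CommRing R] [Algebra Λ R] [IsLocalRing R]
variable (X : Exal.Ext Λ R (ResidueField R))

theorem proj_incl (z : ResidueField R) : X.proj (X.incl z) = 0 :=
  (X.isExtension.exact _).2 ⟨z, rfl⟩

theorem incl_mul_incl (z z' : ResidueField R) : X.incl z * X.incl z' = 0 := by
  rw [X.isExtension.mul_incl, proj_incl, zero_smul, map_zero]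

theorem isUnit_of_isUnit_proj (x : X.E) (h : IsUnit (X.proj x)) : IsUnit x := by
  obtain ⟨r, hr⟩ := h.exists_right_inv
  obtain ⟨y, rfl⟩ := X.isExtension.proj_surjective r
  have h0 : X.proj (x * y - 1) = 0 := by rw [map_sub, map_mul, hr, map_one, sub_self]
  obtain ⟨z, hz⟩ := (X.isExtension.exact _).1 h0
  have e : x * y = 1 + X.incl z := by rw [hz]; ring
  have : x * (y * (1 - X.incl z)) = 1 := by
    calc x * (y * (1 - X.incl z)) = (x * y) * (1 - X.incl z) := by ring
      _ = (1 + X.incl z) * (1 - X.incl z) := by rw [e]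
      _ = 1 - X.incl z * X.incl z := by ring
      _ = 1 := by rw [incl_mul_incl, sub_zero]
  exact IsUnit.of_mul_eq_one _ this

theorem isLocalRing_E : IsLocalRing X.E := by
  haveI : IsLocalHom X.proj.toRingHom := ⟨fun x h => isUnit_of_isUnit_proj X x h⟩
  exact RingHom.domain_isLocalRing X.proj.toRingHom

theorem smul_one_res (r : R) : r • (1 : ResidueField R) = residue R r := by
  rw [Algebra.smul_def, ResidueField.algebraMap_eq, mul_one]

theorem incl_eq_mul (z : ResidueField R) : ∃ y : X.E, X.incl z = y * X.incl 1 := by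
  obtain ⟨r, rfl⟩ := residue_surjective z
  obtain ⟨y, rfl⟩ := X.isExtension.proj_surjective r
  refine ⟨y, ?_⟩
  rw [X.isExtension.mul_incl, smul_one_res]

theorem eps_mem_of_incl_mem (J : Ideal X.E) (z : ResidueField R) (hz : z ≠ 0)
    (h : X.incl z ∈ J) : X.incl 1 ∈ J := by
  obtain ⟨r, hr⟩ := residue_surjective z⁻¹
  obtain ⟨y, rfl⟩ := X.isExtension.proj_surjective r
  have : y * X.incl z = X.incl 1 := by
    rw [X.isExtension.mul_incl, Algebra.smul_def, ResidueField.algebraMap_eq, hr,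
      inv_mul_cancel₀ hz]
  rw [← this]; exact J.mul_mem_left _ h

theorem isNoetherianRing_E [IsNoetherianRing R] : IsNoetherianRing X.E := by
  classical
  rw [isNoetherianRing_iff_ideal_fg]
  intro J
  have hfg : (J.map X.proj.toRingHom).FG := IsNoetherian.noetherian _
  obtain ⟨T, hT⟩ := hfg
  have hmem : ∀ r ∈ T, ∃ y ∈ J, X.proj y = r := by
    intro r hr
    have : r ∈ J.map X.proj.toRingHom := by rw [← hT]; exact Ideal.subset_span hr
    exact (Ideal.mem_map_iff_of_surjective _ X.isExtension.proj_surjective).1 this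
  choose! g hgJ hgp using hmem
  let S : Set X.E := (g '' (T : Set R)) ∪ {x | x = X.incl 1 ∧ X.incl 1 ∈ J}
  have hSfin : S.Finite := (T.finite_toSet.image g).union
    (Set.Finite.subset (Set.finite_singleton (X.incl 1)) (fun x hx => hx.1))
  have hSJ : Ideal.span S ≤ J := by
    rw [Ideal.span_le]
    rintro x (⟨r, hr, rfl⟩ | ⟨rfl, h⟩)
    · exact hgJ r hr
    · exact h
  refine ⟨hSfin.toFinset, ?_⟩
  rw [Set.Finite.coe_toFinset]
  refine le_antisymm hSJ ?_
  intro x hx
  have hpx : X.proj x ∈ Ideal.span (T : Set R) := by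
    rw [hT]; exact Ideal.mem_map_of_mem _ hx
  have : ∃ y ∈ Ideal.span (g '' (T : Set R)), X.proj y = X.proj x := by
    refine Submodule.span_induction
      (p := fun r _ => ∃ y ∈ Ideal.span (g '' (T : Set R)), X.proj y = r) ?_ ?_ ?_ ?_ hpx
    · intro r hr; exact ⟨g r, Ideal.subset_span ⟨r, hr, rfl⟩, hgp r hr⟩
    · exact ⟨0, Ideal.zero_mem _, map_zero _⟩
    · rintro a b _ _ ⟨ya, hya, rfl⟩ ⟨yb, hyb, rfl⟩
      exact ⟨ya + yb, Ideal.add_mem _ hya hyb, map_add _ _ _⟩
    · rintro a b _ ⟨yb, hyb, rfl⟩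
      obtain ⟨ya, rfl⟩ := X.isExtension.proj_surjective a
      exact ⟨ya * yb, Ideal.mul_mem_left _ _ hyb, by rw [smul_eq_mul, map_mul]⟩
  obtain ⟨y, hy, hyx⟩ := this
  have hyS : y ∈ Ideal.span S := Ideal.span_mono Set.subset_union_left hy
  have h0 : X.proj (x - y) = 0 := by rw [map_sub, hyx, sub_self]
  obtain ⟨z, hz⟩ := (X.isExtension.exact _).1 h0
  have hxy : x = y + X.incl z := by rw [hz]; ring
  rw [hxy]
  refine Ideal.add_mem _ hyS ?_
  by_cases hz0 : z = 0
  · rw [hz0, map_zero]; exact Ideal.zero_mem _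
  · have hzJ : X.incl z ∈ J := by
      rw [hz]; exact J.sub_mem hx (hSJ hyS)
    have hε := eps_mem_of_incl_mem X J z hz0 hzJ
    obtain ⟨w, hw⟩ := incl_eq_mul X z
    rw [hw]
    exact Ideal.mul_mem_left _ _ (Ideal.subset_span (Or.inr ⟨rfl, hε⟩))

end General

section Main

variable {k : Type u} [Field k] {Λ : Type u} [CommRing Λ] [Algebra k Λ]
  {R : Type u} [CommRing R] [Algebra Λ R] [IsLocalRing R]

set_option maxHeartbeats 800000 in
theorem trivial_of_lift [IsNoetherianRing R]
    (hR : ∀ r : R, ∃ c : k, r - algebraMap Λ R (algebraMap k Λ c) ∈ maximalIdeal R)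
    (hb : ∀ (B : Type u) [CommRing B] [Algebra Λ B] [IsLocalRing B] [IsArtinianRing B],
      (∀ b : B, ∃ c : k, b - algebraMap Λ B (algebraMap k Λ c) ∈ maximalIdeal B) →
      ∀ t : B, t ∈ maximalIdeal B → (∀ b ∈ maximalIdeal B, b * t = 0) →
      ∀ φ : R →ₐ[Λ] B ⧸ Ideal.span {t},
        ∃ φ' : R →ₐ[Λ] B, (Ideal.Quotient.mkₐ Λ (Ideal.span {t})).comp φ' = φ)
    (X : Exal.Ext Λ R (ResidueField R)) : X.IsTrivial := by
  classical
  haveI : IsLocalRing X.E := isLocalRing_E X
  haveI : IsNoetherianRing X.E := isNoetherianRing_E X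
  obtain ⟨ε, hε⟩ : ∃ ε : X.E, ε = X.incl 1 := ⟨_, rfl⟩
  have hε0 : ε ≠ 0 := by
    intro h
    have : X.incl 1 = X.incl 0 := by rw [map_zero, ← hε]; exact h
    exact one_ne_zero (X.isExtension.incl_injective this)
  have hpε : X.proj ε = 0 := by rw [hε]; exact proj_incl X 1
  have hmE : ∀ y : X.E, y ∈ maximalIdeal X.E ↔ X.proj y ∈ maximalIdeal R := by
    intro y
    rw [mem_maximalIdeal, mem_maximalIdeal, mem_nonunits_iff, mem_nonunits_iff, not_iff_not]
    exact ⟨fun h => h.map X.proj, isUnit_of_isUnit_proj X y⟩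
  have hεm : ε ∈ maximalIdeal X.E := by rw [hmE, hpε]; exact Ideal.zero_mem _
  obtain ⟨n, hn⟩ : ∃ n : ℕ, ε ∉ maximalIdeal X.E ^ n := by
    by_contra hcon
    push Not at hcon
    have : ε ∈ (⨅ i : ℕ, maximalIdeal X.E ^ i) := by rw [Ideal.mem_iInf]; exact hcon
    rw [Ideal.iInf_pow_eq_bot_of_isLocalRing _ (maximalIdeal.isMaximal X.E).ne_top] at this
    exact hε0 this
  obtain ⟨I, hI⟩ : ∃ I : Ideal X.E, I = maximalIdeal X.E ^ n := ⟨_, rfl⟩
  rw [← hI] at hn
  have hIm : I ≤ maximalIdeal X.E := by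
    have hn1 : n ≠ 0 := by
      rintro rfl
      apply hn
      rw [hI, pow_zero, Ideal.one_eq_top]; trivial
    rw [hI]; exact Ideal.pow_le_self hn1
  haveI hnt : Nontrivial (X.E ⧸ I) := Ideal.Quotient.nontrivial_iff.2 (by
    intro h
    exact (maximalIdeal.isMaximal X.E).ne_top (top_le_iff.1 (h ▸ hIm)))
  haveI hloc : IsLocalRing (X.E ⧸ I) :=
    IsLocalRing.of_surjective' (Ideal.Quotient.mk I) Ideal.Quotient.mk_surjective
  have hmB : ∀ y : X.E, Ideal.Quotient.mk I y ∈ maximalIdeal (X.E ⧸ I) ↔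
      y ∈ maximalIdeal X.E := by
    intro y
    rw [mem_maximalIdeal, mem_maximalIdeal, mem_nonunits_iff, mem_nonunits_iff, not_iff_not]
    constructor
    · intro h
      obtain ⟨w, hw⟩ := h.exists_right_inv
      obtain ⟨w, rfl⟩ := Ideal.Quotient.mk_surjective w
      rw [← map_mul, ← map_one (Ideal.Quotient.mk I), Ideal.Quotient.eq] at hw
      by_contra hy
      have hym : y ∈ maximalIdeal X.E := (mem_maximalIdeal _).2 (mem_nonunits_iff.2 hy)
      have h1 : (1 : X.E) ∈ maximalIdeal X.E := by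
        have := Ideal.sub_mem _ (Ideal.mul_mem_right w _ hym) (hIm hw)
        simpa using this
      exact (maximalIdeal.isMaximal X.E).ne_top ((Ideal.eq_top_iff_one _).2 h1)
    · intro h; exact h.map (Ideal.Quotient.mk I)
  haveI hart : IsArtinianRing (X.E ⧸ I) := by
    rw [isArtinianRing_iff_isNilpotent_maximalIdeal]
    refine ⟨n, ?_⟩
    rw [Ideal.zero_eq_bot, eq_bot_iff]
    have h1 : maximalIdeal (X.E ⧸ I) ≤ (maximalIdeal X.E).map (Ideal.Quotient.mk I) := by
      intro b hb
      obtain ⟨y, rfl⟩ := Ideal.Quotient.mk_surjective b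
      exact Ideal.mem_map_of_mem _ ((hmB y).1 hb)
    calc maximalIdeal (X.E ⧸ I) ^ n ≤ ((maximalIdeal X.E).map (Ideal.Quotient.mk I)) ^ n :=
          Ideal.pow_right_mono h1 n
      _ = (maximalIdeal X.E ^ n).map (Ideal.Quotient.mk I) := (Ideal.map_pow _ _ _).symm
      _ ≤ ⊥ := by
        rw [Ideal.map_le_iff_le_comap]
        intro y hy
        rw [Ideal.mem_comap, Ideal.mem_bot, Ideal.Quotient.eq_zero_iff_mem, hI]
        exact hy
  have hBres : ∀ b : X.E ⧸ I, ∃ c : k,
      b - algebraMap Λ (X.E ⧸ I) (algebraMap k Λ c) ∈ maximalIdeal (X.E ⧸ I) := by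
    intro b
    obtain ⟨y, rfl⟩ := Ideal.Quotient.mk_surjective b
    obtain ⟨c, hc⟩ := hR (X.proj y)
    refine ⟨c, ?_⟩
    have : algebraMap Λ (X.E ⧸ I) (algebraMap k Λ c) =
        Ideal.Quotient.mk I (algebraMap Λ X.E (algebraMap k Λ c)) := rfl
    rw [this, ← map_sub, hmB, hmE, map_sub, AlgHom.commutes]
    exact hc
  obtain ⟨t, ht⟩ : ∃ t : X.E ⧸ I, t = Ideal.Quotient.mk I ε := ⟨_, rfl⟩
  have htm : t ∈ maximalIdeal (X.E ⧸ I) := by rw [ht]; exact (hmB ε).2 hεm
  have hyε : ∀ y ∈ maximalIdeal X.E, y * ε = 0 := by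
    intro y hy
    rw [hε, X.isExtension.mul_incl, smul_one_res,
      (residue_eq_zero_iff _).2 ((hmE y).1 hy), map_zero]
  have hann : ∀ b ∈ maximalIdeal (X.E ⧸ I), b * t = 0 := by
    intro b hb
    obtain ⟨y, rfl⟩ := Ideal.Quotient.mk_surjective b
    have hy : y ∈ maximalIdeal X.E := (hmB y).1 hb
    rw [ht, ← map_mul, hyε y hy, map_zero]
  obtain ⟨q, hq⟩ : ∃ q : (X.E ⧸ I) →ₐ[Λ] (X.E ⧸ I) ⧸ Ideal.span {t},
      q = Ideal.Quotient.mkₐ Λ (Ideal.span {t}) := ⟨_, rfl⟩
  obtain ⟨mkB, hmkB⟩ : ∃ mkB : X.E →ₐ[Λ] (X.E ⧸ I), mkB = Ideal.Quotient.mkₐ Λ I := ⟨_, rfl⟩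
  have hmkB' : ∀ y, mkB y = Ideal.Quotient.mk I y := fun y => by rw [hmkB]; rfl
  have hqt : q t = 0 := by
    rw [hq]
    exact Ideal.Quotient.eq_zero_iff_mem.2 (Ideal.subset_span rfl)
  have hqker : ∀ b, q b = 0 → b ∈ Ideal.span {t} := by
    intro b hb
    rw [hq] at hb
    exact Ideal.Quotient.eq_zero_iff_mem.1 hb
  have hkill : RingHom.ker X.proj.toRingHom ≤ RingHom.ker (q.comp mkB).toRingHom := by
    intro y hy
    obtain ⟨z, hz⟩ := (X.isExtension.exact _).1 ((RingHom.mem_ker).1 hy)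
    obtain ⟨w, hw⟩ := incl_eq_mul X z
    rw [RingHom.mem_ker]
    show q (mkB y) = 0
    rw [← hz, hw, ← hε, map_mul, map_mul, hmkB' ε, ← ht, hqt, mul_zero]
  let φ : R →ₐ[Λ] (X.E ⧸ I) ⧸ Ideal.span {t} :=
    AlgHom.liftOfSurjective X.proj X.isExtension.proj_surjective (q.comp mkB) hkill
  have hφ : ∀ y : X.E, φ (X.proj y) = q (mkB y) := fun y =>
    AlgHom.liftOfSurjective_apply X.proj X.isExtension.proj_surjective (q.comp mkB) hkill y
  obtain ⟨φ', hφ'⟩ := hb (X.E ⧸ I) hBres t htm hann φ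
  have hφ'q : ∀ r, q (φ' r) = φ r := fun r => by rw [← hφ', hq]; rfl
  have hex : ∀ r : R, ∃ y : X.E, X.proj y = r ∧ mkB y = φ' r := by
    intro r
    obtain ⟨y0, hy0⟩ := X.isExtension.proj_surjective r
    have h1 : q (mkB y0 - φ' r) = 0 := by
      rw [map_sub, ← hφ, hy0, hφ'q, sub_self]
    obtain ⟨b, hb'⟩ := Ideal.mem_span_singleton'.1 (hqker _ h1)
    obtain ⟨y1, rfl⟩ := Ideal.Quotient.mk_surjective b
    refine ⟨y0 - y1 * ε, ?_, ?_⟩
    · rw [map_sub, map_mul, hpε, mul_zero, sub_zero, hy0]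
    · rw [map_sub, map_mul, hmkB' y1, hmkB' ε, ← ht, hb']
      ring
  have huniq : ∀ y y' : X.E, X.proj y = X.proj y' → mkB y = mkB y' → y = y' := by
    intro y y' h1 h2
    have h0 : X.proj (y - y') = 0 := by rw [map_sub, h1, sub_self]
    obtain ⟨z, hz⟩ := (X.isExtension.exact _).1 h0
    have hI' : y - y' ∈ I := by
      rw [hmkB' y, hmkB' y'] at h2
      exact Ideal.Quotient.eq.1 h2
    by_cases hz0 : z = 0
    · rw [hz0, map_zero] at hz
      exact sub_eq_zero.1 hz.symm
    · exfalso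
      apply hn
      rw [← hz] at hI'
      rw [hε]
      exact eps_mem_of_incl_mem X I z hz0 hI'
  choose s hs1 hs2 using hex
  refine ⟨{ toFun := s
            map_one' := huniq _ _ (by rw [hs1, map_one]) (by rw [hs2, map_one, map_one])
            map_mul' := fun a b => huniq _ _ (by rw [hs1, map_mul, hs1, hs1])
              (by rw [hs2, map_mul, map_mul, hs2, hs2])
            map_zero' := huniq _ _ (by rw [hs1, map_zero]) (by rw [hs2, map_zero, map_zero])
            map_add' := fun a b => huniq _ _ (by rw [hs1, map_add, hs1, hs1])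
              (by rw [hs2, map_add, map_add, hs2, hs2])
            commutes' := fun c => huniq _ _ (by rw [hs1, AlgHom.commutes])
              (by rw [hs2, AlgHom.commutes, AlgHom.commutes]) }, fun r => hs1 r⟩

set_option maxHeartbeats 800000 in
theorem lift_of_trivial
    (hR : ∀ r : R, ∃ c : k, r - algebraMap Λ R (algebraMap k Λ c) ∈ maximalIdeal R)
    (ha : ∀ X : Exal.Ext Λ R (ResidueField R), X.IsTrivial)
    (B : Type u) [CommRing B] [Algebra Λ B] [IsLocalRing B] [IsArtinianRing B]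
    (hB : ∀ b : B, ∃ c : k, b - algebraMap Λ B (algebraMap k Λ c) ∈ maximalIdeal B)
    (t : B) (ht : t ∈ maximalIdeal B) (hann : ∀ b ∈ maximalIdeal B, b * t = 0)
    (φ : R →ₐ[Λ] B ⧸ Ideal.span {t}) :
    ∃ φ' : R →ₐ[Λ] B, (Ideal.Quotient.mkₐ Λ (Ideal.span {t})).comp φ' = φ := by
  classical
  obtain ⟨q, hq⟩ : ∃ q : B →ₐ[Λ] B ⧸ Ideal.span {t},
      q = Ideal.Quotient.mkₐ Λ (Ideal.span {t}) := ⟨_, rfl⟩
  rw [← hq]
  have hqsurj : Function.Surjective q := by
    rw [hq]; exact Ideal.Quotient.mkₐ_surjective Λ _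
  have hqt : q t = 0 := by
    rw [hq]
    exact Ideal.Quotient.eq_zero_iff_mem.2 (Ideal.subset_span rfl)
  have hqker : ∀ b, q b = 0 → b ∈ Ideal.span {t} := by
    intro b hb
    rw [hq] at hb
    exact Ideal.Quotient.eq_zero_iff_mem.1 hb
  by_cases ht0 : t = 0
  · have hinj : Function.Injective q := by
      rw [injective_iff_map_eq_zero]
      intro b hb
      have := hqker b hb
      rw [Ideal.span_singleton_eq_bot.2 ht0, Ideal.mem_bot] at this
      exact this
    let e := AlgEquiv.ofBijective q ⟨hinj, hqsurj⟩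
    refine ⟨e.symm.toAlgHom.comp φ, ?_⟩
    ext r
    show q (e.symm (φ r)) = φ r
    exact e.apply_symm_apply (φ r)
  · let ιR : k →+* R := (algebraMap Λ R).comp (algebraMap k Λ)
    let ιB : k →+* B := (algebraMap Λ B).comp (algebraMap k Λ)
    let θ : k →+* ResidueField R := (residue R).comp ιR
    have hθ : Function.Bijective θ := ⟨θ.injective, fun z => by
      obtain ⟨r, rfl⟩ := residue_surjective z
      obtain ⟨c, hc⟩ := hR r
      refine ⟨c, ?_⟩
      show residue R (ιR c) = residue R r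
      symm
      rw [← sub_eq_zero, ← map_sub, residue_eq_zero_iff]
      exact hc⟩
    let eR : k ≃+* ResidueField R := RingEquiv.ofBijective θ hθ
    have heR : ∀ c, eR c = residue R (ιR c) := fun c => rfl
    obtain ⟨N, hN⟩ : ∃ N : ℕ, maximalIdeal B ^ N = ⊥ := by
      have h1 : IsNilpotent (Ideal.jacobson (⊥ : Ideal B)) :=
        IsArtinianRing.isNilpotent_jacobson_bot
      rw [IsLocalRing.jacobson_eq_maximalIdeal ⊥ bot_ne_top] at h1
      exact h1
    have hspan_ne : (1 : B ⧸ Ideal.span {t}) ≠ 0 := by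
      intro h
      have h1 : q 1 = 0 := by rw [map_one]; exact h
      have h2 : (1 : B) ∈ maximalIdeal B := ((Ideal.span_singleton_le_iff_mem _).2 ht) (hqker 1 h1)
      exact (maximalIdeal.isMaximal B).ne_top ((Ideal.eq_top_iff_one _).2 h2)
    have hqι : ∀ c : k, q (ιB c) = φ (ιR c) := by
      intro c
      show q (algebraMap Λ B (algebraMap k Λ c)) = φ (algebraMap Λ R (algebraMap k Λ c))
      rw [AlgHom.commutes, AlgHom.commutes]
    have hloc : ∀ n ∈ maximalIdeal R, ∀ b : B, q b = φ n → b ∈ maximalIdeal B := by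
      intro n hn b hb
      by_contra hbm
      obtain ⟨c, hc⟩ := hB b
      have hc0 : c ≠ 0 := by
        rintro rfl
        apply hbm
        have : b - ιB 0 ∈ maximalIdeal B := hc
        rwa [map_zero, sub_zero] at this
      have hu : IsUnit (n - ιR c) := by
        by_contra hnu
        have h1 : n - ιR c ∈ maximalIdeal R := (mem_maximalIdeal _).2 (mem_nonunits_iff.2 hnu)
        have h2 : ιR c ∈ maximalIdeal R := by
          have := Ideal.sub_mem _ hn h1
          simpa using this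
        exact (mem_nonunits_iff.1 ((mem_maximalIdeal _).1 h2)) ((IsUnit.mk0 c hc0).map ιR)
      have h3 : φ (n - ιR c) = q (b - ιB c) := by
        rw [map_sub, map_sub, hb, hqι]
      have h4 : (b - ιB c) ^ N = 0 := by
        have : (b - ιB c) ^ N ∈ maximalIdeal B ^ N := Ideal.pow_mem_pow hc N
        rwa [hN, Ideal.mem_bot] at this
      have h5 : IsUnit (φ ((n - ιR c) ^ N)) := (hu.pow N).map φ
      rw [map_pow, h3, ← map_pow, h4, map_zero] at h5
      exact hspan_ne (isUnit_zero_iff.1 h5).symm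
    let E : Subalgebra Λ (R × B) :=
      AlgHom.equalizer (φ.comp (AlgHom.fst Λ R B)) (q.comp (AlgHom.snd Λ R B))
    have hEmem : ∀ x : R × B, x ∈ E ↔ φ x.1 = q x.2 := fun x => Iff.rfl
    let proj : E →ₐ[Λ] R := (AlgHom.fst Λ R B).comp E.val
    have hproj : ∀ x : E, proj x = (x : R × B).1 := fun x => rfl
    have hmemincl : ∀ c : k, ((0 : R), ιB c * t) ∈ E := by
      intro c
      rw [hEmem]
      show φ 0 = q (ιB c * t)
      rw [map_zero, map_mul, hqt, mul_zero]
    let g0 : k →+ E :=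
      { toFun := fun c => ⟨((0 : R), ιB c * t), hmemincl c⟩
        map_zero' := Subtype.ext (Prod.ext rfl (by
          show ιB 0 * t = 0
          rw [map_zero, zero_mul]))
        map_add' := fun a b => Subtype.ext (Prod.ext (by
          show (0 : R) = 0 + 0
          rw [add_zero]) (by
          show ιB (a + b) * t = ιB a * t + ιB b * t
          rw [map_add, add_mul])) }
    let incl : ResidueField R →+ E := g0.comp eR.symm.toAddMonoidHom
    have hincl : ∀ z, ((incl z : E) : R × B) = (0, ιB (eR.symm z) * t) := fun z => rfl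
    have hext : Exal.IsExtension proj incl := by
      refine ⟨?_, ?_, ?_, ?_⟩
      · intro r
        obtain ⟨b, hb⟩ := hqsurj (φ r)
        exact ⟨⟨(r, b), (hEmem _).2 hb.symm⟩, rfl⟩
      · rw [injective_iff_map_eq_zero]
        intro z hz
        have h1 : ιB (eR.symm z) * t = 0 := by
          have := congrArg (fun x : E => (x : R × B).2) hz
          exact this
        by_contra hz0
        have hc0 : eR.symm z ≠ 0 := fun h => hz0 (by
          rw [← eR.apply_symm_apply z, h, map_zero])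
        have hu : IsUnit (ιB (eR.symm z)) := (IsUnit.mk0 _ hc0).map ιB
        exact ht0 ((hu.mul_right_eq_zero).1 h1)
      · intro x
        constructor
        · intro hx
          obtain ⟨⟨r, b⟩, hxE⟩ := x
          have hr : r = 0 := hx
          subst hr
          have hqb : q b = 0 := by
            have := (hEmem _).1 hxE
            rw [← this]; exact map_zero φ
          obtain ⟨a, ha⟩ := Ideal.mem_span_singleton'.1 (hqker b hqb)
          obtain ⟨c, hc⟩ := hB a
          refine ⟨eR c, ?_⟩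
          apply Subtype.ext
          rw [hincl, RingEquiv.symm_apply_apply]
          refine Prod.ext rfl ?_
          show ιB c * t = b
          have : (a - ιB c) * t = 0 := hann _ hc
          rw [← ha]
          linear_combination -this
        · rintro ⟨z, rfl⟩
          rfl
      · intro x z
        obtain ⟨⟨r, b⟩, hxE⟩ := x
        apply Subtype.ext
        obtain ⟨d, hd⟩ := hR r
        have hbm : b - ιB d ∈ maximalIdeal B := by
          apply hloc (r - ιR d) hd
          rw [map_sub, map_sub, hqι]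
          congr 1
          exact ((hEmem _).1 hxE).symm
        have hsm : eR.symm (proj ⟨(r, b), hxE⟩ • z) = d * eR.symm z := by
          rw [RingEquiv.symm_apply_eq, map_mul, RingEquiv.apply_symm_apply, heR,
            Algebra.smul_def, ResidueField.algebraMap_eq]
          congr 1
          show residue R r = residue R (ιR d)
          rw [← sub_eq_zero, ← map_sub, residue_eq_zero_iff]
          exact hd
        rw [hincl, hsm]
        show ((r, b) : R × B) * ((incl z : E) : R × B) = _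
        rw [hincl]
        refine Prod.ext (by simp) ?_
        show b * (ιB (eR.symm z) * t) = ιB (d * eR.symm z) * t
        have : (b - ιB d) * t = 0 := hann _ hbm
        rw [map_mul]
        linear_combination (ιB (eR.symm z)) * this
    obtain ⟨s, hs⟩ := ha { E := ↥E, proj := proj, incl := incl, isExtension := hext }
    change R →ₐ[Λ] ↥E at s
    change ∀ r, proj (s r) = r at hs
    refine ⟨(AlgHom.snd Λ R B).comp (E.val.comp s), ?_⟩
    ext r
    show q ((s r : R × B)).2 = φ r
    have h1 := (hEmem _).1 (s r).2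
    have h2 : ((s r : E) : R × B).1 = r := hs r
    rw [← h1, h2]

theorem main11281 [IsNoetherianRing R]
    (hR : ∀ r : R, ∃ c : k, r - algebraMap Λ R (algebraMap k Λ c) ∈ IsLocalRing.maximalIdeal R) :
    (∀ X : Exal.Ext Λ R (IsLocalRing.ResidueField R), X.IsTrivial) ↔
    (∀ (B : Type u) [CommRing B] [Algebra Λ B] [IsLocalRing B] [IsArtinianRing B],
      (∀ b : B, ∃ c : k, b - algebraMap Λ B (algebraMap k Λ c) ∈ IsLocalRing.maximalIdeal B) →
      ∀ t : B, t ∈ IsLocalRing.maximalIdeal B → (∀ b ∈ IsLocalRing.maximalIdeal B, b * t = 0) →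
      ∀ φ : R →ₐ[Λ] B ⧸ Ideal.span {t},
        ∃ φ' : R →ₐ[Λ] B, (Ideal.Quotient.mkₐ Λ (Ideal.span {t})).comp φ' = φ) :=
  ⟨fun ha B _ _ _ _ hB t ht hann φ => lift_of_trivial hR ha B hB t ht hann φ,
    fun hb X => trivial_of_lift hR hb X⟩

end Main

end Groth.Agent.Lib.ExtLiftH1
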