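import Mathlib
import Groth.Prelude.Def_CAlg
import Groth.Agent.Lib.Depth_helper5
import Groth.Agent.Lib.DepthLoc_helper5

/-!
# `Ext¹(I, J) ≠ 0` for torsion-free modules on two curves meeting at a point (helper9)

Uses Mathlib's Rees theorem.
-/

set_option autoImplicit false
universe u
open CategoryTheory

namespace Groth.Agent.ExtMeet9

open IsLocalRing

/-- In a reduced Noetherian local ring of Krull dimension one, the maximal ideal contains a
non-zero-divisor. -/
theorem exists_mem_nonZeroDivisors (S : Type u) [CommRing S] [IsNoetherianRing S] [IsLocalRing S]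
    [IsReduced S] (hdim : ringKrullDim S = 1) :
    ∃ x ∈ maximalIdeal S, x ∈ nonZeroDivisors S := by
  by_contra hcon
  push Not at hcon
  have hsub : (maximalIdeal S : Set S) ⊆ ⋃ p ∈ associatedPrimes S S, (p : Set S) := by
    rw [biUnion_associatedPrimes_eq_compl_nonZeroDivisors]
    intro x hx
    exact hcon x hx
  have hfin : (associatedPrimes S S).Finite := associatedPrimes.finite S S
  obtain ⟨p, hp, hle⟩ := (Ideal.subset_union_prime_finite hfin 0 0
    (fun p hp _ _ => (hp : IsAssociatedPrime p S).isPrime)).1 hsub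
  have hpass : IsAssociatedPrime p S := hp
  have hpprime : p.IsPrime := hpass.isPrime
  have hpeq : p = maximalIdeal S :=
    ((IsLocalRing.maximalIdeal.isMaximal S).eq_of_le hpprime.ne_top hle).symm
  obtain ⟨-, s, hs⟩ := (isAssociatedPrime_iff).1 hpass
  -- `maximalIdeal = ann s`
  have hmem : ∀ t : S, t ∈ maximalIdeal S ↔ t * s = 0 := by
    intro t
    rw [← hpeq, hs, Submodule.mem_colon_singleton, Submodule.mem_bot, smul_eq_mul]
  by_cases hsu : IsUnit s
  · -- then the maximal ideal is zero, so `S` is a field of dimension zero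
    have hbot : maximalIdeal S = ⊥ := by
      rw [eq_bot_iff]
      intro t ht
      have := (hmem t).1 ht
      exact (hsu.mul_left_eq_zero).1 this
    have hfield : IsField S := IsLocalRing.isField_iff_maximalIdeal_eq.2 hbot
    have := ringKrullDim_eq_zero_of_isField hfield
    rw [hdim] at this
    exact one_ne_zero this
  · have hsm : s ∈ maximalIdeal S := (IsLocalRing.mem_maximalIdeal s).2 hsu
    have hss : s * s = 0 := (hmem s).1 hsm
    have hs0 : s = 0 := by
      have : IsNilpotent s := ⟨2, by rw [pow_two]; exact hss⟩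
      exact this.eq_zero
    -- but then `ann s = ⊤`
    have : (1 : S) ∈ maximalIdeal S := by
      rw [hmem, hs0, mul_zero]
    exact (IsLocalRing.maximalIdeal.isMaximal S).ne_top ((Ideal.eq_top_iff_one _).2 this)

/-- lifting: an element of the maximal ideal of `R` whose class in `R ⧸ Q` is a non-zero-divisor -/
theorem exists_mem_maximalIdeal_mk_mem_nonZeroDivisors (R : Type u) [CommRing R]
    [IsNoetherianRing R] [IsLocalRing R] (Q : Ideal R) [IsReduced (R ⧸ Q)]
    (hdim : ringKrullDim (R ⧸ Q) = 1) :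
    ∃ r ∈ maximalIdeal R, Ideal.Quotient.mk Q r ∈ nonZeroDivisors (R ⧸ Q) := by
  haveI : Nontrivial (R ⧸ Q) := by
    by_contra h
    rw [not_nontrivial_iff_subsingleton] at h
    have := ringKrullDim_eq_bot_of_subsingleton (R := R ⧸ Q)
    rw [hdim] at this
    exact absurd this (by decide)
  haveI : IsLocalRing (R ⧸ Q) :=
    IsLocalRing.of_surjective' (Ideal.Quotient.mk Q) Ideal.Quotient.mk_surjective
  obtain ⟨x, hxm, hx⟩ := exists_mem_nonZeroDivisors (R ⧸ Q) hdim
  obtain ⟨r, rfl⟩ := Ideal.Quotient.mk_surjective x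
  refine ⟨r, ?_, hx⟩
  by_contra hr
  have hu : IsUnit r := by
    by_contra hu
    exact hr ((IsLocalRing.mem_maximalIdeal r).2 hu)
  exact ((IsLocalRing.mem_maximalIdeal _).1 hxm) (hu.map (Ideal.Quotient.mk Q))

variable (R : Type u) [CommRing R] [IsNoetherianRing R] [IsLocalRing R]

/-- the main theorem (= S18363; the hypotheses on `I` other than `P I = 0` are not needed) -/
theorem ext_one_nontrivial
    (P Q : Ideal R) (hPQ : ∃ n : ℕ, maximalIdeal R ^ n ≤ P ⊔ Q)
    [IsReduced (R ⧸ Q)] (hQdim : ringKrullDim (R ⧸ Q) = 1)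
    (I J : Type u) [AddCommGroup I] [Module R I] [Module.Finite R I] [Nontrivial I]
    [AddCommGroup J] [Module R J] [Module.Finite R J] [Nontrivial J]
    (hPI : ∀ p ∈ P, ∀ x : I, p • x = 0) (hQJ : ∀ q ∈ Q, ∀ y : J, q • y = 0)
    (hJtf : ∀ r : R, Ideal.Quotient.mk Q r ∈ nonZeroDivisors (R ⧸ Q) → ∀ y : J, r • y = 0 → y = 0) :
    Nontrivial (Abelian.Ext (ModuleCat.of R I) (ModuleCat.of R J) 1) := by
  obtain ⟨n, hn⟩ := hPQ
  obtain ⟨r, hrm, hrQ⟩ := exists_mem_maximalIdeal_mk_mem_nonZeroDivisors R Q hQdim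
  have hrJ : ∀ y : J, r • y = 0 → y = 0 := hJtf r hrQ
  have hrpow : ∀ (k : ℕ) (y : J), r ^ k • y = 0 → y = 0 := by
    intro k
    induction k with
    | zero => intro y hy; simpa using hy
    | succ k ih =>
      intro y hy
      rw [pow_succ, mul_smul] at hy
      exact hrJ y (ih _ hy)
  -- `Hom(I, J) = 0`
  have hhom : Subsingleton (I →ₗ[R] J) := by
    refine ⟨fun φ ψ => ?_⟩
    have key : ∀ χ : I →ₗ[R] J, χ = 0 := by
      intro χ
      ext x
      apply hrpow n
      have hmem : r ^ n ∈ P ⊔ Q := hn (Ideal.pow_mem_pow hrm n)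
      obtain ⟨p, hp, q, hq, hpq⟩ := Submodule.mem_sup.1 hmem
      rw [← hpq, add_smul, hQJ q hq, add_zero, ← map_smul, hPI p hp, map_zero]
    rw [key φ, key ψ]
  by_contra hcon
  rw [not_nontrivial_iff_subsingleton] at hcon
  set a : Ideal R := Module.annihilator R I with ha
  have hatop : a ≠ ⊤ := by
    intro h
    have h1 : (1 : R) ∈ a := h ▸ Submodule.mem_top
    have h2 := Module.mem_annihilator.mp h1
    obtain ⟨x, hx⟩ := exists_ne (0 : I)
    exact hx (by rw [← one_smul R x, h2 x])
  have ham : a ≤ maximalIdeal R := IsLocalRing.le_maximalIdeal hatop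
  have hsmul : a • (⊤ : Submodule R (ModuleCat.of R J)) < ⊤ := by
    rw [lt_top_iff_ne_top]
    intro h
    have := Submodule.top_ne_ideal_smul_of_le_jacobson_annihilator (R := R) (M := J) (I := a)
      (ham.trans (IsLocalRing.maximalIdeal_le_jacobson _))
    exact this h.symm
  have hsupp : Module.support R (ModuleCat.of R I) = PrimeSpectrum.zeroLocus a := by
    change Module.support R I = _
    rw [Module.support_eq_zeroLocus]
  have hext : ∀ i < 2, Subsingleton (Abelian.Ext (ModuleCat.of R I) (ModuleCat.of R J) i) := by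
    intro i hi
    interval_cases i
    · haveI : Subsingleton (ModuleCat.of R I ⟶ ModuleCat.of R J) :=
        ModuleCat.homAddEquiv.subsingleton
      exact Abelian.Ext.addEquiv₀.subsingleton
    · exact hcon
  obtain ⟨rs, hlen, hmem, hreg⟩ := ModuleCat.exists_isRegular_of_exists_subsingleton_ext a 2
    (ModuleCat.of R J) hsmul (ModuleCat.of R I) hsupp hext
  -- depth `J ≥ 2`
  have hdepth : ((2 : ℕ) : ℕ∞) ≤ LocCoh.depth R J := by
    unfold LocCoh.depth
    rw [Groth.Agent.DepthLib.le_idealDepth_iff]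
    exact Or.inr ⟨rs, hreg.toIsWeaklyRegular, fun r hr => ham (hmem r hr), hlen⟩
  -- but `dim J ≤ 1`
  have hdim : Module.supportDim R J ≤ 1 := by
    rw [Module.supportDim_eq_ringKrullDim_quotient_annihilator]
    have hle : Q ≤ Module.annihilator R J := fun q hq => Module.mem_annihilator.2 (hQJ q hq)
    have := ringKrullDim_le_of_surjective (Ideal.Quotient.factor hle)
      (Ideal.Quotient.factor_surjective hle)
    rw [hQdim] at this
    exact this
  have h3 := (Groth.Agent.DepthLib.depth_le_supportDim R J).trans hdim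
  have h4 : ((2 : ℕ∞) : WithBot ℕ∞) ≤ ((LocCoh.depth R J : ℕ∞) : WithBot ℕ∞) := by
    exact_mod_cast hdepth
  have h5 := h4.trans h3
  have h6 : (2 : ℕ∞) ≤ 1 := by exact_mod_cast h5
  exact absurd h6 (by decide)

end Groth.Agent.ExtMeet9
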