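import Mathlib
import Groth.Prelude.Def_Exal2
import Groth.Agent.Lib.ExtCompl_helper1

set_option autoImplicit false
universe u

namespace Groth.Agent.Lib.ExtPSH1

open IsLocalRing Groth.Agent.Lib.ExtDerH1 Groth.Agent.Lib.ExtComplH1

/-- The ideal of the variables in the power series ring. -/
noncomputable abbrev XI (Λ : Type u) [CommRing Λ] (d : ℕ) : Ideal (MvPowerSeries (Fin d) Λ) :=
  Ideal.span (Set.range (MvPowerSeries.X : Fin d → MvPowerSeries (Fin d) Λ))

section PS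

variable {Λ : Type u} [CommRing Λ] {d : ℕ}

/-- The coercion of polynomials to power series as an algebra map. -/
noncomputable def coeAlg : MvPolynomial (Fin d) Λ →ₐ[Λ] MvPowerSeries (Fin d) Λ :=
  { (MvPolynomial.coeToMvPowerSeries.ringHom : MvPolynomial (Fin d) Λ →+* MvPowerSeries (Fin d) Λ)
      with
    commutes' := fun a => MvPolynomial.coe_C a }

theorem coeAlg_apply (p : MvPolynomial (Fin d) Λ) :
    coeAlg p = (p : MvPowerSeries (Fin d) Λ) := rfl

theorem mem_pow_of_truncTotal_mem (M : ℕ) (f : MvPowerSeries (Fin d) Λ)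
    (hf : MvPowerSeries.truncTotal M f ∈ MvPolynomial.idealOfVars (Fin d) Λ ^ M) :
    f ∈ XI Λ d ^ M := by
  have h1 : AdicCompletion.eval (MvPolynomial.idealOfVars (Fin d) Λ) (MvPolynomial (Fin d) Λ) M
      (MvPowerSeries.toAdicCompletionAlgEquiv (Fin d) Λ f) = 0 := by
    rw [AdicCompletion.eval_apply]
    show (MvPowerSeries.toAdicCompletion (Fin d) Λ f).val M = 0
    rw [MvPowerSeries.toAdicCompletion_apply_eq_mk_truncTotal]
    refine (Submodule.Quotient.mk_eq_zero _).2 ?_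
    simpa using hf
  have h2 : MvPowerSeries.toAdicCompletionAlgEquiv (Fin d) Λ f ∈
      (MvPolynomial.idealOfVars (Fin d) Λ ^ M • ⊤ : Submodule (MvPolynomial (Fin d) Λ)
        (AdicCompletion (MvPolynomial.idealOfVars (Fin d) Λ) (MvPolynomial (Fin d) Λ))) := by
    rw [AdicCompletion.pow_smul_top_eq_ker_eval (MvPolynomial.idealOfVars_fg (Fin d) Λ)]
    exact h1
  have hmap : Ideal.map (algebraMap (MvPolynomial (Fin d) Λ) (MvPowerSeries (Fin d) Λ))
      (MvPolynomial.idealOfVars (Fin d) Λ ^ M) ≤ XI Λ d ^ M := by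
    rw [Ideal.map_pow]
    refine Ideal.pow_right_mono ?_ M
    rw [Ideal.map_span, Ideal.span_le]
    rintro _ ⟨_, ⟨i, rfl⟩, rfl⟩
    have : algebraMap (MvPolynomial (Fin d) Λ) (MvPowerSeries (Fin d) Λ) (MvPolynomial.X i)
        = MvPowerSeries.X i := by
      rw [MvPowerSeries.algebraMap_apply', MvPolynomial.coe_X]
      simp
    rw [this]
    exact Ideal.subset_span ⟨i, rfl⟩
  have h3 : ∀ y ∈ (MvPolynomial.idealOfVars (Fin d) Λ ^ M • ⊤ :
      Submodule (MvPolynomial (Fin d) Λ)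
        (AdicCompletion (MvPolynomial.idealOfVars (Fin d) Λ) (MvPolynomial (Fin d) Λ))),
      (MvPowerSeries.toAdicCompletionAlgEquiv (Fin d) Λ).symm y ∈ XI Λ d ^ M := by
    intro y hy
    refine Submodule.smul_induction_on hy ?_ ?_
    · intro s hs t _
      rw [map_smul, Algebra.smul_def]
      exact Ideal.mul_mem_right _ _ (hmap (Ideal.mem_map_of_mem _ hs))
    · intro x y hx hy
      rw [map_add]
      exact Ideal.add_mem _ hx hy
  have := h3 _ h2
  rwa [AlgEquiv.symm_apply_apply] at this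

theorem map_eq_map_truncTotal {S : Type u} [CommRing S] (φ : MvPowerSeries (Fin d) Λ →+* S)
    (M : ℕ) (hφ : ∀ g ∈ XI Λ d ^ M, φ g = 0) (f : MvPowerSeries (Fin d) Λ) :
    φ f = φ ((MvPowerSeries.truncTotal M f : MvPolynomial (Fin d) Λ) :
      MvPowerSeries (Fin d) Λ) := by
  have hmem : f - ((MvPowerSeries.truncTotal M f : MvPolynomial (Fin d) Λ) :
      MvPowerSeries (Fin d) Λ) ∈ XI Λ d ^ M := by
    apply mem_pow_of_truncTotal_mem
    rw [MvPolynomial.mem_pow_idealOfVars_iff']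
    intro x hx
    rw [MvPowerSeries.coeff_truncTotal _ hx, map_sub, MvPolynomial.coeff_coe,
      MvPowerSeries.coeff_truncTotal _ hx, sub_self]
  have := hφ _ hmem
  rw [map_sub, sub_eq_zero] at this
  exact this

theorem truncTotal_C (M : ℕ) (hM : M ≠ 0) (a : Λ) :
    MvPowerSeries.truncTotal M (MvPowerSeries.C a : MvPowerSeries (Fin d) Λ)
      = MvPolynomial.C a := by
  classical
  ext x
  rw [MvPowerSeries.coeff_truncTotal_eq_ite, MvPowerSeries.coeff_C, MvPolynomial.coeff_C]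
  by_cases hx : x = 0
  · subst hx
    simp [Nat.pos_of_ne_zero hM]
  · rw [if_neg hx, if_neg (Ne.symm hx)]
    simp

theorem exists_evalHom {Q : Type u} [CommRing Q] [Algebra Λ Q] (q : Fin d → Q) (𝔫 : Ideal Q)
    (hq : ∀ i, q i ∈ 𝔫) (M : ℕ) (hM : M ≠ 0) (h𝔫 : 𝔫 ^ M = ⊥) :
    ∃ ev : MvPowerSeries (Fin d) Λ →ₐ[Λ] Q,
      ∀ f, ev f = MvPolynomial.aeval q (MvPowerSeries.truncTotal M f) := by
  have hkill : ∀ p ∈ MvPolynomial.idealOfVars (Fin d) Λ ^ M, MvPolynomial.aeval q p = 0 := by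
    intro p hp
    have h1 : Ideal.map (MvPolynomial.aeval q : MvPolynomial (Fin d) Λ →ₐ[Λ] Q)
        (MvPolynomial.idealOfVars (Fin d) Λ ^ M) ≤ 𝔫 ^ M := by
      rw [Ideal.map_pow]
      refine Ideal.pow_right_mono ?_ M
      rw [Ideal.map_span, Ideal.span_le]
      rintro _ ⟨_, ⟨i, rfl⟩, rfl⟩
      show MvPolynomial.aeval q (MvPolynomial.X i) ∈ 𝔫
      rw [MvPolynomial.aeval_X]
      exact hq i
    have := h1 (Ideal.mem_map_of_mem _ hp)
    rwa [h𝔫, Ideal.mem_bot] at this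
  refine ⟨{ toFun := fun f => MvPolynomial.aeval q (MvPowerSeries.truncTotal M f)
            map_one' := ?_
            map_mul' := ?_
            map_zero' := ?_
            map_add' := ?_
            commutes' := ?_ }, fun f => rfl⟩
  · show MvPolynomial.aeval q (MvPowerSeries.truncTotal M (1 : MvPowerSeries (Fin d) Λ)) = 1
    rw [MvPowerSeries.truncTotal_one hM, map_one]
  · intro f g
    show MvPolynomial.aeval q (MvPowerSeries.truncTotal M (f * g)) =
      MvPolynomial.aeval q (MvPowerSeries.truncTotal M f) *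
        MvPolynomial.aeval q (MvPowerSeries.truncTotal M g)
    rw [← map_mul, ← sub_eq_zero, ← map_sub]
    exact hkill _ (MvPowerSeries.truncTotal_mul_sub_mul_truncTotal_mem_pow_idealOfVars f g)
  · show MvPolynomial.aeval q (MvPowerSeries.truncTotal M (0 : MvPowerSeries (Fin d) Λ)) = 0
    rw [map_zero, map_zero]
  · intro f g
    show MvPolynomial.aeval q (MvPowerSeries.truncTotal M (f + g)) =
      MvPolynomial.aeval q (MvPowerSeries.truncTotal M f) +
        MvPolynomial.aeval q (MvPowerSeries.truncTotal M g)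
    rw [map_add, map_add]
  · intro a
    show MvPolynomial.aeval q (MvPowerSeries.truncTotal M
      (algebraMap Λ (MvPowerSeries (Fin d) Λ) a)) = algebraMap Λ Q a
    rw [← MvPowerSeries.c_eq_algebraMap, truncTotal_C M hM, MvPolynomial.aeval_C]

end PS

section Lift

variable {Λ R L : Type u} [CommRing Λ] [CommRing R] [Algebra Λ R] [IsLocalRing R]
  [AddCommGroup L] [Module R L]

/-- The induced map on the quotient. -/
noncomputable def pbar' (Y : Exal.Ext Λ R L) (I : Ideal Y.E) (n : ℕ)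
    (hI2 : Ideal.map Y.proj I = maximalIdeal R ^ (n + 1)) :
    (Y.E ⧸ I) →ₐ[Λ] (R ⧸ maximalIdeal R ^ (n + 1)) :=
  Ideal.Quotient.liftₐ I ((Ideal.Quotient.mkₐ Λ (maximalIdeal R ^ (n + 1))).comp Y.proj)
    (fun y hy => by
      show Ideal.Quotient.mk _ (Y.proj y) = 0
      rw [Ideal.Quotient.eq_zero_iff_mem, ← hI2]
      exact Ideal.mem_map_of_mem _ hy)

theorem pbar'_mk (Y : Exal.Ext Λ R L) (I : Ideal Y.E) (n : ℕ)
    (hI2 : Ideal.map Y.proj I = maximalIdeal R ^ (n + 1)) (y : Y.E) :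
    pbar' Y I n hI2 (Ideal.Quotient.mk I y) = Ideal.Quotient.mk _ (Y.proj y) := rfl

theorem agree_on_sq (hL : ∀ s ∈ maximalIdeal R, ∀ z : L, s • z = 0) {P : Type u} [CommRing P]
    (𝔛 : Ideal P) (π : P →+* R) (hπ : ∀ g ∈ 𝔛, π g ∈ maximalIdeal R) (W : Exal.Ext Λ R L)
    (v v' : P →+* W.E) (hv : ∀ p, W.proj (v p) = π p) (hv' : ∀ p, W.proj (v' p) = π p) :
    ∀ j ∈ 𝔛 ^ 2, v j = v' j := by
  intro j hj
  rw [pow_two] at hj
  refine Submodule.mul_induction_on hj ?_ ?_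
  · intro f hf g hg
    obtain ⟨wf, hwf⟩ := (W.isExtension.exact (v f - v' f)).1 (by rw [map_sub, hv, hv', sub_self])
    obtain ⟨wg, hwg⟩ := (W.isExtension.exact (v g - v' g)).1 (by rw [map_sub, hv, hv', sub_self])
    have h1 : v g * W.incl wf = 0 := by
      rw [W.isExtension.mul_incl, hv, hL _ (hπ g hg), map_zero]
    have h2 : v' f * W.incl wg = 0 := by
      rw [W.isExtension.mul_incl, hv', hL _ (hπ f hf), map_zero]
    rw [map_mul, map_mul]
    rw [hwf] at h1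
    rw [hwg] at h2
    linear_combination h1 + h2
  · intro x y hx hy
    rw [map_add, map_add, hx, hy]

theorem exists_lift (hL : ∀ s ∈ maximalIdeal R, ∀ z : L, s • z = 0) {d : ℕ}
    (π : MvPowerSeries (Fin d) Λ →ₐ[Λ] R)
    (hπX : ∀ i, π (MvPowerSeries.X i) ∈ maximalIdeal R) (n : ℕ)
    (X : Exal.Ext Λ R L) (I : Ideal X.E) (hI1 : ∀ x ∈ I, X.proj x = 0 → x = 0)
    (hI2 : Ideal.map X.proj I = maximalIdeal R ^ (n + 1)) :
    ∃ u : MvPowerSeries (Fin d) Λ →ₐ[Λ] X.E, ∀ p, X.proj (u p) = π p := by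
  classical
  have hsurj := X.isExtension.proj_surjective
  obtain ⟨𝔫, h𝔫⟩ : ∃ 𝔫 : Ideal X.E, ∀ y, y ∈ 𝔫 ↔ X.proj y ∈ maximalIdeal R :=
    ⟨Ideal.comap X.proj (maximalIdeal R), fun _ => Iff.rfl⟩
  have hkill : ∀ y ∈ 𝔫, ∀ z : L, y * X.incl z = 0 := by
    intro y hy z
    rw [X.isExtension.mul_incl, hL _ ((h𝔫 y).1 hy), map_zero]
  have hmap : ∀ m : ℕ, Ideal.map X.proj (𝔫 ^ m) = maximalIdeal R ^ m := by
    intro m
    have : 𝔫 = Ideal.comap X.proj (maximalIdeal R) := Ideal.ext (fun y => h𝔫 y)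
    rw [Ideal.map_pow, this, Ideal.map_comap_of_surjective _ hsurj]
  have hle : 𝔫 ^ (n + 1 + 1) ≤ I := by
    rw [pow_succ, Ideal.mul_le]
    intro y hy w hw
    have hy' : X.proj y ∈ Ideal.map X.proj I := by
      rw [hI2, ← hmap]; exact Ideal.mem_map_of_mem _ hy
    obtain ⟨i, hi, hiy⟩ := (Ideal.mem_map_iff_of_surjective _ hsurj).1 hy'
    obtain ⟨z, hz⟩ := (X.isExtension.exact (y - i)).1 (by rw [map_sub, hiy, sub_self])
    have : y * w = i * w + w * X.incl z := by rw [hz]; ring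
    rw [this, hkill w hw, add_zero]
    exact Ideal.mul_mem_right _ _ hi
  choose e he using fun i => hsurj (π (MvPowerSeries.X i))
  have he𝔫 : ∀ i, e i ∈ 𝔫 := fun i => by rw [h𝔫, he]; exact hπX i
  have h𝔫Q : (Ideal.map (Ideal.Quotient.mk I) 𝔫) ^ (n + 1 + 1) = ⊥ := by
    rw [← Ideal.map_pow, Ideal.map_eq_bot_iff_le_ker, Ideal.mk_ker]
    exact hle
  obtain ⟨ev, hev⟩ := exists_evalHom (Λ := Λ) (fun i => Ideal.Quotient.mk I (e i))
    (Ideal.map (Ideal.Quotient.mk I) 𝔫) (fun i => Ideal.mem_map_of_mem _ (he𝔫 i))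
    (n + 1 + 1) (Nat.succ_ne_zero _) h𝔫Q
  obtain ⟨φ₂, hφ₂def⟩ : ∃ φ₂ : MvPowerSeries (Fin d) Λ →ₐ[Λ] (R ⧸ maximalIdeal R ^ (n + 1)),
      ∀ f, φ₂ f = Ideal.Quotient.mk (maximalIdeal R ^ (n + 1)) (π f) :=
    ⟨(Ideal.Quotient.mkₐ Λ _).comp π, fun _ => rfl⟩
  have hφ₂ : ∀ g ∈ XI Λ d ^ (n + 1 + 1), φ₂ g = 0 := by
    intro g hg
    have h2 : Ideal.map φ₂ (XI Λ d) ≤
        Ideal.map (Ideal.Quotient.mk (maximalIdeal R ^ (n + 1))) (maximalIdeal R) := by
      rw [Ideal.map_span, Ideal.span_le]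
      rintro _ ⟨_, ⟨i, rfl⟩, rfl⟩
      show φ₂ (MvPowerSeries.X i) ∈ _
      rw [hφ₂def]
      exact Ideal.mem_map_of_mem _ (hπX i)
    have h1 : Ideal.map φ₂ (XI Λ d ^ (n + 1 + 1)) ≤ ⊥ := by
      rw [Ideal.map_pow]
      refine (Ideal.pow_right_mono h2 _).trans ?_
      rw [← Ideal.map_pow, le_bot_iff, Ideal.map_eq_bot_iff_le_ker, Ideal.mk_ker]
      exact Ideal.pow_le_pow_right (Nat.le_succ _)
    exact (Ideal.mem_bot).1 (h1 (Ideal.mem_map_of_mem _ hg))
  have hcompat : ∀ f, pbar' X I n hI2 (ev f) =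
      Ideal.Quotient.mk (maximalIdeal R ^ (n + 1)) (π f) := by
    intro f
    have e1 := map_eq_map_truncTotal (S := R ⧸ maximalIdeal R ^ (n + 1))
      (φ₂ : MvPowerSeries (Fin d) Λ →+* (R ⧸ maximalIdeal R ^ (n + 1))) (n + 1 + 1)
      (fun g hg => hφ₂ g hg) f
    have e2 : (pbar' X I n hI2).comp
        (MvPolynomial.aeval (fun i => Ideal.Quotient.mk I (e i))) = φ₂.comp coeAlg := by
      apply MvPolynomial.algHom_ext
      intro i
      show pbar' X I n hI2 (MvPolynomial.aeval (fun i => Ideal.Quotient.mk I (e i))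
        (MvPolynomial.X i)) = φ₂ (coeAlg (MvPolynomial.X i))
      rw [MvPolynomial.aeval_X, pbar'_mk, he, coeAlg_apply, MvPolynomial.coe_X, hφ₂def]
    rw [← hφ₂def, hev]
    have e3 := AlgHom.congr_fun e2 (MvPowerSeries.truncTotal (n + 1 + 1) f)
    rw [AlgHom.comp_apply, AlgHom.comp_apply, coeAlg_apply] at e3
    rw [e3]
    exact e1.symm
  obtain ⟨F, hF⟩ : ∃ F : Subalgebra Λ ((X.E ⧸ I) × R), ∀ t : (X.E ⧸ I) × R, t ∈ F ↔
      pbar' X I n hI2 t.1 = Ideal.Quotient.mk (maximalIdeal R ^ (n + 1)) t.2 :=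
    ⟨AlgHom.equalizer ((pbar' X I n hI2).comp (AlgHom.fst Λ (X.E ⧸ I) R))
      ((Ideal.Quotient.mkₐ Λ (maximalIdeal R ^ (n + 1))).comp (AlgHom.snd Λ (X.E ⧸ I) R)),
      fun _ => Iff.rfl⟩
  let ι : X.E →ₐ[Λ] F := AlgHom.codRestrict (AlgHom.prod (Ideal.Quotient.mkₐ Λ I) X.proj) F
    (fun y => (hF _).2 rfl)
  have hι : Function.Bijective ι := by
    constructor
    · rw [injective_iff_map_eq_zero]
      intro y hy
      have h1 : Ideal.Quotient.mk I y = 0 :=
        congrArg (fun t : F => (t : (X.E ⧸ I) × R).1) hy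
      have h2 : X.proj y = 0 := congrArg (fun t : F => (t : (X.E ⧸ I) × R).2) hy
      exact hI1 y (Ideal.Quotient.eq_zero_iff_mem.1 h1) h2
    · rintro ⟨⟨q', r⟩, ht⟩
      obtain ⟨y₀, rfl⟩ := Ideal.Quotient.mk_surjective q'
      have ht' : Ideal.Quotient.mk (maximalIdeal R ^ (n + 1)) (X.proj y₀) =
          Ideal.Quotient.mk (maximalIdeal R ^ (n + 1)) r := (hF _).1 ht
      rw [Ideal.Quotient.eq, ← hI2, Ideal.mem_map_iff_of_surjective _ hsurj] at ht'
      obtain ⟨i, hi, hir⟩ := ht'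
      refine ⟨y₀ - i, ?_⟩
      apply Subtype.ext
      refine Prod.ext ?_ ?_
      · show Ideal.Quotient.mk I (y₀ - i) = Ideal.Quotient.mk I y₀
        rw [Ideal.Quotient.eq]
        have : y₀ - i - y₀ = -i := by ring
        rw [this]
        exact (Ideal.neg_mem_iff _).2 hi
      · show X.proj (y₀ - i) = r
        rw [map_sub, hir]; ring
  let v : MvPowerSeries (Fin d) Λ →ₐ[Λ] F := AlgHom.codRestrict (AlgHom.prod ev π) F
    (fun f => (hF _).2 (hcompat f))
  refine ⟨(AlgEquiv.ofBijective ι hι).symm.toAlgHom.comp v, fun p => ?_⟩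
  have key : ∀ t : F, X.proj ((AlgEquiv.ofBijective ι hι).symm t) = (t : (X.E ⧸ I) × R).2 := by
    intro t
    obtain ⟨y, rfl⟩ := hι.2 t
    rw [show (AlgEquiv.ofBijective ι hι).symm (ι y) = y from
      (AlgEquiv.ofBijective ι hι).symm_apply_apply y]
    rfl
  exact key (v p)

end Lift

section Quot

variable {Λ P L : Type u} [CommRing Λ] [CommRing P] [Algebra Λ P] (J : Ideal P)
  [AddCommGroup L] [Module (P ⧸ J) L] [Module P L] [IsScalarTower P (P ⧸ J) L]

theorem equiv_of_agree (X X' : Exal.Ext Λ (P ⧸ J) L) (u : P →ₐ[Λ] X.E) (u' : P →ₐ[Λ] X'.E)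
    (hu : ∀ p, X.proj (u p) = Ideal.Quotient.mk J p)
    (hu' : ∀ p, X'.proj (u' p) = Ideal.Quotient.mk J p)
    (h : ∀ j ∈ J, ∃ z : L, X.incl z = u j ∧ X'.incl z = u' j) : Nonempty (X.Equiv X') := by
  obtain ⟨G, hG⟩ : ∃ G : Subalgebra Λ (X.E × X'.E), ∀ t, t ∈ G ↔
      ∃ (p : P) (z : L), t = (u p + X.incl z, u' p + X'.incl z) := by
    refine ⟨{ carrier := {t | ∃ (p : P) (z : L), t = (u p + X.incl z, u' p + X'.incl z)}
              mul_mem' := ?_
              one_mem' := ?_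
              add_mem' := ?_
              zero_mem' := ?_
              algebraMap_mem' := ?_ }, fun _ => Iff.rfl⟩
    · rintro _ _ ⟨p, z, rfl⟩ ⟨p₂, z₂, rfl⟩
      refine ⟨p * p₂, Ideal.Quotient.mk J p • z₂ + Ideal.Quotient.mk J p₂ • z, ?_⟩
      refine Prod.ext ?_ ?_
      · show (u p + X.incl z) * (u p₂ + X.incl z₂) = u (p * p₂) +
          X.incl (Ideal.Quotient.mk J p • z₂ + Ideal.Quotient.mk J p₂ • z)
        have h1 : u p * X.incl z₂ = X.incl (Ideal.Quotient.mk J p • z₂) := by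
          rw [X.isExtension.mul_incl, hu]
        have h2 : u p₂ * X.incl z = X.incl (Ideal.Quotient.mk J p₂ • z) := by
          rw [X.isExtension.mul_incl, hu]
        have h3 := incl_mul_incl X z z₂
        rw [map_mul, map_add]
        linear_combination h1 + h2 + h3
      · show (u' p + X'.incl z) * (u' p₂ + X'.incl z₂) = u' (p * p₂) +
          X'.incl (Ideal.Quotient.mk J p • z₂ + Ideal.Quotient.mk J p₂ • z)
        have h1 : u' p * X'.incl z₂ = X'.incl (Ideal.Quotient.mk J p • z₂) := by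
          rw [X'.isExtension.mul_incl, hu']
        have h2 : u' p₂ * X'.incl z = X'.incl (Ideal.Quotient.mk J p₂ • z) := by
          rw [X'.isExtension.mul_incl, hu']
        have h3 := incl_mul_incl X' z z₂
        rw [map_mul, map_add]
        linear_combination h1 + h2 + h3
    · refine ⟨1, 0, ?_⟩
      rw [map_one, map_one, map_zero, map_zero, add_zero, add_zero]; rfl
    · rintro _ _ ⟨p, z, rfl⟩ ⟨p₂, z₂, rfl⟩
      refine ⟨p + p₂, z + z₂, ?_⟩
      refine Prod.ext ?_ ?_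
      · show (u p + X.incl z) + (u p₂ + X.incl z₂) = u (p + p₂) + X.incl (z + z₂)
        rw [map_add, map_add]; ring
      · show (u' p + X'.incl z) + (u' p₂ + X'.incl z₂) = u' (p + p₂) + X'.incl (z + z₂)
        rw [map_add, map_add]; ring
    · refine ⟨0, 0, ?_⟩
      rw [map_zero, map_zero, map_zero, map_zero, add_zero, add_zero]; rfl
    · intro a
      refine ⟨algebraMap Λ P a, 0, ?_⟩
      rw [u.commutes, u'.commutes, map_zero, map_zero, add_zero, add_zero]; rfl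
  let f1 : G →ₐ[Λ] X.E := (AlgHom.fst Λ X.E X'.E).comp G.val
  let f2 : G →ₐ[Λ] X'.E := (AlgHom.snd Λ X.E X'.E).comp G.val
  have hf1 : Function.Bijective f1 := by
    constructor
    · rw [injective_iff_map_eq_zero]
      rintro ⟨⟨x, x'⟩, hg⟩ h0
      have hx : x = 0 := h0
      obtain ⟨p, z, hpz⟩ := (hG _).1 hg
      have hx1 : x = u p + X.incl z := congrArg Prod.fst hpz
      have hx2 : x' = u' p + X'.incl z := congrArg Prod.snd hpz
      have hpJ : p ∈ J := by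
        have : X.proj x = 0 := by rw [hx, map_zero]
        rw [hx1, map_add, hu, proj_incl, add_zero, Ideal.Quotient.eq_zero_iff_mem] at this
        exact this
      obtain ⟨w, hw1, hw2⟩ := h p hpJ
      have hwz : w = -z := by
        apply X.isExtension.incl_injective
        rw [hw1, map_neg]
        rw [hx] at hx1
        linear_combination (-1 : X.E) * hx1
      have hx'0 : x' = 0 := by
        rw [hx2, ← hw2, hwz, map_neg]; ring
      apply Subtype.ext
      exact Prod.ext hx hx'0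
    · intro x
      obtain ⟨p, hp⟩ := Ideal.Quotient.mk_surjective (X.proj x)
      obtain ⟨z, hz⟩ := (X.isExtension.exact (x - u p)).1 (by rw [map_sub, hu, hp, sub_self])
      refine ⟨⟨(u p + X.incl z, u' p + X'.incl z), (hG _).2 ⟨p, z, rfl⟩⟩, ?_⟩
      show u p + X.incl z = x
      rw [hz]; ring
  refine equiv_of_hom X X' (f2.comp (AlgEquiv.ofBijective f1 hf1).symm.toAlgHom) ?_ ?_
  · intro x
    obtain ⟨g, rfl⟩ := hf1.2 x
    have h1 : (AlgEquiv.ofBijective f1 hf1).symm (f1 g) = g :=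
      (AlgEquiv.ofBijective f1 hf1).symm_apply_apply g
    show X'.proj (f2 ((AlgEquiv.ofBijective f1 hf1).symm (f1 g))) = X.proj (f1 g)
    rw [h1]
    obtain ⟨p, z, hpz⟩ := (hG _).1 g.2
    have hx1 : f1 g = u p + X.incl z := congrArg Prod.fst hpz
    have hx2 : f2 g = u' p + X'.incl z := congrArg Prod.snd hpz
    rw [hx1, hx2, map_add, map_add, hu, hu', proj_incl, proj_incl]
  · intro z
    have hmem : ((X.incl z, X'.incl z) : X.E × X'.E) ∈ G :=
      (hG _).2 ⟨0, z, by rw [map_zero, map_zero, zero_add, zero_add]⟩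
    have h1 : (AlgEquiv.ofBijective f1 hf1).symm (X.incl z) = ⟨_, hmem⟩ := by
      rw [AlgEquiv.symm_apply_eq]; rfl
    show f2 ((AlgEquiv.ofBijective f1 hf1).symm (X.incl z)) = X'.incl z
    rw [h1]; rfl

theorem exists_ext_of_linearMap (δ : J →ₗ[P] L) :
    ∃ (X : Exal.Ext Λ (P ⧸ J) L) (u : P →ₐ[Λ] X.E),
      (∀ p, X.proj (u p) = Ideal.Quotient.mk J p) ∧ ∀ j : J, X.incl (δ j) = u j := by
  obtain ⟨T₀, hT₀⟩ : ∃ T₀ : Exal.Ext Λ P L, T₀.IsTrivial := ⟨_, trivial_isTrivial⟩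
  obtain ⟨s₀, hs₀⟩ := hT₀
  have hs₀' : ∀ b, T₀.proj ((s₀ : P →+* T₀.E) b) = b := hs₀
  have hJL : ∀ j ∈ J, ∀ z : L, j • z = 0 := by
    intro j hj z
    rw [← algebraMap_smul (P ⧸ J) j z, Ideal.Quotient.algebraMap_eq,
      Ideal.Quotient.eq_zero_iff_mem.2 hj, zero_smul]
  have hPL : ∀ (p : P) (z : L), Ideal.Quotient.mk J p • z = p • z := by
    intro p z
    rw [← Ideal.Quotient.algebraMap_eq, algebraMap_smul]
  obtain ⟨K, hK⟩ : ∃ K : Ideal T₀.E, ∀ t, t ∈ K ↔ ∃ j : J, t = s₀ (j : P) - T₀.incl (δ j) := by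
    refine ⟨{ carrier := {t | ∃ j : J, t = s₀ (j : P) - T₀.incl (δ j)}
              add_mem' := ?_
              zero_mem' := ?_
              smul_mem' := ?_ }, fun _ => Iff.rfl⟩
    · rintro _ _ ⟨j, rfl⟩ ⟨j', rfl⟩
      refine ⟨j + j', ?_⟩
      rw [Submodule.coe_add, map_add, map_add, map_add]; ring
    · exact ⟨0, by rw [Submodule.coe_zero, map_zero, map_zero, map_zero, sub_zero]⟩
    · rintro c _ ⟨j, rfl⟩
      refine ⟨T₀.proj c • j, ?_⟩
      have hc : c = s₀ (T₀.proj c) + T₀.incl (delta (s₀ : P →+* T₀.E) hs₀' c) := by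
        rw [incl_delta]
        show c = s₀ (T₀.proj c) + (c - s₀ (T₀.proj c))
        ring
      have h1 : c * T₀.incl (δ j) = T₀.incl (T₀.proj c • δ j) := T₀.isExtension.mul_incl _ _
      have h2 : T₀.incl (delta (s₀ : P →+* T₀.E) hs₀' c) * s₀ (j : P) = 0 := by
        rw [mul_comm, T₀.isExtension.mul_incl, hs₀, hJL _ j.2, map_zero]
      have h3 : c * s₀ (j : P) = s₀ (T₀.proj c) * s₀ (j : P) := by
        calc c * s₀ (j : P)
            = (s₀ (T₀.proj c) + T₀.incl (delta (s₀ : P →+* T₀.E) hs₀' c)) * s₀ (j : P) := by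
              rw [← hc]
          _ = s₀ (T₀.proj c) * s₀ (j : P) := by rw [add_mul, h2, add_zero]
      rw [smul_eq_mul, map_smul, Submodule.coe_smul, smul_eq_mul, map_mul, mul_sub, h1, h3]
  have hKproj : ∀ t ∈ K, Ideal.Quotient.mk J (T₀.proj t) = 0 := by
    intro t ht
    obtain ⟨j, rfl⟩ := (hK t).1 ht
    rw [map_sub, hs₀, proj_incl, sub_zero, Ideal.Quotient.eq_zero_iff_mem]
    exact j.2
  obtain ⟨projX, hprojX⟩ : ∃ projX : (T₀.E ⧸ K) →ₐ[Λ] (P ⧸ J),
      ∀ t, projX (Ideal.Quotient.mk K t) = Ideal.Quotient.mk J (T₀.proj t) :=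
    ⟨Ideal.Quotient.liftₐ K ((Ideal.Quotient.mkₐ Λ J).comp T₀.proj) hKproj, fun _ => rfl⟩
  obtain ⟨inclX, hinclX⟩ : ∃ inclX : L →+ (T₀.E ⧸ K),
      ∀ z, inclX z = Ideal.Quotient.mk K (T₀.incl z) :=
    ⟨(Ideal.Quotient.mk K).toAddMonoidHom.comp T₀.incl, fun _ => rfl⟩
  have hext : Exal.IsExtension (A := Λ) (B := P ⧸ J) (E := T₀.E ⧸ K) (L := L) projX inclX := by
    refine ⟨?_, ?_, ?_, ?_⟩
    · intro r
      obtain ⟨p, rfl⟩ := Ideal.Quotient.mk_surjective r
      exact ⟨Ideal.Quotient.mk K (s₀ p), by rw [hprojX, hs₀]⟩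
    · rw [injective_iff_map_eq_zero]
      intro z hz
      rw [hinclX, Ideal.Quotient.eq_zero_iff_mem, hK] at hz
      obtain ⟨j, hj⟩ := hz
      have hj0 : (j : P) = 0 := by
        have := congrArg T₀.proj hj
        rw [proj_incl, map_sub, hs₀, proj_incl, sub_zero] at this
        exact this.symm
      have hj0' : j = 0 := Subtype.ext hj0
      rw [hj0', Submodule.coe_zero, map_zero, map_zero, map_zero, sub_zero] at hj
      exact T₀.isExtension.incl_injective (by rw [hj, map_zero])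
    · intro x
      obtain ⟨c, rfl⟩ := Ideal.Quotient.mk_surjective x
      constructor
      · intro hx
        rw [hprojX, Ideal.Quotient.eq_zero_iff_mem] at hx
        have hc : c = s₀ (T₀.proj c) + T₀.incl (delta (s₀ : P →+* T₀.E) hs₀' c) := by
          rw [incl_delta]
          show c = s₀ (T₀.proj c) + (c - s₀ (T₀.proj c))
          ring
        refine ⟨delta (s₀ : P →+* T₀.E) hs₀' c + δ ⟨T₀.proj c, hx⟩, ?_⟩
        rw [hinclX, Ideal.Quotient.eq, hK]
        refine ⟨-⟨T₀.proj c, hx⟩, ?_⟩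
        rw [map_neg, map_neg, Submodule.coe_neg, map_neg, map_add]
        show _ = -s₀ (T₀.proj c) - -T₀.incl (δ ⟨T₀.proj c, hx⟩)
        linear_combination -hc
      · rintro ⟨z, hz⟩
        rw [← hz, hinclX, hprojX, proj_incl, map_zero]
    · intro x z
      obtain ⟨c, rfl⟩ := Ideal.Quotient.mk_surjective x
      rw [hinclX, hinclX, ← map_mul, T₀.isExtension.mul_incl, hprojX, hPL]
  refine ⟨{ E := T₀.E ⧸ K, proj := projX, incl := inclX, isExtension := hext },
    (Ideal.Quotient.mkₐ Λ K).comp s₀, fun p => ?_, fun j => ?_⟩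
  · show projX (Ideal.Quotient.mk K (s₀ p)) = _
    rw [hprojX, hs₀]
  · show inclX (δ j) = Ideal.Quotient.mk K (s₀ (j : P))
    rw [hinclX, Ideal.Quotient.eq, hK]
    refine ⟨-j, ?_⟩
    rw [map_neg, map_neg, Submodule.coe_neg, map_neg]
    ring

end Quot

theorem main11287
    {k : Type u} [Field k] [IsAlgClosed k]
    {Λ : Type u} [CommRing Λ] [Algebra k Λ] [IsLocalRing Λ] [IsNoetherianRing Λ]
    [IsAdicComplete (IsLocalRing.maximalIdeal Λ) Λ]
    (hΛ : ∀ a : Λ, ∃ c : k, a - algebraMap k Λ c ∈ IsLocalRing.maximalIdeal Λ)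
    (d : ℕ) (J : Ideal (MvPowerSeries (Fin d) Λ))
    (hJ : J ≤ Ideal.span (Set.range (MvPowerSeries.X : Fin d → MvPowerSeries (Fin d) Λ)) ^ 2)
    (L : Type u) [AddCommGroup L] [Module (MvPowerSeries (Fin d) Λ ⧸ J) L] [Module (MvPowerSeries (Fin d) Λ) L]
    [IsScalarTower (MvPowerSeries (Fin d) Λ) (MvPowerSeries (Fin d) Λ ⧸ J) L] [IsSimpleModule (MvPowerSeries (Fin d) Λ ⧸ J) L] :
    (∀ X : Exal.Ext Λ (MvPowerSeries (Fin d) Λ ⧸ J) L,
        ∃ u : MvPowerSeries (Fin d) Λ →ₐ[Λ] X.E, ∀ p, X.proj (u p) = Ideal.Quotient.mk J p) ∧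
    (∀ (X X' : Exal.Ext Λ (MvPowerSeries (Fin d) Λ ⧸ J) L) (u : MvPowerSeries (Fin d) Λ →ₐ[Λ] X.E) (u' : MvPowerSeries (Fin d) Λ →ₐ[Λ] X'.E),
        (∀ p, X.proj (u p) = Ideal.Quotient.mk J p) → (∀ p, X'.proj (u' p) = Ideal.Quotient.mk J p) →
        (Nonempty (X.Equiv X') ↔ ∀ j ∈ J, ∃ z : L, X.incl z = u j ∧ X'.incl z = u' j)) ∧
    (∀ δ : J →ₗ[MvPowerSeries (Fin d) Λ] L, ∃ (X : Exal.Ext Λ (MvPowerSeries (Fin d) Λ ⧸ J) L) (u : MvPowerSeries (Fin d) Λ →ₐ[Λ] X.E),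
        (∀ p, X.proj (u p) = Ideal.Quotient.mk J p) ∧ ∀ j : J, X.incl (δ j) = u j) := by
  classical
  have hcc : ∀ g ∈ XI Λ d, MvPowerSeries.constantCoeff g = 0 := by
    intro g hg
    have hle : XI Λ d ≤ RingHom.ker (MvPowerSeries.constantCoeff (σ := Fin d) (R := Λ)) := by
      rw [Ideal.span_le]
      rintro _ ⟨i, rfl⟩
      exact MvPowerSeries.constantCoeff_X i
    exact hle hg
  have hJX : J ≤ XI Λ d := hJ.trans (Ideal.pow_le_self two_ne_zero)
  have hJtop : J ≠ ⊤ := by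
    intro h
    have h1 : (1 : MvPowerSeries (Fin d) Λ) ∈ J := by rw [h]; trivial
    have := hcc 1 (hJX h1)
    rw [map_one] at this
    exact one_ne_zero this
  haveI : Nontrivial (MvPowerSeries (Fin d) Λ ⧸ J) := Ideal.Quotient.nontrivial_iff.2 hJtop
  haveI : IsLocalRing (MvPowerSeries (Fin d) Λ ⧸ J) :=
    IsLocalRing.of_surjective' (Ideal.Quotient.mk J) Ideal.Quotient.mk_surjective
  have hL : ∀ s ∈ maximalIdeal (MvPowerSeries (Fin d) Λ ⧸ J), ∀ z : L, s • z = 0 :=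
    fun s hs z => smul_eq_zero_of_mem_maximalIdeal s hs z
  have hX : ∀ g ∈ XI Λ d, Ideal.Quotient.mk J g ∈ maximalIdeal (MvPowerSeries (Fin d) Λ ⧸ J) := by
    intro g hg
    rw [IsLocalRing.mem_maximalIdeal, mem_nonunits_iff]
    intro hu
    obtain ⟨y, hy⟩ := hu.exists_right_inv
    obtain ⟨h, rfl⟩ := Ideal.Quotient.mk_surjective y
    rw [← map_mul, ← map_one (Ideal.Quotient.mk J), Ideal.Quotient.eq] at hy
    have := hcc _ (hJX hy)
    rw [map_sub, map_mul, hcc g hg, zero_mul, map_one, zero_sub, neg_eq_zero] at this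
    exact one_ne_zero this
  obtain ⟨n, hn⟩ := core' (Λ := Λ) (R := MvPowerSeries (Fin d) Λ ⧸ J) L hL
  refine ⟨fun X => ?_, fun X X' u u' hu hu' => ⟨fun he j hj => ?_,
    fun h => equiv_of_agree J X X' u u' hu hu' h⟩, fun δ => exists_ext_of_linearMap J δ⟩
  · obtain ⟨I, hI1, hI2⟩ := hn X
    exact exists_lift hL (Ideal.Quotient.mkₐ Λ J)
      (fun i => hX _ (Ideal.subset_span ⟨i, rfl⟩)) n X I hI1 hI2
  · obtain ⟨e⟩ := he
    obtain ⟨z, hz⟩ := (X.isExtension.exact (u j)).1 (by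
      rw [hu, Ideal.Quotient.eq_zero_iff_mem]; exact hj)
    refine ⟨z, hz, ?_⟩
    have := agree_on_sq hL (XI Λ d) (Ideal.Quotient.mk J) hX X'
      ((e.toAlgEquiv.toAlgHom.comp u : MvPowerSeries (Fin d) Λ →ₐ[Λ] X'.E) :
        MvPowerSeries (Fin d) Λ →+* X'.E)
      (u' : MvPowerSeries (Fin d) Λ →+* X'.E)
      (fun p => by
        show X'.proj (e.toAlgEquiv (u p)) = _
        rw [e.proj_apply, hu])
      hu' j (hJ hj)
    have h2 : e.toAlgEquiv (u j) = u' j := this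
    rw [← hz, e.apply_incl] at h2
    exact h2

end Groth.Agent.Lib.ExtPSH1
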