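import Mathlib
import Groth.Agent.Lib.Ext1Rep_helper2

/-!
# `Ext¹(A, ∏ F_i) → ∏ Ext¹(A, F_i)` is injective (helper7)
-/

set_option autoImplicit false
universe w v u
open CategoryTheory CategoryTheory.Limits Abelian

namespace Groth.Agent.Lib.ExtPi_helper7

variable {𝒜 : Type u} [Category.{v} 𝒜] [Abelian 𝒜] [HasExt.{w} 𝒜]

theorem ext_one_pi_eq_zero {I : Type*} (F : I → 𝒜) [HasProduct F] (A : 𝒜)
    (x : Ext.{w} A (∏ᶜ F) 1)
    (h : ∀ i, x.comp (Ext.mk₀ (Pi.π F i)) (add_zero 1) = 0) : x = 0 := by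
  obtain ⟨E, f, g, w, hS, rfl⟩ := Groth.Agent.Lib.Ext1Rep.exists_extClass_eq x
  have hr : ∀ i, ∃ r : E ⟶ F i, f ≫ r = Pi.π F i := by
    intro i
    obtain ⟨y, hy⟩ := Ext.contravariant_sequence_exact₁ hS (F i) (Ext.mk₀ (Pi.π F i)) (add_zero 1) (h i)
    obtain ⟨r, rfl⟩ := (Ext.mk₀_bijective _ _).2 y
    refine ⟨r, ?_⟩
    apply (Ext.mk₀_bijective _ _).1
    rw [← Ext.mk₀_comp_mk₀]
    exact hy
  choose r hr using hr
  have hρ : f ≫ Pi.lift r = 𝟙 _ := by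
    apply Pi.hom_ext
    intro i
    rw [Category.assoc, Pi.lift_π, hr, Category.id_comp]
  calc hS.extClass = hS.extClass.comp (Ext.mk₀ (𝟙 _)) (add_zero 1) := (Ext.comp_mk₀_id _).symm
    _ = hS.extClass.comp (Ext.mk₀ (f ≫ Pi.lift r)) (add_zero 1) := by rw [hρ]
    _ = hS.extClass.comp ((Ext.mk₀ f).comp (Ext.mk₀ (Pi.lift r)) (zero_add 0)) (add_zero 1) := by
        rw [Ext.mk₀_comp_mk₀]
    _ = 0 := hS.extClass_comp_assoc _

theorem ext_one_pi_injective {I : Type*} (F : I → 𝒜) [HasProduct F] (A : 𝒜) :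
    Function.Injective (fun (x : Ext.{w} A (∏ᶜ F) 1) (i : I) =>
      x.comp (Ext.mk₀ (Pi.π F i)) (add_zero 1)) := by
  intro x y hxy
  rw [← sub_eq_zero]
  apply ext_one_pi_eq_zero F A
  intro i
  show ((Ext.mk₀ (Pi.π F i)).postcomp A (add_zero 1)) (x - y) = 0
  rw [map_sub, sub_eq_zero]
  exact congrFun hxy i

end Groth.Agent.Lib.ExtPi_helper7
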