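import Mathlib

/-!
# Exterior powers over `A` of a finite free `A/K`-module (helper6)

`⋀[A]^i ((A/K)^r) ≃ₗ[A] (A/K)^(r choose i)` for `i ≥ 1`.
-/

set_option autoImplicit false
universe u
open Module Set

namespace Groth.Agent.Lib.ExtPowQuotH6

variable {A : Type u} [CommRing A] (K : Ideal A) (r i : ℕ)

/-- the standard basis of `(A/K)^r`. -/
noncomputable abbrev bas : Basis (Fin r) (A ⧸ K) (Fin r → A ⧸ K) := Pi.basisFun (A ⧸ K) (Fin r)

/-- the index type of the basis of the exterior power -/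
abbrev Idx : Type := powersetCard (Fin r) i

/-- the `A/K`-alternating map computing coordinates. -/
noncomputable def altC : (Fin r → A ⧸ K) [⋀^Fin i]→ₗ[A ⧸ K] (Idx r i →₀ A ⧸ K) :=
  ((bas K r).exteriorPower i).repr.toLinearMap.compAlternatingMap
    (exteriorPower.ιMulti (A ⧸ K) i)

/-- the same map, `A`-alternating. -/
noncomputable def altA : (Fin r → A ⧸ K) [⋀^Fin i]→ₗ[A] (Idx r i →₀ A ⧸ K) :=
  { MultilinearMap.restrictScalars A (altC K r i).toMultilinearMap with
    map_eq_zero_of_eq' := fun v j j' h hne => (altC K r i).map_eq_zero_of_eq v h hne }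

lemma altA_apply (v : Fin i → Fin r → A ⧸ K) :
    altA K r i v = ((bas K r).exteriorPower i).repr (exteriorPower.ιMulti (A ⧸ K) i v) := rfl

/-- the forward map `⋀[A]^i ((A/K)^r) → (A/K)^S`. -/
noncomputable def fwd : ⋀[A]^i (Fin r → A ⧸ K) →ₗ[A] (Idx r i →₀ A ⧸ K) :=
  exteriorPower.alternatingMapLinearEquiv (altA K r i)

lemma fwd_ιMulti (v : Fin i → Fin r → A ⧸ K) :
    fwd K r i (exteriorPower.ιMulti A i v) =
      ((bas K r).exteriorPower i).repr (exteriorPower.ιMulti (A ⧸ K) i v) := by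
  unfold fwd
  rw [exteriorPower.alternatingMapLinearEquiv_apply_ιMulti, altA_apply]

/-- the generators of the exterior power over `A`. -/
noncomputable def w (s : Idx r i) : ⋀[A]^i (Fin r → A ⧸ K) :=
  exteriorPower.ιMulti_family A i (fun k => bas K r k) s

lemma smul_ιMulti_eq_zero (hi : 1 ≤ i) (k : A) (hk : k ∈ K) (v : Fin i → Fin r → A ⧸ K) :
    k • exteriorPower.ιMulti A i v = 0 := by
  classical
  let j₀ : Fin i := ⟨0, hi⟩
  have h1 : k • exteriorPower.ιMulti A i v =
      exteriorPower.ιMulti A i (Function.update v j₀ (k • v j₀)) := by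
    rw [AlternatingMap.map_update_smul, Function.update_eq_self]
  have h2 : k • v j₀ = 0 := by
    ext t
    rw [Pi.smul_apply, Pi.zero_apply, Algebra.smul_def, Ideal.Quotient.algebraMap_eq,
      Ideal.Quotient.eq_zero_iff_mem.mpr hk, zero_mul]
  rw [h1, h2]
  exact AlternatingMap.map_update_zero _ v j₀

lemma smul_w_eq_zero (hi : 1 ≤ i) (k : A) (hk : k ∈ K) (s : Idx r i) : k • w K r i s = 0 := by
  unfold w
  rw [exteriorPower.ιMulti_family]
  exact smul_ιMulti_eq_zero K r i hi k hk _

/-- the backward map on each summand. -/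
noncomputable def bwdOne (hi : 1 ≤ i) (s : Idx r i) :
    (A ⧸ K) →ₗ[A] ⋀[A]^i (Fin r → A ⧸ K) :=
  Submodule.liftQ K (LinearMap.toSpanSingleton A _ (w K r i s)) (by
    intro k hk
    rw [LinearMap.mem_ker, LinearMap.toSpanSingleton_apply]
    exact smul_w_eq_zero K r i hi k hk s)

lemma bwdOne_mk (hi : 1 ≤ i) (s : Idx r i) (a : A) :
    bwdOne K r i hi s (Ideal.Quotient.mk K a) = a • w K r i s := rfl

/-- the backward map. -/
noncomputable def bwd (hi : 1 ≤ i) :
    (Idx r i →₀ A ⧸ K) →ₗ[A] ⋀[A]^i (Fin r → A ⧸ K) :=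
  Finsupp.lsum A (fun s => bwdOne K r i hi s)

lemma fwd_w (s : Idx r i) : fwd K r i (w K r i s) = Finsupp.single s 1 := by
  unfold w
  rw [exteriorPower.ιMulti_family, fwd_ιMulti]
  have := exteriorPower.basis_repr (A ⧸ K) i (bas K r) s
  rw [exteriorPower.ιMulti_family] at this
  exact this

lemma span_bas : Submodule.span A (Set.range fun k => (bas K r k : Fin r → A ⧸ K)) = ⊤ := by
  rw [eq_top_iff]
  intro m _
  have h1 : m = ∑ k, (m k) • (bas K r k : Fin r → A ⧸ K) := by
    have := (bas K r).sum_repr m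
    simpa using this.symm
  rw [h1]
  refine Submodule.sum_mem _ (fun k _ => ?_)
  obtain ⟨a, ha⟩ := Ideal.Quotient.mk_surjective (m k)
  have h2 : (m k) • (bas K r k : Fin r → A ⧸ K) = a • (bas K r k : Fin r → A ⧸ K) := by
    rw [← ha]
    rfl
  rw [h2]
  exact Submodule.smul_mem _ _ (Submodule.subset_span ⟨k, rfl⟩)

/-- **Exterior powers over `A` of `(A/K)^r`.** -/
noncomputable def equiv (hi : 1 ≤ i) :
    ⋀[A]^i (Fin r → A ⧸ K) ≃ₗ[A] (Idx r i →₀ A ⧸ K) :=
  LinearEquiv.ofLinearMap (fwd K r i) (bwd K r i hi)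
    (by
      apply LinearMap.ext
      intro x
      show fwd K r i (bwd K r i hi x) = x
      induction x using Finsupp.induction_linear with
      | zero => simp
      | add x y hx hy => rw [map_add, map_add, hx, hy]
      | single s c =>
        obtain ⟨a, rfl⟩ := Ideal.Quotient.mk_surjective c
        unfold bwd
        rw [Finsupp.lsum_single, bwdOne_mk, map_smul, fwd_w, Finsupp.smul_single]
        congr 1
        rw [Algebra.smul_def, mul_one]
        rfl)
    (by
      apply LinearMap.ext_on (exteriorPower.ιMulti_family_span_of_span A (span_bas K r))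
      rintro x ⟨s, rfl⟩
      show bwd K r i hi (fwd K r i (w K r i s)) = w K r i s
      rw [fwd_w]
      unfold bwd
      rw [Finsupp.lsum_single]
      show bwdOne K r i hi s (Ideal.Quotient.mk K 1) = _
      rw [bwdOne_mk, one_smul])

/-- `⋀[A]^i ((A/K)^r) ≃ (A/K)^(r choose i)` for `i ≥ 1`. -/
noncomputable def equivFin (hi : 1 ≤ i) :
    ⋀[A]^i (Fin r → A ⧸ K) ≃ₗ[A] (Fin (r.choose i) → A ⧸ K) := by
  have hcard : Nat.card (Idx r i) = r.choose i := by
    rw [powersetCard.card, Nat.card_fin]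
  let e : Idx r i ≃ Fin (r.choose i) := Finite.equivFinOfCardEq hcard
  exact (equiv K r i hi).trans ((Finsupp.linearEquivFunOnFinite A (A ⧸ K) (Idx r i)).trans
    (LinearEquiv.funCongrLeft A (A ⧸ K) e.symm))

end Groth.Agent.Lib.ExtPowQuotH6
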