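import Mathlib
import Groth.Agent.Lib.EtRestr2_helper7
import Groth.Agent.Lib.QCEt24_helper7
import Groth.Agent.Lib.QCEt29_helper7

/-!
# Extensions of coherent modules are coherent (helper7): S10743
-/

set_option backward.isDefEq.respectTransparency false
set_option backward.isDefEq.respectTransparency.types false
set_option linter.style.haveILetI false
set_option linter.unusedSectionVars false
set_option linter.unusedVariables false
set_option autoImplicit false
set_option maxHeartbeats 1600000
set_option maxSynthPendingDepth 3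

universe u v

open CategoryTheory Limits Opposite AlgebraicGeometry AlgSp TensorProduct

namespace Groth.Agent.Lib.QCEtH7

section InstBased

variable {A A' : Type*} [CommRing A] [CommRing A'] [Algebra A A']

/-- **five lemma for base change**: the middle term of a short exact sequence is a base change
when the outer terms are -/
theorem isBaseChange_of_shortExact
    {N1 N2 N3 N1' N2' N3' : Type*} [AddCommGroup N1] [Module A N1] [AddCommGroup N2] [Module A N2]
    [AddCommGroup N3] [Module A N3]
    [AddCommGroup N1'] [Module A N1'] [Module A' N1'] [IsScalarTower A A' N1']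
    [AddCommGroup N2'] [Module A N2'] [Module A' N2'] [IsScalarTower A A' N2']
    [AddCommGroup N3'] [Module A N3'] [Module A' N3'] [IsScalarTower A A' N3']
    (f : N1 →ₗ[A] N2) (g : N2 →ₗ[A] N3) (f' : N1' →ₗ[A'] N2') (g' : N2' →ₗ[A'] N3')
    (hgf : ∀ n, g (f n) = 0) (hex : ∀ p, g p = 0 → ∃ n, f n = p) (hg : Function.Surjective g)
    (hf' : Function.Injective f') (hex' : ∀ p, g' p = 0 → ∃ n, f' n = p)
    (β1 : N1 →ₗ[A] N1') (β2 : N2 →ₗ[A] N2') (β3 : N3 →ₗ[A] N3')
    (h1 : ∀ n, f' (β1 n) = β2 (f n)) (h2 : ∀ p, g' (β2 p) = β3 (g p))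
    (hb1 : IsBaseChange A' β1) (hb3 : IsBaseChange A' β3) : IsBaseChange A' β2 := by
  have hexact : Function.Exact f g := by
    intro p
    constructor
    · intro hp
      exact hex p hp
    · rintro ⟨n, rfl⟩
      exact hgf n
  have hexT := lTensor_exact A' hexact hg
  have hsurjT := LinearMap.lTensor_surjective A' hg
  have hi : ∀ y : A' ⊗[A] N1, f' (hb1.equiv y) = β2.liftBaseChange A' (f.lTensor A' y) := by
    intro y
    induction y using TensorProduct.induction_on with
    | zero => rw [map_zero, map_zero, map_zero, map_zero]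
    | tmul a n =>
      rw [IsBaseChange.equiv_tmul, map_smul, h1, LinearMap.lTensor_tmul,
        LinearMap.liftBaseChange_tmul]
    | add x y hx hy => rw [map_add, map_add, map_add, map_add, hx, hy]
  have hii : ∀ x : A' ⊗[A] N2, g' (β2.liftBaseChange A' x) = hb3.equiv (g.lTensor A' x) := by
    intro x
    induction x using TensorProduct.induction_on with
    | zero => rw [map_zero, map_zero, map_zero, map_zero]
    | tmul a p =>
      rw [LinearMap.liftBaseChange_tmul, map_smul, h2, LinearMap.lTensor_tmul,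
        IsBaseChange.equiv_tmul]
    | add x y hx hy => rw [map_add, map_add, map_add, map_add, hx, hy]
  have hinj : Function.Injective (β2.liftBaseChange A') := by
    rw [injective_iff_map_eq_zero]
    intro x hx
    have h := hii x
    rw [hx, map_zero] at h
    have h3 : g.lTensor A' x = 0 := by
      apply hb3.equiv.injective
      rw [← h, map_zero]
    obtain ⟨y, rfl⟩ := (hexT x).1 h3
    have h4 := hi y
    rw [hx] at h4
    have h5 : hb1.equiv y = 0 := by
      apply hf'
      rw [h4, map_zero]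
    have h6 : y = 0 := by
      apply hb1.equiv.injective
      rw [h5, map_zero]
    rw [h6, map_zero]
  have hsurj : Function.Surjective (β2.liftBaseChange A') := by
    intro n'
    obtain ⟨x, hx⟩ := hsurjT (hb3.equiv.symm (g' n'))
    have h3 : g' (n' - β2.liftBaseChange A' x) = 0 := by
      rw [map_sub, hii, hx, LinearEquiv.apply_symm_apply, sub_self]
    obtain ⟨m', hm'⟩ := hex' _ h3
    refine ⟨x + f.lTensor A' (hb1.equiv.symm m'), ?_⟩
    rw [map_add, ← hi, LinearEquiv.apply_symm_apply, hm', add_sub_cancel]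
  exact IsBaseChange.of_equiv (LinearEquiv.ofBijective (β2.liftBaseChange A') ⟨hinj, hsurj⟩)
    (fun x => by
      rw [LinearEquiv.ofBijective_apply, LinearMap.liftBaseChange_tmul, one_smul])

end InstBased

section Wrappers

variable {A B : Type*} [CommRing A] [CommRing B] (φ : A →+* B)

/-- ring-hom form of `isBaseChange_of_shortExact` -/
theorem IsBCAlong.of_shortExact
    {N1 N2 N3 N1' N2' N3' : Type*} [AddCommGroup N1] [Module A N1] [AddCommGroup N2] [Module A N2]
    [AddCommGroup N3] [Module A N3]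
    [AddCommGroup N1'] [Module B N1'] [AddCommGroup N2'] [Module B N2']
    [AddCommGroup N3'] [Module B N3']
    (f : N1 →ₗ[A] N2) (g : N2 →ₗ[A] N3) (f' : N1' →ₗ[B] N2') (g' : N2' →ₗ[B] N3')
    (hgf : ∀ n, g (f n) = 0) (hex : ∀ p, g p = 0 → ∃ n, f n = p) (hg : Function.Surjective g)
    (hf' : Function.Injective f') (hex' : ∀ p, g' p = 0 → ∃ n, f' n = p)
    (β1 : N1 →+ N1') (β2 : N2 →+ N2') (β3 : N3 →+ N3') (hβ2 : IsSemi φ β2)
    (h1 : ∀ n, f' (β1 n) = β2 (f n)) (h2 : ∀ p, g' (β2 p) = β3 (g p))
    (hb1 : IsBCAlong φ β1) (hb3 : IsBCAlong φ β3) : IsBCAlong φ β2 := by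
  refine ⟨hβ2, ?_⟩
  letI := φ.toAlgebra
  letI := modAlong φ N1'
  haveI := towerAlong φ N1'
  letI := modAlong φ N2'
  haveI := towerAlong φ N2'
  letI := modAlong φ N3'
  haveI := towerAlong φ N3'
  exact isBaseChange_of_shortExact f g f' g' hgf hex hg hf' hex' (linAlong φ β1 hb1.1)
    (linAlong φ β2 hβ2) (linAlong φ β3 hb3.1) h1 h2 hb1.2 hb3.2

end Wrappers

open Groth.Agent.Lib.WeakAssEtH7 Groth.Agent.Lib.IdealEtBH7 Groth.Agent.Lib.EtPostcomp_helper7
  Groth.Agent.Lib.EtStalkPt_helper7

variable {S : Scheme.{u}} {X : Sp S}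

section Ext

variable (T : ShortComplex (ModEt X)) (hT : T.ShortExact)

/-- the sieve of morphisms along which all members of a finite set of sections of `T.X₃` lift to
`T.X₂` -/
def liftSieve (E : EtOver X) (s : Finset (Sec T.X₃ E)) : Sieve E where
  arrows V f := ∀ m ∈ s, ∃ t : Sec T.X₂ V, secLin T.g V t = resAdd T.X₃ f m
  downward_closed := by
    intro V W f hf g m hm
    obtain ⟨t, ht⟩ := hf m hm
    refine ⟨resAdd T.X₂ g t, ?_⟩
    rw [secLin_resAdd, ht, resAdd_comp]

include hT in
theorem liftSieve_mem (E : EtOver X) (s : Finset (Sec T.X₃ E)) :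
    liftSieve T E s ∈ etTop X E := by
  classical
  haveI : Epi T.g := hT.epi_g
  induction s using Finset.induction_on with
  | empty =>
    have h : liftSieve T E ∅ = ⊤ := by
      apply Sieve.ext
      intro V f
      constructor
      · intro _
        trivial
      · intro _ m hm
        exact absurd hm (Finset.notMem_empty m)
    rw [h]
    exact (etTop X).top_mem E
  | insert a s ha ih =>
    have h1 := imSieve_mem_of_epi T.g E a
    refine (etTop X).superset_covering ?_ ((etTop X).intersection_covering ih h1)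
    intro V f hf m hm
    rcases Finset.mem_insert.1 hm with rfl | hm'
    · obtain ⟨t, ht⟩ := hf.2
      exact ⟨t, ht⟩
    · exact hf.1 m hm'

/-- surjectivity of `T.X₂ → T.X₃` on sections propagates to affine objects over an affine one -/
theorem surjective_of_over (h3 : HasBC T.X₃) {Y W : EtOver X} (hY : IsAffine Y.obj.left.left)
    (hW : IsAffine W.obj.left.left) (a : W ⟶ Y) (hs : Function.Surjective (secLin T.g Y)) :
    Function.Surjective (secLin T.g W) := by
  have hspan : Submodule.span (Rg W) ((resAdd T.X₃ a) '' Set.univ) = ⊤ :=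
    IsBCAlong.span_image_eq_top (resRing a) (h3 W Y hW hY a) Set.univ Submodule.span_univ
  rw [← LinearMap.range_eq_top, eq_top_iff, ← hspan, Submodule.span_le]
  rintro _ ⟨m, -, rfl⟩
  obtain ⟨t, rfl⟩ := hs m
  exact ⟨resAdd T.X₂ a t, secLin_resAdd T.g a t⟩

include hT in
/-- **the middle term of a short exact sequence with base change on the outer terms, the third
having finite sections over affine objects, has base change** -/
theorem hasBC_of_shortExact (hX : IsAlgSpace X) (h1 : HasBC T.X₁) (h3 : HasBC T.X₃)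
    (hfin3 : ∀ (E : EtOver X) [IsAffine E.obj.left.left], Module.Finite (Rg E) (Sec T.X₃ E)) :
    HasBC T.X₂ := by
  haveI : Mono T.f := hT.mono_f
  apply hasBC_of_local T.X₂ hX
    (fun i : {Y : EtOver X // IsAffine Y.obj.left.left ∧
      Function.Surjective (secLin T.g Y)} => i.1)
  · intro E x
    obtain ⟨Ea, ιa, hEa, xa, hxa⟩ := exists_affine_piece E x
    haveI := hEa
    obtain ⟨s, hs⟩ := (hfin3 Ea).fg_top
    obtain ⟨V, f, hf, v, hv⟩ := (mem_etTop_iff hX _).1 (liftSieve_mem T hT Ea s) xa
    obtain ⟨W, ιW, hW, w, hw⟩ := exists_affine_piece V v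
    have hsurj : Function.Surjective (secLin T.g W) := by
      have hspan : Submodule.span (Rg W) ((resAdd T.X₃ (ιW ≫ f)) '' (s : Set (Sec T.X₃ Ea))) = ⊤ :=
        IsBCAlong.span_image_eq_top (resRing (ιW ≫ f)) (h3 W Ea hW hEa (ιW ≫ f)) _ hs
      rw [← LinearMap.range_eq_top, eq_top_iff, ← hspan, Submodule.span_le]
      rintro _ ⟨m, hm, rfl⟩
      obtain ⟨t, ht⟩ := hf m hm
      refine ⟨resAdd T.X₂ ιW t, ?_⟩
      rw [secLin_resAdd, ht, resAdd_comp]
    refine ⟨⟨W, hW, hsurj⟩, W, (ιW ≫ f) ≫ ιa, 𝟙 W, w, ?_⟩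
    show ιa.hom.left.left (f.hom.left.left (ιW.hom.left.left w)) = x
    rw [hw, hv, hxa]
  · intro i T₀ T₀' hT₀ hT₀' t a
    have hg : Function.Surjective (secLin T.g T₀) :=
      surjective_of_over T h3 i.2.1 hT₀ a i.2.2
    exact IsBCAlong.of_shortExact (resRing t) (secLin T.f T₀) (secLin T.g T₀) (secLin T.f T₀')
      (secLin T.g T₀')
      (fun n => congrArg (fun ψ : T.X₁ ⟶ T.X₃ => (ψ.val.app (op T₀)).hom n) T.zero)
      (fun p hp => app_exact T hT T₀ p hp) hg (app_injective_of_mono T.f T₀')
      (fun p hp => app_exact T hT T₀' p hp)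
      (resAdd T.X₁ t) (resAdd T.X₂ t) (resAdd T.X₃ t) (resAdd_semi T.X₂ t)
      (fun n => secLin_resAdd T.f t n) (fun p => secLin_resAdd T.g t p)
      (h1 T₀' T₀ hT₀' hT₀ t) (h3 T₀' T₀ hT₀' hT₀ t)

end Ext

section Main

variable {S' : Scheme.{u}}

/-- **S10743** -/
theorem main10743 (X : AlgSp.Space S') (hX : AlgSp.IsLocNoethSp X.obj)
    (T : ShortComplex (AlgSp.ModEt X.obj)) (hT : T.ShortExact)
    [T.X₁.IsFinitePresentation] [T.X₃.IsFinitePresentation] : T.X₂.IsFinitePresentation := by
  have hAS : IsAlgSpace X.obj := X.property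
  have h1 : HasBC T.X₁ := hasBC_of_qc hAS _
  have h3 : HasBC T.X₃ := hasBC_of_qc hAS _
  have h2 : HasBC T.X₂ := hasBC_of_shortExact T hT hAS h1 h3
    (fun E _ => finite_sec T.X₃ hAS E)
  haveI : T.X₂.IsQuasicoherent := isQuasicoherent_of_hasBC T.X₂ h2
  apply isFinitePresentation_of_finite_sections hAS hX T.X₂
  intro E hE
  haveI := isNoetherianRing_Rg hX E
  haveI : Module.Finite (Rg E) (Sec T.X₁ E) := finite_sec T.X₁ hAS E
  haveI : Module.Finite (Rg E) (Sec T.X₃ E) := finite_sec T.X₃ hAS E
  haveI : IsNoetherian (Rg E) (Sec T.X₁ E) := isNoetherian_of_isNoetherianRing_of_finite _ _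
  haveI : IsNoetherian (Rg E) (Sec T.X₃ E) := isNoetherian_of_isNoetherianRing_of_finite _ _
  haveI : IsNoetherian (Rg E) (Sec T.X₂ E) := by
    apply isNoetherian_of_range_eq_ker (secLin T.f E) (secLin T.g E)
    apply le_antisymm
    · rintro _ ⟨n, rfl⟩
      exact congrArg (fun ψ : T.X₁ ⟶ T.X₃ => (ψ.val.app (op E)).hom n) T.zero
    · intro p hp
      exact app_exact T hT E p hp
  exact Module.IsNoetherian.finite _ _

end Main

end Groth.Agent.Lib.QCEtH7
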