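import Mathlib
import Groth.Agent.Lib.QCEt45_helper7

/-!
# Finite coproducts in the small étale site of an algebraic space; single affine covers (helper7)

* `sigObj W g`: the disjoint union of a finite family of objects `W i` over `E`, as an object of
  the small étale site, with `sigHom : sigObj ⟶ E` and inclusions `sigIncl i : W i ⟶ sigObj`.
* `exists_glue_sig`: sections over the parts glue to a section over the disjoint union.
* `exists_single_cover`: a covering sieve of an affine object contains, after gluing, a single
  affine surjective cover.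
-/

set_option backward.isDefEq.respectTransparency false
set_option backward.isDefEq.respectTransparency.types false
set_option linter.style.haveILetI false
set_option linter.unusedSectionVars false
set_option linter.unusedVariables false
set_option autoImplicit false
set_option maxHeartbeats 1600000
set_option maxSynthPendingDepth 3

universe u v

open CategoryTheory Limits Opposite AlgebraicGeometry AlgSp TensorProduct

namespace Groth.Agent.Lib.QCEtH7

open Groth.Agent.Lib.WeakAssEtH7 Groth.Agent.Lib.IdealEtBH7 Groth.Agent.Lib.EtPostcomp_helper7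
  Groth.Agent.Lib.EtStalkPt_helper7

variable {S : Scheme.{u}} {X : Sp S}

section Sig

variable {E : EtOver X} {ι : Type u} (W : ι → EtOver X) (g : ∀ i, W i ⟶ E)

/-- the map from the disjoint union to `E` on schemes -/
noncomputable def sigToE : (∐ fun i => (W i).obj.left.left) ⟶ E.obj.left.left :=
  Sigma.desc fun i => (g i).hom.left.left

theorem ι_sigToE (i : ι) :
    Sigma.ι (fun i => (W i).obj.left.left) i ≫ sigToE W g = (g i).hom.left.left := by
  unfold sigToE
  rw [Sigma.ι_desc]

instance etale_sigToE : Etale (sigToE W g) := by
  unfold sigToE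
  exact IsZariskiLocalAtSource.sigmaDesc (fun i => EtOver.etale_left (g i))

/-- the disjoint union as a scheme over `S` -/
noncomputable def sigOver : Over S := Over.mk (sigToE W g ≫ E.obj.left.hom)

/-- the map from the disjoint union to `E` over `S` -/
noncomputable def sigOverHom : sigOver W g ⟶ E.obj.left := Over.homMk (sigToE W g) rfl

theorem repWith_sig : RepWith @Etale ((yon S).map (sigOverHom W g) ≫ E.obj.hom) :=
  (repWith_isMultiplicative (S := S) @Etale).comp_mem _ _
    ((repWith_yon_map_iff _ _).2 (show Etale (sigToE W g) from inferInstance)) E.property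

/-- the disjoint union as an object of the small étale site -/
noncomputable def sigObj : EtOver X :=
  EtOver.mk ((yon S).map (sigOverHom W g) ≫ E.obj.hom) (repWith_sig W g)

/-- the structure map of the disjoint union -/
noncomputable def sigHom : sigObj W g ⟶ E := EtOver.homMk (sigOverHom W g) rfl

/-- the inclusion of a part over `S` -/
noncomputable def sigInclOver (i : ι) : (W i).obj.left ⟶ sigOver W g :=
  Over.homMk (Sigma.ι (fun i => (W i).obj.left.left) i) (by
    show Sigma.ι (fun i => (W i).obj.left.left) i ≫ sigToE W g ≫ E.obj.left.hom = _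
    rw [← Category.assoc, ι_sigToE]
    exact Over.w (g i).hom.left)

theorem sigInclOver_comp (i : ι) : sigInclOver W g i ≫ sigOverHom W g = (g i).hom.left := by
  apply Over.OverMorphism.ext
  exact ι_sigToE W g i

/-- the inclusion of a part -/
noncomputable def sigIncl (i : ι) : W i ⟶ sigObj W g :=
  EtOver.homMk (sigInclOver W g i) (by
    show (yon S).map (sigInclOver W g i) ≫ (yon S).map (sigOverHom W g) ≫ E.obj.hom = _
    rw [← Category.assoc, ← Functor.map_comp, sigInclOver_comp]
    exact EtOver.w (g i))

theorem sigIncl_comp (i : ι) : sigIncl W g i ≫ sigHom W g = g i := by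
  apply EtOver.hom_ext
  exact sigInclOver_comp W g i

theorem sigIncl_left (i : ι) :
    (sigIncl W g i).hom.left.left = Sigma.ι (fun i => (W i).obj.left.left) i := rfl

theorem sigHom_left : (sigHom W g).hom.left.left = sigToE W g := rfl

theorem sigObj_left : (sigObj W g).obj.left.left = ∐ fun i => (W i).obj.left.left := rfl

instance isAffine_sigObj [Finite ι] [∀ i, IsAffine (W i).obj.left.left] :
    IsAffine (sigObj W g).obj.left.left := by
  show IsAffine (∐ fun i => (W i).obj.left.left)
  infer_instance

theorem sigIncl_jointly_surjective (x : (sigObj W g).obj.left.left) :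
    ∃ i, x ∈ Set.range (sigIncl W g i).hom.left.left := by
  obtain ⟨i, y, hy⟩ := (sigmaOpenCover fun i => (W i).obj.left.left).exists_eq x
  exact ⟨i, y, hy⟩

theorem sigHom_surjective (hcov : ∀ x : E.obj.left.left, ∃ i, x ∈ Set.range (g i).hom.left.left)
    (x : E.obj.left.left) : x ∈ Set.range (sigHom W g).hom.left.left := by
  obtain ⟨i, y, hy⟩ := hcov x
  refine ⟨(sigIncl W g i).hom.left.left y, ?_⟩
  rw [← hy, ← sigIncl_comp W g i]
  rfl

instance mono_sigIncl (i : ι) : Mono (sigIncl W g i) := by
  constructor
  intro Z a b hab
  apply EtOver.hom_ext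
  apply Over.OverMorphism.ext
  have h1 : (a ≫ sigIncl W g i).hom.left.left = (b ≫ sigIncl W g i).hom.left.left := by rw [hab]
  have h2 : a.hom.left.left ≫ Sigma.ι (fun i => (W i).obj.left.left) i =
      b.hom.left.left ≫ Sigma.ι (fun i => (W i).obj.left.left) i := h1
  exact (cancel_mono _).1 h2

variable (M : ModEt X)

/-- sections over an empty object form a subsingleton -/
theorem subsingleton_sec_of_isEmpty (Z : EtOver X) [IsEmpty Z.obj.left.left] :
    Subsingleton (Sec M Z) := by
  constructor
  intro n n'
  exact resAdd_injective_of_cover M (fun k : PEmpty.{1} => k.elim) (fun k => k.elim)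
    (fun x => isEmptyElim x) n n' (fun k => k.elim)

theorem isEmpty_pullback_sigIncl {k l : ι} (hkl : k ≠ l) :
    IsEmpty (EtOver.pullbackObj (sigIncl W g k) (sigIncl W g l)).obj.left.left :=
  isEmpty_of_commSq_sigmaι_of_ne (g := fun i => (W i).obj.left.left)
    (a := (EtOver.pullbackFst (sigIncl W g k) (sigIncl W g l)).hom.left.left)
    (b := (EtOver.pullbackSnd (sigIncl W g k) (sigIncl W g l)).hom.left.left)
    ⟨(isPullback_scheme (sigIncl W g k) (sigIncl W g l)).w⟩ hkl

theorem pullbackFst_eq_snd_sigIncl (k : ι) :
    EtOver.pullbackFst (sigIncl W g k) (sigIncl W g k) =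
      EtOver.pullbackSnd (sigIncl W g k) (sigIncl W g k) :=
  (cancel_mono (sigIncl W g k)).1 (EtOver.isPullback (sigIncl W g k) (sigIncl W g k)).w

/-- **sections over the parts glue to a section over the disjoint union** -/
theorem exists_glue_sig (n : ∀ i, Sec M (W i)) :
    ∃ n0 : Sec M (sigObj W g), ∀ i, resAdd M (sigIncl W g i) n0 = n i := by
  classical
  apply exists_glue M W (sigIncl W g) (sigIncl_jointly_surjective W g) n
  intro k l
  by_cases hkl : k = l
  · subst hkl
    rw [pullbackFst_eq_snd_sigIncl]
  · haveI := isEmpty_pullback_sigIncl W g hkl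
    haveI := subsingleton_sec_of_isEmpty M (EtOver.pullbackObj (sigIncl W g k) (sigIncl W g l))
    exact Subsingleton.elim _ _

end Sig

section Single

/-- a covering sieve of an affine object is refined by a finite family of affine objects indexed
by a type in the right universe -/
theorem exists_finite_affine_refinement' (hX : IsAlgSpace X) {E : EtOver X}
    [IsAffine E.obj.left.left] (T : Sieve E) (hT : T ∈ etTop X E) :
    ∃ (ι : Type u) (_ : Finite ι) (W : ι → EtOver X) (g : ∀ k, W k ⟶ E),
      (∀ k, IsAffine (W k).obj.left.left) ∧ (∀ k, T.arrows (g k)) ∧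
      ∀ x : E.obj.left.left, ∃ k, x ∈ Set.range (g k).hom.left.left := by
  obtain ⟨n, W, g, hW, hT', hcov⟩ := exists_finite_affine_refinement hX T hT
  refine ⟨ULift.{u} (Fin n), inferInstance, fun k => W k.down, fun k => g k.down,
    fun k => hW k.down, fun k => hT' k.down, ?_⟩
  intro x
  obtain ⟨k, hk⟩ := hcov x
  exact ⟨ULift.up k, hk⟩

end Single

end Groth.Agent.Lib.QCEtH7
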