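import Mathlib
import Groth.Agent.Lib.QCEt45_helper7

/-!
# Faithfully flat descent of exactness in terms of `IsBCAlong` (helper7)
-/

set_option backward.isDefEq.respectTransparency false
set_option backward.isDefEq.respectTransparency.types false
set_option linter.style.haveILetI false
set_option linter.unusedSectionVars false
set_option linter.unusedVariables false
set_option autoImplicit false
set_option maxHeartbeats 1600000
set_option maxSynthPendingDepth 3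

universe u v

open CategoryTheory Limits Opposite AlgebraicGeometry AlgSp TensorProduct

namespace Groth.Agent.Lib.QCEtH7

section InstBased

variable {A B : Type*} [CommRing A] [CommRing B] [Algebra A B] [Module.FaithfullyFlat A B]

/-- faithfully flat descent of exactness, instance form -/
theorem exact_of_isBaseChange
    {M₀ M₁ M₂ N₀ N₁ N₂ : Type*} [AddCommGroup M₀] [Module A M₀] [AddCommGroup M₁] [Module A M₁]
    [AddCommGroup M₂] [Module A M₂]
    [AddCommGroup N₀] [Module A N₀] [Module B N₀] [IsScalarTower A B N₀]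
    [AddCommGroup N₁] [Module A N₁] [Module B N₁] [IsScalarTower A B N₁]
    [AddCommGroup N₂] [Module A N₂] [Module B N₂] [IsScalarTower A B N₂]
    (d₀ : M₀ →ₗ[A] M₁) (d₁ : M₁ →ₗ[A] M₂) (hd : ∀ x, d₁ (d₀ x) = 0)
    (e₀ : N₀ →ₗ[B] N₁) (e₁ : N₁ →ₗ[B] N₂)
    (β₀ : M₀ →ₗ[A] N₀) (β₁ : M₁ →ₗ[A] N₁) (β₂ : M₂ →ₗ[A] N₂)
    (h₀ : IsBaseChange B β₀) (h₁ : IsBaseChange B β₁) (h₂ : IsBaseChange B β₂)
    (c₀ : ∀ m, e₀ (β₀ m) = β₁ (d₀ m)) (c₁ : ∀ m, e₁ (β₁ m) = β₂ (d₁ m))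
    (hex : ∀ x, e₁ x = 0 → ∃ y, e₀ y = x) :
    ∀ x, d₁ x = 0 → ∃ y, d₀ y = x := by
  have H₀ : ∀ z : B ⊗[A] M₀, h₁.equiv (d₀.lTensor B z) = e₀ (h₀.equiv z) := by
    intro z
    induction z using TensorProduct.induction_on with
    | zero => rw [map_zero, map_zero, map_zero, map_zero]
    | tmul b m =>
      rw [LinearMap.lTensor_tmul, IsBaseChange.equiv_tmul, IsBaseChange.equiv_tmul, map_smul, c₀]
    | add z w hz hw => rw [map_add, map_add, map_add, map_add, hz, hw]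
  have H₁ : ∀ z : B ⊗[A] M₁, h₂.equiv (d₁.lTensor B z) = e₁ (h₁.equiv z) := by
    intro z
    induction z using TensorProduct.induction_on with
    | zero => rw [map_zero, map_zero, map_zero, map_zero]
    | tmul b m =>
      rw [LinearMap.lTensor_tmul, IsBaseChange.equiv_tmul, IsBaseChange.equiv_tmul, map_smul, c₁]
    | add z w hz hw => rw [map_add, map_add, map_add, map_add, hz, hw]
  have hE : Function.Exact (d₀.lTensor B) (d₁.lTensor B) := by
    intro z
    constructor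
    · intro hz
      have h2 : e₁ (h₁.equiv z) = 0 := by rw [← H₁, hz, map_zero]
      obtain ⟨y, hy⟩ := hex _ h2
      refine ⟨h₀.equiv.symm y, ?_⟩
      apply h₁.equiv.injective
      rw [H₀, LinearEquiv.apply_symm_apply, hy]
    · rintro ⟨w, rfl⟩
      have h3 : (d₁.lTensor B) ((d₀.lTensor B) w) = ((d₁.comp d₀).lTensor B) w := by
        rw [LinearMap.lTensor_comp]
        rfl
      have h4 : d₁.comp d₀ = 0 := by
        apply LinearMap.ext
        intro x
        exact hd x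
      rw [h3, h4, LinearMap.lTensor_zero, LinearMap.zero_apply]
  have hE' := Module.FaithfullyFlat.lTensor_reflects_exact A B d₀ d₁ hE
  intro x hx
  exact (hE' x).1 hx

end InstBased

section Wrappers

variable {A B : Type*} [CommRing A] [CommRing B] (φ : A →+* B)

/-- faithfully flat descent of exactness, ring-hom form -/
theorem exact_of_isBCAlong
    (hff : @Module.FaithfullyFlat A B _ _ φ.toAlgebra.toModule)
    {M₀ M₁ M₂ N₀ N₁ N₂ : Type*} [AddCommGroup M₀] [Module A M₀] [AddCommGroup M₁] [Module A M₁]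
    [AddCommGroup M₂] [Module A M₂]
    [AddCommGroup N₀] [Module B N₀] [AddCommGroup N₁] [Module B N₁] [AddCommGroup N₂] [Module B N₂]
    (d₀ : M₀ →ₗ[A] M₁) (d₁ : M₁ →ₗ[A] M₂) (hd : ∀ x, d₁ (d₀ x) = 0)
    (e₀ : N₀ →ₗ[B] N₁) (e₁ : N₁ →ₗ[B] N₂)
    (ρ₀ : M₀ →+ N₀) (ρ₁ : M₁ →+ N₁) (ρ₂ : M₂ →+ N₂)
    (h₀ : IsBCAlong φ ρ₀) (h₁ : IsBCAlong φ ρ₁) (h₂ : IsBCAlong φ ρ₂)
    (c₀ : ∀ m, e₀ (ρ₀ m) = ρ₁ (d₀ m)) (c₁ : ∀ m, e₁ (ρ₁ m) = ρ₂ (d₁ m))
    (hex : ∀ x, e₁ x = 0 → ∃ y, e₀ y = x) :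
    ∀ x, d₁ x = 0 → ∃ y, d₀ y = x := by
  letI := φ.toAlgebra
  haveI : Module.FaithfullyFlat A B := hff
  letI := modAlong φ N₀
  haveI := towerAlong φ N₀
  letI := modAlong φ N₁
  haveI := towerAlong φ N₁
  letI := modAlong φ N₂
  haveI := towerAlong φ N₂
  exact exact_of_isBaseChange d₀ d₁ hd e₀ e₁ (linAlong φ ρ₀ h₀.1) (linAlong φ ρ₁ h₁.1)
    (linAlong φ ρ₂ h₂.1) h₀.2 h₁.2 h₂.2 c₀ c₁ hex

end Wrappers

end Groth.Agent.Lib.QCEtH7
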