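import Mathlib
import Groth.Agent.Lib.ExtQC1_helper7
import Groth.Agent.Lib.ExtQC2_helper7
import Groth.Agent.Lib.GaCech1_helper8

/-!
# Čech exactness of modules with base change for single affine covers (helper7)
-/

set_option backward.isDefEq.respectTransparency false
set_option backward.isDefEq.respectTransparency.types false
set_option linter.style.haveILetI false
set_option linter.unusedSectionVars false
set_option linter.unusedVariables false
set_option autoImplicit false
set_option maxHeartbeats 1600000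
set_option maxSynthPendingDepth 3

universe u v

open CategoryTheory Limits Opposite AlgebraicGeometry AlgSp TensorProduct

namespace Groth.Agent.Lib.QCEtH7

open Groth.Agent.Lib.WeakAssEtH7 Groth.Agent.Lib.IdealEtBH7 Groth.Agent.Lib.EtPostcomp_helper7
  Groth.Agent.Lib.EtStalkPt_helper7 Groth.Agent.Lib.GaCechH8

variable {S : Scheme.{u}} {X : Sp S}

/-- slices of the small étale site have finite products -/
theorem hasFiniteProducts_overE (E : EtOver X) : HasFiniteProducts (Over E) := by
  have : HasBinaryProducts (Over E) := Over.ConstructProducts.over_binaryProduct_of_pullback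
  have : HasTerminal (Over E) := Over.over_hasTerminal E
  exact hasFiniteProducts_of_has_binary_and_terminal

attribute [local instance] hasFiniteProducts_overE

section Prod

variable (E : EtOver X) (W V : Over E)

theorem isPullback_prodE :
    IsPullback (prod.fst (X := W) (Y := V)).left (prod.snd (X := W) (Y := V)).left W.hom V.hom :=
  Over.isPullback_of_binaryFan_isLimit (BinaryFan.mk prod.fst prod.snd) (prodIsProd W V)

theorem isPullback_prodE_scheme :
    IsPullback (prod.fst (X := W) (Y := V)).left.hom.left.left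
      (prod.snd (X := W) (Y := V)).left.hom.left.left W.hom.hom.left.left V.hom.hom.left.left :=
  (isPullback_prodE E W V).map (EtOver.toScheme X)

theorem isAffine_prodE [IsAffine E.obj.left.left] [IsAffine W.left.obj.left.left]
    [IsAffine V.left.obj.left.left] : IsAffine (W ⨯ V).left.obj.left.left := by
  haveI : IsAffineHom V.hom.hom.left.left := inferInstance
  exact IsAffine.of_isPullback (isPullback_prodE_scheme E W V)

theorem isAffine_of_isoE {W W' : Over E} (e : W ≅ W') [IsAffine W.left.obj.left.left] :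
    IsAffine W'.left.obj.left.left := by
  haveI : IsIso e.inv.left.hom.left.left := inferInstanceAs
    (IsIso ((Over.forget E ⋙ EtOver.toScheme X).map e.inv))
  exact IsAffine.of_isIso e.inv.left.hom.left.left

theorem isAffine_PwE [IsAffine E.obj.left.left] (V : Over E) [IsAffine V.left.obj.left.left] :
    ∀ n : ℕ, IsAffine (Pw V (n + 1)).left.obj.left.left
  | 0 => isAffine_of_isoE E (productUniqueIso (fun _ : Fin 1 => V)).symm
  | n + 1 => by
    haveI := isAffine_PwE V n
    haveI : IsAffine (V ⨯ Pw V (n + 1)).left.obj.left.left := isAffine_prodE E V (Pw V (n + 1))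
    let e : (V ⨯ Pw V (n + 1)) ≅ Pw V (n + 2) :=
      IsLimit.conePointUniqueUpToIso
        (extendFanIsLimit (fun _ : Fin (n + 2) => V) (limit.isLimit _) (prodIsProd V (Pw V (n + 1))))
        (limit.isLimit _)
    exact isAffine_of_isoE E e

/-- functions on a product in the slice form a pushout -/
theorem isPO_prodE [IsAffine E.obj.left.left] [IsAffine W.left.obj.left.left]
    [IsAffine V.left.obj.left.left] :
    IsPO (resRing V.hom) (resRing W.hom) (resRing (prod.snd (X := W) (Y := V)).left)
      (resRing (prod.fst (X := W) (Y := V)).left) :=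
  isPO_of_isPullback (isPullback_prodE_scheme E W V).flip
    (resRing V.hom) (fun x => resRing_down V.hom x)
    (resRing W.hom) (fun x => resRing_down W.hom x)
    (resRing (prod.snd (X := W) (Y := V)).left) (fun x => resRing_down _ x)
    (resRing (prod.fst (X := W) (Y := V)).left) (fun x => resRing_down _ x)

/-- sections over a product with `V` are the base change of the sections over the first factor -/
theorem isBCAlong_prodE (M : ModEt X) (hbc : HasBC M) [hE : IsAffine E.obj.left.left]
    [hW : IsAffine W.left.obj.left.left] [hV : IsAffine V.left.obj.left.left] :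
    @IsBCAlong (Rg E) (Rg V.left) _ _ (resRing V.hom) (Sec M W.left) (Sec M (W ⨯ V).left) _
      (modAlong (resRing W.hom) (Sec M W.left)) _
      (modAlong (resRing (prod.snd (X := W) (Y := V)).left) (Sec M (W ⨯ V).left))
      (resAdd M (prod.fst (X := W) (Y := V)).left) :=
  IsBCAlong.pushout (isPO_prodE E W V) (resAdd M (prod.fst (X := W) (Y := V)).left)
    (hbc _ _ (isAffine_prodE E W V) hW _)

/-- restriction along a morphism of the slice is semilinear over the functions on `E` -/
theorem resAdd_semi_over (M : ModEt X) {P' P : Over E} (f : P' ⟶ P) (a : Rg E)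
    (m : Sec M P.left) :
    resAdd M f.left (resRing P.hom a • m) = resRing P'.hom a • resAdd M f.left m := by
  rw [resAdd_semi M f.left (resRing P.hom a) m, ← resRing_comp_apply, Over.w f]

end Prod

section Complex

variable (M : ModEt X) (E : EtOver X) (V : Over E)

/-- the restriction of `M` to the slice, as a presheaf of abelian groups -/
noncomputable abbrev QM : (Over E)ᵒᵖ ⥤ AddCommGrpCat.{u + 1} :=
  (Over.forget E).op ⋙ M.val.presheaf

theorem QM_map_apply {P' P : Over E} (f : P' ⟶ P) (x : Sec M P.left) :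
    ((QM M E).map f.op).hom x = resAdd M f.left x := rfl

/-- the Čech differential in terms of `resAdd` -/
noncomputable def dM (n : ℕ) : Sec M (Pw V (n + 1)).left →+ Sec M (Pw V (n + 2)).left :=
  ∑ k : Fin (n + 2), (-1 : ℤ) ^ (k : ℕ) • resAdd M (fc V n k).left

theorem dM_apply (n : ℕ) (x : Sec M (Pw V (n + 1)).left) :
    dM M E V n x = ∑ k : Fin (n + 2), (-1 : ℤ) ^ (k : ℕ) • resAdd M (fc V n k).left x := by
  simp [dM]

theorem d1_eq_dM (n : ℕ) (x : Sec M (Pw V (n + 1)).left) :
    d1 V (QM M E) n x = dM M E V n x := by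
  rw [d1_apply, dM_apply]
  rfl

/-- the differential of the base changed cover in terms of `resAdd` -/
noncomputable def eM (n : ℕ) :
    Sec M (Pw V (n + 1) ⨯ V).left →+ Sec M (Pw V (n + 2) ⨯ V).left :=
  ∑ k : Fin (n + 2), (-1 : ℤ) ^ (k : ℕ) • resAdd M (prod.map (fc V n k) (𝟙 V)).left

theorem eM_apply (n : ℕ) (x : Sec M (Pw V (n + 1) ⨯ V).left) :
    eM M E V n x = ∑ k : Fin (n + 2), (-1 : ℤ) ^ (k : ℕ) •
      resAdd M (prod.map (fc V n k) (𝟙 V)).left x := by
  simp [eM]

theorem d2_eq_eM (n : ℕ) (x : Sec M (Pw V (n + 1) ⨯ V).left) :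
    d2 V (QM M E) n x = eM M E V n x := by
  rw [d2_apply, eM_apply]
  rfl

theorem dM_semi (n : ℕ) (a : Rg E) (m : Sec M (Pw V (n + 1)).left) :
    dM M E V n (resRing (Pw V (n + 1)).hom a • m) =
      resRing (Pw V (n + 2)).hom a • dM M E V n m := by
  rw [dM_apply, dM_apply, Finset.smul_sum]
  refine Finset.sum_congr rfl (fun k _ => ?_)
  rw [resAdd_semi_over, smul_comm]

theorem eM_semi (n : ℕ) (b : Rg V.left) (z : Sec M (Pw V (n + 1) ⨯ V).left) :
    eM M E V n (resRing (prod.snd (X := Pw V (n + 1)) (Y := V)).left b • z) =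
      resRing (prod.snd (X := Pw V (n + 2)) (Y := V)).left b • eM M E V n z := by
  rw [eM_apply, eM_apply, Finset.smul_sum]
  refine Finset.sum_congr rfl (fun k _ => ?_)
  rw [resAdd_semi M (prod.map (fc V n k) (𝟙 V)).left, ← resRing_comp_apply, smul_comm]
  have h : (prod.map (fc V n k) (𝟙 V)).left ≫ (prod.snd (X := Pw V (n + 1)) (Y := V)).left =
      (prod.snd (X := Pw V (n + 2)) (Y := V)).left := by
    rw [← Over.comp_left, prod.map_snd, Category.comp_id]
  rw [h]

theorem eM_resAdd_fst (n : ℕ) (m : Sec M (Pw V (n + 1)).left) :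
    eM M E V n (resAdd M (prod.fst (X := Pw V (n + 1)) (Y := V)).left m) =
      resAdd M (prod.fst (X := Pw V (n + 2)) (Y := V)).left (dM M E V n m) := by
  rw [eM_apply, dM_apply, map_sum]
  refine Finset.sum_congr rfl (fun k _ => ?_)
  rw [map_zsmul, ← resAdd_comp, ← resAdd_comp]
  have h : (prod.map (fc V n k) (𝟙 V)).left ≫ (prod.fst (X := Pw V (n + 1)) (Y := V)).left =
      (prod.fst (X := Pw V (n + 2)) (Y := V)).left ≫ (fc V n k).left := by
    rw [← Over.comp_left, ← Over.comp_left, prod.map_fst]
  rw [h]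

end Complex

section FF

theorem faithfullyFlat_resRing {E' E : EtOver X} (g : E' ⟶ E) [IsAffine E'.obj.left.left]
    [IsAffine E.obj.left.left] (hsurj : ∀ x : E.obj.left.left, x ∈ Set.range g.hom.left.left) :
    @Module.FaithfullyFlat (Rg E) (Rg E') _ _ (resRing g).toAlgebra.toModule := by
  letI := (resRing g).toAlgebra
  haveI : Module.Flat (Rg E) (Rg E') := flat_resRing g
  apply Module.FaithfullyFlat.of_comap_surjective
  intro p
  haveI := p.isPrime
  obtain ⟨e, he⟩ := exists_primeUp_eq E p.asIdeal
  obtain ⟨w, hw⟩ := hsurj e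
  refine ⟨⟨primeUp E' w, inferInstance⟩, ?_⟩
  apply PrimeSpectrum.ext
  rw [PrimeSpectrum.comap_asIdeal]
  show (primeUp E' w).comap (resRing g) = p.asIdeal
  rw [primeUp_comap, hw, he]

end FF

section Exact

variable (M : ModEt X) (E : EtOver X) (V : Over E)

/-- **Čech exactness for a single affine surjective cover** -/
theorem cech_exact (hbc : HasBC M) [hE : IsAffine E.obj.left.left]
    [hV : IsAffine V.left.obj.left.left]
    (hsurj : ∀ x : E.obj.left.left, x ∈ Set.range V.hom.hom.left.left) (p : ℕ)
    (x : Sec M (Pw V (p + 2)).left) (hx : dM M E V (p + 1) x = 0) :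
    ∃ y, dM M E V p y = x := by
  haveI hPw := isAffine_PwE E V
  have hff := faithfullyFlat_resRing V.hom hsurj
  letI a0 : Module (Rg E) (Sec M (Pw V (p + 1)).left) :=
    modAlong (resRing (Pw V (p + 1)).hom) (Sec M (Pw V (p + 1)).left)
  letI a1 : Module (Rg E) (Sec M (Pw V (p + 2)).left) :=
    modAlong (resRing (Pw V (p + 2)).hom) (Sec M (Pw V (p + 2)).left)
  letI a2 : Module (Rg E) (Sec M (Pw V (p + 3)).left) :=
    modAlong (resRing (Pw V (p + 3)).hom) (Sec M (Pw V (p + 3)).left)
  letI b0 : Module (Rg V.left) (Sec M (Pw V (p + 1) ⨯ V).left) :=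
    modAlong (resRing (prod.snd (X := Pw V (p + 1)) (Y := V)).left) (Sec M (Pw V (p + 1) ⨯ V).left)
  letI b1 : Module (Rg V.left) (Sec M (Pw V (p + 2) ⨯ V).left) :=
    modAlong (resRing (prod.snd (X := Pw V (p + 2)) (Y := V)).left) (Sec M (Pw V (p + 2) ⨯ V).left)
  letI b2 : Module (Rg V.left) (Sec M (Pw V (p + 3) ⨯ V).left) :=
    modAlong (resRing (prod.snd (X := Pw V (p + 3)) (Y := V)).left) (Sec M (Pw V (p + 3) ⨯ V).left)
  let d₀ : Sec M (Pw V (p + 1)).left →ₗ[Rg E] Sec M (Pw V (p + 2)).left :=
    { toFun := dM M E V p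
      map_add' := fun a b => map_add _ a b
      map_smul' := fun a m => dM_semi M E V p a m }
  let d₁ : Sec M (Pw V (p + 2)).left →ₗ[Rg E] Sec M (Pw V (p + 3)).left :=
    { toFun := dM M E V (p + 1)
      map_add' := fun a b => map_add _ a b
      map_smul' := fun a m => dM_semi M E V (p + 1) a m }
  let e₀ : Sec M (Pw V (p + 1) ⨯ V).left →ₗ[Rg V.left] Sec M (Pw V (p + 2) ⨯ V).left :=
    { toFun := eM M E V p
      map_add' := fun a b => map_add _ a b
      map_smul' := fun a m => eM_semi M E V p a m }
  let e₁ : Sec M (Pw V (p + 2) ⨯ V).left →ₗ[Rg V.left] Sec M (Pw V (p + 3) ⨯ V).left :=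
    { toFun := eM M E V (p + 1)
      map_add' := fun a b => map_add _ a b
      map_smul' := fun a m => eM_semi M E V (p + 1) a m }
  have hd : ∀ y, d₁ (d₀ y) = 0 := by
    intro y
    show dM M E V (p + 1) (dM M E V p y) = 0
    rw [← d1_eq_dM, ← d1_eq_dM]
    exact d1_d1 V (QM M E) p y
  have hex : ∀ z, e₁ z = 0 → ∃ y, e₀ y = z := by
    intro z hz
    have hz' : d2 V (QM M E) (p + 1) z = 0 := (d2_eq_eM M E V (p + 1) z).trans hz
    obtain ⟨y, hy⟩ := exact2 V (QM M E) p z hz'
    exact ⟨y, (d2_eq_eM M E V p y).symm.trans hy⟩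
  exact exact_of_isBCAlong (resRing V.hom) hff d₀ d₁ hd e₀ e₁
    (resAdd M (prod.fst (X := Pw V (p + 1)) (Y := V)).left)
    (resAdd M (prod.fst (X := Pw V (p + 2)) (Y := V)).left)
    (resAdd M (prod.fst (X := Pw V (p + 3)) (Y := V)).left)
    (isBCAlong_prodE E (Pw V (p + 1)) V M hbc) (isBCAlong_prodE E (Pw V (p + 2)) V M hbc)
    (isBCAlong_prodE E (Pw V (p + 3)) V M hbc)
    (fun m => eM_resAdd_fst M E V p m) (fun m => eM_resAdd_fst M E V (p + 1) m) hex x hx

end Exact

end Groth.Agent.Lib.QCEtH7
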