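import Mathlib
import Groth.Agent.Lib.ExtQC3_helper7
import Groth.Agent.Lib.EtCartan2_helper8
import Groth.Agent.Lib.ColimQC_helper7

/-!
# Extensions of quasi-coherent modules on the small étale site are quasi-coherent (helper7)

* `sections_surjective_of_hasBC`: for a short exact sequence whose first term has the base change
  property, sections over affine objects of the middle term surject onto those of the third.
* `hasBC_of_shortExact'`, `isQuasicoherent_of_shortExact`.
* `main10240`.
-/

set_option backward.isDefEq.respectTransparency false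
set_option backward.isDefEq.respectTransparency.types false
set_option linter.style.haveILetI false
set_option linter.unusedSectionVars false
set_option linter.unusedVariables false
set_option autoImplicit false
set_option maxHeartbeats 1600000
set_option maxSynthPendingDepth 3

universe u v

open CategoryTheory Limits Opposite AlgebraicGeometry AlgSp TensorProduct

namespace Groth.Agent.Lib.QCEtH7

open Groth.Agent.Lib.WeakAssEtH7 Groth.Agent.Lib.IdealEtBH7 Groth.Agent.Lib.EtPostcomp_helper7
  Groth.Agent.Lib.EtStalkPt_helper7 Groth.Agent.Lib.GaCechH8 Groth.Agent.Lib.CechSite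
  Groth.Agent.Lib.EtCartanH8

variable {S : Scheme.{u}} {X : Sp S}

attribute [local instance] hasFiniteProducts_overE

section ToSheaf

variable (T : ShortComplex (ModEt X)) (hT : T.ShortExact)

include hT in
/-- the underlying short complex of sheaves of abelian groups is short exact -/
theorem shortExact_toSheaf :
    (T.map (SheafOfModules.toSheaf.{u + 1} (OEtRing X))).ShortExact := by
  haveI := hT.mono_f
  haveI := hT.epi_g
  haveI h1 : Mono ((SheafOfModules.toSheaf.{u + 1} (OEtRing X)).map T.f) := inferInstance
  haveI h2 : Epi ((SheafOfModules.toSheaf.{u + 1} (OEtRing X)).map T.g) := epi_toSheaf T.g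
  exact ShortComplex.ShortExact.mk'
    (hT.exact.map_of_mono_of_preservesKernel (SheafOfModules.toSheaf.{u + 1} (OEtRing X))
      hT.mono_f inferInstance) h1 h2

end ToSheaf

section Surj

variable (hX : IsAlgSpace X) (T : ShortComplex (ModEt X)) (hT : T.ShortExact) (h1 : HasBC T.X₁)

include hX hT h1 in
/-- **vanishing of `H¹` in disguise**: sections over affine objects lift along the epimorphism of
a short exact sequence whose kernel has the base change property -/
theorem sections_surjective_of_hasBC (E : EtOver X) [hE : IsAffine E.obj.left.left] :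
    Function.Surjective (secLin T.g E) := by
  intro s
  haveI := hT.epi_g
  have hS := imSieve_mem_of_epi T.g E s
  obtain ⟨ι, hι, W, g, hW, hR, hcov⟩ := exists_finite_affine_refinement' hX _ hS
  haveI := hι
  haveI := hW
  choose t ht using hR
  obtain ⟨tV, htV⟩ := exists_glue_sig W g T.X₂ t
  have hgt : secLin T.g (sigObj W g) tV = resAdd T.X₃ (sigHom W g) s := by
    apply resAdd_injective_of_cover T.X₃ W (sigIncl W g) (sigIncl_jointly_surjective W g)
    intro k
    rw [← secLin_resAdd, htV, ← resAdd_comp, sigIncl_comp]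
    exact ht k
  obtain ⟨V', hV'⟩ : ∃ V' : Over E, V' = Over.mk (sigHom W g) := ⟨_, rfl⟩
  haveI hVaff : IsAffine V'.left.obj.left.left := by
    rw [hV']
    exact isAffine_sigObj W g
  have hsurj : ∀ x : E.obj.left.left, x ∈ Set.range V'.hom.hom.left.left := by
    rw [hV']
    exact sigHom_surjective W g hcov
  have hY : Sieve.ofArrows (fun i => ((Y1.{u + 1} V') i).left)
      (fun i => ((Y1.{u + 1} V') i).hom) ∈ etTop X E := by
    apply ofArrows_mem_etTop
    intro x
    exact ⟨PUnit.unit, hsurj x⟩
  have hH : IsZero (((cechComplexFunctor (Y1.{u + 1} V')).obj ((Over.forget E).op ⋙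
      (T.map (SheafOfModules.toSheaf.{u + 1} (OEtRing X))).X₁.obj)).homology 1) := by
    rw [isZero_homology_succ_iff]
    apply exact_of_single V' (QM T.X₁ E) 0
    intro x hx
    obtain ⟨y, hy⟩ := cech_exact T.X₁ E V' h1 hsurj 0 x ((d1_eq_dM T.X₁ E V' 1 x).symm.trans hx)
    exact ⟨y, (d1_eq_dM T.X₁ E V' 0 y).trans hy⟩
  subst hV'
  exact lift_of_cechH1 (Y1.{u + 1} (Over.mk (sigHom W g)))
    (T.map (SheafOfModules.toSheaf.{u + 1} (OEtRing X))) (shortExact_toSheaf T hT) hY hH s
    (fun _ => tV) (fun _ => hgt)

end Surj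

section Ext

variable (hX : IsAlgSpace X) (T : ShortComplex (ModEt X)) (hT : T.ShortExact)

include hX hT in
/-- **the middle term of a short exact sequence has base change when the outer terms do** -/
theorem hasBC_of_shortExact' (h1 : HasBC T.X₁) (h3 : HasBC T.X₃) : HasBC T.X₂ := by
  haveI : Mono T.f := hT.mono_f
  intro T₀' T₀ hT₀' hT₀ t
  haveI := hT₀
  haveI := hT₀'
  exact IsBCAlong.of_shortExact (resRing t) (secLin T.f T₀) (secLin T.g T₀) (secLin T.f T₀')
    (secLin T.g T₀')
    (fun n => congrArg (fun ψ : T.X₁ ⟶ T.X₃ => (ψ.val.app (op T₀)).hom n) T.zero)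
    (fun p hp => app_exact T hT T₀ p hp) (sections_surjective_of_hasBC hX T hT h1 T₀)
    (app_injective_of_mono T.f T₀')
    (fun p hp => app_exact T hT T₀' p hp)
    (resAdd T.X₁ t) (resAdd T.X₂ t) (resAdd T.X₃ t) (resAdd_semi T.X₂ t)
    (fun n => secLin_resAdd T.f t n) (fun p => secLin_resAdd T.g t p)
    (h1 T₀' T₀ hT₀' hT₀ t) (h3 T₀' T₀ hT₀' hT₀ t)

include hX hT in
/-- an extension of quasi-coherent modules is quasi-coherent -/
theorem isQuasicoherent_of_shortExact (h1 : T.X₁.IsQuasicoherent) (h3 : T.X₃.IsQuasicoherent) :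
    T.X₂.IsQuasicoherent :=
  isQuasicoherent_of_hasBC _
    (hasBC_of_shortExact' hX T hT (hasBC_of_qc hX T.X₁) (hasBC_of_qc hX T.X₃))

end Ext

section Main

variable {S' : Scheme.{u}}

/-- **S10240** -/
theorem main10240 (X : AlgSp.Space S') :
    (∀ (J : Type u) [SmallCategory J] (D : J ⥤ AlgSp.ModEt X.obj) [HasColimit D],
        (∀ j, (D.obj j).IsQuasicoherent) → (colimit D).IsQuasicoherent) ∧
    (∀ (F G : AlgSp.ModEt X.obj) (φ : F ⟶ G), F.IsQuasicoherent → G.IsQuasicoherent →
        (kernel φ).IsQuasicoherent ∧ (cokernel φ).IsQuasicoherent) ∧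
    (∀ C : ShortComplex (AlgSp.ModEt X.obj), C.ShortExact →
        (C.X₁.IsQuasicoherent → C.X₂.IsQuasicoherent → C.X₃.IsQuasicoherent) ∧
        (C.X₁.IsQuasicoherent → C.X₃.IsQuasicoherent → C.X₂.IsQuasicoherent) ∧
        (C.X₂.IsQuasicoherent → C.X₃.IsQuasicoherent → C.X₁.IsQuasicoherent)) := by
  have hX : IsAlgSpace X.obj := X.property
  refine ⟨?_, ?_, ?_⟩
  · intro J _ D _ hD
    exact isQuasicoherent_colimit D hX hD
  · intro F G φ hF hG
    haveI := hF
    haveI := hG
    exact ⟨isQuasicoherent_kernel φ hX, isQuasicoherent_cokernel φ hX⟩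
  · intro C hC
    haveI := hC.mono_f
    haveI := hC.epi_g
    refine ⟨?_, ?_, ?_⟩
    · intro h1 h2
      haveI := h1
      haveI := h2
      have h3 : (cokernel C.f).IsQuasicoherent := isQuasicoherent_cokernel C.f hX
      exact isQuasicoherent_of_iso
        ((colimit.isColimit (parallelPair C.f 0)).coconePointUniqueUpToIso hC.exact.gIsCokernel) h3
    · intro h1 h3
      exact isQuasicoherent_of_shortExact hX C hC h1 h3
    · intro h2 h3
      haveI := h2
      haveI := h3
      have h1 : (kernel C.g).IsQuasicoherent := isQuasicoherent_kernel C.g hX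
      exact isQuasicoherent_of_iso
        ((limit.isLimit (parallelPair C.g 0)).conePointUniqueUpToIso hC.exact.fIsKernel) h1

end Main

end Groth.Agent.Lib.QCEtH7
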