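import Mathlib
import Groth.Prelude.Def_CAlg
import Groth.Prelude.Def_EGA4b
import Groth.Agent.Lib.FlatCM2_helper9
import Groth.Agent.Lib.FlatGor_helper9

/-! Cohen–Macaulay / Gorenstein along the Laurent polynomial extension `R → R[T;T⁻¹]`
(helper1). -/

set_option autoImplicit false

namespace Groth.Agent.Lib.LaurentCMH1

open LaurentPolynomial Groth.Agent.FlatCM Groth.Agent.GorFlat9

universe u

/-! ### basic instances -/

instance isNoetherianRing_laurent (R : Type u) [CommRing R] [IsNoetherianRing R] :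
    IsNoetherianRing R[T;T⁻¹] :=
  IsLocalization.isNoetherianRing (Submonoid.powers (Polynomial.X : Polynomial R)) R[T;T⁻¹]
    inferInstance

theorem isDedekindDomain_laurent (K : Type u) [Field K] : IsDedekindDomain K[T;T⁻¹] :=
  IsLocalization.isDedekindDomain (Polynomial K)
    (M := Submonoid.powers (Polynomial.X : Polynomial K))
    (powers_le_nonZeroDivisors_of_noZeroDivisors Polynomial.X_ne_zero) K[T;T⁻¹]

theorem isRegularRing_laurent (K : Type u) [Field K] : IsRegularRing K[T;T⁻¹] := by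
  haveI := isDedekindDomain_laurent K
  infer_instance

/-! ### the fibres -/
section fibre

variable (R : Type u) [CommRing R] [IsNoetherianRing R]

theorem isRegularRing_fiber (p : Ideal R) [p.IsPrime] : IsRegularRing (p.Fiber R[T;T⁻¹]) := by
  let e : p.Fiber R[T;T⁻¹] ≃ₐ[p.ResidueField] (p.ResidueField)[T;T⁻¹] :=
    AddMonoidAlgebra.scalarTensorEquiv R p.ResidueField
  haveI := isRegularRing_laurent p.ResidueField
  exact IsRegularRing.of_ringEquiv e.symm.toRingEquiv

instance isCMRing_fiber (p : Ideal R) [p.IsPrime] :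
    LocCoh.IsCohenMacaulayRing (p.Fiber R[T;T⁻¹]) := by
  haveI := isRegularRing_fiber R p
  exact isCMRing_of_isRegularRing _

instance isGorRing_fiber (p : Ideal R) [p.IsPrime] :
    LocCoh.IsGorensteinRing (p.Fiber R[T;T⁻¹]) := by
  haveI := isRegularRing_fiber R p
  exact isGorRing_of_isRegularRing _

/-- **Lemma A (CM)**: `R[T;T⁻¹]_Q` is CM iff `R_{Q ∩ R}` is. -/
theorem isCM_iff (Q : Ideal R[T;T⁻¹]) [Q.IsPrime] :
    LocCoh.IsCohenMacaulayLocalRing (Localization.AtPrime Q) ↔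
      LocCoh.IsCohenMacaulayLocalRing
        (Localization.AtPrime (Q.comap (algebraMap R R[T;T⁻¹]))) := by
  rw [isCM_localization_iff R R[T;T⁻¹] Q]
  exact ⟨fun h => h.1, fun h => ⟨h, isCM_fibLocRing_of_fiber R R[T;T⁻¹] Q⟩⟩

/-- **Lemma A (Gorenstein)**. -/
theorem isGor_iff (Q : Ideal R[T;T⁻¹]) [Q.IsPrime] :
    LocCoh.IsGorensteinLocalRing (Localization.AtPrime Q) ↔
      LocCoh.IsGorensteinLocalRing
        (Localization.AtPrime (Q.comap (algebraMap R R[T;T⁻¹]))) := by
  rw [isGor_localization_iff R R[T;T⁻¹] Q]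
  exact ⟨fun h => h.1, fun h => ⟨h, isGor_fibLocRing_of_fiber R R[T;T⁻¹] Q⟩⟩

/-- **Lemma A (depth/dimension)**: the defect `dim − depth` is the same. -/
theorem depth_dim (Q : Ideal R[T;T⁻¹]) [Q.IsPrime] :
    ∃ f : ℕ, LocCoh.depth (Localization.AtPrime Q) (Localization.AtPrime Q) =
        LocCoh.depth (Localization.AtPrime (Q.comap (algebraMap R R[T;T⁻¹])))
          (Localization.AtPrime (Q.comap (algebraMap R R[T;T⁻¹]))) + (f : ℕ∞) ∧
      ringKrullDim (Localization.AtPrime Q) =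
        ringKrullDim (Localization.AtPrime (Q.comap (algebraMap R R[T;T⁻¹]))) +
          ((f : ℕ∞) : WithBot ℕ∞) := by
  obtain ⟨h1, h2⟩ := depth_dim_localization_eq_add R R[T;T⁻¹] Q
  have hF : LocCoh.IsCohenMacaulayLocalRing (EGA4.FibLocRing R R[T;T⁻¹] Q) :=
    isCM_fibLocRing_of_fiber R R[T;T⁻¹] Q
  obtain ⟨f, hf⟩ := exists_nat_ringKrullDim (EGA4.FibLocRing R R[T;T⁻¹] Q)
  have hF' := (isCMLocalRing_iff (EGA4.FibLocRing R R[T;T⁻¹] Q)).1 hF
  rw [hf] at hF'
  have hd : LocCoh.depth (EGA4.FibLocRing R R[T;T⁻¹] Q) (EGA4.FibLocRing R R[T;T⁻¹] Q) =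
      (f : ℕ∞) := (WithBot.coe_injective hF').symm
  refine ⟨f, ?_, ?_⟩
  · rw [h1, hd]
  · rw [h2, hf]
    rfl

end fibre

end Groth.Agent.Lib.LaurentCMH1
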