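import Mathlib
import Groth.Agent.Lib.LaurentCM_helper1
import Groth.Agent.Lib.CMEquiv_helper3

/-! The `ℤ`-graded local-global principle for the Cohen–Macaulay / Gorenstein properties:
`R_p` versus `R_{p*}` (`p*` the homogeneous core), via the coaction automorphism of `R[T;T⁻¹]`
(helper1). -/

set_option autoImplicit false

namespace Groth.Agent.Lib.GrCritH1

open LaurentPolynomial DirectSum Groth.Agent.FlatCM Groth.Agent.GorFlat9

universe u

section coact

variable {R : Type u} [CommRing R] (𝒜 : ℤ → AddSubgroup R) [GradedRing 𝒜]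

/-- the coaction `r ↦ Σ r_n T^{e n}` of the grading -/
noncomputable def coact (e : ℤ) : R →+* R[T;T⁻¹] :=
  (DirectSum.toSemiring
    (fun i => ((AddMonoidAlgebra.singleAddHom (e * i) : R →+ R[T;T⁻¹]).comp (𝒜 i).subtype))
    (by
      change AddMonoidAlgebra.single (e * 0) (1 : R) = 1
      rw [mul_zero]
      rfl)
    (by
      intro i j ai aj
      change AddMonoidAlgebra.single (e * (i + j)) ((ai : R) * (aj : R)) =
        AddMonoidAlgebra.single (e * i) (ai : R) * AddMonoidAlgebra.single (e * j) (aj : R)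
      rw [AddMonoidAlgebra.single_mul_single, mul_add])).comp
    (DirectSum.decomposeRingEquiv 𝒜).toRingHom

theorem coact_of_mem (e : ℤ) {n : ℤ} {x : R} (hx : x ∈ 𝒜 n) :
    coact 𝒜 e x = AddMonoidAlgebra.single (e * n) x := by
  unfold coact
  rw [RingHom.comp_apply]
  change DirectSum.toSemiring _ _ _ (DirectSum.decompose 𝒜 x) = _
  rw [DirectSum.decompose_of_mem 𝒜 hx, DirectSum.toSemiring_of]
  rfl

theorem coeff_coact (r : R) (n : ℤ) :
    (coact 𝒜 1 r).coeff n = ((decompose 𝒜 r) n : R) := by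
  classical
  induction r using DirectSum.Decomposition.inductionOn 𝒜 with
  | zero => simp
  | @homogeneous i x =>
    rw [coact_of_mem 𝒜 1 x.2, one_mul, AddMonoidAlgebra.coeff_single, Finsupp.single_apply]
    by_cases h : i = n
    · subst h
      rw [if_pos rfl, decompose_of_mem_same 𝒜 x.2]
    · rw [if_neg h, decompose_of_mem_ne 𝒜 x.2 h]
  | add x y hx hy =>
    rw [map_add, AddMonoidAlgebra.coeff_add, Finsupp.add_apply, hx, hy, decompose_add,
      DirectSum.add_apply, AddSubgroup.coe_add]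

/-- the endomorphism of `R[T;T⁻¹]` extending the coaction, `T ↦ T` -/
noncomputable def psi (e : ℤ) : R[T;T⁻¹] →+* R[T;T⁻¹] :=
  AddMonoidAlgebra.liftNCRingHom (coact 𝒜 e) (AddMonoidAlgebra.of R ℤ)
    (fun _ _ => Commute.all _ _)

theorem psi_single (e n : ℤ) (r : R) :
    psi 𝒜 e (AddMonoidAlgebra.single n r) = coact 𝒜 e r * AddMonoidAlgebra.single n 1 := by
  unfold psi
  rw [AddMonoidAlgebra.liftNCRingHom_single, AddMonoidAlgebra.of_apply]
  rfl

theorem psi_coact (e : ℤ) (r : R) :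
    psi 𝒜 e (coact 𝒜 (-e) r) = AddMonoidAlgebra.single 0 r := by
  induction r using DirectSum.Decomposition.inductionOn 𝒜 with
  | zero => simp
  | @homogeneous i x =>
    rw [coact_of_mem 𝒜 (-e) x.2, psi_single, coact_of_mem 𝒜 e x.2,
      AddMonoidAlgebra.single_mul_single, mul_one]
    congr 1
    ring
  | add x y hx hy => rw [map_add, map_add, hx, hy, AddMonoidAlgebra.single_add]

theorem psi_psi (e : ℤ) (x : R[T;T⁻¹]) : psi 𝒜 e (psi 𝒜 (-e) x) = x := by
  induction x using LaurentPolynomial.induction_on' with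
  | add p q hp hq => rw [map_add, map_add, hp, hq]
  | C_mul_T n a =>
    rw [← single_eq_C_mul_T, psi_single, map_mul, psi_coact, psi_single, map_one, one_mul,
      AddMonoidAlgebra.single_mul_single, zero_add, mul_one]

/-- the coaction automorphism of `R[T;T⁻¹]` -/
noncomputable def psiEquiv : R[T;T⁻¹] ≃+* R[T;T⁻¹] :=
  RingEquiv.ofRingHom (psi 𝒜 1) (psi 𝒜 (-1))
    (by
      refine RingHom.ext (fun x => ?_)
      rw [RingHom.comp_apply, RingHom.id_apply]
      exact psi_psi 𝒜 1 x)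
    (by
      refine RingHom.ext (fun x => ?_)
      rw [RingHom.comp_apply, RingHom.id_apply]
      have h := psi_psi 𝒜 (-1) x
      rw [neg_neg] at h
      exact h)

theorem psiEquiv_apply (x : R[T;T⁻¹]) : psiEquiv 𝒜 x = psi 𝒜 1 x := rfl

end coact

/-! ### the two primes of `R[T;T⁻¹]` -/
section primes

variable {R : Type u} [CommRing R] (𝒜 : ℤ → AddSubgroup R) [GradedRing 𝒜] (p : Ideal R)

/-- the extension `p R[T;T⁻¹]` -/
noncomputable def Q0 : Ideal R[T;T⁻¹] :=
  RingHom.ker (AddMonoidAlgebra.mapRingHom ℤ (Ideal.Quotient.mk p))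

theorem mem_Q0 {x : R[T;T⁻¹]} : x ∈ Q0 p ↔ ∀ n, x.coeff n ∈ p := by
  unfold Q0
  rw [RingHom.mem_ker]
  constructor
  · intro h n
    have h1 := congrArg (fun y : (R ⧸ p)[T;T⁻¹] => y.coeff n) h
    simp only [AddMonoidAlgebra.coeff_mapRingHom, AddMonoidAlgebra.coeff_zero,
      Finsupp.zero_apply] at h1
    exact Ideal.Quotient.eq_zero_iff_mem.1 h1
  · intro h
    ext n
    rw [AddMonoidAlgebra.coeff_mapRingHom, AddMonoidAlgebra.coeff_zero, Finsupp.zero_apply]
    exact Ideal.Quotient.eq_zero_iff_mem.2 (h n)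

instance Q0_isPrime [p.IsPrime] : (Q0 p).IsPrime := RingHom.ker_isPrime _

theorem comap_Q0 : (Q0 p).comap (algebraMap R R[T;T⁻¹]) = p := by
  ext r
  rw [Ideal.mem_comap, mem_Q0]
  constructor
  · intro h
    have h0 := h 0
    rw [← LaurentPolynomial.C_eq_algebraMap, ← LaurentPolynomial.single_eq_C,
      AddMonoidAlgebra.coeff_single, Finsupp.single_eq_same] at h0
    exact h0
  · intro h n
    rw [← LaurentPolynomial.C_eq_algebraMap, ← LaurentPolynomial.single_eq_C,
      AddMonoidAlgebra.coeff_single, Finsupp.single_apply]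
    split_ifs
    · exact h
    · exact p.zero_mem

/-- the twist of `p R[T;T⁻¹]` by the coaction automorphism -/
noncomputable abbrev Qs : Ideal R[T;T⁻¹] := Ideal.comap (psiEquiv 𝒜) (Q0 p)

instance Qs_isPrime [p.IsPrime] : (Qs 𝒜 p).IsPrime := Ideal.comap_isPrime _ _

theorem comap_Qs :
    (Qs 𝒜 p).comap (algebraMap R R[T;T⁻¹]) = (p.homogeneousCore 𝒜).toIdeal := by
  classical
  ext r
  rw [Ideal.mem_comap]
  change psi 𝒜 1 (algebraMap R R[T;T⁻¹] r) ∈ Q0 p ↔ _
  rw [← LaurentPolynomial.C_eq_algebraMap, ← LaurentPolynomial.single_eq_C, psi_single,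
    LaurentPolynomial.single_zero_one_eq_one, mul_one, mem_Q0]
  simp only [coeff_coact]
  constructor
  · intro h
    rw [← DirectSum.sum_support_decompose 𝒜 r]
    refine Ideal.sum_mem _ (fun n _ => ?_)
    exact Ideal.mem_homogeneousCore_of_homogeneous_of_mem ⟨n, (decompose 𝒜 r n).2⟩ (h n)
  · intro h n
    exact Ideal.toIdeal_homogeneousCore_le 𝒜 p ((p.homogeneousCore 𝒜).isHomogeneous n h)

/-- the two localizations are isomorphic -/
noncomputable def locEquiv [p.IsPrime] :
    Localization.AtPrime (Qs 𝒜 p) ≃+* Localization.AtPrime (Q0 p) :=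
  IsLocalization.ringEquivOfRingEquiv (Localization.AtPrime (Qs 𝒜 p))
    (Localization.AtPrime (Q0 p)) (psiEquiv 𝒜) ((psiEquiv 𝒜).map_primeCompl_comap_eq (Q0 p))

end primes

/-! ### transport along equal primes -/
section congr

variable {R : Type u} [CommRing R]

theorem cm_congr {q q' : Ideal R} [q.IsPrime] [q'.IsPrime] (h : q = q') :
    LocCoh.IsCohenMacaulayLocalRing (Localization.AtPrime q) ↔
      LocCoh.IsCohenMacaulayLocalRing (Localization.AtPrime q') := by
  subst h
  exact Iff.rfl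

theorem gor_congr {q q' : Ideal R} [q.IsPrime] [q'.IsPrime] (h : q = q') :
    LocCoh.IsGorensteinLocalRing (Localization.AtPrime q) ↔
      LocCoh.IsGorensteinLocalRing (Localization.AtPrime q') := by
  subst h
  exact Iff.rfl

theorem depth_dim_congr {q q' : Ideal R} [q.IsPrime] [q'.IsPrime] (h : q = q') :
    LocCoh.depth (Localization.AtPrime q) (Localization.AtPrime q) =
        LocCoh.depth (Localization.AtPrime q') (Localization.AtPrime q') ∧
      ringKrullDim (Localization.AtPrime q) = ringKrullDim (Localization.AtPrime q') := by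
  subst h
  exact ⟨rfl, rfl⟩

end congr

/-! ### the criterion -/
section main

variable {R : Type u} [CommRing R] [IsNoetherianRing R] (𝒜 : ℤ → AddSubgroup R) [GradedRing 𝒜]
  (p : Ideal R) [p.IsPrime] [(p.homogeneousCore 𝒜).toIdeal.IsPrime]

/-- `R_p` is Cohen–Macaulay iff `R_{p*}` is. -/
theorem cm_core_iff :
    LocCoh.IsCohenMacaulayLocalRing (Localization.AtPrime p) ↔
      LocCoh.IsCohenMacaulayLocalRing (Localization.AtPrime (p.homogeneousCore 𝒜).toIdeal) := by
  have h1 := (Groth.Agent.Lib.LaurentCMH1.isCM_iff R (Q0 p)).trans (cm_congr (comap_Q0 p))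
  have h2 := (Groth.Agent.Lib.LaurentCMH1.isCM_iff R (Qs 𝒜 p)).trans (cm_congr (comap_Qs 𝒜 p))
  have h3 : LocCoh.IsCohenMacaulayLocalRing (Localization.AtPrime (Qs 𝒜 p)) ↔
      LocCoh.IsCohenMacaulayLocalRing (Localization.AtPrime (Q0 p)) :=
    ⟨fun h => Groth.Agent.Lib.CMEquivH3.isCohenMacaulayLocalRing_of_ringEquiv (locEquiv 𝒜 p) h,
      fun h => Groth.Agent.Lib.CMEquivH3.isCohenMacaulayLocalRing_of_ringEquiv
        (locEquiv 𝒜 p).symm h⟩
  exact h1.symm.trans (h3.symm.trans h2)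

/-- `R_p` is Gorenstein iff `R_{p*}` is. -/
theorem gor_core_iff :
    LocCoh.IsGorensteinLocalRing (Localization.AtPrime p) ↔
      LocCoh.IsGorensteinLocalRing (Localization.AtPrime (p.homogeneousCore 𝒜).toIdeal) := by
  have h1 := (Groth.Agent.Lib.LaurentCMH1.isGor_iff R (Q0 p)).trans (gor_congr (comap_Q0 p))
  have h2 := (Groth.Agent.Lib.LaurentCMH1.isGor_iff R (Qs 𝒜 p)).trans (gor_congr (comap_Qs 𝒜 p))
  have h3 := gorenstein_congr (locEquiv 𝒜 p)
  exact h1.symm.trans (h3.symm.trans h2)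

/-- the depths and dimensions of `R_p` and `R_{p*}` differ by the same amounts. -/
theorem defect_core :
    ∃ f₀ f : ℕ,
      LocCoh.depth (Localization.AtPrime p) (Localization.AtPrime p) + (f₀ : ℕ∞) =
        LocCoh.depth (Localization.AtPrime (p.homogeneousCore 𝒜).toIdeal)
          (Localization.AtPrime (p.homogeneousCore 𝒜).toIdeal) + (f : ℕ∞) ∧
      ringKrullDim (Localization.AtPrime p) + ((f₀ : ℕ∞) : WithBot ℕ∞) =
        ringKrullDim (Localization.AtPrime (p.homogeneousCore 𝒜).toIdeal) +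
          ((f : ℕ∞) : WithBot ℕ∞) := by
  obtain ⟨f₀, a1, a2⟩ := Groth.Agent.Lib.LaurentCMH1.depth_dim R (Q0 p)
  obtain ⟨f, b1, b2⟩ := Groth.Agent.Lib.LaurentCMH1.depth_dim R (Qs 𝒜 p)
  obtain ⟨c1, c2⟩ := depth_dim_congr (comap_Q0 p)
  obtain ⟨d1, d2⟩ := depth_dim_congr (comap_Qs 𝒜 p)
  haveI : IsNoetherianRing (Localization.AtPrime (Qs 𝒜 p)) :=
    IsLocalization.isNoetherianRing (Qs 𝒜 p).primeCompl _ inferInstance
  haveI : IsNoetherianRing (Localization.AtPrime (Q0 p)) :=
    IsLocalization.isNoetherianRing (Q0 p).primeCompl _ inferInstance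
  have e1 := depth_ringEquiv (locEquiv 𝒜 p)
  have e2 := ringKrullDim_eq_of_ringEquiv (locEquiv 𝒜 p)
  refine ⟨f₀, f, ?_, ?_⟩
  · rw [← c1, ← a1, ← e1, b1, d1]
  · rw [← c2, ← a2, ← e2, b2, d2]

end main

end Groth.Agent.Lib.GrCritH1
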