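import Mathlib
import Groth.Agent.Lib.GrCrit_helper1
import Groth.Agent.Lib.CMClosedPt_helper6
import Groth.Agent.Lib.Gorenstein_helper5
import Groth.Agent.Lib.DetRing2_helper9
import Groth.Agent.Lib.GorLCI_helper9
import Groth.Agent.S0343

/-! Cohen–Macaulay / Gorenstein property of a `ℤ`-graded ring from its quotient by a
non-zero-divisor meeting every homogeneous prime (helper1). -/

set_option autoImplicit false
set_option maxHeartbeats 400000

namespace Groth.Agent.Lib.GrCrit2H1

open IsLocalRing CategoryTheory Groth.Agent.GorFlat9 Groth.Agent.Lib.GrCritH1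
open scoped Pointwise

universe u

/-! ### local rings modulo a regular element -/

/-- if `A/(x)` is Cohen–Macaulay for a regular element `x` of the maximal ideal, so is `A` -/
theorem cmLocal_of_quot_regular (A : Type u) [CommRing A] [IsLocalRing A] [IsNoetherianRing A]
    (x : A) (hx : x ∈ maximalIdeal A) (hreg : IsSMulRegular A x)
    (h : LocCoh.IsCohenMacaulayLocalRing (A ⧸ Ideal.span {x})) :
    LocCoh.IsCohenMacaulayLocalRing A := by
  have hsub : (Ideal.span {x} : Submodule A A) = x • (⊤ : Submodule A A) := by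
    rw [← Submodule.ideal_span_singleton_smul, Groth.Agent.DepthLib.ideal_smul_top_self]
  have e : QuotSMulTop x A ≃ₗ[A] (A ⧸ Ideal.span {x}) := Submodule.quotEquivOfEq _ _ hsub.symm
  have hle : Ideal.span {x} ≤ maximalIdeal A := by
    rw [Ideal.span_le, Set.singleton_subset_iff]
    exact hx
  haveI : IsLocalRing (A ⧸ Ideal.span {x}) := Groth.Agent.FibDim.isLocalRing_quot hle
  haveI : IsLocalHom (algebraMap A (A ⧸ Ideal.span {x})) :=
    IsLocalHom.of_surjective _ Ideal.Quotient.mk_surjective
  have h2 : LocCoh.IsCohenMacaulayModule A (A ⧸ Ideal.span {x}) := by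
    have h5 := h.supportDim_eq_depth
    rw [Module.supportDim_self_eq_ringKrullDim, ← Module.supportDim_quotient_eq_ringKrullDim,
      ← Groth.Agent.DepthLib.depth_eq_of_isLocalHom A (A ⧸ Ideal.span {x})
        (A ⧸ Ideal.span {x})] at h5
    exact h5
  have h1 : LocCoh.IsCohenMacaulayModule A (QuotSMulTop x A) :=
    Groth.Agent.DepthLib.isCM_congr _ e.symm h2
  have h3 := Module.supportDim_quotSMulTop_succ_eq_supportDim hreg hx
  have h4 := Groth.Agent.DepthLib.idealDepth_quotSMulTop_add_one (maximalIdeal A) A hx hreg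
  refine { supportDim_eq_depth := ?_ }
  unfold LocCoh.IsCohenMacaulayModule LocCoh.depth at h1
  unfold LocCoh.depth
  rw [← h3, ← h4, h1, WithBot.coe_add, WithBot.coe_one]

theorem isSMulRegular_of_mem_nzd {S : Type u} [CommRing S] {x : S}
    (hx : x ∈ nonZeroDivisors S) : IsSMulRegular S x := by
  intro a b hab
  have hab' : x * a = x * b := hab
  have h : (a - b) * x = 0 := by
    rw [sub_mul, mul_comm a, mul_comm b, hab', sub_self]
  exact sub_eq_zero.1 (mem_nonZeroDivisors_iff_right.1 hx _ h)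

/-! ### quotient by a non-zero-divisor, prime by prime -/
section quot

variable {S G : Type u} [CommRing S] [IsNoetherianRing S] [CommRing G] (g : S →+* G)
  (hg : Function.Surjective g) (x : S) (hker : RingHom.ker g = Ideal.span {x})
  (hx : x ∈ nonZeroDivisors S) (q : Ideal G) [q.IsPrime]

include hg hker hx in
theorem exists_data :
    ∃ (P : Ideal S) (_ : P.IsPrime), P = q.comap g ∧
      Nonempty ((Localization.AtPrime P ⧸
        Ideal.span {algebraMap S (Localization.AtPrime P) x}) ≃+* Localization.AtPrime q) ∧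
      algebraMap S (Localization.AtPrime P) x ∈ maximalIdeal (Localization.AtPrime P) ∧
      IsSMulRegular (Localization.AtPrime P) (algebraMap S (Localization.AtPrime P) x) := by
  obtain ⟨P, hP⟩ : ∃ P : Ideal S, P = q.comap g := ⟨_, rfl⟩
  haveI hPp : P.IsPrime := hP ▸ Ideal.comap_isPrime g q
  refine ⟨P, hPp, hP, ?_, ?_, ?_⟩
  · have hT : P.primeCompl.map g = q.primeCompl := by
      ext y
      constructor
      · rintro ⟨s, hs, rfl⟩
        intro hgs
        apply hs
        rw [hP]
        exact hgs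
      · intro hy
        obtain ⟨s, rfl⟩ := hg y
        refine ⟨s, fun hs => hy ?_, rfl⟩
        rw [hP] at hs
        exact hs
    obtain ⟨e⟩ := Groth.Agent.GorLCI9.nonempty_quot_equiv g hg P.primeCompl q.primeCompl hT
      (Localization.AtPrime P) (Localization.AtPrime q)
    rw [hker, Ideal.map_span, Set.image_singleton] at e
    exact ⟨e⟩
  · rw [IsLocalization.AtPrime.to_map_mem_maximal_iff (Localization.AtPrime P) P x, hP,
      Ideal.mem_comap]
    have h0 : g x = 0 := by
      rw [← RingHom.mem_ker, hker]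
      exact Ideal.subset_span rfl
    rw [h0]
    exact q.zero_mem
  · exact isSMulRegular_of_mem_nzd
      (IsLocalization.map_nonZeroDivisors_le P.primeCompl (Localization.AtPrime P) ⟨x, hx, rfl⟩)

include hg hker hx in
theorem cm_quot_iff :
    LocCoh.IsCohenMacaulayLocalRing (Localization.AtPrime q) ↔
      LocCoh.IsCohenMacaulayLocalRing (Localization.AtPrime (q.comap g)) := by
  obtain ⟨P, hPp, hP, ⟨e⟩, hmem, hreg⟩ := exists_data g hg x hker hx q
  haveI := hPp
  rw [← cm_congr hP]
  haveI : IsNoetherianRing (Localization.AtPrime P) :=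
    IsLocalization.isNoetherianRing P.primeCompl _ inferInstance
  constructor
  · intro h
    have h1 := Groth.Agent.Lib.CMEquivH3.isCohenMacaulayLocalRing_of_ringEquiv e.symm h
    exact cmLocal_of_quot_regular _ _ hmem hreg h1
  · intro h
    haveI := h
    have h1 := Groth.Agent.DetRing9.cmLocal_quot_regular (Localization.AtPrime P) _ hmem hreg
    exact Groth.Agent.Lib.CMEquivH3.isCohenMacaulayLocalRing_of_ringEquiv e h1

include hg hker hx in
theorem gor_quot_iff :
    LocCoh.IsGorensteinLocalRing (Localization.AtPrime q) ↔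
      LocCoh.IsGorensteinLocalRing (Localization.AtPrime (q.comap g)) := by
  obtain ⟨P, hPp, hP, ⟨e⟩, hmem, hreg⟩ := exists_data g hg x hker hx q
  haveI := hPp
  rw [← gor_congr hP]
  haveI : IsNoetherianRing (Localization.AtPrime P) :=
    IsLocalization.isNoetherianRing P.primeCompl _ inferInstance
  rw [Groth.Agent.S0343.result (Localization.AtPrime P) _ hmem hreg]
  exact (gorenstein_congr e).symm

end quot

/-! ### generization of the Gorenstein property -/

theorem gor_of_le {R : Type u} [CommRing R] [IsNoetherianRing R] (Q q' : Ideal R) [Q.IsPrime]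
    [q'.IsPrime] (hle : q' ≤ Q)
    (hQ : LocCoh.IsGorensteinLocalRing (Localization.AtPrime Q)) :
    LocCoh.IsGorensteinLocalRing (Localization.AtPrime q') := by
  haveI : IsNoetherianRing (Localization.AtPrime Q) :=
    IsLocalization.isNoetherianRing Q.primeCompl _ inferInstance
  have hdisj : Disjoint (Q.primeCompl : Set R) (q' : Set R) := by
    rw [Set.disjoint_left]
    intro a ha ha'
    exact ha (hle ha')
  obtain ⟨𝔮, h𝔮⟩ : ∃ 𝔮 : Ideal (Localization.AtPrime Q),
      𝔮 = q'.map (algebraMap R (Localization.AtPrime Q)) := ⟨_, rfl⟩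
  haveI hp : 𝔮.IsPrime :=
    h𝔮 ▸ IsLocalization.isPrime_of_isPrime_disjoint Q.primeCompl _ q' inferInstance hdisj
  have hcomap : 𝔮.comap (algebraMap R (Localization.AtPrime Q)) = q' := by
    rw [h𝔮]
    exact IsLocalization.under_map_of_isPrime_disjoint Q.primeCompl _ inferInstance hdisj
  obtain ⟨n, hn⟩ := hQ.exists_hasInjectiveDimensionLT
  haveI := hn
  have hn' : HasInjectiveDimensionLT
      (ModuleCat.of (Localization.AtPrime Q) (Localization.AtPrime Q)) (n + 1) :=
    hasInjectiveDimensionLT_of_ge _ n (n + 1) (by omega)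
  have h1 := Groth.Agent.Gor.injDim_localization n hn' 𝔮
  haveI : IsNoetherianRing (Localization.AtPrime 𝔮) :=
    IsLocalization.isNoetherianRing 𝔮.primeCompl _ inferInstance
  have h2 : LocCoh.IsGorensteinLocalRing (Localization.AtPrime 𝔮) :=
    { exists_hasInjectiveDimensionLT := ⟨n + 1, h1⟩ }
  have e := IsLocalization.localizationLocalizationAtPrimeIsoLocalization Q.primeCompl 𝔮
  have h3 := (gorenstein_congr e.toRingEquiv).2 h2
  exact (gor_congr hcomap).1 h3

/-! ### the graded ring theorems -/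
section graded

variable {S : Type u} [CommRing S] (𝒜 : ℤ → AddSubgroup S) [GradedRing 𝒜]
  (x : S) (hx : x ∈ nonZeroDivisors S)

include hx in
theorem cmRing_quot_of_nzd [hS : LocCoh.IsCohenMacaulayRing S] :
    LocCoh.IsCohenMacaulayRing (S ⧸ Ideal.span {x}) := by
  haveI : IsNoetherianRing S := hS.toIsNoetherian
  refine { isCohenMacaulayLocalRing_localization := fun q hq => ?_ }
  haveI := hq
  exact (cm_quot_iff (Ideal.Quotient.mk _) Ideal.Quotient.mk_surjective x Ideal.mk_ker hx q).2
    (hS.isCohenMacaulayLocalRing_localization _)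

include hx in
theorem gorRing_quot_of_nzd [hS : LocCoh.IsGorensteinRing S] :
    LocCoh.IsGorensteinRing (S ⧸ Ideal.span {x}) := by
  haveI : IsNoetherianRing S := hS.toIsNoetherian
  refine { isGorensteinLocalRing_localization := fun q hq => ?_ }
  haveI := hq
  exact (gor_quot_iff (Ideal.Quotient.mk _) Ideal.Quotient.mk_surjective x Ideal.mk_ker hx q).2
    (hS.isGorensteinLocalRing_localization _)

/-- every homogeneous prime lies in a prime containing `x` -/
def Meets : Prop :=
  ∀ (𝔓 : Ideal S), 𝔓.IsPrime → 𝔓.IsHomogeneous 𝒜 → 𝔓 ⊔ Ideal.span {x} ≠ ⊤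

variable {𝒜 x}

include hx in
theorem exists_prime_data [IsNoetherianRing S] (H : Meets 𝒜 x) (P : Ideal S) [hP : P.IsPrime] :
    ∃ (𝔑 : Ideal S) (_ : 𝔑.IsPrime) (q : Ideal (S ⧸ Ideal.span {x})) (_ : q.IsPrime),
      (P.homogeneousCore 𝒜).toIdeal ≤ 𝔑 ∧ q.comap (Ideal.Quotient.mk (Ideal.span {x})) = 𝔑 := by
  have hc : (P.homogeneousCore 𝒜).toIdeal.IsPrime := Ideal.IsPrime.homogeneousCore hP
  obtain ⟨𝔑, h𝔑max, h𝔑le⟩ :=
    Ideal.exists_le_maximal _ (H _ hc (P.homogeneousCore 𝒜).isHomogeneous)
  have hx𝔑 : Ideal.span {x} ≤ 𝔑 := le_trans le_sup_right h𝔑le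
  have h𝔓𝔑 : (P.homogeneousCore 𝒜).toIdeal ≤ 𝔑 := le_trans le_sup_left h𝔑le
  have hg : Function.Surjective (Ideal.Quotient.mk (Ideal.span {x})) :=
    Ideal.Quotient.mk_surjective
  have hker : RingHom.ker (Ideal.Quotient.mk (Ideal.span {x})) = Ideal.span {x} := Ideal.mk_ker
  haveI := h𝔑max.isPrime
  refine ⟨𝔑, h𝔑max.isPrime, 𝔑.map (Ideal.Quotient.mk (Ideal.span {x})),
    Ideal.map_isPrime_of_surjective hg (by rw [hker]; exact hx𝔑), h𝔓𝔑, ?_⟩
  rw [Ideal.comap_map_of_surjective _ hg, ← RingHom.ker_eq_comap_bot, hker, sup_eq_left.2 hx𝔑]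

include hx in
theorem cmRing_of_quot [IsNoetherianRing S] (H : Meets 𝒜 x)
    (hG : LocCoh.IsCohenMacaulayRing (S ⧸ Ideal.span {x})) : LocCoh.IsCohenMacaulayRing S := by
  refine { isCohenMacaulayLocalRing_localization := fun P hP => ?_ }
  haveI := hP
  haveI hc : (P.homogeneousCore 𝒜).toIdeal.IsPrime := Ideal.IsPrime.homogeneousCore hP
  rw [cm_core_iff 𝒜 P]
  obtain ⟨𝔑, h𝔑, q, hq, hle, hcomap⟩ := exists_prime_data hx H P
  haveI := h𝔑
  haveI := hq
  refine Groth.Agent.Lib.CMClosedPt_helper6.cm_of_le 𝔑 _ hle ?_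
  have h1 := hG.isCohenMacaulayLocalRing_localization q
  exact (cm_congr hcomap).1
    ((cm_quot_iff (Ideal.Quotient.mk _) Ideal.Quotient.mk_surjective x Ideal.mk_ker hx q).1 h1)

include hx in
theorem gorRing_of_quot [IsNoetherianRing S] (H : Meets 𝒜 x)
    (hG : LocCoh.IsGorensteinRing (S ⧸ Ideal.span {x})) : LocCoh.IsGorensteinRing S := by
  refine { isGorensteinLocalRing_localization := fun P hP => ?_ }
  haveI := hP
  haveI hc : (P.homogeneousCore 𝒜).toIdeal.IsPrime := Ideal.IsPrime.homogeneousCore hP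
  rw [gor_core_iff 𝒜 P]
  obtain ⟨𝔑, h𝔑, q, hq, hle, hcomap⟩ := exists_prime_data hx H P
  haveI := h𝔑
  haveI := hq
  refine gor_of_le 𝔑 _ hle ?_
  have h1 := hG.isGorensteinLocalRing_localization q
  exact (gor_congr hcomap).1
    ((gor_quot_iff (Ideal.Quotient.mk _) Ideal.Quotient.mk_surjective x Ideal.mk_ker hx q).1 h1)

end graded

end Groth.Agent.Lib.GrCrit2H1
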