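import Mathlib
import Groth.Prelude.Def_W4c2filtblowupsingRees
import Groth.Agent.Lib.GrXfer_helper1
import Groth.Agent.Lib.GrCrit2_helper1

/-! The extended Rees algebra of a filtration as a `ℤ`-graded ring; Cohen–Macaulay / Gorenstein
transfer between the extended Rees algebra and the associated graded ring (helper1). -/

set_option autoImplicit false
set_option maxHeartbeats 400000

namespace Groth.Agent.Lib.ExtReesH1

open LaurentPolynomial DirectSum Groth.Agent.Lib.GrXferH1 FiltBl Groth.Agent.Lib.GrCrit2H1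

universe u

/-! ### graded subrings -/
section sub

variable {R R' : Type u} [CommRing R] [CommRing R'] (𝒜 : ℤ → AddSubgroup R) (φ : R' →+* R)

/-- the grading induced on a subring stable under taking homogeneous components -/
def sub : ℤ → AddSubgroup R' := fun j => (𝒜 j).comap (φ : R' →+ R)

theorem mem_sub {j : ℤ} {x : R'} : x ∈ sub 𝒜 φ j ↔ φ x ∈ 𝒜 j := Iff.rfl

variable [GradedRing 𝒜]

theorem sub_gmon : SetLike.GradedMonoid (sub 𝒜 φ) where
  one_mem := by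
    change φ 1 ∈ 𝒜 0
    rw [map_one]
    exact SetLike.GradedOne.one_mem
  mul_mem := by
    intro i j a b ha hb
    change φ (a * b) ∈ 𝒜 (i + j)
    rw [map_mul]
    exact SetLike.GradedMul.mul_mem ((mem_sub 𝒜 φ).1 ha) ((mem_sub 𝒜 φ).1 hb)

theorem sub_key (j : ℤ) (z : ⨁ j, sub 𝒜 φ j) :
    φ ((z j : sub 𝒜 φ j) : R') =
      ((decompose 𝒜 (φ (DirectSum.coeAddMonoidHom (sub 𝒜 φ) z))) j : R) := by
  classical
  induction z using DirectSum.induction_on with
  | zero => simp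
  | of i y =>
    rw [DirectSum.coeAddMonoidHom_of]
    have hy : φ (y : R') ∈ 𝒜 i := y.2
    by_cases hij : i = j
    · subst hij
      rw [DirectSum.of_eq_same, decompose_of_mem_same 𝒜 hy]
    · rw [DirectSum.of_eq_of_ne _ _ _ (Ne.symm hij), decompose_of_mem_ne 𝒜 hy hij,
        ZeroMemClass.coe_zero, map_zero]
  | add a b ha hb =>
    rw [DirectSum.add_apply, AddSubgroup.coe_add, map_add, map_add, map_add, decompose_add,
      DirectSum.add_apply, AddSubgroup.coe_add, ha, hb]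

theorem sub_internal (hφ : Function.Injective φ)
    (h2 : ∀ (x : R') (j : ℤ), ((decompose 𝒜 (φ x)) j : R) ∈ φ.range) :
    DirectSum.IsInternal (sub 𝒜 φ) := by
  classical
  constructor
  · rw [injective_iff_map_eq_zero]
    intro z hz
    refine DFunLike.ext _ _ (fun j => Subtype.ext (hφ ?_))
    rw [sub_key 𝒜 φ j z, hz, map_zero, decompose_zero]
    change ((0 : 𝒜 j) : R) = φ ((0 : sub 𝒜 φ j) : R')
    rw [ZeroMemClass.coe_zero, ZeroMemClass.coe_zero, map_zero]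
  · intro x
    have hpre : ∀ j : ℤ, ∃ y : R', φ y = ((decompose 𝒜 (φ x)) j : R) := fun j =>
      RingHom.mem_range.1 (h2 x j)
    choose ψ hψ using hpre
    have hψmem : ∀ j, ψ j ∈ sub 𝒜 φ j := fun j => by
      rw [mem_sub, hψ]
      exact SetLike.coe_mem _
    refine ⟨∑ j ∈ DFinsupp.support (decompose 𝒜 (φ x)),
      DirectSum.of (fun j => sub 𝒜 φ j) j ⟨ψ j, hψmem j⟩, ?_⟩
    apply hφ
    rw [map_sum, map_sum]
    simp only [DirectSum.coeAddMonoidHom_of, hψ]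
    exact sum_support_decompose 𝒜 (φ x)

/-- the induced grading is a ring grading -/
noncomputable def subGradedRing (hint : DirectSum.IsInternal (sub 𝒜 φ)) :
    GradedRing (sub 𝒜 φ) :=
  { sub_gmon 𝒜 φ, hint.chooseDecomposition with }

end sub

/-! ### the grading of the Laurent polynomial ring -/
section laurent

variable (A : Type u) [CommRing A]

/-- the grading of `A[T;T⁻¹]` by powers of `T` -/
noncomputable abbrev LG : ℤ → AddSubgroup A[T;T⁻¹] :=
  toAS (AddMonoidAlgebra.grade A : ℤ → Submodule A A[T;T⁻¹])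

variable {A}

theorem mem_LG {n : ℤ} {f : A[T;T⁻¹]} : f ∈ LG A n ↔ ∀ m, m ≠ n → f.coeff m = 0 := by
  change f ∈ AddMonoidAlgebra.grade A n ↔ _
  rw [AddMonoidAlgebra.mem_grade_iff]
  constructor
  · intro h m hm
    by_contra h0
    exact hm (Finset.mem_singleton.1 (h (Finsupp.mem_support_iff.2 h0)))
  · intro h m hm
    rw [Finset.mem_singleton]
    by_contra hne
    exact (Finsupp.mem_support_iff.1 hm) (h m hne)

theorem single_mem_LG (n : ℤ) (a : A) : (AddMonoidAlgebra.single n a : A[T;T⁻¹]) ∈ LG A n := by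
  rw [mem_LG]
  intro m hm
  rw [AddMonoidAlgebra.coeff_single, Finsupp.single_apply, if_neg (Ne.symm hm)]

theorem eq_single_of_mem_LG {n : ℤ} {f : A[T;T⁻¹]} (hf : f ∈ LG A n) :
    f = AddMonoidAlgebra.single n (f.coeff n) := by
  ext m
  rw [AddMonoidAlgebra.coeff_single, Finsupp.single_apply]
  by_cases h : n = m
  · subst h
    rw [if_pos rfl]
  · rw [if_neg h]
    exact (mem_LG.1 hf) m (Ne.symm h)

theorem decompose_LG (f : A[T;T⁻¹]) (j : ℤ) :
    ((decompose (LG A) f) j : A[T;T⁻¹]) = AddMonoidAlgebra.single j (f.coeff j) := by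
  induction f using LaurentPolynomial.induction_on' with
  | add p q hp hq =>
    rw [decompose_add, DirectSum.add_apply, AddSubgroup.coe_add, hp, hq,
      AddMonoidAlgebra.coeff_add, Finsupp.add_apply, AddMonoidAlgebra.single_add]
  | C_mul_T n a =>
    rw [← single_eq_C_mul_T, AddMonoidAlgebra.coeff_single, Finsupp.single_apply]
    by_cases h : n = j
    · subst h
      rw [if_pos rfl, decompose_of_mem_same (LG A) (single_mem_LG n a)]
    · rw [if_neg h, decompose_of_mem_ne (LG A) (single_mem_LG n a) h,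
        AddMonoidAlgebra.single_zero]

end laurent

/-! ### the extended Rees algebra -/
section ext

variable {A : Type u} [CommRing A] (𝓕 : IdealFiltration A)

/-- the inclusion into the Laurent polynomial ring -/
noncomputable def incl : ↥𝓕.extRees →+* A[T;T⁻¹] := 𝓕.extRees.val.toRingHom

theorem incl_apply (x : ↥𝓕.extRees) : incl 𝓕 x = (x : A[T;T⁻¹]) := rfl

theorem incl_injective : Function.Injective (incl 𝓕) := Subtype.val_injective

theorem single_mem (n : ℤ) (a : A) (ha : a ∈ 𝓕.F n.toNat) :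
    (AddMonoidAlgebra.single n a : A[T;T⁻¹]) ∈ 𝓕.extRees := by
  intro m
  rw [AddMonoidAlgebra.coeff_single, Finsupp.single_apply]
  split_ifs with h
  · subst h
    exact ha
  · exact Ideal.zero_mem _

/-- the grading of the extended Rees algebra -/
noncomputable abbrev EG : ℤ → AddSubgroup ↥𝓕.extRees := sub (LG A) (incl 𝓕)

theorem EG_internal : DirectSum.IsInternal (EG 𝓕) :=
  sub_internal (LG A) (incl 𝓕) (incl_injective 𝓕) (fun x j => by
    rw [decompose_LG]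
    exact RingHom.mem_range.2 ⟨⟨_, single_mem 𝓕 j _ (x.2 j)⟩, rfl⟩)

noncomputable instance gradedRing_EG : GradedRing (EG 𝓕) :=
  subGradedRing (LG A) (incl 𝓕) (EG_internal 𝓕)

theorem mem_EG {n : ℤ} {x : ↥𝓕.extRees} :
    x ∈ EG 𝓕 n ↔ ∀ m, m ≠ n → (x : A[T;T⁻¹]).coeff m = 0 := by
  change incl 𝓕 x ∈ LG A n ↔ _
  rw [mem_LG]
  rfl

theorem coe_eq_single_of_mem {n : ℤ} {x : ↥𝓕.extRees} (hx : x ∈ EG 𝓕 n) :
    (x : A[T;T⁻¹]) = AddMonoidAlgebra.single n ((x : A[T;T⁻¹]).coeff n) :=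
  eq_single_of_mem_LG (show incl 𝓕 x ∈ LG A n from hx)

theorem coe_u : ((𝓕.u : ↥𝓕.extRees) : A[T;T⁻¹]) = T (-1) := rfl

theorem u_mem : 𝓕.u ∈ EG 𝓕 (-1) := by
  change incl 𝓕 𝓕.u ∈ LG A (-1)
  exact single_mem_LG (-1) 1

theorem u_mem_nzd : 𝓕.u ∈ nonZeroDivisors ↥𝓕.extRees := by
  rw [mem_nonZeroDivisors_iff_right]
  intro z hz
  apply Subtype.ext
  have h1 : (z : A[T;T⁻¹]) * T (-1) = 0 := congrArg Subtype.val hz
  have h2 : (z : A[T;T⁻¹]) = (z : A[T;T⁻¹]) * T (-1) * T 1 := by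
    rw [mul_assoc, ← T_add]
    simp
  rw [h2, h1, zero_mul]
  rfl

theorem F_one_ne_top [Nontrivial A] (hsep : ⨅ n, 𝓕.F n = ⊥) : 𝓕.F 1 ≠ ⊤ := by
  intro h
  have hall : ∀ n, 𝓕.F n = ⊤ := by
    intro n
    induction n with
    | zero => exact 𝓕.zero_eq
    | succ k ih =>
      rw [eq_top_iff]
      calc (⊤ : Ideal A) = 𝓕.F k * 𝓕.F 1 := by rw [ih, h, Ideal.top_mul]
        _ ≤ 𝓕.F (k + 1) := 𝓕.mul_le k 1
  have h1 : (⊤ : Ideal A) = ⊥ := by
    rw [← hsep]
    simp [hall]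
  exact top_ne_bot h1

/-- every homogeneous prime of the extended Rees algebra lies in a prime containing `u` -/
theorem meets [IsLocalRing A] (hsep : ⨅ n, 𝓕.F n = ⊥) : Meets (EG 𝓕) 𝓕.u := by
  intro 𝔓 h𝔓 hhom htop
  have hF1 : 𝓕.F 1 ≤ IsLocalRing.maximalIdeal A :=
    IsLocalRing.le_maximalIdeal (F_one_ne_top 𝓕 hsep)
  have h1 : (1 : ↥𝓕.extRees) ∈ 𝔓 ⊔ Ideal.span {𝓕.u} := by
    rw [htop]
    trivial
  obtain ⟨p, hp, y, hy, hpy⟩ := Submodule.mem_sup.1 h1
  obtain ⟨r, rfl⟩ := Ideal.mem_span_singleton'.1 hy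
  have h2 : ((decompose (EG 𝓕) (p + r * 𝓕.u)) 0 : ↥𝓕.extRees) = 1 := by
    rw [hpy]
    exact decompose_of_mem_same (EG 𝓕) SetLike.GradedOne.one_mem
  rw [decompose_add, DirectSum.add_apply, AddSubgroup.coe_add] at h2
  have h3 : ((decompose (EG 𝓕) p) 0 : ↥𝓕.extRees) ∈ 𝔓 := hhom 0 hp
  have h4 : ((decompose (EG 𝓕) (r * 𝓕.u)) 0 : ↥𝓕.extRees) =
      ((decompose (EG 𝓕) r) 1 : ↥𝓕.extRees) * 𝓕.u := by
    have h5 := DirectSum.coe_decompose_mul_add_of_right_mem (EG 𝓕) (i := 1) (j := -1) (a := r)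
      (b := 𝓕.u) (u_mem 𝓕)
    have e : (1 : ℤ) + -1 = 0 := by norm_num
    rw [e] at h5
    exact h5
  obtain ⟨y1, hy1⟩ : ∃ y1 : ↥𝓕.extRees, y1 = ((decompose (EG 𝓕) r) 1 : ↥𝓕.extRees) := ⟨_, rfl⟩
  have hy1m : y1 ∈ EG 𝓕 1 := hy1 ▸ SetLike.coe_mem _
  obtain ⟨c, hc⟩ : ∃ c : A, c = (y1 : A[T;T⁻¹]).coeff 1 := ⟨_, rfl⟩
  have hcF : c ∈ 𝓕.F 1 := by
    rw [hc]
    exact y1.2 1
  have h6 : y1 * 𝓕.u = algebraMap A ↥𝓕.extRees c := by
    apply Subtype.ext
    change (y1 : A[T;T⁻¹]) * T (-1) = algebraMap A A[T;T⁻¹] c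
    rw [coe_eq_single_of_mem 𝓕 hy1m, ← hc, ← LaurentPolynomial.C_eq_algebraMap,
      ← LaurentPolynomial.single_eq_C, T, AddMonoidAlgebra.single_mul_single, mul_one]
    congr 1
  rw [h4, ← hy1, h6] at h2
  have hunit : IsUnit (1 - c) :=
    IsLocalRing.isUnit_one_sub_self_of_mem_nonunits c
      ((IsLocalRing.mem_maximalIdeal c).1 (hF1 hcF))
  have h7 : ((decompose (EG 𝓕) p) 0 : ↥𝓕.extRees) = algebraMap A ↥𝓕.extRees (1 - c) := by
    rw [map_sub, map_one, ← h2]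
    ring
  have h8 : IsUnit ((decompose (EG 𝓕) p) 0 : ↥𝓕.extRees) := by
    rw [h7]
    exact hunit.map _
  exact h𝔓.ne_top (Ideal.eq_top_of_isUnit_mem _ h3 h8)

/-! ### noetherianity -/

theorem toLaurent_mem (f : Polynomial A) (hf : f ∈ 𝓕.rees) :
    Polynomial.toLaurent f ∈ 𝓕.extRees := by
  have h := f.as_sum_range
  rw [h, map_sum]
  refine Subalgebra.sum_mem _ (fun i _ => ?_)
  rw [Polynomial.toLaurent_C_mul_T, ← single_eq_C_mul_T]
  refine single_mem 𝓕 i _ ?_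
  rw [Int.toNat_natCast]
  exact hf i

theorem monomial_mem (k : ℕ) (c : A) (hc : c ∈ 𝓕.F k) : Polynomial.monomial k c ∈ 𝓕.rees := by
  intro m
  rw [Polynomial.coeff_monomial]
  split_ifs with h
  · subst h
    exact hc
  · exact Ideal.zero_mem _

theorem isNoetherianRing_extRees [IsNoetherianRing A] (hfg : Algebra.FiniteType A 𝓕.rees) :
    IsNoetherianRing ↥𝓕.extRees := by
  haveI : IsNoetherianRing ↥𝓕.rees := Algebra.FiniteType.isNoetherianRing A _
  obtain ⟨ι, hι⟩ : ∃ ι : ↥𝓕.rees →+* ↥𝓕.extRees, ∀ f : ↥𝓕.rees,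
      ((ι f : ↥𝓕.extRees) : A[T;T⁻¹]) = Polynomial.toLaurent (f : Polynomial A) :=
    ⟨(Polynomial.toLaurent.comp 𝓕.rees.val.toRingHom).codRestrict 𝓕.extRees
      (fun f => toLaurent_mem 𝓕 f.1 f.2), fun f => rfl⟩
  obtain ⟨Φ, hΦ⟩ : ∃ Φ : Polynomial ↥𝓕.rees →+* ↥𝓕.extRees,
      Φ = Polynomial.eval₂RingHom ι 𝓕.u := ⟨_, rfl⟩
  refine isNoetherianRing_of_surjective _ _ Φ ?_
  intro x
  induction x using DirectSum.Decomposition.inductionOn (EG 𝓕) with
  | zero => exact ⟨0, map_zero _⟩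
  | @homogeneous n y =>
    obtain ⟨c, hc⟩ : ∃ c : A, c = ((y : ↥𝓕.extRees) : A[T;T⁻¹]).coeff n := ⟨_, rfl⟩
    have hcF : c ∈ 𝓕.F n.toNat := by
      rw [hc]
      exact (y : ↥𝓕.extRees).2 n
    have hy : ((y : ↥𝓕.extRees) : A[T;T⁻¹]) = AddMonoidAlgebra.single n c := by
      rw [hc]
      exact coe_eq_single_of_mem 𝓕 y.2
    rcases le_or_gt 0 n with hn | hn
    · obtain ⟨k, rfl⟩ := Int.eq_ofNat_of_zero_le hn
      rw [Int.toNat_natCast] at hcF
      refine ⟨Polynomial.C ⟨Polynomial.monomial k c, monomial_mem 𝓕 k c hcF⟩, ?_⟩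
      apply Subtype.ext
      rw [hΦ, Polynomial.coe_eval₂RingHom, Polynomial.eval₂_C, hι, hy,
        Polynomial.toLaurent_C_mul_T, ← single_eq_C_mul_T]
    · obtain ⟨k, hk⟩ : ∃ k : ℕ, n = -(k : ℤ) := ⟨(-n).toNat, by omega⟩
      refine ⟨Polynomial.C (algebraMap A ↥𝓕.rees c) * Polynomial.X ^ k, ?_⟩
      apply Subtype.ext
      rw [hΦ, Polynomial.coe_eval₂RingHom, Polynomial.eval₂_mul, Polynomial.eval₂_C,
        Polynomial.eval₂_X_pow, hy]
      change ((ι (algebraMap A ↥𝓕.rees c) : ↥𝓕.extRees) : A[T;T⁻¹]) * (T (-1)) ^ k = _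
      rw [hι, T_pow, hk, single_eq_C_mul_T]
      congr 1
      · change Polynomial.toLaurent (Polynomial.C c) = C c
        exact Polynomial.toLaurent_C c
      · congr 1
        ring
  | add a b ha hb =>
    obtain ⟨a', rfl⟩ := ha
    obtain ⟨b', rfl⟩ := hb
    exact ⟨a' + b', map_add _ _ _⟩

end ext

/-! ### the main theorems -/
section main

theorem main14649 (A : Type u) [CommRing A] [IsNoetherianRing A] [IsLocalRing A]
    (𝓕 : FiltBl.IdealFiltration A) (hsep : ⨅ n, 𝓕.F n = ⊥)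
    (hfg : Algebra.FiniteType A 𝓕.rees) :
    LocCoh.IsCohenMacaulayRing 𝓕.extRees ↔ LocCoh.IsCohenMacaulayRing 𝓕.Gr := by
  haveI := isNoetherianRing_extRees 𝓕 hfg
  constructor
  · intro h
    haveI := h
    exact cmRing_quot_of_nzd 𝓕.u (u_mem_nzd 𝓕)
  · intro h
    exact cmRing_of_quot (u_mem_nzd 𝓕) (meets 𝓕 hsep) h

theorem main14650 (A : Type u) [CommRing A] [IsNoetherianRing A] [IsLocalRing A]
    (𝓕 : FiltBl.IdealFiltration A) (hsep : ⨅ n, 𝓕.F n = ⊥)
    (hfg : Algebra.FiniteType A 𝓕.rees) :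
    LocCoh.IsGorensteinRing 𝓕.extRees ↔ LocCoh.IsGorensteinRing 𝓕.Gr := by
  haveI := isNoetherianRing_extRees 𝓕 hfg
  constructor
  · intro h
    haveI := h
    exact gorRing_quot_of_nzd 𝓕.u (u_mem_nzd 𝓕)
  · intro h
    exact gorRing_of_quot (u_mem_nzd 𝓕) (meets 𝓕 hsep) h

end main

end Groth.Agent.Lib.ExtReesH1
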