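import Mathlib
import Groth.Prelude.Def_W4c2filtblowupsingRees
import Groth.Agent.Lib.ExtRees_helper1
import Groth.Agent.Lib.LaurentCM_helper1
import Groth.Agent.Lib.CMEquiv_helper3

/-! The Laurent polynomial ring as the localization of the extended Rees algebra at `u = T⁻¹`;
Cohen–Macaulayness of the extended Rees algebra off the irrelevant ideal (helper1). -/

set_option autoImplicit false
set_option maxHeartbeats 400000

namespace Groth.Agent.Lib.ExtRees2H1

open LaurentPolynomial FiltBl FiltBl.IdealFiltration Groth.Agent.Lib.ExtReesH1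
  Groth.Agent.Lib.GrCritH1 Groth.Agent.Lib.GrCrit2H1

universe u

/-! ### Cohen–Macaulay local rings of a localization -/

theorem cm_loc_iff {R : Type u} [CommRing R] (M : Submonoid R) (S : Type u) [CommRing S]
    [Algebra R S] [IsLocalization M S] (Q : Ideal S) [Q.IsPrime] :
    LocCoh.IsCohenMacaulayLocalRing (Localization.AtPrime Q) ↔
      LocCoh.IsCohenMacaulayLocalRing (Localization.AtPrime (Q.comap (algebraMap R S))) := by
  haveI : IsLocalization.AtPrime (Localization.AtPrime Q) (Q.comap (algebraMap R S)) :=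
    IsLocalization.isLocalization_isLocalization_atPrime_isLocalization M _ Q
  have e : Localization.AtPrime (Q.comap (algebraMap R S)) ≃ₐ[R] Localization.AtPrime Q :=
    IsLocalization.algEquiv (Q.comap (algebraMap R S)).primeCompl _ _
  exact ⟨fun h => Groth.Agent.Lib.CMEquivH3.isCohenMacaulayLocalRing_of_ringEquiv
      e.symm.toRingEquiv h,
    fun h => Groth.Agent.Lib.CMEquivH3.isCohenMacaulayLocalRing_of_ringEquiv e.toRingEquiv h⟩

/-! ### the extended Rees algebra and the Laurent polynomial ring -/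
section ext

variable {A : Type u} [CommRing A] (𝓕 : IdealFiltration A)

theorem algebraMap_coe (x : ↥𝓕.extRees) :
    algebraMap ↥𝓕.extRees A[T;T⁻¹] x = (x : A[T;T⁻¹]) := rfl

theorem coe_u_pow (N : ℕ) : (((𝓕.u ^ N : ↥𝓕.extRees)) : A[T;T⁻¹]) = T (-(N : ℤ)) := by
  rw [Subalgebra.coe_pow, Groth.Agent.Lib.ExtReesH1.coe_u, T_pow, mul_neg_one]

instance isLocalization_away : IsLocalization.Away 𝓕.u A[T;T⁻¹] := by
  refine (isLocalization_iff _ _).2 ⟨?_, ?_, ?_⟩
  · rintro ⟨y, k, rfl⟩
    change IsUnit (algebraMap ↥𝓕.extRees A[T;T⁻¹] (𝓕.u ^ k))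
    rw [algebraMap_coe, coe_u_pow]
    exact isUnit_T _
  · intro z
    obtain ⟨M, hM⟩ := Finset.exists_le z.coeff.support
    have hmem : z * T (-(M.toNat : ℤ)) ∈ 𝓕.extRees := by
      intro n
      have hc : (z * T (-(M.toNat : ℤ))).coeff n = z.coeff (n + (M.toNat : ℤ)) := by
        change (z * AddMonoidAlgebra.single (-(M.toNat : ℤ)) (1 : A)).coeff n = _
        rw [AddMonoidAlgebra.coeff_mul_single_apply, mul_one, neg_neg]
      rw [hc]
      rcases le_or_gt n 0 with hn | hn
      · have h0 : n.toNat = 0 := Int.toNat_eq_zero.2 hn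
        rw [h0, 𝓕.zero_eq]
        exact Submodule.mem_top
      · have h0 : z.coeff (n + (M.toNat : ℤ)) = 0 := by
          by_contra hne
          have h1 := hM _ (Finsupp.mem_support_iff.2 hne)
          have h2 : M ≤ (M.toNat : ℤ) := Int.self_le_toNat M
          omega
        rw [h0]
        exact Ideal.zero_mem _
    refine ⟨(⟨z * T (-(M.toNat : ℤ)), hmem⟩, ⟨𝓕.u ^ M.toNat, M.toNat, rfl⟩), ?_⟩
    change z * algebraMap ↥𝓕.extRees A[T;T⁻¹] (𝓕.u ^ M.toNat) =
      algebraMap ↥𝓕.extRees A[T;T⁻¹] ⟨z * T (-(M.toNat : ℤ)), hmem⟩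
    rw [algebraMap_coe, algebraMap_coe, coe_u_pow]
  · intro x y h
    refine ⟨1, ?_⟩
    rw [algebraMap_coe, algebraMap_coe] at h
    rw [Subtype.ext h]

theorem exists_prime_laurent (P : Ideal ↥𝓕.extRees) [hP : P.IsPrime] (hu : 𝓕.u ∉ P) :
    ∃ (P' : Ideal A[T;T⁻¹]) (_ : P'.IsPrime),
      P'.comap (algebraMap ↥𝓕.extRees A[T;T⁻¹]) = P := by
  have hd : Disjoint (Submonoid.powers 𝓕.u : Set ↥𝓕.extRees) (P : Set ↥𝓕.extRees) :=
    (Ideal.disjoint_powers_iff_notMem_of_isPrime 𝓕.u).2 hu
  exact ⟨P.map (algebraMap ↥𝓕.extRees A[T;T⁻¹]),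
    IsLocalization.isPrime_of_isPrime_disjoint (Submonoid.powers 𝓕.u) _ P hP hd,
    IsLocalization.under_map_of_isPrime_disjoint (Submonoid.powers 𝓕.u) _ hP hd⟩

theorem cm_iff_laurent [IsNoetherianRing A] (P' : Ideal A[T;T⁻¹]) [P'.IsPrime] :
    LocCoh.IsCohenMacaulayLocalRing
        (Localization.AtPrime (P'.comap (algebraMap ↥𝓕.extRees A[T;T⁻¹]))) ↔
      LocCoh.IsCohenMacaulayLocalRing
        (Localization.AtPrime (P'.comap (algebraMap A A[T;T⁻¹]))) :=
  (cm_loc_iff (Submonoid.powers 𝓕.u) A[T;T⁻¹] P').symm.trans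
    (Groth.Agent.Lib.LaurentCMH1.isCM_iff A P')

end ext

/-! ### the main theorem -/
section main

theorem main14660 (A : Type u) [CommRing A] [IsNoetherianRing A]
    (𝓕 : FiltBl.IdealFiltration A) (hfg : Algebra.FiniteType A 𝓕.rees)
    (G : Type u) [CommRing G] (φ : 𝓕.extRees →+* G) (hφ : Function.Surjective φ)
    (hker : RingHom.ker φ = Ideal.span {𝓕.u}) (Rp : Ideal 𝓕.extRees)
    (hRp : Rp = Ideal.span {x : 𝓕.extRees | ∃ n : ℕ, 0 < n ∧ ∃ a ∈ 𝓕.F n,
      (x : LaurentPolynomial A) = LaurentPolynomial.C a * LaurentPolynomial.T (n : ℤ)}) :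
    (∀ (P : Ideal 𝓕.extRees) [P.IsPrime], ¬ Rp ≤ P →
        LocCoh.IsCohenMacaulayLocalRing (Localization.AtPrime P)) ↔
      ((∀ (p : Ideal G) [p.IsPrime], ¬ Ideal.map φ Rp ≤ p →
          LocCoh.IsCohenMacaulayLocalRing (Localization.AtPrime p)) ∧
        (∀ (q : Ideal A) [q.IsPrime], ¬ 𝓕.F 1 ≤ q →
            LocCoh.IsCohenMacaulayLocalRing (Localization.AtPrime q))) := by
  haveI := isNoetherianRing_extRees 𝓕 hfg
  have hu := u_mem_nzd 𝓕
  constructor
  · intro H
    constructor
    · intro p hp hnle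
      rw [cm_quot_iff φ hφ 𝓕.u hker hu p]
      apply H
      intro hle
      apply hnle
      calc Ideal.map φ Rp ≤ Ideal.map φ (p.comap φ) := Ideal.map_mono hle
        _ ≤ p := Ideal.map_comap_le
    · intro q hq hnle
      obtain ⟨a, haF, haq⟩ := SetLike.not_le_iff_exists.1 hnle
      have hcm := H ((Q0 q).comap (algebraMap ↥𝓕.extRees A[T;T⁻¹])) ?_
      · rw [cm_iff_laurent 𝓕 (Q0 q), cm_congr (comap_Q0 q)] at hcm
        exact hcm
      · intro hle
        have hmem : (AddMonoidAlgebra.single (1 : ℤ) a : A[T;T⁻¹]) ∈ 𝓕.extRees :=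
          single_mem 𝓕 1 a (by simpa using haF)
        have hx : (⟨_, hmem⟩ : ↥𝓕.extRees) ∈ Rp := by
          rw [hRp]
          refine Ideal.subset_span ⟨1, Nat.one_pos, a, haF, ?_⟩
          change AddMonoidAlgebra.single (1 : ℤ) a = C a * T ((1 : ℕ) : ℤ)
          rw [Nat.cast_one, ← single_eq_C_mul_T]
        have h1 := hle hx
        rw [Ideal.mem_comap, algebraMap_coe, mem_Q0] at h1
        have h2 := h1 1
        rw [AddMonoidAlgebra.coeff_single, Finsupp.single_eq_same] at h2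
        exact haq h2
  · rintro ⟨HG, HA⟩ P hP hnle
    by_cases huP : 𝓕.u ∈ P
    · have hkerle : RingHom.ker φ ≤ P := by
        rw [hker, Ideal.span_le, Set.singleton_subset_iff]
        exact huP
      have hcomap : (P.map φ).comap φ = P := by
        rw [Ideal.comap_map_of_surjective φ hφ, ← RingHom.ker_eq_comap_bot]
        exact sup_eq_left.2 hkerle
      haveI hmp : (P.map φ).IsPrime := Ideal.map_isPrime_of_surjective hφ hkerle
      have h1 : LocCoh.IsCohenMacaulayLocalRing (Localization.AtPrime (P.map φ)) := by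
        apply HG
        intro hle
        apply hnle
        calc Rp ≤ (Rp.map φ).comap φ := Ideal.le_comap_map
          _ ≤ (P.map φ).comap φ := Ideal.comap_mono hle
          _ = P := hcomap
      rw [cm_quot_iff φ hφ 𝓕.u hker hu (P.map φ), cm_congr hcomap] at h1
      exact h1
    · obtain ⟨P', hP', hcomap⟩ := exists_prime_laurent 𝓕 P huP
      haveI := hP'
      rw [← cm_congr hcomap, cm_iff_laurent 𝓕 P']
      apply HA
      intro hle
      apply hnle
      rw [hRp, Ideal.span_le]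
      rintro x ⟨n, hn, a, haF, hx⟩
      have ha1 : a ∈ 𝓕.F 1 := 𝓕.antitone (Nat.succ_le_of_lt hn) haF
      have ha2 := hle ha1
      rw [Ideal.mem_comap] at ha2
      have hx' : x ∈ P'.comap (algebraMap ↥𝓕.extRees A[T;T⁻¹]) := by
        rw [Ideal.mem_comap, algebraMap_coe, hx, LaurentPolynomial.C_eq_algebraMap]
        exact Ideal.mul_mem_right _ _ ha2
      rw [hcomap] at hx'
      exact hx'

end main

end Groth.Agent.Lib.ExtRees2H1
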