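import Mathlib
import Groth.Prelude.Def_W4c2filtblowupsingRees
import Groth.Agent.Lib.ExtRees2_helper1
import Groth.Agent.Lib.FlatCM4_helper9
import Groth.Agent.Lib.DepthDescent_helper5

/-! Serre's condition `(S_2)` for the extended Rees algebra (helper1). -/

set_option autoImplicit false
set_option maxHeartbeats 400000

namespace Groth.Agent.Lib.ExtRees3H1

open IsLocalRing LaurentPolynomial FiltBl FiltBl.IdealFiltration Groth.Agent.FlatCM
  Groth.Agent.DepthLib Groth.Agent.Lib.ExtReesH1 Groth.Agent.Lib.ExtRees2H1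
  Groth.Agent.Lib.GrCritH1 Groth.Agent.Lib.GrCrit2H1
open scoped Pointwise

universe u

/-! ### arithmetic -/

theorem enat_arith (k a : ℕ) (d : ℕ∞) :
    min (((k + 1 : ℕ)) : ℕ∞) ((a + 1 : ℕ) : ℕ∞) ≤ d + 1 ↔ min (k : ℕ∞) (a : ℕ∞) ≤ d := by
  have h1 : min (((k + 1 : ℕ)) : ℕ∞) ((a + 1 : ℕ) : ℕ∞) = min (k : ℕ∞) (a : ℕ∞) + 1 := by
    rw [Nat.cast_succ, Nat.cast_succ]
    rcases le_total (k : ℕ∞) (a : ℕ∞) with h | h
    · rw [min_eq_left h, min_eq_left (add_le_add_left h 1)]
    · rw [min_eq_right h, min_eq_right (add_le_add_left h 1)]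
  rw [h1]
  exact ENat.add_le_add_iff_right ENat.one_ne_top

theorem wb_min_le_iff (k a : ℕ) (d : ℕ∞) :
    min ((k : ℕ) : WithBot ℕ∞) ((a : ℕ) : WithBot ℕ∞) ≤ ((d : ℕ∞) : WithBot ℕ∞) ↔
      min (k : ℕ∞) (a : ℕ∞) ≤ d := by
  have : min ((k : ℕ) : WithBot ℕ∞) ((a : ℕ) : WithBot ℕ∞) =
      ((min (k : ℕ∞) (a : ℕ∞) : ℕ∞) : WithBot ℕ∞) := by
    rw [WithBot.coe_min]; rfl
  rw [this, WithBot.coe_le_coe]

theorem sk_arith (k a : ℕ) (d : ℕ∞) :
    min (((k + 1 : ℕ) : WithBot ℕ∞)) (((a : ℕ) : WithBot ℕ∞) + 1) ≤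
        ((d + 1 : ℕ∞) : WithBot ℕ∞) ↔
      min ((k : ℕ) : WithBot ℕ∞) ((a : ℕ) : WithBot ℕ∞) ≤ ((d : ℕ∞) : WithBot ℕ∞) := by
  rw [← Nat.cast_succ a, wb_min_le_iff, wb_min_le_iff]
  exact enat_arith k a d

/-! ### local rings modulo a regular element -/

/-- depth and dimension drop by one modulo a regular element of the maximal ideal -/
theorem depth_dim_of_quot_equiv (B T : Type u) [CommRing B] [IsLocalRing B] [IsNoetherianRing B]
    [CommRing T] [IsLocalRing T] (x : B) (hx : x ∈ maximalIdeal B) (hreg : IsSMulRegular B x)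
    (e : (B ⧸ Ideal.span {x}) ≃+* T) :
    LocCoh.depth T T + 1 = LocCoh.depth B B ∧ ringKrullDim T + 1 = ringKrullDim B := by
  have hsub : (Ideal.span {x} : Submodule B B) = x • (⊤ : Submodule B B) := by
    rw [← Submodule.ideal_span_singleton_smul, Groth.Agent.DepthLib.ideal_smul_top_self]
  have l : QuotSMulTop x B ≃ₗ[B] (B ⧸ Ideal.span {x}) := Submodule.quotEquivOfEq _ _ hsub.symm
  have hle : Ideal.span {x} ≤ maximalIdeal B := by
    rw [Ideal.span_le, Set.singleton_subset_iff]
    exact hx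
  haveI : IsLocalRing (B ⧸ Ideal.span {x}) := Groth.Agent.FibDim.isLocalRing_quot hle
  haveI : IsLocalHom (algebraMap B (B ⧸ Ideal.span {x})) :=
    IsLocalHom.of_surjective _ Ideal.Quotient.mk_surjective
  haveI : IsNoetherianRing T := isNoetherianRing_of_ringEquiv _ e
  have h3 := Module.supportDim_quotSMulTop_succ_eq_supportDim hreg hx
  have h4 := Groth.Agent.DepthLib.idealDepth_quotSMulTop_add_one (maximalIdeal B) B hx hreg
  constructor
  · rw [← depth_ringEquiv e,
      ← depth_eq_of_isLocalHom B (B ⧸ Ideal.span {x}) (B ⧸ Ideal.span {x})]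
    unfold LocCoh.depth
    rw [← idealDepth_congr _ _ l]
    exact h4
  · rw [← ringKrullDim_eq_of_ringEquiv e, ← Module.supportDim_quotient_eq_ringKrullDim,
      ← Module.supportDim_eq_of_equiv l, h3, Module.supportDim_self_eq_ringKrullDim]

/-! ### Serre's inequality -/

theorem skLoc_congr {R : Type u} [CommRing R] {k : ℕ} {q q' : Ideal R} [q.IsPrime] [q'.IsPrime]
    (h : q = q') :
    SkLoc k (Localization.AtPrime q) ↔ SkLoc k (Localization.AtPrime q') := by
  subst h
  exact Iff.rfl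

theorem skLoc_of_cm (k : ℕ) (T : Type u) [CommRing T] [IsLocalRing T] [IsNoetherianRing T]
    (h : LocCoh.IsCohenMacaulayLocalRing T) : SkLoc k T := by
  have h1 := (isCMLocalRing_iff T).1 h
  unfold SkLoc
  rw [h1]
  exact min_le_right _ _

theorem hasSk_of_isCMRing (k : ℕ) (R : Type u) [CommRing R] [h : LocCoh.IsCohenMacaulayRing R] :
    LocCoh.HasSk k R R := by
  haveI : IsNoetherianRing R := h.toIsNoetherian
  rw [hasSk_self_iff_skLoc]
  intro p hp
  haveI : IsNoetherianRing (Localization.AtPrime p) :=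
    IsLocalization.isNoetherianRing p.primeCompl _ inferInstance
  exact skLoc_of_cm k _ (h.isCohenMacaulayLocalRing_localization p)

theorem skLoc_loc_iff {R : Type u} [CommRing R] [IsNoetherianRing R] (M : Submonoid R)
    (S : Type u) [CommRing S] [Algebra R S] [IsLocalization M S] (k : ℕ) (Q : Ideal S)
    [Q.IsPrime] :
    SkLoc k (Localization.AtPrime Q) ↔
      SkLoc k (Localization.AtPrime (Q.comap (algebraMap R S))) := by
  haveI : IsNoetherianRing S := IsLocalization.isNoetherianRing M S inferInstance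
  haveI : IsNoetherianRing (Localization.AtPrime Q) :=
    IsLocalization.isNoetherianRing Q.primeCompl _ inferInstance
  haveI : IsNoetherianRing (Localization.AtPrime (Q.comap (algebraMap R S))) :=
    IsLocalization.isNoetherianRing (Q.comap (algebraMap R S)).primeCompl _ inferInstance
  haveI : IsLocalization.AtPrime (Localization.AtPrime Q) (Q.comap (algebraMap R S)) :=
    IsLocalization.isLocalization_isLocalization_atPrime_isLocalization M _ Q
  have e : Localization.AtPrime (Q.comap (algebraMap R S)) ≃ₐ[R] Localization.AtPrime Q :=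
    IsLocalization.algEquiv (Q.comap (algebraMap R S)).primeCompl _ _
  exact ⟨fun h => skLoc_of_ringEquiv e.symm.toRingEquiv h,
    fun h => skLoc_of_ringEquiv e.toRingEquiv h⟩

section quot

variable {S G : Type u} [CommRing S] [IsNoetherianRing S] [CommRing G] (g : S →+* G)
  (hg : Function.Surjective g) (x : S) (hker : RingHom.ker g = Ideal.span {x})
  (hx : x ∈ nonZeroDivisors S) (q : Ideal G) [q.IsPrime]

include hg hker hx in
theorem skLoc_quot_iff (k : ℕ) :
    SkLoc k (Localization.AtPrime q) ↔ SkLoc (k + 1) (Localization.AtPrime (q.comap g)) := by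
  obtain ⟨P, hPp, hP, ⟨e⟩, hmem, hreg⟩ := exists_data g hg x hker hx q
  haveI := hPp
  rw [← skLoc_congr hP]
  haveI : IsNoetherianRing (Localization.AtPrime P) :=
    IsLocalization.isNoetherianRing P.primeCompl _ inferInstance
  haveI : IsNoetherianRing G := isNoetherianRing_of_surjective S G g hg
  haveI : IsNoetherianRing (Localization.AtPrime q) :=
    IsLocalization.isNoetherianRing q.primeCompl _ inferInstance
  obtain ⟨hd, hdim⟩ := depth_dim_of_quot_equiv (Localization.AtPrime P) (Localization.AtPrime q)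
    _ hmem hreg e
  obtain ⟨a, ha⟩ := exists_nat_ringKrullDim (Localization.AtPrime q)
  unfold SkLoc
  rw [← hd, ← hdim, ha]
  exact (sk_arith k a _).symm

end quot

/-! ### the main theorem -/
section main

theorem main14651 (A : Type u) [CommRing A] [IsNoetherianRing A] [Nontrivial A]
    (𝓕 : FiltBl.IdealFiltration A) (hfg : Algebra.FiniteType A 𝓕.rees) :
    LocCoh.HasSk 2 𝓕.extRees 𝓕.extRees ↔ (LocCoh.HasSk 1 𝓕.Gr 𝓕.Gr ∧ LocCoh.HasSk 2 A A) := by
  haveI := isNoetherianRing_extRees 𝓕 hfg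
  have hu := u_mem_nzd 𝓕
  have hLA : LocCoh.HasSk 2 A[T;T⁻¹] A[T;T⁻¹] ↔ LocCoh.HasSk 2 A A := by
    constructor
    · intro h
      exact hasSk_of_faithfullyFlat A A[T;T⁻¹] 2 h
    · intro h
      exact hasSk_of_flat A A[T;T⁻¹] 2 h (fun p hp => hasSk_of_isCMRing 2 _)
  rw [← hLA]
  constructor
  · intro H
    rw [hasSk_self_iff_skLoc] at H
    constructor
    · rw [hasSk_self_iff_skLoc]
      intro p hp
      rw [skLoc_quot_iff (Ideal.Quotient.mk _) Ideal.Quotient.mk_surjective 𝓕.u Ideal.mk_ker hu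
        p 1]
      exact H _
    · rw [hasSk_self_iff_skLoc]
      intro Q hQ
      rw [skLoc_loc_iff (Submonoid.powers 𝓕.u) A[T;T⁻¹] 2 Q]
      exact H _
  · rintro ⟨HG, HL⟩
    rw [hasSk_self_iff_skLoc] at HG HL ⊢
    intro P hP
    by_cases huP : 𝓕.u ∈ P
    · have hkerle : RingHom.ker (Ideal.Quotient.mk (Ideal.span {𝓕.u})) ≤ P := by
        rw [Ideal.mk_ker, Ideal.span_le, Set.singleton_subset_iff]
        exact huP
      have hcomap : (P.map (Ideal.Quotient.mk (Ideal.span {𝓕.u}))).comap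
          (Ideal.Quotient.mk (Ideal.span {𝓕.u})) = P := by
        rw [Ideal.comap_map_of_surjective _ Ideal.Quotient.mk_surjective,
          ← RingHom.ker_eq_comap_bot]
        exact sup_eq_left.2 hkerle
      haveI hmp : (P.map (Ideal.Quotient.mk (Ideal.span {𝓕.u}))).IsPrime :=
        Ideal.map_isPrime_of_surjective Ideal.Quotient.mk_surjective hkerle
      have h1 := HG (P.map (Ideal.Quotient.mk (Ideal.span {𝓕.u})))
      rw [skLoc_quot_iff (Ideal.Quotient.mk _) Ideal.Quotient.mk_surjective 𝓕.u Ideal.mk_ker hu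
        _ 1, skLoc_congr hcomap] at h1
      exact h1
    · obtain ⟨P', hP', hcomap⟩ := exists_prime_laurent 𝓕 P huP
      haveI := hP'
      rw [← skLoc_congr hcomap, ← skLoc_loc_iff (Submonoid.powers 𝓕.u) A[T;T⁻¹] 2 P']
      exact HL P'

end main

end Groth.Agent.Lib.ExtRees3H1
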