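import Mathlib
import Groth.Prelude.Def_W4c2filtblowupsingRees
import Groth.Agent.Lib.ExtRees_helper1
import Groth.Agent.Lib.ExtRees2_helper1

/-! Nagata's criterion for unique factorization (via Kaplansky's criterion), descent of unique
factorization from the Laurent polynomial ring, and unique factorization for the extended Rees
algebra of a filtration (helper1). -/

set_option autoImplicit false
set_option maxHeartbeats 400000

namespace Groth.Agent.Lib.ExtReesUFDH1

open LaurentPolynomial FiltBl FiltBl.IdealFiltration Groth.Agent.Lib.ExtReesH1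
  Groth.Agent.Lib.ExtRees2H1

universe u

/-! ### Nagata's criterion -/

/-- Nagata's criterion: if `u` is a prime element of a domain `R` with `⋂ uⁿR = 0` and `R[1/u]` is
a UFD, then `R` is a UFD. -/
theorem nagata {R : Type*} [CommRing R] [IsDomain R] (u : R) (hu : Prime u)
    (hsepU : ∀ x : R, (∀ n : ℕ, u ^ n ∣ x) → x = 0)
    (L : Type*) [CommRing L] [Algebra R L] [IsLocalization.Away u L]
    [UniqueFactorizationMonoid L] : UniqueFactorizationMonoid R := by
  have hinj : Function.Injective (algebraMap R L) :=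
    IsLocalization.injective L (M := Submonoid.powers u)
      (powers_le_nonZeroDivisors_of_noZeroDivisors hu.ne_zero)
  have hunit : ∀ k : ℕ, IsUnit (algebraMap R L (u ^ k)) := fun k =>
    IsLocalization.map_units L (⟨u ^ k, k, rfl⟩ : Submonoid.powers u)
  haveI : IsDomain L := IsLocalization.isDomain_of_le_nonZeroDivisors L
    (powers_le_nonZeroDivisors_of_noZeroDivisors hu.ne_zero)
  -- divisibility descends for elements prime to `u`
  have key : ∀ x' : R, ¬ u ∣ x' → ∀ a : R, algebraMap R L x' ∣ algebraMap R L a → x' ∣ a := by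
    intro x' hndvd a hdiv
    obtain ⟨z, hz⟩ := hdiv
    obtain ⟨⟨c, s⟩, hcs⟩ := IsLocalization.surj (Submonoid.powers u) z
    obtain ⟨k, hk⟩ := s.2
    have hcs' : z * algebraMap R L (u ^ k) = algebraMap R L c := by
      have e : (u ^ k : R) = (s : R) := hk
      rw [e]
      exact hcs
    have e : a * u ^ k = x' * c := by
      apply hinj
      rw [map_mul, map_mul, hz, mul_assoc, hcs']
    have h1 : u ^ k ∣ x' * c := ⟨a, by rw [← e, mul_comm]⟩
    obtain ⟨c', hc'⟩ := hu.pow_dvd_of_dvd_mul_left k hndvd h1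
    refine ⟨c', ?_⟩
    apply mul_right_cancel₀ (pow_ne_zero k hu.ne_zero)
    rw [e, hc']
    ring
  refine UniqueFactorizationMonoid.iff_exists_prime_mem_of_isPrime.2 ?_
  intro P hP0 hP
  by_cases huP : u ∈ P
  · exact ⟨u, huP, hu⟩
  have hd : Disjoint (Submonoid.powers u : Set R) (P : Set R) :=
    (Ideal.disjoint_powers_iff_notMem_of_isPrime u).2 huP
  have hP' : (P.map (algebraMap R L)).IsPrime :=
    IsLocalization.isPrime_of_isPrime_disjoint (Submonoid.powers u) L P hP hd
  have hcomap : (P.map (algebraMap R L)).comap (algebraMap R L) = P :=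
    IsLocalization.under_map_of_isPrime_disjoint (Submonoid.powers u) L hP hd
  have hP'0 : P.map (algebraMap R L) ≠ ⊥ := by
    intro h
    apply hP0
    rw [eq_bot_iff]
    intro x hx
    have h1 : algebraMap R L x ∈ P.map (algebraMap R L) := Ideal.mem_map_of_mem _ hx
    rw [h, Ideal.mem_bot] at h1
    rw [Ideal.mem_bot]
    apply hinj
    rw [h1, map_zero]
  obtain ⟨y, hyP, hy⟩ :=
    (UniqueFactorizationMonoid.iff_exists_prime_mem_of_isPrime (R := L)).1 inferInstance _
      hP'0 hP'
  obtain ⟨⟨x, s⟩, hxs⟩ := IsLocalization.surj (Submonoid.powers u) y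
  obtain ⟨k, hk⟩ := s.2
  have hxs' : y * algebraMap R L (u ^ k) = algebraMap R L x := by
    have e : (u ^ k : R) = (s : R) := hk
    rw [e]
    exact hxs
  have hxprime : Prime (algebraMap R L x) := by
    have hass : Associated y (algebraMap R L x) :=
      ⟨(hunit k).unit, by rw [IsUnit.unit_spec]; exact hxs'⟩
    exact hass.prime hy
  have hxP : x ∈ P := by
    rw [← hcomap, Ideal.mem_comap, ← hxs']
    exact Ideal.mul_mem_right _ _ hyP
  have hx0 : x ≠ 0 := by
    intro h
    apply hxprime.ne_zero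
    rw [h, map_zero]
  have hfin : FiniteMultiplicity u x := by
    by_contra hnf
    apply hx0
    apply hsepU
    intro n
    by_contra hn
    apply hnf
    cases n with
    | zero => exact absurd (by rw [pow_zero]; exact one_dvd x) hn
    | succ m => exact ⟨m, hn⟩
  obtain ⟨x', hx', hndvd⟩ := hfin.exists_eq_pow_mul_and_not_dvd
  have hx'P : x' ∈ P := by
    rw [hx'] at hxP
    exact (hP.mem_or_mem hxP).resolve_left (fun h => huP (hP.mem_of_pow_mem _ h))
  have hx'prime : Prime (algebraMap R L x') := by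
    have hass : Associated (algebraMap R L x') (algebraMap R L x) :=
      ⟨(hunit (multiplicity u x)).unit, by
        rw [IsUnit.unit_spec, ← map_mul, mul_comm, ← hx']⟩
    exact hass.symm.prime hxprime
  refine ⟨x', hx'P, ?_, ?_, ?_⟩
  · intro h
    apply hx'prime.ne_zero
    rw [h, map_zero]
  · intro h
    exact hx'prime.not_unit (h.map _)
  · intro a b hab
    have h1 : algebraMap R L x' ∣ algebraMap R L a * algebraMap R L b := by
      rw [← map_mul]
      exact map_dvd _ hab
    exact (hx'prime.dvd_or_dvd h1).imp (key x' hndvd a) (key x' hndvd b)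

/-! ### factors of monomials -/

theorem poly_factor {A : Type*} [CommRing A] [IsDomain A] (F G : Polynomial A) (m : ℕ) (a : A)
    (ha : a ≠ 0) (h : F * G = Polynomial.monomial m a) :
    ∃ (i : ℕ) (b : A), F = Polynomial.monomial i b := by
  have hFG : F * G ≠ 0 := by
    rw [h]
    intro h0
    exact ha ((Polynomial.monomial_eq_zero_iff a m).1 h0)
  have hF : F ≠ 0 := left_ne_zero_of_mul hFG
  have hG : G ≠ 0 := right_ne_zero_of_mul hFG
  have h1 := Polynomial.natDegree_mul hF hG
  have h2 := Polynomial.natTrailingDegree_mul hF hG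
  rw [h, Polynomial.natDegree_monomial_eq m ha] at h1
  rw [h, Polynomial.natTrailingDegree_monomial ha] at h2
  have h3 := Polynomial.natTrailingDegree_le_natDegree F
  have h4 := Polynomial.natTrailingDegree_le_natDegree G
  have h5 : F.natTrailingDegree = F.natDegree := by omega
  refine ⟨F.natDegree, F.coeff F.natDegree, ?_⟩
  ext n
  rw [Polynomial.coeff_monomial]
  split_ifs with hn
  · rw [hn]
  · rcases lt_or_gt_of_ne hn with hlt | hgt
    · exact Polynomial.coeff_eq_zero_of_natDegree_lt hlt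
    · exact Polynomial.coeff_eq_zero_of_lt_natTrailingDegree (h5 ▸ hgt)

theorem laurent_factor {A : Type*} [CommRing A] [IsDomain A] (f g : A[T;T⁻¹]) (n : ℤ) (a : A)
    (ha : a ≠ 0) (h : f * g = AddMonoidAlgebra.single n a) :
    ∃ (i : ℤ) (b : A), f = AddMonoidAlgebra.single i b := by
  obtain ⟨k, F, hF⟩ := exists_T_pow f
  obtain ⟨l, G, hG⟩ := exists_T_pow g
  have h1 : Polynomial.toLaurent (F * G) = C a * T (n + k + l) := by
    rw [map_mul, hF, hG]
    calc f * T k * (g * T l) = (f * g) * (T k * T l) := by ring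
      _ = C a * T (n + k + l) := by
        rw [h, single_eq_C_mul_T, ← T_add, mul_assoc, ← T_add, add_assoc]
  have h2 : F * G = if 0 ≤ n + k + l then Polynomial.monomial (n + k + l).toNat a else 0 := by
    rw [← Polynomial.trunc_toLaurent (F * G), h1, trunc_C_mul_T]
  split_ifs at h2 with hN
  · obtain ⟨i, b, hFb⟩ := poly_factor F G _ a ha h2
    refine ⟨i - k, b, ?_⟩
    have e : f = Polynomial.toLaurent F * T (-(k : ℤ)) := by
      rw [hF, mul_assoc, ← T_add, add_neg_cancel, T_zero, mul_one]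
    rw [e, hFb, Polynomial.toLaurent_C_mul_T, mul_assoc, ← T_add, single_eq_C_mul_T,
      sub_eq_add_neg]
  · exfalso
    rw [h2, map_zero] at h1
    have h3 : (AddMonoidAlgebra.single (n + k + l) a : A[T;T⁻¹]) = 0 := by
      rw [single_eq_C_mul_T, ← h1]
    exact ha (AddMonoidAlgebra.single_eq_zero.1 h3)

theorem isUnit_single {A : Type*} [CommRing A] (i : ℤ) (b : A) (hb : IsUnit b) :
    IsUnit (AddMonoidAlgebra.single i b : A[T;T⁻¹]) := by
  rw [single_eq_C_mul_T]
  exact (hb.map C).mul (isUnit_T i)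

theorem single_eq_single {A : Type*} [CommRing A] {i j : ℤ} {b c : A} (hc : c ≠ 0)
    (h : (AddMonoidAlgebra.single i b : A[T;T⁻¹]) = AddMonoidAlgebra.single j c) :
    i = j ∧ b = c := by
  have h1 := congrArg (fun p : A[T;T⁻¹] => p.coeff j) h
  simp only [AddMonoidAlgebra.coeff_single, Finsupp.single_eq_same] at h1
  by_cases hij : i = j
  · subst hij
    rw [Finsupp.single_eq_same] at h1
    exact ⟨rfl, h1⟩
  · rw [Finsupp.single_eq_of_ne (Ne.symm hij)] at h1
    exact absurd h1.symm hc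

theorem dvd_of_C_dvd_C {A : Type*} [CommRing A] {a x : A}
    (h : (C a : A[T;T⁻¹]) ∣ C x) : a ∣ x := by
  obtain ⟨w, hw⟩ := h
  refine ⟨w.coeff 0, ?_⟩
  have h1 := congrArg (fun p : A[T;T⁻¹] => p.coeff 0) hw
  simp only [C_apply, if_true] at h1
  rw [h1, ← single_eq_C, AddMonoidAlgebra.coeff_single_mul_apply, neg_zero, zero_add]

/-! ### descent of unique factorization from the Laurent polynomial ring -/

theorem ufd_of_laurent (A : Type*) [CommRing A] [IsDomain A] [IsNoetherianRing A]
    [UniqueFactorizationMonoid A[T;T⁻¹]] : UniqueFactorizationMonoid A := by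
  haveI : WfDvdMonoid A := IsNoetherianRing.wfDvdMonoid
  refine { irreducible_iff_prime := fun {a} => ⟨fun hirr => ?_, Prime.irreducible⟩ }
  have ha0 : a ≠ 0 := hirr.ne_zero
  have hCirr : Irreducible (C a : A[T;T⁻¹]) := by
    rw [irreducible_iff]
    constructor
    · intro hu
      obtain ⟨v, hv⟩ := hu.exists_right_inv
      apply hirr.not_isUnit
      have h1 : (C a : A[T;T⁻¹]) ∣ C 1 := ⟨v, by rw [hv, map_one]⟩
      exact isUnit_of_dvd_one (dvd_of_C_dvd_C h1)
    · intro f g hfg
      have hfg' : f * g = AddMonoidAlgebra.single 0 a := by rw [← hfg, single_eq_C]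
      have hgf' : g * f = AddMonoidAlgebra.single 0 a := by rw [mul_comm, hfg']
      obtain ⟨i, b, rfl⟩ := laurent_factor f g 0 a ha0 hfg'
      obtain ⟨j, c, rfl⟩ := laurent_factor g _ 0 a ha0 hgf'
      rw [AddMonoidAlgebra.single_mul_single] at hfg'
      obtain ⟨-, hbc⟩ := single_eq_single ha0 hfg'
      rcases hirr.isUnit_or_isUnit hbc.symm with hb | hc
      · exact Or.inl (isUnit_single i b hb)
      · exact Or.inr (isUnit_single j c hc)
  have hCprime : Prime (C a : A[T;T⁻¹]) :=
    UniqueFactorizationMonoid.irreducible_iff_prime.1 hCirr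
  refine ⟨ha0, hirr.not_isUnit, ?_⟩
  intro x y hxy
  have h1 : (C a : A[T;T⁻¹]) ∣ C x * C y := by
    rw [← map_mul]
    exact map_dvd _ hxy
  exact (hCprime.dvd_or_dvd h1).imp dvd_of_C_dvd_C dvd_of_C_dvd_C

/-! ### the extended Rees algebra -/
section ext

variable {A : Type u} [CommRing A] (𝓕 : IdealFiltration A)

theorem eq_zero_of_forall_pow_dvd (hsep : ⨅ n, 𝓕.F n = ⊥) (x : ↥𝓕.extRees)
    (h : ∀ n : ℕ, 𝓕.u ^ n ∣ x) : x = 0 := by
  apply Subtype.ext
  apply LaurentPolynomial.ext
  intro m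
  have hm : (x : A[T;T⁻¹]).coeff m ∈ ⨅ n, 𝓕.F n := by
    rw [Submodule.mem_iInf]
    intro k
    obtain ⟨y, hy⟩ := h ((k : ℤ) - m).toNat
    have h1 : (x : A[T;T⁻¹]) = T (-((((k : ℤ) - m).toNat : ℕ) : ℤ)) * (y : A[T;T⁻¹]) := by
      rw [hy]
      change ((𝓕.u ^ ((k : ℤ) - m).toNat : ↥𝓕.extRees) : A[T;T⁻¹]) * (y : A[T;T⁻¹]) = _
      rw [coe_u_pow]
    have h2 : (x : A[T;T⁻¹]).coeff m = (y : A[T;T⁻¹]).coeff ((((k : ℤ) - m).toNat : ℤ) + m) := by
      rw [h1]
      change (AddMonoidAlgebra.single (-((((k : ℤ) - m).toNat : ℕ) : ℤ)) (1 : A) *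
        (y : A[T;T⁻¹])).coeff m = _
      rw [AddMonoidAlgebra.coeff_single_mul_apply, one_mul, neg_neg]
    rw [h2]
    refine 𝓕.antitone ?_ (y.2 _)
    omega
  rw [hsep, Ideal.mem_bot] at hm
  rw [hm]
  rfl

theorem irreducible_u [IsDomain A] (hsep : ⨅ n, 𝓕.F n = ⊥) : Irreducible 𝓕.u := by
  have hF1 : 𝓕.F 1 ≠ ⊤ := F_one_ne_top 𝓕 hsep
  -- a monomial with unit coefficient in the extended Rees algebra has degree `≤ 0`
  have K : ∀ (x : ↥𝓕.extRees) (i : ℤ) (b : A), (x : A[T;T⁻¹]) = AddMonoidAlgebra.single i b →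
      IsUnit b → i ≤ 0 := by
    intro x i b hx hb
    by_contra hi
    apply hF1
    have h1 : (x : A[T;T⁻¹]).coeff i ∈ 𝓕.F i.toNat := x.2 i
    rw [hx, AddMonoidAlgebra.coeff_single, Finsupp.single_eq_same] at h1
    have h2 : b ∈ 𝓕.F 1 := 𝓕.antitone (show 1 ≤ i.toNat by omega) h1
    exact Ideal.eq_top_of_isUnit_mem _ h2 hb
  have U : ∀ (x : ↥𝓕.extRees) (b : A), (x : A[T;T⁻¹]) = AddMonoidAlgebra.single 0 b →
      IsUnit b → IsUnit x := by
    intro x b hx hb
    obtain ⟨b', hb'⟩ := hb.exists_right_inv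
    have hmem : (AddMonoidAlgebra.single 0 b' : A[T;T⁻¹]) ∈ 𝓕.extRees :=
      single_mem 𝓕 0 b' (by
        rw [Int.toNat_zero, 𝓕.zero_eq]
        exact Submodule.mem_top)
    refine IsUnit.of_mul_eq_one ⟨_, hmem⟩ ?_
    apply Subtype.ext
    change (x : A[T;T⁻¹]) * AddMonoidAlgebra.single 0 b' = 1
    rw [hx, AddMonoidAlgebra.single_mul_single, add_zero, hb']
    rfl
  rw [irreducible_iff]
  constructor
  · intro hu
    obtain ⟨v, hv⟩ := hu.exists_right_inv
    have h1 : (T (-1) : A[T;T⁻¹]) * (v : A[T;T⁻¹]) = 1 := congrArg Subtype.val hv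
    have h2 : (v : A[T;T⁻¹]) = AddMonoidAlgebra.single 1 1 := by
      calc (v : A[T;T⁻¹]) = T 1 * (T (-1) * (v : A[T;T⁻¹])) := by
            rw [← mul_assoc, ← T_add]
            simp
        _ = AddMonoidAlgebra.single 1 1 := by
            rw [h1, mul_one]
            rfl
    have := K v 1 1 h2 isUnit_one
    omega
  · intro x y hxy
    have h1 : (x : A[T;T⁻¹]) * (y : A[T;T⁻¹]) = AddMonoidAlgebra.single (-1) 1 := by
      have := congrArg Subtype.val hxy
      exact this.symm
    have h1' : (y : A[T;T⁻¹]) * (x : A[T;T⁻¹]) = AddMonoidAlgebra.single (-1) 1 := by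
      rw [mul_comm, h1]
    obtain ⟨i, b, hxb⟩ := laurent_factor _ _ (-1) (1 : A) one_ne_zero h1
    obtain ⟨j, c, hyc⟩ := laurent_factor _ _ (-1) (1 : A) one_ne_zero h1'
    rw [hxb, hyc, AddMonoidAlgebra.single_mul_single] at h1
    obtain ⟨hij, hbc⟩ := single_eq_single one_ne_zero h1
    have hb : IsUnit b := IsUnit.of_mul_eq_one c hbc
    have hc : IsUnit c := IsUnit.of_mul_eq_one b (by rw [mul_comm, hbc])
    have hi := K x i b hxb hb
    have hj := K y j c hyc hc
    rcases (show i = 0 ∨ j = 0 by omega) with h0 | h0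
    · subst h0
      exact Or.inl (U x b hxb hb)
    · subst h0
      exact Or.inr (U y c hyc hc)

end ext

/-! ### the main theorem -/

theorem main14653 (A : Type u) [CommRing A] [IsNoetherianRing A]
    (𝓕 : FiltBl.IdealFiltration A) (hsep : ⨅ n, 𝓕.F n = ⊥) [IsDomain A]
    [IsDomain 𝓕.extRees] :
    UniqueFactorizationMonoid 𝓕.extRees ↔ (UniqueFactorizationMonoid A ∧ IsDomain 𝓕.Gr) := by
  have hu0 : 𝓕.u ≠ 0 := nonZeroDivisors.ne_zero (u_mem_nzd 𝓕)
  have hGr : IsDomain 𝓕.Gr ↔ Prime 𝓕.u := by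
    rw [Ideal.Quotient.isDomain_iff_prime, Ideal.span_singleton_prime hu0]
  constructor
  · intro hufd
    haveI := hufd
    haveI : UniqueFactorizationMonoid A[T;T⁻¹] :=
      UniqueFactorizationMonoid.of_isLocalization (Submonoid.powers 𝓕.u) A[T;T⁻¹]
    exact ⟨ufd_of_laurent A,
      hGr.2 (UniqueFactorizationMonoid.irreducible_iff_prime.1 (irreducible_u 𝓕 hsep))⟩
  · rintro ⟨hA, hG⟩
    haveI := hA
    haveI : UniqueFactorizationMonoid A[T;T⁻¹] :=
      UniqueFactorizationMonoid.of_isLocalization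
        (Submonoid.powers (Polynomial.X : Polynomial A)) A[T;T⁻¹]
    exact nagata 𝓕.u (hGr.1 hG) (eq_zero_of_forall_pow_dvd 𝓕 hsep) A[T;T⁻¹]

end Groth.Agent.Lib.ExtReesUFDH1
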