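import Mathlib
import Groth.Agent.Lib.ExtTop_helper5

/-!
# Representability of `Ext^p(-, A)` on modules killed by `J` (helper5)

For a regular local ring `A`, an ideal `J` with `dim A/J + p ≤ dim A` and a finite module `M`
killed by `J`: `Ext^p(M, A) ≅ Hom(Hom(A/J, M), Ext^p(A/J, A))` via pull-back.
-/

universe u

open CategoryTheory Abelian

namespace Groth.Agent.ExtRep

section lift

variable {A : Type u} [CommRing A] (J : Ideal A)

/-- the map `A/J → X`, `1 ↦ x`, for `X` killed by `J` -/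
noncomputable def liftJ {X : Type u} [AddCommGroup X] [Module A X]
    (hX : ∀ a ∈ J, ∀ x : X, a • x = 0) (x : X) : (A ⧸ J) →ₗ[A] X :=
  Submodule.liftQ J (LinearMap.toSpanSingleton A X x) (by
    intro a ha
    rw [LinearMap.mem_ker, LinearMap.toSpanSingleton_apply]
    exact hX a ha x)

theorem liftJ_mk {X : Type u} [AddCommGroup X] [Module A X]
    (hX : ∀ a ∈ J, ∀ x : X, a • x = 0) (x : X) (a : A) :
    liftJ J hX x (Ideal.Quotient.mk J a) = a • x := by
  unfold liftJ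
  exact (Submodule.liftQ_apply J (LinearMap.toSpanSingleton A X x) a).trans
    (LinearMap.toSpanSingleton_apply A X x a)

theorem liftJ_one {X : Type u} [AddCommGroup X] [Module A X]
    (hX : ∀ a ∈ J, ∀ x : X, a • x = 0) (x : X) :
    liftJ J hX x 1 = x := by
  have := liftJ_mk J hX x 1
  rw [map_one, one_smul] at this
  exact this

theorem smul_one_eq_mk (a : A) : a • (1 : A ⧸ J) = Ideal.Quotient.mk J a := by
  rw [Algebra.smul_def, mul_one]
  rfl

theorem hom_ext {X : Type u} [AddCommGroup X] [Module A X] (f g : (A ⧸ J) →ₗ[A] X)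
    (h : f 1 = g 1) : f = g := by
  apply LinearMap.ext
  intro y
  obtain ⟨a, rfl⟩ := Ideal.Quotient.mk_surjective y
  rw [← smul_one_eq_mk, map_smul, map_smul, h]

theorem killed_pi {b : ℕ} : ∀ a ∈ J, ∀ c : Fin b → A ⧸ J, a • c = 0 := by
  intro a ha c
  funext k
  rw [Pi.smul_apply, Pi.zero_apply]
  obtain ⟨y, hy⟩ := Ideal.Quotient.mk_surjective (c k)
  rw [← hy, Algebra.smul_def, Ideal.Quotient.algebraMap_eq, ← map_mul,
    Ideal.Quotient.eq_zero_iff_mem]
  exact J.mul_mem_right y ha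

variable {M : Type u} [AddCommGroup M] [Module A M] (hM : ∀ a ∈ J, ∀ x : M, a • x = 0)
  {b : ℕ} (v : Fin b → M)

/-- the map `(A/J)^b → M` determined by `v` -/
noncomputable def piMap : (Fin b → A ⧸ J) →ₗ[A] M :=
  ∑ k, (liftJ J hM (v k)) ∘ₗ (LinearMap.proj k : (Fin b → A ⧸ J) →ₗ[A] A ⧸ J)

theorem piMap_apply (c : Fin b → A ⧸ J) : piMap J hM v c = ∑ k, liftJ J hM (v k) (c k) := by
  unfold piMap
  rw [LinearMap.sum_apply]
  rfl

theorem piMap_single (k : Fin b) :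
    piMap J hM v (Pi.single k (1 : A ⧸ J) : Fin b → A ⧸ J) = v k := by
  rw [piMap_apply, Finset.sum_eq_single k]
  · rw [Pi.single_eq_same, liftJ_one]
  · intro k' _ hk'
    rw [Pi.single_eq_of_ne hk', map_zero]
  · intro h
    exact absurd (Finset.mem_univ k) h

theorem piMap_surjective (hv : Submodule.span A (Set.range v) = ⊤) :
    Function.Surjective (piMap J hM v) := by
  rw [← LinearMap.range_eq_top, eq_top_iff, ← hv, Submodule.span_le]
  rintro _ ⟨k, rfl⟩
  exact ⟨Pi.single k 1, piMap_single J hM v k⟩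

theorem proj_comp (w' : (A ⧸ J) →ₗ[A] (Fin b → A ⧸ J)) (a : Fin b → A)
    (ha : ∀ k, Ideal.Quotient.mk J (a k) = w' 1 k) (k : Fin b) :
    (LinearMap.proj k : (Fin b → A ⧸ J) →ₗ[A] A ⧸ J) ∘ₗ w' =
      a k • (LinearMap.id : (A ⧸ J) →ₗ[A] (A ⧸ J)) := by
  apply hom_ext
  rw [LinearMap.comp_apply, LinearMap.proj_apply, LinearMap.smul_apply, LinearMap.id_apply,
    smul_one_eq_mk, ha]

theorem piMap_comp (w' : (A ⧸ J) →ₗ[A] (Fin b → A ⧸ J)) (a : Fin b → A)
    (ha : ∀ k, Ideal.Quotient.mk J (a k) = w' 1 k) :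
    piMap J hM v ∘ₗ w' = ∑ k, a k • liftJ J hM (v k) := by
  apply hom_ext
  rw [LinearMap.comp_apply, piMap_apply, LinearMap.sum_apply]
  apply Finset.sum_congr rfl
  intro k _
  rw [← ha k, liftJ_mk, LinearMap.smul_apply, liftJ_one]

theorem ofHom_sum {X Y : Type u} [AddCommGroup X] [Module A X] [AddCommGroup Y] [Module A Y]
    {ι : Type} [Fintype ι] (f : ι → (X →ₗ[A] Y)) :
    ModuleCat.ofHom (∑ k, f k) = ∑ k, ModuleCat.ofHom (f k) := by
  apply ModuleCat.hom_ext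
  rw [ModuleCat.hom_sum]
  rfl

/-- the key computation in `Ext` -/
theorem ext_comp_pi {Y : ModuleCat.{u} A} {n : ℕ}
    (g : ((A ⧸ J) →ₗ[A] M) →ₗ[A] Ext (ModuleCat.of A (A ⧸ J)) Y n)
    (w' : (A ⧸ J) →ₗ[A] (Fin b → A ⧸ J)) (a : Fin b → A)
    (ha : ∀ k, Ideal.Quotient.mk J (a k) = w' 1 k) :
    (Ext.mk₀ (ModuleCat.ofHom w')).comp
      (∑ k, (Ext.mk₀ (ModuleCat.ofHom
        (LinearMap.proj k : (Fin b → A ⧸ J) →ₗ[A] A ⧸ J))).comp (g (liftJ J hM (v k)))
          (zero_add n)) (zero_add n) = g (piMap J hM v ∘ₗ w') := by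
  rw [Ext.comp_sum, piMap_comp J hM v w' a ha, map_sum]
  apply Finset.sum_congr rfl
  intro k _
  rw [Ext.mk₀_comp_mk₀_assoc, ← ModuleCat.ofHom_comp, proj_comp J w' a ha k, map_smul]
  have h1 : ModuleCat.ofHom (a k • (LinearMap.id : (A ⧸ J) →ₗ[A] (A ⧸ J))) =
      a k • 𝟙 (ModuleCat.of A (A ⧸ J)) := rfl
  rw [h1, Ext.mk₀_smul, Ext.smul_comp, Ext.mk₀_id_comp]

end lift

section regular

variable (A : Type u) [CommRing A] [IsRegularLocalRing A] (p : ℕ) (J : Ideal A)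
  (hJ : ringKrullDim (A ⧸ J) + p ≤ ringKrullDim A)

include hJ in
theorem vanish (N : Type u) [AddCommGroup N] [Module A N] [Module.Finite A N]
    (hN : ∀ a ∈ J, ∀ x : N, a • x = 0) (i : ℕ) (hi : i < p) :
    Subsingleton (Ext (ModuleCat.of A N) (ModuleCat.of A A) i) := by
  apply Groth.Agent.ExtTop.ext_vanish_of_supportDim A N p ?_ i hi
  have hle : J ≤ Module.annihilator A N := fun a ha => Module.mem_annihilator.2 (hN a ha)
  have h1 : Module.supportDim A N ≤ ringKrullDim (A ⧸ J) := by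
    rw [Module.supportDim_eq_ringKrullDim_quotient_annihilator]
    exact ringKrullDim_le_of_surjective (Ideal.Quotient.factor hle)
      (Ideal.Quotient.factor_surjective hle)
  exact (add_le_add_left h1 _).trans hJ

include hJ in
theorem inj_aux (N : Type u) [AddCommGroup N] [Module A N] [Module.Finite A N]
    (hN : ∀ a ∈ J, ∀ x : N, a • x = 0)
    (ξ : Ext (ModuleCat.of A N) (ModuleCat.of A A) p)
    (h : ∀ u : (A ⧸ J) →ₗ[A] N, (Ext.mk₀ (ModuleCat.ofHom u)).comp ξ (zero_add p) = 0) :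
    ξ = 0 := by
  obtain ⟨b, v, hv⟩ := Module.Finite.exists_fin (R := A) (M := N)
  have hsurj := piMap_surjective J hN v hv
  have hS := Groth.Agent.DepthLib.shortComplexOf_shortExact
    (LinearMap.ker (piMap J hN v)).subtype (piMap J hN v)
    (LinearMap.ker (piMap J hN v)).injective_subtype hsurj
    (LinearMap.exact_subtype_ker_map _)
  have h0 : (Ext.mk₀ (ModuleCat.ofHom (piMap J hN v))).comp ξ (zero_add p) = 0 := by
    unfold piMap
    rw [ofHom_sum, Ext.mk₀_sum, Ext.sum_comp]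
    apply Finset.sum_eq_zero
    intro k _
    rw [ModuleCat.ofHom_comp, ← Ext.mk₀_comp_mk₀_assoc, h, Ext.comp_zero]
  have hKk : ∀ a ∈ J, ∀ x : LinearMap.ker (piMap J hN v), a • x = 0 := by
    intro a ha x
    apply Subtype.ext
    rw [Submodule.coe_smul, Submodule.coe_zero]
    exact killed_pi J a ha x.1
  cases p with
  | zero =>
    haveI : Epi (ModuleCat.ofHom (piMap J hN v)) := (ModuleCat.epi_iff_surjective _).2 hsurj
    apply Ext.precomp_mk₀_injective_of_epi (ModuleCat.of A A) (ModuleCat.ofHom (piMap J hN v))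
    rw [map_zero]
    exact h0
  | succ n =>
    obtain ⟨x₁, hx₁⟩ := Ext.contravariant_sequence_exact₃ hS (ModuleCat.of A A) ξ h0
      (show 1 + n = n + 1 by omega)
    have hsub : Subsingleton (Ext (ModuleCat.of A (LinearMap.ker (piMap J hN v)))
        (ModuleCat.of A A) n) :=
      vanish A (n + 1) J hJ (LinearMap.ker (piMap J hN v)) hKk n (by omega)
    have hz : x₁ = 0 := @Subsingleton.elim _ hsub _ _
    rw [← hx₁, hz]
    exact Ext.comp_zero _ _ _ _ _

include hJ in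
theorem surj_aux (M : Type u) [AddCommGroup M] [Module A M] [Module.Finite A M]
    (hM : ∀ a ∈ J, ∀ x : M, a • x = 0)
    (g : ((A ⧸ J) →ₗ[A] M) →ₗ[A] Ext (ModuleCat.of A (A ⧸ J)) (ModuleCat.of A A) p) :
    ∃ ξ : Ext (ModuleCat.of A M) (ModuleCat.of A A) p,
      ∀ u : (A ⧸ J) →ₗ[A] M, g u = (Ext.mk₀ (ModuleCat.ofHom u)).comp ξ (zero_add p) := by
  obtain ⟨b, v, hv⟩ := Module.Finite.exists_fin (R := A) (M := M)
  have hsurj := piMap_surjective J hM v hv
  have hS := Groth.Agent.DepthLib.shortComplexOf_shortExact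
    (LinearMap.ker (piMap J hM v)).subtype (piMap J hM v)
    (LinearMap.ker (piMap J hM v)).injective_subtype hsurj
    (LinearMap.exact_subtype_ker_map _)
  have hKk : ∀ a ∈ J, ∀ x : LinearMap.ker (piMap J hM v), a • x = 0 := by
    intro a ha x
    apply Subtype.ext
    rw [Submodule.coe_smul, Submodule.coe_zero]
    exact killed_pi J a ha x.1
  obtain ⟨η, hηdef⟩ : ∃ η : Ext (ModuleCat.of A (Fin b → A ⧸ J)) (ModuleCat.of A A) p,
      η = ∑ k, (Ext.mk₀ (ModuleCat.ofHom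
        (LinearMap.proj k : (Fin b → A ⧸ J) →ₗ[A] A ⧸ J))).comp (g (liftJ J hM (v k)))
          (zero_add p) := ⟨_, rfl⟩
  have hη : ∀ w' : (A ⧸ J) →ₗ[A] (Fin b → A ⧸ J),
      (Ext.mk₀ (ModuleCat.ofHom w')).comp η (zero_add p) = g (piMap J hM v ∘ₗ w') := by
    intro w'
    choose a ha using fun k => Ideal.Quotient.mk_surjective (w' 1 k)
    rw [hηdef]
    exact ext_comp_pi J hM v g w' a ha
  have hK : (Ext.mk₀ (ModuleCat.ofHom (LinearMap.ker (piMap J hM v)).subtype)).comp η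
      (zero_add p) = 0 := by
    apply inj_aux A p J hJ (LinearMap.ker (piMap J hM v)) hKk
    intro w
    rw [Ext.mk₀_comp_mk₀_assoc, ← ModuleCat.ofHom_comp, hη]
    have h2 : piMap J hM v ∘ₗ ((LinearMap.ker (piMap J hM v)).subtype ∘ₗ w) = 0 := by
      apply LinearMap.ext
      intro y
      exact (w y).2
    rw [h2, map_zero]
  obtain ⟨ξ, hξ⟩ := Ext.contravariant_sequence_exact₂ hS (ModuleCat.of A A) η hK
  have hξ' : (Ext.mk₀ (ModuleCat.ofHom (piMap J hM v))).comp ξ (zero_add p) = η := hξ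
  refine ⟨ξ, fun u => ?_⟩
  obtain ⟨c₀, hc₀⟩ := hsurj (u 1)
  have hw : piMap J hM v ∘ₗ (liftJ J (killed_pi J) c₀) = u := by
    apply hom_ext
    rw [LinearMap.comp_apply, liftJ_one, hc₀]
  rw [← hw, ModuleCat.ofHom_comp, ← Ext.mk₀_comp_mk₀_assoc, hξ', hη]

include hJ in
theorem main (M : Type u) [AddCommGroup M] [Module A M] [Module.Finite A M]
    (hJM : J • (⊤ : Submodule A M) = ⊥) :
    Function.Injective (fun ξ : Ext (ModuleCat.of A M) (ModuleCat.of A A) p =>
      fun u : (A ⧸ J) →ₗ[A] M => (Ext.mk₀ (ModuleCat.ofHom u)).comp ξ (zero_add p)) ∧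
    ∀ g : ((A ⧸ J) →ₗ[A] M) →ₗ[A] Ext (ModuleCat.of A (A ⧸ J)) (ModuleCat.of A A) p,
      ∃ ξ : Ext (ModuleCat.of A M) (ModuleCat.of A A) p,
        ∀ u : (A ⧸ J) →ₗ[A] M, g u = (Ext.mk₀ (ModuleCat.ofHom u)).comp ξ (zero_add p) := by
  have hM : ∀ a ∈ J, ∀ x : M, a • x = 0 := by
    intro a ha x
    have : a • x ∈ J • (⊤ : Submodule A M) := Submodule.smul_mem_smul ha Submodule.mem_top
    rw [hJM] at this
    exact this
  refine ⟨fun ξ₁ ξ₂ h => ?_, fun g => surj_aux A p J hJ M hM g⟩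
  rw [← sub_eq_zero]
  apply inj_aux A p J hJ M hM
  intro u
  have h1 := congrFun h u
  have e : (Ext.mk₀ (ModuleCat.ofHom u)).comp (ξ₁ - ξ₂) (zero_add p) =
      (Ext.mk₀ (ModuleCat.ofHom u)).comp ξ₁ (zero_add p) -
        (Ext.mk₀ (ModuleCat.ofHom u)).comp ξ₂ (zero_add p) :=
    map_sub ((Ext.mk₀ (ModuleCat.ofHom u)).precomp (ModuleCat.of A A) (zero_add p)) ξ₁ ξ₂
  rw [e, sub_eq_zero]
  exact h1

end regular

end Groth.Agent.ExtRep
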