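import Mathlib
import Groth.Prelude
import Groth.Agent.Lib.AssTens4_helper8
import Groth.Agent.Lib.FlatBC4_helper8

/-!
# Associated points of external tensor products `F ⊗_S G`, I (helper8).  APPEND-ONLY once landed.
-/

set_option autoImplicit false
set_option linter.all false
set_option maxHeartbeats 1600000
set_option backward.isDefEq.respectTransparency false
set_option backward.isDefEq.respectTransparency.types false
set_option backward.defeqAttrib.useBackward true

universe u

open CategoryTheory AlgebraicGeometry TopologicalSpace Opposite TensorProduct IsLocalRing Limits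

namespace Groth.Agent.Lib.ExtTensH8

open Groth.Agent.StalkGen Groth.Agent.Lib.AssTensH8 Groth.Agent.AssFlat

section iso

variable {X : Scheme.{u}}

theorem isAssPoint_of_iso {M N : X.Modules} (e : M ≅ N) (x : X) (h : Curv2.IsAssPoint M x) :
    Curv2.IsAssPoint N x := by
  have e' : M.presheaf.stalk x ≃ₗ[X.presheaf.stalk x] N.presheaf.stalk x :=
    ((DerSch.stalkFunctor X x).mapIso e).toLinearEquiv
  exact (LinearEquiv.isAssociatedPrime_iff e').1 h

theorem isAssPoint_iso_iff {M N : X.Modules} (e : M ≅ N) (x : X) :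
    Curv2.IsAssPoint M x ↔ Curv2.IsAssPoint N x :=
  ⟨isAssPoint_of_iso e x, isAssPoint_of_iso e.symm x⟩

end iso

section Aprime

/-- `v` is an associated point of the fibre of `r` through `v` (ring form). -/
def FibAss {V W : Scheme.{u}} (r : V ⟶ W) (v : V) : Prop :=
  IsAssociatedPrime (maximalIdeal (V.presheaf.stalk v))
    (V.presheaf.stalk v ⧸ (Ideal.map (r.stalkMap v).hom
      (maximalIdeal (W.presheaf.stalk (r v))) •
        (⊤ : Submodule (V.presheaf.stalk v) (V.presheaf.stalk v))))

variable {V W : Scheme.{u}} (r : V ⟶ W) (E : W.Modules) [E.IsQuasicoherent] (v : V)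

/-- associated points of a flat pullback. -/
theorem isAssPoint_pullback_of_flat [IsNoetherianRing (W.presheaf.stalk (r v))]
    (hfl : (r.stalkMap v).hom.Flat)
    (h : Curv2.IsAssPoint ((Scheme.Modules.pullback r).obj E) v) :
    Curv2.IsAssPoint E (r v) ∧ FibAss r v := by
  letI := (r.stalkMap v).hom.toAlgebra
  letI : Module (W.presheaf.stalk (r v))
      (((Scheme.Modules.pullback r).obj E).presheaf.stalk v) :=
    Module.compHom _ (r.stalkMap v).hom
  haveI : IsScalarTower (W.presheaf.stalk (r v)) (V.presheaf.stalk v)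
      (((Scheme.Modules.pullback r).obj E).presheaf.stalk v) :=
    IsScalarTower.of_algebraMap_smul fun _ _ => rfl
  have hb := PBH8.isBaseChange_cStalk r E v
  haveI : Module.Flat (W.presheaf.stalk (r v)) (V.presheaf.stalk v) := hfl
  haveI : IsLocalHom (algebraMap (W.presheaf.stalk (r v)) (V.presheaf.stalk v)) :=
    (inferInstance : IsLocalHom (r.stalkMap v).hom)
  have h1 : maximalIdeal (V.presheaf.stalk v) ∈ associatedPrimes (V.presheaf.stalk v)
      ((V.presheaf.stalk v) ⊗[W.presheaf.stalk (r v)] (E.presheaf.stalk (r v))) :=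
    (LinearEquiv.isAssociatedPrime_iff hb.equiv).2 h
  have h2 := mem_of_mem_associatedPrimes_tensor (S := V.presheaf.stalk v)
    (N := V.presheaf.stalk v) (E.presheaf.stalk (r v)) _ h1
  rw [maximalIdeal_comap] at h2
  refine ⟨h2.1, ?_⟩
  have h3 := h2.2
  rw [← associatedPrimes_tensorQuot] at h3
  exact h3

end Aprime

section fib

variable {X Y S : Scheme.{u}} (f : X ⟶ S) (g : Y ⟶ S) (x : X)

/-- the flipped pullback square -/
theorem hflip : IsPullback (pullback.snd f g) (pullback.fst f g) g f :=
  (IsPullback.of_hasPullback f g).flip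

/-- the map from the fibre of `p : X ×_S Y → X` over `x` to the fibre of `g` over `f x`. -/
noncomputable def fibMap : (pullback.fst f g).fiber x ⟶ g.fiber (f x) :=
  pullback.map _ _ _ _ (pullback.snd f g) (Spec.map (f.residueFieldMap x)) f
    (hflip f g).w.symm (by simp)

theorem isPullback_fibMap :
    IsPullback (fibMap f g x) ((pullback.fst f g).fiberToSpecResidueField x)
      (g.fiberToSpecResidueField (f x)) (Spec.map (f.residueFieldMap x)) :=
  isPullback_fiberToSpecResidueField_of_isPullback (hflip f g) x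

theorem fibMap_fiberι :
    fibMap f g x ≫ g.fiberι (f x) = (pullback.fst f g).fiberι x ≫ pullback.snd f g := by
  simp [fibMap, Scheme.Hom.fiberι]

instance flat_fibMap : Flat (fibMap f g x) := by
  have h1 : Flat (Spec.map (f.residueFieldMap x)) := by
    rw [Flat.SpecMap_iff]
    letI := (f.residueFieldMap x).hom.toAlgebra
    show Module.Flat _ _
    infer_instance
  exact MorphismProperty.of_isPullback (P := @Flat) (isPullback_fibMap f g x).flip h1

/-- `(q^*G)|_{p⁻¹(x)} ≅ r^*(G|_{g⁻¹(f x)})`. -/
noncomputable def fibModIso (G : Y.Modules) :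
    (Scheme.Modules.pullback ((pullback.fst f g).fiberι x)).obj
        ((Scheme.Modules.pullback (pullback.snd f g)).obj G) ≅
      (Scheme.Modules.pullback (fibMap f g x)).obj
        ((Scheme.Modules.pullback (g.fiberι (f x))).obj G) :=
  (Scheme.Modules.pullbackComp _ _).app G ≪≫
    (Scheme.Modules.pullbackCongr (fibMap_fiberι f g x).symm).app G ≪≫
      ((Scheme.Modules.pullbackComp _ _).app G).symm

theorem isNoetherianRing_stalk_fiber {X S : Scheme.{u}} [IsLocallyNoetherian X] (f : X ⟶ S) (s : S)
    (z : ↥(f.fiber s)) : IsNoetherianRing ((f.fiber s).presheaf.stalk z) := by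
  obtain ⟨hsurj, -⟩ := Groth.Agent.FibStalkKer.main9501 f s z
  exact isNoetherianRing_of_surjective _ _ ((f.fiberι s).stalkMap z).hom hsurj

end fib

section rel

variable {X Y S : Scheme.{u}} (f : X ⟶ S) (g : Y ⟶ S) [IsLocallyNoetherian Y]
  (G : Y.Modules) [G.IsQuasicoherent]

/-- a relatively associated point of `q^*G` over `X` maps to a relatively associated point of `G`
over `S`, and is associated in its fibre over the fibre of `g`. -/
theorem snd_mem_relAss (z : ↥(pullback f g))
    (hz : z ∈ MoreMor.relAss (pullback.fst f g) ((Scheme.Modules.pullback (pullback.snd f g)).obj G)) :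
    (pullback.snd f g) z ∈ MoreMor.relAss g G ∧
      FibAss (fibMap f g ((pullback.fst f g) z)) ((pullback.fst f g).asFiber z) := by
  set p := pullback.fst f g with hp
  set q := pullback.snd f g with hq
  set x := p z with hx
  set zt := p.asFiber z with hzt
  have h1 : Curv2.IsAssPoint ((Scheme.Modules.pullback (p.fiberι x)).obj
      ((Scheme.Modules.pullback q).obj G)) zt := by
    rw [Groth.Agent.Lib.RelAssBCSch.isAssPoint_fiber_iff p _ x zt, hzt, Scheme.Hom.fiberι_asFiber]
    exact hz
  have h2 := isAssPoint_of_iso (fibModIso f g x G) zt h1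
  haveI := isNoetherianRing_stalk_fiber g (f x) ((fibMap f g x) zt)
  obtain ⟨h3, h4⟩ := isAssPoint_pullback_of_flat (fibMap f g x)
    ((Scheme.Modules.pullback (g.fiberι (f x))).obj G) zt (Flat.stalkMap (fibMap f g x) zt) h2
  refine ⟨?_, h4⟩
  have h5 := (Groth.Agent.Lib.RelAssBCSch.isAssPoint_fiber_iff g G (f x) ((fibMap f g x) zt)).1 h3
  have h6 : (g.fiberι (f x)) ((fibMap f g x) zt) = q z := by
    rw [← Scheme.Hom.comp_apply, fibMap_fiberι, Scheme.Hom.comp_apply, hzt,
      Scheme.Hom.fiberι_asFiber]
  rw [h6] at h5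
  exact h5

end rel

section ring

variable {R S : Type u} [CommRing R] [CommRing S] [Algebra R S]
variable {N : Type u} [AddCommGroup N] [Module S N] [Module R N] [IsScalarTower R S N]

theorem max_mem_of_quot [IsLocalRing R] [IsLocalRing S] [IsLocalHom (algebraMap R S)]
    [IsNoetherianRing R] [Module.Flat R N]
    (h1 : maximalIdeal R ∈ associatedPrimes R R)
    (h2 : maximalIdeal S ∈ associatedPrimes S
      (N ⧸ (maximalIdeal R).map (algebraMap R S) • (⊤ : Submodule S N))) :
    maximalIdeal S ∈ associatedPrimes S N := by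
  have h3 : maximalIdeal S ∈ associatedPrimes S (N ⊗[R] R) := (max_mem_iff R).2 ⟨h1, h2⟩
  exact (LinearEquiv.isAssociatedPrime_iff (TensorProduct.AlgebraTensorModule.rid R S N)).1 h3

end ring

section main

variable {X Y S : Scheme.{u}} (f : X ⟶ S) (g : Y ⟶ S)

theorem isFlatOver_snd_pullback (G : Y.Modules) [G.IsQuasicoherent]
    (hGfl : FlatMod.IsFlatOver g G) :
    FlatMod.IsFlatOver (pullback.fst f g) ((Scheme.Modules.pullback (pullback.snd f g)).obj G) :=
  fun z => FlatBC2H8.isFlatOverAt_pullback (hflip f g) G z (hGfl _)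

theorem fst_snd_apply (z : ↥(pullback f g)) : f ((pullback.fst f g) z) = g ((pullback.snd f g) z) := by
  rw [← Scheme.Hom.comp_apply, ← Scheme.Hom.comp_apply, pullback.condition]

theorem isAssPoint_of_mem_relAss [IsLocallyNoetherian S] (G : Y.Modules) (y : Y)
    (hfl : FlatMod.IsFlatOverAt g G y)
    (hs : IsAssociatedPrime (maximalIdeal (S.presheaf.stalk (g y))) (S.presheaf.stalk (g y)))
    (hy : y ∈ MoreMor.relAss g G) : Curv2.IsAssPoint G y := by
  letI := (g.stalkMap y).hom.toAlgebra
  letI := FlatMod.moduleStalkOver g G y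
  haveI : IsScalarTower (S.presheaf.stalk (g y)) (Y.presheaf.stalk y) (G.presheaf.stalk y) :=
    IsScalarTower.of_algebraMap_smul fun _ _ => rfl
  haveI : Module.Flat (S.presheaf.stalk (g y)) (G.presheaf.stalk y) := hfl
  haveI : IsLocalHom (algebraMap (S.presheaf.stalk (g y)) (Y.presheaf.stalk y)) :=
    (inferInstance : IsLocalHom (g.stalkMap y).hom)
  exact max_mem_of_quot (S := Y.presheaf.stalk y) (N := G.presheaf.stalk y) hs hy

theorem isAssociatedPrime_stalk_congr {s₁ s₂ : S} (h : s₁ = s₂)
    (hs : IsAssociatedPrime (maximalIdeal (S.presheaf.stalk s₁)) (S.presheaf.stalk s₁)) :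
    IsAssociatedPrime (maximalIdeal (S.presheaf.stalk s₂)) (S.presheaf.stalk s₂) := h ▸ hs

variable [IsLocallyNoetherian X] [IsLocallyNoetherian Y]
  (F : X.Modules) [F.IsQuasicoherent] (G : Y.Modules) [G.IsQuasicoherent]
  (hGfl : FlatMod.IsFlatOver g G)

include hGfl in
theorem ass_extTens_iff (z : ↥(pullback f g)) :
    Curv2.IsAssPoint (CohB1.tensorMod ((Scheme.Modules.pullback (pullback.fst f g)).obj F)
      ((Scheme.Modules.pullback (pullback.snd f g)).obj G)) z ↔
      Curv2.IsAssPoint F ((pullback.fst f g) z) ∧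
        z ∈ MoreMor.relAss (pullback.fst f g)
          ((Scheme.Modules.pullback (pullback.snd f g)).obj G) :=
  isAssPoint_tensor_iff (pullback.fst f g) F _ z (isFlatOver_snd_pullback f g G hGfl z)

include hGfl in
theorem main4670 [IsLocallyNoetherian S]
    (hAss : ∀ x ∈ AssSch.Ass F, f x ∈ AssSch.Ass (Coh.structureModule S))
    (z : ↥(pullback f g))
    (hz : z ∈ AssSch.Ass (CohB1.tensorMod ((Scheme.Modules.pullback (pullback.fst f g)).obj F)
      ((Scheme.Modules.pullback (pullback.snd f g)).obj G))) :
    pullback.snd f g z ∈ AssSch.Ass G := by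
  obtain ⟨hx, hrel⟩ := (ass_extTens_iff f g F G hGfl z).1 hz
  have hs := (AssPtH8.isAssPoint_structureModule_iff _).1 (hAss _ hx)
  have hy := (snd_mem_relAss f g G z hrel).1
  exact isAssPoint_of_mem_relAss g G _ (hGfl _)
    (isAssociatedPrime_stalk_congr (fst_snd_apply f g z) hs) hy

end main

end Groth.Agent.Lib.ExtTensH8
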