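import Mathlib
import Groth.Agent.Lib.AssTensorFields_lead

/-!
# Noetherian localizations of a tensor product of fields have no embedded primes (helper8).
Local version of lead's `AssTensorFields.main`.  APPEND-ONLY once landed.
-/

set_option autoImplicit false
set_option linter.all false
set_option maxHeartbeats 1600000

open TensorProduct

universe u

namespace Groth.Agent.Lib.TensFieldsLocH8

open Groth.Agent.Lib.AssTensorFields

/-- Generic criterion for localizations: `D` a domain, `R` a flat `D`-algebra all of whose residue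
domains are algebraic over `D`, `A` a Noetherian localization of `R`.  Then `A` has no embedded
primes. -/
theorem assoc_subset_minimal_localization {D R A : Type*} [CommRing D] [IsDomain D] [CommRing R]
    [Algebra D R] [Module.Flat D R] [CommRing A] [Algebra R A] [Algebra D A] [IsScalarTower D R A]
    (M : Submonoid R) [IsLocalization M A] [IsNoetherianRing A]
    (h2 : ∀ (Q₀ : Ideal R), Q₀.IsPrime → ∀ a : R, IsAlgebraic D (Ideal.Quotient.mk Q₀ a)) :
    associatedPrimes A A ⊆ minimalPrimes A := by
  haveI : Module.Flat R A := IsLocalization.flat A M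
  haveI : Module.Flat D A := Module.Flat.trans D R A
  refine assoc_subset_minimal (D := D) ?_ ?_
  · intro d hd a hda
    have hreg : IsSMulRegular A d :=
      Module.Flat.isSMulRegular_of_nonZeroDivisors (mem_nonZeroDivisors_of_ne_zero hd)
    apply hreg
    change d • a = d • 0
    rw [smul_zero, Algebra.smul_def]
    exact hda
  · intro Q₀ hQ₀ a
    haveI := hQ₀
    obtain ⟨r, s, rfl⟩ := IsLocalization.exists_mk'_eq M a
    -- the prime of `R` below `Q₀`
    set Q : Ideal R := Q₀.comap (algebraMap R A) with hQ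
    haveI hQp : Q.IsPrime := Ideal.IsPrime.comap _
    -- the map `R/Q → A/Q₀`
    let φ : (R ⧸ Q) →ₐ[D] (A ⧸ Q₀) :=
      Ideal.quotientMapₐ Q₀ (IsScalarTower.toAlgHom D R A) (le_of_eq hQ)
    have hφ : ∀ t : R, φ (Ideal.Quotient.mk Q t) = Ideal.Quotient.mk Q₀ (algebraMap R A t) :=
      fun t => rfl
    have halg : ∀ t : R, IsAlgebraic D (Ideal.Quotient.mk Q₀ (algebraMap R A t)) := by
      intro t
      rw [← hφ]
      exact (h2 Q hQp t).algHom φ
    have hunit : IsUnit (Ideal.Quotient.mk Q₀ (algebraMap R A s)) :=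
      (IsLocalization.map_units A s).map _
    have hmul : Ideal.Quotient.mk Q₀ (algebraMap R A s) *
        Ideal.Quotient.mk Q₀ (IsLocalization.mk' A r s) =
        Ideal.Quotient.mk Q₀ (algebraMap R A r) := by
      rw [← map_mul, mul_comm, IsLocalization.mk'_spec]
    refine IsAlgebraic.of_mul (R := D) (y := Ideal.Quotient.mk Q₀ (algebraMap R A s))
      hunit.mem_nonZeroDivisors (halg s) ?_
    rw [hmul]
    exact halg r

section tensor

variable {k K L : Type u} [Field k] [Field K] [Field L] [Algebra k K] [Algebra k L]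

section generic

variable (P : Type u) [CommRing P] [Algebra k P] [Algebra P K] [IsScalarTower k P K]

theorem main_of_subalgebra_localization [IsDomain P] [FaithfulSMul P K] [Algebra.IsAlgebraic P K]
    [IsDomain (P ⊗[k] L)] (A : Type u) [CommRing A] [Algebra (K ⊗[k] L) A]
    (M : Submonoid (K ⊗[k] L)) [IsLocalization M A] [IsNoetherianRing A] :
    associatedPrimes A A ⊆ minimalPrimes A := by
  letI algDA : Algebra (P ⊗[k] L) (K ⊗[k] L) :=
    (psi (k := k) (K := K) (L := L) P).toRingHom.toAlgebra
  have halg : ∀ d : P ⊗[k] L, algebraMap (P ⊗[k] L) (K ⊗[k] L) d =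
      psi (k := k) (K := K) (L := L) P d :=
    fun _ => rfl
  haveI tower : IsScalarTower P (P ⊗[k] L) (K ⊗[k] L) := by
    refine IsScalarTower.of_algebraMap_eq (R := P) (S := P ⊗[k] L) (A := K ⊗[k] L) ?_
    intro p
    rw [halg, Algebra.TensorProduct.algebraMap_apply, Algebra.TensorProduct.algebraMap_apply,
        psi_tmul]
    rfl
  have hinj : Function.Injective (algebraMap P (P ⊗[k] L)) := by
    have h := Algebra.TensorProduct.includeLeft_injective (R := k) (S := P) (A := P) (B := L)
      (algebraMap k L).injective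
    intro p q hpq
    apply h
    simpa [Algebra.TensorProduct.algebraMap_apply] using hpq
  letI : Algebra (FractionRing P) K := FractionRing.liftAlgebra P K
  haveI : IsScalarTower P (FractionRing P) K := FractionRing.isScalarTower_liftAlgebra P K
  haveI : Module.Flat P (FractionRing P) := IsLocalization.flat (FractionRing P) (nonZeroDivisors P)
  haveI : Module.Flat P K := Module.Flat.trans P (FractionRing P) K
  have H : (algebraMap (P ⊗[k] L) (K ⊗[k] L)).comp
      (Algebra.TensorProduct.includeRight : L →ₐ[k] P ⊗[k] L).toRingHom =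
      (Algebra.TensorProduct.includeRight : L →ₐ[k] K ⊗[k] L).toRingHom := by
    ext l
    change algebraMap (P ⊗[k] L) (K ⊗[k] L) ((1 : P) ⊗ₜ[k] l) = (1 : K) ⊗ₜ[k] l
    rw [halg, psi_tmul, map_one]
  have hpo : Algebra.IsPushout P K (P ⊗[k] L) (K ⊗[k] L) :=
    Algebra.IsPushout.tensorProduct_tensorProduct k L P K H
  have hbc := hpo.symm.out
  haveI : Module.Flat (P ⊗[k] L) (K ⊗[k] L) :=
    Module.Flat.isBaseChange P (P ⊗[k] L) K (K ⊗[k] L) hbc
  letI algD : Algebra (P ⊗[k] L) A :=
    ((algebraMap (K ⊗[k] L) A).comp (algebraMap (P ⊗[k] L) (K ⊗[k] L))).toAlgebra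
  haveI : IsScalarTower (P ⊗[k] L) (K ⊗[k] L) A := IsScalarTower.of_algebraMap_eq (fun _ => rfl)
  refine assoc_subset_minimal_localization (D := P ⊗[k] L) (R := K ⊗[k] L) M ?_
  intro Q₀ hQ₀ a
  induction a using TensorProduct.induction_on with
  | zero => rw [map_zero]; exact isAlgebraic_zero
  | tmul κ l =>
    have e1 : (κ ⊗ₜ[k] l : K ⊗[k] L) =
        (κ ⊗ₜ[k] (1 : L)) * algebraMap (P ⊗[k] L) (K ⊗[k] L) ((1 : P) ⊗ₜ[k] l) := by
      rw [halg, psi_tmul, Algebra.TensorProduct.tmul_mul_tmul]
      simp
    rw [e1, map_mul]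
    refine IsAlgebraic.mul ?_ ?_
    · have hκ : IsAlgebraic P κ := Algebra.IsAlgebraic.isAlgebraic κ
      have h3 : IsAlgebraic P
          ((Algebra.TensorProduct.includeLeft : K →ₐ[P] K ⊗[k] L) κ) := hκ.algHom _
      have h4 : IsAlgebraic (P ⊗[k] L)
          ((Algebra.TensorProduct.includeLeft : K →ₐ[P] K ⊗[k] L) κ) :=
        h3.extendScalars hinj
      exact h4.algHom (Ideal.Quotient.mkₐ (P ⊗[k] L) Q₀)
    · exact isAlgebraic_algebraMap (R := P ⊗[k] L) (A := (K ⊗[k] L) ⧸ Q₀) ((1 : P) ⊗ₜ[k] l)
  | add x y hx hy => rw [map_add]; exact hx.add hy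

end generic

/-- **A Noetherian localization of a tensor product of fields has no embedded primes.** -/
theorem main_localization (A : Type u) [CommRing A] [Algebra (K ⊗[k] L) A]
    (M : Submonoid (K ⊗[k] L)) [IsLocalization M A] [IsNoetherianRing A] :
    associatedPrimes A A ⊆ minimalPrimes A := by
  haveI : FaithfulSMul k K :=
    (faithfulSMul_iff_algebraMap_injective k K).mpr (algebraMap k K).injective
  obtain ⟨ι, x, hx⟩ := exists_isTranscendenceBasis' k K
  haveI : Algebra.IsAlgebraic (Algebra.adjoin k (Set.range x)) K := hx.isAlgebraic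
  let e1 : (Algebra.adjoin k (Set.range x)) ⊗[k] L ≃ₐ[k] MvPolynomial ι k ⊗[k] L :=
    Algebra.TensorProduct.congr hx.1.aevalEquiv.symm AlgEquiv.refl
  let e2 := Algebra.TensorProduct.comm k (MvPolynomial ι k) L
  let e3 := MvPolynomial.algebraTensorAlgEquiv (σ := ι) k L
  let e : (Algebra.adjoin k (Set.range x)) ⊗[k] L ≃+* MvPolynomial ι L :=
    (e1.toRingEquiv.trans e2.toRingEquiv).trans e3.toRingEquiv
  haveI : IsDomain ((Algebra.adjoin k (Set.range x)) ⊗[k] L) :=
    MulEquiv.isDomain (MvPolynomial ι L) e.toMulEquiv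
  exact main_of_subalgebra_localization (k := k) (K := K) (L := L)
    (Algebra.adjoin k (Set.range x)) A M

end tensor

end Groth.Agent.Lib.TensFieldsLocH8
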