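import Mathlib
import Groth.Prelude
import Groth.Agent.Lib.ExtTens1_helper8
import Groth.Agent.Lib.TensFieldsLoc_helper8

/-!
# Associated points of external tensor products `F ⊗_S G`, II: fibres which are spectra of tensor
products of fields (helper8).  APPEND-ONLY once landed.
-/

set_option autoImplicit false
set_option linter.all false
set_option maxHeartbeats 1600000
set_option backward.isDefEq.respectTransparency false
set_option backward.isDefEq.respectTransparency.types false
set_option backward.defeqAttrib.useBackward true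

universe u

open CategoryTheory AlgebraicGeometry TopologicalSpace Opposite TensorProduct IsLocalRing Limits

namespace Groth.Agent.Lib.ExtTensH8

open Groth.Agent.StalkGen Groth.Agent.Lib.AssTensH8 Groth.Agent.AssFlat

section coreT

variable {V W : Scheme.{u}} {k K : CommRingCat.{u}} (φ : k ⟶ K)
  (r : V ⟶ W) (v : V ⟶ Spec K) (w : W ⟶ Spec k) (hpb : IsPullback r v w (Spec.map φ))

include hpb in
/-- the fibres of a base change of `Spec K → Spec k` are spectra of tensor products of fields. -/
theorem exists_ringEquiv_fiber (w₀ : W) :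
    IsAffine (r.fiber w₀) ∧
      (letI := φ.hom.toAlgebra
      letI := (Spec.preimage (W.fromSpecResidueField w₀ ≫ w)).hom.toAlgebra
      Nonempty (Γ(r.fiber w₀, ⊤) ≃+* (K ⊗[k] (W.residueField w₀)))) := by
  have hP : IsPullback (r.fiberι w₀ ≫ v) (r.fiberToSpecResidueField w₀) (Spec.map φ)
      (W.fromSpecResidueField w₀ ≫ w) :=
    (IsPullback.of_hasPullback r (W.fromSpecResidueField w₀)).paste_horiz hpb.flip
  set ψ : k ⟶ W.residueField w₀ := Spec.preimage (W.fromSpecResidueField w₀ ≫ w) with hψ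
  have hψ' : Spec.map ψ = W.fromSpecResidueField w₀ ≫ w := Spec.map_preimage _
  letI algK : Algebra k K := φ.hom.toAlgebra
  letI algL : Algebra k (W.residueField w₀) := ψ.hom.toAlgebra
  have e1 : CommRingCat.ofHom (algebraMap k K) = φ := rfl
  have e2 : CommRingCat.ofHom (algebraMap k (W.residueField w₀)) = ψ := rfl
  have hP' : IsPullback (r.fiberι w₀ ≫ v) (r.fiberToSpecResidueField w₀)
      (Spec.map (CommRingCat.ofHom (algebraMap k K)))
      (Spec.map (CommRingCat.ofHom (algebraMap k (W.residueField w₀)))) := by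
    rw [e1, e2, hψ']
    exact hP
  let e : r.fiber w₀ ≅ Spec (.of (K ⊗[k] (W.residueField w₀))) :=
    hP'.isoPullback ≪≫ pullbackSpecIso k K (W.residueField w₀)
  haveI : IsAffine (r.fiber w₀) := IsAffine.of_isIso e.hom
  refine ⟨inferInstance, ?_⟩
  exact ⟨((Scheme.Γ.mapIso e.symm.op) ≪≫
    Scheme.ΓSpecIso (.of (K ⊗[k] (W.residueField w₀)))).commRingCatIsoToRingEquiv⟩

include hpb in
/-- an associated point of a fibre of a base change of a field extension has no proper
generization in that fibre (Noetherian local ring assumed). -/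
theorem eq_of_specializes_fiber (hk : IsField k) (hK : IsField K) (w₀ : W) (t : ↥(r.fiber w₀))
    [IsNoetherianRing ((r.fiber w₀).presheaf.stalk t)]
    (h : IsAssociatedPrime (maximalIdeal ((r.fiber w₀).presheaf.stalk t))
      ((r.fiber w₀).presheaf.stalk t))
    (t₁ : ↥(r.fiber w₀)) (hsp : t₁ ⤳ t) : t₁ = t := by
  obtain ⟨haff, ⟨h0⟩⟩ := exists_ringEquiv_fiber φ r v w hpb w₀
  haveI := haff
  letI algK : Algebra k K := φ.hom.toAlgebra
  letI algL : Algebra k (W.residueField w₀) :=
    (Spec.preimage (W.fromSpecResidueField w₀ ≫ w)).hom.toAlgebra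
  have hU : IsAffineOpen (⊤ : (r.fiber w₀).Opens) := isAffineOpen_top _
  letI a1 := TopCat.Presheaf.algebra_section_stalk (r.fiber w₀).presheaf
    (⟨t, trivial⟩ : (⊤ : (r.fiber w₀).Opens))
  haveI hloc : IsLocalization.AtPrime ((r.fiber w₀).presheaf.stalk t)
      (hU.primeIdealOf ⟨t, trivial⟩).asIdeal := hU.isLocalization_stalk ⟨t, trivial⟩
  have hloc2 := IsLocalization.isLocalization_of_base_ringEquiv
    (hU.primeIdealOf ⟨t, trivial⟩).asIdeal.primeCompl ((r.fiber w₀).presheaf.stalk t) h0
  letI a2 : Algebra (K ⊗[k] (W.residueField w₀)) ((r.fiber w₀).presheaf.stalk t) :=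
    ((algebraMap Γ(r.fiber w₀, ⊤) ((r.fiber w₀).presheaf.stalk t)).comp
      h0.symm.toRingHom).toAlgebra
  letI := hk.toField
  letI := hK.toField
  have hsub := @Groth.Agent.Lib.TensFieldsLocH8.main_localization k K (W.residueField w₀) _ _ _
    algK algL ((r.fiber w₀).presheaf.stalk t) _ a2 _ hloc2 _
  have hmin := hsub h
  have hle : genPrime hsp ≤ maximalIdeal ((r.fiber w₀).presheaf.stalk t) :=
    le_maximalIdeal (genPrime_isPrime hsp).ne_top
  have hge := hmin.2 ⟨genPrime_isPrime hsp, bot_le⟩ hle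
  exact eq_of_genPrime_eq_maximalIdeal hsp (le_antisymm hle hge)

include hpb in
/-- a point which is associated in its `r`-fibre has no proper generization in that fibre. -/
theorem eq_of_specializes_of_fibAss (hk : IsField k) (hK : IsField K) (w₀ : W)
    (t : ↥(r.fiber w₀)) [IsNoetherianRing (V.presheaf.stalk ((r.fiberι w₀) t))]
    (h : FibAss r ((r.fiberι w₀) t)) (v₁ : V) (hsp : v₁ ⤳ (r.fiberι w₀) t) (hv₁ : r v₁ = w₀) :
    v₁ = (r.fiberι w₀) t := by
  obtain ⟨hsurj, hker⟩ := Groth.Agent.FibStalkKer.main9501 r w₀ t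
  haveI : IsNoetherianRing ((r.fiber w₀).presheaf.stalk t) :=
    isNoetherianRing_of_surjective _ _ ((r.fiberι w₀).stalkMap t).hom hsurj
  letI alg := ((r.fiberι w₀).stalkMap t).hom.toAlgebra
  have h1 : IsAssociatedPrime (maximalIdeal ((r.fiber w₀).presheaf.stalk t))
      ((r.fiber w₀).presheaf.stalk t) :=
    (Groth.Agent.Lib.RelAssBCSch.isAssociatedPrime_baseChange_iff hsurj _ hker
      (Algebra.linearMap (V.presheaf.stalk ((r.fiberι w₀) t)) ((r.fiber w₀).presheaf.stalk t))
      (IsBaseChange.linearMap _ _)).2 h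
  obtain ⟨t₁, rfl⟩ : ∃ t₁ : ↥(r.fiber w₀), (r.fiberι w₀) t₁ = v₁ := by
    have h2 : v₁ ∈ Set.range (r.fiberι w₀) := by
      rw [r.range_fiberι]
      exact hv₁
    exact h2
  have hsp' : t₁ ⤳ t := (r.fiberι w₀).isEmbedding.isInducing.specializes_iff.1 hsp
  rw [eq_of_specializes_fiber φ r v w hpb hk hK w₀ t h1 t₁ hsp']

end coreT

end Groth.Agent.Lib.ExtTensH8
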