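import Mathlib
import Groth.Prelude
import Groth.Agent.Lib.ExtTens2_helper8

/-!
# Associated points of external tensor products `F ⊗_S G`, III: no embedded points (helper8).
APPEND-ONLY once landed.
-/

set_option autoImplicit false
set_option linter.all false
set_option maxHeartbeats 1600000
set_option backward.isDefEq.respectTransparency false
set_option backward.isDefEq.respectTransparency.types false
set_option backward.defeqAttrib.useBackward true

universe u

open CategoryTheory AlgebraicGeometry TopologicalSpace Opposite TensorProduct IsLocalRing Limits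

namespace Groth.Agent.Lib.ExtTensH8

open Groth.Agent.StalkGen Groth.Agent.Lib.AssTensH8 Groth.Agent.AssFlat

section main

variable {X Y S : Scheme.{u}} (f : X ⟶ S) (g : Y ⟶ S)
  [IsLocallyNoetherian Y] [IsLocallyNoetherian (pullback f g)]
  (G : Y.Modules) [G.IsQuasicoherent]

theorem fibAss_congr {V W : Scheme.{u}} (r : V ⟶ W) {v₁ v₂ : V} (h : v₁ = v₂) (hv : FibAss r v₁) :
    FibAss r v₂ := h ▸ hv

/-- a relatively associated point of `q^*G` over `X` has no proper generization with the same two
projections. -/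
theorem eq_of_specializes_of_mem_relAss (z z' : ↥(pullback f g))
    (hz : z ∈ MoreMor.relAss (pullback.fst f g)
      ((Scheme.Modules.pullback (pullback.snd f g)).obj G))
    (hsp : z' ⤳ z) (hp : (pullback.fst f g) z' = (pullback.fst f g) z)
    (hq : (pullback.snd f g) z' = (pullback.snd f g) z) : z' = z := by
  set p := pullback.fst f g with hpdef
  set q := pullback.snd f g with hqdef
  set x := p z with hx
  set zt := p.asFiber z with hzt
  set r := fibMap f g x with hr
  have hfa : FibAss r zt := (snd_mem_relAss f g G z hz).2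
  have hpb := isPullback_fibMap f g x
  have hιzt : (p.fiberι x) zt = z := Scheme.Hom.fiberι_asFiber p z
  obtain ⟨zt', hzt'⟩ : ∃ zt' : ↥(p.fiber x), (p.fiberι x) zt' = z' := by
    have h2 : z' ∈ Set.range (p.fiberι x) := by
      rw [p.range_fiberι]
      exact hp
    exact h2
  have hsp' : zt' ⤳ zt := by
    rw [← (p.fiberι x).isEmbedding.isInducing.specializes_iff, hzt', hιzt]
    exact hsp
  -- the point of the fibre of `r`
  set w₀ := r zt with hw₀
  set t := r.asFiber zt with ht
  have hιt : (r.fiberι w₀) t = zt := Scheme.Hom.fiberι_asFiber r zt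
  haveI : IsNoetherianRing ((p.fiber x).presheaf.stalk ((r.fiberι w₀) t)) :=
    isNoetherianRing_stalk_fiber p x _
  have hcomm : ∀ u : ↥(p.fiber x), (g.fiberι (f x)) (r u) = q ((p.fiberι x) u) := by
    intro u
    have := congrArg (fun m => m.base u) (fibMap_fiberι f g x)
    exact this
  have hrr : r zt' = w₀ := by
    apply (g.fiberι (f x)).isEmbedding.injective
    show (g.fiberι (f x)) (r zt') = (g.fiberι (f x)) (r zt)
    rw [hcomm, hcomm, hzt', hιzt]
    exact hq
  have hkey := eq_of_specializes_of_fibAss (f.residueFieldMap x) r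
    ((pullback.fst f g).fiberToSpecResidueField x) (g.fiberToSpecResidueField (f x)) hpb
    (Field.toIsField _) (Field.toIsField _) w₀ t (fibAss_congr r hιt.symm hfa) zt'
    (by rw [hιt]; exact hsp') hrr
  rw [← hzt', hkey, hιt, hιzt]

variable [IsLocallyNoetherian X] (F : X.Modules) [F.IsQuasicoherent]
  (hGfl : FlatMod.IsFlatOver g G)

include hGfl in
theorem main4685 (hFne : AssSch.NoEmbedded F)
    (hGne : ∀ s : ↥S, AssSch.NoEmbedded ((Scheme.Modules.pullback (g.fiberι s)).obj G)) :
    AssSch.NoEmbedded (CohB1.tensorMod ((Scheme.Modules.pullback (pullback.fst f g)).obj F)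
      ((Scheme.Modules.pullback (pullback.snd f g)).obj G)) := by
  intro z hz z' hz' hsp
  obtain ⟨hx, hrel⟩ := (ass_extTens_iff f g F G hGfl z).1 hz
  obtain ⟨hx', hrel'⟩ := (ass_extTens_iff f g F G hGfl z').1 hz'
  have hpp : (pullback.fst f g) z = (pullback.fst f g) z' :=
    hFne _ hx _ hx' (hsp.map (pullback.fst f g).continuous)
  have hy := (snd_mem_relAss f g G z hrel).1
  have hy' := (snd_mem_relAss f g G z' hrel').1
  set s := g ((pullback.snd f g) z) with hs
  have hgs' : g ((pullback.snd f g) z') = s := by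
    rw [hs, ← fst_snd_apply, ← fst_snd_apply, hpp]
  obtain ⟨yt, hyt⟩ : ∃ yt : ↥(g.fiber s), (g.fiberι s) yt = (pullback.snd f g) z := by
    have h2 : (pullback.snd f g) z ∈ Set.range (g.fiberι s) := by
      rw [g.range_fiberι]
      rfl
    exact h2
  obtain ⟨yt', hyt'⟩ : ∃ yt' : ↥(g.fiber s), (g.fiberι s) yt' = (pullback.snd f g) z' := by
    have h2 : (pullback.snd f g) z' ∈ Set.range (g.fiberι s) := by
      rw [g.range_fiberι]
      exact hgs'
    exact h2
  have hA : Curv2.IsAssPoint ((Scheme.Modules.pullback (g.fiberι s)).obj G) yt :=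
    (Groth.Agent.Lib.RelAssBCSch.isAssPoint_fiber_iff g G s yt).2 (hyt.symm ▸ hy)
  have hA' : Curv2.IsAssPoint ((Scheme.Modules.pullback (g.fiberι s)).obj G) yt' :=
    (Groth.Agent.Lib.RelAssBCSch.isAssPoint_fiber_iff g G s yt').2 (hyt'.symm ▸ hy')
  have hspy : yt' ⤳ yt := by
    rw [← (g.fiberι s).isEmbedding.isInducing.specializes_iff, hyt, hyt']
    exact hsp.map (pullback.snd f g).continuous
  have hyy : yt = yt' := hGne s yt hA yt' hA' hspy
  have hqq : (pullback.snd f g) z' = (pullback.snd f g) z := by
    rw [← hyt, ← hyt', hyy]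
  exact (eq_of_specializes_of_mem_relAss f g G z z' hrel hsp hpp.symm hqq).symm

include hGfl in
theorem main4671 [IsLocallyNoetherian S]
    (hAss : ∀ x ∈ AssSch.Ass F, f x ∈ AssSch.Ass (Coh.structureModule S))
    (hFne : AssSch.NoEmbedded F) (hGne : AssSch.NoEmbedded G) :
    AssSch.NoEmbedded (CohB1.tensorMod ((Scheme.Modules.pullback (pullback.fst f g)).obj F)
      ((Scheme.Modules.pullback (pullback.snd f g)).obj G)) := by
  intro z hz z' hz' hsp
  obtain ⟨hx, hrel⟩ := (ass_extTens_iff f g F G hGfl z).1 hz
  obtain ⟨hx', hrel'⟩ := (ass_extTens_iff f g F G hGfl z').1 hz'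
  have hpp : (pullback.fst f g) z = (pullback.fst f g) z' :=
    hFne _ hx _ hx' (hsp.map (pullback.fst f g).continuous)
  have hy := main4670 f g F G hGfl hAss z hz
  have hy' := main4670 f g F G hGfl hAss z' hz'
  have hqq : (pullback.snd f g) z = (pullback.snd f g) z' :=
    hGne _ hy _ hy' (hsp.map (pullback.snd f g).continuous)
  exact (eq_of_specializes_of_mem_relAss f g G z z' hrel hsp hpp.symm hqq.symm).symm

end main

end Groth.Agent.Lib.ExtTensH8
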