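import Mathlib
import Groth.Prelude
import Groth.Agent.Lib.TorAmpRel3_helper3

/-!
# Vanishing of the cohomology of `L(f|)^* M ⊗^L F|` outside the tor amplitude interval (helper3)

`main6241`.
-/

set_option autoImplicit false
set_option linter.all false
set_option maxHeartbeats 1600000
set_option backward.isDefEq.respectTransparency false
set_option backward.isDefEq.respectTransparency.types false
set_option backward.defeqAttrib.useBackward true

universe u
open CategoryTheory CategoryTheory.Limits AlgebraicGeometry Opposite MonoidalCategory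

attribute [local instance] HasDerivedCategory.standard

namespace Groth.Agent.Lib.TorAmpRelH3

open Groth.Agent.Lib.ExtKFlat Groth.Agent.Lib.TorAmpLT Groth.Agent.Lib.ResKFlat
  Groth.Agent.Lib.KFlatMod Groth.Agent.Lib.KFlatGen Groth.Agent.Lib.DRingLT
  Groth.Agent.Lib.TotalMap Groth.Agent.Lib.DMod_helper6
  Groth.Agent.Lib.StalkTensH3 Groth.Agent.Lib.LpullLocH3 Groth.Agent.Lib.LpullTensH3
  Groth.Agent.Lib.PullTensIsoH3 Groth.Agent.Lib.TorAmpCompL Groth.Agent.Lib.TorAmpPushL DerSch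
  Groth.Agent.Lib.FlatAmpDescH3 Groth.Agent.Lib.TorAmpIdL

noncomputable section

variable {X Y : Scheme.{u}} (f : X ⟶ Y)

/-- exactness of `f^* M₀ ⊗ F` outside the tor amplitude interval of `F`, for `M₀` a K-flat
resolution of a module -/
theorem exactAt_pullTens (F : CochainComplex X.Modules ℤ) (m n : ℤ)
    (hF : HasTorAmplitude f m n F) (M : Y.Modules) (M₀ : CochainComplex Y.Modules ℤ)
    (hM₀ : DCoh.IsKFlat M₀)
    (q : M₀ ⟶ (HomologicalComplex.single Y.Modules (ComplexShape.up ℤ) 0).obj M) [QuasiIso q]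
    (i : ℤ) (hi : i < m ∨ n < i) :
    ((DCoh.tensorCx.obj ((pullCx f).obj M₀)).obj F).ExactAt i := by
  apply exactAt_of_forall_stalk
  intro x
  letI := stalkAlgebra f x
  let q' : ((stk (f.base x)).mapHomologicalComplex (ComplexShape.up ℤ)).obj M₀ ⟶
      (HomologicalComplex.single _ (ComplexShape.up ℤ) 0).obj ((stk (f.base x)).obj M) :=
    ((stk (f.base x)).mapHomologicalComplex (ComplexShape.up ℤ)).map q ≫
      (HomologicalComplex.singleMapHomologicalComplex (stk (f.base x))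
        (ComplexShape.up ℤ) 0).hom.app M
  have hq' : QuasiIso q' := by
    dsimp only [q']
    infer_instance
  have key := exactAt_core (B := Y.presheaf.stalk (f.base x)) (C := X.presheaf.stalk x)
    (((stk (f.base x)).mapHomologicalComplex (ComplexShape.up ℤ)).obj M₀)
    (kf_stalk_of_isKFlat (f.base x) M₀ hM₀)
    (((stk x).mapHomologicalComplex (ComplexShape.up ℤ)).obj F) m n (hF x) _ q' hq' i hi
  exact exactAt_of_iso
    (stalkTotIso x _ F ≪≫ (whiskerRightIso (pullbackStalkCxIso f x M₀) _ :)).symm i key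

/-- **S6241** -/
theorem main6241 (F : CochainComplex X.Modules ℤ) (m n : ℤ)
    (hF : HasTorAmplitude f m n F) (V : Y.Opens) (M : (V : Scheme.{u}).Modules)
    [DCoh.HasLpull (f ∣_ V)] [DCoh.HasLTensorCx ((DCoh.restrictCx (f ⁻¹ᵁ V)).obj F)]
    (i : ℤ) (hi : i < m ∨ n < i) :
    IsZero (DCoh.HD ((DCoh.LTensorCx ((DCoh.restrictCx (f ⁻¹ᵁ V)).obj F)).obj
      ((DCoh.Lpull (f ∣_ V)).obj (DCoh.inD (V : Scheme.{u}) M))) i) := by
  have hF' := hasTorAmplitude_morphismRestrict f F m n hF V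
  obtain ⟨M₀, q, hM₀, hq⟩ := Groth.Agent.Lib.DTorCmp.exists_kflat_resolution'
    ((HomologicalComplex.single (V : Scheme.{u}).Modules (ComplexShape.up ℤ) 0).obj M)
  haveI := hq
  have eM : DCoh.toD (V : Scheme.{u}) M₀ ≅ DCoh.inD (V : Scheme.{u}) M :=
    asIso (DerivedCategory.Q.map q) ≪≫
      ((DerivedCategory.singleFunctorIsoCompQ (V : Scheme.{u}).Modules 0).app M).symm
  have e1 : (DCoh.LTensorCx ((DCoh.restrictCx (f ⁻¹ᵁ V)).obj F)).obj
        ((DCoh.Lpull (f ∣_ V)).obj (DCoh.inD (V : Scheme.{u}) M)) ≅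
      DCoh.toD _ ((DCoh.tensorCx.obj ((pullCx (f ∣_ V)).obj M₀)).obj
        ((DCoh.restrictCx (f ⁻¹ᵁ V)).obj F)) :=
    (DCoh.LTensorCx ((DCoh.restrictCx (f ⁻¹ᵁ V)).obj F)).mapIso
        ((DCoh.Lpull (f ∣_ V)).mapIso eM.symm ≪≫ LpullQIso (f ∣_ V) M₀ hM₀) ≪≫
      ltIsoLeft ((DCoh.restrictCx (f ⁻¹ᵁ V)).obj F) _ (isKFlat_pullback (f ∣_ V) M₀ hM₀)
  have hT := exactAt_pullTens (f ∣_ V) _ m n hF' M M₀ hM₀ q i hi
  rw [HomologicalComplex.exactAt_iff_isZero_homology] at hT
  exact IsZero.of_iso hT ((DerivedCategory.homologyFunctor _ i).mapIso e1 ≪≫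
    (DerivedCategory.homologyFunctorFactors _ i).app _)

end

end Groth.Agent.Lib.TorAmpRelH3
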