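import Mathlib
import Groth.Prelude
import Groth.Agent.Lib.TorAmpStalkBC1_helper3
import Groth.Agent.Lib.RelPerfBC2_helper3
import Groth.Agent.Lib.TorAmpRel2_helper3

/-!
# Flat base change of the relative tor amplitude for arbitrary complexes (helper3)

* `hasTorAmplitudeAt_pullCx`: for `g : S' ⟶ S` flat and any complex `P` on `X`, the termwise
  pullback of `P` to `X ×_S S'` has tor amplitude in `[a, b]` relative to the second projection at
  a point `x'` as soon as `P` has it relative to `f` at the image of `x'`.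
* `main6189`: `Lg'^* F` has tor amplitude in `[a, b]` relative to `f'`.
-/

set_option autoImplicit false
set_option linter.all false
set_option maxHeartbeats 1600000
set_option backward.isDefEq.respectTransparency false
set_option backward.isDefEq.respectTransparency.types false
set_option backward.defeqAttrib.useBackward true

universe u
open CategoryTheory CategoryTheory.Limits AlgebraicGeometry Opposite

attribute [local instance] HasDerivedCategory.standard

namespace Groth.Agent.Lib.TorAmpStalkBCH3

open Groth.Agent.Lib.DMod_helper6 Groth.Agent.Lib.StalkTensH3 Groth.Agent.Lib.LpullLocH3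
  Groth.Agent.Lib.TorAmpPushL Groth.Agent.Lib.RelPerfBCH3 DerSch DRing

noncomputable section

section Germ

variable {X S : Scheme.{u}} (f : X ⟶ S)

/-- compatibility of the stalk map with the germ maps -/
lemma stalkMap_comp_germ {V : S.Opens} {U : X.Opens} (e : U ≤ f ⁻¹ᵁ V) (x : X) (hx : x ∈ U) :
    (f.stalkMap x).hom.comp (S.presheaf.germ V (f.base x) (e hx)).hom =
      (X.presheaf.germ U x hx).hom.comp (f.appLE V U e).hom := by
  ext c
  show f.stalkMap x (S.presheaf.germ V (f x) (e hx) c) =
    X.presheaf.germ U x hx ((f.appLE V U e) c)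
  rw [Scheme.Hom.germ_stalkMap_apply, Scheme.Hom.appLE, CommRingCat.comp_apply]
  exact (TopCat.Presheaf.germ_res_apply X.presheaf (homOfLE e) x hx _).symm

/-- the germ map of an affine open is flat -/
lemma flat_germ {U : X.Opens} (hU : IsAffineOpen U) (x : X) (hx : x ∈ U) :
    (X.presheaf.germ U x hx).hom.Flat := by
  letI := X.presheaf.algebra_section_stalk ⟨x, hx⟩
  haveI := hU.isLocalization_stalk ⟨x, hx⟩
  exact IsLocalization.flat (X.presheaf.stalk x) (hU.primeIdealOf ⟨x, hx⟩).asIdeal.primeCompl

end Germ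

variable {X S S' : Scheme.{u}} (f : X ⟶ S) (g : S' ⟶ S)

/-- **flat base change of the stalkwise tor amplitude**, for the termwise pullback of an arbitrary
complex -/
theorem hasTorAmplitudeAt_pullCx [Flat g] (P : CochainComplex X.Modules ℤ) (a b : ℤ)
    (x' : ↥(pullback f g))
    (hP : HasTorAmplitudeAt f a b P ((pullback.fst f g).base x')) :
    HasTorAmplitudeAt (pullback.snd f g) a b ((pullCx (pullback.fst f g)).obj P) x' := by
  have hw : pullback.fst f g ≫ f = pullback.snd f g ≫ g := pullback.condition
  obtain ⟨V, hV, hyV, -⟩ := TopologicalSpace.Opens.isBasis_iff_nbhd.mp S.isBasis_affineOpens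
    (show g.base ((pullback.snd f g).base x') ∈ (⊤ : S.Opens) from trivial)
  obtain ⟨V', hV', hyV', hV'V⟩ := TopologicalSpace.Opens.isBasis_iff_nbhd.mp
    S'.isBasis_affineOpens (show (pullback.snd f g).base x' ∈ g ⁻¹ᵁ V from hyV)
  have h2 : f.base ((pullback.fst f g).base x') = g.base ((pullback.snd f g).base x') := by
    have := congrArg (fun k => k.base x') hw
    exact this
  have h3 : (pullback.fst f g).base x' ∈ f ⁻¹ᵁ V := by
    show f.base ((pullback.fst f g).base x') ∈ V
    rw [h2]
    exact hyV
  obtain ⟨U, hU, hxU, hUV⟩ := TopologicalSpace.Opens.isBasis_iff_nbhd.mp X.isBasis_affineOpens h3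
  have hUP : IsAffineOpen (UP f g U V') := isAffineOpen_UP f g U hU V hV V' hV' hUV hV'V
  have hx' : x' ∈ UP f g U V' := ⟨hxU, hyV'⟩
  have key := torAmp_local_bc (f.appLE V U hUV).hom (g.appLE V V' hV'V).hom
    ((pullback.fst f g).appLE U (UP f g U V') inf_le_left).hom
    ((pullback.snd f g).appLE V' (UP f g U V') inf_le_right).hom
    (isPushout_UP f g U hU V hV V' hV' hUV hV'V) (g.flat_appLE hV hV' hV'V)
    (S.presheaf.germ V (f.base ((pullback.fst f g).base x')) (hUV hxU)).hom
    (X.presheaf.germ U ((pullback.fst f g).base x') hxU).hom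
    (S'.presheaf.germ V' ((pullback.snd f g).base x') hyV').hom
    ((pullback f g).presheaf.germ (UP f g U V') x' hx').hom
    (f.stalkMap ((pullback.fst f g).base x')).hom
    ((pullback.fst f g).stalkMap x').hom
    ((pullback.snd f g).stalkMap x').hom
    (stalkMap_comp_germ f hUV _ hxU)
    (stalkMap_comp_germ (pullback.fst f g) inf_le_left x' hx')
    (stalkMap_comp_germ (pullback.snd f g) inf_le_right x' hx')
    (flat_germ hV _ (hUV hxU)) (flat_germ hUP x' hx')
    (hU.primeIdealOf ⟨_, hxU⟩).asIdeal.primeCompl (hU.isLocalization_stalk ⟨_, hxU⟩)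
    (hV'.primeIdealOf ⟨_, hyV'⟩).asIdeal.primeCompl (hV'.isLocalization_stalk ⟨_, hyV'⟩)
    (((DerSch.stalkFunctor X ((pullback.fst f g).base x')).mapHomologicalComplex
      (ComplexShape.up ℤ)).obj P) a b hP
  exact hasTorAmplitudeIn_of_iso (DerivedCategory.Q.mapIso
    ((restrictCx ((pullback.snd f g).stalkMap x').hom).mapIso
      (pullbackStalkCxIso (pullback.fst f g) x' P))).symm a b key

/-- **S6189** -/
theorem main6189 [Flat g] [DCoh.HasLpull (pullback.fst f g)] (F : CochainComplex X.Modules ℤ)
    (a b : ℤ) (hF : HasTorAmplitude f a b F) :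
    HasTorAmplitudeD (pullback.snd f g) a b
      ((DCoh.Lpull (pullback.fst f g)).obj (DCoh.toD X F)) := by
  rintro F' ⟨eF'⟩ x'
  obtain ⟨P, q, hP, hq⟩ := Groth.Agent.Lib.DTorCmp.exists_kflat_resolution' F
  haveI := hq
  have eP : DCoh.toD X P ≅ DCoh.toD X F := asIso (DerivedCategory.Q.map q)
  have e1 : DCoh.toD (pullback f g) F' ≅
      DCoh.toD (pullback f g) ((pullCx (pullback.fst f g)).obj P) :=
    eF' ≪≫ (DCoh.Lpull (pullback.fst f g)).mapIso eP.symm ≪≫ LpullQIso (pullback.fst f g) P hP
  have hP' : HasTorAmplitudeAt f a b P ((pullback.fst f g).base x') :=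
    hasTorAmplitudeIn_of_iso (stalkDIso f ((pullback.fst f g).base x') eP).symm _ _ (hF _)
  exact hasTorAmplitudeIn_of_iso (stalkDIso (pullback.snd f g) x' e1).symm _ _
    (hasTorAmplitudeAt_pullCx f g P a b x' hP')

end

end Groth.Agent.Lib.TorAmpStalkBCH3
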