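import Mathlib
import Groth.Prelude
import Groth.Agent.Lib.FibProdTor1_helper3
import Groth.Agent.Lib.BaseCmp_helper2
import Groth.Agent.Lib.DMod28_helper6

/-!
# Tor-independent base change of the tor amplitude over the base (helper3)

For ring maps `k → R → A` with `R` and `A` flat over `k`, and `k → k'` arbitrary, put
`R' = R ⊗_k k'` and `A' = A ⊗_R R'`.

* `torAmp_torIndep_pushout`: a bounded above complex `F` of flat `A`-modules whose restriction to
  `R` has tor amplitude in `[a, b]` has `A' ⊗_A F` of tor amplitude in `[a, b]` over `R'`.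
* `torAmp_local_of_global`: passage from the global rings of affine charts to the local rings.
* `torAmp_local_torIndep_bc`: the local form, for K-flat complexes over the local ring.
-/

set_option autoImplicit false
set_option linter.all false
set_option maxHeartbeats 1600000

universe u
open CategoryTheory CategoryTheory.Limits DerivedCategory
open scoped TensorProduct ChangeOfRings
attribute [local instance] HasDerivedCategory.standard

namespace Groth.Agent.Lib.TorIndepAmpH3

open DRing CochainComplex Groth.Agent.ExtendScalarsLib Groth.Agent.Lib.DMod_helper6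
  Groth.Agent.Lib.TorAmpStalkBCH3 Groth.Agent.Lib.FibProdTorH3 Groth.Agent.Lib.KFlatMod

noncomputable section

section TorIndep

variable {k R A k' R' A' : Type u} [CommRing k] [CommRing R] [CommRing A] [CommRing k']
  [CommRing R'] [CommRing A']

/-- a flat `A`-module restricted to `k` in two steps is flat if `k → A` is flat -/
lemma flat_restrict_restrict (ι : k →+* R) (α : R →+* A) (hA : (α.comp ι).Flat)
    (M : ModuleCat.{u} A) (hM : Module.Flat A M) :
    Module.Flat k ((ModuleCat.restrictScalars.{u} ι).obj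
      ((ModuleCat.restrictScalars.{u} α).obj M)) := by
  letI : Algebra k A := (α.comp ι).toAlgebra
  haveI : Module.Flat k A := hA
  haveI h1 : Module.Flat k ((ModuleCat.restrictScalars.{u} (algebraMap k A)).obj M) :=
    flat_restrictScalars (R := k) (A := A) M hM
  let e : ((ModuleCat.restrictScalars.{u} (algebraMap k A)).obj M) ≃ₗ[k]
      ((ModuleCat.restrictScalars.{u} ι).obj ((ModuleCat.restrictScalars.{u} α).obj M)) :=
    { toFun := fun a => a
      invFun := fun a => a
      map_add' := fun _ _ => rfl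
      map_smul' := fun c a => rfl
      left_inv := fun _ => rfl
      right_inv := fun _ => rfl }
  exact Module.Flat.of_linearEquiv e.symm

/-- **Tor-independent base change of the tor amplitude** along `R → R ⊗_k k'`, for `R` and `A`
flat over `k` -/
theorem torAmp_torIndep_pushout (ι : k →+* R) (α : R →+* A) (κ : k →+* k') (γ : R →+* R')
    (κ' : k' →+* R') (β : A →+* A') (δ : R' →+* A')
    (hpo1 : IsPushout (CommRingCat.ofHom ι) (CommRingCat.ofHom κ) (CommRingCat.ofHom γ)
      (CommRingCat.ofHom κ'))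
    (hpo2 : IsPushout (CommRingCat.ofHom α) (CommRingCat.ofHom γ) (CommRingCat.ofHom β)
      (CommRingCat.ofHom δ))
    (hR : ι.Flat) (hA : (α.comp ι).Flat) (F : Cx A) (bF : ℤ) (hFb : VanishesAbove F bF)
    (hFfl : TermwiseFlat F) (a b : ℤ)
    (h : HasTorAmplitudeIn R a b (toD ((restrictCx α).obj F))) :
    HasTorAmplitudeIn R' a b (toD ((restrictCx δ).obj ((ESc β).obj F))) := by
  obtain ⟨E, hE, hEfl, ⟨e⟩⟩ := h
  have hX₀b : VanishesAbove ((restrictCx α).obj F) bF := fun i hi =>
    (ModuleCat.restrictScalars.{u} α).map_isZero (hFb i hi)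
  have hEb : VanishesAbove E b := fun i hi => hE i (Or.inr hi)
  haveI : DerivedCategory.IsLE (toD ((restrictCx α).obj F)) bF :=
    isLE_toD_of_vanishesAbove _ bF hX₀b
  obtain ⟨P, hPfree, hPb, ⟨eP⟩⟩ := exists_free_resolution (toD ((restrictCx α).obj F)) bF
  haveI : P.IsKProjective :=
    isKProjective_of_projective_bounded P bF hPb (fun j => by haveI := hPfree j; infer_instance)
  obtain ⟨q₂, hq₂⟩ := exists_Q_map_eq_of_isKProjective (E := P)
    (F := (restrictCx α).obj F) eP.hom
  obtain ⟨q₁, hq₁⟩ := exists_Q_map_eq_of_isKProjective (E := P) (F := E) (eP.hom ≫ e.inv)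
  have hq₂' : IsIso (Q.map q₂) := by rw [hq₂]; infer_instance
  have hq₁' : IsIso (Q.map q₁) := by rw [hq₁]; infer_instance
  have hPk : TermwiseFlat ((restrictCx ι).obj P) := fun i =>
    flat_restrict_of_flat ι hR (P.X i) (by haveI := hPfree i; exact Module.Flat.of_free)
  have hEk : TermwiseFlat ((restrictCx ι).obj E) := fun i =>
    flat_restrict_of_flat ι hR (E.X i) (hEfl i)
  have hX₀k : TermwiseFlat ((restrictCx ι).obj ((restrictCx α).obj F)) := fun i =>
    flat_restrict_restrict ι α hA (F.X i) (hFfl i)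
  haveI i1 := isIso_Q_map_ESc_hom ι κ γ κ' hpo1 q₁ hq₁' bF b hPb hEb hPk hEk
  haveI i2 := isIso_Q_map_ESc_hom ι κ γ κ' hpo1 q₂ hq₂' bF bF hPb hX₀b hPk hX₀k
  obtain ⟨p2⟩ := nonempty_pushoutCxIso_hom α γ β δ hpo2 F
  letI : Algebra R R' := γ.toAlgebra
  refine ⟨(ESc γ).obj E, fun i hi => (ModuleCat.extendScalars.{u, u, u} γ).map_isZero (hE i hi),
    fun i => flat_ES (A := R) (B := R') (E.X i) (hEfl i), ⟨?_⟩⟩
  exact (asIso (Q.map ((ESc γ).map q₁))).symm ≪≫ asIso (Q.map ((ESc γ).map q₂)) ≪≫ Q.mapIso p2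

end TorIndep

section LocGlob

variable {B₀ A₀' C₀ B A' B' : Type u} [CommRing B₀] [CommRing A₀'] [CommRing C₀] [CommRing B]
  [CommRing A'] [CommRing B']

/-- from the global rings of affine charts to the local rings -/
theorem torAmp_local_of_global (β₀ : B₀ →+* C₀) (δ₀ : A₀' →+* C₀)
    (lB : B₀ →+* B) (lA' : A₀' →+* A') (lC : C₀ →+* B') (β : B →+* B') (δ : A' →+* B')
    (h2 : β.comp lB = lC.comp β₀) (h3 : δ.comp lA' = lC.comp δ₀) (hlC : lC.Flat)
    (SB : Submonoid B₀) (hlB : @IsLocalization B₀ _ SB B _ lB.toAlgebra)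
    (SA' : Submonoid A₀') (hlA' : @IsLocalization A₀' _ SA' A' _ lA'.toAlgebra)
    (P : Cx B) (a b : ℤ)
    (s2 : HasTorAmplitudeIn A₀' a b
      (toD ((restrictCx δ₀).obj ((ESc β₀).obj ((restrictCx lB).obj P))))) :
    HasTorAmplitudeIn A' a b (toD ((restrictCx δ).obj ((ESc β).obj P))) := by
  set P₀ : Cx B₀ := (restrictCx lB).obj P with hP₀
  have s3 := torAmp_res_loc δ₀ lC lA' δ h3 hlC SA' hlA' ((ESc β₀).obj P₀) a b s2
  have e4 : (ESc lC).obj ((ESc β₀).obj P₀) ≅ (ESc β).obj ((ESc lB).obj P₀) :=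
    (extCompIso β₀ lC P₀).symm ≪≫ extCongrIso _ _ h2.symm P₀ ≪≫ extCompIso lB β P₀
  have s4 : HasTorAmplitudeIn A' a b
      (toD ((restrictCx δ).obj ((ESc β).obj ((ESc lB).obj P₀)))) :=
    hasTorAmplitudeIn_of_iso (Q.mapIso ((restrictCx δ).mapIso e4)) a b s3
  obtain ⟨s, r, hsr⟩ := exists_retract_of_isLocalization lB SB hlB P
  refine Groth.Agent.Lib.TorSmoothH3.hasTorAmplitudeIn_of_retract
    (Q.map ((restrictCx δ).map ((ESc β).map s))) (Q.map ((restrictCx δ).map ((ESc β).map r)))
    ?_ a b s4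
  rw [← Functor.map_comp, ← Functor.map_comp, ← Functor.map_comp, hsr]
  simp

end LocGlob

section Main

variable {k₀ A₀ B₀ k₀' A₀' C₀ A B A' B' : Type u} [CommRing k₀] [CommRing A₀] [CommRing B₀]
  [CommRing k₀'] [CommRing A₀'] [CommRing C₀] [CommRing A] [CommRing B] [CommRing A']
  [CommRing B']

/-- **Tor-independent base change of tor amplitude over the base, local form** -/
theorem torAmp_local_torIndep_bc (ι₀ : k₀ →+* A₀) (α₀ : A₀ →+* B₀) (κ₀ : k₀ →+* k₀')
    (γ₀ : A₀ →+* A₀') (κ₀' : k₀' →+* A₀') (β₀ : B₀ →+* C₀) (δ₀ : A₀' →+* C₀)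
    (hpo1 : IsPushout (CommRingCat.ofHom ι₀) (CommRingCat.ofHom κ₀) (CommRingCat.ofHom γ₀)
      (CommRingCat.ofHom κ₀'))
    (hpo2 : IsPushout (CommRingCat.ofHom α₀) (CommRingCat.ofHom γ₀) (CommRingCat.ofHom β₀)
      (CommRingCat.ofHom δ₀))
    (hι : ι₀.Flat) (hαι : (α₀.comp ι₀).Flat)
    (lA : A₀ →+* A) (lB : B₀ →+* B) (lA' : A₀' →+* A') (lC : C₀ →+* B')
    (α : A →+* B) (β : B →+* B') (δ : A' →+* B')
    (h1 : α.comp lA = lB.comp α₀) (h2 : β.comp lB = lC.comp β₀) (h3 : δ.comp lA' = lC.comp δ₀)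
    (hlA : lA.Flat) (hlC : lC.Flat)
    (SB : Submonoid B₀) (hlB : @IsLocalization B₀ _ SB B _ lB.toAlgebra)
    (SA' : Submonoid A₀') (hlA' : @IsLocalization A₀' _ SA' A' _ lA'.toAlgebra)
    (P : Cx B) (hP : KF B P) (a b : ℤ)
    (hPamp : HasTorAmplitudeIn A a b (toD ((restrictCx α).obj P))) :
    HasTorAmplitudeIn A' a b (toD ((restrictCx δ).obj ((ESc β).obj P))) := by
  -- step 0: replace `P` by a bounded above complex of free modules
  have hle : DerivedCategory.IsLE (toD P) b := by
    obtain ⟨E, hE, hEfl, ⟨e⟩⟩ := hPamp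
    haveI : DerivedCategory.IsLE (toD E) b :=
      isLE_toD_of_vanishesAbove E b (fun i hi => hE i (Or.inr hi))
    haveI : DerivedCategory.IsLE (toD ((restrictCx α).obj P)) b := TStructure.t.isLE_of_iso e b
    have : DerivedCategory.IsLE ((restrictD α).obj (toD P)) b :=
      TStructure.t.isLE_of_iso
        (show toD ((restrictCx α).obj P) ≅ (restrictD α).obj (toD P) from
          ((ModuleCat.restrictScalars.{u} α).mapDerivedCategoryFactors.app P).symm) b
    exact isLE_of_isLE_restrictD α (toD P) b this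
  haveI := hle
  obtain ⟨F, hFfree, hFb, ⟨eF⟩⟩ := exists_free_resolution (toD P) b
  haveI : F.IsKProjective :=
    isKProjective_of_projective_bounded F b hFb (fun j => by haveI := hFfree j; infer_instance)
  obtain ⟨q, hq⟩ := exists_Q_map_eq_of_isKProjective (E := F) (F := P) eF.hom
  have hq' : IsIso (Q.map q) := by rw [hq]; infer_instance
  have hqi : QuasiIso q := (isIso_Q_map_iff_quasiIso _ q).1 hq'
  have hFfl : TermwiseFlat F := fun i => by haveI := hFfree i; exact Module.Flat.of_free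
  have hFkf : KF B F := kf_of_vanishesAbove F b hFb hFfl
  letI : Algebra B B' := β.toAlgebra
  haveI hqe : QuasiIso ((ESc β).map q) :=
    Groth.Agent.Lib.BaseCmp.quasiIso_ext_of_kf (A := B') hFkf hP q
  have hqr : QuasiIso ((restrictCx δ).map ((ESc β).map q)) := by
    show QuasiIso (((ModuleCat.restrictScalars.{u} δ).mapHomologicalComplex
      (ComplexShape.up ℤ)).map ((ESc β).map q))
    infer_instance
  haveI : IsIso (Q.map ((restrictCx δ).map ((ESc β).map q))) :=
    (isIso_Q_map_iff_quasiIso _ _).2 hqr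
  have hqa : QuasiIso ((restrictCx α).map q) := by
    show QuasiIso (((ModuleCat.restrictScalars.{u} α).mapHomologicalComplex
      (ComplexShape.up ℤ)).map q)
    infer_instance
  haveI : IsIso (Q.map ((restrictCx α).map q)) := (isIso_Q_map_iff_quasiIso _ _).2 hqa
  have hFamp : HasTorAmplitudeIn A a b (toD ((restrictCx α).obj F)) :=
    hasTorAmplitudeIn_of_iso (asIso (Q.map ((restrictCx α).map q))).symm a b hPamp
  refine hasTorAmplitudeIn_of_iso (asIso (Q.map ((restrictCx δ).map ((ESc β).map q)))) a b ?_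
  -- step 1: descend to the global rings
  let F₀ : Cx B₀ := (restrictCx lB).obj F
  have hlBfl : lB.Flat := by
    letI : Algebra B₀ B := lB.toAlgebra
    haveI : IsLocalization SB B := hlB
    exact IsLocalization.flat B SB
  have hF₀b : VanishesAbove F₀ b := fun i hi =>
    (ModuleCat.restrictScalars.{u} lB).map_isZero (hFb i hi)
  have hF₀fl : TermwiseFlat F₀ := fun i => flat_restrict_of_flat lB hlBfl (F.X i) (hFfl i)
  have s1 : HasTorAmplitudeIn A₀ a b (toD ((restrictCx α₀).obj F₀)) := by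
    have k1 := torAmp_restrict_flat lA hlA _ a b hFamp
    have e1 := restrictCxCompIso lA α (α.comp lA) rfl F
    have e2 := restrictCxCompIso α₀ lB (lB.comp α₀) rfl F
    have e3 : (restrictCx (α.comp lA)).obj F ≅ (restrictCx (lB.comp α₀)).obj F := by
      rw [h1]
    exact hasTorAmplitudeIn_of_iso (Q.mapIso (e1.symm ≪≫ e3 ≪≫ e2)) a b k1
  -- step 2: base change along the pushout squares
  have s2 := torAmp_torIndep_pushout ι₀ α₀ κ₀ γ₀ κ₀' β₀ δ₀ hpo1 hpo2 hι hαι F₀ b hF₀b hF₀fl a b s1
  -- step 3: localise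
  exact torAmp_local_of_global β₀ δ₀ lB lA' lC β δ h2 h3 hlC SB hlB SA' hlA' F a b s2

end Main

end

end Groth.Agent.Lib.TorIndepAmpH3
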