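import Mathlib
import Groth.Prelude
import Groth.Agent.Lib.TorIndepAmp1_helper3
import Groth.Agent.Lib.TorAmpStalkBC2_helper3
import Groth.Agent.Lib.FibProdTor2_helper3
import Groth.Agent.Lib.StalkKFlat1_helper3

/-!
# Base change of the stalkwise relative tor amplitude along abstract pullback squares (helper3)

* `hasTorAmplitudeAt_pullCx_flat`: flat base change, for the termwise pullback of any complex.
* `hasTorAmplitudeAt_pullCx_torIndep`: Tor-independent base change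
  (`X' = X ×_Y Z`, `Z = Y ×_S W`, `Y` and `X` flat over `S`), for the termwise pullback of a
  K-flat complex.
-/

set_option autoImplicit false
set_option linter.all false
set_option maxHeartbeats 1600000
set_option backward.isDefEq.respectTransparency false
set_option backward.isDefEq.respectTransparency.types false
set_option backward.defeqAttrib.useBackward true

universe u
open CategoryTheory CategoryTheory.Limits AlgebraicGeometry Opposite TopologicalSpace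

attribute [local instance] HasDerivedCategory.standard

namespace Groth.Agent.Lib.TorIndepAmpH3

open Groth.Agent.Lib.DMod_helper6 Groth.Agent.Lib.StalkTensH3 Groth.Agent.Lib.LpullLocH3
  Groth.Agent.Lib.TorAmpPushL Groth.Agent.Lib.TorAmpStalkBCH3 Groth.Agent.Lib.FibProdTorH3
  DerSch DRing

noncomputable section

section FlatBC

variable {X S S' X' : Scheme.{u}} (f : X ⟶ S) (g : S' ⟶ S) (p : X' ⟶ X) (u : X' ⟶ S')
  (H : IsPullback p u f g)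

include H in
/-- **flat base change of the stalkwise tor amplitude** along an abstract pullback square -/
theorem hasTorAmplitudeAt_pullCx_flat [Flat g] (P : CochainComplex X.Modules ℤ) (a b : ℤ)
    (x' : X') (hP : HasTorAmplitudeAt f a b P (p.base x')) :
    HasTorAmplitudeAt u a b ((pullCx p).obj P) x' := by
  have hw : p ≫ f = u ≫ g := H.w
  obtain ⟨V, hV, hyV, -⟩ := Opens.isBasis_iff_nbhd.mp S.isBasis_affineOpens
    (show g.base (u.base x') ∈ (⊤ : S.Opens) from trivial)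
  obtain ⟨V', hV', hyV', hV'V⟩ := Opens.isBasis_iff_nbhd.mp
    S'.isBasis_affineOpens (show u.base x' ∈ g ⁻¹ᵁ V from hyV)
  have h2 : f.base (p.base x') = g.base (u.base x') := congrArg (fun k => k.base x') hw
  have h3 : p.base x' ∈ f ⁻¹ᵁ V := by
    show f.base (p.base x') ∈ V
    rw [h2]
    exact hyV
  obtain ⟨U, hU, hxU, hUV⟩ := Opens.isBasis_iff_nbhd.mp X.isBasis_affineOpens h3
  have hUP : IsAffineOpen (p ⁻¹ᵁ U ⊓ u ⁻¹ᵁ V') := isAffineOpen_inf H hV'V hUV hV hV' hU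
  have hpo := isPushout_inf H hV'V hUV hV hV' hU
  have hx' : x' ∈ p ⁻¹ᵁ U ⊓ u ⁻¹ᵁ V' := ⟨hxU, hyV'⟩
  have key := torAmp_local_bc (f.appLE V U hUV).hom (g.appLE V V' hV'V).hom
    (p.appLE U (p ⁻¹ᵁ U ⊓ u ⁻¹ᵁ V') inf_le_left).hom
    (u.appLE V' (p ⁻¹ᵁ U ⊓ u ⁻¹ᵁ V') inf_le_right).hom
    hpo (g.flat_appLE hV hV' hV'V)
    (S.presheaf.germ V (f.base (p.base x')) (hUV hxU)).hom
    (X.presheaf.germ U (p.base x') hxU).hom
    (S'.presheaf.germ V' (u.base x') hyV').hom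
    (X'.presheaf.germ (p ⁻¹ᵁ U ⊓ u ⁻¹ᵁ V') x' hx').hom
    (f.stalkMap (p.base x')).hom
    (p.stalkMap x').hom
    (u.stalkMap x').hom
    (stalkMap_comp_germ f hUV _ hxU)
    (stalkMap_comp_germ p inf_le_left x' hx')
    (stalkMap_comp_germ u inf_le_right x' hx')
    (flat_germ hV _ (hUV hxU)) (flat_germ hUP x' hx')
    (hU.primeIdealOf ⟨_, hxU⟩).asIdeal.primeCompl (hU.isLocalization_stalk ⟨_, hxU⟩)
    (hV'.primeIdealOf ⟨_, hyV'⟩).asIdeal.primeCompl (hV'.isLocalization_stalk ⟨_, hyV'⟩)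
    (((DerSch.stalkFunctor X (p.base x')).mapHomologicalComplex
      (ComplexShape.up ℤ)).obj P) a b hP
  exact hasTorAmplitudeIn_of_iso (DerivedCategory.Q.mapIso
    ((restrictCx (u.stalkMap x').hom).mapIso (pullbackStalkCxIso p x' P))).symm a b key

end FlatBC

section TorIndepBC

variable {S W Y X Z X' : Scheme.{u}} (q : Y ⟶ S) (w : W ⟶ S) (f : X ⟶ Y)
  (zY : Z ⟶ Y) (zW : Z ⟶ W) (hZ : IsPullback zY zW q w)
  (p : X' ⟶ X) (u : X' ⟶ Z) (hX' : IsPullback p u f zY)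

include hZ hX' in
/-- **Tor-independent base change of the stalkwise tor amplitude**: `Y` and `X` flat over `S`,
`Z = Y ×_S W`, `X' = X ×_Y Z`, and `P` a K-flat complex on `X` -/
theorem hasTorAmplitudeAt_pullCx_torIndep [Flat q] [Flat (f ≫ q)]
    (P : CochainComplex X.Modules ℤ) (hP : DCoh.IsKFlat P) (a b : ℤ) (x' : X')
    (hPx : HasTorAmplitudeAt f a b P (p.base x')) :
    HasTorAmplitudeAt u a b ((pullCx p).obj P) x' := by
  have hw1 : zY ≫ q = zW ≫ w := hZ.w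
  have hw2 : p ≫ f = u ≫ zY := hX'.w
  have e2 : f.base (p.base x') = zY.base (u.base x') := congrArg (fun k => k.base x') hw2
  have e1 : q.base (zY.base (u.base x')) = w.base (zW.base (u.base x')) :=
    congrArg (fun k => k.base (u.base x')) hw1
  obtain ⟨S₀, hS₀, hsS₀, -⟩ := Opens.isBasis_iff_nbhd.mp S.isBasis_affineOpens
    (show q.base (f.base (p.base x')) ∈ (⊤ : S.Opens) from trivial)
  obtain ⟨V, hV, hyV, hVS⟩ := Opens.isBasis_iff_nbhd.mp Y.isBasis_affineOpens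
    (show f.base (p.base x') ∈ q ⁻¹ᵁ S₀ from hsS₀)
  obtain ⟨U, hU, hxU, hUV⟩ := Opens.isBasis_iff_nbhd.mp X.isBasis_affineOpens
    (show p.base x' ∈ f ⁻¹ᵁ V from hyV)
  have htS : zW.base (u.base x') ∈ w ⁻¹ᵁ S₀ := by
    show w.base (zW.base (u.base x')) ∈ S₀
    rw [← e1, ← e2]
    exact hsS₀
  obtain ⟨T, hT, htT, hTS⟩ := Opens.isBasis_iff_nbhd.mp W.isBasis_affineOpens htS
  have hZO : IsAffineOpen (zY ⁻¹ᵁ V ⊓ zW ⁻¹ᵁ T) := isAffineOpen_inf hZ hTS hVS hS₀ hT hV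
  have hpo1 := isPushout_inf hZ hTS hVS hS₀ hT hV
  have hz : u.base x' ∈ zY ⁻¹ᵁ V ⊓ zW ⁻¹ᵁ T := by
    refine ⟨?_, htT⟩
    show zY.base (u.base x') ∈ V
    rw [← e2]
    exact hyV
  have hZV : zY ⁻¹ᵁ V ⊓ zW ⁻¹ᵁ T ≤ zY ⁻¹ᵁ V := inf_le_left
  have hXO : IsAffineOpen (p ⁻¹ᵁ U ⊓ u ⁻¹ᵁ (zY ⁻¹ᵁ V ⊓ zW ⁻¹ᵁ T)) :=
    isAffineOpen_inf hX' hZV hUV hV hZO hU
  have hpo2 := isPushout_inf hX' hZV hUV hV hZO hU
  have hx' : x' ∈ p ⁻¹ᵁ U ⊓ u ⁻¹ᵁ (zY ⁻¹ᵁ V ⊓ zW ⁻¹ᵁ T) := ⟨hxU, hz⟩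
  have hUS : U ≤ (f ≫ q) ⁻¹ᵁ S₀ := fun t ht => hVS (hUV ht)
  have hcomp : (f ≫ q).appLE S₀ U hUS = q.appLE S₀ V hVS ≫ f.appLE V U hUV :=
    (Scheme.Hom.appLE_comp_appLE f q S₀ V U hVS hUV).symm
  have hfl : ((f.appLE V U hUV).hom.comp (q.appLE S₀ V hVS).hom).Flat := by
    have h0 : ((f ≫ q).appLE S₀ U hUS).hom.Flat := (f ≫ q).flat_appLE hS₀ hU hUS
    rw [hcomp] at h0
    exact h0
  have key := torAmp_local_torIndep_bc (q.appLE S₀ V hVS).hom (f.appLE V U hUV).hom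
    (w.appLE S₀ T hTS).hom
    (zY.appLE V (zY ⁻¹ᵁ V ⊓ zW ⁻¹ᵁ T) inf_le_left).hom
    (zW.appLE T (zY ⁻¹ᵁ V ⊓ zW ⁻¹ᵁ T) inf_le_right).hom
    (p.appLE U (p ⁻¹ᵁ U ⊓ u ⁻¹ᵁ (zY ⁻¹ᵁ V ⊓ zW ⁻¹ᵁ T)) inf_le_left).hom
    (u.appLE (zY ⁻¹ᵁ V ⊓ zW ⁻¹ᵁ T) (p ⁻¹ᵁ U ⊓ u ⁻¹ᵁ (zY ⁻¹ᵁ V ⊓ zW ⁻¹ᵁ T)) inf_le_right).hom
    hpo1 hpo2 (q.flat_appLE hS₀ hV hVS) hfl
    (Y.presheaf.germ V (f.base (p.base x')) hyV).hom
    (X.presheaf.germ U (p.base x') hxU).hom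
    (Z.presheaf.germ (zY ⁻¹ᵁ V ⊓ zW ⁻¹ᵁ T) (u.base x') hz).hom
    (X'.presheaf.germ (p ⁻¹ᵁ U ⊓ u ⁻¹ᵁ (zY ⁻¹ᵁ V ⊓ zW ⁻¹ᵁ T)) x' hx').hom
    (f.stalkMap (p.base x')).hom
    (p.stalkMap x').hom
    (u.stalkMap x').hom
    (stalkMap_comp_germ f hUV _ hxU)
    (stalkMap_comp_germ p inf_le_left x' hx')
    (stalkMap_comp_germ u inf_le_right x' hx')
    (flat_germ hV _ hyV) (flat_germ hXO x' hx')
    (hU.primeIdealOf ⟨_, hxU⟩).asIdeal.primeCompl (hU.isLocalization_stalk ⟨_, hxU⟩)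
    (hZO.primeIdealOf ⟨_, hz⟩).asIdeal.primeCompl (hZO.isLocalization_stalk ⟨_, hz⟩)
    (((DerSch.stalkFunctor X (p.base x')).mapHomologicalComplex
      (ComplexShape.up ℤ)).obj P)
    (kf_stalk_of_isKFlat (p.base x') P hP) a b hPx
  exact hasTorAmplitudeIn_of_iso (DerivedCategory.Q.mapIso
    ((restrictCx (u.stalkMap x').hom).mapIso (pullbackStalkCxIso p x' P))).symm a b key

end TorIndepBC

end

end Groth.Agent.Lib.TorIndepAmpH3
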