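import Mathlib
import Groth.Prelude
import Groth.Agent.Lib.TorIndepAmp2_helper3
import Groth.Agent.Lib.TorAmpRel2_helper3

/-!
# Tor amplitude of an external derived tensor product (helper3; S6257)

`f = f₁ ×_S f₂ : X₁ ×_S X₂ ⟶ Y₁ ×_S Y₂` with `X₂`, `Y₂` flat over `S` is factored through
`Z = X₁ ×_S Y₂`; the first factor is pulled back along the flat projection `Y ⟶ Y₁`, the second
one along the Tor-independent square `X = Z ×_{Y₂} X₂`, and the amplitudes add up by the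
composition core of `TorAmpRel2`.
-/

set_option autoImplicit false
set_option linter.all false
set_option maxHeartbeats 1600000
set_option backward.isDefEq.respectTransparency false
set_option backward.isDefEq.respectTransparency.types false
set_option backward.defeqAttrib.useBackward true

universe u
open CategoryTheory CategoryTheory.Limits AlgebraicGeometry Opposite MonoidalCategory

attribute [local instance] HasDerivedCategory.standard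

namespace Groth.Agent.Lib.TorIndepAmpH3

open Groth.Agent.Lib.ExtKFlat Groth.Agent.Lib.TorAmpLT Groth.Agent.Lib.ResKFlat
  Groth.Agent.Lib.KFlatMod Groth.Agent.Lib.KFlatGen Groth.Agent.Lib.DRingLT
  Groth.Agent.Lib.TotalMap Groth.Agent.Lib.DMod_helper6
  Groth.Agent.Lib.StalkTensH3 Groth.Agent.Lib.LpullLocH3 Groth.Agent.Lib.LpullTensH3
  Groth.Agent.Lib.PullTensIsoH3 Groth.Agent.Lib.TorAmpCompL Groth.Agent.Lib.TorAmpPushL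
  Groth.Agent.Lib.TorAmpRelH3 DerSch

noncomputable section

section PullCx

variable {X Y Z : Scheme.{u}}

/-- termwise pullback along equal morphisms -/
def pullCxCongr {f g : X ⟶ Y} (h : f = g) (P : CochainComplex Y.Modules ℤ) :
    (pullCx f).obj P ≅ (pullCx g).obj P :=
  eqToIso (by rw [h])

/-- termwise pullback along a composite -/
def pullCxComp (f : X ⟶ Y) (g : Y ⟶ Z) (P : CochainComplex Z.Modules ℤ) :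
    (pullCx f).obj ((pullCx g).obj P) ≅ (pullCx (f ≫ g)).obj P :=
  HomologicalComplex.Hom.isoOfComponents
    (fun i => (Scheme.Modules.pullbackComp f g).app (P.X i))
    (fun i j _ => ((Scheme.Modules.pullbackComp f g).hom.naturality (P.d i j)).symm)

end PullCx

section Core

variable {S X₁ Y₁ X₂ Y₂ X Y Z : Scheme.{u}} (f₁ : X₁ ⟶ Y₁) (q₁ : Y₁ ⟶ S)
  (f₂ : X₂ ⟶ Y₂) (q₂ : Y₂ ⟶ S)
  (pX₁ : X ⟶ X₁) (pX₂ : X ⟶ X₂) (hX : IsPullback pX₁ pX₂ (f₁ ≫ q₁) (f₂ ≫ q₂))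
  (pY₁ : Y ⟶ Y₁) (pY₂ : Y ⟶ Y₂) (hY : IsPullback pY₁ pY₂ q₁ q₂)
  (zX₁ : Z ⟶ X₁) (zY₂ : Z ⟶ Y₂) (hZ : IsPullback zX₁ zY₂ (f₁ ≫ q₁) q₂)
  (u : X ⟶ Z) (hu₁ : u ≫ zX₁ = pX₁) (hu₂ : u ≫ zY₂ = pX₂ ≫ f₂)
  (v : Z ⟶ Y) (hv₁ : v ≫ pY₁ = zX₁ ≫ f₁) (hv₂ : v ≫ pY₂ = zY₂)

include hX hY hZ hu₁ hu₂ hv₁ hv₂ in
/-- the external tensor product, with the factorisation `f = u ≫ v` through `Z = X₁ ×_S Y₂`
given -/
theorem torAmp_externalTensor_core [Flat q₂] [Flat (f₂ ≫ q₂)]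
    (E₁ : CochainComplex X₁.Modules ℤ) (a₁ b₁ : ℤ) (h₁ : DerSch.HasTorAmplitude f₁ a₁ b₁ E₁)
    (E₂ : CochainComplex X₂.Modules ℤ) (a₂ b₂ : ℤ) (h₂ : DerSch.HasTorAmplitude f₂ a₂ b₂ E₂)
    [DCoh.HasLpull pX₁] [DCoh.HasLpull pX₂]
    (K₂ : CochainComplex X.Modules ℤ) [DCoh.HasLTensorCx K₂]
    (eK : DCoh.toD X K₂ ≅ (DCoh.Lpull pX₂).obj (DCoh.toD X₂ E₂)) :
    DerSch.HasTorAmplitudeD (u ≫ v) (a₁ + a₂) (b₁ + b₂)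
      ((DCoh.LTensorCx K₂).obj ((DCoh.Lpull pX₁).obj (DCoh.toD X₁ E₁))) := by
  -- the two squares
  have sqA : IsPullback pX₂ u f₂ zY₂ := by
    refine IsPullback.of_bot ?_ hu₂.symm hZ.flip
    rw [hu₁]
    exact hX.flip
  have sqB : IsPullback zX₁ v f₁ pY₁ := by
    refine (IsPullback.of_right ?_ hv₁ hY.flip).flip
    rw [hv₂]
    exact hZ.flip
  haveI : Flat pY₁ := MorphismProperty.of_isPullback (P := @Flat) hY.flip inferInstance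
  rintro H ⟨eH⟩ x
  obtain ⟨P₁, r₁, hP₁, hr₁⟩ := Groth.Agent.Lib.DTorCmp.exists_kflat_resolution' E₁
  obtain ⟨P₂, r₂, hP₂, hr₂⟩ := Groth.Agent.Lib.DTorCmp.exists_kflat_resolution' E₂
  haveI := hr₁
  haveI := hr₂
  have eP₁ : DCoh.toD X₁ P₁ ≅ DCoh.toD X₁ E₁ := asIso (DerivedCategory.Q.map r₁)
  have eP₂ : DCoh.toD X₂ P₂ ≅ DCoh.toD X₂ E₂ := asIso (DerivedCategory.Q.map r₂)
  have hG₀ : DCoh.IsKFlat ((pullCx zX₁).obj P₁) := isKFlat_pullback zX₁ P₁ hP₁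
  have c1 : (pullCx pX₁).obj P₁ ≅ (pullCx u).obj ((pullCx zX₁).obj P₁) :=
    pullCxCongr hu₁.symm P₁ ≪≫ (pullCxComp u zX₁ P₁).symm
  have e1 : DCoh.toD X H ≅
      DCoh.toD X ((DCoh.tensorCx.obj ((pullCx u).obj ((pullCx zX₁).obj P₁))).obj K₂) :=
    eH ≪≫ (DCoh.LTensorCx K₂).mapIso ((DCoh.Lpull pX₁).mapIso eP₁.symm ≪≫
      LpullQIso pX₁ P₁ hP₁ ≪≫ DerivedCategory.Q.mapIso c1) ≪≫
      ltIsoLeft K₂ _ (isKFlat_pullback u _ hG₀)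
  -- the first factor: flat base change
  have hP₁' : HasTorAmplitudeAt f₁ a₁ b₁ P₁ (zX₁.base (u.base x)) :=
    hasTorAmplitudeIn_of_iso (stalkDIso f₁ (zX₁.base (u.base x)) eP₁).symm _ _ (h₁ _)
  have hG : HasTorAmplitudeAt v a₁ b₁ ((pullCx zX₁).obj P₁) (u.base x) :=
    hasTorAmplitudeAt_pullCx_flat f₁ pY₁ zX₁ v sqB P₁ a₁ b₁ (u.base x) hP₁'
  -- the second factor: Tor-independent base change
  have hP₂' : HasTorAmplitudeAt f₂ a₂ b₂ P₂ (pX₂.base x) :=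
    hasTorAmplitudeIn_of_iso (stalkDIso f₂ (pX₂.base x) eP₂).symm _ _ (h₂ _)
  have hN0 : HasTorAmplitudeAt u a₂ b₂ ((pullCx pX₂).obj P₂) x :=
    hasTorAmplitudeAt_pullCx_torIndep q₂ (f₁ ≫ q₁) f₂ zY₂ zX₁ hZ.flip pX₂ u sqA P₂ hP₂ a₂ b₂ x hP₂'
  have eK₂ : DCoh.toD X K₂ ≅ DCoh.toD X ((pullCx pX₂).obj P₂) :=
    eK ≪≫ (DCoh.Lpull pX₂).mapIso eP₂.symm ≪≫ LpullQIso pX₂ P₂ hP₂
  have hN : HasTorAmplitudeAt u a₂ b₂ K₂ x :=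
    hasTorAmplitudeIn_of_iso (stalkDIso u x eK₂).symm _ _ hN0
  have key := hasTorAmplitudeAt_core u v x ((pullCx zX₁).obj P₁) hG₀ K₂ a₂ b₂ a₁ b₁ hN hG
    ((DCoh.tensorCx.obj ((pullCx u).obj ((pullCx zX₁).obj P₁))).obj K₂)
    (stalkTotIso x _ K₂ ≪≫ (whiskerRightIso (pullbackStalkCxIso u x ((pullCx zX₁).obj P₁)) _ :))
  have key2 := hasTorAmplitudeIn_of_iso (stalkDIso (u ≫ v) x e1).symm _ _ key
  rw [add_comm a₂ a₁, add_comm b₂ b₁] at key2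
  exact key2

end Core

/-- **S6257** -/
theorem main6257 {S X₁ Y₁ X₂ Y₂ X Y : Scheme.{u}} (f₁ : X₁ ⟶ Y₁) (q₁ : Y₁ ⟶ S)
    (f₂ : X₂ ⟶ Y₂) (q₂ : Y₂ ⟶ S) [Flat q₂] [Flat (f₂ ≫ q₂)]
    (pX₁ : X ⟶ X₁) (pX₂ : X ⟶ X₂) (hX : IsPullback pX₁ pX₂ (f₁ ≫ q₁) (f₂ ≫ q₂))
    (pY₁ : Y ⟶ Y₁) (pY₂ : Y ⟶ Y₂) (hY : IsPullback pY₁ pY₂ q₁ q₂)
    (f : X ⟶ Y) (hf₁ : f ≫ pY₁ = pX₁ ≫ f₁) (hf₂ : f ≫ pY₂ = pX₂ ≫ f₂)
    (E₁ : CochainComplex X₁.Modules ℤ) (a₁ b₁ : ℤ) (h₁ : DerSch.HasTorAmplitude f₁ a₁ b₁ E₁)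
    (E₂ : CochainComplex X₂.Modules ℤ) (a₂ b₂ : ℤ) (h₂ : DerSch.HasTorAmplitude f₂ a₂ b₂ E₂)
    [DCoh.HasLpull pX₁] [DCoh.HasLpull pX₂]
    (K₂ : CochainComplex X.Modules ℤ) [DCoh.HasLTensorCx K₂]
    (eK : Nonempty (DCoh.toD X K₂ ≅ (DCoh.Lpull pX₂).obj (DCoh.toD X₂ E₂))) :
    DerSch.HasTorAmplitudeD f (a₁ + a₂) (b₁ + b₂)
      ((DCoh.LTensorCx K₂).obj ((DCoh.Lpull pX₁).obj (DCoh.toD X₁ E₁))) := by
  obtain ⟨eK⟩ := eK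
  have hZ : IsPullback (pullback.fst (f₁ ≫ q₁) q₂) (pullback.snd (f₁ ≫ q₁) q₂) (f₁ ≫ q₁) q₂ :=
    IsPullback.of_hasPullback _ _
  have hw : pX₁ ≫ (f₁ ≫ q₁) = (pX₂ ≫ f₂) ≫ q₂ := by
    rw [Category.assoc]
    exact hX.w
  have hu₁ : pullback.lift pX₁ (pX₂ ≫ f₂) hw ≫ pullback.fst (f₁ ≫ q₁) q₂ = pX₁ :=
    pullback.lift_fst _ _ _
  have hu₂ : pullback.lift pX₁ (pX₂ ≫ f₂) hw ≫ pullback.snd (f₁ ≫ q₁) q₂ = pX₂ ≫ f₂ :=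
    pullback.lift_snd _ _ _
  have hw' : (pullback.fst (f₁ ≫ q₁) q₂ ≫ f₁) ≫ q₁ = pullback.snd (f₁ ≫ q₁) q₂ ≫ q₂ := by
    rw [Category.assoc]
    exact hZ.w
  have hv₁ : hY.lift (pullback.fst (f₁ ≫ q₁) q₂ ≫ f₁) (pullback.snd (f₁ ≫ q₁) q₂) hw' ≫ pY₁ =
      pullback.fst (f₁ ≫ q₁) q₂ ≫ f₁ := hY.lift_fst _ _ _
  have hv₂ : hY.lift (pullback.fst (f₁ ≫ q₁) q₂ ≫ f₁) (pullback.snd (f₁ ≫ q₁) q₂) hw' ≫ pY₂ =
      pullback.snd (f₁ ≫ q₁) q₂ := hY.lift_snd _ _ _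
  have huv : pullback.lift pX₁ (pX₂ ≫ f₂) hw ≫
      hY.lift (pullback.fst (f₁ ≫ q₁) q₂ ≫ f₁) (pullback.snd (f₁ ≫ q₁) q₂) hw' = f := by
    apply hY.hom_ext
    · rw [Category.assoc, hv₁, ← Category.assoc, hu₁, hf₁]
    · rw [Category.assoc, hv₂, hu₂, hf₂]
  have key := torAmp_externalTensor_core f₁ q₁ f₂ q₂ pX₁ pX₂ hX pY₁ pY₂ hY _ _ hZ _ hu₁ hu₂ _
    hv₁ hv₂ E₁ a₁ b₁ h₁ E₂ a₂ b₂ h₂ K₂ eK
  rw [huv] at key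
  exact key

end

end Groth.Agent.Lib.TorIndepAmpH3
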