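import Mathlib
import Groth.Prelude
import Groth.Agent.Lib.TorIndepAmp3_helper3
import Groth.Agent.Lib.TorAmpRel4_helper3
import Groth.Agent.Lib.DMod64_helper6
import Groth.Agent.Lib.DMod42_helper6

/-!
# Boundedness of an external derived tensor product (helper3; S6258)

`X₁`, `Y₁` flat over `S`, `E₁` of tor amplitude in `[a₁, b₁]` relative to `f₁`, `E₂` acyclic outside
`[a₂, b₂]`: then `Lp₁^* E₁ ⊗^L Lp₂^* E₂` is acyclic outside `[a₁ + a₂, b₁ + b₂]`.  The projection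
`p₂` is factored through `Z = Y₁ ×_S X₂`, which is flat over `X₂`; `Lp₁^* E₁` has tor amplitude in
`[a₁, b₁]` relative to `X ⟶ Z` by Tor-independent base change.
-/

set_option autoImplicit false
set_option linter.all false
set_option maxHeartbeats 1600000
set_option backward.isDefEq.respectTransparency false
set_option backward.isDefEq.respectTransparency.types false
set_option backward.defeqAttrib.useBackward true

universe u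
open CategoryTheory CategoryTheory.Limits AlgebraicGeometry Opposite MonoidalCategory

attribute [local instance] HasDerivedCategory.standard

namespace Groth.Agent.Lib.TorIndepAmpH3

open Groth.Agent.Lib.ExtKFlat Groth.Agent.Lib.TorAmpLT Groth.Agent.Lib.ResKFlat
  Groth.Agent.Lib.KFlatMod Groth.Agent.Lib.KFlatGen Groth.Agent.Lib.DRingLT
  Groth.Agent.Lib.TotalMap Groth.Agent.Lib.DMod_helper6
  Groth.Agent.Lib.StalkTensH3 Groth.Agent.Lib.LpullLocH3 Groth.Agent.Lib.LpullTensH3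
  Groth.Agent.Lib.PullTensIsoH3 Groth.Agent.Lib.TorAmpCompL Groth.Agent.Lib.TorAmpPushL
  Groth.Agent.Lib.TorAmpRelH3 Groth.Agent.Lib.TorAmpIdL DerSch

noncomputable section

section TwoRings

variable {D B : Type u} [CommRing D] [CommRing B] [Algebra D B]

/-- **ring-level core**: `M'` K-flat over `B` with `M'|_D` of tor amplitude in `[a, b]`, `G` K-flat
over `D` exact outside `[c, d]`, and `N ≅ B ⊗_D G` in `D(B)`: then `M' ⊗_B N` is exact outside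
`[a + c, b + d]` -/
theorem exactAt_tensor_bdd_core (M' : DRing.Cx B) (hM' : KF B M') (a b : ℤ)
    (hM'D : DRing.HasTorAmplitudeIn D a b
      (DRing.toD (((res D B).mapHomologicalComplex (ComplexShape.up ℤ)).obj M')))
    (G : DRing.Cx D) (hG : KF D G) (c d : ℤ)
    (hGex : ∀ i : ℤ, (i < c ∨ d < i) → G.ExactAt i)
    (N : DRing.Cx B)
    (φ : DRing.toD N ≅
      DRing.toD (((ext D B).mapHomologicalComplex (ComplexShape.up ℤ)).obj G))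
    (i : ℤ) (hi : i < a + c ∨ b + d < i) :
    (M' ⊗ N : DRing.Cx B).ExactAt i := by
  obtain ⟨e1⟩ := nonempty_tensor_iso_of_iso M' hM' φ
  refine exactAt_of_iso_toD _ _ e1 i ?_
  refine exactAt_of_iso (tensorCxSymm (DRingLT.σ B)
    (((ext D B).mapHomologicalComplex (ComplexShape.up ℤ)).obj G) M') i ?_
  refine (exactAt_tensor_res_iff G M' i).1 ?_
  obtain ⟨F', hF', hF'fl, ⟨ψ⟩⟩ := hM'D
  obtain ⟨e2⟩ := nonempty_tensor_iso_of_iso G hG ψ.symm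
  refine exactAt_of_iso_toD _ _ e2 i ?_
  refine exactAt_of_iso (tensorCxSymm (DRingLT.σ D) F' G) i ?_
  have hF'kf : KF D F' := kf_of_vanishesAbove F' b (fun j hj => hF' j (Or.inr hj)) hF'fl
  exact exactAt_tensor_of_bounded F' G a b c d hF' hF'kf hGex i hi

end TwoRings

/-- an exact functor preserves exactness of a complex at a degree -/
lemma exactAt_map_of_exactAt {C₁ C₂ : Type*} [Category C₁] [Category C₂] [Abelian C₁] [Abelian C₂]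
    (Φ : C₁ ⥤ C₂) [Φ.Additive] [PreservesFiniteLimits Φ] [PreservesFiniteColimits Φ]
    (K : CochainComplex C₁ ℤ) (i : ℤ) (h : K.ExactAt i) :
    ((Φ.mapHomologicalComplex (ComplexShape.up ℤ)).obj K).ExactAt i := by
  rw [HomologicalComplex.exactAt_iff_isZero_homology] at h ⊢
  exact IsZero.of_iso (Φ.map_isZero h) ((K.sc i).mapHomologyIso Φ)

section Core

variable {S X₁ Y₁ X₂ Y₂ X Z : Scheme.{u}} (f₁ : X₁ ⟶ Y₁) (q₁ : Y₁ ⟶ S)
  (f₂ : X₂ ⟶ Y₂) (q₂ : Y₂ ⟶ S)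
  (pX₁ : X ⟶ X₁) (pX₂ : X ⟶ X₂) (hX : IsPullback pX₁ pX₂ (f₁ ≫ q₁) (f₂ ≫ q₂))
  (zY₁ : Z ⟶ Y₁) (zX₂ : Z ⟶ X₂) (hZ : IsPullback zY₁ zX₂ q₁ (f₂ ≫ q₂))
  (u : X ⟶ Z) (hu₁ : u ≫ zY₁ = pX₁ ≫ f₁) (hu₂ : u ≫ zX₂ = pX₂)

include hX hZ hu₁ hu₂ in
/-- exactness of `p₁^* P₁ ⊗ K₂` outside `[a₁ + a₂, b₁ + b₂]` -/
theorem exactAt_externalTensor_core [Flat q₁] [Flat (f₁ ≫ q₁)]
    (P₁ : CochainComplex X₁.Modules ℤ) (hP₁ : DCoh.IsKFlat P₁) (a₁ b₁ : ℤ)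
    (h₁ : ∀ x₁ : X₁, HasTorAmplitudeAt f₁ a₁ b₁ P₁ x₁)
    (P₂ : CochainComplex X₂.Modules ℤ) (hP₂ : DCoh.IsKFlat P₂) (a₂ b₂ : ℤ)
    (hP₂ex : ∀ i : ℤ, (i < a₂ ∨ b₂ < i) → P₂.ExactAt i)
    (K₂ : CochainComplex X.Modules ℤ)
    (eK₂ : DCoh.toD X K₂ ≅ DCoh.toD X ((pullCx pX₂).obj P₂))
    (i : ℤ) (hi : i < a₁ + a₂ ∨ b₁ + b₂ < i) :
    ((DCoh.tensorCx.obj ((pullCx pX₁).obj P₁)).obj K₂).ExactAt i := by
  have sq : IsPullback pX₁ u f₁ zY₁ := by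
    refine IsPullback.of_bot ?_ hu₁.symm hZ
    rw [hu₂]
    exact hX
  haveI : Flat zX₂ := MorphismProperty.of_isPullback (P := @Flat) hZ inferInstance
  apply exactAt_of_forall_stalk
  intro x
  letI := stalkAlgebra u x
  -- the first factor
  have hM' : KF (X.presheaf.stalk x)
      (((stk x).mapHomologicalComplex (ComplexShape.up ℤ)).obj ((pullCx pX₁).obj P₁)) :=
    kf_stalk_of_isKFlat x _ (isKFlat_pullback pX₁ P₁ hP₁)
  have hM'D : HasTorAmplitudeAt u a₁ b₁ ((pullCx pX₁).obj P₁) x :=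
    hasTorAmplitudeAt_pullCx_torIndep q₁ (f₂ ≫ q₂) f₁ zY₁ zX₂ hZ pX₁ u sq P₁ hP₁ a₁ b₁ x (h₁ _)
  -- the second factor
  have hG : KF (Z.presheaf.stalk (u.base x))
      (((stk (u.base x)).mapHomologicalComplex (ComplexShape.up ℤ)).obj
        ((pullCx zX₂).obj P₂)) :=
    kf_stalk_of_isKFlat (u.base x) _ (isKFlat_pullback zX₂ P₂ hP₂)
  have hGex : ∀ j : ℤ, (j < a₂ ∨ b₂ < j) →
      (((stk (u.base x)).mapHomologicalComplex (ComplexShape.up ℤ)).obj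
        ((pullCx zX₂).obj P₂)).ExactAt j := by
    intro j hj
    letI : Algebra (X₂.presheaf.stalk (zX₂.base (u.base x))) (Z.presheaf.stalk (u.base x)) :=
      (zX₂.stalkMap (u.base x)).hom.toAlgebra
    haveI : Module.Flat (X₂.presheaf.stalk (zX₂.base (u.base x)))
        (Z.presheaf.stalk (u.base x)) := Flat.stalkMap zX₂ (u.base x)
    have k1 : (((stk (zX₂.base (u.base x))).mapHomologicalComplex
        (ComplexShape.up ℤ)).obj P₂).ExactAt j :=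
      exactAt_map_of_exactAt (stk (zX₂.base (u.base x))) P₂ j (hP₂ex j hj)
    have k2 := exactAt_ESc_of_exactAt (R := X₂.presheaf.stalk (zX₂.base (u.base x)))
      (B := Z.presheaf.stalk (u.base x)) _ j k1
    exact exactAt_of_iso (pullbackStalkCxIso zX₂ (u.base x) P₂).symm j k2
  have c1 : (pullCx pX₂).obj P₂ ≅ (pullCx u).obj ((pullCx zX₂).obj P₂) :=
    pullCxCongr hu₂.symm P₂ ≪≫ (pullCxComp u zX₂ P₂).symm
  have φ : DRing.toD (((stk x).mapHomologicalComplex (ComplexShape.up ℤ)).obj K₂) ≅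
      DRing.toD (((ext (Z.presheaf.stalk (u.base x)) (X.presheaf.stalk x)).mapHomologicalComplex
        (ComplexShape.up ℤ)).obj
          (((stk (u.base x)).mapHomologicalComplex (ComplexShape.up ℤ)).obj
            ((pullCx zX₂).obj P₂))) :=
    stalkDIso0 x (eK₂ ≪≫ DerivedCategory.Q.mapIso c1) ≪≫
      DerivedCategory.Q.mapIso (pullbackStalkCxIso u x ((pullCx zX₂).obj P₂))
  have key := exactAt_tensor_bdd_core (D := Z.presheaf.stalk (u.base x))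
    (B := X.presheaf.stalk x) _ hM' a₁ b₁ hM'D _ hG a₂ b₂ hGex _ φ i hi
  exact exactAt_of_iso (stalkTotIso x ((pullCx pX₁).obj P₁) K₂).symm i key

end Core

/-- **S6258** -/
theorem main6258 {S X₁ Y₁ X₂ Y₂ X : Scheme.{u}} (f₁ : X₁ ⟶ Y₁) (q₁ : Y₁ ⟶ S)
    (f₂ : X₂ ⟶ Y₂) (q₂ : Y₂ ⟶ S) [Flat q₁] [Flat (f₁ ≫ q₁)]
    (pX₁ : X ⟶ X₁) (pX₂ : X ⟶ X₂) (hX : IsPullback pX₁ pX₂ (f₁ ≫ q₁) (f₂ ≫ q₂))
    (E₁ : CochainComplex X₁.Modules ℤ) (a₁ b₁ : ℤ) (h₁ : DerSch.HasTorAmplitude f₁ a₁ b₁ E₁)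
    (E₂ : CochainComplex X₂.Modules ℤ) (a₂ b₂ : ℤ)
    [(DCoh.toD X₂ E₂).IsGE a₂] [(DCoh.toD X₂ E₂).IsLE b₂]
    [DCoh.HasLpull pX₁] [DCoh.HasLpull pX₂]
    (K₂ : CochainComplex X.Modules ℤ) [DCoh.HasLTensorCx K₂]
    (eK : Nonempty (DCoh.toD X K₂ ≅ (DCoh.Lpull pX₂).obj (DCoh.toD X₂ E₂))) :
    (((DCoh.LTensorCx K₂).obj ((DCoh.Lpull pX₁).obj (DCoh.toD X₁ E₁)))).IsGE (a₁ + a₂) ∧
      (((DCoh.LTensorCx K₂).obj ((DCoh.Lpull pX₁).obj (DCoh.toD X₁ E₁)))).IsLE (b₁ + b₂) := by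
  obtain ⟨eK⟩ := eK
  have hZ : IsPullback (pullback.fst q₁ (f₂ ≫ q₂)) (pullback.snd q₁ (f₂ ≫ q₂)) q₁ (f₂ ≫ q₂) :=
    IsPullback.of_hasPullback _ _
  have hw : (pX₁ ≫ f₁) ≫ q₁ = pX₂ ≫ (f₂ ≫ q₂) := by
    rw [Category.assoc]
    exact hX.w
  have hu₁ : pullback.lift (pX₁ ≫ f₁) pX₂ hw ≫ pullback.fst q₁ (f₂ ≫ q₂) = pX₁ ≫ f₁ :=
    pullback.lift_fst _ _ _
  have hu₂ : pullback.lift (pX₁ ≫ f₁) pX₂ hw ≫ pullback.snd q₁ (f₂ ≫ q₂) = pX₂ :=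
    pullback.lift_snd _ _ _
  obtain ⟨P₁, r₁, hP₁, hr₁⟩ := Groth.Agent.Lib.DTorCmp.exists_kflat_resolution' E₁
  obtain ⟨P₂, r₂, hP₂, hr₂⟩ := Groth.Agent.Lib.DTorCmp.exists_kflat_resolution' E₂
  haveI := hr₁
  haveI := hr₂
  have eP₁ : DCoh.toD X₁ P₁ ≅ DCoh.toD X₁ E₁ := asIso (DerivedCategory.Q.map r₁)
  have eP₂ : DCoh.toD X₂ P₂ ≅ DCoh.toD X₂ E₂ := asIso (DerivedCategory.Q.map r₂)
  have hP₁' : ∀ x₁ : X₁, HasTorAmplitudeAt f₁ a₁ b₁ P₁ x₁ := fun x₁ =>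
    hasTorAmplitudeIn_of_iso (stalkDIso f₁ x₁ eP₁).symm _ _ (h₁ x₁)
  haveI : (DerivedCategory.Q.obj P₂).IsGE a₂ :=
    DerivedCategory.TStructure.t.isGE_of_iso eP₂.symm a₂
  haveI : (DerivedCategory.Q.obj P₂).IsLE b₂ :=
    DerivedCategory.TStructure.t.isLE_of_iso eP₂.symm b₂
  have hge : P₂.IsGE a₂ := (DerivedCategory.isGE_Q_obj_iff P₂ a₂).1 inferInstance
  have hle : P₂.IsLE b₂ := (DerivedCategory.isLE_Q_obj_iff P₂ b₂).1 inferInstance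
  have hP₂ex : ∀ i : ℤ, (i < a₂ ∨ b₂ < i) → P₂.ExactAt i := by
    rintro i (hi | hi)
    · exact (CochainComplex.isGE_iff P₂ a₂).1 hge i hi
    · exact (CochainComplex.isLE_iff P₂ b₂).1 hle i hi
  have eK₂ : DCoh.toD X K₂ ≅ DCoh.toD X ((pullCx pX₂).obj P₂) :=
    eK ≪≫ (DCoh.Lpull pX₂).mapIso eP₂.symm ≪≫ LpullQIso pX₂ P₂ hP₂
  have e : (DCoh.LTensorCx K₂).obj ((DCoh.Lpull pX₁).obj (DCoh.toD X₁ E₁)) ≅
      DCoh.toD X ((DCoh.tensorCx.obj ((pullCx pX₁).obj P₁)).obj K₂) :=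
    (DCoh.LTensorCx K₂).mapIso ((DCoh.Lpull pX₁).mapIso eP₁.symm ≪≫ LpullQIso pX₁ P₁ hP₁) ≪≫
      ltIsoLeft K₂ _ (isKFlat_pullback pX₁ P₁ hP₁)
  have hex : ∀ i : ℤ, (i < a₁ + a₂ ∨ b₁ + b₂ < i) →
      ((DCoh.tensorCx.obj ((pullCx pX₁).obj P₁)).obj K₂).ExactAt i := fun i hi =>
    exactAt_externalTensor_core f₁ q₁ f₂ q₂ pX₁ pX₂ hX _ _ hZ _ hu₁ hu₂ P₁ hP₁ a₁ b₁ hP₁'
      P₂ hP₂ a₂ b₂ hP₂ex K₂ eK₂ i hi
  have hge' : ((DCoh.tensorCx.obj ((pullCx pX₁).obj P₁)).obj K₂).IsGE (a₁ + a₂) :=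
    (CochainComplex.isGE_iff _ _).2 (fun i hi => hex i (Or.inl hi))
  have hle' : ((DCoh.tensorCx.obj ((pullCx pX₁).obj P₁)).obj K₂).IsLE (b₁ + b₂) :=
    (CochainComplex.isLE_iff _ _).2 (fun i hi => hex i (Or.inr hi))
  haveI : (DerivedCategory.Q.obj ((DCoh.tensorCx.obj ((pullCx pX₁).obj P₁)).obj K₂)).IsGE
      (a₁ + a₂) := (DerivedCategory.isGE_Q_obj_iff _ _).2 hge'
  haveI : (DerivedCategory.Q.obj ((DCoh.tensorCx.obj ((pullCx pX₁).obj P₁)).obj K₂)).IsLE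
      (b₁ + b₂) := (DerivedCategory.isLE_Q_obj_iff _ _).2 hle'
  exact ⟨DerivedCategory.TStructure.t.isGE_of_iso e.symm _,
    DerivedCategory.TStructure.t.isLE_of_iso e.symm _⟩

end

end Groth.Agent.Lib.TorIndepAmpH3
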