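import Groth.Agent.Lib.TorFact_helper5

/-!
# Maps killing `Tor_1(-, N)` for all `N` factor through a free module, part 2 (helper5)
-/

set_option autoImplicit false
universe u
open CategoryTheory CategoryTheory.Limits MonoidalCategory TensorProduct

namespace Groth.Agent.TorFact

open Groth.Agent.TorLES

variable {R : Type u} [CommRing R]

section

variable {M M' F F' : Type u} [AddCommGroup M] [Module R M] [AddCommGroup M'] [Module R M']
  [AddCommGroup F] [Module R F] [AddCommGroup F'] [Module R F']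

/-- from the vanishing of `Tor_1(α, N)` to the tensor statement. -/
theorem tensor_key' (α : M →ₗ[R] M') (f : F →ₗ[R] M) (hf : Function.Surjective f)
    (π' : F' →ₗ[R] M') (hπ' : Function.Surjective π') (a : F →ₗ[R] F') (ha : π' ∘ₗ a = α ∘ₗ f)
    (aK : LinearMap.ker f →ₗ[R] LinearMap.ker π')
    (haK : (LinearMap.ker π').subtype ∘ₗ aK = a ∘ₗ (LinearMap.ker f).subtype)
    (N : Type u) [AddCommGroup N] [Module R N]
    (h : ((Tor (ModuleCat.{u} R) 1).map (ModuleCat.ofHom α)).app (ModuleCat.of R N) = 0)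
    (t : N ⊗[R] LinearMap.ker f) (ht : ((LinearMap.ker f).subtype.lTensor N) t = 0) :
    (aK.lTensor N) t = 0 := by
  have hex : Function.Exact (LinearMap.ker f).subtype f := LinearMap.exact_subtype_ker_map f
  have hex' : Function.Exact (LinearMap.ker π').subtype π' := LinearMap.exact_subtype_ker_map π'
  have hS := mk_shortExact (LinearMap.ker f).subtype f Subtype.val_injective hex hf
  have hS' := mk_shortExact (LinearMap.ker π').subtype π' Subtype.val_injective hex' hπ'
  let φ : ShortComplex.moduleCatMk (LinearMap.ker f).subtype f hex.linearMap_comp_eq_zero ⟶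
      ShortComplex.moduleCatMk (LinearMap.ker π').subtype π' hex'.linearMap_comp_eq_zero :=
    { τ₁ := ModuleCat.ofHom aK
      τ₂ := ModuleCat.ofHom a
      τ₃ := ModuleCat.ofHom α
      comm₁₂ := ModuleCat.hom_ext haK
      comm₂₃ := ModuleCat.hom_ext ha }
  exact tensor_key φ hS hS' (ModuleCat.of R N) h t ht

end

section main

variable {M M' : Type u} [AddCommGroup M] [Module R M] [AddCommGroup M'] [Module R M']

/-- the final algebra: a lift `a` of `α ∘ f` whose restriction to `ker f` is given by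
coefficients `c` in `ker π'` yields a factorisation of `α` through `F'`. -/
theorem factor_of_coeffs {n : ℕ} {F' : Type u} [AddCommGroup F'] [Module R F']
    (α : M →ₗ[R] M') (f : (Fin n → R) →ₗ[R] M) (hf : Function.Surjective f)
    (π' : F' →ₗ[R] M') (a : (Fin n → R) →ₗ[R] F') (ha : π' ∘ₗ a = α ∘ₗ f)
    (c : Fin n → LinearMap.ker π')
    (hc : ∀ x : LinearMap.ker f, a x = ∑ i, (x : Fin n → R) i • (c i : F')) :
    ∃ g₀ : M →ₗ[R] F', α = π' ∘ₗ g₀ := by
  classical
  have hax : ∀ v, π' (a v) = α (f v) := fun v => LinearMap.congr_fun ha v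
  let s : (Fin n → R) →ₗ[R] F' := Fintype.linearCombination R (fun i => (c i : F'))
  have hs : ∀ v, s v = ∑ i, v i • (c i : F') := fun v => Fintype.linearCombination_apply R _ v
  have hπs : ∀ v, π' (s v) = 0 := by
    intro v
    rw [hs, map_sum]
    refine Finset.sum_eq_zero fun i _ => ?_
    rw [map_smul, (c i).2, smul_zero]
  let a' : (Fin n → R) →ₗ[R] F' := a - s
  have ha' : LinearMap.ker f ≤ LinearMap.ker a' := by
    intro x hx
    rw [LinearMap.mem_ker]
    have h1 := hc ⟨x, hx⟩
    simp only [a', LinearMap.sub_apply]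
    rw [hs, sub_eq_zero]
    exact h1
  let g₀ : M →ₗ[R] F' :=
    ((LinearMap.ker f).liftQ a' ha') ∘ₗ (f.quotKerEquivOfSurjective hf).symm.toLinearMap
  have hg₀ : ∀ v, g₀ (f v) = a' v := by
    intro v
    simp only [g₀, LinearMap.comp_apply, LinearEquiv.coe_coe]
    rw [LinearMap.quotKerEquivOfSurjective_symm_apply]
    rfl
  refine ⟨g₀, ?_⟩
  apply LinearMap.ext
  intro x
  obtain ⟨v, rfl⟩ := hf x
  rw [LinearMap.comp_apply, hg₀]
  simp only [a', LinearMap.sub_apply, map_sub]
  rw [hax, hπs, sub_zero]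

theorem factor_through_aux [Module.FinitePresentation R M] (α : M →ₗ[R] M')
    {F' : Type u} [AddCommGroup F'] [Module R F'] (π' : F' →ₗ[R] M')
    (hπ' : Function.Surjective π')
    (h : ∀ (N : Type u) [AddCommGroup N] [Module R N],
      ((Tor (ModuleCat.{u} R) 1).map (ModuleCat.ofHom α)).app (ModuleCat.of R N) = 0) :
    ∃ g₀ : M →ₗ[R] F', α = π' ∘ₗ g₀ := by
  classical
  obtain ⟨n, m, f, g, hf, hex⟩ := Module.FinitePresentation.exists_fin' R M
  let q : (Fin m → R) →ₗ[R] LinearMap.ker f :=
    g.codRestrict (LinearMap.ker f) (fun v => hex.apply_apply_eq_zero v)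
  have hq : Function.Surjective q := by
    rintro ⟨x, hx⟩
    obtain ⟨v, hv⟩ := (hex x).mp hx
    exact ⟨v, Subtype.ext hv⟩
  obtain ⟨a, ha⟩ := Module.projective_lifting_property π' (α ∘ₗ f) hπ'
  have hax : ∀ v, π' (a v) = α (f v) := fun v => LinearMap.congr_fun ha v
  let aK : LinearMap.ker f →ₗ[R] LinearMap.ker π' :=
    (a ∘ₗ (LinearMap.ker f).subtype).codRestrict _ (fun x => by
      change π' (a x) = 0
      rw [hax, (x.2 : f x = 0), map_zero])
  have haK : (LinearMap.ker π').subtype ∘ₗ aK = a ∘ₗ (LinearMap.ker f).subtype := rfl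
  obtain ⟨c, hc⟩ := exists_coeffs (LinearMap.ker f) q hq aK
    (fun N _ _ t ht => tensor_key' α f hf π' hπ' a ha aK haK N (h N) t ht)
  refine factor_of_coeffs α f hf π' a ha c ?_
  intro x
  have h1 := congrArg Subtype.val (hc x)
  rw [Submodule.coe_sum] at h1
  exact h1

theorem factor_through_free [Module.FinitePresentation R M] (α : M →ₗ[R] M')
    (h : ∀ (N : Type u) [AddCommGroup N] [Module R N],
      ((Tor (ModuleCat.{u} R) 1).map (ModuleCat.ofHom α)).app (ModuleCat.of R N) = 0) :
    ∃ g₀ : M →ₗ[R] (M' →₀ R), α = (Finsupp.linearCombination R id) ∘ₗ g₀ :=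
  factor_through_aux α (Finsupp.linearCombination R (id : M' → M'))
    (fun x => ⟨Finsupp.single x 1, by simp⟩) h

end main

end Groth.Agent.TorFact
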