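import Mathlib
import Groth.Agent.Lib.TorFact2_helper5
import Groth.Agent.Lib.Depth_helper5
import Groth.Prelude.Def_DRing2

/-!
# `Ext^{e+1}(α, -) = 0` iff `Tor_{e+1}(α, -) = 0` (helper5)

For a map `α : M → M'` of modules over a Noetherian ring with `M` finite, by dimension shifting
down to the case `e = 0`, which is the factorisation through a free module.
-/

universe u

open CategoryTheory CategoryTheory.Limits Abelian

attribute [local instance] HasDerivedCategory.standard

namespace Groth.Agent.ExtTorShift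

open Groth.Agent.TorLES Groth.Agent.TorNat Groth.Agent.TorFact

variable {R : Type u} [CommRing R]

/-- `Ext^n(g, Y)` vanishes for all `Y`. -/
def PExt {X X' : ModuleCat.{u} R} (g : X ⟶ X') (n : ℕ) : Prop :=
  ∀ (Y : ModuleCat.{u} R) (x : Ext X' Y n), (Ext.mk₀ g).comp x (zero_add n) = 0

/-- `Tor_n(g, Y)` vanishes for all `Y`. -/
def PTor {X X' : ModuleCat.{u} R} (g : X ⟶ X') (n : ℕ) : Prop :=
  ∀ (Y : ModuleCat.{u} R), ((Tor (ModuleCat.{u} R) n).map g).app Y = 0

section bridge

/-- the derived category form of `PExt`. -/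
theorem bridge {X X' : ModuleCat.{u} R} (g : X ⟶ X') (Y : ModuleCat.{u} R) (n : ℕ) (m : ℤ)
    (hm : m = (n : ℤ)) :
    (∀ φ : (DerivedCategory.singleFunctor (ModuleCat.{u} R) 0).obj X' ⟶
        ((DerivedCategory.singleFunctor (ModuleCat.{u} R) 0).obj Y)⟦m⟧,
      (DerivedCategory.singleFunctor (ModuleCat.{u} R) 0).map g ≫ φ = 0) ↔
    (∀ x : Ext X' Y n, (Ext.mk₀ g).comp x (zero_add n) = 0) := by
  subst hm
  have key : ∀ x : Ext X' Y n, ((Ext.mk₀ g).comp x (zero_add n)).hom =
      (DerivedCategory.singleFunctor (ModuleCat.{u} R) 0).map g ≫ x.hom := by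
    intro x
    rw [Ext.comp_hom, Ext.mk₀_hom, ShiftedHom.mk₀_comp]
  constructor
  · intro h x
    apply Ext.ext
    rw [key, Ext.zero_hom]
    exact h x.hom
  · intro h φ
    have h1 := key (Ext.homEquiv.symm φ)
    rw [h (Ext.homEquiv.symm φ), Ext.zero_hom] at h1
    have h2 : (Ext.homEquiv.symm φ).hom = φ := Ext.homEquiv.apply_symm_apply φ
    rw [h2] at h1
    exact h1.symm

end bridge

section kerSC

variable (R) in
/-- the canonical surjection `R^(M') → M'`. -/
noncomputable abbrev lc (M' : Type u) [AddCommGroup M'] [Module R M'] : (M' →₀ R) →ₗ[R] M' :=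
  Finsupp.linearCombination R (id : M' → M')

theorem lc_surjective (M' : Type u) [AddCommGroup M'] [Module R M'] :
    Function.Surjective (lc R M') :=
  fun x => ⟨Finsupp.single x 1, by simp [lc]⟩

theorem ker_exact {X Y : Type u} [AddCommGroup X] [Module R X] [AddCommGroup Y] [Module R Y]
    (f : X →ₗ[R] Y) : Function.Exact (LinearMap.ker f).subtype f :=
  LinearMap.exact_subtype_ker_map f

/-- the short complex `0 → ker f → X → Y → 0`. -/
noncomputable abbrev kerSC {X Y : Type u} [AddCommGroup X] [Module R X] [AddCommGroup Y]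
    [Module R Y] (f : X →ₗ[R] Y) : ShortComplex (ModuleCat.{u} R) :=
  Groth.Agent.DepthLib.shortComplexOf (LinearMap.ker f).subtype f (ker_exact f)

theorem kerSC_shortExact {X Y : Type u} [AddCommGroup X] [Module R X] [AddCommGroup Y]
    [Module R Y] (f : X →ₗ[R] Y) (hf : Function.Surjective f) : (kerSC f).ShortExact :=
  Groth.Agent.DepthLib.shortComplexOf_shortExact (LinearMap.ker f).subtype f
    (LinearMap.ker f).injective_subtype hf (ker_exact f)

end kerSC

section shift

variable {F M F' M' : Type u} [AddCommGroup F] [Module R F] [AddCommGroup M] [Module R M]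
  [AddCommGroup F'] [Module R F'] [AddCommGroup M'] [Module R M']
  (π : F →ₗ[R] M) (hπ : Function.Surjective π) (π' : F' →ₗ[R] M') (hπ' : Function.Surjective π')
  (a : F →ₗ[R] F') (α : M →ₗ[R] M') (κ : LinearMap.ker π →ₗ[R] LinearMap.ker π')
  (hκ : ∀ x, ((κ x : LinearMap.ker π') : F') = a x) (hax : ∀ v, π' (a v) = α (π v))

include hκ hax in
/-- the morphism of short complexes -/
theorem exists_mor : ∃ φ : kerSC π ⟶ kerSC π', φ.τ₁ = ModuleCat.ofHom κ ∧
    φ.τ₃ = ModuleCat.ofHom α :=
  ⟨{ τ₁ := ModuleCat.ofHom κ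
     τ₂ := ModuleCat.ofHom a
     τ₃ := ModuleCat.ofHom α
     comm₁₂ := by
       apply ModuleCat.hom_ext
       apply LinearMap.ext
       intro x
       exact hκ x
     comm₂₃ := by
       apply ModuleCat.hom_ext
       apply LinearMap.ext
       intro x
       exact hax x }, rfl, rfl⟩

include hκ hax in
theorem nat_ext :
    (kerSC_shortExact π hπ).extClass.comp (Ext.mk₀ (ModuleCat.ofHom κ)) (add_zero 1) =
      (Ext.mk₀ (ModuleCat.ofHom α)).comp (kerSC_shortExact π' hπ').extClass (zero_add 1) := by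
  obtain ⟨φ, h1, h3⟩ := exists_mor π π' a α κ hκ hax
  have := ShortComplex.ShortExact.extClass_naturality (kerSC_shortExact π hπ)
    (kerSC_shortExact π' hπ') φ
  rw [h1, h3] at this
  exact this

include hκ hax in
theorem nat_tor (n : ℕ) (Y : ModuleCat.{u} R) :
    ((Tor (ModuleCat.{u} R) (n + 1)).map (ModuleCat.ofHom α)).app Y ≫
        torδ (kerSC π') (kerSC_shortExact π' hπ') n Y =
      torδ (kerSC π) (kerSC_shortExact π hπ) n Y ≫
        ((Tor (ModuleCat.{u} R) n).map (ModuleCat.ofHom κ)).app Y := by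
  obtain ⟨φ, h1, h3⟩ := exists_mor π π' a α κ hκ hax
  have := torδ_naturality_left φ (kerSC_shortExact π hπ) (kerSC_shortExact π' hπ') n Y
  rw [h1, h3] at this
  exact this

include hπ hπ' hκ hax in
theorem pExt_shift (hP : Projective (ModuleCat.of R F)) (hP' : Projective (ModuleCat.of R F'))
    (n : ℕ) :
    PExt (ModuleCat.ofHom α) (n + 2) ↔ PExt (ModuleCat.ofHom κ) (n + 1) := by
  have nat := nat_ext π hπ π' hπ' a α κ hκ hax
  have assoc : ∀ (Y : ModuleCat.{u} R) (ψ : Ext (ModuleCat.of R (LinearMap.ker π')) Y (n + 1)),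
      (Ext.mk₀ (ModuleCat.ofHom α)).comp ((kerSC_shortExact π' hπ').extClass.comp ψ
        (show 1 + (n + 1) = n + 2 by omega)) (zero_add (n + 2)) =
      (kerSC_shortExact π hπ).extClass.comp ((Ext.mk₀ (ModuleCat.ofHom κ)).comp ψ
        (zero_add (n + 1))) (show 1 + (n + 1) = n + 2 by omega) := by
    intro Y ψ
    have e1 := Ext.comp_assoc (Ext.mk₀ (ModuleCat.ofHom α)) (kerSC_shortExact π' hπ').extClass ψ
      (zero_add 1) (show 1 + (n + 1) = n + 2 by omega) (show 0 + 1 + (n + 1) = n + 2 by omega)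
    have e2 := Ext.comp_assoc (kerSC_shortExact π hπ).extClass (Ext.mk₀ (ModuleCat.ofHom κ)) ψ
      (add_zero 1) (zero_add (n + 1)) (show 1 + 0 + (n + 1) = n + 2 by omega)
    exact e1.symm.trans ((congrArg (fun z => z.comp ψ
      (show 1 + (n + 1) = n + 2 by omega)) nat.symm).trans e2)
  constructor
  · intro h Y ψ
    have h1 := assoc Y ψ
    rw [h Y _] at h1
    obtain ⟨x₂, hx₂⟩ := Ext.contravariant_sequence_exact₁ (kerSC_shortExact π hπ) Y
      ((Ext.mk₀ (ModuleCat.ofHom κ)).comp ψ (zero_add (n + 1)))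
      (show 1 + (n + 1) = n + 2 by omega) h1.symm
    have hz : x₂ = 0 := by
      haveI := hP
      exact Ext.eq_zero_of_projective (P := ModuleCat.of R F) x₂
    rw [← hx₂, hz]
    exact Ext.comp_zero _ _ _ _ _
  · intro h Y x
    obtain ⟨ψ, hψ⟩ := Ext.contravariant_sequence_exact₃ (kerSC_shortExact π' hπ') Y x
      (by
        haveI := hP'
        exact Ext.eq_zero_of_projective (P := ModuleCat.of R F') _)
      (show 1 + (n + 1) = n + 2 by omega)
    have h1 := assoc Y ψ
    rw [h Y ψ] at h1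
    rw [← hψ]
    exact h1.trans (Ext.comp_zero _ _ _ _ _)

include hπ hπ' hκ hax in
theorem pTor_shift (hF : Module.Flat R F) (hF' : Module.Flat R F') (n : ℕ) :
    PTor (ModuleCat.ofHom α) (n + 2) ↔ PTor (ModuleCat.ofHom κ) (n + 1) := by
  have nat := fun Y => nat_tor π hπ π' hπ' a α κ hκ hax (n + 1) Y
  haveI : Module.Flat R (kerSC π).X₂ := hF
  haveI : Module.Flat R (kerSC π').X₂ := hF'
  constructor
  · intro h Y
    haveI : IsIso (torδ (kerSC π) (kerSC_shortExact π hπ) (n + 1) Y) :=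
      isIso_torδ _ _ (n + 1) Y
        (isZero_tor_succ_of_flat_left (kerSC π).X₂ Y (n + 1))
        (isZero_tor_succ_of_flat_left (kerSC π).X₂ Y n)
    have h1 := nat Y
    have h2 : ((Tor (ModuleCat.{u} R) (n + 1 + 1)).map (ModuleCat.ofHom α)).app Y = 0 := h Y
    have h3 : torδ (kerSC π) (kerSC_shortExact π hπ) (n + 1) Y ≫
        ((Tor (ModuleCat.{u} R) (n + 1)).map (ModuleCat.ofHom κ)).app Y = 0 := by
      rw [← h1, h2]
      exact zero_comp
    exact (cancel_epi (torδ (kerSC π) (kerSC_shortExact π hπ) (n + 1) Y)).1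
      (h3.trans comp_zero.symm)
  · intro h Y
    haveI : IsIso (torδ (kerSC π') (kerSC_shortExact π' hπ') (n + 1) Y) :=
      isIso_torδ _ _ (n + 1) Y
        (isZero_tor_succ_of_flat_left (kerSC π').X₂ Y (n + 1))
        (isZero_tor_succ_of_flat_left (kerSC π').X₂ Y n)
    have h1 := nat Y
    have h3 : ((Tor (ModuleCat.{u} R) (n + 1 + 1)).map (ModuleCat.ofHom α)).app Y ≫
        torδ (kerSC π') (kerSC_shortExact π' hπ') (n + 1) Y = 0 := by
      rw [h1, h Y]
      exact comp_zero
    exact (cancel_mono (torδ (kerSC π') (kerSC_shortExact π' hπ') (n + 1) Y)).1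
      (h3.trans zero_comp.symm)

end shift

section base

variable {M M' : Type u} [AddCommGroup M] [Module R M] [AddCommGroup M'] [Module R M']

/-- the free presentation `0 → ker → R^(M') → M' → 0`. -/
theorem freePres_shortExact (M' : Type u) [AddCommGroup M'] [Module R M'] :
    (kerSC (lc R M')).ShortExact :=
  kerSC_shortExact (lc R M') (lc_surjective M')

theorem base_tor_of_ext (α : M →ₗ[R] M') (h : PExt (ModuleCat.ofHom α) 1) :
    PTor (ModuleCat.ofHom α) 1 := by
  have hS' := freePres_shortExact (R := R) M'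
  have h1 := h _ hS'.extClass
  obtain ⟨x₂, hx₂⟩ := Ext.covariant_sequence_exact₃ (ModuleCat.of R M) hS'
    (Ext.mk₀ (ModuleCat.ofHom α)) (zero_add 1) h1
  obtain ⟨β, hβ⟩ : ∃ β : ModuleCat.of R M ⟶ ModuleCat.of R (M' →₀ R), Ext.mk₀ β = x₂ :=
    ⟨Ext.homEquiv₀ x₂, Ext.mk₀_homEquiv₀_apply x₂⟩
  have hfac : β ≫ ModuleCat.ofHom (lc R M') =
      ModuleCat.ofHom α := by
    apply (Ext.mk₀_bijective _ _).1
    rw [← Ext.mk₀_comp_mk₀, hβ]
    exact hx₂
  intro Y
  rw [← hfac, Functor.map_comp, NatTrans.comp_app]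
  haveI : Module.Flat R (ModuleCat.of R (M' →₀ R)) :=
    (inferInstance : Module.Flat R (M' →₀ R))
  have hz : IsZero (((Tor (ModuleCat.{u} R) 1).obj (ModuleCat.of R (M' →₀ R))).obj Y) :=
    isZero_tor_succ_of_flat_left (ModuleCat.of R (M' →₀ R)) Y 0
  rw [hz.eq_of_tgt (((Tor (ModuleCat.{u} R) 1).map β).app Y) 0, zero_comp]

theorem base_ext_of_tor [Module.FinitePresentation R M] (α : M →ₗ[R] M')
    (h : PTor (ModuleCat.ofHom α) 1) : PExt (ModuleCat.ofHom α) 1 := by
  obtain ⟨g₀, hg₀'⟩ := factor_through_free α (fun N _ _ => h (ModuleCat.of R N))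
  have hg₀ : α = lc R M' ∘ₗ g₀ := hg₀'
  intro Y x
  haveI : Projective (ModuleCat.of R (M' →₀ R)) :=
    (IsProjective.iff_projective (M' →₀ R)).1 inferInstance
  rw [hg₀, ModuleCat.ofHom_comp, ← Ext.mk₀_comp_mk₀_assoc,
    Ext.eq_zero_of_projective ((Ext.mk₀ (ModuleCat.ofHom
      (lc R M'))).comp x (zero_add 1)), Ext.comp_zero]

end base

section main

variable [IsNoetherianRing R]

theorem main_aux : ∀ (e : ℕ) (M M' : Type u) [AddCommGroup M] [Module R M] [Module.Finite R M]
    [AddCommGroup M'] [Module R M'] (α : M →ₗ[R] M'),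
    PExt (ModuleCat.ofHom α) (e + 1) ↔ PTor (ModuleCat.ofHom α) (e + 1) := by
  intro e
  induction e with
  | zero =>
    intro M M' _ _ _ _ _ α
    haveI : Module.FinitePresentation R M := Module.finitePresentation_of_finite R M
    exact ⟨base_tor_of_ext α, base_ext_of_tor α⟩
  | succ e ih =>
    intro M M' _ _ _ _ _ α
    obtain ⟨n, π, hπ⟩ := Module.Finite.exists_fin' R M
    have hπ' : Function.Surjective (lc R M') := lc_surjective M'
    obtain ⟨a, ha⟩ := Module.projective_lifting_property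
      (lc R M') (α ∘ₗ π) hπ'
    have hax : ∀ v, lc R M' (a v) = α (π v) :=
      fun v => LinearMap.congr_fun ha v
    obtain ⟨κ, hκ⟩ : ∃ κ : LinearMap.ker π →ₗ[R] LinearMap.ker (lc R M'),
        ∀ x, ((κ x : LinearMap.ker (lc R M')) : M' →₀ R) = a x :=
      ⟨(a ∘ₗ (LinearMap.ker π).subtype).codRestrict _ (fun x => by
        change lc R M' (a x) = 0
        rw [hax, (x.2 : π x = 0), map_zero]), fun x => rfl⟩
    have hP : Projective (ModuleCat.of R (Fin n → R)) :=
      (IsProjective.iff_projective (Fin n → R)).1 inferInstance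
    have hP' : Projective (ModuleCat.of R (M' →₀ R)) :=
      (IsProjective.iff_projective (M' →₀ R)).1 inferInstance
    have e1 := pExt_shift π hπ (lc R M') hπ' a α κ hκ hax hP hP' e
    have e2 := pTor_shift π hπ (lc R M') hπ' a α κ hκ hax inferInstance inferInstance e
    haveI : Module.Finite R (LinearMap.ker π) := Module.IsNoetherian.finite R _
    have ih' := ih (LinearMap.ker π) (LinearMap.ker (lc R M')) κ
    exact e1.trans (ih'.trans e2.symm)

theorem main (M M' : Type u) [AddCommGroup M] [Module R M] [Module.Finite R M]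
    [AddCommGroup M'] [Module R M'] (α : M →ₗ[R] M') (e : ℕ) :
    (∀ (N : Type u) [AddCommGroup N] [Module R N]
      (φ : Dual.inD R M' ⟶ (Dual.inD R N)⟦((e : ℤ) + 1)⟧),
      (DerivedCategory.singleFunctor (ModuleCat.{u} R) 0).map (ModuleCat.ofHom α) ≫ φ = 0) ↔
    (∀ (N : Type u) [AddCommGroup N] [Module R N],
      ((CategoryTheory.Tor (ModuleCat.{u} R) (e + 1)).map (ModuleCat.ofHom α)).app
        (ModuleCat.of R N) = 0) := by
  have hm : ((e : ℤ) + 1) = ((e + 1 : ℕ) : ℤ) := by push_cast; rfl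
  have hb := fun Y : ModuleCat.{u} R => bridge (ModuleCat.ofHom α) Y (e + 1) ((e : ℤ) + 1) hm
  constructor
  · intro h N _ _
    refine (main_aux e M M' α).1 ?_ (ModuleCat.of R N)
    intro Y
    exact (hb Y).1 (fun φ => h Y φ)
  · intro h N _ _ φ
    have h1 : PTor (ModuleCat.ofHom α) (e + 1) := fun Y => h Y
    exact (hb (ModuleCat.of R N)).2 ((main_aux e M M' α).2 h1 (ModuleCat.of R N)) φ

end main

end Groth.Agent.ExtTorShift
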