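import Mathlib
import Groth.Prelude.Def_Formal2
import Groth.Prelude.Def_DCoh2
import Groth.Agent.Lib.ExtTower_helper7
import Groth.Agent.Lib.RlimHom_helper2

/-!
# Limits of acyclic towers are derived limits (abstract part) (helper7)
-/

set_option autoImplicit false
universe w' w v u
open CategoryTheory CategoryTheory.Limits Abelian Opposite Pretriangulated DerivedCategory

namespace Groth.Agent.Lib.ExtTower2_helper7

open Groth.Agent.Lib.ExtTower_helper7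

/-! ### A criterion for isomorphisms in a pretriangulated category -/

section tri

variable {T : Type*} [Category* T] [Preadditive T] [HasZeroObject T] [HasShift T ℤ]
  [∀ n : ℤ, (shiftFunctor T n).Additive] [Pretriangulated T]

theorem isIso_of_bij {M N : T} (φ : M ⟶ N) {γ : Type*} (G : γ → T)
    (hdet : ∀ C' : T, (∀ (g : γ) (q : ℤ) (f : G g ⟶ C'⟦q⟧), f = 0) → IsZero C')
    (hbij : ∀ (g : γ) (q : ℤ), Function.Bijective (fun h : G g ⟶ M⟦q⟧ => h ≫ φ⟦q⟧')) :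
    IsIso φ := by
  obtain ⟨C', m2, m3, hdist⟩ := distinguished_cocone_triangle φ
  have h12 : φ ≫ m2 = 0 := comp_distTriang_mor_zero₁₂ _ hdist
  obtain ⟨Tri, hTri⟩ : ∃ Tri : Triangle T, Tri = Triangle.mk φ m2 m3 := ⟨_, rfl⟩
  have hT : Tri ∈ distTriang T := by rw [hTri]; exact hdist
  have hz : IsZero C' := by
    apply hdet
    intro g q f
    have hex3 := (preadditiveCoyoneda.obj (op (G g))).homologySequence_exact₃ Tri hT q (q + 1) rfl
    rw [ShortComplex.ab_exact_iff] at hex3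
    have hδφ := (preadditiveCoyoneda.obj (op (G g))).homologySequenceδ_comp Tri hT q (q + 1) rfl
    subst hTri
    have h1 : ((preadditiveCoyoneda.obj (op (G g))).homologySequenceδ
        (Triangle.mk φ m2 m3) q (q + 1) rfl).hom f = 0 := by
      apply (hbij g (q + 1)).1
      show _ ≫ φ⟦q + 1⟧' = 0 ≫ φ⟦q + 1⟧'
      rw [zero_comp]
      exact congrArg (fun k => k.hom f) hδφ
    obtain ⟨x₀, hx⟩ := hex3 f h1
    obtain ⟨x, hxx⟩ : ∃ x : G g ⟶ N⟦q⟧, x = x₀ := ⟨x₀, rfl⟩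
    have hx' : x ≫ m2⟦q⟧' = f := by rw [hxx]; exact hx
    obtain ⟨y, hy⟩ := (hbij g q).2 x
    have hy' : y ≫ φ⟦q⟧' = x := hy
    have hf : f = (y ≫ φ⟦q⟧') ≫ m2⟦q⟧' := by rw [hy', hx']
    rw [hf, Category.assoc, ← Functor.map_comp, h12, Functor.map_zero, comp_zero]
  exact (Triangle.isZero₃_iff_isIso₁ _ hdist).1 hz

end tri

variable {𝒜 : Type u} [Category.{v} 𝒜] [Abelian 𝒜] [HasExt.{w} 𝒜]

/-! ### The vanishing statement -/

section vanish

variable [HasProductsOfShape ℕ 𝒜] (F : ℕᵒᵖ ⥤ 𝒜) [HasLimit F]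

lemma cmp_D (A : 𝒜) (m : ℕ) (x : Ext.{w} A (∏ᶜ Fo F) m) (n : ℕ) :
    (x.comp (Ext.mk₀ (D F)) (add_zero m)).comp (Ext.mk₀ (Pi.π (Fo F) n)) (add_zero m) =
      x.comp (Ext.mk₀ (Pi.π (Fo F) n)) (add_zero m) -
        (x.comp (Ext.mk₀ (Pi.π (Fo F) (n + 1))) (add_zero m)).comp (Ext.mk₀ (tr F n))
          (add_zero m) := by
  rw [Ext.comp_assoc_of_third_deg_zero, Ext.mk₀_comp_mk₀, D_π, mk₀_sub, comp_sub',
    ← Ext.mk₀_comp_mk₀, ← Ext.comp_assoc_of_third_deg_zero]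

/-- the tower sequence is short exact as soon as `lim¹` of the `Hom(Gf k, F_n)` vanish -/
lemma towerSC_shortExact' {κ : Type*} (Gf : κ → 𝒜)
    (hgen : ∀ ⦃M N : 𝒜⦄ (f : M ⟶ N),
      (∀ (k : κ) (g : Gf k ⟶ N), ∃ g' : Gf k ⟶ M, g' ≫ f = g) → Epi f)
    (hlim : ∀ (k : κ) (g : ∀ n : ℕ, Gf k ⟶ F.obj (op n)),
      ∃ x : ∀ n : ℕ, Gf k ⟶ F.obj (op n), ∀ n, x n - x (n + 1) ≫ tr F n = g n) :
    (ShortComplex.mk (incl F) (D F) (incl_D F)).ShortExact := by
  haveI : Mono (incl F) := ⟨fun a b h => limit.hom_ext (fun j => by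
    have := congrArg (fun φ => φ ≫ Pi.π (Fo F) j.unop) h
    simpa only [Category.assoc, incl_π, Opposite.op_unop] using this)⟩
  haveI : Epi (D F) := by
    apply hgen
    intro k g
    obtain ⟨x, hx⟩ := hlim k (fun n => g ≫ Pi.π (Fo F) n)
    refine ⟨Pi.lift x, Pi.hom_ext _ _ (fun n => ?_)⟩
    rw [Category.assoc, D_π, Preadditive.comp_sub, Pi.lift_π, ← Category.assoc, Pi.lift_π]
    exact hx n
  refine ShortComplex.ShortExact.mk' ?_ (inferInstanceAs (Mono (incl F)))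
    (inferInstanceAs (Epi (D F)))
  refine ShortComplex.exact_of_f_is_kernel _ (KernelFork.IsLimit.ofι' _ _ (fun {W} k hk => ?_))
  refine ⟨limit.lift F (coneOf F k hk), Pi.hom_ext _ _ (fun n => ?_)⟩
  rw [Category.assoc]
  erw [incl_π, limit.lift_π]
  rfl

theorem vanish (hT : (ShortComplex.mk (incl F) (D F) (incl_D F)).ShortExact) (A : 𝒜) (p : ℕ)
    (cbp : Function.Bijective (cmp.{w} (Fo F) A p))
    (cbp1 : Function.Bijective (cmp.{w} (Fo F) A (p + 1)))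
    (hA : ∀ (n : ℕ) (x : Ext.{w} A (F.obj (op n)) (p + 1)), x = 0)
    (hlim : ∀ y : ∀ n : ℕ, Ext.{w} A (F.obj (op n)) p, ∃ x : ∀ n : ℕ, Ext.{w} A (F.obj (op n)) p,
      ∀ n, x n - (x (n + 1)).comp (Ext.mk₀ (tr F n)) (add_zero p) = y n)
    (η : Ext.{w} A (limit F) (p + 1)) : η = 0 := by
  have h0 : η.comp (Ext.mk₀ (incl F)) (add_zero (p + 1)) = 0 := by
    apply cbp1.1
    funext n
    exact (hA n _).trans (hA n _).symm
  obtain ⟨y, rfl⟩ := Ext.covariant_sequence_exact₁ A hT η h0 (rfl : p + 1 = p + 1)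
  obtain ⟨x, hx⟩ := hlim (cmp (Fo F) A p y)
  obtain ⟨xx, hxx⟩ := cbp.2 x
  have hy : y = xx.comp (Ext.mk₀ (D F)) (add_zero p) := by
    apply cbp.1
    funext n
    rw [← hx n, cmp_apply, cmp_D, ← cmp_apply, ← cmp_apply, hxx]
  rw [hy, Ext.comp_assoc_of_second_deg_zero, hT.comp_extClass, Ext.comp_zero]

end vanish

/-! ### The derived category part -/

section der

variable [HasDerivedCategory.{w'} 𝒜]

lemma comp_mk₀_hom {A B B' : 𝒜} {i : ℕ} (x : Ext.{w} A B i) (ψ : B ⟶ B') :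
    (x.comp (Ext.mk₀ ψ) (add_zero i)).hom =
      x.hom ≫ ((singleFunctor 𝒜 0).map ψ)⟦(i : ℤ)⟧' := by
  rw [Ext.comp_hom, Ext.mk₀_hom, ShiftedHom.comp_mk₀]

variable (Fam : ℕ → 𝒜) [HasProduct Fam] [HasProduct fun n => (singleFunctor 𝒜 0).obj (Fam n)]

/-- the singles of the family -/
noncomputable abbrev Kd : ℕ → DerivedCategory 𝒜 := fun n => (singleFunctor 𝒜 0).obj (Fam n)

/-- the comparison from the single of the product to the product of the singles -/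
noncomputable def phi : (singleFunctor 𝒜 0).obj (∏ᶜ Fam) ⟶ ∏ᶜ (Kd Fam) :=
  Pi.lift (fun n => (singleFunctor 𝒜 0).map (Pi.π Fam n))

omit [HasExt.{w} 𝒜] in
lemma phi_π (n : ℕ) : phi Fam ≫ Pi.π (Kd Fam) n = (singleFunctor 𝒜 0).map (Pi.π Fam n) := by
  simp [phi]

omit [HasExt.{w} 𝒜] in
lemma phi_π_shift (q : ℤ) (n : ℕ) :
    (phi Fam)⟦q⟧' ≫ (Pi.π (Kd Fam) n)⟦q⟧' = ((singleFunctor 𝒜 0).map (Pi.π Fam n))⟦q⟧' := by
  rw [← Functor.map_comp, phi_π]

theorem phi_bij [HasProductsOfShape ℕ 𝒜] (A : 𝒜)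
    (hc : ∀ i, Function.Bijective (cmp.{w} Fam A i)) (q : ℤ) :
    Function.Bijective
      (fun h : (singleFunctor 𝒜 0).obj A ⟶ ((singleFunctor 𝒜 0).obj (∏ᶜ Fam))⟦q⟧ =>
        h ≫ (phi Fam)⟦q⟧') := by
  rcases lt_or_ge q 0 with hq | hq
  · have hz : ∀ (B : 𝒜) (h : (singleFunctor 𝒜 0).obj A ⟶ ((singleFunctor 𝒜 0).obj B)⟦q⟧),
        h = 0 := by
      intro B h
      haveI : TStructure.t.IsGE (((singleFunctor 𝒜 0).obj B)⟦q⟧) (-q) :=
        TStructure.t.isGE_shift _ 0 q (-q) (by omega)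
      exact TStructure.t.zero h 0 (-q) (by omega)
    constructor
    · intro h h' _
      rw [hz _ h, hz _ h']
    · intro k
      refine ⟨0, ?_⟩
      dsimp only
      apply Groth.Agent.Lib.RlimHom.shift_pi_hom_ext (Kd Fam) q
      intro n
      rw [zero_comp, zero_comp]
      exact (hz _ _).symm
  · obtain ⟨i, rfl⟩ := Int.eq_ofNat_of_zero_le hq
    constructor
    · intro h h' hh
      obtain ⟨x, rfl⟩ := Ext.homEquiv.surjective h
      obtain ⟨x', rfl⟩ := Ext.homEquiv.surjective h'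
      congr 1
      apply (hc i).1
      funext n
      apply Ext.ext
      rw [cmp_apply, cmp_apply, comp_mk₀_hom, comp_mk₀_hom, ← phi_π_shift, ← Category.assoc,
        ← Category.assoc]
      exact congrArg (fun k => k ≫ (Pi.π (Kd Fam) n)⟦(i : ℤ)⟧') hh
    · intro k
      obtain ⟨x, hx⟩ := (hc i).2
        (fun n => Ext.homEquiv.symm (k ≫ (Pi.π (Kd Fam) n)⟦(i : ℤ)⟧'))
      refine ⟨x.hom, ?_⟩
      dsimp only
      apply Groth.Agent.Lib.RlimHom.shift_pi_hom_ext (Kd Fam) (i : ℤ)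
      intro n
      rw [Category.assoc, phi_π_shift, ← comp_mk₀_hom, ← cmp_apply, hx]
      exact Ext.homEquiv.apply_symm_apply _

end der

section rlim

variable [HasDerivedCategory.{w'} 𝒜] [HasProductsOfShape ℕ 𝒜] (F : ℕᵒᵖ ⥤ 𝒜) [HasLimit F]
  [HasProduct fun n : ℕ => (singleFunctor 𝒜 0).obj (F.obj (op n))]

omit [HasExt.{w} 𝒜] in
theorem isRlim_tower (hT : (ShortComplex.mk (incl F) (D F) (incl_D F)).ShortExact)
    (hφ : IsIso (phi (Fo F))) :
    DCoh.IsRlim (fun n : ℕ => (singleFunctor 𝒜 0).obj (F.obj (op n)))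
      (fun n => (singleFunctor 𝒜 0).map (tr F n)) ((singleFunctor 𝒜 0).obj (limit F)) := by
  haveI := hφ
  have hcomm : phi (Fo F) ≫ (Pi.lift fun n => Pi.π (Kd (Fo F)) n -
      Pi.π (Kd (Fo F)) (n + 1) ≫ (singleFunctor 𝒜 0).map (tr F n)) =
      (singleFunctor 𝒜 0).map (D F) ≫ phi (Fo F) := by
    refine Pi.hom_ext _ _ (fun n => ?_)
    rw [Category.assoc, Pi.lift_π, Preadditive.comp_sub, phi_π, ← Category.assoc, phi_π,
      Category.assoc, phi_π, ← Functor.map_comp, ← Functor.map_comp, D_π, Functor.map_sub]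
  have hc1 : ((singleFunctor 𝒜 0).map (incl F) ≫ phi (Fo F)) ≫ inv (phi (Fo F)) =
      𝟙 _ ≫ (singleFunctor 𝒜 0).map (incl F) := by simp
  have hc2 : (Pi.lift fun n => Pi.π (Kd (Fo F)) n -
      Pi.π (Kd (Fo F)) (n + 1) ≫ (singleFunctor 𝒜 0).map (tr F n)) ≫ inv (phi (Fo F)) =
      inv (phi (Fo F)) ≫ (singleFunctor 𝒜 0).map (D F) := by
    rw [← cancel_epi (phi (Fo F)), ← Category.assoc, hcomm, Category.assoc, IsIso.hom_inv_id,
      Category.comp_id, IsIso.hom_inv_id_assoc]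
  have hc3 : (inv (phi (Fo F)) ≫ hT.singleδ) ≫
      (𝟙 ((singleFunctor 𝒜 0).obj (limit F)))⟦(1 : ℤ)⟧' = inv (phi (Fo F)) ≫ hT.singleδ := by
    simp
  refine ⟨(singleFunctor 𝒜 0).map (incl F) ≫ phi (Fo F), inv (phi (Fo F)) ≫ hT.singleδ, ?_⟩
  refine isomorphic_distinguished _ hT.singleTriangle_distinguished _ ?_
  exact Triangle.isoMk _ _ (Iso.refl _) (asIso (phi (Fo F))).symm (asIso (phi (Fo F))).symm
    hc1 hc2 hc3

end rlim

end Groth.Agent.Lib.ExtTower2_helper7
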