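import Mathlib
import Groth.Prelude.Def_CohSite
import Groth.Prelude.Def_CohTop
import Groth.Prelude.Def_CohCx
import Groth.Prelude.Def_FreeSh
import Groth.Prelude.Def_DCoh2
import Groth.Agent.Lib.ExtTower2_helper7
import Groth.Agent.Lib.HDSheaf_helper7

/-!
# The limit of an acyclic tower of abelian sheaves on a site is a derived limit (helper7)
-/

set_option autoImplicit false
universe u
open CategoryTheory CategoryTheory.Limits Abelian Opposite DerivedCategory TopologicalSpace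

namespace Groth.Agent.Lib.ExtTowerSite_helper7

open Groth.Agent.Lib.ExtTower_helper7 Groth.Agent.Lib.ExtTower2_helper7

variable {C : Type u} [SmallCategory C] {J : GrothendieckTopology C}

/-- the free abelian sheaf on an object -/
noncomputable abbrev Z (U : C) : Sheaf J AddCommGrpCat.{u} := CohCx.freeSheaf J U

lemma evalGen_comp {V : C} {M N : Sheaf J AddCommGrpCat.{u}} (g : Z V ⟶ M) (f : M ⟶ N) :
    CohFree.evalGen J V N (g ≫ f) = (f.hom.app (op V)).hom (CohFree.evalGen J V M g) := rfl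

lemma gen_site (B : Set C)
    (hB : ∀ U : C, ∃ (ι : Type u) (Y : ι → C) (f : ∀ i, Y i ⟶ U),
      Sieve.ofArrows Y f ∈ J U ∧ ∀ i, Y i ∈ B) :
    ∀ ⦃M N : Sheaf J AddCommGrpCat.{u}⦄ (f : M ⟶ N),
      (∀ (k : {V : C // V ∈ B}) (g : Z k.1 ⟶ N), ∃ g' : Z k.1 ⟶ M, g' ≫ f = g) → Epi f := by
  intro M N f h
  haveI : Presheaf.IsLocallySurjective J f.hom := by
    refine ⟨fun {U} s => ?_⟩
    obtain ⟨ι, Y, fY, hcov, hYB⟩ := hB U
    refine J.superset_covering ?_ hcov
    intro V g hg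
    obtain ⟨i, a, rfl⟩ := (Sieve.mem_ofArrows_iff _ _ g).1 hg
    refine Sieve.downward_closed _ ?_ a
    obtain ⟨g', hg'⟩ := h ⟨Y i, hYB i⟩ (CohFree.ofSect J (Y i) N ((N.obj.map (fY i).op).hom s))
    refine ⟨CohFree.evalGen J (Y i) M g', ?_⟩
    have h2 := congrArg (CohFree.evalGen J (Y i) N) hg'
    rw [CohFree.evalGen_ofSect, evalGen_comp] at h2
    exact h2
  exact (Sheaf.isLocallySurjective_iff_epi' _ f).1 inferInstance

lemma hom_limone (F : ℕ → Sheaf J AddCommGrpCat.{u}) (t : ∀ n, F (n + 1) ⟶ F n) (U : C)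
    (h2 : CohCx.LimOneIsZero (fun n => (F n).obj.obj (op U))
      (fun n => ((t n).hom.app (op U)).hom))
    (g : ∀ n, Z U ⟶ F n) : ∃ x : ∀ n, Z U ⟶ F n, ∀ n, x n - x (n + 1) ≫ t n = g n := by
  obtain ⟨a, ha⟩ := h2 (fun n => CohFree.evalGen J U (F n) (g n))
  refine ⟨fun n => CohFree.ofSect J U (F n) (a n), fun n => ?_⟩
  apply (CohFree.homEquivSect J U (F n)).injective
  rw [CohFree.homEquivSect_apply, CohFree.homEquivSect_apply, map_sub, evalGen_comp,
    CohFree.evalGen_ofSect, CohFree.evalGen_ofSect]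
  exact congrFun ha n

lemma hdet [HasDerivedCategory.{u} (Sheaf J AddCommGrpCat.{u})]
    (C' : DerivedCategory (Sheaf J AddCommGrpCat.{u}))
    (h : ∀ (U : C) (q : ℤ)
      (f : (singleFunctor (Sheaf J AddCommGrpCat.{u}) 0).obj (Z U) ⟶ C'⟦q⟧), f = 0) :
    IsZero C' := by
  have hH : ∀ q : ℤ, IsZero ((homologyFunctor (Sheaf J AddCommGrpCat.{u}) q).obj C') := by
    intro q
    obtain ⟨e⟩ := Groth.Agent.Lib.HDSheaf_helper7.main C' q
    refine IsZero.of_iso ?_ e.symm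
    apply Functor.map_isZero
    apply Functor.isZero
    intro V
    haveI : Subsingleton ((CohCx.HDUPresheaf C' q).obj V) :=
      ⟨fun a b => (h V.unop q a).trans (h V.unop q b).symm⟩
    exact AddCommGrpCat.isZero_of_subsingleton _
  haveI : C'.IsLE 0 := (DerivedCategory.isLE_iff C' 0).2 (fun i _ => hH i)
  haveI : C'.IsGE 1 := (DerivedCategory.isGE_iff C' 1).2 (fun i _ => hH i)
  exact TStructure.t.isZero C' 0 1

theorem main0879 [HasDerivedCategory.{u} (Sheaf J AddCommGrpCat.{u})]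
    (F : ℕ → Sheaf J AddCommGrpCat.{u}) (t : ∀ n, F (n + 1) ⟶ F n)
    [HasProduct fun n => (DerivedCategory.singleFunctor (Sheaf J AddCommGrpCat.{u}) 0).obj (F n)]
    (B : Set C)
    (hB : ∀ U : C, ∃ (ι : Type u) (Y : ι → C) (f : ∀ i, Y i ⟶ U),
      Sieve.ofArrows Y f ∈ J U ∧ ∀ i, Y i ∈ B)
    (h1 : ∀ U ∈ B, ∀ (p n : ℕ), Subsingleton (CohSite.HU (F n) (p + 1) U))
    (h2 : ∀ U ∈ B, CohCx.LimOneIsZero (fun n => (F n).obj.obj (op U))
      (fun n => ((t n).hom.app (op U)).hom)) :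
    DCoh.IsRlim (fun n => (DerivedCategory.singleFunctor _ 0).obj (F n))
      (fun n => (DerivedCategory.singleFunctor _ 0).map (t n))
      ((DerivedCategory.singleFunctor _ 0).obj (limit (CohCx.opSequence F t))) ∧
    ∀ U ∈ B, ∀ p : ℕ, Subsingleton (CohSite.HU (limit (CohCx.opSequence F t)) (p + 1) U) := by
  obtain ⟨Ft, hFt⟩ : ∃ Ft : ℕᵒᵖ ⥤ Sheaf J AddCommGrpCat.{u}, Ft = CohCx.opSequence F t :=
    ⟨_, rfl⟩
  have etr : ∀ n, tr (CohCx.opSequence F t) n = t n := fun n =>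
    Functor.ofOpSequence_map_homOfLE_succ t n
  let Gf : {V : C // V ∈ B} → Sheaf J AddCommGrpCat.{u} := fun k => Z k.1
  have hgen := gen_site (J := J) B hB
  have hacy : ∀ (n : ℕ) (k : {V : C // V ∈ B}) (m : ℕ)
      (x : Ext (Gf k) ((CohCx.opSequence F t).obj (op n)) (m + 1)), x = 0 :=
    fun n k m x => @Subsingleton.elim _ (h1 k.1 k.2 m n) x 0
  have hlim : ∀ (k : {V : C // V ∈ B}) (g : ∀ n : ℕ, Gf k ⟶ (CohCx.opSequence F t).obj (op n)),
      ∃ x : ∀ n : ℕ, Gf k ⟶ (CohCx.opSequence F t).obj (op n),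
        ∀ n, x n - x (n + 1) ≫ tr (CohCx.opSequence F t) n = g n := by
    intro k g
    obtain ⟨x, hx⟩ := hom_limone F t k.1 (h2 k.1 k.2) g
    exact ⟨x, fun n => by rw [etr]; exact hx n⟩
  have hT := towerSC_shortExact' (CohCx.opSequence F t) Gf hgen hlim
  have cb : ∀ (A : Sheaf J AddCommGrpCat.{u}) (i : ℕ),
      Function.Bijective (cmp (Fo (CohCx.opSequence F t)) A i) := fun A i =>
    cmp_bijective (ι := ℕ) Gf hgen A i (Fo (CohCx.opSequence F t)) hacy
  constructor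
  · haveI : HasProduct fun n : ℕ => (singleFunctor (Sheaf J AddCommGrpCat.{u}) 0).obj
        ((CohCx.opSequence F t).obj (op n)) :=
      ‹HasProduct fun n => (singleFunctor (Sheaf J AddCommGrpCat.{u}) 0).obj (F n)›
    have hφ : IsIso (phi (Fo (CohCx.opSequence F t))) :=
      isIso_of_bij (phi (Fo (CohCx.opSequence F t)))
        (fun U : C => (singleFunctor (Sheaf J AddCommGrpCat.{u}) 0).obj (Z U))
        (fun C' h => hdet C' h)
        (fun U q => phi_bij (Fo (CohCx.opSequence F t)) (Z U) (cb (Z U)) q)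
    have h := isRlim_tower (CohCx.opSequence F t) hT hφ
    simp only [etr] at h
    exact h
  · intro U hU p
    have hl : ∀ y : ∀ n : ℕ, Ext (Z U) ((CohCx.opSequence F t).obj (op n)) p,
        ∃ x : ∀ n : ℕ, Ext (Z U) ((CohCx.opSequence F t).obj (op n)) p,
          ∀ n, x n - (x (n + 1)).comp (Ext.mk₀ (tr (CohCx.opSequence F t) n)) (add_zero p) =
            y n := by
      intro y
      cases p with
      | zero =>
        choose g hg using fun n => (Ext.mk₀_bijective _ _).2 (y n)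
        obtain ⟨x, hx⟩ := hom_limone F t U (h2 U hU) g
        refine ⟨fun n => Ext.mk₀ (x n), fun n => ?_⟩
        rw [Ext.mk₀_comp_mk₀, ← mk₀_sub, etr]
        exact (congrArg Ext.mk₀ (hx n)).trans (hg n)
      | succ m =>
        exact ⟨fun n => 0, fun n => @Subsingleton.elim _ (h1 U hU m n) _ _⟩
    have key : ∀ η : Ext (Z U) (limit (CohCx.opSequence F t)) (p + 1), η = 0 :=
      vanish (CohCx.opSequence F t) hT (Z U) p (cb _ p) (cb _ (p + 1))
        (fun n x => @Subsingleton.elim _ (h1 U hU p n) x 0) hl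
    exact ⟨fun a b => (key a).trans (key b).symm⟩

theorem main0870 {X : TopCat.{u}} [HasDerivedCategory.{u} (CohTop.Ab X)]
    (F : ℕ → CohTop.Ab X) (t : ∀ n, F (n + 1) ⟶ F n)
    [HasProduct fun n => (DerivedCategory.singleFunctor (CohTop.Ab X) 0).obj (F n)]
    (B : Set (Opens X)) (hB : Opens.IsBasis B)
    (h1 : ∀ U ∈ B, ∀ (p n : ℕ), Subsingleton (CohTop.HU (F n) (p + 1) U))
    (h2 : ∀ U ∈ B, CohCx.LimOneIsZero (fun n => (F n).obj.obj (op U))
      (fun n => ((t n).hom.app (op U)).hom)) :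
    DCoh.IsRlim (fun n => (DerivedCategory.singleFunctor (CohTop.Ab X) 0).obj (F n))
      (fun n => (DerivedCategory.singleFunctor (CohTop.Ab X) 0).map (t n))
      ((DerivedCategory.singleFunctor (CohTop.Ab X) 0).obj (limit (CohCx.opSequence F t))) ∧
    ∀ U ∈ B, ∀ p : ℕ, Subsingleton (CohTop.HU (limit (CohCx.opSequence F t)) (p + 1) U) := by
  have hB' : ∀ U : Opens X, ∃ (ι : Type u) (Y : ι → Opens X) (f : ∀ i, Y i ⟶ U),
      Sieve.ofArrows Y f ∈ Opens.grothendieckTopology X U ∧ ∀ i, Y i ∈ B := by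
    intro U
    refine ⟨{V : Opens X // V ∈ B ∧ V ≤ U}, fun V => V.1, fun V => homOfLE V.2.2, ?_,
      fun V => V.2.1⟩
    intro x hx
    obtain ⟨V, hVB, hxV, hVU⟩ := Opens.isBasis_iff_nbhd.mp hB hx
    exact ⟨V, homOfLE hVU,
      Sieve.ofArrows_mk _ _ (⟨V, hVB, hVU⟩ : {V : Opens X // V ∈ B ∧ V ≤ U}), hxV⟩
  exact main0879 F t B hB' h1 h2

end Groth.Agent.Lib.ExtTowerSite_helper7
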