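import Mathlib
import Groth.Prelude
import Groth.Agent.Lib.SuppTensor_helper2
import Groth.Agent.Lib.ExtShCoh1_helper2
import Groth.Agent.Lib.CohLoc_helper8

/-!
# Local Ext sheaves with supports `ℰxt^i_Y(F, G)` when `F` is supported in `Y` (helper2)
APPEND-ONLY once landed.
-/

set_option autoImplicit false
set_option linter.style.haveILetI false
universe u
open CategoryTheory CategoryTheory.Limits Opposite AlgebraicGeometry TopologicalSpace

namespace Groth.Agent.Lib.ExtZCohH2
open ModSite Groth.Agent.Lib.ModSiteH8 Groth.Agent.Lib.Supp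

section Site

variable {C : Type u} [SmallCategory C] {J : GrothendieckTopology C}
variable (O : Sheaf J CommRingCat.{u}) (U : C) [HasPushOver O U]

/-- internal hom out of a zero module is zero -/
lemma isZero_sheafHom_of_isZero (M N : Mod O) [HasSheafHom M] (hM : IsZero M) :
    IsZero ((sheafHom M).obj N) := by
  rw [IsZero.iff_id_eq_zero]
  apply ((sheafHomAdj M).homEquiv _ _).symm.injective
  have hz : IsZero (((tensorBi O).flip.obj M).obj ((sheafHom M).obj N)) :=
    ((tensorBi O).obj ((sheafHom M).obj N)).map_isZero hM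
  exact hz.eq_of_src _ _

/-- if `M` is null on `U`, so is `ℋom(M, N)` -/
lemma isZero_restr_sheafHom_of_left (M N : Mod O) [HasSheafHom M]
    (hM : IsZero ((restr O U).obj M)) :
    IsZero ((restr O U).obj ((sheafHom M).obj N)) := by
  haveI := hasSheafHom (O.over U) ((restr O U).obj M)
  obtain ⟨e⟩ := restr_sheafHom_iso O U M N
  exact IsZero.of_iso (isZero_sheafHom_of_isZero (O.over U) _ _ hM) e

/-- `Γ_Z(H) = H` when `H` is null on `U` -/
lemma isIso_sectOnι_of_isZero_restr (H : Mod O) (hH : IsZero ((restr O U).obj H)) :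
    IsIso ((sectOnι O U).app H) := by
  have hz : IsZero ((pushOver O U).obj ((restr O U).obj H)) := by
    haveI : (pushOver O U).Additive := (restrPushOverAdj O U).right_adjoint_additive
    exact (pushOver O U).map_isZero hH
  show IsIso (kernel.ι ((restrPushOverAdj O U).unit.app H))
  exact kernel.ι_of_zero (hz.eq_of_tgt _ _)

/-- when `M` is null on `U`, `Γ_Z ∘ ℋom(M, -) ≅ ℋom(M, -)` -/
noncomputable def sheafHomSectOnIso (M : Mod O) [HasSheafHom M]
    (hM : IsZero ((restr O U).obj M)) :
    sheafHom M ⋙ sectOn O U ≅ sheafHom M :=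
  haveI : ∀ N, IsIso ((Functor.whiskerLeft (sheafHom M) (sectOnι O U)).app N) := fun N =>
    isIso_sectOnι_of_isZero_restr O U _ (isZero_restr_sheafHom_of_left O U M N hM)
  haveI : IsIso (Functor.whiskerLeft (sheafHom M) (sectOnι O U)) := NatIso.isIso_of_isIso_app _
  asIso (Functor.whiskerLeft (sheafHom M) (sectOnι O U)) ≪≫ Functor.rightUnitor _

/-- `ℰxt^q_Z(M, -) ≅ ℰxt^q(M, -)` when `M` is null on `U` -/
theorem nonempty_extZSh_iso [HasInjectiveResolutions (Mod O)] (M : Mod O) [HasSheafHom M]
    (hM : IsZero ((restr O U).obj M)) (q : ℕ) : Nonempty (extZSh U M q ≅ extSh M q) :=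
  ⟨ExtDer.rightDerivedIso (sheafHomSectOnIso O U M hM) q⟩

end Site

section Scheme

variable {X : Scheme.{u}}

/-- a module whose support misses `U` is null on `U` (site-level restriction) -/
theorem isZero_restr_of_support (U : X.Opens) (F : X.Modules)
    (hsupp : ∀ x ∈ CohB1.support F, x ∉ (U : Set X)) :
    IsZero ((restr X.sheaf U).obj F) := by
  rw [IsZero.iff_id_eq_zero, ← CategoryTheory.Functor.map_id]
  rw [restr_map_eq_zero_iff]
  intro V g x
  have hVU : V ≤ U := leOfHom g
  exact CohLocH8.section_eq_zero_of_notMem_support F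
    (fun y hy hys => hsupp y hys (hVU hy)) x

/-- **S12880** -/
theorem isCoh_extZSh_of_support [IsLocallyNoetherian X] (U : X.Opens)
    (F G : X.Modules) (hF : Coh.IsCoh F) (hG : Coh.IsCoh G)
    (hsupp : ∀ x ∈ CohB1.support F, x ∉ (U : Set X))
    [ModSite.HasSheafHom (O := X.sheaf) F] [HasInjectiveResolutions (ModSite.Mod X.sheaf)] (i : ℕ) :
    Coh.IsCoh ((ModSite.extZSh (O := X.sheaf) U F i).obj G) := by
  obtain ⟨e⟩ := nonempty_extZSh_iso X.sheaf U F (isZero_restr_of_support U F hsupp) i
  exact Groth.Agent.Lib.RelPCPropH3.isCoh_of_iso (e.app G)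
    (Groth.Agent.Lib.ExtShCohH2.isCoh_extSh i X F G hF hG)

end Scheme

end Groth.Agent.Lib.ExtZCohH2
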