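import Mathlib
import Groth.Prelude.Def_ProEtS
import Groth.Agent.Lib.WCSite1_helper3

/-!
# Vanishing of `j_!` on the pro-étale site near a disjoint closed subscheme (helper3)
-/

set_option autoImplicit false
set_option linter.all false
set_option maxHeartbeats 1600000
universe u

open AlgebraicGeometry CategoryTheory Limits Opposite TopologicalSpace

namespace Groth.Agent.Lib.ExtZeroVanishH3

open Groth.Agent.Lib.WCSiteH3

/-- A pointwise left Kan extension vanishes at objects with empty comma category. -/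
theorem isZero_leftKanExtension_obj {C D H : Type*} [Category C] [Category D] [Category H]
    [HasZeroObject H] (L : C ⥤ D) (F : C ⥤ H) [L.HasPointwiseLeftKanExtension F] (Y : D)
    [IsEmpty (CostructuredArrow L Y)] : IsZero ((L.leftKanExtension F).obj Y) := by
  refine IsZero.of_iso ?_ (L.leftKanExtensionObjIsoColimit F Y)
  have t : IsInitial (colimit (CostructuredArrow.proj L Y ⋙ F)) :=
    (isColimitEquivIsInitialOfIsEmpty _ _) (colimit.isColimit _)
  exact IsZero.of_iso (isZero_zero H) (HasZeroObject.zeroIsoIsInitial t).symm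

/-- Finite jointly surjective families of quasi-compact morphisms are pro-étale coverings. -/
theorem ofArrows_mem_topology_of_finite {X : Scheme.{u}} {ι : Type*} [Finite ι] {V : X.ProEt}
    (W : ι → X.ProEt) (g : ∀ l, W l ⟶ V) (hqc : ∀ l, QuasiCompact (g l).left)
    (hcov : ∀ x : V.left, ∃ l, x ∈ Set.range (g l).left) :
    Sieve.generate (Presieve.ofArrows W g) ∈ Scheme.ProEt.topology X V := by
  apply Precoverage.generate_mem_toGrothendieck
  show Presieve.ofArrows _ _ ∈ (Scheme.proetalePrecoverage.comap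
      (Scheme.ProEt.forget X ⋙ Over.forget X)) V
  rw [Precoverage.mem_comap_iff, Presieve.map_ofArrows]
  refine ⟨?_, ?_⟩
  · let E : PreZeroHypercover V.left :=
      { I₀ := ι
        X := fun l => (W l).left
        f := fun l => (g l).left }
    show E.presieve₀ ∈ Scheme.qcPrecoverage V.left
    rw [Scheme.presieve₀_mem_qcPrecoverage_iff]
    constructor
    intro T hT
    refine .of_finite_of_isSpectralMap (fun l => (E.f l).isSpectralMap) ?_ T.2 hT.isCompact
    exact fun x _ => hcov x
  · show Presieve.ofArrows _ _ ∈ Scheme.precoverage @WeaklyEtale V.left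
    rw [Scheme.ofArrows_mem_precoverage_iff]
    exact ⟨hcov, fun l => weaklyEtale_left (g l)⟩

/-- Sections of the sheafification of a presheaf which vanishes on enough members of every
covering vanish. -/
theorem subsingleton_sheafify {X : Scheme.{u}} (P : X.ProEtᵒᵖ ⥤ AddCommGrpCat.{u+1})
    (V : X.ProEt) (good : X.ProEt → Prop) (h0 : ∀ W, good W → Subsingleton (P.obj (op W)))
    (hcov : ∀ S ∈ Scheme.ProEt.topology X V, ∃ (ι : Type) (W : ι → X.ProEt) (g : ∀ l, W l ⟶ V),
      (∀ l, S (g l)) ∧ (∀ l, good (W l)) ∧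
      Sieve.generate (Presieve.ofArrows W g) ∈ Scheme.ProEt.topology X V) :
    Subsingleton (((presheafToSheaf (Scheme.ProEt.topology X) AddCommGrpCat.{u+1}).obj P).obj.obj
      (op V)) := by
  set Q := (presheafToSheaf (Scheme.ProEt.topology X) AddCommGrpCat.{u+1}).obj P with hQ
  suffices h : ∀ s : Q.obj.obj (op V), s = 0 from ⟨fun a b => (h a).trans (h b).symm⟩
  intro s
  have hS := Presheaf.imageSieve_mem (Scheme.ProEt.topology X)
    (toSheafify (Scheme.ProEt.topology X) P) (U := op V) s
  obtain ⟨ι, W, g, hSg, hgood, hgen⟩ := hcov _ hS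
  refine Sheaf.isSeparated Q V _ hgen s 0 ?_
  rintro Y f ⟨Y', h, g', hg', rfl⟩
  obtain ⟨l⟩ := hg'
  obtain ⟨t, ht⟩ := hSg l
  haveI := h0 _ (hgood l)
  have ht0 : t = 0 := Subsingleton.elim _ _
  have h1 : Q.obj.map (g l).op s = 0 := by
    rw [← ht, ht0, map_zero]
  rw [op_comp, Functor.map_comp, ConcreteCategory.comp_apply, h1, map_zero, map_zero]

/-- The geometric input: every covering of `V` contains a finite covering family all of whose
members have a point over `Z`. -/
theorem exists_good_cover {X Z : Scheme.{u}} (i : Z ⟶ X) (V : X.ProEt) [IsAffine V.left]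
    (hV : ∀ v : ↥V.left, ∃ z : ↥V.left, V.hom.base z ∈ Set.range i.base ∧ v ⤳ z)
    (S : Sieve V) (hS : S ∈ Scheme.ProEt.topology X V) :
    ∃ (ι : Type) (W : ι → X.ProEt) (g : ∀ l, W l ⟶ V),
      (∀ l, S (g l)) ∧ (∀ l, ∃ w : ↥(W l).left, (W l).hom.base w ∈ Set.range i.base) ∧
      Sieve.generate (Presieve.ofArrows W g) ∈ Scheme.ProEt.topology X V := by
  obtain ⟨n, W, g, hWaff, hSg, hcov⟩ := exists_finite_affine V S hS
  let ι : Type := {l : Fin n // ∃ w : ↥(W l).left, (W l).hom.base w ∈ Set.range i.base}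
  refine ⟨ι, fun l => W l.1, fun l => g l.1, fun l => hSg l.1, fun l => l.2, ?_⟩
  apply ofArrows_mem_topology_of_finite
  · intro l
    haveI := hWaff l.1
    infer_instance
  · intro x
    obtain ⟨z, hz, hxz⟩ := hV x
    obtain ⟨l, w, hw⟩ := hcov z
    have hw' : (g l).left.base w = z := hw
    have hcomp : (g l).left ≫ V.hom = (W l).hom := MorphismProperty.Over.w (g l)
    have hl : ∃ w : ↥(W l).left, (W l).hom.base w ∈ Set.range i.base := by
      refine ⟨w, ?_⟩
      rw [← hcomp]
      show V.hom.base ((g l).left.base w) ∈ _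
      rw [hw']
      exact hz
    haveI : WeaklyEtale (g l).left := weaklyEtale_left (g l)
    have hgen : GeneralizingMap (g l).left.base := Flat.generalizingMap (g l).left
    obtain ⟨w', -, hw'x⟩ := hgen (a := w) (b := x) (by rw [hw']; exact hxz)
    exact ⟨⟨l, hl⟩, w', hw'x⟩

/-- Objects with a point over `Z` admit no morphism to an object coming from `U`. -/
theorem isEmpty_costructuredArrow {U X Z : Scheme.{u}} (j : U ⟶ X) [WeaklyEtale j] (i : Z ⟶ X)
    (hUZ : Disjoint (Set.range j.base) (Set.range i.base)) (W : X.ProEt)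
    (hW : ∃ w : ↥W.left, W.hom.base w ∈ Set.range i.base) :
    IsEmpty (CostructuredArrow (ProEtS.compP j).op (op W)) := by
  constructor
  intro a
  obtain ⟨w, hw⟩ := hW
  let m : W ⟶ (ProEtS.compP j).obj a.left.unop := a.hom.unop
  have hcomp : m.left ≫ ((ProEtS.compP j).obj a.left.unop).hom = W.hom :=
    MorphismProperty.Over.w m
  have h2 : ((ProEtS.compP j).obj a.left.unop).hom = a.left.unop.hom ≫ j := rfl
  have h3 : W.hom.base w ∈ Set.range j.base := by
    rw [← hcomp, h2]
    exact ⟨a.left.unop.hom.base (m.left.base w), rfl⟩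
  exact Set.disjoint_left.mp hUZ h3 hw

theorem main0732 {U X Z : Scheme.{u}} (j : U ⟶ X) [WeaklyEtale j] (i : Z ⟶ X)
    (hUZ : Disjoint (Set.range j.base) (Set.range i.base)) [ProEtS.JPCont j]
    (V : X.ProEt) [IsAffine V.left]
    (hV : ∀ v : ↥V.left, ∃ z : ↥V.left, V.hom.base z ∈ Set.range i.base ∧ v ⤳ z)
    (F : ProEtS.AbP U) :
    Subsingleton (ProEtS.sectP ((ProEtS.extZeroP j).obj F) V) := by
  let e := Functor.sheafPullbackConstruction.sheafPullbackIso (ProEtS.compP j)
    AddCommGrpCat.{u+1} (Scheme.ProEt.topology U) (Scheme.ProEt.topology X)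
  let P : X.ProEtᵒᵖ ⥤ AddCommGrpCat.{u+1} := (ProEtS.compP j).op.lan.obj F.obj
  have key : Subsingleton (((presheafToSheaf (Scheme.ProEt.topology X)
      AddCommGrpCat.{u+1}).obj P).obj.obj (op V)) := by
    refine subsingleton_sheafify P V
      (fun W => ∃ w : ↥W.left, W.hom.base w ∈ Set.range i.base) ?_ ?_
    · intro W hW
      haveI := isEmpty_costructuredArrow j i hUZ W hW
      have hz : IsZero (((ProEtS.compP j).op.leftKanExtension F.obj).obj (op W)) :=
        isZero_leftKanExtension_obj _ _ _
      exact AddCommGrpCat.subsingleton_of_isZero hz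
    · intro S hS
      exact exists_good_cover i V hV S hS
  let e1 : ((ProEtS.extZeroP j).obj F).obj.obj (op V) ≅
      ((presheafToSheaf (Scheme.ProEt.topology X) AddCommGrpCat.{u+1}).obj P).obj.obj (op V) :=
    ((sheafToPresheaf _ _).mapIso (e.app F)).app (op V)
  exact e1.addCommGroupIsoToAddEquiv.toEquiv.subsingleton

end Groth.Agent.Lib.ExtZeroVanishH3
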