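import Mathlib
import Groth.Prelude
import Groth.Agent.Lib.ConormOpen_helper4
import Groth.Agent.Lib.FormalEtale_helper7
import Groth.Agent.Lib.Thickening_helper7

/-!
# Formally étale morphisms and universal first order thickenings (S9750) — helper4
-/

set_option autoImplicit false
universe u
open CategoryTheory CategoryTheory.Limits AlgebraicGeometry Opposite TopologicalSpace

namespace Groth.Agent.Lib.FEThickH4

open Groth.Agent.Lib.FormalEtale_helper7 Groth.Agent.Lib.Thickening_helper7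
open Groth.Agent.Lib.ConormOpenH4 Groth.Agent.Lib.OmegaAffH4 Groth.Agent.Lib.WeakAssSch_helper4
open FlatMor

variable {X S : Scheme.{u}} (f : X ⟶ S)

theorem fot_id (X : Scheme.{u}) : MoreMor.IsFirstOrderThickening (𝟙 X) := by
  refine ⟨⟨inferInstance, inferInstance⟩, ?_⟩
  rw [Scheme.Hom.ker_eq_bot_of_isIso]
  exact Scheme.IdealSheafData.bot_mul _

theorem part1 : MoreMor.IsFormallyEtaleHom f ↔
    FormallyUnramified f ∧ OmegaSh.IsUnivThickening f (𝟙 X) f := by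
  constructor
  · intro hf
    refine ⟨formallyUnramified_of_fe hf, fot_id X, Category.id_comp f, ?_⟩
    intro T T' j b a hj w
    obtain ⟨l, ⟨h1, h2⟩, huniq⟩ := fe_lift_firstOrder hf j hj a b w
    refine ⟨l, ⟨h1.trans (Category.comp_id a).symm, h2⟩, ?_⟩
    rintro l' ⟨h1', h2'⟩
    exact huniq l' ⟨h1'.trans (Category.comp_id a), h2'⟩
  · rintro ⟨-, -, -, huniv⟩
    intro A _ I hI a b w
    obtain ⟨l, ⟨h1, h2⟩, huniq⟩ := huniv _ _ (thk I) b a (fot_thk I hI) w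
    refine ⟨l, ⟨h1.trans (Category.comp_id a), h2⟩, ?_⟩
    rintro l' ⟨h1', h2'⟩
    exact huniq l' ⟨h1'.trans (Category.comp_id a).symm, h2'⟩

theorem isIso_of_fe {X' : Scheme.{u}} (i : X ⟶ X') (h' : X' ⟶ S)
    (hu : OmegaSh.IsUnivThickening f i h') (hf : MoreMor.IsFormallyEtaleHom f) : IsIso i := by
  obtain ⟨hfot, hcomp, huniv⟩ := hu
  have w : i ≫ h' = 𝟙 X ≫ f := by rw [hcomp, Category.id_comp]
  obtain ⟨s, ⟨hs1, hs2⟩, -⟩ := fe_lift_firstOrder hf i hfot (𝟙 X) h' w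
  obtain ⟨a', -, huniq⟩ := huniv X X' i h' (𝟙 X) hfot w
  have e1 : s ≫ i = a' :=
    huniq (s ≫ i) ⟨by rw [← Category.assoc, hs1], by rw [Category.assoc, hcomp, hs2]⟩
  have e2 : 𝟙 X' = a' :=
    huniq (𝟙 X') ⟨by rw [Category.comp_id, Category.id_comp], Category.id_comp h'⟩
  exact ⟨⟨s, hs1, e1.trans e2.symm⟩⟩

theorem fe_of_isIso_thick {X' : Scheme.{u}} (i : X ⟶ X') (h' : X' ⟶ S)
    (hu : OmegaSh.IsUnivThickening f i h') [IsIso i] : MoreMor.IsFormallyEtaleHom f := by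
  obtain ⟨-, hcomp, huniv⟩ := hu
  intro A _ I hI a b w
  obtain ⟨a', ⟨h1, h2⟩, huniq⟩ := huniv _ _ (thk I) b a (fot_thk I hI) w
  refine ⟨a' ≫ inv i, ⟨?_, ?_⟩, ?_⟩
  · rw [← Category.assoc, h1, Category.assoc, IsIso.hom_inv_id, Category.comp_id]
  · rw [← hcomp, Category.assoc, IsIso.inv_hom_id_assoc, h2]
  · rintro l ⟨hl1, hl2⟩
    have hl : l ≫ i = a' :=
      huniq (l ≫ i) ⟨by rw [← Category.assoc, hl1], by rw [Category.assoc, hcomp, hl2]⟩
    rw [← hl, Category.assoc, IsIso.hom_inv_id, Category.comp_id]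

theorem isZero_conormal_of_isIso {X' : Scheme.{u}} (i : X ⟶ X') [IsIso i] :
    IsZero (Omega.conormal i) := by
  have hker : i.ker = ⊥ := Scheme.Hom.ker_eq_bot_of_isIso i
  refine isZero_of_forall_affine (CN i) ?_
  intro U hU s
  have hW : IsAffineOpen (i ''ᵁ U) := hU.image_of_isOpenImmersion i
  have hpre : i ⁻¹ᵁ (i ''ᵁ U) = U := i.preimage_image_eq U
  have hU' : IsAffineOpen (i ⁻¹ᵁ (i ''ᵁ U)) := by rw [hpre]; exact hU
  have hsurj : Function.Surjective (i.app (i ''ᵁ U)).hom := i.app_surjective _ hW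
  letI alg : Algebra Γ(X', i ''ᵁ U) Γ(X, i ⁻¹ᵁ (i ''ᵁ U)) :=
    (i.appLE (i ''ᵁ U) (i ⁻¹ᵁ (i ''ᵁ U)) le_rfl).hom.toAlgebra
  letI mod : Module Γ(X', i ''ᵁ U) Γ(CN i, i ⁻¹ᵁ (i ''ᵁ U)) :=
    Module.compHom _ (i.appLE (i ''ᵁ U) (i ⁻¹ᵁ (i ''ᵁ U)) le_rfl).hom
  obtain ⟨Θ, -⟩ := conormalSections i hW hU' hsurj
  have hbot : i.ker.ideal ⟨i ''ᵁ U, hW⟩ = ⊥ := by
    rw [hker, Scheme.IdealSheafData.ideal_bot]; rfl
  haveI hsC : Subsingleton (i.ker.ideal ⟨i ''ᵁ U, hW⟩).Cotangent := by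
    have key : ∀ z : (i.ker.ideal ⟨i ''ᵁ U, hW⟩).Cotangent, z = 0 := by
      intro z
      obtain ⟨⟨x, hx⟩, rfl⟩ := Ideal.toCotangent_surjective _ z
      have hx' : x = 0 := by
        have hx2 := hx
        rw [hbot] at hx2
        exact Ideal.mem_bot.1 hx2
      have hx0 : (⟨x, hx⟩ : i.ker.ideal ⟨i ''ᵁ U, hW⟩) = 0 := Subtype.ext hx'
      rw [hx0, map_zero]
    exact ⟨fun z₁ z₂ => (key z₁).trans (key z₂).symm⟩
  have hs : Subsingleton Γ(CN i, i ⁻¹ᵁ (i ''ᵁ U)) := Θ.toEquiv.subsingleton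
  have key : ∀ (V : X.Opens), V = U → Subsingleton Γ(CN i, V) → ∀ s : Γ(CN i, U), s = 0 := by
    rintro V rfl hV s
    exact Subsingleton.elim _ _
  exact key _ hpre hs s

theorem ker_eq_bot_of_isZero_conormal {X' : Scheme.{u}} (i : X ⟶ X') [IsClosedImmersion i]
    (hsq : i.ker * i.ker = ⊥) (hz : IsZero (Omega.conormal i)) : i.ker = ⊥ := by
  refine Scheme.IdealSheafData.ext ?_
  funext W
  obtain ⟨W, hW⟩ := W
  have hU : IsAffineOpen (i ⁻¹ᵁ W) := hW.preimage i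
  have hsurj : Function.Surjective (i.app W).hom := i.app_surjective W hW
  letI alg : Algebra Γ(X', W) Γ(X, i ⁻¹ᵁ W) := (i.appLE W (i ⁻¹ᵁ W) le_rfl).hom.toAlgebra
  letI mod : Module Γ(X', W) Γ(CN i, i ⁻¹ᵁ W) :=
    Module.compHom _ (i.appLE W (i ⁻¹ᵁ W) le_rfl).hom
  obtain ⟨Θ, -⟩ := conormalSections i hW hU hsurj
  have hz' : IsZero (CN i) := hz
  haveI hs : Subsingleton Γ(CN i, i ⁻¹ᵁ W) :=
    ⟨fun a b => (eq_zero_of_isZero (CN i) hz' a).trans (eq_zero_of_isZero (CN i) hz' b).symm⟩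
  have hc : Subsingleton (i.ker.ideal ⟨W, hW⟩).Cotangent := Θ.symm.toEquiv.subsingleton
  have hidem : IsIdempotentElem (i.ker.ideal ⟨W, hW⟩) :=
    (Ideal.cotangent_subsingleton_iff _).1 hc
  have hmul : (i.ker * i.ker).ideal ⟨W, hW⟩ = i.ker.ideal ⟨W, hW⟩ * i.ker.ideal ⟨W, hW⟩ := by
    rw [Scheme.IdealSheafData.ideal_mul]; rfl
  calc i.ker.ideal ⟨W, hW⟩ = i.ker.ideal ⟨W, hW⟩ * i.ker.ideal ⟨W, hW⟩ := hidem.symm
    _ = (i.ker * i.ker).ideal ⟨W, hW⟩ := hmul.symm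
    _ = (⊥ : Scheme.IdealSheafData X').ideal ⟨W, hW⟩ := by rw [hsq]

theorem main9750 :
    (MoreMor.IsFormallyEtaleHom f ↔ FormallyUnramified f ∧ OmegaSh.IsUnivThickening f (𝟙 X) f) ∧
    (∀ {X' : Scheme.{u}} (i : X ⟶ X') (h' : X' ⟶ S) [QuasiCompact i], FormallyUnramified f →
      OmegaSh.IsUnivThickening f i h' →
        (MoreMor.IsFormallyEtaleHom f ↔ IsZero (Omega.conormal i))) := by
  refine ⟨part1 f, ?_⟩
  intro X' i h' _ _ hu
  constructor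
  · intro hf
    haveI := isIso_of_fe f i h' hu hf
    exact isZero_conormal_of_isIso i
  · intro hz
    haveI : IsClosedImmersion i := hu.1.1.1
    haveI : IsIso i :=
      IsClosedImmersion.isIso_iff_ker_eq_bot.mpr (ker_eq_bot_of_isZero_conormal i hu.1.2 hz)
    exact fe_of_isIso_thick f i h' hu

end Groth.Agent.Lib.FEThickH4
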