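import Mathlib
import Groth.Agent.Lib.FormalChar_helper1

set_option autoImplicit false

namespace Groth.Agent.Lib.FEUnit

open Groth.Agent.Lib.FormalChar

variable {R : Type} [CommRing R]

lemma coeff_term (H : PowerSeries R) (m n : ℕ) (e : Fin 2 →₀ ℕ) :
    MvPowerSeries.coeff e ((MvPowerSeries.X 0 : MvPowerSeries (Fin 2) R) ^ m *
        MvPowerSeries.X 1 ^ n *
        PowerSeries.subst (MvPowerSeries.X 0 : MvPowerSeries (Fin 2) R) H) =
      if n = e 1 ∧ m ≤ e 0 then PowerSeries.coeff (e 0 - m) H else 0 := by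
  classical
  rw [MvPowerSeries.X_pow_eq, MvPowerSeries.X_pow_eq, MvPowerSeries.monomial_mul_monomial,
    one_mul, MvPowerSeries.coeff_monomial_mul, one_mul, PowerSeries.coeff_subst_single]
  by_cases h : n = e 1 ∧ m ≤ e 0
  · obtain ⟨h1, h0⟩ := h
    have hle : Finsupp.single 0 m + Finsupp.single 1 n ≤ e := by
      intro i; fin_cases i <;> simp <;> omega
    rw [if_pos hle, if_pos (show n = e 1 ∧ m ≤ e 0 from ⟨h1, h0⟩), if_pos]
    · simp
    · apply fin2_ext <;> simp <;> omega
  · rw [if_neg h]
    by_cases hle : Finsupp.single 0 m + Finsupp.single 1 n ≤ e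
    · rw [if_pos hle, if_neg]
      intro heq
      apply h
      have h0 := hle 0
      have h1 := hle 1
      have h2 := DFunLike.congr_fun heq 1
      simp at h0 h1 h2
      constructor <;> omega
    · rw [if_neg hle]

lemma coeff_G_pow (F : PowerSeries R) (d : ℕ) (e : Fin 2 →₀ ℕ) :
    MvPowerSeries.coeff e ((MvPowerSeries.X 0 + MvPowerSeries.X 1 *
        PowerSeries.subst (MvPowerSeries.X 0 : MvPowerSeries (Fin 2) R) F :
          MvPowerSeries (Fin 2) R) ^ d) =
      if e 1 ≤ d ∧ d ≤ e 0 + e 1 then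
        PowerSeries.coeff (e 0 + e 1 - d) (F ^ (e 1)) * ((d.choose (e 1) : ℕ) : R) else 0 := by
  classical
  rw [add_pow, map_sum]
  have hterm : ∀ m ∈ Finset.range (d+1),
      MvPowerSeries.coeff e ((MvPowerSeries.X 0 : MvPowerSeries (Fin 2) R) ^ m *
        (MvPowerSeries.X 1 *
          PowerSeries.subst (MvPowerSeries.X 0 : MvPowerSeries (Fin 2) R) F) ^ (d - m) *
        ((d.choose m : ℕ) : MvPowerSeries (Fin 2) R)) =
      if d - m = e 1 ∧ m ≤ e 0 then
        PowerSeries.coeff (e 0 - m) (F ^ (d - m)) * ((d.choose m : ℕ) : R) else 0 := by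
    intro m _
    rw [mul_pow, ← PowerSeries.subst_pow (PowerSeries.HasSubst.X 0), ← mul_assoc,
      ← map_natCast (MvPowerSeries.C (σ := Fin 2) (R := R)), MvPowerSeries.coeff_mul_C,
      coeff_term]
    split_ifs <;> simp
  rw [Finset.sum_congr rfl hterm]
  by_cases h : e 1 ≤ d ∧ d ≤ e 0 + e 1
  · rw [if_pos h, Finset.sum_eq_single (d - e 1)]
    · rw [if_pos (by omega)]
      have h1 : d - (d - e 1) = e 1 := by omega
      have h2 : e 0 - (d - e 1) = e 0 + e 1 - d := by omega
      rw [h1, h2, Nat.choose_symm h.1]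
    · intro m hm hne
      rw [if_neg]
      rintro ⟨h1, h2⟩
      apply hne
      simp at hm; omega
    · intro hn; exfalso; apply hn; rw [Finset.mem_range]; omega
  · rw [if_neg h]
    apply Finset.sum_eq_zero
    intro m hm
    rw [if_neg]
    rintro ⟨h1, h2⟩
    apply h
    simp at hm
    omega

lemma coeff_subst_G (F : PowerSeries R) (e : Fin 2 →₀ ℕ) :
    MvPowerSeries.coeff e (PowerSeries.subst (MvPowerSeries.X 0 + MvPowerSeries.X 1 *
        PowerSeries.subst (MvPowerSeries.X 0 : MvPowerSeries (Fin 2) R) F :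
          MvPowerSeries (Fin 2) R) F) =
      ∑ i ∈ Finset.range (e 0 + 1), PowerSeries.coeff (e 1 + i) F *
        (PowerSeries.coeff (e 0 - i) (F ^ (e 1)) * (((e 1 + i).choose (e 1) : ℕ) : R)) := by
  have hG : PowerSeries.HasSubst (MvPowerSeries.X 0 + MvPowerSeries.X 1 *
        PowerSeries.subst (MvPowerSeries.X 0 : MvPowerSeries (Fin 2) R) F :
          MvPowerSeries (Fin 2) R) := by
    apply PowerSeries.HasSubst.of_constantCoeff_zero
    simp
  rw [PowerSeries.coeff_subst hG]
  rw [finsum_eq_sum_of_support_subset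
    (s := (Finset.range (e 0 + 1)).map ⟨fun i => e 1 + i, add_right_injective _⟩)]
  · rw [Finset.sum_map]
    refine Finset.sum_congr rfl fun i hi => ?_
    simp only [Function.Embedding.coeFn_mk]
    rw [coeff_G_pow, if_pos, smul_eq_mul]
    · have : e 0 + e 1 - (e 1 + i) = e 0 - i := by omega
      rw [this]
    · simp at hi; omega
  · intro d hd
    rw [Function.mem_support] at hd
    simp only [Finset.coe_map, Function.Embedding.coeFn_mk, Set.mem_image, Finset.coe_range,
      Set.mem_Iio]
    by_contra hcon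
    apply hd
    rw [coeff_G_pow, if_neg, smul_zero]
    rintro ⟨h1, h2⟩
    exact hcon ⟨d - e 1, by omega, by omega⟩

theorem main (R : Type) [CommRing R] (F : PowerSeries R)
    (h0 : PowerSeries.constantCoeff F = 1) (ha : IsUnit (PowerSeries.coeff 1 F))
    (hFE : PowerSeries.subst
        (MvPowerSeries.X (0 : Fin 2) + MvPowerSeries.X 1 * PowerSeries.subst (MvPowerSeries.X (0 : Fin 2)) F :
          MvPowerSeries (Fin 2) R) F =
      PowerSeries.subst (MvPowerSeries.X (0 : Fin 2)) F * PowerSeries.subst (MvPowerSeries.X (1 : Fin 2)) F) :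
    F = 1 + PowerSeries.C (PowerSeries.coeff 1 F) * PowerSeries.X := by
  have hE : ∀ e : Fin 2 →₀ ℕ, ∑ i ∈ Finset.range (e 0 + 1), PowerSeries.coeff (e 1 + i) F *
        (PowerSeries.coeff (e 0 - i) (F ^ (e 1)) * (((e 1 + i).choose (e 1) : ℕ) : R)) =
      PowerSeries.coeff (e 0) F * PowerSeries.coeff (e 1) F := by
    intro e
    rw [← coeff_subst_G, hFE, coeff_subst_mul]
  have hc0 : PowerSeries.coeff 0 F = 1 := by
    rw [PowerSeries.coeff_zero_eq_constantCoeff_apply, h0]
  have hpow0 : ∀ k, PowerSeries.coeff 0 (F^k) = 1 := by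
    intro k; rw [PowerSeries.coeff_zero_eq_constantCoeff_apply, map_pow, h0, one_pow]
  have hpow1 : ∀ k : ℕ, PowerSeries.coeff 1 (F^k) = (k : R) * PowerSeries.coeff 1 F := by
    intro k; rw [PowerSeries.coeff_one_pow, h0, one_pow, mul_one]
  have E1 : ∀ k : ℕ, PowerSeries.coeff k F * ((k : R) * PowerSeries.coeff 1 F) +
      PowerSeries.coeff (k+1) F * ((k + 1 : ℕ) : R) =
      PowerSeries.coeff 1 F * PowerSeries.coeff k F := by
    intro k
    have := hE (Finsupp.single 0 1 + Finsupp.single 1 k)
    have e0 : (Finsupp.single (0 : Fin 2) 1 + Finsupp.single 1 k : Fin 2 →₀ ℕ) 0 = 1 := by simp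
    have e1 : (Finsupp.single (0 : Fin 2) 1 + Finsupp.single 1 k : Fin 2 →₀ ℕ) 1 = k := by simp
    rw [e0, e1, Finset.sum_range_succ, Finset.sum_range_succ, Finset.sum_range_zero, zero_add]
      at this
    simp only [add_zero, Nat.sub_zero, Nat.sub_self, Nat.choose_self,
      Nat.choose_succ_self_right, hpow0, hpow1, Nat.cast_one, mul_one, one_mul] at this
    linear_combination this
  have E2 : ∀ n : ℕ, (∀ j, 2 ≤ j → j < n + 2 → PowerSeries.coeff j F = 0) →
      ((n + 2 : ℕ) : R) * PowerSeries.coeff (n+2) F = 0 →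
      ((n + 3 : ℕ) : R) * PowerSeries.coeff (n+3) F = 0 := by
    intro n hj hn
    have := hE (Finsupp.single 0 (n+2) + Finsupp.single 1 1)
    have e0 : (Finsupp.single (0 : Fin 2) (n+2) + Finsupp.single 1 1 : Fin 2 →₀ ℕ) 0 = n+2 := by
      simp
    have e1 : (Finsupp.single (0 : Fin 2) (n+2) + Finsupp.single 1 1 : Fin 2 →₀ ℕ) 1 = 1 := by
      simp
    rw [e0, e1] at this
    simp only [pow_one, Nat.choose_one_right] at this
    have hsum : ∑ i ∈ Finset.range (n + 2 + 1), PowerSeries.coeff (1 + i) F *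
        (PowerSeries.coeff (n + 2 - i) F * ((1 + i : ℕ) : R)) =
        PowerSeries.coeff (1 + 0) F * (PowerSeries.coeff (n + 2 - 0) F * ((1 + 0 : ℕ) : R)) +
        PowerSeries.coeff (1 + (n+2)) F *
          (PowerSeries.coeff (n + 2 - (n+2)) F * ((1 + (n+2) : ℕ) : R)) := by
      apply Finset.sum_eq_add 0 (n+2) (by omega)
      · intro i hi hne
        obtain ⟨hne0, hne2⟩ := hne
        rw [Finset.mem_range] at hi
        by_cases hin : i = n + 1
        · subst hin
          have h1 : n + 2 - (n + 1) = 1 := by omega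
          have h2 : 1 + (n + 1) = n + 2 := by omega
          rw [h1, h2]
          calc PowerSeries.coeff (n+2) F * (PowerSeries.coeff 1 F * ((n+2 : ℕ) : R))
              = PowerSeries.coeff 1 F * (((n+2 : ℕ) : R) * PowerSeries.coeff (n+2) F) := by ring
            _ = 0 := by rw [hn, mul_zero]
        · rw [hj (1 + i) (by omega) (by omega), zero_mul]
      · intro h; exfalso; apply h; simp
      · intro h; exfalso; apply h; simp
    have h3 : 1 + (n + 2) = n + 3 := by omega
    rw [hsum, Nat.sub_zero, Nat.sub_self, h3, hc0] at this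
    simp only [add_zero, Nat.cast_one, mul_one, one_mul] at this
    linear_combination this
  have P : ∀ n : ℕ, (∀ j, 2 ≤ j → j < n + 2 → PowerSeries.coeff j F = 0) ∧
      ((n + 2 : ℕ) : R) * PowerSeries.coeff (n+2) F = 0 := by
    intro n
    induction n with
    | zero =>
      refine ⟨fun j h2 hj => by omega, ?_⟩
      have := E1 1
      norm_num at this ⊢
      linear_combination this
    | succ n ih =>
      obtain ⟨hj, hn⟩ := ih
      have h3 := E2 n hj hn
      have h1 := E1 (n + 2)
      have e : n + 2 + 1 = n + 3 := rfl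
      rw [e] at h1
      have hzero : PowerSeries.coeff (n+2) F = 0 := by
        have : PowerSeries.coeff 1 F * PowerSeries.coeff (n+2) F = 0 := by
          push_cast at h1 h3 hn ⊢
          linear_combination (-1 : R) * h1 + PowerSeries.coeff 1 F * hn + h3
        exact (ha.mul_right_eq_zero).mp this
      refine ⟨fun j h2 hjlt => ?_, h3⟩
      by_cases hjn : j = n + 2
      · rw [hjn]; exact hzero
      · exact hj j h2 (by omega)
  ext n
  rcases n with _ | _ | n
  · simp [hc0, h0]
  · simp
  · rw [(P (n+1)).1 (n + 1 + 1) (by omega) (by omega)]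
    simp [PowerSeries.coeff_one, PowerSeries.coeff_X]

end Groth.Agent.Lib.FEUnit
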