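import Mathlib
import Groth.Agent.Lib.GabberIdem_lead

/-!
# Lifting closed decompositions: topology and the finite henselian case (helper4)
APPEND-ONLY once landed.

`RelLifts F E`: every decomposition of `F ∩ E` into two disjoint closed sets extends to a
decomposition of `F` into two disjoint closed sets.
* `RelLifts.preimage`: transfer along a closed surjective map with connected fibres.
* `relLifts_range_iff`: transfer along closed embeddings.
* `RelLifts.of_directed_iInter`: a directed intersection of closed sets `F_j` with `RelLifts (F_j) E`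
  has `RelLifts (⋂ F_j) E` (in a compact space with a basis of compact opens stable under `∩`).
* `relLifts_primeSpectrum`: integral algebras over a henselian pair.
* `connectedSpace_iff_of_relLifts`, `isPreconnected_inter_of_relLifts`.
-/

set_option autoImplicit false
set_option linter.unusedVariables false
set_option linter.unusedSectionVars false
set_option linter.style.longLine false
set_option maxHeartbeats 1600000

universe u

open Topology Set

namespace Groth.Agent.Lib.HensConnH4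

section Top

variable {X Y : Type*} [TopologicalSpace X] [TopologicalSpace Y]

/-- Closed decompositions of `F ∩ E` extend to closed decompositions of `F`. -/
def RelLifts (F E : Set X) : Prop :=
  ∀ M₁ M₂ : Set X, IsClosed M₁ → IsClosed M₂ → M₁ ∪ M₂ = F ∩ E → Disjoint M₁ M₂ →
    ∃ N₁ N₂ : Set X, IsClosed N₁ ∧ IsClosed N₂ ∧ N₁ ∪ N₂ = F ∧ Disjoint N₁ N₂ ∧ N₁ ∩ E = M₁

theorem subset_or_subset_of_closed {s M₁ M₂ : Set X} (hs : IsPreconnected s)
    (h1 : IsClosed M₁) (h2 : IsClosed M₂) (hD : Disjoint M₁ M₂) (hsub : s ⊆ M₁ ∪ M₂) :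
    s ⊆ M₁ ∨ s ⊆ M₂ := by
  by_contra hcon
  rw [not_or] at hcon
  obtain ⟨hc1, hc2⟩ := hcon
  rw [Set.not_subset] at hc1 hc2
  obtain ⟨x, hxs, hx1⟩ := hc1
  obtain ⟨y, hys, hy2⟩ := hc2
  have hx2 : x ∈ M₂ := (hsub hxs).resolve_left hx1
  have hy1 : y ∈ M₁ := (hsub hys).resolve_right hy2
  obtain ⟨z, -, hz1, hz2⟩ := isPreconnected_closed_iff.mp hs M₁ M₂ h1 h2 hsub ⟨y, hys, hy1⟩
    ⟨x, hxs, hx2⟩
  exact Set.disjoint_left.mp hD hz1 hz2

/-- transfer along a closed surjective map with connected fibres -/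
theorem RelLifts.preimage {ν : X → Y} (hc : Continuous ν) (hcl : IsClosedMap ν)
    (hs : Function.Surjective ν) (hfib : ∀ y, IsPreconnected (ν ⁻¹' {y})) {E : Set Y}
    (h : RelLifts (univ : Set Y) E) : RelLifts (univ : Set X) (ν ⁻¹' E) := by
  intro M₁ M₂ hM₁ hM₂ hU hD
  rw [univ_inter] at hU
  -- the images are disjoint
  have hdisj : Disjoint (ν '' M₁) (ν '' M₂) := by
    rw [Set.disjoint_left]
    rintro y ⟨x₁, hx₁, rfl⟩ ⟨x₂, hx₂, hx₂'⟩
    have hsub : ν ⁻¹' {ν x₁} ⊆ M₁ ∪ M₂ := by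
      intro z hz
      rw [hU]
      have h1 : x₁ ∈ ν ⁻¹' E := by rw [← hU]; exact Or.inl hx₁
      show ν z ∈ E
      rw [show ν z = ν x₁ from hz]
      exact h1
    have := subset_or_subset_of_closed (hfib (ν x₁)) hM₁ hM₂ hD hsub
    rcases this with h1 | h1
    · exact (Set.disjoint_left.mp hD) (h1 (show x₂ ∈ ν ⁻¹' {ν x₁} from hx₂')) hx₂
    · exact (Set.disjoint_left.mp hD) hx₁ (h1 (show x₁ ∈ ν ⁻¹' {ν x₁} from rfl))
  have hUimg : ν '' M₁ ∪ ν '' M₂ = univ ∩ E := by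
    rw [univ_inter, ← Set.image_union, hU, Set.image_preimage_eq E hs]
  obtain ⟨N₁, N₂, hN₁, hN₂, hNU, hND, hNE⟩ := h (ν '' M₁) (ν '' M₂) (hcl _ hM₁) (hcl _ hM₂)
    hUimg hdisj
  refine ⟨ν ⁻¹' N₁, ν ⁻¹' N₂, hN₁.preimage hc, hN₂.preimage hc, ?_, ?_, ?_⟩
  · rw [← Set.preimage_union, hNU, Set.preimage_univ]
  · exact hND.preimage ν
  · rw [← Set.preimage_inter, hNE]
    apply Set.Subset.antisymm
    · intro x hx
      have hxE : x ∈ M₁ ∪ M₂ := by
        rw [hU]
        show ν x ∈ E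
        have : ν x ∈ ν '' M₁ ∪ ν '' M₂ := Or.inl hx
        rw [hUimg, univ_inter] at this
        exact this
      rcases hxE with h1 | h1
      · exact h1
      · exact absurd (Set.mem_image_of_mem ν h1) (Set.disjoint_left.mp hdisj hx)
    · exact Set.subset_preimage_image ν M₁

/-- transfer along a closed embedding -/
theorem relLifts_range_iff {k : X → Y} (hk : IsClosedEmbedding k) (E : Set Y) :
    RelLifts (Set.range k) E ↔ RelLifts (univ : Set X) (k ⁻¹' E) := by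
  constructor
  · intro h M₁ M₂ hM₁ hM₂ hU hD
    rw [univ_inter] at hU
    have hU' : k '' M₁ ∪ k '' M₂ = Set.range k ∩ E := by
      rw [← Set.image_union, hU, Set.image_preimage_eq_range_inter]
    have hD' : Disjoint (k '' M₁) (k '' M₂) :=
      (Set.disjoint_image_iff hk.injective).mpr hD
    obtain ⟨N₁, N₂, hN₁, hN₂, hNU, hND, hNE⟩ := h _ _ (hk.isClosedMap _ hM₁)
      (hk.isClosedMap _ hM₂) hU' hD'
    refine ⟨k ⁻¹' N₁, k ⁻¹' N₂, hN₁.preimage hk.continuous, hN₂.preimage hk.continuous, ?_,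
      hND.preimage k, ?_⟩
    · rw [← Set.preimage_union, hNU, Set.preimage_range]
    · rw [← Set.preimage_inter, hNE, Set.preimage_image_eq _ hk.injective]
  · intro h M₁ M₂ hM₁ hM₂ hU hD
    have hsub₁ : M₁ ⊆ Set.range k := fun x hx =>
      (show x ∈ Set.range k ∩ E by rw [← hU]; exact Or.inl hx).1
    have hsub₂ : M₂ ⊆ Set.range k := fun x hx =>
      (show x ∈ Set.range k ∩ E by rw [← hU]; exact Or.inr hx).1
    have hU' : k ⁻¹' M₁ ∪ k ⁻¹' M₂ = univ ∩ k ⁻¹' E := by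
      rw [univ_inter, ← Set.preimage_union, hU, Set.preimage_inter, Set.preimage_range,
        univ_inter]
    obtain ⟨N₁, N₂, hN₁, hN₂, hNU, hND, hNE⟩ := h _ _ (hM₁.preimage hk.continuous)
      (hM₂.preimage hk.continuous) hU' (hD.preimage k)
    refine ⟨k '' N₁, k '' N₂, hk.isClosedMap _ hN₁, hk.isClosedMap _ hN₂, ?_,
      (Set.disjoint_image_iff hk.injective).mpr hND, ?_⟩
    · rw [← Set.image_union, hNU, Set.image_univ]
    · have h1 : k '' N₁ ∩ E = k '' (N₁ ∩ k ⁻¹' E) := by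
        rw [Set.image_inter_preimage]
      rw [h1, hNE, Set.image_preimage_eq_of_subset hsub₁]

/-- transfer along a homeomorphism -/
theorem RelLifts.of_homeomorph (e : X ≃ₜ Y) {E : Set Y} (h : RelLifts (univ : Set Y) E) :
    RelLifts (univ : Set X) (e ⁻¹' E) := by
  have h1 := (relLifts_range_iff e.isClosedEmbedding E).mp
  rw [e.surjective.range_eq] at h1
  exact h1 h

/-- the limit lemma -/
theorem RelLifts.of_directed_iInter [CompactSpace X]
    (hbasis : ∀ (K : Set X) (U : Set X), IsCompact K → IsOpen U → K ⊆ U →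
      ∃ O : Set X, IsOpen O ∧ IsCompact O ∧ K ⊆ O ∧ O ⊆ U)
    (hinter : ∀ O O' : Set X, IsOpen O → IsCompact O → IsOpen O' → IsCompact O' →
      IsCompact (O ∩ O'))
    {ι : Type*} [Nonempty ι] (F : ι → Set X) (hF : ∀ i, IsClosed (F i))
    (hdir : Directed (· ⊇ ·) F) {E : Set X} (hE : IsClosed E)
    (h : ∀ i, RelLifts (F i) E) : RelLifts (⋂ i, F i) E := by
  intro M₁ M₂ hM₁ hM₂ hU hD
  obtain ⟨O, hOo, hOc, hM₁O, hOM₂⟩ := hbasis M₁ M₂ᶜ hM₁.isCompact hM₂.isOpen_compl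
    (fun x hx hx2 => Set.disjoint_left.mp hD hx hx2)
  obtain ⟨O', hO'o, hO'c, hM₂O', hO'M₁⟩ := hbasis M₂ M₁ᶜ hM₂.isCompact hM₁.isOpen_compl
    (fun x hx hx2 => Set.disjoint_left.mp hD hx2 hx)
  -- `(⋂ F i) ∩ E ∩ O = M₁`
  have hO1 : (⋂ i, F i) ∩ E ∩ O = M₁ := by
    rw [← hU]
    apply Set.Subset.antisymm
    · rintro x ⟨hx | hx, hxO⟩
      · exact hx
      · exact absurd hx (hOM₂ hxO)
    · exact fun x hx => ⟨Or.inl hx, hM₁O hx⟩
  have hO2 : (⋂ i, F i) ∩ E ∩ O' = M₂ := by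
    rw [← hU]
    apply Set.Subset.antisymm
    · rintro x ⟨hx | hx, hxO⟩
      · exact absurd hx (hO'M₁ hxO)
      · exact hx
    · exact fun x hx => ⟨Or.inr hx, hM₂O' hx⟩
  -- first compactness argument
  have hdir' : Directed (· ⊇ ·) (fun i => F i ∩ E) := by
    intro i j
    obtain ⟨k, hki, hkj⟩ := hdir i j
    exact ⟨k, Set.inter_subset_inter_left _ hki, Set.inter_subset_inter_left _ hkj⟩
  have hst1 : (O ∪ O')ᶜ ∩ ⋂ i, (F i ∩ E) = ∅ := by
    rw [Set.eq_empty_iff_forall_notMem]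
    rintro x ⟨hx1, hx2⟩
    have hx3 : x ∈ (⋂ i, F i) ∩ E := by
      rw [Set.mem_iInter] at hx2
      refine ⟨Set.mem_iInter.mpr fun i => (hx2 i).1, ?_⟩
      obtain ⟨i⟩ := ‹Nonempty ι›
      exact (hx2 i).2
    rw [← hU] at hx3
    rcases hx3 with h1 | h1
    · exact hx1 (Or.inl (hM₁O h1))
    · exact hx1 (Or.inr (hM₂O' h1))
  obtain ⟨i₁, hi₁⟩ := ((hOo.union hO'o).isClosed_compl.isCompact).elim_directed_family_closed
    (fun i => F i ∩ E) (fun i => (hF i).inter hE) hst1 hdir'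
  have hst2 : (O ∩ O') ∩ ⋂ i, (F i ∩ E) = ∅ := by
    rw [Set.eq_empty_iff_forall_notMem]
    rintro x ⟨⟨hxO, hxO'⟩, hx2⟩
    have hx3 : x ∈ (⋂ i, F i) ∩ E := by
      rw [Set.mem_iInter] at hx2
      refine ⟨Set.mem_iInter.mpr fun i => (hx2 i).1, ?_⟩
      obtain ⟨i⟩ := ‹Nonempty ι›
      exact (hx2 i).2
    have h1 : x ∈ M₁ := by rw [← hO1]; exact ⟨hx3, hxO⟩
    have h2 : x ∈ M₂ := by rw [← hO2]; exact ⟨hx3, hxO'⟩
    exact Set.disjoint_left.mp hD h1 h2
  obtain ⟨i₂, hi₂⟩ := (hinter O O' hOo hOc hO'o hO'c).elim_directed_family_closed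
    (fun i => F i ∩ E) (fun i => (hF i).inter hE) hst2 hdir'
  obtain ⟨j, hj₁, hj₂⟩ := hdir i₁ i₂
  have hj1 : F j ∩ E ⊆ O ∪ O' := by
    intro x hx
    by_contra hcon
    have : x ∈ (O ∪ O')ᶜ ∩ (F i₁ ∩ E) := ⟨hcon, hj₁ hx.1, hx.2⟩
    rw [hi₁] at this
    exact this
  have hj2 : ∀ x, x ∈ F j ∩ E → x ∈ O → x ∈ O' → False := by
    intro x hx hxO hxO'
    have : x ∈ (O ∩ O') ∩ (F i₂ ∩ E) := ⟨⟨hxO, hxO'⟩, hj₂ hx.1, hx.2⟩
    rw [hi₂] at this
    exact this
  -- the decomposition of `F j ∩ E`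
  have hM₁' : IsClosed (F j ∩ E ∩ O'ᶜ) := ((hF j).inter hE).inter hO'o.isClosed_compl
  have hM₂' : IsClosed (F j ∩ E ∩ Oᶜ) := ((hF j).inter hE).inter hOo.isClosed_compl
  have hU' : F j ∩ E ∩ O'ᶜ ∪ F j ∩ E ∩ Oᶜ = F j ∩ E := by
    apply Set.Subset.antisymm
    · rintro x (hx | hx) <;> exact hx.1
    · intro x hx
      by_cases hxO : x ∈ O
      · exact Or.inl ⟨hx, fun hxO' => hj2 x hx hxO hxO'⟩
      · exact Or.inr ⟨hx, hxO⟩
  have hD' : Disjoint (F j ∩ E ∩ O'ᶜ) (F j ∩ E ∩ Oᶜ) := by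
    rw [Set.disjoint_left]
    rintro x ⟨hx, hxO'⟩ ⟨_, hxO⟩
    rcases hj1 hx with h1 | h1
    · exact hxO h1
    · exact hxO' h1
  obtain ⟨N₁, N₂, hN₁, hN₂, hNU, hND, hNE⟩ := h j _ _ hM₁' hM₂' hU' hD'
  have hsub : (⋂ i, F i) ⊆ F j := Set.iInter_subset _ j
  refine ⟨N₁ ∩ ⋂ i, F i, N₂ ∩ ⋂ i, F i, hN₁.inter (isClosed_iInter hF),
    hN₂.inter (isClosed_iInter hF), ?_, ?_, ?_⟩
  · rw [← Set.union_inter_distrib_right, hNU, Set.inter_eq_right.mpr hsub]
  · exact hND.mono Set.inter_subset_left Set.inter_subset_left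
  · have h1 : N₁ ∩ (⋂ i, F i) ∩ E = (N₁ ∩ E) ∩ ⋂ i, F i := by
      rw [Set.inter_right_comm]
    rw [h1, hNE, ← hO1]
    apply Set.Subset.antisymm
    · rintro x ⟨⟨hx, hxO'⟩, hxF⟩
      refine ⟨⟨hxF, hx.2⟩, ?_⟩
      rcases hj1 hx with h2 | h2
      · exact h2
      · exact absurd h2 hxO'
    · rintro x ⟨⟨hxF, hxE⟩, hxO⟩
      exact ⟨⟨⟨hsub hxF, hxE⟩, fun hxO' => hj2 x ⟨hsub hxF, hxE⟩ hxO hxO'⟩, hxF⟩

/-- connectedness criterion -/
theorem connectedSpace_iff_of_relLifts {E : Set X} (hE : IsClosed E)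
    (h : RelLifts (univ : Set X) E)
    (hmeet : ∀ C : Set X, IsClosed C → C.Nonempty → (C ∩ E).Nonempty) :
    ConnectedSpace X ↔ IsConnected E := by
  constructor
  · intro hX
    refine ⟨?_, ?_⟩
    · have := hmeet univ isClosed_univ Set.univ_nonempty
      rwa [univ_inter] at this
    · rw [isPreconnected_closed_iff]
      intro M₁ M₂ hM₁ hM₂ hsub hne₁ hne₂
      by_contra hcon
      rw [Set.not_nonempty_iff_eq_empty] at hcon
      have hU : E ∩ M₁ ∪ E ∩ M₂ = univ ∩ E := by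
        rw [univ_inter, ← Set.inter_union_distrib_left, Set.inter_eq_left.mpr hsub]
      have hD : Disjoint (E ∩ M₁) (E ∩ M₂) := by
        rw [Set.disjoint_iff_inter_eq_empty, ← hcon]
        ext x
        simp only [Set.mem_inter_iff]
        tauto
      obtain ⟨N₁, N₂, hN₁, hN₂, hNU, hND, hNE⟩ := h _ _ (hE.inter hM₁) (hE.inter hM₂) hU hD
      have hclopen : IsClopen N₁ := by
        refine ⟨hN₁, ?_⟩
        have : N₁ = N₂ᶜ := by
          ext x
          constructor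
          · exact fun hx hx2 => Set.disjoint_left.mp hND hx hx2
          · intro hx
            have : x ∈ N₁ ∪ N₂ := by rw [hNU]; trivial
            exact this.resolve_right hx
        rw [this]
        exact hN₂.isOpen_compl
      rcases isClopen_iff.mp hclopen with h1 | h1
      · rw [h1, Set.empty_inter] at hNE
        obtain ⟨x, hx⟩ := hne₁
        have : x ∈ E ∩ M₁ := hx
        rw [← hNE] at this
        exact this
      · have hN₂e : N₂ = ∅ := by
          rw [Set.eq_empty_iff_forall_notMem]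
          intro x hx
          exact Set.disjoint_left.mp hND (by rw [h1]; trivial) hx
        obtain ⟨x, hx⟩ := hne₂
        have hx1 : x ∈ N₁ ∩ E := ⟨by rw [h1]; trivial, hx.1⟩
        rw [hNE] at hx1
        have : x ∈ E ∩ (M₁ ∩ M₂) := ⟨hx.1, hx1.2, hx.2⟩
        rw [hcon] at this
        exact this
  · intro hEc
    have hne : Nonempty X := hEc.nonempty.to_subtype.map Subtype.val
    refine @ConnectedSpace.mk X _ ⟨?_⟩ hne
    · rw [isPreconnected_closed_iff]
      intro N₁ N₂ hN₁ hN₂ hsub hne₁ hne₂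
      rw [univ_inter] at hne₁ hne₂
      rw [univ_inter]
      have h1 := hmeet N₁ hN₁ hne₁
      have h2 := hmeet N₂ hN₂ hne₂
      have h3 := isPreconnected_closed_iff.mp hEc.isPreconnected N₁ N₂ hN₁ hN₂
        (fun x _ => hsub (Set.mem_univ x)) (by rwa [Set.inter_comm]) (by rwa [Set.inter_comm])
      obtain ⟨x, hx⟩ := h3
      exact ⟨x, hx.2⟩

/-- if `F` is preconnected and closed decompositions of `F ∩ E` lift, `F ∩ E` is preconnected -/
theorem isPreconnected_inter_of_relLifts {F E : Set X} (hF : IsPreconnected F)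
    (hFc : IsClosed F) (hE : IsClosed E) (h : RelLifts F E) : IsPreconnected (F ∩ E) := by
  rw [isPreconnected_closed_iff]
  intro M₁ M₂ hM₁ hM₂ hsub hne₁ hne₂
  by_contra hcon
  rw [Set.not_nonempty_iff_eq_empty] at hcon
  have hU : (F ∩ E) ∩ M₁ ∪ (F ∩ E) ∩ M₂ = F ∩ E := by
    rw [← Set.inter_union_distrib_left, Set.inter_eq_left.mpr hsub]
  have hD : Disjoint ((F ∩ E) ∩ M₁) ((F ∩ E) ∩ M₂) := by
    rw [Set.disjoint_iff_inter_eq_empty, ← hcon]
    ext x
    simp only [Set.mem_inter_iff]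
    tauto
  obtain ⟨N₁, N₂, hN₁, hN₂, hNU, hND, hNE⟩ := h _ _ ((hFc.inter hE).inter hM₁)
    ((hFc.inter hE).inter hM₂) hU hD
  have h1 := subset_or_subset_of_closed hF hN₁ hN₂ hND (by rw [hNU])
  obtain ⟨x₁, hx₁⟩ := hne₁
  obtain ⟨x₂, hx₂⟩ := hne₂
  rcases h1 with h1 | h1
  · -- everything in N₁, so x₂ ∈ N₁ ∩ E = (F ∩ E) ∩ M₁
    have : x₂ ∈ N₁ ∩ E := ⟨h1 hx₂.1.1, hx₂.1.2⟩
    rw [hNE] at this
    have h2 : x₂ ∈ F ∩ E ∩ (M₁ ∩ M₂) := ⟨hx₂.1, this.2, hx₂.2⟩
    rw [hcon] at h2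
    exact h2
  · have hx : x₁ ∈ N₁ ∩ E := by rw [hNE]; exact hx₁
    exact Set.disjoint_left.mp hND hx.1 (h1 hx₁.1.1)

end Top

section Ring

open PrimeSpectrum

variable {A : Type u} [CommRing A]

theorem relLifts_primeSpectrum {I : Ideal A} (hI : HenselianRing A I) (D : Type u) [CommRing D]
    [Algebra A D] [Algebra.IsIntegral A D] :
    RelLifts (univ : Set (PrimeSpectrum D))
      (zeroLocus (I.map (algebraMap A D) : Set D)) := by
  intro M₁ M₂ hM₁ hM₂ hU hD
  rw [univ_inter] at hU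
  set J := I.map (algebraMap A D) with hJ
  let π := Ideal.Quotient.mk J
  have hπ : Function.Surjective π := Ideal.Quotient.mk_surjective
  have hc := isClosedEmbedding_comap_of_surjective (D ⧸ J) π hπ
  have hrange : Set.range (comap π) = zeroLocus (J : Set D) := by
    rw [range_comap_of_surjective _ π hπ, Ideal.mk_ker]
  have hclopen : IsClopen (comap π ⁻¹' M₁) := by
    refine ⟨hM₁.preimage hc.continuous, ?_⟩
    have : comap π ⁻¹' M₁ = (comap π ⁻¹' M₂)ᶜ := by
      ext p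
      simp only [Set.mem_preimage, Set.mem_compl_iff]
      constructor
      · exact fun h1 h2 => Set.disjoint_left.mp hD h1 h2
      · intro h2
        have : comap π p ∈ M₁ ∪ M₂ := by
          rw [hU, ← hrange]
          exact Set.mem_range_self p
        exact this.resolve_right h2
    rw [this]
    exact (hM₂.preimage hc.continuous).isOpen_compl
  obtain ⟨ebar, hebar, hbo⟩ := PrimeSpectrum.isClopen_iff.mp hclopen
  obtain ⟨e, he, hee⟩ := (Groth.Agent.Lib.GabberIdem.bijOn_of_integral hI D).surjOn hebar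
  have he' : IsIdempotentElem e := he
  refine ⟨basicOpen e, basicOpen (1 - e), ?_, ?_, ?_, ?_, ?_⟩
  · rw [basicOpen_eq_zeroLocus_of_isIdempotentElem e he']
    exact isClosed_zeroLocus _
  · rw [basicOpen_eq_zeroLocus_of_isIdempotentElem (1 - e) he'.one_sub]
    exact isClosed_zeroLocus _
  · rw [basicOpen_eq_zeroLocus_of_isIdempotentElem (1 - e) he'.one_sub, sub_sub_cancel]
    ext p
    simp only [Set.mem_union, SetLike.mem_coe, mem_basicOpen, mem_zeroLocus,
      Set.singleton_subset_iff, Set.mem_univ, iff_true]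
    tauto
  · rw [Set.disjoint_left]
    intro p hp hp2
    have h1 : e * (1 - e) ∈ p.asIdeal := by
      rw [mul_sub, mul_one, he'.eq, sub_self]
      exact p.asIdeal.zero_mem
    rcases p.2.mem_or_mem h1 with h2 | h2
    · exact hp h2
    · exact hp2 h2
  · ext p
    constructor
    · rintro ⟨hp, hpE⟩
      rw [← hrange] at hpE
      obtain ⟨pbar, rfl⟩ := hpE
      have : pbar ∈ (basicOpen ebar : Set _) := by
        show ebar ∉ pbar.asIdeal
        rw [← hee]
        exact hp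
      rw [← hbo] at this
      exact this
    · intro hp
      have hpE : p ∈ zeroLocus (J : Set D) := by
        rw [← hU]; exact Or.inl hp
      refine ⟨?_, hpE⟩
      rw [← hrange] at hpE
      obtain ⟨pbar, rfl⟩ := hpE
      have : pbar ∈ comap π ⁻¹' M₁ := hp
      rw [hbo] at this
      show e ∉ (comap π pbar).asIdeal
      have h2 : ebar ∉ pbar.asIdeal := this
      rw [← hee] at h2
      exact h2

/-- a nonempty closed subset of `Spec A` meets `V(I)` if `I` lies in the Jacobson radical -/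
theorem nonempty_inter_zeroLocus {I : Ideal A} (hI : I ≤ Ideal.jacobson ⊥)
    (C : Set (PrimeSpectrum A)) (hC : IsClosed C) (hne : C.Nonempty) :
    (C ∩ zeroLocus (I : Set A)).Nonempty := by
  obtain ⟨𝔞, rfl⟩ := (isClosed_iff_zeroLocus_ideal C).mp hC
  have hne' : 𝔞 ≠ ⊤ := by
    intro h
    rw [h, zeroLocus_empty_iff_eq_top.mpr rfl] at hne
    exact Set.not_nonempty_empty hne
  obtain ⟨𝔪, hm, hle⟩ := Ideal.exists_le_maximal 𝔞 hne'
  refine ⟨⟨𝔪, hm.isPrime⟩, hle, ?_⟩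
  intro x hx
  have h1 : x ∈ Ideal.jacobson (⊥ : Ideal A) := hI hx
  rw [Ideal.jacobson, Ideal.mem_sInf] at h1
  exact h1 ⟨bot_le, hm⟩

end Ring

end Groth.Agent.Lib.HensConnH4
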