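import Mathlib
import Groth.Prelude
import Groth.Agent.Lib.HensConn1_helper4
import Groth.Agent.Lib.ZConn5_helper8
import Groth.Agent.Lib.ProperLim2_helper7

/-!
# Connectedness of proper schemes of finite presentation over a henselian pair (helper4)
APPEND-ONLY once landed.

* `exists_noetherian_model`: a proper morphism of finite presentation to `Spec A` is a base change
  of a proper morphism to a Noetherian scheme (helper7's absolute Noetherian approximation).
* `relLifts_of_isFinite`: finite schemes over a henselian pair.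
* `relLifts_model`: base changes of proper morphisms over Noetherian schemes (helper8's Stein
  comparison map `nu`).
* `relLifts_of_fp`, `main17963`.
-/

set_option autoImplicit false
set_option linter.unusedVariables false
set_option linter.unusedSectionVars false
set_option linter.style.longLine false
set_option linter.style.haveILetI false
set_option maxHeartbeats 1600000

universe u

open CategoryTheory CategoryTheory.Limits AlgebraicGeometry Topology

namespace Groth.Agent.Lib.HensConnH4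

section Model

/-- Noetherian model of a proper morphism of finite presentation over an affine base. -/
theorem exists_noetherian_model {A : Type u} [CommRing A] {X : Scheme.{u}}
    (f : X ⟶ Spec (CommRingCat.of A)) [IsProper f] [LocallyOfFinitePresentation f] :
    ∃ (Y X₁ : Scheme.{u}) (_ : IsLocallyNoetherian Y) (ξ : Spec (CommRingCat.of A) ⟶ Y)
      (f₁ : X₁ ⟶ Y) (q : X ⟶ X₁), IsProper f₁ ∧ IsPullback q f f₁ ξ := by
  obtain ⟨Λ, iP, iD, iN, DS₀, cS₀, hcS₀, haff, hft, ⟨eS⟩⟩ :=
    Groth.Agent.Lib.NApxE_helper7.approx_abs (Spec (CommRingCat.of A))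
  haveI : ∀ (i j : Λᵒᵖ) (g : i ⟶ j), IsAffineHom (DS₀.map g) := haff
  haveI : ∀ k, CompactSpace (DS₀.obj k) := fun k => (hft k).1
  have hnoeth : ∀ k, IsNoetherian (DS₀.obj k) := fun k =>
    Groth.Agent.Lib.NApxD1_helper7.isNoetherian_of_ftz (DS₀.obj k) (hft k).2
  haveI : ∀ k, QuasiSeparatedSpace (DS₀.obj k) := fun k => by
    haveI := hnoeth k
    infer_instance
  haveI : IsProper (f ≫ eS.inv) := inferInstance
  haveI : LocallyOfFinitePresentation (f ≫ eS.inv) := inferInstance
  obtain ⟨i, X₁₀, h₀, q, hp0, hfp0, sq⟩ :=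
    Groth.Agent.Lib.ProperLim2H7.exists_proper_descent DS₀ cS₀ hcS₀ (f ≫ eS.inv)
  haveI := hnoeth i
  refine ⟨DS₀.obj i, X₁₀, inferInstance, eS.inv ≫ cS₀.π.app i, h₀, q, hp0, ?_⟩
  have h1 : IsPullback (𝟙 X) f (f ≫ eS.inv) eS.inv := IsPullback.of_horiz_isIso ⟨by simp⟩
  have h2 := h1.paste_horiz sq
  rwa [Category.id_comp] at h2

end Model

section Locus

variable {A : Type u} [CommRing A] (I : Ideal A)

/-- the closed subset of `X` lying over `V(I)` -/
def locus {X : Scheme.{u}} (f : X ⟶ Spec (CommRingCat.of A)) : Set X :=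
  f ⁻¹' (PrimeSpectrum.zeroLocus (I : Set A) : Set (PrimeSpectrum A))

theorem isClosed_locus {X : Scheme.{u}} (f : X ⟶ Spec (CommRingCat.of A)) :
    IsClosed (locus I f) :=
  (PrimeSpectrum.isClosed_zeroLocus _).preimage f.continuous

theorem locus_comp {X X' : Scheme.{u}} (e : X' ⟶ X) (f : X ⟶ Spec (CommRingCat.of A)) :
    locus I (e ≫ f) = e ⁻¹' locus I f := rfl

theorem nonempty_inter_locus (hI : I ≤ Ideal.jacobson ⊥) {X : Scheme.{u}}
    (f : X ⟶ Spec (CommRingCat.of A)) [IsProper f] (C : Set X) (hC : IsClosed C)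
    (hne : C.Nonempty) : (C ∩ locus I f).Nonempty := by
  have h1 := nonempty_inter_zeroLocus hI (f '' C) (f.isClosedMap _ hC) (hne.image _)
  obtain ⟨_, ⟨x, hx, rfl⟩, hx2⟩ := h1
  exact ⟨x, hx, hx2⟩

end Locus

section Hens

variable {A : Type u} [CommRing A] (I : Ideal A) [hI : HenselianRing A I]

theorem relLifts_of_isFinite {Z : Scheme.{u}} (g : Z ⟶ Spec (CommRingCat.of A)) [IsFinite g] :
    RelLifts (Set.univ : Set Z) (locus I g) := by
  haveI : IsAffine Z := isAffine_of_isAffineHom g
  let ψ : Spec Γ(Z, ⊤) ⟶ Spec (CommRingCat.of A) := Z.isoSpec.inv ≫ g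
  let φ : CommRingCat.of A ⟶ Γ(Z, ⊤) := Spec.preimage ψ
  have hφ : Spec.map φ = ψ := Spec.map_preimage ψ
  haveI : IsFinite ψ := inferInstance
  have hfin : φ.hom.Finite := by
    rw [← IsFinite.SpecMap_iff, hφ]
    infer_instance
  letI : Algebra A Γ(Z, ⊤) := φ.hom.toAlgebra
  haveI : Module.Finite A Γ(Z, ⊤) := hfin
  haveI : Algebra.IsIntegral A Γ(Z, ⊤) := inferInstance
  have h1 := relLifts_primeSpectrum hI Γ(Z, ⊤)
  let e : Z ≃ₜ PrimeSpectrum Γ(Z, ⊤) := Scheme.homeoOfIso Z.isoSpec
  have h2 := h1.of_homeomorph e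
  have hg : g = Z.isoSpec.hom ≫ Spec.map φ := by
    rw [hφ]
    exact (Iso.hom_inv_id_assoc _ _).symm
  have key : ∀ p : PrimeSpectrum Γ(Z, ⊤),
      PrimeSpectrum.comap φ.hom p ∈ PrimeSpectrum.zeroLocus (I : Set A) ↔
        p ∈ PrimeSpectrum.zeroLocus (I.map (algebraMap A Γ(Z, ⊤)) : Set Γ(Z, ⊤)) := by
    intro p
    rw [PrimeSpectrum.mem_zeroLocus, PrimeSpectrum.mem_zeroLocus, SetLike.coe_subset_coe,
      SetLike.coe_subset_coe, Ideal.map_le_iff_le_comap]
    rfl
  have hloc : locus I g = e ⁻¹' PrimeSpectrum.zeroLocus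
      (I.map (algebraMap A Γ(Z, ⊤)) : Set Γ(Z, ⊤)) := by
    ext z
    have h3 : (g z : PrimeSpectrum A) = PrimeSpectrum.comap φ.hom (e z) := by
      rw [hg]
      rfl
    have h5 : (z ∈ locus I g) =
        (PrimeSpectrum.comap φ.hom (e z) ∈ PrimeSpectrum.zeroLocus (I : Set A)) :=
      congrArg (fun p : PrimeSpectrum A => p ∈ PrimeSpectrum.zeroLocus (I : Set A)) h3
    rw [h5]
    exact key (e z)
  rw [hloc]
  exact h2

theorem relLifts_model {Y X₁ : Scheme.{u}} [IsLocallyNoetherian Y] (f₁ : X₁ ⟶ Y) [IsProper f₁]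
    (ξ : Spec (CommRingCat.of A) ⟶ Y) :
    RelLifts (Set.univ : Set ↥(pullback f₁ ξ)) (locus I (pullback.snd f₁ ξ)) := by
  haveI : IsFinite f₁.fromNormalization := SteinFinH3.main1297 f₁
  haveI : IsFinite (pullback.snd f₁.fromNormalization ξ) :=
    MorphismProperty.pullback_snd _ _ inferInstance
  have h1 := relLifts_of_isFinite I (pullback.snd f₁.fromNormalization ξ)
  haveI : IsProper f₁.toNormalization := Groth.Agent.Lib.ZConnH8.isProper_toNormalization f₁
  haveI : IsProper (Groth.Agent.Lib.ZConnH8.nu f₁ ξ) :=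
    MorphismProperty.of_isPullback (P := @IsProper)
      (Groth.Agent.Lib.ZConnH8.isPullback_nu f₁ ξ).flip inferInstance
  have h2 := h1.preimage (Groth.Agent.Lib.ZConnH8.nu f₁ ξ).continuous
    (Groth.Agent.Lib.ZConnH8.nu f₁ ξ).isClosedMap
    (Groth.Agent.Lib.ZConnH8.surjective_nu f₁ ξ)
    (fun z => (Groth.Agent.Lib.ZConnH8.isConnected_nu_fibre f₁ ξ z).isPreconnected)
  have hloc : locus I (pullback.snd f₁ ξ) = (Groth.Agent.Lib.ZConnH8.nu f₁ ξ) ⁻¹'
      locus I (pullback.snd f₁.fromNormalization ξ) := by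
    rw [← locus_comp, Groth.Agent.Lib.ZConnH8.nu_snd]
  rw [hloc]
  exact h2

theorem relLifts_of_fp {X : Scheme.{u}} (f : X ⟶ Spec (CommRingCat.of A)) [IsProper f]
    [LocallyOfFinitePresentation f] : RelLifts (Set.univ : Set X) (locus I f) := by
  obtain ⟨Y, X₁, hY, ξ, f₁, q, hp, sq⟩ := exists_noetherian_model f
  haveI := hY
  haveI := hp
  have h1 := relLifts_model I f₁ ξ
  have h2 := h1.of_homeomorph (Scheme.homeoOfIso sq.isoPullback)
  have hloc : locus I f = (Scheme.homeoOfIso sq.isoPullback) ⁻¹'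
      locus I (pullback.snd f₁ ξ) := by
    have h3 : f = sq.isoPullback.hom ≫ pullback.snd f₁ ξ := sq.isoPullback_hom_snd.symm
    conv_lhs => rw [h3]
    rfl
  rw [hloc]
  exact h2

/-- the base change to `A ⧸ I` is homeomorphic to the locus -/
theorem connectedSpace_pullback_iff {X : Scheme.{u}} (f : X ⟶ Spec (CommRingCat.of A)) :
    ConnectedSpace ↥(pullback f (Spec.map (CommRingCat.ofHom (Ideal.Quotient.mk I)))) ↔
      _root_.IsConnected (locus I f) := by
  have hemb : IsClosedEmbedding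
      (pullback.fst f (Spec.map (CommRingCat.ofHom (Ideal.Quotient.mk I)))) :=
    (pullback.fst f (Spec.map (CommRingCat.ofHom (Ideal.Quotient.mk I)))).isClosedEmbedding
  have hrange : Set.range (pullback.fst f (Spec.map (CommRingCat.ofHom (Ideal.Quotient.mk I)))) =
      locus I f := by
    rw [Scheme.Pullback.range_fst]
    have h1 : Set.range (Spec.map (CommRingCat.ofHom (Ideal.Quotient.mk I))) =
        (PrimeSpectrum.zeroLocus (I : Set A) : Set (PrimeSpectrum A)) := by
      have h2 := _root_.range_comap_of_surjective (A ⧸ I) (Ideal.Quotient.mk I)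
        Ideal.Quotient.mk_surjective
      rw [Ideal.mk_ker] at h2
      exact h2
    rw [h1]
    rfl
  rw [← hrange, isConnected_iff_connectedSpace]
  exact (hemb.isEmbedding.toHomeomorph).connectedSpace_iff

theorem main17963 {X : Scheme.{u}} (f : X ⟶ Spec (CommRingCat.of A)) [IsProper f]
    [LocallyOfFinitePresentation f] :
    ConnectedSpace ↥X ↔
      ConnectedSpace ↥(pullback f (Spec.map (CommRingCat.ofHom (Ideal.Quotient.mk I)))) := by
  rw [connectedSpace_pullback_iff I f]
  exact connectedSpace_iff_of_relLifts (isClosed_locus I f) (relLifts_of_fp I f)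
    (nonempty_inter_locus I hI.jac f)

end Hens

end Groth.Agent.Lib.HensConnH4
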