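import Mathlib
import Groth.Prelude
import Groth.Agent.Lib.HensConn2_helper4
import Groth.Agent.Lib.IdealFT2_helper7

/-!
# Connected components of proper schemes over a henselian pair, without finite presentation
(helper4)
APPEND-ONLY once landed.

* `relLifts_of_isProper`: for `X` proper over a henselian pair `(A, I)`, every closed decomposition
  of the part of `X` over `V(I)` lifts to a clopen decomposition of `X` (limit argument over the
  finite type sub ideal sheaves of a closed immersion into a proper scheme of finite presentation).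
* `bijective_connectedComponentsMap`: the topological `π₀` bijection.
* `main8533`.
-/

set_option autoImplicit false
set_option linter.unusedVariables false
set_option linter.unusedSectionVars false
set_option linter.style.longLine false
set_option linter.style.haveILetI false
set_option maxHeartbeats 1600000

universe u

open CategoryTheory CategoryTheory.Limits AlgebraicGeometry Topology

namespace Groth.Agent.Lib.HensConnH4

section Top

variable {X X₀ : Type*} [TopologicalSpace X] [TopologicalSpace X₀]

/-- the `π₀` bijection -/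
theorem bijective_connectedComponentsMap {k : X₀ → X} (hk : IsClosedEmbedding k)
    (hmeet : ∀ C : Set X, IsClosed C → C.Nonempty → (C ∩ Set.range k).Nonempty)
    (hrel : ∀ F : Set X, IsClosed F → IsPreconnected F → RelLifts F (Set.range k)) :
    Function.Bijective (Continuous.connectedComponentsMap hk.continuous) := by
  constructor
  · intro a b hab
    obtain ⟨y, rfl⟩ := ConnectedComponents.surjective_coe a
    obtain ⟨y', rfl⟩ := ConnectedComponents.surjective_coe b
    rw [Continuous.connectedComponentsMap_mk, Continuous.connectedComponentsMap_mk,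
      ConnectedComponents.coe_eq_coe'] at hab
    -- `k y ∈ connectedComponent (k y')`
    set F := connectedComponent (k y') with hF
    have hFc : IsClosed F := isClosed_connectedComponent
    have hFp : IsPreconnected F := isPreconnected_connectedComponent
    have h1 : IsPreconnected (F ∩ Set.range k) :=
      isPreconnected_inter_of_relLifts hFp hFc hk.isClosed_range (hrel F hFc hFp)
    have h2 : IsPreconnected (k ⁻¹' F) := by
      rw [← hk.isInducing.isPreconnected_image, Set.image_preimage_eq_inter_range]
      exact h1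
    rw [ConnectedComponents.coe_eq_coe']
    have hy : y ∈ k ⁻¹' F := hab
    have hy' : y' ∈ k ⁻¹' F := mem_connectedComponent
    exact h2.subset_connectedComponent hy' hy
  · intro c
    obtain ⟨x, rfl⟩ := ConnectedComponents.surjective_coe c
    obtain ⟨_, hz, ⟨y, rfl⟩⟩ := hmeet (connectedComponent x) isClosed_connectedComponent
      ⟨x, mem_connectedComponent⟩
    refine ⟨(y : ConnectedComponents X₀), ?_⟩
    rw [Continuous.connectedComponentsMap_mk, ConnectedComponents.coe_eq_coe']
    exact hz

end Top

section Sch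

theorem exists_compact_open {X : Scheme.{u}} (K U : Set X) (hK : IsCompact K) (hU : IsOpen U)
    (hKU : K ⊆ U) : ∃ O : Set X, IsOpen O ∧ IsCompact O ∧ K ⊆ O ∧ O ⊆ U := by
  have hex : ∀ x : X, x ∈ K → ∃ V : X.Opens, IsAffineOpen V ∧ x ∈ V ∧ (V : Set X) ⊆ U := by
    intro x hx
    obtain ⟨_, ⟨V, hV, rfl⟩, hxV, hVU⟩ :=
      X.isBasis_affineOpens.exists_subset_of_mem_open (hKU hx) hU
    exact ⟨V, hV, hxV, hVU⟩
  choose! V hV hxV hVU using hex
  obtain ⟨t, ht⟩ := hK.elim_nhds_subcover' (fun x hx => (V x : Set X))
    (fun x hx => (V x).isOpen.mem_nhds (hxV x hx))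
  refine ⟨⋃ x ∈ t, (V x.1 : Set X), isOpen_biUnion fun x _ => (V x.1).isOpen,
    t.isCompact_biUnion fun x _ => (hV x.1 x.2).isCompact, ht, ?_⟩
  exact Set.iUnion₂_subset fun x _ => hVU x.1 x.2

variable {A : Type u} [CommRing A] (I : Ideal A) [hI : HenselianRing A I]

theorem relLifts_of_isProper {X : Scheme.{u}} (f : X ⟶ Spec (CommRingCat.of A)) [IsProper f] :
    RelLifts (Set.univ : Set X) (locus I f) := by
  obtain ⟨X₁, h₁, ι₁, hp1, hfp1, hcl1, hfac⟩ :=
    Groth.Agent.Lib.ProperLim2H7.exists_proper_fp f
  haveI := hp1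
  haveI := hfp1
  haveI := hcl1
  haveI : CompactSpace X₁ := QuasiCompact.compactSpace_of_compactSpace h₁
  haveI : QuasiSeparatedSpace X₁ := quasiSeparatedSpace_of_quasiSeparated h₁
  -- the finite type sub ideal sheaves
  let c : Set X₁.IdealSheafData := {J | J ≤ ι₁.ker ∧ ∀ W : X₁.affineOpens, (J.ideal W).FG}
  have hbot : (⊥ : X₁.IdealSheafData) ∈ c := ⟨bot_le, Groth.Agent.Lib.IdealFTH7.ft_bot⟩
  haveI : Nonempty ↥c := ⟨⟨⊥, hbot⟩⟩
  have hsup : sSup c = ι₁.ker := Groth.Agent.Lib.IdealFTH7.sSup_ft_eq ι₁.ker
  -- each member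
  have hmem : ∀ J : ↥c, RelLifts ((J.1.support : Set X₁)) (locus I h₁) := by
    intro J
    haveI : LocallyOfFinitePresentation J.1.subschemeι :=
      Groth.Agent.Lib.IdealFTH7.lfp_of_ft J.1 J.2.2
    have h1 := relLifts_of_fp I (J.1.subschemeι ≫ h₁)
    rw [locus_comp] at h1
    have h2 := (relLifts_range_iff (J.1.subschemeι.isClosedEmbedding) (locus I h₁)).mpr h1
    rwa [Scheme.IdealSheafData.range_subschemeι] at h2
  have hdir : Directed (· ⊇ ·) (fun J : ↥c => (J.1.support : Set X₁)) := by
    intro a b
    have hab : a.1 ⊔ b.1 ∈ c :=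
      ⟨sup_le a.2.1 b.2.1, Groth.Agent.Lib.IdealFTH7.ft_sup a.2.2 b.2.2⟩
    refine ⟨⟨a.1 ⊔ b.1, hab⟩, ?_, ?_⟩
    · exact Scheme.IdealSheafData.support_antitone (le_sup_left : a.1 ≤ a.1 ⊔ b.1)
    · exact Scheme.IdealSheafData.support_antitone (le_sup_right : b.1 ≤ a.1 ⊔ b.1)
  have hlim := RelLifts.of_directed_iInter (X := X₁)
    (fun K U hK hU hKU => exists_compact_open K U hK hU hKU)
    (fun O O' h1 h2 h3 h4 => QuasiSeparatedSpace.inter_isCompact O O' h1 h2 h3 h4)
    (fun J : ↥c => (J.1.support : Set X₁)) (fun J => J.1.support.isClosed) hdir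
    (isClosed_locus I h₁) hmem
  have hInter : (⋂ J : ↥c, (J.1.support : Set X₁)) = Set.range ι₁ := by
    have h1 : ((sSup c).support : Set X₁) = ⋂ J : ↥c, (J.1.support : Set X₁) := by
      rw [Scheme.IdealSheafData.support_sSup]
      ext x
      simp only [TopologicalSpace.Closeds.coe_iInf, Set.mem_iInter, SetLike.mem_coe,
        Subtype.forall]
    rw [← h1, hsup, Scheme.Hom.support_ker, ι₁.isClosedEmbedding.isClosed_range.closure_eq]
  rw [hInter] at hlim
  have h3 := (relLifts_range_iff ι₁.isClosedEmbedding (locus I h₁)).mp hlim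
  rw [← locus_comp, hfac] at h3
  exact h3

end Sch

section Local

variable (A : Type u) [CommRing A] [HenselianLocalRing A]

theorem zeroLocus_maximalIdeal :
    (PrimeSpectrum.zeroLocus (IsLocalRing.maximalIdeal A : Set A) : Set (PrimeSpectrum A)) =
      {IsLocalRing.closedPoint A} := by
  ext p
  rw [PrimeSpectrum.mem_zeroLocus, SetLike.coe_subset_coe, Set.mem_singleton_iff]
  constructor
  · intro h
    ext1
    exact ((IsLocalRing.maximalIdeal.isMaximal A).eq_of_le p.2.ne_top h).symm
  · rintro rfl
    exact le_rfl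

theorem main8533 {X : Scheme.{u}} (f : X ⟶ Spec (CommRingCat.of A)) [IsProper f] :
    Function.Bijective
      (Continuous.connectedComponentsMap
        (f.fiberι ((IsLocalRing.closedPoint A : PrimeSpectrum A) :
          ↥(Spec (CommRingCat.of A)))).continuous) := by
  haveI : HenselianRing A (IsLocalRing.maximalIdeal A) := inferInstance
  set s : ↥(Spec (CommRingCat.of A)) := (IsLocalRing.closedPoint A : PrimeSpectrum A) with hs
  have hrange : Set.range (f.fiberι s) = locus (IsLocalRing.maximalIdeal A) f := by
    rw [Scheme.Hom.range_fiberι]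
    show f ⁻¹' {s} = f ⁻¹' _
    rw [zeroLocus_maximalIdeal]
    rfl
  have hcl : IsClosedEmbedding (f.fiberι s) := by
    refine ⟨(f.fiberι s).isEmbedding, ?_⟩
    rw [hrange]
    exact isClosed_locus _ f
  apply bijective_connectedComponentsMap hcl
  · intro C hC hne
    rw [hrange]
    exact nonempty_inter_locus _ (HenselianRing.jac) f C hC hne
  · intro F hF _
    rw [hrange]
    -- the reduced induced closed subscheme on `F`
    let Z : TopologicalSpace.Closeds X := ⟨F, hF⟩
    let J := Scheme.IdealSheafData.vanishingIdeal Z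
    have h1 := relLifts_of_isProper (IsLocalRing.maximalIdeal A) (J.subschemeι ≫ f)
    rw [locus_comp] at h1
    have h2 := (relLifts_range_iff (J.subschemeι.isClosedEmbedding)
      (locus (IsLocalRing.maximalIdeal A) f)).mpr h1
    rw [Scheme.IdealSheafData.range_subschemeι] at h2
    have h3 : ((J.support : TopologicalSpace.Closeds X) : Set X) = F :=
      Scheme.IdealSheafData.coe_support_vanishingIdeal Z
    rwa [h3] at h2

end Local

end Groth.Agent.Lib.HensConnH4
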