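import Mathlib
import Groth.Prelude
import Groth.Agent.Lib.FlatLocalExt5_helper3
import Groth.Agent.Lib.Henselization7_helper3

/-!
# Non-Noetherian Stein factorization, part 1: flat henselian local algebras with prescribed residue
field (helper8)
APPEND-ONLY once landed.
-/

set_option autoImplicit false
set_option linter.all false
set_option maxHeartbeats 1600000

universe u

open IsLocalRing

namespace Groth.Agent.Lib.SteinNNH8

/-- for every ring map to a field there is a flat henselian local algebra whose residue field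
contains the field -/
theorem exists_henselian_local {A K : Type u} [CommRing A] [Field K] (φ : A →+* K) :
    ∃ (C : Type u) (_ : CommRing C) (_ : HenselianLocalRing C) (γ : A →+* C) (_ : γ.Flat)
      (κ : K →+* C ⧸ maximalIdeal C), κ.comp φ = (Ideal.Quotient.mk (maximalIdeal C)).comp γ := by
  classical
  haveI hp : (RingHom.ker φ).IsPrime := RingHom.ker_isPrime φ
  let R := Localization.AtPrime (RingHom.ker φ)
  have hunit : ∀ y : (RingHom.ker φ).primeCompl, IsUnit (φ y) := by
    intro y
    rw [isUnit_iff_ne_zero]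
    intro h
    exact y.2 ((RingHom.mem_ker).mpr h)
  let φ' : R →+* K := IsLocalization.lift (M := (RingHom.ker φ).primeCompl) (g := φ) hunit
  have hφ' : ∀ a : A, φ' (algebraMap A R a) = φ a := fun a => IsLocalization.lift_eq _ a
  haveI : IsLocalHom φ' := by
    refine ⟨fun x hx => ?_⟩
    obtain ⟨a, s, rfl⟩ := IsLocalization.exists_mk'_eq (RingHom.ker φ).primeCompl x
    rw [IsLocalization.lift_mk'] at hx
    have ha : a ∈ (RingHom.ker φ).primeCompl := by
      intro h
      rw [SetLike.mem_coe, RingHom.mem_ker] at h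
      rw [h, zero_mul] at hx
      exact not_isUnit_zero hx
    exact (IsLocalization.AtPrime.isUnit_mk'_iff R (RingHom.ker φ) a s).mpr ha
  obtain ⟨B, _, _, ψ, hψs, hgood⟩ := Groth.Agent.Lib.FlatLocalExtH3.exists_good φ'
  haveI : IsLocalRing B := hgood.toPreGood.isLocalRing
  haveI : IsLocalHom ψ := hgood.toPreGood.isLocalHom
  haveI : Module.Flat R B := hgood.flat
  let C := Groth.Agent.Lib.HenselizationH3.Hens B
  let γ : A →+* C := (algebraMap B C).comp ((algebraMap R B).comp (algebraMap A R))
  have hγ : γ.Flat := by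
    have h1 : (algebraMap A R).Flat := RingHom.flat_algebraMap_iff.mpr
      (IsLocalization.flat R (RingHom.ker φ).primeCompl)
    have h2 : (algebraMap R B).Flat := RingHom.flat_algebraMap_iff.mpr inferInstance
    have h3 : (algebraMap B C).Flat := RingHom.flat_algebraMap_iff.mpr inferInstance
    exact (h1.comp h2).comp h3
  let q : B →+* C ⧸ maximalIdeal C := (Ideal.Quotient.mk (maximalIdeal C)).comp (algebraMap B C)
  have hq : RingHom.ker ψ ≤ RingHom.ker q := by
    intro b hb
    rw [IsLocalRing.ker_eq_maximalIdeal ψ hψs] at hb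
    rw [RingHom.mem_ker]
    show Ideal.Quotient.mk (maximalIdeal C) (algebraMap B C b) = 0
    rw [Ideal.Quotient.eq_zero_iff_mem]
    rw [IsLocalRing.mem_maximalIdeal] at hb ⊢
    exact (map_mem_nonunits_iff (algebraMap B C) b).mpr hb
  let κ : K →+* C ⧸ maximalIdeal C := ψ.liftOfSurjective hψs ⟨q, hq⟩
  have hκ : κ.comp ψ = q := RingHom.liftOfSurjective_comp ψ hψs ⟨q, hq⟩
  refine ⟨C, inferInstance, inferInstance, γ, hγ, κ, ?_⟩
  ext a
  show κ (φ a) = Ideal.Quotient.mk (maximalIdeal C) (γ a)
  rw [← hφ', ← hgood.toPreGood.comp_apply]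
  exact RingHom.congr_fun hκ _

end Groth.Agent.Lib.SteinNNH8
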