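import Mathlib
import Groth.Prelude
import Groth.Agent.Lib.SteinNN1_helper8
import Groth.Agent.Lib.HensConn3_helper4
import Groth.Agent.Lib.SteinSections_helper7

/-!
# Non-Noetherian Stein factorization, part 2: Zariski's connectedness theorem for proper morphisms
without finiteness hypotheses (helper8)
APPEND-ONLY once landed.
-/

set_option autoImplicit false
set_option linter.all false
set_option maxHeartbeats 1600000

universe u

open CategoryTheory CategoryTheory.Limits AlgebraicGeometry TopologicalSpace Opposite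

namespace Groth.Agent.Lib.SteinNNH8

open Groth.Agent.Lib.FFGammaH8 Groth.Agent.Lib.HensProperH8 Groth.Agent.Lib.SchemeIdemH3
  Groth.Agent.Lib.ZConnH8 Groth.Agent.Lib.HensConnH4

/-- the closed fibre of a connected proper scheme over a henselian local ring is connected -/
theorem connectedSpace_closedFibre' (C : Type u) [CommRing C] [HenselianLocalRing C]
    {X : Scheme.{u}} (p : X ⟶ Spec (CommRingCat.of C)) [IsProper p] [ConnectedSpace ↥X] :
    ConnectedSpace ↥(pullback p (Spec.map (CommRingCat.ofHom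
      (Ideal.Quotient.mk (IsLocalRing.maximalIdeal C))))) := by
  haveI hH : HenselianRing C (IsLocalRing.maximalIdeal C) := inferInstance
  rw [connectedSpace_pullback_iff (IsLocalRing.maximalIdeal C) p]
  exact (connectedSpace_iff_of_relLifts (isClosed_locus _ p)
    (relLifts_of_isProper (IsLocalRing.maximalIdeal C) p)
    (nonempty_inter_locus _ hH.jac p)).mp inferInstance

section Main

variable {X Y : Scheme.{u}} (f : X ⟶ Y) [IsProper f]

/-- flat base change of global functions -/
theorem isIso_appTop_snd' {U : Y.Opens} (hU : IsAffineOpen U) (hfU : IsIso (f.app U))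
    {C : CommRingCat.{u}} (η : Spec C ⟶ Y) [Flat η] (hη : η ⁻¹ᵁ U = ⊤) :
    IsIso (pullback.snd f η).appTop := by
  have H : IsPullback (pullback.fst f η) (pullback.snd f η) f η := IsPullback.of_hasPullback f η
  have hUST : (⊤ : (Spec C).Opens) ≤ η ⁻¹ᵁ U := by rw [hη]
  have hUSX : f ⁻¹ᵁ U ≤ f ⁻¹ᵁ U := le_rfl
  have hUY : (⊤ : (pullback f η).Opens) =
      (pullback.fst f η) ⁻¹ᵁ (f ⁻¹ᵁ U) ⊓ (pullback.snd f η) ⁻¹ᵁ ⊤ := by
    have h1 : (pullback.fst f η) ⁻¹ᵁ (f ⁻¹ᵁ U) = (pullback.snd f η) ⁻¹ᵁ (η ⁻¹ᵁ U) := by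
      rw [← Scheme.Hom.comp_preimage, ← Scheme.Hom.comp_preimage, pullback.condition]
    rw [h1, hη]
    ext x
    simp
  have hcomp : IsCompact (X := X) (f ⁻¹ᵁ U) := f.isCompact_preimage hU.isCompact
  have hqs : IsQuasiSeparated (α := X) (f ⁻¹ᵁ U) := f.isQuasiSeparated_preimage hU.isQuasiSeparated
  have h1 := isIso_pushoutSection_of_isQuasiSeparated_of_flat_right H hUST hUSX hUY hU
    (isAffineOpen_top _) hcomp hqs
  have h2 := (isIso_pushoutSection_iff H hUST hUSX hUY).1 h1
  haveI : IsIso (f.appLE U (f ⁻¹ᵁ U) hUSX) := by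
    rw [← Scheme.Hom.app_eq_appLE]; exact hfU
  have h3 := h2.isIso_inr_of_isIso
  have h4 : (pullback.snd f η).appLE ⊤ ⊤ (fun _ _ => trivial) = (pullback.snd f η).appTop :=
    (Scheme.Hom.app_eq_appLE (f := pullback.snd f η) (U := ⊤)).symm
  rw [h4] at h3
  exact h3

/-- connectedness of `X ×_Y Spec K` when `O_Y(U) → O_X(f⁻¹U)` is an isomorphism for one affine
open neighbourhood `U` of the image point; no finiteness hypotheses -/
theorem connectedSpace_pullback_of_affine' (K : Type u) [Field K]
    (ξ : Spec (CommRingCat.of K) ⟶ Y) {U : Y.Opens} (hU : IsAffineOpen U)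
    (hfU : IsIso (f.app U)) (hyU : ξ.base (⊥ : PrimeSpectrum K) ∈ U) :
    ConnectedSpace ↥(pullback f ξ) := by
  let pt : Spec (CommRingCat.of K) := (⊥ : PrimeSpectrum K)
  have hrange : Set.range ξ.base ⊆ Set.range hU.fromSpec.base := by
    rw [hU.range_fromSpec]
    rintro _ ⟨z, rfl⟩
    have : z = pt := Subsingleton.elim (α := PrimeSpectrum K) _ _
    rw [this]
    exact hyU
  let ξ' : Spec (CommRingCat.of K) ⟶ Spec Γ(Y, U) := IsOpenImmersion.lift hU.fromSpec ξ hrange
  have hξ' : ξ' ≫ hU.fromSpec = ξ := IsOpenImmersion.lift_fac _ _ _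
  let φ : Γ(Y, U) →+* K := (Spec.preimage ξ').hom
  have hφ : Spec.map (CommRingCat.ofHom φ) = ξ' := Spec.map_preimage ξ'
  obtain ⟨C, _, _, γ, hγ, κ, hκ⟩ := exists_henselian_local φ
  let η : Spec (CommRingCat.of C) ⟶ Y := Spec.map (CommRingCat.ofHom γ) ≫ hU.fromSpec
  haveI : Flat (Spec.map (CommRingCat.ofHom γ)) := Flat.SpecMap_iff.mpr hγ
  haveI : Flat η := inferInstance
  have hη : η ⁻¹ᵁ U = ⊤ := by
    show (Spec.map (CommRingCat.ofHom γ) ≫ hU.fromSpec) ⁻¹ᵁ U = ⊤
    rw [Scheme.Hom.comp_preimage, hU.fromSpec_preimage_self]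
    rfl
  haveI hiso : IsIso (pullback.snd f η).appTop := isIso_appTop_snd' f hU hfU η hη
  -- the ring of functions of `X ×_Y Spec C` is local
  let e1 : C ≃+* Γ(Spec (CommRingCat.of C), ⊤) :=
    (Scheme.ΓSpecIso (CommRingCat.of C)).symm.commRingCatIsoToRingEquiv
  let e2 : Γ(Spec (CommRingCat.of C), ⊤) ≃+* Γ(pullback f η, ⊤) :=
    (asIso (pullback.snd f η).appTop).commRingCatIsoToRingEquiv
  haveI : IsLocalRing Γ(pullback f η, ⊤) := (e1.trans e2).isLocalRing
  haveI : ConnectedSpace ↥(pullback f η) := connectedSpace_of_isLocalRing _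
  haveI hconn := connectedSpace_closedFibre' C (pullback.snd f η)
  -- transfer
  let mk := Spec.map (CommRingCat.ofHom (Ideal.Quotient.mk (IsLocalRing.maximalIdeal C)))
  let e := pullbackLeftPullbackSndIso f η mk
  have hξ'' : mk ≫ η = Spec.map (CommRingCat.ofHom κ) ≫ ξ := by
    rw [← hξ', ← hφ]
    show mk ≫ Spec.map (CommRingCat.ofHom γ) ≫ hU.fromSpec = _
    rw [← Category.assoc, ← Category.assoc, ← Spec.map_comp, ← Spec.map_comp,
      ← CommRingCat.ofHom_comp, ← CommRingCat.ofHom_comp, hκ]
  haveI : ConnectedSpace ↥(pullback f (mk ≫ η)) :=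
    Function.Surjective.connectedSpace (Scheme.homeoOfIso e).surjective
      (Scheme.homeoOfIso e).continuous
  haveI : ConnectedSpace ↥(pullback f (Spec.map (CommRingCat.ofHom κ) ≫ ξ)) := by
    rw [← hξ'']; infer_instance
  let e' := pullbackLeftPullbackSndIso f ξ (Spec.map (CommRingCat.ofHom κ))
  haveI : Surjective (Spec.map (CommRingCat.ofHom κ)) := by
    constructor
    intro y
    haveI : Nontrivial (C ⧸ IsLocalRing.maximalIdeal C) :=
      Ideal.Quotient.nontrivial_iff.mpr (IsLocalRing.maximalIdeal.isMaximal C).ne_top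
    obtain ⟨x⟩ : Nonempty (PrimeSpectrum (C ⧸ IsLocalRing.maximalIdeal C)) := inferInstance
    exact ⟨x, Subsingleton.elim (α := PrimeSpectrum K) _ _⟩
  haveI : Surjective (pullback.fst (pullback.snd f ξ) (Spec.map (CommRingCat.ofHom κ))) :=
    MorphismProperty.pullback_fst _ _ inferInstance
  have hsurj : Function.Surjective
      (e'.inv ≫ pullback.fst (pullback.snd f ξ) (Spec.map (CommRingCat.ofHom κ))).base := by
    rw [Scheme.Hom.comp_base]
    exact (Scheme.Hom.surjective
      (pullback.fst (pullback.snd f ξ) (Spec.map (CommRingCat.ofHom κ)))).comp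
      (Scheme.homeoOfIso e'.symm).surjective
  exact Function.Surjective.connectedSpace hsurj (Scheme.Hom.continuous _)

theorem connectedSpace_pullback' (hf : ∀ U : Y.Opens, IsIso (f.app U)) (K : Type u) [Field K]
    (ξ : Spec (CommRingCat.of K) ⟶ Y) : ConnectedSpace ↥(pullback f ξ) := by
  obtain ⟨_, ⟨U, hU, rfl⟩, hyU, -⟩ := Y.isBasis_affineOpens.exists_subset_of_mem_open
    (Set.mem_univ (ξ.base (⊥ : PrimeSpectrum K))) isOpen_univ
  exact connectedSpace_pullback_of_affine' f K ξ hU (hf U) hyU

/-- **Zariski's connectedness theorem**, no finiteness hypotheses -/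
theorem geometricallyConnected_of_isIso_app (hf : ∀ U : Y.Opens, IsIso (f.app U)) :
    GeometricallyConnected f := by
  refine ⟨?_⟩
  intro K _ ξ Z fst snd h
  haveI := connectedSpace_pullback' f hf K ξ
  exact Function.Surjective.connectedSpace (Scheme.homeoOfIso h.isoPullback.symm).surjective
    (Scheme.homeoOfIso h.isoPullback.symm).continuous

end Main

/-- **Stein factorization, general form** (Stacks 03H0): geometric connectedness of the fibres of
`X ⟶ S'` -/
theorem geometricallyConnected_toNormalization {X S : Scheme.{u}} (f : X ⟶ S) [IsProper f] :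
    GeometricallyConnected f.toNormalization := by
  haveI : IsProper (f.toNormalization ≫ f.fromNormalization) := by
    rw [f.toNormalization_fromNormalization]; infer_instance
  haveI : IsProper f.toNormalization := IsProper.of_comp f.toNormalization f.fromNormalization
  exact geometricallyConnected_of_isIso_app f.toNormalization
    (fun U => Groth.Agent.Lib.SteinSectionsH7.isIso_toNormalization_app f U)

end Groth.Agent.Lib.SteinNNH8
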