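import Mathlib
import Groth.Prelude
import Groth.Agent.Lib.FEtAb5_helper4

/-!
# Connected finite étale covers of abelian varieties are dominated by multiplication maps
(helper4)
-/

set_option linter.style.haveILetI false
set_option linter.unusedSectionVars false
set_option linter.unusedVariables false
set_option maxHeartbeats 1600000

universe u

open CategoryTheory CategoryTheory.Limits MonoidalCategory CartesianMonoidalCategory MonObj
  AlgebraicGeometry TopologicalSpace

namespace Groth.Agent.Lib.FEtAbH4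

open Groth.Agent.Lib.AbSchRigidH4

section Field

variable (k : Type u) [Field k] [IsAlgClosed k]

/-- a finite étale morphism from a nonempty scheme to a connected scheme is surjective -/
theorem surjective_of_finite_etale {Z X : Scheme.{u}} (f : Z ⟶ X) [IsFinite f] [Etale f]
    [Nonempty ↥Z] [PreconnectedSpace ↥X] : Surjective f := by
  have hcl : IsClosed (Set.range f.base) := f.isClosedMap.isClosed_range
  haveI : Flat f := inferInstance
  haveI : UniversallyOpen f := inferInstance
  have hop : IsOpen (Set.range f.base) := f.isOpenMap.isOpen_range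
  have huniv : Set.range f.base = Set.univ :=
    IsClopen.eq_univ ⟨hcl, hop⟩ (Set.range_nonempty _)
  exact ⟨fun x => by rw [← Set.mem_range, huniv]; trivial⟩

theorem main3698_aux
    (A : Over (Spec (CommRingCat.of k))) [GrpObj A] [IsProper A.hom] [IsIntegral A.left]
    (Y : Over (Spec (CommRingCat.of k))) (φ : Y ⟶ A) [IsFinite φ.left] [Etale φ.left]
    [ConnectedSpace ↥Y.left] :
    ∃ d : ℕ, 1 ≤ d ∧ ∃ ψ : A.left ⟶ Y.left, ψ ≫ φ.left = ((𝟙 A) ^ (d : ℤ)).left := by
  haveI : Surjective φ.left := surjective_of_finite_etale φ.left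
  obtain ⟨inst, hφ⟩ := main8228 k A Y φ
  letI := inst
  haveI := hφ
  obtain ⟨pt, hpt⟩ : ∃ pt : ↥(Spec (CommRingCat.of k)), pt = IsLocalRing.closedPoint k := ⟨_, rfl⟩
  obtain ⟨sF, hsF⟩ : ∃ s : pullback φ.left η[A].left ⟶ Spec (CommRingCat.of k),
    s = pullback.snd φ.left η[A].left := ⟨_, rfl⟩
  haveI : IsFinite sF := by rw [hsF]; infer_instance
  haveI : LocallyQuasiFinite sF := inferInstance
  haveI : QuasiCompact sF := inferInstance
  haveI : Finite ↥(pullback φ.left η[A].left) := by
    have h1 := sF.finite_preimage_singleton pt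
    have h2 : sF.base ⁻¹' {pt} = Set.univ := by
      ext x
      simp only [Set.mem_preimage, Set.mem_singleton_iff, Set.mem_univ, iff_true]
      exact Subsingleton.elim _ _
    rw [h2] at h1
    exact Set.finite_univ_iff.mp h1
  haveI : Nonempty ↥(pullback φ.left η[A].left) := by
    obtain ⟨y, hy⟩ := φ.left.surjective (η[A].left.base pt)
    obtain ⟨z, -, -⟩ := Scheme.Pullback.exists_preimage_pullback (f := φ.left) (g := η[A].left)
      y pt hy
    exact ⟨z⟩
  obtain ⟨ψ, hψ1, hψ2⟩ := main8229 k A Y φ (Nat.card ↥(pullback φ.left η[A].left)) rfl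
    (Nat.card ↥(pullback φ.left η[A].left)) dvd_rfl
  refine ⟨Nat.card ↥(pullback φ.left η[A].left), Nat.card_pos, ψ.left, ?_⟩
  rw [zpow_natCast]
  exact congrArg (fun θ => θ.left) hψ2

theorem main3698
    (A : Over (Spec (CommRingCat.of k))) [GrpObj A] [IsProper A.hom]
    [GeometricallyIntegral A.hom]
    (Z : FEt.Cat A.left) [ConnectedSpace Z.left] :
    ∃ d : ℕ, 1 ≤ d ∧ ∃ ψ : A.left ⟶ Z.left, ψ ≫ Z.hom = ((𝟙 A) ^ (d : ℤ)).left := by
  haveI : IsIntegral A.left := GeometricallyIntegral.isIntegral_of_subsingleton A.hom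
  haveI hZf : IsFinite Z.hom := Z.prop.1
  haveI hZe : Etale Z.hom := Z.prop.2
  haveI : IsFinite (Over.homMk (U := Over.mk (Z.hom ≫ A.hom)) (V := A) Z.hom rfl).left := hZf
  haveI : Etale (Over.homMk (U := Over.mk (Z.hom ≫ A.hom)) (V := A) Z.hom rfl).left := hZe
  haveI : ConnectedSpace ↥(Over.mk (Z.hom ≫ A.hom)).left := ‹ConnectedSpace Z.left›
  exact main3698_aux k A (Over.mk (Z.hom ≫ A.hom)) (Over.homMk Z.hom rfl)

end Field

end Groth.Agent.Lib.FEtAbH4
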