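import Mathlib
import Groth.Prelude
import Groth.Agent.Lib.FEtAb6_helper4

/-!
# Étale isogenies `[n]` of abelian varieties are Galois covers (helper4)
-/

set_option linter.style.haveILetI false
set_option linter.unusedSectionVars false
set_option linter.unusedVariables false
set_option maxHeartbeats 1600000

universe u

open CategoryTheory CategoryTheory.Limits MonoidalCategory CartesianMonoidalCategory MonObj
  AlgebraicGeometry TopologicalSpace

namespace Groth.Agent.Lib.FEtAbH4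

open Groth.Agent.Lib.AbSchRigidH4

section Field

variable (k : Type u) [Field k] [IsAlgClosed k]

/-- endomorphisms of `A` lying in the kernel of an étale isogeny are constant -/
theorem eq_const_of_comp_eq_one
    (A : Over (Spec (CommRingCat.of k))) [GrpObj A] [GeometricallyConnected A.hom]
    (N : A ⟶ A) [IsFinite N.left] [Etale N.left] (δ : A ⟶ A) (hδ : δ ≫ N = 1) :
    δ = toUnit A ≫ η[A] ≫ δ := by
  haveI : IsSeparated N.left := inferInstance
  apply hom_eq_of_comp_eq A η[A] N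
  · rw [hδ, Category.assoc, Category.assoc, hδ, MonObj.comp_one, MonObj.comp_one]
  · have h1 : η[A] ≫ toUnit A = 𝟙 _ := toUnit_unique _ _
    rw [← Category.assoc η[A] (toUnit A), h1, Category.id_comp]

/-- geometric points of a finite étale scheme over an algebraically closed field factor through
rational points -/
theorem exists_factor_point {K : Scheme.{u}} (sK : K ⟶ Spec (CommRingCat.of k)) [IsFinite sK]
    [Etale sK] {Ω : Type u} [Field Ω] (q : Spec (CommRingCat.of Ω) ⟶ K) :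
    ∃ p : Spec (CommRingCat.of k) ⟶ K, p ≫ sK = 𝟙 _ ∧ q = (q ≫ sK) ≫ p := by
  obtain ⟨pt, hpt⟩ : ∃ pt : ↥(Spec (CommRingCat.of k)), pt = IsLocalRing.closedPoint k := ⟨_, rfl⟩
  haveI : LocallyOfFiniteType sK := inferInstance
  haveI : LocallyQuasiFinite sK := inferInstance
  haveI : DiscreteTopology ↥K := by
    rw [← isDiscrete_univ_iff]
    have h1 := sK.isDiscrete_preimage_singleton pt
    have h2 : sK.base ⁻¹' {pt} = Set.univ := by
      ext x
      simp only [Set.mem_preimage, Set.mem_singleton_iff, Set.mem_univ, iff_true]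
      exact Subsingleton.elim _ _
    rw [h2] at h1
    exact h1
  obtain ⟨x, hx⟩ : ∃ x : ↥K, x = q.base (IsLocalRing.closedPoint Ω) := ⟨_, rfl⟩
  have hxc : IsClosed ({x} : Set ↥K) := isClosed_discrete _
  obtain ⟨p, hp1, hp2⟩ : ∃ p : Spec (CommRingCat.of k) ⟶ K, p ≫ sK = 𝟙 _ ∧ p.base pt = x :=
    ⟨pointOfClosedPoint sK x hxc, pointOfClosedPoint_comp sK x hxc,
      pointOfClosedPoint_apply sK x hxc _⟩
  haveI : IsOpenImmersion p :=
    Groth.Agent.Lib.SmoothSectionH4.isOpenImmersion_of_section sK p hp1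
  have hrange : Set.range q.base ⊆ Set.range p.base := by
    rintro _ ⟨w, rfl⟩
    refine ⟨pt, ?_⟩
    rw [hp2, hx]
    exact congrArg q.base (Subsingleton.elim _ _)
  refine ⟨p, hp1, ?_⟩
  have h1 : IsOpenImmersion.lift p q hrange ≫ p = q := IsOpenImmersion.lift_fac _ _ _
  have h2 : IsOpenImmersion.lift p q hrange = q ≫ sK := by
    have := congrArg (fun ψ => ψ ≫ sK) h1
    simp only [Category.assoc, hp1, Category.comp_id] at this
    exact this
  rw [← h2, h1]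


theorem galois_of_isogeny
    (A : Over (Spec (CommRingCat.of k))) [GrpObj A] [IsProper A.hom] [IsIntegral A.left]
    (N : A ⟶ A) [IsMonHom N] (hF : IsFinite N.left) (hE : Etale N.left) (m : ℤ)
    (hN : ∀ {T : Over (Spec (CommRingCat.of k))} (a : T ⟶ A), a ≫ N = a ^ m) :
    PiSp.IsGaloisCover (MorphismProperty.Over.mk ⊤ N.left ⟨hF, hE⟩ : FEt.Cat A.left) ∧
      (∀ θ : Aut (MorphismProperty.Over.mk ⊤ N.left ⟨hF, hE⟩ : FEt.Cat A.left),
        ∃! a : 𝟙_ (Over (Spec (CommRingCat.of k))) ⟶ A, a ^ m = 1 ∧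
          θ.hom.left = ((𝟙 A) * (toUnit A ≫ a)).left) ∧
      (∀ a : 𝟙_ (Over (Spec (CommRingCat.of k))) ⟶ A, a ^ m = 1 →
        ∃ θ : Aut (MorphismProperty.Over.mk ⊤ N.left ⟨hF, hE⟩ : FEt.Cat A.left),
          θ.hom.left = ((𝟙 A) * (toUnit A ≫ a)).left) := by
  haveI := hF
  haveI := hE
  haveI : LocallyOfFiniteType A.hom := inferInstance
  haveI : GrpObj (Over.mk A.hom) := ‹GrpObj A›
  haveI : Smooth A.hom := smooth_of_grpObj_of_isAlgClosed' A.hom
  haveI : Flat A.hom := inferInstance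
  haveI : LocallyOfFinitePresentation A.hom := inferInstance
  haveI : GeometricallyReduced A.hom :=
    Groth.Agent.Lib.SmoothSectionH4.geometricallyReduced_of_smooth A.hom
  haveI : ConnectedSpace ↥A.left := inferInstance
  haveI : GeometricallyConnected A.hom := geometricallyConnected_of_connected k A.hom
  have hcomm : ∀ {T : Over (Spec (CommRingCat.of k))} (g h : T ⟶ A), g * h = h * g := by
    haveI := isCommMonObj A
    intro T g h
    exact mul_comm g h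
  have hNA : N.left ≫ A.hom = A.hom := Over.w N
  have heA : η[A].left ≫ A.hom = 𝟙 _ := Over.w η[A]
  -- translations
  have htrans : ∀ a : 𝟙_ (Over (Spec (CommRingCat.of k))) ⟶ A, a ^ m = 1 →
      ∃ θ : Aut (MorphismProperty.Over.mk ⊤ N.left ⟨hF, hE⟩ : FEt.Cat A.left),
        θ.hom.left = ((𝟙 A) * (toUnit A ≫ a)).left := by
    intro a ha
    obtain ⟨τ, hτ⟩ : ∃ τ : A ⟶ A, τ = 𝟙 A * (toUnit A ≫ a) := ⟨_, rfl⟩
    obtain ⟨τ', hτ'⟩ : ∃ τ' : A ⟶ A, τ' = 𝟙 A * (toUnit A ≫ a⁻¹) := ⟨_, rfl⟩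
    have h1 : τ ≫ τ' = 𝟙 A := by
      rw [hτ', MonObj.comp_mul, Category.comp_id, ← Category.assoc, comp_toUnit, hτ,
        _root_.mul_assoc, ← MonObj.comp_mul, mul_inv_cancel, MonObj.comp_one, _root_.mul_one]
    have h2 : τ' ≫ τ = 𝟙 A := by
      rw [hτ, MonObj.comp_mul, Category.comp_id, ← Category.assoc, comp_toUnit, hτ',
        _root_.mul_assoc, ← MonObj.comp_mul, inv_mul_cancel, MonObj.comp_one, _root_.mul_one]
    have h3 : τ ≫ N = N := by
      rw [hτ, MonObj.mul_comp, Category.id_comp, Category.assoc, hN a, ha, MonObj.comp_one,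
        _root_.mul_one]
    refine ⟨MorphismProperty.Over.isoMk
      ⟨τ.left, τ'.left, congrArg (fun ψ => ψ.left) h1, congrArg (fun ψ => ψ.left) h2⟩
      (congrArg (fun ψ => ψ.left) h3), ?_⟩
    rw [← hτ]
    rfl
  -- classification
  have hclass : ∀ θ : Aut (MorphismProperty.Over.mk ⊤ N.left ⟨hF, hE⟩ : FEt.Cat A.left),
      ∃! a : 𝟙_ (Over (Spec (CommRingCat.of k))) ⟶ A, a ^ m = 1 ∧
        θ.hom.left = ((𝟙 A) * (toUnit A ≫ a)).left := by
    intro θ
    obtain ⟨θl, hθl⟩ : ∃ θl : A.left ⟶ A.left, θl = θ.hom.left := ⟨_, rfl⟩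
    have hθw : θl ≫ N.left = N.left := by
      rw [hθl]
      exact MorphismProperty.Over.w θ.hom
    have hθA : θl ≫ A.hom = A.hom := by
      have h1 : θl ≫ A.hom = (θl ≫ N.left) ≫ A.hom := by rw [Category.assoc, hNA]
      rw [h1, hθw, hNA]
    obtain ⟨θA, hθA'⟩ : ∃ θA : A ⟶ A, θA.left = θl := ⟨Over.homMk θl hθA, rfl⟩
    have hθN : θA ≫ N = N := by
      apply Over.OverMorphism.ext
      show θA.left ≫ N.left = N.left
      rw [hθA', hθw]
    obtain ⟨δ, hδ⟩ : ∃ δ : A ⟶ A, δ = θA * (𝟙 A)⁻¹ := ⟨_, rfl⟩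
    have hδN : δ ≫ N = 1 := by
      rw [hδ, MonObj.mul_comp, GrpObj.inv_comp, hθN, Category.id_comp, mul_inv_cancel]
    have hδc := eq_const_of_comp_eq_one k A N δ hδN
    obtain ⟨a, ha⟩ : ∃ a : 𝟙_ (Over (Spec (CommRingCat.of k))) ⟶ A, a = η[A] ≫ δ := ⟨_, rfl⟩
    rw [← ha] at hδc
    have hθeq : θA = 𝟙 A * (toUnit A ≫ a) := by
      have h1 : θA = δ * 𝟙 A := by rw [hδ, inv_mul_cancel_right]
      rw [h1, ← hδc, hcomm]
    have ham : a ^ m = 1 := by
      rw [← hN a, ha, Category.assoc, hδN, MonObj.comp_one]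
    have h2 : ∀ b : 𝟙_ (Over (Spec (CommRingCat.of k))) ⟶ A,
        η[A] ≫ (𝟙 A * (toUnit A ≫ b)) = b := by
      intro b
      rw [MonObj.comp_mul, Category.comp_id, ← Category.assoc, comp_toUnit, toUnit_unit,
        Category.id_comp, ← one_eq_eta, _root_.one_mul]
    refine ⟨a, ⟨ham, by rw [← hθl, ← hθA', hθeq]⟩, ?_⟩
    rintro a' ⟨-, ha'⟩
    have h1 : θA = 𝟙 A * (toUnit A ≫ a') :=
      Over.OverMorphism.ext (hθA'.trans (hθl.trans ha'))
    rw [← h2 a', ← h1, hθeq, h2 a]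
  refine ⟨⟨‹ConnectedSpace ↥A.left›, ?_⟩, hclass, htrans⟩
  intro Ω _ _ ξ s t
  obtain ⟨s1, hs1⟩ : ∃ s1 : Spec (CommRingCat.of Ω) ⟶ A.left, s1 = s.1 := ⟨_, rfl⟩
  obtain ⟨t1, ht1⟩ : ∃ t1 : Spec (CommRingCat.of Ω) ⟶ A.left, t1 = t.1 := ⟨_, rfl⟩
  have hs : s1 ≫ N.left = ξ := by rw [hs1]; exact s.2
  have ht : t1 ≫ N.left = ξ := by rw [ht1]; exact t.2
  have hsA : s1 ≫ A.hom = ξ ≫ A.hom := by rw [← hs, Category.assoc, hNA]
  have htA : t1 ≫ A.hom = ξ ≫ A.hom := by rw [← ht, Category.assoc, hNA]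
  obtain ⟨sT, hsT⟩ : ∃ sT : Over.mk (ξ ≫ A.hom) ⟶ A, sT.left = s1 :=
    ⟨Over.homMk s1 hsA, rfl⟩
  obtain ⟨tT, htT⟩ : ∃ tT : Over.mk (ξ ≫ A.hom) ⟶ A, tT.left = t1 :=
    ⟨Over.homMk t1 htA, rfl⟩
  have hst : sT ≫ N = tT ≫ N := by
    apply Over.OverMorphism.ext
    show sT.left ≫ N.left = tT.left ≫ N.left
    rw [hsT, htT, hs, ht]
  obtain ⟨δ, hδ⟩ : ∃ δ : Over.mk (ξ ≫ A.hom) ⟶ A, δ = sT⁻¹ * tT := ⟨_, rfl⟩
  have hδN : δ ≫ N = 1 := by
    rw [hδ, MonObj.mul_comp, GrpObj.inv_comp, hst, inv_mul_cancel]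
  obtain ⟨sK, hsK⟩ : ∃ sK : pullback N.left η[A].left ⟶ Spec (CommRingCat.of k),
    sK = pullback.snd N.left η[A].left := ⟨_, rfl⟩
  obtain ⟨pK, hpK⟩ : ∃ pK : pullback N.left η[A].left ⟶ A.left,
    pK = pullback.fst N.left η[A].left := ⟨_, rfl⟩
  have hcond : pK ≫ N.left = sK ≫ η[A].left := by rw [hpK, hsK]; exact pullback.condition
  haveI : IsFinite sK := by rw [hsK]; infer_instance
  haveI : Etale sK := by rw [hsK]; infer_instance
  have hδl : δ.left ≫ N.left = (ξ ≫ A.hom) ≫ η[A].left :=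
    congrArg (fun ψ => ψ.left) hδN
  obtain ⟨q, hq1, hq2⟩ : ∃ q : Spec (CommRingCat.of Ω) ⟶ pullback N.left η[A].left,
      q ≫ pK = δ.left ∧ q ≫ sK = ξ ≫ A.hom :=
    ⟨pullback.lift δ.left (ξ ≫ A.hom) hδl, by rw [hpK]; exact pullback.lift_fst _ _ _,
      by rw [hsK]; exact pullback.lift_snd _ _ _⟩
  obtain ⟨p, hp1, hp2⟩ := exists_factor_point k sK q
  have hpKA : pK ≫ A.hom = sK := by
    have := congrArg (fun ψ => ψ ≫ A.hom) hcond
    simp only [Category.assoc, hNA, heA, Category.comp_id] at this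
    exact this
  have hw : (p ≫ pK) ≫ A.hom = 𝟙 _ := by rw [Category.assoc, hpKA, hp1]
  obtain ⟨a, ha⟩ : ∃ a : 𝟙_ (Over (Spec (CommRingCat.of k))) ⟶ A, a.left = p ≫ pK :=
    ⟨Over.homMk (p ≫ pK) hw, rfl⟩
  have haN : a ≫ N = 1 := by
    rw [one_eq_eta]
    apply Over.OverMorphism.ext
    show a.left ≫ N.left = η[A].left
    rw [ha, Category.assoc, hcond, ← Category.assoc, hp1]
    exact Category.id_comp _
  have hδa : δ = toUnit _ ≫ a := by
    apply Over.OverMorphism.ext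
    show δ.left = (ξ ≫ A.hom) ≫ a.left
    rw [ha, ← hq1, ← hq2, ← Category.assoc, ← hp2]
  have ham : a ^ m = 1 := by rw [← hN a, haN]
  obtain ⟨σ, hσ⟩ := htrans a ham
  refine ⟨σ, ?_⟩
  apply Subtype.ext
  show s.1 ≫ σ.hom.left = t.1
  rw [hσ, ← hs1, ← ht1, ← hsT, ← htT]
  have h5 : sT ≫ (𝟙 A * (toUnit A ≫ a)) = tT := by
    rw [MonObj.comp_mul, Category.comp_id, ← Category.assoc, comp_toUnit, ← hδa, hδ,
      mul_inv_cancel_left]
  exact congrArg (fun ψ => ψ.left) h5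

theorem main3718
    (A : Over (Spec (CommRingCat.of k))) [GrpObj A] [IsProper A.hom]
    [GeometricallyIntegral A.hom] (n : ℕ) :
    ∀ [hF : IsFinite ((𝟙 A) ^ (n : ℤ)).left] [hE : Etale ((𝟙 A) ^ (n : ℤ)).left],
      PiSp.IsGaloisCover (MorphismProperty.Over.mk ⊤ ((𝟙 A) ^ (n : ℤ)).left ⟨hF, hE⟩ :
        FEt.Cat A.left) ∧
      (∀ θ : Aut (MorphismProperty.Over.mk ⊤ ((𝟙 A) ^ (n : ℤ)).left ⟨hF, hE⟩ : FEt.Cat A.left),
        ∃! a : 𝟙_ (Over (Spec (CommRingCat.of k))) ⟶ A, a ^ (n : ℤ) = 1 ∧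
          θ.hom.left = ((𝟙 A) * (toUnit A ≫ a)).left) ∧
      (∀ a : 𝟙_ (Over (Spec (CommRingCat.of k))) ⟶ A, a ^ (n : ℤ) = 1 →
        ∃ θ : Aut (MorphismProperty.Over.mk ⊤ ((𝟙 A) ^ (n : ℤ)).left ⟨hF, hE⟩ : FEt.Cat A.left),
          θ.hom.left = ((𝟙 A) * (toUnit A ≫ a)).left) := by
  intro hF hE
  haveI : IsIntegral A.left := GeometricallyIntegral.isIntegral_of_subsingleton A.hom
  haveI : LocallyOfFiniteType A.hom := inferInstance
  haveI : GrpObj (Over.mk A.hom) := ‹GrpObj A›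
  haveI : Smooth A.hom := smooth_of_grpObj_of_isAlgClosed' A.hom
  haveI : Flat A.hom := inferInstance
  haveI : LocallyOfFinitePresentation A.hom := inferInstance
  haveI : GeometricallyReduced A.hom :=
    Groth.Agent.Lib.SmoothSectionH4.geometricallyReduced_of_smooth A.hom
  haveI : ConnectedSpace ↥A.left := inferInstance
  haveI : GeometricallyConnected A.hom := geometricallyConnected_of_connected k A.hom
  have hη : η[A] ≫ (𝟙 A) ^ (n : ℤ) = η[A] := by
    rw [GrpObj.comp_zpow, Category.comp_id, ← one_eq_eta, one_zpow]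
  haveI : IsMonHom ((𝟙 A) ^ (n : ℤ)) := isMonHom_of_one_comp A A _ hη
  exact galois_of_isogeny k A ((𝟙 A) ^ (n : ℤ)) hF hE (n : ℤ)
    (fun a => by rw [GrpObj.comp_zpow, Category.comp_id])

end Field

end Groth.Agent.Lib.FEtAbH4
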