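import Mathlib
import Groth.Prelude.Def_FEt
import Groth.Agent.Lib.FEtFull_helper4
import Groth.Agent.Lib.GeomConnFin_helper4
import Groth.Agent.Lib.RatPts_helper4

set_option autoImplicit false
universe u
open CategoryTheory CategoryTheory.Limits AlgebraicGeometry

namespace Groth.Agent.Lib.FEtFullAppH4

open Groth.Agent.Lib.FEtFullH4

theorem main0283 {X Y : Scheme.{u}} (f : X ⟶ Y) [IsIntegralHom f] [UniversallyInjective f]
    [Surjective f] : (FEt.restrict f).Full ∧ (FEt.restrict f).Faithful := by
  refine fullyFaithful_of_fibres f f.surjective (fun W c _ _ => Or.inl ?_) (fun K _ y => ?_)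
  · haveI : IsIntegralHom (pullback.fst c f) :=
      MorphismProperty.pullback_fst (P := @IsIntegralHom) _ _ inferInstance
    exact (pullback.fst c f).isClosedMap
  · haveI : UniversallyInjective (pullback.snd f y) :=
      MorphismProperty.pullback_snd (P := @UniversallyInjective) _ _ inferInstance
    haveI : Subsingleton ↥(Spec (CommRingCat.of K)) :=
      inferInstanceAs (Subsingleton (PrimeSpectrum K))
    haveI : Subsingleton ↥(pullback f y) := (pullback.snd f y).injective.subsingleton
    exact ⟨Set.subsingleton_univ.isPreconnected⟩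

/-- Connectedness of all geometric fibres (over algebraically closed fields) implies connectedness
of all fibres over field-valued points. -/
theorem connected_of_geometric {X S : Scheme.{u}} (f : X ⟶ S)
    (h : ∀ (Ω : Type u) [Field Ω] [IsAlgClosed Ω] (s : Spec (CommRingCat.of Ω) ⟶ S),
      ConnectedSpace ↥(pullback f s))
    (K : Type u) [Field K] (y : Spec (CommRingCat.of K) ⟶ S) : ConnectedSpace ↥(pullback f y) := by
  haveI := h (AlgebraicClosure K)
    (Spec.map (CommRingCat.ofHom (algebraMap K (AlgebraicClosure K))) ≫ y)
  have hc : pullback.fst f (Spec.map (CommRingCat.ofHom (algebraMap K (AlgebraicClosure K))) ≫ y) ≫ f =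
      (pullback.snd f (Spec.map (CommRingCat.ofHom (algebraMap K (AlgebraicClosure K))) ≫ y) ≫
        Spec.map (CommRingCat.ofHom (algebraMap K (AlgebraicClosure K)))) ≫ y := by
    rw [Category.assoc]; exact pullback.condition
  obtain ⟨θ, hθ1, hθ2⟩ : ∃ θ : pullback f
        (Spec.map (CommRingCat.ofHom (algebraMap K (AlgebraicClosure K))) ≫ y) ⟶ pullback f y,
      θ ≫ pullback.fst f y =
        pullback.fst f (Spec.map (CommRingCat.ofHom (algebraMap K (AlgebraicClosure K))) ≫ y) ∧
      θ ≫ pullback.snd f y =
        pullback.snd f (Spec.map (CommRingCat.ofHom (algebraMap K (AlgebraicClosure K))) ≫ y) ≫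
          Spec.map (CommRingCat.ofHom (algebraMap K (AlgebraicClosure K))) :=
    ⟨pullback.lift _ _ hc, pullback.lift_fst _ _ _, pullback.lift_snd _ _ _⟩
  have big : IsPullback (θ ≫ pullback.fst f y)
      (pullback.snd f (Spec.map (CommRingCat.ofHom (algebraMap K (AlgebraicClosure K))) ≫ y)) f
      (Spec.map (CommRingCat.ofHom (algebraMap K (AlgebraicClosure K))) ≫ y) := by
    rw [hθ1]; exact IsPullback.of_hasPullback f _
  have sq : IsPullback θ
      (pullback.snd f (Spec.map (CommRingCat.ofHom (algebraMap K (AlgebraicClosure K))) ≫ y))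
      (pullback.snd f y) (Spec.map (CommRingCat.ofHom (algebraMap K (AlgebraicClosure K)))) :=
    IsPullback.of_right big hθ2 (IsPullback.of_hasPullback f y)
  haveI : Surjective (Spec.map (CommRingCat.ofHom (algebraMap K (AlgebraicClosure K)))) :=
    RatPtsH4.surjective_specMap K (AlgebraicClosure K)
  haveI : Surjective θ := MorphismProperty.of_isPullback (P := @Surjective) sq.flip inferInstance
  exact Function.Surjective.connectedSpace θ.surjective θ.continuous

theorem main0264 {X S : Scheme.{u}} (f : X ⟶ S) [IsProper f] [Flat f] [LocallyOfFinitePresentation f]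
    [ConnectedSpace S]
    (hfib : ∀ (Ω : Type u) [Field Ω] [IsAlgClosed Ω] (s : Spec (CommRingCat.of Ω) ⟶ S),
      ConnectedSpace ↥(pullback f s) ∧ IsReduced (pullback f s)) :
    (FEt.restrict f).Full ∧ (FEt.restrict f).Faithful := by
  have hconn : ∀ (K : Type u) [Field K] (y : Spec (CommRingCat.of K) ⟶ S),
      ConnectedSpace ↥(pullback f y) :=
    fun K _ y => connected_of_geometric f (fun Ω _ _ s => (hfib Ω s).1) K y
  refine fullyFaithful_of_fibres f ?_ (fun W c _ _ => Or.inl ?_) (fun K _ y => ?_)
  · intro s
    haveI := hconn (S.residueField s) (S.fromSpecResidueField s)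
    obtain ⟨z⟩ : Nonempty ↥(pullback f (S.fromSpecResidueField s)) := inferInstance
    refine ⟨(pullback.fst f (S.fromSpecResidueField s)).base z, ?_⟩
    have h1 : f.base ((pullback.fst f (S.fromSpecResidueField s)).base z) =
        (S.fromSpecResidueField s).base ((pullback.snd f (S.fromSpecResidueField s)).base z) :=
      congrArg (fun φ : pullback f (S.fromSpecResidueField s) ⟶ S => φ.base z)
        (pullback.condition (f := f) (g := S.fromSpecResidueField s))
    exact h1.trans (Scheme.fromSpecResidueField_apply s _)
  · haveI : IsProper (pullback.fst c f) :=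
      MorphismProperty.pullback_fst (P := @IsProper) _ _ inferInstance
    exact (pullback.fst c f).isClosedMap
  · haveI := hconn K y
    infer_instance

theorem main0268 (k : Type u) [Field k] {X : Scheme.{u}} (f : X ⟶ Spec (CommRingCat.of k))
    [CompactSpace X] [QuasiSeparatedSpace X]
    [ConnectedSpace ↥(pullback f (Spec.map (CommRingCat.ofHom (algebraMap k (AlgebraicClosure k)))))] :
    (FEt.restrict f).Full ∧ (FEt.restrict f).Faithful := by
  have hgc : GeometricallyConnected f := by
    refine GeomConnFinH4.main2523 f (fun K _ _ _ _ => ?_)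
    letI : Algebra K (AlgebraicClosure k) :=
      (IsAlgClosed.lift (R := k) (S := K) (M := AlgebraicClosure k)).toRingHom.toAlgebra
    haveI : IsScalarTower k K (AlgebraicClosure k) := IsScalarTower.of_algebraMap_eq
      (fun x => ((IsAlgClosed.lift (R := k) (S := K) (M := AlgebraicClosure k)).commutes x).symm)
    haveI : Surjective (Spec.map (CommRingCat.ofHom (algebraMap K (AlgebraicClosure k)))) :=
      RatPtsH4.surjective_specMap K (AlgebraicClosure k)
    haveI : Surjective (GeomConnFinH4.bm f K (AlgebraicClosure k)) :=
      MorphismProperty.of_isPullback (P := @Surjective)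
        (GeomConnFinH4.isPullback_bm f K (AlgebraicClosure k)).flip inferInstance
    exact Function.Surjective.connectedSpace
      (GeomConnFinH4.bm f K (AlgebraicClosure k)).surjective
      (GeomConnFinH4.bm f K (AlgebraicClosure k)).continuous
  have hconn : ∀ (K : Type u) [Field K] (y : Spec (CommRingCat.of K) ⟶ Spec (CommRingCat.of k)),
      ConnectedSpace ↥(pullback f y) := fun K _ y => pullback_of_geometrically hgc.1 K y
  haveI : Subsingleton ↥(Spec (CommRingCat.of k)) :=
    inferInstanceAs (Subsingleton (PrimeSpectrum k))
  refine fullyFaithful_of_fibres f ?_ (fun W c _ _ => Or.inr ?_) (fun K _ y => ?_)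
  · intro s
    obtain ⟨z⟩ : Nonempty ↥(pullback f
        (Spec.map (CommRingCat.ofHom (algebraMap k (AlgebraicClosure k))))) := inferInstance
    exact ⟨(pullback.fst f _).base z, Subsingleton.elim _ _⟩
  · haveI : UniversallyOpen f := inferInstance
    exact (pullback.fst c f).isOpenMap
  · haveI := hconn K y
    infer_instance

end Groth.Agent.Lib.FEtFullAppH4
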