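import Mathlib
import Groth.Agent.Lib.FEtFull_helper4
import Groth.Agent.Lib.ClopenLift_helper3
import Groth.Agent.S17971
import Groth.Agent.S0532

/-!
# Finite étale covers over a henselian pair (helper4)
-/

universe u

set_option linter.style.haveILetI false

open AlgebraicGeometry CategoryTheory CategoryTheory.Limits TopologicalSpace TensorProduct

namespace Groth.Agent.Lib.FEtHensH4

theorem hD (A : Type u) [CommRing A] (I : Ideal A) [HenselianRing A I] :
    ∀ U : Set ↥(Spec (CommRingCat.of A)), IsOpen U → IsClosed U → U.Nonempty →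
      (U ∩ Set.range (Spec.map (CommRingCat.ofHom (Ideal.Quotient.mk I))).base).Nonempty := by
  rintro U - hUc ⟨x, hx⟩
  obtain ⟨m, hm, hxm⟩ := Ideal.exists_le_maximal x.asIdeal x.isPrime.ne_top
  obtain ⟨y, hy⟩ : ∃ y : PrimeSpectrum A, y = ⟨m, hm.isPrime⟩ := ⟨_, rfl⟩
  have hym : y.asIdeal = m := by rw [hy]
  have hxy : (x : PrimeSpectrum A) ⤳ y :=
    (PrimeSpectrum.le_iff_specializes (x : PrimeSpectrum A) y).mp
      (show (x : PrimeSpectrum A).asIdeal ≤ y.asIdeal by rw [hym]; exact hxm)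
  have hyU : y ∈ U := hxy.mem_closed hUc hx
  have hJ : Ideal.jacobson (⊥ : Ideal A) ≤ m :=
    show sInf {J : Ideal A | ⊥ ≤ J ∧ J.IsMaximal} ≤ m from sInf_le ⟨bot_le, hm⟩
  have hIm : I ≤ m := (HenselianRing.jac (R := A) (I := I)).trans hJ
  have hyr : y ∈ Set.range (PrimeSpectrum.comap (Ideal.Quotient.mk I)) := by
    rw [range_comap_of_surjective _ _ Ideal.Quotient.mk_surjective, Ideal.mk_ker]
    exact (PrimeSpectrum.mem_zeroLocus _ _).mpr (by rw [hym]; exact SetLike.coe_subset_coe.mpr hIm)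
  obtain ⟨z, hz⟩ := hyr
  exact ⟨y, hyU, z, hz⟩

theorem essSurj (A : Type u) [CommRing A] (I : Ideal A) [HenselianRing A I] :
    (FEt.restrict (Spec.map (CommRingCat.ofHom (Ideal.Quotient.mk I)))).EssSurj := by
  refine ⟨fun Z₀ => ?_⟩
  obtain ⟨g, hg⟩ : ∃ g : Z₀.left ⟶ Spec (CommRingCat.of (A ⧸ I)), g = Z₀.hom := ⟨_, rfl⟩
  haveI hZfin : IsFinite g := by rw [hg]; exact Z₀.prop.1
  haveI hZet : Etale g := by rw [hg]; exact Z₀.prop.2
  haveI : IsAffine Z₀.left := isAffine_of_isAffineHom g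
  obtain ⟨ψ, hψ⟩ : ∃ ψ : CommRingCat.of (A ⧸ I) ⟶ Γ(Z₀.left, ⊤),
      ψ = (Scheme.ΓSpecIso (CommRingCat.of (A ⧸ I))).inv ≫ g.appTop := ⟨_, rfl⟩
  have hgeq : g = Z₀.left.isoSpec.hom ≫ Spec.map ψ := by
    rw [hψ]; exact Groth.Agent.Lib.ClopenLiftH3.eq_isoSpec_comp g
  have h1 : IsFinite (Spec.map ψ) := by
    have : IsFinite (Z₀.left.isoSpec.hom ≫ Spec.map ψ) := by rw [← hgeq]; infer_instance
    exact (MorphismProperty.cancel_left_of_respectsIso @IsFinite _ _).mp this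
  have h1' : Etale (Spec.map ψ) := by
    have : Etale (Z₀.left.isoSpec.hom ≫ Spec.map ψ) := by rw [← hgeq]; infer_instance
    exact (MorphismProperty.cancel_left_of_respectsIso @Etale _ _).mp this
  have h2 : ψ.hom.Finite := (IsFinite.SpecMap_iff _).mp h1
  have h2' : ψ.hom.Etale := (HasRingHomProperty.Spec_iff (P := @Etale)).mp h1'
  letI : Algebra (A ⧸ I) Γ(Z₀.left, ⊤) := ψ.hom.toAlgebra
  haveI : Module.Finite (A ⧸ I) Γ(Z₀.left, ⊤) := h2
  haveI : Algebra.Etale (A ⧸ I) Γ(Z₀.left, ⊤) := h2'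
  obtain ⟨B, _, _, hfin, het, ⟨e⟩⟩ := Groth.Agent.S0532.result A I Γ(Z₀.left, ⊤)
  have hYfin : IsFinite (Spec.map (CommRingCat.ofHom (algebraMap A B))) :=
    (IsFinite.SpecMap_iff _).mpr (RingHom.finite_algebraMap.mpr hfin)
  have hYet : Etale (Spec.map (CommRingCat.ofHom (algebraMap A B))) :=
    (HasRingHomProperty.Spec_iff (P := @Etale)).mpr (RingHom.etale_algebraMap.mpr het)
  obtain ⟨Y, hY⟩ : ∃ Y : FEt.Cat (Spec (CommRingCat.of A)),
      Y = MorphismProperty.Over.mk ⊤ (Spec.map (CommRingCat.ofHom (algebraMap A B)))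
        ⟨hYfin, hYet⟩ := ⟨_, rfl⟩
  -- ring isomorphism
  let ρE : Γ(Z₀.left, ⊤) ≃+* B ⊗[A] (A ⧸ I) :=
    e.symm.toRingEquiv.trans (Algebra.TensorProduct.comm A (A ⧸ I) B).toRingEquiv
  let ρiso : CommRingCat.of Γ(Z₀.left, ⊤) ≅ CommRingCat.of (B ⊗[A] (A ⧸ I)) :=
    ρE.toCommRingCatIso
  have hρ : ψ ≫ ρiso.hom = CommRingCat.ofHom (RingHomClass.toRingHom
      (Algebra.TensorProduct.includeRight : (A ⧸ I) →ₐ[A] B ⊗[A] (A ⧸ I))) := by
    refine CommRingCat.hom_ext (RingHom.ext fun x => ?_)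
    show (Algebra.TensorProduct.comm A (A ⧸ I) B)
      (e.symm (algebraMap (A ⧸ I) Γ(Z₀.left, ⊤) x)) = (1 : B) ⊗ₜ[A] x
    rw [e.symm.commutes, Algebra.TensorProduct.algebraMap_apply,
      Algebra.TensorProduct.comm_tmul]
    rfl
  let θ : pullback (Spec.map (CommRingCat.ofHom (algebraMap A B)))
      (Spec.map (CommRingCat.ofHom (algebraMap A (A ⧸ I)))) ≅ Z₀.left :=
    pullbackSpecIso A B (A ⧸ I) ≪≫ Scheme.Spec.mapIso ρiso.op ≪≫ Z₀.left.isoSpec.symm
  have w : θ.hom ≫ g = pullback.snd (Spec.map (CommRingCat.ofHom (algebraMap A B)))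
      (Spec.map (CommRingCat.ofHom (algebraMap A (A ⧸ I)))) := by
    have e1 : θ.hom = (pullbackSpecIso A B (A ⧸ I)).hom ≫ Spec.map ρiso.hom ≫
        Z₀.left.isoSpec.inv := rfl
    rw [e1, hgeq, Category.assoc, Category.assoc, Iso.inv_hom_id_assoc, ← Spec.map_comp, hρ]
    exact pullbackSpecIso_hom_snd A B (A ⧸ I)
  refine ⟨Y, ⟨?_⟩⟩
  rw [hY]
  exact MorphismProperty.Over.isoMk
    (A := (FEt.restrict (Spec.map (CommRingCat.ofHom (Ideal.Quotient.mk I)))).obj
      (MorphismProperty.Over.mk ⊤ (Spec.map (CommRingCat.ofHom (algebraMap A B)))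
        ⟨hYfin, hYet⟩)) (B := Z₀) θ (by rw [← hg]; exact w)

theorem main0239 (A : Type u) [CommRing A] (I : Ideal A) [HenselianRing A I] :
    (FEt.restrict (Spec.map (CommRingCat.ofHom (Ideal.Quotient.mk I)))).IsEquivalence := by
  have hD' := hD A I
  have hL : ∀ (W : Scheme.{u}) (c : W ⟶ Spec (CommRingCat.of A)) [IsFinite c] [Etale c]
      (V : Set ↥(pullback c (Spec.map (CommRingCat.ofHom (Ideal.Quotient.mk I))))),
      IsClopen V → ∃ U : Set W, IsClopen U ∧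
        (pullback.fst c (Spec.map (CommRingCat.ofHom (Ideal.Quotient.mk I)))).base ⁻¹' U = V := by
    intro W c hc _ V hV
    obtain ⟨U, hU, -⟩ := (Groth.Agent.S17971.result A I).mp inferInstance W c hc V hV
    exact ⟨U, hU⟩
  haveI := FEtFullH4.full_of_clopen _ hD' hL
  haveI := FEtFaithfulH4.faithful_of_clopen _ hD'
  haveI := essSurj A I
  exact { faithful := inferInstance, full := inferInstance, essSurj := inferInstance }

end Groth.Agent.Lib.FEtHensH4
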