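import Mathlib
import Groth.Agent.Lib.FEtHens_helper4
import Groth.Agent.Lib.FEtFullApp_helper4

/-!
# Finite étale covers of a proper scheme over a complete local ring (helper4)
-/

universe u

set_option linter.style.haveILetI false

open AlgebraicGeometry CategoryTheory CategoryTheory.Limits TopologicalSpace

namespace Groth.Agent.Lib.FEtCompleteH4

theorem hDj {A : Type u} [CommRing A] [IsLocalRing A] {X : Scheme.{u}}
    (f : X ⟶ Spec (CommRingCat.of A)) [IsProper f] :
    ∀ U : Set X, IsOpen U → IsClosed U → U.Nonempty →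
      (U ∩ Set.range
        (pullback.fst f (Spec.map (CommRingCat.ofHom (IsLocalRing.residue A)))).base).Nonempty := by
  rintro U - hUc ⟨x, hx⟩
  have hcl : IsClosed (f.base '' U) := f.isClosedMap _ hUc
  have hsp : (f.base x : PrimeSpectrum A) ⤳ IsLocalRing.closedPoint A :=
    IsLocalRing.specializes_closedPoint _
  have hmem : IsLocalRing.closedPoint A ∈ f.base '' U := hsp.mem_closed hcl ⟨x, hx, rfl⟩
  obtain ⟨x', hx'U, hx'⟩ := hmem
  refine ⟨x', hx'U, ?_⟩
  rw [Scheme.Pullback.range_fst]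
  show f.base x' ∈ Set.range (Spec.map (CommRingCat.ofHom (IsLocalRing.residue A))).base
  rw [hx']
  exact ⟨IsLocalRing.closedPoint (IsLocalRing.ResidueField A),
    IsLocalRing.comap_closedPoint (IsLocalRing.residue A)⟩

theorem main5129 (A : Type u) [CommRing A] [IsNoetherianRing A] [IsLocalRing A]
    [IsAdicComplete (IsLocalRing.maximalIdeal A) A] {X : Scheme.{u}}
    (f : X ⟶ Spec (CommRingCat.of A)) [IsProper f]
    (ξ : Spec (CommRingCat.of (AlgebraicClosure (IsLocalRing.ResidueField A))) ⟶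
      Spec (CommRingCat.of A))
    (hξ : ξ = Spec.map (CommRingCat.ofHom ((algebraMap (IsLocalRing.ResidueField A)
      (AlgebraicClosure (IsLocalRing.ResidueField A))).comp (IsLocalRing.residue A))))
    [ConnectedSpace ↥(pullback f ξ)] :
    (FEt.restrict f).Full ∧ (FEt.restrict f).Faithful := by
  subst hξ
  obtain ⟨ι₀, hι₀⟩ : ∃ ι₀ : Spec (CommRingCat.of (IsLocalRing.ResidueField A)) ⟶
      Spec (CommRingCat.of A), ι₀ = Spec.map (CommRingCat.ofHom (IsLocalRing.residue A)) :=
    ⟨_, rfl⟩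
  obtain ⟨a, ha⟩ : ∃ a : Spec (CommRingCat.of (AlgebraicClosure (IsLocalRing.ResidueField A))) ⟶
      Spec (CommRingCat.of (IsLocalRing.ResidueField A)),
      a = Spec.map (CommRingCat.ofHom (algebraMap (IsLocalRing.ResidueField A)
        (AlgebraicClosure (IsLocalRing.ResidueField A)))) := ⟨_, rfl⟩
  have hcomp : Spec.map (CommRingCat.ofHom ((algebraMap (IsLocalRing.ResidueField A)
      (AlgebraicClosure (IsLocalRing.ResidueField A))).comp (IsLocalRing.residue A))) =
      a ≫ ι₀ := by
    rw [ha, hι₀, ← Spec.map_comp]; rfl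
  haveI hconn : ConnectedSpace ↥(pullback f (a ≫ ι₀)) := by rw [← hcomp]; infer_instance
  haveI hE : (FEt.restrict ι₀).IsEquivalence := by
    rw [hι₀]; exact FEtHensH4.main0239 A (IsLocalRing.maximalIdeal A)
  haveI : ConnectedSpace ↥(pullback (pullback.snd f ι₀) a) :=
    Function.Surjective.connectedSpace (pullbackLeftPullbackSndIso f ι₀ a).inv.surjective
      (pullbackLeftPullbackSndIso f ι₀ a).inv.continuous
  haveI : QuasiSeparatedSpace ↥(pullback f ι₀) :=
    quasiSeparatedSpace_of_quasiSeparated (pullback.snd f ι₀)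
  subst ha
  have hG := FEtFullAppH4.main0268 (IsLocalRing.ResidueField A) (pullback.snd f ι₀)
  haveI hGfull : (FEt.restrict (pullback.snd f ι₀)).Full := hG.1
  haveI hGfaith : (FEt.restrict (pullback.snd f ι₀)).Faithful := hG.2
  have iso2 : FEt.restrict (pullback.snd f ι₀ ≫ ι₀) ≅
      FEt.restrict ι₀ ⋙ FEt.restrict (pullback.snd f ι₀) :=
    MorphismProperty.Over.pullbackComp (P := FEt.prop.{u}) (Q := ⊤) (pullback.snd f ι₀) ι₀
  have iso1 : FEt.restrict (pullback.snd f ι₀ ≫ ι₀) ≅
      FEt.restrict f ⋙ FEt.restrict (pullback.fst f ι₀) :=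
    MorphismProperty.Over.pullbackComp (P := FEt.prop.{u}) (Q := ⊤) (pullback.fst f ι₀) f
      (pullback.snd f ι₀ ≫ ι₀) pullback.condition.symm
  haveI : (FEt.restrict ι₀ ⋙ FEt.restrict (pullback.snd f ι₀)).Full := inferInstance
  haveI : (FEt.restrict ι₀ ⋙ FEt.restrict (pullback.snd f ι₀)).Faithful := inferInstance
  haveI : (FEt.restrict (pullback.snd f ι₀ ≫ ι₀)).Full := Functor.Full.of_iso iso2.symm
  haveI : (FEt.restrict (pullback.snd f ι₀ ≫ ι₀)).Faithful := Functor.Faithful.of_iso iso2.symm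
  haveI : (FEt.restrict f ⋙ FEt.restrict (pullback.fst f ι₀)).Full := Functor.Full.of_iso iso1
  haveI : (FEt.restrict f ⋙ FEt.restrict (pullback.fst f ι₀)).Faithful :=
    Functor.Faithful.of_iso iso1
  haveI : (FEt.restrict (pullback.fst f ι₀)).Faithful :=
    FEtFaithfulH4.faithful_of_clopen _ (by rw [hι₀]; exact hDj f)
  exact ⟨Functor.Full.of_comp_faithful (FEt.restrict f) (FEt.restrict (pullback.fst f ι₀)),
    Functor.Faithful.of_comp (FEt.restrict f) (FEt.restrict (pullback.fst f ι₀))⟩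

end Groth.Agent.Lib.FEtCompleteH4
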