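import Mathlib

/-!
# Topological lemmas on generizations (helper3)

* `exists_maximal_mem_closed`: in a quasi-sober T0 space, every point of a closed set `Z` is a
  specialization of a point of `Z` with no proper generization in `Z`.
* `exists_generization_mem_of_mem_closure`: for a generalizing map with finite fibres to a space
  with (locally) finitely many irreducible components, a point in the closure of an open set has a
  generization in that open set.
-/

set_option autoImplicit false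
set_option linter.all false
set_option maxHeartbeats 1600000
universe u

open Topology

namespace Groth.Agent.Lib.FEtDenseH3

section Top

variable {W : Type*} [TopologicalSpace W]

theorem exists_maximal_mem_closed [QuasiSober W] [T0Space W] (Z : Set W) (hZ : IsClosed Z)
    (z : W) (hz : z ∈ Z) :
    ∃ w ∈ Z, w ⤳ z ∧ ∀ w' ∈ Z, w' ⤳ w → w' = w := by
  obtain ⟨C, hC⟩ : ∃ C : Set Z, C = irreducibleComponent (⟨z, hz⟩ : Z) := ⟨_, rfl⟩
  have hCirr : IsIrreducible C := hC ▸ isIrreducible_irreducibleComponent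
  have hCcl : IsClosed C := hC ▸ isClosed_irreducibleComponent
  have hzC : (⟨z, hz⟩ : Z) ∈ C := hC ▸ mem_irreducibleComponent
  have hCmax : ∀ s : Set Z, IsPreirreducible s → C ⊆ s → s = C := by
    intro s hs hCs
    rw [hC] at hCs ⊢
    exact eq_irreducibleComponent hs hCs
  have hirr' : IsIrreducible (Subtype.val '' C) :=
    hCirr.image _ continuous_subtype_val.continuousOn
  have hcl' : IsClosed (Subtype.val '' C) :=
    hZ.isClosedEmbedding_subtypeVal.isClosedMap _ hCcl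
  obtain ⟨w, hw⟩ := QuasiSober.sober hirr' hcl'
  have hwC : w ∈ Subtype.val '' C := hw ▸ subset_closure (Set.mem_singleton w)
  obtain ⟨⟨w₀, hw₀Z⟩, hw₀C, rfl⟩ := hwC
  refine ⟨w₀, hw₀Z, ?_, ?_⟩
  · rw [specializes_iff_mem_closure, hw.def]
    exact ⟨⟨z, hz⟩, hzC, rfl⟩
  · intro w' hw'Z hw'
    have hsub : C ⊆ closure {(⟨w', hw'Z⟩ : Z)} := by
      intro y hy
      rw [closure_subtype, Set.image_singleton]
      have h1 : (y : W) ∈ closure {w₀} := by
        rw [hw.def]; exact ⟨y, hy, rfl⟩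
      exact hw'.closure_subset h1
    have h2 := hCmax _ (isIrreducible_singleton.closure).isPreirreducible hsub
    have h3 : (⟨w', hw'Z⟩ : Z) ∈ C := h2 ▸ subset_closure (Set.mem_singleton _)
    have h4 : w' ∈ closure {w₀} := by
      rw [hw.def]; exact ⟨_, h3, rfl⟩
    exact (hw'.antisymm (specializes_iff_mem_closure.mpr h4)).eq

theorem exists_maximal_generization [QuasiSober W] [T0Space W] (p : W) :
    ∃ η : W, η ⤳ p ∧ ∀ η' : W, η' ⤳ η → η' = η := by
  obtain ⟨w, -, h1, h2⟩ := exists_maximal_mem_closed (Set.univ : Set W) isClosed_univ p trivial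
  exact ⟨w, h1, fun η' h => h2 η' trivial h⟩

end Top

section Gen

variable {W X : Type*} [TopologicalSpace W] [TopologicalSpace X]

/-- Maximal points (under generization) of `X` lying in an open subset `X₀` with finitely many
irreducible components are finite in number. -/
theorem finite_maximal_points [T0Space X] (X₀ : Set X) (hX₀ : IsOpen X₀) [QuasiSober X₀]
    (hirr : (irreducibleComponents ↥X₀).Finite) :
    {ξ : X | ξ ∈ X₀ ∧ ∀ ξ' : X, ξ' ⤳ ξ → ξ' = ξ}.Finite := by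
  classical
  let F : X → Set X₀ := fun ξ =>
    if h : ξ ∈ X₀ then irreducibleComponent (⟨ξ, h⟩ : X₀) else ∅
  refine Set.Finite.of_injOn (f := F) (t := irreducibleComponents ↥X₀) ?_ ?_ hirr
  · rintro ξ ⟨hξ, -⟩
    show F ξ ∈ _
    simp only [F, dif_pos hξ]
    exact irreducibleComponent_mem_irreducibleComponents _
  · rintro ξ₁ ⟨h₁, hm₁⟩ ξ₂ ⟨h₂, hm₂⟩ hF
    simp only [F, dif_pos h₁, dif_pos h₂] at hF
    have key : ∀ (ξ : X) (h : ξ ∈ X₀), (∀ ξ' : X, ξ' ⤳ ξ → ξ' = ξ) →
        IsGenericPoint (⟨ξ, h⟩ : X₀) (irreducibleComponent (⟨ξ, h⟩ : X₀)) := by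
      intro ξ h hm
      obtain ⟨t, ht⟩ := QuasiSober.sober (isIrreducible_irreducibleComponent (x := (⟨ξ, h⟩ : X₀)))
        isClosed_irreducibleComponent
      have h1 : t ⤳ (⟨ξ, h⟩ : X₀) := by
        rw [specializes_iff_mem_closure, ht.def]
        exact mem_irreducibleComponent
      have h2 : (t : X) ⤳ ξ := h1.map continuous_subtype_val
      have h3 : t = ⟨ξ, h⟩ := Subtype.ext (hm _ h2)
      rwa [h3] at ht
    have e := (key ξ₁ h₁ hm₁).eq (hF ▸ key ξ₂ h₂ hm₂)
    exact congrArg Subtype.val e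

theorem exists_generization_mem_of_mem_closure [QuasiSober W] [T0Space W] [T0Space X]
    (c : W → X) (hc : Continuous c) (hgen : GeneralizingMap c)
    (hfin : ∀ x, (c ⁻¹' {x}).Finite)
    (X₀ : Set X) (hX₀ : IsOpen X₀) [QuasiSober X₀] (hirr : (irreducibleComponents ↥X₀).Finite)
    (V : Set W) (hV : IsOpen V) (w : W) (hw : w ∈ closure V) (hwX : c w ∈ X₀) :
    ∃ η ∈ V, η ⤳ w := by
  have hW₀ : IsOpen (c ⁻¹' X₀) := hX₀.preimage hc
  -- maximal points of `W` in `c ⁻¹' X₀`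
  let M : Set W := {η | η ∈ c ⁻¹' X₀ ∧ ∀ η' : W, η' ⤳ η → η' = η}
  have hG := finite_maximal_points X₀ hX₀ hirr
  have hMfin : M.Finite := by
    refine Set.Finite.subset (Set.Finite.biUnion hG (fun ξ _ => hfin ξ)) ?_
    rintro η ⟨hη, hmax⟩
    refine Set.mem_biUnion (x := c η) ⟨hη, ?_⟩ rfl
    intro ξ' hξ'
    obtain ⟨η', hη', rfl⟩ := hgen hξ'
    rw [hmax η' hη']
  have hMV : (M ∩ V).Finite := hMfin.subset Set.inter_subset_left
  let K : Set W := ⋃ η ∈ M ∩ V, closure {η}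
  have hK : IsClosed K := hMV.isClosed_biUnion (fun _ _ => isClosed_closure)
  have hsub : V ∩ c ⁻¹' X₀ ⊆ K := by
    rintro p ⟨hpV, hpX⟩
    obtain ⟨η, hηp, hmax⟩ := exists_maximal_generization p
    have h1 : η ∈ V := hηp.mem_open hV hpV
    have h2 : η ∈ c ⁻¹' X₀ := hηp.mem_open hW₀ hpX
    exact Set.mem_biUnion (x := η) ⟨⟨h2, hmax⟩, h1⟩ (specializes_iff_mem_closure.mp hηp)
  have hwcl : w ∈ closure (V ∩ c ⁻¹' X₀) := by
    have := hW₀.inter_closure (t := V) ⟨hwX, hw⟩
    rwa [Set.inter_comm] at this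
  have hwK : w ∈ K := (closure_minimal hsub hK) hwcl
  obtain ⟨η, ⟨-, hηV⟩, hη⟩ := Set.mem_iUnion₂.mp hwK
  exact ⟨η, hηV, specializes_iff_mem_closure.mpr hη⟩

end Gen

section Core

variable {W : Type u} [TopologicalSpace W]

/-- **Core separation lemma.** Two disjoint open sets `V₁`, `V₂` with dense union have disjoint
closures, provided points in the closure have generizations in the set and the "punctured
generization sets" of points outside the union are images of preconnected spaces. -/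
theorem closure_inter_closure_eq_empty [QuasiSober W] [T0Space W] (V₁ V₂ : Set W)
    (h₁ : IsOpen V₁) (h₂ : IsOpen V₂) (hd : Disjoint V₁ V₂) (hdense : Dense (V₁ ∪ V₂))
    (hT₁ : ∀ w ∈ closure V₁, ∃ η ∈ V₁, η ⤳ w) (hT₂ : ∀ w ∈ closure V₂, ∃ η ∈ V₂, η ⤳ w)
    (hS : ∀ w : W, w ∉ V₁ ∪ V₂ → ∃ (S : Type u) (_ : TopologicalSpace S)
      (_ : PreconnectedSpace S) (g : S → W), Continuous g ∧
        Set.range g = {w' | w' ⤳ w ∧ w' ≠ w}) :
    closure V₁ ∩ closure V₂ = ∅ := by
  by_contra hne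
  obtain ⟨z, hz⟩ := Set.nonempty_iff_ne_empty.mpr hne
  have hZcl : IsClosed (closure V₁ ∩ closure V₂) := isClosed_closure.inter isClosed_closure
  obtain ⟨w, hwZ, -, hmax⟩ := exists_maximal_mem_closed _ hZcl z hz
  have hd1 : Disjoint (closure V₁) V₂ := hd.closure_left h₂
  have hd2 : Disjoint V₁ (closure V₂) := hd.closure_right h₁
  have hwU : w ∉ V₁ ∪ V₂ := by
    rintro (h | h)
    · exact Set.disjoint_left.mp hd2 h hwZ.2
    · exact Set.disjoint_left.mp hd1 hwZ.1 h
  obtain ⟨S, _, _, g, hg, hrange⟩ := hS w hwU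
  have hcover : closure V₁ ∪ closure V₂ = Set.univ := by
    rw [← closure_union]; exact hdense.closure_eq
  have hQ1 : IsClosed (g ⁻¹' closure V₁) := isClosed_closure.preimage hg
  have hQ2 : IsClosed (g ⁻¹' closure V₂) := isClosed_closure.preimage hg
  have hdisj : ∀ s, s ∈ g ⁻¹' closure V₁ → s ∈ g ⁻¹' closure V₂ → False := by
    intro s hs1 hs2
    have hs : g s ∈ {w' | w' ⤳ w ∧ w' ≠ w} := hrange ▸ Set.mem_range_self s
    exact hs.2 (hmax (g s) ⟨hs1, hs2⟩ hs.1)
  have hcompl : g ⁻¹' closure V₁ = (g ⁻¹' closure V₂)ᶜ := by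
    ext s
    constructor
    · intro hs1 hs2; exact hdisj s hs1 hs2
    · intro hs2
      have : g s ∈ closure V₁ ∪ closure V₂ := hcover ▸ Set.mem_univ _
      rcases this with h | h
      · exact h
      · exact absurd h hs2
  have hclopen : IsClopen (g ⁻¹' closure V₁) := ⟨hQ1, hcompl ▸ hQ2.isOpen_compl⟩
  obtain ⟨η₁, hη₁V, hη₁⟩ := hT₁ w hwZ.1
  obtain ⟨η₂, hη₂V, hη₂⟩ := hT₂ w hwZ.2
  have hη₁ne : η₁ ≠ w := fun h => hwU (Or.inl (h ▸ hη₁V))
  have hη₂ne : η₂ ≠ w := fun h => hwU (Or.inr (h ▸ hη₂V))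
  obtain ⟨s₁, hs₁⟩ : η₁ ∈ Set.range g := hrange ▸ ⟨hη₁, hη₁ne⟩
  obtain ⟨s₂, hs₂⟩ : η₂ ∈ Set.range g := hrange ▸ ⟨hη₂, hη₂ne⟩
  have hs₁Q : s₁ ∈ g ⁻¹' closure V₁ := by
    show g s₁ ∈ closure V₁
    rw [hs₁]; exact subset_closure hη₁V
  have hs₂Q : s₂ ∈ g ⁻¹' closure V₂ := by
    show g s₂ ∈ closure V₂
    rw [hs₂]; exact subset_closure hη₂V
  rcases isClopen_iff.mp hclopen with h | h
  · rw [h] at hs₁Q; exact hs₁Q
  · have : s₂ ∈ g ⁻¹' closure V₁ := h ▸ Set.mem_univ _
    exact hdisj s₂ this hs₂Q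

end Core

end Groth.Agent.Lib.FEtDenseH3
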