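import Mathlib
import Groth.Prelude.Def_Hensel
import Groth.Prelude.Def_FEt
import Groth.Agent.Lib.FEtDense1_helper3
import Groth.Agent.Lib.WENormal5_helper3
import Groth.Agent.Lib.StrictHens6_lead
import Groth.Agent.Lib.FEtFull_helper4
import Groth.Agent.Lib.FEtFaithful_helper4

/-!
# Restriction of finite étale covers to a dense open: full faithfulness (helper3)
-/

set_option autoImplicit false
set_option linter.all false
set_option maxHeartbeats 1600000
universe u

open AlgebraicGeometry CategoryTheory CategoryTheory.Limits IsLocalRing Topology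

namespace Groth.Agent.Lib.FEtDenseH3

open Groth.Agent.Lib.StrictHens

section Punctured

variable {W : Scheme.{u}} (w : W)

/-- The map from the punctured spectrum of the strict henselization of `O_{W,w}` to `W`. -/
noncomputable def punctMap :
    ↥(({closedPoint (SHens (W.presheaf.stalk w))}ᶜ :
      Set (PrimeSpectrum (SHens (W.presheaf.stalk w))))) → W :=
  fun s => (W.fromSpecStalk w).base (PrimeSpectrum.comap
    (algebraMap (W.presheaf.stalk w) (SHens (W.presheaf.stalk w))) s.val)

theorem continuous_punctMap : Continuous (punctMap w) :=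
  (W.fromSpecStalk w).continuous.comp
    ((PrimeSpectrum.continuous_comap _).comp continuous_subtype_val)

theorem range_punctMap : Set.range (punctMap w) = {w' | w' ⤳ w ∧ w' ≠ w} := by
  haveI hS : Hensel.IsStrictHenselization (W.presheaf.stalk w) (SHens (W.presheaf.stalk w)) :=
    isStrictHenselization_shens
  haveI hff : Module.FaithfullyFlat (W.presheaf.stalk w) (SHens (W.presheaf.stalk w)) :=
    faithfullyFlat_of_isStrictHenselization (R := W.presheaf.stalk w) _
  have hmax : (maximalIdeal (W.presheaf.stalk w)).map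
      (algebraMap (W.presheaf.stalk w) (SHens (W.presheaf.stalk w))) =
      maximalIdeal (SHens (W.presheaf.stalk w)) :=
    map_maximalIdeal_of_isStrictHenselization (R := W.presheaf.stalk w) _
  have hinj : Function.Injective (W.fromSpecStalk w).base :=
    (W.fromSpecStalk w).isEmbedding.injective
  have hcl : (W.fromSpecStalk w).base (closedPoint (W.presheaf.stalk w)) = w :=
    Scheme.fromSpecStalk_closedPoint
  ext w'
  constructor
  · rintro ⟨s, rfl⟩
    refine ⟨?_, ?_⟩
    · have : punctMap w s ∈ Set.range (W.fromSpecStalk w).base := ⟨_, rfl⟩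
      rw [Scheme.range_fromSpecStalk] at this
      exact this
    · intro h
      have h1 : PrimeSpectrum.comap
          (algebraMap (W.presheaf.stalk w) (SHens (W.presheaf.stalk w))) s.val =
          closedPoint (W.presheaf.stalk w) := hinj (h.trans hcl.symm)
      have h2 : s.val.asIdeal.comap (algebraMap (W.presheaf.stalk w)
          (SHens (W.presheaf.stalk w))) = maximalIdeal (W.presheaf.stalk w) :=
        congrArg PrimeSpectrum.asIdeal h1
      have h3 : maximalIdeal (SHens (W.presheaf.stalk w)) ≤ s.val.asIdeal := by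
        rw [← hmax, Ideal.map_le_iff_le_comap, h2]
      have h4 : s.val.asIdeal = maximalIdeal (SHens (W.presheaf.stalk w)) :=
        ((maximalIdeal.isMaximal _).eq_of_le s.val.2.ne_top h3).symm
      exact s.2 (PrimeSpectrum.ext h4)
  · rintro ⟨hw', hne⟩
    have : w' ∈ Set.range (W.fromSpecStalk w).base := by
      rw [Scheme.range_fromSpecStalk]; exact hw'
    obtain ⟨y, rfl⟩ := this
    obtain ⟨q, rfl⟩ := PrimeSpectrum.comap_surjective_of_faithfullyFlat
      (A := W.presheaf.stalk w) (B := SHens (W.presheaf.stalk w)) y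
    refine ⟨⟨q, ?_⟩, rfl⟩
    intro hq
    rw [Set.mem_singleton_iff] at hq
    apply hne
    rw [hq, IsLocalRing.comap_closedPoint]
    exact hcl

end Punctured

section Main

variable {X : Scheme.{u}} (U : X.Opens)

/-- Skeleton: full faithfulness of restriction to a dense open, given the generization property
`hT` and connectedness of punctured strict henselizations. -/
theorem fullyFaithful_of_dense (hU : Dense (U : Set X))
    (hT : ∀ (W : Scheme.{u}) (c : W ⟶ X) [IsFinite c] [Etale c] (V : Set W), IsOpen V →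
      V ⊆ c.base ⁻¹' (U : Set X) → closure V ∩ c.base ⁻¹' (U : Set X) ⊆ V →
      ∀ w ∈ closure V, ∃ η ∈ V, η ⤳ w)
    (hsh : ∀ x : X, x ∉ U → ∀ (R : Type u) [CommRing R] [IsLocalRing R]
      [Algebra (X.presheaf.stalk x) R]
      [IsLocalHom (algebraMap (X.presheaf.stalk x) R)]
      [Hensel.IsStrictHenselization (X.presheaf.stalk x) R],
      ConnectedSpace (FEt.puncturedSpec R : Scheme.{u})) :
    (FEt.restrict U.ι).Full ∧ (FEt.restrict U.ι).Faithful := by
  have hrange : Set.range U.ι.base = (U : Set X) := Scheme.Opens.range_ι U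
  have hdr : DenseRange U.ι.base := by
    rw [DenseRange, hrange]; exact hU
  have hD : ∀ O : Set X, IsOpen O → IsClosed O → O.Nonempty →
      (O ∩ Set.range U.ι.base).Nonempty := fun O hO _ hne => hdr.inter_open_nonempty O hO hne
  refine ⟨Groth.Agent.Lib.FEtFullH4.full_of_clopen U.ι hD ?_,
    Groth.Agent.Lib.FEtFaithfulH4.main0237 U.ι hdr⟩
  intro W c _ _ V hV
  have hj : IsOpenEmbedding (pullback.fst c U.ι).base := (pullback.fst c U.ι).isOpenEmbedding
  have hjr : Set.range (pullback.fst c U.ι).base = c.base ⁻¹' (U : Set X) := by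
    rw [Scheme.Pullback.range_fst, hrange]
  obtain ⟨V₁, hV₁⟩ : ∃ V₁ : Set W, V₁ = (pullback.fst c U.ι).base '' V := ⟨_, rfl⟩
  obtain ⟨V₂, hV₂⟩ : ∃ V₂ : Set W, V₂ = (pullback.fst c U.ι).base '' Vᶜ := ⟨_, rfl⟩
  have ho₁ : IsOpen V₁ := hV₁ ▸ hj.isOpenMap _ hV.2
  have ho₂ : IsOpen V₂ := hV₂ ▸ hj.isOpenMap _ hV.1.isOpen_compl
  have hdisj : Disjoint V₁ V₂ := by
    rw [hV₁, hV₂]
    exact (Set.disjoint_image_iff hj.injective).mpr disjoint_compl_right
  have hunion : V₁ ∪ V₂ = c.base ⁻¹' (U : Set X) := by
    rw [hV₁, hV₂, ← Set.image_union, Set.union_compl_self, Set.image_univ, hjr]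
  have hdense : Dense (V₁ ∪ V₂) := by
    rw [hunion]; exact hU.preimage c.isOpenMap
  have hd1 : Disjoint (closure V₁) V₂ := hdisj.closure_left ho₂
  have hd2 : Disjoint V₁ (closure V₂) := hdisj.closure_right ho₁
  have hT₁ : ∀ w ∈ closure V₁, ∃ η ∈ V₁, η ⤳ w := by
    refine hT W c V₁ ho₁ (hunion ▸ Set.subset_union_left) ?_
    rintro y ⟨hy1, hy2⟩
    rw [← hunion] at hy2
    rcases hy2 with h | h
    · exact h
    · exact absurd h (Set.disjoint_left.mp hd1 hy1)
  have hT₂ : ∀ w ∈ closure V₂, ∃ η ∈ V₂, η ⤳ w := by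
    refine hT W c V₂ ho₂ (hunion ▸ Set.subset_union_right) ?_
    rintro y ⟨hy1, hy2⟩
    rw [← hunion] at hy2
    rcases hy2 with h | h
    · exact absurd hy1 (Set.disjoint_left.mp hd2 h)
    · exact h
  have hS : ∀ w : W, w ∉ V₁ ∪ V₂ → ∃ (S : Type u) (_ : TopologicalSpace S)
      (_ : PreconnectedSpace S) (g : S → W), Continuous g ∧
        Set.range g = {w' | w' ⤳ w ∧ w' ≠ w} := by
    intro w hw
    rw [hunion] at hw
    have hx : c.base w ∉ U := hw
    haveI hSH : Hensel.IsStrictHenselization (W.presheaf.stalk w) (SHens (W.presheaf.stalk w)) :=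
      isStrictHenselization_shens
    have h1467 := (Groth.Agent.Lib.WENormalH3.main1467 c).mp inferInstance w
      (SHens (W.presheaf.stalk w))
    letI algAR : Algebra ↑(X.presheaf.stalk (c.base w)) (SHens (W.presheaf.stalk w)) :=
      ((algebraMap ↑(W.presheaf.stalk w) (SHens (W.presheaf.stalk w))).comp
        (c.stalkMap w).hom).toAlgebra
    obtain ⟨hloc, hstr⟩ := h1467
    have hconn := @hsh (c.base w) hx (SHens (W.presheaf.stalk w)) _ _ algAR hloc hstr
    haveI : PreconnectedSpace ↥(({closedPoint (SHens (W.presheaf.stalk w))}ᶜ :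
        Set (PrimeSpectrum (SHens (W.presheaf.stalk w))))) :=
      hconn.toPreconnectedSpace
    exact ⟨_, inferInstance, inferInstance, punctMap w, continuous_punctMap w, range_punctMap w⟩
  have hempty := closure_inter_closure_eq_empty V₁ V₂ ho₁ ho₂ hdisj hdense hT₁ hT₂ hS
  have hcover : closure V₁ ∪ closure V₂ = Set.univ := by
    rw [← closure_union]; exact hdense.closure_eq
  have hcompl : closure V₁ = (closure V₂)ᶜ := by
    ext y
    constructor
    · intro h1 h2
      have : y ∈ closure V₁ ∩ closure V₂ := ⟨h1, h2⟩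
      rw [hempty] at this; exact this
    · intro h2
      have : y ∈ closure V₁ ∪ closure V₂ := hcover ▸ Set.mem_univ y
      rcases this with h | h
      · exact h
      · exact absurd h h2
  refine ⟨closure V₁, ⟨isClosed_closure, hcompl ▸ isClosed_closure.isOpen_compl⟩, ?_⟩
  rw [hV₁, ← hj.isEmbedding.closure_eq_preimage_closure_image, hV.1.closure_eq]

end Main

section S7283

/-- **S7283.** -/
theorem main7283 {X : Scheme.{u}} (U : X.Opens)
    (hU : Dense (U : Set X))
    (hirr : ∀ V : X.Opens, IsCompact (V : Set X) → (irreducibleComponents ↥V).Finite)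
    (hsh : ∀ x : X, x ∉ U → ∀ (R : Type u) [CommRing R] [IsLocalRing R]
      [Algebra (X.presheaf.stalk x) R]
      [IsLocalHom (algebraMap (X.presheaf.stalk x) R)]
      [Hensel.IsStrictHenselization (X.presheaf.stalk x) R],
      ConnectedSpace (FEt.puncturedSpec R : Scheme.{u})) :
    (FEt.restrict U.ι).Full ∧ (FEt.restrict U.ι).Faithful := by
  refine fullyFaithful_of_dense U hU ?_ hsh
  intro W c _ _ V hV _ _ w hw
  obtain ⟨X₀, hX₀aff, hx, -⟩ := AlgebraicGeometry.exists_isAffineOpen_mem_and_subset
    (x := c.base w) (U := (⊤ : X.Opens)) trivial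
  haveI : QuasiSober ↥(X₀ : Set X) := X₀.2.isOpenEmbedding_subtypeVal.quasiSober
  exact exists_generization_mem_of_mem_closure c.base c.continuous
    (Flat.generalizingMap c) (fun x => c.finite_preimage_singleton x)
    (X₀ : Set X) X₀.2 (hirr X₀ hX₀aff.isCompact) V hV w hw hx

end S7283

end Groth.Agent.Lib.FEtDenseH3
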