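import Mathlib
import Groth.Agent.Lib.FEtDense2_helper3

/-!
# S1145: restriction of finite étale covers to a dense quasi-compact open (helper3)
-/

set_option autoImplicit false
set_option linter.all false
set_option maxHeartbeats 1600000
universe u

open AlgebraicGeometry CategoryTheory CategoryTheory.Limits IsLocalRing Topology

namespace Groth.Agent.Lib.FEtDenseH3

section Ring

variable {B : Type*} [CommRing B]

/-- A point in the closure of a basic open has a generization in the basic open. -/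
theorem exists_generization_of_mem_closure_basicOpen (f : B) (w : PrimeSpectrum B)
    (hw : w ∈ closure (PrimeSpectrum.basicOpen f : Set (PrimeSpectrum B))) :
    ∃ η ∈ (PrimeSpectrum.basicOpen f : Set (PrimeSpectrum B)), η ⤳ w := by
  have hr := PrimeSpectrum.localization_away_comap_range (Localization.Away f) f
  rw [← hr, PrimeSpectrum.closure_range_comap] at hw
  obtain ⟨p, hp, hpw⟩ := Ideal.exists_minimalPrimes_le
    (I := RingHom.ker (algebraMap B (Localization.Away f))) (J := w.asIdeal) hw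
  have hp' : p ∈ ((⊥ : Ideal (Localization.Away f)).comap
      (algebraMap B (Localization.Away f))).minimalPrimes := hp
  obtain ⟨p', hp'prime, -, hp'eq⟩ := Ideal.exists_comap_eq_of_mem_minimalPrimes
    (algebraMap B (Localization.Away f)) p hp'
  refine ⟨PrimeSpectrum.comap (algebraMap B (Localization.Away f)) ⟨p', hp'prime⟩, ?_, ?_⟩
  · rw [← hr]; exact ⟨_, rfl⟩
  · rw [← PrimeSpectrum.le_iff_specializes]
    show p'.comap _ ≤ w.asIdeal
    rw [hp'eq]; exact hpw

/-- A point in the closure of a compact open of `Spec B` has a generization in it. -/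
theorem exists_generization_of_mem_closure_compact (Q : Set (PrimeSpectrum B)) (hQo : IsOpen Q)
    (hQc : IsCompact Q) (w : PrimeSpectrum B) (hw : w ∈ closure Q) : ∃ η ∈ Q, η ⤳ w := by
  obtain ⟨t, ht⟩ := PrimeSpectrum.isCompact_isOpen_iff.mp ⟨hQc, hQo⟩
  have hQ : Q = ⋃ f ∈ (t : Set B), (PrimeSpectrum.basicOpen f : Set (PrimeSpectrum B)) := by
    rw [← ht]
    ext x
    simp only [Set.mem_compl_iff, PrimeSpectrum.mem_zeroLocus, Set.mem_iUnion,
      SetLike.mem_coe, PrimeSpectrum.mem_basicOpen, exists_prop, Set.not_subset]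
  rw [hQ, t.finite_toSet.closure_biUnion] at hw
  obtain ⟨f, hf, hwf⟩ := Set.mem_iUnion₂.mp hw
  obtain ⟨η, hη, hηw⟩ := exists_generization_of_mem_closure_basicOpen f w hwf
  refine ⟨η, ?_, hηw⟩
  rw [hQ]
  exact Set.mem_biUnion hf hη

end Ring

section S1145

/-- Generization property for an open `V` whose trace on an affine open `W₀` is compact. -/
theorem exists_generization_of_compact_inter {W : Scheme.{u}} (W₀ : W.Opens)
    (hW₀ : IsAffineOpen W₀) (V : Set W) (hV : IsOpen V) (hK : IsCompact (V ∩ (W₀ : Set W)))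
    (w : W) (hwW : w ∈ W₀) (hw : w ∈ closure V) : ∃ η ∈ V, η ⤳ w := by
  have hφ : IsOpenEmbedding hW₀.fromSpec.base := hW₀.fromSpec.isOpenEmbedding
  have hrange : Set.range hW₀.fromSpec.base = (W₀ : Set W) := hW₀.range_fromSpec
  obtain ⟨w₀, rfl⟩ : w ∈ Set.range hW₀.fromSpec.base := hrange ▸ hwW
  have hQo : IsOpen (hW₀.fromSpec.base ⁻¹' V) := hV.preimage hW₀.fromSpec.continuous
  have hQeq : hW₀.fromSpec.base ⁻¹' V = hW₀.fromSpec.base ⁻¹' (V ∩ (W₀ : Set W)) := by
    ext y
    simp only [Set.mem_preimage, Set.mem_inter_iff]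
    constructor
    · intro h; exact ⟨h, hrange ▸ Set.mem_range_self y⟩
    · intro h; exact h.1
  have hQc : IsCompact (hW₀.fromSpec.base ⁻¹' V) := by
    rw [hQeq]
    exact hφ.isInducing.isCompact_preimage' hK (hrange ▸ Set.inter_subset_right)
  have hwcl : hW₀.fromSpec.base w₀ ∈ closure (V ∩ (W₀ : Set W)) := by
    have := W₀.2.inter_closure (t := V) ⟨hwW, hw⟩
    rwa [Set.inter_comm] at this
  have hw₀ : w₀ ∈ closure (hW₀.fromSpec.base ⁻¹' V) := by
    rw [hφ.isEmbedding.closure_eq_preimage_closure_image, Set.image_preimage_eq_inter_range,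
      hrange]
    exact hwcl
  obtain ⟨η₀, hη₀, hη₀w⟩ := exists_generization_of_mem_closure_compact
    (B := Γ(W, W₀)) (hW₀.fromSpec.base ⁻¹' V) hQo hQc w₀ hw₀
  exact ⟨hW₀.fromSpec.base η₀, hη₀, hη₀w.map hW₀.fromSpec.continuous⟩

/-- **S1145.** -/
theorem main1145 {X : Scheme.{u}} (U : X.Opens)
    (hU : Dense (U : Set X)) [QuasiCompact U.ι]
    (hsh : ∀ x : X, x ∉ U → ∀ (R : Type u) [CommRing R] [IsLocalRing R]
      [Algebra (X.presheaf.stalk x) R]
      [IsLocalHom (algebraMap (X.presheaf.stalk x) R)]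
      [Hensel.IsStrictHenselization (X.presheaf.stalk x) R],
      ConnectedSpace (FEt.puncturedSpec R : Scheme.{u})) :
    (FEt.restrict U.ι).Full ∧ (FEt.restrict U.ι).Faithful := by
  refine fullyFaithful_of_dense U hU ?_ hsh
  intro W c _ _ V hV hVU hVcl w hw
  obtain ⟨X₀, hX₀aff, hx, -⟩ := AlgebraicGeometry.exists_isAffineOpen_mem_and_subset
    (x := c.base w) (U := (⊤ : X.Opens)) trivial
  have hW₀ : IsAffineOpen (c ⁻¹ᵁ X₀) := hX₀aff.preimage c
  -- `U ∩ X₀` is compact
  have hUX : IsCompact ((U : Set X) ∩ (X₀ : Set X)) := by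
    have h1 : IsCompact (U.ι.base ⁻¹' (X₀ : Set X)) :=
      QuasiCompact.isCompact_preimage (f := U.ι) _ X₀.2 hX₀aff.isCompact
    have h2 := h1.image U.ι.continuous
    rwa [Set.image_preimage_eq_inter_range, Scheme.Opens.range_ι, Set.inter_comm] at h2
  have hcUX : IsCompact (c.base ⁻¹' ((U : Set X) ∩ (X₀ : Set X))) :=
    QuasiCompact.isCompact_preimage (f := c) _ (U.2.inter X₀.2) hUX
  have hK : IsCompact (V ∩ ((c ⁻¹ᵁ X₀ : W.Opens) : Set W)) := by
    have heq : V ∩ ((c ⁻¹ᵁ X₀ : W.Opens) : Set W) =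
        closure V ∩ (c.base ⁻¹' ((U : Set X) ∩ (X₀ : Set X))) := by
      ext y
      constructor
      · rintro ⟨hy1, hy2⟩
        exact ⟨subset_closure hy1, hVU hy1, hy2⟩
      · rintro ⟨hy1, hy2, hy3⟩
        exact ⟨hVcl ⟨hy1, hy2⟩, hy3⟩
    rw [heq]
    exact hcUX.inter_left isClosed_closure
  exact exists_generization_of_compact_inter (c ⁻¹ᵁ X₀) hW₀ V hV hK w hx hw

end S1145

end Groth.Agent.Lib.FEtDenseH3
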