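import Mathlib
import Groth.Prelude
import Groth.Agent.Lib.FEtEuler4_helper9
import Groth.Agent.Lib.GenusZero3_helper9
import Groth.Agent.Lib.P1Iso7_helper9

/-!
# Finite étale covers of curves of genus zero are isomorphisms (helper9)

Consequences of the multiplicativity of `χ(O)` in finite étale covers
(`FEtEuler9.euler_finite_etale`): statements of S11574 and S7810.
APPEND-ONLY once landed.
-/

set_option autoImplicit false
set_option linter.style.haveILetI false
universe u
open CategoryTheory CategoryTheory.Limits AlgebraicGeometry Opposite TopologicalSpace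

namespace FEtEuler9

open QcqsLoc QCohExtn SerreCrit

section Core

variable (k : Type u) [Field k]

/-- multiplicativity of `χ(O)`, with the structure morphisms given by instances -/
theorem euler_finite_etale' (Y : Scheme.{u}) [Y.Over (Spec (CommRingCat.of k))]
    [IsProper (Y ↘ Spec (CommRingCat.of k))] [Smooth (Y ↘ Spec (CommRingCat.of k))] [IsIntegral Y]
    (hdim : topologicalKrullDim Y = 1) (X : Scheme.{u}) [iX : X.Over (Spec (CommRingCat.of k))]
    (φ : X ⟶ Y) [IsFinite φ] [Etale φ]
    (hφ : φ ≫ (Y ↘ Spec (CommRingCat.of k)) = X ↘ Spec (CommRingCat.of k))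
    (d : ℕ) (hrk : ∀ y : Y, φ.finrank y = d) :
    Curv2.euler k X (OO X) = d * Curv2.euler k Y (OO Y) := by
  cases iX with
  | ofHom q =>
    change φ ≫ (Y ↘ Spec (CommRingCat.of k)) = q at hφ
    subst hφ
    exact euler_finite_etale k d Y (Y ↘ Spec (CommRingCat.of k)) hdim X φ hrk

/-- a finite étale cover of a smooth proper curve of genus zero with `h⁰(O) = 1` by an integral
scheme with `h⁰(O) = 1` is an isomorphism -/
theorem isIso_of_genus_zero (Y : Scheme.{u}) [Y.Over (Spec (CommRingCat.of k))]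
    [IsProper (Y ↘ Spec (CommRingCat.of k))] [Smooth (Y ↘ Spec (CommRingCat.of k))] [IsIntegral Y]
    (hdim : topologicalKrullDim Y = 1) (X : Scheme.{u}) [X.Over (Spec (CommRingCat.of k))]
    [IsIntegral X] (f : X ⟶ Y) [IsFinite f] [Etale f]
    (hf : f ≫ (Y ↘ Spec (CommRingCat.of k)) = X ↘ Spec (CommRingCat.of k))
    (hX0 : Module.finrank k (Coh.HH X (Coh.structureModule X) 0) = 1)
    (hY0 : Module.finrank k (Coh.HH Y (Coh.structureModule Y) 0) = 1)
    (hg : Curv2.genus k Y = 0) : IsIso f := by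
  haveI : IsProper (X ↘ Spec (CommRingCat.of k)) := by
    rw [← hf]; infer_instance
  haveI : Surjective f := surjective_of_finite_flat f
  have hdimX : topologicalKrullDim X = 1 := by
    rw [dim_eq_of_integral_flat_surjective f, hdim]
  -- the rank is constant
  obtain ⟨d, hd⟩ : ∃ d, d = f.finrank (genericPoint Y) := ⟨_, rfl⟩
  have hrk : ∀ y : Y, f.finrank y = d := fun y => by
    rw [hd]
    exact (Scheme.Hom.isLocallyConstant_finrank f).apply_eq_of_preconnectedSpace y _
  have hd1 : 1 ≤ d := by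
    have h := Scheme.Hom.one_le_finrank_map f (genericPoint X)
    rwa [hrk] at h
  have key := euler_finite_etale' k Y hdim X f hf d hrk
  have eX := CurveRR.euler_eq_sub k X hdimX.le (OO X)
  have eY := CurveRR.euler_eq_sub k Y hdim.le (OO Y)
  have hg' : Module.finrank k (Coh.HH Y (Coh.structureModule Y) 1) = 0 := hg
  rw [hX0] at eX
  rw [hY0, hg'] at eY
  rw [eX, eY] at key
  have hd' : d = 1 := by
    have h1 : (d : ℤ) ≤ 1 := by
      have : (0 : ℤ) ≤ (Module.finrank k (Coh.HH X (OO X) 1) : ℤ) := Int.natCast_nonneg _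
      push_cast at key
      linarith
    have h2 : d ≤ 1 := by exact_mod_cast h1
    omega
  rw [Scheme.Hom.isIso_iff_finrank_eq]
  funext y
  rw [hrk y, hd']
  rfl

end Core

section Statements

variable (k : Type u) [Field k]

/-- **statement of S11574** -/
theorem main11574 (X Y : Scheme.{u}) [X.Over (Spec (CommRingCat.of k))]
    [Y.Over (Spec (CommRingCat.of k))]
    (hprojY : ∃ (N : ℕ) (i : Y ⟶ CohB1.ProjSpace N k), IsClosedImmersion i ∧
      i ≫ CohB1.ProjSpace.toSpec N k = Y ↘ (Spec (CommRingCat.of k)))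
    [IsIntegral X] [IsIntegral Y] (hdY : topologicalKrullDim Y = 1)
    [Smooth (Y ↘ (Spec (CommRingCat.of k)))]
    (hX0 : Module.finrank k (Coh.HH X (Coh.structureModule X) 0) = 1)
    (hY0 : Module.finrank k (Coh.HH Y (Coh.structureModule Y) 0) = 1)
    (f : X ⟶ Y) [IsFinite f] [Etale f]
    (hf : f ≫ (Y ↘ (Spec (CommRingCat.of k))) = X ↘ (Spec (CommRingCat.of k)))
    (hg : Curv2.genus k Y = 0) : IsIso f := by
  obtain ⟨N, i, hi, hi'⟩ := hprojY
  haveI := hi
  haveI : IsProper (Y ↘ Spec (CommRingCat.of k)) := by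
    rw [← hi']
    haveI := Groth.Agent.Lib.ProjSpaceProperH4.isProper_toSpec N k
    infer_instance
  exact isIso_of_genus_zero k Y hdY X f hf hX0 hY0 hg

/-- **statement of S7810**: the projective line is simply connected -/
theorem main7810 {X : Scheme.{u}} (f : X ⟶ CohB1.ProjSpace 1 k) [IsFinite f] [Etale f]
    [GeometricallyConnected (f ≫ CohB1.ProjSpace.toSpec 1 k)] : IsIso f := by
  letI iY := P1Iso.overP1 k
  letI iX : X.Over (Spec (CommRingCat.of k)) := ⟨f ≫ CohB1.ProjSpace.toSpec 1 k⟩
  haveI := P1Iso.isIntegral_P1 k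
  haveI : IsProper ((CohB1.ProjSpace 1 k) ↘ Spec (CommRingCat.of k)) := P1Iso.isProper_P1 k
  haveI : Smooth ((CohB1.ProjSpace 1 k) ↘ Spec (CommRingCat.of k)) :=
    Groth.Agent.Lib.ProjSmoothH4.smooth_toSpec 1 k
  haveI : IsProper (CohB1.ProjSpace.toSpec 1 k) := P1Iso.isProper_P1 k
  haveI : Smooth (CohB1.ProjSpace.toSpec 1 k) := Groth.Agent.Lib.ProjSmoothH4.smooth_toSpec 1 k
  haveI : IsProper (X ↘ Spec (CommRingCat.of k)) :=
    inferInstanceAs (IsProper (f ≫ CohB1.ProjSpace.toSpec 1 k))
  haveI : Smooth (X ↘ Spec (CommRingCat.of k)) :=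
    inferInstanceAs (Smooth (f ≫ CohB1.ProjSpace.toSpec 1 k))
  haveI : GeometricallyConnected (X ↘ Spec (CommRingCat.of k)) :=
    ‹GeometricallyConnected (f ≫ CohB1.ProjSpace.toSpec 1 k)›
  haveI : IsLocallyNoetherian X :=
    LocallyOfFiniteType.isLocallyNoetherian (X ↘ Spec (CommRingCat.of k))
  haveI : ConnectedSpace X :=
    GeometricallyConnected.connectedSpace_of_subsingleton (X ↘ Spec (CommRingCat.of k))
  haveI : IsIntegral X := ConnIrrH8.isIntegral_of_connected X
    (isDomain_stalk_of_smooth k X (X ↘ Spec (CommRingCat.of k)))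
  -- `h⁰(O_X) = 1` by base change to the algebraic closure
  have hX0 : Module.finrank k (Coh.HH X (Coh.structureModule X) 0) = 1 := by
    letI : (Curv2.bc k X (AlgebraicClosure k)).Over
        (Spec (CommRingCat.of (AlgebraicClosure k))) :=
      ⟨Curv2.bcSnd k X (AlgebraicClosure k)⟩
    haveI : ConnectedSpace (Curv2.bc k X (AlgebraicClosure k)) :=
      GeometricallyConnected.geometrically_connectedSpace (f := X ↘ Spec (CommRingCat.of k))
        (Spec.map (CommRingCat.ofHom (algebraMap k (AlgebraicClosure k)))) _ _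
        (IsPullback.of_hasPullback _ _)
    haveI : IsProper (Curv2.bc k X (AlgebraicClosure k) ↘
        Spec (CommRingCat.of (AlgebraicClosure k))) :=
      inferInstanceAs (IsProper (pullback.snd (X ↘ Spec (CommRingCat.of k))
        (Spec.map (CommRingCat.ofHom (algebraMap k (AlgebraicClosure k))))))
    haveI : Smooth (Curv2.bcSnd k X (AlgebraicClosure k)) :=
      inferInstanceAs (Smooth (pullback.snd (X ↘ Spec (CommRingCat.of k))
        (Spec.map (CommRingCat.ofHom (algebraMap k (AlgebraicClosure k))))))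
    haveI : IsLocallyNoetherian (Curv2.bc k X (AlgebraicClosure k)) :=
      LocallyOfFiniteType.isLocallyNoetherian (Curv2.bc k X (AlgebraicClosure k) ↘
        Spec (CommRingCat.of (AlgebraicClosure k)))
    haveI : IsIntegral (Curv2.bc k X (AlgebraicClosure k)) :=
      ConnIrrH8.isIntegral_of_connected _
        (isDomain_stalk_of_smooth (AlgebraicClosure k) _ (Curv2.bcSnd k X (AlgebraicClosure k)))
    haveI := ProperFinH9.finite_HH_of_proper (AlgebraicClosure k)
      (Curv2.bc k X (AlgebraicClosure k)) _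
      (CohDevH8.isCoh_structureModule (Curv2.bc k X (AlgebraicClosure k))) 0
    rw [← GZ9.finrank_HH_structure_bc k X (AlgebraicClosure k) 0]
    exact Groth.Agent.ProjConn.finrank_h0_of_isIntegral (AlgebraicClosure k)
  have hY0 : Module.finrank k (Coh.HH (CohB1.ProjSpace 1 k)
      (Coh.structureModule (CohB1.ProjSpace 1 k)) 0) = 1 := by
    obtain ⟨e0⟩ := Groth.Agent.ProjTens.twist_zero 1 k
    rw [← (Groth.Agent.HypConn.hhEquivOfIso (A := k) e0 0).finrank_eq]
    have h := Groth.Agent.ProjEuler.finrank_HH_zero k 1 0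
    simpa using h
  exact isIso_of_genus_zero k (CohB1.ProjSpace 1 k) (P1Iso.dim_P1 k) X f rfl hX0 hY0
    (P1Iso.genus_P1 k)

end Statements

end FEtEuler9
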