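import Mathlib
import Groth.Agent.Lib.FEtFinExt_helper3

/-!
# Morphisms from `X_K` to a locally finitely presented `X`-scheme factor through a finite
subextension; descent along purely inseparable extensions (helper3)
-/

set_option autoImplicit false
set_option linter.all false
set_option maxHeartbeats 1600000

universe u

open CategoryTheory CategoryTheory.Limits AlgebraicGeometry

namespace Groth.Agent.Lib.FEtFinExtH3

open Groth.Agent.Lib.IsoFinExtH7 Groth.Agent.Lib.LimBaseChangeH7 Groth.Agent.Lib.AlgColim2H7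

section Stage

variable {k : Type u} (K : Type u) [Field k] [Field K] [Algebra k K]
  {X : Scheme.{u}} (f : X ⟶ Spec (CommRingCat.of k))

/-- base point of the stage system -/
noncomputable abbrev i0 : (Idx k K)ᵒᵖ := Opposite.op (Classical.arbitrary _)

/-- `Spec F ⟶ Spec k` -/
noncomputable abbrev sF (k F : Type u) [Field k] [Field F] [Algebra k F] :
    Spec (CommRingCat.of F) ⟶ Spec (CommRingCat.of k) :=
  Spec.map (CommRingCat.ofHom (algebraMap k F))

noncomputable abbrev a0 : pullback f (σ k K (i0 K)) ⟶ (DS k K).obj (i0 K) :=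
  pullback.snd f (σ k K (i0 K))

noncomputable abbrev aK : pullback f (sF k K) ⟶ (coneS k K).pt := pullback.snd f (sF k K)

theorem hwX : pullback.fst f (sF k K) ≫ f =
    (aK K f ≫ (coneS k K).π.app (i0 K)) ≫ σ k K (i0 K) := by
  rw [Category.assoc, coneS_π_σ]; exact pullback.condition

noncomputable abbrev qX : pullback f (sF k K) ⟶ pullback f (σ k K (i0 K)) :=
  pullback.lift (pullback.fst f (sF k K)) (aK K f ≫ (coneS k K).π.app (i0 K)) (hwX K f)

theorem hX : IsPullback (qX K f) (aK K f) (a0 K f) ((coneS k K).π.app (i0 K)) := by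
  refine IsPullback.of_right ?_ (pullback.lift_snd _ _ _)
    (IsPullback.of_hasPullback f (σ k K (i0 K)))
  rw [pullback.lift_fst, coneS_π_σ]
  exact IsPullback.of_hasPullback f (sF k K)

instance : IsAffineHom (σ k K (i0 K)) := show IsAffineHom (Spec.map _) from inferInstance

instance : IsAffineHom (pullback.fst f (σ k K (i0 K))) :=
  MorphismProperty.pullback_fst _ _ inferInstance

instance [CompactSpace ↥X] : CompactSpace ↥(pullback f (σ k K (i0 K))) :=
  QuasiCompact.compactSpace_of_compactSpace (pullback.fst f (σ k K (i0 K)))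

instance [QuasiSeparatedSpace ↥X] : QuasiSeparatedSpace ↥(pullback f (σ k K (i0 K))) :=
  quasiSeparatedSpace_of_quasiSeparated (pullback.fst f (σ k K (i0 K)))

/-- the structure maps of the stages to `X` -/
noncomputable def tX : bcDiagram (DS k K) (i0 K) (a0 K f) ⟶ (Functor.const _).obj X where
  app j := pullback.fst (a0 K f) ((DS k K).map j.hom) ≫ pullback.fst f (σ k K (i0 K))
  naturality j j' g := by
    simp only [Functor.const_obj_obj, Functor.const_obj_map, Category.comp_id]
    rw [bcDiagram_map_fst_assoc]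

theorem tX_app (j : Over (i0 K)) : (tX K f).app j =
    pullback.fst (a0 K f) ((DS k K).map j.hom) ≫ pullback.fst f (σ k K (i0 K)) := rfl

/-- Every stage of the system receives a map from `X_L`, `L` a finite subextension,
compatible with the projection from `X_K`. -/
theorem exists_stage_field [Algebra.IsAlgebraic k K] (j : Over (i0 K)) :
    ∃ (L : IntermediateField k K) (_ : FiniteDimensional k ↥L)
      (m : pullback f (sF k ↥L) ⟶ (bcDiagram (DS k K) (i0 K) (a0 K f)).obj j)
      (c : pullback f (sF k K) ⟶ pullback f (sF k ↥L)),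
      c ≫ pullback.fst f (sF k ↥L) = pullback.fst f (sF k K) ∧
      c ≫ pullback.snd f (sF k ↥L) = pullback.snd f (sF k K) ≫
        Spec.map (CommRingCat.ofHom (algebraMap ↥L K)) ∧
      c ≫ m = (bcCone (coneS k K) (hX K f)).π.app j ∧
      m ≫ (tX K f).app j = pullback.fst f (sF k ↥L) := by
  classical
  let p : Idx k K := j.left.unop
  let L : IntermediateField k K := IntermediateField.adjoin k (p.1.1 : Set K)
  haveI hLfin : FiniteDimensional k ↥L :=
    IntermediateField.finiteDimensional_adjoin (fun x _ => Algebra.IsIntegral.isIntegral x)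
  let ψL : (Sub p ⧸ Rel p) →ₐ[k] ↥L :=
    (stageHom p).codRestrict L.toSubalgebra (stageHom_mem p)
  let t : Spec (CommRingCat.of ↥L) ⟶ (DS k K).obj j.left :=
    Spec.map (CommRingCat.ofHom ψL.toRingHom)
  let sK : Spec (CommRingCat.of K) ⟶ Spec (CommRingCat.of k) := sF k K
  let sL : Spec (CommRingCat.of ↥L) ⟶ Spec (CommRingCat.of k) := sF k ↥L
  let r : Spec (CommRingCat.of K) ⟶ Spec (CommRingCat.of ↥L) :=
    Spec.map (CommRingCat.ofHom (algebraMap ↥L K))
  have hr : r ≫ t = (coneS k K).π.app j.left := by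
    change Spec.map _ ≫ Spec.map _ = Spec.map _
    rw [← Spec.map_comp]
    congr 1
  have ht : t ≫ σ k K j.left = sL := by
    change Spec.map _ ≫ Spec.map _ = Spec.map _
    rw [← Spec.map_comp]
    congr 1
    apply CommRingCat.hom_ext
    apply RingHom.ext
    intro x
    exact ψL.commutes x
  have hrs : r ≫ sL = sK := by
    change Spec.map _ ≫ Spec.map _ = Spec.map _
    rw [← Spec.map_comp]
    congr 1
  let c : pullback f sK ⟶ pullback f sL :=
    pullback.lift (pullback.fst f sK) (pullback.snd f sK ≫ r)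
      (by rw [Category.assoc, hrs]; exact pullback.condition)
  have hc₁ : c ≫ pullback.fst f sL = pullback.fst f sK := pullback.lift_fst _ _ _
  have hc₂ : c ≫ pullback.snd f sL = pullback.snd f sK ≫ r := pullback.lift_snd _ _ _
  have hmσ : (DS k K).map j.hom ≫ σ k K (i0 K) = σ k K j.left := map_σ k K j.hom
  let uu : pullback f sL ⟶ pullback f (σ k K (i0 K)) :=
    pullback.lift (pullback.fst f sL) (pullback.snd f sL ≫ t ≫ (DS k K).map j.hom)
      (by rw [Category.assoc, Category.assoc, hmσ, ht]; exact pullback.condition)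
  let m : pullback f sL ⟶ (bcDiagram (DS k K) (i0 K) (a0 K f)).obj j :=
    pullback.lift uu (pullback.snd f sL ≫ t)
      (by simp only [uu, pullback.lift_snd, Category.assoc])
  have hcu : c ≫ uu = qX K f := by
    apply pullback.hom_ext
    · simp only [uu, Category.assoc, pullback.lift_fst, hc₁]
      rfl
    · simp only [uu, Category.assoc, pullback.lift_snd]
      rw [reassoc_of% hc₂, reassoc_of% hr]
      exact congrArg (fun z => aK K f ≫ z) ((coneS k K).w j.hom)
  have hm₁ : m ≫ pullback.fst (a0 K f) ((DS k K).map j.hom) = uu := pullback.lift_fst _ _ _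
  have hm₂ : m ≫ pullback.snd (a0 K f) ((DS k K).map j.hom) = pullback.snd f sL ≫ t :=
    pullback.lift_snd _ _ _
  have hcm : c ≫ m = (bcCone (coneS k K) (hX K f)).π.app j := by
    apply pullback.hom_ext
    · have h1 := bcCone_π_fst (coneS k K) (hX K f) j
      have h2 : (c ≫ m) ≫ pullback.fst (a0 K f) ((DS k K).map j.hom) = qX K f :=
        (Category.assoc c m _).trans ((congrArg (fun z => c ≫ z) hm₁).trans hcu)
      exact h2.trans h1.symm
    · have h1 := bcCone_π_snd (coneS k K) (hX K f) j
      have h3 : c ≫ pullback.snd f sL ≫ t = aK K f ≫ (coneS k K).π.app j.left := by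
        rw [reassoc_of% hc₂, hr]
        rfl
      have h2 : (c ≫ m) ≫ pullback.snd (a0 K f) ((DS k K).map j.hom) =
          aK K f ≫ (coneS k K).π.app j.left :=
        (Category.assoc c m _).trans ((congrArg (fun z => c ≫ z) hm₂).trans h3)
      exact h2.trans h1.symm
  refine ⟨L, hLfin, m, c, hc₁, hc₂, hcm, ?_⟩
  rw [tX_app]
  have h4 : m ≫ pullback.fst (a0 K f) ((DS k K).map j.hom) ≫ pullback.fst f (σ k K (i0 K)) =
      uu ≫ pullback.fst f (σ k K (i0 K)) :=
    ((Category.assoc m _ _).symm.trans (congrArg (fun z => z ≫ pullback.fst f (σ k K (i0 K))) hm₁))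
  exact h4.trans (pullback.lift_fst _ _ _)

/-- An `X`-morphism from `X_K` to a locally finitely presented `X`-scheme factors through `X_L`
for a finite subextension `L`. -/
theorem exists_factor [Algebra.IsAlgebraic k K] [CompactSpace ↥X] [QuasiSeparatedSpace ↥X]
    {U : Scheme.{u}} (h : U ⟶ X) [LocallyOfFinitePresentation h]
    (τ : pullback f (sF k K) ⟶ U) (hτ : τ ≫ h = pullback.fst f (sF k K)) :
    ∃ (L : IntermediateField k K) (_ : FiniteDimensional k ↥L)
      (a : pullback f (sF k ↥L) ⟶ U)
      (c : pullback f (sF k K) ⟶ pullback f (sF k ↥L)),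
      c ≫ pullback.fst f (sF k ↥L) = pullback.fst f (sF k K) ∧
      c ≫ pullback.snd f (sF k ↥L) = pullback.snd f (sF k K) ≫
        Spec.map (CommRingCat.ofHom (algebraMap ↥L K)) ∧
      c ≫ a = τ ∧ a ≫ h = pullback.fst f (sF k ↥L) := by
  let τ' : (bcCone (coneS k K) (hX K f)).pt ⟶ U := τ
  have ha : (bcCone (coneS k K) (hX K f)).π ≫ tX K f = (Functor.const _).map (τ' ≫ h) := by
    ext j
    simp only [NatTrans.comp_app, Functor.const_map_app, tX_app]
    exact (Category.assoc _ _ _).symm.trans
      ((congrArg (fun z => z ≫ pullback.fst f (σ k K (i0 K)))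
        (bcCone_π_fst (coneS k K) (hX K f) j)).trans
        ((pullback.lift_fst _ _ _).trans hτ.symm))
  obtain ⟨j, g, hg, hg'⟩ := Scheme.exists_π_app_comp_eq_of_locallyOfFinitePresentation
    (bcDiagram (DS k K) (i0 K) (a0 K f)) (tX K f) h (bcCone (coneS k K) (hX K f))
    (isLimitBcCone (coneS k K) (hX K f) (isLimitConeS k K)) τ' ha
  obtain ⟨L, hLfin, m, c, hc₁, hc₂, hcm, hmt⟩ := exists_stage_field K f j
  refine ⟨L, hLfin, m ≫ g, c, hc₁, hc₂, ?_, ?_⟩
  · rw [← Category.assoc, hcm]; exact hg
  · rw [Category.assoc, hg', hmt]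

end Stage

section PurelyInsep

variable {k M L : Type u} [Field k] [Field M] [Field L] [Algebra k M] [Algebra M L] [Algebra k L]
  [IsScalarTower k M L] {X : Scheme.{u}} (f : X ⟶ Spec (CommRingCat.of k))

/-- `Spec L ⟶ Spec M` -/
noncomputable abbrev rLM (M L : Type u) [Field M] [Field L] [Algebra M L] :
    Spec (CommRingCat.of L) ⟶ Spec (CommRingCat.of M) :=
  Spec.map (CommRingCat.ofHom (algebraMap M L))

omit [IsScalarTower k M L] in
theorem rLM_sF [IsScalarTower k M L] : rLM M L ≫ sF k M = sF k L := by
  change Spec.map _ ≫ Spec.map _ = Spec.map _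
  rw [← Spec.map_comp]
  congr 1
  apply CommRingCat.hom_ext
  apply RingHom.ext
  intro x
  exact (IsScalarTower.algebraMap_apply k M L x).symm

/-- the canonical map `X_L ⟶ X_M` -/
noncomputable def cLM : pullback f (sF k L) ⟶ pullback f (sF k M) :=
  pullback.lift (pullback.fst f (sF k L)) (pullback.snd f (sF k L) ≫ rLM M L)
    (by rw [Category.assoc, rLM_sF]; exact pullback.condition)

@[reassoc]
theorem cLM_fst : cLM (M := M) (L := L) f ≫ pullback.fst f (sF k M) = pullback.fst f (sF k L) :=
  pullback.lift_fst _ _ _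

@[reassoc]
theorem cLM_snd : cLM (M := M) (L := L) f ≫ pullback.snd f (sF k M) =
    pullback.snd f (sF k L) ≫ rLM M L :=
  pullback.lift_snd _ _ _

theorem isPullback_cLM : IsPullback (cLM (M := M) (L := L) f) (pullback.snd f (sF k L))
    (pullback.snd f (sF k M)) (rLM M L) := by
  refine IsPullback.of_right ?_ (cLM_snd f) (IsPullback.of_hasPullback f (sF k M))
  rw [cLM_fst, rLM_sF]
  exact IsPullback.of_hasPullback f (sF k L)

theorem fpqc_rLM (M L : Type u) [Field M] [Field L] [Algebra M L] :
    (@Surjective ⊓ @Flat ⊓ @QuasiCompact : MorphismProperty Scheme.{u}) (rLM M L) :=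
  ⟨⟨surjective_spec_field _ _ _, Groth.Agent.Lib.KerProdH3.flat_of_field (rLM M L)⟩,
    show QuasiCompact (Spec.map _) from inferInstance⟩

theorem fpqc_cLM : (@Surjective ⊓ @Flat ⊓ @QuasiCompact : MorphismProperty Scheme.{u})
    (cLM (M := M) (L := L) f) :=
  MorphismProperty.of_isPullback (isPullback_cLM f).flip (fpqc_rLM M L)

instance : Surjective (cLM (M := M) (L := L) f) := (fpqc_cLM f).1.1
instance : Flat (cLM (M := M) (L := L) f) := (fpqc_cLM f).1.2
instance : QuasiCompact (cLM (M := M) (L := L) f) := (fpqc_cLM f).2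

theorem universallyInjective_rLM (M L : Type u) [Field M] [Field L] [Algebra M L]
    [IsPurelyInseparable M L] : UniversallyInjective (rLM M L) := by
  have hiff := (tfae_universallyInjective (rLM M L)).out 0 1
  refine hiff.mpr ?_
  intro Ω _ g₁ g₂ hg
  obtain ⟨φ₁, rfl⟩ := Spec.map_surjective g₁
  obtain ⟨φ₂, rfl⟩ := Spec.map_surjective g₂
  have h1 : CommRingCat.ofHom (algebraMap M L) ≫ φ₁ = CommRingCat.ofHom (algebraMap M L) ≫ φ₂ := by
    apply Spec.map_injective
    rw [Spec.map_comp, Spec.map_comp]
    exact hg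
  have h2 : φ₁.hom.comp (algebraMap M L) = φ₂.hom.comp (algebraMap M L) :=
    congrArg CommRingCat.Hom.hom h1
  have h3 : φ₁.hom = φ₂.hom := IsPurelyInseparable.injective_comp_algebraMap M L Ω h2
  congr 1
  exact CommRingCat.hom_ext h3

theorem universallyInjective_cLM [IsPurelyInseparable M L] :
    UniversallyInjective (cLM (M := M) (L := L) f) :=
  MorphismProperty.of_isPullback (P := @UniversallyInjective) (isPullback_cLM f).flip
    (universallyInjective_rLM M L)

/-- Descent of `X`-morphisms to an unramified `X`-scheme along `X_L ⟶ X_M` for `L/M` purely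
inseparable. -/
theorem exists_desc_of_isPurelyInseparable [IsPurelyInseparable M L] {U : Scheme.{u}}
    (h : U ⟶ X) [FormallyUnramified h] [LocallyOfFiniteType h]
    (a : pullback f (sF k L) ⟶ U) (ha : a ≫ h = pullback.fst f (sF k L)) :
    ∃ b : pullback f (sF k M) ⟶ U, cLM (M := M) (L := L) f ≫ b = a ∧
      b ≫ h = pullback.fst f (sF k M) := by
  set c' := cLM (M := M) (L := L) f with hc'
  haveI : UniversallyInjective c' := universallyInjective_cLM f
  haveI : Surjective (pullback.diagonal c') := (UniversallyInjective.iff_diagonal c').mp inferInstance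
  -- the two pullbacks of `a` to `X_L ×_{X_M} X_L` agree
  have hkey : pullback.fst c' c' ≫ a = pullback.snd c' c' ≫ a := by
    have hw : (pullback.fst c' c' ≫ a) ≫ h = (pullback.snd c' c' ≫ a) ≫ h := by
      rw [Category.assoc, Category.assoc, ha, ← cLM_fst (M := M) (L := L) f,
        ← hc', pullback.condition_assoc]
    let w : pullback c' c' ⟶ pullback h h := pullback.lift _ _ hw
    have hΔw : pullback.diagonal c' ≫ w = a ≫ pullback.diagonal h := by
      apply pullback.hom_ext
      · simp only [w, Category.assoc, pullback.lift_fst, pullback.diagonal_fst,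
          pullback.diagonal_fst_assoc, Category.comp_id]
      · simp only [w, Category.assoc, pullback.lift_snd, pullback.diagonal_snd,
          pullback.diagonal_snd_assoc, Category.comp_id]
    have hrange : Set.range w ⊆ Set.range (pullback.diagonal h) := by
      rintro _ ⟨z, rfl⟩
      obtain ⟨x, rfl⟩ := (pullback.diagonal c').surjective z
      refine ⟨a x, ?_⟩
      rw [← Scheme.Hom.comp_apply, ← Scheme.Hom.comp_apply, hΔw]
    let w' : pullback c' c' ⟶ U := IsOpenImmersion.lift (pullback.diagonal h) w hrange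
    have hw' : w' ≫ pullback.diagonal h = w := IsOpenImmersion.lift_fac _ _ _
    have e1 : pullback.fst c' c' ≫ a = w' := by
      have : w ≫ pullback.fst h h = pullback.fst c' c' ≫ a := pullback.lift_fst _ _ _
      rw [← this, ← hw', Category.assoc, pullback.diagonal_fst, Category.comp_id]
    have e2 : pullback.snd c' c' ≫ a = w' := by
      have : w ≫ pullback.snd h h = pullback.snd c' c' ≫ a := pullback.lift_snd _ _ _
      rw [← this, ← hw', Category.assoc, pullback.diagonal_snd, Category.comp_id]
    rw [e1, e2]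
  have hdesc : ∀ {Z : Scheme.{u}} (g₁ g₂ : Z ⟶ pullback f (sF k L)),
      g₁ ≫ c' = g₂ ≫ c' → g₁ ≫ a = g₂ ≫ a := by
    intro Z g₁ g₂ hg
    have h1 : pullback.lift g₁ g₂ hg ≫ pullback.fst c' c' = g₁ := pullback.lift_fst _ _ _
    have h2 : pullback.lift g₁ g₂ hg ≫ pullback.snd c' c' = g₂ := pullback.lift_snd _ _ _
    rw [← h1, Category.assoc, hkey, ← Category.assoc, h2]
  haveI : EffectiveEpi c' := inferInstance
  refine ⟨EffectiveEpi.desc c' a hdesc, EffectiveEpi.fac c' a hdesc, ?_⟩
  rw [← cancel_epi c', EffectiveEpi.fac_assoc, ha, hc', cLM_fst]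

end PurelyInsep

end Groth.Agent.Lib.FEtFinExtH3
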