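import Mathlib
import Groth.Agent.Lib.FEtFinExt_helper3

/-!
# A finite étale (not necessarily surjective) cover of `X_K` descends to a finite subextension
(helper3)
-/

set_option autoImplicit false
set_option linter.all false
set_option maxHeartbeats 1600000

universe u

open CategoryTheory CategoryTheory.Limits AlgebraicGeometry

namespace Groth.Agent.Lib.FEtFinExtH3

open Groth.Agent.Lib.IsoFinExtH7 Groth.Agent.Lib.LimBaseChangeH7 Groth.Agent.Lib.AlgColim2H7

variable {k K : Type u} [Field k] [Field K] [Algebra k K]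

theorem main' [Algebra.IsAlgebraic k K] (X : Scheme.{u}) (f : X ⟶ Spec (CommRingCat.of k))
    [CompactSpace ↥X] [QuasiSeparatedSpace ↥X] (Ybar : Scheme.{u})
    (g : Ybar ⟶ pullback f (Spec.map (CommRingCat.ofHom (algebraMap k K))))
    [IsFinite g] [Etale g] :
    ∃ (L : IntermediateField k K) (_ : FiniteDimensional k ↥L) (YL : Scheme.{u})
      (gL : YL ⟶ pullback f (Spec.map (CommRingCat.ofHom (algebraMap k ↥L))))
      (_ : IsFinite gL) (_ : Etale gL)
      (c : pullback f (Spec.map (CommRingCat.ofHom (algebraMap k K))) ⟶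
        pullback f (Spec.map (CommRingCat.ofHom (algebraMap k ↥L)))),
      c ≫ pullback.fst f (Spec.map (CommRingCat.ofHom (algebraMap k ↥L))) =
        pullback.fst f (Spec.map (CommRingCat.ofHom (algebraMap k K))) ∧
      c ≫ pullback.snd f (Spec.map (CommRingCat.ofHom (algebraMap k ↥L))) =
        pullback.snd f (Spec.map (CommRingCat.ofHom (algebraMap k K))) ≫
          Spec.map (CommRingCat.ofHom (algebraMap ↥L K)) ∧
      ∃ e : Ybar ⟶ YL, IsPullback e g gL c := by
  classical
  let i₀ : (Idx k K)ᵒᵖ := Opposite.op (Classical.arbitrary _)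
  let sK : Spec (CommRingCat.of K) ⟶ Spec (CommRingCat.of k) :=
    Spec.map (CommRingCat.ofHom (algebraMap k K))
  let a₀ : pullback f (σ k K i₀) ⟶ (DS k K).obj i₀ := pullback.snd f (σ k K i₀)
  let aK : pullback f sK ⟶ (coneS k K).pt := pullback.snd f sK
  have hwX : pullback.fst f sK ≫ f = (aK ≫ (coneS k K).π.app i₀) ≫ σ k K i₀ := by
    rw [Category.assoc, coneS_π_σ]; exact pullback.condition
  let qX : pullback f sK ⟶ pullback f (σ k K i₀) :=
    pullback.lift (pullback.fst f sK) (aK ≫ (coneS k K).π.app i₀) hwX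
  have hX : IsPullback qX aK a₀ ((coneS k K).π.app i₀) := by
    refine IsPullback.of_right ?_ (pullback.lift_snd _ _ _) (IsPullback.of_hasPullback f (σ k K i₀))
    rw [pullback.lift_fst, coneS_π_σ]
    exact IsPullback.of_hasPullback f sK
  haveI : IsAffineHom (σ k K i₀) := show IsAffineHom (Spec.map _) from inferInstance
  haveI : IsAffineHom (pullback.fst f (σ k K i₀)) := MorphismProperty.pullback_fst _ _ inferInstance
  haveI : CompactSpace ↥(pullback f (σ k K i₀)) :=
    QuasiCompact.compactSpace_of_compactSpace (pullback.fst f (σ k K i₀))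
  haveI : QuasiSeparatedSpace ↥(pullback f (σ k K i₀)) :=
    quasiSeparatedSpace_of_quasiSeparated (pullback.fst f (σ k K i₀))
  let g' : Ybar ⟶ (bcCone (coneS k K) hX).pt := g
  haveI : LocallyOfFinitePresentation g' := inferInstanceAs (LocallyOfFinitePresentation g)
  haveI : QuasiCompact g' := inferInstanceAs (QuasiCompact g)
  haveI : QuasiSeparated g' := inferInstanceAs (QuasiSeparated g)
  obtain ⟨j, Yj, gj, e', -, -, -, hpb⟩ :=
    Groth.Agent.Lib.LimDescFPH7.main591 (D := bcDiagram (DS k K) i₀ a₀)
      (c := bcCone (coneS k K) hX) (isLimitBcCone (coneS k K) hX (isLimitConeS k K)) Ybar g'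
  -- the finite subextension
  let p : Idx k K := j.left.unop
  let L : IntermediateField k K := IntermediateField.adjoin k (p.1.1 : Set K)
  haveI hLfin : FiniteDimensional k ↥L :=
    IntermediateField.finiteDimensional_adjoin (fun x _ => Algebra.IsIntegral.isIntegral x)
  let ψL : (Sub p ⧸ Rel p) →ₐ[k] ↥L :=
    (stageHom p).codRestrict L.toSubalgebra (stageHom_mem p)
  let t : Spec (CommRingCat.of ↥L) ⟶ (DS k K).obj j.left :=
    Spec.map (CommRingCat.ofHom ψL.toRingHom)
  let sL : Spec (CommRingCat.of ↥L) ⟶ Spec (CommRingCat.of k) :=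
    Spec.map (CommRingCat.ofHom (algebraMap k ↥L))
  let r : Spec (CommRingCat.of K) ⟶ Spec (CommRingCat.of ↥L) :=
    Spec.map (CommRingCat.ofHom (algebraMap ↥L K))
  have hr : r ≫ t = (coneS k K).π.app j.left := by
    change Spec.map _ ≫ Spec.map _ = Spec.map _
    rw [← Spec.map_comp]
    congr 1
  have ht : t ≫ σ k K j.left = sL := by
    change Spec.map _ ≫ Spec.map _ = Spec.map _
    rw [← Spec.map_comp]
    congr 1
    apply CommRingCat.hom_ext
    apply RingHom.ext
    intro x
    exact ψL.commutes x
  have hrs : r ≫ sL = sK := by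
    change Spec.map _ ≫ Spec.map _ = Spec.map _
    rw [← Spec.map_comp]
    congr 1
  let c : pullback f sK ⟶ pullback f sL :=
    pullback.lift (pullback.fst f sK) (pullback.snd f sK ≫ r)
      (by rw [Category.assoc, hrs]; exact pullback.condition)
  have hc₁ : c ≫ pullback.fst f sL = pullback.fst f sK := pullback.lift_fst _ _ _
  have hc₂ : c ≫ pullback.snd f sL = pullback.snd f sK ≫ r := pullback.lift_snd _ _ _
  have hcpb : IsPullback c (pullback.snd f sK) (pullback.snd f sL) r := by
    refine IsPullback.of_right ?_ hc₂ (IsPullback.of_hasPullback f sL)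
    rw [hc₁, hrs]
    exact IsPullback.of_hasPullback f sK
  have hQr : (@Surjective ⊓ @Flat ⊓ @QuasiCompact : MorphismProperty Scheme.{u}) r :=
    ⟨⟨surjective_spec_field _ _ _, Groth.Agent.Lib.KerProdH3.flat_of_field r⟩,
      show QuasiCompact (Spec.map _) from inferInstance⟩
  have hQc : (@Surjective ⊓ @Flat ⊓ @QuasiCompact : MorphismProperty Scheme.{u}) c :=
    MorphismProperty.of_isPullback hcpb.flip hQr
  -- the comparison map to the stage
  have hmσ : (DS k K).map j.hom ≫ σ k K i₀ = σ k K j.left := map_σ k K j.hom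
  let uu : pullback f sL ⟶ pullback f (σ k K i₀) :=
    pullback.lift (pullback.fst f sL) (pullback.snd f sL ≫ t ≫ (DS k K).map j.hom)
      (by rw [Category.assoc, Category.assoc, hmσ, ht]; exact pullback.condition)
  let m : pullback f sL ⟶ (bcDiagram (DS k K) i₀ a₀).obj j :=
    pullback.lift uu (pullback.snd f sL ≫ t)
      (by simp only [uu, a₀, pullback.lift_snd, Category.assoc])
  have hcu : c ≫ uu = qX := by
    apply pullback.hom_ext
    · simp only [uu, qX, Category.assoc, pullback.lift_fst, hc₁]
    · simp only [uu, qX, Category.assoc, pullback.lift_snd]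
      rw [reassoc_of% hc₂, reassoc_of% hr]
      exact congrArg (fun z => aK ≫ z) ((coneS k K).w j.hom)
  have hm₁ : m ≫ pullback.fst a₀ ((DS k K).map j.hom) = uu := pullback.lift_fst _ _ _
  have hm₂ : m ≫ pullback.snd a₀ ((DS k K).map j.hom) = pullback.snd f sL ≫ t :=
    pullback.lift_snd _ _ _
  have hcm : c ≫ m = (bcCone (coneS k K) hX).π.app j := by
    apply pullback.hom_ext
    · have h1 := bcCone_π_fst (coneS k K) hX j
      have h2 : (c ≫ m) ≫ pullback.fst a₀ ((DS k K).map j.hom) = qX :=
        (Category.assoc c m _).trans ((congrArg (fun z => c ≫ z) hm₁).trans hcu)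
      exact h2.trans h1.symm
    · have h1 := bcCone_π_snd (coneS k K) hX j
      have h3 : c ≫ pullback.snd f sL ≫ t = aK ≫ (coneS k K).π.app j.left := by
        rw [reassoc_of% hc₂, hr]
        rfl
      have h2 : (c ≫ m) ≫ pullback.snd a₀ ((DS k K).map j.hom) =
          aK ≫ (coneS k K).π.app j.left :=
        (Category.assoc c m _).trans ((congrArg (fun z => c ≫ z) hm₂).trans h3)
      exact h2.trans h1.symm
  let gL : pullback gj m ⟶ pullback f sL := pullback.snd gj m
  let e : Ybar ⟶ pullback gj m :=
    pullback.lift e' (g ≫ c) (by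
      rw [Category.assoc]
      exact hpb.w.trans (congrArg (fun z => g ≫ z) hcm.symm))
  have hpbL : IsPullback e g gL c := by
    refine IsPullback.of_right ?_ (pullback.lift_snd _ _ _) (IsPullback.of_hasPullback gj m)
    have h1 : e ≫ pullback.fst gj m = e' := pullback.lift_fst _ _ _
    rw [h1, hcm]
    exact hpb
  have hfin : IsFinite gL :=
    (Groth.Agent.Lib.SchDescent_helper6.descendsAlong_isFinite).of_isPullback hpbL.flip hQc
      (inferInstance : IsFinite g)
  have het : Etale gL :=
    MorphismProperty.of_isPullback_of_descendsAlong (P := @Etale)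
      (Q := (@Surjective ⊓ @Flat ⊓ @QuasiCompact : MorphismProperty Scheme.{u})) hpbL.flip hQc
      (inferInstance : Etale g)
  exact ⟨L, hLfin, pullback gj m, gL, hfin, het, c, hc₁, hc₂, e, hpbL⟩

end Groth.Agent.Lib.FEtFinExtH3
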