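import Mathlib
import Groth.Agent.Lib.EssEt_lead
import Groth.Agent.Lib.EssEtCoeff_helper3
import Groth.Agent.Lib.HensIntegral_helper3
import Groth.Agent.Lib.FlatIndEtale_helper3
import Groth.Prelude.Def_EssEt

/-!
# Finite étale local algebras over a henselian local ring: toolkit (helper3)

* `resEquiv`: `κ(A) ⊗[A] E ≃ κ(E)` for an unramified local `A`-algebra `E`;
* `exists_local_lift`: every finite separable extension of the residue field lifts to a finite
  étale local algebra;
* `exists_lift`, `algHom_ext_of_residue`: lifting maps from residue fields;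
* `injective_algHom`, `sat_algHom`: maps out of finite étale local algebras into flat local
  algebras are faithfully flat.
-/

set_option autoImplicit false
set_option maxSynthPendingDepth 3
universe u

namespace Groth.Agent.Lib.FEtGalH3

open IsLocalRing TensorProduct

section Res

variable (A E : Type u) [CommRing A] [IsLocalRing A] [CommRing E] [IsLocalRing E] [Algebra A E]
  [IsLocalHom (algebraMap A E)]

/-- The canonical map `κ(A) ⊗[A] E → κ(E)`. -/
noncomputable def resMap : (ResidueField A ⊗[A] E) →ₐ[ResidueField A] ResidueField E :=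
  Algebra.TensorProduct.lift (Algebra.ofId (ResidueField A) (ResidueField E))
    (IsScalarTower.toAlgHom A E (ResidueField E)) (fun _ _ => Commute.all _ _)

theorem resMap_tmul (c : ResidueField A) (e : E) :
    resMap A E (c ⊗ₜ e) = algebraMap (ResidueField A) (ResidueField E) c * residue E e := by
  unfold resMap
  rw [Algebra.TensorProduct.lift_tmul]
  rfl

theorem resMap_surjective : Function.Surjective (resMap A E) := by
  intro y
  obtain ⟨e, rfl⟩ := residue_surjective y
  exact ⟨1 ⊗ₜ e, by rw [resMap_tmul, map_one, one_mul]⟩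

theorem one_tmul_eq_zero_of_mem {x : E}
    (h : x ∈ Ideal.map (algebraMap A E) (maximalIdeal A)) :
    (1 : ResidueField A) ⊗ₜ[A] x = 0 := by
  have h1 : TensorProduct.quotTensorEquivQuotSMul E (maximalIdeal A)
      ((1 : A ⧸ maximalIdeal A) ⊗ₜ[A] x) = 0 := by
    rw [TensorProduct.quotTensorEquivQuotSMul_mk_one_tmul, Submodule.Quotient.mk_eq_zero,
      Ideal.smul_top_eq_map]
    exact h
  exact (LinearEquiv.map_eq_zero_iff _).1 h1

theorem resMap_injective [Algebra.FormallyUnramified A E] [Algebra.EssFiniteType A E] :
    Function.Injective (resMap A E) := by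
  rw [injective_iff_map_eq_zero]
  intro x hx
  obtain ⟨e, rfl⟩ := Algebra.TensorProduct.includeRight_surjective (R := A)
    (S := ResidueField A) E residue_surjective x
  have h1 : residue E e = 0 := by
    have h2 := resMap_tmul A E 1 e
    rw [map_one, one_mul] at h2
    rw [← h2]
    exact hx
  rw [residue_eq_zero_iff, ← Algebra.FormallyUnramified.map_maximalIdeal (R := A) (S := E)] at h1
  exact one_tmul_eq_zero_of_mem A E h1

/-- `κ(A) ⊗[A] E ≃ κ(E)` for an unramified local `A`-algebra `E`. -/
noncomputable def resEquiv [Algebra.FormallyUnramified A E] [Algebra.EssFiniteType A E] :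
    (ResidueField A ⊗[A] E) ≃ₐ[ResidueField A] ResidueField E :=
  AlgEquiv.ofBijective (resMap A E) ⟨resMap_injective A E, resMap_surjective A E⟩

theorem isEssentiallyEtale_of_etale [Algebra.Etale A E] : EGA4loc.IsEssentiallyEtale A E := by
  refine ⟨E, inferInstance, inferInstance, maximalIdeal E, inferInstance, inferInstance, ?_, ⟨?_⟩⟩
  · exact ((local_hom_TFAE (algebraMap A E)).out 0 4).mp ‹IsLocalHom (algebraMap A E)›
  · refine (IsLocalization.atUnits E (maximalIdeal E).primeCompl ?_).restrictScalars A
    intro b hb
    have : b ∉ maximalIdeal E := hb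
    rw [mem_maximalIdeal, mem_nonunits_iff, not_not] at this
    exact this

theorem finrank_eq_finrank_residueField [Module.Finite A E] [Module.Free A E]
    [Algebra.FormallyUnramified A E] :
    Module.finrank A E = Module.finrank (ResidueField A) (ResidueField E) := by
  rw [← (resEquiv A E).toLinearEquiv.finrank_eq, Module.finrank_baseChange]

end Res

section Lift

variable (A : Type u) [CommRing A] [HenselianLocalRing A]

/-- Every finite separable extension of the residue field of a henselian local ring is the residue
field of a finite étale local algebra. -/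
theorem exists_local_lift (M : Type u) [Field M] [Algebra (ResidueField A) M]
    [FiniteDimensional (ResidueField A) M] [Algebra.IsSeparable (ResidueField A) M] :
    ∃ (E : Type u) (_ : CommRing E) (_ : Algebra A E) (_ : IsLocalRing E)
      (_ : IsLocalHom (algebraMap A E)), Module.Finite A E ∧ Algebra.Etale A E ∧
        Nonempty (ResidueField E ≃ₐ[ResidueField A] M) := by
  haveI : Algebra.FormallyEtale (ResidueField A) M := Algebra.FormallyEtale.of_isSeparable _ _
  haveI : Algebra.FinitePresentation (ResidueField A) M :=
    Algebra.FinitePresentation.of_finiteType.1 inferInstance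
  haveI : Algebra.Etale (ResidueField A) M := ⟨inferInstance, inferInstance⟩
  obtain ⟨E, _, _, hfin, het, ⟨e₀⟩⟩ :=
    Groth.Agent.Lib.EssEtCoeffH3.exists_finite_etale_lift' A M
  haveI := hfin
  haveI := het
  let g : E →+* M :=
    (e₀ : (ResidueField A ⊗[A] E) →+* M).comp
      (Algebra.TensorProduct.includeRight : E →ₐ[A] ResidueField A ⊗[A] E).toRingHom
  have hg : ∀ s : E, g s = e₀ (1 ⊗ₜ s) := fun s => rfl
  have hgsurj : Function.Surjective g := by
    intro y
    obtain ⟨x, rfl⟩ := e₀.surjective y
    obtain ⟨s, rfl⟩ := Algebra.TensorProduct.includeRight_surjective (R := A)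
      (S := ResidueField A) E residue_surjective x
    exact ⟨s, rfl⟩
  have hgker : RingHom.ker g ≤ Ideal.jacobson ⊥ := by
    intro s hs
    rw [RingHom.mem_ker] at hs
    have h1 : (1 : ResidueField A) ⊗ₜ[A] s = 0 := e₀.injective (by rw [map_zero]; exact hs)
    exact Groth.Agent.Lib.HensFinLift.map_maximalIdeal_le_jacobson (A := A)
      (Groth.Agent.Lib.EssEtCoeffH3.mem_map_of_one_tmul_eq_zero s h1)
  haveI : IsLocalRing E :=
    Groth.Agent.Lib.EssEtCoeffH3.isLocalRing_of_surjective_of_ker_le_jacobson g
      hgsurj hgker
  haveI : IsLocalHom (algebraMap A E) :=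
    ((local_hom_TFAE (algebraMap A E)).out 0 4).mpr
      (Groth.Agent.Lib.HensFinLift.comap_maximalIdeal_of_isIntegral (A := A) (C := E)
        (maximalIdeal E))
  exact ⟨E, _, _, inferInstance, inferInstance, hfin, het, ⟨(resEquiv A E).symm.trans e₀⟩⟩

end Lift

section Maps

variable (A E B : Type u) [CommRing A] [IsLocalRing A] [CommRing E] [IsLocalRing E] [Algebra A E]
  [IsLocalHom (algebraMap A E)]

/-- Lifting a map of residue fields to a map from an essentially étale local algebra to a
henselian local algebra. -/
theorem exists_lift (hE : EGA4loc.IsEssentiallyEtale A E)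
    [CommRing B] [HenselianLocalRing B] [Algebra A B] [IsLocalHom (algebraMap A B)]
    (α : ResidueField E →ₐ[ResidueField A] ResidueField B) :
    ∃ ψ : E →ₐ[A] B, ∀ x, residue B (ψ x) = α (residue E x) := by
  have hα : (α : ResidueField E →+* ResidueField B).comp
      (ResidueField.map (algebraMap A E)) = ResidueField.map (algebraMap A B) := by
    refine RingHom.ext fun x => ?_
    obtain ⟨a, rfl⟩ := residue_surjective x
    show α (ResidueField.map (algebraMap A E) (residue A a)) =
      ResidueField.map (algebraMap A B) (residue A a)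
    rw [ResidueField.map_residue, ResidueField.map_residue]
    have := α.commutes (residue A a)
    rwa [ResidueField.algebraMap_residue, ResidueField.algebraMap_residue] at this
  obtain ⟨ψ', ⟨-, h2, h3⟩, -⟩ :=
    Groth.Agent.Lib.EssEt.existsUnique_lift hE B (algebraMap A B) α hα
  exact ⟨⟨ψ', fun a => DFunLike.congr_fun h2 a⟩, h3⟩

variable [CommRing B] [IsLocalRing B] [Algebra A B] [IsLocalHom (algebraMap A B)]
  [Algebra.FormallyUnramified A E] [Algebra.EssFiniteType A E]

theorem isLocalHom_algHom (ψ : E →ₐ[A] B) : IsLocalHom ψ.toRingHom := by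
  refine ⟨fun x hx => ?_⟩
  by_contra hxu
  have h1 : x ∈ maximalIdeal E := hxu
  rw [← Algebra.FormallyUnramified.map_maximalIdeal (R := A) (S := E)] at h1
  have hle : Ideal.map (algebraMap A E) (maximalIdeal A) ≤
      (maximalIdeal B).comap ψ.toRingHom := by
    rw [Ideal.map_le_iff_le_comap, Ideal.comap_comap]
    have : ψ.toRingHom.comp (algebraMap A E) = algebraMap A B := ψ.comp_algebraMap
    rw [this]
    exact ((local_hom_TFAE (algebraMap A B)).out 0 3).mp ‹IsLocalHom (algebraMap A B)›
  have h2 : ψ x ∈ maximalIdeal B := hle h1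
  exact h2 hx

theorem residue_algHom_eq_zero (ψ : E →ₐ[A] B) {x : E} (hx : residue E x = 0) :
    residue B (ψ x) = 0 := by
  haveI := isLocalHom_algHom A E B ψ
  rw [residue_eq_zero_iff] at hx ⊢
  intro hu
  exact hx (isUnit_of_map_unit ψ.toRingHom x hu)

variable [Module.Flat A B]

/-- data: `B` is faithfully flat over `E` via `ψ`. -/
theorem sat_algHom (ψ : E →ₐ[A] B) (u : A) (hu : u ∈ nonZeroDivisors A) (x : B) (e : E)
    (h : algebraMap A B u * x = ψ e) : ∃ e', ψ e' = x := by
  letI algEB : Algebra E B := ψ.toRingHom.toAlgebra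
  haveI : IsScalarTower A E B := IsScalarTower.of_algebraMap_eq fun a => (ψ.commutes a).symm
  haveI : Module.Flat E B := Groth.Agent.Lib.IndEtaleH3.flat_of_flat_of_unramified A E B
  haveI : IsLocalHom (algebraMap E B) := isLocalHom_algHom A E B ψ
  haveI : Module.FaithfullyFlat E B := Module.FaithfullyFlat.of_flat_of_isLocalHom
  have halg : ∀ z : E, algebraMap E B z = ψ z := fun z => rfl
  set u' : E := algebraMap A E u with hu'
  have hfu : ψ u' = algebraMap A B u := ψ.commutes u
  have hmem : e ∈ ((Ideal.span {u'}).map (algebraMap E B)).comap (algebraMap E B) := by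
    rw [Ideal.mem_comap, halg, ← h, Ideal.map_span, Set.image_singleton, halg, hfu]
    exact Ideal.mul_mem_right _ _ (Ideal.subset_span rfl)
  rw [Ideal.comap_map_eq_self_of_faithfullyFlat, Ideal.mem_span_singleton'] at hmem
  obtain ⟨z, hz⟩ := hmem
  refine ⟨z, ?_⟩
  have h1 : algebraMap A B u * (x - ψ z) = 0 := by
    rw [mul_sub, h, ← hz, map_mul, hfu]
    ring
  have hreg : IsSMulRegular A u := by
    rw [isSMulRegular_iff_right_eq_zero_of_smul]
    intro m hm
    rw [smul_eq_mul, mul_comm] at hm
    exact (mem_nonZeroDivisors_iff_right.1 hu) m hm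
  have hreg' : IsSMulRegular B (algebraMap A B u) := hreg.of_flat
  have h2 : x - ψ z = 0 :=
    (isSMulRegular_iff_right_eq_zero_of_smul.1 hreg') _ (by rw [smul_eq_mul]; exact h1)
  exact (sub_eq_zero.1 h2).symm

theorem injective_algHom (ψ : E →ₐ[A] B) : Function.Injective ψ := by
  letI algEB : Algebra E B := ψ.toRingHom.toAlgebra
  haveI : IsScalarTower A E B := IsScalarTower.of_algebraMap_eq fun a => (ψ.commutes a).symm
  haveI : Module.Flat E B := Groth.Agent.Lib.IndEtaleH3.flat_of_flat_of_unramified A E B
  haveI : IsLocalHom (algebraMap E B) := isLocalHom_algHom A E B ψ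
  haveI : Module.FaithfullyFlat E B := Module.FaithfullyFlat.of_flat_of_isLocalHom
  exact FaithfulSMul.algebraMap_injective E B

end Maps

end Groth.Agent.Lib.FEtGalH3
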