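import Mathlib
import Groth.Agent.Lib.FEtGal1_helper3

/-!
# Galois theory of finite étale local algebras over a henselian local domain (helper3)

Let `A` be a henselian local domain, `E` a finite étale local `A`-algebra which is a domain and
whose residue field is normal over that of `A`.  Then `Frac E / Frac A` is Galois with group
`Aut_A(E)`, and every intermediate field is generated by (the image of) a finite étale local
`A`-algebra.
-/

set_option autoImplicit false
set_option maxSynthPendingDepth 3
universe u

namespace Groth.Agent.Lib.FEtGalH3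

open IsLocalRing TensorProduct

section Galois

variable (A : Type u) [CommRing A] [HenselianLocalRing A] [IsDomain A]
  (E : Type u) [CommRing E] [IsDomain E] [IsLocalRing E] [Algebra A E]
  [IsLocalHom (algebraMap A E)] [Module.Finite A E] [Algebra.Etale A E]

/-- The action of `Aut_A(E)` on the residue field. -/
noncomputable def resHom :
    (E ≃ₐ[A] E) →* (ResidueField E ≃ₐ[ResidueField A] ResidueField E) where
  toFun g := ResidueField.mapAlgEquiv' g
  map_one' := by
    ext x
    obtain ⟨x, rfl⟩ := residue_surjective x
    rfl
  map_mul' g h := by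
    ext x
    obtain ⟨x, rfl⟩ := residue_surjective x
    rfl

theorem resHom_residue (g : E ≃ₐ[A] E) (x : E) :
    resHom A E g (residue E x) = residue E (g x) := rfl

/-- Every automorphism of the residue field lifts to an automorphism of `E`. -/
theorem exists_algEquiv_lift
    (σ : ResidueField E ≃ₐ[ResidueField A] ResidueField E) :
    ∃ g : E ≃ₐ[A] E, ∀ x, residue E (g x) = σ (residue E x) := by
  haveI : HenselianLocalRing E :=
    Groth.Agent.Lib.HensIntegralH3.henselianLocalRing_of_isIntegral A E
  have hE : EGA4loc.IsEssentiallyEtale A E := isEssentiallyEtale_of_etale A E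
  obtain ⟨g₁, hg₁⟩ := exists_lift A E E hE σ.toAlgHom
  obtain ⟨g₂, hg₂⟩ := exists_lift A E E hE σ.symm.toAlgHom
  have h12 : g₁.comp g₂ = AlgHom.id A E := by
    refine Groth.Agent.Lib.EssEt.algHom_eq_of_essEtale hE _ _ (fun x => ?_)
    show residue E (g₁ (g₂ x)) = residue E x
    rw [hg₁, hg₂]
    exact σ.apply_symm_apply _
  have h21 : g₂.comp g₁ = AlgHom.id A E := by
    refine Groth.Agent.Lib.EssEt.algHom_eq_of_essEtale hE _ _ (fun x => ?_)
    show residue E (g₂ (g₁ x)) = residue E x
    rw [hg₂, hg₁]
    exact σ.symm_apply_apply _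
  exact ⟨AlgEquiv.ofAlgHom g₁ g₂ h12 h21, hg₁⟩

theorem card_aut_residue_le [Normal (ResidueField A) (ResidueField E)] [Finite (E ≃ₐ[A] E)] :
    Module.finrank (ResidueField A) (ResidueField E) ≤ Nat.card (E ≃ₐ[A] E) := by
  haveI : IsGalois (ResidueField A) (ResidueField E) := IsGalois.mk
  rw [← IsGalois.card_aut_eq_finrank]
  choose g hg using exists_algEquiv_lift A E
  refine Nat.card_le_card_of_injective g ?_
  intro σ τ h
  ext x
  obtain ⟨x, rfl⟩ := residue_surjective x
  rw [← hg σ x, ← hg τ x, h]

variable (K K' : Type u) [Field K] [Field K'] [Algebra A K] [IsFractionRing A K]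
  [Algebra E K'] [IsFractionRing E K'] [Algebra A K'] [IsScalarTower A E K'] [Algebra K K']
  [IsScalarTower A K K']

theorem finrank_fraction :
    Module.finrank K K' = Module.finrank (ResidueField A) (ResidueField E) := by
  haveI : Module.Free A E := Module.free_of_flat_of_isLocalRing
  rw [IsFractionRing.finrank_eq A K E K', finrank_eq_finrank_residueField A E]

include A E in
theorem finiteDimensional_fraction : FiniteDimensional K K' := by
  apply Module.finite_of_finrank_pos
  rw [finrank_fraction A E K K']
  exact Module.finrank_pos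

/-- `Frac E / Frac A` is Galois with group `Aut_A(E)`. -/
theorem isGalois_fraction [Normal (ResidueField A) (ResidueField E)] :
    IsGalois K K' ∧ Function.Bijective
      (IsFractionRing.fieldEquivOfAlgEquivHom K K' : (E ≃ₐ[A] E) →* (K' ≃ₐ[K] K')) := by
  haveI := finiteDimensional_fraction A E K K'
  have hinj := IsFractionRing.fieldEquivOfAlgEquivHom_injective A E K K'
  haveI : Finite (K' ≃ₐ[K] K') := inferInstance
  haveI : Finite (E ≃ₐ[A] E) := Finite.of_injective _ hinj
  have h1 := card_aut_residue_le A E
  have h2 : Nat.card (E ≃ₐ[A] E) ≤ Nat.card (K' ≃ₐ[K] K') :=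
    Nat.card_le_card_of_injective _ hinj
  have h3 : Nat.card (K' ≃ₐ[K] K') ≤ Module.finrank K K' := by
    rw [Nat.card_eq_fintype_card]
    exact AlgEquiv.card_le
  have h4 := finrank_fraction A E K K'
  refine ⟨IsGalois.of_card_aut_eq_finrank K K' (by omega), ?_⟩
  exact hinj.bijective_of_nat_card_le (by omega)

set_option maxHeartbeats 1000000 in
/-- Every intermediate field of `Frac E / Frac A` is generated by a finite étale local
`A`-algebra mapping to `E`. -/
theorem exists_lift_intermediateField [Normal (ResidueField A) (ResidueField E)]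
    (L : IntermediateField K K') :
    ∃ (El : Type u) (_ : CommRing El) (_ : Algebra A El) (_ : IsLocalRing El)
      (_ : IsLocalHom (algebraMap A El)) (_ : Module.Finite A El) (_ : Algebra.Etale A El)
      (ι : El →ₐ[A] E),
      ∀ y : K', y ∈ L ↔ ∃ a ∈ nonZeroDivisors A, ∃ e : El,
        algebraMap A K' a * y = algebraMap E K' (ι e) := by
  classical
  haveI := finiteDimensional_fraction A E K K'
  obtain ⟨hgal, hbij⟩ := isGalois_fraction A E K K'
  haveI := hgal
  haveI : Module.Free A E := Module.free_of_flat_of_isLocalRing
  haveI : HenselianLocalRing E :=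
    Groth.Agent.Lib.HensIntegralH3.henselianLocalRing_of_isIntegral A E
  haveI : IsGalois (ResidueField A) (ResidueField E) := IsGalois.mk
  let ext : (E ≃ₐ[A] E) →* (K' ≃ₐ[K] K') := IsFractionRing.fieldEquivOfAlgEquivHom K K'
  have hext : ∀ (g : E ≃ₐ[A] E) (x : E),
      ext g (algebraMap E K' x) = algebraMap E K' (g x) := fun g x =>
    IsFractionRing.fieldEquivOfAlgEquiv_algebraMap K K' K' g x
  haveI : Finite (E ≃ₐ[A] E) := Finite.of_injective _ hbij.1
  let H : Subgroup (K' ≃ₐ[K] K') := L.fixingSubgroup
  let HG : Subgroup (E ≃ₐ[A] E) := H.comap ext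
  let Hbar : Subgroup (ResidueField E ≃ₐ[ResidueField A] ResidueField E) :=
    ((resHom A E).comp HG.subtype).range
  let l : IntermediateField (ResidueField A) (ResidueField E) :=
    IntermediateField.fixedField Hbar
  -- cardinalities
  have hc1 : Nat.card HG ≤ Nat.card H := by
    refine Nat.card_le_card_of_injective (fun g : HG => (⟨ext g.1, g.2⟩ : H)) ?_
    intro g g' h
    exact Subtype.ext (hbij.1 (congrArg Subtype.val h))
  have hc2 : Nat.card Hbar ≤ Nat.card HG :=
    Nat.card_le_card_of_surjective _ ((resHom A E).comp HG.subtype).rangeRestrict_surjective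
  have hc3 : Nat.card H = Module.finrank L K' := IsGalois.card_fixingSubgroup_eq_finrank L
  have hc4 : Module.finrank l (ResidueField E) = Nat.card Hbar :=
    IntermediateField.finrank_fixedField_eq_card Hbar
  have hc5 : Module.finrank K L * Module.finrank L K' = Module.finrank K K' :=
    Module.finrank_mul_finrank K L K'
  have hc6 : Module.finrank (ResidueField A) l * Module.finrank l (ResidueField E) =
      Module.finrank (ResidueField A) (ResidueField E) :=
    Module.finrank_mul_finrank (ResidueField A) l (ResidueField E)
  have hc7 := finrank_fraction A E K K'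
  have hpos : 0 < Module.finrank L K' := Module.finrank_pos
  have hle : Module.finrank K L ≤ Module.finrank (ResidueField A) l := by
    have h1 : Module.finrank l (ResidueField E) ≤ Module.finrank L K' := by omega
    have h2 : Module.finrank K L * Module.finrank L K' ≤
        Module.finrank (ResidueField A) l * Module.finrank L K' := by
      rw [hc5, hc7, ← hc6]
      exact Nat.mul_le_mul_left _ h1
    exact Nat.le_of_mul_le_mul_right h2 hpos
  -- the lift of `l`
  obtain ⟨El, _, _, _, _, hfin, het, ⟨e⟩⟩ := exists_local_lift A l
  haveI := hfin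
  haveI := het
  haveI : Module.Free A El := Module.free_of_flat_of_isLocalRing
  have hEl : EGA4loc.IsEssentiallyEtale A El := isEssentiallyEtale_of_etale A El
  let α : ResidueField El →ₐ[ResidueField A] ResidueField E := l.val.comp e.toAlgHom
  obtain ⟨ι, hι⟩ := exists_lift A El E hEl α
  have hιinj : Function.Injective ι := injective_algHom A El E ι
  -- invariance
  have hinv : ∀ g ∈ HG, ∀ x : El, g (ι x) = ι x := by
    intro g hg x
    have h1 : (g : E →ₐ[A] E).comp ι = ι := by
      refine Groth.Agent.Lib.EssEt.algHom_eq_of_essEtale hEl _ _ (fun x => ?_)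
      show residue E (g (ι x)) = residue E (ι x)
      rw [← resHom_residue, hι]
      have hmem : α (residue El x) ∈ l := (e (residue El x)).2
      have hg' : resHom A E g ∈ Hbar := ⟨⟨g, hg⟩, rfl⟩
      exact (IntermediateField.mem_fixedField_iff Hbar _).1 hmem _ hg'
    exact DFunLike.congr_fun h1 x
  let φ : El →ₗ[A] K' := (IsScalarTower.toAlgHom A E K').toLinearMap.comp ι.toLinearMap
  have hφ : ∀ x, φ x = algebraMap E K' (ι x) := fun x => rfl
  have hφinj : Function.Injective φ := (IsFractionRing.injective E K').comp hιinj
  have hφL : ∀ x, φ x ∈ L := by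
    intro x
    rw [← IsGalois.fixedField_fixingSubgroup L, IntermediateField.mem_fixedField_iff]
    intro h hh
    obtain ⟨g, rfl⟩ := hbij.2 h
    have hg : g ∈ HG := hh
    rw [hφ, hext, hinv g hg]
  -- dimension count
  let b := Module.Free.chooseBasis A El
  let v : Module.Free.ChooseBasisIndex A El → K' := fun i => φ (b i)
  have hvA : LinearIndependent A v :=
    b.linearIndependent.map' φ (LinearMap.ker_eq_bot.2 hφinj)
  have hvK : LinearIndependent K v := hvA.localization K (nonZeroDivisors A)
  let LS : Submodule K K' := L.toSubalgebra.toSubmodule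
  have hWle : Submodule.span K (Set.range v) ≤ LS := by
    rw [Submodule.span_le]
    rintro _ ⟨i, rfl⟩
    exact hφL _
  have hLS : Module.finrank K LS = Module.finrank K L := rfl
  have hW : Submodule.span K (Set.range v) = LS := by
    refine Submodule.eq_of_le_of_finrank_le hWle ?_
    rw [finrank_span_eq_card hvK, ← Module.finrank_eq_card_chooseBasisIndex,
      finrank_eq_finrank_residueField A El, hLS, e.toLinearEquiv.finrank_eq]
    exact hle
  refine ⟨El, _, _, inferInstance, inferInstance, hfin, het, ι, fun y => ⟨fun hy => ?_, ?_⟩⟩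
  · have hy' : y ∈ Submodule.span K (Set.range v) := by
      rw [hW]
      exact hy
    rw [Submodule.mem_span_range_iff_exists_fun] at hy'
    obtain ⟨c, hc⟩ := hy'
    obtain ⟨a, ha⟩ := IsLocalization.exist_integer_multiples_of_finite (nonZeroDivisors A) c
    choose a' ha' using ha
    refine ⟨a, a.2, ∑ i, a' i • b i, ?_⟩
    rw [← hφ, map_sum, ← hc, Finset.mul_sum]
    refine Finset.sum_congr rfl fun i _ => ?_
    rw [map_smul, ← algebraMap_smul K (a' i) (φ (b i)), ha' i, Algebra.smul_def,
      Algebra.smul_def, Algebra.smul_def, map_mul, ← IsScalarTower.algebraMap_apply A K K',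
      mul_assoc]
  · rintro ⟨a, ha, e', he'⟩
    have h1 : algebraMap A K' a ≠ 0 := by
      rw [IsScalarTower.algebraMap_apply A K K']
      intro h0
      have h2 : algebraMap A K a = 0 := (algebraMap K K').injective (by rw [h0, map_zero])
      exact nonZeroDivisors.ne_zero ha ((IsFractionRing.injective A K) (by rw [h2, map_zero]))
    have h2 : y = (algebraMap A K' a)⁻¹ * φ e' := by
      rw [hφ, ← he', inv_mul_cancel_left₀ h1]
    rw [h2]
    refine L.mul_mem (L.inv_mem ?_) (hφL e')
    rw [IsScalarTower.algebraMap_apply A K K']
    exact L.algebraMap_mem _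

end Galois

end Groth.Agent.Lib.FEtGalH3
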