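import Groth.Agent.Lib.ShUnramEssEt_helper3

/-!
# Saturated essentially étale local subalgebras of ind-étale local algebras (helper3)
-/

set_option autoImplicit false
universe u

namespace Groth.Agent.Lib.ShUnramEssEtH3

open IsLocalRing

section Sat

variable (A S : Type u) [CommRing A] [IsLocalRing A] [CommRing S] [IsLocalRing S] [Algebra A S]
  [Module.Flat A S]
  (C : Type u) [CommRing C] [Algebra A C] [Algebra.Etale A C] (f : C →ₐ[A] S)

/-- If `u x` lies in the image of `C_q` for a non-zero-divisor `u` of `A`, so does `x`. -/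
theorem fh_sat (u : A) (hu : u ∈ nonZeroDivisors A) (x : S)
    (y : Localization.AtPrime (qOf A S C f)) (hy : algebraMap A S u * x = fh A S C f y) :
    ∃ y', fh A S C f y' = x := by
  letI algCS : Algebra C S := f.toRingHom.toAlgebra
  haveI : IsScalarTower A C S := IsScalarTower.of_algebraMap_eq fun a => (f.commutes a).symm
  haveI : Module.Flat C S := Groth.Agent.Lib.IndEtaleH3.flat_of_flat_of_unramified A C S
  letI algLS : Algebra (Localization.AtPrime (qOf A S C f)) S := (fh A S C f).toRingHom.toAlgebra
  haveI : IsScalarTower C (Localization.AtPrime (qOf A S C f)) S :=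
    IsScalarTower.of_algebraMap_eq fun c => (fh_algebraMap A S C f c).symm
  haveI : Module.Flat (Localization.AtPrime (qOf A S C f)) S :=
    (Module.flat_iff_of_isLocalization (Localization.AtPrime (qOf A S C f))
      (qOf A S C f).primeCompl S).2 inferInstance
  haveI : IsLocalHom (algebraMap (Localization.AtPrime (qOf A S C f)) S) := by
    refine ⟨fun x hx => ?_⟩
    have hx' : IsUnit (fh A S C f x) := hx
    obtain ⟨c, s, rfl⟩ := IsLocalization.exists_mk'_eq (qOf A S C f).primeCompl x
    have h1 := fh_mk' A S C f c s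
    have h2 : IsUnit (f c) := by
      rw [← h1]
      exact hx'.mul (isUnit_of_primeCompl A S C f s)
    have h3 : c ∉ qOf A S C f := by
      rw [mem_qOf, not_not]
      exact h2
    exact (IsLocalization.AtPrime.isUnit_mk'_iff (Localization.AtPrime (qOf A S C f))
      (qOf A S C f) c s).2 h3
  haveI : Module.FaithfullyFlat (Localization.AtPrime (qOf A S C f)) S :=
    Module.FaithfullyFlat.of_flat_of_isLocalHom
  have halg : ∀ z : Localization.AtPrime (qOf A S C f),
      algebraMap (Localization.AtPrime (qOf A S C f)) S z = fh A S C f z := fun z => rfl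
  set u' : Localization.AtPrime (qOf A S C f) := algebraMap A _ u with hu'
  have hfu : fh A S C f u' = algebraMap A S u := (fh A S C f).commutes u
  have hmem : y ∈ ((Ideal.span {u'}).map (algebraMap (Localization.AtPrime (qOf A S C f)) S)).comap
      (algebraMap (Localization.AtPrime (qOf A S C f)) S) := by
    rw [Ideal.mem_comap, halg, ← hy, Ideal.map_span, Set.image_singleton, halg, hfu]
    exact Ideal.mul_mem_right _ _ (Ideal.subset_span rfl)
  rw [Ideal.comap_map_eq_self_of_faithfullyFlat, Ideal.mem_span_singleton'] at hmem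
  obtain ⟨z, hz⟩ := hmem
  refine ⟨z, ?_⟩
  have h1 : algebraMap A S u * (x - fh A S C f z) = 0 := by
    rw [mul_sub, hy, ← hz, map_mul, hfu]
    ring
  have hreg : IsSMulRegular A u := by
    rw [isSMulRegular_iff_right_eq_zero_of_smul]
    intro m hm
    rw [smul_eq_mul, mul_comm] at hm
    exact (mem_nonZeroDivisors_iff_right.1 hu) m hm
  have hreg' : IsSMulRegular S (algebraMap A S u) := hreg.of_flat
  have h2 : x - fh A S C f z = 0 :=
    (isSMulRegular_iff_right_eq_zero_of_smul.1 hreg') _ (by rw [smul_eq_mul]; exact h1)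
  exact (sub_eq_zero.1 h2).symm

end Sat

section Exists

variable (A S : Type u) [CommRing A] [IsLocalRing A] [CommRing S] [IsLocalRing S] [Algebra A S]
  [IsLocalHom (algebraMap A S)]

/-- Every essentially finite type subalgebra of a local ind-étale algebra is contained in a local
essentially étale subalgebra which is saturated with respect to the non-zero-divisors of `A`. -/
theorem exists_subalgebra_sat (hie : EtPBC.IsIndEtale A S) (D : Subalgebra A S)
    [Algebra.EssFiniteType A D] :
    ∃ E : Subalgebra A S, D ≤ E ∧ (∃ _ : IsLocalRing E, EGA4loc.IsEssentiallyEtale A E) ∧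
      ∀ (u : A) (x : S), u ∈ nonZeroDivisors A → algebraMap A S u * x ∈ E → x ∈ E := by
  classical
  haveI : Module.Flat A S := Groth.Agent.Lib.IndEtaleH3.flat_of_isIndEtale hie
  obtain ⟨σ, hσ⟩ := (Algebra.essFiniteType_iff A D).1 (inferInstance : Algebra.EssFiniteType A D)
  obtain ⟨C, _, _, hC, f, hf⟩ := Groth.Agent.Lib.IndEtaleH3.exists_finset_of_isIndEtale hie
    (σ.image (fun d : D => (d : S)))
  haveI := hC
  have hadj : ∀ z : D, z ∈ Algebra.adjoin A (σ : Set D) → (z : S) ∈ f.range := by
    intro z hz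
    have h1 : (Algebra.adjoin A (σ : Set D)).map D.val ≤ f.range := by
      rw [AlgHom.map_adjoin]
      apply Algebra.adjoin_le
      rintro _ ⟨d, hd, rfl⟩
      exact hf _ (Finset.mem_image_of_mem _ hd)
    exact h1 ⟨z, hz, rfl⟩
  let e : Localization.AtPrime (qOf A S C f) ≃ₐ[A] (fh A S C f).range :=
    AlgEquiv.ofInjective (fh A S C f) (fh_injective A S C f)
  refine ⟨(fh A S C f).range, ?_, ⟨e.toRingEquiv.isLocalRing,
    ⟨C, _, _, qOf A S C f, inferInstance, hC, comap_qOf A S C f, ⟨e.symm⟩⟩⟩, ?_⟩
  · intro x hx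
    obtain ⟨t, ht, htu, hxt⟩ := hσ ⟨x, hx⟩
    obtain ⟨ct, hct⟩ := hadj t ht
    obtain ⟨cx, hcx⟩ := hadj _ hxt
    have hut : IsUnit (t : S) := htu.map D.val
    have h2 : f ct = (t : S) := hct
    have h3 : f cx = x * (t : S) := hcx
    have hctq : ct ∈ (qOf A S C f).primeCompl := by
      show ct ∉ qOf A S C f
      rw [mem_qOf, not_not, h2]
      exact hut
    refine ⟨IsLocalization.mk' _ cx ⟨ct, hctq⟩, ?_⟩
    have h1 := fh_mk' A S C f cx ⟨ct, hctq⟩
    apply hut.mul_left_injective
    show fh A S C f _ * (t : S) = x * (t : S)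
    rw [← h3, ← h1, h2]
  · rintro u x hu ⟨y, hy⟩
    obtain ⟨y', hy'⟩ := fh_sat A S C f u hu x y hy.symm
    exact ⟨y', hy'⟩

end Exists

end Groth.Agent.Lib.ShUnramEssEtH3
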