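import Mathlib
import Groth.Agent.Lib.FEtGal2_helper3
import Groth.Agent.Lib.ShEssEtSat_helper3
import Groth.Agent.Lib.StrictHens8_helper3
import Groth.Prelude.Def_Hensel

/-!
# Intersections of the strict henselization with finitely generated subfields (helper3)

Let `A` be a henselian local domain whose strict henselization `S` is a domain.  For a subfield `L`
of `Frac S` finitely generated over `Frac A`, the ring `S ∩ L` is a finite étale local
`A`-algebra.
-/

set_option autoImplicit false
set_option maxSynthPendingDepth 3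
universe u

namespace Groth.Agent.Lib.FEtGalH3

open IsLocalRing TensorProduct

section FE

variable (A : Type u) [CommRing A] [HenselianLocalRing A]

/-- Essentially étale local algebras over a henselian local ring are finite étale. -/
theorem finite_etale_of_essEtale (E : Type u) [CommRing E] [Algebra A E]
    (hE : EGA4loc.IsEssentiallyEtale A E) : Module.Finite A E ∧ Algebra.Etale A E := by
  obtain ⟨C, _, _, q, hq, hC, hqm, ⟨e₁⟩⟩ := hE
  haveI := hq
  haveI := hC
  haveI : q.LiesOver (maximalIdeal A) := ⟨hqm.symm⟩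
  haveI : Algebra.FiniteType A C := inferInstance
  obtain ⟨ε, hid, hε, hfin, huniq⟩ :=
    Groth.Agent.Lib.HenselFiniteH3.exists_idem_finite_unique A C q
  haveI := Groth.Agent.Lib.HenselFiniteH3.isLocalization_quotient A C q ε hε hid hfin huniq
  let e₂ : (C ⧸ Ideal.span ({1 - ε} : Set C)) ≃ₐ[C] Localization.AtPrime q :=
    IsLocalization.algEquiv q.primeCompl _ _
  haveI : IsLocalization.Away ε (C ⧸ Ideal.span ({1 - ε} : Set C)) :=
    IsLocalization.away_of_isIdempotentElem hid (by
      rw [Ideal.Quotient.algebraMap_eq, Ideal.mk_ker]) Ideal.Quotient.mk_surjective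
  haveI : Algebra.Etale C (C ⧸ Ideal.span ({1 - ε} : Set C)) :=
    Algebra.Etale.of_isLocalizationAway ε
  haveI : Algebra.Etale A (C ⧸ Ideal.span ({1 - ε} : Set C)) := Algebra.Etale.comp A C _
  let e₃ : (C ⧸ Ideal.span ({1 - ε} : Set C)) ≃ₐ[A] E := (e₂.restrictScalars A).trans e₁.symm
  exact ⟨Module.Finite.equiv e₃.toLinearEquiv, Algebra.Etale.of_equiv e₃⟩

variable (S : Type u) [CommRing S] [IsLocalRing S] [Algebra A S] [IsLocalHom (algebraMap A S)]

/-- Every finite subset of a local ind-étale algebra over a henselian local ring lies in the image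
of a finite étale local algebra. -/
theorem exists_FE_of_finset (hie : EtPBC.IsIndEtale A S) (T : Finset S) :
    ∃ (E₀ : Type u) (_ : CommRing E₀) (_ : Algebra A E₀) (_ : IsLocalRing E₀)
      (_ : IsLocalHom (algebraMap A E₀)) (_ : Module.Finite A E₀) (_ : Algebra.Etale A E₀)
      (f₀ : E₀ →ₐ[A] S), ∀ t ∈ T, t ∈ Set.range f₀ := by
  classical
  haveI : Module.Flat A S := Groth.Agent.Lib.IndEtaleH3.flat_of_isIndEtale hie
  obtain ⟨C, _, _, hC, f, hf⟩ := Groth.Agent.Lib.IndEtaleH3.exists_finset_of_isIndEtale hie T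
  haveI := hC
  have hq := Groth.Agent.Lib.ShUnramEssEtH3.comap_qOf A S C f
  have hE : EGA4loc.IsEssentiallyEtale A
      (Localization.AtPrime (Groth.Agent.Lib.ShUnramEssEtH3.qOf A S C f)) :=
    ⟨C, _, _, Groth.Agent.Lib.ShUnramEssEtH3.qOf A S C f, inferInstance, hC, hq,
      ⟨AlgEquiv.refl⟩⟩
  obtain ⟨hfin, het⟩ := finite_etale_of_essEtale A _ hE
  haveI : IsLocalHom (algebraMap A
      (Localization.AtPrime (Groth.Agent.Lib.ShUnramEssEtH3.qOf A S C f))) :=
    Groth.Agent.Lib.EssEt.isLocalHom_of_comap _ hq
  refine ⟨Localization.AtPrime (Groth.Agent.Lib.ShUnramEssEtH3.qOf A S C f), _, _, inferInstance,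
    inferInstance, hfin, het, Groth.Agent.Lib.ShUnramEssEtH3.fh A S C f, fun t ht => ?_⟩
  obtain ⟨c, hc⟩ := hf t ht
  exact ⟨algebraMap C _ c, by rw [Groth.Agent.Lib.ShUnramEssEtH3.fh_algebraMap, hc]⟩

end FE

section SH

variable (A S : Type u) [CommRing A] [HenselianLocalRing A]
  [CommRing S] [IsLocalRing S] [Algebra A S] [IsLocalHom (algebraMap A S)]
  [Hensel.IsStrictHenselization A S]

open IntermediateField in
/-- Every finite subset of the strict henselization lies in the image of a finite étale local
algebra whose residue field is normal over that of `A`. -/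
theorem exists_galois_FE (T : Finset S) :
    ∃ (E' : Type u) (_ : CommRing E') (_ : Algebra A E') (_ : IsLocalRing E')
      (_ : IsLocalHom (algebraMap A E')) (_ : Module.Finite A E') (_ : Algebra.Etale A E')
      (_ : Normal (ResidueField A) (ResidueField E'))
      (f' : E' →ₐ[A] S), ∀ t ∈ T, t ∈ Set.range f' := by
  classical
  have hie : EtPBC.IsIndEtale A S :=
    Groth.Agent.Lib.StrictHens.isIndEtale_of_isStrictHenselization S
  haveI : HenselianLocalRing S := Hensel.IsStrictHenselization.henselian A
  haveI : IsSepClosure (ResidueField A) (ResidueField S) :=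
    Hensel.IsStrictHenselization.isSepClosure
  obtain ⟨E₀, _, _, _, _, hfin₀, het₀, f₀, hf₀⟩ := exists_FE_of_finset A S hie T
  haveI := hfin₀
  haveI := het₀
  have hE₀ : EGA4loc.IsEssentiallyEtale A E₀ := isEssentiallyEtale_of_etale A E₀
  haveI hloc₀ : IsLocalHom f₀ := by
    have := isLocalHom_algHom A E₀ S f₀
    exact ⟨fun a ha => this.map_nonunit a ha⟩
  let κf₀ : ResidueField E₀ →ₐ[ResidueField A] ResidueField S := ResidueField.mapAlgHom' f₀
  have hκf₀ : ∀ x, κf₀ (residue E₀ x) = residue S (f₀ x) := fun x => rfl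
  let M : IntermediateField (ResidueField A) (ResidueField S) :=
    normalClosure (ResidueField A) (ResidueField E₀) (ResidueField S)
  haveI : Normal (ResidueField A) M := normalClosure.normal _ _ _
  haveI : FiniteDimensional (ResidueField A) M := normalClosure.is_finiteDimensional _ _ _
  haveI : Algebra.IsSeparable (ResidueField A) M := inferInstance
  have hle : κf₀.fieldRange ≤ M := κf₀.fieldRange_le_normalClosure
  obtain ⟨E', _, _, _, _, hfin, het, ⟨eM⟩⟩ := exists_local_lift A M
  haveI := hfin
  haveI := het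
  have hE' : EGA4loc.IsEssentiallyEtale A E' := isEssentiallyEtale_of_etale A E'
  haveI : HenselianLocalRing E' :=
    Groth.Agent.Lib.HensIntegralH3.henselianLocalRing_of_isIntegral A E'
  obtain ⟨f', hf'⟩ := exists_lift A E' S hE' (M.val.comp eM.toAlgHom)
  let κf₀' : ResidueField E₀ →ₐ[ResidueField A] M :=
    κf₀.codRestrict M.toSubalgebra (fun x => hle ⟨x, rfl⟩)
  have hκf₀' : ∀ x, ((κf₀' x : M) : ResidueField S) = κf₀ x := fun x => rfl
  obtain ⟨φ, hφ⟩ := exists_lift A E₀ E' hE₀ (eM.symm.toAlgHom.comp κf₀')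
  have hcomp : f'.comp φ = f₀ := by
    refine Groth.Agent.Lib.EssEt.algHom_eq_of_essEtale hE₀ _ _ (fun x => ?_)
    show residue S (f' (φ x)) = residue S (f₀ x)
    rw [hf', hφ, ← hκf₀, ← hκf₀']
    show ((eM (eM.symm (κf₀' (residue E₀ x))) : M) : ResidueField S) = _
    rw [AlgEquiv.apply_symm_apply]
  haveI : Normal (ResidueField A) (ResidueField E') := Normal.of_algEquiv eM.symm
  refine ⟨E', _, _, inferInstance, inferInstance, hfin, het, inferInstance, f', fun t ht => ?_⟩
  obtain ⟨x, hx⟩ := hf₀ t ht
  exact ⟨φ x, by rw [← hx, ← hcomp]; rfl⟩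

end SH

section Main

variable (A S : Type u) [CommRing A] [HenselianLocalRing A] [IsDomain A]
  [CommRing S] [IsLocalRing S] [Algebra A S] [IsLocalHom (algebraMap A S)]
  [Hensel.IsStrictHenselization A S] [IsDomain S]

attribute [local instance] FractionRing.liftAlgebra in
set_option maxHeartbeats 1000000 in
theorem main (t : Finset (FractionRing S)) :
    ∃ D : Subalgebra A S, (D : Set S) = (algebraMap S (FractionRing S)) ⁻¹'
        (Subfield.closure (Set.range (algebraMap A (FractionRing S)) ∪
          (t : Set (FractionRing S))) : Set (FractionRing S)) ∧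
      ∃ _ : IsLocalRing D, IsLocalHom (algebraMap D S) ∧ EGA4loc.IsEssentiallyEtale A D := by
  classical
  have hie : EtPBC.IsIndEtale A S :=
    Groth.Agent.Lib.StrictHens.isIndEtale_of_isStrictHenselization S
  haveI : Module.Flat A S := Groth.Agent.Lib.IndEtaleH3.flat_of_isIndEtale hie
  choose num den hnd using fun x : FractionRing S => IsFractionRing.div_surjective (A := S) x
  obtain ⟨E', _, _, _, _, hfin, het, hnorm, f', hf'⟩ :=
    exists_galois_FE A S (t.image num ∪ t.image den)
  haveI := hfin
  haveI := het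
  haveI := hnorm
  have hf'inj : Function.Injective f' := injective_algHom A E' S f'
  haveI : IsDomain E' := hf'inj.isDomain f'.toRingHom
  haveI : Module.FaithfullyFlat A E' := Module.FaithfullyFlat.of_flat_of_isLocalHom
  haveI : FaithfulSMul A E' := inferInstance
  -- the map on fraction fields
  let g : E' →+* FractionRing S := (algebraMap S (FractionRing S)).comp f'.toRingHom
  have hg : Function.Injective g := (IsFractionRing.injective S (FractionRing S)).comp hf'inj
  let F : FractionRing E' →+* FractionRing S := IsFractionRing.lift hg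
  have hF : ∀ x : E', F (algebraMap E' (FractionRing E') x) = algebraMap S (FractionRing S) (f' x) :=
    fun x => IsFractionRing.lift_algebraMap hg x
  have hFA : ∀ a : A, F (algebraMap A (FractionRing E') a) = algebraMap A (FractionRing S) a := by
    intro a
    rw [IsScalarTower.algebraMap_apply A E' (FractionRing E'), hF, f'.commutes,
      ← IsScalarTower.algebraMap_apply]
  let Lsub : Subfield (FractionRing S) :=
    Subfield.closure (Set.range (algebraMap A (FractionRing S)) ∪ (t : Set (FractionRing S)))
  have hLA : ∀ a : A, algebraMap A (FractionRing S) a ∈ Lsub := fun a =>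
    Subfield.subset_closure (Or.inl ⟨a, rfl⟩)
  let L' : IntermediateField (FractionRing A) (FractionRing E') :=
    (Lsub.comap F).toIntermediateField (by
      intro c
      obtain ⟨a, b, -, rfl⟩ := IsFractionRing.div_surjective (A := A) c
      show F (algebraMap (FractionRing A) (FractionRing E') _) ∈ Lsub
      rw [map_div₀, map_div₀, ← IsScalarTower.algebraMap_apply, ← IsScalarTower.algebraMap_apply,
        hFA, hFA]
      exact Lsub.div_mem (hLA a) (hLA b))
  have hL' : ∀ y : FractionRing E', y ∈ L' ↔ F y ∈ Lsub := fun y => Iff.rfl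
  have hLrange : Lsub ≤ F.fieldRange := by
    rw [Subfield.closure_le]
    rintro x (⟨a, rfl⟩ | hx)
    · exact ⟨algebraMap A (FractionRing E') a, hFA a⟩
    · have hx' : x ∈ t := hx
      obtain ⟨u, hu⟩ := hf' (num x) (Finset.mem_union_left _ (Finset.mem_image_of_mem num hx'))
      obtain ⟨w, hw⟩ := hf' (den x) (Finset.mem_union_right _ (Finset.mem_image_of_mem den hx'))
      refine ⟨algebraMap E' _ u / algebraMap E' _ w, ?_⟩
      rw [map_div₀, hF, hF, hu, hw]
      exact (hnd x).2
  obtain ⟨El, _, _, _, _, hfinl, hetl, ι, hι⟩ :=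
    exists_lift_intermediateField A E' (FractionRing A) (FractionRing E') L'
  haveI := hfinl
  haveI := hetl
  let ψ : El →ₐ[A] S := f'.comp ι
  have hψinj : Function.Injective ψ := injective_algHom A El S ψ
  have hψloc := isLocalHom_algHom A El S ψ
  have hset : ((ψ.range : Subalgebra A S) : Set S) = (algebraMap S (FractionRing S)) ⁻¹'
      (Lsub : Set (FractionRing S)) := by
    ext x
    constructor
    · rintro ⟨e, rfl⟩
      show algebraMap S (FractionRing S) (f' (ι e)) ∈ Lsub
      rw [← hF, ← hL', hι]
      exact ⟨1, one_mem _, e, by rw [map_one, one_mul]⟩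
    · intro hx
      have hx' : algebraMap S (FractionRing S) x ∈ Lsub := hx
      obtain ⟨y, hy⟩ := hLrange hx'
      have hyL : y ∈ L' := by rw [hL', hy]; exact hx'
      obtain ⟨a, ha, e, he⟩ := (hι y).1 hyL
      have h1 := congrArg F he
      rw [map_mul, hFA, hy, hF, IsScalarTower.algebraMap_apply A S (FractionRing S),
        ← map_mul] at h1
      have h2 : algebraMap A S a * x = ψ e := IsFractionRing.injective S (FractionRing S) h1
      obtain ⟨e', he'⟩ := sat_algHom A El S ψ a ha x e h2
      exact ⟨e', he'⟩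
  let eD : El ≃ₐ[A] ψ.range := AlgEquiv.ofInjective ψ hψinj
  have heD : ∀ e, ((eD e : ψ.range) : S) = ψ e := fun e => rfl
  haveI hlocD : IsLocalRing ψ.range := eD.toRingEquiv.isLocalRing
  refine ⟨ψ.range, hset, hlocD, ⟨fun d hd => ?_⟩, ?_⟩
  · obtain ⟨e, rfl⟩ := eD.surjective d
    have h1 : IsUnit (ψ e) := hd
    have h2 : IsUnit e := hψloc.map_nonunit e h1
    exact h2.map eD
  · obtain ⟨C, _, _, q, _, hC, hq, ⟨κ⟩⟩ := isEssentiallyEtale_of_etale A El
    exact ⟨C, _, _, q, _, hC, hq, ⟨eD.symm.trans κ⟩⟩

end Main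

end Groth.Agent.Lib.FEtGalH3
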