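import Mathlib
import Groth.Agent.Lib.FEtGal2_helper3

/-!
# Invariants of the automorphism group of a Galois finite étale local algebra (helper3)

For `A` henselian local and `E` a finite étale local `A`-algebra whose residue field is normal
over that of `A`, the ring of invariants of `Aut_A(E)` is `A`.
-/

set_option autoImplicit false
set_option maxSynthPendingDepth 3
universe u

namespace Groth.Agent.Lib.FEtGalH3

open IsLocalRing TensorProduct

section Invariant

variable (A : Type u) [CommRing A] [HenselianLocalRing A]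
  (E : Type u) [CommRing E] [IsLocalRing E] [Algebra A E]
  [IsLocalHom (algebraMap A E)] [Module.Finite A E] [Algebra.Etale A E]

theorem resHom_residue' (g : E ≃ₐ[A] E) (x : E) :
    resHom A E g (residue E x) = residue E (g x) := rfl

/-- Every automorphism of the residue field lifts to an automorphism of `E` (no domain
hypotheses). -/
theorem exists_algEquiv_lift'
    (σ : ResidueField E ≃ₐ[ResidueField A] ResidueField E) :
    ∃ g : E ≃ₐ[A] E, ∀ x, residue E (g x) = σ (residue E x) := by
  haveI : HenselianLocalRing E :=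
    Groth.Agent.Lib.HensIntegralH3.henselianLocalRing_of_isIntegral A E
  have hE : EGA4loc.IsEssentiallyEtale A E := isEssentiallyEtale_of_etale A E
  obtain ⟨g₁, hg₁⟩ := exists_lift A E E hE σ.toAlgHom
  obtain ⟨g₂, hg₂⟩ := exists_lift A E E hE σ.symm.toAlgHom
  have h12 : g₁.comp g₂ = AlgHom.id A E := by
    refine Groth.Agent.Lib.EssEt.algHom_eq_of_essEtale hE _ _ (fun x => ?_)
    show residue E (g₁ (g₂ x)) = residue E x
    rw [hg₁, hg₂]
    exact σ.apply_symm_apply _
  have h21 : g₂.comp g₁ = AlgHom.id A E := by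
    refine Groth.Agent.Lib.EssEt.algHom_eq_of_essEtale hE _ _ (fun x => ?_)
    show residue E (g₂ (g₁ x)) = residue E x
    rw [hg₂, hg₁]
    exact σ.symm_apply_apply _
  exact ⟨AlgEquiv.ofAlgHom g₁ g₂ h12 h21, hg₁⟩

/-- An automorphism inducing the identity on the residue field is the identity. -/
theorem algEquiv_eq_one_of_residue (g : E ≃ₐ[A] E)
    (h : ∀ x, residue E (g x) = residue E x) : g = 1 := by
  have hE : EGA4loc.IsEssentiallyEtale A E := isEssentiallyEtale_of_etale A E
  have h1 : (g : E →ₐ[A] E) = AlgHom.id A E :=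
    Groth.Agent.Lib.EssEt.algHom_eq_of_essEtale hE _ _ h
  ext x
  exact DFunLike.congr_fun h1 x

set_option maxHeartbeats 1000000 in
/-- The invariants of `Aut_A(E)` are `A`. -/
theorem mem_range_of_fixed [Normal (ResidueField A) (ResidueField E)] (x : E)
    (hx : ∀ g : E ≃ₐ[A] E, g x = x) : x ∈ Set.range (algebraMap A E) := by
  haveI : Module.FaithfullyFlat A E := Module.FaithfullyFlat.of_flat_of_isLocalHom
  have heff := Algebra.IsEffective.of_faithfullyFlat A E
  have hE : EGA4loc.IsEssentiallyEtale A E := isEssentiallyEtale_of_etale A E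
  suffices h : Algebra.TensorProduct.includeLeftSubRight A E x = 0 by
    obtain ⟨a, ha⟩ := (heff x).1 h
    exact ⟨a, ha⟩
  rw [Algebra.TensorProduct.includeLeftSubRight_apply]
  apply eq_zero_of_localization
  intro J hJ
  haveI := hJ
  have hq : J.comap (algebraMap A (E ⊗[A] E)) = maximalIdeal A :=
    Groth.Agent.Lib.HensFinLift.comap_maximalIdeal_of_isIntegral (A := A) (C := E ⊗[A] E) J
  haveI : IsLocalHom (algebraMap A (Localization.AtPrime J)) :=
    Groth.Agent.Lib.EssEt.isLocalHom_of_comap J hq
  let j₁ : E →ₐ[A] Localization.AtPrime J :=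
    (IsScalarTower.toAlgHom A (E ⊗[A] E) (Localization.AtPrime J)).comp
      (Algebra.TensorProduct.includeLeft : E →ₐ[A] E ⊗[A] E)
  let j₂ : E →ₐ[A] Localization.AtPrime J :=
    (IsScalarTower.toAlgHom A (E ⊗[A] E) (Localization.AtPrime J)).comp
      (Algebra.TensorProduct.includeRight : E →ₐ[A] E ⊗[A] E)
  haveI hl₁ : IsLocalHom j₁ :=
    ⟨fun a ha => (isLocalHom_algHom A E (Localization.AtPrime J) j₁).map_nonunit a ha⟩
  haveI hl₂ : IsLocalHom j₂ :=
    ⟨fun a ha => (isLocalHom_algHom A E (Localization.AtPrime J) j₂).map_nonunit a ha⟩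
  let i₁ : ResidueField E →ₐ[ResidueField A] ResidueField (Localization.AtPrime J) :=
    ResidueField.mapAlgHom' j₁
  let i₂ : ResidueField E →ₐ[ResidueField A] ResidueField (Localization.AtPrime J) :=
    ResidueField.mapAlgHom' j₂
  have hi₁ : ∀ y, i₁ (residue E y) = residue _ (j₁ y) := fun y => rfl
  have hi₂ : ∀ y, i₂ (residue E y) = residue _ (j₂ y) := fun y => rfl
  letI algκ : Algebra (ResidueField E) (ResidueField (Localization.AtPrime J)) :=
    i₁.toRingHom.toAlgebra
  haveI : IsScalarTower (ResidueField A) (ResidueField E)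
      (ResidueField (Localization.AtPrime J)) :=
    IsScalarTower.of_algebraMap_eq (fun c => (i₁.commutes c).symm)
  let σ : ResidueField E ≃ₐ[ResidueField A] ResidueField E :=
    AlgHom.restrictNormal' i₂ (ResidueField E)
  have hσ : ∀ y, i₁ (σ y) = i₂ y := fun y =>
    AlgHom.restrictNormal_commutes i₂ (ResidueField E) y
  obtain ⟨g, hg⟩ := exists_algEquiv_lift' A E σ
  have hj : j₂ = j₁.comp (g : E →ₐ[A] E) := by
    refine Groth.Agent.Lib.EssEt.algHom_eq_of_essEtale hE _ _ (fun y => ?_)
    show residue _ (j₂ y) = residue _ (j₁ (g y))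
    rw [← hi₁, ← hi₂, hg, hσ]
  rw [map_sub, sub_eq_zero]
  show j₁ x = j₂ x
  rw [hj]
  show j₁ x = j₁ (g x)
  rw [hx g]

theorem isInvariant [Normal (ResidueField A) (ResidueField E)] :
    Algebra.IsInvariant A E (E ≃ₐ[A] E) :=
  ⟨fun x hx => mem_range_of_fixed A E x (fun g => by rw [← AlgEquiv.smul_def]; exact hx g)⟩

end Invariant

end Groth.Agent.Lib.FEtGalH3
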