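import Mathlib
import Groth.Agent.Lib.FEtGal4_helper3

/-!
# Galois descent for quotients of Galois finite étale local algebras (helper3)

Let `A` be henselian local, `E` a finite étale local `A`-algebra with normal residue field
extension, `P` a prime of `E` over `q`.  Every intermediate field `L` of
`Frac(E/P) / Frac(A/q)` is generated by the image of a finite étale local `A`-algebra `El → E`,
and `P` is generated by its contraction to `El`.
-/

set_option autoImplicit false
set_option maxSynthPendingDepth 3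
universe u

open scoped Pointwise

namespace Groth.Agent.Lib.FEtGalH3

open IsLocalRing TensorProduct

section CoreQ

variable (A : Type u) [CommRing A] [HenselianLocalRing A]
  (E : Type u) [CommRing E] [IsLocalRing E] [Algebra A E]
  [IsLocalHom (algebraMap A E)] [Module.Finite A E] [Algebra.Etale A E]
  [Normal (ResidueField A) (ResidueField E)]
  (q : Ideal A) (P : Ideal E) [P.IsPrime] [P.LiesOver q]
  (K₀ K' : Type u) [Field K₀] [Field K'] [Algebra (A ⧸ q) K₀] [IsFractionRing (A ⧸ q) K₀]
  [Algebra (E ⧸ P) K'] [IsFractionRing (E ⧸ P) K'] [Algebra (A ⧸ q) K']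
  [IsScalarTower (A ⧸ q) (E ⧸ P) K'] [Algebra K₀ K'] [IsScalarTower (A ⧸ q) K₀ K']

set_option maxHeartbeats 4000000 in
theorem exists_lift_intermediateField_quot (L : IntermediateField K₀ K') :
    ∃ (El : Type u) (_ : CommRing El) (_ : Algebra A El) (_ : IsLocalRing El)
      (_ : IsLocalHom (algebraMap A El)) (_ : Module.Finite A El) (_ : Algebra.Etale A El)
      (ι : El →ₐ[A] E),
      P = (P.comap ι.toRingHom).map ι.toRingHom ∧
      ∀ y : K', y ∈ L ↔ ∃ a : A, a ∉ q ∧ ∃ e : El,
        algebraMap (A ⧸ q) K' (Ideal.Quotient.mk q a) * y =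
          algebraMap (E ⧸ P) K' (Ideal.Quotient.mk P (ι e)) := by
  classical
  haveI : q.IsPrime := by
    rw [Ideal.over_def P q]
    exact Ideal.IsPrime.under A P
  haveI hinvt := isInvariant A E
  have hresinj : Function.Injective (resHom A E) :=
    (injective_iff_map_eq_one (resHom A E)).2 (fun g hg =>
      algEquiv_eq_one_of_residue A E g (fun x => by rw [← resHom_residue', hg]; rfl))
  haveI : Finite (E ≃ₐ[A] E) := Finite.of_injective _ hresinj
  -- the field extension is Galois
  haveI : Algebra.FormallyUnramified A (E ⧸ P) :=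
    Algebra.FormallyUnramified.of_surjective (Ideal.Quotient.mkₐ A P) Ideal.Quotient.mk_surjective
  haveI : Algebra.FormallyUnramified (A ⧸ q) (E ⧸ P) :=
    Algebra.FormallyUnramified.of_restrictScalars A _ _
  haveI : Algebra.FormallyUnramified (E ⧸ P) K' :=
    Algebra.FormallyUnramified.of_isLocalization (nonZeroDivisors (E ⧸ P))
  haveI : Algebra.FormallyUnramified (A ⧸ q) K' := Algebra.FormallyUnramified.comp _ (E ⧸ P) _
  haveI : Algebra.FormallyUnramified K₀ K' :=
    Algebra.FormallyUnramified.of_restrictScalars (A ⧸ q) K₀ K'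
  haveI : Module.Finite (A ⧸ q) (E ⧸ P) := Module.Finite.of_restrictScalars_finite A (A ⧸ q) (E ⧸ P)
  haveI : Algebra.EssFiniteType (E ⧸ P) K' :=
    Algebra.EssFiniteType.of_isLocalization K' (nonZeroDivisors (E ⧸ P))
  haveI : Algebra.EssFiniteType (A ⧸ q) K' := Algebra.EssFiniteType.comp _ (E ⧸ P) _
  haveI : Algebra.EssFiniteType K₀ K' := Algebra.EssFiniteType.of_comp (A ⧸ q) K₀ K'
  haveI : Algebra.IsSeparable K₀ K' := Algebra.FormallyUnramified.isSeparable K₀ K'
  haveI : Normal K₀ K' := Ideal.IsFractionRing.normal (E ≃ₐ[A] E) q P K₀ K'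
  haveI : Module.Finite K₀ K' :=
    Ideal.IsFractionRing.finite_of_isInvariant (E ≃ₐ[A] E) q P K₀ K'
  haveI : IsGalois K₀ K' := IsGalois.mk
  -- the decomposition group
  let ρ := IsFractionRing.stabilizerHom (E ≃ₐ[A] E) q P K₀ K'
  have hρsurj : Function.Surjective ρ :=
    IsFractionRing.stabilizerHom_surjective (E ≃ₐ[A] E) q P K₀ K'
  have hPm : P ≤ maximalIdeal E := IsLocalRing.le_maximalIdeal (Ideal.IsPrime.ne_top ‹_›)
  have hρinj : Function.Injective ρ := by
    refine (injective_iff_map_eq_one ρ).2 (fun σ hσ => ?_)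
    have h1 : σ ∈ ρ.ker := hσ
    rw [IsFractionRing.ker_stabilizerHom] at h1
    have h2 : ∀ x : E, (σ : E ≃ₐ[A] E) x - x ∈ P := fun x => h1 x
    have h3 : (σ : E ≃ₐ[A] E) = 1 := algEquiv_eq_one_of_residue A E _ (fun x => by
      rw [← sub_eq_zero, ← map_sub, residue_eq_zero_iff]
      exact hPm (h2 x))
    exact Subtype.ext h3
  let H : Subgroup (K' ≃ₐ[K₀] K') := L.fixingSubgroup
  let HS : Subgroup (MulAction.stabilizer (E ≃ₐ[A] E) P) := H.comap ρ
  let θ : HS →* (ResidueField E ≃ₐ[ResidueField A] ResidueField E) :=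
    (resHom A E).comp ((MulAction.stabilizer (E ≃ₐ[A] E) P).subtype.comp HS.subtype)
  let Hbar : Subgroup (ResidueField E ≃ₐ[ResidueField A] ResidueField E) := θ.range
  let l : IntermediateField (ResidueField A) (ResidueField E) :=
    IntermediateField.fixedField Hbar
  have hc1 : Nat.card HS ≤ Nat.card H := by
    refine Nat.card_le_card_of_injective (fun g : HS => (⟨ρ g.1, g.2⟩ : H)) ?_
    intro g g' h
    exact Subtype.ext (hρinj (congrArg Subtype.val h))
  have hc2 : Nat.card Hbar ≤ Nat.card HS :=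
    Nat.card_le_card_of_surjective _ θ.rangeRestrict_surjective
  have hc3 : Nat.card H = Module.finrank L K' := IsGalois.card_fixingSubgroup_eq_finrank L
  have hc4 : Module.finrank l (ResidueField E) = Nat.card Hbar :=
    IntermediateField.finrank_fixedField_eq_card Hbar
  -- the lift of `l`
  obtain ⟨El, _, _, _, _, hfin, het, ⟨e⟩⟩ := exists_local_lift A l
  haveI := hfin
  haveI := het
  have hEl : EGA4loc.IsEssentiallyEtale A El := isEssentiallyEtale_of_etale A El
  haveI : HenselianLocalRing E :=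
    Groth.Agent.Lib.HensIntegralH3.henselianLocalRing_of_isIntegral A E
  let α : ResidueField El →ₐ[ResidueField A] ResidueField E := l.val.comp e.toAlgHom
  obtain ⟨ι, hι⟩ := exists_lift A El E hEl α
  have hinv : ∀ σ ∈ HS, ∀ x : El, ((σ : MulAction.stabilizer (E ≃ₐ[A] E) P) : E ≃ₐ[A] E) (ι x) =
      ι x := by
    intro σ hσ x
    have h1 : (((σ : MulAction.stabilizer (E ≃ₐ[A] E) P) : E ≃ₐ[A] E) : E →ₐ[A] E).comp ι = ι := by
      refine Groth.Agent.Lib.EssEt.algHom_eq_of_essEtale hEl _ _ (fun x => ?_)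
      show residue E (((σ : MulAction.stabilizer (E ≃ₐ[A] E) P) : E ≃ₐ[A] E) (ι x)) =
        residue E (ι x)
      rw [← resHom_residue', hι]
      have hmem : α (residue El x) ∈ l := (e (residue El x)).2
      have hg' : resHom A E (σ : E ≃ₐ[A] E) ∈ Hbar := ⟨⟨σ, hσ⟩, rfl⟩
      exact (IntermediateField.mem_fixedField_iff Hbar _).1 hmem _ hg'
    exact DFunLike.congr_fun h1 x
  let φ : El →+* K' := (algebraMap (E ⧸ P) K').comp ((Ideal.Quotient.mk P).comp ι.toRingHom)
  have hφ : ∀ x, φ x = algebraMap (E ⧸ P) K' (Ideal.Quotient.mk P (ι x)) := fun x => rfl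
  have hφL : ∀ x, φ x ∈ L := by
    intro x
    rw [← IsGalois.fixedField_fixingSubgroup L, IntermediateField.mem_fixedField_iff]
    intro h hh
    obtain ⟨σ, rfl⟩ := hρsurj h
    have hσ : σ ∈ HS := hh
    rw [hφ, IsFractionRing.stabilizerHom_apply_apply_mk, AlgEquiv.smul_def, hinv σ hσ x]
  have hKL : ∀ r : A ⧸ q, algebraMap (A ⧸ q) K' r ∈ L := by
    intro r
    rw [IsScalarTower.algebraMap_apply (A ⧸ q) K₀ K']
    exact L.algebraMap_mem _
  have hK0 : ∀ a : A, a ∉ q → algebraMap (A ⧸ q) K' (Ideal.Quotient.mk q a) ≠ 0 := by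
    intro a ha h0
    rw [IsScalarTower.algebraMap_apply (A ⧸ q) K₀ K'] at h0
    have h2 : algebraMap (A ⧸ q) K₀ (Ideal.Quotient.mk q a) = 0 :=
      (algebraMap K₀ K').injective (by rw [h0, map_zero])
    have h3 : Ideal.Quotient.mk q a = 0 :=
      (IsFractionRing.injective (A ⧸ q) K₀) (by rw [h2, map_zero])
    exact ha (Ideal.Quotient.eq_zero_iff_mem.1 h3)
  -- `E` as a free `El`-module
  letI algElE : Algebra El E := ι.toRingHom.toAlgebra
  haveI : IsScalarTower A El E := IsScalarTower.of_algebraMap_eq fun a => (ι.commutes a).symm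
  haveI : IsLocalHom (algebraMap El E) := isLocalHom_algHom A El E ι
  haveI : Module.Finite El E := Module.Finite.of_restrictScalars_finite A El E
  haveI : Module.Flat El E := Groth.Agent.Lib.IndEtaleH3.flat_of_flat_of_unramified A El E
  haveI : Module.Free El E := Module.free_of_flat_of_isLocalRing
  haveI : Algebra.FormallyUnramified El E := Algebra.FormallyUnramified.of_restrictScalars A El E
  have hsm : ∀ (c : El) (x : E), c • x = ι c * x := fun c x => Algebra.smul_def c x
  have hr1 : Module.finrank El E = Module.finrank (ResidueField El) (ResidueField E) :=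
    finrank_eq_finrank_residueField El E
  have hr2 : Module.finrank (ResidueField A) (ResidueField El) *
      Module.finrank (ResidueField El) (ResidueField E) =
      Module.finrank (ResidueField A) (ResidueField E) := Module.finrank_mul_finrank _ _ _
  have hr3 : Module.finrank (ResidueField A) l * Module.finrank l (ResidueField E) =
      Module.finrank (ResidueField A) (ResidueField E) := Module.finrank_mul_finrank _ _ _
  have hr4 : Module.finrank (ResidueField A) (ResidueField El) =
      Module.finrank (ResidueField A) l := e.toLinearEquiv.finrank_eq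
  have hr5 : 0 < Module.finrank (ResidueField A) l := Module.finrank_pos
  have hm : Module.finrank El E ≤ Module.finrank L K' := by
    have h1 : Module.finrank (ResidueField El) (ResidueField E) =
        Module.finrank l (ResidueField E) := by
      rw [hr4] at hr2
      exact Nat.eq_of_mul_eq_mul_left hr5 (hr2.trans hr3.symm)
    omega
  -- the basis
  let b := Module.Free.chooseBasis El E
  let bb : Module.Free.ChooseBasisIndex El E → K' := fun i =>
    algebraMap (E ⧸ P) K' (Ideal.Quotient.mk P (b i))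
  have hrepr : ∀ x : E, algebraMap (E ⧸ P) K' (Ideal.Quotient.mk P x) =
      ∑ i, φ (b.repr x i) * bb i := by
    intro x
    conv_lhs => rw [← b.sum_repr x]
    rw [map_sum, map_sum]
    refine Finset.sum_congr rfl fun i _ => ?_
    rw [hsm, map_mul, map_mul]
    rfl
  have hden : ∀ y : K', ∃ a : A, a ∉ q ∧ ∃ x : E,
      algebraMap (A ⧸ q) K' (Ideal.Quotient.mk q a) * y =
        algebraMap (E ⧸ P) K' (Ideal.Quotient.mk P x) := by
    intro y
    obtain ⟨⟨x, s⟩, hxs⟩ := IsLocalization.surj
      (Algebra.algebraMapSubmonoid (E ⧸ P) (nonZeroDivisors (A ⧸ q))) y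
    obtain ⟨r, hr, hrs⟩ := s.2
    obtain ⟨a, rfl⟩ := Ideal.Quotient.mk_surjective r
    obtain ⟨x, rfl⟩ := Ideal.Quotient.mk_surjective x
    refine ⟨a, ?_, x, ?_⟩
    · intro ha
      exact nonZeroDivisors.ne_zero hr (Ideal.Quotient.eq_zero_iff_mem.2 ha)
    · rw [← hxs, mul_comm, ← hrs, ← IsScalarTower.algebraMap_apply (A ⧸ q) (E ⧸ P) K']
  have hsmul : ∀ (c : L) (y : K'), c • y = (c : K') * y := fun c y => rfl
  have hspan : ⊤ ≤ Submodule.span L (Set.range bb) := by
    intro y _
    obtain ⟨a, ha, x, hx⟩ := hden y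
    have ha0 := hK0 a ha
    have hy : y = ∑ i, ((⟨(algebraMap (A ⧸ q) K' (Ideal.Quotient.mk q a))⁻¹ * φ (b.repr x i),
        L.mul_mem (L.inv_mem (hKL _)) (hφL _)⟩ : L)) • bb i := by
      simp only [hsmul, mul_assoc]
      rw [← Finset.mul_sum, ← hrepr, ← hx, inv_mul_cancel_left₀ ha0]
    rw [hy]
    exact Submodule.sum_mem _ (fun i _ => Submodule.smul_mem _ _ (Submodule.subset_span ⟨i, rfl⟩))
  have hcard : Fintype.card (Module.Free.ChooseBasisIndex El E) = Module.finrank L K' := by
    have h1 : Module.finrank L K' ≤ Fintype.card (Module.Free.ChooseBasisIndex El E) := by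
      have h2 := finrank_range_le_card (R := L) bb
      rw [Set.finrank, top_le_iff.1 hspan, finrank_top] at h2
      exact h2
    have h2 : Fintype.card (Module.Free.ChooseBasisIndex El E) = Module.finrank El E :=
      (Module.finrank_eq_card_chooseBasisIndex El E).symm
    omega
  have hli : LinearIndependent L bb :=
    linearIndependent_of_top_le_span_of_card_eq_finrank hspan hcard
  have huniq : ∀ (c c' : Module.Free.ChooseBasisIndex El E → K'), (∀ i, c i ∈ L) →
      (∀ i, c' i ∈ L) → ∑ i, c i * bb i = ∑ i, c' i * bb i → ∀ i, c i = c' i := by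
    intro c c' hc hc' hsum i
    have h1 : ∑ i, ((⟨c i, hc i⟩ : L) - ⟨c' i, hc' i⟩) • bb i = 0 := by
      have hterm : ∀ i, ((⟨c i, hc i⟩ : L) - ⟨c' i, hc' i⟩) • bb i = c i * bb i - c' i * bb i := by
        intro i
        rw [sub_smul, hsmul, hsmul]
      simp only [hterm]
      rw [Finset.sum_sub_distrib, sub_eq_zero]
      exact hsum
    have h2 := (Fintype.linearIndependent_iff.1 hli) _ h1 i
    have h3 : c i - c' i = 0 := congrArg Subtype.val h2
    exact sub_eq_zero.1 h3
  -- (a)
  have hPa : P = (P.comap ι.toRingHom).map ι.toRingHom := by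
    refine le_antisymm (fun x hx => ?_) Ideal.map_comap_le
    have h0 : ∑ i, φ (b.repr x i) * bb i = ∑ i, (0 : K') * bb i := by
      rw [← hrepr, Ideal.Quotient.eq_zero_iff_mem.2 hx, map_zero]
      simp
    have h1 := huniq _ _ (fun i => hφL _) (fun i => L.zero_mem) h0
    have h2 : ∀ i, ι (b.repr x i) ∈ P := by
      intro i
      have h3 := h1 i
      rw [hφ] at h3
      have h4 := (IsFractionRing.injective (E ⧸ P) K') (h3.trans (map_zero _).symm)
      exact Ideal.Quotient.eq_zero_iff_mem.1 h4
    rw [← b.sum_repr x]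
    refine Ideal.sum_mem _ (fun i _ => ?_)
    rw [hsm]
    exact Ideal.mul_mem_right _ _ (Ideal.mem_map_of_mem _ (h2 i))
  refine ⟨El, _, _, inferInstance, inferInstance, hfin, het, ι, hPa, fun y => ⟨fun hy => ?_, ?_⟩⟩
  · obtain ⟨a, ha, x, hx⟩ := hden y
    obtain ⟨i₀, hi₀⟩ : ∃ i, IsUnit (b.repr 1 i) := by
      by_contra hcon
      push_neg at hcon
      have h1 : (1 : E) ∈ maximalIdeal E := by
        rw [← b.sum_repr 1]
        refine Ideal.sum_mem _ (fun i _ => ?_)
        rw [hsm]
        refine Ideal.mul_mem_right _ _ ?_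
        rw [mem_maximalIdeal, mem_nonunits_iff]
        intro hu
        exact hcon i (isUnit_of_map_unit (algebraMap El E) _ hu)
      exact (maximalIdeal.isMaximal E).ne_top ((Ideal.eq_top_iff_one _).2 h1)
    have hone : (1 : K') = ∑ i, φ (b.repr 1 i) * bb i := by
      have := hrepr 1
      rwa [map_one, map_one] at this
    have h1 : algebraMap (A ⧸ q) K' (Ideal.Quotient.mk q a) * y =
        ∑ i, (algebraMap (A ⧸ q) K' (Ideal.Quotient.mk q a) * y * φ (b.repr 1 i)) * bb i := by
      calc algebraMap (A ⧸ q) K' (Ideal.Quotient.mk q a) * y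
          = algebraMap (A ⧸ q) K' (Ideal.Quotient.mk q a) * y * 1 := (mul_one _).symm
        _ = algebraMap (A ⧸ q) K' (Ideal.Quotient.mk q a) * y *
              ∑ i, φ (b.repr 1 i) * bb i := by rw [← hone]
        _ = _ := by
          rw [Finset.mul_sum]
          exact Finset.sum_congr rfl fun i _ => (mul_assoc _ _ _).symm
    have h2 := huniq _ _ (fun i => hφL _)
      (fun i => L.mul_mem (L.mul_mem (hKL _) hy) (hφL _)) ((hrepr x).symm.trans (hx.symm.trans h1))
    obtain ⟨u, hu⟩ := hi₀
    refine ⟨a, ha, b.repr x i₀ * ↑u⁻¹, ?_⟩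
    rw [← hφ, map_mul, h2 i₀, ← hu, mul_assoc, ← map_mul, Units.mul_inv, map_one, mul_one]
  · rintro ⟨a, ha, e', he'⟩
    have h1 := hK0 a ha
    have h2 : y = (algebraMap (A ⧸ q) K' (Ideal.Quotient.mk q a))⁻¹ * φ e' := by
      rw [hφ, ← he', inv_mul_cancel_left₀ h1]
    rw [h2]
    exact L.mul_mem (L.inv_mem (hKL _)) (hφL e')

end CoreQ

end Groth.Agent.Lib.FEtGalH3
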