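import Mathlib
import Groth.Prelude.Def_EGA4b
import Groth.Agent.Lib.GRingCore_helper3
import Groth.Agent.Lib.GRingFinite_helper3
import Groth.Agent.Lib.GeomRegFS_helper3
import Groth.Agent.Lib.RegFlat_helper3
import Groth.Agent.Lib.AnUnram_helper3
import Groth.Agent.Lib.CompleteFinite_helper3

/-!
# Formal fibres of localizations of finite algebras over a local ring, and the quasi-finite case
(helper3)
-/

set_option autoImplicit false

namespace Groth.Agent.Lib.GRingQFH3

universe u

open TensorProduct IsLocalRing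

section Fibre

variable (A B : Type u) [CommRing A] [CommRing B] [Algebra A B]

/-- If the fibre of `A → B` at the prime `p` is geometrically regular, then `K ⊗[A] B` is regular
for any field `K` over `A` with kernel `p`, as soon as it is Noetherian. -/
theorem isRegularRing_tensor_of_fiber (p : Ideal A) [p.IsPrime] [IsNoetherianRing (p.Fiber B)]
    (hG : CAlg.IsGeometricallyRegular p.ResidueField (p.Fiber B)) (K : Type u) [Field K]
    [Algebra A K] (hker : RingHom.ker (algebraMap A K) = p) [IsNoetherianRing (K ⊗[A] B)] :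
    IsRegularRing (K ⊗[A] B) := by
  let φ : p.ResidueField →+* K := Ideal.ResidueField.lift p (algebraMap A K) hker.ge (by
    intro x hx
    simp only [Submonoid.mem_comap, IsUnit.mem_submonoid_iff]
    exact isUnit_iff_ne_zero.mpr (fun h0 => hx (hker.le (by simpa [RingHom.mem_ker] using h0))))
  letI : Algebra p.ResidueField K := φ.toAlgebra
  haveI : IsScalarTower A p.ResidueField K := IsScalarTower.of_algebraMap_eq
    (fun x => (Ideal.ResidueField.lift_algebraMap p _ _ _ x).symm)
  let e : K ⊗[p.ResidueField] (p.Fiber B) ≃ₐ[K] K ⊗[A] B :=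
    Algebra.TensorProduct.cancelBaseChange A p.ResidueField K K B
  haveI : IsNoetherianRing (K ⊗[p.ResidueField] (p.Fiber B)) :=
    isNoetherianRing_of_ringEquiv _ e.symm.toRingEquiv
  have hadic := (Groth.Agent.Lib.GeomRegFSH3.isGeometricallyRegular_iff_forall_adic
    (k := p.ResidueField) (S := p.Fiber B)).mp hG
  haveI := Groth.Agent.Lib.GeomRegFSH3.isRegularRing_tensor_of_forall_adic hadic K
  exact IsRegularRing.of_ringEquiv (R := K ⊗[p.ResidueField] (p.Fiber B)) e.toRingEquiv

end Fibre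

section Core

variable (A B : Type u) [CommRing A] [IsLocalRing A] [IsNoetherianRing A] [CommRing B]
  [Algebra A B] [Module.Finite A B]

/-- Let `A` be a Noetherian local ring, `B` a finite `A`-algebra and `A₁` a local localization of `B`
whose maximal ideal lies over the maximal ideal of `A`. If `K` is a field over `A₁` with
`K ⊗[A] Â` regular, then `K ⊗[A₁] Â₁` is regular. -/
theorem isRegularRing_tensor_cpl_of_finite_local
    (M : Submonoid B) (A₁ : Type u) [CommRing A₁] [Algebra B A₁] [IsLocalization M A₁]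
    [IsLocalRing A₁]
    (hover : ((maximalIdeal A₁).comap (algebraMap B A₁)).comap (algebraMap A B) = maximalIdeal A)
    (K : Type u) [Field K] [Algebra A₁ K] [Algebra B K] [IsScalarTower B A₁ K]
    [Algebra A K] [IsScalarTower A B K]
    (hreg0 : IsRegularRing (K ⊗[A] EGA4.Cpl A)) :
    IsRegularRing (K ⊗[A₁] EGA4.Cpl A₁) := by
  haveI : IsNoetherianRing B := IsNoetherianRing.of_finite A B
  haveI : IsNoetherianRing A₁ := IsLocalization.isNoetherianRing M A₁ inferInstance
  haveI : Algebra.IsIntegral A B := Algebra.IsIntegral.of_finite A B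
  obtain ⟨𝔭, h𝔭⟩ : ∃ 𝔭 : Ideal B, 𝔭 = (maximalIdeal A₁).comap (algebraMap B A₁) := ⟨_, rfl⟩
  haveI h𝔭prime : 𝔭.IsPrime := by rw [h𝔭]; exact Ideal.comap_isPrime _ _
  obtain ⟨hloc, hnoeth, hcompl, hff, hlh, hmap⟩ := AnUnramH3.completion_facts A
  haveI := hloc
  haveI := hnoeth
  haveI := hcompl
  haveI := hff
  -- the ring `Ch`
  letI algR : Algebra (EGA4.Cpl A) (B ⊗[A] EGA4.Cpl A) := Algebra.TensorProduct.rightAlgebra
  haveI : Module.Finite (EGA4.Cpl A) (B ⊗[A] EGA4.Cpl A) :=
    Module.Finite.equiv (Algebra.TensorProduct.commRight A (EGA4.Cpl A) B).toLinearEquiv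
  haveI : Module.Flat B (B ⊗[A] EGA4.Cpl A) := inferInstance
  -- regularity
  have hreg : IsRegularRing (K ⊗[B] (B ⊗[A] EGA4.Cpl A)) := by
    haveI := hreg0
    let e : K ⊗[B] (B ⊗[A] EGA4.Cpl A) ≃ₐ[K] K ⊗[A] EGA4.Cpl A :=
      Algebra.TensorProduct.cancelBaseChange A B K K (EGA4.Cpl A)
    exact IsRegularRing.of_ringEquiv (R := K ⊗[A] EGA4.Cpl A) e.symm.toRingEquiv
  -- a prime over `𝔭`
  have hnt : Nontrivial (𝔭.ResidueField ⊗[B] (B ⊗[A] EGA4.Cpl A)) := by
    haveI : Nontrivial (𝔭.ResidueField ⊗[A] EGA4.Cpl A) :=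
      Module.FaithfullyFlat.rTensor_nontrivial A (EGA4.Cpl A) 𝔭.ResidueField
    let e : 𝔭.ResidueField ⊗[B] (B ⊗[A] EGA4.Cpl A) ≃ₐ[𝔭.ResidueField]
        𝔭.ResidueField ⊗[A] EGA4.Cpl A :=
      Algebra.TensorProduct.cancelBaseChange A B 𝔭.ResidueField 𝔭.ResidueField (EGA4.Cpl A)
    exact e.toEquiv.nontrivial
  obtain ⟨𝔔, h𝔔⟩ := (PrimeSpectrum.nontrivial_iff_mem_rangeComap
    (S := B ⊗[A] EGA4.Cpl A) ⟨𝔭, h𝔭prime⟩).mp hnt
  have h𝔔' : 𝔔.asIdeal.comap (algebraMap B (B ⊗[A] EGA4.Cpl A)) = 𝔭 :=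
    congrArg PrimeSpectrum.asIdeal h𝔔
  obtain ⟨𝔫, h𝔫max, h𝔔𝔫⟩ := Ideal.exists_le_maximal 𝔔.asIdeal 𝔔.2.ne_top
  haveI := h𝔫max
  have hle : 𝔭 ≤ 𝔫.comap (algebraMap B (B ⊗[A] EGA4.Cpl A)) := by
    rw [← h𝔔']
    exact Ideal.comap_mono h𝔔𝔫
  have hcomapA : (𝔫.comap (algebraMap B (B ⊗[A] EGA4.Cpl A))).comap (algebraMap A B) =
      maximalIdeal A := by
    haveI hlo := CompleteFiniteH3.liesOver_of_isMaximal (EGA4.Cpl A) (B ⊗[A] EGA4.Cpl A) 𝔫
    have h1 : 𝔫.comap (algebraMap (EGA4.Cpl A) (B ⊗[A] EGA4.Cpl A)) =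
        maximalIdeal (EGA4.Cpl A) := hlo.over.symm
    have h2 : (maximalIdeal (EGA4.Cpl A)).comap (algebraMap A (EGA4.Cpl A)) = maximalIdeal A :=
      ((IsLocalRing.local_hom_TFAE (algebraMap A (EGA4.Cpl A))).out 0 4).mp hlh
    rw [Ideal.comap_comap, ← IsScalarTower.algebraMap_eq A B,
      IsScalarTower.algebraMap_eq A (EGA4.Cpl A) (B ⊗[A] EGA4.Cpl A), ← Ideal.comap_comap, h1, h2]
  have hcomap : 𝔫.comap (algebraMap B (B ⊗[A] EGA4.Cpl A)) = 𝔭 := by
    by_contra hne
    have hlt : 𝔭 < 𝔫.comap (algebraMap B (B ⊗[A] EGA4.Cpl A)) :=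
      lt_of_le_of_ne hle (Ne.symm hne)
    have := Ideal.IsIntegral.comap_lt_comap (R := A) hlt
    rw [hcomapA, h𝔭, hover] at this
    exact lt_irrefl _ this
  exact GRingCoreH3.isRegularRing_tensor_cpl_of_finite_complete B A₁ M
    (EGA4.Cpl A) (B ⊗[A] EGA4.Cpl A) 𝔫 (hcomap.trans h𝔭) K hreg

end Core

section Abs

variable (R : Type u) [CommRing R] [IsNoetherianRing R] (p : Ideal R) [p.IsPrime]
  (S' : Type u) [CommRing S'] [Algebra R S'] [Module.Finite R S'] (q : Ideal S') [q.IsPrime]
  (A₁ : Type u) [CommRing A₁] [Algebra S' A₁] [IsLocalization.AtPrime A₁ q] [IsLocalRing A₁]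

/-- `S'_p`. -/
abbrev LocS : Type u := Localization (Algebra.algebraMapSubmonoid S' p.primeCompl)

theorem comap_injective_of_isLocalization {R₀ A₀ : Type*} [CommRing R₀] [CommRing A₀]
    [Algebra R₀ A₀] (M : Submonoid R₀) [IsLocalization M A₀] {I J : Ideal A₀}
    (h : I.comap (algebraMap R₀ A₀) = J.comap (algebraMap R₀ A₀)) : I = J := by
  have hI := IsLocalization.map_under M A₀ I
  have hJ := IsLocalization.map_under M A₀ J
  rw [Ideal.under_def] at hI hJ
  rw [← hI, ← hJ, h]

theorem isGeometricallyRegular_formalFibre_of_finite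
    (hq : q.comap (algebraMap R S') = p)
    (Q' : Ideal A₁) [Q'.IsPrime] (Q : Ideal (Localization.AtPrime p)) [Q.IsPrime]
    (hQ : Q.comap (algebraMap R (Localization.AtPrime p)) =
      (Q'.comap (algebraMap S' A₁)).comap (algebraMap R S'))
    (h : CAlg.IsGeometricallyRegular Q.ResidueField
      (EGA4.formalFibre (Localization.AtPrime p) Q)) :
    CAlg.IsGeometricallyRegular Q'.ResidueField (EGA4.formalFibre A₁ Q') := by
  have hNq : Algebra.algebraMapSubmonoid S' p.primeCompl ≤ q.primeCompl := by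
    rintro _ ⟨x, hx, rfl⟩
    intro hmem
    exact hx (hq.le hmem)
  letI algBA₁ : Algebra (LocS R p S') A₁ :=
    IsLocalization.localizationAlgebraOfSubmonoidLe (LocS R p S') A₁
      (Algebra.algebraMapSubmonoid S' p.primeCompl) q.primeCompl hNq
  haveI towSBA₁ : IsScalarTower S' (LocS R p S') A₁ :=
    IsLocalization.localization_isScalarTower_of_submonoid_le (LocS R p S') A₁
      (Algebra.algebraMapSubmonoid S' p.primeCompl) q.primeCompl hNq
  haveI hlocBA₁ : IsLocalization (q.primeCompl.map (algebraMap S' (LocS R p S'))) A₁ :=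
    IsLocalization.isLocalization_of_submonoid_le (LocS R p S') A₁
      (Algebra.algebraMapSubmonoid S' p.primeCompl) q.primeCompl hNq
  haveI : IsNoetherianRing S' := IsNoetherianRing.of_finite R S'
  haveI : IsNoetherianRing (LocS R p S') :=
    IsLocalization.isNoetherianRing (Algebra.algebraMapSubmonoid S' p.primeCompl) _ inferInstance
  haveI : IsNoetherianRing A₁ := IsLocalization.isNoetherianRing q.primeCompl A₁ inferInstance
  have hcomp : ∀ x : R, algebraMap (LocS R p S') A₁ (algebraMap (Localization.AtPrime p)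
      (LocS R p S') (algebraMap R (Localization.AtPrime p) x)) =
      algebraMap S' A₁ (algebraMap R S' x) := by
    intro x
    rw [← IsScalarTower.algebraMap_apply R (Localization.AtPrime p) (LocS R p S'),
      IsScalarTower.algebraMap_apply R S' (LocS R p S'),
      ← IsScalarTower.algebraMap_apply S' (LocS R p S') A₁]
  have hover : ((maximalIdeal A₁).comap (algebraMap (LocS R p S') A₁)).comap
      (algebraMap (Localization.AtPrime p) (LocS R p S')) =
      maximalIdeal (Localization.AtPrime p) := by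
    have hmp : (maximalIdeal (Localization.AtPrime p)).comap
        (algebraMap R (Localization.AtPrime p)) = p :=
      IsLocalization.AtPrime.under_maximalIdeal (Localization.AtPrime p) p
    have hmq : (maximalIdeal A₁).comap (algebraMap S' A₁) = q :=
      IsLocalization.AtPrime.under_maximalIdeal A₁ q
    apply comap_injective_of_isLocalization p.primeCompl
    rw [hmp]
    ext x
    simp only [Ideal.mem_comap]
    rw [hcomp x, ← Ideal.mem_comap, hmq, ← Ideal.mem_comap, hq]
  intro K _ _ hfin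
  haveI := hfin
  letI algA₁K : Algebra A₁ K := Algebra.compHom K (algebraMap A₁ Q'.ResidueField)
  haveI tow1 : IsScalarTower A₁ Q'.ResidueField K := IsScalarTower.of_algebraMap_eq (fun _ => rfl)
  letI algBK : Algebra (LocS R p S') K := Algebra.compHom K (algebraMap (LocS R p S') A₁)
  haveI tow2 : IsScalarTower (LocS R p S') A₁ K := IsScalarTower.of_algebraMap_eq (fun _ => rfl)
  letI algAK : Algebra (Localization.AtPrime p) K :=
    Algebra.compHom K (algebraMap (Localization.AtPrime p) (LocS R p S'))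
  haveI tow3 : IsScalarTower (Localization.AtPrime p) (LocS R p S') K :=
    IsScalarTower.of_algebraMap_eq (fun _ => rfl)
  -- essentially of finite type
  haveI : Algebra.EssFiniteType (LocS R p S') A₁ :=
    Algebra.EssFiniteType.of_isLocalization A₁ (q.primeCompl.map (algebraMap S' (LocS R p S')))
  haveI : Algebra.EssFiniteType (A₁ ⧸ Q') Q'.ResidueField :=
    Algebra.EssFiniteType.of_isLocalization Q'.ResidueField (nonZeroDivisors (A₁ ⧸ Q'))
  haveI : Algebra.EssFiniteType A₁ Q'.ResidueField :=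
    Algebra.EssFiniteType.comp A₁ (A₁ ⧸ Q') Q'.ResidueField
  haveI : Algebra.EssFiniteType A₁ K := Algebra.EssFiniteType.comp A₁ Q'.ResidueField K
  haveI : Algebra.EssFiniteType (LocS R p S') K := Algebra.EssFiniteType.comp _ A₁ K
  haveI : Algebra.EssFiniteType (Localization.AtPrime p) K :=
    Algebra.EssFiniteType.comp _ (LocS R p S') K
  -- the kernel
  have hker : RingHom.ker (algebraMap (Localization.AtPrime p) K) = Q := by
    apply comap_injective_of_isLocalization p.primeCompl
    rw [hQ]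
    ext x
    simp only [Ideal.mem_comap, RingHom.mem_ker]
    have : algebraMap (Localization.AtPrime p) K (algebraMap R (Localization.AtPrime p) x) =
        algebraMap Q'.ResidueField K (algebraMap A₁ Q'.ResidueField
          (algebraMap S' A₁ (algebraMap R S' x))) := by
      rw [← hcomp x]
      rfl
    rw [this, map_eq_zero, Ideal.algebraMap_residueField_eq_zero]
  obtain ⟨hloc, hnoeth, hcompl, hff, hlh, hmap⟩ :=
    AnUnramH3.completion_facts (Localization.AtPrime p)
  haveI := hnoeth
  haveI : IsNoetherianRing (Q.Fiber (EGA4.Cpl (Localization.AtPrime p))) :=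
    Groth.Agent.Lib.RegFlatH3.isNoetherianRing_fiber _ _ Q
  haveI : IsNoetherianRing (K ⊗[Localization.AtPrime p] EGA4.Cpl (Localization.AtPrime p)) :=
    Groth.Agent.Lib.RegFlatH3.isNoetherianRing_tensor_of_essFiniteType' _ _ K
  have hreg0 : IsRegularRing (K ⊗[Localization.AtPrime p] EGA4.Cpl (Localization.AtPrime p)) :=
    isRegularRing_tensor_of_fiber (Localization.AtPrime p) (EGA4.Cpl (Localization.AtPrime p))
      Q h K hker
  haveI := isRegularRing_tensor_cpl_of_finite_local (Localization.AtPrime p) (LocS R p S')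
    (q.primeCompl.map (algebraMap S' (LocS R p S'))) A₁ hover K hreg0
  exact IsRegularRing.of_ringEquiv (R := K ⊗[A₁] EGA4.Cpl A₁)
    (Algebra.TensorProduct.cancelBaseChange A₁ Q'.ResidueField K K (EGA4.Cpl A₁)).symm.toRingEquiv

end Abs

section ZMT

variable (R R' : Type u) [CommRing R] [CommRing R'] [Algebra R R']



theorem isLocalization_atPrime_of_awayMap_bijective (S' : Subalgebra R R') (r : S')
    (hbij : Function.Bijective (Localization.awayMap S'.val.toRingHom r))
    (p' : Ideal R') [p'.IsPrime] (hr : r.1 ∉ p')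
    (A₁ : Type u) [CommRing A₁] [Algebra R' A₁] [IsLocalization.AtPrime A₁ p'] [Algebra S' A₁]
    (htow : ∀ x : S', algebraMap S' A₁ x = algebraMap R' A₁ (x : R')) :
    IsLocalization.AtPrime A₁ (p'.comap (algebraMap S' R')) := by
  have key : ∀ x : R', ∃ (b : S') (m : ℕ), (b : R') = (r : R') ^ m * x := by
    intro x
    obtain ⟨b, m, hb⟩ := Localization.awayMap_surjective_iff.mp hbij.2 x
    exact ⟨b, m, hb⟩
  have hrpow : ∀ m : ℕ, (r : R') ^ m ∉ p' := fun m hm => hr (Ideal.IsPrime.mem_of_pow_mem ‹_› m hm)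
  refine ⟨?_, ?_, ?_⟩
  · rintro ⟨y, hy⟩
    have hy' : (y : R') ∈ p'.primeCompl := fun hmem => hy hmem
    have := IsLocalization.map_units A₁ (⟨(y : R'), hy'⟩ : p'.primeCompl)
    rw [htow]
    exact this
  · intro z
    obtain ⟨⟨x, t⟩, hz⟩ := IsLocalization.surj p'.primeCompl z
    obtain ⟨b₁, m₁, hb₁⟩ := key x
    obtain ⟨b₂, m₂, hb₂⟩ := key (t : R')
    have hs₂ : b₂ * r ^ m₁ ∈ (p'.comap (algebraMap S' R')).primeCompl := by
      intro hmem
      have hmem' : ((b₂ * r ^ m₁ : S') : R') ∈ p' := hmem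
      rw [Subalgebra.coe_mul, Subalgebra.coe_pow, hb₂] at hmem'
      rcases Ideal.IsPrime.mem_or_mem ‹_› hmem' with h1 | h1
      · rcases Ideal.IsPrime.mem_or_mem ‹_› h1 with h2 | h2
        · exact hrpow _ h2
        · exact t.2 h2
      · exact hrpow _ h1
    refine ⟨(b₁ * r ^ m₂, ⟨b₂ * r ^ m₁, hs₂⟩), ?_⟩
    simp only
    rw [htow, htow]
    have e1 : ((b₂ * r ^ m₁ : S') : R') = (r : R') ^ m₂ * (t : R') * (r : R') ^ m₁ := by
      rw [Subalgebra.coe_mul, Subalgebra.coe_pow, hb₂]
    have e2 : ((b₁ * r ^ m₂ : S') : R') = (r : R') ^ m₁ * x * (r : R') ^ m₂ := by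
      rw [Subalgebra.coe_mul, Subalgebra.coe_pow, hb₁]
    rw [e1, e2]
    simp only [map_mul, map_pow]
    simp only at hz
    rw [← hz]
    ring
  · intro x y hxy
    rw [htow, htow] at hxy
    obtain ⟨c, hc⟩ := IsLocalization.exists_of_eq (M := p'.primeCompl) hxy
    obtain ⟨b, m, hb⟩ := key (c : R')
    have hbq : b ∈ (p'.comap (algebraMap S' R')).primeCompl := by
      intro hmem
      have hmem' : (b : R') ∈ p' := hmem
      rw [hb] at hmem'
      rcases Ideal.IsPrime.mem_or_mem ‹_› hmem' with h1 | h1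
      · exact hrpow _ h1
      · exact c.2 h1
    refine ⟨⟨b, hbq⟩, ?_⟩
    apply Subtype.ext
    change ((b * x : S') : R') = ((b * y : S') : R')
    rw [Subalgebra.coe_mul, Subalgebra.coe_mul, hb, mul_assoc, mul_assoc]
    congr 1

end ZMT

section Main

variable (R R' : Type u) [CommRing R] [CommRing R'] [IsNoetherianRing R]
  [Algebra R R'] [Algebra.FiniteType R R']
  (p' : Ideal R') [p'.IsPrime] [Algebra.QuasiFiniteAt R p']

theorem isGeometricallyRegular_formalFibre_of_quasiFiniteAt
    (Q' : Ideal (Localization.AtPrime p')) [Q'.IsPrime]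
    (Q : Ideal (Localization.AtPrime (Ideal.comap (algebraMap R R') p'))) [Q.IsPrime]
    (hQ : Ideal.comap (algebraMap R (Localization.AtPrime (Ideal.comap (algebraMap R R') p'))) Q =
      Ideal.comap (algebraMap R (Localization.AtPrime p')) Q')
    (h : CAlg.IsGeometricallyRegular Q.ResidueField
      (EGA4.formalFibre (Localization.AtPrime (Ideal.comap (algebraMap R R') p')) Q)) :
    CAlg.IsGeometricallyRegular Q'.ResidueField (EGA4.formalFibre (Localization.AtPrime p') Q') := by
  obtain ⟨S', hS', r, hrp, hbij⟩ :=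
    Algebra.QuasiFiniteAt.exists_fg_and_exists_notMem_and_awayMap_bijective (R := R) p'
  haveI : Module.Finite R S' := ⟨(Submodule.fg_top _).mpr hS'⟩
  haveI := isLocalization_atPrime_of_awayMap_bijective R R' S' r hbij p' hrp
    (Localization.AtPrime p') (fun x => rfl)
  refine isGeometricallyRegular_formalFibre_of_finite R (p'.comap (algebraMap R R')) S'
    (p'.comap (algebraMap S' R')) (Localization.AtPrime p') ?_ Q' Q ?_ h
  · rfl
  · rw [hQ]
    rfl

end Main

end Groth.Agent.Lib.GRingQFH3
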