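import Mathlib
import Groth.Agent.Lib.FEtGal5_helper3
import Groth.Agent.Lib.FEtGal3_helper3
import Groth.Agent.S9289
import Groth.Agent.Lib.GRingMaximal_helper3
import Groth.Prelude.Def_EGA4b
import Groth.Prelude.Def_Hensel

/-!
# Intersections of `S/Q` with finitely generated subfields, `S` a strict henselization (helper3)

Let `A` be a Noetherian henselian local ring, `S` its strict henselization, `Q` a prime of `S`.
For a subfield `L` of `Frac(S/Q)` finitely generated over the image of `A`, the ring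
`(S/Q) ∩ L` is the image of a finite étale local `A`-algebra `El → S`, and `Q` is generated by its
contraction to `El`.
-/

set_option autoImplicit false
set_option maxSynthPendingDepth 3
universe u

namespace Groth.Agent.Lib.FEtGalH3

open IsLocalRing TensorProduct

section MapsIdeal

variable (A E B : Type u) [CommRing A] [IsLocalRing A] [CommRing E] [IsLocalRing E] [Algebra A E]
  [IsLocalHom (algebraMap A E)] [CommRing B] [IsLocalRing B] [Algebra A B]
  [IsLocalHom (algebraMap A B)] [Algebra.FormallyUnramified A E] [Algebra.EssFiniteType A E]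
  [Module.Flat A B]

theorem comap_map_algHom (ψ : E →ₐ[A] B) (I : Ideal E) :
    (I.map ψ.toRingHom).comap ψ.toRingHom = I := by
  letI algEB : Algebra E B := ψ.toRingHom.toAlgebra
  haveI : IsScalarTower A E B := IsScalarTower.of_algebraMap_eq fun a => (ψ.commutes a).symm
  haveI : Module.Flat E B := Groth.Agent.Lib.IndEtaleH3.flat_of_flat_of_unramified A E B
  haveI : IsLocalHom (algebraMap E B) := isLocalHom_algHom A E B ψ
  haveI : Module.FaithfullyFlat E B := Module.FaithfullyFlat.of_flat_of_isLocalHom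
  exact Ideal.comap_map_eq_self_of_faithfullyFlat I

end MapsIdeal

section Exc

theorem isExcellent_of_finite (A D : Type u) [CommRing A] [CommRing D] [Algebra A D]
    [Module.Finite A D] (hA : EGA4.IsExcellent A) : EGA4.IsExcellent D := by
  obtain ⟨hN, hUC, hG, hJ⟩ := hA
  haveI := hN
  haveI : IsNoetherianRing D := IsNoetherianRing.of_finite A D
  refine ⟨inferInstance, ⟨inferInstance, fun S' _ _ hft => ?_⟩, ?_, fun S' _ _ hft => ?_⟩
  · letI : Algebra A S' := ((algebraMap D S').comp (algebraMap A D)).toAlgebra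
    haveI : IsScalarTower A D S' := IsScalarTower.of_algebraMap_eq fun _ => rfl
    exact hUC.2 S' (Algebra.FiniteType.trans inferInstance hft)
  · rw [Groth.Agent.Lib.GRingMaximalH3.isGRing_iff_maximal]
    intro m hm
    exact Groth.Agent.S9289.result A D m (hG.2 (m.comap (algebraMap A D)))
  · letI : Algebra A S' := ((algebraMap D S').comp (algebraMap A D)).toAlgebra
    haveI : IsScalarTower A D S' := IsScalarTower.of_algebraMap_eq fun _ => rfl
    exact hJ S' (Algebra.FiniteType.trans inferInstance hft)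

end Exc

section MainQ

variable (A S : Type u) [CommRing A] [HenselianLocalRing A] [IsNoetherianRing A]
  [CommRing S] [IsLocalRing S] [Algebra A S] [IsLocalHom (algebraMap A S)]
  [Hensel.IsStrictHenselization A S] (Q : Ideal S) [Q.IsPrime]
  (t : Finset (FractionRing (S ⧸ Q)))

attribute [local instance] FractionRing.liftAlgebra in
set_option maxHeartbeats 4000000 in
theorem mainQ :
    ∃ (El : Type u) (_ : CommRing El) (_ : Algebra A El) (_ : IsLocalRing El)
      (_ : IsLocalHom (algebraMap A El)) (_ : Module.Finite A El) (_ : Algebra.Etale A El)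
      (ψ : El →ₐ[A] S),
      Q = (Q.comap ψ.toRingHom).map ψ.toRingHom ∧
      (∀ x : S ⧸ Q, algebraMap (S ⧸ Q) (FractionRing (S ⧸ Q)) x ∈
          Subfield.closure (Set.range (algebraMap A (FractionRing (S ⧸ Q))) ∪
            (t : Set (FractionRing (S ⧸ Q)))) ↔
        ∃ e : El, Ideal.Quotient.mk Q (ψ e) = x) ∧
      ∀ l ∈ Subfield.closure (Set.range (algebraMap A (FractionRing (S ⧸ Q))) ∪
          (t : Set (FractionRing (S ⧸ Q)))),
        ∃ a : A, algebraMap A S a ∉ Q ∧ ∃ e : El,
          algebraMap (S ⧸ Q) (FractionRing (S ⧸ Q)) (Ideal.Quotient.mk Q (algebraMap A S a)) * l =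
            algebraMap (S ⧸ Q) (FractionRing (S ⧸ Q)) (Ideal.Quotient.mk Q (ψ e)) := by
  classical
  have hie : EtPBC.IsIndEtale A S :=
    Groth.Agent.Lib.StrictHens.isIndEtale_of_isStrictHenselization S
  haveI : Module.Flat A S := Groth.Agent.Lib.IndEtaleH3.flat_of_isIndEtale hie
  haveI : IsNoetherianRing S :=
    (Groth.Agent.Lib.StrictHens.isNoetherianRing_iff_of_isStrictHenselization (R := A) S).1
      inferInstance
  obtain ⟨gens, hgens⟩ : Q.FG := IsNoetherian.noetherian Q
  choose num den hnd using fun x : FractionRing (S ⧸ Q) =>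
    IsFractionRing.div_surjective (A := S ⧸ Q) x
  choose lift hlift using fun x : S ⧸ Q => Ideal.Quotient.mk_surjective x
  obtain ⟨E', _, _, _, _, hfin, het, hnorm, f', hf'⟩ := exists_galois_FE A S
    (gens ∪ (t.image (fun x => lift (num x)) ∪ t.image (fun x => lift (den x))))
  haveI := hfin
  haveI := het
  haveI := hnorm
  let P : Ideal E' := Q.comap f'.toRingHom
  haveI : P.IsPrime := Ideal.comap_isPrime _ _
  let q : Ideal A := P.under A
  haveI : P.LiesOver q := ⟨rfl⟩
  haveI : q.IsPrime := Ideal.IsPrime.under A P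
  have hq : ∀ a : A, a ∈ q ↔ algebraMap A S a ∈ Q := by
    intro a
    show f' (algebraMap A E' a) ∈ Q ↔ _
    rw [f'.commutes]
  have hQP : Q = P.map f'.toRingHom := by
    refine le_antisymm ?_ Ideal.map_comap_le
    rw [← hgens, Ideal.span_le]
    intro g hg
    obtain ⟨u, hu⟩ := hf' g (Finset.mem_union_left _ hg)
    have hgQ : g ∈ Q := by rw [← hgens]; exact Ideal.subset_span hg
    have huP : u ∈ P := by
      show f' u ∈ Q
      rw [hu]
      exact hgQ
    rw [← hu]
    exact Ideal.mem_map_of_mem _ huP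
  -- fields
  let gq : E' ⧸ P →+* S ⧸ Q := Ideal.quotientMap Q f'.toRingHom le_rfl
  have hgq : Function.Injective gq := Ideal.quotientMap_injective' le_rfl
  have hgqmk : ∀ x, gq (Ideal.Quotient.mk P x) = Ideal.Quotient.mk Q (f' x) :=
    fun x => Ideal.quotientMap_mk
  let g' : E' ⧸ P →+* FractionRing (S ⧸ Q) := (algebraMap (S ⧸ Q) _).comp gq
  have hg' : Function.Injective g' := (IsFractionRing.injective (S ⧸ Q) _).comp hgq
  let F : FractionRing (E' ⧸ P) →+* FractionRing (S ⧸ Q) := IsFractionRing.lift hg'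
  have hF : ∀ x : E', F (algebraMap (E' ⧸ P) (FractionRing (E' ⧸ P)) (Ideal.Quotient.mk P x)) =
      algebraMap (S ⧸ Q) (FractionRing (S ⧸ Q)) (Ideal.Quotient.mk Q (f' x)) := by
    intro x
    have h1 : F (algebraMap (E' ⧸ P) (FractionRing (E' ⧸ P)) (Ideal.Quotient.mk P x)) =
        g' (Ideal.Quotient.mk P x) := IsFractionRing.lift_algebraMap hg' _
    rw [h1]
    show algebraMap _ _ (gq (Ideal.Quotient.mk P x)) = _
    rw [hgqmk]
  have hFA : ∀ a : A, F (algebraMap (A ⧸ q) (FractionRing (E' ⧸ P)) (Ideal.Quotient.mk q a)) =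
      algebraMap (S ⧸ Q) (FractionRing (S ⧸ Q)) (Ideal.Quotient.mk Q (algebraMap A S a)) := by
    intro a
    rw [IsScalarTower.algebraMap_apply (A ⧸ q) (E' ⧸ P) (FractionRing (E' ⧸ P)),
      Ideal.Quotient.algebraMap_mk_of_liesOver, hF, f'.commutes]
  have hAΩ : ∀ a : A, algebraMap A (FractionRing (S ⧸ Q)) a =
      algebraMap (S ⧸ Q) (FractionRing (S ⧸ Q)) (Ideal.Quotient.mk Q (algebraMap A S a)) := by
    intro a
    rw [IsScalarTower.algebraMap_apply A (S ⧸ Q) (FractionRing (S ⧸ Q))]
    rfl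
  let Lsub : Subfield (FractionRing (S ⧸ Q)) :=
    Subfield.closure (Set.range (algebraMap A (FractionRing (S ⧸ Q))) ∪
      (t : Set (FractionRing (S ⧸ Q))))
  have hLA : ∀ a : A, algebraMap (S ⧸ Q) (FractionRing (S ⧸ Q))
      (Ideal.Quotient.mk Q (algebraMap A S a)) ∈ Lsub := fun a => by
    rw [← hAΩ]
    exact Subfield.subset_closure (Or.inl ⟨a, rfl⟩)
  let L' : IntermediateField (FractionRing (A ⧸ q)) (FractionRing (E' ⧸ P)) :=
    (Lsub.comap F).toIntermediateField (by
      intro c
      obtain ⟨r, s, -, rfl⟩ := IsFractionRing.div_surjective (A := A ⧸ q) c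
      obtain ⟨a, rfl⟩ := Ideal.Quotient.mk_surjective r
      obtain ⟨b, rfl⟩ := Ideal.Quotient.mk_surjective s
      show F (algebraMap (FractionRing (A ⧸ q)) (FractionRing (E' ⧸ P)) _) ∈ Lsub
      rw [map_div₀, map_div₀, ← IsScalarTower.algebraMap_apply, ← IsScalarTower.algebraMap_apply,
        hFA, hFA]
      exact Lsub.div_mem (hLA a) (hLA b))
  have hL' : ∀ y, y ∈ L' ↔ F y ∈ Lsub := fun y => Iff.rfl
  have hLrange : Lsub ≤ F.fieldRange := by
    rw [Subfield.closure_le]
    rintro x (⟨a, rfl⟩ | hx)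
    · exact ⟨algebraMap (A ⧸ q) _ (Ideal.Quotient.mk q a), by rw [hFA, hAΩ]⟩
    · have hx' : x ∈ t := hx
      obtain ⟨u, hu⟩ := hf' (lift (num x)) (Finset.mem_union_right _
        (Finset.mem_union_left _ (Finset.mem_image_of_mem _ hx')))
      obtain ⟨w, hw⟩ := hf' (lift (den x)) (Finset.mem_union_right _
        (Finset.mem_union_right _ (Finset.mem_image_of_mem _ hx')))
      refine ⟨algebraMap (E' ⧸ P) _ (Ideal.Quotient.mk P u) /
        algebraMap (E' ⧸ P) _ (Ideal.Quotient.mk P w), ?_⟩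
      rw [map_div₀, hF, hF, hu, hw, hlift, hlift]
      exact (hnd x).2
  obtain ⟨El, _, _, _, _, hfinl, hetl, ι, hPa, hι⟩ :=
    exists_lift_intermediateField_quot A E' q P (FractionRing (A ⧸ q)) (FractionRing (E' ⧸ P)) L'
  haveI := hfinl
  haveI := hetl
  let ψ : El →ₐ[A] S := f'.comp ι
  have hcomap : Q.comap ψ.toRingHom = P.comap ι.toRingHom := rfl
  have hQψ : Q = (Q.comap ψ.toRingHom).map ψ.toRingHom := by
    rw [hcomap]
    have h1 : (P.comap ι.toRingHom).map ψ.toRingHom =
        ((P.comap ι.toRingHom).map ι.toRingHom).map f'.toRingHom := (Ideal.map_map _ _).symm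
    rw [h1, ← hPa, ← hQP]
  have h1q : (1 : A) ∉ q := fun h =>
    (Ideal.IsPrime.ne_top ‹q.IsPrime›) ((Ideal.eq_top_iff_one _).2 h)
  refine ⟨El, _, _, inferInstance, inferInstance, hfinl, hetl, ψ, hQψ,
    fun x => ⟨fun hx => ?_, ?_⟩, fun l hl => ?_⟩
  · obtain ⟨s, rfl⟩ := Ideal.Quotient.mk_surjective x
    obtain ⟨y, hy⟩ := hLrange hx
    have hyL : y ∈ L' := by rw [hL', hy]; exact hx
    obtain ⟨a, ha, e, he⟩ := (hι y).1 hyL
    have h1 := congrArg F he
    rw [map_mul, hFA, hy, hF, ← map_mul, ← map_mul] at h1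
    have h2 : Ideal.Quotient.mk Q (algebraMap A S a * s) = Ideal.Quotient.mk Q (f' (ι e)) :=
      IsFractionRing.injective (S ⧸ Q) _ h1
    have h3 : algebraMap A S a * s - ψ e ∈ Q := Ideal.Quotient.eq.1 h2
    let I : Ideal El := Q.comap ψ.toRingHom ⊔ Ideal.span {algebraMap A El a}
    have heI : e ∈ I := by
      rw [← comap_map_algHom A El S ψ I, Ideal.mem_comap]
      have h4 : ψ e = algebraMap A S a * s - (algebraMap A S a * s - ψ e) := by ring
      show ψ e ∈ I.map ψ.toRingHom
      rw [h4]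
      refine Ideal.sub_mem _ ?_ ?_
      · have h5 : algebraMap A S a = ψ.toRingHom (algebraMap A El a) := (ψ.commutes a).symm
        rw [h5]
        exact Ideal.mul_mem_right _ _ (Ideal.mem_map_of_mem _
          (Ideal.mem_sup_right (Ideal.subset_span rfl)))
      · have h5 : Q ≤ I.map ψ.toRingHom := by
          conv_lhs => rw [hQψ]
          exact Ideal.map_mono le_sup_left
        exact h5 h3
    obtain ⟨p, hp, c', hc', hpc⟩ := Submodule.mem_sup.1 heI
    obtain ⟨c, rfl⟩ := Ideal.mem_span_singleton'.1 hc'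
    refine ⟨c, ?_⟩
    have hpQ : ψ p ∈ Q := hp
    have h5 : algebraMap A S a * (s - ψ c) ∈ Q := by
      have h6 : algebraMap A S a * (s - ψ c) = (algebraMap A S a * s - ψ e) + ψ p := by
        rw [← hpc, map_add, map_mul, ψ.commutes]
        ring
      rw [h6]
      exact Q.add_mem h3 hpQ
    have h6 : s - ψ c ∈ Q :=
      (Ideal.IsPrime.mem_or_mem ‹Q.IsPrime› h5).resolve_left (fun h => ha ((hq a).2 h))
    exact (Ideal.Quotient.eq.2 h6).symm
  · rintro ⟨e, rfl⟩
    show algebraMap _ _ (Ideal.Quotient.mk Q (f' (ι e))) ∈ Lsub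
    rw [← hF, ← hL', hι]
    exact ⟨1, h1q, e, by rw [map_one, map_one, one_mul]⟩
  · obtain ⟨y, hy⟩ := hLrange hl
    have hyL : y ∈ L' := by rw [hL', hy]; exact hl
    obtain ⟨a, ha, e, he⟩ := (hι y).1 hyL
    refine ⟨a, fun h => ha ((hq a).2 h), e, ?_⟩
    have h1 := congrArg F he
    rw [map_mul, hFA, hy, hF] at h1
    exact h1

end MainQ

end Groth.Agent.Lib.FEtGalH3
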