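import Mathlib
import Groth.Agent.Lib.FEtGal6_helper3

/-!
# Statement-level consequences of `FEtGalH3.mainQ` (helper3)
-/

set_option autoImplicit false
set_option maxSynthPendingDepth 3
universe u

namespace Groth.Agent.Lib.FEtGalH3

open IsLocalRing TensorProduct

section Final

variable (A S : Type u) [CommRing A] [HenselianLocalRing A]
  [CommRing S] [IsLocalRing S] [Algebra A S] [IsLocalHom (algebraMap A S)]
  [Hensel.IsStrictHenselization A S] (Q : Ideal S) [Q.IsPrime]
  (t : Finset (FractionRing (S ⧸ Q)))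

theorem main16440 [IsNoetherianRing A] :
    ∃ D' : Subalgebra A (S ⧸ Q), (D' : Set (S ⧸ Q)) =
        (algebraMap (S ⧸ Q) (FractionRing (S ⧸ Q))) ⁻¹'
        (Subfield.closure (Set.range (algebraMap A (FractionRing (S ⧸ Q))) ∪
          (t : Set (FractionRing (S ⧸ Q)))) : Set (FractionRing (S ⧸ Q))) ∧
      Module.Finite A D' ∧ Algebra.FormallyUnramified A D' := by
  obtain ⟨El, _, _, _, _, hfin, het, ψ, -, hii, -⟩ := mainQ A S Q t
  haveI := hfin
  haveI := het
  let f : El →ₐ[A] S ⧸ Q := (Ideal.Quotient.mkₐ A Q).comp ψ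
  refine ⟨f.range, ?_, ?_, ?_⟩
  · ext x
    constructor
    · rintro ⟨e, rfl⟩
      exact (hii _).2 ⟨e, rfl⟩
    · intro hx
      obtain ⟨e, he⟩ := (hii x).1 hx
      exact ⟨e, he⟩
  · exact Module.Finite.of_surjective f.rangeRestrict.toLinearMap f.rangeRestrict_surjective
  · exact Algebra.FormallyUnramified.of_surjective f.rangeRestrict f.rangeRestrict_surjective

theorem main16445 (hA : EGA4.IsExcellent A) :
    ∃ D' : Subalgebra A (S ⧸ Q), (D' : Set (S ⧸ Q)) =
        (algebraMap (S ⧸ Q) (FractionRing (S ⧸ Q))) ⁻¹'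
        (Subfield.closure (Set.range (algebraMap A (FractionRing (S ⧸ Q))) ∪
          (t : Set (FractionRing (S ⧸ Q)))) : Set (FractionRing (S ⧸ Q))) ∧
      EGA4.IsExcellent D' ∧ ∃ _ : HenselianLocalRing D',
        ∀ l ∈ Subfield.closure (Set.range (algebraMap A (FractionRing (S ⧸ Q))) ∪
            (t : Set (FractionRing (S ⧸ Q)))),
          ∃ a ∈ D', ∃ b ∈ D', algebraMap (S ⧸ Q) (FractionRing (S ⧸ Q)) b ≠ 0 ∧
            l * algebraMap (S ⧸ Q) (FractionRing (S ⧸ Q)) b =
              algebraMap (S ⧸ Q) (FractionRing (S ⧸ Q)) a := by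
  haveI : IsNoetherianRing A := hA.1
  obtain ⟨El, _, _, _, _, hfin, het, ψ, -, hii, hiii⟩ := mainQ A S Q t
  haveI := hfin
  haveI := het
  let f : El →ₐ[A] S ⧸ Q := (Ideal.Quotient.mkₐ A Q).comp ψ
  have hfe : ∀ e, f e = Ideal.Quotient.mk Q (ψ e) := fun e => rfl
  haveI : Module.Finite A f.range :=
    Module.Finite.of_surjective f.rangeRestrict.toLinearMap f.rangeRestrict_surjective
  haveI : IsLocalRing f.range :=
    IsLocalRing.of_surjective' f.rangeRestrict.toRingHom f.rangeRestrict_surjective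
  haveI : HenselianLocalRing f.range :=
    Groth.Agent.Lib.HensIntegralH3.henselianLocalRing_of_isIntegral A f.range
  refine ⟨f.range, ?_, isExcellent_of_finite A f.range hA, inferInstance, fun l hl => ?_⟩
  · ext x
    constructor
    · rintro ⟨e, rfl⟩
      exact (hii _).2 ⟨e, rfl⟩
    · intro hx
      obtain ⟨e, he⟩ := (hii x).1 hx
      exact ⟨e, he⟩
  · obtain ⟨a, ha, e, he⟩ := hiii l hl
    refine ⟨f e, ⟨e, rfl⟩, Ideal.Quotient.mk Q (algebraMap A S a), ⟨algebraMap A El a, ?_⟩, ?_, ?_⟩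
    · show f (algebraMap A El a) = _
      rw [hfe, ψ.commutes]
    · intro h0
      have h1 : Ideal.Quotient.mk Q (algebraMap A S a) = 0 :=
        IsFractionRing.injective (S ⧸ Q) (FractionRing (S ⧸ Q)) (by rw [h0, map_zero])
      exact ha (Ideal.Quotient.eq_zero_iff_mem.1 h1)
    · rw [mul_comm, he, hfe]

theorem main16446 [IsNoetherianRing A] :
    ∃ E : Subalgebra A S, ∃ _ : IsLocalRing E, EGA4loc.IsEssentiallyEtale A E ∧
      (∀ Q' ∈ ((Q.comap (algebraMap A S)).map (algebraMap A S)).minimalPrimes,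
        Q' = Ideal.map (algebraMap E S) (Q'.comap (algebraMap E S))) ∧
      ∀ x : S, algebraMap (S ⧸ Q) (FractionRing (S ⧸ Q)) (Ideal.Quotient.mk Q x) ∈
          Subfield.closure (Set.range (algebraMap A (FractionRing (S ⧸ Q))) ∪
            (t : Set (FractionRing (S ⧸ Q)))) →
        ∃ e ∈ E, Ideal.Quotient.mk Q e = Ideal.Quotient.mk Q x := by
  classical
  have hie : EtPBC.IsIndEtale A S :=
    Groth.Agent.Lib.StrictHens.isIndEtale_of_isStrictHenselization S
  haveI : IsNoetherianRing S :=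
    (Groth.Agent.Lib.StrictHens.isNoetherianRing_iff_of_isStrictHenselization (R := A) S).1
      inferInstance
  obtain ⟨El, _, _, _, _, hfin, het, ψ, -, hii, -⟩ := mainQ A S Q t
  haveI := hfin
  haveI := het
  have hfinMin := Ideal.finite_minimalPrimes_of_isNoetherianRing S
    ((Q.comap (algebraMap A S)).map (algebraMap A S))
  choose gens hgens using fun Q' : Ideal S => (IsNoetherian.noetherian Q' : Q'.FG)
  obtain ⟨s, hs⟩ := (Module.finite_def.1 hfin)
  let T₀ : Finset S := hfinMin.toFinset.biUnion gens ∪ s.image ψ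
  haveI : Algebra.FiniteType A (Algebra.adjoin A (T₀ : Set S)) :=
    (Subalgebra.fg_iff_finiteType _).1 (Subalgebra.fg_adjoin_finset T₀)
  obtain ⟨E, hDE, ⟨hlocE, hEe⟩, -⟩ :=
    Groth.Agent.Lib.ShUnramEssEtH3.exists_subalgebra_sat A S hie (Algebra.adjoin A (T₀ : Set S))
  have hT₀ : ∀ x ∈ T₀, x ∈ E := fun x hx => hDE (Algebra.subset_adjoin hx)
  have hψE : ∀ e : El, ψ e ∈ E := by
    intro e
    have h1 : (⊤ : Submodule A El) ≤ (Subalgebra.toSubmodule E).comap ψ.toLinearMap := by
      rw [← hs, Submodule.span_le]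
      intro x hx
      exact hT₀ _ (Finset.mem_union_right _ (Finset.mem_image_of_mem _ hx))
    exact h1 Submodule.mem_top
  refine ⟨E, hlocE, hEe, fun Q' hQ' => ?_, fun x hx => ?_⟩
  · refine le_antisymm ?_ Ideal.map_comap_le
    conv_lhs => rw [← hgens Q']
    rw [Ideal.span_le]
    intro g hg
    have hgE : g ∈ E := hT₀ g (Finset.mem_union_left _
      (Finset.mem_biUnion.2 ⟨Q', hfinMin.mem_toFinset.2 hQ', hg⟩))
    have hgQ' : g ∈ Q' := by
      rw [← hgens Q']
      exact Ideal.subset_span hg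
    have h1 : (⟨g, hgE⟩ : E) ∈ Q'.comap (algebraMap E S) := hgQ'
    exact Ideal.mem_map_of_mem (algebraMap E S) h1
  · obtain ⟨e, he⟩ := (hii _).1 hx
    exact ⟨ψ e, hψE e, he⟩

end Final

end Groth.Agent.Lib.FEtGalH3
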