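import Mathlib
import Groth.Prelude
import Groth.Agent.Lib.HartogsRing_helper5
import Groth.Agent.Lib.SchDenseFlat_helper5
import Groth.Agent.Lib.GenLoc_helper8
import Groth.Agent.Lib.DepthTensor_helper5

/-!
# Restriction of sections of invertible modules to schematically dense / big opens (helper5)
-/

universe u

open CategoryTheory IsLocalRing AlgebraicGeometry TopologicalSpace Opposite

namespace Groth.Agent.InvHartogs

open QcqsLoc Groth.Agent.DepthLib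

variable {X : Scheme.{u}}

/-- a section of an invertible module vanishing on a schematically dense open vanishes -/
theorem inj_of_schDense {L : X.Modules} (hL : PicF.IsInvertible L) (U : X.Opens)
    (hU : CInt.IsSchematicallyDense U) (T : X.Opens) (s : Γ(L, T))
    (hs : rF L (inf_le_left : T ⊓ U ≤ T) s = 0) : s = 0 := by
  apply eq_zero_of_cover
  intro x hx
  obtain ⟨W₁, -, hxW₁, e, he⟩ := GenLocH8.exists_isGen hL x
  refine ⟨W₁ ⊓ T, inf_le_right, ⟨hxW₁, hx⟩, ?_⟩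
  obtain ⟨c, hc⟩ := (he (W₁ ⊓ T) inf_le_left).1 (rF L (inf_le_right : W₁ ⊓ T ≤ T) s)
  have h0 : rX (inf_le_left : (W₁ ⊓ T) ⊓ U ≤ W₁ ⊓ T) c = 0 := by
    apply (he ((W₁ ⊓ T) ⊓ U) (inf_le_left.trans inf_le_left)).2
    have h1 := congrArg (rF L (inf_le_left : (W₁ ⊓ T) ⊓ U ≤ W₁ ⊓ T)) hc
    rw [rF_rF, rF_smul, rF_rF] at h1
    rw [← h1]
    have h2 := congrArg (rF L (inf_le_inf_right U inf_le_right : (W₁ ⊓ T) ⊓ U ≤ T ⊓ U)) hs
    rw [rF_rF, map_zero] at h2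
    exact h2
  have hc0 : c = 0 := by
    apply hU (W₁ ⊓ T)
    exact h0.trans (map_zero (rX (inf_le_left : (W₁ ⊓ T) ⊓ U ≤ W₁ ⊓ T))).symm
  rw [hc, hc0, zero_smul]

/-- gluing principle: injectivity and local surjectivity of the restrictions to `· ⊓ U` give
surjectivity -/
theorem surj_of_local (F : X.Modules) (U : X.Opens)
    (hinj : ∀ (T : X.Opens) (s : Γ(F, T)), rF F (inf_le_left : T ⊓ U ≤ T) s = 0 → s = 0)
    (hloc : ∀ x : X, ∃ W : X.Opens, x ∈ W ∧ ∀ (O : X.Opens), O ≤ W → ∀ t : Γ(F, O ⊓ U),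
      ∃ m : Γ(F, O), rF F (inf_le_left : O ⊓ U ≤ O) m = t)
    (V : X.Opens) (t : Γ(F, V ⊓ U)) :
    ∃ s : Γ(F, V), rF F (inf_le_left : V ⊓ U ≤ V) s = t := by
  classical
  choose Wx hxW hW using hloc
  let ι := {x : X // x ∈ V}
  let O : ι → X.Opens := fun i => Wx i.1 ⊓ V
  have hle : ∀ i : ι, O i ≤ V := fun i => inf_le_right
  have hleU : ∀ i : ι, O i ⊓ U ≤ V ⊓ U := fun i => inf_le_inf_right _ (hle i)
  have hcov : V ≤ ⨆ i, O i := by
    intro x hx
    exact Opens.mem_iSup.mpr ⟨⟨x, hx⟩, ⟨hxW x, hx⟩⟩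
  choose m hm using fun i : ι => hW i.1 (O i) inf_le_left (rF F (hleU i) t)
  have hcompat : TopCat.Presheaf.IsCompatible F.presheaf O m := by
    intro i j
    have h1 : rF F (inf_le_left : O i ⊓ O j ≤ O i) (m i) -
        rF F (inf_le_right : O i ⊓ O j ≤ O j) (m j) = 0 := by
      apply hinj (O i ⊓ O j)
      have hl : (O i ⊓ O j) ⊓ U ≤ O i ⊓ U := inf_le_inf_right _ inf_le_left
      have hr : (O i ⊓ O j) ⊓ U ≤ O j ⊓ U := inf_le_inf_right _ inf_le_right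
      have hi := congrArg (rF F hl) (hm i)
      have hj := congrArg (rF F hr) (hm j)
      rw [rF_rF, rF_rF] at hi hj
      rw [map_sub, rF_rF, rF_rF, sub_eq_zero]
      exact hi.trans hj.symm
    have h2 : F.presheaf.map (homOfLE (inf_le_left : O i ⊓ O j ≤ O i)).op (m i) =
        F.presheaf.map (homOfLE (inf_le_right : O i ⊓ O j ≤ O j)).op (m j) := sub_eq_zero.mp h1
    exact (Groth.Agent.Lib.QCohExtH1.rF_congr F _ _ _).trans
      (h2.trans (Groth.Agent.Lib.QCohExtH1.rF_congr F _ _ _))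
  obtain ⟨s, hs, -⟩ := TopCat.Sheaf.existsUnique_gluing' ⟨F.presheaf, F.isSheaf⟩ O V
    (fun i => homOfLE (hle i)) hcov m hcompat
  refine ⟨s, ?_⟩
  apply eq_of_cover
  intro x hx
  let i : ι := ⟨x, hx.1⟩
  refine ⟨O i ⊓ U, hleU i, ⟨⟨hxW x, hx.1⟩, hx.2⟩, ?_⟩
  have h1 : rF F (hle i) s = m i := hs i
  rw [rF_rF, ← hm i, ← h1, rF_rF]

/-- local surjectivity for an invertible module from surjectivity for functions -/
theorem loc_surj {L : X.Modules} (hL : PicF.IsInvertible L) (U : X.Opens)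
    (hO : ∀ (O : X.Opens) (b : Γ(X, O ⊓ U)),
      ∃ a : Γ(X, O), rX (inf_le_left : O ⊓ U ≤ O) a = b)
    (x : X) : ∃ W : X.Opens, x ∈ W ∧ ∀ (O : X.Opens), O ≤ W → ∀ t : Γ(L, O ⊓ U),
      ∃ m : Γ(L, O), rF L (inf_le_left : O ⊓ U ≤ O) m = t := by
  obtain ⟨W, -, hxW, e, he⟩ := GenLocH8.exists_isGen hL x
  refine ⟨W, hxW, fun O hOW t => ?_⟩
  obtain ⟨c', hc'⟩ := (he (O ⊓ U) (inf_le_left.trans hOW)).1 t
  obtain ⟨c, hc⟩ := hO O c'
  refine ⟨c • rF L hOW e, ?_⟩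
  rw [rF_smul, hc, rF_rF, hc']

/-- relative Hartogs extension for functions -/
theorem ring_surj [IsLocallyNoetherian X] (U : X.Opens)
    (hU : ∀ x : X, x ∉ U → (2 : ℕ∞) ≤ LocCoh.depth (X.presheaf.stalk x) (X.presheaf.stalk x))
    (O : X.Opens) (b : Γ(X, O ⊓ U)) :
    ∃ a : Γ(X, O), rX (inf_le_left : O ⊓ U ≤ O) a = b := by
  haveI : (Coh.structureModule X).IsQuasicoherent := SerreCrit.isQuasicoherent_OO
  haveI := Groth.Agent.HartogsRing.isFiniteType_structureModule (X := X)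
  have hd : ∀ x : X, x ∉ U → (2 : ℕ∞) ≤
      LocCoh.depth (X.presheaf.stalk x) ((Coh.structureModule X).presheaf.stalk x) := by
    intro x hx
    rw [Groth.Agent.HartogsRing.depth_structureModule_stalk]
    exact hU x hx
  obtain ⟨a, ha⟩ := Groth.Agent.Hartogs.surj (Coh.structureModule X) U hd O
    (b : Γ(Coh.structureModule X, O ⊓ U))
  exact ⟨(a : Γ(X, O)), ha⟩

/-- depth does not drop along a flat local homomorphism -/
theorem depth_le_of_flat (R B : Type u) [CommRing R] [CommRing B] [IsLocalRing R] [IsLocalRing B]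
    [IsNoetherianRing R] [IsNoetherianRing B] [Algebra R B] [IsLocalHom (algebraMap R B)]
    [Module.Flat R B] : LocCoh.depth R R ≤ LocCoh.depth B B := by
  have h1 := Groth.Agent.DepthTensor.depth_tensor (R := R) (S := B) R B
  have h2 : LocCoh.depth B (TensorProduct R B R) = LocCoh.depth B B :=
    idealDepth_congr (maximalIdeal B) _ (TensorProduct.AlgebraTensorModule.rid R B B)
  rw [h2] at h1
  rw [h1]
  exact le_self_add

theorem depth_stalk_le_of_flat {A S : Scheme.{u}} [IsLocallyNoetherian S] [IsLocallyNoetherian A]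
    (f : A ⟶ S) [Flat f] (a : A) :
    LocCoh.depth (S.presheaf.stalk (f a)) (S.presheaf.stalk (f a)) ≤
      LocCoh.depth (A.presheaf.stalk a) (A.presheaf.stalk a) := by
  letI : Algebra (S.presheaf.stalk (f a)) (A.presheaf.stalk a) := (f.stalkMap a).hom.toAlgebra
  haveI : Module.Flat (S.presheaf.stalk (f a)) (A.presheaf.stalk a) := Flat.stalkMap f a
  haveI : IsLocalHom (algebraMap (S.presheaf.stalk (f a)) (A.presheaf.stalk a)) :=
    inferInstanceAs (IsLocalHom (f.stalkMap a).hom)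
  exact depth_le_of_flat _ _

/-- restriction of sections of an invertible module on the source of a smooth morphism to the
preimage of a schematically dense, resp. big, open of the base -/
theorem main {S A : Scheme.{u}} [IsLocallyNoetherian S]
    (f : A ⟶ S) [Smooth f] (L : A.Modules) (hL : PicF.IsInvertible L) (V : S.Opens) :
    (CInt.IsSchematicallyDense V →
      ∀ W : S.Opens, Function.Injective
        (L.val.map (homOfLE (inf_le_left : f ⁻¹ᵁ W ⊓ f ⁻¹ᵁ V ≤ f ⁻¹ᵁ W)).op)) ∧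
    ((∀ x : S, x ∉ V → 2 ≤ LocCoh.depth (S.presheaf.stalk x) (S.presheaf.stalk x)) →
      ∀ W : S.Opens, Function.Bijective
        (L.val.map (homOfLE (inf_le_left : f ⁻¹ᵁ W ⊓ f ⁻¹ᵁ V ≤ f ⁻¹ᵁ W)).op)) := by
  haveI : IsLocallyNoetherian A := LocallyOfFiniteType.isLocallyNoetherian f
  have hinjL : CInt.IsSchematicallyDense V → ∀ (T : A.Opens) (s : Γ(L, T)),
      rF L (inf_le_left : T ⊓ f ⁻¹ᵁ V ≤ T) s = 0 → s = 0 :=
    fun hV T s hs => inj_of_schDense hL (f ⁻¹ᵁ V) (Groth.Agent.SchDenseFlat.main f V hV) T s hs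
  have hinj : CInt.IsSchematicallyDense V → ∀ W : S.Opens, Function.Injective
      (L.val.map (homOfLE (inf_le_left : f ⁻¹ᵁ W ⊓ f ⁻¹ᵁ V ≤ f ⁻¹ᵁ W)).op) := by
    intro hV W s₁ s₂ h
    have key : ∀ t₁ t₂ : Γ(L, f ⁻¹ᵁ W),
        rF L (inf_le_left : f ⁻¹ᵁ W ⊓ f ⁻¹ᵁ V ≤ f ⁻¹ᵁ W) t₁ =
        rF L (inf_le_left : f ⁻¹ᵁ W ⊓ f ⁻¹ᵁ V ≤ f ⁻¹ᵁ W) t₂ → t₁ = t₂ := by
      intro t₁ t₂ h'
      have h0 : rF L (inf_le_left : f ⁻¹ᵁ W ⊓ f ⁻¹ᵁ V ≤ f ⁻¹ᵁ W) (t₁ - t₂) = 0 := by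
        rw [map_sub, sub_eq_zero]
        exact h'
      exact sub_eq_zero.mp (hinjL hV _ _ h0)
    exact key s₁ s₂ h
  refine ⟨hinj, fun hdepth W => ?_⟩
  have hV : CInt.IsSchematicallyDense V := by
    rw [Groth.Agent.SchDense.main]
    intro x hx
    by_contra hxV
    have h2 := hdepth x hxV
    have h1 : (1 : ℕ∞) ≤ LocCoh.idealDepth (maximalIdeal (S.presheaf.stalk x))
        (S.presheaf.stalk x) := le_trans (by norm_num) h2
    exact (not_one_le_idealDepth_of_le_associatedPrime _ _ _ hx le_rfl) h1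
  refine ⟨hinj hV W, ?_⟩
  have hdA : ∀ a : A, a ∉ f ⁻¹ᵁ V →
      (2 : ℕ∞) ≤ LocCoh.depth (A.presheaf.stalk a) (A.presheaf.stalk a) :=
    fun a ha => le_trans (hdepth (f a) ha) (depth_stalk_le_of_flat f a)
  intro t
  obtain ⟨s, hs⟩ := surj_of_local L (f ⁻¹ᵁ V) (hinjL hV)
    (loc_surj hL (f ⁻¹ᵁ V) (ring_surj (f ⁻¹ᵁ V) hdA)) (f ⁻¹ᵁ W) t
  exact ⟨s, hs⟩

end Groth.Agent.InvHartogs
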