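import Mathlib
import Groth.Prelude
import Groth.Agent.Lib.HartogsRing_helper5
import Groth.Agent.Lib.InvHartogs_helper5

/-!
# Extension of morphisms into an affine `S`-scheme across a closed set of depth `≥ 2` (helper4)

`S` locally Noetherian, `U ⊆ S` open with `depth 𝒪_{S,s} ≥ 2` for `s ∉ U`, `f₂ : G₂ ⟶ S` affine,
`q : Z ⟶ S` flat with `Z` locally Noetherian.  Then every `S`-morphism `q⁻¹U ⟶ G₂` extends uniquely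
to an `S`-morphism `Z ⟶ G₂`.
-/

set_option autoImplicit false
set_option linter.unusedVariables false
set_option linter.unusedTactic false
set_option linter.unreachableTactic false
set_option linter.unusedSectionVars false
set_option linter.style.haveILetI false
set_option maxHeartbeats 800000
set_option backward.isDefEq.respectTransparency false

universe u

open CategoryTheory AlgebraicGeometry Limits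

namespace Groth.Agent.Lib.FinFlatExtH4

/-- points of an open subscheme lie in the open -/
theorem ι_mem {X : Scheme.{u}} (O : X.Opens) (x : ↥(O : Scheme.{u})) : O.ι x ∈ O := by
  have h : O.ι x ∈ Set.range O.ι := Set.mem_range_self x
  rw [Scheme.Opens.range_ι] at h
  exact h

/-- lift a morphism through an open subscheme -/
noncomputable def liftOpen {T X : Scheme.{u}} (O : X.Opens) (t : T ⟶ X) (h : ∀ x, t x ∈ O) :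
    T ⟶ (O : Scheme.{u}) :=
  IsOpenImmersion.lift O.ι t (by
    rw [Scheme.Opens.range_ι]
    rintro _ ⟨x, rfl⟩
    exact h x)

theorem liftOpen_ι {T X : Scheme.{u}} (O : X.Opens) (t : T ⟶ X) (h : ∀ x, t x ∈ O) :
    liftOpen O t h ≫ O.ι = t :=
  IsOpenImmersion.lift_fac _ _ _

theorem rr_mem {Z' Z S : Scheme.{u}} (p : Z' ⟶ Z) (q : Z ⟶ S) (q' : Z' ⟶ S) (hq' : p ≫ q = q')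
    (U : S.Opens) (x : ↥((q' ⁻¹ᵁ U : Z'.Opens) : Scheme.{u})) :
    ((q' ⁻¹ᵁ U).ι ≫ p) x ∈ q ⁻¹ᵁ U := by
  subst hq'
  have h := ι_mem ((p ≫ q) ⁻¹ᵁ U) x
  rw [Scheme.Hom.mem_preimage, Scheme.Hom.comp_apply] at h
  rw [Scheme.Hom.mem_preimage, Scheme.Hom.comp_apply]
  exact h

/-- the induced morphism between preimages of `U` -/
noncomputable def rr {Z' Z S : Scheme.{u}} (p : Z' ⟶ Z) (q : Z ⟶ S) (q' : Z' ⟶ S)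
    (hq' : p ≫ q = q') (U : S.Opens) :
    ((q' ⁻¹ᵁ U : Z'.Opens) : Scheme.{u}) ⟶ ((q ⁻¹ᵁ U : Z.Opens) : Scheme.{u}) :=
  liftOpen (q ⁻¹ᵁ U) ((q' ⁻¹ᵁ U).ι ≫ p) (rr_mem p q q' hq' U)

theorem rr_ι {Z' Z S : Scheme.{u}} (p : Z' ⟶ Z) (q : Z ⟶ S) (q' : Z' ⟶ S)
    (hq' : p ≫ q = q') (U : S.Opens) :
    rr p q q' hq' U ≫ (q ⁻¹ᵁ U).ι = (q' ⁻¹ᵁ U).ι ≫ p :=
  liftOpen_ι _ _ _

theorem cover_preimage {Z S : Scheme.{u}} (q : Z ⟶ S) :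
    TopologicalSpace.IsOpenCover (fun W : S.affineOpens => q ⁻¹ᵁ (W : S.Opens)) := by
  apply TopologicalSpace.IsOpenCover.mk
  rw [← Scheme.Hom.preimage_iSup, iSup_affineOpens_eq_top, Scheme.Hom.preimage_top]

section Ext

variable {S : Scheme.{u}} [IsLocallyNoetherian S] (U : S.Opens)

/-- Hartogs extension to an affine target, relative to a flat morphism to `S` -/
theorem extend_aff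
    (hU : ∀ s : S, s ∉ U → (2 : ℕ∞) ≤ LocCoh.depth (S.presheaf.stalk s) (S.presheaf.stalk s))
    {Z : Scheme.{u}} [IsLocallyNoetherian Z] (q : Z ⟶ S) [Flat q]
    (Y : Scheme.{u}) [IsAffine Y] (f : ((q ⁻¹ᵁ U : Z.Opens) : Scheme.{u}) ⟶ Y) :
    ∃! g : Z ⟶ Y, (q ⁻¹ᵁ U).ι ≫ g = f := by
  refine Groth.Agent.HartogsRing.extend_affine Y (q ⁻¹ᵁ U) ?_ f
  intro z hz
  exact le_trans (hU (q z) (fun h => hz ((Scheme.Hom.mem_preimage q).mpr h)))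
    (Groth.Agent.InvHartogs.depth_stalk_le_of_flat q z)

theorem ext_unique_local
    (hU : ∀ s : S, s ∉ U → (2 : ℕ∞) ≤ LocCoh.depth (S.presheaf.stalk s) (S.presheaf.stalk s))
    {G₂ : Scheme.{u}} (f₂ : G₂ ⟶ S) [IsAffineHom f₂]
    {Z : Scheme.{u}} [IsLocallyNoetherian Z] (q : Z ⟶ S) [Flat q]
    (W : S.Opens) (hW : IsAffineOpen W) (hq : ∀ z, q z ∈ W)
    (a b : Z ⟶ G₂) (ha : a ≫ f₂ = q) (hb : b ≫ f₂ = q)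
    (hab : (q ⁻¹ᵁ U).ι ≫ a = (q ⁻¹ᵁ U).ι ≫ b) : a = b := by
  haveI : IsAffine ((f₂ ⁻¹ᵁ W : G₂.Opens) : Scheme.{u}) := hW.preimage f₂
  have hmemA : ∀ z : Z, a z ∈ f₂ ⁻¹ᵁ W := by
    intro z
    rw [Scheme.Hom.mem_preimage, ← Scheme.Hom.comp_apply, ha]
    exact hq z
  have hmemB : ∀ z : Z, b z ∈ f₂ ⁻¹ᵁ W := by
    intro z
    rw [Scheme.Hom.mem_preimage, ← Scheme.Hom.comp_apply, hb]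
    exact hq z
  have h1 : (q ⁻¹ᵁ U).ι ≫ liftOpen (f₂ ⁻¹ᵁ W) a hmemA =
      (q ⁻¹ᵁ U).ι ≫ liftOpen (f₂ ⁻¹ᵁ W) b hmemB := by
    apply (cancel_mono (f₂ ⁻¹ᵁ W).ι).mp
    rw [Category.assoc, Category.assoc, liftOpen_ι, liftOpen_ι]
    exact hab
  have h2 : liftOpen (f₂ ⁻¹ᵁ W) a hmemA = liftOpen (f₂ ⁻¹ᵁ W) b hmemB :=
    (extend_aff U hU q _ ((q ⁻¹ᵁ U).ι ≫ liftOpen (f₂ ⁻¹ᵁ W) b hmemB)).unique h1 rfl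
  calc a = liftOpen (f₂ ⁻¹ᵁ W) a hmemA ≫ (f₂ ⁻¹ᵁ W).ι := (liftOpen_ι _ _ _).symm
    _ = liftOpen (f₂ ⁻¹ᵁ W) b hmemB ≫ (f₂ ⁻¹ᵁ W).ι := by rw [h2]
    _ = b := liftOpen_ι _ _ _

theorem ext_unique
    (hU : ∀ s : S, s ∉ U → (2 : ℕ∞) ≤ LocCoh.depth (S.presheaf.stalk s) (S.presheaf.stalk s))
    {G₂ : Scheme.{u}} (f₂ : G₂ ⟶ S) [IsAffineHom f₂]
    {Z : Scheme.{u}} [IsLocallyNoetherian Z] (q : Z ⟶ S) [Flat q]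
    (a b : Z ⟶ G₂) (ha : a ≫ f₂ = q) (hb : b ≫ f₂ = q)
    (hab : (q ⁻¹ᵁ U).ι ≫ a = (q ⁻¹ᵁ U).ι ≫ b) : a = b := by
  refine (Z.openCoverOfIsOpenCover _ (cover_preimage q)).hom_ext a b (fun (W : S.affineOpens) => ?_)
  show (q ⁻¹ᵁ (W : S.Opens)).ι ≫ a = (q ⁻¹ᵁ (W : S.Opens)).ι ≫ b
  refine ext_unique_local U hU f₂ ((q ⁻¹ᵁ (W : S.Opens)).ι ≫ q) (W : S.Opens) W.2 ?_ _ _ ?_ ?_ ?_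
  · intro z
    rw [Scheme.Hom.comp_apply]
    exact (Scheme.Hom.mem_preimage q).mp (ι_mem _ z)
  · rw [Category.assoc, ha]
  · rw [Category.assoc, hb]
  · have e := rr_ι (q ⁻¹ᵁ (W : S.Opens)).ι q _ rfl U
    calc (((q ⁻¹ᵁ (W : S.Opens)).ι ≫ q) ⁻¹ᵁ U).ι ≫ (q ⁻¹ᵁ (W : S.Opens)).ι ≫ a
        = ((((q ⁻¹ᵁ (W : S.Opens)).ι ≫ q) ⁻¹ᵁ U).ι ≫ (q ⁻¹ᵁ (W : S.Opens)).ι) ≫ a :=
          (Category.assoc _ _ _).symm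
      _ = (rr (q ⁻¹ᵁ (W : S.Opens)).ι q _ rfl U ≫ (q ⁻¹ᵁ U).ι) ≫ a := by rw [e]
      _ = rr (q ⁻¹ᵁ (W : S.Opens)).ι q _ rfl U ≫ (q ⁻¹ᵁ U).ι ≫ a := Category.assoc _ _ _
      _ = rr (q ⁻¹ᵁ (W : S.Opens)).ι q _ rfl U ≫ (q ⁻¹ᵁ U).ι ≫ b := by rw [hab]
      _ = (rr (q ⁻¹ᵁ (W : S.Opens)).ι q _ rfl U ≫ (q ⁻¹ᵁ U).ι) ≫ b := (Category.assoc _ _ _).symm
      _ = ((((q ⁻¹ᵁ (W : S.Opens)).ι ≫ q) ⁻¹ᵁ U).ι ≫ (q ⁻¹ᵁ (W : S.Opens)).ι) ≫ b := by rw [e]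
      _ = (((q ⁻¹ᵁ (W : S.Opens)).ι ≫ q) ⁻¹ᵁ U).ι ≫ (q ⁻¹ᵁ (W : S.Opens)).ι ≫ b :=
          Category.assoc _ _ _

theorem ext_exists_local
    (hU : ∀ s : S, s ∉ U → (2 : ℕ∞) ≤ LocCoh.depth (S.presheaf.stalk s) (S.presheaf.stalk s))
    {G₂ : Scheme.{u}} (f₂ : G₂ ⟶ S) [IsAffineHom f₂]
    {Z : Scheme.{u}} [IsLocallyNoetherian Z] (q : Z ⟶ S) [Flat q]
    (W : S.Opens) (hW : IsAffineOpen W) (hq : ∀ z, q z ∈ W)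
    (ψ : ((q ⁻¹ᵁ U : Z.Opens) : Scheme.{u}) ⟶ G₂) (hψ : ψ ≫ f₂ = (q ⁻¹ᵁ U).ι ≫ q) :
    ∃ a : Z ⟶ G₂, a ≫ f₂ = q ∧ (q ⁻¹ᵁ U).ι ≫ a = ψ := by
  haveI : IsAffine ((f₂ ⁻¹ᵁ W : G₂.Opens) : Scheme.{u}) := hW.preimage f₂
  haveI : IsAffine ((W : S.Opens) : Scheme.{u}) := hW
  have hmemψ : ∀ x, ψ x ∈ f₂ ⁻¹ᵁ W := by
    intro x
    rw [Scheme.Hom.mem_preimage, ← Scheme.Hom.comp_apply, hψ, Scheme.Hom.comp_apply]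
    exact hq _
  obtain ⟨a', ha', -⟩ := extend_aff U hU q _ (liftOpen (f₂ ⁻¹ᵁ W) ψ hmemψ)
  have hres : (q ⁻¹ᵁ U).ι ≫ a' ≫ (f₂ ⁻¹ᵁ W).ι = ψ := by
    rw [← Category.assoc, ha', liftOpen_ι]
  refine ⟨a' ≫ (f₂ ⁻¹ᵁ W).ι, ?_, hres⟩
  have hm1 : ∀ z : Z, ((a' ≫ (f₂ ⁻¹ᵁ W).ι) ≫ f₂) z ∈ W := by
    intro z
    rw [Scheme.Hom.comp_apply, Scheme.Hom.comp_apply]
    exact (Scheme.Hom.mem_preimage f₂).mp (ι_mem _ (a' z))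
  have e : (q ⁻¹ᵁ U).ι ≫ (a' ≫ (f₂ ⁻¹ᵁ W).ι) ≫ f₂ = (q ⁻¹ᵁ U).ι ≫ q :=
    calc (q ⁻¹ᵁ U).ι ≫ (a' ≫ (f₂ ⁻¹ᵁ W).ι) ≫ f₂
        = ((q ⁻¹ᵁ U).ι ≫ a' ≫ (f₂ ⁻¹ᵁ W).ι) ≫ f₂ := (Category.assoc _ _ _).symm
      _ = ψ ≫ f₂ := by rw [hres]
      _ = (q ⁻¹ᵁ U).ι ≫ q := hψ
  have h1 : (q ⁻¹ᵁ U).ι ≫ liftOpen W ((a' ≫ (f₂ ⁻¹ᵁ W).ι) ≫ f₂) hm1 =
      (q ⁻¹ᵁ U).ι ≫ liftOpen W q hq := by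
    apply (cancel_mono W.ι).mp
    have l1 := liftOpen_ι W ((a' ≫ (f₂ ⁻¹ᵁ W).ι) ≫ f₂) hm1
    have l2 := liftOpen_ι W q hq
    calc ((q ⁻¹ᵁ U).ι ≫ liftOpen W ((a' ≫ (f₂ ⁻¹ᵁ W).ι) ≫ f₂) hm1) ≫ W.ι
        = (q ⁻¹ᵁ U).ι ≫ (liftOpen W ((a' ≫ (f₂ ⁻¹ᵁ W).ι) ≫ f₂) hm1 ≫ W.ι) :=
          Category.assoc _ _ _
      _ = (q ⁻¹ᵁ U).ι ≫ (a' ≫ (f₂ ⁻¹ᵁ W).ι) ≫ f₂ := by rw [l1]
      _ = (q ⁻¹ᵁ U).ι ≫ q := e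
      _ = (q ⁻¹ᵁ U).ι ≫ (liftOpen W q hq ≫ W.ι) := by rw [l2]
      _ = ((q ⁻¹ᵁ U).ι ≫ liftOpen W q hq) ≫ W.ι := (Category.assoc _ _ _).symm
  have h2 := (extend_aff U hU q _ ((q ⁻¹ᵁ U).ι ≫ liftOpen W q hq)).unique h1 rfl
  calc (a' ≫ (f₂ ⁻¹ᵁ W).ι) ≫ f₂
      = liftOpen W ((a' ≫ (f₂ ⁻¹ᵁ W).ι) ≫ f₂) hm1 ≫ W.ι := (liftOpen_ι _ _ _).symm
    _ = liftOpen W q hq ≫ W.ι := by rw [h2]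
    _ = q := liftOpen_ι _ _ _

/-- abstract compatibility of two local solutions -/
theorem compat_abs
    (hU : ∀ s : S, s ∉ U → (2 : ℕ∞) ≤ LocCoh.depth (S.presheaf.stalk s) (S.presheaf.stalk s))
    {G₂ : Scheme.{u}} (f₂ : G₂ ⟶ S) [IsAffineHom f₂]
    {Z : Scheme.{u}} (q : Z ⟶ S) (ψ : ((q ⁻¹ᵁ U : Z.Opens) : Scheme.{u}) ⟶ G₂)
    {Z₁ Z₂ : Scheme.{u}} (p₁ : Z₁ ⟶ Z) (p₂ : Z₂ ⟶ Z) (a₁ : Z₁ ⟶ G₂) (a₂ : Z₂ ⟶ G₂)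
    (h₁ : a₁ ≫ f₂ = p₁ ≫ q) (h₂ : a₂ ≫ f₂ = p₂ ≫ q)
    (k₁ : ((p₁ ≫ q) ⁻¹ᵁ U).ι ≫ a₁ = rr p₁ q (p₁ ≫ q) rfl U ≫ ψ)
    (k₂ : ((p₂ ≫ q) ⁻¹ᵁ U).ι ≫ a₂ = rr p₂ q (p₂ ≫ q) rfl U ≫ ψ)
    {P : Scheme.{u}} [IsLocallyNoetherian P] (t₁ : P ⟶ Z₁) (t₂ : P ⟶ Z₂)
    (ht : t₁ ≫ p₁ = t₂ ≫ p₂)
    (q' : P ⟶ S) [Flat q'] (hq' : t₁ ≫ p₁ ≫ q = q') :
    t₁ ≫ a₁ = t₂ ≫ a₂ := by
  have hq'' : t₂ ≫ p₂ ≫ q = q' := by rw [← hq', ← Category.assoc, ← ht, Category.assoc]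
  refine ext_unique U hU f₂ q' _ _ ?_ ?_ ?_
  · rw [Category.assoc, h₁, hq']
  · rw [Category.assoc, h₂, hq'']
  · have e1 := rr_ι t₁ (p₁ ≫ q) q' hq' U
    have e2 := rr_ι t₂ (p₂ ≫ q) q' hq'' U
    have e3 : rr t₁ (p₁ ≫ q) q' hq' U ≫ rr p₁ q (p₁ ≫ q) rfl U =
        rr t₂ (p₂ ≫ q) q' hq'' U ≫ rr p₂ q (p₂ ≫ q) rfl U := by
      apply (cancel_mono (q ⁻¹ᵁ U).ι).mp
      calc (rr t₁ (p₁ ≫ q) q' hq' U ≫ rr p₁ q (p₁ ≫ q) rfl U) ≫ (q ⁻¹ᵁ U).ι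
          = rr t₁ (p₁ ≫ q) q' hq' U ≫ (rr p₁ q (p₁ ≫ q) rfl U ≫ (q ⁻¹ᵁ U).ι) :=
            Category.assoc _ _ _
        _ = rr t₁ (p₁ ≫ q) q' hq' U ≫ (((p₁ ≫ q) ⁻¹ᵁ U).ι ≫ p₁) := by rw [rr_ι]
        _ = (rr t₁ (p₁ ≫ q) q' hq' U ≫ ((p₁ ≫ q) ⁻¹ᵁ U).ι) ≫ p₁ := (Category.assoc _ _ _).symm
        _ = ((q' ⁻¹ᵁ U).ι ≫ t₁) ≫ p₁ := by rw [e1]
        _ = (q' ⁻¹ᵁ U).ι ≫ t₁ ≫ p₁ := Category.assoc _ _ _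
        _ = (q' ⁻¹ᵁ U).ι ≫ t₂ ≫ p₂ := by rw [ht]
        _ = ((q' ⁻¹ᵁ U).ι ≫ t₂) ≫ p₂ := (Category.assoc _ _ _).symm
        _ = (rr t₂ (p₂ ≫ q) q' hq'' U ≫ ((p₂ ≫ q) ⁻¹ᵁ U).ι) ≫ p₂ := by rw [e2]
        _ = rr t₂ (p₂ ≫ q) q' hq'' U ≫ (((p₂ ≫ q) ⁻¹ᵁ U).ι ≫ p₂) := Category.assoc _ _ _
        _ = rr t₂ (p₂ ≫ q) q' hq'' U ≫ (rr p₂ q (p₂ ≫ q) rfl U ≫ (q ⁻¹ᵁ U).ι) := by rw [rr_ι]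
        _ = (rr t₂ (p₂ ≫ q) q' hq'' U ≫ rr p₂ q (p₂ ≫ q) rfl U) ≫ (q ⁻¹ᵁ U).ι :=
            (Category.assoc _ _ _).symm
    calc (q' ⁻¹ᵁ U).ι ≫ t₁ ≫ a₁ = ((q' ⁻¹ᵁ U).ι ≫ t₁) ≫ a₁ := (Category.assoc _ _ _).symm
      _ = (rr t₁ (p₁ ≫ q) q' hq' U ≫ ((p₁ ≫ q) ⁻¹ᵁ U).ι) ≫ a₁ := by rw [e1]
      _ = rr t₁ (p₁ ≫ q) q' hq' U ≫ rr p₁ q (p₁ ≫ q) rfl U ≫ ψ := by rw [Category.assoc, k₁]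
      _ = (rr t₁ (p₁ ≫ q) q' hq' U ≫ rr p₁ q (p₁ ≫ q) rfl U) ≫ ψ := (Category.assoc _ _ _).symm
      _ = (rr t₂ (p₂ ≫ q) q' hq'' U ≫ rr p₂ q (p₂ ≫ q) rfl U) ≫ ψ := by rw [e3]
      _ = rr t₂ (p₂ ≫ q) q' hq'' U ≫ rr p₂ q (p₂ ≫ q) rfl U ≫ ψ := Category.assoc _ _ _
      _ = (rr t₂ (p₂ ≫ q) q' hq'' U ≫ ((p₂ ≫ q) ⁻¹ᵁ U).ι) ≫ a₂ := by rw [Category.assoc, k₂]
      _ = ((q' ⁻¹ᵁ U).ι ≫ t₂) ≫ a₂ := by rw [e2]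
      _ = (q' ⁻¹ᵁ U).ι ≫ t₂ ≫ a₂ := Category.assoc _ _ _

theorem ext_exists
    (hU : ∀ s : S, s ∉ U → (2 : ℕ∞) ≤ LocCoh.depth (S.presheaf.stalk s) (S.presheaf.stalk s))
    {G₂ : Scheme.{u}} (f₂ : G₂ ⟶ S) [IsAffineHom f₂]
    {Z : Scheme.{u}} [IsLocallyNoetherian Z] (q : Z ⟶ S) [Flat q]
    (ψ : ((q ⁻¹ᵁ U : Z.Opens) : Scheme.{u}) ⟶ G₂) (hψ : ψ ≫ f₂ = (q ⁻¹ᵁ U).ι ≫ q) :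
    ∃ a : Z ⟶ G₂, a ≫ f₂ = q ∧ (q ⁻¹ᵁ U).ι ≫ a = ψ := by
  have hloc : ∀ W : S.affineOpens,
      ∃ a : ((q ⁻¹ᵁ (W : S.Opens) : Z.Opens) : Scheme.{u}) ⟶ G₂,
        a ≫ f₂ = (q ⁻¹ᵁ (W : S.Opens)).ι ≫ q ∧
        (((q ⁻¹ᵁ (W : S.Opens)).ι ≫ q) ⁻¹ᵁ U).ι ≫ a =
          rr (q ⁻¹ᵁ (W : S.Opens)).ι q ((q ⁻¹ᵁ (W : S.Opens)).ι ≫ q) rfl U ≫ ψ := by
    intro W
    refine ext_exists_local U hU f₂ ((q ⁻¹ᵁ (W : S.Opens)).ι ≫ q) (W : S.Opens) W.2 ?_ _ ?_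
    · intro z
      rw [Scheme.Hom.comp_apply]
      exact (Scheme.Hom.mem_preimage q).mp (ι_mem _ z)
    · rw [Category.assoc, hψ, ← Category.assoc, rr_ι, Category.assoc]
  choose a ha1 ha2 using hloc
  have compat : ∀ W W' : S.affineOpens,
      pullback.fst (q ⁻¹ᵁ (W : S.Opens)).ι (q ⁻¹ᵁ (W' : S.Opens)).ι ≫ a W =
      pullback.snd (q ⁻¹ᵁ (W : S.Opens)).ι (q ⁻¹ᵁ (W' : S.Opens)).ι ≫ a W' := by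
    intro W W'
    haveI : IsLocallyNoetherian (pullback (q ⁻¹ᵁ (W : S.Opens)).ι (q ⁻¹ᵁ (W' : S.Opens)).ι) :=
      isLocallyNoetherian_of_isOpenImmersion
        (pullback.fst (q ⁻¹ᵁ (W : S.Opens)).ι (q ⁻¹ᵁ (W' : S.Opens)).ι)
    exact compat_abs U hU f₂ q ψ (q ⁻¹ᵁ (W : S.Opens)).ι (q ⁻¹ᵁ (W' : S.Opens)).ι (a W) (a W')
      (ha1 W) (ha1 W') (ha2 W) (ha2 W')
      (pullback.fst (q ⁻¹ᵁ (W : S.Opens)).ι (q ⁻¹ᵁ (W' : S.Opens)).ι)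
      (pullback.snd (q ⁻¹ᵁ (W : S.Opens)).ι (q ⁻¹ᵁ (W' : S.Opens)).ι)
      pullback.condition
      (pullback.fst (q ⁻¹ᵁ (W : S.Opens)).ι (q ⁻¹ᵁ (W' : S.Opens)).ι ≫
        (q ⁻¹ᵁ (W : S.Opens)).ι ≫ q) rfl
  obtain ⟨φ, hφ⟩ : ∃ φ : Z ⟶ G₂, ∀ W : S.affineOpens, (q ⁻¹ᵁ (W : S.Opens)).ι ≫ φ = a W :=
    ⟨(Z.openCoverOfIsOpenCover _ (cover_preimage q)).glueMorphisms a compat,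
      fun W => Scheme.Cover.ι_glueMorphisms (Z.openCoverOfIsOpenCover _ (cover_preimage q))
        a compat W⟩
  refine ⟨φ, ?_, ?_⟩
  · refine (Z.openCoverOfIsOpenCover _ (cover_preimage q)).hom_ext _ _
      (fun (W : S.affineOpens) => ?_)
    show (q ⁻¹ᵁ (W : S.Opens)).ι ≫ φ ≫ f₂ = (q ⁻¹ᵁ (W : S.Opens)).ι ≫ q
    rw [← Category.assoc, hφ W]
    exact ha1 W
  · have hcov' : TopologicalSpace.IsOpenCover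
        (fun W : S.affineOpens => (q ⁻¹ᵁ U).ι ⁻¹ᵁ (q ⁻¹ᵁ (W : S.Opens))) := by
      apply TopologicalSpace.IsOpenCover.mk
      rw [← Scheme.Hom.preimage_iSup, (cover_preimage q).iSup_eq_top, Scheme.Hom.preimage_top]
    refine ((q ⁻¹ᵁ U).toScheme.openCoverOfIsOpenCover _ hcov').hom_ext _ _
      (fun (W : S.affineOpens) => ?_)
    show ((q ⁻¹ᵁ U).ι ⁻¹ᵁ (q ⁻¹ᵁ (W : S.Opens))).ι ≫ (q ⁻¹ᵁ U).ι ≫ φ =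
      ((q ⁻¹ᵁ U).ι ⁻¹ᵁ (q ⁻¹ᵁ (W : S.Opens))).ι ≫ ψ
    have hm : ∀ x, (((q ⁻¹ᵁ U).ι ⁻¹ᵁ (q ⁻¹ᵁ (W : S.Opens))).ι ≫ (q ⁻¹ᵁ U).ι) x ∈
        q ⁻¹ᵁ (W : S.Opens) := by
      intro x
      rw [Scheme.Hom.comp_apply]
      exact (Scheme.Hom.mem_preimage _).mp (ι_mem _ x)
    have hl := liftOpen_ι (q ⁻¹ᵁ (W : S.Opens)) _ hm
    have hψ2 : (((q ⁻¹ᵁ U).ι ≫ q) ⁻¹ᵁ U).ι ≫ ψ =
        rr (q ⁻¹ᵁ U).ι q ((q ⁻¹ᵁ U).ι ≫ q) rfl U ≫ ψ := by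
      have : rr (q ⁻¹ᵁ U).ι q ((q ⁻¹ᵁ U).ι ≫ q) rfl U = (((q ⁻¹ᵁ U).ι ≫ q) ⁻¹ᵁ U).ι :=
        (cancel_mono (q ⁻¹ᵁ U).ι).mp (rr_ι (q ⁻¹ᵁ U).ι q ((q ⁻¹ᵁ U).ι ≫ q) rfl U)
      rw [this]
    have key := compat_abs U hU f₂ q ψ (q ⁻¹ᵁ (W : S.Opens)).ι (q ⁻¹ᵁ U).ι (a W) ψ
      (ha1 W) hψ (ha2 W) hψ2
      (liftOpen (q ⁻¹ᵁ (W : S.Opens)) _ hm) ((q ⁻¹ᵁ U).ι ⁻¹ᵁ (q ⁻¹ᵁ (W : S.Opens))).ι hl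
      (((q ⁻¹ᵁ U).ι ⁻¹ᵁ (q ⁻¹ᵁ (W : S.Opens))).ι ≫ (q ⁻¹ᵁ U).ι ≫ q)
      (by rw [← Category.assoc, hl, Category.assoc])
    calc ((q ⁻¹ᵁ U).ι ⁻¹ᵁ (q ⁻¹ᵁ (W : S.Opens))).ι ≫ (q ⁻¹ᵁ U).ι ≫ φ
        = (((q ⁻¹ᵁ U).ι ⁻¹ᵁ (q ⁻¹ᵁ (W : S.Opens))).ι ≫ (q ⁻¹ᵁ U).ι) ≫ φ :=
          (Category.assoc _ _ _).symm
      _ = (liftOpen (q ⁻¹ᵁ (W : S.Opens)) _ hm ≫ (q ⁻¹ᵁ (W : S.Opens)).ι) ≫ φ := by rw [hl]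
      _ = liftOpen (q ⁻¹ᵁ (W : S.Opens)) _ hm ≫ a W := by rw [Category.assoc, hφ W]
      _ = ((q ⁻¹ᵁ U).ι ⁻¹ᵁ (q ⁻¹ᵁ (W : S.Opens))).ι ≫ ψ := key

end Ext

theorem main (S G₁ G₂ : Scheme.{u}) [AlgebraicGeometry.IsNoetherian S] (f₁ : G₁ ⟶ S) (f₂ : G₂ ⟶ S)
    [AlgebraicGeometry.IsFinite f₁] [AlgebraicGeometry.Flat f₁]
    [AlgebraicGeometry.IsFinite f₂]
    (U : S.Opens)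
    (hU : ∀ s : S, s ∉ U → (2 : ℕ∞) ≤ LocCoh.depth (S.presheaf.stalk s) (S.presheaf.stalk s))
    (φU : ((f₁ ⁻¹ᵁ U : G₁.Opens) : Scheme.{u}) ⟶ ((f₂ ⁻¹ᵁ U : G₂.Opens) : Scheme.{u}))
    (hφU : φU ≫ (f₂ ⁻¹ᵁ U).ι ≫ f₂ = (f₁ ⁻¹ᵁ U).ι ≫ f₁) :
    ∃! φ : G₁ ⟶ G₂, φ ≫ f₂ = f₁ ∧ (f₁ ⁻¹ᵁ U).ι ≫ φ = φU ≫ (f₂ ⁻¹ᵁ U).ι := by
  haveI : IsLocallyNoetherian G₁ := LocallyOfFiniteType.isLocallyNoetherian f₁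
  have hψ : (φU ≫ (f₂ ⁻¹ᵁ U).ι) ≫ f₂ = (f₁ ⁻¹ᵁ U).ι ≫ f₁ := by
    rw [Category.assoc]
    exact hφU
  obtain ⟨φ, h1, h2⟩ := ext_exists U hU f₂ f₁ (φU ≫ (f₂ ⁻¹ᵁ U).ι) hψ
  refine ⟨φ, ⟨h1, h2⟩, ?_⟩
  rintro φ' ⟨h1', h2'⟩
  exact ext_unique U hU f₂ f₁ φ' φ h1' h1 (h2'.trans h2.symm)

end Groth.Agent.Lib.FinFlatExtH4
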