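import Mathlib
import Groth.Prelude
import Groth.Agent.Lib.FinFlatExt_helper4

/-!
# Restriction of finite étale covers to an open with complement of depth `≥ 2` is fully faithful
(helper4)
-/

set_option autoImplicit false
set_option linter.unusedVariables false
set_option linter.unusedTactic false
set_option linter.unreachableTactic false
set_option linter.unusedSectionVars false
set_option linter.style.haveILetI false
set_option maxHeartbeats 800000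
set_option backward.isDefEq.respectTransparency false

universe u

open CategoryTheory AlgebraicGeometry Limits

namespace Groth.Agent.Lib.FEtRestrictFFH4

open Groth.Agent.Lib.FinFlatExtH4

section Pb

variable {X : Scheme.{u}} (U : X.Opens) {G : Scheme.{u}} (f : G ⟶ X)

theorem fst_mem (p : ↥(pullback f U.ι)) : (pullback.fst f U.ι) p ∈ f ⁻¹ᵁ U := by
  rw [Scheme.Hom.mem_preimage, ← Scheme.Hom.comp_apply, pullback.condition, Scheme.Hom.comp_apply]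
  exact ι_mem U _

theorem range_ι_le : Set.range (f ⁻¹ᵁ U).ι ⊆ Set.range (pullback.fst f U.ι) := by
  rw [Scheme.Opens.range_ι, Scheme.Pullback.range_fst, Scheme.Opens.range_ι]
  intro x hx
  exact hx

/-- the open subscheme `f⁻¹U` maps to the pullback -/
noncomputable def toPb : ((f ⁻¹ᵁ U : G.Opens) : Scheme.{u}) ⟶ pullback f U.ι :=
  IsOpenImmersion.lift (pullback.fst f U.ι) (f ⁻¹ᵁ U).ι (range_ι_le U f)

theorem toPb_fst : toPb U f ≫ pullback.fst f U.ι = (f ⁻¹ᵁ U).ι :=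
  IsOpenImmersion.lift_fac _ _ _

/-- the pullback maps to the open subscheme `f⁻¹U` -/
noncomputable def ofPb : pullback f U.ι ⟶ ((f ⁻¹ᵁ U : G.Opens) : Scheme.{u}) :=
  liftOpen (f ⁻¹ᵁ U) (pullback.fst f U.ι) (fst_mem U f)

theorem ofPb_ι : ofPb U f ≫ (f ⁻¹ᵁ U).ι = pullback.fst f U.ι := liftOpen_ι _ _ _

theorem ofPb_toPb : ofPb U f ≫ toPb U f = 𝟙 _ := by
  apply (cancel_mono (pullback.fst f U.ι)).mp
  rw [Category.assoc, toPb_fst, ofPb_ι, Category.id_comp]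

end Pb

theorem full_aux {X : Scheme.{u}} [IsLocallyNoetherian X] (U : X.Opens)
    (h : ∀ x : X, x ∉ U → (2 : ℕ∞) ≤ LocCoh.depth (X.presheaf.stalk x) (X.presheaf.stalk x))
    {A B : Scheme.{u}} (f₁ : A ⟶ X) (f₂ : B ⟶ X) [IsFinite f₁] [Flat f₁] [IsAffineHom f₂]
    (ψ : pullback f₁ U.ι ⟶ pullback f₂ U.ι)
    (hψw : ψ ≫ pullback.snd f₂ U.ι = pullback.snd f₁ U.ι) :
    ∃ a : A ⟶ B, a ≫ f₂ = f₁ ∧ pullback.fst f₁ U.ι ≫ a = ψ ≫ pullback.fst f₂ U.ι := by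
  haveI : IsLocallyNoetherian A := LocallyOfFiniteType.isLocallyNoetherian f₁
  have hcond : (toPb U f₁ ≫ ψ ≫ pullback.fst f₂ U.ι) ≫ f₂ = (f₁ ⁻¹ᵁ U).ι ≫ f₁ := by
    calc (toPb U f₁ ≫ ψ ≫ pullback.fst f₂ U.ι) ≫ f₂
        = toPb U f₁ ≫ ψ ≫ (pullback.fst f₂ U.ι ≫ f₂) := by
          simp only [Category.assoc]
      _ = toPb U f₁ ≫ ψ ≫ (pullback.snd f₂ U.ι ≫ U.ι) := by
          rw [pullback.condition]
      _ = toPb U f₁ ≫ (ψ ≫ pullback.snd f₂ U.ι) ≫ U.ι := by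
          simp only [Category.assoc]
      _ = toPb U f₁ ≫ pullback.snd f₁ U.ι ≫ U.ι := by rw [hψw]
      _ = toPb U f₁ ≫ pullback.fst f₁ U.ι ≫ f₁ := by rw [pullback.condition]
      _ = (toPb U f₁ ≫ pullback.fst f₁ U.ι) ≫ f₁ := (Category.assoc _ _ _).symm
      _ = (f₁ ⁻¹ᵁ U).ι ≫ f₁ := by rw [toPb_fst]
  obtain ⟨a, ha1, ha2⟩ := ext_exists U h f₂ f₁ _ hcond
  refine ⟨a, ha1, ?_⟩
  calc pullback.fst f₁ U.ι ≫ a
      = (ofPb U f₁ ≫ (f₁ ⁻¹ᵁ U).ι) ≫ a := by rw [ofPb_ι]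
    _ = ofPb U f₁ ≫ (f₁ ⁻¹ᵁ U).ι ≫ a := Category.assoc _ _ _
    _ = ofPb U f₁ ≫ toPb U f₁ ≫ ψ ≫ pullback.fst f₂ U.ι := by rw [ha2]
    _ = (ofPb U f₁ ≫ toPb U f₁) ≫ ψ ≫ pullback.fst f₂ U.ι :=
        (Category.assoc _ _ _).symm
    _ = ψ ≫ pullback.fst f₂ U.ι := by rw [ofPb_toPb, Category.id_comp]

theorem faithful_aux {X : Scheme.{u}} [IsLocallyNoetherian X] (U : X.Opens)
    (h : ∀ x : X, x ∉ U → (2 : ℕ∞) ≤ LocCoh.depth (X.presheaf.stalk x) (X.presheaf.stalk x))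
    {A B : Scheme.{u}} (f₁ : A ⟶ X) (f₂ : B ⟶ X) [IsFinite f₁] [Flat f₁] [IsAffineHom f₂]
    (a b : A ⟶ B) (ha : a ≫ f₂ = f₁) (hb : b ≫ f₂ = f₁)
    (e3 : pullback.fst f₁ U.ι ≫ a = pullback.fst f₁ U.ι ≫ b) : a = b := by
  haveI : IsLocallyNoetherian A := LocallyOfFiniteType.isLocallyNoetherian f₁
  refine ext_unique U h f₂ f₁ a b ha hb ?_
  calc (f₁ ⁻¹ᵁ U).ι ≫ a
      = (toPb U f₁ ≫ pullback.fst f₁ U.ι) ≫ a := by rw [toPb_fst]
    _ = toPb U f₁ ≫ pullback.fst f₁ U.ι ≫ a := Category.assoc _ _ _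
    _ = toPb U f₁ ≫ pullback.fst f₁ U.ι ≫ b := by rw [e3]
    _ = (toPb U f₁ ≫ pullback.fst f₁ U.ι) ≫ b := (Category.assoc _ _ _).symm
    _ = (f₁ ⁻¹ᵁ U).ι ≫ b := by rw [toPb_fst]

theorem main {X : Scheme.{u}} [IsLocallyNoetherian X] (U : X.Opens)
    (h : ∀ x : X, x ∉ U → (2 : ℕ∞) ≤ LocCoh.depth (X.presheaf.stalk x) (X.presheaf.stalk x)) :
    (FEt.restrict U.ι).Full ∧ (FEt.restrict U.ι).Faithful := by
  have hleft : ∀ (G₁ G₂ : FEt.Cat X) (φ : G₁ ⟶ G₂),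
      ((FEt.restrict U.ι).map φ).left ≫ pullback.fst G₂.hom U.ι =
        pullback.fst G₁.hom U.ι ≫ φ.left := by
    intro G₁ G₂ φ
    have e := MorphismProperty.Over.pullback_map_left FEt.prop ⊤ U.ι φ
    show ((MorphismProperty.Over.pullback FEt.prop ⊤ U.ι).map φ).left ≫
      pullback.fst G₂.hom U.ι = pullback.fst G₁.hom U.ι ≫ φ.left
    rw [e, pullback.lift_fst]
  constructor
  · refine ⟨fun {G₁ G₂} ψ => ?_⟩
    haveI : IsFinite G₁.hom := G₁.prop.1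
    haveI : Etale G₁.hom := G₁.prop.2
    haveI : IsFinite G₂.hom := G₂.prop.1
    have hψw : ψ.left ≫ pullback.snd G₂.hom U.ι = pullback.snd G₁.hom U.ι :=
      MorphismProperty.Over.w ψ
    obtain ⟨a, ha1, ha2⟩ := full_aux U h G₁.hom G₂.hom ψ.left hψw
    refine ⟨MorphismProperty.Over.homMk a ha1 trivial, ?_⟩
    apply MorphismProperty.Over.Hom.ext
    show ((FEt.restrict U.ι).map (MorphismProperty.Over.homMk a ha1 trivial)).left = ψ.left
    refine pullback.hom_ext (f := G₂.hom) (g := U.ι) ?_ ?_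
    · rw [hleft]
      exact ha2
    · have h1 := MorphismProperty.Over.w
        ((FEt.restrict U.ι).map (MorphismProperty.Over.homMk a ha1 trivial : G₁ ⟶ G₂))
      exact h1.trans hψw.symm
  · refine ⟨fun {G₁ G₂} φ₁ φ₂ hφ => ?_⟩
    haveI : IsFinite G₁.hom := G₁.prop.1
    haveI : Etale G₁.hom := G₁.prop.2
    haveI : IsFinite G₂.hom := G₂.prop.1
    apply MorphismProperty.Over.Hom.ext
    have e1 := hleft G₁ G₂ φ₁
    have e2 := hleft G₁ G₂ φ₂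
    rw [hφ] at e1
    exact faithful_aux U h G₁.hom G₂.hom φ₁.left φ₂.left (MorphismProperty.Over.w φ₁)
      (MorphismProperty.Over.w φ₂) (e1.symm.trans e2)

end Groth.Agent.Lib.FEtRestrictFFH4
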