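import Mathlib
import Groth.Prelude
import Groth.Agent.Lib.FEtRestrictFF_helper4

set_option autoImplicit false
set_option linter.unusedVariables false
set_option linter.unusedSectionVars false
set_option linter.style.haveILetI false
set_option maxHeartbeats 800000
set_option backward.isDefEq.respectTransparency false
universe u
open AlgebraicGeometry CategoryTheory CategoryTheory.Limits Pi1
open Groth.Agent.Lib.FEtRestrictFFH4 Groth.Agent.Lib.FinFlatExtH4

namespace Groth.Agent.Lib.FEtGammaH4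

theorem isIso_fst_appTop {X : Scheme.{u}} [IsLocallyNoetherian X] (U : X.Opens)
    (h : ∀ x : X, x ∉ U → (2 : ℕ∞) ≤ LocCoh.depth (X.presheaf.stalk x) (X.presheaf.stalk x))
    {Yl : Scheme.{u}} (g : Yl ⟶ X) [IsFinite g] [Flat g] :
    IsIso (pullback.fst g U.ι).appTop := by
  haveI : IsLocallyNoetherian Yl := LocallyOfFiniteType.isLocallyNoetherian g
  have hfac : pullback.fst g U.ι = ofPb U g ≫ (g ⁻¹ᵁ U).ι := (ofPb_ι U g).symm
  have hinv : toPb U g ≫ ofPb U g = 𝟙 _ := by
    apply (cancel_mono (g ⁻¹ᵁ U).ι).mp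
    rw [Category.assoc, ofPb_ι, toPb_fst, Category.id_comp]
  haveI : IsIso (ofPb U g) := ⟨toPb U g, ofPb_toPb U g, hinv⟩
  have hdepth : ∀ y : Yl, y ∉ (g ⁻¹ᵁ U).ι ''ᵁ ⊤ →
      (2 : ℕ∞) ≤ LocCoh.depth (Yl.presheaf.stalk y) (Yl.presheaf.stalk y) := by
    intro y hy
    rw [Scheme.Opens.ι_image_top] at hy
    exact le_trans (h (g y) (fun hh => hy ((Scheme.Hom.mem_preimage g).mpr hh)))
      (Groth.Agent.InvHartogs.depth_stalk_le_of_flat g y)
  have hb1 : Function.Bijective (g ⁻¹ᵁ U).ι.appTop := by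
    rw [Scheme.Opens.ι_appTop]
    exact Groth.Agent.HartogsRing.bijective_res _ hdepth ⊤ le_top
  haveI : IsIso (g ⁻¹ᵁ U).ι.appTop := (ConcreteCategory.isIso_iff_bijective _).mpr hb1
  rw [hfac, Scheme.Hom.comp_appTop]
  infer_instance

theorem gamma_finite_etale {X : Scheme.{u}} [IsAffine X] [IsLocallyNoetherian X] (U : X.Opens)
    (h : ∀ x : X, x ∉ U → (2 : ℕ∞) ≤ LocCoh.depth (X.presheaf.stalk x) (X.presheaf.stalk x))
    {Yl Vl : Scheme.{u}} (g : Yl ⟶ X) [IsFinite g] [Etale g] (v : Vl ⟶ (U : Scheme.{u}))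
    (e : pullback g U.ι ⟶ Vl) [IsIso e] (he : e ≫ v = pullback.snd g U.ι)
    {R : CommRingCat.{u}} (r : R ⟶ Γ(X, ⊤)) [IsIso r] :
    (r ≫ (v ≫ U.ι).appTop).hom.Finite ∧ (r ≫ (v ≫ U.ι).appTop).hom.Etale := by
  haveI : IsAffine Yl := isAffine_of_isAffineHom g
  haveI : IsIso (pullback.fst g U.ι).appTop := isIso_fst_appTop U h g
  have hfin : g.appTop.hom.Finite := Scheme.Hom.finite_appTop g
  have het : g.appTop.hom.Etale :=
    (HasRingHomProperty.iff_of_isAffine (P := @Etale)).mp inferInstance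
  have key : (v ≫ U.ι).appTop ≫ e.appTop = g.appTop ≫ (pullback.fst g U.ι).appTop := by
    rw [← Scheme.Hom.comp_appTop, ← Scheme.Hom.comp_appTop]
    congr 1
    calc e ≫ v ≫ U.ι = (e ≫ v) ≫ U.ι := (Category.assoc _ _ _).symm
      _ = pullback.snd g U.ι ≫ U.ι := by rw [he]
      _ = pullback.fst g U.ι ≫ g := pullback.condition.symm
  have key2 : r ≫ (v ≫ U.ι).appTop =
      ((r ≫ g.appTop) ≫ (pullback.fst g U.ι).appTop) ≫ inv e.appTop := by
    rw [IsIso.eq_comp_inv, Category.assoc, key, Category.assoc]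
  rw [key2]
  constructor
  · rw [CommRingCat.hom_comp, RingHom.finite_respectsIso.cancel_right_isIso,
      CommRingCat.hom_comp, RingHom.finite_respectsIso.cancel_right_isIso,
      CommRingCat.hom_comp, RingHom.finite_respectsIso.cancel_left_isIso]
    exact hfin
  · rw [CommRingCat.hom_comp, RingHom.Etale.respectsIso.cancel_right_isIso,
      CommRingCat.hom_comp, RingHom.Etale.respectsIso.cancel_right_isIso,
      CommRingCat.hom_comp, RingHom.Etale.respectsIso.cancel_left_isIso]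
    exact het

end Groth.Agent.Lib.FEtGammaH4
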