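import Mathlib
import Groth.Prelude.Def_FSch3
import Groth.Agent.Lib.FEtLef1_helper5
import Groth.Agent.Lib.LefConn1_helper5

/-! Ring-level Lefschetz condition for finite (affine) covers from full faithfulness of completion
(helper5). APPEND-ONLY once landed. -/

set_option autoImplicit false
universe u
open CategoryTheory AlgebraicGeometry Opposite TopologicalSpace
open AlgebraicGeometry.Scheme.Modules

namespace Groth.Agent.Lib.FEtLef


section Gen
variable {X Y : Scheme.{u}} (f : X ⟶ Y)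

/-- View a function as a section of the structure module. -/
def toU {Z : Scheme.{u}} {U : Z.Opens} (a : Γ(Z, U)) : Γ(Coh.structureModule Z, U) := a

/-- View a section of the structure module as a function. -/
def ofU {Z : Scheme.{u}} {U : Z.Opens} (a : Γ(Coh.structureModule Z, U)) : Γ(Z, U) := a

/-- The canonical generator of `f^* O_Y` over `⊤`. -/
noncomputable def gen : Γ((Scheme.Modules.pullback f).obj (Coh.structureModule Y), ⊤) :=
  PBH8.cUV f (Coh.structureModule Y) (V := ⊤)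
    (show (⊤ : X.Opens) ≤ f ⁻¹ᵁ ⊤ from le_refl _) (toU (1 : Γ(Y, ⊤)))

lemma unitIso_gen : (PBH8.pullbackUnitIso f).hom.app ⊤ (gen f) = toU (1 : Γ(X, ⊤)) := by
  unfold gen
  have := pullbackUnitIso_cUV f (V := ⊤) (show (⊤ : X.Opens) ≤ f ⁻¹ᵁ ⊤ from le_refl _)
    (1 : Γ(Y, ⊤))
  refine this.trans ?_
  exact map_one (f.appLE ⊤ ⊤ (show (⊤ : X.Opens) ≤ f ⁻¹ᵁ ⊤ from le_refl _)).hom

lemma unitIso_inv_one : (PBH8.pullbackUnitIso f).inv.app ⊤ (toU (1 : Γ(X, ⊤))) = gen f := by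
  rw [← unitIso_gen f]
  have h4 : (PBH8.pullbackUnitIso f).hom ≫ (PBH8.pullbackUnitIso f).inv = 𝟙 _ :=
    Iso.hom_inv_id _
  exact congrArg (fun ψ => (Scheme.Modules.Hom.app ψ ⊤) (gen f)) h4

lemma ev_eq {M : X.Modules} (ψ : Coh.structureModule X ⟶ M) :
    LefConn.ev ψ = ψ.app ⊤ (toU (1 : Γ(X, ⊤))) := rfl

theorem hom_ext_gen {M : X.Modules}
    (α β : (Scheme.Modules.pullback f).obj (Coh.structureModule Y) ⟶ M)
    (h : α.app ⊤ (gen f) = β.app ⊤ (gen f)) : α = β := by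
  rw [← cancel_epi (PBH8.pullbackUnitIso f).inv]
  apply LefConn.hom_ext_ev
  rw [ev_eq, ev_eq]
  show α.app ⊤ ((PBH8.pullbackUnitIso f).inv.app ⊤ (toU (1 : Γ(X, ⊤)))) =
    β.app ⊤ ((PBH8.pullbackUnitIso f).inv.app ⊤ (toU (1 : Γ(X, ⊤))))
  rw [unitIso_inv_one]
  exact h

end Gen



end Groth.Agent.Lib.FEtLef
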