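import Mathlib
import Groth.Agent.Lib.FEtLef2_helper5
import Groth.Agent.Lib.SerreCrit1_helper9

/-! The tower of base changes of an affine morphism along the infinitesimal neighbourhoods, and
the base change isomorphisms (helper5). APPEND-ONLY once landed. -/

set_option autoImplicit false
universe u
open CategoryTheory AlgebraicGeometry Opposite TopologicalSpace
open AlgebraicGeometry.Scheme.Modules

namespace Groth.Agent.Lib.FEtLef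

section Tower
variable {X W : Scheme.{u}} (𝓘 : X.IdealSheafData) (π : W ⟶ X)

set_option quotPrecheck false

local notation "Yn(" n ")" => (FSch.completionAlong X 𝓘).X n
local notation "ιn(" n ")" => FSch.completionToX X 𝓘 n
local notation "trn(" n ")" => (FSch.completionAlong X 𝓘).ι n

lemma trn_ιn (n : ℕ) : trn(n) ≫ ιn(n + 1) = ιn(n) :=
  Scheme.IdealSheafData.inclusion_subschemeι _

local notation "Wn(" n ")" => Limits.pullback π (FSch.completionToX X 𝓘 n)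
local notation "pn(" n ")" => Limits.pullback.fst π (FSch.completionToX X 𝓘 n)
local notation "qn(" n ")" => Limits.pullback.snd π (FSch.completionToX X 𝓘 n)

noncomputable def trn' (n : ℕ) : Wn(n) ⟶ Wn(n + 1) :=
  Limits.pullback.lift (pn(n)) (qn(n) ≫ trn(n)) (by
    rw [Category.assoc, trn_ιn]; exact Limits.pullback.condition)

lemma trn'_pn (n : ℕ) : trn' 𝓘 π n ≫ pn(n + 1) = pn(n) :=
  Limits.pullback.lift_fst _ _ _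

lemma trn'_qn (n : ℕ) : trn' 𝓘 π n ≫ qn(n + 1) = qn(n) ≫ trn(n) :=
  Limits.pullback.lift_snd _ _ _

lemma hcn (n : ℕ) : IsPullback (pn(n)) (qn(n)) π (ιn(n)) :=
  IsPullback.of_hasPullback _ _

lemma hsq (n : ℕ) : IsPullback (trn' 𝓘 π n) (qn(n)) (qn(n + 1)) (trn(n)) := by
  refine IsPullback.of_right ?_ (trn'_qn 𝓘 π n) (hcn 𝓘 π (n + 1))
  rw [trn'_pn, trn_ιn]
  exact hcn 𝓘 π n

/-- The direct image of the structure sheaf. -/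
noncomputable abbrev GG : X.Modules :=
  (Scheme.Modules.pushforward π).obj (Coh.structureModule W)

/-- View a function on `π⁻¹ V` as a section of `π_* O_W` over `V`. -/
def toG {V : X.Opens} (s : Γ(W, π ⁻¹ᵁ V)) : Γ(GG π, V) := s

/-- The base change isomorphism `ι_n^* π_* O_W ≅ q_{n*} O_{W_n}`. -/
noncomputable def θ (n : ℕ) : (Scheme.Modules.pullback (ιn(n))).obj (GG π) ⟶
    (Scheme.Modules.pushforward (qn(n))).obj (Coh.structureModule (Wn(n))) :=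
  AffBCH8.bc (hcn 𝓘 π n) (Coh.structureModule W) ≫
    (Scheme.Modules.pushforward (qn(n))).map (PBH8.pullbackUnitIso (pn(n))).hom

lemma θ_cUV (n : ℕ) {V : X.Opens} {U : (Yn(n)).Opens} (h : U ≤ (ιn(n)) ⁻¹ᵁ V)
    (s : Γ(W, π ⁻¹ᵁ V)) (h' : (qn(n)) ⁻¹ᵁ U ≤ (pn(n)) ⁻¹ᵁ (π ⁻¹ᵁ V)) :
    (θ 𝓘 π n).app U (PBH8.cUV (ιn(n)) (GG π) h (toG π s)) =
      toU (((pn(n)).appLE (π ⁻¹ᵁ V) ((qn(n)) ⁻¹ᵁ U) h').hom s) := by
  unfold θ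
  rw [Scheme.Modules.Hom.comp_app]
  have h1 := AffBCH8.bc_cUV (hcn 𝓘 π n) (Coh.structureModule W) h (toU s) h'
  have h2 := pullbackUnitIso_cUV (pn(n)) h' s
  show (PBH8.pullbackUnitIso (pn(n))).hom.app ((qn(n)) ⁻¹ᵁ U)
    ((AffBCH8.bc (hcn 𝓘 π n) (Coh.structureModule W)).app U
      (PBH8.cUV (ιn(n)) (GG π) h (toG π s))) = _
  rw [show toG π s = toU s from rfl, h1]
  exact h2

instance θ_isIso [IsAffineHom π] (n : ℕ) : IsIso (θ 𝓘 π n) := by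
  haveI : (Coh.structureModule W).IsQuasicoherent := SerreCrit.isQuasicoherent_OO
  haveI := AffBCH8.bc_isIso (hcn 𝓘 π n) (Coh.structureModule W)
  unfold θ
  infer_instance

/-- View a function on `q_n⁻¹ U` as a section of `q_{n*} O` over `U`. -/
def toQ (n : ℕ) {U : (Yn(n)).Opens} (m : Γ(Wn(n), (qn(n)) ⁻¹ᵁ U)) :
    Γ((Scheme.Modules.pushforward (qn(n))).obj (Coh.structureModule (Wn(n))), U) := m

/-- The transition morphism on the direct images of the structure sheaves. -/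
noncomputable def E' (n : ℕ) : (Scheme.Modules.pullback (trn(n))).obj
      ((Scheme.Modules.pushforward (qn(n + 1))).obj (Coh.structureModule (Wn(n + 1)))) ⟶
    (Scheme.Modules.pushforward (qn(n))).obj (Coh.structureModule (Wn(n))) :=
  AffBCH8.bc (hsq 𝓘 π n) (Coh.structureModule (Wn(n + 1))) ≫
    (Scheme.Modules.pushforward (qn(n))).map (PBH8.pullbackUnitIso (trn' 𝓘 π n)).hom

lemma E'_cUV (n : ℕ) {U' : (Yn(n + 1)).Opens} {U : (Yn(n)).Opens}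
    (h : U ≤ (trn(n)) ⁻¹ᵁ U') (m : Γ(Wn(n + 1), (qn(n + 1)) ⁻¹ᵁ U'))
    (h' : (qn(n)) ⁻¹ᵁ U ≤ (trn' 𝓘 π n) ⁻¹ᵁ ((qn(n + 1)) ⁻¹ᵁ U')) :
    (E' 𝓘 π n).app U (PBH8.cUV (trn(n)) _ h (toQ 𝓘 π (n + 1) m)) =
      toU (((trn' 𝓘 π n).appLE ((qn(n + 1)) ⁻¹ᵁ U') ((qn(n)) ⁻¹ᵁ U) h').hom m) := by
  unfold E'
  rw [Scheme.Modules.Hom.comp_app]
  have h1 := AffBCH8.bc_cUV (hsq 𝓘 π n) (Coh.structureModule (Wn(n + 1))) h (toU m) h'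
  have h2 := pullbackUnitIso_cUV (trn' 𝓘 π n) h' m
  show (PBH8.pullbackUnitIso (trn' 𝓘 π n)).hom.app ((qn(n)) ⁻¹ᵁ U)
    ((AffBCH8.bc (hsq 𝓘 π n) (Coh.structureModule (Wn(n + 1)))).app U
      (PBH8.cUV (trn(n)) _ h (toQ 𝓘 π (n + 1) m))) = _
  rw [show toQ 𝓘 π (n + 1) m = toU m from rfl, h1]
  exact h2

lemma complMod_e_hom (F : X.Modules) (n : ℕ) : ((FSch.complMod 𝓘 F).e n).hom =
    (FSch.complTransIso 𝓘 n).hom.app F := by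
  rw [FSch.complMod_e, Iso.app_hom]

lemma complTransIso_eq (n : ℕ) : FSch.complTransIso 𝓘 n =
    pullbackComp (trn(n)) (ιn(n + 1)) ≪≫ pullbackCongr (trn_ιn 𝓘 n) := rfl

lemma appLE_of_eq {A B : Scheme.{u}} {f g : A ⟶ B} (e : f = g) {V : B.Opens} {U : A.Opens}
    (h : U ≤ f ⁻¹ᵁ V) (h' : U ≤ g ⁻¹ᵁ V) : f.appLE V U h = g.appLE V U h' := by
  subst e; rfl

/-- Compatibility of the base change isomorphisms with the transition isomorphisms. -/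
theorem compat (n : ℕ) :
    (Scheme.Modules.pullback (trn(n))).map (θ 𝓘 π (n + 1)) ≫ E' 𝓘 π n =
      (FSch.complTransIso 𝓘 n).hom.app (GG π) ≫ θ 𝓘 π n := by
  refine hom_ext_cUV2 (trn(n)) (ιn(n + 1)) _ _ fun V s => ?_
  have hA : (qn(n + 1)) ⁻¹ᵁ ((ιn(n + 1)) ⁻¹ᵁ V) ≤ (pn(n + 1)) ⁻¹ᵁ (π ⁻¹ᵁ V) := by
    intro x hx
    show π ((pn(n + 1)) x) ∈ V
    have : π ((pn(n + 1)) x) = (ιn(n + 1)) ((qn(n + 1)) x) := by
      rw [← Scheme.Hom.comp_apply, ← Scheme.Hom.comp_apply, (hcn 𝓘 π (n + 1)).w]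
    rw [this]; exact hx
  have hB : (qn(n)) ⁻¹ᵁ ((trn(n)) ⁻¹ᵁ ((ιn(n + 1)) ⁻¹ᵁ V)) ≤
      (trn' 𝓘 π n) ⁻¹ᵁ ((qn(n + 1)) ⁻¹ᵁ ((ιn(n + 1)) ⁻¹ᵁ V)) := by
    intro x hx
    show (ιn(n + 1)) ((qn(n + 1)) ((trn' 𝓘 π n) x)) ∈ V
    have : (qn(n + 1)) ((trn' 𝓘 π n) x) = (trn(n)) ((qn(n)) x) := by
      rw [← Scheme.Hom.comp_apply, ← Scheme.Hom.comp_apply, trn'_qn]
    rw [this]; exact hx
  have hC : (trn(n)) ⁻¹ᵁ ((ιn(n + 1)) ⁻¹ᵁ V) ≤ (ιn(n)) ⁻¹ᵁ V := by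
    intro x hx
    show (ιn(n)) x ∈ V
    rw [← trn_ιn 𝓘 n, Scheme.Hom.comp_apply]; exact hx
  have hD : (qn(n)) ⁻¹ᵁ ((trn(n)) ⁻¹ᵁ ((ιn(n + 1)) ⁻¹ᵁ V)) ≤
      (pn(n)) ⁻¹ᵁ (π ⁻¹ᵁ V) := by
    intro x hx
    show π ((pn(n)) x) ∈ V
    have : π ((pn(n)) x) = (ιn(n)) ((qn(n)) x) := by
      rw [← Scheme.Hom.comp_apply, ← Scheme.Hom.comp_apply, (hcn 𝓘 π n).w]
    rw [this]; exact hC hx
  -- left hand side
  have l1 := PBH8.cUV_naturality (trn(n)) (θ 𝓘 π (n + 1))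
    (le_refl ((trn(n)) ⁻¹ᵁ ((ιn(n + 1)) ⁻¹ᵁ V)))
    (PBH8.cUV (ιn(n + 1)) (GG π) (le_refl ((ιn(n + 1)) ⁻¹ᵁ V)) s)
  have l2 := θ_cUV 𝓘 π (n + 1) (le_refl ((ιn(n + 1)) ⁻¹ᵁ V)) (ofU s) hA
  have l3 := E'_cUV 𝓘 π n (le_refl ((trn(n)) ⁻¹ᵁ ((ιn(n + 1)) ⁻¹ᵁ V)))
    (((pn(n + 1)).appLE (π ⁻¹ᵁ V) ((qn(n + 1)) ⁻¹ᵁ ((ιn(n + 1)) ⁻¹ᵁ V)) hA).hom
      (ofU s)) hB
  -- right hand side
  have r1 := pbIso_cUV (trn(n)) (ιn(n + 1)) (ιn(n)) (trn_ιn 𝓘 n) (GG π)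
    (le_refl ((trn(n)) ⁻¹ᵁ ((ιn(n + 1)) ⁻¹ᵁ V))) hC s
  have r2 := θ_cUV 𝓘 π n hC (ofU s) hD
  rw [show toG π (ofU s) = s from rfl] at l2 r2
  rw [l2] at l1
  have L : ((Scheme.Modules.pullback (trn(n))).map (θ 𝓘 π (n + 1)) ≫ E' 𝓘 π n).app
      ((trn(n)) ⁻¹ᵁ ((ιn(n + 1)) ⁻¹ᵁ V))
      (PBH8.cUV (trn(n)) _ (le_refl ((trn(n)) ⁻¹ᵁ ((ιn(n + 1)) ⁻¹ᵁ V)))
        (PBH8.cUV (ιn(n + 1)) (GG π) (le_refl ((ιn(n + 1)) ⁻¹ᵁ V)) s)) =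
      toU (((trn' 𝓘 π n).appLE _ _ hB).hom
        (((pn(n + 1)).appLE (π ⁻¹ᵁ V) _ hA).hom (ofU s))) :=
    (congrArg ((E' 𝓘 π n).app _) l1).trans l3
  have R : ((FSch.complTransIso 𝓘 n).hom.app (GG π) ≫ θ 𝓘 π n).app
      ((trn(n)) ⁻¹ᵁ ((ιn(n + 1)) ⁻¹ᵁ V))
      (PBH8.cUV (trn(n)) ((Scheme.Modules.pullback (ιn(n + 1))).obj (GG π))
        (le_refl ((trn(n)) ⁻¹ᵁ ((ιn(n + 1)) ⁻¹ᵁ V)))
        (PBH8.cUV (ιn(n + 1)) (GG π) (le_refl ((ιn(n + 1)) ⁻¹ᵁ V)) s)) =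
      toU (((pn(n)).appLE (π ⁻¹ᵁ V) _ hD).hom (ofU s)) := by
    rw [complTransIso_eq, Scheme.Modules.Hom.comp_app, ConcreteCategory.comp_apply]
    have r1' := congrArg (fun y => (ConcreteCategory.hom
      ((θ 𝓘 π n).app ((trn(n)) ⁻¹ᵁ ((ιn(n + 1)) ⁻¹ᵁ V)))) y) r1
    have r3 := r1'.trans r2
    exact r3
  refine L.trans (Eq.trans ?_ R.symm)
  refine congrArg toU ?_
  have h5 := Scheme.Hom.appLE_comp_appLE (trn' 𝓘 π n) (pn(n + 1)) _ _ _ hA hB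
  have h6 := congrArg (fun φ => φ.hom (ofU s)) h5
  refine h6.trans ?_
  exact congrArg (fun φ => φ.hom (ofU s)) (appLE_of_eq (trn'_pn 𝓘 π n) _ hD)


/-- View a section of `q_{n*} O` over `U` as a function on `q_n⁻¹ U`. -/
def ofQ (n : ℕ) {U : (Yn(n)).Opens}
    (m : Γ((Scheme.Modules.pushforward (qn(n))).obj (Coh.structureModule (Wn(n))), U)) :
    Γ(Wn(n), (qn(n)) ⁻¹ᵁ U) := m

lemma appLE_top_top {A B : Scheme.{u}} (f : A ⟶ B) (h : (⊤ : A.Opens) ≤ f ⁻¹ᵁ ⊤) :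
    f.appLE ⊤ ⊤ h = f.appTop := by
  simp [Scheme.Hom.appLE, Scheme.Hom.appTop]

lemma comp_app_apply {Z : Scheme.{u}} {M N K : Z.Modules} (φ : M ⟶ N) (ψ : N ⟶ K) (U : Z.Opens)
    (z : Γ(M, U)) : (φ ≫ ψ).app U z = ψ.app U (φ.app U z) := rfl

/-- Transition of general global sections under the base change isomorphisms. -/
lemma θ_trans (n : ℕ) (t : Γ((Scheme.Modules.pullback (ιn(n + 1))).obj (GG π), ⊤))
    (hT : (⊤ : (Yn(n)).Opens) ≤ (trn(n)) ⁻¹ᵁ ⊤)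
    (hB : (qn(n)) ⁻¹ᵁ (⊤ : (Yn(n)).Opens) ≤ (trn' 𝓘 π n) ⁻¹ᵁ ((qn(n + 1)) ⁻¹ᵁ ⊤)) :
    (θ 𝓘 π n).app ⊤
      (((FSch.complTransIso 𝓘 n).hom.app (GG π)).app ⊤
        (PBH8.cUV (trn(n)) ((Scheme.Modules.pullback (ιn(n + 1))).obj (GG π)) (V := ⊤) hT t)) =
      toU (((trn' 𝓘 π n).appLE ((qn(n + 1)) ⁻¹ᵁ ⊤) ((qn(n)) ⁻¹ᵁ ⊤) hB).hom
        (ofQ 𝓘 π (n + 1) ((θ 𝓘 π (n + 1)).app ⊤ t))) := by
  have h0 := congrArg (fun ψ => (Scheme.Modules.Hom.app ψ ⊤)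
    (PBH8.cUV (trn(n)) ((Scheme.Modules.pullback (ιn(n + 1))).obj (GG π)) (V := ⊤) hT t))
    (compat 𝓘 π n)
  have h1 := PBH8.cUV_naturality (trn(n)) (θ 𝓘 π (n + 1)) (V := ⊤) hT t
  have h2 := E'_cUV 𝓘 π n (U' := ⊤) (U := ⊤) hT
    (ofQ 𝓘 π (n + 1) ((θ 𝓘 π (n + 1)).app ⊤ t)) hB
  have h3 : (E' 𝓘 π n).app ⊤ (((Scheme.Modules.pullback (trn(n))).map (θ 𝓘 π (n + 1))).app ⊤
      (PBH8.cUV (trn(n)) ((Scheme.Modules.pullback (ιn(n + 1))).obj (GG π)) (V := ⊤) hT t)) =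
      toU (((trn' 𝓘 π n).appLE ((qn(n + 1)) ⁻¹ᵁ ⊤) ((qn(n)) ⁻¹ᵁ ⊤) hB).hom
        (ofQ 𝓘 π (n + 1) ((θ 𝓘 π (n + 1)).app ⊤ t))) :=
    (congrArg (fun y => (ConcreteCategory.hom ((E' 𝓘 π n).app ⊤)) y) h1).trans h2
  have e1 := comp_app_apply ((FSch.complTransIso 𝓘 n).hom.app (GG π)) (θ 𝓘 π n) ⊤
    (PBH8.cUV (trn(n)) ((Scheme.Modules.pullback (ιn(n + 1))).obj (GG π)) (V := ⊤) hT t)
  have e2 := comp_app_apply ((Scheme.Modules.pullback (trn(n))).map (θ 𝓘 π (n + 1))) (E' 𝓘 π n) ⊤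
    (PBH8.cUV (trn(n)) ((Scheme.Modules.pullback (ιn(n + 1))).obj (GG π)) (V := ⊤) hT t)
  have e3 := h0.symm.trans (e2.trans h3)
  exact e1.symm.trans e3

end Tower

end Groth.Agent.Lib.FEtLef
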