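import Mathlib
import Groth.Agent.Lib.FEtLef3_helper5

/-! Ring-level consequences of full faithfulness of the completion functor, for the direct image
of the structure sheaf of an affine morphism (helper5). APPEND-ONLY once landed. -/

set_option autoImplicit false
universe u
open CategoryTheory AlgebraicGeometry Opposite TopologicalSpace
open AlgebraicGeometry.Scheme.Modules

namespace Groth.Agent.Lib.FEtLef

section Casts

variable {A B : Scheme.{u}} (f : A ⟶ B)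

/-- Cast a global function to a function on `f⁻¹ ⊤`. -/
def topCast (x : Γ(A, ⊤)) : Γ(A, f ⁻¹ᵁ ⊤) := x

/-- Cast a function on `f⁻¹ ⊤` to a global function. -/
def untop (x : Γ(A, f ⁻¹ᵁ ⊤)) : Γ(A, ⊤) := x

lemma untop_topCast (x : Γ(A, ⊤)) : untop f (topCast f x) = x := rfl

lemma topCast_untop (x : Γ(A, f ⁻¹ᵁ ⊤)) : topCast f (untop f x) = x := rfl

lemma topCast_injective {x y : Γ(A, ⊤)} (h : topCast f x = topCast f y) : x = y := h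

lemma toU_injective {Z : Scheme.{u}} {U : Z.Opens} {x y : Γ(Z, U)} (h : toU x = toU y) : x = y := h

lemma top_le_preimage_top : (⊤ : A.Opens) ≤ f ⁻¹ᵁ ⊤ := le_refl _

lemma preimage_top_le {C D : Scheme.{u}} (q : A ⟶ C) (q' : B ⟶ D) :
    q ⁻¹ᵁ ⊤ ≤ f ⁻¹ᵁ (q' ⁻¹ᵁ ⊤) := le_refl _

lemma appLE_topCast {C D : Scheme.{u}} (q : A ⟶ C) (q' : B ⟶ D)
    (h : q ⁻¹ᵁ ⊤ ≤ f ⁻¹ᵁ (q' ⁻¹ᵁ ⊤)) (m : Γ(B, ⊤)) :
    (f.appLE (q' ⁻¹ᵁ ⊤) (q ⁻¹ᵁ ⊤) h).hom (topCast q' m) = topCast q (f.appTop.hom m) := by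
  have h1 : f.appLE (q' ⁻¹ᵁ ⊤) (q ⁻¹ᵁ ⊤) h = f.appTop := by
    simp [Scheme.Hom.appLE, Scheme.Hom.appTop]
  exact congrArg (fun φ => CommRingCat.Hom.hom φ m) h1

end Casts

section Gen2
variable {X Z Z' : Scheme.{u}} (a : Z' ⟶ Z) (b : Z ⟶ X) (c : Z' ⟶ X) (h : a ≫ b = c)

/-- The canonical generator of `a^* b^* O_X`. -/
noncomputable def gen2 (hT : (⊤ : Z'.Opens) ≤ a ⁻¹ᵁ ⊤) :
    Γ((Scheme.Modules.pullback a).obj ((Scheme.Modules.pullback b).obj (Coh.structureModule X)), ⊤) :=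
  PBH8.cUV a ((Scheme.Modules.pullback b).obj (Coh.structureModule X)) (V := ⊤) hT (gen b)

lemma pbIso_gen2 (hT : (⊤ : Z'.Opens) ≤ a ⁻¹ᵁ ⊤) :
    ((pullbackComp a b ≪≫ pullbackCongr h).hom.app (Coh.structureModule X)).app ⊤ (gen2 a b hT) =
      gen c := by
  unfold gen2 gen
  exact pbIso_cUV a b c h (Coh.structureModule X) (V := ⊤) (U := ⊤) hT (le_refl _)
    (toU (1 : Γ(X, ⊤)))

include h in
theorem hom_ext_gen2 {M : Z'.Modules} (hT : (⊤ : Z'.Opens) ≤ a ⁻¹ᵁ ⊤)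
    (α β : (Scheme.Modules.pullback a).obj
      ((Scheme.Modules.pullback b).obj (Coh.structureModule X)) ⟶ M)
    (H : α.app ⊤ (gen2 a b hT) = β.app ⊤ (gen2 a b hT)) : α = β := by
  rw [← cancel_epi ((pullbackComp a b ≪≫ pullbackCongr h).inv.app (Coh.structureModule X))]
  refine hom_ext_gen c _ _ ?_
  have h4 : (pullbackComp a b ≪≫ pullbackCongr h).hom.app (Coh.structureModule X) ≫
      (pullbackComp a b ≪≫ pullbackCongr h).inv.app (Coh.structureModule X) = 𝟙 _ :=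
    Iso.hom_inv_id_app _ _
  have h5 : ((pullbackComp a b ≪≫ pullbackCongr h).inv.app (Coh.structureModule X)).app ⊤ (gen c) =
      gen2 a b hT := by
    rw [← pbIso_gen2 a b c h hT]
    exact congrArg (fun ψ => (Scheme.Modules.Hom.app ψ ⊤) (gen2 a b hT)) h4
  rw [comp_app_apply, comp_app_apply, h5]
  exact H

end Gen2

section Ring
variable {X W : Scheme.{u}} (𝓘 : X.IdealSheafData) (π : W ⟶ X)

set_option quotPrecheck false

local notation "Yn(" n ")" => (FSch.completionAlong X 𝓘).X n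
local notation "ιn(" n ")" => FSch.completionToX X 𝓘 n
local notation "trn(" n ")" => (FSch.completionAlong X 𝓘).ι n
local notation "Wn(" n ")" => Limits.pullback π (FSch.completionToX X 𝓘 n)
local notation "pn(" n ")" => Limits.pullback.fst π (FSch.completionToX X 𝓘 n)
local notation "qn(" n ")" => Limits.pullback.snd π (FSch.completionToX X 𝓘 n)

/-- A global function on `W` as a global section of `π_* O_W` (in the `val.obj` form). -/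
def toGtop (s : Γ(W, ⊤)) : (GG π).val.obj (op ⊤) := toG π (V := ⊤) (topCast π s)

lemma secHom_app_one {Z : Scheme.{u}} (M : Z.Modules) (m : M.val.obj (op ⊤)) :
    (LefConn.secHom M m).app ⊤ (toU (1 : Γ(Z, ⊤))) = m :=
  LefConn.ev_secHom M m

lemma map_secHom_gen (n : ℕ) (s : Γ(W, ⊤)) (hT : (⊤ : (Yn(n)).Opens) ≤ (ιn(n)) ⁻¹ᵁ ⊤) :
    ((Scheme.Modules.pullback (ιn(n))).map (LefConn.secHom (GG π) (toGtop π s))).app ⊤
      (PBH8.cUV (ιn(n)) (Coh.structureModule X) (V := ⊤) hT (toU (1 : Γ(X, ⊤)))) =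
      PBH8.cUV (ιn(n)) (GG π) (V := ⊤) hT (toG π (V := ⊤) (topCast π s)) := by
  have h1 := PBH8.cUV_naturality (ιn(n)) (LefConn.secHom (GG π) (toGtop π s)) (V := ⊤) hT
    (toU (1 : Γ(X, ⊤)))
  have h2 := secHom_app_one (GG π) (toGtop π s)
  exact h1.trans (congrArg (PBH8.cUV (ιn(n)) (GG π) (V := ⊤) hT) h2)

lemma θ_gen (n : ℕ) (s : Γ(W, ⊤)) (hT : (⊤ : (Yn(n)).Opens) ≤ (ιn(n)) ⁻¹ᵁ ⊤)
    (hA : (qn(n)) ⁻¹ᵁ (⊤ : (Yn(n)).Opens) ≤ (pn(n)) ⁻¹ᵁ (π ⁻¹ᵁ ⊤)) :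
    (θ 𝓘 π n).app ⊤ (PBH8.cUV (ιn(n)) (GG π) (V := ⊤) hT (toG π (V := ⊤) (topCast π s))) =
      toU (topCast (qn(n)) ((pn(n)).appTop.hom s)) := by
  have h1 := θ_cUV 𝓘 π n (V := ⊤) (U := ⊤) hT (topCast π s) hA
  have h2 := appLE_topCast (pn(n)) (qn(n)) π hA s
  exact h1.trans (congrArg toU h2)

variable [IsAffineHom π]

lemma θ_app_bijective (n : ℕ) (U : (Yn(n)).Opens) : Function.Bijective ((θ 𝓘 π n).app U) :=
  ConcreteCategory.bijective_of_isIso ((θ 𝓘 π n).app U)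

theorem ring_inj
    (hinj : Function.Injective
      (fun φ : Coh.structureModule X ⟶ GG π => FSch.complModMap 𝓘 φ))
    (s s' : Γ(W, ⊤))
    (H : ∀ n : ℕ, (pn(n)).appTop.hom s = (pn(n)).appTop.hom s') : s = s' := by
  have key : LefConn.secHom (GG π) (toGtop π s) = LefConn.secHom (GG π) (toGtop π s') := by
    apply hinj
    apply FSch.ModSys.Hom.ext
    funext n
    have hT : (⊤ : (Yn(n)).Opens) ≤ (ιn(n)) ⁻¹ᵁ ⊤ := top_le_preimage_top _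
    have hA : (qn(n)) ⁻¹ᵁ (⊤ : (Yn(n)).Opens) ≤ (pn(n)) ⁻¹ᵁ (π ⁻¹ᵁ ⊤) := preimage_top_le _ _ _
    refine hom_ext_gen (ιn(n)) _ _ ?_
    have e1 := map_secHom_gen 𝓘 π n s hT
    have e2 := map_secHom_gen 𝓘 π n s' hT
    have e3 : PBH8.cUV (ιn(n)) (GG π) (V := ⊤) hT (toG π (V := ⊤) (topCast π s)) =
        PBH8.cUV (ιn(n)) (GG π) (V := ⊤) hT (toG π (V := ⊤) (topCast π s')) := by
      apply (θ_app_bijective 𝓘 π n ⊤).1
      rw [θ_gen 𝓘 π n s hT hA, θ_gen 𝓘 π n s' hT hA, H n]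
    exact e1.trans (e3.trans e2.symm)
  have h2 := congrArg LefConn.ev key
  rw [LefConn.ev_secHom, LefConn.ev_secHom] at h2
  exact h2

/-- the morphism `ι_n^* O_X ⟶ ι_n^* π_* O_W` attached to a global section of the target. -/
noncomputable def ψn (n : ℕ) (v : Γ((Scheme.Modules.pullback (ιn(n))).obj (GG π), ⊤)) :
    (Scheme.Modules.pullback (ιn(n))).obj (Coh.structureModule X) ⟶
      (Scheme.Modules.pullback (ιn(n))).obj (GG π) :=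
  (PBH8.pullbackUnitIso (ιn(n))).hom ≫ LefConn.secHom _ v

lemma ψn_gen (n : ℕ) (v : Γ((Scheme.Modules.pullback (ιn(n))).obj (GG π), ⊤)) :
    (ψn 𝓘 π n v).app ⊤ (gen (ιn(n))) = v := by
  unfold ψn
  rw [comp_app_apply, unitIso_gen]
  exact secHom_app_one _ v

lemma complTransIso_gen2 (n : ℕ) (hT : (⊤ : (Yn(n)).Opens) ≤ (trn(n)) ⁻¹ᵁ ⊤) :
    ((FSch.complTransIso 𝓘 n).hom.app (Coh.structureModule X)).app ⊤
      (gen2 (trn(n)) (ιn(n + 1)) hT) = gen (ιn(n)) := by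
  rw [complTransIso_eq]
  exact pbIso_gen2 (trn(n)) (ιn(n + 1)) (ιn(n)) (trn_ιn 𝓘 n) hT

lemma toQ_eq_toU (n : ℕ) {U : (Yn(n)).Opens} (m : Γ(Wn(n), (qn(n)) ⁻¹ᵁ U)) :
    toQ 𝓘 π n m = toU m := rfl

lemma ofQ_toQ (n : ℕ) {U : (Yn(n)).Opens} (m : Γ(Wn(n), (qn(n)) ⁻¹ᵁ U)) :
    ofQ 𝓘 π n (toQ 𝓘 π n m) = m := rfl

/-- Compatibility of the morphisms `ψn` attached to a compatible family of functions. -/
lemma ψn_comm (n : ℕ) (t' : Γ(Wn(n + 1), ⊤)) (t0 : Γ(Wn(n), ⊤))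
    (ht : (trn' 𝓘 π n).appTop.hom t' = t0)
    (u' : Γ((Scheme.Modules.pullback (ιn(n + 1))).obj (GG π), ⊤))
    (u0 : Γ((Scheme.Modules.pullback (ιn(n))).obj (GG π), ⊤))
    (hu' : (θ 𝓘 π (n + 1)).app ⊤ u' = toQ 𝓘 π (n + 1) (U := ⊤) (topCast (qn(n + 1)) t'))
    (hu0 : (θ 𝓘 π n).app ⊤ u0 = toQ 𝓘 π n (U := ⊤) (topCast (qn(n)) t0)) :
    (Scheme.Modules.pullback (trn(n))).map (ψn 𝓘 π (n + 1) u') ≫
        (FSch.complTransIso 𝓘 n).hom.app (GG π) =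
      (FSch.complTransIso 𝓘 n).hom.app (Coh.structureModule X) ≫ ψn 𝓘 π n u0 := by
  have hT : (⊤ : (Yn(n)).Opens) ≤ (trn(n)) ⁻¹ᵁ ⊤ := top_le_preimage_top _
  have hB : (qn(n)) ⁻¹ᵁ (⊤ : (Yn(n)).Opens) ≤ (trn' 𝓘 π n) ⁻¹ᵁ ((qn(n + 1)) ⁻¹ᵁ ⊤) :=
    preimage_top_le _ _ _
  refine hom_ext_gen2 (trn(n)) (ιn(n + 1)) (ιn(n)) (trn_ιn 𝓘 n) hT _ _ ?_
  rw [comp_app_apply, comp_app_apply, complTransIso_gen2, ψn_gen]
  -- left hand side
  have l1 : ((Scheme.Modules.pullback (trn(n))).map (ψn 𝓘 π (n + 1) u')).app ⊤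
      (gen2 (trn(n)) (ιn(n + 1)) hT) =
      PBH8.cUV (trn(n)) ((Scheme.Modules.pullback (ιn(n + 1))).obj (GG π)) (V := ⊤) hT u' := by
    unfold gen2
    rw [PBH8.cUV_naturality, ψn_gen]
  rw [l1]
  apply (θ_app_bijective 𝓘 π n ⊤).1
  have l2 := θ_trans 𝓘 π n u' hT hB
  rw [hu', ofQ_toQ, appLE_topCast (trn' 𝓘 π n) (qn(n)) (qn(n + 1)) hB t', ht] at l2
  exact l2.trans ((toQ_eq_toU 𝓘 π n (U := ⊤) (topCast (qn(n)) t0)).symm.trans hu0.symm)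

theorem ring_surj
    (hsurj : Function.Surjective
      (fun φ : Coh.structureModule X ⟶ GG π => FSch.complModMap 𝓘 φ))
    (t : ∀ n : ℕ, Γ(Wn(n), ⊤))
    (ht : ∀ n : ℕ, (trn' 𝓘 π n).appTop.hom (t (n + 1)) = t n) :
    ∃ s : Γ(W, ⊤), ∀ n : ℕ, (pn(n)).appTop.hom s = t n := by
  have hsur := fun n => (θ_app_bijective 𝓘 π n ⊤).2
    (toQ 𝓘 π n (U := ⊤) (topCast (qn(n)) (t n)))
  choose u hu using hsur
  let Ψ : FSch.ModSys.Hom (FSch.complMod 𝓘 (Coh.structureModule X)) (FSch.complMod 𝓘 (GG π)) :=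
    ⟨fun n => ψn 𝓘 π n (u n), fun n => by
      rw [complMod_e_hom, complMod_e_hom]
      exact ψn_comm 𝓘 π n (t (n + 1)) (t n) (ht n) (u (n + 1)) (u n) (hu (n + 1)) (hu n)⟩
  obtain ⟨φ, hφ⟩ := hsurj Ψ
  have hφn : ∀ n, (Scheme.Modules.pullback (ιn(n))).map φ = ψn 𝓘 π n (u n) := fun n =>
    congrArg (fun Φ : FSch.ModSys.Hom (FSch.complMod 𝓘 (Coh.structureModule X))
      (FSch.complMod 𝓘 (GG π)) => Φ.app n) hφ
  refine ⟨untop π (ofU (φ.app ⊤ (toU (1 : Γ(X, ⊤))))), fun n => ?_⟩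
  have hT : (⊤ : (Yn(n)).Opens) ≤ (ιn(n)) ⁻¹ᵁ ⊤ := top_le_preimage_top _
  have hA : (qn(n)) ⁻¹ᵁ (⊤ : (Yn(n)).Opens) ≤ (pn(n)) ⁻¹ᵁ (π ⁻¹ᵁ ⊤) := preimage_top_le _ _ _
  have h1 := PBH8.cUV_naturality (ιn(n)) φ (V := ⊤) hT (toU (1 : Γ(X, ⊤)))
  have h2 : ((Scheme.Modules.pullback (ιn(n))).map φ).app ⊤ (gen (ιn(n))) = u n := by
    rw [hφn n, ψn_gen]
  have h3 : PBH8.cUV (ιn(n)) (GG π) (V := ⊤) hT (φ.app ⊤ (toU (1 : Γ(X, ⊤)))) = u n :=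
    h1.symm.trans h2
  have h4 := θ_gen 𝓘 π n (untop π (ofU (φ.app ⊤ (toU (1 : Γ(X, ⊤)))))) hT hA
  have h5 : toU (topCast (qn(n)) ((pn(n)).appTop.hom
      (untop π (ofU (φ.app ⊤ (toU (1 : Γ(X, ⊤)))))))) =
      toU (topCast (qn(n)) (t n)) :=
    h4.symm.trans ((congrArg (fun y => (ConcreteCategory.hom ((θ 𝓘 π n).app ⊤)) y) h3).trans
      ((hu n).trans (toQ_eq_toU 𝓘 π n (U := ⊤) (topCast (qn(n)) (t n)))))
  exact topCast_injective _ (toU_injective h5)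

end Ring

end Groth.Agent.Lib.FEtLef
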