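import Mathlib
import Groth.Prelude.Def_Pi1
import Groth.Prelude.Def_FSch3
import Groth.Prelude.Def_FlatMod2
import Groth.Agent.Lib.FEtLef4_helper5
import Groth.Agent.Lib.FEtLef5_helper5
import Groth.Agent.Lib.FLF8_helper8
import Groth.Agent.Lib.FEtFull_helper4

/-! Full faithfulness of restriction of finite étale covers to a closed subscheme from full
faithfulness of the completion functor on finite locally free modules (helper5).
APPEND-ONLY once landed. -/

set_option autoImplicit false
universe u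
open CategoryTheory CategoryTheory.Limits AlgebraicGeometry Opposite TopologicalSpace

namespace Groth.Agent.Lib.FEtLef

section Main

variable {X : Scheme.{u}} (𝓘 : X.IdealSheafData)

/-- Finite étale morphisms have finite locally free direct image of the structure sheaf. -/
theorem isFinLocFree_GG {W : Scheme.{u}} (π : W ⟶ X) [IsFinite π] [Etale π] :
    FlatMod.IsFinLocFree (GG π) := by
  have h : Mor2.IsFinLocFree π := ⟨inferInstance, inferInstance, inferInstance⟩
  exact ((FLFH8.isFinLocFree_iff π).mpr h).2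

theorem range_fst_level {W : Scheme.{u}} (π : W ⟶ X) (n : ℕ) :
    Set.range (pullback.fst π (FSch.completionToX X 𝓘 n)) = π ⁻¹' (𝓘.support : Set X) := by
  rw [Scheme.Pullback.range_fst]
  exact congrArg (fun S => π ⁻¹' S) (LefConn.range_ι 𝓘 n)

instance isClosedImmersion_completionToX (n : ℕ) :
    IsClosedImmersion (FSch.completionToX X 𝓘 n) :=
  inferInstanceAs (IsClosedImmersion (𝓘 ^ (n + 1)).subschemeι)

variable (h : ∀ F G : X.Modules, FlatMod.IsFinLocFree F → FlatMod.IsFinLocFree G →
  Function.Bijective (fun φ : F ⟶ G => FSch.complModMap 𝓘 φ))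

include h in
theorem clopen_eq_empty_of_fet {W : Scheme.{u}} (π : W ⟶ X) [IsFinite π] [Etale π]
    (D : Set W) (hD : IsClopen D) (h0 : D ∩ π ⁻¹' (𝓘.support : Set X) = ∅) : D = ∅ := by
  have hbij := h (Coh.structureModule X) (GG π) (LefConn.isFinLocFree_structureModule X)
    (isFinLocFree_GG π)
  refine clopen_eq_empty (fun n => pullback π (FSch.completionToX X 𝓘 n))
    (fun n => pullback.fst π (FSch.completionToX X 𝓘 n))
    (fun n => by rw [range_fst_level, range_fst_level])
    (fun s s' H => ring_inj 𝓘 π hbij.1 s s' H) D hD ?_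
  rw [range_fst_level]
  exact h0

include h in
theorem exists_clopen_lift_of_fet {W : Scheme.{u}} (π : W ⟶ X) [IsFinite π] [Etale π]
    (C0 : Set ↥(pullback π (FSch.completionToX X 𝓘 0))) (hC0 : IsClopen C0) :
    ∃ C : Set W, IsClopen C ∧ (pullback.fst π (FSch.completionToX X 𝓘 0)) ⁻¹' C = C0 := by
  have hbij := h (Coh.structureModule X) (GG π) (LefConn.isFinLocFree_structureModule X)
    (isFinLocFree_GG π)
  exact exists_clopen_lift (fun n => pullback π (FSch.completionToX X 𝓘 n))
    (fun n => pullback.fst π (FSch.completionToX X 𝓘 n))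
    (fun n => trn' 𝓘 π n) (fun n => trn'_pn 𝓘 π n)
    (fun n => (pullback.fst π (FSch.completionToX X 𝓘 n)).isClosedEmbedding)
    (fun n => by rw [range_fst_level, range_fst_level])
    (fun s s' H => ring_inj 𝓘 π hbij.1 s s' H)
    (fun t ht => ring_surj 𝓘 π hbij.2 t ht) C0 hC0

include h in
/-- The lifting property for clopen subsets, for an arbitrary presentation `𝓚 = 𝓘 ^ (0 + 1)`. -/
theorem exists_clopen_lift_of_eq (𝓚 : X.IdealSheafData) (h𝓚 : 𝓚 = 𝓘 ^ (0 + 1))
    {W : Scheme.{u}} (π : W ⟶ X) [IsFinite π] [Etale π]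
    (V : Set ↥(pullback π 𝓚.subschemeι)) (hV : IsClopen V) :
    ∃ U : Set W, IsClopen U ∧ (pullback.fst π 𝓚.subschemeι).base ⁻¹' U = V := by
  subst h𝓚
  exact exists_clopen_lift_of_fet 𝓘 h π V hV

include h in
theorem main9492 :
    (FEt.restrict 𝓘.subschemeι).Full ∧ (FEt.restrict 𝓘.subschemeι).Faithful := by
  have hD : ∀ U : Set X, IsOpen U → IsClosed U → U.Nonempty →
      (U ∩ Set.range 𝓘.subschemeι.base).Nonempty := by
    intro U hU1 hU2 hne
    by_contra hcon
    rw [Set.not_nonempty_iff_eq_empty] at hcon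
    have h1 : U ∩ (𝟙 X : X ⟶ X) ⁻¹' (𝓘.support : Set X) = ∅ := by
      rw [← Scheme.IdealSheafData.range_subschemeι]
      exact hcon
    have h2 := clopen_eq_empty_of_fet 𝓘 h (𝟙 X) U ⟨hU2, hU1⟩ h1
    exact hne.ne_empty h2
  have hL : ∀ (W : Scheme.{u}) (c : W ⟶ X) [IsFinite c] [Etale c]
      (V : Set ↥(pullback c 𝓘.subschemeι)),
      IsClopen V → ∃ U : Set W, IsClopen U ∧ (pullback.fst c 𝓘.subschemeι).base ⁻¹' U = V := by
    intro W c _ _ V hV
    exact exists_clopen_lift_of_eq 𝓘 h 𝓘 (by rw [zero_add, pow_one]) c V hV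
  exact ⟨FEtFullH4.full_of_clopen 𝓘.subschemeι hD hL,
    FEtFaithfulH4.faithful_of_clopen 𝓘.subschemeι hD⟩

end Main

end Groth.Agent.Lib.FEtLef
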