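import Mathlib
import Groth.Agent.Lib.EtNormal2_helper4
import Groth.Agent.Lib.FEtFull_helper4
import Groth.Agent.Lib.FEtComps_helper4

/-!
# Finite étale covers of a normal integral scheme restricted along a preimmersion through the
generic point (helper4)
-/

universe u

set_option linter.style.haveILetI false

open AlgebraicGeometry CategoryTheory CategoryTheory.Limits TopologicalSpace

namespace Groth.Agent.Lib.FEtNormalH4

theorem isPreconnected_preimage {X T W : Scheme.{u}} [IsIntegral X] (hX : Pi1.IsNormalScheme X)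
    (f : T ⟶ X) [IsPreimmersion f] (hη : genericPoint X ∈ Set.range f.base)
    (c : W ⟶ X) [IsFinite c] [Etale c] (Γ : W.Opens) (hΓc : IsClosed (Γ : Set W))
    (hconn : _root_.IsConnected (Γ : Set W)) :
    _root_.IsPreconnected ((pullback.fst c f).base ⁻¹' (Γ : Set W)) := by
  haveI : IsClosedImmersion Γ.ι :=
    IsClosedImmersion.of_isPreimmersion _ (by rw [Scheme.Opens.range_ι]; exact hΓc)
  haveI : ConnectedSpace ↥(Γ : Scheme.{u}) := isConnected_iff_connectedSpace.mp hconn
  haveI : IsFinite (Γ.ι ≫ c) := inferInstance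
  haveI : Etale (Γ.ι ≫ c) := inferInstance
  have hdom : ∀ y : ↥(Γ : Scheme.{u}), IsDomain ((Γ : Scheme.{u}).presheaf.stalk y) :=
    fun y => (EtNormal2H4.isNormalScheme_of_etale (Γ.ι ≫ c) hX y).1
  haveI : IrreducibleSpace ↥(Γ : Scheme.{u}) :=
    EtNormal2H4.irreducibleSpace_of_finite_etale (Γ.ι ≫ c) hdom
  obtain ⟨ξ', hξ'⟩ : ∃ ξ' : ↥(Γ : Scheme.{u}), ξ' = genericPoint ↥(Γ : Scheme.{u}) := ⟨_, rfl⟩
  obtain ⟨ξ, hξ⟩ : ∃ ξ : W, ξ = Γ.ι.base ξ' := ⟨_, rfl⟩
  have hξΓ : ξ ∈ (Γ : Set W) := by
    have : ξ ∈ Set.range Γ.ι.base := ⟨ξ', hξ.symm⟩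
    rwa [Scheme.Opens.range_ι] at this
  have hcl : (Γ : Set W) ⊆ closure {ξ} := by
    intro w hw
    have hw' : w ∈ Set.range Γ.ι.base := by rw [Scheme.Opens.range_ι]; exact hw
    obtain ⟨w', rfl⟩ := hw'
    have h1 : ξ' ⤳ w' := by rw [hξ']; exact genericPoint_specializes _
    have h2 : ξ ⤳ Γ.ι.base w' := by rw [hξ]; exact h1.map Γ.ι.continuous
    exact specializes_iff_mem_closure.mp h2
  have hcξ : c.base ξ = genericPoint X := by
    have hopen : IsOpen (c.base '' (Γ : Set W)) := c.isOpenMap _ Γ.2
    have hη' : genericPoint X ∈ c.base '' (Γ : Set W) := by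
      rw [(genericPoint_spec X).mem_open_set_iff hopen]
      simpa using hconn.nonempty.image c.base
    obtain ⟨w, hw, hwη⟩ := hη'
    have h1 : ξ ⤳ w := specializes_iff_mem_closure.mpr (hcl hw)
    have h2 : c.base ξ ⤳ genericPoint X := by
      have := h1.map c.continuous
      rwa [hwη] at this
    exact (h2.antisymm (genericPoint_specializes _)).eq
  have hrange : Set.range (pullback.fst c f).base = c.base ⁻¹' Set.range f.base :=
    Scheme.Pullback.range_fst c f
  have hξr : ξ ∈ Set.range (pullback.fst c f).base := by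
    rw [hrange]
    show c.base ξ ∈ Set.range f.base
    rw [hcξ]
    exact hη
  have ht : _root_.IsPreconnected ((Γ : Set W) ∩ Set.range (pullback.fst c f).base) :=
    isPreconnected_singleton.subset_closure (Set.singleton_subset_iff.mpr ⟨hξΓ, hξr⟩)
      (Set.inter_subset_left.trans hcl)
  have hind : Topology.IsInducing (pullback.fst c f).base :=
    (pullback.fst c f).isEmbedding.isInducing
  rw [← hind.isPreconnected_image, Set.image_preimage_eq_inter_range]
  exact ht

theorem exists_clopen {X T W : Scheme.{u}} [IsIntegral X] (hX : Pi1.IsNormalScheme X)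
    (f : T ⟶ X) [IsPreimmersion f] (hη : genericPoint X ∈ Set.range f.base)
    (c : W ⟶ X) [IsFinite c] [Etale c] (V : Set ↥(pullback c f)) (hV : IsClopen V) :
    ∃ U : Set W, IsClopen U ∧ (pullback.fst c f).base ⁻¹' U = V := by
  haveI : Finite (_root_.ConnectedComponents W) :=
    IsOpenMap.finite_connectedComponents_of_finite_preimage_singleton_of_connectedSpace
      c.isOpenMap c.isClosedMap (y := genericPoint X) (c.finite_preimage_singleton _)
  refine FEtCompsH4.exists_clopen_of_components (pullback.fst c f).base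
    (pullback.fst c f).continuous ?_ V hV
  intro a b hab
  obtain ⟨t₁, rfl⟩ := ConnectedComponents.surjective_coe a
  obtain ⟨t₂, rfl⟩ := ConnectedComponents.surjective_coe b
  rw [Continuous.connectedComponentsMap_mk, Continuous.connectedComponentsMap_mk] at hab
  have h12 : (pullback.fst c f).base t₁ ∈ connectedComponent ((pullback.fst c f).base t₂) :=
    ConnectedComponents.coe_eq_coe'.mp hab
  have hclopen : IsClopen (connectedComponent ((pullback.fst c f).base t₂)) := by
    have := FEtCompsH4.isClopen_preimage_mk W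
      {(ConnectedComponents.mk ((pullback.fst c f).base t₂) : _root_.ConnectedComponents W)}
    rwa [connectedComponents_preimage_singleton] at this
  have hpre := isPreconnected_preimage hX f hη c
    ⟨connectedComponent ((pullback.fst c f).base t₂), hclopen.2⟩ hclopen.1
    (isConnected_connectedComponent (x := (pullback.fst c f).base t₂))
  have hsub := hpre.subset_connectedComponent (x := t₂)
    (show (pullback.fst c f).base t₂ ∈ connectedComponent ((pullback.fst c f).base t₂) from
      mem_connectedComponent)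
  exact ConnectedComponents.coe_eq_coe'.mpr (hsub h12)

theorem fullyFaithful_of_preimmersion {X T : Scheme.{u}} [IsIntegral X]
    (hX : Pi1.IsNormalScheme X) (f : T ⟶ X) [IsPreimmersion f]
    (hη : genericPoint X ∈ Set.range f.base) :
    (FEt.restrict f).Full ∧ (FEt.restrict f).Faithful := by
  have hD : ∀ U : Set X, IsOpen U → IsClosed U → U.Nonempty →
      (U ∩ Set.range f.base).Nonempty := by
    intro U hUo _ hne
    refine ⟨genericPoint X, ?_, hη⟩
    rw [(genericPoint_spec X).mem_open_set_iff hUo]
    simpa using hne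
  refine ⟨FEtFullH4.full_of_clopen f hD ?_, FEtFaithfulH4.faithful_of_clopen f hD⟩
  intro W c _ _ V hV
  exact exists_clopen hX f hη c V hV

theorem main0244 {X : Scheme.{u}} [IsIntegral X] (hX : Pi1.IsNormalScheme X) (U : X.Opens)
    (hU : (U : Set X).Nonempty) : (FEt.restrict U.ι).Full ∧ (FEt.restrict U.ι).Faithful := by
  refine fullyFaithful_of_preimmersion hX U.ι ?_
  rw [Scheme.Opens.range_ι]
  have h := (genericPoint_spec X).mem_open_set_iff (U := (U : Set X)) U.2
  exact h.mpr (by simpa using hU)

theorem main0245 {X : Scheme.{u}} [IsIntegral X] (hX : Pi1.IsNormalScheme X) :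
    (FEt.restrict (X.fromSpecStalk (genericPoint X))).Full ∧
    (FEt.restrict (X.fromSpecStalk (genericPoint X))).Faithful := by
  refine fullyFaithful_of_preimmersion hX (X.fromSpecStalk (genericPoint X)) ?_
  rw [Scheme.range_fromSpecStalk]
  exact specializes_rfl

end Groth.Agent.Lib.FEtNormalH4
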