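import Mathlib
import Groth.Prelude.Def_EtMil
import Groth.Agent.Lib.FibSq_helper5
import Groth.Agent.Lib.MilnorAlgMain_helper5

/-!
# Milnor patching of algebra properties, stated for morphisms of `CommRingCat` (helper5)
-/

set_option autoImplicit false
universe u

namespace Groth.Agent.MilnorAlg

open CategoryTheory Limits Groth.Agent.FibSqLib

theorem isFibreSquare_of_fibSq {B' B A' A : Type u} [CommRing B'] [CommRing B] [CommRing A']
    [CommRing A] [Algebra B' B] [Algebra B' A'] [Algebra B A] [Algebra A' A]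
    (sq : FibSq (algebraMap B' B) (algebraMap B' A') (algebraMap B A) (algebraMap A' A))
    (hp : Function.Surjective (algebraMap A' A)) : EtMil.IsFibreSquare B' B A' A := by
  refine ⟨hp, fun b a' hba => ?_⟩
  obtain ⟨x, hx1, hx2⟩ := sq.surj b a' hba
  refine ⟨x, ⟨hx1, hx2⟩, fun y hy => ?_⟩
  exact sq.ext _ _ (hy.1.trans hx1.symm) (hy.2.trans hx2.symm)

/-- The five patching statements for a morphism of fibre squares of commutative rings. -/
theorem main_cat {B' B A' A D' D C' C : CommRingCat.{u}}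
    {π₁ : B' ⟶ B} {π₂ : B' ⟶ A'} {q : B ⟶ A} {p : A' ⟶ A}
    (sq : FibSq π₁.hom π₂.hom q.hom p.hom) (hp : Function.Surjective p.hom)
    {π₁' : D' ⟶ D} {π₂' : D' ⟶ C'} {q' : D ⟶ C} {p' : C' ⟶ C}
    (sq' : FibSq π₁'.hom π₂'.hom q'.hom p'.hom) (hp' : Function.Surjective p'.hom)
    (φ : B' ⟶ D') (ψ : B ⟶ D) (χ : A' ⟶ C') (ω : A ⟶ C)
    (h1 : φ ≫ π₁' = π₁ ≫ ψ) (h2 : φ ≫ π₂' = π₂ ≫ χ)
    (po1 : IsPushout ψ q q' ω) (po2 : IsPushout χ p p' ω) :
    (φ.hom.FiniteType ↔ ψ.hom.FiniteType ∧ χ.hom.FiniteType) ∧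
    (φ.hom.Flat ↔ ψ.hom.Flat ∧ χ.hom.Flat) ∧
    ((φ.hom.Flat ∧ φ.hom.FinitePresentation) ↔
      (ψ.hom.Flat ∧ ψ.hom.FinitePresentation) ∧ (χ.hom.Flat ∧ χ.hom.FinitePresentation)) ∧
    (φ.hom.Smooth ↔ ψ.hom.Smooth ∧ χ.hom.Smooth) ∧
    (φ.hom.Etale ↔ ψ.hom.Etale ∧ χ.hom.Etale) := by
  letI : Algebra B' B := π₁.hom.toAlgebra
  letI : Algebra B' A' := π₂.hom.toAlgebra
  letI : Algebra B A := q.hom.toAlgebra
  letI : Algebra A' A := p.hom.toAlgebra
  letI : Algebra B' A := (π₁ ≫ q).hom.toAlgebra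
  haveI : IsScalarTower B' B A := .of_algebraMap_eq' rfl
  haveI : IsScalarTower B' A' A := .of_algebraMap_eq' (by
    ext x; exact sq.comm x)
  letI : Algebra D' D := π₁'.hom.toAlgebra
  letI : Algebra D' C' := π₂'.hom.toAlgebra
  letI : Algebra D C := q'.hom.toAlgebra
  letI : Algebra C' C := p'.hom.toAlgebra
  letI : Algebra D' C := (π₁' ≫ q').hom.toAlgebra
  haveI : IsScalarTower D' D C := .of_algebraMap_eq' rfl
  haveI : IsScalarTower D' C' C := .of_algebraMap_eq' (by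
    ext x; exact sq'.comm x)
  letI : Algebra B' D' := φ.hom.toAlgebra
  letI : Algebra B D := ψ.hom.toAlgebra
  letI : Algebra A' C' := χ.hom.toAlgebra
  letI : Algebra A C := ω.hom.toAlgebra
  letI : Algebra B' D := (φ ≫ π₁').hom.toAlgebra
  haveI : IsScalarTower B' D' D := .of_algebraMap_eq' rfl
  haveI : IsScalarTower B' B D := .of_algebraMap_eq' (by
    ext x; exact congr($(h1).hom x))
  letI : Algebra B' C' := (φ ≫ π₂').hom.toAlgebra
  haveI : IsScalarTower B' D' C' := .of_algebraMap_eq' rfl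
  haveI : IsScalarTower B' A' C' := .of_algebraMap_eq' (by
    ext x; exact congr($(h2).hom x))
  letI : Algebra B C := (ψ ≫ q').hom.toAlgebra
  haveI : IsScalarTower B D C := .of_algebraMap_eq' rfl
  haveI : IsScalarTower B A C := .of_algebraMap_eq' (by
    ext x; exact congr($(po1.w).hom x))
  letI : Algebra A' C := (χ ≫ p').hom.toAlgebra
  haveI : IsScalarTower A' C' C := .of_algebraMap_eq' rfl
  haveI : IsScalarTower A' A C := .of_algebraMap_eq' (by
    ext x; exact congr($(po2.w).hom x))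
  haveI : Algebra.IsPushout B D A C := CommRingCat.isPushout_iff_isPushout.mp po1
  haveI : Algebra.IsPushout A' C' A C := CommRingCat.isPushout_iff_isPushout.mp po2
  have hsq : EtMil.IsFibreSquare B' B A' A := isFibreSquare_of_fibSq sq hp
  have hsq' : EtMil.IsFibreSquare D' D C' C := isFibreSquare_of_fibSq sq' hp'
  exact ⟨finiteType_iff hsq hsq', flat_iff hsq hsq', fp_iff hsq hsq', smooth_iff hsq hsq',
    etale_iff hsq hsq'⟩

end Groth.Agent.MilnorAlg
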