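import Mathlib
import Groth.Prelude.Def_EtMil
import Groth.Agent.Lib.Milnor_helper6
import Groth.Agent.Lib.MilnorAlg_helper5
import Groth.Agent.Lib.MilnorAlgFT_helper5

/-!
# Finiteness of glued modules over a "weak" Milnor square (helper5)

`B' → B ×_A A'` only needs to be surjective on kernels here.
-/

set_option autoImplicit false
universe u

namespace Groth.Agent.MilnorGlueFin

open TensorProduct Groth.Agent.Lib.Milnor

section glue

variable {B' B A' A : Type u} [CommRing B'] [CommRing B] [CommRing A'] [CommRing A]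
  [Algebra B' B] [Algebra B' A'] [Algebra B A] [Algebra A' A] [Algebra B' A]
  [IsScalarTower B' B A] [IsScalarTower B' A' A]
variable {N M' : Type u} [AddCommGroup N] [Module B N] [Module B' N] [IsScalarTower B' B N]
  [AddCommGroup M'] [Module A' M'] [Module B' M'] [IsScalarTower B' A' M']
  (φ : A ⊗[B] N ≃ₗ[A] A ⊗[A'] M')
  (hA : Function.Surjective (algebraMap A' A))

include hA in
theorem exists_snd_w (n : N) : ∃ m' : M', (n, m') ∈ EtMil.glue B' φ := by
  obtain ⟨m', hm'⟩ := exists_tmul_eq hA (φ ((1 : A) ⊗ₜ[B] n))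
  exact ⟨m', hm'.symm⟩

include hA in
theorem zero_mem_glue_iff_w (m' : M') :
    ((0 : N), m') ∈ EtMil.glue B' φ ↔
      m' ∈ (RingHom.ker (algebraMap A' A)) • (⊤ : Submodule A' M') := by
  rw [mem_glue, ← tmul_eq_zero_iff hA]
  simp only [TensorProduct.tmul_zero, map_zero]
  exact eq_comm

include hA in
theorem span_snd_w :
    Submodule.span A' (Prod.snd '' (EtMil.glue B' φ : Set (N × M'))) = ⊤ := by
  rw [eq_top_iff]
  intro m' _
  have key : ∀ z : A ⊗[B] N,
      ∃ m'' ∈ Submodule.span A' (Prod.snd '' (EtMil.glue B' φ : Set (N × M'))),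
      φ z = (1 : A) ⊗ₜ[A'] m'' := by
    intro z
    induction z using TensorProduct.induction_on with
    | zero => exact ⟨0, Submodule.zero_mem _, by simp⟩
    | tmul a n =>
      obtain ⟨q, hq⟩ := exists_snd_w (B' := B') φ hA n
      obtain ⟨a', rfl⟩ := hA a
      refine ⟨a' • q, Submodule.smul_mem _ _ (Submodule.subset_span ⟨(n, q), hq, rfl⟩), ?_⟩
      have h1 : (algebraMap A' A a') ⊗ₜ[B] n = (algebraMap A' A a') • ((1 : A) ⊗ₜ[B] n) := by
        rw [TensorProduct.smul_tmul', smul_eq_mul, mul_one]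
      rw [h1, map_smul, (mem_glue φ _).1 hq]
      rw [TensorProduct.tmul_smul, algebraMap_smul]
    | add x y hx hy =>
      obtain ⟨mx, hmx, ex⟩ := hx
      obtain ⟨my, hmy, ey⟩ := hy
      exact ⟨mx + my, Submodule.add_mem _ hmx hmy, by rw [map_add, ex, ey, TensorProduct.tmul_add]⟩
  obtain ⟨m'', hm'', e⟩ := key (φ.symm ((1 : A) ⊗ₜ[A'] m'))
  rw [LinearEquiv.apply_symm_apply] at e
  have hd : m' - m'' ∈ (RingHom.ker (algebraMap A' A)) • (⊤ : Submodule A' M') := by
    rw [← tmul_eq_zero_iff hA, TensorProduct.tmul_sub, e, sub_self]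
  have hd' : m' - m'' ∈ Submodule.span A' (Prod.snd '' (EtMil.glue B' φ : Set (N × M'))) :=
    Submodule.subset_span ⟨((0 : N), m' - m''), (zero_mem_glue_iff_w φ hA _).2 hd, rfl⟩
  have : m' = m'' + (m' - m'') := by abel
  rw [this]
  exact Submodule.add_mem _ hm'' hd'

include hA in
/-- The glued module of finite modules is finitely generated, as soon as `B' → B` is surjective
and `ker (B' → B) → ker (A' → A)` is surjective. -/
theorem glue_fg_w (hB : Function.Surjective (algebraMap B' B))
    (hker : ∀ ι : A', algebraMap A' A ι = 0 →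
      ∃ j : B', algebraMap B' B j = 0 ∧ algebraMap B' A' j = ι)
    [Module.Finite B N] [Module.Finite A' M'] : (EtMil.glue B' φ).FG := by
  classical
  obtain ⟨sN, hsN⟩ := (Module.Finite.fg_top : (⊤ : Submodule B N).FG)
  choose u hu using fun n : N => exists_snd_w (B' := B') φ hA n
  have hM : (Submodule.span A' (Prod.snd '' (EtMil.glue B' φ : Set (N × M')))).FG := by
    rw [span_snd_w (B' := B') φ hA]
    exact Module.Finite.fg_top
  obtain ⟨T, hTsub, hTspan⟩ := (Submodule.fg_span_iff_fg_span_finset_subset _).mp hM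
  obtain ⟨T', hT'sub, hT'img⟩ := Finset.subset_set_image_iff.mp hTsub
  obtain ⟨G, hG⟩ : ∃ G : Set (N × M'),
      G = (fun n => (n, u n)) '' (sN : Set N) ∪ (T' : Set (N × M')) := ⟨_, rfl⟩
  have hGfin : G.Finite := by
    rw [hG]
    exact (sN.finite_toSet.image _).union T'.finite_toSet
  have hGsub : G ⊆ (EtMil.glue B' φ : Set (N × M')) := by
    rw [hG]
    rintro x (⟨n, -, rfl⟩ | hx)
    · exact hu n
    · exact hT'sub hx
  have hG1 : ∀ y ∈ sN, (y, u y) ∈ G := fun y hy => by
    rw [hG]; exact Or.inl ⟨y, hy, rfl⟩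
  have hG2 : ∀ z ∈ T', z ∈ G := fun z hz => by
    rw [hG]; exact Or.inr hz
  refine Submodule.fg_def.mpr ⟨G, hGfin, le_antisymm (Submodule.span_le.mpr hGsub) ?_⟩
  intro x hx
  have claimA : ∀ n : N, ∃ g ∈ Submodule.span B' G, g.1 = n := by
    intro n
    have hn : n ∈ Submodule.span B (sN : Set N) := by rw [hsN]; trivial
    induction hn using Submodule.span_induction with
    | mem y hy => exact ⟨(y, u y), Submodule.subset_span (hG1 y hy), rfl⟩
    | zero => exact ⟨0, zero_mem _, rfl⟩
    | add a b _ _ ha hb =>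
      obtain ⟨ga, hga, rfl⟩ := ha
      obtain ⟨gb, hgb, rfl⟩ := hb
      exact ⟨ga + gb, add_mem hga hgb, rfl⟩
    | smul r a _ ha =>
      obtain ⟨ga, hga, rfl⟩ := ha
      obtain ⟨r', rfl⟩ := hB r
      refine ⟨r' • ga, Submodule.smul_mem _ _ hga, ?_⟩
      show r' • ga.1 = _
      rw [algebraMap_smul]
  have hspanT : Submodule.span A' (Prod.snd '' (T' : Set (N × M'))) = ⊤ := by
    rw [← span_snd_w (B' := B') φ hA, hTspan, ← hT'img, Finset.coe_image]
  have step : ∀ s ∈ Submodule.span A' (Prod.snd '' (T' : Set (N × M'))),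
      ∀ ι : A', algebraMap A' A ι = 0 → ((0 : N), ι • s) ∈ Submodule.span B' G := by
    intro s hs
    induction hs using Submodule.span_induction with
    | mem q hq =>
      intro ι hι
      obtain ⟨z, hz, rfl⟩ := hq
      obtain ⟨j, hj0, hji⟩ := hker ι hι
      have : ((0 : N), ι • z.2) = j • z := by rw [ker_smul (A' := A') j hj0 z, hji]
      rw [this]
      exact Submodule.smul_mem _ _ (Submodule.subset_span (hG2 z hz))
    | zero =>
      intro ι _
      rw [smul_zero]
      exact zero_mem _
    | add a b _ _ ha hb =>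
      intro ι hι
      have := add_mem (ha ι hι) (hb ι hι)
      rw [smul_add]
      simpa using this
    | smul r a _ ha =>
      intro ι hι
      have := ha (ι * r) (by rw [map_mul, hι, zero_mul])
      rw [mul_smul] at this
      exact this
  have claimB : ∀ m ∈ (RingHom.ker (algebraMap A' A)) • (⊤ : Submodule A' M'),
      ((0 : N), m) ∈ Submodule.span B' G := by
    intro m hm
    refine Submodule.smul_induction_on hm ?_ ?_
    · intro ι hι m _
      exact step m (by rw [hspanT]; trivial) ι (RingHom.mem_ker.1 hι)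
    · intro x y hx hy
      have := add_mem hx hy
      simpa using this
  obtain ⟨g, hg, hg1⟩ := claimA x.1
  have hd : x - g ∈ EtMil.glue B' φ := sub_mem hx (Submodule.span_le.mpr hGsub hg)
  have h0 : x - g = ((0 : N), x.2 - g.2) := Prod.ext (by simp [hg1]) rfl
  rw [h0] at hd
  have h1 := claimB _ ((zero_mem_glue_iff_w φ hA _).1 hd)
  have hx' : x = g + ((0 : N), x.2 - g.2) := by rw [← h0]; abel
  rw [hx']
  exact add_mem hg h1

end glue

end Groth.Agent.MilnorGlueFin
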