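import Mathlib
import Groth.Prelude.Def_EtMil
import Groth.Agent.Lib.FibSq_helper5
import Groth.Agent.Lib.MilnorAlgCat_helper5
import Groth.Agent.Lib.MilnorGlueFin_helper5

/-!
# Milnor patching: finiteness, and the two base-change squares, for morphisms of `CommRingCat` (helper5)
-/

set_option autoImplicit false
universe u

namespace Groth.Agent.MilnorAlg

open CategoryTheory Limits Groth.Agent.FibSqLib TensorProduct

section Fin

variable {B' B A' A : Type u} [CommRing B'] [CommRing B] [CommRing A'] [CommRing A]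
  [Algebra B' B] [Algebra B' A'] [Algebra B A] [Algebra A' A] [Algebra B' A]
  [IsScalarTower B' B A] [IsScalarTower B' A' A]
  (hsq : EtMil.IsFibreSquare B' B A' A)
  {D' D C' C : Type u} [CommRing D'] [CommRing D] [CommRing C'] [CommRing C]
  [Algebra D' D] [Algebra D' C'] [Algebra D C] [Algebra C' C] [Algebra D' C]
  [IsScalarTower D' D C] [IsScalarTower D' C' C]
  (hsq' : EtMil.IsFibreSquare D' D C' C)
  [Algebra B' D'] [Algebra B D] [Algebra A' C'] [Algebra A C]
  [Algebra B' D] [IsScalarTower B' B D] [IsScalarTower B' D' D]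
  [Algebra B' C'] [IsScalarTower B' A' C'] [IsScalarTower B' D' C']
  [Algebra B C] [IsScalarTower B A C] [IsScalarTower B D C]
  [Algebra A' C] [IsScalarTower A' A C] [IsScalarTower A' C' C]
  [Algebra.IsPushout B D A C] [Algebra.IsPushout A' C' A C]

include hsq hsq' in
theorem finite_of [Module.Finite B D] [Module.Finite A' C'] : Module.Finite B' D' := by
  obtain ⟨e, -⟩ : ∃ e : D' ≃ₗ[B'] EtMil.glue B' (phi B A' A D C' C),
      e = LinearEquiv.ofBijective (toGlue B' B A' A D' D C' C) (toGlue_bijective hsq') := ⟨_, rfl⟩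
  have hfg : (EtMil.glue B' (phi B A' A D C' C)).FG :=
    Groth.Agent.MilnorGlueFin.glue_fg_w (phi B A' A D C' C) hsq.1
      (Groth.Agent.Lib.Milnor.surj_B hsq) (Groth.Agent.Lib.Milnor.exists_lift_ker hsq)
  haveI : Module.Finite B' (EtMil.glue B' (phi B A' A D C' C)) := Module.Finite.iff_fg.mpr hfg
  exact Module.Finite.equiv e.symm

end Fin

/-- Finiteness and the two base-change squares for a morphism of fibre squares of commutative
rings. -/
theorem main_cat_fin {B' B A' A D' D C' C : CommRingCat.{u}}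
    {π₁ : B' ⟶ B} {π₂ : B' ⟶ A'} {q : B ⟶ A} {p : A' ⟶ A}
    (sq : FibSq π₁.hom π₂.hom q.hom p.hom) (hp : Function.Surjective p.hom)
    {π₁' : D' ⟶ D} {π₂' : D' ⟶ C'} {q' : D ⟶ C} {p' : C' ⟶ C}
    (sq' : FibSq π₁'.hom π₂'.hom q'.hom p'.hom) (hp' : Function.Surjective p'.hom)
    (φ : B' ⟶ D') (ψ : B ⟶ D) (χ : A' ⟶ C') (ω : A ⟶ C)
    (h1 : φ ≫ π₁' = π₁ ≫ ψ) (h2 : φ ≫ π₂' = π₂ ≫ χ)
    (po1 : IsPushout ψ q q' ω) (po2 : IsPushout χ p p' ω) :
    (ψ.hom.Finite → χ.hom.Finite → φ.hom.Finite) ∧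
    IsPushout φ π₁ π₁' ψ ∧ IsPushout φ π₂ π₂' χ := by
  letI : Algebra B' B := π₁.hom.toAlgebra
  letI : Algebra B' A' := π₂.hom.toAlgebra
  letI : Algebra B A := q.hom.toAlgebra
  letI : Algebra A' A := p.hom.toAlgebra
  letI : Algebra B' A := (π₁ ≫ q).hom.toAlgebra
  haveI : IsScalarTower B' B A := .of_algebraMap_eq' rfl
  haveI : IsScalarTower B' A' A := .of_algebraMap_eq' (by
    ext x; exact sq.comm x)
  letI : Algebra D' D := π₁'.hom.toAlgebra
  letI : Algebra D' C' := π₂'.hom.toAlgebra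
  letI : Algebra D C := q'.hom.toAlgebra
  letI : Algebra C' C := p'.hom.toAlgebra
  letI : Algebra D' C := (π₁' ≫ q').hom.toAlgebra
  haveI : IsScalarTower D' D C := .of_algebraMap_eq' rfl
  haveI : IsScalarTower D' C' C := .of_algebraMap_eq' (by
    ext x; exact sq'.comm x)
  letI : Algebra B' D' := φ.hom.toAlgebra
  letI : Algebra B D := ψ.hom.toAlgebra
  letI : Algebra A' C' := χ.hom.toAlgebra
  letI : Algebra A C := ω.hom.toAlgebra
  letI : Algebra B' D := (φ ≫ π₁').hom.toAlgebra
  haveI : IsScalarTower B' D' D := .of_algebraMap_eq' rfl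
  haveI : IsScalarTower B' B D := .of_algebraMap_eq' (by
    ext x; exact congr($(h1).hom x))
  letI : Algebra B' C' := (φ ≫ π₂').hom.toAlgebra
  haveI : IsScalarTower B' D' C' := .of_algebraMap_eq' rfl
  haveI : IsScalarTower B' A' C' := .of_algebraMap_eq' (by
    ext x; exact congr($(h2).hom x))
  letI : Algebra B C := (ψ ≫ q').hom.toAlgebra
  haveI : IsScalarTower B D C := .of_algebraMap_eq' rfl
  haveI : IsScalarTower B A C := .of_algebraMap_eq' (by
    ext x; exact congr($(po1.w).hom x))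
  letI : Algebra A' C := (χ ≫ p').hom.toAlgebra
  haveI : IsScalarTower A' C' C := .of_algebraMap_eq' rfl
  haveI : IsScalarTower A' A C := .of_algebraMap_eq' (by
    ext x; exact congr($(po2.w).hom x))
  haveI : Algebra.IsPushout B D A C := CommRingCat.isPushout_iff_isPushout.mp po1
  haveI : Algebra.IsPushout A' C' A C := CommRingCat.isPushout_iff_isPushout.mp po2
  have hsq : EtMil.IsFibreSquare B' B A' A := isFibreSquare_of_fibSq sq hp
  have hsq' : EtMil.IsFibreSquare D' D C' C := isFibreSquare_of_fibSq sq' hp'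
  refine ⟨?_, ?_, ?_⟩
  · intro hψ hχ
    haveI : Module.Finite B D := hψ
    haveI : Module.Finite A' C' := hχ
    exact finite_of hsq hsq'
  · haveI : Algebra.IsPushout B' D' B D := (isPushout_left hsq hsq').symm
    exact CommRingCat.isPushout_iff_isPushout.mpr (inferInstance : Algebra.IsPushout B' D' B D)
  · haveI : Algebra.IsPushout B' D' A' C' := (isPushout_right hsq hsq').symm
    exact CommRingCat.isPushout_iff_isPushout.mpr (inferInstance : Algebra.IsPushout B' D' A' C')

end Groth.Agent.MilnorAlg
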