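import Mathlib
import Groth.Agent.Lib.SchPushoutInt_helper5
import Groth.Agent.Lib.MilnorAlgCat_helper5

/-!
# Milnor patching of morphism properties over a pushout of two closed immersions (helper5)
-/

set_option autoImplicit false
universe u

namespace Groth.Agent.MilnorSch

open CategoryTheory Limits AlgebraicGeometry TopologicalSpace Opposite
open Groth.Agent.RSPushout Groth.Agent.FibSqLib Groth.Agent.ShPushout Groth.Agent.ShPushoutInt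

theorem haff_of_isClosedImmersion {X Y Z : Scheme.{u}} (i : Z ⟶ X) (j : Z ⟶ Y)
    [IsClosedImmersion j] :
    ∀ y : Y, ∃ U : X.Opens, IsAffineOpen U ∧ j ⁻¹' {y} ⊆ (i ⁻¹ᵁ U : Set ↑Z) := by
  intro y
  by_cases hy : ∃ z, j z = y
  · obtain ⟨z, rfl⟩ := hy
    obtain ⟨_, ⟨U, hU, rfl⟩, hzU, -⟩ := X.isBasis_affineOpens.exists_subset_of_mem_open
      (Set.mem_univ (i z)) isOpen_univ
    refine ⟨U, hU, ?_⟩
    intro z' hz'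
    have : z' = z := j.isEmbedding.injective hz'
    subst this
    exact hzU
  · refine ⟨⊥, isAffineOpen_bot X, ?_⟩
    intro z hz
    exact (hy ⟨z, hz⟩).elim

theorem appLE_congr {Z T : Scheme.{u}} {g₁ g₂ : Z ⟶ T} (e : g₁ = g₂) (U : T.Opens) (W : Z.Opens)
    (e₁ : W ≤ g₁ ⁻¹ᵁ U) (e₂ : W ≤ g₂ ⁻¹ᵁ U) : g₁.appLE U W e₁ = g₂.appLE U W e₂ := by
  subst e; rfl

section Good

variable {X Y Z Q : Scheme.{u}} (i : Z ⟶ X) (j : Z ⟶ Y) (a : X ⟶ Q) (b : Y ⟶ Q)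
  (hQ : IsPushout (G.map i) (G.map j) (G.map a) (G.map b))
  [IsClosedImmersion i] [IsIntegralHom j]
  (haff : ∀ y : Y, ∃ U : X.Opens, IsAffineOpen U ∧ j ⁻¹' {y} ⊆ (i ⁻¹ᵁ U : Set ↑Z))

include hQ haff in
theorem exists_good_le (W : Q.Opens) (p : Q) (hp : p ∈ W) :
    ∃ U : Q.Opens, p ∈ U ∧ U ≤ W ∧ IsAffineOpen U ∧ IsAffineOpen (a ⁻¹ᵁ U) ∧
      IsAffineOpen (b ⁻¹ᵁ U) := by
  obtain ⟨U₀, hp₀, hU₀, hXa, hYa⟩ := exists_good_sch' i j a b hQ haff p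
  obtain ⟨s, hsW, hps⟩ := hU₀.exists_basicOpen_le ⟨p, hp⟩ hp₀
  refine ⟨Q.basicOpen s, hps, hsW, hU₀.basicOpen s, ?_, ?_⟩
  · rw [Scheme.preimage_basicOpen]
    exact hXa.basicOpen _
  · rw [Scheme.preimage_basicOpen]
    exact hYa.basicOpen _

end Good

section Config

variable {X Y Z P X' Y' Z' P' : Scheme.{u}}
  (i : Z ⟶ X) (j : Z ⟶ Y) [IsClosedImmersion i] [IsClosedImmersion j] (a : X ⟶ P) (b : Y ⟶ P)
  (hG : IsPushout (G.map i) (G.map j) (G.map a) (G.map b))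
  (f : X' ⟶ X) (g : Y' ⟶ Y) (i' : Z' ⟶ X') (j' : Z' ⟶ Y')
  [IsClosedImmersion i'] [IsClosedImmersion j'] (c : Z' ⟶ Z)
  (hX : IsPullback i' c f i) (hY : IsPullback j' c g j)
  (a' : X' ⟶ P') (b' : Y' ⟶ P')
  (hG' : IsPushout (G.map i') (G.map j') (G.map a') (G.map b'))
  (h : P' ⟶ P) (ha : a' ≫ h = f ≫ a) (hb : b' ≫ h = g ≫ b)

include hG hX hY hG' ha hb in
/-- The ring-level statement on a pair of good affine opens. -/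
theorem config (U : P.Opens) (U' : P'.Opens) (hXa : IsAffineOpen (a ⁻¹ᵁ U))
    (hYa : IsAffineOpen (b ⁻¹ᵁ U)) (hXa' : IsAffineOpen (a' ⁻¹ᵁ U'))
    (hYa' : IsAffineOpen (b' ⁻¹ᵁ U')) (e : U' ≤ h ⁻¹ᵁ U)
    (eX : a' ⁻¹ᵁ U' ≤ f ⁻¹ᵁ (a ⁻¹ᵁ U)) (eY : b' ⁻¹ᵁ U' ≤ g ⁻¹ᵁ (b ⁻¹ᵁ U)) :
    ((h.appLE U U' e).hom.FiniteType ↔
      (g.appLE _ _ eY).hom.FiniteType ∧ (f.appLE _ _ eX).hom.FiniteType) ∧
    ((h.appLE U U' e).hom.Flat ↔ (g.appLE _ _ eY).hom.Flat ∧ (f.appLE _ _ eX).hom.Flat) ∧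
    (((h.appLE U U' e).hom.Flat ∧ (h.appLE U U' e).hom.FinitePresentation) ↔
      ((g.appLE _ _ eY).hom.Flat ∧ (g.appLE _ _ eY).hom.FinitePresentation) ∧
      ((f.appLE _ _ eX).hom.Flat ∧ (f.appLE _ _ eX).hom.FinitePresentation)) ∧
    ((h.appLE U U' e).hom.Smooth ↔ (g.appLE _ _ eY).hom.Smooth ∧ (f.appLE _ _ eX).hom.Smooth) ∧
    ((h.appLE U U' e).hom.Etale ↔ (g.appLE _ _ eY).hom.Etale ∧ (f.appLE _ _ eX).hom.Etale) := by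
  have sq := fibSq_sch' i j a b hG U
  have sq' := fibSq_sch' i' j' a' b' hG' U'
  have hp : Function.Surjective (i.app (a ⁻¹ᵁ U)).hom := Scheme.Hom.app_surjective i _ hXa
  have hp' : Function.Surjective (i'.app (a' ⁻¹ᵁ U')).hom := Scheme.Hom.app_surjective i' _ hXa'
  have hZa : IsAffineOpen (i ⁻¹ᵁ (a ⁻¹ᵁ U)) := hXa.preimage i
  -- the inclusion on `Z'`
  have eZ : i' ⁻¹ᵁ (a' ⁻¹ᵁ U') ≤ c ⁻¹ᵁ (i ⁻¹ᵁ (a ⁻¹ᵁ U)) := by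
    have h1 : c ⁻¹ᵁ (i ⁻¹ᵁ (a ⁻¹ᵁ U)) = i' ⁻¹ᵁ (a' ⁻¹ᵁ (h ⁻¹ᵁ U)) := by
      have h2 : c ≫ i ≫ a = i' ≫ a' ≫ h := by
        rw [ha, ← Category.assoc, ← hX.w, Category.assoc]
      rw [← Scheme.Hom.comp_preimage, ← Scheme.Hom.comp_preimage, ← Scheme.Hom.comp_preimage,
        ← Scheme.Hom.comp_preimage, Category.assoc, Category.assoc, h2]
    rw [h1]
    exact Scheme.Hom.preimage_mono i' (Scheme.Hom.preimage_mono a' e)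
  have eqZ := eqZ' i j a b hG U
  have eqZp := eqZ' i' j' a' b' hG' U'
  -- pushout squares of rings
  have po1 := (isIso_pushoutSection_iff hY (US := b ⁻¹ᵁ U) (UT := i ⁻¹ᵁ (a ⁻¹ᵁ U))
    (UX := b' ⁻¹ᵁ U') eqZ.le eY (UY := i' ⁻¹ᵁ (a' ⁻¹ᵁ U')) (by
      rw [← eqZp]
      exact (inf_eq_left.mpr eZ).symm)).mp
    (isIso_pushoutSection_of_isAffineOpen hY _ _ _ hYa hZa hYa')
  have po2 := (isIso_pushoutSection_iff hX (US := a ⁻¹ᵁ U) (UT := i ⁻¹ᵁ (a ⁻¹ᵁ U))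
    (UX := a' ⁻¹ᵁ U') le_rfl eX (UY := i' ⁻¹ᵁ (a' ⁻¹ᵁ U')) (by
      exact (inf_eq_left.mpr eZ).symm)).mp
    (isIso_pushoutSection_of_isAffineOpen hX _ _ _ hXa hZa hXa')
  refine Groth.Agent.MilnorAlg.main_cat sq hp sq' hp' (h.appLE U U' e) (g.appLE _ _ eY)
    (f.appLE _ _ eX) (c.appLE _ _ eZ) ?_ ?_ po1 ?_
  · rw [Scheme.Hom.app_eq_appLE, Scheme.Hom.app_eq_appLE, Scheme.Hom.appLE_comp_appLE,
      Scheme.Hom.appLE_comp_appLE]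
    exact appLE_congr hb _ _ _ _
  · rw [Scheme.Hom.app_eq_appLE, Scheme.Hom.app_eq_appLE, Scheme.Hom.appLE_comp_appLE,
      Scheme.Hom.appLE_comp_appLE]
    exact appLE_congr ha _ _ _ _
  · rw [Scheme.Hom.app_eq_appLE, Scheme.Hom.app_eq_appLE]
    exact po2

end Config

end Groth.Agent.MilnorSch
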