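import Mathlib
import Groth.Agent.Lib.MilnorSch_helper5
import Groth.Agent.Lib.MilnorAlgFin_helper5

/-!
# Milnor patching over a pushout of a closed immersion and an arbitrary morphism: the ring-level
statement on a pair of good affine opens (helper5)
-/

set_option autoImplicit false
universe u

namespace Groth.Agent.FEtPinch

open CategoryTheory Limits AlgebraicGeometry TopologicalSpace Opposite
open Groth.Agent.RSPushout Groth.Agent.FibSqLib Groth.Agent.ShPushout Groth.Agent.ShPushoutInt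
open Groth.Agent.MilnorSch

section Config

variable {X Y Z P X' Y' Z' P' : Scheme.{u}}
  (i : Z ⟶ X) (j : Z ⟶ Y) [IsClosedImmersion i] (a : X ⟶ P) (b : Y ⟶ P)
  (hG : IsPushout (G.map i) (G.map j) (G.map a) (G.map b))
  (f : X' ⟶ X) (g : Y' ⟶ Y) (i' : Z' ⟶ X') (j' : Z' ⟶ Y')
  [IsClosedImmersion i'] (c : Z' ⟶ Z)
  (hX : IsPullback i' c f i) (hY : IsPullback j' c g j)
  (a' : X' ⟶ P') (b' : Y' ⟶ P')
  (hG' : IsPushout (G.map i') (G.map j') (G.map a') (G.map b'))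
  (h : P' ⟶ P) (ha : a' ≫ h = f ≫ a) (hb : b' ≫ h = g ≫ b)

include hG hX hY hG' ha hb in
/-- The ring-level statement on a pair of good affine opens. -/
theorem config' (U : P.Opens) (U' : P'.Opens) (hXa : IsAffineOpen (a ⁻¹ᵁ U))
    (hYa : IsAffineOpen (b ⁻¹ᵁ U)) (hXa' : IsAffineOpen (a' ⁻¹ᵁ U'))
    (hYa' : IsAffineOpen (b' ⁻¹ᵁ U')) (e : U' ≤ h ⁻¹ᵁ U)
    (eX : a' ⁻¹ᵁ U' ≤ f ⁻¹ᵁ (a ⁻¹ᵁ U)) (eY : b' ⁻¹ᵁ U' ≤ g ⁻¹ᵁ (b ⁻¹ᵁ U)) :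
    ((h.appLE U U' e).hom.Etale ↔ (g.appLE _ _ eY).hom.Etale ∧ (f.appLE _ _ eX).hom.Etale) ∧
    ((g.appLE _ _ eY).hom.Finite → (f.appLE _ _ eX).hom.Finite → (h.appLE U U' e).hom.Finite) ∧
    IsPushout (h.appLE U U' e) (b.app U) (b'.app U') (g.appLE _ _ eY) ∧
    IsPushout (h.appLE U U' e) (a.app U) (a'.app U') (f.appLE _ _ eX) := by
  have sq := fibSq_sch' i j a b hG U
  have sq' := fibSq_sch' i' j' a' b' hG' U'
  have hp : Function.Surjective (i.app (a ⁻¹ᵁ U)).hom := Scheme.Hom.app_surjective i _ hXa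
  have hp' : Function.Surjective (i'.app (a' ⁻¹ᵁ U')).hom := Scheme.Hom.app_surjective i' _ hXa'
  have hZa : IsAffineOpen (i ⁻¹ᵁ (a ⁻¹ᵁ U)) := hXa.preimage i
  have eZ : i' ⁻¹ᵁ (a' ⁻¹ᵁ U') ≤ c ⁻¹ᵁ (i ⁻¹ᵁ (a ⁻¹ᵁ U)) := by
    have h1 : c ⁻¹ᵁ (i ⁻¹ᵁ (a ⁻¹ᵁ U)) = i' ⁻¹ᵁ (a' ⁻¹ᵁ (h ⁻¹ᵁ U)) := by
      have h2 : c ≫ i ≫ a = i' ≫ a' ≫ h := by
        rw [ha, ← Category.assoc, ← hX.w, Category.assoc]
      rw [← Scheme.Hom.comp_preimage, ← Scheme.Hom.comp_preimage, ← Scheme.Hom.comp_preimage,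
        ← Scheme.Hom.comp_preimage, Category.assoc, Category.assoc, h2]
    rw [h1]
    exact Scheme.Hom.preimage_mono i' (Scheme.Hom.preimage_mono a' e)
  have eqZ := eqZ' i j a b hG U
  have eqZp := eqZ' i' j' a' b' hG' U'
  have po1 := (isIso_pushoutSection_iff hY (US := b ⁻¹ᵁ U) (UT := i ⁻¹ᵁ (a ⁻¹ᵁ U))
    (UX := b' ⁻¹ᵁ U') eqZ.le eY (UY := i' ⁻¹ᵁ (a' ⁻¹ᵁ U')) (by
      rw [← eqZp]
      exact (inf_eq_left.mpr eZ).symm)).mp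
    (isIso_pushoutSection_of_isAffineOpen hY _ _ _ hYa hZa hYa')
  have po2 := (isIso_pushoutSection_iff hX (US := a ⁻¹ᵁ U) (UT := i ⁻¹ᵁ (a ⁻¹ᵁ U))
    (UX := a' ⁻¹ᵁ U') le_rfl eX (UY := i' ⁻¹ᵁ (a' ⁻¹ᵁ U')) (by
      exact (inf_eq_left.mpr eZ).symm)).mp
    (isIso_pushoutSection_of_isAffineOpen hX _ _ _ hXa hZa hXa')
  have h1 : h.appLE U U' e ≫ b'.app U' = b.app U ≫ g.appLE _ _ eY := by
    rw [Scheme.Hom.app_eq_appLE, Scheme.Hom.app_eq_appLE, Scheme.Hom.appLE_comp_appLE,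
      Scheme.Hom.appLE_comp_appLE]
    exact appLE_congr hb _ _ _ _
  have h2 : h.appLE U U' e ≫ a'.app U' = a.app U ≫ f.appLE _ _ eX := by
    rw [Scheme.Hom.app_eq_appLE, Scheme.Hom.app_eq_appLE, Scheme.Hom.appLE_comp_appLE,
      Scheme.Hom.appLE_comp_appLE]
    exact appLE_congr ha _ _ _ _
  have po2' : IsPushout (f.appLE _ _ eX) (i.app (a ⁻¹ᵁ U)) (i'.app (a' ⁻¹ᵁ U'))
      (c.appLE _ _ eZ) := by
    rw [Scheme.Hom.app_eq_appLE, Scheme.Hom.app_eq_appLE]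
    exact po2
  have m1 := Groth.Agent.MilnorAlg.main_cat sq hp sq' hp' (h.appLE U U' e) (g.appLE _ _ eY)
    (f.appLE _ _ eX) (c.appLE _ _ eZ) h1 h2 po1 po2'
  have m2 := Groth.Agent.MilnorAlg.main_cat_fin sq hp sq' hp' (h.appLE U U' e) (g.appLE _ _ eY)
    (f.appLE _ _ eX) (c.appLE _ _ eZ) h1 h2 po1 po2'
  exact ⟨m1.2.2.2.2, m2.1, m2.2.1, m2.2.2⟩

end Config

end Groth.Agent.FEtPinch
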