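import Mathlib
import Groth.Agent.Lib.MilnorSch_helper5
import Groth.Agent.Lib.SchPushoutIntUniq_helper5

/-!
# Milnor patching of morphism properties over a pushout of two closed immersions: main (helper5)
-/

set_option autoImplicit false
universe u

namespace Groth.Agent.MilnorSch

open CategoryTheory Limits AlgebraicGeometry TopologicalSpace Opposite
open Groth.Agent.RSPushout Groth.Agent.FibSqLib Groth.Agent.ShPushout Groth.Agent.ShPushoutInt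

section Generic

variable {P₁ P₂ : MorphismProperty Scheme.{u}}
  {Q₁ Q₂ : ∀ {R S : Type u} [CommRing R] [CommRing S], (R →+* S) → Prop}
  [HasRingHomProperty P₁ Q₁] [HasRingHomProperty P₂ Q₂]

theorem iff_of_config₂
    (hQ₁ : RingHom.StableUnderCompositionWithLocalizationAwaySource Q₁)
    (hQ₂ : RingHom.StableUnderCompositionWithLocalizationAwaySource Q₂)
    {X Y P X' Y' P' : Scheme.{u}} (a : X ⟶ P) (b : Y ⟶ P) (f : X' ⟶ X) (g : Y' ⟶ Y)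
    (a' : X' ⟶ P') (b' : Y' ⟶ P') (h : P' ⟶ P)
    (hcfg : ∀ p' : P', ∃ (U : P.Opens) (U' : P'.Opens) (_ : IsAffineOpen U)
      (_ : IsAffineOpen U') (_ : IsAffineOpen (a ⁻¹ᵁ U)) (_ : IsAffineOpen (b ⁻¹ᵁ U))
      (_ : IsAffineOpen (a' ⁻¹ᵁ U')) (_ : IsAffineOpen (b' ⁻¹ᵁ U')) (e : U' ≤ h ⁻¹ᵁ U)
      (eX : a' ⁻¹ᵁ U' ≤ f ⁻¹ᵁ (a ⁻¹ᵁ U)) (eY : b' ⁻¹ᵁ U' ≤ g ⁻¹ᵁ (b ⁻¹ᵁ U)), p' ∈ U' ∧
      ((Q₁ (h.appLE U U' e).hom ∧ Q₂ (h.appLE U U' e).hom) ↔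
        (Q₁ (g.appLE _ _ eY).hom ∧ Q₂ (g.appLE _ _ eY).hom) ∧
        (Q₁ (f.appLE _ _ eX).hom ∧ Q₂ (f.appLE _ _ eX).hom))) :
    (P₁ h ∧ P₂ h) ↔ (P₁ f ∧ P₂ f) ∧ (P₁ g ∧ P₂ g) := by
  constructor
  · rintro ⟨h1, h2⟩
    have key : ∀ p' : P', ∃ (U : P.Opens) (U' : P'.Opens) (_ : IsAffineOpen U)
      (_ : IsAffineOpen U') (_ : IsAffineOpen (a ⁻¹ᵁ U)) (_ : IsAffineOpen (b ⁻¹ᵁ U))
      (_ : IsAffineOpen (a' ⁻¹ᵁ U')) (_ : IsAffineOpen (b' ⁻¹ᵁ U'))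
      (eX : a' ⁻¹ᵁ U' ≤ f ⁻¹ᵁ (a ⁻¹ᵁ U)) (eY : b' ⁻¹ᵁ U' ≤ g ⁻¹ᵁ (b ⁻¹ᵁ U)), p' ∈ U' ∧
        (Q₁ (g.appLE _ _ eY).hom ∧ Q₂ (g.appLE _ _ eY).hom) ∧
        (Q₁ (f.appLE _ _ eX).hom ∧ Q₂ (f.appLE _ _ eX).hom) := by
      intro p'
      obtain ⟨U, U', hU, hU', hXa, hYa, hXa', hYa', e, eX, eY, hp, hiff⟩ := hcfg p'
      exact ⟨U, U', hU, hU', hXa, hYa, hXa', hYa', eX, eY, hp,
        hiff.1 ⟨HasRingHomProperty.appLE P₁ h h1 ⟨U, hU⟩ ⟨U', hU'⟩ e,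
          HasRingHomProperty.appLE P₂ h h2 ⟨U, hU⟩ ⟨U', hU'⟩ e⟩⟩
    refine ⟨⟨?_, ?_⟩, ⟨?_, ?_⟩⟩
    · rw [HasRingHomProperty.iff_exists_appLE (P := P₁) hQ₁]
      intro x'
      obtain ⟨U, U', hU, hU', hXa, hYa, hXa', hYa', eX, eY, hp, hg, hf⟩ := key (a' x')
      exact ⟨⟨_, hXa⟩, ⟨_, hXa'⟩, hp, eX, hf.1⟩
    · rw [HasRingHomProperty.iff_exists_appLE (P := P₂) hQ₂]
      intro x'
      obtain ⟨U, U', hU, hU', hXa, hYa, hXa', hYa', eX, eY, hp, hg, hf⟩ := key (a' x')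
      exact ⟨⟨_, hXa⟩, ⟨_, hXa'⟩, hp, eX, hf.2⟩
    · rw [HasRingHomProperty.iff_exists_appLE (P := P₁) hQ₁]
      intro y'
      obtain ⟨U, U', hU, hU', hXa, hYa, hXa', hYa', eX, eY, hp, hg, hf⟩ := key (b' y')
      exact ⟨⟨_, hYa⟩, ⟨_, hYa'⟩, hp, eY, hg.1⟩
    · rw [HasRingHomProperty.iff_exists_appLE (P := P₂) hQ₂]
      intro y'
      obtain ⟨U, U', hU, hU', hXa, hYa, hXa', hYa', eX, eY, hp, hg, hf⟩ := key (b' y')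
      exact ⟨⟨_, hYa⟩, ⟨_, hYa'⟩, hp, eY, hg.2⟩
  · rintro ⟨⟨hf1, hf2⟩, ⟨hg1, hg2⟩⟩
    have key : ∀ p' : P', ∃ (U : P.Opens) (U' : P'.Opens) (_ : IsAffineOpen U)
      (_ : IsAffineOpen U') (e : U' ≤ h ⁻¹ᵁ U), p' ∈ U' ∧
        (Q₁ (h.appLE U U' e).hom ∧ Q₂ (h.appLE U U' e).hom) := by
      intro p'
      obtain ⟨U, U', hU, hU', hXa, hYa, hXa', hYa', e, eX, eY, hp, hiff⟩ := hcfg p'
      exact ⟨U, U', hU, hU', e, hp, hiff.2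
        ⟨⟨HasRingHomProperty.appLE P₁ g hg1 ⟨_, hYa⟩ ⟨_, hYa'⟩ eY,
          HasRingHomProperty.appLE P₂ g hg2 ⟨_, hYa⟩ ⟨_, hYa'⟩ eY⟩,
        ⟨HasRingHomProperty.appLE P₁ f hf1 ⟨_, hXa⟩ ⟨_, hXa'⟩ eX,
          HasRingHomProperty.appLE P₂ f hf2 ⟨_, hXa⟩ ⟨_, hXa'⟩ eX⟩⟩⟩
    constructor
    · rw [HasRingHomProperty.iff_exists_appLE (P := P₁) hQ₁]
      intro p'
      obtain ⟨U, U', hU, hU', e, hp, hq⟩ := key p'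
      exact ⟨⟨U, hU⟩, ⟨U', hU'⟩, hp, e, hq.1⟩
    · rw [HasRingHomProperty.iff_exists_appLE (P := P₂) hQ₂]
      intro p'
      obtain ⟨U, U', hU, hU', e, hp, hq⟩ := key p'
      exact ⟨⟨U, hU⟩, ⟨U', hU'⟩, hp, e, hq.2⟩

end Generic

theorem etale_holdsForLocalizationAway : RingHom.HoldsForLocalizationAway RingHom.Etale := by
  introv R h
  rw [RingHom.etale_algebraMap]
  exact Algebra.Etale.of_isLocalizationAway r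

section Main

variable {X Y Z P X' Y' Z' P' : Scheme.{u}}
  (i : Z ⟶ X) (j : Z ⟶ Y) [IsClosedImmersion i] [IsClosedImmersion j] (a : X ⟶ P) (b : Y ⟶ P)
  (hP : IsPushout i j a b)
  (f : X' ⟶ X) (g : Y' ⟶ Y) (i' : Z' ⟶ X') (j' : Z' ⟶ Y') (c : Z' ⟶ Z)
  (hX : IsPullback i' c f i) (hY : IsPullback j' c g j)
  (a' : X' ⟶ P') (b' : Y' ⟶ P') (hP' : IsPushout i' j' a' b')
  (h : P' ⟶ P) (ha : a' ≫ h = f ≫ a) (hb : b' ≫ h = g ≫ b)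

include hP hX hY hP' ha hb in
theorem exists_config (p' : P') : ∃ (U : P.Opens) (U' : P'.Opens) (_ : IsAffineOpen U)
    (_ : IsAffineOpen U') (_ : IsAffineOpen (a ⁻¹ᵁ U)) (_ : IsAffineOpen (b ⁻¹ᵁ U))
    (_ : IsAffineOpen (a' ⁻¹ᵁ U')) (_ : IsAffineOpen (b' ⁻¹ᵁ U')) (e : U' ≤ h ⁻¹ᵁ U)
    (eX : a' ⁻¹ᵁ U' ≤ f ⁻¹ᵁ (a ⁻¹ᵁ U)) (eY : b' ⁻¹ᵁ U' ≤ g ⁻¹ᵁ (b ⁻¹ᵁ U)), p' ∈ U' ∧
    (((h.appLE U U' e).hom.FiniteType ↔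
      (g.appLE _ _ eY).hom.FiniteType ∧ (f.appLE _ _ eX).hom.FiniteType) ∧
    ((h.appLE U U' e).hom.Flat ↔ (g.appLE _ _ eY).hom.Flat ∧ (f.appLE _ _ eX).hom.Flat) ∧
    (((h.appLE U U' e).hom.Flat ∧ (h.appLE U U' e).hom.FinitePresentation) ↔
      ((g.appLE _ _ eY).hom.Flat ∧ (g.appLE _ _ eY).hom.FinitePresentation) ∧
      ((f.appLE _ _ eX).hom.Flat ∧ (f.appLE _ _ eX).hom.FinitePresentation)) ∧
    ((h.appLE U U' e).hom.Smooth ↔ (g.appLE _ _ eY).hom.Smooth ∧ (f.appLE _ _ eX).hom.Smooth) ∧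
    ((h.appLE U U' e).hom.Etale ↔ (g.appLE _ _ eY).hom.Etale ∧ (f.appLE _ _ eX).hom.Etale)) := by
  haveI : IsClosedImmersion i' := MorphismProperty.of_isPullback hX.flip inferInstance
  haveI : IsClosedImmersion j' := MorphismProperty.of_isPullback hY.flip inferInstance
  have haff := haff_of_isClosedImmersion i j
  have haff' := haff_of_isClosedImmersion i' j'
  have hG := isPushout_G_of_isPushout' i j haff a b hP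
  have hG' := isPushout_G_of_isPushout' i' j' haff' a' b' hP'
  obtain ⟨U, hpU, hU, hXa, hYa⟩ := exists_good_sch' i j a b hG haff (h p')
  obtain ⟨U', hpU', hle, hU', hXa', hYa'⟩ :=
    exists_good_le i' j' a' b' hG' haff' (h ⁻¹ᵁ U) p' hpU
  have eX : a' ⁻¹ᵁ U' ≤ f ⁻¹ᵁ (a ⁻¹ᵁ U) := by
    rw [← Scheme.Hom.comp_preimage, ← ha, Scheme.Hom.comp_preimage]
    exact Scheme.Hom.preimage_mono a' hle
  have eY : b' ⁻¹ᵁ U' ≤ g ⁻¹ᵁ (b ⁻¹ᵁ U) := by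
    rw [← Scheme.Hom.comp_preimage, ← hb, Scheme.Hom.comp_preimage]
    exact Scheme.Hom.preimage_mono b' hle
  exact ⟨U, U', hU, hU', hXa, hYa, hXa', hYa', hle, eX, eY, hpU',
    config i j a b hG f g i' j' c hX hY a' b' hG' h ha hb U U' hXa hYa hXa' hYa' hle eX eY⟩

end Main

end Groth.Agent.MilnorSch
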