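import Mathlib
import Groth.Agent.Lib.FEtPinchSch_helper5
import Groth.Agent.Lib.SchPushoutIntUniq_helper5
import Groth.Agent.Lib.MilnorSchMain_helper5

/-!
# Gluing finite étale covers along a pinching (helper5)
-/

set_option autoImplicit false
universe u

namespace Groth.Agent.FEtPinch

open CategoryTheory Limits AlgebraicGeometry TopologicalSpace Opposite
open Groth.Agent.RSPushout Groth.Agent.FibSqLib Groth.Agent.ShPushout Groth.Agent.ShPushoutInt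
open Groth.Agent.MilnorSch

theorem finite_appLE_of_eq {X Y : Scheme.{u}} (f : X ⟶ Y) [IsFinite f] {U : Y.Opens}
    (hU : IsAffineOpen U) {V : X.Opens} (hV : V = f ⁻¹ᵁ U) (e : V ≤ f ⁻¹ᵁ U) :
    (f.appLE U V e).hom.Finite := by
  subst hV
  rw [← Scheme.Hom.app_eq_appLE]
  exact IsFinite.finite_app f U hU

theorem isFinite_of_cover {X Y : Scheme.{u}} (f : X ⟶ Y)
    (H : ∀ y : Y, ∃ U : Y.Opens, y ∈ U ∧ IsAffineOpen U ∧ IsAffineOpen (f ⁻¹ᵁ U) ∧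
      (f.app U).hom.Finite) : IsFinite f := by
  choose U hU using H
  refine HasAffineProperty.of_iSup_eq_top (P := @IsFinite)
    (fun p => ⟨U p, (hU p).2.1⟩) ?_ ?_
  · rw [eq_top_iff]
    intro p _
    exact Opens.mem_iSup.mpr ⟨p, (hU p).1⟩
  · intro p
    refine ⟨(hU p).2.2.1, ?_⟩
    show ((f ∣_ U p).appTop).hom.Finite
    rw [morphismRestrict_appTop]
    have h0 : (U p).ι ''ᵁ ⊤ = U p := by simp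
    have h1 : (f.app ((U p).ι ''ᵁ ⊤)).hom.Finite := by
      rw [h0]
      exact (hU p).2.2.2
    have h2 := (ConcreteCategory.bijective_of_isIso (X.presheaf.map
      (eqToHom (image_morphismRestrict_preimage f (U p) ⊤)).op)).2
    have h3 : ((f.app ((U p).ι ''ᵁ ⊤)) ≫ X.presheaf.map
        (eqToHom (image_morphismRestrict_preimage f (U p) ⊤)).op).hom.Finite := by
      rw [CommRingCat.hom_comp]
      exact RingHom.Finite.comp (RingHom.Finite.of_surjective _ h2) h1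
    exact h3

section Glue

variable {Z X Y W : Scheme.{u}} (i : Z ⟶ X) [IsClosedImmersion i] (j : Z ⟶ Y) [IsIntegralHom j]
  (haff : ∀ y : Y, ∃ U : X.Opens, IsAffineOpen U ∧ j ⁻¹' {y} ⊆ (i ⁻¹ᵁ U : Set ↑Z))
  (a : X ⟶ W) (b : Y ⟶ W) (hpo : IsPushout i j a b)
  {U₁ V₁ Z₁ : Scheme.{u}} (u : U₁ ⟶ X) (v : V₁ ⟶ Y) [IsFinite u] [Etale u] [IsFinite v] [Etale v]
  (i₁ : Z₁ ⟶ U₁) (j₁ : Z₁ ⟶ V₁) (c : Z₁ ⟶ Z) (hX : IsPullback i₁ c u i) (hY : IsPullback j₁ c v j)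

include haff hX hY in
theorem haff₁ : ∀ y : V₁, ∃ U : U₁.Opens, IsAffineOpen U ∧ j₁ ⁻¹' {y} ⊆ (i₁ ⁻¹ᵁ U : Set ↑Z₁) := by
  intro v₁
  obtain ⟨X₀, hX₀, hsub⟩ := haff (v v₁)
  refine ⟨u ⁻¹ᵁ X₀, hX₀.preimage u, ?_⟩
  intro z₁ hz₁
  have h1 : j (c z₁) = v v₁ := by
    rw [← Scheme.Hom.comp_apply, ← hY.w, Scheme.Hom.comp_apply]
    exact congrArg v hz₁
  have h2 : i (c z₁) ∈ X₀ := hsub h1
  show u (i₁ z₁) ∈ X₀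
  rw [← Scheme.Hom.comp_apply, hX.w, Scheme.Hom.comp_apply]
  exact h2

include haff hpo hX hY in
/-- The glued scheme with its finite étale morphism to the pinching, together with the local data. -/
theorem exists_glue_aux : ∃ (T : Scheme.{u}) (k : T ⟶ W) (a₁ : U₁ ⟶ T) (b₁ : V₁ ⟶ T),
    IsFinite k ∧ Etale k ∧ a₁ ≫ k = u ≫ a ∧ b₁ ≫ k = v ≫ b ∧
    ∀ w : W, ∃ W₀ : W.Opens, w ∈ W₀ ∧ IsAffineOpen W₀ ∧ IsAffineOpen (a ⁻¹ᵁ W₀) ∧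
      IsAffineOpen (b ⁻¹ᵁ W₀) ∧ IsAffineOpen (k ⁻¹ᵁ W₀) ∧
      ∃ (eX : a₁ ⁻¹ᵁ (k ⁻¹ᵁ W₀) = u ⁻¹ᵁ (a ⁻¹ᵁ W₀)) (eY : b₁ ⁻¹ᵁ (k ⁻¹ᵁ W₀) = v ⁻¹ᵁ (b ⁻¹ᵁ W₀)),
        IsPushout (k.appLE W₀ (k ⁻¹ᵁ W₀) le_rfl) (b.app W₀) (b₁.app (k ⁻¹ᵁ W₀))
          (v.appLE _ _ eY.le) ∧
        IsPushout (k.appLE W₀ (k ⁻¹ᵁ W₀) le_rfl) (a.app W₀) (a₁.app (k ⁻¹ᵁ W₀))
          (u.appLE _ _ eX.le) := by
  haveI : IsClosedImmersion i₁ := MorphismProperty.of_isPullback hX.flip inferInstance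
  haveI : IsIntegralHom j₁ := MorphismProperty.of_isPullback hY.flip inferInstance
  have hf₁ := haff₁ i j haff u v i₁ j₁ c hX hY
  have hG₁ := isPushout_PS' i₁ j₁ hf₁
  obtain ⟨a₁, ha₁⟩ : ∃ a₁ : U₁ ⟶ PS' i₁ j₁ hf₁, a₁ = inlS' i₁ j₁ hf₁ := ⟨_, rfl⟩
  obtain ⟨b₁, hb₁⟩ : ∃ b₁ : V₁ ⟶ PS' i₁ j₁ hf₁, b₁ = inrS' i₁ j₁ hf₁ := ⟨_, rfl⟩
  rw [← ha₁, ← hb₁] at hG₁
  have hT : IsPushout i₁ j₁ a₁ b₁ := isPushout_of_G _ _ _ _ hG₁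
  have hw : i₁ ≫ u ≫ a = j₁ ≫ v ≫ b := by
    rw [← Category.assoc, hX.w, ← Category.assoc, hY.w, Category.assoc, Category.assoc, hpo.w]
  obtain ⟨k, hk⟩ : ∃ k, k = hT.desc (u ≫ a) (v ≫ b) hw := ⟨_, rfl⟩
  have ha : a₁ ≫ k = u ≫ a := by rw [hk]; exact hT.inl_desc _ _ _
  have hb : b₁ ≫ k = v ≫ b := by rw [hk]; exact hT.inr_desc _ _ _
  have hG := isPushout_G_of_isPushout' i j haff a b hpo
  have hloc : ∀ w : W, ∃ W₀ : W.Opens, w ∈ W₀ ∧ IsAffineOpen W₀ ∧ IsAffineOpen (a ⁻¹ᵁ W₀) ∧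
      IsAffineOpen (b ⁻¹ᵁ W₀) ∧ IsAffineOpen (k ⁻¹ᵁ W₀) ∧
      ∃ (eX : a₁ ⁻¹ᵁ (k ⁻¹ᵁ W₀) = u ⁻¹ᵁ (a ⁻¹ᵁ W₀))
        (eY : b₁ ⁻¹ᵁ (k ⁻¹ᵁ W₀) = v ⁻¹ᵁ (b ⁻¹ᵁ W₀)),
        (k.appLE W₀ (k ⁻¹ᵁ W₀) le_rfl).hom.Etale ∧ (k.appLE W₀ (k ⁻¹ᵁ W₀) le_rfl).hom.Finite ∧
        IsPushout (k.appLE W₀ (k ⁻¹ᵁ W₀) le_rfl) (b.app W₀) (b₁.app (k ⁻¹ᵁ W₀))
          (v.appLE _ _ eY.le) ∧
        IsPushout (k.appLE W₀ (k ⁻¹ᵁ W₀) le_rfl) (a.app W₀) (a₁.app (k ⁻¹ᵁ W₀))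
          (u.appLE _ _ eX.le) := by
    intro w
    obtain ⟨W₀, hw, hW₀, hXa, hYa⟩ := exists_good_sch' i j a b hG haff w
    have e1 : a₁ ⁻¹ᵁ (k ⁻¹ᵁ W₀) = u ⁻¹ᵁ (a ⁻¹ᵁ W₀) := by
      rw [← Scheme.Hom.comp_preimage, ha, Scheme.Hom.comp_preimage]
    have e2 : b₁ ⁻¹ᵁ (k ⁻¹ᵁ W₀) = v ⁻¹ᵁ (b ⁻¹ᵁ W₀) := by
      rw [← Scheme.Hom.comp_preimage, hb, Scheme.Hom.comp_preimage]
    have h1 : IsAffineOpen (a₁ ⁻¹ᵁ (k ⁻¹ᵁ W₀)) := by rw [e1]; exact hXa.preimage u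
    have h2 : IsAffineOpen (b₁ ⁻¹ᵁ (k ⁻¹ᵁ W₀)) := by rw [e2]; exact hYa.preimage v
    have hT₀ : IsAffineOpen (k ⁻¹ᵁ W₀) := isAffineOpen_of_good' i₁ j₁ a₁ b₁ hG₁ _ h1 h2
    have cfg := config' i j a b hG u v i₁ j₁ c hX hY a₁ b₁ hG₁ k ha hb W₀ (k ⁻¹ᵁ W₀) hXa hYa
      h1 h2 le_rfl e1.le e2.le
    have hvE : (v.appLE _ _ e2.le).hom.Etale :=
      HasRingHomProperty.appLE @Etale v inferInstance ⟨_, hYa⟩ ⟨_, h2⟩ e2.le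
    have huE : (u.appLE _ _ e1.le).hom.Etale :=
      HasRingHomProperty.appLE @Etale u inferInstance ⟨_, hXa⟩ ⟨_, h1⟩ e1.le
    exact ⟨W₀, hw, hW₀, hXa, hYa, hT₀, e1, e2, cfg.1.2 ⟨hvE, huE⟩,
      cfg.2.1 (finite_appLE_of_eq v hYa e2 e2.le) (finite_appLE_of_eq u hXa e1 e1.le),
      cfg.2.2.1, cfg.2.2.2⟩
  have hfin : IsFinite k := by
    refine isFinite_of_cover k (fun w => ?_)
    obtain ⟨W₀, hw, hW₀, -, -, hT₀, -, -, -, hF, -, -⟩ := hloc w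
    refine ⟨W₀, hw, hW₀, hT₀, ?_⟩
    rw [Scheme.Hom.app_eq_appLE]
    exact hF
  have het : Etale k := by
    have sEt := (RingHom.Etale.stableUnderComposition.stableUnderCompositionWithLocalizationAway
      etale_holdsForLocalizationAway).left
    rw [HasRingHomProperty.iff_exists_appLE (P := @Etale) sEt]
    intro t
    obtain ⟨W₀, hw, hW₀, -, -, hT₀, -, -, hE, -, -, -⟩ := hloc (k t)
    exact ⟨⟨W₀, hW₀⟩, ⟨k ⁻¹ᵁ W₀, hT₀⟩, hw, le_rfl, hE⟩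
  refine ⟨_, k, a₁, b₁, hfin, het, ha, hb, fun w => ?_⟩
  obtain ⟨W₀, hw, hW₀, hXa, hYa, hT₀, e1, e2, -, -, p1, p2⟩ := hloc w
  exact ⟨W₀, hw, hW₀, hXa, hYa, hT₀, e1, e2, p1, p2⟩

end Glue

end Groth.Agent.FEtPinch
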