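import Mathlib
import Groth.Agent.Lib.FEtPinchGlue_helper5

/-!
# Pullback squares from local pushout squares of sections (helper5)
-/

set_option autoImplicit false
universe u

namespace Groth.Agent.FEtPinch

open CategoryTheory Limits AlgebraicGeometry TopologicalSpace Opposite
open Groth.Agent.MilnorSch

theorem isIso_of_cover {X Y : Scheme.{u}} (f : X ⟶ Y)
    (H : ∀ y : Y, ∃ (U : Y.Opens) (V : X.Opens) (e : V = f ⁻¹ᵁ U), y ∈ U ∧ IsAffineOpen U ∧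
      IsAffineOpen V ∧ IsIso (f.appLE U V e.le)) : IsIso f := by
  choose U V e hU using H
  refine HasAffineProperty.of_iSup_eq_top (P := MorphismProperty.isomorphisms Scheme)
    (fun p => ⟨U p, (hU p).2.1⟩) ?_ ?_
  · rw [eq_top_iff]
    intro p _
    exact Opens.mem_iSup.mpr ⟨p, (hU p).1⟩
  · intro p
    have hV : IsAffineOpen (f ⁻¹ᵁ U p) := by rw [← e p]; exact (hU p).2.2.1
    refine ⟨hV, ?_⟩
    show IsIso ((f ∣_ U p).appTop)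
    rw [morphismRestrict_appTop]
    have h0 : (U p).ι ''ᵁ ⊤ = U p := by simp
    have h1 : ∀ (U' : Y.Opens) (hU' : U' = U p), IsIso (f.app U') := by
      intro U' hU'
      subst hU'
      have h2 := (hU p).2.2.2
      have h3 : ∀ (V' : X.Opens) (e' : V' = f ⁻¹ᵁ U p), IsIso (f.appLE (U p) V' e'.le) →
          IsIso (f.app (U p)) := by
        intro V' e' h
        subst e'
        rw [Scheme.Hom.app_eq_appLE]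
        exact h
      exact h3 _ (e p) h2
    have h4 : IsIso (X.presheaf.map
        (eqToHom (image_morphismRestrict_preimage f (U p) ⊤)).op) := inferInstance
    exact @IsIso.comp_isIso _ _ _ _ _ _ _ (h1 _ h0) h4

theorem isPullback_of_local {T W X U₁ : Scheme.{u}} (k : T ⟶ W) (a : X ⟶ W) (a₁ : U₁ ⟶ T)
    (u : U₁ ⟶ X) (ha : a₁ ≫ k = u ≫ a)
    (H : ∀ w : W, ∃ W₀ : W.Opens, w ∈ W₀ ∧ IsAffineOpen W₀ ∧ IsAffineOpen (a ⁻¹ᵁ W₀) ∧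
      IsAffineOpen (k ⁻¹ᵁ W₀) ∧ IsAffineOpen (u ⁻¹ᵁ (a ⁻¹ᵁ W₀)) ∧
      ∃ (eX : a₁ ⁻¹ᵁ (k ⁻¹ᵁ W₀) = u ⁻¹ᵁ (a ⁻¹ᵁ W₀)),
        IsPushout (k.appLE W₀ (k ⁻¹ᵁ W₀) le_rfl) (a.app W₀) (a₁.app (k ⁻¹ᵁ W₀))
          (u.appLE _ _ eX.le)) :
    IsPullback a₁ u k a := by
  obtain ⟨θ, hθ⟩ : ∃ θ : U₁ ⟶ pullback k a, θ = pullback.lift a₁ u ha := ⟨_, rfl⟩
  have hθ1 : θ ≫ pullback.fst k a = a₁ := by rw [hθ]; exact pullback.lift_fst _ _ _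
  have hθ2 : θ ≫ pullback.snd k a = u := by rw [hθ]; exact pullback.lift_snd _ _ _
  suffices IsIso θ from
    IsPullback.of_iso_pullback ⟨ha⟩ (asIso θ) (by simpa using hθ1) (by simpa using hθ2)
  refine isIso_of_cover θ (fun p => ?_)
  obtain ⟨W₀, hw, hW₀, hX₀, hT₀, hU₀, eX, hpo⟩ := H ((pullback.fst k a ≫ k) p)
  have HP := IsPullback.of_hasPullback k a
  obtain ⟨Ω, hΩ⟩ : ∃ Ω : (pullback k a).Opens,
      Ω = pullback.fst k a ⁻¹ᵁ (k ⁻¹ᵁ W₀) ⊓ pullback.snd k a ⁻¹ᵁ (a ⁻¹ᵁ W₀) := ⟨_, rfl⟩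
  have po1 := (isIso_pushoutSection_iff HP (US := W₀) (UT := a ⁻¹ᵁ W₀) (UX := k ⁻¹ᵁ W₀)
    le_rfl le_rfl hΩ).mp (isIso_pushoutSection_of_isAffineOpen HP _ _ _ hW₀ hX₀ hT₀)
  have hΩa : IsAffineOpen Ω := by
    have : IsAffine W₀.toScheme := hW₀
    have : IsAffine (a ⁻¹ᵁ W₀).toScheme := hX₀
    have : IsAffine (k ⁻¹ᵁ W₀).toScheme := hT₀
    exact IsAffine.of_isIso (Scheme.Hom.isPullback_resLE HP (US := W₀) (UT := a ⁻¹ᵁ W₀)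
      (UX := k ⁻¹ᵁ W₀) le_rfl le_rfl hΩ).isoPullback.hom
  have eΩ : a₁ ⁻¹ᵁ (k ⁻¹ᵁ W₀) = θ ⁻¹ᵁ Ω := by
    have e1 : θ ⁻¹ᵁ (pullback.fst k a ⁻¹ᵁ (k ⁻¹ᵁ W₀)) = a₁ ⁻¹ᵁ (k ⁻¹ᵁ W₀) := by
      rw [← Scheme.Hom.comp_preimage, hθ1]
    have e2 : θ ⁻¹ᵁ (pullback.snd k a ⁻¹ᵁ (a ⁻¹ᵁ W₀)) = u ⁻¹ᵁ (a ⁻¹ᵁ W₀) := by
      rw [← Scheme.Hom.comp_preimage, hθ2]
    rw [hΩ, Scheme.Hom.preimage_inf, e1, e2, eX, inf_idem]
  refine ⟨Ω, a₁ ⁻¹ᵁ (k ⁻¹ᵁ W₀), eΩ, ?_, hΩa, by rw [eX]; exact hU₀, ?_⟩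
  · rw [hΩ]
    refine ⟨hw, ?_⟩
    show (pullback.snd k a ≫ a) p ∈ W₀
    rw [← pullback.condition]
    exact hw
  · have hpo' : IsPushout (k.appLE W₀ (k ⁻¹ᵁ W₀) le_rfl) (a.appLE W₀ (a ⁻¹ᵁ W₀) le_rfl)
        (a₁.app (k ⁻¹ᵁ W₀)) (u.appLE _ _ eX.le) := by
      have h5 : a.appLE W₀ (a ⁻¹ᵁ W₀) le_rfl = a.app W₀ := (Scheme.Hom.app_eq_appLE _).symm
      rw [h5]
      exact hpo
    have hiso : θ.appLE Ω (a₁ ⁻¹ᵁ (k ⁻¹ᵁ W₀)) eΩ.le = (po1.isoIsPushout _ _ hpo').hom := by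
      apply po1.hom_ext
      · rw [IsPushout.inl_isoIsPushout_hom, Scheme.Hom.appLE_comp_appLE,
          Scheme.Hom.app_eq_appLE]
        exact appLE_congr hθ1 _ _ _ _
      · rw [IsPushout.inr_isoIsPushout_hom, Scheme.Hom.appLE_comp_appLE]
        exact appLE_congr hθ2 _ _ _ _
    rw [hiso]
    infer_instance

section Glue

variable {Z X Y W : Scheme.{u}} (i : Z ⟶ X) [IsClosedImmersion i] (j : Z ⟶ Y) [IsIntegralHom j]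
  (haff : ∀ y : Y, ∃ U : X.Opens, IsAffineOpen U ∧ j ⁻¹' {y} ⊆ (i ⁻¹ᵁ U : Set ↑Z))
  (a : X ⟶ W) (b : Y ⟶ W) (hpo : IsPushout i j a b)
  {U₁ V₁ Z₁ : Scheme.{u}} (u : U₁ ⟶ X) (v : V₁ ⟶ Y) [IsFinite u] [Etale u] [IsFinite v] [Etale v]
  (i₁ : Z₁ ⟶ U₁) (j₁ : Z₁ ⟶ V₁) (c : Z₁ ⟶ Z) (hX : IsPullback i₁ c u i) (hY : IsPullback j₁ c v j)

include haff hpo hX hY in
/-- Gluing finite étale covers along a pinching: the glued cover restricts to the given ones. -/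
theorem exists_glue : ∃ (T : Scheme.{u}) (k : T ⟶ W) (a₁ : U₁ ⟶ T) (b₁ : V₁ ⟶ T),
    IsFinite k ∧ Etale k ∧ IsPullback a₁ u k a ∧ IsPullback b₁ v k b := by
  obtain ⟨T, k, a₁, b₁, hfin, het, ha, hb, hloc⟩ :=
    exists_glue_aux i j haff a b hpo u v i₁ j₁ c hX hY
  refine ⟨T, k, a₁, b₁, hfin, het, ?_, ?_⟩
  · refine isPullback_of_local k a a₁ u ha (fun w => ?_)
    obtain ⟨W₀, hw, hW₀, hXa, hYa, hT₀, e1, e2, p1, p2⟩ := hloc w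
    exact ⟨W₀, hw, hW₀, hXa, hT₀, hXa.preimage u, e1, p2⟩
  · refine isPullback_of_local k b b₁ v hb (fun w => ?_)
    obtain ⟨W₀, hw, hW₀, hXa, hYa, hT₀, e1, e2, p1, p2⟩ := hloc w
    exact ⟨W₀, hw, hW₀, hYa, hT₀, hYa.preimage v, e2, p1⟩

end Glue

end Groth.Agent.FEtPinch
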