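import Mathlib

/-!
# Finite étale covers split by a `p`-th root extension (helper8), part 1

`p`-adic lifting argument: an `R`-algebra map from a formally unramified algebra `B` into
`T = R[t]/(t^p - g)` has values in `R`, when `p` is not a unit of the Noetherian domain `R`.
-/

set_option autoImplicit false

namespace Groth.Agent.Lib.FEtPthH8

universe u

section General

variable {R : Type u} [CommRing R] {T : Type u} [CommRing T] [Algebra R T] {n : ℕ}
  (bs : Module.Basis (Fin (n + 1)) R T) (h1 : bs 0 = 1) (q : R)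
  {B : Type u} [CommRing B] [Algebra R B] (φ : B →ₐ[R] T)

/-- the constant coordinate -/
noncomputable def c0 : T →ₗ[R] R := bs.coord 0

include h1 in
lemma c0_algebraMap (a : R) : c0 bs (algebraMap R T a) = a := by
  rw [Algebra.algebraMap_eq_smul_one, ← h1, c0, map_smul, Module.Basis.coord_apply,
    Module.Basis.repr_self, Finsupp.single_eq_same, smul_eq_mul, mul_one]

/-- the `k`-th approximation statement -/
def Sk (k : ℕ) : Prop :=
  ∀ b : B, ∃ u : T, φ b = algebraMap R T (c0 bs (φ b)) + algebraMap R T (q ^ k) * u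

lemma sk_zero : Sk bs q φ 0 := by
  intro b
  exact ⟨φ b - algebraMap R T (c0 bs (φ b)), by rw [pow_zero, map_one, one_mul]; ring⟩

include h1 in
lemma sk_step [Algebra.FormallyUnramified R B] (k : ℕ) (hk : 1 ≤ k) (h : Sk bs q φ k) :
    Sk bs q φ (k + 1) := by
  classical
  let J : Ideal T := Ideal.span {algebraMap R T (q ^ (k + 1))}
  let I : Ideal (T ⧸ J) := Ideal.map (Ideal.Quotient.mk J) (Ideal.span {algebraMap R T (q ^ k)})
  have hI : IsNilpotent I := by
    refine ⟨2, ?_⟩
    rw [Ideal.zero_eq_bot, ← Ideal.map_pow, Ideal.span_singleton_pow, ← map_pow, ← pow_mul,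
      Ideal.map_span, Set.image_singleton, Ideal.span_singleton_eq_bot,
      Ideal.Quotient.eq_zero_iff_mem]
    refine Ideal.mem_span_singleton.mpr ?_
    have h2 : q ^ (k * 2) = q ^ (k + 1) * q ^ (k - 1) := by
      rw [← pow_add]; congr 1; omega
    rw [h2, map_mul]
    exact Dvd.intro _ rfl
  have hc0 : ∀ (a : R) (u : T), c0 bs (algebraMap R T a * u) = a * c0 bs u := by
    intro a u
    rw [← Algebra.smul_def, map_smul, smul_eq_mul]
  -- the key congruence
  have hmul : ∀ b b' : B, algebraMap R T (c0 bs (φ (b * b'))) -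
      algebraMap R T (c0 bs (φ b)) * algebraMap R T (c0 bs (φ b')) ∈ J := by
    intro b b'
    obtain ⟨u, hu⟩ := h b
    obtain ⟨v, hv⟩ := h b'
    set a := c0 bs (φ b) with ha
    set a' := c0 bs (φ b') with ha'
    have hu0 : q ^ k * c0 bs u = 0 := by
      have := congrArg (c0 bs) hu
      rw [map_add, c0_algebraMap bs h1, hc0, ← ha] at this
      linear_combination -this
    have hv0 : q ^ k * c0 bs v = 0 := by
      have := congrArg (c0 bs) hv
      rw [map_add, c0_algebraMap bs h1, hc0, ← ha'] at this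
      linear_combination -this
    have hprod : φ (b * b') = algebraMap R T (a * a') + algebraMap R T (a * q ^ k) * v +
        algebraMap R T (a' * q ^ k) * u + algebraMap R T (q ^ k * q ^ k) * (u * v) := by
      rw [map_mul, hu, hv]
      simp only [map_mul]
      ring
    have hc : c0 bs (φ (b * b')) = a * a' + q ^ k * q ^ k * c0 bs (u * v) := by
      rw [hprod, map_add, map_add, map_add, c0_algebraMap bs h1, hc0, hc0, hc0]
      linear_combination a * hv0 + a' * hu0
    rw [hc, ← map_mul (algebraMap R T) a a', ← map_sub]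
    refine Ideal.mem_span_singleton.mpr ?_
    have hk2 : q ^ k * q ^ k = q ^ (k + 1) * q ^ (k - 1) := by
      rw [← pow_add, ← pow_add]; congr 1; omega
    have : a * a' + q ^ k * q ^ k * c0 bs (u * v) - a * a' =
        q ^ (k + 1) * (q ^ (k - 1) * c0 bs (u * v)) := by rw [hk2]; ring
    rw [this, map_mul]
    exact Dvd.intro _ rfl
  let g₁ : B →ₐ[R] T ⧸ J := (Ideal.Quotient.mkₐ R J).comp φ
  let g₂ : B →ₐ[R] T ⧸ J :=
    { toFun := fun b => Ideal.Quotient.mk J (algebraMap R T (c0 bs (φ b)))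
      map_one' := by
        show Ideal.Quotient.mk J (algebraMap R T (c0 bs (φ 1))) = 1
        rw [map_one, ← map_one (algebraMap R T), c0_algebraMap bs h1, map_one, map_one]
      map_mul' := by
        intro b b'
        show Ideal.Quotient.mk J _ = Ideal.Quotient.mk J _ * Ideal.Quotient.mk J _
        rw [← map_mul, Ideal.Quotient.eq]
        exact hmul b b'
      map_zero' := by
        show Ideal.Quotient.mk J (algebraMap R T (c0 bs (φ 0))) = 0
        rw [map_zero, map_zero, map_zero, map_zero]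
      map_add' := by
        intro b b'
        show Ideal.Quotient.mk J (algebraMap R T (c0 bs (φ (b + b')))) = _
        rw [map_add, map_add, map_add, map_add]
      commutes' := by
        intro r
        show Ideal.Quotient.mk J (algebraMap R T (c0 bs (φ (algebraMap R B r)))) = _
        rw [AlgHom.commutes, c0_algebraMap bs h1]
        rfl }
  have hg : g₁ = g₂ := by
    apply Algebra.FormallyUnramified.ext I hI
    intro b
    rw [Ideal.Quotient.eq]
    obtain ⟨u, hu⟩ := h b
    show Ideal.Quotient.mk J (φ b) - Ideal.Quotient.mk J (algebraMap R T (c0 bs (φ b))) ∈ I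
    rw [← map_sub]
    refine Ideal.mem_map_of_mem _ ?_
    have : φ b - algebraMap R T (c0 bs (φ b)) = algebraMap R T (q ^ k) * u := by
      linear_combination hu
    rw [this]
    exact Ideal.mem_span_singleton.mpr (Dvd.intro _ rfl)
  intro b
  have hb : g₁ b = g₂ b := by rw [hg]
  have hb' : Ideal.Quotient.mk J (φ b) = Ideal.Quotient.mk J (algebraMap R T (c0 bs (φ b))) := hb
  rw [Ideal.Quotient.eq] at hb'
  obtain ⟨u, hu⟩ := Ideal.mem_span_singleton.mp hb'
  exact ⟨u, by linear_combination hu⟩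

include h1 in
lemma sk_all [Algebra.FormallyUnramified R B] (hS1 : Sk bs q φ 1) : ∀ k, Sk bs q φ k := by
  intro k
  induction k with
  | zero => exact sk_zero bs q φ
  | succ k ih =>
    rcases Nat.eq_zero_or_pos k with rfl | hk
    · exact hS1
    · exact sk_step bs h1 q φ k hk ih

lemma eq_c0_of_sk_all [IsDomain R] [IsNoetherianRing R] (hq : Ideal.span {q} ≠ ⊤)
    (h : ∀ k, Sk bs q φ k) (b : B) : φ b = algebraMap R T (c0 bs (φ b)) := by
  rw [← sub_eq_zero]
  set x := φ b - algebraMap R T (c0 bs (φ b)) with hx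
  have hk : ∀ k, ∃ u : T, x = algebraMap R T (q ^ k) * u := by
    intro k
    obtain ⟨u, hu⟩ := h k b
    exact ⟨u, by rw [hx]; linear_combination hu⟩
  apply bs.repr.map_eq_zero_iff.mp
  ext i
  rw [Finsupp.zero_apply]
  have hmem : bs.repr x i ∈ (⨅ k, Ideal.span {q} ^ k : Ideal R) := by
    rw [Ideal.mem_iInf]
    intro k
    obtain ⟨u, hu⟩ := hk k
    rw [hu, ← Algebra.smul_def, map_smul, Finsupp.smul_apply, smul_eq_mul,
      Ideal.span_singleton_pow]
    exact Ideal.mem_span_singleton.mpr (Dvd.intro _ rfl)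
  rw [Ideal.iInf_pow_eq_bot_of_isDomain _ hq] at hmem
  exact hmem

end General


section Adjoin

open Polynomial

variable {R : Type u} [CommRing R] [Nontrivial R] (p : ℕ) [hp : Fact p.Prime] (g : R)

/-- `R[t]/(t^p - g)` -/
abbrev TT : Type u := AdjoinRoot (X ^ p - C g : R[X])

lemma monicQ : (X ^ p - C g : R[X]).Monic := monic_X_pow_sub_C g hp.out.ne_zero

lemma dim_eq : (AdjoinRoot.powerBasis' (monicQ p g)).dim = (p - 1) + 1 := by
  rw [AdjoinRoot.powerBasis'_dim, natDegree_X_pow_sub_C]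
  have := hp.out.pos
  omega

/-- the power basis `1, t, …, t^(p-1)` indexed by `Fin ((p-1)+1)` -/
noncomputable def bsT : Module.Basis (Fin ((p - 1) + 1)) R (TT p g) :=
  (AdjoinRoot.powerBasis' (monicQ p g)).basis.reindex (finCongr (dim_eq p g))

lemma bsT_apply (i : Fin ((p - 1) + 1)) :
    bsT p g i = AdjoinRoot.root (X ^ p - C g : R[X]) ^ (i : ℕ) := by
  rw [bsT, Module.Basis.reindex_apply, PowerBasis.coe_basis, AdjoinRoot.powerBasis'_gen]
  rfl

lemma bsT_zero : bsT p g 0 = 1 := by
  rw [bsT_apply]; simp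

/-- `T / p T` -/
abbrev Tbar : Type u := TT p g ⧸ Ideal.span {((p : ℕ) : TT p g)}

lemma natCast_Tbar : ((p : ℕ) : Tbar p g) = 0 := by
  have : ((p : ℕ) : Tbar p g) = Ideal.Quotient.mk _ ((p : ℕ) : TT p g) := by
    rw [map_natCast]
  rw [this, Ideal.Quotient.eq_zero_iff_mem]
  exact Ideal.mem_span_singleton_self _

/-- the class of `t` -/
noncomputable def tbar : Tbar p g := Ideal.Quotient.mk _ (AdjoinRoot.root (X ^ p - C g : R[X]))

lemma tbar_pow : tbar p g ^ p = algebraMap R (Tbar p g) g := by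
  have h := AdjoinRoot.eval₂_root (X ^ p - C g : R[X])
  rw [eval₂_sub, eval₂_pow, eval₂_X, eval₂_C, sub_eq_zero] at h
  rw [tbar, ← map_pow, h]
  rfl

lemma rho_aux : eval₂ (Algebra.ofId R (DualNumber (Tbar p g)) : R →+* DualNumber (Tbar p g))
    (TrivSqZeroExt.inl (tbar p g) + TrivSqZeroExt.inr 1) (X ^ p - C g : R[X]) = 0 := by
  rw [eval₂_sub, eval₂_pow, eval₂_X, eval₂_C]
  apply TrivSqZeroExt.ext
  · rw [TrivSqZeroExt.fst_sub, TrivSqZeroExt.fst_pow, TrivSqZeroExt.fst_add,
      TrivSqZeroExt.fst_inl, TrivSqZeroExt.fst_inr, add_zero, TrivSqZeroExt.fst_zero, tbar_pow]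
    exact sub_self _
  · rw [TrivSqZeroExt.snd_sub, TrivSqZeroExt.snd_pow, TrivSqZeroExt.snd_zero]
    have h2 : ((Algebra.ofId R (DualNumber (Tbar p g)) : R →+* DualNumber (Tbar p g)) g).snd = 0 :=
      rfl
    rw [h2, sub_zero, ← Nat.cast_smul_eq_nsmul (Tbar p g), natCast_Tbar, zero_smul]

/-- `x ↦ x̄ + ∂x · ε` -/
noncomputable def rho : TT p g →ₐ[R] DualNumber (Tbar p g) :=
  AdjoinRoot.liftAlgHom _ (Algebra.ofId R (DualNumber (Tbar p g)))
    (TrivSqZeroExt.inl (tbar p g) + TrivSqZeroExt.inr 1) (rho_aux p g)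

lemma rho_root : rho p g (AdjoinRoot.root _) =
    TrivSqZeroExt.inl (tbar p g) + TrivSqZeroExt.inr 1 :=
  AdjoinRoot.liftAlgHom_root _ _ _ _

lemma rho_fst (x : TT p g) : (rho p g x).fst = Ideal.Quotient.mk _ x := by
  have h : (TrivSqZeroExt.fstHom R (Tbar p g) (Tbar p g)).comp (rho p g) =
      Ideal.Quotient.mkₐ R (Ideal.span {((p : ℕ) : TT p g)}) := by
    apply AdjoinRoot.algHom_ext
    rw [AlgHom.comp_apply, rho_root]
    simp [tbar]
  exact congrArg (fun f => f x) h

lemma tbar_mul_snd_rho_pow (i : ℕ) :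
    tbar p g * (rho p g (AdjoinRoot.root _ ^ i)).snd = (i : Tbar p g) * tbar p g ^ i := by
  rw [map_pow, rho_root, TrivSqZeroExt.snd_pow, TrivSqZeroExt.fst_add, TrivSqZeroExt.fst_inl,
    TrivSqZeroExt.fst_inr, add_zero, TrivSqZeroExt.snd_add, TrivSqZeroExt.snd_inl,
    TrivSqZeroExt.snd_inr, zero_add, smul_eq_mul, mul_one, nsmul_eq_mul]
  rcases i with _ | i
  · simp
  · rw [Nat.pred_succ, pow_succ]; ring


variable {B : Type u} [CommRing B] [Algebra R B] [Algebra.FormallyUnramified R B]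
  (φ : B →ₐ[R] TT p g)

lemma snd_rho_phi (b : B) : (rho p g (φ b)).snd = 0 := by
  classical
  let I : Ideal (DualNumber (Tbar p g)) :=
    RingHom.ker (TrivSqZeroExt.fstHom R (Tbar p g) (Tbar p g) : DualNumber (Tbar p g) →+* Tbar p g)
  have hI : IsNilpotent I := by
    refine ⟨2, ?_⟩
    rw [Ideal.zero_eq_bot, eq_bot_iff, show I ^ 2 = I * I from sq I, Ideal.mul_le]
    intro x hx y hy
    have hx' : x.fst = 0 := hx
    have hy' : y.fst = 0 := hy
    rw [Ideal.mem_bot]
    apply TrivSqZeroExt.ext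
    · rw [TrivSqZeroExt.fst_mul, hx', zero_mul, TrivSqZeroExt.fst_zero]
    · rw [TrivSqZeroExt.snd_mul, hx', hy', TrivSqZeroExt.snd_zero]
      simp
  let g₁ : B →ₐ[R] DualNumber (Tbar p g) := (rho p g).comp φ
  let g₂ : B →ₐ[R] DualNumber (Tbar p g) :=
    (TrivSqZeroExt.inlAlgHom R (Tbar p g) (Tbar p g)).comp
      ((Ideal.Quotient.mkₐ R (Ideal.span {((p : ℕ) : TT p g)})).comp φ)
  have hg : g₁ = g₂ := by
    apply Algebra.FormallyUnramified.ext I hI
    intro b
    rw [Ideal.Quotient.eq]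
    show (g₁ b - g₂ b).fst = 0
    rw [TrivSqZeroExt.fst_sub]
    show (rho p g (φ b)).fst - (TrivSqZeroExt.inl (Ideal.Quotient.mk _ (φ b)) :
      DualNumber (Tbar p g)).fst = 0
    rw [rho_fst, TrivSqZeroExt.fst_inl, sub_self]
  have : (g₁ b).snd = (g₂ b).snd := by rw [hg]
  exact this

theorem sk_one : Sk (bsT p g) ((p : ℕ) : R) φ 1 := by
  classical
  intro b
  set x := φ b with hx
  set c := (bsT p g).repr x with hc
  have hxsum : x = ∑ i, c i • bsT p g i := ((bsT p g).sum_repr x).symm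
  -- the Euler element
  let y : TT p g := ∑ i : Fin ((p - 1) + 1), (((i : ℕ) : R) * c i) • bsT p g i
  have hy : Ideal.Quotient.mk (Ideal.span {((p : ℕ) : TT p g)}) y = 0 := by
    have h0 : tbar p g * (rho p g x).snd = 0 := by rw [hx, snd_rho_phi, mul_zero]
    rw [← h0]
    have hterm : ∀ i : Fin ((p - 1) + 1),
        Ideal.Quotient.mk (Ideal.span {((p : ℕ) : TT p g)}) ((((i : ℕ) : R) * c i) • bsT p g i) =
          tbar p g * (rho p g (c i • bsT p g i)).snd := by
      intro i
      have hL : Ideal.Quotient.mk (Ideal.span {((p : ℕ) : TT p g)})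
          ((((i : ℕ) : R) * c i) • bsT p g i) =
          algebraMap R (Tbar p g) (((i : ℕ) : R) * c i) * tbar p g ^ (i : ℕ) := by
        rw [Algebra.smul_def, map_mul, bsT_apply, map_pow]; rfl
      have hR : tbar p g * (rho p g (c i • bsT p g i)).snd =
          algebraMap R (Tbar p g) (c i) * ((i : ℕ) * tbar p g ^ (i : ℕ)) := by
        rw [map_smul, TrivSqZeroExt.snd_smul, mul_smul_comm, bsT_apply, tbar_mul_snd_rho_pow,
          Algebra.smul_def]
      rw [hL, hR, map_mul, map_natCast]; ring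
    have hsum : (rho p g x).snd = ∑ i, (rho p g (c i • bsT p g i)).snd := by
      conv_lhs => rw [hxsum]
      rw [map_sum, TrivSqZeroExt.snd_sum]
    rw [hsum, Finset.mul_sum, map_sum]
    exact Finset.sum_congr rfl (fun i _ => hterm i)
  rw [Ideal.Quotient.eq_zero_iff_mem, Ideal.mem_span_singleton] at hy
  obtain ⟨z, hz⟩ := hy
  have hcoord : ∀ i : Fin ((p - 1) + 1), ((i : ℕ) : R) * c i = ((p : ℕ) : R) * (bsT p g).repr z i := by
    intro i
    have h1 := congrArg (fun w => (bsT p g).repr w i) hz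
    simp only [y] at h1
    rw [(bsT p g).repr_sum_self] at h1
    rw [h1, ← nsmul_eq_mul, map_nsmul, Finsupp.smul_apply, nsmul_eq_mul]
  have hdiv : ∀ j : Fin (p - 1), ∃ w : R, c j.succ = ((p : ℕ) : R) * w := by
    intro j
    have hj1 : 0 < ((j.succ : Fin ((p - 1) + 1)) : ℕ) := by simp
    have hj2 : ((j.succ : Fin ((p - 1) + 1)) : ℕ) < p := by
      have := (j.succ).2
      have := hp.out.pos
      omega
    have hcop : Nat.Coprime ((j.succ : Fin ((p - 1) + 1)) : ℕ) p :=
      (Nat.coprime_of_lt_prime hj1.ne' hj2 hp.out).symm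
    obtain ⟨u, v, huv⟩ := (Nat.isCoprime_iff_coprime.mpr hcop)
    have huvR : (u : R) * (((j.succ : Fin ((p - 1) + 1)) : ℕ) : R) + (v : R) * ((p : ℕ) : R) = 1 := by
      have := congrArg (Int.cast : ℤ → R) huv
      push_cast at this
      exact this
    refine ⟨(u : R) * (bsT p g).repr z j.succ + (v : R) * c j.succ, ?_⟩
    have h2 := hcoord j.succ
    linear_combination (-(c j.succ)) * huvR + (u : R) * h2
  choose w hw using hdiv
  refine ⟨∑ j : Fin (p - 1), w j • bsT p g j.succ, ?_⟩
  rw [pow_one, Finset.mul_sum]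
  have h0 : c0 (bsT p g) x = c 0 := rfl
  rw [h0]
  conv_lhs => rw [hxsum, Fin.sum_univ_succ, bsT_zero, ← Algebra.algebraMap_eq_smul_one]
  congr 1
  refine Finset.sum_congr rfl (fun j _ => ?_)
  rw [hw j, mul_smul, Algebra.smul_def]

omit [Nontrivial R] in
/-- **Part A**: an algebra map from a formally unramified `R`-algebra to `R[t]/(t^p - g)` has
values in `R`, if `p` is not a unit of the Noetherian domain `R`. -/
theorem exists_eq_algebraMap [IsDomain R] [IsNoetherianRing R] (hpu : ¬ IsUnit ((p : ℕ) : R))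
    (b : B) : ∃ a : R, φ b = algebraMap R (TT p g) a :=
  ⟨_, eq_c0_of_sk_all (bsT p g) ((p : ℕ) : R) φ
    (by rwa [Ne, Ideal.span_singleton_eq_top])
    (sk_all (bsT p g) (bsT_zero p g) _ φ (sk_one p g φ)) b⟩

end Adjoin

end Groth.Agent.Lib.FEtPthH8
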