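import Mathlib
import Groth.Agent.Lib.HensSection_helper7
import Groth.Agent.Lib.FEtPth1_helper8
import Groth.Agent.S0505

/-!
# Finite étale covers split by a `p`-th root extension (helper8), part 2

* finite étale algebras over a strictly henselian local ring are split;
* `A[t]/(t^p - f)` is strictly henselian local when `A` is and `f` is in the maximal ideal.
-/

set_option autoImplicit false

namespace Groth.Agent.Lib.FEtPthH8

universe u

open TensorProduct IsLocalRing

section B1

variable {R : Type u} [CommRing R] [HenselianLocalRing R] [IsSepClosed (ResidueField R)]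
  (C : Type u) [CommRing C] [Algebra R C] [Module.Finite R C] [Algebra.Etale R C]

/-- A finite étale algebra over a strictly henselian local ring is split. -/
theorem exists_sections :
    ∃ (I : Type u) (_ : Fintype I) (σ : I → (C →ₐ[R] R)),
      Function.Bijective (fun (c : C) (i : I) => σ i c) := by
  classical
  let κ := ResidueField R
  let Cκ := κ ⊗[R] C
  haveI : Algebra.Etale κ Cκ := inferInstance
  haveI : Module.Finite κ Cκ := inferInstance
  haveI : IsArtinianRing Cκ := isArtinian_of_tower κ inferInstance
  let e : Cκ ≃ₐ[κ] (PrimeSpectrum Cκ → κ) := Algebra.FormallyEtale.equivPiOfIsSepClosed κ Cκ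
  let I := PrimeSpectrum Cκ
  haveI : Finite I := inferInstance
  letI : Fintype I := Fintype.ofFinite I
  let ψ : I → (C →ₐ[R] κ) := fun i =>
    (((Pi.evalAlgHom κ (fun _ : I => κ) i).comp e.toAlgHom).restrictScalars R).comp
      Algebra.TensorProduct.includeRight
  have hψ : ∀ i c, ψ i c = e (1 ⊗ₜ c) i := fun i c => rfl
  choose σ hσ using fun i => HensSection_helper7.exists_section_of_etale (ψ i)
  refine ⟨I, inferInstance, σ, ?_⟩
  let S : C →ₗ[R] (I → R) := LinearMap.pi (fun i => (σ i).toLinearMap)
  have hS : ∀ c i, S c i = σ i c := fun c i => rfl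
  have hsurj : Function.Surjective S := by
    rw [← LinearMap.range_eq_top, eq_top_iff]
    refine Submodule.le_of_le_smul_of_le_jacobson_bot (I := maximalIdeal R) Module.Finite.fg_top
      (by rw [jacobson_eq_maximalIdeal]; exact bot_ne_top) ?_
    intro x _
    obtain ⟨c, hc⟩ := TensorProduct.mk_surjective R C κ residue_surjective
      (e.symm (fun i => residue R (x i)))
    have hc' : (1 : κ) ⊗ₜ[R] c = e.symm (fun i => residue R (x i)) := hc
    have hmem : ∀ i, (x - S c) i ∈ maximalIdeal R := by
      intro i
      rw [← residue_eq_zero_iff, Pi.sub_apply, map_sub, hS, hσ, hψ, hc', e.apply_symm_apply,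
        sub_self]
    have hx : x = S c + (x - S c) := by abel
    rw [hx]
    refine Submodule.add_mem_sup (LinearMap.mem_range_self S c) ?_
    have h2 : (x - S c) = ∑ i, ((x - S c) i) • (Pi.single i 1 : I → R) := by
      funext j
      simp [Finset.sum_apply, Pi.single_apply]
    rw [h2]
    exact Submodule.sum_mem _ (fun i _ => Submodule.smul_mem_smul (hmem i) Submodule.mem_top)
  haveI : Module.Flat R C := inferInstance
  haveI : Module.Free R C := Module.free_of_flat_of_isLocalRing
  have hrank : Module.finrank R C = Module.finrank R (I → R) := by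
    rw [Module.finrank_fintype_fun_eq_card, ← Module.finrank_baseChange (R := κ) (S := R) (M' := C),
      e.toLinearEquiv.finrank_eq, Module.finrank_fintype_fun_eq_card]
  have hinj : Function.Injective S :=
    OrzechProperty.injective_of_surjective_of_injective
      (LinearEquiv.ofFinrankEq C (I → R) hrank).toLinearMap S
      (LinearEquiv.ofFinrankEq C (I → R) hrank).injective hsurj
  exact ⟨fun a b hab => hinj (by funext i; exact congrFun hab i),
    fun y => by obtain ⟨c, hc⟩ := hsurj y; exact ⟨c, by funext i; exact congrFun hc i⟩⟩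

end B1

section B2
open Polynomial

theorem isSepClosed_of_ringEquiv' {k k' : Type*} [Field k] [Field k'] (e : k ≃+* k')
    [IsSepClosed k] : IsSepClosed k' := by
  refine ⟨fun q hq => ?_⟩
  have h1 : (q.map (e.symm : k' →+* k)).Separable := hq.map
  have h2 : (q.map (e.symm : k' →+* k)).Splits := IsSepClosed.splits_of_separable _ h1
  have h3 := h2.map (e : k →+* k')
  rw [Polynomial.map_map] at h3
  have h4 : (e : k →+* k').comp (e.symm : k' →+* k) = RingHom.id k' := by
    ext x
    simp
  rwa [h4, Polynomial.map_id] at h3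

variable {A : Type u} [CommRing A] [IsLocalRing A] (p : ℕ) [hp : Fact p.Prime] (f : A)
  (hf : f ∈ maximalIdeal A)

/-- evaluation at `t = 0` into the residue field -/
noncomputable def ev : TT p f →+* ResidueField A :=
  AdjoinRoot.lift (residue A) 0 (by
    rw [eval₂_sub, eval₂_X_pow, eval₂_C, zero_pow hp.out.ne_zero,
      (residue_eq_zero_iff f).2 hf, sub_zero])

lemma ev_of (a : A) : ev p f hf (AdjoinRoot.of _ a) = residue A a := AdjoinRoot.lift_of _

lemma ev_root : ev p f hf (AdjoinRoot.root _) = 0 := AdjoinRoot.lift_root _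

lemma ev_surjective : Function.Surjective (ev p f hf) := fun y => by
  obtain ⟨a, rfl⟩ := residue_surjective y
  exact ⟨AdjoinRoot.of _ a, ev_of p f hf a⟩

lemma ev_mk (q : A[X]) : ev p f hf (AdjoinRoot.mk _ q) = residue A (q.coeff 0) := by
  conv_lhs => rw [← X_mul_divX_add q]
  rw [map_add, map_mul, AdjoinRoot.mk_X, AdjoinRoot.mk_C, map_add, map_mul, ev_root, zero_mul,
    zero_add, ev_of]

theorem ker_ev_unique (M' : Ideal (TT p f)) (hM' : M'.IsMaximal) :
    M' = RingHom.ker (ev p f hf) := by
  have hmax : (RingHom.ker (ev p f hf)).IsMaximal :=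
    RingHom.ker_isMaximal_of_surjective _ (ev_surjective p f hf)
  haveI : Module.Finite A (TT p f) := (monicQ p f).finite_adjoinRoot
  haveI : Algebra.IsIntegral A (TT p f) := inferInstance
  have hcomap : M'.comap (algebraMap A (TT p f)) = maximalIdeal A :=
    IsLocalRing.eq_maximalIdeal (Ideal.isMaximal_comap_of_isIntegral_of_isMaximal M')
  have hof : ∀ a ∈ maximalIdeal A, AdjoinRoot.of (X ^ p - C f : A[X]) a ∈ M' := by
    intro a ha
    rw [← hcomap] at ha
    exact ha
  have hroot : AdjoinRoot.root (X ^ p - C f : A[X]) ∈ M' := by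
    have h1 : AdjoinRoot.root (X ^ p - C f : A[X]) ^ p ∈ M' := by
      have h2 : AdjoinRoot.root (X ^ p - C f : A[X]) ^ p = AdjoinRoot.of _ f := by
        have h3 := AdjoinRoot.eval₂_root (X ^ p - C f : A[X])
        rw [eval₂_sub, eval₂_X_pow, eval₂_C, sub_eq_zero] at h3
        exact h3
      rw [h2]
      exact hof f hf
    exact hM'.isPrime.mem_of_pow_mem _ h1
  have hle : RingHom.ker (ev p f hf) ≤ M' := by
    intro x hx
    obtain ⟨q, rfl⟩ := AdjoinRoot.mk_surjective x
    rw [RingHom.mem_ker, ev_mk, residue_eq_zero_iff] at hx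
    rw [← X_mul_divX_add q, map_add, map_mul, AdjoinRoot.mk_X, AdjoinRoot.mk_C]
    exact M'.add_mem (M'.mul_mem_right _ hroot) (hof _ hx)
  exact (hmax.eq_of_le hM'.ne_top hle).symm

include hf in
theorem isLocalRing_TT : IsLocalRing (TT p f) :=
  IsLocalRing.of_unique_max_ideal ⟨RingHom.ker (ev p f hf),
    RingHom.ker_isMaximal_of_surjective _ (ev_surjective p f hf),
    fun M' hM' => ker_ev_unique p f hf M' hM'⟩

include hf in
theorem henselian_TT [HenselianLocalRing A] : HenselianLocalRing (TT p f) := by
  haveI := isLocalRing_TT p f hf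
  haveI : Module.Finite A (TT p f) := (monicQ p f).finite_adjoinRoot
  exact Groth.Agent.S0505.result A (TT p f)

include hf in
theorem isSepClosed_TT [IsSepClosed (ResidueField A)] (h : IsLocalRing (TT p f)) :
    IsSepClosed (ResidueField (TT p f)) := by
  have hk : maximalIdeal (TT p f) = RingHom.ker (ev p f hf) :=
    ker_ev_unique p f hf _ (maximalIdeal.isMaximal _)
  let e1 : ResidueField (TT p f) ≃+* (TT p f ⧸ RingHom.ker (ev p f hf)) :=
    Ideal.quotEquivOfEq hk
  let e2 : (TT p f ⧸ RingHom.ker (ev p f hf)) ≃+* ResidueField A :=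
    RingHom.quotientKerEquivOfSurjective (ev_surjective p f hf)
  exact isSepClosed_of_ringEquiv' (e1.trans e2).symm

end B2

end Groth.Agent.Lib.FEtPthH8
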