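import Mathlib
import Groth.Agent.Lib.FEtPth1_helper8

/-!
# Finite étale covers split by a `p`-th root extension (helper8), part 3

From a splitting of `C₁` over `A₁ = A[t]/(t^p-f)` and `C₁[1/f] ≃ A₁ ⊗ B` to `B ≃ (A_f)^I`.
-/

set_option autoImplicit false

namespace Groth.Agent.Lib.FEtPthH8

universe u

open TensorProduct Polynomial

section Iota

variable {A : Type u} [CommRing A] [Nontrivial A] (p : ℕ) [hp : Fact p.Prime] (f : A)
  {Af : Type u} [CommRing Af] [Nontrivial Af] [Algebra A Af]

/-- the canonical map `A[t]/(t^p-f) → Af[t]/(t^p - f)` -/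
noncomputable def iota : TT p f →+* TT p (algebraMap A Af f) :=
  AdjoinRoot.map (algebraMap A Af) _ _
    (by rw [Polynomial.map_sub, Polynomial.map_pow, map_X, map_C])

lemma iota_of (a : A) :
    iota p f (Af := Af) (AdjoinRoot.of _ a) = AdjoinRoot.of _ (algebraMap A Af a) :=
  AdjoinRoot.map_of ..

lemma iota_root : iota p f (Af := Af) (AdjoinRoot.root _) = AdjoinRoot.root _ :=
  AdjoinRoot.map_root ..

lemma iota_bsT (k : Fin ((p - 1) + 1)) :
    iota p f (Af := Af) (bsT p f k) = bsT p (algebraMap A Af f) k := by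
  rw [bsT_apply, map_pow, iota_root, bsT_apply]

lemma iota_smul (a : A) (x : TT p f) :
    iota p f (Af := Af) (a • x) = algebraMap A Af a • iota p f x := by
  rw [Algebra.smul_def, map_mul, AdjoinRoot.algebraMap_eq, iota_of, Algebra.smul_def,
    AdjoinRoot.algebraMap_eq]

lemma iota_injective (hinj : Function.Injective (algebraMap A Af)) :
    Function.Injective (iota p f (Af := Af)) := by
  rw [injective_iff_map_eq_zero]
  intro x hx
  have h1 : x = ∑ k, (bsT p f).repr x k • bsT p f k := ((bsT p f).sum_repr x).symm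
  rw [h1, map_sum] at hx
  simp_rw [iota_smul, iota_bsT] at hx
  have h2 := Fintype.linearIndependent_iff.1 (bsT p (algebraMap A Af f)).linearIndependent _ hx
  apply (bsT p f).repr.injective
  ext k
  rw [map_zero, Finsupp.zero_apply]
  exact hinj ((h2 k).trans (map_zero _).symm)

end Iota

section Core

variable {A : Type u} [CommRing A] [IsDomain A] (p : ℕ) [hp : Fact p.Prime] (f : A)
  (Af : Type u) [CommRing Af] [Algebra A Af] [IsLocalization.Away f Af] [IsDomain Af]
  [IsNoetherianRing Af] (hpu : ¬ IsUnit ((p : ℕ) : Af))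
  (B : Type u) [CommRing B] [Algebra A B] [Algebra Af B] [IsScalarTower A Af B]
  [Algebra.FormallyUnramified Af B]
  {I : Type u} [Fintype I] [DecidableEq I]
  (χ : I → (TT p f ⊗[A] B →+* TT p (algebraMap A Af f)))
  (hχ : ∀ i a, χ i (a ⊗ₜ 1) = iota p f a)
  (hinj : ∀ w, (∀ i, χ i w = 0) → w = 0)
  (hidem : ∀ j, ∃ w, ∀ i, χ i w = if i = j then 1 else 0)

include hχ in
lemma chi_commutes (i : I) (r : Af) :
    χ i (1 ⊗ₜ algebraMap Af B r) = algebraMap Af (TT p (algebraMap A Af f)) r := by
  let g1 : Af →+* TT p (algebraMap A Af f) :=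
    (χ i).comp ((Algebra.TensorProduct.includeRight (R := A) (A := TT p f) (B := B)).toRingHom.comp
      (algebraMap Af B))
  have h : g1 = algebraMap Af (TT p (algebraMap A Af f)) := by
    refine IsLocalization.ringHom_ext (Submonoid.powers f) ?_
    ext a
    have e0 : (AdjoinRoot.of (X ^ p - C f : A[X]) a) = a • (1 : TT p f) := by
      rw [← AdjoinRoot.algebraMap_eq, Algebra.algebraMap_eq_smul_one]
    have e1 : algebraMap Af B (algebraMap A Af a) = a • (1 : B) := by
      rw [← IsScalarTower.algebraMap_apply, Algebra.algebraMap_eq_smul_one]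
    have e2 : ((1 : TT p f) ⊗ₜ[A] (a • (1 : B))) = (AdjoinRoot.of _ a) ⊗ₜ[A] (1 : B) := by
      rw [e0, TensorProduct.smul_tmul]
    show χ i (1 ⊗ₜ algebraMap Af B (algebraMap A Af a)) =
      algebraMap Af (TT p (algebraMap A Af f)) (algebraMap A Af a)
    rw [e1, e2, hχ, iota_of]
    rfl
  exact congrArg (fun g => g r) h

/-- the algebra maps `B → Af[t]/(t^p-f)` -/
noncomputable def phi (i : I) : B →ₐ[Af] TT p (algebraMap A Af f) :=
  { (χ i).comp (Algebra.TensorProduct.includeRight (R := A) (A := TT p f) (B := B)).toRingHom with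
    commutes' := fun r => chi_commutes p f Af B χ hχ i r }

lemma phi_apply (i : I) (b : B) : phi p f Af B χ hχ i b = χ i (1 ⊗ₜ b) := rfl

include hpu in
lemma phi_eq (i : I) (b : B) : phi p f Af B χ hχ i b =
    algebraMap Af _ (c0 (bsT p (algebraMap A Af f)) (phi p f Af B χ hχ i b)) := by
  obtain ⟨a, ha⟩ := exists_eq_algebraMap p (algebraMap A Af f) (phi p f Af B χ hχ i) hpu b
  rw [ha, c0_algebraMap _ (bsT_zero p _)]

/-- the sections `B → Af` -/
noncomputable def psi (i : I) : B →ₐ[Af] Af :=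
  AlgHom.ofLinearMap ((c0 (bsT p (algebraMap A Af f))).comp (phi p f Af B χ hχ i).toLinearMap)
    (by
      show c0 (bsT p (algebraMap A Af f)) (phi p f Af B χ hχ i 1) = (1 : Af)
      rw [map_one, ← map_one (algebraMap Af (TT p (algebraMap A Af f))),
        c0_algebraMap _ (bsT_zero p _)])
    (by
      intro x y
      show c0 (bsT p (algebraMap A Af f)) (phi p f Af B χ hχ i (x * y)) =
        c0 (bsT p (algebraMap A Af f)) (phi p f Af B χ hχ i x) *
        c0 (bsT p (algebraMap A Af f)) (phi p f Af B χ hχ i y)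
      rw [map_mul]
      conv_lhs => rw [phi_eq p f Af hpu B χ hχ i x, phi_eq p f Af hpu B χ hχ i y]
      rw [← map_mul, c0_algebraMap _ (bsT_zero p _)])

lemma phi_eq_psi (i : I) (b : B) : phi p f Af B χ hχ i b =
    algebraMap Af _ (psi p f Af hpu B χ hχ i b) :=
  phi_eq p f Af hpu B χ hχ i b

lemma chi_tmul (i : I) (k : Fin ((p - 1) + 1)) (b : B) :
    χ i (bsT p f k ⊗ₜ b) = psi p f Af hpu B χ hχ i b • bsT p (algebraMap A Af f) k := by
  have h1 : (bsT p f k ⊗ₜ[A] b : TT p f ⊗[A] B) = (bsT p f k ⊗ₜ 1) * (1 ⊗ₜ b) := by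
    rw [Algebra.TensorProduct.tmul_mul_tmul, mul_one, one_mul]
  rw [h1, map_mul, hχ, iota_bsT, ← phi_apply p f Af B χ hχ, phi_eq_psi p f Af hpu, mul_comm,
    ← Algebra.smul_def]

/-- the comparison map -/
noncomputable def Psi : B →ₐ[Af] (I → Af) := AlgHom.pi (psi p f Af hpu B χ hχ)

lemma Psi_apply (b : B) (i : I) : Psi p f Af hpu B χ hχ b i = psi p f Af hpu B χ hχ i b := rfl

include hinj in
lemma Psi_injective : Function.Injective (Psi p f Af hpu B χ hχ) := by
  rw [injective_iff_map_eq_zero]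
  intro b hb
  have h1 : (1 : TT p f) ⊗ₜ[A] b = 0 := by
    apply hinj
    intro i
    rw [← phi_apply p f Af B χ hχ, phi_eq_psi p f Af hpu, ← Psi_apply, hb, Pi.zero_apply, map_zero]
  have h2 := congrArg (fun w => TensorProduct.lid A B ((c0 (bsT p f)).rTensor B w)) h1
  simp only [LinearMap.rTensor_tmul, TensorProduct.lid_tmul, map_zero] at h2
  have h3 : c0 (bsT p f) (1 : TT p f) = 1 := by
    rw [← map_one (algebraMap A (TT p f)), c0_algebraMap _ (bsT_zero p _)]
  rwa [h3, one_smul] at h2

include hidem in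
lemma Psi_surjective : Function.Surjective (Psi p f Af hpu B χ hχ) := by
  have hsingle : ∀ j : I, ∃ b : B, Psi p f Af hpu B χ hχ b = Pi.single j 1 := by
    intro j
    obtain ⟨w, hw⟩ := hidem j
    obtain ⟨c, hc⟩ := TensorProduct.eq_repr_basis_left (bsT p f) w
    refine ⟨c 0, ?_⟩
    funext i
    have h1 : χ i w = ∑ k, psi p f Af hpu B χ hχ i (c k) • bsT p (algebraMap A Af f) k := by
      rw [← hc, Finsupp.sum_fintype _ _ (fun k => by rw [TensorProduct.tmul_zero]), map_sum]
      exact Finset.sum_congr rfl (fun k _ => chi_tmul p f Af hpu B χ hχ i k (c k))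
    have h2 := congrArg (fun x => (bsT p (algebraMap A Af f)).repr x 0) h1
    simp only [Module.Basis.repr_sum_self] at h2
    rw [Psi_apply, ← h2, hw i, Pi.single_apply]
    split_ifs with h
    · rw [← bsT_zero p (algebraMap A Af f), Module.Basis.repr_self, Finsupp.single_eq_same]
    · rw [LinearEquiv.map_zero, Finsupp.zero_apply]
  choose bj hbj using hsingle
  intro y
  refine ⟨∑ j, y j • bj j, ?_⟩
  rw [map_sum]
  simp_rw [map_smul, hbj]
  funext i
  simp [Finset.sum_apply, Pi.single_apply]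

end Core

section Chi

variable {A : Type u} [CommRing A] [IsDomain A] (p : ℕ) [hp : Fact p.Prime] (f : A) (hf0 : f ≠ 0)
  (Af : Type u) [CommRing Af] [Algebra A Af] [IsLocalization.Away f Af] [IsDomain Af]
  (B : Type u) [CommRing B] [Algebra A B]
  (C₁ : Type u) [CommRing C₁] [Algebra (TT p f) C₁]
  (e : Localization.Away (algebraMap (TT p f) C₁ (AdjoinRoot.of _ f)) ≃ₐ[TT p f] TT p f ⊗[A] B)
  {I : Type u} (σ : I → (C₁ →ₐ[TT p f] TT p f))
  (hσ : Function.Bijective (fun (c : C₁) (i : I) => σ i c))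

lemma isUnit_iota_sigma (i : I) :
    IsUnit (((iota p f (Af := Af)).comp (σ i).toRingHom)
      (algebraMap (TT p f) C₁ (AdjoinRoot.of _ f))) := by
  show IsUnit (iota p f (Af := Af) (σ i (algebraMap (TT p f) C₁ (AdjoinRoot.of _ f))))
  rw [AlgHom.commutes, Algebra.algebraMap_self, RingHom.id_apply, iota_of]
  exact (IsLocalization.Away.algebraMap_isUnit f).map (AdjoinRoot.of _)

/-- the maps `C₁[1/f] → Af[t]/(t^p-f)` -/
noncomputable def lam (i : I) :
    Localization.Away (algebraMap (TT p f) C₁ (AdjoinRoot.of _ f)) →+*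
      TT p (algebraMap A Af f) :=
  IsLocalization.Away.lift (algebraMap (TT p f) C₁ (AdjoinRoot.of _ f))
    (isUnit_iota_sigma p f Af C₁ σ i)

lemma lam_algebraMap (i : I) (c : C₁) :
    lam p f Af C₁ σ i (algebraMap C₁ _ c) = iota p f (σ i c) :=
  IsLocalization.Away.lift_eq _ _ c

/-- the maps `A₁ ⊗ B → Af[t]/(t^p-f)` -/
noncomputable def chi (i : I) : TT p f ⊗[A] B →+* TT p (algebraMap A Af f) :=
  (lam p f Af C₁ σ i).comp (e.symm : TT p f ⊗[A] B →+* _)

lemma chi_apply (i : I) (w : TT p f ⊗[A] B) :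
    chi p f Af B C₁ e σ i w = lam p f Af C₁ σ i (e.symm w) := rfl

lemma chi_tmul_one (i : I) (a : TT p f) :
    chi p f Af B C₁ e σ i (a ⊗ₜ 1) = iota p f a := by
  have h1 : (a ⊗ₜ[A] (1 : B)) = algebraMap (TT p f) (TT p f ⊗[A] B) a :=
    (by rw [Algebra.TensorProduct.algebraMap_apply, Algebra.algebraMap_self, RingHom.id_apply])
  rw [chi_apply, h1, e.symm.commutes, IsScalarTower.algebraMap_apply (TT p f) C₁
    (Localization.Away (algebraMap (TT p f) C₁ (AdjoinRoot.of _ f))), lam_algebraMap,
    AlgHom.commutes]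
  rfl

include hf0 hσ in
lemma chi_inj (w : TT p f ⊗[A] B) (h : ∀ i, chi p f Af B C₁ e σ i w = 0) : w = 0 := by
  obtain ⟨⟨c, s⟩, hcs⟩ := IsLocalization.surj
    (Submonoid.powers (algebraMap (TT p f) C₁ (AdjoinRoot.of _ f))) (e.symm w)
  have hinjA : Function.Injective (algebraMap A Af) :=
    IsLocalization.injective Af (M := Submonoid.powers f)
      (powers_le_nonZeroDivisors_of_noZeroDivisors hf0)
  have hc : c = 0 := by
    apply hσ.1
    funext i
    show σ i c = σ i 0
    rw [map_zero]
    apply iota_injective p f (Af := Af) hinjA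
    rw [map_zero, ← lam_algebraMap, ← hcs, map_mul, ← chi_apply, h i, zero_mul]
  rw [hc, map_zero] at hcs
  have hu : IsUnit (algebraMap C₁
      (Localization.Away (algebraMap (TT p f) C₁ (AdjoinRoot.of _ f))) s) :=
    IsLocalization.map_units _ s
  have h0 : e.symm w = 0 := (hu.mul_left_eq_zero).mp hcs
  exact (map_eq_zero_iff e.symm e.symm.injective).mp h0

include hσ in
lemma chi_idem [DecidableEq I] (j : I) :
    ∃ w, ∀ i, chi p f Af B C₁ e σ i w = if i = j then 1 else 0 := by
  obtain ⟨ε, hε⟩ := hσ.2 (Pi.single j 1)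
  refine ⟨e (algebraMap C₁ _ ε), fun i => ?_⟩
  rw [chi_apply, e.symm_apply_apply, lam_algebraMap]
  have h1 : σ i ε = (Pi.single j 1 : I → TT p f) i := congrFun hε i
  rw [h1, Pi.single_apply]
  split_ifs <;> simp

end Chi

section Final

theorem isLocalization_pi_away {A : Type u} [CommRing A] (f : A)
    (Af : Type u) [CommRing Af] [Algebra A Af] [IsLocalization.Away f Af]
    (I : Type u) [Finite I] :
    IsLocalization.Away (algebraMap A (I → A) f) (I → Af) := by
  have h0 : IsLocalization (Submonoid.pi Set.univ (fun _ : I => Submonoid.powers f)) (I → Af) :=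
    inferInstance
  refine (IsLocalization.iff_of_le_of_exists_dvd (M := Submonoid.powers (algebraMap A (I → A) f))
    (Submonoid.pi Set.univ (fun _ : I => Submonoid.powers f)) ?_ ?_).mpr h0
  · rintro _ ⟨k, rfl⟩ i _
    exact ⟨k, by simp [Pi.pow_apply]⟩
  · intro n hn
    haveI := Fintype.ofFinite I
    choose k hk using fun i => hn i (Set.mem_univ i)
    refine ⟨algebraMap A (I → A) f ^ (∑ i, k i), ⟨_, rfl⟩, ?_⟩
    rw [pi_dvd_iff]
    intro i
    have hk' : f ^ k i = n i := hk i
    rw [Pi.pow_apply, ← hk']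
    exact pow_dvd_pow _ (Finset.single_le_sum (fun _ _ => Nat.zero_le _) (Finset.mem_univ i))

theorem main_aux {A : Type u} [CommRing A] [IsDomain A] [IsNoetherianRing A] (p : ℕ)
    [hp : Fact p.Prime] (f : A) (hf0 : f ≠ 0)
    (hpu : ¬ IsUnit ((p : ℕ) : Localization.Away f))
    (B : Type u) [CommRing B] [Algebra A B] [Algebra (Localization.Away f) B]
    [IsScalarTower A (Localization.Away f) B]
    [Algebra.FormallyUnramified (Localization.Away f) B]
    (C₁ : Type u) [CommRing C₁] [Algebra (TT p f) C₁]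
    (e : Localization.Away (algebraMap (TT p f) C₁ (AdjoinRoot.of _ f)) ≃ₐ[TT p f] TT p f ⊗[A] B)
    {I : Type u} [Fintype I] (σ : I → (C₁ →ₐ[TT p f] TT p f))
    (hσ : Function.Bijective (fun (c : C₁) (i : I) => σ i c)) :
    Nonempty (Localization.Away (algebraMap A (I → A) f) ≃ₐ[A] B) := by
  classical
  haveI : IsDomain (Localization.Away f) :=
    IsLocalization.isDomain_localization
      (powers_le_nonZeroDivisors_of_noZeroDivisors hf0)
  haveI : IsNoetherianRing (Localization.Away f) :=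
    IsLocalization.isNoetherianRing (Submonoid.powers f) _ inferInstance
  let χ := chi p f (Localization.Away f) B C₁ e σ
  have hχ := chi_tmul_one p f (Localization.Away f) B C₁ e σ
  let Ψ := Psi p f (Localization.Away f) hpu B χ hχ
  have hbij : Function.Bijective Ψ :=
    ⟨Psi_injective p f (Localization.Away f) hpu B χ hχ
        (chi_inj p f hf0 (Localization.Away f) B C₁ e σ hσ),
      Psi_surjective p f (Localization.Away f) hpu B χ hχ
        (chi_idem p f (Localization.Away f) B C₁ e σ hσ)⟩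
  let E1 : B ≃ₐ[A] (I → Localization.Away f) :=
    (AlgEquiv.ofBijective Ψ hbij).restrictScalars A
  haveI := isLocalization_pi_away f (Localization.Away f) I
  let E2 : Localization.Away (algebraMap A (I → A) f) ≃ₐ[I → A] (I → Localization.Away f) :=
    IsLocalization.algEquiv (Submonoid.powers (algebraMap A (I → A) f)) _ _
  exact ⟨(E2.restrictScalars A).trans E1.symm⟩

end Final

end Groth.Agent.Lib.FEtPthH8
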