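import Mathlib
import Groth.Agent.Lib.FEtPth2_helper8
import Groth.Agent.Lib.FEtPth3_helper8
import Groth.Agent.Lib.Regular_helper5

/-!
# Finite étale covers split by a `p`-th root extension (helper8), part 4: assembly
-/

set_option autoImplicit false

namespace Groth.Agent.Lib.FEtPthH8

universe u

open TensorProduct Polynomial IsLocalRing

section Assembly

variable {A : Type u} [CommRing A]

/-- `p` stays a non-unit in `A[1/f]` when `(f)` is prime, `p ∉ (f)` and `p` is a non-unit. -/
theorem not_isUnit_natCast_away [IsDomain A] (p : ℕ) (f : A) (hf0 : f ≠ 0)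
    (hprime : (Ideal.span {f}).IsPrime) (hp : (p : A) ∉ Ideal.span {f})
    (hnu : ¬ IsUnit (p : A)) : ¬ IsUnit ((p : ℕ) : Localization.Away f) := by
  intro hu
  have h1 : ((p : ℕ) : Localization.Away f) = algebraMap A (Localization.Away f) (p : A) :=
    (map_natCast _ p).symm
  rw [h1, IsLocalization.Away.algebraMap_isUnit_iff (x := f)] at hu
  obtain ⟨n, hn⟩ := hu
  have key : ∀ n : ℕ, (p : A) ∣ f ^ n → IsUnit (p : A) := by
    intro n
    induction n with
    | zero => intro h; rw [pow_zero] at h; exact isUnit_of_dvd_one h
    | succ n ih =>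
      rintro ⟨a, ha⟩
      have hmem : (p : A) * a ∈ Ideal.span {f} := by
        rw [← ha, pow_succ]
        exact Ideal.mul_mem_left _ _ (Ideal.mem_span_singleton_self f)
      rcases hprime.mem_or_mem hmem with h | h
      · exact absurd h hp
      · obtain ⟨a', rfl⟩ := Ideal.mem_span_singleton'.1 h
        apply ih
        refine ⟨a', ?_⟩
        apply mul_right_cancel₀ hf0
        rw [← pow_succ, ha]
        ring
  exact hnu (key n hn)

theorem main18362 [IsRegularLocalRing A] [HenselianLocalRing A]
    [IsSepClosed (IsLocalRing.ResidueField A)]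
    (p : ℕ) [Fact p.Prime] [CharP (IsLocalRing.ResidueField A) p] (f : A)
    (hreg : IsRegularLocalRing (A ⧸ Ideal.span {f})) (hp : (p : A) ∉ Ideal.span {f})
    (B : Type u) [CommRing B] [Algebra A B] [Algebra (Localization.Away f) B]
    [IsScalarTower A (Localization.Away f) B] [Module.Finite (Localization.Away f) B]
    [Algebra.Etale (Localization.Away f) B]
    (h : ∃ (C₁ : Type u) (_ : CommRing C₁)
      (_ : Algebra (AdjoinRoot (Polynomial.X ^ p - Polynomial.C f)) C₁),
      Module.Finite (AdjoinRoot (Polynomial.X ^ p - Polynomial.C f)) C₁ ∧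
      Algebra.Etale (AdjoinRoot (Polynomial.X ^ p - Polynomial.C f)) C₁ ∧
      Nonempty (Localization.Away (algebraMap (AdjoinRoot (Polynomial.X ^ p - Polynomial.C f)) C₁
          (AdjoinRoot.of (Polynomial.X ^ p - Polynomial.C f) f))
        ≃ₐ[AdjoinRoot (Polynomial.X ^ p - Polynomial.C f)]
          TensorProduct A (AdjoinRoot (Polynomial.X ^ p - Polynomial.C f)) B)) :
    ∃ (C : Type u) (_ : CommRing C) (_ : Algebra A C), Module.Finite A C ∧ Algebra.Etale A C ∧
      Nonempty (Localization.Away (algebraMap A C f) ≃ₐ[A] B) := by
  haveI : IsDomain A := Groth.Agent.RegularLib.isDomain A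
  by_cases hf0 : f = 0
  · -- degenerate case: everything over `A[1/0] = 0`
    subst hf0
    haveI hsL : Subsingleton (Localization.Away (0 : A)) :=
      IsLocalization.subsingleton (M := Submonoid.powers (0 : A)) ⟨1, pow_one 0⟩
    haveI hsB : Subsingleton B := by
      have h01 : (1 : B) = 0 := by
        rw [← map_one (algebraMap (Localization.Away (0 : A)) B),
          Subsingleton.elim (1 : Localization.Away (0 : A)) 0, map_zero]
      exact subsingleton_of_zero_eq_one h01.symm
    refine ⟨A, inferInstance, inferInstance, inferInstance, inferInstance, ?_⟩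
    haveI hsL' : Subsingleton (Localization.Away (algebraMap A A (0 : A))) :=
      IsLocalization.subsingleton (M := Submonoid.powers (algebraMap A A (0 : A)))
        ⟨1, by simp⟩
    exact ⟨{ toFun := fun _ => 0
             invFun := fun _ => 0
             left_inv := fun _ => Subsingleton.elim _ _
             right_inv := fun _ => Subsingleton.elim _ _
             map_mul' := fun _ _ => Subsingleton.elim _ _
             map_add' := fun _ _ => Subsingleton.elim _ _
             commutes' := fun _ => Subsingleton.elim _ _ }⟩
  · haveI : IsDomain (A ⧸ Ideal.span {f}) := Groth.Agent.RegularLib.isDomain _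
    have hprime : (Ideal.span {f}).IsPrime := (Ideal.Quotient.isDomain_iff_prime _).mp inferInstance
    have hfm : f ∈ maximalIdeal A := by
      rw [mem_maximalIdeal, mem_nonunits_iff]
      intro hu
      exact hprime.ne_top (Ideal.span_singleton_eq_top.2 hu)
    have hnu : ¬ IsUnit (p : A) := by
      rw [← mem_nonunits_iff, ← mem_maximalIdeal, ← residue_eq_zero_iff, map_natCast]
      exact CharP.cast_eq_zero _ p
    have hpu := not_isUnit_natCast_away p f hf0 hprime hp hnu
    obtain ⟨C₁, _, _, hfin, het, ⟨e⟩⟩ := h
    haveI := hfin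
    haveI := het
    haveI hloc : IsLocalRing (TT p f) := isLocalRing_TT p f hfm
    haveI hhens : HenselianLocalRing (TT p f) := henselian_TT p f hfm
    haveI hsc : IsSepClosed (ResidueField (TT p f)) := isSepClosed_TT p f hfm _
    obtain ⟨I, hI, σ, hσ⟩ := exists_sections (R := TT p f) C₁
    haveI := hI
    exact ⟨I → A, inferInstance, inferInstance, inferInstance, inferInstance,
      main_aux p f hf0 hpu B C₁ e σ hσ⟩

end Assembly

end Groth.Agent.Lib.FEtPthH8
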