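import Mathlib

/-!
# Formally étale maps induce isomorphisms on infinitesimal neighbourhoods
-/

namespace Groth.Agent.Lib.FEtQuot

open TensorProduct

universe u

theorem map_pow_eq_bot {A : Type u} [CommRing A] (I : Ideal A) (n : ℕ) :
    (I.map (Ideal.Quotient.mk (I ^ n))) ^ n = ⊥ := by
  rw [← Ideal.map_pow, Ideal.map_quotient_self]

theorem isNilpotent_map {A : Type u} [CommRing A] (I : Ideal A) (n : ℕ) :
    IsNilpotent (I.map (Ideal.Quotient.mk (I ^ n))) :=
  ⟨n, map_pow_eq_bot I n⟩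

theorem quotientMap_bijective_of_lifting {A B : Type u} [CommRing A] [CommRing B] (f : A →+* B)
    (J : Ideal B) (n : ℕ)
    (hsurj : Function.Surjective ((Ideal.Quotient.mk J).comp f))
    (hex : ∃ σ : B →+* A ⧸ (J.comap f) ^ n, σ.comp f = Ideal.Quotient.mk _ ∧
      ∀ b ∈ J, σ b ∈ (J.comap f).map (Ideal.Quotient.mk ((J.comap f) ^ n)))
    (huniq : ∀ τ₁ τ₂ : B →+* B ⧸ J ^ n, τ₁.comp f = τ₂.comp f →
      (∀ b, τ₁ b - τ₂ b ∈ J.map (Ideal.Quotient.mk (J ^ n))) → τ₁ = τ₂) :
    Function.Bijective (Ideal.quotientMap (J ^ n) f (Ideal.le_comap_pow f n)) := by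
  obtain ⟨σ, hσf, hσJ⟩ := hex
  have hqmk : ∀ a, Ideal.quotientMap (J ^ n) f (Ideal.le_comap_pow f n) (Ideal.Quotient.mk _ a) =
      Ideal.Quotient.mk _ (f a) := fun a => Ideal.quotientMap_mk
  have hσfa : ∀ a, σ (f a) = Ideal.Quotient.mk _ a := fun a => DFunLike.congr_fun hσf a
  have hσJn : ∀ b ∈ J ^ n, σ b = 0 := by
    intro b hb
    have h1 : σ b ∈ (J.map σ) ^ n := by
      rw [← Ideal.map_pow]; exact Ideal.mem_map_of_mem σ hb
    have h2 : J.map σ ≤ (J.comap f).map (Ideal.Quotient.mk ((J.comap f) ^ n)) := by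
      rw [Ideal.map_le_iff_le_comap]; intro b hb; exact hσJ b hb
    have h3 := Ideal.pow_right_mono h2 n h1
    rw [map_pow_eq_bot] at h3
    exact h3
  let σbar : B ⧸ J ^ n →+* A ⧸ (J.comap f) ^ n := Ideal.Quotient.lift (J ^ n) σ hσJn
  have hσbar : ∀ b, σbar (Ideal.Quotient.mk _ b) = σ b := fun b => Ideal.Quotient.lift_mk _ _ _
  have h_left : ∀ x, σbar (Ideal.quotientMap (J ^ n) f (Ideal.le_comap_pow f n) x) = x := by
    intro x
    obtain ⟨a, rfl⟩ := Ideal.Quotient.mk_surjective x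
    rw [hqmk, hσbar, hσfa]
  have hτ := huniq ((Ideal.quotientMap (J ^ n) f (Ideal.le_comap_pow f n)).comp σ)
    (Ideal.Quotient.mk _) (by
      ext a
      show Ideal.quotientMap (J ^ n) f (Ideal.le_comap_pow f n) (σ (f a)) =
        Ideal.Quotient.mk _ (f a)
      rw [hσfa, hqmk]) (by
      intro b
      obtain ⟨a, ha⟩ := hsurj (Ideal.Quotient.mk J b)
      have hj : b - f a ∈ J := Ideal.Quotient.eq.mp ha.symm
      have e1 : ((Ideal.quotientMap (J ^ n) f (Ideal.le_comap_pow f n)).comp σ) b -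
          Ideal.Quotient.mk (J ^ n) b =
          Ideal.quotientMap (J ^ n) f (Ideal.le_comap_pow f n) (σ (b - f a)) -
            Ideal.Quotient.mk (J ^ n) (b - f a) := by
        simp only [RingHom.comp_apply, map_sub, hσfa, hqmk]
        ring
      rw [e1]
      refine sub_mem ?_ (Ideal.mem_map_of_mem _ hj)
      have h4 := hσJ _ hj
      have h5 : ((J.comap f).map (Ideal.Quotient.mk ((J.comap f) ^ n))).map
          (Ideal.quotientMap (J ^ n) f (Ideal.le_comap_pow f n)) ≤
          J.map (Ideal.Quotient.mk (J ^ n)) := by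
        rw [Ideal.map_map, Ideal.map_le_iff_le_comap]
        intro a ha
        rw [Ideal.mem_comap, RingHom.comp_apply, hqmk]; exact Ideal.mem_map_of_mem _ ha
      exact h5 (Ideal.mem_map_of_mem (Ideal.quotientMap (J ^ n) f (Ideal.le_comap_pow f n)) h4))
  have h_right : ∀ y, Ideal.quotientMap (J ^ n) f (Ideal.le_comap_pow f n) (σbar y) = y := by
    intro y
    obtain ⟨b, rfl⟩ := Ideal.Quotient.mk_surjective y
    rw [hσbar]
    exact DFunLike.congr_fun hτ b
  exact ⟨Function.LeftInverse.injective h_left, Function.RightInverse.surjective h_right⟩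

/-- S9428 -/
theorem quotientMap_bijective_of_formallyEtale (R : Type u) [CommRing R] (S : Type u)
    [CommRing S] [Algebra R S] [Algebra.FormallyEtale R S] (J : Ideal S)
    (hJ : Function.Surjective (algebraMap R (S ⧸ J))) (n : ℕ) :
    Function.Bijective (Ideal.quotientMap (J ^ n) (algebraMap R S)
      (Ideal.le_comap_pow (algebraMap R S) n)) := by
  rcases Nat.eq_zero_or_pos n with rfl | hn
  · -- both quotients are trivial
    haveI h1 : Subsingleton (R ⧸ (J.comap (algebraMap R S)) ^ 0) := by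
      rw [pow_zero]; exact Ideal.Quotient.subsingleton_iff.mpr Ideal.one_eq_top
    haveI h2 : Subsingleton (S ⧸ J ^ 0) := by
      rw [pow_zero]; exact Ideal.Quotient.subsingleton_iff.mpr Ideal.one_eq_top
    exact ⟨fun x y _ => Subsingleton.elim x y, fun y => ⟨0, Subsingleton.elim _ _⟩⟩
  apply quotientMap_bijective_of_lifting
  · intro y
    obtain ⟨r, hr⟩ := hJ y
    exact ⟨r, hr⟩
  · -- existence of the lift
    have hle : (J.comap (algebraMap R S)) ^ n ≤ J.comap (algebraMap R S) :=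
      Ideal.pow_le_self hn.ne'
    let g : (R ⧸ (J.comap (algebraMap R S)) ^ n) →ₐ[R] (S ⧸ J) :=
      Ideal.Quotient.liftₐ _ (Algebra.ofId R (S ⧸ J)) (fun a ha => by
        have := hle ha
        rw [Ideal.mem_comap] at this
        show algebraMap R (S ⧸ J) a = 0
        rw [IsScalarTower.algebraMap_apply R S (S ⧸ J)]
        exact Ideal.Quotient.eq_zero_iff_mem.mpr this)
    have hgmk : ∀ a, g (Ideal.Quotient.mk _ a) = algebraMap R (S ⧸ J) a := fun a => rfl
    have hg : Function.Surjective g := by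
      intro y
      obtain ⟨r, hr⟩ := hJ y
      exact ⟨Ideal.Quotient.mk _ r, by rw [hgmk, hr]⟩
    have hker : RingHom.ker (g : (R ⧸ (J.comap (algebraMap R S)) ^ n) →+* (S ⧸ J)) ≤
        (J.comap (algebraMap R S)).map (Ideal.Quotient.mk ((J.comap (algebraMap R S)) ^ n)) := by
      intro x hx
      obtain ⟨a, rfl⟩ := Ideal.Quotient.mk_surjective x
      rw [RingHom.mem_ker] at hx
      have hx' : algebraMap R (S ⧸ J) a = 0 := hx
      rw [IsScalarTower.algebraMap_apply R S (S ⧸ J)] at hx'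
      exact Ideal.mem_map_of_mem _ (Ideal.mem_comap.mpr (Ideal.Quotient.eq_zero_iff_mem.mp hx'))
    have hg' : IsNilpotent (RingHom.ker (g : (R ⧸ (J.comap (algebraMap R S)) ^ n) →+* (S ⧸ J))) := by
      refine ⟨n, ?_⟩
      rw [Ideal.zero_eq_bot, eq_bot_iff]
      exact (Ideal.pow_right_mono hker n).trans (map_pow_eq_bot _ n).le
    let σ₀ : S →ₐ[R] (R ⧸ (J.comap (algebraMap R S)) ^ n) :=
      Algebra.FormallySmooth.liftOfSurjective (Ideal.Quotient.mkₐ R J) g hg hg'
    refine ⟨σ₀.toRingHom, ?_, ?_⟩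
    · ext r
      exact σ₀.commutes r
    · intro b hb
      apply hker
      rw [RingHom.mem_ker]
      have := Algebra.FormallySmooth.liftOfSurjective_apply (Ideal.Quotient.mkₐ R J) g hg hg' b
      show g (σ₀ b) = 0
      rw [this]
      exact Ideal.Quotient.eq_zero_iff_mem.mpr hb
  · -- uniqueness
    intro τ₁ τ₂ hτ hN
    letI : Algebra R (S ⧸ J ^ n) := (τ₁.comp (algebraMap R S)).toAlgebra
    let ψ₁ : S →ₐ[R] (S ⧸ J ^ n) := { τ₁ with commutes' := fun r => rfl }
    let ψ₂ : S →ₐ[R] (S ⧸ J ^ n) :=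
      { τ₂ with commutes' := fun r => (DFunLike.congr_fun hτ r).symm }
    have : ψ₁ = ψ₂ := Algebra.FormallyUnramified.ext _ (isNilpotent_map J n)
      (fun x => Ideal.Quotient.eq.mpr (hN x))
    ext x
    exact DFunLike.congr_fun this x

/-- S9445 -/
theorem principalParts_bijective (R : Type u) [CommRing R]
    (S : Type u) [CommRing S] [Algebra R S] (S' : Type u) [CommRing S'] [Algebra R S']
    [Algebra S S'] [IsScalarTower R S S'] [Algebra.FormallyEtale S S'] (k : ℕ) :
    Function.Bijective (Ideal.quotientMap (KaehlerDifferential.ideal R S' ^ (k + 1))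
      (Algebra.TensorProduct.map (AlgHom.id S' S') (IsScalarTower.toAlgHom R S S')).toRingHom
      (Ideal.le_comap_pow
        (Algebra.TensorProduct.map (AlgHom.id S' S') (IsScalarTower.toAlgHom R S S')).toRingHom
        (K := KaehlerDifferential.ideal R S') (k + 1))) := by
  set f : S' ⊗[R] S →+* S' ⊗[R] S' :=
    (Algebra.TensorProduct.map (AlgHom.id S' S') (IsScalarTower.toAlgHom R S S')).toRingHom with hf
  have hftmul : ∀ (a : S') (s : S), f (a ⊗ₜ[R] s) = a ⊗ₜ[R] (algebraMap S S' s) := fun a s => by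
    simp [hf]
  have hJmem : ∀ b : S' ⊗[R] S', b ∈ KaehlerDifferential.ideal R S' ↔
      Algebra.TensorProduct.lmul' R b = 0 := fun b => RingHom.mem_ker
  have hImem : ∀ a : S' ⊗[R] S, a ∈ (KaehlerDifferential.ideal R S').comap f ↔
      Algebra.TensorProduct.lmul' R (f a) = 0 := fun a => by rw [Ideal.mem_comap, hJmem]
  apply quotientMap_bijective_of_lifting f (KaehlerDifferential.ideal R S') (k + 1)
  · -- surjectivity
    intro y
    obtain ⟨b, rfl⟩ := Ideal.Quotient.mk_surjective y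
    refine ⟨(Algebra.TensorProduct.lmul' R b) ⊗ₜ[R] (1 : S), ?_⟩
    show Ideal.Quotient.mk _ (f _) = Ideal.Quotient.mk _ b
    rw [hftmul, map_one, Ideal.Quotient.eq, hJmem, map_sub,
      Algebra.TensorProduct.lmul'_apply_tmul, mul_one, sub_self]
  · -- existence
    letI algSQ : Algebra S ((S' ⊗[R] S) ⧸ ((KaehlerDifferential.ideal R S').comap f) ^ (k + 1)) :=
      ((Ideal.Quotient.mk _).comp
        (Algebra.TensorProduct.includeRight : S →ₐ[R] S' ⊗[R] S).toRingHom).toAlgebra
    have halgS : ∀ s : S, algebraMap S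
        ((S' ⊗[R] S) ⧸ ((KaehlerDifferential.ideal R S').comap f) ^ (k + 1)) s =
        Ideal.Quotient.mk _ ((1 : S') ⊗ₜ[R] s) := fun s => rfl
    have hN := isNilpotent_map ((KaehlerDifferential.ideal R S').comap f) (k + 1)
    have hdiff : ∀ s : S, (algebraMap S S' s) ⊗ₜ[R] (1 : S) - (1 : S') ⊗ₜ[R] s ∈
        (KaehlerDifferential.ideal R S').comap f := by
      intro s
      rw [hImem, map_sub, hftmul, hftmul, map_one, map_sub,
        Algebra.TensorProduct.lmul'_apply_tmul, Algebra.TensorProduct.lmul'_apply_tmul,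
        mul_one, one_mul, sub_self]
    let g₀ : S' →ₐ[S] (((S' ⊗[R] S) ⧸ ((KaehlerDifferential.ideal R S').comap f) ^ (k + 1)) ⧸
        (((KaehlerDifferential.ideal R S').comap f).map
          (Ideal.Quotient.mk (((KaehlerDifferential.ideal R S').comap f) ^ (k + 1))))) :=
      { toRingHom := (Ideal.Quotient.mk _).comp ((Ideal.Quotient.mk _).comp
          (Algebra.TensorProduct.includeLeftRingHom : S' →+* S' ⊗[R] S))
        commutes' := fun s => by
          show Ideal.Quotient.mk _ (Ideal.Quotient.mk _ ((algebraMap S S' s) ⊗ₜ[R] (1 : S))) =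
            Ideal.Quotient.mk _ (Ideal.Quotient.mk _ ((1 : S') ⊗ₜ[R] s))
          rw [Ideal.Quotient.eq, ← map_sub]
          exact Ideal.mem_map_of_mem _ (hdiff s) }
    let v := Algebra.FormallySmooth.lift _ hN g₀
    have hv : ∀ x : S', Ideal.Quotient.mk _ (v x) =
        Ideal.Quotient.mk _ (Ideal.Quotient.mk _ (x ⊗ₜ[R] (1 : S))) := fun x =>
      Algebra.FormallySmooth.mk_lift _ hN g₀ x
    let left : S' →ₐ[R] ((S' ⊗[R] S) ⧸ ((KaehlerDifferential.ideal R S').comap f) ^ (k + 1)) :=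
      (Ideal.Quotient.mkₐ R _).comp Algebra.TensorProduct.includeLeft
    let vR : S' →ₐ[R] ((S' ⊗[R] S) ⧸ ((KaehlerDifferential.ideal R S').comap f) ^ (k + 1)) :=
      { toRingHom := v.toRingHom
        commutes' := fun r => by
          show v (algebraMap R S' r) = Ideal.Quotient.mk _ (algebraMap R (S' ⊗[R] S) r)
          rw [IsScalarTower.algebraMap_apply R S S', AlgHom.commutes, halgS,
            Algebra.TensorProduct.algebraMap_apply, Algebra.algebraMap_eq_smul_one,
            Algebra.algebraMap_eq_smul_one (A := S'), TensorProduct.smul_tmul] }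
    have hvR : ∀ x, vR x = v x := fun x => rfl
    let σ₀ : S' ⊗[R] S' →ₐ[R]
        ((S' ⊗[R] S) ⧸ ((KaehlerDifferential.ideal R S').comap f) ^ (k + 1)) :=
      Algebra.TensorProduct.productMap left vR
    have hσ₀ : ∀ a b : S', σ₀ (a ⊗ₜ[R] b) = Ideal.Quotient.mk _ (a ⊗ₜ[R] (1 : S)) * v b :=
      fun a b => Algebra.TensorProduct.productMap_apply_tmul _ _ _ _
    refine ⟨σ₀.toRingHom, ?_, ?_⟩
    · apply Algebra.TensorProduct.ringHom_ext
      · ext a
        show σ₀ (f (a ⊗ₜ[R] (1 : S))) = Ideal.Quotient.mk _ (a ⊗ₜ[R] (1 : S))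
        rw [hftmul, map_one, hσ₀, map_one, mul_one]
      · ext s
        show σ₀ (f ((1 : S') ⊗ₜ[R] s)) = Ideal.Quotient.mk _ ((1 : S') ⊗ₜ[R] s)
        rw [hftmul, hσ₀, AlgHom.commutes, halgS]
        have : ((1 : S') ⊗ₜ[R] (1 : S)) = (1 : S' ⊗[R] S) := rfl
        rw [this, map_one, one_mul]
    · intro b hb
      rw [← KaehlerDifferential.span_range_eq_ideal] at hb
      induction hb using Submodule.span_induction with
      | mem x hx =>
        obtain ⟨c, rfl⟩ := hx
        show σ₀ ((1 : S') ⊗ₜ[R] c - c ⊗ₜ[R] (1 : S')) ∈ _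
        rw [map_sub, hσ₀, hσ₀, map_one, mul_one]
        have h1 : ((1 : S') ⊗ₜ[R] (1 : S)) = (1 : S' ⊗[R] S) := rfl
        rw [h1, map_one, one_mul]
        exact Ideal.Quotient.eq.mp (hv c)
      | zero => rw [map_zero]; exact zero_mem _
      | add x y _ _ hx hy => rw [map_add]; exact add_mem hx hy
      | smul a x _ hx => rw [smul_eq_mul, map_mul]; exact Ideal.mul_mem_left _ _ hx
  · -- uniqueness
    intro τ₁ τ₂ hτ hN
    have hτ' : ∀ a, τ₁ (f a) = τ₂ (f a) := fun a => DFunLike.congr_fun hτ a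
    apply Algebra.TensorProduct.ringHom_ext
    · ext a
      show τ₁ (a ⊗ₜ[R] (1 : S')) = τ₂ (a ⊗ₜ[R] (1 : S'))
      have := hτ' (a ⊗ₜ[R] (1 : S))
      rwa [hftmul, map_one] at this
    · letI : Algebra S (S' ⊗[R] S' ⧸ KaehlerDifferential.ideal R S' ^ (k + 1)) :=
        ((τ₁.comp f).comp
          (Algebra.TensorProduct.includeRight : S →ₐ[R] S' ⊗[R] S).toRingHom).toAlgebra
      let ψ₁ : S' →ₐ[S] (S' ⊗[R] S' ⧸ KaehlerDifferential.ideal R S' ^ (k + 1)) :=
        { toRingHom := τ₁.comp (Algebra.TensorProduct.includeRight : S' →ₐ[R] S' ⊗[R] S').toRingHom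
          commutes' := fun s => by
            show τ₁ ((1 : S') ⊗ₜ[R] (algebraMap S S' s)) = τ₁ (f ((1 : S') ⊗ₜ[R] s))
            rw [hftmul] }
      let ψ₂ : S' →ₐ[S] (S' ⊗[R] S' ⧸ KaehlerDifferential.ideal R S' ^ (k + 1)) :=
        { toRingHom := τ₂.comp (Algebra.TensorProduct.includeRight : S' →ₐ[R] S' ⊗[R] S').toRingHom
          commutes' := fun s => by
            show τ₂ ((1 : S') ⊗ₜ[R] (algebraMap S S' s)) = τ₁ (f ((1 : S') ⊗ₜ[R] s))
            rw [hτ', hftmul] }
      have : ψ₁ = ψ₂ := Algebra.FormallyUnramified.ext _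
        (isNilpotent_map (KaehlerDifferential.ideal R S') (k + 1))
        (fun x => Ideal.Quotient.eq.mpr (hN ((1 : S') ⊗ₜ[R] x)))
      ext x
      exact DFunLike.congr_fun this x

end Groth.Agent.Lib.FEtQuot
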