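import Mathlib

/-!
# Injective maps of finite étale algebras of the same rank are bijective (helper3)
-/

set_option autoImplicit false
universe u

namespace Groth.Agent.Lib.FEtRankH3

open TensorProduct

section

variable {R A B : Type u} [CommRing R] [CommRing A] [CommRing B] [Algebra R A] [Algebra R B]

/-- an injective algebra map between finite étale algebras is universally injective on fibres -/
theorem rTensor_injective_of_etale [Module.Finite R A] [Algebra.Etale R A] [Module.Finite R B]
    [Algebra.Etale R B] (φ : A →ₐ[R] B) (hφ : Function.Injective φ)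
    (k : Type u) [AddCommGroup k] [Module R k] :
    Function.Injective (LinearMap.rTensor k φ.toLinearMap) := by
  letI algAB : Algebra A B := φ.toRingHom.toAlgebra
  haveI : IsScalarTower R A B := IsScalarTower.of_algebraMap_eq (fun r => (φ.commutes r).symm)
  haveI : Algebra.Etale A B := Algebra.Etale.of_restrictScalars R A B
  haveI : Module.Finite A B := Module.Finite.of_restrictScalars_finite R A B
  haveI : Algebra.IsIntegral A B := inferInstance
  haveI : FaithfulSMul A B := (faithfulSMul_iff_algebraMap_injective A B).mpr hφ
  haveI : Module.Flat A B := inferInstance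
  haveI : Module.FaithfullyFlat A B :=
    Module.FaithfullyFlat.of_comap_surjective (Algebra.IsIntegral.comap_surjective A B)
  have h1 : Function.Injective (TensorProduct.mk A B (A ⊗[R] k) 1) :=
    Module.FaithfullyFlat.tensorProduct_mk_injective (A := A) (B := B) (A ⊗[R] k)
  have h2 : ∀ z : A ⊗[R] k, LinearMap.rTensor k φ.toLinearMap z =
      TensorProduct.AlgebraTensorModule.cancelBaseChange R A B B k
        (TensorProduct.mk A B (A ⊗[R] k) 1 z) := by
    intro z
    induction z using TensorProduct.induction_on with
    | zero => simp
    | tmul a c =>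
      rw [LinearMap.rTensor_tmul, TensorProduct.mk_apply,
        TensorProduct.AlgebraTensorModule.cancelBaseChange_tmul, Algebra.smul_def, mul_one]
      rfl
    | add x y hx hy => rw [map_add, map_add, map_add, hx, hy]
  intro z w hzw
  rw [h2, h2] at hzw
  exact h1 ((TensorProduct.AlgebraTensorModule.cancelBaseChange R A B B k).injective hzw)

/-- **Injective + same rank ⇒ bijective** for finite étale algebras. -/
theorem bijective_of_injective_of_rankAtStalk_eq [Module.Finite R A] [Algebra.Etale R A]
    [Module.Finite R B] [Algebra.Etale R B] (φ : A →ₐ[R] B) (hφ : Function.Injective φ)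
    (hrank : ∀ P : PrimeSpectrum R, Module.rankAtStalk A P = Module.rankAtStalk B P) :
    Function.Bijective φ := by
  refine ⟨hφ, ?_⟩
  haveI : Module.Flat R A := inferInstance
  haveI : Module.Flat R B := inferInstance
  -- the cokernel
  have hC : Subsingleton (B ⧸ LinearMap.range φ.toLinearMap) := by
    rw [← Module.support_eq_empty_iff (R := R), Set.eq_empty_iff_forall_notMem]
    intro P
    rw [Module.mem_support_iff_nontrivial_residueField_tensorProduct,
      not_nontrivial_iff_subsingleton]
    -- surjectivity on the fibre
    have hinj : Function.Injective (LinearMap.lTensor P.asIdeal.ResidueField φ.toLinearMap) :=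
      (LinearMap.lTensor_inj_iff_rTensor_inj _ _).mpr
        (rTensor_injective_of_etale φ hφ P.asIdeal.ResidueField)
    have hinj' : Function.Injective (LinearMap.baseChange P.asIdeal.ResidueField φ.toLinearMap) :=
      hinj
    have hfr : Module.finrank P.asIdeal.ResidueField (P.asIdeal.ResidueField ⊗[R] A) =
        Module.finrank P.asIdeal.ResidueField (P.asIdeal.ResidueField ⊗[R] B) := by
      have h1 := Module.rankAtStalk_eq (M := A) P
      have h2 := Module.rankAtStalk_eq (M := B) P
      rw [hrank P] at h1
      exact h1.symm.trans h2
    have hsurj : Function.Surjective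
        (LinearMap.baseChange P.asIdeal.ResidueField φ.toLinearMap) :=
      (LinearMap.injective_iff_surjective_of_finrank_eq_finrank hfr).mp hinj'
    have hq : Function.Surjective (LinearMap.lTensor P.asIdeal.ResidueField
        (LinearMap.range φ.toLinearMap).mkQ) :=
      LinearMap.lTensor_surjective _ (Submodule.mkQ_surjective _)
    refine ⟨fun a b => ?_⟩
    suffices h : ∀ c : P.asIdeal.ResidueField ⊗[R] (B ⧸ LinearMap.range φ.toLinearMap), c = 0 by
      rw [h a, h b]
    intro c
    obtain ⟨y, rfl⟩ := hq c
    obtain ⟨x, rfl⟩ := hsurj y
    show (LinearMap.lTensor P.asIdeal.ResidueField (LinearMap.range φ.toLinearMap).mkQ)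
      (LinearMap.lTensor P.asIdeal.ResidueField φ.toLinearMap x) = 0
    rw [← LinearMap.comp_apply, ← LinearMap.lTensor_comp]
    have h0 : (LinearMap.range φ.toLinearMap).mkQ ∘ₗ φ.toLinearMap = 0 := by
      ext a
      simp
    rw [h0, LinearMap.lTensor_zero, LinearMap.zero_apply]
  intro b
  have h1 : (LinearMap.range φ.toLinearMap).mkQ b = 0 := Subsingleton.elim _ _
  rw [Submodule.mkQ_apply, Submodule.Quotient.mk_eq_zero] at h1
  obtain ⟨a, ha⟩ := h1
  exact ⟨a, ha⟩

end

end Groth.Agent.Lib.FEtRankH3
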