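import Mathlib
import Groth.Prelude.Def_FEt
import Groth.Agent.Lib.FEtFull_helper4
import Groth.Agent.Lib.GeomIrrSch_helper4
import Groth.Agent.Lib.HensConn3_helper4

/-!
# Finite étale covers: pseudo-functoriality of restriction, full faithfulness along a separably
closed base field extension, and along the closed fibre over a henselian pair (helper8)
-/

set_option autoImplicit false
set_option linter.style.haveILetI false
universe u
open CategoryTheory CategoryTheory.Limits AlgebraicGeometry

namespace Groth.Agent.Lib.FEtSepClH8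

/-- restriction is compatible with composition -/
noncomputable def restrictComp {Y'' Y' Y : Scheme.{u}} (a : Y'' ⟶ Y') (b : Y' ⟶ Y) (c : Y'' ⟶ Y)
    (h : c = a ≫ b) (V : FEt.Cat Y) :
    (FEt.restrict c).obj V ≅ (FEt.restrict a).obj ((FEt.restrict b).obj V) :=
  (MorphismProperty.Over.pullbackComp a b c h).app V

/-- a fully faithful restriction functor reflects isomorphy -/
theorem iso_of_restrict_iso {Y' Y : Scheme.{u}} (g : Y' ⟶ Y)
    (hg : (FEt.restrict g).Full ∧ (FEt.restrict g).Faithful) {V W : FEt.Cat Y}
    (e : (FEt.restrict g).obj V ≅ (FEt.restrict g).obj W) : Nonempty (V ≅ W) := by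
  haveI := hg.1
  haveI := hg.2
  exact ⟨(FEt.restrict g).preimageIso e⟩

/-- Base change along an extension of a separably closed field is fully faithful on finite étale
covers. -/
theorem fullyFaithful_of_sepClosed {K L : Type u} [Field K] [IsSepClosed K] [Field L]
    (ψ : K →+* L) {Y Y' : Scheme.{u}} (h : Y ⟶ Spec (CommRingCat.of K)) (p : Y' ⟶ Y)
    (q : Y' ⟶ Spec (CommRingCat.of L))
    (sq : IsPullback p q h (Spec.map (CommRingCat.ofHom ψ))) :
    (FEt.restrict p).Full ∧ (FEt.restrict p).Faithful := by
  letI : Algebra K L := ψ.toAlgebra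
  have hψ : Spec.map (CommRingCat.ofHom ψ) = Spec.map (CommRingCat.ofHom (algebraMap K L)) := rfl
  haveI hgc : GeometricallyConnected (Spec.map (CommRingCat.ofHom ψ)) := by
    rw [hψ]; exact Groth.Agent.Lib.GeomIrrSchH4.geomConn_specMap (k := K) L
  haveI huo : UniversallyOpen (Spec.map (CommRingCat.ofHom ψ)) := by
    rw [hψ]; exact Groth.Agent.Lib.GeomIrrSchH4.universallyOpen_specMap (k := K) L
  haveI : GeometricallyConnected p :=
    MorphismProperty.of_isPullback (P := @GeometricallyConnected) sq.flip hgc
  haveI : UniversallyOpen p :=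
    MorphismProperty.of_isPullback (P := @UniversallyOpen) sq.flip huo
  refine Groth.Agent.Lib.FEtFullH4.fullyFaithful_of_fibres p p.surjective
    (fun W c _ _ => Or.inr ?_) (fun F _ y => ?_)
  · exact (pullback.fst c p).isOpenMap
  · haveI : Subsingleton ↥(Spec (CommRingCat.of F)) :=
      inferInstanceAs (Subsingleton (PrimeSpectrum F))
    haveI : Nonempty ↥(Spec (CommRingCat.of F)) :=
      inferInstanceAs (Nonempty (PrimeSpectrum F))
    haveI : ConnectedSpace ↥(Spec (CommRingCat.of F)) := ⟨inferInstance⟩
    haveI : ConnectedSpace ↥(pullback p y) := inferInstance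
    infer_instance


theorem range_fst_of_isPullback {P X Y Z : Scheme.{u}} {fst : P ⟶ X} {snd : P ⟶ Y}
    {f : X ⟶ Z} {g : Y ⟶ Z} (h : IsPullback fst snd f g) :
    Set.range fst = f ⁻¹' Set.range g := by
  have h1 := Scheme.image_preimage_eq_of_isPullback h.flip Set.univ
  rw [Set.preimage_univ, Set.image_univ, Set.image_univ] at h1
  exact h1

open Groth.Agent.Lib.HensConnH4 in
/-- Over a henselian pair `(A, I)`, restriction of finite étale covers of a proper `A`-scheme to
the closed subscheme over `V(I)` is fully faithful. -/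
theorem fullyFaithful_of_henselian {A : Type u} [CommRing A] (I : Ideal A) [hI : HenselianRing A I]
    {T₀ : Scheme.{u}} (ζ : T₀ ⟶ Spec (CommRingCat.of A)) [IsClosedImmersion ζ]
    (hζ : Set.range ζ = (PrimeSpectrum.zeroLocus (I : Set A) : Set (PrimeSpectrum A)))
    {Z Z₀ : Scheme.{u}} (h : Z ⟶ Spec (CommRingCat.of A)) [IsProper h] (ι : Z₀ ⟶ Z)
    (q : Z₀ ⟶ T₀) (sq : IsPullback ι q h ζ) :
    (FEt.restrict ι).Full ∧ (FEt.restrict ι).Faithful := by
  haveI : IsClosedImmersion ι :=
    MorphismProperty.of_isPullback (P := @IsClosedImmersion) sq.flip inferInstance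
  have hrange : Set.range ι = locus I h := by
    rw [range_fst_of_isPullback sq, hζ]
    rfl
  have hD : ∀ U : Set Z, IsOpen U → IsClosed U → U.Nonempty → (U ∩ Set.range ι).Nonempty := by
    intro U _ hUc hne
    rw [hrange]
    exact nonempty_inter_locus I hI.jac h U hUc hne
  have hL : ∀ (W : Scheme.{u}) (c : W ⟶ Z) [IsFinite c] [Etale c] (V : Set ↥(pullback c ι)),
      IsClopen V → ∃ U : Set W, IsClopen U ∧ (pullback.fst c ι).base ⁻¹' U = V := by
    intro W c _ _ V hV
    haveI : IsProper (c ≫ h) := inferInstance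
    have hj : Topology.IsClosedEmbedding (pullback.fst c ι) :=
      (pullback.fst c ι).isClosedEmbedding
    have hjr : Set.range (pullback.fst c ι) = locus I (c ≫ h) := by
      rw [Scheme.Pullback.range_fst, hrange]
      rfl
    obtain ⟨N₁, N₂, hN₁, hN₂, hU, hDj, hN⟩ := relLifts_of_isProper I (c ≫ h)
      ((pullback.fst c ι) '' V) ((pullback.fst c ι) '' Vᶜ)
      (hj.isClosedMap _ hV.isClosed) (hj.isClosedMap _ hV.compl.isClosed)
      (by rw [Set.univ_inter, ← Set.image_union, Set.union_compl_self, Set.image_univ, hjr])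
      (by
        rw [Set.disjoint_image_iff hj.injective]
        exact disjoint_compl_right)
    refine ⟨N₁, ⟨hN₁, ?_⟩, ?_⟩
    · have : N₁ = N₂ᶜ := by
        ext x
        constructor
        · intro hx hx2
          exact (Set.disjoint_left.mp hDj hx hx2)
        · intro hx
          have : x ∈ N₁ ∪ N₂ := by rw [hU]; trivial
          rcases this with h' | h'
          · exact h'
          · exact (hx h').elim
      rw [this]
      exact hN₂.isOpen_compl
    · ext x
      constructor
      · intro hx
        have hx' : (pullback.fst c ι).base x ∈ N₁ ∩ locus I (c ≫ h) :=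
          ⟨hx, by rw [← hjr]; exact ⟨x, rfl⟩⟩
        rw [hN] at hx'
        obtain ⟨y, hy, hyx⟩ := hx'
        rw [← hj.injective hyx]
        exact hy
      · intro hx
        have : (pullback.fst c ι).base x ∈ N₁ ∩ locus I (c ≫ h) := by
          rw [hN]; exact ⟨x, hx, rfl⟩
        exact this.1
  exact ⟨Groth.Agent.Lib.FEtFullH4.full_of_clopen ι hD hL,
    Groth.Agent.Lib.FEtFaithfulH4.faithful_of_clopen ι hD⟩

end Groth.Agent.Lib.FEtSepClH8
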