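import Mathlib
import Groth.Agent.Lib.Henselization12_helper3

/-!
# Henselian data attached to a point of a finite type algebra (helper8)
-/

set_option autoImplicit false
set_option linter.style.haveILetI false
universe u
open scoped TensorProduct
open IsLocalRing

namespace Groth.Agent.Lib.FEtSepClH8

open Groth.Agent.Lib.HenselizationH3

set_option maxHeartbeats 1600000 in
/-- For a finite type algebra `B` over a separably closed field `k` and a `k`-algebra map
`β : B → K` to a field, there are a henselian local `k`-algebra `H` under `B` whose residue field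
is purely inseparable over `k`, and a field `L` receiving compatible maps from `H` and `K`. -/
theorem exists_hens_data {k K B : Type u} [Field k] [IsSepClosed k] [Field K] [Algebra k K]
    [CommRing B] [Algebra k B] [Algebra.FiniteType k B] (β : B →ₐ[k] K) :
    ∃ (H : Type u) (_ : CommRing H) (_ : HenselianLocalRing H) (_ : Algebra k H)
      (L : Type u) (_ : Field L) (_ : Algebra k L)
      (φH : B →ₐ[k] H) (ψH : H →ₐ[k] L) (ψK : K →ₐ[k] L),
      ψH.comp φH = ψK.comp β ∧ IsPurelyInseparable k (ResidueField H) := by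
  classical
  -- the kernel and a maximal ideal above it
  have hq : (RingHom.ker β.toRingHom) ≠ ⊤ := (RingHom.ker_isPrime β.toRingHom).ne_top
  obtain ⟨𝔪, h𝔪, hle⟩ := Ideal.exists_le_maximal _ hq
  haveI := h𝔪
  haveI : 𝔪.IsPrime := h𝔪.isPrime
  let R := Localization.AtPrime 𝔪
  -- the map `R → K`
  have hunit : ∀ s : 𝔪.primeCompl, IsUnit (β.toRingHom s) := by
    intro s
    refine IsUnit.mk0 _ (fun h0 => s.2 (hle ?_))
    exact h0
  let ρ : R →+* K := IsLocalization.lift (M := 𝔪.primeCompl) hunit
  have hρ : ∀ b : B, ρ (algebraMap B R b) = β b := fun b => IsLocalization.lift_eq hunit b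
  have hρk : ∀ c : k, ρ (algebraMap k R c) = algebraMap k K c := by
    intro c
    rw [IsScalarTower.algebraMap_apply k B R, hρ, AlgHom.commutes]
  let H := Hens R
  letI algkH : Algebra k H := ((algebraMap R H).comp (algebraMap k R)).toAlgebra
  haveI : IsScalarTower k R H := IsScalarTower.of_algebraMap_eq fun _ => rfl
  letI algRK : Algebra R K := ρ.toAlgebra
  have halgRK : ∀ r : R, algebraMap R K r = ρ r := fun _ => rfl
  haveI : IsScalarTower k R K := IsScalarTower.of_algebraMap_eq fun c => (hρk c).symm
  let T := K ⊗[R] H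
  haveI : Nontrivial T := inferInstance
  obtain ⟨M, hM⟩ := Ideal.exists_maximal T
  letI : Field (T ⧸ M) := Ideal.Quotient.field M
  let φH : B →ₐ[k] H := (IsScalarTower.toAlgHom k R H).comp (IsScalarTower.toAlgHom k B R)
  let ψK : K →ₐ[k] T ⧸ M :=
    (Ideal.Quotient.mkₐ k M).comp (Algebra.TensorProduct.includeLeft : K →ₐ[k] T)
  let ψH' : H →+* T ⧸ M :=
    (Ideal.Quotient.mk M).comp (Algebra.TensorProduct.includeRight : H →ₐ[R] T).toRingHom
  have hψH'R : ∀ r : R, ψH' (algebraMap R H r) = ψK (ρ r) := by
    intro r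
    change Ideal.Quotient.mk M ((Algebra.TensorProduct.includeRight : H →ₐ[R] T)
      (algebraMap R H r)) = Ideal.Quotient.mk M ((ρ r) ⊗ₜ[R] (1 : H))
    rw [AlgHom.commutes, Algebra.TensorProduct.algebraMap_apply, halgRK]
  let ψH : H →ₐ[k] T ⧸ M :=
    { ψH' with
      commutes' := fun c => by
        change ψH' (algebraMap R H (algebraMap k R c)) = _
        rw [hψH'R, hρk, AlgHom.commutes] }
  refine ⟨H, inferInstance, inferInstance, algkH, T ⧸ M, inferInstance, inferInstance,
    φH, ψH, ψK, ?_, ?_⟩
  · ext b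
    change ψH' (algebraMap R H (algebraMap B R b)) = ψK (β b)
    rw [hψH'R, hρ]
  · -- the residue field is algebraic over `k`
    haveI : Algebra.IsAlgebraic k (ResidueField H) := by
      letI : Field (B ⧸ 𝔪) := Ideal.Quotient.field 𝔪
      haveI : Algebra.FiniteType k (B ⧸ 𝔪) :=
        Algebra.FiniteType.of_surjective (Ideal.Quotient.mkₐ k 𝔪) Ideal.Quotient.mk_surjective
      haveI : Module.Finite k (B ⧸ 𝔪) := finite_of_finite_type_of_isJacobsonRing k (B ⧸ 𝔪)
      let θ : B →ₐ[k] ResidueField H := (IsScalarTower.toAlgHom k H (ResidueField H)).comp φH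
      have hθ : ∀ b : B, θ b = residue H (algebraMap R H (algebraMap B R b)) := fun _ => rfl
      have hθ𝔪 : ∀ a ∈ 𝔪, θ a = 0 := by
        intro a ha
        rw [hθ, residue_eq_zero_iff]
        have h1 : algebraMap B R a ∈ maximalIdeal R := by
          rw [← Localization.AtPrime.map_eq_maximalIdeal]
          exact Ideal.mem_map_of_mem _ ha
        exact map_nonunit (algebraMap R H) _ h1
      let θb : B ⧸ 𝔪 →ₐ[k] ResidueField H := Ideal.Quotient.liftₐ 𝔪 θ hθ𝔪
      have hθb : ∀ b : B, θb (Ideal.Quotient.mk 𝔪 b) = θ b := fun b => rfl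
      refine ⟨fun x => ?_⟩
      obtain ⟨h, rfl⟩ := residue_surjective x
      obtain ⟨r, hr⟩ := exists_sub_mem_maximalIdeal_hens h
      have hx : residue H h = residue H (algebraMap R H r) := by
        rw [← sub_eq_zero, ← map_sub, residue_eq_zero_iff]
        exact hr
      obtain ⟨b, s, rfl⟩ := IsLocalization.exists_mk'_eq 𝔪.primeCompl r
      have hspec : IsLocalization.mk' R b s * algebraMap B R s = algebraMap B R b :=
        IsLocalization.mk'_spec R b s
      have h2 : residue H h * θ s = θ b := by
        rw [hx, hθ, hθ, ← map_mul, ← map_mul, hspec]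
      have hs0 : θ s ≠ 0 := by
        rw [← hθb]
        intro h0
        have h3 := (map_eq_zero_iff θb θb.toRingHom.injective).mp h0
        exact s.2 (Ideal.Quotient.eq_zero_iff_mem.mp h3)
      have h4 : residue H h = θb (Ideal.Quotient.mk 𝔪 b / Ideal.Quotient.mk 𝔪 (s : B)) := by
        rw [map_div₀, hθb, hθb, eq_div_iff hs0, h2]
      rw [h4]
      exact ((Algebra.IsIntegral.isIntegral (R := k)
        (Ideal.Quotient.mk 𝔪 b / Ideal.Quotient.mk 𝔪 (s : B))).map θb).isAlgebraic
    infer_instance

end Groth.Agent.Lib.FEtSepClH8
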