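import Mathlib
import Groth.Agent.Lib.LimDescFP3_helper7
import Groth.Agent.S9187
import Groth.Agent.S9219
import Groth.Prelude.Def_FEt

/-!
# Finite étale covers of a cofiltered limit (helper7)

* `DescendsProp.inf`: conjunction of spreading properties.
* `main12073`: finite étale covers of `lim D` come from a stage; morphisms that agree over the limit
  agree at a stage.
-/

set_option autoImplicit false
set_option linter.style.haveILetI false
universe u
open CategoryTheory CategoryTheory.Limits AlgebraicGeometry Topology TopologicalSpace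

namespace Groth.Agent.Lib.LimDescFPH7

theorem descendsProp_isFinite : DescendsProp.{u} @IsFinite := by
  intro I _ _ D c hc _ i₀ _ _ X₀ Y₀ f₀ g₀ _ _ _ _ _ X Y f g qY qX hY hX hP
  haveI : IsFinite f := hP
  exact Groth.Agent.S9187.result D c hc i₀ f₀ g₀ f g qY qX hY hX

theorem DescendsProp.inf {P Q : MorphismProperty Scheme.{u}} [P.IsStableUnderBaseChange]
    (hP : DescendsProp P) (hQ : DescendsProp Q) : DescendsProp (P ⊓ Q) := by
  intro I _ _ D c hc _ i₀ _ _ X₀ Y₀ f₀ g₀ _ _ _ _ _ X Y f g qY qX hY hX hPQ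
  obtain ⟨hPf, hQf⟩ : P f ∧ Q f := hPQ
  obtain ⟨i₁, φ₁, X₁, Y₁, f₁, g₁, pY₁, pX₁, h1, h2, hP1⟩ :=
    hP D c hc i₀ f₀ g₀ f g qY qX hY hX hPf
  haveI : CompactSpace (D.obj i₁) := QuasiCompact.compactSpace_of_compactSpace (D.map φ₁)
  haveI : QuasiSeparatedSpace (D.obj i₁) := quasiSeparatedSpace_of_quasiSeparated (D.map φ₁)
  haveI : IsAffineHom pY₁ :=
    MorphismProperty.of_isPullback (P := @IsAffineHom) h1.flip
      (inferInstance : IsAffineHom (D.map φ₁))
  haveI : IsAffineHom pX₁ :=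
    MorphismProperty.of_isPullback (P := @IsAffineHom) h2.flip (inferInstance : IsAffineHom pY₁)
  haveI : CompactSpace Y₁ := QuasiCompact.compactSpace_of_compactSpace pY₁
  haveI : QuasiSeparatedSpace Y₁ := quasiSeparatedSpace_of_quasiSeparated pY₁
  haveI : CompactSpace X₁ := QuasiCompact.compactSpace_of_compactSpace pX₁
  haveI : QuasiSeparatedSpace X₁ := quasiSeparatedSpace_of_quasiSeparated pX₁
  haveI : LocallyOfFinitePresentation f₁ :=
    MorphismProperty.of_isPullback (P := @LocallyOfFinitePresentation) h2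
      (inferInstance : LocallyOfFinitePresentation f₀)
  have hwY : qY ≫ g₀ = (g ≫ c.π.app i₁) ≫ D.map φ₁ := by
    rw [Category.assoc, c.w φ₁]
    exact hY.w
  have hY₁ : IsPullback (h1.lift qY (g ≫ c.π.app i₁) hwY) g g₁ (c.π.app i₁) := by
    refine IsPullback.of_right ?_ (h1.lift_snd _ _ _) h1
    rw [h1.lift_fst, c.w φ₁]
    exact hY
  have hwX : qX ≫ f₀ = (f ≫ h1.lift qY (g ≫ c.π.app i₁) hwY) ≫ pY₁ := by
    rw [Category.assoc, h1.lift_fst]
    exact hX.w
  have hX₁ : IsPullback (h2.lift qX (f ≫ h1.lift qY (g ≫ c.π.app i₁) hwY) hwX) f f₁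
      (h1.lift qY (g ≫ c.π.app i₁) hwY) := by
    refine IsPullback.of_right ?_ (h2.lift_snd _ _ _) h2
    rw [h2.lift_fst, h1.lift_fst]
    exact hX
  obtain ⟨i₂, φ₂, X₂, Y₂, f₂, g₂, pY₂, pX₂, k1, k2, hQ2⟩ :=
    hQ D c hc i₁ f₁ g₁ f g _ _ hY₁ hX₁ hQf
  refine ⟨i₂, φ₂ ≫ φ₁, X₂, Y₂, f₂, g₂, pY₂ ≫ pY₁, pX₂ ≫ pX₁, ?_, k2.paste_horiz h2,
    MorphismProperty.of_isPullback (P := P) k2 hP1, hQ2⟩
  rw [D.map_comp]
  exact k1.paste_horiz h1

theorem main12073 {I : Type u} [SmallCategory I] [IsCofiltered I]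
    (D : I ⥤ Scheme.{u}) (c : Limits.Cone D) (hc : Limits.IsLimit c)
    [∀ (i j : I) (f : i ⟶ j), IsAffineHom (D.map f)] [∀ i, CompactSpace (D.obj i)]
    [∀ i, QuasiSeparatedSpace (D.obj i)] :
    (∀ V : FEt.Cat c.pt, ∃ (i : I) (Vi : FEt.Cat (D.obj i)),
      Nonempty ((FEt.restrict (c.π.app i)).obj Vi ≅ V)) ∧
    (∀ (i : I) (Vi Wi : FEt.Cat (D.obj i)) (φ ψ : Vi ⟶ Wi),
      (FEt.restrict (c.π.app i)).map φ = (FEt.restrict (c.π.app i)).map ψ →
      ∃ (j : I) (a : j ⟶ i), (FEt.restrict (D.map a)).map φ = (FEt.restrict (D.map a)).map ψ) := by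
  constructor
  · intro V
    obtain ⟨i₀⟩ := IsCofiltered.nonempty (C := I)
    obtain ⟨v, hv⟩ : ∃ v : V.left ⟶ c.pt, v = V.hom := ⟨V.hom, rfl⟩
    have hV : FEt.prop v := hv ▸ V.prop
    haveI : IsFinite v := hV.1
    haveI : Etale v := hV.2
    obtain ⟨j, -, Vj, fj, q, -, -, -, hPj, hpb⟩ :=
      exists_descend_with (DescendsProp.inf descendsProp_isFinite descendsProp_etale) D c hc i₀
        v hV
    subst hv
    exact ⟨j, MorphismProperty.Over.mk ⊤ fj hPj,
      ⟨MorphismProperty.Over.isoMk hpb.isoPullback.symm hpb.isoPullback_inv_snd⟩⟩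
  · intro i Vi Wi φ ψ h
    obtain ⟨vi, hvi⟩ : ∃ vi : Vi.left ⟶ D.obj i, vi = Vi.hom := ⟨Vi.hom, rfl⟩
    obtain ⟨wi, hwi⟩ : ∃ wi : Wi.left ⟶ D.obj i, wi = Wi.hom := ⟨Wi.hom, rfl⟩
    have hVi : FEt.prop vi := hvi ▸ Vi.prop
    have hWi : FEt.prop wi := hwi ▸ Wi.prop
    haveI : IsFinite vi := hVi.1
    haveI : Etale vi := hVi.2
    haveI : IsFinite wi := hWi.1
    haveI : Etale wi := hWi.2
    haveI : CompactSpace Vi.left := QuasiCompact.compactSpace_of_compactSpace vi
    haveI : QuasiSeparatedSpace Vi.left := quasiSeparatedSpace_of_quasiSeparated vi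
    haveI : CompactSpace Wi.left := QuasiCompact.compactSpace_of_compactSpace wi
    haveI : QuasiSeparatedSpace Wi.left := quasiSeparatedSpace_of_quasiSeparated wi
    have h' : pullback.fst vi (c.π.app i) ≫ φ.left =
        pullback.fst vi (c.π.app i) ≫ ψ.left := by
      subst hvi hwi
      have e1 : ((FEt.restrict (c.π.app i)).map φ).left ≫ pullback.fst Wi.hom (c.π.app i) =
          pullback.fst Vi.hom (c.π.app i) ≫ φ.left := pullback.lift_fst _ _ _
      have e2 : ((FEt.restrict (c.π.app i)).map ψ).left ≫ pullback.fst Wi.hom (c.π.app i) =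
          pullback.fst Vi.hom (c.π.app i) ≫ ψ.left := pullback.lift_fst _ _ _
      rw [← e1, ← e2, h]
    have hφ : φ.left ≫ wi = vi := by
      subst hvi hwi
      exact MorphismProperty.Over.w φ
    have hψ : ψ.left ≫ wi = vi := by
      subst hvi hwi
      exact MorphismProperty.Over.w ψ
    obtain ⟨j, a, hj⟩ := Groth.Agent.S9219.result D c hc i vi wi (pullback.fst _ _)
      (pullback.snd _ _) (IsPullback.of_hasPullback vi (c.π.app i)) φ.left ψ.left hφ hψ h'
    subst hvi hwi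
    refine ⟨j, a, ?_⟩
    ext
    simp only [FEt.restrict, MorphismProperty.Over.pullback_map_left]
    apply pullback.hom_ext
    · rw [pullback.lift_fst, pullback.lift_fst]
      exact hj
    · rw [pullback.lift_snd, pullback.lift_snd]

end Groth.Agent.Lib.LimDescFPH7
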