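import Mathlib
import Groth.Agent.Lib.QAffDesc2_helper6
import Groth.Agent.Lib.LocEff3_helper6

/-!
# The orbit relation of a descent datum and invariant interiors
-/

set_option backward.isDefEq.respectTransparency false
set_option backward.isDefEq.respectTransparency.types false

universe u

open CategoryTheory CategoryTheory.Limits AlgebraicGeometry Opposite

namespace Groth.Agent.Lib.FinDescH6

open Groth.Agent.Lib.AffDescH6 Groth.Agent.Lib.LocEffH6

section rel

variable {X S : Scheme.{u}} (p : X ⟶ S) (D : Desc.SchDD p)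

/-- The orbit relation on the points of `V`. -/
def Rel (v v' : D.obj.left) : Prop := ∃ w : T₂' p D, snd₂ p D w = v ∧ vu' p D w = v'

lemma rel_refl (v : D.obj.left) : Rel p D v v := by
  refine ⟨δ₂ p D v, ?_, ?_⟩
  · rw [← Scheme.Hom.comp_apply, δ₂_snd]; rfl
  · rw [← Scheme.Hom.comp_apply, δ₂_vu']; rfl

/-- The inversion of the groupoid. -/
noncomputable def σ₂ : T₂' p D ⟶ T₂' p D :=
  pullback.lift (snd₂ p D ≫ D.obj.hom) (vu' p D) (by
    rw [← Category.assoc (vu' p D), vu'_π]; exact hx₂ p D)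

lemma σ₂_fst : σ₂ p D ≫ fst₂ p D = snd₂ p D ≫ D.obj.hom := pullback.lift_fst _ _ _

lemma σ₂_snd : σ₂ p D ≫ snd₂ p D = vu' p D := pullback.lift_snd _ _ _

lemma σ₂_vu' : σ₂ p D ≫ vu' p D = snd₂ p D := by
  have key := univ' p D (σ₂ p D) (snd₂ p D ≫ D.obj.hom) (fst₂ p D) (hx₂ p D).symm
    ⟨vu' p D, vu'_π p D⟩ (σ₂_fst p D).symm (σ₂_snd p D).symm
  rw [← key]
  have e := congrArg Subtype.val (D.φ_comp (snd₂ p D ≫ D.obj.hom) (fst₂ p D)
    (snd₂ p D ≫ D.obj.hom) (hx₂ p D) (hx₂ p D).symm ⟨snd₂ p D, rfl⟩)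
  rw [D.φ_self] at e
  exact e

lemma rel_symm {v v' : D.obj.left} (h : Rel p D v v') : Rel p D v' v := by
  obtain ⟨w, rfl, rfl⟩ := h
  refine ⟨σ₂ p D w, ?_, ?_⟩
  · rw [← Scheme.Hom.comp_apply, σ₂_snd]
  · rw [← Scheme.Hom.comp_apply, σ₂_vu']

lemma isPullback_nn' : IsPullback (nn' p D) (q₁₂ p D) (snd₂ p D) (vu' p D) := by
  have outer : IsPullback (nn' p D ≫ fst₂ p D) (q₁₂ p D) p (vu' p D ≫ D.obj.hom ≫ p) := by
    rw [nn'_fst, ← Category.assoc (vu' p D), vu'_π]
    exact IsPullback.of_hasPullback _ _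
  exact IsPullback.of_right outer (nn'_snd p D) (IsPullback.of_hasPullback _ _)

lemma rel_trans {v v' v'' : D.obj.left} (h : Rel p D v v') (h' : Rel p D v' v'') :
    Rel p D v v'' := by
  obtain ⟨w₁, rfl, rfl⟩ := h
  obtain ⟨w₂, hw₂, rfl⟩ := h'
  obtain ⟨z, hz1, hz2⟩ := Scheme.exists_preimage_of_isPullback (isPullback_nn' p D) w₂ w₁ hw₂
  refine ⟨mm' p D z, ?_, ?_⟩
  · rw [← Scheme.Hom.comp_apply, mm'_snd, Scheme.Hom.comp_apply]
    exact congrArg _ hz2
  · rw [← Scheme.Hom.comp_apply, ← nn'_vu', Scheme.Hom.comp_apply]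
    exact congrArg _ hz1

/-- Transported points are related. -/
lemma rel_of_φ {T : Scheme.{u}} (x₀ x₁ : T ⟶ X) (h : x₀ ≫ p = x₁ ≫ p)
    (y : Desc.Lifts D.obj x₀) (t : T) : Rel p D (y.1 t) ((D.φ x₀ x₁ h y).1 t) := by
  have e := φ_eq_lift p D x₁ x₀ h y
  refine ⟨pullback.lift x₁ y.1 (by rw [← Category.assoc, y.2, h]) t, ?_, ?_⟩
  · rw [← Scheme.Hom.comp_apply, pullback.lift_snd]
  · rw [← Scheme.Hom.comp_apply, ← e]

/-- The orbit of a point. -/
def orbit (v : D.obj.left) : Set D.obj.left := {v' | Rel p D v v'}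

lemma orbit_eq (v : D.obj.left) : orbit p D v = vu' p D '' (snd₂ p D ⁻¹' {v}) := by
  ext v'
  constructor
  · rintro ⟨w, h1, h2⟩
    exact ⟨w, h1, h2⟩
  · rintro ⟨w, h1, h2⟩
    exact ⟨w, h1, h2⟩

lemma mem_orbit_self (v : D.obj.left) : v ∈ orbit p D v := rel_refl p D v

/-- All the points of an orbit lie over the same point of `S`. -/
lemma orbit_base {v v' : D.obj.left} (h : Rel p D v v') :
    p (D.obj.hom v') = p (D.obj.hom v) := by
  obtain ⟨w, rfl, rfl⟩ := h
  rw [← Scheme.Hom.comp_apply, ← Scheme.Hom.comp_apply, ← Scheme.Hom.comp_apply,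
    ← Scheme.Hom.comp_apply, ← Category.assoc, vu'_π, ← Category.assoc, hx₂]

end rel

section interior

variable {X S : Scheme.{u}} (p : X ⟶ S) (D : Desc.SchDD p) [IsFinite p]

instance : IsFinite (snd₂ p D) :=
  MorphismProperty.pullback_snd (P := @IsFinite) p (D.obj.hom ≫ p) inferInstance

lemma finite_orbit (v : D.obj.left) : (orbit p D v).Finite := by
  rw [orbit_eq]
  exact ((snd₂ p D).finite_preimage_singleton v).image _

/-- The invariant interior of an open: the points whose orbit is contained in the open. -/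
noncomputable def II (U : D.obj.left.Opens) : D.obj.left.Opens :=
  ⟨(snd₂ p D '' (vu' p D ⁻¹' (U : Set D.obj.left)ᶜ))ᶜ, by
    rw [isOpen_compl_iff]
    exact (snd₂ p D).isClosedMap _ (U.isOpen.isClosed_compl.preimage (vu' p D).continuous)⟩

lemma mem_II {U : D.obj.left.Opens} {v : D.obj.left} :
    v ∈ II p D U ↔ ∀ v', Rel p D v v' → v' ∈ U := by
  constructor
  · intro hv v' ⟨w, h1, h2⟩
    by_contra hc
    exact hv ⟨w, by rw [Set.mem_preimage, h2]; exact hc, h1⟩
  · rintro H ⟨w, hw, rfl⟩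
    exact hw (H _ ⟨w, rfl, rfl⟩)

lemma II_le (U : D.obj.left.Opens) : II p D U ≤ U :=
  fun v hv => (mem_II p D).mp hv v (rel_refl p D v)

lemma II_mono {U U' : D.obj.left.Opens} (h : U ≤ U') : II p D U ≤ II p D U' :=
  fun _ hv => (mem_II p D).mpr fun v' hv' => h ((mem_II p D).mp hv v' hv')

lemma orbit_subset_II {U : D.obj.left.Opens} {v : D.obj.left} (h : orbit p D v ⊆ U) :
    orbit p D v ⊆ II p D U := by
  intro v' hv'
  rw [SetLike.mem_coe, mem_II]
  intro v'' hv''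
  exact h (rel_trans p D hv' hv'')

lemma isInv_II (U : D.obj.left.Opens) : IsInv D (II p D U).ι := by
  rw [isInv_iff_range]
  intro T x₀ x₁ h y hy
  rw [Scheme.Opens.range_ι] at hy ⊢
  rintro _ ⟨t, rfl⟩
  have h1 : y.1 t ∈ II p D U := hy ⟨t, rfl⟩
  rw [mem_II] at h1
  rw [SetLike.mem_coe, mem_II]
  intro v'' hv''
  exact h1 v'' (rel_trans p D (rel_of_φ p D x₀ x₁ h y t) hv'')

end interior

end Groth.Agent.Lib.FinDescH6
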