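import Mathlib

/-!
# Gluing the base of an equifibered family over a locally directed open cover

Let `𝒲` be a locally directed open cover of `V`, `G` a diagram of open immersions on the same
index category and `s : 𝒲ᵢ ⟶ Gᵢ` an equifibered natural transformation with surjective components.
Then `G` is locally directed, the `s i` glue to `r : V ⟶ colimit G`, and the squares
`𝒲ᵢ ⟶ V`, `Gᵢ ⟶ colimit G` are cartesian.
-/

set_option backward.isDefEq.respectTransparency false
set_option backward.isDefEq.respectTransparency.types false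

universe u

open CategoryTheory CategoryTheory.Limits AlgebraicGeometry Opposite

namespace Groth.Agent.Lib.LocEffH6

lemma isLocallyDirected_of_equifibered_of_surjective {J : Type*} [Category J]
    {F G : J ⥤ Scheme.{u}} (s : F ⟶ G) (hs : NatTrans.Equifibered s)
    (H : ∀ k, Function.Surjective (s.app k))
    [(F ⋙ Scheme.forget).IsLocallyDirected] :
    (G ⋙ Scheme.forget).IsLocallyDirected where
  cond {i j k} fi fj xi xj heq := by
    simp only [Functor.comp_obj, Scheme.forget_obj, Functor.comp_map, Scheme.forget_map] at heq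
    obtain ⟨w, hw⟩ := H k (G.map fi xi)
    obtain ⟨wi, h1i, h2i⟩ := Scheme.exists_preimage_of_isPullback (hs fi) w xi hw
    obtain ⟨wj, h1j, h2j⟩ := Scheme.exists_preimage_of_isPullback (hs fj) w xj (hw.trans heq)
    obtain ⟨l, fli, flj, x, hi, hj⟩ :=
      (F ⋙ Scheme.forget).exists_map_eq_of_isLocallyDirected fi fj wi wj (h1i.trans h1j.symm)
    refine ⟨l, fli, flj, s.app l x, ?_, ?_⟩
    · show (G.map fli) ((s.app l) x) = xi
      rw [← Scheme.Hom.comp_apply, ← s.naturality, Scheme.Hom.comp_apply]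
      rw [← h2i]
      exact congrArg _ hi
    · show (G.map flj) ((s.app l) x) = xj
      rw [← Scheme.Hom.comp_apply, ← s.naturality, Scheme.Hom.comp_apply]
      rw [← h2j]
      exact congrArg _ hj

section glue

variable {V : Scheme.{u}} (𝒲 : V.OpenCover) [Category 𝒲.I₀] [𝒲.LocallyDirected]
  [Quiver.IsThin 𝒲.I₀] [Small.{u} 𝒲.I₀]
  (G : 𝒲.I₀ ⥤ Scheme.{u}) [∀ {i j} (f : i ⟶ j), IsOpenImmersion (G.map f)]
  [(G ⋙ Scheme.forget).IsLocallyDirected]
  (s : 𝒲.functorOfLocallyDirected ⟶ G)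

lemma glueR_compat {i j : 𝒲.I₀} (hij : i ⟶ j) :
    𝒲.trans hij ≫ s.app j ≫ colimit.ι G j = s.app i ≫ colimit.ι G i := by
  have e' : 𝒲.trans hij ≫ s.app j = s.app i ≫ G.map hij := s.naturality hij
  rw [← Category.assoc, e', Category.assoc, colimit.w]

/-- The glued morphism to the colimit. -/
noncomputable def glueR : V ⟶ colimit G :=
  𝒲.glueMorphismsOfLocallyDirected (fun i => s.app i ≫ colimit.ι G i)
    (fun {_ _} hij => glueR_compat 𝒲 G s hij)

@[reassoc]
lemma f_glueR (i : 𝒲.I₀) : 𝒲.f i ≫ glueR 𝒲 G s = s.app i ≫ colimit.ι G i :=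
  Scheme.OpenCover.map_glueMorphismsOfLocallyDirected 𝒲 (fun i => s.app i ≫ colimit.ι G i)
    (fun {_ _} hij => glueR_compat 𝒲 G s hij) i

variable (hs : NatTrans.Equifibered s)

include hs in
lemma preimage_glueR (i : 𝒲.I₀) :
    (glueR 𝒲 G s) ⁻¹' (Set.range (colimit.ι G i)) = Set.range (𝒲.f i) := by
  ext x
  constructor
  · rintro ⟨ui, h⟩
    obtain ⟨j, xj, rfl⟩ := 𝒲.exists_eq x
    have e1 : (glueR 𝒲 G s) ((𝒲.f j) xj) = (colimit.ι G j) ((s.app j) xj) := by
      rw [← Scheme.Hom.comp_apply, f_glueR]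
      rfl
    rw [e1] at h
    obtain ⟨k, fi, fj, uk, h1, h2⟩ := (Scheme.IsLocallyDirected.ι_eq_ι_iff G).mp h
    obtain ⟨xk, h3, h4⟩ := Scheme.exists_preimage_of_isPullback (hs fj) xj uk h2.symm
    refine ⟨𝒲.trans fi xk, ?_⟩
    rw [← Scheme.Hom.comp_apply, 𝒲.trans_map, ← 𝒲.trans_map fj, Scheme.Hom.comp_apply]
    exact congrArg _ h3
  · rintro ⟨y, rfl⟩
    refine ⟨s.app i y, ?_⟩
    show _ = (glueR 𝒲 G s) ((𝒲.f i) y)
    rw [← Scheme.Hom.comp_apply, ← Scheme.Hom.comp_apply, f_glueR]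
    rfl

include hs in
lemma isPullback_glueR (i : 𝒲.I₀) :
    IsPullback (s.app i) (𝒲.f i) (colimit.ι G i) (glueR 𝒲 G s) := by
  refine IsOpenImmersion.isPullback _ _ _ _ (f_glueR 𝒲 G s i) ?_
  apply TopologicalSpace.Opens.coe_inj.mp
  exact preimage_glueR 𝒲 G s hs i

end glue

end Groth.Agent.Lib.LocEffH6
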