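import Mathlib
import Groth.Agent.Lib.LocEff2_helper6
import Groth.Agent.Lib.LocEff3_helper6

/-!
# A locally effective descent datum is effective
-/

set_option backward.isDefEq.respectTransparency false
set_option backward.isDefEq.respectTransparency.types false

universe u

open CategoryTheory CategoryTheory.Limits AlgebraicGeometry Opposite

namespace Groth.Agent.Lib.LocEffH6

open Groth.Agent.Lib.AffDescH6

variable {X S : Scheme.{u}} {p : X ⟶ S} (D : Desc.SchDD p)

/-- The index type: good opens. -/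
abbrev JJ : Type u := {W : D.obj.left.Opens // Good D W}

variable {D}

lemma JJ.inv (i : JJ D) : IsInv D i.1.ι := i.2.choose

/-- The descended piece. -/
noncomputable def JJ.EE (i : JJ D) : Over S := i.2.choose_spec.choose

/-- The descent isomorphism. -/
noncomputable def JJ.ee (i : JJ D) : (Desc.toDD p).obj i.EE ≅ restrictDD i.inv :=
  i.2.choose_spec.choose_spec.some

/-- The transition morphisms of the restricted data. -/
noncomputable def ρJ {i j : JJ D} (f : i ⟶ j) : restrictDD i.inv ⟶ restrictDD j.inv :=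
  ρ j.inv i.inv (D.obj.left.homOfLE (leOfHom f)) (Scheme.homOfLE_ι _ _)

lemma ρJ_left {i j : JJ D} (f : i ⟶ j) : (ρJ f).hom.left = D.obj.left.homOfLE (leOfHom f) := rfl

lemma ρJ_id (i : JJ D) : ρJ (𝟙 i) = 𝟙 _ := by
  apply Desc.SchDD.hom_ext
  apply Over.OverMorphism.ext
  exact Scheme.homOfLE_rfl _ _

lemma ρJ_comp {i j k : JJ D} (f : i ⟶ j) (g : j ⟶ k) : ρJ (f ≫ g) = ρJ f ≫ ρJ g := by
  apply Desc.SchDD.hom_ext
  apply Over.OverMorphism.ext
  exact (Scheme.homOfLE_homOfLE _ (leOfHom f) (leOfHom g)).symm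

/-- The structure morphism `Wᵢ ⟶ Eᵢ`. -/
noncomputable def JJ.rr (i : JJ D) : i.1.toScheme ⟶ i.EE.left :=
  i.ee.inv.hom.left ≫ pullback.snd p i.EE.hom

lemma JJ.isPullback_rr (i : JJ D) : IsPullback (i.1.ι ≫ D.obj.hom) i.rr p i.EE.hom := by
  have hw : i.ee.inv.hom.left ≫ pullback.fst p i.EE.hom = i.1.ι ≫ D.obj.hom :=
    Over.w i.ee.inv.hom
  refine IsPullback.of_iso_pullback ⟨?_⟩ (leftIso p i.ee).symm hw rfl
  rw [← hw, Category.assoc, pullback.condition]
  rfl

/-- Compatibility of `rr` with the restricted descent datum. -/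
lemma JJ.compat (i : JJ D) {T : Scheme.{u}} (x₀ x₁ : T ⟶ X) (h : x₀ ≫ p = x₁ ≫ p)
    (y : Desc.Lifts (restrictDD i.inv).obj x₀) :
    ((restrictDD i.inv).φ x₀ x₁ h y).1 ≫ i.rr = y.1 ≫ i.rr := by
  have hw : (y.1 ≫ i.ee.inv.hom.left) ≫ pullback.fst p i.EE.hom = x₀ := by
    rw [Category.assoc]
    have := Over.w i.ee.inv.hom
    refine Eq.trans (congrArg (y.1 ≫ ·) this) ?_
    exact y.2
  have key := i.ee.inv.comm x₀ x₁ h y ⟨y.1 ≫ i.ee.inv.hom.left, hw⟩ rfl
  unfold JJ.rr
  rw [← Category.assoc, ← key]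
  refine (pullback.lift_snd _ _ _).trans ?_
  exact Category.assoc _ _ _

variable [Surjective p] [Flat p] [QuasiCompact p]

local instance : (Desc.toDD p).Full := Groth.Agent.S1131.result p
local instance : (Desc.toDD p).Faithful := Groth.Agent.S1132.result p

/-- The transition morphisms of the descended pieces. -/
noncomputable def gmap {i j : JJ D} (f : i ⟶ j) : i.EE ⟶ j.EE :=
  (Desc.toDD p).preimage (i.ee.hom ≫ ρJ f ≫ j.ee.inv)

lemma map_gmap {i j : JJ D} (f : i ⟶ j) :
    (Desc.toDD p).map (gmap f) = i.ee.hom ≫ ρJ f ≫ j.ee.inv :=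
  Functor.map_preimage _ _

/-- The diagram of descended pieces. -/
noncomputable def GG : JJ D ⥤ Over S where
  obj i := i.EE
  map f := gmap f
  map_id i := by
    apply (Desc.toDD p).map_injective
    rw [map_gmap, ρJ_id, Category.id_comp, Iso.hom_inv_id, CategoryTheory.Functor.map_id]
  map_comp f g := by
    apply (Desc.toDD p).map_injective
    rw [map_gmap, Functor.map_comp, map_gmap, map_gmap, ρJ_comp]
    simp only [Category.assoc, Iso.inv_hom_id_assoc]

lemma rr_nat {i j : JJ D} (f : i ⟶ j) :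
    D.obj.left.homOfLE (leOfHom f) ≫ j.rr = i.rr ≫ (gmap f).left := by
  have e1 : i.ee.inv ≫ (Desc.toDD p).map (gmap f) = ρJ f ≫ j.ee.inv := by
    rw [map_gmap, Iso.inv_hom_id_assoc]
  have e2 := congrArg (fun a => a.hom.left) e1
  have e3 : i.ee.inv.hom.left ≫ ((Desc.toDD p).map (gmap f)).hom.left =
      D.obj.left.homOfLE (leOfHom f) ≫ j.ee.inv.hom.left := e2
  have e4 : ((Desc.toDD p).map (gmap f)).hom.left ≫ pullback.snd p j.EE.hom =
      pullback.snd p i.EE.hom ≫ (gmap f).left := pullback.lift_snd _ _ _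
  unfold JJ.rr
  rw [← Category.assoc, ← e3, Category.assoc, Category.assoc, e4]

lemma equif {i j : JJ D} (f : i ⟶ j) :
    IsPullback (D.obj.left.homOfLE (leOfHom f)) i.rr j.rr (gmap f).left := by
  refine IsPullback.of_right ?_ (rr_nat f) j.isPullback_rr
  have := i.isPullback_rr
  rw [← Over.w (gmap f), ← Scheme.homOfLE_ι D.obj.left (leOfHom f), Category.assoc] at this
  exact this

lemma rr_prop (P : MorphismProperty Scheme.{u}) [P.IsStableUnderBaseChange] (hP : P p)
    (i : JJ D) : P i.rr :=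
  MorphismProperty.of_isPullback i.isPullback_rr hP

instance isOpenImmersion_gmap {i j : JJ D} (f : i ⟶ j) : IsOpenImmersion (gmap f).left := by
  have hQ : (@Surjective ⊓ @Flat ⊓ @QuasiCompact : MorphismProperty Scheme.{u}) j.rr :=
    ⟨⟨rr_prop @Surjective inferInstance j, rr_prop @Flat inferInstance j⟩,
      rr_prop @QuasiCompact inferInstance j⟩
  exact MorphismProperty.of_isPullback_of_descendsAlong (P := @IsOpenImmersion)
    (Q := @Surjective ⊓ @Flat ⊓ @QuasiCompact) (equif f) hQ inferInstance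

end Groth.Agent.Lib.LocEffH6
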