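import Mathlib
import Groth.Agent.Lib.LocEff4_helper6

/-!
# A locally effective descent datum is effective: the gluing
-/

set_option backward.isDefEq.respectTransparency false
set_option backward.isDefEq.respectTransparency.types false

universe u

open CategoryTheory CategoryTheory.Limits AlgebraicGeometry Opposite

namespace Groth.Agent.Lib.LocEffH6

open Groth.Agent.Lib.AffDescH6

variable {X S : Scheme.{u}} {p : X ⟶ S} {D : Desc.SchDD p}
  (hc : TopologicalSpace.IsOpenCover (fun i : JJ D => i.1))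

/-- The open cover by good opens. -/
noncomputable def cov : D.obj.left.OpenCover :=
  D.obj.left.openCoverOfIsOpenCover (fun i : JJ D => i.1) hc

instance : Preorder (cov hc).I₀ := inferInstanceAs <| Preorder (JJ D)

instance : Quiver.IsThin (cov hc).I₀ := inferInstanceAs <| Quiver.IsThin (JJ D)

instance : Small.{u} (cov hc).I₀ := inferInstanceAs <| Small.{u} (JJ D)

variable [Surjective p] [Flat p] [QuasiCompact p]

noncomputable instance : (cov hc).LocallyDirected where
  trans {i j} hij := D.obj.left.homOfLE (leOfHom hij)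
  trans_id i := Scheme.homOfLE_rfl _ _
  trans_comp {i j k} hij hjk := (Scheme.homOfLE_homOfLE _ (leOfHom hij) (leOfHom hjk)).symm
  w {i j} hij := Scheme.homOfLE_ι _ _
  directed {i j} x := by
    let i' : JJ D := i
    let j' : JJ D := j
    let k : JJ D := ⟨i'.1 ⊓ j'.1, good_inf i'.2 j'.2⟩
    let v : D.obj.left := (pullback.fst ((cov hc).f i) ((cov hc).f j) ≫ (cov hc).f i) x
    have hv1 : v ∈ i'.1 := by
      have : v ∈ Set.range i'.1.ι := ⟨(pullback.fst ((cov hc).f i) ((cov hc).f j)) x, rfl⟩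
      simpa using this
    have hv2 : v ∈ j'.1 := by
      have : v ∈ Set.range j'.1.ι := by
        refine ⟨(pullback.snd ((cov hc).f i) ((cov hc).f j)) x, ?_⟩
        show (pullback.snd ((cov hc).f i) ((cov hc).f j) ≫ (cov hc).f j) x = _
        rw [← pullback.condition]
      simpa using this
    refine ⟨k, homOfLE (show k ≤ i' from (inf_le_left : i'.1 ⊓ j'.1 ≤ i'.1)),
      homOfLE (show k ≤ j' from (inf_le_right : i'.1 ⊓ j'.1 ≤ j'.1)),
      ⟨v, ⟨hv1, hv2⟩⟩, ?_⟩
    apply (pullback.fst ((cov hc).f i) ((cov hc).f j) ≫ (cov hc).f i).isOpenEmbedding.injective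
    rw [← Scheme.Hom.comp_apply, pullback.lift_fst_assoc]
    show (D.obj.left.homOfLE _ ≫ i'.1.ι) _ = v
    rw [Scheme.homOfLE_ι]
    rfl
  property_trans {i j} hij := by
    show IsOpenImmersion (D.obj.left.homOfLE (leOfHom hij))
    infer_instance

/-- The diagram of descended pieces, as schemes. -/
noncomputable def GS : (cov hc).I₀ ⥤ Scheme.{u} := (GG : JJ D ⥤ Over S) ⋙ Over.forget S

lemma GS_map {i j : (cov hc).I₀} (f : i ⟶ j) : (GS hc).map f = (gmap (D := D) f).left := rfl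

instance {i j : (cov hc).I₀} (f : i ⟶ j) : IsOpenImmersion ((GS hc).map f) := by
  rw [GS_map]; infer_instance

/-- The equifibered natural transformation. -/
noncomputable def sNat : (cov hc).functorOfLocallyDirected ⟶ GS hc where
  app i := JJ.rr (D := D) i
  naturality i j f := rr_nat (D := D) f

lemma sNat_app (i : (cov hc).I₀) : (sNat hc).app i = JJ.rr (D := D) i := rfl

lemma sNat_equif : NatTrans.Equifibered (sNat hc) := fun i j f => equif (D := D) f

lemma sNat_surj (i : (cov hc).I₀) : Function.Surjective ((sNat hc).app i) :=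
  (rr_prop (D := D) @Surjective inferInstance i).surj

instance : ((GS hc) ⋙ Scheme.forget).IsLocallyDirected :=
  isLocallyDirected_of_equifibered_of_surjective (sNat hc) (sNat_equif hc) (sNat_surj hc)

/-- The glued scheme over `S`. -/
noncomputable def UU : Over S :=
  Over.mk (colimit.desc (GS hc)
    { pt := S
      ι := { app := fun i => (JJ.EE (D := D) i).hom
             naturality := fun i j f => by
               show (gmap (D := D) f).left ≫ _ = _ ≫ 𝟙 _
               rw [Category.comp_id]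
               exact Over.w (gmap (D := D) f) } })

lemma ι_UU_hom (i : (cov hc).I₀) : colimit.ι (GS hc) i ≫ (UU hc).hom = (JJ.EE (D := D) i).hom :=
  colimit.ι_desc _ _

/-- The glued morphism. -/
noncomputable def rG : D.obj.left ⟶ (UU hc).left := glueR (cov hc) (GS hc) (sNat hc)

lemma isPullback_rG (i : (cov hc).I₀) :
    IsPullback (JJ.rr (D := D) i) ((cov hc).f i) (colimit.ι (GS hc) i) (rG hc) :=
  isPullback_glueR (cov hc) (GS hc) (sNat hc) (sNat_equif hc) i

lemma f_rG (i : (cov hc).I₀) :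
    (cov hc).f i ≫ rG hc = JJ.rr (D := D) i ≫ colimit.ι (GS hc) i :=
  f_glueR (cov hc) (GS hc) (sNat hc) i

lemma isPullback_main : IsPullback D.obj.hom (rG hc) p (UU hc).hom := by
  refine IsPullback.flip ?_
  refine Scheme.isPullback_of_openCover (rG hc) D.obj.hom (UU hc).hom p
    (Scheme.IsLocallyDirected.openCover (GS hc)) (fun i => ?_)
  have h1 := (isPullback_rG hc i).flip
  have h2 := (JJ.isPullback_rr (D := D) i).flip
  refine IsPullback.of_iso h2 h1.isoPullback (Iso.refl _) (Iso.refl _) (Iso.refl _) ?_ ?_ ?_ ?_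
  · rw [Iso.refl_hom, Category.comp_id]
    exact (h1.isoPullback_hom_snd).symm
  · rw [Iso.refl_hom, Category.comp_id]
    have := h1.isoPullback_hom_fst
    show _ = _ ≫ pullback.fst _ _ ≫ D.obj.hom
    rw [← Category.assoc]
    exact congrArg (· ≫ D.obj.hom) this.symm
  · rw [Iso.refl_hom, Category.comp_id, Iso.refl_hom, Category.id_comp]
    exact (ι_UU_hom hc i).symm
  · rw [Iso.refl_hom, Category.comp_id, Iso.refl_hom, Category.id_comp]

lemma compat_main ⦃T : Scheme.{u}⦄ (x₀ x₁ : T ⟶ X) (h : x₀ ≫ p = x₁ ≫ p)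
    (y : Desc.Lifts D.obj x₀) : (D.φ x₀ x₁ h y).1 ≫ rG hc = y.1 ≫ rG hc := by
  apply Scheme.Cover.hom_ext ((cov hc).pullback₁ y.1)
  intro i
  let i' : JJ D := i
  let g : pullback y.1 i'.1.ι ⟶ T := pullback.fst _ _
  let y' : pullback y.1 i'.1.ι ⟶ i'.1.toScheme := pullback.snd _ _
  have hy' : g ≫ y.1 = y' ≫ i'.1.ι := pullback.condition
  show g ≫ (D.φ x₀ x₁ h y).1 ≫ rG hc = g ≫ y.1 ≫ rG hc
  have h' : (g ≫ x₀) ≫ p = (g ≫ x₁) ≫ p := by rw [Category.assoc, Category.assoc, h]
  have hy2 : (y' ≫ i'.1.ι) ≫ D.obj.hom = g ≫ x₀ := by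
    rw [← hy', Category.assoc, y.2]
  have e1 : (D.φ (g ≫ x₀) (g ≫ x₁) h' ⟨y' ≫ i'.1.ι, hy2⟩).1 = g ≫ (D.φ x₀ x₁ h y).1 :=
    D.φ_natural g x₀ x₁ h h' y ⟨y' ≫ i'.1.ι, hy2⟩ hy'.symm
  have hy3 : y' ≫ (restrictDD i'.inv).obj.hom = g ≫ x₀ := by
    rw [← hy2, Category.assoc]; rfl
  have e2 := restrictDD_φ i'.inv (g ≫ x₀) (g ≫ x₁) h' ⟨y', hy3⟩
  have e3 := i'.compat (g ≫ x₀) (g ≫ x₁) h' ⟨y', hy3⟩
  have e4 : i'.1.ι ≫ rG hc = i'.rr ≫ colimit.ι (GS hc) i := f_rG hc i
  rw [← Category.assoc, ← e1, ← Category.assoc, hy', Category.assoc y', e4]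
  have e5 : (D.φ (g ≫ x₀) (g ≫ x₁) h' ⟨y' ≫ i'.1.ι, hy2⟩).1 =
      ((restrictDD i'.inv).φ (g ≫ x₀) (g ≫ x₁) h' ⟨y', hy3⟩).1 ≫ i'.1.ι := e2.symm
  rw [e5, Category.assoc, e4, ← Category.assoc, e3]
  rfl

include hc in
theorem effective_of_cover : ∃ U : Over S, Nonempty ((Desc.toDD p).obj U ≅ D) :=
  ⟨UU hc, iso_of_glue p D (UU hc) (rG hc) (isPullback_main hc) (compat_main hc)⟩

end Groth.Agent.Lib.LocEffH6
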