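import Mathlib
import Groth.Agent.Lib.FinDesc1_helper6
import Groth.Agent.Lib.FinDesc3_helper6
import Groth.Agent.Lib.LocEff5_helper6

/-!
# Effective descent along fpqc universally injective morphisms
-/

set_option backward.isDefEq.respectTransparency false
set_option backward.isDefEq.respectTransparency.types false

universe u

open CategoryTheory CategoryTheory.Limits AlgebraicGeometry Opposite

namespace Groth.Agent.Lib.RadDescH6

open Groth.Agent.Lib.AffDescH6 Groth.Agent.Lib.LocEffH6 Groth.Agent.Lib.FinDescH6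

variable {X S : Scheme.{u}} (p : X ⟶ S) (D : Desc.SchDD p)

/-- An open stable under the orbit relation is invariant. -/
lemma isInv_of_rel {W : D.obj.left.Opens}
    (h : ∀ v ∈ W, ∀ v', Rel p D v v' → v' ∈ W) : IsInv D W.ι := by
  rw [isInv_iff_range]
  intro T x₀ x₁ hx y hy
  rw [Scheme.Opens.range_ι] at hy ⊢
  rintro _ ⟨t, rfl⟩
  exact h _ (hy ⟨t, rfl⟩) _ (rel_of_φ p D x₀ x₁ hx y t)

/-- Invariant quasi-affine opens lying over an affine open of the base with affine preimage are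
good. -/
lemma good_of_isQuasiAffine' [Surjective p] [Flat p] {W : D.obj.left.Opens} (hW : IsInv D W.ι)
    [hQA : W.toScheme.IsQuasiAffine] (Ya : S.Opens) (hYa : IsAffineOpen Ya)
    (hXa : IsAffineOpen (p ⁻¹ᵁ Ya)) (hle : W ≤ (D.obj.hom ≫ p) ⁻¹ᵁ Ya) : Good D W := by
  refine ⟨hW, ?_⟩
  have sq : (p ⁻¹ᵁ Ya).ι ≫ p = (p ∣_ Ya) ≫ Ya.ι := (morphismRestrict_ι p Ya).symm
  have hrange : Set.range (W.ι ≫ D.obj.hom) ⊆ Set.range (p ⁻¹ᵁ Ya).ι := by
    rintro _ ⟨w, rfl⟩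
    rw [Scheme.Opens.range_ι]
    exact hle w.2
  let wa : W.toScheme ⟶ (p ⁻¹ᵁ Ya).toScheme :=
    IsOpenImmersion.lift (p ⁻¹ᵁ Ya).ι (W.ι ≫ D.obj.hom) hrange
  have hw : wa ≫ (p ⁻¹ᵁ Ya).ι = (restrictDD hW).obj.hom := IsOpenImmersion.lift_fac _ _ _
  refine effective_of_baseDD (p ⁻¹ᵁ Ya).ι (p ∣_ Ya) Ya.ι sq (restrictDD hW) wa hw
    (isPullback_morphismRestrict p Ya).flip ?_
  haveI : IsAffine Ya.toScheme := hYa
  haveI : IsAffine (p ⁻¹ᵁ Ya).toScheme := hXa
  haveI : Surjective (p ∣_ Ya) :=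
    MorphismProperty.of_isPullback (P := @Surjective) (isPullback_morphismRestrict p Ya).flip
      inferInstance
  haveI : (baseDD (p ⁻¹ᵁ Ya).ι (p ∣_ Ya) Ya.ι sq (restrictDD hW) wa hw).obj.left.IsQuasiAffine :=
    hQA
  exact exists_descent_of_isQuasiAffine (p ∣_ Ya)
    (baseDD (p ⁻¹ᵁ Ya).ι (p ∣_ Ya) Ya.ι sq (restrictDD hW) wa hw)

section radicial

variable [Surjective p] [Flat p] [QuasiCompact p] [UniversallyInjective p]

lemma rel_eq {v v' : D.obj.left} (h : Rel p D v v') : v' = v := by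
  obtain ⟨w, hw1, rfl⟩ := h
  haveI : UniversallyInjective (snd₂ p D) :=
    MorphismProperty.pullback_snd (P := @UniversallyInjective) p (D.obj.hom ≫ p) inferInstance
  have h1 : snd₂ p D (δ₂ p D v) = v := by
    rw [← Scheme.Hom.comp_apply, δ₂_snd]; rfl
  have h2 : w = δ₂ p D v := (snd₂ p D).injective (hw1.trans h1.symm)
  rw [h2, ← Scheme.Hom.comp_apply, δ₂_vu']
  rfl

lemma isInv_all (W : D.obj.left.Opens) : IsInv D W.ι :=
  isInv_of_rel p D fun v hv v' hr => by rw [rel_eq p D hr]; exact hv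

/-- Arbitrarily small affine opens of the base with affine preimage. -/
lemma exists_small_affine (x : X) :
    ∃ Sc : S.Opens, IsAffineOpen Sc ∧ IsAffineOpen (p ⁻¹ᵁ Sc) ∧ p x ∈ Sc := by
  obtain ⟨_, ⟨Sa, hSa, rfl⟩, hsSa, -⟩ := S.isBasis_affineOpens.exists_subset_of_mem_open
    (Set.mem_univ (p x)) isOpen_univ
  obtain ⟨_, ⟨Xb, hXb, rfl⟩, hxXb, hXble⟩ := X.isBasis_affineOpens.exists_subset_of_mem_open
    (show x ∈ ((p ⁻¹ᵁ Sa : X.Opens) : Set X) from hsSa) (p ⁻¹ᵁ Sa).isOpen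
  -- the image of `Xb` is open
  have hq := Flat.isQuotientMap_of_surjective p
  have hpre : p ⁻¹' (p '' (Xb : Set X)) = Xb :=
    Set.preimage_image_eq _ p.injective
  have hopen : IsOpen (p '' (Xb : Set X)) := by
    rw [← hq.isOpen_preimage, hpre]; exact Xb.isOpen
  let Sb : S.Opens := ⟨p '' (Xb : Set X), hopen⟩
  obtain ⟨f, hf1, hf2⟩ := hSa.exists_basicOpen_le (V := Sb) ⟨p x, ⟨x, hxXb, rfl⟩⟩ hsSa
  refine ⟨S.basicOpen f, hSa.basicOpen f, ?_, hf2⟩
  have hle : p ⁻¹ᵁ S.basicOpen f ≤ Xb := by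
    intro y hy
    obtain ⟨z, hz, hzy⟩ := hf1 hy
    rw [← p.injective hzy]; exact hz
  have e1 : p ⁻¹ᵁ S.basicOpen f = X.basicOpen (p.app Sa f) := Scheme.preimage_basicOpen p f
  have e2 : X.basicOpen (X.presheaf.map (homOfLE hXble).op (p.app Sa f)) =
      Xb ⊓ X.basicOpen (p.app Sa f) := Scheme.basicOpen_res _ _ _
  have e3 : p ⁻¹ᵁ S.basicOpen f = X.basicOpen (X.presheaf.map (homOfLE hXble).op (p.app Sa f)) := by
    rw [e2, ← e1]
    exact (inf_eq_right.mpr hle).symm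
  rw [e3]
  exact hXb.basicOpen _

theorem effective_of_radicial : ∃ U : Over S, Nonempty ((Desc.toDD p).obj U ≅ D) := by
  have hgood : ∀ v : D.obj.left, ∃ W : D.obj.left.Opens, Good D W ∧ v ∈ W := by
    intro v
    obtain ⟨Sc, hSc, hXc, hmem⟩ := exists_small_affine p (D.obj.hom v)
    obtain ⟨_, ⟨W, hW, rfl⟩, hvW, hWle⟩ :=
      D.obj.left.isBasis_affineOpens.exists_subset_of_mem_open
        (show v ∈ (((D.obj.hom ≫ p) ⁻¹ᵁ Sc : D.obj.left.Opens) : Set D.obj.left) from hmem)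
        ((D.obj.hom ≫ p) ⁻¹ᵁ Sc).isOpen
    let W' : D.obj.left.Opens := W
    haveI : IsAffine W'.toScheme := hW
    exact ⟨W', good_of_isQuasiAffine' p D (isInv_all p D W') Sc hSc hXc hWle, hvW⟩
  have hc : TopologicalSpace.IsOpenCover (fun i : JJ D => i.1) := by
    apply TopologicalSpace.IsOpenCover.mk
    rw [eq_top_iff]
    intro v _
    obtain ⟨W, hW, hv⟩ := hgood v
    rw [TopologicalSpace.Opens.mem_iSup]
    exact ⟨⟨W, hW⟩, hv⟩
  exact effective_of_cover hc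

end radicial

end Groth.Agent.Lib.RadDescH6
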