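import Mathlib
import Groth.Prelude
import Groth.Agent.S2912
import Groth.Agent.Lib.TopInv_helper4

/-!
# Étale schemes along a faithfully flat, quasi-compact, radicial morphism (helper3)

For `g : S' ⟶ S` flat, surjective, quasi-compact and universally injective, base change along `g`
is an equivalence between the categories of `P`-schemes over `S` and over `S'`, for any property
`P ≤ étale` which is stable under base change and descends along fpqc morphisms.

Essential surjectivity: an étale `S'`-scheme carries a canonical descent datum relative to `g`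
(points are transported along the nil-immersion given by the equaliser of two points of `S'` with
the same image in `S`), and every descent datum relative to `g` is effective (S2912).
-/

set_option autoImplicit false
set_option linter.all false
set_option maxHeartbeats 1600000

universe u

open CategoryTheory CategoryTheory.Limits AlgebraicGeometry

namespace Groth.Agent.Lib.RadEtH3

/-- Two morphisms agree on all residue-field points. -/
def PtEq {Y X : Scheme.{u}} (φ ψ : Y ⟶ X) : Prop :=
  ∀ y : Y, Y.fromSpecResidueField y ≫ φ = Y.fromSpecResidueField y ≫ ψ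

theorem PtEq.refl {Y X : Scheme.{u}} (φ : Y ⟶ X) : PtEq φ φ := fun _ => rfl

theorem PtEq.symm {Y X : Scheme.{u}} {φ ψ : Y ⟶ X} (h : PtEq φ ψ) : PtEq ψ φ :=
  fun y => (h y).symm

theorem PtEq.trans {Y X : Scheme.{u}} {φ ψ χ : Y ⟶ X} (h : PtEq φ ψ) (h' : PtEq ψ χ) :
    PtEq φ χ := fun y => (h y).trans (h' y)

theorem PtEq.precomp {Y' Y X : Scheme.{u}} (c : Y' ⟶ Y) {φ ψ : Y ⟶ X} (h : PtEq φ ψ) :
    PtEq (c ≫ φ) (c ≫ ψ) := by
  intro y'
  have e := Scheme.Hom.SpecMap_residueFieldMap_fromSpecResidueField c y'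
  rw [← Category.assoc, ← Category.assoc, ← e, Category.assoc, Category.assoc, h (c y')]

theorem PtEq.postcomp {Y X Z : Scheme.{u}} {φ ψ : Y ⟶ X} (h : PtEq φ ψ) (d : X ⟶ Z) :
    PtEq (φ ≫ d) (ψ ≫ d) := by
  intro y
  rw [← Category.assoc, ← Category.assoc, h y]

/-- Two `S`-morphisms into an `S`-scheme with open diagonal which agree on all residue-field
points are equal. -/
theorem eq_of_ptEq {S X Y : Scheme.{u}} (p : X ⟶ S) [IsOpenImmersion (pullback.diagonal p)]
    (φ ψ : Y ⟶ X) (h : φ ≫ p = ψ ≫ p) (hpt : PtEq φ ψ) : φ = ψ := by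
  let Δ : X ⟶ pullback p p := pullback.diagonal p
  let t : Y ⟶ pullback p p := pullback.lift φ ψ h
  have hr : Set.range t ⊆ Set.range Δ := by
    rintro _ ⟨y, rfl⟩
    obtain ⟨s⟩ : Nonempty (Spec (Y.residueField y)) := inferInstance
    have hy : Y.fromSpecResidueField y s = y := Scheme.fromSpecResidueField_apply _ _
    have hjt : Y.fromSpecResidueField y ≫ t = (Y.fromSpecResidueField y ≫ φ) ≫ Δ := by
      apply pullback.hom_ext
      · rw [Category.assoc, Category.assoc, pullback.lift_fst, pullback.diagonal_fst,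
          Category.comp_id]
      · rw [Category.assoc, Category.assoc, pullback.lift_snd, pullback.diagonal_snd,
          Category.comp_id, hpt y]
    refine ⟨(Y.fromSpecResidueField y ≫ φ) s, ?_⟩
    rw [← Scheme.Hom.comp_apply, ← hjt, Scheme.Hom.comp_apply, hy]
  let ℓ : Y ⟶ X := IsOpenImmersion.lift Δ t hr
  have hℓ : ℓ ≫ Δ = t := IsOpenImmersion.lift_fac _ _ _
  have h1 : φ = ℓ := by
    have := congr($hℓ ≫ pullback.fst p p)
    rw [Category.assoc, pullback.diagonal_fst, Category.comp_id, pullback.lift_fst] at this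
    exact this.symm
  have h2 : ψ = ℓ := by
    have := congr($hℓ ≫ pullback.snd p p)
    rw [Category.assoc, pullback.diagonal_snd, Category.comp_id, pullback.lift_snd] at this
    exact this.symm
  rw [h1, h2]

/-- Two points of the source of a universally injective morphism with the same image agree on
residue-field points. -/
theorem ptEq_of_universallyInjective {S' S T : Scheme.{u}} (g : S' ⟶ S) [UniversallyInjective g]
    (x₀ x₁ : T ⟶ S') (h : x₀ ≫ g = x₁ ≫ g) : PtEq x₀ x₁ := by
  intro t
  have hiff := (tfae_universallyInjective g).out 0 1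
  have hinj := hiff.mp inferInstance (T.residueField t)
  apply hinj
  show (T.fromSpecResidueField t ≫ x₀) ≫ g = (T.fromSpecResidueField t ≫ x₁) ≫ g
  rw [Category.assoc, Category.assoc, h]

section Transport

variable {S' S : Scheme.{u}} (g : S' ⟶ S) [UniversallyInjective g] (U' : Over S') [Etale U'.hom]

/-- Existence of the transported point. -/
theorem exists_transport {T : Scheme.{u}} (x₀ x₁ : T ⟶ S') (h : x₀ ≫ g = x₁ ≫ g)
    (v : T ⟶ U'.left) (hv : v ≫ U'.hom = x₀) :
    ∃ w : T ⟶ U'.left, w ≫ U'.hom = x₁ ∧ PtEq v w := by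
  have hpt := ptEq_of_universallyInjective g x₀ x₁ h
  let ι : equalizer x₀ x₁ ⟶ T := equalizer.ι x₀ x₁
  have hfac : ∀ t : T, ∃ ℓ : Spec (T.residueField t) ⟶ equalizer x₀ x₁,
      ℓ ≫ ι = T.fromSpecResidueField t := fun t =>
    ⟨equalizer.lift (T.fromSpecResidueField t) (hpt t), equalizer.lift_ι _ _⟩
  haveI : Surjective ι := by
    refine ⟨fun t => ?_⟩
    obtain ⟨ℓ, hℓ⟩ := hfac t
    obtain ⟨s⟩ : Nonempty (Spec (T.residueField t)) := inferInstance
    refine ⟨ℓ s, ?_⟩
    rw [← Scheme.Hom.comp_apply, hℓ]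
    exact Scheme.fromSpecResidueField_apply _ _
  haveI : IsClosedImmersion ι :=
    IsClosedImmersion.of_isPreimmersion ι (by
      rw [Set.range_eq_univ.mpr ι.surjective]; exact isClosed_univ)
  obtain ⟨w, hw1, hw2⟩ := Groth.Agent.Lib.TopInvH4.exists_lift U'.hom x₁ ι (ι ≫ v) (by
    rw [Category.assoc, hv]; exact equalizer.condition x₀ x₁)
  refine ⟨w, hw1, fun t => ?_⟩
  obtain ⟨ℓ, hℓ⟩ := hfac t
  rw [← hℓ, Category.assoc, Category.assoc, hw2]

/-- The transported point. -/
noncomputable def transport {T : Scheme.{u}} (x₀ x₁ : T ⟶ S') (h : x₀ ≫ g = x₁ ≫ g)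
    (v : Desc.Lifts U' x₀) : Desc.Lifts U' x₁ :=
  ⟨(exists_transport g U' x₀ x₁ h v.1 v.2).choose,
    (exists_transport g U' x₀ x₁ h v.1 v.2).choose_spec.1⟩

theorem transport_ptEq {T : Scheme.{u}} (x₀ x₁ : T ⟶ S') (h : x₀ ≫ g = x₁ ≫ g)
    (v : Desc.Lifts U' x₀) : PtEq v.1 (transport g U' x₀ x₁ h v).1 :=
  (exists_transport g U' x₀ x₁ h v.1 v.2).choose_spec.2

theorem transport_unique {T : Scheme.{u}} (x₀ x₁ : T ⟶ S') (h : x₀ ≫ g = x₁ ≫ g)
    (v : Desc.Lifts U' x₀) (w : Desc.Lifts U' x₁) (hw : PtEq v.1 w.1) :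
    transport g U' x₀ x₁ h v = w := by
  apply Subtype.ext
  refine eq_of_ptEq U'.hom _ _ ?_ ((transport_ptEq g U' x₀ x₁ h v).symm.trans hw)
  rw [(transport g U' x₀ x₁ h v).2, w.2]

/-- The canonical descent datum on an étale scheme relative to a universally injective
morphism. -/
noncomputable def radDD : Desc.SchDD g where
  obj := U'
  φ T x₀ x₁ h :=
    { toFun := transport g U' x₀ x₁ h
      invFun := transport g U' x₁ x₀ h.symm
      left_inv := fun v => transport_unique g U' x₁ x₀ h.symm _ v
        (transport_ptEq g U' x₀ x₁ h v).symm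
      right_inv := fun v => transport_unique g U' x₀ x₁ h _ v
        (transport_ptEq g U' x₁ x₀ h.symm v).symm }
  φ_natural T T' c x₀ x₁ h h' v v' hv' := by
    have key := transport_unique g U' (c ≫ x₀) (c ≫ x₁) h' v'
      ⟨c ≫ (transport g U' x₀ x₁ h v).1, by
        rw [Category.assoc, (transport g U' x₀ x₁ h v).2]⟩
      (by rw [hv']; exact (transport_ptEq g U' x₀ x₁ h v).precomp c)
    exact congrArg Subtype.val key
  φ_self T x v := transport_unique g U' x x rfl v v (PtEq.refl _)
  φ_comp T x₀ x₁ x₂ h₀₁ h₁₂ v :=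
    (transport_unique g U' x₀ x₂ (h₀₁.trans h₁₂) v _
      ((transport_ptEq g U' x₀ x₁ h₀₁ v).trans (transport_ptEq g U' x₁ x₂ h₁₂ _))).symm

end Transport

section Effective

variable {S' S : Scheme.{u}} (g : S' ⟶ S) [Flat g] [Surjective g] [QuasiCompact g]
  [UniversallyInjective g]

/-- Every étale `S'`-scheme is the base change of an `S`-scheme. -/
theorem exists_descent (U' : Over S') [Etale U'.hom] :
    ∃ (U : Over S), Nonempty (Over.mk (pullback.fst g U.hom) ≅ U') := by
  obtain ⟨U, ⟨e⟩⟩ := Groth.Agent.S2912.result g (radDD g U')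
  refine ⟨U, ⟨⟨e.hom.hom, e.inv.hom, ?_, ?_⟩⟩⟩
  · exact congrArg Desc.SchDD.Hom.hom e.hom_inv_id
  · exact congrArg Desc.SchDD.Hom.hom e.inv_hom_id

end Effective

section Equiv

variable {S' S : Scheme.{u}} (g : S' ⟶ S) [Flat g] [Surjective g] [QuasiCompact g]
  [UniversallyInjective g]

/-- Descent of morphisms into an étale `S`-scheme along the base change of `g`. -/
theorem exists_desc_hom {X Y : Scheme.{u}} (p : X ⟶ S) [Etale p] (q : Y ⟶ S)
    (ψ : pullback q g ⟶ X) (hψ : ψ ≫ p = pullback.fst q g ≫ q) :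
    ∃ φ : Y ⟶ X, pullback.fst q g ≫ φ = ψ ∧ φ ≫ p = q := by
  set c : pullback q g ⟶ Y := pullback.fst q g with hc
  haveI : Surjective c := MorphismProperty.pullback_fst (P := @Surjective) q g inferInstance
  haveI : Flat c := MorphismProperty.pullback_fst (P := @Flat) q g inferInstance
  haveI : QuasiCompact c := MorphismProperty.pullback_fst (P := @QuasiCompact) q g inferInstance
  haveI : UniversallyInjective c :=
    MorphismProperty.pullback_fst (P := @UniversallyInjective) q g inferInstance
  have hdesc : ∀ {Z : Scheme.{u}} (g₁ g₂ : Z ⟶ pullback q g),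
      g₁ ≫ c = g₂ ≫ c → g₁ ≫ ψ = g₂ ≫ ψ := by
    intro Z g₁ g₂ hg
    refine eq_of_ptEq p _ _ ?_ ((ptEq_of_universallyInjective c g₁ g₂ hg).postcomp ψ)
    rw [Category.assoc, Category.assoc, hψ, ← Category.assoc, ← Category.assoc, hg]
  haveI : EffectiveEpi c := inferInstance
  refine ⟨EffectiveEpi.desc c ψ hdesc, EffectiveEpi.fac c ψ hdesc, ?_⟩
  rw [← cancel_epi c, EffectiveEpi.fac_assoc, hψ]

variable (P : MorphismProperty Scheme.{u}) [P.IsStableUnderBaseChange]
  [P.DescendsAlong (@Surjective ⊓ @Flat ⊓ @QuasiCompact : MorphismProperty Scheme.{u})]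

include g in
theorem faithful_pullback (hP : P ≤ @Etale) :
    (MorphismProperty.Over.pullback P ⊤ g).Faithful := by
  refine ⟨fun {A B} φ ψ h => ?_⟩
  haveI : Etale B.hom := hP _ B.prop
  haveI : Surjective (pullback.fst A.hom g) :=
    MorphismProperty.pullback_fst (P := @Surjective) A.hom g inferInstance
  have h' : ((MorphismProperty.Over.pullback P ⊤ g).map φ).left =
      ((MorphismProperty.Over.pullback P ⊤ g).map ψ).left := congrArg (fun α => α.left) h
  have h1 : ((MorphismProperty.Over.pullback P ⊤ g).map φ).left ≫ pullback.fst B.hom g =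
      pullback.fst A.hom g ≫ φ.left := by
    rw [MorphismProperty.Over.pullback_map_left]; exact pullback.lift_fst _ _ _
  have h2 : ((MorphismProperty.Over.pullback P ⊤ g).map ψ).left ≫ pullback.fst B.hom g =
      pullback.fst A.hom g ≫ ψ.left := by
    rw [MorphismProperty.Over.pullback_map_left]; exact pullback.lift_fst _ _ _
  apply MorphismProperty.Over.Hom.ext
  refine Groth.Agent.Lib.TopInvH4.unique_lift B.hom A.hom (pullback.fst A.hom g) φ.left ψ.left
    (MorphismProperty.Over.w φ) (MorphismProperty.Over.w ψ) ?_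
  rw [← h1, ← h2, h']

theorem full_pullback (hP : P ≤ @Etale) :
    (MorphismProperty.Over.pullback P ⊤ g).Full := by
  refine ⟨fun {A B} ψ => ?_⟩
  haveI : Etale B.hom := hP _ B.prop
  have hw : ψ.left ≫ pullback.snd B.hom g = pullback.snd A.hom g := MorphismProperty.Over.w ψ
  have e1 : (ψ.left ≫ pullback.fst B.hom g) ≫ B.hom = ψ.left ≫ (pullback.snd B.hom g ≫ g) :=
    (Category.assoc _ _ _).trans (congrArg (fun z => ψ.left ≫ z) pullback.condition)
  have e2 : ψ.left ≫ (pullback.snd B.hom g ≫ g) = pullback.snd A.hom g ≫ g :=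
    (Category.assoc _ _ _).symm.trans (congrArg (fun z => z ≫ g) hw)
  obtain ⟨φ, hφ1, hφ2⟩ := exists_desc_hom g B.hom A.hom (ψ.left ≫ pullback.fst B.hom g)
    (e1.trans (e2.trans pullback.condition.symm))
  refine ⟨MorphismProperty.Over.homMk φ hφ2 trivial, ?_⟩
  apply MorphismProperty.Over.Hom.ext
  rw [MorphismProperty.Over.pullback_map_left]
  apply pullback.hom_ext
  · rw [pullback.lift_fst]; exact hφ1
  · rw [pullback.lift_snd]; exact hw.symm

theorem essSurj_pullback (hP : P ≤ @Etale) :
    (MorphismProperty.Over.pullback P ⊤ g).EssSurj := by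
  refine ⟨fun U' => ?_⟩
  haveI : Etale U'.hom := hP _ U'.prop
  haveI : Etale (Over.mk U'.hom).hom := hP _ U'.prop
  obtain ⟨U, ⟨e⟩⟩ := exists_descent g (Over.mk U'.hom)
  let eL : pullback g U.hom ≅ U'.left := (Over.forget S').mapIso e
  have heL : eL.hom ≫ U'.hom = pullback.fst g U.hom := Over.w e.hom
  have hfst : P (pullback.fst g U.hom) := by
    rw [← heL]
    exact (P.cancel_left_of_respectsIso eL.hom U'.hom).mpr U'.prop
  have hPU : P U.hom :=
    MorphismProperty.of_pullback_fst_of_descendsAlong (P := P)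
      (Q := (@Surjective ⊓ @Flat ⊓ @QuasiCompact : MorphismProperty Scheme.{u}))
      (f := g) (g := U.hom) ⟨⟨inferInstance, inferInstance⟩, inferInstance⟩ hfst
  refine ⟨MorphismProperty.Over.mk ⊤ U.hom hPU, ⟨?_⟩⟩
  refine MorphismProperty.Over.isoMk (pullbackSymmetry U.hom g ≪≫ eL) ?_
  show (pullbackSymmetry U.hom g ≪≫ eL).hom ≫ U'.hom = pullback.snd U.hom g
  rw [Iso.trans_hom, Category.assoc, heL, pullbackSymmetry_hom_comp_fst]

/-- Base change along a faithfully flat, quasi-compact, radicial morphism is an equivalence on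
`P`-schemes, for `P ≤ étale` stable under base change and fpqc descent. -/
theorem isEquivalence_pullback (hP : P ≤ @Etale) :
    (MorphismProperty.Over.pullback P ⊤ g).IsEquivalence where
  faithful := faithful_pullback g P hP
  full := full_pullback g P hP
  essSurj := essSurj_pullback g P hP

end Equiv

end Groth.Agent.Lib.RadEtH3
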