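import Mathlib
import Groth.Prelude
import Groth.Agent.Lib.RadEt_helper3
import Groth.Agent.Lib.FEtFinExt2_helper3
import Groth.Agent.Lib.SchDescent_helper6

/-!
# Finite étale covers along a faithfully flat, quasi-compact, radicial morphism (helper3)
-/

set_option autoImplicit false
set_option linter.all false
set_option maxHeartbeats 1600000

universe u

open CategoryTheory CategoryTheory.Limits AlgebraicGeometry

namespace Groth.Agent.Lib.RadEtH3

open Groth.Agent.Lib.FEtFinExtH3

/-- Restriction of finite étale covers along a faithfully flat, quasi-compact, radicial morphism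
is an equivalence. -/
theorem fet_isEquivalence {S' S : Scheme.{u}} (g : S' ⟶ S) [Flat g] [Surjective g]
    [QuasiCompact g] [UniversallyInjective g] : (FEt.restrict g).IsEquivalence := by
  haveI := Groth.Agent.Lib.SchDescent_helper6.descendsAlong_isFinite.{u}
  haveI : FEt.prop.{u}.DescendsAlong
      (@Surjective ⊓ @Flat ⊓ @QuasiCompact : MorphismProperty Scheme.{u}) :=
    MorphismProperty.DescendsAlong.inf
  exact isEquivalence_pullback g FEt.prop.{u} inf_le_right

/-- Restriction of finite étale covers along `X_L ⟶ X` for a purely inseparable field extension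
`L/k` is an equivalence. -/
theorem fet_isEquivalence_of_isPurelyInseparable {k L : Type u} [Field k] [Field L] [Algebra k L]
    [IsPurelyInseparable k L] {X : Scheme.{u}} (f : X ⟶ Spec (CommRingCat.of k)) :
    (FEt.restrict (pullback.fst f (sF k L))).IsEquivalence := by
  have hq := fpqc_rLM k L
  haveI : Surjective (pullback.fst f (sF k L)) :=
    MorphismProperty.pullback_fst (P := @Surjective) f (sF k L) hq.1.1
  haveI : Flat (pullback.fst f (sF k L)) :=
    MorphismProperty.pullback_fst (P := @Flat) f (sF k L) hq.1.2
  haveI : QuasiCompact (pullback.fst f (sF k L)) :=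
    MorphismProperty.pullback_fst (P := @QuasiCompact) f (sF k L) hq.2
  haveI : UniversallyInjective (pullback.fst f (sF k L)) :=
    MorphismProperty.pullback_fst (P := @UniversallyInjective) f (sF k L)
      (universallyInjective_rLM k L)
  exact fet_isEquivalence _

end Groth.Agent.Lib.RadEtH3
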