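import Mathlib
import Groth.Prelude.Def_FEt
import Groth.Agent.Lib.FEtSepCl1_helper8
import Groth.Agent.Lib.FEtSepCl2_helper8
import Groth.Agent.Lib.Var7628_helper7
import Groth.Agent.Lib.LimDescFP6_helper7
import Groth.Agent.Lib.RadEt2_helper3

/-!
# Invariance of finite étale covers of a proper scheme under extension of a separably closed
base field (helper8)
-/

set_option autoImplicit false
set_option linter.style.haveILetI false
universe u
open CategoryTheory CategoryTheory.Limits AlgebraicGeometry IsLocalRing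

namespace Groth.Agent.Lib.FEtSepClH8

section BC

variable {k : Type u} [Field k] {X : Scheme.{u}} (f : X ⟶ Spec (CommRingCat.of k))

/-- `Spec C ⟶ Spec k` -/
noncomputable abbrev sC (k C : Type u) [CommRing k] [CommRing C] [Algebra k C] :
    Spec (CommRingCat.of C) ⟶ Spec (CommRingCat.of k) :=
  Spec.map (CommRingCat.ofHom (algebraMap k C))

variable {C C' C'' : Type u} [CommRing C] [Algebra k C] [CommRing C'] [Algebra k C']
  [CommRing C''] [Algebra k C'']

theorem sC_comp (φ : C →ₐ[k] C') :
    Spec.map (CommRingCat.ofHom φ.toRingHom) ≫ sC k C = sC k C' := by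
  rw [← Spec.map_comp, ← CommRingCat.ofHom_comp]
  congr 2
  exact φ.comp_algebraMap

/-- the base change map `X_{C'} ⟶ X_C` -/
noncomputable def bc (φ : C →ₐ[k] C') : pullback f (sC k C') ⟶ pullback f (sC k C) :=
  pullback.lift (pullback.fst _ _) (pullback.snd _ _ ≫ Spec.map (CommRingCat.ofHom φ.toRingHom))
    (by rw [Category.assoc, sC_comp]; exact pullback.condition)

@[reassoc (attr := simp)] theorem bc_fst (φ : C →ₐ[k] C') :
    bc f φ ≫ pullback.fst f (sC k C) = pullback.fst f (sC k C') := pullback.lift_fst _ _ _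

@[reassoc (attr := simp)] theorem bc_snd (φ : C →ₐ[k] C') :
    bc f φ ≫ pullback.snd f (sC k C) =
      pullback.snd f (sC k C') ≫ Spec.map (CommRingCat.ofHom φ.toRingHom) :=
  pullback.lift_snd _ _ _

theorem bc_comp (φ : C →ₐ[k] C') (ψ : C' →ₐ[k] C'') :
    bc f (ψ.comp φ) = bc f ψ ≫ bc f φ := by
  apply pullback.hom_ext
  · simp
  · simp only [bc_snd, Category.assoc, bc_snd_assoc]
    rw [← Spec.map_comp, ← CommRingCat.ofHom_comp]
    rfl

theorem isPullback_bc (φ : C →ₐ[k] C') :
    IsPullback (bc f φ) (pullback.snd f (sC k C')) (pullback.snd f (sC k C))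
      (Spec.map (CommRingCat.ofHom φ.toRingHom)) := by
  refine IsPullback.of_right ?_ (bc_snd f φ) (IsPullback.of_hasPullback f (sC k C))
  rw [bc_fst, sC_comp]
  exact IsPullback.of_hasPullback f (sC k C')

end BC


set_option maxHeartbeats 3200000 in
/-- Essential surjectivity from a finite type stage. -/
theorem essSurj_of_stage (k K : Type u) [Field k] [Field K] [IsSepClosed k] [IsSepClosed K]
    [Algebra k K] {X : Scheme.{u}} (f : X ⟶ Spec (CommRingCat.of k)) [IsProper f]
    {B : Type u} [CommRing B] [Algebra k B] [Algebra.FiniteType k B] (β : B →ₐ[k] K)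
    (VB : FEt.Cat (pullback f (sC k B))) :
    ∃ U₀ : FEt.Cat X, Nonempty ((FEt.restrict (pullback.fst f (sC k K))).obj U₀ ≅
      (FEt.restrict (bc f β)).obj VB) := by
  obtain ⟨H, _, _, _, L, _, _, φH, ψH, ψK, hcomp, hpi⟩ := exists_hens_data β
  haveI := hpi
  let resH : H →ₐ[k] ResidueField H := IsScalarTower.toAlgHom k H (ResidueField H)
  -- step 2: descend the closed fibre along the purely inseparable extension
  haveI := Groth.Agent.Lib.RadEtH3.fet_isEquivalence_of_isPurelyInseparable
    (k := k) (L := ResidueField H) f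
  obtain ⟨U₀, ⟨e2⟩⟩ : ∃ U₀ : FEt.Cat X,
      Nonempty ((FEt.restrict (pullback.fst f (sC k (ResidueField H)))).obj U₀ ≅
        (FEt.restrict (bc f (resH.comp φH))).obj VB) :=
    ⟨_, ⟨(FEt.restrict (pullback.fst f (sC k (ResidueField H)))).objObjPreimageIso _⟩⟩
  refine ⟨U₀, ?_⟩
  -- step 3: full faithfulness over the henselian local ring
  haveI : HenselianRing H (maximalIdeal H) := inferInstance
  haveI : IsClosedImmersion (Spec.map (CommRingCat.ofHom resH.toRingHom)) :=
    IsClosedImmersion.spec_of_surjective _ Ideal.Quotient.mk_surjective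
  have hζ : Set.range (Spec.map (CommRingCat.ofHom resH.toRingHom)) =
      (PrimeSpectrum.zeroLocus (maximalIdeal H : Set H) : Set (PrimeSpectrum H)) := by
    have h1 := _root_.range_comap_of_surjective (ResidueField H) resH.toRingHom
      Ideal.Quotient.mk_surjective
    have h2 : RingHom.ker resH.toRingHom = maximalIdeal H := IsLocalRing.ker_residue (R := H)
    rw [h2] at h1
    exact h1
  haveI : IsProper (pullback.snd f (sC k H)) :=
    MorphismProperty.pullback_snd (P := @IsProper) _ _ inferInstance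
  have hFF := fullyFaithful_of_henselian (maximalIdeal H)
    (Spec.map (CommRingCat.ofHom resH.toRingHom)) hζ (pullback.snd f (sC k H)) (bc f resH)
    (pullback.snd f (sC k (ResidueField H))) (isPullback_bc f resH)
  obtain ⟨e3⟩ : Nonempty ((FEt.restrict (bc f φH)).obj VB ≅
      (FEt.restrict (pullback.fst f (sC k H))).obj U₀) := by
    refine iso_of_restrict_iso (bc f resH) hFF ?_
    exact (restrictComp (bc f resH) (bc f φH) (bc f (resH.comp φH)) (bc_comp f φH resH) VB).symm
      ≪≫ e2.symm ≪≫
      restrictComp (bc f resH) (pullback.fst f (sC k H)) (pullback.fst f (sC k (ResidueField H)))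
        (bc_fst f resH).symm U₀
  -- step 4: move to `L`
  have e4 := (FEt.restrict (bc f ψH)).mapIso e3
  have e5 : (FEt.restrict (bc f ψK)).obj ((FEt.restrict (bc f β)).obj VB) ≅
      (FEt.restrict (bc f ψK)).obj ((FEt.restrict (pullback.fst f (sC k K))).obj U₀) :=
    (restrictComp (bc f ψK) (bc f β) (bc f (ψH.comp φH))
        (by rw [hcomp]; exact bc_comp f β ψK) VB).symm ≪≫
      restrictComp (bc f ψH) (bc f φH) (bc f (ψH.comp φH)) (bc_comp f φH ψH) VB ≪≫ e4 ≪≫
      (restrictComp (bc f ψH) (pullback.fst f (sC k H)) (pullback.fst f (sC k L))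
        (bc_fst f ψH).symm U₀).symm ≪≫
      restrictComp (bc f ψK) (pullback.fst f (sC k K)) (pullback.fst f (sC k L))
        (bc_fst f ψK).symm U₀
  -- step 5: full faithfulness along `K ⊆ L`
  have hFF2 := fullyFaithful_of_sepClosed ψK.toRingHom (pullback.snd f (sC k K)) (bc f ψK)
    (pullback.snd f (sC k L)) (isPullback_bc f ψK)
  obtain ⟨e6⟩ := iso_of_restrict_iso (bc f ψK) hFF2 e5
  exact ⟨e6.symm⟩

open Groth.Agent.Lib.Var7628H7 Groth.Agent.Lib.LimDescFPH7 Groth.Agent.Lib in
set_option maxHeartbeats 3200000 in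
/-- Essential surjectivity. -/
theorem essSurj_main (k K : Type u) [Field k] [Field K] [IsSepClosed k] [IsSepClosed K]
    [Algebra k K] {X : Scheme.{u}} (f : X ⟶ Spec (CommRingCat.of k)) [IsProper f]
    (V : FEt.Cat (pullback f (sC k K))) :
    ∃ U₀ : FEt.Cat X, Nonempty ((FEt.restrict (pullback.fst f (sC k K))).obj U₀ ≅ V) := by
  -- step 1: descend to a finitely presented stage
  have hprop : ∀ i, IsProper (pullback.snd f (σ k K i)) := fun i =>
    MorphismProperty.pullback_snd (P := @IsProper) _ _ inferInstance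
  haveI : ∀ i, CompactSpace ((E K f).obj i) := fun i => by
    haveI := hprop i
    show CompactSpace ↥(pullback f (σ k K i))
    exact QuasiCompact.compactSpace_of_compactSpace (pullback.snd f (σ k K i))
  haveI : ∀ i, QuasiSeparatedSpace ((E K f).obj i) := fun i => by
    haveI := hprop i
    show QuasiSeparatedSpace ↥(pullback f (σ k K i))
    exact quasiSeparatedSpace_of_quasiSeparated (pullback.snd f (σ k K i))
  obtain ⟨j, Vj, ⟨e1⟩⟩ := (main12073 (E K f) (sE K f) (isLimitSE K f)).1 V
  let p : AlgColim2H7.Idx k K := j.unop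
  haveI : Algebra.FiniteType k (AlgColim2H7.Sub p ⧸ AlgColim2H7.Rel p) := by
    haveI h1 : Algebra.FinitePresentation k (AlgColim2H7.Sub p) :=
      Algebra.FinitePresentation.equiv
        (MvPolynomial.supportedEquivMvPolynomial (R := k) (p.1.1 : Set K)).symm
    haveI : Algebra.FinitePresentation k (AlgColim2H7.Sub p ⧸ AlgColim2H7.Rel p) :=
      Algebra.FinitePresentation.quotient (AlgColim2H7.Rel_fg p)
    infer_instance
  let β : (AlgColim2H7.Sub p ⧸ AlgColim2H7.Rel p) →ₐ[k] K :=
    Groth.Agent.Lib.FEtFinExtH3.stageHom p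
  have hβ : (sE K f).π.app j = bc f β := rfl
  obtain ⟨U₀, ⟨e⟩⟩ := essSurj_of_stage k K f β Vj
  refine ⟨U₀, ⟨e ≪≫ ?_⟩⟩
  exact e1


/-- Base change of finite étale covers of a proper scheme along an extension of separably closed
fields is an equivalence. -/
theorem main7758 (k K : Type u) [Field k] [Field K] [IsSepClosed k] [IsSepClosed K] [Algebra k K]
    {X : Scheme.{u}} (f : X ⟶ Spec (CommRingCat.of k)) [IsProper f] :
    (FEt.restrict (pullback.fst f (Spec.map (CommRingCat.ofHom (algebraMap k K))))).IsEquivalence := by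
  have hFF := fullyFaithful_of_sepClosed (algebraMap k K) f
    (pullback.fst f (Spec.map (CommRingCat.ofHom (algebraMap k K))))
    (pullback.snd f (Spec.map (CommRingCat.ofHom (algebraMap k K))))
    (IsPullback.of_hasPullback f _)
  haveI := hFF.1
  haveI := hFF.2
  haveI : (FEt.restrict (pullback.fst f (Spec.map (CommRingCat.ofHom (algebraMap k K))))).EssSurj :=
    ⟨fun V => by
      obtain ⟨U₀, ⟨e⟩⟩ := essSurj_main k K f V
      exact ⟨U₀, ⟨e⟩⟩⟩
  exact { }

end Groth.Agent.Lib.FEtSepClH8
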