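import Mathlib
import Groth.Prelude.Def_FEt
import Groth.Agent.Lib.GlueOpenPushout_helper7

/-!
# Extending finite étale covers: topology and two-piece gluing (helper3)

* `exists_max_point`: in a quasi-sober `T0` space, a nonempty closed set `Z` contains a point none of
  whose proper generalizations lies in `Z` (a generic point of an irreducible component of `Z`).
* `exists_glue_fet`: two finite étale covers over the two pieces of an open cover which agree on the
  overlap glue to a finite étale cover.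
-/

set_option autoImplicit false
set_option linter.all false
set_option maxHeartbeats 1600000
universe u
open CategoryTheory CategoryTheory.Limits AlgebraicGeometry Topology TopologicalSpace
open Groth.Agent.Lib.GlueOpenPushoutH7

namespace Groth.Agent.Lib.FEtSpreadH3

theorem exists_max_point_space (T : Type*) [TopologicalSpace T] [QuasiSober T] [T0Space T]
    [Nonempty T] : ∃ t : T, ∀ s : T, s ⤳ t → s = t := by
  obtain ⟨t₀⟩ := ‹Nonempty T›
  obtain ⟨t, ht⟩ := QuasiSober.sober (isIrreducible_irreducibleComponent (x := t₀))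
    isClosed_irreducibleComponent
  refine ⟨t, fun s hst => ?_⟩
  have hC : irreducibleComponent t₀ = closure {t} := ht.def.symm
  have h1 : irreducibleComponent t₀ ⊆ closure {s} := by
    rw [hC]
    exact specializes_iff_closure_subset.mp hst
  have h2 : closure {s} = irreducibleComponent t₀ :=
    eq_irreducibleComponent (isIrreducible_singleton.closure).isPreirreducible h1
  have h3 : t ⤳ s := by
    rw [specializes_iff_mem_closure, ← hC, ← h2]
    exact subset_closure rfl
  exact (hst.antisymm h3).eq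

theorem exists_max_point {X : Type*} [TopologicalSpace X] [QuasiSober X] [T0Space X]
    (Z : Set X) (hZ : IsClosed Z) (hne : Z.Nonempty) :
    ∃ x ∈ Z, ∀ y ∈ Z, y ⤳ x → y = x := by
  haveI : QuasiSober Z := hZ.isClosedEmbedding_subtypeVal.quasiSober
  haveI : Nonempty Z := hne.to_subtype
  obtain ⟨t, ht⟩ := exists_max_point_space Z
  refine ⟨t.1, t.2, fun y hy hyt => ?_⟩
  have := ht ⟨y, hy⟩ ((Topology.IsInducing.subtypeVal.specializes_iff (x := (⟨y, hy⟩ : Z)) (y := t)).mp hyt)
  exact congrArg Subtype.val this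

theorem exists_glue_fet {X₁ W N O : Scheme.{u}} (j₁ : W ⟶ X₁) (j₂ : N ⟶ X₁)
    [IsOpenImmersion j₁] [IsOpenImmersion j₂]
    (hcov : ∀ x : X₁, x ∈ Set.range j₁ ∨ x ∈ Set.range j₂)
    (q₁ : O ⟶ W) (q₂ : O ⟶ N) (hq : IsPullback q₁ q₂ j₁ j₂)
    (V : FEt.Cat W) (Y : FEt.Cat N)
    (θ : (FEt.restrict q₁).obj V ≅ (FEt.restrict q₂).obj Y) :
    ∃ Z : FEt.Cat X₁, Nonempty ((FEt.restrict j₁).obj Z ≅ V) := by
  haveI : IsOpenImmersion q₂ :=
    MorphismProperty.of_isPullback (P := @IsOpenImmersion) hq (inferInstance : IsOpenImmersion j₁)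
  haveI : IsOpenImmersion q₁ :=
    MorphismProperty.of_isPullback (P := @IsOpenImmersion) hq.flip
      (inferInstance : IsOpenImmersion j₂)
  obtain ⟨v, hv⟩ : ∃ v : V.left ⟶ W, v = V.hom := ⟨_, rfl⟩
  obtain ⟨y, hy⟩ : ∃ y : Y.left ⟶ N, y = Y.hom := ⟨_, rfl⟩
  have hVp : FEt.prop v := hv ▸ V.prop
  have hYp : FEt.prop y := hy ▸ Y.prop
  -- the iso on the overlap, as an iso of schemes
  let θs : pullback v q₁ ≅ pullback y q₂ := by
    subst hv hy
    exact (MorphismProperty.Over.forget _ _ _ ⋙ Over.forget _).mapIso θ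
  have hθw : θs.hom ≫ pullback.snd y q₂ = pullback.snd v q₁ := by
    subst hv hy
    exact Over.w θ.hom.hom
  have hθw' : θs.inv ≫ pullback.snd v q₁ = pullback.snd y q₂ := by
    rw [← hθw, Iso.inv_hom_id_assoc]
  let o₁ : pullback v q₁ ⟶ V.left := pullback.fst v q₁
  let o₂ : pullback v q₁ ⟶ Y.left := θs.hom ≫ pullback.fst y q₂
  haveI : IsOpenImmersion o₁ := inferInstanceAs (IsOpenImmersion (pullback.fst v q₁))
  haveI : IsOpenImmersion o₂ := inferInstanceAs (IsOpenImmersion (θs.hom ≫ pullback.fst y q₂))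
  have hcompat : o₁ ≫ v ≫ j₁ = o₂ ≫ y ≫ j₂ := by
    show pullback.fst v q₁ ≫ v ≫ j₁ = (θs.hom ≫ pullback.fst y q₂) ≫ y ≫ j₂
    rw [← Category.assoc, pullback.condition, Category.assoc, Category.assoc,
      ← Category.assoc (pullback.fst y q₂), pullback.condition, Category.assoc,
      ← Category.assoc θs.hom, hθw, hq.w]
  let p : pushout o₁ o₂ ⟶ X₁ := pushout.desc (v ≫ j₁) (y ≫ j₂) hcompat
  have hp1 : pushout.inl o₁ o₂ ≫ p = v ≫ j₁ := pushout.inl_desc _ _ _
  have hp2 : pushout.inr o₁ o₂ ≫ p = y ≫ j₂ := pushout.inr_desc _ _ _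
  have H1 : IsPullback v (pushout.inl o₁ o₂) j₁ p := by
    refine IsOpenImmersion.isPullback _ _ _ _ hp1 ?_
    ext z
    constructor
    · intro hz
      obtain ⟨w, hw⟩ : ∃ w, j₁ w = p z := hz
      rcases inl_inr_jointly_surjective o₁ o₂ z with ⟨a, rfl⟩ | ⟨b, rfl⟩
      · exact ⟨a, rfl⟩
      · have h1 : j₁ w = j₂ (y b) := by
          rw [hw, ← Scheme.Hom.comp_apply, hp2, Scheme.Hom.comp_apply]
        obtain ⟨o, ho1, ho2⟩ := Scheme.exists_preimage_of_isPullback hq w (y b) h1
        obtain ⟨r, hr1, hr2⟩ := Scheme.exists_preimage_of_isPullback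
          (IsPullback.of_hasPullback y q₂) b o ho2.symm
        refine ⟨o₁ (θs.inv r), ?_⟩
        show pushout.inl o₁ o₂ (o₁ (θs.inv r)) = pushout.inr o₁ o₂ b
        rw [← Scheme.Hom.comp_apply, pushout.condition, Scheme.Hom.comp_apply]
        congr 1
        show (θs.hom ≫ pullback.fst y q₂) (θs.inv r) = b
        rw [← Scheme.Hom.comp_apply, Iso.inv_hom_id_assoc]
        exact hr1
    · rintro ⟨a, rfl⟩
      refine ⟨v a, ?_⟩
      rw [← Scheme.Hom.comp_apply, ← Scheme.Hom.comp_apply, hp1]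
  have H2 : IsPullback y (pushout.inr o₁ o₂) j₂ p := by
    refine IsOpenImmersion.isPullback _ _ _ _ hp2 ?_
    ext z
    constructor
    · intro hz
      obtain ⟨w, hw⟩ : ∃ w, j₂ w = p z := hz
      rcases inl_inr_jointly_surjective o₁ o₂ z with ⟨a, rfl⟩ | ⟨b, rfl⟩
      · have h1 : j₁ (v a) = j₂ w := by
          rw [hw, ← Scheme.Hom.comp_apply, ← Scheme.Hom.comp_apply, hp1]
        obtain ⟨o, ho1, ho2⟩ := Scheme.exists_preimage_of_isPullback hq (v a) w h1
        obtain ⟨r, hr1, hr2⟩ := Scheme.exists_preimage_of_isPullback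
          (IsPullback.of_hasPullback v q₁) a o ho1.symm
        refine ⟨o₂ r, ?_⟩
        show pushout.inr o₁ o₂ (o₂ r) = pushout.inl o₁ o₂ a
        rw [← Scheme.Hom.comp_apply, ← pushout.condition, Scheme.Hom.comp_apply]
        congr 1
      · exact ⟨b, rfl⟩
    · rintro ⟨b, rfl⟩
      refine ⟨y b, ?_⟩
      rw [← Scheme.Hom.comp_apply, ← Scheme.Hom.comp_apply, hp2]
  have hfin : FEt.prop p := by
    refine IsZariskiLocalAtTarget.of_openCover (P := FEt.prop) (twoCover j₁ j₂ hcov) ?_
    rintro (_ | _)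
    · show FEt.prop (pullback.snd p j₁)
      have e := H1.flip.isoPullback_hom_snd
      rw [← MorphismProperty.cancel_left_of_respectsIso FEt.prop H1.flip.isoPullback.hom, e]
      exact hVp
    · show FEt.prop (pullback.snd p j₂)
      have e := H2.flip.isoPullback_hom_snd
      rw [← MorphismProperty.cancel_left_of_respectsIso FEt.prop H2.flip.isoPullback.hom, e]
      exact hYp
  subst hv
  exact ⟨MorphismProperty.Over.mk ⊤ p hfin,
    ⟨MorphismProperty.Over.isoMk H1.flip.isoPullback.symm H1.flip.isoPullback_inv_snd⟩⟩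

end Groth.Agent.Lib.FEtSpreadH3
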