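import Mathlib
import Groth.Prelude.Def_FEt
import Groth.Agent.Lib.LimBaseChange_helper7
import Groth.Agent.Lib.LimIso_helper7

/-!
# Isomorphisms of finite étale covers over a cofiltered limit descend to a stage (helper3)

`exists_iso_stage`: for a cofiltered diagram `D` of qcqs schemes with affine transition maps and limit
cone `c`, two finite étale covers `Y₀`, `V₀` of a stage `D i₀` whose restrictions to `c.pt` are
isomorphic have isomorphic restrictions to some stage `D j`, `j ⟶ i₀`.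
-/

set_option autoImplicit false
set_option linter.all false
set_option maxHeartbeats 1600000
universe u
open CategoryTheory CategoryTheory.Limits AlgebraicGeometry
open Groth.Agent.Lib.LimBaseChangeH7 Groth.Agent.Lib.LimIsoH7

namespace Groth.Agent.Lib.FEtSpreadH3

theorem exists_iso_stage {I : Type u} [SmallCategory I] [IsCofiltered I]
    (D : I ⥤ Scheme.{u}) (c : Cone D) (hc : IsLimit c)
    [∀ (i j : I) (f : i ⟶ j), IsAffineHom (D.map f)] [∀ i, CompactSpace (D.obj i)]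
    [∀ i, QuasiSeparatedSpace (D.obj i)] (i₀ : I) (Y₀ V₀ : FEt.Cat (D.obj i₀))
    (θ : (FEt.restrict (c.π.app i₀)).obj Y₀ ≅ (FEt.restrict (c.π.app i₀)).obj V₀) :
    ∃ (j : I) (φ : j ⟶ i₀),
      Nonempty ((FEt.restrict (D.map φ)).obj Y₀ ≅ (FEt.restrict (D.map φ)).obj V₀) := by
  obtain ⟨y₀, hy⟩ : ∃ y₀ : Y₀.left ⟶ D.obj i₀, y₀ = Y₀.hom := ⟨_, rfl⟩
  obtain ⟨v₀, hv⟩ : ∃ v₀ : V₀.left ⟶ D.obj i₀, v₀ = V₀.hom := ⟨_, rfl⟩
  have hYp : FEt.prop y₀ := hy ▸ Y₀.prop
  have hVp : FEt.prop v₀ := hv ▸ V₀.prop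
  haveI : IsFinite y₀ := hYp.1
  haveI : Etale y₀ := hYp.2
  haveI : IsFinite v₀ := hVp.1
  haveI : Etale v₀ := hVp.2
  let θs : pullback y₀ (c.π.app i₀) ≅ pullback v₀ (c.π.app i₀) := by
    subst hy hv
    exact (MorphismProperty.Over.forget _ _ _ ⋙ Over.forget _).mapIso θ
  have hθw : θs.hom ≫ pullback.snd v₀ (c.π.app i₀) = pullback.snd y₀ (c.π.app i₀) := by
    subst hy hv
    exact Over.w θ.hom.hom
  haveI : CompactSpace Y₀.left := QuasiCompact.compactSpace_of_compactSpace y₀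
  haveI : QuasiSeparatedSpace Y₀.left := quasiSeparatedSpace_of_quasiSeparated y₀
  haveI : CompactSpace V₀.left := QuasiCompact.compactSpace_of_compactSpace v₀
  haveI : QuasiSeparatedSpace V₀.left := quasiSeparatedSpace_of_quasiSeparated v₀
  have hXY : IsPullback (pullback.fst y₀ (c.π.app i₀)) (pullback.snd y₀ (c.π.app i₀)) y₀
      (c.π.app i₀) := IsPullback.of_hasPullback _ _
  have hXV : IsPullback (pullback.fst v₀ (c.π.app i₀)) (pullback.snd v₀ (c.π.app i₀)) v₀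
      (c.π.app i₀) := IsPullback.of_hasPullback _ _
  -- the two systems
  haveI hEaff : ∀ {j k : Over i₀} (g : j ⟶ k), IsAffineHom ((bcDiagram D i₀ y₀).map g) :=
    fun g => inferInstance
  haveI hFaff : ∀ {j k : Over i₀} (g : j ⟶ k), IsAffineHom ((bcDiagram D i₀ v₀).map g) :=
    fun g => inferInstance
  let a : pullback y₀ (c.π.app i₀) ⟶ V₀.left := θs.hom ≫ pullback.fst v₀ (c.π.app i₀)
  have ha : (bcCone c hXY).π ≫ bcDiagramBase D i₀ y₀ = (Functor.const _).map (a ≫ v₀) := by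
    ext j
    show (bcCone c hXY).π.app j ≫ pullback.fst y₀ (D.map j.hom) ≫ y₀ =
      (θs.hom ≫ pullback.fst v₀ (c.π.app i₀)) ≫ v₀
    rw [bcCone_π_fst_assoc]
    have e1 : (θs.hom ≫ pullback.fst v₀ (c.π.app i₀)) ≫ v₀ =
        pullback.snd y₀ (c.π.app i₀) ≫ c.π.app i₀ := by
      rw [Category.assoc, pullback.condition, ← Category.assoc, hθw]
    rw [e1]
    exact pullback.condition
  obtain ⟨j, g, hg1, hg2⟩ :=
    Scheme.exists_π_app_comp_eq_of_locallyOfFinitePresentation (bcDiagram D i₀ y₀)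
      (bcDiagramBase D i₀ y₀) v₀ (bcCone c hXY) (isLimitBcCone c hXY hc) a ha
  -- typed names for the projections
  obtain ⟨πY, hπY⟩ : ∃ πY : pullback y₀ (c.π.app i₀) ⟶ pullback y₀ (D.map j.hom),
    πY = (bcCone c hXY).π.app j := ⟨_, rfl⟩
  obtain ⟨πV, hπV⟩ : ∃ πV : pullback v₀ (c.π.app i₀) ⟶ pullback v₀ (D.map j.hom),
    πV = (bcCone c hXV).π.app j := ⟨_, rfl⟩
  have hπY1 : πY ≫ pullback.fst y₀ (D.map j.hom) = pullback.fst y₀ (c.π.app i₀) :=
    hπY ▸ bcCone_π_fst c hXY j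
  have hπY2 : πY ≫ pullback.snd y₀ (D.map j.hom) = pullback.snd y₀ (c.π.app i₀) ≫ c.π.app j.left :=
    hπY ▸ bcCone_π_snd c hXY j
  have hπV1 : πV ≫ pullback.fst v₀ (D.map j.hom) = pullback.fst v₀ (c.π.app i₀) :=
    hπV ▸ bcCone_π_fst c hXV j
  have hπV2 : πV ≫ pullback.snd v₀ (D.map j.hom) = pullback.snd v₀ (c.π.app i₀) ≫ c.π.app j.left :=
    hπV ▸ bcCone_π_snd c hXV j
  have hPY : IsPullback πY (pullback.snd y₀ (c.π.app i₀)) (pullback.snd y₀ (D.map j.hom))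
      (c.π.app j.left) := hπY ▸ isPullback_bcCone_π c hXY j
  have hPV : IsPullback πV (pullback.snd v₀ (c.π.app i₀)) (pullback.snd v₀ (D.map j.hom))
      (c.π.app j.left) := hπV ▸ isPullback_bcCone_π c hXV j
  obtain ⟨g', hg'⟩ : ∃ g' : pullback y₀ (D.map j.hom) ⟶ V₀.left, g' = g := ⟨_, rfl⟩
  have hg1' : πY ≫ g' = θs.hom ≫ pullback.fst v₀ (c.π.app i₀) := by
    rw [hπY, hg']; exact hg1
  have hg2' : g' ≫ v₀ = pullback.fst y₀ (D.map j.hom) ≫ y₀ := by
    rw [hg']; exact hg2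
  -- the morphism at stage `j`
  let ψ : pullback y₀ (D.map j.hom) ⟶ pullback v₀ (D.map j.hom) :=
    pullback.lift g' (pullback.snd y₀ (D.map j.hom)) (hg2'.trans pullback.condition)
  have hψ1 : ψ ≫ pullback.fst v₀ (D.map j.hom) = g' := pullback.lift_fst _ _ _
  have hψ2 : ψ ≫ pullback.snd v₀ (D.map j.hom) = pullback.snd y₀ (D.map j.hom) :=
    pullback.lift_snd _ _ _
  haveI : IsFinite (ψ ≫ pullback.snd v₀ (D.map j.hom)) := by rw [hψ2]; infer_instance
  haveI : Etale (ψ ≫ pullback.snd v₀ (D.map j.hom)) := by rw [hψ2]; infer_instance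
  haveI : IsFinite ψ := IsFinite.of_comp ψ (pullback.snd v₀ (D.map j.hom))
  haveI : Etale ψ := Etale.of_comp (f := ψ) (pullback.snd v₀ (D.map j.hom))
  -- the square over the limit
  have hcomm : θs.hom ≫ πV = πY ≫ ψ := by
    apply pullback.hom_ext
    · rw [Category.assoc, Category.assoc, hπV1, hψ1, hg1']
    · rw [Category.assoc, Category.assoc, hπV2, hψ2, hπY2, ← Category.assoc, hθw]
  have hsq : IsPullback θs.hom πY πV ψ := by
    refine IsPullback.of_right ?_ hcomm hPV.flip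
    rw [hθw, hψ2]
    exact hPY.flip
  have hiso : IsIso (pullback.snd ψ πV) := by
    rw [← hsq.flip.isoPullback_inv_snd]
    infer_instance
  haveI : ∀ k : Over i₀, CompactSpace ((bcDiagram D i₀ v₀).obj k) := fun k => inferInstance
  rw [hπV] at hiso
  have h1 : LocallyOfFinitePresentation ψ := inferInstance
  have h2 : QuasiCompact ψ := inferInstance
  have h3 : QuasiSeparated ψ := inferInstance
  obtain ⟨k, φ', hk⟩ := @exists_isIso_snd_of_compact _ _ _ (bcDiagram D i₀ v₀) (bcCone c hXV)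
    (isLimitBcCone c hXV hc) _ j _ _ ψ h1 h2 h3 hiso
  obtain ⟨EM, hEM⟩ : ∃ EM : pullback y₀ (D.map k.hom) ⟶ pullback y₀ (D.map j.hom),
    EM = (bcDiagram D i₀ y₀).map φ' := ⟨_, rfl⟩
  obtain ⟨FM, hFM⟩ : ∃ FM : pullback v₀ (D.map k.hom) ⟶ pullback v₀ (D.map j.hom),
    FM = (bcDiagram D i₀ v₀).map φ' := ⟨_, rfl⟩
  have hEM1 : EM ≫ pullback.fst y₀ (D.map j.hom) = pullback.fst y₀ (D.map k.hom) :=
    hEM ▸ bcDiagram_map_fst D i₀ y₀ φ'
  have hEM2 : EM ≫ pullback.snd y₀ (D.map j.hom) = pullback.snd y₀ (D.map k.hom) ≫ D.map φ'.left :=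
    hEM ▸ bcDiagram_map_snd D i₀ y₀ φ'
  have hFM1 : FM ≫ pullback.fst v₀ (D.map j.hom) = pullback.fst v₀ (D.map k.hom) :=
    hFM ▸ bcDiagram_map_fst D i₀ v₀ φ'
  have hFM2 : FM ≫ pullback.snd v₀ (D.map j.hom) = pullback.snd v₀ (D.map k.hom) ≫ D.map φ'.left :=
    hFM ▸ bcDiagram_map_snd D i₀ v₀ φ'
  have hPE : IsPullback EM (pullback.snd y₀ (D.map k.hom)) (pullback.snd y₀ (D.map j.hom))
      (D.map φ'.left) := hEM ▸ isPullback_map D i₀ y₀ φ'
  have hPF : IsPullback FM (pullback.snd v₀ (D.map k.hom)) (pullback.snd v₀ (D.map j.hom))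
      (D.map φ'.left) := hFM ▸ isPullback_map D i₀ v₀ φ'
  have hk' : IsIso (pullback.snd ψ FM) := by rw [hFM]; exact hk
  have hcomm_k : (EM ≫ g') ≫ v₀ = pullback.snd y₀ (D.map k.hom) ≫ D.map k.hom := by
    rw [Category.assoc, hg2', ← Category.assoc, hEM1, pullback.condition]
  let ψk : pullback y₀ (D.map k.hom) ⟶ pullback v₀ (D.map k.hom) :=
    pullback.lift (EM ≫ g') (pullback.snd y₀ (D.map k.hom)) hcomm_k
  have hψk1 : ψk ≫ pullback.fst v₀ (D.map k.hom) = EM ≫ g' := pullback.lift_fst _ _ _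
  have hψk2 : ψk ≫ pullback.snd v₀ (D.map k.hom) = pullback.snd y₀ (D.map k.hom) :=
    pullback.lift_snd _ _ _
  have hcomm' : ψk ≫ FM = EM ≫ ψ := by
    apply pullback.hom_ext
    · rw [Category.assoc, Category.assoc, hFM1, hψ1, hψk1]
    · rw [Category.assoc, Category.assoc, hFM2, hψ2, hEM2, ← Category.assoc, hψk2]
  have hsq' : IsPullback ψk EM FM ψ := by
    refine IsPullback.of_right ?_ hcomm' hPF.flip
    rw [hψk2, hψ2]
    exact hPE.flip
  haveI : IsIso ψk := by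
    rw [← hsq'.flip.isoPullback_hom_snd]
    infer_instance
  obtain ⟨e, he⟩ : ∃ e : pullback y₀ (D.map k.hom) ≅ pullback v₀ (D.map k.hom),
      e.hom ≫ pullback.snd v₀ (D.map k.hom) = pullback.snd y₀ (D.map k.hom) :=
    ⟨asIso ψk, hψk2⟩
  clear_value θs
  subst hy hv
  exact ⟨k.left, k.hom, ⟨MorphismProperty.Over.isoMk e he⟩⟩

end Groth.Agent.Lib.FEtSpreadH3
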