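import Mathlib
import Groth.Prelude.Def_FEt
import Groth.Agent.Lib.LimDescFP6_helper7
import Groth.Agent.Lib.FEtSpread2_helper3

/-!
# Spreading out an extension of a finite étale cover from a limit of opens (helper3)

* `restrictComp`: restriction along a composite.
* `exists_spread`: `X ⊇ W` quasi-compact open, `D` a cofiltered system of affine opens of `X` with
  limit `c.pt` (e.g. `Spec 𝒪_{X,x}`), `V'` finite étale over `W`, `Y` finite étale over `c.pt`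
  agreeing with `V'` over the preimage of `W`.  Then at some stage `D i` there is a finite étale `Yi`
  agreeing with `V'` over the preimage of `W` in `D i`.
-/

set_option autoImplicit false
set_option linter.all false
set_option maxHeartbeats 1600000
universe u
open CategoryTheory CategoryTheory.Limits AlgebraicGeometry
open Groth.Agent.Lib.LimDescFPH7

namespace Groth.Agent.Lib.FEtSpreadH3

/-- Restriction along a composite. -/
noncomputable def restrictComp {X Y Z : Scheme.{u}} (f : X ⟶ Y) (g : Y ⟶ Z) (h : X ⟶ Z)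
    (w : f ≫ g = h) (A : FEt.Cat Z) :
    (FEt.restrict f).obj ((FEt.restrict g).obj A) ≅ (FEt.restrict h).obj A := by
  have hpb : IsPullback (pullback.fst (pullback.snd A.hom g) f ≫ pullback.fst A.hom g)
      (pullback.snd (pullback.snd A.hom g) f) A.hom h := by
    rw [← w]
    exact (IsPullback.of_hasPullback (pullback.snd A.hom g) f).paste_horiz
      (IsPullback.of_hasPullback A.hom g)
  exact MorphismProperty.Over.isoMk hpb.isoPullback hpb.isoPullback_hom_snd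

/-- Restriction along the identity. -/
noncomputable def restrictId {X : Scheme.{u}} (f : X ⟶ X) (w : f = 𝟙 X) (A : FEt.Cat X) :
    (FEt.restrict f).obj A ≅ A := by
  have hpb : IsPullback (𝟙 A.left) A.hom A.hom f := by
    rw [w]
    exact IsPullback.of_id_fst
  exact MorphismProperty.Over.isoMk hpb.isoPullback.symm hpb.isoPullback_inv_snd

theorem exists_spread {I : Type u} [SmallCategory I] [IsCofiltered I]
    {X : Scheme.{u}} (D : I ⥤ Scheme.{u}) [∀ (i j : I) (f : i ⟶ j), IsAffineHom (D.map f)]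
    [∀ i, IsAffine (D.obj i)]
    (tX : D ⟶ (Functor.const I).obj X) [∀ i, IsOpenImmersion (tX.app i)]
    (c : Cone D) (hc : IsLimit c) (σ : c.pt ⟶ X) (hσ : ∀ i, c.π.app i ≫ tX.app i = σ)
    (W : X.Opens) [QuasiCompact W.ι]
    (V' : FEt.Cat (W : Scheme.{u})) (Y : FEt.Cat c.pt)
    (θ : (FEt.restrict (σ ⁻¹ᵁ W).ι).obj Y ≅ (FEt.restrict (σ ∣_ W)).obj V') :
    ∃ (i : I) (Yi : FEt.Cat (D.obj i)) (O : (D.obj i).Opens) (q₁ : (O : Scheme.{u}) ⟶ W),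
      O = tX.app i ⁻¹ᵁ W ∧ q₁ ≫ W.ι = O.ι ≫ tX.app i ∧
      Nonempty ((FEt.restrict q₁).obj V' ≅ (FEt.restrict O.ι).obj Yi) := by
  haveI hAff : ∀ {i j : I} (f : i ⟶ j), IsAffineHom (D.map f) := fun f => inferInstance
  obtain ⟨i₁, Y₁, ⟨e₁⟩⟩ := (main12073 D c hc).1 Y
  obtain rfl := hσ i₁
  -- the system of preimages of `W`
  let U₁ : (D.obj i₁).Opens := tX.app i₁ ⁻¹ᵁ W
  have hqc : ∀ {Z : Scheme.{u}} (f : Z ⟶ X), QuasiCompact (f ⁻¹ᵁ W).ι := fun f =>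
    MorphismProperty.of_isPullback (P := @QuasiCompact)
      (isPullback_morphismRestrict f W) inferInstance
  haveI hcpt : ∀ j : Over i₁, CompactSpace ((opensDiagram D i₁ U₁).obj j) := by
    intro j
    exact @QuasiCompact.compactSpace_of_compactSpace _ _
      (D.map j.hom ⁻¹ᵁ (tX.app i₁ ⁻¹ᵁ W)).ι (hqc (D.map j.hom ≫ tX.app i₁)) inferInstance
  haveI hqs : ∀ j : Over i₁, QuasiSeparatedSpace ((opensDiagram D i₁ U₁).obj j) := by
    intro j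
    exact (D.map j.hom ⁻¹ᵁ U₁).ι.isOpenEmbedding.quasiSeparatedSpace
  let i₀ : Over i₁ := Over.mk (𝟙 i₁)
  let O₀ : (D.obj i₁).Opens := D.map (𝟙 i₁) ⁻¹ᵁ U₁
  have hO₀ : O₀ = U₁ := by
    show D.map (𝟙 i₁) ⁻¹ᵁ U₁ = U₁
    rw [D.map_id]
    rfl
  have he₀ : O₀ ≤ tX.app i₁ ⁻¹ᵁ W := le_of_eq hO₀
  let r₀ : (O₀ : Scheme.{u}) ⟶ W := (tX.app i₁).resLE W O₀ he₀
  have hr₀ : r₀ ≫ W.ι = O₀.ι ≫ tX.app i₁ := Scheme.Hom.resLE_comp_ι _ _
  let Y₀ : FEt.Cat (O₀ : Scheme.{u}) := (FEt.restrict O₀.ι).obj Y₁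
  let V₀ : FEt.Cat (O₀ : Scheme.{u}) := (FEt.restrict r₀).obj V'
  let P : c.pt.Opens := c.π.app i₁ ⁻¹ᵁ U₁
  have hP : P ≤ c.π.app i₁ ⁻¹ᵁ O₀ := by rw [hO₀]
  let πE : (P : Scheme.{u}) ⟶ O₀ := (c.π.app i₁).resLE O₀ P hP
  have hπE : πE ≫ O₀.ι = P.ι ≫ c.π.app i₁ := Scheme.Hom.resLE_comp_ι _ _
  have hπE2 : πE ≫ r₀ = (c.π.app i₁ ≫ tX.app i₁) ∣_ W := by
    apply (cancel_mono W.ι).mp
    have e1 : (πE ≫ r₀) ≫ W.ι = P.ι ≫ c.π.app i₁ ≫ tX.app i₁ := by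
      rw [Category.assoc, hr₀, ← Category.assoc, hπE, Category.assoc]
    exact e1.trans (morphismRestrict_ι (c.π.app i₁ ≫ tX.app i₁) W).symm
  -- the isomorphism over the limit
  let θ₀ : (FEt.restrict πE).obj Y₀ ≅ (FEt.restrict πE).obj V₀ :=
    restrictComp πE O₀.ι (P.ι ≫ c.π.app i₁) hπE Y₁ ≪≫
      (restrictComp P.ι (c.π.app i₁) (P.ι ≫ c.π.app i₁) rfl Y₁).symm ≪≫
      (FEt.restrict P.ι).mapIso e₁ ≪≫ θ ≪≫
      (restrictComp πE r₀ ((c.π.app i₁ ≫ tX.app i₁) ∣_ W) hπE2 V').symm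
  obtain ⟨j, φ, ⟨ε⟩⟩ := exists_iso_stage (opensDiagram D i₁ U₁) (opensCone D c i₁ U₁)
    (isLimitOpensCone D c hc i₁ U₁) i₀ Y₀ V₀ θ₀
  have hφ : φ.left = j.hom := by
    have := Over.w φ
    simpa [i₀] using this
  let O : (D.obj j.left).Opens := D.map j.hom ⁻¹ᵁ U₁
  obtain ⟨Eφ, hEφ⟩ : ∃ Eφ : (O : Scheme.{u}) ⟶ O₀, Eφ = (opensDiagram D i₁ U₁).map φ := ⟨_, rfl⟩
  have hEφ1 : Eφ ≫ O₀.ι = O.ι ≫ D.map j.hom := by
    rw [hEφ, ← hφ]
    exact Scheme.Hom.resLE_comp_ι _ _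
  have hnat : D.map j.hom ≫ tX.app i₁ = tX.app j.left := by
    have := tX.naturality j.hom
    simpa using this
  refine ⟨j.left, (FEt.restrict (D.map j.hom)).obj Y₁, O, Eφ ≫ r₀, ?_, ?_, ⟨?_⟩⟩
  · show D.map j.hom ⁻¹ᵁ (tX.app i₁ ⁻¹ᵁ W) = tX.app j.left ⁻¹ᵁ W
    rw [← hnat]
    rfl
  · rw [Category.assoc, hr₀, ← Category.assoc, hEφ1, Category.assoc, hnat]
  · have ε' : (FEt.restrict Eφ).obj Y₀ ≅ (FEt.restrict Eφ).obj V₀ := by
      rw [hEφ]; exact ε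
    exact (restrictComp Eφ r₀ (Eφ ≫ r₀) rfl V').symm ≪≫ ε'.symm ≪≫
      restrictComp Eφ O₀.ι (O.ι ≫ D.map j.hom) hEφ1 Y₁ ≪≫
      (restrictComp O.ι (D.map j.hom) (O.ι ≫ D.map j.hom) rfl Y₁).symm

end Groth.Agent.Lib.FEtSpreadH3
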