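import Mathlib
import Groth.Prelude.Def_FEt
import Groth.Agent.Lib.LocAwayLim2_helper7
import Groth.Agent.Lib.FEtSpread1_helper3
import Groth.Agent.Lib.FEtSpread3_helper3

/-!
# Extending finite étale covers over points where purity holds (helper3)

* `exists_spread_stalk`: an extension over `Spec 𝒪_{X,x}` of (the restriction of) a finite étale cover
  of a quasi-compact open `W` spreads out to an open neighbourhood of `x`.
* `essSurj_restrict_of_purity`: `X` Noetherian, `U ⊆ X` open, purity holds at all points outside `U`;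
  then restriction of finite étale covers from `X` to `U` is essentially surjective.
-/

set_option autoImplicit false
set_option linter.all false
set_option maxHeartbeats 1600000
universe u
open CategoryTheory CategoryTheory.Limits AlgebraicGeometry
open Groth.Agent.Lib.LocAwayLimH7

namespace Groth.Agent.Lib.FEtSpreadH3

theorem exists_spread_stalk {X : Scheme.{u}} (x : X) (W : X.Opens) [QuasiCompact W.ι]
    (V' : FEt.Cat (W : Scheme.{u})) (Y : FEt.Cat (Spec (X.presheaf.stalk x)))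
    (θ : (FEt.restrict (X.fromSpecStalk x ⁻¹ᵁ W).ι).obj Y ≅
      (FEt.restrict (X.fromSpecStalk x ∣_ W)).obj V') :
    ∃ (N' : Scheme.{u}) (j₂ : N' ⟶ X) (_ : IsOpenImmersion j₂) (Y' : FEt.Cat N') (O : N'.Opens)
      (q₁ : (O : Scheme.{u}) ⟶ W), x ∈ Set.range j₂ ∧ O = j₂ ⁻¹ᵁ W ∧ q₁ ≫ W.ι = O.ι ≫ j₂ ∧
      Nonempty ((FEt.restrict q₁).obj V' ≅ (FEt.restrict O.ι).obj Y') := by
  obtain ⟨_, ⟨W₀, hW₀, rfl⟩, hxW₀, -⟩ := X.isBasis_affineOpens.exists_subset_of_mem_open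
    (Set.mem_univ x) isOpen_univ
  letI : Algebra ↑Γ(X, W₀) ↑(X.presheaf.stalk x) :=
    TopCat.Presheaf.algebra_section_stalk X.presheaf ⟨x, hxW₀⟩
  haveI : IsLocalization.AtPrime ↑(X.presheaf.stalk x) (hW₀.primeIdealOf ⟨x, hxW₀⟩).asIdeal :=
    hW₀.isLocalization_stalk ⟨x, hxW₀⟩
  have hσeq : Spec.map (CommRingCat.ofHom (algebraMap ↑Γ(X, W₀) ↑(X.presheaf.stalk x))) ≫
      hW₀.fromSpec = X.fromSpecStalk x := hW₀.fromSpecStalk_eq_fromSpecStalk hxW₀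
  have hx : x ∈ Set.range (Spec.map (CommRingCat.ofHom
      (algebraMap ↑Γ(X, W₀) ↑(X.presheaf.stalk x))) ≫ hW₀.fromSpec) := by
    rw [hσeq]
    exact ⟨IsLocalRing.closedPoint _, Scheme.fromSpecStalk_closedPoint⟩
  rw [← hσeq] at θ
  haveI : ∀ i, IsOpenImmersion ((toBase ↑Γ(X, W₀) (hW₀.primeIdealOf ⟨x, hxW₀⟩).asIdeal ≫
      (Functor.const _).map hW₀.fromSpec).app i) := fun i => by
    show IsOpenImmersion (Spec.map (CommRingCat.ofHom
      (algebraMap ↑Γ(X, W₀) (Localization.Away i.unop.val))) ≫ hW₀.fromSpec)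
    infer_instance
  obtain ⟨i, Yi, O, q₁, hO, hq₁, hiso⟩ := exists_spread
    (DS ↑Γ(X, W₀) (hW₀.primeIdealOf ⟨x, hxW₀⟩).asIdeal)
    (toBase ↑Γ(X, W₀) (hW₀.primeIdealOf ⟨x, hxW₀⟩).asIdeal ≫ (Functor.const _).map hW₀.fromSpec)
    (coneSL ↑Γ(X, W₀) (hW₀.primeIdealOf ⟨x, hxW₀⟩).asIdeal ↑(X.presheaf.stalk x))
    (isLimitConeSL ↑Γ(X, W₀) (hW₀.primeIdealOf ⟨x, hxW₀⟩).asIdeal ↑(X.presheaf.stalk x))
    (Spec.map (CommRingCat.ofHom (algebraMap ↑Γ(X, W₀) ↑(X.presheaf.stalk x))) ≫ hW₀.fromSpec)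
    (fun i => by
      show (coneSL _ _ _).π.app i ≫ (toBase _ _).app i ≫ hW₀.fromSpec = _
      rw [← Category.assoc, coneSL_π_toBase]
      rfl)
    W V' Y θ
  refine ⟨_, _, inferInstance, Yi, O, q₁, ?_, hO, hq₁, hiso⟩
  obtain ⟨z, hz⟩ := hx
  refine ⟨(coneSL ↑Γ(X, W₀) (hW₀.primeIdealOf ⟨x, hxW₀⟩).asIdeal ↑(X.presheaf.stalk x)).π.app i z, ?_⟩
  have hσi : (coneSL ↑Γ(X, W₀) (hW₀.primeIdealOf ⟨x, hxW₀⟩).asIdeal ↑(X.presheaf.stalk x)).π.app i ≫
      (toBase ↑Γ(X, W₀) (hW₀.primeIdealOf ⟨x, hxW₀⟩).asIdeal ≫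
        (Functor.const _).map hW₀.fromSpec).app i =
      Spec.map (CommRingCat.ofHom (algebraMap ↑Γ(X, W₀) ↑(X.presheaf.stalk x))) ≫ hW₀.fromSpec := by
    show (coneSL _ _ _).π.app i ≫ (toBase _ _).app i ≫ hW₀.fromSpec = _
    rw [← Category.assoc, coneSL_π_toBase]
    rfl
  refine Eq.trans ?_ hz
  rw [← hσi]
  rfl

theorem preimage_eq_puncturedSpec {X : Scheme.{u}} (x : X) (W : X.Opens) (hxW : x ∉ W)
    (hmax : ∀ y : X, y ∉ W → y ⤳ x → y = x) :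
    X.fromSpecStalk x ⁻¹ᵁ W = FEt.puncturedSpec ↑(X.presheaf.stalk x) := by
  ext q
  show X.fromSpecStalk x q ∈ W ↔ ¬ (q = IsLocalRing.closedPoint (X.presheaf.stalk x))
  constructor
  · intro hq hqc
    apply hxW
    rw [hqc, Scheme.fromSpecStalk_closedPoint] at hq
    exact hq
  · intro hq
    by_contra hqW
    apply hq
    have hsp : X.fromSpecStalk x q ⤳ x := by
      have : X.fromSpecStalk x q ∈ Set.range (X.fromSpecStalk x) := ⟨q, rfl⟩
      rw [Scheme.range_fromSpecStalk] at this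
      exact this
    have h1 := hmax _ hqW hsp
    apply (X.fromSpecStalk x).isEmbedding.injective
    rw [h1]
    exact Scheme.fromSpecStalk_closedPoint.symm

theorem essSurj_restrict_of_purity {X : Scheme.{u}} [IsNoetherian X] (U : X.Opens)
    (h : ∀ x : X, x ∉ U → FEt.PurityHolds (X.presheaf.stalk x)) :
    (FEt.restrict U.ι).EssSurj := by
  constructor
  intro V
  -- the opens to which `V` extends
  let 𝒮 : Set X.Opens := {W | ∃ (hUW : U ≤ W) (Z : FEt.Cat (W : Scheme.{u})),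
    Nonempty ((FEt.restrict (X.homOfLE hUW)).obj Z ≅ V)}
  have hne : 𝒮.Nonempty :=
    ⟨U, le_rfl, V, ⟨restrictId (X.homOfLE le_rfl) (X.homOfLE_rfl U) V⟩⟩
  haveI : TopologicalSpace.NoetherianSpace X := inferInstance
  have hwf : WellFounded ((· > ·) : X.Opens → X.Opens → Prop) :=
    (inferInstance : WellFoundedGT X.Opens).wf
  obtain ⟨W, ⟨hUW, Z, ⟨eZ⟩⟩, hWmax⟩ := hwf.has_min 𝒮 hne
  by_cases hW : W = ⊤
  · subst hW
    obtain ⟨z, hz⟩ : ∃ z : Z.left ⟶ ((⊤ : X.Opens) : Scheme.{u}), z = Z.hom := ⟨_, rfl⟩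
    have hzp : FEt.prop z := hz ▸ Z.prop
    haveI : IsIso (⊤ : X.Opens).ι := by
      rw [← Scheme.topIso_hom]; infer_instance
    have hzp' : FEt.prop (z ≫ (⊤ : X.Opens).ι) :=
      FEt.prop.comp_mem _ _ hzp ⟨inferInstance, inferInstance⟩
    have hB : IsPullback (X.homOfLE hUW) (𝟙 (U : Scheme.{u})) (⊤ : X.Opens).ι U.ι :=
      IsPullback.of_vert_isIso_mono ⟨by rw [X.homOfLE_ι, Category.id_comp]⟩
    have hA : IsPullback (pullback.fst z (X.homOfLE hUW)) (pullback.snd z (X.homOfLE hUW))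
        (z ≫ (⊤ : X.Opens).ι) U.ι := by
      have := (IsPullback.of_hasPullback z (X.homOfLE hUW)).paste_vert hB
      rwa [Category.comp_id] at this
    subst hz
    refine ⟨MorphismProperty.Over.mk ⊤ (Z.hom ≫ (⊤ : X.Opens).ι) hzp', ⟨?_ ≪≫ eZ⟩⟩
    exact MorphismProperty.Over.isoMk hA.isoPullback.symm hA.isoPullback_inv_snd
  · exfalso
    have hZne : ((W : Set X)ᶜ).Nonempty := by
      rw [Set.nonempty_compl]
      intro h'
      exact hW (TopologicalSpace.Opens.ext h')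
    obtain ⟨x, hxW, hmax⟩ := exists_max_point ((W : Set X)ᶜ) W.isOpen.isClosed_compl hZne
    have hxW' : x ∉ W := hxW
    have hxU : x ∉ U := fun hx => hxW' (hUW hx)
    have hP := preimage_eq_puncturedSpec x W hxW' (fun y hy hyx => hmax y hy hyx)
    have hpur : (FEt.restrict (X.fromSpecStalk x ⁻¹ᵁ W).ι).EssSurj := by
      rw [hP]; exact h x hxU
    obtain ⟨Y, ⟨θ⟩⟩ := hpur.mem_essImage ((FEt.restrict (X.fromSpecStalk x ∣_ W)).obj Z)
    obtain ⟨N', j₂, hj₂, Y', O, q₁, hxN, hO, hq₁, ⟨ε⟩⟩ := exists_spread_stalk x W Z Y θ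
    haveI := hj₂
    let W₂ : X.Opens := W ⊔ j₂.opensRange
    have hWW₂ : W ≤ W₂ := le_sup_left
    have hNW₂ : Set.range j₂ ⊆ Set.range W₂.ι := by
      rw [Scheme.Opens.range_ι]
      exact fun y hy => Or.inr hy
    let j₂' : N' ⟶ (W₂ : Scheme.{u}) := IsOpenImmersion.lift W₂.ι j₂ hNW₂
    have hj₂' : j₂' ≫ W₂.ι = j₂ := IsOpenImmersion.lift_fac _ _ _
    haveI : IsOpenImmersion j₂' := IsOpenImmersion.of_comp j₂' W₂.ι
    have hcov : ∀ y : (W₂ : Scheme.{u}), y ∈ Set.range (X.homOfLE hWW₂) ∨ y ∈ Set.range j₂' := by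
      intro y
      rcases y.2 with hy | ⟨n, hn⟩
      · refine Or.inl ⟨⟨y.1, hy⟩, W₂.ι.isOpenEmbedding.injective ?_⟩
        rw [← Scheme.Hom.comp_apply, X.homOfLE_ι]
        rfl
      · refine Or.inr ⟨n, W₂.ι.isOpenEmbedding.injective ?_⟩
        rw [← Scheme.Hom.comp_apply, hj₂']
        exact hn
    have hq : IsPullback q₁ O.ι (X.homOfLE hWW₂) j₂' := by
      refine IsOpenImmersion.isPullback _ _ _ _ ?_ ?_
      · apply (cancel_mono W₂.ι).mp
        rw [Category.assoc, hj₂', Category.assoc, X.homOfLE_ι, hq₁]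
      · rw [Scheme.opensRange_homOfLE, Scheme.Opens.opensRange_ι, ← Scheme.Hom.comp_preimage, hj₂', hO]
    obtain ⟨Z₂, ⟨e₂⟩⟩ := exists_glue_fet (X.homOfLE hWW₂) j₂' hcov q₁ O.ι hq Z Y' ε
    have hUW₂ : U ≤ W₂ := hUW.trans hWW₂
    have hmem : W₂ ∈ 𝒮 := ⟨hUW₂, Z₂,
      ⟨(restrictComp (X.homOfLE hUW) (X.homOfLE hWW₂) (X.homOfLE hUW₂)
        (X.homOfLE_homOfLE hUW hWW₂) Z₂).symm ≪≫ (FEt.restrict (X.homOfLE hUW)).mapIso e₂ ≪≫ eZ⟩⟩
    refine hWmax W₂ hmem (lt_of_le_of_ne hWW₂ ?_)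
    intro hEq
    apply hxW'
    rw [hEq]
    exact Or.inr hxN

end Groth.Agent.Lib.FEtSpreadH3
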