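import Mathlib

/-! For `R → S` formally étale and `J ⊆ S` with `R → S/J` surjective, `R/Iⁿ ≅ S/Jⁿ` where `I = J ∩ R`. -/

universe u

namespace Groth.Agent.Lib.FEtaleGr

theorem key (R : Type u) [CommRing R] (S : Type u) [CommRing S] [Algebra R S]
    [Algebra.FormallyEtale R S] (J : Ideal S)
    (hJ : Function.Surjective (algebraMap R (S ⧸ J))) (n : ℕ) :
    (∀ a : R, algebraMap R S a ∈ J ^ n → a ∈ (J.comap (algebraMap R S)) ^ n) ∧
      (∀ s : S, ∃ r : R, s - algebraMap R S r ∈ J ^ n) := by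
  obtain ⟨I, hI⟩ : ∃ I : Ideal R, I = J.comap (algebraMap R S) := ⟨_, rfl⟩
  rw [← hI]
  have hIJ : ∀ a ∈ I, algebraMap R S a ∈ J := by
    intro a ha; rw [hI] at ha; exact ha
  have hIJn : ∀ a ∈ I ^ n, algebraMap R S a ∈ J ^ n := by
    intro a ha
    have h1 : (I ^ n).map (algebraMap R S) ≤ J ^ n := by
      rw [Ideal.map_pow]
      exact Ideal.pow_right_mono (Ideal.map_le_iff_le_comap.2 (fun a ha => hIJ a ha)) n
    exact h1 (Ideal.mem_map_of_mem _ ha)
  -- for each s there is r with s - φ r ∈ J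
  have hJ' : ∀ s : S, ∃ r : R, s - algebraMap R S r ∈ J := by
    intro s
    obtain ⟨r, hr⟩ := hJ (Ideal.Quotient.mk J s)
    refine ⟨r, ?_⟩
    rw [← Ideal.Quotient.eq, ← hr]
    rfl
  -- the target ring Q = R / I^n with nilpotent ideal N = I Q
  let Q := R ⧸ I ^ n
  let N : Ideal Q := I.map (Ideal.Quotient.mk (I ^ n))
  have hN : IsNilpotent N := ⟨n, by
    change N ^ n = ⊥
    rw [← Ideal.map_pow, Ideal.map_quotient_self]⟩
  -- the map g : S → Q / N
  have hg : ∃ g : S →ₐ[R] Q ⧸ N, ∀ s : S, ∀ r : R, s - algebraMap R S r ∈ J →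
      g s = algebraMap R (Q ⧸ N) r := by
    -- define through S/J ≃ R/I
    let e₀ : R ⧸ I →ₐ[R] S ⧸ J :=
      Ideal.Quotient.liftₐ I (Algebra.ofId R (S ⧸ J)) (fun a ha => by
        change Ideal.Quotient.mk J (algebraMap R S a) = 0
        rw [Ideal.Quotient.eq_zero_iff_mem]
        exact hIJ a ha)
    have he₀ : Function.Bijective e₀ := by
      constructor
      · rw [injective_iff_map_eq_zero]
        intro x hx
        obtain ⟨a, rfl⟩ := Ideal.Quotient.mk_surjective x
        change Ideal.Quotient.mk J (algebraMap R S a) = 0 at hx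
        rw [Ideal.Quotient.eq_zero_iff_mem] at hx
        rw [Ideal.Quotient.eq_zero_iff_mem, hI]
        exact hx
      · intro y
        obtain ⟨r, hr⟩ := hJ y
        exact ⟨Ideal.Quotient.mk I r, hr⟩
    let e : (R ⧸ I) ≃ₐ[R] (S ⧸ J) := AlgEquiv.ofBijective e₀ he₀
    let t : R ⧸ I →ₐ[R] Q ⧸ N :=
      Ideal.Quotient.liftₐ I (Algebra.ofId R (Q ⧸ N)) (fun a ha => by
        change Ideal.Quotient.mk N (Ideal.Quotient.mk (I ^ n) a) = 0
        rw [Ideal.Quotient.eq_zero_iff_mem]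
        exact Ideal.mem_map_of_mem _ ha)
    refine ⟨t.comp ((e.symm : (S ⧸ J) →ₐ[R] (R ⧸ I)).comp (Ideal.Quotient.mkₐ R J)), ?_⟩
    intro s r hsr
    have h1 : Ideal.Quotient.mk J s = e (Ideal.Quotient.mk I r) := by
      change _ = Ideal.Quotient.mk J (algebraMap R S r)
      rw [Ideal.Quotient.eq]
      exact hsr
    change t (e.symm (Ideal.Quotient.mk J s)) = _
    rw [h1, AlgEquiv.symm_apply_apply]
    rfl
  obtain ⟨g, hg⟩ := hg
  obtain ⟨ψ, hψ⟩ := Algebra.FormallySmooth.exists_lift (R := R) (A := S) N hN g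
  have hψJ : ∀ j ∈ J, ψ j ∈ N := by
    intro j hj
    have h1 : Ideal.Quotient.mk N (ψ j) = g j := AlgHom.congr_fun hψ j
    have h2 : g j = algebraMap R (Q ⧸ N) 0 := hg j 0 (by rw [map_zero, sub_zero]; exact hj)
    rw [h2, map_zero, Ideal.Quotient.eq_zero_iff_mem] at h1
    exact h1
  have hψJn : ∀ j ∈ J ^ n, ψ j = 0 := by
    intro j hj
    have h1 : (J ^ n).map ψ ≤ N ^ n := by
      rw [Ideal.map_pow]
      exact Ideal.pow_right_mono
        (Ideal.map_le_iff_le_comap.2 (fun a ha => Ideal.mem_comap.2 (hψJ a ha))) n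
    have h2 : N ^ n = ⊥ := by rw [← Ideal.map_pow, Ideal.map_quotient_self]
    have h3 := h1 (Ideal.mem_map_of_mem _ hj)
    rw [h2] at h3
    exact h3
  refine ⟨?_, ?_⟩
  · intro a ha
    have h1 := hψJn _ ha
    rw [AlgHom.commutes] at h1
    exact Ideal.Quotient.eq_zero_iff_mem.1 h1
  · -- surjectivity via uniqueness of lifts
    let B := S ⧸ J ^ n
    let N' : Ideal B := J.map (Ideal.Quotient.mk (J ^ n))
    have hN' : IsNilpotent N' := ⟨n, by
      change N' ^ n = ⊥
      rw [← Ideal.map_pow, Ideal.map_quotient_self]⟩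
    let l : Q →ₐ[R] B := Ideal.Quotient.liftₐ (I ^ n) (Algebra.ofId R B) (fun a ha => by
      change Ideal.Quotient.mk (J ^ n) (algebraMap R S a) = 0
      rw [Ideal.Quotient.eq_zero_iff_mem]
      exact hIJn a ha)
    have hlN : ∀ q ∈ N, l q ∈ N' := by
      intro q hq
      have h1 : N ≤ N'.comap l := by
        change Ideal.map (Ideal.Quotient.mk (I ^ n)) I ≤ N'.comap l
        rw [Ideal.map_le_iff_le_comap]
        intro a ha
        change Ideal.Quotient.mk (J ^ n) (algebraMap R S a) ∈ N'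
        exact Ideal.mem_map_of_mem _ (hIJ a ha)
      exact h1 hq
    let g₁ : S →ₐ[R] B := Ideal.Quotient.mkₐ R (J ^ n)
    let g₂ : S →ₐ[R] B := l.comp ψ
    have h12 : g₁ = g₂ := by
      apply Algebra.FormallyUnramified.ext (R := R) (A := S) N' hN'
      intro s
      obtain ⟨r, hr⟩ := hJ' s
      have e1 : s = algebraMap R S r + (s - algebraMap R S r) := by ring
      rw [e1, map_add, map_add, map_add, map_add, AlgHom.commutes, AlgHom.commutes]
      congr 1
      have h1 : Ideal.Quotient.mk N' (g₁ (s - algebraMap R S r)) = 0 := by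
        rw [Ideal.Quotient.eq_zero_iff_mem]
        exact Ideal.mem_map_of_mem _ hr
      have h2 : Ideal.Quotient.mk N' (g₂ (s - algebraMap R S r)) = 0 := by
        rw [Ideal.Quotient.eq_zero_iff_mem]
        exact hlN _ (hψJ _ hr)
      rw [h1, h2]
    intro s
    obtain ⟨r, hr⟩ := Ideal.Quotient.mk_surjective (ψ s)
    refine ⟨r, ?_⟩
    rw [← Ideal.Quotient.eq]
    have h3 : g₁ s = g₂ s := by rw [h12]
    change Ideal.Quotient.mk (J ^ n) s = l (ψ s) at h3
    rw [h3, ← hr]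
    rfl

end Groth.Agent.Lib.FEtaleGr
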