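import Mathlib
import Groth.Prelude
import Groth.Agent.Lib.FF4_helper2
import Groth.Agent.Lib.FLF8_helper8

/-!
# Full faithfulness of completion on finite locally free modules (helper2)

`X` a Noetherian scheme over an arbitrary ring `A`, `I` an ideal.
* algebra: `Hom(P, Q)` is finite projective for `P`, `Q` finite projective; a map from a finite
  projective module with image in `K Q` lies in `K Hom(P, Q)`.
* `isFinLocFree_homSh` : the sheaf Hom of finite locally free modules is finite locally free.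
* `cQ` : `Hom(E, E')/I^{n+1} ⟶ Hom(E, E'/I^{n+1}E')`, an isomorphism for `E` finite locally free
  (`isIso_cQ`).
* `existsUnique_hom_of_compatible_flf`, `main0840` (S0840).
APPEND-ONLY once landed.
-/

set_option autoImplicit false
universe u
open CategoryTheory CategoryTheory.Limits AlgebraicGeometry TopologicalSpace Opposite
open HomLinH8 RefHullH8 QcqsLoc SecOrdH8 QCohExtn

namespace Groth.Agent.Lib.FFLFH2

open Formal Groth.Agent.Lib.FormalModPowH4 Groth.Agent.Lib.FormalFnH2 Groth.Agent.Lib.FibAmpH2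
  Groth.Agent.Lib.FlatBCH2 Groth.Agent.Lib.FibVanH2 Groth.Agent.Lib.FormalQuotH2
  Groth.Agent.Lib.FormalFFH2

section Alg

variable {R : Type u} [CommRing R]

theorem finite_projective_linearMap (P Q : Type u) [AddCommGroup P] [Module R P]
    [Module.Finite R P] [Module.Projective R P] [AddCommGroup Q] [Module R Q]
    [Module.Finite R Q] [Module.Projective R Q] :
    Module.Finite R (P →ₗ[R] Q) ∧ Module.Projective R (P →ₗ[R] Q) := by
  obtain ⟨k, s, i, -, -, hsi⟩ := Module.Finite.exists_comp_eq_id_of_projective R P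
  obtain ⟨l, t, j, -, -, htj⟩ := Module.Finite.exists_comp_eq_id_of_projective R Q
  let a : (P →ₗ[R] Q) →ₗ[R] ((Fin k → R) →ₗ[R] (Fin l → R)) :=
    { toFun := fun φ => j ∘ₗ φ ∘ₗ s
      map_add' := fun φ φ' => by
        apply LinearMap.ext; intro x
        simp only [LinearMap.comp_apply, LinearMap.add_apply, map_add]
      map_smul' := fun r φ => by
        apply LinearMap.ext; intro x
        simp only [LinearMap.comp_apply, LinearMap.smul_apply, map_smul, RingHom.id_apply] }
  let b : ((Fin k → R) →ₗ[R] (Fin l → R)) →ₗ[R] (P →ₗ[R] Q) :=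
    { toFun := fun ψ => t ∘ₗ ψ ∘ₗ i
      map_add' := fun φ φ' => by
        apply LinearMap.ext; intro x
        simp only [LinearMap.comp_apply, LinearMap.add_apply, map_add]
      map_smul' := fun r φ => by
        apply LinearMap.ext; intro x
        simp only [LinearMap.comp_apply, LinearMap.smul_apply, map_smul, RingHom.id_apply] }
  have hba : b ∘ₗ a = LinearMap.id := by
    apply LinearMap.ext; intro φ
    apply LinearMap.ext; intro p
    show t (j (φ (s (i p)))) = φ p
    have h1 : s (i p) = p := LinearMap.congr_fun hsi p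
    have h2 : t (j (φ p)) = φ p := LinearMap.congr_fun htj (φ p)
    rw [h1, h2]
  have hsurj : Function.Surjective b := fun φ => ⟨a φ, LinearMap.congr_fun hba φ⟩
  exact ⟨Module.Finite.of_surjective b hsurj, Module.Projective.of_split a b hba⟩

theorem mem_smul_top_pi' {N : Type u} [AddCommGroup N] [Module R N] {n : ℕ} (K : Ideal R)
    (x : Fin n → N) (hx : ∀ i, x i ∈ K • (⊤ : Submodule R N)) :
    x ∈ K • (⊤ : Submodule R (Fin n → N)) := by
  classical
  have h1 : x = ∑ i, Pi.single i (x i) := (Finset.univ_sum_single x).symm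
  rw [h1]
  refine Submodule.sum_mem _ (fun i _ => ?_)
  have h2 : Pi.single i (x i) ∈
      Submodule.map (LinearMap.single R (fun _ : Fin n => N) i) (K • (⊤ : Submodule R N)) :=
    ⟨x i, hx i, rfl⟩
  rw [Submodule.map_smul''] at h2
  exact Submodule.smul_mono le_rfl le_top h2

theorem map_mem_smul_top {M N : Type u} [AddCommGroup M] [Module R M] [AddCommGroup N]
    [Module R N] (K : Ideal R) (f : M →ₗ[R] N) {x : M} (hx : x ∈ K • (⊤ : Submodule R M)) :
    f x ∈ K • (⊤ : Submodule R N) := by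
  have h2 : f x ∈ Submodule.map f (K • (⊤ : Submodule R M)) := ⟨x, hx, rfl⟩
  rw [Submodule.map_smul''] at h2
  exact Submodule.smul_mono le_rfl le_top h2

/-- a homomorphism from a finite projective module with image in `K Q` lies in `K Hom(P, Q)` -/
theorem hom_mem_smul_top_of_projective (K : Ideal R) (P Q : Type u) [AddCommGroup P]
    [Module R P] [Module.Finite R P] [Module.Projective R P] [AddCommGroup Q] [Module R Q]
    (l : P →ₗ[R] Q) (h : ∀ m, l m ∈ K • (⊤ : Submodule R Q)) :
    l ∈ K • (⊤ : Submodule R (P →ₗ[R] Q)) := by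
  classical
  obtain ⟨k, s, i, -, -, hsi⟩ := Module.Finite.exists_comp_eq_id_of_projective R P
  let g : (Fin k → R) →ₗ[R] Q := l ∘ₗ s
  let e : (Fin k → Q) ≃ₗ[R] ((Fin k → R) →ₗ[R] Q) := (Pi.basisFun R (Fin k)).constr R
  let x : Fin k → Q := fun j => g (Pi.basisFun R (Fin k) j)
  have hex : e x = g := by
    apply (Pi.basisFun R (Fin k)).ext
    intro j
    exact (Pi.basisFun R (Fin k)).constr_basis R x j
  have hx : x ∈ K • (⊤ : Submodule R (Fin k → Q)) := mem_smul_top_pi' K x (fun j => h _)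
  have hg : g ∈ K • (⊤ : Submodule R ((Fin k → R) →ₗ[R] Q)) := by
    rw [← hex]
    exact map_mem_smul_top K e.toLinearMap hx
  have hl : l = LinearMap.lcomp R Q i g := by
    apply LinearMap.ext; intro p
    show l p = l (s (i p))
    have h1 : s (i p) = p := LinearMap.congr_fun hsi p
    rw [h1]
  rw [hl]
  exact map_mem_smul_top K (LinearMap.lcomp R Q i) hg

end Alg

section FLF

variable {X : Scheme.{u}}

/-- the sheaf Hom of two finite locally free modules is finite locally free -/
theorem isFinLocFree_homSh (E E' : X.Modules) (hE : FlatMod.IsFinLocFree E)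
    (hE' : FlatMod.IsFinLocFree E') : FlatMod.IsFinLocFree (RefHull.homSh E E') := by
  haveI : E.IsQuasicoherent := FLFH8.isQuasicoherent_of_finLocFree E hE
  haveI : E'.IsQuasicoherent := FLFH8.isQuasicoherent_of_finLocFree E' hE'
  haveI : SheafOfModules.IsFinitePresentation (R := X.ringCatSheaf) E :=
    FLFH8.isFinitePresentation_of_finLocFree E hE
  haveI : (RefHull.homSh E E').IsQuasicoherent := isQuasicoherent_homSh E E'
  apply FLFH8.finLocFree_of_fp_flat_sections
  intro U
  obtain ⟨h1, h2⟩ := FLFH8.fp_flat_sections_of_finLocFree E hE U.2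
  obtain ⟨h3, h4⟩ := FLFH8.fp_flat_sections_of_finLocFree E' hE' U.2
  haveI : Module.Projective Γ(X, U.1) Γ(E, U.1) := Module.Flat.projective_of_finitePresentation
  haveI : Module.Projective Γ(X, U.1) Γ(E', U.1) := Module.Flat.projective_of_finitePresentation
  obtain ⟨h5, h6⟩ := finite_projective_linearMap (R := Γ(X, U.1)) Γ(E, U.1) Γ(E', U.1)
  haveI : Module.Finite Γ(X, U.1) Γ(RefHull.homSh E E', U.1) :=
    Module.Finite.equiv (evEquiv E E' U.2).symm
  haveI : Module.Projective Γ(X, U.1) Γ(RefHull.homSh E E', U.1) :=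
    Module.Projective.of_equiv (evEquiv E E' U.2).symm
  exact ⟨Module.finitePresentation_of_projective _ _, inferInstance⟩

end FLF

section CQ

variable (A : Type u) [CommRing A] (I : Ideal A) {X : Scheme.{u}}
  [X.Over (Spec (CommRingCat.of A))] (M N : X.Modules)

/-- `Hom(M, N)/I^{n+1} ⟶ Hom(M, N/I^{n+1}N)` -/
noncomputable def cQ [M.IsQuasicoherent] (n : ℕ) :
    Formal.modPow I (n + 1) (RefHull.homSh M N) ⟶
      RefHull.homSh M (Formal.modPow I (n + 1) N) :=
  cokernel.desc _ (pP I M N n) (smulFamily_comp_eq_zero_of_killed _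
    (killedBy_homSh M (fun a ha => smulMod_modPow_eq_zero N I (n + 1) ha)))

theorem π_cQ [M.IsQuasicoherent] (n : ℕ) :
    Formal.modPowπ I (n + 1) (RefHull.homSh M N) ≫ cQ A I M N n = pP I M N n :=
  cokernel.π_desc _ _ _

theorem LE_cQ [M.IsQuasicoherent] {n m : ℕ} (h : n ≤ m) :
    Formal2.modPowLE I (Nat.succ_le_succ h) (RefHull.homSh M N) ≫ cQ A I M N n =
      cQ A I M N m ≫ tP I M N h := by
  rw [← cancel_epi (Formal.modPowπ I (m + 1) (RefHull.homSh M N)), ← Category.assoc,
    Formal2.modPowπ_modPowLE, π_cQ, ← Category.assoc, π_cQ, pP_tP]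

end CQ

section Iso

variable (A : Type u) [CommRing A] (I : Ideal A) {X : Scheme.{u}}
  [X.Over (Spec (CommRingCat.of A))] [AlgebraicGeometry.IsNoetherian X]
  (E E' : X.Modules) (hE : FlatMod.IsFinLocFree E) [E.IsQuasicoherent] [E'.IsQuasicoherent]

include hE in
theorem cQ_app_eq_zero (n : ℕ) {U : X.Opens} (hU : IsAffineOpen U)
    (y : Γ(Formal.modPow I (n + 1) (RefHull.homSh E E'), U))
    (hy : (cQ A I E E' n).app U y = 0) : y = 0 := by
  haveI : SheafOfModules.IsFinitePresentation (R := X.ringCatSheaf) E :=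
    FLFH8.isFinitePresentation_of_finLocFree E hE
  haveI : (RefHull.homSh E E').IsQuasicoherent := isQuasicoherent_homSh E E'
  obtain ⟨h1, h2⟩ := FLFH8.fp_flat_sections_of_finLocFree E hE hU
  haveI : Module.Projective Γ(X, U) Γ(E, U) := Module.Flat.projective_of_finitePresentation
  obtain ⟨l, rfl⟩ := QCohExact.app_surjective_of_epi
    (Formal.modPowπ I (n + 1) (RefHull.homSh E E')) hU y
  rw [← comp_app', π_cQ] at hy
  refine modPowπ_app_eq_zero_of_mem_JU A I _ (n + 1) U l ?_
  refine mem_smul_top_of_evEquiv E E' hU _ l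
    (hom_mem_smul_top_of_projective _ _ _ _ (fun m => ?_))
  rw [← modPowπ_app_eq_zero_iff A I E' (n + 1) hU, evEquiv_apply, ← evSec_pP, hy,
    evSec_zero_left]

include hE in
theorem cQ_app_surjective (n : ℕ) {U : X.Opens} (hU : IsAffineOpen U) :
    Function.Surjective ((cQ A I E E' n).app U) := by
  intro ψ
  haveI : SheafOfModules.IsFinitePresentation (R := X.ringCatSheaf) E :=
    FLFH8.isFinitePresentation_of_finLocFree E hE
  obtain ⟨h1, h2⟩ := FLFH8.fp_flat_sections_of_finLocFree E hE hU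
  haveI : Module.Projective Γ(X, U) Γ(E, U) := Module.Flat.projective_of_finitePresentation
  obtain ⟨φ, hφ⟩ := Module.projective_lifting_property
    (sl (Formal.modPowπ I (n + 1) E') U) (evEquiv E _ hU ψ) (sl_surjective_of_epi _ hU)
  refine ⟨(Formal.modPowπ I (n + 1) (RefHull.homSh E E')).app U ((evEquiv E E' hU).symm φ), ?_⟩
  rw [← comp_app', π_cQ]
  apply evLin_injective hU
  ext m
  rw [evLin_apply, evLin_apply, evSec_pP]
  have h3 : evSec ((evEquiv E E' hU).symm φ) m = φ m := by
    rw [← evEquiv_apply hU, LinearEquiv.apply_symm_apply]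
  rw [h3]
  exact LinearMap.congr_fun hφ m

include hE in
theorem isIso_cQ (n : ℕ) : IsIso (cQ A I E E' n) := by
  haveI : SheafOfModules.IsFinitePresentation (R := X.ringCatSheaf) E :=
    FLFH8.isFinitePresentation_of_finLocFree E hE
  haveI : (RefHull.homSh E E').IsQuasicoherent := isQuasicoherent_homSh E E'
  haveI : (RefHull.homSh E (Formal.modPow I (n + 1) E')).IsQuasicoherent :=
    isQuasicoherent_homSh E _
  haveI : (kernel (cQ A I E E' n)).IsQuasicoherent := SubExt.isQuasicoherent_kernel _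
  haveI : Mono (cQ A I E E' n) := by
    apply Preadditive.mono_of_kernel_zero
    refine hom_eq_zero_of_affine_cover _ {U | IsAffineOpen U} (fun U hU => hU) (fun x => ?_)
      (fun U hU y => ?_)
    · obtain ⟨_, ⟨V, rfl⟩, hxV, -⟩ := Opens.isBasis_iff_nbhd.mp (isBasis_affine (X := X))
        (show x ∈ (⊤ : X.Opens) from trivial)
      exact ⟨V.1, V.2, hxV⟩
    · apply cQ_app_eq_zero A I E E' hE n hU
      rw [← comp_app', kernel.condition, zero_app']
  haveI : Epi (cQ A I E E' n) :=
    epi_of_app_surjective_affine _ (fun U hU => cQ_app_surjective A I E E' hE n hU)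
  exact isIso_of_mono_of_epi _

end Iso

section Sections

variable (A : Type u) [CommRing A] (I : Ideal A) {X : Scheme.{u}}
  [X.Over (Spec (CommRingCat.of A))] (N : X.Modules)
  (hbij : Function.Bijective (Formal.toHHlim I N 0))

include hbij in
theorem exists_section_of_compatible' (z : ∀ n : ℕ, Γ(Formal.modPow I (n + 1) N, ⊤))
    (hz : ∀ n, (Formal.modPowTrans I (n + 1) N).app ⊤ (z (n + 1)) = z n) :
    ∃ w : Γ(N, ⊤), ∀ n, (Formal.modPowπ I (n + 1) N).app ⊤ w = z n := by
  let x : ∀ n, Formal.HHmodPow I N 0 n := fun n => (h0Add (Formal.modPow I (n + 1) N)).symm (z n)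
  have hx : ∀ n, Formal.HHmodPowTrans I N 0 n (x (n + 1)) = x n := by
    intro n
    show Groth.Agent.HHVan.hmap (Formal.modPowTrans I (n + 1) N) 0
      ((h0Add (Formal.modPow I (n + 1 + 1) N)).symm (z (n + 1))) =
        (h0Add (Formal.modPow I (n + 1) N)).symm (z n)
    rw [h0Add_symm_hmap, hz]
  obtain ⟨w, hw⟩ := hbij.2 (⟨x, hx⟩ : Formal.HHlim I N 0)
  refine ⟨h0Add N w, fun n => ?_⟩
  have h1 : Groth.Agent.HHVan.hmap (Formal.modPowπ I (n + 1) N) 0 w = x n :=
    congrArg (fun y : Formal.HHlim I N 0 => y.1 n) hw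
  rw [← h0Add_hmap, h1]
  exact (h0Add _).apply_symm_apply _

include hbij in
theorem section_eq_zero_of_forall' (w : Γ(N, ⊤))
    (hw : ∀ n, (Formal.modPowπ I (n + 1) N).app ⊤ w = 0) : w = 0 := by
  have h1 : Formal.toHHlim I N 0 ((h0Add N).symm w) = 0 := by
    apply Subtype.ext
    funext n
    show Groth.Agent.HHVan.hmap (Formal.modPowπ I (n + 1) N) 0 ((h0Add N).symm w) = 0
    rw [h0Add_symm_hmap, hw n, map_zero]
  have h2 : (h0Add N).symm w = 0 := hbij.1 (h1.trans (map_zero _).symm)
  have h3 := congrArg (h0Add N) h2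
  rwa [AddEquiv.apply_symm_apply, map_zero] at h3

end Sections

section Main

variable (A : Type u) [CommRing A] (I : Ideal A) (X : Scheme.{u})
  [X.Over (Spec (CommRingCat.of A))] [AlgebraicGeometry.IsNoetherian X]
  (E E' : X.Modules) (hE : FlatMod.IsFinLocFree E) [E.IsQuasicoherent] [E'.IsQuasicoherent]
  (hbij : Function.Bijective (Formal.toHHlim I (RefHull.homSh E E') 0))

include hE hbij in
/-- full faithfulness, in terms of compatible families -/
theorem existsUnique_hom_of_compatible_flf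
    (ψ : ∀ n : ℕ, E ⟶ Formal.modPow I (n + 1) E')
    (hψ : ∀ n, ψ (n + 1) ≫ Formal.modPowTrans I (n + 1) E' = ψ n) :
    ∃! φ : E ⟶ E', ∀ n, φ ≫ Formal.modPowπ I (n + 1) E' = ψ n := by
  haveI : ∀ n, IsIso (cQ A I E E' n) := fun n => isIso_cQ A I E E' hE n
  have hinj : ∀ n (y y' : Γ(Formal.modPow I (n + 1) (RefHull.homSh E E'), ⊤)),
      (cQ A I E E' n).app ⊤ y = (cQ A I E E' n).app ⊤ y' → y = y' := fun n y y' h =>
    sl_injective_of_mono (cQ A I E E' n) ⊤ h
  let Ψ : ∀ n, Γ(RefHull.homSh E (Formal.modPow I (n + 1) E'), ⊤) := fun n =>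
    RefHull.ofHom (ψ n) ⊤
  have hΨ : ∀ n, (tP I E E' (Nat.le_succ n)).app ⊤ (Ψ (n + 1)) = Ψ n := by
    intro n
    show (RefFun.homMap E _).app ⊤ (RefHull.ofHom (ψ (n + 1)) ⊤) = RefHull.ofHom (ψ n) ⊤
    rw [homMap_ofHom, ← modPowTrans_eq_modPowLE, hψ n]
  let y : ∀ n, Γ(Formal.modPow I (n + 1) (RefHull.homSh E E'), ⊤) := fun n =>
    (inv (cQ A I E E' n)).app ⊤ (Ψ n)
  have hy : ∀ n, (cQ A I E E' n).app ⊤ (y n) = Ψ n := by
    intro n
    show (cQ A I E E' n).app ⊤ ((inv (cQ A I E E' n)).app ⊤ (Ψ n)) = Ψ n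
    rw [← comp_app', IsIso.inv_hom_id]
    rfl
  have hyt : ∀ n, (Formal.modPowTrans I (n + 1) (RefHull.homSh E E')).app ⊤ (y (n + 1)) =
      y n := by
    intro n
    apply hinj n
    rw [modPowTrans_eq_modPowLE, ← comp_app']
    have h1 := LE_cQ A I E E' (Nat.le_succ n)
    rw [h1, comp_app', hy, hΨ, hy]
  refine existsUnique_of_exists_of_unique ?_ ?_
  · obtain ⟨s, hs⟩ := exists_section_of_compatible' A I _ hbij y hyt
    obtain ⟨φ, hφ⟩ := ofHom_surjective s
    refine ⟨φ, fun n => ?_⟩
    apply ofHom_injective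
    rw [← homMap_ofHom, hφ]
    show (pP I E E' n).app ⊤ s = Ψ n
    rw [← π_cQ A I E E' n, comp_app', hs n, hy]
  · intro φ φ' hφ hφ'
    apply ofHom_injective
    rw [← sub_eq_zero]
    apply section_eq_zero_of_forall' A I _ hbij
    intro n
    apply hinj n
    rw [← comp_app', π_cQ, app_sub', app_zero']
    show (RefFun.homMap E _).app ⊤ (RefHull.ofHom φ ⊤) -
      (RefFun.homMap E _).app ⊤ (RefHull.ofHom φ' ⊤) = 0
    rw [homMap_ofHom, homMap_ofHom, hφ n, hφ' n, sub_self]

/-- **S0840** -/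
theorem main0840 (A : Type u) [CommRing A] (I : Ideal A) (X : Scheme.{u})
    [X.Over (Spec (CommRingCat.of A))] [AlgebraicGeometry.IsNoetherian X]
    (h : ∀ E : X.Modules, FlatMod.IsFinLocFree E → Function.Bijective (Formal.toHHlim I E 0))
    (E E' : X.Modules) (hE : FlatMod.IsFinLocFree E) (hE' : FlatMod.IsFinLocFree E')
    (τ : Formal.completion I E ⟶ Formal.completion I E') :
    ∃! φ : E ⟶ E', ∀ n : ℕ,
      Formal.modPowπ I (n + 1) E ≫ τ.app (op n) = φ ≫ Formal.modPowπ I (n + 1) E' := by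
  haveI : E.IsQuasicoherent := FLFH8.isQuasicoherent_of_finLocFree E hE
  haveI : E'.IsQuasicoherent := FLFH8.isQuasicoherent_of_finLocFree E' hE'
  have hbij := h _ (isFinLocFree_homSh E E' hE hE')
  have hmapN : ∀ n, (Formal.completion I E').map (homOfLE (Nat.le_succ n)).op =
      Formal.modPowTrans I (n + 1) E' := by
    intro n
    unfold Formal.completion
    exact Functor.ofOpSequence_map_homOfLE_succ _ n
  have hmapM : ∀ n, (Formal.completion I E).map (homOfLE (Nat.le_succ n)).op =
      Formal.modPowTrans I (n + 1) E := by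
    intro n
    unfold Formal.completion
    exact Functor.ofOpSequence_map_homOfLE_succ _ n
  obtain ⟨τn, hτn⟩ : ∃ τn : ∀ n, Formal.modPow I (n + 1) E ⟶ Formal.modPow I (n + 1) E',
      ∀ n, τn n = τ.app (op n) := ⟨fun n => τ.app (op n), fun n => rfl⟩
  have hnat : ∀ n, Formal.modPowTrans I (n + 1) E ≫ τn n =
      τn (n + 1) ≫ Formal.modPowTrans I (n + 1) E' := by
    intro n
    have h1 := τ.naturality (homOfLE (Nat.le_succ n)).op
    rw [hmapN, hmapM] at h1
    rw [hτn n, hτn (n + 1)]
    exact h1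
  obtain ⟨φ, hφ, huniq⟩ := existsUnique_hom_of_compatible_flf A I X E E' hE hbij
    (fun n => Formal.modPowπ I (n + 1) E ≫ τn n) (fun n => by
      rw [Category.assoc, ← hnat n, ← Category.assoc, Formal.modPowπ_trans])
  refine ⟨φ, fun n => ?_, fun φ' hφ' => huniq φ' (fun n => ?_)⟩
  · rw [← hτn n]
    exact (hφ n).symm
  · have h2 := hφ' n
    rw [← hτn n] at h2
    exact h2.symm

end Main

end Groth.Agent.Lib.FFLFH2
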