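import Mathlib
import Groth.Prelude
import Groth.Agent.Lib.FormalFn4_helper2
import Groth.Agent.Lib.ClPush2_helper8
import Groth.Agent.Lib.SuppTens2_helper8
import Groth.Agent.Lib.PushEdgeNat_helper9

/-!
# The theorem on formal functions for modules with proper support (helper2)

APPEND-ONLY once landed.
-/

set_option autoImplicit false
universe u

open CategoryTheory CategoryTheory.Limits AlgebraicGeometry TopologicalSpace Opposite

namespace Groth.Agent.Lib.FormalFnH2

open Formal Groth.Agent.Lib.FormalModPowH4 Groth.Agent.HHVan Groth.Agent.ProjFin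

section FS

/-- finiteness of cohomology for coherent modules with proper support -/
theorem finite_HH_of_properSupport (B : Type u) [CommRing B] [IsNoetherianRing B]
    (Y : Scheme.{u}) [Y.Over (Spec (CommRingCat.of B))]
    [LocallyOfFiniteType (Y ↘ Spec (CommRingCat.of B))] (N : Y.Modules) (hN : Coh.IsCoh N)
    (hs : ClSub.IsProperOver (Y ↘ Spec (CommRingCat.of B)) (CohB1.support N)) (p : ℕ) :
    Module.Finite B (Coh.HH Y N p) := by
  haveI : N.IsQuasicoherent := hN.1
  obtain ⟨Z, i, hi, hp, G, hGq, hGft, ⟨e⟩⟩ :=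
    (ClPushH8.isProperOver_support_iff (Y ↘ Spec (CommRingCat.of B)) N hN.2).mp hs
  letI : Z.Over (Spec (CommRingCat.of B)) := ⟨i ≫ (Y ↘ Spec (CommRingCat.of B))⟩
  haveI : IsProper (Z ↘ Spec (CommRingCat.of B)) := hp
  haveI : G.IsQuasicoherent := hGq
  haveI := ProperFinH9.finite_HH_of_proper B Z G ⟨hGq, hGft⟩ p
  have hf : i ≫ (Y ↘ Spec (CommRingCat.of B)) = (Z ↘ Spec (CommRingCat.of B)) := rfl
  let E1 := Groth.Agent.PushEdgeNat.pushEdgeEquiv i hf G p
  have hbij : Function.Bijective (Canon.HHlin B e.hom p) := by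
    refine Function.bijective_iff_has_inverse.mpr ⟨Canon.HHlin B e.inv p, fun x => ?_, fun x => ?_⟩
    · rw [HHlin_comp, e.hom_inv_id, HHlin_id]
    · rw [HHlin_comp, e.inv_hom_id, HHlin_id]
  let E2 := LinearEquiv.ofBijective (Canon.HHlin B e.hom p) hbij
  exact Module.Finite.equiv (E1.symm.trans E2)

end FS

section GenHyp

variable (A : Type u) [CommRing A] (I : Ideal A) {X : Scheme.{u}}
  [X.Over (Spec (CommRingCat.of A))] (F : X.Modules)
  {σ : Type u} [Fintype σ] (a : σ → A) (ha : ∀ i, a i ∈ I)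

/-- the generation property of the graded modules `⊕ H^p(X, I^n F)` -/
def GenProp : Prop :=
  ∀ (p : ℕ) (Q : ∀ n, Submodule A (Coh.HH X (pw I F n) p)),
    (∀ i n y, y ∈ Q n → Canon.HHlin A (pwMul I F (a i) (ha i) n) p y ∈ Q (n + 1)) →
    ∃ d, ∀ n, d ≤ n → ∀ y ∈ Q (n + 1), ∃ f : σ → Coh.HH X (pw I F n) p,
      (∀ i, f i ∈ Q n) ∧ y = ∑ i, Canon.HHlin A (pwMul I F (a i) (ha i) n) p (f i)

variable {A I F a ha} (hgen : GenProp A I F a ha) (p : ℕ)

include hgen

theorem gen_top' : ∃ d, ∀ n, d ≤ n → ∀ y : Coh.HH X (pw I F (n + 1)) p,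
    ∃ f : σ → Coh.HH X (pw I F n) p,
      y = ∑ i, Canon.HHlin A (pwMul I F (a i) (ha i) n) p (f i) := by
  obtain ⟨d, hd⟩ := hgen p (fun _ => ⊤) (fun _ _ _ _ => Submodule.mem_top)
  refine ⟨d, fun n hn y => ?_⟩
  obtain ⟨f, -, hf⟩ := hd n hn y Submodule.mem_top
  exact ⟨f, hf⟩

theorem inc_zero' : ∃ d, ∀ n k (h : n ≤ k), n + 2 * d ≤ k →
    ∀ y ∈ LinearMap.ker (Canon.HHlin A (pwι I F k) p), Canon.HHlin A (pwInc I F h) p y = 0 := by
  obtain ⟨d, hd⟩ := hgen p
    (fun n => LinearMap.ker (Canon.HHlin A (pwι I F n) p)) (fun i n y hy => by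
      rw [LinearMap.mem_ker] at hy ⊢
      rw [ι_mul, hy, smul_zero])
  refine ⟨d, ?_⟩
  exact inc_eq_zero (K := fun n => Coh.HH X (pw I F n) p) I a ha
    (fun i n => Canon.HHlin A (pwMul I F (a i) (ha i) n) p)
    (fun {n k} h => Canon.HHlin A (pwInc I F h) p)
    (fun n y => inc_refl' A I F p n y) (fun h₁ h₂ y => inc_trans' A I F p h₁ h₂ y)
    (fun i n y => inc_mul A I F p (a i) (ha i) n y)
    (fun n => LinearMap.ker (Canon.HHlin A (pwι I F n) p))
    (fun n b hb y hy => smul_eq_zero_of_mem_ker A I F p n b hb y hy) d hd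

theorem exists_ker_le' : ∃ c, ∀ n, c ≤ n → ∀ x : Coh.HH X F p,
    Formal.toHHmodPow I F p n x = 0 →
      x ∈ (I ^ (n - c) • ⊤ : Submodule A (Coh.HH X F p)) := by
  obtain ⟨d, hd⟩ := gen_top' hgen p
  have hr := range_le_of_gen (K := fun n => Coh.HH X (pw I F n) p) I a ha
    (fun n => Canon.HHlin A (pwι I F n) p)
    (fun i n => Canon.HHlin A (pwMul I F (a i) (ha i) n) p)
    (fun i n y => ι_mul A I F p (a i) (ha i) n y) d hd
  refine ⟨d, fun n hn x hx => ?_⟩
  rw [toHHmodPow_eq_zero_iff A] at hx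
  have h1 := hr (n + 1) (hn.trans (Nat.le_succ n)) hx
  exact Submodule.smul_mono_left (Ideal.pow_le_pow_right (by omega)) h1

theorem exists_range_le' : ∃ c, ∀ n k (h : n ≤ k), n + c ≤ k →
    ∀ z : Coh.HH X (Formal.modPow I (k + 1) F) p, ∃ x,
      Formal.toHHmodPow I F p n x =
        Canon.HHlin A (Formal2.modPowLE I (Nat.succ_le_succ h) F) p z := by
  obtain ⟨d, hd⟩ := inc_zero' hgen (p + 1)
  refine ⟨2 * d, fun n k h hk z => ?_⟩
  have hnat := δlin_naturality A (pwSC_shortExact I F (k + 1)) (pwSC_shortExact I F (n + 1))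
    (pwSCMap I F (Nat.succ_le_succ h)) p z
  have hr := Groth.Agent.LESLin.range_δlin A (pwSC I F (k + 1)) (pwSC_shortExact I F (k + 1)) p
  have h1 : δlin A (pwSC I F (k + 1)) (pwSC_shortExact I F (k + 1)) p z ∈
      LinearMap.ker (Canon.HHlin A (pwι I F (k + 1)) (p + 1)) := by
    show _ ∈ LinearMap.ker (Canon.HHlin A (pwSC I F (k + 1)).f (p + 1))
    rw [← hr]
    exact ⟨z, rfl⟩
  have h2 := hd (n + 1) (k + 1) (Nat.succ_le_succ h) (by omega) _ h1
  have h3 : δlin A (pwSC I F (n + 1)) (pwSC_shortExact I F (n + 1)) p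
      (Canon.HHlin A (Formal2.modPowLE I (Nat.succ_le_succ h) F) p z) = 0 :=
    hnat.trans h2
  have hg := range_HHlin_g A (pwSC I F (n + 1)) (pwSC_shortExact I F (n + 1)) p
  have h4 : Canon.HHlin A (Formal2.modPowLE I (Nat.succ_le_succ h) F) p z ∈
      LinearMap.range (Canon.HHlin A (pwSC I F (n + 1)).g p) := by
    rw [hg]
    exact LinearMap.mem_ker.mpr h3
  obtain ⟨x, hx⟩ := h4
  exact ⟨x, hx⟩

theorem exists_ML' : ∀ x ∈ Formal.HHlim I F p, ∀ n, ∃ h, Formal.toHHmodPow I F p n h = x n := by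
  obtain ⟨c, hc⟩ := exists_range_le' hgen p
  intro x hx n
  have hcompat : ∀ k (h : n ≤ k),
      Canon.HHlin A (Formal2.modPowLE I (Nat.succ_le_succ h) F) p (x k) = x n := by
    intro k h
    induction k, h using Nat.le_induction with
    | base =>
      have h0 : Formal2.modPowLE I (Nat.succ_le_succ (le_refl n)) F = 𝟙 _ :=
        modPowLE_refl A I F (n + 1)
      rw [h0]
      exact HHlin_id A p (x n)
    | succ k hk ih =>
      have h1 : Formal.HHmodPowTrans I F p k (x (k + 1)) = x k := hx k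
      rw [← ih, ← h1]
      show hmap (Formal2.modPowLE I _ F) p (x (k + 1)) =
        hmap (Formal2.modPowLE I _ F) p (hmap (Formal.modPowTrans I (k + 1) F) p (x (k + 1)))
      rw [← hmap_comp, modPowTrans_modPowLE A]
  obtain ⟨h, hh⟩ := hc n (n + c) (Nat.le_add_right n c) le_rfl (x (n + c))
  exact ⟨h, hh.trans (hcompat (n + c) (Nat.le_add_right n c))⟩

theorem nonempty_completion_of_genProp :
    Nonempty (AdicCompletion I (Coh.HH X F p) ≃+ Formal.HHlim I F p) := by
  obtain ⟨c, hker⟩ := exists_ker_le' hgen p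
  have hML := exists_ML' hgen p
  exact nonempty_completion_addEquiv (M := fun n => Formal.HHmodPow I F p n) I
    (fun n => Formal.toHHmodPow I F p n) (fun n => Formal.HHmodPowTrans I F p n)
    (fun n h => hτt A I F p n h) (fun n h hh => hkill A I F p n h hh) c hker
    (Formal.HHlim I F p) (fun x => Iff.rfl) hML

theorem bijective_toHHlim_of_genProp [IsAdicComplete I (Coh.HH X F p)] :
    Function.Bijective (Formal.toHHlim I F p) := by
  obtain ⟨c, hker⟩ := exists_ker_le' hgen p
  have hML := exists_ML' hgen p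
  exact bijective_toLim (M := fun n => Formal.HHmodPow I F p n) I
    (fun n => Formal.toHHmodPow I F p n) (fun n => Formal.HHmodPowTrans I F p n)
    (fun n h => hτt A I F p n h) (fun n h hh => hkill A I F p n h hh) c hker
    (Formal.HHlim I F p) (fun x => Iff.rfl) hML (Formal.toHHlim I F p) (fun h n => rfl)

end GenHyp

section GenOfFinite

variable (A : Type u) [CommRing A] [IsNoetherianRing A] (I : Ideal A) (X : Scheme.{u})
  [X.Over (Spec (CommRingCat.of A))] (F : X.Modules) [F.IsQuasicoherent]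
  (σ : Type u) [Fintype σ] (a : σ → A) (ha : ∀ i, a i ∈ I)

/-- generation in bounded degrees from finiteness of the cohomology of `Gt` -/
theorem genProp_of_finite
    (hfin : ∀ p, Module.Finite (MvPolynomial σ A)
      (Coh.HH (XP A X σ) (Gt A σ (GG I F) (TT I F a ha)) p)) :
    GenProp A I F a ha := by
  intro p Q hQ
  haveI := hfin p
  haveI : IsNoetherian (MvPolynomial σ A)
      (Coh.HH (XP A X σ) (Gt A σ (GG I F) (TT I F a ha)) p) :=
    isNoetherian_of_isNoetherianRing_of_finite _ _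
  haveI : IsIso (uu A σ (GG I F) (TT I F a ha)) :=
    isIso_uu A σ (GG I F) (TT I F a ha) (TT_comm I F a ha)
  obtain ⟨e, he⟩ : ∃ e : Coh.HH (XP A X σ) (Gt A σ (GG I F) (TT I F a ha)) p ≃+
      Coh.HH X ((Scheme.Modules.pushforward (rho A X σ)).obj (Gt A σ (GG I F) (TT I F a ha))) p,
      ∀ (θ : Gt A σ (GG I F) (TT I F a ha) ⟶ Gt A σ (GG I F) (TT I F a ha))
        (z : Coh.HH (XP A X σ) (Gt A σ (GG I F) (TT I F a ha)) p),
        e (hmap θ p z) = hmap ((Scheme.Modules.pushforward (rho A X σ)).map θ) p (e z) := by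
    obtain ⟨e, he⟩ := exists_H_addEquiv_push_nat (rho A X σ).base
      (Coh.toAb (Gt A σ (GG I F) (TT I F a ha)))
      (fun q => RpushVanish.isZero_RpushAb_of_isAffineHom (rho A X σ)
        (Gt A σ (GG I F) (TT I F a ha)) q) p
    exact ⟨e, fun θ z => he _ z⟩
  let J : ∀ n, Coh.HH X (pw I F n) p →+ Coh.HH (XP A X σ) (Gt A σ (GG I F) (TT I F a ha)) p :=
    fun n => (AddEquiv.toAddMonoidHom e.symm).comp
      (hmap (jj I F n ≫ uu A σ (GG I F) (TT I F a ha)) p)
  let Pr : ∀ n, Coh.HH (XP A X σ) (Gt A σ (GG I F) (TT I F a ha)) p →+ Coh.HH X (pw I F n) p :=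
    fun n => (hmap (inv (uu A σ (GG I F) (TT I F a ha)) ≫ prr I F n) p).comp
      (AddEquiv.toAddMonoidHom e)
  have hPJ : ∀ n y, Pr n (J n y) = y := by
    intro n y
    show hmap (inv (uu A σ (GG I F) (TT I F a ha)) ≫ prr I F n) p
      (e (e.symm (hmap (jj I F n ≫ uu A σ (GG I F) (TT I F a ha)) p y))) = y
    rw [AddEquiv.apply_symm_apply, ← hmap_comp]
    have h1 : (jj I F n ≫ uu A σ (GG I F) (TT I F a ha)) ≫
        inv (uu A σ (GG I F) (TT I F a ha)) ≫ prr I F n = 𝟙 _ := by
      rw [Category.assoc, IsIso.hom_inv_id_assoc, jj_prr]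
    rw [h1, hmap_id]
  have hPJ' : ∀ n m, n ≠ m → ∀ y, Pr m (J n y) = 0 := by
    intro n m hnm y
    show hmap (inv (uu A σ (GG I F) (TT I F a ha)) ≫ prr I F m) p
      (e (e.symm (hmap (jj I F n ≫ uu A σ (GG I F) (TT I F a ha)) p y))) = 0
    rw [AddEquiv.apply_symm_apply, ← hmap_comp]
    have h1 : (jj I F n ≫ uu A σ (GG I F) (TT I F a ha)) ≫
        inv (uu A σ (GG I F) (TT I F a ha)) ≫ prr I F m = 0 := by
      rw [Category.assoc, IsIso.hom_inv_id_assoc, jj_prr_of_ne I F hnm]
    rw [h1, hmap_zero]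
  have hX : ∀ i n y, (MvPolynomial.X i : MvPolynomial σ A) • J n y =
      J (n + 1) (Canon.HHlin A (pwMul I F (a i) (ha i) n) p y) := by
    intro i n y
    apply e.injective
    show e ((MvPolynomial.X i : MvPolynomial σ A) •
        e.symm (hmap (jj I F n ≫ uu A σ (GG I F) (TT I F a ha)) p y)) =
      e (e.symm (hmap (jj I F (n + 1) ≫ uu A σ (GG I F) (TT I F a ha)) p
        (hmap (pwMul I F (a i) (ha i) n) p y)))
    rw [smul_eq_hmap, he, AddEquiv.apply_symm_apply, AddEquiv.apply_symm_apply, ← hmap_comp,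
      ← hmap_comp]
    have h1 : (jj I F n ≫ uu A σ (GG I F) (TT I F a ha)) ≫
        (Scheme.Modules.pushforward (rho A X σ)).map
          (Formal.smulMod (MvPolynomial σ A) (Gt A σ (GG I F) (TT I F a ha))
            (MvPolynomial.X i)) =
        pwMul I F (a i) (ha i) n ≫ jj I F (n + 1) ≫ uu A σ (GG I F) (TT I F a ha) := by
      rw [Category.assoc, ← T_uu, ← Category.assoc, jj_TT, Category.assoc]
    rw [h1]
  have hC : ∀ (b : A) n y, (MvPolynomial.C b : MvPolynomial σ A) • J n y = J n (b • y) := by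
    intro b n y
    apply e.injective
    show e ((MvPolynomial.C b : MvPolynomial σ A) •
        e.symm (hmap (jj I F n ≫ uu A σ (GG I F) (TT I F a ha)) p y)) =
      e (e.symm (hmap (jj I F n ≫ uu A σ (GG I F) (TT I F a ha)) p (b • y)))
    rw [smul_eq_hmap, he, AddEquiv.apply_symm_apply, AddEquiv.apply_symm_apply,
      smul_eq_hmap (B := A), ← hmap_comp, ← hmap_comp]
    have h1 : (jj I F n ≫ uu A σ (GG I F) (TT I F a ha)) ≫
        (Scheme.Modules.pushforward (rho A X σ)).map
          (Formal.smulMod (MvPolynomial σ A) (Gt A σ (GG I F) (TT I F a ha))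
            (MvPolynomial.C b)) =
        Formal.smulMod A (pw I F n) b ≫ jj I F n ≫ uu A σ (GG I F) (TT I F a ha) := by
      rw [Category.assoc, ← smul_uu, ← Category.assoc, ← smulMod_naturality, Category.assoc]
    rw [h1]
  exact exists_gen (K := fun n => Coh.HH X (pw I F n) p)
    (μ := fun i n => Canon.HHlin A (pwMul I F (a i) (ha i) n) p) (Q := Q) J Pr hPJ hPJ' hX hC hQ

end GenOfFinite

section PS

variable (A : Type u) [CommRing A] [IsNoetherianRing A] (I : Ideal A) (X : Scheme.{u})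
  [X.Over (Spec (CommRingCat.of A))] [LocallyOfFiniteType (X ↘ Spec (CommRingCat.of A))]
  (F : X.Modules) (hF : Coh.IsCoh F)
  (hs : ClSub.IsProperOver (X ↘ Spec (CommRingCat.of A)) (CohB1.support F))
  (σ : Type u) [Fintype σ] (a : σ → A) (ha : ∀ i, a i ∈ I)
  (hspan : Ideal.span (Set.range a) = I)

instance locallyOfFiniteType_XP :
    LocallyOfFiniteType (XP A X σ ↘ Spec (CommRingCat.of (MvPolynomial σ A))) :=
  inferInstanceAs (LocallyOfFiniteType (pullback.snd (X ↘ Spec (CommRingCat.of A)) (gC A σ)))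

include hF hs hspan in
theorem isProperOver_support_Gt :
    ClSub.IsProperOver (XP A X σ ↘ Spec (CommRingCat.of (MvPolynomial σ A)))
      (CohB1.support (Gt A σ (GG I F) (TT I F a ha))) := by
  haveI : IsLocallyNoetherian X :=
    LocallyOfFiniteType.isLocallyNoetherian (X ↘ Spec (CommRingCat.of A))
  haveI : F.IsQuasicoherent := hF.1
  have h0 : Coh.IsCoh (pw I F 0) := isCoh_pw I F hF 0
  haveI : (pw I F 0).IsQuasicoherent := h0.1
  haveI : SheafOfModules.IsFiniteType (R := X.ringCatSheaf) (pw I F 0) := h0.2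
  have hsupp0 : CohB1.support (pw I F 0) ⊆ CohB1.support F := by
    have h1 := SupportCoh.support_shortExact (pwSC I F 0) (pwSC_shortExact I F 0)
    have h2 : CohB1.support F = CohB1.support (pw I F 0) ∪ CohB1.support (Formal.modPow I 0 F) :=
      h1
    rw [h2]
    exact Set.subset_union_left
  have hp0 : ClSub.IsProperOver (X ↘ Spec (CommRingCat.of A)) (CohB1.support (pw I F 0)) :=
    ProperOver.isProperOver_of_subset _ hs (SupportCoh.isClosed_support (pw I F 0)) hsupp0
  have hp1 : ClSub.IsProperOver (XP A X σ ↘ Spec (CommRingCat.of (MvPolynomial σ A)))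
      (CohB1.support ((Scheme.Modules.pullback (rho A X σ)).obj (pw I F 0))) := by
    rw [SuppTensH8.support_pullback (rho A X σ) (pw I F 0)]
    exact ProperOver.isProperOver_preimage_of_isPullback (X ↘ Spec (CommRingCat.of A)) (gC A σ)
      (rho A X σ) (sndP A X σ) (isPullback_XP A X σ) _ hp0
  have hGt : Coh.IsCoh (Gt A σ (GG I F) (TT I F a ha)) := isCoh_Gt A I F σ a ha hspan hF
  haveI : (Gt A σ (GG I F) (TT I F a ha)).IsQuasicoherent := hGt.1
  haveI : SheafOfModules.IsFiniteType (R := (XP A X σ).ringCatSheaf)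
      (Gt A σ (GG I F) (TT I F a ha)) := hGt.2
  haveI hepi := epi_pullback_jj_zero A I F σ a ha hspan
  let E : ShortComplex (XP A X σ).Modules :=
    ShortComplex.mk (kernel.ι ((Scheme.Modules.pullback (rho A X σ)).map (jj I F 0) ≫
      Gtπ A σ (GG I F) (TT I F a ha)))
      ((Scheme.Modules.pullback (rho A X σ)).map (jj I F 0) ≫ Gtπ A σ (GG I F) (TT I F a ha))
      (kernel.condition _)
  have hE : E.ShortExact :=
    { exact := ShortComplex.exact_kernel _
      mono_f := inferInstanceAs (Mono (kernel.ι _))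
      epi_g := hepi }
  haveI : E.X₂.IsQuasicoherent :=
    inferInstanceAs ((Scheme.Modules.pullback (rho A X σ)).obj (pw I F 0)).IsQuasicoherent
  haveI : E.X₃.IsQuasicoherent := hGt.1
  have hsupp : CohB1.support (Gt A σ (GG I F) (TT I F a ha)) ⊆
      CohB1.support ((Scheme.Modules.pullback (rho A X σ)).obj (pw I F 0)) := by
    have h1 := SupportCoh.support_shortExact E hE
    have h2 : CohB1.support ((Scheme.Modules.pullback (rho A X σ)).obj (pw I F 0)) =
        CohB1.support E.X₁ ∪ CohB1.support (Gt A σ (GG I F) (TT I F a ha)) := h1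
    rw [h2]
    exact Set.subset_union_right
  exact ProperOver.isProperOver_of_subset _ hp1
    (SupportCoh.isClosed_support (Gt A σ (GG I F) (TT I F a ha))) hsupp

include hF hs hspan in
theorem genProp_of_properSupport : GenProp A I F a ha := by
  haveI : IsLocallyNoetherian X :=
    LocallyOfFiniteType.isLocallyNoetherian (X ↘ Spec (CommRingCat.of A))
  haveI : F.IsQuasicoherent := hF.1
  have hGt : Coh.IsCoh (Gt A σ (GG I F) (TT I F a ha)) := isCoh_Gt A I F σ a ha hspan hF
  refine genProp_of_finite A I X F σ a ha (fun p => ?_)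
  exact finite_HH_of_properSupport (MvPolynomial σ A) (XP A X σ) _ hGt
    (isProperOver_support_Gt A I X F hF hs σ a ha hspan) p

end PS

section FinalPS

variable (A : Type u) [CommRing A] [IsNoetherianRing A] (I : Ideal A) (X : Scheme.{u})
  [X.Over (Spec (CommRingCat.of A))] [LocallyOfFiniteType (X ↘ Spec (CommRingCat.of A))]
  (M : X.Modules) (hM : Coh.IsCoh M)
  (hs : ClSub.IsProperOver (X ↘ Spec (CommRingCat.of A)) (CohB1.support M)) (p : ℕ)

include hM hs in
theorem main4478 : Nonempty (AdicCompletion I (Coh.HH X M p) ≃+ Formal.HHlim I M p) := by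
  obtain ⟨σ, _, a, ha, hspan⟩ := exists_generators A I
  exact nonempty_completion_of_genProp
    (genProp_of_properSupport A I X M hM hs σ a ha hspan) p

include hM hs in
theorem main4460 [IsAdicComplete I A] : Function.Bijective (Formal.toHHlim I M p) := by
  obtain ⟨σ, _, a, ha, hspan⟩ := exists_generators A I
  haveI : Module.Finite A (Coh.HH X M p) := finite_HH_of_properSupport A X M hM hs p
  haveI : IsAdicComplete I (Coh.HH X M p) := isAdicComplete_of_finite'' I _
  exact bijective_toHHlim_of_genProp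
    (genProp_of_properSupport A I X M hM hs σ a ha hspan) p

end FinalPS

end Groth.Agent.Lib.FormalFnH2
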