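import Mathlib
import Groth.Prelude
import Groth.Agent.Lib.FFLF1_helper2
import Groth.Agent.Lib.FormalFn5_helper2
import Groth.Agent.Lib.ProperOver_helper9

/-!
# Full faithfulness of completion, general form and proper supports (helper2)

* `existsUnique_hom_of_compatible_gen` : `X` a Noetherian scheme over a ring `A`, `M`, `N` coherent
  with `H⁰(X, Hom(M, N)) → lim H⁰(X, Hom(M, N)/I^{n+1})` bijective: compatible maps
  `M ⟶ N/I^{n+1}N` come from exactly one map `M ⟶ N`.
* `support_homSh_subset` : `Supp Hom(M, N) ⊆ Supp M ∩ Supp N`.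
* `main4473` (S4473), `main0798` (S0798).
APPEND-ONLY once landed.
-/

set_option autoImplicit false
universe u
open CategoryTheory CategoryTheory.Limits AlgebraicGeometry TopologicalSpace Opposite
open HomLinH8 RefHullH8 QcqsLoc SecOrdH8 QCohExtn

namespace Groth.Agent.Lib.FFLFH2

open Formal Groth.Agent.Lib.FormalModPowH4 Groth.Agent.Lib.FormalFnH2 Groth.Agent.Lib.FibAmpH2
  Groth.Agent.Lib.FlatBCH2 Groth.Agent.Lib.FibVanH2 Groth.Agent.Lib.FormalQuotH2
  Groth.Agent.Lib.FormalFFH2

section Gen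

variable (A : Type u) [CommRing A] (I : Ideal A) (X : Scheme.{u})
  [X.Over (Spec (CommRingCat.of A))] [AlgebraicGeometry.IsNoetherian X]
  (M N : X.Modules) (hM : Coh.IsCoh M) (hN : Coh.IsCoh N)
  (hbij : Function.Bijective (Formal.toHHlim I (RefHull.homSh M N) 0))

include hM hN hbij in
/-- **Full faithfulness**, in terms of compatible families -/
theorem existsUnique_hom_of_compatible_gen
    (ψ : ∀ n : ℕ, M ⟶ Formal.modPow I (n + 1) N)
    (hψ : ∀ n, ψ (n + 1) ≫ Formal.modPowTrans I (n + 1) N = ψ n) :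
    ∃! φ : M ⟶ N, ∀ n, φ ≫ Formal.modPowπ I (n + 1) N = ψ n := by
  haveI : M.IsQuasicoherent := hM.1
  obtain ⟨c₁, hc₁⟩ := exists_ker_le A I M N hM hN
  obtain ⟨c₂, hc₂⟩ := exists_factor A I M N hM hN
  -- kernel of `pP` on global sections
  have hkey : ∀ (n : ℕ) (s : Γ(RefHull.homSh M N, ⊤)), (pP I M N (n + c₁)).app ⊤ s = 0 →
      (Formal.modPowπ I (n + 1) (RefHull.homSh M N)).app ⊤ s = 0 := by
    intro n s hs
    have h1 : s ∈ LinearMap.ker (sl (pP I M N (n + c₁)) ⊤) := hs
    rw [← sl_range_kernel_ι] at h1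
    obtain ⟨k, rfl⟩ := h1
    show (Formal.modPowπ I (n + 1) (RefHull.homSh M N)).app ⊤
      ((kernel.ι (pP I M N (n + c₁))).app ⊤ k) = 0
    rw [← comp_app', hc₁ n, zero_app']
  have hkey' : ∀ (s : Γ(RefHull.homSh M N, ⊤)), (∀ n, (pP I M N n).app ⊤ s = 0) → s = 0 :=
    fun s hs => section_eq_zero_of_forall' A I _ hbij s (fun n => hkey n s (hs _))
  -- the compatible family of sections
  let Ψ : ∀ n, Γ(RefHull.homSh M (Formal.modPow I (n + 1) N), ⊤) := fun n =>
    RefHull.ofHom (ψ n) ⊤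
  have hΨ : ∀ {n m : ℕ} (h : n ≤ m), (tP I M N h).app ⊤ (Ψ m) = Ψ n := by
    intro n m h
    induction m, h using Nat.le_induction with
    | base =>
      rw [tP_refl A I X M N n]
      rfl
    | succ m h ih =>
      rw [← tP_trans I M N h (Nat.le_succ m), comp_app']
      have h1 : (tP I M N (Nat.le_succ m)).app ⊤ (Ψ (m + 1)) = Ψ m := by
        show (RefFun.homMap M _).app ⊤ (RefHull.ofHom (ψ (m + 1)) ⊤) = RefHull.ofHom (ψ m) ⊤
        rw [homMap_ofHom, ← modPowTrans_eq_modPowLE, hψ m]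
      rw [h1, ih]
  refine existsUnique_of_exists_of_unique ?_ ?_
  · -- existence
    have hd : ∀ n : ℕ, ∃ d : RefHull.homSh M (Formal.modPow I (n + c₁ + c₂ + 1) N) ⟶
        Formal.modPow I (n + 1) (RefHull.homSh M N),
        cQ A I M N (n + c₁ + c₂) ≫ d =
          Formal2.modPowLE I (Nat.succ_le_succ
            ((Nat.le_add_right n c₁).trans (Nat.le_add_right (n + c₁) c₂))) _ ∧
        d ≫ cQ A I M N n =
          tP I M N ((Nat.le_add_right n c₁).trans (Nat.le_add_right (n + c₁) c₂)) := by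
      intro n
      obtain ⟨d, hd1, hd2⟩ := exists_zigzag (pP I M N (n + c₁))
        (Formal.modPowπ I (n + 1) (RefHull.homSh M N))
        (tP I M N (Nat.le_add_right (n + c₁) c₂)) (hc₁ n) (hc₂ (n + c₁))
      refine ⟨d, ?_, ?_⟩
      · rw [← cancel_epi (Formal.modPowπ I (n + c₁ + c₂ + 1) (RefHull.homSh M N)),
          ← Category.assoc, π_cQ, Formal2.modPowπ_modPowLE]
        have h1 := hd1 _ (pP I M N (n + c₁ + c₂)) (𝟙 _) (by rw [pP_tP, Category.id_comp])
        rw [h1, Category.id_comp]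
      · have h2 := hd2 _ (cQ A I M N n) (tP I M N (Nat.le_add_right n c₁))
          (by rw [π_cQ, pP_tP])
        rw [h2, tP_trans]
    choose d hd1 hd2 using hd
    -- preimages
    have hy : ∀ m : ℕ, ∃ y : Γ(Formal.modPow I (m + 1) (RefHull.homSh M N), ⊤),
        (cQ A I M N m).app ⊤ y = Ψ m := fun m =>
      ⟨(d m).app ⊤ (Ψ (m + c₁ + c₂)), by rw [← comp_app', hd2 m, hΨ]⟩
    choose y hy using hy
    -- vanishing
    have hvan : ∀ (n m : ℕ) (h : n + c₁ + c₂ ≤ m)
        (x : Γ(Formal.modPow I (m + 1) (RefHull.homSh M N), ⊤)),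
        (cQ A I M N m).app ⊤ x = 0 →
        (Formal2.modPowLE I (Nat.succ_le_succ (((Nat.le_add_right n c₁).trans
          (Nat.le_add_right (n + c₁) c₂)).trans h)) (RefHull.homSh M N)).app ⊤ x = 0 := by
      intro n m h x hx
      rw [← modPowLE_trans I _ (Nat.succ_le_succ ((Nat.le_add_right n c₁).trans
        (Nat.le_add_right (n + c₁) c₂))) (Nat.succ_le_succ h), comp_app', ← hd1 n, comp_app',
        ← comp_app' _ (cQ A I M N (n + c₁ + c₂)), LE_cQ A I M N h, comp_app', hx, app_zero',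
        app_zero']
    let σ : ∀ n : ℕ, Γ(Formal.modPow I (n + 1) (RefHull.homSh M N), ⊤) := fun n =>
      (Formal2.modPowLE I (Nat.succ_le_succ (Nat.le_add_left n (c₁ + c₂)))
        (RefHull.homSh M N)).app ⊤ (y (c₁ + c₂ + n))
    have hσ : ∀ n, (Formal.modPowTrans I (n + 1) (RefHull.homSh M N)).app ⊤ (σ (n + 1)) =
        σ n := by
      intro n
      have hle : n + c₁ + c₂ ≤ c₁ + c₂ + n := by omega
      have h1 := hvan n (c₁ + c₂ + n) hle
        ((Formal.modPowTrans I (c₁ + c₂ + n + 1) (RefHull.homSh M N)).app ⊤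
          (y (c₁ + c₂ + n + 1)) - y (c₁ + c₂ + n)) (by
        rw [app_sub', modPowTrans_eq_modPowLE, ← comp_app',
          LE_cQ A I M N (Nat.le_succ (c₁ + c₂ + n)), comp_app', hy, hy, hΨ, sub_self])
      rw [app_sub', sub_eq_zero, modPowTrans_eq_modPowLE, ← comp_app', modPowLE_trans] at h1
      show (Formal.modPowTrans I (n + 1) (RefHull.homSh M N)).app ⊤
        ((Formal2.modPowLE I _ (RefHull.homSh M N)).app ⊤ (y (c₁ + c₂ + (n + 1)))) =
        (Formal2.modPowLE I _ (RefHull.homSh M N)).app ⊤ (y (c₁ + c₂ + n))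
      rw [modPowTrans_eq_modPowLE, ← comp_app', modPowLE_trans]
      exact h1
    obtain ⟨s, hs⟩ := exists_section_of_compatible' A I _ hbij σ hσ
    obtain ⟨φ, hφ⟩ := ofHom_surjective s
    refine ⟨φ, fun n => ?_⟩
    apply ofHom_injective
    rw [← homMap_ofHom, hφ]
    show (pP I M N n).app ⊤ s = Ψ n
    rw [← π_cQ A I M N n, comp_app', hs n]
    show (cQ A I M N n).app ⊤ ((Formal2.modPowLE I _ (RefHull.homSh M N)).app ⊤
      (y (c₁ + c₂ + n))) = Ψ n
    rw [← comp_app', LE_cQ A I M N (Nat.le_add_left n (c₁ + c₂)), comp_app', hy, hΨ]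
  · -- uniqueness
    intro φ φ' hφ hφ'
    apply ofHom_injective
    rw [← sub_eq_zero]
    apply hkey'
    intro n
    rw [app_sub']
    show (RefFun.homMap M _).app ⊤ (RefHull.ofHom φ ⊤) -
      (RefFun.homMap M _).app ⊤ (RefHull.ofHom φ' ⊤) = 0
    rw [homMap_ofHom, homMap_ofHom, hφ n, hφ' n, sub_self]

include hM hN hbij in
/-- full faithfulness of completion, general form -/
theorem existsUnique_hom_of_completion_hom
    (τ : Formal.completion I M ⟶ Formal.completion I N) :
    ∃! φ : M ⟶ N, ∀ n : ℕ,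
      Formal.modPowπ I (n + 1) M ≫ τ.app (op n) = φ ≫ Formal.modPowπ I (n + 1) N := by
  have hmapN : ∀ n, (Formal.completion I N).map (homOfLE (Nat.le_succ n)).op =
      Formal.modPowTrans I (n + 1) N := by
    intro n
    unfold Formal.completion
    exact Functor.ofOpSequence_map_homOfLE_succ _ n
  have hmapM : ∀ n, (Formal.completion I M).map (homOfLE (Nat.le_succ n)).op =
      Formal.modPowTrans I (n + 1) M := by
    intro n
    unfold Formal.completion
    exact Functor.ofOpSequence_map_homOfLE_succ _ n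
  obtain ⟨τn, hτn⟩ : ∃ τn : ∀ n, Formal.modPow I (n + 1) M ⟶ Formal.modPow I (n + 1) N,
      ∀ n, τn n = τ.app (op n) := ⟨fun n => τ.app (op n), fun n => rfl⟩
  have hnat : ∀ n, Formal.modPowTrans I (n + 1) M ≫ τn n =
      τn (n + 1) ≫ Formal.modPowTrans I (n + 1) N := by
    intro n
    have h1 := τ.naturality (homOfLE (Nat.le_succ n)).op
    rw [hmapN, hmapM] at h1
    rw [hτn n, hτn (n + 1)]
    exact h1
  obtain ⟨φ, hφ, huniq⟩ := existsUnique_hom_of_compatible_gen A I X M N hM hN hbij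
    (fun n => Formal.modPowπ I (n + 1) M ≫ τn n) (fun n => by
      rw [Category.assoc, ← hnat n, ← Category.assoc, Formal.modPowπ_trans])
  refine ⟨φ, fun n => ?_, fun φ' hφ' => huniq φ' (fun n => ?_)⟩
  · rw [← hτn n]
    exact (hφ n).symm
  · have h2 := hφ' n
    rw [← hτn n] at h2
    exact h2.symm

end Gen

section Supp

variable {X : Scheme.{u}}

theorem subsingleton_stalk_of_sections (F : X.Modules) (x : X)
    (h : ∀ V : X.Opens, x ∈ V → ∃ W : X.Opens, ∃ _ : x ∈ W, ∃ _ : W ≤ V,
      Subsingleton Γ(F, W)) : Subsingleton (F.presheaf.stalk x) := by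
  refine subsingleton_of_forall_eq 0 (fun t => ?_)
  obtain ⟨V, hxV, s, rfl⟩ := F.presheaf.germ_exist (x := x) t
  obtain ⟨W, hxW, hWV, hsub⟩ := h V hxV
  have h1 : F.presheaf.germ W x hxW (F.presheaf.map (homOfLE hWV).op s) =
      F.presheaf.germ V x hxV s := TopCat.Presheaf.germ_res_apply F.presheaf (homOfLE hWV) x hxW s
  rw [← h1, Subsingleton.elim (F.presheaf.map (homOfLE hWV).op s) 0, map_zero]

theorem subsingleton_sections_of_stalks (F : X.Modules) (W : X.Opens)
    (h : ∀ y ∈ W, Subsingleton (F.presheaf.stalk y)) : Subsingleton Γ(F, W) := by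
  refine ⟨fun s s' => ?_⟩
  refine TopCat.Presheaf.section_ext ⟨F.presheaf, F.isSheaf⟩ W s s' (fun y hy => ?_)
  haveI := h y hy
  exact Subsingleton.elim _ _

theorem support_homSh_subset (M N : X.Modules) [M.IsQuasicoherent]
    [SheafOfModules.IsFiniteType (R := X.ringCatSheaf) M] [N.IsQuasicoherent]
    [SheafOfModules.IsFiniteType (R := X.ringCatSheaf) N] :
    CohB1.support (RefHull.homSh M N) ⊆ CohB1.support M ∩ CohB1.support N := by
  have hcM : IsClosed (CohB1.support M) := SupportCoh.isClosed_support M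
  have hcN : IsClosed (CohB1.support N) := SupportCoh.isClosed_support N
  -- a point outside a closed set `S` such that sections of `H` vanish over affines missing `S`
  have key : ∀ (S : Set X), IsClosed S →
      (∀ W : X.Opens, IsAffineOpen W → (∀ y ∈ W, y ∉ S) →
        Subsingleton Γ(RefHull.homSh M N, W)) →
      ∀ x, x ∉ S → x ∉ CohB1.support (RefHull.homSh M N) := by
    intro S hS hW x hx
    show ¬ ¬ Subsingleton _
    rw [not_not]
    refine subsingleton_stalk_of_sections _ x (fun V hxV => ?_)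
    let O : X.Opens := ⟨Sᶜ, hS.isOpen_compl⟩
    have hxO : x ∈ V ⊓ O := ⟨hxV, hx⟩
    obtain ⟨_, ⟨W, rfl⟩, hxW, hWV⟩ :=
      Opens.isBasis_iff_nbhd.mp (isBasis_affine (X := X)) hxO
    exact ⟨W.1, hxW, hWV.trans inf_le_left, hW W.1 W.2 (fun y hy => (hWV hy).2)⟩
  intro x hx
  constructor
  · by_contra hxM
    refine key _ hcM (fun W hW hWS => ?_) x hxM hx
    haveI : Subsingleton Γ(M, W) := subsingleton_sections_of_stalks M W (fun y hy => by
      have := hWS y hy
      exact not_not.mp this)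
    haveI : Subsingleton (Γ(M, W) →ₗ[Γ(X, W)] Γ(N, W)) :=
      ⟨fun f g => LinearMap.ext (fun m => by rw [Subsingleton.elim m 0, map_zero, map_zero])⟩
    exact (evEquiv M N hW).toEquiv.subsingleton
  · by_contra hxN
    refine key _ hcN (fun W hW hWS => ?_) x hxN hx
    haveI : Subsingleton Γ(N, W) := subsingleton_sections_of_stalks N W (fun y hy => by
      have := hWS y hy
      exact not_not.mp this)
    haveI : Subsingleton (Γ(M, W) →ₗ[Γ(X, W)] Γ(N, W)) :=
      ⟨fun f g => LinearMap.ext (fun m => Subsingleton.elim _ _)⟩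
    exact (evEquiv M N hW).toEquiv.subsingleton

end Supp

section Main

/-- **S4473** -/
theorem main4473 (A : Type u) [CommRing A] [IsNoetherianRing A]
    (I : Ideal A) [IsAdicComplete I A] (X : Scheme.{u}) [X.Over (Spec (CommRingCat.of A))]
    [LocallyOfFiniteType (X ↘ Spec (CommRingCat.of A))] [QuasiCompact (X ↘ Spec (CommRingCat.of A))]
    (M N : X.Modules) (hM : Coh.IsCoh M) (hN : Coh.IsCoh N)
    (hs : ClSub.IsProperOver (X ↘ Spec (CommRingCat.of A)) (CohB1.support M ∩ CohB1.support N))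
    (ψ : Formal.completion I M ⟶ Formal.completion I N) :
    ∃! φ : M ⟶ N, ∀ n : ℕ,
      Formal.modPowπ I (n + 1) M ≫ ψ.app (op n) = φ ≫ Formal.modPowπ I (n + 1) N := by
  haveI : IsLocallyNoetherian X :=
    LocallyOfFiniteType.isLocallyNoetherian (X ↘ Spec (CommRingCat.of A))
  haveI : CompactSpace X :=
    QuasiCompact.compactSpace_of_compactSpace (X ↘ Spec (CommRingCat.of A))
  haveI : AlgebraicGeometry.IsNoetherian X := {}
  haveI : M.IsQuasicoherent := hM.1
  haveI : SheafOfModules.IsFiniteType (R := X.ringCatSheaf) M := hM.2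
  haveI : N.IsQuasicoherent := hN.1
  haveI : SheafOfModules.IsFiniteType (R := X.ringCatSheaf) N := hN.2
  have hH : Coh.IsCoh (RefHull.homSh M N) := isCoh_homSh M N hM hN
  haveI : (RefHull.homSh M N).IsQuasicoherent := hH.1
  haveI : SheafOfModules.IsFiniteType (R := X.ringCatSheaf) (RefHull.homSh M N) := hH.2
  have hsH : ClSub.IsProperOver (X ↘ Spec (CommRingCat.of A))
      (CohB1.support (RefHull.homSh M N)) :=
    ProperOver.isProperOver_of_subset _ hs (SupportCoh.isClosed_support _)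
      (support_homSh_subset M N)
  have hbij := main4460 A I X (RefHull.homSh M N) hH hsH 0
  exact existsUnique_hom_of_completion_hom A I X M N hM hN hbij ψ

/-- **S0798** -/
theorem main0798 (A : Type u) [CommRing A] [IsNoetherianRing A]
    (I : Ideal A) [IsAdicComplete I A] (X : Scheme.{u}) [X.Over (Spec (CommRingCat.of A))]
    [LocallyOfFiniteType (X ↘ Spec (CommRingCat.of A))] [QuasiCompact (X ↘ Spec (CommRingCat.of A))]
    (M N : X.Modules) (hM : Coh.IsCoh M) (hN : Coh.IsCoh N)
    (hMs : ClSub.IsProperOver (X ↘ Spec (CommRingCat.of A)) (CohB1.support M))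
    (ψ : Formal.completion I M ⟶ Formal.completion I N) :
    ∃! φ : M ⟶ N, ∀ n : ℕ,
      Formal.modPowπ I (n + 1) M ≫ ψ.app (op n) = φ ≫ Formal.modPowπ I (n + 1) N := by
  haveI : M.IsQuasicoherent := hM.1
  haveI : SheafOfModules.IsFiniteType (R := X.ringCatSheaf) M := hM.2
  haveI : N.IsQuasicoherent := hN.1
  haveI : SheafOfModules.IsFiniteType (R := X.ringCatSheaf) N := hN.2
  refine main4473 A I X M N hM hN ?_ ψ
  exact ProperOver.isProperOver_of_subset _ hMs
    ((SupportCoh.isClosed_support M).inter (SupportCoh.isClosed_support N)) Set.inter_subset_left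

end Main

end Groth.Agent.Lib.FFLFH2
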