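import Mathlib
import Groth.Prelude.Def_Desc

set_option autoImplicit false
set_option linter.all false
set_option maxHeartbeats 1600000
set_option backward.isDefEq.respectTransparency false
set_option backward.isDefEq.respectTransparency.types false
set_option backward.defeqAttrib.useBackward true

universe u

open CategoryTheory Opposite Bicategory ModuleCat ChangeOfRings

namespace Groth.Agent.Lib.FFDescH3

/-- the pseudofunctor -/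
noncomputable abbrev F := Desc.ringModPF.{u}

variable {A B C : CommRingCat.{u}}

/-- the 1-morphism of the source bicategory attached to a ring map -/
abbrev ar (g : A ⟶ B) : (LocallyDiscrete.mk (op (op A)) : LocallyDiscrete (CommRingCat.{u}ᵒᵖ)ᵒᵖ) ⟶ .mk (op (op B)) :=
  g.op.op.toLoc

lemma ar_comp (g : A ⟶ B) (h : B ⟶ C) : ar g ≫ ar h = ar (g ≫ h) := rfl

/-- the component of `mapComp'` as an isomorphism of modules -/
noncomputable def cIso (g : A ⟶ B) (h : B ⟶ C) (gh : A ⟶ C) (w : g ≫ h = gh) (N : ModuleCat.{u} A) :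
    (extendScalars gh.hom).obj N ≅ (extendScalars h.hom).obj ((extendScalars g.hom).obj N) :=
  (Cat.Hom.toNatIso (F.{u}.mapComp' (ar g) (ar h) (ar gh) (by rw [ar_comp, w]))).app N

/-- the component of `mapComp'` as a morphism of modules -/
noncomputable def cH (g : A ⟶ B) (h : B ⟶ C) (gh : A ⟶ C) (w : g ≫ h = gh) (N : ModuleCat.{u} A) :
    (extendScalars gh.hom).obj N ⟶ (extendScalars h.hom).obj ((extendScalars g.hom).obj N) :=
  (cIso g h gh w N).hom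

/-- the component of the inverse of `mapComp'` as a morphism of modules -/
noncomputable def cI (g : A ⟶ B) (h : B ⟶ C) (gh : A ⟶ C) (w : g ≫ h = gh) (N : ModuleCat.{u} A) :
    (extendScalars h.hom).obj ((extendScalars g.hom).obj N) ⟶ (extendScalars gh.hom).obj N :=
  (cIso g h gh w N).inv

lemma cH_def (g : A ⟶ B) (h : B ⟶ C) (gh : A ⟶ C) (w : g ≫ h = gh) (N : ModuleCat.{u} A) :
    cH g h gh w N = (F.{u}.mapComp' (ar g) (ar h) (ar gh) (by rw [ar_comp, w])).hom.toNatTrans.app N := by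
  simp only [cH, cIso, Iso.app_hom, Cat.Hom.toNatIso_hom]

lemma cI_def (g : A ⟶ B) (h : B ⟶ C) (gh : A ⟶ C) (w : g ≫ h = gh) (N : ModuleCat.{u} A) :
    cI g h gh w N = (F.{u}.mapComp' (ar g) (ar h) (ar gh) (by rw [ar_comp, w])).inv.toNatTrans.app N := by
  simp only [cI, cIso, Iso.app_inv, Cat.Hom.toNatIso_inv]

lemma cH_eq (g : A ⟶ B) (h : B ⟶ C) (N : ModuleCat.{u} A) :
    cH g h (g ≫ h) rfl N = (F.{u}.mapComp (ar g) (ar h)).hom.toNatTrans.app N := by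
  rw [cH_def]
  exact congrArg (fun (z : F.{u}.map (ar g ≫ ar h) ≅ F.{u}.map (ar g) ≫ F.{u}.map (ar h)) => z.hom.toNatTrans.app N)
    (Pseudofunctor.mapComp'_eq_mapComp F.{u} (ar g) (ar h))

lemma cH_one_tmul (g : A ⟶ B) (h : B ⟶ C) (gh : A ⟶ C) (w : g ≫ h = gh) (N : ModuleCat.{u} A) (n : N) :
    cH g h gh w N ((1 : C) ⊗ₜ[A, gh.hom] n) =
      (1 : C) ⊗ₜ[B, h.hom] ((1 : B) ⊗ₜ[A, g.hom] n) := by
  subst w
  rw [cH_eq]
  dsimp [F, Desc.ringModPF, ar, Quiver.Hom.toLoc]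
  rw [PrelaxFunctor.map₂_id]
  exact extendScalarsComp_hom_app_one_tmul g.hom h.hom N n

@[reassoc (attr := simp)]
lemma cH_cI (g : A ⟶ B) (h : B ⟶ C) (gh : A ⟶ C) (w : g ≫ h = gh) (N : ModuleCat.{u} A) :
    cH g h gh w N ≫ cI g h gh w N = 𝟙 _ := by
  unfold cH cI
  exact Iso.hom_inv_id _

@[reassoc (attr := simp)]
lemma cI_cH (g : A ⟶ B) (h : B ⟶ C) (gh : A ⟶ C) (w : g ≫ h = gh) (N : ModuleCat.{u} A) :
    cI g h gh w N ≫ cH g h gh w N = 𝟙 _ := by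
  unfold cH cI
  exact Iso.inv_hom_id _

lemma one_tmul_smul (h : B ⟶ C) (E : ModuleCat.{u} B) (b : B) (e : E) :
    ((1 : C) ⊗ₜ[B, h.hom] (b • e) : (extendScalars h.hom).obj E) =
      (h.hom b) • ((1 : C) ⊗ₜ[B, h.hom] e : (extendScalars h.hom).obj E) := by
  rw [ExtendScalars.smul_tmul, mul_one]
  exact (TensorProduct.smul_tmul (R := B) (R' := B) (M := (restrictScalars h.hom).obj (ModuleCat.of C C))
    (N := E) b (1 : C) e).symm.trans (by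
      congr 1
      change h.hom b • (1 : C) = h.hom b
      rw [smul_eq_mul, mul_one])

lemma cI_one_tmul_one_tmul (g : A ⟶ B) (h : B ⟶ C) (gh : A ⟶ C) (w : g ≫ h = gh)
    (N : ModuleCat.{u} A) (n : N) :
    cI g h gh w N ((1 : C) ⊗ₜ[B, h.hom] ((1 : B) ⊗ₜ[A, g.hom] n)) = (1 : C) ⊗ₜ[A, gh.hom] n := by
  rw [← cH_one_tmul g h gh w N n, ← ModuleCat.comp_apply, cH_cI]
  rfl

section descent

variable {R₀ S₀ : CommRingCat.{u}} (f : R₀ ⟶ S₀)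
  (D : F.{u}.DescentData (fun _ : PUnit.{u + 1} => f.op))

/-- the underlying module of a descent datum -/
noncomputable def DN : ModuleCat.{u} S₀ := D.obj PUnit.unit

/-- the transition isomorphisms of a descent datum, as morphisms of modules -/
noncomputable def Hm {T : CommRingCat.{u}} (a₁ a₂ : S₀ ⟶ T) (w : f ≫ a₁ = f ≫ a₂) :
    (extendScalars a₁.hom).obj (DN f D) ⟶ (extendScalars a₂.hom).obj (DN f D) :=
  D.hom (i₁ := PUnit.unit) (i₂ := PUnit.unit) (f ≫ a₁).op a₁.op a₂.op rfl (by rw [← op_comp, w])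

lemma Hm_self {T : CommRingCat.{u}} (a₁ a₂ : S₀ ⟶ T) (h : a₁ = a₂) (w : f ≫ a₁ = f ≫ a₂)
    (n : DN f D) :
    Hm f D a₁ a₂ w ((1 : T) ⊗ₜ[S₀, a₁.hom] n) = (1 : T) ⊗ₜ[S₀, a₂.hom] n := by
  subst h
  have := D.hom_self (i := PUnit.unit) (f ≫ a₁).op a₁.op rfl
  unfold Hm
  rw [this]
  rfl

lemma Hm_comp {T : CommRingCat.{u}} (a₁ a₂ a₃ : S₀ ⟶ T) (w₁₂ : f ≫ a₁ = f ≫ a₂)
    (w₂₃ : f ≫ a₂ = f ≫ a₃) :
    Hm f D a₁ a₂ w₁₂ ≫ Hm f D a₂ a₃ w₂₃ = Hm f D a₁ a₃ (w₁₂.trans w₂₃) := by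
  unfold Hm
  have h := D.hom_comp (i₁ := PUnit.unit) (i₂ := PUnit.unit) (i₃ := PUnit.unit) (f ≫ a₁).op a₁.op a₂.op a₃.op rfl (by rw [← op_comp, w₁₂])
    (by rw [← op_comp, w₁₂, w₂₃])
  have h2 : ∀ (q q' : op T ⟶ op R₀) (hq : q = q') (h₁ : a₂.op ≫ f.op = q) (h₂ : a₃.op ≫ f.op = q)
      (h₁' : a₂.op ≫ f.op = q') (h₂' : a₃.op ≫ f.op = q'),
      D.hom (i₁ := PUnit.unit) (i₂ := PUnit.unit) q a₂.op a₃.op h₁ h₂ = D.hom (i₁ := PUnit.unit) (i₂ := PUnit.unit) q' a₂.op a₃.op h₁' h₂' := by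
    intro q q' hq
    subst hq
    intros
    rfl
  rw [h2 (f ≫ a₂).op (f ≫ a₁).op (by rw [w₁₂]) rfl (by rw [← op_comp, w₂₃])
    (by rw [← op_comp, w₁₂]) (by rw [← op_comp, w₁₂, w₂₃])]
  exact h

lemma Hm_pull {T T' : CommRingCat.{u}} (a₁ a₂ : S₀ ⟶ T) (w : f ≫ a₁ = f ≫ a₂) (g : T ⟶ T')
    (b₁ b₂ : S₀ ⟶ T') (h₁ : a₁ ≫ g = b₁) (h₂ : a₂ ≫ g = b₂) (w' : f ≫ b₁ = f ≫ b₂) :
    Hm f D b₁ b₂ w' = cH a₁ g b₁ h₁ (DN f D) ≫ (extendScalars g.hom).map (Hm f D a₁ a₂ w) ≫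
      cI a₂ g b₂ h₂ (DN f D) := by
  have h := D.pullHom_hom (i₁ := PUnit.unit) (i₂ := PUnit.unit) g.op (f ≫ a₁).op (f ≫ b₁).op (by rw [← op_comp, ← h₁, Category.assoc])
    a₁.op a₂.op rfl (by rw [← op_comp, w]) b₁.op b₂.op (by rw [← op_comp, h₁])
    (by rw [← op_comp, h₂])
  unfold Hm
  rw [← h, cH_def, cI_def]
  rfl

lemma Hm_pull_apply {T T' : CommRingCat.{u}} (a₁ a₂ : S₀ ⟶ T) (w : f ≫ a₁ = f ≫ a₂) (g : T ⟶ T')
    (b₁ b₂ : S₀ ⟶ T') (h₁ : a₁ ≫ g = b₁) (h₂ : a₂ ≫ g = b₂) (w' : f ≫ b₁ = f ≫ b₂)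
    (n : DN f D) :
    Hm f D b₁ b₂ w' ((1 : T') ⊗ₜ[S₀, b₁.hom] n) =
      cI a₂ g b₂ h₂ (DN f D) ((1 : T') ⊗ₜ[T, g.hom] (Hm f D a₁ a₂ w ((1 : T) ⊗ₜ[S₀, a₁.hom] n))) := by
  rw [Hm_pull f D a₁ a₂ w g b₁ b₂ h₁ h₂ w', ModuleCat.comp_apply, ModuleCat.comp_apply,
    cH_one_tmul, ExtendScalars.map_tmul]

end descent

end Groth.Agent.Lib.FFDescH3
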