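import Mathlib
import Groth.Agent.Lib.FFDesc1_helper3

set_option autoImplicit false
set_option linter.all false
set_option maxHeartbeats 1600000
set_option backward.isDefEq.respectTransparency false
set_option backward.isDefEq.respectTransparency.types false
set_option backward.defeqAttrib.useBackward true

universe u

open CategoryTheory Opposite Bicategory ModuleCat ChangeOfRings TensorProduct

namespace Groth.Agent.Lib.FFDescH3

variable (R S : Type u) [CommRing R] [CommRing S] [Algebra R S]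

/-- the base ring -/
abbrev R₀ : CommRingCat.{u} := CommRingCat.of R
/-- the covering ring -/
abbrev S₀ : CommRingCat.{u} := CommRingCat.of S
/-- the structure map -/
abbrev f₀ : R₀ R ⟶ S₀ S := CommRingCat.ofHom (algebraMap R S)
/-- the double tensor product -/
abbrev T₂ : CommRingCat.{u} := CommRingCat.of (S ⊗[R] S)
/-- first inclusion -/
abbrev ι₁ : S₀ S ⟶ T₂ R S := CommRingCat.ofHom Algebra.TensorProduct.includeLeftRingHom
/-- second inclusion -/
abbrev ι₂ : S₀ S ⟶ T₂ R S :=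
  CommRingCat.ofHom (Algebra.TensorProduct.includeRight (R := R) (A := S) (B := S)).toRingHom

lemma w₂ : f₀ R S ≫ ι₁ R S = f₀ R S ≫ ι₂ R S := by
  ext r
  change (algebraMap R S r) ⊗ₜ[R] (1 : S) = (1 : S) ⊗ₜ[R] (algebraMap R S r)
  rw [Algebra.algebraMap_eq_smul_one, TensorProduct.smul_tmul]

variable (N : ModuleCat.{u} S)

/-- the `S ⊗ S`-module `(S ⊗ S) ⊗_{ι₂} N` -/
noncomputable abbrev E₂ : ModuleCat.{u} (S ⊗[R] S) := (extendScalars (ι₂ R S).hom).obj N
/-- the `S`-module `S ⊗_R N` -/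
noncomputable abbrev TN : ModuleCat.{u} S :=
  (extendScalars (f₀ R S).hom).obj ((restrictScalars (f₀ R S).hom).obj N)

/-- auxiliary triadditive map -/
noncomputable def psi : S →+ S →+ N →+ TN R S N :=
  AddMonoidHom.mk' (fun x => AddMonoidHom.mk' (fun y => AddMonoidHom.mk'
    (fun n => (x ⊗ₜ[R, (f₀ R S).hom] ((y • n : N) : (restrictScalars (f₀ R S).hom).obj N) : TN R S N))
    (by intro n n'; rw [smul_add]; exact TensorProduct.tmul_add _ _ _))
    (by intro y y'; ext n; change _ ⊗ₜ _ = _ ⊗ₜ _ + _ ⊗ₜ _; rw [add_smul]; exact TensorProduct.tmul_add _ _ _))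
    (by intro x x'; ext y n; exact TensorProduct.add_tmul _ _ _)

lemma psi_apply (x y : S) (n : N) :
    psi R S N x y n = (x ⊗ₜ[R, (f₀ R S).hom] ((y • n : N) : (restrictScalars (f₀ R S).hom).obj N) : TN R S N) := rfl

/-- auxiliary biadditive map -/
noncomputable def phi : (S ⊗[R] S) →+ N →+ TN R S N :=
  TensorProduct.liftAddHom (psi R S N) (by
    intro r x y
    ext n
    rw [psi_apply, psi_apply]
    have h1 : ((r • y) • n : N) = ((f₀ R S).hom r) • (y • n) := by
      change ((r • y) • n : N) = (algebraMap R S r) • (y • n)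
      rw [Algebra.smul_def, mul_smul]
    rw [h1]
    have h0 : (r • x : S) = (f₀ R S).hom r * x := Algebra.smul_def r x
    rw [h0]
    exact TensorProduct.smul_tmul (R := R) (R' := R) (M := (restrictScalars (f₀ R S).hom).obj (ModuleCat.of S S))
      (N := (restrictScalars (f₀ R S).hom).obj N) r x (y • n))

lemma phi_tmul (x y : S) (n : N) :
    phi R S N (x ⊗ₜ[R] y) n = (x ⊗ₜ[R, (f₀ R S).hom] ((y • n : N) : (restrictScalars (f₀ R S).hom).obj N) : TN R S N) := rfl

lemma phi_balanced (s : S) (t : S ⊗[R] S) (n : N) :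
    phi R S N ((ι₂ R S).hom s * t) n = phi R S N t (s • n) := by
  induction t using TensorProduct.induction_on with
  | zero => simp
  | tmul x y =>
    change phi R S N (((1 : S) ⊗ₜ[R] s) * (x ⊗ₜ[R] y)) n = _
    rw [Algebra.TensorProduct.tmul_mul_tmul, one_mul, phi_tmul, phi_tmul, mul_smul, smul_comm]
  | add t t' h h' => rw [mul_add, map_add, map_add, AddMonoidHom.add_apply, AddMonoidHom.add_apply, h, h']

/-- the comparison map `(S ⊗ S) ⊗_{ι₂} N → S ⊗_R N` -/
noncomputable def theta : E₂ R S N →+ TN R S N :=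
  TensorProduct.liftAddHom (R := S) (M := (restrictScalars (ι₂ R S).hom).obj (ModuleCat.of (S ⊗[R] S) (S ⊗[R] S)))
    (N := N) (phi R S N) (fun s t n => phi_balanced R S N s t n)

lemma theta_tmul (t : S ⊗[R] S) (n : N) :
    theta R S N (t ⊗ₜ[S, (ι₂ R S).hom] n) = phi R S N t n := rfl

lemma theta_tmul_tmul (x y : S) (n : N) :
    theta R S N ((x ⊗ₜ[R] y) ⊗ₜ[S, (ι₂ R S).hom] n) =
      (x ⊗ₜ[R, (f₀ R S).hom] ((y • n : N) : (restrictScalars (f₀ R S).hom).obj N) : TN R S N) := rfl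

/-- additive maps out of `E₂` are determined by their values on `ι₁ x • (1 ⊗ n)` -/
lemma E₂_ext {Q : Type*} [AddCommMonoid Q] (φ φ' : E₂ R S N →+ Q)
    (h : ∀ (x : S) (n : N), φ (((ι₁ R S).hom x) • ((1 : S ⊗[R] S) ⊗ₜ[S, (ι₂ R S).hom] n)) =
      φ' (((ι₁ R S).hom x) • ((1 : S ⊗[R] S) ⊗ₜ[S, (ι₂ R S).hom] n))) : φ = φ' := by
  ext w
  induction w using TensorProduct.induction_on with
  | zero => simp
  | tmul t n =>
    induction t using TensorProduct.induction_on with
    | zero =>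
      have : ((0 : S ⊗[R] S) ⊗ₜ[S, (ι₂ R S).hom] n : E₂ R S N) = 0 := TensorProduct.zero_tmul _ _
      rw [this, map_zero, map_zero]
    | tmul x y =>
      have : ((x ⊗ₜ[R] y) ⊗ₜ[S, (ι₂ R S).hom] n : E₂ R S N) =
          ((ι₁ R S).hom x) • ((1 : S ⊗[R] S) ⊗ₜ[S, (ι₂ R S).hom] (y • n)) := by
        rw [one_tmul_smul (ι₂ R S) N y n, smul_smul]
        rw [ExtendScalars.smul_tmul, mul_one]
        congr 1
        change x ⊗ₜ[R] y = (x ⊗ₜ[R] (1 : S)) * ((1 : S) ⊗ₜ[R] y)
        rw [Algebra.TensorProduct.tmul_mul_tmul, mul_one, one_mul]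
      rw [this, h]
    | add t t' ht ht' =>
      have : ((t + t') ⊗ₜ[S, (ι₂ R S).hom] n : E₂ R S N) =
          (t ⊗ₜ[S, (ι₂ R S).hom] n : E₂ R S N) + (t' ⊗ₜ[S, (ι₂ R S).hom] n : E₂ R S N) :=
        TensorProduct.add_tmul _ _ _
      rw [this, map_add, map_add, ht, ht']
  | add w w' hw hw' => rw [map_add, map_add, hw, hw']

lemma theta_gen (x : S) (n : N) :
    theta R S N (((ι₁ R S).hom x) • ((1 : S ⊗[R] S) ⊗ₜ[S, (ι₂ R S).hom] n)) =
      (x ⊗ₜ[R, (f₀ R S).hom] (n : (restrictScalars (f₀ R S).hom).obj N) : TN R S N) := by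
  rw [ExtendScalars.smul_tmul, mul_one]
  change theta R S N ((x ⊗ₜ[R] (1 : S)) ⊗ₜ[S, (ι₂ R S).hom] n) = _
  rw [theta_tmul_tmul, one_smul]

lemma theta_smul (s : S) (w : E₂ R S N) :
    theta R S N (((ι₁ R S).hom s) • w) = s • theta R S N w := by
  have h := E₂_ext R S N
    ((theta R S N).comp (DistribMulAction.toAddMonoidHom (E₂ R S N) ((ι₁ R S).hom s)))
    ((DistribMulAction.toAddMonoidHom (TN R S N) s).comp (theta R S N)) (by
      intro x n
      simp only [AddMonoidHom.comp_apply, DistribMulAction.toAddMonoidHom_apply]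
      rw [smul_smul, ← map_mul, theta_gen, theta_gen]
      rfl)
  exact DFunLike.congr_fun h w

section descent

variable (D : F.{u}.DescentData (fun _ : PUnit.{u + 1} => (f₀ R S).op))

/-- the underlying module -/
noncomputable abbrev N₀ : ModuleCat.{u} S := DN (f₀ R S) D

/-- the universal transition isomorphism -/
noncomputable abbrev H₂ : (extendScalars (ι₁ R S).hom).obj (N₀ R S D) ⟶ E₂ R S (N₀ R S D) :=
  Hm (f₀ R S) D (ι₁ R S) (ι₂ R S) (w₂ R S)

/-- the coalgebra structure map, as a function -/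
noncomputable def aFun (n : N₀ R S D) : TN R S (N₀ R S D) :=
  theta R S (N₀ R S D) (H₂ R S D ((1 : S ⊗[R] S) ⊗ₜ[S, (ι₁ R S).hom] n))

/-- the coalgebra structure map -/
noncomputable def aHom : N₀ R S D ⟶ TN R S (N₀ R S D) :=
  ModuleCat.ofHom
    { toFun := aFun R S D
      map_add' := by
        intro n n'
        unfold aFun
        have h : (((1 : S ⊗[R] S) ⊗ₜ[S, (ι₁ R S).hom] (n + n')) :
            (extendScalars (ι₁ R S).hom).obj (N₀ R S D)) =
            ((1 : S ⊗[R] S) ⊗ₜ[S, (ι₁ R S).hom] n) + ((1 : S ⊗[R] S) ⊗ₜ[S, (ι₁ R S).hom] n') :=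
          TensorProduct.tmul_add _ _ _
        rw [h, map_add, map_add]
      map_smul' := by
        intro s n
        unfold aFun
        rw [RingHom.id_apply, one_tmul_smul (ι₁ R S) (N₀ R S D) s n, map_smul, theta_smul] }

lemma aHom_apply (n : N₀ R S D) : aHom R S D n = aFun R S D n := rfl

/-- the multiplication map -/
abbrev Δ₂ : T₂ R S ⟶ S₀ S := CommRingCat.ofHom (Algebra.TensorProduct.lmul' R (S := S)).toRingHom

lemma ι₁_Δ₂ : ι₁ R S ≫ Δ₂ R S = 𝟙 (S₀ S) := by
  ext x
  change Algebra.TensorProduct.lmul' R (S := S) (x ⊗ₜ[R] (1 : S)) = x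
  rw [Algebra.TensorProduct.lmul'_apply_tmul, mul_one]

lemma ι₂_Δ₂ : ι₂ R S ≫ Δ₂ R S = 𝟙 (S₀ S) := by
  ext x
  change Algebra.TensorProduct.lmul' R (S := S) ((1 : S) ⊗ₜ[R] x) = x
  rw [Algebra.TensorProduct.lmul'_apply_tmul, one_mul]

/-- the canonical identification `S ⊗_{id} N ≅ N` -/
noncomputable abbrev lam : (extendScalars (CommRingCat.Hom.hom (𝟙 (S₀ S)))).obj N ⟶ N :=
  (extendScalarsId S).hom.app N

lemma lam_one_tmul (n : N) : lam S N ((1 : S) ⊗ₜ[S, CommRingCat.Hom.hom (𝟙 (S₀ S))] n) = n :=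
  extendScalarsId_hom_app_one_tmul N n

end descent

end Groth.Agent.Lib.FFDescH3
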