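import Mathlib
import Groth.Agent.Lib.FFDesc2_helper3

set_option autoImplicit false
set_option linter.all false
set_option maxHeartbeats 1600000
set_option backward.isDefEq.respectTransparency false
set_option backward.isDefEq.respectTransparency.types false
set_option backward.defeqAttrib.useBackward true

universe u

open CategoryTheory Opposite Bicategory ModuleCat ChangeOfRings TensorProduct

namespace Groth.Agent.Lib.FFDescH3

/-- `e ↦ 1 ⊗ e` as an additive map -/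
noncomputable def oneT {B C : CommRingCat.{u}} (h : B ⟶ C) (E : ModuleCat.{u} B) :
    E →+ (extendScalars h.hom).obj E :=
  AddMonoidHom.mk' (fun e => ((1 : C) ⊗ₜ[B, h.hom] e : (extendScalars h.hom).obj E))
    (fun e e' => TensorProduct.tmul_add _ _ _)

lemma oneT_apply {B C : CommRingCat.{u}} (h : B ⟶ C) (E : ModuleCat.{u} B) (e : E) :
    oneT h E e = ((1 : C) ⊗ₜ[B, h.hom] e : (extendScalars h.hom).obj E) := rfl

variable (R S : Type u) [CommRing R] [CommRing S] [Algebra R S]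

variable (N : ModuleCat.{u} S)

/-- the counit -/
noncomputable abbrev eps : TN R S N ⟶ N := (extendRestrictScalarsAdj (f₀ R S).hom).counit.app N

lemma eps_tmul (x : S) (n : N) :
    eps R S N (x ⊗ₜ[R, (f₀ R S).hom] (n : (restrictScalars (f₀ R S).hom).obj N)) = x • n := by
  have h : (x ⊗ₜ[R, (f₀ R S).hom] (n : (restrictScalars (f₀ R S).hom).obj N) : TN R S N) =
      x • ((1 : S) ⊗ₜ[R, (f₀ R S).hom] (n : (restrictScalars (f₀ R S).hom).obj N) : TN R S N) := by
    refine Eq.trans ?_ (ExtendScalars.smul_tmul (f₀ R S).hom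
      (M := (restrictScalars (f₀ R S).hom).obj N) x 1 n).symm
    rw [mul_one]
  rw [h, map_smul]
  congr 1
  exact extendRestrictScalarsAdj_counit_app_apply_one_tmul _ N n

lemma Δ₂_ι₁_apply (x : S) : (Δ₂ R S).hom ((ι₁ R S).hom x) = x := by
  change Algebra.TensorProduct.lmul' R (S := S) (x ⊗ₜ[R] (1 : S)) = x
  rw [Algebra.TensorProduct.lmul'_apply_tmul, mul_one]

/-- `ι₁ ≫ Δ₂` (equal to the identity, but kept in this form) -/
abbrev d₁ : S₀ S ⟶ S₀ S := ι₁ R S ≫ Δ₂ R S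

/-- `ι₂ ≫ Δ₂` (equal to the identity, but kept in this form) -/
abbrev d₂ : S₀ S ⟶ S₀ S := ι₂ R S ≫ Δ₂ R S

lemma d₁_eq_d₂ : d₁ R S = d₂ R S := (ι₁_Δ₂ R S).trans (ι₂_Δ₂ R S).symm

lemma d₂_apply (s : S) : (d₂ R S).hom s = s := by
  change Algebra.TensorProduct.lmul' R (S := S) ((1 : S) ⊗ₜ[R] s) = s
  rw [Algebra.TensorProduct.lmul'_apply_tmul, one_mul]

/-- scalar multiplication as a biadditive map -/
def smulHom : S →+ N →+ N :=
  AddMonoidHom.mk' (fun s => DistribMulAction.toAddMonoidHom N s)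
    (fun s s' => AddMonoidHom.ext (fun n => add_smul s s' n))

lemma smulHom_apply (s : S) (n : N) : smulHom S N s n = s • n := rfl

/-- `s ⊗ n ↦ s • n` -/
noncomputable def lam' : (extendScalars (d₂ R S).hom).obj N →+ N :=
  TensorProduct.liftAddHom (R := S) (M := (restrictScalars (d₂ R S).hom).obj (ModuleCat.of S S))
    (N := N) (smulHom S N) (by
      intro s' (s : S) n
      change smulHom S N ((d₂ R S).hom s' * s) n = smulHom S N s (s' • n)
      rw [smulHom_apply, smulHom_apply, d₂_apply, mul_comm, mul_smul])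

lemma lam'_tmul (s : S) (n : N) (t : (extendScalars (d₂ R S).hom).obj N)
    (ht : t = s ⊗ₜ[S, (d₂ R S).hom] n) : lam' R S N t = s • n := by
  subst ht
  rfl

lemma eps_theta_gen (x : S) (n : N) :
    eps R S N (theta R S N (((ι₁ R S).hom x) • ((1 : S ⊗[R] S) ⊗ₜ[S, (ι₂ R S).hom] n))) =
      lam' R S N (cI (ι₂ R S) (Δ₂ R S) (d₂ R S) rfl N
        ((1 : S) ⊗ₜ[S ⊗[R] S, (Δ₂ R S).hom]
          (((ι₁ R S).hom x) • ((1 : S ⊗[R] S) ⊗ₜ[S, (ι₂ R S).hom] n) : E₂ R S N))) := by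
  rw [theta_gen, eps_tmul]
  rw [one_tmul_smul (Δ₂ R S) (E₂ R S N), Δ₂_ι₁_apply]
  rw [map_smul, cI_one_tmul_one_tmul, ExtendScalars.smul_tmul, lam'_tmul R S N (x * 1) n _ rfl,
    mul_one]

lemma eps_theta (w : E₂ R S N) :
    eps R S N (theta R S N w) =
      lam' R S N (cI (ι₂ R S) (Δ₂ R S) (d₂ R S) rfl N
        ((1 : S) ⊗ₜ[S ⊗[R] S, (Δ₂ R S).hom] w)) := by
  have h := E₂_ext R S N
    ((eps R S N).hom.toAddMonoidHom.comp (theta R S N))
    ((lam' R S N).comp
      ((cI (ι₂ R S) (Δ₂ R S) (d₂ R S) rfl N).hom.toAddMonoidHom.comp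
        (oneT (Δ₂ R S) (E₂ R S N)))) (fun x n => eps_theta_gen R S N x n)
  exact DFunLike.congr_fun h w

section descent

variable (D : F.{u}.DescentData (fun _ : PUnit.{u + 1} => (f₀ R S).op))

lemma counit_aHom (n : N₀ R S D) : eps R S (N₀ R S D) (aHom R S D n) = n := by
  rw [aHom_apply]
  unfold aFun
  rw [eps_theta]
  have w' : f₀ R S ≫ d₁ R S = f₀ R S ≫ d₂ R S := by rw [d₁_eq_d₂]
  have h := Hm_pull_apply (f₀ R S) D (ι₁ R S) (ι₂ R S) (w₂ R S) (Δ₂ R S) (d₁ R S) (d₂ R S)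
    rfl rfl w' n
  have h' := Hm_self (f₀ R S) D (d₁ R S) (d₂ R S) (d₁_eq_d₂ R S) w' n
  rw [← h, h', lam'_tmul R S (N₀ R S D) 1 n _ rfl, one_smul]

end descent

end Groth.Agent.Lib.FFDescH3
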