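import Mathlib
import Groth.Agent.Lib.FFDesc2_helper3

set_option autoImplicit false
set_option linter.all false
set_option maxHeartbeats 1600000
set_option backward.isDefEq.respectTransparency false
set_option backward.isDefEq.respectTransparency.types false
set_option backward.defeqAttrib.useBackward true

universe u

open CategoryTheory Opposite Bicategory ModuleCat ChangeOfRings TensorProduct

namespace Groth.Agent.Lib.FFDescH3

variable (R S : Type u) [CommRing R] [CommRing S] [Algebra R S]

variable (N : ModuleCat.{u} S)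

/-- auxiliary biadditive map for `thetaInv` -/
noncomputable def thetaInvAux : S →+ N →+ E₂ R S N :=
  AddMonoidHom.mk' (fun x => AddMonoidHom.mk'
      (fun n => ((x ⊗ₜ[R] (1 : S)) ⊗ₜ[S, (ι₂ R S).hom] n : E₂ R S N))
      (fun n n' => TensorProduct.tmul_add _ _ _))
      (by
        intro x x'
        ext n
        exact (congrArg (fun t : S ⊗[R] S => (t ⊗ₜ[S, (ι₂ R S).hom] n : E₂ R S N))
          (TensorProduct.add_tmul x x' (1 : S))).trans (TensorProduct.add_tmul _ _ _))

lemma thetaInvAux_apply (x : S) (n : N) :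
    thetaInvAux R S N x n = ((x ⊗ₜ[R] (1 : S)) ⊗ₜ[S, (ι₂ R S).hom] n : E₂ R S N) := rfl

lemma thetaInvAux_balanced (r : R) (x : S) (n : N) :
    thetaInvAux R S N (algebraMap R S r * x) n = thetaInvAux R S N x (algebraMap R S r • n) := by
  rw [thetaInvAux_apply, thetaInvAux_apply]
  have h1 : ((algebraMap R S r * x) ⊗ₜ[R] (1 : S) : S ⊗[R] S) =
      (ι₂ R S).hom (algebraMap R S r) * (x ⊗ₜ[R] (1 : S)) := by
    change ((algebraMap R S r * x) ⊗ₜ[R] (1 : S) : S ⊗[R] S) =
      ((1 : S) ⊗ₜ[R] (algebraMap R S r)) * (x ⊗ₜ[R] (1 : S))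
    rw [Algebra.TensorProduct.tmul_mul_tmul, one_mul, mul_one, ← Algebra.smul_def,
      TensorProduct.smul_tmul, Algebra.algebraMap_eq_smul_one]
  rw [h1]
  exact TensorProduct.smul_tmul (R := S) (R' := S)
    (M := (restrictScalars (ι₂ R S).hom).obj (ModuleCat.of (S ⊗[R] S) (S ⊗[R] S)))
    (N := N) (algebraMap R S r) (x ⊗ₜ[R] (1 : S)) n

/-- the inverse of `theta` -/
noncomputable def thetaInv : TN R S N →+ E₂ R S N :=
  TensorProduct.liftAddHom (R := R) (M := (restrictScalars (f₀ R S).hom).obj (ModuleCat.of S S))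
    (N := (restrictScalars (f₀ R S).hom).obj N)
    (thetaInvAux R S N) (fun r x n => thetaInvAux_balanced R S N r x n)

lemma thetaInv_tmul (x : S) (n : N) :
    thetaInv R S N (x ⊗ₜ[R, (f₀ R S).hom] (n : (restrictScalars (f₀ R S).hom).obj N)) =
      ((x ⊗ₜ[R] (1 : S)) ⊗ₜ[S, (ι₂ R S).hom] n : E₂ R S N) := rfl

lemma thetaInv_theta (w : E₂ R S N) : thetaInv R S N (theta R S N w) = w := by
  have h := E₂_ext R S N ((thetaInv R S N).comp (theta R S N)) (AddMonoidHom.id _) (by
    intro x n
    simp only [AddMonoidHom.comp_apply, AddMonoidHom.id_apply]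
    rw [theta_gen, thetaInv_tmul, ExtendScalars.smul_tmul, mul_one]
    rfl)
  exact DFunLike.congr_fun h w

lemma theta_injective : Function.Injective (theta R S N) :=
  Function.LeftInverse.injective (thetaInv_theta R S N)

end Groth.Agent.Lib.FFDescH3
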