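import Mathlib
import Groth.Agent.Lib.FFDesc3b_helper3

set_option autoImplicit false
set_option linter.all false
set_option maxHeartbeats 1600000
set_option backward.isDefEq.respectTransparency false
set_option backward.isDefEq.respectTransparency.types false
set_option backward.defeqAttrib.useBackward true

universe u

open CategoryTheory Opposite Bicategory ModuleCat ChangeOfRings TensorProduct

namespace Groth.Agent.Lib.FFDescH3

variable (R S : Type u) [CommRing R] [CommRing S] [Algebra R S]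

/-- the triple tensor product -/
abbrev T₃ : CommRingCat.{u} := CommRingCat.of (S ⊗[R] (S ⊗[R] S))

/-- `x ⊗ y ↦ x ⊗ (y ⊗ 1)` -/
abbrev p₁₂ : T₂ R S ⟶ T₃ R S :=
  CommRingCat.ofHom (Algebra.TensorProduct.map (AlgHom.id R S)
    (Algebra.TensorProduct.includeLeft (R := R) (S := R) (A := S) (B := S))).toRingHom

/-- `x ⊗ y ↦ x ⊗ (1 ⊗ y)` -/
abbrev p₁₃ : T₂ R S ⟶ T₃ R S :=
  CommRingCat.ofHom (Algebra.TensorProduct.map (AlgHom.id R S)
    (Algebra.TensorProduct.includeRight (R := R) (A := S) (B := S))).toRingHom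

/-- `t ↦ 1 ⊗ t` -/
abbrev p₂₃ : T₂ R S ⟶ T₃ R S :=
  CommRingCat.ofHom (Algebra.TensorProduct.includeRight (R := R) (A := S) (B := S ⊗[R] S)).toRingHom

/-- `x ↦ x ⊗ 1` -/
abbrev j₁ : S₀ S ⟶ T₃ R S :=
  CommRingCat.ofHom (Algebra.TensorProduct.includeLeftRingHom (R := R) (A := S) (B := S ⊗[R] S))

/-- `y ↦ 1 ⊗ (y ⊗ 1)` -/
abbrev j₂ : S₀ S ⟶ T₃ R S := ι₁ R S ≫ p₂₃ R S

/-- `z ↦ 1 ⊗ (1 ⊗ z)` -/
abbrev j₃ : S₀ S ⟶ T₃ R S := ι₂ R S ≫ p₂₃ R S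

lemma p₁₂_tmul (x y : S) : (p₁₂ R S).hom (x ⊗ₜ[R] y) = x ⊗ₜ[R] (y ⊗ₜ[R] (1 : S)) := rfl
lemma p₁₃_tmul (x y : S) : (p₁₃ R S).hom (x ⊗ₜ[R] y) = x ⊗ₜ[R] ((1 : S) ⊗ₜ[R] y) := rfl
lemma p₂₃_apply (t : S ⊗[R] S) : (p₂₃ R S).hom t = (1 : S) ⊗ₜ[R] t := rfl
lemma j₁_apply (x : S) : (j₁ R S).hom x = x ⊗ₜ[R] (1 : S ⊗[R] S) := rfl
lemma ι₁_apply (x : S) : (ι₁ R S).hom x = x ⊗ₜ[R] (1 : S) := rfl
lemma ι₂_apply (x : S) : (ι₂ R S).hom x = (1 : S) ⊗ₜ[R] x := rfl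

lemma ι₁_p₁₂ : ι₁ R S ≫ p₁₂ R S = j₁ R S := by
  ext x
  change (p₁₂ R S).hom ((ι₁ R S).hom x) = (j₁ R S).hom x
  rw [ι₁_apply, p₁₂_tmul, j₁_apply, Algebra.TensorProduct.one_def]

lemma ι₂_p₁₂ : ι₂ R S ≫ p₁₂ R S = j₂ R S := by
  ext x
  change (p₁₂ R S).hom ((ι₂ R S).hom x) = (p₂₃ R S).hom ((ι₁ R S).hom x)
  rw [ι₂_apply, p₁₂_tmul, ι₁_apply, p₂₃_apply]

lemma ι₁_p₁₃ : ι₁ R S ≫ p₁₃ R S = j₁ R S := by
  ext x
  change (p₁₃ R S).hom ((ι₁ R S).hom x) = (j₁ R S).hom x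
  rw [ι₁_apply, p₁₃_tmul, j₁_apply, Algebra.TensorProduct.one_def]

lemma ι₂_p₁₃ : ι₂ R S ≫ p₁₃ R S = j₃ R S := by
  ext x
  change (p₁₃ R S).hom ((ι₂ R S).hom x) = (p₂₃ R S).hom ((ι₂ R S).hom x)
  rw [ι₂_apply, p₁₃_tmul, p₂₃_apply]

lemma w₁₂ : f₀ R S ≫ j₁ R S = f₀ R S ≫ j₂ R S := by
  rw [← ι₁_p₁₂, ← ι₂_p₁₂, ← Category.assoc, w₂, Category.assoc]

lemma w₂₃ : f₀ R S ≫ j₂ R S = f₀ R S ≫ j₃ R S := by
  change f₀ R S ≫ ι₁ R S ≫ p₂₃ R S = f₀ R S ≫ ι₂ R S ≫ p₂₃ R S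
  rw [← Category.assoc, w₂, Category.assoc]

variable (N : ModuleCat.{u} S)

/-- `T₃ ⊗_{j₃} N` -/
noncomputable abbrev E₃ : ModuleCat.{u} (S ⊗[R] (S ⊗[R] S)) := (extendScalars (j₃ R S).hom).obj N

/-- `v ↦ x ⊗ v` as an additive map -/
noncomputable def tmulL (M : ModuleCat.{u} S) (x : S) : M →+ TN R S M :=
  AddMonoidHom.mk' (fun v => (x ⊗ₜ[R, (f₀ R S).hom] (v : (restrictScalars (f₀ R S).hom).obj M) : TN R S M))
    (fun v v' => TensorProduct.tmul_add _ _ _)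

lemma tmulL_apply (M : ModuleCat.{u} S) (x : S) (v : M) :
    tmulL R S M x v = (x ⊗ₜ[R, (f₀ R S).hom] (v : (restrictScalars (f₀ R S).hom).obj M) : TN R S M) := rfl

lemma phi_smul (r : R) (t : S ⊗[R] S) (n : N) :
    phi R S N (r • t) n = (algebraMap R S r) • phi R S N t n := by
  have h : r • t = (ι₁ R S).hom (algebraMap R S r) * t := by
    rw [Algebra.smul_def, Algebra.TensorProduct.algebraMap_apply]
    rfl
  rw [h, ← theta_tmul, ← theta_tmul, ← theta_smul, ExtendScalars.smul_tmul]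

/-- auxiliary triadditive map -/
noncomputable def ThetaAux : S →+ (S ⊗[R] S) →+ N →+ TN R S (TN R S N) :=
  AddMonoidHom.mk' (fun x => (AddMonoidHom.compHom (tmulL R S (TN R S N) x)).comp (phi R S N))
    (by
      intro x x'
      refine AddMonoidHom.ext (fun t => AddMonoidHom.ext (fun n => ?_))
      exact TensorProduct.add_tmul _ _ _)

lemma ThetaAux_apply (x : S) (t : S ⊗[R] S) (n : N) :
    ThetaAux R S N x t n =
      (x ⊗ₜ[R, (f₀ R S).hom] (phi R S N t n : (restrictScalars (f₀ R S).hom).obj (TN R S N)) :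
        TN R S (TN R S N)) := rfl

/-- auxiliary biadditive map -/
noncomputable def Theta₁ : (S ⊗[R] (S ⊗[R] S)) →+ N →+ TN R S (TN R S N) :=
  TensorProduct.liftAddHom (ThetaAux R S N) (by
    intro r x t
    refine AddMonoidHom.ext (fun n => ?_)
    rw [ThetaAux_apply, ThetaAux_apply, phi_smul]
    have h0 : (r • x : S) = (f₀ R S).hom r * x := Algebra.smul_def r x
    rw [h0]
    exact TensorProduct.smul_tmul (R := R) (R' := R)
      (M := (restrictScalars (f₀ R S).hom).obj (ModuleCat.of S S))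
      (N := (restrictScalars (f₀ R S).hom).obj (TN R S N)) r x (phi R S N t n))

lemma Theta₁_tmul (x : S) (t : S ⊗[R] S) (n : N) :
    Theta₁ R S N (x ⊗ₜ[R] t) n =
      (x ⊗ₜ[R, (f₀ R S).hom] (phi R S N t n : (restrictScalars (f₀ R S).hom).obj (TN R S N)) :
        TN R S (TN R S N)) := rfl

lemma Theta₁_balanced (s : S) (u : S ⊗[R] (S ⊗[R] S)) (n : N) :
    Theta₁ R S N ((j₃ R S).hom s * u) n = Theta₁ R S N u (s • n) := by
  induction u using TensorProduct.induction_on with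
  | zero => simp
  | tmul x t =>
    have h : (j₃ R S).hom s * (x ⊗ₜ[R] t) = x ⊗ₜ[R] ((ι₂ R S).hom s * t) := by
      change ((1 : S) ⊗ₜ[R] ((ι₂ R S).hom s)) * (x ⊗ₜ[R] t) = _
      rw [Algebra.TensorProduct.tmul_mul_tmul, one_mul]
    rw [h, Theta₁_tmul, Theta₁_tmul, phi_balanced]
  | add u u' h h' => rw [mul_add, map_add, map_add, AddMonoidHom.add_apply, AddMonoidHom.add_apply, h, h']

/-- the comparison map `T₃ ⊗_{j₃} N → S ⊗_R (S ⊗_R N)` -/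
noncomputable def Theta : E₃ R S N →+ TN R S (TN R S N) :=
  TensorProduct.liftAddHom (R := S)
    (M := (restrictScalars (j₃ R S).hom).obj (ModuleCat.of (S ⊗[R] (S ⊗[R] S)) (S ⊗[R] (S ⊗[R] S))))
    (N := N) (Theta₁ R S N) (fun s u n => Theta₁_balanced R S N s u n)

lemma Theta_tmul (x : S) (t : S ⊗[R] S) (n : N) :
    Theta R S N ((x ⊗ₜ[R] t) ⊗ₜ[S, (j₃ R S).hom] n) =
      (x ⊗ₜ[R, (f₀ R S).hom]
        (theta R S N (t ⊗ₜ[S, (ι₂ R S).hom] n) : (restrictScalars (f₀ R S).hom).obj (TN R S N)) :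
        TN R S (TN R S N)) := rfl

end Groth.Agent.Lib.FFDescH3
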