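import Mathlib
import Groth.Agent.Lib.FFDesc3_helper3
import Groth.Agent.Lib.FFDesc4a_helper3

set_option autoImplicit false
set_option linter.all false
set_option maxHeartbeats 1600000
set_option backward.isDefEq.respectTransparency false
set_option backward.isDefEq.respectTransparency.types false
set_option backward.defeqAttrib.useBackward true

universe u

open CategoryTheory Opposite Bicategory ModuleCat ChangeOfRings TensorProduct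

namespace Groth.Agent.Lib.FFDescH3

variable (R S : Type u) [CommRing R] [CommRing S] [Algebra R S]

variable (N : ModuleCat.{u} S)

/-- the comultiplication of the comonad, at `N` -/
noncomputable abbrev dlt : TN R S N ⟶ TN R S (TN R S N) :=
  (extendScalars (f₀ R S).hom).map
    ((extendRestrictScalarsAdj (f₀ R S).hom).unit.app ((restrictScalars (f₀ R S).hom).obj N))

lemma dlt_tmul (x : S) (n : N) :
    dlt R S N (x ⊗ₜ[R, (f₀ R S).hom] (n : (restrictScalars (f₀ R S).hom).obj N)) =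
      (x ⊗ₜ[R, (f₀ R S).hom]
        (((1 : S) ⊗ₜ[R, (f₀ R S).hom] (n : (restrictScalars (f₀ R S).hom).obj N) : TN R S N) :
          (restrictScalars (f₀ R S).hom).obj (TN R S N)) : TN R S (TN R S N)) := rfl

/-- Claim 1 on generators -/
lemma claim1_gen (x : S) (n : N) :
    Theta R S N (cI (ι₂ R S) (p₁₃ R S) (j₃ R S) (ι₂_p₁₃ R S) N
      ((1 : S ⊗[R] (S ⊗[R] S)) ⊗ₜ[S ⊗[R] S, (p₁₃ R S).hom]
        (((ι₁ R S).hom x) • ((1 : S ⊗[R] S) ⊗ₜ[S, (ι₂ R S).hom] n) : E₂ R S N))) =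
    dlt R S N (theta R S N (((ι₁ R S).hom x) • ((1 : S ⊗[R] S) ⊗ₜ[S, (ι₂ R S).hom] n))) := by
  rw [theta_gen, dlt_tmul]
  rw [one_tmul_smul (p₁₃ R S) (E₂ R S N), LinearMap.map_smul, cI_one_tmul_one_tmul,
    ExtendScalars.smul_tmul, mul_one, ι₁_apply, p₁₃_tmul, Theta_tmul, ← Algebra.TensorProduct.one_def]
  have h := theta_gen R S N 1 n
  rw [map_one, one_smul] at h
  rw [h]

/-- Claim 1 -/
lemma claim1 (w : E₂ R S N) :
    Theta R S N (cI (ι₂ R S) (p₁₃ R S) (j₃ R S) (ι₂_p₁₃ R S) N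
      ((1 : S ⊗[R] (S ⊗[R] S)) ⊗ₜ[S ⊗[R] S, (p₁₃ R S).hom] w)) =
    dlt R S N (theta R S N w) := by
  have h := E₂_ext R S N
    ((Theta R S N).comp
      ((cI (ι₂ R S) (p₁₃ R S) (j₃ R S) (ι₂_p₁₃ R S) N).hom.toAddMonoidHom.comp
        (oneT (p₁₃ R S) (E₂ R S N))))
    ((dlt R S N).hom.toAddMonoidHom.comp (theta R S N))
    (fun x n => claim1_gen R S N x n)
  exact DFunLike.congr_fun h w

/-- Claim 3 on generators -/
lemma claim3_gen (x y : S) (m : N) :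
    Theta R S N (((j₁ R S).hom x) • cI (ι₂ R S) (p₂₃ R S) (j₃ R S) rfl N
      ((1 : S ⊗[R] (S ⊗[R] S)) ⊗ₜ[S ⊗[R] S, (p₂₃ R S).hom]
        (((ι₁ R S).hom y) • ((1 : S ⊗[R] S) ⊗ₜ[S, (ι₂ R S).hom] m) : E₂ R S N))) =
    tmulL R S (TN R S N) x
      (theta R S N (((ι₁ R S).hom y) • ((1 : S ⊗[R] S) ⊗ₜ[S, (ι₂ R S).hom] m))) := by
  rw [theta_gen, tmulL_apply]
  rw [one_tmul_smul (p₂₃ R S) (E₂ R S N), LinearMap.map_smul, cI_one_tmul_one_tmul, smul_smul,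
    ExtendScalars.smul_tmul, mul_one]
  have h1 : (j₁ R S).hom x * (p₂₃ R S).hom ((ι₁ R S).hom y) = x ⊗ₜ[R] (y ⊗ₜ[R] (1 : S)) := by
    rw [j₁_apply, ι₁_apply, p₂₃_apply, Algebra.TensorProduct.tmul_mul_tmul, mul_one, one_mul]
  rw [h1, Theta_tmul, theta_tmul_tmul, one_smul]

/-- Claim 3 -/
lemma claim3 (x : S) (v : E₂ R S N) :
    Theta R S N (((j₁ R S).hom x) • cI (ι₂ R S) (p₂₃ R S) (j₃ R S) rfl N
      ((1 : S ⊗[R] (S ⊗[R] S)) ⊗ₜ[S ⊗[R] S, (p₂₃ R S).hom] v)) =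
    tmulL R S (TN R S N) x (theta R S N v) := by
  have h := E₂_ext R S N
    ((Theta R S N).comp
      ((DistribMulAction.toAddMonoidHom (E₃ R S N) ((j₁ R S).hom x)).comp
        ((cI (ι₂ R S) (p₂₃ R S) (j₃ R S) rfl N).hom.toAddMonoidHom.comp
          (oneT (p₂₃ R S) (E₂ R S N)))))
    ((tmulL R S (TN R S N) x).comp (theta R S N))
    (fun y m => claim3_gen R S N x y m)
  exact DFunLike.congr_fun h v

section descent

variable (D : F.{u}.DescentData (fun _ : PUnit.{u + 1} => (f₀ R S).op))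

/-- the functor `T` applied to the structure map -/
noncomputable abbrev Ta : TN R S (N₀ R S D) ⟶ TN R S (TN R S (N₀ R S D)) :=
  (extendScalars (f₀ R S).hom).map ((restrictScalars (f₀ R S).hom).map (aHom R S D))

lemma Ta_tmul (x : S) (n : N₀ R S D) :
    Ta R S D (x ⊗ₜ[R, (f₀ R S).hom] (n : (restrictScalars (f₀ R S).hom).obj (N₀ R S D))) =
      tmulL R S (TN R S (N₀ R S D)) x (aFun R S D n) := rfl

lemma p₁₂_ι₁_apply (x : S) : (p₁₂ R S).hom ((ι₁ R S).hom x) = (j₁ R S).hom x := by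
  rw [ι₁_apply, p₁₂_tmul, j₁_apply, Algebra.TensorProduct.one_def]

/-- Claim 2 on generators -/
lemma claim2_gen (x : S) (n : N₀ R S D) :
    Theta R S (N₀ R S D) (Hm (f₀ R S) D (j₂ R S) (j₃ R S) (w₂₃ R S)
      (cI (ι₂ R S) (p₁₂ R S) (j₂ R S) (ι₂_p₁₂ R S) (N₀ R S D)
        ((1 : S ⊗[R] (S ⊗[R] S)) ⊗ₜ[S ⊗[R] S, (p₁₂ R S).hom]
          (((ι₁ R S).hom x) • ((1 : S ⊗[R] S) ⊗ₜ[S, (ι₂ R S).hom] n) : E₂ R S (N₀ R S D))))) =
    Ta R S D (theta R S (N₀ R S D)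
      (((ι₁ R S).hom x) • ((1 : S ⊗[R] S) ⊗ₜ[S, (ι₂ R S).hom] n))) := by
  rw [theta_gen, Ta_tmul]
  rw [one_tmul_smul (p₁₂ R S) (E₂ R S (N₀ R S D)), LinearMap.map_smul, cI_one_tmul_one_tmul,
    LinearMap.map_smul,
    Hm_pull_apply (f₀ R S) D (ι₁ R S) (ι₂ R S) (w₂ R S) (p₂₃ R S) (j₂ R S) (j₃ R S) rfl rfl
      (w₂₃ R S) n, p₁₂_ι₁_apply, claim3]
  rfl

/-- Claim 2 -/
lemma claim2 (w : E₂ R S (N₀ R S D)) :
    Theta R S (N₀ R S D) (Hm (f₀ R S) D (j₂ R S) (j₃ R S) (w₂₃ R S)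
      (cI (ι₂ R S) (p₁₂ R S) (j₂ R S) (ι₂_p₁₂ R S) (N₀ R S D)
        ((1 : S ⊗[R] (S ⊗[R] S)) ⊗ₜ[S ⊗[R] S, (p₁₂ R S).hom] w))) =
    Ta R S D (theta R S (N₀ R S D) w) := by
  have h := E₂_ext R S (N₀ R S D)
    ((Theta R S (N₀ R S D)).comp
      ((Hm (f₀ R S) D (j₂ R S) (j₃ R S) (w₂₃ R S)).hom.toAddMonoidHom.comp
        ((cI (ι₂ R S) (p₁₂ R S) (j₂ R S) (ι₂_p₁₂ R S) (N₀ R S D)).hom.toAddMonoidHom.comp
          (oneT (p₁₂ R S) (E₂ R S (N₀ R S D))))))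
    ((Ta R S D).hom.toAddMonoidHom.comp (theta R S (N₀ R S D)))
    (fun x n => claim2_gen R S D x n)
  exact DFunLike.congr_fun h w

/-- coassociativity -/
lemma coassoc_aHom (n : N₀ R S D) :
    dlt R S (N₀ R S D) (aHom R S D n) = Ta R S D (aHom R S D n) := by
  rw [aHom_apply]
  unfold aFun
  rw [← claim1, ← claim2]
  congr 1
  rw [← Hm_pull_apply (f₀ R S) D (ι₁ R S) (ι₂ R S) (w₂ R S) (p₁₃ R S) (j₁ R S) (j₃ R S)
      (ι₁_p₁₃ R S) (ι₂_p₁₃ R S) ((w₁₂ R S).trans (w₂₃ R S)) n,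
    ← Hm_pull_apply (f₀ R S) D (ι₁ R S) (ι₂ R S) (w₂ R S) (p₁₂ R S) (j₁ R S) (j₂ R S)
      (ι₁_p₁₂ R S) (ι₂_p₁₂ R S) (w₁₂ R S) n,
    ← Hm_comp (f₀ R S) D (j₁ R S) (j₂ R S) (j₃ R S) (w₁₂ R S) (w₂₃ R S), ModuleCat.comp_apply]

end descent

end Groth.Agent.Lib.FFDescH3
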