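import Mathlib
import Groth.Agent.Lib.FFDesc1_helper3

set_option autoImplicit false
set_option linter.all false
set_option maxHeartbeats 1600000
set_option backward.isDefEq.respectTransparency false
set_option backward.isDefEq.respectTransparency.types false
set_option backward.defeqAttrib.useBackward true

universe u

open CategoryTheory Opposite Bicategory ModuleCat ChangeOfRings TensorProduct

namespace Groth.Agent.Lib.FFDescH3

section descent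

variable {R₀ S₀ : CommRingCat.{u}} (f : R₀ ⟶ S₀)
  (D : F.{u}.DescentData (fun _ : PUnit.{u + 1} => f.op))

/-- the transition morphisms of the canonical descent datum -/
lemma ofObj_hom_eq (M : ModuleCat.{u} R₀) {T : CommRingCat.{u}} (a₁ a₂ : S₀ ⟶ T)
    (w : f ≫ a₁ = f ≫ a₂) :
    ((F.{u}.toDescentData (fun _ : PUnit.{u + 1} => f.op)).obj M).hom
      (i₁ := PUnit.unit) (i₂ := PUnit.unit) (f ≫ a₁).op a₁.op a₂.op rfl (by rw [← op_comp, w]) =
    cI f a₁ (f ≫ a₁) rfl M ≫ cH f a₂ (f ≫ a₁) w.symm M := by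
  rw [cI_def, cH_def]
  rfl

theorem iso_of_invariant (M : ModuleCat.{u} R₀) (e : (extendScalars f.hom).obj M ≅ DN f D)
    (hinv : ∀ (T : CommRingCat.{u}) (a₁ a₂ : S₀ ⟶ T) (w : f ≫ a₁ = f ≫ a₂) (m : M),
      Hm f D a₁ a₂ w ((1 : T) ⊗ₜ[S₀, a₁.hom] (e.hom ((1 : S₀) ⊗ₜ[R₀, f.hom] m))) =
        (1 : T) ⊗ₜ[S₀, a₂.hom] (e.hom ((1 : S₀) ⊗ₜ[R₀, f.hom] m))) :
    Nonempty ((F.{u}.toDescentData (fun _ : PUnit.{u + 1} => f.op)).obj M ≅ D) := by
  refine ⟨Pseudofunctor.DescentData.isoMk (fun _ => e) ?_⟩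
  intro Y q i₁ i₂ f₁ f₂ hf₁ hf₂
  obtain ⟨T⟩ := Y
  obtain ⟨a₁, rfl⟩ : ∃ a₁ : S₀ ⟶ T, f₁ = a₁.op := ⟨f₁.unop, rfl⟩
  obtain ⟨a₂, rfl⟩ : ∃ a₂ : S₀ ⟶ T, f₂ = a₂.op := ⟨f₂.unop, rfl⟩
  subst hf₁
  have w : f ≫ a₁ = f ≫ a₂ := by
    apply Quiver.Hom.op_inj
    rw [op_comp, op_comp]
    exact hf₂.symm
  cases i₁
  cases i₂
  have key : (extendScalars a₁.hom).map e.hom ≫ Hm f D a₁ a₂ w =
      (cI f a₁ (f ≫ a₁) rfl M ≫ cH f a₂ (f ≫ a₁) w.symm M) ≫
        (extendScalars a₂.hom).map e.hom := by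
    haveI : Epi (cH f a₁ (f ≫ a₁) rfl M) := by
      unfold cH
      infer_instance
    rw [← cancel_epi (cH f a₁ (f ≫ a₁) rfl M)]
    apply ExtendScalars.hom_ext
    intro m
    simp only [ModuleCat.comp_apply]
    rw [cH_one_tmul, ExtendScalars.map_tmul, hinv, cI_one_tmul_one_tmul, cH_one_tmul,
      ExtendScalars.map_tmul]
  rw [← ofObj_hom_eq f M a₁ a₂ w] at key
  exact key

end descent

end Groth.Agent.Lib.FFDescH3
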