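import Mathlib
import Groth.Agent.Lib.FFDesc3b_helper3
import Groth.Agent.Lib.FFDesc4b_helper3
import Groth.Agent.Lib.FFDesc5a_helper3

set_option autoImplicit false
set_option linter.all false
set_option maxHeartbeats 1600000
set_option backward.isDefEq.respectTransparency false
set_option backward.isDefEq.respectTransparency.types false
set_option backward.defeqAttrib.useBackward true

universe u

open CategoryTheory Opposite Bicategory ModuleCat ChangeOfRings TensorProduct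

namespace Groth.Agent.Lib.FFDescH3

theorem cmpEquiv {A B : Type u} [CommRing A] [CommRing B] {f : A →+* B} (hf : f.FaithfullyFlat) :
    (Comonad.comparison (extendRestrictScalarsAdj.{u,u,u} f)).IsEquivalence := by
  have := preservesFiniteLimits_extendScalars_of_flat hf.flat
  have := reflectsIsomorphisms_extendScalars_of_faithfullyFlat hf
  have h1 : Comonad.HasEqualizerOfIsCosplitPair (extendScalars.{u,u,u} f) := ⟨inferInstance⟩
  have h2 : Comonad.PreservesLimitOfIsCosplitPair (extendScalars.{u,u,u} f) := ⟨inferInstance⟩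
  exact (Comonad.comonadicOfHasPreservesFSplitEqualizersOfReflectsIsomorphisms
      (extendRestrictScalarsAdj f)).eqv

variable (R S : Type u) [CommRing R] [CommRing S] [Algebra R S]

lemma exists_lift {T : CommRingCat.{u}} (a₁ a₂ : S₀ S ⟶ T) (w : f₀ R S ≫ a₁ = f₀ R S ≫ a₂) :
    ∃ g : T₂ R S ⟶ T, ι₁ R S ≫ g = a₁ ∧ ι₂ R S ≫ g = a₂ := by
  obtain ⟨l, h₁, h₂⟩ := Limits.PushoutCocone.IsColimit.desc'
    (CommRingCat.pushoutCoconeIsColimit R S S) a₁ a₂ w
  exact ⟨l, h₁, h₂⟩

section descent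

variable (D : F.{u}.DescentData (fun _ : PUnit.{u + 1} => (f₀ R S).op))

/-- the coalgebra attached to a descent datum -/
noncomputable def coalg :
    (extendRestrictScalarsAdj.{u,u,u} (f₀ R S).hom).toComonad.Coalgebra where
  A := N₀ R S D
  a := aHom R S D
  counit := by
    apply ModuleCat.hom_ext
    apply LinearMap.ext
    intro n
    exact counit_aHom R S D n
  coassoc := by
    apply ModuleCat.hom_ext
    apply LinearMap.ext
    intro n
    exact coassoc_aHom R S D n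

lemma H₂_invariant (n : N₀ R S D) (h : aFun R S D n = tmulL R S (N₀ R S D) 1 n) :
    H₂ R S D ((1 : S ⊗[R] S) ⊗ₜ[S, (ι₁ R S).hom] n) = (1 : S ⊗[R] S) ⊗ₜ[S, (ι₂ R S).hom] n := by
  apply theta_injective R S (N₀ R S D)
  have h1 := theta_gen R S (N₀ R S D) 1 n
  rw [map_one, one_smul] at h1
  rw [h1]
  exact h

lemma Hm_invariant {T : CommRingCat.{u}} (a₁ a₂ : S₀ S ⟶ T) (w : f₀ R S ≫ a₁ = f₀ R S ≫ a₂)
    (n : N₀ R S D) (h : aFun R S D n = tmulL R S (N₀ R S D) 1 n) :
    Hm (f₀ R S) D a₁ a₂ w ((1 : T) ⊗ₜ[S, a₁.hom] n) = (1 : T) ⊗ₜ[S, a₂.hom] n := by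
  obtain ⟨g, h₁, h₂⟩ := exists_lift R S a₁ a₂ w
  rw [Hm_pull_apply (f₀ R S) D (ι₁ R S) (ι₂ R S) (w₂ R S) g a₁ a₂ h₁ h₂ w n,
    H₂_invariant R S D n h, cI_one_tmul_one_tmul]

theorem exists_descended [Module.FaithfullyFlat R S] :
    ∃ (M : ModuleCat.{u} R) (e : (extendScalars (f₀ R S).hom).obj M ≅ N₀ R S D),
      ∀ m : M, aFun R S D (e.hom ((1 : S) ⊗ₜ[R, (f₀ R S).hom] m)) =
        tmulL R S (N₀ R S D) 1 (e.hom ((1 : S) ⊗ₜ[R, (f₀ R S).hom] m)) := by
  have hf : (f₀ R S).hom.FaithfullyFlat :=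
    RingHom.faithfullyFlat_algebraMap_iff.mpr inferInstance
  haveI := cmpEquiv hf
  let i := (Comonad.comparison (extendRestrictScalarsAdj.{u,u,u} (f₀ R S).hom)).objObjPreimageIso
    (coalg R S D)
  refine ⟨_, (Comonad.forget _).mapIso i, ?_⟩
  intro m
  have h := i.hom.h
  have h2 := congrArg (fun φ => φ.hom ((1 : S) ⊗ₜ[R, (f₀ R S).hom] m)) h
  exact h2.symm

theorem main [Module.FaithfullyFlat R S] :
    ∃ M : ModuleCat.{u} R, Nonempty
      ((F.{u}.toDescentData (fun _ : PUnit.{u + 1} => (f₀ R S).op)).obj M ≅ D) := by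
  obtain ⟨M, e, he⟩ := exists_descended R S D
  exact ⟨M, iso_of_invariant (f₀ R S) D M e (fun T a₁ a₂ w m =>
    Hm_invariant R S D a₁ a₂ w _ (he m))⟩

end descent

end Groth.Agent.Lib.FFDescH3
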