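import Mathlib
import Groth.Prelude
import Groth.Agent.Lib.FFDescPic1_helper2
import Groth.Agent.Lib.FlatBC2_helper2
import Groth.Agent.Lib.H0Lift4_helper2
import Groth.Agent.Lib.Tens41_helper8

/-!
# An invertible module trivialised by a faithfully flat base change is trivial when `H^0(X, O_X)`
is semilocal (helper2)

`A → B` faithfully flat, `X` quasi-compact quasi-separated over `A` with `Γ(X, O_X)` semilocal,
`L` invertible on `X` with `g'^* L ≅ O_{X_B}`: then `L ≅ O_X`.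
APPEND-ONLY once landed.
-/

set_option autoImplicit false
universe u
open CategoryTheory CategoryTheory.Limits AlgebraicGeometry TopologicalSpace Opposite TensorProduct

namespace Groth.Agent.Lib.FFDescPicH2

open Groth.Agent.Lib.FlatBCH2 Groth.Agent.Lib.FormalFnH2 Groth.Agent.Lib.H0LiftH2
open QcqsLoc QCohExtn GenLocH8 FLFH8 TensH8

section Geo

variable {A B : Type u} [CommRing A] [CommRing B] [Algebra A B]
  {X X' : Scheme.{u}} [X.Over (Spec (CommRingCat.of A))] [X'.Over (Spec (CommRingCat.of B))]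
  {g' : X' ⟶ X}
  (hsq : IsPullback g' (X' ↘ Spec (CommRingCat.of B)) (X ↘ Spec (CommRingCat.of A))
    (Spec.map (CommRingCat.ofHom (algebraMap A B))))

include hsq in
/-- the ring of global functions of the base change is the pushout -/
theorem isPushout_ring_top [Module.Flat A B] [CompactSpace X] [QuasiSeparatedSpace X] :
    IsPushout (CommRingCat.ofHom (rUHom (A := A) (X := X) ⊤))
      (CommRingCat.ofHom (algebraMap A B))
      (g'.appLE ⊤ ⊤ (topLe g'))
      (CommRingCat.ofHom (rUHom (A := B) (X := X') ⊤)) := by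
  have hle : ∀ W : X'.Opens, W ≤ (X' ↘ Spec (CommRingCat.of B)) ⁻¹ᵁ ⊤ := fun W x _ => trivial
  have hle' : ∀ W : X.Opens, W ≤ (X ↘ Spec (CommRingCat.of A)) ⁻¹ᵁ ⊤ := fun W x _ => trivial
  have hle'' : (⊤ : (Spec (CommRingCat.of B)).Opens) ≤
      (Spec.map (CommRingCat.ofHom (algebraMap A B))) ⁻¹ᵁ ⊤ := fun x _ => trivial
  haveI : Flat (Spec.map (CommRingCat.ofHom (algebraMap A B))) := by
    rw [Flat.SpecMap_iff]
    exact (RingHom.flat_algebraMap_iff (R := A) (S := B)).mpr inferInstance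
  have hUY : (⊤ : X'.Opens) = g' ⁻¹ᵁ ⊤ ⊓ (X' ↘ Spec (CommRingCat.of B)) ⁻¹ᵁ ⊤ :=
    le_antisymm (le_inf (topLe g') (hle _)) le_top
  have hVc : IsCompact ((⊤ : X.Opens) : Set X) := by
    rw [Opens.coe_top]
    exact CompactSpace.isCompact_univ (X := X)
  have hVqs : IsQuasiSeparated ((⊤ : X.Opens) : Set X) := by
    rw [Opens.coe_top]
    exact isQuasiSeparated_univ
  have hiso := isIso_pushoutSection_of_isQuasiSeparated_of_flat_right hsq hle'' (hle' ⊤) hUY
    (isAffineOpen_top _) (isAffineOpen_top _) hVc hVqs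
  have hpo := (isIso_pushoutSection_iff hsq hle'' (hle' ⊤) hUY).mp hiso
  refine hpo.of_iso (Scheme.ΓSpecIso (CommRingCat.of A)) (Iso.refl _)
    (Scheme.ΓSpecIso (CommRingCat.of B)) (Iso.refl _) ?_ ?_ ?_ ?_
  · rw [Iso.refl_hom, Category.comp_id, ofHom_rUHom ⊤ (hle' ⊤), Iso.hom_inv_id_assoc]
  · have h3 : (Spec.map (CommRingCat.ofHom (algebraMap A B))).appLE ⊤ ⊤ hle'' =
        (Spec.map (CommRingCat.ofHom (algebraMap A B))).appTop :=
      (Spec.map (CommRingCat.ofHom (algebraMap A B))).appLE_eq_app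
    rw [h3]
    exact Scheme.ΓSpecIso_naturality (CommRingCat.ofHom (algebraMap A B))
  · rw [Iso.refl_hom, Iso.refl_hom, Category.comp_id, Category.id_comp]
  · rw [Iso.refl_hom, Category.comp_id]
    have h4 := ofHom_rUHom (A := B) (X := X') ⊤ (hle _)
    rw [h4, Iso.hom_inv_id_assoc]

include hsq in
/-- **faithfully flat descent of triviality** of an invertible module, semilocal `H^0`. -/
theorem trivial_of_pullback_trivial [Module.FaithfullyFlat A B] [CompactSpace X]
    [QuasiSeparatedSpace X] (hsl : Finite (MaximalSpectrum Γ(X, ⊤))) (L : X.Modules)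
    (hL : PicF.IsInvertible L)
    (θ : (Scheme.Modules.pullback g').obj L ≅ Coh.structureModule X') :
    Nonempty (L ≅ Coh.structureModule X) := by
  haveI := hsl
  haveI : L.IsQuasicoherent := (isCoh_of_isInvertible hL).1
  set P := (Scheme.Modules.pullback g').obj L with hP
  -- the generator of the pullback
  let σ : Γ(P, ⊤) := ap θ.inv ⊤ (toM (1 : Γ(X', ⊤)))
  have hσ : IsGen P ⊤ σ := isGen_of_iso θ.symm (isGen_one ⊤)
  -- algebra structures
  letI aR : Algebra A Γ(X, ⊤) := (rUHom (A := A) (X := X) ⊤).toAlgebra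
  letI aB : Algebra B Γ(X', ⊤) := (rUHom (A := B) (X := X') ⊤).toAlgebra
  letI aRR : Algebra Γ(X, ⊤) Γ(X', ⊤) := (g'.appLE ⊤ ⊤ (topLe g')).hom.toAlgebra
  letI aAR' : Algebra A Γ(X', ⊤) :=
    ((rUHom (A := B) (X := X') ⊤).comp (algebraMap A B)).toAlgebra
  haveI t1 : IsScalarTower A B Γ(X', ⊤) := IsScalarTower.of_algebraMap_eq (fun _ => rfl)
  haveI t2 : IsScalarTower A Γ(X, ⊤) Γ(X', ⊤) :=
    IsScalarTower.of_algebraMap_eq (fun a => (appLE_rUHom g' hsq ⊤ a).symm)
  letI mM : Module A Γ(L, ⊤) := secMod A L ⊤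
  letI mM'B : Module B Γ(P, ⊤) := secMod B P ⊤
  letI mM'A : Module A Γ(P, ⊤) := secModA A B P ⊤
  haveI t3 : IsScalarTower A B Γ(P, ⊤) := secTower A B P ⊤
  haveI t4 : IsScalarTower A Γ(X, ⊤) Γ(L, ⊤) :=
    IsScalarTower.of_algebraMap_smul (fun _ _ => rfl)
  haveI t5 : IsScalarTower B Γ(X', ⊤) Γ(P, ⊤) :=
    IsScalarTower.of_algebraMap_smul (fun _ _ => rfl)
  letI mM'R : Module Γ(X, ⊤) Γ(P, ⊤) := Module.compHom _ (algebraMap Γ(X, ⊤) Γ(X', ⊤))
  haveI t6 : IsScalarTower Γ(X, ⊤) Γ(X', ⊤) Γ(P, ⊤) :=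
    IsScalarTower.of_algebraMap_smul (fun _ _ => rfl)
  -- the comparison map
  let c : Γ(L, ⊤) →ₗ[A] Γ(P, ⊤) :=
    { toFun := fun x => PBH8.cUV g' L (topLe g') x
      map_add' := fun x y => PBH8.cUV_add g' L _ x y
      map_smul' := fun a x => by
        show PBH8.cUV g' L (topLe g') (rUHom (A := A) (X := X) ⊤ a • x) =
          rUHom (A := B) (X := X') ⊤ (algebraMap A B a) • PBH8.cUV g' L (topLe g') x
        rw [PBH8.cUV_smul]
        congr 1
        exact appLE_rUHom g' hsq ⊤ a }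
  have hbc : IsBaseChange B c := isBaseChange_cTop hsq L c (fun m => rfl)
  have hcs : ∀ (r : Γ(X, ⊤)) (m : Γ(L, ⊤)),
      c (r • m) = algebraMap Γ(X, ⊤) Γ(X', ⊤) r • c m :=
    fun r m => PBH8.cUV_smul g' L (topLe g') r m
  have hpo' : Algebra.IsPushout A Γ(X, ⊤) B Γ(X', ⊤) :=
    CommRingCat.isPushout_iff_isPushout.mp (isPushout_ring_top hsq)
  have hpo : Algebra.IsPushout A B Γ(X, ⊤) Γ(X', ⊤) := hpo'.symm
  have hσbij : Function.Bijective (fun r' : Γ(X', ⊤) => r' • σ) := by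
    obtain ⟨h1, h2⟩ := hσ ⊤ le_rfl
    rw [SubExt.rF_self] at h1 h2
    constructor
    · intro r₁ r₂ h
      have h3 : (r₁ - r₂) • σ = 0 := by
        rw [sub_smul]
        exact sub_eq_zero.mpr h
      exact sub_eq_zero.mp (h2 _ h3)
    · intro l
      obtain ⟨c', hc'⟩ := h1 l
      exact ⟨c', hc'.symm⟩
  obtain ⟨s, u, hu, hs⟩ := exists_unit_smul A B Γ(X, ⊤) Γ(X', ⊤) Γ(L, ⊤) Γ(P, ⊤) hpo c hcs hbc
    σ hσbij
  have hG := preimage_genLocus_eq_top g' hL s σ hσ u hu (fun _ => hs)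
  -- surjectivity of the base change
  haveI hsurj : Surjective g' := by
    have h1 : Surjective (Spec.map (CommRingCat.ofHom (algebraMap A B))) := by
      have h2 := (flat_and_surjective_SpecMap_iff (CommRingCat.ofHom (algebraMap A B))).mpr
        ((RingHom.faithfullyFlat_algebraMap_iff (R := A) (S := B)).mpr inferInstance)
      exact h2.2
    exact MorphismProperty.of_isPullback hsq.flip h1
  have hGtop : CohB1.genLocus L (SDivGenH8.unitHom L s) = ⊤ := by
    rw [eq_top_iff]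
    intro x _
    obtain ⟨x', rfl⟩ := g'.surjective x
    have h1 : x' ∈ g' ⁻¹ᵁ CohB1.genLocus L (SDivGenH8.unitHom L s) := by
      rw [hG]
      trivial
    exact h1
  have hgen : IsGen L ⊤ (SecTwist.val (SDivGenH8.unitHom L s) ⊤) :=
    isGen_val_of_le_genLocus _ (le_of_eq hGtop.symm)
  haveI : IsIso (SDivGenH8.unitHom L s) := by
    apply TensH8.isIso_of_isGen_cover
    intro x
    exact ⟨⊤, trivial, toM (1 : Γ(X, ⊤)), isGen_one ⊤, hgen⟩
  exact ⟨(asIso (SDivGenH8.unitHom L s)).symm⟩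

end Geo

end Groth.Agent.Lib.FFDescPicH2
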