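import Mathlib
import Groth.Prelude.Def_Found
import Groth.Prelude.Def_EGA4b
import Groth.Agent.Lib.FFIffDomains_helper3
import Groth.Agent.Lib.RegHomBC_helper3

/-!
# Geometrically regular formal fibres, tested on finite domains (helper3)
APPEND-ONLY once landed.
-/

set_option autoImplicit false
universe u

namespace Groth.Agent.Lib.FFIffDomainsRegH3

open TensorProduct IsLocalRing

section

variable (A : Type u) [CommRing A] [IsNoetherianRing A] [IsLocalRing A]

theorem isNoetherianRing_tensor_cpl (B : Type u) [CommRing B] [Algebra A B] [Module.Finite A B] :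
    IsNoetherianRing (B ⊗[A] EGA4.Cpl A) := by
  obtain ⟨hloc, hnoeth, -⟩ := AnUnramH3.completion_facts A
  haveI := hnoeth
  haveI : IsNoetherianRing (EGA4.Cpl A ⊗[A] B) := IsNoetherianRing.of_finite (EGA4.Cpl A) _
  exact isNoetherianRing_of_ringEquiv _ (Algebra.TensorProduct.comm A (EGA4.Cpl A) B).toRingEquiv

set_option maxSynthPendingDepth 3 in
theorem isRegularRing_tensor_of_domains
    (H : ∀ (B : Type u) [CommRing B] [IsDomain B] [Algebra A B] [Module.Finite A B]
        (q : Ideal (B ⊗[A] EGA4.Cpl A)) [q.IsPrime],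
        q.comap (algebraMap B (B ⊗[A] EGA4.Cpl A)) = ⊥ →
          IsRegularLocalRing (Localization.AtPrime q))
    (p : Ideal A) [p.IsPrime] (k' : Type u) [Field k'] [Algebra A k'] [Algebra p.ResidueField k']
    [IsScalarTower A p.ResidueField k']
    (hfin : Module.Finite p.ResidueField k') :
    IsRegularRing (k' ⊗[A] EGA4.Cpl A) := by
  letI : Algebra (A ⧸ p) k' :=
    ((algebraMap p.ResidueField k').comp (algebraMap (A ⧸ p) p.ResidueField)).toAlgebra
  haveI : IsScalarTower (A ⧸ p) p.ResidueField k' := IsScalarTower.of_algebraMap_eq (fun _ => rfl)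
  haveI : IsScalarTower A (A ⧸ p) k' := IsScalarTower.of_algebraMap_eq (fun a => by
    show algebraMap A k' a =
      algebraMap p.ResidueField k' (algebraMap (A ⧸ p) p.ResidueField (algebraMap A (A ⧸ p) a))
    rw [← IsScalarTower.algebraMap_apply A (A ⧸ p) p.ResidueField,
      ← IsScalarTower.algebraMap_apply A p.ResidueField k'])
  haveI := hfin
  obtain ⟨s, b, hb⟩ := FiniteDimensional.exists_is_basis_integral (A ⧸ p) p.ResidueField k'
  obtain ⟨B, hB⟩ : ∃ B : Subalgebra (A ⧸ p) k', B = Algebra.adjoin (A ⧸ p) (Set.range b) :=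
    ⟨_, rfl⟩
  have hfg : Module.Finite (A ⧸ p) B := by
    rw [hB]
    exact (Module.Finite.iff_fg
      (N := (Algebra.adjoin (A ⧸ p) (Set.range b)).toSubmodule)).mpr
      (fg_adjoin_of_finite (Set.finite_range b) (by rintro _ ⟨i, rfl⟩; exact hb i))
  haveI : IsFractionRing B k' :=
    Groth.Agent.Lib.Japanese.isFractionRing_of_basis_mem (A ⧸ p) p.ResidueField k' b B
      (fun i => by rw [hB]; exact Algebra.subset_adjoin ⟨i, rfl⟩)
  haveI : IsScalarTower A (A ⧸ p) B := IsScalarTower.of_algebraMap_eq (fun a => by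
    apply Subtype.ext
    exact IsScalarTower.algebraMap_apply A (A ⧸ p) k' a)
  haveI : IsScalarTower A B k' := IsScalarTower.of_algebraMap_eq (fun a => rfl)
  haveI : Module.Finite A B := Module.Finite.trans (A ⧸ p) B
  haveI hTnoeth : IsNoetherianRing (B ⊗[A] EGA4.Cpl A) := isNoetherianRing_tensor_cpl A B
  -- `W = T ⊗[B] k'` is a localization of `T = B ⊗[A] Â`
  haveI hloc : IsLocalization
      (Algebra.algebraMapSubmonoid (B ⊗[A] EGA4.Cpl A) (nonZeroDivisors B))
      ((B ⊗[A] EGA4.Cpl A) ⊗[B] k') := IsLocalization.tensor k' (nonZeroDivisors B)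
  haveI hWnoeth : IsNoetherianRing ((B ⊗[A] EGA4.Cpl A) ⊗[B] k') :=
    IsLocalization.isNoetherianRing
      (Algebra.algebraMapSubmonoid (B ⊗[A] EGA4.Cpl A) (nonZeroDivisors B)) _ hTnoeth
  have hW : IsRegularRing ((B ⊗[A] EGA4.Cpl A) ⊗[B] k') := by
    rw [isRegularRing_iff]
    intro Q hQ
    have hcomap : (Q.under (B ⊗[A] EGA4.Cpl A)).comap (algebraMap B (B ⊗[A] EGA4.Cpl A)) = ⊥ := by
      rw [eq_bot_iff]
      intro x hx
      rw [Ideal.mem_bot]
      by_contra hx0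
      have hxm : algebraMap B (B ⊗[A] EGA4.Cpl A) x ∈
          Algebra.algebraMapSubmonoid (B ⊗[A] EGA4.Cpl A) (nonZeroDivisors B) :=
        ⟨x, mem_nonZeroDivisors_of_ne_zero hx0, rfl⟩
      have hu := IsLocalization.map_units ((B ⊗[A] EGA4.Cpl A) ⊗[B] k') ⟨_, hxm⟩
      have hxQ : algebraMap (B ⊗[A] EGA4.Cpl A) ((B ⊗[A] EGA4.Cpl A) ⊗[B] k')
          (algebraMap B (B ⊗[A] EGA4.Cpl A) x) ∈ Q := hx
      exact hQ.ne_top (Ideal.eq_top_of_isUnit_mem _ hxQ hu)
    have h1 := H B (Q.under (B ⊗[A] EGA4.Cpl A)) hcomap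
    exact (Groth.Agent.Lib.NagataCritH3.isRegularLocalRing_under_iff (B ⊗[A] EGA4.Cpl A)
      (Algebra.algebraMapSubmonoid (B ⊗[A] EGA4.Cpl A) (nonZeroDivisors B))
      ((B ⊗[A] EGA4.Cpl A) ⊗[B] k') Q).mp h1
  haveI := hW
  have h1 : IsRegularRing (k' ⊗[B] (B ⊗[A] EGA4.Cpl A)) :=
    IsRegularRing.of_ringEquiv (Algebra.TensorProduct.comm B (B ⊗[A] EGA4.Cpl A) k').toRingEquiv
  haveI := h1
  exact IsRegularRing.of_ringEquiv
      (Algebra.TensorProduct.cancelBaseChange A B B k' (EGA4.Cpl A)).toRingEquiv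

set_option maxSynthPendingDepth 3 in
theorem isRegularLocalRing_of_isRegularHom (hA : CAlg.IsRegularHom A (EGA4.Cpl A))
    (B : Type u) [CommRing B] [IsDomain B] [Algebra A B] [Module.Finite A B]
    (q : Ideal (B ⊗[A] EGA4.Cpl A)) [hq : q.IsPrime]
    (hq0 : q.comap (algebraMap B (B ⊗[A] EGA4.Cpl A)) = ⊥) :
    IsRegularLocalRing (Localization.AtPrime q) := by
  obtain ⟨hloc', hnoeth, -⟩ := AnUnramH3.completion_facts A
  haveI := hnoeth
  haveI : Algebra.EssFiniteType A (FractionRing B) :=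
    Algebra.EssFiniteType.comp A B (FractionRing B)
  haveI hN1 : IsNoetherianRing (FractionRing B ⊗[A] EGA4.Cpl A) :=
    Groth.Agent.Lib.RegHomBCH3.isNoetherianRing_tensor_of_essFiniteType_field A (EGA4.Cpl A)
      (fun p _ => (hA.2 p).1) (FractionRing B)
  haveI hR1 : IsRegularRing (FractionRing B ⊗[A] EGA4.Cpl A) :=
    Groth.Agent.Lib.RegHomBCH3.isRegularRing_baseChange A (EGA4.Cpl A) hA (FractionRing B)
  haveI hloc : IsLocalization
      (Algebra.algebraMapSubmonoid (B ⊗[A] EGA4.Cpl A) (nonZeroDivisors B))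
      ((B ⊗[A] EGA4.Cpl A) ⊗[B] FractionRing B) :=
    IsLocalization.tensor (FractionRing B) (nonZeroDivisors B)
  haveI h2 : IsRegularRing (FractionRing B ⊗[B] (B ⊗[A] EGA4.Cpl A)) :=
    IsRegularRing.of_ringEquiv
      (Algebra.TensorProduct.cancelBaseChange A B B (FractionRing B) (EGA4.Cpl A)).symm.toRingEquiv
  haveI h3 : IsRegularRing ((B ⊗[A] EGA4.Cpl A) ⊗[B] FractionRing B) :=
    IsRegularRing.of_ringEquiv (R := FractionRing B ⊗[B] (B ⊗[A] EGA4.Cpl A))
      (Algebra.TensorProduct.comm B (FractionRing B) (B ⊗[A] EGA4.Cpl A)).toRingEquiv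
  have hd : Disjoint ((Algebra.algebraMapSubmonoid (B ⊗[A] EGA4.Cpl A) (nonZeroDivisors B) :
      Submonoid (B ⊗[A] EGA4.Cpl A)) : Set (B ⊗[A] EGA4.Cpl A)) (q : Set (B ⊗[A] EGA4.Cpl A)) := by
    rw [Set.disjoint_left]
    rintro _ ⟨x, hx, rfl⟩ hxq
    have hx0 : x ∈ q.comap (algebraMap B (B ⊗[A] EGA4.Cpl A)) := hxq
    rw [hq0, Ideal.mem_bot] at hx0
    exact nonZeroDivisors.ne_zero hx hx0
  haveI hQ : (q.map (algebraMap (B ⊗[A] EGA4.Cpl A)
      ((B ⊗[A] EGA4.Cpl A) ⊗[B] FractionRing B))).IsPrime :=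
    IsLocalization.isPrime_of_isPrime_disjoint
      (Algebra.algebraMapSubmonoid (B ⊗[A] EGA4.Cpl A) (nonZeroDivisors B)) _ q hq hd
  have hu : (q.map (algebraMap (B ⊗[A] EGA4.Cpl A)
      ((B ⊗[A] EGA4.Cpl A) ⊗[B] FractionRing B))).under (B ⊗[A] EGA4.Cpl A) = q :=
    IsLocalization.under_map_of_isPrime_disjoint
      (Algebra.algebraMapSubmonoid (B ⊗[A] EGA4.Cpl A) (nonZeroDivisors B)) _ hq hd
  have h4 : IsRegularLocalRing (Localization.AtPrime (q.map (algebraMap (B ⊗[A] EGA4.Cpl A)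
      ((B ⊗[A] EGA4.Cpl A) ⊗[B] FractionRing B)))) := inferInstance
  have h5 := (Groth.Agent.Lib.NagataCritH3.isRegularLocalRing_under_iff (B ⊗[A] EGA4.Cpl A)
      (Algebra.algebraMapSubmonoid (B ⊗[A] EGA4.Cpl A) (nonZeroDivisors B))
      ((B ⊗[A] EGA4.Cpl A) ⊗[B] FractionRing B) _).mpr h4
  have tr : ∀ (r : Ideal (B ⊗[A] EGA4.Cpl A)) [r.IsPrime], r = q →
      IsRegularLocalRing (Localization.AtPrime r) →
      IsRegularLocalRing (Localization.AtPrime q) := by
    intro r _ e h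
    subst e
    exact h
  exact tr _ hu h5

theorem isRegularHom_cpl_iff :
    CAlg.IsRegularHom A (EGA4.Cpl A) ↔
      ∀ (B : Type u) [CommRing B] [IsDomain B] [Algebra A B] [Module.Finite A B]
        (q : Ideal (B ⊗[A] EGA4.Cpl A)) [q.IsPrime],
        q.comap (algebraMap B (B ⊗[A] EGA4.Cpl A)) = ⊥ →
          IsRegularLocalRing (Localization.AtPrime q) := by
  constructor
  · intro hA B _ _ _ _ q _ hq0
    exact isRegularLocalRing_of_isRegularHom A hA B q hq0
  · intro H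
    obtain ⟨hloc, hnoeth, hcompl, hff, -⟩ := AnUnramH3.completion_facts A
    haveI := hnoeth
    haveI := hff
    apply Groth.Agent.Lib.RegFlatH3.isRegularHom_of_forall_finite A (EGA4.Cpl A) inferInstance
      (fun p _ => Groth.Agent.Lib.RegFlatH3.isNoetherianRing_fiber A (EGA4.Cpl A) p)
    intro p _ K _ _ _ _ hfin
    exact isRegularRing_tensor_of_domains A H p K hfin

end

end Groth.Agent.Lib.FFIffDomainsRegH3
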