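import Mathlib

open Polynomial

namespace Groth.Agent.Lib.FFIntegral

universe u

section ideal
variable {A : Type u} [CommRing A] (s a : A)

lemma span_pow_le (n : ℕ) : Ideal.span {a ^ n} ≤ (Ideal.span {s, a}) ^ n := by
  rw [Ideal.span_le, Set.singleton_subset_iff]
  exact Ideal.pow_mem_pow (Ideal.subset_span (by simp)) _

lemma span_s_le : Ideal.span {s} ≤ Ideal.span {s, a} := by
  apply Ideal.span_mono
  simp

lemma pow_succ_le (k : ℕ) :
    (Ideal.span {s, a}) ^ (k+1) ≤
      Ideal.span {s} * (Ideal.span {s, a}) ^ k ⊔ Ideal.span {a ^ (k+1)} := by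
  have hb : Ideal.span {s, a} = Ideal.span {s} ⊔ Ideal.span {a} := Ideal.span_insert s {a}
  induction k with
  | zero =>
    simp only [zero_add, pow_one, pow_zero, Ideal.one_eq_top, Ideal.mul_top]
    exact hb.le
  | succ k ih =>
    have h1 : Ideal.span {s, a} * (Ideal.span {s} * (Ideal.span {s, a}) ^ k) ≤
        Ideal.span {s} * (Ideal.span {s, a}) ^ (k+1) := by
      rw [mul_left_comm, ← pow_succ']
    have h2 : Ideal.span {s, a} * Ideal.span {a ^ (k+1)} ≤
        Ideal.span {s} * (Ideal.span {s, a}) ^ (k+1) ⊔ Ideal.span {a ^ (k+1+1)} := by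
      nth_rewrite 1 [hb]
      rw [Ideal.sup_mul]
      apply sup_le
      · exact le_sup_of_le_left (Ideal.mul_mono_right (span_pow_le s a _))
      · rw [Ideal.span_singleton_mul_span_singleton, ← pow_succ']
        exact le_sup_right
    calc (Ideal.span {s, a}) ^ (k+1+1)
        = Ideal.span {s, a} * (Ideal.span {s, a}) ^ (k+1) := pow_succ' _ _
      _ ≤ Ideal.span {s, a} * (Ideal.span {s} * (Ideal.span {s, a}) ^ k ⊔
            Ideal.span {a ^ (k+1)}) := Ideal.mul_mono_right ih
      _ = Ideal.span {s, a} * (Ideal.span {s} * (Ideal.span {s, a}) ^ k) ⊔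
            Ideal.span {s, a} * Ideal.span {a ^ (k+1)} := Ideal.mul_sup _ _ _
      _ ≤ _ := sup_le (h1.trans le_sup_left) h2

lemma monomial_mem (N₀ i : ℕ) (hi : i ≤ N₀) :
    s ^ (N₀ + 1 - i) * a ^ i ∈ Ideal.span {s} * (Ideal.span {s, a}) ^ N₀ := by
  have h1 : N₀ + 1 - i = (N₀ - i) + 1 := by omega
  have h2 : s ^ (N₀ - i) * a ^ i ∈ (Ideal.span {s, a}) ^ (N₀ - i + i) := by
    rw [pow_add]
    exact Ideal.mul_mem_mul (Ideal.pow_mem_pow (Ideal.subset_span (by simp)) _)
      (Ideal.pow_mem_pow (Ideal.subset_span (by simp)) _)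
  rw [Nat.sub_add_cancel hi] at h2
  have h3 : s ^ (N₀ + 1 - i) * a ^ i = s * (s ^ (N₀ - i) * a ^ i) := by
    rw [h1, pow_succ']; ring
  rw [h3]
  exact Ideal.mul_mem_mul (Ideal.subset_span rfl) h2

lemma isIntegral_of_pow_mem {K : Type u} [Field K] [Algebra A K] [IsDomain A]
    [IsFractionRing A K]
    (x : K) (hs : s ≠ 0) (hx : x * algebraMap A K s = algebraMap A K a) (M : ℕ)
    (H : a ^ (M+1) ∈ Ideal.span {s} * (Ideal.span {s, a}) ^ M) : IsIntegral A x := by
  have hle : (Ideal.span {s, a}) ^ (M+1) ≤ Ideal.span {s} * (Ideal.span {s, a}) ^ M := by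
    refine (pow_succ_le s a M).trans (sup_le le_rfl ?_)
    rw [Ideal.span_le, Set.singleton_subset_iff]; exact H
  have hsK : algebraMap A K s ≠ 0 := by
    rw [Ne, map_eq_zero_iff _ (IsFractionRing.injective A K)]; exact hs
  let N : Submodule A K := Submodule.map (Algebra.linearMap A K) ((Ideal.span {s, a}) ^ M)
  apply isIntegral_of_smul_mem_submodule N
  · intro hN
    have : algebraMap A K (s ^ M) ∈ N :=
      ⟨s ^ M, Ideal.pow_mem_pow (Ideal.subset_span (by simp)) _, rfl⟩
    rw [hN, Submodule.mem_bot, map_pow] at this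
    exact pow_ne_zero M hsK this
  · have h1 : (Ideal.span {s, a}).FG := Submodule.fg_span (Set.toFinite _)
    have h2 : ((Ideal.span {s, a}) ^ M).FG := Ideal.FG.pow h1
    exact Submodule.FG.map (Algebra.linearMap A K) h2
  · rintro _ ⟨y, hy, rfl⟩
    have h1 : a * y ∈ Ideal.span {s} * (Ideal.span {s, a}) ^ M := by
      apply hle
      rw [pow_succ']
      exact Ideal.mul_mem_mul (Ideal.subset_span (by simp)) hy
    obtain ⟨y', hy', hyy'⟩ := Ideal.mem_span_singleton_mul.mp h1
    refine ⟨y', hy', ?_⟩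
    simp only [Algebra.linearMap_apply, smul_eq_mul]
    have : algebraMap A K y' * algebraMap A K s = x * algebraMap A K y * algebraMap A K s := by
      rw [mul_right_comm, hx, ← map_mul, ← map_mul, mul_comm y' s, hyy']
    exact mul_right_cancel₀ hsK this

end ideal

section keyB
variable {A B : Type u} [CommRing A] [CommRing B] [Algebra A B] (s a : A)

lemma key_B (N₀ m₀ : ℕ) (β : ℕ → B)
    (hE : (algebraMap A B a ^ (N₀+1) + ∑ i ∈ Finset.range (N₀+1),
      β i * algebraMap A B s ^ (N₀+1-i) * algebraMap A B a ^ i) ^ (m₀+1) = 0) :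
    algebraMap A B a ^ ((N₀+1)*(m₀+1)) ∈
      (Ideal.span {s} * (Ideal.span {s,a}) ^ ((N₀+1)*m₀ + N₀)).map (algebraMap A B) := by
  set S : B := ∑ i ∈ Finset.range (N₀+1),
      β i * algebraMap A B s ^ (N₀+1-i) * algebraMap A B a ^ i with hS
  set xx : B := algebraMap A B a ^ (N₀+1) with hxx
  have hSmem : S ∈ (Ideal.span {s} * (Ideal.span {s,a}) ^ N₀).map (algebraMap A B) := by
    rw [hS]
    apply Ideal.sum_mem
    intro i hi
    rw [Finset.mem_range] at hi
    rw [mul_assoc, ← map_pow, ← map_pow, ← map_mul]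
    apply Ideal.mul_mem_left
    exact Ideal.mem_map_of_mem _ (monomial_mem s a N₀ i (by omega))
  have hle1 : (Ideal.span {s} * (Ideal.span {s,a}) ^ N₀).map (algebraMap A B) ≤
      ((Ideal.span {s,a}) ^ (N₀+1)).map (algebraMap A B) := by
    apply Ideal.map_mono
    rw [pow_succ']
    exact Ideal.mul_mono_left (span_s_le s a)
  have hxmem : xx ∈ ((Ideal.span {s,a}) ^ (N₀+1)).map (algebraMap A B) := by
    rw [hxx, ← map_pow]
    exact Ideal.mem_map_of_mem _ (Ideal.pow_mem_pow (Ideal.subset_span (by simp)) _)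
  have hymem : xx + S ∈ ((Ideal.span {s,a}) ^ (N₀+1)).map (algebraMap A B) :=
    Ideal.add_mem _ hxmem (hle1 hSmem)
  have hgeom := geom_sum₂_mul xx (xx + S) (m₀+1)
  rw [hE, sub_zero] at hgeom
  have hGmem : (∑ i ∈ Finset.range (m₀+1), xx ^ i * (xx + S) ^ (m₀ + 1 - 1 - i)) ∈
      (((Ideal.span {s,a}) ^ (N₀+1)).map (algebraMap A B)) ^ m₀ := by
    apply Ideal.sum_mem
    intro i hi
    rw [Finset.mem_range] at hi
    have h2 : i + (m₀ + 1 - 1 - i) = m₀ := by omega
    have h3 := Ideal.mul_mem_mul (Ideal.pow_mem_pow hxmem i)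
      (Ideal.pow_mem_pow hymem (m₀ + 1 - 1 - i))
    rw [← pow_add, h2] at h3
    exact h3
  have hfinal : xx ^ (m₀+1) ∈ (((Ideal.span {s,a}) ^ (N₀+1)).map (algebraMap A B)) ^ m₀ *
      (Ideal.span {s} * (Ideal.span {s,a}) ^ N₀).map (algebraMap A B) := by
    rw [← hgeom]
    apply Ideal.mul_mem_mul hGmem
    have : xx - (xx + S) = - S := by ring
    rw [this]
    exact Ideal.neg_mem_iff _ |>.mpr hSmem
  have heq : (((Ideal.span {s,a}) ^ (N₀+1)).map (algebraMap A B)) ^ m₀ *
      (Ideal.span {s} * (Ideal.span {s,a}) ^ N₀).map (algebraMap A B) =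
      (Ideal.span {s} * (Ideal.span {s,a}) ^ ((N₀+1)*m₀ + N₀)).map (algebraMap A B) := by
    rw [← Ideal.map_pow, ← Ideal.map_mul, ← pow_mul, mul_left_comm, ← pow_add]
  rw [heq] at hfinal
  rw [pow_mul]
  exact hfinal

end keyB

section main
variable {A B : Type u} [CommRing A] [IsDomain A] [CommRing B] [Algebra A B]
  [Module.FaithfullyFlat A B]

lemma part1 : Function.Injective (algebraMap A (B ⧸ nilradical B)) := by
  rw [injective_iff_map_eq_zero]
  intro a ha
  rw [← Ideal.Quotient.mk_algebraMap, Ideal.Quotient.eq_zero_iff_mem, mem_nilradical] at ha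
  obtain ⟨n, hn⟩ := ha
  rw [← map_pow, map_eq_zero_iff _ (FaithfulSMul.algebraMap_injective A B)] at hn
  exact pow_eq_zero_iff (n := n) (by rintro rfl; simp at hn) |>.mp hn

lemma regB (a : A) (ha : a ≠ 0) (y : B) (hy : y * algebraMap A B a = 0) : y = 0 := by
  have h1 : IsSMulRegular B a :=
    Module.Flat.isSMulRegular_of_nonZeroDivisors (mem_nonZeroDivisors_of_ne_zero ha)
  apply h1
  show a • y = a • (0 : B)
  rw [smul_zero, Algebra.smul_def, mul_comm]
  exact hy

lemma part2 (a : A) (ha : a ≠ 0) :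
    algebraMap A (B ⧸ nilradical B) a ∈ nonZeroDivisors (B ⧸ nilradical B) := by
  rw [mem_nonZeroDivisors_iff_right]
  intro c hc
  obtain ⟨y, rfl⟩ := Ideal.Quotient.mk_surjective c
  rw [← Ideal.Quotient.mk_algebraMap, ← map_mul, Ideal.Quotient.eq_zero_iff_mem,
    mem_nilradical] at hc
  obtain ⟨n, hn⟩ := hc
  rw [mul_pow, ← map_pow] at hn
  have := regB (B := B) (a ^ n) (pow_ne_zero n ha) (y ^ n) hn
  rw [Ideal.Quotient.eq_zero_iff_mem, mem_nilradical]
  exact ⟨n, this⟩

theorem part3 (R : Type u) [CommRing R] [Algebra (B ⧸ nilradical B) R]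
    [IsFractionRing (B ⧸ nilradical B) R]
    [Algebra A R] [IsScalarTower A (B ⧸ nilradical B) R] [Algebra (FractionRing A) R]
    [IsScalarTower A (FractionRing A) R] (x : FractionRing A)
    (h : IsIntegral (B ⧸ nilradical B) (algebraMap (FractionRing A) R x)) : IsIntegral A x := by
  haveI : Nontrivial (B ⧸ nilradical B) := (part1 (A := A) (B := B)).nontrivial
  obtain ⟨a, s, rfl⟩ := IsLocalization.exists_mk'_eq (nonZeroDivisors A) x
  have hs0 : (s : A) ≠ 0 := nonZeroDivisors.ne_zero s.2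
  have hx : IsLocalization.mk' (FractionRing A) a s * algebraMap A (FractionRing A) (s : A) =
      algebraMap A (FractionRing A) a := IsLocalization.mk'_spec _ _ _
  set x := IsLocalization.mk' (FractionRing A) a s with hxdef
  obtain ⟨p₀, hp₀m, hp₀⟩ := h
  -- replace p₀ by p₀ * X
  set p := p₀ * X with hp
  have hpm : p.Monic := hp₀m.mul monic_X
  have hpe : eval₂ (algebraMap (B ⧸ nilradical B) R) (algebraMap (FractionRing A) R x) p = 0 := by
    rw [hp, eval₂_mul, hp₀, zero_mul]
  have hdeg : p.natDegree = p₀.natDegree + 1 := by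
    rw [hp, natDegree_mul_X hp₀m.ne_zero]
  set N₀ := p₀.natDegree with hN₀
  -- equation in C
  have h1 := scaleRoots_eval₂_eq_zero (algebraMap (B ⧸ nilradical B) R)
    (s := algebraMap A (B ⧸ nilradical B) (s : A)) hpe
  have h2 : algebraMap (B ⧸ nilradical B) R (algebraMap A (B ⧸ nilradical B) (s : A)) *
      algebraMap (FractionRing A) R x =
      algebraMap (B ⧸ nilradical B) R (algebraMap A (B ⧸ nilradical B) a) := by
    rw [← IsScalarTower.algebraMap_apply A (B ⧸ nilradical B) R,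
      ← IsScalarTower.algebraMap_apply A (B ⧸ nilradical B) R,
      IsScalarTower.algebraMap_apply A (FractionRing A) R,
      IsScalarTower.algebraMap_apply A (FractionRing A) R, ← map_mul, mul_comm, hx]
  rw [h2, eval₂_at_apply, map_eq_zero_iff _ (IsFractionRing.injective (B ⧸ nilradical B) R),
    eval_eq_sum_range, natDegree_scaleRoots, hdeg, Finset.sum_range_succ] at h1
  simp only [coeff_scaleRoots, hdeg] at h1
  rw [← hdeg, hpm.coeff_natDegree, hdeg, Nat.sub_self, pow_zero, mul_one, one_mul] at h1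
  -- lift coefficients
  choose β hβ using fun i => Ideal.Quotient.mk_surjective (I := nilradical B) (p.coeff i)
  have hEnil : (algebraMap A B a ^ (N₀+1) + ∑ i ∈ Finset.range (N₀+1),
      β i * algebraMap A B (s : A) ^ (N₀+1-i) * algebraMap A B a ^ i) ∈ nilradical B := by
    rw [← Ideal.Quotient.eq_zero_iff_mem, map_add, map_sum, map_pow, Ideal.Quotient.mk_algebraMap,
      add_comm]
    rw [← h1]
    congr 1
    apply Finset.sum_congr rfl
    intro i _
    rw [map_mul, map_mul, map_pow, map_pow, hβ, Ideal.Quotient.mk_algebraMap,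
      Ideal.Quotient.mk_algebraMap]
  obtain ⟨m, hm⟩ := mem_nilradical.mp hEnil
  have hm' : (algebraMap A B a ^ (N₀+1) + ∑ i ∈ Finset.range (N₀+1),
      β i * algebraMap A B (s : A) ^ (N₀+1-i) * algebraMap A B a ^ i) ^ (m+1) = 0 := by
    rw [pow_succ, hm, zero_mul]
  have hkey := key_B (s : A) a N₀ m β hm'
  rw [← map_pow, ← Ideal.mem_comap, Ideal.comap_map_eq_self_of_faithfullyFlat] at hkey
  have hM : (N₀+1)*(m+1) = ((N₀+1)*m + N₀) + 1 := by ring
  rw [hM] at hkey
  exact isIntegral_of_pow_mem (s : A) a x hs0 hx _ hkey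

theorem main :
    Function.Injective (algebraMap A (B ⧸ nilradical B)) ∧
    (∀ a : A, a ≠ 0 → algebraMap A (B ⧸ nilradical B) a ∈ nonZeroDivisors (B ⧸ nilradical B)) ∧
    ∀ (R : Type u) [CommRing R] [Algebra (B ⧸ nilradical B) R]
      [IsFractionRing (B ⧸ nilradical B) R]
      [Algebra A R] [IsScalarTower A (B ⧸ nilradical B) R] [Algebra (FractionRing A) R]
      [IsScalarTower A (FractionRing A) R] (x : FractionRing A),
      IsIntegral (B ⧸ nilradical B) (algebraMap (FractionRing A) R x) ↔ IsIntegral A x := by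
  refine ⟨part1, part2, ?_⟩
  intro R _ _ _ _ _ _ _ x
  constructor
  · exact part3 R x
  · intro hx
    have h1 : IsIntegral A (algebraMap (FractionRing A) R x) := hx.algebraMap
    exact h1.tower_top

end main

end Groth.Agent.Lib.FFIntegral
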