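import Mathlib
import Groth.Prelude.Def_W4c1famcyclesFFR

/-!
# Determinant of an endomorphism of a module with a finite free resolution (helper1)
-/

universe u

namespace Groth.Agent.Lib.FFRDetH1

open Polynomial

section Charpoly

open Module

variable {R V : Type*} [CommRing R] [AddCommGroup V]
    [Module R V] [Module.Finite R V] [Module.Free R V]
    (W : Submodule R V) [Module.Free R W] [Module.Finite R W] [Module.Free R (V ⧸ W)]

open Module.Basis in
theorem charpoly_eq_mul (e : V →ₗ[R] V) (he : W ≤ W.comap e) :
    e.charpoly = (e.restrict he).charpoly * (W.mapQ W e he).charpoly := by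
  let m := Module.Free.ChooseBasisIndex R W
  let bW : Basis m R W := Module.Free.chooseBasis R W
  let n := Module.Free.ChooseBasisIndex R (V ⧸ W)
  let bQ : Basis n R (V ⧸ W) := Module.Free.chooseBasis R (V ⧸ W)
  let b := sumQuot bW bQ
  let A : Matrix m m R := LinearMap.toMatrix bW bW (e.restrict he)
  let B : Matrix m n R := Matrix.of fun i l ↦
    ((sumQuot bW bQ).repr (e ((sumQuot bW bQ) (Sum.inr l)))) (Sum.inl i)
  let D : Matrix n n R := LinearMap.toMatrix bQ bQ (W.mapQ W e he)
  suffices LinearMap.toMatrix b b e = Matrix.fromBlocks A B 0 D by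
    rw [← LinearMap.charpoly_toMatrix e b, this, ← LinearMap.charpoly_toMatrix (e.restrict he) bW,
      ← LinearMap.charpoly_toMatrix (W.mapQ W e he) bQ, Matrix.charpoly_fromBlocks_zero₂₁]
  ext u v
  cases u with
  | inl i =>
    cases v with
    | inl k =>
      simp only [b, sumQuot_inl, Matrix.fromBlocks_apply₁₁, A, LinearMap.toMatrix_apply]
      apply sumQuot_repr_inl_of_mem
    | inr l => simp [b, LinearMap.toMatrix_apply, Matrix.fromBlocks_apply₁₂, B]
  | inr j =>
    cases v with
    | inl k =>
      suffices W.mkQ (e (bW k)) = 0 by simp [LinearMap.toMatrix_apply, b, this]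
      rw [← LinearMap.mem_ker, Submodule.ker_mkQ]
      exact he (Submodule.coe_mem (bW k))
    | inr l =>
      simp only [LinearMap.toMatrix_apply, sumQuot_repr_inr,
        Matrix.fromBlocks_apply₂₂, b, D]
      rw [← sumQuot_inr bW bQ l, W.mapQ_apply]
      simp

end Charpoly

theorem charpoly_of_exact {B : Type*} [CommRing B] {K F N : Type*}
    [AddCommGroup K] [Module B K] [Module.Free B K] [Module.Finite B K]
    [AddCommGroup F] [Module B F] [Module.Free B F] [Module.Finite B F]
    [AddCommGroup N] [Module B N] [Module.Free B N] [Module.Finite B N]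
    (ι : K →ₗ[B] F) (π : F →ₗ[B] N) (hι : Function.Injective ι) (hπ : Function.Surjective π)
    (hex : Function.Exact ι π) (φK : K →ₗ[B] K) (φF : F →ₗ[B] F) (φN : N →ₗ[B] N)
    (h1 : ι ∘ₗ φK = φF ∘ₗ ι) (h2 : π ∘ₗ φF = φN ∘ₗ π) :
    φF.charpoly = φK.charpoly * φN.charpoly := by
  have hker : LinearMap.ker π = LinearMap.range ι := hex.linearMap_ker_eq
  let eK : K ≃ₗ[B] LinearMap.range ι := LinearEquiv.ofInjective ι hι
  let eN : (F ⧸ LinearMap.range ι) ≃ₗ[B] N :=
    (Submodule.quotEquivOfEq _ _ hker.symm).trans (π.quotKerEquivOfSurjective hπ)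
  have heN : ∀ y : F, eN (Submodule.Quotient.mk y) = π y := fun y => by
    first
      | rfl
      | simp [eN]
  haveI : Module.Free B (LinearMap.range ι) := Module.Free.of_equiv eK
  haveI : Module.Finite B (LinearMap.range ι) := Module.Finite.equiv eK
  haveI : Module.Free B (F ⧸ LinearMap.range ι) := Module.Free.of_equiv eN.symm
  have he : LinearMap.range ι ≤ (LinearMap.range ι).comap φF := by
    rintro _ ⟨x, rfl⟩
    rw [Submodule.mem_comap]
    exact ⟨φK x, LinearMap.congr_fun h1 x⟩
  rw [charpoly_eq_mul (LinearMap.range ι) φF he]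
  have e1 : φF.restrict he = eK.conj φK := by
    apply LinearMap.ext
    intro w
    obtain ⟨x, rfl⟩ := eK.surjective w
    apply Subtype.ext
    rw [LinearEquiv.conj_apply]
    simp only [LinearMap.comp_apply, LinearEquiv.coe_coe, LinearEquiv.symm_apply_apply,
      LinearMap.restrict_coe_apply]
    exact (LinearMap.congr_fun h1 x).symm
  have e2 : (LinearMap.range ι).mapQ (LinearMap.range ι) φF he = eN.symm.conj φN := by
    apply Submodule.linearMap_qext
    apply LinearMap.ext
    intro x
    apply eN.injective
    rw [LinearMap.comp_apply, LinearMap.comp_apply, Submodule.mkQ_apply, Submodule.mapQ_apply,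
      LinearEquiv.conj_apply]
    simp only [LinearMap.comp_apply, LinearEquiv.coe_coe, LinearEquiv.symm_symm,
      LinearEquiv.apply_symm_apply]
    rw [heN, heN]
    exact LinearMap.congr_fun h2 x
  rw [e1, e2, LinearEquiv.charpoly_conj, LinearEquiv.charpoly_conj]

theorem charpoly_localizedModule_map {A : Type*} [CommRing A] (S : Submonoid A)
    {F : Type*} [AddCommGroup F] [Module A F] [Module.Free A F] [Module.Finite A F]
    [Module.Free (Localization S) (LocalizedModule S F)]
    (ψ : F →ₗ[A] F) :
    (LocalizedModule.map S ψ).charpoly = ψ.charpoly.map (algebraMap A (Localization S)) := by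
  let I := Module.Free.ChooseBasisIndex A F
  let b : Module.Basis I A F := Module.Free.chooseBasis A F
  let b' : Module.Basis I (Localization S) (LocalizedModule S F) :=
    b.ofIsLocalizedModule (Localization S) S (LocalizedModule.mkLinearMap S F)
  rw [← LinearMap.charpoly_toMatrix ψ b,
    ← LinearMap.charpoly_toMatrix (LocalizedModule.map S ψ) b', ← Matrix.charpoly_map]
  congr 1
  ext i j
  simp only [LinearMap.toMatrix_apply, Matrix.map_apply]
  have h1 : b' j = LocalizedModule.mk (b j) 1 := by
    simp [b', Module.Basis.ofIsLocalizedModule_apply, LocalizedModule.mkLinearMap_apply]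
  rw [h1, LocalizedModule.map_mk]
  have h2 : (LocalizedModule.mk (ψ (b j)) (1 : S)) =
      LocalizedModule.mkLinearMap S F (ψ (b j)) := rfl
  rw [h2, Module.Basis.ofIsLocalizedModule_repr_apply]

theorem locMap_exact {A : Type*} [CommRing A] (S : Submonoid A) {M₀ M₁ M₂ : Type*}
    [AddCommGroup M₀] [Module A M₀] [AddCommGroup M₁] [Module A M₁]
    [AddCommGroup M₂] [Module A M₂]
    (g : M₀ →ₗ[A] M₁) (h : M₁ →ₗ[A] M₂) (ex : Function.Exact g h) :
    Function.Exact (LocalizedModule.map S g) (LocalizedModule.map S h) := by
  have key := LocalizedModule.map_exact S g h ex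
  intro y
  first
    | exact key y
    | (have := key y; simpa [LocalizedModule.map] using this)

theorem locMap_comp {A : Type*} [CommRing A] (S : Submonoid A) {M₀ M₁ M₂ : Type*}
    [AddCommGroup M₀] [Module A M₀] [AddCommGroup M₁] [Module A M₁]
    [AddCommGroup M₂] [Module A M₂]
    (g : M₀ →ₗ[A] M₁) (h : M₁ →ₗ[A] M₂) :
    LocalizedModule.map S (h ∘ₗ g) = LocalizedModule.map S h ∘ₗ LocalizedModule.map S g := by
  apply LinearMap.ext
  intro x
  refine LocalizedModule.induction_on (fun m s => ?_) x
  simp [LocalizedModule.map_mk]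

theorem charpoly_localized_of_exact {A : Type*} [CommRing A] (S : Submonoid A) {K F N : Type*}
    [AddCommGroup K] [Module A K] [Module.Finite A K]
    [AddCommGroup F] [Module A F] [Module.Finite A F]
    [AddCommGroup N] [Module A N] [Module.Finite A N]
    [Module.Free (Localization S) (LocalizedModule S K)]
    [Module.Free (Localization S) (LocalizedModule S F)]
    [Module.Free (Localization S) (LocalizedModule S N)]
    (ι : K →ₗ[A] F) (π : F →ₗ[A] N) (hι : Function.Injective ι) (hπ : Function.Surjective π)
    (hex : Function.Exact ι π) (φK : K →ₗ[A] K) (φF : F →ₗ[A] F) (φN : N →ₗ[A] N)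
    (h1 : ι ∘ₗ φK = φF ∘ₗ ι) (h2 : π ∘ₗ φF = φN ∘ₗ π) :
    (LocalizedModule.map S φF).charpoly =
      (LocalizedModule.map S φK).charpoly * (LocalizedModule.map S φN).charpoly := by
  refine charpoly_of_exact (LocalizedModule.map S ι) (LocalizedModule.map S π)
    (LocalizedModule.map_injective S ι hι) (LocalizedModule.map_surjective S π hπ)
    (locMap_exact S ι π hex) _ _ _ ?_ ?_
  · rw [← locMap_comp, ← locMap_comp, h1]
  · rw [← locMap_comp, ← locMap_comp, h2]

theorem finite_of_hasFFR (A : Type u) [CommRing A] (n : ℕ) (M : Type u) [AddCommGroup M]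
    [Module A M] (h : FamCyc.HasFiniteFreeResolutionLE A n M) : Module.Finite A M := by
  cases n with
  | zero => exact h.2
  | succ n =>
    obtain ⟨k, f, hf, _⟩ := h
    exact Module.Finite.of_surjective f hf

theorem lTensor_injective_of_ann_aux {B : Type*} [CommRing B] [IsLocalRing B] (z : B) (hz : z ≠ 0)
    (hmz : ∀ u ∈ IsLocalRing.maximalIdeal B, u * z = 0)
    {K F : Type*} [AddCommGroup K] [Module B K] [Module.Free B K]
    [AddCommGroup F] [Module B F] (ι : K →ₗ[B] F) (hι : Function.Injective ι) :
    Function.Injective (ι.lTensor (B ⧸ IsLocalRing.maximalIdeal B)) := by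
  rw [injective_iff_map_eq_zero]
  intro t ht
  obtain ⟨w, rfl⟩ := TensorProduct.mk_surjective B K (B ⧸ IsLocalRing.maximalIdeal B)
    Ideal.Quotient.mk_surjective t
  have h1 : ι w ∈ (IsLocalRing.maximalIdeal B) • (⊤ : Submodule B F) := by
    rw [← LinearMap.ker_tensorProductMk, LinearMap.mem_ker]
    simpa using ht
  have h2 : z • ι w = 0 := by
    refine Submodule.smul_induction_on h1 ?_ ?_
    · intro r hr n _
      rw [smul_smul, mul_comm, hmz r hr, zero_smul]
    · intro x y hx hy
      rw [smul_add, hx, hy, add_zero]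
  have h3 : z • w = 0 := by
    apply hι
    rw [map_smul, h2, map_zero]
  let b := Module.Free.chooseBasis B K
  have h4 : ∀ i, b.repr w i ∈ IsLocalRing.maximalIdeal B := by
    intro i
    rw [IsLocalRing.mem_maximalIdeal, mem_nonunits_iff]
    intro hu
    apply hz
    have h5 : b.repr (z • w) i = 0 := by rw [h3]; simp
    rw [map_smul, Finsupp.smul_apply, smul_eq_mul] at h5
    exact hu.mul_left_eq_zero.mp h5
  have h5 : w ∈ (IsLocalRing.maximalIdeal B) • (⊤ : Submodule B K) := by
    have h6 := b.linearCombination_repr w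
    rw [Finsupp.linearCombination_apply] at h6
    rw [← h6]
    exact Submodule.sum_mem _ fun i _ => Submodule.smul_mem_smul (h4 i) trivial
  rw [← LinearMap.ker_tensorProductMk, LinearMap.mem_ker] at h5
  exact h5

theorem lTensor_injective_of_ann {B : Type*} [CommRing B] [IsLocalRing B] (z : B) (hz : z ≠ 0)
    (hmz : ∀ u ∈ IsLocalRing.maximalIdeal B, u * z = 0)
    {K F : Type*} [AddCommGroup K] [Module B K] [Module.Free B K]
    [AddCommGroup F] [Module B F] (ι : K →ₗ[B] F) (hι : Function.Injective ι) :
    Function.Injective (ι.lTensor (IsLocalRing.ResidueField B)) :=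
  lTensor_injective_of_ann_aux z hz hmz ι hι

theorem maximalIdeal_mul_eq_zero {A : Type*} [CommRing A] (p : Ideal A) [p.IsPrime] (y : A)
    (hy : ∀ r ∈ p, r * y = 0) (u : Localization.AtPrime p)
    (hu : u ∈ IsLocalRing.maximalIdeal (Localization.AtPrime p)) :
    u * algebraMap A (Localization.AtPrime p) y = 0 := by
  rw [← Localization.AtPrime.map_eq_maximalIdeal] at hu
  refine Submodule.span_induction
    (p := fun u _ => u * algebraMap A (Localization.AtPrime p) y = 0) ?_ ?_ ?_ ?_ hu
  · rintro _ ⟨r, hr, rfl⟩
    rw [← map_mul, hy r hr, map_zero]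
  · exact zero_mul _
  · intro a b _ _ ha hb
    rw [add_mul, ha, hb, add_zero]
  · intro a b _ hb
    rw [smul_eq_mul, mul_assoc, hb, mul_zero]

theorem free_localization_of_ann (A : Type u) [CommRing A] (p : Ideal A) [p.IsPrime]
    (y : A) (hy : ∀ r, r ∈ p ↔ r * y = 0) (n : ℕ) :
    ∀ (M : Type u) [AddCommGroup M] [Module A M], FamCyc.HasFiniteFreeResolutionLE A n M →
      Module.Free (Localization.AtPrime p) (LocalizedModule p.primeCompl M) := by
  induction n with
  | zero =>
    intro M _ _ hM
    haveI := hM.1
    exact Module.free_of_isLocalizedModule p.primeCompl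
      (LocalizedModule.mkLinearMap p.primeCompl M)
  | succ n ih =>
    intro M _ _ hM
    obtain ⟨k, f, hf, hK⟩ := hM
    haveI : Module.Finite A (LinearMap.ker f) := finite_of_hasFFR A n _ hK
    haveI : Module.Free (Localization.AtPrime p)
        (LocalizedModule p.primeCompl (LinearMap.ker f)) := ih _ hK
    haveI : Module.Free (Localization.AtPrime p) (LocalizedModule p.primeCompl (Fin k → A)) :=
      Module.free_of_isLocalizedModule p.primeCompl
        (LocalizedModule.mkLinearMap p.primeCompl (Fin k → A))
    have hz : algebraMap A (Localization.AtPrime p) y ≠ 0 := by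
      intro h0
      obtain ⟨s, hs⟩ :=
        (IsLocalization.map_eq_zero_iff p.primeCompl (Localization.AtPrime p) y).mp h0
      exact s.2 ((hy s.1).mpr hs)
    have hinj := lTensor_injective_of_ann
      (K := LocalizedModule p.primeCompl (LinearMap.ker f))
      (F := LocalizedModule p.primeCompl (Fin k → A))
      (algebraMap A (Localization.AtPrime p) y) hz
      (fun u hu => maximalIdeal_mul_eq_zero p y (fun r hr => (hy r).mp hr) u hu)
      (LocalizedModule.map p.primeCompl (LinearMap.ker f).subtype)
      (LocalizedModule.map_injective p.primeCompl (LinearMap.ker f).subtype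
        (Submodule.injective_subtype _))
    exact Module.free_of_lTensor_residueField_injective
      (M := LocalizedModule p.primeCompl (LinearMap.ker f))
      (N := LocalizedModule p.primeCompl (Fin k → A))
      (P := LocalizedModule p.primeCompl M)
      (LocalizedModule.map p.primeCompl (LinearMap.ker f).subtype)
      (LocalizedModule.map p.primeCompl f)
      (LocalizedModule.map_surjective p.primeCompl f hf)
      (locMap_exact p.primeCompl _ _ (LinearMap.exact_subtype_ker_map f)) hinj

theorem free_of_exact_of_free {B : Type*} [CommRing B] [IsLocalRing B] {K F N : Type*}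
    [AddCommGroup K] [Module B K] [Module.Finite B K]
    [AddCommGroup F] [Module B F] [Module.Free B F]
    [AddCommGroup N] [Module B N] [Module.Free B N]
    (ι : K →ₗ[B] F) (π : F →ₗ[B] N) (hι : Function.Injective ι) (hπ : Function.Surjective π)
    (hex : Function.Exact ι π) : Module.Free B K := by
  obtain ⟨σ, hσ⟩ := Module.projective_lifting_property π LinearMap.id hπ
  have htfae := Function.Exact.split_tfae hex hι hπ
  have h01 : (∃ l, π ∘ₗ l = LinearMap.id) → (∃ l, l ∘ₗ ι = LinearMap.id) := (htfae.out 0 1).mp
  obtain ⟨s, hs⟩ := h01 ⟨σ, hσ⟩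
  haveI : Module.Projective B K := Module.Projective.of_split ι s hs
  exact Module.free_of_flat_of_isLocalRing

theorem exists_polys (A : Type u) [CommRing A] (n : ℕ) :
    ∀ (M : Type u) [AddCommGroup M] [Module A M] [Module.Finite A M],
      FamCyc.HasFiniteFreeResolutionLE A n M → ∀ φ : M →ₗ[A] M,
      ∃ d' d'' : A[X], d'.Monic ∧ d''.Monic ∧
        ∀ (p : Ideal A) [p.IsPrime]
          [Module.Free (Localization.AtPrime p) (LocalizedModule p.primeCompl M)],
          d'.map (algebraMap A (Localization.AtPrime p)) =
            (LocalizedModule.map p.primeCompl φ).charpoly *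
              d''.map (algebraMap A (Localization.AtPrime p)) := by
  induction n with
  | zero =>
    intro M _ _ _ hM φ
    haveI := hM.1
    refine ⟨φ.charpoly, 1, LinearMap.charpoly_monic φ, monic_one, ?_⟩
    intro p _ _
    rw [Polynomial.map_one, mul_one]
    exact (charpoly_localizedModule_map p.primeCompl φ).symm
  | succ n ih =>
    intro M _ _ _ hM φ
    obtain ⟨k, f, hf, hK⟩ := hM
    haveI : Module.Finite A (LinearMap.ker f) := finite_of_hasFFR A n _ hK
    obtain ⟨φ₀, hφ₀⟩ := Module.projective_lifting_property f (φ ∘ₗ f) hf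
    have he : LinearMap.ker f ≤ (LinearMap.ker f).comap φ₀ := by
      intro x hx
      rw [Submodule.mem_comap, LinearMap.mem_ker]
      have := LinearMap.congr_fun hφ₀ x
      rw [LinearMap.comp_apply, LinearMap.comp_apply, LinearMap.mem_ker.mp hx, map_zero] at this
      exact this
    obtain ⟨ψK, hψK⟩ : ∃ ψ : LinearMap.ker f →ₗ[A] LinearMap.ker f, ψ = φ₀.restrict he :=
      ⟨_, rfl⟩
    obtain ⟨dK', dK'', hm1, hm2, hKp⟩ := ih (LinearMap.ker f) hK ψK
    refine ⟨φ₀.charpoly * dK'', dK', (LinearMap.charpoly_monic φ₀).mul hm2, hm1, ?_⟩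
    intro p _ _
    haveI : Module.Free (Localization.AtPrime p) (LocalizedModule p.primeCompl (Fin k → A)) :=
      Module.free_of_isLocalizedModule p.primeCompl
        (LocalizedModule.mkLinearMap p.primeCompl (Fin k → A))
    have hιinj : Function.Injective
        (LocalizedModule.map p.primeCompl (LinearMap.ker f).subtype) :=
      LocalizedModule.map_injective p.primeCompl _ (Submodule.injective_subtype _)
    have hπsurj : Function.Surjective (LocalizedModule.map p.primeCompl f) :=
      LocalizedModule.map_surjective p.primeCompl f hf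
    have hexact : Function.Exact (LocalizedModule.map p.primeCompl (LinearMap.ker f).subtype)
        (LocalizedModule.map p.primeCompl f) :=
      locMap_exact p.primeCompl _ _ (LinearMap.exact_subtype_ker_map f)
    haveI : Module.Free (Localization.AtPrime p)
        (LocalizedModule p.primeCompl (LinearMap.ker f)) :=
      free_of_exact_of_free (K := LocalizedModule p.primeCompl (LinearMap.ker f))
        (F := LocalizedModule p.primeCompl (Fin k → A))
        (N := LocalizedModule p.primeCompl M)
        (LocalizedModule.map p.primeCompl (LinearMap.ker f).subtype)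
        (LocalizedModule.map p.primeCompl f) hιinj hπsurj hexact
    have hmult : (LocalizedModule.map p.primeCompl φ₀).charpoly =
        LinearMap.charpoly (R := Localization.AtPrime p)
          (M := LocalizedModule p.primeCompl (LinearMap.ker f))
          (LocalizedModule.map p.primeCompl ψK) *
          (LocalizedModule.map p.primeCompl φ).charpoly := by
      refine charpoly_localized_of_exact p.primeCompl (LinearMap.ker f).subtype f
        (Submodule.injective_subtype _) hf (LinearMap.exact_subtype_ker_map f) ψK φ₀ φ ?_ hφ₀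
      rw [hψK]
      rfl
    have hK1 := hKp p
    rw [Polynomial.map_mul, ← charpoly_localizedModule_map p.primeCompl φ₀, hmult, hK1]
    ring

theorem det_eq_charpoly_neg_coeff {R V : Type*} [CommRing R] [AddCommGroup V] [Module R V]
    [Module.Free R V] [Module.Finite R V] (ψ : V →ₗ[R] V) :
    LinearMap.det ψ = (-ψ).charpoly.coeff 0 := by
  have h1 := LinearMap.det_eq_sign_charpoly_coeff (-ψ)
  have h2 : LinearMap.det (-ψ) = (-1) ^ Module.finrank R V * LinearMap.det ψ := by
    rw [← neg_one_smul R ψ, LinearMap.det_smul]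
  have h3 : ((-1 : R) ^ Module.finrank R V) * ((-1 : R) ^ Module.finrank R V) = 1 := by
    rw [← mul_pow]; simp
  calc LinearMap.det ψ
      = ((-1 : R) ^ Module.finrank R V * (-1 : R) ^ Module.finrank R V) * LinearMap.det ψ := by
        rw [h3, one_mul]
    _ = (-1 : R) ^ Module.finrank R V * LinearMap.det (-ψ) := by rw [h2]; ring
    _ = (-ψ).charpoly.coeff 0 := by rw [h1, ← mul_assoc, h3, one_mul]

theorem main14073 (A : Type u) [CommRing A] [IsNoetherianRing A]
    (M : Type u) [AddCommGroup M] [Module A M] (n : ℕ)
    (hM : FamCyc.HasFiniteFreeResolutionLE A n M) (φ : M →ₗ[A] M) :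
    ∃! a : A, ∀ (p : Ideal A) [p.IsPrime],
      Module.Free (Localization.AtPrime p) (LocalizedModule p.primeCompl M) →
        algebraMap A (Localization.AtPrime p) a =
          LinearMap.det (LocalizedModule.map p.primeCompl φ) := by
  haveI : Module.Finite A M := finite_of_hasFFR A n M hM
  obtain ⟨d', d'', hd', hd'', hp⟩ := exists_polys A n M hM (-φ)
  have hex : ∀ (p : Ideal A) [p.IsPrime],
      Module.Free (Localization.AtPrime p) (LocalizedModule p.primeCompl M) →
        algebraMap A (Localization.AtPrime p) ((d' /ₘ d'').coeff 0) =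
          LinearMap.det (LocalizedModule.map p.primeCompl φ) := by
    intro p _ hfree
    haveI := hfree
    have h1 := hp p
    have h3 : (d' /ₘ d'').map (algebraMap A (Localization.AtPrime p)) =
        (LocalizedModule.map p.primeCompl (-φ)).charpoly := by
      rw [Polynomial.map_divByMonic _ hd'', h1,
        mul_comm ((LocalizedModule.map p.primeCompl (-φ)).charpoly)]
      exact Polynomial.mul_divByMonic_cancel_left _ (hd''.map _)
    have h2 : -(LocalizedModule.map p.primeCompl φ) = LocalizedModule.map p.primeCompl (-φ) :=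
      (map_neg _ _).symm
    rw [det_eq_charpoly_neg_coeff (LocalizedModule.map p.primeCompl φ), h2, ← h3,
      Polynomial.coeff_map]
  refine ⟨(d' /ₘ d'').coeff 0, hex, ?_⟩
  intro a' ha'
  by_contra hne
  have hx : a' - (d' /ₘ d'').coeff 0 ≠ 0 := sub_ne_zero.mpr hne
  obtain ⟨P, hP, hle⟩ := exists_le_isAssociatedPrime_of_isNoetherianRing A _ hx
  rw [isAssociatedPrime_iff] at hP
  obtain ⟨hPprime, y, hy⟩ := hP
  haveI := hPprime
  have hyiff : ∀ r, r ∈ (⊥ : Submodule A A).colon {y} ↔ r * y = 0 := fun r => by
    rw [Submodule.mem_colon_singleton, Submodule.mem_bot, smul_eq_mul]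
  rw [← hy] at hyiff
  have hfree := free_localization_of_ann A P y hyiff n M hM
  have e1 := ha' P hfree
  have e2 := hex P hfree
  have e3 : algebraMap A (Localization.AtPrime P) (a' - (d' /ₘ d'').coeff 0) = 0 := by
    rw [map_sub, e1, e2, sub_self]
  obtain ⟨s, hs⟩ := (IsLocalization.map_eq_zero_iff P.primeCompl (Localization.AtPrime P) _).mp e3
  apply s.2
  apply hle
  rw [Submodule.mem_colon_singleton, Submodule.mem_bot, smul_eq_mul]
  exact hs

end Groth.Agent.Lib.FFRDetH1
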