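import Mathlib
import Groth.Prelude.Def_Wider
import Groth.Agent.Lib.Kollar3_helper5

/-!
# Kollár's criterion for modules: passage between a Noetherian ring and its local rings (helper5)

Module version of `Kollar3_helper5` (used for S1755).
APPEND-ONLY once landed.
-/

set_option autoImplicit false
universe u

namespace Groth.Agent.Lib.KollarH5

open CategoryTheory TensorProduct IsLocalRing LocCoh Groth.Agent.Lib.FinH1Ass_helper6

section LocM

variable {A : Type u} [CommRing A] [IsNoetherianRing A] (I : Ideal A)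
  (M : Type u) [AddCommGroup M] [Module A M] (q : Ideal A) [hq : q.IsPrime]

/-- the local property at `q`: a power of `I` kills `H¹_I(M)` after localizing at `q` -/
def KqM (q : Ideal A) : Prop :=
  ∃ n : ℕ, ∀ a ∈ I ^ n, ∀ z : LocCoh.H I 1 M, ∃ s : A, s ∉ q ∧ s • a • z = 0

/-- flat base change to the local ring at `q` -/
theorem exists_eCM : Nonempty ((Localization.AtPrime q) ⊗[A] LocCoh.H I 1 M ≃ₗ[Localization.AtPrime q]
    LocCoh.H (I.map (algebraMap A (Localization.AtPrime q))) 1
      ((Localization.AtPrime q) ⊗[A] M)) :=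
  Groth.Agent.Lib.LocCohFlatBCH7.main (Localization.AtPrime q) I 1 M

theorem KqM_of_finite
    (hfin : Module.Finite (Localization.AtPrime q)
      (LocCoh.H (I.map (algebraMap A (Localization.AtPrime q))) 1
        ((Localization.AtPrime q) ⊗[A] M))) :
    KqM I M q := by
  haveI := hfin
  obtain ⟨e⟩ := exists_eCM I M q
  obtain ⟨n, hn⟩ := Groth.Agent.Lib.LocCohFinH7.finite_torsion_killed
    (I.map (algebraMap A (Localization.AtPrime q)))
    (LocCoh.H (I.map (algebraMap A (Localization.AtPrime q))) 1
      ((Localization.AtPrime q) ⊗[A] M))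
    (Groth.Agent.Lib.LocCohTorsH7.main _ _ 1 _)
  refine ⟨n, fun a ha z => ?_⟩
  have ha' : algebraMap A (Localization.AtPrime q) a ∈
      (I.map (algebraMap A (Localization.AtPrime q))) ^ n := by
    rw [← Ideal.map_pow]
    exact Ideal.mem_map_of_mem _ ha
  have h1 := hn _ ha' (e ((1 : Localization.AtPrime q) ⊗ₜ[A] z))
  rw [← map_smul] at h1
  have h2 : algebraMap A (Localization.AtPrime q) a • ((1 : Localization.AtPrime q) ⊗ₜ[A] z) = 0 :=
    e.injective (h1.trans (map_zero e).symm)
  have h3 : TensorProduct.mk A (Localization.AtPrime q) (LocCoh.H I 1 M) 1 (a • z) = 0 := by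
    rw [TensorProduct.mk_apply, TensorProduct.tmul_smul,
      ← algebraMap_smul (Localization.AtPrime q) a ((1 : Localization.AtPrime q) ⊗ₜ[A] z)]
    exact h2
  obtain ⟨s, hs⟩ := (IsLocalizedModule.eq_zero_iff q.primeCompl
    (TensorProduct.mk A (Localization.AtPrime q) (LocCoh.H I 1 M) 1)).1 h3
  exact ⟨s.1, s.2, hs⟩

/-- transfer of the local annihilation at the primes strictly inside `q` to the local ring -/
theorem exists_smul_eq_zero_locM (n₁ : ℕ)
    (hb : ∀ a ∈ I ^ n₁, ∀ z : LocCoh.H I 1 M, ∀ q' : Ideal A, q'.IsPrime → q' < q →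
      ∃ s : A, s ∉ q' ∧ s • a • z = 0)
    (q' : Ideal A) (hq' : q'.IsPrime) (hlt : q' < q)
    (a' : Localization.AtPrime q) (ha' : a' ∈ (I ^ n₁).map (algebraMap A (Localization.AtPrime q)))
    (w : (Localization.AtPrime q) ⊗[A] LocCoh.H I 1 M) :
    ∃ s : A, s ∉ q' ∧ s • a' • w = 0 := by
  have step1 : ∀ a ∈ I ^ n₁, ∀ w : (Localization.AtPrime q) ⊗[A] LocCoh.H I 1 M,
      ∃ s : A, s ∉ q' ∧ s • a • w = 0 := by
    intro a ha w
    induction w using TensorProduct.induction_on with
    | zero => exact ⟨1, fun h => hq'.ne_top ((Ideal.eq_top_iff_one q').2 h), by simp⟩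
    | tmul c z =>
      obtain ⟨s, hs, hsz⟩ := hb a ha z q' hq' hlt
      refine ⟨s, hs, ?_⟩
      rw [← TensorProduct.tmul_smul, ← TensorProduct.tmul_smul, hsz, TensorProduct.tmul_zero]
    | add w₁ w₂ h₁ h₂ =>
      obtain ⟨s₁, hs₁, h₁'⟩ := h₁
      obtain ⟨s₂, hs₂, h₂'⟩ := h₂
      refine ⟨s₁ * s₂, fun h => (hq'.mem_or_mem h).elim hs₁ hs₂, ?_⟩
      have e1 : (s₁ * s₂) • a • w₁ = 0 := by rw [mul_comm, mul_smul, h₁', smul_zero]
      have e2 : (s₁ * s₂) • a • w₂ = 0 := by rw [mul_smul, h₂', smul_zero]
      rw [smul_add, smul_add, e1, e2, add_zero]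
  have step2 : ∀ a' ∈ (I ^ n₁).map (algebraMap A (Localization.AtPrime q)),
      ∀ w : (Localization.AtPrime q) ⊗[A] LocCoh.H I 1 M, ∃ s : A, s ∉ q' ∧ s • a' • w = 0 := by
    intro a' ha'
    unfold Ideal.map at ha'
    induction ha' using Submodule.span_induction with
    | mem x hx =>
      obtain ⟨a, ha, rfl⟩ := hx
      intro w
      obtain ⟨s, hs, hsw⟩ := step1 a ha w
      refine ⟨s, hs, ?_⟩
      rw [algebraMap_smul]
      exact hsw
    | zero =>
      intro w
      exact ⟨1, fun h => hq'.ne_top ((Ideal.eq_top_iff_one q').2 h), by simp⟩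
    | add x y _ _ hx hy =>
      intro w
      obtain ⟨s₁, hs₁, h₁'⟩ := hx w
      obtain ⟨s₂, hs₂, h₂'⟩ := hy w
      refine ⟨s₁ * s₂, fun h => (hq'.mem_or_mem h).elim hs₁ hs₂, ?_⟩
      have e1 : (s₁ * s₂) • x • w = 0 := by rw [mul_comm, mul_smul, h₁', smul_zero]
      have e2 : (s₁ * s₂) • y • w = 0 := by rw [mul_smul, h₂', smul_zero]
      rw [add_smul, smul_add, e1, e2, add_zero]
    | smul c x _ hx =>
      intro w
      obtain ⟨s, hs, hsw⟩ := hx (c • w)
      refine ⟨s, hs, ?_⟩
      rw [smul_eq_mul, mul_comm, mul_smul]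
      exact hsw
  exact step2 a' ha' w

omit hq in
/-- uniform local annihilation at all primes strictly inside `q` -/
theorem bA_of_IHM (hfin : (associatedPrimes A (LocCoh.H I 1 M)).Finite)
    (hK : ∀ q'' : Ideal A, q''.IsPrime → q'' < q → KqM I M q'') :
    ∃ n₁ : ℕ, ∀ a ∈ I ^ n₁, ∀ z : LocCoh.H I 1 M, ∀ q' : Ideal A, q'.IsPrime → q' < q →
      ∃ s : A, s ∉ q' ∧ s • a • z = 0 := by
  classical
  let n : Ideal A → ℕ := fun q'' =>
    if h : q''.IsPrime ∧ q'' < q then Classical.choose (hK q'' h.1 h.2) else 0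
  have hn : ∀ (q'' : Ideal A) (h1 : q''.IsPrime) (h2 : q'' < q), ∀ a ∈ I ^ n q'',
      ∀ z : LocCoh.H I 1 M, ∃ s : A, s ∉ q'' ∧ s • a • z = 0 := by
    intro q'' h1 h2
    simp only [n, dif_pos (And.intro h1 h2)]
    exact Classical.choose_spec (hK q'' h1 h2)
  refine ⟨hfin.toFinset.sup n, fun a ha z q' hq' hlt => ?_⟩
  by_contra hcon
  push Not at hcon
  have hann : (Submodule.span A {a • z}).annihilator ≤ q' := by
    intro r hr
    by_contra hrq
    exact hcon r hrq ((Submodule.mem_annihilator_span_singleton (a • z) r).1 hr)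
  haveI := hq'
  obtain ⟨q'', hq''min, hq''le⟩ := Ideal.exists_minimalPrimes_le hann
  have hq''ass : q'' ∈ associatedPrimes A (LocCoh.H I 1 M) :=
    associatedPrimes.subset_of_injective (Submodule.injective_subtype _)
      (Module.associatedPrimes.minimalPrimes_annihilator_subset_associatedPrimes A
        ↥(Submodule.span A {a • z}) hq''min)
  have hq''p : q''.IsPrime := hq''min.1.1
  have hlt'' : q'' < q := lt_of_le_of_lt hq''le hlt
  obtain ⟨s, hs, hsz⟩ := hn q'' hq''p hlt'' a
    (Ideal.pow_le_pow_right (Finset.le_sup (hfin.mem_toFinset.2 hq''ass)) ha) z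
  exact hs (hq''min.1.2 ((Submodule.mem_annihilator_span_singleton (a • z) s).2 hsz))

omit hq in
/-- the local property is automatic at the primes not containing `I` -/
theorem KqM_of_not_le (hIq : ¬ I ≤ q) (hq' : q.IsPrime) : KqM I M q := by
  obtain ⟨s, hsI, hsq⟩ := SetLike.not_le_iff_exists.1 hIq
  refine ⟨0, fun a _ z => ?_⟩
  obtain ⟨k, hk⟩ := Groth.Agent.Lib.LocCohTorsH7.main A I 1 M z
  refine ⟨s ^ k, fun h => hsq (hq'.mem_of_pow_mem k h), ?_⟩
  rw [smul_comm, hk _ (Ideal.pow_mem_pow hsI k), smul_zero]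

/-- finiteness of `H¹` over the local ring at `q`, from the local annihilation at the smaller
primes and finiteness of `H¹` with support in the closed point -/
theorem finite_locM [Module.Finite A M] {b : A} (hbI : b ∈ I) (hbreg : IsSMulRegular M b)
    (hIq : I ≤ q) (n₁ : ℕ)
    (hb : ∀ a ∈ I ^ n₁, ∀ z : LocCoh.H I 1 M, ∀ q' : Ideal A, q'.IsPrime → q' < q →
      ∃ s : A, s ∉ q' ∧ s • a • z = 0)
    (hm : Module.Finite (Localization.AtPrime q)
      (LocCoh.H (maximalIdeal (Localization.AtPrime q)) 1 ((Localization.AtPrime q) ⊗[A] M))) :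
    Module.Finite (Localization.AtPrime q)
      (LocCoh.H (I.map (algebraMap A (Localization.AtPrime q))) 1
        ((Localization.AtPrime q) ⊗[A] M)) := by
  have hreg : IsSMulRegular ((Localization.AtPrime q) ⊗[A] M)
      (algebraMap A (Localization.AtPrime q) b) :=
    IsSMulRegular.of_flat_of_isBaseChange
      (TensorProduct.isBaseChange A M (Localization.AtPrime q)) hbreg
  have hinj := toDT_injective_of_regular (I.map (algebraMap A (Localization.AtPrime q)))
    ((Localization.AtPrime q) ⊗[A] M) (Ideal.mem_map_of_mem _ hbI) hreg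
  have hle : I.map (algebraMap A (Localization.AtPrime q)) ≤
      maximalIdeal (Localization.AtPrime q) := by
    rw [← IsLocalization.AtPrime.map_eq_maximalIdeal q (Localization.AtPrime q)]
    exact Ideal.map_mono hIq
  obtain ⟨e⟩ := exists_eCM I M q
  refine finite_H1_of_torsion _ _ hle ((Localization.AtPrime q) ⊗[A] M) hinj hm n₁
    (fun a' ha' z' => ?_)
  rw [← Ideal.map_pow] at ha'
  have hrad : maximalIdeal (Localization.AtPrime q) ≤
      ((⊥ : Submodule (Localization.AtPrime q) (LocCoh.H (I.map (algebraMap A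
        (Localization.AtPrime q))) 1 ((Localization.AtPrime q) ⊗[A] M))).colon
          {a' • z'}).radical := by
    rw [Ideal.radical_eq_sInf]
    refine le_sInf fun Q hQ => ?_
    obtain ⟨hQle, hQp⟩ := hQ
    haveI := hQp
    by_cases hQm : Q = maximalIdeal (Localization.AtPrime q)
    · exact le_of_eq hQm.symm
    · exfalso
      have hq'le : Q.comap (algebraMap A (Localization.AtPrime q)) ≤ q := by
        have h1 : Q.comap (algebraMap A (Localization.AtPrime q)) ≤
            (maximalIdeal (Localization.AtPrime q)).comap (algebraMap A (Localization.AtPrime q)) :=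
          Ideal.comap_mono (IsLocalRing.le_maximalIdeal hQp.ne_top)
        exact h1.trans (le_of_eq
          (IsLocalization.AtPrime.under_maximalIdeal (Localization.AtPrime q) q))
      have hq'ne : Q.comap (algebraMap A (Localization.AtPrime q)) ≠ q := by
        intro heq
        apply hQm
        rw [← IsLocalization.map_under q.primeCompl (Localization.AtPrime q) Q,
          ← IsLocalization.AtPrime.map_eq_maximalIdeal q (Localization.AtPrime q)]
        exact congrArg (Ideal.map (algebraMap A (Localization.AtPrime q))) heq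
      obtain ⟨s, hs, hsw⟩ := exists_smul_eq_zero_locM I M q n₁ hb
        (Q.comap (algebraMap A (Localization.AtPrime q))) inferInstance
        (lt_of_le_of_ne hq'le hq'ne) a' ha' (e.symm z')
      have h1 := congrArg e hsw
      rw [← algebraMap_smul (Localization.AtPrime q) s, map_smul, map_smul,
        LinearEquiv.apply_symm_apply, map_zero] at h1
      apply hs
      show algebraMap A (Localization.AtPrime q) s ∈ Q
      apply hQle
      rw [Submodule.mem_colon_singleton, Submodule.mem_bot]
      exact h1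
  obtain ⟨k, hk⟩ := Ideal.exists_pow_le_of_le_radical_of_fg hrad
    (IsNoetherian.noetherian (maximalIdeal (Localization.AtPrime q)))
  refine ⟨k, fun y hy => ?_⟩
  have := hk hy
  rw [Submodule.mem_colon_singleton, Submodule.mem_bot] at this
  exact this

/-- Kollár's local-to-global principle for modules: if `I` contains an `M`-regular element and
`H¹_𝔪(M_q)` is finite over `A_q` for every prime `q ⊇ I`, then `H¹_I(M)` is finite. -/
theorem kollar_module [Module.Finite A M] {b : A} (hbI : b ∈ I) (hbreg : IsSMulRegular M b)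
    (h : ∀ (q : Ideal A) [q.IsPrime], I ≤ q →
      Module.Finite (Localization.AtPrime q)
        (LocCoh.H (maximalIdeal (Localization.AtPrime q)) 1 ((Localization.AtPrime q) ⊗[A] M))) :
    Module.Finite A (LocCoh.H I 1 M) := by
  have hfin := ass_H1_finite I M hbI hbreg
  have key : ∀ n : ℕ, ∀ q : Ideal A, q.IsPrime → q.height = n → KqM I M q := by
    intro n
    induction n using Nat.strong_induction_on with
    | _ n ih =>
      intro q hq hht
      by_cases hIq : I ≤ q
      · haveI := hq
        have hK : ∀ q'' : Ideal A, q''.IsPrime → q'' < q → KqM I M q'' := by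
          intro q'' hq'' hlt
          haveI := hq''
          have h1 : q''.height < q.height := Ideal.height_strict_mono_of_isPrime hlt
          have hne : q''.height ≠ ⊤ := ne_top_of_lt h1
          obtain ⟨m, hm⟩ := ENat.ne_top_iff_exists.1 hne
          refine ih m ?_ q'' hq'' hm.symm
          rw [hht, ← hm] at h1
          exact_mod_cast h1
        obtain ⟨n₁, hb⟩ := bA_of_IHM I M q hfin hK
        exact KqM_of_finite I M q (finite_locM I M q hbI hbreg hIq n₁ hb (h q hIq))
      · exact KqM_of_not_le I M q hIq hq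
  have hKall : ∀ q ∈ associatedPrimes A (LocCoh.H I 1 M), KqM I M q := by
    intro q hq
    have hqp : q.IsPrime := hq.isPrime
    haveI := hqp
    obtain ⟨m, hm⟩ := ENat.ne_top_iff_exists.1 (Ideal.height_ne_top hqp.ne_top)
    exact key m q hqp hm.symm
  obtain ⟨n, hn⟩ := exists_pow_kill_of_local I (LocCoh.H I 1 M) hfin hKall
  exact finite_H1_of_kill I M hbI hbreg n hn

end LocM

end Groth.Agent.Lib.KollarH5
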