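import Mathlib
import Groth.Prelude.Def_Wider
import Groth.Agent.Lib.Kollar4_helper5
import Groth.Agent.Lib.Kollar5_helper5

/-!
# Kollár's criterion for finiteness of `H¹_I(M)` (helper5, S1755)
APPEND-ONLY once landed.
-/

set_option autoImplicit false
universe u

namespace Groth.Agent.Lib.KollarH5

open CategoryTheory TensorProduct IsLocalRing LocCoh Groth.Agent.Lib.FinH1Ass_helper6
  Groth.Agent.Lib.CohPush_helper6 Groth.Agent.Lib.CplPushH5

/-- variant of `finite_H1_max_of_cpl` for an ideal propositionally equal to the maximal ideal -/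
theorem finite_H1_max_of_cpl' (C : Type u) [CommRing C] [IsNoetherianRing C] [IsLocalRing C]
    (J : Ideal C) (hJ : J = maximalIdeal C)
    (h : ∀ P ∈ associatedPrimes (AdicCompletion J C) (AdicCompletion J C),
      (2 : WithBot ℕ∞) ≤ ringKrullDim (AdicCompletion J C ⧸ P)) :
    Module.Finite C (LocCoh.H J 1 C) := by
  subst hJ
  exact finite_H1_max_of_cpl C h

/-- the quotient of a local ring by a proper ideal is local with the expected maximal ideal -/
theorem quot_local (B : Type u) [CommRing B] [IsLocalRing B] (J : Ideal B) (hJ : J ≠ ⊤) :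
    ∃ (_ : IsLocalRing (B ⧸ J)),
      (maximalIdeal B).map (Ideal.Quotient.mk J) = maximalIdeal (B ⧸ J) := by
  haveI : Nontrivial (B ⧸ J) := Ideal.Quotient.nontrivial_iff.2 hJ
  haveI hloc : IsLocalRing (B ⧸ J) :=
    IsLocalRing.of_surjective' (Ideal.Quotient.mk J) Ideal.Quotient.mk_surjective
  refine ⟨hloc, ?_⟩
  apply le_antisymm
  · rw [Ideal.map_le_iff_le_comap]
    intro x hx
    rw [Ideal.mem_comap, mem_maximalIdeal, mem_nonunits_iff]
    intro hu
    have hx' : x ∈ nonunits B := hx
    haveI : IsLocalHom (Ideal.Quotient.mk J) :=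
      IsLocalHom.of_surjective _ Ideal.Quotient.mk_surjective
    exact hx' (isUnit_of_map_unit (Ideal.Quotient.mk J) x hu)
  · intro y hy
    obtain ⟨x, rfl⟩ := Ideal.Quotient.mk_surjective y
    refine Ideal.mem_map_of_mem _ ?_
    rw [mem_maximalIdeal, mem_nonunits_iff]
    intro hu
    exact hy (hu.map (Ideal.Quotient.mk J))

/-- S1755 -/
theorem main1755 (A : Type u) [CommRing A] [IsNoetherianRing A] (I : Ideal A) (M : Type u)
    [AddCommGroup M] [Module A M] [Module.Finite A M]
    (h : ∀ p : Ideal A, p ∈ associatedPrimes A M → ¬ I ≤ p → ∀ (q : PrimeSpectrum A),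
      p ≤ q.asIdeal → I ≤ q.asIdeal →
      ∀ P ∈ associatedPrimes
          (AdicCompletion ((IsLocalRing.maximalIdeal (Localization.AtPrime q.asIdeal)).map
            (Ideal.Quotient.mk (p.map (algebraMap A (Localization.AtPrime q.asIdeal)))))
            (Localization.AtPrime q.asIdeal ⧸ p.map (algebraMap A (Localization.AtPrime q.asIdeal))))
          (AdicCompletion ((IsLocalRing.maximalIdeal (Localization.AtPrime q.asIdeal)).map
            (Ideal.Quotient.mk (p.map (algebraMap A (Localization.AtPrime q.asIdeal)))))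
            (Localization.AtPrime q.asIdeal ⧸ p.map (algebraMap A (Localization.AtPrime q.asIdeal)))),
        (2 : WithBot ℕ∞) ≤ ringKrullDim
          (AdicCompletion ((IsLocalRing.maximalIdeal (Localization.AtPrime q.asIdeal)).map
            (Ideal.Quotient.mk (p.map (algebraMap A (Localization.AtPrime q.asIdeal)))))
            (Localization.AtPrime q.asIdeal ⧸ p.map (algebraMap A (Localization.AtPrime q.asIdeal)))
            ⧸ P)) :
    Module.Finite A (LocCoh.H I 1 M) := by
  rw [main1763 I M]
  intro p hp hIp
  haveI hpp : p.IsPrime := hp.isPrime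
  obtain ⟨b, hbI, hbp⟩ := SetLike.not_le_iff_exists.1 hIp
  have hb0 : (Ideal.Quotient.mk p b) ≠ 0 := fun h0 => hbp (Ideal.Quotient.eq_zero_iff_mem.1 h0)
  have hbreg : IsSMulRegular (A ⧸ p) b := by
    intro x y hxy
    have hxy' : Ideal.Quotient.mk p b * x = Ideal.Quotient.mk p b * y := hxy
    exact mul_left_cancel₀ hb0 hxy'
  refine kollar_module I (A ⧸ p) hbI hbreg ?_
  intro q hq hIq
  by_cases hpq : p ≤ q
  · -- the main case
    have hpC : p.map (algebraMap A (Localization.AtPrime q)) ≠ ⊤ := by
      intro htop
      have h1 : p.map (algebraMap A (Localization.AtPrime q)) ≤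
          maximalIdeal (Localization.AtPrime q) := by
        rw [← IsLocalization.AtPrime.map_eq_maximalIdeal q (Localization.AtPrime q)]
        exact Ideal.map_mono hpq
      rw [htop] at h1
      exact (maximalIdeal.isMaximal (Localization.AtPrime q)).ne_top (top_le_iff.1 h1)
    obtain ⟨hloc, hmax⟩ := quot_local (Localization.AtPrime q)
      (p.map (algebraMap A (Localization.AtPrime q))) hpC
    haveI := hloc
    have hfinC' := finite_H1_max_of_cpl'
      (Localization.AtPrime q ⧸ p.map (algebraMap A (Localization.AtPrime q)))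
      ((maximalIdeal (Localization.AtPrime q)).map
        (Ideal.Quotient.mk (p.map (algebraMap A (Localization.AtPrime q))))) hmax
      (h p hp hIp ⟨q, hq⟩ hpq hIq)
    obtain ⟨φ, hφ⟩ := Groth.Agent.Lib.LocCohBaseIndepH7.main (R := Localization.AtPrime q)
      (Localization.AtPrime q ⧸ p.map (algebraMap A (Localization.AtPrime q)))
      (maximalIdeal (Localization.AtPrime q)) 1
      (Localization.AtPrime q ⧸ p.map (algebraMap A (Localization.AtPrime q)))
    have hfinC : Module.Finite (Localization.AtPrime q)
        (LocCoh.H (maximalIdeal (Localization.AtPrime q)) 1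
          (Localization.AtPrime q ⧸ p.map (algebraMap A (Localization.AtPrime q)))) :=
      (finite_iff_of_semilinear Ideal.Quotient.mk_surjective φ hφ).1 hfinC'
    haveI := hfinC
    exact Module.Finite.equiv
      ((localCohomology (maximalIdeal (Localization.AtPrime q)) 1).mapIso
        (LinearEquiv.toModuleIso (Ideal.qoutMapEquivTensorQout (Localization.AtPrime q)
          (I := p)))).toLinearEquiv
  · -- `(A/p)_q = 0`
    obtain ⟨s, hsp, hsq⟩ := SetLike.not_le_iff_exists.1 hpq
    have htop : p.map (algebraMap A (Localization.AtPrime q)) = ⊤ :=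
      Ideal.eq_top_of_isUnit_mem _ (Ideal.mem_map_of_mem _ hsp)
        (IsLocalization.map_units (Localization.AtPrime q) (⟨s, hsq⟩ : q.primeCompl))
    haveI : Subsingleton (Localization.AtPrime q ⧸ p.map (algebraMap A (Localization.AtPrime q))) :=
      Ideal.Quotient.subsingleton_iff.2 htop
    haveI : Subsingleton ((Localization.AtPrime q) ⊗[A] (A ⧸ p)) :=
      (Ideal.qoutMapEquivTensorQout (Localization.AtPrime q) (I := p)).symm.subsingleton
    exact (FD_iff_finite_H1 _ _).1 (FD_of_subsingleton _)

end Groth.Agent.Lib.KollarH5
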