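import Mathlib
import Groth.Prelude.Def_EGA4b
import Groth.Prelude.Def_Found
import Groth.Prelude.Def_DualLC
import Groth.Agent.Lib.FFS1b_helper5
import Groth.Agent.Lib.Kollar6_helper5
import Groth.Agent.S9126

/-!
# S1756: finiteness of `H¹_I(M)` over a universally catenary ring with `(S_1)` formal fibres
(helper5)
APPEND-ONLY once landed.
-/

set_option autoImplicit false
universe u

namespace Groth.Agent.Lib.FFS1H5

open CategoryTheory TensorProduct IsLocalRing LocCoh Groth.Agent.Lib.FinH1Ass_helper6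
  Groth.Agent.Lib.CohPush_helper6 Groth.Agent.Lib.CplPushH5 Groth.Agent.Lib.KollarH5

section Dim

variable {A : Type u} [CommRing A] (p q : Ideal A) [hq : q.IsPrime]

/-- image in `A_q / pA_q` of an ideal of `A` -/
noncomputable def imC (r : Ideal A) :
    Ideal (Localization.AtPrime q ⧸ p.map (algebraMap A (Localization.AtPrime q))) :=
  (r.map (algebraMap A (Localization.AtPrime q))).map (Ideal.Quotient.mk _)

theorem imC_mono {r₁ r₂ : Ideal A} (h : r₁ ≤ r₂) : imC p q r₁ ≤ imC p q r₂ :=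
  Ideal.map_mono (Ideal.map_mono h)

theorem disjoint_of_le {r : Ideal A} (hrq : r ≤ q) : Disjoint (q.primeCompl : Set A) (r : Set A) := by
  rw [Set.disjoint_left]
  intro x hx hxr
  exact hx (hrq hxr)

theorem imC_isPrime (r : Ideal A) [hr : r.IsPrime] (hpr : p ≤ r) (hrq : r ≤ q) :
    (imC p q r).IsPrime := by
  haveI : (r.map (algebraMap A (Localization.AtPrime q))).IsPrime :=
    IsLocalization.isPrime_of_isPrime_disjoint q.primeCompl _ r hr (disjoint_of_le q hrq)
  refine Ideal.map_isPrime_of_surjective Ideal.Quotient.mk_surjective ?_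
  rw [Ideal.mk_ker]
  exact Ideal.map_mono hpr

theorem comap_imC (r : Ideal A) [hr : r.IsPrime] (hpr : p ≤ r) (hrq : r ≤ q) :
    ((imC p q r).comap (Ideal.Quotient.mk _)).comap (algebraMap A (Localization.AtPrime q)) = r := by
  unfold imC
  rw [Ideal.comap_map_of_surjective _ Ideal.Quotient.mk_surjective, ← RingHom.ker_eq_comap_bot,
    Ideal.mk_ker, sup_eq_left.2 (Ideal.map_mono hpr)]
  exact IsLocalization.under_map_of_isPrime_disjoint q.primeCompl _ hr (disjoint_of_le q hrq)

theorem imC_lt (r₁ r₂ : Ideal A) [r₁.IsPrime] [r₂.IsPrime] (hpr : p ≤ r₁) (hrq : r₂ ≤ q)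
    (h : r₁ < r₂) : imC p q r₁ < imC p q r₂ := by
  refine lt_of_le_of_ne (imC_mono p q h.le) ?_
  intro heq
  have h1 := comap_imC p q r₁ hpr (h.le.trans hrq)
  have h2 := comap_imC p q r₂ (hpr.trans h.le) hrq
  rw [heq, h2] at h1
  exact h.ne h1.symm

end Dim

/-- a chain of length two between `p` and `q` gives dimension at least two for `A_q / pA_q` -/
theorem two_le_dim_of_height {A : Type u} [CommRing A] (p q : PrimeSpectrum A) (hpq : p ≤ q)
    (h : (2 : ℕ∞) ≤ Order.height (⟨q, hpq⟩ : Set.Ici p)) :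
    (2 : WithBot ℕ∞) ≤ ringKrullDim (Localization.AtPrime q.asIdeal ⧸
      p.asIdeal.map (algebraMap A (Localization.AtPrime q.asIdeal))) := by
  have h1 : (1 : ℕ∞) < Order.height (⟨q, hpq⟩ : Set.Ici p) := by
    have : (1 : ℕ∞) + 1 ≤ Order.height (⟨q, hpq⟩ : Set.Ici p) := by
      rw [one_add_one_eq_two]; exact h
    exact (ENat.add_one_le_iff (by simp)).1 this
  obtain ⟨y, z, hzy, hyq⟩ := Order.one_lt_height_iff.1 h1
  have hpz : p.asIdeal ≤ z.1.asIdeal := z.2
  have hzy' : z.1.asIdeal < y.1.asIdeal := hzy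
  have hyq' : y.1.asIdeal < q.asIdeal := hyq
  haveI := imC_isPrime p.asIdeal q.asIdeal z.1.asIdeal hpz (hzy'.le.trans hyq'.le)
  haveI := imC_isPrime p.asIdeal q.asIdeal y.1.asIdeal (hpz.trans hzy'.le) hyq'.le
  haveI := imC_isPrime p.asIdeal q.asIdeal q.asIdeal hpq le_rfl
  let Z : PrimeSpectrum (Localization.AtPrime q.asIdeal ⧸
      p.asIdeal.map (algebraMap A (Localization.AtPrime q.asIdeal))) :=
    ⟨imC p.asIdeal q.asIdeal z.1.asIdeal, inferInstance⟩
  let Y : PrimeSpectrum (Localization.AtPrime q.asIdeal ⧸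
      p.asIdeal.map (algebraMap A (Localization.AtPrime q.asIdeal))) :=
    ⟨imC p.asIdeal q.asIdeal y.1.asIdeal, inferInstance⟩
  let Q : PrimeSpectrum (Localization.AtPrime q.asIdeal ⧸
      p.asIdeal.map (algebraMap A (Localization.AtPrime q.asIdeal))) :=
    ⟨imC p.asIdeal q.asIdeal q.asIdeal, inferInstance⟩
  have hZY : Z < Y := imC_lt p.asIdeal q.asIdeal _ _ hpz hyq'.le hzy'
  have hYQ : Y < Q := imC_lt p.asIdeal q.asIdeal _ _ (hpz.trans hzy'.le) le_rfl hyq'
  have h2 : (1 : ℕ∞) < Order.height Q := Order.one_lt_height_iff.2 ⟨Y, Z, hZY, hYQ⟩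
  have h3 : (2 : ℕ∞) ≤ Order.height Q := by
    have := (ENat.add_one_le_iff (by simp)).2 h2
    rwa [one_add_one_eq_two] at this
  have h4 : ((2 : ℕ∞) : WithBot ℕ∞) ≤ ((Order.height Q : ℕ∞) : WithBot ℕ∞) :=
    WithBot.coe_le_coe.2 h3
  exact h4.trans (Order.height_le_krullDim Q)


/-- S1756 -/
theorem main1756 (A : Type u) [CommRing A] [IsNoetherianRing A]
    (hA : CAlg.IsUniversallyCatenary A) (I : Ideal A)
    (hF : ∀ q : PrimeSpectrum A, I ≤ q.asIdeal →
      EGA4.HasSnFormalFibres 1 (Localization.AtPrime q.asIdeal))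
    (M : Type u) [AddCommGroup M] [Module A M] [Module.Finite A M]
    (h : ∀ (p q : PrimeSpectrum A) (hpq : p ≤ q), p.asIdeal ∈ associatedPrimes A M →
      ¬ I ≤ p.asIdeal → I ≤ q.asIdeal → (2 : ℕ∞) ≤ Order.height (⟨q, hpq⟩ : Set.Ici p)) :
    Module.Finite A (LocCoh.H I 1 M) := by
  rw [main1763 I M]
  intro p hp hIp
  haveI hpp : p.IsPrime := hp.isPrime
  obtain ⟨b, hbI, hbp⟩ := SetLike.not_le_iff_exists.1 hIp
  have hb0 : (Ideal.Quotient.mk p b) ≠ 0 := fun h0 => hbp (Ideal.Quotient.eq_zero_iff_mem.1 h0)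
  have hbreg : IsSMulRegular (A ⧸ p) b := by
    intro x y hxy
    have hxy' : Ideal.Quotient.mk p b * x = Ideal.Quotient.mk p b * y := hxy
    exact mul_left_cancel₀ hb0 hxy'
  refine kollar_module I (A ⧸ p) hbI hbreg ?_
  intro q hq hIq
  by_cases hpq : p ≤ q
  · -- the main case
    haveI hpC : (p.map (algebraMap A (Localization.AtPrime q))).IsPrime :=
      IsLocalization.isPrime_of_isPrime_disjoint q.primeCompl _ p hpp (disjoint_of_le q hpq)
    have hUC : CAlg.IsUniversallyCatenary (Localization.AtPrime q) :=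
      Groth.Agent.S9126.result A (Localization.AtPrime q) hA
    have hdim := two_le_dim_of_height (⟨p, hpp⟩ : PrimeSpectrum A) ⟨q, hq⟩ hpq
      (h ⟨p, hpp⟩ ⟨q, hq⟩ hpq hp hIp hIq)
    have hfinC : Module.Finite (Localization.AtPrime q)
        (LocCoh.H (maximalIdeal (Localization.AtPrime q)) 1
          (Localization.AtPrime q ⧸ p.map (algebraMap A (Localization.AtPrime q)))) :=
      finite_H1_quot_of_S1 (Localization.AtPrime q) hUC
        (p.map (algebraMap A (Localization.AtPrime q)))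
        ((hF ⟨q, hq⟩ hIq) (p.map (algebraMap A (Localization.AtPrime q)))) hdim
    haveI := hfinC
    exact Module.Finite.equiv
      ((localCohomology (maximalIdeal (Localization.AtPrime q)) 1).mapIso
        (LinearEquiv.toModuleIso (Ideal.qoutMapEquivTensorQout (Localization.AtPrime q)
          (I := p)))).toLinearEquiv
  · -- `(A/p)_q = 0`
    obtain ⟨s, hsp, hsq⟩ := SetLike.not_le_iff_exists.1 hpq
    have htop : p.map (algebraMap A (Localization.AtPrime q)) = ⊤ :=
      Ideal.eq_top_of_isUnit_mem _ (Ideal.mem_map_of_mem _ hsp)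
        (IsLocalization.map_units (Localization.AtPrime q) (⟨s, hsq⟩ : q.primeCompl))
    haveI : Subsingleton (Localization.AtPrime q ⧸ p.map (algebraMap A (Localization.AtPrime q))) :=
      Ideal.Quotient.subsingleton_iff.2 htop
    haveI : Subsingleton ((Localization.AtPrime q) ⊗[A] (A ⧸ p)) :=
      (Ideal.qoutMapEquivTensorQout (Localization.AtPrime q) (I := p)).symm.subsingleton
    exact (FD_iff_finite_H1 _ _).1 (FD_of_subsingleton _)

end Groth.Agent.Lib.FFS1H5
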