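import Mathlib
import Groth.Agent.Lib.FFT1_helper9
import Groth.Agent.Lib.PluckRel2_helper9

/-!
# First fundamental theorem for `SL_d`: invariants are polynomials in the minors
-/

set_option autoImplicit false

universe u

namespace Groth.Agent.FFT9

open W4bk4grassmannian MvPolynomial Function Finset

variable {d n : ℕ} (K : Type u) [Field K]

lemma eval_minor (b : Fin n × Fin d → K) (a : Fin d → Fin n) :
    MvPolynomial.eval b (minor K d n a) =
      ((Matrix.of fun i t => b (i, t)).submatrix a id).det := by
  unfold minor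
  rw [RingHom.map_det]
  congr 1
  apply Matrix.ext
  intro s t
  simp only [RingHom.mapMatrix_apply, Matrix.map_apply, Matrix.of_apply,
    Matrix.submatrix_apply, id_eq, eval_X]

lemma minor_mem_range [Infinite K] (a : Fin d → Fin n) :
    minor K d n a ∈ (pluckerMap K d n).range := by
  rw [AlgHom.mem_range]
  refine ⟨coord K d n a, ?_⟩
  apply MvPolynomial.funext
  intro b
  rw [eval_pluckerMap, Groth.Agent.PluckRel9.evalMinors_coord, eval_minor]

lemma eval_rightTranslate (b : Fin n × Fin d → K) (g : Matrix.SpecialLinearGroup (Fin d) K)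
    (f : MatRing K d n) :
    eval b (rightTranslate K d n g f) =
      eval (fun q : Fin n × Fin d =>
        ((Matrix.of fun i t => b (i, t)) * (g : Matrix (Fin d) (Fin d) K)) q.1 q.2) f := by
  have h : (MvPolynomial.eval b : _ →+* K).comp (rightTranslate K d n g).toRingHom =
      MvPolynomial.eval (fun q : Fin n × Fin d =>
        ((Matrix.of fun i t => b (i, t)) * (g : Matrix (Fin d) (Fin d) K)) q.1 q.2) := by
    apply MvPolynomial.ringHom_ext
    · intro c
      simp only [RingHom.coe_comp, AlgHom.toRingHom_eq_coe, RingHom.coe_coe, Function.comp_apply,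
        MvPolynomial.algHom_C, MvPolynomial.eval_C, MvPolynomial.algebraMap_eq]
    · intro q
      simp only [RingHom.coe_comp, AlgHom.toRingHom_eq_coe, RingHom.coe_coe, Function.comp_apply]
      unfold rightTranslate
      rw [aeval_X, eval_X, map_sum, Matrix.mul_apply]
      refine Finset.sum_congr rfl (fun k _ => ?_)
      rw [map_mul, eval_X, eval_C, Matrix.of_apply]
  exact RingHom.congr_fun h f

lemma rightTranslate_minor (g : Matrix.SpecialLinearGroup (Fin d) K) (a : Fin d → Fin n) :
    rightTranslate K d n g (minor K d n a) = minor K d n a := by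
  unfold minor
  rw [AlgHom.map_det]
  have h : (rightTranslate K d n g).mapMatrix
      (Matrix.of fun s t : Fin d => (X (a s, t) : MatRing K d n)) =
      (Matrix.of fun s t : Fin d => (X (a s, t) : MatRing K d n)) *
        ((g : Matrix (Fin d) (Fin d) K).map (C : K →+* MatRing K d n)) := by
    apply Matrix.ext
    intro s t
    rw [AlgHom.mapMatrix_apply, Matrix.map_apply, Matrix.of_apply, Matrix.mul_apply]
    unfold rightTranslate
    rw [aeval_X]
    refine Finset.sum_congr rfl (fun k _ => ?_)
    rw [Matrix.of_apply, Matrix.map_apply]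
  rw [h, Matrix.det_mul]
  have h2 : ((g : Matrix (Fin d) (Fin d) K).map (C : K →+* MatRing K d n)).det = 1 := by
    have h3 := (RingHom.map_det (C : K →+* MatRing K d n) (g : Matrix (Fin d) (Fin d) K)).symm
    rw [RingHom.mapMatrix_apply] at h3
    rw [h3, g.det_coe, map_one]
  rw [h2, mul_one]

lemma rightTranslate_pluckerMap (g : Matrix.SpecialLinearGroup (Fin d) K) (F : PlRing K d n) :
    rightTranslate K d n g (pluckerMap K d n F) = pluckerMap K d n F := by
  have h : (rightTranslate K d n g).comp (pluckerMap K d n) = pluckerMap K d n := by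
    apply MvPolynomial.algHom_ext
    intro θ
    rw [AlgHom.comp_apply]
    unfold pluckerMap
    rw [aeval_X]
    exact rightTranslate_minor K g θ.1
  exact AlgHom.congr_fun h F

/-- The `(i,t)` entry of `X · adj(X_top)`. -/
noncomputable def Mx (hdn : d ≤ n) (q : Fin n × Fin d) : MatRing K d n :=
  minor K d n (Function.update (iota hdn).1 q.2 q.1)

/-- The entries of `A · g_A`. -/
noncomputable def bprime (hdn : d ≤ n) (t₀ : Fin d) (b : Fin n × Fin d → K)
    (q : Fin n × Fin d) : K :=
  (eval b (minor K d n (iota hdn).1))⁻¹ * eval b (Mx K hdn q) *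
    (if q.2 = t₀ then eval b (minor K d n (iota hdn).1) else 1)

lemma exists_g (hdn : d ≤ n) (t₀ : Fin d) (b : Fin n × Fin d → K)
    (hδ : eval b (minor K d n (iota hdn).1) ≠ 0) :
    ∃ g : Matrix.SpecialLinearGroup (Fin d) K, ∀ q : Fin n × Fin d,
      ((Matrix.of fun i t => b (i, t)) * (g : Matrix (Fin d) (Fin d) K)) q.1 q.2 =
        bprime K hdn t₀ b q := by
  set A : Matrix (Fin n) (Fin d) K := Matrix.of fun i t => b (i, t) with hA
  set T : Matrix (Fin d) (Fin d) K := A.submatrix (iota hdn).1 id with hT
  have hdet : T.det = eval b (minor K d n (iota hdn).1) := (eval_minor K b _).symm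
  have hMx : ∀ q : Fin n × Fin d, eval b (Mx K hdn q) = (A * T.adjugate) q.1 q.2 := by
    intro q
    unfold Mx
    rw [eval_minor]
    have hupd : A.submatrix (Function.update (iota hdn).1 q.2 q.1) id =
        T.updateRow q.2 (A q.1) := by
      apply Matrix.ext
      intro s k
      rw [Matrix.updateRow_apply, Matrix.submatrix_apply, Function.update_apply]
      split_ifs <;> rfl
    rw [hupd, ← Matrix.cramer_transpose_apply, Matrix.cramer_eq_adjugate_mulVec,
      ← Matrix.adjugate_transpose]
    simp only [Matrix.mulVec, dotProduct, Matrix.mul_apply, Matrix.transpose_apply]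
    exact Finset.sum_congr rfl (fun s _ => mul_comm _ _)
  generalize hδeq : eval b (minor K d n (iota hdn).1) = δ at hδ hdet
  let c : Fin d → K := fun t => if t = t₀ then δ else 1
  have hg : (T⁻¹ * Matrix.diagonal c).det = 1 := by
    rw [Matrix.det_mul, Matrix.det_nonsing_inv, Matrix.det_diagonal, hdet, Ring.inverse_eq_inv]
    have hprod : ∏ t, c t = δ := by
      show ∏ t, (if t = t₀ then δ else 1) = δ
      rw [Finset.prod_ite_eq' Finset.univ t₀ (fun _ => δ)]
      simp
    rw [hprod, inv_mul_cancel₀ hδ]
  refine ⟨⟨T⁻¹ * Matrix.diagonal c, hg⟩, fun q => ?_⟩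
  show (A * (T⁻¹ * Matrix.diagonal c)) q.1 q.2 = _
  rw [← Matrix.mul_assoc, Matrix.mul_diagonal, Matrix.inv_def, hdet, Ring.inverse_eq_inv,
    Matrix.mul_smul, Matrix.smul_apply, smul_eq_mul]
  unfold bprime
  rw [hMx q, hδeq]

lemma exists_clear [Infinite K] (hdn : d ≤ n) (t₀ : Fin d) (h : MatRing K d n) :
    ∃ (D : ℕ) (P : MatRing K d n), P ∈ (pluckerMap K d n).range ∧
      ∀ b : Fin n × Fin d → K, eval b (minor K d n (iota hdn).1) ≠ 0 →
        eval b (minor K d n (iota hdn).1) ^ D * eval (bprime K hdn t₀ b) h = eval b P := by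
  induction h using MvPolynomial.induction_on with
  | C a =>
    refine ⟨0, C a, ?_, fun b _ => ?_⟩
    · rw [AlgHom.mem_range]
      exact ⟨C a, MvPolynomial.algHom_C _ a⟩
    · rw [pow_zero, one_mul, eval_C, eval_C]
  | add p q hp hq =>
    obtain ⟨D1, P1, hP1, h1⟩ := hp
    obtain ⟨D2, P2, hP2, h2⟩ := hq
    refine ⟨D1 + D2, minor K d n (iota hdn).1 ^ D2 * P1 + minor K d n (iota hdn).1 ^ D1 * P2,
      ?_, fun b hb => ?_⟩
    · exact Subalgebra.add_mem _
        (Subalgebra.mul_mem _ (Subalgebra.pow_mem _ (minor_mem_range K _) _) hP1)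
        (Subalgebra.mul_mem _ (Subalgebra.pow_mem _ (minor_mem_range K _) _) hP2)
    · rw [map_add, map_add, map_mul, map_mul, map_pow, map_pow, ← h1 b hb, ← h2 b hb]
      ring
  | mul_X p q hp =>
    obtain ⟨D1, P1, hP1, h1⟩ := hp
    refine ⟨D1 + 1, P1 * (Mx K hdn q * (if q.2 = t₀ then minor K d n (iota hdn).1 else 1)),
      ?_, fun b hb => ?_⟩
    · refine Subalgebra.mul_mem _ hP1 (Subalgebra.mul_mem _ (minor_mem_range K _) ?_)
      split_ifs
      · exact minor_mem_range K _
      · exact Subalgebra.one_mem _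
    · rw [map_mul, map_mul, eval_X, map_mul, ← h1 b hb]
      have hif : eval b (if q.2 = t₀ then minor K d n (iota hdn).1 else (1 : MatRing K d n)) =
          if q.2 = t₀ then eval b (minor K d n (iota hdn).1) else 1 := by
        split_ifs
        · rfl
        · exact map_one _
      rw [hif]
      have key : ∀ (δ E m c : K), δ ≠ 0 →
          δ ^ (D1 + 1) * (E * (δ⁻¹ * m * c)) = δ ^ D1 * E * (m * c) := by
        intro δ E m c hδ
        rw [pow_succ]
        field_simp
      exact key _ _ _ _ hb

theorem invariant_mem [Infinite K] (hd : 0 < d) (hdn : d ≤ n) (f : MatRing K d n)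
    (hf : ∀ g : Matrix.SpecialLinearGroup (Fin d) K, rightTranslate K d n g f = f) :
    f ∈ (pluckerMap K d n).range := by
  obtain ⟨D, P, hP, hDP⟩ := exists_clear K hdn ⟨0, hd⟩ f
  have hinv : ∀ b : Fin n × Fin d → K, eval b (minor K d n (iota hdn).1) ≠ 0 →
      eval (bprime K hdn ⟨0, hd⟩ b) f = eval b f := by
    intro b hb
    obtain ⟨g, hg⟩ := exists_g K hdn ⟨0, hd⟩ b hb
    have h1 := eval_rightTranslate K b g f
    rw [hf g] at h1
    have hb' : bprime K hdn ⟨0, hd⟩ b = fun q : Fin n × Fin d =>
        ((Matrix.of fun i t => b (i, t)) * (g : Matrix (Fin d) (Fin d) K)) q.1 q.2 := by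
      funext q
      exact (hg q).symm
    rw [h1, hb']
  have hzero : (minor K d n (iota hdn).1 ^ D * f - P) * minor K d n (iota hdn).1 = 0 := by
    apply MvPolynomial.funext
    intro b
    rw [map_mul, map_sub, map_mul, map_pow, map_zero]
    by_cases hb : eval b (minor K d n (iota hdn).1) = 0
    · rw [hb, mul_zero]
    · rw [← hDP b hb, hinv b hb, sub_self, zero_mul]
  have hPeq : minor K d n (iota hdn).1 ^ D * f = P := by
    rcases mul_eq_zero.1 hzero with h0 | h0
    · exact sub_eq_zero.1 h0
    · exact absurd h0 (minor_iota_ne_zero K hdn)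
  have hpow : ∀ (D : ℕ) (q : MatRing K d n),
      minor K d n (iota hdn).1 ^ D * q ∈ (pluckerMap K d n).range →
        q ∈ (pluckerMap K d n).range := by
    intro D
    induction D with
    | zero =>
      intro q hq
      rwa [pow_zero, one_mul] at hq
    | succ D ih =>
      intro q hq
      apply ih
      apply mem_range_of_mul_mem K hd hdn
      rwa [pow_succ', mul_assoc] at hq
  apply hpow D f
  rw [hPeq]
  exact hP

theorem main (hd : 0 < d) (hdn : d ≤ n) [Infinite K] (f : MatRing K d n) :
    (∀ g : Matrix.SpecialLinearGroup (Fin d) K, rightTranslate K d n g f = f) ↔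
      f ∈ Algebra.adjoin K (Set.range fun θ : Idx d n => minor K d n θ.1) := by
  have hrange : Algebra.adjoin K (Set.range fun θ : Idx d n => minor K d n θ.1) =
      (pluckerMap K d n).range := by
    unfold pluckerMap
    exact Algebra.adjoin_range_eq_range_aeval K _
  rw [hrange]
  constructor
  · exact invariant_mem K hd hdn f
  · intro hf g
    rw [AlgHom.mem_range] at hf
    obtain ⟨F, rfl⟩ := hf
    exact rightTranslate_pluckerMap K g F

end Groth.Agent.FFT9
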