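import Mathlib
import Groth.Prelude.Def_W4bk4grassmannianPl

/-!
# First fundamental theorem for `GL_n` acting on pairs of matrices: generalities (helper9)
APPEND-ONLY once landed.
-/

set_option autoImplicit false

universe u

namespace Groth.Agent.FFTGL9

open W4bk4grassmannian MvPolynomial Function Finset

variable (K : Type u) [Field K] (n m q : ℕ)

lemma glTranslate_X_inl (A : GL (Fin n) K) (p : Fin m × Fin n) :
    glTranslate K n m q A (X (Sum.inl p)) = ∑ k : Fin n, X (Sum.inl (p.1, k)) *
      C (((A⁻¹ : GL (Fin n) K) : Matrix (Fin n) (Fin n) K) k p.2) := by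
  unfold glTranslate
  rw [aeval_X]
  rfl

lemma glTranslate_X_inr (A : GL (Fin n) K) (p : Fin n × Fin q) :
    glTranslate K n m q A (X (Sum.inr p)) = ∑ k : Fin n,
      C ((A : Matrix (Fin n) (Fin n) K) p.1 k) * X (Sum.inr (k, p.2)) := by
  unfold glTranslate
  rw [aeval_X]
  rfl

/-- Polynomials in the entries of the product matrix are invariant. -/
theorem glTranslate_pairingMap (A : GL (Fin n) K) (P : MvPolynomial (Fin m × Fin q) K) :
    glTranslate K n m q A (pairingMap K n m q P) = pairingMap K n m q P := by
  have h : (glTranslate K n m q A).comp (pairingMap K n m q) = pairingMap K n m q := by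
    apply MvPolynomial.algHom_ext
    intro p
    rw [AlgHom.comp_apply]
    unfold pairingMap
    rw [aeval_X, map_sum]
    simp only [map_mul, glTranslate_X_inl, glTranslate_X_inr]
    simp_rw [Finset.sum_mul, Finset.mul_sum]
    rw [Finset.sum_comm]
    apply Finset.sum_congr rfl
    intro a _
    rw [Finset.sum_comm]
    have hAA : ((A⁻¹ : GL (Fin n) K) : Matrix (Fin n) (Fin n) K) *
        (A : Matrix (Fin n) (Fin n) K) = 1 := by
      rw [← Units.val_mul, inv_mul_cancel, Units.val_one]
    have h1 : ∀ y : Fin n, ∑ x : Fin n, X (Sum.inl (p.1, a)) *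
        C (((A⁻¹ : GL (Fin n) K) : Matrix (Fin n) (Fin n) K) a x) *
          (C ((A : Matrix (Fin n) (Fin n) K) x y) * X (Sum.inr (y, p.2))) =
        (X (Sum.inl (p.1, a)) * X (Sum.inr (y, p.2)) *
          C ((1 : Matrix (Fin n) (Fin n) K) a y) : PairRing K n m q) := by
      intro y
      rw [← hAA, Matrix.mul_apply, map_sum, Finset.mul_sum]
      apply Finset.sum_congr rfl
      intro x _
      rw [map_mul]
      ring
    rw [Finset.sum_congr rfl (fun y _ => h1 y), Finset.sum_eq_single a]
    · rw [Matrix.one_apply_eq, map_one, mul_one]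
    · intro y _ hy
      rw [Matrix.one_apply_ne (Ne.symm hy), map_zero, mul_zero]
    · intro h
      exact absurd (Finset.mem_univ a) h
  exact AlgHom.congr_fun h P

/-! ### Evaluation at translated points -/

/-- The translate `(U A⁻¹, A W)` of a point `(U, W)`. -/
def actPt (A : GL (Fin n) K) (pt : (Fin m × Fin n) ⊕ (Fin n × Fin q) → K) :
    (Fin m × Fin n) ⊕ (Fin n × Fin q) → K :=
  Sum.elim
    (fun p => ∑ k : Fin n, pt (Sum.inl (p.1, k)) *
      ((A⁻¹ : GL (Fin n) K) : Matrix (Fin n) (Fin n) K) k p.2)
    (fun p => ∑ k : Fin n, (A : Matrix (Fin n) (Fin n) K) p.1 k * pt (Sum.inr (k, p.2)))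

lemma eval_glTranslate (A : GL (Fin n) K) (pt : (Fin m × Fin n) ⊕ (Fin n × Fin q) → K)
    (f : PairRing K n m q) :
    MvPolynomial.eval pt (glTranslate K n m q A f) =
      MvPolynomial.eval (actPt K n m q A pt) f := by
  have h : (MvPolynomial.eval pt : _ →+* K).comp (glTranslate K n m q A).toRingHom =
      MvPolynomial.eval (actPt K n m q A pt) := by
    apply MvPolynomial.ringHom_ext
    · intro c
      simp only [RingHom.coe_comp, AlgHom.toRingHom_eq_coe, RingHom.coe_coe, Function.comp_apply,
        MvPolynomial.algHom_C, MvPolynomial.eval_C, MvPolynomial.algebraMap_eq]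
    · intro v
      simp only [RingHom.coe_comp, AlgHom.toRingHom_eq_coe, RingHom.coe_coe, Function.comp_apply]
      rcases v with p | p
      · rw [glTranslate_X_inl, map_sum, MvPolynomial.eval_X]
        unfold actPt
        rw [Sum.elim_inl]
        apply Finset.sum_congr rfl
        intro k _
        rw [map_mul, MvPolynomial.eval_X, MvPolynomial.eval_C]
      · rw [glTranslate_X_inr, map_sum, MvPolynomial.eval_X]
        unfold actPt
        rw [Sum.elim_inr]
        apply Finset.sum_congr rfl
        intro k _
        rw [map_mul, MvPolynomial.eval_X, MvPolynomial.eval_C]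
  exact RingHom.congr_fun h f

/-! ### Stabilisation in the numbers of covectors and vectors -/

section Stab

variable {m q} (m' q' : ℕ) (hm : m ≤ m') (hq : q ≤ q')

/-- extension by extra (unused) covectors and vectors -/
noncomputable def incl : PairRing K n m q →ₐ[K] PairRing K n m' q' :=
  MvPolynomial.aeval (Sum.elim
    (fun p : Fin m × Fin n => (X (Sum.inl (Fin.castLE hm p.1, p.2)) : PairRing K n m' q'))
    (fun p : Fin n × Fin q => X (Sum.inr (p.1, Fin.castLE hq p.2))))

/-- setting the extra covectors and vectors to zero -/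
noncomputable def ret : PairRing K n m' q' →ₐ[K] PairRing K n m q :=
  MvPolynomial.aeval (Sum.elim
    (fun p : Fin m' × Fin n => if h : p.1.val < m then
      (X (Sum.inl (⟨p.1.val, h⟩, p.2)) : PairRing K n m q) else 0)
    (fun p : Fin n × Fin q' => if h : p.2.val < q then X (Sum.inr (p.1, ⟨p.2.val, h⟩)) else 0))

/-- setting the extra rows and columns of the product matrix to zero -/
noncomputable def retY : MvPolynomial (Fin m' × Fin q') K →ₐ[K] MvPolynomial (Fin m × Fin q) K :=
  MvPolynomial.aeval (fun p : Fin m' × Fin q' => if h : p.1.val < m ∧ p.2.val < q then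
    (X (⟨p.1.val, h.1⟩, ⟨p.2.val, h.2⟩) : MvPolynomial (Fin m × Fin q) K) else 0)

lemma ret_incl (f : PairRing K n m q) : ret K n m' q' (incl K n m' q' hm hq f) = f := by
  have h : (ret K n m' q').comp (incl K n m' q' hm hq) = AlgHom.id K (PairRing K n m q) := by
    apply MvPolynomial.algHom_ext
    intro v
    rw [AlgHom.comp_apply, AlgHom.id_apply]
    unfold incl ret
    rcases v with p | p
    · rw [aeval_X, Sum.elim_inl, aeval_X, Sum.elim_inl, dif_pos (by simp)]
      rfl
    · rw [aeval_X, Sum.elim_inr, aeval_X, Sum.elim_inr, dif_pos (by simp)]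
      rfl
  exact AlgHom.congr_fun h f

lemma incl_glTranslate (A : GL (Fin n) K) (f : PairRing K n m q) :
    incl K n m' q' hm hq (glTranslate K n m q A f) =
      glTranslate K n m' q' A (incl K n m' q' hm hq f) := by
  have h : (incl K n m' q' hm hq).comp (glTranslate K n m q A) =
      (glTranslate K n m' q' A).comp (incl K n m' q' hm hq) := by
    apply MvPolynomial.algHom_ext
    intro v
    rw [AlgHom.comp_apply, AlgHom.comp_apply]
    rcases v with p | p
    · rw [glTranslate_X_inl, map_sum]
      unfold incl
      rw [aeval_X, Sum.elim_inl, glTranslate_X_inl]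
      apply Finset.sum_congr rfl
      intro k _
      rw [map_mul, aeval_X, Sum.elim_inl, MvPolynomial.algHom_C, MvPolynomial.algebraMap_eq]
    · rw [glTranslate_X_inr, map_sum]
      unfold incl
      rw [aeval_X, Sum.elim_inr, glTranslate_X_inr]
      apply Finset.sum_congr rfl
      intro k _
      rw [map_mul, aeval_X, Sum.elim_inr, MvPolynomial.algHom_C, MvPolynomial.algebraMap_eq]
  exact AlgHom.congr_fun h f

lemma ret_pairingMap (P : MvPolynomial (Fin m' × Fin q') K) :
    ret K n m' q' (pairingMap K n m' q' P) = pairingMap K n m q (retY K m' q' P) := by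
  have h : (ret K n m' q').comp (pairingMap K n m' q') =
      (pairingMap K n m q).comp (retY K m' q') := by
    apply MvPolynomial.algHom_ext
    intro p
    rw [AlgHom.comp_apply, AlgHom.comp_apply]
    unfold retY
    rw [aeval_X]
    unfold pairingMap ret
    rw [aeval_X, map_sum]
    by_cases h1 : p.1.val < m
    · by_cases h2 : p.2.val < q
      · rw [dif_pos ⟨h1, h2⟩, aeval_X]
        apply Finset.sum_congr rfl
        intro k _
        rw [map_mul, aeval_X, aeval_X, Sum.elim_inl, Sum.elim_inr, dif_pos h1, dif_pos h2]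
      · rw [dif_neg (fun h => h2 h.2), map_zero]
        apply Finset.sum_eq_zero
        intro k _
        rw [map_mul, aeval_X, aeval_X, Sum.elim_inr, dif_neg h2, mul_zero]
    · rw [dif_neg (fun h => h1 h.1), map_zero]
      apply Finset.sum_eq_zero
      intro k _
      rw [map_mul, aeval_X, aeval_X, Sum.elim_inl, dif_neg h1, zero_mul]
  exact AlgHom.congr_fun h P

theorem fft_of_le (hm : m ≤ m') (hq : q ≤ q')
    (h : ∀ f' : PairRing K n m' q', (∀ A : GL (Fin n) K, glTranslate K n m' q' A f' = f') →
      f' ∈ (pairingMap K n m' q').range)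
    (f : PairRing K n m q) (hf : ∀ A : GL (Fin n) K, glTranslate K n m q A f = f) :
    f ∈ (pairingMap K n m q).range := by
  have h1 : ∀ A : GL (Fin n) K, glTranslate K n m' q' A (incl K n m' q' hm hq f) =
      incl K n m' q' hm hq f := by
    intro A
    rw [← incl_glTranslate, hf A]
  obtain ⟨P', hP'⟩ := (AlgHom.mem_range _).1 (h _ h1)
  rw [AlgHom.mem_range]
  refine ⟨retY K m' q' P', ?_⟩
  rw [← ret_pairingMap, hP', ret_incl]

end Stab

/-- the case `n = 0`: every polynomial is constant -/
theorem fft_zero (m q : ℕ) (f : PairRing K 0 m q) : f ∈ (pairingMap K 0 m q).range := by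
  haveI : IsEmpty ((Fin m × Fin 0) ⊕ (Fin 0 × Fin q)) := by
    constructor
    rintro (⟨_, k⟩ | ⟨k, _⟩) <;> exact k.elim0
  rw [MvPolynomial.eq_C_of_isEmpty f, AlgHom.mem_range]
  exact ⟨C (f.coeff 0), MvPolynomial.algHom_C _ _⟩

end Groth.Agent.FFTGL9
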