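import Mathlib
import Groth.Agent.Lib.FFTGL1_helper9
import Groth.Agent.Lib.SFT1_helper9

/-!
# First fundamental theorem for `GL_n`: clearing denominators on the open set `D ≠ 0` (helper9)
APPEND-ONLY once landed.
-/

set_option autoImplicit false

universe u

namespace Groth.Agent.FFTGL9

open W4bk4grassmannian MvPolynomial Function Finset

section Defs

variable {n r d : ℕ}

/-- the last `n` rows -/
def f₀ (hnr : n ≤ r) (i : Fin n) : Fin r := ⟨r - n + i.val, by have := i.isLt; omega⟩

/-- the first `n` columns -/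
def g₀ (hnd : n ≤ d) (j : Fin n) : Fin d := ⟨j.val, by have := j.isLt; omega⟩

variable {K : Type u} [Field K]

/-- the matrix `U` of a point -/
def Umat (pt : (Fin r × Fin n) ⊕ (Fin n × Fin d) → K) : Matrix (Fin r) (Fin n) K :=
  Matrix.of fun i k => pt (Sum.inl (i, k))

/-- the matrix `W` of a point -/
def Wmat (pt : (Fin r × Fin n) ⊕ (Fin n × Fin d) → K) : Matrix (Fin n) (Fin d) K :=
  Matrix.of fun k j => pt (Sum.inr (k, j))

/-- the product `U W` of a point, as a point of the space of `r × d` matrices -/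
def yOf (pt : (Fin r × Fin n) ⊕ (Fin n × Fin d) → K) : Fin r × Fin d → K :=
  fun p => (Umat pt * Wmat pt) p.1 p.2

/-- the matrix of a point of the space of `r × d` matrices -/
def Ymat (y : Fin r × Fin d → K) : Matrix (Fin r) (Fin d) K := Matrix.of fun i j => y (i, j)

lemma Ymat_yOf (pt : (Fin r × Fin n) ⊕ (Fin n × Fin d) → K) :
    Ymat (yOf pt) = Umat pt * Wmat pt := by
  ext i j
  rfl

lemma sub_yOf (hnr : n ≤ r) (hnd : n ≤ d) (pt : (Fin r × Fin n) ⊕ (Fin n × Fin d) → K) :
    (Ymat (yOf pt)).submatrix (f₀ hnr) (g₀ hnd) =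
      (Umat pt).submatrix (f₀ hnr) id * (Wmat pt).submatrix id (g₀ hnd) := by
  rw [Ymat_yOf, Matrix.submatrix_mul _ _ _ id _ Function.bijective_id]

lemma sub_yOf' (hnr : n ≤ r) (pt : (Fin r × Fin n) ⊕ (Fin n × Fin d) → K) :
    (Ymat (yOf pt)).submatrix (f₀ hnr) id = (Umat pt).submatrix (f₀ hnr) id * Wmat pt := by
  rw [Ymat_yOf, Matrix.submatrix_mul _ _ _ id _ Function.bijective_id, Matrix.submatrix_id_id]

end Defs

variable (K : Type u) [Field K] (n r d : ℕ) (hnr : n ≤ r) (hnd : n ≤ d)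

/-- the minor of the generic matrix on the last `n` rows and the first `n` columns -/
noncomputable def delta : CellRing K d r :=
  ((genMatrix K r d).submatrix (f₀ hnr) (g₀ hnd)).det

lemma eval_pm (pt : (Fin r × Fin n) ⊕ (Fin n × Fin d) → K) (P : CellRing K d r) :
    MvPolynomial.eval pt (pairingMap K n r d P) = MvPolynomial.eval (yOf pt) P := by
  apply Groth.Agent.SFT9.eval_pairing K d r n pt (yOf pt)
  intro p
  show (Umat pt * Wmat pt) p.1 p.2 = _
  rw [Matrix.mul_apply]
  rfl

lemma genMatrix_map (y : Fin r × Fin d → K) :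
    (genMatrix K r d).map (MvPolynomial.eval y) = Ymat y := by
  ext i j
  simp only [genMatrix, Ymat, Matrix.map_apply, Matrix.of_apply, MvPolynomial.eval_X]

lemma eval_delta (y : Fin r × Fin d → K) :
    MvPolynomial.eval y (delta K n r d hnr hnd) =
      ((Ymat y).submatrix (f₀ hnr) (g₀ hnd)).det := by
  unfold delta
  rw [RingHom.map_det, RingHom.mapMatrix_apply, ← Matrix.submatrix_map, genMatrix_map]

lemma eval_D (pt : (Fin r × Fin n) ⊕ (Fin n × Fin d) → K) :
    MvPolynomial.eval pt (pairingMap K n r d (delta K n r d hnr hnd)) =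
      ((Umat pt).submatrix (f₀ hnr) id).det * ((Wmat pt).submatrix id (g₀ hnd)).det := by
  rw [eval_pm, eval_delta, sub_yOf, Matrix.det_mul]

/-- the normal form `(Y₁, Y_{b1}⁻¹ Y_b)` of a pair with product `Y` -/
noncomputable def sigma (y : Fin r × Fin d → K) : (Fin r × Fin n) ⊕ (Fin n × Fin d) → K :=
  Sum.elim (fun p => y (p.1, g₀ hnd p.2))
    (fun p => (((Ymat y).submatrix (f₀ hnr) (g₀ hnd))⁻¹ * (Ymat y).submatrix (f₀ hnr) id) p.1 p.2)

/-- the entries of `adj(Y_{b1}) Y_b` for the generic matrix -/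
noncomputable def adjQ (c : Fin n) (j : Fin d) : CellRing K d r :=
  (((genMatrix K r d).submatrix (f₀ hnr) (g₀ hnd)).adjugate *
    (genMatrix K r d).submatrix (f₀ hnr) id) c j

lemma eval_adjQ (y : Fin r × Fin d → K) (c : Fin n) (j : Fin d) :
    MvPolynomial.eval y (adjQ K n r d hnr hnd c j) =
      (((Ymat y).submatrix (f₀ hnr) (g₀ hnd)).adjugate * (Ymat y).submatrix (f₀ hnr) id) c j := by
  unfold adjQ
  have h1 : MvPolynomial.eval y ((((genMatrix K r d).submatrix (f₀ hnr) (g₀ hnd)).adjugate *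
      (genMatrix K r d).submatrix (f₀ hnr) id) c j) =
      ((((genMatrix K r d).submatrix (f₀ hnr) (g₀ hnd)).adjugate *
      (genMatrix K r d).submatrix (f₀ hnr) id).map (MvPolynomial.eval y)) c j := rfl
  rw [h1, Matrix.map_mul, ← RingHom.mapMatrix_apply, RingHom.map_adjugate,
    RingHom.mapMatrix_apply, ← Matrix.submatrix_map, ← Matrix.submatrix_map, genMatrix_map]

lemma det_smul_inv_mul (M : Matrix (Fin n) (Fin n) K) (N : Matrix (Fin n) (Fin d) K)
    (hM : M.det ≠ 0) (c : Fin n) (j : Fin d) :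
    M.det * (M⁻¹ * N) c j = (M.adjugate * N) c j := by
  have h1 : M.adjugate = M.det • M⁻¹ := by
    have h2 : M.adjugate * (M * M⁻¹) = M.adjugate := by
      rw [Matrix.mul_nonsing_inv _ (Ne.isUnit hM), mul_one]
    rw [← h2, ← mul_assoc, Matrix.adjugate_mul, Matrix.smul_mul, one_mul]
  rw [h1, Matrix.smul_mul, Matrix.smul_apply, smul_eq_mul]

theorem exists_denominator (g : PairRing K n r d) :
    ∃ (k : ℕ) (P : CellRing K d r), ∀ y : Fin r × Fin d → K,
      ((Ymat y).submatrix (f₀ hnr) (g₀ hnd)).det ≠ 0 →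
      MvPolynomial.eval y P = ((Ymat y).submatrix (f₀ hnr) (g₀ hnd)).det ^ k *
        MvPolynomial.eval (sigma K n r d hnr hnd y) g := by
  induction g using MvPolynomial.induction_on with
  | C c => exact ⟨0, C c, fun y _ => by rw [eval_C, eval_C, pow_zero, one_mul]⟩
  | add g₁ g₂ h₁ h₂ =>
    obtain ⟨k₁, P₁, hP₁⟩ := h₁
    obtain ⟨k₂, P₂, hP₂⟩ := h₂
    refine ⟨k₁ + k₂, delta K n r d hnr hnd ^ k₂ * P₁ + delta K n r d hnr hnd ^ k₁ * P₂,
      fun y hy => ?_⟩
    rw [map_add, map_mul, map_mul, map_pow, map_pow, eval_delta, hP₁ y hy, hP₂ y hy, map_add]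
    ring
  | mul_X g v h =>
    obtain ⟨k, P, hP⟩ := h
    rcases v with ⟨i, c⟩ | ⟨c, j⟩
    · refine ⟨k, P * X (i, g₀ hnd c), fun y hy => ?_⟩
      rw [map_mul, map_mul, eval_X, eval_X, hP y hy, mul_assoc]
      rfl
    · refine ⟨k + 1, P * adjQ K n r d hnr hnd c j, fun y hy => ?_⟩
      rw [map_mul, map_mul, eval_X, hP y hy, eval_adjQ, pow_succ]
      have h1 : sigma K n r d hnr hnd y (Sum.inr (c, j)) =
          (((Ymat y).submatrix (f₀ hnr) (g₀ hnd))⁻¹ * (Ymat y).submatrix (f₀ hnr) id) c j := rfl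
      rw [h1, ← det_smul_inv_mul K n d _ _ hy]
      ring

lemma actPt_eq_sigma (pt : (Fin r × Fin n) ⊕ (Fin n × Fin d) → K)
    (hU : ((Umat pt).submatrix (f₀ hnr) id).det ≠ 0)
    (hW : ((Wmat pt).submatrix id (g₀ hnd)).det ≠ 0) :
    actPt K n r d (Matrix.nonsingInvUnit _ (Ne.isUnit hW))⁻¹ pt =
      sigma K n r d hnr hnd (yOf pt) := by
  funext v
  rcases v with ⟨i, c⟩ | ⟨c, j⟩
  · unfold actPt sigma
    rw [Sum.elim_inl, Sum.elim_inl, inv_inv]
    show _ = (Umat pt * Wmat pt) i (g₀ hnd c)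
    rw [Matrix.mul_apply]
    rfl
  · unfold actPt sigma
    rw [Sum.elim_inr, Sum.elim_inr, sub_yOf, sub_yOf', Matrix.mul_inv_rev, Matrix.mul_assoc,
      ← Matrix.mul_assoc _ ((Umat pt).submatrix (f₀ hnr) id) (Wmat pt),
      Matrix.nonsing_inv_mul _ (Ne.isUnit hU), Matrix.one_mul, Matrix.mul_apply]
    rfl

theorem exists_pow_mul [Infinite K] (f : PairRing K n r d)
    (hf : ∀ A : GL (Fin n) K, glTranslate K n r d A f = f) :
    ∃ (k : ℕ) (P : CellRing K d r),
      pairingMap K n r d (delta K n r d hnr hnd) ^ k * f = pairingMap K n r d P := by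
  obtain ⟨k, P, hP⟩ := exists_denominator K n r d hnr hnd f
  refine ⟨k + 1, delta K n r d hnr hnd * P, ?_⟩
  apply MvPolynomial.funext
  intro pt
  rw [map_mul, map_pow, map_mul, map_mul, eval_pm K n r d pt P]
  by_cases hD : MvPolynomial.eval pt (pairingMap K n r d (delta K n r d hnr hnd)) = 0
  · rw [hD, zero_mul, pow_succ, mul_zero, zero_mul]
  · have hD' := hD
    rw [eval_D] at hD'
    have hU : ((Umat pt).submatrix (f₀ hnr) id).det ≠ 0 := fun h => hD' (by rw [h, zero_mul])
    have hW : ((Wmat pt).submatrix id (g₀ hnd)).det ≠ 0 := fun h => hD' (by rw [h, mul_zero])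
    have hy : ((Ymat (yOf pt)).submatrix (f₀ hnr) (g₀ hnd)).det ≠ 0 := by
      rw [← eval_delta, ← eval_pm]
      exact hD
    have h1 : MvPolynomial.eval pt f =
        MvPolynomial.eval (sigma K n r d hnr hnd (yOf pt)) f := by
      rw [← actPt_eq_sigma K n r d hnr hnd pt hU hW, ← eval_glTranslate, hf]
    rw [hP _ hy, ← h1, ← eval_delta, ← eval_pm, pow_succ]
    ring

/-- `D` is not zero -/
theorem pm_delta_ne_zero : pairingMap K n r d (delta K n r d hnr hnd) ≠ 0 := by
  intro h
  have h1 := congrArg (MvPolynomial.eval (Sum.elim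
    (fun p : Fin r × Fin n => if p.1 = f₀ hnr p.2 then (1 : K) else 0)
    (fun p : Fin n × Fin d => if p.2 = g₀ hnd p.1 then (1 : K) else 0))) h
  rw [eval_D, map_zero] at h1
  have hU : (Umat (Sum.elim
      (fun p : Fin r × Fin n => if p.1 = f₀ hnr p.2 then (1 : K) else 0)
      (fun p : Fin n × Fin d => if p.2 = g₀ hnd p.1 then (1 : K) else 0))).submatrix
        (f₀ hnr) id = 1 := by
    ext a c
    simp only [Umat, Matrix.submatrix_apply, Matrix.of_apply, Sum.elim_inl, id_eq,
      Matrix.one_apply]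
    have hinj : f₀ hnr a = f₀ hnr c ↔ a = c := by
      constructor
      · intro h
        have := congrArg Fin.val h
        simp only [f₀] at this
        exact Fin.ext (by omega)
      · intro h
        rw [h]
    simp only [hinj]
  have hW : (Wmat (Sum.elim
      (fun p : Fin r × Fin n => if p.1 = f₀ hnr p.2 then (1 : K) else 0)
      (fun p : Fin n × Fin d => if p.2 = g₀ hnd p.1 then (1 : K) else 0))).submatrix
        id (g₀ hnd) = 1 := by
    ext a c
    simp only [Wmat, Matrix.submatrix_apply, Matrix.of_apply, Sum.elim_inr, id_eq,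
      Matrix.one_apply]
    have hinj : g₀ hnd c = g₀ hnd a ↔ a = c := by
      constructor
      · intro h
        have := congrArg Fin.val h
        simp only [g₀] at this
        exact Fin.ext (by omega)
      · intro h
        rw [h]
    simp only [hinj]
  rw [hU, hW, Matrix.det_one, mul_one] at h1
  exact one_ne_zero h1

end Groth.Agent.FFTGL9
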