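import Mathlib
import Groth.Agent.Lib.FFTGL2_helper9
import Groth.Agent.Lib.DetRing1_helper9

/-!
# First fundamental theorem for `GL_n`: the divisor `D = 0` (helper9)
APPEND-ONLY once landed.
-/

set_option autoImplicit false

universe u

namespace Groth.Agent.FFTGL9

open W4bk4grassmannian MvPolynomial Function Finset
open Groth.Agent.FFT9 (iota iota_le)
open Groth.Agent.Rich9 (val_add_le)
open Groth.Agent.SMTIndep9 (Var rho rho_X echMatrix)
open Groth.Agent.SFT9

variable (K : Type u) [Field K] (d r n : ℕ)

/-- the minor `delta` is, up to sign, the restriction of the Plücker coordinate of `w_n` -/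
theorem delta_eq (hn : n < d) (hnr : n ≤ r) :
    ∃ ε : CellRing K d r, (ε = 1 ∨ ε = -1) ∧
      delta K n r d hnr hn.le = ε * cellMinor K d r (wn d r n) := by
  classical
  have hb : ∀ j : Fin d, (if j.val < n then d + r - n + j.val else j.val) < d + r := by
    intro j
    have := j.isLt
    split_ifs <;> omega
  let ρ : Fin d → Fin (d + r) := fun j =>
    ⟨if j.val < n then d + r - n + j.val else j.val, hb j⟩
  have hs : ∀ j : Fin d, (if j.val < n then d - n + j.val else j.val - n) < d := by
    intro j
    have := j.isLt
    split_ifs <;> omega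
  let s : Fin d → Fin d := fun j => ⟨if j.val < n then d - n + j.val else j.val - n, hs j⟩
  have hsinj : Injective s := by
    intro a b hab
    have h1 : (s a).val = (s b).val := by rw [hab]
    simp only [s] at h1
    apply Fin.ext
    have := a.isLt
    have := b.isLt
    split_ifs at h1 <;> omega
  let σ : Equiv.Perm (Fin d) := Equiv.ofBijective s (Finite.injective_iff_bijective.1 hsinj)
  have hρ : ∀ j, ρ j = (wn d r n).1 (σ j) := by
    intro j
    apply Fin.ext
    show (if j.val < n then d + r - n + j.val else j.val) =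
      (if (s j).val < d - n then min n r + (s j).val else r + (s j).val)
    simp only [s]
    have := j.isLt
    split_ifs <;> omega
  let N : Matrix (Fin d) (Fin d) (CellRing K d r) := (cellMatrix K d r).submatrix ρ id
  have hN1 : ∀ (a : Fin d) (ha : a.val < n) (c : Fin d),
      N a c = X (f₀ hnr ⟨a.val, ha⟩, c) := by
    intro a ha c
    simp only [N, Matrix.submatrix_apply, cellMatrix, Matrix.of_apply, id_eq]
    have hv : (ρ a).val = d + r - n + a.val := by
      show (if a.val < n then d + r - n + a.val else a.val) = _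
      rw [if_pos ha]
    have h1 : ¬ (ρ a).val < d := by rw [hv]; omega
    rw [dif_neg h1]
    congr 2
    apply Fin.ext
    show (ρ a).val - d = r - n + a.val
    rw [hv]
    omega
  have hN2 : ∀ a : Fin d, ¬ a.val < n → ∀ c, N a c = if a = c then 1 else 0 := by
    intro a ha c
    simp only [N, Matrix.submatrix_apply, cellMatrix, Matrix.of_apply, id_eq]
    have hv : (ρ a).val = a.val := by
      show (if a.val < n then d + r - n + a.val else a.val) = _
      rw [if_neg ha]
    have h1 : (ρ a).val < d := by rw [hv]; exact a.isLt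
    rw [dif_pos h1, hv]
    by_cases hac : a = c
    · rw [if_pos hac, if_pos (by rw [hac])]
    · rw [if_neg hac, if_neg (fun h => hac (Fin.ext h))]
  have hdet : N.det = delta K n r d hnr hn.le := by
    rw [Matrix.twoBlockTriangular_det N (fun j => j.val < n)]
    · have h2 : Matrix.toSquareBlockProp N (fun i => ¬ i.val < n) = 1 := by
        ext ⟨a, ha⟩ ⟨b, hb⟩
        rw [Matrix.toSquareBlockProp_def, Matrix.of_apply, hN2 a ha b, Matrix.one_apply]
        simp only [Subtype.mk.injEq]
      rw [h2, Matrix.det_one, mul_one]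
      let e : Fin n ≃ {j : Fin d // j.val < n} :=
        { toFun := fun i => ⟨⟨i.val, by have := i.isLt; omega⟩, i.isLt⟩
          invFun := fun j => ⟨j.1.val, j.2⟩
          left_inv := fun i => rfl
          right_inv := fun j => rfl }
      rw [← Matrix.det_submatrix_equiv_self e]
      unfold delta
      congr 1
      apply Matrix.ext
      intro i i'
      simp only [Matrix.submatrix_apply, Matrix.toSquareBlockProp_def, Matrix.of_apply, genMatrix]
      exact hN1 _ i.isLt _
    · intro i hi j hj
      rw [hN2 i hi j, if_neg]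
      rintro rfl
      exact hi hj
  have hperm : N = ((cellMatrix K d r).submatrix (wn d r n).1 id).submatrix σ id := by
    apply Matrix.ext
    intro a c
    simp only [N, Matrix.submatrix_apply, id_eq]
    rw [hρ]
  have hdet2 : N.det = ((Equiv.Perm.sign σ : ℤˣ) : ℤ) * cellMinor K d r (wn d r n) := by
    rw [hperm, Matrix.det_permute]
    rfl
  refine ⟨(((Equiv.Perm.sign σ : ℤˣ) : ℤ) : CellRing K d r), ?_, ?_⟩
  · rcases Int.units_eq_one_or (Equiv.Perm.sign σ) with h | h
    · left
      rw [h, Units.val_one, Int.cast_one]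
    · right
      rw [h, Units.val_neg, Units.val_one, Int.cast_neg, Int.cast_one]
  · rw [← hdet, hdet2]

/-- the point `(U₀, W₀)` attached to a matrix `A` with invertible top block `T`:
`U₀` is the bottom right `r × n` block of `A`, `W₀` consists of the last `n` rows of `T⁻¹`. -/
noncomputable def qOf (hn : n < d) (A : Matrix (Fin (d + r)) (Fin d) K) :
    (Fin r × Fin n) ⊕ (Fin n × Fin d) → K :=
  Sum.elim
    (fun p : Fin r × Fin n => A ⟨d + p.1.val, by have := p.1.isLt; omega⟩
      ⟨d - n + p.2.val, by have := p.2.isLt; omega⟩)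
    (fun p : Fin n × Fin d => (A.submatrix (iota (Nat.le_add_right d r)).1 id)⁻¹
      ⟨d - n + p.1.val, by have := p.1.isLt; omega⟩ p.2)

theorem evalMinors_homog [Infinite K] (hn : n < d) (G : PlRing K d (d + r))
    (A : Matrix (Fin (d + r)) (Fin d) K)
    (hA : ∀ (i : Fin (d + r)) (j : Fin d), d ≤ i.val → j.val < d - n → A i j = 0)
    (hdet : (A.submatrix (iota (Nat.le_add_right d r)).1 id).det ≠ 0) :
    evalMinors K d (d + r) A (homog K (iota (Nat.le_add_right d r)) G) =
      (A.submatrix (iota (Nat.le_add_right d r)).1 id).det ^ G.totalDegree *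
        MvPolynomial.eval (qOf K d r n hn A) (pairingMap K n r d (piC K d r G)) := by
  obtain ⟨ι, hι⟩ : ∃ ι : Idx d (d + r), ι = iota (Nat.le_add_right d r) := ⟨_, rfl⟩
  obtain ⟨T, hT⟩ : ∃ T : Matrix (Fin d) (Fin d) K, T = A.submatrix ι.1 id := ⟨_, rfl⟩
  rw [← hι] at hdet ⊢
  rw [← hT] at hdet ⊢
  have hunit : IsUnit T.det := Ne.isUnit hdet
  obtain ⟨A', hA'⟩ : ∃ A' : Matrix (Fin (d + r)) (Fin d) K, A' = A * T⁻¹ := ⟨_, rfl⟩
  have hsub : ∀ θ : Fin d → Fin (d + r), A'.submatrix θ id = A.submatrix θ id * T⁻¹ := by
    intro θ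
    rw [hA', Matrix.submatrix_mul A T⁻¹ θ id id Function.bijective_id, Matrix.submatrix_id_id]
  have hone : A'.submatrix ι.1 id = 1 := by
    rw [hsub, ← hT, Matrix.mul_nonsing_inv _ hunit]
  have hscale : evalMinors K d (d + r) A =
      MvPolynomial.aeval (fun θ : Idx d (d + r) => T.det * (A'.submatrix θ.1 id).det) := by
    unfold evalMinors
    congr 1
    funext θ
    rw [hsub, Matrix.det_mul, Matrix.det_nonsing_inv, Ring.inverse_eq_inv', mul_left_comm,
      mul_inv_cancel₀ hdet, mul_one]
  have hA'ι : (A'.submatrix ι.1 id).det = 1 := by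
    rw [hone, Matrix.det_one]
  rw [hscale, aeval_homog_smul K ι G (fun θ => (A'.submatrix θ.1 id).det) T.det hA'ι]
  congr 1
  -- the matrix `A'` is a point of the cell
  obtain ⟨b', hb'⟩ : ∃ b' : Fin r × Fin d → K,
      b' = fun p => A' ⟨d + p.1.val, by have := p.1.isLt; omega⟩ p.2 := ⟨_, rfl⟩
  have hcell : A' = cellPt K d r b' := by
    apply Matrix.ext
    intro i j
    unfold cellPt
    rw [Matrix.of_apply]
    by_cases h1 : i.val < d
    · rw [dif_pos h1]
      have h2 : A' i j = (1 : Matrix (Fin d) (Fin d) K) ⟨i.val, h1⟩ j := by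
        rw [← hone, Matrix.submatrix_apply, id_eq]
        congr 1
        rw [hι]
        exact Fin.ext rfl
      rw [h2, Matrix.one_apply]
      by_cases h3 : i.val = j.val
      · rw [if_pos h3, if_pos (Fin.ext h3)]
      · rw [if_neg h3, if_neg (fun h => h3 (congrArg Fin.val h))]
    · rw [dif_neg h1, hb']
      show A' i j = A' ⟨d + (i.val - d), _⟩ j
      congr 1
      exact Fin.ext (by show i.val = d + (i.val - d); omega)
  have hq : qOf K d r n hn A = Sum.elim
        (fun p : Fin r × Fin n => A ⟨d + p.1.val, by have := p.1.isLt; omega⟩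
          ⟨d - n + p.2.val, by have := p.2.isLt; omega⟩)
        (fun p : Fin n × Fin d => T⁻¹ ⟨d - n + p.1.val, by have := p.1.isLt; omega⟩ p.2) := by
    rw [hT, hι]
    rfl
  have hprod : ∀ p : Fin r × Fin d,
      b' p = ∑ k : Fin n, qOf K d r n hn A (Sum.inl (p.1, k)) *
        qOf K d r n hn A (Sum.inr (k, p.2)) := by
    intro p
    obtain ⟨emb, hemb⟩ : ∃ emb : Fin n → Fin d,
        emb = fun k => ⟨d - n + k.val, by have := k.isLt; omega⟩ := ⟨_, rfl⟩
    have hinj : Function.Injective emb := by
      intro a c hac
      rw [hemb] at hac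
      have := congrArg Fin.val hac
      simp only at this
      exact Fin.ext (by omega)
    have h1 : b' p = ∑ j : Fin d, A ⟨d + p.1.val, by have := p.1.isLt; omega⟩ j * T⁻¹ j p.2 := by
      rw [hb', hA']
      beta_reduce
      rw [Matrix.mul_apply]
    rw [h1, ← Finset.sum_subset (Finset.subset_univ (Finset.univ.image emb)),
      Finset.sum_image (fun a _ c _ h => hinj h)]
    · apply Finset.sum_congr rfl
      intro k _
      rw [hq, Sum.elim_inl, Sum.elim_inr, hemb]
    · intro j _ hj
      have hjlt : j.val < d - n := by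
        by_contra hge
        apply hj
        rw [Finset.mem_image]
        refine ⟨⟨j.val - (d - n), by have := j.isLt; omega⟩, Finset.mem_univ _, ?_⟩
        rw [hemb]
        exact Fin.ext (by show d - n + (j.val - (d - n)) = j.val; omega)
      rw [hA _ _ (by show d ≤ d + p.1.val; omega) hjlt, zero_mul]
  have h1 : MvPolynomial.aeval (fun θ : Idx d (d + r) => (A'.submatrix θ.1 id).det) G =
      evalMinors K d (d + r) A' G := rfl
  rw [h1, hcell, ← eval_piC, ← eval_pairing K d r n _ b' hprod (piC K d r G)]

/-- a polynomial in the entries of the product matrix which is divisible by `D` is `D` times a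
polynomial in the entries of the product matrix -/
theorem step4 [Infinite K] (hn1 : 1 ≤ n) (hn : n < d) (hnr : n ≤ r) (P : CellRing K d r)
    (b : PairRing K n r d)
    (h : pairingMap K n r d P = pairingMap K n r d (delta K n r d hnr hn.le) * b) :
    ∃ P' : CellRing K d r, pairingMap K n r d P =
      pairingMap K n r d (delta K n r d hnr hn.le) * pairingMap K n r d P' := by
  classical
  have hd : 0 < d := by omega
  obtain ⟨ι, hι⟩ : ∃ ι : Idx d (d + r), ι = iota (Nat.le_add_right d r) := ⟨_, rfl⟩
  obtain ⟨w, hw⟩ : ∃ w : Idx d (d + r), w = wn d r n := ⟨_, rfl⟩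
  obtain ⟨G, hG⟩ : ∃ G : PlRing K d (d + r), G = liftC K d r P := ⟨_, rfl⟩
  have hwval : ∀ t : Fin d, (w.1 t).val =
      if t.val < d - n then min n r + t.val else r + t.val := by
    intro t
    rw [hw]
    rfl
  have hπι : piC K d r (X ι) = 1 := by
    rw [hι]
    exact piC_iota K d r
  have hπ : piC K d r (homog K ι G * X ι) = P := by
    rw [map_mul, map_homog_of_one K ι G (piC K d r) hπι, hπι, mul_one, hG, piC_liftC]
  have hιw : ι < w := by
    apply lt_of_le_of_ne
    · rw [hι]
      exact iota_le _ _
    · intro heq
      have h1 : (ι.1 ⟨0, hd⟩).val = (w.1 ⟨0, hd⟩).val := by rw [heq]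
      rw [hwval] at h1
      have h2 : (ι.1 ⟨0, hd⟩).val = 0 := by rw [hι]; rfl
      rw [h2] at h1
      simp only at h1
      split_ifs at h1 <;> omega
  have key : ∀ φ : Idx d (d + r), φ < w →
      homog K ι G * X ι ∈ schubertVanishing K d (d + r) φ := by
    intro φ hφ
    rw [← Groth.Agent.KDim9.ker_rho K hd, RingHom.mem_ker]
    apply MvPolynomial.funext
    intro b₀
    rw [map_zero, eval_rho]
    obtain ⟨A, hAdef⟩ : ∃ A : Matrix (Fin (d + r)) (Fin d) K,
        A = Matrix.of fun i t => if i ≤ φ.1 t then b₀ (toLex (i, t)) else 0 := ⟨_, rfl⟩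
    rw [← hAdef, map_mul]
    have hXι : evalMinors K d (d + r) A (X ι) = (A.submatrix ι.1 id).det := by
      unfold evalMinors
      rw [aeval_X]
    rw [hXι]
    by_cases hdet : (A.submatrix ι.1 id).det = 0
    · rw [hdet, mul_zero]
    have hAz : ∀ (i : Fin (d + r)) (j : Fin d), (φ.1 j).val < i.val → A i j = 0 := by
      intro i j hij
      rw [hAdef, Matrix.of_apply, if_neg]
      intro hle
      rw [Fin.le_def] at hle
      omega
    have hA0 : ∀ (i : Fin (d + r)) (j : Fin d), d ≤ i.val → j.val < d - n → A i j = 0 := by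
      intro i j hi hj
      apply hAz
      have h1 := Fin.le_def.1 (hφ.le j)
      have h2 := hwval j
      rw [if_pos hj] at h2
      omega
    rw [hι] at hdet ⊢
    rw [evalMinors_homog K d r n hn G A hA0 hdet, hG, piC_liftC, h, map_mul,
      eval_D K n r d hnr hn.le]
    -- it remains to show that `D` vanishes at the point
    have hzero : ((Umat (qOf K d r n hn A)).submatrix (f₀ hnr) id).det *
        ((Wmat (qOf K d r n hn A)).submatrix id (g₀ hn.le)).det = 0 := by
      obtain ⟨t, ht⟩ : ∃ t : Fin d, (φ.1 t).val < (w.1 t).val := by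
        by_contra hcon
        push Not at hcon
        exact (not_le_of_gt hφ) (fun t => Fin.le_def.2 (hcon t))
      obtain ⟨T, hT⟩ : ∃ T : Matrix (Fin d) (Fin d) K,
          T = A.submatrix (iota (Nat.le_add_right d r)).1 id := ⟨_, rfl⟩
      have hTdet : T.det ≠ 0 := by rw [hT]; exact hdet
      by_cases htn : t.val < d - n
      · -- the first column of `T` is supported in the first `n` rows
        have h0 : (φ.1 ⟨0, hd⟩).val < n := by
          have h1 := val_add_le φ.1 φ.2 ⟨0, hd⟩ t.val t (by show t.val = 0 + t.val; omega)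
          have h2 := hwval t
          rw [if_pos htn] at h2
          omega
        have hT0 : ∀ j : Fin d, n ≤ j.val → T j ⟨0, hd⟩ = 0 := by
          intro j hj
          rw [hT, Matrix.submatrix_apply, id_eq]
          apply hAz
          show (φ.1 ⟨0, hd⟩).val < j.val
          omega
        have hW : ((Wmat (qOf K d r n hn A)).submatrix id (g₀ hn.le)).det = 0 := by
          rw [← Matrix.exists_mulVec_eq_zero_iff]
          refine ⟨fun c => T (g₀ hn.le c) ⟨0, hd⟩, ?_, ?_⟩
          · intro hx
            apply hTdet
            apply Matrix.det_eq_zero_of_column_eq_zero ⟨0, hd⟩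
            intro j
            by_cases hj : j.val < n
            · exact congrFun hx ⟨j.val, hj⟩
            · exact hT0 j (by omega)
          · funext k
            rw [Matrix.mulVec, dotProduct, Pi.zero_apply]
            have h1 : ∑ c : Fin n, ((Wmat (qOf K d r n hn A)).submatrix id (g₀ hn.le)) k c *
                T (g₀ hn.le c) ⟨0, hd⟩ =
                ∑ c : Fin n, T⁻¹ ⟨d - n + k.val, by have := k.isLt; omega⟩ (g₀ hn.le c) *
                  T (g₀ hn.le c) ⟨0, hd⟩ := by
              apply Finset.sum_congr rfl
              intro c _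
              rw [hT]
              rfl
            have hinj : Function.Injective (g₀ hn.le : Fin n → Fin d) := by
              intro a c hac
              have := congrArg Fin.val hac
              exact Fin.ext this
            have h2 : ∑ c : Fin n, T⁻¹ ⟨d - n + k.val, by have := k.isLt; omega⟩ (g₀ hn.le c) *
                  T (g₀ hn.le c) ⟨0, hd⟩ =
                ∑ j : Fin d, T⁻¹ ⟨d - n + k.val, by have := k.isLt; omega⟩ j * T j ⟨0, hd⟩ := by
              rw [← Finset.sum_subset (Finset.subset_univ (Finset.univ.image (g₀ hn.le))),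
                Finset.sum_image (fun a _ c _ h => hinj h)]
              intro j _ hj
              have hjn : n ≤ j.val := by
                by_contra hlt
                apply hj
                rw [Finset.mem_image]
                exact ⟨⟨j.val, by omega⟩, Finset.mem_univ _, Fin.ext rfl⟩
              rw [hT0 j hjn, mul_zero]
            rw [h1, h2, ← Matrix.mul_apply, Matrix.nonsing_inv_mul _ (Ne.isUnit hTdet),
              Matrix.one_apply_ne]
            intro heq
            have := congrArg Fin.val heq
            simp only at this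
            omega
        rw [hW, mul_zero]
      · -- the column `d - n` of `A` vanishes on the last `n` rows
        have h0 : (φ.1 ⟨d - n, by omega⟩).val < d + r - n := by
          have h1 := val_add_le φ.1 φ.2 ⟨d - n, by omega⟩ (t.val - (d - n)) t
            (by show t.val = d - n + (t.val - (d - n)); omega)
          have h2 := hwval t
          rw [if_neg htn] at h2
          have := t.isLt
          omega
        have hU : ((Umat (qOf K d r n hn A)).submatrix (f₀ hnr) id).det = 0 := by
          apply Matrix.det_eq_zero_of_column_eq_zero ⟨0, hn1⟩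
          intro a
          show A _ _ = 0
          apply hAz
          show (φ.1 ⟨d - n + 0, _⟩).val < d + (r - n + a.val)
          have h3 : (⟨d - n + 0, by omega⟩ : Fin d) = ⟨d - n, by omega⟩ := Fin.ext (by simp)
          rw [h3]
          omega
        rw [hU, zero_mul]
    rw [hzero, zero_mul, mul_zero, zero_mul]
  have hmem : homog K ι G * X ι ∈ schubertVanishing K d (d + r) w ⊔ Ideal.span {X w} := by
    rw [Groth.Agent.SMT9.divisors_eq K hd w ⟨ι, hιw⟩, Ideal.mem_iInf]
    intro φ
    rw [Ideal.mem_iInf]
    intro hφ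
    exact key φ hφ.1
  obtain ⟨j, hj, a, ha, hja⟩ := Submodule.mem_sup.1 hmem
  obtain ⟨c, rfl⟩ := Ideal.mem_span_singleton'.1 ha
  have hP : P = piC K d r j + piC K d r c * cellMinor K d r w := by
    rw [← hπ, ← hja, map_add, map_mul, piC_X]
  obtain ⟨ε, hε, hδ⟩ := delta_eq K d r n hn hnr
  rw [← hw] at hδ
  have hj0 : pairingMap K n r d (piC K d r j) = 0 := by
    rw [hw] at hj
    exact RingHom.mem_ker.1 (le_ker K n r d (piC_mem K d r hd n hn j hj))
  have hcw : cellMinor K d r w = ε * delta K n r d hnr hn.le := by
    rcases hε with rfl | rfl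
    · rw [hδ]
      ring
    · rw [hδ]
      ring
  refine ⟨ε * piC K d r c, ?_⟩
  rw [hP, map_add, hj0, zero_add, hcw, map_mul, map_mul, map_mul]
  ring

end Groth.Agent.FFTGL9

namespace Groth.Agent.FFTGL9

open W4bk4grassmannian MvPolynomial Function Finset

variable (K : Type u) [Field K]

/-- the first fundamental theorem for `1 ≤ n ≤ r`, `n < d` -/
theorem fft_main [Infinite K] (d r n : ℕ) (hn1 : 1 ≤ n) (hn : n < d) (hnr : n ≤ r)
    (f : PairRing K n r d) (hf : ∀ A : GL (Fin n) K, glTranslate K n r d A f = f) :
    f ∈ (pairingMap K n r d).range := by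
  obtain ⟨k, P, hkP⟩ := exists_pow_mul K n r d hnr hn.le f hf
  have key : ∀ (k : ℕ) (P : CellRing K d r),
      pairingMap K n r d (delta K n r d hnr hn.le) ^ k * f = pairingMap K n r d P →
      f ∈ (pairingMap K n r d).range := by
    intro k
    induction k with
    | zero =>
      intro P hP
      rw [pow_zero, one_mul] at hP
      exact ⟨P, hP.symm⟩
    | succ k ih =>
      intro P hP
      obtain ⟨P', hP'⟩ := step4 K d r n hn1 hn hnr P
        (pairingMap K n r d (delta K n r d hnr hn.le) ^ k * f) (by rw [← hP, pow_succ]; ring)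
      apply ih P'
      have hD := pm_delta_ne_zero K n r d hnr hn.le
      apply mul_left_cancel₀ hD
      rw [← hP', ← hP, pow_succ]
      ring
  exact key k P hkP

/-- the first fundamental theorem for `GL_n` acting on pairs of matrices -/
theorem fft [Infinite K] (m n q : ℕ) (f : PairRing K n m q)
    (hf : ∀ A : GL (Fin n) K, glTranslate K n m q A f = f) :
    f ∈ (pairingMap K n m q).range := by
  rcases Nat.eq_zero_or_pos n with rfl | hn
  · exact fft_zero K m q f
  · exact fft_of_le K n (m + n) (q + n + 1) (by omega) (by omega)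
      (fun f' hf' => fft_main K (q + n + 1) (m + n) n hn (by omega) (by omega) f' hf') f hf

end Groth.Agent.FFTGL9
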