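import Mathlib
import Groth.Prelude.Def_FlatMod2
set_option autoImplicit false
universe u

/-!
# Faithfully flat modules and composites (helper6)
-/

open CategoryTheory AlgebraicGeometry TensorProduct

namespace Groth.Agent.Lib.FFlatCompH6

section Alg

variable {A B : Type u} [CommRing A] [CommRing B] [Algebra A B] {M : Type u} [AddCommGroup M]
  [Module A M] [Module B M] [IsScalarTower A B M]

/-- If `M` is faithfully flat over `B` and flat over `A`, then `B` is flat over `A`. -/
theorem flat_of_faithfullyFlat_of_flat [Module.FaithfullyFlat B M] [Module.Flat A M] :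
    Module.Flat A B := by
  rw [Module.Flat.iff_lTensor_preserves_injective_linearMap'.{u, u, u}]
  intro N N' _ _ _ _ f hf
  have h1 : Function.Injective (f.lTensor M) :=
    Module.Flat.lTensor_preserves_injective_linearMap f hf
  have key : ∀ x : M ⊗[B] (B ⊗[A] N),
      AlgebraTensorModule.cancelBaseChange A B B M N' (((f.baseChange B).lTensor M) x) =
        (f.lTensor M) (AlgebraTensorModule.cancelBaseChange A B B M N x) := by
    intro x
    induction x using TensorProduct.induction_on with
    | zero => simp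
    | tmul m y =>
      induction y using TensorProduct.induction_on with
      | zero => simp
      | tmul b n => simp
      | add y₁ y₂ h₁ h₂ => simp only [TensorProduct.tmul_add, map_add, h₁, h₂]
    | add x₁ x₂ h₁ h₂ => simp only [map_add, h₁, h₂]
  have h2 : Function.Injective ((f.baseChange B).lTensor M) := by
    intro x y hxy
    apply (AlgebraTensorModule.cancelBaseChange A B B M N).injective
    apply h1
    rw [← key, ← key, hxy]
  have h3 : Function.Injective (f.baseChange B) :=
    (Module.FaithfullyFlat.lTensor_injective_iff_injective B M (f.baseChange B)).mp h2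
  exact h3

end Alg

section RingHom

variable {A B C : Type u} [CommRing A] [CommRing B] [CommRing C] (φ : A →+* B) (ψ : B →+* C)
  (M : Type u) [AddCommGroup M] [Module C M]

theorem flat_comp (hφ : φ.Flat) (hM : @Module.Flat B M _ _ (Module.compHom M ψ)) :
    @Module.Flat A M _ _ (Module.compHom M (ψ.comp φ)) := by
  letI := φ.toAlgebra
  letI mB : Module B M := Module.compHom M ψ
  letI mA : Module A M := Module.compHom M (ψ.comp φ)
  haveI : IsScalarTower A B M := ⟨fun a b m => by
    change ψ (φ a * b) • m = ψ (φ a) • (ψ b • m)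
    rw [map_mul, mul_smul]⟩
  haveI : Module.Flat A B := hφ
  haveI : Module.Flat B M := hM
  exact Module.Flat.trans A B M

theorem flat_of_comp [IsLocalRing B]
    (hA : @Module.Flat A M _ _ (Module.compHom M (ψ.comp φ)))
    (hM : @Module.Flat B M _ _ (Module.compHom M ψ))
    (hne : letI := Module.compHom M ψ
      IsLocalRing.maximalIdeal B • (⊤ : Submodule B M) ≠ ⊤) : φ.Flat := by
  letI := φ.toAlgebra
  letI mB : Module B M := Module.compHom M ψ
  letI mA : Module A M := Module.compHom M (ψ.comp φ)
  haveI : IsScalarTower A B M := ⟨fun a b m => by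
    change ψ (φ a * b) • m = ψ (φ a) • (ψ b • m)
    rw [map_mul, mul_smul]⟩
  haveI : Module.Flat A M := hA
  haveI : Module.Flat B M := hM
  haveI : Module.FaithfullyFlat B M := ⟨fun m hm => by
    rw [IsLocalRing.eq_maximalIdeal hm]
    exact hne⟩
  exact flat_of_faithfullyFlat_of_flat (A := A) (B := B) (M := M)

theorem ne_top_comp [IsLocalRing A] [IsLocalRing B] [IsLocalHom φ]
    (hne : letI := Module.compHom M ψ
      IsLocalRing.maximalIdeal B • (⊤ : Submodule B M) ≠ ⊤) :
    letI := Module.compHom M (ψ.comp φ)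
    IsLocalRing.maximalIdeal A • (⊤ : Submodule A M) ≠ ⊤ := by
  letI mB : Module B M := Module.compHom M ψ
  letI mA : Module A M := Module.compHom M (ψ.comp φ)
  intro htop
  apply hne
  rw [eq_top_iff]
  intro m _
  have hm : m ∈ IsLocalRing.maximalIdeal A • (⊤ : Submodule A M) := by rw [htop]; trivial
  refine Submodule.smul_induction_on hm ?_ ?_
  · intro a ha n _
    have : φ a ∈ IsLocalRing.maximalIdeal B := by
      rw [IsLocalRing.mem_maximalIdeal] at ha ⊢
      exact fun h => ha ((isUnit_map_iff φ a).mp h)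
    exact Submodule.smul_mem_smul this (Submodule.mem_top : n ∈ (⊤ : Submodule B M))
  · intro x y hx hy
    exact Submodule.add_mem _ hx hy

end RingHom

section Sch

variable {X Y Z : Scheme.{u}} (f : X ⟶ Y) (g : Y ⟶ Z) (F : X.Modules)

theorem stalkMap_comp_hom (x : X) :
    ((f ≫ g).stalkMap x).hom = (f.stalkMap x).hom.comp (g.stalkMap (f x)).hom := by
  rw [Scheme.Hom.stalkMap_comp]
  rfl

theorem main4681 (hFfl : FlatMod.IsFlatOver f F)
    (hFff : (∀ y : ↥Y, ∃ x : ↥X, f x = y ∧
      letI := FlatMod.moduleStalkOver f F x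
      IsLocalRing.maximalIdeal (Y.presheaf.stalk (f x)) •
        (⊤ : Submodule (Y.presheaf.stalk (f x)) (F.presheaf.stalk x)) ≠ ⊤)) :
    (Flat g ∧ Surjective g) ↔
      (FlatMod.IsFlatOver (f ≫ g) F ∧
        (∀ z : ↥Z, ∃ x : ↥X, (f ≫ g) x = z ∧
      letI := FlatMod.moduleStalkOver (f ≫ g) F x
      IsLocalRing.maximalIdeal (Z.presheaf.stalk ((f ≫ g) x)) •
        (⊤ : Submodule (Z.presheaf.stalk ((f ≫ g) x)) (F.presheaf.stalk x)) ≠ ⊤)) := by
  constructor
  · rintro ⟨hfl, hsurj⟩
    refine ⟨fun x => ?_, fun z => ?_⟩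
    · unfold FlatMod.IsFlatOverAt FlatMod.moduleStalkOver
      rw [stalkMap_comp_hom]
      exact flat_comp (g.stalkMap (f x)).hom (f.stalkMap x).hom (F.presheaf.stalk x)
        (Flat.stalkMap g (f x)) (hFfl x)
    · obtain ⟨y, rfl⟩ := hsurj.surj z
      obtain ⟨x, rfl, hne⟩ := hFff y
      refine ⟨x, rfl, ?_⟩
      unfold FlatMod.moduleStalkOver
      rw [stalkMap_comp_hom]
      exact ne_top_comp (g.stalkMap (f x)).hom (f.stalkMap x).hom (F.presheaf.stalk x) hne
  · rintro ⟨hfl, hnv⟩
    refine ⟨Flat.of_stalkMap g (fun y => ?_), ⟨fun z => ?_⟩⟩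
    · obtain ⟨x, rfl, hne⟩ := hFff y
      have h1 := hfl x
      unfold FlatMod.IsFlatOverAt FlatMod.moduleStalkOver at h1
      rw [stalkMap_comp_hom] at h1
      exact flat_of_comp (g.stalkMap (f x)).hom (f.stalkMap x).hom (F.presheaf.stalk x) h1
        (hFfl x) hne
    · obtain ⟨x, hx, -⟩ := hnv z
      exact ⟨f x, hx⟩

end Sch

end Groth.Agent.Lib.FFlatCompH6
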