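import Mathlib

/-!
# The centre of the category of finitely generated modules
-/

open CategoryTheory

universe u

namespace Groth.Agent.Lib.FGCenter

theorem main (A : Type u) [Ring A]
    (φ : 𝟭 (FGModuleCat.{u} A) ⟶ 𝟭 (FGModuleCat.{u} A)) :
    ∃! a : A, a ∈ Subring.center A ∧
      ∀ (M : FGModuleCat.{u} A) (x : M), (φ.app M).hom.hom x = a • x := by
  let g : A →ₗ[A] A := (φ.app (FGModuleCat.of A A)).hom.hom
  have key : ∀ (M : FGModuleCat.{u} A) (x : M),
      (φ.app M).hom.hom x = (g 1) • x := by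
    intro M x
    let f : FGModuleCat.of A A ⟶ M := FGModuleCat.ofHom (LinearMap.toSpanSingleton A M x)
    have hf : ∀ y : A, f.hom.hom y = y • x := fun y => rfl
    have h := φ.naturality f
    have h2 : (φ.app M).hom.hom (f.hom.hom (1 : A)) = f.hom.hom (g 1) :=
      congrArg (fun g => g.hom.hom (1 : A)) h
    rw [hf, hf, one_smul] at h2
    exact h2
  have hg : ∀ b : A, g b = b * g 1 := by
    intro b
    have h3 := map_smul g b (1 : A)
    rw [smul_eq_mul, mul_one, smul_eq_mul] at h3
    exact h3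
  have hg2 : ∀ b : A, g b = g 1 * b := by
    intro b
    have h1 : g b = g 1 • b := key (FGModuleCat.of A A) b
    rw [h1, smul_eq_mul]
  refine ⟨g 1, ⟨?_, key⟩, ?_⟩
  · rw [Subring.mem_center_iff]
    intro b
    rw [← hg, hg2]
  · rintro a' ⟨-, ha'⟩
    have h4 : g 1 = a' • (1 : A) := ha' (FGModuleCat.of A A) (1 : A)
    rw [h4, smul_eq_mul, mul_one]

end Groth.Agent.Lib.FGCenter
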