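import Mathlib

/-!
# Lubin–Tate lemma (helper1)

An abstract successive-approximation theorem for functional equations `A Φ = Φ ∘ b`
for multivariate power series, the Lubin–Tate lemma over a discrete valuation ring with
finite residue field, and its standard consequences.
-/

set_option autoImplicit false
set_option maxHeartbeats 1000000

open MvPowerSeries Finsupp

namespace Groth.Agent.Lib.LubinTateH1

universe u v

section Van

variable {σ : Type v} {R : Type u} [CommRing R]

/-- vanishing of all coefficients of degree `< n`. -/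
def Van (n : ℕ) (Φ : MvPowerSeries σ R) : Prop :=
  ∀ d : σ →₀ ℕ, d.degree < n → coeff d Φ = 0

lemma van_iff_le_order {n : ℕ} {Φ : MvPowerSeries σ R} : Van n Φ ↔ (n : ℕ∞) ≤ Φ.order := by
  constructor
  · intro h
    exact nat_le_order h
  · intro h d hd
    exact coeff_of_lt_order (lt_of_lt_of_le (by exact_mod_cast hd) h)

lemma Van.mono {m n : ℕ} {Φ : MvPowerSeries σ R} (h : Van n Φ) (hmn : m ≤ n) : Van m Φ :=
  fun d hd => h d (lt_of_lt_of_le hd hmn)

lemma Van.add {n : ℕ} {Φ Ψ : MvPowerSeries σ R} (h1 : Van n Φ) (h2 : Van n Ψ) :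
    Van n (Φ + Ψ) := by
  intro d hd
  rw [map_add, h1 d hd, h2 d hd, add_zero]

lemma Van.sub {n : ℕ} {Φ Ψ : MvPowerSeries σ R} (h1 : Van n Φ) (h2 : Van n Ψ) :
    Van n (Φ - Ψ) := by
  intro d hd
  rw [map_sub, h1 d hd, h2 d hd, sub_zero]

lemma Van.neg {n : ℕ} {Φ : MvPowerSeries σ R} (h1 : Van n Φ) : Van n (-Φ) := by
  intro d hd
  rw [map_neg, h1 d hd, neg_zero]

lemma Van.smul {n : ℕ} {Φ : MvPowerSeries σ R} (a : R) (h1 : Van n Φ) : Van n (a • Φ) := by
  intro d hd
  rw [MvPowerSeries.coeff_smul, h1 d hd, mul_zero]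

lemma van_zero (n : ℕ) : Van n (0 : MvPowerSeries σ R) := fun d _ => by simp

lemma van_zero_left (Φ : MvPowerSeries σ R) : Van 0 Φ := fun d hd => absurd hd (Nat.not_lt_zero _)

lemma Van.mul {a b : ℕ} {Φ Ψ : MvPowerSeries σ R} (h1 : Van a Φ) (h2 : Van b Ψ) :
    Van (a + b) (Φ * Ψ) := by
  rw [van_iff_le_order] at *
  calc ((a + b : ℕ) : ℕ∞) = (a : ℕ∞) + b := by push_cast; rfl
    _ ≤ Φ.order + Ψ.order := add_le_add h1 h2
    _ ≤ (Φ * Ψ).order := le_order_mul

lemma Van.mul_left {a : ℕ} {Φ : MvPowerSeries σ R} (Ψ : MvPowerSeries σ R) (h : Van a Φ) :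
    Van a (Ψ * Φ) := by
  have := Van.mul (van_zero_left Ψ) h
  simpa using this

lemma van_one_iff {Φ : MvPowerSeries σ R} : Van 1 Φ ↔ constantCoeff Φ = 0 := by
  rw [van_iff_le_order, Nat.cast_one]
  exact one_le_order_iff_constCoeff_eq_zero

lemma eq_zero_of_forall_van {Φ : MvPowerSeries σ R} (h : ∀ n, Van n Φ) : Φ = 0 := by
  ext d
  rw [h (d.degree + 1) d (Nat.lt_succ_self _), map_zero]

lemma Van.subst {τ : Type*} [Finite σ] {a : σ → MvPowerSeries τ R}
    (ha : ∀ i, constantCoeff (a i) = 0)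
    {n : ℕ} {Φ : MvPowerSeries σ R} (h : Van n Φ) : Van n (MvPowerSeries.subst a Φ) := by
  rw [van_iff_le_order] at *
  have hs : HasSubst a := hasSubst_of_constantCoeff_zero ha
  refine le_trans ?_ (le_order_subst hs Φ)
  have h1 : (1 : ℕ∞) ≤ ⨅ i, (a i).order :=
    le_iInf fun i => one_le_order_iff_constCoeff_eq_zero.mpr (ha i)
  calc (n : ℕ∞) ≤ Φ.order := h
    _ = 1 * Φ.order := (one_mul _).symm
    _ ≤ (⨅ i, (a i).order) * Φ.order := mul_le_mul' h1 le_rfl

lemma degree_lt_two (d : σ →₀ ℕ) (h : d.degree < 2) : d = 0 ∨ ∃ i, d = single i 1 := by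
  classical
  by_cases hd : d = 0
  · exact Or.inl hd
  · right
    obtain ⟨i, hi⟩ : ∃ i, d i ≠ 0 := by
      by_contra hc
      push Not at hc
      exact hd (Finsupp.ext hc)
    refine ⟨i, ?_⟩
    have hle : single i 1 ≤ d := by
      intro j
      by_cases hj : j = i
      · subst hj
        simp only [single_eq_same]
        exact Nat.one_le_iff_ne_zero.mpr hi
      · rw [single_eq_of_ne (by exact hj)]
        exact Nat.zero_le _
    have hdec : d = single i 1 + (d - single i 1) := (add_tsub_cancel_of_le hle).symm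
    have hdeg : (d - single i 1).degree = 0 := by
      have := congrArg degree hdec
      rw [map_add, degree_single] at this
      omega
    rw [degree_eq_zero_iff] at hdeg
    rw [hdec, hdeg, add_zero]

end Van

section Abstract

variable {σ : Type v} [Finite σ] {R : Type u} [CommRing R] (π : R)
  (w : σ → MvPowerSeries σ R)

/-- the substituted family `b i = X i * w i`. -/
noncomputable def bb (i : σ) : MvPowerSeries σ R := X i * w i

lemma constantCoeff_bb (i : σ) : constantCoeff (bb w i) = 0 := by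
  rw [bb, map_mul, constantCoeff_X, zero_mul]

lemma hasSubst_bb : HasSubst (bb w) := hasSubst_of_constantCoeff_zero (constantCoeff_bb w)

variable (hw : ∀ i, constantCoeff (w i) = π)
include hw

open Classical in
lemma coeff_prod_bb (d m : σ →₀ ℕ) (h : m.degree ≤ d.degree) :
    coeff m (d.prod fun i e => (bb w i) ^ e) = if d = m then π ^ d.degree else 0 := by
  classical
  have h1 : (d.prod fun i e => (bb w i) ^ e) =
      monomial d (1 : R) * d.prod (fun i e => w i ^ e) := by
    rw [monomial_one_eq, ← Finsupp.prod_mul]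
    simp only [bb, mul_pow]
  rw [h1, coeff_monomial_mul]
  by_cases hdm : d = m
  · subst hdm
    rw [if_pos le_rfl, if_pos rfl, one_mul, tsub_self, coeff_zero_eq_constantCoeff_apply,
      map_finsuppProd]
    simp only [map_pow, hw]
    rw [Finsupp.prod, Finset.prod_pow_eq_pow_sum, degree_apply]
  · rw [if_neg hdm]
    split_ifs with hle
    · exfalso
      apply hdm
      have hdec : m = d + (m - d) := (add_tsub_cancel_of_le hle).symm
      have hdeg : (m - d).degree = 0 := by
        have := congrArg degree hdec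
        rw [map_add] at this
        omega
      rw [degree_eq_zero_iff] at hdeg
      rw [hdec, hdeg, add_zero]
    · rfl

lemma van_subst_sub (n : ℕ) {Δ : MvPowerSeries σ R} (h : Van n Δ) :
    Van (n + 1) (MvPowerSeries.subst (bb w) Δ - π ^ n • Δ) := by
  classical
  intro m hm
  have hs : HasSubst (bb w) := hasSubst_bb w
  rw [map_sub, coeff_subst hs, MvPowerSeries.coeff_smul, sub_eq_zero]
  rw [finsum_eq_single _ m]
  · rw [coeff_prod_bb π w hw m m le_rfl, if_pos rfl, smul_eq_mul]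
    by_cases hmn : m.degree = n
    · rw [hmn, mul_comm]
    · rw [h m (by omega), zero_mul, mul_zero]
  · intro d hd
    by_cases hdn : d.degree < n
    · rw [h d hdn, zero_smul]
    · rw [coeff_prod_bb π w hw d m (by omega), if_neg hd, smul_zero]

variable (A : MvPowerSeries σ R → MvPowerSeries σ R)
  (hA : ∀ n : ℕ, 1 ≤ n → ∀ Φ Ψ : MvPowerSeries σ R, constantCoeff Φ = 0 → constantCoeff Ψ = 0 →
    Van n (Φ - Ψ) → Van (n + 1) (A Φ - A Ψ - π • (Φ - Ψ)))
  (hA0 : A 0 = 0)
include hA hA0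

/-- uniqueness for the abstract functional equation. -/
theorem abstract_unique
    (hreg : ∀ r : ℕ, 2 ≤ r → ∀ x : R, (π - π ^ r) * x = 0 → x = 0)
    (Φ Ψ : MvPowerSeries σ R) (hΦ0 : constantCoeff Φ = 0) (hΨ0 : constantCoeff Ψ = 0)
    (h2 : Van 2 (Φ - Ψ))
    (hΦ : A Φ = MvPowerSeries.subst (bb w) Φ) (hΨ : A Ψ = MvPowerSeries.subst (bb w) Ψ) :
    Φ = Ψ := by
  have hs : HasSubst (bb w) := hasSubst_bb w
  have key : ∀ n : ℕ, Van (n + 2) (Φ - Ψ) := by
    intro n
    induction n with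
    | zero => exact h2
    | succ n ih =>
      have e1 := hA (n + 2) (by omega) Φ Ψ hΦ0 hΨ0 ih
      have e2 := van_subst_sub π w hw (n + 2) ih
      rw [hΦ, hΨ, ← subst_sub hs] at e1
      have e3 := e2.sub e1
      have e4 : MvPowerSeries.subst (bb w) (Φ - Ψ) - π ^ (n + 2) • (Φ - Ψ) -
          (MvPowerSeries.subst (bb w) (Φ - Ψ) - π • (Φ - Ψ)) = (π - π ^ (n + 2)) • (Φ - Ψ) := by
        rw [sub_smul]; abel
      rw [e4] at e3
      intro d hd
      have := e3 d hd
      rw [MvPowerSeries.coeff_smul] at this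
      exact hreg (n + 2) (by omega) _ this
  have : Φ - Ψ = 0 := eq_zero_of_forall_van fun n => (key n).mono (by omega)
  exact sub_eq_zero.mp this

omit hA0 in
lemma abstract_step
    (hdiv : ∀ Φ : MvPowerSeries σ R, constantCoeff Φ = 0 → ∀ m : σ →₀ ℕ, 2 ≤ m.degree →
      ∃ c, (π - π ^ m.degree) * c = coeff m (MvPowerSeries.subst (bb w) Φ - A Φ))
    (r : ℕ) (hr : 2 ≤ r) (Φ : MvPowerSeries σ R) (hΦ0 : constantCoeff Φ = 0)
    (hΦ : Van r (A Φ - MvPowerSeries.subst (bb w) Φ)) :
    ∃ Φ' : MvPowerSeries σ R, (constantCoeff Φ' = 0 ∧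
      Van (r + 1) (A Φ' - MvPowerSeries.subst (bb w) Φ')) ∧ Van r (Φ' - Φ) := by
  classical
  have hs : HasSubst (bb w) := hasSubst_bb w
  have hdiv' : ∀ m : σ →₀ ℕ, m.degree = r →
      ∃ c, (π - π ^ r) * c = coeff m (MvPowerSeries.subst (bb w) Φ - A Φ) := by
    intro m hm
    have := hdiv Φ hΦ0 m (by omega)
    rwa [hm] at this
  choose c hc using hdiv'
  let H : MvPowerSeries σ R := fun m => if hm : m.degree = r then c m hm else 0
  have hHc : ∀ m, coeff m H = if hm : m.degree = r then c m hm else 0 := fun m => rfl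
  have hH : Van r H := by
    intro d hd
    rw [hHc, dif_neg (by omega)]
  have hH0 : constantCoeff H = 0 := van_one_iff.mp (hH.mono (by omega))
  refine ⟨Φ + H, ⟨by rw [map_add, hΦ0, hH0, add_zero], ?_⟩, by simpa using hH⟩
  have t1 := hA r (by omega) (Φ + H) Φ (by rw [map_add, hΦ0, hH0, add_zero]) hΦ0
    (by simpa using hH)
  have t2 := van_subst_sub π w hw r hH
  have t3 : Van (r + 1) (MvPowerSeries.subst (bb w) Φ - A Φ - (π - π ^ r) • H) := by
    intro m hm
    rw [map_sub, MvPowerSeries.coeff_smul, hHc]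
    by_cases hmr : m.degree = r
    · rw [dif_pos hmr, hc m hmr, sub_self]
    · rw [dif_neg hmr, mul_zero, sub_zero]
      have := hΦ m (by omega)
      rw [← neg_sub, map_neg, this, neg_zero]
  have e : A (Φ + H) - MvPowerSeries.subst (bb w) (Φ + H) =
      (A (Φ + H) - A Φ - π • (Φ + H - Φ)) - (MvPowerSeries.subst (bb w) H - π ^ r • H) -
        (MvPowerSeries.subst (bb w) Φ - A Φ - (π - π ^ r) • H) := by
    rw [subst_add hs, sub_smul]
    simp only [add_sub_cancel_left]
    abel
  rw [e]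
  exact (t1.sub t2).sub t3

/-- existence for the abstract functional equation. -/
theorem abstract_exists
    (hdiv : ∀ Φ : MvPowerSeries σ R, constantCoeff Φ = 0 → ∀ m : σ →₀ ℕ, 2 ≤ m.degree →
      ∃ c, (π - π ^ m.degree) * c = coeff m (MvPowerSeries.subst (bb w) Φ - A Φ))
    (L : MvPowerSeries σ R) (hL0 : constantCoeff L = 0) :
    ∃ Φ : MvPowerSeries σ R, constantCoeff Φ = 0 ∧ Van 2 (Φ - L) ∧
      A Φ = MvPowerSeries.subst (bb w) Φ := by
  classical
  have hs : HasSubst (bb w) := hasSubst_bb w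
  have hcb := constantCoeff_bb w
  -- base case
  have base : ∀ Φ : MvPowerSeries σ R, constantCoeff Φ = 0 →
      Van 2 (A Φ - MvPowerSeries.subst (bb w) Φ) := by
    intro Φ hΦ0
    have t1 := hA 1 le_rfl Φ 0 hΦ0 (map_zero _) (by simpa using van_one_iff.mpr hΦ0)
    have t2 := van_subst_sub π w hw 1 (van_one_iff.mpr hΦ0)
    rw [hA0, sub_zero, sub_zero] at t1
    rw [pow_one] at t2
    have := t1.sub t2
    simpa using this
  -- the sequence
  have step := abstract_step π w hw A hA hdiv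
  let P : ℕ → MvPowerSeries σ R → Prop := fun k Φ =>
    constantCoeff Φ = 0 ∧ Van (k + 2) (A Φ - MvPowerSeries.subst (bb w) Φ)
  have step' : ∀ (k : ℕ) (Φ : MvPowerSeries σ R), P k Φ →
      ∃ Φ', P (k + 1) Φ' ∧ Van (k + 2) (Φ' - Φ) := by
    intro k Φ hP
    obtain ⟨Φ', h1, h2⟩ := step (k + 2) (by omega) Φ hP.1 hP.2
    exact ⟨Φ', h1, h2⟩
  choose! nxt hnxt using step'
  let s : ℕ → MvPowerSeries σ R := fun k => Nat.rec L (fun k Φ => nxt k Φ) k
  have hss : ∀ k, s (k + 1) = nxt k (s k) := fun k => rfl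
  have hP : ∀ k, P k (s k) := by
    intro k
    induction k with
    | zero => exact ⟨hL0, base L hL0⟩
    | succ k ih => rw [hss]; exact (hnxt k _ ih).1
  have hstep : ∀ k, Van (k + 2) (s (k + 1) - s k) := by
    intro k
    rw [hss]
    exact (hnxt k _ (hP k)).2
  have hstab : ∀ k j, k ≤ j → Van (k + 2) (s j - s k) := by
    intro k j hkj
    induction j, hkj using Nat.le_induction with
    | base => simpa using van_zero (k + 2)
    | succ j hkj ih =>
      have := ((hstep j).mono (by omega : k + 2 ≤ j + 2)).add ih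
      simpa using this
  let Φl : MvPowerSeries σ R := fun m => coeff m (s m.degree)
  have hΦc : ∀ m, coeff m Φl = coeff m (s m.degree) := fun m => rfl
  have hlim : ∀ k, Van (k + 2) (Φl - s k) := by
    intro k m hm
    rw [map_sub, hΦc, sub_eq_zero]
    rcases le_total m.degree k with hle | hle
    · have := hstab m.degree k hle m (by omega)
      rw [map_sub, sub_eq_zero] at this
      exact this.symm
    · have := hstab k m.degree hle m hm
      rw [map_sub, sub_eq_zero] at this
      exact this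
  have h0 : constantCoeff Φl = 0 := by
    have := hlim 0 0 (by simp)
    rw [map_sub, sub_eq_zero, coeff_zero_eq_constantCoeff_apply,
      coeff_zero_eq_constantCoeff_apply] at this
    rw [this]
    exact hL0
  refine ⟨Φl, h0, hlim 0, ?_⟩
  have hfin : ∀ k, Van (k + 2) (A Φl - MvPowerSeries.subst (bb w) Φl) := by
    intro k
    have t1 := hA (k + 2) (by omega) Φl (s k) h0 (hP k).1 (hlim k)
    have t1' : Van (k + 2) (A Φl - A (s k)) := by
      have := (t1.mono (by omega : k + 2 ≤ k + 2 + 1)).add ((hlim k).smul π)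
      simpa using this
    have t2 : Van (k + 2) (MvPowerSeries.subst (bb w) Φl - MvPowerSeries.subst (bb w) (s k)) := by
      rw [← subst_sub hs]
      exact (hlim k).subst hcb
    have t3 := (hP k).2
    have e : A Φl - MvPowerSeries.subst (bb w) Φl =
        (A Φl - A (s k)) - (MvPowerSeries.subst (bb w) Φl - MvPowerSeries.subst (bb w) (s k)) +
          (A (s k) - MvPowerSeries.subst (bb w) (s k)) := by abel
    rw [e]
    exact (t1'.sub t2).add t3
  have : A Φl - MvPowerSeries.subst (bb w) Φl = 0 :=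
    eq_zero_of_forall_van fun n => (hfin n).mono (by omega)
  exact sub_eq_zero.mp this

end Abstract

universe w

section Van2

variable {σ : Type v} {R : Type u} [CommRing R]

lemma van_two_iff (Φ Ψ : MvPowerSeries σ R) :
    Van 2 (Φ - Ψ) ↔ constantCoeff Φ = constantCoeff Ψ ∧
      ∀ i, coeff (single i 1) Φ = coeff (single i 1) Ψ := by
  constructor
  · intro h
    refine ⟨?_, fun i => ?_⟩
    · have := h 0 (by simp)
      rwa [map_sub, sub_eq_zero, coeff_zero_eq_constantCoeff_apply,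
        coeff_zero_eq_constantCoeff_apply] at this
    · have := h (single i 1) (by rw [degree_single]; norm_num)
      rwa [map_sub, sub_eq_zero] at this
  · rintro ⟨h0, h1⟩ d hd
    rcases degree_lt_two d hd with rfl | ⟨i, rfl⟩
    · rw [map_sub, sub_eq_zero, coeff_zero_eq_constantCoeff_apply,
        coeff_zero_eq_constantCoeff_apply]
      exact h0
    · rw [map_sub, sub_eq_zero]
      exact h1 i

lemma Van.map {S : Type*} [CommRing S] (φ : R →+* S) {n : ℕ} {Φ : MvPowerSeries σ R}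
    (h : Van n Φ) : Van n (MvPowerSeries.map φ Φ) := by
  intro d hd
  rw [coeff_map, h d hd, map_zero]

lemma van_two_unit (g : PowerSeries R) (hg0 : PowerSeries.constantCoeff g = 0) :
    Van 2 ((g : MvPowerSeries Unit R) - PowerSeries.coeff 1 g • (PowerSeries.X : PowerSeries R)) := by
  rw [van_two_iff]
  refine ⟨?_, fun i => ?_⟩
  · show PowerSeries.constantCoeff g =
      PowerSeries.constantCoeff (PowerSeries.coeff 1 g • (PowerSeries.X : PowerSeries R))
    rw [hg0]
    simp
  · show PowerSeries.coeff 1 g =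
      PowerSeries.coeff 1 (PowerSeries.coeff 1 g • (PowerSeries.X : PowerSeries R))
    simp

/-- linear part of a one-variable composition. -/
lemma van_comp1 {τ : Type w} (g : PowerSeries R) (α : R)
    (hg2 : Van 2 ((g : MvPowerSeries Unit R) - α • (PowerSeries.X : PowerSeries R)))
    (u : MvPowerSeries τ R) (hu0 : constantCoeff u = 0) :
    Van 2 (PowerSeries.subst u g - α • u) := by
  have ha0 : ∀ _ : Unit, constantCoeff u = 0 := fun _ => hu0
  have hs : HasSubst (fun _ : Unit => u) := hasSubst_of_constantCoeff_zero ha0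
  have hX : MvPowerSeries.subst (fun _ : Unit => u) (PowerSeries.X : PowerSeries R) = u :=
    subst_X hs ()
  have := hg2.subst (a := fun _ : Unit => u) ha0
  rw [subst_sub hs, subst_smul hs, hX] at this
  exact this

end Van2

section Comp

variable {R : Type u} [CommRing R] (f : PowerSeries R)

/-- the family `f(X_i)`. -/
noncomputable def fX (σ : Type v) (i : σ) : MvPowerSeries σ R :=
  PowerSeries.subst (MvPowerSeries.X i) f

/-- the Lubin–Tate functional equation `f(Φ(X)) = Φ(f(X))`. -/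
def LT (σ : Type v) (Φ : MvPowerSeries σ R) : Prop :=
  PowerSeries.subst Φ f = MvPowerSeries.subst (fX f σ) Φ

/-- the logarithm-type functional equation `Φ(f(X)) = c Φ(X)`. -/
def LG (c : R) (σ : Type v) (Φ : MvPowerSeries σ R) : Prop :=
  MvPowerSeries.subst (fX f σ) Φ = c • Φ

lemma fX_unit : fX f Unit = fun _ => f := by
  funext u
  exact PowerSeries.X_subst f

lemma LT_unit_iff (g : PowerSeries R) :
    LT f Unit g ↔ PowerSeries.subst g f = PowerSeries.subst f g := by
  unfold LT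
  rw [fX_unit]
  rfl

lemma subst_fX_apply {σ : Type v} {τ : Type w} (a : σ → MvPowerSeries τ R) (ha : HasSubst a)
    (i : σ) : MvPowerSeries.subst a (fX f σ i) = PowerSeries.subst (a i) f := by
  have hs : HasSubst (fun _ : Unit => (X i : MvPowerSeries σ R)) :=
    hasSubst_of_constantCoeff_zero (fun _ => constantCoeff_X i)
  unfold fX
  rw [PowerSeries.subst, subst_comp_subst_apply hs ha]
  simp only [subst_X ha]
  rfl

lemma fX_map {S : Type*} [CommRing S] (φ : R →+* S) {σ : Type v} (i : σ) :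
    MvPowerSeries.map φ (fX f σ i) = fX (PowerSeries.map φ f) σ i := by
  have hs : HasSubst (fun _ : Unit => (X i : MvPowerSeries σ R)) :=
    hasSubst_of_constantCoeff_zero (fun _ => constantCoeff_X i)
  unfold fX
  rw [PowerSeries.subst, map_subst hs]
  simp only [map_X]
  rfl

variable (hf0 : PowerSeries.constantCoeff f = 0)
include hf0

lemma constantCoeff_fX {σ : Type v} (i : σ) : constantCoeff (fX f σ i) = 0 :=
  PowerSeries.constantCoeff_subst_eq_zero (constantCoeff_X i) f hf0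

lemma hasSubst_fX {σ : Type v} [Finite σ] : HasSubst (fX f σ) :=
  hasSubst_of_constantCoeff_zero (constantCoeff_fX f hf0)

lemma LT_X {σ : Type v} [Finite σ] (i : σ) : LT f σ (X i) := by
  unfold LT
  rw [subst_X (hasSubst_fX f hf0)]
  rfl

lemma LT_comp {σ : Type v} {τ : Type w} [Finite σ] [Finite τ] (Φ : MvPowerSeries σ R)
    (a : σ → MvPowerSeries τ R) (ha0 : ∀ i, constantCoeff (a i) = 0)
    (hΦ0 : constantCoeff Φ = 0) (hΦ : LT f σ Φ) (ha : ∀ i, LT f τ (a i)) :
    LT f τ (MvPowerSeries.subst a Φ) := by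
  have hsa : HasSubst a := hasSubst_of_constantCoeff_zero ha0
  have hsΦ : HasSubst (fun _ : Unit => Φ) := hasSubst_of_constantCoeff_zero (fun _ => hΦ0)
  unfold LT at *
  calc PowerSeries.subst (MvPowerSeries.subst a Φ) f
      = MvPowerSeries.subst a (PowerSeries.subst Φ f) :=
        (subst_comp_subst_apply hsΦ hsa f).symm
    _ = MvPowerSeries.subst a (MvPowerSeries.subst (fX f σ) Φ) := by rw [hΦ]
    _ = MvPowerSeries.subst (fun i => MvPowerSeries.subst a (fX f σ i)) Φ :=
        subst_comp_subst_apply (hasSubst_fX f hf0) hsa Φ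
    _ = MvPowerSeries.subst (fun i => PowerSeries.subst (a i) f) Φ := by
        congr 1
        funext i
        exact subst_fX_apply f a hsa i
    _ = MvPowerSeries.subst (fun i => MvPowerSeries.subst (fX f τ) (a i)) Φ := by
        congr 1
        funext i
        exact ha i
    _ = MvPowerSeries.subst (fX f τ) (MvPowerSeries.subst a Φ) :=
        (subst_comp_subst_apply hsa (hasSubst_fX f hf0) Φ).symm

lemma LG_comp {τ : Type w} [Finite τ] (c : R) (ℓ : PowerSeries R) (hℓ : LG f c Unit ℓ)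
    (u : MvPowerSeries τ R) (hu0 : constantCoeff u = 0) (hu : LT f τ u) :
    LG f c τ (PowerSeries.subst u ℓ) := by
  have hsu : HasSubst (fun _ : Unit => u) := hasSubst_of_constantCoeff_zero (fun _ => hu0)
  have hsf : HasSubst (fX f τ) := hasSubst_fX f hf0
  have hsfu : HasSubst (fun _ : Unit => f) := hasSubst_of_constantCoeff_zero (fun _ => hf0)
  unfold LG LT at *
  rw [fX_unit] at hℓ
  calc MvPowerSeries.subst (fX f τ) (PowerSeries.subst u ℓ)
      = MvPowerSeries.subst (fun _ : Unit => MvPowerSeries.subst (fX f τ) u) ℓ :=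
        subst_comp_subst_apply hsu hsf ℓ
    _ = MvPowerSeries.subst (fun _ : Unit => PowerSeries.subst u f) ℓ := by rw [hu]
    _ = MvPowerSeries.subst (fun _ : Unit => u) (MvPowerSeries.subst (fun _ : Unit => f) ℓ) :=
        (subst_comp_subst_apply hsfu hsu ℓ).symm
    _ = MvPowerSeries.subst (fun _ : Unit => u) (c • ℓ) := by rw [hℓ]
    _ = c • PowerSeries.subst u ℓ := by rw [subst_smul hsu]; rfl

lemma LT_map {S : Type*} [CommRing S] (φ : R →+* S) {σ : Type v} [Finite σ]
    (Φ : MvPowerSeries σ R) (hΦ0 : constantCoeff Φ = 0) (h : LT f σ Φ) :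
    LT (PowerSeries.map φ f) σ (MvPowerSeries.map φ Φ) := by
  have hsΦ : HasSubst (fun _ : Unit => Φ) := hasSubst_of_constantCoeff_zero (fun _ => hΦ0)
  unfold LT at *
  have := congrArg (MvPowerSeries.map φ) h
  rw [PowerSeries.subst, map_subst hsΦ, map_subst (hasSubst_fX f hf0)] at this
  simp only [fX_map] at this
  exact this

/-- composition of a one-variable solution with a solution. -/
lemma G_comp {τ : Type w} [Finite τ] (g : PowerSeries R)
    (hg0 : PowerSeries.constantCoeff g = 0) (α : R)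
    (hg2 : Van 2 ((g : MvPowerSeries Unit R) - α • (PowerSeries.X : PowerSeries R)))
    (hg : LT f Unit g) (u : MvPowerSeries τ R) (hu0 : constantCoeff u = 0) (hu : LT f τ u) :
    constantCoeff (PowerSeries.subst u g) = 0 ∧ Van 2 (PowerSeries.subst u g - α • u) ∧
      LT f τ (PowerSeries.subst u g) :=
  ⟨PowerSeries.constantCoeff_subst_eq_zero hu0 g hg0, van_comp1 g α hg2 u hu0,
    LT_comp f hf0 g (fun _ => u) (fun _ => hu0) hg0 hg (fun _ => hu)⟩

/-- substitution of two solutions into a two-variable solution with linear part `X + Y`. -/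
lemma F_comp (Φ : MvPowerSeries (Fin 2) R) (hΦ0 : constantCoeff Φ = 0)
    (hΦ2 : Van 2 (Φ - (X 0 + X 1))) (hΦ : LT f (Fin 2) Φ) {τ : Type w} [Finite τ]
    (u v : MvPowerSeries τ R) (hu0 : constantCoeff u = 0) (hv0 : constantCoeff v = 0)
    (hu : LT f τ u) (hv : LT f τ v) :
    constantCoeff (MvPowerSeries.subst ![u, v] Φ) = 0 ∧
      Van 2 (MvPowerSeries.subst ![u, v] Φ - (u + v)) ∧
      LT f τ (MvPowerSeries.subst ![u, v] Φ) := by
  have ha0 : ∀ i, constantCoeff (![u, v] i) = 0 := by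
    intro i
    fin_cases i
    · exact hu0
    · exact hv0
  have hs : HasSubst ![u, v] := hasSubst_of_constantCoeff_zero ha0
  refine ⟨constantCoeff_subst_eq_zero hs ha0 hΦ0, ?_, ?_⟩
  · have := hΦ2.subst ha0
    rw [subst_sub hs, subst_add hs, subst_X hs, subst_X hs] at this
    exact this
  · refine LT_comp f hf0 Φ _ ha0 hΦ0 hΦ ?_
    intro i
    fin_cases i
    · exact hu
    · exact hv

end Comp

section Generic

variable {R : Type u} [CommRing R]

lemma fX_eq_bb (c : R) (n : ℕ) (hn : 1 ≤ n) {σ : Type v} (i : σ) :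
    fX (c • PowerSeries.X + PowerSeries.X ^ n) σ i = bb (fun i => C c + X i ^ (n - 1)) i := by
  have hs : PowerSeries.HasSubst (X i : MvPowerSeries σ R) := PowerSeries.HasSubst.X i
  unfold fX bb
  rw [PowerSeries.subst_add hs, PowerSeries.subst_smul hs, PowerSeries.subst_pow hs,
    PowerSeries.subst_X hs]
  obtain ⟨s, rfl⟩ : ∃ s, n = s + 1 := ⟨n - 1, by omega⟩
  rw [add_tsub_cancel_right, smul_eq_C_mul, pow_succ']
  ring

lemma subst_f_eq (c : R) (n : ℕ) {σ : Type v} (Φ : MvPowerSeries σ R)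
    (hΦ0 : constantCoeff Φ = 0) :
    PowerSeries.subst Φ (c • PowerSeries.X + PowerSeries.X ^ n : PowerSeries R) =
      c • Φ + Φ ^ n := by
  have hs : PowerSeries.HasSubst Φ := PowerSeries.HasSubst.of_constantCoeff_zero hΦ0
  rw [PowerSeries.subst_add hs, PowerSeries.subst_smul hs, PowerSeries.subst_pow hs,
    PowerSeries.subst_X hs]

lemma constantCoeff_f (c : R) (n : ℕ) (hn : 1 ≤ n) :
    PowerSeries.constantCoeff (c • PowerSeries.X + PowerSeries.X ^ n : PowerSeries R) = 0 := by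
  rw [map_add, map_pow, PowerSeries.constantCoeff_X, zero_pow (by omega), add_zero,
    PowerSeries.smul_eq_C_mul, map_mul, PowerSeries.constantCoeff_X, mul_zero]

lemma constantCoeff_w (c : R) (n : ℕ) (hn : 2 ≤ n) {σ : Type v} (i : σ) :
    constantCoeff (C c + X i ^ (n - 1) : MvPowerSeries σ R) = c := by
  rw [map_add, constantCoeff_C, map_pow, constantCoeff_X, zero_pow (by omega), add_zero]

end Generic

section LogK

variable {K : Type u} [Field K] (c : K) (hc : ∀ r : ℕ, 2 ≤ r → c - c ^ r ≠ 0)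
include hc

theorem LG_exists_K {σ : Type v} [Finite σ] (n : ℕ) (hn : 2 ≤ n) (L : MvPowerSeries σ K)
    (hL0 : constantCoeff L = 0) :
    ∃ Φ : MvPowerSeries σ K, constantCoeff Φ = 0 ∧ Van 2 (Φ - L) ∧
      LG (c • PowerSeries.X + PowerSeries.X ^ n) c σ Φ := by
  have hfX : fX (c • PowerSeries.X + PowerSeries.X ^ n) σ = bb (fun i => C c + X i ^ (n - 1)) :=
    funext fun i => fX_eq_bb c n (by omega) i
  obtain ⟨Φ, h0, h2, h⟩ := abstract_exists c (fun i => C c + X i ^ (n - 1))
    (fun i => constantCoeff_w c n hn i) (fun Φ => c • Φ)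
    (fun m _ Φ Ψ _ _ _ => by
      have e : c • Φ - c • Ψ - c • (Φ - Ψ) = 0 := by rw [smul_sub]; abel
      rw [e]; exact van_zero _)
    (smul_zero c)
    (fun Φ _ m hm => ⟨(c - c ^ m.degree)⁻¹ * _, mul_inv_cancel_left₀ (hc _ hm) _⟩) L hL0
  refine ⟨Φ, h0, h2, ?_⟩
  unfold LG
  rw [hfX]
  exact h.symm

theorem LG_unique_K {σ : Type v} [Finite σ] (n : ℕ) (hn : 2 ≤ n) (Φ Ψ : MvPowerSeries σ K)
    (hΦ0 : constantCoeff Φ = 0) (hΨ0 : constantCoeff Ψ = 0) (h2 : Van 2 (Φ - Ψ))
    (hΦ : LG (c • PowerSeries.X + PowerSeries.X ^ n) c σ Φ)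
    (hΨ : LG (c • PowerSeries.X + PowerSeries.X ^ n) c σ Ψ) : Φ = Ψ := by
  have hfX : fX (c • PowerSeries.X + PowerSeries.X ^ n) σ = bb (fun i => C c + X i ^ (n - 1)) :=
    funext fun i => fX_eq_bb c n (by omega) i
  unfold LG at hΦ hΨ
  rw [hfX] at hΦ hΨ
  exact abstract_unique c (fun i => C c + X i ^ (n - 1))
    (fun i => constantCoeff_w c n hn i) (fun Φ => c • Φ)
    (fun m _ Φ Ψ _ _ _ => by
      have e : c • Φ - c • Ψ - c • (Φ - Ψ) = 0 := by rw [smul_sub]; abel
      rw [e]; exact van_zero _)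
    (smul_zero c)
    (fun r hr x hx => (mul_eq_zero.mp hx).resolve_left (hc r hr)) Φ Ψ hΦ0 hΨ0 h2 hΦ.symm hΨ.symm

end LogK

section DVR

variable {O : Type u} [CommRing O] [IsDomain O] [IsDiscreteValuationRing O]
  [Finite (IsLocalRing.ResidueField O)]

/-- the residue cardinality. -/
noncomputable abbrev qq (O : Type u) [CommRing O] [IsLocalRing O] : ℕ :=
  Nat.card (IsLocalRing.ResidueField O)

lemma two_le_qq : 2 ≤ qq O := Finite.one_lt_card

lemma expand_congr {σ : Type v} {k : Type u} [CommRing k] (a b : ℕ) (h : a = b) (ha : a ≠ 0)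
    (hb : b ≠ 0) (Ψ : MvPowerSeries σ k) : expand a ha Ψ = expand b hb Ψ := by
  subst h
  rfl

lemma pow_card_eq_expand {σ : Type v} (k : Type u) [Field k] [Finite k] (hq : Nat.card k ≠ 0)
    (Ψ : MvPowerSeries σ k) : Ψ ^ Nat.card k = expand (Nat.card k) hq Ψ := by
  have : Fintype k := Fintype.ofFinite k
  obtain ⟨p, hchar⟩ := CharP.exists k
  have := hchar
  obtain ⟨n, hp, hcard⟩ := FiniteField.card k p
  have : ExpChar k p := ExpChar.prime hp
  have hq' : Nat.card k = p ^ (n : ℕ) := by rw [Nat.card_eq_fintype_card, hcard]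
  have hid : iterateFrobenius k p n = RingHom.id k := by
    ext x
    rw [iterateFrobenius_def, ← hq', Nat.card_eq_fintype_card, FiniteField.pow_card]
    rfl
  have h1 := map_iterateFrobenius_expand p hp.ne_zero Ψ n
  rw [hid, MvPowerSeries.map_id, RingHom.id_apply] at h1
  rw [expand_congr _ _ hq' hq (pow_ne_zero _ hp.ne_zero), h1, hq']

variable {π : O}

lemma hA_O {σ : Type v} (n : ℕ) (Φ Ψ : MvPowerSeries σ O) (hΦ0 : constantCoeff Φ = 0)
    (hΨ0 : constantCoeff Ψ = 0) (h : Van n (Φ - Ψ)) :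
    Van (n + 1) ((π • Φ + Φ ^ qq O) - (π • Ψ + Ψ ^ qq O) - π • (Φ - Ψ)) := by
  have hq := two_le_qq (O := O)
  have e : (π • Φ + Φ ^ qq O) - (π • Ψ + Ψ ^ qq O) - π • (Φ - Ψ) =
      (∑ i ∈ Finset.range (qq O), Φ ^ i * Ψ ^ (qq O - 1 - i)) * (Φ - Ψ) := by
    rw [geom_sum₂_mul, smul_sub]
    abel
  rw [e, add_comm n 1]
  refine Van.mul (van_one_iff.mpr ?_) h
  rw [map_sum]
  apply Finset.sum_eq_zero
  intro i _
  rw [map_mul, map_pow, map_pow, hΦ0, hΨ0]
  by_cases hi0 : i = 0
  · subst hi0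
    rw [zero_pow (by omega : qq O - 1 - 0 ≠ 0), mul_zero]
  · rw [zero_pow hi0, zero_mul]

variable (hπ : Irreducible π)
include hπ

lemma residue_pi : IsLocalRing.residue O π = 0 := by
  rw [IsLocalRing.residue_eq_zero_iff, hπ.maximalIdeal_eq]
  exact Ideal.mem_span_singleton_self π

lemma dvd_of_residue_eq_zero (x : O) (hx : IsLocalRing.residue O x = 0) : π ∣ x := by
  rw [IsLocalRing.residue_eq_zero_iff, hπ.maximalIdeal_eq, Ideal.mem_span_singleton] at hx
  exact hx

lemma isUnit_one_sub_pow (k : ℕ) (hk : k ≠ 0) : IsUnit (1 - π ^ k) := by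
  apply IsLocalRing.isUnit_one_sub_self_of_mem_nonunits
  rw [mem_nonunits_iff, isUnit_pow_iff hk]
  exact hπ.not_isUnit

omit hπ in
lemma pi_sub_pow_eq (r : ℕ) (hr : 1 ≤ r) : π - π ^ r = π * (1 - π ^ (r - 1)) := by
  obtain ⟨s, rfl⟩ : ∃ s, r = s + 1 := ⟨r - 1, by omega⟩
  simp only [add_tsub_cancel_right]
  ring

lemma pi_sub_pow_ne_zero (r : ℕ) (hr : 2 ≤ r) : π - π ^ r ≠ 0 := by
  rw [pi_sub_pow_eq r (by omega)]
  exact mul_ne_zero hπ.ne_zero (isUnit_one_sub_pow hπ (r - 1) (by omega)).ne_zero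

lemma dvd_coeff {σ : Type v} [Finite σ] (Φ : MvPowerSeries σ O) (m : σ →₀ ℕ) :
    π ∣ coeff m (MvPowerSeries.subst (bb (fun i => C π + X i ^ (qq O - 1))) Φ -
      (π • Φ + Φ ^ qq O)) := by
  have hq := two_le_qq (O := O)
  have hq0 : qq O ≠ 0 := by omega
  apply dvd_of_residue_eq_zero hπ
  have hs : HasSubst (bb (fun i => (C π + X i ^ (qq O - 1) : MvPowerSeries σ O))) :=
    hasSubst_bb _
  rw [← coeff_map, map_sub, map_add, map_pow, map_subst hs]
  have e1 : MvPowerSeries.map (IsLocalRing.residue O) (π • Φ) = 0 := by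
    rw [smul_eq_C_mul, map_mul, map_C, residue_pi hπ, map_zero, zero_mul]
  have e2 : (fun i => MvPowerSeries.map (IsLocalRing.residue O)
      (bb (fun i => (C π + X i ^ (qq O - 1) : MvPowerSeries σ O)) i)) =
      fun i => (X i : MvPowerSeries σ (IsLocalRing.ResidueField O)) ^ qq O := by
    funext i
    simp only [bb, map_mul, map_add, map_pow, map_X, map_C, residue_pi hπ, map_zero, zero_add]
    rw [← pow_succ']
    congr 1
    omega
  rw [e1, e2, zero_add, pow_card_eq_expand _ hq0]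
  have e3 : MvPowerSeries.subst
      (fun i => (X i : MvPowerSeries σ (IsLocalRing.ResidueField O)) ^ qq O)
      (MvPowerSeries.map (IsLocalRing.residue O) Φ) =
      expand (qq O) hq0 (MvPowerSeries.map (IsLocalRing.residue O) Φ) :=
    (substAlgHom_apply (HasSubst.X_pow hq0) _).symm
  rw [e3, sub_self, map_zero]

lemma hdiv_O {σ : Type v} [Finite σ] (Φ : MvPowerSeries σ O) (m : σ →₀ ℕ) (hm : 2 ≤ m.degree) :
    ∃ c, (π - π ^ m.degree) * c =
      coeff m (MvPowerSeries.subst (bb (fun i => C π + X i ^ (qq O - 1))) Φ -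
        (π • Φ + Φ ^ qq O)) := by
  obtain ⟨c0, hc0⟩ := dvd_coeff hπ Φ m
  obtain ⟨u, hu⟩ := isUnit_one_sub_pow hπ (m.degree - 1) (by omega)
  refine ⟨c0 * ↑u⁻¹, ?_⟩
  rw [pi_sub_pow_eq m.degree (by omega), hc0, ← hu, mul_mul_mul_comm, Units.mul_inv, mul_one]

theorem LT_exists_O {σ : Type v} [Finite σ] (L : MvPowerSeries σ O)
    (hL0 : constantCoeff L = 0) :
    ∃ Φ : MvPowerSeries σ O, constantCoeff Φ = 0 ∧ Van 2 (Φ - L) ∧
      LT (π • PowerSeries.X + PowerSeries.X ^ qq O) σ Φ := by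
  have hq := two_le_qq (O := O)
  have hfX : fX (π • PowerSeries.X + PowerSeries.X ^ qq O) σ =
      bb (fun i => C π + X i ^ (qq O - 1)) := funext fun i => fX_eq_bb π (qq O) (by omega) i
  obtain ⟨Φ, h0, h2, h⟩ := abstract_exists π (fun i => C π + X i ^ (qq O - 1))
    (fun i => constantCoeff_w π (qq O) hq i) (fun Φ => π • Φ + Φ ^ qq O)
    (fun n _ Φ Ψ h1 h2 h3 => hA_O n Φ Ψ h1 h2 h3)
    (by rw [smul_zero, zero_pow (by omega), add_zero])
    (fun Φ _ m hm => hdiv_O hπ Φ m hm) L hL0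
  refine ⟨Φ, h0, h2, ?_⟩
  unfold LT
  rw [hfX, subst_f_eq _ _ _ h0]
  exact h

theorem LT_unique_O {σ : Type v} [Finite σ] (Φ Ψ : MvPowerSeries σ O)
    (hΦ0 : constantCoeff Φ = 0) (hΨ0 : constantCoeff Ψ = 0) (h2 : Van 2 (Φ - Ψ))
    (hΦ : LT (π • PowerSeries.X + PowerSeries.X ^ qq O) σ Φ)
    (hΨ : LT (π • PowerSeries.X + PowerSeries.X ^ qq O) σ Ψ) : Φ = Ψ := by
  have hq := two_le_qq (O := O)
  have hfX : fX (π • PowerSeries.X + PowerSeries.X ^ qq O) σ =
      bb (fun i => C π + X i ^ (qq O - 1)) := funext fun i => fX_eq_bb π (qq O) (by omega) i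
  unfold LT at hΦ hΨ
  rw [hfX, subst_f_eq _ _ _ hΦ0] at hΦ
  rw [hfX, subst_f_eq _ _ _ hΨ0] at hΨ
  exact abstract_unique π (fun i => C π + X i ^ (qq O - 1))
    (fun i => constantCoeff_w π (qq O) hq i) (fun Φ => π • Φ + Φ ^ qq O)
    (fun n _ Φ Ψ h1 h2 h3 => hA_O n Φ Ψ h1 h2 h3)
    (by rw [smul_zero, zero_pow (by omega), add_zero])
    (fun r hr x hx => (mul_eq_zero.mp hx).resolve_left (pi_sub_pow_ne_zero hπ r hr))
    Φ Ψ hΦ0 hΨ0 h2 hΦ hΨ

end DVR

section Main

lemma FG_van2 {R : Type u} [CommRing R] (F : FormalGroup R) :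
    Van 2 (F.toPowerSeries - (X 0 + X 1)) := by
  rw [van_two_iff]
  refine ⟨by simp [F.zero_constantCoeff], Fin.forall_fin_two.mpr ⟨?_, ?_⟩⟩
  · rw [F.lin_coeff_X]; simp [coeff_index_single_X]
  · rw [F.lin_coeff_Y]; simp [coeff_index_single_X]

variable (O : Type u) [CommRing O] [IsDomain O] [IsDiscreteValuationRing O]
  [Finite (IsLocalRing.ResidueField O)]

theorem main15050 (π : O) (hπ : Irreducible π) (f : PowerSeries O)
    (hf : f = π • PowerSeries.X + PowerSeries.X ^ Nat.card (IsLocalRing.ResidueField O)) (α : O) :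
    ∃! g : PowerSeries O, g.constantCoeff = 0 ∧ g.coeff 1 = α ∧
      PowerSeries.subst g f = PowerSeries.subst f g := by
  subst hf
  have hL0 : constantCoeff
      ((α • (PowerSeries.X : PowerSeries O) : PowerSeries O) : MvPowerSeries Unit O) = 0 := by
    show PowerSeries.constantCoeff (α • (PowerSeries.X : PowerSeries O)) = 0
    simp
  obtain ⟨g, hg0, hg2, hgLT⟩ :=
    LT_exists_O hπ (σ := Unit) (α • (PowerSeries.X : PowerSeries O)) hL0
  have hgc : PowerSeries.coeff 1 g = α := by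
    have := ((van_two_iff g _).mp hg2).2 ()
    calc PowerSeries.coeff 1 g = PowerSeries.coeff 1 (α • (PowerSeries.X : PowerSeries O)) := this
      _ = α := by simp
  refine ⟨g, ⟨hg0, hgc, (LT_unit_iff _ g).mp hgLT⟩, ?_⟩
  rintro g' ⟨h0', h1', hLT'⟩
  refine LT_unique_O hπ (σ := Unit) g' g h0' hg0 ?_ ((LT_unit_iff _ g').mpr hLT') hgLT
  rw [van_two_iff]
  refine ⟨by rw [show constantCoeff g' = 0 from h0', hg0], fun i => ?_⟩
  show PowerSeries.coeff 1 g' = PowerSeries.coeff 1 g
  rw [h1', hgc]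

theorem main15049 (π : O) (hπ : Irreducible π) (f : PowerSeries O)
    (hf : f = π • PowerSeries.X + PowerSeries.X ^ Nat.card (IsLocalRing.ResidueField O)) :
    ∃ F : FormalGroup O, F.IsComm ∧
      PowerSeries.subst F.toPowerSeries f =
        MvPowerSeries.subst (fun i : Fin 2 =>
          PowerSeries.subst (MvPowerSeries.X i : MvPowerSeries (Fin 2) O) f) F.toPowerSeries ∧
      ∀ G : MvPowerSeries (Fin 2) O, G.constantCoeff = 0 → G.coeff (Finsupp.single 0 1) = 1 →
        G.coeff (Finsupp.single 1 1) = 1 →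
        PowerSeries.subst G f =
        MvPowerSeries.subst (fun i : Fin 2 =>
          PowerSeries.subst (MvPowerSeries.X i : MvPowerSeries (Fin 2) O) f) G →
        G = F.toPowerSeries := by
  subst hf
  have hq := two_le_qq (O := O)
  have hf0 := constantCoeff_f π (qq O) (by omega)
  have hL0 : constantCoeff (X 0 + X 1 : MvPowerSeries (Fin 2) O) = 0 := by simp
  obtain ⟨Φ, h0, h2, hLT⟩ := LT_exists_O hπ (σ := Fin 2) (X 0 + X 1) hL0
  have hlin := ((van_two_iff Φ _).mp h2).2
  have hlin0 : coeff (single 0 1) Φ = 1 := by rw [hlin 0]; simp [coeff_index_single_X]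
  have hlin1 : coeff (single 1 1) Φ = 1 := by rw [hlin 1]; simp [coeff_index_single_X]
  have hassoc : MvPowerSeries.subst ![MvPowerSeries.subst ![X 0, X 1] Φ, X 2] Φ =
      MvPowerSeries.subst ![(X 0 : MvPowerSeries (Fin 3) O), MvPowerSeries.subst ![X 1, X 2] Φ]
        Φ := by
    obtain ⟨p0, p2, pLT⟩ := F_comp _ hf0 Φ h0 h2 hLT (X 0 : MvPowerSeries (Fin 3) O) (X 1)
      (constantCoeff_X _) (constantCoeff_X _) (LT_X _ hf0 0) (LT_X _ hf0 1)
    obtain ⟨q0, q2, qLT⟩ := F_comp _ hf0 Φ h0 h2 hLT (X 1 : MvPowerSeries (Fin 3) O) (X 2)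
      (constantCoeff_X _) (constantCoeff_X _) (LT_X _ hf0 1) (LT_X _ hf0 2)
    obtain ⟨l0, l2, lLT⟩ := F_comp _ hf0 Φ h0 h2 hLT _ (X 2 : MvPowerSeries (Fin 3) O) p0
      (constantCoeff_X _) pLT (LT_X _ hf0 2)
    obtain ⟨r0, r2, rLT⟩ := F_comp _ hf0 Φ h0 h2 hLT (X 0 : MvPowerSeries (Fin 3) O) _
      (constantCoeff_X _) q0 (LT_X _ hf0 0) qLT
    refine LT_unique_O hπ _ _ l0 r0 ?_ lLT rLT
    have := (l2.sub r2).add (p2.sub q2)
    convert this using 1
    abel
  have hcomm : Φ = MvPowerSeries.subst ![X 1, X 0] Φ := by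
    obtain ⟨c0, c2, cLT⟩ := F_comp _ hf0 Φ h0 h2 hLT (X 1 : MvPowerSeries (Fin 2) O) (X 0)
      (constantCoeff_X _) (constantCoeff_X _) (LT_X _ hf0 1) (LT_X _ hf0 0)
    refine LT_unique_O hπ Φ _ h0 c0 ?_ hLT cLT
    have := h2.sub c2
    convert this using 1
    abel
  refine ⟨⟨Φ, h0, hlin0, hlin1, hassoc⟩, ⟨hcomm⟩, hLT, ?_⟩
  intro G hG0 hG1 hG2 hGLT
  refine LT_unique_O hπ G Φ hG0 h0 ?_ hGLT hLT
  rw [van_two_iff]
  exact ⟨by rw [hG0, h0],
    Fin.forall_fin_two.mpr ⟨hG1.trans hlin0.symm, hG2.trans hlin1.symm⟩⟩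

theorem main15051 (π : O) (hπ : Irreducible π) (f : PowerSeries O)
    (hf : f = π • PowerSeries.X + PowerSeries.X ^ Nat.card (IsLocalRing.ResidueField O))
    (F : FormalGroup O)
    (hF : PowerSeries.subst F.toPowerSeries f =
        MvPowerSeries.subst (fun i : Fin 2 =>
          PowerSeries.subst (MvPowerSeries.X i : MvPowerSeries (Fin 2) O) f) F.toPowerSeries)
    (g : PowerSeries O) (hg0 : g.constantCoeff = 0)
    (hgf : PowerSeries.subst g f = PowerSeries.subst f g) :
    PowerSeries.subst F.toPowerSeries g =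
      MvPowerSeries.subst (fun i : Fin 2 =>
        PowerSeries.subst (MvPowerSeries.X i : MvPowerSeries (Fin 2) O) g) F.toPowerSeries := by
  subst hf
  have hq := two_le_qq (O := O)
  have hf0 := constantCoeff_f π (qq O) (by omega)
  have hFLT : LT (π • PowerSeries.X + PowerSeries.X ^ qq O) (Fin 2) F.toPowerSeries := hF
  have hgLT : LT (π • PowerSeries.X + PowerSeries.X ^ qq O) Unit g := (LT_unit_iff _ g).mpr hgf
  have hF0 := F.zero_constantCoeff
  have hF2 := FG_van2 F
  have hg2 := van_two_unit g hg0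
  obtain ⟨l0, l2, lLT⟩ := G_comp _ hf0 g hg0 _ hg2 hgLT F.toPowerSeries hF0 hFLT
  have hA := fun i : Fin 2 => G_comp _ hf0 g hg0 _ hg2 hgLT (X i : MvPowerSeries (Fin 2) O)
    (constantCoeff_X i) (LT_X _ hf0 i)
  have a0 : ∀ i : Fin 2,
      constantCoeff (PowerSeries.subst (X i : MvPowerSeries (Fin 2) O) g) = 0 := fun i => (hA i).1
  have hs : HasSubst (fun i : Fin 2 => PowerSeries.subst (X i : MvPowerSeries (Fin 2) O) g) :=
    hasSubst_of_constantCoeff_zero a0
  have r0 : constantCoeff (MvPowerSeries.subst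
      (fun i : Fin 2 => PowerSeries.subst (X i : MvPowerSeries (Fin 2) O) g) F.toPowerSeries) = 0 :=
    constantCoeff_subst_eq_zero hs a0 hF0
  have rLT := LT_comp _ hf0 F.toPowerSeries _ a0 hF0 hFLT (fun i => (hA i).2.2)
  have r2 : Van 2 (MvPowerSeries.subst
      (fun i : Fin 2 => PowerSeries.subst (X i : MvPowerSeries (Fin 2) O) g) F.toPowerSeries -
      (PowerSeries.subst (X 0) g + PowerSeries.subst (X 1) g)) := by
    have := hF2.subst a0
    rw [subst_sub hs, subst_add hs, subst_X hs, subst_X hs] at this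
    exact this
  refine LT_unique_O hπ _ _ l0 r0 ?_ lLT rLT
  have := ((l2.sub r2).add (hF2.smul (PowerSeries.coeff 1 g))).sub
    (((hA 0).2.1).add ((hA 1).2.1))
  convert this using 1
  rw [smul_sub, smul_add]
  abel

theorem main15060 (π : O) (hπ : Irreducible π) (f : PowerSeries O)
    (hf : f = π • PowerSeries.X + PowerSeries.X ^ Nat.card (IsLocalRing.ResidueField O))
    (F : FormalGroup O)
    (hF : PowerSeries.subst F.toPowerSeries f =
        MvPowerSeries.subst (fun i : Fin 2 =>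
          PowerSeries.subst (MvPowerSeries.X i : MvPowerSeries (Fin 2) O) f)
          F.toPowerSeries)
    (α β : O) (gα gβ gαβ gs : PowerSeries O)
    (hα0 : gα.constantCoeff = 0) (hα1 : gα.coeff 1 = α)
    (hαf : PowerSeries.subst gα f = PowerSeries.subst f gα)
    (hβ0 : gβ.constantCoeff = 0) (hβ1 : gβ.coeff 1 = β)
    (hβf : PowerSeries.subst gβ f = PowerSeries.subst f gβ)
    (hαβ0 : gαβ.constantCoeff = 0) (hαβ1 : gαβ.coeff 1 = α * β)
    (hαβf : PowerSeries.subst gαβ f = PowerSeries.subst f gαβ)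
    (hs0 : gs.constantCoeff = 0) (hs1 : gs.coeff 1 = α + β)
    (hsf : PowerSeries.subst gs f = PowerSeries.subst f gs) :
    PowerSeries.subst gβ gα = gαβ ∧ F.toPowerSeries.subst ![gα, gβ] = gs := by
  subst hf
  have hq := two_le_qq (O := O)
  have hf0 := constantCoeff_f π (qq O) (by omega)
  have hFLT : LT (π • PowerSeries.X + PowerSeries.X ^ qq O) (Fin 2) F.toPowerSeries := hF
  have hF0 := F.zero_constantCoeff
  have hF2 := FG_van2 F
  have hαLT := (LT_unit_iff _ gα).mpr hαf
  have hβLT := (LT_unit_iff _ gβ).mpr hβf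
  have hαβLT := (LT_unit_iff _ gαβ).mpr hαβf
  have hsLT := (LT_unit_iff _ gs).mpr hsf
  have hα2 : Van 2 ((gα : MvPowerSeries Unit O) - α • (PowerSeries.X : PowerSeries O)) := by
    have := van_two_unit gα hα0
    rwa [hα1] at this
  have hβ2 : Van 2 ((gβ : MvPowerSeries Unit O) - β • (PowerSeries.X : PowerSeries O)) := by
    have := van_two_unit gβ hβ0
    rwa [hβ1] at this
  have hαβ2 : Van 2 ((gαβ : MvPowerSeries Unit O) -
      (α * β) • (PowerSeries.X : PowerSeries O)) := by
    have := van_two_unit gαβ hαβ0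
    rwa [hαβ1] at this
  have hs2 : Van 2 ((gs : MvPowerSeries Unit O) -
      (α + β) • (PowerSeries.X : PowerSeries O)) := by
    have := van_two_unit gs hs0
    rwa [hs1] at this
  constructor
  · obtain ⟨c0, c2, cLT⟩ := G_comp _ hf0 gα hα0 α hα2 hαLT (τ := Unit) gβ hβ0 hβLT
    refine LT_unique_O hπ (σ := Unit) _ _ c0 hαβ0 ?_ cLT hαβLT
    have := (c2.add (hβ2.smul α)).sub hαβ2
    convert this using 1
    rw [smul_sub, smul_smul]
    abel
  · obtain ⟨d0, d2, dLT⟩ := F_comp _ hf0 F.toPowerSeries hF0 hF2 hFLT (τ := Unit) gα gβ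
      hα0 hβ0 hαLT hβLT
    refine LT_unique_O hπ (σ := Unit) _ _ d0 hs0 ?_ dLT hsLT
    have := ((d2.add hα2).add hβ2).sub hs2
    convert this using 1
    rw [add_smul]
    abel

theorem main15052 (K : Type u) [Field K] [Algebra O K] [IsFractionRing O K]
    (π : O) (hπ : Irreducible π) (f : PowerSeries O)
    (hf : f = π • PowerSeries.X + PowerSeries.X ^ Nat.card (IsLocalRing.ResidueField O))
    (F : FormalGroup O)
    (hF : PowerSeries.subst F.toPowerSeries f =
        MvPowerSeries.subst (fun i : Fin 2 =>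
          PowerSeries.subst (MvPowerSeries.X i : MvPowerSeries (Fin 2) O) f) F.toPowerSeries) :
    ∃ ℓ : PowerSeries K, (ℓ.constantCoeff = 0 ∧ ℓ.coeff 1 = 1 ∧
      PowerSeries.subst (PowerSeries.map (algebraMap O K) f) ℓ = algebraMap O K π • ℓ) ∧
      (∀ ℓ' : PowerSeries K, ℓ'.constantCoeff = 0 → ℓ'.coeff 1 = 1 →
        PowerSeries.subst (PowerSeries.map (algebraMap O K) f) ℓ' = algebraMap O K π • ℓ' →
          ℓ' = ℓ) ∧
      PowerSeries.subst ((F.toPowerSeries).map (algebraMap O K)) ℓ =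
        PowerSeries.subst (MvPowerSeries.X (0 : Fin 2) : MvPowerSeries (Fin 2) K) ℓ +
          PowerSeries.subst (MvPowerSeries.X (1 : Fin 2) : MvPowerSeries (Fin 2) K) ℓ ∧
      (∀ (α : O) (g : PowerSeries O), g.constantCoeff = 0 → g.coeff 1 = α →
        PowerSeries.subst g f = PowerSeries.subst f g →
        PowerSeries.subst (PowerSeries.map (algebraMap O K) g) ℓ = algebraMap O K α • ℓ) := by
  subst hf
  have hq := two_le_qq (O := O)
  have hf0 := constantCoeff_f π (qq O) (by omega)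
  have hfK : PowerSeries.map (algebraMap O K) (π • PowerSeries.X + PowerSeries.X ^ qq O) =
      algebraMap O K π • PowerSeries.X + PowerSeries.X ^ qq O := by
    rw [map_add, map_pow, PowerSeries.map_X, PowerSeries.smul_eq_C_mul, map_mul,
      PowerSeries.map_C, PowerSeries.map_X, ← PowerSeries.smul_eq_C_mul]
  have hfK0 := constantCoeff_f (algebraMap O K π) (qq O) (by omega)
  have hc : ∀ r : ℕ, 2 ≤ r → algebraMap O K π - algebraMap O K π ^ r ≠ 0 := by
    intro r hr
    have := pi_sub_pow_ne_zero hπ r hr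
    rw [← map_pow, ← map_sub]
    exact (map_ne_zero_iff (algebraMap O K) (IsFractionRing.injective O K)).mpr this
  rw [hfK]
  obtain ⟨ℓ, hℓ0, hℓ2, hℓLG⟩ := LG_exists_K (algebraMap O K π) hc (σ := Unit) (qq O) hq
    (PowerSeries.X : PowerSeries K) (by show PowerSeries.constantCoeff _ = 0; simp)
  have hℓ1 : PowerSeries.coeff 1 ℓ = 1 := by
    have := ((van_two_iff ℓ _).mp hℓ2).2 ()
    calc PowerSeries.coeff 1 ℓ = PowerSeries.coeff 1 (PowerSeries.X : PowerSeries K) := this
      _ = 1 := PowerSeries.coeff_one_X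
  have hℓ2' : Van 2 ((ℓ : MvPowerSeries Unit K) -
      (1 : K) • (PowerSeries.X : PowerSeries K)) := by rwa [one_smul]
  have hLGunit : ∀ ℓ' : PowerSeries K,
      LG (algebraMap O K π • PowerSeries.X + PowerSeries.X ^ qq O) (algebraMap O K π) Unit ℓ' ↔
      PowerSeries.subst (algebraMap O K π • PowerSeries.X + PowerSeries.X ^ qq O) ℓ' =
        algebraMap O K π • ℓ' := by
    intro ℓ'
    unfold LG
    rw [fX_unit]
    rfl
  refine ⟨ℓ, ⟨hℓ0, hℓ1, (hLGunit ℓ).mp hℓLG⟩, ?_, ?_, ?_⟩
  · intro ℓ' h0' h1' hLG'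
    refine LG_unique_K (algebraMap O K π) hc (σ := Unit) (qq O) hq ℓ' ℓ h0' hℓ0 ?_
      ((hLGunit ℓ').mpr hLG') hℓLG
    rw [van_two_iff]
    refine ⟨by rw [show constantCoeff ℓ' = 0 from h0', hℓ0], fun i => ?_⟩
    show PowerSeries.coeff 1 ℓ' = PowerSeries.coeff 1 ℓ
    rw [h1', hℓ1]
  · have hFLT : LT (π • PowerSeries.X + PowerSeries.X ^ qq O) (Fin 2) F.toPowerSeries := hF
    have hFK := LT_map _ hf0 (algebraMap O K) F.toPowerSeries F.zero_constantCoeff hFLT
    rw [hfK] at hFK
    have hFK0 : constantCoeff (MvPowerSeries.map (algebraMap O K) F.toPowerSeries) = 0 := by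
      rw [constantCoeff_map, F.zero_constantCoeff, map_zero]
    have hFK2 : Van 2 (MvPowerSeries.map (algebraMap O K) F.toPowerSeries - (X 0 + X 1)) := by
      have := (FG_van2 F).map (algebraMap O K)
      rwa [map_sub, map_add, map_X, map_X] at this
    have lLG := LG_comp _ hfK0 (algebraMap O K π) ℓ hℓLG _ hFK0 hFK
    have l0 : constantCoeff
        (PowerSeries.subst (MvPowerSeries.map (algebraMap O K) F.toPowerSeries) ℓ) = 0 :=
      PowerSeries.constantCoeff_subst_eq_zero hFK0 ℓ hℓ0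
    have l2 := van_comp1 ℓ 1 hℓ2' (MvPowerSeries.map (algebraMap O K) F.toPowerSeries) hFK0
    have hXi := fun i : Fin 2 => LG_comp _ hfK0 (algebraMap O K π) ℓ hℓLG
      (X i : MvPowerSeries (Fin 2) K) (constantCoeff_X i) (LT_X _ hfK0 i)
    have x0 : ∀ i : Fin 2,
        constantCoeff (PowerSeries.subst (X i : MvPowerSeries (Fin 2) K) ℓ) = 0 :=
      fun i => PowerSeries.constantCoeff_subst_eq_zero (constantCoeff_X i) ℓ hℓ0
    have x2 := fun i : Fin 2 => van_comp1 ℓ 1 hℓ2' (X i : MvPowerSeries (Fin 2) K)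
      (constantCoeff_X i)
    have rLG : LG (algebraMap O K π • PowerSeries.X + PowerSeries.X ^ qq O) (algebraMap O K π)
        (Fin 2) (PowerSeries.subst (X 0 : MvPowerSeries (Fin 2) K) ℓ +
          PowerSeries.subst (X 1 : MvPowerSeries (Fin 2) K) ℓ) := by
      have h0 := hXi 0
      have h1 := hXi 1
      unfold LG at *
      rw [subst_add (hasSubst_fX _ hfK0), h0, h1, smul_add]
    refine LG_unique_K (algebraMap O K π) hc (σ := Fin 2) (qq O) hq _ _ l0
      (by rw [map_add, x0 0, x0 1, add_zero]) ?_ lLG rLG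
    have := ((l2.add (hFK2.smul 1)).sub ((x2 0).add (x2 1)))
    convert this using 1
    simp only [one_smul]
    abel
  · intro α g hg0 hg1 hgf
    have hgLT : LT (π • PowerSeries.X + PowerSeries.X ^ qq O) Unit g :=
      (LT_unit_iff _ g).mpr hgf
    have hgK := LT_map _ hf0 (algebraMap O K) (g : MvPowerSeries Unit O) hg0 hgLT
    rw [hfK] at hgK
    have hgK0 : constantCoeff (MvPowerSeries.map (algebraMap O K) (g : MvPowerSeries Unit O)) = 0 := by
      rw [constantCoeff_map, show constantCoeff (g : MvPowerSeries Unit O) = 0 from hg0, map_zero]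
    have hgK2 : Van 2 (MvPowerSeries.map (algebraMap O K) (g : MvPowerSeries Unit O) -
        algebraMap O K α • (PowerSeries.X : PowerSeries K)) := by
      have := (van_two_unit g hg0).map (algebraMap O K)
      rw [hg1, map_sub] at this
      have e : MvPowerSeries.map (algebraMap O K)
          ((α • (PowerSeries.X : PowerSeries O) : PowerSeries O) : MvPowerSeries Unit O) =
          algebraMap O K α • (PowerSeries.X : PowerSeries K) := by
        show PowerSeries.map (algebraMap O K) (α • PowerSeries.X) = _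
        rw [PowerSeries.smul_eq_C_mul, map_mul, PowerSeries.map_C, PowerSeries.map_X,
          ← PowerSeries.smul_eq_C_mul]
      rwa [e] at this
    have lLG := LG_comp _ hfK0 (algebraMap O K π) ℓ hℓLG _ hgK0 hgK
    have l0 := PowerSeries.constantCoeff_subst_eq_zero hgK0 ℓ hℓ0
    have l2 := van_comp1 ℓ 1 hℓ2' _ hgK0
    have rLG : LG (algebraMap O K π • PowerSeries.X + PowerSeries.X ^ qq O) (algebraMap O K π)
        Unit (algebraMap O K α • ℓ) := by
      unfold LG at *
      rw [subst_smul (hasSubst_fX _ hfK0), hℓLG, smul_comm]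
    have r0 : constantCoeff (algebraMap O K α • ℓ : MvPowerSeries Unit K) = 0 := by
      rw [smul_eq_C_mul, map_mul, hℓ0, mul_zero]
    refine LG_unique_K (algebraMap O K π) hc (σ := Unit) (qq O) hq _ _ l0 r0 ?_ lLG rLG
    have := (l2.add hgK2).sub (hℓ2.smul (algebraMap O K α))
    show Van 2 (PowerSeries.subst (MvPowerSeries.map (algebraMap O K) (g : MvPowerSeries Unit O)) ℓ -
      algebraMap O K α • ℓ)
    convert this using 1
    rw [one_smul, smul_sub]
    abel

end Main

end Groth.Agent.Lib.LubinTateH1
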