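import Mathlib
import Groth.Agent.Lib.LubinTate_helper1

set_option autoImplicit false
set_option maxHeartbeats 1000000

universe u v w

open MvPowerSeries Finsupp

namespace Groth.Agent.Lib.FGInvH1

open Groth.Agent.Lib.LubinTateH1

section Cong

variable {τ : Type w} {R : Type u} [CommRing R]

/-- `P` and `P'` both vanish to order `k` and agree to order `n + k`. -/
def Cong (n k : ℕ) (P P' : MvPowerSeries τ R) : Prop :=
  Van k P ∧ Van k P' ∧ Van (n + k) (P - P')

lemma Cong.one (n : ℕ) : Cong n 0 (1 : MvPowerSeries τ R) 1 :=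
  ⟨van_zero_left _, van_zero_left _, by rw [sub_self]; exact van_zero _⟩

lemma Cong.mul {n k l : ℕ} {P P' Q Q' : MvPowerSeries τ R} (h1 : Cong n k P P')
    (h2 : Cong n l Q Q') : Cong n (k + l) (P * Q) (P' * Q') := by
  refine ⟨h1.1.mul h2.1, h1.2.1.mul h2.2.1, ?_⟩
  have e : P * Q - P' * Q' = (P - P') * Q + P' * (Q - Q') := by ring
  rw [e]
  refine Van.add ?_ ?_
  · have := h1.2.2.mul h2.1
    exact this.mono (by omega)
  · have := h1.2.1.mul h2.2.2
    exact this.mono (by omega)

lemma Cong.pow {n k : ℕ} {P P' : MvPowerSeries τ R} (h : Cong n k P P') (m : ℕ) :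
    Cong n (m * k) (P ^ m) (P' ^ m) := by
  induction m with
  | zero => simpa using Cong.one (τ := τ) (R := R) n
  | succ m ih =>
    rw [pow_succ, pow_succ, Nat.succ_mul]
    exact ih.mul h

lemma Cong.prod {n : ℕ} {ι : Type*} (S : Finset ι) (k : ι → ℕ) (P P' : ι → MvPowerSeries τ R)
    (h : ∀ i ∈ S, Cong n (k i) (P i) (P' i)) :
    Cong n (∑ i ∈ S, k i) (∏ i ∈ S, P i) (∏ i ∈ S, P' i) := by
  classical
  induction S using Finset.induction_on with
  | empty => simpa using Cong.one (τ := τ) (R := R) n
  | insert i S hi ih =>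
    rw [Finset.sum_insert hi, Finset.prod_insert hi, Finset.prod_insert hi]
    exact (h i (Finset.mem_insert_self i S)).mul
      (ih fun j hj => h j (Finset.mem_insert_of_mem hj))

variable {σ : Type v}

lemma cong_finsupp_prod {n : ℕ} (a a' : σ → MvPowerSeries τ R)
    (ha : ∀ i, constantCoeff (a i) = 0) (ha' : ∀ i, constantCoeff (a' i) = 0)
    (h : ∀ i, Van (n + 1) (a i - a' i)) (d : σ →₀ ℕ) :
    Cong n d.degree (d.prod fun s e => a s ^ e) (d.prod fun s e => a' s ^ e) := by
  have h1 : ∀ i, Cong n 1 (a i) (a' i) := fun i =>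
    ⟨van_one_iff.mpr (ha i), van_one_iff.mpr (ha' i), h i⟩
  have := Cong.prod d.support (fun s => d s * 1) (fun s => a s ^ d s) (fun s => a' s ^ d s)
    (fun s _ => (h1 s).pow (d s))
  have e : ∑ s ∈ d.support, d s * 1 = d.degree := by
    rw [Finsupp.degree_apply]
    simp
  rw [e] at this
  exact this

/-- Substituting congruent families into a series vanishing to order `r` gives series congruent
to higher order. -/
theorem subst_congr_van [Finite σ] {n r : ℕ} (Φ : MvPowerSeries σ R) (hΦ : Van r Φ)
    (a a' : σ → MvPowerSeries τ R)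
    (ha : ∀ i, constantCoeff (a i) = 0) (ha' : ∀ i, constantCoeff (a' i) = 0)
    (h : ∀ i, Van (n + 1) (a i - a' i)) :
    Van (n + r) (MvPowerSeries.subst a Φ - MvPowerSeries.subst a' Φ) := by
  intro e he
  have hs : HasSubst a := hasSubst_of_constantCoeff_zero ha
  have hs' : HasSubst a' := hasSubst_of_constantCoeff_zero ha'
  rw [map_sub, sub_eq_zero, coeff_subst hs, coeff_subst hs']
  refine finsum_congr fun d => ?_
  by_cases hd : d.degree < r
  · rw [hΦ d hd, zero_smul, zero_smul]
  · congr 1
    have := (cong_finsupp_prod a a' ha ha' h d).2.2 e (by omega)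
    rwa [map_sub, sub_eq_zero] at this

end Cong

section Contraction

variable {τ : Type w} {R : Type u} [CommRing R]

/-- fixed points of contracting self-maps of the augmentation ideal of a power series ring. -/
theorem exists_fixed (T : MvPowerSeries τ R → MvPowerSeries τ R)
    (hT0 : ∀ g, constantCoeff g = 0 → constantCoeff (T g) = 0)
    (hT : ∀ n g g', constantCoeff g = 0 → constantCoeff g' = 0 → Van (n + 1) (g - g') →
      Van (n + 2) (T g - T g')) :
    ∃ g, constantCoeff g = 0 ∧ T g = g := by
  obtain ⟨s, hsdef⟩ : ∃ s : ℕ → MvPowerSeries τ R, s = fun m => T^[m] 0 := ⟨_, rfl⟩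
  have hsz : s 0 = 0 := by rw [hsdef]; rfl
  have hsucc : ∀ m, s (m + 1) = T (s m) := fun m => by
    rw [hsdef]; exact Function.iterate_succ_apply' T m 0
  have hs0 : ∀ m, constantCoeff (s m) = 0 := by
    intro m
    induction m with
    | zero => rw [hsz, map_zero]
    | succ m ih =>
      rw [hsucc]
      exact hT0 _ ih
  have hstep : ∀ m, Van (m + 1) (s (m + 1) - s m) := by
    intro m
    induction m with
    | zero =>
      rw [van_one_iff, map_sub, hs0, hs0, sub_zero]
    | succ m ih =>
      have := hT m _ _ (hs0 (m+1)) (hs0 m) ih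
      rwa [← hsucc (m+1), ← hsucc m] at this
  have hle : ∀ m m', m ≤ m' → Van (m + 1) (s m' - s m) := by
    intro m m' hmm
    induction m', hmm using Nat.le_induction with
    | base => rw [sub_self]; exact van_zero _
    | succ m' hmm ih =>
      have e : s (m' + 1) - s m = (s (m' + 1) - s m') + (s m' - s m) := by ring
      rw [e]
      exact ((hstep m').mono (by omega)).add ih
  obtain ⟨g, hg⟩ : ∃ g : MvPowerSeries τ R, ∀ d, coeff d g = coeff d (s d.degree) :=
    ⟨fun d => coeff d (s d.degree), fun d => rfl⟩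
  have hgm : ∀ m, Van (m + 1) (g - s m) := by
    intro m d hd
    rw [map_sub, hg, ← map_sub]
    have := (hle d.degree m (by omega)).neg
    rw [neg_sub] at this
    exact this d (by omega)
  have hg0 : constantCoeff g = 0 := by
    rw [← coeff_zero_eq_constantCoeff_apply, hg, map_zero, hsz, map_zero]
  refine ⟨g, hg0, ?_⟩
  rw [← sub_eq_zero]
  apply eq_zero_of_forall_van
  intro n
  have e : T g - g = (T g - T (s n)) + (s (n + 1) - g) := by rw [hsucc]; ring
  rw [e]
  have h1 : Van (n + 2) (T g - T (s n)) := hT n _ _ hg0 (hs0 n) (hgm n)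
  have h2 : Van (n + 2) (s (n + 1) - g) := by
    have := (hgm (n + 1)).neg
    rwa [neg_sub] at this
  exact (h1.add h2).mono (by omega)

end Contraction

section Main

variable {R : Type u} [CommRing R]

lemma exists_inv_aux (F : FormalGroup R)
    (mk : MvPowerSeries Unit R → Fin 2 → MvPowerSeries Unit R)
    (hsum : ∀ g, mk g 0 + mk g 1 = (PowerSeries.X : PowerSeries R) + g)
    (hdiff : ∀ g g' j, mk g j - mk g' j = 0 ∨ mk g j - mk g' j = g - g')
    (hcc : ∀ g, constantCoeff g = 0 → ∀ j, constantCoeff (mk g j) = 0) :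
    ∃ g : MvPowerSeries Unit R, constantCoeff g = 0 ∧
      MvPowerSeries.subst (mk g) F.toPowerSeries = (0 : MvPowerSeries Unit R) := by
  obtain ⟨H, hH⟩ : ∃ H : MvPowerSeries (Fin 2) R, H = F.toPowerSeries - (X 0 + X 1) := ⟨_, rfl⟩
  have hH2 : Van 2 H := hH ▸ FG_van2 F
  obtain ⟨T, hTdef⟩ : ∃ T : MvPowerSeries Unit R → MvPowerSeries Unit R,
      ∀ g, T g = -(PowerSeries.X : PowerSeries R) - MvPowerSeries.subst (mk g) H := ⟨_, fun _ => rfl⟩
  have hX0 : constantCoeff (PowerSeries.X : PowerSeries R) = 0 := PowerSeries.constantCoeff_X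
  have hT0 : ∀ g, constantCoeff g = 0 → constantCoeff (T g) = 0 := by
    intro g hg
    have h1 : Van 1 (MvPowerSeries.subst (mk g) H) :=
      (hH2.mono (by norm_num)).subst (hcc g hg)
    rw [van_one_iff] at h1
    rw [hTdef, map_sub, map_neg, h1, hX0, neg_zero, sub_zero]
  have hT : ∀ n g g', constantCoeff g = 0 → constantCoeff g' = 0 → Van (n + 1) (g - g') →
      Van (n + 2) (T g - T g') := by
    intro n g g' hg hg' hgg
    have := subst_congr_van (n := n) (r := 2) H hH2 (mk g) (mk g') (hcc g hg) (hcc g' hg')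
      (fun j => by
        rcases hdiff g g' j with h | h
        · rw [h]; exact van_zero _
        · rw [h]; exact hgg)
    have e : T g - T g' = -(MvPowerSeries.subst (mk g) H - MvPowerSeries.subst (mk g') H) := by
      rw [hTdef, hTdef]
      ring
    rw [e]
    exact this.neg
  obtain ⟨g, hg0, hfix⟩ := exists_fixed T hT0 hT
  refine ⟨g, hg0, ?_⟩
  have hs : HasSubst (mk g) := hasSubst_of_constantCoeff_zero (hcc g hg0)
  have e1 : MvPowerSeries.subst (mk g) H =
      MvPowerSeries.subst (mk g) F.toPowerSeries - ((PowerSeries.X : PowerSeries R) + g) := by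
    rw [hH, subst_sub hs, subst_add hs, subst_X hs, subst_X hs, hsum]
  rw [hTdef, e1] at hfix
  linear_combination (-1 : MvPowerSeries Unit R) * hfix

theorem main15058 (R : Type u) [CommRing R] (F : FormalGroup R) :
    ∃ g : PowerSeries R, g.constantCoeff = 0 ∧
      F.toPowerSeries.subst ![PowerSeries.X, g] = (0 : PowerSeries R) ∧
      F.toPowerSeries.subst ![g, PowerSeries.X] = (0 : PowerSeries R) ∧
      ∀ k : PowerSeries R, k.constantCoeff = 0 →
        (F.toPowerSeries.subst ![PowerSeries.X, k] = (0 : PowerSeries R) ∨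
          F.toPowerSeries.subst ![k, PowerSeries.X] = (0 : PowerSeries R)) → k = g := by
  have hX0 : constantCoeff (PowerSeries.X : PowerSeries R) = 0 := PowerSeries.constantCoeff_X
  obtain ⟨g, hg0, hg⟩ := exists_inv_aux F (fun g => ![(PowerSeries.X : PowerSeries R), g])
    (by intro g; simp)
    (by
      intro g g' j
      fin_cases j
      · left; simp
      · right; simp)
    (by
      intro g hg j
      fin_cases j
      · simpa using hX0
      · simpa using hg)
  obtain ⟨h, hh0, hh⟩ := exists_inv_aux F (fun g => ![g, (PowerSeries.X : PowerSeries R)])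
    (by intro g; simp [add_comm])
    (by
      intro g g' j
      fin_cases j
      · right; simp
      · left; simp)
    (by
      intro g hg j
      fin_cases j
      · simpa using hg
      · simpa using hX0)
  have hsX : PowerSeries.HasSubst (PowerSeries.X : PowerSeries R) :=
    PowerSeries.HasSubst.of_constantCoeff_zero hX0
  have hsg : PowerSeries.HasSubst g := PowerSeries.HasSubst.of_constantCoeff_zero hg0
  have hsh : PowerSeries.HasSubst h := PowerSeries.HasSubst.of_constantCoeff_zero hh0
  let x : F.Point Unit := ⟨(PowerSeries.X : PowerSeries R), hsX⟩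
  let gg : F.Point Unit := ⟨g, hsg⟩
  let hhp : F.Point Unit := ⟨h, hsh⟩
  have hxg : x + gg = 0 := Subtype.ext hg
  have hhx : hhp + x = 0 := Subtype.ext hh
  have hhg : hhp = gg := by
    calc hhp = hhp + (x + gg) := by rw [hxg, add_zero]
      _ = (hhp + x) + gg := (add_assoc _ _ _).symm
      _ = gg := by rw [hhx, zero_add]
  have hgx : gg + x = 0 := hhg ▸ hhx
  refine ⟨g, hg0, hg, congrArg Subtype.val hgx, ?_⟩
  intro k hk0 hk
  have hsk : PowerSeries.HasSubst k := PowerSeries.HasSubst.of_constantCoeff_zero hk0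
  let kk : F.Point Unit := ⟨k, hsk⟩
  have : kk = gg := by
    rcases hk with hk | hk
    · have hxk : x + kk = 0 := Subtype.ext hk
      calc kk = (gg + x) + kk := by rw [hgx, zero_add]
        _ = gg + (x + kk) := add_assoc _ _ _
        _ = gg := by rw [hxk, add_zero]
    · have hkx : kk + x = 0 := Subtype.ext hk
      calc kk = kk + (x + gg) := by rw [hxg, add_zero]
        _ = (kk + x) + gg := (add_assoc _ _ _).symm
        _ = gg := by rw [hkx, zero_add]
  exact congrArg Subtype.val this

end Main

end Groth.Agent.Lib.FGInvH1
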