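import Mathlib
import Groth.Prelude.Def_PolLaw2
import Groth.Agent.Lib.CHMore_helper1

/-!
# Relative Cayley–Hamilton for multiplicative laws (helper1)

For `β ∈ R ⊗ B` the element `χ_β(β)` lies in the extension of `ker F` to `R ⊗ B`.
-/

set_option autoImplicit false
universe u
open scoped TensorProduct
open Module Polynomial

namespace Groth.Agent.Lib.RelCHH1

open Groth.Agent.Lib.GammaSpanH1 Groth.Agent.Lib.FreeCoefH1 Groth.Agent.Lib.FreeFactH1
  Groth.Agent.Lib.PolLawKerH1 Groth.Agent.Lib.PolLawSurjH1 Groth.Agent.Lib.PolLawLimH1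
  Groth.Agent.Lib.CHIdealH1

variable {A : Type u} [CommRing A]

theorem ev_mul_const' {S : Type u} [CommRing S] [Algebra A S] {C : Type u} [CommRing C]
    [Algebra A C] (ℓ : S →ₗ[A] A) (W : S ⊗[A] C) (x : C) :
    ev C ℓ W * x = ev C ℓ (W * ((1 : S) ⊗ₜ[A] x)) := by
  induction W using TensorProduct.induction_on with
  | zero => simp
  | tmul s t => simp [Algebra.TensorProduct.tmul_mul_tmul]
  | add a b ha hb => simp only [map_add, add_mul, ha, hb]

section free

variable {d : ℕ} {P : Type u} [CommRing P] [Algebra A P] (f : WW A P d →ₐ[A] A)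

variable (A d P) in
/-- `w ⊗ p ↦ w * p^{(k)}` -/
noncomputable def E0 (k : Fin d) : (WW A P d) ⊗[A] P →ₐ[A] (⨂[A] _ : Fin d, P) :=
  Algebra.TensorProduct.productMap (WW A P d).val
    (PiTensorProduct.singleAlgHom (R := A) (A := fun _ : Fin d => P) k)

theorem E0_tmul (k : Fin d) (w : WW A P d) (p : P) :
    E0 A d P k (w ⊗ₜ[A] p) = (w : ⨂[A] _ : Fin d, P) *
      PiTensorProduct.singleAlgHom (R := A) (A := fun _ : Fin d => P) k p := rfl

/-- `w ⊗ p ↦ f w • p` -/
noncomputable def fP : (WW A P d) ⊗[A] P →ₐ[A] P :=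
  Algebra.TensorProduct.productMap ((Algebra.ofId A P).comp f) (AlgHom.id A P)

theorem fP_tmul (w : WW A P d) (p : P) : fP f (w ⊗ₜ[A] p) = f w • p := by
  rw [fP, Algebra.TensorProduct.productMap_apply_tmul, AlgHom.comp_apply, AlgHom.id_apply,
    Algebra.ofId_apply, Algebra.smul_def]

variable (G : PolLaw.MulLaw A P A d)
  (hf : PolLaw.postcomp f.toLinearMap (tauW A P d).law = G.law)

include hf

theorem mem_ker_of_E0 (ζ : (WW A P d) ⊗[A] P) (hζ : ∀ k, E0 A d P k ζ = 0) :
    fP f ζ ∈ PolLaw.ker G.law := by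
  apply mem_ker_of_mvPolynomial
  intro n x w
  obtain ⟨ιL, hιL⟩ : ∃ ιL : MvPolynomial (Fin n) A →ₐ[A] MvPolynomial (Fin n) A ⊗[A] (WW A P d),
    ιL = Algebra.TensorProduct.includeLeft := ⟨_, rfl⟩
  obtain ⟨ιR, hιR⟩ : ∃ ιR : WW A P d →ₐ[A] MvPolynomial (Fin n) A ⊗[A] (WW A P d),
    ιR = Algebra.TensorProduct.includeRight := ⟨_, rfl⟩
  have h1' : ∀ ζ' : (WW A P d) ⊗[A] P,
      Algebra.TensorProduct.map (psi (MvPolynomial (Fin n) A) f) (AlgHom.id A P)
        (Algebra.TensorProduct.map ιR (AlgHom.id A P) ζ') =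
      (1 : MvPolynomial (Fin n) A) ⊗ₜ[A] fP f ζ' := by
    intro ζ'
    induction ζ' using TensorProduct.induction_on with
    | zero => simp
    | tmul w p =>
      rw [Algebra.TensorProduct.map_tmul, Algebra.TensorProduct.map_tmul, hιR,
        Algebra.TensorProduct.includeRight_apply, psi_tmul, one_mul, fP_tmul, AlgHom.id_apply,
        AlgHom.id_apply, Algebra.algebraMap_eq_smul_one, TensorProduct.smul_tmul]
    | add a b ha hb => simp only [map_add, TensorProduct.tmul_add, ha, hb]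
  have h3' : ∀ (k : Fin d) (ζ' : (WW A P d) ⊗[A] P), EE A d P (MvPolynomial (Fin n) A) k
      (Algebra.TensorProduct.map (jj A d P (MvPolynomial (Fin n) A)) (AlgHom.id A P)
        (Algebra.TensorProduct.map ιR (AlgHom.id A P) ζ')) =
      (1 : MvPolynomial (Fin n) A) ⊗ₜ[A] E0 A d P k ζ' := by
    intro k ζ'
    induction ζ' using TensorProduct.induction_on with
    | zero => simp
    | tmul w p =>
      rw [Algebra.TensorProduct.map_tmul, Algebra.TensorProduct.map_tmul, hιR,
        Algebra.TensorProduct.includeRight_apply, E0_tmul, EE, mulHom_tmul, AlgHom.comp_apply,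
        Algebra.TensorProduct.includeRight_apply, AlgHom.id_apply, AlgHom.id_apply]
      show ((1 : MvPolynomial (Fin n) A) ⊗ₜ[A] (w : ⨂[A] _ : Fin d, P)) * _ = _
      rw [Algebra.TensorProduct.tmul_mul_tmul, one_mul]
    | add a b ha hb => simp only [map_add, TensorProduct.tmul_add, ha, hb]
  obtain ⟨ζ2, hζ2⟩ : ∃ ζ2, ζ2 = Algebra.TensorProduct.map ιR (AlgHom.id A P) ζ := ⟨_, rfl⟩
  have h1 : Algebra.TensorProduct.map (psi (MvPolynomial (Fin n) A) f) (AlgHom.id A P) ζ2 =
      (1 : MvPolynomial (Fin n) A) ⊗ₜ[A] fP f ζ := by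
    rw [hζ2, h1']
  have h2 : ∀ k, EE A d P (MvPolynomial (Fin n) A) k
      (Algebra.TensorProduct.map (jj A d P (MvPolynomial (Fin n) A)) (AlgHom.id A P) ζ2) = 0 := by
    intro k
    rw [hζ2, h3', hζ k, TensorProduct.tmul_zero]
  have hψι : (psi (MvPolynomial (Fin n) A) f).comp ιL = AlgHom.id A (MvPolynomial (Fin n) A) := by
    apply AlgHom.ext
    intro s
    rw [AlgHom.comp_apply, hιL, Algebra.TensorProduct.includeLeft_apply, psi_tmul, map_one,
      map_one, mul_one]
    rfl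
  have hx : ∀ y : MvPolynomial (Fin n) A ⊗[A] P,
      Algebra.TensorProduct.map (psi (MvPolynomial (Fin n) A) f) (AlgHom.id A P)
        (Algebra.TensorProduct.map ιL (AlgHom.id A P) y) = y := by
    intro y
    rw [map_map_left, hψι, Algebra.TensorProduct.map_id]
    rfl
  rw [← h1]
  have h4 : x + w * Algebra.TensorProduct.map (psi (MvPolynomial (Fin n) A) f) (AlgHom.id A P) ζ2 =
      Algebra.TensorProduct.map (psi (MvPolynomial (Fin n) A) f) (AlgHom.id A P)
        (Algebra.TensorProduct.map ιL (AlgHom.id A P) x +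
          Algebra.TensorProduct.map ιL (AlgHom.id A P) w * ζ2) := by
    rw [map_add, map_mul, hx, hx]
  rw [h4]
  conv_rhs => rw [← hx x]
  apply G_eq_of_EE_eq (MvPolynomial (Fin n) A) f G hf
  intro k
  rw [map_add, map_mul, map_add, map_mul, h2 k, mul_zero, add_zero]

omit hf

variable (R : Type u) [CommRing R] [Algebra A R] (β : R ⊗[A] P)

/-- evaluation of polynomials at `β` -/
noncomputable def evB : R[X] →ₐ[A] R ⊗[A] P :=
  (Polynomial.aeval β : R[X] →ₐ[R] R ⊗[A] P).restrictScalars A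

theorem evB_apply (u : R[X]) : evB R β u = Polynomial.aeval β u := rfl

/-- the generic element `β - X` -/
noncomputable def bX : R[X] ⊗[A] P :=
  Algebra.TensorProduct.map (Polynomial.CAlgHom : R →ₐ[A] R[X]) (AlgHom.id A P) β -
    (X : R[X]) ⊗ₜ[A] (1 : P)

variable (P d) in
/-- `(r ⊗ p) ⊗ w ↦ ℓ r • (w ⊗ p)` -/
noncomputable def Ll (ℓ : R →ₗ[A] A) :
    (R ⊗[A] P) ⊗[A] (WW A P d) →ₗ[A] (WW A P d) ⊗[A] P :=
  (TensorProduct.comm A P (WW A P d)).toLinearMap ∘ₗ (ev P ℓ).rTensor (WW A P d)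

theorem Ll_tmul (ℓ : R →ₗ[A] A) (z : R ⊗[A] P) (w : WW A P d) :
    Ll d P R ℓ (z ⊗ₜ[A] w) = w ⊗ₜ[A] ev P ℓ z := by
  simp [Ll]

variable (d) in
/-- the universal element map -/
noncomputable def Xi : R[X] ⊗[A] (WW A P d) →ₐ[A] (R ⊗[A] P) ⊗[A] (WW A P d) :=
  Algebra.TensorProduct.map (evB R β) (AlgHom.id A (WW A P d))

theorem fP_L_Xi (ℓ : R →ₗ[A] A) (ω' : R[X] ⊗[A] (WW A P d)) :
    fP f (Ll d P R ℓ (Xi d R β ω')) =
      ev P ℓ (evB R β (TensorProduct.rid A R[X] (f.toLinearMap.lTensor R[X] ω'))) := by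
  induction ω' using TensorProduct.induction_on with
  | zero => simp
  | tmul u w =>
    rw [Xi, Algebra.TensorProduct.map_tmul, AlgHom.id_apply, Ll_tmul, fP_tmul,
      LinearMap.lTensor_tmul, TensorProduct.rid_tmul, AlgHom.toLinearMap_apply, map_smul,
      map_smul]
  | add a b ha hb => simp only [map_add, ha, hb]

variable (A d P) in
/-- the `k`-th inclusion, base changed to `R` -/
noncomputable def iR (k : Fin d) : R ⊗[A] P →ₐ[R] R ⊗[A] (⨂[A] _ : Fin d, P) :=
  Algebra.TensorProduct.map (AlgHom.id R R)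
    (PiTensorProduct.singleAlgHom (R := A) (A := fun _ : Fin d => P) k)

/-- evaluation at the `k`-th copy of `β` -/
noncomputable def thR (k : Fin d) :
    R[X] ⊗[A] (⨂[A] _ : Fin d, P) →ₐ[A] R ⊗[A] (⨂[A] _ : Fin d, P) :=
  Algebra.TensorProduct.productMap
    ((Polynomial.aeval (iR A d P R k β) : R[X] →ₐ[R] R ⊗[A] (⨂[A] _ : Fin d, P)).restrictScalars A)
    (Algebra.TensorProduct.includeRight :
      (⨂[A] _ : Fin d, P) →ₐ[A] R ⊗[A] (⨂[A] _ : Fin d, P))

theorem thR_tmul (k : Fin d) (u : R[X]) (x : ⨂[A] _ : Fin d, P) :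
    thR R β k (u ⊗ₜ[A] x) = Polynomial.aeval (iR A d P R k β) u * ((1 : R) ⊗ₜ[A] x) := rfl

theorem E0_L_Xi (ℓ : R →ₗ[A] A) (k : Fin d) (ω' : R[X] ⊗[A] (WW A P d)) :
    E0 A d P k (Ll d P R ℓ (Xi d R β ω')) =
      ev (⨂[A] _ : Fin d, P) ℓ (thR R β k ((WW A P d).val.toLinearMap.lTensor R[X] ω')) := by
  induction ω' using TensorProduct.induction_on with
  | zero => simp
  | tmul u w =>
    rw [Xi, Algebra.TensorProduct.map_tmul, AlgHom.id_apply, Ll_tmul, E0_tmul,
      LinearMap.lTensor_tmul, thR_tmul, ← ev_mul_const', mul_comm]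
    congr 1
    rw [Polynomial.aeval_algHom_apply, iR, ← PolLaw.lTensor_algHom_apply, ev_lTensor]
    rfl
  | add a b ha hb => simp only [map_add, ha, hb]

theorem thR_tpow (k : Fin d) :
    thR R β k ((SymTen.tpowLaw A P d).law.toFun' R[X] (bX R β)) = 0 := by
  show thR R β k (∏ j, Algebra.TensorProduct.map (AlgHom.id R[X] R[X])
    (PiTensorProduct.singleAlgHom (R := A) (A := fun _ : Fin d => P) j) (bX R β)) = 0
  rw [map_prod]
  apply Finset.prod_eq_zero (Finset.mem_univ k)
  have h : ∀ z : R ⊗[A] P, thR R β k (Algebra.TensorProduct.map (AlgHom.id R[X] R[X])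
      (PiTensorProduct.singleAlgHom (R := A) (A := fun _ : Fin d => P) k)
        (Algebra.TensorProduct.map (Polynomial.CAlgHom : R →ₐ[A] R[X]) (AlgHom.id A P) z)) =
      iR A d P R k z := by
    intro z
    induction z using TensorProduct.induction_on with
    | zero => simp
    | tmul r p =>
      rw [Algebra.TensorProduct.map_tmul, Algebra.TensorProduct.map_tmul, thR_tmul, iR,
        Algebra.TensorProduct.map_tmul]
      simp only [AlgHom.id_apply, Polynomial.CAlgHom_apply, Polynomial.aeval_C,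
        Algebra.TensorProduct.algebraMap_apply, Algebra.TensorProduct.tmul_mul_tmul, mul_one,
        one_mul, Algebra.algebraMap_self, RingHom.id_apply]
    | add a b ha hb => simp only [map_add, ha, hb]
  rw [bX, map_sub, map_sub, h, Algebra.TensorProduct.map_tmul, thR_tmul]
  simp only [AlgHom.id_apply, map_one, Polynomial.aeval_X]
  rw [← Algebra.TensorProduct.one_def, mul_one, sub_self]

include hf

/-- relative Cayley–Hamilton on a free algebra, coefficientwise -/
theorem rel_ch_coeff (ℓ : R →ₗ[A] A) :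
    ev P ℓ (Polynomial.aeval β (TensorProduct.rid A R[X] (G.law.toFun' R[X] (bX R β)))) ∈
      PolLaw.ker G.law := by
  obtain ⟨ω, hω⟩ : ∃ ω, ω = (tauW A P d).law.toFun' R[X] (bX R β) := ⟨_, rfl⟩
  have hχ : G.law.toFun' R[X] (bX R β) = f.toLinearMap.lTensor R[X] ω := by
    rw [hω, ← hf]
    rfl
  rw [hχ, ← evB_apply, ← fP_L_Xi]
  apply mem_ker_of_E0 f G hf
  intro k
  rw [E0_L_Xi, hω, val_tauW, thR_tpow, map_zero]

omit hf

end free


section general

variable {d : ℕ} {B : Type u} [CommRing B] [Algebra A B]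

/-- the element `χ_β(β)` of `R ⊗ B` -/
noncomputable def cF (F : PolLaw.MulLaw A B A d) (R : Type u) [CommRing R] [Algebra A R]
    (β : R ⊗[A] B) : R ⊗[A] B :=
  Polynomial.aeval β (TensorProduct.rid A R[X] (F.law.toFun' R[X] (bX R β)))

theorem rel_ch_mv {I : Type u} {P : Type u} [CommRing P] [Algebra A P] (e : Basis I A P)
    (G : PolLaw.MulLaw A P A d) (n : ℕ) (β : MvPolynomial (Fin n) A ⊗[A] P) :
    cF G (MvPolynomial (Fin n) A) β ∈ (PolLaw.ker G.law).map
      (Algebra.TensorProduct.includeRight : P →ₐ[A] MvPolynomial (Fin n) A ⊗[A] P) := by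
  obtain ⟨f, hf⟩ := exists_factor e G
  obtain ⟨s₀, hs₀⟩ := exists_decomp P (cF G (MvPolynomial (Fin n) A) β)
  rw [hs₀ s₀ subset_rfl]
  refine Ideal.sum_mem _ fun m _ => ?_
  have h1 : (MvPolynomial.monomial m (1 : A)) ⊗ₜ[A]
      ev P (MvPolynomial.lcoeff A m) (cF G (MvPolynomial (Fin n) A) β) =
      ((MvPolynomial.monomial m (1 : A)) ⊗ₜ[A] (1 : P)) *
        (Algebra.TensorProduct.includeRight : P →ₐ[A] MvPolynomial (Fin n) A ⊗[A] P)
          (ev P (MvPolynomial.lcoeff A m) (cF G (MvPolynomial (Fin n) A) β)) := by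
    rw [Algebra.TensorProduct.includeRight_apply, Algebra.TensorProduct.tmul_mul_tmul, mul_one,
      one_mul]
  rw [h1]
  exact Ideal.mul_mem_left _ _ (Ideal.mem_map_of_mem _
    (rel_ch_coeff f G hf (MvPolynomial (Fin n) A) β (MvPolynomial.lcoeff A m)))

/-- naturality of `bX` in the algebra -/
theorem map_bX {P : Type u} [CommRing P] [Algebra A P] (π : P →ₐ[A] B) (R : Type u) [CommRing R]
    [Algebra A R] (β : R ⊗[A] P) :
    Algebra.TensorProduct.map (AlgHom.id R[X] R[X]) π (bX R β) =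
      bX R (Algebra.TensorProduct.map (AlgHom.id R R) π β) := by
  have h : ∀ z : R ⊗[A] P, Algebra.TensorProduct.map (AlgHom.id R[X] R[X]) π
      (Algebra.TensorProduct.map (Polynomial.CAlgHom : R →ₐ[A] R[X]) (AlgHom.id A P) z) =
      Algebra.TensorProduct.map (Polynomial.CAlgHom : R →ₐ[A] R[X]) (AlgHom.id A B)
        (Algebra.TensorProduct.map (AlgHom.id R R) π z) := by
    intro z
    induction z using TensorProduct.induction_on with
    | zero => simp
    | tmul r p => rfl
    | add a b ha hb => simp only [map_add, ha, hb]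
  rw [bX, bX, map_sub, h, Algebra.TensorProduct.map_tmul, map_one]
  rfl

theorem map_ker_precomp_le {P : Type u} [CommRing P] [Algebra A P] (F : PolLaw.MulLaw A B A d)
    (π : P →ₐ[A] B) (hπ : Function.Surjective π) {p : P}
    (hp : p ∈ PolLaw.ker (F.precomp π).law) : π p ∈ PolLaw.ker F.law := by
  apply mem_ker_of_mvPolynomial
  intro n x w
  have hs : Function.Surjective (π.toLinearMap.lTensor (MvPolynomial (Fin n) A)) :=
    LinearMap.lTensor_surjective _ hπ
  obtain ⟨x', rfl⟩ := hs x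
  obtain ⟨w', rfl⟩ := hs w
  have key := (mem_ker_iff (F.precomp π).law _).1 hp (MvPolynomial (Fin n) A) x' w'
  rw [precomp_toFun', precomp_toFun', map_add, map_mul, Algebra.TensorProduct.map_tmul,
    map_one] at key
  rw [PolLaw.lTensor_algHom_apply, PolLaw.lTensor_algHom_apply]
  exact key

theorem rel_ch_mvB (F : PolLaw.MulLaw A B A d) (n : ℕ) (β : MvPolynomial (Fin n) A ⊗[A] B) :
    cF F (MvPolynomial (Fin n) A) β ∈ (PolLaw.ker F.law).map
      (Algebra.TensorProduct.includeRight : B →ₐ[A] MvPolynomial (Fin n) A ⊗[A] B) := by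
  obtain ⟨π, hπ⟩ : ∃ π : MvPolynomial B A →ₐ[A] B, π = MvPolynomial.aeval id := ⟨_, rfl⟩
  have hπX : ∀ b : B, π (MvPolynomial.X b) = b := by
    intro b
    rw [hπ, MvPolynomial.aeval_X]
    rfl
  have hsurj : Function.Surjective π := fun b => ⟨MvPolynomial.X b, hπX b⟩
  obtain ⟨G, hG⟩ : ∃ G : PolLaw.MulLaw A (MvPolynomial B A) A d, G = F.precomp π := ⟨_, rfl⟩
  have hs : Function.Surjective (π.toLinearMap.lTensor (MvPolynomial (Fin n) A)) :=
    LinearMap.lTensor_surjective _ hsurj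
  obtain ⟨βP, rfl⟩ := hs β
  obtain ⟨πR, hπR⟩ : ∃ πR : MvPolynomial (Fin n) A ⊗[A] MvPolynomial B A →ₐ[MvPolynomial (Fin n) A]
      MvPolynomial (Fin n) A ⊗[A] B,
      πR = Algebra.TensorProduct.map (AlgHom.id (MvPolynomial (Fin n) A) (MvPolynomial (Fin n) A)) π :=
    ⟨_, rfl⟩
  have h1 := rel_ch_mv (MvPolynomial.basisMonomials B A) G n βP
  have h2 : πR (cF G (MvPolynomial (Fin n) A) βP) = cF F (MvPolynomial (Fin n) A) (πR βP) := by
    rw [cF, cF, ← Polynomial.aeval_algHom_apply, hG, precomp_toFun', map_bX, hπR]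
  rw [PolLaw.lTensor_algHom_apply, ← hπR, ← h2]
  have h3 : (PolLaw.ker G.law).map (Algebra.TensorProduct.includeRight :
      MvPolynomial B A →ₐ[A] MvPolynomial (Fin n) A ⊗[A] MvPolynomial B A) ≤
      ((PolLaw.ker F.law).map (Algebra.TensorProduct.includeRight :
        B →ₐ[A] MvPolynomial (Fin n) A ⊗[A] B)).comap πR := by
    rw [Ideal.map_le_iff_le_comap]
    intro p hp
    rw [Ideal.mem_comap, Ideal.mem_comap, Algebra.TensorProduct.includeRight_apply, hπR,
      Algebra.TensorProduct.map_tmul, map_one]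
    apply Ideal.mem_map_of_mem
    rw [hG] at hp
    exact map_ker_precomp_le F π hsurj hp
  exact h3 h1

/-- naturality of `cF` in the coefficient ring -/
theorem map_cF (F : PolLaw.MulLaw A B A d) {R A' : Type u} [CommRing R] [Algebra A R]
    [CommRing A'] [Algebra A A'] (ψ : R →ₐ[A] A') (β : R ⊗[A] B) :
    Algebra.TensorProduct.map ψ (AlgHom.id A B) (cF F R β) =
      cF F A' (Algebra.TensorProduct.map ψ (AlgHom.id A B) β) := by
  obtain ⟨ψB, hψB⟩ : ∃ ψB : R ⊗[A] B →ₐ[A] A' ⊗[A] B,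
    ψB = Algebra.TensorProduct.map ψ (AlgHom.id A B) := ⟨_, rfl⟩
  obtain ⟨ψX, hψX⟩ : ∃ ψX : R[X] →ₐ[A] A'[X], ψX = Polynomial.mapAlgHom ψ := ⟨_, rfl⟩
  have hbX : Algebra.TensorProduct.map ψX (AlgHom.id A B) (bX R β) = bX A' (ψB β) := by
    have h : ∀ z : R ⊗[A] B, Algebra.TensorProduct.map ψX (AlgHom.id A B)
        (Algebra.TensorProduct.map (Polynomial.CAlgHom : R →ₐ[A] R[X]) (AlgHom.id A B) z) =
        Algebra.TensorProduct.map (Polynomial.CAlgHom : A' →ₐ[A] A'[X]) (AlgHom.id A B)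
          (ψB z) := by
      intro z
      induction z using TensorProduct.induction_on with
      | zero => simp
      | tmul r b =>
        rw [hψB, hψX, Algebra.TensorProduct.map_tmul, Algebra.TensorProduct.map_tmul,
          Algebra.TensorProduct.map_tmul, Algebra.TensorProduct.map_tmul]
        simp [Polynomial.coe_mapAlgHom]
      | add a b ha hb => simp only [map_add, ha, hb]
    rw [bX, bX, map_sub, h, Algebra.TensorProduct.map_tmul, hψX]
    simp [Polynomial.coe_mapAlgHom]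
  have hrid : ∀ z : R[X] ⊗[A] A, TensorProduct.rid A A'[X]
      (Algebra.TensorProduct.map ψX (AlgHom.id A A) z) = ψX (TensorProduct.rid A R[X] z) := by
    intro z
    induction z using TensorProduct.induction_on with
    | zero => simp
    | tmul u a =>
      rw [Algebra.TensorProduct.map_tmul, TensorProduct.rid_tmul, TensorProduct.rid_tmul,
        map_smul]
      rfl
    | add a b ha hb => simp only [map_add, ha, hb]
  have hχ : TensorProduct.rid A A'[X] (F.law.toFun' A'[X] (bX A' (ψB β))) =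
      (TensorProduct.rid A R[X] (F.law.toFun' R[X] (bX R β))).map (ψ : R →+* A') := by
    rw [← hbX, ← compat_map, hrid, hψX, Polynomial.coe_mapAlgHom]
  rw [cF, cF, ← hψB, hχ, Polynomial.aeval_def, Polynomial.aeval_def, Polynomial.eval₂_map]
  have h5 := Polynomial.hom_eval₂ (TensorProduct.rid A R[X] (F.law.toFun' R[X] (bX R β)))
    (algebraMap R (R ⊗[A] B)) (ψB : R ⊗[A] B →+* A' ⊗[A] B) β
  rw [RingHom.coe_coe] at h5
  rw [h5]
  congr 1
  apply RingHom.ext
  intro r
  rw [RingHom.comp_apply, RingHom.comp_apply, RingHom.coe_coe, RingHom.coe_coe, hψB,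
    Algebra.TensorProduct.algebraMap_apply, Algebra.TensorProduct.algebraMap_apply,
    Algebra.TensorProduct.map_tmul, map_one]
  rfl

/-- relative Cayley–Hamilton: `χ_β(β)` lies in the extension of `ker F` -/
theorem rel_ch (F : PolLaw.MulLaw A B A d) (A' : Type u) [CommRing A'] [Algebra A A']
    (β' : A' ⊗[A] B) :
    cF F A' β' ∈ (PolLaw.ker F.law).map
      (Algebra.TensorProduct.includeRight : B →ₐ[A] A' ⊗[A] B) := by
  obtain ⟨n, ψ, β, rfl⟩ := PolynomialLaw.exists_lift (R := A) (M := B) β'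
  rw [rT_eq_map, ← map_cF]
  have h1 := rel_ch_mvB F n β
  have h3 : (PolLaw.ker F.law).map (Algebra.TensorProduct.includeRight :
      B →ₐ[A] MvPolynomial (Fin n) A ⊗[A] B) ≤
      ((PolLaw.ker F.law).map (Algebra.TensorProduct.includeRight :
        B →ₐ[A] A' ⊗[A] B)).comap (Algebra.TensorProduct.map ψ (AlgHom.id A B)) := by
    rw [Ideal.map_le_iff_le_comap]
    intro b hb
    rw [Ideal.mem_comap, Ideal.mem_comap, Algebra.TensorProduct.includeRight_apply,
      Algebra.TensorProduct.map_tmul, map_one]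
    exact Ideal.mem_map_of_mem _ hb
  exact h3 h1

theorem main13697 (F : PolLaw.MulLaw A B A d) (A' : Type u) [CommRing A'] [Algebra A A'] :
    (PolLaw.kerBC F.law A').radical =
      ((PolLaw.ker F.law).map
        (Algebra.TensorProduct.includeRight : B →ₐ[A] A' ⊗[A] B)).radical := by
  apply le_antisymm
  · rw [Ideal.radical_le_radical_iff]
    intro b' hb'
    have h := (mem_kerBC_iff F.law A' b').1 hb' A'[X] (-((X : A'[X]) ⊗ₜ[A] (1 : B))) 1
    have e0 : Algebra.TensorProduct.map (IsScalarTower.toAlgHom A A' A'[X]) (AlgHom.id A B) b' =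
        Algebra.TensorProduct.map (Polynomial.CAlgHom : A' →ₐ[A] A'[X]) (AlgHom.id A B) b' := rfl
    have e1 : -((X : A'[X]) ⊗ₜ[A] (1 : B)) + 1 * Algebra.TensorProduct.map
        (Polynomial.CAlgHom : A' →ₐ[A] A'[X]) (AlgHom.id A B) b' = bX A' b' := by
      rw [one_mul, bX]
      abel
    have e2 : -((X : A'[X]) ⊗ₜ[A] (1 : B)) = (-X : A'[X]) • (1 : A'[X] ⊗[A] B) := by
      rw [Algebra.TensorProduct.one_def, TensorProduct.smul_tmul', smul_eq_mul, mul_one,
        TensorProduct.neg_tmul]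
    rw [e0, e1, e2, F.homog, (F.mult _).1] at h
    have hc := rel_ch F A' b'
    rw [cF, h, Algebra.TensorProduct.one_def, TensorProduct.smul_tmul', smul_eq_mul, mul_one,
      TensorProduct.rid_tmul, one_smul, map_pow, map_neg, Polynomial.aeval_X] at hc
    have h5 : -b' ∈ ((PolLaw.ker F.law).map
        (Algebra.TensorProduct.includeRight : B →ₐ[A] A' ⊗[A] B)).radical := ⟨d, hc⟩
    simpa using neg_mem h5
  · exact Ideal.radical_mono (map_ker_le_kerBC F.law A')

end general

end Groth.Agent.Lib.RelCHH1
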