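import Mathlib
import Groth.Prelude.Def_PolLaw2
import Groth.Agent.Lib.RelCH_helper1

/-!
# Fibres of the image of a family of zero cycles have at most `d` points (helper1)
-/

set_option autoImplicit false
universe u
open scoped TensorProduct
open Module Polynomial

namespace Groth.Agent.Lib.FibreCountH1

open Groth.Agent.Lib.GammaSpanH1 Groth.Agent.Lib.FreeCoefH1 Groth.Agent.Lib.FreeFactH1
  Groth.Agent.Lib.PolLawKerH1 Groth.Agent.Lib.PolLawSurjH1 Groth.Agent.Lib.PolLawLimH1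
  Groth.Agent.Lib.CHIdealH1 Groth.Agent.Lib.RelCHH1
open Classical

variable {A : Type u} [CommRing A] {B : Type u} [CommRing B] [Algebra A B] {d : ℕ}

section chiR

theorem exists_finsupp_repr (R : Type u) [CommRing R] [Algebra A R] (β : R ⊗[A] B) :
    ∃ c : B →₀ R, β = c.sum (fun b r => r ⊗ₜ[A] b) := by
  induction β using TensorProduct.induction_on with
  | zero => exact ⟨0, by simp⟩
  | tmul r b =>
    refine ⟨Finsupp.single b r, ?_⟩
    exact (Finsupp.sum_single_index (h := fun b r => r ⊗ₜ[A] b)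
      (TensorProduct.zero_tmul _ _)).symm
  | add x y hx hy =>
    obtain ⟨c₁, rfl⟩ := hx
    obtain ⟨c₂, rfl⟩ := hy
    refine ⟨c₁ + c₂, ?_⟩
    rw [Finsupp.sum_add_index' (h := fun b r => r ⊗ₜ[A] b) (fun b => TensorProduct.zero_tmul _ _)
      (fun b r₁ r₂ => TensorProduct.add_tmul _ _ _)]

theorem eq_single_of_degree {m : B →₀ ℕ} (hdeg : Finsupp.degree m = d) (h1 : d ≤ m 1) :
    m = Finsupp.single 1 d := by
  have hle : Finsupp.single (1 : B) d ≤ m := Finsupp.single_le_iff.2 h1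
  have hm' : m - Finsupp.single 1 d + Finsupp.single 1 d = m := tsub_add_cancel_of_le hle
  have h2 := congrArg Finsupp.degree hm'
  rw [map_add, Finsupp.degree_single, hdeg] at h2
  have h3 : Finsupp.degree (m - Finsupp.single 1 d) = 0 := by omega
  rw [Finsupp.degree_eq_zero_iff] at h3
  rw [← hm', h3, zero_add]

/-- the coefficient of the pure power of `1` is `1` -/
theorem coefG_single_one (F : PolLaw.MulLaw A B A d) :
    coefG (fun b : B => b) F.law (Finsupp.single 1 d) = 1 := by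
  have h := toFun_sum (fun b : B => b) F.law F.homog (S := A) {1} (fun _ => 1)
  rw [Finset.sum_singleton, ← Algebra.TensorProduct.one_def, (F.mult A).1,
    Finset.sum_eq_single (Finsupp.single (1 : B) d)] at h
  · have e1 : ((Finsupp.single (1 : B) d).prod fun i k => (1 : A) ^ k) = 1 := by
      simp [Finsupp.prod]
    rw [e1, Algebra.TensorProduct.one_def] at h
    have h2 := congrArg (TensorProduct.lid A A) h
    rw [TensorProduct.lid_tmul, TensorProduct.lid_tmul, one_smul, one_smul] at h2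
    exact h2.symm
  · intro m hm hne
    exfalso
    apply hne
    obtain ⟨hdeg, hsupp⟩ := mem_antidiag_iff.1 hm
    have h3 : m = Finsupp.single 1 (m 1) := Finsupp.support_subset_singleton.1 hsupp
    have h4 : m 1 = d := by
      rw [h3, Finsupp.degree_single] at hdeg
      rw [h3, Finsupp.single_eq_same]
      exact hdeg
    rw [h3, h4]
  · intro h0
    exfalso
    apply h0
    rw [mem_antidiag_iff]
    exact ⟨Finsupp.degree_single _ _, Finsupp.support_single_subset⟩

/-- the characteristic polynomial of `β ∈ R ⊗ B` has degree at most `d` and `X^d`-coefficient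
`(-1)^d` -/
theorem chiR (F : PolLaw.MulLaw A B A d) (R : Type u) [CommRing R] [Algebra A R] (β : R ⊗[A] B) :
    (TensorProduct.rid A R[X] (F.law.toFun' R[X] (bX R β))).natDegree ≤ d ∧
      (TensorProduct.rid A R[X] (F.law.toFun' R[X] (bX R β))).coeff d = (-1) ^ d := by
  obtain ⟨c, rfl⟩ := exists_finsupp_repr R β
  obtain ⟨c', hc'⟩ : ∃ c' : B →₀ R[X], c' = c.mapRange (C : R → R[X]) (map_zero _) -
    Finsupp.single 1 X := ⟨_, rfl⟩
  have hc'b : ∀ b, c' b = C (c b) - if b = 1 then X else 0 := by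
    intro b
    rw [hc', Finsupp.sub_apply, Finsupp.mapRange_apply, Finsupp.single_apply]
    congr 1
    by_cases hb : b = 1
    · rw [if_pos hb, if_pos hb.symm]
    · rw [if_neg hb, if_neg (Ne.symm hb)]
  have hbX : bX R (c.sum fun b r => r ⊗ₜ[A] b) = c'.sum (fun b s => s ⊗ₜ[A] b) := by
    rw [bX, hc', Finsupp.sum_sub_index (h := fun b s => s ⊗ₜ[A] b)
        (fun b s₁ s₂ => TensorProduct.sub_tmul _ _ _),
      Finsupp.sum_single_index (h := fun b s => s ⊗ₜ[A] b) (TensorProduct.zero_tmul _ _),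
      Finsupp.sum_mapRange_index (h := fun b s => s ⊗ₜ[A] b)
        (fun b => TensorProduct.zero_tmul _ _), map_finsuppSum]
    rfl
  obtain ⟨J, hJ⟩ : ∃ J : Finset B, J = c'.support ∪ {1} := ⟨_, rfl⟩
  have h1J : (1 : B) ∈ J := by
    rw [hJ]
    exact Finset.mem_union_right _ (Finset.mem_singleton_self 1)
  have hsum : c'.sum (fun b s => s ⊗ₜ[A] b) = ∑ b ∈ J, c' b ⊗ₜ[A] (fun b : B => b) b := by
    rw [Finsupp.sum, hJ]
    apply Finset.sum_subset Finset.subset_union_left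
    intro b _ hb
    rw [Finsupp.notMem_support_iff.1 hb, TensorProduct.zero_tmul]
  rw [hbX, hsum, toFun_sum (fun b : B => b) F.law F.homog J (fun b => c' b), map_sum]
  simp only [TensorProduct.rid_tmul]
  -- degree of the monomials
  have hdeg : ∀ m : B →₀ ℕ, (m.prod fun b k => c' b ^ k).natDegree ≤ m 1 := by
    intro m
    rw [Finsupp.prod]
    refine (Polynomial.natDegree_prod_le _ _).trans ?_
    have h2 : ∀ b ∈ m.support, (c' b ^ m b).natDegree ≤ if b = 1 then m 1 else 0 := by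
      intro b _
      by_cases hb : b = 1
      · rw [if_pos hb, hb]
        refine (Polynomial.natDegree_pow_le).trans ?_
        have : (c' 1).natDegree ≤ 1 := by
          rw [hc'b, if_pos rfl]
          exact (Polynomial.natDegree_sub_le _ _).trans (max_le (by
            rw [Polynomial.natDegree_C]; exact Nat.zero_le 1) Polynomial.natDegree_X_le)
        calc m 1 * (c' 1).natDegree ≤ m 1 * 1 := Nat.mul_le_mul_left _ this
          _ = m 1 := mul_one _
      · rw [if_neg hb, hc'b, if_neg hb, sub_zero, ← map_pow, Polynomial.natDegree_C]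
    refine (Finset.sum_le_sum h2).trans ?_
    rw [Finset.sum_ite_eq']
    split_ifs <;> omega
  constructor
  · apply Polynomial.natDegree_sum_le_of_forall_le
    intro m hm
    obtain ⟨hd, -⟩ := mem_antidiag_iff.1 hm
    refine (Polynomial.natDegree_smul_le _ _).trans ((hdeg m).trans ?_)
    rw [← hd]
    exact Finsupp.le_degree 1 m
  · rw [Polynomial.finsetSum_coeff, Finset.sum_eq_single (Finsupp.single (1 : B) d)]
    · rw [Polynomial.coeff_smul, coefG_single_one, one_smul]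
      have e1 : ((Finsupp.single (1 : B) d).prod fun b k => c' b ^ k) = c' 1 ^ d :=
        Finsupp.prod_single_index (h := fun b k => c' b ^ k) (pow_zero _)
      have e2 : (c' 1).natDegree ≤ 1 := by
        rw [hc'b, if_pos rfl]
        exact (Polynomial.natDegree_sub_le _ _).trans (max_le (by
          rw [Polynomial.natDegree_C]; exact Nat.zero_le 1) Polynomial.natDegree_X_le)
      have e3 := Polynomial.coeff_pow_of_natDegree_le (m := d) e2
      rw [mul_one] at e3
      rw [e1, e3, hc'b, if_pos rfl, Polynomial.coeff_sub, Polynomial.coeff_C,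
        if_neg one_ne_zero, Polynomial.coeff_X_one, zero_sub]
    · intro m hm hne
      obtain ⟨hd, -⟩ := mem_antidiag_iff.1 hm
      have hlt : m 1 < d := by
        by_contra hge
        rw [not_lt] at hge
        exact hne (eq_single_of_degree hd hge)
      rw [Polynomial.coeff_smul, Polynomial.coeff_eq_zero_of_natDegree_lt
        (lt_of_le_of_lt (hdeg m) hlt), smul_zero]
    · intro h0
      exfalso
      apply h0
      rw [mem_antidiag_iff]
      exact ⟨Finsupp.degree_single _ _,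
        Finsupp.support_single_subset.trans (Finset.singleton_subset_iff.2 h1J)⟩

end chiR


section count

theorem finite_card_le_of_no_inj {Y : Type*} (d : ℕ)
    (h : ∀ f : Fin (d + 1) → Y, ¬ Function.Injective f) : Finite Y ∧ Nat.card Y ≤ d := by
  have hfin : Finite Y := by
    by_contra hinf
    rw [not_finite_iff_infinite] at hinf
    exact h (fun i => Infinite.natEmbedding Y i)
      (fun i j hij => Fin.ext ((Infinite.natEmbedding Y).injective hij))
  refine ⟨hfin, ?_⟩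
  by_contra hcard
  rw [not_le] at hcard
  haveI := Fintype.ofFinite Y
  rw [Nat.card_eq_fintype_card] at hcard
  have h2 : Fintype.card (Fin (d + 1)) ≤ Fintype.card Y := by
    rw [Fintype.card_fin]
    omega
  obtain ⟨e⟩ := Function.Embedding.nonempty_of_card_le h2
  exact h e e.injective

variable (F : PolLaw.MulLaw A B A d) (K : Type u) [Field K] [Algebra A K]

/-- every element of `K ⊗ B` is integral over `K` modulo the extension of `ker F` -/
theorem isIntegral_mk_of_le (𝔭 : Ideal (K ⊗[A] B))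
    (h𝔭 : (PolLaw.ker F.law).map
      (Algebra.TensorProduct.includeRight : B →ₐ[A] K ⊗[A] B) ≤ 𝔭) (β : K ⊗[A] B) :
    IsIntegral K (Ideal.Quotient.mk 𝔭 β) := by
  obtain ⟨χ, hχ⟩ : ∃ χ : K[X], χ = TensorProduct.rid A K[X] (F.law.toFun' K[X] (bX K β)) :=
    ⟨_, rfl⟩
  obtain ⟨hdeg, hcoeff⟩ := chiR F K β
  rw [← hχ] at hdeg hcoeff
  have hmem : Polynomial.aeval β χ ∈ 𝔭 := by
    rw [hχ]
    exact h𝔭 (rel_ch F K β)
  refine ⟨Polynomial.C ((-1) ^ d) * χ, ?_, ?_⟩
  · apply Polynomial.monic_of_natDegree_le_of_coeff_eq_one d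
    · exact (Polynomial.natDegree_C_mul_le _ _).trans hdeg
    · rw [Polynomial.coeff_C_mul, hcoeff, ← mul_pow, neg_mul_neg, one_mul, one_pow]
  · rw [← Polynomial.aeval_def, map_mul]
    have h1 : Polynomial.aeval (Ideal.Quotient.mk 𝔭 β) χ = 0 := by
      have h2 := Polynomial.aeval_algHom_apply (Ideal.Quotient.mkₐ K 𝔭) β χ
      rw [Ideal.Quotient.mkₐ_eq_mk] at h2
      rw [h2, Ideal.Quotient.eq_zero_iff_mem]
      exact hmem
    rw [h1, mul_zero]

theorem isMaximal_of_le (𝔭 : Ideal (K ⊗[A] B)) [𝔭.IsPrime]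
    (h𝔭 : (PolLaw.ker F.law).map
      (Algebra.TensorProduct.includeRight : B →ₐ[A] K ⊗[A] B) ≤ 𝔭) : 𝔭.IsMaximal := by
  haveI : Algebra.IsIntegral K ((K ⊗[A] B) ⧸ 𝔭) := by
    constructor
    intro x
    obtain ⟨β, rfl⟩ := Ideal.Quotient.mk_surjective x
    exact isIntegral_mk_of_le F K 𝔭 h𝔭 β
  exact Ideal.Quotient.maximal_of_isField 𝔭
    (isField_of_isIntegral_of_isField' (Field.toIsField K))

variable {K}

/-- `K → (K ⊗ B) / 𝔭` -/
noncomputable def kap (𝔭 : Ideal (K ⊗[A] B)) : K →ₐ[A] (K ⊗[A] B) ⧸ 𝔭 :=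
  (Ideal.Quotient.mkₐ A 𝔭).comp (Algebra.TensorProduct.includeLeft : K →ₐ[A] K ⊗[A] B)

/-- the evaluation `K[t] ⊗ B → ((K ⊗ B)/𝔭)[t]` -/
noncomputable def eps (𝔭 : Ideal (K ⊗[A] B)) :
    K[X] ⊗[A] B →ₐ[A] Polynomial ((K ⊗[A] B) ⧸ 𝔭) :=
  Algebra.TensorProduct.lift (Polynomial.mapAlgHom (kap 𝔭))
    ((Polynomial.CAlgHom : (K ⊗[A] B) ⧸ 𝔭 →ₐ[A] Polynomial ((K ⊗[A] B) ⧸ 𝔭)).comp
      ((Ideal.Quotient.mkₐ A 𝔭).comp
        (Algebra.TensorProduct.includeRight : B →ₐ[A] K ⊗[A] B)))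
    (fun _ _ => Commute.all (S := Polynomial ((K ⊗[A] B) ⧸ 𝔭)) _ _)

theorem eps_tmul (𝔭 : Ideal (K ⊗[A] B)) (u : K[X]) (b : B) :
    eps 𝔭 (u ⊗ₜ[A] b) = Polynomial.map (kap 𝔭 : K →+* (K ⊗[A] B) ⧸ 𝔭) u *
      Polynomial.C (Ideal.Quotient.mk 𝔭 ((1 : K) ⊗ₜ[A] b)) := by
  rw [eps, Algebra.TensorProduct.lift_tmul]
  rfl

theorem eps_c (𝔭 : Ideal (K ⊗[A] B)) (z : K ⊗[A] B) :
    eps 𝔭 (Algebra.TensorProduct.map (Polynomial.CAlgHom : K →ₐ[A] K[X]) (AlgHom.id A B) z) =
      Polynomial.C (Ideal.Quotient.mk 𝔭 z) := by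
  induction z using TensorProduct.induction_on with
  | zero => simp
  | tmul l b =>
    rw [Algebra.TensorProduct.map_tmul, eps_tmul, Polynomial.CAlgHom_apply, Polynomial.map_C,
      ← map_mul, AlgHom.id_apply]
    congr 1
    show Ideal.Quotient.mk 𝔭 (l ⊗ₜ[A] (1 : B)) * Ideal.Quotient.mk 𝔭 ((1 : K) ⊗ₜ[A] b) = _
    rw [← map_mul, Algebra.TensorProduct.tmul_mul_tmul, mul_one, one_mul]
  | add a b ha hb => simp only [map_add, ha, hb]

theorem eps_X_pow (𝔭 : Ideal (K ⊗[A] B)) (i : ℕ) :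
    eps 𝔭 ((X ^ i : K[X]) ⊗ₜ[A] (1 : B)) = X ^ i := by
  rw [eps_tmul, Polynomial.map_pow, Polynomial.map_X, ← Algebra.TensorProduct.one_def, map_one,
    map_one, mul_one]

theorem eval_eq_zero_of_eps (𝔭 : Ideal (K ⊗[A] B)) [𝔭.IsPrime]
    (h𝔭 : (PolLaw.ker F.law).map
      (Algebra.TensorProduct.includeRight : B →ₐ[A] K ⊗[A] B) ≤ 𝔭) (β : K[X] ⊗[A] B) (v : K[X])
    (hβ : eps 𝔭 β = Polynomial.map (kap 𝔭 : K →+* (K ⊗[A] B) ⧸ 𝔭) v) :
    (TensorProduct.rid A K[X][X] (F.law.toFun' K[X][X] (bX K[X] β))).eval v = 0 := by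
  obtain ⟨χ, hχ⟩ : ∃ χ : K[X][X], χ = TensorProduct.rid A K[X][X]
    (F.law.toFun' K[X][X] (bX K[X] β)) := ⟨_, rfl⟩
  rw [← hχ]
  have hmem : Polynomial.aeval β χ ∈ (PolLaw.ker F.law).map
      (Algebra.TensorProduct.includeRight : B →ₐ[A] K[X] ⊗[A] B) := by
    rw [hχ]
    exact rel_ch F K[X] β
  have hkill : (PolLaw.ker F.law).map
      (Algebra.TensorProduct.includeRight : B →ₐ[A] K[X] ⊗[A] B) ≤ RingHom.ker (eps 𝔭) := by
    rw [Ideal.map_le_iff_le_comap]
    intro b hb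
    rw [Ideal.mem_comap, RingHom.mem_ker, Algebra.TensorProduct.includeRight_apply, eps_tmul,
      Polynomial.map_one, one_mul]
    have : Ideal.Quotient.mk 𝔭 ((1 : K) ⊗ₜ[A] b) = 0 := by
      rw [Ideal.Quotient.eq_zero_iff_mem]
      exact h𝔭 (Ideal.mem_map_of_mem _ hb)
    rw [this, map_zero]
  have h0 : eps 𝔭 (Polynomial.aeval β χ) = 0 := RingHom.mem_ker.1 (hkill hmem)
  rw [Polynomial.aeval_def] at h0
  have h5 := Polynomial.hom_eval₂ χ (algebraMap K[X] (K[X] ⊗[A] B))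
    (eps 𝔭 : K[X] ⊗[A] B →+* Polynomial ((K ⊗[A] B) ⧸ 𝔭)) β
  rw [RingHom.coe_coe] at h5
  rw [h5, hβ] at h0
  have h6 : (eps 𝔭 : K[X] ⊗[A] B →+* Polynomial ((K ⊗[A] B) ⧸ 𝔭)).comp
      (algebraMap K[X] (K[X] ⊗[A] B)) =
      Polynomial.mapRingHom (kap 𝔭 : K →+* (K ⊗[A] B) ⧸ 𝔭) := by
    apply RingHom.ext
    intro u
    rw [RingHom.comp_apply, RingHom.coe_coe, Algebra.TensorProduct.algebraMap_apply, eps_tmul,
      ← Algebra.TensorProduct.one_def, map_one, map_one, mul_one]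
    rfl
  rw [h6] at h0
  have h7 : Polynomial.map (kap 𝔭 : K →+* (K ⊗[A] B) ⧸ 𝔭) v =
      Polynomial.mapRingHom (kap 𝔭 : K →+* (K ⊗[A] B) ⧸ 𝔭) v := rfl
  rw [h7, Polynomial.eval₂_at_apply] at h0
  have hinj : Function.Injective (Polynomial.mapRingHom (kap 𝔭 : K →+* (K ⊗[A] B) ⧸ 𝔭)) := by
    apply Polynomial.map_injective
    exact RingHom.injective _
  exact hinj (h0.trans (map_zero _).symm)

/-- at most `d` primes of `K ⊗ B` contain the extension of `ker F` -/
theorem no_inj_primes (𝔭 : Fin (d + 1) → Ideal (K ⊗[A] B)) (hprime : ∀ j, (𝔭 j).IsPrime)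
    (hle : ∀ j, (PolLaw.ker F.law).map
      (Algebra.TensorProduct.includeRight : B →ₐ[A] K ⊗[A] B) ≤ 𝔭 j) :
    ¬ Function.Injective 𝔭 := by
  intro hinj
  have hmax : ∀ j, (𝔭 j).IsMaximal := fun j => by
    haveI := hprime j
    exact isMaximal_of_le F K (𝔭 j) (hle j)
  have hcop : Pairwise (Function.onFun IsCoprime 𝔭) := by
    intro i j hij
    exact Ideal.isCoprime_iff_sup_eq.2
      ((hmax i).coprime_of_ne (hmax j) (fun h => hij (hinj h)))
  have hr : ∀ i : Fin (d + 1), ∃ r : K ⊗[A] B,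
      ∀ j, r - (if j = i then (1 : K ⊗[A] B) else 0) ∈ 𝔭 j :=
    fun i => Ideal.exists_forall_sub_mem_ideal hcop (fun j => if j = i then 1 else 0)
  choose r hr using hr
  obtain ⟨β, hβ⟩ : ∃ β : K[X] ⊗[A] B, β = ∑ i : Fin (d + 1),
      ((X ^ (i : ℕ) : K[X]) ⊗ₜ[A] (1 : B)) *
        Algebra.TensorProduct.map (Polynomial.CAlgHom : K →ₐ[A] K[X]) (AlgHom.id A B) (r i) :=
    ⟨_, rfl⟩
  obtain ⟨χ, hχ⟩ : ∃ χ : K[X][X], χ = TensorProduct.rid A K[X][X]
    (F.law.toFun' K[X][X] (bX K[X] β)) := ⟨_, rfl⟩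
  obtain ⟨hdeg, hcoeff⟩ := chiR F K[X] β
  rw [← hχ] at hdeg hcoeff
  have heval : ∀ j : Fin (d + 1), χ.eval ((X : K[X]) ^ (j : ℕ)) = 0 := by
    intro j
    haveI := hprime j
    rw [hχ]
    apply eval_eq_zero_of_eps F (𝔭 j) (hle j)
    rw [hβ, map_sum, Polynomial.map_pow, Polynomial.map_X]
    have h1 : ∀ i : Fin (d + 1), eps (𝔭 j) (((X ^ (i : ℕ) : K[X]) ⊗ₜ[A] (1 : B)) *
        Algebra.TensorProduct.map (Polynomial.CAlgHom : K →ₐ[A] K[X]) (AlgHom.id A B) (r i)) =
        if j = i then (X : Polynomial ((K ⊗[A] B) ⧸ 𝔭 j)) ^ (i : ℕ) else 0 := by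
      intro i
      rw [map_mul, eps_X_pow, eps_c]
      have h2 : Ideal.Quotient.mk (𝔭 j) (r i) =
          Ideal.Quotient.mk (𝔭 j) (if j = i then (1 : K ⊗[A] B) else 0) :=
        Ideal.Quotient.eq.2 (hr i j)
      rw [h2]
      split_ifs <;> simp
    rw [Finset.sum_congr rfl (fun i _ => h1 i), Finset.sum_ite_eq]
    simp
  have hXinj : Function.Injective (fun j : Fin (d + 1) => (X : K[X]) ^ (j : ℕ)) := by
    intro i j hij
    have := congrArg Polynomial.natDegree hij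
    simp only [Polynomial.natDegree_X_pow] at this
    exact Fin.ext this
  have hzero : χ = 0 := Polynomial.eq_zero_of_natDegree_lt_card_of_eval_eq_zero χ hXinj heval
    (by rw [Fintype.card_fin]; omega)
  rw [hzero, Polynomial.coeff_zero] at hcoeff
  exact (pow_ne_zero d (neg_ne_zero.2 one_ne_zero)) hcoeff.symm

theorem main13723 (K : Type u) [Field K] [Algebra A K] :
    Finite (PrimeSpectrum (K ⊗[A] PolLaw.image F.law)) ∧
      Nat.card (PrimeSpectrum (K ⊗[A] PolLaw.image F.law)) ≤ d := by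
  apply finite_card_le_of_no_inj
  intro g hg
  obtain ⟨ρ, hρ⟩ : ∃ ρ : K ⊗[A] B →ₐ[A] K ⊗[A] PolLaw.image F.law,
    ρ = Algebra.TensorProduct.map (AlgHom.id A K) (Ideal.Quotient.mkₐ A (PolLaw.ker F.law)) :=
    ⟨_, rfl⟩
  have hρsurj : Function.Surjective ρ := by
    rw [hρ]
    exact Algebra.TensorProduct.map_surjective _ _ (fun x => ⟨x, rfl⟩)
      (Ideal.Quotient.mkₐ_surjective A _)
  apply no_inj_primes F (fun j => (g j).asIdeal.comap ρ) (fun j => Ideal.comap_isPrime _ _)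
  · intro j
    rw [Ideal.map_le_iff_le_comap]
    intro b hb
    rw [Ideal.mem_comap, Ideal.mem_comap, Algebra.TensorProduct.includeRight_apply, hρ,
      Algebra.TensorProduct.map_tmul]
    have : Ideal.Quotient.mkₐ A (PolLaw.ker F.law) b = 0 := by
      rw [Ideal.Quotient.mkₐ_eq_mk, Ideal.Quotient.eq_zero_iff_mem]
      exact hb
    rw [this, TensorProduct.tmul_zero]
    exact (g j).asIdeal.zero_mem
  · intro i j hij
    apply hg
    apply PrimeSpectrum.ext
    have h1 : ((g i).asIdeal.comap ρ).map ρ = ((g j).asIdeal.comap ρ).map ρ :=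
      congrArg (Ideal.map ρ) hij
    rwa [Ideal.map_comap_of_surjective ρ hρsurj, Ideal.map_comap_of_surjective ρ hρsurj] at h1

end count

end Groth.Agent.Lib.FibreCountH1
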