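import Mathlib
import Groth.Prelude.Def_PolLaw2
import Groth.Agent.Lib.FibreCount_helper1

/-!
# A finitely generated ideal with the radical of the kernel (helper1)
-/

set_option autoImplicit false
universe u
open scoped TensorProduct
open Module Polynomial

namespace Groth.Agent.Lib.FGSupportH1

open Groth.Agent.Lib.GammaSpanH1 Groth.Agent.Lib.PolLawKerH1 Groth.Agent.Lib.CHIdealH1
  Groth.Agent.Lib.RelCHH1 Groth.Agent.Lib.FibreCountH1 Groth.Agent.Lib.CHMoreH1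
open Classical

variable {A : Type u} [CommRing A] {B : Type u} [CommRing B] [Algebra A B] {d : ℕ}

theorem bX_one_tmul (b : B) :
    bX A ((1 : A) ⊗ₜ[A] b) = (1 : A[X]) ⊗ₜ[A] b - X ⊗ₜ[A] (1 : B) := by
  rw [bX, Algebra.TensorProduct.map_tmul, map_one]
  rfl

theorem isIntegral_mk_of_mem (F : PolLaw.MulLaw A B A d) (b : B) (J : Ideal B)
    (h : Polynomial.aeval b (TensorProduct.rid A A[X]
      (F.law.toFun' A[X] ((1 : A[X]) ⊗ₜ[A] b - X ⊗ₜ[A] (1 : B)))) ∈ J) :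
    IsIntegral A (Ideal.Quotient.mk J b) := by
  obtain ⟨χ, hχ⟩ : ∃ χ : A[X], χ = TensorProduct.rid A A[X]
    (F.law.toFun' A[X] ((1 : A[X]) ⊗ₜ[A] b - X ⊗ₜ[A] (1 : B))) := ⟨_, rfl⟩
  obtain ⟨hdeg, hcoeff⟩ := chiR F A ((1 : A) ⊗ₜ[A] b)
  rw [bX_one_tmul, ← hχ] at hdeg hcoeff
  rw [← hχ] at h
  refine ⟨Polynomial.C ((-1) ^ d) * χ, ?_, ?_⟩
  · apply Polynomial.monic_of_natDegree_le_of_coeff_eq_one d
    · exact (Polynomial.natDegree_C_mul_le _ _).trans hdeg
    · rw [Polynomial.coeff_C_mul, hcoeff, ← mul_pow, neg_mul_neg, one_mul, one_pow]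
  · rw [← Polynomial.aeval_def, map_mul]
    have h1 : Polynomial.aeval (Ideal.Quotient.mk J b) χ = 0 := by
      have h2 := Polynomial.aeval_algHom_apply (Ideal.Quotient.mkₐ A J) b χ
      rw [Ideal.Quotient.mkₐ_eq_mk] at h2
      rw [h2, Ideal.Quotient.eq_zero_iff_mem]
      exact h
    rw [h1, mul_zero]

theorem ev_mul_tmul {R : Type u} [CommRing R] [Algebra A R] (ℓ : R →ₗ[A] A) (r : R) (b : B)
    (z : R ⊗[A] B) :
    ev B ℓ ((r ⊗ₜ[A] b) * z) = b * ev B (ℓ ∘ₗ LinearMap.mulLeft A r) z := by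
  induction z using TensorProduct.induction_on with
  | zero => simp
  | tmul r' b' =>
    rw [Algebra.TensorProduct.tmul_mul_tmul, ev_tmul, ev_tmul, LinearMap.comp_apply,
      LinearMap.mulLeft_apply, mul_smul_comm]
  | add x y hx hy => simp only [mul_add, map_add, hx, hy]

/-- coefficients of elements of the extended ideal lie in the ideal -/
theorem ev_mem_of_mem_map {R : Type u} [CommRing R] [Algebra A R] (I : Ideal B) (z : R ⊗[A] B)
    (hz : z ∈ I.map (Algebra.TensorProduct.includeRight : B →ₐ[A] R ⊗[A] B)) :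
    ∀ ℓ : R →ₗ[A] A, ev B ℓ z ∈ I := by
  rw [Ideal.map] at hz
  induction hz using Submodule.span_induction with
  | mem x hx =>
    obtain ⟨k, hk, rfl⟩ := hx
    intro ℓ
    rw [Algebra.TensorProduct.includeRight_apply, ev_tmul, Algebra.smul_def]
    exact I.mul_mem_left _ hk
  | zero =>
    intro ℓ
    rw [map_zero]
    exact I.zero_mem
  | add x y _ _ hx hy =>
    intro ℓ
    rw [map_add]
    exact I.add_mem (hx ℓ) (hy ℓ)
  | smul a x _ hx =>
    intro ℓ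
    rw [smul_eq_mul]
    induction a using TensorProduct.induction_on with
    | zero =>
      rw [zero_mul, map_zero]
      exact I.zero_mem
    | tmul r b =>
      rw [ev_mul_tmul]
      exact I.mul_mem_left _ (hx _)
    | add a a' ha ha' =>
      rw [add_mul, map_add]
      exact I.add_mem ha ha'

theorem main13706 [Algebra.FiniteType A B] (F : PolLaw.MulLaw A B A d) :
    ∃ J : Ideal B, J.FG ∧ J ≤ PolLaw.ker F.law ∧ J.radical = (PolLaw.ker F.law).radical := by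
  obtain ⟨s, hs⟩ := (Algebra.FiniteType.out : (⊤ : Subalgebra A B).FG)
  obtain ⟨c₀, hc₀⟩ : ∃ c₀ : B → B, c₀ = fun b => Polynomial.aeval b (TensorProduct.rid A A[X]
    (F.law.toFun' A[X] ((1 : A[X]) ⊗ₜ[A] b - X ⊗ₜ[A] (1 : B)))) := ⟨_, rfl⟩
  have hc₀ker : ∀ b, c₀ b ∈ PolLaw.ker F.law := by
    intro b
    rw [hc₀]
    exact ch_mem_ker F b
  obtain ⟨J₀, hJ₀⟩ : ∃ J₀ : Ideal B, J₀ = Ideal.span (↑(s.image c₀) : Set B) := ⟨_, rfl⟩
  have hJ₀fg : J₀.FG := ⟨s.image c₀, hJ₀.symm⟩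
  have hJ₀le : J₀ ≤ PolLaw.ker F.law := by
    rw [hJ₀, Ideal.span_le]
    intro x hx
    rw [Finset.coe_image] at hx
    obtain ⟨b, -, rfl⟩ := hx
    exact hc₀ker b
  -- the quotient is a finite module
  have hfin : Module.Finite A (B ⧸ J₀) := by
    rw [Module.finite_def]
    have h1 : (Algebra.adjoin A ((Ideal.Quotient.mkₐ A J₀) '' (↑s : Set B)) : Subalgebra A (B ⧸ J₀)) =
        ⊤ := by
      rw [← AlgHom.map_adjoin, hs, Algebra.map_top, AlgHom.range_eq_top]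
      exact Ideal.Quotient.mkₐ_surjective A J₀
    have h2 := fg_adjoin_of_finite (R := A) (s := (Ideal.Quotient.mkₐ A J₀) '' (↑s : Set B))
      (s.finite_toSet.image _) (by
        rintro _ ⟨b, hb, rfl⟩
        rw [Ideal.Quotient.mkₐ_eq_mk]
        apply isIntegral_mk_of_mem F b J₀
        have : c₀ b ∈ J₀ := by
          rw [hJ₀]
          exact Ideal.subset_span (Finset.mem_coe.2 (Finset.mem_image_of_mem c₀ hb))
        rw [hc₀] at this
        exact this)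
    rw [h1] at h2
    exact h2
  obtain ⟨n, g, hg⟩ := Module.Finite.exists_fin (R := A) (M := B ⧸ J₀)
  choose g' hg' using fun k => Ideal.Quotient.mk_surjective (g k)
  have hspan : ∀ c : B, ∃ a : Fin n → A, c - ∑ k, a k • g' k ∈ J₀ := by
    intro c
    have h1 : Ideal.Quotient.mk J₀ c ∈ Submodule.span A (Set.range g) := by
      rw [hg]
      exact Submodule.mem_top
    obtain ⟨a, ha⟩ := (Submodule.mem_span_range_iff_exists_fun A).1 h1
    refine ⟨a, ?_⟩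
    rw [← Ideal.Quotient.eq, map_sum, ← ha]
    refine Finset.sum_congr rfl fun k _ => ?_
    rw [← hg' k]
    rfl
  -- the universal element
  obtain ⟨βu, hβu⟩ : ∃ βu : MvPolynomial (Fin n) A ⊗[A] B,
    βu = ∑ k, (MvPolynomial.X k : MvPolynomial (Fin n) A) ⊗ₜ[A] g' k := ⟨_, rfl⟩
  obtain ⟨cu, hcu⟩ : ∃ cu, cu = cF F (MvPolynomial (Fin n) A) βu := ⟨_, rfl⟩
  have hcumem : cu ∈ (PolLaw.ker F.law).map (Algebra.TensorProduct.includeRight :
      B →ₐ[A] MvPolynomial (Fin n) A ⊗[A] B) := by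
    rw [hcu]
    exact rel_ch_mvB F n βu
  obtain ⟨s₀, hs₀⟩ := exists_decomp B cu
  have hdec := hs₀ s₀ subset_rfl
  obtain ⟨cm, hcm⟩ : ∃ cm : (Fin n →₀ ℕ) → B,
    cm = fun m => ev B (MvPolynomial.lcoeff A m) cu := ⟨_, rfl⟩
  have hcmker : ∀ m, cm m ∈ PolLaw.ker F.law := by
    intro m
    rw [hcm]
    exact ev_mem_of_mem_map (PolLaw.ker F.law) cu hcumem _
  obtain ⟨J₁, hJ₁⟩ : ∃ J₁ : Ideal B, J₁ = Ideal.span (↑(s₀.image cm) : Set B) := ⟨_, rfl⟩
  have hJ₁fg : J₁.FG := ⟨s₀.image cm, hJ₁.symm⟩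
  have hJ₁le : J₁ ≤ PolLaw.ker F.law := by
    rw [hJ₁, Ideal.span_le]
    intro x hx
    rw [Finset.coe_image] at hx
    obtain ⟨m, -, rfl⟩ := hx
    exact hcmker m
  have hJle : J₀ ⊔ J₁ ≤ PolLaw.ker F.law := sup_le hJ₀le hJ₁le
  refine ⟨J₀ ⊔ J₁, Submodule.FG.sup hJ₀fg hJ₁fg, hJle, ?_⟩
  apply le_antisymm (Ideal.radical_mono hJle)
  rw [Ideal.radical_le_radical_iff]
  intro c hc
  obtain ⟨a, ha⟩ := hspan c
  obtain ⟨c', hc'⟩ : ∃ c' : B, c' = ∑ k, a k • g' k := ⟨_, rfl⟩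
  rw [← hc'] at ha
  have hc'ker : c' ∈ PolLaw.ker F.law := by
    have h1 : c' = c - (c - c') := by ring
    rw [h1]
    exact (PolLaw.ker F.law).sub_mem hc (hJ₀le ha)
  obtain ⟨ψ, hψ⟩ : ∃ ψ : MvPolynomial (Fin n) A →ₐ[A] A, ψ = MvPolynomial.aeval a := ⟨_, rfl⟩
  have h1 := map_cF F ψ βu
  have h2 : Algebra.TensorProduct.map ψ (AlgHom.id A B) βu = (1 : A) ⊗ₜ[A] c' := by
    rw [hβu, map_sum, hc', TensorProduct.tmul_sum]
    refine Finset.sum_congr rfl fun k _ => ?_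
    rw [Algebra.TensorProduct.map_tmul, hψ, MvPolynomial.aeval_X, AlgHom.id_apply,
      TensorProduct.tmul_smul, TensorProduct.smul_tmul', smul_eq_mul, mul_one]
  have h3 : cF F A ((1 : A) ⊗ₜ[A] c') = (1 : A) ⊗ₜ[A] ((-c') ^ d) := by
    rw [cF, bX_one_tmul, chi_of_mem_ker F hc'ker, map_pow, map_neg, Polynomial.aeval_X,
      ← TensorProduct.tmul_neg, Algebra.TensorProduct.tmul_pow, one_pow]
  rw [h2, h3, ← hcu, hdec, map_sum] at h1
  have h4 : ∀ m ∈ s₀, Algebra.TensorProduct.map ψ (AlgHom.id A B)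
      ((MvPolynomial.monomial m (1 : A)) ⊗ₜ[A] ev B (MvPolynomial.lcoeff A m) cu) =
      (1 : A) ⊗ₜ[A] (ψ (MvPolynomial.monomial m (1 : A)) • cm m) := by
    intro m _
    rw [Algebra.TensorProduct.map_tmul, AlgHom.id_apply, TensorProduct.tmul_smul,
      TensorProduct.smul_tmul', smul_eq_mul, mul_one, hcm]
  rw [Finset.sum_congr rfl h4, ← TensorProduct.tmul_sum] at h1
  have h5 := congrArg (TensorProduct.lid A B) h1
  rw [TensorProduct.lid_tmul, TensorProduct.lid_tmul, one_smul, one_smul] at h5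
  have h6 : (-c') ^ d ∈ J₀ ⊔ J₁ := by
    rw [← h5]
    apply Ideal.mem_sup_right
    refine Ideal.sum_mem _ fun m hm => ?_
    rw [Algebra.smul_def]
    apply Ideal.mul_mem_left
    rw [hJ₁]
    exact Ideal.subset_span (Finset.mem_coe.2 (Finset.mem_image_of_mem cm hm))
  have h7 : -c' ∈ (J₀ ⊔ J₁).radical := ⟨d, h6⟩
  have h8 : c' ∈ (J₀ ⊔ J₁).radical := by simpa using neg_mem h7
  have h9 : c = c' + (c - c') := by ring
  rw [h9]
  exact Ideal.add_mem _ h8 (Ideal.le_radical (Ideal.mem_sup_left ha))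

end Groth.Agent.Lib.FGSupportH1
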