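import Mathlib
import Groth.Agent.Lib.EtGlue6_helper4

/-!
# Formal glueing: lifting extensions of torsion modules (helper8)

Abstract Čech/Amitsur part: `A` is a flat `R`-algebra playing the role of `∏ R_{f_i}`.
-/

set_option autoImplicit false

namespace Groth.Agent.Lib.FGlueExtH8

open TensorProduct

universe u

section Defs

variable (R : Type u) [CommRing R] (A : Type u) [CommRing A] [Algebra R A]
variable (X : Type u) [AddCommGroup X] [Module R X]

/-- `x ↦ 1 ⊗ x` -/
noncomputable def d0 : X →ₗ[R] A ⊗[R] X := TensorProduct.mk R A X 1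

/-- the Amitsur/Čech differential `A ⊗ X → A ⊗ A ⊗ X` -/
noncomputable def d1 : A ⊗[R] X →ₗ[R] A ⊗[R] (A ⊗[R] X) :=
  TensorProduct.mk R A (A ⊗[R] X) 1 - (d0 R A X).lTensor A

variable {X}

@[simp] lemma d0_apply (x : X) : d0 R A X x = (1 : A) ⊗ₜ[R] x := rfl

lemma d1_apply (z : A ⊗[R] X) :
    d1 R A X z = (1 : A) ⊗ₜ[R] z - (d0 R A X).lTensor A z := rfl

lemma d1_d0 (x : X) : d1 R A X (d0 R A X x) = 0 := by
  rw [d1_apply, d0_apply, LinearMap.lTensor_tmul, d0_apply, sub_self]

lemma d1_eq_zero_iff (z : A ⊗[R] X) :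
    d1 R A X z = 0 ↔ (1 : A) ⊗ₜ[R] z = (d0 R A X).lTensor A z := by
  rw [d1_apply, sub_eq_zero]

variable {Y : Type u} [AddCommGroup Y] [Module R Y]

lemma d1_natural (φ : X →ₗ[R] Y) (z : A ⊗[R] X) :
    (φ.lTensor A).lTensor A (d1 R A X z) = d1 R A Y (φ.lTensor A z) := by
  induction z using TensorProduct.induction_on with
  | zero => simp
  | tmul a x =>
    simp only [d1_apply, map_sub, LinearMap.lTensor_tmul, d0_apply]
  | add z₁ z₂ h₁ h₂ => rw [map_add, map_add, h₁, h₂, map_add, map_add]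

end Defs


section Chi

variable (R : Type u) [CommRing R] (S : Type u) [CommRing S] [Algebra R S]
variable (A : Type u) [CommRing A] [Algebra R A]
variable (N : Type u) [AddCommGroup N] [Module R N]

lemma leftComm_one_tmul (t : S ⊗[R] N) :
    TensorProduct.leftComm R A S N ((1 : A) ⊗ₜ[R] t) = (d0 R A N).lTensor S t := by
  induction t using TensorProduct.induction_on with
  | zero => simp
  | tmul s n => simp [TensorProduct.leftComm_tmul]
  | add t₁ t₂ h₁ h₂ => rw [tmul_add, map_add, h₁, h₂, map_add]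

lemma leftComm_lTensor_mk (z : A ⊗[R] N) :
    TensorProduct.leftComm R A S N ((TensorProduct.mk R S N 1).lTensor A z) = (1 : S) ⊗ₜ[R] z := by
  induction z using TensorProduct.induction_on with
  | zero => simp
  | tmul a n => simp [TensorProduct.leftComm_tmul]
  | add t₁ t₂ h₁ h₂ => rw [map_add, map_add, h₁, h₂, tmul_add]

lemma d1_lTensor_leftComm_eq (w : A ⊗[R] (S ⊗[R] N)) :
    (d1 R A N).lTensor S (TensorProduct.leftComm R A S N w) =
      TensorProduct.leftComm R A S (A ⊗[R] N)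
        ((TensorProduct.leftComm R A S N).toLinearMap.lTensor A (d1 R A (S ⊗[R] N) w)) := by
  induction w using TensorProduct.induction_on with
  | zero => simp
  | tmul a t =>
    induction t using TensorProduct.induction_on with
    | zero => simp
    | tmul s n =>
      simp only [d1_apply, TensorProduct.leftComm_tmul, LinearMap.lTensor_tmul, map_sub, d0_apply,
        LinearEquiv.coe_coe, tmul_sub]
    | add t₁ t₂ h₁ h₂ =>
      rw [tmul_add, map_add, map_add, h₁, h₂, map_add, map_add, map_add]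
  | add w₁ w₂ h₁ h₂ => rw [map_add, map_add, h₁, h₂, map_add, map_add, map_add]

lemma d1_lTensor_leftComm (w : A ⊗[R] (S ⊗[R] N)) (hw : d1 R A (S ⊗[R] N) w = 0) :
    (d1 R A N).lTensor S (TensorProduct.leftComm R A S N w) = 0 := by
  rw [d1_lTensor_leftComm_eq, hw, map_zero, map_zero]

end Chi


section Main

variable {R S : Type u} [CommRing R] [CommRing S] [Algebra R S]

/-- the abstract properties of `A` (`= ∏ R_{f_i}`) relative to `I = (f_i)` -/
structure IsPunctured (I : Ideal R) (A : Type u) [CommRing A] [Algebra R A] : Prop where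
  flat : Module.Flat R A
  tors : ∀ (M' : Type u) [AddCommGroup M'] [Module R M'],
    (∀ m : M', ∃ n : ℕ, ∀ a ∈ I ^ n, a • m = 0) → ∀ y : A ⊗[R] M', y = 0
  detect : ∀ (X : Type u) [AddCommGroup X] [Module R X] (x : X),
    (1 : A) ⊗ₜ[R] x = 0 → ∃ n : ℕ, ∀ a ∈ I ^ n, a • x = 0

variable {I : Ideal R} {A : Type u} [CommRing A] [Algebra R A]

lemma tors_mod_range (hA : IsPunctured I A) {N : Type u} [AddCommGroup N] [Module R N]
    (z : A ⊗[R] N) (hz : d1 R A N z = 0) :
    ∃ n : ℕ, ∀ a ∈ I ^ n, a • z ∈ LinearMap.range (d0 R A N) := by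
  have h1 : (1 : A) ⊗ₜ[R] ((LinearMap.range (d0 R A N)).mkQ z) = 0 := by
    have := congrArg ((LinearMap.range (d0 R A N)).mkQ.lTensor A) ((d1_eq_zero_iff R A z).mp hz)
    rw [LinearMap.lTensor_tmul, ← LinearMap.comp_apply, ← LinearMap.lTensor_comp,
      LinearMap.range_mkQ_comp, LinearMap.lTensor_zero, LinearMap.zero_apply] at this
    exact this
  obtain ⟨n, hn⟩ := hA.detect _ _ h1
  exact ⟨n, fun a ha => by
    have := hn a ha
    rwa [← map_smul, Submodule.mkQ_apply, Submodule.Quotient.mk_eq_zero] at this⟩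

theorem main_abstract (hA : IsPunctured I A) [Module.Flat R S]
    (hq : Function.Bijective
      (Ideal.quotientMap (I.map (algebraMap R S)) (algebraMap R S) Ideal.le_comap_map))
    (N M : Type u) [AddCommGroup N] [Module R N] [AddCommGroup M] [Module R M]
    (hM : ∀ m : M, ∃ n : ℕ, ∀ a ∈ I ^ n, a • m = 0)
    (E' : Type u) [AddCommGroup E'] [Module S E'] [Module R E'] [IsScalarTower R S E']
    (i' : S ⊗[R] N →ₗ[S] E') (p' : E' →ₗ[S] S ⊗[R] M)
    (hi' : Function.Injective i') (hp' : Function.Surjective p')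
    (hex' : LinearMap.range i' = LinearMap.ker p') :
    ∃ (E : Type u) (_ : AddCommGroup E) (_ : Module R E) (i : N →ₗ[R] E) (p : E →ₗ[R] M)
      (g : E →ₗ[R] E'),
      Function.Injective i ∧ Function.Surjective p ∧ LinearMap.range i = LinearMap.ker p ∧
      (∀ n : N, g (i n) = i' ((1 : S) ⊗ₜ[R] n)) ∧ (∀ e : E, p' (g e) = (1 : S) ⊗ₜ[R] p e) := by
  classical
  haveI := hA.flat
  let ι : N →ₗ[R] S ⊗[R] N := TensorProduct.mk R S N 1
  let iR : S ⊗[R] N →ₗ[R] E' := i'.restrictScalars R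
  let pR : E' →ₗ[R] S ⊗[R] M := p'.restrictScalars R
  have hpi : ∀ t : S ⊗[R] N, p' (i' t) = 0 := by
    intro t
    have : i' t ∈ LinearMap.ker p' := hex' ▸ LinearMap.mem_range_self i' t
    exact this
  have hexR : Function.Exact iR pR := by
    intro y
    constructor
    · intro hy
      have : y ∈ LinearMap.range i' := hex' ▸ (LinearMap.mem_ker.mpr hy : y ∈ LinearMap.ker p')
      obtain ⟨t, ht⟩ := this
      exact ⟨t, ht⟩
    · rintro ⟨t, rfl⟩
      exact hpi t
  have hSM : ∀ w : S ⊗[R] M, ∃ n : ℕ, ∀ a ∈ I ^ n, a • w = 0 := by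
    intro w
    obtain ⟨m, rfl⟩ := EtGlueH4.exists_one_tmul_flat hq hM w
    obtain ⟨n, hn⟩ := hM m
    exact ⟨n, fun a ha => by rw [← TensorProduct.tmul_smul, hn a ha, tmul_zero]⟩
  have hbij : Function.Bijective (iR.lTensor A) := by
    constructor
    · exact Module.Flat.lTensor_preserves_injective_linearMap iR hi'
    · intro y
      have hex2 := Module.Flat.lTensor_exact A hexR
      exact (hex2 y).mp (hA.tors _ hSM _)
  let e := LinearEquiv.ofBijective (iR.lTensor A) hbij
  let π₀ : E' →ₗ[R] A ⊗[R] (S ⊗[R] N) := e.symm.toLinearMap ∘ₗ d0 R A E'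
  have hπ : ∀ x : E', iR.lTensor A (π₀ x) = (1 : A) ⊗ₜ[R] x := fun x => e.apply_symm_apply _
  have hπi : ∀ t : S ⊗[R] N, π₀ (i' t) = (1 : A) ⊗ₜ[R] t := by
    intro t
    apply hbij.1
    rw [hπ, LinearMap.lTensor_tmul]; rfl
  have hπd : ∀ x : E', d1 R A (S ⊗[R] N) (π₀ x) = 0 := by
    intro x
    have hinj2 : Function.Injective ((iR.lTensor A).lTensor A) :=
      Module.Flat.lTensor_preserves_injective_linearMap _ hbij.1
    apply hinj2
    rw [d1_natural, hπ, map_zero]
    exact d1_d0 R A x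
  let F1 : (E' × A ⊗[R] N) →ₗ[R] A ⊗[R] (A ⊗[R] N) :=
    d1 R A N ∘ₗ LinearMap.snd R E' (A ⊗[R] N)
  let F2 : (E' × A ⊗[R] N) →ₗ[R] A ⊗[R] (S ⊗[R] N) :=
    π₀ ∘ₗ LinearMap.fst R E' (A ⊗[R] N) - ι.lTensor A ∘ₗ LinearMap.snd R E' (A ⊗[R] N)
  let Esub : Submodule R (E' × A ⊗[R] N) := LinearMap.ker F1 ⊓ LinearMap.ker F2
  have hmem : ∀ x : E' × A ⊗[R] N,
      x ∈ Esub ↔ d1 R A N x.2 = 0 ∧ π₀ x.1 = ι.lTensor A x.2 := by
    intro x
    simp only [Esub, F1, F2, Submodule.mem_inf, LinearMap.mem_ker, LinearMap.comp_apply,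
      LinearMap.snd_apply, LinearMap.sub_apply, LinearMap.fst_apply, sub_eq_zero]
  let τ := LinearEquiv.ofBijective (TensorProduct.mk R S M 1) (EtGlueH4.tors_bijective hq hM)
  have hτ : ∀ m : M, τ m = (1 : S) ⊗ₜ[R] m := fun m => rfl
  let i0 : N →ₗ[R] E' × A ⊗[R] N := (iR ∘ₗ ι).prod (d0 R A N)
  have hi0 : ∀ n, i0 n ∈ Esub := by
    intro n
    rw [hmem]
    refine ⟨d1_d0 R A n, ?_⟩
    show π₀ (i' ((1 : S) ⊗ₜ[R] n)) = ι.lTensor A ((1 : A) ⊗ₜ[R] n)
    rw [hπi, LinearMap.lTensor_tmul]; rfl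
  have hdker : ∀ k : N, d0 R A N k = 0 → ∃ n : ℕ, ∀ a ∈ I ^ n, a • k = 0 :=
    fun k hk => hA.detect _ _ hk
  refine ⟨Esub, inferInstance, inferInstance, i0.codRestrict Esub hi0,
    τ.symm.toLinearMap ∘ₗ pR ∘ₗ LinearMap.fst R E' (A ⊗[R] N) ∘ₗ Esub.subtype,
    LinearMap.fst R E' (A ⊗[R] N) ∘ₗ Esub.subtype, ?_, ?_, ?_, ?_, ?_⟩
  · -- injectivity
    rw [injective_iff_map_eq_zero]
    intro n hn
    have h1 : i0 n = 0 := congrArg Subtype.val hn
    have h2 : (1 : S) ⊗ₜ[R] n = 0 := by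
      apply hi'
      rw [map_zero]
      exact congrArg Prod.fst h1
    have h3 : (1 : A) ⊗ₜ[R] n = 0 := congrArg Prod.snd h1
    exact EtGlueH4.eq_zero_of_one_tmul_eq_zero_flat hq (hA.detect _ _ h3) h2
  · -- surjectivity
    intro m
    obtain ⟨e', he'⟩ := hp' ((1 : S) ⊗ₜ[R] m)
    set χ := TensorProduct.leftComm R A S N with hχ
    have hw0 : (d1 R A N).lTensor S (χ (π₀ e')) = 0 :=
      d1_lTensor_leftComm R S A N _ (hπd e')
    -- the quotient `Q = (A ⊗ N) / N` and the induced differential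
    let rg : Submodule R (A ⊗[R] N) := LinearMap.range (d0 R A N)
    have hrg : rg ≤ LinearMap.ker (d1 R A N) := by
      rintro _ ⟨n, rfl⟩
      exact d1_d0 R A n
    let dbar : ((A ⊗[R] N) ⧸ rg) →ₗ[R] A ⊗[R] (A ⊗[R] N) := rg.liftQ (d1 R A N) hrg
    have hdbar : dbar ∘ₗ rg.mkQ = d1 R A N := Submodule.liftQ_mkQ _ _ _
    have hexk : Function.Exact ((LinearMap.ker dbar).subtype.lTensor S) (dbar.lTensor S) :=
      Module.Flat.lTensor_exact S (N := LinearMap.ker dbar)
        (LinearMap.exact_subtype_ker_map dbar)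
    have hw1 : dbar.lTensor S (rg.mkQ.lTensor S (χ (π₀ e'))) = 0 := by
      rw [← LinearMap.comp_apply, ← LinearMap.lTensor_comp, hdbar]
      exact hw0
    obtain ⟨w', hw'⟩ := (hexk _).mp hw1
    have hQ : ∀ q : LinearMap.ker dbar, ∃ n : ℕ, ∀ a ∈ I ^ n, a • q = 0 := by
      rintro ⟨q, hq0⟩
      obtain ⟨z, rfl⟩ := Submodule.Quotient.mk_surjective _ q
      have hz : d1 R A N z = 0 := by
        have := LinearMap.mem_ker.mp hq0
        rwa [← Submodule.mkQ_apply, ← LinearMap.comp_apply, hdbar] at this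
      obtain ⟨n, hn⟩ := tors_mod_range hA z hz
      refine ⟨n, fun a ha => Subtype.ext ?_⟩
      show a • Submodule.Quotient.mk z = 0
      rw [← Submodule.Quotient.mk_smul, Submodule.Quotient.mk_eq_zero]
      exact hn a ha
    obtain ⟨⟨q, hq0⟩, hq'⟩ := EtGlueH4.exists_one_tmul_flat hq hQ w'
    obtain ⟨z, rfl⟩ := Submodule.Quotient.mk_surjective _ q
    have hz : d1 R A N z = 0 := by
      have := LinearMap.mem_ker.mp hq0
      rwa [← Submodule.mkQ_apply, ← LinearMap.comp_apply, hdbar] at this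
    have hexc : Function.Exact ((d0 R A N).lTensor S) (rg.mkQ.lTensor S) :=
      lTensor_exact S (LinearMap.exact_map_mkQ_range (d0 R A N)) (Submodule.mkQ_surjective _)
    have hk : rg.mkQ.lTensor S (χ (π₀ e') - (1 : S) ⊗ₜ[R] z) = 0 := by
      rw [map_sub, ← hw', hq', LinearMap.lTensor_tmul, LinearMap.lTensor_tmul]
      exact sub_self _
    obtain ⟨t, ht2'⟩ := (hexc _).mp hk
    have ht2 : (d0 R A N).lTensor S t = χ (π₀ e') - (1 : S) ⊗ₜ[R] z := ht2'
    have hw : π₀ e' = (1 : A) ⊗ₜ[R] t + ι.lTensor A z := by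
      apply χ.injective
      rw [map_add, hχ, leftComm_one_tmul, leftComm_lTensor_mk, ← hχ, ht2]
      abel
    have hx : ((e' - i' t, z) : E' × A ⊗[R] N) ∈ Esub := by
      rw [hmem]
      refine ⟨hz, ?_⟩
      show π₀ (e' - i' t) = ι.lTensor A z
      rw [map_sub, hπi, hw]; abel
    refine ⟨⟨_, hx⟩, ?_⟩
    show τ.symm (p' (e' - i' t)) = m
    rw [map_sub, hpi, sub_zero, he', ← hτ, τ.symm_apply_apply]
  · -- exactness
    apply le_antisymm
    · rintro _ ⟨n, rfl⟩
      rw [LinearMap.mem_ker]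
      show τ.symm (p' (i' ((1 : S) ⊗ₜ[R] n))) = 0
      rw [hpi, map_zero]
    · rintro ⟨⟨e', z⟩, hx⟩ hpx
      rw [LinearMap.mem_ker] at hpx
      have hpx' : τ.symm (p' e') = 0 := hpx
      have hp0 : p' e' = 0 := by
        have := congrArg τ hpx'
        rwa [τ.apply_symm_apply, map_zero] at this
      obtain ⟨t, rfl⟩ : e' ∈ LinearMap.range i' := hex' ▸ (LinearMap.mem_ker.mpr hp0)
      obtain ⟨hz1, hz2⟩ := (hmem _).mp hx
      simp only at hz1 hz2
      rw [hπi] at hz2
      have hb : (d0 R A N).lTensor S t = (1 : S) ⊗ₜ[R] z := by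
        rw [← leftComm_one_tmul, hz2, leftComm_lTensor_mk]
      obtain ⟨n₀, hn₀⟩ := EtGlueH4.mem_range_of_lTensor_eq hq (d0 R A N) z t
        (tors_mod_range hA z hz1) hb
      have hz0 : (d0 R A N).lTensor S (t - (1 : S) ⊗ₜ[R] n₀) = 0 := by
        rw [map_sub, hb, LinearMap.lTensor_tmul, hn₀, sub_self]
      obtain ⟨k, hk1, hk2⟩ := EtGlueH4.exists_one_tmul_of_lTensor_eq_zero hq (d0 R A N) hdker _ hz0
      refine ⟨n₀ + k, ?_⟩
      apply Subtype.ext
      show i0 (n₀ + k) = (i' t, z)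
      have ht : t = (1 : S) ⊗ₜ[R] (n₀ + k) := by
        rw [tmul_add, ← hk2]; abel
      refine Prod.ext ?_ ?_
      · show i' ((1 : S) ⊗ₜ[R] (n₀ + k)) = i' t
        rw [← ht]
      · show d0 R A N (n₀ + k) = z
        rw [map_add, hk1, add_zero, hn₀]
  · intro n
    rfl
  · intro x
    show p' x.1.1 = τ (τ.symm (p' x.1.1))
    rw [τ.apply_symm_apply]

end Main


section Inst

variable {R : Type u} [CommRing R] {r : ℕ} (f : Fin r → R)

theorem isPunctured_pi :
    IsPunctured (Ideal.span (Set.range f)) (∀ i : Fin r, Localization.Away (f i)) where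
  flat := inferInstance
  tors := by
    intro M' _ _ hM' y
    induction y using TensorProduct.induction_on with
    | zero => rfl
    | tmul a m =>
      obtain ⟨n, hn⟩ := hM' m
      have hsingle : ∀ i : Fin r, ∀ b : Localization.Away (f i),
          (Pi.single i b : ∀ i : Fin r, Localization.Away (f i)) ⊗ₜ[R] m = 0 := by
        intro i b
        have hu : b = (f i ^ n) • (IsLocalization.Away.invSelf (S := Localization.Away (f i)) (f i) ^ n * b) := by
          rw [Algebra.smul_def, ← mul_assoc, map_pow, ← mul_pow, IsLocalization.Away.mul_invSelf,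
            one_pow, one_mul]
        rw [hu, Pi.single_smul, TensorProduct.smul_tmul,
          hn _ (Ideal.pow_mem_pow (Ideal.subset_span (Set.mem_range_self i)) n), tmul_zero]
      rw [← Finset.univ_sum_single a, TensorProduct.sum_tmul]
      exact Finset.sum_eq_zero (fun i _ => hsingle i (a i))
    | add y₁ y₂ h₁ h₂ => rw [h₁, h₂, add_zero]
  detect := by
    intro X _ _ x hx
    apply EtGlueH4.exists_pow_killed f
    intro i
    have h1 : (1 : Localization.Away (f i)) ⊗ₜ[R] x = 0 := by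
      have := congrArg (LinearMap.rTensor X
        (LinearMap.proj (R := R) (φ := fun i : Fin r => Localization.Away (f i)) i)) hx
      rwa [LinearMap.rTensor_tmul, map_zero] at this
    haveI : IsLocalizedModule (Submonoid.powers (f i))
        (TensorProduct.mk R (Localization.Away (f i)) X 1) :=
      (isLocalizedModule_iff_isBaseChange (Submonoid.powers (f i)) (Localization.Away (f i)) _).mpr
        (TensorProduct.isBaseChange R X _)
    obtain ⟨⟨c, k, rfl⟩, hc⟩ := (IsLocalizedModule.eq_zero_iff (Submonoid.powers (f i))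
      (TensorProduct.mk R (Localization.Away (f i)) X 1)).mp h1
    exact ⟨k, hc⟩

end Inst

section Final

variable (R S : Type u) [CommRing R] [CommRing S] [Algebra R S] [Module.Flat R S] (I : Ideal R)

theorem main2010 (hI : I.FG)
    (hq : Function.Bijective
      (Ideal.quotientMap (I.map (algebraMap R S)) (algebraMap R S) Ideal.le_comap_map))
    (N M : Type u) [AddCommGroup N] [Module R N] [AddCommGroup M] [Module R M]
    (hM : ∀ m : M, ∃ n : ℕ, ∀ a ∈ I ^ n, a • m = 0)
    (E' : Type u) [AddCommGroup E'] [Module S E'] [Module R E'] [IsScalarTower R S E']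
    (i' : S ⊗[R] N →ₗ[S] E') (p' : E' →ₗ[S] S ⊗[R] M)
    (hi' : Function.Injective i') (hp' : Function.Surjective p')
    (hex' : LinearMap.range i' = LinearMap.ker p') :
    ∃ (E : Type u) (_ : AddCommGroup E) (_ : Module R E) (i : N →ₗ[R] E) (p : E →ₗ[R] M)
      (g : E →ₗ[R] E'),
      Function.Injective i ∧ Function.Surjective p ∧ LinearMap.range i = LinearMap.ker p ∧
      (∀ n : N, g (i n) = i' ((1 : S) ⊗ₜ[R] n)) ∧ (∀ e : E, p' (g e) = (1 : S) ⊗ₜ[R] p e) := by
  obtain ⟨r, f, rfl⟩ := Submodule.fg_iff_exists_fin_generating_family.mp hI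
  exact main_abstract (isPunctured_pi f) hq N M hM E' i' p' hi' hp' hex'

end Final

end Groth.Agent.Lib.FGlueExtH8
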