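import Mathlib

set_option autoImplicit false
set_option maxHeartbeats 1000000

universe u

open Polynomial

namespace Groth.Agent.Lib.FGroupODEH1

variable {A : Type u} [CommRing A]

lemma eq_zero_of_mul_one_add (μ : A) (P : A[X]) (h : P * (1 + C μ * X) = 0) : P = 0 := by
  have h' : P + C μ * (P * X) = 0 := by rw [← h]; ring
  ext n
  induction n with
  | zero =>
    have := congrArg (fun q => q.coeff 0) h'
    simpa using this
  | succ n ih =>
    have := congrArg (fun q => q.coeff (n + 1)) h'
    simp only [coeff_add, coeff_C_mul, coeff_mul_X, coeff_zero] at this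
    rw [ih] at this
    simpa using this

lemma degreeOf_aeval_le (j : Fin 2) (F : A[X]) (b : MvPolynomial (Fin 2) A) :
    MvPolynomial.degreeOf j (Polynomial.aeval b F) ≤ F.natDegree * MvPolynomial.degreeOf j b := by
  rw [Polynomial.aeval_eq_sum_range]
  refine (MvPolynomial.degreeOf_sum_le _ _ _).trans ?_
  refine Finset.sup_le fun i hi => ?_
  rw [MvPolynomial.smul_eq_C_mul]
  refine (MvPolynomial.degreeOf_C_mul_le _ _ _).trans ?_
  refine (MvPolynomial.degreeOf_pow_le _ _ _).trans ?_
  exact Nat.mul_le_mul_right _ (Nat.lt_succ_iff.mp (Finset.mem_range.mp hi))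

/-- the substitution `X 0 ↦ X, X 1 ↦ 0`. -/
noncomputable def ev : MvPolynomial (Fin 2) A →ₐ[A] A[X] :=
  MvPolynomial.aeval ![X, 0]

lemma ev_X0 : ev (MvPolynomial.X 0 : MvPolynomial (Fin 2) A) = X := by
  unfold ev; rw [MvPolynomial.aeval_X]; rfl

lemma ev_X1 : ev (MvPolynomial.X 1 : MvPolynomial (Fin 2) A) = 0 := by
  unfold ev; rw [MvPolynomial.aeval_X]; rfl

lemma ev_C (a : A) : ev (MvPolynomial.C a : MvPolynomial (Fin 2) A) = C a := by
  unfold ev; rw [MvPolynomial.aeval_C]; rfl

/-- the point `S + T + μ S T`. -/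
noncomputable def uu (μ : A) : MvPolynomial (Fin 2) A :=
  MvPolynomial.X 0 + MvPolynomial.X 1 + MvPolynomial.C μ * MvPolynomial.X 0 * MvPolynomial.X 1

lemma ev_uu (μ : A) : ev (uu μ) = X := by
  unfold uu
  rw [map_add, map_add, map_mul, map_mul, ev_X0, ev_X1, mul_zero, add_zero, add_zero]

lemma D_X0 : MvPolynomial.pderiv (1 : Fin 2) (MvPolynomial.X 0 : MvPolynomial (Fin 2) A) = 0 :=
  MvPolynomial.pderiv_X_of_ne (by decide)

lemma D_uu (μ : A) : MvPolynomial.pderiv (1 : Fin 2) (uu μ)
    = 1 + MvPolynomial.C μ * MvPolynomial.X 0 := by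
  unfold uu
  rw [map_add, map_add, D_X0, MvPolynomial.pderiv_X_self, Derivation.leibniz,
    MvPolynomial.pderiv_X_self, Derivation.leibniz, D_X0, MvPolynomial.pderiv_C]
  simp only [smul_eq_mul, mul_zero, zero_add, add_zero, mul_one]

lemma fac (μ : A) : 1 + MvPolynomial.C μ * uu μ
    = (1 + MvPolynomial.C μ * MvPolynomial.X 0) * (1 + MvPolynomial.C μ * MvPolynomial.X 1) := by
  unfold uu; ring

lemma aeval_ode (μ : A) (F : A[X])
    (hode : F * C (F.coeff 1) = derivative F * (1 + C μ * X)) (b : MvPolynomial (Fin 2) A) :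
    aeval b F * MvPolynomial.C (F.coeff 1) = aeval b (derivative F) * (1 + MvPolynomial.C μ * b) := by
  have := congrArg (aeval b) hode
  simpa only [map_mul, map_add, map_one, aeval_C, aeval_X, MvPolynomial.algebraMap_eq] using this

theorem forward (μ : A) (F : A[X])
    (h : aeval (MvPolynomial.X 0 : MvPolynomial (Fin 2) A) F * aeval (MvPolynomial.X 1 : MvPolynomial (Fin 2) A) F
        - MvPolynomial.C (F.coeff 0 ^ 2) = aeval (uu μ) F - MvPolynomial.C (F.coeff 0)) :
    F * C (F.coeff 1) = derivative F * (1 + C μ * X) := by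
  have h1 := congrArg (MvPolynomial.pderiv (1 : Fin 2)) h
  rw [map_sub, map_sub, MvPolynomial.pderiv_C, MvPolynomial.pderiv_C, sub_zero, sub_zero,
    Derivation.leibniz, Derivation.map_aeval, Derivation.map_aeval, Derivation.map_aeval, D_X0,
    MvPolynomial.pderiv_X_self, D_uu] at h1
  simp only [smul_eq_mul, mul_zero, add_zero, mul_one] at h1
  have h2 := congrArg ev h1
  rw [map_mul, map_mul, ← aeval_algHom_apply, ← aeval_algHom_apply, ← aeval_algHom_apply, ev_X0,
    ev_X1, ev_uu, aeval_X_left_apply, aeval_X_left_apply, ← coeff_zero_eq_aeval_zero', map_add,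
    map_one, map_mul, ev_C, ev_X0, coeff_derivative] at h2
  simpa using h2

theorem backward (p : ℕ) [hp : Fact p.Prime]
    (hu : IsUnit ((Nat.factorial (p - 1) : ℕ) : A)) (μ : A) (F : A[X]) (hF : F.natDegree < p)
    (hode : F * C (F.coeff 1) = derivative F * (1 + C μ * X)) :
    aeval (MvPolynomial.X 0 : MvPolynomial (Fin 2) A) F * aeval (MvPolynomial.X 1 : MvPolynomial (Fin 2) A) F
        - MvPolynomial.C (F.coeff 0 ^ 2) = aeval (uu μ) F - MvPolynomial.C (F.coeff 0) := by
  classical
  by_cases hsub : Subsingleton A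
  · exact Subsingleton.elim _ _
  have hnt : Nontrivial A := not_subsingleton_iff_nontrivial.mp hsub
  have hunit : ∀ i : ℕ, 0 < i → i < p → IsUnit ((i : ℕ) : A) := by
    intro i hi hip
    have hd : i ∣ Nat.factorial (p - 1) := Nat.dvd_factorial hi (by omega)
    exact isUnit_of_dvd_unit (Nat.cast_dvd_cast hd) hu
  -- a₀ a₁ = a₁
  have h01 : F.coeff 0 * F.coeff 1 = F.coeff 1 := by
    have := congrArg (fun q => q.coeff 0) hode
    simp only [coeff_mul_C, mul_coeff_zero, coeff_derivative, coeff_add, coeff_one_zero,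
      coeff_C_mul, coeff_X_zero, mul_zero, add_zero, mul_one, Nat.cast_zero, zero_add,
      coeff_C_zero] at this
    exact this
  -- (a₀ - 1) a_i = 0 for i ≥ 1
  have hker : ∀ i : ℕ, 1 ≤ i → (F.coeff 0 - 1) * F.coeff i = 0 := by
    have hP : C (F.coeff 0 - 1) * derivative F = 0 := by
      apply eq_zero_of_mul_one_add μ
      rw [mul_assoc, ← hode, ← mul_assoc, mul_comm (C _) F, mul_assoc, ← C_mul,
        sub_mul, one_mul, h01, sub_self, C_0, mul_zero]
    intro i hi
    obtain ⟨i, rfl⟩ : ∃ j, i = j + 1 := ⟨i - 1, by omega⟩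
    by_cases hip : i + 1 < p
    · have := congrArg (fun q => q.coeff i) hP
      simp only [coeff_C_mul, coeff_derivative, coeff_zero] at this
      have hcast : ((i : A) + 1) = ((i + 1 : ℕ) : A) := by push_cast; ring
      rw [hcast, ← mul_assoc] at this
      exact (hunit (i + 1) (by omega) hip).mul_left_eq_zero.mp this
    · rw [coeff_eq_zero_of_natDegree_lt (show F.natDegree < i + 1 by omega), mul_zero]
  set S := aeval (MvPolynomial.X 0 : MvPolynomial (Fin 2) A) F with hS
  set T := aeval (MvPolynomial.X 1 : MvPolynomial (Fin 2) A) F with hT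
  set T' := aeval (MvPolynomial.X 1 : MvPolynomial (Fin 2) A) (derivative F) with hT'
  set U := aeval (uu μ) F with hU
  set U' := aeval (uu μ) (derivative F) with hU'
  set G : MvPolynomial (Fin 2) A :=
    S * T - MvPolynomial.C (F.coeff 0 ^ 2) - U + MvPolynomial.C (F.coeff 0) with hG
  suffices hG0 : G = 0 by
    have := hG0
    rw [hG] at this
    linear_combination this
  -- X 1 ∣ G
  have hdvd : (MvPolynomial.X 1 : MvPolynomial (Fin 2) A) ∣ G := by
    have d1 : (MvPolynomial.X 1 : MvPolynomial (Fin 2) A) ∣ T - MvPolynomial.C (F.coeff 0) := by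
      have := congrArg (aeval (MvPolynomial.X 1 : MvPolynomial (Fin 2) A)) (divX_mul_X_add F)
      rw [map_add, map_mul, aeval_X, aeval_C, MvPolynomial.algebraMap_eq] at this
      rw [hT, ← this, add_sub_cancel_right]
      exact Dvd.intro_left _ rfl
    have d2 : (MvPolynomial.X 1 : MvPolynomial (Fin 2) A) ∣ U - S := by
      have h1 := sub_dvd_eval_sub (uu μ) (MvPolynomial.X 0 : MvPolynomial (Fin 2) A)
        (F.map (algebraMap A (MvPolynomial (Fin 2) A)))
      rw [eval_map_algebraMap, eval_map_algebraMap] at h1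
      refine dvd_trans ?_ h1
      refine ⟨1 + MvPolynomial.C μ * MvPolynomial.X 0, ?_⟩
      unfold uu; ring
    have d3 : S * MvPolynomial.C (F.coeff 0) - MvPolynomial.C (F.coeff 0 ^ 2) - S
        + MvPolynomial.C (F.coeff 0) = 0 := by
      have hz : C (F.coeff 0 - 1) * (F - C (F.coeff 0)) = 0 := by
        ext n
        rw [coeff_C_mul, coeff_sub, coeff_zero]
        rcases Nat.eq_zero_or_pos n with rfl | hn
        · rw [coeff_C_zero, sub_self, mul_zero]
        · rw [coeff_C, if_neg (by omega), sub_zero, hker n hn]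
      have := congrArg (aeval (MvPolynomial.X 0 : MvPolynomial (Fin 2) A)) hz
      simp only [map_mul, map_sub, aeval_C, map_zero, MvPolynomial.algebraMap_eq, map_one] at this
      rw [← hS] at this
      rw [map_pow]
      linear_combination this
    have e : G = S * (T - MvPolynomial.C (F.coeff 0)) - (U - S)
        + (S * MvPolynomial.C (F.coeff 0) - MvPolynomial.C (F.coeff 0 ^ 2) - S
          + MvPolynomial.C (F.coeff 0)) := by rw [hG]; ring
    rw [e, d3, add_zero]
    exact dvd_sub (Dvd.dvd.mul_left d1 _) d2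
  -- ODE for G
  have hDG : MvPolynomial.pderiv (1 : Fin 2) G
      = S * T' - U' * (1 + MvPolynomial.C μ * MvPolynomial.X 0) := by
    rw [hG, map_add, map_sub, map_sub, MvPolynomial.pderiv_C, MvPolynomial.pderiv_C,
      Derivation.leibniz, hS, hT, hU, Derivation.map_aeval, Derivation.map_aeval,
      Derivation.map_aeval, D_X0, MvPolynomial.pderiv_X_self, D_uu]
    simp only [smul_eq_mul, mul_zero, add_zero, mul_one, sub_zero]
    rfl
  have hode_t := aeval_ode μ F hode (MvPolynomial.X 1)
  have hode_u := aeval_ode μ F hode (uu μ)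
  have hc : MvPolynomial.C (F.coeff 1) * (MvPolynomial.C (F.coeff 0 ^ 2) - MvPolynomial.C (F.coeff 0))
      = (0 : MvPolynomial (Fin 2) A) := by
    rw [← map_sub, ← map_mul]
    have : F.coeff 1 * (F.coeff 0 ^ 2 - F.coeff 0) = 0 := by
      have e : F.coeff 1 * (F.coeff 0 ^ 2 - F.coeff 0)
          = F.coeff 0 * (F.coeff 0 * F.coeff 1) - F.coeff 0 * F.coeff 1 := by ring
      rw [e, h01, h01, sub_self]
    rw [this, map_zero]
  have hmain : (1 + MvPolynomial.C μ * MvPolynomial.X 1) * MvPolynomial.pderiv (1 : Fin 2) G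
      = MvPolynomial.C (F.coeff 1) * G := by
    rw [hDG, hG]
    have hfac := fac μ
    linear_combination (-S) * hode_t + hode_u + U' * hfac + hc
  -- degree bound
  have hdeg : ∀ m : Fin 2 →₀ ℕ, p ≤ m 1 → MvPolynomial.coeff m G = 0 := by
    intro m hm
    have hdG : MvPolynomial.degreeOf 1 G < p := by
      have hu1 : MvPolynomial.degreeOf (1 : Fin 2) (uu μ) ≤ 1 := by
        unfold uu
        refine (MvPolynomial.degreeOf_add_le _ _ _).trans (max_le ?_ ?_)
        · refine (MvPolynomial.degreeOf_add_le _ _ _).trans (max_le ?_ ?_)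
          · rw [MvPolynomial.degreeOf_X_of_ne (by decide)]; omega
          · rw [MvPolynomial.degreeOf_X_self]
        · refine (MvPolynomial.degreeOf_mul_le _ _ _).trans ?_
          rw [MvPolynomial.degreeOf_X_self]
          have := MvPolynomial.degreeOf_mul_le (1 : Fin 2) (MvPolynomial.C μ)
            (MvPolynomial.X 0 : MvPolynomial (Fin 2) A)
          rw [MvPolynomial.degreeOf_C, MvPolynomial.degreeOf_X_of_ne (by decide)] at this
          omega
      have b1 : MvPolynomial.degreeOf (1 : Fin 2) S ≤ 0 := by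
        have := degreeOf_aeval_le 1 F (MvPolynomial.X 0 : MvPolynomial (Fin 2) A)
        rwa [MvPolynomial.degreeOf_X_of_ne (by decide), mul_zero] at this
      have b2 : MvPolynomial.degreeOf (1 : Fin 2) T ≤ F.natDegree := by
        have := degreeOf_aeval_le 1 F (MvPolynomial.X 1 : MvPolynomial (Fin 2) A)
        rwa [MvPolynomial.degreeOf_X_self, mul_one] at this
      have b3 : MvPolynomial.degreeOf (1 : Fin 2) U ≤ F.natDegree :=
        (degreeOf_aeval_le 1 F (uu μ)).trans (by nlinarith)
      have b4 : MvPolynomial.degreeOf (1 : Fin 2) (S * T) ≤ F.natDegree :=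
        (MvPolynomial.degreeOf_mul_le _ _ _).trans (by omega)
      have b5 : MvPolynomial.degreeOf (1 : Fin 2) (S * T - MvPolynomial.C (F.coeff 0 ^ 2))
          ≤ F.natDegree := by
        refine (MvPolynomial.degreeOf_sub_le _ _ _).trans (max_le b4 ?_)
        rw [MvPolynomial.degreeOf_C]; omega
      have b6 : MvPolynomial.degreeOf (1 : Fin 2) (S * T - MvPolynomial.C (F.coeff 0 ^ 2) - U)
          ≤ F.natDegree :=
        (MvPolynomial.degreeOf_sub_le _ _ _).trans (max_le b5 b3)
      have b7 : MvPolynomial.degreeOf (1 : Fin 2) G ≤ F.natDegree := by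
        rw [hG]
        refine (MvPolynomial.degreeOf_add_le _ _ _).trans (max_le b6 ?_)
        rw [MvPolynomial.degreeOf_C]; omega
      omega
    by_contra hne
    have hmem : m ∈ G.support := MvPolynomial.mem_support_iff.mpr hne
    have := (MvPolynomial.degreeOf_lt_iff (by omega : 0 < p)).mp hdG m hmem
    omega
  -- coefficient of X 1 * D G vanishes where the coefficient of G does
  have hXD : ∀ m : Fin 2 →₀ ℕ, MvPolynomial.coeff m G = 0 →
      MvPolynomial.coeff m (MvPolynomial.X 1 * MvPolynomial.pderiv (1 : Fin 2) G) = 0 := by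
    intro m hm
    rw [MvPolynomial.coeff_X_mul']
    split_ifs with h
    · rw [MvPolynomial.coeff_pderiv]
      have hle : Finsupp.single (1 : Fin 2) 1 ≤ m := by
        rw [Finsupp.single_le_iff]
        exact Nat.one_le_iff_ne_zero.mpr (Finsupp.mem_support_iff.mp h)
      rw [tsub_add_cancel_of_le hle, hm, zero_mul]
    · rfl
  -- induction
  have hZ : ∀ j : ℕ, ∀ m : Fin 2 →₀ ℕ, m 1 = j → MvPolynomial.coeff m G = 0 := by
    intro j
    induction j with
    | zero =>
      intro m hm
      obtain ⟨H, hH⟩ := hdvd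
      rw [hH, MvPolynomial.coeff_X_mul', if_neg]
      rw [Finsupp.mem_support_iff, hm]; exact fun h => h rfl
    | succ j ih =>
      intro m hm
      by_cases hjp : j + 1 < p
      · have hle : Finsupp.single (1 : Fin 2) 1 ≤ m := by
          rw [Finsupp.single_le_iff, hm]; omega
        set m' := m - Finsupp.single (1 : Fin 2) 1 with hm'
        have hmm : m' + Finsupp.single (1 : Fin 2) 1 = m := tsub_add_cancel_of_le hle
        have hm'1 : m' 1 = j := by
          rw [hm', Finsupp.tsub_apply, Finsupp.single_eq_same, hm]; omega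
        have h0 : MvPolynomial.coeff m' G = 0 := ih m' hm'1
        have := congrArg (MvPolynomial.coeff m') hmain
        rw [add_mul, one_mul, mul_assoc, MvPolynomial.coeff_add, MvPolynomial.coeff_C_mul,
          hXD m' h0, mul_zero, add_zero, MvPolynomial.coeff_C_mul, h0, mul_zero,
          MvPolynomial.coeff_pderiv, hmm, hm'1] at this
        have hcast : ((j : A) + 1) = ((j + 1 : ℕ) : A) := by push_cast; ring
        rw [hcast] at this
        exact (hunit (j + 1) (by omega) hjp).mul_left_eq_zero.mp this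
      · exact hdeg m (by omega)
  rw [MvPolynomial.eq_zero_iff]
  intro m
  exact hZ (m 1) m rfl

theorem main13156 (A : Type u) [CommRing A] (p : ℕ) [Fact p.Prime]
    (hu : IsUnit ((Nat.factorial (p - 1) : ℕ) : A)) (μ : A) (F : A[X]) (hF : F.natDegree < p) :
    (Polynomial.aeval (MvPolynomial.X 0 : MvPolynomial (Fin 2) A) F *
          Polynomial.aeval (MvPolynomial.X 1 : MvPolynomial (Fin 2) A) F - MvPolynomial.C (F.coeff 0 ^ 2) =
        Polynomial.aeval (MvPolynomial.X 0 + MvPolynomial.X 1 +
            MvPolynomial.C μ * MvPolynomial.X 0 * MvPolynomial.X 1 : MvPolynomial (Fin 2) A) F -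
          MvPolynomial.C (F.coeff 0)) ↔
      F * Polynomial.C (F.coeff 1) = Polynomial.derivative F * (1 + Polynomial.C μ * Polynomial.X) :=
  ⟨fun h => forward μ F h, fun h => backward p hu μ F hF h⟩

end Groth.Agent.Lib.FGroupODEH1
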