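import Mathlib

/-!
# Inverse limits of nonempty finite sets over a directed preorder

Plain-function formulation of `nonempty_sections_of_finite_inverse_system`.
-/

namespace Groth.Agent.Lib.FinInvLim

open CategoryTheory

universe u v

theorem exists_compatible {J : Type u} [Preorder J] [IsDirectedOrder J]
    (X : J → Type v) [∀ j, Finite (X j)] [∀ j, Nonempty (X j)]
    (π : ∀ {i j : J}, i ≤ j → X j → X i)
    (hid : ∀ (i : J) (x : X i), π (le_refl i) x = x)
    (hcomp : ∀ {i j k : J} (h1 : i ≤ j) (h2 : j ≤ k) (x : X k),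
      π h1 (π h2 x) = π (h1.trans h2) x) :
    ∃ s : ∀ j, X j, ∀ (i j : J) (h : i ≤ j), π h (s j) = s i := by
  let F : Jᵒᵖ ⥤ Type v :=
    { obj := fun j => X j.unop
      map := fun {j k} f => ↾(π (leOfHom f.unop))
      map_id := by
        intro j
        ext x
        exact hid _ x
      map_comp := by
        intro a b c f g
        ext x
        exact (hcomp _ _ x).symm }
  haveI : ∀ j : Jᵒᵖ, Finite (F.obj j) := fun j => inferInstanceAs (Finite (X j.unop))
  haveI : ∀ j : Jᵒᵖ, Nonempty (F.obj j) := fun j => inferInstanceAs (Nonempty (X j.unop))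
  obtain ⟨s, hs⟩ := nonempty_sections_of_finite_inverse_system F
  refine ⟨fun j => s (Opposite.op j), fun i j h => ?_⟩
  exact hs (homOfLE h).op

end Groth.Agent.Lib.FinInvLim
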