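import Mathlib
import Groth.Prelude.Def_W4c61motalbdualityCompl
import Groth.Agent.Lib.FinInvLim_lead

/-!
# Right exactness of the completion with respect to open subgroups of finite index
-/

namespace Groth.Agent.Lib.FIComplExact

open W4c61motalbduality

universe u v w

section Order

variable {B : Type v} [AddCommGroup B] [TopologicalSpace B]

instance : Preorder (OpenFI B) where
  le V V' := V'.toAddSubgroup ≤ V.toAddSubgroup
  le_refl V := le_refl V.toAddSubgroup
  le_trans _ _ _ h1 h2 := le_trans h2 h1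

theorem le_def' (V V' : OpenFI B) : V ≤ V' ↔ V'.toAddSubgroup ≤ V.toAddSubgroup := Iff.rfl

/-- intersection of two open subgroups of finite index -/
def inf (V V' : OpenFI B) : OpenFI B where
  toAddSubgroup := V.toAddSubgroup ⊓ V'.toAddSubgroup
  isOpen' := by
    rw [AddSubgroup.coe_inf]
    exact V.isOpen'.inter V'.isOpen'
  finiteIndex' := by
    haveI := V.finiteIndex'
    haveI := V'.finiteIndex'
    infer_instance

/-- the whole group -/
def top : OpenFI B where
  toAddSubgroup := ⊤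
  isOpen' := by simp
  finiteIndex' := inferInstance

instance : IsDirectedOrder (OpenFI B) :=
  ⟨fun V V' => ⟨inf V V',
    (inf_le_left : V.toAddSubgroup ⊓ V'.toAddSubgroup ≤ V.toAddSubgroup),
    (inf_le_right : V.toAddSubgroup ⊓ V'.toAddSubgroup ≤ V'.toAddSubgroup)⟩⟩

instance (V : OpenFI B) : Finite (B ⧸ V.toAddSubgroup) := by
  haveI := V.finiteIndex'
  exact AddSubgroup.finite_quotient_of_finiteIndex

variable {C : Type w} [AddCommGroup C] [TopologicalSpace C]

/-- image of an open subgroup of finite index under an open surjection -/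
abbrev mapP (p : B →+ C) (hpo : IsOpenMap p) (hps : Function.Surjective p) (V : OpenFI B) :
    OpenFI C where
  toAddSubgroup := V.toAddSubgroup.map p
  isOpen' := by
    rw [AddSubgroup.coe_map]
    exact hpo _ V.isOpen'
  finiteIndex' :=
    ⟨ne_zero_of_dvd_ne_zero V.finiteIndex'.index_ne_zero (AddSubgroup.index_map_dvd _ hps)⟩

end Order

section Surj

variable {B : Type v} {C : Type w}
  [AddCommGroup B] [TopologicalSpace B]
  [AddCommGroup C] [TopologicalSpace C]

theorem surjective_map (p : B →+ C) (hp : Continuous p)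
    (hpo : IsOpenMap p) (hps : Function.Surjective p) :
    Function.Surjective (FICompl.map p hp) := by
  intro c
  let X : OpenFI B → Type v := fun V =>
    {β : B ⧸ V.toAddSubgroup // QuotientAddGroup.map V.toAddSubgroup (V.toAddSubgroup.map p) p
      (AddSubgroup.le_comap_map p _) β = c.1 (mapP p hpo hps V)}
  haveI : ∀ V, Finite (X V) := fun V => Subtype.finite
  haveI : ∀ V, Nonempty (X V) := by
    intro V
    obtain ⟨y, hy⟩ := QuotientAddGroup.mk_surjective (c.1 (mapP p hpo hps V))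
    obtain ⟨x, rfl⟩ := hps y
    exact ⟨⟨QuotientAddGroup.mk x, by rw [QuotientAddGroup.map_mk]; exact hy⟩⟩
  let π : ∀ {V V' : OpenFI B}, V ≤ V' → X V' → X V := fun {V V'} h β =>
    ⟨QuotientAddGroup.map V'.toAddSubgroup V.toAddSubgroup (AddMonoidHom.id B) h β.1, by
      obtain ⟨β, hβ⟩ := β
      obtain ⟨x, rfl⟩ := QuotientAddGroup.mk_surjective β
      rw [QuotientAddGroup.map_mk] at hβ
      have hc := c.2 (mapP p hpo hps V') (mapP p hpo hps V) (AddSubgroup.map_mono h)
      rw [← hβ, QuotientAddGroup.map_mk] at hc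
      simp only [QuotientAddGroup.map_mk, AddMonoidHom.id_apply] at hc ⊢
      exact hc⟩
  have hid : ∀ (V : OpenFI B) (x : X V), π (le_refl V) x = x := by
    intro V x
    obtain ⟨β, hβ⟩ := x
    obtain ⟨x, rfl⟩ := QuotientAddGroup.mk_surjective β
    apply Subtype.ext
    simp only [π, QuotientAddGroup.map_mk, AddMonoidHom.id_apply]
  have hcomp : ∀ {V V' V'' : OpenFI B} (h1 : V ≤ V') (h2 : V' ≤ V'') (x : X V''),
      π h1 (π h2 x) = π (h1.trans h2) x := by
    intro V V' V'' h1 h2 x
    obtain ⟨β, hβ⟩ := x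
    obtain ⟨x, rfl⟩ := QuotientAddGroup.mk_surjective β
    apply Subtype.ext
    simp only [π, QuotientAddGroup.map_mk, AddMonoidHom.id_apply]
  obtain ⟨s, hs⟩ := Groth.Agent.Lib.FinInvLim.exists_compatible X (fun {V V'} h => π h) hid hcomp
  refine ⟨⟨fun V => (s V).1, ?_⟩, ?_⟩
  · intro U V h
    exact congrArg Subtype.val (hs V U h)
  · apply Subtype.ext
    funext W
    show QuotientAddGroup.map (W.comap p hp).toAddSubgroup W.toAddSubgroup p (W.comap_le p)
      (s (W.comap p hp)).1 = c.1 W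
    have h2 := (s (W.comap p hp)).2
    obtain ⟨x, hx⟩ := QuotientAddGroup.mk_surjective (s (W.comap p hp)).1
    rw [← hx] at h2 ⊢
    rw [QuotientAddGroup.map_mk] at h2 ⊢
    have hc := c.2 (mapP p hpo hps (W.comap p hp)) W (AddSubgroup.map_comap_le p _)
    rw [← h2, QuotientAddGroup.map_mk] at hc
    simpa using hc

end Surj

section Exact

variable {A : Type u} {B : Type v} {C : Type w}
  [AddCommGroup A] [TopologicalSpace A]
  [AddCommGroup B] [TopologicalSpace B]
  [AddCommGroup C] [TopologicalSpace C]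

theorem range_le_ker (i : A →+ B) (hi : Continuous i) (p : B →+ C) (hp : Continuous p)
    (hex : p.ker = i.range) :
    (FICompl.map i hi).range ≤ (FICompl.map p hp).ker := by
  rintro _ ⟨a, rfl⟩
  rw [AddMonoidHom.mem_ker]
  apply Subtype.ext
  funext W
  show QuotientAddGroup.map (W.comap p hp).toAddSubgroup W.toAddSubgroup p (W.comap_le p)
    (QuotientAddGroup.map ((W.comap p hp).comap i hi).toAddSubgroup (W.comap p hp).toAddSubgroup i
      ((W.comap p hp).comap_le i) (a.1 ((W.comap p hp).comap i hi))) = 0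
  obtain ⟨x, hx⟩ := QuotientAddGroup.mk_surjective (a.1 ((W.comap p hp).comap i hi))
  rw [← hx, QuotientAddGroup.map_mk, QuotientAddGroup.map_mk]
  have : p (i x) = 0 := by
    have : i x ∈ p.ker := by rw [hex]; exact ⟨x, rfl⟩
    exact this
  rw [this]
  rfl

theorem ker_le_range (i : A →+ B) (hi : Continuous i) (p : B →+ C) (hp : Continuous p)
    (hpo : IsOpenMap p) (hps : Function.Surjective p) (hex : p.ker = i.range) :
    (FICompl.map p hp).ker ≤ (FICompl.map i hi).range := by
  intro b hb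
  rw [AddMonoidHom.mem_ker] at hb
  -- key fact
  have key : ∀ V : OpenFI B, ∃ a : A, b.1 V = QuotientAddGroup.mk (i a) := by
    intro V
    have hW := congrFun (congrArg Subtype.val hb) (mapP p hpo hps V)
    change QuotientAddGroup.map (((mapP p hpo hps V)).comap p hp).toAddSubgroup
      (mapP p hpo hps V).toAddSubgroup p ((mapP p hpo hps V).comap_le p)
      (b.1 ((mapP p hpo hps V).comap p hp)) = 0 at hW
    have hb2 := b.2 V ((mapP p hpo hps V).comap p hp) (AddSubgroup.le_comap_map p _)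
    obtain ⟨x, hx⟩ := QuotientAddGroup.mk_surjective (b.1 V)
    rw [← hx, QuotientAddGroup.map_mk, AddMonoidHom.id_apply] at hb2
    rw [← hb2, QuotientAddGroup.map_mk, QuotientAddGroup.eq_zero_iff] at hW
    obtain ⟨v, hv, hpv⟩ := hW
    have hmem : x - v ∈ p.ker := by
      rw [AddMonoidHom.mem_ker, map_sub, hpv, sub_self]
    rw [hex] at hmem
    obtain ⟨a, ha⟩ := hmem
    refine ⟨a, ?_⟩
    rw [← hx, ha, QuotientAddGroup.eq]
    have : -x + (x - v) = -v := by abel
    rw [this]
    exact neg_mem hv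
  let J : Type (max u v) :=
    {UV : OpenFI A × OpenFI B // UV.1.toAddSubgroup ≤ UV.2.toAddSubgroup.comap i}
  haveI : IsDirectedOrder J :=
    ⟨fun j j' => ⟨⟨(inf j.1.1 j'.1.1, inf j.1.2 j'.1.2), fun x hx =>
        AddSubgroup.mem_comap.mpr (AddSubgroup.mem_inf.mpr
          ⟨j.2 (AddSubgroup.mem_inf.mp hx).1, j'.2 (AddSubgroup.mem_inf.mp hx).2⟩)⟩,
      ⟨(inf_le_left : j.1.1.toAddSubgroup ⊓ j'.1.1.toAddSubgroup ≤ _),
        (inf_le_left : j.1.2.toAddSubgroup ⊓ j'.1.2.toAddSubgroup ≤ _)⟩,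
      ⟨(inf_le_right : j.1.1.toAddSubgroup ⊓ j'.1.1.toAddSubgroup ≤ _),
        (inf_le_right : j.1.2.toAddSubgroup ⊓ j'.1.2.toAddSubgroup ≤ _)⟩⟩⟩
  let X : J → Type u := fun j =>
    {α : A ⧸ j.1.1.toAddSubgroup //
      QuotientAddGroup.map j.1.1.toAddSubgroup j.1.2.toAddSubgroup i j.2 α = b.1 j.1.2}
  haveI : ∀ j, Finite (X j) := fun j => Subtype.finite
  haveI : ∀ j, Nonempty (X j) := by
    intro j
    obtain ⟨a, ha⟩ := key j.1.2
    exact ⟨⟨QuotientAddGroup.mk a, by rw [QuotientAddGroup.map_mk]; exact ha.symm⟩⟩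
  let π : ∀ {j j' : J}, j ≤ j' → X j' → X j := fun {j j'} h α =>
    ⟨QuotientAddGroup.map j'.1.1.toAddSubgroup j.1.1.toAddSubgroup (AddMonoidHom.id A) h.1 α.1, by
      obtain ⟨α, hα⟩ := α
      obtain ⟨x, rfl⟩ := QuotientAddGroup.mk_surjective α
      rw [QuotientAddGroup.map_mk] at hα
      have hc := b.2 j'.1.2 j.1.2 h.2
      rw [← hα, QuotientAddGroup.map_mk] at hc
      simp only [QuotientAddGroup.map_mk, AddMonoidHom.id_apply] at hc ⊢
      exact hc⟩
  have hid : ∀ (j : J) (x : X j), π (le_refl j) x = x := by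
    intro j x
    obtain ⟨β, hβ⟩ := x
    obtain ⟨x, rfl⟩ := QuotientAddGroup.mk_surjective β
    apply Subtype.ext
    simp only [π, QuotientAddGroup.map_mk, AddMonoidHom.id_apply]
  have hcomp : ∀ {j j' j'' : J} (h1 : j ≤ j') (h2 : j' ≤ j'') (x : X j''),
      π h1 (π h2 x) = π (h1.trans h2) x := by
    intro j j' j'' h1 h2 x
    obtain ⟨β, hβ⟩ := x
    obtain ⟨x, rfl⟩ := QuotientAddGroup.mk_surjective β
    apply Subtype.ext
    simp only [π, QuotientAddGroup.map_mk, AddMonoidHom.id_apply]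
  obtain ⟨s, hs⟩ := Groth.Agent.Lib.FinInvLim.exists_compatible X (fun {j j'} h => π h) hid hcomp
  let jt : OpenFI A → J := fun U => ⟨(U, top), fun x _ => AddSubgroup.mem_comap.mpr (AddSubgroup.mem_top _)⟩
  refine ⟨⟨fun U => (s (jt U)).1, ?_⟩, ?_⟩
  · intro U U' h
    have hle : jt U' ≤ jt U := ⟨h, le_refl (top : OpenFI B)⟩
    exact congrArg Subtype.val (hs (jt U') (jt U) hle)
  · apply Subtype.ext
    funext V
    show QuotientAddGroup.map (V.comap i hi).toAddSubgroup V.toAddSubgroup i (V.comap_le i)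
      (s (jt (V.comap i hi))).1 = b.1 V
    let j1 : J := ⟨(V.comap i hi, V), le_refl _⟩
    have hle : jt (V.comap i hi) ≤ j1 :=
      ⟨le_refl (V.comap i hi), (le_top : V.toAddSubgroup ≤ ⊤)⟩
    have h1 := congrArg Subtype.val (hs (jt (V.comap i hi)) j1 hle)
    have h2 := (s j1).2
    obtain ⟨x, hx⟩ := QuotientAddGroup.mk_surjective (s j1).1
    rw [← hx] at h2
    simp only [π] at h1
    rw [← hx, QuotientAddGroup.map_mk, AddMonoidHom.id_apply] at h1
    rw [← h1, QuotientAddGroup.map_mk]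
    rw [QuotientAddGroup.map_mk] at h2
    exact h2

end Exact

end Groth.Agent.Lib.FIComplExact
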