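import Mathlib
import Groth.Prelude.Def_W4c1liftfrobW2

set_option autoImplicit false
set_option maxHeartbeats 1000000

namespace Groth.Agent.Lib.SplitW2H1

open WittVector FrobAlg TensorProduct

universe u

/-- Flatness criterion over a ring whose only ideals are `0`, `(ϖ)`, `(1)` with `ϖ² = 0`. -/
theorem flat_of_three_ideals {R : Type*} {M : Type*} [CommRing R] [AddCommGroup M] [Module R M]
    (ϖ : R) (h2 : ϖ * ϖ = 0)
    (hI : ∀ I : Ideal R, I = ⊥ ∨ I = Ideal.span {ϖ} ∨ I = ⊤)
    (hM : ∀ m : M, ϖ • m = 0 → ∃ m', m = ϖ • m') : Module.Flat R M := by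
  rw [Module.Flat.iff_lift_lsmul_comp_subtype_injective]
  intro I _
  obtain ⟨a, haI, hgen, hker⟩ : ∃ a : R, ∃ haI : a ∈ I, (∀ x ∈ I, ∃ r, x = r * a) ∧
      (∀ m : M, a • m = 0 → (⟨a, haI⟩ : I) ⊗ₜ[R] m = 0) := by
    rcases hI I with rfl | rfl | rfl
    · refine ⟨0, Submodule.zero_mem _, ?_, ?_⟩
      · intro x hx
        refine ⟨0, ?_⟩
        rw [zero_mul]
        simpa using hx
      · intro m _
        have h0 : (⟨0, Submodule.zero_mem _⟩ : (⊥ : Ideal R)) = 0 := rfl
        rw [h0, TensorProduct.zero_tmul]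
    · refine ⟨ϖ, Ideal.mem_span_singleton_self ϖ, ?_, ?_⟩
      · intro x hx
        obtain ⟨r, hr⟩ := Ideal.mem_span_singleton'.1 hx
        exact ⟨r, hr.symm⟩
      · intro m hm
        obtain ⟨m', rfl⟩ := hM m hm
        rw [← TensorProduct.smul_tmul]
        have h0 : ϖ • (⟨ϖ, Ideal.mem_span_singleton_self ϖ⟩ : Ideal.span {ϖ}) = 0 :=
          Subtype.ext (by simp [h2])
        rw [h0, TensorProduct.zero_tmul]
    · refine ⟨1, Submodule.mem_top, ?_, ?_⟩
      · intro x _
        exact ⟨x, (mul_one x).symm⟩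
      · intro m hm
        rw [one_smul] at hm
        rw [hm, TensorProduct.tmul_zero]
  have hform : ∀ z : I ⊗[R] M, ∃ m, z = (⟨a, haI⟩ : I) ⊗ₜ[R] m := by
    intro z
    induction z using TensorProduct.induction_on with
    | zero => exact ⟨0, (TensorProduct.tmul_zero _ _).symm⟩
    | tmul x m =>
      obtain ⟨r, hr⟩ := hgen x x.2
      refine ⟨r • m, ?_⟩
      rw [← TensorProduct.smul_tmul]
      congr 1
      exact Subtype.ext (by simp [hr])
    | add z w hz hw =>
      obtain ⟨m, rfl⟩ := hz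
      obtain ⟨m', rfl⟩ := hw
      exact ⟨m + m', (TensorProduct.tmul_add _ _ _).symm⟩
  rw [injective_iff_map_eq_zero]
  intro z hz
  obtain ⟨m, rfl⟩ := hform z
  apply hker
  simpa using hz

section basics

variable (p : ℕ) [Fact p.Prime] {R : Type*} [CommRing R]

theorem ext2 {x y : W2 p R} (h0 : x.coeff 0 = y.coeff 0) (h1 : x.coeff 1 = y.coeff 1) : x = y :=
  TruncatedWittVector.ext (Fin.forall_fin_two.2 ⟨h0, h1⟩)

theorem coeff_T0 (X : WittVector p R) :
    (WittVector.truncate 2 X : W2 p R).coeff 0 = X.coeff 0 := WittVector.coeff_truncate X 0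

theorem coeff_T1 (X : WittVector p R) :
    (WittVector.truncate 2 X : W2 p R).coeff 1 = X.coeff 1 := WittVector.coeff_truncate X 1

theorem coeff0_add (x y : W2 p R) : (x + y).coeff 0 = x.coeff 0 + y.coeff 0 := by
  have := map_add (FrobAlg.res p R) x y
  simpa only [FrobAlg.res_apply] using this

theorem coeff0_sub (x y : W2 p R) : (x - y).coeff 0 = x.coeff 0 - y.coeff 0 := by
  have := map_sub (FrobAlg.res p R) x y
  simpa only [FrobAlg.res_apply] using this

theorem coeff0_mul (x y : W2 p R) : (x * y).coeff 0 = x.coeff 0 * y.coeff 0 := by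
  have := map_mul (FrobAlg.res p R) x y
  simpa only [FrobAlg.res_apply] using this

theorem coeff0_one : (1 : W2 p R).coeff 0 = 1 := by
  have := map_one (FrobAlg.res p R)
  simpa only [FrobAlg.res_apply] using this

theorem exists_versch (X : WittVector p R) (h : X.coeff 0 = 0) :
    ∃ X' : WittVector p R, X = verschiebung X' := by
  refine ⟨X.shift 1, ?_⟩
  have := WittVector.eq_iterate_verschiebung (x := X) (n := 1) (fun i hi => by
    obtain rfl : i = 0 := by omega
    exact h)
  simpa using this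

theorem coeff1_add (x y : W2 p R) (hx : x.coeff 0 = 0) (hy : y.coeff 0 = 0) :
    (x + y).coeff 1 = x.coeff 1 + y.coeff 1 := by
  obtain ⟨X, rfl⟩ := WittVector.truncate_surjective p 2 R x
  obtain ⟨Y, rfl⟩ := WittVector.truncate_surjective p 2 R y
  rw [coeff_T0] at hx hy
  obtain ⟨X', rfl⟩ := exists_versch p X hx
  obtain ⟨Y', rfl⟩ := exists_versch p Y hy
  rw [← map_add (WittVector.truncate 2), ← map_add verschiebung, coeff_T1, coeff_T1, coeff_T1]
  exact WittVector.add_coeff_zero X' Y'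

variable [CharP R p]

theorem coeff1_mul (z x : W2 p R) (hx : x.coeff 0 = 0) :
    (z * x).coeff 1 = z.coeff 0 ^ p * x.coeff 1 := by
  obtain ⟨Z, rfl⟩ := WittVector.truncate_surjective p 2 R z
  obtain ⟨X, rfl⟩ := WittVector.truncate_surjective p 2 R x
  rw [coeff_T0] at hx
  obtain ⟨X', rfl⟩ := exists_versch p X hx
  rw [← map_mul (WittVector.truncate 2), coeff_T1, coeff_T1, coeff_T0, mul_comm Z,
    ← verschiebung_mul_frobenius]
  have h1 : ∀ W : WittVector p R, (verschiebung W).coeff 1 = W.coeff 0 := fun W => rfl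
  rw [h1, h1, WittVector.mul_coeff_zero, WittVector.coeff_frobenius_charP, mul_comm]

theorem coeff0_p : ((p : ℕ) : W2 p R).coeff 0 = 0 := by
  rw [← map_natCast (WittVector.truncate (p := p) (R := R) 2) p, coeff_T0]
  exact WittVector.coeff_p_zero p R

theorem coeff1_p : ((p : ℕ) : W2 p R).coeff 1 = 1 := by
  rw [← map_natCast (WittVector.truncate (p := p) (R := R) 2) p, coeff_T1]
  exact WittVector.coeff_p_one p R

theorem coeff0_mul_p (c : W2 p R) : (c * (p : W2 p R)).coeff 0 = 0 := by
  rw [coeff0_mul, coeff0_p, mul_zero]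

theorem coeff1_mul_p (c : W2 p R) : (c * (p : W2 p R)).coeff 1 = c.coeff 0 ^ p := by
  rw [coeff1_mul p c _ (coeff0_p p), coeff1_p, mul_one]

theorem p_mul_p : ((p : ℕ) : W2 p R) * (p : W2 p R) = 0 := by
  apply ext2
  · rw [coeff0_mul_p, TruncatedWittVector.coeff_zero]
  · rw [coeff1_mul_p, coeff0_p, zero_pow (Fact.out : p.Prime).ne_zero,
      TruncatedWittVector.coeff_zero]

/-- The Teichmüller-type lift. -/
noncomputable def tau (a : R) : W2 p R := WittVector.truncate 2 (WittVector.teichmuller p a)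

theorem tau_coeff0 (a : R) : (tau p a).coeff 0 = a := by
  rw [tau, coeff_T0, WittVector.teichmuller_coeff_zero]

end basics

section field

variable (p : ℕ) [Fact p.Prime] (k : Type*) [Field k] [CharP k p]

theorem isUnit_of_coeff0_ne_zero (x : W2 p k) (h : x.coeff 0 ≠ 0) : IsUnit x := by
  set y : W2 p k := tau p (x.coeff 0)⁻¹ with hy
  have hxy0 : (x * y - 1).coeff 0 = 0 := by
    rw [coeff0_sub, coeff0_mul, coeff0_one, hy, tau_coeff0, mul_inv_cancel₀ h, sub_self]
  have hnn : (x * y - 1) * (x * y - 1) = 0 := by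
    apply ext2
    · rw [coeff0_mul, hxy0, mul_zero, TruncatedWittVector.coeff_zero]
    · rw [coeff1_mul p _ _ hxy0, hxy0, zero_pow (Fact.out : p.Prime).ne_zero, zero_mul,
        TruncatedWittVector.coeff_zero]
  have hnil : IsNilpotent (x * y - 1) := ⟨2, by rw [pow_two]; exact hnn⟩
  have hu : IsUnit (x * y) := by
    have := hnil.isUnit_one_add
    rwa [add_sub_cancel] at this
  exact isUnit_of_mul_isUnit_left hu

variable [PerfectRing k p]

theorem exists_eq_mul_p (x : W2 p k) (h : x.coeff 0 = 0) :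
    ∃ c : W2 p k, x = c * (p : W2 p k) ∧ c.coeff 0 ^ p = x.coeff 1 := by
  obtain ⟨r, hr⟩ := surjective_frobenius k p (x.coeff 1)
  rw [frobenius_def] at hr
  refine ⟨tau p r, ?_, by rw [tau_coeff0, hr]⟩
  apply ext2
  · rw [coeff0_mul_p, h]
  · rw [coeff1_mul_p, tau_coeff0, hr]

theorem ideal_cases (I : Ideal (W2 p k)) :
    I = ⊥ ∨ I = Ideal.span {((p : ℕ) : W2 p k)} ∨ I = ⊤ := by
  by_cases h1 : ∃ x ∈ I, x.coeff 0 ≠ 0
  · obtain ⟨x, hxI, hx⟩ := h1
    right; right
    exact Ideal.eq_top_of_isUnit_mem I hxI (isUnit_of_coeff0_ne_zero p k x hx)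
  · simp only [not_exists, not_and, ne_eq, not_not] at h1
    by_cases h2 : I = ⊥
    · left; exact h2
    · right; left
      obtain ⟨x, hxI, hx0⟩ := Submodule.exists_mem_ne_zero_of_ne_bot h2
      obtain ⟨c, hc, hc1⟩ := exists_eq_mul_p p k x (h1 x hxI)
      have hcu : IsUnit c := by
        apply isUnit_of_coeff0_ne_zero
        intro h0
        apply hx0
        rw [h0, zero_pow (Fact.out : p.Prime).ne_zero] at hc1
        exact ext2 p (by rw [h1 x hxI, TruncatedWittVector.coeff_zero])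
          (by rw [← hc1, TruncatedWittVector.coeff_zero])
      apply le_antisymm
      · intro y hy
        obtain ⟨d, hd, _⟩ := exists_eq_mul_p p k y (h1 y hy)
        rw [hd]
        exact Ideal.mul_mem_left _ _ (Ideal.mem_span_singleton_self _)
      · rw [Ideal.span_singleton_le_iff_mem]
        have : ((p : ℕ) : W2 p k) = ↑hcu.unit⁻¹ * x := by
          rw [hc, ← mul_assoc, IsUnit.val_inv_mul, one_mul]
        rw [this]
        exact I.mul_mem_left _ hxI

end field

section split

variable (p : ℕ) [Fact p.Prime] {A : Type u} [CommRing A] [CharP A p] (φ : A →+ A)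
  (hφ : ∀ a b : A, φ (a ^ p * b) = a * φ b) (hφ1 : φ 1 = 1)

include hφ in
theorem mem_splitIdeal_iff (x : W2 p A) :
    x ∈ splitIdeal p A φ ↔ x.coeff 0 = 0 ∧ φ (x.coeff 1) = 0 := by
  constructor
  · intro hx
    unfold splitIdeal at hx
    induction hx using Submodule.span_induction with
    | mem y hy => exact ⟨by simpa only [FrobAlg.res_apply] using hy.1, hy.2⟩
    | zero => exact ⟨by rw [TruncatedWittVector.coeff_zero], by
        rw [TruncatedWittVector.coeff_zero, map_zero]⟩
    | add y z _ _ hy hz =>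
      exact ⟨by rw [coeff0_add, hy.1, hz.1, add_zero],
        by rw [coeff1_add p y z hy.1 hz.1, map_add, hy.2, hz.2, add_zero]⟩
    | smul a y _ hy =>
      rw [smul_eq_mul]
      exact ⟨by rw [coeff0_mul, hy.1, mul_zero],
        by rw [coeff1_mul p a y hy.1, hφ, hy.2, mul_zero]⟩
  · intro hx
    exact Ideal.subset_span ⟨by simpa only [FrobAlg.res_apply] using hx.1, hx.2⟩

include hφ hφ1 in
theorem phi_pow (a : A) : φ (a ^ p) = a := by
  have := hφ a 1
  rwa [mul_one, hφ1, mul_one] at this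

include hφ hφ1 in
theorem sub_mul_p_mem (x : W2 p A) (hx : x.coeff 0 = 0) :
    ∃ c : W2 p A, x - c * (p : W2 p A) ∈ splitIdeal p A φ := by
  set c : W2 p A := tau p (φ (x.coeff 1)) with hc
  have hy0 : (c * (p : W2 p A)).coeff 0 = 0 := coeff0_mul_p p c
  have hy1 : (c * (p : W2 p A)).coeff 1 = φ (x.coeff 1) ^ p := by
    rw [coeff1_mul_p, hc, tau_coeff0]
  have hd0 : (x - c * (p : W2 p A)).coeff 0 = 0 := by
    rw [coeff0_sub, hx, hy0, sub_zero]
  have hd1 : (x - c * (p : W2 p A)).coeff 1 = x.coeff 1 - φ (x.coeff 1) ^ p := by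
    have := coeff1_add p (x - c * (p : W2 p A)) (c * (p : W2 p A)) hd0 hy0
    rw [sub_add_cancel, hy1] at this
    rw [eq_sub_iff_add_eq]
    exact this.symm
  refine ⟨c, (mem_splitIdeal_iff p φ hφ _).2 ⟨hd0, ?_⟩⟩
  rw [hd1, map_sub, phi_pow p φ hφ hφ1, sub_self]

theorem splitRes_mk (x : W2 p A) :
    splitRes p A φ (Ideal.Quotient.mk (splitIdeal p A φ) x) = x.coeff 0 := by
  simp only [splitRes, Ideal.Quotient.lift_mk, FrobAlg.res_apply]

end split

theorem main13147
    (p : ℕ) [Fact p.Prime] (k : Type u) [Field k] [CharP k p] [PerfectRing k p]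
    (A : Type u) [CommRing A] [Algebra k A] (φ : A →+ A)
    (hφ : ∀ a b : A, φ (a ^ p * b) = a * φ b) (hφ1 : φ 1 = 1) :
    FrobAlg.IsLift p k A (FrobAlg.W2 p A ⧸ FrobAlg.splitIdeal p A φ)
      ((Ideal.Quotient.mk (FrobAlg.splitIdeal p A φ)).comp (WittGrp.truncMap p 2 (algebraMap k A)))
      (FrobAlg.splitRes p A φ) := by
  rcases subsingleton_or_nontrivial A with hA | hA
  · haveI : Subsingleton (W2 p A) :=
      ⟨fun x y => TruncatedWittVector.ext fun i => Subsingleton.elim _ _⟩
    haveI : Subsingleton (W2 p A ⧸ splitIdeal p A φ) :=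
      (Ideal.Quotient.mk_surjective (I := splitIdeal p A φ)).subsingleton
    refine ⟨?_, ?_, ?_, ?_⟩
    · letI := ((Ideal.Quotient.mk (FrobAlg.splitIdeal p A φ)).comp
        (WittGrp.truncMap p 2 (algebraMap k A))).toAlgebra
      exact (inferInstance : Module.Flat (W2 p k) (W2 p A ⧸ splitIdeal p A φ))
    · intro a
      exact ⟨0, Subsingleton.elim _ _⟩
    · ext b
      rw [Subsingleton.elim b 0]
      simp
    · ext x
      exact Subsingleton.elim _ _
  · haveI : CharP A p := charP_of_injective_algebraMap (algebraMap k A).injective p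
    set J := splitIdeal p A φ with hJ
    set ι : W2 p k →+* W2 p A ⧸ J :=
      (Ideal.Quotient.mk J).comp (WittGrp.truncMap p 2 (algebraMap k A)) with hι
    have hιp : ι ((p : ℕ) : W2 p k) = Ideal.Quotient.mk J ((p : ℕ) : W2 p A) := by
      rw [map_natCast, map_natCast]
    have key : ∀ x : W2 p A, x.coeff 0 = 0 →
        ∃ c : W2 p A, Ideal.Quotient.mk J x = Ideal.Quotient.mk J c * ι ((p : ℕ) : W2 p k) := by
      intro x hx0
      obtain ⟨c, hc⟩ := sub_mul_p_mem p φ hφ hφ1 x hx0
      refine ⟨c, ?_⟩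
      rw [hιp, ← map_mul]
      exact Ideal.Quotient.eq.2 hc
    refine ⟨?_, ?_, ?_, ?_⟩
    · letI := ι.toAlgebra
      refine flat_of_three_ideals ((p : ℕ) : W2 p k) (p_mul_p p) (ideal_cases p k) ?_
      intro b hb
      obtain ⟨x, rfl⟩ := Ideal.Quotient.mk_surjective b
      have hb1 : ι ((p : ℕ) : W2 p k) * Ideal.Quotient.mk J x = 0 := hb
      rw [hιp, ← map_mul, Ideal.Quotient.eq_zero_iff_mem, mem_splitIdeal_iff p φ hφ] at hb1
      have h1 : (((p : ℕ) : W2 p A) * x).coeff 1 = x.coeff 0 ^ p := by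
        rw [mul_comm, coeff1_mul_p]
      have hx0 : x.coeff 0 = 0 := by
        have := hb1.2
        rwa [h1, phi_pow p φ hφ hφ1] at this
      obtain ⟨c, hc⟩ := key x hx0
      refine ⟨Ideal.Quotient.mk J c, ?_⟩
      rw [hc, mul_comm]
      rfl
    · intro a
      exact ⟨Ideal.Quotient.mk J (tau p a), by rw [splitRes_mk, tau_coeff0]⟩
    · apply le_antisymm
      · intro b hb
        obtain ⟨x, rfl⟩ := Ideal.Quotient.mk_surjective b
        rw [RingHom.mem_ker, splitRes_mk] at hb
        obtain ⟨c, hc⟩ := key x hb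
        rw [hc]
        apply Ideal.mul_mem_left
        apply Ideal.mem_map_of_mem
        rw [RingHom.mem_ker, FrobAlg.res_apply]
        exact coeff0_p p
      · rw [Ideal.map_le_iff_le_comap]
        intro x hx
        rw [RingHom.mem_ker, FrobAlg.res_apply] at hx
        rw [Ideal.mem_comap, RingHom.mem_ker]
        show splitRes p A φ (Ideal.Quotient.mk J (WittGrp.truncMap p 2 (algebraMap k A) x)) = 0
        rw [splitRes_mk, WittGrp.coeff_truncMap, hx, map_zero]
    · ext x
      show splitRes p A φ (Ideal.Quotient.mk J (WittGrp.truncMap p 2 (algebraMap k A) x))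
        = algebraMap k A (FrobAlg.res p k x)
      rw [splitRes_mk, WittGrp.coeff_truncMap, FrobAlg.res_apply]

end Groth.Agent.Lib.SplitW2H1
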