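import Mathlib
import Groth.Prelude.Def_W4c1liftfrobW2
import Groth.Agent.Lib.SplitW2_helper1

set_option autoImplicit false
set_option maxHeartbeats 1000000

namespace Groth.Agent.Lib.FrobLiftW2H1

open WittVector FrobAlg Groth.Agent.Lib.SplitW2H1

universe u

section pair

variable (p : ℕ) [Fact p.Prime] {R : Type*} [CommRing R]

/-- The Witt vector `(a, b, 0, 0, …)`. -/
noncomputable def pairW (a b : R) : WittVector p R :=
  WittVector.mk p (fun n => if n = 0 then a else if n = 1 then b else 0)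

theorem pairW_coeff (a b : R) (n : ℕ) :
    (pairW p a b).coeff n = if n = 0 then a else if n = 1 then b else 0 := rfl

theorem pairW_coeff0 (a b : R) : (pairW p a b).coeff 0 = a := by
  rw [pairW_coeff]; simp

theorem pairW_coeff1 (a b : R) : (pairW p a b).coeff 1 = b := by
  rw [pairW_coeff]; simp

noncomputable def pair (a b : R) : W2 p R := WittVector.truncate 2 (pairW p a b)

theorem pair_coeff0 (a b : R) : (pair p a b).coeff 0 = a := by
  rw [pair, coeff_T0, pairW_coeff0]

theorem pair_coeff1 (a b : R) : (pair p a b).coeff 1 = b := by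
  rw [pair, coeff_T1, pairW_coeff1]

theorem eq_pair (x : W2 p R) : x = pair p (x.coeff 0) (x.coeff 1) :=
  ext2 p (pair_coeff0 p _ _).symm (pair_coeff1 p _ _).symm

theorem pair_add_disjoint (a b : R) : pair p a 0 + pair p 0 b = pair p a b := by
  have h : ∀ n, (pairW p a 0).coeff n = 0 ∨ (pairW p 0 b).coeff n = 0 := by
    intro n
    rcases n with _ | n
    · right
      rw [pairW_coeff]; simp
    · left
      rw [pairW_coeff]; simp
  rw [pair, pair, ← map_add (WittVector.truncate 2)]
  apply ext2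
  · rw [coeff_T0, WittVector.add_coeff_zero, pairW_coeff0, pairW_coeff0, add_zero, pair_coeff0]
  · rw [coeff_T1, WittVector.coeff_add_of_disjoint 1 _ _ h, pairW_coeff1, pairW_coeff1, zero_add,
      pair_coeff1]

theorem coeff1_add' (x y : W2 p R) (hx : x.coeff 0 = 0) :
    (x + y).coeff 1 = x.coeff 1 + y.coeff 1 := by
  have hy : y = pair p (y.coeff 0) 0 + pair p 0 (y.coeff 1) := by
    rw [pair_add_disjoint]; exact eq_pair p y
  have hu0 : (x + pair p 0 (y.coeff 1)).coeff 0 = 0 := by
    rw [coeff0_add, hx, pair_coeff0, add_zero]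
  have hu1 : (x + pair p 0 (y.coeff 1)).coeff 1 = x.coeff 1 + y.coeff 1 := by
    rw [coeff1_add p _ _ hx (pair_coeff0 p _ _), pair_coeff1]
  have hu' : x + pair p 0 (y.coeff 1) = pair p 0 (x.coeff 1 + y.coeff 1) := by
    apply ext2
    · rw [hu0, pair_coeff0]
    · rw [hu1, pair_coeff1]
  have hxy : x + y = pair p (y.coeff 0) (x.coeff 1 + y.coeff 1) := by
    rw [← pair_add_disjoint, ← hu']
    conv_lhs => rw [hy]
    ring
  rw [hxy, pair_coeff1]

theorem coeff0_pow (x : W2 p R) (m : ℕ) : (x ^ m).coeff 0 = x.coeff 0 ^ m := by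
  have := map_pow (FrobAlg.res p R) x m
  simpa only [FrobAlg.res_apply] using this

theorem tau_pow (a : R) (m : ℕ) : tau p a ^ m = tau p (a ^ m) := by
  rw [tau, tau, ← map_pow (WittVector.truncate 2), ← map_pow (WittVector.teichmuller p)]

theorem tau_coeff1 (a : R) : (tau p a).coeff 1 = 0 := by
  rw [tau, coeff_T1]
  exact WittVector.teichmuller_coeff_pos p a 1 one_pos

theorem add_pow_sq_zero {S : Type*} [CommRing S] (a n : S) (hn : n * n = 0) (m : ℕ) :
    (a + n) ^ (m + 1) = a ^ (m + 1) + ((m + 1 : ℕ) : S) * a ^ m * n := by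
  induction m with
  | zero => simp
  | succ m ih =>
    rw [pow_succ, ih]
    push_cast
    linear_combination ((m : S) + 1) * a ^ m * hn

end pair

section field

variable (p : ℕ) [Fact p.Prime] (k : Type*) [Field k] [CharP k p]

theorem frob_formula (x : W2 p k) :
    sigma p k x = tau p (x.coeff 0) ^ p + tau p (x.coeff 1) * (p : W2 p k) := by
  apply ext2
  · rw [WittGrp.coeff_frob, coeff0_add, coeff0_pow, tau_coeff0, coeff0_mul_p, add_zero]
  · rw [WittGrp.coeff_frob, add_comm, coeff1_add' p _ _ (coeff0_mul_p p _), coeff1_mul_p,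
      tau_coeff0, tau_pow, tau_coeff1, add_zero]

variable [PerfectRing k p]

theorem ker_res : RingHom.ker (FrobAlg.res p k) = Ideal.span {((p : ℕ) : W2 p k)} := by
  apply le_antisymm
  · intro x hx
    rw [RingHom.mem_ker, FrobAlg.res_apply] at hx
    obtain ⟨c, hc, _⟩ := exists_eq_mul_p p k x hx
    rw [hc]
    exact Ideal.mul_mem_left _ _ (Ideal.mem_span_singleton_self _)
  · rw [Ideal.span_singleton_le_iff_mem, RingHom.mem_ker, FrobAlg.res_apply]
    exact coeff0_p p

end field

section lift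

variable (p : ℕ) [Fact p.Prime] {k : Type u} [Field k] [CharP k p] [PerfectRing k p]
  {A B : Type u} [CommRing A] [Algebra k A] [CommRing B]
  {ι : FrobAlg.W2 p k →+* B} {π : B →+* A} (hB : FrobAlg.IsLift p k A B ι π)

include hB

theorem ker_pi : RingHom.ker π = Ideal.span {((p : ℕ) : B)} := by
  rw [hB.ker_eq, ker_res, Ideal.map_span, Set.image_singleton, map_natCast]

theorem pB_sq : ((p : ℕ) : B) * ((p : ℕ) : B) = 0 := by
  rw [← map_natCast ι, ← map_mul, p_mul_p, map_zero]

theorem pB_pow : ((p : ℕ) : B) ^ p = 0 := by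
  apply pow_eq_zero_of_le (Fact.out : p.Prime).two_le
  rw [pow_two]
  exact pB_sq p hB

theorem pi_p : π ((p : ℕ) : B) = 0 := by
  have : ((p : ℕ) : B) ∈ RingHom.ker π := by
    rw [ker_pi p hB]; exact Ideal.mem_span_singleton_self _
  exact this

theorem pi_iota (x : W2 p k) : π (ι x) = algebraMap k A (x.coeff 0) := by
  rw [← RingHom.comp_apply π ι, hB.comm, RingHom.comp_apply, FrobAlg.res_apply]

theorem exists_of_pi_eq_zero (c : B) (hc : π c = 0) : ∃ d : B, c = d * ((p : ℕ) : B) := by
  have : c ∈ RingHom.ker π := hc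
  rw [ker_pi p hB, Ideal.mem_span_singleton'] at this
  obtain ⟨d, hd⟩ := this
  exact ⟨d, hd.symm⟩

theorem pi_eq_zero_of_p_mul (c : B) (hc : ((p : ℕ) : B) * c = 0) : π c = 0 := by
  letI := ι.toAlgebra
  haveI : Module.Flat (W2 p k) B := hB.flat
  obtain ⟨n, a, y, hx, ha⟩ := Module.Flat.isTrivialRelation_of_sum_smul_eq_zero
    (R := W2 p k) (M := B) (ι := Unit) (f := fun _ => ((p : ℕ) : W2 p k)) (x := fun _ => c) (by
      simp only [Finset.univ_unique, Finset.sum_singleton]
      show ι ((p : ℕ) : W2 p k) * c = 0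
      rw [map_natCast]; exact hc)
  have hx' : c = ∑ j, a () j • y j := hx ()
  have ha' : ∀ j, (a () j).coeff 0 = 0 := by
    intro j
    have h0 : ((p : ℕ) : W2 p k) * a () j = 0 := by simpa using ha j
    have h1 : ((a () j) * ((p : ℕ) : W2 p k)).coeff 1 = 0 := by
      rw [mul_comm, h0, TruncatedWittVector.coeff_zero]
    rw [coeff1_mul_p] at h1
    exact (pow_eq_zero_iff (Fact.out : p.Prime).ne_zero).1 h1
  rw [hx', map_sum]
  apply Finset.sum_eq_zero
  intro j _
  show π (ι (a () j) * y j) = 0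
  rw [map_mul, pi_iota p hB, ha' j, map_zero, zero_mul]

theorem ghost1 (X : WittVector p B) :
    WittVector.ghostComponent 1 X = ((p : ℕ) : B) * X.coeff 1 + X.coeff 0 ^ p := by
  simp [WittVector.ghostComponent_apply, wittPolynomial_one]

/-- The surjection `W(B) → W₂(A)`. -/
noncomputable def q (π : B →+* A) : WittVector p B →+* W2 p A :=
  (WittVector.truncate 2).comp (WittVector.map π)

omit hB in
theorem q_coeff0 (X : WittVector p B) : (q p π X).coeff 0 = π (X.coeff 0) := by
  show ((WittVector.truncate 2 (WittVector.map π X)) : W2 p A).coeff 0 = _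
  rw [coeff_T0, WittVector.map_coeff]

omit hB in
theorem q_coeff1 (X : WittVector p B) : (q p π X).coeff 1 = π (X.coeff 1) := by
  show ((WittVector.truncate 2 (WittVector.map π X)) : W2 p A).coeff 1 = _
  rw [coeff_T1, WittVector.map_coeff]

theorem q_surjective : Function.Surjective (q p π) := by
  intro y
  obtain ⟨Y, rfl⟩ := WittVector.truncate_surjective p 2 A y
  obtain ⟨X, rfl⟩ := WittVector.map_surjective π hB.surj Y
  exact ⟨X, rfl⟩

theorem ker_q_le : RingHom.ker (q p π) ≤ RingHom.ker (WittVector.ghostComponent (p := p) (R := B) 1) := by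
  intro X hX
  rw [RingHom.mem_ker] at hX ⊢
  have h0 : π (X.coeff 0) = 0 := by
    rw [← q_coeff0, hX, TruncatedWittVector.coeff_zero]
  have h1 : π (X.coeff 1) = 0 := by
    rw [← q_coeff1, hX, TruncatedWittVector.coeff_zero]
  obtain ⟨d0, hd0⟩ := exists_of_pi_eq_zero p hB _ h0
  obtain ⟨d1, hd1⟩ := exists_of_pi_eq_zero p hB _ h1
  rw [ghost1 p hB, hd0, hd1, mul_pow, pB_pow p hB, mul_zero, add_zero, mul_comm, mul_assoc,
    pB_sq p hB, mul_zero]

/-- The "first ghost component" `W₂(A) → B`. -/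
noncomputable def Psi : W2 p A →+* B :=
  RingHom.liftOfSurjective (q p π) (q_surjective p hB) ⟨WittVector.ghostComponent 1, ker_q_le p hB⟩

theorem Psi_q (X : WittVector p B) :
    Psi p hB (q p π X) = ((p : ℕ) : B) * X.coeff 1 + X.coeff 0 ^ p := by
  rw [← ghost1 p hB]
  exact RingHom.liftOfRightInverse_comp_apply _ _ _ _ X

theorem pi_Psi (y : W2 p A) : π (Psi p hB y) = y.coeff 0 ^ p := by
  obtain ⟨X, rfl⟩ := q_surjective p hB y
  rw [Psi_q, map_add, map_mul, pi_p p hB, zero_mul, zero_add, map_pow, q_coeff0]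

theorem pow_p_congr (a a' : B) (h : π a = π a') : a' ^ p = a ^ p := by
  obtain ⟨d, hd⟩ := exists_of_pi_eq_zero p hB (a' - a) (by rw [map_sub, h, sub_self])
  have ha' : a' = a + d * ((p : ℕ) : B) := by rw [← hd]; ring
  have hn : (d * ((p : ℕ) : B)) * (d * ((p : ℕ) : B)) = 0 := by
    have := pB_sq p hB
    linear_combination d * d * this
  obtain ⟨m, hm⟩ : ∃ m, p = m + 1 := ⟨p - 1, by have := (Fact.out : p.Prime).one_lt; omega⟩
  have key := add_pow_sq_zero a (d * ((p : ℕ) : B)) hn m
  rw [← hm] at key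
  rw [ha', key]
  have := pB_sq p hB
  linear_combination a ^ m * d * this

theorem Psi_inj (y y' : W2 p A) (h0 : y.coeff 0 = y'.coeff 0) (h : Psi p hB y = Psi p hB y') :
    y = y' := by
  obtain ⟨X, rfl⟩ := q_surjective p hB y
  obtain ⟨X', rfl⟩ := q_surjective p hB y'
  rw [q_coeff0, q_coeff0] at h0
  rw [Psi_q, Psi_q, pow_p_congr p hB _ _ h0] at h
  have h1 : ((p : ℕ) : B) * (X.coeff 1 - X'.coeff 1) = 0 := by
    linear_combination h
  have h2 := pi_eq_zero_of_p_mul p hB _ h1
  rw [map_sub, sub_eq_zero] at h2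
  apply ext2
  · rw [q_coeff0, q_coeff0, h0]
  · rw [q_coeff1, q_coeff1, h2]

theorem Psi_truncMap (x : W2 p k) :
    Psi p hB (WittGrp.truncMap p 2 (algebraMap k A) x) = ι (sigma p k x) := by
  have hq : q p π (pairW p (ι (tau p (x.coeff 0))) (ι (tau p (x.coeff 1))))
      = WittGrp.truncMap p 2 (algebraMap k A) x := by
    apply ext2
    · rw [q_coeff0, pairW_coeff0, pi_iota p hB, tau_coeff0, WittGrp.coeff_truncMap]
    · rw [q_coeff1, pairW_coeff1, pi_iota p hB, tau_coeff0, WittGrp.coeff_truncMap]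
  rw [← hq, Psi_q, pairW_coeff0, pairW_coeff1, frob_formula, map_add, map_pow, map_mul,
    map_natCast]
  ring

end lift

theorem main13150
    (p : ℕ) [Fact p.Prime] (k : Type u) [Field k] [CharP k p] [PerfectRing k p]
    (A B : Type u) [CommRing A] [Algebra k A] [CommRing B]
    (ι : FrobAlg.W2 p k →+* B) (π : B →+* A) (hB : FrobAlg.IsLift p k A B ι π) :
    (∃ Φ : B →+* B, FrobAlg.IsFrobLift p k A B ι π Φ) ↔
      ∃ θ : B →+* FrobAlg.W2 p A,
        (FrobAlg.res p A).comp θ = π ∧ θ.comp ι = WittGrp.truncMap p 2 (algebraMap k A) := by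
  constructor
  · rintro ⟨Φ, hΦ⟩
    have hex : ∀ b : B, ∃ y : W2 p A, y.coeff 0 = π b ∧ Psi p hB y = Φ b := by
      intro b
      have h0 : π (Φ b - b ^ p) = 0 := by rw [map_sub, hΦ.red, map_pow, sub_self]
      obtain ⟨d, hd⟩ := exists_of_pi_eq_zero p hB _ h0
      refine ⟨q p π (pairW p b d), ?_, ?_⟩
      · rw [q_coeff0, pairW_coeff0]
      · rw [Psi_q, pairW_coeff0, pairW_coeff1]
        linear_combination (-1 : B) * hd
    choose θf hθ0 hθΨ using hex
    have hchar : ∀ (b : B) (y : W2 p A), y.coeff 0 = π b → Psi p hB y = Φ b → θf b = y := by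
      intro b y h0 h1
      exact Psi_inj p hB _ _ (by rw [hθ0, h0]) (by rw [hθΨ, h1])
    let θ : B →+* W2 p A :=
      { toFun := θf
        map_one' := hchar 1 1 (by rw [coeff0_one, map_one]) (by rw [map_one, map_one])
        map_mul' := fun a b => hchar _ _ (by rw [coeff0_mul, hθ0, hθ0, map_mul])
          (by rw [map_mul, hθΨ, hθΨ, map_mul])
        map_zero' := hchar 0 0 (by rw [TruncatedWittVector.coeff_zero, map_zero])
          (by rw [map_zero, map_zero])
        map_add' := fun a b => hchar _ _ (by rw [coeff0_add, hθ0, hθ0, map_add])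
          (by rw [map_add, hθΨ, hθΨ, map_add]) }
    refine ⟨θ, ?_, ?_⟩
    · ext b
      show FrobAlg.res p A (θf b) = π b
      rw [FrobAlg.res_apply, hθ0]
    · ext1 x
      show θf (ι x) = WittGrp.truncMap p 2 (algebraMap k A) x
      apply hchar
      · rw [WittGrp.coeff_truncMap, pi_iota p hB]
      · rw [Psi_truncMap p hB]
        have := congrArg (fun f => f x) hΦ.semi
        exact this.symm
  · rintro ⟨θ, h1, h2⟩
    refine ⟨(Psi p hB).comp θ, { toIsLift := hB, semi := ?_, red := ?_ }⟩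
    · ext1 x
      show Psi p hB (θ (ι x)) = ι (sigma p k x)
      have : θ (ι x) = WittGrp.truncMap p 2 (algebraMap k A) x := congrArg (fun f => f x) h2
      rw [this, Psi_truncMap p hB]
    · intro b
      show π (Psi p hB (θ b)) = π b ^ p
      rw [pi_Psi p hB]
      have : FrobAlg.res p A (θ b) = π b := congrArg (fun f => f b) h1
      rw [FrobAlg.res_apply] at this
      rw [this]

end Groth.Agent.Lib.FrobLiftW2H1
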