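import Mathlib
import Groth.Prelude.Def_W4c1liftfrobW2
import Groth.Agent.Lib.FrobLiftW2_helper1
import Groth.Agent.Lib.EtLiftGlobal_lead

set_option autoImplicit false
universe u v

namespace FLiftEtH8

open TensorProduct FrobAlg

/-- Lifting through a nilpotent surjection for formally smooth algebras, ring-hom form. -/
theorem exists_lift_of_formallySmooth {R S T U : Type*} [CommRing R] [CommRing S] [CommRing T]
    [CommRing U] [Algebra R S] [Algebra.FormallySmooth R S] (g : R →+* T) (π : T →+* U)
    (hπ : Function.Surjective π) (hnil : IsNilpotent (RingHom.ker π)) (h : S →+* U)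
    (hh : h.comp (algebraMap R S) = π.comp g) :
    ∃ l : S →+* T, l.comp (algebraMap R S) = g ∧ π.comp l = h := by
  letI : Algebra R T := g.toAlgebra
  letI : Algebra R U := (π.comp g).toAlgebra
  let π' : T →ₐ[R] U := { π with commutes' := fun r => rfl }
  let h' : S →ₐ[R] U := { h with commutes' := fun r => congrArg (fun φ => φ r) hh }
  have hnil' : IsNilpotent (RingHom.ker (π' : T →+* U)) := hnil
  refine ⟨(Algebra.FormallySmooth.liftOfSurjective h' π' hπ hnil').toRingHom, ?_, ?_⟩
  · ext r
    exact (Algebra.FormallySmooth.liftOfSurjective h' π' hπ hnil').commutes r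
  · ext s
    exact Algebra.FormallySmooth.liftOfSurjective_apply h' π' hπ hnil' s

/-- The `p`-th power map as a ring hom when `p = 0`. -/
def powHom (p : ℕ) (hp : p.Prime) (C : Type*) [CommRing C] (hp0 : ((p : ℕ) : C) = 0) : C →+* C where
  toFun x := x ^ p
  map_one' := one_pow p
  map_mul' x y := mul_pow x y p
  map_zero' := zero_pow hp.ne_zero
  map_add' x y := by
    obtain ⟨r, hr⟩ := exists_add_pow_prime_eq hp x y
    rw [hr, hp0, zero_mul, zero_mul, zero_mul, add_zero]

open Groth.Agent.Lib.FrobLiftW2H1 Groth.Agent.Lib.SplitW2H1 in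
theorem isFLiftable_of_etale (p : ℕ) [Fact p.Prime] (k : Type u) [Field k] [IsAlgClosed k]
    [CharP k p] (A C : Type v) [CommRing A] [CommRing C] [Algebra k A] [Algebra k C]
    [Algebra A C] [IsScalarTower k A C] [Algebra.Etale A C]
    (hA : IsFLiftable p k A) : IsFLiftable p k C := by
  have hp : p.Prime := Fact.out
  obtain ⟨B, _, ι, π, Φ, hΦ⟩ := hA
  have hL : IsLift p k A B ι π := hΦ.toIsLift
  let ε : B ⧸ RingHom.ker π ≃+* A := RingHom.quotientKerEquivOfSurjective hL.surj
  have hε : ∀ b : B, ε (Ideal.Quotient.mk (RingHom.ker π) b) = π b := fun b => rfl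
  letI algQ : Algebra (B ⧸ RingHom.ker π) C :=
    ((algebraMap A C).comp (ε : B ⧸ RingHom.ker π →+* A)).toAlgebra
  haveI : Algebra.Etale (B ⧸ RingHom.ker π) C := by
    rw [← RingHom.etale_algebraMap]
    exact RingHom.Etale.stableUnderComposition _ _ (RingHom.Etale.of_bijective ε.bijective)
      (RingHom.etale_algebraMap.mpr inferInstance)
  obtain ⟨S, _, _, hSet, ⟨e⟩⟩ :=
    Groth.Agent.Lib.EtLiftGlobal.exists_etale_lift B (RingHom.ker π) C
  let E : (S ⧸ (RingHom.ker π).map (algebraMap B S)) ≃ₐ[B ⧸ RingHom.ker π] C :=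
    (Algebra.TensorProduct.quotIdealMapEquivQuotTensor S (RingHom.ker π)).trans e
  let π' : S →+* C := (E : _ →+* C).comp (Ideal.Quotient.mk ((RingHom.ker π).map (algebraMap B S)))
  have hπ'surj : Function.Surjective π' :=
    E.surjective.comp Ideal.Quotient.mk_surjective
  have hπ'ker : RingHom.ker π' = (RingHom.ker π).map (algebraMap B S) := by
    ext x
    rw [RingHom.mem_ker]
    show E (Ideal.Quotient.mk _ x) = 0 ↔ _
    rw [map_eq_zero_iff E E.injective, Ideal.Quotient.eq_zero_iff_mem]
  have hπ'alg : ∀ b : B, π' (algebraMap B S b) = algebraMap A C (π b) := by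
    intro b
    show e ((1 : B ⧸ RingHom.ker π) ⊗ₜ[B] (algebraMap B S b)) = _
    have h1 : (1 : B ⧸ RingHom.ker π) ⊗ₜ[B] (algebraMap B S b) =
        (Ideal.Quotient.mk (RingHom.ker π) b) • ((1 : B ⧸ RingHom.ker π) ⊗ₜ[B] (1 : S)) := by
      rw [Algebra.algebraMap_eq_smul_one, ← TensorProduct.smul_tmul, TensorProduct.smul_tmul',
        smul_eq_mul, mul_one]
      congr 1
      rw [Algebra.smul_def, mul_one]
      rfl
    rw [h1, map_smul]
    have h2 : e ((1 : B ⧸ RingHom.ker π) ⊗ₜ[B] (1 : S)) = 1 := map_one e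
    rw [h2, Algebra.smul_def, mul_one]
    rfl
  -- the new structure map
  let ι' : W2 p k →+* S := (algebraMap B S).comp ι
  have hι'flat : ι'.Flat := by
    refine RingHom.Flat.comp hL.flat ?_
    rw [RingHom.flat_algebraMap_iff]
    infer_instance
  have hker : RingHom.ker π' = Ideal.map ι' (RingHom.ker (res p k)) := by
    rw [hπ'ker, hL.ker_eq, Ideal.map_map]
  have hcomm : π'.comp ι' = (algebraMap k C).comp (res p k) := by
    ext x
    show π' (algebraMap B S (ι x)) = algebraMap k C (res p k x)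
    rw [hπ'alg]
    have := congrArg (fun φ => φ x) hL.comm
    simp only [RingHom.comp_apply] at this
    rw [this, ← IsScalarTower.algebraMap_apply]
  -- nilpotence of the kernel
  have hpp : ((p : ℕ) : S) * ((p : ℕ) : S) = 0 := by
    rw [← map_natCast ι', ← map_mul, p_mul_p, map_zero]
  have hnil : IsNilpotent (RingHom.ker π') := by
    refine ⟨2, ?_⟩
    rw [hker, ker_res, Ideal.map_span, Set.image_singleton, map_natCast,
      Ideal.span_singleton_pow, pow_two, hpp]
    simp
  -- the Frobenius lift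
  have hp0C : ((p : ℕ) : C) = 0 := by
    have h0 : ((p : ℕ) : k) = 0 := CharP.cast_eq_zero k p
    have := congrArg (algebraMap k C) h0
    rwa [map_natCast, map_zero] at this
  obtain ⟨Φ', hΦ'1, hΦ'2⟩ := exists_lift_of_formallySmooth (R := B) (S := S)
    ((algebraMap B S).comp Φ) π' hπ'surj hnil ((powHom p hp C hp0C).comp π') (by
      ext b
      show (π' (algebraMap B S b)) ^ p = π' (algebraMap B S (Φ b))
      rw [hπ'alg, hπ'alg, hΦ.red, map_pow])
  refine ⟨S, inferInstance, ι', π', Φ', ⟨⟨hι'flat, hπ'surj, hker, hcomm⟩, ?_, ?_⟩⟩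
  · ext x
    show Φ' (algebraMap B S (ι x)) = algebraMap B S (ι (sigma p k x))
    have h1 := congrArg (fun φ => φ (ι x)) hΦ'1
    have h2 := congrArg (fun φ => φ x) hΦ.semi
    simp only [RingHom.comp_apply] at h1 h2
    rw [h1, h2]
  · intro s
    have := congrArg (fun φ => φ s) hΦ'2
    exact this

end FLiftEtH8
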