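import Mathlib
import Groth.Prelude.Def_CotT

/-!
# Consequence of `T² = 0` for a presentation (helper3)

If `T²(P, B) = 0` then every `R`-linear map from the relation module to `B` killing the trivial
relations is given by a vector `c : σ → B`.
-/

set_option autoImplicit false
set_option linter.unusedSectionVars false

universe u v w t

namespace Groth.Agent.Lib.ObsT2H3

open CotT TensorProduct

variable {A : Type u} {B : Type v} {ι : Type w} {σ : Type t}
variable [CommRing A] [CommRing B] [Algebra A B]
variable (P : Algebra.Presentation A B ι σ)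

theorem exists_coeffs_of_T2 (hT2 : Subsingleton (CotT.T2 P B))
    (h : relKer P →ₗ[P.toExtension.Ring] B)
    (htriv : ∀ q : relKer P, (q : relMod P) ∈ trivRel P → h q = 0) :
    ∃ c : σ → B, ∀ q : relKer P,
      h q = Finsupp.linearCombination P.toExtension.Ring c (q : relMod P) := by
  let ψ₀ : B ⊗[P.toExtension.Ring] relKer P →ₗ[B] B := LinearMap.liftBaseChange B h
  have hle : LinearMap.range ((trivRelKer P).subtype.baseChange B) ≤ LinearMap.ker ψ₀ := by
    rw [LinearMap.range_le_ker_iff]
    refine TensorProduct.AlgebraTensorModule.ext fun b k => ?_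
    simp only [LinearMap.coe_comp, Function.comp_apply, LinearMap.baseChange_tmul,
      Submodule.coe_subtype, LinearMap.zero_apply]
    show ψ₀ (b ⊗ₜ (k : relKer P)) = 0
    rw [LinearMap.liftBaseChange_tmul, htriv _ k.2, smul_zero]
  let ψ : L2 P →ₗ[B] B := Submodule.liftQ _ ψ₀ hle
  have hψ : (Submodule.Quotient.mk ψ : T2 P B) = 0 := Subsingleton.elim _ _
  rw [Submodule.Quotient.mk_eq_zero] at hψ
  obtain ⟨φ₁, hφ₁⟩ := hψ
  refine ⟨fun s => φ₁ ((1 : B) ⊗ₜ Finsupp.single s 1), fun q => ?_⟩
  have h1 : h q = ψ (Submodule.Quotient.mk ((1 : B) ⊗ₜ q)) := by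
    show h q = ψ₀ ((1 : B) ⊗ₜ q)
    rw [LinearMap.liftBaseChange_tmul, one_smul]
  rw [h1, ← hφ₁, d2Star_apply, LinearMap.comp_apply, d2_mk_tmul]
  have key : ∀ f : relMod P, φ₁ ((1 : B) ⊗ₜ f) =
      Finsupp.linearCombination P.toExtension.Ring
        (fun s => φ₁ ((1 : B) ⊗ₜ Finsupp.single s 1)) f := by
    intro f
    induction f using Finsupp.induction_linear with
    | zero => simp
    | add f g hf hg => rw [TensorProduct.tmul_add, map_add, map_add, hf, hg]
    | single s a =>
      rw [Finsupp.linearCombination_single]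
      have : (Finsupp.single s a : relMod P) = a • Finsupp.single s 1 := by
        rw [Finsupp.smul_single, smul_eq_mul, mul_one]
      rw [this, TensorProduct.tmul_smul, ← algebraMap_smul B a ((1 : B) ⊗ₜ[P.toExtension.Ring]
        (Finsupp.single s (1 : P.toExtension.Ring) : relMod P)), map_smul, algebraMap_smul]
  exact key q

end Groth.Agent.Lib.ObsT2H3
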