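import Mathlib
import Groth.Agent.Lib.ObsT2d_helper3
import Groth.Agent.Lib.ObsT2c_helper3

/-!
# Lifting a flat deformation along a small extension when `T² = 0`: setup over the base `A` (helper3)
-/

set_option autoImplicit false
set_option linter.unusedSectionVars false
set_option linter.style.haveILetI false

universe u

namespace Groth.Agent.Lib.ObsT2H3

open MvPolynomial

variable {k : Type u} [Field k] {B₀ : Type u} [CommRing B₀] [Algebra k B₀] {ι σ : Type u}
  (P : Algebra.Presentation k B₀ ι σ)

theorem ker_aeval_val :
    RingHom.ker (aeval P.val : MvPolynomial ι k →ₐ[k] B₀).toRingHom =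
      Ideal.span (Set.range P.relation) := by
  rw [P.span_range_relation_eq_ker]
  ext x
  rw [RingHom.mem_ker]
  show _ ↔ x ∈ RingHom.ker (algebraMap P.Ring B₀)
  rw [RingHom.mem_ker, Algebra.Generators.algebraMap_apply]
  rfl

variable {A : Type u} [CommRing A] (res : A →+* k) (hsres : Function.Surjective res)
  (hnil : IsNilpotent (RingHom.ker res))
  (E : Type u) [CommRing E] (γ : A →+* E) (α : E →+* B₀) (hflat : γ.Flat)
  (hα : Function.Surjective α) (hkerα : RingHom.ker α = (RingHom.ker res).map γ)
  (hcomp : ∀ a, α (γ a) = algebraMap k B₀ (res a))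
include hsres hnil hflat hα hkerα hcomp

theorem exists_setup :
    ∃ (b : ι → E) (F' : σ → MvPolynomial ι A),
      (∀ x : MvPolynomial ι A, α (eval₂Hom γ b x) = aeval P.val (map res x)) ∧
      Function.Surjective (eval₂Hom γ b) ∧
      (∀ s, map res (F' s) = P.relation s) ∧
      Ideal.span (Set.range F') = RingHom.ker (eval₂Hom γ b) := by
  letI : Algebra A E := γ.toAlgebra
  haveI : Module.Flat A E := hflat
  choose b hb using fun i => hα (P.val i)
  let φ : MvPolynomial ι A →ₐ[A] E := aeval b
  have hφ : ∀ x, φ x = eval₂Hom γ b x := fun x => rfl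
  have hαφ : ∀ x : MvPolynomial ι A, α (φ x) = aeval P.val (map res x) := by
    intro x
    have : (α.comp (φ : MvPolynomial ι A →+* E)) =
        ((aeval P.val : MvPolynomial ι k →ₐ[k] B₀) : MvPolynomial ι k →+* B₀).comp (map res) := by
      apply MvPolynomial.ringHom_ext
      · intro a
        show α (φ (C a)) = aeval P.val (map res (C a))
        rw [show φ (C a) = γ a from aeval_C _ a, hcomp, map_C, aeval_C]
      · intro i
        show α (φ (X i)) = aeval P.val (map res (X i))
        rw [show φ (X i) = b i from aeval_X _ i, hb, map_X, aeval_X]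
    exact congrArg (fun f => f x) this
  have hmapC : (RingHom.ker res).map (algebraMap A E) = RingHom.ker α := hkerα.symm
  have hφs : Function.Surjective φ := by
    refine Groth.Agent.Lib.DefoIsoH7.surjective_of_nilpotent (RingHom.ker res) hnil
      φ.toLinearMap ?_
    intro y
    obtain ⟨x₀, hx₀⟩ := P.aeval_val_surjective (α y)
    obtain ⟨x, rfl⟩ := map_surjective res hsres x₀
    refine ⟨x, ?_⟩
    rw [Ideal.smul_top_eq_map]
    show y - φ x ∈ (RingHom.ker res).map (algebraMap A E)
    rw [hmapC, RingHom.mem_ker, map_sub, hαφ, hx₀, sub_self]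
  -- the kernel of `map res`
  have hkerπ : RingHom.ker (map res : MvPolynomial ι A →+* MvPolynomial ι k) =
      (RingHom.ker res).map (algebraMap A (MvPolynomial ι A)) := ker_map res
  -- choice of `F'`
  have hF : ∀ s, ∃ x : MvPolynomial ι A, φ x = 0 ∧ map res x = P.relation s := by
    intro s
    obtain ⟨G, hG⟩ := map_surjective res hsres (P.relation s)
    have h1 : φ G ∈ RingHom.ker α := by
      rw [RingHom.mem_ker, hαφ, hG]
      have : P.relation s ∈ RingHom.ker (aeval P.val : MvPolynomial ι k →ₐ[k] B₀).toRingHom := by
        rw [ker_aeval_val]; exact Ideal.subset_span ⟨s, rfl⟩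
      exact this
    have h2 : RingHom.ker α = ((RingHom.ker res).map (algebraMap A (MvPolynomial ι A))).map
        (φ : MvPolynomial ι A →+* E) := by
      rw [Ideal.map_map, ← hmapC]
      congr 1
      apply RingHom.ext
      intro a
      exact (aeval_C b a).symm
    rw [h2] at h1
    obtain ⟨n, hn, hn'⟩ := (Ideal.mem_map_iff_of_surjective (φ : MvPolynomial ι A →+* E) hφs).1 h1
    refine ⟨G - n, by rw [map_sub]; exact sub_eq_zero.2 hn'.symm, ?_⟩
    rw [map_sub, hG]
    have : map res n = 0 := by
      rw [← RingHom.mem_ker, hkerπ]; exact hn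
    rw [this, sub_zero]
  choose F' hF'1 hF'2 using hF
  refine ⟨b, F', hαφ, hφs, hF'2, ?_⟩
  apply le_antisymm
  · rw [Ideal.span_le]
    rintro _ ⟨s, rfl⟩
    exact hF'1 s
  · refine le_of_le_sup_mul (K := (RingHom.ker res).map (algebraMap A (MvPolynomial ι A))) ?_ ?_
    · intro y hy
      have hy0 : φ y = 0 := hy
      have h1 : map res y ∈ Ideal.span (Set.range P.relation) := by
        rw [← ker_aeval_val]
        show aeval P.val (map res y) = 0
        rw [← hαφ, hy0, map_zero]
      rw [Ideal.span, ← Finsupp.range_linearCombination] at h1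
      obtain ⟨c₀, hc₀⟩ := h1
      obtain ⟨c, rfl⟩ := qσ_surjective (σ := σ) (map res) (map_surjective res hsres) c₀
      have hrel : (fun s => map res (F' s)) = P.relation := funext hF'2
      have h2 : map res (Finsupp.linearCombination _ F' c) = map res y := by
        rw [← ev_qσ, hrel]
        exact hc₀
      have h3 : y - Finsupp.linearCombination _ F' c ∈
          (RingHom.ker res).map (algebraMap A (MvPolynomial ι A)) := by
        rw [← hkerπ, RingHom.mem_ker, map_sub, h2, sub_self]
      have h4 : φ (y - Finsupp.linearCombination _ F' c) = 0 := by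
        rw [map_sub, hy0, zero_sub, neg_eq_zero]
        rw [Finsupp.linearCombination_apply, Finsupp.sum, map_sum]
        refine Finset.sum_eq_zero fun s _ => ?_
        rw [smul_eq_mul, map_mul, hF'1, mul_zero]
      have h5 := flat_inter_ideal φ hφs (RingHom.ker res) h3 h4
      have : y = Finsupp.linearCombination _ F' c + (y - Finsupp.linearCombination _ F' c) := by
        abel
      rw [this]
      refine Ideal.add_mem _ (Ideal.mem_sup_left ?_) (Ideal.mem_sup_right h5)
      rw [Ideal.span, ← Finsupp.range_linearCombination]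
      exact LinearMap.mem_range_self _ _
    · obtain ⟨n, hn⟩ := hnil
      refine ⟨n, ?_⟩
      rw [← Ideal.map_pow, hn, Ideal.zero_eq_bot, Ideal.map_bot]
      rfl

end Groth.Agent.Lib.ObsT2H3
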