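import Mathlib
import Groth.Agent.Lib.ObsT2e_helper3

/-!
# The `T²`-hypothesis of the abstract lemma from `T²(P, B₀) = 0` (helper3)
-/

set_option autoImplicit false
set_option linter.unusedSectionVars false
set_option linter.style.haveILetI false

universe u

namespace Groth.Agent.Lib.ObsT2H3

open Finsupp CotT

variable {k : Type u} [Field k] {B₀ : Type u} [CommRing B₀] [Algebra k B₀] {ι σ : Type u}
  (P : Algebra.Presentation k B₀ ι σ)

theorem T2_hyp (hT2 : Subsingleton (CotT.T2 P B₀)) {S : Type u} [CommRing S]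
    (ρ : S →+* P.toExtension.Ring) (hρ : Function.Surjective ρ)
    (F : σ → S) (hF : ∀ s, ρ (F s) = P.relation s)
    [Algebra S B₀] (hβ : ∀ z : S, algebraMap S B₀ z = algebraMap P.toExtension.Ring B₀ (ρ z))
    (h : Rel0 (RingHom.ker ρ) F →ₗ[S] B₀)
    (h1 : ∀ r : Rel0 (RingHom.ker ρ) F, (r : σ →₀ S) ∈ KS (σ := σ) (RingHom.ker ρ) → h r = 0)
    (h2 : ∀ r : Rel0 (RingHom.ker ρ) F, linearCombination S F (r : σ →₀ S) = 0 → h r = 0) :
    ∃ c : σ → B₀, ∀ r : Rel0 (RingHom.ker ρ) F, h r = linearCombination S c (r : σ →₀ S) := by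
  have hrelfun : (fun s => ρ (F s)) = rel P := funext hF
  have hjm : ∀ r : σ →₀ S, jmap P (qσ ρ r) = ρ (linearCombination S F r) := by
    intro r
    rw [← ev_qσ, hrelfun]
    rfl
  have hmemRel0 : ∀ r : σ →₀ S, qσ ρ r ∈ relKer P → r ∈ Rel0 (RingHom.ker ρ) F := by
    intro r hr
    show linearCombination S F r ∈ RingHom.ker ρ
    rw [RingHom.mem_ker, ← hjm]
    exact hr
  have hrelKer : ∀ r : Rel0 (RingHom.ker ρ) F, qσ ρ (r : σ →₀ S) ∈ relKer P := by
    intro r
    show jmap P (qσ ρ (r : σ →₀ S)) = 0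
    rw [hjm]
    exact r.2
  let Rl : relMod P → B₀ → Prop := fun q₀ v =>
    ∃ r : Rel0 (RingHom.ker ρ) F, qσ ρ (r : σ →₀ S) = q₀ ∧ v = h r
  have Rl_uniq : ∀ q₀ v v', Rl q₀ v → Rl q₀ v' → v = v' := by
    rintro q₀ v v' ⟨r, hr, rfl⟩ ⟨r', hr', rfl⟩
    rw [← sub_eq_zero, ← map_sub]
    apply h1
    intro s
    show ((r : σ →₀ S) - (r' : σ →₀ S)) s ∈ RingHom.ker ρ
    rw [RingHom.mem_ker, ← qσ_apply, map_sub, hr, hr', sub_self]
    rfl
  obtain ⟨h', hh'⟩ := exists_linearMap_of_rel (S := P.toExtension.Ring) (relKer P) Rl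
    (by
      intro q₀ hq₀
      obtain ⟨r, rfl⟩ := qσ_surjective (σ := σ) ρ hρ q₀
      exact ⟨_, ⟨r, hmemRel0 r hq₀⟩, rfl, rfl⟩)
    Rl_uniq
    (by
      rintro q₀ q₀' v v' ⟨r, hr, rfl⟩ ⟨r', hr', rfl⟩
      refine ⟨r + r', ?_, (map_add _ _ _).symm⟩
      rw [Submodule.coe_add, map_add, hr, hr'])
    (by
      rintro a₀ q₀ v ⟨r, hr, rfl⟩
      obtain ⟨a, rfl⟩ := hρ a₀
      refine ⟨a • r, ?_, ?_⟩
      · rw [Submodule.coe_smul, qσ_smul, hr]
      · rw [map_smul, Algebra.smul_def, Algebra.smul_def, hβ])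
  have htriv : ∀ q : relKer P, (q : relMod P) ∈ trivRel P → h' q = 0 := by
    intro q hq
    have key : ∀ y (_ : y ∈ trivRel P) (hy' : y ∈ relKer P), h' ⟨y, hy'⟩ = 0 := by
      intro y hy
      refine Submodule.span_induction
        (p := fun y _ => ∀ hy' : y ∈ relKer P, h' ⟨y, hy'⟩ = 0) ?_ ?_ ?_ ?_ hy
      · rintro _ ⟨a₀, b₀, rfl⟩ hy'
        obtain ⟨a, rfl⟩ := qσ_surjective (σ := σ) ρ hρ a₀
        obtain ⟨b', rfl⟩ := qσ_surjective (σ := σ) ρ hρ b₀
        have hr0 : linearCombination S F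
            (linearCombination S F a • b' - linearCombination S F b' • a) = 0 := by
          rw [map_sub, map_smul, map_smul, smul_eq_mul, smul_eq_mul, mul_comm, sub_self]
        have hrmem : linearCombination S F a • b' - linearCombination S F b' • a ∈
            Rel0 (RingHom.ker ρ) F := by
          show linearCombination S F _ ∈ RingHom.ker ρ
          rw [hr0]
          exact zero_mem _
        have hq : qσ ρ (linearCombination S F a • b' - linearCombination S F b' • a) =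
            jmap P (qσ ρ a) • qσ ρ b' - jmap P (qσ ρ b') • qσ ρ a := by
          rw [map_sub, qσ_smul, qσ_smul, hjm, hjm]
        have h3 : Rl (jmap P (qσ ρ a) • qσ ρ b' - jmap P (qσ ρ b') • qσ ρ a) 0 :=
          ⟨⟨_, hrmem⟩, hq, (h2 ⟨_, hrmem⟩ hr0).symm⟩
        exact Rl_uniq _ _ _ (hh' ⟨_, hy'⟩) h3
      · intro hy'
        exact map_zero h'
      · intro x y hx hy ihx ihy hxy'
        have hx' : x ∈ relKer P := trivRel_le_relKer P hx
        have hy' : y ∈ relKer P := trivRel_le_relKer P hy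
        have : (⟨x + y, hxy'⟩ : relKer P) = ⟨x, hx'⟩ + ⟨y, hy'⟩ := rfl
        rw [this, map_add, ihx hx', ihy hy', add_zero]
      · intro a x hx ihx hax'
        have hx' : x ∈ relKer P := trivRel_le_relKer P hx
        have : (⟨a • x, hax'⟩ : relKer P) = a • ⟨x, hx'⟩ := rfl
        rw [this, map_smul, ihx hx', smul_zero]
    exact key q hq q.2
  obtain ⟨c, hc⟩ := exists_coeffs_of_T2 P hT2 h' htriv
  refine ⟨c, fun r => ?_⟩
  have e1 : h' ⟨qσ ρ (r : σ →₀ S), hrelKer r⟩ = h r :=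
    Rl_uniq _ _ _ (hh' ⟨_, hrelKer r⟩) ⟨r, rfl, rfl⟩
  rw [← e1, hc]
  have gen : ∀ x : σ →₀ S, linearCombination P.toExtension.Ring c (qσ ρ x) =
      linearCombination S c x := by
    intro x
    induction x using Finsupp.induction_linear with
    | zero => simp
    | add f g hf hg => rw [map_add, map_add, map_add, hf, hg]
    | single s a =>
      have : qσ ρ (Finsupp.single s a) = Finsupp.single s (ρ a) := by
        ext s'
        rw [qσ_apply]
        by_cases hs : s = s'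
        · subst hs; simp
        · simp [hs]
      rw [this, Finsupp.linearCombination_single, Finsupp.linearCombination_single,
        Algebra.smul_def, Algebra.smul_def, hβ]
  exact gen _

end Groth.Agent.Lib.ObsT2H3
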