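import Mathlib
import Groth.Agent.Lib.ObsT2f_helper3

/-!
# Lifting a flat deformation along a small extension when `T² = 0` (helper3)
-/

set_option autoImplicit false
set_option linter.unusedSectionVars false
set_option linter.style.haveILetI false

universe u

namespace Groth.Agent.Lib.ObsT2H3

open MvPolynomial TensorProduct

variable {k : Type u} [Field k] {B₀ : Type u} [CommRing B₀] [Algebra k B₀] {ι σ : Type u}
  (P : Algebra.Presentation k B₀ ι σ)

set_option maxHeartbeats 1600000 in
theorem exists_lift (hT2 : Subsingleton (CotT.T2 P B₀))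
    {A' A : Type u} [CommRing A'] [CommRing A]
    (res' : A' →+* k) (res : A →+* k) (p : A' →+* A) (hres : ∀ a, res (p a) = res' a)
    (hsres : Function.Surjective res)
    (hp : Function.Surjective p) (t : A') (hker : RingHom.ker p = Ideal.span {t})
    (hann : ∀ a : A', a * t = 0 ↔ res' a = 0)
    (hnil : IsNilpotent (RingHom.ker res))
    (E : Type u) [CommRing E] (γ : A →+* E) (α : E →+* B₀) (hflat : γ.Flat)
    (hα : Function.Surjective α) (hkerα : RingHom.ker α = (RingHom.ker res).map γ)
    (hcomp : ∀ a, α (γ a) = algebraMap k B₀ (res a)) :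
    ∃ (E' : Type u) (_ : CommRing E') (γ' : A' →+* E') (α' : E' →+* B₀) (π : E' →+* E),
      γ'.Flat ∧ Function.Surjective α' ∧ RingHom.ker α' = (RingHom.ker res').map γ' ∧
      (∀ a, α' (γ' a) = algebraMap k B₀ (res' a)) ∧ (∀ a, π (γ' a) = γ (p a)) ∧
      Function.Surjective π ∧ RingHom.ker π = (RingHom.ker p).map γ' ∧ ∀ y, α (π y) = α' y := by
  obtain ⟨b, F', hαφ, hφs, hF'rel, hF'gen⟩ :=
    exists_setup P res hsres hnil E γ α hflat hα hkerα hcomp
  letI : Algebra A E := γ.toAlgebra
  haveI : Module.Flat A E := hflat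
  let φ : MvPolynomial ι A →ₐ[A] E := aeval b
  have hφe : ∀ x, φ x = eval₂Hom γ b x := fun x => rfl
  have hφs' : Function.Surjective φ := hφs
  have hF'gen' : Ideal.span (Set.range F') = RingHom.ker (φ : MvPolynomial ι A →+* E) := hF'gen
  have hF'ker : ∀ s, φ (F' s) = 0 := by
    intro s
    have : F' s ∈ RingHom.ker (φ : MvPolynomial ι A →+* E) := by
      rw [← hF'gen']; exact Ideal.subset_span ⟨s, rfl⟩
    exact this
  -- the `S`-world
  let q : MvPolynomial ι A' →+* MvPolynomial ι A := map p
  have hq : Function.Surjective q := map_surjective p hp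
  choose F hF using fun s => hq (F' s)
  have hqF : (fun s => q (F s)) = F' := funext hF
  have hpt : p t = 0 := by
    have : t ∈ RingHom.ker p := by rw [hker]; exact Ideal.subset_span rfl
    exact this
  have hrest : res' t = 0 := by rw [← hres, hpt, map_zero]
  have hkerq : RingHom.ker q = Ideal.span {(C t : MvPolynomial ι A')} := by
    show RingHom.ker (map p) = _
    rw [ker_map, hker, Ideal.map_span, Set.image_singleton]
  let ρ : MvPolynomial ι A' →+* P.toExtension.Ring := map res'
  have hρq : ∀ z, ρ z = map res (q z) := by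
    intro z
    show map res' z = map res (map p z)
    rw [MvPolynomial.map_map]
    have : res' = res.comp p := RingHom.ext fun a => (hres a).symm
    rw [this]
  have hsres' : Function.Surjective res' := by
    intro c
    obtain ⟨a, rfl⟩ := hsres c
    obtain ⟨a', rfl⟩ := hp a
    exact ⟨a', (hres a').symm⟩
  have hρs : Function.Surjective ρ := map_surjective res' hsres'
  have hρF : ∀ s, ρ (F s) = P.relation s := by
    intro s
    rw [hρq, hF, hF'rel]
  -- the ideal `𝔨`
  have h𝔨 : ((RingHom.ker res).map (algebraMap A (MvPolynomial ι A))).comap q = RingHom.ker ρ := by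
    have h1 : (RingHom.ker res).map (algebraMap A (MvPolynomial ι A)) =
        RingHom.ker (map res : MvPolynomial ι A →+* MvPolynomial ι k) := (ker_map res).symm
    rw [h1]
    ext z
    rw [Ideal.mem_comap, RingHom.mem_ker, RingHom.mem_ker, hρq]
    exact Iff.rfl
  -- flatness inputs
  have R1 : ∀ r' : σ →₀ MvPolynomial ι A, Finsupp.linearCombination _ (fun s => q (F s)) r' ∈
        (RingHom.ker res).map (algebraMap A (MvPolynomial ι A)) →
      ∃ ρ' : σ →₀ MvPolynomial ι A, Finsupp.linearCombination _ (fun s => q (F s)) ρ' = 0 ∧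
        ∀ s, r' s - ρ' s ∈ (RingHom.ker res).map (algebraMap A (MvPolynomial ι A)) := by
    rw [hqF]
    exact flat_R1 φ hφs' (RingHom.ker res) F' hF'gen'
  have R2 : ∀ r' : σ →₀ MvPolynomial ι A, Finsupp.linearCombination _ (fun s => q (F s)) r' = 0 →
      (∀ s, r' s ∈ (RingHom.ker res).map (algebraMap A (MvPolynomial ι A))) →
      r' ∈ (RingHom.ker res).map (algebraMap A (MvPolynomial ι A)) •
        LinearMap.ker (Finsupp.linearCombination _ (fun s => q (F s))) := by
    rw [hqF]
    exact flat_R2 φ hφs' (RingHom.ker res) F' hF'gen'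
  have H1 := transfer_H1 q F hq (C t) hkerq _ R1
  have H2 := transfer_H2 q F hq (C t) hkerq _ R2
  rw [h𝔨] at H1 H2
  -- the module structure on `B₀`
  let βr : MvPolynomial ι A' →+* B₀ := (algebraMap P.toExtension.Ring B₀).comp ρ
  letI : Algebra (MvPolynomial ι A') B₀ := βr.toAlgebra
  have hβdef : ∀ z : MvPolynomial ι A', algebraMap (MvPolynomial ι A') B₀ z =
      algebraMap P.toExtension.Ring B₀ (ρ z) := fun z => rfl
  have hβs : Function.Surjective (Algebra.linearMap (MvPolynomial ι A') B₀) := by
    intro y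
    obtain ⟨x₀, hx₀⟩ := P.algebraMap_surjective y
    obtain ⟨x, rfl⟩ := hρs x₀
    exact ⟨x, hx₀⟩
  have hkerP : ∀ x : P.toExtension.Ring, algebraMap P.toExtension.Ring B₀ x = 0 →
      x ∈ Ideal.span (Set.range P.relation) := by
    intro x hx
    rw [P.span_range_relation_eq_ker]
    exact hx
  have hβ : LinearMap.ker (Algebra.linearMap (MvPolynomial ι A') B₀) =
      RingHom.ker ρ ⊔ Ideal.span (Set.range F) := by
    apply le_antisymm
    · intro z hz
      have hz' : algebraMap P.toExtension.Ring B₀ (ρ z) = 0 := hz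
      have h1 := hkerP _ hz'
      rw [Ideal.span, ← Finsupp.range_linearCombination] at h1
      obtain ⟨c₀, hc₀⟩ := h1
      obtain ⟨c, rfl⟩ := qσ_surjective (σ := σ) ρ hρs c₀
      have hrelfun : (fun s => ρ (F s)) = P.relation := funext hρF
      have h2 : ρ (Finsupp.linearCombination _ F c) = ρ z := by
        rw [← ev_qσ, hrelfun]
        exact hc₀
      have h3 : z - Finsupp.linearCombination _ F c ∈ RingHom.ker ρ := by
        rw [RingHom.mem_ker, map_sub, h2, sub_self]
      have : z = (z - Finsupp.linearCombination _ F c) + Finsupp.linearCombination _ F c := by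
        abel
      rw [this]
      refine Submodule.add_mem_sup h3 ?_
      rw [Ideal.span, ← Finsupp.range_linearCombination]
      exact LinearMap.mem_range_self _ _
    · refine sup_le ?_ ?_
      · intro z hz
        show algebraMap P.toExtension.Ring B₀ (ρ z) = 0
        rw [(RingHom.mem_ker).1 hz, map_zero]
      · rw [Ideal.span_le]
        rintro _ ⟨s, rfl⟩
        show algebraMap P.toExtension.Ring B₀ (ρ (F s)) = 0
        rw [hρF]
        exact P.relation_mem_ker s
  have hannS : ∀ z : MvPolynomial ι A', z * C t = 0 → z ∈ RingHom.ker ρ := by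
    intro z hz
    rw [RingHom.mem_ker]
    apply MvPolynomial.ext
    intro m
    show coeff m (map res' z) = coeff m 0
    rw [coeff_map, coeff_zero, ← hann, mul_comm, ← coeff_C_mul, mul_comm, hz, coeff_zero]
  have htk : (C t : MvPolynomial ι A') ∈ RingHom.ker ρ := by
    rw [RingHom.mem_ker]
    show map res' (C t) = 0
    rw [map_C, hrest, map_zero]
  obtain ⟨g, hg⟩ := exists_correction (t := (C t : MvPolynomial ι A')) (𝔨 := RingHom.ker ρ)
    (F := F) (β := Algebra.linearMap (MvPolynomial ι A') B₀) hannS htk hβs hβ H1 H2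
    (fun h h1 h2 => T2_hyp P hT2 ρ hρs F hρF hβdef h h1 h2)
  -- the lifted algebra
  let J : Ideal (MvPolynomial ι A') := Ideal.span (Set.range fun s => F s - C t * g s)
  let mk : MvPolynomial ι A' →+* MvPolynomial ι A' ⧸ J := Ideal.Quotient.mk J
  let γ' : A' →+* MvPolynomial ι A' ⧸ J := algebraMap A' (MvPolynomial ι A' ⧸ J)
  have hγ'mk : ∀ a, γ' a = mk (C a) := fun a => rfl
  have hβrCt : βr (C t) = 0 := by
    show algebraMap P.toExtension.Ring B₀ (ρ (C t)) = 0
    rw [(RingHom.mem_ker).1 htk, map_zero]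
  have hβrF : ∀ s, βr (F s) = 0 := by
    intro s
    show algebraMap P.toExtension.Ring B₀ (ρ (F s)) = 0
    rw [hρF]
    exact P.relation_mem_ker s
  have hJβ : ∀ x ∈ J, βr x = 0 := by
    intro x hx
    have : J ≤ RingHom.ker βr := by
      rw [Ideal.span_le]
      rintro _ ⟨s, rfl⟩
      show βr (F s - C t * g s) = 0
      rw [map_sub, map_mul, hβrF, hβrCt, zero_mul, sub_zero]
    exact this hx
  let α' : MvPolynomial ι A' ⧸ J →+* B₀ := Ideal.Quotient.lift J βr hJβ
  let φq : MvPolynomial ι A' →+* E := (φ : MvPolynomial ι A →+* E).comp q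
  have hqCt : q (C t) = 0 := by
    show map p (C t) = 0
    rw [map_C, hpt, map_zero]
  have hJφ : ∀ x ∈ J, φq x = 0 := by
    intro x hx
    have : J ≤ RingHom.ker φq := by
      rw [Ideal.span_le]
      rintro _ ⟨s, rfl⟩
      show φ (q (F s - C t * g s)) = 0
      rw [map_sub, map_mul, hqCt, zero_mul, sub_zero, hF, hF'ker]
    exact this hx
  let π : MvPolynomial ι A' ⧸ J →+* E := Ideal.Quotient.lift J φq hJφ
  have hα'mk : ∀ z, α' (mk z) = βr z := fun z => Ideal.Quotient.lift_mk J βr hJβ
  have hπmk : ∀ z, π (mk z) = φ (q z) := fun z => Ideal.Quotient.lift_mk J φq hJφ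
  have hmks : Function.Surjective mk := Ideal.Quotient.mk_surjective
  -- key facts
  have hsup : RingHom.ker ρ ⊔ Ideal.span (Set.range F) = RingHom.ker ρ ⊔ J := by
    apply le_antisymm
    · refine sup_le le_sup_left ?_
      rw [Ideal.span_le]
      rintro _ ⟨s, rfl⟩
      have : F s = C t * g s + (F s - C t * g s) := by ring
      rw [this]
      exact Submodule.add_mem_sup (Ideal.mul_mem_right _ _ htk) (Ideal.subset_span ⟨s, rfl⟩)
    · refine sup_le le_sup_left ?_
      rw [Ideal.span_le]
      rintro _ ⟨s, rfl⟩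
      refine Submodule.sub_mem _ (Ideal.mem_sup_right (Ideal.subset_span ⟨s, rfl⟩)) ?_
      exact Ideal.mem_sup_left (Ideal.mul_mem_right _ _ htk)
  have hmapmk : (RingHom.ker ρ).map mk = (RingHom.ker res').map γ' := by
    have : RingHom.ker ρ = (RingHom.ker res').map (C : A' →+* MvPolynomial ι A') := ker_map res'
    rw [this, Ideal.map_map]
    congr 1
  have hK3 : ∀ z, z ∈ RingHom.ker ρ ⊔ J → mk z ∈ (RingHom.ker res').map γ' := by
    intro z hz
    obtain ⟨z₁, hz₁, z₂, hz₂, rfl⟩ := Submodule.mem_sup.1 hz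
    rw [map_add, (Ideal.Quotient.eq_zero_iff_mem).2 hz₂, add_zero, ← hmapmk]
    exact Ideal.mem_map_of_mem _ hz₁
  have hα'γ' : ∀ a, α' (γ' a) = algebraMap k B₀ (res' a) := by
    intro a
    rw [hγ'mk, hα'mk]
    show algebraMap P.toExtension.Ring B₀ (map res' (C a)) = _
    rw [CotT.algebraMap_toExtension, map_C, aeval_C]
  have hπγ' : ∀ a, π (γ' a) = γ (p a) := by
    intro a
    rw [hγ'mk, hπmk]
    show φ (map p (C a)) = _
    rw [map_C]
    exact aeval_C _ _
  have hπs : Function.Surjective π := by
    intro y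
    obtain ⟨x, rfl⟩ := hφs' y
    obtain ⟨z, rfl⟩ := hq x
    exact ⟨mk z, hπmk z⟩
  have hkerα' : RingHom.ker α' = (RingHom.ker res').map γ' := by
    apply le_antisymm
    · intro y hy
      obtain ⟨z, rfl⟩ := hmks y
      rw [RingHom.mem_ker, hα'mk] at hy
      have hz : z ∈ LinearMap.ker (Algebra.linearMap (MvPolynomial ι A') B₀) := hy
      rw [hβ, hsup] at hz
      exact hK3 z hz
    · rw [Ideal.map_le_iff_le_comap]
      intro a ha
      rw [Ideal.mem_comap, RingHom.mem_ker, hα'γ', (RingHom.mem_ker).1 ha, map_zero]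
  have hkerπ : RingHom.ker π = (RingHom.ker p).map γ' := by
    apply le_antisymm
    · intro y hy
      obtain ⟨z, rfl⟩ := hmks y
      rw [RingHom.mem_ker, hπmk] at hy
      have h1 : q z ∈ Ideal.span (Set.range F') := by rw [hF'gen']; exact hy
      rw [Ideal.span, ← Finsupp.range_linearCombination] at h1
      obtain ⟨c', hc'⟩ := h1
      obtain ⟨c, rfl⟩ := qσ_surjective (σ := σ) q hq c'
      have h2 : q (Finsupp.linearCombination _ F c) = q z := by
        rw [← ev_qσ, hqF]; exact hc'
      have h3 : z - Finsupp.linearCombination _ F c ∈ Ideal.span {(C t : MvPolynomial ι A')} := by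
        rw [← hkerq, RingHom.mem_ker, map_sub, h2, sub_self]
      obtain ⟨w, hw⟩ := Ideal.mem_span_singleton'.1 h3
      have h4 : Finsupp.linearCombination _ F c ∈ J ⊔ Ideal.span {(C t : MvPolynomial ι A')} := by
        have hle : Ideal.span (Set.range F) ≤ J ⊔ Ideal.span {(C t : MvPolynomial ι A')} := by
          rw [Ideal.span_le]
          rintro _ ⟨s, rfl⟩
          have : F s = (F s - C t * g s) + C t * g s := by ring
          rw [this]
          exact Submodule.add_mem_sup (Ideal.subset_span ⟨s, rfl⟩)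
            (Ideal.mul_mem_right _ _ (Ideal.subset_span rfl))
        apply hle
        rw [Ideal.span, ← Finsupp.range_linearCombination]
        exact LinearMap.mem_range_self _ _
      have h5 : z ∈ J ⊔ Ideal.span {(C t : MvPolynomial ι A')} := by
        have : z = Finsupp.linearCombination _ F c + (z - Finsupp.linearCombination _ F c) := by
          abel
        rw [this]
        exact Ideal.add_mem _ h4 (Ideal.mem_sup_right h3)
      obtain ⟨z₁, hz₁, z₂, hz₂, rfl⟩ := Submodule.mem_sup.1 h5
      obtain ⟨w₂, rfl⟩ := Ideal.mem_span_singleton'.1 hz₂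
      rw [map_add, (Ideal.Quotient.eq_zero_iff_mem).2 hz₁, zero_add, map_mul]
      refine Ideal.mul_mem_left _ _ ?_
      exact Ideal.mem_map_of_mem γ' (show t ∈ RingHom.ker p from hpt)
    · rw [Ideal.map_le_iff_le_comap]
      intro a ha
      rw [Ideal.mem_comap, RingHom.mem_ker, hπγ', (RingHom.mem_ker).1 ha, map_zero]
  have hαπ : ∀ y, α (π y) = α' y := by
    intro y
    obtain ⟨z, rfl⟩ := hmks y
    rw [hπmk, hα'mk, hφe, hαφ, ← hρq]
    exact (CotT.algebraMap_toExtension P (ρ z)).symm
  -- flatness
  have hflat' : γ'.Flat := by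
    rw [RingHom.flat_algebraMap_iff]
    have hsmul : ∀ (a : A') (y : MvPolynomial ι A' ⧸ J), a • y = γ' a * y :=
      fun a y => Algebra.smul_def a y
    have htt : t * t = 0 := (hann t).2 hrest
    have hnilp : IsNilpotent (RingHom.ker p) := by
      refine ⟨2, ?_⟩
      rw [hker, pow_two, Ideal.span_singleton_mul_span_singleton, htt]
      simp
    haveI : Module.Flat (A' ⧸ RingHom.ker p)
        ((A' ⧸ RingHom.ker p) ⊗[A'] (MvPolynomial ι A' ⧸ J)) := by
      refine flat_baseChange_quot_of_surjective p hp (MvPolynomial ι A' ⧸ J) E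
        (π : (MvPolynomial ι A' ⧸ J) →+ E) hπs ?_ ?_
      · intro a y
        show π (a • y) = γ (p a) * π y
        rw [hsmul, map_mul, hπγ']
      · intro y hy
        have hy' : y ∈ RingHom.ker π := hy
        rw [hkerπ] at hy'
        rw [Ideal.smul_top_eq_map]
        exact hy'
    refine Groth.Agent.Lib.LocalCrit4.flat_of_nilpotent (RingHom.ker p) hnilp
      (MvPolynomial ι A' ⧸ J) ?_
    rw [hker]
    refine Groth.Agent.Lib.LocalCrit14.principal_rTensor_injective t (MvPolynomial ι A' ⧸ J)
      (RingHom.ker res') ?_ ?_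
    · intro a ha
      exact (hann a).2 ha
    · intro y hy
      obtain ⟨z, rfl⟩ := hmks y
      have h1 : mk (C t * z) = 0 := by
        rw [hsmul, hγ'mk] at hy
        rw [map_mul]
        exact hy
      have h2 : C t * z ∈ J := (Ideal.Quotient.eq_zero_iff_mem).1 h1
      have h3 := hg z h2
      rw [hsup] at h3
      rw [Ideal.smul_top_eq_map]
      exact hK3 z h3
  exact ⟨MvPolynomial ι A' ⧸ J, inferInstance, γ', α', π, hflat',
    fun y => by
      obtain ⟨z, hz⟩ := hβs y
      exact ⟨mk z, (hα'mk z).trans hz⟩,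
    hkerα', hα'γ', hπγ', hπs, hkerπ, hαπ⟩

end Groth.Agent.Lib.ObsT2H3
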