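import Mathlib
import Groth.Agent.Lib.ObsT2g_helper3

/-!
# Lifting flat deformations along arbitrary surjections of local Artinian rings when `T² = 0`
(helper3)

Ring-level induction reducing to the principal small extensions of `ObsT2H3.exists_lift`.
-/

set_option autoImplicit false
set_option linter.unusedSectionVars false
set_option linter.style.haveILetI false

universe u

namespace Groth.Agent.Lib.LciDefH3

open Groth.Agent.Lib.ObsT2H3

variable {k : Type u} [Field k] {B₀ : Type u} [CommRing B₀] [Algebra k B₀]

/-- the deformation `(E, γ, α)` over `A` lifts along `p : A' → A`. -/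
def HasLift {A' A : Type u} [CommRing A'] [CommRing A] (res' : A' →+* k) (p : A' →+* A)
    (E : Type u) [CommRing E] (γ : A →+* E) (α : E →+* B₀) : Prop :=
  ∃ (E' : Type u) (_ : CommRing E') (γ' : A' →+* E') (α' : E' →+* B₀) (π : E' →+* E),
    γ'.Flat ∧ Function.Surjective α' ∧ RingHom.ker α' = (RingHom.ker res').map γ' ∧
    (∀ a, α' (γ' a) = algebraMap k B₀ (res' a)) ∧ (∀ a, π (γ' a) = γ (p a)) ∧
    Function.Surjective π ∧ RingHom.ker π = (RingHom.ker p).map γ' ∧ ∀ y, α (π y) = α' y

section Ideals

variable {A' : Type u} [CommRing A'] [IsLocalRing A'] [IsArtinianRing A']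

/-- below a nonzero ideal `K` of a local Artinian ring there is an ideal `K''` with
`K = K'' + (t)` and `𝔪 t ⊆ K''`, `t ∉ K''`. -/
theorem exists_maximal_lt (K : Ideal A') (hK : K ≠ ⊥) :
    ∃ (K'' : Ideal A') (t : A'), K'' < K ∧ t ∈ K ∧ t ∉ K'' ∧ K'' ⊔ Ideal.span {t} = K ∧
      ∀ a : A', a * t ∈ K'' ↔ a ∈ IsLocalRing.maximalIdeal A' := by
  have hwf : WellFounded ((· > ·) : Ideal A' → Ideal A' → Prop) := wellFounded_gt
  obtain ⟨K'', hK''lt, hmax⟩ := hwf.has_min {J : Ideal A' | J < K} ⟨⊥, bot_lt_iff_ne_bot.2 hK⟩
  have hK''lt' : K'' < K := hK''lt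
  obtain ⟨t, htK, htK''⟩ := SetLike.exists_of_lt hK''lt'
  have hmax' : ∀ J : Ideal A', K'' < J → J ≤ K → J = K := by
    intro J h1 h2
    rcases lt_or_eq_of_le h2 with h | h
    · exact absurd h1 (hmax J h)
    · exact h
  have hsup : K'' ⊔ Ideal.span {t} = K := by
    apply hmax'
    · refine lt_of_le_of_ne le_sup_left ?_
      intro h
      apply htK''
      rw [h]
      exact Ideal.mem_sup_right (Ideal.subset_span rfl)
    · exact sup_le hK''lt'.le ((Ideal.span_singleton_le_iff_mem K).2 htK)
  refine ⟨K'', t, hK''lt', htK, htK'', hsup, fun a => ?_⟩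
  constructor
  · intro h
    by_contra ha
    have hu : IsUnit a := by
      by_contra hnu
      exact ha ((IsLocalRing.mem_maximalIdeal a).2 hnu)
    obtain ⟨u, rfl⟩ := hu
    apply htK''
    have : (↑u⁻¹ : A') * ((u : A') * t) ∈ K'' := K''.mul_mem_left _ h
    rwa [← mul_assoc, Units.inv_mul, one_mul] at this
  · intro ha
    by_contra hat
    have hJ : K'' ⊔ Ideal.span {a * t} = K := by
      apply hmax'
      · refine lt_of_le_of_ne le_sup_left ?_
        intro h
        apply hat
        rw [h]
        exact Ideal.mem_sup_right (Ideal.subset_span rfl)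
      · exact sup_le hK''lt'.le
          ((Ideal.span_singleton_le_iff_mem K).2 (K.mul_mem_left a htK))
    have ht : t ∈ K'' ⊔ Ideal.span {a * t} := by rw [hJ]; exact htK
    obtain ⟨y, hy, z, hz, hyz⟩ := Submodule.mem_sup.1 ht
    obtain ⟨c, rfl⟩ := Ideal.mem_span_singleton'.1 hz
    have h1 : (1 - c * a) * t = y := by
      linear_combination (-1 : A') * hyz
    have hca : c * a ∈ IsLocalRing.maximalIdeal A' := Ideal.mul_mem_left _ c ha
    have hu : IsUnit (1 - c * a) := by
      by_contra hnu
      have h2 : 1 - c * a ∈ IsLocalRing.maximalIdeal A' := (IsLocalRing.mem_maximalIdeal _).2 hnu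
      have h3 : (1 : A') ∈ IsLocalRing.maximalIdeal A' := by
        have := Ideal.add_mem _ h2 hca
        rwa [sub_add_cancel] at this
      exact (Ideal.ne_top_iff_one _).1 (IsLocalRing.maximalIdeal.isMaximal A').ne_top h3
    obtain ⟨u, hu⟩ := hu
    apply htK''
    have : (↑u⁻¹ : A') * ((u : A') * t) ∈ K'' := by
      apply K''.mul_mem_left
      rw [hu, h1]
      exact hy
    rwa [← mul_assoc, Units.inv_mul, one_mul] at this

end Ideals

variable {ι σ : Type u} (P : Algebra.Presentation k B₀ ι σ)

set_option maxHeartbeats 1600000 in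
theorem exists_lift_aux (hT2 : Subsingleton (CotT.T2 P B₀))
    {A' : Type u} [CommRing A'] [IsLocalRing A'] [IsArtinianRing A']
    (res' : A' →+* k) (hsres' : Function.Surjective res') (K : Ideal A') :
    ∀ (A : Type u) [CommRing A] (res : A →+* k) (p : A' →+* A),
      (∀ a, res (p a) = res' a) → Function.Surjective p → RingHom.ker p = K →
      ∀ (E : Type u) [CommRing E] (γ : A →+* E) (α : E →+* B₀), γ.Flat → Function.Surjective α →
        RingHom.ker α = (RingHom.ker res).map γ → (∀ a, α (γ a) = algebraMap k B₀ (res a)) →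
        HasLift res' p E γ α := by
  have hm : RingHom.ker res' = IsLocalRing.maximalIdeal A' :=
    IsLocalRing.eq_maximalIdeal (RingHom.ker_isMaximal_of_surjective res' hsres')
  refine WellFoundedLT.induction (motive := fun K : Ideal A' =>
    ∀ (A : Type u) [CommRing A] (res : A →+* k) (p : A' →+* A),
      (∀ a, res (p a) = res' a) → Function.Surjective p → RingHom.ker p = K →
      ∀ (E : Type u) [CommRing E] (γ : A →+* E) (α : E →+* B₀), γ.Flat → Function.Surjective α →
        RingHom.ker α = (RingHom.ker res).map γ → (∀ a, α (γ a) = algebraMap k B₀ (res a)) →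
        HasLift res' p E γ α) K ?_
  intro K IH A _ res p hres hp hkerp E _ γ α hflat hα hkerα hcomp
  have hkres : RingHom.ker res' = (RingHom.ker res).comap p := by
    ext a
    rw [Ideal.mem_comap, RingHom.mem_ker, RingHom.mem_ker, hres]
  have hkres2 : Ideal.map p (RingHom.ker res') = RingHom.ker res := by
    rw [hkres, Ideal.map_comap_of_surjective p hp]
  by_cases hK : K = ⊥
  · -- `p` is bijective
    have hinj : Function.Injective p := by
      rw [RingHom.injective_iff_ker_eq_bot, hkerp, hK]
    have hbij : Function.Bijective p := ⟨hinj, hp⟩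
    refine ⟨E, inferInstance, γ.comp p, α, RingHom.id E, ?_, hα, ?_, ?_, ?_, ?_, ?_, ?_⟩
    · exact RingHom.Flat.comp (RingHom.Flat.of_bijective hbij) hflat
    · rw [hkerα, ← hkres2, Ideal.map_map]
    · intro a
      rw [RingHom.comp_apply, hcomp, hres]
    · intro a
      rfl
    · exact Function.surjective_id
    · rw [hkerp, hK, Ideal.map_bot]
      ext y
      rw [RingHom.mem_ker, RingHom.id_apply, Ideal.mem_bot]
    · intro y
      rfl
  · obtain ⟨K'', t, hlt, htK, htK'', hsup, hann⟩ := exists_maximal_lt K hK
    -- the intermediate ring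
    let q : A' →+* A' ⧸ K'' := Ideal.Quotient.mk K''
    have hq : Function.Surjective q := Ideal.Quotient.mk_surjective
    have hkerq : RingHom.ker q = K'' := Ideal.mk_ker
    have hK''p : ∀ a ∈ K'', p a = 0 := by
      intro a ha
      have : a ∈ RingHom.ker p := by rw [hkerp]; exact hlt.le ha
      exact this
    let p'' : A' ⧸ K'' →+* A := Ideal.Quotient.lift K'' p hK''p
    have hp''q : ∀ a, p'' (q a) = p a := fun a => Ideal.Quotient.lift_mk K'' p hK''p
    have hp'' : Function.Surjective p'' := by
      intro a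
      obtain ⟨a', rfl⟩ := hp a
      exact ⟨q a', hp''q a'⟩
    let res'' : A' ⧸ K'' →+* k := res.comp p''
    have hres''q : ∀ a, res'' (q a) = res' a := by
      intro a
      show res (p'' (q a)) = res' a
      rw [hp''q, hres]
    have hsres : Function.Surjective res := by
      intro c
      obtain ⟨a, rfl⟩ := hsres' c
      exact ⟨p a, hres a⟩
    have hkerp'' : RingHom.ker p'' = Ideal.span {q t} := by
      have h1 : RingHom.ker p'' = K.map q := by
        apply le_antisymm
        · intro x hx
          obtain ⟨a, rfl⟩ := hq x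
          rw [RingHom.mem_ker, hp''q] at hx
          apply Ideal.mem_map_of_mem
          rw [← hkerp]
          exact hx
        · rw [Ideal.map_le_iff_le_comap]
          intro a ha
          rw [Ideal.mem_comap, RingHom.mem_ker, hp''q]
          have : a ∈ RingHom.ker p := by rw [hkerp]; exact ha
          exact this
      rw [h1, ← hsup, Ideal.map_sup, Ideal.map_span, Set.image_singleton]
      have h2 : K''.map q = ⊥ :=
        (Ideal.map_eq_bot_iff_le_ker q).2 (le_of_eq hkerq.symm)
      rw [h2, bot_sup_eq]
    have hann'' : ∀ a : A' ⧸ K'', a * q t = 0 ↔ res'' a = 0 := by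
      intro x
      obtain ⟨a, rfl⟩ := hq x
      rw [hres''q, ← map_mul]
      show Ideal.Quotient.mk K'' (a * t) = 0 ↔ _
      rw [Ideal.Quotient.eq_zero_iff_mem, hann a, ← hm, RingHom.mem_ker]
    have hnil : IsNilpotent (RingHom.ker res) := by
      have hnilm : IsNilpotent (IsLocalRing.maximalIdeal A') := by
        rw [← IsLocalRing.jacobson_eq_maximalIdeal (⊥ : Ideal A') bot_ne_top]
        exact IsArtinianRing.isNilpotent_jacobson_bot
      obtain ⟨n, hn⟩ := hnilm
      refine ⟨n, ?_⟩
      rw [← hkres2, hm, ← Ideal.map_pow, hn]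
      exact Ideal.map_bot
    obtain ⟨E'', _, γ'', α'', π'', hflat'', hα'', hkerα'', hcomp'', hπγ'', hπs'', hkerπ'', hαπ''⟩ :=
      exists_lift P hT2 res'' res p'' (fun a => rfl) hsres hp'' (q t) hkerp'' hann'' hnil
        E γ α hflat hα hkerα hcomp
    obtain ⟨E', _, γ', α', π', hflat', hα', hkerα', hcomp', hπγ', hπs', hkerπ', hαπ'⟩ :=
      IH K'' hlt (A' ⧸ K'') res'' q hres''q hq hkerq E'' γ'' α'' hflat'' hα'' hkerα'' hcomp''
    refine ⟨E', inferInstance, γ', α', π''.comp π', hflat', hα', hkerα', hcomp', ?_, ?_, ?_, ?_⟩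
    · intro a
      rw [RingHom.comp_apply, hπγ', hπγ'', hp''q]
    · exact hπs''.comp hπs'
    · have h1 : RingHom.ker (π''.comp π') = (RingHom.ker π'').comap π' := by
        ext y
        rw [Ideal.mem_comap, RingHom.mem_ker, RingHom.mem_ker, RingHom.comp_apply]
      have h2 : (RingHom.ker p'').map γ'' = ((RingHom.ker p).map γ').map π' := by
        have hK1 : RingHom.ker p'' = (RingHom.ker p).map q := by
          apply le_antisymm
          · intro x hx
            obtain ⟨a, rfl⟩ := hq x
            rw [RingHom.mem_ker, hp''q] at hx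
            exact Ideal.mem_map_of_mem _ hx
          · rw [Ideal.map_le_iff_le_comap]
            intro a ha
            rw [Ideal.mem_comap, RingHom.mem_ker, hp''q]
            exact ha
        rw [hK1, Ideal.map_map, Ideal.map_map]
        congr 1
        apply RingHom.ext
        intro a
        rw [RingHom.comp_apply, RingHom.comp_apply, hπγ']
      rw [h1, hkerπ'', h2, Ideal.comap_map_of_surjective π' hπs']
      have h3 : Ideal.comap π' ⊥ = RingHom.ker π' := rfl
      rw [h3, hkerπ', hkerq, ← Ideal.map_sup]
      congr 1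
      rw [hkerp]
      exact sup_eq_left.2 hlt.le
    · intro y
      rw [RingHom.comp_apply, hαπ'', hαπ']

theorem exists_lift_of_surjective (hT2 : Subsingleton (CotT.T2 P B₀))
    {A' A : Type u} [CommRing A'] [IsLocalRing A'] [IsArtinianRing A'] [CommRing A]
    (res' : A' →+* k) (hsres' : Function.Surjective res') (res : A →+* k) (p : A' →+* A)
    (hres : ∀ a, res (p a) = res' a) (hp : Function.Surjective p)
    (E : Type u) [CommRing E] (γ : A →+* E) (α : E →+* B₀) (hflat : γ.Flat)
    (hα : Function.Surjective α) (hkerα : RingHom.ker α = (RingHom.ker res).map γ)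
    (hcomp : ∀ a, α (γ a) = algebraMap k B₀ (res a)) :
    HasLift res' p E γ α :=
  exists_lift_aux P hT2 res' hsres' (RingHom.ker p) A res p hres hp rfl E γ α hflat hα hkerα hcomp

end Groth.Agent.Lib.LciDefH3
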