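import Mathlib
import Groth.Prelude.Def_RegImm
import Groth.Prelude.Def_LCI2
import Groth.Agent.Lib.SyntTA3_helper2
import Groth.Agent.Lib.SyntCM1_helper2
import Groth.Agent.Lib.SyntConormal_helper2
import Groth.Agent.Lib.AssFlat_helper5
import Groth.Agent.Lib.DepthAss_helper5

/-!
# `H¹` of the naive cotangent complex of a flat lci algebra with generically smooth fibres vanishes
(helper2): S16713, S18126.

* `mem_minimalPrimes_of_mem_associatedPrimes`: associated primes of a CM ring are minimal;
* `exists_ass_comap_eq`: associated primes over `R` of an `S`-module are contractions of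
  associated primes over `S`;
* `ass_subset_of_flat`: `Ass N ⊆ Ass P` for a flat `P`-module `N`;
* `minimal_in_fibre_of_mem_ass`: for `A → P` flat with CM fibres, an associated prime of `P` is minimal
  in its fibre;
* `cotangent_projective_of_koszulRegular`, `cotangent_projective`;
* `main_general`, `main16713`, `main18126`.
APPEND-ONLY once landed.
-/

set_option autoImplicit false
universe u

namespace Groth.Agent.Lib.H1CotLCI

open TensorProduct

section cm

/-- associated primes of a Cohen–Macaulay ring are minimal primes. -/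
theorem mem_minimalPrimes_of_mem_associatedPrimes (F : Type u) [CommRing F]
    [hF : LocCoh.IsCohenMacaulayRing F] (q : Ideal F) (hq : q ∈ associatedPrimes F F) :
    q ∈ minimalPrimes F := by
  haveI hqp : q.IsPrime := hq.isPrime
  haveI hCM : LocCoh.IsCohenMacaulayLocalRing (Localization.AtPrime q) :=
    hF.isCohenMacaulayLocalRing_localization q
  haveI : IsNoetherianRing (Localization.AtPrime q) := hCM.toIsNoetherian
  have hmax : IsLocalRing.maximalIdeal (Localization.AtPrime q) ∈
      associatedPrimes (Localization.AtPrime q) (Localization.AtPrime q) := by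
    apply Module.associatedPrimes.mem_associatedPrimes_of_comap_mem_associatedPrimes_of_isLocalizedModule
      q.primeCompl (Algebra.linearMap F (Localization.AtPrime q))
    have h0 : (IsLocalRing.maximalIdeal (Localization.AtPrime q)).comap
        (algebraMap F (Localization.AtPrime q)) = q := Localization.AtPrime.under_maximalIdeal
    rw [h0]
    exact hq
  have h1 := Groth.Agent.DepthLib.depth_le_ringKrullDim_quotient (Localization.AtPrime q)
    (Localization.AtPrime q) _ hmax
  have h2 : ringKrullDim (Localization.AtPrime q ⧸ IsLocalRing.maximalIdeal (Localization.AtPrime q))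
      = 0 :=
    ringKrullDim_eq_zero_of_isField
      ((Ideal.Quotient.maximal_ideal_iff_isField_quotient _).mp inferInstance)
  have h3 := hCM.supportDim_eq_depth
  rw [Module.supportDim_self_eq_ringKrullDim] at h3
  have h4 : ringKrullDim (Localization.AtPrime q) ≤ 0 := by
    rw [h3]
    rw [h2] at h1
    exact h1
  rw [IsLocalization.AtPrime.ringKrullDim_eq_height q (Localization.AtPrime q)] at h4
  have h6 : q.height = 0 := by
    have h7 : q.height ≤ 0 := by exact_mod_cast h4
    exact nonpos_iff_eq_zero.mp h7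
  exact Ideal.height_eq_zero_iff.mp h6

end cm

section ass

/-- associated primes over `R` of an `S`-module are contractions of associated primes over `S`. -/
theorem exists_ass_comap_eq {R S : Type u} [CommRing R] [CommRing S] [Algebra R S]
    [IsNoetherianRing R] [IsNoetherianRing S]
    (M : Type u) [AddCommGroup M] [Module S M] [Module R M] [IsScalarTower R S M]
    (q : Ideal R) (hq : q ∈ associatedPrimes R M) :
    ∃ q' ∈ associatedPrimes S M, q'.comap (algebraMap R S) = q := by
  obtain ⟨hqp, z, hz⟩ := isAssociatedPrime_iff.1 hq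
  have hc : ((⊥ : Submodule S M).colon {z}).comap (algebraMap R S) = q := by
    ext r
    rw [hz, Ideal.mem_comap, Submodule.mem_colon_singleton, Submodule.mem_colon_singleton,
      Submodule.mem_bot, Submodule.mem_bot, algebraMap_smul]
  have hmin : q ∈ (((⊥ : Submodule S M).colon {z}).comap (algebraMap R S)).minimalPrimes := by
    rw [hc, Ideal.minimalPrimes_eq_subsingleton_self]
    exact Set.mem_singleton q
  obtain ⟨q', hq'min, hq'c⟩ := Ideal.exists_minimalPrimes_comap_eq (algebraMap R S) q hmin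
  obtain ⟨y, hy⟩ := Submodule.exists_eq_colon_of_mem_minimalPrimes hq'min
  exact ⟨q', isAssociatedPrime_iff.2 ⟨hq'min.1.1, y, hy⟩, hq'c⟩

/-- `Ass N ⊆ Ass P` for a flat `P`-module `N`. -/
theorem ass_subset_of_flat {P : Type u} [CommRing P] [IsNoetherianRing P] (N : Type u)
    [AddCommGroup N] [Module P N] [Module.Flat P N] :
    associatedPrimes P N ⊆ associatedPrimes P P := by
  intro q hq
  have h1 : q ∈ associatedPrimes P (N ⊗[P] P) := by
    rw [LinearEquiv.AssociatedPrimes.eq (TensorProduct.rid P N)]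
    exact hq
  have h2 := (Groth.Agent.AssFlat.mem_of_mem_associatedPrimes_tensor (R := P) (S := P) (N := N)
    P q h1).1
  rw [Algebra.algebraMap_self, Ideal.comap_id] at h2
  exact h2

end ass

section fibre

attribute [local instance] Algebra.TensorProduct.rightAlgebra

variable (A P : Type u) [CommRing A] [CommRing P] [Algebra A P]

theorem key_fibre [IsNoetherianRing A] [IsNoetherianRing P] [Module.Flat A P]
    (p : PrimeSpectrum A) [hCM : LocCoh.IsCohenMacaulayRing (p.asIdeal.Fiber P)]
    (q : Ideal P) (hq : q ∈ associatedPrimes P P) (hp : q.comap (algebraMap A P) = p.asIdeal) :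
    ∃ q' : Ideal (p.asIdeal.Fiber P), q' ∈ minimalPrimes (p.asIdeal.Fiber P) ∧
      q'.comap (algebraMap P (p.asIdeal.Fiber P)) = q := by
  have h1 : q ∈ associatedPrimes P (P ⊗[A] A) := by
    rw [LinearEquiv.AssociatedPrimes.eq (TensorProduct.AlgebraTensorModule.rid A P P)]
    exact hq
  obtain ⟨-, h3⟩ := Groth.Agent.AssFlat.mem_of_mem_associatedPrimes_tensor (R := A) (S := P)
    (N := P) A q h1
  rw [hp] at h3
  let ι : (A ⧸ p.asIdeal) →ₗ[A] p.asIdeal.ResidueField :=
    (IsScalarTower.toAlgHom A (A ⧸ p.asIdeal) p.asIdeal.ResidueField).toLinearMap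
  have hι : Function.Injective ι := p.asIdeal.injective_algebraMap_quotient_residueField
  have h4 : q ∈ associatedPrimes P (P ⊗[A] p.asIdeal.ResidueField) :=
    associatedPrimes.subset_of_injective (f := Groth.Agent.AssFlat.lT P P ι)
      (Groth.Agent.AssFlat.lT_injective ι hι) h3
  have h5 : q ∈ associatedPrimes P (p.asIdeal.Fiber P) := by
    rw [← LinearEquiv.AssociatedPrimes.eq
      (Algebra.TensorProduct.commRight A P p.asIdeal.ResidueField).toLinearEquiv]
    exact h4
  haveI : IsNoetherianRing (p.asIdeal.Fiber P) := hCM.toIsNoetherian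
  obtain ⟨q', hq', hq'c⟩ := exists_ass_comap_eq (R := P) (S := p.asIdeal.Fiber P)
    (p.asIdeal.Fiber P) q h5
  exact ⟨q', mem_minimalPrimes_of_mem_associatedPrimes _ q' hq', hq'c⟩

theorem eq_of_le_of_comap_eq (p : PrimeSpectrum A) (q' : PrimeSpectrum (p.asIdeal.Fiber P))
    (hmin : q'.asIdeal ∈ minimalPrimes (p.asIdeal.Fiber P)) (Q : PrimeSpectrum P)
    (hQ : Q.asIdeal ≤ q'.asIdeal.comap (algebraMap P (p.asIdeal.Fiber P)))
    (hQp : Q.asIdeal.comap (algebraMap A P) = p.asIdeal) :
    Q.asIdeal = q'.asIdeal.comap (algebraMap P (p.asIdeal.Fiber P)) := by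
  let o := PrimeSpectrum.preimageOrderIsoFiber A P p
  have hQmem : Q ∈ PrimeSpectrum.comap (algebraMap A P) ⁻¹' {p} := by
    rw [Set.mem_preimage, Set.mem_singleton_iff]
    exact PrimeSpectrum.ext hQp
  have h1 : ((o.symm q').1).asIdeal = q'.asIdeal.comap (algebraMap P (p.asIdeal.Fiber P)) := rfl
  have h2 : (⟨Q, hQmem⟩ : ↥(PrimeSpectrum.comap (algebraMap A P) ⁻¹' {p})) ≤ o.symm q' := by
    show Q.asIdeal ≤ ((o.symm q').1).asIdeal
    rw [h1]
    exact hQ
  have h3 : o ⟨Q, hQmem⟩ ≤ q' := by
    have := o.monotone h2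
    rwa [OrderIso.apply_symm_apply] at this
  have h3' : (o ⟨Q, hQmem⟩).asIdeal ≤ q'.asIdeal := h3
  have h4 : (o ⟨Q, hQmem⟩).asIdeal = q'.asIdeal :=
    le_antisymm h3' (hmin.2 ⟨(o ⟨Q, hQmem⟩).isPrime, bot_le⟩ h3')
  have h5 : o ⟨Q, hQmem⟩ = q' := PrimeSpectrum.ext h4
  have h6 : (⟨Q, hQmem⟩ : ↥(PrimeSpectrum.comap (algebraMap A P) ⁻¹' {p})) = o.symm q' := by
    rw [← h5, OrderIso.symm_apply_apply]
  rw [← h1, ← h6]

/-- for `A → P` flat with Cohen–Macaulay fibres, an associated prime of `P` is minimal in its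
fibre. -/
theorem minimal_in_fibre_of_mem_ass [IsNoetherianRing A] [IsNoetherianRing P] [Module.Flat A P]
    (hCM : ∀ p : PrimeSpectrum A, LocCoh.IsCohenMacaulayRing (p.asIdeal.Fiber P))
    (q : PrimeSpectrum P) (hq : q.asIdeal ∈ associatedPrimes P P) :
    ∀ Q : PrimeSpectrum P, Q ≤ q →
      Q.asIdeal.comap (algebraMap A P) = q.asIdeal.comap (algebraMap A P) → Q = q := by
  intro Q hQ hQc
  let p : PrimeSpectrum A := ⟨q.asIdeal.comap (algebraMap A P), inferInstance⟩
  haveI := hCM p
  obtain ⟨q', hq'min, hq'c⟩ := key_fibre A P p q.asIdeal hq rfl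
  haveI hq'p : q'.IsPrime := hq'min.1.1
  have h := eq_of_le_of_comap_eq A P p ⟨q', hq'p⟩ hq'min Q (by rw [hq'c]; exact hQ) hQc
  apply PrimeSpectrum.ext
  rw [h]
  exact hq'c

end fibre

section cot

open Groth.Agent.Lib.SyntConormal Groth.Agent.Lib.KoszulLow

theorem cotangent_projective_of_koszulRegular {R : Type u} [CommRing R] (I : Ideal R)
    (hI : LCI.IsKoszulRegularIdeal I) :
    Module.Finite (R ⧸ I) I.Cotangent ∧ Module.Projective (R ⧸ I) I.Cotangent := by
  apply finite_projective_of_lfd
  intro 𝔪 hmax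
  haveI := hmax.isPrime
  obtain ⟨g, hg, l, hkr, hmap⟩ := hI ⟨𝔪.comap (Ideal.Quotient.mk I), inferInstance⟩ (by
    intro x hx
    show Ideal.Quotient.mk I x ∈ 𝔪
    rw [Ideal.Quotient.eq_zero_iff_mem.mpr hx]
    exact zero_mem _)
  have hq : CAlgX.IsQuasiRegular l.get :=
    Groth.Agent.Lib.H1QRegH1.main2103 _ (h1_of_koszulRegular l hkr)
  have hI' : I.map (algebraMap R (Localization.Away g)) = Ideal.span (Set.range l.get) := by
    rw [hmap, Set.range_list_get]
  obtain ⟨m, hm⟩ := lfd_cotangent I g (Localization.Away g) l.get hq hI'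
  exact ⟨Ideal.Quotient.mk I g, hg, l.length, m, hm⟩

attribute [local instance] RingHomInvPair.of_ringEquiv RingHomInvPair.of_ringEquiv_symm in
theorem cotangent_projective {A P : Type u} [CommRing A] [CommRing P] [Algebra A P]
    (E : Algebra.Extension.{u} A P)
    (h : Module.Projective (E.Ring ⧸ E.ker) E.ker.Cotangent) :
    Module.Projective P E.Cotangent := by
  set e : (E.Ring ⧸ E.ker) ≃+* P :=
    RingHom.quotientKerEquivOfSurjective E.algebraMap_surjective with he
  refine Module.Projective.of_equiv (M := E.ker.Cotangent) (R := E.Ring ⧸ E.ker) (σ := e)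
    { toFun := Algebra.Extension.Cotangent.of
      map_add' := fun _ _ => rfl
      map_smul' := ?_
      invFun := Algebra.Extension.Cotangent.val
      left_inv := fun _ => rfl
      right_inv := fun _ => rfl }
  intro r m
  obtain ⟨r, rfl⟩ := Ideal.Quotient.mk_surjective r
  apply Algebra.Extension.Cotangent.ext
  have h1 : (e (Ideal.Quotient.mk E.ker r)) = algebraMap E.Ring P r := rfl
  show Ideal.Quotient.mk E.ker r • m =
    ((e (Ideal.Quotient.mk E.ker r)) • (Algebra.Extension.Cotangent.of m : E.Cotangent)).val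
  rw [h1, algebraMap_smul, Algebra.Extension.Cotangent.val_smul']
  rfl

end cot

section main

open Groth.Agent.Lib.SyntTA

variable (A : Type u) [CommRing A] [IsNoetherianRing A] (P : Type u) [CommRing P] [Algebra A P]

theorem main_general [Module.Flat A P] (hlci : LCI.IsLCI A P)
    (hgs : ∀ 𝔓 : PrimeSpectrum P,
      (∀ 𝔔 : PrimeSpectrum P, 𝔔 ≤ 𝔓 →
          𝔔.asIdeal.comap (algebraMap A P) = 𝔓.asIdeal.comap (algebraMap A P) → 𝔔 = 𝔓) →
        𝔓 ∈ Algebra.smoothLocus A P) :
    Subsingleton (Algebra.H1Cotangent A P) := by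
  haveI : Algebra.FiniteType A P := hlci.1
  haveI : IsNoetherianRing P := Algebra.FiniteType.isNoetherianRing A P
  have hsynt := isSyntomic_of_flat_of_isLCI A P inferInstance hlci
  have hCM : ∀ p : PrimeSpectrum A, LocCoh.IsCohenMacaulayRing (p.asIdeal.Fiber P) := fun p =>
    Groth.Agent.Lib.SyntCM.main9142 _ _ (hsynt.2.2 p)
  obtain ⟨-, n, f, hf, hK⟩ := hlci
  let G : Algebra.Generators A P (Fin n) := Algebra.Generators.ofAlgHom f hf
  have hfe : (MvPolynomial.aeval (f ∘ MvPolynomial.X) : MvPolynomial (Fin n) A →ₐ[A] P) = f := by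
    ext i
    simp
  have hker : G.toExtension.ker = RingHom.ker f.toRingHom := by
    ext x
    show MvPolynomial.aeval (f ∘ MvPolynomial.X) x = 0 ↔ f x = 0
    rw [hfe]
  have hK' : LCI.IsKoszulRegularIdeal G.toExtension.ker := by
    rw [hker]
    exact hK
  haveI hproj : Module.Projective P G.toExtension.Cotangent :=
    cotangent_projective _ (cotangent_projective_of_koszulRegular _ hK').2
  by_contra hns
  rw [not_subsingleton_iff_nontrivial] at hns
  obtain ⟨q, hq⟩ := associatedPrimes.nonempty P (Algebra.H1Cotangent A P)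
  haveI hqp : q.IsPrime := hq.isPrime
  have h1 : q ∈ associatedPrimes P G.toExtension.Cotangent :=
    associatedPrimes.subset_of_injective
      (f := G.toExtension.h1Cotangentι ∘ₗ G.equivH1Cotangent.symm.toLinearMap)
      (G.toExtension.h1Cotangentι_injective.comp G.equivH1Cotangent.symm.injective) hq
  have h2 : q ∈ associatedPrimes P P := ass_subset_of_flat _ h1
  have hsm : (⟨q, hqp⟩ : PrimeSpectrum P) ∈ Algebra.smoothLocus A P :=
    hgs ⟨q, hqp⟩ (minimal_in_fibre_of_mem_ass A P hCM ⟨q, hqp⟩ h2)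
  have hfs : Algebra.FormallySmooth A (Localization.AtPrime q) := hsm
  haveI : Subsingleton (Algebra.H1Cotangent A (Localization.AtPrime q)) :=
    hfs.subsingleton_h1Cotangent
  haveI hsub : Subsingleton (Localization.AtPrime q ⊗[P] Algebra.H1Cotangent A P) :=
    (Algebra.tensorH1CotangentOfIsLocalization A (Localization.AtPrime q)
      q.primeCompl).toEquiv.subsingleton
  obtain ⟨-, z, hz⟩ := isAssociatedPrime_iff.1 hq
  haveI : IsLocalizedModule q.primeCompl
      (TensorProduct.mk P (Localization.AtPrime q) (Algebra.H1Cotangent A P) 1) :=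
    (isLocalizedModule_iff_isBaseChange q.primeCompl (Localization.AtPrime q) _).mpr
      (TensorProduct.isBaseChange P _ _)
  have hz0 : TensorProduct.mk P (Localization.AtPrime q) (Algebra.H1Cotangent A P) 1 z = 0 :=
    Subsingleton.elim _ _
  obtain ⟨c, hc⟩ := (IsLocalizedModule.eq_zero_iff q.primeCompl _).mp hz0
  have h9 : (c : P) ∈ (⊥ : Submodule P (Algebra.H1Cotangent A P)).colon {z} := by
    rw [Submodule.mem_colon_singleton, Submodule.mem_bot]
    exact hc
  have hcq : (c : P) ∈ q := (SetLike.ext_iff.mp hz (c : P)).mpr h9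
  exact c.2 hcq

theorem main18126 (h2 : IsUnit (2 : A)) [Module.Flat A P] (hlci : LCI.IsLCI A P)
    (hgs : ∀ 𝔓 : PrimeSpectrum P,
      (∀ 𝔔 : PrimeSpectrum P, 𝔔 ≤ 𝔓 →
          𝔔.asIdeal.comap (algebraMap A P) = 𝔓.asIdeal.comap (algebraMap A P) → 𝔔 = 𝔓) →
        𝔓 ∈ Algebra.smoothLocus A P) :
    Subsingleton (Algebra.H1Cotangent A P) :=
  main_general A P hlci hgs

theorem main16713 (k : Type u) [Field k]
    (B : Type u) [CommRing B] [Algebra k B] (hlci : LCI.IsLCI k B)
    (hgs : ∀ (p : Ideal B) [p.IsPrime], p ∈ minimalPrimes B →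
      Algebra.FormallySmooth k (Localization.AtPrime p)) :
    Subsingleton (Algebra.H1Cotangent k B) := by
  apply main_general k B hlci
  intro 𝔓 hmin
  show Algebra.FormallySmooth k (Localization.AtPrime 𝔓.asIdeal)
  apply hgs
  refine ⟨⟨𝔓.isPrime, bot_le⟩, fun Q hQ hQle => ?_⟩
  haveI := hQ.1
  have h1 : (⟨Q, hQ.1⟩ : PrimeSpectrum B) = 𝔓 := by
    apply hmin ⟨Q, hQ.1⟩ hQle
    show Q.comap (algebraMap k B) = 𝔓.asIdeal.comap (algebraMap k B)
    rw [Ideal.eq_bot_of_prime (Q.comap (algebraMap k B)),
      Ideal.eq_bot_of_prime (𝔓.asIdeal.comap (algebraMap k B))]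
  rw [← h1]

end main

end Groth.Agent.Lib.H1CotLCI
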