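import Mathlib
import Groth.Prelude.Def_CotT2
import Groth.Prelude.Def_LCI2
import Groth.Agent.Lib.CotTSm_helper1
import Groth.Agent.Lib.KoszulLow_helper2
import Groth.Agent.Lib.KRegIdeal_helper2
import Groth.Agent.Lib.H1CotLCI_helper2
import Groth.Agent.Lib.T2Van_helper1
import Groth.Agent.Lib.T2Indep_helper1

/-!
# `T² = 0` for local complete intersections (Koszul-regular kernel) (helper3)

`exists_presentation_T2` : if `A₀` is LCI over `k` (`LCI.IsLCI`), then there is a presentation `P` of `A₀`
with index types in `Type u` such that `T²(P, A₀) = 0`.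
-/

set_option autoImplicit false
set_option linter.unusedSectionVars false
set_option linter.style.haveILetI false

universe u

namespace Groth.Agent.Lib.LciDefH3

open MvPolynomial CotT Groth.Agent.Lib.CotTSmH1 Groth.Agent.Lib.T2VanH1

section H1

theorem h1_span_aux {A R : Type*} [CommRing A] [CommRing R] (c : A →+* R) {n : ℕ} (f : Fin n → A)
    (a : Fin n → A)
    (ha : a ∈ Submodule.span A
      {v : Fin n → A | ∃ i j : Fin n, v = Pi.single i (f j) - Pi.single j (f i)}) :
    (∑ i, Finsupp.single i (c (a i)) : Fin n →₀ R) ∈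
      Submodule.span R {y | ∃ x z : Fin n →₀ R,
        y = Finsupp.linearCombination R (fun i => c (f i)) x • z
          - Finsupp.linearCombination R (fun i => c (f i)) z • x} := by
  let Ψ : (Fin n → A) → (Fin n →₀ R) := fun v => ∑ i, Finsupp.single i (c (v i))
  have hΨadd : ∀ v w, Ψ (v + w) = Ψ v + Ψ w := by
    intro v w
    show ∑ i, Finsupp.single i (c ((v + w) i)) = _
    rw [← Finset.sum_add_distrib]
    refine Finset.sum_congr rfl fun i _ => ?_
    rw [Pi.add_apply, map_add, Finsupp.single_add]
  have hΨsmul : ∀ (b : A) v, Ψ (b • v) = c b • Ψ v := by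
    intro b v
    show ∑ i, Finsupp.single i (c ((b • v) i)) = c b • ∑ i, Finsupp.single i (c (v i))
    rw [Finset.smul_sum]
    refine Finset.sum_congr rfl fun i _ => ?_
    rw [Pi.smul_apply, smul_eq_mul, map_mul, Finsupp.smul_single, smul_eq_mul]
  have hΨzero : Ψ 0 = 0 := by
    show ∑ i, Finsupp.single i (c ((0 : Fin n → A) i)) = 0
    refine Finset.sum_eq_zero fun i _ => ?_
    rw [Pi.zero_apply, map_zero, Finsupp.single_zero]
  have hΨsingle : ∀ (i : Fin n) (b : A), Ψ (Pi.single i b) = Finsupp.single i (c b) := by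
    intro i b
    show ∑ j, Finsupp.single j (c ((Pi.single i b : Fin n → A) j)) = _
    rw [Finset.sum_eq_single i]
    · rw [Pi.single_eq_same]
    · intro j _ hj
      rw [Pi.single_eq_of_ne hj, map_zero, Finsupp.single_zero]
    · intro h
      exact absurd (Finset.mem_univ i) h
  have hΨneg : ∀ v, Ψ (-v) = -Ψ v := by
    intro v
    have := hΨsmul (-1) v
    rw [neg_one_smul, map_neg, map_one, neg_one_smul] at this
    exact this
  show Ψ a ∈ _
  induction ha using Submodule.span_induction with
  | mem v hv =>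
    obtain ⟨i, j, rfl⟩ := hv
    rw [sub_eq_add_neg, hΨadd, hΨneg, hΨsingle, hΨsingle, ← sub_eq_add_neg]
    refine Submodule.subset_span ⟨Finsupp.single j 1, Finsupp.single i 1, ?_⟩
    rw [Finsupp.linearCombination_single, Finsupp.linearCombination_single, one_smul, one_smul,
      Finsupp.smul_single, Finsupp.smul_single, smul_eq_mul, smul_eq_mul, mul_one, mul_one]
  | zero => rw [hΨzero]; exact zero_mem _
  | add v w _ _ hv hw => rw [hΨadd]; exact add_mem hv hw
  | smul b v _ hv => rw [hΨsmul]; exact Submodule.smul_mem _ _ hv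

variable (A B : Type u) [CommRing A] [CommRing B] [Algebra A B]
  (hs : Function.Surjective (algebraMap A B)) (rs : List A)
  (hI : RingHom.ker (algebraMap A B) = Ideal.ofList rs)

theorem relKer_le_trivRel_of_h1 (h1 : CAlgX.IsH1Regular rs.get) :
    relKer (Prs A B hs rs hI) ≤ trivRel (Prs A B hs rs hI) := by
  intro q hq
  have hq0 : jmap (Prs A B hs rs hI) q = 0 := hq
  have hC := fun i => MvPolynomial.C_surjective PEmpty.{1} (q i)
  choose a ha using hC
  have e2 : ∑ i, q i * rel (Prs A B hs rs hI) i = 0 := by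
    rw [← hq0, jmap, Finsupp.linearCombination_apply, Finsupp.sum_fintype]
    · rfl
    · intro i
      exact zero_smul _ _
  have e3 : ∑ i, a i * rs.get i = 0 := by
    apply MvPolynomial.C_injective PEmpty.{1} A
    have e4 : (C (∑ i, a i * rs.get i) : MvPolynomial PEmpty.{1} A) =
        ∑ i, q i * rel (Prs A B hs rs hI) i := by
      rw [map_sum]
      refine Finset.sum_congr rfl fun i _ => ?_
      rw [map_mul, ha]
      rfl
    rw [e4, map_zero]
    exact e2
  have hmem := h1 a e3
  have key := h1_span_aux (C : A →+* (Prs A B hs rs hI).toExtension.Ring) rs.get a hmem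
  have hq' : q = ∑ i, Finsupp.single i ((C : A →+* (Prs A B hs rs hI).toExtension.Ring) (a i)) := by
    conv_lhs => rw [← Finsupp.univ_sum_single q]
    refine Finset.sum_congr rfl fun i _ => ?_
    rw [← ha]
    rfl
  rw [hq']
  exact key

end H1

section Syz

set_option backward.isDefEq.respectTransparency false in
theorem syz_of_h1 {S : Type u} [CommRing S] {r : ℕ} (g : Fin r → S) (rs : List S)
    (hrs : Ideal.ofList rs = Ideal.span (Set.range g))
    (h1 : CAlgX.IsH1Regular rs.get) : Syz g := by
  have hs : Function.Surjective (algebraMap S (S ⧸ Ideal.span (Set.range g))) :=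
    Ideal.Quotient.mk_surjective
  have hker : RingHom.ker (algebraMap S (S ⧸ Ideal.span (Set.range g))) =
      Ideal.span (Set.range g) := by
    rw [Ideal.Quotient.algebraMap_eq, Ideal.mk_ker]
  have hker' : RingHom.ker (algebraMap S (S ⧸ Ideal.span (Set.range g))) = Ideal.ofList rs := by
    rw [hrs]
    exact hker
  have hT : ∀ (M : Type u) [AddCommGroup M] [Module (S ⧸ Ideal.span (Set.range g)) M],
      Subsingleton (T2 (Groth.Agent.Lib.CotTLCIH1.Pfn S (S ⧸ Ideal.span (Set.range g)) hs g hker)
        M) := by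
    intro M _ _
    haveI : Subsingleton (T2 (Groth.Agent.Lib.T2VanH1.Prs S (S ⧸ Ideal.span (Set.range g)) hs rs
        hker') M) :=
      Groth.Agent.Lib.T2VanH1.T2_subsingleton_of_le _ M
        (relKer_le_trivRel_of_h1 S (S ⧸ Ideal.span (Set.range g)) hs rs hker' h1)
    exact (Groth.Agent.Lib.T2IndepH1.T2_indep M
      (Groth.Agent.Lib.T2VanH1.Prs S (S ⧸ Ideal.span (Set.range g)) hs rs hker')
      (Groth.Agent.Lib.CotTLCIH1.Pfn S (S ⧸ Ideal.span (Set.range g)) hs g hker)).elim
        fun e => e.symm.toEquiv.subsingleton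
  haveI := hT (L2 (Groth.Agent.Lib.CotTLCIH1.Pfn S (S ⧸ Ideal.span (Set.range g)) hs g hker))
  have hinj := d2_injective_of_T2
    (Groth.Agent.Lib.CotTLCIH1.Pfn S (S ⧸ Ideal.span (Set.range g)) hs g hker)
  have hsyz := syz_of_d2_injective _ hinj
  exact syz_of_retract g (C : S →+* MvPolynomial PEmpty.{1} S) constantCoeff
    (fun x => constantCoeff_C _ x) hsyz

theorem syz_of_top {S : Type*} [CommRing S] {σ : Type*} (g : σ → S)
    (h : Ideal.span (Set.range g) = ⊤) : Syz g := by
  intro q hq _
  have h1 : (1 : S) ∈ LinearMap.range (jm g) := by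
    rw [jm, Finsupp.range_linearCombination]
    show (1 : S) ∈ Ideal.span (Set.range g)
    rw [h]
    trivial
  obtain ⟨c, hc⟩ := h1
  have e : q = jm g c • q - jm g q • c := by
    rw [hc, hq, one_smul, zero_smul, sub_zero]
  rw [e]
  exact Submodule.subset_span ⟨c, q, rfl⟩

theorem syz_of_koszulRegular {S : Type u} [CommRing S] (I : Ideal S)
    (hI : LCI.IsKoszulRegularIdeal I) {r : ℕ} (g : Fin r → S)
    (hg : Ideal.span (Set.range g) = I) : Syz g := by
  apply syz_of_local
  intro m hm
  haveI := hm.isPrime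
  have hspan : Ideal.span (Set.range fun i => algebraMap S (Localization.AtPrime m) (g i)) =
      I.map (algebraMap S (Localization.AtPrime m)) := by
    rw [← hg, Ideal.map_span]
    congr 1
    ext x
    constructor
    · rintro ⟨i, rfl⟩
      exact ⟨g i, ⟨i, rfl⟩, rfl⟩
    · rintro ⟨_, ⟨i, rfl⟩, rfl⟩
      exact ⟨i, rfl⟩
  by_cases hIm : I ≤ m
  · obtain ⟨g₀, hg₀, l, hl, hmap⟩ := hI ⟨m, inferInstance⟩ hIm
    have hg₀' : g₀ ∈ m.primeCompl := hg₀
    have hu : IsUnit (algebraMap S (Localization.AtPrime m) g₀) :=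
      IsLocalization.map_units (Localization.AtPrime m) (⟨g₀, hg₀'⟩ : m.primeCompl)
    let φ : Localization.Away g₀ →+* Localization.AtPrime m := IsLocalization.Away.lift g₀ hu
    have hφ : ∀ a, φ (algebraMap S (Localization.Away g₀) a) =
        algebraMap S (Localization.AtPrime m) a := fun a => IsLocalization.Away.lift_eq g₀ hu a
    have hflat : φ.Flat := by
      letI : Algebra (Localization.Away g₀) (Localization.AtPrime m) := φ.toAlgebra
      haveI : IsScalarTower S (Localization.Away g₀) (Localization.AtPrime m) :=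
        IsScalarTower.of_algebraMap_eq fun a => (hφ a).symm
      have hle : Submonoid.powers g₀ ≤ m.primeCompl := by
        rintro _ ⟨n, rfl⟩
        exact m.primeCompl.pow_mem hg₀' n
      haveI := IsLocalization.isLocalization_of_submonoid_le (Localization.Away g₀)
        (Localization.AtPrime m) (Submonoid.powers g₀) m.primeCompl hle
      have : Module.Flat (Localization.Away g₀) (Localization.AtPrime m) :=
        IsLocalization.flat (Localization.AtPrime m)
          (m.primeCompl.map (algebraMap S (Localization.Away g₀)))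
      exact this
    have hl' := Groth.Agent.Lib.KRegIdeal.kreg_map_of_flat φ hflat l hl
    have h1 := Groth.Agent.Lib.KoszulLow.h1_of_koszulRegular (l.map φ) hl'
    refine syz_of_h1 _ (l.map φ) ?_ h1
    rw [hspan, ← Ideal.map_ofList]
    have hcomp : algebraMap S (Localization.AtPrime m) =
        φ.comp (algebraMap S (Localization.Away g₀)) := RingHom.ext fun a => (hφ a).symm
    rw [hcomp, ← Ideal.map_map, hmap]
  · apply syz_of_top
    rw [hspan]
    obtain ⟨x, hxI, hxm⟩ := SetLike.not_le_iff_exists.1 hIm
    have hu : IsUnit (algebraMap S (Localization.AtPrime m) x) :=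
      IsLocalization.map_units (Localization.AtPrime m) (⟨x, hxm⟩ : m.primeCompl)
    exact Ideal.eq_top_of_isUnit_mem _ (Ideal.mem_map_of_mem _ hxI) hu

end Syz

section Main

theorem exists_presentation_T2 (k A₀ : Type u) [Field k] [CommRing A₀] [Algebra k A₀]
    (hA : LCI.IsLCI k A₀) :
    ∃ (ι σ : Type u) (P : Algebra.Presentation k A₀ ι σ), Subsingleton (CotT.T2 P A₀) := by
  obtain ⟨-, n, f, hf, hK⟩ := hA
  have hfg : (RingHom.ker f.toRingHom).FG :=
    (inferInstance : IsNoetherianRing (MvPolynomial (Fin n) k)).noetherian _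
  obtain ⟨r, g, hg⟩ := Submodule.fg_iff_exists_fin_generating_family.1 hfg
  have hfe : f = aeval (fun i => f (X i)) := MvPolynomial.aeval_unique f
  have hsurj : Function.Surjective (aeval (R := k) (fun i => f (X i))) := by
    rw [← hfe]
    exact hf
  let G : Algebra.Generators k A₀ (Fin n) := Algebra.Generators.ofSurjective (fun i => f (X i)) hsurj
  have hGker : G.ker = RingHom.ker f.toRingHom := by
    rw [Algebra.Generators.ker_eq_ker_aeval_val]
    show RingHom.ker (aeval (fun i => f (X i))) = _
    rw [← hfe]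
    rfl
  let P₁ : Algebra.Presentation k A₀ (Fin n) (Fin r) :=
    { toGenerators := G
      relation := g
      span_range_relation_eq_ker := by
        rw [hGker]
        exact hg }
  have hKR : LCI.IsKoszulRegularIdeal P₁.toExtension.ker := by
    have : P₁.toExtension.ker = RingHom.ker f.toRingHom := hGker
    rw [this]
    exact hK
  have hsyz : Syz (rel P₁) := syz_of_koszulRegular (RingHom.ker f.toRingHom) hK g hg
  have hinj := d2_injective_of_syz P₁ hsyz
  haveI : Module.Projective A₀ P₁.toExtension.Cotangent :=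
    Groth.Agent.Lib.H1CotLCI.cotangent_projective P₁.toExtension
      (Groth.Agent.Lib.H1CotLCI.cotangent_projective_of_koszulRegular _ hKR).2
  have hT2 : Subsingleton (CotT.T2 P₁ A₀) := T2_subsingleton_of_injective P₁ A₀ hinj
  let P₂ : Algebra.Presentation k A₀ (ULift.{u} (Fin n)) (ULift.{u} (Fin r)) :=
    P₁.reindex Equiv.ulift Equiv.ulift
  refine ⟨ULift.{u} (Fin n), ULift.{u} (Fin r), P₂, ?_⟩
  exact (Groth.Agent.Lib.T2IndepH1.T2_indep A₀ P₂ P₁).elim fun e => e.toEquiv.subsingleton

end Main

end Groth.Agent.Lib.LciDefH3
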