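import Mathlib
import Groth.Agent.Lib.SmoothFib_helper4

/-!
# Infinitesimal lifting along square-zero thickenings of local rings (helper4)

Smoothness (resp. unramifiedness) of a morphism locally of finite presentation at a point `x`
is characterised by existence (resp. uniqueness) of lifts along `Spec B ⟶ Spec B'` for surjections
`B' → B` of local rings with square-zero kernel, where the closed point of `Spec B` is sent to `x`.
-/

open AlgebraicGeometry CategoryTheory CategoryTheory.Limits TensorProduct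

universe u

set_option linter.style.haveILetI false

namespace Groth.Agent.Lib.LocalLiftH4

open Groth.Agent.Lib.UnramLocH4

section Ring

/-- A ring surjecting onto a local ring with square-zero kernel is local. -/
theorem isLocalRing_of_surjective_of_ker_sq {B' B : Type*} [CommRing B'] [CommRing B]
    [IsLocalRing B] (φ : B' →+* B) (hφ : Function.Surjective φ) (hk : RingHom.ker φ ^ 2 = ⊥) :
    IsLocalRing B' := by
  haveI : Nontrivial B' :=
    ⟨⟨0, 1, fun h => zero_ne_one (α := B) (by simpa using congrArg φ h)⟩⟩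
  have hunit : ∀ b : B', IsUnit (φ b) → IsUnit b := by
    intro b hb
    obtain ⟨c, hc⟩ := hφ (↑hb.unit⁻¹ : B)
    have h1 : (1 - b * c) ∈ RingHom.ker φ := by
      rw [RingHom.mem_ker, map_sub, map_one, map_mul, hc, IsUnit.mul_val_inv, sub_self]
    have h2 : (1 - b * c) ^ 2 ∈ RingHom.ker φ ^ 2 := Ideal.pow_mem_pow h1 2
    rw [hk, Ideal.mem_bot] at h2
    have h3 : IsUnit (1 - (1 - b * c)) := IsNilpotent.isUnit_one_sub ⟨2, h2⟩
    rw [sub_sub_cancel] at h3
    exact isUnit_of_mul_isUnit_left h3
  refine IsLocalRing.of_isUnit_or_isUnit_one_sub_self fun b => ?_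
  rcases IsLocalRing.isUnit_or_isUnit_one_sub_self (φ b) with h | h
  · exact Or.inl (hunit b h)
  · refine Or.inr (hunit (1 - b) ?_)
    rwa [map_sub, map_one]

/-- Lifting along square-zero surjections from formal smoothness of a localization. -/
theorem exists_lift_of_isSmoothAt {R T : Type u} [CommRing R] [CommRing T] [Algebra R T]
    (q : Ideal T) [q.IsPrime] (hq : Algebra.FormallySmooth R (Localization.AtPrime q))
    {B B' : Type u} [CommRing B] [CommRing B'] (φ : B' →+* B) (hφ : Function.Surjective φ)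
    (hk : RingHom.ker φ ^ 2 = ⊥) (a : T →+* B) (ha : ∀ t, t ∉ q → IsUnit (a t))
    (b : R →+* B') (hab : φ.comp b = a.comp (algebraMap R T)) :
    ∃ c : T →+* B', φ.comp c = a ∧ c.comp (algebraMap R T) = b := by
  letI : Algebra R B' := b.toAlgebra
  letI : Algebra R B := (φ.comp b).toAlgebra
  let φA : B' →ₐ[R] B := { φ with commutes' := fun r => rfl }
  let aq : Localization.AtPrime q →+* B :=
    IsLocalization.lift (M := q.primeCompl) (g := a) (fun y => ha y.1 y.2)
  have haq : ∀ t, aq (algebraMap T (Localization.AtPrime q) t) = a t :=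
    fun t => IsLocalization.lift_eq _ t
  let aqA : Localization.AtPrime q →ₐ[R] B :=
    { aq with
      commutes' := fun r => by
        change aq (algebraMap R (Localization.AtPrime q) r) = φ (b r)
        rw [IsScalarTower.algebraMap_apply R T (Localization.AtPrime q), haq]
        exact (RingHom.congr_fun hab r).symm }
  have hsurj : Function.Surjective φA := hφ
  have hnil : IsNilpotent (RingHom.ker (φA : B' →+* B)) := by
    refine ⟨2, ?_⟩
    rw [Ideal.zero_eq_bot, ← hk]
    rfl
  let l := Algebra.FormallySmooth.liftOfSurjective aqA φA hsurj hnil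
  have hl : ∀ s, φ (l s) = aq s := fun s =>
    Algebra.FormallySmooth.liftOfSurjective_apply aqA φA hsurj hnil s
  refine ⟨(l : Localization.AtPrime q →+* B').comp (algebraMap T (Localization.AtPrime q)),
    ?_, ?_⟩
  · ext t
    change φ (l (algebraMap T (Localization.AtPrime q) t)) = a t
    rw [hl, haq]
  · ext r
    change l (algebraMap T (Localization.AtPrime q) (algebraMap R T r)) = b r
    rw [← IsScalarTower.algebraMap_apply R T (Localization.AtPrime q), l.commutes]
    rfl

/-- Formal smoothness of a localization from lifting along square-zero surjections of local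
rings. -/
theorem isSmoothAt_of_lift {R T : Type u} [CommRing R] [CommRing T] [Algebra R T]
    [Algebra.FiniteType R T] (q : Ideal T) [q.IsPrime]
    (H : ∀ (B B' : Type u) [CommRing B] [CommRing B'] [IsLocalRing B] [IsLocalRing B']
      (φ : B' →+* B), Function.Surjective φ → RingHom.ker φ ^ 2 = ⊥ →
      ∀ (a : T →+* B) (b : R →+* B'), (IsLocalRing.maximalIdeal B).comap a = q →
        φ.comp b = a.comp (algebraMap R T) →
        ∃ c : T →+* B', φ.comp c = a ∧ c.comp (algebraMap R T) = b) :
    Algebra.FormallySmooth R (Localization.AtPrime q) := by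
  obtain ⟨n, π, hπ⟩ :=
    Algebra.FiniteType.iff_quotient_mvPolynomial''.mp ‹Algebra.FiniteType R T›
  haveI : (q.comap π).IsPrime := Ideal.comap_isPrime π q
  let πr : Localization.AtPrime (q.comap π) →+* Localization.AtPrime q :=
    Localization.localRingHom (q.comap π) q (π : MvPolynomial (Fin n) R →+* T) rfl
  have hπr : ∀ p, πr (algebraMap _ (Localization.AtPrime (q.comap π)) p) =
      algebraMap T (Localization.AtPrime q) (π p) := fun p =>
    Localization.localRingHom_to_map (q.comap π) q _ rfl p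
  let πq : Localization.AtPrime (q.comap π) →ₐ[R] Localization.AtPrime q :=
    { πr with
      commutes' := fun r => by
        change πr (algebraMap R (Localization.AtPrime (q.comap π)) r) =
          algebraMap R (Localization.AtPrime q) r
        rw [IsScalarTower.algebraMap_apply R (MvPolynomial (Fin n) R)
          (Localization.AtPrime (q.comap π)), hπr, π.commutes,
          ← IsScalarTower.algebraMap_apply R T (Localization.AtPrime q)] }
  have hsurj : Function.Surjective πq := by
    intro s
    obtain ⟨⟨t, u⟩, rfl⟩ := IsLocalization.mk'_surjective q.primeCompl s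
    obtain ⟨p, rfl⟩ := hπ t
    obtain ⟨p', hp'⟩ := hπ u.1
    have hp'q : p' ∈ (q.comap π).primeCompl := by
      intro h
      apply u.2
      rw [← hp']
      exact h
    refine ⟨IsLocalization.mk' (Localization.AtPrime (q.comap π)) p ⟨p', hp'q⟩, ?_⟩
    change πr _ = _
    rw [Localization.localRingHom_mk']
    congr 1
    exact Subtype.ext hp'
  haveI : Algebra.FormallySmooth (MvPolynomial (Fin n) R) (Localization.AtPrime (q.comap π)) :=
    Algebra.FormallySmooth.of_isLocalization (q.comap π).primeCompl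
  haveI : Algebra.FormallySmooth R (Localization.AtPrime (q.comap π)) :=
    Algebra.FormallySmooth.comp R (MvPolynomial (Fin n) R) (Localization.AtPrime (q.comap π))
  have hφs : Function.Surjective πq.kerSquareLift.toRingHom := fun s => by
    obtain ⟨p, hp⟩ := hsurj s
    exact ⟨Ideal.Quotient.mk _ p, hp⟩
  have hφk : RingHom.ker πq.kerSquareLift.toRingHom ^ 2 = ⊥ := by
    rw [AlgHom.ker_kerSquareLift, Ideal.cotangentIdeal_square]
  haveI : IsLocalRing (Localization.AtPrime (q.comap π) ⧸ RingHom.ker πq.toRingHom ^ 2) :=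
    isLocalRing_of_surjective_of_ker_sq πq.kerSquareLift.toRingHom hφs hφk
  obtain ⟨c, hc1, hc2⟩ := H (Localization.AtPrime q)
    (Localization.AtPrime (q.comap π) ⧸ RingHom.ker πq.toRingHom ^ 2)
    πq.kerSquareLift.toRingHom hφs hφk (algebraMap T (Localization.AtPrime q))
    (algebraMap R (Localization.AtPrime (q.comap π) ⧸ RingHom.ker πq.toRingHom ^ 2))
    (IsLocalization.AtPrime.under_maximalIdeal (Localization.AtPrime q) q)
    (by
      ext r
      change πq.kerSquareLift (algebraMap R _ r) =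
        algebraMap T (Localization.AtPrime q) (algebraMap R T r)
      rw [AlgHom.commutes, ← IsScalarTower.algebraMap_apply R T (Localization.AtPrime q)])
  haveI : IsLocalHom πq.kerSquareLift.toRingHom :=
    IsLocalHom.of_surjective πq.kerSquareLift.toRingHom hφs
  have hcu : ∀ y : q.primeCompl, IsUnit (c y) := fun y => by
    apply isUnit_of_map_unit πq.kerSquareLift.toRingHom
    have h1 : πq.kerSquareLift.toRingHom (c y) = algebraMap T (Localization.AtPrime q) y :=
      RingHom.congr_fun hc1 y
    rw [h1]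
    exact IsLocalization.map_units (Localization.AtPrime q) y
  let cq : Localization.AtPrime q →+*
      (Localization.AtPrime (q.comap π) ⧸ RingHom.ker πq.toRingHom ^ 2) :=
    IsLocalization.lift hcu
  have hcq : ∀ t, cq (algebraMap T (Localization.AtPrime q) t) = c t :=
    fun t => IsLocalization.lift_eq _ t
  let cqA : Localization.AtPrime q →ₐ[R]
      (Localization.AtPrime (q.comap π) ⧸ RingHom.ker πq.toRingHom ^ 2) :=
    { cq with
      commutes' := fun r => by
        change cq (algebraMap R (Localization.AtPrime q) r) = algebraMap R _ r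
        rw [IsScalarTower.algebraMap_apply R T (Localization.AtPrime q), hcq]
        exact RingHom.congr_fun hc2 r }
  refine (Algebra.FormallySmooth.iff_split_surjection πq hsurj).mpr ⟨cqA, ?_⟩
  have hcomp : πq.kerSquareLift.toRingHom.comp cq = RingHom.id (Localization.AtPrime q) := by
    refine IsLocalization.ringHom_ext q.primeCompl ?_
    ext t
    change πq.kerSquareLift.toRingHom (cq (algebraMap T (Localization.AtPrime q) t)) =
      algebraMap T (Localization.AtPrime q) t
    rw [hcq]
    exact RingHom.congr_fun hc1 t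
  exact AlgHom.ext fun s => RingHom.congr_fun hcomp s

/-- Uniqueness of lifts along square-zero maps from formal unramifiedness of a localization. -/
theorem lift_unique_of_isUnramifiedAt {R T : Type u} [CommRing R] [CommRing T] [Algebra R T]
    (q : Ideal T) [q.IsPrime] (hq : Algebra.FormallyUnramified R (Localization.AtPrime q))
    {B B' : Type u} [CommRing B] [CommRing B'] (φ : B' →+* B)
    (hk : RingHom.ker φ ^ 2 = ⊥) (c₁ c₂ : T →+* B')
    (h₁ : ∀ t, t ∉ q → IsUnit (c₁ t)) (h₂ : ∀ t, t ∉ q → IsUnit (c₂ t))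
    (hφ : φ.comp c₁ = φ.comp c₂)
    (hR : c₁.comp (algebraMap R T) = c₂.comp (algebraMap R T)) :
    c₁ = c₂ := by
  letI : Algebra R B' := (c₁.comp (algebraMap R T)).toAlgebra
  let d₁ : Localization.AtPrime q →+* B' :=
    IsLocalization.lift (M := q.primeCompl) (g := c₁) (fun y => h₁ y.1 y.2)
  let d₂ : Localization.AtPrime q →+* B' :=
    IsLocalization.lift (M := q.primeCompl) (g := c₂) (fun y => h₂ y.1 y.2)
  have hd₁ : ∀ t, d₁ (algebraMap T (Localization.AtPrime q) t) = c₁ t :=
    fun t => IsLocalization.lift_eq _ t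
  have hd₂ : ∀ t, d₂ (algebraMap T (Localization.AtPrime q) t) = c₂ t :=
    fun t => IsLocalization.lift_eq _ t
  let D₁ : Localization.AtPrime q →ₐ[R] B' :=
    { d₁ with
      commutes' := fun r => by
        change d₁ (algebraMap R (Localization.AtPrime q) r) = c₁ (algebraMap R T r)
        rw [IsScalarTower.algebraMap_apply R T (Localization.AtPrime q), hd₁] }
  let D₂ : Localization.AtPrime q →ₐ[R] B' :=
    { d₂ with
      commutes' := fun r => by
        change d₂ (algebraMap R (Localization.AtPrime q) r) = c₁ (algebraMap R T r)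
        rw [IsScalarTower.algebraMap_apply R T (Localization.AtPrime q), hd₂]
        exact (RingHom.congr_fun hR r).symm }
  have hnil : IsNilpotent (RingHom.ker φ) := ⟨2, by rw [Ideal.zero_eq_bot]; exact hk⟩
  have key : D₁ = D₂ :=
    Algebra.FormallyUnramified.lift_unique_of_ringHom φ hnil D₁ D₂ (by
      refine IsLocalization.ringHom_ext q.primeCompl ?_
      ext t
      change φ (d₁ (algebraMap T (Localization.AtPrime q) t)) =
        φ (d₂ (algebraMap T (Localization.AtPrime q) t))
      rw [hd₁, hd₂]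
      exact RingHom.congr_fun hφ t)
  ext t
  have h := congrArg (fun D : Localization.AtPrime q →ₐ[R] B' =>
    D (algebraMap T (Localization.AtPrime q) t)) key
  change d₁ (algebraMap T (Localization.AtPrime q) t) =
    d₂ (algebraMap T (Localization.AtPrime q) t) at h
  rwa [hd₁, hd₂] at h

section Diag

variable (R S : Type u) [CommRing R] [CommRing S] [Algebra R S]

/-- The first order neighbourhood of the diagonal of `S` over `R`. -/
abbrev Diag1 : Type u :=
  (S ⊗[R] S) ⧸ (RingHom.ker (Algebra.TensorProduct.lmul' R : S ⊗[R] S →ₐ[R] S).toRingHom ^ 2)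

/-- The multiplication map on the first order neighbourhood of the diagonal. -/
noncomputable def diagMul : Diag1 R S →ₐ[R] S :=
  (Algebra.TensorProduct.lmul' R : S ⊗[R] S →ₐ[R] S).kerSquareLift

/-- The left inclusion. -/
noncomputable def diagL : S →ₐ[R] Diag1 R S :=
  (Ideal.Quotient.mkₐ R _).comp Algebra.TensorProduct.includeLeft

/-- The right inclusion. -/
noncomputable def diagR : S →ₐ[R] Diag1 R S :=
  (Ideal.Quotient.mkₐ R _).comp Algebra.TensorProduct.includeRight

lemma diagMul_diagL (s : S) : diagMul R S (diagL R S s) = s := by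
  change (Algebra.TensorProduct.lmul' R : S ⊗[R] S →ₐ[R] S) (s ⊗ₜ[R] 1) = s
  simp

lemma diagMul_diagR (s : S) : diagMul R S (diagR R S s) = s := by
  change (Algebra.TensorProduct.lmul' R : S ⊗[R] S →ₐ[R] S) (1 ⊗ₜ[R] s) = s
  simp

lemma diagMul_surjective : Function.Surjective (diagMul R S).toRingHom :=
  fun s => ⟨diagL R S s, diagMul_diagL R S s⟩

lemma ker_diagMul_sq : RingHom.ker (diagMul R S).toRingHom ^ 2 = ⊥ := by
  unfold diagMul
  rw [AlgHom.ker_kerSquareLift, Ideal.cotangentIdeal_square]

lemma D_eq_zero_of_diag_eq (s : S) (h : diagL R S s = diagR R S s) :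
    KaehlerDifferential.D R S s = 0 := by
  rw [KaehlerDifferential.D_apply]
  have h' : Ideal.Quotient.mk
      (RingHom.ker (Algebra.TensorProduct.lmul' R : S ⊗[R] S →ₐ[R] S).toRingHom ^ 2)
      ((1 : S) ⊗ₜ[R] s) = Ideal.Quotient.mk _ (s ⊗ₜ[R] (1 : S)) := h.symm
  exact (Ideal.toCotangent_eq_zero _ _).mpr (Ideal.Quotient.eq.mp h')

instance [IsLocalRing S] : IsLocalRing (Diag1 R S) :=
  isLocalRing_of_surjective_of_ker_sq (diagMul R S).toRingHom (diagMul_surjective R S)
    (ker_diagMul_sq R S)

end Diag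

/-- Formal unramifiedness of a localization from uniqueness of lifts along square-zero surjections
of local rings. -/
theorem isUnramifiedAt_of_unique {R T : Type u} [CommRing R] [CommRing T] [Algebra R T]
    (q : Ideal T) [q.IsPrime]
    (H : ∀ (B B' : Type u) [CommRing B] [CommRing B'] [IsLocalRing B] [IsLocalRing B']
      (φ : B' →+* B), Function.Surjective φ → RingHom.ker φ ^ 2 = ⊥ →
      ∀ (c₁ c₂ : T →+* B'), (IsLocalRing.maximalIdeal B).comap (φ.comp c₁) = q →
        φ.comp c₁ = φ.comp c₂ → c₁.comp (algebraMap R T) = c₂.comp (algebraMap R T) →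
        c₁ = c₂) :
    Algebra.FormallyUnramified R (Localization.AtPrime q) := by
  have hcomp : (diagMul R (Localization.AtPrime q)).toRingHom.comp
      ((diagL R (Localization.AtPrime q)).toRingHom.comp
        (algebraMap T (Localization.AtPrime q))) = algebraMap T (Localization.AtPrime q) := by
    ext t
    exact diagMul_diagL R (Localization.AtPrime q) (algebraMap T (Localization.AtPrime q) t)
  have h1 : (IsLocalRing.maximalIdeal (Localization.AtPrime q)).comap
      ((diagMul R (Localization.AtPrime q)).toRingHom.comp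
        ((diagL R (Localization.AtPrime q)).toRingHom.comp
          (algebraMap T (Localization.AtPrime q)))) = q := by
    rw [hcomp]
    exact IsLocalization.AtPrime.under_maximalIdeal (Localization.AtPrime q) q
  have h2 : (diagMul R (Localization.AtPrime q)).toRingHom.comp
      ((diagL R (Localization.AtPrime q)).toRingHom.comp
        (algebraMap T (Localization.AtPrime q))) =
      (diagMul R (Localization.AtPrime q)).toRingHom.comp
        ((diagR R (Localization.AtPrime q)).toRingHom.comp
          (algebraMap T (Localization.AtPrime q))) := by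
    ext t
    exact (diagMul_diagL R (Localization.AtPrime q) (algebraMap T (Localization.AtPrime q) t)).trans
      (diagMul_diagR R (Localization.AtPrime q) (algebraMap T (Localization.AtPrime q) t)).symm
  have h3 : ((diagL R (Localization.AtPrime q)).toRingHom.comp
        (algebraMap T (Localization.AtPrime q))).comp (algebraMap R T) =
      ((diagR R (Localization.AtPrime q)).toRingHom.comp
        (algebraMap T (Localization.AtPrime q))).comp (algebraMap R T) := by
    ext r
    change diagL R (Localization.AtPrime q) (algebraMap T _ (algebraMap R T r)) =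
      diagR R (Localization.AtPrime q) (algebraMap T _ (algebraMap R T r))
    rw [← IsScalarTower.algebraMap_apply R T (Localization.AtPrime q), AlgHom.commutes,
      AlgHom.commutes]
  have hc := H (Localization.AtPrime q) (Diag1 R (Localization.AtPrime q))
    (diagMul R (Localization.AtPrime q)).toRingHom (diagMul_surjective R _) (ker_diagMul_sq R _)
    _ _ h1 h2 h3
  have key : ∀ t : T, KaehlerDifferential.D R (Localization.AtPrime q)
      (algebraMap T (Localization.AtPrime q) t) = 0 := fun t =>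
    D_eq_zero_of_diag_eq R _ _ (RingHom.congr_fun hc t)
  have hspan := KaehlerDifferential.span_range_map_derivation_of_isLocalization R T
    (Localization.AtPrime q) q.primeCompl
  have hbot : (⊤ : Submodule (Localization.AtPrime q) Ω[Localization.AtPrime q⁄R]) = ⊥ := by
    rw [← hspan, Submodule.span_eq_bot]
    rintro _ ⟨t, rfl⟩
    simp only [Function.comp_apply, KaehlerDifferential.map_D]
    exact key t
  exact ⟨(Submodule.subsingleton_iff (Localization.AtPrime q)).mp
    (subsingleton_of_bot_eq_top hbot.symm)⟩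

end Ring

section Scheme

variable {X Y : Scheme.{u}}

lemma spec_closedPoint {B B' : Type u} [CommRing B] [CommRing B'] [IsLocalRing B]
    [IsLocalRing B'] (φ : B' →+* B) (hφ : Function.Surjective φ) :
    (Spec.map (CommRingCat.ofHom φ)).base (IsLocalRing.closedPoint B) =
      IsLocalRing.closedPoint B' := by
  haveI : IsLocalHom φ := IsLocalHom.of_surjective φ hφ
  exact IsLocalRing.comap_closedPoint φ

lemma range_subset_of_closedPoint_mem {B : Type u} [CommRing B] [IsLocalRing B]
    (γ : Spec (CommRingCat.of B) ⟶ X) (U : X.Opens)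
    (h : γ.base (IsLocalRing.closedPoint B) ∈ U) : Set.range γ ⊆ (U : Set X) := by
  rintro _ ⟨z, rfl⟩
  have hz : z ⤳ IsLocalRing.closedPoint B := IsLocalRing.specializes_closedPoint (R := B) z
  exact (hz.map γ.continuous).mem_open U.2 h

/-- A morphism from a local scheme whose closed point lands in an affine open `U` factors
through `U`. -/
lemma exists_factor {B : Type u} [CommRing B] [IsLocalRing B]
    (γ : Spec (CommRingCat.of B) ⟶ X) {U : X.Opens} (hU : IsAffineOpen U)
    (h : γ.base (IsLocalRing.closedPoint B) ∈ U) :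
    ∃ c : Γ(X, U) ⟶ CommRingCat.of B, Spec.map c ≫ hU.fromSpec = γ := by
  have hr : Set.range γ ⊆ Set.range hU.fromSpec := by
    rw [hU.range_fromSpec]
    exact range_subset_of_closedPoint_mem γ U h
  refine ⟨Spec.preimage (IsOpenImmersion.lift hU.fromSpec γ hr), ?_⟩
  rw [Spec.map_preimage, IsOpenImmersion.lift_fac]

lemma comap_maximalIdeal_of_factor {B : Type u} [CommRing B] [IsLocalRing B] {x : X}
    {U : X.Opens} (hU : IsAffineOpen U) (hx : x ∈ U) (c : Γ(X, U) ⟶ CommRingCat.of B)
    (h : (Spec.map c ≫ hU.fromSpec).base (IsLocalRing.closedPoint B) = x) :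
    (IsLocalRing.maximalIdeal B).comap c.hom = (hU.primeIdealOf ⟨x, hx⟩).asIdeal := by
  have h1 : hU.fromSpec.base ((Spec.map c).base (IsLocalRing.closedPoint B)) =
      hU.fromSpec.base (hU.primeIdealOf ⟨x, hx⟩) :=
    h.trans (hU.fromSpec_primeIdealOf ⟨x, hx⟩).symm
  have h2 := hU.fromSpec.isOpenEmbedding.injective h1
  exact congrArg PrimeSpectrum.asIdeal h2

lemma isUnit_of_factor {B : Type u} [CommRing B] [IsLocalRing B] {x : X}
    {U : X.Opens} (hU : IsAffineOpen U) (hx : x ∈ U) (c : Γ(X, U) ⟶ CommRingCat.of B)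
    (h : (Spec.map c ≫ hU.fromSpec).base (IsLocalRing.closedPoint B) = x) (t : Γ(X, U))
    (ht : t ∉ (hU.primeIdealOf ⟨x, hx⟩).asIdeal) : IsUnit (c.hom t) := by
  rw [← comap_maximalIdeal_of_factor hU hx c h] at ht
  exact IsLocalRing.notMem_maximalIdeal.mp ht

lemma base_of_comap_eq {B : Type u} [CommRing B] [IsLocalRing B] {x : X}
    {U : X.Opens} (hU : IsAffineOpen U) (hx : x ∈ U) (a : Γ(X, U) →+* B)
    (h : (IsLocalRing.maximalIdeal B).comap a = (hU.primeIdealOf ⟨x, hx⟩).asIdeal) :
    (Spec.map (CommRingCat.ofHom a) ≫ hU.fromSpec).base (IsLocalRing.closedPoint B) = x := by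
  have h1 : (Spec.map (CommRingCat.ofHom a)).base (IsLocalRing.closedPoint B) =
      hU.primeIdealOf ⟨x, hx⟩ := PrimeSpectrum.ext h
  change hU.fromSpec.base ((Spec.map (CommRingCat.ofHom a)).base (IsLocalRing.closedPoint B)) = x
  rw [h1]
  exact hU.fromSpec_primeIdealOf ⟨x, hx⟩

lemma comp_chart (f : X ⟶ Y) {V : Y.Opens} (hV : IsAffineOpen V) {U : X.Opens}
    (hU : IsAffineOpen U) (e : U ≤ f ⁻¹ᵁ V) {S : CommRingCat.{u}} (c : Γ(X, U) ⟶ S) :
    (Spec.map c ≫ hU.fromSpec) ≫ f = Spec.map (f.appLE V U e ≫ c) ≫ hV.fromSpec := by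
  rw [Category.assoc, ← IsAffineOpen.SpecMap_appLE_fromSpec f hV hU e, Spec.map_comp,
    Category.assoc]

lemma eq_of_spec_comp_eq {U : X.Opens} (hU : IsAffineOpen U) {S : CommRingCat.{u}}
    {c c' : Γ(X, U) ⟶ S} (h : Spec.map c ≫ hU.fromSpec = Spec.map c' ≫ hU.fromSpec) :
    c = c' :=
  Spec.map_injective ((cancel_mono hU.fromSpec).mp h)

lemma stalk_smooth_iff_chart (f : X ⟶ Y) [LocallyOfFinitePresentation f] {x : X} {V : Y.Opens} (hV : IsAffineOpen V)
    {U : X.Opens} (hU : IsAffineOpen U) (e : U ≤ f ⁻¹ᵁ V) (hx : x ∈ U) :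
    letI := (f.appLE V U e).hom.toAlgebra
    x ∈ f.smoothLocus ↔
      Algebra.FormallySmooth Γ(Y, V)
        (Localization.AtPrime (hU.primeIdealOf ⟨x, hx⟩).asIdeal) := by
  letI := (f.appLE V U e).hom.toAlgebra
  have h1 := stalk_transfer RingHom.FormallySmooth.respectsIso hU.fromSpec f
    (Spec.map (f.appLE V U e)) hV.fromSpec
    (IsAffineOpen.SpecMap_appLE_fromSpec f hV hU e).symm (hU.primeIdealOf ⟨x, hx⟩)
  have h2 := stalk_congr_point (P := RingHom.FormallySmooth) f
    (hU.fromSpec_primeIdealOf ⟨x, hx⟩)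
  have h3 := specSmooth (R := Γ(Y, V)) (S := Γ(X, U)) (hU.primeIdealOf ⟨x, hx⟩)
  exact h2.symm.trans (h1.symm.trans h3)

lemma stalk_unram_iff_chart (f : X ⟶ Y) {x : X} {V : Y.Opens} (hV : IsAffineOpen V)
    {U : X.Opens} (hU : IsAffineOpen U) (e : U ≤ f ⁻¹ᵁ V) (hx : x ∈ U) :
    letI := (f.appLE V U e).hom.toAlgebra
    (f.stalkMap x).hom.FormallyUnramified ↔
      Algebra.FormallyUnramified Γ(Y, V)
        (Localization.AtPrime (hU.primeIdealOf ⟨x, hx⟩).asIdeal) := by
  letI := (f.appLE V U e).hom.toAlgebra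
  have h1 := stalk_transfer RingHom.FormallyUnramified.respectsIso hU.fromSpec f
    (Spec.map (f.appLE V U e)) hV.fromSpec
    (IsAffineOpen.SpecMap_appLE_fromSpec f hV hU e).symm (hU.primeIdealOf ⟨x, hx⟩)
  have h2 := stalk_congr_point (P := RingHom.FormallyUnramified) f
    (hU.fromSpec_primeIdealOf ⟨x, hx⟩)
  have h3 := specUnr (R := Γ(Y, V)) (S := Γ(X, U)) (hU.primeIdealOf ⟨x, hx⟩)
  exact h2.symm.trans (h1.symm.trans h3)

theorem main5008 {X Y : Scheme.{u}} (f : X ⟶ Y) [LocallyOfFinitePresentation f] (x : ↥X) :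
    x ∈ f.smoothLocus ↔ ∀ (B B' : Type u) [CommRing B] [CommRing B'] [IsLocalRing B]
      [IsLocalRing B'] (φ : B' →+* B),
      Function.Surjective φ → RingHom.ker φ ^ 2 = ⊥ →
      ∀ (α : Spec (CommRingCat.of B) ⟶ X) (β : Spec (CommRingCat.of B') ⟶ Y),
        α.base (IsLocalRing.closedPoint B) = x →
        Spec.map (CommRingCat.ofHom φ) ≫ β = α ≫ f →
        ∃ γ : Spec (CommRingCat.of B') ⟶ X,
          Spec.map (CommRingCat.ofHom φ) ≫ γ = α ∧ γ ≫ f = β := by
  obtain ⟨_, ⟨V, hV, rfl⟩, hfxV, -⟩ :=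
    Y.isBasis_affineOpens.exists_subset_of_mem_open (Set.mem_univ (f.base x)) isOpen_univ
  obtain ⟨_, ⟨U, hU, rfl⟩, hx, e⟩ :=
    X.isBasis_affineOpens.exists_subset_of_mem_open
      (show x ∈ (f ⁻¹ᵁ V : Set X) from hfxV) (f ⁻¹ᵁ V).2
  replace hx : x ∈ U := hx
  replace e : U ≤ f ⁻¹ᵁ V := e
  letI := (f.appLE V U e).hom.toAlgebra
  rw [stalk_smooth_iff_chart f hV hU e hx]
  constructor
  · intro hsm B B' _ _ _ _ φ hφ hk α β hα hαβ
    obtain ⟨a, ha⟩ := exists_factor α hU (by rw [hα]; exact hx)
    have hβc : β.base (IsLocalRing.closedPoint B') ∈ V := by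
      have h1 : β.base (IsLocalRing.closedPoint B') =
          (Spec.map (CommRingCat.ofHom φ) ≫ β).base (IsLocalRing.closedPoint B) := by
        rw [Scheme.Hom.comp_base, TopCat.comp_app, spec_closedPoint φ hφ]
      rw [h1, hαβ, Scheme.Hom.comp_base, TopCat.comp_app, hα]
      exact hfxV
    obtain ⟨b, hb⟩ := exists_factor β hV hβc
    have hab : b ≫ CommRingCat.ofHom φ = f.appLE V U e ≫ a := by
      apply eq_of_spec_comp_eq hV
      rw [Spec.map_comp, Category.assoc, hb, hαβ, ← ha, comp_chart f hV hU e a]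
    have hau : ∀ t, t ∉ (hU.primeIdealOf ⟨x, hx⟩).asIdeal → IsUnit (a.hom t) :=
      fun t ht => isUnit_of_factor hU hx a (by rw [ha]; exact hα) t ht
    obtain ⟨c, hc1, hc2⟩ := exists_lift_of_isSmoothAt _ hsm φ hφ hk a.hom hau b.hom
      (congrArg CommRingCat.Hom.hom hab)
    refine ⟨Spec.map (CommRingCat.ofHom c) ≫ hU.fromSpec, ?_, ?_⟩
    · rw [← Category.assoc, ← Spec.map_comp, ← ha]
      congr 2
      ext t
      exact RingHom.congr_fun hc1 t
    · rw [comp_chart f hV hU e, ← hb]
      congr 2
      ext t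
      exact RingHom.congr_fun hc2 t
  · intro H
    haveI : Algebra.FiniteType Γ(Y, V) Γ(X, U) :=
      RingHom.FiniteType.of_finitePresentation (f.finitePresentation_appLE hV hU e)
    refine isSmoothAt_of_lift _ ?_
    intro B B' _ _ _ _ φ hφ hk a b hcm hab
    have hα := base_of_comap_eq hU hx a hcm
    have hαβ : Spec.map (CommRingCat.ofHom φ) ≫ Spec.map (CommRingCat.ofHom b) ≫ hV.fromSpec =
        (Spec.map (CommRingCat.ofHom a) ≫ hU.fromSpec) ≫ f := by
      rw [comp_chart f hV hU e, ← Category.assoc, ← Spec.map_comp]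
      congr 2
      ext r
      exact RingHom.congr_fun hab r
    obtain ⟨γ, hγ1, hγ2⟩ := H B B' φ hφ hk _ _ hα hαβ
    have hγc : γ.base (IsLocalRing.closedPoint B') ∈ U := by
      have h1 : γ.base (IsLocalRing.closedPoint B') =
          (Spec.map (CommRingCat.ofHom φ) ≫ γ).base (IsLocalRing.closedPoint B) := by
        rw [Scheme.Hom.comp_base, TopCat.comp_app, spec_closedPoint φ hφ]
      rw [h1, hγ1, hα]
      exact hx
    obtain ⟨c, hc⟩ := exists_factor γ hU hγc
    have e1 : c ≫ CommRingCat.ofHom φ = CommRingCat.ofHom a := by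
      apply eq_of_spec_comp_eq hU
      rw [Spec.map_comp, Category.assoc, hc, hγ1]
    have e2 : f.appLE V U e ≫ c = CommRingCat.ofHom b := by
      apply eq_of_spec_comp_eq hV
      rw [← comp_chart f hV hU e, hc, hγ2]
    exact ⟨c.hom, congrArg CommRingCat.Hom.hom e1, congrArg CommRingCat.Hom.hom e2⟩

theorem main5009 {X Y : Scheme.{u}} (f : X ⟶ Y) [LocallyOfFinitePresentation f] (x : ↥X) :
    (∃ U : X.Opens, x ∈ U ∧ FormallyUnramified (U.ι ≫ f)) ↔
      ∀ (B B' : Type u) [CommRing B] [CommRing B'] [IsLocalRing B] [IsLocalRing B']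
        (φ : B' →+* B),
      Function.Surjective φ → RingHom.ker φ ^ 2 = ⊥ →
      ∀ (α : Spec (CommRingCat.of B) ⟶ X) (β : Spec (CommRingCat.of B') ⟶ Y),
        α.base (IsLocalRing.closedPoint B) = x →
        Spec.map (CommRingCat.ofHom φ) ≫ β = α ≫ f →
        ∀ γ₁ γ₂ : Spec (CommRingCat.of B') ⟶ X,
          Spec.map (CommRingCat.ofHom φ) ≫ γ₁ = α → γ₁ ≫ f = β →
          Spec.map (CommRingCat.ofHom φ) ≫ γ₂ = α → γ₂ ≫ f = β → γ₁ = γ₂ := by
  rw [exists_nhd_iff_stalk f x]
  obtain ⟨_, ⟨V, hV, rfl⟩, hfxV, -⟩ :=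
    Y.isBasis_affineOpens.exists_subset_of_mem_open (Set.mem_univ (f.base x)) isOpen_univ
  obtain ⟨_, ⟨U, hU, rfl⟩, hx, e⟩ :=
    X.isBasis_affineOpens.exists_subset_of_mem_open
      (show x ∈ (f ⁻¹ᵁ V : Set X) from hfxV) (f ⁻¹ᵁ V).2
  replace hx : x ∈ U := hx
  replace e : U ≤ f ⁻¹ᵁ V := e
  letI := (f.appLE V U e).hom.toAlgebra
  rw [stalk_unram_iff_chart f hV hU e hx]
  constructor
  · intro hun B B' _ _ _ _ φ hφ hk α β hα hαβ γ₁ γ₂ h11 h12 h21 h22
    have hγx : ∀ γ : Spec (CommRingCat.of B') ⟶ X, Spec.map (CommRingCat.ofHom φ) ≫ γ = α →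
        γ.base (IsLocalRing.closedPoint B') = x := by
      intro γ hγ
      have h1 : γ.base (IsLocalRing.closedPoint B') =
          (Spec.map (CommRingCat.ofHom φ) ≫ γ).base (IsLocalRing.closedPoint B) := by
        rw [Scheme.Hom.comp_base, TopCat.comp_app, spec_closedPoint φ hφ]
      rw [h1, hγ, hα]
    obtain ⟨c₁, hc₁⟩ := exists_factor γ₁ hU (by rw [hγx γ₁ h11]; exact hx)
    obtain ⟨c₂, hc₂⟩ := exists_factor γ₂ hU (by rw [hγx γ₂ h21]; exact hx)
    have hu₁ : ∀ t, t ∉ (hU.primeIdealOf ⟨x, hx⟩).asIdeal → IsUnit (c₁.hom t) :=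
      fun t ht => isUnit_of_factor hU hx c₁ (by rw [hc₁]; exact hγx γ₁ h11) t ht
    have hu₂ : ∀ t, t ∉ (hU.primeIdealOf ⟨x, hx⟩).asIdeal → IsUnit (c₂.hom t) :=
      fun t ht => isUnit_of_factor hU hx c₂ (by rw [hc₂]; exact hγx γ₂ h21) t ht
    have e1 : c₁ ≫ CommRingCat.ofHom φ = c₂ ≫ CommRingCat.ofHom φ := by
      apply eq_of_spec_comp_eq hU
      rw [Spec.map_comp, Spec.map_comp, Category.assoc, Category.assoc, hc₁, hc₂, h11, h21]
    have e2 : f.appLE V U e ≫ c₁ = f.appLE V U e ≫ c₂ := by
      apply eq_of_spec_comp_eq hV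
      rw [← comp_chart f hV hU e, ← comp_chart f hV hU e, hc₁, hc₂, h12, h22]
    have hcc := lift_unique_of_isUnramifiedAt _ hun φ hk c₁.hom c₂.hom hu₁ hu₂
      (congrArg CommRingCat.Hom.hom e1) (congrArg CommRingCat.Hom.hom e2)
    have hcc' : c₁ = c₂ := CommRingCat.hom_ext hcc
    rw [← hc₁, ← hc₂, hcc']
  · intro H
    refine isUnramifiedAt_of_unique _ ?_
    intro B B' _ _ _ _ φ hφ hk c₁ c₂ hcm h1 h2
    have hα := base_of_comap_eq hU hx (φ.comp c₁) hcm
    have g11 : Spec.map (CommRingCat.ofHom φ) ≫ Spec.map (CommRingCat.ofHom c₁) ≫ hU.fromSpec =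
        Spec.map (CommRingCat.ofHom (φ.comp c₁)) ≫ hU.fromSpec := by
      rw [← Category.assoc, ← Spec.map_comp]
      rfl
    have g21 : Spec.map (CommRingCat.ofHom φ) ≫ Spec.map (CommRingCat.ofHom c₂) ≫ hU.fromSpec =
        Spec.map (CommRingCat.ofHom (φ.comp c₁)) ≫ hU.fromSpec := by
      rw [h1, ← Category.assoc, ← Spec.map_comp]
      rfl
    have g22 : (Spec.map (CommRingCat.ofHom c₂) ≫ hU.fromSpec) ≫ f =
        (Spec.map (CommRingCat.ofHom c₁) ≫ hU.fromSpec) ≫ f := by
      rw [comp_chart f hV hU e, comp_chart f hV hU e]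
      congr 2
      ext r
      exact (RingHom.congr_fun h2 r).symm
    have hαβ : Spec.map (CommRingCat.ofHom φ) ≫
        (Spec.map (CommRingCat.ofHom c₁) ≫ hU.fromSpec) ≫ f =
        (Spec.map (CommRingCat.ofHom (φ.comp c₁)) ≫ hU.fromSpec) ≫ f := by
      rw [← g11]
      simp only [Category.assoc]
    have hγ := H B B' φ hφ hk _ _ hα hαβ _ _ g11 rfl g21 g22
    have hcc := eq_of_spec_comp_eq hU hγ
    exact congrArg CommRingCat.Hom.hom hcc

end Scheme

end Groth.Agent.Lib.LocalLiftH4
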