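import Mathlib
import Groth.Prelude.Def_W4c1liftfrobW2
import Groth.Agent.Lib.LciDef1_helper3
import Groth.Agent.Lib.LciDef2_helper3
import Groth.Agent.Lib.SmoothLCI_helper2
import Groth.Agent.Lib.FLiftEt_helper8
import Groth.Agent.Lib.SplitW2_helper1
import Groth.Agent.Lib.FrobLiftW2_helper1
import Groth.Agent.Lib.LocalLift_helper4

/-!
# A smooth affine scheme over a perfect field of characteristic `p` lifts to `W₂(k)` together with
its Frobenius (helper3)

* `isLocalRing_W2`, `isArtinianRing_W2`: `W₂(k)` is a local Artinian ring for `k` a perfect field.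
* `main13148`.
APPEND-ONLY once landed.
-/

set_option autoImplicit false
set_option linter.style.haveILetI false

namespace Groth.Agent.Lib.FLiftSmoothH3

open FrobAlg Groth.Agent.Lib.SplitW2H1 Groth.Agent.Lib.FrobLiftW2H1

universe u

variable (p : ℕ) [Fact p.Prime] (k : Type u) [Field k] [CharP k p] [PerfectRing k p]

theorem res_surjective : Function.Surjective (res p k) := fun a =>
  ⟨tau p a, by rw [res_apply]; exact tau_coeff0 p a⟩

theorem ker_res_sq : RingHom.ker (res p k) ^ 2 = ⊥ := by
  rw [ker_res, Ideal.span_singleton_pow, pow_two, p_mul_p]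
  exact Ideal.span_singleton_eq_bot.2 rfl

theorem isLocalRing_W2 : IsLocalRing (W2 p k) :=
  Groth.Agent.Lib.LocalLiftH4.isLocalRing_of_surjective_of_ker_sq (res p k) (res_surjective p k)
    (ker_res_sq p k)

theorem isArtinianRing_W2 : IsArtinianRing (W2 p k) := by
  haveI : Finite (Ideal (W2 p k)) := by
    apply Finite.of_surjective
      (![⊥, Ideal.span {((p : ℕ) : W2 p k)}, ⊤] : Fin 3 → Ideal (W2 p k))
    intro I
    rcases ideal_cases p k I with h | h | h
    · exact ⟨0, h.symm⟩
    · exact ⟨1, h.symm⟩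
    · exact ⟨2, h.symm⟩
  exact inferInstanceAs (WellFoundedLT (Ideal (W2 p k)))

theorem main13148 (A : Type u) [CommRing A] [Algebra k A] [Algebra.Smooth k A] :
    FrobAlg.IsFLiftable p k A := by
  have hp : p.Prime := Fact.out
  haveI := isLocalRing_W2 p k
  haveI := isArtinianRing_W2 p k
  have hlci : LCI.IsLCI k A := by
    have h := Groth.Agent.Lib.SmoothLCI.isLCIHom_of_smooth (algebraMap k A)
      (RingHom.smooth_algebraMap.2 inferInstance)
    have heq : (algebraMap k A).toAlgebra = (inferInstance : Algebra k A) :=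
      Algebra.algebra_ext _ _ (fun r => rfl)
    unfold Groth.Agent.Lib.LCIComp.IsLCIHom at h
    rw [heq] at h
    exact h
  obtain ⟨ι, σ, P, hT2⟩ := Groth.Agent.Lib.LciDefH3.exists_presentation_T2 k A hlci
  have hres := res_surjective p k
  have hflat : (algebraMap k A).Flat := RingHom.flat_algebraMap_iff.2 inferInstance
  have hkerid : RingHom.ker (RingHom.id A) = (RingHom.ker (RingHom.id k)).map (algebraMap k A) := by
    rw [(RingHom.injective_iff_ker_eq_bot (RingHom.id A)).1 Function.injective_id,
      (RingHom.injective_iff_ker_eq_bot (RingHom.id k)).1 Function.injective_id, Ideal.map_bot]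
  obtain ⟨E', _, γ', α', π, hflat', hα', hker', hcomp', -, -, -, -⟩ :=
    Groth.Agent.Lib.LciDefH3.exists_lift_of_surjective P hT2 (res p k) hres (RingHom.id k)
      (res p k) (fun _ => rfl) hres A (algebraMap k A) (RingHom.id A) hflat
      Function.surjective_id hkerid (fun _ => rfl)
  have hcomm : α'.comp γ' = (algebraMap k A).comp (res p k) := RingHom.ext hcomp'
  have hfs : γ'.FormallySmooth :=
    RingHom.FormallySmooth.of_flat_of_ker_eq_map_of_square_zero γ' hflat' (res p k) α'
      (algebraMap k A) hres hα' hcomm (ker_res_sq p k) hker'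
      (RingHom.formallySmooth_algebraMap.2 inferInstance)
  letI algE : Algebra (W2 p k) E' := γ'.toAlgebra
  haveI : Algebra.FormallySmooth (W2 p k) E' := hfs
  have hnil : IsNilpotent (RingHom.ker α') := by
    refine ⟨2, ?_⟩
    rw [hker', ← Ideal.map_pow, ker_res_sq, Ideal.map_bot]
    rfl
  have hp0A : ((p : ℕ) : A) = 0 := by
    have h0 : ((p : ℕ) : k) = 0 := CharP.cast_eq_zero k p
    have := congrArg (algebraMap k A) h0
    rwa [map_natCast, map_zero] at this
  obtain ⟨Φ, hΦ1, hΦ2⟩ := FLiftEtH8.exists_lift_of_formallySmooth (R := W2 p k) (S := E')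
    (γ'.comp (sigma p k)) α' hα' hnil ((FLiftEtH8.powHom p hp A hp0A).comp α') (by
      apply RingHom.ext
      intro w
      show (α' (γ' w)) ^ p = α' (γ' (sigma p k w))
      rw [hcomp', hcomp', ← map_pow, res_apply, res_apply, WittGrp.coeff_frob])
  refine ⟨E', inferInstance, γ', α', Φ, ⟨⟨hflat', hα', hker', hcomm⟩, hΦ1, fun b => ?_⟩⟩
  exact RingHom.congr_fun hΦ2 b

end Groth.Agent.Lib.FLiftSmoothH3
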