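import Mathlib
import Groth.Prelude
import Groth.Agent.Lib.PerfTensG2_helper3
import Groth.Agent.Lib.QcTest2_helper3
import Groth.Agent.Lib.StalkKFlat2_helper3
import Groth.Agent.Lib.BifSingle_helper2
import Groth.Agent.Lib.ExtKFlat_helper2
import Groth.Agent.Lib.TorAmpLT_helper2

/-!
# Fourier–Mukai transforms with a flat coherent kernel, part 1 (helper3)

* `twSingleIso G A : A ⊗ G ≅ Tot (A ⊗ G[0])`.
* `exactAt_tensor_ext`: for an `A`-module `K` flat over `R`, `K ⊗_A (A ⊗_R C^•)` is exact wherever
  `C` is.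
* `exactAt_tw_pull_of_flat`: for `K` flat over `X` (along `p : Z ⟶ X`), `p^* P ⊗ K` is exact wherever
  `P` is.
-/

set_option autoImplicit false
set_option linter.all false
set_option maxHeartbeats 1600000
set_option backward.isDefEq.respectTransparency false
set_option backward.isDefEq.respectTransparency.types false
set_option backward.defeqAttrib.useBackward true

universe u
open CategoryTheory CategoryTheory.Limits AlgebraicGeometry Opposite MonoidalCategory

attribute [local instance] HasDerivedCategory.standard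

namespace Groth.Agent.Lib.FMCohH3

open Groth.Agent.Lib.StalkTensH3 Groth.Agent.Lib.DTorCmp Groth.Agent.Lib.PerfTensGH3
  Groth.Agent.Lib.QcTestH3 Groth.Agent.Lib.ExtKFlat Groth.Agent.Lib.KFlatMod
  Groth.Agent.Lib.LpullLocH3

noncomputable section

/-! ### `A ⊗ G` as a total complex -/

section Single

variable {X : Scheme.{u}}

/-- `A ⊗ G ≅ Tot (A ⊗ G[0])` -/
def twSingleIso (G : X.Modules) (A : CochainComplex X.Modules ℤ) :
    (tw G).obj A ≅ (DCoh.tensorCx.obj A).obj
      ((HomologicalComplex.single X.Modules (ComplexShape.up ℤ) 0).obj G) :=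
  HomologicalComplex.Hom.isoOfComponents
    (fun p => (eTB G).app (A.X p) ≪≫
      asIso (Groth.Agent.Lib.BifSingle.θ (DCoh.tensorBi (X := X)) A G 0 p p (add_zero p)))
    (by
      intro p q hpq
      have hpq' : p + 1 = q := hpq
      have h1 := Groth.Agent.Lib.BifSingle.θ_d (DCoh.tensorBi (X := X)) A G 0 p p q q
        (add_zero p) hpq' hpq'
      have h2 := (eTB G).hom.naturality (A.d p q)
      show ((eTB G).hom.app (A.X p) ≫
          Groth.Agent.Lib.BifSingle.θ (DCoh.tensorBi (X := X)) A G 0 p p (add_zero p)) ≫ _ =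
        (DCoh.tensorRightMod G).map (A.d p q) ≫
          ((eTB G).hom.app (A.X q) ≫
            Groth.Agent.Lib.BifSingle.θ (DCoh.tensorBi (X := X)) A G 0 q q (add_zero q))
      rw [Category.assoc, ← Category.assoc ((DCoh.tensorRightMod G).map (A.d p q)), h2,
        Category.assoc]
      congr 1)

end Single

/-! ### the ring-level statement -/

section Ring

variable {R A : Type u} [CommRing R] [CommRing A] [Algebra R A]

theorem exactAt_tensor_ext (K : ModuleCat.{u} A) (hK : Module.Flat R ((res R A).obj K))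
    (C : CochainComplex (ModuleCat.{u} R) ℤ) (i : ℤ) (hC : C.ExactAt i) :
    ((Groth.Agent.Lib.BifSingleL.SP (T A)
      (((ext R A).mapHomologicalComplex (ComplexShape.up ℤ)).obj C)).obj K).ExactAt i := by
  rw [← Groth.Agent.Lib.TorAmpLT.exactAt_map_iff (res R A)]
  let e : ((tensorLeft ((res R A).obj K)).mapHomologicalComplex (ComplexShape.up ℤ)).obj C ≅
      ((res R A).mapHomologicalComplex (ComplexShape.up ℤ)).obj
        ((Groth.Agent.Lib.BifSingleL.SP (T A)
          (((ext R A).mapHomologicalComplex (ComplexShape.up ℤ)).obj C)).obj K) :=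
    HomologicalComplex.Hom.isoOfComponents (fun j => (cbIso K (C.X j)).symm)
      (fun j k _ => (cbIso_inv_nat₂ K (C.d j k)).symm)
  refine Groth.Agent.Lib.TorAmpLT.exactAt_of_iso e i ?_
  rw [HomologicalComplex.exactAt_iff] at hC ⊢
  exact Module.Flat.lTensor_shortComplex_exact ((res R A).obj K) _ hC

end Ring

/-! ### `p^* P ⊗ K` for `K` flat over the base -/

section Scheme

variable {X Z : Scheme.{u}} (p : Z ⟶ X)

theorem exactAt_tw_pull_of_flat (K : Z.Modules) (hK : FlatMod.IsFlatOver p K)
    (P : CochainComplex X.Modules ℤ) (i : ℤ) (hP : P.ExactAt i) :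
    ((tw K).obj ((pullCx p).obj P)).ExactAt i := by
  apply Groth.Agent.Lib.TorAmpIdL.exactAt_of_forall_stalk
  intro z
  letI : Algebra (X.presheaf.stalk (p.base z)) (Z.presheaf.stalk z) :=
    (p.stalkMap z).hom.toAlgebra
  have h1 : (((stk (p.base z)).mapHomologicalComplex (ComplexShape.up ℤ)).obj P).ExactAt i := by
    rw [HomologicalComplex.exactAt_iff] at hP ⊢
    exact hP.map (stk (p.base z))
  have hfl : Module.Flat (X.presheaf.stalk (p.base z))
      ((res (X.presheaf.stalk (p.base z)) (Z.presheaf.stalk z)).obj ((stk z).obj K)) := hK z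
  have h2 := exactAt_tensor_ext (R := X.presheaf.stalk (p.base z)) (A := Z.presheaf.stalk z)
    ((stk z).obj K) hfl _ i h1
  let e1 := stalkTwCxIso z K ((stk z).obj K) (Iso.refl _) ((pullCx p).obj P)
  let e2 := pullbackStalkCxIso p z P
  let e3 := (((T (Z.presheaf.stalk z)).obj ((stk z).obj K)).mapHomologicalComplex
    (ComplexShape.up ℤ)).mapIso e2
  exact Groth.Agent.Lib.TorAmpLT.exactAt_of_iso (e1 ≪≫ e3).symm i h2

end Scheme

end

end Groth.Agent.Lib.FMCohH3
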