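import Mathlib
import Groth.Prelude
import Groth.Agent.Lib.FMCoh1_helper3
import Groth.Agent.Lib.PerfTensG2_helper3
import Groth.Agent.Lib.LpullPC_helper3
import Groth.Agent.Lib.PCohFT3_lead
import Groth.Agent.Lib.TensPC2_helper3
import Groth.Agent.Lib.RelPerfTens_helper3
import Groth.Agent.Lib.RpushCohD_helper3
import Groth.Agent.Lib.RelPCProp1_helper3

/-!
# Fourier–Mukai transforms with a flat coherent kernel, part 2 (helper3)

`fm_coh`: `p : Z ⟶ X`, `q : Z ⟶ Y` with `X` locally Noetherian, `Y` Noetherian, `q` locally of finite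
type; `K` coherent on `Z`, flat over `X`, with support proper over `Y`.  Then
`M ↦ Rq_*(Lp^* M ⊗^L K)` maps `D^b_Coh(X)` to `D^b_Coh(Y)`.

`main2224`: the case `Z = X ×_S Y`.
-/

set_option autoImplicit false
set_option linter.all false
set_option maxHeartbeats 1600000
set_option backward.isDefEq.respectTransparency false
set_option backward.isDefEq.respectTransparency.types false
set_option backward.defeqAttrib.useBackward true

universe u
open CategoryTheory CategoryTheory.Limits AlgebraicGeometry Opposite MonoidalCategory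

attribute [local instance] HasDerivedCategory.standard

namespace Groth.Agent.Lib.FMCohH3

open Groth.Agent.Lib.StalkTensH3 Groth.Agent.Lib.DTorCmp Groth.Agent.Lib.LTensModExH3
  Groth.Agent.Lib.PullTensIsoH3 Groth.Agent.Lib.PerfTensH3 Groth.Agent.Lib.DCohLocLead
  Groth.Agent.Lib.LpullLocH3 Groth.Agent.Lib.LpullTensH3 Groth.Agent.Lib.RelPerfTensH3
  Groth.Agent.Lib.QcTestH3 Groth.Agent.Lib.PerfTensGH3 Groth.Agent.Lib.RelPCPropH3
  Groth.Agent.Lib.LpullPCH3 Groth.Agent.Lib.TensPCH3 DerSch DerivedCategory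

noncomputable section

variable {X Y Z : Scheme.{u}} (p : Z ⟶ X) (q : Z ⟶ Y)

/-- the Fourier–Mukai transform with a coherent kernel flat over the source and with support
proper over the target preserves bounded complexes with coherent cohomology -/
theorem fm_coh [IsLocallyNoetherian X] [IsNoetherian Y] [LocallyOfFiniteType q]
    (K : Z.Modules) (hK : Coh.IsCoh K) (hflat : FlatMod.IsFlatOver p K)
    (hsupp : ClSub.IsProperOver q (CohB1.support K))
    [DCoh.HasLpull p] [DCoh.HasLTensorMod K] [DCoh.HasRpush q]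
    (M : DCoh.D X) (hM : DCoh.IsCohD M) (m n : ℤ) (hMge : M.IsGE m) (hMle : M.IsLE n) :
    DCoh.IsCohD ((DCoh.Rpush q).obj ((DCoh.LTensorMod K).obj ((DCoh.Lpull p).obj M))) ∧
      ((DCoh.Rpush q).obj ((DCoh.LTensorMod K).obj ((DCoh.Lpull p).obj M))).IsGE m ∧
      ∃ n' : ℤ, ((DCoh.Rpush q).obj ((DCoh.LTensorMod K).obj ((DCoh.Lpull p).obj M))).IsLE n' := by
  haveI : IsLocallyNoetherian Z := LocallyOfFiniteType.isLocallyNoetherian q
  obtain ⟨P, hP, ⟨eP⟩⟩ := exists_kflat_rep M
  have hQge : (DerivedCategory.Q.obj P).IsGE m := isGE_of_iso' eP.symm m hMge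
  have hQle : (DerivedCategory.Q.obj P).IsLE n := isLE_of_iso' eP.symm n hMle
  have hPge : P.IsGE m := (DerivedCategory.isGE_Q_obj_iff P m).1 hQge
  have hPle : P.IsLE n := (DerivedCategory.isLE_Q_obj_iff P n).1 hQle
  let A := (pullCx p).obj P
  have hA : DCoh.IsKFlat A := isKFlat_pullback p P hP
  let eA : (DCoh.Lpull p).obj M ≅ DerivedCategory.Q.obj A :=
    (DCoh.Lpull p).mapIso eP.symm ≪≫ LpullQIso p P hP
  let T := (tw K).obj A
  let eN : (DCoh.LTensorMod K).obj ((DCoh.Lpull p).obj M) ≅ DCoh.toD Z T :=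
    (DCoh.LTensorMod K).mapIso eA ≪≫ ltensorIso K A hA
  have hTge : T.IsGE m := by
    rw [CochainComplex.isGE_iff]
    intro i hi
    exact exactAt_tw_pull_of_flat p K hflat P i ((CochainComplex.isGE_iff P m).1 hPge i hi)
  have hTle : T.IsLE n := by
    rw [CochainComplex.isLE_iff]
    intro i hi
    exact exactAt_tw_pull_of_flat p K hflat P i ((CochainComplex.isLE_iff P n).1 hPle i hi)
  haveI : (DCoh.toD Z T).IsGE m := (DerivedCategory.isGE_Q_obj_iff T m).2 hTge
  haveI : (DCoh.toD Z T).IsLE n := (DerivedCategory.isLE_Q_obj_iff T n).2 hTle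
  -- pseudo-coherence
  have hMpc : ∀ t : ℤ, DCoh.IsPseudoCoherentD t M :=
    fun t => isPC_of_coh M n t hMle (fun i _ => hM i)
  have hApc : ∀ t : ℤ, DCoh.IsPseudoCoherentD t (DerivedCategory.Q.obj A) :=
    fun t => isPC_of_iso eA (isPC_Lpull p t M (hMpc t))
  obtain ⟨K₀, qK, hK₀, hqK⟩ := exists_kflat_resolution'
    ((HomologicalComplex.single Z.Modules (ComplexShape.up ℤ) 0).obj K)
  haveI := hqK
  let eK : DerivedCategory.Q.obj K₀ ≅ DCoh.inD Z K :=
    asIso (DerivedCategory.Q.map qK) ≪≫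
      ((DerivedCategory.singleFunctorIsoCompQ Z.Modules 0).app K).symm
  have hK₀pc : ∀ t : ℤ, DCoh.IsPseudoCoherentD t (DerivedCategory.Q.obj K₀) :=
    fun t => isPC_of_iso eK.symm (isPC_inD_of_isCoh K hK t)
  have hK₀b : ∀ x : Z, ∃ (W : Z.Opens) (b : ℤ), x ∈ W ∧
      Lt (b + 1) ((DD W.ι).obj (DerivedCategory.Q.obj K₀)) :=
    fun x => ⟨⊤, 0, trivial, ((Lt_inD K 1 (by norm_num)).of_iso eK.symm).restrict _⟩
  have hpc : ∀ t : ℤ, DCoh.IsPseudoCoherentD t
      (DerivedCategory.Q.obj ((DCoh.tensorCx.obj A).obj K₀)) :=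
    isPC_tensorCx_loc A K₀ hA hK₀ hApc hK₀pc hK₀b
  obtain ⟨e1⟩ := nonempty_Q_tensor_iso_right (A := A) (B := K₀)
    (B' := (HomologicalComplex.single Z.Modules (ComplexShape.up ℤ) 0).obj K) hA
    (asIso (DerivedCategory.Q.map qK))
  let e2 : DerivedCategory.Q.obj ((DCoh.tensorCx.obj A).obj K₀) ≅ DCoh.toD Z T :=
    e1 ≪≫ DerivedCategory.Q.mapIso (twSingleIso K A).symm
  have hcoh : DCoh.IsCohD (DCoh.toD Z T) :=
    fun i => isCoh_HD_of_isPC _ (fun t => isPC_of_iso e2 (hpc t)) i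
  have hsuppT : ∀ i : ℤ, ClSub.IsProperOver q (CohB1.support (DCoh.HD (DCoh.toD Z T) i)) := by
    intro i
    haveI := (hcoh i).2
    exact ProperOver.isProperOver_of_subset q hsupp
      (SuppFT.isClosed_support _) (support_HD_tw_subset K A i)
  obtain ⟨h1, h2, c, h3⟩ := Groth.Agent.Lib.RpushCohDH3.main1001 q (DCoh.toD Z T) m n hcoh hsuppT
  let e := (DCoh.Rpush q).mapIso eN
  exact ⟨isCohD_of_iso e.symm h1, isGE_of_iso' e.symm m h2, c, isLE_of_iso' e.symm c h3⟩

/-- **S2224** -/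
theorem main2224 {S X Y : Scheme.{u}} [IsNoetherian S]
    (a : X ⟶ S) (b : Y ⟶ S) [LocallyOfFiniteType a] [QuasiCompact a] [LocallyOfFiniteType b]
    [QuasiCompact b] (K : (Limits.pullback a b).Modules) (hK : Coh.IsCoh K)
    (hflat : FlatMod.IsFlatOver (Limits.pullback.fst a b) K)
    (hsupp : ClSub.IsProperOver (Limits.pullback.snd a b) (CohB1.support K))
    [DCoh.HasLpull (Limits.pullback.fst a b)] [DCoh.HasLTensorMod K]
    [DCoh.HasRpush (Limits.pullback.snd a b)]
    (M : DCoh.D X) (hM : DCoh.IsCohD M) (m n : ℤ) (hMge : DerivedCategory.IsGE M m)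
    (hMle : DerivedCategory.IsLE M n) :
    DCoh.IsCohD ((DCoh.Rpush (Limits.pullback.snd a b)).obj
        ((DCoh.LTensorMod K).obj ((DCoh.Lpull (Limits.pullback.fst a b)).obj M))) ∧
      ∃ m' n' : ℤ, DerivedCategory.IsGE ((DCoh.Rpush (Limits.pullback.snd a b)).obj
          ((DCoh.LTensorMod K).obj ((DCoh.Lpull (Limits.pullback.fst a b)).obj M))) m' ∧
        DerivedCategory.IsLE ((DCoh.Rpush (Limits.pullback.snd a b)).obj
          ((DCoh.LTensorMod K).obj ((DCoh.Lpull (Limits.pullback.fst a b)).obj M))) n' := by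
  haveI : IsLocallyNoetherian X := LocallyOfFiniteType.isLocallyNoetherian a
  haveI : IsLocallyNoetherian Y := LocallyOfFiniteType.isLocallyNoetherian b
  haveI : CompactSpace Y := QuasiCompact.compactSpace_of_compactSpace b
  haveI : IsNoetherian Y := {}
  haveI : LocallyOfFiniteType (Limits.pullback.snd a b) := inferInstance
  obtain ⟨h1, h2, c, h3⟩ := fm_coh (Limits.pullback.fst a b) (Limits.pullback.snd a b) K hK hflat
    hsupp M hM m n hMge hMle
  exact ⟨h1, m, c, h2, h3⟩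

end

end Groth.Agent.Lib.FMCohH3
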