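import Groth.Agent.Lib.KFlatGen1_helper2
import Groth.Agent.Lib.ResSystem_helper2
import Groth.Agent.Lib.BifNat_helper2
import Mathlib.Algebra.Homology.BifunctorFlip

/-!
# K-flat complexes with respect to a bifunctor `F : 𝒜 ⥤ 𝒜 ⥤ 𝒜` (helper2), part II

Generic versions of `KFlatSite5–7`: existence of K-flat resolutions, factorisation of maps from
K-flat complexes, symmetry, and tensoring quasi-isomorphisms of K-flat complexes.
-/

set_option autoImplicit false
universe v u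
open CategoryTheory Limits ZeroObject

namespace Groth.Agent.Lib.KFlatGen

open Groth.Agent.Lib.BifCone Groth.Agent.Lib.TruncTower Groth.Agent.Lib.PCohCyl
  Groth.Agent.Lib.PCohNQI

variable {𝒜 : Type u} [Category.{v} 𝒜] [Abelian 𝒜]
  {F : 𝒜 ⥤ 𝒜 ⥤ 𝒜} [F.Additive] [∀ X, (F.obj X).Additive]
  [∀ (K₁ K₂ : CochainComplex 𝒜 ℤ), CochainComplex.HasMapBifunctor K₁ K₂ F]

/-- the hypotheses on a class `P` of flat objects used to build resolutions -/
structure ResClass (Fl P : 𝒜 → Prop) : Prop where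
  flat : ∀ X, P X → Fl X
  cover : ∀ X : 𝒜, ∃ (Y : 𝒜) (π : Y ⟶ X), P Y ∧ Epi π
  zero : ∃ Z : 𝒜, IsZero Z ∧ P Z
  of_iso : ∀ {X Y : 𝒜}, (X ≅ Y) → P X → P Y
  biprod : ∀ {X Y : 𝒜}, P X → P Y → P (X ⊞ Y)
  flat_colim : ∀ (D : ℕ ⥤ 𝒜), (∀ n, Fl (D.obj n)) → ∀ (c : Cocone D), IsColimit c → Fl c.pt
  flat_biprod : ∀ {X Y : 𝒜}, Fl X → Fl Y → Fl (X ⊞ Y)

section Res

variable {Fl P : 𝒜 → Prop} (hFl : FlatClass F Fl) (hP : ResClass Fl P) [HasCoproducts.{0} 𝒜]
  [∀ n : ℤ, HasExactColimitsOfShape (Discrete (BifSES.Idx n)) 𝒜]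
  [HasColimitsOfShape ℕ 𝒜] [HasExactColimitsOfShape ℕ 𝒜]
  [∀ X : 𝒜, PreservesColimitsOfShape ℕ (F.obj X)]

include hFl hP

/-- every complex has a K-flat resolution with flat terms, degreewise epimorphic -/
theorem exists_kflat_resolution (G : CochainComplex 𝒜 ℤ) :
    ∃ (K : CochainComplex 𝒜 ℤ) (q : K ⟶ G), IsKFlat F K ∧
      (∀ n : ℤ, Fl (K.X n)) ∧ QuasiIso q ∧ ∀ n : ℤ, Epi (q.f n) := by
  obtain ⟨Kc, π, _, hπ, hb, hfree, _, c, hc, hq⟩ :=
    Groth.Agent.Lib.ResSystem.exists_system P G hP.cover hP.zero hP.of_iso hP.biprod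
  refine ⟨colimit Kc, c, ?_, ?_, hq, ?_⟩
  · refine isKFlat_of_isColimit Kc (fun n => ?_) (colimit.isColimit Kc)
    obtain ⟨b, hb'⟩ := hb n
    haveI := hb'
    exact isKFlat_of_isStrictlyLE hFl (Kc.obj n) b (fun i => hP.flat _ (hfree n i))
  · intro i
    exact hP.flat_colim (Kc ⋙ HomologicalComplex.eval _ _ i)
      (fun n => hP.flat _ (hfree n i)) _
      (isColimitOfPreserves (HomologicalComplex.eval _ _ i) (colimit.isColimit Kc))
  · intro i
    have h : (colimit.ι Kc i.toNat).f i ≫ c.f i =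
        (π i.toNat).f i ≫ (G.ιTruncLE (((i.toNat : ℕ) : ℤ) + 1)).f i := by
      rw [← HomologicalComplex.comp_f, hc i.toNat, HomologicalComplex.comp_f]
    haveI := (hπ i.toNat).2 i
    haveI := isIso_ιTruncLE_f G (((i.toNat : ℕ) : ℤ) + 1) i (by omega)
    haveI : Epi ((colimit.ι Kc i.toNat).f i ≫ c.f i) := by
      rw [h]
      infer_instance
    exact epi_of_epi ((colimit.ι Kc i.toNat).f i) (c.f i)

/-- a map from a K-flat complex factors strictly through a K-flat complex followed by a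
quasi-isomorphism -/
theorem exists_kflat_factor {K L : CochainComplex 𝒜 ℤ} (a : K ⟶ L) (hK : IsKFlat F K) :
    ∃ (N : CochainComplex 𝒜 ℤ) (b : K ⟶ N) (c : N ⟶ L), IsKFlat F N ∧ QuasiIso c ∧
      b ≫ c = a ∧ ((∀ n : ℤ, Fl (K.X n)) → ∀ n : ℤ, Fl (N.X n)) := by
  obtain ⟨Q, κ, hQK, hQfl, hκq, hκepi⟩ :=
    exists_kflat_resolution hFl hP (CochainComplex.mappingCone a)
  haveI := hκq
  obtain ⟨E', v, u', π, w, hvu, hS, hn, hsec⟩ := exists_factor_split a κ
  refine ⟨E', v, u', ?_, ?_, hvu, ?_⟩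
  · exact (isKFlat_shortExact hFl (ShortComplex.mk v π w) hS hQfl).2.1 hK hQK
  · exact quasiIso_of_forall_nqi _ (fun m => hn m (nqi_of_quasiIso m κ))
  · intro hKfl n
    obtain ⟨σ, hσ⟩ := hsec n
    obtain ⟨e⟩ := nonempty_iso_biprod v π w hS n σ hσ
    exact hFl.of_iso e.symm (hP.flat_biprod (hKfl n) (hQfl n))

end Res

section Symm

instance additive_flip : F.flip.Additive where
  map_add {X Y f g} := by
    refine NatTrans.ext (funext fun Z => ?_)
    exact (F.obj Z).map_add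

instance additive_flip_obj (X : 𝒜) : (F.flip.obj X).Additive where
  map_add {Y Z f g} := by
    change (F.map (f + g)).app X = (F.map f).app X + (F.map g).app X
    rw [F.map_add]
    rfl

variable (σ : F ≅ F.flip)

/-- symmetry of the total complex -/
noncomputable def tensorCxSymm (K L : CochainComplex 𝒜 ℤ) :
    HomologicalComplex.mapBifunctor K L F (ComplexShape.up ℤ) ≅
      HomologicalComplex.mapBifunctor L K F (ComplexShape.up ℤ) :=
  Groth.Agent.Lib.BifNat.mapNatIso K L σ ≪≫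
    HomologicalComplex.mapBifunctorFlipIso L K F (ComplexShape.up ℤ)

include σ in
/-- a K-flat complex also preserves acyclicity when placed in the first variable -/
theorem acyclic_tensor_left_of_isKFlat (K : CochainComplex 𝒜 ℤ) (hK : IsKFlat F K)
    (L : CochainComplex 𝒜 ℤ) (hL : L.Acyclic) :
    (HomologicalComplex.mapBifunctor K L F (ComplexShape.up ℤ)).Acyclic :=
  acyclic_of_iso (tensorCxSymm σ L K) (hK L hL)

variable {Fl P : 𝒜 → Prop} (hFl : FlatClass F Fl) (hP : ResClass Fl P) [HasCoproducts.{0} 𝒜]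
  [∀ n : ℤ, HasExactColimitsOfShape (Discrete (BifSES.Idx n)) 𝒜]
  [HasColimitsOfShape ℕ 𝒜] [HasExactColimitsOfShape ℕ 𝒜]
  [∀ X : 𝒜, PreservesColimitsOfShape ℕ (F.obj X)]

include σ hFl hP in
/-- tensoring a quasi-isomorphism of K-flat complexes with any complex gives a quasi-isomorphism -/
theorem quasiIso_tensor_left_of_kflat (P' Q : CochainComplex 𝒜 ℤ)
    (hP' : IsKFlat F P') (hQ : IsKFlat F Q) (α : P' ⟶ Q) [QuasiIso α]
    (G : CochainComplex 𝒜 ℤ) :
    QuasiIso (HomologicalComplex.mapBifunctorMap (𝟙 G) α F (ComplexShape.up ℤ)) := by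
  obtain ⟨K, r, hK, -, hr, -⟩ := exists_kflat_resolution hFl hP G
  haveI := hr
  haveI h1 : QuasiIso (HomologicalComplex.mapBifunctorMap r (𝟙 P') F (ComplexShape.up ℤ)) :=
    quasiIso_mapBifunctorMap₁ F P' hP' r
  haveI h2 : QuasiIso (HomologicalComplex.mapBifunctorMap r (𝟙 Q) F (ComplexShape.up ℤ)) :=
    quasiIso_mapBifunctorMap₁ F Q hQ r
  haveI h3 : QuasiIso (HomologicalComplex.mapBifunctorMap (𝟙 K) α F (ComplexShape.up ℤ)) :=
    quasiIso_mapBifunctorMap₂ F K (acyclic_tensor_left_of_isKFlat σ K hK) α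
  have comm : HomologicalComplex.mapBifunctorMap r (𝟙 P') F (ComplexShape.up ℤ) ≫
      HomologicalComplex.mapBifunctorMap (𝟙 G) α F (ComplexShape.up ℤ) =
      HomologicalComplex.mapBifunctorMap (𝟙 K) α F (ComplexShape.up ℤ) ≫
        HomologicalComplex.mapBifunctorMap r (𝟙 Q) F (ComplexShape.up ℤ) :=
    ((F.map₂CochainComplex.map r).naturality α).symm
  haveI : QuasiIso (HomologicalComplex.mapBifunctorMap r (𝟙 P') F (ComplexShape.up ℤ) ≫
      HomologicalComplex.mapBifunctorMap (𝟙 G) α F (ComplexShape.up ℤ)) := by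
    rw [comm]
    infer_instance
  exact quasiIso_of_comp_left
    (HomologicalComplex.mapBifunctorMap r (𝟙 P') F (ComplexShape.up ℤ)) _

end Symm

end Groth.Agent.Lib.KFlatGen
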