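import Mathlib
import Groth.Prelude
import Groth.Agent.Lib.FMCoh2_helper3
import Groth.Agent.Lib.RelFib6_helper3
import Groth.Agent.Lib.StalkKFlat1_helper3
import Groth.Agent.Lib.KFlatGen2_helper2
import Groth.Agent.Lib.TensPC1_helper3
import Groth.Agent.Lib.PerfFlat3_lead

/-!
# Tensor products with a perfect complex: lower bounds and supports (helper3)

* `isGE_tensorCx_of_ge`: `L` K-flat and strictly `≥ a`, `B` cohomologically `≥ k`:
  `L ⊗ B` is cohomologically `≥ a + k`.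
* `exists_isGE_tensor_of_isPerfect`: on a quasi-compact scheme, `P ⊗ B` is bounded below for
  `P` K-flat perfect and `B` K-flat bounded below.
* `support_HD_tensor_subset`: `Supp H^i(P ⊗ B) ⊆ ⋃ Supp H^j(B)` for `P` K-flat.
-/

set_option autoImplicit false
set_option linter.all false
set_option maxHeartbeats 1600000
set_option backward.isDefEq.respectTransparency false
set_option backward.isDefEq.respectTransparency.types false
set_option backward.defeqAttrib.useBackward true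

universe u
open CategoryTheory CategoryTheory.Limits AlgebraicGeometry Opposite MonoidalCategory

attribute [local instance] HasDerivedCategory.standard

namespace Groth.Agent.Lib.FMCohH3

open Groth.Agent.Lib.StalkTensH3 Groth.Agent.Lib.DTorCmp Groth.Agent.Lib.LTensModExH3
  Groth.Agent.Lib.PullTensIsoH3 Groth.Agent.Lib.PerfTensH3 Groth.Agent.Lib.DCohLocLead
  Groth.Agent.Lib.LpullLocH3 Groth.Agent.Lib.LpullTensH3 Groth.Agent.Lib.RelPerfTensH3
  Groth.Agent.Lib.QcTestH3 Groth.Agent.Lib.PerfTensGH3 Groth.Agent.Lib.RelPCPropH3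
  Groth.Agent.Lib.LpullPCH3 Groth.Agent.Lib.TensPCH3 DerSch DerivedCategory

noncomputable section

variable {X : Scheme.{u}}

/-- the terms of `Tot (K ⊗ L)` vanish below the sum of the bounds -/
theorem isZero_tensorCx_X_of_ge (K L : CochainComplex X.Modules ℤ) (p₀ q₀ : ℤ)
    (hK : ∀ i : ℤ, i < p₀ → IsZero (K.X i)) (hL : ∀ i : ℤ, i < q₀ → IsZero (L.X i)) (n : ℤ)
    (hn : n < p₀ + q₀) : IsZero (((DCoh.tensorCx.obj K).obj L).X n) := by
  apply Groth.Agent.Lib.KFlatSite.isZero_mapBifunctor_X (DCoh.tensorBi (X := X))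
  intro p q hpq
  by_cases hp : p < p₀
  · exact Functor.map_isZero ((DCoh.tensorBi (X := X)).flip.obj (L.X q)) (hK p hp)
  · exact Functor.map_isZero ((DCoh.tensorBi (X := X)).obj (K.X p)) (hL q (by omega))

/-- restriction to an open subscheme preserves exactness -/
theorem exactAt_RC {Y : Scheme.{u}} (j : Y ⟶ X) [IsOpenImmersion j]
    (B : CochainComplex X.Modules ℤ) (i : ℤ) (h : B.ExactAt i) : ((RC j).obj B).ExactAt i := by
  rw [HomologicalComplex.exactAt_iff] at h ⊢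
  exact h.map (Scheme.Modules.restrictFunctor j)

theorem isGE_RC {Y : Scheme.{u}} (j : Y ⟶ X) [IsOpenImmersion j]
    (B : CochainComplex X.Modules ℤ) (k : ℤ) (h : B.IsGE k) : ((RC j).obj B).IsGE k := by
  rw [CochainComplex.isGE_iff] at h ⊢
  exact fun i hi => exactAt_RC j B i (h i hi)

/-- `L` K-flat and strictly `≥ a`, `B` cohomologically `≥ k`: `L ⊗ B` is cohomologically
`≥ a + k` -/
theorem isGE_tensorCx_of_ge (L B : CochainComplex X.Modules ℤ) (hL : DCoh.IsKFlat L) (a k : ℤ)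
    (hLa : ∀ i : ℤ, i < a → IsZero (L.X i)) (hB : B.IsGE k) :
    (Q.obj ((DCoh.tensorCx.obj L).obj B)).IsGE (a + k) := by
  haveI := hB
  haveI := quasiIso_tensor_left L hL (B.πTruncGE k)
  have h1 : ((DCoh.tensorCx.obj L).obj (B.truncGE k)).IsGE (a + k) := by
    rw [CochainComplex.isGE_iff]
    intro i hi
    exact Groth.Agent.Lib.TorAmpLT.exactAt_of_isZero_X _ i
      (isZero_tensorCx_X_of_ge L (B.truncGE k) a k hLa
        (fun j hj => (B.truncGE k).isZero_of_isStrictlyGE k j hj) i hi)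
  have h2 : (Q.obj ((DCoh.tensorCx.obj L).obj (B.truncGE k))).IsGE (a + k) :=
    (DerivedCategory.isGE_Q_obj_iff _ _).2 h1
  haveI : IsIso (Q.map (((DCoh.tensorCx (X := X)).obj L).map (B.πTruncGE k))) :=
    inferInstanceAs (IsIso (DerivedCategory.Q.map (((DCoh.tensorCx (X := X)).obj L).map
      (B.πTruncGE k))))
  exact isGE_of_iso' (asIso (Q.map (((DCoh.tensorCx (X := X)).obj L).map (B.πTruncGE k)))).symm
    _ h2

/-- on a quasi-compact scheme, `P ⊗ B` is bounded below for `P` K-flat perfect and `B` K-flat,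
bounded below -/
theorem exists_isGE_tensor_of_isPerfect [CompactSpace X] (P B : CochainComplex X.Modules ℤ)
    (hP : DCoh.IsKFlat P) (hB : DCoh.IsKFlat B) (hPerf : DCoh.IsPerfect (Q.obj P)) (k : ℤ)
    (hBk : B.IsGE k) :
    ∃ a' : ℤ, (Q.obj ((DCoh.tensorCx.obj P).obj B)).IsGE a' := by
  have hloc : ∀ x : X, ∃ (V : X.Opens) (a : ℤ), x ∈ V ∧
      ((DD V.ι).obj (Q.obj ((DCoh.tensorCx.obj P).obj B))).IsGE (a + k) := by
    intro x
    obtain ⟨V, hxV, L, hL, ⟨i⟩⟩ := (isPerfect_iff _).1 hPerf x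
    have hLK : DCoh.IsKFlat L := isKFlat_of_isStrictlyPerfect hL
    obtain ⟨⟨a, b, hab⟩, hfl⟩ := hL
    refine ⟨V, a, hxV, ?_⟩
    have hBV : DCoh.IsKFlat ((RC V.ι).obj B) := isKFlat_RC V.ι B hB
    have hBVk : ((RC V.ι).obj B).IsGE k := isGE_RC V.ι B k hBk
    obtain ⟨e1⟩ := nonempty_Q_tensor_iso_left (A := (RC V.ι).obj P) (A' := L) hBV
      ((facIso V.ι P).symm ≪≫ i)
    have h2 := isGE_tensorCx_of_ge L ((RC V.ι).obj B) hLK a k (fun i hi => hab i (Or.inl hi)) hBVk
    exact Groth.Agent.Lib.FibSchH3.isGE_of_iso'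
      ((facIso V.ι _) ≪≫ Q.mapIso (restrictCxTensorIso V.ι P B) ≪≫ e1).symm _ h2
  choose V a hxV hV using hloc
  obtain ⟨t, ht⟩ := isCompact_univ.elim_finite_subcover (fun x => ((V x : X.Opens) : Set X))
    (fun x => (V x).isOpen) (fun x _ => Set.mem_iUnion.2 ⟨x, hxV x⟩)
  classical
  obtain ⟨a₁, ha₁⟩ := (t.image (fun x => - a x)).exists_le
  obtain ⟨a₀, ha₀⟩ : ∃ a₀ : ℤ, ∀ x ∈ t, a₀ ≤ a x := ⟨-a₁, fun x hx => by
    have := ha₁ (- a x) (Finset.mem_image_of_mem (fun x => - a x) hx)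
    omega⟩
  refine ⟨a₀ + k, Groth.Agent.Lib.FibSchH3.isGE_of_cover _ _ (fun x : t => V x.1) (fun x => ?_)
    (fun x => Groth.Agent.Lib.FibSchH3.isGE_mono _ (a₀ + k) (a x.1 + k) ?_ (hV x.1))⟩
  · obtain ⟨y, hy, hxy⟩ := Set.mem_iUnion₂.1 (ht (Set.mem_univ x))
    exact ⟨⟨y, hy⟩, hxy⟩
  · have := ha₀ x.1 x.2
    omega

open Groth.Agent.Lib.KFlatMod Groth.Agent.Lib.KFlatGen Groth.Agent.Lib.ExtKFlat
  Groth.Agent.Lib.BifCone in
/-- `Supp H^i(P ⊗ B) ⊆ ⋃ Supp H^j(B)` for `P` K-flat -/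
theorem support_HD_tensor_subset (P B : CochainComplex X.Modules ℤ) (hP : DCoh.IsKFlat P)
    (i : ℤ) :
    CohB1.support (DCoh.HD (DCoh.toD X ((DCoh.tensorCx.obj P).obj B)) i) ⊆
      ⋃ j : ℤ, CohB1.support (DCoh.HD (DCoh.toD X B) j) := by
  intro x hx
  by_contra hxB
  apply hx
  have hBx : (((stk x).mapHomologicalComplex (ComplexShape.up ℤ)).obj B).Acyclic := by
    intro j
    rw [HomologicalComplex.exactAt_iff_isZero_homology]
    have hs : Subsingleton ((DCoh.HD (DCoh.toD X B) j).presheaf.stalk x) := by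
      by_contra h
      exact hxB (Set.mem_iUnion.2 ⟨j, h⟩)
    have hz3 : IsZero ((stk x).obj (DCoh.HD (DCoh.toD X B) j)) := by
      haveI : Subsingleton ((stk x).obj (DCoh.HD (DCoh.toD X B) j)) := hs
      exact ModuleCat.isZero_of_subsingleton _
    have hz2 : IsZero ((stk x).obj (B.homology j)) :=
      IsZero.of_iso hz3 ((stk x).mapIso ((homologyFunctorFactors X.Modules j).app B)).symm
    exact IsZero.of_iso hz2 ((B.sc j).mapHomologyIso (stk x))
  have hPx := kf_stalk_of_isKFlat x P hP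
  rw [kf_iff] at hPx
  have hac := Groth.Agent.Lib.KFlatGen.acyclic_tensor_left_of_isKFlat
    (BraidedCategory.curriedBraidingNatIso (ModuleCat.{u} (X.presheaf.stalk x))) _ hPx _ hBx
  have hac2 := acyclic_of_iso (stalkTotIso x P B).symm hac
  have hz1 : IsZero ((((stk x).mapHomologicalComplex (ComplexShape.up ℤ)).obj
      ((DCoh.tensorCx.obj P).obj B)).homology i) :=
    (HomologicalComplex.exactAt_iff_isZero_homology _ _).1 (hac2 i)
  have hz2 : IsZero ((stk x).obj (((DCoh.tensorCx.obj P).obj B).homology i)) :=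
    IsZero.of_iso hz1 ((((DCoh.tensorCx.obj P).obj B).sc i).mapHomologyIso (stk x)).symm
  have hz3 : IsZero ((stk x).obj (DCoh.HD (DCoh.toD X ((DCoh.tensorCx.obj P).obj B)) i)) :=
    IsZero.of_iso hz2 ((stk x).mapIso ((homologyFunctorFactors X.Modules i).app
      ((DCoh.tensorCx.obj P).obj B)))
  exact ModuleCat.subsingleton_of_isZero hz3

end

end Groth.Agent.Lib.FMCohH3
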