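import Mathlib
import Groth.Prelude
import Groth.Agent.Lib.FMCoh3_helper3
import Groth.Agent.Lib.PerfReg1_lead
import Groth.Agent.Lib.RelPCg_helper3
import Groth.Agent.Lib.CohDev9_helper8
import Groth.Agent.Lib.PerfFlat2_lead

/-!
# Fourier–Mukai transforms with a `D^b_Coh` kernel on a regular source (helper3)

`fm_coh_cx`: `p : Z ⟶ X`, `q : Z ⟶ Y` with `X` regular locally Noetherian, `Y` Noetherian, `q` of
finite type; `K` a bounded complex on `Z` with coherent cohomology whose supports are proper over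
`Y`.  Then `M ↦ Rq_*(Lp^* M ⊗^L K)` maps `D^b_Coh(X)` to `D^b_Coh(Y)`.

`main2232`: the case `Z = X ×_S Y`.
-/

set_option autoImplicit false
set_option linter.all false
set_option maxHeartbeats 1600000
set_option backward.isDefEq.respectTransparency false
set_option backward.isDefEq.respectTransparency.types false
set_option backward.defeqAttrib.useBackward true

universe u
open CategoryTheory CategoryTheory.Limits AlgebraicGeometry Opposite MonoidalCategory

attribute [local instance] HasDerivedCategory.standard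

namespace Groth.Agent.Lib.FMCohH3

open Groth.Agent.Lib.StalkTensH3 Groth.Agent.Lib.DTorCmp Groth.Agent.Lib.LTensModExH3
  Groth.Agent.Lib.PullTensIsoH3 Groth.Agent.Lib.PerfTensH3 Groth.Agent.Lib.DCohLocLead
  Groth.Agent.Lib.LpullLocH3 Groth.Agent.Lib.LpullTensH3 Groth.Agent.Lib.RelPerfTensH3
  Groth.Agent.Lib.QcTestH3 Groth.Agent.Lib.PerfTensGH3 Groth.Agent.Lib.RelPCPropH3
  Groth.Agent.Lib.LpullPCH3 Groth.Agent.Lib.TensPCH3 DerSch DerivedCategory

noncomputable section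

variable {X Y Z : Scheme.{u}} (p : Z ⟶ X) (q : Z ⟶ Y)

theorem Lt_of_isLE {W : Scheme.{u}} (E : DCoh.D W) (b : ℤ) (h : E.IsLE b) : Lt (b + 1) E := by
  haveI := h
  exact fun i hi => DerivedCategory.isZero_of_isLE E b i (by omega)

theorem isLE_of_Lt' {W : Scheme.{u}} (E : DCoh.D W) (b : ℤ) (h : Lt (b + 1) E) : E.IsLE b := by
  rw [DerivedCategory.isLE_iff]
  exact fun i hi => h i (by omega)

/-- the Fourier–Mukai transform with a kernel in `D^b_Coh` with supports proper over the target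
preserves `D^b_Coh` when the source is regular -/
theorem fm_coh_cx [IsLocallyNoetherian X] [IsNoetherian Y] [LocallyOfFiniteType q]
    [QuasiCompact q] (hreg : ∀ x : X, IsRegularLocalRing (X.presheaf.stalk x))
    (K : CochainComplex Z.Modules ℤ) (hKcoh : DCoh.IsCohD (DCoh.toD Z K)) (kₗ kᵤ : ℤ)
    (hKge : (DCoh.toD Z K).IsGE kₗ) (hKle : (DCoh.toD Z K).IsLE kᵤ)
    (hsupp : ∀ i : ℤ, ClSub.IsProperOver q (CohB1.support (DCoh.HD (DCoh.toD Z K) i)))
    [DCoh.HasLpull p] [DCoh.HasLTensorCx K] [DCoh.HasRpush q]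
    (M : DCoh.D X) (hM : DCoh.IsCohD M) (m n : ℤ) (hMge : M.IsGE m) (hMle : M.IsLE n) :
    DCoh.IsCohD ((DCoh.Rpush q).obj ((DCoh.LTensorCx K).obj ((DCoh.Lpull p).obj M))) ∧
      ∃ m' n' : ℤ,
        ((DCoh.Rpush q).obj ((DCoh.LTensorCx K).obj ((DCoh.Lpull p).obj M))).IsGE m' ∧
        ((DCoh.Rpush q).obj ((DCoh.LTensorCx K).obj ((DCoh.Lpull p).obj M))).IsLE n' := by
  haveI : IsLocallyNoetherian Z := LocallyOfFiniteType.isLocallyNoetherian q
  haveI : CompactSpace Z := QuasiCompact.compactSpace_of_compactSpace q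
  have hMperf : DCoh.IsPerfect M := by
    haveI := hMge
    haveI := hMle
    exact main1005 X hreg M m n hM
  have hE : DCoh.IsPerfect ((DCoh.Lpull p).obj M) := isPerfect_Lpull p M hMperf
  obtain ⟨P, hP, ⟨eP⟩⟩ := exists_kflat_rep ((DCoh.Lpull p).obj M)
  have hPperf : DCoh.IsPerfect (DerivedCategory.Q.obj P) := isPerfect_of_iso eP.symm hE
  obtain ⟨K₀, qK, hK₀, hqK⟩ := exists_kflat_resolution' K
  haveI := hqK
  let eK : DerivedCategory.Q.obj K₀ ≅ DerivedCategory.Q.obj K := asIso (DerivedCategory.Q.map qK)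
  let T := (DCoh.tensorCx.obj P).obj K₀
  obtain ⟨e1⟩ := nonempty_Q_tensor_iso_right (A := P) (B := K₀) (B' := K) hP eK
  let eN : (DCoh.LTensorCx K).obj ((DCoh.Lpull p).obj M) ≅ DCoh.toD Z T :=
    (DCoh.LTensorCx K).mapIso eP.symm ≪≫ ltIsoLeft K P hP ≪≫ e1.symm
  -- bounds
  have hPlt : Lt (n + 1) (DerivedCategory.Q.obj P) :=
    (Groth.Agent.Lib.RelPCaH3.Lt_Lpull p M (n + 1) (Lt_of_isLE M n hMle)).of_iso eP.symm
  have hK₀le : (DerivedCategory.Q.obj K₀).IsLE kᵤ := isLE_of_iso' eK.symm kᵤ hKle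
  have hK₀ge : (DerivedCategory.Q.obj K₀).IsGE kₗ := isGE_of_iso' eK.symm kₗ hKge
  have hK₀lt : Lt (kᵤ + 1) (DerivedCategory.Q.obj K₀) := Lt_of_isLE _ kᵤ hK₀le
  have hTlt : Lt (n + 1 + (kᵤ + 1) - 1) (DCoh.toD Z T) :=
    Lt_tensorCx P K₀ hP hK₀ (n + 1) (kᵤ + 1) hPlt hK₀lt
  have hTle : (DCoh.toD Z T).IsLE (n + kᵤ) :=
    isLE_of_Lt' _ _ (by rw [show n + kᵤ + 1 = n + 1 + (kᵤ + 1) - 1 by ring]; exact hTlt)
  obtain ⟨a', hTge⟩ := exists_isGE_tensor_of_isPerfect P K₀ hP hK₀ hPperf kₗ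
    ((DerivedCategory.isGE_Q_obj_iff K₀ kₗ).1 hK₀ge)
  haveI := hTle
  haveI := hTge
  -- coherence
  have hPpc : ∀ t : ℤ, DCoh.IsPseudoCoherentD t (DerivedCategory.Q.obj P) :=
    fun t => isPC_of_isPerfect hPperf t
  have hK₀coh : DCoh.IsCohD (DerivedCategory.Q.obj K₀) := isCohD_of_iso eK.symm hKcoh
  have hK₀pc : ∀ t : ℤ, DCoh.IsPseudoCoherentD t (DerivedCategory.Q.obj K₀) :=
    fun t => isPC_of_coh _ kᵤ t hK₀le (fun i _ => hK₀coh i)
  have hK₀b : ∀ x : Z, ∃ (W : Z.Opens) (b : ℤ), x ∈ W ∧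
      Lt (b + 1) ((DD W.ι).obj (DerivedCategory.Q.obj K₀)) :=
    fun x => ⟨⊤, kᵤ, trivial, hK₀lt.restrict _⟩
  have hpc : ∀ t : ℤ, DCoh.IsPseudoCoherentD t (DCoh.toD Z T) :=
    isPC_tensorCx_loc P K₀ hP hK₀ hPpc hK₀pc hK₀b
  have hcoh : DCoh.IsCohD (DCoh.toD Z T) := fun i => isCoh_HD_of_isPC _ hpc i
  -- supports
  have hSig : ClSub.IsProperOver q (⋃ j : ℤ, CohB1.support (DCoh.HD (DCoh.toD Z K₀) j)) := by
    have h1 := ProperOver.isProperOver_iUnion q (↥(Finset.Icc kₗ kᵤ))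
      (fun j => CohB1.support (DCoh.HD (DCoh.toD Z K) j.1)) (fun j => hsupp j.1)
    have h2 : (⋃ j : ℤ, CohB1.support (DCoh.HD (DCoh.toD Z K₀) j)) =
        ⋃ j : ↥(Finset.Icc kₗ kᵤ), CohB1.support (DCoh.HD (DCoh.toD Z K) j.1) := by
      ext x
      simp only [Set.mem_iUnion]
      constructor
      · rintro ⟨j, hj⟩
        have hj' : x ∈ CohB1.support (DCoh.HD (DCoh.toD Z K) j) := by
          rw [← CohDevH8.support_eq_of_iso ((homologyFunctor Z.Modules j).mapIso eK)]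
          exact hj
        have hmem : j ∈ Finset.Icc kₗ kᵤ := by
          rw [Finset.mem_Icc]
          by_contra hne
          have hz : IsZero (DCoh.HD (DCoh.toD Z K) j) := by
            by_cases hlt : j < kₗ
            · haveI := hKge
              exact DerivedCategory.isZero_of_isGE (DCoh.toD Z K) kₗ j hlt
            · haveI := hKle
              exact DerivedCategory.isZero_of_isLE (DCoh.toD Z K) kᵤ j (by omega)
          apply hj'
          exact ModuleCat.subsingleton_of_isZero ((stk x).map_isZero hz)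
        exact ⟨⟨j, hmem⟩, hj'⟩
      · rintro ⟨j, hj⟩
        refine ⟨j.1, ?_⟩
        rw [CohDevH8.support_eq_of_iso ((homologyFunctor Z.Modules j.1).mapIso eK)]
        exact hj
    rw [h2]
    exact h1
  have hsuppT : ∀ i : ℤ, ClSub.IsProperOver q (CohB1.support (DCoh.HD (DCoh.toD Z T) i)) := by
    intro i
    haveI := (hcoh i).2
    exact ProperOver.isProperOver_of_subset q hSig
      (SuppFT.isClosed_support _) (support_HD_tensor_subset P K₀ hP i)
  obtain ⟨h1, h2, c, h3⟩ :=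
    Groth.Agent.Lib.RpushCohDH3.main1001 q (DCoh.toD Z T) a' (n + kᵤ) hcoh hsuppT
  let e := (DCoh.Rpush q).mapIso eN
  exact ⟨isCohD_of_iso e.symm h1, a', c, isGE_of_iso' e.symm a' h2, isLE_of_iso' e.symm c h3⟩

/-- **S2232** -/
theorem main2232 {S X Y : Scheme.{u}} [IsNoetherian S]
    (a : X ⟶ S) (b : Y ⟶ S) [LocallyOfFiniteType a] [QuasiCompact a] [LocallyOfFiniteType b]
    [QuasiCompact b] (hreg : Models.IsRegularScheme X)
    (K : CochainComplex (Limits.pullback a b).Modules ℤ)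
    (hKcoh : DCoh.IsCohD (DCoh.toD (Limits.pullback a b) K)) (kₗ kᵤ : ℤ)
    (hKge : DerivedCategory.IsGE (DCoh.toD (Limits.pullback a b) K) kₗ)
    (hKle : DerivedCategory.IsLE (DCoh.toD (Limits.pullback a b) K) kᵤ)
    (hsupp : ∀ i : ℤ, ClSub.IsProperOver (Limits.pullback.snd a b)
      (CohB1.support (DCoh.HD (DCoh.toD (Limits.pullback a b) K) i)))
    [DCoh.HasLpull (Limits.pullback.fst a b)] [DCoh.HasLTensorCx K]
    [DCoh.HasRpush (Limits.pullback.snd a b)]
    (M : DCoh.D X) (hM : DCoh.IsCohD M) (m n : ℤ) (hMge : DerivedCategory.IsGE M m)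
    (hMle : DerivedCategory.IsLE M n) :
    DCoh.IsCohD ((DCoh.Rpush (Limits.pullback.snd a b)).obj
        ((DCoh.LTensorCx K).obj ((DCoh.Lpull (Limits.pullback.fst a b)).obj M))) ∧
      ∃ m' n' : ℤ, DerivedCategory.IsGE ((DCoh.Rpush (Limits.pullback.snd a b)).obj
        ((DCoh.LTensorCx K).obj ((DCoh.Lpull (Limits.pullback.fst a b)).obj M))) m' ∧
        DerivedCategory.IsLE ((DCoh.Rpush (Limits.pullback.snd a b)).obj
        ((DCoh.LTensorCx K).obj ((DCoh.Lpull (Limits.pullback.fst a b)).obj M))) n' := by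
  haveI : IsLocallyNoetherian X := LocallyOfFiniteType.isLocallyNoetherian a
  haveI : IsLocallyNoetherian Y := LocallyOfFiniteType.isLocallyNoetherian b
  haveI : CompactSpace Y := QuasiCompact.compactSpace_of_compactSpace b
  haveI : IsNoetherian Y := {}
  haveI : LocallyOfFiniteType (Limits.pullback.snd a b) := inferInstance
  haveI : QuasiCompact (Limits.pullback.snd a b) := inferInstance
  exact fm_coh_cx (Limits.pullback.fst a b) (Limits.pullback.snd a b) hreg K hKcoh kₗ kᵤ hKge hKle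
    hsupp M hM m n hMge hMle

end

end Groth.Agent.Lib.FMCohH3
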