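import Mathlib
import Groth.Prelude
import Groth.Agent.Lib.DerAdj1_lead
import Groth.Agent.Lib.StalkSky2_lead
import Groth.Agent.Lib.KInjGen8_helper7
import Groth.Agent.Lib.OrthDeriv_helper9
import Groth.Agent.Lib.LocTorCoh_helper3

/-!
# `RΓ(X, Rp_* K) ≅ RΓ(Z, K)` for a flat morphism `p : Z ⟶ X` (helper3)

For flat `p` the functor `p^*` is exact, hence `K(p_*)` preserves K-injective (right orthogonal)
objects; both sides are computed on a K-injective representative.
-/

set_option autoImplicit false
set_option linter.all false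
set_option maxHeartbeats 1600000
set_option backward.isDefEq.respectTransparency false
set_option backward.isDefEq.respectTransparency.types false
set_option backward.defeqAttrib.useBackward true

universe u
open CategoryTheory CategoryTheory.Limits AlgebraicGeometry Opposite

attribute [local instance] HasDerivedCategory.standard

namespace Groth.Agent.Lib.LerayFlatH3

open Groth.Agent.Lib.MVPushL

noncomputable section

variable {Z X : Scheme.{u}} (p : Z ⟶ X)

/-- `K(p^*)` preserves acyclic objects for flat `p` -/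
lemma acyclic_pull [Flat p] (A : HomotopyCategory X.Modules (ComplexShape.up ℤ))
    (hA : HomotopyCategory.subcategoryAcyclic X.Modules A) :
    HomotopyCategory.subcategoryAcyclic Z.Modules
      (((Scheme.Modules.pullback p).mapHomotopyCategory (ComplexShape.up ℤ)).obj A) := by
  obtain ⟨A₀, rfl⟩ := HomotopyCategory.quotient_obj_surjective A
  rw [HomotopyCategory.quotient_obj_mem_subcategoryAcyclic_iff_exactAt] at hA
  show HomotopyCategory.subcategoryAcyclic Z.Modules ((HomotopyCategory.quotient _ _).obj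
    (((Scheme.Modules.pullback p).mapHomologicalComplex (ComplexShape.up ℤ)).obj A₀))
  rw [HomotopyCategory.quotient_obj_mem_subcategoryAcyclic_iff_exactAt]
  intro n
  rw [HomologicalComplex.exactAt_iff_isZero_homology]
  obtain ⟨e⟩ := Groth.Agent.Lib.LocTorCohH3.nonempty_homology_pullCx_iso p A₀ n
  refine IsZero.of_iso ?_ e
  exact (Scheme.Modules.pullback p).map_isZero
    ((HomologicalComplex.exactAt_iff_isZero_homology _ _).1 (hA n))

/-- `K(p_*)` preserves right orthogonal objects for flat `p` -/
lemma rightOrthogonal_push [Flat p] (I : HomotopyCategory Z.Modules (ComplexShape.up ℤ))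
    (hI : (HomotopyCategory.subcategoryAcyclic Z.Modules).rightOrthogonal I) :
    (HomotopyCategory.subcategoryAcyclic X.Modules).rightOrthogonal
      (((Scheme.Modules.pushforward p).mapHomotopyCategory (ComplexShape.up ℤ)).obj I) := by
  intro A f hA
  have h := hI (((Groth.Agent.Lib.DerAdjL.adjKh p).homEquiv A I).symm f) (acyclic_pull p A hA)
  have h2 := congrArg ((Groth.Agent.Lib.DerAdjL.adjKh p).homEquiv A I) h
  rw [Equiv.apply_symm_apply] at h2
  rw [h2, Adjunction.homEquiv_unit, Functor.map_zero, comp_zero]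

/-- `Γ(X, p_* -) = Γ(Z, -)` -/
def gammaPushIso : Scheme.Modules.pushforward p ⋙ DCoh.gammaAb X ≅ DCoh.gammaAb Z :=
  NatIso.ofComponents (fun M => Iso.refl _) (fun {M N} φ => by
    rw [Iso.refl_hom, Iso.refl_hom, Category.comp_id, Category.id_comp]
    rfl)

/-- the unit of `RΓ` is an isomorphism at right orthogonal objects -/
lemma isIso_unit_gamma (T : Scheme.{u}) [DCoh.HasRΓ T]
    (K : HomotopyCategory T.Modules (ComplexShape.up ℤ))
    (hK : (HomotopyCategory.subcategoryAcyclic T.Modules).rightOrthogonal K) :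
    IsIso (((DCoh.gammaKh T).totalRightDerivedUnit DerivedCategory.Qh
      (HomotopyCategory.quasiIso T.Modules (ComplexShape.up ℤ))).app K) := by
  haveI := grothendieck_modules T
  exact (OrthDeriv.main (P := HomotopyCategory.subcategoryAcyclic T.Modules)
    (HomotopyCategory.quasiIso T.Modules (ComplexShape.up ℤ))
    (HomotopyCategory.quasiIso_eq_trW_subcategoryAcyclic T.Modules)
    Groth.Agent.Lib.KInjGen8.hP DerivedCategory.Qh (DCoh.gammaKh T)).2 K hK

/-- **Leray for a flat morphism**: `RΓ(X, Rp_* K) ≅ RΓ(Z, K)` -/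
theorem nonempty_RΓ_Rpush_iso [Flat p] [DCoh.HasRpush p] [DCoh.HasRΓ X] [DCoh.HasRΓ Z]
    (K : DCoh.D Z) :
    Nonempty ((DCoh.RΓ X).obj ((DCoh.Rpush p).obj K) ≅ (DCoh.RΓ Z).obj K) := by
  haveI := grothendieck_modules Z
  haveI := grothendieck_modules X
  obtain ⟨I, f, hf, hI⟩ := Groth.Agent.Lib.KInjGen8.hP (C := Z.Modules)
    ((DerivedCategory.Qh (C := Z.Modules)).objPreimage K)
  haveI : IsIso ((DerivedCategory.Qh (C := Z.Modules)).map f) :=
    Localization.inverts DerivedCategory.Qh
      (HomotopyCategory.quasiIso Z.Modules (ComplexShape.up ℤ)) f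
      (by rw [HomotopyCategory.quasiIso_eq_trW_subcategoryAcyclic]; exact hf)
  let eK : DerivedCategory.Qh.obj I ≅ K :=
    (asIso ((DerivedCategory.Qh (C := Z.Modules)).map f)).symm ≪≫
      (DerivedCategory.Qh (C := Z.Modules)).objObjPreimageIso K
  haveI u1 := Groth.Agent.Lib.DerAdjL.isIso_unit_of_rightOrthogonal p I hI
  haveI u2 := isIso_unit_gamma Z I hI
  haveI u3 := isIso_unit_gamma X _ (rightOrthogonal_push p I hI)
  let e1 : (DCoh.Rpush p).obj K ≅ DerivedCategory.Qh.obj
      (((Scheme.Modules.pushforward p).mapHomotopyCategory (ComplexShape.up ℤ)).obj I) :=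
    (DCoh.Rpush p).mapIso eK.symm ≪≫ (asIso (((DCoh.pushKh p).totalRightDerivedUnit
      DerivedCategory.Qh (HomotopyCategory.quasiIso Z.Modules (ComplexShape.up ℤ))).app I)).symm
  let e2 : (DCoh.RΓ X).obj (DerivedCategory.Qh.obj
      (((Scheme.Modules.pushforward p).mapHomotopyCategory (ComplexShape.up ℤ)).obj I)) ≅
      (DCoh.gammaKh X).obj
        (((Scheme.Modules.pushforward p).mapHomotopyCategory (ComplexShape.up ℤ)).obj I) :=
    (asIso (((DCoh.gammaKh X).totalRightDerivedUnit DerivedCategory.Qh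
      (HomotopyCategory.quasiIso X.Modules (ComplexShape.up ℤ))).app _)).symm
  let e3 : (DCoh.gammaKh X).obj
        (((Scheme.Modules.pushforward p).mapHomotopyCategory (ComplexShape.up ℤ)).obj I) ≅
      (DCoh.gammaKh Z).obj I :=
    DerivedCategory.Qh.mapIso
      ((Functor.mapHomotopyCategoryCompIso (gammaPushIso p) (ComplexShape.up ℤ)).app I)
  let e4 : (DCoh.gammaKh Z).obj I ≅ (DCoh.RΓ Z).obj K :=
    asIso (((DCoh.gammaKh Z).totalRightDerivedUnit DerivedCategory.Qh
      (HomotopyCategory.quasiIso Z.Modules (ComplexShape.up ℤ))).app I) ≪≫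
      (DCoh.RΓ Z).mapIso eK
  exact ⟨(DCoh.RΓ X).mapIso e1 ≪≫ e2 ≪≫ e3 ≪≫ e4⟩

end

end Groth.Agent.Lib.LerayFlatH3
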