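import Mathlib
import Groth.Prelude
import Groth.Agent.Lib.LTensEx_helper3
import Groth.Agent.Lib.LerayFlat_helper3
import Groth.Agent.Lib.PjCx7_helper3
import Groth.Agent.Lib.PjCx14_helper3
import Groth.Agent.Lib.LpullTens_helper3
import Groth.Agent.Lib.DualSch2_helper3
import Groth.Agent.Lib.TensorAssoc_helper2
import Groth.Agent.Lib.DTorCmp3_helper2

/-!
# The exchange formula for Fourier–Mukai transforms of perfect complexes (helper3; S16375)

`RΓ(X, Ψ_P(F) ⊗^L E) ≅ RΓ(Y, Φ_P(E) ⊗^L F)` for perfect `E`, `F` and flat projections.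
-/

set_option autoImplicit false
set_option linter.all false
set_option maxHeartbeats 1600000
set_option backward.isDefEq.respectTransparency false
set_option backward.isDefEq.respectTransparency.types false
set_option backward.defeqAttrib.useBackward true

universe u
open CategoryTheory CategoryTheory.Limits AlgebraicGeometry Opposite

attribute [local instance] HasDerivedCategory.standard

namespace Groth.Agent.Lib.FMSwapH3

open Groth.Agent.Lib.LpullLocH3 Groth.Agent.Lib.LpullTensH3 Groth.Agent.Lib.StalkTensH3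
  Groth.Agent.Lib.PjCxH3

noncomputable section

theorem isPerfect_of_iso {X : Scheme.{u}} {K K' : DCoh.D X} (e : K ≅ K') (h : DCoh.IsPerfect K) :
    DCoh.IsPerfect K' := by
  intro x
  obtain ⟨V, hxV, hV⟩ := h x
  exact ⟨V, hxV, fun F ⟨eF⟩ => hV F ⟨eF ≪≫ e.symm⟩⟩

section Half

variable {Z X : Scheme.{u}} (p : Z ⟶ X) [Flat p] [DCoh.HasRpush p] [DCoh.HasRΓ X] [DCoh.HasRΓ Z]

/-- `RΓ(X, Rp_*(Q N) ⊗^L E) ≅ RΓ(Z, Q (N ⊗ p^* E'))` for `E' ⟶ E` a K-flat resolution of a perfect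
complex -/
theorem half (E : CochainComplex X.Modules ℤ) [DCoh.HasLTensorCx E]
    (hE : DCoh.IsPerfect (DCoh.toD X E)) (E' : CochainComplex X.Modules ℤ) (hE' : DCoh.IsKFlat E')
    (e : DerivedCategory.Q.obj E ≅ DerivedCategory.Q.obj E') (M : DCoh.D Z)
    (N : CochainComplex Z.Modules ℤ) (eM : M ≅ DerivedCategory.Q.obj N) :
    Nonempty ((DCoh.RΓ X).obj ((DCoh.LTensorCx E).obj ((DCoh.Rpush p).obj M)) ≅
      (DCoh.RΓ Z).obj (DerivedCategory.Q.obj ((DCoh.tensorCx.obj N).obj ((pullCx p).obj E')))) := by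
  haveI : DCoh.HasLTensorCx E' := Groth.Agent.Lib.LTensExH3.hasLTensorCx E'
  haveI : DCoh.HasLTensorCx ((pullCx p).obj E') := Groth.Agent.Lib.LTensExH3.hasLTensorCx _
  obtain ⟨t⟩ := Groth.Agent.Lib.DualSchH3.nonempty_LTensorCx_iso_of_Q_iso E E' e
  have hperf : DCoh.IsPerfect (DerivedCategory.Q.obj E') := isPerfect_of_iso e hE
  obtain ⟨pf⟩ := main961 p E' hE' hperf (DerivedCategory.Q.obj N)
  have hpE' := isKFlat_pullback p E' hE'
  obtain ⟨l⟩ := Groth.Agent.Lib.LerayFlatH3.nonempty_RΓ_Rpush_iso p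
    (DerivedCategory.Q.obj ((DCoh.tensorCx.obj N).obj ((pullCx p).obj E')))
  exact ⟨(DCoh.RΓ X).mapIso (t.app _ ≪≫ (DCoh.LTensorCx E').mapIso ((DCoh.Rpush p).mapIso eM) ≪≫
    pf ≪≫ (DCoh.Rpush p).mapIso (ltIsoRight ((pullCx p).obj E') N hpE')) ≪≫ l⟩

end Half

section Swap

variable {T : Scheme.{u}}

/-- `(A ⊗ P) ⊗ B ≅ (B ⊗ P) ⊗ A` -/
def swapIso (A P B : CochainComplex T.Modules ℤ) :
    (DCoh.tensorCx.obj ((DCoh.tensorCx.obj A).obj P)).obj B ≅
      (DCoh.tensorCx.obj ((DCoh.tensorCx.obj B).obj P)).obj A :=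
  Groth.Agent.Lib.TensorAssoc.tensorCxAssoc T.sheaf A P B ≪≫
    sym A ((DCoh.tensorCx.obj P).obj B) ≪≫ (DCoh.tensorCx.mapIso (sym P B)).app A

end Swap

section Main

variable {S X Y : Scheme.{u}} (a : X ⟶ S) (b : Y ⟶ S) [Flat a] [Flat b]

/-- **the exchange formula** -/
theorem main16375 (P : CochainComplex (pullback a b).Modules ℤ)
    [DCoh.HasLpull (pullback.fst a b)] [DCoh.HasLpull (pullback.snd a b)] [DCoh.HasLTensorCx P]
    [DCoh.HasRpush (pullback.fst a b)] [DCoh.HasRpush (pullback.snd a b)]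
    [DCoh.HasRΓ X] [DCoh.HasRΓ Y]
    (E : CochainComplex X.Modules ℤ) (hE : DCoh.IsPerfect (DCoh.toD X E)) [DCoh.HasLTensorCx E]
    (F : CochainComplex Y.Modules ℤ) (hF : DCoh.IsPerfect (DCoh.toD Y F)) [DCoh.HasLTensorCx F] :
    Nonempty ((DCoh.RΓ X).obj ((DCoh.LTensorCx E).obj
        ((DCoh.Lpull (pullback.snd a b) ⋙ DCoh.LTensorCx P ⋙
          DCoh.Rpush (pullback.fst a b)).obj (DCoh.toD Y F))) ≅
      (DCoh.RΓ Y).obj ((DCoh.LTensorCx F).obj ((FMK.phi a b P).obj (DCoh.toD X E)))) := by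
  haveI : DCoh.HasRΓ (pullback a b) := by
    haveI := Groth.Agent.Lib.MVPushL.grothendieck_modules (pullback a b)
    exact (OrthDeriv.main (P := HomotopyCategory.subcategoryAcyclic (pullback a b).Modules)
      (HomotopyCategory.quasiIso (pullback a b).Modules (ComplexShape.up ℤ))
      (HomotopyCategory.quasiIso_eq_trW_subcategoryAcyclic _)
      Groth.Agent.Lib.KInjGen8.hP DerivedCategory.Qh (DCoh.gammaKh (pullback a b))).1
  obtain ⟨E', πE, hE', hπE⟩ := Groth.Agent.Lib.DTorCmp.exists_kflat_resolution' E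
  obtain ⟨F', πF, hF', hπF⟩ := Groth.Agent.Lib.DTorCmp.exists_kflat_resolution' F
  haveI := hπE
  haveI := hπF
  let eE : DerivedCategory.Q.obj E ≅ DerivedCategory.Q.obj E' :=
    (asIso (DerivedCategory.Q.map πE)).symm
  let eF : DerivedCategory.Q.obj F ≅ DerivedCategory.Q.obj F' :=
    (asIso (DerivedCategory.Q.map πF)).symm
  have hqF' := isKFlat_pullback (pullback.snd a b) F' hF'
  have hpE' := isKFlat_pullback (pullback.fst a b) E' hE'
  -- `Ψ (Q F) ≅ R pr_* Q (q^* F' ⊗ P)`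
  let m1 : (DCoh.LTensorCx P).obj ((DCoh.Lpull (pullback.snd a b)).obj (DCoh.toD Y F)) ≅
      DerivedCategory.Q.obj ((DCoh.tensorCx.obj ((pullCx (pullback.snd a b)).obj F')).obj P) :=
    (DCoh.LTensorCx P).mapIso ((DCoh.Lpull (pullback.snd a b)).mapIso eF ≪≫
      LpullQIso (pullback.snd a b) F' hF') ≪≫ ltIsoLeft P _ hqF'
  let m2 : (DCoh.LTensorCx P).obj ((DCoh.Lpull (pullback.fst a b)).obj (DCoh.toD X E)) ≅
      DerivedCategory.Q.obj ((DCoh.tensorCx.obj ((pullCx (pullback.fst a b)).obj E')).obj P) :=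
    (DCoh.LTensorCx P).mapIso ((DCoh.Lpull (pullback.fst a b)).mapIso eE ≪≫
      LpullQIso (pullback.fst a b) E' hE') ≪≫ ltIsoLeft P _ hpE'
  obtain ⟨h1⟩ := half (pullback.fst a b) E hE E' hE' eE _ _ m1
  obtain ⟨h2⟩ := half (pullback.snd a b) F hF F' hF' eF _ _ m2
  exact ⟨h1 ≪≫ (DCoh.RΓ (pullback a b)).mapIso (DerivedCategory.Q.mapIso (swapIso _ P _)) ≪≫
    h2.symm⟩

end Main

end

end Groth.Agent.Lib.FMSwapH3
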