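import Mathlib
import Groth.Prelude
import Groth.Agent.Lib.SecDer_helper2
import Groth.Agent.Lib.AffVanish2_helper9
import Groth.Agent.Lib.FAcyc_helper9
import Groth.Agent.Lib.InvTensP2_helper5
import Groth.Agent.Lib.TensInv2_helper9

/-!
# Preliminaries for the WIT criteria of Fourier–Mukai transforms (helper3)

* `acyc_gammaAb_of_HH`: an `O_Y`-module whose Zariski cohomology groups `Coh.HH Y N p`, `p > 0`,
  vanish is acyclic for the global sections functor on `Y.Modules`.
* `isZero_of_isGloballyGenerated`: a globally generated module without global sections is zero.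
* `isZero_of_isZero_tensorMod`: tensoring with an invertible module reflects zero objects.
-/

set_option autoImplicit false
set_option linter.all false
set_option maxHeartbeats 1600000
set_option backward.isDefEq.respectTransparency false
set_option backward.isDefEq.respectTransparency.types false
set_option backward.defeqAttrib.useBackward true

universe u
open CategoryTheory CategoryTheory.Limits AlgebraicGeometry Opposite TopologicalSpace

namespace Groth.Agent.Lib.FMWitH3

open Groth.Agent.Lib.FreeSheaf Groth.Agent.Lib.FlasqueAcyclic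

section Top

variable {Y : TopCat.{u}}

/-- the free abelian sheaf on `⊤` is a retract of the constant sheaf `ℤ` -/
theorem fs_top_retract :
    ∃ (α : AffVanish.fs (⊤ : Opens Y) ⟶
        (constantSheaf (Opens.grothendieckTopology Y) AddCommGrpCat.{u}).obj
          (AddCommGrpCat.of (ULift ℤ)))
      (β : (constantSheaf (Opens.grothendieckTopology Y) AddCommGrpCat.{u}).obj
        (AddCommGrpCat.of (ULift ℤ)) ⟶ AffVanish.fs (⊤ : Opens Y)), α ≫ β = 𝟙 _ := by
  let K : TopCat.Sheaf AddCommGrpCat.{u} Y :=
    (constantSheaf (Opens.grothendieckTopology Y) AddCommGrpCat.{u}).obj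
      (AddCommGrpCat.of (ULift ℤ))
  refine ⟨(freeSheafHomEquiv _ ⊤ K).symm (constEquiv K (𝟙 K)),
    (constEquiv (AffVanish.fs (⊤ : Opens Y))).symm
      (freeSheafHomEquiv _ ⊤ (AffVanish.fs (⊤ : Opens Y)) (𝟙 _)), ?_⟩
  apply (freeSheafHomEquiv _ ⊤ (AffVanish.fs (⊤ : Opens Y))).injective
  rw [freeSheafHomEquiv_comp, Equiv.apply_symm_apply, ← constEquiv_comp, Category.id_comp,
    Equiv.apply_symm_apply]

end Top

variable {Y : Scheme.{u}}

/-- vanishing of Zariski cohomology implies acyclicity for the global sections functor on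
modules -/
theorem acyc_gammaAb_of_HH [HasInjectiveResolutions Y.Modules] (N : Y.Modules)
    (h : ∀ p : ℕ, 0 < p → Subsingleton (Coh.HH Y N p)) :
    Groth.Agent.Lib.FAcyc.acyc (DCoh.gammaAb Y) N := by
  intro q hq
  obtain ⟨e⟩ := Groth.Agent.Lib.SecDer.nonempty_rightDerived_iso (X := Y) ⊤ q
  change IsZero (((Groth.Agent.Lib.SecCx.Γf (⊤ : Y.Opens)).rightDerived q).obj N)
  refine IsZero.of_iso ?_ (e.app N)
  refine IsZero.of_iso ?_ (Groth.Agent.Lib.SectionsDer.sectionsRightDerivedIso
    (Opens.grothendieckTopology Y) ⊤ q ((SheafOfModules.toSheaf Y.ringCatSheaf).obj N))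
  obtain ⟨α, β, hαβ⟩ := fs_top_retract (Y := Y.toTopCat)
  haveI := h q hq
  have hv : ∀ ξ : Abelian.Ext (freeSheaf (Opens.grothendieckTopology Y) (⊤ : Y.Opens))
      (Coh.toAb N) q, ξ = 0 := fun ξ =>
    AffVanish.ext_eq_zero_of_retract α β hαβ
      (fun y => Subsingleton.elim (α := Coh.HH Y N q) y 0) ξ
  haveI : Subsingleton (Sheaf.H' ((SheafOfModules.toSheaf Y.ringCatSheaf).obj N) q
      (⊤ : Y.Opens)) := ⟨fun a b => (hv a).trans (hv b).symm⟩
  exact AddCommGrpCat.isZero_of_subsingleton _

/-- a globally generated module without nonzero global sections is zero -/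
theorem isZero_of_isGloballyGenerated (M : Y.Modules) (hgg : Curv2.IsGloballyGenerated M)
    (h0 : IsZero ((DCoh.gammaAb Y).obj M)) : IsZero M := by
  obtain ⟨ι, p, hp⟩ := hgg
  haveI := hp
  have hsub : Subsingleton (M.val.obj (op (⊤ : Y.Opens))) :=
    AddCommGrpCat.subsingleton_of_isZero h0
  have hsec : Subsingleton (SheafOfModules.sections (R := Y.ringCatSheaf) M) := by
    refine ⟨fun s t => ?_⟩
    apply PresheafOfModules.sections_ext
    intro U
    have hs := PresheafOfModules.sections_property s (homOfLE (le_top : U.unop ≤ ⊤)).op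
    have ht := PresheafOfModules.sections_property t (homOfLE (le_top : U.unop ≤ ⊤)).op
    have e0 : s.1 (op ⊤) = t.1 (op ⊤) := @Subsingleton.elim _ hsub _ _
    rw [← hs, ← ht, e0]
  have hp0 : p = 0 :=
    (SheafOfModules.freeHomEquiv (R := Y.ringCatSheaf) M).injective (Subsingleton.elim _ _)
  exact IsZero.of_epi_eq_zero p hp0

/-- tensoring with an invertible module reflects zero objects -/
theorem isZero_of_isZero_tensorMod (M L' : Y.Modules) (hL' : PicF.IsInvertible L')
    (h : IsZero (CohB1.tensorMod M L')) : IsZero M := by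
  obtain ⟨K', -, e⟩ := Groth.Agent.InvTensP.exists_inverse L' hL'
  haveI : (Groth.Agent.TensInv.tR L').IsEquivalence := Groth.Agent.TensInv.isEquivalence_tR e
  exact IsZero.of_full_of_faithful_of_isZero (Groth.Agent.TensInv.tR L') M h

/-- tensoring with an invertible module is exact -/
theorem exact_tR (L' : Y.Modules) (hL' : PicF.IsInvertible L') :
    PreservesFiniteLimits ((DCoh.tensorBi (X := Y)).flip.obj L') ∧
      PreservesFiniteColimits ((DCoh.tensorBi (X := Y)).flip.obj L') := by
  obtain ⟨K', -, e⟩ := Groth.Agent.InvTensP.exists_inverse L' hL'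
  haveI : (Groth.Agent.TensInv.tR L').IsEquivalence := Groth.Agent.TensInv.isEquivalence_tR e
  exact ⟨inferInstanceAs (PreservesFiniteLimits (Groth.Agent.TensInv.tR L')),
    inferInstanceAs (PreservesFiniteColimits (Groth.Agent.TensInv.tR L'))⟩

end Groth.Agent.Lib.FMWitH3
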