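import Mathlib
import Groth.Prelude
import Groth.Agent.Lib.FMCoh4_helper3
import Groth.Agent.Lib.PerfMorPush_helper3
import Groth.Agent.Lib.FMWit1_helper3
import Groth.Agent.Lib.RUnitCx_helper3
import Groth.Agent.Lib.PerfLoc2_lead
import Groth.Agent.Lib.TorApprox8_helper3

/-!
# Fourier–Mukai transforms of perfect complexes with perfect kernels are in `D^b_Coh` (helper3)

* `exists_isGE_of_isPerfect`: a perfect object on a quasi-compact scheme is bounded below.
* `fm_coh_perf`: the variant of `FMCohH3.fm_coh_cx` for a perfect argument (no regularity).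
* `nonempty_HD_tens_iso`: `H^j(G ⊗^L L'[0]) ≅ H^j(G) ⊗ L'` for an invertible module `L'`.
-/

set_option autoImplicit false
set_option linter.all false
set_option maxHeartbeats 1600000
set_option backward.isDefEq.respectTransparency false
set_option backward.isDefEq.respectTransparency.types false
set_option backward.defeqAttrib.useBackward true

universe u
open CategoryTheory CategoryTheory.Limits AlgebraicGeometry Opposite MonoidalCategory

attribute [local instance] HasDerivedCategory.standard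

namespace Groth.Agent.Lib.FMWitH3

open Groth.Agent.Lib.StalkTensH3 Groth.Agent.Lib.DTorCmp Groth.Agent.Lib.LTensModExH3
  Groth.Agent.Lib.PullTensIsoH3 Groth.Agent.Lib.PerfTensH3 Groth.Agent.Lib.DCohLocLead
  Groth.Agent.Lib.LpullLocH3 Groth.Agent.Lib.LpullTensH3 Groth.Agent.Lib.RelPerfTensH3
  Groth.Agent.Lib.QcTestH3 Groth.Agent.Lib.PerfTensGH3 Groth.Agent.Lib.RelPCPropH3
  Groth.Agent.Lib.LpullPCH3 Groth.Agent.Lib.TensPCH3 Groth.Agent.Lib.FMCohH3
  Groth.Agent.Lib.TorPushH3 Groth.Agent.Lib.FibProdTorH3 DerSch DerivedCategory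

noncomputable section

section Bounds

variable {X : Scheme.{u}}

/-- a perfect object on a quasi-compact scheme is bounded below -/
theorem exists_isGE_of_isPerfect [CompactSpace X] (E : DCoh.D X) (hE : DCoh.IsPerfect E) :
    ∃ a : ℤ, E.IsGE a := by
  let F := Q.objPreimage E
  let eF : DCoh.toD X F ≅ E := Q.objObjPreimageIso E
  have htd := ((main914 E).1 hE).2
  have hloc : LocFiniteTorAmplitude (𝟙 X) F := by
    intro x
    obtain ⟨V, a, b, hxV, hV⟩ := htd x
    exact ⟨V, a, b, hxV, fun x' hx' =>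
      Groth.Agent.Lib.TorSmoothH3.stalkwise_of_flatAmp_restrict F V a b (hV F ⟨eF⟩) x' hx'⟩
  obtain ⟨a, b, hab⟩ := exists_uniform_torAmp (𝟙 X) F hloc Set.univ isCompact_univ
  have htor : HasTorAmplitude (𝟙 X) a b F := fun x => hab x trivial
  refine ⟨a, ?_⟩
  have h1 : (DCoh.toD X F).IsGE a := (DerivedCategory.isGE_iff _ a).2
    (fun i hi => isZero_HD_of_hasTorAmplitude (𝟙 X) F a b htor i (Or.inl hi))
  exact isGE_of_iso' eF a h1

/-- a perfect object on a Noetherian scheme is in `D^b_Coh` -/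
theorem bounded_coh_of_isPerfect [IsLocallyNoetherian X] [CompactSpace X] (E : DCoh.D X)
    (hE : DCoh.IsPerfect E) : DCoh.IsCohD E ∧ ∃ a b : ℤ, E.IsGE a ∧ E.IsLE b := by
  have hpc : ∀ m : ℤ, DCoh.IsPseudoCoherentD m E := fun m => isPC_of_isPerfect hE m
  obtain ⟨a, ha⟩ := exists_isGE_of_isPerfect E hE
  obtain ⟨b, hb⟩ := Groth.Agent.Lib.PerfMorPushH3.exists_isLE_of_isPerfect E hE
  exact ⟨fun i => isCoh_HD_of_isPC E hpc i, a, b, ha, hb⟩

end Bounds

section FM

variable {X Y Z : Scheme.{u}} (p : Z ⟶ X) (q : Z ⟶ Y)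

/-- the Fourier–Mukai transform with a kernel in `D^b_Coh` with supports proper over the target
sends perfect bounded objects to `D^b_Coh` -/
theorem fm_coh_perf [IsNoetherian Y] [LocallyOfFiniteType q]
    [QuasiCompact q]
    (K : CochainComplex Z.Modules ℤ) (hKcoh : DCoh.IsCohD (DCoh.toD Z K)) (kₗ kᵤ : ℤ)
    (hKge : (DCoh.toD Z K).IsGE kₗ) (hKle : (DCoh.toD Z K).IsLE kᵤ)
    (hsupp : ∀ i : ℤ, ClSub.IsProperOver q (CohB1.support (DCoh.HD (DCoh.toD Z K) i)))
    [DCoh.HasLpull p] [DCoh.HasLTensorCx K] [DCoh.HasRpush q]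
    (M : DCoh.D X) (hMperf : DCoh.IsPerfect M) (n : ℤ) (hMle : M.IsLE n) :
    DCoh.IsCohD ((DCoh.Rpush q).obj ((DCoh.LTensorCx K).obj ((DCoh.Lpull p).obj M))) ∧
      ∃ m' n' : ℤ,
        ((DCoh.Rpush q).obj ((DCoh.LTensorCx K).obj ((DCoh.Lpull p).obj M))).IsGE m' ∧
        ((DCoh.Rpush q).obj ((DCoh.LTensorCx K).obj ((DCoh.Lpull p).obj M))).IsLE n' := by
  haveI : IsLocallyNoetherian Z := LocallyOfFiniteType.isLocallyNoetherian q
  haveI : CompactSpace Z := QuasiCompact.compactSpace_of_compactSpace q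
  have hE : DCoh.IsPerfect ((DCoh.Lpull p).obj M) := isPerfect_Lpull p M hMperf
  obtain ⟨P, hP, ⟨eP⟩⟩ := exists_kflat_rep ((DCoh.Lpull p).obj M)
  have hPperf : DCoh.IsPerfect (DerivedCategory.Q.obj P) := isPerfect_of_iso eP.symm hE
  obtain ⟨K₀, qK, hK₀, hqK⟩ := exists_kflat_resolution' K
  haveI := hqK
  let eK : DerivedCategory.Q.obj K₀ ≅ DerivedCategory.Q.obj K := asIso (DerivedCategory.Q.map qK)
  let T := (DCoh.tensorCx.obj P).obj K₀
  obtain ⟨e1⟩ := nonempty_Q_tensor_iso_right (A := P) (B := K₀) (B' := K) hP eK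
  let eN : (DCoh.LTensorCx K).obj ((DCoh.Lpull p).obj M) ≅ DCoh.toD Z T :=
    (DCoh.LTensorCx K).mapIso eP.symm ≪≫ ltIsoLeft K P hP ≪≫ e1.symm
  -- bounds
  have hPlt : Lt (n + 1) (DerivedCategory.Q.obj P) :=
    (Groth.Agent.Lib.RelPCaH3.Lt_Lpull p M (n + 1) (Lt_of_isLE M n hMle)).of_iso eP.symm
  have hK₀le : (DerivedCategory.Q.obj K₀).IsLE kᵤ := isLE_of_iso' eK.symm kᵤ hKle
  have hK₀ge : (DerivedCategory.Q.obj K₀).IsGE kₗ := isGE_of_iso' eK.symm kₗ hKge
  have hK₀lt : Lt (kᵤ + 1) (DerivedCategory.Q.obj K₀) := Lt_of_isLE _ kᵤ hK₀le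
  have hTlt : Lt (n + 1 + (kᵤ + 1) - 1) (DCoh.toD Z T) :=
    Lt_tensorCx P K₀ hP hK₀ (n + 1) (kᵤ + 1) hPlt hK₀lt
  have hTle : (DCoh.toD Z T).IsLE (n + kᵤ) :=
    isLE_of_Lt' _ _ (by rw [show n + kᵤ + 1 = n + 1 + (kᵤ + 1) - 1 by ring]; exact hTlt)
  obtain ⟨a', hTge⟩ := exists_isGE_tensor_of_isPerfect P K₀ hP hK₀ hPperf kₗ
    ((DerivedCategory.isGE_Q_obj_iff K₀ kₗ).1 hK₀ge)
  haveI := hTle
  haveI := hTge
  -- coherence
  have hPpc : ∀ t : ℤ, DCoh.IsPseudoCoherentD t (DerivedCategory.Q.obj P) :=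
    fun t => isPC_of_isPerfect hPperf t
  have hK₀coh : DCoh.IsCohD (DerivedCategory.Q.obj K₀) := isCohD_of_iso eK.symm hKcoh
  have hK₀pc : ∀ t : ℤ, DCoh.IsPseudoCoherentD t (DerivedCategory.Q.obj K₀) :=
    fun t => isPC_of_coh _ kᵤ t hK₀le (fun i _ => hK₀coh i)
  have hK₀b : ∀ x : Z, ∃ (W : Z.Opens) (b : ℤ), x ∈ W ∧
      Lt (b + 1) ((DD W.ι).obj (DerivedCategory.Q.obj K₀)) :=
    fun x => ⟨⊤, kᵤ, trivial, hK₀lt.restrict _⟩
  have hpc : ∀ t : ℤ, DCoh.IsPseudoCoherentD t (DCoh.toD Z T) :=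
    isPC_tensorCx_loc P K₀ hP hK₀ hPpc hK₀pc hK₀b
  have hcoh : DCoh.IsCohD (DCoh.toD Z T) := fun i => isCoh_HD_of_isPC _ hpc i
  -- supports
  have hSig : ClSub.IsProperOver q (⋃ j : ℤ, CohB1.support (DCoh.HD (DCoh.toD Z K₀) j)) := by
    have h1 := ProperOver.isProperOver_iUnion q (↥(Finset.Icc kₗ kᵤ))
      (fun j => CohB1.support (DCoh.HD (DCoh.toD Z K) j.1)) (fun j => hsupp j.1)
    have h2 : (⋃ j : ℤ, CohB1.support (DCoh.HD (DCoh.toD Z K₀) j)) =
        ⋃ j : ↥(Finset.Icc kₗ kᵤ), CohB1.support (DCoh.HD (DCoh.toD Z K) j.1) := by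
      ext x
      simp only [Set.mem_iUnion]
      constructor
      · rintro ⟨j, hj⟩
        have hj' : x ∈ CohB1.support (DCoh.HD (DCoh.toD Z K) j) := by
          rw [← CohDevH8.support_eq_of_iso ((homologyFunctor Z.Modules j).mapIso eK)]
          exact hj
        have hmem : j ∈ Finset.Icc kₗ kᵤ := by
          rw [Finset.mem_Icc]
          by_contra hne
          have hz : IsZero (DCoh.HD (DCoh.toD Z K) j) := by
            by_cases hlt : j < kₗ
            · haveI := hKge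
              exact DerivedCategory.isZero_of_isGE (DCoh.toD Z K) kₗ j hlt
            · haveI := hKle
              exact DerivedCategory.isZero_of_isLE (DCoh.toD Z K) kᵤ j (by omega)
          apply hj'
          exact ModuleCat.subsingleton_of_isZero ((stk x).map_isZero hz)
        exact ⟨⟨j, hmem⟩, hj'⟩
      · rintro ⟨j, hj⟩
        refine ⟨j.1, ?_⟩
        rw [CohDevH8.support_eq_of_iso ((homologyFunctor Z.Modules j.1).mapIso eK)]
        exact hj
    rw [h2]
    exact h1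
  have hsuppT : ∀ i : ℤ, ClSub.IsProperOver q (CohB1.support (DCoh.HD (DCoh.toD Z T) i)) := by
    intro i
    haveI := (hcoh i).2
    exact ProperOver.isProperOver_of_subset q hSig
      (SuppFT.isClosed_support _) (support_HD_tensor_subset P K₀ hP i)
  obtain ⟨h1, h2, c, h3⟩ :=
    Groth.Agent.Lib.RpushCohDH3.main1001 q (DCoh.toD Z T) a' (n + kᵤ) hcoh hsuppT
  let e := (DCoh.Rpush q).mapIso eN
  exact ⟨isCohD_of_iso e.symm h1, a', c, isGE_of_iso' e.symm a' h2, isLE_of_iso' e.symm c h3⟩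

/-- the Fourier–Mukai transform of a perfect complex with a perfect kernel, for a proper
projection to a Noetherian target, is in `D^b_Coh` -/
theorem fm_perf [IsNoetherian Y] [IsProper q]
    (K : CochainComplex Z.Modules ℤ) (hK : DCoh.IsPerfect (DCoh.toD Z K))
    [DCoh.HasLpull p] [DCoh.HasLTensorCx K] [DCoh.HasRpush q] [CompactSpace X]
    (M : DCoh.D X) (hM : DCoh.IsPerfect M) :
    DCoh.IsCohD ((DCoh.Rpush q).obj ((DCoh.LTensorCx K).obj ((DCoh.Lpull p).obj M))) ∧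
      ∃ m' n' : ℤ,
        ((DCoh.Rpush q).obj ((DCoh.LTensorCx K).obj ((DCoh.Lpull p).obj M))).IsGE m' ∧
        ((DCoh.Rpush q).obj ((DCoh.LTensorCx K).obj ((DCoh.Lpull p).obj M))).IsLE n' := by
  haveI : IsLocallyNoetherian Z := LocallyOfFiniteType.isLocallyNoetherian q
  haveI : CompactSpace Z := QuasiCompact.compactSpace_of_compactSpace q
  obtain ⟨hKcoh, kₗ, kᵤ, hKge, hKle⟩ := bounded_coh_of_isPerfect (DCoh.toD Z K) hK
  obtain ⟨n, hn⟩ := Groth.Agent.Lib.PerfMorPushH3.exists_isLE_of_isPerfect M hM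
  have huniv : ClSub.IsProperOver q (Set.univ : Set Z) := by
    have h1 : ClSub.IsProperOver q (Set.range (𝟙 Z : Z ⟶ Z)) :=
      (ProperOver.isProperOver_iff_of_closedImmersion q (𝟙 Z) rfl).mpr
        (by rw [Category.id_comp]; infer_instance)
    have h2 : Set.range (𝟙 Z : Z ⟶ Z) = Set.univ := by
      ext x
      simp
    rwa [h2] at h1
  have hsupp : ∀ i : ℤ, ClSub.IsProperOver q (CohB1.support (DCoh.HD (DCoh.toD Z K) i)) := by
    intro i
    haveI := (hKcoh i).2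
    exact ProperOver.isProperOver_of_subset q huniv (SuppFT.isClosed_support _)
      (Set.subset_univ _)
  exact fm_coh_perf p q K hKcoh kₗ kᵤ hKge hKle hsupp M hM n hn

end FM

section Tens

variable {Y : Scheme.{u}}

instance additive_flip_tensorBi (M : Y.Modules) :
    ((DCoh.tensorBi (X := Y)).flip.obj M).Additive where
  map_add {A B f g} := by
    change ((DCoh.tensorBi (X := Y)).map (f + g)).app M =
      ((DCoh.tensorBi (X := Y)).map f).app M + ((DCoh.tensorBi (X := Y)).map g).app M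
    rw [Functor.map_add]
    rfl

/-- the complex `L'[0]` -/
abbrev sgl (L' : Y.Modules) : CochainComplex Y.Modules ℤ :=
  (HomologicalComplex.single Y.Modules (ComplexShape.up ℤ) 0).obj L'

theorem isKFlat_sgl (L' : Y.Modules) (hL' : PicF.IsInvertible L') : DCoh.IsKFlat (sgl L') :=
  isKFlat_of_isStrictlyPerfect
    (Groth.Agent.Lib.PerfLocL.isStrictlyPerfect_single 0 L'
      (TensH8.isFinLocFree_of_isInvertible hL'))

theorem isPerfect_sgl (L' : Y.Modules) (hL' : PicF.IsInvertible L') :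
    DCoh.IsPerfect (DCoh.toD Y (sgl L')) :=
  isPerfect_Q_obj _ (Groth.Agent.Lib.PerfLocL.isStrictlyPerfect_single 0 L'
      (TensH8.isFinLocFree_of_isInvertible hL'))

/-- `H^j(G ⊗^L L'[0]) ≅ H^j(G) ⊗ L'` for an invertible module `L'` -/
theorem nonempty_HD_tens_iso (L' : Y.Modules) (hL' : PicF.IsInvertible L')
    [DCoh.HasLTensorCx (sgl L')] (G : DCoh.D Y) (j : ℤ) :
    Nonempty (DCoh.HD ((DCoh.LTensorCx (sgl L')).obj G) j ≅
      CohB1.tensorMod (DCoh.HD G j) L') := by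
  have hK : DCoh.IsKFlat (sgl L') := isKFlat_sgl L' hL'
  let G₀ := Q.objPreimage G
  let eG : Q.obj G₀ ≅ G := Q.objObjPreimageIso G
  let Fl := (DCoh.tensorBi (X := Y)).flip.obj L'
  haveI : PreservesFiniteLimits Fl := (exact_tR L' hL').1
  haveI : PreservesFiniteColimits Fl := (exact_tR L' hL').2
  let a : (DCoh.LTensorCx (sgl L')).obj G ≅ Q.obj ((DCoh.tensorCx.obj G₀).obj (sgl L')) :=
    (DCoh.LTensorCx (sgl L')).mapIso eG.symm ≪≫ ltIsoRight (sgl L') G₀ hK
  let b : (DCoh.tensorCx.obj G₀).obj (sgl L') ≅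
      (Fl.mapHomologicalComplex (ComplexShape.up ℤ)).obj G₀ :=
    ((Groth.Agent.Lib.RUnitCxH3.singleNatIso (DCoh.tensorBi (X := Y)) L').app G₀).symm
  let c : ((Fl.mapHomologicalComplex (ComplexShape.up ℤ)).obj G₀).homology j ≅
      Fl.obj (G₀.homology j) := (G₀.sc j).mapHomologyIso Fl
  let d : G₀.homology j ≅ DCoh.HD G j :=
    ((homologyFunctorFactors Y.Modules j).app G₀).symm ≪≫
      (homologyFunctor Y.Modules j).mapIso eG
  exact ⟨(homologyFunctor Y.Modules j).mapIso (a ≪≫ Q.mapIso b) ≪≫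
    (homologyFunctorFactors Y.Modules j).app _ ≪≫ c ≪≫ Fl.mapIso d⟩

end Tens

end

end Groth.Agent.Lib.FMWitH3
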