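import Mathlib
import Groth.Agent.Lib.LerayBB_helper7
import Groth.Agent.Lib.RDerTri_helper3
import Groth.Agent.Lib.RDerSingle_helper3

/-!
# The total right derived functor on a bounded object with acyclic cohomology (helper3)

Let `F : A ⥤ B` be a left exact additive functor out of a Grothendieck abelian category whose total
right derived functor `RF : D(A) ⥤ D(B)` exists.  If `K ∈ D(A)` is bounded and all the cohomology
objects `H^j(K)` are `F`-acyclic, then `H^i(RF K) ≅ F (H^i K)` for every `i`
(`main`; degenerate case of the hypercohomology spectral sequence, proved by induction on the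
canonical truncation triangles).
-/

set_option autoImplicit false
set_option linter.all false
set_option maxHeartbeats 1600000
set_option backward.isDefEq.respectTransparency false
set_option backward.isDefEq.respectTransparency.types false
set_option backward.defeqAttrib.useBackward true

universe w w' v v' u u'
open CategoryTheory Limits Pretriangulated DerivedCategory

namespace Groth.Agent.Lib.HyperCohAcycH3

open Groth.Agent.Lib.RDerGE

noncomputable section

section LES

variable {C : Type u} [Category.{v} C] [Abelian C] [HasDerivedCategory.{w} C]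

lemma isIso_homology_map_mor₁ (T : Triangle (DerivedCategory C))
    (hT : T ∈ distTriang (DerivedCategory C)) (i : ℤ)
    (h0 : IsZero ((homologyFunctor C (i - 1)).obj T.obj₃))
    (h1 : IsZero ((homologyFunctor C i).obj T.obj₃)) :
    IsIso ((homologyFunctor C i).map T.mor₁) := by
  haveI : Mono ((homologyFunctor C i).map T.mor₁) :=
    ((homologyFunctor C 0).homologySequence_mono_shift_map_mor₁_iff T hT (i - 1) i
      (by omega)).2 (h0.eq_of_src _ _)
  haveI : Epi ((homologyFunctor C i).map T.mor₁) :=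
    ((homologyFunctor C 0).homologySequence_epi_shift_map_mor₁_iff T hT i).2
      (h1.eq_of_tgt _ _)
  exact isIso_of_mono_of_epi _

lemma isIso_homology_map_mor₂ (T : Triangle (DerivedCategory C))
    (hT : T ∈ distTriang (DerivedCategory C)) (i : ℤ)
    (h0 : IsZero ((homologyFunctor C i).obj T.obj₁))
    (h1 : IsZero ((homologyFunctor C (i + 1)).obj T.obj₁)) :
    IsIso ((homologyFunctor C i).map T.mor₂) := by
  haveI : Mono ((homologyFunctor C i).map T.mor₂) :=
    ((homologyFunctor C 0).homologySequence_mono_shift_map_mor₂_iff T hT i).2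
      (h0.eq_of_src _ _)
  haveI : Epi ((homologyFunctor C i).map T.mor₂) :=
    ((homologyFunctor C 0).homologySequence_epi_shift_map_mor₂_iff T hT i (i + 1) rfl).2
      (h1.eq_of_tgt _ _)
  exact isIso_of_mono_of_epi _

/-- the cohomology of a single object placed in degree `c` -/
lemma isZero_homology_single (Y : C) (c i : ℤ) (hi : i ≠ c) :
    IsZero ((homologyFunctor C i).obj ((singleFunctor C c).obj Y)) := by
  refine IsZero.of_iso ?_ ((homologyFunctor C i).mapIso ((singleFunctorIsoCompQ C c).app Y) ≪≫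
    (homologyFunctorFactors C i).app _)
  exact HomologicalComplex.isZero_single_obj_homology (ComplexShape.up ℤ) c Y i hi

/-- the cohomology of a single object placed in degree `c` -/
def homologySingleIso (Y : C) (c : ℤ) :
    (homologyFunctor C c).obj ((singleFunctor C c).obj Y) ≅ Y :=
  (homologyFunctor C c).mapIso ((singleFunctorIsoCompQ C c).app Y) ≪≫
    (homologyFunctorFactors C c).app _ ≪≫
    HomologicalComplex.singleObjHomologySelfIso (ComplexShape.up ℤ) c Y

end LES

variable {A : Type u} [Category.{v} A] [Abelian A] [IsGrothendieckAbelian.{v} A]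
  [HasDerivedCategory.{w} A]
  {B : Type u'} [Category.{v'} B] [Abelian B] [HasDerivedCategory.{w'} B] (F : A ⥤ B) [F.Additive]
  [(F.mapHomotopyCategory (ComplexShape.up ℤ) ⋙ DerivedCategory.Qh).HasRightDerivedFunctor
    (HomotopyCategory.quasiIso A (ComplexShape.up ℤ))]

lemma nonempty_RF_iso₁₂ (T : Triangle (DerivedCategory A))
    (hT : T ∈ distTriang (DerivedCategory A)) (i : ℤ)
    (h0 : IsZero ((homologyFunctor B (i - 1)).obj ((RF F).obj T.obj₃)))
    (h1 : IsZero ((homologyFunctor B i).obj ((RF F).obj T.obj₃))) :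
    Nonempty ((homologyFunctor B i).obj ((RF F).obj T.obj₁) ≅
      (homologyFunctor B i).obj ((RF F).obj T.obj₂)) := by
  obtain ⟨T', hT', e₁, e₂, e₃, -, -⟩ := Groth.Agent.Lib.RDerTriH3.exists_distTriang F T hT
  haveI := isIso_homology_map_mor₁ T' hT' i
    (h0.of_iso ((homologyFunctor B (i - 1)).mapIso e₃))
    (h1.of_iso ((homologyFunctor B i).mapIso e₃))
  exact ⟨(homologyFunctor B i).mapIso e₁.symm ≪≫ asIso ((homologyFunctor B i).map T'.mor₁) ≪≫
    (homologyFunctor B i).mapIso e₂⟩

lemma nonempty_RF_iso₂₃ (T : Triangle (DerivedCategory A))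
    (hT : T ∈ distTriang (DerivedCategory A)) (i : ℤ)
    (h0 : IsZero ((homologyFunctor B i).obj ((RF F).obj T.obj₁)))
    (h1 : IsZero ((homologyFunctor B (i + 1)).obj ((RF F).obj T.obj₁))) :
    Nonempty ((homologyFunctor B i).obj ((RF F).obj T.obj₂) ≅
      (homologyFunctor B i).obj ((RF F).obj T.obj₃)) := by
  obtain ⟨T', hT', e₁, e₂, e₃, -, -⟩ := Groth.Agent.Lib.RDerTriH3.exists_distTriang F T hT
  haveI := isIso_homology_map_mor₂ T' hT' i
    (h0.of_iso ((homologyFunctor B i).mapIso e₁))
    (h1.of_iso ((homologyFunctor B (i + 1)).mapIso e₁))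
  exact ⟨(homologyFunctor B i).mapIso e₂.symm ≪≫ asIso ((homologyFunctor B i).map T'.mor₂) ≪≫
    (homologyFunctor B i).mapIso e₃⟩

variable [PreservesFiniteLimits F]

/-- `RF (Y[-c]) ≅ (F Y)[-c]` for an `F`-acyclic object `Y` -/
def RFSingleIso (Y : A) (hY : FAcyc.acyc F Y) (c : ℤ) :
    (RF F).obj ((singleFunctor A c).obj Y) ≅ (singleFunctor B c).obj (F.obj Y) := by
  let X : CochainComplex A ℤ := (HomologicalComplex.single A (ComplexShape.up ℤ) c).obj Y
  have hX : ∀ m, m < c → IsZero (X.X m) := fun m hm =>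
    HomologicalComplex.isZero_single_obj_X (ComplexShape.up ℤ) c Y m (by omega)
  have hXT : ∀ m, FAcyc.acyc F (X.X m) := by
    intro m
    by_cases hm : m = c
    · subst hm
      exact Groth.Agent.Lib.UnbRDer.acyc_of_iso F
        (HomologicalComplex.singleObjXSelf (ComplexShape.up ℤ) m Y).symm hY
    · exact Groth.Agent.Lib.UnbRDer.acyc_of_isZero F
        (HomologicalComplex.isZero_single_obj_X (ComplexShape.up ℤ) c Y m hm)
  haveI := Groth.Agent.Lib.LerayBB.isIso_unit_of_bddBelow F X c hX hXT
  let u : DerivedCategory.Q.obj ((F.mapHomologicalComplex (ComplexShape.up ℤ)).obj X) ≅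
      (RF F).obj (DerivedCategory.Q.obj X) :=
    asIso ((Groth.Agent.Lib.LerayBB.α F).app
      ((HomotopyCategory.quotient A (ComplexShape.up ℤ)).obj X))
  exact (RF F).mapIso ((singleFunctorIsoCompQ A c).app Y) ≪≫ u.symm ≪≫
    DerivedCategory.Q.mapIso
      ((HomologicalComplex.singleMapHomologicalComplex F (ComplexShape.up ℤ) c).app Y) ≪≫
    ((singleFunctorIsoCompQ B c).app (F.obj Y)).symm

lemma single_case (Y : A) (hY : FAcyc.acyc F Y) (c i : ℤ) :
    Nonempty ((homologyFunctor B i).obj ((RF F).obj ((singleFunctor A c).obj Y)) ≅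
      F.obj ((homologyFunctor A i).obj ((singleFunctor A c).obj Y))) := by
  by_cases hi : i = c
  · subst hi
    exact ⟨(homologyFunctor B i).mapIso (RFSingleIso F Y hY i) ≪≫ homologySingleIso (F.obj Y) i ≪≫
      F.mapIso (homologySingleIso Y i).symm⟩
  · have h1 : IsZero ((homologyFunctor B i).obj ((RF F).obj ((singleFunctor A c).obj Y))) :=
      (isZero_homology_single (F.obj Y) c i hi).of_iso
        ((homologyFunctor B i).mapIso (RFSingleIso F Y hY c))
    have h2 : IsZero (F.obj ((homologyFunctor A i).obj ((singleFunctor A c).obj Y))) :=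
      F.map_isZero (isZero_homology_single Y c i hi)
    exact ⟨h1.iso h2⟩

/-- **hypercohomology of a bounded object with acyclic cohomology objects** -/
theorem main_aux (n : ℕ) : ∀ (c : ℤ) (K : DerivedCategory A), K.IsGE c → K.IsLE (c + n - 1) →
    (∀ j, FAcyc.acyc F ((homologyFunctor A j).obj K)) →
    ∀ i, Nonempty ((homologyFunctor B i).obj ((RF F).obj K) ≅
      F.obj ((homologyFunctor A i).obj K)) := by
  induction n with
  | zero =>
    intro c K hc hd _ i
    haveI := hc
    haveI := hd
    have hK : IsZero K := TStructure.t.isZero K (c + (0 : ℕ) - 1) c (by simp)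
    haveI : K.IsGE (i + 1) := TStructure.t.isGE_of_isZero hK (i + 1)
    haveI := isGE F K (i + 1)
    have h1 : IsZero ((homologyFunctor B i).obj ((RF F).obj K)) :=
      isZero_of_isGE ((RF F).obj K) (i + 1) i (by omega)
    have h2 : IsZero (F.obj ((homologyFunctor A i).obj K)) :=
      F.map_isZero ((homologyFunctor A i).map_isZero hK)
    exact ⟨h1.iso h2⟩
  | succ n ih =>
    intro c K hc hd hac i
    haveI := hc
    haveI := hd
    let T := (TStructure.t.triangleLEGE c (c + 1) rfl).obj K
    have hT : T ∈ distTriang _ := TStructure.t.triangleLEGE_distinguished c (c + 1) rfl K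
    haveI i1 : T.obj₁.IsLE c := by dsimp [T]; infer_instance
    haveI i1' : T.obj₁.IsGE c := by dsimp [T]; infer_instance
    haveI i3 : T.obj₃.IsGE (c + 1) := by dsimp [T]; infer_instance
    have hd' : K.IsLE (c + (n : ℤ)) :=
      TStructure.t.isLE_of_le K (c + ((n + 1 : ℕ) : ℤ) - 1) _ (by push_cast; omega)
    haveI := hd'
    haveI i3' : T.obj₃.IsLE (c + (n : ℤ)) := by dsimp [T]; infer_instance
    have i3'' : T.obj₃.IsLE (c + 1 + (n : ℤ) - 1) :=
      TStructure.t.isLE_of_le T.obj₃ (c + (n : ℤ)) _ (by omega)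
    have hom₁ : ∀ j, j ≤ c → IsIso ((homologyFunctor A j).map T.mor₁) := fun j hj =>
      isIso_homology_map_mor₁ T hT j (isZero_of_isGE T.obj₃ (c + 1) (j - 1) (by omega))
        (isZero_of_isGE T.obj₃ (c + 1) j (by omega))
    have hom₃ : ∀ j, c + 1 ≤ j → IsIso ((homologyFunctor A j).map T.mor₂) := fun j hj =>
      isIso_homology_map_mor₂ T hT j (isZero_of_isLE T.obj₁ c j (by omega))
        (isZero_of_isLE T.obj₁ c (j + 1) (by omega))
    have hK2 : ∀ j, FAcyc.acyc F ((homologyFunctor A j).obj T.obj₂) := hac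
    have acyc₁ : ∀ j, FAcyc.acyc F ((homologyFunctor A j).obj T.obj₁) := by
      intro j
      by_cases hj : j ≤ c
      · haveI := hom₁ j hj
        exact Groth.Agent.Lib.UnbRDer.acyc_of_iso F
          (asIso ((homologyFunctor A j).map T.mor₁)).symm (hK2 j)
      · exact Groth.Agent.Lib.UnbRDer.acyc_of_isZero F
          (isZero_of_isLE T.obj₁ c j (by omega))
    have acyc₃ : ∀ j, FAcyc.acyc F ((homologyFunctor A j).obj T.obj₃) := by
      intro j
      by_cases hj : c + 1 ≤ j
      · haveI := hom₃ j hj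
        exact Groth.Agent.Lib.UnbRDer.acyc_of_iso F
          (asIso ((homologyFunctor A j).map T.mor₂)) (hK2 j)
      · exact Groth.Agent.Lib.UnbRDer.acyc_of_isZero F
          (isZero_of_isGE T.obj₃ (c + 1) j (by omega))
    -- the single object `τ_{≤ c} K`
    have P₁ : ∀ i, Nonempty ((homologyFunctor B i).obj ((RF F).obj T.obj₁) ≅
        F.obj ((homologyFunctor A i).obj T.obj₁)) := by
      intro i
      obtain ⟨Y, ⟨e⟩⟩ := exists_iso_singleFunctor_obj_of_isGE_of_isLE T.obj₁ c
      have hY : FAcyc.acyc F Y := Groth.Agent.Lib.UnbRDer.acyc_of_iso F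
        ((homologyFunctor A c).mapIso e ≪≫ homologySingleIso Y c) (acyc₁ c)
      obtain ⟨s⟩ := single_case F Y hY c i
      exact ⟨(homologyFunctor B i).mapIso ((RF F).mapIso e) ≪≫ s ≪≫
        F.mapIso ((homologyFunctor A i).mapIso e.symm)⟩
    have P₃ := ih (c + 1) T.obj₃ i3 i3'' acyc₃
    by_cases hi : i ≤ c
    · have z0 : IsZero ((homologyFunctor B (i - 1)).obj ((RF F).obj T.obj₃)) := by
        obtain ⟨s⟩ := P₃ (i - 1)
        exact (F.map_isZero (isZero_of_isGE T.obj₃ (c + 1) (i - 1) (by omega))).of_iso s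
      have z1 : IsZero ((homologyFunctor B i).obj ((RF F).obj T.obj₃)) := by
        obtain ⟨s⟩ := P₃ i
        exact (F.map_isZero (isZero_of_isGE T.obj₃ (c + 1) i (by omega))).of_iso s
      obtain ⟨a⟩ := nonempty_RF_iso₁₂ F T hT i z0 z1
      obtain ⟨b⟩ := P₁ i
      haveI := hom₁ i hi
      exact ⟨a.symm ≪≫ b ≪≫ F.mapIso (asIso ((homologyFunctor A i).map T.mor₁))⟩
    · have z0 : IsZero ((homologyFunctor B i).obj ((RF F).obj T.obj₁)) := by
        obtain ⟨s⟩ := P₁ i
        exact (F.map_isZero (isZero_of_isLE T.obj₁ c i (by omega))).of_iso s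
      have z1 : IsZero ((homologyFunctor B (i + 1)).obj ((RF F).obj T.obj₁)) := by
        obtain ⟨s⟩ := P₁ (i + 1)
        exact (F.map_isZero (isZero_of_isLE T.obj₁ c (i + 1) (by omega))).of_iso s
      obtain ⟨a⟩ := nonempty_RF_iso₂₃ F T hT i z0 z1
      obtain ⟨b⟩ := P₃ i
      haveI := hom₃ i (by omega)
      exact ⟨a ≪≫ b ≪≫ F.mapIso (asIso ((homologyFunctor A i).map T.mor₂)).symm⟩

/-- **hypercohomology of a bounded object with acyclic cohomology objects** -/
theorem main (K : DerivedCategory A) (c d : ℤ) [K.IsGE c] [K.IsLE d]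
    (hac : ∀ j, FAcyc.acyc F ((homologyFunctor A j).obj K)) (i : ℤ) :
    Nonempty ((homologyFunctor B i).obj ((RF F).obj K) ≅
      F.obj ((homologyFunctor A i).obj K)) := by
  have hd : K.IsLE (c + ((d + 1 - c).toNat : ℤ) - 1) :=
    TStructure.t.isLE_of_le K d _ (by omega)
  exact main_aux F (d + 1 - c).toNat c K inferInstance hd hac i


/-! ### way-out vanishing -/

omit [PreservesFiniteLimits F] in
/-- `H^i(RF(Y[-c]))` vanishes when `R^{i-c}F(Y)` does -/
lemma isZero_homology_RF_single [HasInjectiveResolutions A] (Y : A) (c i : ℤ)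
    (h : ∀ p : ℕ, c + p = i → IsZero ((F.rightDerived p).obj Y)) :
    IsZero ((homologyFunctor B i).obj ((RF F).obj ((singleFunctor A c).obj Y))) := by
  by_cases hi : i < c
  · haveI := isGE F ((singleFunctor A c).obj Y) c
    exact isZero_of_isGE _ c i hi
  · obtain ⟨p, hp⟩ : ∃ p : ℕ, c + p = i := ⟨(i - c).toNat, by omega⟩
    subst hp
    let e1 : ((singleFunctor A 0).obj Y)⟦-c⟧ ≅ (singleFunctor A c).obj Y :=
      ((singleFunctors A).shiftIso (-c) c 0 (by omega)).app Y
    obtain ⟨e2⟩ := Groth.Agent.Lib.RDerTriH3.nonempty_shift_iso F ((singleFunctor A 0).obj Y) (-c)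
    let e3 : (homologyFunctor B (c + p)).obj (((RF F).obj ((singleFunctor A 0).obj Y))⟦-c⟧) ≅
        (homologyFunctor B (p : ℤ)).obj ((RF F).obj ((singleFunctor A 0).obj Y)) :=
      ((homologyFunctor B 0).shiftIso (-c) (c + p) (p : ℤ) (by omega)).app _
    obtain ⟨e4⟩ := Groth.Agent.Lib.RDerSingleH3.nonempty_homology_RF_single_iso F Y p
    exact (h p rfl).of_iso ((homologyFunctor B (c + p)).mapIso ((RF F).mapIso e1.symm ≪≫ e2) ≪≫
      e3 ≪≫ e4)

omit [PreservesFiniteLimits F] in
theorem wayout_aux [HasInjectiveResolutions A] (i : ℤ) (n : ℕ) :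
    ∀ (c : ℤ) (K : DerivedCategory A), K.IsGE c → K.IsLE (c + n - 1) →
    (∀ (j : ℤ) (p : ℕ), j + p = i →
      IsZero ((F.rightDerived p).obj ((homologyFunctor A j).obj K))) →
    IsZero ((homologyFunctor B i).obj ((RF F).obj K)) := by
  induction n with
  | zero =>
    intro c K hc hd _
    haveI := hc
    haveI := hd
    have hK : IsZero K := TStructure.t.isZero K (c + (0 : ℕ) - 1) c (by simp)
    haveI : K.IsGE (i + 1) := TStructure.t.isGE_of_isZero hK (i + 1)
    haveI := isGE F K (i + 1)
    exact isZero_of_isGE ((RF F).obj K) (i + 1) i (by omega)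
  | succ n ih =>
    intro c K hc hd hv
    haveI := hc
    haveI := hd
    let T := (TStructure.t.triangleLEGE c (c + 1) rfl).obj K
    have hT : T ∈ distTriang _ := TStructure.t.triangleLEGE_distinguished c (c + 1) rfl K
    haveI i1 : T.obj₁.IsLE c := by dsimp [T]; infer_instance
    haveI i1' : T.obj₁.IsGE c := by dsimp [T]; infer_instance
    haveI i3 : T.obj₃.IsGE (c + 1) := by dsimp [T]; infer_instance
    have hd' : K.IsLE (c + (n : ℤ)) :=
      TStructure.t.isLE_of_le K (c + ((n + 1 : ℕ) : ℤ) - 1) _ (by push_cast; omega)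
    haveI := hd'
    haveI i3' : T.obj₃.IsLE (c + (n : ℤ)) := by dsimp [T]; infer_instance
    have i3'' : T.obj₃.IsLE (c + 1 + (n : ℤ) - 1) :=
      TStructure.t.isLE_of_le T.obj₃ (c + (n : ℤ)) _ (by omega)
    have hom₁ : ∀ j, j ≤ c → IsIso ((homologyFunctor A j).map T.mor₁) := fun j hj =>
      isIso_homology_map_mor₁ T hT j (isZero_of_isGE T.obj₃ (c + 1) (j - 1) (by omega))
        (isZero_of_isGE T.obj₃ (c + 1) j (by omega))
    have hom₃ : ∀ j, c + 1 ≤ j → IsIso ((homologyFunctor A j).map T.mor₂) := fun j hj =>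
      isIso_homology_map_mor₂ T hT j (isZero_of_isLE T.obj₁ c j (by omega))
        (isZero_of_isLE T.obj₁ c (j + 1) (by omega))
    have hK2 : ∀ (j : ℤ) (p : ℕ), j + p = i →
        IsZero ((F.rightDerived p).obj ((homologyFunctor A j).obj T.obj₂)) := hv
    -- the single object `τ_{≤ c} K`
    have z₁ : IsZero ((homologyFunctor B i).obj ((RF F).obj T.obj₁)) := by
      obtain ⟨Y, ⟨e⟩⟩ := exists_iso_singleFunctor_obj_of_isGE_of_isLE T.obj₁ c
      haveI := hom₁ c le_rfl
      let eY : (homologyFunctor A c).obj T.obj₂ ≅ Y :=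
        (asIso ((homologyFunctor A c).map T.mor₁)).symm ≪≫ (homologyFunctor A c).mapIso e ≪≫
          homologySingleIso Y c
      have hY : ∀ p : ℕ, c + p = i → IsZero ((F.rightDerived p).obj Y) := fun p hp =>
        (hK2 c p hp).of_iso ((F.rightDerived p).mapIso eY.symm)
      exact (isZero_homology_RF_single F Y c i hY).of_iso
        ((homologyFunctor B i).mapIso ((RF F).mapIso e))
    have z₃ : IsZero ((homologyFunctor B i).obj ((RF F).obj T.obj₃)) := by
      apply ih (c + 1) T.obj₃ i3 i3''
      intro j p hjp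
      by_cases hj : c + 1 ≤ j
      · haveI := hom₃ j hj
        exact (hK2 j p hjp).of_iso
          ((F.rightDerived p).mapIso (asIso ((homologyFunctor A j).map T.mor₂)).symm)
      · exact (F.rightDerived p).map_isZero (isZero_of_isGE T.obj₃ (c + 1) j (by omega))
    obtain ⟨T', hT', e₁, e₂, e₃, -, -⟩ := Groth.Agent.Lib.RDerTriH3.exists_distTriang F T hT
    have hex := (homologyFunctor B 0).homologySequence_exact₂ T' hT' i
    have hz : IsZero ((homologyFunctor B i).obj T'.obj₂) :=
      hex.isZero_X₂ ((z₁.of_iso ((homologyFunctor B i).mapIso e₁)).eq_of_src _ _)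
        ((z₃.of_iso ((homologyFunctor B i).mapIso e₃)).eq_of_tgt _ _)
    exact hz.of_iso ((homologyFunctor B i).mapIso e₂.symm)

omit [PreservesFiniteLimits F] in
/-- **way-out vanishing**: if `K` is bounded below and `R^pF(H^j K) = 0` whenever `p + j = i`,
then `H^i(RF K) = 0` -/
theorem wayout [HasInjectiveResolutions A] (K : DerivedCategory A) (a : ℤ) [K.IsGE a] (i : ℤ)
    (hv : ∀ (j : ℤ) (p : ℕ), j + p = i →
      IsZero ((F.rightDerived p).obj ((homologyFunctor A j).obj K))) :
    IsZero ((homologyFunctor B i).obj ((RF F).obj K)) := by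
  let T := (TStructure.t.triangleLEGE (i + 1) (i + 1 + 1) rfl).obj K
  have hT : T ∈ distTriang _ :=
    TStructure.t.triangleLEGE_distinguished (i + 1) (i + 1 + 1) rfl K
  haveI i1 : T.obj₁.IsLE (i + 1) := by dsimp [T]; infer_instance
  haveI i1' : T.obj₁.IsGE a := by dsimp [T]; infer_instance
  haveI i3 : T.obj₃.IsGE (i + 1 + 1) := by dsimp [T]; infer_instance
  haveI := isGE F T.obj₃ (i + 1 + 1)
  obtain ⟨e⟩ := nonempty_RF_iso₁₂ F T hT i
    (isZero_of_isGE ((RF F).obj T.obj₃) (i + 1 + 1) (i - 1) (by omega))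
    (isZero_of_isGE ((RF F).obj T.obj₃) (i + 1 + 1) i (by omega))
  have hle : T.obj₁.IsLE (a + (((i + 1 + 1 - a).toNat : ℕ) : ℤ) - 1) :=
    TStructure.t.isLE_of_le T.obj₁ (i + 1) _ (by omega)
  have z := wayout_aux F i (i + 1 + 1 - a).toNat a T.obj₁ i1' hle (by
    intro j p hjp
    have hj : j ≤ i + 1 := by omega
    haveI := isIso_homology_map_mor₁ T hT j
      (isZero_of_isGE T.obj₃ (i + 1 + 1) (j - 1) (by omega))
      (isZero_of_isGE T.obj₃ (i + 1 + 1) j (by omega))
    exact (hv j p hjp).of_iso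
      ((F.rightDerived p).mapIso (asIso ((homologyFunctor A j).map T.mor₁))))
  exact z.of_iso e.symm

end

end Groth.Agent.Lib.HyperCohAcycH3
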