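import Mathlib
import Groth.Prelude
import Groth.Agent.Lib.FMWit2_helper3
import Groth.Agent.Lib.HyperCohAcyc_helper3
import Groth.Agent.Lib.FMSwap_helper3
import Groth.Agent.Lib.RelAmpleVan_helper9
import Groth.Agent.Lib.Tens29_helper8
import Groth.Agent.Lib.Tens5_helper8

/-!
# WIT criteria for Fourier–Mukai transforms (helper3; S16376, S16378)

For `X`, `Y` proper over a field, `P` and `F` perfect, `L` ample on `Y`: for `n ≫ 0` and every `i`,
`R^iΦ_P(F) = 0 ⟺ H^i(X, Ψ_P(L^n) ⊗^L F) = 0`.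
-/

set_option autoImplicit false
set_option linter.all false
set_option maxHeartbeats 1600000
set_option backward.isDefEq.respectTransparency false
set_option backward.isDefEq.respectTransparency.types false
set_option backward.defeqAttrib.useBackward true

universe u
open CategoryTheory CategoryTheory.Limits AlgebraicGeometry Opposite

attribute [local instance] HasDerivedCategory.standard

namespace Groth.Agent.Lib.FMWitH3

open DerivedCategory

noncomputable section

theorem isZero_tensorMod_of_isZero {Y : Scheme.{u}} {M : Y.Modules} (L' : Y.Modules)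
    (h : IsZero M) : IsZero (CohB1.tensorMod M L') :=
  ((DCoh.tensorBi (X := Y)).flip.obj L').map_isZero h

variable {k : Type u} [Field k] {X Y : Scheme.{u}} (a : X ⟶ Spec (CommRingCat.of k))
  (b : Y ⟶ Spec (CommRingCat.of k)) [IsProper a] [IsProper b]

/-- **the WIT criterion**, uniformly in the degree -/
theorem main (P : CochainComplex (pullback a b).Modules ℤ)
    (hP : DCoh.IsPerfect (DCoh.toD (pullback a b) P))
    [DCoh.HasLpull (pullback.fst a b)] [DCoh.HasLpull (pullback.snd a b)] [DCoh.HasLTensorCx P]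
    [DCoh.HasRpush (pullback.fst a b)] [DCoh.HasRpush (pullback.snd a b)] [DCoh.HasRΓ X]
    (L : Y.Modules) (hL : CohB1.IsAmple L)
    (F : CochainComplex X.Modules ℤ) (hF : DCoh.IsPerfect (DCoh.toD X F)) [DCoh.HasLTensorCx F] :
    ∃ n₀ : ℕ, ∀ n : ℕ, n₀ ≤ n → ∀ i : ℤ,
      (IsZero (DCoh.HD ((FMK.phi a b P).obj (DCoh.toD X F)) i) ↔
        IsZero ((DerivedCategory.homologyFunctor AddCommGrpCat.{u} i).obj ((DCoh.RΓ X).obj
          ((DCoh.LTensorCx F).obj ((DCoh.Lpull (pullback.snd a b) ⋙ DCoh.LTensorCx P ⋙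
            DCoh.Rpush (pullback.fst a b)).obj (DCoh.inD Y (CohB1.tensorPow L n))))))) := by
  haveI : IsLocallyNoetherian Y := LocallyOfFiniteType.isLocallyNoetherian b
  haveI : CompactSpace Y := QuasiCompact.compactSpace_of_compactSpace b
  haveI : IsNoetherian Y := {}
  haveI : CompactSpace X := QuasiCompact.compactSpace_of_compactSpace a
  haveI : Flat a := inferInstance
  haveI : Flat b := inferInstance
  haveI := Groth.Agent.Lib.MVPushL.grothendieck_modules Y
  haveI : DCoh.HasRΓ Y :=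
    (OrthDeriv.main (P := HomotopyCategory.subcategoryAcyclic Y.Modules)
      (HomotopyCategory.quasiIso Y.Modules (ComplexShape.up ℤ))
      (HomotopyCategory.quasiIso_eq_trW_subcategoryAcyclic _)
      Groth.Agent.Lib.KInjGen8.hP DerivedCategory.Qh (DCoh.gammaKh Y)).1
  obtain ⟨hGcoh, c, d, hGge0, hGle0⟩ :=
    fm_perf (pullback.fst a b) (pullback.snd a b) P hP (DCoh.toD X F) hF
  have hGge : IsGE ((FMK.phi a b P).obj (DCoh.toD X F)) c := hGge0
  have hGle : IsLE ((FMK.phi a b P).obj (DCoh.toD X F)) d := hGle0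
  haveI : PreservesFiniteLimits (DCoh.gammaAb Y) :=
    Groth.Agent.Lib.SecDer.preservesFiniteLimits_Γf (X := Y) ⊤
  have hLinv : PicF.IsInvertible L := hL.1
  have hLn : ∀ n, PicF.IsInvertible (CohB1.tensorPow L n) :=
    fun n => TensH8.isInvertible_tensorPow hLinv n
  -- Serre vanishing and global generation
  have key : ∀ j : ℤ, ∃ N : ℕ, ∀ n, N ≤ n →
      (∀ p : ℕ, 0 < p → Subsingleton (Coh.HH Y (CohB1.tensorMod
        (DCoh.HD ((FMK.phi a b P).obj (DCoh.toD X F)) j) (CohB1.tensorPow L n)) p)) ∧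
      Curv2.IsGloballyGenerated (CohB1.tensorMod
        (DCoh.HD ((FMK.phi a b P).obj (DCoh.toD X F)) j) (CohB1.tensorPow L n)) := by
    intro j
    obtain ⟨N₁, h₁⟩ := RelAmpleVanH9.serre_vanishing_ample b L hLinv hL _ (hGcoh j)
    obtain ⟨N₂, h₂⟩ := TensH8.exists_isGloballyGenerated_twist hL _ (hGcoh j)
    exact ⟨max N₁ N₂, fun n hn =>
      ⟨h₁ n (le_trans (le_max_left _ _) hn), h₂ n (le_trans (le_max_right _ _) hn)⟩⟩
  choose N hN using key
  refine ⟨(Finset.Icc c d).sup N, fun n hn i => ?_⟩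
  haveI : DCoh.HasLTensorCx (sgl (CohB1.tensorPow L n)) :=
    Groth.Agent.Lib.LTensExH3.hasLTensorCx _
  have eH := fun j => nonempty_HD_tens_iso (CohB1.tensorPow L n) (hLn n)
    ((FMK.phi a b P).obj (DCoh.toD X F)) j
  have hzG : ∀ j, (j < c ∨ d < j) →
      IsZero (DCoh.HD ((FMK.phi a b P).obj (DCoh.toD X F)) j) := by
    intro j hj
    rcases hj with hj | hj
    · haveI := hGge
      exact isZero_of_isGE _ c j hj
    · haveI := hGle
      exact isZero_of_isLE _ d j hj
  have hzK : ∀ j, (j < c ∨ d < j) →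
      IsZero (DCoh.HD ((DCoh.LTensorCx (sgl (CohB1.tensorPow L n))).obj
        ((FMK.phi a b P).obj (DCoh.toD X F))) j) := by
    intro j hj
    obtain ⟨e⟩ := eH j
    exact (isZero_tensorMod_of_isZero _ (hzG j hj)).of_iso e
  haveI : ((DCoh.LTensorCx (sgl (CohB1.tensorPow L n))).obj
      ((FMK.phi a b P).obj (DCoh.toD X F))).IsGE c :=
    (isGE_iff _ c).2 (fun j hj => hzK j (Or.inl hj))
  haveI : ((DCoh.LTensorCx (sgl (CohB1.tensorPow L n))).obj
      ((FMK.phi a b P).obj (DCoh.toD X F))).IsLE d :=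
    (isLE_iff _ d).2 (fun j hj => hzK j (Or.inr hj))
  have hNle : ∀ j, c ≤ j ∧ j ≤ d → N j ≤ n := fun j hj =>
    le_trans (Finset.le_sup (f := N) (Finset.mem_Icc.2 hj)) hn
  have hac : ∀ j, Groth.Agent.Lib.FAcyc.acyc (DCoh.gammaAb Y)
      ((homologyFunctor Y.Modules j).obj ((DCoh.LTensorCx (sgl (CohB1.tensorPow L n))).obj
        ((FMK.phi a b P).obj (DCoh.toD X F)))) := by
    intro j
    by_cases hj : c ≤ j ∧ j ≤ d
    · obtain ⟨e⟩ := eH j
      exact Groth.Agent.Lib.UnbRDer.acyc_of_iso _ e.symm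
        (acyc_gammaAb_of_HH _ (hN j n (hNle j hj)).1)
    · exact Groth.Agent.Lib.UnbRDer.acyc_of_isZero _ (hzK j (by omega))
  obtain ⟨κ⟩ := Groth.Agent.Lib.HyperCohAcycH3.main (DCoh.gammaAb Y)
    ((DCoh.LTensorCx (sgl (CohB1.tensorPow L n))).obj ((FMK.phi a b P).obj (DCoh.toD X F)))
    c d hac i
  obtain ⟨ex⟩ := Groth.Agent.Lib.FMSwapH3.main16375 a b P F hF (sgl (CohB1.tensorPow L n))
    (isPerfect_sgl _ (hLn n))
  constructor
  · intro hG0
    have h1 : IsZero (DCoh.HD ((DCoh.LTensorCx (sgl (CohB1.tensorPow L n))).obj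
        ((FMK.phi a b P).obj (DCoh.toD X F))) i) := by
      obtain ⟨e⟩ := eH i
      exact (isZero_tensorMod_of_isZero _ hG0).of_iso e
    have h2 := ((DCoh.gammaAb Y).map_isZero h1).of_iso κ
    exact h2.of_iso ((homologyFunctor AddCommGrpCat.{u} i).mapIso ex)
  · intro h0
    have h2 := h0.of_iso ((homologyFunctor AddCommGrpCat.{u} i).mapIso ex.symm)
    have h3 := h2.of_iso κ.symm
    by_cases hi : c ≤ i ∧ i ≤ d
    · obtain ⟨e⟩ := eH i
      have h4 : IsZero ((DCoh.gammaAb Y).obj (CohB1.tensorMod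
          (DCoh.HD ((FMK.phi a b P).obj (DCoh.toD X F)) i) (CohB1.tensorPow L n))) :=
        h3.of_iso ((DCoh.gammaAb Y).mapIso e.symm)
      have h5 := isZero_of_isGloballyGenerated _ (hN i n (hNle i hi)).2 h4
      exact isZero_of_isZero_tensorMod _ _ (hLn n) h5
    · exact hzG i (by omega)

end

end Groth.Agent.Lib.FMWitH3
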