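import Mathlib
import Groth.Prelude.Def_CohTop
import Groth.Agent.Lib.GV3_helper2

/-!
# Grothendieck vanishing for a directed family of supports (helper3)

After helper2's `GVanH2.HV_of_genZero`: if every local section of an abelian sheaf `K` on a
Noetherian space is supported on a member of a directed family `𝒵` of closed subsets, and `H^p`
vanishes for every sheaf supported on a member of `𝒵`, then `H^p(X, K) = 0`.
-/

set_option autoImplicit false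
set_option linter.all false
universe u
open CategoryTheory CategoryTheory.Limits TopologicalSpace Opposite

namespace Groth.Agent.Lib.GVDirH3

open Groth.Agent.Lib Groth.Agent.Lib.Cech Groth.Agent.Lib.FreeSheaf Groth.Agent.Lib.GVanH2

variable {X : TopCat.{u}}

section Colim

variable (𝒵 : Set (Closeds X)) (K : CohTop.Ab X)

/-- transition maps -/
noncomputable def DDmap {Z₁ Z₂ : Closeds X} (f : Z₁ ≤ Z₂) : GamZ Z₁ K ⟶ GamZ Z₂ K :=
  liftGam Z₂ (gamι Z₁ K) (fun V s => by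
    have h1 := SectSupp.res_ι Z₁.compl K V s
    have hle : V ⊓ Z₂.compl ≤ V ⊓ Z₁.compl :=
      inf_le_inf_left V (compl_le_compl f)
    have h2 := congrArg (res K.obj hle) h1
    rw [res_res, map_zero] at h2
    exact h2)

lemma DDmap_ι {Z₁ Z₂ : Closeds X} (f : Z₁ ≤ Z₂) : DDmap K f ≫ gamι Z₂ K = gamι Z₁ K :=
  liftGam_ι _ _ _

/-- the diagram of the `GamZ Z' K`, `Z' ∈ 𝒵` -/
noncomputable def DD : ↥𝒵 ⥤ CohTop.Ab X where
  obj i := GamZ i.1 K
  map {i j} f := DDmap K (show i.1 ≤ j.1 from leOfHom f)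
  map_id i := by
    rw [← cancel_mono (gamι i.1 K), DDmap_ι, Category.id_comp]
  map_comp f g := by
    rw [← cancel_mono (gamι _ K), Category.assoc, DDmap_ι, DDmap_ι, DDmap_ι]

lemma DD_map_ι {i j : ↥𝒵} (f : i ⟶ j) : (DD 𝒵 K).map f ≫ gamι j.1 K = gamι i.1 K :=
  DDmap_ι K (show i.1 ≤ j.1 from leOfHom f)

/-- the cocone with point `K` -/
noncomputable def cc : Cocone (DD 𝒵 K) where
  pt := K
  ι := { app := fun i => gamι i.1 K
         naturality := fun i j f => (DD_map_ι 𝒵 K f).trans (Category.comp_id _).symm }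

variable {𝒵 K}

theorem cc_isColimit [NoetherianSpace X] [Nonempty ↥𝒵] [IsDirected ↥𝒵 (· ≤ ·)]
    (hK : ∀ (V : Opens X) (t : K.obj.obj (op V)), ∃ Z ∈ 𝒵,
      res K.obj (inf_le_left : V ⊓ Z.compl ≤ V) t = 0) :
    Nonempty (IsColimit (cc 𝒵 K)) := by
  refine ColimCoh.isColimit_of_basis (D := DD 𝒵 K) (c := cc 𝒵 K) (fun _ => True)
    (fun W x hx => ⟨W, trivial, hx, le_rfl⟩) (fun V _ => NoetherianSpace.isCompact _)
    (fun V _ => qcqs_of_noetherian V) ?_ ?_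
  · intro V _ t
    obtain ⟨Z, hZ, h0⟩ := hK V t
    obtain ⟨s, hs'⟩ := SectSupp.exists_ι_eq Z.compl K V t h0
    exact ⟨⟨Z, hZ⟩, s, hs'⟩
  · intro V _ i s hs
    refine ⟨i, le_rfl, ?_⟩
    have h0 : s = 0 := SectSupp.ι_injective i.1.compl K V
      (hs.trans (map_zero ((SectSupp.ι i.1.compl K).hom.app (op V)).hom).symm)
    subst h0
    exact map_zero _

/-- **Vanishing for a directed family of supports.** -/
theorem HV_of_directed [NoetherianSpace X] (hne : 𝒵.Nonempty)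
    (hdir : ∀ Z₁ ∈ 𝒵, ∀ Z₂ ∈ 𝒵, Z₁ ⊔ Z₂ ∈ 𝒵)
    (hK : ∀ (V : Opens X) (t : K.obj.obj (op V)), ∃ Z ∈ 𝒵,
      res K.obj (inf_le_left : V ⊓ Z.compl ≤ V) t = 0)
    (p : ℕ) (hp : ∀ Z ∈ 𝒵, ∀ N : CohTop.Ab X, SuppOn N Z → HV N p) : HV K p := by
  haveI : Nonempty ↥𝒵 := hne.to_subtype
  haveI : IsDirected ↥𝒵 (· ≤ ·) := ⟨fun a b => ⟨⟨a.1 ⊔ b.1, hdir a.1 a.2 b.1 b.2⟩,
    (show a.1 ≤ a.1 ⊔ b.1 from le_sup_left), (show b.1 ≤ a.1 ⊔ b.1 from le_sup_right)⟩⟩
  obtain ⟨hc⟩ := cc_isColimit (𝒵 := 𝒵) (K := K) hK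
  intro y
  obtain ⟨h1, -⟩ := ColimCoh.surj_inj (qcqs_of_noetherian (⊤ : Opens X)) p (DD 𝒵 K) (cc 𝒵 K) hc ⊤
    (NoetherianSpace.isCompact _) le_rfl
  obtain ⟨i, x, hx⟩ := h1 y
  have hx0 : x = 0 := hp i.1 i.2 _ (suppOn_GamZ i.1 K) x
  subst hx0
  exact hx.symm.trans (Abelian.Ext.zero_comp _ _ _ _ _)

end Colim

end Groth.Agent.Lib.GVDirH3
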