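import Mathlib
import Groth.Prelude
import Groth.Agent.Lib.GVDir_helper3
import Groth.Agent.Lib.SecDer_helper2
import Groth.Agent.Lib.FAcyc_helper9

/-!
# Grothendieck vanishing for modules whose support has pointwise codimension `≥ c` (helper3)

* `exists_closed_support`: on a Noetherian quasi-sober space every local section of an abelian sheaf
  vanishes outside a closed subset all of whose points are specializations of points at which the
  section does not vanish in any neighbourhood.
* `HV_of_codim`: `Y` a Noetherian scheme of dimension `≤ g`, `M` an `O_Y`-module (arbitrary) such that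
  every point of its support has local dimension `≥ c`; then `H^p(Y, M) = 0` for `p + c > g`.
* `isZero_rightDerived_of_HV`: translation to the derived functors of global sections on modules.
-/

set_option autoImplicit false
set_option linter.all false
set_option maxHeartbeats 1600000
set_option backward.isDefEq.respectTransparency.types false

universe u
open CategoryTheory CategoryTheory.Limits TopologicalSpace Opposite AlgebraicGeometry

namespace Groth.Agent.Lib.GVCodimH3

open Groth.Agent.Lib Groth.Agent.Lib.Cech Groth.Agent.Lib.FreeSheaf Groth.Agent.Lib.GVanH2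

section Top

variable {X : TopCat.{u}}

/-- every local section vanishes outside a closed subset all of whose points are specializations of
points where the section does not vanish locally -/
theorem exists_closed_support [NoetherianSpace X] [QuasiSober X] (K : CohTop.Ab X) {V : Opens X}
    (t : K.obj.obj (op V)) :
    ∃ Z : Closeds X, res K.obj (inf_le_left : V ⊓ Z.compl ≤ V) t = 0 ∧
      ∀ z ∈ Z, ∃ w ∈ V, w ⤳ z ∧ ∀ (W : Opens X) (hW : W ≤ V), w ∈ W → res K.obj hW t ≠ 0 := by
  classical
  let 𝒲 : Set (Opens X) := {W | ∃ h : W ≤ V, res K.obj h t = 0}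
  let W₀ : Opens X := sSup 𝒲
  have hW₀V : W₀ ≤ V := sSup_le (fun W hW => hW.1)
  have hW₀ : res K.obj hW₀V t = 0 := by
    apply eq_zero_of_locally
    intro x hx
    obtain ⟨W, hW, hxW⟩ := Opens.mem_sSup.mp hx
    refine ⟨W, le_sSup hW, hxW, ?_⟩
    rw [res_res]
    exact hW.2
  have hmem : ∀ (W : Opens X) (hW : W ≤ V), res K.obj hW t = 0 → W ≤ W₀ :=
    fun W hW h => le_sSup ⟨hW, h⟩
  obtain ⟨𝒯, h𝒯f, h𝒯c, h𝒯i, h𝒯⟩ :=
    NoetherianSpace.exists_finite_set_isClosed_irreducible
      (W₀.isOpen.isClosed_compl : IsClosed ((W₀ : Set X)ᶜ))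
  let S : Set X := (V : Set X) \ (W₀ : Set X)
  refine ⟨⟨closure S, isClosed_closure⟩, ?_, ?_⟩
  · have hle : V ⊓ (⟨closure S, isClosed_closure⟩ : Closeds X).compl ≤ W₀ := by
      intro x hx
      by_contra hxW
      exact hx.2 (subset_closure ⟨hx.1, hxW⟩)
    have h1 := congrArg (res K.obj hle) hW₀
    rw [res_res, map_zero] at h1
    exact h1
  · intro z hz
    have hz' : z ∈ closure S := hz
    -- `S ⊆ ⋃ T ∈ 𝒯, closure (T ∩ V)`
    have hcl : IsClosed (⋃ T ∈ 𝒯, closure (T ∩ (V : Set X))) :=
      h𝒯f.isClosed_biUnion (fun T _ => isClosed_closure)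
    have hsub : S ⊆ ⋃ T ∈ 𝒯, closure (T ∩ (V : Set X)) := by
      intro x hx
      have hxc : x ∈ ((W₀ : Set X)ᶜ) := hx.2
      rw [h𝒯] at hxc
      obtain ⟨T, hT, hxT⟩ := hxc
      exact Set.mem_biUnion hT (subset_closure ⟨hxT, hx.1⟩)
    have hz'' := closure_minimal hsub hcl hz'
    obtain ⟨T, hT, hzT⟩ := Set.mem_iUnion₂.mp hz''
    have hne : (T ∩ (V : Set X)).Nonempty := by
      by_contra hempty
      rw [Set.not_nonempty_iff_eq_empty] at hempty
      rw [hempty, closure_empty] at hzT
      exact hzT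
    have hgen : IsGenericPoint (h𝒯i T hT).genericPoint T :=
      (h𝒯i T hT).isGenericPoint_genericPoint (h𝒯c T hT)
    have hηV : (h𝒯i T hT).genericPoint ∈ (V : Set X) :=
      (hgen.mem_open_set_iff V.isOpen).2 hne
    have hηT : (h𝒯i T hT).genericPoint ∈ T := hgen.mem
    refine ⟨(h𝒯i T hT).genericPoint, hηV, ?_, ?_⟩
    · apply hgen.specializes
      exact closure_minimal Set.inter_subset_left (h𝒯c T hT) hzT
    · intro W hW hηW h0
      have h1 : (h𝒯i T hT).genericPoint ∈ (W₀ : Set X) := hmem W hW h0 hηW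
      have h2 : (h𝒯i T hT).genericPoint ∈ ((W₀ : Set X)ᶜ) := by
        rw [h𝒯]
        exact ⟨T, hT, hηT⟩
      exact h2 h1

end Top

section Dim

open Order

variable {Y : Type u} [TopologicalSpace Y] [QuasiSober Y] [T0Space Y]

/-- coheight of a point for the specialization order -/
noncomputable abbrev coht (Y : Type u) [TopologicalSpace Y] [T0Space Y] (z : Y) : ℕ∞ :=
  @Order.coheight Y (specializationOrder Y).toPreorder z

/-- the dimension of a closed subset all of whose points have coheight `≥ c` -/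
theorem length_add_le (Z : Closeds Y) (c g : ℕ)
    (hg : topologicalKrullDim Y ≤ (g : WithBot ℕ∞))
    (hZ : ∀ z ∈ Z, (c : ℕ∞) ≤ coht Y z)
    (l : LTSeries {T : IrreducibleCloseds Y // (T : Set Y) ⊆ (Z : Set Y)}) :
    l.length + c ≤ g := by
  letI : PartialOrder Y := specializationOrder Y
  let l' : LTSeries (IrreducibleCloseds Y) := l.map Subtype.val (fun _ _ h => h)
  have h1 : (l'.length : ℕ∞) ≤ height l'.last := length_le_height_last
  have hlen : l'.length = l.length := rfl
  let T : IrreducibleCloseds Y := l'.last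
  have hTZ : (T : Set Y) ⊆ (Z : Set Y) := by
    have : l'.last = l.last.1 := LTSeries.last_map _ _ _
    show ((l'.last : IrreducibleCloseds Y) : Set Y) ⊆ _
    rw [this]
    exact l.last.2
  let z : Y := irreducibleSetEquivPoints T
  have hzT : z ∈ (T : Set Y) := (T.2.isGenericPoint_genericPoint T.3).mem
  have h2 : (c : ℕ∞) ≤ coheight T := by
    have := hZ z (hTZ hzT)
    rwa [show coht Y z = coheight T from coheight_orderIso irreducibleSetEquivPoints T] at this
  haveI : Nonempty (IrreducibleCloseds Y) := ⟨T⟩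
  have h3 : ((height T + coheight T : ℕ∞) : WithBot ℕ∞) ≤ krullDim (IrreducibleCloseds Y) := by
    rw [krullDim_eq_iSup_height_add_coheight_of_nonempty]
    exact WithBot.coe_le_coe.mpr (le_iSup (fun a : IrreducibleCloseds Y => height a + coheight a) T)
  have h4 : ((l.length + c : ℕ) : ℕ∞) ≤ height T + coheight T := by
    push_cast
    rw [← hlen]
    exact add_le_add h1 h2
  have h5 : ((l.length + c : ℕ) : ℕ∞) ≤ (g : ℕ∞) :=
    WithBot.coe_le_coe.mp ((WithBot.coe_le_coe.mpr h4).trans (h3.trans hg))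
  exact (Nat.cast_le (α := ℕ∞)).mp h5

theorem dimC_lt (Z : Closeds Y) (c g p : ℕ)
    (hg : topologicalKrullDim Y ≤ (g : WithBot ℕ∞))
    (hZ : ∀ z ∈ Z, (c : ℕ∞) ≤ coht Y z) (hp : g < p + c) :
    Order.krullDim {T : IrreducibleCloseds Y // (T : Set Y) ⊆ (Z : Set Y)} <
      (p : WithBot ℕ∞) := by
  rcases p with _ | q
  · -- no chains at all
    haveI : IsEmpty {T : IrreducibleCloseds Y // (T : Set Y) ⊆ (Z : Set Y)} := by
      refine ⟨fun T => ?_⟩
      have := length_add_le Z c g hg hZ (RelSeries.singleton _ T)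
      simp at this
      omega
    rw [Order.krullDim_eq_bot]
    exact WithBot.bot_lt_coe _
  · have hle : Order.krullDim {T : IrreducibleCloseds Y // (T : Set Y) ⊆ (Z : Set Y)} ≤
        (q : WithBot ℕ∞) := by
      rw [Order.krullDim]
      apply iSup_le
      intro l
      have := length_add_le Z c g hg hZ l
      have h : l.length ≤ q := by omega
      exact (Nat.cast_le (α := WithBot ℕ∞)).mpr h
    refine lt_of_le_of_lt hle ?_
    exact (Nat.cast_lt (α := WithBot ℕ∞)).mpr (Nat.lt_succ_self q)

end Dim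

section Sch

variable {Y : Scheme.{u}}

/-- a section which does not vanish near a point has a nonzero stalk there -/
theorem mem_support_of_res_ne_zero (M : Y.Modules) {V : Y.Opens} (t : (Coh.toAb M).obj.obj (op V))
    (w : Y) (hwV : w ∈ V)
    (h : ∀ (W : Y.Opens) (hW : W ≤ V), w ∈ W → res (Coh.toAb M).obj hW t ≠ 0) :
    w ∈ CohB1.support M := by
  intro hsub
  have h0 : (TopCat.Presheaf.germ M.presheaf V w hwV).hom t =
      (TopCat.Presheaf.germ M.presheaf V w hwV).hom 0 := @Subsingleton.elim _ hsub _ _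
  obtain ⟨W, hwW, i₁, i₂, heq⟩ := TopCat.Presheaf.germ_eq M.presheaf w hwV hwV t 0 h0
  refine h W (leOfHom i₁) hwW ?_
  have : (M.presheaf.map i₁.op).hom t = (M.presheaf.map i₂.op).hom 0 := heq
  rw [map_zero] at this
  exact this

/-- **Grothendieck vanishing under a pointwise codimension condition on the support.** -/
theorem HV_of_codim [IsNoetherian Y] (g : ℕ) (hg : topologicalKrullDim Y ≤ (g : WithBot ℕ∞))
    (M : Y.Modules) (c : ℕ)
    (hM : ∀ y : Y, y ∈ CohB1.support M → (c : WithBot ℕ∞) ≤ ringKrullDim (Y.presheaf.stalk y))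
    (p : ℕ) (hp : g < p + c) : HV (X := Y.toTopCat) (Coh.toAb M) p := by
  haveI : NoetherianSpace Y.toTopCat := inferInstanceAs (NoetherianSpace Y)
  haveI : QuasiSober Y.toTopCat := inferInstanceAs (QuasiSober Y)
  haveI : T0Space Y.toTopCat := inferInstanceAs (T0Space Y)
  let 𝒵 : Set (Closeds Y.toTopCat) := {Z | ∀ z ∈ Z, (c : ℕ∞) ≤ coht Y.toTopCat z}
  have hco : ∀ y : Y, y ∈ CohB1.support M → (c : ℕ∞) ≤ coht Y.toTopCat y := by
    intro y hy
    have := hM y hy
    rw [ringKrullDim_stalk_eq_coheight] at this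
    exact WithBot.coe_le_coe.mp this
  refine Groth.Agent.Lib.GVDirH3.HV_of_directed (𝒵 := 𝒵) ⟨⊥, fun z hz => (Set.notMem_empty z hz).elim⟩
    ?_ ?_ p ?_
  · intro Z₁ h₁ Z₂ h₂ z hz
    rcases hz with hz | hz
    · exact h₁ z hz
    · exact h₂ z hz
  · intro V t
    obtain ⟨Z, h0, hZ⟩ := exists_closed_support (X := Y.toTopCat) (Coh.toAb M) t
    refine ⟨Z, ?_, h0⟩
    intro z hz
    obtain ⟨w, hwV, hwz, hw⟩ := hZ z hz
    have hwS : w ∈ CohB1.support M := mem_support_of_res_ne_zero M t w hwV hw
    have hzw : @LE.le Y.toTopCat (specializationOrder Y.toTopCat).toLE z w := hwz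
    exact (hco w hwS).trans
      (@Order.coheight_anti Y.toTopCat (specializationOrder Y.toTopCat).toPreorder _ _ hzw)
  · intro Z hZ N hN
    exact Groth.Agent.Lib.GVanH2.main p Z (dimC_lt (Y := Y.toTopCat) Z c g p hg hZ hp) N hN p le_rfl

/-- translation of `HV` into vanishing of the derived functors of global sections on modules -/
theorem isZero_rightDerived_of_HV [HasInjectiveResolutions Y.Modules] (N : Y.Modules) (q : ℕ)
    (h : HV (X := Y.toTopCat) (Coh.toAb N) q) :
    IsZero (((DCoh.gammaAb Y).rightDerived q).obj N) := by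
  obtain ⟨e⟩ := Groth.Agent.Lib.SecDer.nonempty_rightDerived_iso (X := Y) ⊤ q
  change IsZero (((Groth.Agent.Lib.SecCx.Γf (⊤ : Y.Opens)).rightDerived q).obj N)
  refine IsZero.of_iso ?_ (e.app N)
  refine IsZero.of_iso ?_ (Groth.Agent.Lib.SectionsDer.sectionsRightDerivedIso
    (Opens.grothendieckTopology Y) ⊤ q ((SheafOfModules.toSheaf Y.ringCatSheaf).obj N))
  haveI : Subsingleton (Sheaf.H' ((SheafOfModules.toSheaf Y.ringCatSheaf).obj N) q
      (⊤ : Y.Opens)) := ⟨fun a b => (h a).trans (h b).symm⟩
  exact AddCommGrpCat.isZero_of_subsingleton _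

end Sch

end Groth.Agent.Lib.GVCodimH3
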