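import Mathlib
import Groth.Prelude
import Groth.Agent.Lib.StalkTens2_helper3
import Groth.Agent.Lib.StalkSky2_lead
import Groth.Agent.Lib.FLF2_helper8
import Groth.Agent.Lib.CycLen8_helper8

/-!
# Tensoring with a finite locally free module with nonzero stalks reflects zero objects (helper8)
APPEND-ONLY once landed.
-/

set_option autoImplicit false
universe u

namespace Groth.Agent.Lib.ResDescH8

open AlgebraicGeometry CategoryTheory CategoryTheory.Limits TopologicalSpace Opposite TensorProduct
open Groth.Agent.Lib.StalkTensH3 MonoidalCategory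

section Alg

theorem subsingleton_tensor_of_right {R M N : Type*} [CommRing R] [AddCommGroup M] [Module R M]
    [AddCommGroup N] [Module R N] [Subsingleton N] : Subsingleton (M ⊗[R] N) := by
  refine ⟨fun a b => ?_⟩
  have h0 : ∀ p : M ⊗[R] N, p = 0 := by
    intro p
    refine TensorProduct.induction_on p rfl (fun m n => ?_) (fun x y hx hy => ?_)
    · rw [Subsingleton.elim n 0, TensorProduct.tmul_zero]
    · rw [hx, hy, add_zero]
  rw [h0 a, h0 b]

theorem subsingleton_tensor_of_left {R M N : Type*} [CommRing R] [AddCommGroup M] [Module R M]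
    [AddCommGroup N] [Module R N] [Subsingleton M] : Subsingleton (M ⊗[R] N) := by
  refine ⟨fun a b => ?_⟩
  have h0 : ∀ p : M ⊗[R] N, p = 0 := by
    intro p
    refine TensorProduct.induction_on p rfl (fun m n => ?_) (fun x y hx hy => ?_)
    · rw [Subsingleton.elim m 0, TensorProduct.zero_tmul]
    · rw [hx, hy, add_zero]
  rw [h0 a, h0 b]

end Alg

noncomputable section

variable {Y : Scheme.{u}} (C P : Y.Modules) (y : Y)

/-- the stalk of `C ⊗ P` as a tensor product, as a bijection -/
def stalkTensorEquiv :
    (CohB1.tensorMod C P).presheaf.stalk y ≃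
      (C.presheaf.stalk y) ⊗[Y.presheaf.stalk y] (P.presheaf.stalk y) :=
  (stalkTensorIso y C P).toLinearEquiv.toEquiv

theorem subsingleton_stalk_tensor_of_right [Subsingleton (P.presheaf.stalk y)] :
    Subsingleton ((CohB1.tensorMod C P).presheaf.stalk y) :=
  haveI : Subsingleton ((C.presheaf.stalk y) ⊗[Y.presheaf.stalk y] (P.presheaf.stalk y)) :=
    subsingleton_tensor_of_right
  (stalkTensorEquiv C P y).subsingleton

theorem subsingleton_stalk_tensor_of_left [Subsingleton (C.presheaf.stalk y)] :
    Subsingleton ((CohB1.tensorMod C P).presheaf.stalk y) :=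
  haveI : Subsingleton ((C.presheaf.stalk y) ⊗[Y.presheaf.stalk y] (P.presheaf.stalk y)) :=
    subsingleton_tensor_of_left
  (stalkTensorEquiv C P y).subsingleton

/-- if `P` is finite locally free with nonzero stalk at `y` and `(C ⊗ P)_y = 0` then `C_y = 0`. -/
theorem subsingleton_stalk_of_tensor (hP : FlatMod.IsFinLocFree P)
    [Nontrivial (P.presheaf.stalk y)]
    [h : Subsingleton ((CohB1.tensorMod C P).presheaf.stalk y)] :
    Subsingleton (C.presheaf.stalk y) := by
  haveI : P.IsQuasicoherent := FLFH8.isQuasicoherent_of_finLocFree P hP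
  haveI : Module.Free (Y.presheaf.stalk y) (P.presheaf.stalk y) :=
    FLFH8.free_stalk_of_finLocFree P hP y
  haveI : Subsingleton ((C.presheaf.stalk y) ⊗[Y.presheaf.stalk y] (P.presheaf.stalk y)) :=
    (stalkTensorEquiv C P y).symm.subsingleton
  exact (Module.FaithfullyFlat.subsingleton_tensorProduct_iff_left (Y.presheaf.stalk y)
    (C.presheaf.stalk y) (N := P.presheaf.stalk y)).mp inferInstance

/-- **Tensoring with a finite locally free module with nonzero stalks reflects zero objects.** -/
theorem isZero_of_isZero_tensor (hP : FlatMod.IsFinLocFree P)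
    (hnz : ∀ y : Y, Nontrivial (P.presheaf.stalk y)) (h : IsZero (CohB1.tensorMod C P)) :
    IsZero C := by
  apply Groth.Agent.Lib.StalkSkyL.isZero_of_forall_stalk
  intro y
  haveI := hnz y
  haveI : Subsingleton ((CohB1.tensorMod C P).presheaf.stalk y) :=
    CycLenH8.subsingleton_stalk_of_isZero h y
  exact subsingleton_stalk_of_tensor C P y hP

end

end Groth.Agent.Lib.ResDescH8
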