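import Mathlib
import Groth.Prelude
import Groth.Agent.Lib.FMWit3_helper3
import Groth.Agent.Lib.GVCodim_helper3
import Groth.Agent.Lib.ResDesc1_helper8
import Groth.Agent.Lib.PerfFlat1_lead
import Groth.Agent.Lib.StalkFlatSch_helper2

/-!
# Vanishing of `H^i(X, Ψ_P(N) ⊗^L F)` for a `GV_{k'}`-object `F` (helper3; S16377)

For `Y` of finite type over a field of dimension `≤ g`, `F` perfect on `X` with `R^iΦ_P(F) = 0`
for `i < 0` and `codim Supp R^iΦ_P(F) ≥ i - k'`, and `N` finite locally free on `Y`: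
`H^i(X, Ψ_P(N) ⊗^L F) = 0` for `i < 0` and for `i > g + k'`.  Proof: the exchange formula
`RΓ(X, Ψ_P(N) ⊗^L F) ≅ RΓ(Y, Φ_P(F) ⊗^L N)` (`FMSwapH3.main16375`), way-out vanishing for
hypercohomology (`HyperCohAcycH3.wayout`) and Grothendieck vanishing with a codimension condition
on the support (`GVCodimH3.HV_of_codim`).
-/

set_option autoImplicit false
set_option linter.all false
set_option maxHeartbeats 1600000
set_option backward.isDefEq.respectTransparency false
set_option backward.isDefEq.respectTransparency.types false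
set_option backward.defeqAttrib.useBackward true

universe u
open CategoryTheory CategoryTheory.Limits AlgebraicGeometry Opposite

attribute [local instance] HasDerivedCategory.standard

namespace Groth.Agent.Lib.FMWitH3

open DerivedCategory Groth.Agent.Lib.DCohLocLead Groth.Agent.Lib.LpullLocH3
  Groth.Agent.Lib.LpullTensH3

noncomputable section

section Tens

variable {Y : Scheme.{u}}

theorem isKFlat_sgl_flf (N : Y.Modules) (hN : FlatMod.IsFinLocFree N) : DCoh.IsKFlat (sgl N) :=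
  isKFlat_of_isStrictlyPerfect (Groth.Agent.Lib.PerfLocL.isStrictlyPerfect_single 0 N hN)

theorem isPerfect_sgl_flf (N : Y.Modules) (hN : FlatMod.IsFinLocFree N) :
    DCoh.IsPerfect (DCoh.toD Y (sgl N)) :=
  isPerfect_Q_obj _ (Groth.Agent.Lib.PerfLocL.isStrictlyPerfect_single 0 N hN)

theorem pfl_flf (N : Y.Modules) (hN : FlatMod.IsFinLocFree N) :
    PreservesFiniteLimits ((DCoh.tensorBi (X := Y)).flip.obj N) :=
  (Groth.Agent.Lib.StalkFlatSch.isFlat_of_flatMod N (isFlat_of_isFinLocFree hN)).1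

/-- `H^j(G ⊗^L N[0]) ≅ H^j(G) ⊗ N` for a finite locally free module `N` -/
theorem nonempty_HD_tens_iso_flf (N : Y.Modules) (hN : FlatMod.IsFinLocFree N)
    [DCoh.HasLTensorCx (sgl N)] (G : DCoh.D Y) (j : ℤ) :
    Nonempty (DCoh.HD ((DCoh.LTensorCx (sgl N)).obj G) j ≅
      CohB1.tensorMod (DCoh.HD G j) N) := by
  have hK : DCoh.IsKFlat (sgl N) := isKFlat_sgl_flf N hN
  let G₀ := Q.objPreimage G
  let eG : Q.obj G₀ ≅ G := Q.objObjPreimageIso G
  let Fl := (DCoh.tensorBi (X := Y)).flip.obj N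
  haveI : PreservesFiniteLimits Fl := pfl_flf N hN
  haveI : PreservesFiniteColimits Fl := Groth.Agent.Lib.TorApproxH3.pfc_tensorBi_flip N
  let a : (DCoh.LTensorCx (sgl N)).obj G ≅ Q.obj ((DCoh.tensorCx.obj G₀).obj (sgl N)) :=
    (DCoh.LTensorCx (sgl N)).mapIso eG.symm ≪≫ ltIsoRight (sgl N) G₀ hK
  let b : (DCoh.tensorCx.obj G₀).obj (sgl N) ≅
      (Fl.mapHomologicalComplex (ComplexShape.up ℤ)).obj G₀ :=
    ((Groth.Agent.Lib.RUnitCxH3.singleNatIso (DCoh.tensorBi (X := Y)) N).app G₀).symm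
  let c : ((Fl.mapHomologicalComplex (ComplexShape.up ℤ)).obj G₀).homology j ≅
      Fl.obj (G₀.homology j) := (G₀.sc j).mapHomologyIso Fl
  let d : G₀.homology j ≅ DCoh.HD G j :=
    ((homologyFunctorFactors Y.Modules j).app G₀).symm ≪≫
      (homologyFunctor Y.Modules j).mapIso eG
  exact ⟨(homologyFunctor Y.Modules j).mapIso (a ≪≫ Q.mapIso b) ≪≫
    (homologyFunctorFactors Y.Modules j).app _ ≪≫ c ≪≫ Fl.mapIso d⟩

/-- `Supp(M ⊗ N) ⊆ Supp(M)` -/
theorem support_tensorMod_subset (M N : Y.Modules) :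
    CohB1.support (CohB1.tensorMod M N) ⊆ CohB1.support M := by
  intro y hy hM
  apply hy
  haveI : Subsingleton (M.presheaf.stalk y) := hM
  exact Groth.Agent.Lib.ResDescH8.subsingleton_stalk_tensor_of_left M N y

end Tens

variable {k : Type u} [Field k] {X Y : Scheme.{u}} (a : X ⟶ Spec (CommRingCat.of k))
  (b : Y ⟶ Spec (CommRingCat.of k)) [LocallyOfFiniteType b] [QuasiCompact b]

/-- **vanishing outside `[0, g + k']` for `GV_{k'}`-objects** -/
theorem main16377 (g : ℕ) (hg : topologicalKrullDim ↥Y ≤ (g : WithBot ℕ∞))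
    (P : CochainComplex (pullback a b).Modules ℤ)
    [DCoh.HasLpull (pullback.fst a b)] [DCoh.HasLpull (pullback.snd a b)] [DCoh.HasLTensorCx P]
    [DCoh.HasRpush (pullback.fst a b)] [DCoh.HasRpush (pullback.snd a b)] [DCoh.HasRΓ X]
    (k' : ℕ) (F : CochainComplex X.Modules ℤ) (hF : DCoh.IsPerfect (DCoh.toD X F))
    [DCoh.HasLTensorCx F]
    (hneg : ∀ i : ℤ, i < 0 → IsZero (DCoh.HD ((FMK.phi a b P).obj (DCoh.toD X F)) i))
    (hcodim : ∀ (i : ℕ) (y : ↥Y),
      y ∈ CohB1.support (DCoh.HD ((FMK.phi a b P).obj (DCoh.toD X F)) (i : ℤ)) →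
      ((i - k' : ℕ) : WithBot ℕ∞) ≤ ringKrullDim ↑(Y.presheaf.stalk y))
    (N : Y.Modules) (hN : FlatMod.IsFinLocFree N) (i : ℤ) (hi : i < 0 ∨ (g : ℤ) + k' < i) :
    IsZero ((DerivedCategory.homologyFunctor AddCommGrpCat.{u} i).obj ((DCoh.RΓ X).obj
      ((DCoh.LTensorCx F).obj ((DCoh.Lpull (pullback.snd a b) ⋙ DCoh.LTensorCx P ⋙
        DCoh.Rpush (pullback.fst a b)).obj (DCoh.inD Y N))))) := by
  haveI : IsLocallyNoetherian Y := LocallyOfFiniteType.isLocallyNoetherian b
  haveI : CompactSpace Y := QuasiCompact.compactSpace_of_compactSpace b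
  haveI : IsNoetherian Y := {}
  haveI : Flat a := inferInstance
  haveI : Flat b := inferInstance
  haveI := Groth.Agent.Lib.MVPushL.grothendieck_modules Y
  haveI : DCoh.HasRΓ Y :=
    (OrthDeriv.main (P := HomotopyCategory.subcategoryAcyclic Y.Modules)
      (HomotopyCategory.quasiIso Y.Modules (ComplexShape.up ℤ))
      (HomotopyCategory.quasiIso_eq_trW_subcategoryAcyclic _)
      Groth.Agent.Lib.KInjGen8.hP DerivedCategory.Qh (DCoh.gammaKh Y)).1
  haveI : DCoh.HasLTensorCx (sgl N) := Groth.Agent.Lib.LTensExH3.hasLTensorCx _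
  have eH := fun j => nonempty_HD_tens_iso_flf N hN ((FMK.phi a b P).obj (DCoh.toD X F)) j
  have hzK : ∀ j : ℤ, j < 0 →
      IsZero (DCoh.HD ((DCoh.LTensorCx (sgl N)).obj
        ((FMK.phi a b P).obj (DCoh.toD X F))) j) := by
    intro j hj
    obtain ⟨e⟩ := eH j
    exact (isZero_tensorMod_of_isZero _ (hneg j hj)).of_iso e
  haveI : ((DCoh.LTensorCx (sgl N)).obj ((FMK.phi a b P).obj (DCoh.toD X F))).IsGE 0 :=
    (isGE_iff _ 0).2 (fun j hj => hzK j hj)
  have hv : ∀ (j : ℤ) (p : ℕ), j + p = i →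
      IsZero (((DCoh.gammaAb Y).rightDerived p).obj ((homologyFunctor Y.Modules j).obj
        ((DCoh.LTensorCx (sgl N)).obj ((FMK.phi a b P).obj (DCoh.toD X F))))) := by
    intro j p hjp
    by_cases hj : j < 0
    · exact ((DCoh.gammaAb Y).rightDerived p).map_isZero (hzK j hj)
    · obtain ⟨jn, rfl⟩ := Int.eq_ofNat_of_zero_le (not_lt.mp hj)
      obtain ⟨e⟩ := eH (jn : ℤ)
      have hgi : (g : ℤ) + k' < i := by
        rcases hi with hi | hi
        · omega
        · exact hi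
      have hp : g < p + (jn - k') := by omega
      have hsupp : ∀ y : Y, y ∈ CohB1.support (CohB1.tensorMod
          (DCoh.HD ((FMK.phi a b P).obj (DCoh.toD X F)) (jn : ℤ)) N) →
          ((jn - k' : ℕ) : WithBot ℕ∞) ≤ ringKrullDim (Y.presheaf.stalk y) :=
        fun y hy => hcodim jn y (support_tensorMod_subset _ _ hy)
      have h1 := Groth.Agent.Lib.GVCodimH3.HV_of_codim g hg _ (jn - k') hsupp p hp
      have h2 := Groth.Agent.Lib.GVCodimH3.isZero_rightDerived_of_HV _ p h1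
      exact h2.of_iso (((DCoh.gammaAb Y).rightDerived p).mapIso e)
  have h0 := Groth.Agent.Lib.HyperCohAcycH3.wayout (DCoh.gammaAb Y)
    ((DCoh.LTensorCx (sgl N)).obj ((FMK.phi a b P).obj (DCoh.toD X F))) 0 i hv
  obtain ⟨ex⟩ := Groth.Agent.Lib.FMSwapH3.main16375 a b P F hF (sgl N) (isPerfect_sgl_flf N hN)
  exact h0.of_iso ((homologyFunctor AddCommGrpCat.{u} i).mapIso ex)

end

end Groth.Agent.Lib.FMWitH3
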