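import Mathlib
import Groth.Prelude
import Groth.Agent.Lib.ModColim1_helper8
import Groth.Agent.Lib.QCohCrit2_helper9

/-!
# Direct images under affine morphisms commute with directed colimits of modules

* `exists_rep_affine`: over an affine open, every section of a directed colimit of `O_X`-modules
  comes from a stage (gluing over a finite cover by basic opens, whose pairwise intersections are
  again basic opens, hence quasi-compact).
* `isIso_desc_pushforward`: for `f` affine, `colim f_* D_j ⟶ f_* colim D_j` is an isomorphism.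
* `main`: the same in the category of modules over the direct-image algebra.
-/

set_option autoImplicit false
set_option linter.all false
set_option maxHeartbeats 1600000
set_option backward.isDefEq.respectTransparency false
set_option backward.isDefEq.respectTransparency.types false
set_option backward.defeqAttrib.useBackward true

universe u

open CategoryTheory CategoryTheory.Limits AlgebraicGeometry Opposite TopologicalSpace

namespace Groth.Agent.Lib.PushColimL

section sections

variable {X : Scheme.{u}} {J : Type u} [Preorder J] [Nonempty J] [IsDirected J (· ≤ ·)]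
  (D : J ⥤ X.Modules) (c : Cocone D) (hc : IsColimit c)

include hc

/-- Over an affine open, every section of a directed colimit of modules comes from a stage. -/
theorem exists_rep_affine (V : X.Opens) (hV : IsAffineOpen V) (t : c.pt.presheaf.obj (op V)) :
    ∃ (i : J) (s : (D.obj i).presheaf.obj (op V)), (c.ι.app i).app V s = t := by
  classical
  obtain ⟨hc'⟩ := ModColimH8.isColimit_mapCocone D c hc
  choose W hW i s hxW hs using fun (x : V) =>
    Groth.Agent.ShColim5.locally_surj (D ⋙ ModColimH8.toSetSheaf X)
      ((ModColimH8.toSetSheaf X).mapCocone c) hc' V t x.1 x.2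
  choose a ha hxa using fun (x : V) => hV.exists_basicOpen_le (V := W x) ⟨x.1, hxW x⟩ x.2
  obtain ⟨T, hT⟩ := hV.isCompact.elim_finite_subcover
    (fun x : V => ((X.basicOpen (a x) : X.Opens) : Set X))
    (fun x => (X.basicOpen (a x)).isOpen)
    (fun y hy => Set.mem_iUnion.mpr ⟨⟨y, hy⟩, hxa ⟨y, hy⟩⟩)
  have hcov : V ≤ ⨆ j : T, X.basicOpen (a j.1) := by
    intro y hy
    obtain ⟨x, hxT, hyx⟩ := Set.mem_iUnion₂.mp (hT hy)
    exact Opens.mem_iSup.mpr ⟨⟨x, hxT⟩, hyx⟩
  have hcp : ∀ (j l : T),
      IsCompact (((X.basicOpen (a j.1) ⊓ X.basicOpen (a l.1) : X.Opens)) : Set X) := by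
    intro j l
    rw [← Scheme.basicOpen_mul]
    exact (hV.basicOpen _).isCompact
  obtain ⟨K, s', hs'⟩ := Groth.Agent.ShColim5.glue_fin (F := D ⋙ ModColimH8.toSetSheaf X)
    (c := (ModColimH8.toSetSheaf X).mapCocone c) hc' (ι := T) V t
    (fun j => X.basicOpen (a j.1))
    (fun j => X.basicOpen_le _) hcov
    (fun j => i j.1)
    (fun j => ((D ⋙ ModColimH8.toSetSheaf X).obj (i j.1)).obj.map (homOfLE (ha j.1)).op (s j.1))
    (fun j => (Groth.Agent.ShColim5.lam_res (F := D ⋙ ModColimH8.toSetSheaf X)
        (c := (ModColimH8.toSetSheaf X).mapCocone c) (i j.1) (ha j.1) (s j.1)).trans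
      ((congrArg _ (hs j.1)).trans
        (Groth.Agent.ShColim5.res_res ((ModColimH8.toSetSheaf X).mapCocone c).pt (ha j.1) (hW j.1) t)))
    (fun j l k p q hpq => Groth.Agent.ShColim5.eq_of_compact (D ⋙ ModColimH8.toSetSheaf X)
      ((ModColimH8.toSetSheaf X).mapCocone c) hc' k _ (hcp j l) p q hpq)
  exact ⟨K, s', hs'⟩

end sections

section push

variable {X S : Scheme.{u}} (f : X ⟶ S) [IsAffineHom f]
  {J : Type u} [Preorder J] [Nonempty J] [IsDirected J (· ≤ ·)]
  (D : J ⥤ X.Modules)

/-- For `f` affine, `colim f_* D_j ⟶ f_* colim D_j` is an isomorphism (directed colimits). -/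
theorem isIso_desc_pushforward (c : Cocone D) (hc : IsColimit c)
    (c' : Cocone (D ⋙ Scheme.Modules.pushforward f)) (hc' : IsColimit c') :
    IsIso (hc'.desc ((Scheme.Modules.pushforward f).mapCocone c)) := by
  have hfac : ∀ j, c'.ι.app j ≫ hc'.desc ((Scheme.Modules.pushforward f).mapCocone c) =
      (Scheme.Modules.pushforward f).map (c.ι.app j) := fun j => hc'.fac _ j
  generalize hc'.desc ((Scheme.Modules.pushforward f).mapCocone c) = φ at hfac ⊢
  refine QCohCrit.isIso_of_isIso_app_basis φ (fun V : S.affineOpens => (V : S.Opens)) ?_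
    (fun V => ?_)
  · rw [Subtype.range_coe]
    exact S.isBasis_affineOpens
  · have hVX : IsAffineOpen (f ⁻¹ᵁ V.1) := V.2.preimage f
    refine (ConcreteCategory.isIso_iff_bijective _).mpr ⟨?_, ?_⟩
    · refine (injective_iff_map_eq_zero (φ.app V.1).hom).mpr ?_
      intro u hu
      obtain ⟨j, s, rfl⟩ := exists_rep_affine (D ⋙ Scheme.Modules.pushforward f) c' hc' V.1 V.2 u
      have h1 : (c.ι.app j).app (f ⁻¹ᵁ V.1) s = 0 := by
        have := congrArg (fun ψ => Scheme.Modules.Hom.app ψ V.1 s) (hfac j)
        exact this.symm.trans hu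
      obtain ⟨j', hjj', h2⟩ := ModColimH8.eq_zero_of_compact D c hc j (f ⁻¹ᵁ V.1)
        hVX.isCompact s h1
      have h3 : c'.ι.app j =
          (D ⋙ Scheme.Modules.pushforward f).map (homOfLE hjj') ≫ c'.ι.app j' :=
        (c'.w (homOfLE hjj')).symm
      have h4 := congrArg (fun ψ => Scheme.Modules.Hom.app ψ V.1 s) h3
      refine h4.trans ?_
      show (c'.ι.app j').app V.1 ((D.map (homOfLE hjj')).app (f ⁻¹ᵁ V.1) s) = 0
      rw [h2]
      exact map_zero ((c'.ι.app j').app V.1).hom
    · intro t
      obtain ⟨j, s, hs⟩ := exists_rep_affine D c hc (f ⁻¹ᵁ V.1) hVX t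
      refine ⟨(c'.ι.app j).app V.1 s, ?_⟩
      have := congrArg (fun ψ => Scheme.Modules.Hom.app ψ V.1 s) (hfac j)
      exact this.trans hs

/-- The direct image under an affine morphism, as a functor to modules over the direct-image
algebra, commutes with directed colimits. -/
theorem main : IsIso (colimit.desc (D ⋙ AMod.dirImg f)
    ((AMod.dirImg f).mapCocone (colimit.cocone D))) := by
  obtain ⟨hlim, hcolim, hrefl⟩ := Groth.Agent.Lib.ModSiteH8.restrictScalars_all
    (AMod.strHom (RelSpec.QCAlg.directImage f))
  haveI : PreservesColimitsOfSize.{u, u} (AMod.toOS (RelSpec.QCAlg.directImage f)) := hcolim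
  haveI : (AMod.toOS (RelSpec.QCAlg.directImage f)).ReflectsIsomorphisms := hrefl
  haveI : ReflectsColimitsOfSize.{u, u} (AMod.toOS (RelSpec.QCAlg.directImage f)) :=
    reflectsColimits_of_reflectsIsomorphisms
  haveI h0 : IsIso (colimit.post D (Scheme.Modules.pushforward f)) :=
    isIso_desc_pushforward f D (colimit.cocone D) (colimit.isColimit D) (colimit.cocone _)
      (colimit.isColimit _)
  haveI hp0 : PreservesColimit D (Scheme.Modules.pushforward f) := preservesColimit_of_isIso_post _ _
  haveI hp1 : PreservesColimit D (AMod.dirImg f ⋙ AMod.toOS (RelSpec.QCAlg.directImage f)) := hp0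
  haveI hp2 : PreservesColimit D (AMod.dirImg f) :=
    preservesColimit_of_reflects_of_preserves (AMod.dirImg f)
      (AMod.toOS (RelSpec.QCAlg.directImage f))
  show IsIso (colimit.post D (AMod.dirImg f))
  infer_instance

end push

end Groth.Agent.Lib.PushColimL
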