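import Mathlib
import Groth.Prelude
import Groth.Agent.Lib.PushColim1_lead

/-!
# Direct images under affine morphisms commute with arbitrary direct sums

* `preservesCoproduct_of_finite_of_directed`: a functor preserving finite coproducts and the
  directed colimit of the finite subcoproducts of a family preserves the coproduct of the family.
* `preservesColimit_pushforward`: `f_*` preserves directed colimits for `f` affine.
* `main_sigma`: the comparison morphism `⊕ f_* F_i ⟶ f_* ⊕ F_i` is an isomorphism in the category
  of modules over the direct-image algebra.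
-/

set_option autoImplicit false
set_option linter.all false
set_option maxHeartbeats 1600000
set_option backward.isDefEq.respectTransparency false
set_option backward.isDefEq.respectTransparency.types false
set_option backward.defeqAttrib.useBackward true

universe w' v₁ v₂ u₁ u₂ u

open CategoryTheory CategoryTheory.Limits AlgebraicGeometry Opposite TopologicalSpace

namespace Groth.Agent.Lib.PushColimL

section catlemma

open CoproductsFromFiniteFiltered

theorem preservesCoproduct_of_finite_of_directed {C : Type u₁} [Category.{v₁} C]
    {E : Type u₂} [Category.{v₂} E]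
    (P : C ⥤ E) {α : Type w'} (F : α → C) [HasFiniteCoproducts C] [HasCoproduct F]
    [HasColimitsOfShape (Finset (Discrete α)) C] [PreservesFiniteCoproducts P]
    [PreservesColimit (liftToFinsetObj (Discrete.functor F)) P] :
    PreservesColimit (Discrete.functor F) P := by
  classical
  let L := liftToFinsetObj (Discrete.functor F)
  let cL : Cocone L := finiteSubcoproductsCocone F
  have hL : IsColimit cL := isColimitFiniteSubproductsCocone F
  have hPL : IsColimit (P.mapCocone cL) := isColimitOfPreserves P hL
  let fS : ∀ S : Finset (Discrete α), {x // x ∈ S} → C :=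
    fun S x => (Discrete.functor F).obj x.1
  have hS : ∀ S : Finset (Discrete α),
      IsColimit (Cofan.mk (P.obj (∐ fS S)) fun x => P.map (Sigma.ι (fS S) x)) :=
    fun S => isColimitOfHasCoproductOfPreservesColimit P (fS S)
  have hleg : ∀ (S : Finset (Discrete α)) (x : {x // x ∈ S}),
      Sigma.ι (fS S) x ≫ cL.ι.app S = Sigma.ι F x.1.as := fun S x => Sigma.ι_desc _ _
  have hmap : ∀ {S S' : Finset (Discrete α)} (h : S ⟶ S') (x : {x // x ∈ S}),
      Sigma.ι (fS S) x ≫ L.map h = Sigma.ι (fS S') ⟨x.1, h.down.down x.2⟩ :=
    fun h x => Sigma.ι_desc _ _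
  have hPleg : ∀ (S : Finset (Discrete α)) (x : {x // x ∈ S}),
      P.map (Sigma.ι (fS S) x) ≫ P.map (cL.ι.app S) = P.map (Sigma.ι F x.1.as) := by
    intro S x; rw [← P.map_comp, hleg]
  have hPmap : ∀ {S S' : Finset (Discrete α)} (h : S ⟶ S') (x : {x // x ∈ S}),
      P.map (Sigma.ι (fS S) x) ≫ P.map (L.map h) =
        P.map (Sigma.ι (fS S') ⟨x.1, h.down.down x.2⟩) := by
    intro S S' h x; rw [← P.map_comp, hmap]
  let hh : ∀ (t : Cofan (fun i => P.obj (F i))) (S : Finset (Discrete α)),
      P.obj (∐ fS S) ⟶ t.pt :=
    fun t S => Cofan.IsColimit.desc (hS S) (fun x => t.inj x.1.as)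
  have hhfac : ∀ (t : Cofan (fun i => P.obj (F i))) (S : Finset (Discrete α))
      (x : {x // x ∈ S}), P.map (Sigma.ι (fS S) x) ≫ hh t S = t.inj x.1.as :=
    fun t S x => Cofan.IsColimit.fac (hS S) (fun x => t.inj x.1.as) x
  let cc : ∀ (t : Cofan (fun i => P.obj (F i))), Cocone (L ⋙ P) := fun t =>
    { pt := t.pt
      ι :=
        { app := fun S => hh t S
          naturality := by
            intro S S' h
            refine Cofan.IsColimit.hom_ext (hS S) _ _ (fun x => ?_)
            have e1 : P.map (Sigma.ι (fS S) x) ≫ (P.map (L.map h) ≫ hh t S') =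
                t.inj x.1.as := by
              rw [← Category.assoc, hPmap h x]; exact hhfac t S' _
            have e2 : P.map (Sigma.ι (fS S) x) ≫ (hh t S ≫ 𝟙 _) = t.inj x.1.as := by
              rw [Category.comp_id]; exact hhfac t S x
            exact e1.trans e2.symm } }
  have hmain : IsColimit (Cofan.mk (P.obj (∐ F)) fun i => P.map (Sigma.ι F i)) := by
    refine Cofan.IsColimit.mk _ (fun t => hPL.desc (cc t)) ?_ ?_
    · intro t i
      have hi : (Discrete.mk i) ∈ ({Discrete.mk i} : Finset (Discrete α)) :=
        Finset.mem_singleton_self _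
      have h1 : P.map (Sigma.ι (fS {Discrete.mk i}) ⟨Discrete.mk i, hi⟩) ≫
          P.map (cL.ι.app {Discrete.mk i}) = P.map (Sigma.ι F i) :=
        hPleg {Discrete.mk i} ⟨Discrete.mk i, hi⟩
      have h2 : P.map (cL.ι.app {Discrete.mk i}) ≫ hPL.desc (cc t) = hh t {Discrete.mk i} :=
        hPL.fac (cc t) ({Discrete.mk i} : Finset (Discrete α))
      show P.map (Sigma.ι F i) ≫ hPL.desc (cc t) = t.inj i
      rw [← h1, Category.assoc, h2]
      exact hhfac t _ _
    · intro t m hm
      refine hPL.uniq (cc t) m (fun S => ?_)
      refine Cofan.IsColimit.hom_ext (hS S) _ _ (fun x => ?_)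
      have e1 : P.map (Sigma.ι (fS S) x) ≫ (P.map (cL.ι.app S) ≫ m) = t.inj x.1.as := by
        rw [← Category.assoc, hPleg S x]; exact hm x.1.as
      exact e1.trans (hhfac t S x).symm
  exact preservesColimit_of_preserves_colimit_cocone (coproductIsCoproduct F)
    ((isColimitMapCoconeCofanMkEquiv P F _).symm hmain)

end catlemma

section push

variable {X S : Scheme.{u}} (f : X ⟶ S) [IsAffineHom f]

/-- `f_*` preserves directed colimits of modules for `f` affine. -/
theorem preservesColimit_pushforward {J : Type u} [Preorder J] [Nonempty J]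
    [IsDirected J (· ≤ ·)] (D : J ⥤ X.Modules) :
    PreservesColimit D (Scheme.Modules.pushforward f) := by
  haveI h0 : IsIso (colimit.post D (Scheme.Modules.pushforward f)) :=
    isIso_desc_pushforward f D (colimit.cocone D) (colimit.isColimit D) (colimit.cocone _)
      (colimit.isColimit _)
  exact preservesColimit_of_isIso_post _ _

/-- `f_*` preserves arbitrary coproducts of modules for `f` affine. -/
theorem preservesCoproduct_pushforward {ι : Type u} (F : ι → X.Modules) :
    PreservesColimit (Discrete.functor F) (Scheme.Modules.pushforward f) := by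
  classical
  haveI : IsDirected (Finset (Discrete ι)) (· ≤ ·) :=
    ⟨fun a b => ⟨a ∪ b, Finset.subset_union_left, Finset.subset_union_right⟩⟩
  haveI hq : PreservesColimit
      (CoproductsFromFiniteFiltered.liftToFinsetObj (Discrete.functor F))
      (Scheme.Modules.pushforward f) := preservesColimit_pushforward f _
  exact preservesCoproduct_of_finite_of_directed _ F

/-- The direct image under an affine morphism, as a functor to modules over the direct-image
algebra, commutes with arbitrary direct sums. -/
theorem main_sigma {ι : Type u} (F : ι → X.Modules) :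
    IsIso (sigmaComparison (AMod.dirImg f) F) := by
  obtain ⟨hlim, hcolim, hrefl⟩ := Groth.Agent.Lib.ModSiteH8.restrictScalars_all
    (AMod.strHom (RelSpec.QCAlg.directImage f))
  haveI : PreservesColimitsOfSize.{u, u} (AMod.toOS (RelSpec.QCAlg.directImage f)) := hcolim
  haveI : (AMod.toOS (RelSpec.QCAlg.directImage f)).ReflectsIsomorphisms := hrefl
  haveI : ReflectsColimitsOfSize.{u, u} (AMod.toOS (RelSpec.QCAlg.directImage f)) :=
    reflectsColimits_of_reflectsIsomorphisms
  haveI hp0 : PreservesColimit (Discrete.functor F) (Scheme.Modules.pushforward f) :=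
    preservesCoproduct_pushforward f F
  haveI hp1 : PreservesColimit (Discrete.functor F)
      (AMod.dirImg f ⋙ AMod.toOS (RelSpec.QCAlg.directImage f)) := hp0
  haveI hp2 : PreservesColimit (Discrete.functor F) (AMod.dirImg f) :=
    preservesColimit_of_reflects_of_preserves (AMod.dirImg f)
      (AMod.toOS (RelSpec.QCAlg.directImage f))
  infer_instance

end push

end Groth.Agent.Lib.PushColimL
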