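import Mathlib
import Groth.Agent.Lib.PushColim2_lead

/-!
# Functors on modules determined by finitely presented modules (lead)

Every `A`-module `M` is, canonically, a directed colimit of finitely presented modules
(`Idx`, `D`, `coc`, `isColimit_coc`), and every map from a finitely presented module to `M`
factors through a stage (`exists_factor`).  Consequently a functor `F'` on `A`-modules commuting
with filtered colimits whose restriction to finitely presented modules is additive is additive and
commutes with all small direct sums (`main`).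
-/

set_option autoImplicit false
set_option linter.all false
set_option maxHeartbeats 1600000
set_option backward.isDefEq.respectTransparency false
set_option backward.isDefEq.respectTransparency.types false
set_option backward.defeqAttrib.useBackward true

universe u v' u'

open CategoryTheory CategoryTheory.Limits

namespace Groth.Agent.Lib.FPColimL

noncomputable section

section presentation

variable (A : Type u) [CommRing A] (M : Type u) [AddCommGroup M] [Module A M]

/-- The free module on `M` (a type synonym, so that it is an honest `AddCommGroup`). -/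
def Fr : Type u := M →₀ A

instance : AddCommGroup (Fr A M) := inferInstanceAs (AddCommGroup (M →₀ A))

instance : Module A (Fr A M) := inferInstanceAs (Module A (M →₀ A))

/-- Basis vectors. -/
def sgl (m : M) (a : A) : Fr A M := Finsupp.single m a

/-- The canonical surjection from the free module on `M`. -/
def pi : Fr A M →ₗ[A] M := Finsupp.linearCombination A id

lemma pi_sgl (m : M) (a : A) : pi A M (sgl A M m a) = a • m := by
  show Finsupp.linearCombination A id (Finsupp.single m a) = a • m
  simp [Finsupp.linearCombination_single]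

/-- Elements supported on a finite set. -/
def SupS (S : Finset M) : Submodule A (Fr A M) := Finsupp.supported A A (↑S : Set M)

lemma SupS_mono {S T : Finset M} (h : S ⊆ T) : SupS A M S ≤ SupS A M T := by
  intro x hx
  have hx' : (show M →₀ A from x) ∈ Finsupp.supported A A (↑S : Set M) := hx
  have hx'' : (show M →₀ A from x) ∈ Finsupp.supported A A (↑T : Set M) :=
    Finsupp.supported_mono (Finset.coe_subset.2 h) hx'
  exact hx''

lemma sgl_mem {S : Finset M} {m : M} (h : m ∈ S) (a : A) : sgl A M m a ∈ SupS A M S :=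
  Finsupp.single_mem_supported A a (Finset.mem_coe.2 h)

/-- Finite sets of generators and relations. -/
structure Idx where
  S : Finset M
  R : Finset (Fr A M)
  hR : ∀ r ∈ R, pi A M r = 0 ∧ r ∈ SupS A M S

instance : Preorder (Idx A M) where
  le p q := p.S ⊆ q.S ∧ p.R ⊆ q.R
  le_refl p := ⟨Finset.Subset.refl _, Finset.Subset.refl _⟩
  le_trans p q r h1 h2 := ⟨h1.1.trans h2.1, h1.2.trans h2.2⟩

instance : Nonempty (Idx A M) := ⟨⟨∅, ∅, by simp⟩⟩

instance : IsDirected (Idx A M) (· ≤ ·) := by
  classical
  refine ⟨fun p q => ⟨⟨p.S ∪ q.S, p.R ∪ q.R, ?_⟩,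
    ⟨Finset.subset_union_left, Finset.subset_union_left⟩,
    ⟨Finset.subset_union_right, Finset.subset_union_right⟩⟩⟩
  intro r hr
  rcases Finset.mem_union.1 hr with h | h
  · exact ⟨(p.hR r h).1, SupS_mono A M Finset.subset_union_left (p.hR r h).2⟩
  · exact ⟨(q.hR r h).1, SupS_mono A M Finset.subset_union_right (q.hR r h).2⟩

variable {A M}

/-- The free module on the generators of a stage. -/
abbrev Sup (p : Idx A M) : Submodule A (Fr A M) := SupS A M p.S

/-- The relations of a stage. -/
def rel (p : Idx A M) : Submodule A (Sup p) :=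
  (Submodule.span A (↑p.R : Set (Fr A M))).comap (Sup p).subtype

/-- The finitely presented module of a stage. -/
abbrev Q (p : Idx A M) : Type u := (Sup p) ⧸ (rel p)

lemma sup_le {p q : Idx A M} (h : p ≤ q) : Sup p ≤ Sup q :=
  SupS_mono A M h.1

/-- Transition maps. -/
def tr {p q : Idx A M} (h : p ≤ q) : Q p →ₗ[A] Q q :=
  Submodule.mapQ (rel p) (rel q) (Submodule.inclusion (sup_le h)) (by
    intro x hx
    have hx' : (x : Fr A M) ∈ Submodule.span A (↑p.R : Set (Fr A M)) := hx
    exact Submodule.span_mono (Finset.coe_subset.2 h.2) hx')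

lemma tr_mk {p q : Idx A M} (h : p ≤ q) (x : Sup p) :
    tr h (Submodule.Quotient.mk x) = Submodule.Quotient.mk (Submodule.inclusion (sup_le h) x) :=
  rfl

/-- The map from a stage to `M`. -/
def leg (p : Idx A M) : Q p →ₗ[A] M :=
  Submodule.liftQ (rel p) ((pi A M).comp (Sup p).subtype) (by
    intro x hx
    have hx' : (x : Fr A M) ∈ Submodule.span A (↑p.R : Set (Fr A M)) := hx
    have hle : Submodule.span A (↑p.R : Set (Fr A M)) ≤ LinearMap.ker (pi A M) :=
      Submodule.span_le.2 (fun r hr => LinearMap.mem_ker.2 (p.hR r hr).1)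
    exact LinearMap.mem_ker.2 (LinearMap.mem_ker.1 (hle hx')))

lemma leg_mk (p : Idx A M) (x : Sup p) :
    leg p (Submodule.Quotient.mk x) = pi A M (x : Fr A M) := rfl

lemma leg_tr {p q : Idx A M} (h : p ≤ q) (x : Q p) : leg q (tr h x) = leg p x := by
  obtain ⟨x, rfl⟩ := Submodule.Quotient.mk_surjective _ x
  rfl

lemma tr_tr {p q r : Idx A M} (h : p ≤ q) (h' : q ≤ r) (x : Q p) :
    tr h' (tr h x) = tr (h.trans h') x := by
  obtain ⟨x, rfl⟩ := Submodule.Quotient.mk_surjective _ x
  rfl

lemma tr_refl (p : Idx A M) (x : Q p) : tr (le_refl p) x = x := by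
  obtain ⟨x, rfl⟩ := Submodule.Quotient.mk_surjective _ x
  rfl

lemma leg_surj (m : M) : ∃ (p : Idx A M) (x : Q p), leg p x = m := by
  let p0 : Idx A M := ⟨{m}, ∅, by simp⟩
  have hmem : sgl A M m (1 : A) ∈ Sup p0 := sgl_mem A M (Finset.mem_singleton_self m) 1
  refine ⟨p0, Submodule.Quotient.mk ⟨_, hmem⟩, ?_⟩
  show pi A M (sgl A M m 1) = m
  rw [pi_sgl, one_smul]

lemma leg_kill (p : Idx A M) (x y : Q p) (hxy : leg p x = leg p y) :
    ∃ (q : Idx A M) (h : p ≤ q), tr h x = tr h y := by
  classical
  obtain ⟨x, rfl⟩ := Submodule.Quotient.mk_surjective _ x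
  obtain ⟨y, rfl⟩ := Submodule.Quotient.mk_surjective _ y
  have h0 : pi A M ((x : Fr A M) - (y : Fr A M)) = 0 := by
    have h1 : pi A M (x : Fr A M) = pi A M (y : Fr A M) := hxy
    rw [map_sub, h1, sub_self]
  let q : Idx A M := ⟨p.S, insert ((x : Fr A M) - (y : Fr A M)) p.R, by
    intro r hr
    rcases Finset.mem_insert.1 hr with h | h
    · subst h
      exact ⟨h0, (Sup p).sub_mem x.2 y.2⟩
    · exact p.hR r h⟩
  have hpq : p ≤ q := ⟨Finset.Subset.refl _, Finset.subset_insert _ _⟩
  refine ⟨q, hpq, ?_⟩
  rw [tr_mk, tr_mk]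
  refine (Submodule.Quotient.eq _).2 ?_
  have hmem : ((x : Fr A M) - (y : Fr A M)) ∈ Submodule.span A (↑q.R : Set (Fr A M)) :=
    Submodule.subset_span (Finset.mem_coe.2 (Finset.mem_insert_self _ _))
  exact hmem

lemma fp_Q (p : Idx A M) : Module.FinitePresentation A (Q p) := by
  classical
  haveI : Finite (↥(↑p.S : Set M)) := (Finset.finite_toSet p.S).to_subtype
  let e : (Sup p) ≃ₗ[A] (↥(↑p.S : Set M) →₀ A) := Finsupp.supportedEquivFinsupp (↑p.S : Set M)
  haveI : Module.Free A (Sup p) := Module.Free.of_equiv e.symm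
  haveI : Module.Finite A (Sup p) := Module.Finite.equiv e.symm
  refine Module.finitePresentation_of_free_of_surjective (rel p).mkQ
    (Submodule.mkQ_surjective _) ?_
  rw [Submodule.ker_mkQ]
  have hle : Submodule.span A (↑p.R : Set (Fr A M)) ≤ Sup p :=
    Submodule.span_le.2 (fun r hr => (p.hR r hr).2)
  have hmap : (rel p).map (Sup p).subtype = Submodule.span A (↑p.R : Set (Fr A M)) := by
    unfold rel
    rw [Submodule.map_comap_subtype, inf_eq_right.2 hle]
  apply Submodule.fg_of_fg_map_injective (Sup p).subtype (Sup p).injective_subtype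
  rw [hmap]
  exact Submodule.fg_span (Finset.finite_toSet _)

lemma exists_factor (P : Type u) [AddCommGroup P] [Module A P] [Module.FinitePresentation A P]
    (h : P →ₗ[A] M) :
    ∃ (k : Idx A M) (h' : P →ₗ[A] Q k), ∀ x, leg k (h' x) = h x := by
  classical
  obtain ⟨n, m, f, g, hf, hfg⟩ := Module.FinitePresentation.exists_fin' A P
  let mm : Fin n → M := fun i => h (f (Pi.single i 1))
  let φ : (Fin n → A) →ₗ[A] Fr A M :=
    Fintype.linearCombination A (fun i => sgl A M (mm i) (1 : A))
  have hφ : ∀ y, pi A M (φ y) = h (f y) := by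
    intro y
    have hcomp : (pi A M).comp φ = h.comp f := by
      apply LinearMap.pi_ext'
      intro i
      apply LinearMap.ext_ring
      show pi A M (Fintype.linearCombination A (fun i => sgl A M (mm i) (1 : A))
        (Pi.single i 1)) = mm i
      rw [Fintype.linearCombination_apply_single, one_smul, pi_sgl, one_smul]
    exact LinearMap.congr_fun hcomp y
  let S : Finset M := Finset.univ.image mm
  have hφS : ∀ y, φ y ∈ SupS A M S := by
    intro y
    show Fintype.linearCombination A (fun i => sgl A M (mm i) (1 : A)) y ∈ _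
    rw [Fintype.linearCombination_apply]
    refine Submodule.sum_mem _ (fun i _ => Submodule.smul_mem _ _ ?_)
    exact sgl_mem A M (Finset.mem_image_of_mem mm (Finset.mem_univ i)) 1
  let R : Finset (Fr A M) := Finset.univ.image (fun j : Fin m => φ (g (Pi.single j 1)))
  have hR : ∀ r ∈ R, pi A M r = 0 ∧ r ∈ SupS A M S := by
    intro r hr
    obtain ⟨j, -, rfl⟩ := Finset.mem_image.1 hr
    refine ⟨?_, hφS _⟩
    rw [hφ]
    have h0 : f (g (Pi.single j 1)) = 0 := (hfg _).2 ⟨_, rfl⟩
    rw [h0, map_zero]
  let k : Idx A M := ⟨S, R, hR⟩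
  let φ' : (Fin n → A) →ₗ[A] Sup k := φ.codRestrict (Sup k) hφS
  let ψ : (Fin n → A) →ₗ[A] Q k := (rel k).mkQ.comp φ'
  have hψg : ψ.comp g = 0 := by
    apply LinearMap.pi_ext'
    intro j
    apply LinearMap.ext_ring
    show (Submodule.Quotient.mk (φ' (g (Pi.single j 1))) : Q k) = 0
    rw [Submodule.Quotient.mk_eq_zero]
    show φ (g (Pi.single j 1)) ∈ Submodule.span A (↑R : Set (Fr A M))
    exact Submodule.subset_span
      (Finset.mem_coe.2 (Finset.mem_image_of_mem _ (Finset.mem_univ j)))
  have hker : LinearMap.ker f ≤ LinearMap.ker ψ := by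
    intro y hy
    obtain ⟨z, rfl⟩ := (hfg y).1 (LinearMap.mem_ker.1 hy)
    exact LinearMap.mem_ker.2 (LinearMap.congr_fun hψg z)
  let e := LinearMap.quotKerEquivOfSurjective f hf
  let h' : P →ₗ[A] Q k := ((LinearMap.ker f).liftQ ψ hker).comp e.symm.toLinearMap
  refine ⟨k, h', fun x => ?_⟩
  obtain ⟨y, rfl⟩ := hf x
  have he : e.symm (f y) = Submodule.Quotient.mk y := by
    rw [LinearEquiv.symm_apply_eq]
    exact (LinearMap.quotKerEquivOfSurjective_apply_mk f hf y).symm
  show leg k ((LinearMap.ker f).liftQ ψ hker (e.symm (f y))) = h (f y)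
  rw [he]
  show pi A M (φ y) = h (f y)
  exact hφ y

variable (A M)

/-- The canonical directed diagram of finitely presented modules. -/
def D : Idx A M ⥤ ModuleCat.{u} A where
  obj p := ModuleCat.of A (Q p)
  map {p q} f := ModuleCat.ofHom (tr (leOfHom f))
  map_id p := by
    apply ModuleCat.hom_ext
    apply LinearMap.ext
    intro x
    exact tr_refl p x
  map_comp {p q r} f g := by
    apply ModuleCat.hom_ext
    apply LinearMap.ext
    intro x
    exact (tr_tr (leOfHom f) (leOfHom g) x).symm

/-- The canonical cocone. -/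
def coc : Cocone (D A M) where
  pt := ModuleCat.of A M
  ι :=
    { app := fun p => ModuleCat.ofHom (leg p)
      naturality := fun p q f => by
        apply ModuleCat.hom_ext
        apply LinearMap.ext
        intro x
        exact leg_tr (leOfHom f) x }

/-- Every module is the directed colimit of its finite presentations. -/
def isColimit_coc : IsColimit (coc A M) := by
  haveI : IsFiltered (Idx A M) := inferInstance
  apply isColimitOfReflects (forget (ModuleCat.{u} A))
  apply Types.FilteredColimit.isColimitOf'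
  · intro x
    obtain ⟨p, y, hy⟩ := leg_surj (A := A) (M := M) x
    exact ⟨p, y, hy.symm⟩
  · intro p x y hxy
    obtain ⟨q, h, hq⟩ := leg_kill p x y hxy
    exact ⟨q, homOfLE h, hq⟩

end presentation

section main

variable (A : Type u) [CommRing A] {B : Type u'} [Category.{v'} B] [Preadditive B]
  [HasFiniteBiproducts B] [HasFilteredColimitsOfSize.{u, u} B]
  (F' : ModuleCat.{u} A ⥤ B) [PreservesFilteredColimitsOfSize.{u, u} F']
  [(ObjectProperty.ι (fun M : ModuleCat.{u} A => Module.FinitePresentation A M) ⋙ F').Additive]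

include A in
lemma map_add_fp (P P' : ModuleCat.{u} A) (hP : Module.FinitePresentation A P)
    (hP' : Module.FinitePresentation A P') (a b : P ⟶ P') :
    F'.map (a + b) = F'.map a + F'.map b := by
  let X : ObjectProperty.FullSubcategory
    (fun M : ModuleCat.{u} A => Module.FinitePresentation A M) := ⟨P, hP⟩
  let Y : ObjectProperty.FullSubcategory
    (fun M : ModuleCat.{u} A => Module.FinitePresentation A M) := ⟨P', hP'⟩
  let a' : X ⟶ Y := ObjectProperty.homMk a
  let b' : X ⟶ Y := ObjectProperty.homMk b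
  have h := Functor.map_add
    (F := ObjectProperty.ι (fun M : ModuleCat.{u} A => Module.FinitePresentation A M) ⋙ F')
    (f := a') (g := b')
  exact h

lemma map_add_all (M N : Type u) [AddCommGroup M] [Module A M] [AddCommGroup N] [Module A N]
    (f g : ModuleCat.of A M ⟶ ModuleCat.of A N) :
    F'.map (f + g) = F'.map f + F'.map g := by
  haveI : IsFiltered (Idx A M) := inferInstance
  have hc : IsColimit (F'.mapCocone (coc A M)) := isColimitOfPreserves F' (isColimit_coc A M)
  apply hc.hom_ext
  intro p
  show F'.map ((coc A M).ι.app p) ≫ F'.map (f + g)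
    = F'.map ((coc A M).ι.app p) ≫ (F'.map f + F'.map g)
  let ιp : ModuleCat.of A (Q p) ⟶ ModuleCat.of A M := (coc A M).ι.app p
  show F'.map ιp ≫ F'.map (f + g) = F'.map ιp ≫ (F'.map f + F'.map g)
  haveI := fp_Q p
  obtain ⟨k1, a1, ha1⟩ := exists_factor (A := A) (M := N) (Q p) (ιp ≫ f).hom
  obtain ⟨k2, a2, ha2⟩ := exists_factor (A := A) (M := N) (Q p) (ιp ≫ g).hom
  obtain ⟨k, hk1, hk2⟩ := exists_ge_ge k1 k2
  let a : ModuleCat.of A (Q p) ⟶ ModuleCat.of A (Q k) := ModuleCat.ofHom ((tr hk1).comp a1)
  let b : ModuleCat.of A (Q p) ⟶ ModuleCat.of A (Q k) := ModuleCat.ofHom ((tr hk2).comp a2)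
  let ιk : ModuleCat.of A (Q k) ⟶ ModuleCat.of A N := (coc A N).ι.app k
  have hfa : ιp ≫ f = a ≫ ιk := by
    apply ModuleCat.hom_ext
    apply LinearMap.ext
    intro x
    show (ιp ≫ f).hom x = leg k (tr hk1 (a1 x))
    rw [leg_tr, ha1]
  have hgb : ιp ≫ g = b ≫ ιk := by
    apply ModuleCat.hom_ext
    apply LinearMap.ext
    intro x
    show (ιp ≫ g).hom x = leg k (tr hk2 (a2 x))
    rw [leg_tr, ha2]
  have hab : F'.map (a + b) = F'.map a + F'.map b :=
    map_add_fp A F' _ _ (fp_Q p) (fp_Q k) a b
  calc F'.map ιp ≫ F'.map (f + g) = F'.map (ιp ≫ (f + g)) := (F'.map_comp _ _).symm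
    _ = F'.map ((a + b) ≫ ιk) := by rw [Preadditive.comp_add, hfa, hgb, ← Preadditive.add_comp]
    _ = F'.map (a + b) ≫ F'.map ιk := F'.map_comp _ _
    _ = (F'.map a + F'.map b) ≫ F'.map ιk := by rw [hab]
    _ = F'.map a ≫ F'.map ιk + F'.map b ≫ F'.map ιk := by rw [Preadditive.add_comp]
    _ = F'.map (a ≫ ιk) + F'.map (b ≫ ιk) := by rw [F'.map_comp, F'.map_comp]
    _ = F'.map (ιp ≫ f) + F'.map (ιp ≫ g) := by rw [hfa, hgb]
    _ = F'.map ιp ≫ F'.map f + F'.map ιp ≫ F'.map g := by rw [F'.map_comp, F'.map_comp]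
    _ = F'.map ιp ≫ (F'.map f + F'.map g) := by rw [Preadditive.comp_add]

theorem main : F'.Additive ∧ ∀ J : Type u, PreservesColimitsOfShape (Discrete J) F' := by
  have hadd : F'.Additive :=
    { map_add := by
        intro X Y f g
        exact map_add_all A F' X Y f g }
  refine ⟨hadd, fun J => ?_⟩
  haveI := hadd
  haveI : PreservesFiniteCoproducts F' := inferInstance
  constructor
  intro K
  classical
  haveI : IsDirected (Finset (Discrete J)) (· ≤ ·) :=
    ⟨fun a b => ⟨a ∪ b, Finset.subset_union_left, Finset.subset_union_right⟩⟩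
  haveI : IsFiltered (Finset (Discrete J)) := inferInstance
  haveI hq : PreservesColimit
      (CoproductsFromFiniteFiltered.liftToFinsetObj (Discrete.functor (K.obj ∘ Discrete.mk)))
      F' := inferInstance
  haveI : PreservesColimit (Discrete.functor (K.obj ∘ Discrete.mk)) F' :=
    Groth.Agent.Lib.PushColimL.preservesCoproduct_of_finite_of_directed F' (K.obj ∘ Discrete.mk)
  exact preservesColimit_of_iso_diagram F' (Discrete.natIsoFunctor (F := K)).symm

end main

end

end Groth.Agent.Lib.FPColimL
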