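import Mathlib
import Groth.Agent.Lib.FPColim1_lead

/-!
# Right exactness is detected on finitely presented modules (lead)

Let `F'` be a functor on `A`-modules commuting with filtered colimits whose restriction to
finitely presented modules preserves finite colimits.  Then `F'` is additive
(`additive_of_preservesFiniteColimits` + `FPColimL.main`), preserves cokernels
(`preservesColimit_cokernel`), hence all finite colimits, and all direct sums (`main_rightExact`).
-/

set_option autoImplicit false
set_option linter.all false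
set_option maxHeartbeats 1600000
set_option backward.isDefEq.respectTransparency false
set_option backward.isDefEq.respectTransparency.types false
set_option backward.defeqAttrib.useBackward true

universe u v' u'

open CategoryTheory CategoryTheory.Limits

namespace Groth.Agent.Lib.FPColimL

noncomputable section

variable (A : Type u) [CommRing A]

/-- Finitely presented modules, as an object property. -/
abbrev fpP : ObjectProperty (ModuleCat.{u} A) :=
  fun M : ModuleCat.{u} A => Module.FinitePresentation A M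

/-- The category of finitely presented modules. -/
abbrev FP : Type (u + 1) := (fpP A).FullSubcategory

/-- An object of `FP` from a finitely presented module. -/
def mkFP (P : Type u) [AddCommGroup P] [Module A P] [h : Module.FinitePresentation A P] : FP A :=
  ⟨ModuleCat.of A P, h⟩

variable {A}

/-- A morphism of `FP` from a linear map. -/
def mkHom {P P' : Type u} [AddCommGroup P] [Module A P] [Module.FinitePresentation A P]
    [AddCommGroup P'] [Module A P'] [Module.FinitePresentation A P'] (f : P →ₗ[A] P') :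
    mkFP A P ⟶ mkFP A P' := ObjectProperty.homMk (ModuleCat.ofHom f)

section step0

variable {B : Type u'} [Category.{v'} B] [Preadditive B] (G : FP A ⥤ B)
  [PreservesFiniteColimits G]

def isInitial_punit : IsInitial (mkFP A PUnit.{u + 1}) := by
  refine IsInitial.ofUniqueHom (fun Y => ObjectProperty.homMk 0) ?_
  intro Y m
  apply ObjectProperty.hom_ext
  exact (ModuleCat.isZero_of_subsingleton (ModuleCat.of A PUnit.{u + 1})).eq_of_src _ _

lemma map_zero_of_preservesInitial (X Y : FP A) : G.map (0 : X ⟶ Y) = 0 := by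
  have hZ : IsInitial (G.obj (mkFP A PUnit.{u + 1})) := isInitial_punit.isInitialObj G _
  have h1 : (0 : X ⟶ Y) = (0 : X ⟶ mkFP A PUnit.{u + 1}) ≫ (0 : mkFP A PUnit.{u + 1} ⟶ Y) := by
    rw [zero_comp]
  rw [h1, G.map_comp]
  have h2 : G.map (0 : mkFP A PUnit.{u + 1} ⟶ Y) = 0 := hZ.hom_ext _ _
  rw [h2, comp_zero]

/-- `P × P` with the two inclusions is a coproduct of `P` with itself. -/
def isColimit_prodCofan (P : Type u) [AddCommGroup P] [Module A P] :
    IsColimit (BinaryCofan.mk (X := ModuleCat.of A P) (Y := ModuleCat.of A P)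
      (ModuleCat.ofHom (LinearMap.inl A P P)) (ModuleCat.ofHom (LinearMap.inr A P P))) :=
  BinaryCofan.IsColimit.mk _
    (fun {T} f g => ModuleCat.ofHom (LinearMap.coprod f.hom g.hom))
    (fun {T} f g => by
      apply ModuleCat.hom_ext
      exact LinearMap.coprod_inl f.hom g.hom)
    (fun {T} f g => by
      apply ModuleCat.hom_ext
      exact LinearMap.coprod_inr f.hom g.hom)
    (fun {T} f g m h1 h2 => by
      apply ModuleCat.hom_ext
      apply LinearMap.prod_ext
      · show m.hom.comp (LinearMap.inl A P P)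
          = (LinearMap.coprod f.hom g.hom).comp (LinearMap.inl A P P)
        rw [LinearMap.coprod_inl]
        exact congrArg ModuleCat.Hom.hom h1
      · show m.hom.comp (LinearMap.inr A P P)
          = (LinearMap.coprod f.hom g.hom).comp (LinearMap.inr A P P)
        rw [LinearMap.coprod_inr]
        exact congrArg ModuleCat.Hom.hom h2)

/-- A functor on finitely presented modules preserving finite colimits is additive. -/
theorem additive_of_preservesFiniteColimits : G.Additive := by
  constructor
  intro X Y a b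
  let P : Type u := X.obj
  haveI : Module.FinitePresentation A P := X.property
  let W : FP A := mkFP A (P × P)
  let inl' : X ⟶ W := ObjectProperty.homMk (ModuleCat.ofHom (LinearMap.inl A P P))
  let inr' : X ⟶ W := ObjectProperty.homMk (ModuleCat.ofHom (LinearMap.inr A P P))
  let fst' : W ⟶ X := ObjectProperty.homMk (ModuleCat.ofHom (LinearMap.fst A P P))
  let snd' : W ⟶ X := ObjectProperty.homMk (ModuleCat.ofHom (LinearMap.snd A P P))
  let δ : X ⟶ W :=
    ObjectProperty.homMk (ModuleCat.ofHom (LinearMap.prod LinearMap.id LinearMap.id))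
  let d : W ⟶ Y :=
    ObjectProperty.homMk (ModuleCat.ofHom (LinearMap.coprod a.hom.hom b.hom.hom))
  have hcW : IsColimit (BinaryCofan.mk inl' inr') :=
    isColimitOfReflectsOfMapIsColimit (fpP A).ι inl' inr' (isColimit_prodCofan P)
  have hGW : IsColimit (BinaryCofan.mk (G.map inl') (G.map inr')) :=
    mapIsColimitOfPreservesOfIsColimit G inl' inr' hcW
  have e1 : δ ≫ d = a + b := by
    apply ObjectProperty.hom_ext
    apply ModuleCat.hom_ext
    apply LinearMap.ext
    intro x
    rfl
  have e2 : inl' ≫ d = a := by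
    apply ObjectProperty.hom_ext
    apply ModuleCat.hom_ext
    exact LinearMap.coprod_inl a.hom.hom b.hom.hom
  have e3 : inr' ≫ d = b := by
    apply ObjectProperty.hom_ext
    apply ModuleCat.hom_ext
    exact LinearMap.coprod_inr a.hom.hom b.hom.hom
  have e4 : inl' ≫ fst' = 𝟙 X := by
    apply ObjectProperty.hom_ext
    apply ModuleCat.hom_ext
    apply LinearMap.ext
    intro x
    rfl
  have e5 : inr' ≫ fst' = 0 := by
    apply ObjectProperty.hom_ext
    apply ModuleCat.hom_ext
    apply LinearMap.ext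
    intro x
    rfl
  have e6 : inl' ≫ snd' = 0 := by
    apply ObjectProperty.hom_ext
    apply ModuleCat.hom_ext
    apply LinearMap.ext
    intro x
    rfl
  have e7 : inr' ≫ snd' = 𝟙 X := by
    apply ObjectProperty.hom_ext
    apply ModuleCat.hom_ext
    apply LinearMap.ext
    intro x
    rfl
  have eδ1 : δ ≫ fst' = 𝟙 X := by
    apply ObjectProperty.hom_ext
    apply ModuleCat.hom_ext
    apply LinearMap.ext
    intro x
    rfl
  have eδ2 : δ ≫ snd' = 𝟙 X := by
    apply ObjectProperty.hom_ext
    apply ModuleCat.hom_ext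
    apply LinearMap.ext
    intro x
    rfl
  have z1 : G.map (0 : X ⟶ X) = 0 := map_zero_of_preservesInitial G X X
  have q1 : G.map inl' ≫ G.map fst' = 𝟙 _ := by rw [← G.map_comp, e4, G.map_id]
  have q2 : G.map inl' ≫ G.map snd' = 0 := by rw [← G.map_comp, e6, z1]
  have q3 : G.map inr' ≫ G.map fst' = 0 := by rw [← G.map_comp, e5, z1]
  have q4 : G.map inr' ≫ G.map snd' = 𝟙 _ := by rw [← G.map_comp, e7, G.map_id]
  have q5 : G.map δ ≫ G.map fst' = 𝟙 _ := by rw [← G.map_comp, eδ1, G.map_id]
  have q6 : G.map δ ≫ G.map snd' = 𝟙 _ := by rw [← G.map_comp, eδ2, G.map_id]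
  have e8 : G.map fst' ≫ G.map inl' + G.map snd' ≫ G.map inr' = 𝟙 (G.obj W) := by
    apply BinaryCofan.IsColimit.hom_ext hGW
    · show G.map inl' ≫ (G.map fst' ≫ G.map inl' + G.map snd' ≫ G.map inr')
        = G.map inl' ≫ 𝟙 _
      rw [Preadditive.comp_add, ← Category.assoc, ← Category.assoc, q1, q2, Category.id_comp,
        zero_comp, add_zero, Category.comp_id]
    · show G.map inr' ≫ (G.map fst' ≫ G.map inl' + G.map snd' ≫ G.map inr')
        = G.map inr' ≫ 𝟙 _
      rw [Preadditive.comp_add, ← Category.assoc, ← Category.assoc, q3, q4, Category.id_comp,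
        zero_comp, zero_add, Category.comp_id]
  have e9 : G.map δ = G.map inl' + G.map inr' := by
    calc G.map δ = G.map δ ≫ 𝟙 _ := (Category.comp_id _).symm
      _ = G.map δ ≫ (G.map fst' ≫ G.map inl' + G.map snd' ≫ G.map inr') := by rw [e8]
      _ = G.map inl' + G.map inr' := by
        rw [Preadditive.comp_add, ← Category.assoc, ← Category.assoc, q5, q6, Category.id_comp,
          Category.id_comp]
  calc G.map (a + b) = G.map (δ ≫ d) := by rw [e1]
    _ = G.map δ ≫ G.map d := G.map_comp _ _
    _ = (G.map inl' + G.map inr') ≫ G.map d := by rw [e9]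
    _ = G.map inl' ≫ G.map d + G.map inr' ≫ G.map d := by rw [Preadditive.add_comp]
    _ = G.map a + G.map b := by rw [← G.map_comp, ← G.map_comp, e2, e3]

end step0

section rightExact

variable {B : Type u'} [Category.{v'} B] [Preadditive B]
  (F' : ModuleCat.{u} A ⥤ B) [PreservesFilteredColimitsOfSize.{u, u} F']
  [PreservesFiniteColimits ((fpP A).ι ⋙ F')] [F'.Additive]

/-- `F'` maps a presentation by finitely presented modules to a cokernel cofork. -/
def isColimit_map_pres {P1 P2 P3 : Type u}
    [AddCommGroup P1] [Module A P1] [Module.FinitePresentation A P1]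
    [AddCommGroup P2] [Module A P2] [Module.FinitePresentation A P2]
    [AddCommGroup P3] [Module A P3] [Module.FinitePresentation A P3]
    (g : P1 →ₗ[A] P2) (f : P2 →ₗ[A] P3)
    (hf : Function.Surjective f) (hfg : Function.Exact g f)
    (w : F'.map (ModuleCat.ofHom g) ≫ F'.map (ModuleCat.ofHom f) = 0) :
    IsColimit (CokernelCofork.ofπ (f := F'.map (ModuleCat.ofHom g))
      (F'.map (ModuleCat.ofHom f)) w) := by
  have w0 : mkHom g ≫ mkHom f = (0 : mkFP A P1 ⟶ mkFP A P3) := by
    apply ObjectProperty.hom_ext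
    apply ModuleCat.hom_ext
    apply LinearMap.ext
    intro x
    exact hfg.apply_apply_eq_zero x
  have h1 := ModuleCat.isColimitCokernelCofork (ModuleCat.ofHom g) (ModuleCat.ofHom f) hfg hf
  have h2 : IsColimit (CokernelCofork.ofπ (mkHom f) w0) :=
    isColimitOfReflects (fpP A).ι ((isColimitMapCoconeCoforkEquiv' (fpP A).ι w0).symm h1)
  exact isColimitMapCoconeCoforkEquiv' ((fpP A).ι ⋙ F') w0
    (isColimitOfPreserves ((fpP A).ι ⋙ F') h2)

lemma exists_pres (P : Type u) [AddCommGroup P] [Module A P] [Module.FinitePresentation A P] :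
    ∃ (n : ℕ) (fr : (Fin n → A) →ₗ[A] P), Function.Surjective fr ∧
      Epi (F'.map (ModuleCat.ofHom fr)) ∧
      ∀ {T : B} (k : F'.obj (ModuleCat.of A (Fin n → A)) ⟶ T),
        (∀ (m : ℕ) (gg : (Fin m → A) →ₗ[A] (Fin n → A)), fr.comp gg = 0 →
          F'.map (ModuleCat.ofHom gg) ≫ k = 0) →
        ∃ h : F'.obj (ModuleCat.of A P) ⟶ T, F'.map (ModuleCat.ofHom fr) ≫ h = k := by
  obtain ⟨n, m, fr, gr, hfr, hex⟩ := Module.FinitePresentation.exists_fin' A P
  have hzero : fr.comp gr = 0 := by
    apply LinearMap.ext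
    intro x
    exact hex.apply_apply_eq_zero x
  have w : F'.map (ModuleCat.ofHom gr) ≫ F'.map (ModuleCat.ofHom fr) = 0 := by
    rw [← F'.map_comp]
    have h1 : ModuleCat.ofHom gr ≫ ModuleCat.ofHom fr = 0 := by
      apply ModuleCat.hom_ext
      exact hzero
    rw [h1, F'.map_zero]
  have hc := isColimit_map_pres F' gr fr hfr hex w
  refine ⟨n, fr, hfr, ?_, ?_⟩
  · exact epi_of_isColimit_cofork hc
  · intro T k hk
    have hk0 : F'.map (ModuleCat.ofHom gr) ≫ k = 0 := hk m gr hzero
    obtain ⟨h, hh⟩ := CokernelCofork.IsColimit.desc' hc k hk0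
    exact ⟨h, hh⟩

lemma hom_ext_fp (P : Type u) [AddCommGroup P] [Module A P] [Module.FinitePresentation A P]
    {T : B} (h1 h2 : F'.obj (ModuleCat.of A P) ⟶ T)
    (h : ∀ (n : ℕ) (s : (Fin n → A) →ₗ[A] P),
      F'.map (ModuleCat.ofHom s) ≫ h1 = F'.map (ModuleCat.ofHom s) ≫ h2) : h1 = h2 := by
  obtain ⟨n0, fr, hfr, hepi, hdesc⟩ := exists_pres F' P
  haveI := hepi
  exact (cancel_epi (F'.map (ModuleCat.ofHom fr))).1 (h n0 fr)

variable {M N C : Type u} [AddCommGroup M] [Module A M] [AddCommGroup N] [Module A N]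
  [AddCommGroup C] [Module A C] (f : M →ₗ[A] N) (π : N →ₗ[A] C)

lemma claimK (hex : ∀ y, π y = 0 → ∃ x, f x = y)
    {T : B} (g : F'.obj (ModuleCat.of A N) ⟶ T) (hg : F'.map (ModuleCat.ofHom f) ≫ g = 0)
    (n : ℕ) (l l' : (Fin n → A) →ₗ[A] N) (h : π.comp l = π.comp l') :
    F'.map (ModuleCat.ofHom l) ≫ g = F'.map (ModuleCat.ofHom l') ≫ g := by
  have hr : ∀ x, (l - l') x ∈ LinearMap.range f := by
    intro x
    obtain ⟨y, hy⟩ := hex ((l - l') x) (by
      have h0 : π (l x) = π (l' x) := LinearMap.congr_fun h x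
      rw [LinearMap.sub_apply, map_sub, h0, sub_self])
    exact ⟨y, hy⟩
  obtain ⟨m, hm⟩ := Module.projective_lifting_property f.rangeRestrict
    ((l - l').codRestrict (LinearMap.range f) hr) f.surjective_rangeRestrict
  have hm' : f.comp m = l - l' := by
    apply LinearMap.ext
    intro x
    exact congrArg Subtype.val (LinearMap.congr_fun hm x)
  have e0 : l = l' + f.comp m := by rw [hm']; abel
  have e1 : ModuleCat.ofHom l = ModuleCat.ofHom l' + ModuleCat.ofHom m ≫ ModuleCat.ofHom f := by
    rw [e0]; rfl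
  rw [e1, F'.map_add, F'.map_comp, Preadditive.add_comp, Category.assoc, hg, comp_zero, add_zero]

lemma exists_hP (hπ : Function.Surjective π) (hex : ∀ y, π y = 0 → ∃ x, f x = y)
    {T : B} (g : F'.obj (ModuleCat.of A N) ⟶ T) (hg : F'.map (ModuleCat.ofHom f) ≫ g = 0)
    (P : Type u) [AddCommGroup P] [Module A P] [Module.FinitePresentation A P] (c : P →ₗ[A] C) :
    ∃ hP : F'.obj (ModuleCat.of A P) ⟶ T,
      ∀ (n : ℕ) (s : (Fin n → A) →ₗ[A] P) (l : (Fin n → A) →ₗ[A] N),
        π.comp l = c.comp s →
          F'.map (ModuleCat.ofHom s) ≫ hP = F'.map (ModuleCat.ofHom l) ≫ g := by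
  obtain ⟨n0, fr, hfr, hepi, hdesc⟩ := exists_pres F' P
  obtain ⟨l0, hl0⟩ := Module.projective_lifting_property π (c.comp fr) hπ
  have hk : ∀ (m : ℕ) (gg : (Fin m → A) →ₗ[A] (Fin n0 → A)), fr.comp gg = 0 →
      F'.map (ModuleCat.ofHom gg) ≫ (F'.map (ModuleCat.ofHom l0) ≫ g) = 0 := by
    intro m gg hgg
    rw [← Category.assoc, ← F'.map_comp]
    have h1 : ModuleCat.ofHom gg ≫ ModuleCat.ofHom l0 = ModuleCat.ofHom (l0.comp gg) := rfl
    rw [h1, claimK F' f π hex g hg m (l0.comp gg) 0 (by
      rw [← LinearMap.comp_assoc, hl0, LinearMap.comp_assoc, hgg, LinearMap.comp_zero,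
        LinearMap.comp_zero])]
    have h2 : ModuleCat.ofHom (0 : (Fin m → A) →ₗ[A] N) = 0 := rfl
    rw [h2, F'.map_zero, zero_comp]
  obtain ⟨hP, hhP⟩ := hdesc (F'.map (ModuleCat.ofHom l0) ≫ g) hk
  refine ⟨hP, fun n s l hl => ?_⟩
  obtain ⟨s', hs'⟩ := Module.projective_lifting_property fr s hfr
  have h3 : ModuleCat.ofHom s = ModuleCat.ofHom s' ≫ ModuleCat.ofHom fr := by
    rw [← hs']; rfl
  rw [h3, F'.map_comp, Category.assoc, hhP, ← Category.assoc, ← F'.map_comp]
  have h4 : ModuleCat.ofHom s' ≫ ModuleCat.ofHom l0 = ModuleCat.ofHom (l0.comp s') := rfl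
  rw [h4]
  exact claimK F' f π hex g hg n (l0.comp s') l (by
    rw [← LinearMap.comp_assoc, hl0, LinearMap.comp_assoc, hs', hl])

lemma epi_map_surj (hπ : Function.Surjective π) : Epi (F'.map (ModuleCat.ofHom π)) := by
  haveI : IsFiltered (Idx A C) := inferInstance
  have hcC : IsColimit (F'.mapCocone (coc A C)) := isColimitOfPreserves F' (isColimit_coc A C)
  constructor
  intro T h1 h2 h12
  apply hcC.hom_ext
  intro r
  haveI := fp_Q r
  show F'.map (ModuleCat.ofHom (leg r)) ≫ h1 = F'.map (ModuleCat.ofHom (leg r)) ≫ h2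
  apply hom_ext_fp F' (Q r)
  intro n sm
  obtain ⟨l, hl⟩ := Module.projective_lifting_property π ((leg r).comp sm) hπ
  have e1 : ModuleCat.ofHom sm ≫ ModuleCat.ofHom (leg r)
      = ModuleCat.ofHom l ≫ ModuleCat.ofHom π := by
    apply ModuleCat.hom_ext
    exact hl.symm
  rw [← Category.assoc, ← Category.assoc, ← F'.map_comp, e1, F'.map_comp, Category.assoc,
    Category.assoc, h12]

lemma exists_desc (hπ : Function.Surjective π) (hex : ∀ y, π y = 0 → ∃ x, f x = y)
    {T : B} (g : F'.obj (ModuleCat.of A N) ⟶ T) (hg : F'.map (ModuleCat.ofHom f) ≫ g = 0) :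
    ∃ h : F'.obj (ModuleCat.of A C) ⟶ T, F'.map (ModuleCat.ofHom π) ≫ h = g := by
  haveI : IsFiltered (Idx A C) := inferInstance
  haveI : IsFiltered (Idx A N) := inferInstance
  have hcC : IsColimit (F'.mapCocone (coc A C)) := isColimitOfPreserves F' (isColimit_coc A C)
  have hcN : IsColimit (F'.mapCocone (coc A N)) := isColimitOfPreserves F' (isColimit_coc A N)
  have hex' : ∀ r : Idx A C, ∃ hP : F'.obj (ModuleCat.of A (Q r)) ⟶ T,
      ∀ (n : ℕ) (s : (Fin n → A) →ₗ[A] Q r) (l : (Fin n → A) →ₗ[A] N),
        π.comp l = (leg r).comp s →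
          F'.map (ModuleCat.ofHom s) ≫ hP = F'.map (ModuleCat.ofHom l) ≫ g := by
    intro r
    haveI := fp_Q r
    exact exists_hP F' f π hπ hex g hg (Q r) (leg r)
  choose hP hPs using hex'
  let cT : Cocone (D A C ⋙ F') :=
    { pt := T
      ι :=
        { app := fun r => hP r
          naturality := by
            intro r r' φ
            haveI := fp_Q r
            show F'.map ((D A C).map φ) ≫ hP r' = hP r ≫ 𝟙 T
            rw [Category.comp_id]
            apply hom_ext_fp F' (Q r)
            intro n sm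
            obtain ⟨l, hl⟩ := Module.projective_lifting_property π ((leg r).comp sm) hπ
            rw [hPs r n sm l hl, ← Category.assoc, ← F'.map_comp]
            have h1 : ModuleCat.ofHom sm ≫ (D A C).map φ
                = ModuleCat.ofHom ((tr (leOfHom φ)).comp sm) := rfl
            rw [h1]
            exact hPs r' n ((tr (leOfHom φ)).comp sm) l (by
              rw [hl]
              apply LinearMap.ext
              intro x
              exact (leg_tr (leOfHom φ) (sm x)).symm) } }
  refine ⟨hcC.desc cT, ?_⟩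
  have hfac : ∀ r, F'.map (ModuleCat.ofHom (leg r)) ≫ hcC.desc cT = hP r :=
    fun r => hcC.fac cT r
  apply hcN.hom_ext
  intro q
  haveI := fp_Q q
  show F'.map (ModuleCat.ofHom (leg q)) ≫ F'.map (ModuleCat.ofHom π) ≫ hcC.desc cT
    = F'.map (ModuleCat.ofHom (leg q)) ≫ g
  apply hom_ext_fp F' (Q q)
  intro n sm
  obtain ⟨r, s', hs'⟩ := exists_factor (A := A) (M := C) (Fin n → A) ((π.comp (leg q)).comp sm)
  have h1 : ModuleCat.ofHom sm ≫ ModuleCat.ofHom (leg q) ≫ ModuleCat.ofHom π
      = ModuleCat.ofHom s' ≫ ModuleCat.ofHom (leg r) := by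
    apply ModuleCat.hom_ext
    apply LinearMap.ext
    intro x
    exact (hs' x).symm
  calc F'.map (ModuleCat.ofHom sm) ≫ F'.map (ModuleCat.ofHom (leg q)) ≫
        F'.map (ModuleCat.ofHom π) ≫ hcC.desc cT
      = F'.map (ModuleCat.ofHom sm ≫ ModuleCat.ofHom (leg q) ≫ ModuleCat.ofHom π) ≫
          hcC.desc cT := by
        rw [F'.map_comp, F'.map_comp, Category.assoc, Category.assoc]
    _ = F'.map (ModuleCat.ofHom s' ≫ ModuleCat.ofHom (leg r)) ≫ hcC.desc cT := by rw [h1]
    _ = F'.map (ModuleCat.ofHom s') ≫ hP r := by rw [F'.map_comp, Category.assoc, hfac]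
    _ = F'.map (ModuleCat.ofHom ((leg q).comp sm)) ≫ g :=
        hPs r n s' ((leg q).comp sm) (by
          apply LinearMap.ext
          intro x
          exact (hs' x).symm)
    _ = F'.map (ModuleCat.ofHom sm) ≫ F'.map (ModuleCat.ofHom (leg q)) ≫ g := by
        have h2 : ModuleCat.ofHom ((leg q).comp sm)
            = ModuleCat.ofHom sm ≫ ModuleCat.ofHom (leg q) := rfl
        rw [h2, F'.map_comp, Category.assoc]

/-- `F'` preserves all cokernels. -/
lemma preservesColimit_cokernel {M N : ModuleCat.{u} A} (f : M ⟶ N) :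
    PreservesColimit (parallelPair f 0) F' := by
  apply preservesColimit_of_preserves_colimit_cocone (ModuleCat.cokernelIsColimit f)
  let π : N →ₗ[A] (N ⧸ LinearMap.range f.hom) := (LinearMap.range f.hom).mkQ
  have hπ : Function.Surjective π := Submodule.mkQ_surjective _
  have hex : ∀ y, π y = 0 → ∃ x, f.hom x = y := by
    intro y hy
    exact (Submodule.Quotient.mk_eq_zero _).1 hy
  have w : f ≫ ModuleCat.ofHom π = 0 := by
    apply ModuleCat.hom_ext
    exact LinearMap.range_mkQ_comp _
  refine (isColimitMapCoconeCoforkEquiv' F' w).symm ?_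
  haveI : Epi (F'.map (ModuleCat.ofHom π)) := epi_map_surj F' π hπ
  refine CokernelCofork.IsColimit.ofπ' _ _ (fun {T} k hk => ?_)
  have hk' : F'.map (ModuleCat.ofHom f.hom) ≫ k = 0 := hk
  exact ⟨(exists_desc F' f.hom π hπ hex k hk').choose,
    (exists_desc F' f.hom π hπ hex k hk').choose_spec⟩

end rightExact

/-- Right exactness on finitely presented modules implies right exactness. -/
theorem main_rightExact {B : Type u'} [Category.{v'} B] [Preadditive B] [HasFiniteBiproducts B]
    [HasCokernels B] [HasFilteredColimitsOfSize.{u, u} B]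
    (F' : ModuleCat.{u} A ⥤ B) [PreservesFilteredColimitsOfSize.{u, u} F']
    [PreservesFiniteColimits ((fpP A).ι ⋙ F')] :
    F'.Additive ∧ PreservesFiniteColimits F' ∧
      ∀ J : Type u, PreservesColimitsOfShape (Discrete J) F' := by
  haveI h0 : ((fpP A).ι ⋙ F').Additive := additive_of_preservesFiniteColimits ((fpP A).ι ⋙ F')
  obtain ⟨hadd, hcop⟩ := main A F'
  haveI := hadd
  refine ⟨hadd, ?_, hcop⟩
  haveI : ∀ {X Y : ModuleCat.{u} A} (f : X ⟶ Y), PreservesColimit (parallelPair f 0) F' :=
    fun f => preservesColimit_cokernel F' f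
  exact Functor.preservesFiniteColimits_of_preservesCokernels F'

end

end Groth.Agent.Lib.FPColimL
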