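import Mathlib
import Groth.Agent.Lib.FPColim2_lead
import Groth.Agent.S6366

/-!
# Left exactness is detected on finitely presented modules over a coherent ring (lead)

Let `A` be a coherent ring, `B` an additive category in which filtered colimits commute with
kernels, and `F'` a functor on `A`-modules commuting with filtered colimits whose restriction to
finitely presented modules preserves finite limits.  Then `F'` is additive, preserves kernels
(`isKer_general`), hence finite limits, and preserves all direct sums (`main_leftExact`).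
-/

set_option autoImplicit false
set_option linter.all false
set_option maxHeartbeats 1600000
set_option backward.isDefEq.respectTransparency false
set_option backward.isDefEq.respectTransparency.types false
set_option backward.defeqAttrib.useBackward true

universe u v' u'

open CategoryTheory CategoryTheory.Limits

namespace Groth.Agent.Lib.FPColimL

noncomputable section

variable {A : Type u} [CommRing A]

/-- Recognition of filtered colimits of modules, elementwise. -/
def isColimit_of_elementwise {J : Type u} [SmallCategory J] [IsFiltered J]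
    (E : J ⥤ ModuleCat.{u} A) (c : Cocone E)
    (hsurj : ∀ x : c.pt, ∃ (j : J) (y : E.obj j), (c.ι.app j).hom y = x)
    (hinj : ∀ (j : J) (x y : E.obj j), (c.ι.app j).hom x = (c.ι.app j).hom y →
      ∃ (k : J) (φ : j ⟶ k), (E.map φ).hom x = (E.map φ).hom y) :
    IsColimit c := by
  apply isColimitOfReflects (forget (ModuleCat.{u} A))
  apply Types.FilteredColimit.isColimitOf'
  · intro x
    obtain ⟨j, y, hy⟩ := hsurj x
    exact ⟨j, y, hy.symm⟩
  · intro j x y hxy
    exact hinj j x y hxy

section isker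

variable {B : Type u'} [Category.{v'} B] [Preadditive B]

/-- The kernel property, in elementary form. -/
def IsKer {K X Y : B} (k : K ⟶ X) (a : X ⟶ Y) : Prop :=
  k ≫ a = 0 ∧ ∀ (T : B) (t : T ⟶ X), t ≫ a = 0 → ∃! s : T ⟶ K, s ≫ k = t

lemma IsKer.of_isLimit {K X Y : B} {k : K ⟶ X} {a : X ⟶ Y} (w : k ≫ a = 0)
    (h : IsLimit (KernelFork.ofι k w)) : IsKer k a := by
  refine ⟨w, fun T t ht => ?_⟩
  have hfac : h.lift (KernelFork.ofι t ht) ≫ k = t := h.fac _ WalkingParallelPair.zero
  refine ⟨h.lift (KernelFork.ofι t ht), hfac, ?_⟩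
  intro s hs
  apply Fork.IsLimit.hom_ext h
  show s ≫ k = h.lift (KernelFork.ofι t ht) ≫ k
  rw [hs, hfac]

/-- From the elementary kernel property to a limit kernel fork. -/
def IsKer.isLimit {K X Y : B} {k : K ⟶ X} {a : X ⟶ Y} (h : IsKer k a) :
    IsLimit (KernelFork.ofι k h.1) :=
  KernelFork.IsLimit.ofι k h.1
    (fun {T} t ht => (h.2 T t ht).choose)
    (fun {T} t ht => (h.2 T t ht).choose_spec.1)
    (fun {T} t ht m hm => (h.2 T t ht).choose_spec.2 m hm)

variable [HasFilteredColimitsOfSize.{u, u} B]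

/-- Filtered colimits of kernels are kernels, when filtered colimits commute with kernels. -/
lemma isKer_colimit
    (hcomm : ∀ (J : Type u) [SmallCategory J] [IsFiltered J],
      PreservesLimitsOfShape WalkingParallelPair (colim : (J ⥤ B) ⥤ B))
    {J : Type u} [SmallCategory J] [IsFiltered J]
    {D₁ D₂ K : J ⥤ B} (α : D₁ ⟶ D₂) (κ : K ⟶ D₁)
    (hker : ∀ j, IsKer (κ.app j) (α.app j))
    {c₁ : Cocone D₁} (hc₁ : IsColimit c₁) {c₂ : Cocone D₂} (hc₂ : IsColimit c₂)
    {cK : Cocone K} (hcK : IsColimit cK)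
    (a : c₁.pt ⟶ c₂.pt) (ha : ∀ j, c₁.ι.app j ≫ a = α.app j ≫ c₂.ι.app j)
    (k : cK.pt ⟶ c₁.pt) (hk : ∀ j, cK.ι.app j ≫ k = κ.app j ≫ c₁.ι.app j) :
    IsKer k a := by
  haveI := hcomm J
  have hκα : κ ≫ α = 0 := by
    ext j
    exact (hker j).1
  have hfork : IsLimit (KernelFork.ofι κ hκα) := by
    apply evaluationJointlyReflectsLimits
    intro j
    haveI : ((evaluation J B).obj j).PreservesZeroMorphisms := ⟨fun _ _ => rfl⟩
    exact (isLimitMapConeForkEquiv' ((evaluation J B).obj j) hκα).symm (hker j).isLimit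
  haveI : (colim : (J ⥤ B) ⥤ B).PreservesZeroMorphisms := ⟨fun F G => by
    apply colimit.hom_ext
    intro j
    rw [colimit.ι_map, comp_zero]
    show (0 : F.obj j ⟶ G.obj j) ≫ colimit.ι G j = 0
    rw [zero_comp]⟩
  have hΦ := isLimitMapConeForkEquiv' (colim : (J ⥤ B) ⥤ B) hκα
    (isLimitOfPreserves (colim : (J ⥤ B) ⥤ B) hfork)
  let e₁ := IsColimit.coconePointUniqueUpToIso (colimit.isColimit D₁) hc₁
  let e₂ := IsColimit.coconePointUniqueUpToIso (colimit.isColimit D₂) hc₂
  let eK := IsColimit.coconePointUniqueUpToIso (colimit.isColimit K) hcK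
  have h1 : ∀ j, colimit.ι D₁ j ≫ e₁.hom = c₁.ι.app j :=
    fun j => IsColimit.comp_coconePointUniqueUpToIso_hom _ _ j
  have h2 : ∀ j, colimit.ι D₂ j ≫ e₂.hom = c₂.ι.app j :=
    fun j => IsColimit.comp_coconePointUniqueUpToIso_hom _ _ j
  have hK : ∀ j, colimit.ι K j ≫ eK.hom = cK.ι.app j :=
    fun j => IsColimit.comp_coconePointUniqueUpToIso_hom _ _ j
  have r1 : colim.map α ≫ e₂.hom = e₁.hom ≫ a := by
    apply colimit.hom_ext
    intro j
    rw [← Category.assoc, colimit.ι_map, Category.assoc, h2, ← Category.assoc, h1, ha]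
  have r2 : colim.map κ ≫ e₁.hom = eK.hom ≫ k := by
    apply colimit.hom_ext
    intro j
    rw [← Category.assoc, colimit.ι_map, Category.assoc, h1, ← Category.assoc, hK, hk]
  have r1' : e₁.inv ≫ colim.map α = a ≫ e₂.inv := by
    rw [Iso.inv_comp_eq, ← Category.assoc, ← r1, Category.assoc, Iso.hom_inv_id, Category.comp_id]
  have r2' : eK.inv ≫ colim.map κ = k ≫ e₁.inv := by
    rw [Iso.inv_comp_eq, ← Category.assoc, ← r2, Category.assoc, Iso.hom_inv_id, Category.comp_id]
  have hka : k ≫ a = 0 := by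
    have h0 : eK.hom ≫ k ≫ a = 0 := by
      rw [← Category.assoc, ← r2, Category.assoc, ← r1, ← Category.assoc, ← Functor.map_comp,
        hκα, Functor.map_zero, zero_comp]
    exact (cancel_epi eK.hom).1 (by rw [h0, comp_zero])
  refine ⟨hka, fun T t ht => ?_⟩
  have ht' : (t ≫ e₁.inv) ≫ colim.map α = 0 := by
    rw [Category.assoc, r1', ← Category.assoc, ht, zero_comp]
  have hfac : hΦ.lift (KernelFork.ofι (t ≫ e₁.inv) ht') ≫ colim.map κ = t ≫ e₁.inv :=
    hΦ.fac _ WalkingParallelPair.zero
  refine ⟨hΦ.lift (KernelFork.ofι (t ≫ e₁.inv) ht') ≫ eK.hom, ?_, ?_⟩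
  · show (hΦ.lift (KernelFork.ofι (t ≫ e₁.inv) ht') ≫ eK.hom) ≫ k = t
    rw [Category.assoc, ← r2, ← Category.assoc, hfac, Category.assoc, Iso.inv_hom_id,
      Category.comp_id]
  · intro s hs0
    have hs : s ≫ k = t := hs0
    have hlift : s ≫ eK.inv = hΦ.lift (KernelFork.ofι (t ≫ e₁.inv) ht') := by
      apply Fork.IsLimit.hom_ext hΦ
      show (s ≫ eK.inv) ≫ colim.map κ = hΦ.lift (KernelFork.ofι (t ≫ e₁.inv) ht') ≫ colim.map κ
      rw [hfac, Category.assoc, r2', ← Category.assoc, hs]
    rw [← hlift, Category.assoc, Iso.inv_hom_id, Category.comp_id]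

end isker

section step0'

variable {B : Type u'} [Category.{v'} B] [Preadditive B] (G : FP A ⥤ B)
  [PreservesFiniteLimits G]

def isTerminal_punit : IsTerminal (mkFP A PUnit.{u + 1}) := by
  refine IsTerminal.ofUniqueHom (fun Y => ObjectProperty.homMk 0) ?_
  intro Y m
  apply ObjectProperty.hom_ext
  exact (ModuleCat.isZero_of_subsingleton (ModuleCat.of A PUnit.{u + 1})).eq_of_tgt _ _

lemma map_zero_of_preservesTerminal (X Y : FP A) : G.map (0 : X ⟶ Y) = 0 := by
  have hZ : IsTerminal (G.obj (mkFP A PUnit.{u + 1})) := isTerminal_punit.isTerminalObj G _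
  have h1 : (0 : X ⟶ Y) = (0 : X ⟶ mkFP A PUnit.{u + 1}) ≫ (0 : mkFP A PUnit.{u + 1} ⟶ Y) := by
    rw [zero_comp]
  rw [h1, G.map_comp]
  have h2 : G.map (0 : X ⟶ mkFP A PUnit.{u + 1}) = 0 := hZ.hom_ext _ _
  rw [h2, zero_comp]

/-- `P × P` with the two projections is a product of `P` with itself. -/
def isLimit_prodFan (P : Type u) [AddCommGroup P] [Module A P] :
    IsLimit (BinaryFan.mk (X := ModuleCat.of A P) (Y := ModuleCat.of A P)
      (ModuleCat.ofHom (LinearMap.fst A P P)) (ModuleCat.ofHom (LinearMap.snd A P P))) :=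
  BinaryFan.IsLimit.mk _
    (fun {T} f g => ModuleCat.ofHom (LinearMap.prod f.hom g.hom))
    (fun {T} f g => by
      apply ModuleCat.hom_ext
      apply LinearMap.ext
      intro x
      rfl)
    (fun {T} f g => by
      apply ModuleCat.hom_ext
      apply LinearMap.ext
      intro x
      rfl)
    (fun {T} f g m h1 h2 => by
      apply ModuleCat.hom_ext
      apply LinearMap.ext
      intro x
      apply Prod.ext
      · exact LinearMap.congr_fun (congrArg ModuleCat.Hom.hom h1) x
      · exact LinearMap.congr_fun (congrArg ModuleCat.Hom.hom h2) x)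

/-- A functor on finitely presented modules preserving finite limits is additive. -/
theorem additive_of_preservesFiniteLimits : G.Additive := by
  constructor
  intro X Y a b
  let P : Type u := Y.obj
  haveI : Module.FinitePresentation A P := Y.property
  let W : FP A := mkFP A (P × P)
  let inl' : Y ⟶ W := ObjectProperty.homMk (ModuleCat.ofHom (LinearMap.inl A P P))
  let inr' : Y ⟶ W := ObjectProperty.homMk (ModuleCat.ofHom (LinearMap.inr A P P))
  let fst' : W ⟶ Y := ObjectProperty.homMk (ModuleCat.ofHom (LinearMap.fst A P P))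
  let snd' : W ⟶ Y := ObjectProperty.homMk (ModuleCat.ofHom (LinearMap.snd A P P))
  let ab : X ⟶ W :=
    ObjectProperty.homMk (ModuleCat.ofHom (LinearMap.prod a.hom.hom b.hom.hom))
  let nab : W ⟶ Y :=
    ObjectProperty.homMk (ModuleCat.ofHom (LinearMap.coprod LinearMap.id LinearMap.id))
  have hcW : IsLimit (BinaryFan.mk fst' snd') :=
    isLimitOfReflectsOfMapIsLimit (fpP A).ι fst' snd' (isLimit_prodFan P)
  have hGW : IsLimit (BinaryFan.mk (G.map fst') (G.map snd')) :=
    mapIsLimitOfPreservesOfIsLimit G fst' snd' hcW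
  have e1 : ab ≫ nab = a + b := by
    apply ObjectProperty.hom_ext
    apply ModuleCat.hom_ext
    apply LinearMap.ext
    intro x
    rfl
  have e2 : ab ≫ fst' = a := by
    apply ObjectProperty.hom_ext
    apply ModuleCat.hom_ext
    apply LinearMap.ext
    intro x
    rfl
  have e3 : ab ≫ snd' = b := by
    apply ObjectProperty.hom_ext
    apply ModuleCat.hom_ext
    apply LinearMap.ext
    intro x
    rfl
  have e4 : inl' ≫ fst' = 𝟙 Y := by
    apply ObjectProperty.hom_ext
    apply ModuleCat.hom_ext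
    apply LinearMap.ext
    intro x
    rfl
  have e5 : inr' ≫ fst' = 0 := by
    apply ObjectProperty.hom_ext
    apply ModuleCat.hom_ext
    apply LinearMap.ext
    intro x
    rfl
  have e6 : inl' ≫ snd' = 0 := by
    apply ObjectProperty.hom_ext
    apply ModuleCat.hom_ext
    apply LinearMap.ext
    intro x
    rfl
  have e7 : inr' ≫ snd' = 𝟙 Y := by
    apply ObjectProperty.hom_ext
    apply ModuleCat.hom_ext
    apply LinearMap.ext
    intro x
    rfl
  have en1 : inl' ≫ nab = 𝟙 Y := by
    apply ObjectProperty.hom_ext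
    apply ModuleCat.hom_ext
    exact LinearMap.coprod_inl LinearMap.id LinearMap.id
  have en2 : inr' ≫ nab = 𝟙 Y := by
    apply ObjectProperty.hom_ext
    apply ModuleCat.hom_ext
    exact LinearMap.coprod_inr LinearMap.id LinearMap.id
  have z1 : G.map (0 : Y ⟶ Y) = 0 := map_zero_of_preservesTerminal G Y Y
  have q1 : G.map inl' ≫ G.map fst' = 𝟙 _ := by rw [← G.map_comp, e4, G.map_id]
  have q2 : G.map inl' ≫ G.map snd' = 0 := by rw [← G.map_comp, e6, z1]
  have q3 : G.map inr' ≫ G.map fst' = 0 := by rw [← G.map_comp, e5, z1]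
  have q4 : G.map inr' ≫ G.map snd' = 𝟙 _ := by rw [← G.map_comp, e7, G.map_id]
  have q5 : G.map inl' ≫ G.map nab = 𝟙 _ := by rw [← G.map_comp, en1, G.map_id]
  have q6 : G.map inr' ≫ G.map nab = 𝟙 _ := by rw [← G.map_comp, en2, G.map_id]
  have e8 : G.map fst' ≫ G.map inl' + G.map snd' ≫ G.map inr' = 𝟙 (G.obj W) := by
    apply BinaryFan.IsLimit.hom_ext hGW
    · show (G.map fst' ≫ G.map inl' + G.map snd' ≫ G.map inr') ≫ G.map fst'
        = 𝟙 _ ≫ G.map fst'
      rw [Preadditive.add_comp, Category.assoc, Category.assoc, q1, q3, Category.comp_id,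
        comp_zero, add_zero, Category.id_comp]
    · show (G.map fst' ≫ G.map inl' + G.map snd' ≫ G.map inr') ≫ G.map snd'
        = 𝟙 _ ≫ G.map snd'
      rw [Preadditive.add_comp, Category.assoc, Category.assoc, q2, q4, Category.comp_id,
        comp_zero, zero_add, Category.id_comp]
  have e9 : G.map nab = G.map fst' + G.map snd' := by
    calc G.map nab = 𝟙 _ ≫ G.map nab := (Category.id_comp _).symm
      _ = (G.map fst' ≫ G.map inl' + G.map snd' ≫ G.map inr') ≫ G.map nab := by rw [e8]
      _ = G.map fst' + G.map snd' := by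
        rw [Preadditive.add_comp, Category.assoc, Category.assoc, q5, q6, Category.comp_id,
          Category.comp_id]
  calc G.map (a + b) = G.map (ab ≫ nab) := by rw [e1]
    _ = G.map ab ≫ G.map nab := G.map_comp _ _
    _ = G.map ab ≫ (G.map fst' + G.map snd') := by rw [e9]
    _ = G.map ab ≫ G.map fst' + G.map ab ≫ G.map snd' := by rw [Preadditive.comp_add]
    _ = G.map a + G.map b := by rw [← G.map_comp, ← G.map_comp, e2, e3]

end step0'

section leftExact

variable {B : Type u'} [Category.{v'} B] [Preadditive B]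
  (hcoh : ∀ I : Ideal A, I.FG → Module.FinitePresentation A I)
  (F' : ModuleCat.{u} A ⥤ B) [PreservesFilteredColimitsOfSize.{u, u} F']
  [PreservesFiniteLimits ((fpP A).ι ⋙ F')] [F'.Additive]

include hcoh in
lemma fp_ker {P P' : Type u} [AddCommGroup P] [Module A P] [Module.FinitePresentation A P]
    [AddCommGroup P'] [Module A P'] [Module.FinitePresentation A P'] (g : P →ₗ[A] P') :
    Module.FinitePresentation A (LinearMap.ker g) := by
  have hP := (Groth.Agent.S6366.result A hcoh P).2 inferInstance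
  have hP' := (Groth.Agent.S6366.result A hcoh P').2 inferInstance
  haveI := hP.1
  haveI : Module.FinitePresentation A (LinearMap.range g) := hP'.2 _ (Submodule.fg_range g)
  have hfg : (LinearMap.ker g.rangeRestrict).FG :=
    Module.FinitePresentation.fg_ker g.rangeRestrict g.surjective_rangeRestrict
  rw [LinearMap.ker_rangeRestrict] at hfg
  exact hP.2 _ hfg

lemma map_ker_zero {P N : Type u} [AddCommGroup P] [Module A P] [AddCommGroup N] [Module A N]
    (g : P →ₗ[A] N) :
    F'.map (ModuleCat.ofHom (LinearMap.ker g).subtype) ≫ F'.map (ModuleCat.ofHom g) = 0 := by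
  rw [← F'.map_comp]
  have h1 : ModuleCat.ofHom (LinearMap.ker g).subtype ≫ ModuleCat.ofHom g = 0 := by
    apply ModuleCat.hom_ext
    apply LinearMap.ext
    intro x
    exact LinearMap.mem_ker.1 x.2
  rw [h1, F'.map_zero]

/-- `F'` maps the kernel of a map of finitely presented modules to a kernel. -/
lemma isKer_map_ker {P P' : Type u} [AddCommGroup P] [Module A P] [Module.FinitePresentation A P]
    [AddCommGroup P'] [Module A P'] [Module.FinitePresentation A P'] (g : P →ₗ[A] P')
    [Module.FinitePresentation A (LinearMap.ker g)] :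
    IsKer (F'.map (ModuleCat.ofHom (LinearMap.ker g).subtype)) (F'.map (ModuleCat.ofHom g)) := by
  have w0 : mkHom (LinearMap.ker g).subtype ≫ mkHom g
      = (0 : mkFP A (LinearMap.ker g) ⟶ mkFP A P') := by
    apply ObjectProperty.hom_ext
    apply ModuleCat.hom_ext
    apply LinearMap.ext
    intro x
    exact LinearMap.mem_ker.1 x.2
  have h1 := ModuleCat.kernelIsLimit (ModuleCat.ofHom g)
  have h2 : IsLimit (KernelFork.ofι (mkHom (LinearMap.ker g).subtype) w0) :=
    isLimitOfReflects (fpP A).ι ((isLimitMapConeForkEquiv' (fpP A).ι w0).symm h1)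
  have h3 := isLimitMapConeForkEquiv' ((fpP A).ι ⋙ F') w0
    (isLimitOfPreserves ((fpP A).ι ⋙ F') h2)
  exact IsKer.of_isLimit (map_ker_zero F' g) h3

end leftExact

section stepA

variable {N : Type u} [AddCommGroup N] [Module A N]

/-- Stages above a given one. -/
abbrev Above (q0 : Idx A N) : Type u := {q : Idx A N // q0 ≤ q}

instance (q0 : Idx A N) : Nonempty (Above q0) := ⟨⟨q0, le_refl _⟩⟩

instance (q0 : Idx A N) : IsDirected (Above q0) (· ≤ ·) := ⟨fun a b => by
  obtain ⟨c, hac, hbc⟩ := exists_ge_ge a.1 b.1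
  exact ⟨⟨c, a.2.trans hac⟩, hac, hbc⟩⟩

/-- The diagram of stages above `q0`. -/
def E2 (q0 : Idx A N) : Above q0 ⥤ ModuleCat.{u} A where
  obj q := ModuleCat.of A (Q q.1)
  map {q q'} φ := ModuleCat.ofHom (tr (show q.1 ≤ q'.1 from leOfHom φ))
  map_id q := by
    apply ModuleCat.hom_ext
    apply LinearMap.ext
    intro x
    exact tr_refl q.1 x
  map_comp {q q' q''} φ ψ := by
    apply ModuleCat.hom_ext
    apply LinearMap.ext
    intro x
    exact (tr_tr (show q.1 ≤ q'.1 from leOfHom φ) (show q'.1 ≤ q''.1 from leOfHom ψ) x).symm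

/-- Its cocone. -/
def cocE2 (q0 : Idx A N) : Cocone (E2 q0) where
  pt := ModuleCat.of A N
  ι :=
    { app := fun q => ModuleCat.ofHom (leg q.1)
      naturality := fun q q' φ => by
        apply ModuleCat.hom_ext
        apply LinearMap.ext
        intro x
        exact leg_tr (show q.1 ≤ q'.1 from leOfHom φ) x }

def isColimit_cocE2 (q0 : Idx A N) : IsColimit (cocE2 q0) := by
  haveI : IsFiltered (Above q0) := inferInstance
  apply isColimit_of_elementwise
  · intro m
    obtain ⟨p, y, hy⟩ := leg_surj (A := A) (M := N) m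
    obtain ⟨c, hpc, hqc⟩ := exists_ge_ge p q0
    refine ⟨⟨c, hqc⟩, tr hpc y, ?_⟩
    show leg c (tr hpc y) = m
    rw [leg_tr, hy]
  · intro q x y hxy
    obtain ⟨q', h, hq'⟩ := leg_kill q.1 x y hxy
    exact ⟨⟨q', q.2.trans h⟩, homOfLE (show q.1 ≤ q' from h), hq'⟩

variable {P : Type u} [AddCommGroup P] [Module A P]

lemma ker_stage_mono (q0 : Idx A N) (g0 : P →ₗ[A] Q q0) {q q' : Above q0} (h : q ≤ q') :
    LinearMap.ker ((tr q.2).comp g0) ≤ LinearMap.ker ((tr q'.2).comp g0) := by
  intro x hx
  have hx' : tr q.2 (g0 x) = 0 := LinearMap.mem_ker.1 hx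
  have h1 : tr (show q.1 ≤ q'.1 from h) (tr q.2 (g0 x)) = tr q'.2 (g0 x) :=
    tr_tr q.2 (show q.1 ≤ q'.1 from h) (g0 x)
  rw [hx', map_zero] at h1
  exact LinearMap.mem_ker.2 h1.symm

/-- The diagram of kernels of `P → Q q`. -/
def EK (q0 : Idx A N) (g0 : P →ₗ[A] Q q0) : Above q0 ⥤ ModuleCat.{u} A where
  obj q := ModuleCat.of A (LinearMap.ker ((tr q.2).comp g0))
  map {q q'} φ := ModuleCat.ofHom (Submodule.inclusion (ker_stage_mono q0 g0 (leOfHom φ)))
  map_id q := by
    apply ModuleCat.hom_ext
    apply LinearMap.ext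
    intro x
    rfl
  map_comp {q q' q''} φ ψ := by
    apply ModuleCat.hom_ext
    apply LinearMap.ext
    intro x
    rfl

lemma ker_stage_le (q0 : Idx A N) (g0 : P →ₗ[A] Q q0) (q : Above q0) :
    LinearMap.ker ((tr q.2).comp g0) ≤ LinearMap.ker ((leg q0).comp g0) := by
  intro x hx
  have hx' : tr q.2 (g0 x) = 0 := LinearMap.mem_ker.1 hx
  have h1 : leg q.1 (tr q.2 (g0 x)) = leg q0 (g0 x) := leg_tr q.2 (g0 x)
  rw [hx', map_zero] at h1
  exact LinearMap.mem_ker.2 h1.symm

/-- Its cocone. -/
def cocEK (q0 : Idx A N) (g0 : P →ₗ[A] Q q0) : Cocone (EK q0 g0) where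
  pt := ModuleCat.of A (LinearMap.ker ((leg q0).comp g0))
  ι :=
    { app := fun q => ModuleCat.ofHom (Submodule.inclusion (ker_stage_le q0 g0 q))
      naturality := fun q q' φ => by
        apply ModuleCat.hom_ext
        apply LinearMap.ext
        intro x
        rfl }

def isColimit_cocEK (q0 : Idx A N) (g0 : P →ₗ[A] Q q0) : IsColimit (cocEK q0 g0) := by
  haveI : IsFiltered (Above q0) := inferInstance
  apply isColimit_of_elementwise
  · intro x
    have hx : leg q0 (g0 x.1) = leg q0 0 := by
      rw [map_zero]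
      exact LinearMap.mem_ker.1 x.2
    obtain ⟨q', h, hq'⟩ := leg_kill q0 (g0 x.1) 0 hx
    rw [map_zero] at hq'
    exact ⟨⟨q', h⟩, ⟨x.1, LinearMap.mem_ker.2 hq'⟩, Subtype.ext rfl⟩
  · intro q x y hxy
    refine ⟨q, 𝟙 q, ?_⟩
    have h1' := congrArg Subtype.val hxy
    have h1 : x.1 = y.1 := h1'
    have h2 : x = y := Subtype.ext h1
    rw [h2]

variable {B : Type u'} [Category.{v'} B] [Preadditive B]
  [HasFilteredColimitsOfSize.{u, u} B]
  (hcoh : ∀ I : Ideal A, I.FG → Module.FinitePresentation A I)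
  (hcomm : ∀ (J : Type u) [SmallCategory J] [IsFiltered J],
      PreservesLimitsOfShape WalkingParallelPair (colim : (J ⥤ B) ⥤ B))
  (F' : ModuleCat.{u} A ⥤ B) [PreservesFilteredColimitsOfSize.{u, u} F']
  [PreservesFiniteLimits ((fpP A).ι ⋙ F')] [F'.Additive]

include hcoh hcomm in
/-- `F'` preserves the kernel of a map from a finitely presented module to a stage system. -/
lemma isKer_stage [Module.FinitePresentation A P] (q0 : Idx A N) (g0 : P →ₗ[A] Q q0) :
    IsKer (F'.map (ModuleCat.ofHom (LinearMap.ker ((leg q0).comp g0)).subtype))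
      (F'.map (ModuleCat.ofHom ((leg q0).comp g0))) := by
  haveI : IsFiltered (Above q0) := inferInstance
  haveI : IsConnected (Above q0) := IsFiltered.isConnected _
  have hfpQ : ∀ q : Above q0, Module.FinitePresentation A (Q q.1) := fun q => fp_Q q.1
  let α : (Functor.const (Above q0)).obj (F'.obj (ModuleCat.of A P)) ⟶ E2 q0 ⋙ F' :=
    { app := fun q => F'.map (ModuleCat.ofHom ((tr q.2).comp g0))
      naturality := fun q q' φ => by
        show 𝟙 _ ≫ F'.map (ModuleCat.ofHom ((tr q'.2).comp g0))
          = F'.map (ModuleCat.ofHom ((tr q.2).comp g0)) ≫ F'.map ((E2 q0).map φ)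
        rw [Category.id_comp, ← F'.map_comp]
        congr 1
        apply ModuleCat.hom_ext
        apply LinearMap.ext
        intro x
        exact (tr_tr q.2 (show q.1 ≤ q'.1 from leOfHom φ) (g0 x)).symm }
  let κ : EK q0 g0 ⋙ F' ⟶ (Functor.const (Above q0)).obj (F'.obj (ModuleCat.of A P)) :=
    { app := fun q => F'.map (ModuleCat.ofHom (LinearMap.ker ((tr q.2).comp g0)).subtype)
      naturality := fun q q' φ => by
        show F'.map ((EK q0 g0).map φ)
            ≫ F'.map (ModuleCat.ofHom (LinearMap.ker ((tr q'.2).comp g0)).subtype)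
          = F'.map (ModuleCat.ofHom (LinearMap.ker ((tr q.2).comp g0)).subtype) ≫ 𝟙 _
        rw [Category.comp_id, ← F'.map_comp]
        rfl }
  have hker : ∀ q : Above q0, IsKer (κ.app q) (α.app q) := by
    intro q
    haveI := hfpQ q
    haveI : Module.FinitePresentation A (LinearMap.ker ((tr q.2).comp g0)) :=
      fp_ker hcoh ((tr q.2).comp g0)
    exact isKer_map_ker F' ((tr q.2).comp g0)
  have hc₁ : IsColimit (constCocone (Above q0) (F'.obj (ModuleCat.of A P))) :=
    isColimitConstCocone _ _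
  have hc₂ : IsColimit (F'.mapCocone (cocE2 q0)) := isColimitOfPreserves F' (isColimit_cocE2 q0)
  have hcK : IsColimit (F'.mapCocone (cocEK q0 g0)) :=
    isColimitOfPreserves F' (isColimit_cocEK q0 g0)
  refine isKer_colimit hcomm α κ hker hc₁ hc₂ hcK
    (F'.map (ModuleCat.ofHom ((leg q0).comp g0))) ?_
    (F'.map (ModuleCat.ofHom (LinearMap.ker ((leg q0).comp g0)).subtype)) ?_
  · intro q
    show 𝟙 _ ≫ F'.map (ModuleCat.ofHom ((leg q0).comp g0))
      = F'.map (ModuleCat.ofHom ((tr q.2).comp g0)) ≫ F'.map (ModuleCat.ofHom (leg q.1))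
    rw [Category.id_comp, ← F'.map_comp]
    congr 1
    apply ModuleCat.hom_ext
    apply LinearMap.ext
    intro x
    exact (leg_tr q.2 (g0 x)).symm
  · intro q
    show F'.map (ModuleCat.ofHom (Submodule.inclusion (ker_stage_le q0 g0 q)))
        ≫ F'.map (ModuleCat.ofHom (LinearMap.ker ((leg q0).comp g0)).subtype)
      = F'.map (ModuleCat.ofHom (LinearMap.ker ((tr q.2).comp g0)).subtype) ≫ 𝟙 _
    rw [Category.comp_id, ← F'.map_comp]
    rfl

include hcoh hcomm in
/-- `F'` preserves the kernel of any map from a finitely presented module. -/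
lemma isKer_of_fp_source [Module.FinitePresentation A P] (g : P →ₗ[A] N) :
    IsKer (F'.map (ModuleCat.ofHom (LinearMap.ker g).subtype)) (F'.map (ModuleCat.ofHom g)) := by
  obtain ⟨q0, g0, hg0⟩ := exists_factor (A := A) (M := N) P g
  have hg : (leg q0).comp g0 = g := by
    apply LinearMap.ext
    intro x
    exact hg0 x
  have h := isKer_stage hcoh hcomm F' q0 g0
  rw [hg] at h
  exact h

end stepA

section stepB

variable {M N : Type u} [AddCommGroup M] [Module A M] [AddCommGroup N] [Module A N]
  (f : M →ₗ[A] N)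

lemma kerB_maps {p p' : Idx A M} (h : p ≤ p') :
    ∀ x ∈ LinearMap.ker (f.comp (leg p)), tr h x ∈ LinearMap.ker (f.comp (leg p')) := by
  intro x hx
  have hx' : f (leg p x) = 0 := LinearMap.mem_ker.1 hx
  apply LinearMap.mem_ker.2
  show f (leg p' (tr h x)) = 0
  rw [leg_tr, hx']

/-- The diagram of kernels of `Q p → N`. -/
def EKB : Idx A M ⥤ ModuleCat.{u} A where
  obj p := ModuleCat.of A (LinearMap.ker (f.comp (leg p)))
  map {p p'} φ := ModuleCat.ofHom ((tr (leOfHom φ)).restrict (kerB_maps f (leOfHom φ)))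
  map_id p := by
    apply ModuleCat.hom_ext
    apply LinearMap.ext
    intro x
    exact Subtype.ext (tr_refl p x.1)
  map_comp {p p' p''} φ ψ := by
    apply ModuleCat.hom_ext
    apply LinearMap.ext
    intro x
    exact Subtype.ext (tr_tr (leOfHom φ) (leOfHom ψ) x.1).symm

lemma kerB_leg (p : Idx A M) :
    ∀ x ∈ LinearMap.ker (f.comp (leg p)), leg p x ∈ LinearMap.ker f := by
  intro x hx
  exact LinearMap.mem_ker.2 (LinearMap.mem_ker.1 hx)

/-- Its cocone. -/
def cocEKB : Cocone (EKB f) where
  pt := ModuleCat.of A (LinearMap.ker f)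
  ι :=
    { app := fun p => ModuleCat.ofHom ((leg p).restrict (kerB_leg f p))
      naturality := fun p p' φ => by
        apply ModuleCat.hom_ext
        apply LinearMap.ext
        intro x
        exact Subtype.ext (leg_tr (leOfHom φ) x.1) }

def isColimit_cocEKB : IsColimit (cocEKB f) := by
  haveI : IsFiltered (Idx A M) := inferInstance
  apply isColimit_of_elementwise
  · intro y
    obtain ⟨p, x, hx⟩ := leg_surj (A := A) (M := M) y.1
    have hmem : x ∈ LinearMap.ker (f.comp (leg p)) := by
      apply LinearMap.mem_ker.2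
      show f (leg p x) = 0
      rw [hx]
      exact LinearMap.mem_ker.1 y.2
    exact ⟨p, ⟨x, hmem⟩, Subtype.ext hx⟩
  · intro p x y hxy
    have h1 : leg p x.1 = leg p y.1 := congrArg Subtype.val hxy
    obtain ⟨p', h, hp'⟩ := leg_kill p x.1 y.1 h1
    exact ⟨p', homOfLE h, Subtype.ext hp'⟩

variable {B : Type u'} [Category.{v'} B] [Preadditive B]
  [HasFilteredColimitsOfSize.{u, u} B]
  (hcoh : ∀ I : Ideal A, I.FG → Module.FinitePresentation A I)
  (hcomm : ∀ (J : Type u) [SmallCategory J] [IsFiltered J],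
      PreservesLimitsOfShape WalkingParallelPair (colim : (J ⥤ B) ⥤ B))
  (F' : ModuleCat.{u} A ⥤ B) [PreservesFilteredColimitsOfSize.{u, u} F']
  [PreservesFiniteLimits ((fpP A).ι ⋙ F')] [F'.Additive]

include hcoh hcomm in
/-- `F'` preserves all kernels. -/
lemma isKer_general :
    IsKer (F'.map (ModuleCat.ofHom (LinearMap.ker f).subtype)) (F'.map (ModuleCat.ofHom f)) := by
  haveI : IsFiltered (Idx A M) := inferInstance
  haveI : IsConnected (Idx A M) := IsFiltered.isConnected _
  let α : D A M ⋙ F' ⟶ (Functor.const (Idx A M)).obj (F'.obj (ModuleCat.of A N)) :=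
    { app := fun p => F'.map (ModuleCat.ofHom (f.comp (leg p)))
      naturality := fun p p' φ => by
        show F'.map ((D A M).map φ) ≫ F'.map (ModuleCat.ofHom (f.comp (leg p')))
          = F'.map (ModuleCat.ofHom (f.comp (leg p))) ≫ 𝟙 _
        rw [Category.comp_id, ← F'.map_comp]
        congr 1
        apply ModuleCat.hom_ext
        apply LinearMap.ext
        intro x
        exact congrArg f (leg_tr (leOfHom φ) x) }
  let κ : EKB f ⋙ F' ⟶ D A M ⋙ F' :=
    { app := fun p => F'.map (ModuleCat.ofHom (LinearMap.ker (f.comp (leg p))).subtype)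
      naturality := fun p p' φ => by
        show F'.map ((EKB f).map φ)
            ≫ F'.map (ModuleCat.ofHom (LinearMap.ker (f.comp (leg p'))).subtype)
          = F'.map (ModuleCat.ofHom (LinearMap.ker (f.comp (leg p))).subtype)
            ≫ F'.map ((D A M).map φ)
        rw [← F'.map_comp, ← F'.map_comp]
        rfl }
  have hker : ∀ p : Idx A M, IsKer (κ.app p) (α.app p) := by
    intro p
    haveI := fp_Q p
    exact isKer_of_fp_source hcoh hcomm F' (f.comp (leg p))
  have hc₁ : IsColimit (F'.mapCocone (coc A M)) := isColimitOfPreserves F' (isColimit_coc A M)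
  have hc₂ : IsColimit (constCocone (Idx A M) (F'.obj (ModuleCat.of A N))) :=
    isColimitConstCocone _ _
  have hcK : IsColimit (F'.mapCocone (cocEKB f)) := isColimitOfPreserves F' (isColimit_cocEKB f)
  refine isKer_colimit hcomm α κ hker hc₁ hc₂ hcK (F'.map (ModuleCat.ofHom f)) ?_
    (F'.map (ModuleCat.ofHom (LinearMap.ker f).subtype)) ?_
  · intro p
    show F'.map (ModuleCat.ofHom (leg p)) ≫ F'.map (ModuleCat.ofHom f)
      = F'.map (ModuleCat.ofHom (f.comp (leg p))) ≫ 𝟙 _
    rw [Category.comp_id, ← F'.map_comp]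
    rfl
  · intro p
    show F'.map (ModuleCat.ofHom ((leg p).restrict (kerB_leg f p)))
        ≫ F'.map (ModuleCat.ofHom (LinearMap.ker f).subtype)
      = F'.map (ModuleCat.ofHom (LinearMap.ker (f.comp (leg p))).subtype)
        ≫ F'.map (ModuleCat.ofHom (leg p))
    rw [← F'.map_comp, ← F'.map_comp]
    rfl

end stepB

section final

variable {B : Type u'} [Category.{v'} B] [Preadditive B]
  [HasFilteredColimitsOfSize.{u, u} B]
  (hcoh : ∀ I : Ideal A, I.FG → Module.FinitePresentation A I)
  (hcomm : ∀ (J : Type u) [SmallCategory J] [IsFiltered J],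
      PreservesLimitsOfShape WalkingParallelPair (colim : (J ⥤ B) ⥤ B))
  (F' : ModuleCat.{u} A ⥤ B) [PreservesFilteredColimitsOfSize.{u, u} F']
  [PreservesFiniteLimits ((fpP A).ι ⋙ F')]

include hcoh hcomm in
lemma preservesLimit_kernel [F'.Additive] {M N : ModuleCat.{u} A} (f : M ⟶ N) :
    PreservesLimit (parallelPair f 0) F' := by
  apply preservesLimit_of_preserves_limit_cone (ModuleCat.kernelIsLimit f)
  have h := isKer_general f.hom hcoh hcomm F'
  have w : ModuleCat.ofHom (LinearMap.ker f.hom).subtype ≫ f = 0 := by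
    apply ModuleCat.hom_ext
    apply LinearMap.ext
    intro x
    exact LinearMap.mem_ker.1 x.2
  exact (isLimitMapConeForkEquiv' F' w).symm h.isLimit

include hcoh hcomm in
/-- Left exactness on finitely presented modules over a coherent ring implies left exactness. -/
theorem main_leftExact [HasFiniteBiproducts B] [HasKernels B] :
    F'.Additive ∧ PreservesFiniteLimits F' ∧
      ∀ J : Type u, PreservesColimitsOfShape (Discrete J) F' := by
  haveI h0 : ((fpP A).ι ⋙ F').Additive := additive_of_preservesFiniteLimits ((fpP A).ι ⋙ F')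
  obtain ⟨hadd, hcop⟩ := main A F'
  haveI := hadd
  refine ⟨hadd, ?_, hcop⟩
  haveI : ∀ {X Y : ModuleCat.{u} A} (f : X ⟶ Y), PreservesLimit (parallelPair f 0) F' :=
    fun f => preservesLimit_kernel hcoh hcomm F' f
  exact Functor.preservesFiniteLimits_of_preservesKernels F'

end final

end

end Groth.Agent.Lib.FPColimL
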