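import Mathlib
import Groth.Agent.Lib.FPColim2_lead

/-!
# Extension of functors from finitely presented modules to all modules (lead)

* `fp_factor`, `fp_factor_eq`: finitely presented modules are compact with respect to small
  filtered colimits of modules.
* `toCostr`, `final_toCostr`: the canonical directed system of presentations of `M` is final in
  the comma category of finitely presented modules over `M`.
* `exists_extension`: a functor on finitely presented modules extends (by pointwise left Kan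
  extension) to a functor on all modules commuting with filtered colimits.
* `iso_of_iso_on_fp`: two functors commuting with filtered colimits which are isomorphic on
  finitely presented modules are isomorphic.
-/

set_option autoImplicit false
set_option linter.all false
set_option maxHeartbeats 1600000
set_option backward.isDefEq.respectTransparency false
set_option backward.isDefEq.respectTransparency.types false
set_option backward.defeqAttrib.useBackward true

universe u v' u'

open CategoryTheory CategoryTheory.Limits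

namespace Groth.Agent.Lib.FPColimL

noncomputable section

section compact

variable {A : Type u} [CommRing A] {J : Type u} [SmallCategory J] [IsFiltered J]
  (K : J ⥤ ModuleCat.{u} A) (c : Cocone K) (hc : IsColimit c)

lemma coc_w_apply {j k : J} (a : j ⟶ k) (y : K.obj j) :
    (c.ι.app k).hom ((K.map a).hom y) = (c.ι.app j).hom y := by
  have h := congrArg (fun f : K.obj j ⟶ c.pt => f.hom y) (c.w a)
  exact h

lemma map_comp_apply' {j k l : J} (a : j ⟶ k) (b : k ⟶ l) (y : K.obj j) :
    (K.map (a ≫ b)).hom y = (K.map b).hom ((K.map a).hom y) := by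
  rw [K.map_comp]
  rfl

include hc in
lemma colim_rep (x : c.pt) : ∃ (j : J) (y : K.obj j), (c.ι.app j).hom y = x := by
  haveI : PreservesColimitsOfShape J (forget (ModuleCat.{u} A)) :=
    PreservesFilteredColimitsOfSize.preserves_filtered_colimits J
  obtain ⟨j, y, hy⟩ := Concrete.isColimit_exists_rep K hc x
  exact ⟨j, y, hy⟩

include hc in
lemma colim_eq {j : J} (y y' : K.obj j) (h : (c.ι.app j).hom y = (c.ι.app j).hom y') :
    ∃ (k : J) (a : j ⟶ k), (K.map a).hom y = (K.map a).hom y' := by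
  haveI : PreservesColimitsOfShape J (forget (ModuleCat.{u} A)) :=
    PreservesFilteredColimitsOfSize.preserves_filtered_colimits J
  obtain ⟨k, f, g, hfg⟩ := Concrete.isColimit_exists_of_rep_eq K hc y y' h
  have hfg' : (K.map f).hom y = (K.map g).hom y' := hfg
  refine ⟨IsFiltered.coeq f g, f ≫ IsFiltered.coeqHom f g, ?_⟩
  have h2 : (K.map (f ≫ IsFiltered.coeqHom f g)).hom y'
      = (K.map (IsFiltered.coeqHom f g)).hom ((K.map g).hom y') := by
    rw [IsFiltered.coeq_condition, map_comp_apply']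
  rw [map_comp_apply', h2, hfg']

include hc in
lemma colim_rep_fin {n : ℕ} (x : Fin n → c.pt) :
    ∃ (j : J) (y : Fin n → K.obj j), ∀ i, (c.ι.app j).hom (y i) = x i := by
  classical
  choose j0 y0 hy0 using fun i => colim_rep K c hc (x i)
  obtain ⟨S, hS⟩ := IsFiltered.sup_objs_exists (Finset.univ.image j0)
  have hS' : ∀ i, Nonempty (j0 i ⟶ S) :=
    fun i => hS (Finset.mem_image_of_mem j0 (Finset.mem_univ i))
  refine ⟨S, fun i => (K.map (hS' i).some).hom (y0 i), fun i => ?_⟩
  show (c.ι.app S).hom ((K.map (hS' i).some).hom (y0 i)) = x i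
  rw [coc_w_apply]
  exact hy0 i

include hc in
lemma colim_eq_list {j : J} (l : List (K.obj j × K.obj j))
    (h : ∀ p ∈ l, (c.ι.app j).hom p.1 = (c.ι.app j).hom p.2) :
    ∃ (k : J) (a : j ⟶ k), ∀ p ∈ l, (K.map a).hom p.1 = (K.map a).hom p.2 := by
  induction l with
  | nil =>
    refine ⟨j, 𝟙 j, fun p hp => ?_⟩
    simp at hp
  | cons q l ih =>
    obtain ⟨k, a, ha⟩ := ih (fun p hp => h p (List.mem_cons_of_mem _ hp))
    have hq : (c.ι.app k).hom ((K.map a).hom q.1) = (c.ι.app k).hom ((K.map a).hom q.2) := by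
      rw [coc_w_apply, coc_w_apply]
      exact h q (by simp)
    obtain ⟨k', a', ha'⟩ := colim_eq K c hc _ _ hq
    refine ⟨k', a ≫ a', fun p hp => ?_⟩
    rw [map_comp_apply', map_comp_apply']
    rcases List.mem_cons.1 hp with hpq | hp'
    · rw [hpq]
      exact ha'
    · rw [ha p hp']

include hc in
lemma colim_eq_fin {j : J} {n : ℕ} (y y' : Fin n → K.obj j)
    (h : ∀ i, (c.ι.app j).hom (y i) = (c.ι.app j).hom (y' i)) :
    ∃ (k : J) (a : j ⟶ k), ∀ i, (K.map a).hom (y i) = (K.map a).hom (y' i) := by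
  obtain ⟨k, a, ha⟩ := colim_eq_list K c hc (List.ofFn (fun i => (y i, y' i))) (by
    intro p hp
    obtain ⟨i, rfl⟩ := (List.mem_ofFn' _ _).1 hp
    exact h i)
  exact ⟨k, a, fun i => ha (y i, y' i) ((List.mem_ofFn' _ _).2 ⟨i, rfl⟩)⟩

include hc in
/-- A map from a finitely presented module to a filtered colimit factors through a stage. -/
lemma fp_factor (P : Type u) [AddCommGroup P] [Module A P] [Module.FinitePresentation A P]
    (h : P →ₗ[A] c.pt) :
    ∃ (k : J) (h' : P →ₗ[A] K.obj k), ∀ x, (c.ι.app k).hom (h' x) = h x := by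
  classical
  obtain ⟨n, m, f, g, hf, hfg⟩ := Module.FinitePresentation.exists_fin' A P
  obtain ⟨j, y, hy⟩ := colim_rep_fin K c hc (fun i => h (f (Pi.single i 1)))
  let φ : (Fin n → A) →ₗ[A] K.obj j := Fintype.linearCombination A y
  have hφ : ∀ z, (c.ι.app j).hom (φ z) = h (f z) := by
    intro z
    have hcomp : (c.ι.app j).hom.comp φ = h.comp f := by
      apply LinearMap.pi_ext'
      intro i
      apply LinearMap.ext_ring
      show (c.ι.app j).hom (Fintype.linearCombination A y (Pi.single i 1))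
        = h (f (Pi.single i 1))
      rw [Fintype.linearCombination_apply_single, one_smul]
      exact hy i
    exact LinearMap.congr_fun hcomp z
  obtain ⟨k, a, ha⟩ := colim_eq_fin K c hc (fun l : Fin m => φ (g (Pi.single l 1)))
    (fun _ => 0) (by
      intro l
      show (c.ι.app j).hom (φ (g (Pi.single l 1))) = (c.ι.app j).hom 0
      have h0 : f (g (Pi.single l 1)) = 0 := (hfg _).2 ⟨_, rfl⟩
      rw [hφ, map_zero, h0, map_zero])
  let ψ : (Fin n → A) →ₗ[A] K.obj k := (K.map a).hom.comp φ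
  have hψg : ψ.comp g = 0 := by
    apply LinearMap.pi_ext'
    intro l
    apply LinearMap.ext_ring
    show (K.map a).hom (φ (g (Pi.single l 1))) = 0
    exact (ha l).trans (map_zero _)
  have hker : LinearMap.ker f ≤ LinearMap.ker ψ := by
    intro z hz
    obtain ⟨w, rfl⟩ := (hfg z).1 (LinearMap.mem_ker.1 hz)
    exact LinearMap.mem_ker.2 (LinearMap.congr_fun hψg w)
  let e := LinearMap.quotKerEquivOfSurjective f hf
  let h' : P →ₗ[A] K.obj k := ((LinearMap.ker f).liftQ ψ hker).comp e.symm.toLinearMap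
  refine ⟨k, h', fun x => ?_⟩
  obtain ⟨z, rfl⟩ := hf x
  have he : e.symm (f z) = Submodule.Quotient.mk z := by
    rw [LinearEquiv.symm_apply_eq]
    exact (LinearMap.quotKerEquivOfSurjective_apply_mk f hf z).symm
  show (c.ι.app k).hom ((LinearMap.ker f).liftQ ψ hker (e.symm (f z))) = h (f z)
  rw [he]
  show (c.ι.app k).hom ((K.map a).hom (φ z)) = h (f z)
  rw [coc_w_apply]
  exact hφ z

include hc in
/-- Two maps from a finite module to a stage which agree in the colimit agree at a later stage. -/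
lemma fp_factor_eq (P : Type u) [AddCommGroup P] [Module A P] [Module.Finite A P]
    {j : J} (h₁ h₂ : P →ₗ[A] K.obj j)
    (e : ∀ x, (c.ι.app j).hom (h₁ x) = (c.ι.app j).hom (h₂ x)) :
    ∃ (k : J) (a : j ⟶ k), ∀ x, (K.map a).hom (h₁ x) = (K.map a).hom (h₂ x) := by
  obtain ⟨n, f, hf⟩ := Module.Finite.exists_fin' A P
  obtain ⟨k, a, ha⟩ := colim_eq_fin K c hc (fun i => h₁ (f (Pi.single i 1)))
    (fun i => h₂ (f (Pi.single i 1))) (fun i => e _)
  refine ⟨k, a, fun x => ?_⟩
  obtain ⟨z, rfl⟩ := hf x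
  have hcomp : ((K.map a).hom.comp h₁).comp f = ((K.map a).hom.comp h₂).comp f := by
    apply LinearMap.pi_ext'
    intro i
    apply LinearMap.ext_ring
    exact ha i
  exact LinearMap.congr_fun hcomp z

include hc in
lemma fp_factor_cat (P : FP A) (h : P.obj ⟶ c.pt) :
    ∃ (k : J) (h' : P.obj ⟶ K.obj k), h' ≫ c.ι.app k = h := by
  haveI : Module.FinitePresentation A P.obj := P.property
  obtain ⟨k, h', hh'⟩ := fp_factor K c hc P.obj h.hom
  refine ⟨k, (ModuleCat.ofHom h' : P.obj ⟶ K.obj k), ?_⟩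
  apply ModuleCat.hom_ext
  apply LinearMap.ext
  intro x
  exact hh' x

include hc in
lemma fp_factor_eq_cat (P : FP A) {j j' : J} (h₁ : P.obj ⟶ K.obj j) (h₂ : P.obj ⟶ K.obj j')
    (e : h₁ ≫ c.ι.app j = h₂ ≫ c.ι.app j') :
    ∃ (k : J) (a : j ⟶ k) (b : j' ⟶ k), h₁ ≫ K.map a = h₂ ≫ K.map b := by
  haveI : Module.FinitePresentation A P.obj := P.property
  have e' : ∀ x, (c.ι.app (IsFiltered.max j j')).hom
        ((h₁ ≫ K.map (IsFiltered.leftToMax j j')).hom x)
      = (c.ι.app (IsFiltered.max j j')).hom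
        ((h₂ ≫ K.map (IsFiltered.rightToMax j j')).hom x) := by
    intro x
    show (c.ι.app (IsFiltered.max j j')).hom
        ((K.map (IsFiltered.leftToMax j j')).hom (h₁.hom x))
      = (c.ι.app (IsFiltered.max j j')).hom
        ((K.map (IsFiltered.rightToMax j j')).hom (h₂.hom x))
    rw [coc_w_apply, coc_w_apply]
    exact congrArg (fun f : P.obj ⟶ c.pt => f.hom x) e
  obtain ⟨k, a, ha⟩ := fp_factor_eq K c hc P.obj
    (h₁ ≫ K.map (IsFiltered.leftToMax j j')).hom
    (h₂ ≫ K.map (IsFiltered.rightToMax j j')).hom e'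
  refine ⟨k, IsFiltered.leftToMax j j' ≫ a, IsFiltered.rightToMax j j' ≫ a, ?_⟩
  apply ModuleCat.hom_ext
  apply LinearMap.ext
  intro x
  show (K.map (IsFiltered.leftToMax j j' ≫ a)).hom (h₁.hom x)
    = (K.map (IsFiltered.rightToMax j j' ≫ a)).hom (h₂.hom x)
  rw [map_comp_apply', map_comp_apply']
  exact ha x

end compact

section kan

variable (A : Type u) [CommRing A]

/-- The finitely presented module `Q p` as an object of `FP A`. -/
def qFP {M : Type u} [AddCommGroup M] [Module A M] (p : Idx A M) : FP A :=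
  ⟨ModuleCat.of A (Q p), fp_Q p⟩

/-- The canonical functor from presentations of `M` to finitely presented modules over `M`. -/
def toCostr (M : ModuleCat.{u} A) : Idx A M ⥤ CostructuredArrow (fpP A).ι M where
  obj p := CostructuredArrow.mk (Y := qFP A p)
    (ModuleCat.ofHom (leg p) : ModuleCat.of A (Q p) ⟶ M)
  map {p q} f := CostructuredArrow.homMk
    (ObjectProperty.homMk (ModuleCat.ofHom (tr (leOfHom f)))) (by
      apply ModuleCat.hom_ext
      apply LinearMap.ext
      intro x
      exact leg_tr (leOfHom f) x)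
  map_id p := by
    apply CostructuredArrow.hom_ext
    apply ObjectProperty.hom_ext
    apply ModuleCat.hom_ext
    apply LinearMap.ext
    intro x
    exact tr_refl p x
  map_comp {p q r} f g := by
    apply CostructuredArrow.hom_ext
    apply ObjectProperty.hom_ext
    apply ModuleCat.hom_ext
    apply LinearMap.ext
    intro x
    exact (tr_tr (leOfHom f) (leOfHom g) x).symm

instance final_toCostr (M : ModuleCat.{u} A) : (toCostr A M).Final := by
  haveI : IsFiltered (Idx A M) := inferInstance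
  apply Functor.final_of_exists_of_isFiltered (toCostr A M)
  · intro d
    haveI : Module.FinitePresentation A d.left.obj := d.left.property
    obtain ⟨k, h', hh'⟩ := exists_factor (M := M) d.left.obj d.hom.hom
    refine ⟨k, ⟨CostructuredArrow.homMk
      (ObjectProperty.homMk (ModuleCat.ofHom h' : d.left.obj ⟶ ModuleCat.of A (Q k))) ?_⟩⟩
    apply ModuleCat.hom_ext
    apply LinearMap.ext
    intro x
    exact hh' x
  · intro d p s s'
    haveI : Module.FinitePresentation A d.left.obj := d.left.property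
    have hs : ∀ x, (leg p) (s.left.hom.hom x) = (leg p) (s'.left.hom.hom x) := by
      intro x
      have h1 := congrArg (fun f : d.left.obj ⟶ M => f.hom x) (CostructuredArrow.w s)
      have h2 := congrArg (fun f : d.left.obj ⟶ M => f.hom x) (CostructuredArrow.w s')
      exact h1.trans h2.symm
    obtain ⟨q, a, ha⟩ := fp_factor_eq (D A M) (coc A M) (isColimit_coc A M) d.left.obj
      s.left.hom.hom s'.left.hom.hom hs
    refine ⟨q, a, ?_⟩
    apply CostructuredArrow.hom_ext
    apply ObjectProperty.hom_ext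
    apply ModuleCat.hom_ext
    apply LinearMap.ext
    intro x
    exact ha x

variable {B : Type u'} [Category.{v'} B]

lemma hasPointwise [HasFilteredColimitsOfSize.{u, u} B] (F : FP A ⥤ B) :
    (fpP A).ι.HasPointwiseLeftKanExtension F := by
  intro M
  haveI : IsFiltered (Idx A M) := inferInstance
  haveI : HasColimitsOfShape (Idx A M) B := HasFilteredColimitsOfSize.HasColimitsOfShape _
  haveI : HasColimit (toCostr A M ⋙ CostructuredArrow.proj (fpP A).ι M ⋙ F) := inferInstance
  exact Functor.Final.hasColimit_of_comp (toCostr A M)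

variable {A}
variable (F : FP A ⥤ B) (F' : ModuleCat.{u} A ⥤ B) (η : F ⟶ (fpP A).ι ⋙ F')
  (hE : (Functor.LeftExtension.mk F' η).IsPointwiseLeftKanExtension)

include hE in
lemma kan_hom_ext (M : ModuleCat.{u} A) {T : B} (f f' : F'.obj M ⟶ T)
    (h : ∀ (P : FP A) (g : P.obj ⟶ M), η.app P ≫ F'.map g ≫ f = η.app P ≫ F'.map g ≫ f') :
    f = f' := by
  apply (hE M).hom_ext
  intro g
  show (η.app g.left ≫ F'.map g.hom) ≫ f = (η.app g.left ≫ F'.map g.hom) ≫ f'
  rw [Category.assoc, Category.assoc]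
  exact h g.left g.hom

lemma kan_welldef {J : Type u} [SmallCategory J] [IsFiltered J] (K : J ⥤ ModuleCat.{u} A)
    (c : Cocone K) (hc : IsColimit c) (s : Cocone (K ⋙ F')) (P : FP A) {j j' : J}
    (h₁ : P.obj ⟶ K.obj j) (h₂ : P.obj ⟶ K.obj j')
    (e : h₁ ≫ c.ι.app j = h₂ ≫ c.ι.app j') :
    F'.map h₁ ≫ s.ι.app j = F'.map h₂ ≫ s.ι.app j' := by
  obtain ⟨k, a, b, hab⟩ := fp_factor_eq_cat K c hc P h₁ h₂ e
  have ha : s.ι.app j = F'.map (K.map a) ≫ s.ι.app k := (s.w a).symm
  have hb : s.ι.app j' = F'.map (K.map b) ≫ s.ι.app k := (s.w b).symm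
  rw [ha, hb, ← Category.assoc, ← Category.assoc, ← F'.map_comp, ← F'.map_comp, hab]

include hE in
/-- A pointwise left Kan extension from finitely presented modules preserves filtered colimits. -/
lemma isColimit_mapCocone_kan {J : Type u} [SmallCategory J] [IsFiltered J]
    (K : J ⥤ ModuleCat.{u} A) (c : Cocone K) (hc : IsColimit c) :
    Nonempty (IsColimit (F'.mapCocone c)) := by
  refine ⟨IsColimit.ofExistsUnique (fun s => ?_)⟩
  have hch : ∀ g : CostructuredArrow (fpP A).ι c.pt,
      ∃ (k : J) (h' : g.left.obj ⟶ K.obj k), h' ≫ c.ι.app k = g.hom :=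
    fun g => fp_factor_cat K c hc g.left g.hom
  choose kk hh hhc using hch
  let t : Cocone (CostructuredArrow.proj (fpP A).ι c.pt ⋙ F) :=
    { pt := s.pt
      ι :=
        { app := fun g => η.app g.left ≫ F'.map (hh g) ≫ s.ι.app (kk g)
          naturality := fun g g' φ => by
            show F.map φ.left ≫ η.app g'.left ≫ F'.map (hh g') ≫ s.ι.app (kk g')
              = (η.app g.left ≫ F'.map (hh g) ≫ s.ι.app (kk g)) ≫ 𝟙 _
            have hn : F.map φ.left ≫ η.app g'.left
                = η.app g.left ≫ F'.map ((fpP A).ι.map φ.left) := η.naturality φ.left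
            have hw : F'.map ((fpP A).ι.map φ.left ≫ hh g') ≫ s.ι.app (kk g')
                = F'.map (hh g) ≫ s.ι.app (kk g) := by
              apply kan_welldef F' K c hc s g.left
              rw [Category.assoc, hhc g', hhc g]
              exact CostructuredArrow.w φ
            rw [Category.comp_id, ← Category.assoc, hn, Category.assoc, ← hw, F'.map_comp,
              Category.assoc] } }
  have hfacAll : ∀ j, F'.map (c.ι.app j) ≫ (hE c.pt).desc t = s.ι.app j := by
    intro j
    apply kan_hom_ext F F' η hE (K.obj j)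
    intro P g
    let G : CostructuredArrow (fpP A).ι c.pt := CostructuredArrow.mk (Y := P) (g ≫ c.ι.app j)
    have hfac : (η.app P ≫ F'.map (g ≫ c.ι.app j)) ≫ (hE c.pt).desc t
        = η.app P ≫ F'.map (hh G) ≫ s.ι.app (kk G) := (hE c.pt).fac t G
    have hwd : F'.map (hh G) ≫ s.ι.app (kk G) = F'.map g ≫ s.ι.app j :=
      kan_welldef F' K c hc s P (hh G) g (hhc G)
    calc η.app P ≫ F'.map g ≫ F'.map (c.ι.app j) ≫ (hE c.pt).desc t
        = (η.app P ≫ F'.map (g ≫ c.ι.app j)) ≫ (hE c.pt).desc t := by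
          rw [F'.map_comp, Category.assoc, Category.assoc]
      _ = η.app P ≫ F'.map (hh G) ≫ s.ι.app (kk G) := hfac
      _ = η.app P ≫ F'.map g ≫ s.ι.app j := by rw [hwd]
  refine ⟨(hE c.pt).desc t, hfacAll, fun d hd => ?_⟩
  have hd' : ∀ j, F'.map (c.ι.app j) ≫ d = s.ι.app j := hd
  apply kan_hom_ext F F' η hE c.pt
  intro P g
  obtain ⟨k, h', hh'⟩ := fp_factor_cat K c hc P g
  rw [← hh', F'.map_comp, Category.assoc, Category.assoc, hd' k, hfacAll k]

include hE in
lemma preservesFiltered_kan : PreservesFilteredColimitsOfSize.{u, u} F' := by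
  refine ⟨fun J _ _ => ⟨fun {K} => ?_⟩⟩
  exact preservesColimit_of_preserves_colimit_cocone (colimit.isColimit K)
    (isColimit_mapCocone_kan F F' η hE K _ (colimit.isColimit K)).some

variable (A) in
/-- Existence of the extension. -/
theorem exists_extension [HasFilteredColimitsOfSize.{u, u} B] (F : FP A ⥤ B) :
    ∃ F' : ModuleCat.{u} A ⥤ B, PreservesFilteredColimitsOfSize.{u, u} F' ∧
      Nonempty ((fpP A).ι ⋙ F' ≅ F) := by
  haveI := hasPointwise A F
  have hE := (fpP A).ι.pointwiseLeftKanExtensionIsPointwiseLeftKanExtension F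
  refine ⟨(fpP A).ι.pointwiseLeftKanExtension F,
    preservesFiltered_kan F _ ((fpP A).ι.pointwiseLeftKanExtensionUnit F) hE, ?_⟩
  haveI : IsIso ((fpP A).ι.pointwiseLeftKanExtensionUnit F) := hE.isIso_hom
  exact ⟨(asIso ((fpP A).ι.pointwiseLeftKanExtensionUnit F)).symm⟩

end kan

section uniq

variable (A : Type u) [CommRing A] {B : Type u'} [Category.{v'} B]
  (F₁ F₂ : ModuleCat.{u} A ⥤ B) [PreservesFilteredColimitsOfSize.{u, u} F₁]
  [PreservesFilteredColimitsOfSize.{u, u} F₂]
  (e : (fpP A).ι ⋙ F₁ ≅ (fpP A).ι ⋙ F₂)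

omit [PreservesFilteredColimitsOfSize.{u, u} F₁] [PreservesFilteredColimitsOfSize.{u, u} F₂] in
/-- The isomorphism of diagrams induced by `e`. -/
def dIso (M : ModuleCat.{u} A) : D A M ⋙ F₁ ≅ D A M ⋙ F₂ :=
  NatIso.ofComponents (fun p => e.app (qFP A p)) (by
    intro p q f
    exact e.hom.naturality (X := qFP A p) (Y := qFP A q)
      (ObjectProperty.homMk (ModuleCat.ofHom (tr (leOfHom f)))))

omit [PreservesFilteredColimitsOfSize.{u, u} F₂] in
/-- `F₁` of the canonical cocone is a colimit. -/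
def hcF (M : ModuleCat.{u} A) : IsColimit (F₁.mapCocone (coc A M)) := by
  haveI : IsFiltered (Idx A M) := inferInstance
  haveI : PreservesColimitsOfShape (Idx A M) F₁ :=
    PreservesFilteredColimitsOfSize.preserves_filtered_colimits _
  exact isColimitOfPreserves F₁ (isColimit_coc A M)

/-- The comparison isomorphism at `M`. -/
def tauIso (M : ModuleCat.{u} A) : F₁.obj M ≅ F₂.obj M :=
  IsColimit.coconePointsIsoOfNatIso (hcF A F₁ M) (hcF A F₂ M) (dIso A F₁ F₂ e M)

lemma tau_leg (M : ModuleCat.{u} A) (p : Idx A M) :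
    F₁.map (ModuleCat.ofHom (leg p) : ModuleCat.of A (Q p) ⟶ M) ≫ (tauIso A F₁ F₂ e M).hom
      = e.hom.app (qFP A p) ≫ F₂.map (ModuleCat.ofHom (leg p) : ModuleCat.of A (Q p) ⟶ M) :=
  IsColimit.comp_coconePointsIsoOfNatIso_hom (hcF A F₁ M) (hcF A F₂ M) (dIso A F₁ F₂ e M) p

lemma tau_fp (N : ModuleCat.{u} A) (P : FP A) (g : P.obj ⟶ N) :
    F₁.map g ≫ (tauIso A F₁ F₂ e N).hom = e.hom.app P ≫ F₂.map g := by
  haveI : Module.FinitePresentation A P.obj := P.property
  obtain ⟨k, h', hh'⟩ := exists_factor (M := N) P.obj g.hom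
  let h'' : P ⟶ qFP A k :=
    ObjectProperty.homMk (ModuleCat.ofHom h' : P.obj ⟶ ModuleCat.of A (Q k))
  have hg : g = (fpP A).ι.map h'' ≫ (ModuleCat.ofHom (leg k) : ModuleCat.of A (Q k) ⟶ N) := by
    apply ModuleCat.hom_ext
    apply LinearMap.ext
    intro x
    exact (hh' x).symm
  have hn : F₁.map ((fpP A).ι.map h'') ≫ e.hom.app (qFP A k)
      = e.hom.app P ≫ F₂.map ((fpP A).ι.map h'') := e.hom.naturality h''
  rw [hg, F₁.map_comp, F₂.map_comp, Category.assoc, tau_leg, ← Category.assoc, hn,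
    Category.assoc]

include e in
/-- Uniqueness of the extension. -/
theorem iso_of_iso_on_fp : Nonempty (F₁ ≅ F₂) := by
  refine ⟨NatIso.ofComponents (fun M => tauIso A F₁ F₂ e M) ?_⟩
  intro M N f
  apply (hcF A F₁ M).hom_ext
  intro p
  have h1 : F₁.map ((ModuleCat.ofHom (leg p) : ModuleCat.of A (Q p) ⟶ M) ≫ f)
        ≫ (tauIso A F₁ F₂ e N).hom
      = e.hom.app (qFP A p) ≫ F₂.map ((ModuleCat.ofHom (leg p) : ModuleCat.of A (Q p) ⟶ M) ≫ f) :=
    tau_fp A F₁ F₂ e N (qFP A p) _
  have h2 := tau_leg A F₁ F₂ e M p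
  show F₁.map (ModuleCat.ofHom (leg p) : ModuleCat.of A (Q p) ⟶ M) ≫ F₁.map f
      ≫ (tauIso A F₁ F₂ e N).hom
    = F₁.map (ModuleCat.ofHom (leg p) : ModuleCat.of A (Q p) ⟶ M) ≫ (tauIso A F₁ F₂ e M).hom
      ≫ F₂.map f
  calc F₁.map (ModuleCat.ofHom (leg p) : ModuleCat.of A (Q p) ⟶ M) ≫ F₁.map f
        ≫ (tauIso A F₁ F₂ e N).hom
      = F₁.map ((ModuleCat.ofHom (leg p) : ModuleCat.of A (Q p) ⟶ M) ≫ f)
        ≫ (tauIso A F₁ F₂ e N).hom := by rw [F₁.map_comp, Category.assoc]
    _ = e.hom.app (qFP A p)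
        ≫ F₂.map ((ModuleCat.ofHom (leg p) : ModuleCat.of A (Q p) ⟶ M) ≫ f) := h1
    _ = (F₁.map (ModuleCat.ofHom (leg p) : ModuleCat.of A (Q p) ⟶ M)
        ≫ (tauIso A F₁ F₂ e M).hom) ≫ F₂.map f := by
          rw [h2, Category.assoc, F₂.map_comp]
    _ = F₁.map (ModuleCat.ofHom (leg p) : ModuleCat.of A (Q p) ⟶ M)
        ≫ (tauIso A F₁ F₂ e M).hom ≫ F₂.map f := by rw [Category.assoc]

end uniq

end

end Groth.Agent.Lib.FPColimL
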