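import Mathlib
import Groth.Prelude.Def_CohB1
import Groth.Agent.Lib.SubExt3_helper9
import Groth.Agent.Lib.QCohFP2_helper9

/-!
# Extension along an arbitrary open immersion, and a local bijectivity criterion

* `FPExtH2.extJ j F G φ`: for an open immersion `j : Y ⟶ X` and `φ : G ⟶ F|_Y`, the fibre product
  `F ×_{j_* j^* F} j_* G` (generalising `SubExt.ext` from `U.ι` to any open immersion).
* `FPExtH2.bijective_of_loc`: a morphism of quasi-coherent modules which, over an affine open `D`,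
  becomes bijective after inverting each `g i`, is bijective on sections over every open contained
  in the union of the `D(g i)`.
-/

universe u

open CategoryTheory CategoryTheory.Limits AlgebraicGeometry Opposite TopologicalSpace
open Groth.Agent.Lib.QCohLoc_helper4 QcqsLoc QCohExtn

namespace Groth.Agent.Lib.FPExtH2

variable {X : Scheme.{u}}

section Glue

/-- Lying in the image is a local condition for a morphism which is injective on sections over
all opens contained in `W`. -/
theorem mem_range_of_locally' {A B : X.Modules} (i : A ⟶ B) {W : X.Opens}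
    (hinj : ∀ V : X.Opens, V ≤ W → Function.Injective (ap i V)) (y : Γ(B, W))
    (h : ∀ x ∈ W, ∃ (W' : X.Opens) (hW' : W' ≤ W), x ∈ W' ∧
      ∃ z : Γ(A, W'), ap i W' z = rF B hW' y) :
    ∃ z : Γ(A, W), ap i W z = y := by
  classical
  choose O hO hxO z hz using h
  let ι : Type u := {x : X // x ∈ W}
  let O' : ι → X.Opens := fun p => O p.1 p.2
  have hle : ∀ p : ι, O' p ≤ W := fun p => hO p.1 p.2
  let b : ∀ p : ι, Γ(A, O' p) := fun p => z p.1 p.2
  have hb : ∀ p : ι, ap i (O' p) (b p) = rF B (hle p) y := fun p => hz p.1 p.2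
  have hcov : W ≤ ⨆ p : ι, O' p := by
    intro x hx
    exact Opens.mem_iSup.mpr ⟨⟨x, hx⟩, hxO x hx⟩
  have hcompat : ∀ p q : ι, rF A (inf_le_left : O' p ⊓ O' q ≤ O' p) (b p) =
      rF A (inf_le_right : O' p ⊓ O' q ≤ O' q) (b q) := by
    intro p q
    apply hinj _ (inf_le_left.trans (hle p))
    rw [ap_rF, ap_rF, hb, hb, rF_rF, rF_rF]
  have hc : TopCat.Presheaf.IsCompatible A.presheaf O' b := by
    intro p q
    have h2 : A.presheaf.map (homOfLE (inf_le_left : O' p ⊓ O' q ≤ O' p)).op (b p) =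
        A.presheaf.map (homOfLE (inf_le_right : O' p ⊓ O' q ≤ O' q)).op (b q) := hcompat p q
    exact (Groth.Agent.Lib.QCohExtH1.rF_congr A _ _ _).trans
      (h2.trans (Groth.Agent.Lib.QCohExtH1.rF_congr A _ _ _))
  obtain ⟨z₀, hz₀, -⟩ := TopCat.Sheaf.existsUnique_gluing' ⟨A.presheaf, A.isSheaf⟩ O' W
    (fun p => homOfLE (hle p)) hcov b hc
  refine ⟨z₀, ?_⟩
  apply eq_of_cover B
  intro x hx
  refine ⟨O' ⟨x, hx⟩, hle _, hxO x hx, ?_⟩
  have h' : rF A (hle ⟨x, hx⟩) z₀ = b ⟨x, hx⟩ := hz₀ ⟨x, hx⟩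
  rw [← ap_rF, h', hb]

end Glue

section ExtJ

variable {Y : Scheme.{u}} (j : Y ⟶ X) [IsOpenImmersion j] (F : X.Modules) (G : Y.Modules)
  (φ : G ⟶ F.restrict j)

/-- `j_* φ`. -/
noncomputable abbrev pushMapJ : (Scheme.Modules.pushforward j).obj G ⟶
    (Scheme.Modules.pushforward j).obj (F.restrict j) :=
  (Scheme.Modules.pushforward j).map φ

/-- The unit `F ⟶ j_* j^* F`. -/
noncomputable abbrev unitMapJ : F ⟶ (Scheme.Modules.pushforward j).obj (F.restrict j) :=
  (Scheme.Modules.restrictAdjunction j).unit.app F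

/-- `F ×_{j_* j^* F} j_* G`. -/
noncomputable def extJ : X.Modules := pullback (pushMapJ j F G φ) (unitMapJ j F)

/-- The map `extJ ⟶ F`. -/
noncomputable def extJι : extJ j F G φ ⟶ F := pullback.snd _ _

/-- The map `extJ ⟶ j_* G`. -/
noncomputable def extJπ : extJ j F G φ ⟶ (Scheme.Modules.pushforward j).obj G := pullback.fst _ _

theorem extJ_cond (W : X.Opens) (s : Γ(extJ j F G φ, W)) :
    ap (pushMapJ j F G φ) W (ap (extJπ j F G φ) W s) =
      ap (unitMapJ j F) W (ap (extJι j F G φ) W s) := by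
  have := congrArg (fun χ => (χ.app W).hom s)
    (pullback.condition (f := pushMapJ j F G φ) (g := unitMapJ j F))
  exact this

theorem extJ_exists (W : X.Opens) (x : Γ((Scheme.Modules.pushforward j).obj G, W)) (y : Γ(F, W))
    (h : ap (pushMapJ j F G φ) W x = ap (unitMapJ j F) W y) :
    ∃ s : Γ(extJ j F G φ, W), ap (extJπ j F G φ) W s = x ∧ ap (extJι j F G φ) W s = y :=
  QCohPb.pb_exists _ _ W x y h

theorem extJ_ext (W : X.Opens) (s s' : Γ(extJ j F G φ, W))
    (h1 : ap (extJπ j F G φ) W s = ap (extJπ j F G φ) W s')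
    (h2 : ap (extJι j F G φ) W s = ap (extJι j F G φ) W s') : s = s' :=
  QCohPb.pb_ext _ _ W s s' h1 h2

set_option backward.isDefEq.respectTransparency false in
theorem unitJ_bijective (W : X.Opens) (hW : W ≤ j.opensRange) :
    Function.Bijective (ap (unitMapJ j F) W) := by
  have e : j ''ᵁ (j ⁻¹ᵁ W) = W := by
    rw [Scheme.Hom.image_preimage_eq_opensRange_inf]
    exact inf_eq_right.mpr hW
  exact SubExt.rF_bijective_of_eq F (j.image_preimage_le W) e

/-- Over opens contained in the range of `j`, `extJ ⟶ j_* G` is bijective on sections. -/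
theorem extJπ_bijective (W : X.Opens) (hW : W ≤ j.opensRange) :
    Function.Bijective (ap (extJπ j F G φ) W) := by
  have hb := unitJ_bijective j F W hW
  constructor
  · intro s s' hss
    apply extJ_ext j F G φ W s s' hss
    apply hb.1
    rw [← extJ_cond, ← extJ_cond, hss]
  · intro x
    obtain ⟨y, hy⟩ := hb.2 (ap (pushMapJ j F G φ) W x)
    obtain ⟨s, hs, -⟩ := extJ_exists j F G φ W x y hy.symm
    exact ⟨s, hs⟩

set_option backward.isDefEq.respectTransparency false in
/-- If `φ` is bijective on sections over `j ⁻¹ᵁ W`, then `extJ ⟶ F` is bijective over `W`. -/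
theorem extJι_bijective (W : X.Opens) (hψ : Function.Bijective (ap φ (j ⁻¹ᵁ W))) :
    Function.Bijective (ap (extJι j F G φ) W) := by
  constructor
  · intro s s' hss
    apply extJ_ext j F G φ W s s' _ hss
    apply hψ.1
    have h1 := extJ_cond j F G φ W s
    have h2 := extJ_cond j F G φ W s'
    rw [hss] at h1
    exact h1.trans h2.symm
  · intro y
    obtain ⟨x, hx⟩ := hψ.2 (ap (unitMapJ j F) W y)
    obtain ⟨s, -, hs⟩ := extJ_exists j F G φ W x y hx
    exact ⟨s, hs⟩

theorem isQuasicoherent_extJ [QuasiCompact j] [F.IsQuasicoherent] [G.IsQuasicoherent] :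
    (extJ j F G φ).IsQuasicoherent := by
  haveI : (F.restrict j).IsQuasicoherent := inferInstance
  have h1 : ((Scheme.Modules.pushforward j).obj G).IsQuasicoherent :=
    QcqsLoc.isQuasicoherent_pushforward_qcqs j G
  have h2 : ((Scheme.Modules.pushforward j).obj (F.restrict j)).IsQuasicoherent :=
    QcqsLoc.isQuasicoherent_pushforward_qcqs j _
  exact QCohPb.isQuasicoherent_pullback _ _ h1 ‹F.IsQuasicoherent› h2

end ExtJ

section Loc

variable {A B : X.Modules} [A.IsQuasicoherent] [B.IsQuasicoherent] (φ : A ⟶ B) {D : X.Opens}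
  (hD : IsAffineOpen D)

include hD in
/-- Local step: bijectivity over a basic open `D(h)` contained in `D(g)`. -/
theorem bijective_basicOpen (g h : Γ(X, D)) (hgh : X.basicOpen h ≤ X.basicOpen g)
    (hinj : ∀ a : Γ(A, D), ap φ D a = 0 → ∃ n : ℕ, g ^ n • a = 0)
    (hsurj : ∀ b : Γ(B, D), ∃ (n : ℕ) (a : Γ(A, D)), ap φ D a = g ^ n • b) :
    Function.Bijective (ap φ (X.basicOpen h)) := by
  have hl : X.basicOpen h ≤ D := X.basicOpen_le h
  have LA := RelFPAff.locData (F := A) hD h (homOfLE hl) rfl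
  have LB := RelFPAff.locData (F := B) hD h (homOfLE hl) rfl
  have huh : IsUnit (rX hl h) := RingedSpace.isUnit_res_basicOpen _ h
  have hug : IsUnit (rX hl g) := by
    have h1 : IsUnit (rX (X.basicOpen_le g) g) := RingedSpace.isUnit_res_basicOpen _ g
    have h2 : rX hgh (rX (X.basicOpen_le g) g) = rX hl g := rX_rX hgh (X.basicOpen_le g) g
    rw [← h2]
    exact h1.map _
  have hcancel : ∀ {M : X.Modules} (u : Γ(X, X.basicOpen h)) (hu : IsUnit u)
      (t : Γ(M, X.basicOpen h)), u • t = 0 → t = 0 := by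
    intro M u hu t ht
    obtain ⟨v, rfl⟩ := hu
    have := congrArg (fun z => (↑v⁻¹ : Γ(X, X.basicOpen h)) • z) ht
    simpa [← mul_smul] using this
  constructor
  · rw [injective_iff_map_eq_zero]
    intro s hs
    obtain ⟨n, a, ha⟩ := LA.surj s
    have ha' : rX hl h ^ n • s = rF A hl a := ha
    have h1 : rF B hl (ap φ D a) = 0 := by
      rw [← ap_rF, ← ha', ap_smul, hs, smul_zero]
    obtain ⟨m, hm⟩ := LB.ker _ h1
    have h2 : ap φ D (h ^ m • a) = 0 := by rw [ap_smul]; exact hm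
    obtain ⟨k, hk⟩ := hinj _ h2
    have h3 : rX hl g ^ k • rX hl h ^ m • rF A hl a = 0 := by
      have := congrArg (rF A hl) hk
      rw [rF_smul, rF_smul, map_pow, map_pow, map_zero] at this
      exact this
    have h4 : rF A hl a = 0 :=
      hcancel _ (huh.pow m) _ (hcancel _ (hug.pow k) _ h3)
    rw [h4] at ha'
    exact hcancel _ (huh.pow n) _ ha'
  · intro t
    obtain ⟨n, b, hb⟩ := LB.surj t
    have hb' : rX hl h ^ n • t = rF B hl b := hb
    obtain ⟨k, a, ha⟩ := hsurj b
    have hu : IsUnit (rX hl g ^ k * rX hl h ^ n) := (hug.pow k).mul (huh.pow n)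
    obtain ⟨v, hv⟩ := hu
    refine ⟨(↑v⁻¹ : Γ(X, X.basicOpen h)) • rF A hl a, ?_⟩
    rw [ap_smul, ap_rF, ha, rF_smul, map_pow, ← hb', smul_smul (rX hl g ^ k), ← hv, smul_smul,
      Units.inv_mul, one_smul]

include hD in
/-- A morphism of quasi-coherent modules which over the affine open `D` becomes bijective after
inverting each `g i` is bijective on sections over every open contained in `⋃ D(g i)`. -/
theorem bijective_of_loc {ι : Type*} (g : ι → Γ(X, D))
    (hinj : ∀ (i : ι) (a : Γ(A, D)), ap φ D a = 0 → ∃ n : ℕ, g i ^ n • a = 0)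
    (hsurj : ∀ (i : ι) (b : Γ(B, D)), ∃ (n : ℕ) (a : Γ(A, D)), ap φ D a = g i ^ n • b)
    (W : X.Opens) (hW : W ≤ ⨆ i, X.basicOpen (g i)) : Function.Bijective (ap φ W) := by
  have hloc : ∀ (W : X.Opens), W ≤ ⨆ i, X.basicOpen (g i) → ∀ x ∈ W,
      ∃ (i : ι) (h : Γ(X, D)), x ∈ X.basicOpen h ∧ X.basicOpen h ≤ W ∧
        X.basicOpen h ≤ X.basicOpen (g i) := by
    intro W hW x hx
    obtain ⟨i, hxi⟩ := Opens.mem_iSup.mp (hW hx)
    have hxD : x ∈ D := X.basicOpen_le (g i) hxi
    obtain ⟨h, hle, hxh⟩ := hD.exists_basicOpen_le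
      (V := W ⊓ X.basicOpen (g i)) ⟨x, ⟨hx, hxi⟩⟩ hxD
    exact ⟨i, h, hxh, hle.trans inf_le_left, hle.trans inf_le_right⟩
  have hinjW : ∀ (W : X.Opens), W ≤ ⨆ i, X.basicOpen (g i) → Function.Injective (ap φ W) := by
    intro W hW
    rw [injective_iff_map_eq_zero]
    intro s hs
    apply eq_zero_of_cover A
    intro x hx
    obtain ⟨i, h, hxh, hhW, hhg⟩ := hloc W hW x hx
    refine ⟨X.basicOpen h, hhW, hxh, ?_⟩
    have hb := bijective_basicOpen φ hD (g i) h hhg (hinj i) (hsurj i)
    apply hb.1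
    rw [ap_rF, hs, map_zero, map_zero]
  refine ⟨hinjW W hW, fun t => ?_⟩
  apply mem_range_of_locally' φ (fun V hV => hinjW V (hV.trans hW)) t
  intro x hx
  obtain ⟨i, h, hxh, hhW, hhg⟩ := hloc W hW x hx
  have hb := bijective_basicOpen φ hD (g i) h hhg (hinj i) (hsurj i)
  obtain ⟨z, hz⟩ := hb.2 (rF B hhW t)
  exact ⟨X.basicOpen h, hhW, hxh, z, hz⟩

end Loc

end Groth.Agent.Lib.FPExtH2
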