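import Mathlib
import Groth.Agent.Lib.QCohFT_helper9

/-!
# Algebra for extending finitely presented modules

* `FPExtH2.fp_of_locData`: localisation preserves finite presentation (in `LocData` form).
* `FPExtH2.exists_ker_gens`: if `M_a` is finitely presented and generated by the images of
  `n t`, then the kernel of `A^T → M` is generated, up to powers of `a`, by finitely many elements.
* `FPExtH2.exists_fp_cover`: assembling a finitely presented module `Q → N` which is an isomorphism
  after inverting each `g p`.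
-/

universe u

namespace Groth.Agent.Lib.FPExtH2

open RelFPKit

section Alg

variable {A A' : Type u} [CommRing A] [CommRing A'] {ρ : A →+* A'} {a : A}
  {M M' : Type u} [AddCommGroup M] [Module A M] [AddCommGroup M'] [Module A' M'] {l : M →+ M'}

theorem fp_of_locData (h : LocData ρ a l) [Module.FinitePresentation A M] :
    Module.FinitePresentation A' M' := by
  letI algA' : Algebra A A' := ρ.toAlgebra
  haveI : IsLocalization.Away a A' := h.isLoc
  letI modAM' : Module A M' := Module.compHom M' ρ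
  haveI : IsScalarTower A A' M' := IsScalarTower.of_algebraMap_smul (fun _ _ => rfl)
  let lA : M →ₗ[A] M' := { toFun := l, map_add' := l.map_add, map_smul' := h.smul }
  haveI : IsLocalizedModule (Submonoid.powers a) lA := QCohFT.isLocalizedModule_of_locData h
  exact FinitePresentation.of_isBaseChange lA
    (IsLocalizedModule.isBaseChange (Submonoid.powers a) A' lA)

theorem exists_ker_gens (h : LocData ρ a l) [Module.FinitePresentation A' M'] {T : Type u}
    [Finite T] (n : T → M)
    (hspan : Submodule.span A' (Set.range (fun t => l (n t))) = ⊤) :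
    (∀ b : M, ∃ (k : ℕ) (x : T →₀ A), Finsupp.linearCombination A n x = a ^ k • b) ∧
    ∃ S : Finset (T →₀ A), (∀ x ∈ S, Finsupp.linearCombination A n x = 0) ∧
      ∀ x : T →₀ A, Finsupp.linearCombination A n x = 0 →
        ∃ k : ℕ, a ^ k • x ∈ Submodule.span A (S : Set (T →₀ A)) := by
  classical
  letI algA' : Algebra A A' := ρ.toAlgebra
  haveI : IsLocalization.Away a A' := h.isLoc
  letI modAM' : Module A M' := Module.compHom M' ρ
  haveI : IsScalarTower A A' M' := IsScalarTower.of_algebraMap_smul (fun _ _ => rfl)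
  let lA : M →ₗ[A] M' := { toFun := l, map_add' := l.map_add, map_smul' := h.smul }
  haveI : IsLocalizedModule (Submonoid.powers a) lA := QCohFT.isLocalizedModule_of_locData h
  let P : Submonoid A := Submonoid.powers a
  let c : (T →₀ A) →ₗ[A] M := Finsupp.linearCombination A n
  let fT : (T →₀ A) →ₗ[A] (T →₀ A') := Finsupp.mapRange.linearMap (Algebra.linearMap A A')
  haveI : IsLocalizedModule P fT := inferInstance
  let c' : (T →₀ A') →ₗ[A] M' := IsLocalizedModule.map P fT lA c
  let cE : (T →₀ A') →ₗ[A'] M' := c'.extendScalarsOfIsLocalization P A'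
  have hc' : ∀ x, c' (fT x) = lA (c x) := IsLocalizedModule.map_apply P fT lA c
  have hsurj : Function.Surjective cE := by
    rw [← LinearMap.range_eq_top, eq_top_iff, ← hspan, Submodule.span_le]
    rintro _ ⟨t, rfl⟩
    refine ⟨fT (Finsupp.single t 1), ?_⟩
    show c' (fT (Finsupp.single t 1)) = l (n t)
    rw [hc']
    show l (c (Finsupp.single t 1)) = l (n t)
    simp [c]
  have hfg : (LinearMap.ker cE).FG := Module.FinitePresentation.fg_ker cE hsurj
  have hker : (LinearMap.ker c).localized' A' P fT = LinearMap.ker cE :=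
    LinearMap.localized'_ker_eq_ker_localizedMap A' P fT lA c
  rw [← hker, Submodule.localized'_eq_span] at hfg
  obtain ⟨S', hS'sub, hS'⟩ := (Submodule.fg_span_iff_fg_span_finset_subset _).mp hfg
  obtain ⟨S, hSsub, rfl⟩ := Finset.subset_set_image_iff.mp hS'sub
  have hpow : ∀ s : P, ∃ k : ℕ, (s : A) = a ^ k := fun s => by
    obtain ⟨k, hk⟩ := s.2
    exact ⟨k, hk.symm⟩
  constructor
  · intro b
    obtain ⟨y, hy⟩ := hsurj (l b)
    obtain ⟨⟨x, s⟩, rfl⟩ := IsLocalizedModule.mk'_surjective P fT y
    have h1 : IsLocalizedModule.mk' lA (c x) s = lA b := by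
      rw [← IsLocalizedModule.map_mk' P fT lA c]
      exact hy
    rw [IsLocalizedModule.mk'_eq_iff] at h1
    have h2 : lA (c x) = lA ((s : A) • b) := by rw [h1, Submonoid.smul_def, map_smul]
    obtain ⟨c0, hc0⟩ := (IsLocalizedModule.eq_iff_exists P lA).mp h2
    obtain ⟨i, hi⟩ := hpow c0
    obtain ⟨j, hj⟩ := hpow s
    refine ⟨i + j, a ^ i • x, ?_⟩
    have h3 : (c0 : A) • c x = (c0 : A) • (s : A) • b := hc0
    rw [hi, hj] at h3
    rw [map_smul, pow_add, mul_smul]
    exact h3
  · refine ⟨S, fun x hx => hSsub hx, fun x hx => ?_⟩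
    have hx' : fT x ∈ (LinearMap.ker c).localized' A' P fT :=
      (Submodule.mem_localized' A' P fT (LinearMap.ker c) (fT x)).mpr
        ⟨x, hx, (1 : P), IsLocalizedModule.mk'_one P fT x⟩
    rw [Submodule.localized'_eq_span, hS', Finset.coe_image, ← Submodule.localized'_span A' P fT] at hx'
    obtain ⟨m, hm, s, hms⟩ := hx'
    rw [IsLocalizedModule.mk'_eq_iff] at hms
    have h2 : fT m = fT ((s : A) • x) := by rw [hms, Submonoid.smul_def, map_smul]
    obtain ⟨c0, hc0⟩ := (IsLocalizedModule.eq_iff_exists P fT).mp h2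
    obtain ⟨i, hi⟩ := hpow c0
    obtain ⟨j, hj⟩ := hpow s
    refine ⟨i + j, ?_⟩
    have h3 : (c0 : A) • m = (c0 : A) • (s : A) • x := hc0
    rw [hi, hj] at h3
    rw [pow_add, mul_smul, ← h3]
    exact Submodule.smul_mem _ _ hm

end Alg

theorem exists_fp_cover {R : Type u} [CommRing R] {N : Type u} [AddCommGroup N] [Module R N]
    {T : Type u} [Finite T] (n : T → N) {P : Type*} [Finite P] (g : P → R)
    (hsurj : ∀ (p : P) (b : N), ∃ (k : ℕ) (x : T →₀ R),
      Finsupp.linearCombination R n x = g p ^ k • b)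
    (hS : ∀ p : P, ∃ S : Finset (T →₀ R), (∀ x ∈ S, Finsupp.linearCombination R n x = 0) ∧
      ∀ x : T →₀ R, Finsupp.linearCombination R n x = 0 →
        ∃ k : ℕ, g p ^ k • x ∈ Submodule.span R (S : Set (T →₀ R))) :
    ∃ (Q : Type u) (_ : AddCommGroup Q) (_ : Module R Q) (_ : Module.FinitePresentation R Q)
      (π : Q →ₗ[R] N), (∀ (p : P) (b : N), ∃ (k : ℕ) (q : Q), π q = g p ^ k • b) ∧
        ∀ (p : P) (q : Q), π q = 0 → ∃ k : ℕ, g p ^ k • q = 0 := by
  classical
  haveI := Fintype.ofFinite P
  choose S hS0 hS1 using hS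
  let Sall : Finset (T →₀ R) := Finset.univ.biUnion S
  let Nsub : Submodule R (T →₀ R) := Submodule.span R (Sall : Set (T →₀ R))
  have hle : Nsub ≤ LinearMap.ker (Finsupp.linearCombination R n) := by
    rw [Submodule.span_le]
    intro x hx
    obtain ⟨p, -, hxp⟩ := Finset.mem_biUnion.mp (Finset.mem_coe.mp hx)
    exact hS0 p x hxp
  let π : ((T →₀ R) ⧸ Nsub) →ₗ[R] N := Nsub.liftQ (Finsupp.linearCombination R n) hle
  have hfp : Module.FinitePresentation R ((T →₀ R) ⧸ Nsub) := by
    refine Module.finitePresentation_of_surjective Nsub.mkQ (Submodule.mkQ_surjective _) ?_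
    rw [Submodule.ker_mkQ]
    exact ⟨Sall, rfl⟩
  refine ⟨(T →₀ R) ⧸ Nsub, inferInstance, inferInstance, hfp, π, ?_, ?_⟩
  · intro p b
    obtain ⟨k, x, hx⟩ := hsurj p b
    exact ⟨k, Nsub.mkQ x, by rw [← hx]; rfl⟩
  · intro p q hq
    obtain ⟨x, rfl⟩ := Submodule.mkQ_surjective _ q
    have hx : Finsupp.linearCombination R n x = 0 := hq
    obtain ⟨k, hk⟩ := hS1 p x hx
    refine ⟨k, ?_⟩
    rw [← map_smul, Submodule.mkQ_apply, Submodule.Quotient.mk_eq_zero]
    refine Submodule.span_mono ?_ hk
    intro y hy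
    exact Finset.mem_coe.mpr (Finset.mem_biUnion.mpr ⟨p, Finset.mem_univ _, hy⟩)

end Groth.Agent.Lib.FPExtH2
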