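import Mathlib
import Groth.Prelude.Def_CohB1
import Groth.Agent.Lib.FPExt1_helper2
import Groth.Agent.Lib.FPExt2_helper2
import Groth.Agent.Lib.QCohFP_helper9

universe u

open CategoryTheory CategoryTheory.Limits AlgebraicGeometry Opposite TopologicalSpace Scheme.Modules
open Groth.Agent.Lib.QCohLoc_helper4 QcqsLoc QCohExtn

namespace Groth.Agent.Lib.FPExtH2

variable {X : Scheme.{u}} {V : X.Opens} (hV : IsAffineOpen V) (K : X.Modules)

section Tilde

variable (Q' : Type u) [AddCommGroup Q'] [Module Γ(X, V) Q'] (π : Q' →ₗ[Γ(X, V)] Γ(K, V))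

/-- `π` as a map into the global sections on `Spec Γ(X, V)`. -/
noncomputable def tπ : ModuleCat.of Γ(X, V) Q' ⟶ QCohFP.secSpec hV K :=
  ModuleCat.ofHom (Y := (QCohFP.secSpec hV K : ModuleCat.{u} Γ(X, V)))
    ((QCohFP.secSpecEquiv hV K).symm.toLinearMap.comp π)

/-- The module `Q'^~` on `Spec Γ(X, V)`. -/
noncomputable def tG : (Spec Γ(X, V)).Modules := tilde (ModuleCat.of Γ(X, V) Q')

instance : (tG (X := X) (V := V) Q').IsQuasicoherent := by
  unfold tG
  infer_instance

/-- The map `Q'^~ ⟶ K|_{Spec Γ(X, V)}` induced by `π`. -/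
noncomputable def tψ : tG (X := X) (V := V) Q' ⟶ K.restrict hV.fromSpec :=
  tilde.map (tπ hV K Q' π) ≫ (K.restrict hV.fromSpec).fromTildeΓ

set_option backward.isDefEq.respectTransparency false in
theorem tψ_toOpen (O : (Spec Γ(X, V)).Opens) (q : Q') :
    ap (tψ hV K Q' π) O ((tilde.toOpen (ModuleCat.of Γ(X, V) Q') O).hom q) =
      (K.restrict hV.fromSpec).presheaf.map (homOfLE (le_top : O ≤ ⊤)).op
        ((tπ hV K Q' π).hom q) := by
  have h1 := tilde.toOpen_map_app (tπ hV K Q' π) O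
  have h2 := Scheme.Modules.toOpen_fromTildeΓ_app (K.restrict hV.fromSpec) O
  have h3 : tilde.toOpen (ModuleCat.of Γ(X, V) Q') O ≫
      (modulesSpecToSheaf.map (tψ hV K Q' π)).1.app (op O) =
      tπ hV K Q' π ≫ (modulesSpecToSheaf.obj (K.restrict hV.fromSpec)).1.map
        (homOfLE (le_top : O ≤ ⊤)).op := by
    unfold tψ
    rw [Functor.map_comp]
    erw [reassoc_of% h1]
    rw [← h2]
  exact ConcreteCategory.congr_hom h3 q

theorem toOpen_bijective (O : (Spec Γ(X, V)).Opens) (hO : O = ⊤) :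
    Function.Bijective (tilde.toOpen (ModuleCat.of Γ(X, V) Q') O).hom := by
  subst hO
  exact ConcreteCategory.bijective_of_isIso (tilde.toOpen (ModuleCat.of Γ(X, V) Q') ⊤)

set_option backward.isDefEq.respectTransparency false in
theorem exists_tilde_data :
    ∃ (G : (Spec Γ(X, V)).Modules) (_ : G.IsQuasicoherent) (ψ : G ⟶ K.restrict hV.fromSpec)
      (τ : Q' ≃+ Γ(G, hV.fromSpec ⁻¹ᵁ V)),
      (∀ (r : Γ(X, V)) (q : Q'), τ (r • q) = (hV.fromSpec.app V).hom r • τ q) ∧
      ∀ q : Q', ap ψ (hV.fromSpec ⁻¹ᵁ V) (τ q) =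
        rF K (hV.fromSpec.image_preimage_le V) (π q) := by
  let O : (Spec Γ(X, V)).Opens := hV.fromSpec ⁻¹ᵁ V
  have hO : O = ⊤ := hV.fromSpec_preimage_self
  let t0 : Q' →+ Γ(tG (X := X) (V := V) Q', O) :=
    (tilde.toOpen (ModuleCat.of Γ(X, V) Q') O).hom.toAddMonoidHom
  have ht0 : Function.Bijective t0 := toOpen_bijective Q' O hO
  let τ : Q' ≃+ Γ(tG (X := X) (V := V) Q', O) := AddEquiv.ofBijective t0 ht0
  refine ⟨tG Q', inferInstance, tψ hV K Q' π, τ, ?_, ?_⟩
  · intro r q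
    have h1 : (tilde.toOpen (ModuleCat.of Γ(X, V) Q') O).hom (r • q) =
        r • (tilde.toOpen (ModuleCat.of Γ(X, V) Q') O).hom q := map_smul _ r q
    have h2 : (hV.fromSpec.app V).hom r =
        ((Spec Γ(X, V)).presheaf.map O.leTop.op).hom ((Scheme.ΓSpecIso Γ(X, V)).inv.hom r) := by
      rw [hV.fromSpec_app_self]
      rfl
    show (tilde.toOpen (ModuleCat.of Γ(X, V) Q') O).hom (r • q) = _
    rw [h1, h2]
    rfl
  · intro q
    have h1 := tψ_toOpen hV K Q' π O q
    refine h1.trans ?_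
    have h2 : QCohFP.secSpecEquiv hV K ((tπ hV K Q' π).hom q) = π q :=
      (QCohFP.secSpecEquiv hV K).apply_symm_apply (π q)
    rw [← h2]
    exact (map_map_eq K _ _ _ _).symm

end Tilde

section ExtJ2

variable {Y : Scheme.{u}} (j : Y ⟶ X) [IsOpenImmersion j] (F : X.Modules) (G : Y.Modules)
  (φ : G ⟶ F.restrict j)

set_option backward.isDefEq.respectTransparency false in
/-- Over opens in the range of `j`, bijectivity of `extJ ⟶ F` gives bijectivity of `φ`. -/
theorem φ_bijective_of_extJι (W : X.Opens) (hW : W ≤ j.opensRange)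
    (hb : Function.Bijective (ap (extJι j F G φ) W)) :
    Function.Bijective (ap φ (j ⁻¹ᵁ W)) := by
  have hu := unitJ_bijective j F W hW
  have hπ := extJπ_bijective j F G φ W hW
  constructor
  · intro x x' hxx
    obtain ⟨s, rfl⟩ := hπ.2 x
    obtain ⟨s', rfl⟩ := hπ.2 x'
    have h1 := extJ_cond j F G φ W s
    have h2 := extJ_cond j F G φ W s'
    have h3 : ap (unitMapJ j F) W (ap (extJι j F G φ) W s) =
        ap (unitMapJ j F) W (ap (extJι j F G φ) W s') := h1.symm.trans (hxx.trans h2)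
    rw [hb.1 (hu.1 h3)]
  · intro y'
    obtain ⟨y, hy⟩ := hu.2 y'
    obtain ⟨s, hs⟩ := hb.2 y
    refine ⟨ap (extJπ j F G φ) W s, ?_⟩
    have h1 := extJ_cond j F G φ W s
    rw [hs, hy] at h1
    exact h1

end ExtJ2

section FP

theorem fp_of_semilinear {A B : Type u} [CommRing A] [CommRing B] (ψ : A →+* B)
    (hψ : Function.Bijective ψ) {N M : Type u} [AddCommGroup N] [Module A N] [AddCommGroup M]
    [Module B M] (e : N ≃+ M) (hsm : ∀ (a : A) (n : N), e (a • n) = ψ a • e n)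
    [Module.FinitePresentation B M] : Module.FinitePresentation A N := by
  letI : Module A M := Module.compHom M ψ
  haveI : Module.FinitePresentation A M := QCohFP2.fp_of_bijective ψ hψ (fun _ _ => rfl)
  let e' : N ≃ₗ[A] M := { e with map_smul' := hsm }
  exact Module.FinitePresentation.of_equiv e'.symm

theorem fp_of_bijective_ap {M N : X.Modules} (i : M ⟶ N) (W : X.Opens)
    (hb : Function.Bijective (ap i W)) [Module.FinitePresentation Γ(X, W) Γ(N, W)] :
    Module.FinitePresentation Γ(X, W) Γ(M, W) := by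
  let e : Γ(M, W) ≃ₗ[Γ(X, W)] Γ(N, W) :=
    { AddEquiv.ofBijective (ap i W) hb with
      map_smul' := fun r m => ap_smul i r m }
  exact Module.FinitePresentation.of_equiv e.symm

theorem fp_congr (F : X.Modules) {V V' : X.Opens} (e : V = V')
    (h : Module.FinitePresentation Γ(X, V) Γ(F, V)) :
    Module.FinitePresentation Γ(X, V') Γ(F, V') := by
  subst e; exact h

/-- `K` has finitely presented sections near every point of `Q`. -/
def FPOn (K : X.Modules) (Q : X.Opens) : Prop :=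
  ∀ x ∈ Q, ∃ W : X.Opens, IsAffineOpen W ∧ x ∈ W ∧ W ≤ Q ∧
    Module.FinitePresentation Γ(X, W) Γ(K, W)

theorem FPOn.finOn {K : X.Modules} {Q : X.Opens} (h : FPOn K Q) : SubExt.FinOn K Q := by
  intro x hx
  obtain ⟨W, hW, hxW, hWQ, hfp⟩ := h x hx
  haveI := hfp
  exact ⟨W, hW, hxW, hWQ, inferInstance⟩

open SubExt in
theorem exists_local_fp (K : X.Modules) [K.IsQuasicoherent] {V : X.Opens} (hV : IsAffineOpen V)
    {Q : X.Opens} (hfp : FPOn K Q) (x : X) (hxQ : x ∈ Q) (hxV : x ∈ V) :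
    ∃ (g : Γ(X, V)) (T : Finset Γ(K, V)), x ∈ X.basicOpen g ∧ X.basicOpen g ≤ Q ∧
      (∀ s : Γ(K, X.basicOpen g), InSpan K T (X.basicOpen_le g) s) ∧
      Module.FinitePresentation Γ(X, X.basicOpen g) Γ(K, X.basicOpen g) := by
  classical
  obtain ⟨W, hW, hxW, hWQ, hfpW⟩ := hfp x hxQ
  obtain ⟨f, g, efg, hxf⟩ := exists_basicOpen_le_affine_inter hW hV x ⟨hxW, hxV⟩
  have L1 := RelFPAff.locData (F := K) hW f (homOfLE (X.basicOpen_le f)) rfl
  haveI := hfpW
  have hfp1 : Module.FinitePresentation Γ(X, X.basicOpen f) Γ(K, X.basicOpen f) :=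
    fp_of_locData L1
  have hfp2 : Module.FinitePresentation Γ(X, X.basicOpen g) Γ(K, X.basicOpen g) :=
    fp_congr K efg hfp1
  have hf2 : Module.Finite Γ(X, X.basicOpen g) Γ(K, X.basicOpen g) := inferInstance
  obtain ⟨S, hS⟩ := hf2.fg_top
  have L2 := RelFPAff.locData (F := K) hV g (homOfLE (X.basicOpen_le g)) rfl
  choose N n hn using fun y : Γ(K, X.basicOpen g) => L2.surj y
  refine ⟨g, S.image n, ?_, ?_, ?_, hfp2⟩
  · rw [← efg]; exact hxf
  · rw [← efg]; exact (X.basicOpen_le f).trans hWQ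
  · intro s
    have hu : IsUnit (rX (X.basicOpen_le g) g) := RingedSpace.isUnit_res_basicOpen _ g
    have hle : Submodule.span Γ(X, X.basicOpen g) (S : Set Γ(K, X.basicOpen g)) ≤
        Submodule.span Γ(X, X.basicOpen g)
          ((fun m : Γ(K, V) => rF K (X.basicOpen_le g) m) ''
            ((S.image n : Finset Γ(K, V)) : Set Γ(K, V))) := by
      rw [Submodule.span_le]
      intro y hy
      obtain ⟨v, hv⟩ := hu.pow (N y)
      have hy' : rX (X.basicOpen_le g) g ^ N y • y = rF K (X.basicOpen_le g) (n y) := hn y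
      have h1 : y = (↑v⁻¹ : Γ(X, X.basicOpen g)) • rF K (X.basicOpen_le g) (n y) := by
        rw [← hy', ← hv, ← mul_smul, Units.inv_mul, one_smul]
      rw [h1]
      refine Submodule.smul_mem _ _ (Submodule.subset_span ⟨n y, ?_, rfl⟩)
      exact Finset.mem_coe.mpr (Finset.mem_image_of_mem n hy)
    exact hle (by rw [hS]; trivial)

end FP

section Step

open SubExt in
set_option backward.isDefEq.respectTransparency false in
/-- One step: make `K` finitely presented over one more affine open. -/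
theorem step_fp {V : X.Opens} (hV : IsAffineOpen V) [QuasiCompact hV.fromSpec] (K : X.Modules)
    [K.IsQuasicoherent] (Q : X.Opens) (hQV : IsCompact ((Q ⊓ V : X.Opens) : Set X))
    (hfp : FPOn K Q) :
    ∃ (K' : X.Modules) (i : K' ⟶ K), K'.IsQuasicoherent ∧ FPOn K' (Q ⊔ V) ∧
      ∀ W : X.Opens, W ≤ Q → Function.Bijective (ap i W) := by
  classical
  have hloc : ∀ p : {x : X // x ∈ ((Q ⊓ V : X.Opens) : Set X)}, ∃ (g : Γ(X, V))
      (T : Finset Γ(K, V)), p.1 ∈ X.basicOpen g ∧ X.basicOpen g ≤ Q ∧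
      (∀ s : Γ(K, X.basicOpen g), InSpan K T (X.basicOpen_le g) s) ∧
      Module.FinitePresentation Γ(X, X.basicOpen g) Γ(K, X.basicOpen g) :=
    fun p => exists_local_fp K hV hfp p.1 p.2.1 p.2.2
  choose g Tg hpg hgQ hspan hfpg using hloc
  obtain ⟨t, ht⟩ := hQV.elim_finite_subcover
    (fun p => ((X.basicOpen (g p) : X.Opens) : Set X)) (fun p => (X.basicOpen (g p)).2)
    (fun x hx => Set.mem_iUnion.mpr ⟨⟨x, hx⟩, hpg ⟨x, hx⟩⟩)
  let T : Finset Γ(K, V) := t.biUnion Tg
  have hspanT : ∀ p ∈ t, ∀ s : Γ(K, X.basicOpen (g p)),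
      InSpan K T (X.basicOpen_le (g p)) s := by
    intro p hp s
    exact (hspan p s).mono (Finset.subset_biUnion_of_mem Tg hp)
  let n : ↥T → Γ(K, V) := fun x => x.1
  have halg : ∀ p : ↥t,
      (∀ b : Γ(K, V), ∃ (k : ℕ) (x : ↥T →₀ Γ(X, V)),
        Finsupp.linearCombination Γ(X, V) n x = g p.1 ^ k • b) ∧
      ∃ S : Finset (↥T →₀ Γ(X, V)), (∀ x ∈ S, Finsupp.linearCombination Γ(X, V) n x = 0) ∧
        ∀ x : ↥T →₀ Γ(X, V), Finsupp.linearCombination Γ(X, V) n x = 0 →
          ∃ k : ℕ, g p.1 ^ k • x ∈ Submodule.span Γ(X, V) (S : Set (↥T →₀ Γ(X, V))) := by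
    intro p
    have L := RelFPAff.locData (F := K) hV (g p.1) (homOfLE (X.basicOpen_le (g p.1))) rfl
    haveI := hfpg p.1
    refine exists_ker_gens L n ?_
    rw [eq_top_iff]
    intro s _
    have hs := hspanT p.1 p.2 s
    refine Submodule.span_mono ?_ hs
    rintro _ ⟨m, hm, rfl⟩
    exact ⟨⟨m, hm⟩, rfl⟩
  obtain ⟨Q', iA, iM, hQfp, π, hπs, hπi⟩ := exists_fp_cover n (fun p : ↥t => g p.1)
    (fun p => (halg p).1) (fun p => (halg p).2)
  letI := iA
  letI := iM
  obtain ⟨G, hG, ψ, τ, hτ, hψ⟩ := exists_tilde_data hV K Q' π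
  haveI := hG
  let j := hV.fromSpec
  have hrange : j.opensRange = V := hV.opensRange_fromSpec
  have hVr : V ≤ j.opensRange := hrange.ge
  have hK' : (extJ j K G ψ).IsQuasicoherent := isQuasicoherent_extJ j K G ψ
  have hP1 : ∀ q : Q', ∃ s : Γ(extJ j K G ψ, V),
      ap (extJπ j K G ψ) V s = τ q ∧ ap (extJι j K G ψ) V s = π q := by
    intro q
    exact extJ_exists j K G ψ V (τ q) (π q) (hψ q)
  have hunitV := unitJ_bijective j K V hVr
  have hπV := extJπ_bijective j K G ψ V hVr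
  have hP2 : ∀ s : Γ(extJ j K G ψ, V), ∃ q : Q',
      ap (extJπ j K G ψ) V s = τ q ∧ ap (extJι j K G ψ) V s = π q := by
    intro s
    obtain ⟨q, hq⟩ := τ.surjective (ap (extJπ j K G ψ) V s)
    refine ⟨q, hq.symm, ?_⟩
    apply hunitV.1
    rw [← extJ_cond, ← hq]
    exact hψ q
  have hsm : ∀ (r : Γ(X, V)) (s : Γ(extJ j K G ψ, V)),
      ap (extJπ j K G ψ) V (r • s) =
        (j.app V).hom r • (show Γ(G, j ⁻¹ᵁ V) from ap (extJπ j K G ψ) V s) := by
    intro r s
    exact ap_smul (extJπ j K G ψ) r s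
  have hbij1 : ∀ W : X.Opens, W ≤ Q ⊓ V → Function.Bijective (ap (extJι j K G ψ) W) := by
    intro W hW
    refine bijective_of_loc (extJι j K G ψ) hV (fun p : ↥t => g p.1) ?_ ?_ W ?_
    · intro p a ha
      obtain ⟨q, hq1, hq2⟩ := hP2 a
      have hq0 : π q = 0 := by rw [← hq2, ha]
      obtain ⟨k, hk⟩ := hπi p q hq0
      refine ⟨k, ?_⟩
      apply extJ_ext j K G ψ V _ 0
      · rw [map_zero, hsm]
        show (j.app V).hom (g p.1 ^ k) • (show Γ(G, j ⁻¹ᵁ V) from ap (extJπ j K G ψ) V a) = 0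
        rw [hq1, ← hτ, hk, map_zero]
      · rw [map_zero, ap_smul, ha, smul_zero]
    · intro p b
      obtain ⟨k, q, hq⟩ := hπs p b
      obtain ⟨s, -, hs⟩ := hP1 q
      exact ⟨k, s, hs.trans hq⟩
    · intro x hx
      obtain ⟨p, hp, hxp⟩ := Set.mem_iUnion₂.mp (ht (hW hx))
      exact Opens.mem_iSup.mpr ⟨⟨p, hp⟩, hxp⟩
  have hbij : ∀ W : X.Opens, W ≤ Q → Function.Bijective (ap (extJι j K G ψ) W) := by
    intro W hWQ
    apply extJι_bijective j K G ψ W
    have hW1 : W ⊓ V ≤ j.opensRange := inf_le_right.trans hVr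
    have h1 := hbij1 (W ⊓ V) (inf_le_inf_right V hWQ)
    have h2 := φ_bijective_of_extJι j K G ψ (W ⊓ V) hW1 h1
    have e : j ⁻¹ᵁ (W ⊓ V) = j ⁻¹ᵁ W := by
      have e1 : j ⁻¹ᵁ V = ⊤ := hV.fromSpec_preimage_self
      show j ⁻¹ᵁ W ⊓ j ⁻¹ᵁ V = j ⁻¹ᵁ W
      rw [e1, inf_top_eq]
    rw [e] at h2
    exact h2
  refine ⟨extJ j K G ψ, extJι j K G ψ, hK', ?_, hbij⟩
  intro x hx
  rcases (hx : x ∈ (Q : Set X) ∪ V) with hxQ | hxV
  · obtain ⟨W, hW, hxW, hWQ, hfpW⟩ := hfp x hxQ
    refine ⟨W, hW, hxW, hWQ.trans le_sup_left, ?_⟩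
    haveI := hfpW
    exact fp_of_bijective_ap (extJι j K G ψ) W (hbij W hWQ)
  · refine ⟨V, hV, hxV, le_sup_right, ?_⟩
    let e : Γ(extJ j K G ψ, V) ≃ₗ[Γ(X, V)] Q' :=
      { (AddEquiv.ofBijective (ap (extJπ j K G ψ) V) hπV).trans τ.symm with
        map_smul' := fun r s => by
          show τ.symm (ap (extJπ j K G ψ) V (r • s)) = r • τ.symm (ap (extJπ j K G ψ) V s)
          apply τ.injective
          rw [τ.apply_symm_apply, hτ, τ.apply_symm_apply]
          exact hsm r s }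
    haveI := hQfp
    exact Module.FinitePresentation.of_equiv e.symm

end Step

section Induction

variable [CompactSpace X] [QuasiSeparatedSpace X]

/-- On a qcqs scheme, a quasi-coherent module which is finitely presented over a quasi-compact
open `U` receives a map from a finitely presented module which is bijective on sections over all
opens contained in `U`. -/
theorem exists_fp_of_fpOn (H : X.Modules) [H.IsQuasicoherent] (U : X.Opens)
    (hU : IsCompact (U : Set X)) (hfp : FPOn H U) :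
    ∃ (K' : X.Modules) (i : K' ⟶ H), K'.IsQuasicoherent ∧
      SheafOfModules.IsFinitePresentation (R := X.ringCatSheaf) K' ∧
      ∀ W : X.Opens, W ≤ U → Function.Bijective (ap i W) := by
  let P : X.Opens → Prop := fun S => ∃ (K' : X.Modules) (i : K' ⟶ H),
    K'.IsQuasicoherent ∧ FPOn K' (U ⊔ S) ∧ ∀ W : X.Opens, W ≤ U → Function.Bijective (ap i W)
  have hP : P ⊤ := by
    refine compact_open_induction_on (P := P) ⊤ (by simpa using isCompact_univ) ?_ ?_
    · refine ⟨H, 𝟙 H, inferInstance, ?_, fun W _ => Function.bijective_id⟩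
      rw [sup_bot_eq]
      exact hfp
    · rintro S hS V ⟨K', i, hK', hfp', hbij⟩
      haveI := hK'
      haveI : QuasiCompact V.2.fromSpec := inferInstance
      have hc : IsCompact (((U ⊔ S) ⊓ (V : X.Opens) : X.Opens) : Set X) := by
        have h1 : IsCompact ((U ⊔ S : X.Opens) : Set X) := hU.union hS
        exact QuasiSeparatedSpace.inter_isCompact _ _ (U ⊔ S).2 h1 (V : X.Opens).2 V.2.isCompact
      obtain ⟨K'', i', hK'', hfp'', hbij'⟩ := step_fp V.2 K' (U ⊔ S) hc hfp'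
      refine ⟨K'', i' ≫ i, hK'', ?_, ?_⟩
      · rw [← sup_assoc]
        exact hfp''
      · intro W hW
        exact (hbij W hW).comp (hbij' W (hW.trans le_sup_left))
  obtain ⟨K', i, hK', hfp', hbij⟩ := hP
  refine ⟨K', i, hK', ?_, hbij⟩
  haveI := hK'
  choose W hW hxW _ hfpW using fun x : X => hfp' x (Or.inr trivial)
  refine QCohFP2.isFinitePresentation_of_sections_cover K' W hW ?_ hfpW
  rw [eq_top_iff]
  intro x _
  exact Opens.mem_iSup.mpr ⟨x, hxW x⟩

open SubExt in
set_option backward.isDefEq.respectTransparency false in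
/-- `ext U F G φ` has finitely presented sections near the points of `U` when `G` is finitely
presented. -/
theorem fpOn_ext (U : X.Opens) (F : X.Modules) (G : (U : Scheme.{u}).Modules)
    (φ : G ⟶ F.restrict U.ι)
    [SheafOfModules.IsFinitePresentation (R := U.toScheme.ringCatSheaf) G] :
    FPOn (ext U F G φ) U := by
  intro x hx
  obtain ⟨W', hW', hxW', -⟩ := Opens.isBasis_iff_nbhd.mp U.toScheme.isBasis_affineOpens
    (U := ⊤) (x := (⟨x, hx⟩ : U.toScheme)) trivial
  have hW'aff : IsAffineOpen W' := hW'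
  refine ⟨U.ι ''ᵁ W', hW'aff.image_of_isOpenImmersion U.ι, ⟨⟨x, hx⟩, hxW', rfl⟩,
    U.ι_image_le W', ?_⟩
  have haff : IsAffineOpen (U.ι ⁻¹ᵁ (U.ι ''ᵁ W')) := by
    rw [U.ι.preimage_image_eq]; exact hW'aff
  haveI : Module.FinitePresentation Γ(U.toScheme, U.ι ⁻¹ᵁ (U.ι ''ᵁ W'))
      Γ(G, U.ι ⁻¹ᵁ (U.ι ''ᵁ W')) :=
    QCohFP2.finitePresentation_of_isFinitePresentation G haff
  have hb := extπ_bijective U F G φ (U.ι ''ᵁ W') (U.ι_image_le W')
  haveI : IsIso (U.ι.app (U.ι ''ᵁ W')) :=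
    U.ι.isIso_app (U.ι ''ᵁ W') (by rw [Scheme.Opens.opensRange_ι]; exact U.ι_image_le W')
  exact fp_of_semilinear (U.ι.app (U.ι ''ᵁ W')).hom
    (ConcreteCategory.bijective_of_isIso (U.ι.app (U.ι ''ᵁ W')))
    (N := Γ(ext U F G φ, U.ι ''ᵁ W')) (M := Γ(G, U.ι ⁻¹ᵁ (U.ι ''ᵁ W')))
    (AddEquiv.ofBijective (ap (extπ U F G φ) (U.ι ''ᵁ W')) hb)
    (fun a n => ap_smul (extπ U F G φ) a n)

open SubExt in
set_option backward.isDefEq.respectTransparency false in
/-- **Stacks 01PI**: on a qcqs scheme, a finitely presented module on a quasi-compact open with a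
map to the restriction of a quasi-coherent module extends to a finitely presented module with a
map. -/
theorem exists_fp_extension (F : X.Modules) [F.IsQuasicoherent] (U : X.Opens)
    (hU : IsCompact (U : Set X)) (G : (U : Scheme.{u}).Modules)
    (hG : SheafOfModules.IsFinitePresentation (R := U.toScheme.ringCatSheaf) G)
    (φ : G ⟶ F.restrict U.ι) :
    ∃ (G' : X.Modules) (φ' : G' ⟶ F) (e : G'.restrict U.ι ≅ G), G'.IsQuasicoherent ∧
      SheafOfModules.IsFinitePresentation (R := X.ringCatSheaf) G' ∧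
      e.hom ≫ φ = (Scheme.Modules.restrictFunctor U.ι).map φ' := by
  haveI := hG
  haveI : G.IsQuasicoherent := inferInstance
  haveI : CompactSpace U.toScheme := isCompact_iff_compactSpace.mp hU
  haveI : QuasiCompact U.ι := inferInstance
  haveI hH : (ext U F G φ).IsQuasicoherent := isQuasicoherent_ext U F G φ
  have hfpH : FPOn (ext U F G φ) U := fpOn_ext U F G φ
  obtain ⟨K', i₁, hK', hK'fp, hbij⟩ := exists_fp_of_fpOn (ext U F G φ) U hU hfpH
  haveI : IsIso ((Scheme.Modules.restrictFunctor U.ι).map i₁) := by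
    apply isIso_of_bijective
    intro W'
    exact hbij (U.ι ''ᵁ W') (U.ι_image_le W')
  refine ⟨K', i₁ ≫ extι U F G φ,
    asIso ((Scheme.Modules.restrictFunctor U.ι).map i₁) ≪≫ asIso (extRes U F G φ),
    hK', hK'fp, ?_⟩
  simp only [Iso.trans_hom, asIso_hom, Category.assoc, Functor.map_comp]
  rw [extRes_comp]

end Induction

end Groth.Agent.Lib.FPExtH2
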