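import Mathlib
import Groth.Prelude.Def_CohB1
import Groth.Agent.Lib.FPExt3_helper2
import Groth.Agent.Lib.CohOpen2_helper8
import Groth.Agent.Lib.Tens29_helper8

/-!
# Finitely presented covers of finite type quasi-coherent modules (Stacks 01PK)
-/

universe u

open CategoryTheory CategoryTheory.Limits AlgebraicGeometry Opposite TopologicalSpace Scheme.Modules
open Groth.Agent.Lib.QCohLoc_helper4 QcqsLoc QCohExtn

namespace Groth.Agent.Lib.FPExtH2

variable {X : Scheme.{u}}

section ModuleExt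

set_option backward.isDefEq.respectTransparency false in
/-- Every linear map `Q' → Γ(K, V)` (`V` affine) is realised by a map of quasi-coherent modules
`K' ⟶ K` with `Γ(K', V) ≃ Q'`. -/
theorem exists_ext_of_module {V : X.Opens} (hV : IsAffineOpen V) [QuasiCompact hV.fromSpec]
    (K : X.Modules) [K.IsQuasicoherent] (Q' : Type u) [AddCommGroup Q'] [Module Γ(X, V) Q']
    (π : Q' →ₗ[Γ(X, V)] Γ(K, V)) :
    ∃ (K' : X.Modules) (i : K' ⟶ K) (e : Γ(K', V) ≃ₗ[Γ(X, V)] Q'), K'.IsQuasicoherent ∧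
      ∀ s, ap i V s = π (e s) := by
  obtain ⟨G, hG, ψ, τ, hτ, hψ⟩ := exists_tilde_data hV K Q' π
  haveI := hG
  let j := hV.fromSpec
  have hrange : j.opensRange = V := hV.opensRange_fromSpec
  have hVr : V ≤ j.opensRange := hrange.ge
  have hK' : (extJ j K G ψ).IsQuasicoherent := isQuasicoherent_extJ j K G ψ
  have hunitV := unitJ_bijective j K V hVr
  have hπV := extJπ_bijective j K G ψ V hVr
  have hsm : ∀ (r : Γ(X, V)) (s : Γ(extJ j K G ψ, V)),
      ap (extJπ j K G ψ) V (r • s) =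
        (j.app V).hom r • (show Γ(G, j ⁻¹ᵁ V) from ap (extJπ j K G ψ) V s) := by
    intro r s
    exact ap_smul (extJπ j K G ψ) r s
  let e : Γ(extJ j K G ψ, V) ≃ₗ[Γ(X, V)] Q' :=
    { (AddEquiv.ofBijective (ap (extJπ j K G ψ) V) hπV).trans τ.symm with
      map_smul' := fun r s => by
        show τ.symm (ap (extJπ j K G ψ) V (r • s)) = r • τ.symm (ap (extJπ j K G ψ) V s)
        apply τ.injective
        rw [τ.apply_symm_apply, hτ, τ.apply_symm_apply]
        exact hsm r s }
  refine ⟨extJ j K G ψ, extJι j K G ψ, e, hK', fun s => ?_⟩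
  have hq : τ (e s) = ap (extJπ j K G ψ) V s := τ.apply_symm_apply _
  apply hunitV.1
  rw [← extJ_cond]
  have h1 := hψ (e s)
  rw [hq] at h1
  exact h1

end ModuleExt

section Hitting

variable [CompactSpace X] [QuasiSeparatedSpace X]

/-- Enough finitely presented modules: finitely many sections over an affine open are hit by a
map from a finitely presented module. -/
theorem exists_fp_hitting (F : X.Modules) [F.IsQuasicoherent] {V : X.Opens}
    (hV : IsAffineOpen V) (T : Finset Γ(F, V)) :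
    ∃ (G : X.Modules) (ψ : G ⟶ F), G.IsQuasicoherent ∧
      SheafOfModules.IsFinitePresentation (R := X.ringCatSheaf) G ∧
      ∀ n ∈ T, ∃ s : Γ(G, V), ap ψ V s = n := by
  classical
  haveI : QuasiCompact hV.fromSpec := inferInstance
  let π : (↥T →₀ Γ(X, V)) →ₗ[Γ(X, V)] Γ(F, V) :=
    Finsupp.linearCombination Γ(X, V) (fun t : ↥T => t.1)
  obtain ⟨K', i, e, hK', hi⟩ := exists_ext_of_module hV F (↥T →₀ Γ(X, V)) π
  haveI := hK'
  have hfp : FPOn K' V := fun x hx =>
    ⟨V, hV, hx, le_rfl, Module.FinitePresentation.of_equiv e.symm⟩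
  obtain ⟨K'', i'', hK'', hfp'', hbij⟩ := exists_fp_of_fpOn K' V hV.isCompact hfp
  refine ⟨K'', i'' ≫ i, hK'', hfp'', fun n hn => ?_⟩
  obtain ⟨s, hs⟩ := (hbij V le_rfl).2 (e.symm (Finsupp.single ⟨n, hn⟩ 1))
  refine ⟨s, ?_⟩
  show ap i V (ap i'' V s) = n
  rw [hs, hi, e.apply_symm_apply]
  simp [π]

end Hitting

section Biprod

theorem biprod_sections_equiv_aux (A B : X.Modules) (W : X.Opens) :
    (∀ s : Γ(A ⊞ B, W), ap (biprod.inl : A ⟶ A ⊞ B) W (ap (biprod.fst : A ⊞ B ⟶ A) W s) +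
        ap (biprod.inr : B ⟶ A ⊞ B) W (ap (biprod.snd : A ⊞ B ⟶ B) W s) = s) ∧
    (∀ a : Γ(A, W), ap (biprod.fst : A ⊞ B ⟶ A) W (ap (biprod.inl : A ⟶ A ⊞ B) W a) = a) ∧
    (∀ a : Γ(A, W), ap (biprod.snd : A ⊞ B ⟶ B) W (ap (biprod.inl : A ⟶ A ⊞ B) W a) = 0) ∧
    (∀ b : Γ(B, W), ap (biprod.fst : A ⊞ B ⟶ A) W (ap (biprod.inr : B ⟶ A ⊞ B) W b) = 0) ∧
    (∀ b : Γ(B, W), ap (biprod.snd : A ⊞ B ⟶ B) W (ap (biprod.inr : B ⟶ A ⊞ B) W b) = b) := by
  refine ⟨fun s => ?_, fun a => ?_, fun a => ?_, fun b => ?_, fun b => ?_⟩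
  · exact congrArg (fun χ : A ⊞ B ⟶ A ⊞ B => ap χ W s) (biprod.total (X := A) (Y := B))
  · exact congrArg (fun χ : A ⟶ A => ap χ W a) (biprod.inl_fst (X := A) (Y := B))
  · exact congrArg (fun χ : A ⟶ B => ap χ W a) (biprod.inl_snd (X := A) (Y := B))
  · exact congrArg (fun χ : B ⟶ A => ap χ W b) (biprod.inr_fst (X := A) (Y := B))
  · exact congrArg (fun χ : B ⟶ B => ap χ W b) (biprod.inr_snd (X := A) (Y := B))

/-- Sections of a biproduct. -/
noncomputable def biprodSectionsEquiv (A B : X.Modules) (W : X.Opens) :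
    Γ(A ⊞ B, W) ≃ₗ[Γ(X, W)] (Γ(A, W) × Γ(B, W)) where
  toFun s := (ap (biprod.fst : A ⊞ B ⟶ A) W s, ap (biprod.snd : A ⊞ B ⟶ B) W s)
  map_add' s t := by simp
  map_smul' r s := by
    show (ap (biprod.fst : A ⊞ B ⟶ A) W (r • s), ap (biprod.snd : A ⊞ B ⟶ B) W (r • s)) =
      r • (ap (biprod.fst : A ⊞ B ⟶ A) W s, ap (biprod.snd : A ⊞ B ⟶ B) W s)
    rw [ap_smul, ap_smul]
    rfl
  invFun p := ap (biprod.inl : A ⟶ A ⊞ B) W p.1 + ap (biprod.inr : B ⟶ A ⊞ B) W p.2
  left_inv s := (biprod_sections_equiv_aux A B W).1 s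
  right_inv p := by
    obtain ⟨-, h1, h2, h3, h4⟩ := biprod_sections_equiv_aux A B W
    ext
    · show ap (biprod.fst : A ⊞ B ⟶ A) W (ap (biprod.inl : A ⟶ A ⊞ B) W p.1 +
        ap (biprod.inr : B ⟶ A ⊞ B) W p.2) = p.1
      rw [map_add, h1, h3, add_zero]
    · show ap (biprod.snd : A ⊞ B ⟶ B) W (ap (biprod.inl : A ⟶ A ⊞ B) W p.1 +
        ap (biprod.inr : B ⟶ A ⊞ B) W p.2) = p.2
      rw [map_add, h2, h4, zero_add]

theorem isFinitePresentation_biprod (A B : X.Modules)
    [SheafOfModules.IsFinitePresentation (R := X.ringCatSheaf) A]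
    [SheafOfModules.IsFinitePresentation (R := X.ringCatSheaf) B] :
    (A ⊞ B).IsQuasicoherent ∧
      SheafOfModules.IsFinitePresentation (R := X.ringCatSheaf) (A ⊞ B) := by
  haveI : A.IsQuasicoherent := inferInstance
  haveI : B.IsQuasicoherent := inferInstance
  haveI hq : (A ⊞ B).IsQuasicoherent := CohOpenH8.isQuasicoherent_biprod A B
  refine ⟨hq, QCohFP.isFinitePresentation_of_sections (A ⊞ B) (fun U => ?_)⟩
  haveI : Module.FinitePresentation Γ(X, (U : X.Opens)) Γ(A, (U : X.Opens)) :=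
    QCohFP2.finitePresentation_of_isFinitePresentation A U.2
  haveI : Module.FinitePresentation Γ(X, (U : X.Opens)) Γ(B, (U : X.Opens)) :=
    QCohFP2.finitePresentation_of_isFinitePresentation B U.2
  exact Module.FinitePresentation.of_equiv (biprodSectionsEquiv A B U).symm

end Biprod

section Cover

/-- Surjectivity on an affine open passes to its basic opens. -/
theorem surjective_basicOpen {A B : X.Modules} [B.IsQuasicoherent] (φ : A ⟶ B) {V : X.Opens}
    (hV : IsAffineOpen V) (h : Function.Surjective (ap φ V)) (f : Γ(X, V)) :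
    Function.Surjective (ap φ (X.basicOpen f)) := by
  intro t
  have hl : X.basicOpen f ≤ V := X.basicOpen_le f
  have LB := RelFPAff.locData (F := B) hV f (homOfLE hl) rfl
  obtain ⟨n, b, hb⟩ := LB.surj t
  have hb' : rX hl f ^ n • t = rF B hl b := hb
  obtain ⟨a, ha⟩ := h b
  have hu : IsUnit (rX hl f ^ n) := (RingedSpace.isUnit_res_basicOpen _ f).pow n
  obtain ⟨v, hv⟩ := hu
  refine ⟨(↑v⁻¹ : Γ(X, X.basicOpen f)) • rF A hl a, ?_⟩
  rw [ap_smul, ap_rF, ha, ← hb', ← hv, smul_smul, Units.inv_mul, one_smul]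

theorem epi_of_affine_surjective {A B : X.Modules} [B.IsQuasicoherent] (φ : A ⟶ B)
    (h : ∀ x : X, ∃ V : X.Opens, IsAffineOpen V ∧ x ∈ V ∧ Function.Surjective (ap φ V)) :
    Epi φ := by
  refine TensH8.epi_of_locally_surjective φ (fun U m x hx => ?_)
  obtain ⟨V, hV, hxV, hs⟩ := h x
  obtain ⟨f, hle, hxf⟩ := hV.exists_basicOpen_le (V := U ⊓ V) ⟨x, ⟨hx, hxV⟩⟩ hxV
  obtain ⟨z, hz⟩ := surjective_basicOpen φ hV hs f (rF B (hle.trans inf_le_left) m)
  exact ⟨X.basicOpen f, hle.trans inf_le_left, hxf, z, hz⟩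

/-- Bijectivity on affine opens contained in `U` gives bijectivity on all opens contained in
`U`. -/
theorem bijective_of_affine {A B : X.Modules} (φ : A ⟶ B) (U : X.Opens)
    (h : ∀ W : X.Opens, IsAffineOpen W → W ≤ U → Function.Bijective (ap φ W)) :
    ∀ W : X.Opens, W ≤ U → Function.Bijective (ap φ W) := by
  have hinj : ∀ W : X.Opens, W ≤ U → Function.Injective (ap φ W) := by
    intro W hW
    rw [injective_iff_map_eq_zero]
    intro s hs
    apply eq_zero_of_cover A
    intro x hx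
    obtain ⟨W', hW'aff, hxW', hW'W⟩ := Opens.isBasis_iff_nbhd.mp X.isBasis_affineOpens hx
    refine ⟨W', hW'W, hxW', ?_⟩
    apply (h W' hW'aff (hW'W.trans hW)).1
    rw [ap_rF, hs, map_zero, map_zero]
  intro W hW
  refine ⟨hinj W hW, fun t => ?_⟩
  apply mem_range_of_locally' φ (fun V hV => hinj V (hV.trans hW)) t
  intro x hx
  obtain ⟨W', hW'aff, hxW', hW'W⟩ := Opens.isBasis_iff_nbhd.mp X.isBasis_affineOpens hx
  obtain ⟨z, hz⟩ := (h W' hW'aff (hW'W.trans hW)).2 (rF B hW'W t)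
  exact ⟨W', hW'W, hxW', z, hz⟩

variable [CompactSpace X] [QuasiSeparatedSpace X]

/-- On a qcqs scheme, a quasi-coherent module of finite type is a quotient of a finitely
presented module. -/
theorem exists_fp_epi (F : X.Modules) [F.IsQuasicoherent]
    (hF : SheafOfModules.IsFiniteType (R := X.ringCatSheaf) F) :
    ∃ (G : X.Modules) (ψ : G ⟶ F), G.IsQuasicoherent ∧
      SheafOfModules.IsFinitePresentation (R := X.ringCatSheaf) G ∧ Epi ψ := by
  classical
  haveI := hF
  let P : X.Opens → Prop := fun S => ∃ (G : X.Modules) (ψ : G ⟶ F), G.IsQuasicoherent ∧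
    SheafOfModules.IsFinitePresentation (R := X.ringCatSheaf) G ∧
    ∀ x ∈ S, ∃ V : X.Opens, IsAffineOpen V ∧ x ∈ V ∧ Function.Surjective (ap ψ V)
  have hP : P ⊤ := by
    refine compact_open_induction_on (P := P) ⊤ (by simpa using isCompact_univ) ?_ ?_
    · obtain ⟨K', i, hK', hfp, -⟩ := exists_fp_of_fpOn F ⊥ (by simp)
        (fun x hx => absurd hx (by simp))
      exact ⟨K', i, hK', hfp, fun x hx => absurd hx (by simp)⟩
    · rintro S hS V ⟨G, ψ, hG, hGfp, hsurj⟩
      haveI := hG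
      haveI := hGfp
      have hfin : Module.Finite Γ(X, V.1) Γ(F, V.1) := QCohFT.finite_of_isFiniteType F V.2
      obtain ⟨T, hT⟩ := hfin.fg_top
      obtain ⟨GV, ψV, hGV, hGVfp, hhit⟩ := exists_fp_hitting F V.2 T
      haveI := hGV
      haveI := hGVfp
      obtain ⟨hq, hfp⟩ := isFinitePresentation_biprod G GV
      refine ⟨G ⊞ GV, biprod.desc ψ ψV, hq, hfp, ?_⟩
      intro x hx
      rcases (hx : x ∈ (S : Set X) ∪ V.1) with hxS | hxV
      · obtain ⟨V', hV', hxV', hs⟩ := hsurj x hxS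
        refine ⟨V', hV', hxV', fun b => ?_⟩
        obtain ⟨a, ha⟩ := hs b
        refine ⟨ap (biprod.inl : G ⟶ G ⊞ GV) V' a, ?_⟩
        have := congrArg (fun χ : G ⟶ F => ap χ V' a) (biprod.inl_desc ψ ψV)
        exact this.trans ha
      · refine ⟨V.1, V.2, hxV, fun b => ?_⟩
        have hb : b ∈ Submodule.span Γ(X, V.1) (T : Set Γ(F, V.1)) := by rw [hT]; trivial
        induction hb using Submodule.span_induction with
        | mem n hn =>
          obtain ⟨s, hs⟩ := hhit n hn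
          refine ⟨ap (biprod.inr : GV ⟶ G ⊞ GV) V.1 s, ?_⟩
          have := congrArg (fun χ : GV ⟶ F => ap χ V.1 s) (biprod.inr_desc ψ ψV)
          exact this.trans hs
        | zero => exact ⟨0, map_zero _⟩
        | add x y _ _ hx hy =>
          obtain ⟨a, ha⟩ := hx
          obtain ⟨b', hb'⟩ := hy
          exact ⟨a + b', by rw [map_add, ha, hb']⟩
        | smul c x _ hx =>
          obtain ⟨a, ha⟩ := hx
          exact ⟨c • a, by rw [ap_smul, ha]⟩
  obtain ⟨G, ψ, hG, hGfp, hsurj⟩ := hP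
  exact ⟨G, ψ, hG, hGfp, epi_of_affine_surjective ψ (fun x => hsurj x trivial)⟩

/-- **Stacks 01PK**: on a qcqs scheme, a quasi-coherent module of finite type which is finitely
presented over a quasi-compact open `U` is a quotient of a finitely presented module by a map
which is bijective on sections over all opens contained in `U`. -/
theorem exists_fp_epi_iso_on (F : X.Modules) [F.IsQuasicoherent]
    (hF : SheafOfModules.IsFiniteType (R := X.ringCatSheaf) F) (U : X.Opens)
    (hU : IsCompact (U : Set X)) (hFU : FPOn F U) :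
    ∃ (G : X.Modules) (φ : G ⟶ F), G.IsQuasicoherent ∧
      SheafOfModules.IsFinitePresentation (R := X.ringCatSheaf) G ∧ Epi φ ∧
      ∀ W : X.Opens, W ≤ U → Function.Bijective (ap φ W) := by
  obtain ⟨G₀, ψ₀, hG₀, hG₀fp, hepi⟩ := exists_fp_epi F hF
  haveI := hG₀
  haveI := hG₀fp
  haveI := hepi
  haveI hN : (kernel ψ₀).IsQuasicoherent := SubExt.isQuasicoherent_kernel ψ₀
  have hker0 : ∀ (W : X.Opens) (z : Γ(kernel ψ₀, W)), ap ψ₀ W (ap (kernel.ι ψ₀) W z) = 0 := by
    intro W z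
    exact congrArg (fun χ : kernel ψ₀ ⟶ F => ap χ W z) (kernel.condition ψ₀)
  have hker : ∀ (W : X.Opens) (a : Γ(G₀, W)), ap ψ₀ W a = 0 →
      ∃ k : Γ(kernel ψ₀, W), ap (kernel.ι ψ₀) W k = a := by
    intro W a ha
    let E : ShortComplex X.Modules := ShortComplex.mk (kernel.ι ψ₀) ψ₀ (kernel.condition ψ₀)
    have hE : E.Exact := ShortComplex.exact_kernel ψ₀
    haveI : Mono E.f := inferInstanceAs (Mono (kernel.ι ψ₀))
    exact QCohExact.app_exact E hE W a ha
  have hfin : SubExt.FinOn (kernel ψ₀) U := by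
    intro x hx
    obtain ⟨W, hW, hxW, hWU, hfpW⟩ := hFU x hx
    refine ⟨W, hW, hxW, hWU, ?_⟩
    haveI := hfpW
    haveI : Module.FinitePresentation Γ(X, W) Γ(G₀, W) :=
      QCohFP2.finitePresentation_of_isFinitePresentation G₀ hW
    let l : Γ(G₀, W) →ₗ[Γ(X, W)] Γ(F, W) :=
      { toFun := ap ψ₀ W, map_add' := map_add _, map_smul' := fun r m => ap_smul ψ₀ r m }
    have hl : Function.Surjective l := QCohExact.app_surjective_of_epi ψ₀ hW
    have hfg : (LinearMap.ker l).FG := Module.FinitePresentation.fg_ker l hl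
    let k : Γ(kernel ψ₀, W) →ₗ[Γ(X, W)] Γ(G₀, W) :=
      { toFun := ap (kernel.ι ψ₀) W, map_add' := map_add _,
        map_smul' := fun r m => ap_smul (kernel.ι ψ₀) r m }
    have hk : LinearMap.range k = LinearMap.ker l := by
      ext a
      constructor
      · rintro ⟨z, rfl⟩
        exact hker0 W z
      · intro ha
        exact hker W a ha
    have hkinj : Function.Injective k := QCohExact.app_injective_of_mono (kernel.ι ψ₀) W
    haveI : Module.Finite Γ(X, W) (LinearMap.range k) := by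
      rw [hk]
      exact Module.Finite.of_fg hfg
    exact Module.Finite.equiv (LinearEquiv.ofInjective k hkinj).symm
  obtain ⟨N', i, hi, hN', hN'ft, hbij⟩ := SubExt.exists_ft_sub (kernel ψ₀) U hU hfin
  haveI := hi
  haveI := hN'
  haveI := hN'ft
  let ι' : N' ⟶ G₀ := i ≫ kernel.ι ψ₀
  haveI : Mono ι' := mono_comp _ _
  have hι'0 : ι' ≫ ψ₀ = 0 := by
    show (i ≫ kernel.ι ψ₀) ≫ ψ₀ = 0
    rw [Category.assoc, kernel.condition, comp_zero]
  let E : ShortComplex X.Modules := ShortComplex.mk ι' (cokernel.π ι') (cokernel.condition ι')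
  have hE : E.ShortExact := ShortComplex.ShortExact.mk' (ShortComplex.exact_cokernel ι')
    (inferInstanceAs (Mono ι')) (inferInstanceAs (Epi (cokernel.π ι')))
  haveI : Mono E.f := inferInstanceAs (Mono ι')
  haveI : E.X₁.IsQuasicoherent := hN'
  haveI : E.X₂.IsQuasicoherent := hG₀
  haveI hGq : (cokernel ι').IsQuasicoherent := SubExt.isQuasicoherent_X₃ E hE
  have hπφ : cokernel.π ι' ≫ cokernel.desc ι' ψ₀ hι'0 = ψ₀ := cokernel.π_desc _ _ _
  have hπsurj : ∀ W : X.Opens, IsAffineOpen W → Function.Surjective (ap (cokernel.π ι') W) :=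
    fun W hW => QCohExact.app_surjective_of_epi (cokernel.π ι') hW
  have hπ0 : ∀ (W : X.Opens) (z : Γ(N', W)), ap (cokernel.π ι') W (ap ι' W z) = 0 := by
    intro W z
    exact congrArg (fun χ : N' ⟶ cokernel ι' => ap χ W z) (cokernel.condition ι')
  have hepiφ : Epi (cokernel.desc ι' ψ₀ hι'0) := epi_of_epi_fac hπφ
  have hGfp : SheafOfModules.IsFinitePresentation (R := X.ringCatSheaf) (cokernel ι') := by
    refine QCohFP.isFinitePresentation_of_sections (cokernel ι') (fun W => ?_)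
    haveI : Module.FinitePresentation Γ(X, W.1) Γ(G₀, W.1) :=
      QCohFP2.finitePresentation_of_isFinitePresentation G₀ W.2
    haveI : Module.Finite Γ(X, W.1) Γ(N', W.1) := QCohFT.finite_of_isFiniteType N' W.2
    let p : Γ(G₀, W.1) →ₗ[Γ(X, W.1)] Γ(cokernel ι', W.1) :=
      { toFun := ap (cokernel.π ι') W.1, map_add' := map_add _,
        map_smul' := fun r m => ap_smul (cokernel.π ι') r m }
    let q : Γ(N', W.1) →ₗ[Γ(X, W.1)] Γ(G₀, W.1) :=
      { toFun := ap ι' W.1, map_add' := map_add _,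
        map_smul' := fun r m => ap_smul ι' r m }
    refine Module.finitePresentation_of_surjective p (hπsurj W.1 W.2) ?_
    have hpq : LinearMap.ker p = LinearMap.range q := by
      ext a
      constructor
      · intro ha
        exact QCohExact.app_exact E hE.exact W.1 a ha
      · rintro ⟨z, rfl⟩
        exact hπ0 W.1 z
    rw [hpq, LinearMap.range_eq_map]
    exact Submodule.FG.map _ Module.Finite.fg_top
  have hb : ∀ W : X.Opens, W ≤ U → Function.Bijective (ap (cokernel.desc ι' ψ₀ hι'0) W) := by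
    apply bijective_of_affine (cokernel.desc ι' ψ₀ hι'0) U
    intro W hW hWU
    have hfac : ∀ a : Γ(G₀, W), ap (cokernel.desc ι' ψ₀ hι'0) W (ap (cokernel.π ι') W a) =
        ap ψ₀ W a := fun a => congrArg (fun χ : G₀ ⟶ F => ap χ W a) hπφ
    constructor
    · rw [injective_iff_map_eq_zero]
      intro s hs
      obtain ⟨a, rfl⟩ := hπsurj W hW s
      have ha : ap ψ₀ W a = 0 := by rw [← hfac]; exact hs
      obtain ⟨k, hk⟩ := hker W a ha
      obtain ⟨k', hk'⟩ := (hbij W hWU).2 k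
      have h1 : a = ap ι' W k' := by
        rw [← hk, ← hk']
        rfl
      rw [h1]
      exact hπ0 W k'
    · intro b
      obtain ⟨a, ha⟩ := QCohExact.app_surjective_of_epi ψ₀ hW b
      exact ⟨ap (cokernel.π ι') W a, (hfac a).trans ha⟩
  exact ⟨cokernel ι', cokernel.desc ι' ψ₀ hι'0, hGq, hGfp, hepiφ, hb⟩

set_option backward.isDefEq.respectTransparency false in
omit [CompactSpace X] [QuasiSeparatedSpace X] in
theorem fpOn_of_restrict (F : X.Modules) (U : X.Opens)
    [SheafOfModules.IsFinitePresentation (R := U.toScheme.ringCatSheaf) (F.restrict U.ι)] :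
    FPOn F U := by
  intro x hx
  obtain ⟨W', hW', hxW', -⟩ := Opens.isBasis_iff_nbhd.mp U.toScheme.isBasis_affineOpens
    (U := ⊤) (x := (⟨x, hx⟩ : U.toScheme)) trivial
  have hW'aff : IsAffineOpen W' := hW'
  refine ⟨U.ι ''ᵁ W', hW'aff.image_of_isOpenImmersion U.ι, ⟨⟨x, hx⟩, hxW', rfl⟩,
    U.ι_image_le W', ?_⟩
  haveI : Module.FinitePresentation Γ(U.toScheme, W') Γ(F.restrict U.ι, W') :=
    QCohFP2.finitePresentation_of_isFinitePresentation (F.restrict U.ι) hW'aff
  refine fp_of_semilinear (U.ι.appIso W').hom.hom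
    (ConcreteCategory.bijective_of_isIso (U.ι.appIso W').hom)
    (N := Γ(F, U.ι ''ᵁ W')) (M := Γ(F.restrict U.ι, W')) (AddEquiv.refl _) (fun a n => ?_)
  show a • n = ((U.ι.appIso W').inv.hom ((U.ι.appIso W').hom.hom a)) • n
  have h1 : (U.ι.appIso W').inv.hom ((U.ι.appIso W').hom.hom a) = a := by
    rw [← CommRingCat.comp_apply, Iso.hom_inv_id]
    rfl
  rw [h1]

set_option backward.isDefEq.respectTransparency false in
/-- The form of Stacks 01PK used by the milestone statement. -/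
theorem exists_fp_epi_isIso_restrict (F : X.Modules) [F.IsQuasicoherent]
    (hF : SheafOfModules.IsFiniteType (R := X.ringCatSheaf) F) (U : X.Opens)
    (hU : IsCompact (U : Set X))
    (hFU : SheafOfModules.IsFinitePresentation (R := U.toScheme.ringCatSheaf) (F.restrict U.ι)) :
    ∃ (G : X.Modules) (φ : G ⟶ F), G.IsQuasicoherent ∧
      SheafOfModules.IsFinitePresentation (R := X.ringCatSheaf) G ∧ Epi φ ∧
      IsIso ((Scheme.Modules.restrictFunctor U.ι).map φ) := by
  haveI := hFU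
  obtain ⟨G, φ, hG, hfp, hepi, hb⟩ := exists_fp_epi_iso_on F hF U hU (fpOn_of_restrict F U)
  refine ⟨G, φ, hG, hfp, hepi, ?_⟩
  apply SubExt.isIso_of_bijective
  intro W'
  exact hb (U.ι ''ᵁ W') (U.ι_image_le W')

end Cover

end Groth.Agent.Lib.FPExtH2
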