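import Mathlib
import Groth.Prelude.Def_CohB1
import Groth.Agent.Lib.FPExt4_helper2
import Groth.Agent.Lib.SubFam1_helper2

/-!
# A finite type quasi-coherent module on a qcqs scheme is a directed colimit of finitely presented
modules with surjective transition maps (Stacks 01PJ, second part)
-/

universe u

open CategoryTheory CategoryTheory.Limits AlgebraicGeometry Opposite TopologicalSpace Scheme.Modules
open Groth.Agent.Lib.QCohLoc_helper4 QcqsLoc QCohExtn
open Groth.Agent.Lib.SubFamH2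

namespace Groth.Agent.Lib.FPExtH2

variable {X : Scheme.{u}}

section CokerFP

/-- The cokernel of a finite type quasi-coherent submodule of a finitely presented module is
finitely presented. -/
theorem cokernel_ft_fp {N' G₀ : X.Modules} (ι' : N' ⟶ G₀) [Mono ι'] [N'.IsQuasicoherent]
    [SheafOfModules.IsFiniteType (R := X.ringCatSheaf) N']
    [SheafOfModules.IsFinitePresentation (R := X.ringCatSheaf) G₀] :
    (cokernel ι').IsQuasicoherent ∧
      SheafOfModules.IsFinitePresentation (R := X.ringCatSheaf) (cokernel ι') := by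
  haveI hG₀ : G₀.IsQuasicoherent := inferInstance
  let E : ShortComplex X.Modules := ShortComplex.mk ι' (cokernel.π ι') (cokernel.condition ι')
  have hE : E.ShortExact := ShortComplex.ShortExact.mk' (ShortComplex.exact_cokernel ι')
    (inferInstanceAs (Mono ι')) (inferInstanceAs (Epi (cokernel.π ι')))
  haveI : Mono E.f := inferInstanceAs (Mono ι')
  haveI : E.X₁.IsQuasicoherent := ‹N'.IsQuasicoherent›
  haveI : E.X₂.IsQuasicoherent := hG₀
  haveI hGq : (cokernel ι').IsQuasicoherent := SubExt.isQuasicoherent_X₃ E hE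
  have hπsurj : ∀ W : X.Opens, IsAffineOpen W → Function.Surjective (ap (cokernel.π ι') W) :=
    fun W hW => QCohExact.app_surjective_of_epi (cokernel.π ι') hW
  have hπ0 : ∀ (W : X.Opens) (z : Γ(N', W)), ap (cokernel.π ι') W (ap ι' W z) = 0 := by
    intro W z
    exact congrArg (fun χ : N' ⟶ cokernel ι' => ap χ W z) (cokernel.condition ι')
  refine ⟨hGq, QCohFP.isFinitePresentation_of_sections (cokernel ι') (fun W => ?_)⟩
  haveI : Module.FinitePresentation Γ(X, W.1) Γ(G₀, W.1) :=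
    QCohFP2.finitePresentation_of_isFinitePresentation G₀ W.2
  haveI : Module.Finite Γ(X, W.1) Γ(N', W.1) := QCohFT.finite_of_isFiniteType N' W.2
  let p : Γ(G₀, W.1) →ₗ[Γ(X, W.1)] Γ(cokernel ι', W.1) :=
    { toFun := ap (cokernel.π ι') W.1, map_add' := map_add _,
      map_smul' := fun r m => ap_smul (cokernel.π ι') r m }
  let q : Γ(N', W.1) →ₗ[Γ(X, W.1)] Γ(G₀, W.1) :=
    { toFun := ap ι' W.1, map_add' := map_add _,
      map_smul' := fun r m => ap_smul ι' r m }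
  refine Module.finitePresentation_of_surjective p (hπsurj W.1 W.2) ?_
  have hpq : LinearMap.ker p = LinearMap.range q := by
    ext a
    constructor
    · intro ha
      exact QCohExact.app_exact E hE.exact W.1 a ha
    · rintro ⟨z, rfl⟩
      exact hπ0 W.1 z
  rw [hpq, LinearMap.range_eq_map]
  exact Submodule.FG.map _ Module.Finite.fg_top

end CokerFP

section Colim

variable {G₀ F : X.Modules} (ψ₀ : G₀ ⟶ F) {J : Type u} [PartialOrder J]
  (JA : J → X.Modules) (Ji : ∀ j, JA j ⟶ kernel ψ₀)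
  (hle : ∀ j j', j ≤ j' → ∀ (W : X.Opens) (z : Γ(JA j, W)),
    ∃ z' : Γ(JA j', W), ap (Ji j') W z' = ap (Ji j) W z)

include hle in
theorem vanish (j j' : J) (h : j ≤ j') :
    (Ji j ≫ kernel.ι ψ₀) ≫ cokernel.π (Ji j' ≫ kernel.ι ψ₀) = 0 := by
  refine Scheme.Modules.hom_ext _ _ (fun W => ?_)
  refine ConcreteCategory.hom_ext _ _ (fun z => ?_)
  obtain ⟨z', hz'⟩ := hle j j' h W z
  show ap (cokernel.π (Ji j' ≫ kernel.ι ψ₀)) W (ap (kernel.ι ψ₀) W (ap (Ji j) W z)) = 0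
  rw [← hz']
  exact congrArg (fun χ : JA j' ⟶ cokernel (Ji j' ≫ kernel.ι ψ₀) => ap χ W z')
    (cokernel.condition (Ji j' ≫ kernel.ι ψ₀))

/-- The diagram of quotients `G₀ / N_j`. -/
noncomputable def Dfun : J ⥤ X.Modules where
  obj j := cokernel (Ji j ≫ kernel.ι ψ₀)
  map {j j'} h := cokernel.desc _ (cokernel.π (Ji j' ≫ kernel.ι ψ₀))
    (vanish ψ₀ JA Ji hle j j' (leOfHom h))
  map_id j := by
    rw [← cancel_epi (cokernel.π (Ji j ≫ kernel.ι ψ₀)), cokernel.π_desc, Category.comp_id]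
  map_comp {j j' j''} f g := by
    rw [← cancel_epi (cokernel.π (Ji j ≫ kernel.ι ψ₀)), cokernel.π_desc,
      cokernel.π_desc_assoc, cokernel.π_desc]

/-- The projection `G₀ ⟶ G₀ / N_j`. -/
noncomputable def Dπ (j : J) : G₀ ⟶ (Dfun ψ₀ JA Ji hle).obj j :=
  cokernel.π (Ji j ≫ kernel.ι ψ₀)

instance (j : J) : Epi (Dπ ψ₀ JA Ji hle j) :=
  inferInstanceAs (Epi (cokernel.π (Ji j ≫ kernel.ι ψ₀)))

@[reassoc]
theorem Dπ_map {j j' : J} (h : j ⟶ j') :
    Dπ ψ₀ JA Ji hle j ≫ (Dfun ψ₀ JA Ji hle).map h = Dπ ψ₀ JA Ji hle j' :=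
  cokernel.π_desc _ _ _

theorem Dπ_zero (j : J) : (Ji j ≫ kernel.ι ψ₀) ≫ Dπ ψ₀ JA Ji hle j = 0 :=
  cokernel.condition _

/-- The maps `G₀ / N_j ⟶ F`. -/
noncomputable def Dιapp (j : J) : (Dfun ψ₀ JA Ji hle).obj j ⟶ F :=
  cokernel.desc (Ji j ≫ kernel.ι ψ₀) ψ₀
    (by rw [Category.assoc, kernel.condition, comp_zero])

@[reassoc]
theorem Dπ_ιapp (j : J) : Dπ ψ₀ JA Ji hle j ≫ Dιapp ψ₀ JA Ji hle j = ψ₀ :=
  cokernel.π_desc _ _ _

/-- The cocone maps `G₀ / N_j ⟶ F`. -/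
noncomputable def Dι : Dfun ψ₀ JA Ji hle ⟶ (Functor.const J).obj F where
  app j := Dιapp ψ₀ JA Ji hle j
  naturality j j' h := by
    rw [← cancel_epi (Dπ ψ₀ JA Ji hle j)]
    show Dπ ψ₀ JA Ji hle j ≫ (Dfun ψ₀ JA Ji hle).map h ≫ Dιapp ψ₀ JA Ji hle j' =
      Dπ ψ₀ JA Ji hle j ≫ Dιapp ψ₀ JA Ji hle j ≫ 𝟙 F
    rw [Category.comp_id, Dπ_ιapp, Dπ_map_assoc, Dπ_ιapp]

theorem epi_Dfun_map {j j' : J} (h : j ⟶ j') : Epi ((Dfun ψ₀ JA Ji hle).map h) :=
  epi_of_epi_fac (Dπ_map ψ₀ JA Ji hle h)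

/-- The cocone is a colimit cocone. -/
noncomputable def DisColimit [Epi ψ₀] [IsDirected J (· ≤ ·)] [Nonempty J]
    (hex : ∀ (W : X.Opens) (z : Γ(kernel ψ₀, W)) (x : X), x ∈ W →
      ∃ (W' : X.Opens) (hW' : W' ≤ W) (j : J) (z' : Γ(JA j, W')), x ∈ W' ∧
        ap (Ji j) W' z' = rF (kernel ψ₀) hW' z) :
    IsColimit (Cocone.mk F (Dι ψ₀ JA Ji hle)) := by
  have hindep : ∀ (c : Cocone (Dfun ψ₀ JA Ji hle)) (j j' : J),
      Dπ ψ₀ JA Ji hle j ≫ c.ι.app j = Dπ ψ₀ JA Ji hle j' ≫ c.ι.app j' := by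
    intro c j j'
    obtain ⟨j'', h1, h2⟩ := exists_ge_ge j j'
    have e1 := c.w (homOfLE h1)
    have e2 := c.w (homOfLE h2)
    rw [← e1, ← e2, Dπ_map_assoc, Dπ_map_assoc]
  have hkg : ∀ (c : Cocone (Dfun ψ₀ JA Ji hle)) (j : J),
      kernel.ι ψ₀ ≫ Dπ ψ₀ JA Ji hle j ≫ c.ι.app j = 0 := by
    intro c j
    refine Scheme.Modules.hom_ext _ _ (fun W => ?_)
    refine ConcreteCategory.hom_ext _ _ (fun z => ?_)
    show ap (kernel.ι ψ₀ ≫ Dπ ψ₀ JA Ji hle j ≫ c.ι.app j) W z = 0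
    apply eq_zero_of_cover c.pt
    intro x hx
    obtain ⟨W', hW', j', z', hxW', hz'⟩ := hex W z x hx
    refine ⟨W', hW', hxW', ?_⟩
    rw [← ap_rF, ← hz', hindep c j j']
    show ap (c.ι.app j') W' (ap (Dπ ψ₀ JA Ji hle j') W'
      (ap (kernel.ι ψ₀) W' (ap (Ji j') W' z'))) = 0
    have h0 : ap (Dπ ψ₀ JA Ji hle j') W' (ap (kernel.ι ψ₀) W' (ap (Ji j') W' z')) = 0 :=
      congrArg (fun χ : JA j' ⟶ (Dfun ψ₀ JA Ji hle).obj j' => ap χ W' z')
        (Dπ_zero ψ₀ JA Ji hle j')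
    rw [h0, map_zero]
  let j₀ : J := Classical.arbitrary J
  exact
    { desc := fun c => Abelian.epiDesc ψ₀ (Dπ ψ₀ JA Ji hle j₀ ≫ c.ι.app j₀) (hkg c j₀)
      fac := fun c j => by
        rw [← cancel_epi (Dπ ψ₀ JA Ji hle j)]
        show Dπ ψ₀ JA Ji hle j ≫ Dιapp ψ₀ JA Ji hle j ≫ _ = _
        rw [Dπ_ιapp_assoc, Abelian.comp_epiDesc]
        exact hindep c j₀ j
      uniq := fun c m hm => by
        rw [← cancel_epi ψ₀, Abelian.comp_epiDesc]
        have h2 : Dιapp ψ₀ JA Ji hle j₀ ≫ m = c.ι.app j₀ := hm j₀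
        rw [← h2, Dπ_ιapp_assoc] }

end Colim

section Main

/-- The pointwise order on families of submodules. -/
instance subFamPartialOrder (P : X.Modules) : PartialOrder (SubFam P) where
  le S S' := ∀ O, S.S O ≤ S'.S O
  le_refl S O := le_rfl
  le_trans S S' S'' h h' O := (h O).trans (h' O)
  le_antisymm S S' h h' := by
    cases S
    cases S'
    congr
    funext O
    exact le_antisymm (h O) (h' O)

/-- The family is the image of a finite type quasi-coherent submodule. -/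
def FtPred {N : X.Modules} (S : SubFam N) : Prop :=
  ∃ (A : X.Modules) (i : A ⟶ N), Mono i ∧ A.IsQuasicoherent ∧
    SheafOfModules.IsFiniteType (R := X.ringCatSheaf) A ∧
    ∀ (O : X.Opens) (s : Γ(N, O)), s ∈ S.S O ↔ ∃ z, ap i O z = s

theorem ftPred_ofMono {N A : X.Modules} (i : A ⟶ N) [Mono i] [A.IsQuasicoherent]
    (hft : SheafOfModules.IsFiniteType (R := X.ringCatSheaf) A) : FtPred (SubFam.ofMono i) :=
  ⟨A, i, inferInstance, inferInstance, hft, fun _ _ => Iff.rfl⟩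

theorem exists_ftPred_sup {N : X.Modules} [N.IsQuasicoherent] {S S' : SubFam N} (h : FtPred S)
    (h' : FtPred S') : ∃ S'' : SubFam N, FtPred S'' ∧ S ≤ S'' ∧ S' ≤ S'' := by
  obtain ⟨A, i, hm, hq, hft, hmem⟩ := h
  obtain ⟨A', i', hm', hq', hft', hmem'⟩ := h'
  haveI := hm
  haveI := hq
  haveI := hft
  haveI := hm'
  haveI := hq'
  haveI := hft'
  let d : A ⊞ A' ⟶ N := biprod.desc i i'
  haveI hbq : (A ⊞ A').IsQuasicoherent := CohOpenH8.isQuasicoherent_biprod A A'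
  haveI hmono : Mono (Abelian.factorThruCoimage d) :=
    inferInstanceAs (Mono (Abelian.factorThruCoimage d))
  haveI hepi : Epi (Abelian.coimage.π d) := inferInstanceAs (Epi (cokernel.π (kernel.ι d)))
  haveI hcq : (Abelian.coimage d).IsQuasicoherent := SubExt.isQuasicoherent_coimage d
  have hcft : SheafOfModules.IsFiniteType (R := X.ringCatSheaf) (Abelian.coimage d) := by
    refine QCohCrit.isFiniteType_of_sections_cover (Abelian.coimage d)
      (fun U : X.affineOpens => U.1) (fun U => U.2) (iSup_affineOpens_eq_top X) (fun U => ?_)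
    haveI : Module.Finite Γ(X, U.1) Γ(A, U.1) := QCohFT.finite_of_isFiniteType A U.2
    haveI : Module.Finite Γ(X, U.1) Γ(A', U.1) := QCohFT.finite_of_isFiniteType A' U.2
    haveI : Module.Finite Γ(X, U.1) Γ(A ⊞ A', U.1) :=
      Module.Finite.equiv (biprodSectionsEquiv A A' U.1).symm
    let p : Γ(A ⊞ A', U.1) →ₗ[Γ(X, U.1)] Γ(Abelian.coimage d, U.1) :=
      { toFun := ap (Abelian.coimage.π d) U.1, map_add' := map_add _,
        map_smul' := fun r m => ap_smul (Abelian.coimage.π d) r m }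
    have hp : Function.Surjective p := QCohExact.app_surjective_of_epi (Abelian.coimage.π d) U.2
    exact Module.Finite.of_surjective p hp
  refine ⟨SubFam.ofMono (Abelian.factorThruCoimage d), ftPred_ofMono _ hcft, ?_, ?_⟩
  · intro O s hs
    obtain ⟨z, rfl⟩ := (hmem O s).mp hs
    refine ⟨ap (Abelian.coimage.π d) O (ap (biprod.inl : A ⟶ A ⊞ A') O z), ?_⟩
    have e : biprod.inl ≫ Abelian.coimage.π d ≫ Abelian.factorThruCoimage d = i := by
      rw [Abelian.coimage.fac]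
      exact biprod.inl_desc i i'
    exact congrArg (fun χ : A ⟶ N => ap χ O z) e
  · intro O s hs
    obtain ⟨z, rfl⟩ := (hmem' O s).mp hs
    refine ⟨ap (Abelian.coimage.π d) O (ap (biprod.inr : A' ⟶ A ⊞ A') O z), ?_⟩
    have e : biprod.inr ≫ Abelian.coimage.π d ≫ Abelian.factorThruCoimage d = i' := by
      rw [Abelian.coimage.fac]
      exact biprod.inr_desc i i'
    exact congrArg (fun χ : A' ⟶ N => ap χ O z) e

/-- The index poset: images of finite type quasi-coherent submodules of `N`. -/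
def FtSubs (N : X.Modules) : Type u := {S : SubFam N // FtPred S}

instance (N : X.Modules) : PartialOrder (FtSubs N) := Subtype.partialOrder _

variable [CompactSpace X] [QuasiSeparatedSpace X]

/-- **Stacks 01PJ (finite type case)**: on a qcqs scheme, a quasi-coherent module of finite type
is a directed colimit of finitely presented modules with surjective transition maps. -/
theorem exists_directed_colimit_fp_epi (F : X.Modules) [F.IsQuasicoherent]
    (hF : SheafOfModules.IsFiniteType (R := X.ringCatSheaf) F) :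
    ∃ (J : Type u) (_ : PartialOrder J) (_ : IsDirected J (· ≤ ·)) (_ : Nonempty J)
      (D : J ⥤ X.Modules) (ι : D ⟶ (Functor.const J).obj F),
      Nonempty (IsColimit (Cocone.mk F ι)) ∧
      (∀ j, SheafOfModules.IsFinitePresentation (R := X.ringCatSheaf) (D.obj j)) ∧
      ∀ (j j' : J) (h : j ⟶ j'), Epi (D.map h) := by
  obtain ⟨G₀, ψ₀, hG₀, hG₀fp, hepi⟩ := exists_fp_epi F hF
  haveI := hG₀
  haveI := hG₀fp
  haveI := hepi
  haveI hN : (kernel ψ₀).IsQuasicoherent := SubExt.isQuasicoherent_kernel ψ₀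
  have hJ : ∀ S : FtSubs (kernel ψ₀), ∃ (A : X.Modules) (i : A ⟶ kernel ψ₀), Mono i ∧
      A.IsQuasicoherent ∧ SheafOfModules.IsFiniteType (R := X.ringCatSheaf) A ∧
      ∀ (O : X.Opens) (s : Γ(kernel ψ₀, O)), s ∈ S.1.S O ↔ ∃ z, ap i O z = s := fun S => S.2
  choose JA Ji hmono hq hft hmem using hJ
  have hle : ∀ j j' : FtSubs (kernel ψ₀), j ≤ j' → ∀ (W : X.Opens) (z : Γ(JA j, W)),
      ∃ z' : Γ(JA j', W), ap (Ji j') W z' = ap (Ji j) W z := by
    intro j j' h W z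
    exact (hmem j' W _).mp (h W ((hmem j W _).mpr ⟨z, rfl⟩))
  haveI hdir : IsDirected (FtSubs (kernel ψ₀)) (· ≤ ·) := ⟨fun a b => by
    obtain ⟨S'', hS'', h1, h2⟩ := exists_ftPred_sup a.2 b.2
    exact ⟨⟨S'', hS''⟩, h1, h2⟩⟩
  haveI hne : Nonempty (FtSubs (kernel ψ₀)) := by
    obtain ⟨K', i, hi, hK', hK'ft, -⟩ := SubExt.exists_ft_sub (kernel ψ₀) ⊥ (by simp)
      (fun x hx => absurd hx (by simp))
    haveI := hi
    haveI := hK'
    exact ⟨⟨SubFam.ofMono i, ftPred_ofMono i hK'ft⟩⟩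
  have hex : ∀ (W : X.Opens) (z : Γ(kernel ψ₀, W)) (x : X), x ∈ W →
      ∃ (W' : X.Opens) (hW' : W' ≤ W) (j : FtSubs (kernel ψ₀)) (z' : Γ(JA j, W')), x ∈ W' ∧
        ap (Ji j) W' z' = rF (kernel ψ₀) hW' z := by
    intro W z x hx
    obtain ⟨W', hW'aff, hxW', hW'W⟩ := Opens.isBasis_iff_nbhd.mp X.isBasis_affineOpens hx
    obtain ⟨A, i, hi, hA, hAft, g, hg⟩ :=
      SubExt.exists_ft_sub_section (kernel ψ₀) hW'aff (rF (kernel ψ₀) hW'W z)
    haveI := hi
    haveI := hA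
    let j : FtSubs (kernel ψ₀) := ⟨SubFam.ofMono i, ftPred_ofMono i hAft⟩
    obtain ⟨z', hz'⟩ := (hmem j W' _).mp
      (show rF (kernel ψ₀) hW'W z ∈ (SubFam.ofMono i).S W' from ⟨g, hg⟩)
    exact ⟨W', hW'W, j, z', hxW', hz'⟩
  refine ⟨FtSubs (kernel ψ₀), inferInstance, hdir, hne, Dfun ψ₀ JA Ji hle, Dι ψ₀ JA Ji hle,
    ⟨DisColimit ψ₀ JA Ji hle hex⟩, ?_, ?_⟩
  · intro j
    haveI := hmono j
    haveI := hq j
    haveI := hft j
    haveI : Mono (Ji j ≫ kernel.ι ψ₀) := mono_comp _ _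
    exact (cokernel_ft_fp (Ji j ≫ kernel.ι ψ₀)).2
  · intro j j' h
    exact epi_Dfun_map ψ₀ JA Ji hle h

end Main

end Groth.Agent.Lib.FPExtH2
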