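import Mathlib
import Groth.Prelude.Def_CohB1
import Groth.Agent.Lib.FPExt5_helper2
import Groth.Agent.Lib.BMod1_helper6

/-!
# A criterion for directed colimits of `O_X`-modules, finite biproducts of finitely presented
modules, images of finite type modules
-/

universe u

open CategoryTheory CategoryTheory.Limits AlgebraicGeometry Opposite TopologicalSpace Scheme.Modules
open Groth.Agent.Lib.QCohLoc_helper4 QcqsLoc QCohExtn
open Groth.Agent.Lib.SubFamH2

namespace Groth.Agent.Lib.FPExtH2

variable {X : Scheme.{u}}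

section Criterion

variable {J : Type u} [Preorder J] [IsDirected J (· ≤ ·)] [Nonempty J] (D : J ⥤ X.Modules)

theorem leg_push {C : X.Modules} (ℓ : ∀ j, D.obj j ⟶ C)
    (hℓ : ∀ (j j' : J) (h : j ≤ j'), D.map (homOfLE h) ≫ ℓ j' = ℓ j) {j j' : J} (h : j ≤ j')
    (O : X.Opens) (y : Γ(D.obj j, O)) :
    ap (ℓ j') O (ap (D.map (homOfLE h)) O y) = ap (ℓ j) O y :=
  congrArg (fun χ : D.obj j ⟶ C => ap χ O y) (hℓ j j' h)

/-- The sections of the vertex of a cocone which are locally in the image of a leg. -/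
def legFam {C : X.Modules} (ℓ : ∀ j, D.obj j ⟶ C)
    (hℓ : ∀ (j j' : J) (h : j ≤ j'), D.map (homOfLE h) ≫ ℓ j' = ℓ j) : SubFam C where
  S O :=
    { carrier := {s | ∀ x ∈ O, ∃ (O' : X.Opens) (h : O' ≤ O), x ∈ O' ∧
        ∃ (j : J) (y : Γ(D.obj j, O')), ap (ℓ j) O' y = rF C h s}
      zero_mem' := fun x hx =>
        ⟨O, le_rfl, hx, Classical.arbitrary J, 0, by rw [map_zero, map_zero]⟩
      add_mem' := by
        intro a b ha hb x hx
        obtain ⟨O₁, h₁, hx₁, j₁, y₁, e₁⟩ := ha x hx
        obtain ⟨O₂, h₂, hx₂, j₂, y₂, e₂⟩ := hb x hx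
        obtain ⟨j, hj₁, hj₂⟩ := exists_ge_ge j₁ j₂
        refine ⟨O₁ ⊓ O₂, inf_le_left.trans h₁, ⟨hx₁, hx₂⟩, j,
          ap (D.map (homOfLE hj₁)) (O₁ ⊓ O₂) (rF (D.obj j₁) inf_le_left y₁) +
            ap (D.map (homOfLE hj₂)) (O₁ ⊓ O₂) (rF (D.obj j₂) inf_le_right y₂), ?_⟩
        rw [map_add, map_add, leg_push D ℓ hℓ, leg_push D ℓ hℓ, ap_rF, ap_rF, e₁, e₂, rF_rF,
          rF_rF]
      smul_mem' := by
        intro r a ha x hx
        obtain ⟨O₁, h₁, hx₁, j₁, y₁, e₁⟩ := ha x hx
        refine ⟨O₁, h₁, hx₁, j₁, rX h₁ r • y₁, ?_⟩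
        rw [ap_smul, e₁, rF_smul] }
  res := by
    intro O' O h s hs x hx
    obtain ⟨O₁, h₁, hx₁, j₁, y₁, e₁⟩ := hs x (h hx)
    refine ⟨O₁ ⊓ O', inf_le_right, ⟨hx₁, hx⟩, j₁, rF (D.obj j₁) inf_le_left y₁, ?_⟩
    rw [ap_rF, e₁, rF_rF, rF_rF]
  loc := by
    intro O s hyp x hx
    obtain ⟨O', h, hx', hs'⟩ := hyp x hx
    obtain ⟨O₁, h₁, hx₁, j₁, y₁, e₁⟩ := hs' x hx'
    refine ⟨O₁, h₁.trans h, hx₁, j₁, y₁, ?_⟩
    rw [e₁, rF_rF]

/-- Every section of a directed colimit of `O_X`-modules is locally in the image of a leg. -/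
theorem legFam_colimit {W : X.Opens} (z : Γ(colimit D, W)) :
    z ∈ (legFam D (fun j => colimit.ι D j) (fun j j' h => colimit.w D (homOfLE h))).S W := by
  let T : SubFam (colimit D) :=
    legFam D (fun j => colimit.ι D j) (fun j j' h => colimit.w D (homOfLE h))
  have hmem : ∀ (j : J) (O : X.Opens) (y : Γ(D.obj j, O)), ap (colimit.ι D j) O y ∈ T.S O := by
    intro j O y x hx
    exact ⟨O, le_rfl, hx, j, y, (SubExt.rF_self _ _ _).symm⟩
  have hvan : ∀ j : J, colimit.ι D j ≫ cokernel.π T.ι = 0 := by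
    intro j
    refine Scheme.Modules.hom_ext _ _ (fun O => ?_)
    refine ConcreteCategory.hom_ext _ _ (fun y => ?_)
    obtain ⟨z', hz'⟩ := (T.mem_range_ι _).2 (hmem j O y)
    show ap (cokernel.π T.ι) O (ap (colimit.ι D j) O y) = 0
    rw [← hz']
    exact congrArg (fun χ : T.obj ⟶ cokernel T.ι => ap χ O z') (cokernel.condition T.ι)
  let ℓ : ∀ j : J, D.obj j ⟶ T.obj := fun j => Abelian.monoLift T.ι (colimit.ι D j) (hvan j)
  have hℓ : ∀ j : J, ℓ j ≫ T.ι = colimit.ι D j := fun j => Abelian.monoLift_comp _ _ _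
  let c' : Cocone D :=
    { pt := T.obj
      ι :=
        { app := ℓ
          naturality := fun j j' f => by
            rw [← cancel_mono T.ι]
            show (D.map f ≫ ℓ j') ≫ T.ι = (ℓ j ≫ 𝟙 T.obj) ≫ T.ι
            rw [Category.comp_id, Category.assoc, hℓ, hℓ, colimit.w] } }
  let v : colimit D ⟶ T.obj := colimit.desc D c'
  have hv : v ≫ T.ι = 𝟙 (colimit D) := by
    refine colimit.hom_ext (fun j => ?_)
    rw [colimit.ι_desc_assoc, Category.comp_id]
    exact hℓ j
  have hz : ap T.ι W (ap v W z) = z :=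
    congrArg (fun χ : colimit D ⟶ colimit D => ap χ W z) hv
  rw [← hz]
  exact T.ι_mem W _

/-- **Criterion for directed colimits**: a cocone over a directed diagram of `O_X`-modules is a
colimit cocone as soon as every local section of the vertex is locally in the image of a leg and
every local section of a term killed by the leg is locally killed by a transition map. -/
theorem isColimit_of_directed (c : Cocone D)
    (hE : ∀ (W : X.Opens) (t : Γ(c.pt, W)) (x : X), x ∈ W →
      ∃ (W' : X.Opens) (hW' : W' ≤ W) (j : J) (y : Γ(D.obj j, W')), x ∈ W' ∧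
        ap (c.ι.app j) W' y = rF c.pt hW' t)
    (hM : ∀ (j : J) (W : X.Opens) (y : Γ(D.obj j, W)), ap (c.ι.app j) W y = 0 → ∀ x ∈ W,
      ∃ (W' : X.Opens) (hW' : W' ≤ W) (j' : J) (h : j ≤ j'), x ∈ W' ∧
        ap (D.map (homOfLE h)) W' (rF (D.obj j) hW' y) = 0) :
    Nonempty (IsColimit c) := by
  let u : colimit D ⟶ c.pt := colimit.desc D c
  have hu : ∀ (j : J) (O : X.Opens) (y : Γ(D.obj j, O)),
      ap u O (ap (colimit.ι D j) O y) = ap (c.ι.app j) O y := fun j O y =>
    congrArg (fun χ : D.obj j ⟶ c.pt => ap χ O y) (colimit.ι_desc c j)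
  haveI hepi : Epi u := by
    refine TensH8.epi_of_locally_surjective u (fun U m x hx => ?_)
    obtain ⟨W', hW', j, y, hxW', e⟩ := hE U m x hx
    exact ⟨W', hW', hxW', ap (colimit.ι D j) W' y, (hu j W' y).trans e⟩
  haveI hmono : Mono u := by
    refine SubFam.mono_of_app_injective u (fun W => ?_)
    refine (injective_iff_map_eq_zero (ap u W)).2 (fun z hz => ?_)
    apply eq_zero_of_cover (colimit D)
    intro x hx
    obtain ⟨O', h, hx', j, y, e⟩ := legFam_colimit D z x hx
    have e' : ap (colimit.ι D j) O' y = rF (colimit D) h z := e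
    have h0 : ap (c.ι.app j) O' y = 0 := by
      rw [← hu j O' y, e', ap_rF, hz, map_zero]
    obtain ⟨W', hW', j', hjj', hxW', e''⟩ := hM j O' y h0 x hx'
    refine ⟨W', hW'.trans h, hxW', ?_⟩
    have h1' : ap (colimit.ι D j') W' (ap (D.map (homOfLE hjj')) W' (rF (D.obj j) hW' y)) =
        ap (colimit.ι D j) W' (rF (D.obj j) hW' y) :=
      leg_push D (fun j => colimit.ι D j) (fun j j' h => colimit.w D (homOfLE h)) hjj' W'
        (rF (D.obj j) hW' y)
    rw [← rF_rF (colimit D) hW' h z, ← e', ← ap_rF, ← h1', e'', map_zero]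
  haveI : IsIso u := isIso_of_mono_of_epi u
  exact ⟨IsColimit.ofIsoColimit (colimit.isColimit D)
    (Cocones.ext (asIso u) (fun j => colimit.ι_desc c j))⟩

end Criterion

section Biproduct

variable {ι : Type u} [Fintype ι]

/-- Evaluation of morphisms at a section, as an additive map. -/
noncomputable def evalHom (A B : X.Modules) (W : X.Opens) (s : Γ(A, W)) : (A ⟶ B) →+ Γ(B, W) where
  toFun χ := ap χ W s
  map_zero' := rfl
  map_add' _ _ := rfl

theorem ap_sum {A B : X.Modules} {κ : Type*} (t : Finset κ) (χ : κ → (A ⟶ B)) (W : X.Opens)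
    (s : Γ(A, W)) : ap (∑ j ∈ t, χ j) W s = ∑ j ∈ t, ap (χ j) W s :=
  map_sum (evalHom A B W s) χ t

theorem biproduct_total_apply (f : ι → X.Modules) (W : X.Opens) (s : Γ(⨁ f, W)) :
    ∑ j, ap (biproduct.ι f j) W (ap (biproduct.π f j) W s) = s := by
  have h := congrArg (fun χ : ⨁ f ⟶ ⨁ f => ap χ W s) (IsBilimit.total (biproduct.isBilimit f))
  exact (ap_sum Finset.univ (fun j => biproduct.π f j ≫ biproduct.ι f j) W s).symm.trans h

/-- Sections of a finite biproduct. -/
noncomputable def biproductSectionsEquiv (f : ι → X.Modules) (W : X.Opens) :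
    Γ(⨁ f, W) ≃ₗ[Γ(X, W)] (∀ j, Γ(f j, W)) where
  toFun s j := ap (biproduct.π f j) W s
  map_add' s t := by
    funext j
    exact map_add _ _ _
  map_smul' r s := by
    funext j
    exact ap_smul _ r s
  invFun p := ∑ j, ap (biproduct.ι f j) W (p j)
  left_inv s := biproduct_total_apply f W s
  right_inv p := by
    classical
    funext k
    show ap (biproduct.π f k) W (∑ j, ap (biproduct.ι f j) W (p j)) = p k
    rw [map_sum, Finset.sum_eq_single k]
    · exact congrArg (fun χ : f k ⟶ f k => ap χ W (p k)) (biproduct.ι_π_self f k)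
    · intro j _ hjk
      exact congrArg (fun χ : f j ⟶ f k => ap χ W (p j)) (biproduct.ι_π_ne f hjk)
    · intro h
      exact absurd (Finset.mem_univ k) h

theorem isQuasicoherent_biproduct (f : ι → X.Modules) (h : ∀ j, (f j).IsQuasicoherent) :
    (⨁ f).IsQuasicoherent := by
  haveI := h
  exact (SheafOfModules.isQuasicoherent X.ringCatSheaf).prop_of_iso (biproduct.isoCoproduct f).symm
    (BModH6.isQuasicoherent_sigma f)

theorem isFinitePresentation_biproduct (f : ι → X.Modules)
    (h : ∀ j, SheafOfModules.IsFinitePresentation (R := X.ringCatSheaf) (f j)) :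
    (⨁ f).IsQuasicoherent ∧
      SheafOfModules.IsFinitePresentation (R := X.ringCatSheaf) (⨁ f : X.Modules) := by
  haveI := h
  haveI hq : (⨁ f).IsQuasicoherent := isQuasicoherent_biproduct f (fun j => inferInstance)
  refine ⟨hq, QCohFP.isFinitePresentation_of_sections (⨁ f) (fun U => ?_)⟩
  haveI : ∀ j, Module.FinitePresentation Γ(X, (U : X.Opens)) Γ(f j, (U : X.Opens)) := fun j =>
    QCohFP2.finitePresentation_of_isFinitePresentation (f j) U.2
  exact Module.FinitePresentation.of_equiv (biproductSectionsEquiv f U).symm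

end Biproduct

section Image

/-- The image of a morphism from a finite type quasi-coherent module is (the family of sections
of) a finite type quasi-coherent submodule, and it is the smallest family containing the image. -/
theorem exists_ftPred_image {B N : X.Modules} [B.IsQuasicoherent] [N.IsQuasicoherent] (d : B ⟶ N)
    (hB : ∀ U : X.affineOpens, Module.Finite Γ(X, U.1) Γ(B, U.1)) :
    ∃ S : SubFam N, FtPred S ∧ (∀ (O : X.Opens) (z : Γ(B, O)), ap d O z ∈ S.S O) ∧
      ∀ R : SubFam N, (∀ (O : X.Opens) (z : Γ(B, O)), ap d O z ∈ R.S O) → S ≤ R := by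
  haveI hmono : Mono (Abelian.factorThruCoimage d) :=
    inferInstanceAs (Mono (Abelian.factorThruCoimage d))
  haveI hepi : Epi (Abelian.coimage.π d) := inferInstanceAs (Epi (cokernel.π (kernel.ι d)))
  haveI hcq : (Abelian.coimage d).IsQuasicoherent := SubExt.isQuasicoherent_coimage d
  have hsurj : ∀ U : X.Opens, IsAffineOpen U → Function.Surjective (ap (Abelian.coimage.π d) U) :=
    fun U hU => QCohExact.app_surjective_of_epi (Abelian.coimage.π d) hU
  have hcft : SheafOfModules.IsFiniteType (R := X.ringCatSheaf) (Abelian.coimage d) := by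
    refine QCohCrit.isFiniteType_of_sections_cover (Abelian.coimage d)
      (fun U : X.affineOpens => U.1) (fun U => U.2) (iSup_affineOpens_eq_top X) (fun U => ?_)
    haveI := hB U
    let p : Γ(B, U.1) →ₗ[Γ(X, U.1)] Γ(Abelian.coimage d, U.1) :=
      { toFun := ap (Abelian.coimage.π d) U.1, map_add' := map_add _,
        map_smul' := fun r m => ap_smul (Abelian.coimage.π d) r m }
    exact Module.Finite.of_surjective p (hsurj U.1 U.2)
  have hfac : ∀ (O : X.Opens) (z : Γ(B, O)),
      ap (Abelian.factorThruCoimage d) O (ap (Abelian.coimage.π d) O z) = ap d O z := fun O z =>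
    congrArg (fun χ : B ⟶ N => ap χ O z) (Abelian.coimage.fac d)
  refine ⟨SubFam.ofMono (Abelian.factorThruCoimage d), ftPred_ofMono _ hcft, ?_, ?_⟩
  · intro O z
    exact ⟨ap (Abelian.coimage.π d) O z, hfac O z⟩
  · intro R hR O s hs
    obtain ⟨w, rfl⟩ := hs
    apply R.loc
    intro x hx
    obtain ⟨O', hO'aff, hxO', hO'O⟩ := Opens.isBasis_iff_nbhd.mp X.isBasis_affineOpens hx
    obtain ⟨z, hz⟩ := hsurj O' hO'aff (rF (Abelian.coimage d) hO'O w)
    refine ⟨O', hO'O, hxO', ?_⟩
    rw [← ap_rF, ← hz, hfac]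
    exact hR O' z

/-- Finiteness of the sections of a binary biproduct of finite type quasi-coherent modules. -/
theorem finite_biprod_sections (A A' : X.Modules) [A.IsQuasicoherent] [A'.IsQuasicoherent]
    (hA : SheafOfModules.IsFiniteType (R := X.ringCatSheaf) A)
    (hA' : SheafOfModules.IsFiniteType (R := X.ringCatSheaf) A') (U : X.affineOpens) :
    Module.Finite Γ(X, U.1) Γ(A ⊞ A', U.1) := by
  haveI : Module.Finite Γ(X, U.1) Γ(A, U.1) := QCohFT.finite_of_isFiniteType A U.2
  haveI : Module.Finite Γ(X, U.1) Γ(A', U.1) := QCohFT.finite_of_isFiniteType A' U.2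
  exact Module.Finite.equiv (biprodSectionsEquiv A A' U.1).symm

end Image

end Groth.Agent.Lib.FPExtH2
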