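import Mathlib
import Groth.Prelude.Def_CohB1
import Groth.Agent.Lib.FPExt6_helper2

/-!
# A quasi-coherent module on a qcqs scheme is a directed colimit of finitely presented modules
(Stacks 01PJ, first part)
-/

universe u

open CategoryTheory CategoryTheory.Limits AlgebraicGeometry Opposite TopologicalSpace Scheme.Modules
open Groth.Agent.Lib.QCohLoc_helper4 QcqsLoc QCohExtn
open Groth.Agent.Lib.SubFamH2

namespace Groth.Agent.Lib.FPExtH2

variable {X : Scheme.{u}}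

section Construction

variable [CompactSpace X] [QuasiSeparatedSpace X] (F : X.Modules) [F.IsQuasicoherent]

/-- Index of the basic approximations: a section of `F` over an affine open. -/
abbrev I₀ (F : X.Modules) : Type u := Σ V : X.affineOpens, Γ(F, V.1)

theorem exists_G₀ (e : I₀ F) : ∃ (G : X.Modules) (ψ : G ⟶ F), G.IsQuasicoherent ∧
    SheafOfModules.IsFinitePresentation (R := X.ringCatSheaf) G ∧
    ∃ s : Γ(G, e.1.1), ap ψ e.1.1 s = e.2 := by
  classical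
  obtain ⟨G, ψ, h1, h2, h3⟩ := exists_fp_hitting F e.1.2 {e.2}
  exact ⟨G, ψ, h1, h2, h3 e.2 (Finset.mem_singleton_self _)⟩

/-- A finitely presented module hitting the given section. -/
noncomputable def G₀ (e : I₀ F) : X.Modules := (exists_G₀ F e).choose

/-- The map to `F`. -/
noncomputable def ψ₀ (e : I₀ F) : G₀ F e ⟶ F := (exists_G₀ F e).choose_spec.choose

instance G₀_qc (e : I₀ F) : (G₀ F e).IsQuasicoherent :=
  (exists_G₀ F e).choose_spec.choose_spec.1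

instance G₀_fp (e : I₀ F) :
    SheafOfModules.IsFinitePresentation (R := X.ringCatSheaf) (G₀ F e) :=
  (exists_G₀ F e).choose_spec.choose_spec.2.1

theorem ψ₀_hit (e : I₀ F) : ∃ s : Γ(G₀ F e, e.1.1), ap (ψ₀ F e) e.1.1 s = e.2 :=
  (exists_G₀ F e).choose_spec.choose_spec.2.2

/-- The finite direct sums of basic approximations. -/
noncomputable def GT (T : Finset (I₀ F)) : X.Modules := ⨁ (fun e : ↥T => G₀ F e.1)

/-- The map to `F`. -/
noncomputable def ψT (T : Finset (I₀ F)) : GT F T ⟶ F :=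
  biproduct.desc (fun e : ↥T => ψ₀ F e.1)

/-- The inclusion of a summand. -/
noncomputable def ιT (T : Finset (I₀ F)) (e : ↥T) : G₀ F e.1 ⟶ GT F T :=
  biproduct.ι (fun e : ↥T => G₀ F e.1) e

@[reassoc]
theorem ιT_ψT (T : Finset (I₀ F)) (e : ↥T) : ιT F T e ≫ ψT F T = ψ₀ F e.1 :=
  biproduct.ι_desc _ _

theorem GT_hom_ext {T : Finset (I₀ F)} {Z : X.Modules} (a b : GT F T ⟶ Z)
    (h : ∀ e, ιT F T e ≫ a = ιT F T e ≫ b) : a = b :=
  biproduct.hom_ext' _ _ h

theorem GT_fp (T : Finset (I₀ F)) : (GT F T).IsQuasicoherent ∧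
    SheafOfModules.IsFinitePresentation (R := X.ringCatSheaf) (GT F T) :=
  isFinitePresentation_biproduct (fun e : ↥T => G₀ F e.1) (fun e => G₀_fp F e.1)

instance GT_qc (T : Finset (I₀ F)) : (GT F T).IsQuasicoherent := (GT_fp F T).1

instance GT_fp' (T : Finset (I₀ F)) :
    SheafOfModules.IsFinitePresentation (R := X.ringCatSheaf) (GT F T) := (GT_fp F T).2

/-- The transition maps. -/
noncomputable def incl {T T' : Finset (I₀ F)} (h : T ⊆ T') : GT F T ⟶ GT F T' :=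
  biproduct.desc (fun e : ↥T => ιT F T' ⟨e.1, h e.2⟩)

@[reassoc]
theorem ιT_incl {T T' : Finset (I₀ F)} (h : T ⊆ T') (e : ↥T) :
    ιT F T e ≫ incl F h = ιT F T' ⟨e.1, h e.2⟩ :=
  biproduct.ι_desc _ _

@[reassoc]
theorem incl_ψT {T T' : Finset (I₀ F)} (h : T ⊆ T') : incl F h ≫ ψT F T' = ψT F T := by
  refine GT_hom_ext F _ _ (fun e => ?_)
  rw [ιT_incl_assoc, ιT_ψT, ιT_ψT]

theorem incl_refl {T : Finset (I₀ F)} (h : T ⊆ T) : incl F h = 𝟙 (GT F T) := by
  refine GT_hom_ext F _ _ (fun e => ?_)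
  rw [ιT_incl, Category.comp_id]

@[reassoc]
theorem incl_trans {T T' T'' : Finset (I₀ F)} (h : T ⊆ T') (h' : T' ⊆ T'') :
    incl F h ≫ incl F h' = incl F (h.trans h') := by
  refine GT_hom_ext F _ _ (fun e => ?_)
  rw [ιT_incl_assoc, ιT_incl, ιT_incl]

/-- The index set of the canonical diagram: a finite set `T` of basic approximations and a
finite type quasi-coherent subfamily of `⨁_{e ∈ T} G_e` contained in the kernel of the map to
`F`. -/
structure Jdx where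
  T : Finset (I₀ F)
  S : SubFam (GT F T)
  ft : FtPred S
  le_ker : S ≤ SubFam.ker (ψT F T)

instance : Preorder (Jdx F) where
  le a b := ∃ h : a.T ⊆ b.T, ∀ (O : X.Opens) (s : Γ(GT F a.T, O)), s ∈ a.S.S O →
    ap (incl F h) O s ∈ b.S.S O
  le_refl a := ⟨subset_rfl, fun O s hs => by
    rw [incl_refl]
    exact hs⟩
  le_trans a b c hab hbc := by
    obtain ⟨h, H⟩ := hab
    obtain ⟨h', H'⟩ := hbc
    refine ⟨h.trans h', fun O s hs => ?_⟩
    rw [← incl_trans F h h']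
    exact H' O _ (H O s hs)

theorem exists_KT (T : Finset (I₀ F)) : ∃ a : Jdx F, a.T = T := by
  haveI hN : (kernel (ψT F T)).IsQuasicoherent := SubExt.isQuasicoherent_kernel (ψT F T)
  obtain ⟨K', i, hi, hK', hK'ft, -⟩ := SubExt.exists_ft_sub (kernel (ψT F T)) ⊥ (by simp)
    (fun x hx => absurd hx (by simp))
  haveI := hi
  haveI := hK'
  haveI : Mono (i ≫ kernel.ι (ψT F T)) := mono_comp _ _
  refine ⟨⟨T, SubFam.ofMono (i ≫ kernel.ι (ψT F T)), ftPred_ofMono _ hK'ft, ?_⟩, rfl⟩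
  rintro O s ⟨z, rfl⟩
  show ap (ψT F T) O (ap (i ≫ kernel.ι (ψT F T)) O z) = 0
  have h0 : (i ≫ kernel.ι (ψT F T)) ≫ ψT F T = 0 := by
    rw [Category.assoc, kernel.condition, comp_zero]
  exact congrArg (fun χ : K' ⟶ F => ap χ O z) h0

theorem exists_upper {T' : Finset (I₀ F)} {B : X.Modules} [B.IsQuasicoherent] (d : B ⟶ GT F T')
    (hB : ∀ U : X.affineOpens, Module.Finite Γ(X, U.1) Γ(B, U.1)) (hd : d ≫ ψT F T' = 0) :
    ∃ S : SubFam (GT F T'), FtPred S ∧ S ≤ SubFam.ker (ψT F T') ∧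
      ∀ (O : X.Opens) (z : Γ(B, O)), ap d O z ∈ S.S O := by
  obtain ⟨S, hS, h1, h2⟩ := exists_ftPred_image d hB
  refine ⟨S, hS, h2 _ (fun O z => ?_), h1⟩
  show ap (ψT F T') O (ap d O z) = 0
  exact congrArg (fun χ : B ⟶ F => ap χ O z) hd

section Diagram

variable (JA : Jdx F → X.Modules) (Ji : ∀ a : Jdx F, JA a ⟶ GT F a.T)
  (hmem : ∀ (a : Jdx F) (O : X.Opens) (s : Γ(GT F a.T, O)),
    s ∈ a.S.S O ↔ ∃ z, ap (Ji a) O z = s)

include hmem in
theorem Ji_ψT (a : Jdx F) : Ji a ≫ ψT F a.T = 0 := by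
  refine Scheme.Modules.hom_ext _ _ (fun W => ?_)
  refine ConcreteCategory.hom_ext _ _ (fun z => ?_)
  show ap (ψT F a.T) W (ap (Ji a) W z) = 0
  exact a.le_ker W ((hmem a W _).2 ⟨z, rfl⟩)

include hmem in
theorem vanish2 {a b : Jdx F} (h : a.T ⊆ b.T)
    (H : ∀ (O : X.Opens) (s : Γ(GT F a.T, O)), s ∈ a.S.S O → ap (incl F h) O s ∈ b.S.S O) :
    Ji a ≫ incl F h ≫ cokernel.π (Ji b) = 0 := by
  refine Scheme.Modules.hom_ext _ _ (fun W => ?_)
  refine ConcreteCategory.hom_ext _ _ (fun z => ?_)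
  obtain ⟨z', hz'⟩ := (hmem b W _).1 (H W _ ((hmem a W _).2 ⟨z, rfl⟩))
  show ap (cokernel.π (Ji b)) W (ap (incl F h) W (ap (Ji a) W z)) = 0
  rw [← hz']
  exact congrArg (fun χ : JA b ⟶ cokernel (Ji b) => ap χ W z') (cokernel.condition (Ji b))

/-- The canonical diagram of finitely presented modules. -/
noncomputable def D2 : Jdx F ⥤ X.Modules where
  obj a := cokernel (Ji a)
  map {a b} f := cokernel.desc (Ji a) (incl F (leOfHom f).choose ≫ cokernel.π (Ji b))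
    (vanish2 F JA Ji hmem (leOfHom f).choose (leOfHom f).choose_spec)
  map_id a := by
    rw [← cancel_epi (cokernel.π (Ji a)), cokernel.π_desc, incl_refl, Category.id_comp,
      Category.comp_id]
  map_comp {a b c} f g := by
    rw [← cancel_epi (cokernel.π (Ji a)), cokernel.π_desc, cokernel.π_desc_assoc,
      Category.assoc, cokernel.π_desc, ← Category.assoc, incl_trans]

/-- The projection. -/
noncomputable def D2π (a : Jdx F) : GT F a.T ⟶ (D2 F JA Ji hmem).obj a := cokernel.π (Ji a)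

instance (a : Jdx F) : Epi (D2π F JA Ji hmem a) := inferInstanceAs (Epi (cokernel.π (Ji a)))

@[reassoc]
theorem D2π_map {a b : Jdx F} (h : a ≤ b) (h' : a.T ⊆ b.T) :
    D2π F JA Ji hmem a ≫ (D2 F JA Ji hmem).map (homOfLE h) = incl F h' ≫ D2π F JA Ji hmem b :=
  cokernel.π_desc _ _ _

theorem D2π_zero (a : Jdx F) : Ji a ≫ D2π F JA Ji hmem a = 0 := cokernel.condition _

/-- The leg. -/
noncomputable def D2ι (a : Jdx F) : (D2 F JA Ji hmem).obj a ⟶ F :=
  cokernel.desc (Ji a) (ψT F a.T) (Ji_ψT F JA Ji hmem a)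

@[reassoc]
theorem D2π_ι (a : Jdx F) : D2π F JA Ji hmem a ≫ D2ι F JA Ji hmem a = ψT F a.T :=
  cokernel.π_desc _ _ _

theorem D2_w {a b : Jdx F} (h : a ≤ b) :
    (D2 F JA Ji hmem).map (homOfLE h) ≫ D2ι F JA Ji hmem b = D2ι F JA Ji hmem a := by
  rw [← cancel_epi (D2π F JA Ji hmem a), D2π_map_assoc F JA Ji hmem h h.choose, D2π_ι, D2π_ι,
    incl_ψT]

/-- The cocone with vertex `F`. -/
noncomputable def D2c : Cocone (D2 F JA Ji hmem) where
  pt := F
  ι :=
    { app := fun a => D2ι F JA Ji hmem a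
      naturality := fun a b f => by
        have h1 := D2_w F JA Ji hmem (leOfHom f)
        show (D2 F JA Ji hmem).map f ≫ D2ι F JA Ji hmem b = D2ι F JA Ji hmem a ≫ 𝟙 F
        rw [Category.comp_id]
        exact h1 }

include hmem in
theorem directed2 (hq : ∀ a, (JA a).IsQuasicoherent)
    (hft : ∀ a, SheafOfModules.IsFiniteType (R := X.ringCatSheaf) (JA a)) (a b : Jdx F) :
    ∃ c : Jdx F, a ≤ c ∧ b ≤ c := by
  classical
  have h : a.T ⊆ a.T ∪ b.T := Finset.subset_union_left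
  have h' : b.T ⊆ a.T ∪ b.T := Finset.subset_union_right
  haveI := hq a
  haveI := hq b
  haveI : (JA a ⊞ JA b).IsQuasicoherent := CohOpenH8.isQuasicoherent_biprod _ _
  let d : JA a ⊞ JA b ⟶ GT F (a.T ∪ b.T) := biprod.desc (Ji a ≫ incl F h) (Ji b ≫ incl F h')
  have hd : d ≫ ψT F (a.T ∪ b.T) = 0 := by
    apply biprod.hom_ext'
    · rw [biprod.inl_desc_assoc, Category.assoc, incl_ψT, Ji_ψT F JA Ji hmem, comp_zero]
    · rw [biprod.inr_desc_assoc, Category.assoc, incl_ψT, Ji_ψT F JA Ji hmem, comp_zero]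
  obtain ⟨S, hS, hle, hcont⟩ :=
    exists_upper F d (finite_biprod_sections _ _ (hft a) (hft b)) hd
  refine ⟨⟨a.T ∪ b.T, S, hS, hle⟩, ⟨h, fun O s hs => ?_⟩, ⟨h', fun O s hs => ?_⟩⟩
  · obtain ⟨z, rfl⟩ := (hmem a O s).1 hs
    have e2 : ap d O (ap (biprod.inl : JA a ⟶ JA a ⊞ JA b) O z) =
        ap (incl F h) O (ap (Ji a) O z) :=
      congrArg (fun χ : JA a ⟶ GT F (a.T ∪ b.T) => ap χ O z)
        (biprod.inl_desc (Ji a ≫ incl F h) (Ji b ≫ incl F h'))
    rw [← e2]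
    exact hcont O _
  · obtain ⟨z, rfl⟩ := (hmem b O s).1 hs
    have e2 : ap d O (ap (biprod.inr : JA b ⟶ JA a ⊞ JA b) O z) =
        ap (incl F h') O (ap (Ji b) O z) :=
      congrArg (fun χ : JA b ⟶ GT F (a.T ∪ b.T) => ap χ O z)
        (biprod.inr_desc (Ji a ≫ incl F h) (Ji b ≫ incl F h'))
    rw [← e2]
    exact hcont O _

theorem D2_hE (W : X.Opens) (t : Γ(F, W)) (x : X) (hx : x ∈ W) :
    ∃ (W' : X.Opens) (hW' : W' ≤ W) (a : Jdx F) (y : Γ((D2 F JA Ji hmem).obj a, W')), x ∈ W' ∧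
      ap (D2ι F JA Ji hmem a) W' y = rF F hW' t := by
  classical
  obtain ⟨V, hVaff, hxV, hVW⟩ := Opens.isBasis_iff_nbhd.mp X.isBasis_affineOpens hx
  let e : I₀ F := ⟨⟨V, hVaff⟩, rF F hVW t⟩
  obtain ⟨a, ha⟩ := exists_KT F {e}
  have he : e ∈ a.T := by
    rw [ha]
    exact Finset.mem_singleton_self e
  obtain ⟨s₀, hs₀⟩ := ψ₀_hit F e
  refine ⟨V, hVW, a, ap (D2π F JA Ji hmem a) V (ap (ιT F a.T ⟨e, he⟩) V s₀), hxV, ?_⟩
  have e1 : ιT F a.T ⟨e, he⟩ ≫ D2π F JA Ji hmem a ≫ D2ι F JA Ji hmem a = ψ₀ F e := by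
    rw [D2π_ι, ιT_ψT]
  exact (congrArg (fun χ : G₀ F e ⟶ F => ap χ V s₀) e1).trans hs₀

include hmem in
theorem D2_hM (hmono : ∀ a, Mono (Ji a)) (hq : ∀ a, (JA a).IsQuasicoherent)
    (hft : ∀ a, SheafOfModules.IsFiniteType (R := X.ringCatSheaf) (JA a))
    (a : Jdx F) (W : X.Opens) (y : Γ((D2 F JA Ji hmem).obj a, W))
    (hy : ap (D2ι F JA Ji hmem a) W y = 0) (x : X) (hx : x ∈ W) :
    ∃ (W' : X.Opens) (hW' : W' ≤ W) (b : Jdx F) (h : a ≤ b), x ∈ W' ∧
      ap ((D2 F JA Ji hmem).map (homOfLE h)) W' (rF ((D2 F JA Ji hmem).obj a) hW' y) = 0 := by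
  obtain ⟨V, hVaff, hxV, hVW⟩ := Opens.isBasis_iff_nbhd.mp X.isBasis_affineOpens hx
  haveI := hmono a
  haveI := hq a
  haveI := hft a
  haveI hDq : ((D2 F JA Ji hmem).obj a).IsQuasicoherent := (cokernel_ft_fp (Ji a)).1
  obtain ⟨g, hg⟩ := QCohExact.app_surjective_of_epi (D2π F JA Ji hmem a) hVaff
    (rF ((D2 F JA Ji hmem).obj a) hVW y)
  have hg' : ap (D2π F JA Ji hmem a) V g = rF ((D2 F JA Ji hmem).obj a) hVW y := hg
  have hψg : ap (ψT F a.T) V g = 0 := by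
    have h1 : ap (D2ι F JA Ji hmem a) V (ap (D2π F JA Ji hmem a) V g) = ap (ψT F a.T) V g :=
      congrArg (fun χ : GT F a.T ⟶ F => ap χ V g) (D2π_ι F JA Ji hmem a)
    rw [← h1, hg', ap_rF, hy, map_zero]
  haveI hN : (kernel (ψT F a.T)).IsQuasicoherent := SubExt.isQuasicoherent_kernel (ψT F a.T)
  obtain ⟨g', hg''⟩ : ∃ g' : Γ(kernel (ψT F a.T), V), ap (kernel.ι (ψT F a.T)) V g' = g := by
    let E : ShortComplex X.Modules :=
      ShortComplex.mk (kernel.ι (ψT F a.T)) (ψT F a.T) (kernel.condition _)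
    have hE : E.Exact := ShortComplex.exact_kernel (ψT F a.T)
    haveI : Mono E.f := inferInstanceAs (Mono (kernel.ι (ψT F a.T)))
    exact QCohExact.app_exact E hE V g hψg
  obtain ⟨A', i', hi', hA', hA'ft, z', hz'⟩ :=
    SubExt.exists_ft_sub_section (kernel (ψT F a.T)) hVaff g'
  haveI := hi'
  haveI := hA'
  haveI : (JA a ⊞ A').IsQuasicoherent := CohOpenH8.isQuasicoherent_biprod _ _
  let d : JA a ⊞ A' ⟶ GT F a.T := biprod.desc (Ji a) (i' ≫ kernel.ι (ψT F a.T))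
  have hd : d ≫ ψT F a.T = 0 := by
    apply biprod.hom_ext'
    · rw [biprod.inl_desc_assoc, Ji_ψT F JA Ji hmem, comp_zero]
    · rw [biprod.inr_desc_assoc, Category.assoc, kernel.condition, comp_zero, comp_zero]
  obtain ⟨S, hS, hle, hcont⟩ :=
    exists_upper F d (finite_biprod_sections _ _ (hft a) hA'ft) hd
  let b : Jdx F := ⟨a.T, S, hS, hle⟩
  have hab : a ≤ b := ⟨subset_rfl, fun O s hs => by
    obtain ⟨z, rfl⟩ := (hmem a O s).1 hs
    rw [incl_refl]
    have e2 : ap d O (ap (biprod.inl : JA a ⟶ JA a ⊞ A') O z) = ap (Ji a) O z :=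
      congrArg (fun χ : JA a ⟶ GT F a.T => ap χ O z)
        (biprod.inl_desc (Ji a) (i' ≫ kernel.ι (ψT F a.T)))
    show ap (Ji a) O z ∈ S.S O
    rw [← e2]
    exact hcont O _⟩
  have hgS : g ∈ S.S V := by
    have e2 : ap d V (ap (biprod.inr : A' ⟶ JA a ⊞ A') V z') = g := by
      have h2 := congrArg (fun χ : A' ⟶ GT F a.T => ap χ V z')
        (biprod.inr_desc (Ji a) (i' ≫ kernel.ι (ψT F a.T)))
      refine h2.trans ?_
      show ap (kernel.ι (ψT F a.T)) V (ap i' V z') = g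
      rw [hz', hg'']
    rw [← e2]
    exact hcont V _
  obtain ⟨z'', hz''⟩ := (hmem b V g).1 hgS
  refine ⟨V, hVW, b, hab, hxV, ?_⟩
  rw [← hg']
  have e3 := congrArg (fun χ : GT F a.T ⟶ (D2 F JA Ji hmem).obj b => ap χ V g)
    (D2π_map F JA Ji hmem hab subset_rfl)
  refine e3.trans ?_
  show ap (D2π F JA Ji hmem b) V (ap (incl F (subset_rfl : a.T ⊆ b.T)) V g) = 0
  rw [incl_refl, ← hz'']
  exact congrArg (fun χ : JA b ⟶ (D2 F JA Ji hmem).obj b => ap χ V z'') (D2π_zero F JA Ji hmem b)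

end Diagram

/-- **Stacks 01PJ (first part)**: a quasi-coherent module on a qcqs scheme is a directed colimit
of finitely presented modules. -/
theorem exists_directed_colimit_fp :
    ∃ (J : Type u) (_ : Preorder J) (_ : IsDirected J (· ≤ ·)) (_ : Nonempty J)
      (D : J ⥤ X.Modules) (c : Cocone D), Nonempty (IsColimit c) ∧
      (∀ j, SheafOfModules.IsFinitePresentation (R := X.ringCatSheaf) (D.obj j)) ∧ c.pt = F := by
  have hJ : ∀ a : Jdx F, ∃ (A : X.Modules) (i : A ⟶ GT F a.T), Mono i ∧ A.IsQuasicoherent ∧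
      SheafOfModules.IsFiniteType (R := X.ringCatSheaf) A ∧
      ∀ (O : X.Opens) (s : Γ(GT F a.T, O)), s ∈ a.S.S O ↔ ∃ z, ap i O z = s := fun a => a.ft
  choose JA Ji hmono hq hft hmem using hJ
  haveI : IsDirected (Jdx F) (· ≤ ·) := ⟨fun a b => directed2 F JA Ji hmem hq hft a b⟩
  haveI : Nonempty (Jdx F) := by
    classical
    obtain ⟨a, -⟩ := exists_KT F ∅
    exact ⟨a⟩
  refine ⟨Jdx F, inferInstance, inferInstance, inferInstance, D2 F JA Ji hmem, D2c F JA Ji hmem,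
    isColimit_of_directed (D2 F JA Ji hmem) (D2c F JA Ji hmem) ?_ ?_, ?_, rfl⟩
  · exact fun W t x hx => D2_hE F JA Ji hmem W t x hx
  · exact fun a W y hy x hx => D2_hM F JA Ji hmem hmono hq hft a W y hy x hx
  · intro a
    haveI := hmono a
    haveI := hq a
    haveI := hft a
    exact (cokernel_ft_fp (Ji a)).2

end Construction

end Groth.Agent.Lib.FPExtH2
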