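import Mathlib
import Groth.Prelude
import Groth.Agent.Lib.LSub_helper9
import Groth.Agent.Lib.QCohGen1_lead
import Groth.Agent.Lib.ClAdj1_helper8

/-!
# `QCoh(X)` for an arbitrary scheme `X`: a small separating family (lead)

For an arbitrary scheme `X`, a quasi-coherent module `H`, an affine open `U₀` and a section
`s₀ ∈ H(U₀)` we construct a quasi-coherent submodule `E ⊆ H` containing `s₀` which is a quotient
of the fixed object `∐_{w : Nm X} j_! O_{dom w}`, where `Nm X` is a fixed small type of "names"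
(Gabber's cardinality argument, done syntactically: the names record how a section is obtained
from `s₀` by restricting to affine opens and by choosing, for `V ⊆ U` affine, countably many
sections over `U` generating a given section over `V`).

Consequences (for every scheme `X`): `QCoh(X)` has a small separating family, is well-powered,
every colimit preserving functor out of `QCoh(X)` is a left adjoint (`mainG`), in particular the
inclusion into all modules has a right adjoint (the coherator), `QCoh(X)` has enough injectives, and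
`i_*` on quasi-coherent modules has a right adjoint for a closed immersion `i`.

The subsheaf is built with helper9's `LSub`.
-/

set_option autoImplicit false
set_option linter.all false
set_option maxHeartbeats 1600000
set_option backward.isDefEq.respectTransparency false
set_option backward.isDefEq.respectTransparency.types false
set_option backward.defeqAttrib.useBackward true

universe u u'

open CategoryTheory CategoryTheory.Limits AlgebraicGeometry Opposite TopologicalSpace
open QcqsLoc QCohExtn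

namespace Groth.Agent.Lib.QCohGabL

open Groth.Agent.Lib.DSectX Groth.Agent.Lib.QCohFinLimH3 Groth.Agent.Lib.QCohGenL

variable {X : Scheme.{u}}

/-! ## three algebra lemmas on sections over affine opens -/

/-- membership in a submodule of the sections over an affine open can be checked locally, up to
powers of the functions defining basic opens. -/
theorem mem_of_locally_pow (H : X.Modules) {V : X.Opens} (hV : IsAffineOpen V)
    (T : Submodule Γ(X, V) Γ(H, V)) (m : Γ(H, V))
    (h : ∀ x ∈ V, ∃ b : Γ(X, V), x ∈ X.basicOpen b ∧ ∃ n : ℕ, b ^ n • m ∈ T) : m ∈ T := by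
  let I : Ideal Γ(X, V) :=
    { carrier := {c | c • m ∈ T}
      add_mem' := fun {a b} ha hb => by
        show (a + b) • m ∈ T
        rw [add_smul]; exact T.add_mem ha hb
      zero_mem' := by
        show (0 : Γ(X, V)) • m ∈ T
        rw [zero_smul]; exact T.zero_mem
      smul_mem' := fun c {a} ha => by
        show (c • a) • m ∈ T
        rw [smul_eq_mul, mul_smul]; exact T.smul_mem c ha }
  have hcov : V ≤ ⨆ f : (I : Set Γ(X, V)), X.basicOpen f.1 := by
    intro x hx
    obtain ⟨b, hxb, n, hn⟩ := h x hx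
    have hn' : b ^ (n + 1) • m ∈ T := by
      rw [pow_succ', mul_smul]; exact T.smul_mem b hn
    refine Opens.mem_iSup.mpr ⟨⟨b ^ (n + 1), hn'⟩, ?_⟩
    show x ∈ X.basicOpen (b ^ (n + 1))
    rw [X.basicOpen_pow b (Nat.succ_pos n)]
    exact hxb
  have hI : Ideal.span (I : Set Γ(X, V)) = ⊤ := hV.self_le_iSup_basicOpen_iff.mp hcov
  rw [Ideal.span_eq] at hI
  have h1 : (1 : Γ(X, V)) ∈ I := by rw [hI]; trivial
  have h2 : (1 : Γ(X, V)) • m ∈ T := h1
  rwa [one_smul] at h2

/-- for affine opens `V ⊆ U`, the sections of a quasi-coherent module over `V` are generated by the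
restrictions of the sections over `U`. -/
theorem mem_span_range_rF (H : X.Modules) [H.IsQuasicoherent] {U V : X.Opens}
    (hU : IsAffineOpen U) (hV : IsAffineOpen V) (hVU : V ≤ U) (m : Γ(H, V)) :
    m ∈ Submodule.span Γ(X, V) (Set.range (rF H hVU)) := by
  apply mem_of_locally_pow H hV
  intro x hx
  obtain ⟨f, hf1, hf2⟩ := hU.exists_basicOpen_le ⟨x, hx⟩ (hVU hx)
  have hb : X.basicOpen (rX hVU f) = V ⊓ X.basicOpen f := basicOpen_rX hVU f
  have hbf : X.basicOpen (rX hVU f) ≤ X.basicOpen f := by rw [hb]; exact inf_le_right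
  refine ⟨rX hVU f, by rw [hb]; exact ⟨hx, hf2⟩, ?_⟩
  have LU := QCohCrit.locOnU_of_isQuasicoherent H hU f
  have LV := QCohCrit.locOnU_of_isQuasicoherent H hV (rX hVU f)
  obtain ⟨n, mU, hmU⟩ := LU.surj (rF H hf1 m)
  have e2 : rF H hf1 (rX hVU f ^ n • m - rF H hVU mU) = 0 := by
    rw [map_sub, rF_pow_smul, rF_rF, sub_eq_zero]
    have e3 : rX hf1 (rX hVU f) = rX (X.basicOpen_le f) f := rX_rX hf1 hVU f
    rw [e3]
    exact hmU
  have hm' : rF H (X.basicOpen_le (rX hVU f)) (rX hVU f ^ n • m - rF H hVU mU) = 0 := by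
    have e1 : rF H (X.basicOpen_le (rX hVU f)) (rX hVU f ^ n • m - rF H hVU mU) =
        rF H hbf (rF H hf1 (rX hVU f ^ n • m - rF H hVU mU)) := (rF_rF H hbf hf1 _).symm
    rw [e1, e2, map_zero]
  obtain ⟨n', hn'⟩ := LV.ker _ hm'
  refine ⟨n' + n, ?_⟩
  have e4 : rX hVU f ^ (n' + n) • m = rX hVU f ^ n' • rF H hVU mU := by
    rw [smul_sub, sub_eq_zero] at hn'
    rw [pow_add, mul_smul]; exact hn'
  rw [e4]
  exact Submodule.smul_mem _ _ (Submodule.subset_span ⟨mU, rfl⟩)

/-- clearing denominators. -/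
theorem exists_pow_smul_eq_rF (H : X.Modules) [H.IsQuasicoherent] {V : X.Opens}
    (hV : IsAffineOpen V) (b : Γ(X, V)) (T : Submodule Γ(X, V) Γ(H, V))
    (z : Γ(H, X.basicOpen b))
    (hz : z ∈ Submodule.span Γ(X, X.basicOpen b)
      ((rF H (X.basicOpen_le b)) '' (T : Set Γ(H, V)))) :
    ∃ (n : ℕ) (m' : Γ(H, V)), m' ∈ T ∧
      rX (X.basicOpen_le b) b ^ n • z = rF H (X.basicOpen_le b) m' := by
  have LV := QCohCrit.locOnU_of_isQuasicoherent H hV b
  refine Submodule.span_induction (p := fun z _ => ∃ (n : ℕ) (m' : Γ(H, V)), m' ∈ T ∧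
      rX (X.basicOpen_le b) b ^ n • z = rF H (X.basicOpen_le b) m') ?_ ?_ ?_ ?_ hz
  · rintro _ ⟨m', hm', rfl⟩
    exact ⟨0, m', hm', by rw [pow_zero, one_smul]⟩
  · exact ⟨0, 0, T.zero_mem, by rw [smul_zero, map_zero]⟩
  · rintro z1 z2 _ _ ⟨n1, m1, hm1, e1⟩ ⟨n2, m2, hm2, e2⟩
    refine ⟨n1 + n2, b ^ n2 • m1 + b ^ n1 • m2,
      T.add_mem (T.smul_mem _ hm1) (T.smul_mem _ hm2), ?_⟩
    have h1 : rX (X.basicOpen_le b) b ^ (n1 + n2) • z1 =
        rX (X.basicOpen_le b) b ^ n2 • (rX (X.basicOpen_le b) b ^ n1 • z1) := by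
      rw [smul_smul, ← pow_add, add_comm n1 n2]
    have h2 : rX (X.basicOpen_le b) b ^ (n1 + n2) • z2 =
        rX (X.basicOpen_le b) b ^ n1 • (rX (X.basicOpen_le b) b ^ n2 • z2) := by
      rw [smul_smul, ← pow_add]
    rw [smul_add, h1, h2, e1, e2, map_add, rF_pow_smul, rF_pow_smul]
  · rintro c z _ ⟨n, m', hm', e⟩
    letI := (X.presheaf.map (homOfLE (X.basicOpen_le b)).op).hom.toAlgebra
    haveI : IsLocalization.Away b Γ(X, X.basicOpen b) := LV.isLoc
    obtain ⟨k, d, hd⟩ := IsLocalization.Away.surj b c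
    have hd' : c * rX (X.basicOpen_le b) b ^ k = rX (X.basicOpen_le b) d := hd
    refine ⟨k + n, d • m', T.smul_mem _ hm', ?_⟩
    rw [rF_smul, ← hd', ← e, smul_smul, smul_smul]
    congr 1
    ring

/-! ## names -/

/-- the names of the sections generated from one section by restriction to affine opens and by
(countably many) lifts along inclusions of affine opens. -/
inductive Nm (X : Scheme.{u}) : Type u
  | base : Nm X
  | res (w : Nm X) (V : X.affineOpens) : Nm X
  | lift (w : Nm X) (U : X.affineOpens) (i : ℕ) : Nm X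

/-- the open over which the named section lives. -/
def dom (U₀ : X.Opens) : Nm X → X.Opens
  | .base => U₀
  | .res _ V => V.1
  | .lift _ U _ => U.1

theorem dom_affine {U₀ : X.Opens} (hU₀ : IsAffineOpen U₀) (w : Nm X) :
    IsAffineOpen (dom U₀ w) := by
  cases w with
  | base => exact hU₀
  | res w V => exact V.2
  | lift w U i => exact U.2

theorem exists_liftSeq (H : X.Modules) [H.IsQuasicoherent] {U V : X.Opens} (hU : IsAffineOpen U)
    (hV : IsAffineOpen V) (hVU : V ≤ U) (m : Γ(H, V)) :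
    ∃ q : ℕ → Γ(H, U), m ∈ Submodule.span Γ(X, V) (Set.range (fun i => rF H hVU (q i))) := by
  have hm := mem_span_range_rF H hU hV hVU m
  obtain ⟨n, f, g, hfg⟩ := Submodule.mem_span_set'.mp hm
  choose p hp using fun i : Fin n => (g i).2
  refine ⟨fun i => if hi : i < n then p ⟨i, hi⟩ else 0, ?_⟩
  rw [← hfg]
  refine Submodule.sum_mem _ (fun i _ => Submodule.smul_mem _ _ (Submodule.subset_span ⟨i.1, ?_⟩))
  show rF H hVU (if hi : i.1 < n then p ⟨i.1, hi⟩ else 0) = (g i : Γ(H, V))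
  rw [dif_pos i.2]
  exact hp i

open Classical in
/-- the named sections. -/
noncomputable def val (H : X.Modules) [H.IsQuasicoherent] {U₀ : X.Opens} (hU₀ : IsAffineOpen U₀)
    (s₀ : Γ(H, U₀)) : (w : Nm X) → Γ(H, dom U₀ w)
  | .base => s₀
  | .res w V => if h : V.1 ≤ dom U₀ w then rF H h (val H hU₀ s₀ w) else 0
  | .lift w U i => if h : dom U₀ w ≤ U.1 then
      Classical.choose (exists_liftSeq H U.2 (dom_affine hU₀ w) h (val H hU₀ s₀ w)) i else 0

section Construction

variable (H : X.Modules) [H.IsQuasicoherent] {U₀ : X.Opens} (hU₀ : IsAffineOpen U₀)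
  (s₀ : Γ(H, U₀))

theorem val_res (w : Nm X) (V : X.affineOpens) (h : V.1 ≤ dom U₀ w) :
    val H hU₀ s₀ (.res w V) = rF H h (val H hU₀ s₀ w) := by
  rw [val, dif_pos h]

theorem val_lift_spec (w : Nm X) (U : X.affineOpens) (h : dom U₀ w ≤ U.1) :
    val H hU₀ s₀ w ∈ Submodule.span Γ(X, dom U₀ w)
      (Set.range (fun i => rF H h (val H hU₀ s₀ (.lift w U i)))) := by
  have hs := Classical.choose_spec
    (exists_liftSeq H U.2 (dom_affine hU₀ w) h (val H hU₀ s₀ w))
  have e : (fun i => rF H h (val H hU₀ s₀ (.lift w U i))) =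
      fun i => rF H h (Classical.choose
        (exists_liftSeq H U.2 (dom_affine hU₀ w) h (val H hU₀ s₀ w)) i) := by
    funext i
    rw [val, dif_pos h]
  rw [e]
  exact hs

/-- the generating sections over an open `V`: all restrictions of named sections. -/
def gens (V : X.Opens) : Set Γ(H, V) :=
  {m | ∃ (w : Nm X) (h : V ≤ dom U₀ w), m = rF H h (val H hU₀ s₀ w)}

/-- the submodule of `H(V)` they span. -/
noncomputable def MV (V : X.Opens) : Submodule Γ(X, V) Γ(H, V) := Submodule.span Γ(X, V) (gens H hU₀ s₀ V)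

theorem MV_res {V V' : X.Opens} (h : V' ≤ V) {m : Γ(H, V)} (hm : m ∈ MV H hU₀ s₀ V) :
    rF H h m ∈ MV H hU₀ s₀ V' := by
  refine Submodule.span_induction (p := fun m _ => rF H h m ∈ MV H hU₀ s₀ V') ?_ ?_ ?_ ?_ hm
  · rintro _ ⟨w, hw, rfl⟩
    rw [rF_rF]
    exact Submodule.subset_span ⟨w, h.trans hw, rfl⟩
  · rw [map_zero]; exact Submodule.zero_mem _
  · intro a b _ _ ha hb
    rw [map_add]; exact Submodule.add_mem _ ha hb
  · intro r a _ ha
    rw [rF_smul]; exact Submodule.smul_mem _ _ ha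

theorem MV_le_span {U V : X.Opens} (hU : IsAffineOpen U) (hV : IsAffineOpen V) (hVU : V ≤ U) :
    MV H hU₀ s₀ V ≤
      Submodule.span Γ(X, V) ((rF H hVU) '' (MV H hU₀ s₀ U : Set Γ(H, U))) := by
  apply Submodule.span_le.mpr
  rintro _ ⟨w, hw, rfl⟩
  have hw' : val H hU₀ s₀ (.res w ⟨V, hV⟩) = rF H hw (val H hU₀ s₀ w) :=
    val_res H hU₀ s₀ w ⟨V, hV⟩ hw
  have hspec := val_lift_spec H hU₀ s₀ (.res w ⟨V, hV⟩) ⟨U, hU⟩ hVU
  have hle : Submodule.span Γ(X, V) (Set.range
      (fun i => rF H hVU (val H hU₀ s₀ (.lift (.res w ⟨V, hV⟩) ⟨U, hU⟩ i)))) ≤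
      Submodule.span Γ(X, V) ((rF H hVU) '' (MV H hU₀ s₀ U : Set Γ(H, U))) := by
    apply Submodule.span_mono
    rintro _ ⟨i, rfl⟩
    refine ⟨val H hU₀ s₀ (.lift (.res w ⟨V, hV⟩) ⟨U, hU⟩ i), ?_, rfl⟩
    exact Submodule.subset_span
      ⟨.lift (.res w ⟨V, hV⟩) ⟨U, hU⟩ i, le_rfl, (rF_refl' H _).symm⟩
  rw [← hw']
  exact hle hspec

/-- the defining condition of the subsheaf. -/
def InSub (W : X.Opens) (t : Γ(H, W)) : Prop :=
  ∀ (V : X.Opens) (_ : IsAffineOpen V) (h : V ≤ W), rF H h t ∈ MV H hU₀ s₀ V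

theorem inSub_of_locally {W : X.Opens} (s : Γ(H, W))
    (hs : ∀ x ∈ W, ∃ (W' : X.Opens) (h : W' ≤ W), x ∈ W' ∧ InSub H hU₀ s₀ W' (rF H h s)) :
    InSub H hU₀ s₀ W s := by
  intro V hV hVW
  apply mem_of_locally_pow H hV
  intro x hx
  obtain ⟨W', hW', hxW', hmem⟩ := hs x (hVW hx)
  obtain ⟨b, hb1, hb2⟩ := hV.exists_basicOpen_le ⟨x, hxW'⟩ hx
  refine ⟨b, hb2, ?_⟩
  have hDb : IsAffineOpen (X.basicOpen b) := hV.basicOpen b
  have h1 : rF H (X.basicOpen_le b) (rF H hVW s) ∈ MV H hU₀ s₀ (X.basicOpen b) := by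
    have h0 := hmem (X.basicOpen b) hDb hb1
    rw [rF_rF] at h0 ⊢
    exact h0
  have h2 := MV_le_span H hU₀ s₀ hV hDb (X.basicOpen_le b) h1
  obtain ⟨n, m', hm', e⟩ := exists_pow_smul_eq_rF H hV b (MV H hU₀ s₀ V) _ h2
  have LV := QCohCrit.locOnU_of_isQuasicoherent H hV b
  have h3 : rF H (X.basicOpen_le b) (b ^ n • rF H hVW s - m') = 0 := by
    rw [map_sub, rF_pow_smul, e, sub_self]
  obtain ⟨n', hn'⟩ := LV.ker _ h3
  refine ⟨n' + n, ?_⟩
  have e4 : b ^ (n' + n) • rF H hVW s = b ^ n' • m' := by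
    rw [smul_sub, sub_eq_zero] at hn'
    rw [pow_add, mul_smul]; exact hn'
  rw [e4]
  exact Submodule.smul_mem _ _ hm'

/-- the subsheaf. -/
noncomputable def sub : LSub H where
  carrier W :=
    { carrier := {t | InSub H hU₀ s₀ W t}
      add_mem' := fun {a b} ha hb V hV h => by
        rw [map_add]; exact Submodule.add_mem _ (ha V hV h) (hb V hV h)
      zero_mem' := fun V hV h => by
        rw [map_zero]; exact Submodule.zero_mem _
      smul_mem' := fun c {a} ha V hV h => by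
        rw [rF_smul]; exact Submodule.smul_mem _ _ (ha V hV h) }
  res := fun {W W'} h {s} hs V hV hV' => by
    rw [rF_rF]; exact hs V hV (hV'.trans h)
  loc := fun {W} s hs => inSub_of_locally H hU₀ s₀ s hs

theorem mem_sub_iff {W : X.Opens} (t : Γ(H, W)) :
    t ∈ (sub H hU₀ s₀).carrier W ↔ InSub H hU₀ s₀ W t := Iff.rfl

theorem MV_sub_carrier {V : X.Opens} {m : Γ(H, V)} (hm : m ∈ MV H hU₀ s₀ V) :
    m ∈ (sub H hU₀ s₀).carrier V :=
  (mem_sub_iff H hU₀ s₀ m).mpr (fun V' _ h => MV_res H hU₀ s₀ h hm)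

theorem mem_MV_of_mem_sub {V : X.Opens} (hV : IsAffineOpen V) {m : Γ(H, V)}
    (hm : m ∈ (sub H hU₀ s₀).carrier V) : m ∈ MV H hU₀ s₀ V := by
  have h := (mem_sub_iff H hU₀ s₀ m).mp hm V hV le_rfl
  rwa [rF_refl'] at h

theorem sub_locSurj {V : X.Opens} (hV : IsAffineOpen V) : (sub H hU₀ s₀).LocSurj V := by
  intro a s' hs'
  have hDa : IsAffineOpen (X.basicOpen a) := hV.basicOpen a
  have h1 : s' ∈ MV H hU₀ s₀ (X.basicOpen a) := mem_MV_of_mem_sub H hU₀ s₀ hDa hs'
  have h2 := MV_le_span H hU₀ s₀ hV hDa (X.basicOpen_le a) h1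
  obtain ⟨n, m', hm', e⟩ := exists_pow_smul_eq_rF H hV a (MV H hU₀ s₀ V) s' h2
  exact ⟨n, m', MV_sub_carrier H hU₀ s₀ hm', e⟩

theorem sub_qcoh : (sub H hU₀ s₀).toModules.IsQuasicoherent :=
  QCohCrit.isQuasicoherent_of_locOnU _
    (fun U => LSub.locOnU_of_locSurj _ U.2 (sub_locSurj H hU₀ s₀ U.2))

include hU₀ in
/-- **Gabber's lemma**, in the form needed: a section of a quasi-coherent module over an affine
open lies in a quasi-coherent submodule which is a quotient of a fixed module. -/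
theorem exists_sub :
    ∃ (E : X.Modules) (i : E ⟶ H) (_ : Mono i) (_ : E.IsQuasicoherent) (g₀ : Γ(E, U₀))
      (π : (∐ fun w : Nm X => (PX X).obj (dom U₀ w)) ⟶ E), Epi π ∧ ap i U₀ g₀ = s₀ := by
  have hval : ∀ w : Nm X, val H hU₀ s₀ w ∈ (sub H hU₀ s₀).carrier (dom U₀ w) := fun w =>
    MV_sub_carrier H hU₀ s₀ (Submodule.subset_span ⟨w, le_rfl, (rF_refl' H _).symm⟩)
  choose z hz using fun w => (sub H hU₀ s₀).exists_of_mem (hval w)
  refine ⟨(sub H hU₀ s₀).toModules, (sub H hU₀ s₀).ι, inferInstance, sub_qcoh H hU₀ s₀,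
    z .base, Sigma.desc (fun w => (evX X (dom U₀ w) (sub H hU₀ s₀).toModules).symm (z w)),
    ?_, hz .base⟩
  apply Preadditive.epi_of_cancel_zero
  intro Z ψ hψ
  have h1 : ∀ w, ap ψ (dom U₀ w) (z w) = 0 := by
    intro w
    have hπ : Sigma.ι (fun w : Nm X => (PX X).obj (dom U₀ w)) w ≫
        Sigma.desc (fun w => (evX X (dom U₀ w) (sub H hU₀ s₀).toModules).symm (z w)) =
        (evX X (dom U₀ w) (sub H hU₀ s₀).toModules).symm (z w) := Sigma.ι_desc _ w
    have h2 : (evX X (dom U₀ w) (sub H hU₀ s₀).toModules).symm (z w) ≫ ψ = 0 := by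
      rw [← hπ, Category.assoc, hψ, comp_zero]
    have h3 := evX_comp' (dom U₀ w)
      ((evX X (dom U₀ w) (sub H hU₀ s₀).toModules).symm (z w)) ψ
    rw [h2, map_zero, AddEquiv.apply_symm_apply] at h3
    exact h3.symm
  apply Groth.Agent.Lib.BasisHomH7.hom_ext_basis (X.isBasis_affineOpens)
  intro V hV y
  have hy : ap (sub H hU₀ s₀).ι V y ∈ MV H hU₀ s₀ V :=
    mem_MV_of_mem_sub H hU₀ s₀ hV ((sub H hU₀ s₀).ι_mem y)
  have key : ∃ y', ap (sub H hU₀ s₀).ι V y' = ap (sub H hU₀ s₀).ι V y ∧ ap ψ V y' = 0 := by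
    refine Submodule.span_induction
      (p := fun m _ => ∃ y', ap (sub H hU₀ s₀).ι V y' = m ∧ ap ψ V y' = 0) ?_ ?_ ?_ ?_ hy
    · rintro _ ⟨w, hw, rfl⟩
      refine ⟨rF (sub H hU₀ s₀).toModules hw (z w), ?_, ?_⟩
      · rw [ap_rF, hz]
      · rw [ap_rF, h1, map_zero]
    · exact ⟨0, map_zero _, map_zero _⟩
    · rintro a b _ _ ⟨ya, ha1, ha2⟩ ⟨yb, hb1, hb2⟩
      exact ⟨ya + yb, by rw [map_add, ha1, hb1], by rw [map_add, ha2, hb2, add_zero]⟩
    · rintro r a _ ⟨ya, ha1, ha2⟩
      exact ⟨r • ya, by rw [ap_smul, ha1], by rw [ap_smul, ha2, smul_zero]⟩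
  obtain ⟨y', hy'1, hy'2⟩ := key
  have hyy : y' = y := (sub H hU₀ s₀).ι_injective V hy'1
  rw [← hyy, hy'2]
  rfl

end Construction

/-! ## the separating family -/

/-- index type: an affine open and a subobject of `∐_w j_! O_{dom w}` with quasi-coherent
quotient -/
def IdxG (X : Scheme.{u}) : Type (u + 1) :=
  Σ U₀ : X.affineOpens,
    {Q : Subobject (∐ fun w : Nm X => (PX X).obj (dom U₀.1 w)) //
      (cokernel Q.arrow).IsQuasicoherent}

instance small_IdxG : Small.{u} (IdxG X) := by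
  have hG : IsGrothendieckAbelian.{u} X.Modules :=
    Groth.Agent.Lib.FunctorialInjective.isGrothendieckAbelian_sheafOfModules
      (Opens.grothendieckTopology X) X.ringCatSheaf
  haveI := hG
  unfold IdxG
  infer_instance

/-- the separating family -/
noncomputable def GG (idx : IdxG X) : QCohCat.QCoh X := ⟨cokernel idx.2.1.arrow, idx.2.2⟩

theorem isSeparatingG : (ObjectProperty.ofObj (GG (X := X))).IsSeparating := by
  intro M N f g Hh
  apply ObjectProperty.hom_ext
  apply Groth.Agent.Lib.BasisHomH7.hom_ext_basis (X.isBasis_affineOpens)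
  intro U hU s
  haveI : M.obj.IsQuasicoherent := M.property
  obtain ⟨E, i, hi, hE, g₀, π, hπ, hg₀⟩ := exists_sub M.obj hU s
  haveI := hπ
  let Q := kernelSubobject π
  have hlim : IsLimit (KernelFork.ofι Q.arrow (kernelSubobject_arrow_comp π)) :=
    kernel.isoKernel π Q.arrow (kernelSubobjectIso π) (kernelSubobject_arrow π)
  have hcolim := Abelian.epiIsCokernelOfKernel _ hlim
  let e : cokernel Q.arrow ≅ E :=
    IsColimit.coconePointUniqueUpToIso (cokernelIsCokernel Q.arrow) hcolim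
  have hq : (cokernel Q.arrow).IsQuasicoherent := qc_of_iso e hE
  let idx : IdxG X := ⟨⟨U, hU⟩, ⟨Q, hq⟩⟩
  have hH := Hh (GG idx) (ObjectProperty.ofObj_apply _ idx) (ObjectProperty.homMk (e.hom ≫ i))
  have hH' : (e.hom ≫ i) ≫ f.hom = (e.hom ≫ i) ≫ g.hom := congrArg (fun k => k.hom) hH
  have hH'' : i ≫ f.hom = i ≫ g.hom := by
    rw [Category.assoc, Category.assoc] at hH'
    exact (cancel_epi e.hom).mp hH'
  rw [← hg₀]
  exact congrArg (fun k => ap k U g₀) hH''

theorem wellPowered_qcohG : WellPowered.{u} (QCohCat.QCoh X) :=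
  wellPowered_of_isDetecting (isSeparatingG (X := X)).isDetecting

/-- on an arbitrary scheme, a colimit preserving functor out of `QCoh(X)` is a left adjoint. -/
theorem mainG (X : Scheme.{u}) {A : Type u'} [Category.{u} A] (F : QCohCat.QCoh X ⥤ A)
    [PreservesColimitsOfSize.{u, u} F] : F.IsLeftAdjoint := by
  haveI := wellPowered_qcohG (X := X)
  haveI : WellPowered.{u} (QCohCat.QCoh X)ᵒᵖ := Abelian.wellPowered_opposite
  exact isLeftAdjoint_of_preservesColimits_of_isSeparating (isSeparatingG (X := X)) F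

theorem preservesColimits_ι (X : Scheme.{u}) :
    PreservesColimitsOfSize.{u, u} (QCohCat.isQCoh X).ι := by
  haveI : ∀ J : Type u, PreservesColimitsOfShape (Discrete J) (QCohCat.isQCoh X).ι :=
    fun J => by infer_instance
  haveI : PreservesColimitsOfShape WalkingParallelPair (QCohCat.isQCoh X).ι := inferInstance
  exact preservesColimits_of_preservesCoequalizers_and_coproducts _

/-- the coherator exists on every scheme. -/
theorem inclusion_isLeftAdjoint (X : Scheme.{u}) : ((QCohCat.isQCoh X).ι).IsLeftAdjoint := by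
  haveI := preservesColimits_ι X
  exact mainG X _

theorem enoughInjectives_qcoh (X : Scheme.{u}) : EnoughInjectives (QCohCat.QCoh X) := by
  have hG : IsGrothendieckAbelian.{u} X.Modules :=
    Groth.Agent.Lib.FunctorialInjective.isGrothendieckAbelian_sheafOfModules
      (Opens.grothendieckTopology X) X.ringCatSheaf
  haveI := hG
  haveI := inclusion_isLeftAdjoint X
  exact EnoughInjectives.of_adjunction (Adjunction.ofIsLeftAdjoint (QCohCat.isQCoh X).ι)

theorem exists_pushforward_leftAdjoint {Z X : Scheme.{u}} (i : Z ⟶ X) [IsClosedImmersion i] :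
    ∃ L : QCohCat.QCoh Z ⥤ QCohCat.QCoh X,
      Nonempty (L ⋙ (QCohCat.isQCoh X).ι ≅
        (QCohCat.isQCoh Z).ι ⋙ Scheme.Modules.pushforward i) ∧ L.IsLeftAdjoint := by
  have hF : ∀ M : QCohCat.QCoh Z, QCohCat.isQCoh X
      (((QCohCat.isQCoh Z).ι ⋙ Scheme.Modules.pushforward i).obj M) := fun M => by
    haveI : M.obj.IsQuasicoherent := M.property
    exact QCohCrit.isQuasicoherent_pushforward i M.obj
  refine ⟨(QCohCat.isQCoh X).lift ((QCohCat.isQCoh Z).ι ⋙ Scheme.Modules.pushforward i) hF,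
    ⟨(QCohCat.isQCoh X).liftCompιIso _ hF⟩, ?_⟩
  haveI h1 := preservesColimits_ι Z
  haveI h2 := ClAdjH8.preservesColimits_modules_pushforward i
  haveI h3 : PreservesColimitsOfSize.{u, u}
      ((QCohCat.isQCoh Z).ι ⋙ Scheme.Modules.pushforward i) := inferInstance
  haveI h4 : PreservesColimitsOfSize.{u, u}
      ((QCohCat.isQCoh X).lift ((QCohCat.isQCoh Z).ι ⋙ Scheme.Modules.pushforward i) hF ⋙
        (QCohCat.isQCoh X).ι) :=
    preservesColimits_of_natIso ((QCohCat.isQCoh X).liftCompιIso _ hF).symm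
  haveI h5 : PreservesColimitsOfSize.{u, u}
      ((QCohCat.isQCoh X).lift ((QCohCat.isQCoh Z).ι ⋙ Scheme.Modules.pushforward i) hF) :=
    preservesColimits_of_reflects_of_preserves _ (QCohCat.isQCoh X).ι
  exact mainG Z _

end Groth.Agent.Lib.QCohGabL
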