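import Mathlib
import Groth.Prelude.Def_CohB1
import Groth.Prelude.Def_QCohCat
import Groth.Agent.Lib.FPExt7_helper2
import Groth.Agent.Lib.ModSite1_helper8
import Groth.Agent.Lib.ColimCoh4_helper9
import Groth.Agent.Lib.QCohGab1_lead

/-!
# Finitely presented modules on a qcqs scheme are compact objects
-/

universe u

open CategoryTheory CategoryTheory.Limits AlgebraicGeometry Opposite TopologicalSpace Scheme.Modules
open Groth.Agent.Lib.QCohLoc_helper4 QcqsLoc QCohExtn
open Groth.Agent.Lib.SubFamH2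

namespace Groth.Agent.Lib.FPCptH2

variable {X : Scheme.{u}}

section Zero

/-- A morphism from a quasi-coherent module which vanishes on the sections over the members of
an affine open cover is zero. -/
theorem hom_eq_zero_of_affine_cover {N G : X.Modules} [N.IsQuasicoherent] (h : N ⟶ G)
    (hz : ∀ x : X, ∃ V : X.Opens, IsAffineOpen V ∧ x ∈ V ∧ ∀ m : Γ(N, V), ap h V m = 0) :
    h = 0 := by
  refine Scheme.Modules.hom_ext _ _ (fun W => ?_)
  refine ConcreteCategory.hom_ext _ _ (fun z => ?_)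
  show ap h W z = 0
  apply eq_zero_of_cover G
  intro x hx
  obtain ⟨V, hV, hxV, hs⟩ := hz x
  obtain ⟨f, hle, hxf⟩ := hV.exists_basicOpen_le (V := W ⊓ V) ⟨x, ⟨hx, hxV⟩⟩ hxV
  refine ⟨X.basicOpen f, hle.trans inf_le_left, hxf, ?_⟩
  rw [← ap_rF]
  have hl : X.basicOpen f ≤ V := X.basicOpen_le f
  have LB := RelFPAff.locData (F := N) hV f (homOfLE hl) rfl
  obtain ⟨n, b, hb⟩ := LB.surj (rF N (hle.trans inf_le_left) z)
  have hb' : rX hl f ^ n • rF N (hle.trans inf_le_left) z = rF N hl b := hb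
  have hu : IsUnit (rX hl f ^ n) := (RingedSpace.isUnit_res_basicOpen _ f).pow n
  have h1 : rX hl f ^ n • ap h (X.basicOpen f) (rF N (hle.trans inf_le_left) z) = 0 := by
    rw [← ap_smul, hb', ap_rF, hs b, map_zero]
  exact (hu.smul_eq_zero).1 h1

theorem exists_finite_affine_cover [CompactSpace X] :
    ∃ t : Finset X.affineOpens, ∀ x : X, ∃ V ∈ t, x ∈ V.1 := by
  obtain ⟨t, ht⟩ := isCompact_univ.elim_finite_subcover
    (fun V : X.affineOpens => (V.1 : Set X)) (fun V => V.1.isOpen) (by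
      intro x _
      obtain ⟨V, hV, hxV, -⟩ :=
        Opens.isBasis_iff_nbhd.mp X.isBasis_affineOpens (Opens.mem_top x)
      exact Set.mem_iUnion.2 ⟨⟨V, hV⟩, hxV⟩)
  refine ⟨t, fun x => ?_⟩
  obtain ⟨V, hVt, hxV⟩ := Set.mem_iUnion₂.1 (ht (Set.mem_univ x))
  exact ⟨V, hVt, hxV⟩

/-- The kernel of an epimorphism between finitely presented modules is of finite type. -/
theorem kernel_ft_of_fp {G F : X.Modules}
    [SheafOfModules.IsFinitePresentation (R := X.ringCatSheaf) G]
    [SheafOfModules.IsFinitePresentation (R := X.ringCatSheaf) F] (q : G ⟶ F) [Epi q] :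
    (kernel q).IsQuasicoherent ∧
      SheafOfModules.IsFiniteType (R := X.ringCatSheaf) (kernel q) := by
  haveI : G.IsQuasicoherent := inferInstance
  haveI : F.IsQuasicoherent := inferInstance
  haveI hK : (kernel q).IsQuasicoherent := SubExt.isQuasicoherent_kernel q
  refine ⟨hK, QCohCrit.isFiniteType_of_sections_cover (kernel q)
    (fun U : X.affineOpens => U.1) (fun U => U.2) (iSup_affineOpens_eq_top X) (fun U => ?_)⟩
  haveI : Module.FinitePresentation Γ(X, U.1) Γ(G, U.1) :=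
    QCohFP2.finitePresentation_of_isFinitePresentation G U.2
  haveI : Module.FinitePresentation Γ(X, U.1) Γ(F, U.1) :=
    QCohFP2.finitePresentation_of_isFinitePresentation F U.2
  let p : Γ(G, U.1) →ₗ[Γ(X, U.1)] Γ(F, U.1) :=
    { toFun := ap q U.1, map_add' := map_add _, map_smul' := fun r m => ap_smul q r m }
  have hp : Function.Surjective p := QCohExact.app_surjective_of_epi q U.2
  have hker : (LinearMap.ker p).FG := Module.FinitePresentation.fg_ker p hp
  let ι' : Γ(kernel q, U.1) →ₗ[Γ(X, U.1)] Γ(G, U.1) :=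
    { toFun := ap (kernel.ι q) U.1, map_add' := map_add _,
      map_smul' := fun r m => ap_smul (kernel.ι q) r m }
  have hinj : Function.Injective ι' := QCohExact.app_injective_of_mono (kernel.ι q) U.1
  have hrange : LinearMap.range ι' = LinearMap.ker p := by
    ext a
    constructor
    · rintro ⟨z, rfl⟩
      exact congrArg (fun χ : kernel q ⟶ F => ap χ U.1 z) (kernel.condition q)
    · intro ha
      let E : ShortComplex X.Modules := ShortComplex.mk (kernel.ι q) q (kernel.condition _)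
      have hE : E.Exact := ShortComplex.exact_kernel q
      haveI : Mono E.f := inferInstanceAs (Mono (kernel.ι q))
      obtain ⟨z, hz⟩ := QCohExact.app_exact E hE U.1 a ha
      exact ⟨z, hz⟩
  haveI : Module.Finite Γ(X, U.1) (LinearMap.range ι') :=
    Module.Finite.iff_fg.2 (hrange ▸ hker)
  exact Module.Finite.equiv (LinearEquiv.ofInjective ι' hinj).symm

end Zero

section Sections

variable {α : Type u} [Preorder α] [IsDirected α (· ≤ ·)] [Nonempty α] (D : α ⥤ X.Modules)
  (c : Cocone D) (hc : IsColimit c)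

include hc in
/-- Over a compact open, a section killed in a directed colimit is killed at a finite stage. -/
theorem sec_eq_zero (i : α) (V : X.Opens) (hV : IsCompact (V : Set X)) (s : Γ(D.obj i, V))
    (h : ap (c.ι.app i) V s = 0) : ∃ (j : α) (hij : i ≤ j), ap (D.map (homOfLE hij)) V s = 0 := by
  have := Groth.Agent.Lib.ModSiteH8.toSheaf_preservesColimitsOfSize X.ringCatSheaf
  have hc' : IsColimit ((SheafOfModules.toSheaf X.ringCatSheaf).mapCocone c) :=
    isColimitOfPreserves (SheafOfModules.toSheaf X.ringCatSheaf) hc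
  exact ColimCoh.sec_eq_zero (X := X.toTopCat) (D ⋙ SheafOfModules.toSheaf X.ringCatSheaf)
    ((SheafOfModules.toSheaf X.ringCatSheaf).mapCocone c) hc' i V hV s h

include hc in
/-- Over a compact open of a quasi-separated scheme, every section of a directed colimit comes
from a finite stage. -/
theorem sec_exists_rep [QuasiSeparatedSpace X] (V : X.Opens) (hV : IsCompact (V : Set X))
    (t : Γ(c.pt, V)) : ∃ (i : α) (s : Γ(D.obj i, V)), ap (c.ι.app i) V s = t := by
  have := Groth.Agent.Lib.ModSiteH8.toSheaf_preservesColimitsOfSize X.ringCatSheaf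
  have hc' : IsColimit ((SheafOfModules.toSheaf X.ringCatSheaf).mapCocone c) :=
    isColimitOfPreserves (SheafOfModules.toSheaf X.ringCatSheaf) hc
  have hq : ColimCoh.QCQS (X := X.toTopCat) (⊤ : X.Opens) :=
    ColimCoh.qcqs_of_scheme (⊤ : X.Opens) (by
      simpa using (isQuasiSeparated_univ (α := X)))
  exact ColimCoh.sec_exists_rep (X := X.toTopCat) (D ⋙ SheafOfModules.toSheaf X.ringCatSheaf)
    ((SheafOfModules.toSheaf X.ringCatSheaf).mapCocone c) hc' hq V le_top hV t

omit [Nonempty α] in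
theorem map_trans {i j k : α} (hij : i ≤ j) (hjk : j ≤ k) (hik : i ≤ k) :
    D.map (homOfLE hik) = D.map (homOfLE hij) ≫ D.map (homOfLE hjk) :=
  (congrArg D.map (Subsingleton.elim _ _)).trans (D.map_comp _ _)

/-- a directed-finite principle -/
theorem exists_common {κ : Type*} (s : Finset κ) (Q : κ → α → Prop)
    (hmono : ∀ a i i', i ≤ i' → Q a i → Q a i') (hex : ∀ a ∈ s, ∃ i, Q a i) :
    ∃ i, ∀ a ∈ s, Q a i := by
  classical
  choose! f hf using hex
  obtain ⟨M, hM⟩ := Finset.exists_le (s.image f)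
  exact ⟨M, fun a ha => hmono a _ _ (hM _ (Finset.mem_image_of_mem f ha)) (hf a ha)⟩

include hc in
theorem exists_stage_zero_on_affine {N : X.Modules} [N.IsQuasicoherent]
    (hN : SheafOfModules.IsFiniteType (R := X.ringCatSheaf) N) (i : α) (h : N ⟶ D.obj i)
    (h0 : h ≫ c.ι.app i = 0) {V : X.Opens} (hV : IsAffineOpen V) :
    ∃ (k : α) (hik : i ≤ k), ∀ m : Γ(N, V), ap (D.map (homOfLE hik)) V (ap h V m) = 0 := by
  classical
  have hfin : Module.Finite Γ(X, V) Γ(N, V) := QCohFT.finite_of_isFiniteType N hV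
  obtain ⟨T, hT⟩ := hfin.fg_top
  have hkill : ∀ m : Γ(N, V), ∃ (j : α) (hij : i ≤ j),
      ap (D.map (homOfLE hij)) V (ap h V m) = 0 := by
    intro m
    apply sec_eq_zero D c hc i V hV.isCompact
    exact congrArg (fun χ : N ⟶ c.pt => ap χ V m) h0
  choose jm hjm hjm0 using hkill
  obtain ⟨k, hk⟩ := Finset.exists_le (insert i (T.image jm))
  have hik : i ≤ k := hk i (Finset.mem_insert_self _ _)
  refine ⟨k, hik, fun m => ?_⟩
  have hm : m ∈ Submodule.span Γ(X, V) (T : Set Γ(N, V)) := by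
    rw [hT]
    trivial
  induction hm using Submodule.span_induction with
  | mem n hn =>
    have hjk : jm n ≤ k := hk _ (Finset.mem_insert_of_mem (Finset.mem_image_of_mem jm hn))
    rw [map_trans D (hjm n) hjk hik]
    show ap (D.map (homOfLE hjk)) V (ap (D.map (homOfLE (hjm n))) V (ap h V n)) = 0
    rw [hjm0 n, map_zero]
  | zero => rw [map_zero, map_zero]
  | add x y _ _ hx hy => rw [map_add, map_add, hx, hy, add_zero]
  | smul r x _ hx => rw [ap_smul, ap_smul, hx, smul_zero]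

include hc in
/-- A morphism from a finite type quasi-coherent module to a term of a directed diagram which
vanishes in the colimit vanishes at a finite stage (`X` quasi-compact). -/
theorem exists_stage_comp_eq_zero [CompactSpace X] {N : X.Modules} [N.IsQuasicoherent]
    (hN : SheafOfModules.IsFiniteType (R := X.ringCatSheaf) N) (i : α) (h : N ⟶ D.obj i)
    (h0 : h ≫ c.ι.app i = 0) : ∃ (k : α) (hik : i ≤ k), h ≫ D.map (homOfLE hik) = 0 := by
  classical
  obtain ⟨t, ht⟩ := exists_finite_affine_cover (X := X)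
  have hV : ∀ V : X.affineOpens, ∃ (k : α) (hik : i ≤ k), ∀ m : Γ(N, V.1),
      ap (D.map (homOfLE hik)) V.1 (ap h V.1 m) = 0 :=
    fun V => exists_stage_zero_on_affine D c hc hN i h h0 V.2
  choose kV hkV hkV0 using hV
  obtain ⟨k, hk⟩ := Finset.exists_le (insert i (t.image kV))
  have hik : i ≤ k := hk i (Finset.mem_insert_self _ _)
  refine ⟨k, hik, hom_eq_zero_of_affine_cover _ (fun x => ?_)⟩
  obtain ⟨V, hVt, hxV⟩ := ht x
  refine ⟨V.1, V.2, hxV, fun m => ?_⟩
  have hVk : kV V ≤ k := hk _ (Finset.mem_insert_of_mem (Finset.mem_image_of_mem kV hVt))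
  show ap (D.map (homOfLE hik)) V.1 (ap h V.1 m) = 0
  rw [map_trans D (hkV V) hVk hik]
  show ap (D.map (homOfLE hVk)) V.1 (ap (D.map (homOfLE (hkV V))) V.1 (ap h V.1 m)) = 0
  rw [hkV0 V m, map_zero]

include hc in
/-- Two morphisms from a finite type quasi-coherent module to a term of a directed diagram which
agree in the colimit agree at a finite stage. -/
theorem exists_stage_eq [CompactSpace X] {N : X.Modules} [N.IsQuasicoherent]
    (hN : SheafOfModules.IsFiniteType (R := X.ringCatSheaf) N) (i : α) (g g' : N ⟶ D.obj i)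
    (h0 : g ≫ c.ι.app i = g' ≫ c.ι.app i) :
    ∃ (k : α) (hik : i ≤ k), g ≫ D.map (homOfLE hik) = g' ≫ D.map (homOfLE hik) := by
  obtain ⟨k, hik, hk⟩ := exists_stage_comp_eq_zero D c hc hN i (g - g') (by
    rw [Preadditive.sub_comp, h0, sub_self])
  refine ⟨k, hik, ?_⟩
  rw [Preadditive.sub_comp] at hk
  exact sub_eq_zero.1 hk

end Sections

section Hitting

variable [CompactSpace X] [QuasiSeparatedSpace X]

theorem exists_fp_hitting_family (P : X.Modules) [P.IsQuasicoherent]
    (t : Finset X.affineOpens) (T : ∀ V : X.affineOpens, Finset Γ(P, V.1)) :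
    ∃ (G : X.Modules) (ψ : G ⟶ P), G.IsQuasicoherent ∧
      SheafOfModules.IsFinitePresentation (R := X.ringCatSheaf) G ∧
      ∀ V ∈ t, ∀ n ∈ T V, ∃ s : Γ(G, V.1), ap ψ V.1 s = n := by
  have h : ∀ V : X.affineOpens, ∃ (G : X.Modules) (ψ : G ⟶ P), G.IsQuasicoherent ∧
      SheafOfModules.IsFinitePresentation (R := X.ringCatSheaf) G ∧
      ∀ n ∈ T V, ∃ s : Γ(G, V.1), ap ψ V.1 s = n :=
    fun V => FPExtH2.exists_fp_hitting P V.2 (T V)
  choose GV ψV hq hfp hhit using h
  obtain ⟨hq', hfp'⟩ := FPExtH2.isFinitePresentation_biproduct (fun V : ↥t => GV V.1)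
    (fun V => hfp V.1)
  refine ⟨⨁ (fun V : ↥t => GV V.1), biproduct.desc (fun V : ↥t => ψV V.1), hq', hfp', ?_⟩
  intro V hVt n hn
  obtain ⟨s, hs⟩ := hhit V n hn
  refine ⟨ap (biproduct.ι (fun V : ↥t => GV V.1) ⟨V, hVt⟩) V.1 s, ?_⟩
  have e := congrArg (fun χ : GV V ⟶ P => ap χ V.1 s)
    (biproduct.ι_desc (fun V : ↥t => ψV V.1) ⟨V, hVt⟩)
  exact e.trans hs

end Hitting

section Factor

variable [CompactSpace X] [QuasiSeparatedSpace X]
variable {α : Type u} [Preorder α] [IsDirected α (· ≤ ·)] [Nonempty α] (D : α ⥤ X.Modules)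
  (c : Cocone D) (hc : IsColimit c)

include hc in
/-- A morphism from a finitely presented module to a directed colimit of quasi-coherent modules
on a qcqs scheme factors through a finite stage. -/
theorem exists_factor (hD : ∀ i, (D.obj i).IsQuasicoherent) [c.pt.IsQuasicoherent]
    (F : X.Modules) [SheafOfModules.IsFinitePresentation (R := X.ringCatSheaf) F]
    (φ : F ⟶ c.pt) : ∃ (k : α) (g : F ⟶ D.obj k), g ≫ c.ι.app k = φ := by
  classical
  haveI : F.IsQuasicoherent := inferInstance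
  obtain ⟨t, ht⟩ := exists_finite_affine_cover (X := X)
  have hgen : ∀ V : X.affineOpens, ∃ T : Finset Γ(F, V.1),
      Submodule.span Γ(X, V.1) (T : Set Γ(F, V.1)) = ⊤ := fun V => by
    haveI : Module.FinitePresentation Γ(X, V.1) Γ(F, V.1) :=
      QCohFP2.finitePresentation_of_isFinitePresentation F V.2
    exact (inferInstance : Module.Finite Γ(X, V.1) Γ(F, V.1)).fg_top
  choose T hT using hgen
  -- a common stage to which the images of all the generators lift
  obtain ⟨i, hi⟩ := exists_common (α := α) (t.sigma T)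
    (fun (a : Σ V : X.affineOpens, Γ(F, V.1)) (i : α) =>
      ∃ y : Γ(D.obj i, a.1.1), ap (c.ι.app i) a.1.1 y = ap φ a.1.1 a.2)
    (fun a i i' hii' => by
      rintro ⟨y, hy⟩
      refine ⟨ap (D.map (homOfLE hii')) a.1.1 y, ?_⟩
      have e := congrArg (fun χ : D.obj i ⟶ c.pt => ap χ a.1.1 y) (c.w (homOfLE hii'))
      exact e.trans hy)
    (fun a _ => sec_exists_rep D c hc a.1.1 a.1.2.isCompact (ap φ a.1.1 a.2))
  haveI := hD i
  let ℓ : D.obj i ⟶ c.pt := c.ι.app i
  haveI hbq : (F ⊞ D.obj i).IsQuasicoherent := CohOpenH8.isQuasicoherent_biprod _ _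
  let d : F ⊞ D.obj i ⟶ c.pt := biprod.fst ≫ φ - biprod.snd ≫ ℓ
  haveI hPq : (kernel d).IsQuasicoherent := SubExt.isQuasicoherent_kernel d
  obtain ⟨p₁, hp₁⟩ : ∃ p₁ : kernel d ⟶ F, p₁ = kernel.ι d ≫ biprod.fst := ⟨_, rfl⟩
  obtain ⟨p₂, hp₂⟩ : ∃ p₂ : kernel d ⟶ D.obj i, p₂ = kernel.ι d ≫ biprod.snd := ⟨_, rfl⟩
  have hp : p₁ ≫ φ = p₂ ≫ ℓ := by
    have h1 : kernel.ι d ≫ (biprod.fst ≫ φ - biprod.snd ≫ ℓ) = 0 := kernel.condition d
    rw [Preadditive.comp_sub] at h1
    have h2 := sub_eq_zero.1 h1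
    rw [hp₁, hp₂, Category.assoc, Category.assoc]
    exact h2
  -- lifting the generators to the fibre product
  have hz : ∀ V ∈ t, ∀ m ∈ T V, ∃ z : Γ(kernel d, V.1), ap p₁ V.1 z = m := by
    intro V hV m hm
    obtain ⟨y, hy⟩ := hi ⟨V, m⟩ (Finset.mem_sigma.2 ⟨hV, hm⟩)
    have hy' : ap ℓ V.1 y = ap φ V.1 m := hy
    let z₀ : Γ(F ⊞ D.obj i, V.1) := (FPExtH2.biprodSectionsEquiv F (D.obj i) V.1).symm (m, y)
    have hz₀ : FPExtH2.biprodSectionsEquiv F (D.obj i) V.1 z₀ = (m, y) :=
      LinearEquiv.apply_symm_apply _ _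
    have h1 : ap (biprod.fst : F ⊞ D.obj i ⟶ F) V.1 z₀ = m := congrArg Prod.fst hz₀
    have h2 : ap (biprod.snd : F ⊞ D.obj i ⟶ D.obj i) V.1 z₀ = y := congrArg Prod.snd hz₀
    have hd0 : ap d V.1 z₀ = 0 := by
      show ap φ V.1 (ap (biprod.fst : F ⊞ D.obj i ⟶ F) V.1 z₀) -
        ap ℓ V.1 (ap (biprod.snd : F ⊞ D.obj i ⟶ D.obj i) V.1 z₀) = 0
      rw [h1, h2, hy', sub_self]
    let E : ShortComplex X.Modules := ShortComplex.mk (kernel.ι d) d (kernel.condition _)
    have hE : E.Exact := ShortComplex.exact_kernel d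
    haveI : Mono E.f := inferInstanceAs (Mono (kernel.ι d))
    obtain ⟨z, hz⟩ := QCohExact.app_exact E hE V.1 z₀ hd0
    have hz' : ap (kernel.ι d) V.1 z = z₀ := hz
    refine ⟨z, ?_⟩
    rw [hp₁]
    show ap (biprod.fst : F ⊞ D.obj i ⟶ F) V.1 (ap (kernel.ι d) V.1 z) = m
    rw [hz', h1]
  let zf : ∀ (V : X.affineOpens) (m : Γ(F, V.1)), Γ(kernel d, V.1) := fun V m =>
    if h : ∃ z : Γ(kernel d, V.1), ap p₁ V.1 z = m then h.choose else 0
  have hzf : ∀ V ∈ t, ∀ m ∈ T V, ap p₁ V.1 (zf V m) = m := by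
    intro V hV m hm
    have h := hz V hV m hm
    simp only [zf, dif_pos h]
    exact h.choose_spec
  obtain ⟨G, ψ, hGq, hGfp, hhit⟩ :=
    exists_fp_hitting_family (kernel d) t (fun V => (T V).image (zf V))
  haveI := hGq
  haveI := hGfp
  obtain ⟨q, hqdef⟩ : ∃ q : G ⟶ F, q = ψ ≫ p₁ := ⟨_, rfl⟩
  haveI hq : Epi q := by
    refine FPExtH2.epi_of_affine_surjective q (fun x => ?_)
    obtain ⟨V, hVt, hxV⟩ := ht x
    refine ⟨V.1, V.2, hxV, fun b => ?_⟩
    have hb : b ∈ Submodule.span Γ(X, V.1) (T V : Set Γ(F, V.1)) := by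
      rw [hT]
      trivial
    induction hb using Submodule.span_induction with
    | mem n hn =>
      obtain ⟨s, hs⟩ := hhit V hVt (zf V n) (Finset.mem_image_of_mem _ hn)
      refine ⟨s, ?_⟩
      rw [hqdef]
      show ap p₁ V.1 (ap ψ V.1 s) = n
      rw [hs, hzf V hVt n hn]
    | zero => exact ⟨0, map_zero _⟩
    | add x y _ _ hx hy =>
      obtain ⟨a, ha⟩ := hx
      obtain ⟨b', hb'⟩ := hy
      exact ⟨a + b', by rw [map_add, ha, hb']⟩
    | smul r x _ hx =>
      obtain ⟨a, ha⟩ := hx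
      exact ⟨r • a, by rw [ap_smul, ha]⟩
  obtain ⟨hNq, hNft⟩ := kernel_ft_of_fp q
  haveI := hNq
  have h0 : (kernel.ι q ≫ ψ ≫ p₂) ≫ c.ι.app i = 0 := by
    have e1 : (kernel.ι q ≫ ψ ≫ p₂) ≫ ℓ = (kernel.ι q ≫ q) ≫ φ := by
      have e2 : q ≫ φ = ψ ≫ p₂ ≫ ℓ := by rw [hqdef, Category.assoc, hp]
      simp only [Category.assoc]
      rw [e2]
    show (kernel.ι q ≫ ψ ≫ p₂) ≫ ℓ = 0
    rw [e1, kernel.condition, zero_comp]
  obtain ⟨k, hik, hk⟩ := exists_stage_comp_eq_zero D c hc (N := kernel q) hNft i (kernel.ι q ≫ ψ ≫ p₂) h0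
  have hk' : kernel.ι q ≫ (ψ ≫ p₂ ≫ D.map (homOfLE hik)) = 0 := by
    rw [← hk]
    simp only [Category.assoc]
  refine ⟨k, Abelian.epiDesc q (ψ ≫ p₂ ≫ D.map (homOfLE hik)) hk', ?_⟩
  rw [← cancel_epi q, ← Category.assoc, Abelian.comp_epiDesc]
  have hw : D.map (homOfLE hik) ≫ c.ι.app k = ℓ := c.w (homOfLE hik)
  rw [hqdef]
  simp only [Category.assoc]
  rw [hw, hp]

end Factor

section QCoh

variable [CompactSpace X] [QuasiSeparatedSpace X]

/-- A finitely presented module on a qcqs scheme is a compact object of `QCoh(X)`. -/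
theorem isFinitelyPresentable_of_fp (F : QCohCat.QCoh X)
    (hF : SheafOfModules.IsFinitePresentation (R := X.ringCatSheaf) F.obj) :
    IsFinitelyPresentable.{u} F := by
  haveI := hF
  rw [isFinitelyPresentable_iff_preservesFilteredColimitsOfSize]
  refine ⟨fun J _ _ => ⟨fun {K} => ?_⟩⟩
  obtain ⟨α, hα1, hα2, hα3, Φ, hΦ⟩ := IsFiltered.exists_directed J
  haveI := hΦ
  suffices h : PreservesColimit (Φ ⋙ K) (coyoneda.obj (op F)) from
    ColimCoh.preservesColimit_of_final Φ K _
  let K' : α ⥤ QCohCat.QCoh X := Φ ⋙ K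
  haveI := Groth.Agent.Lib.QCohGabL.preservesColimits_ι X
  let cQ : Cocone K' := colimit.cocone K'
  have hcQ : IsColimit cQ := colimit.isColimit K'
  let D : α ⥤ X.Modules := K' ⋙ (QCohCat.isQCoh X).ι
  let c : Cocone D := (QCohCat.isQCoh X).ι.mapCocone cQ
  have hc : IsColimit c := isColimitOfPreserves (QCohCat.isQCoh X).ι hcQ
  have hD : ∀ i, (D.obj i).IsQuasicoherent := fun i => (K'.obj i).property
  haveI : c.pt.IsQuasicoherent := cQ.pt.property
  refine preservesColimit_of_preserves_colimit_cocone hcQ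
    (Types.FilteredColimit.isColimitOf' _ _ ?_ ?_)
  · intro (φ : F ⟶ cQ.pt)
    obtain ⟨k, g, hg⟩ := exists_factor D c hc hD F.obj φ.hom
    refine ⟨k, (ObjectProperty.homMk g : F ⟶ K'.obj k), ?_⟩
    apply ObjectProperty.hom_ext
    exact hg.symm
  · intro i (g : F ⟶ K'.obj i) (g' : F ⟶ K'.obj i) hgg'
    have h0 : g.hom ≫ c.ι.app i = g'.hom ≫ c.ι.app i :=
      congrArg (fun χ : F ⟶ cQ.pt => χ.hom) hgg'
    haveI : F.obj.IsQuasicoherent := F.property
    obtain ⟨k, hik, hk⟩ := exists_stage_eq D c hc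
      (inferInstance : SheafOfModules.IsFiniteType (R := X.ringCatSheaf) F.obj) i g.hom g'.hom h0
    refine ⟨k, homOfLE hik, ?_⟩
    apply ObjectProperty.hom_ext
    exact hk

/-- A compact object of `QCoh(X)`, `X` qcqs, is finitely presented. -/
theorem fp_of_isFinitelyPresentable (F : QCohCat.QCoh X) (hF : IsFinitelyPresentable.{u} F) :
    SheafOfModules.IsFinitePresentation (R := X.ringCatSheaf) F.obj := by
  haveI hFq : F.obj.IsQuasicoherent := F.property
  obtain ⟨J, hP, hD, hN, D, c, ⟨hc⟩, hfp, hpt⟩ := FPExtH2.exists_directed_colimit_fp F.obj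
  obtain ⟨pt, ι⟩ := c
  have hpt' : pt = F.obj := hpt
  subst hpt'
  haveI : IsFiltered J := isFiltered_of_directed_le_nonempty J
  have hDq : ∀ j, (D.obj j).IsQuasicoherent := fun j => by
    haveI := hfp j
    infer_instance
  let D' : J ⥤ QCohCat.QCoh X := (QCohCat.isQCoh X).lift D hDq
  let c' : Cocone D' :=
    { pt := F
      ι :=
        { app := fun j => ObjectProperty.homMk (ι.app j)
          naturality := fun j j' f => by
            apply ObjectProperty.hom_ext
            exact ι.naturality f } }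
  have hc' : IsColimit c' := by
    refine isColimitOfReflects (QCohCat.isQCoh X).ι ?_
    exact hc
  obtain ⟨j, p, hp⟩ := IsFinitelyPresentable.exists_hom_of_isColimit hc' (𝟙 F)
  have hp' : p.hom ≫ ι.app j = 𝟙 F.obj := congrArg (fun χ : F ⟶ F => χ.hom) hp
  refine QCohFP.isFinitePresentation_of_sections F.obj (fun U => ?_)
  haveI := hfp j
  haveI : Module.FinitePresentation Γ(X, U.1) Γ(D.obj j, U.1) :=
    QCohFP2.finitePresentation_of_isFinitePresentation (D.obj j) U.2
  let r : Γ(D.obj j, U.1) →ₗ[Γ(X, U.1)] Γ(F.obj, U.1) :=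
    { toFun := ap (ι.app j) U.1, map_add' := map_add _,
      map_smul' := fun a m => ap_smul (ι.app j) a m }
  let s : Γ(F.obj, U.1) →ₗ[Γ(X, U.1)] Γ(D.obj j, U.1) :=
    { toFun := ap p.hom U.1, map_add' := map_add _,
      map_smul' := fun a m => ap_smul p.hom a m }
  have hrs : ∀ z, r (s z) = z := fun z =>
    congrArg (fun χ : F.obj ⟶ F.obj => ap χ U.1 z) hp'
  have hr : Function.Surjective r := fun z => ⟨s z, hrs z⟩
  refine Module.finitePresentation_of_surjective r hr ?_
  let e : Γ(D.obj j, U.1) →ₗ[Γ(X, U.1)] Γ(D.obj j, U.1) := LinearMap.id - s.comp r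
  have he : ∀ y, e y = y - s (r y) := fun y => rfl
  have hker : LinearMap.ker r = LinearMap.range e := by
    ext x
    constructor
    · intro hx
      refine ⟨x, ?_⟩
      have hx' : r x = 0 := hx
      rw [he, hx', map_zero, sub_zero]
    · rintro ⟨y, rfl⟩
      show r (e y) = 0
      rw [he, map_sub, hrs, sub_self]
  rw [hker, LinearMap.range_eq_map]
  exact Submodule.FG.map _ Module.Finite.fg_top

end QCoh

end Groth.Agent.Lib.FPCptH2
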