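import Mathlib

/-!
# Maps from finitely presented algebras into directed colimits (abstract concrete colimit) (lead)
-/

set_option autoImplicit false

namespace Groth.Agent.Lib.FPDirLim

open MvPolynomial

section
variable {A : Type*} [CommRing A] {κ : Type*} [Preorder κ] [IsDirected κ (· ≤ ·)] [Nonempty κ]
  {G : κ → Type*} [∀ i, CommRing (G i)] [∀ i, Algebra A (G i)]
  (t : ∀ i j, i ≤ j → G i →+* G j)
  (ht : ∀ i j (h : i ≤ j), (t i j h).comp (algebraMap A (G i)) = algebraMap A (G j))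
  (htt : ∀ i j k (h₁ : i ≤ j) (h₂ : j ≤ k) (x : G i),
    t j k h₂ (t i j h₁ x) = t i k (h₁.trans h₂) x)
  {L : Type*} [CommRing L] [Algebra A L] (of : ∀ i, G i →+* L)
  (hofA : ∀ i (x : A), of i (algebraMap A (G i) x) = algebraMap A L x)
  (hof : ∀ i j (h : i ≤ j) (x : G i), of j (t i j h x) = of i x)
  (hsurj : ∀ r : L, ∃ i x, of i x = r)
  (hzero : ∀ i (x : G i), of i x = 0 → ∃ j, ∃ h : i ≤ j, t i j h x = 0)

/-- transition maps as algebra maps -/
def tA (i j : κ) (h : i ≤ j) : G i →ₐ[A] G j :=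
  { t i j h with commutes' := fun x => RingHom.congr_fun (ht i j h) x }

omit [IsDirected κ (· ≤ ·)] [Nonempty κ] in
theorem tA_apply (i j : κ) (h : i ≤ j) (x : G i) : tA t ht i j h x = t i j h x := rfl

/-- colimit maps as algebra maps -/
def ofA (i : κ) : G i →ₐ[A] L :=
  { of i with commutes' := hofA i }

include htt hzero in
theorem finset_eq {R₀ : Type*} [CommRing R₀] [Algebra A R₀] (i : κ) (φ ψ : R₀ →ₐ[A] G i)
    (h : ∀ x, of i (φ x) = of i (ψ x)) (s : Finset R₀) :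
    ∃ j, ∃ hij : i ≤ j, ∀ x ∈ s, t i j hij (φ x) = t i j hij (ψ x) := by
  classical
  induction s using Finset.induction_on with
  | empty => exact ⟨i, le_rfl, fun x hx => absurd hx (Finset.notMem_empty x)⟩
  | insert x s hx ih =>
    obtain ⟨j₁, h₁, hj₁⟩ := ih
    have h0 : of i (φ x - ψ x) = 0 := by rw [map_sub, h x, sub_self]
    obtain ⟨j₂, h₂, hj₂⟩ := hzero i _ h0
    obtain ⟨j, hj₁j, hj₂j⟩ := exists_ge_ge j₁ j₂
    refine ⟨j, h₁.trans hj₁j, fun y hy => ?_⟩
    rcases Finset.mem_insert.1 hy with rfl | hy'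
    · have h3 : t i j (h₂.trans hj₂j) (φ y - ψ y) = 0 := by
        rw [← htt i j₂ j h₂ hj₂j, hj₂, map_zero]
      rw [map_sub, sub_eq_zero] at h3
      exact h3
    · rw [← htt i j₁ j h₁ hj₁j, ← htt i j₁ j h₁ hj₁j, hj₁ y hy']

include ht htt hzero in
theorem eq_of_finiteType {R₀ : Type*} [CommRing R₀] [Algebra A R₀] [Algebra.FiniteType A R₀]
    (i : κ) (φ ψ : R₀ →ₐ[A] G i) (h : ∀ x, of i (φ x) = of i (ψ x)) :
    ∃ j, ∃ hij : i ≤ j, ∀ x, t i j hij (φ x) = t i j hij (ψ x) := by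
  obtain ⟨s, hs⟩ := Algebra.FiniteType.out (R := A) (A := R₀)
  obtain ⟨j, hij, hj⟩ := finset_eq t htt of hzero i φ ψ h s
  have h2 : (tA t ht i j hij).comp φ = (tA t ht i j hij).comp ψ :=
    AlgHom.ext_of_adjoin_eq_top hs (fun x hx => hj x hx)
  exact ⟨j, hij, fun x => AlgHom.congr_fun h2 x⟩

include ht htt hofA hof hsurj hzero in
theorem exists_factor {R₀ : Type*} [CommRing R₀] [Algebra A R₀]
    [Algebra.FinitePresentation A R₀] (χ : R₀ →ₐ[A] L) :
    ∃ i, ∃ φ : R₀ →ₐ[A] G i, ∀ x, of i (φ x) = χ x := by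
  classical
  obtain ⟨n, π, hπ, s, hs⟩ := Algebra.FinitePresentation.out (R := A) (A := R₀)
  have hx : ∀ k : Fin n, ∃ i x, of i x = χ (π (X k)) := fun k => hsurj _
  choose ik yk hyk using hx
  obtain ⟨i, hi⟩ := Finset.exists_le (Finset.univ.image ik)
  have hik : ∀ k, ik k ≤ i := fun k => hi _ (Finset.mem_image_of_mem _ (Finset.mem_univ k))
  let y : Fin n → G i := fun k => t (ik k) i (hik k) (yk k)
  have hy : ∀ k, of i (y k) = χ (π (X k)) := fun k => by
    show of i (t (ik k) i (hik k) (yk k)) = _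
    rw [hof]; exact hyk k
  let θ : MvPolynomial (Fin n) A →ₐ[A] G i := MvPolynomial.aeval y
  have hθ : (ofA of hofA i).comp θ = χ.comp π := MvPolynomial.algHom_ext (fun k => by
    show of i (MvPolynomial.aeval y (X k)) = χ (π (X k))
    rw [MvPolynomial.aeval_X]; exact hy k)
  have hθ' : ∀ q, of i (θ q) = χ (π q) := fun q => AlgHom.congr_fun hθ q
  have hkill : ∀ (s' : Finset (MvPolynomial (Fin n) A)), (∀ g ∈ s', π g = 0) →
      ∃ j, ∃ h : i ≤ j, ∀ g ∈ s', t i j h (θ g) = 0 := by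
    intro s'
    induction s' using Finset.induction_on with
    | empty => intro _; exact ⟨i, le_rfl, fun g hg => absurd hg (Finset.notMem_empty g)⟩
    | insert g s' hg ih =>
      intro hall
      obtain ⟨j₁, h₁, hj₁⟩ := ih (fun g' hg' => hall g' (Finset.mem_insert_of_mem hg'))
      have h0 : of i (θ g) = 0 := by
        rw [hθ', hall g (Finset.mem_insert_self g s'), map_zero]
      obtain ⟨j₂, h₂, hj₂⟩ := hzero i _ h0
      obtain ⟨j, hj₁j, hj₂j⟩ := exists_ge_ge j₁ j₂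
      refine ⟨j, h₁.trans hj₁j, fun g' hg' => ?_⟩
      rcases Finset.mem_insert.1 hg' with rfl | hg''
      · rw [← htt i j₂ j h₂ hj₂j, hj₂, map_zero]
      · rw [← htt i j₁ j h₁ hj₁j, hj₁ g' hg'', map_zero]
  obtain ⟨j, hij, hj⟩ := hkill s (fun g hg => by
    have h1 : g ∈ RingHom.ker π.toRingHom := by rw [← hs]; exact Ideal.subset_span hg
    exact RingHom.mem_ker.1 h1)
  let θ' : MvPolynomial (Fin n) A →ₐ[A] G j := (tA t ht i j hij).comp θ
  have hle : RingHom.ker π.toRingHom ≤ RingHom.ker θ'.toRingHom := by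
    rw [← hs, Ideal.span_le]
    intro g hg
    exact RingHom.mem_ker.2 (hj g hg)
  refine ⟨j, AlgHom.liftOfSurjective π hπ θ' hle, fun r => ?_⟩
  obtain ⟨q, rfl⟩ := hπ r
  rw [AlgHom.liftOfSurjective_apply]
  show of j (t i j hij (θ q)) = χ (π q)
  rw [hof]; exact hθ' q

end

end Groth.Agent.Lib.FPDirLim
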