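import Mathlib

/-!
# Exactness of `N ⊗ (K₀ → K₁ → K₂)` for all modules `N` follows from the finitely presented ones
(helper2)
-/

namespace Groth.Agent.Lib.FPExact
open TensorProduct LinearMap

universe u
variable {R : Type u} [CommRing R] {K₀ K₁ K₂ : Type u} [AddCommGroup K₀] [AddCommGroup K₁]
  [AddCommGroup K₂] [Module R K₀] [Module R K₁] [Module R K₂]
  (d₁ : K₀ →ₗ[R] K₁) (d₂ : K₁ →ₗ[R] K₂)

/-- kernel ⊆ range for `N ⊗ -` -/
def E (N : Type u) [AddCommGroup N] [Module R N] : Prop :=
  ∀ z : N ⊗[R] K₁, lTensor N d₂ z = 0 → z ∈ LinearMap.range (lTensor N d₁)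

lemma comm_sq {A B X Y : Type u} [AddCommGroup A] [AddCommGroup B] [AddCommGroup X]
    [AddCommGroup Y] [Module R A] [Module R B] [Module R X] [Module R Y]
    (a : A →ₗ[R] B) (d : X →ₗ[R] Y) (t : A ⊗[R] X) :
    rTensor Y a (lTensor A d t) = lTensor B d (rTensor X a t) := by
  rw [← LinearMap.comp_apply, ← LinearMap.comp_apply, rTensor_comp_lTensor, lTensor_comp_rTensor]

/-- from finitely generated modules to all modules -/
lemma E_of_fg (h : ∀ (M : Type u) [AddCommGroup M] [Module R M], Module.Finite R M → E d₁ d₂ M)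
    (N : Type u) [AddCommGroup N] [Module R N] : E d₁ d₂ N := by
  intro z hz
  obtain ⟨P, hP, t, ht⟩ := TensorProduct.exists_of_fg z
  have hy : rTensor K₂ P.subtype (lTensor P d₂ t) = 0 := by
    rw [comm_sq, ht, hz]
  obtain ⟨Q, hPQ, hQ, hQ0⟩ := TensorProduct.eq_zero_of_fg_of_subtype_eq_zero hP hy
  have hfin : Module.Finite R Q := Module.Finite.iff_fg.2 hQ
  obtain ⟨w, hw⟩ := h Q hfin (rTensor K₁ (Submodule.inclusion hPQ) t) (by
    rw [← comm_sq, hQ0])
  refine ⟨rTensor K₀ Q.subtype w, ?_⟩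
  rw [← comm_sq, hw, ← LinearMap.comp_apply, ← rTensor_comp, Submodule.subtype_comp_inclusion, ht]

/-- from finitely presented modules to finitely generated modules -/
lemma E_of_fp
    (h : ∀ (M : Type u) [AddCommGroup M] [Module R M], Module.FinitePresentation R M → E d₁ d₂ M)
    (N : Type u) [AddCommGroup N] [Module R N] (hN : Module.Finite R N) : E d₁ d₂ N := by
  intro z hz
  obtain ⟨n, π, hπ⟩ := Module.Finite.exists_fin' R N
  obtain ⟨z', hz'⟩ := rTensor_surjective K₁ hπ z
  have hy : rTensor K₂ π (lTensor (Fin n → R) d₂ z') = 0 := by rw [comm_sq, hz', hz]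
  have hex : Function.Exact (rTensor K₂ (LinearMap.ker π).subtype) (rTensor K₂ π) :=
    rTensor_exact K₂ (LinearMap.exact_subtype_ker_map π) hπ
  obtain ⟨y', hy'⟩ := (hex _).1 hy
  obtain ⟨P, hP, y'', hy''⟩ := TensorProduct.exists_of_fg y'
  let G' : Submodule R (Fin n → R) := P.map (LinearMap.ker π).subtype
  have hG'fg : G'.FG := hP.map _
  have hG'le : G' ≤ LinearMap.ker π := by
    rintro _ ⟨x, -, rfl⟩
    exact x.2
  have hMfp : Module.FinitePresentation R ((Fin n → R) ⧸ G') :=
    Module.finitePresentation_of_surjective G'.mkQ (Submodule.mkQ_surjective _)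
      (by rw [Submodule.ker_mkQ]; exact hG'fg)
  let hh : ((Fin n → R) ⧸ G') →ₗ[R] N := G'.liftQ π hG'le
  have hq : hh ∘ₗ G'.mkQ = π := Submodule.liftQ_mkQ _ _ _
  have hzero : G'.mkQ ∘ₗ (LinearMap.ker π).subtype ∘ₗ P.subtype = 0 := by
    ext x
    simp only [LinearMap.coe_comp, Function.comp_apply, Submodule.coe_subtype,
      Submodule.mkQ_apply, LinearMap.zero_apply, Submodule.Quotient.mk_eq_zero]
    exact Submodule.mem_map_of_mem x.2
  have hz'' : lTensor ((Fin n → R) ⧸ G') d₂ (rTensor K₁ G'.mkQ z') = 0 := by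
    rw [← comm_sq, ← hy', ← hy'', ← LinearMap.comp_apply, ← LinearMap.comp_apply, ← rTensor_comp,
      ← rTensor_comp, LinearMap.comp_assoc, hzero, rTensor_zero, LinearMap.zero_apply]
  obtain ⟨w', hw'⟩ := h _ hMfp _ hz''
  refine ⟨rTensor K₀ hh w', ?_⟩
  rw [← comm_sq, hw', ← LinearMap.comp_apply, ← rTensor_comp, hq, hz']

/-- **from finitely presented modules to all modules** -/
theorem E_all
    (h : ∀ (M : Type u) [AddCommGroup M] [Module R M], Module.FinitePresentation R M → E d₁ d₂ M)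
    (N : Type u) [AddCommGroup N] [Module R N] : E d₁ d₂ N :=
  E_of_fg d₁ d₂ (fun M _ _ hM => E_of_fp d₁ d₂ h M hM) N

lemma comm_rTensor {X Y N : Type u} [AddCommGroup X] [AddCommGroup Y] [AddCommGroup N]
    [Module R X] [Module R Y] [Module R N] (d : X →ₗ[R] Y) (z : X ⊗[R] N) :
    TensorProduct.comm R Y N (rTensor N d z) = lTensor N d (TensorProduct.comm R X N z) := by
  induction z using TensorProduct.induction_on with
  | zero => simp
  | tmul x n => simp
  | add a b ha hb => simp [ha, hb]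

/-- the version with the variable module on the right -/
theorem rTensor_all
    (h : ∀ (M : Type u) [AddCommGroup M] [Module R M], Module.FinitePresentation R M →
      ∀ z : K₁ ⊗[R] M, rTensor M d₂ z = 0 → z ∈ LinearMap.range (rTensor M d₁))
    (N : Type u) [AddCommGroup N] [Module R N] (z : K₁ ⊗[R] N) (hz : rTensor N d₂ z = 0) :
    z ∈ LinearMap.range (rTensor N d₁) := by
  have hE : ∀ (M : Type u) [AddCommGroup M] [Module R M], Module.FinitePresentation R M →
      E d₁ d₂ M := by
    intro M _ _ hM z hz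
    obtain ⟨w, hw⟩ := h M hM ((TensorProduct.comm R K₁ M).symm z) (by
      apply (TensorProduct.comm R K₂ M).injective
      rw [comm_rTensor, LinearEquiv.apply_symm_apply, hz, map_zero])
    refine ⟨TensorProduct.comm R K₀ M w, ?_⟩
    rw [← comm_rTensor, hw, LinearEquiv.apply_symm_apply]
  obtain ⟨w, hw⟩ := E_all d₁ d₂ hE N (TensorProduct.comm R K₁ N z) (by
    rw [← comm_rTensor, hz, map_zero])
  refine ⟨(TensorProduct.comm R K₀ N).symm w, ?_⟩
  apply (TensorProduct.comm R K₁ N).injective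
  rw [comm_rTensor, LinearEquiv.apply_symm_apply, hw]

end Groth.Agent.Lib.FPExact
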