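import Mathlib

namespace Groth.Agent.Lib.FPLiftLocQuot

universe u

section Lprime

variable {R₁ : Type u} [CommRing R₁] (p : Submonoid R₁)
  (M' : Type u) [AddCommGroup M'] [Module (Localization p) M']
  [Module.FinitePresentation (Localization p) M']

theorem exists_model :
    ∃ (n : ℕ) (V₁ : Submodule R₁ (Fin n → R₁)), V₁.FG ∧
      Nonempty (LocalizedModule p ((Fin n → R₁) ⧸ V₁) ≃ₗ[Localization p] M') := by
  classical
  obtain ⟨n, K, e, hK⟩ := Module.FinitePresentation.exists_fin (Localization p) M'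
  obtain ⟨T, hT⟩ := hK
  let F : (Fin n → R₁) →ₗ[R₁] (Fin n → Localization p) :=
    LinearMap.pi fun i => Algebra.linearMap R₁ (Localization p) ∘ₗ LinearMap.proj i
  have hF : ∀ v i, F v i = algebraMap R₁ (Localization p) (v i) := fun v i => rfl
  obtain ⟨b, hb⟩ := IsLocalization.exist_integer_multiples p
    (T ×ˢ (Finset.univ : Finset (Fin n)))
    (fun x : (Fin n → Localization p) × Fin n => x.1 x.2)
  have hex : ∀ t ∈ T, ∃ v : Fin n → R₁, F v = (b : R₁) • t := by
    intro t ht
    have h' : ∀ i, ∃ a : R₁, algebraMap R₁ (Localization p) a = (b : R₁) • t i := fun i => by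
      obtain ⟨a, ha⟩ := hb (t, i) (Finset.mem_product.mpr ⟨ht, Finset.mem_univ i⟩)
      exact ⟨a, ha⟩
    choose a ha using h'
    exact ⟨a, funext fun i => by simp only [hF, ha, Pi.smul_apply]⟩
  choose! v hv using hex
  have hV₁fg : (Submodule.span R₁ (v '' (T : Set (Fin n → Localization p)))).FG :=
    Submodule.fg_span ((T.finite_toSet).image v)
  have hunit : IsUnit (algebraMap R₁ (Localization p) (b : R₁)) := IsLocalization.map_units _ b
  have hloc : (Submodule.span R₁ (v '' (T : Set (Fin n → Localization p)))).localized'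
      (Localization p) p F = K := by
    rw [Submodule.localized'_span, ← hT]
    apply le_antisymm
    · rw [Submodule.span_le]
      rintro _ ⟨_, ⟨t, ht, rfl⟩, rfl⟩
      rw [SetLike.mem_coe, hv t ht, ← algebraMap_smul (Localization p) (b : R₁) t]
      exact Submodule.smul_mem _ _ (Submodule.subset_span ht)
    · rw [Submodule.span_le]
      intro t ht
      obtain ⟨u, hu⟩ := hunit
      have h1 : F (v t) ∈ Submodule.span (Localization p)
          (F '' (v '' (T : Set (Fin n → Localization p)))) :=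
        Submodule.subset_span ⟨v t, ⟨t, ht, rfl⟩, rfl⟩
      have h2 : t = (↑u⁻¹ : Localization p) • F (v t) := by
        rw [hv t ht, ← algebraMap_smul (Localization p) (b : R₁) t, ← hu, smul_smul,
          Units.inv_mul, one_smul]
      have h3 := Submodule.smul_mem _ (↑u⁻¹ : Localization p) h1
      rw [← h2] at h3
      exact h3
  refine ⟨n, Submodule.span R₁ (v '' (T : Set (Fin n → Localization p))), hV₁fg, ⟨?_⟩⟩
  let ι₁ := IsLocalizedModule.iso p
    ((Submodule.span R₁ (v '' (T : Set (Fin n → Localization p)))).toLocalizedQuotient'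
      (Localization p) p F)
  let ι₂ := ι₁.extendScalarsOfIsLocalization p (Localization p)
  let ι₃ := Submodule.quotEquivOfEq _ _ hloc
  exact ι₂ ≪≫ₗ ι₃ ≪≫ₗ e.symm

end Lprime

section L

variable {R : Type u} [CommRing R] (I : Ideal R) (n : ℕ)

theorem mem_smul_top_of_coord (x : Fin n → R) (hx : ∀ i, x i ∈ I) :
    x ∈ (I • ⊤ : Submodule R (Fin n → R)) := by
  classical
  rw [pi_eq_sum_univ x]
  refine Submodule.sum_mem _ (fun i _ => ?_)
  exact Submodule.smul_mem_smul (hx i) Submodule.mem_top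

theorem exists_lift (V₁ : Submodule (R ⧸ I) (Fin n → R ⧸ I)) (hV₁ : V₁.FG) :
    ∃ V : Submodule R (Fin n → R), V.FG ∧
      Nonempty ((((Fin n → R) ⧸ V) ⧸ (I • ⊤ : Submodule R ((Fin n → R) ⧸ V))) ≃ₗ[R ⧸ I]
        ((Fin n → R ⧸ I) ⧸ V₁)) := by
  classical
  obtain ⟨T₁, hT₁⟩ := hV₁
  let π : (Fin n → R) →ₗ[R] (Fin n → R ⧸ I) := (Algebra.linearMap R (R ⧸ I)).compLeft (Fin n)
  have hπ : ∀ x i, π x i = Ideal.Quotient.mk I (x i) := fun x i => rfl
  have hπsurj : Function.Surjective π := by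
    intro y
    choose x hx using fun i => Ideal.Quotient.mk_surjective (y i)
    exact ⟨x, funext fun i => by rw [hπ, hx]⟩
  choose w hw using hπsurj
  have hVfg : (Submodule.span R (w '' (T₁ : Set (Fin n → R ⧸ I)))).FG :=
    Submodule.fg_span ((T₁.finite_toSet).image w)
  have hle : Submodule.span R (w '' (T₁ : Set (Fin n → R ⧸ I))) ≤
      (V₁.restrictScalars R).comap π := by
    rw [Submodule.span_le]
    rintro _ ⟨t, ht, rfl⟩
    show π (w t) ∈ V₁
    rw [hw t, ← hT₁]
    exact Submodule.subset_span ht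
  let ψ : (Fin n → R) ⧸ Submodule.span R (w '' (T₁ : Set (Fin n → R ⧸ I))) →ₗ[R]
      (Fin n → R ⧸ I) ⧸ V₁ :=
    Submodule.mapQ _ (V₁.restrictScalars R) π hle
  have hψ : ∀ x, ψ (Submodule.Quotient.mk x) = Submodule.Quotient.mk (π x) := fun x => rfl
  have hkill : (I • ⊤ : Submodule R
      ((Fin n → R) ⧸ Submodule.span R (w '' (T₁ : Set (Fin n → R ⧸ I))))) ≤ LinearMap.ker ψ := by
    rw [Submodule.smul_le]
    intro r hr x _
    rw [LinearMap.mem_ker, map_smul, ← algebraMap_smul (R ⧸ I) r (ψ x)]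
    have h0 : algebraMap R (R ⧸ I) r = 0 := Ideal.Quotient.eq_zero_iff_mem.mpr hr
    rw [h0, zero_smul]
  let Ψ := Submodule.liftQ (I • ⊤ : Submodule R
      ((Fin n → R) ⧸ Submodule.span R (w '' (T₁ : Set (Fin n → R ⧸ I))))) ψ hkill
  have hΨ : ∀ x, Ψ (Submodule.Quotient.mk (Submodule.Quotient.mk x)) =
      Submodule.Quotient.mk (π x) := fun x => rfl
  have hsurj : Function.Surjective Ψ := by
    intro y
    obtain ⟨t', rfl⟩ := Submodule.Quotient.mk_surjective _ y
    exact ⟨Submodule.Quotient.mk (Submodule.Quotient.mk (w t')), by rw [hΨ, hw]⟩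
  have hmapV : ∀ y ∈ V₁, ∃ v ∈ Submodule.span R (w '' (T₁ : Set (Fin n → R ⧸ I))), π v = y := by
    intro y hy
    rw [← hT₁] at hy
    induction hy using Submodule.span_induction with
    | mem t ht => exact ⟨w t, Submodule.subset_span ⟨t, ht, rfl⟩, hw t⟩
    | zero => exact ⟨0, Submodule.zero_mem _, map_zero π⟩
    | add a b _ _ ha hb =>
      obtain ⟨va, hva, rfl⟩ := ha
      obtain ⟨vb, hvb, rfl⟩ := hb
      exact ⟨va + vb, Submodule.add_mem _ hva hvb, map_add π va vb⟩
    | smul c a _ ha =>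
      obtain ⟨va, hva, rfl⟩ := ha
      obtain ⟨r, rfl⟩ := Ideal.Quotient.mk_surjective c
      refine ⟨r • va, Submodule.smul_mem _ r hva, ?_⟩
      rw [map_smul]
      exact (algebraMap_smul (R ⧸ I) r (π va)).symm
  have hinj : Function.Injective Ψ := by
    rw [← LinearMap.ker_eq_bot, LinearMap.ker_eq_bot']
    intro z hz
    obtain ⟨z', rfl⟩ := Submodule.Quotient.mk_surjective _ z
    obtain ⟨u, rfl⟩ := Submodule.Quotient.mk_surjective _ z'
    rw [hΨ] at hz
    have hu : π u ∈ V₁ := (Submodule.Quotient.mk_eq_zero _).mp hz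
    obtain ⟨v, hvV, hvu⟩ := hmapV _ hu
    have hcoord : ∀ i, (u - v) i ∈ I := by
      intro i
      have h0 : π (u - v) i = 0 := by simp [map_sub, hvu]
      rw [hπ] at h0
      exact Ideal.Quotient.eq_zero_iff_mem.mp h0
    have h1 : u - v ∈ (I • ⊤ : Submodule R (Fin n → R)) := mem_smul_top_of_coord I n _ hcoord
    have h2 : (Submodule.Quotient.mk (u - v) :
        (Fin n → R) ⧸ Submodule.span R (w '' (T₁ : Set (Fin n → R ⧸ I)))) ∈
        (I • ⊤ : Submodule R
          ((Fin n → R) ⧸ Submodule.span R (w '' (T₁ : Set (Fin n → R ⧸ I))))) := by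
      have h3 : Submodule.map (Submodule.span R (w '' (T₁ : Set (Fin n → R ⧸ I)))).mkQ
          (I • ⊤ : Submodule R (Fin n → R)) ≤ I • ⊤ := by
        rw [Submodule.map_smul'']
        exact Submodule.smul_mono le_rfl le_top
      exact h3 ⟨u - v, h1, rfl⟩
    have h4 : (Submodule.Quotient.mk u :
        (Fin n → R) ⧸ Submodule.span R (w '' (T₁ : Set (Fin n → R ⧸ I)))) =
        Submodule.Quotient.mk (u - v) := by
      rw [Submodule.Quotient.eq]
      simpa using hvV
    rw [h4]
    exact (Submodule.Quotient.mk_eq_zero _).mpr h2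
  refine ⟨Submodule.span R (w '' (T₁ : Set (Fin n → R ⧸ I))), hVfg, ⟨?_⟩⟩
  haveI : IsScalarTower R (R ⧸ I)
      (((Fin n → R) ⧸ Submodule.span R (w '' (T₁ : Set (Fin n → R ⧸ I)))) ⧸
        (I • ⊤ : Submodule R
          ((Fin n → R) ⧸ Submodule.span R (w '' (T₁ : Set (Fin n → R ⧸ I)))))) :=
    IsScalarTower.of_algebraMap_smul (fun r x => by
      obtain ⟨m, rfl⟩ := Submodule.Quotient.mk_surjective _ x
      rfl)
  exact (LinearEquiv.ofBijective Ψ ⟨hinj, hsurj⟩).extendScalarsOfSurjective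
    Ideal.Quotient.mk_surjective

end L

theorem main (R : Type u) [CommRing R] (I : Ideal R) (S : Submonoid R) (M' : Type u)
    [AddCommGroup M'] [Module (Localization (S.map (Ideal.Quotient.mk I))) M']
    [Module.FinitePresentation (Localization (S.map (Ideal.Quotient.mk I))) M'] :
    ∃ (M : Type u) (_ : AddCommGroup M) (_ : Module R M), Module.FinitePresentation R M ∧
      Nonempty (LocalizedModule (S.map (Ideal.Quotient.mk I)) (M ⧸ (I • ⊤ : Submodule R M))
        ≃ₗ[Localization (S.map (Ideal.Quotient.mk I))] M') := by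
  obtain ⟨n, V₁, hV₁, ⟨iso₁⟩⟩ := exists_model (S.map (Ideal.Quotient.mk I)) M'
  obtain ⟨V, hV, ⟨Θ⟩⟩ := exists_lift I n V₁ hV₁
  refine ⟨(Fin n → R) ⧸ V, inferInstance, inferInstance, ?_, ⟨?_⟩⟩
  · exact Module.finitePresentation_of_free_of_surjective V.mkQ (Submodule.mkQ_surjective V)
      (by rw [Submodule.ker_mkQ]; exact hV)
  · haveI : IsLocalizedModule (S.map (Ideal.Quotient.mk I))
        (LocalizedModule.mkLinearMap (S.map (Ideal.Quotient.mk I)) ((Fin n → R ⧸ I) ⧸ V₁) ∘ₗ
          Θ.toLinearMap) := inferInstance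
    let j := IsLocalizedModule.iso (S.map (Ideal.Quotient.mk I))
      (LocalizedModule.mkLinearMap (S.map (Ideal.Quotient.mk I)) ((Fin n → R ⧸ I) ⧸ V₁) ∘ₗ
        Θ.toLinearMap)
    exact (j.extendScalarsOfIsLocalization (S.map (Ideal.Quotient.mk I))
      (Localization (S.map (Ideal.Quotient.mk I)))) ≪≫ₗ iso₁

end Groth.Agent.Lib.FPLiftLocQuot
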