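import Mathlib
import Groth.Agent.Lib.AlgColim2_helper7

/-!
# A retract of a finitely presented algebra is finitely presented; algebras for which
`Hom(B, -)` preserves directed colimits are finitely presented (helper7)
-/

set_option autoImplicit false
universe u
open CategoryTheory Limits

namespace Groth.Agent.Lib.FPRetractH7

theorem fp_of_retract {R P B : Type u} [CommRing R] [CommRing P] [CommRing B] [Algebra R P]
    [Algebra R B] [Algebra.FinitePresentation R P] (π : P →ₐ[R] B) (s : B →ₐ[R] P)
    (h : ∀ b, π (s b) = b) : Algebra.FinitePresentation R B := by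
  classical
  have hπ : Function.Surjective π := fun b => ⟨s b, h b⟩
  refine Algebra.FinitePresentation.of_surjective hπ ?_
  obtain ⟨t, ht⟩ := (Algebra.FiniteType.out : (⊤ : Subalgebra R P).FG)
  let e : P →ₐ[R] P := s.comp π
  have he : ∀ x, e x = s (π x) := fun x => rfl
  let J : Ideal P := Ideal.span ((fun x => x - e x) '' (t : Set P))
  have hJ : J.FG := Submodule.fg_span (t.finite_toSet.image _)
  have key : ∀ y : P, y - e y ∈ J := by
    intro y
    have hy : y ∈ Algebra.adjoin R (t : Set P) := by
      rw [ht]
      trivial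
    induction hy using Algebra.adjoin_induction with
    | mem x hx => exact Ideal.subset_span ⟨x, hx, rfl⟩
    | algebraMap r =>
      rw [e.commutes, sub_self]
      exact J.zero_mem
    | add x y _ _ hx hy =>
      have h1 : x + y - e (x + y) = (x - e x) + (y - e y) := by
        rw [map_add]
        ring
      rw [h1]
      exact J.add_mem hx hy
    | mul x y _ _ hx hy =>
      have h1 : x * y - e (x * y) = (x - e x) * y + e x * (y - e y) := by
        rw [map_mul]
        ring
      rw [h1]
      exact J.add_mem (J.mul_mem_right _ hx) (J.mul_mem_left _ hy)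
  suffices hk : RingHom.ker π.toRingHom = J by
    rw [hk]
    exact hJ
  apply le_antisymm
  · intro y hy
    have h0 : π y = 0 := hy
    have h1 : e y = 0 := by rw [he, h0, map_zero]
    have h2 := key y
    rwa [h1, sub_zero] at h2
  · rw [Ideal.span_le]
    rintro _ ⟨x, _, rfl⟩
    show π (x - e x) = 0
    rw [map_sub, he, h, sub_self]

theorem ringHom_fp_of_retract {R P B : Type u} [CommRing R] [CommRing P] [CommRing B]
    (a : R →+* P) (b : R →+* B) (π : P →+* B) (s : B →+* P) (hπ : π.comp a = b)
    (hs : s.comp b = a) (h : ∀ x, π (s x) = x) (ha : a.FinitePresentation) :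
    b.FinitePresentation := by
  letI := a.toAlgebra
  letI := b.toAlgebra
  haveI : Algebra.FinitePresentation R P := ha
  let π' : P →ₐ[R] B := { π with commutes' := fun r => RingHom.congr_fun hπ r }
  let s' : B →ₐ[R] P := { s with commutes' := fun r => RingHom.congr_fun hs r }
  exact fp_of_retract π' s' h

/-- If `Hom_A(B, -)` preserves directed colimits then `B` is finitely presented over `A`. -/
theorem fp_of_preservesColimit {A B : CommRingCat.{u}} (f : A ⟶ B)
    (h : ∀ (J : Type u) [Preorder J] [IsDirected J (· ≤ ·)] [Nonempty J] (F : J ⥤ Under A),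
      Limits.PreservesColimit F (coyoneda.obj (Opposite.op (Under.mk f)))) :
    f.hom.FinitePresentation := by
  letI : Algebra A B := f.hom.toAlgebra
  let F : Groth.Agent.Lib.AlgColim2H7.Idx A B ⥤ Under A :=
    Groth.Agent.Lib.AlgColim2H7.D (R := A) (A := B)
  let c : Cocone F := Groth.Agent.Lib.AlgColim2H7.cocone
  have hc : IsColimit c := Groth.Agent.Lib.AlgColim2H7.isColimit
  haveI := h (Groth.Agent.Lib.AlgColim2H7.Idx A B) F
  have hc' := isColimitOfPreserves (coyoneda.obj (Opposite.op (Under.mk f))) hc
  obtain ⟨p, s, hs⟩ := Types.jointly_surjective_of_isColimit hc'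
    (𝟙 (Under.mk f) : Under.mk f ⟶ c.pt)
  have hs' : s ≫ c.ι.app p = 𝟙 (Under.mk f) := hs
  have h1 : ∀ x : B, (c.ι.app p).right.hom (s.right.hom x) = x := by
    intro x
    have := congrArg (fun t => t.right.hom x) hs'
    exact this
  have h2 : s.right.hom.comp f.hom = (F.obj p).hom.hom := by
    have := Under.w s
    exact congrArg CommRingCat.Hom.hom this
  have h3 : (c.ι.app p).right.hom.comp (F.obj p).hom.hom = f.hom := by
    have := Under.w (c.ι.app p)
    exact congrArg CommRingCat.Hom.hom this
  exact ringHom_fp_of_retract (F.obj p).hom.hom f.hom (c.ι.app p).right.hom s.right.hom h3 h2 h1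
    (Groth.Agent.Lib.AlgColim2H7.D_fp p)

end Groth.Agent.Lib.FPRetractH7
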