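import Mathlib
import Groth.Agent.Lib.FT13_helper6
import Groth.Agent.Lib.FT5_helper6

/-!
# Vanishing of `H^i(Γ_T I)` from local vanishing, without any bound on the dimension (helper6)

For a complex `I` of injective modules over a Noetherian ring, a set `T` stable under specialization and a
single degree `i`: if for every `p ∈ T` every class of `H^i(Γ_p I)` is killed by some `t ∉ p`, then
`H^i(Γ_T I) = 0`.  The Cousin induction is run inside the (finite dimensional) set of generalizations
of a fixed prime `q`.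
-/

set_option autoImplicit false
set_option linter.style.haveILetI false
set_option linter.unusedSectionVars false
set_option linter.unusedVariables false
universe u
open CategoryTheory CategoryTheory.Limits

namespace Groth.Agent.Lib.FinStalk

open Groth.Agent.HomologyColim Groth.Agent.Lib.HDIColim Groth.Agent.Lib.RGamma
  Groth.Agent.Lib.FaltT

variable {A : Type u} [CommRing A] [IsNoetherianRing A]

/-- a strictly monotone `ℕ`-valued function on the spectrum -/
noncomputable def ht (p : PrimeSpectrum A) : ℕ := p.asIdeal.height.toNat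

lemma ht_lt {p p' : PrimeSpectrum A} (h : p < p') : ht p < ht p' := by
  have h1 : p.asIdeal.height < p'.asIdeal.height :=
    Ideal.height_strict_mono_of_isPrime (show p.asIdeal < p'.asIdeal from h)
  have h2 : p'.asIdeal.height < ⊤ := Ideal.height_lt_top_of_isPrime
  have h3 : p.asIdeal.height < ⊤ := Ideal.height_lt_top_of_isPrime
  unfold ht
  lift p.asIdeal.height to ℕ using h3.ne with a
  lift p'.asIdeal.height to ℕ using h2.ne with b
  simpa using h1

lemma ht_le {p p' : PrimeSpectrum A} (h : p ≤ p') : ht p ≤ ht p' := by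
  rcases eq_or_lt_of_le h with h | h
  · rw [h]
  · exact (ht_lt h).le

section Levels

variable (T : Set (PrimeSpectrum A)) (q : PrimeSpectrum A)

/-- the levels: points of `T` not generalizing `q`, together with the generalizations of `q` in `T` of
height at least `k` -/
def Lv (k : ℕ) : Set (PrimeSpectrum A) := {p | p ∈ T ∧ (p ≤ q → k ≤ ht p)}

variable {T}

lemma stable_Lv (hT : StableUnderSpecialization T) (k : ℕ) :
    StableUnderSpecialization (Lv T q k) := by
  intro p p' hpp' hp
  have hle : p ≤ p' := (PrimeSpectrum.le_iff_specializes _ _).2 hpp'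
  refine ⟨hT hpp' hp.1, fun hp'q => ?_⟩
  exact (hp.2 (hle.trans hp'q)).trans (ht_le hle)

lemma Lv_zero : Lv T q 0 = T := by
  ext p
  simp [Lv]

lemma Lv_succ_subset (k : ℕ) : Lv T q (k + 1) ⊆ Lv T q k :=
  fun p hp => ⟨hp.1, fun h => (Nat.le_succ k).trans (hp.2 h)⟩

lemma gen_Lv (k : ℕ) (p : PrimeSpectrum A) (hp : p ∈ Lv T q k) (hp' : p ∉ Lv T q (k + 1))
    (p' : PrimeSpectrum A) (hlt : p' < p) : p' ∉ Lv T q k := by
  intro hmem
  have hpq : p ≤ q := by
    by_contra hcon
    exact hp' ⟨hp.1, fun h => absurd h hcon⟩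
  have hk : ¬ (k + 1 ≤ ht p) := fun h => hp' ⟨hp.1, fun _ => h⟩
  have h1 := hmem.2 (hlt.le.trans hpq)
  have h2 := ht_lt hlt
  omega

end Levels

variable {T : Set (PrimeSpectrum A)}

/-- **Cousin vanishing, local form.** -/
theorem exists_kill_homology_ΓT_of_local (hT : StableUnderSpecialization T)
    (I : DRing.Cx A) (hI : ∀ n, Module.Injective A (I.X n)) (i : ℤ) (q : PrimeSpectrum A)
    (hloc : ∀ p : PrimeSpectrum A, p ∈ T → p ≤ q →
      ∀ h : ((ΓC p.asIdeal).obj I).homology i, ∃ t : A, t ∉ p.asIdeal ∧ t • h = 0) :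
    ∀ h : ((ΓTC T).obj I).homology i, ∃ t : A, t ∉ q.asIdeal ∧ t • h = 0 := by
  have key : ∀ (j : ℕ) (V : Set (PrimeSpectrum A)), V = Lv T q (ht q + 1 - j) →
      ∀ h : ((ΓTC V).obj I).homology i, ∃ t : A, t ∉ q.asIdeal ∧ t • h = 0 := by
    intro j
    induction j with
    | zero =>
      intro V hV h
      obtain ⟨𝔞, h𝔞, hk⟩ := exists_inT_kills_homology V I i h
      have hnle : ¬ 𝔞 ≤ q.asIdeal := by
        intro hle
        have hq : q ∈ V := h𝔞 ((PrimeSpectrum.mem_zeroLocus _ _).2 hle)
        rw [hV] at hq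
        have := hq.2 le_rfl
        omega
      obtain ⟨t, ht𝔞, htq⟩ := Set.not_subset.1 hnle
      exact ⟨t, htq, hk t ht𝔞⟩
    | succ j ih =>
      intro V hV h
      by_cases hj : ht q + 1 ≤ j
      · -- the level does not change
        refine ih V ?_ h
        rw [hV]
        congr 1
        omega
      · subst hV
        have hk1 : ht q + 1 - j = (ht q + 1 - (j + 1)) + 1 := by omega
        have hVst := stable_Lv q hT (ht q + 1 - (j + 1))
        have hUV : Lv T q (ht q + 1 - j) ⊆ Lv T q (ht q + 1 - (j + 1)) := by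
          rw [hk1]
          exact Lv_succ_subset q _
        have hgen : ∀ p : PrimeSpectrum A, p ∈ Lv T q (ht q + 1 - (j + 1)) →
            p ∉ Lv T q (ht q + 1 - j) → ∀ p' : PrimeSpectrum A, p' < p →
            p' ∉ Lv T q (ht q + 1 - (j + 1)) := by
          intro p hp hp' p' hlt
          rw [hk1] at hp'
          exact gen_Lv q _ p hp hp' p' hlt
        have hloc' : ∀ p : PrimeSpectrum A, p ∈ Lv T q (ht q + 1 - (j + 1)) →
            p ∉ Lv T q (ht q + 1 - j) → ∃ t : A, t ∉ p.asIdeal ∧ t • h = 0 := by
          intro p hp hp'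
          have hpq : p ≤ q := by
            by_contra hcon
            exact hp' ⟨hp.1, fun h => absurd h hcon⟩
          obtain ⟨t, ht, hk⟩ := killsAt_ΓV_of_killsAt_Γq hVst p hp (hgen p hp hp') I i 1
            (fun h' => by
              obtain ⟨t, ht, hk⟩ := hloc p hp.1 hpq h'
              exact ⟨t, ht, by rw [mul_one]; exact hk⟩) h
          exact ⟨t, ht, by rw [mul_one] at hk; exact hk⟩
        obtain ⟨h', hh'⟩ := exists_preimage_of_locally_zero hVst hUV hgen I hI i h hloc'
        obtain ⟨t, ht, hk⟩ := ih _ rfl h'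
        exact ⟨t, ht, by rw [← hh', ← map_smul, hk, map_zero]⟩
  intro h
  exact key (ht q + 1) T (by rw [Nat.sub_self]; exact (Lv_zero q).symm) h

/-- **Cousin vanishing.** -/
theorem homology_ΓT_eq_zero_of_local (hT : StableUnderSpecialization T)
    (I : DRing.Cx A) (hI : ∀ n, Module.Injective A (I.X n)) (i : ℤ)
    (hloc : ∀ p : PrimeSpectrum A, p ∈ T →
      ∀ h : ((ΓC p.asIdeal).obj I).homology i, ∃ t : A, t ∉ p.asIdeal ∧ t • h = 0)
    (h : ((ΓTC T).obj I).homology i) : h = 0 := by
  by_contra hne
  have hann : (Submodule.span A {h}).annihilator ≠ ⊤ := by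
    intro htop
    apply hne
    have h1 : (1 : A) ∈ (Submodule.span A {h}).annihilator := by rw [htop]; exact Submodule.mem_top
    have := (Submodule.mem_annihilator_span_singleton _ _).1 h1
    rwa [one_smul] at this
  obtain ⟨m, hm, hle⟩ := Ideal.exists_le_maximal _ hann
  let q : PrimeSpectrum A := ⟨m, hm.isPrime⟩
  obtain ⟨t, ht, hk⟩ := exists_kill_homology_ΓT_of_local hT I hI i q
    (fun p hp _ => hloc p hp) h
  exact ht (hle ((Submodule.mem_annihilator_span_singleton _ _).2 hk))

end Groth.Agent.Lib.FinStalk
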