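import Mathlib
import Groth.Agent.Lib.FT16_helper6
import Groth.Agent.Lib.DMod102_helper6
import Groth.Agent.Lib.FS1_helper6

/-!
# Pointwise dualizing complexes: the local duality bridge and the normalizing function (helper6)

`ω ∈ D^{≥ a}(A)` all of whose localizations `ω_p` are dualizing complexes over `A_p` (no finiteness of the
injective dimension of `ω` itself is required).
-/

set_option autoImplicit false
set_option linter.style.haveILetI false
set_option linter.unusedSectionVars false
set_option linter.unusedVariables false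
universe u
open CategoryTheory CategoryTheory.Limits DerivedCategory
open scoped TensorProduct

attribute [local instance] HasDerivedCategory.standard

namespace Groth.Agent.Lib.FinStalk

open Groth.Agent.Lib.DMod_helper6 DRing Groth.Agent.ExtendScalarsLib Groth.Agent.Lib.FlatHom
  Groth.Agent.Lib.FaltT

variable {A : Type u} [CommRing A] [IsNoetherianRing A]

/-- **Local duality bridge, pointwise form.** -/
theorem killsAt_hom_iff_killsAt_hdi' (ω : Dual.D A) (a : ℤ) [DerivedCategory.IsGE ω a]
    (q : PrimeSpectrum A) (νq : ℤ)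
    (hωq : Dual.IsDualizing (Localization.AtPrime q.asIdeal) (locD ω q.asIdeal))
    (hνq : Dual.IsNormalized (Localization.AtPrime q.asIdeal) ((locD ω q.asIdeal)⟦νq⟧))
    (K : Dual.D A) (hb : ∃ b : ℤ, ∀ i : ℤ, b < i → Subsingleton (Dual.HD A K i))
    (hfin : ∀ i : ℤ, Module.Finite A (Dual.HD A K i)) (i : ℤ) (x : A) :
    (∀ g : K ⟶ ω⟦νq - i⟧, ∃ t : A, t ∉ q.asIdeal ∧ (t * x) • g = 0) ↔
      (∀ y : Dual2.HDI A q.asIdeal K i, ∃ t : A, t ∉ q.asIdeal ∧ (t * x) • y = 0) := by
  haveI := isNoetherianRing_atPrime q.asIdeal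
  have hKpc := isPseudoCoherent'_of_bounded_finite K hb hfin
  have hKBpc := isPseudoCoherent'_bcD (B := Localization.AtPrime q.asIdeal) K hb hfin
  haveI : DerivedCategory.IsGE (ω⟦νq - i⟧) (a - (νq - i)) :=
    TStructure.t.isGE_shift ω a (νq - i) (a - (νq - i)) (by omega)
  have s1 := kills_hom_bcD_iff (B := Localization.AtPrime q.asIdeal) q.asIdeal.primeCompl K
    (ω⟦νq - i⟧) hKpc (a - (νq - i)) x
  let e : (bcD A (Localization.AtPrime q.asIdeal)).obj (ω⟦νq - i⟧) ≅
      ((locD ω q.asIdeal)⟦νq⟧)⟦(-i)⟧ :=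
    ((bcD A (Localization.AtPrime q.asIdeal)).commShiftIso (νq - i)).app ω ≪≫
      (shiftShiftIso (locD ω q.asIdeal) νq (-i) (νq - i) (by ring)).symm
  have s2 := kills_iff_of_equiv (Linear.homCongr (Localization.AtPrime q.asIdeal)
    (Iso.refl ((bcD A (Localization.AtPrime q.asIdeal)).obj K)) e)
    (algebraMap A (Localization.AtPrime q.asIdeal) x)
  have hωB : Dual.IsDualizing (Localization.AtPrime q.asIdeal) ((locD ω q.asIdeal)⟦νq⟧) :=
    isDualizing_shift _ hωq νq
  have s3 := kills_hom_iff_kills_hdi (Localization.AtPrime q.asIdeal) _ hωB hνq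
    ((bcD A (Localization.AtPrime q.asIdeal)).obj K) hKBpc i (-i) rfl
    (algebraMap A (Localization.AtPrime q.asIdeal) x)
  obtain ⟨e4⟩ := hdi_bcD_equiv (B := Localization.AtPrime q.asIdeal) q.asIdeal K i
  rw [Localization.AtPrime.map_eq_maximalIdeal] at e4
  have s4 := kills_iff_of_equiv e4 (algebraMap A (Localization.AtPrime q.asIdeal) x)
  have s5 := kills_tensor_localization_iff (B := Localization.AtPrime q.asIdeal)
    q.asIdeal.primeCompl (Dual2.HDI A q.asIdeal K i) x
  exact s1.symm.trans (s2.trans (s3.trans (s4.trans s5)))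

/-- the normalizing shift function of a pointwise dualizing complex -/
theorem exists_normalizing_function' (ω : Dual.D A) (a : ℤ) [DerivedCategory.IsGE ω a]
    (hω : ∀ p : PrimeSpectrum A,
      Dual.IsDualizing (Localization.AtPrime p.asIdeal) (locD ω p.asIdeal)) :
    ∃ ν : PrimeSpectrum A → ℤ,
      (∀ p : PrimeSpectrum A, Dual.IsNormalized (Localization.AtPrime p.asIdeal)
        ((locD ω p.asIdeal)⟦ν p⟧)) ∧
      (∀ p q : PrimeSpectrum A, p < q → ν p < ν q) ∧
      (∀ p q : PrimeSpectrum A, p ⋖ q → ν q = ν p + 1) := by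
  have hex : ∀ p : PrimeSpectrum A, ∃ n : ℤ,
      Dual.IsNormalized (Localization.AtPrime p.asIdeal) ((locD ω p.asIdeal)⟦n⟧) :=
    fun p => exists_isNormalized_shift _ (hω p)
  choose ν hν using hex
  have key : ∀ (p : PrimeSpectrum A) (i : ℤ),
      p ∈ Module.support A (Dual.inD A (A ⧸ p.asIdeal) ⟶ ω⟦i⟧) ↔ i = ν p := by
    intro p i
    haveI := isNoetherianRing_atPrime p.asIdeal
    exact (mem_support_hom_quot_iff' ω p.asIdeal a i).trans
      (nontrivial_hom_residueField_iff _ (hω p) (ν p) (hν p) i)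
  have hcov : ∀ p q : PrimeSpectrum A, p ⋖ q → ν q = ν p + 1 := by
    intro p q hpq
    have h := normalizing_shift_covBy' ω a p q hpq (ν p) (ν q) ((key p (ν p)).2 rfl) (hω q) (hν q)
    omega
  refine ⟨ν, hν, ?_, hcov⟩
  have wf : WellFounded (fun x y : PrimeSpectrum A => y < x) :=
    InvImage.wf PrimeSpectrum.asIdeal (wellFounded_gt (α := Ideal A))
  have main : ∀ (n : ℕ) (p q : PrimeSpectrum A), ht q = n → p < q → ν p < ν q := by
    intro n
    induction n using Nat.strong_induction_on with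
    | _ n ih =>
      intro p q hn hpq
      obtain ⟨r, ⟨hpr, hrq⟩, hmax⟩ :=
        wf.has_min {r : PrimeSpectrum A | p ≤ r ∧ r < q} ⟨p, le_rfl, hpq⟩
      have hcv : r ⋖ q := ⟨hrq, fun c hrc hcq => hmax c ⟨hpr.trans hrc.le, hcq⟩ hrc⟩
      have h1 := hcov r q hcv
      rcases eq_or_lt_of_le hpr with h | h
      · rw [h]; omega
      · have h2 := ih (ht r) (by rw [← hn]; exact ht_lt hrq) p r rfl h
        omega
  exact fun p q hpq => main (ht q) p q rfl hpq

end Groth.Agent.Lib.FinStalk
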