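import Mathlib
import Groth.Agent.Lib.FT17_helper6
import Groth.Agent.Lib.FT4_helper6
import Groth.Agent.Lib.DMod73_helper6

/-!
# `H^i_T(-)` on distinguished triangles (helper6)

The functor `K ↦ H^i_T(K) = colim_J Hom(A/J, K[i])` is cohomological: for a distinguished triangle
`X → Y → Z → X[1]` the sequence `H^i_T(X) → H^i_T(Y) → H^i_T(Z)` is exact.  Consequences: finiteness
and vanishing of the middle term.
-/

set_option autoImplicit false
set_option linter.style.haveILetI false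
set_option linter.unusedSectionVars false
set_option linter.unusedVariables false
universe u
open CategoryTheory CategoryTheory.Limits DerivedCategory Pretriangulated Opposite

attribute [local instance] HasDerivedCategory.standard

namespace Groth.Agent.Lib.FinStalk

open Groth.Agent.Lib.FaltT Groth.Agent.Lib.DMod_helper6

variable {A : Type u} [CommRing A] (T : Set (PrimeSpectrum A))

/-- the test objects `A/J` in `D(A)` -/
noncomputable abbrev GT : Dual2.IdealsIn T ⥤ Dual.D A :=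
  localCohomology.ringModIdeals (Dual2.idealsInDiagram T) ⋙
    DerivedCategory.singleFunctor (ModuleCat.{u} A) 0

/-- the diagram `J ↦ Hom(A/J, L)` -/
noncomputable abbrev FD (L : Dual.D A) : (Dual2.IdealsIn T)ᵒᵖ ⥤ ModuleCat.{u+1} A :=
  (GT T).op ⋙ (linearYoneda A (Dual.D A)).obj L

/-- the map on colimits induced by `g : L' ⟶ L` -/
noncomputable def colimMapL {L' L : Dual.D A} (g : L' ⟶ L) :
    (colimit (FD T L') : ModuleCat.{u+1} A) ⟶ colimit (FD T L) :=
  colimMap (Functor.whiskerLeft (GT T).op ((linearYoneda A (Dual.D A)).map g))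

lemma colimMapL_ι {L' L : Dual.D A} (g : L' ⟶ L) (j : (Dual2.IdealsIn T)ᵒᵖ)
    (f : (GT T).obj (unop j) ⟶ L') :
    (colimMapL T g).hom ((colimit.ι (FD T L') j).hom f) =
      (colimit.ι (FD T L) j).hom (f ≫ g) := by
  have h := ι_colimMap (Functor.whiskerLeft (GT T).op ((linearYoneda A (Dual.D A)).map g)) j
  have h2 := congrArg (fun φ => φ.hom f) h
  exact h2

lemma exists_rep_FD (L : Dual.D A) (x : (colimit (FD T L) : ModuleCat.{u+1} A)) :
    ∃ (j : (Dual2.IdealsIn T)ᵒᵖ) (f : (GT T).obj (unop j) ⟶ L),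
      (colimit.ι (FD T L) j).hom f = x :=
  exists_rep_idealsIn T (FD T L) x

lemma exists_map_eq_zero_FD (L : Dual.D A) (j : (Dual2.IdealsIn T)ᵒᵖ)
    (f : (GT T).obj (unop j) ⟶ L) (h : (colimit.ι (FD T L) j).hom f = 0) :
    ∃ (j' : (Dual2.IdealsIn T)ᵒᵖ) (w : j ⟶ j'), (GT T).map w.unop ≫ f = 0 := by
  have h1 : (colimit.ι (FD T L) j).hom f = (colimit.ι (FD T L) j).hom (0 : (GT T).obj (unop j) ⟶ L) := by
    rw [h]
    exact (map_zero _).symm
  obtain ⟨j', w, w', hw⟩ := Concrete.colimit_exists_of_rep_eq (FD T L) f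
    (0 : (GT T).obj (unop j) ⟶ L) h1
  refine ⟨j', w, ?_⟩
  have h2 : ((FD T L).map w).hom f = ((FD T L).map w').hom (0 : (GT T).obj (unop j) ⟶ L) := hw
  have h3 : ((FD T L).map w').hom (0 : (GT T).obj (unop j) ⟶ L) = 0 :=
    map_zero ((FD T L).map w').hom
  exact h2.trans h3

/-- **exactness** -/
theorem colimMapL_exact (Tr : Triangle (Dual.D A)) (hTr : Tr ∈ distTriang (Dual.D A)) (i : ℤ)
    (y : (colimit (FD T (Tr.obj₂⟦i⟧)) : ModuleCat.{u+1} A))
    (hy : (colimMapL T (Tr.mor₂⟦i⟧')).hom y = 0) :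
    ∃ x : (colimit (FD T (Tr.obj₁⟦i⟧)) : ModuleCat.{u+1} A),
      (colimMapL T (Tr.mor₁⟦i⟧')).hom x = y := by
  obtain ⟨j, f, rfl⟩ := exists_rep_FD T _ y
  rw [colimMapL_ι] at hy
  obtain ⟨j', w, hw⟩ := exists_map_eq_zero_FD T _ j _ hy
  rw [← Category.assoc] at hw
  obtain ⟨g, hg⟩ := coyoneda_exact₂_shift Tr hTr i _ hw
  refine ⟨(colimit.ι (FD T (Tr.obj₁⟦i⟧)) j').hom g, ?_⟩
  rw [colimMapL_ι, ← hg]
  have h3 := colimit.w (FD T (Tr.obj₂⟦i⟧)) w
  have h4 := congrArg (fun φ => φ.hom f) h3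
  exact h4

variable [IsNoetherianRing A]

/-- finiteness of the middle term -/
theorem finite_HDT_of_triangle (Tr : Triangle (Dual.D A)) (hTr : Tr ∈ distTriang (Dual.D A))
    (i : ℤ) (h1 : Module.Finite A (Dual2.HDT A T Tr.obj₁ i))
    (h3 : Module.Finite A (Dual2.HDT A T Tr.obj₃ i)) :
    Module.Finite A (Dual2.HDT A T Tr.obj₂ i) := by
  refine finite_of_exact (colimMapL T (Tr.mor₁⟦i⟧')).hom (colimMapL T (Tr.mor₂⟦i⟧')).hom ?_
  intro y hy
  exact colimMapL_exact T Tr hTr i y hy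

omit [IsNoetherianRing A] in
/-- vanishing of the middle term -/
theorem subsingleton_HDT_of_triangle (Tr : Triangle (Dual.D A))
    (hTr : Tr ∈ distTriang (Dual.D A))
    (i : ℤ) (h1 : Subsingleton (Dual2.HDT A T Tr.obj₁ i))
    (h3 : Subsingleton (Dual2.HDT A T Tr.obj₃ i)) :
    Subsingleton (Dual2.HDT A T Tr.obj₂ i) := by
  refine ⟨fun y y' => ?_⟩
  have key : ∀ y : Dual2.HDT A T Tr.obj₂ i, y = 0 := by
    intro y
    obtain ⟨x, hx⟩ := colimMapL_exact T Tr hTr i y (Subsingleton.elim _ _)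
    rw [← hx, Subsingleton.elim x 0, map_zero]
  rw [key y, key y']

omit [IsNoetherianRing A] in
/-- `H^i_T(K[n]) ≃ H^{n+i}_T(K)` -/
theorem nonempty_HDT_shift_equiv (K : Dual.D A) (n i j : ℤ) (h : n + i = j) :
    Nonempty (Dual2.HDT A T (K⟦n⟧) i ≃ₗ[A] Dual2.HDT A T K j) := by
  let g : (K⟦n⟧)⟦i⟧ ⟶ K⟦j⟧ := (shiftFunctorAdd' (Dual.D A) n i j h).inv.app K
  refine nonempty_colimit_equiv_of_bijective (GT T) g (fun d => ?_)
  constructor
  · intro φ ψ hφψ
    exact (cancel_mono g).1 hφψ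
  · intro f
    exact ⟨f ≫ inv g, by simp⟩

/-- finiteness of the third term -/
theorem finite_HDT_of_triangle₃ (Tr : Triangle (Dual.D A)) (hTr : Tr ∈ distTriang (Dual.D A))
    (i j : ℤ) (hij : i + 1 = j) (h2 : Module.Finite A (Dual2.HDT A T Tr.obj₂ i))
    (h1 : Module.Finite A (Dual2.HDT A T Tr.obj₁ j)) :
    Module.Finite A (Dual2.HDT A T Tr.obj₃ i) := by
  obtain ⟨E⟩ := nonempty_HDT_shift_equiv T Tr.obj₁ 1 i j (by omega)
  haveI : Module.Finite A (Dual2.HDT A T (Tr.obj₁⟦(1 : ℤ)⟧) i) := Module.Finite.equiv E.symm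
  exact finite_HDT_of_triangle T Tr.rotate (rot_of_distTriang _ hTr) i h2 this

/-- finiteness of the first term -/
theorem finite_HDT_of_triangle₁ (Tr : Triangle (Dual.D A)) (hTr : Tr ∈ distTriang (Dual.D A))
    (i j : ℤ) (hij : j + 1 = i) (h3 : Module.Finite A (Dual2.HDT A T Tr.obj₃ j))
    (h2 : Module.Finite A (Dual2.HDT A T Tr.obj₂ i)) :
    Module.Finite A (Dual2.HDT A T Tr.obj₁ i) := by
  obtain ⟨E⟩ := nonempty_HDT_shift_equiv T Tr.obj₃ (-1) i j (by omega)
  haveI : Module.Finite A (Dual2.HDT A T (Tr.obj₃⟦(-1 : ℤ)⟧) i) := Module.Finite.equiv E.symm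
  exact finite_HDT_of_triangle T Tr.invRotate (inv_rot_of_distTriang _ hTr) i this h2

end Groth.Agent.Lib.FinStalk
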