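import Mathlib
import Groth.Agent.Lib.Bidual8_helper6
import Groth.Agent.Lib.DMod75_helper6

/-!
# Chain-level biduality with respect to a self-dual complex (helper6)

`I` a `K`-injective complex with `A → RHom(I, I)` an isomorphism (e.g. an injective resolution of `A`
itself, over any commutative ring): the biduality map `K ⟶ Hom•(Hom•(K, I), I)` is a quasi-isomorphism
for `K = A[-m]`, hence for bounded complexes of finite free modules, finite projective modules, and
modules of finite projective dimension.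
-/

set_option autoImplicit false
set_option linter.style.haveILetI false
set_option linter.unusedSectionVars false
set_option linter.unusedVariables false
universe u
open CategoryTheory Limits CochainComplex CochainComplex.HomComplex ZeroObject DerivedCategory
attribute [local instance] HasDerivedCategory.standard

namespace Groth.Agent.Lib.FinStalk

open Groth.Agent.Lib.HomCx Groth.Agent.Lib.RHomKInj Groth.Agent.Lib.HomCxPreQis DRing
open Groth.Agent.Lib.DMod_helper6 Groth.Agent.Lib.BidualH6

variable {A : Type u} [CommRing A]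

/-- `A → RHom(ω, ω)` is an isomorphism -/
structure SelfDual (ω : Dual.D A) : Prop where
  toEnd_bijective : Function.Bijective (fun a : A => a • 𝟙 ω)
  ext_self_subsingleton : ∀ i : ℤ, i ≠ 0 → Subsingleton (ω ⟶ ω⟦i⟧)

lemma selfDual_inD_self : SelfDual (Dual.inD A A) :=
  ⟨toEnd_inD_self_bijective, hom_inD_self_shift_subsingleton⟩

lemma selfDual_of_isDualizing {ω : Dual.D A} (h : Dual.IsDualizing A ω) : SelfDual ω :=
  ⟨h.toEnd_bijective, h.ext_self_subsingleton⟩

lemma selfDual_of_iso {ω ω' : Dual.D A} (e : ω ≅ ω') (h : SelfDual ω) : SelfDual ω' where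
  toEnd_bijective := by
    have h1 : (fun a : A => a • 𝟙 ω') = (fun f : ω ⟶ ω => e.inv ≫ f ≫ e.hom) ∘
        (fun a : A => a • 𝟙 ω) := by
      funext a
      simp only [Function.comp_apply, Linear.smul_comp, Linear.comp_smul, Category.id_comp,
        Iso.inv_hom_id]
    rw [h1]
    refine Function.Bijective.comp ?_ h.toEnd_bijective
    exact (Iso.homCongr e e).bijective
  ext_self_subsingleton := fun i hi => by
    haveI := h.ext_self_subsingleton i hi
    exact (Iso.homCongr e ((CategoryTheory.shiftFunctor (Dual.D A) i).mapIso e)).symm.subsingleton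

lemma selfDual_shift {ω : Dual.D A} (hω : SelfDual ω) (n : ℤ) : SelfDual (ω⟦n⟧) where
  toEnd_bijective := by
    have h1 : (fun a : A => a • 𝟙 (ω⟦n⟧)) =
        (fun f : ω ⟶ ω => f⟦n⟧') ∘ (fun a : A => a • 𝟙 ω) := by
      funext a
      simp only [Function.comp_apply, Functor.map_smul, CategoryTheory.Functor.map_id]
    rw [h1]
    exact Function.Bijective.comp
      ⟨(CategoryTheory.shiftFunctor (Dual.D A) n).map_injective,
        (CategoryTheory.shiftFunctor (Dual.D A) n).map_surjective⟩
      hω.toEnd_bijective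
  ext_self_subsingleton := fun i hi => by
    haveI := hω.ext_self_subsingleton i hi
    refine subsingleton_of_forall_eq 0 (fun g => ?_)
    let e : (ω⟦n⟧)⟦i⟧ ≅ (ω⟦i⟧)⟦n⟧ := (shiftFunctorComm (Dual.D A) n i).app ω
    obtain ⟨g', hg'⟩ := (CategoryTheory.shiftFunctor (Dual.D A) n).map_surjective (g ≫ e.hom)
    have h0 : g' = 0 := Subsingleton.elim _ _
    rw [h0, Functor.map_zero] at hg'
    rw [← cancel_mono e.hom, ← hg', zero_comp]

section Base

variable (I : DRing.Cx A) [I.IsKInjective] (hω : SelfDual (toD I)) (m : ℤ)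

include hω in
lemma selfDual_toD_shift : SelfDual (toD (I⟦m⟧)) :=
  selfDual_of_iso ((Q.commShiftIso m).app I).symm (selfDual_shift hω m)

include hω in
lemma subsingleton_hom_of_ne' (n : ℤ) (hn : n ≠ m) :
    Subsingleton (toD (Dc I (SA A m)) ⟶ toD (I⟦n⟧)) := by
  have hL := selfDual_toD_shift I hω m
  haveI := hL.ext_self_subsingleton (n - m) (by omega)
  let e2 : toD (I⟦n⟧) ≅ (toD (I⟦m⟧))⟦n - m⟧ :=
    (Q.commShiftIso n).app I ≪≫
      (CategoryTheory.shiftFunctorAdd' (Dual.D A) m (n - m) n (by omega)).app (toD I) ≪≫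
      ((CategoryTheory.shiftFunctor (Dual.D A) (n - m)).mapIso ((Q.commShiftIso m).app I)).symm
  rw [subsingleton_hom_iso_left (gIso I m), subsingleton_hom_iso_right e2]
  infer_instance

include hω in
lemma exists_δ_eq_of_ne' (n : ℤ) (hn : n ≠ m) (w : Cochain (Dc I (SA A m)) I n)
    (hw : δ n (n + 1) w = 0) :
    ∃ β : Cochain (Dc I (SA A m)) I (n - 1), δ (n - 1) n β = w := by
  haveI := subsingleton_hom_of_ne' I hω m n hn
  exact exists_δ_eq_of_Q_map_eq_zero _ I n (Cocycle.mk w (n + 1) rfl hw) (Subsingleton.elim _ _)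

include hω in
lemma exists_eq_ev_add_δ' (w : Cochain (Dc I (SA A m)) I m) (hw : δ m (m + 1) w = 0) :
    ∃ (a : A) (β : Cochain (Dc I (SA A m)) I (m - 1)),
      w = evCochain (SA A m) I m (a • one A m) + δ (m - 1) m β := by
  have hL := selfDual_toD_shift I hω m
  let g := evHom (SA A m) I m (one A m) (SA_d_apply m m (m + 1) _)
  let wc : Cocycle (Dc I (SA A m)) I m := Cocycle.mk w (m + 1) rfl hw
  let h := Cocycle.equivHomShift.symm wc
  obtain ⟨a, ha⟩ := hL.toEnd_bijective.2 (inv (Q.map g) ≫ Q.map h)
  have ha' : a • 𝟙 (toD (I⟦m⟧)) = inv (Q.map g) ≫ Q.map h := ha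
  have h1 : Q.map h = a • Q.map g := by
    have : Q.map g ≫ (a • 𝟙 _) = Q.map h := by rw [ha', IsIso.hom_inv_id_assoc]
    rw [← this, Linear.comp_smul, Category.comp_id]
  let ec := evCocycle (SA A m) I m (a • one A m) (SA_d_apply m m (m + 1) _)
  have h2 : Q.map (Cocycle.equivHomShift.symm (wc - ec)) = 0 := by
    rw [map_sub, Functor.map_sub]
    change Q.map h - Q.map (evHom (SA A m) I m (a • one A m) (SA_d_apply m m (m + 1) _)) = 0
    rw [evHom_smul _ _ _ a (one A m) (SA_d_apply m m (m + 1) _), Functor.map_smul, h1, sub_self]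
  obtain ⟨β, hβ⟩ := exists_δ_eq_of_Q_map_eq_zero _ I m (wc - ec) h2
  refine ⟨a, β, ?_⟩
  have h3 : ((wc - ec).1 : Cochain (Dc I (SA A m)) I m) =
      w - evCochain (SA A m) I m (a • one A m) := rfl
  rw [hβ, h3]
  abel

include hω in
lemma eq_zero_of_ev_eq_δ' (a : A) (β : Cochain (Dc I (SA A m)) I (m - 1))
    (h : evCochain (SA A m) I m (a • one A m) = δ (m - 1) m β) : a = 0 := by
  have hL := selfDual_toD_shift I hω m
  let g := evHom (SA A m) I m (one A m) (SA_d_apply m m (m + 1) _)
  have h0 : Q.map (evHom (SA A m) I m (a • one A m) (SA_d_apply m m (m + 1) _)) = 0 :=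
    Q_map_eq_zero_of_δ_eq _ I m
      (evCocycle (SA A m) I m (a • one A m) (SA_d_apply m m (m + 1) _)) β h.symm
  rw [evHom_smul _ _ _ a (one A m) (SA_d_apply m m (m + 1) _), Functor.map_smul] at h0
  have h1 : a • 𝟙 (toD (I⟦m⟧)) = 0 := by
    have : inv (Q.map g) ≫ (a • Q.map g) = 0 := by rw [h0, comp_zero]
    rwa [Linear.comp_smul, IsIso.inv_hom_id] at this
  refine hL.toEnd_bijective.1 ?_
  change a • 𝟙 (toD (I⟦m⟧)) = (0 : A) • 𝟙 (toD (I⟦m⟧))
  rw [h1, zero_smul]

include hω in
/-- **base case**: `ev` is a quasi-isomorphism for `A[-m]` -/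
theorem evQis_SA' : EvQis I (SA A m) := by
  unfold EvQis
  rw [quasiIso_iff]
  intro n
  rw [quasiIsoAt_iff_isIso_homologyMap]
  haveI : Mono (HomologicalComplex.homologyMap (ev (SA A m) I) n) := by
    apply mono_homologyMap_of_elementwise
    intro x hx y hy
    by_cases hn : n = m
    · subst hn
      obtain ⟨a, rfl⟩ := exists_smul_one n x
      have ha : a = 0 := eq_zero_of_ev_eq_δ' I hω n a y hy
      exact ⟨0, by rw [ha, zero_smul, map_zero]⟩
    · haveI : Subsingleton ((SA A m).X n) :=
        ModuleCat.subsingleton_of_isZero (isZero_SA_X m n hn)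
      exact ⟨0, Subsingleton.elim _ _⟩
  haveI : Epi (HomologicalComplex.homologyMap (ev (SA A m) I) n) := by
    apply epi_homologyMap_of_elementwise
    intro w hw
    by_cases hn : n = m
    · subst hn
      obtain ⟨a, β, h⟩ := exists_eq_ev_add_δ' I hω n w hw
      exact ⟨a • one A n, SA_d_apply _ _ _ _, β, h⟩
    · obtain ⟨β, hβ⟩ := exists_δ_eq_of_ne' I hω m n hn w hw
      refine ⟨0, by rw [map_zero], β, ?_⟩
      rw [map_zero, zero_add]
      exact hβ.symm
  exact isIso_of_mono_of_epi _

end Base

section Classes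

variable (I : DRing.Cx A) [I.IsKInjective] (hI : TermwiseInjective I) (hω : SelfDual (toD I))

include hI hω in
theorem devClass_evQis' : DevClass (EvQis I) where
  of_isZero K hK := evQis_of_acyclic I K (acyclic_of_isZero_X K hK)
  of_iso e' h := (evQis_iff_of_quasiIso I e'.hom).1 h
  of_ses S hS h1 h3 := evQis_of_shortExact I hI S hS h1 h3
  of_SA m := evQis_SA' I hω m

omit [I.IsKInjective] in
/-- `EvQis` passes to retracts -/
lemma evQis_of_retract {K K' : DRing.Cx A} (s : K' ⟶ K) (r : K ⟶ K') (hsr : s ≫ r = 𝟙 K')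
    (h : EvQis I K) : EvQis I K' := by
  unfold EvQis at h ⊢
  rw [quasiIso_iff] at h ⊢
  intro n
  have hn := h n
  rw [quasiIsoAt_iff_isIso_homologyMap] at hn ⊢
  haveI := hn
  have h1 : HomologicalComplex.homologyMap s n ≫ HomologicalComplex.homologyMap (ev K I) n =
      HomologicalComplex.homologyMap (ev K' I) n ≫
        HomologicalComplex.homologyMap (Dm I (Dm I s)) n := by
    rw [← HomologicalComplex.homologyMap_comp, ← HomologicalComplex.homologyMap_comp,
      ev_naturality]
  have h2 : HomologicalComplex.homologyMap r n ≫ HomologicalComplex.homologyMap (ev K' I) n =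
      HomologicalComplex.homologyMap (ev K I) n ≫
        HomologicalComplex.homologyMap (Dm I (Dm I r)) n := by
    rw [← HomologicalComplex.homologyMap_comp, ← HomologicalComplex.homologyMap_comp,
      ev_naturality]
  have h3 : HomologicalComplex.homologyMap s n ≫ HomologicalComplex.homologyMap r n = 𝟙 _ := by
    rw [← HomologicalComplex.homologyMap_comp, hsr, HomologicalComplex.homologyMap_id]
  have h4 : HomologicalComplex.homologyMap (Dm I (Dm I s)) n ≫
      HomologicalComplex.homologyMap (Dm I (Dm I r)) n = 𝟙 _ := by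
    rw [← HomologicalComplex.homologyMap_comp, ← homCxPre_comp, ← homCxPre_comp, hsr,
      homCxPre_id, homCxPre_id, HomologicalComplex.homologyMap_id]
  refine ⟨⟨HomologicalComplex.homologyMap (Dm I (Dm I s)) n ≫
    inv (HomologicalComplex.homologyMap (ev K I) n) ≫ HomologicalComplex.homologyMap r n, ?_, ?_⟩⟩
  · rw [← Category.assoc, ← h1, Category.assoc, IsIso.hom_inv_id_assoc, h3]
  · have h5 : inv (HomologicalComplex.homologyMap (ev K I) n) ≫
        HomologicalComplex.homologyMap r n ≫ HomologicalComplex.homologyMap (ev K' I) n =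
        HomologicalComplex.homologyMap (Dm I (Dm I r)) n := by
      rw [h2, IsIso.inv_hom_id_assoc]
    rw [Category.assoc, Category.assoc, h5, h4]

end Classes

end Groth.Agent.Lib.FinStalk
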