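import Mathlib
import Groth.Agent.Lib.FS4_helper6
import Groth.Agent.Lib.PDOpen_helper7
import Groth.Agent.Lib.GlDim_helper5

/-!
# Biduality for modules of finite projective dimension; finite modules over a regular ring have
finite projective dimension (helper6)
-/

set_option autoImplicit false
set_option linter.style.haveILetI false
set_option linter.unusedSectionVars false
set_option linter.unusedVariables false
universe u
open CategoryTheory Limits CochainComplex CochainComplex.HomComplex ZeroObject DerivedCategory
attribute [local instance] HasDerivedCategory.standard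

namespace Groth.Agent.Lib.FinStalk

open Groth.Agent.Lib.HomCx Groth.Agent.Lib.RHomKInj Groth.Agent.Lib.HomCxPreQis DRing
open Groth.Agent.Lib.DMod_helper6 Groth.Agent.Lib.BidualH6

variable {A : Type u} [CommRing A]

section EvQisPD

variable (I : DRing.Cx A) [I.IsKInjective] (hI : TermwiseInjective I) (hω : SelfDual (toD I))

include hI in
omit [I.IsKInjective] in
lemma evQis_of_shortExact₃ (S : ShortComplex (DRing.Cx A)) (hS : S.ShortExact)
    (h₁ : EvQis I S.X₁) (h₂ : EvQis I S.X₂) : EvQis I S.X₃ :=
  HomologicalComplex.HomologySequence.quasiIso_τ₃ (evSC I S) hS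
    (DS_shortExact I hI _ (DS_shortExact I hI S hS)) h₁ h₂

include hI hω in
theorem evQis_single_of_projective (m : ℤ) (P : ModuleCat.{u} A) [Module.Finite A P]
    [Module.Projective A P] :
    EvQis I ((CochainComplex.singleFunctor (ModuleCat.{u} A) m).obj P) := by
  obtain ⟨k, f, hf⟩ := Module.Finite.exists_fin' A P
  obtain ⟨s, hs⟩ := Module.projective_lifting_property f LinearMap.id hf
  let s' : P ⟶ ModuleCat.of A (Fin k → A) := ModuleCat.ofHom s
  let r' : ModuleCat.of A (Fin k → A) ⟶ P := ModuleCat.ofHom f
  have hsr : s' ≫ r' = 𝟙 P := by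
    ext x
    exact LinearMap.congr_fun hs x
  refine evQis_of_retract I ((CochainComplex.singleFunctor (ModuleCat.{u} A) m).map s')
    ((CochainComplex.singleFunctor (ModuleCat.{u} A) m).map r') ?_
    ((devClass_evQis' I hI hω).of_pi m k)
  rw [← Functor.map_comp, hsr, CategoryTheory.Functor.map_id]

include hI hω in
theorem evQis_single_of_pd [IsNoetherianRing A] (m : ℤ) : ∀ (n : ℕ) (M : Type u) [AddCommGroup M]
    [Module A M] [Module.Finite A M],
    HasProjectiveDimensionLT (ModuleCat.of A M) (n + 1) →
      EvQis I ((CochainComplex.singleFunctor (ModuleCat.{u} A) m).obj (ModuleCat.of A M)) := by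
  intro n
  induction n with
  | zero =>
    intro M _ _ _ h
    haveI : Projective (ModuleCat.of A M) := projective_iff_hasProjectiveDimensionLT_one.2 h
    haveI : Module.Projective A (ModuleCat.of A M) :=
      (IsProjective.iff_projective (R := A) (ModuleCat.of A M)).2 inferInstance
    exact evQis_single_of_projective I hI hω m (ModuleCat.of A M)
  | succ n ih =>
    intro M _ _ _ h
    obtain ⟨k, f, hf⟩ := Module.Finite.exists_fin' A M
    have hT := LinearMap.shortExact_shortComplexKer hf
    have projA : Projective (f.shortComplexKer).X₂ :=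
      ModuleCat.projective_of_categoryTheory_projective _
    have h₂ : HasProjectiveDimensionLT (f.shortComplexKer).X₂ (n + 1) :=
      hasProjectiveDimensionLT_of_ge _ 1 (n + 1) (by omega)
    have h₁ : HasProjectiveDimensionLT (f.shortComplexKer).X₁ (n + 1) :=
      hT.hasProjectiveDimensionLT_X₁ (n + 1) h₂ h
    have hS := hT.map_of_exact
      (HomologicalComplex.single (ModuleCat.{u} A) (ComplexShape.up ℤ) m)
    have e₁ := ih (LinearMap.ker f) h₁
    have e₂ : EvQis I ((CochainComplex.singleFunctor (ModuleCat.{u} A) m).obj
        (ModuleCat.of A (Fin k → A))) := (devClass_evQis' I hI hω).of_pi m k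
    exact evQis_of_shortExact₃ I hI _ hS e₁ e₂

end EvQisPD

section GlobalPD

variable (A) [IsNoetherianRing A]

open Groth.Agent.Lib.PDOpenH7

/-- projective dimension is local -/
theorem hasPDLE_of_forall_local : ∀ (n : ℕ) (M : Type u) [AddCommGroup M] [Module A M]
    [Module.Finite A M],
    (∀ p : PrimeSpectrum A, HasProjectiveDimensionLE (locObj A p.asIdeal.primeCompl M) n) →
      HasProjectiveDimensionLE (ModuleCat.of A M) n := by
  intro n
  induction n with
  | zero =>
    intro M _ _ _ h
    haveI : Module.FinitePresentation A M := Module.finitePresentation_of_finite A M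
    have h1 : Module.freeLocus A M = Set.univ := by
      ext p
      simp only [Set.mem_univ, iff_true]
      exact (zero_iff A p M).1 (h p)
    have h2 : Module.Projective A M := Module.freeLocus_eq_univ_iff.1 h1
    haveI : Projective (ModuleCat.of A M) := (IsProjective.iff_projective (R := A) M).1 h2
    exact (projective_iff_hasProjectiveDimensionLE_zero _).1 inferInstance
  | succ n ih =>
    intro M _ _ _ h
    obtain ⟨k, f, hf⟩ := Module.Finite.exists_fin' A M
    have hT := LinearMap.shortExact_shortComplexKer hf
    have projA : Projective (f.shortComplexKer).X₂ :=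
      ModuleCat.projective_of_categoryTheory_projective _
    have h1 : HasProjectiveDimensionLE (ModuleCat.of A (LinearMap.ker f)) n :=
      ih (LinearMap.ker f) (fun p => (step A p.asIdeal.primeCompl f hf n).1 (h p))
    exact (hT.hasProjectiveDimensionLT_X₃_iff n projA).2 h1

/-- finite modules over a regular ring have finite projective dimension -/
theorem exists_hasPDLE_of_isRegularRing (R : Type u) [CommRing R] [IsRegularRing R]
    (M : Type u) [AddCommGroup M] [Module R M] [Module.Finite R M] :
    ∃ n : ℕ, HasProjectiveDimensionLE (ModuleCat.of R M) n := by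
  let U : ℕ → Set (PrimeSpectrum R) := fun n =>
    {p | HasProjectiveDimensionLE (locObj R p.asIdeal.primeCompl M) n}
  have hUo : ∀ n, IsOpen (U n) := fun n => isOpen_hasPDLE R n M
  have hUmono : Monotone U := by
    intro n n' hnn' p hp
    haveI : HasProjectiveDimensionLT (locObj R p.asIdeal.primeCompl M) (n + 1) := hp
    exact hasProjectiveDimensionLT_of_ge _ (n + 1) (n' + 1) (by omega)
  have hcov : (Set.univ : Set (PrimeSpectrum R)) ⊆ ⋃ n, U n := by
    intro p _
    haveI : IsRegularLocalRing (Localization.AtPrime p.asIdeal) :=
      IsRegularRing.isRegularLocalRing_localization _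
    obtain ⟨d, hd⟩ := Groth.Agent.GlDim.exists_dim (Localization.AtPrime p.asIdeal)
    exact Set.mem_iUnion.2 ⟨d, Groth.Agent.GlDim.hasProjectiveDimensionLT_of_regular
      (Localization.AtPrime p.asIdeal) d hd (LocalizedModule p.asIdeal.primeCompl M)⟩
  obtain ⟨n, hn⟩ := isCompact_univ.elim_directed_cover U hUo hcov
    (directed_of_isDirected_le hUmono)
  exact ⟨n, hasPDLE_of_forall_local R n M (fun p => hn (Set.mem_univ p))⟩

end GlobalPD

end Groth.Agent.Lib.FinStalk
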