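import Mathlib
import Groth.Agent.Lib.FS5_helper6
import Groth.Agent.Lib.FT9_helper6
import Groth.Agent.Lib.FT6_helper6

/-!
# Cohomology of `Hom•(K, I)` as morphisms in the derived category (helper6)

For `I` a `K`-injective complex: `H^m(Hom•(K, I)) ≃ Hom_{D(A)}(K, I[m])`, linearly.
-/

set_option autoImplicit false
set_option linter.style.haveILetI false
set_option linter.unusedSectionVars false
set_option linter.unusedVariables false
universe u
open CategoryTheory Limits CochainComplex CochainComplex.HomComplex ZeroObject DerivedCategory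
attribute [local instance] HasDerivedCategory.standard

namespace Groth.Agent.Lib.FinStalk

open Groth.Agent.Lib.HomCx Groth.Agent.Lib.RHomKInj Groth.Agent.Lib.HomCxPreQis DRing
open Groth.Agent.Lib.DMod_helper6 Groth.Agent.Lib.BidualH6 Groth.Agent.Lib.FaltT

variable {A : Type u} [CommRing A]

section HomD

variable (K I : DRing.Cx A) (m : ℤ)

/-- the cocycle attached to a cycle of `Hom•(K, I)` -/
noncomputable def cocOf (w : Zc (DRing.homCx K I) m) : Cocycle K I m :=
  Cocycle.mk (w.1 : Cochain K I m) (m + 1) rfl (by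
    have h := w.2
    rw [mem_Zc] at h
    exact h)

lemma cocOf_coe (w : Zc (DRing.homCx K I) m) : ((cocOf K I m w).1 : Cochain K I m) = w.1 := rfl

lemma cocOf_add (w w' : Zc (DRing.homCx K I) m) :
    cocOf K I m (w + w') = cocOf K I m w + cocOf K I m w' := by
  apply Subtype.ext
  rfl

lemma equivHomShift_symm_smul (a : A) (w w' : Cocycle K I m) (h : w'.1 = a • w.1) :
    Cocycle.equivHomShift.symm w' = a • Cocycle.equivHomShift.symm w := by
  ext q : 1
  rw [HomologicalComplex.smul_f_apply, Cocycle.equivHomShift_symm_apply,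
    Cocycle.equivHomShift_symm_apply, Cocycle.homOf_f, Cocycle.homOf_f, Cocycle.rightShift_coe,
    Cocycle.rightShift_coe,
    Cochain.rightShift_v _ m 0 (zero_add m) q q (add_zero q) (q + m) rfl,
    Cochain.rightShift_v _ m 0 (zero_add m) q q (add_zero q) (q + m) rfl, h, Cochain.smul_v]
  exact (Linear.smul_comp _ _ _ a (w.1.v q (q + m) rfl)
    (I.shiftFunctorObjXIso m q (q + m) (by omega)).inv)

/-- cycles of `Hom•(K, I)` to morphisms in the derived category -/
noncomputable def cycToHomD : Zc (DRing.homCx K I) m →ₗ[A] (toD K ⟶ toD (I⟦m⟧)) where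
  toFun w := Q.map (Cocycle.equivHomShift.symm (cocOf K I m w))
  map_add' w w' := by
    rw [cocOf_add, map_add, Functor.map_add]
  map_smul' a w := by
    rw [RingHom.id_apply, equivHomShift_symm_smul K I m a (cocOf K I m w) (cocOf K I m (a • w)) rfl,
      Functor.map_smul]

lemma cycToHomD_apply (w : Zc (DRing.homCx K I) m) :
    cycToHomD K I m w = Q.map (Cocycle.equivHomShift.symm (cocOf K I m w)) := rfl

variable [I.IsKInjective]

lemma cycToHomD_surjective : Function.Surjective (cycToHomD K I m) := by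
  intro g
  obtain ⟨u, rfl⟩ := exists_Q_map_eq_of_isKInjective g
  let c : Cocycle K I m := Cocycle.equivHomShift u
  have hc : (DRing.homCx K I).d m (m + 1) (c.1 : Cochain K I m) = 0 := by
    have := c.2
    rw [Cocycle.mem_iff m (m + 1) rfl] at this
    exact this
  refine ⟨⟨(c.1 : Cochain K I m), (mem_Zc _ _).2 hc⟩, ?_⟩
  rw [cycToHomD_apply]
  have h1 : cocOf K I m ⟨(c.1 : Cochain K I m), (mem_Zc _ _).2 hc⟩ = c := Subtype.ext rfl
  rw [h1, AddEquiv.symm_apply_apply]

lemma cycToHomD_eq_zero_iff (w : Zc (DRing.homCx K I) m) :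
    cycToHomD K I m w = 0 ↔ mkH (DRing.homCx K I) m w = 0 := by
  rw [mkH_eq_zero_iff _ m (m - 1) (by omega), cycToHomD_apply]
  constructor
  · intro h
    obtain ⟨β, hβ⟩ := exists_δ_eq_of_Q_map_eq_zero K I m (cocOf K I m w) h
    exact ⟨β, hβ⟩
  · rintro ⟨β, hβ⟩
    exact Q_map_eq_zero_of_δ_eq K I m (cocOf K I m w) β hβ

/-- `H^m(Hom•(K, I)) ≃ Hom_{D(A)}(K, I[m])` -/
theorem exists_homologyHomD_equiv :
    ∃ e : (DRing.homCx K I).homology m ≃ₗ[A] (toD K ⟶ toD (I⟦m⟧)),
      ∀ w, e (mkH (DRing.homCx K I) m w) = cycToHomD K I m w := by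
  refine exists_linearEquiv_of_surj (mkH (DRing.homCx K I) m) (cycToHomD K I m)
    (mkH_surjective _ m) (cycToHomD_surjective K I m) ?_
  ext w
  rw [LinearMap.mem_ker, LinearMap.mem_ker, cycToHomD_eq_zero_iff]

/-- `H^m(Hom•(K, I)) ≃ Hom_{D(A)}(K, ω[m])` for `ω ≅ I` -/
theorem nonempty_homology_homCx_equiv (ω : Dual.D A) (e : toD I ≅ ω) :
    Nonempty ((DRing.homCx K I).homology m ≃ₗ[A] (toD K ⟶ ω⟦m⟧)) := by
  obtain ⟨E, -⟩ := exists_homologyHomD_equiv K I m
  let iso : toD (I⟦m⟧) ≅ ω⟦m⟧ :=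
    (Q.commShiftIso m).app I ≪≫ (CategoryTheory.shiftFunctor (Dual.D A) m).mapIso e
  exact ⟨E.trans (Linear.homCongr A (Iso.refl (toD K)) iso)⟩

end HomD

end Groth.Agent.Lib.FinStalk
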