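import Mathlib
import Groth.Agent.Lib.FS6_helper6
import Groth.Agent.Lib.FS2_helper6

/-!
# Dévissage of `H^i_T(RHom(K, I))` along the canonical filtration of `K` (helper6)

`I` is a fixed `K`-injective complex with injective terms, `D(K) = Hom•(K, I)`.  If
`H^i_T(D(H^b(K)[-b]))` is finite for all `b` and `K` has bounded cohomology, then `H^i_T(D(K))` is
finite.
-/

set_option autoImplicit false
set_option linter.style.haveILetI false
set_option linter.unusedSectionVars false
set_option linter.unusedVariables false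
universe u
open CategoryTheory Limits CochainComplex CochainComplex.HomComplex ZeroObject DerivedCategory
  Pretriangulated
attribute [local instance] HasDerivedCategory.standard

namespace Groth.Agent.Lib.FinStalk

open Groth.Agent.Lib.HomCx Groth.Agent.Lib.RHomKInj Groth.Agent.Lib.HomCxPreQis DRing
open Groth.Agent.Lib.DMod_helper6 Groth.Agent.Lib.BidualH6 Groth.Agent.Lib.FaltT

variable {A : Type u} [CommRing A]

section Zero

variable (T : Set (PrimeSpectrum A))

lemma subsingleton_HDT_of_isZero (X : Dual.D A) (h : IsZero X) (i : ℤ) :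
    Subsingleton (Dual2.HDT A T X i) := by
  have hz : IsZero (X⟦i⟧) := (CategoryTheory.shiftFunctor (Dual.D A) i).map_isZero h
  have key : ∀ x : Dual2.HDT A T X i, x = 0 := by
    intro x
    obtain ⟨j, f, rfl⟩ := exists_rep_FD T (X⟦i⟧) x
    rw [hz.eq_of_tgt f 0]
    exact map_zero _
  exact ⟨fun x y => by rw [key x, key y]⟩

lemma acyclic_of_isZero_toD (K : DRing.Cx A) (h : IsZero (toD K)) : K.Acyclic := by
  intro n
  rw [HomologicalComplex.exactAt_iff_isZero_homology]
  exact IsZero.of_iso ((DerivedCategory.homologyFunctor (ModuleCat.{u} A) n).map_isZero h)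
    ((DerivedCategory.homologyFunctorFactors (ModuleCat.{u} A) n).app K).symm

lemma isZero_toD_of_acyclic (K : DRing.Cx A) (h : K.Acyclic) : IsZero (toD K) := by
  let Z : DRing.Cx A := 0
  have hZ : ∀ p, IsZero (Z.X p) := fun p =>
    (HomologicalComplex.eval _ _ p).map_isZero (isZero_zero _)
  let f : K ⟶ Z := 0
  haveI : QuasiIso f := quasiIso_of_acyclic f h (acyclic_of_isZero_X Z hZ)
  haveI : IsIso (Q.map f) := (isIso_Q_map_iff_quasiIso (C := ModuleCat.{u} A) f).2 inferInstance
  exact IsZero.of_iso (Q.map_isZero (isZero_zero _)) (asIso (Q.map f))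

end Zero

section Dual

variable (I : DRing.Cx A) [I.IsKInjective]

/-- the dual only depends on the isomorphism class in the derived category -/
theorem nonempty_toD_Dc_iso {K K' : DRing.Cx A} (e : toD K ≅ toD K') :
    Nonempty (toD (Dc I K) ≅ toD (Dc I K')) := by
  obtain ⟨X', s, hs, g, hfac⟩ := DerivedCategory.right_fac e.hom
  haveI := hs
  haveI : QuasiIso s := (isIso_Q_map_iff_quasiIso (C := ModuleCat.{u} A) s).1 hs
  have hg : IsIso (Q.map g) := by
    have h1 : Q.map g = Q.map s ≫ e.hom := by rw [hfac, IsIso.hom_inv_id_assoc]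
    rw [h1]
    infer_instance
  haveI : QuasiIso g := (isIso_Q_map_iff_quasiIso (C := ModuleCat.{u} A) g).1 hg
  haveI : QuasiIso (Dm I s) := quasiIso_Dm I s
  haveI : QuasiIso (Dm I g) := quasiIso_Dm I g
  haveI : IsIso (Q.map (Dm I s)) :=
    (isIso_Q_map_iff_quasiIso (C := ModuleCat.{u} A) (Dm I s)).2 inferInstance
  haveI : IsIso (Q.map (Dm I g)) :=
    (isIso_Q_map_iff_quasiIso (C := ModuleCat.{u} A) (Dm I g)).2 inferInstance
  exact ⟨asIso (Q.map (Dm I s)) ≪≫ (asIso (Q.map (Dm I g))).symm⟩

lemma isZero_toD_Dc (K : DRing.Cx A) (h : IsZero (toD K)) : IsZero (toD (Dc I K)) :=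
  isZero_toD_of_acyclic _ (acyclic_Dc_of_acyclic I K (acyclic_of_isZero_toD K h))

variable (T : Set (PrimeSpectrum A)) (i : ℤ)

/-- `H^i_T(D(K))` is finite -/
def FinD (K : DRing.Cx A) : Prop := Module.Finite A (Dual2.HDT A T (toD (Dc I K)) i)

lemma finD_of_iso {K K' : DRing.Cx A} (e : toD K ≅ toD K') (h : FinD I T i K') : FinD I T i K := by
  obtain ⟨e'⟩ := nonempty_toD_Dc_iso I e
  obtain ⟨E⟩ := nonempty_HDT_equiv_of_iso T e' i
  haveI : Module.Finite A (Dual2.HDT A T (toD (Dc I K')) i) := h
  exact Module.Finite.equiv E.symm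

lemma finD_of_isZero (K : DRing.Cx A) (h : IsZero (toD K)) : FinD I T i K := by
  haveI := subsingleton_HDT_of_isZero T _ (isZero_toD_Dc I K h) i
  exact Module.Finite.of_finite

variable (hI : TermwiseInjective I) [IsNoetherianRing A]

include hI in
lemma finD_of_ses (S : ShortComplex (DRing.Cx A)) (hS : S.ShortExact) (h₁ : FinD I T i S.X₁)
    (h₃ : FinD I T i S.X₃) : FinD I T i S.X₂ := by
  have hDS := DS_shortExact I hI S hS
  exact finite_HDT_of_triangle T (triangleOfSES hDS) (triangleOfSES_distinguished hDS) i h₃ h₁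

include hI in
/-- **Dévissage along the canonical filtration.** -/
theorem finD_of_cohomology : ∀ (j : ℕ) (K : DRing.Cx A), K.IsGE 0 → K.IsLE ((j : ℤ) - 1) →
    (∀ (b : ℤ) (N : ModuleCat.{u} A), Nonempty (N ≅ K.homology b) →
      FinD I T i ((CochainComplex.singleFunctor (ModuleCat.{u} A) b).obj N)) → FinD I T i K := by
  intro j
  induction j with
  | zero =>
    intro K hGE hLE _
    apply finD_of_isZero
    apply isZero_toD_of_acyclic
    intro n
    by_cases hn : n < 0
    · exact K.exactAt_of_isGE 0 n hn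
    · exact K.exactAt_of_isLE ((0 : ℕ) - 1 : ℤ) n (by push_cast; omega)
  | succ j ih =>
    intro K hGE hLE hK
    haveI := hGE
    haveI : K.IsLE (j : ℤ) := by
      have : ((j + 1 : ℕ) : ℤ) - 1 = (j : ℤ) := by push_cast; ring
      rw [this] at hLE
      exact hLE
    have hS := K.shortComplexTruncLE_shortExact ((j : ℤ) - 1)
    -- the sub complex
    have h₁ : FinD I T i (K.shortComplexTruncLE ((j : ℤ) - 1)).X₁ := by
      show FinD I T i (K.truncLE ((j : ℤ) - 1))
      have hiso : ∀ b : ℤ, b ≤ (j : ℤ) - 1 →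
          IsIso (HomologicalComplex.homologyMap (K.ιTruncLE ((j : ℤ) - 1)) b) := fun b hb => by
        haveI := K.quasiIsoAt_ιTruncLE ((j : ℤ) - 1) b hb
        exact (quasiIsoAt_iff_isIso_homologyMap _ _).1 inferInstance
      refine ih (K.truncLE ((j : ℤ) - 1)) ?_ inferInstance ?_
      · rw [CochainComplex.isGE_iff]
        intro b hb
        haveI := hiso b (by omega)
        rw [HomologicalComplex.exactAt_iff_isZero_homology]
        exact IsZero.of_iso ((HomologicalComplex.exactAt_iff_isZero_homology _ _).1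
          (K.exactAt_of_isGE 0 b hb))
          (asIso (HomologicalComplex.homologyMap (K.ιTruncLE ((j : ℤ) - 1)) b))
      · intro b N ⟨eN⟩
        by_cases hb : b ≤ (j : ℤ) - 1
        · haveI := hiso b hb
          exact hK b N ⟨eN ≪≫
            asIso (HomologicalComplex.homologyMap (K.ιTruncLE ((j : ℤ) - 1)) b)⟩
        · apply finD_of_isZero
          have hz : IsZero N := IsZero.of_iso
            ((HomologicalComplex.exactAt_iff_isZero_homology _ _).1
              ((K.truncLE ((j : ℤ) - 1)).exactAt_of_isLE ((j : ℤ) - 1) b (by omega))) eN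
          exact Q.map_isZero ((CochainComplex.singleFunctor (ModuleCat.{u} A) b).map_isZero hz)
    -- the quotient complex
    have h₃ : FinD I T i (K.shortComplexTruncLE ((j : ℤ) - 1)).X₃ := by
      let φ := K.shortComplexTruncLEX₃ToTruncGE ((j : ℤ) - 1) (j : ℤ) (by ring)
      haveI : IsIso (Q.map φ) :=
        (isIso_Q_map_iff_quasiIso (C := ModuleCat.{u} A) φ).2 inferInstance
      let X : Dual.D A := toD (K.truncGE (j : ℤ))
      haveI : (K.truncGE (j : ℤ)).IsLE (j : ℤ) := by
        rw [CochainComplex.isLE_iff]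
        intro b hb
        haveI := K.quasiIsoAt_πTruncGE (j : ℤ) b hb.le
        haveI : IsIso (HomologicalComplex.homologyMap (K.πTruncGE (j : ℤ)) b) :=
          (quasiIsoAt_iff_isIso_homologyMap _ _).1 inferInstance
        rw [HomologicalComplex.exactAt_iff_isZero_homology]
        exact IsZero.of_iso ((HomologicalComplex.exactAt_iff_isZero_homology _ _).1
          (K.exactAt_of_isLE (j : ℤ) b hb))
          (asIso (HomologicalComplex.homologyMap (K.πTruncGE (j : ℤ)) b)).symm
      haveI : X.IsGE (j : ℤ) := by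
        show (Q.obj (K.truncGE (j : ℤ))).IsGE (j : ℤ)
        infer_instance
      haveI : X.IsLE (j : ℤ) := by
        show (Q.obj (K.truncGE (j : ℤ))).IsLE (j : ℤ)
        infer_instance
      obtain ⟨Y, ⟨eY⟩⟩ := DerivedCategory.exists_iso_singleFunctor_obj_of_isGE_of_isLE X (j : ℤ)
      -- `Y ≅ H^j(K)`
      haveI := K.quasiIsoAt_πTruncGE (j : ℤ) (j : ℤ) le_rfl
      haveI : IsIso (HomologicalComplex.homologyMap (K.πTruncGE (j : ℤ)) (j : ℤ)) :=
        (quasiIsoAt_iff_isIso_homologyMap _ _).1 inferInstance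
      let eH : Y ≅ K.homology (j : ℤ) :=
        ((DerivedCategory.singleFunctorCompHomologyFunctorIso (ModuleCat.{u} A) (j : ℤ)).app Y).symm
          ≪≫ (DerivedCategory.homologyFunctor (ModuleCat.{u} A) (j : ℤ)).mapIso eY.symm ≪≫
          (DerivedCategory.homologyFunctorFactors (ModuleCat.{u} A) (j : ℤ)).app
            (K.truncGE (j : ℤ)) ≪≫
          (asIso (HomologicalComplex.homologyMap (K.πTruncGE (j : ℤ)) (j : ℤ))).symm
      have hY := hK (j : ℤ) Y ⟨eH⟩
      refine finD_of_iso I T i ?_ hY
      exact asIso (Q.map φ) ≪≫ eY ≪≫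
        (DerivedCategory.singleFunctorIsoCompQ (ModuleCat.{u} A) (j : ℤ)).app Y
    exact finD_of_ses I T i hI _ hS h₁ h₃

end Dual

end Groth.Agent.Lib.FinStalk
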