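import Mathlib
import Groth.Agent.Lib.FS7_helper6
import Groth.Agent.Lib.FS3_helper6
import Groth.Agent.Lib.DMod82_helper6

/-!
# Cohomology of the dual `RHom(K, ω)` of a complex with pseudo-coherent image (helper6)
-/

set_option autoImplicit false
set_option linter.style.haveILetI false
set_option linter.unusedSectionVars false
set_option linter.unusedVariables false
universe u
open CategoryTheory Limits CochainComplex CochainComplex.HomComplex ZeroObject DerivedCategory
  Pretriangulated
attribute [local instance] HasDerivedCategory.standard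

namespace Groth.Agent.Lib.FinStalk

open Groth.Agent.Lib.HomCx Groth.Agent.Lib.RHomKInj Groth.Agent.Lib.HomCxPreQis DRing
open Groth.Agent.Lib.DMod_helper6 Groth.Agent.Lib.BidualH6 Groth.Agent.Lib.FaltT

variable {A : Type u} [CommRing A]

section General

variable (ω : Dual.D A) (I : DRing.Cx A) [I.IsKInjective] (e : toD I ≅ ω)

include e in
/-- `H^q(RHom(K, ω)) ≃ Hom(K, ω[q])` -/
lemma nonempty_HD_toD_Dc_equiv (K : DRing.Cx A) (q : ℤ) :
    Nonempty (Dual.HD A (toD (Dc I K)) q ≃ₗ[A] (toD K ⟶ ω⟦q⟧)) := by
  obtain ⟨E⟩ := nonempty_homology_homCx_equiv K I q ω e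
  exact ⟨(HDQEquiv (Dc I K) q).trans E⟩

variable [IsNoetherianRing A]
  (hωfin : ∀ i : ℤ, Module.Finite A (Dual.HD A ω i))

include e hωfin in
lemma finite_HD_toD_Dc (a0 : ℤ) [DerivedCategory.IsGE ω a0] (K : DRing.Cx A) (hpc : IsPseudoCoherent' A (toD K)) (c : ℤ)
    [DerivedCategory.IsLE (toD K) c] (q : ℤ) : Module.Finite A (Dual.HD A (toD (Dc I K)) q) := by
  obtain ⟨E⟩ := nonempty_HD_toD_Dc_equiv ω I e K q
  haveI : Module.Finite A (toD K ⟶ ω⟦q⟧) := by
    refine hom_finite_of_pc_of_boundedBelow (toD K) hpc c (ω⟦q⟧) (a0 - q) ?_ ?_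
    · intro j hj
      rw [subsingleton_HD_shift_iff]
      exact ModuleCat.subsingleton_of_isZero (ω.isZero_of_isGE a0 (q + j) (by omega))
    · intro j
      haveI := hωfin (q + j)
      exact Module.Finite.equiv (HDShiftEquiv ω q j).symm
  exact Module.Finite.equiv E.symm

include e in
omit [IsNoetherianRing A] in
lemma subsingleton_HD_toD_Dc_of_lt (a0 : ℤ) [DerivedCategory.IsGE ω a0] (K : DRing.Cx A) (c : ℤ)
    [DerivedCategory.IsLE (toD K) c] (q : ℤ) (hq : q < a0 - c) :
    Subsingleton (Dual.HD A (toD (Dc I K)) q) := by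
  obtain ⟨E⟩ := nonempty_HD_toD_Dc_equiv ω I e K q
  haveI : DerivedCategory.IsGE (ω⟦q⟧) (a0 - q) :=
    TStructure.t.isGE_shift ω a0 q (a0 - q) (by omega)
  haveI : Subsingleton (toD K ⟶ ω⟦q⟧) :=
    ⟨fun f g => by
      rw [TStructure.t.zero_of_isLE_of_isGE f c (a0 - q) (by omega) inferInstance inferInstance,
        TStructure.t.zero_of_isLE_of_isGE g c (a0 - q) (by omega) inferInstance inferInstance]⟩
  exact E.toEquiv.subsingleton

end General

section Single

variable [IsNoetherianRing A]

/-- a module placed in degree `b` has pseudo-coherent image when it is finite -/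
lemma isPseudoCoherent'_toD_single (b : ℤ) (N : ModuleCat.{u} A) [Module.Finite A N] :
    IsPseudoCoherent' A (toD ((CochainComplex.singleFunctor (ModuleCat.{u} A) b).obj N)) := by
  apply isPseudoCoherent'_of_bounded_finite
  · refine ⟨b, fun i hi => ?_⟩
    haveI : Subsingleton (((CochainComplex.singleFunctor (ModuleCat.{u} A) b).obj N).homology i) :=
      ModuleCat.subsingleton_of_isZero
        (HomologicalComplex.isZero_single_obj_homology (ComplexShape.up ℤ) b N i (by omega))
    exact (HDQEquiv _ i).toEquiv.subsingleton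
  · intro i
    by_cases hi : i = b
    · subst hi
      haveI : Module.Finite A
          (((CochainComplex.singleFunctor (ModuleCat.{u} A) i).obj N).homology i) :=
        Module.Finite.equiv
          (HomologicalComplex.singleObjHomologySelfIso (ComplexShape.up ℤ) i N).symm.toLinearEquiv
      exact Module.Finite.equiv (HDQEquiv _ i).symm
    · haveI : Subsingleton
          (((CochainComplex.singleFunctor (ModuleCat.{u} A) b).obj N).homology i) :=
        ModuleCat.subsingleton_of_isZero
          (HomologicalComplex.isZero_single_obj_homology (ComplexShape.up ℤ) b N i hi)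
      haveI := (HDQEquiv ((CochainComplex.singleFunctor (ModuleCat.{u} A) b).obj N)
        i).toEquiv.subsingleton
      exact Module.Finite.of_finite

end Single

end Groth.Agent.Lib.FinStalk
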