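import Mathlib
import Groth.Agent.Lib.FS8_helper6
import Groth.Agent.Lib.FT5_helper6

/-!
# Finiteness of `H^a_T(RHom(N, ω))` for a finite module `N` killed by an ideal in `T` (helper6)
-/

set_option autoImplicit false
set_option linter.style.haveILetI false
set_option linter.unusedSectionVars false
set_option linter.unusedVariables false
universe u
open CategoryTheory Limits CochainComplex CochainComplex.HomComplex ZeroObject DerivedCategory
  Pretriangulated Opposite
attribute [local instance] HasDerivedCategory.standard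

namespace Groth.Agent.Lib.FinStalk

open Groth.Agent.Lib.HomCx Groth.Agent.Lib.RHomKInj Groth.Agent.Lib.HomCxPreQis DRing
open Groth.Agent.Lib.DMod_helper6 Groth.Agent.Lib.BidualH6 Groth.Agent.Lib.FaltT

variable {A : Type u} [CommRing A]

section Smul

variable (T : Set (PrimeSpectrum A))

/-- an element acting by zero on `X` kills `H^i_T(X)` -/
lemma smul_HDT_eq_zero (X : Dual.D A) (x : A) (hx : x • 𝟙 X = 0) (i : ℤ)
    (y : Dual2.HDT A T X i) : x • y = 0 := by
  obtain ⟨j, f, rfl⟩ := exists_rep_FD T (X⟦i⟧) y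
  rw [← map_smul]
  have h1 : x • f = 0 := by
    have h2 : x • f = f ≫ (x • 𝟙 (X⟦i⟧)) := by rw [Linear.comp_smul, Category.comp_id]
    have h3 : x • 𝟙 (X⟦i⟧) = (x • 𝟙 X)⟦i⟧' := by
      rw [Functor.map_smul, CategoryTheory.Functor.map_id]
    rw [h2, h3, hx, Functor.map_zero, comp_zero]
  have h4 : (colimit.ι (FD T (X⟦i⟧)) j).hom (x • f) =
      (colimit.ι (FD T (X⟦i⟧)) j).hom (0 : (GT T).obj (unop j) ⟶ X⟦i⟧) := congrArg _ h1
  exact h4.trans (map_zero (colimit.ι (FD T (X⟦i⟧)) j).hom)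

lemma homCxPre_smul {L L' : DRing.Cx A} (x : A) (f : L' ⟶ L) (M : DRing.Cx A) :
    homCxPre (x • f) M = x • homCxPre f M := by
  refine HomologicalComplex.hom_ext _ _ fun i => ModuleCat.hom_ext (LinearMap.ext fun z => ?_)
  rw [HomologicalComplex.smul_f_apply]
  erw [homCxPre_f_apply]
  show (Cochain.ofHom (x • f)).comp z (zero_add i) = x • ((Cochain.ofHom f).comp z (zero_add i))
  have h : Cochain.ofHom (x • f) = x • Cochain.ofHom f := by
    ext p q
    simp
  rw [h, Cochain.smul_comp]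

/-- an element acting by zero on `K` acts by zero on `RHom(K, I)` -/
lemma smul_id_toD_Dc_eq_zero (I K : DRing.Cx A) (x : A) (hx : x • 𝟙 K = 0) :
    x • 𝟙 (toD (Dc I K)) = 0 := by
  have h1 : x • 𝟙 (Dc I K) = 0 := by
    have h2 : homCxPre (x • 𝟙 K) I = x • 𝟙 (Dc I K) := by
      rw [homCxPre_smul, homCxPre_id]
    rw [← h2, hx, homCxPre_zero]
  have h3 : x • 𝟙 (toD (Dc I K)) = Q.map (x • 𝟙 (Dc I K)) := by
    rw [Functor.map_smul, CategoryTheory.Functor.map_id]
  rw [h3, h1, Functor.map_zero]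

end Smul

section Torsion

variable [IsNoetherianRing A] (ω : Dual.D A) (I : DRing.Cx A) [I.IsKInjective] (e : toD I ≅ ω)
  (hωfin : ∀ i : ℤ, Module.Finite A (Dual.HD A ω i))
  (T : Set (PrimeSpectrum A))

include e hωfin in
/-- **the torsion part** -/
theorem finD_single_of_kills (a0 : ℤ) [DerivedCategory.IsGE ω a0] (b : ℤ) (N : ModuleCat.{u} A)
    [Module.Finite A N] (𝔞 : Ideal A) (h𝔞 : InT T 𝔞) (hk : ∀ x ∈ 𝔞, ∀ n : N, x • n = 0) (i : ℤ) :
    FinD I T i ((CochainComplex.singleFunctor (ModuleCat.{u} A) b).obj N) := by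
  let K := (CochainComplex.singleFunctor (ModuleCat.{u} A) b).obj N
  have hpc := isPseudoCoherent'_toD_single b N
  haveI : DerivedCategory.IsLE (toD K) b := by
    show (Q.obj K).IsLE b
    infer_instance
  have hfin : ∀ q : ℤ, Module.Finite A (Dual.HD A (toD (Dc I K)) q) :=
    fun q => finite_HD_toD_Dc ω I e hωfin a0 K hpc b q
  have hlow : ∀ q : ℤ, q < a0 - b → Subsingleton (Dual.HD A (toD (Dc I K)) q) :=
    fun q hq => subsingleton_HD_toD_Dc_of_lt ω I e a0 K b q hq
  have hzero : ∀ x ∈ 𝔞, x • 𝟙 (toD (Dc I K)) = 0 := by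
    intro x hx
    apply smul_id_toD_Dc_eq_zero
    have h1 : x • 𝟙 N = 0 := by
      ext n
      exact hk x hx n
    have h2 : x • 𝟙 K = (CochainComplex.singleFunctor (ModuleCat.{u} A) b).map (x • 𝟙 N) := by
      rw [Functor.map_smul, CategoryTheory.Functor.map_id]
    rw [h2, h1, Functor.map_zero]
  exact (S1764_main (T := T) (toD (Dc I K)) (a0 - b) hlow hfin i).2
    ⟨𝔞, h𝔞, fun j _ x hx y => smul_HDT_eq_zero T _ x (hzero x hx) j y⟩ i le_rfl

end Torsion

end Groth.Agent.Lib.FinStalk
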