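import Mathlib
import Groth.Agent.Lib.FS9_helper6
import Groth.Agent.Lib.HDIColim3_helper2

/-!
# Vanishing of `H^a_T(RHom(N, ω))` from pointwise local duality, and the key finiteness claim (helper6)
-/

set_option autoImplicit false
set_option linter.style.haveILetI false
set_option linter.unusedSectionVars false
set_option linter.unusedVariables false
universe u
open CategoryTheory Limits CochainComplex CochainComplex.HomComplex ZeroObject DerivedCategory
  Pretriangulated Opposite
attribute [local instance] HasDerivedCategory.standard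

namespace Groth.Agent.Lib.FinStalk

open Groth.Agent.Lib.HomCx Groth.Agent.Lib.RHomKInj Groth.Agent.Lib.HomCxPreQis DRing
open Groth.Agent.Lib.DMod_helper6 Groth.Agent.Lib.BidualH6 Groth.Agent.Lib.FaltT
open Groth.Agent.Lib.HDIColim Groth.Agent.Lib.RGamma

variable {A : Type u} [CommRing A] [IsNoetherianRing A]

section Vanish

variable (ω : Dual.D A) (I : DRing.Cx A) [I.IsKInjective] (e : toD I ≅ ω)
  (hωfin : ∀ i : ℤ, Module.Finite A (Dual.HD A ω i))
  (hωloc : ∀ p : PrimeSpectrum A,
    Dual.IsDualizing (Localization.AtPrime p.asIdeal) (locD ω p.asIdeal))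
  (ν : PrimeSpectrum A → ℤ)
  (hν : ∀ p : PrimeSpectrum A, Dual.IsNormalized (Localization.AtPrime p.asIdeal)
    ((locD ω p.asIdeal)⟦ν p⟧))
  (T : Set (PrimeSpectrum A)) (hT : StableUnderSpecialization T)

include e in
omit [IsNoetherianRing A] in
/-- morphisms `RHom(K, ω) ⟶ ω[m]` are controlled by `H^m(K)` when biduality holds for `K` -/
lemma exists_homology_controls_hom (K : DRing.Cx A) (hEv : EvQis I K) (m : ℤ)
    (g : toD (Dc I K) ⟶ ω⟦m⟧) :
    ∃ k : K.homology m, ∀ t : A, t • k = 0 → t • g = 0 := by
  obtain ⟨E⟩ := nonempty_homology_homCx_equiv (Dc I K) I m ω e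
  haveI : QuasiIso (ev K I) := hEv
  haveI : IsIso (HomologicalComplex.homologyMap (ev K I) m) :=
    (quasiIsoAt_iff_isIso_homologyMap _ _).1 inferInstance
  let F : K.homology m ≃ₗ[A] (Dc I (Dc I K)).homology m :=
    (asIso (HomologicalComplex.homologyMap (ev K I) m)).toLinearEquiv
  refine ⟨F.symm (E.symm g), fun t ht => ?_⟩
  have h1 : t • E.symm g = 0 := by
    apply F.symm.injective
    rw [map_smul, ht, map_zero]
  apply E.symm.injective
  rw [map_smul, h1, map_zero]

include e hωfin hωloc hν hT in
/-- **vanishing from pointwise duality** -/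
theorem subsingleton_HDT_single (a0 : ℤ) [DerivedCategory.IsGE ω a0] (b : ℤ)
    (N : ModuleCat.{u} A) [Module.Finite A N]
    (hEv : EvQis I ((CochainComplex.singleFunctor (ModuleCat.{u} A) b).obj N))
    (hbd : ∃ B : ℤ, ∀ q : ℤ, B < q → Subsingleton (Dual.HD A
      (toD (Dc I ((CochainComplex.singleFunctor (ModuleCat.{u} A) b).obj N))) q))
    (a : ℤ)
    (hloc : ∀ p : PrimeSpectrum A, p ∈ T → ν p = a + b → p ∉ Module.support A N) :
    Subsingleton (Dual2.HDT A T
      (toD (Dc I ((CochainComplex.singleFunctor (ModuleCat.{u} A) b).obj N))) a) := by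
  let K := (CochainComplex.singleFunctor (ModuleCat.{u} A) b).obj N
  let X : Dual.D A := toD (Dc I K)
  have hpc := isPseudoCoherent'_toD_single b N
  haveI : DerivedCategory.IsLE (toD K) b := by
    show (Q.obj K).IsLE b
    infer_instance
  have hfin : ∀ q : ℤ, Module.Finite A (Dual.HD A X q) :=
    fun q => finite_HD_toD_Dc ω I e hωfin a0 K hpc b q
  have hlow : ∀ q : ℤ, q < a0 - b → Subsingleton (Dual.HD A X q) :=
    fun q hq => subsingleton_HD_toD_Dc_of_lt ω I e a0 K b q hq
  haveI : X.IsGE (a0 - b) := Groth.Agent.Lib.DMod_helper6.isGE_of_subsingleton_HD X (a0 - b) hlow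
  obtain ⟨E, hE, hEinj, hEK, ⟨eX⟩⟩ := exists_injective_model X (a0 - b)
  haveI := hEK
  obtain ⟨E1⟩ := homology_equiv_HDT T E X eX a
  have hEmod : ∀ n, Module.Injective A (E.X n) := fun n => by
    haveI := hEinj n
    exact Module.injective_module_of_injective_object A (E.X n)
  have key : ∀ h : ((ΓTC T).obj E).homology a, h = 0 := by
    refine homology_ΓT_eq_zero_of_local hT E hEmod a ?_
    intro p hp h
    obtain ⟨E2⟩ := homology_equiv_HDI p.asIdeal E X eX a
    have hall := (killsAt_hom_iff_killsAt_hdi' ω a0 p (ν p) (hωloc p) (hν p) X hbd hfin a 1).1 ?_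
      (E2 h)
    · obtain ⟨t, ht, hk⟩ := hall
      refine ⟨t, ht, ?_⟩
      apply E2.injective
      rw [map_smul, map_zero]
      rw [mul_one] at hk
      exact hk
    · intro g
      obtain ⟨k, hk⟩ := exists_homology_controls_hom ω I e K hEv (ν p - a) g
      by_cases hm : ν p - a = b
      · have hsupp := hloc p hp (by omega)
        rw [Module.notMem_support_iff'] at hsupp
        -- transport `k` to `N`
        have hkk : ∃ t : A, t ∉ p.asIdeal ∧ t • k = 0 := by
          have hgen : ∀ (m : ℤ) (hmb : m = b) (k : K.homology m),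
              ∃ t : A, t ∉ p.asIdeal ∧ t • k = 0 := by
            intro m hmb k
            subst hmb
            let F : K.homology m ≃ₗ[A] N :=
              (HomologicalComplex.singleObjHomologySelfIso (ComplexShape.up ℤ) m N).toLinearEquiv
            obtain ⟨t, ht, hk⟩ := hsupp (F k)
            refine ⟨t, ht, ?_⟩
            apply F.injective
            rw [map_smul, hk, map_zero]
          exact hgen (ν p - a) hm k
        obtain ⟨t, ht, htk⟩ := hkk
        exact ⟨t, ht, by rw [mul_one]; exact hk t htk⟩
      · haveI : Subsingleton (K.homology (ν p - a)) :=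
          ModuleCat.subsingleton_of_isZero
            (HomologicalComplex.isZero_single_obj_homology (ComplexShape.up ℤ) b N _ hm)
        refine ⟨1, fun h1 => p.isPrime.ne_top ((Ideal.eq_top_iff_one _).2 h1), ?_⟩
        rw [mul_one]
        exact hk 1 (Subsingleton.elim _ _)
  refine ⟨fun y y' => ?_⟩
  have hy : ∀ y : Dual2.HDT A T X a, y = 0 := by
    intro y
    obtain ⟨h, rfl⟩ := E1.surjective y
    rw [key h, map_zero]
  rw [hy y, hy y']

end Vanish

end Groth.Agent.Lib.FinStalk
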