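import Mathlib
import Groth.Agent.Lib.FS10_helper6

/-!
# The key finiteness claim: `H^a_T(RHom(N, ω))` is finite when no point of `T ∩ Supp(N/Γ_T N)` has
dimension function equal to the critical value (helper6)
-/

set_option autoImplicit false
set_option linter.style.haveILetI false
set_option linter.unusedSectionVars false
set_option linter.unusedVariables false
universe u
open CategoryTheory Limits CochainComplex CochainComplex.HomComplex ZeroObject DerivedCategory
  Pretriangulated Opposite
attribute [local instance] HasDerivedCategory.standard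

namespace Groth.Agent.Lib.FinStalk

open Groth.Agent.Lib.HomCx Groth.Agent.Lib.RHomKInj Groth.Agent.Lib.HomCxPreQis DRing
open Groth.Agent.Lib.DMod_helper6 Groth.Agent.Lib.BidualH6 Groth.Agent.Lib.FaltT
open Groth.Agent.Lib.HDIColim Groth.Agent.Lib.RGamma

variable {A : Type u} [CommRing A] [IsNoetherianRing A]

variable (ω : Dual.D A) (I : DRing.Cx A) [I.IsKInjective] (e : toD I ≅ ω)
  (hinj : TermwiseInjective I)
  (hωfin : ∀ i : ℤ, Module.Finite A (Dual.HD A ω i))
  (hωloc : ∀ p : PrimeSpectrum A,
    Dual.IsDualizing (Localization.AtPrime p.asIdeal) (locD ω p.asIdeal))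
  (ν : PrimeSpectrum A → ℤ)
  (hν : ∀ p : PrimeSpectrum A, Dual.IsNormalized (Localization.AtPrime p.asIdeal)
    ((locD ω p.asIdeal)⟦ν p⟧))
  (T : Set (PrimeSpectrum A)) (hT : StableUnderSpecialization T)

include e hinj hωfin hωloc hν hT in
/-- **the key claim** -/
theorem finD_single_of_condition (a0 : ℤ) [DerivedCategory.IsGE ω a0] (b : ℤ)
    (hEvAll : ∀ (N' : ModuleCat.{u} A) [Module.Finite A N'],
      EvQis I ((CochainComplex.singleFunctor (ModuleCat.{u} A) b).obj N'))
    (hbdAll : ∀ (N' : ModuleCat.{u} A) [Module.Finite A N'],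
      ∃ B : ℤ, ∀ q : ℤ, B < q → Subsingleton (Dual.HD A
        (toD (Dc I ((CochainComplex.singleFunctor (ModuleCat.{u} A) b).obj N'))) q))
    (N : Type u) [AddCommGroup N] [Module A N] [Module.Finite A N] (a : ℤ)
    (hloc : ∀ p : PrimeSpectrum A, p ∈ T → ν p = a + b →
      p ∉ Module.support A (N ⧸ torsT T N)) :
    FinD I T a ((CochainComplex.singleFunctor (ModuleCat.{u} A) b).obj (ModuleCat.of A N)) := by
  let S : ShortComplex (ModuleCat.{u} A) :=
    ShortComplex.mk (ModuleCat.ofHom (torsT T N).subtype) (ModuleCat.ofHom (torsT T N).mkQ) (by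
      ext x
      exact (Submodule.Quotient.mk_eq_zero _).2 x.2)
  have hS : S.ShortExact := by
    refine ModuleCat.shortComplex_shortExact S ?_ ?_ ?_
    · intro (x : N)
      constructor
      · intro (hx : (torsT T N).mkQ x = 0)
        exact ⟨⟨x, (Submodule.Quotient.mk_eq_zero _).1 hx⟩, rfl⟩
      · rintro ⟨y, rfl⟩
        exact (Submodule.Quotient.mk_eq_zero _).2 y.2
    · exact Subtype.val_injective
    · exact Submodule.mkQ_surjective _
  have hS' := hS.map_of_exact
    (HomologicalComplex.single (ModuleCat.{u} A) (ComplexShape.up ℤ) b)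
  haveI : Module.Finite A (torsT T N) := Module.Finite.of_injective (torsT T N).subtype
    Subtype.val_injective
  -- the torsion part
  have h₁ : FinD I T a ((CochainComplex.singleFunctor (ModuleCat.{u} A) b).obj
      (ModuleCat.of A (torsT T N))) := by
    obtain ⟨𝔞, h𝔞, hk⟩ := exists_inT_kills_of_fg (T := T) (torsT T N)
      (Module.Finite.iff_fg.1 inferInstance) le_rfl
    exact finD_single_of_kills ω I e hωfin T a0 b (ModuleCat.of A (torsT T N)) 𝔞 h𝔞
      (fun x hx n => Subtype.ext (hk x hx n.1 n.2)) a
  -- the torsion free part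
  have h₃ : FinD I T a ((CochainComplex.singleFunctor (ModuleCat.{u} A) b).obj
      (ModuleCat.of A (N ⧸ torsT T N))) := by
    haveI := subsingleton_HDT_single ω I e hωfin hωloc ν hν T hT a0 b
      (ModuleCat.of A (N ⧸ torsT T N)) (hEvAll _) (hbdAll _) a hloc
    exact Module.Finite.of_finite
  exact finD_of_ses I T a hinj _ hS' h₁ h₃

end Groth.Agent.Lib.FinStalk
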