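import Mathlib
import Groth.Agent.Lib.DedGen_helper7
import Groth.Agent.Lib.DT1_helper6
import Groth.Agent.Lib.FT15_helper6
import Groth.Agent.Lib.RelCodim_helper6

/-!
# The combinatorial lemma: from the codimension condition to the absence of critical points in the
support of the torsion free quotient (helper6)
-/

set_option backward.isDefEq.respectTransparency false
set_option autoImplicit false
set_option linter.style.haveILetI false
set_option linter.unusedSectionVars false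
set_option linter.unusedVariables false
universe u

namespace Groth.Agent.Lib.FinStalk

open Groth.Agent.Lib.FaltT Groth.Agent.Lib.DepthTwo Groth.Agent.Lib.RelCodim_helper6

/-- In a Noetherian ring, given primes `q0 ≤ m` and `a ∈ m ∖ q0`, there is a prime `q` with
`q0 ≤ q ⋖ m` and `a ∉ q`. -/
theorem exists_covBy_ge_not_mem {A : Type u} [CommRing A] [IsNoetherianRing A] (m q0 : Ideal A)
    [hm : m.IsPrime] [hq0 : q0.IsPrime] (h0 : q0 ≤ m) (a : A) (ham : a ∈ m) (ha0 : a ∉ q0) :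
    ∃ (q : Ideal A) (hq : q.IsPrime), q0 ≤ q ∧ q < m ∧ a ∉ q ∧
      (⟨q, hq⟩ : PrimeSpectrum A) ⋖ ⟨m, hm⟩ := by
  let 𝒮 : Set (Ideal A) := {q | q.IsPrime ∧ q0 ≤ q ∧ q ≤ m ∧ a ∉ q}
  have hne : 𝒮.Nonempty := ⟨q0, hq0, le_rfl, h0, ha0⟩
  obtain ⟨q, ⟨hq, hq0q, hqm, haq⟩, hmax⟩ :=
    (set_has_maximal_iff_noetherian (R := A) (M := A)).mpr inferInstance 𝒮 hne
  have hqm' : q < m := lt_of_le_of_ne hqm (by rintro rfl; exact haq ham)
  refine ⟨q, hq, hq0q, hqm', haq, ⟨hqm', ?_⟩⟩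
  intro c hqc hcm
  have hqc' : q < c.asIdeal := hqc
  have hcm' : c.asIdeal < m := hcm
  haveI := c.isPrime
  let π := Ideal.Quotient.mk q
  have hπ : Function.Surjective π := Ideal.Quotient.mk_surjective
  haveI : IsDomain (A ⧸ q) := Ideal.Quotient.isDomain q
  have hker : RingHom.ker π = q := Ideal.mk_ker
  have hkm : RingHom.ker π ≤ m := hker.le.trans hqm
  have hkc : RingHom.ker π ≤ c.asIdeal := hker.le.trans hqc'.le
  haveI hM : (m.map π).IsPrime := Ideal.map_isPrime_of_surjective hπ hkm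
  haveI hQ1 : (c.asIdeal.map π).IsPrime := Ideal.map_isPrime_of_surjective hπ hkc
  have cm_m : (m.map π).comap π = m := by
    rw [Ideal.comap_map_of_surjective π hπ, ← RingHom.ker_eq_comap_bot]
    exact sup_eq_left.mpr hkm
  have cm_c : (c.asIdeal.map π).comap π = c.asIdeal := by
    rw [Ideal.comap_map_of_surjective π hπ, ← RingHom.ker_eq_comap_bot]
    exact sup_eq_left.mpr hkc
  have hQ1ne : c.asIdeal.map π ≠ ⊥ := by
    intro h
    have : c.asIdeal ≤ q := by
      rw [← cm_c, h, ← RingHom.ker_eq_comap_bot, hker]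
    exact absurd hqc' (not_lt_of_ge this)
  have hQ1M : c.asIdeal.map π < m.map π := by
    refine lt_of_le_of_ne (Ideal.map_mono hcm'.le) ?_
    intro h
    have : c.asIdeal = m := by rw [← cm_c, h, cm_m]
    exact hcm'.ne this
  have ha0' : π a ≠ 0 := by
    intro h
    exact haq (Ideal.Quotient.eq_zero_iff_mem.mp h)
  have haM : π a ∈ m.map π := Ideal.mem_map_of_mem π ham
  obtain ⟨Q2, hQ2, hQ2ne, hQ2M, haQ2⟩ :=
    Groth.Agent.Lib.DedGenH7.exists_prime_not_mem (m.map π) (c.asIdeal.map π) hQ1ne hQ1M (π a)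
      ha0' haM
  haveI := hQ2
  have h2 : q < Q2.comap π := by
    refine lt_of_le_of_ne ?_ ?_
    · have hk2 : RingHom.ker π ≤ Q2.comap π := by
        rw [RingHom.ker_eq_comap_bot]
        exact Ideal.comap_mono bot_le
      exact hker.ge.trans hk2
    · intro h
      apply hQ2ne
      rw [← Ideal.map_comap_of_surjective π hπ Q2, ← h]
      exact Ideal.map_quotient_self q
  have h1 : Q2.comap π ∈ 𝒮 :=
    ⟨Ideal.comap_isPrime π Q2, hq0q.trans h2.le, by rw [← cm_m]; exact Ideal.comap_mono hQ2M,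
      haQ2⟩
  exact hmax _ h1 h2

variable {A : Type u} [CommRing A] [IsNoetherianRing A]

/-- **the combinatorial lemma** -/
theorem notMem_support_quotient_of_condition (ν : PrimeSpectrum A → ℤ)
    (hmono : ∀ p q : PrimeSpectrum A, p < q → ν p < ν q)
    (hcov : ∀ p q : PrimeSpectrum A, p ⋖ q → ν q = ν p + 1) (J : Ideal A)
    (N : Type u) [AddCommGroup N] [Module A N] [Module.Finite A N] (a' : ℤ)
    (hC : ∀ p : PrimeSpectrum A, p ∈ Module.support A N → ¬ J ≤ p.asIdeal →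
      ∀ c : ℕ, SGA2.relCodim J p = c → ν p + c ≠ a')
    (q : PrimeSpectrum A) (hq : J ≤ q.asIdeal) (hνq : ν q = a') :
    q ∉ Module.support A (N ⧸ torsT (PrimeSpectrum.zeroLocus (J : Set A)) N) := by
  intro hqs
  let T := PrimeSpectrum.zeroLocus (J : Set A)
  let N'' := N ⧸ torsT T N
  rw [Module.support_eq_zeroLocus, PrimeSpectrum.mem_zeroLocus] at hqs
  obtain ⟨𝔭, h𝔭min, h𝔭q⟩ := Ideal.exists_minimalPrimes_le hqs
  have hass : 𝔭 ∈ associatedPrimes A N'' :=
    Module.associatedPrimes.minimalPrimes_annihilator_subset_associatedPrimes A N'' h𝔭min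
  have hass' : IsAssociatedPrime 𝔭 N'' := hass
  obtain ⟨h𝔭prime, x, hx⟩ := (isAssociatedPrime_iff).1 hass'
  haveI := h𝔭prime
  -- `J ⊄ 𝔭`
  have hJ𝔭 : ¬ J ≤ 𝔭 := by
    intro hle
    have hxT : x ∈ torsT T N'' := by
      refine ⟨J, inT_zeroLocus_self J, fun a ha => ?_⟩
      have : a ∈ (⊥ : Submodule A N'').colon {x} := by rw [← hx]; exact hle ha
      rw [Submodule.mem_colon_singleton] at this
      exact (Submodule.mem_bot A).1 this
    rw [torsT_quotient_eq_bot T N, Submodule.mem_bot] at hxT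
    have h1 : (1 : A) ∈ 𝔭 := by
      rw [hx, Submodule.mem_colon_singleton, hxT, smul_zero]
      exact Submodule.zero_mem _
    exact h𝔭prime.ne_top ((Ideal.eq_top_iff_one _).2 h1)
  obtain ⟨a, haJ, ha𝔭⟩ := Set.not_subset.1 hJ𝔭
  obtain ⟨p, hp, h𝔭p, hpq, hap, hcv⟩ := exists_covBy_ge_not_mem q.asIdeal 𝔭 h𝔭q a (hq haJ) ha𝔭
  let p' : PrimeSpectrum A := ⟨p, hp⟩
  have hcv' : p' ⋖ q := hcv
  -- `p ∈ Supp N`
  have h𝔭N'' : (⟨𝔭, h𝔭prime⟩ : PrimeSpectrum A) ∈ Module.support A N'' := by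
    rw [Module.support_eq_zeroLocus, PrimeSpectrum.mem_zeroLocus]
    exact h𝔭min.1.2
  have h𝔭N : (⟨𝔭, h𝔭prime⟩ : PrimeSpectrum A) ∈ Module.support A N :=
    Module.support_subset_of_surjective _ (Submodule.mkQ_surjective (torsT T N)) h𝔭N''
  have hpN : p' ∈ Module.support A N :=
    Module.mem_support_mono (show (⟨𝔭, h𝔭prime⟩ : PrimeSpectrum A) ≤ p' from h𝔭p) h𝔭N
  have hJp : ¬ J ≤ p'.asIdeal := fun hle => hap (hle haJ)
  -- `c(p) = 1`
  have hνp := hcov p' q hcv'
  have hheight : Order.height (⟨q, hcv'.le⟩ : Set.Ici p') = ((1 : ℕ) : ℕ∞) :=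
    height_Ici_eq_sub ν hmono hcov p' 1 q hcv'.le (by rw [hνp]; simp)
  have hc1 : SGA2.relCodim J p' = ((1 : ℕ) : ℕ∞) := by
    apply le_antisymm
    · rw [← hheight]
      exact relCodim_le J p' q hcv'.le hq
    · exact_mod_cast one_le_relCodim J p' hJp
  have := hC p' hpN hJp 1 hc1
  apply this
  rw [← hνq, hνp]
  norm_num

end Groth.Agent.Lib.FinStalk
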