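import Mathlib
import Groth.Prelude.Def_DRing2
import Groth.Prelude.Def_DDual2
import Groth.Prelude.Def_Wider
import Groth.Agent.Lib.DMod75_helper6
import Groth.Agent.Lib.DMod101_helper6
import Groth.Agent.Lib.DMod115_helper6

/-!
# `φ^!(R)` for a local complete intersection (helper6), part 1: `Ext^j_T(T/(rs), T)` for a weakly
regular sequence `rs` vanishes for `j ≠ length rs` and is `T/(rs)` for `j = length rs`.
-/

set_option autoImplicit false
universe u
open CategoryTheory CategoryTheory.Limits DerivedCategory Pretriangulated ZeroObject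
open scoped Pointwise
attribute [local instance] HasDerivedCategory.standard

namespace Groth.Agent.Lib.ShriekLciH6

open DRing Groth.Agent.Lib.DMod_helper6

variable {T : Type u} [CommRing T]

/-- morphisms out of a module killed by `a` are killed by `a`. -/
lemma smul_hom_eq_zero_of_smul_eq_zero {N : Type u} [AddCommGroup N] [Module T N] (a : T)
    (ha : ∀ n : N, a • n = 0) {Y : Dual.D T} (ξ : Dual.inD T N ⟶ Y) : a • ξ = 0 := by
  have h1 : a • 𝟙 (Dual.inD T N) = 0 := by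
    have h0 : a • 𝟙 (ModuleCat.of T N) = 0 := by
      ext n
      exact ha n
    have h2 : (DerivedCategory.singleFunctor (ModuleCat.{u} T) 0).map
        (a • 𝟙 (ModuleCat.of T N)) = a • 𝟙 (Dual.inD T N) := by
      rw [Functor.map_smul, CategoryTheory.Functor.map_id]
    rw [← h2, h0, Functor.map_zero]
  rw [← Category.id_comp ξ, ← Linear.smul_comp, h1, zero_comp]

/-- `Hom(X[n], Y[m]) = 0` as soon as `Hom(X, Y[k]) = 0`, `k + n = m`. -/
lemma subsingleton_hom_shift_of_subsingleton {X Y : Dual.D T} (n m k : ℤ) (h : k + n = m)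
    (hs : Subsingleton (X ⟶ Y⟦k⟧)) : Subsingleton (X⟦n⟧ ⟶ Y⟦m⟧) := by
  refine subsingleton_of_forall_eq 0 (fun φ => ?_)
  let e : Y⟦m⟧ ≅ (Y⟦k⟧)⟦n⟧ := (shiftFunctorAdd' (Dual.D T) k n m h).app Y
  obtain ⟨φ', hφ'⟩ := (shiftFunctor (Dual.D T) n).map_surjective (φ ≫ e.hom)
  have h0 : φ' = 0 := Subsingleton.elim _ _
  rw [h0, Functor.map_zero] at hφ'
  rw [← cancel_mono e.hom, zero_comp, ← hφ']

variable (X : Dual.D T)

/-- one step: dividing by a regular element shifts the unique nonzero Ext group by one. -/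
theorem ext_quotSMulTop {M : Type u} [AddCommGroup M] [Module T M] (x : T)
    (hreg : IsSMulRegular M x) (c c' : ℤ) (hc : c + 1 = c')
    (hvan : ∀ j : ℤ, j ≠ c → Subsingleton (Dual.inD T M ⟶ X⟦j⟧))
    (θ : M ≃ₗ[T] (Dual.inD T M ⟶ X⟦c⟧)) :
    (∀ j : ℤ, j ≠ c' → Subsingleton (Dual.inD T (QuotSMulTop x M) ⟶ X⟦j⟧)) ∧
    Nonempty (QuotSMulTop x M ≃ₗ[T] (Dual.inD T (QuotSMulTop x M) ⟶ X⟦c'⟧)) := by
  have hS := linSC_shortExact (x • (LinearMap.id : M →ₗ[T] M)) (x • (⊤ : Submodule T M)).mkQ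
    (quotSMulTop_exact x M) (injective_of_isSMulRegular hreg) (Submodule.mkQ_surjective _)
  have hkill : ∀ n : QuotSMulTop x M, x • n = 0 := by
    intro n
    obtain ⟨m, rfl⟩ := Submodule.mkQ_surjective _ n
    rw [← map_smul, Submodule.mkQ_apply, Submodule.Quotient.mk_eq_zero]
    exact Submodule.smul_mem_pointwise_smul m x ⊤ Submodule.mem_top
  have hmap : (DerivedCategory.singleFunctor (ModuleCat.{u} T) 0).map
      (ModuleCat.ofHom (x • (LinearMap.id : M →ₗ[T] M))) = x • 𝟙 (Dual.inD T M) := by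
    have : ModuleCat.ofHom (x • (LinearMap.id : M →ₗ[T] M)) = x • 𝟙 (ModuleCat.of T M) := by
      ext m
      rfl
    rw [this, Functor.map_smul, CategoryTheory.Functor.map_id]
  refine ⟨fun j hj => ?_, ?_⟩
  · by_cases hjc : j = c
    · subst hjc
      refine subsingleton_of_forall_eq 0 (fun ξ => ?_)
      have hT := hS.singleTriangle_distinguished
      -- `p ≫ ξ = 0`
      have h1 : (DerivedCategory.singleFunctor (ModuleCat.{u} T) 0).map
          (ModuleCat.ofHom (x • (⊤ : Submodule T M)).mkQ) ≫ ξ = 0 := by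
        set η := (DerivedCategory.singleFunctor (ModuleCat.{u} T) 0).map
          (ModuleCat.ofHom (x • (⊤ : Submodule T M)).mkQ) ≫ ξ with hη
        have h2 : x • η = 0 := by
          rw [hη, ← Linear.comp_smul, smul_hom_eq_zero_of_smul_eq_zero x hkill ξ, comp_zero]
        have h3 : x • θ.symm η = 0 := by rw [← map_smul, h2, map_zero]
        have h4 : θ.symm η = 0 := hreg (by
          show x • θ.symm η = x • (0 : M)
          rw [h3, smul_zero])
        exact θ.symm.map_eq_zero_iff.1 h4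
      obtain ⟨γ, hγ⟩ := Pretriangulated.Triangle.yoneda_exact₃ _ hT ξ h1
      have hsub : Subsingleton ((Dual.inD T M)⟦(1 : ℤ)⟧ ⟶ X⟦j⟧) :=
        subsingleton_hom_shift_of_subsingleton 1 j (j - 1) (by omega) (hvan (j - 1) (by omega))
      rw [hγ, @Subsingleton.elim _ hsub γ 0]
      exact comp_zero
    · exact subsingleton_quotSMulTop X x hreg (j - 1) j (by omega) (hvan (j - 1) (by omega))
        (hvan j hjc)
  · let π : M →ₗ[T] (Dual.inD T (QuotSMulTop x M) ⟶ X⟦c'⟧) :=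
      (connLin hS X c c' hc).comp θ.toLinearMap
    have hsurj : Function.Surjective π :=
      (connLin_surjective hS X c c' hc (hvan c' (by omega))).comp θ.surjective
    have hker : LinearMap.ker π = x • (⊤ : Submodule T M) := by
      apply le_antisymm
      · intro m hm
        have h0 : connLin hS X c c' hc (θ m) = 0 := LinearMap.mem_ker.1 hm
        obtain ⟨ψ, hψ⟩ := exists_of_connLin_eq_zero hS X c c' hc (θ m) h0
        have h1 : θ m = x • ψ := by
          rw [hψ]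
          show (DerivedCategory.singleFunctor (ModuleCat.{u} T) 0).map
            (ModuleCat.ofHom (x • (LinearMap.id : M →ₗ[T] M))) ≫ ψ = x • ψ
          rw [hmap, Linear.smul_comp, Category.id_comp]
        have h2 : m = x • θ.symm ψ := by
          rw [← map_smul, ← h1, LinearEquiv.symm_apply_apply]
        rw [h2]
        exact Submodule.smul_mem_pointwise_smul _ x ⊤ Submodule.mem_top
      · intro m hm
        obtain ⟨m', -, rfl⟩ := (Submodule.mem_smul_pointwise_iff_exists _ _ _).1 hm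
        rw [LinearMap.mem_ker, map_smul]
        exact smul_hom_eq_zero_of_smul_eq_zero x hkill _
    exact ⟨(Submodule.quotEquivOfEq _ _ hker.symm).trans (π.quotKerEquivOfSurjective hsurj)⟩

/-- iteration along a weakly regular sequence. -/
theorem ext_quot_ofList : ∀ (rs : List T) (M : Type u) [AddCommGroup M] [Module T M] (c n : ℤ),
    n = c + (rs.length : ℤ) → RingTheory.Sequence.IsWeaklyRegular M rs →
    (∀ j : ℤ, j ≠ c → Subsingleton (Dual.inD T M ⟶ X⟦j⟧)) →
    (M ≃ₗ[T] (Dual.inD T M ⟶ X⟦c⟧)) →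
    (∀ j : ℤ, j ≠ n →
      Subsingleton (Dual.inD T (M ⧸ Ideal.ofList rs • (⊤ : Submodule T M)) ⟶ X⟦j⟧)) ∧
    Nonempty ((M ⧸ Ideal.ofList rs • (⊤ : Submodule T M)) ≃ₗ[T]
      (Dual.inD T (M ⧸ Ideal.ofList rs • (⊤ : Submodule T M)) ⟶ X⟦n⟧)) := by
  intro rs
  induction rs with
  | nil =>
    intro M _ _ c n hn _ hvan θ
    have hn' : n = c := by simpa using hn
    subst hn'
    have hbot : (Ideal.ofList ([] : List T) • (⊤ : Submodule T M)) = ⊥ := by
      rw [Ideal.ofList_nil, Submodule.bot_smul]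
    let e : (M ⧸ Ideal.ofList ([] : List T) • (⊤ : Submodule T M)) ≃ₗ[T] M :=
      Submodule.quotEquivOfEqBot _ hbot
    refine ⟨fun j hj => subsingleton_hom_of_linearEquiv e.symm _ (hvan j hj), ?_⟩
    let τ : (Dual.inD T M ⟶ X⟦n⟧) ≃ₗ[T]
        (Dual.inD T (M ⧸ Ideal.ofList ([] : List T) • (⊤ : Submodule T M)) ⟶ X⟦n⟧) :=
      Linear.homCongr T (inDIsoOfLinearEquiv e.symm) (Iso.refl _)
    exact ⟨e.trans (θ.trans τ)⟩
  | cons x rs ih =>
    intro M _ _ c n hn hreg hvan θ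
    rw [RingTheory.Sequence.isWeaklyRegular_cons_iff] at hreg
    obtain ⟨hv1, ⟨θ1⟩⟩ := ext_quotSMulTop X x hreg.1 c (c + 1) rfl hvan θ
    obtain ⟨hv2, ⟨θ2⟩⟩ := ih (QuotSMulTop x M) (c + 1) n
      (by rw [hn, List.length_cons]; push_cast; ring) hreg.2 hv1 θ1
    let e := Submodule.quotOfListConsSMulTopEquivQuotSMulTopInner M x rs
    refine ⟨fun j hj => subsingleton_hom_of_linearEquiv e.symm _ (hv2 j hj), ?_⟩
    let τ : (Dual.inD T (QuotSMulTop x M ⧸
          Ideal.ofList rs • (⊤ : Submodule T (QuotSMulTop x M))) ⟶ X⟦n⟧) ≃ₗ[T]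
        (Dual.inD T (M ⧸ Ideal.ofList (x :: rs) • (⊤ : Submodule T M)) ⟶ X⟦n⟧) :=
      Linear.homCongr T (inDIsoOfLinearEquiv e.symm) (Iso.refl _)
    exact ⟨e.trans (θ2.trans τ)⟩

/-- `Ext^j_T(T/(rs), T)` for a weakly regular sequence `rs`. -/
theorem ext_quot_ofList_self (rs : List T) (hreg : RingTheory.Sequence.IsWeaklyRegular T rs) :
    (∀ j : ℤ, j ≠ (rs.length : ℤ) →
      Subsingleton (Dual.inD T (T ⧸ Ideal.ofList rs) ⟶ (Dual.inD T T)⟦j⟧)) ∧
    Nonempty ((T ⧸ Ideal.ofList rs) ≃ₗ[T]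
      (Dual.inD T (T ⧸ Ideal.ofList rs) ⟶ (Dual.inD T T)⟦(rs.length : ℤ)⟧)) := by
  let θ0 : T ≃ₗ[T] (Dual.inD T T ⟶ (Dual.inD T T)⟦(0 : ℤ)⟧) :=
    (LinearEquiv.ofBijective
      ({ toFun := fun a => a • 𝟙 (Dual.inD T T)
         map_add' := fun a b => add_smul a b _
         map_smul' := fun a b => by
          rw [smul_eq_mul, mul_smul]
          rfl } : T →ₗ[T] (Dual.inD T T ⟶ Dual.inD T T))
      toEnd_inD_self_bijective).trans
    (Linear.homCongr T (Iso.refl _) ((shiftFunctorZero (Dual.D T) ℤ).app (Dual.inD T T)).symm)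
  obtain ⟨h1, ⟨θ⟩⟩ := ext_quot_ofList (Dual.inD T T) rs T 0 (rs.length : ℤ) (by ring) hreg
    (fun j hj => hom_inD_self_shift_subsingleton j hj) θ0
  have htop : Ideal.ofList rs • (⊤ : Submodule T T) = Ideal.ofList rs := by
    rw [smul_eq_mul, Ideal.mul_top]
  let e : (T ⧸ Ideal.ofList rs • (⊤ : Submodule T T)) ≃ₗ[T] (T ⧸ Ideal.ofList rs) :=
    Submodule.quotEquivOfEq _ _ htop
  refine ⟨fun j hj => subsingleton_hom_of_linearEquiv e _ (h1 j hj), ?_⟩
  let τ : (Dual.inD T (T ⧸ Ideal.ofList rs • (⊤ : Submodule T T)) ⟶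
        (Dual.inD T T)⟦(rs.length : ℤ)⟧) ≃ₗ[T]
      (Dual.inD T (T ⧸ Ideal.ofList rs) ⟶ (Dual.inD T T)⟦(rs.length : ℤ)⟧) :=
    Linear.homCongr T (inDIsoOfLinearEquiv e) (Iso.refl _)
  exact ⟨e.symm.trans (θ.trans τ)⟩

end Groth.Agent.Lib.ShriekLciH6
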