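import Mathlib
import Groth.Agent.Lib.FS11_helper6
import Groth.Agent.Lib.FS12_helper6
import Groth.Agent.Lib.FT21_helper6
import Groth.Agent.Lib.FT24_helper6
import Groth.Agent.Lib.DMod86_helper6
import Groth.Agent.Lib.DMod25_helper6
import Groth.Agent.Lib.ShriekLci1_helper6

/-!
# Finiteness of `H^i_J(M)` from the vanishing of the stalks shifted by the codimension, over a ring
with a pointwise dualizing complex for which biduality holds (helper6)
-/

set_option autoImplicit false
set_option linter.style.haveILetI false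
set_option linter.unusedSectionVars false
set_option linter.unusedVariables false
universe u
open CategoryTheory Limits CochainComplex CochainComplex.HomComplex ZeroObject DerivedCategory
  Pretriangulated Opposite
attribute [local instance] HasDerivedCategory.standard

namespace Groth.Agent.Lib.FinStalk

open Groth.Agent.Lib.HomCx Groth.Agent.Lib.RHomKInj Groth.Agent.Lib.HomCxPreQis DRing
open Groth.Agent.Lib.DMod_helper6 Groth.Agent.Lib.BidualH6 Groth.Agent.Lib.FaltT
open Groth.Agent.Lib.HDIColim Groth.Agent.Lib.RGamma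

variable {A : Type u} [CommRing A] [IsNoetherianRing A]

/-- the module `M` placed in degree `0`, as a complex -/
noncomputable abbrev M0 (M : Type u) [AddCommGroup M] [Module A M] : DRing.Cx A :=
  (CochainComplex.singleFunctor (ModuleCat.{u} A) 0).obj (ModuleCat.of A M)

/-- `M[0]` as a complex and as an object of the derived category -/
noncomputable def toDM0Iso (M : Type u) [AddCommGroup M] [Module A M] :
    toD (M0 (A := A) M) ≅ Dual.inD A M :=
  ((DerivedCategory.singleFunctorIsoCompQ (ModuleCat.{u} A) 0).app (ModuleCat.of A M)).symm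

/-- **Step A**: local duality at `p` translates the vanishing of the stalk of `H^j_p(M)` into the
vanishing of the stalk of `Ext^{ν(p) - j}(M, ω)`. -/
lemma notMem_support_of_killsAt (ω : Dual.D A) [DerivedCategory.IsGE ω 0] (I₀ : DRing.Cx A)
    [I₀.IsKInjective] (e : toD I₀ ≅ ω) (p : PrimeSpectrum A) (νp : ℤ)
    (hωp : Dual.IsDualizing (Localization.AtPrime p.asIdeal) (locD ω p.asIdeal))
    (hνp : Dual.IsNormalized (Localization.AtPrime p.asIdeal) ((locD ω p.asIdeal)⟦νp⟧))
    (M : Type u) [AddCommGroup M] [Module A M] [Module.Finite A M] (j b : ℤ) (hjb : νp - j = b)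
    (N : ModuleCat.{u} A) (eN : N ≅ (Dc I₀ (M0 M)).homology b)
    (hk : ∀ y : Dual2.HDI A p.asIdeal (Dual.inD A M) j, ∃ t : A, t ∉ p.asIdeal ∧ t • y = 0) :
    p ∉ Module.support A N := by
  subst hjb
  have hb : ∃ b : ℤ, ∀ i : ℤ, b < i → Subsingleton (Dual.HD A (Dual.inD A M) i) :=
    ⟨0, fun i hi => ModuleCat.subsingleton_of_isZero (isZero_HD_inD _ i (by omega))⟩
  have key := (killsAt_hom_iff_killsAt_hdi' ω 0 p νp hωp hνp (Dual.inD A M) hb
    (finite_HD_inD M) j 1).2 (by
      intro y
      obtain ⟨t, ht, hty⟩ := hk y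
      exact ⟨t, ht, by rw [mul_one]; exact hty⟩)
  obtain ⟨E⟩ := nonempty_homology_homCx_equiv (M0 M) I₀ (νp - j) ω e
  rw [Module.notMem_support_iff']
  intro m
  obtain ⟨t, htp, ht⟩ := key ((toDM0Iso M).inv ≫ E (eN.hom.hom m))
  refine ⟨t, htp, ?_⟩
  rw [mul_one, ← Linear.comp_smul, ← map_smul] at ht
  have h1 : E (t • eN.hom.hom m) = 0 := by
    rw [← cancel_epi (toDM0Iso M).inv, ht, comp_zero]
  have h2 : t • eN.hom.hom m = 0 := by
    rw [← map_zero E] at h1
    exact E.injective h1
  rw [← map_smul] at h2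
  have h3 : Function.Injective eN.hom.hom := by
    rw [← ModuleCat.mono_iff_injective]
    infer_instance
  exact h3 (h2.trans (map_zero _).symm)

/-- `Hom_D(N[-b], ω[q]) = 0` for `q ≫ 0` -/
lemma exists_bound_HD_toD_Dc_single (ω : Dual.D A) (I₀ : DRing.Cx A)
    [I₀.IsKInjective] (e : toD I₀ ≅ ω) (b : ℤ) (N' : ModuleCat.{u} A)
    (hbd : ∃ B : ℤ, ∀ q : ℤ, B < q → Subsingleton (Dual.inD A N' ⟶ ω⟦q⟧)) :
    ∃ B : ℤ, ∀ q : ℤ, B < q → Subsingleton (Dual.HD A
        (toD (Dc I₀ ((CochainComplex.singleFunctor (ModuleCat.{u} A) b).obj N'))) q) := by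
  obtain ⟨B, hB⟩ := hbd
  refine ⟨B - b, fun q hq => ?_⟩
  obtain ⟨E⟩ := nonempty_HD_toD_Dc_equiv ω I₀ e
    ((CochainComplex.singleFunctor (ModuleCat.{u} A) b).obj N') q
  haveI := hB (q + b) (by omega)
  haveI : Subsingleton ((Dual.inD A N')⟦(-b)⟧ ⟶ ω⟦q⟧) :=
    Groth.Agent.Lib.ShriekLciH6.subsingleton_hom_shift_of_subsingleton (-b) q (q + b) (by omega)
      inferInstance
  haveI : Subsingleton (toD ((CochainComplex.singleFunctor (ModuleCat.{u} A) b).obj N') ⟶
      ω⟦q⟧) := by
    refine ⟨fun f g => ?_⟩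
    refine (cancel_epi (toDSingleIso N' b (-b) (by omega)).inv).1 ?_
    exact Subsingleton.elim _ _
  exact E.toEquiv.subsingleton

/-- **Main theorem, general form**: over a Noetherian ring with a pointwise dualizing complex `ω`
which is self dual and such that all finite modules have finite projective dimension. -/
theorem finite_HDI_of_condition (ω : Dual.D A) [DerivedCategory.IsGE ω 0]
    (hωfin : ∀ i : ℤ, Module.Finite A (Dual.HD A ω i))
    (hωloc : ∀ p : PrimeSpectrum A,
      Dual.IsDualizing (Localization.AtPrime p.asIdeal) (locD ω p.asIdeal))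
    (hωsd : SelfDual ω)
    (hpd : ∀ (N : Type u) [AddCommGroup N] [Module A N] [Module.Finite A N],
      ∃ n : ℕ, HasProjectiveDimensionLT (ModuleCat.of A N) (n + 1))
    (hbd : ∀ (N : Type u) [AddCommGroup N] [Module A N] [Module.Finite A N],
      ∃ B : ℤ, ∀ q : ℤ, B < q → Subsingleton (Dual.inD A N ⟶ ω⟦q⟧))
    (J : Ideal A) (M : Type u) [AddCommGroup M] [Module A M] [Module.Finite A M] (i : ℤ)
    (h : ∀ p : PrimeSpectrum A, ¬ J ≤ p.asIdeal → ∀ c : ℕ, SGA2.relCodim J p = c →
      ∀ y : Dual2.HDI A p.asIdeal (Dual.inD A M) (i - c), ∃ t : A, t ∉ p.asIdeal ∧ t • y = 0) :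
    Module.Finite A (Dual2.HDI A J (Dual.inD A M) i) := by
  obtain ⟨ν, hν, hmono, hcov⟩ := exists_normalizing_function' ω 0 hωloc
  obtain ⟨I₀, hI₀ge, hinj0, hKI, ⟨e0⟩⟩ := exists_injective_model ω 0
  haveI := hKI
  have hinj : TermwiseInjective I₀ := fun n => by
    haveI := hinj0 n
    exact Module.injective_module_of_injective_object A (I₀.X n)
  let e : toD I₀ ≅ ω := e0.symm
  have hsd : SelfDual (toD I₀) := selfDual_of_iso e0 hωsd
  let T : Set (PrimeSpectrum A) := PrimeSpectrum.zeroLocus (J : Set A)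
  have hT : StableUnderSpecialization T :=
    (PrimeSpectrum.isClosed_zeroLocus _).stableUnderSpecialization
  have hEvAll : ∀ (b : ℤ) (N' : ModuleCat.{u} A) [Module.Finite A N'],
      EvQis I₀ ((CochainComplex.singleFunctor (ModuleCat.{u} A) b).obj N') := by
    intro b N' _
    obtain ⟨n, hn⟩ := hpd N'
    exact evQis_single_of_pd I₀ hinj hsd b n N' hn
  have hbdAll : ∀ (b : ℤ) (N' : ModuleCat.{u} A) [Module.Finite A N'],
      ∃ B : ℤ, ∀ q : ℤ, B < q → Subsingleton (Dual.HD A
        (toD (Dc I₀ ((CochainComplex.singleFunctor (ModuleCat.{u} A) b).obj N'))) q) := by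
    intro b N' _
    exact exists_bound_HD_toD_Dc_single ω I₀ e b N' (hbd N')
  -- the complex `K' = D(M)`
  let K' : DRing.Cx A := Dc I₀ (M0 M)
  haveI : DerivedCategory.IsLE (toD (M0 (A := A) M)) 0 :=
    TStructure.t.isLE_of_iso (toDM0Iso M).symm 0
  have hlow : ∀ q : ℤ, q < 0 → Subsingleton (K'.homology q) := by
    intro q hq
    haveI := subsingleton_HD_toD_Dc_of_lt ω I₀ e 0 (M0 M) 0 q (by omega)
    exact (HDQEquiv K' q).symm.toEquiv.subsingleton
  obtain ⟨B, hB⟩ := hbdAll 0 (ModuleCat.of A M)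
  have hhigh : ∀ q : ℤ, B < q → Subsingleton (K'.homology q) := by
    intro q hq
    haveI := hB q hq
    exact (HDQEquiv K' q).symm.toEquiv.subsingleton
  have hGE : K'.IsGE 0 := by
    rw [CochainComplex.isGE_iff]
    intro q hq
    rw [HomologicalComplex.exactAt_iff_isZero_homology]
    haveI := hlow q hq
    exact ModuleCat.isZero_of_subsingleton _
  let j : ℕ := (B + 1).toNat
  have hLE : K'.IsLE ((j : ℤ) - 1) := by
    rw [CochainComplex.isLE_iff]
    intro q hq
    rw [HomologicalComplex.exactAt_iff_isZero_homology]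
    haveI := hhigh q (by omega)
    exact ModuleCat.isZero_of_subsingleton _
  have hfinK' : ∀ q, Module.Finite A (K'.homology q) := by
    intro q
    haveI := finite_HD_toD_Dc ω I₀ e hωfin 0 (M0 M)
      (isPseudoCoherent'_toD_single 0 (ModuleCat.of A M)) 0 q
    exact Module.Finite.equiv (HDQEquiv K' q)
  have hFin : FinD I₀ T i K' := by
    refine finD_of_cohomology I₀ T i hinj j K' hGE hLE ?_
    rintro b N ⟨eN⟩
    haveI := hfinK' b
    haveI : Module.Finite A N := Module.Finite.equiv eN.symm.toLinearEquiv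
    refine finD_single_of_condition ω I₀ e hinj hωfin hωloc ν hν T hT 0 b (hEvAll b)
      (hbdAll b) N i ?_
    intro p hpT hνp
    refine notMem_support_quotient_of_condition ν hmono hcov J N (i + b) ?_ p
      ((PrimeSpectrum.mem_zeroLocus _ _).1 hpT) hνp
    intro p' hp'N hJp' c hc heq
    exact notMem_support_of_killsAt ω I₀ e p' (ν p') (hωloc p') (hν p') M (i - c) b (by omega) N
      eN (h p' hJp' c hc) hp'N
  -- conclusion
  have hev : QuasiIso (ev (M0 M) I₀) := hEvAll 0 (ModuleCat.of A M)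
  haveI : IsIso (Q.map (ev (M0 M) I₀)) :=
    (isIso_Q_map_iff_quasiIso (C := ModuleCat.{u} A) _).2 hev
  let iso : toD (Dc I₀ K') ≅ Dual.inD A M :=
    (asIso (Q.map (ev (M0 M) I₀))).symm ≪≫ toDM0Iso M
  obtain ⟨E1⟩ := nonempty_HDT_equiv_of_iso T iso i
  obtain ⟨E2⟩ := nonempty_HDT_zeroLocus_equiv_HDI J (Dual.inD A M) i
  haveI : Module.Finite A (Dual2.HDT A T (toD (Dc I₀ K')) i) := hFin
  exact Module.Finite.equiv (E1.trans E2)

end Groth.Agent.Lib.FinStalk
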