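import Mathlib
import Groth.Agent.Lib.FS13_helper6
import Groth.Agent.Lib.DualExist1_helper2
import Groth.Agent.Lib.DMod87_helper6
import Groth.Agent.Lib.DMod79_helper6

/-!
# The finiteness theorem over a regular ring (helper6)
-/

set_option autoImplicit false
set_option linter.style.haveILetI false
set_option linter.unusedSectionVars false
set_option linter.unusedVariables false
universe u
open CategoryTheory Limits CochainComplex CochainComplex.HomComplex ZeroObject DerivedCategory
  Pretriangulated Opposite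
open scoped TensorProduct
attribute [local instance] HasDerivedCategory.standard

namespace Groth.Agent.Lib.FinStalk

open Groth.Agent.Lib.HomCx Groth.Agent.Lib.RHomKInj Groth.Agent.Lib.HomCxPreQis DRing
open Groth.Agent.Lib.DMod_helper6 Groth.Agent.Lib.BidualH6 Groth.Agent.Lib.FaltT
open Groth.Agent.Lib.HDIColim Groth.Agent.Lib.RGamma

variable (R : Type u) [CommRing R] [IsRegularRing R]

lemma isDualizing_locD_inD_self (p : PrimeSpectrum R) :
    Dual.IsDualizing (Localization.AtPrime p.asIdeal) (locD (Dual.inD R R) p.asIdeal) := by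
  haveI : IsRegularLocalRing (Localization.AtPrime p.asIdeal) :=
    IsRegularRing.isRegularLocalRing_localization p.asIdeal
  let e1 : (bcD R (Localization.AtPrime p.asIdeal)).obj (Dual.inD R R) ≅
      Dual.inD (Localization.AtPrime p.asIdeal) ((Localization.AtPrime p.asIdeal) ⊗[R] R) :=
    bcSingleIso R
  let e2 : Dual.inD (Localization.AtPrime p.asIdeal) ((Localization.AtPrime p.asIdeal) ⊗[R] R) ≅
      Dual.inD (Localization.AtPrime p.asIdeal) (Localization.AtPrime p.asIdeal) :=
    inDIsoOfLinearEquiv (TensorProduct.AlgebraTensorModule.rid R (Localization.AtPrime p.asIdeal)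
      (Localization.AtPrime p.asIdeal))
  exact isDualizing_of_iso (e1 ≪≫ e2).symm
    (Groth.Agent.Lib.DualExist.isDualizing_self_of_isRegularLocalRing _)

lemma exists_bound_hom_inD_self (N : Type u) [AddCommGroup N] [Module R N] [Module.Finite R N] :
    ∃ B : ℤ, ∀ q : ℤ, B < q → Subsingleton (Dual.inD R N ⟶ (Dual.inD R R)⟦q⟧) := by
  obtain ⟨n, hn⟩ := exists_hasPDLE_of_isRegularRing R N
  refine ⟨n, fun q hq => ?_⟩
  letI := HasExt.standard (ModuleCat.{u} R)
  obtain ⟨k, rfl⟩ : ∃ k : ℕ, q = (k : ℤ) := ⟨q.toNat, (Int.toNat_of_nonneg (by omega)).symm⟩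
  haveI : HasProjectiveDimensionLT (ModuleCat.of R N) (n + 1) := hn
  haveI : Subsingleton (Abelian.Ext (ModuleCat.of R N) (ModuleCat.of R R) k) :=
    HasProjectiveDimensionLT.subsingleton (ModuleCat.of R N) (n + 1) k (by omega) _
  have hs : Subsingleton (ShiftedHom ((DerivedCategory.singleFunctor _ 0).obj (ModuleCat.of R N))
      ((DerivedCategory.singleFunctor _ 0).obj (ModuleCat.of R R)) ((k : ℕ) : ℤ)) :=
    Abelian.Ext.homEquiv.symm.subsingleton
  exact hs

/-- **Main theorem over a regular ring.** -/
theorem finite_HDI_of_condition_regular (J : Ideal R) (M : Type u) [AddCommGroup M] [Module R M]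
    [Module.Finite R M] (i : ℤ)
    (h : ∀ p : PrimeSpectrum R, ¬ J ≤ p.asIdeal → ∀ c : ℕ, SGA2.relCodim J p = c →
      ∀ y : Dual2.HDI R p.asIdeal (Dual.inD R M) (i - c), ∃ t : R, t ∉ p.asIdeal ∧ t • y = 0) :
    Module.Finite R (Dual2.HDI R J (Dual.inD R M) i) := by
  haveI : DerivedCategory.IsGE (Dual.inD R R) 0 := by
    rw [DerivedCategory.isGE_iff]
    intro j hj
    exact isZero_HD_inD _ j (by omega)
  exact finite_HDI_of_condition (Dual.inD R R) finite_HD_inD_self (isDualizing_locD_inD_self R)
    selfDual_inD_self (fun N _ _ _ => exists_hasPDLE_of_isRegularRing R N)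
    (fun N _ _ _ => exists_bound_hom_inD_self R N) J M i h

end Groth.Agent.Lib.FinStalk
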