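import Mathlib
import Groth.Agent.Lib.RelCodim_helper6

/-!
# `SGA2.relCodim` is invariant under passage to a quotient ring (helper6)
-/

set_option autoImplicit false
set_option linter.style.haveILetI false
set_option linter.unusedSectionVars false
set_option linter.unusedVariables false
universe u

namespace Groth.Agent.Lib.FinStalk

variable {R A : Type u} [CommRing R] [CommRing A] (π : R →+* A) (hπ : Function.Surjective π)

include hπ in
lemma comap_le_comap_iff (p q : PrimeSpectrum A) :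
    PrimeSpectrum.comap π p ≤ PrimeSpectrum.comap π q ↔ p ≤ q :=
  Ideal.comap_le_comap_iff_of_surjective π hπ p.asIdeal q.asIdeal

include hπ in
lemma exists_comap_eq (Q : PrimeSpectrum R) (hQ : RingHom.ker π ≤ Q.asIdeal) :
    ∃ q : PrimeSpectrum A, PrimeSpectrum.comap π q = Q := by
  haveI := Q.isPrime
  refine ⟨⟨Q.asIdeal.map π, Ideal.map_isPrime_of_surjective hπ hQ⟩, ?_⟩
  apply PrimeSpectrum.ext
  show (Q.asIdeal.map π).comap π = Q.asIdeal
  rw [Ideal.comap_map_of_surjective π hπ, ← RingHom.ker_eq_comap_bot]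
  exact sup_eq_left.mpr hQ

lemma ker_le_comap (p : PrimeSpectrum A) : RingHom.ker π ≤ (PrimeSpectrum.comap π p).asIdeal := by
  intro x hx
  show π x ∈ p.asIdeal
  rw [(RingHom.mem_ker).1 hx]
  exact Ideal.zero_mem _

/-- the primes above `p` and the primes above its preimage -/
noncomputable def iciOrderIso (p : PrimeSpectrum A) :
    Set.Ici p ≃o Set.Ici (PrimeSpectrum.comap π p) := by
  let g : Set.Ici p → Set.Ici (PrimeSpectrum.comap π p) := fun q =>
    ⟨PrimeSpectrum.comap π q.1, (comap_le_comap_iff π hπ p q.1).2 q.2⟩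
  have hginj : Function.Injective g := by
    intro a b hab
    apply Subtype.ext
    exact PrimeSpectrum.comap_injective_of_surjective π hπ (congrArg Subtype.val hab)
  have hgsurj : Function.Surjective g := by
    rintro ⟨Q, hQ⟩
    have hQ' : PrimeSpectrum.comap π p ≤ Q := hQ
    obtain ⟨q, rfl⟩ := exists_comap_eq π hπ Q ((ker_le_comap π p).trans hQ')
    exact ⟨⟨q, (comap_le_comap_iff π hπ p q).1 hQ'⟩, rfl⟩
  exact
    { Equiv.ofBijective g ⟨hginj, hgsurj⟩ with
      map_rel_iff' := by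
        intro a b
        exact comap_le_comap_iff π hπ a.1 b.1 }

include hπ in
lemma iciOrderIso_apply (p : PrimeSpectrum A) (q : Set.Ici p) :
    ((iciOrderIso π hπ p q : Set.Ici (PrimeSpectrum.comap π p)) : PrimeSpectrum R) =
      PrimeSpectrum.comap π q.1 := rfl

include hπ in
lemma height_Ici_comap (p q : PrimeSpectrum A) (hpq : p ≤ q)
    (hpq' : PrimeSpectrum.comap π p ≤ PrimeSpectrum.comap π q) :
    Order.height (⟨PrimeSpectrum.comap π q, hpq'⟩ : Set.Ici (PrimeSpectrum.comap π p)) =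
      Order.height (⟨q, hpq⟩ : Set.Ici p) :=
  Order.height_orderIso (iciOrderIso π hπ p) ⟨q, hpq⟩

include hπ in
lemma comap_le_comap_asIdeal_iff (I : Ideal A) (q : PrimeSpectrum A) :
    I.comap π ≤ (PrimeSpectrum.comap π q).asIdeal ↔ I ≤ q.asIdeal :=
  Ideal.comap_le_comap_iff_of_surjective π hπ I q.asIdeal

include hπ in
theorem relCodim_comap (I : Ideal A) (p : PrimeSpectrum A) :
    SGA2.relCodim (I.comap π) (PrimeSpectrum.comap π p) = SGA2.relCodim I p := by
  apply le_antisymm
  · unfold SGA2.relCodim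
    refine le_iInf fun q => ?_
    have hpq' : PrimeSpectrum.comap π p ≤ PrimeSpectrum.comap π q.1 :=
      (comap_le_comap_iff π hπ p q.1).2 q.2.1
    rw [← height_Ici_comap π hπ p q.1 q.2.1 hpq']
    exact iInf_le (fun Q : {Q : PrimeSpectrum R // PrimeSpectrum.comap π p ≤ Q ∧
        I.comap π ≤ Q.asIdeal} => Order.height (⟨Q.1, Q.2.1⟩ : Set.Ici (PrimeSpectrum.comap π p)))
      ⟨PrimeSpectrum.comap π q.1, hpq', (comap_le_comap_asIdeal_iff π hπ I q.1).2 q.2.2⟩
  · unfold SGA2.relCodim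
    refine le_iInf fun Q => ?_
    obtain ⟨Q, hQ1, hQ2⟩ := Q
    obtain ⟨q, rfl⟩ := exists_comap_eq π hπ Q ((ker_le_comap π p).trans hQ1)
    have hpq : p ≤ q := (comap_le_comap_iff π hπ p q).1 hQ1
    show _ ≤ Order.height (⟨PrimeSpectrum.comap π q, hQ1⟩ : Set.Ici (PrimeSpectrum.comap π p))
    rw [height_Ici_comap π hπ p q hpq hQ1]
    exact iInf_le (fun q : {q : PrimeSpectrum A // p ≤ q ∧ I ≤ q.asIdeal} =>
        Order.height (⟨q.1, q.2.1⟩ : Set.Ici p))
      ⟨q, hpq, (comap_le_comap_asIdeal_iff π hπ I q).1 hQ2⟩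

end Groth.Agent.Lib.FinStalk
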