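import Mathlib
import Groth.Agent.Lib.FS14_helper6
import Groth.Agent.Lib.FS15_helper6
import Groth.Agent.Lib.SV1_helper6
import Groth.Agent.Lib.LocCohBaseIndep_helper7
import Groth.Agent.Lib.FlatHom5_helper2
import Groth.Agent.Lib.DMod89_helper6
import Groth.Agent.Lib.FT8_helper6

/-!
# The finiteness theorem for quotients of regular rings (helper6)
-/

set_option autoImplicit false
set_option linter.style.haveILetI false
set_option linter.unusedSectionVars false
set_option linter.unusedVariables false
universe u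
open CategoryTheory Limits DerivedCategory
attribute [local instance] HasDerivedCategory.standard

namespace Groth.Agent.Lib.FinStalk

open Groth.Agent.Lib.DMod_helper6 Groth.Agent.Lib.FaltT Groth.Agent.Lib.FlatHom
  Groth.Agent.Lib.StalkVan

section Transfer

variable {R A : Type u} [CommRing R] [CommRing A] [IsNoetherianRing R] [IsNoetherianRing A]
  [Algebra R A] (hπ : Function.Surjective (algebraMap R A))
  (M : Type u) [AddCommGroup M] [Module A M] [Module R M] [IsScalarTower R A M]

include hπ in
/-- transfer of the pointwise killing condition from `A` to `R`, at a prime in the image -/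
lemma killsAt_HDI_comap (p : PrimeSpectrum A) (j : ℕ)
    (hA : ∀ y : Dual2.HDI A p.asIdeal (Dual.inD A M) (j : ℤ),
      ∃ t : A, t ∉ p.asIdeal ∧ t • y = 0)
    (y : Dual2.HDI R (p.asIdeal.comap (algebraMap R A)) (Dual.inD R M) (j : ℤ)) :
    ∃ t : R, t ∉ p.asIdeal.comap (algebraMap R A) ∧ t • y = 0 := by
  obtain ⟨eA⟩ := hdi_inD_equiv_locCoh p.asIdeal M j
  obtain ⟨eR⟩ := hdi_inD_equiv_locCoh (p.asIdeal.comap (algebraMap R A)) M j
  have hmain := Groth.Agent.Lib.LocCohBaseIndepH7.main (R := R) A
    (p.asIdeal.comap (algebraMap R A)) j M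
  have hmap : (p.asIdeal.comap (algebraMap R A)).map (algebraMap R A) = p.asIdeal :=
    Ideal.map_comap_of_surjective _ hπ _
  rw [hmap] at hmain
  obtain ⟨φ, hφ⟩ := hmain
  obtain ⟨t', ht', hty⟩ := hA (eA.symm (φ.symm (eR y)))
  obtain ⟨t, rfl⟩ := hπ t'
  refine ⟨t, ht', ?_⟩
  apply eR.injective
  rw [map_smul, map_zero]
  have h1 : algebraMap R A t • φ.symm (eR y) = 0 := by
    have h2 := congrArg eA hty
    rw [map_smul, map_zero, LinearEquiv.apply_symm_apply] at h2
    exact h2
  have h3 := hφ t (φ.symm (eR y))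
  rw [h1, map_zero, AddEquiv.apply_symm_apply] at h3
  exact h3.symm

/-- an element of the kernel outside of `P` kills everything -/
lemma killsAt_HDI_of_not_ker_le (P : Ideal R) (hP : ¬ RingHom.ker (algebraMap R A) ≤ P) (j : ℤ)
    (y : Dual2.HDI R P (Dual.inD R M) j) : ∃ t : R, t ∉ P ∧ t • y = 0 := by
  obtain ⟨s, hs, hsP⟩ := Set.not_subset.1 hP
  refine ⟨s, hsP, ?_⟩
  have hsM : ∀ m : M, s • m = 0 := fun m => by
    rw [← algebraMap_smul A s m, (RingHom.mem_ker).1 hs, zero_smul]
  have h1 : s • 𝟙 (Dual.inD R M) = 0 := smul_hom_eq_zero_of_smul_eq_zero s hsM (𝟙 _)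
  obtain ⟨E⟩ := nonempty_HDT_zeroLocus_equiv_HDI P (Dual.inD R M) j
  obtain ⟨y', rfl⟩ := E.surjective y
  rw [← map_smul, smul_HDT_eq_zero _ _ s h1 j y', map_zero]

end Transfer

/-- **Main theorem**: finiteness of `H^i_I(M)` from the vanishing of the stalks shifted by the
codimension, for quotients of regular rings. -/
theorem finite_locCoh_of_condition (R : Type u) [CommRing R] [IsRegularRing R] (A : Type u)
    [CommRing A] [IsNoetherianRing A] (π : R →+* A) (hπ : Function.Surjective π) (I : Ideal A)
    (M : Type u) [AddCommGroup M] [Module A M] [Module.Finite A M] (i : ℕ)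
    (h : ∀ p : PrimeSpectrum A, ¬ I ≤ p.asIdeal → ∀ (c j : ℕ), SGA2.relCodim I p = c →
      j + c = i → Subsingleton (LocCoh.H (IsLocalRing.maximalIdeal
        (Localization.AtPrime p.asIdeal)) j (LocalizedModule p.asIdeal.primeCompl M))) :
    Module.Finite A (LocCoh.H I i M) := by
  letI : Algebra R A := π.toAlgebra
  letI : Module R M := Module.compHom M π
  haveI : IsScalarTower R A M := IsScalarTower.of_algebraMap_smul fun r x => rfl
  have hπ' : Function.Surjective (algebraMap R A) := hπ
  haveI : Module.Finite R A := Module.Finite.of_surjective (Algebra.linearMap R A) hπ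
  haveI : Module.Finite R M := Module.Finite.trans A M
  let J : Ideal R := I.comap (algebraMap R A)
  have hcond : ∀ P : PrimeSpectrum R, ¬ J ≤ P.asIdeal → ∀ c : ℕ, SGA2.relCodim J P = c →
      ∀ y : Dual2.HDI R P.asIdeal (Dual.inD R M) ((i : ℤ) - c),
        ∃ t : R, t ∉ P.asIdeal ∧ t • y = 0 := by
    intro P hJP c hc y
    haveI := P.isPrime
    by_cases hker : RingHom.ker (algebraMap R A) ≤ P.asIdeal
    · obtain ⟨p, rfl⟩ := exists_comap_eq (algebraMap R A) hπ' P hker
      have hIp : ¬ I ≤ p.asIdeal := fun hle =>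
        hJP ((comap_le_comap_asIdeal_iff _ hπ' I p).2 hle)
      rw [relCodim_comap _ hπ' I p] at hc
      by_cases hlt : (i : ℤ) - c < 0
      · haveI := subsingleton_HDI_of_lt (PrimeSpectrum.comap (algebraMap R A) p).asIdeal
          (Dual.inD R M) 0 (subsingleton_HD_inD_of_neg M) _ hlt
        exact ⟨1, (Ideal.ne_top_iff_one _).1 (PrimeSpectrum.comap _ p).isPrime.ne_top, by
          rw [one_smul]; exact Subsingleton.elim _ _⟩
      · obtain ⟨j, hj⟩ : ∃ j : ℕ, (i : ℤ) - c = (j : ℤ) :=
          ⟨((i : ℤ) - c).toNat, (Int.toNat_of_nonneg (by omega)).symm⟩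
        have hjc : j + c = i := by omega
        have hsub := h p hIp c j hc hjc
        have hA := (subsingleton_H_atPrime_iff p M j).1 hsub
        revert y
        rw [hj]
        intro y
        exact killsAt_HDI_comap hπ' M p j hA y
    · exact killsAt_HDI_of_not_ker_le M P.asIdeal hker _ y
  have hR : Module.Finite R (Dual2.HDI R J (Dual.inD R M) (i : ℤ)) :=
    finite_HDI_of_condition_regular R J M i hcond
  obtain ⟨eR⟩ := hdi_inD_equiv_locCoh J M i
  haveI : Module.Finite R (LocCoh.H J i M) := Module.Finite.equiv eR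
  have hmain := Groth.Agent.Lib.LocCohBaseIndepH7.main (R := R) A J i M
  have hJI : J.map (algebraMap R A) = I := Ideal.map_comap_of_surjective _ hπ' I
  rw [hJI] at hmain
  obtain ⟨φ, hφ⟩ := hmain
  letI : Module R (LocCoh.H I i M) := Module.compHom _ (algebraMap R A)
  haveI : IsScalarTower R A (LocCoh.H I i M) :=
    IsScalarTower.of_algebraMap_smul fun r x => rfl
  let φR : LocCoh.H I i M ≃ₗ[R] LocCoh.H J i M :=
    { φ with map_smul' := fun r x => hφ r x }
  haveI : Module.Finite R (LocCoh.H I i M) := Module.Finite.equiv φR.symm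
  exact Module.Finite.of_restrictScalars_finite R A _

end Groth.Agent.Lib.FinStalk
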