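import Groth.Agent.Lib.ImperfField_helper3
import Groth.Agent.Lib.ArtSqZero_helper3
import Groth.Agent.S4542

/-!
# Existence of formally smooth complete local algebras with given residue field (EGA 0_IV 22.2.6)
-/

set_option autoImplicit false
set_option maxSynthPendingDepth 3

namespace Groth.Agent.Lib.FSExistH3

universe u

open IsLocalRing MvPowerSeries TensorProduct KaehlerDifferential Groth.Agent.Lib.AdicFSFieldH3

section PS

variable {K : Type u} [Field K] (n : ℕ)

/-- linear forms `Σ cᵢ Tᵢ` -/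
noncomputable def linForm (c : Fin n → K) : MvPowerSeries (Fin n) K :=
  ∑ i, C (c i) * X i

theorem linForm_add (c c' : Fin n → K) : linForm n (c + c') = linForm n c + linForm n c' := by
  unfold linForm
  rw [← Finset.sum_add_distrib]
  refine Finset.sum_congr rfl fun i _ => ?_
  rw [Pi.add_apply, map_add, add_mul]

theorem linForm_zero : linForm n (0 : Fin n → K) = 0 := by
  unfold linForm
  refine Finset.sum_eq_zero fun i _ => ?_
  rw [Pi.zero_apply, map_zero, zero_mul]

theorem linForm_smul (x : K) (c : Fin n → K) : linForm n (x • c) = C x * linForm n c := by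
  unfold linForm
  rw [Finset.mul_sum]
  refine Finset.sum_congr rfl fun i _ => ?_
  rw [Pi.smul_apply, smul_eq_mul, map_mul, mul_assoc]

theorem X_mem_maximalIdeal (i : Fin n) :
    (X i : MvPowerSeries (Fin n) K) ∈ maximalIdeal (MvPowerSeries (Fin n) K) := by
  rw [Groth.Agent.Lib.PSCompleteH1.mem_maximalIdeal_iff, constantCoeff_X]
  exact Ideal.zero_mem _

theorem linForm_mem (c : Fin n → K) :
    linForm n c ∈ maximalIdeal (MvPowerSeries (Fin n) K) := by
  unfold linForm
  exact Ideal.sum_mem _ fun i _ => Ideal.mul_mem_left _ _ (X_mem_maximalIdeal n i)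

theorem constantCoeff_linForm (c : Fin n → K) : constantCoeff (linForm n c) = 0 := by
  have h := (Groth.Agent.Lib.PSCompleteH1.mem_maximalIdeal_iff _).1 (linForm_mem n c)
  rwa [IsLocalRing.maximalIdeal_eq_bot, Ideal.mem_bot] at h

theorem coeff_single_linForm (c : Fin n → K) (i : Fin n) :
    coeff (Finsupp.single i 1) (linForm n c) = c i := by
  classical
  unfold linForm
  rw [map_sum, Finset.sum_eq_single i]
  · rw [coeff_C_mul, coeff_X, if_pos rfl, mul_one]
  · intro j _ hj
    rw [coeff_C_mul, coeff_X, if_neg, mul_zero]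
    intro h
    exact hj (Finsupp.single_left_injective one_ne_zero h).symm
  · intro h
    exact absurd (Finset.mem_univ i) h

theorem coeff_single_C (x : K) (i : Fin n) :
    coeff (Finsupp.single i 1) (C x : MvPowerSeries (Fin n) K) = 0 := by
  classical
  rw [coeff_C, if_neg]
  intro h
  have := congrArg (fun f => f i) h
  simp at this

/-- elements of `𝔪²` have vanishing constant and linear coefficients -/
theorem coeff_eq_zero_of_mem_sq (f : MvPowerSeries (Fin n) K)
    (hf : f ∈ maximalIdeal (MvPowerSeries (Fin n) K) ^ 2) :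
    constantCoeff f = 0 ∧ ∀ i, coeff (Finsupp.single i 1) f = 0 := by
  rw [Groth.Agent.Lib.PSCompleteH1.maximalIdeal_eq_comap,
    Groth.Agent.Lib.PSCompleteH1.pow_eq_filt, Groth.Agent.Lib.PSCompleteH1.mem_filt] at hf
  constructor
  · have h := hf 0
    rw [IsLocalRing.maximalIdeal_eq_bot] at h
    have h2 : (2 : ℕ) - Finsupp.degree (0 : Fin n →₀ ℕ) = 2 := by
      rw [map_zero, Nat.sub_zero]
    rw [h2, pow_two, Ideal.bot_mul, Ideal.mem_bot] at h
    exact h
  · intro i
    have h := hf (Finsupp.single i 1)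
    rw [IsLocalRing.maximalIdeal_eq_bot] at h
    have h2 : (2 : ℕ) - Finsupp.degree (Finsupp.single i 1 : Fin n →₀ ℕ) = 1 := by
      rw [Finsupp.degree_single]
    rw [h2, pow_one, Ideal.mem_bot] at h
    exact h

/-- product rule for the linear coefficients -/
theorem coeff_single_mul (f g : MvPowerSeries (Fin n) K) (i : Fin n) :
    coeff (Finsupp.single i 1) (f * g) =
      constantCoeff f * coeff (Finsupp.single i 1) g +
        constantCoeff g * coeff (Finsupp.single i 1) f := by
  classical
  rw [coeff_mul, Finsupp.antidiagonal_single, Finset.sum_map]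
  have h1 : Finset.HasAntidiagonal.antidiagonal (1 : ℕ) = {((0 : ℕ), 1), (1, 0)} := by decide
  rw [h1, Finset.sum_pair (by decide)]
  simp only [Function.Embedding.coe_prodMap, Function.Embedding.coeFn_mk, Prod.map_apply,
    Finsupp.single_zero]
  rw [coeff_zero_eq_constantCoeff_apply, coeff_zero_eq_constantCoeff_apply]
  ring

end PS

section Twist

variable {k K : Type u} [Field k] [Field K] [Algebra k K] (n : ℕ)
  (lam : K ⊗[k] Ω[k⁄ℤ] →ₗ[K] (Fin n → K))

/-- the additive map `a ↦ λ(1 ⊗ da)` -/
noncomputable def Lam : k →+ (Fin n → K) where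
  toFun a := lam ((1 : K) ⊗ₜ[k] D ℤ k a)
  map_zero' := by rw [map_zero, tmul_zero, map_zero]
  map_add' a b := by rw [map_add, tmul_add, map_add]

theorem Lam_apply (a : k) : Lam n lam a = lam ((1 : K) ⊗ₜ[k] D ℤ k a) := rfl

theorem Lam_mul (a b : k) :
    Lam n lam (a * b) = algebraMap k K a • Lam n lam b + algebraMap k K b • Lam n lam a := by
  rw [Lam_apply, Lam_apply, Lam_apply, (D ℤ k).leibniz, tmul_add, map_add, tmul_smul, tmul_smul,
    ← algebraMap_smul K a ((1 : K) ⊗ₜ[k] D ℤ k b), ← algebraMap_smul K b ((1 : K) ⊗ₜ[k] D ℤ k a),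
    map_smul, map_smul]

theorem Lam_one : Lam n lam 1 = 0 := by
  rw [Lam_apply, (D ℤ k).map_one_eq_zero, tmul_zero, map_zero]

theorem Lam_primeField (c : PrimeField k) : Lam n lam (algebraMap (PrimeField k) k c) = 0 := by
  rw [Lam_apply, Groth.Agent.Lib.ImperfFieldH3.derivation_primeField (D ℤ k) c, tmul_zero,
    map_zero]

/-- the approximate structure map -/
noncomputable def u₀ (a : k) : MvPowerSeries (Fin n) K :=
  C (algebraMap k K a) + linForm n (Lam n lam a)

theorem u₀_mul_sub (a b : k) :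
    u₀ n lam (a * b) - u₀ n lam a * u₀ n lam b ∈ maximalIdeal (MvPowerSeries (Fin n) K) ^ 2 := by
  have h : u₀ n lam (a * b) - u₀ n lam a * u₀ n lam b =
      -(linForm n (Lam n lam a) * linForm n (Lam n lam b)) := by
    unfold u₀
    rw [Lam_mul, linForm_add, linForm_smul, linForm_smul, map_mul, map_mul]
    ring
  rw [h, pow_two]
  exact neg_mem (Ideal.mul_mem_mul (linForm_mem n _) (linForm_mem n _))

/-- The twisted structure map `k → K[[T]]` with prescribed linear part. -/
theorem exists_twist : ∃ v : k →+* MvPowerSeries (Fin n) K,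
    (∀ a, constantCoeff (v a) = algebraMap k K a) ∧
    (∀ a i, coeff (Finsupp.single i 1) (v a) = lam ((1 : K) ⊗ₜ[k] D ℤ k a) i) ∧
    (∀ c : PrimeField k, v (algebraMap (PrimeField k) k c) =
      C (algebraMap k K (algebraMap (PrimeField k) k c))) := by
  classical
  letI algFK : Algebra (PrimeField k) K :=
    ((algebraMap k K).comp (algebraMap (PrimeField k) k)).toAlgebra
  haveI : IsScalarTower (PrimeField k) k K := IsScalarTower.of_algebraMap_eq (fun _ => rfl)
  let u : k →ₐ[PrimeField k] MvPowerSeries (Fin n) K ⧸ maximalIdeal (MvPowerSeries (Fin n) K) ^ 2 :=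
    { toFun := fun a => Ideal.Quotient.mk (maximalIdeal (MvPowerSeries (Fin n) K) ^ 2) (u₀ n lam a)
      map_one' := by
        have : u₀ n lam 1 = 1 := by
          unfold u₀
          rw [Lam_one, linForm_zero, add_zero, map_one, map_one]
        rw [this, map_one]
      map_mul' := fun a b => by
        rw [← map_mul, Ideal.Quotient.eq]
        exact u₀_mul_sub n lam a b
      map_zero' := by
        have : u₀ n lam 0 = 0 := by
          unfold u₀
          rw [map_zero, map_zero, map_zero, linForm_zero, add_zero]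
        rw [this, map_zero]
      map_add' := fun a b => by
        have : u₀ n lam (a + b) = u₀ n lam a + u₀ n lam b := by
          unfold u₀
          rw [map_add, map_add, map_add, linForm_add]
          ring
        rw [this, map_add]
      commutes' := fun c => by
        show Ideal.Quotient.mk _ (u₀ n lam (algebraMap (PrimeField k) k c)) = _
        have : u₀ n lam (algebraMap (PrimeField k) k c) =
            algebraMap (PrimeField k) (MvPowerSeries (Fin n) K) c := by
          unfold u₀
          rw [Lam_primeField, linForm_zero, add_zero, MvPowerSeries.algebraMap_apply]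
          rfl
        rw [this]
        rfl }
  haveI : IsAdicComplete (maximalIdeal K) K := by
    rw [IsLocalRing.maximalIdeal_eq_bot]
    infer_instance
  haveI : IsAdicComplete (maximalIdeal (MvPowerSeries (Fin n) K)) (MvPowerSeries (Fin n) K) :=
    Groth.Agent.Lib.PSCompleteH1.isAdicComplete_maximalIdeal
  have hFS : EGA41.IsFormallySmoothAdic (PrimeField k) ⊥ k ⊥ := by
    intro C _ _ J hJ _ w _
    exact Algebra.FormallySmooth.exists_lift J hJ w
  haveI : IsHausdorff ((maximalIdeal (MvPowerSeries (Fin n) K)).map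
      (Ideal.Quotient.mk (maximalIdeal (MvPowerSeries (Fin n) K) ^ 2)))
      (MvPowerSeries (Fin n) K ⧸ maximalIdeal (MvPowerSeries (Fin n) K) ^ 2) := by
    have : ((maximalIdeal (MvPowerSeries (Fin n) K)).map
      (Ideal.Quotient.mk (maximalIdeal (MvPowerSeries (Fin n) K) ^ 2))) ^ 2 = ⊥ := by
      rw [← Ideal.map_pow, Ideal.map_quotient_self]
    exact (Groth.Agent.Lib.ArtSqZeroH3.isAdicComplete_of_pow_eq_bot _ 2 this).toIsHausdorff
  obtain ⟨v, -, hv⟩ := Groth.Agent.S4542.result (⊥ : Ideal (PrimeField k)) (⊥ : Ideal k)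
    (maximalIdeal (MvPowerSeries (Fin n) K)) hFS
    ⟨1, by rw [pow_one, Ideal.map_bot]; exact bot_le⟩
    (maximalIdeal (MvPowerSeries (Fin n) K) ^ 2)
    ⟨1, by rw [pow_one]; exact Ideal.pow_le_self two_ne_zero⟩ u
    ⟨1, by rw [pow_one, Ideal.map_bot]; exact bot_le⟩
  have hv' : ∀ a, v a - u₀ n lam a ∈ maximalIdeal (MvPowerSeries (Fin n) K) ^ 2 := by
    intro a
    rw [← Ideal.Quotient.eq]
    exact AlgHom.congr_fun hv a
  refine ⟨v.toRingHom, fun a => ?_, fun a i => ?_, fun c => ?_⟩
  · have h1 := (coeff_eq_zero_of_mem_sq n _ (hv' a)).1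
    rw [map_sub, sub_eq_zero] at h1
    show constantCoeff (v a) = _
    rw [h1]
    unfold u₀
    rw [map_add, constantCoeff_C, constantCoeff_linForm, add_zero]
  · have h1 := (coeff_eq_zero_of_mem_sq n _ (hv' a)).2 i
    rw [map_sub, sub_eq_zero] at h1
    show coeff (Finsupp.single i 1) (v a) = _
    rw [h1]
    unfold u₀
    rw [map_add, coeff_single_C, coeff_single_linForm, zero_add]
    rfl
  · show v (algebraMap (PrimeField k) k c) = _
    rw [v.commutes, MvPowerSeries.algebraMap_apply]
    rfl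

end Twist

section Ext

variable {k K : Type u} [Field k] [Field K] [Algebra k K] (n : ℕ)
  (lam : K ⊗[k] Ω[k⁄ℤ] →ₗ[K] (Fin n → K))
  (hlam : ∀ ω : K ⊗[k] Ω[k⁄ℤ], mapBaseChange ℤ k K ω = 0 → lam ω = 0 → ω = 0)
  (v : k →+* MvPowerSeries (Fin n) K)
  (hv0 : ∀ a, constantCoeff (v a) = algebraMap k K a)
  (hv1 : ∀ a i, coeff (Finsupp.single i 1) (v a) = lam ((1 : K) ⊗ₜ[k] D ℤ k a) i)

include hlam hv0 hv1 in
/-- Derivations extend from `k` to the twisted power series ring. -/
theorem extProp_twisted :
    @ExtProp k (MvPowerSeries (Fin n) K) _ _ v.toAlgebra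
      (maximalIdeal (MvPowerSeries (Fin n) K)) := by
  classical
  letI algk : Algebra k (MvPowerSeries (Fin n) K) := v.toAlgebra
  intro V _ _ hV D₀ hD₀
  letI modK : Module K V := Module.compHom V (C : K →+* MvPowerSeries (Fin n) K)
  have hKsmul : ∀ (c : K) (w : V), c • w = (C c : MvPowerSeries (Fin n) K) • w := fun c w => rfl
  have key1 : ∀ (f : MvPowerSeries (Fin n) K) (w : V), f • w = (constantCoeff f : K) • w := by
    intro f w
    have hmem : f - C (constantCoeff f) ∈ maximalIdeal (MvPowerSeries (Fin n) K) := by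
      rw [Groth.Agent.Lib.PSCompleteH1.mem_maximalIdeal_iff, map_sub, constantCoeff_C, sub_self]
      exact Ideal.zero_mem _
    have h1 := hV _ hmem w
    rw [sub_smul, sub_eq_zero] at h1
    rw [h1, hKsmul]
  letI modk : Module k V := Module.compHom V (algebraMap k K)
  have hksmul : ∀ (a : k) (w : V), a • w = (algebraMap k K a) • w := fun a w => rfl
  haveI : IsScalarTower k K V := ⟨fun a c w => by
    rw [hksmul, Algebra.smul_def, mul_smul]⟩
  have hleib : ∀ a b : k, D₀ (a * b) = a • D₀ b + b • D₀ a := by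
    intro a b
    rw [hD₀ a b, hksmul, hksmul]
    show v a • D₀ b + v b • D₀ a = _
    rw [key1, key1, hv0, hv0]
  let Dk : Derivation ℤ k V := Derivation.mk' D₀.toIntLinearMap hleib
  let φ₀ : Ω[k⁄ℤ] →ₗ[k] V := Dk.liftKaehlerDifferential
  let φ : K ⊗[k] Ω[k⁄ℤ] →ₗ[K] V := φ₀.liftBaseChange K
  let Φ : K ⊗[k] Ω[k⁄ℤ] →ₗ[K] Ω[K⁄ℤ] × (Fin n → K) := (mapBaseChange ℤ k K).prod lam
  have hΦ : LinearMap.ker Φ = ⊥ := by
    rw [LinearMap.ker_eq_bot']
    intro ω hω
    have h1 : mapBaseChange ℤ k K ω = 0 := congrArg Prod.fst hω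
    have h2 : lam ω = 0 := congrArg Prod.snd hω
    exact hlam ω h1 h2
  obtain ⟨g, hg⟩ := Φ.exists_leftInverse_of_injective hΦ
  let ψ : Ω[K⁄ℤ] × (Fin n → K) →ₗ[K] V := φ ∘ₗ g
  let pair : MvPowerSeries (Fin n) K → Ω[K⁄ℤ] × (Fin n → K) := fun f =>
    (D ℤ K (constantCoeff f), fun i => coeff (Finsupp.single i 1) f)
  have hpair_add : ∀ f g, pair (f + g) = pair f + pair g := by
    intro f g
    refine Prod.ext ?_ ?_
    · show D ℤ K (constantCoeff (f + g)) = D ℤ K (constantCoeff f) + D ℤ K (constantCoeff g)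
      rw [map_add, map_add]
    · funext i
      show coeff _ (f + g) = coeff _ f + coeff _ g
      rw [map_add]
  have hpair_mul : ∀ f g, pair (f * g) =
      (constantCoeff f : K) • pair g + (constantCoeff g : K) • pair f := by
    intro f g
    refine Prod.ext ?_ ?_
    · show D ℤ K (constantCoeff (f * g)) = constantCoeff f • D ℤ K (constantCoeff g) +
        constantCoeff g • D ℤ K (constantCoeff f)
      rw [map_mul, Derivation.leibniz]
    · funext i
      show coeff _ (f * g) = constantCoeff f * coeff _ g + constantCoeff g * coeff _ f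
      exact coeff_single_mul n f g i
  let D' : MvPowerSeries (Fin n) K →+ V :=
    { toFun := fun f => ψ (pair f)
      map_zero' := by
        have : pair 0 = 0 := by
          refine Prod.ext ?_ ?_
          · show D ℤ K (constantCoeff (0 : MvPowerSeries (Fin n) K)) = 0
            rw [map_zero, map_zero]
          · funext i
            show coeff _ (0 : MvPowerSeries (Fin n) K) = 0
            rw [map_zero]
        rw [this, map_zero]
      map_add' := fun f g => by rw [hpair_add, map_add] }
  refine ⟨D', fun f g => ?_, fun a => ?_⟩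
  · show ψ (pair (f * g)) = f • ψ (pair g) + g • ψ (pair f)
    rw [hpair_mul, map_add, map_smul, map_smul, key1, key1]
  · show ψ (pair (v a)) = D₀ a
    have h1 : pair (v a) = Φ ((1 : K) ⊗ₜ[k] D ℤ k a) := by
      refine Prod.ext ?_ ?_
      · show D ℤ K (constantCoeff (v a)) = mapBaseChange ℤ k K ((1 : K) ⊗ₜ[k] D ℤ k a)
        rw [hv0, Groth.Agent.Lib.ImperfFieldH3.mapBaseChange_one_tmul_D]
      · funext i
        show coeff _ (v a) = lam _ i
        exact hv1 a i
    rw [h1]
    show φ (g (Φ _)) = D₀ a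
    have h2 : g (Φ ((1 : K) ⊗ₜ[k] D ℤ k a)) = (1 : K) ⊗ₜ[k] D ℤ k a := LinearMap.congr_fun hg _
    rw [h2]
    show (1 : K) • φ₀ (D ℤ k a) = D₀ a
    rw [one_smul, Derivation.liftKaehlerDifferential_comp_D]
    rfl

end Ext

section Exist

variable {k K : Type u} [Field k] [Field K] [Algebra k K]

theorem exists_lam (hfin : Module.Finite K (LinearMap.ker (mapBaseChange ℤ k K))) (n : ℕ)
    (hn : Module.finrank K (LinearMap.ker (mapBaseChange ℤ k K)) ≤ n) :
    ∃ lam : K ⊗[k] Ω[k⁄ℤ] →ₗ[K] (Fin n → K),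
      ∀ ω, mapBaseChange ℤ k K ω = 0 → lam ω = 0 → ω = 0 := by
  classical
  obtain ⟨ι₀, hι₀⟩ := (finrank_le_iff_exists_linearMap (R := K)
    (M := LinearMap.ker (mapBaseChange ℤ k K)) (M' := Fin n → K)).1
    (by rwa [Module.finrank_fin_fun])
  obtain ⟨pr, hpr⟩ := (LinearMap.ker (mapBaseChange ℤ k K)).subtype.exists_leftInverse_of_injective
    (LinearMap.ker_eq_bot.2 (LinearMap.ker (mapBaseChange ℤ k K)).injective_subtype)
  refine ⟨ι₀ ∘ₗ pr, fun ω h1 h2 => ?_⟩
  have hω : ω ∈ LinearMap.ker (mapBaseChange ℤ k K) := h1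
  have h3 : pr ω = ⟨ω, hω⟩ := LinearMap.congr_fun hpr ⟨ω, hω⟩
  have h4 : ι₀ ⟨ω, hω⟩ = 0 := by
    rw [← h3]
    exact h2
  have h5 : (⟨ω, hω⟩ : LinearMap.ker (mapBaseChange ℤ k K)) = 0 := hι₀ (by rw [h4, map_zero])
  exact congrArg Subtype.val h5

/-- Existence: if `Υ_{K/k}` has finite rank `≤ n`, there is a complete regular local `k`-algebra of
dimension `n`, adically formally smooth over `k`, with residue field `K`. -/
theorem exists_of_finrank_le (hfin : Module.Finite K (EGA41.imperfection ℤ k K)) (n : ℕ)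
    (hn : Module.finrank K (EGA41.imperfection ℤ k K) ≤ n) :
    ∃ (A : Type u) (_ : CommRing A) (_ : IsLocalRing A) (_ : IsNoetherianRing A) (_ : Algebra k A),
        IsAdicComplete (maximalIdeal A) A ∧ CAlgX.IsAdicFormallySmooth k A (maximalIdeal A) ∧
        Nonempty (ResidueField A ≃ₐ[k] K) ∧ ringKrullDim A = n := by
  classical
  obtain ⟨lam, hlam⟩ := exists_lam (k := k) (K := K) hfin n hn
  obtain ⟨v, hv0, hv1, hvF⟩ := exists_twist n lam
  haveI hreg : IsRegularLocalRing (MvPowerSeries (Fin n) K) :=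
    Groth.Agent.Lib.RegPSH3.isRegularLocalRing_mvPowerSeries K n
  letI algk : Algebra k (MvPowerSeries (Fin n) K) := v.toAlgebra
  refine ⟨MvPowerSeries (Fin n) K, inferInstance, inferInstance, inferInstance, algk,
    ?_, ?_, ?_, ?_⟩
  · haveI : IsAdicComplete (maximalIdeal K) K := by
      rw [IsLocalRing.maximalIdeal_eq_bot]
      infer_instance
    exact Groth.Agent.Lib.PSCompleteH1.isAdicComplete_maximalIdeal
  · letI algFK : Algebra (PrimeField k) K :=
      ((algebraMap k K).comp (algebraMap (PrimeField k) k)).toAlgebra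
    haveI : IsScalarTower (PrimeField k) k K := IsScalarTower.of_algebraMap_eq (fun _ => rfl)
    haveI : IsScalarTower (PrimeField k) k (MvPowerSeries (Fin n) K) :=
      IsScalarTower.of_algebraMap_eq (fun c => by
        rw [MvPowerSeries.algebraMap_apply]
        exact (hvF c).symm)
    haveI : Algebra.IsGeometricallyReduced (PrimeField k) K :=
      Groth.Agent.Lib.PerfectGRH3.isGeometricallyReduced_of_perfectField _ K
    haveI : Algebra.FormallySmooth (PrimeField k) K :=
      Groth.Agent.Lib.SepSmoothH3.formallySmooth_of_isGeometricallyReduced _ K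
    have hA₀ := Groth.Agent.Lib.FSRegularH3.isAdicFormallySmooth_mvPowerSeries (PrimeField k) K n
    exact isAdicFormallySmooth_of_extProp (k₀ := PrimeField k) _ hA₀
      (extProp_twisted n lam hlam v hv0 hv1)
  · let f : ResidueField (MvPowerSeries (Fin n) K) →+* K :=
      Ideal.Quotient.lift (maximalIdeal (MvPowerSeries (Fin n) K))
        (constantCoeff : MvPowerSeries (Fin n) K →+* K) (fun a ha => by
          have h := (Groth.Agent.Lib.PSCompleteH1.mem_maximalIdeal_iff a).1 ha
          rwa [IsLocalRing.maximalIdeal_eq_bot, Ideal.mem_bot] at h)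
    have hf : ∀ g : MvPowerSeries (Fin n) K, f (residue _ g) = constantCoeff g := fun g => rfl
    have hbij : Function.Bijective f :=
      ⟨f.injective, fun c => ⟨residue _ (C c), by rw [hf, constantCoeff_C]⟩⟩
    refine ⟨AlgEquiv.ofRingEquiv (f := RingEquiv.ofBijective f hbij) (fun a => ?_)⟩
    show f (residue _ (v a)) = algebraMap k K a
    rw [hf, hv0]
  · rw [Groth.Agent.Lib.RegPSH3.ringKrullDim_mvPowerSeries_regular K n,
      IsLocalRing.maximalIdeal_eq_bot, Submodule.spanFinrank_bot, zero_add]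

end Exist

section Necessity

variable {k K : Type u} [Field k] [Field K] [Algebra k K]

/-- Necessity: the residue field of an adically formally smooth Noetherian local `k`-algebra has
finite imperfection module over `k`. -/
theorem finite_imperfection_of_exists (A : Type u) [CommRing A] [IsLocalRing A]
    [IsNoetherianRing A] [Algebra k A] (h : CAlgX.IsAdicFormallySmooth k A (maximalIdeal A))
    (e : ResidueField A ≃ₐ[k] K) : Module.Finite K (EGA41.imperfection ℤ k K) := by
  classical
  letI algAK : Algebra A K :=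
    ((e : ResidueField A →+* K).comp (algebraMap A (ResidueField A))).toAlgebra
  have halg : ∀ x : A, algebraMap A K x = e (residue A x) := fun x => rfl
  haveI : IsScalarTower k A K := IsScalarTower.of_algebraMap_eq (fun a => by
    rw [halg, ← e.commutes a]
    rfl)
  have hsurj : Function.Surjective (algebraMap A K) := fun y => by
    obtain ⟨z, hz⟩ := e.surjective y
    obtain ⟨x, hx⟩ := residue_surjective z
    exact ⟨x, by rw [halg, hx, hz]⟩
  have hkill : ∃ j : ℕ, ∀ x ∈ maximalIdeal A ^ j, algebraMap A K x = 0 := ⟨1, fun x hx => by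
    rw [pow_one] at hx
    rw [halg, (residue_eq_zero_iff x).2 hx, map_zero]⟩
  let θ₀ : Ω[k⁄ℤ] →ₗ[k] K ⊗[A] Ω[A⁄ℤ] :=
    ((TensorProduct.mk A K Ω[A⁄ℤ] 1).restrictScalars k) ∘ₗ (KaehlerDifferential.map ℤ ℤ k A)
  let Θ : K ⊗[k] Ω[k⁄ℤ] →ₗ[K] K ⊗[A] Ω[A⁄ℤ] := θ₀.liftBaseChange K
  have hΘ : ∀ a : k, Θ ((1 : K) ⊗ₜ[k] D ℤ k a) = (1 : K) ⊗ₜ[A] D ℤ A (algebraMap k A a) := by
    intro a
    show (1 : K) • ((1 : K) ⊗ₜ[A] KaehlerDifferential.map ℤ ℤ k A (D ℤ k a)) = _
    rw [one_smul, KaehlerDifferential.map_D]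
  have hcomp : (mapBaseChange ℤ A K) ∘ₗ Θ = mapBaseChange ℤ k K := by
    apply LinearMap.ext_on_range (Groth.Agent.Lib.ImperfFieldH3.span_one_tmul_D ℤ (k := k) (K := K))
    intro a
    show mapBaseChange ℤ A K (Θ _) = _
    rw [hΘ, Groth.Agent.Lib.ImperfFieldH3.mapBaseChange_one_tmul_D, mapBaseChange_tmul, one_smul,
      map_D, ← IsScalarTower.algebraMap_apply]
  have hΘinj : Function.Injective Θ := by
    rw [injective_iff_map_eq_zero]
    intro ω hω
    rw [← Module.forall_dual_apply_eq_zero_iff K]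
    intro φ
    let φ₀ : Ω[k⁄ℤ] →ₗ[k] K := (φ.restrictScalars k) ∘ₗ (TensorProduct.mk k K Ω[k⁄ℤ] 1)
    let D₀ : Derivation ℤ k K := φ₀.compDer (D ℤ k)
    obtain ⟨DA, hDA⟩ := exists_derivation_extension K (maximalIdeal A) h hkill D₀
    let ψ : K ⊗[A] Ω[A⁄ℤ] →ₗ[K] K := DA.liftKaehlerDifferential.liftBaseChange K
    have hψ : ψ ∘ₗ Θ = φ := by
      apply LinearMap.ext_on_range
        (Groth.Agent.Lib.ImperfFieldH3.span_one_tmul_D ℤ (k := k) (K := K))
      intro a
      rw [LinearMap.comp_apply, hΘ]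
      show (1 : K) • DA.liftKaehlerDifferential (D ℤ A (algebraMap k A a)) = _
      rw [one_smul, Derivation.liftKaehlerDifferential_comp_D, hDA]
      rfl
    rw [← hψ]
    show ψ (Θ ω) = 0
    rw [hω, map_zero]
  have hfinA : (LinearMap.ker (mapBaseChange ℤ A K)).FG := by
    apply Submodule.FG.of_restrictScalars A
    rw [← KaehlerDifferential.range_kerCotangentToTensor ℤ A K hsurj]
    haveI : Module.Finite A (RingHom.ker (algebraMap A K)).Cotangent :=
      Module.Finite.of_surjective (RingHom.ker (algebraMap A K)).toCotangent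
        (Ideal.toCotangent_surjective _)
    exact Module.Finite.iff_fg.1 (Module.Finite.range _)
  haveI : Module.Finite K (LinearMap.ker (mapBaseChange ℤ A K)) := Module.Finite.iff_fg.2 hfinA
  let Θ' : EGA41.imperfection ℤ k K →ₗ[K] LinearMap.ker (mapBaseChange ℤ A K) :=
    Θ.restrict (fun ω hω => by
      have h1 : mapBaseChange ℤ k K ω = 0 := hω
      show mapBaseChange ℤ A K (Θ ω) = 0
      have h2 : mapBaseChange ℤ A K (Θ ω) = mapBaseChange ℤ k K ω := LinearMap.congr_fun hcomp ω
      rw [h2, h1])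
  have hΘ'inj : Function.Injective Θ' := fun x y hxy => by
    apply Subtype.ext
    apply hΘinj
    exact congrArg Subtype.val hxy
  exact Module.Finite.of_injective Θ' hΘ'inj

end Necessity

end Groth.Agent.Lib.FSExistH3
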