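import Mathlib
import Groth.Prelude.Def_CAlgX

/-!
# Adic formal smoothness over a localization of the base descends to the base
APPEND-ONLY once landed.
-/

set_option autoImplicit false
set_option maxSynthPendingDepth 3

namespace Groth.Agent.Lib.FSFiberH3

universe u

/-- `S` adically formally smooth over a localization `R'` of `R` ⇒ adically formally smooth over
`R`. -/
theorem adic_of_adic_isLocalization {R R' S : Type u} [CommRing R] [CommRing R'] [CommRing S]
    [Algebra R R'] [Algebra R' S] [Algebra R S] [IsScalarTower R R' S] (M : Submonoid R)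
    [IsLocalization M R'] (𝔫 : Ideal S) (h : CAlgX.IsAdicFormallySmooth R' S 𝔫) :
    CAlgX.IsAdicFormallySmooth R S 𝔫 := by
  intro C _ _ J hJ ψ hψ
  have hunit : ∀ m : M, IsUnit (algebraMap R C m) := by
    intro m
    rw [← IsNilpotent.isUnit_quotient_mk_iff (I := J) ⟨2, hJ⟩]
    have h1 : Ideal.Quotient.mk J (algebraMap R C m) =
        ψ (algebraMap R' S (algebraMap R R' m)) := by
      rw [← IsScalarTower.algebraMap_apply R R' S, AlgHom.commutes]
      rfl
    rw [h1]
    exact ((IsLocalization.map_units R' m).map (algebraMap R' S)).map ψ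
  letI : Algebra R' C := (IsLocalization.lift (M := M) (g := algebraMap R C) hunit).toAlgebra
  haveI : IsScalarTower R R' C := IsScalarTower.of_algebraMap_eq (fun r => by
    show algebraMap R C r = IsLocalization.lift (M := M) (g := algebraMap R C) hunit
      (algebraMap R R' r)
    rw [IsLocalization.lift_eq])
  have hcomm : (ψ : S →+* C ⧸ J).comp (algebraMap R' S) = algebraMap R' (C ⧸ J) := by
    apply IsLocalization.ringHom_ext M
    ext r
    simp only [RingHom.comp_apply, ← IsScalarTower.algebraMap_apply]
    exact ψ.commutes r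
  let ψ' : S →ₐ[R'] C ⧸ J :=
    { (ψ : S →+* C ⧸ J) with commutes' := fun x => RingHom.congr_fun hcomm x }
  obtain ⟨χ, hχ⟩ := h C J hJ ψ' hψ
  refine ⟨χ.restrictScalars R, ?_⟩
  ext x
  exact AlgHom.congr_fun hχ x

end Groth.Agent.Lib.FSFiberH3
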