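import Mathlib
import Groth.Agent.Lib.FSFlat3_helper3
import Groth.Agent.Lib.RegHomLocal_helper3

/-!
# Flatness from adic formal smoothness of the local homomorphisms `A_p → B_q`
APPEND-ONLY once landed.
-/

set_option autoImplicit false
set_option maxSynthPendingDepth 3

namespace Groth.Agent.Lib.FSFlatH3

universe u

open IsLocalRing TensorProduct Groth.Agent.Lib.RegHomLocalH3

variable (A B : Type u) [CommRing A] [CommRing B] [Algebra A B]

/-- `B` formally smooth over `A` (discrete) ⇒ `A_p → B_q` adically formally smooth. -/
theorem adic_localRingHom_of_formallySmooth [Algebra.FormallySmooth A B] (q : Ideal B)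
    [q.IsPrime] :
    letI := (Localization.localRingHom (Ideal.comap (algebraMap A B) q) q
      (algebraMap A B) rfl).toAlgebra
    CAlgX.IsAdicFormallySmooth (Localization.AtPrime (Ideal.comap (algebraMap A B) q))
      (Localization.AtPrime q) (maximalIdeal (Localization.AtPrime q)) := by
  letI := (Localization.localRingHom (Ideal.comap (algebraMap A B) q) q
      (algebraMap A B) rfl).toAlgebra
  haveI := isScalarTower_localRingHom A B q
  set p := Ideal.comap (algebraMap A B) q with hp
  haveI h1 : Algebra.FormallySmooth A (Localization.AtPrime q) := by
    haveI : Algebra.FormallySmooth B (Localization.AtPrime q) :=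
      Algebra.FormallySmooth.of_isLocalization q.primeCompl
    exact Algebra.FormallySmooth.comp A B _
  intro C _ _ J hJ ψ _
  letI : Algebra A C := Algebra.compHom C (algebraMap A (Localization.AtPrime p))
  haveI : IsScalarTower A (Localization.AtPrime p) C :=
    IsScalarTower.of_algebraMap_eq (fun _ => rfl)
  let ψ' : Localization.AtPrime q →ₐ[A] C ⧸ J := ψ.restrictScalars A
  obtain ⟨χ, hχ⟩ := Algebra.FormallySmooth.exists_lift J ⟨2, hJ⟩ ψ'
  have hcomp : (χ : Localization.AtPrime q →+* C).comp
      (algebraMap (Localization.AtPrime p) (Localization.AtPrime q)) =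
      algebraMap (Localization.AtPrime p) C := by
    apply IsLocalization.ringHom_ext p.primeCompl
    ext a
    simp only [RingHom.comp_apply, ← IsScalarTower.algebraMap_apply]
    exact χ.commutes a
  refine ⟨{ (χ : Localization.AtPrime q →+* C) with
    commutes' := fun x => RingHom.congr_fun hcomp x }, ?_⟩
  ext x
  exact AlgHom.congr_fun hχ x

/-- If all `A_p → B_q` (`q` maximal) are adically formally smooth, `B` is flat over `A`. -/
theorem flat_of_forall_adic_localRingHom [IsNoetherianRing A] [IsNoetherianRing B]
    (H : ∀ (q : Ideal B) [q.IsMaximal],
      letI := (Localization.localRingHom (Ideal.comap (algebraMap A B) q) q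
        (algebraMap A B) rfl).toAlgebra
      CAlgX.IsAdicFormallySmooth (Localization.AtPrime (Ideal.comap (algebraMap A B) q))
        (Localization.AtPrime q) (maximalIdeal (Localization.AtPrime q))) :
    Module.Flat A B := by
  apply Module.flat_of_isLocalized_maximal B B (fun P _ => Localization.AtPrime P)
    (fun P _ => Algebra.linearMap B _)
  intro q hq
  haveI : q.IsPrime := hq.isPrime
  letI := (Localization.localRingHom (Ideal.comap (algebraMap A B) q) q
      (algebraMap A B) rfl).toAlgebra
  haveI := isScalarTower_localRingHom A B q
  set p := Ideal.comap (algebraMap A B) q with hp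
  haveI : IsLocalHom (algebraMap (Localization.AtPrime p) (Localization.AtPrime q)) :=
    Localization.isLocalHom_localRingHom p q (algebraMap A B) rfl
  haveI : IsNoetherianRing (Localization.AtPrime p) :=
    IsLocalization.isNoetherianRing p.primeCompl _ inferInstance
  haveI : IsNoetherianRing (Localization.AtPrime q) :=
    IsLocalization.isNoetherianRing q.primeCompl _ inferInstance
  haveI : Module.Flat (Localization.AtPrime p) (Localization.AtPrime q) :=
    flat_of_isAdicFormallySmooth (H q)
  exact Module.Flat.trans A (Localization.AtPrime p) (Localization.AtPrime q)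

end Groth.Agent.Lib.FSFlatH3
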