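import Mathlib
import Groth.Prelude.Def_CAlgX
import Groth.Prelude.Def_EGA4b
import Groth.Agent.S4573
import Groth.Agent.Lib.J0Complete_helper3
import Groth.Agent.Lib.Serre2_helper5
import Groth.Agent.Lib.GeomRegFS_helper3

/-!
# Openness of the formally smooth locus of a complete local algebra over a field of finite
`p`-degree (helper3)
-/

set_option autoImplicit false

namespace Groth.Agent.Lib.FSLocusOpenH3

open TensorProduct IsLocalRing

universe u

section Frob

/-- `k` as an algebra over itself via the Frobenius: a model of `k^{1/p}`. -/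
def FrobField (k : Type u) (_p : ℕ) : Type u := k

instance (k : Type u) [Field k] (p : ℕ) : Field (FrobField k p) := inferInstanceAs (Field k)

/-- The identity. -/
def frobEquiv (k : Type u) [Field k] (p : ℕ) : k ≃+* FrobField k p := RingEquiv.refl k

variable (k : Type u) [Field k] (p : ℕ) [ExpChar k p]

noncomputable instance : Algebra k (FrobField k p) :=
  ((frobEquiv k p).toRingHom.comp (frobenius k p)).toAlgebra

theorem algebraMap_frob (a : k) : algebraMap k (FrobField k p) a = frobEquiv k p (a ^ p) := rfl

theorem pow_mem_range (x : FrobField k p) : x ^ p ∈ (algebraMap k (FrobField k p)).range :=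
  ⟨(frobEquiv k p).symm x, by rw [algebraMap_frob, map_pow, RingEquiv.apply_symm_apply]⟩

theorem finite_frobField (hk : p = 1 ∨ Module.Finite (frobenius k p).fieldRange k) :
    Module.Finite k (FrobField k p) := by
  rcases hk with h1 | hfin
  · subst h1
    refine Module.Finite.of_surjective (Algebra.linearMap k (FrobField k 1)) (fun x => ?_)
    refine ⟨(frobEquiv k 1).symm x, ?_⟩
    rw [Algebra.linearMap_apply, algebraMap_frob, pow_one, RingEquiv.apply_symm_apply]
  · haveI := hfin
    refine Module.Finite.of_equiv_equiv (A₁ := (frobenius k p).fieldRange) (B₁ := k)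
      (frobenius k p).rangeRestrictFieldEquiv.symm (frobEquiv k p) ?_
    ext y
    simp only [RingHom.comp_apply, RingHom.coe_coe]
    rw [algebraMap_frob]
    congr 1
    have := RingHom.rangeRestrictFieldEquiv_apply_symm_apply (frobenius k p) y
    rw [frobenius_def] at this
    exact this

/-- Every finite extension with `p`-th powers in `k` embeds in `k^{1/p}`. -/
theorem exists_algHom_frobField (k'' : Type u) [Field k''] [Algebra k k'']
    (h : ∀ x : k'', x ^ p ∈ (algebraMap k k'').range) :
    Nonempty (k'' →ₐ[k] FrobField k p) := by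
  haveI : ExpChar k'' p := expChar_of_injective_ringHom (algebraMap k k'').injective p
  choose σ hσ using h
  have hinj : Function.Injective (algebraMap k k'') := (algebraMap k k'').injective
  let τ : k'' →+* k :=
    { toFun := σ
      map_one' := hinj (by rw [hσ, one_pow, map_one])
      map_mul' := fun x y => hinj (by rw [hσ, map_mul, hσ, hσ, mul_pow])
      map_zero' := hinj (by
        rw [hσ, map_zero]
        exact zero_pow (expChar_pos k p).ne')
      map_add' := fun x y => hinj (by rw [hσ, map_add, hσ, hσ, add_pow_expChar]) }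
  refine ⟨{ ((frobEquiv k p).toRingHom.comp τ) with
    commutes' := fun a => ?_ }⟩
  show frobEquiv k p (σ (algebraMap k k'' a)) = algebraMap k (FrobField k p) a
  rw [algebraMap_frob]
  congr 1
  apply hinj
  rw [hσ, map_pow]

end Frob

section Descent

variable {k : Type u} [Field k] (p : ℕ) [ExpChar k p]

/-- Adic formal smoothness over `k` is detected by regularity after the single base change to
`k^{1/p}`, when `[k : k^p]` is finite. -/
theorem adic_iff_regular_frob (hk : p = 1 ∨ Module.Finite (frobenius k p).fieldRange k)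
    (R : Type u) [CommRing R] [IsLocalRing R] [IsNoetherianRing R] [Algebra k R] :
    CAlgX.IsAdicFormallySmooth k R (maximalIdeal R) ↔ IsRegularRing (FrobField k p ⊗[k] R) := by
  haveI hfin := finite_frobField k p hk
  rw [Groth.Agent.S4573.result p]
  constructor
  · intro h
    exact h (FrobField k p) hfin (pow_mem_range k p)
  · intro hreg k'' _ _ hfin'' hpow
    haveI := hfin''
    obtain ⟨τ⟩ := exists_algHom_frobField k p k'' hpow
    letI : Algebra k'' (FrobField k p) := τ.toRingHom.toAlgebra
    haveI : IsScalarTower k k'' (FrobField k p) :=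
      IsScalarTower.of_algebraMap_eq (fun a => (τ.commutes a).symm)
    haveI : IsNoetherianRing (k'' ⊗[k] R) :=
      Groth.Agent.Lib.GeomRegFSH3.isNoetherianRing_tensor_of_finite (k := k) (S := R) k''
    let e1 : (k'' ⊗[k] R) ⊗[k''] FrobField k p ≃+* FrobField k p ⊗[k''] (k'' ⊗[k] R) :=
      (Algebra.TensorProduct.comm k'' (k'' ⊗[k] R) (FrobField k p)).toRingEquiv
    let e2 : FrobField k p ⊗[k''] (k'' ⊗[k] R) ≃+* FrobField k p ⊗[k] R :=
      (Algebra.TensorProduct.cancelBaseChange k k'' k'' (FrobField k p) R).toRingEquiv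
    haveI : IsRegularRing ((k'' ⊗[k] R) ⊗[k''] FrobField k p) :=
      IsRegularRing.of_ringEquiv (e1.trans e2).symm
    exact Groth.Agent.Serre.regularRing_of_faithfullyFlat (k'' ⊗[k] R)
      ((k'' ⊗[k] R) ⊗[k''] FrobField k p)

end Descent

section Loc

/-- Regularity of a localization in terms of the local rings of the original ring. -/
theorem isRegularRing_localization_iff {R' : Type u} [CommRing R'] [IsNoetherianRing R']
    (M : Submonoid R') (L : Type u) [CommRing L] [Algebra R' L] [IsLocalization M L] :
    IsRegularRing L ↔ ∀ (P : Ideal R') [P.IsPrime], Disjoint (M : Set R') (P : Set R') →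
      IsRegularLocalRing (Localization.AtPrime P) := by
  haveI : IsNoetherianRing L := IsLocalization.isNoetherianRing M L inferInstance
  have key : ∀ (q : Ideal L) [q.IsPrime],
      (IsRegularLocalRing (Localization.AtPrime q) ↔
        IsRegularLocalRing (Localization.AtPrime (q.comap (algebraMap R' L)))) := by
    intro q hq
    haveI : IsLocalization.AtPrime (Localization.AtPrime q) (q.comap (algebraMap R' L)) :=
      IsLocalization.isLocalization_isLocalization_atPrime_isLocalization M _ q
    let e := (IsLocalization.algEquiv (q.comap (algebraMap R' L)).primeCompl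
      (Localization.AtPrime (q.comap (algebraMap R' L))) (Localization.AtPrime q)).toRingEquiv
    exact ⟨fun h => IsRegularLocalRing.of_ringEquiv e.symm,
      fun h => IsRegularLocalRing.of_ringEquiv e⟩
  constructor
  · intro hL P hP hdisj
    haveI hp : (P.map (algebraMap R' L)).IsPrime :=
      IsLocalization.isPrime_of_isPrime_disjoint M _ P hP hdisj
    have hcomap : (P.map (algebraMap R' L)).comap (algebraMap R' L) = P :=
      IsLocalization.under_map_of_isPrime_disjoint M _ hP hdisj
    have h1 := (key (P.map (algebraMap R' L))).1 inferInstance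
    have hcongr : ∀ (Q : Ideal R') [Q.IsPrime], Q = P →
        IsRegularLocalRing (Localization.AtPrime Q) →
        IsRegularLocalRing (Localization.AtPrime P) := by
      intro Q _ hQ h
      subst hQ
      exact h
    exact hcongr _ hcomap h1
  · intro H
    rw [isRegularRing_iff]
    intro q hq
    rw [key q]
    exact H _ ((IsLocalization.isPrime_iff_isPrime_disjoint M L q).1 hq).2

end Loc

section Main

variable {k : Type u} [Field k] (p : ℕ) [ExpChar k p]

/-- `k' ⊗ S_𝔮` is regular iff `k' ⊗ S` is regular at all primes contracting inside `𝔮`. -/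
theorem regular_tensor_localization_iff (k' : Type u) [Field k'] [Algebra k k']
    (S : Type u) [CommRing S] [Algebra k S] [IsNoetherianRing (k' ⊗[k] S)]
    (𝔮 : Ideal S) [𝔮.IsPrime] :
    IsRegularRing (k' ⊗[k] Localization.AtPrime 𝔮) ↔
      ∀ (P : Ideal (k' ⊗[k] S)) [P.IsPrime],
        P.comap (Algebra.TensorProduct.includeRight : S →ₐ[k] k' ⊗[k] S).toRingHom ≤ 𝔮 →
        IsRegularLocalRing (Localization.AtPrime P) := by
  letI alg : Algebra (k' ⊗[k] S) (k' ⊗[k] Localization.AtPrime 𝔮) :=
    (Algebra.TensorProduct.map (AlgHom.id k k')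
      (IsScalarTower.toAlgHom k S (Localization.AtPrime 𝔮))).toRingHom.toAlgebra
  have halg : ∀ z, algebraMap (k' ⊗[k] S) (k' ⊗[k] Localization.AtPrime 𝔮) z =
      Algebra.TensorProduct.map (AlgHom.id k k')
        (IsScalarTower.toAlgHom k S (Localization.AtPrime 𝔮)) z := fun z => rfl
  haveI : IsScalarTower k' (k' ⊗[k] S) (k' ⊗[k] Localization.AtPrime 𝔮) :=
    IsScalarTower.of_algebraMap_eq (fun x => by
      rw [halg, Algebra.TensorProduct.algebraMap_apply, Algebra.TensorProduct.algebraMap_apply,
        Algebra.TensorProduct.map_tmul, map_one]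
      rfl)
  haveI hloc := IsLocalization.tensorProduct_tensorProduct_right k k' 𝔮.primeCompl
    (Localization.AtPrime 𝔮) (by
      ext a
      show algebraMap (k' ⊗[k] S) (k' ⊗[k] Localization.AtPrime 𝔮) ((1 : k') ⊗ₜ[k] a) =
        (1 : k') ⊗ₜ[k] algebraMap S (Localization.AtPrime 𝔮) a
      rw [halg, Algebra.TensorProduct.map_tmul, map_one]
      rfl)
  rw [isRegularRing_localization_iff
    (𝔮.primeCompl.map (Algebra.TensorProduct.includeRight (R := k) (A := k')))
    (k' ⊗[k] Localization.AtPrime 𝔮)]
  have hdisj : ∀ P : Ideal (k' ⊗[k] S),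
      Disjoint ((𝔮.primeCompl.map (Algebra.TensorProduct.includeRight (R := k) (A := k')) :
        Submonoid (k' ⊗[k] S)) : Set (k' ⊗[k] S)) (P : Set (k' ⊗[k] S)) ↔
      P.comap (Algebra.TensorProduct.includeRight : S →ₐ[k] k' ⊗[k] S).toRingHom ≤ 𝔮 := by
    intro P
    rw [Set.disjoint_left]
    constructor
    · intro h x hx
      by_contra hxq
      exact h ⟨x, hxq, rfl⟩ hx
    · rintro h _ ⟨x, hxq, rfl⟩ hxP
      exact hxq (h hxP)
  constructor
  · intro H P hP hle
    exact H P ((hdisj P).2 hle)
  · intro H P hP hd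
    exact H P ((hdisj P).1 hd)

theorem isOpen_adic_locus (hk : p = 1 ∨ Module.Finite (frobenius k p).fieldRange k)
    (B : Type u) [CommRing B] [IsNoetherianRing B] [Algebra k B]
    (hopen : IsOpen (EGA4.regLocus (FrobField k p ⊗[k] B))) :
    IsOpen {n : PrimeSpectrum B |
      CAlgX.IsAdicFormallySmooth k (Localization.AtPrime n.asIdeal)
        (maximalIdeal (Localization.AtPrime n.asIdeal))} := by
  haveI hfin := finite_frobField k p hk
  haveI : IsNoetherianRing (FrobField k p ⊗[k] B) :=
    Groth.Agent.Lib.GeomRegFSH3.isNoetherianRing_tensor_of_finite (k := k) (S := B) (FrobField k p)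
  let ι : B →+* FrobField k p ⊗[k] B :=
    (Algebra.TensorProduct.includeRight : B →ₐ[k] FrobField k p ⊗[k] B).toRingHom
  have hint : ι.IsIntegral := by
    apply RingHom.Finite.to_isIntegral
    letI : Algebra B (FrobField k p ⊗[k] B) := ι.toAlgebra
    show Module.Finite B (FrobField k p ⊗[k] B)
    refine Module.Finite.of_equiv_equiv (A₁ := B) (B₁ := B ⊗[k] FrobField k p) (RingEquiv.refl B)
      (Algebra.TensorProduct.comm k B (FrobField k p)).toRingEquiv ?_
    ext b
    simp [ι, RingHom.algebraMap_toAlgebra]
  have hclosed : IsClosed (PrimeSpectrum.comap ι '' (EGA4.regLocus (FrobField k p ⊗[k] B))ᶜ) :=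
    PrimeSpectrum.isClosedMap_comap_of_isIntegral ι hint _ hopen.isClosed_compl
  have heq : {n : PrimeSpectrum B |
      CAlgX.IsAdicFormallySmooth k (Localization.AtPrime n.asIdeal)
        (maximalIdeal (Localization.AtPrime n.asIdeal))} =
      (PrimeSpectrum.comap ι '' (EGA4.regLocus (FrobField k p ⊗[k] B))ᶜ)ᶜ := by
    ext n
    haveI : IsNoetherianRing (Localization.AtPrime n.asIdeal) :=
      IsLocalization.isNoetherianRing n.asIdeal.primeCompl _ inferInstance
    rw [Set.mem_setOf_eq, adic_iff_regular_frob p hk,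
      regular_tensor_localization_iff (FrobField k p) B n.asIdeal, Set.mem_compl_iff]
    constructor
    · rintro H ⟨P, hP, rfl⟩
      exact hP (H P.asIdeal le_rfl)
    · intro H P hP hle
      by_contra hreg
      apply H
      have h1 : PrimeSpectrum.comap ι ⟨P, hP⟩ ∈
          PrimeSpectrum.comap ι '' (EGA4.regLocus (FrobField k p ⊗[k] B))ᶜ :=
        ⟨⟨P, hP⟩, hreg, rfl⟩
      have h2 : PrimeSpectrum.comap ι ⟨P, hP⟩ ⤳ n :=
        (PrimeSpectrum.le_iff_specializes _ _).1 hle
      exact h2.mem_closed hclosed h1
  rw [heq]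
  exact hclosed.isOpen_compl

end Main

end Groth.Agent.Lib.FSLocusOpenH3

namespace Groth.Agent.Lib.FSLocusOpenH3

open TensorProduct IsLocalRing

universe u

theorem main4589 (p : ℕ) {k A : Type u} [Field k] [ExpChar k p]
    (hk : p = 1 ∨ Module.Finite (frobenius k p).fieldRange k)
    [CommRing A] [IsLocalRing A] [IsNoetherianRing A] [IsAdicComplete (maximalIdeal A) A]
    [Algebra k A] (q : Ideal A) :
    IsOpen {n : PrimeSpectrum (A ⧸ q) |
      CAlgX.IsAdicFormallySmooth k (Localization.AtPrime n.asIdeal)
        (maximalIdeal (Localization.AtPrime n.asIdeal))} := by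
  haveI hfin := finite_frobField k p hk
  apply isOpen_adic_locus p hk (A ⧸ q)
  let ι : (A ⧸ q) →+* FrobField k p ⊗[k] (A ⧸ q) :=
    (Algebra.TensorProduct.includeRight : (A ⧸ q) →ₐ[k] FrobField k p ⊗[k] (A ⧸ q)).toRingHom
  have hfinι : ι.Finite := by
    letI : Algebra (A ⧸ q) (FrobField k p ⊗[k] (A ⧸ q)) := ι.toAlgebra
    show Module.Finite (A ⧸ q) (FrobField k p ⊗[k] (A ⧸ q))
    refine Module.Finite.of_equiv_equiv (A₁ := A ⧸ q) (B₁ := (A ⧸ q) ⊗[k] FrobField k p)
      (RingEquiv.refl (A ⧸ q)) (Algebra.TensorProduct.comm k (A ⧸ q) (FrobField k p)).toRingEquiv ?_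
    ext b
    simp [ι, RingHom.algebraMap_toAlgebra]
  letI : Algebra A (FrobField k p ⊗[k] (A ⧸ q)) := (ι.comp (Ideal.Quotient.mk q)).toAlgebra
  have hft : Algebra.FiniteType A (FrobField k p ⊗[k] (A ⧸ q)) := by
    have h1 : (ι.comp (Ideal.Quotient.mk q)).FiniteType :=
      (RingHom.Finite.finiteType hfinι).comp
        (RingHom.FiniteType.of_surjective _ Ideal.Quotient.mk_surjective)
    exact h1
  exact Groth.Agent.Lib.J0CompleteH3.main2622 A (FrobField k p ⊗[k] (A ⧸ q)) hft

end Groth.Agent.Lib.FSLocusOpenH3
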