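import Mathlib
import Groth.Prelude.Def_FSRel

open TensorProduct KaehlerDifferential

namespace Groth.Agent.Lib.FSRel

universe u

variable {A B C : Type u} [CommRing A] [CommRing B] [CommRing C]
  [Algebra A B] [Algebra B C] [Algebra A C] [IsScalarTower A B C]

/-- Core lifting lemma: from a retraction of `mapBaseChange`, correct an `A`-lift `u` to one
compatible with a given `ψ : B → T`. -/
theorem lift_of_section
    (l : Ω[C⁄A] →ₗ[C] C ⊗[B] Ω[B⁄A])
    (hl : l ∘ₗ KaehlerDifferential.mapBaseChange A B C = LinearMap.id)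
    (T : Type u) [CommRing T] [Algebra A T] (u : C →ₐ[A] T) (ψ : B →ₐ[A] T) (J : Ideal T)
    (hJ : J ^ 2 = ⊥) (hψ : ∀ b, ψ b - u (algebraMap B C b) ∈ J) :
    ∃ v : C →ₐ[A] T, (∀ c, v c - u c ∈ J) ∧ ∀ b, v (algebraMap B C b) = ψ b := by
  letI : Algebra C T := u.toRingHom.toAlgebra
  letI : Algebra B T := (u.toRingHom.comp (algebraMap B C)).toAlgebra
  haveI : IsScalarTower A C T := IsScalarTower.of_algebraMap_eq (fun a => (u.commutes a).symm)
  haveI : IsScalarTower B C T := IsScalarTower.of_algebraMap_eq (fun _ => rfl)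
  haveI : IsScalarTower A B T := IsScalarTower.of_algebraMap_eq (fun a => by
    show algebraMap A T a = u (algebraMap B C (algebraMap A B a))
    rw [← IsScalarTower.algebraMap_apply A B C, u.commutes])
  have e : (Ideal.Quotient.mkₐ A J).comp ψ = IsScalarTower.toAlgHom A B (T ⧸ J) := by
    ext b
    show Ideal.Quotient.mk J (ψ b) = Ideal.Quotient.mk J (u (algebraMap B C b))
    exact Ideal.Quotient.eq.mpr (hψ b)
  let δ : Derivation A B J := derivationToSquareZeroOfLift J hJ ψ e
  let δL : Ω[B⁄A] →ₗ[B] J := δ.liftKaehlerDifferential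
  let δt : C ⊗[B] Ω[B⁄A] →ₗ[C] J := δL.liftBaseChange C
  let D' : Derivation A C J := (δt ∘ₗ l).compDer (KaehlerDifferential.D A C)
  let v : C →ₐ[A] T := liftOfDerivationToSquareZero J hJ D'
  refine ⟨v, fun c => ?_, fun b => ?_⟩
  · show (D' c : T) + algebraMap C T c - u c ∈ J
    have h0 : algebraMap C T c = u c := rfl
    rw [h0, add_sub_cancel_right]
    exact (D' c).2
  · show (D' (algebraMap B C b) : T) + algebraMap C T (algebraMap B C b) = ψ b
    have h1 : l (KaehlerDifferential.D A C (algebraMap B C b)) =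
        (1 : C) ⊗ₜ[B] KaehlerDifferential.D A B b := by
      have h := LinearMap.congr_fun hl ((1 : C) ⊗ₜ[B] KaehlerDifferential.D A B b)
      simpa using h
    have h2 : D' (algebraMap B C b) = δ b := by
      show δt (l (KaehlerDifferential.D A C (algebraMap B C b))) = δ b
      rw [h1]
      show (1 : C) • δL (KaehlerDifferential.D A B b) = δ b
      rw [one_smul]
      exact Derivation.liftKaehlerDifferential_comp_D δ b
    rw [h2]
    show (ψ b - algebraMap B T b) + algebraMap C T (algebraMap B C b) = ψ b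
    exact sub_add_cancel _ _

theorem fsRel_of_section
    (l : Ω[C⁄A] →ₗ[C] C ⊗[B] Ω[B⁄A])
    (hl : l ∘ₗ KaehlerDifferential.mapBaseChange A B C = LinearMap.id) :
    EGA41.IsFormallySmoothRel A B C := by
  rintro T _ _ _ _ J hJ u₀ ⟨u, hu⟩
  have hu' : ∀ c, Ideal.Quotient.mk J (u c) = u₀ c := fun c => AlgHom.congr_fun hu c
  have hψ : ∀ b, (IsScalarTower.toAlgHom A B T) b - u (algebraMap B C b) ∈ J := by
    intro b
    rw [← Ideal.Quotient.eq, hu', u₀.commutes]
    rfl
  obtain ⟨v, hv1, hv2⟩ := lift_of_section l hl T u (IsScalarTower.toAlgHom A B T) J hJ hψ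
  refine ⟨{ v.toRingHom with commutes' := fun b => hv2 b }, ?_⟩
  apply AlgHom.ext
  intro c
  show Ideal.Quotient.mk J (v c) = u₀ c
  rw [← hu']
  exact Ideal.Quotient.eq.mpr (hv1 c)

/-- Under relative formal smoothness, any `A`-derivation `B → M` (with `M` a `C`-module) extends to
an `A`-derivation `C → M`. -/
theorem exists_derivation_extension (hfs : EGA41.IsFormallySmoothRel A B C)
    (M : Type u) [AddCommGroup M] [Module C M] [Module B M] [Module A M]
    [IsScalarTower B C M] [IsScalarTower A C M] [IsScalarTower A B M]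
    (d : Derivation A B M) : ∃ D : Derivation A C M, ∀ b, D (algebraMap B C b) = d b := by
  letI : Module Cᵐᵒᵖ M := Module.compHom M ((RingHom.id C).fromOpposite (fun x y => mul_comm x y))
  haveI : IsCentralScalar C M := ⟨fun c m => rfl⟩
  let ψ : B →+* TrivSqZeroExt C M :=
    { toFun := fun b => TrivSqZeroExt.inl (algebraMap B C b) + TrivSqZeroExt.inr (d b)
      map_one' := by
        rw [map_one, d.map_one_eq_zero, TrivSqZeroExt.inr_zero, add_zero, TrivSqZeroExt.inl_one]
      map_mul' := fun b b' => by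
        ext
        · simp
        · simp [TrivSqZeroExt.snd_mul, add_comm]
      map_zero' := by
        rw [map_zero, map_zero, TrivSqZeroExt.inr_zero, add_zero, TrivSqZeroExt.inl_zero]
      map_add' := fun b b' => by
        rw [map_add, map_add, TrivSqZeroExt.inl_add, TrivSqZeroExt.inr_add]
        abel }
  have hψ : ∀ b, ψ b = TrivSqZeroExt.inl (algebraMap B C b) + TrivSqZeroExt.inr (d b) :=
    fun _ => rfl
  letI algBT : Algebra B (TrivSqZeroExt C M) := ψ.toAlgebra
  letI algAT : Algebra A (TrivSqZeroExt C M) := (ψ.comp (algebraMap A B)).toAlgebra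
  haveI tower : @IsScalarTower A B (TrivSqZeroExt C M) _ algBT.toSMul algAT.toSMul :=
    @IsScalarTower.of_algebraMap_eq A B (TrivSqZeroExt C M) _ _ _ _ algBT algAT (fun _ => rfl)
  have hBT : ∀ b, algebraMap B (TrivSqZeroExt C M) b = ψ b := fun _ => rfl
  let J : Ideal (TrivSqZeroExt C M) := TrivSqZeroExt.kerIdeal C M
  have hJ : J ^ 2 = ⊥ := TrivSqZeroExt.kerIdeal_sq C M
  have hJmem : ∀ x : TrivSqZeroExt C M, x ∈ J ↔ x.fst = 0 := fun x => by
    show x ∈ RingHom.ker (TrivSqZeroExt.fstHom C C M) ↔ _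
    rw [RingHom.mem_ker]
    rfl
  have hψA : ∀ a : A, ψ (algebraMap A B a) = TrivSqZeroExt.inl (algebraMap A C a) := fun a => by
    rw [hψ, d.map_algebraMap, TrivSqZeroExt.inr_zero, add_zero,
      ← IsScalarTower.algebraMap_apply A B C]
  let u : C →ₐ[A] TrivSqZeroExt C M :=
    { (TrivSqZeroExt.inlHom C M : C →+* TrivSqZeroExt C M) with
      commutes' := fun a => (hψA a).symm }
  let u₀ : C →ₐ[B] (TrivSqZeroExt C M ⧸ J) :=
    { (Ideal.Quotient.mk J).comp (TrivSqZeroExt.inlHom C M) with
      commutes' := fun b => by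
        show Ideal.Quotient.mk J (TrivSqZeroExt.inl (algebraMap B C b)) =
          Ideal.Quotient.mk J (ψ b)
        rw [Ideal.Quotient.eq, hJmem, hψ]
        simp }
  have hu : (Ideal.Quotient.mkₐ A J).comp u = u₀.restrictScalars A := AlgHom.ext fun c => rfl
  obtain ⟨v, hv⟩ := hfs (TrivSqZeroExt C M) J hJ u₀ ⟨u, hu⟩
  have hfst : ∀ c, (v c).fst = c := fun c => by
    have h1 : Ideal.Quotient.mk J (v c) = Ideal.Quotient.mk J (TrivSqZeroExt.inl c) :=
      AlgHom.congr_fun hv c
    rw [Ideal.Quotient.eq, hJmem] at h1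
    simpa [sub_eq_zero] using h1
  have hvB : ∀ b, v (algebraMap B C b) = ψ b := fun b => v.commutes b
  have hvA : ∀ a : A, v (algebraMap A C a) = TrivSqZeroExt.inl (algebraMap A C a) := fun a => by
    rw [IsScalarTower.algebraMap_apply A B C, hvB, hψA, ← IsScalarTower.algebraMap_apply A B C]
  let D : Derivation A C M := Derivation.mk'
    { toFun := fun c => (v c).snd
      map_add' := fun c c' => by rw [map_add, TrivSqZeroExt.snd_add]
      map_smul' := fun a c => by
        show (v (a • c)).snd = a • (v c).snd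
        rw [Algebra.smul_def, map_mul, hvA, TrivSqZeroExt.snd_mul]
        simp }
    (fun c c' => by
      show (v (c * c')).snd = c • (v c').snd + c' • (v c).snd
      rw [map_mul, TrivSqZeroExt.snd_mul, hfst, hfst]
      simp)
  refine ⟨D, fun b => ?_⟩
  show (v (algebraMap B C b)).snd = d b
  rw [hvB, hψ]
  simp

theorem section_of_fsRel (hfs : EGA41.IsFormallySmoothRel A B C) :
    ∃ l : Ω[C⁄A] →ₗ[C] C ⊗[B] Ω[B⁄A],
      l ∘ₗ KaehlerDifferential.mapBaseChange A B C = LinearMap.id := by
  let d : Derivation A B (C ⊗[B] Ω[B⁄A]) :=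
    (TensorProduct.mk B C (Ω[B⁄A]) 1).compDer (KaehlerDifferential.D A B)
  obtain ⟨D, hD⟩ := exists_derivation_extension hfs (C ⊗[B] Ω[B⁄A]) d
  refine ⟨D.liftKaehlerDifferential, ?_⟩
  have key : (D.liftKaehlerDifferential.restrictScalars B) ∘ₗ (KaehlerDifferential.map A A B C) =
      TensorProduct.mk B C (Ω[B⁄A]) 1 := by
    apply Derivation.liftKaehlerDifferential_unique
    ext b
    show D.liftKaehlerDifferential (KaehlerDifferential.map A A B C (KaehlerDifferential.D A B b)) =
      (1 : C) ⊗ₜ[B] KaehlerDifferential.D A B b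
    rw [KaehlerDifferential.map_D, Derivation.liftKaehlerDifferential_comp_D, hD]
    rfl
  apply TensorProduct.AlgebraTensorModule.ext
  intro c w
  have h := LinearMap.congr_fun key w
  have h' : D.liftKaehlerDifferential (KaehlerDifferential.map A A B C w) = (1 : C) ⊗ₜ[B] w := h
  rw [LinearMap.comp_apply, KaehlerDifferential.mapBaseChange_tmul, map_smul, h',
    TensorProduct.smul_tmul', smul_eq_mul, mul_one]
  rfl

theorem main :
    (∃ l : Ω[C⁄A] →ₗ[C] C ⊗[B] Ω[B⁄A],
      l ∘ₗ KaehlerDifferential.mapBaseChange A B C = LinearMap.id) ↔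
      EGA41.IsFormallySmoothRel A B C :=
  ⟨fun ⟨l, hl⟩ => fsRel_of_section l hl, section_of_fsRel⟩

end Groth.Agent.Lib.FSRel
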