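import Mathlib
import Groth.Prelude.Def_FSch5

/-!
# Restriction of finite morphisms of formal systems to opens (helper8)
-/

set_option autoImplicit false
universe u

open AlgebraicGeometry CategoryTheory CategoryTheory.Limits FSch

namespace FSchResH8

variable {𝔛 𝔜 : FSch.Sys.{u}} (h𝔛 : 𝔛.IsFormal) (h𝔜 : 𝔜.IsFormal) (f : 𝔛 ⟶ 𝔜)

theorem isAdicHom_restrictOpen (hadic : FSch.IsAdicHom f) (U : (𝔜.X 0).Opens) :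
    FSch.IsAdicHom (FSch.Hom.restrictOpen f h𝔛 h𝔜 U) := by
  intro n
  have H := hadic n
  have hUY : 𝔛.lvU h𝔛 n ((f : FSch.Hom 𝔛 𝔜).app 0 ⁻¹ᵁ U) =
      (𝔛.ι n) ⁻¹ᵁ (𝔛.lvU h𝔛 (n + 1) ((f : FSch.Hom 𝔛 𝔜).app 0 ⁻¹ᵁ U)) ⊓
        ((f : FSch.Hom 𝔛 𝔜).app n) ⁻¹ᵁ (𝔜.lvU h𝔜 n U) := by
    rw [FSch.Sys.lvU_succ, FSch.Hom.lvU_preimage f h𝔛 h𝔜 n U, inf_idem]
  exact Scheme.Hom.isPullback_resLE H (𝔜.lvU_le h𝔜 n U)
    (FSch.Hom.lvU_preimage f h𝔛 h𝔜 (n + 1) U).ge hUY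

/-- Any property local on the target restricts. -/
theorem restrictOpen_app_of {P : MorphismProperty Scheme.{u}}
    [IsZariskiLocalAtTarget P] (n : ℕ) (U : (𝔜.X 0).Opens)
    (hP : P ((f : FSch.Hom 𝔛 𝔜).app n)) :
    P ((FSch.Hom.restrictOpen f h𝔛 h𝔜 U : FSch.Hom _ _).app n) := by
  have hle := (FSch.Hom.lvU_preimage f h𝔛 h𝔜 n U).ge
  have hle' := (FSch.Hom.lvU_preimage f h𝔛 h𝔜 n U).le
  have he : (FSch.Hom.restrictOpen f h𝔛 h𝔜 U : FSch.Hom _ _).app n =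
      (𝔛.X n).homOfLE hle ≫ ((f : FSch.Hom 𝔛 𝔜).app n) ∣_ (𝔜.lvU h𝔜 n U) := rfl
  rw [he]
  haveI : IsIso ((𝔛.X n).homOfLE hle) := by
    refine ⟨(𝔛.X n).homOfLE hle', ?_, ?_⟩ <;> simp
  exact (MorphismProperty.cancel_left_of_respectsIso P ((𝔛.X n).homOfLE hle) _).2
    (IsZariskiLocalAtTarget.restrict hP _)

end FSchResH8
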