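import Mathlib
import Groth.Agent.Lib.MLDom_lead

set_option autoImplicit false
universe u

/-!
# Mittag-Leffler descends along faithfully flat ring maps (helper3)
-/

namespace Groth.Agent.Lib.MLDescentH3

open TensorProduct CAlg Groth.Agent.Lib.MLPure_lead Groth.Agent.Lib.MLDom_lead

variable {R S : Type u} [CommRing R] [CommRing S] [Algebra R S]

section cancel

variable (M : Type u) [AddCommGroup M] [Module R M]

/-- `(S ⊗_R M) ⊗_S X ≃ M ⊗_R X`. -/
noncomputable def eqv (X : Type u) [AddCommGroup X] [Module S X] [Module R X]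
    [IsScalarTower R S X] : (S ⊗[R] M) ⊗[S] X ≃ₗ[R] M ⊗[R] X :=
  ((TensorProduct.comm S (S ⊗[R] M) X).restrictScalars R) ≪≫ₗ
  ((TensorProduct.AlgebraTensorModule.cancelBaseChange R S S X M).restrictScalars R) ≪≫ₗ
  (TensorProduct.comm R X M)

theorem eqv_tmul (X : Type u) [AddCommGroup X] [Module S X] [Module R X]
    [IsScalarTower R S X] (s : S) (m : M) (x : X) :
    eqv M X ((s ⊗ₜ[R] m) ⊗ₜ[S] x) = m ⊗ₜ[R] (s • x) := by
  simp [eqv]

theorem piRightHom_eqv {ι : Type u} (N' : ι → Type u) [∀ j, AddCommGroup (N' j)]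
    [∀ j, Module S (N' j)] [∀ j, Module R (N' j)] [∀ j, IsScalarTower R S (N' j)]
    (z : (S ⊗[R] M) ⊗[S] (∀ j, N' j)) (j : ι) :
    TensorProduct.piRightHom R R M N' (eqv M (∀ j, N' j) z) j =
      eqv M (N' j) (TensorProduct.piRightHom S S (S ⊗[R] M) N' z j) := by
  induction z using TensorProduct.induction_on with
  | zero => simp
  | tmul t x =>
    induction t using TensorProduct.induction_on with
    | zero => simp
    | tmul s m => simp [eqv_tmul]
    | add a b ha hb => simp only [TensorProduct.add_tmul, map_add, Pi.add_apply, ha, hb]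
  | add a b ha hb => simp only [map_add, Pi.add_apply, ha, hb]

theorem piRightHom_injective_of_baseChange (hS : IsMittagLeffler S (S ⊗[R] M))
    {ι : Type u} (N' : ι → Type u) [∀ j, AddCommGroup (N' j)]
    [∀ j, Module S (N' j)] [∀ j, Module R (N' j)] [∀ j, IsScalarTower R S (N' j)] :
    Function.Injective (TensorProduct.piRightHom R R M N') := by
  rw [injective_iff_map_eq_zero]
  intro z' hz'
  obtain ⟨z, rfl⟩ := (eqv (S := S) M (∀ j, N' j)).surjective z'
  have h1 : TensorProduct.piRightHom S S (S ⊗[R] M) N' z = 0 := by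
    funext j
    apply (eqv (S := S) M (N' j)).injective
    rw [← piRightHom_eqv, hz']
    simp
  have h2 : z = 0 := hS ι N' (h1.trans (map_zero _).symm)
  rw [h2, map_zero]

end cancel

theorem lTensor_mk_injective [Module.FaithfullyFlat R S] (Q₀ N : Type u) [AddCommGroup Q₀]
    [Module R Q₀] [AddCommGroup N] [Module R N] :
    Function.Injective ((TensorProduct.mk R S N 1).lTensor Q₀) := by
  have h : (TensorProduct.leftComm R Q₀ S N).toLinearMap ∘ₗ (TensorProduct.mk R S N 1).lTensor Q₀ =
      TensorProduct.mk R S (Q₀ ⊗[R] N) 1 := by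
    apply TensorProduct.ext'
    intro q n
    simp
  have h2 := Module.FaithfullyFlat.tensorProduct_mk_injective (A := R) (B := S) (Q₀ ⊗[R] N)
  rw [← h, LinearMap.coe_comp] at h2
  exact Function.Injective.of_comp h2

theorem isMittagLeffler_of_baseChange [Module.FaithfullyFlat R S] (M : Type u) [AddCommGroup M]
    [Module R M] (hS : IsMittagLeffler S (S ⊗[R] M)) : IsMittagLeffler R M := by
  classical
  apply isMittagLeffler_of_dominating
  intro n f
  have claim : ∃ j : Fact f, ∀ N : ModuleCat.{u} R,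
      LinearMap.ker (f.rTensor N) ≤ LinearMap.ker (j.g.rTensor N) := by
    by_contra hcon
    push Not at hcon
    have hcon' : ∀ j : Fact f, ∃ (N : ModuleCat.{u} R) (y : (Fin n → R) ⊗[R] N),
        f.rTensor N y = 0 ∧ j.g.rTensor N y ≠ 0 := by
      intro j
      obtain ⟨N, hN⟩ := hcon j
      obtain ⟨y, hy, hy'⟩ := SetLike.not_le_iff_exists.mp hN
      exact ⟨N, y, LinearMap.mem_ker.mp hy, fun h0 => hy' (LinearMap.mem_ker.mpr h0)⟩
    choose N y hy hy' using hcon'
    let ι : ∀ j, (N j : Type u) →ₗ[R] S ⊗[R] (N j : Type u) := fun j => TensorProduct.mk R S (N j) 1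
    obtain ⟨yt, hyt⟩ := Groth.Agent.Lib.PiTensor_lead.piRightHom_surjective_of_finite (Fin n → R)
      (fun j => S ⊗[R] (N j : Type u)) (fun j => (ι j).lTensor (Fin n → R) (y j))
    have hcomp : ∀ j, (LinearMap.proj j : (∀ j, S ⊗[R] (N j : Type u)) →ₗ[R] S ⊗[R] (N j : Type u)).lTensor
        (Fin n → R) yt = (ι j).lTensor (Fin n → R) (y j) := by
      intro j
      rw [← piRightHom_apply, hyt]
    have hξ : (f.rTensor (∀ j, S ⊗[R] (N j : Type u))) yt = 0 := by
      apply piRightHom_injective_of_baseChange M hS (fun j => S ⊗[R] (N j : Type u))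
      rw [map_zero]
      funext j
      rw [piRightHom_apply, ← rTensor_lTensor_comm, hcomp, rTensor_lTensor_comm, hy, map_zero]
      rfl
    obtain ⟨Q, _, _, _, g, h, hgh, hg0⟩ := exists_fp_factor f yt hξ
    obtain ⟨r, L, e, hL⟩ := Module.FinitePresentation.exists_fin R Q
    let j₀ : Fact f := ⟨r, L, hL, e.toLinearMap ∘ₗ g, h ∘ₗ e.symm.toLinearMap, by
      refine LinearMap.ext fun p => ?_
      simp only [LinearMap.comp_apply, LinearEquiv.coe_coe, LinearEquiv.symm_apply_apply, ← hgh]⟩
    have h0 : (j₀.g.rTensor (N j₀)) (y j₀) = 0 := by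
      apply lTensor_mk_injective (S := S) _ (N j₀)
      rw [map_zero]
      show (ι j₀).lTensor _ ((j₀.g.rTensor (N j₀)) (y j₀)) = 0
      rw [← rTensor_lTensor_comm, ← hcomp j₀, rTensor_lTensor_comm]
      have h1 : (j₀.g.rTensor (∀ j, S ⊗[R] (N j : Type u))) yt = 0 := by
        show ((e.toLinearMap ∘ₗ g).rTensor _) yt = 0
        rw [LinearMap.rTensor_comp, LinearMap.comp_apply, hg0, map_zero]
      rw [h1, map_zero]
    exact hy' j₀ h0
  obtain ⟨j, hj⟩ := claim
  have hfp : Module.FinitePresentation R ((Fin j.r → R) ⧸ j.L) :=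
    Module.finitePresentation_of_surjective j.L.mkQ j.L.mkQ_surjective
      (by rw [Submodule.ker_mkQ]; exact j.hL)
  refine ⟨(Fin j.r → R) ⧸ j.L, inferInstance, inferInstance, hfp, j.g,
    fun N _ _ => le_antisymm ?_ ?_⟩
  · exact hj (ModuleCat.of R N)
  · intro x hx
    rw [LinearMap.mem_ker] at hx ⊢
    rw [← j.comp, LinearMap.rTensor_comp, LinearMap.comp_apply, hx, map_zero]

end Groth.Agent.Lib.MLDescentH3
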