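import Groth.Agent.S6337
import Groth.Agent.S6338
import Groth.Agent.S6340
import Mathlib.Algebra.DirectSum.Finsupp
import Mathlib.LinearAlgebra.FreeModule.Basic
import Mathlib.Algebra.Module.Projective

/-!
# Mittag-Leffler modules (lead's helper library)

`CAlg.IsMittagLeffler R M` (prelude): for all families `Q`, `M ⊗ ∏ Q i → ∏ (M ⊗ Q i)` is injective.

* `of_linearEquiv`: invariance under linear equivalences.
* `of_split`: a retract of a Mittag-Leffler module is Mittag-Leffler.
* `self`: `R` is Mittag-Leffler; `of_free`, `of_projective`.
-/

universe u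

namespace Groth.Agent.Lib.MittagLeffler_lead

open TensorProduct CAlg

variable {R : Type u} [CommRing R]

/-- A split injection is universally injective. -/
theorem universallyInjective_of_leftInverse {M N : Type u} [AddCommGroup M] [Module R M]
    [AddCommGroup N] [Module R N] (f : M →ₗ[R] N) (g : N →ₗ[R] M) (h : g ∘ₗ f = LinearMap.id) :
    CAlgX.UniversallyInjective R f := by
  intro Q _ _
  apply Function.LeftInverse.injective (g := g.rTensor Q)
  intro x
  rw [← LinearMap.comp_apply, ← LinearMap.rTensor_comp, h, LinearMap.rTensor_id,
    LinearMap.id_apply]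

theorem of_split {M N : Type u} [AddCommGroup M] [Module R M]
    [AddCommGroup N] [Module R N] (f : M →ₗ[R] N) (g : N →ₗ[R] M) (h : g ∘ₗ f = LinearMap.id)
    (hN : IsMittagLeffler R N) : IsMittagLeffler R M :=
  Groth.Agent.S6338.result R f (universallyInjective_of_leftInverse f g h) hN

theorem of_linearEquiv {M N : Type u} [AddCommGroup M] [Module R M]
    [AddCommGroup N] [Module R N] (e : M ≃ₗ[R] N) (hN : IsMittagLeffler R N) :
    IsMittagLeffler R M :=
  of_split e.toLinearMap e.symm.toLinearMap (by ext x; simp) hN

theorem self : IsMittagLeffler R R := by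
  intro ι Q _ _
  have : (LinearMap.pi fun i => (TensorProduct.lid R (Q i)).toLinearMap ∘ₗ LinearMap.proj i) ∘ₗ
      (TensorProduct.piRightHom R R R Q) = (TensorProduct.lid R (∀ i, Q i)).toLinearMap := by
    ext q i
    simp
  have hinj : Function.Injective ((LinearMap.pi fun i =>
      (TensorProduct.lid R (Q i)).toLinearMap ∘ₗ LinearMap.proj i) ∘ₗ
      (TensorProduct.piRightHom R R R Q)) := by
    rw [this]
    exact (TensorProduct.lid R (∀ i, Q i)).injective
  rw [LinearMap.coe_comp] at hinj
  exact Function.Injective.of_comp hinj

theorem of_free (M : Type u) [AddCommGroup M] [Module R M] [Module.Free R M] :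
    IsMittagLeffler R M := by
  classical
  have h1 : IsMittagLeffler R (DirectSum (Module.Free.ChooseBasisIndex R M) fun _ => R) :=
    (Groth.Agent.S6337.result R (fun _ : Module.Free.ChooseBasisIndex R M => R)).mpr fun _ => self
  exact of_linearEquiv ((Module.Free.chooseBasis R M).repr ≪≫ₗ
    finsuppLEquivDirectSum R R (Module.Free.ChooseBasisIndex R M)) h1

theorem of_projective (M : Type u) [AddCommGroup M] [Module R M] [Module.Projective R M] :
    IsMittagLeffler R M := by
  obtain ⟨s, hs⟩ := Module.projective_def'.mp (inferInstance : Module.Projective R M)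
  exact of_split s (Finsupp.linearCombination R id) hs (of_free (M →₀ R))

/-- A finitely presented module is Mittag-Leffler. -/
theorem of_finitePresentation (M : Type u) [AddCommGroup M] [Module R M]
    [Module.FinitePresentation R M] : IsMittagLeffler R M := by
  obtain ⟨n, K, e, hK⟩ := Module.FinitePresentation.exists_fin R M
  exact of_linearEquiv e (Groth.Agent.S6340.result R K hK (of_free (Fin n → R)))

end Groth.Agent.Lib.MittagLeffler_lead
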