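import Mathlib
import Groth.Agent.Lib.Adapted_helper3
import Groth.Agent.Lib.CountableProj_helper3
import Groth.Agent.Lib.MLDescent_helper3
import Groth.Agent.Lib.ComplFlatSplit_helper3
import Groth.Agent.Lib.Kaplansky_lead
import Groth.Agent.Lib.MittagLeffler_lead

set_option autoImplicit false
universe u

/-!
# Faithfully flat descent of projectivity (helper3)

Raynaud–Gruson: if `R → S` is faithfully flat and `S ⊗ M` is projective over `S`, then `M` is a
direct sum of countably generated submodules (and flat, Mittag-Leffler), hence projective.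
The Kaplansky dévissage is replaced by Zorn's lemma on independent families of countably generated
submodules whose sum is adapted to a fixed decomposition of `S ⊗ M`.
-/

namespace Groth.Agent.Lib.ProjDescentH3

open scoped TensorProduct
open AdaptedH3 CAlg

variable {R S : Type u} [CommRing R] [CommRing S] [Algebra R S]
  {M : Type u} [AddCommGroup M] [Module R M]

theorem A_coe_iSup {κ : Type*} (N : κ → Submodule R M) :
    A R S ((⨆ k, N k : Submodule R M) : Set M) = ⨆ k, A R S (N k : Set M) := by
  rw [Submodule.iSup_eq_span, A_span, A_iUnion]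

theorem range_baseChange_subtype (N : Submodule R M) :
    LinearMap.range (LinearMap.baseChange S N.subtype) = A R S (N : Set M) := by
  apply le_antisymm
  · rintro _ ⟨z, rfl⟩
    induction z using TensorProduct.induction_on with
    | zero => rw [map_zero]; exact Submodule.zero_mem _
    | tmul s n =>
      have h : LinearMap.baseChange S N.subtype (s ⊗ₜ[R] n) =
          s • (TensorProduct.mk R S M 1 (n : M)) := by
        rw [LinearMap.baseChange_tmul, TensorProduct.mk_apply, TensorProduct.smul_tmul',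
          smul_eq_mul, mul_one]
        rfl
      rw [h]
      exact Submodule.smul_mem _ _ (Submodule.subset_span ⟨n, n.2, rfl⟩)
    | add y z hy hz => rw [map_add]; exact Submodule.add_mem _ hy hz
  · unfold A
    rw [Submodule.span_le]
    rintro _ ⟨n, hn, rfl⟩
    exact ⟨(1 : S) ⊗ₜ[R] (⟨n, hn⟩ : N), by rw [LinearMap.baseChange_tmul]; rfl⟩

theorem ker_baseChange_mkQ (N : Submodule R M) :
    LinearMap.ker (LinearMap.baseChange S N.mkQ) =
      LinearMap.range (LinearMap.baseChange S N.subtype) := by
  have hex : Function.Exact (LinearMap.lTensor S N.subtype) (LinearMap.lTensor S N.mkQ) :=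
    lTensor_exact S (LinearMap.exact_subtype_mkQ N) (Submodule.mkQ_surjective N)
  ext z
  rw [LinearMap.mem_ker, LinearMap.mem_range]
  exact hex z

theorem isMittagLeffler_of_projective (P : Type u) [AddCommGroup P] [Module R P]
    [Module.Projective R P] : IsMittagLeffler R P := by
  obtain ⟨s, hs⟩ := Module.projective_def'.1 (inferInstance : Module.Projective R P)
  exact MittagLeffler_lead.of_split s _ hs (MittagLeffler_lead.of_free _)

section adapted

variable [Module.Projective S (S ⊗[R] M)] {ι : Type u} (Q : ι → Submodule S (S ⊗[R] M))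
  (hind : iSupIndep Q) (htop : iSup Q = ⊤)

include hind htop in
theorem projective_baseChange_quotient (N : Submodule R M) (I' : Set ι)
    (hN : A R S (N : Set M) = ⨆ i ∈ I', Q i) :
    Module.Projective S (S ⊗[R] (M ⧸ N)) := by
  let f : (S ⊗[R] M) →ₗ[S] (S ⊗[R] (M ⧸ N)) := LinearMap.baseChange S N.mkQ
  have hf : Function.Surjective f := by
    have : Function.Surjective (LinearMap.lTensor S N.mkQ) :=
      LinearMap.lTensor_surjective S (Submodule.mkQ_surjective N)
    exact this
  have hker : LinearMap.ker f = Kaplansky.MJ Q I' := by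
    rw [ker_baseChange_mkQ, range_baseChange_subtype, hN]
    rfl
  have hc : IsCompl (LinearMap.ker f) (Kaplansky.MJ Q I'ᶜ) := by
    rw [hker]
    exact Kaplansky.MJ_isCompl Q hind htop I'
  let e1 : ((S ⊗[R] M) ⧸ LinearMap.ker f) ≃ₗ[S] S ⊗[R] (M ⧸ N) :=
    f.quotKerEquivOfSurjective hf
  let e2 : ((S ⊗[R] M) ⧸ LinearMap.ker f) ≃ₗ[S] ↥(Kaplansky.MJ Q I'ᶜ) :=
    Submodule.quotientEquivOfIsCompl _ _ hc
  haveI : Module.Projective S ↥(Kaplansky.MJ Q I'ᶜ) :=
    Module.Projective.of_split (Kaplansky.MJ Q I'ᶜ).subtype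
      (Submodule.projectionOnto (Kaplansky.MJ Q I'ᶜ) (LinearMap.ker f) hc.symm)
      (LinearMap.ext fun x => Submodule.projectionOnto_apply_left hc.symm x)
  exact Module.Projective.of_equiv (e2.symm ≪≫ₗ e1)

include hind htop in
theorem flat_ml_quotient [Module.FaithfullyFlat R S] (N : Submodule R M) (I' : Set ι)
    (hN : A R S (N : Set M) = ⨆ i ∈ I', Q i) :
    Module.Flat R (M ⧸ N) ∧ IsMittagLeffler R (M ⧸ N) := by
  haveI := projective_baseChange_quotient Q hind htop N I' hN
  exact ⟨Module.Flat.of_flat_tensorProduct R (M ⧸ N) S,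
    MLDescentH3.isMittagLeffler_of_baseChange (S := S) (M ⧸ N)
      (isMittagLeffler_of_projective (R := S) (S ⊗[R] (M ⧸ N)))⟩

theorem universallyInjective_of_flat_coker {A B C : Type u} [AddCommGroup A] [Module R A]
    [AddCommGroup B] [Module R B] [AddCommGroup C] [Module R C] [Module.Flat R C]
    (f : A →ₗ[R] B) (g : B →ₗ[R] C) (hf : Function.Injective f) (hfg : Function.Exact f g)
    (hg : Function.Surjective g) : CAlgX.UniversallyInjective R f := by
  intro X _ _
  have h1 : Function.Injective (f.lTensor X) :=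
    LinearMap.lTensor_injective_of_exact_of_flat g hg f hf hfg X
  have h2 : f.rTensor X = (TensorProduct.comm R X B).toLinearMap ∘ₗ f.lTensor X ∘ₗ
      (TensorProduct.comm R A X).toLinearMap := by
    ext a x
    simp
  rw [h2]
  exact (TensorProduct.comm R X B).injective.comp (h1.comp (TensorProduct.comm R A X).injective)

include hind htop in
theorem exists_complement [Module.FaithfullyFlat R S] (N N' : Submodule R M) (I' J : Set ι)
    (hN : A R S (N : Set M) = ⨆ i ∈ I', Q i) (hN' : A R S (N' : Set M) = ⨆ i ∈ J, Q i)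
    (hcg : ∃ s : Set M, s.Countable ∧ Submodule.span R s = N') :
    ∃ P : Submodule R M, (∃ s : Set M, s.Countable ∧ Submodule.span R s = P) ∧
      Disjoint N P ∧ N ⊔ P = N ⊔ N' := by
  classical
  have hN₂ : A R S ((N ⊔ N' : Submodule R M) : Set M) = ⨆ i ∈ I' ∪ J, Q i := by
    rw [A_coe_sup, hN, hN', biSup_union']
  obtain ⟨hflat1, hML1⟩ := flat_ml_quotient Q hind htop N I' hN
  obtain ⟨hflat2, -⟩ := flat_ml_quotient Q hind htop (N ⊔ N') (I' ∪ J) hN₂
  let φ : (M ⧸ N) →ₗ[R] (M ⧸ (N ⊔ N')) :=
    Submodule.mapQ N (N ⊔ N') LinearMap.id (by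
      intro x hx
      exact Submodule.mem_sup_left hx)
  have hφmk : ∀ m : M, φ (N.mkQ m) = (N ⊔ N').mkQ m := fun m => rfl
  have hφ : Function.Surjective φ := by
    intro y
    obtain ⟨m, rfl⟩ := Submodule.mkQ_surjective _ y
    exact ⟨N.mkQ m, hφmk m⟩
  have hK : LinearMap.ker φ = Submodule.map N.mkQ N' := by
    apply le_antisymm
    · intro y hy
      obtain ⟨m, rfl⟩ := Submodule.mkQ_surjective _ y
      have h0 : (N ⊔ N').mkQ m = 0 := by rw [← hφmk]; exact hy
      have hm : m ∈ N ⊔ N' := by simpa using h0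
      obtain ⟨a, ha, b, hb, rfl⟩ := Submodule.mem_sup.mp hm
      refine ⟨b, hb, ?_⟩
      rw [map_add]
      have : N.mkQ a = 0 := by simpa using ha
      rw [this, zero_add]
    · rintro _ ⟨b, hb, rfl⟩
      rw [LinearMap.mem_ker, hφmk]
      have : b ∈ N ⊔ N' := Submodule.mem_sup_right hb
      simpa using this
  haveI : Module.Flat R (LinearMap.ker φ) := ComplFlatSplitH3.flat_ker φ hφ
  have hMLK : IsMittagLeffler R (LinearMap.ker φ) :=
    Groth.Agent.S6338.result R (LinearMap.ker φ).subtype
      (universallyInjective_of_flat_coker (LinearMap.ker φ).subtype φ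
        (LinearMap.ker φ).subtype_injective (LinearMap.exact_subtype_ker_map φ) hφ) hML1
  obtain ⟨s, hs, hsN'⟩ := hcg
  have hCGK : IsCountablyGenerated R (LinearMap.ker φ) :=
    Kaplansky.isCountablyGenerated_of_span (LinearMap.ker φ) (N.mkQ '' s) (hs.image _) (by
      rw [hK, ← hsN', Submodule.map_span])
  haveI : Module.Projective R (LinearMap.ker φ) :=
    CountableProjH3.projective_of_flat_of_isMittagLeffler_of_isCountablyGenerated hMLK hCGK
  let ψ : ↥N' →ₗ[R] ↥(LinearMap.ker φ) :=
    LinearMap.codRestrict (LinearMap.ker φ) (N.mkQ ∘ₗ N'.subtype) (fun n' => by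
      rw [hK]
      exact ⟨n'.1, n'.2, rfl⟩)
  have hψ : Function.Surjective ψ := by
    rintro ⟨y, hy⟩
    rw [hK] at hy
    obtain ⟨b, hb, rfl⟩ := hy
    exact ⟨⟨b, hb⟩, rfl⟩
  obtain ⟨σ, hσ⟩ := Module.projective_lifting_property ψ LinearMap.id hψ
  have hσ' : ∀ k : LinearMap.ker φ, N.mkQ ((σ k : N') : M) = (k : M ⧸ N) := by
    intro k
    have := LinearMap.congr_fun hσ k
    exact congrArg Subtype.val this
  let g : ↥(LinearMap.ker φ) →ₗ[R] M := N'.subtype ∘ₗ σ
  have hg : ∀ k, g k = ((σ k : N') : M) := fun k => rfl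
  obtain ⟨t, ht, htop'⟩ := hCGK
  refine ⟨LinearMap.range g, ⟨g '' t, ht.image _, ?_⟩, ?_, ?_⟩
  · rw [← Submodule.map_span, htop', Submodule.map_top]
  · rw [Submodule.disjoint_def]
    rintro x hxN ⟨k, rfl⟩
    have h0 : N.mkQ (g k) = 0 := by simpa using hxN
    rw [hg, hσ'] at h0
    have hk : k = 0 := Subtype.ext h0
    rw [hk, map_zero]
  · apply le_antisymm
    · refine sup_le le_sup_left ?_
      rintro _ ⟨k, rfl⟩
      exact Submodule.mem_sup_right (σ k).2
    · refine sup_le le_sup_left ?_
      intro n' hn'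
      let k := ψ ⟨n', hn'⟩
      have h1 : N.mkQ (n' - g k) = 0 := by
        rw [map_sub, hg, hσ']
        exact sub_self _
      have h2 : n' - g k ∈ N := (Submodule.Quotient.mk_eq_zero N).1 h1
      have h3 : n' = (n' - g k) + g k := by abel
      rw [h3]
      exact Submodule.add_mem_sup h2 ⟨k, rfl⟩

include hind htop in
theorem exists_indep_family [Module.FaithfullyFlat R S]
    (hQc : ∀ i, ∃ t : Set (S ⊗[R] M), t.Countable ∧ Submodule.span S t = Q i) :
    ∃ PP : Set (Submodule R M), sSupIndep PP ∧
      (∀ P ∈ PP, ∃ s : Set M, s.Countable ∧ Submodule.span R s = P) ∧ sSup PP = ⊤ := by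
  classical
  let ZZ : Set (Set (Submodule R M)) := {PP | sSupIndep PP ∧
    (∀ P ∈ PP, ∃ s : Set M, s.Countable ∧ Submodule.span R s = P) ∧
    ∃ I' : Set ι, A R S ((sSup PP : Submodule R M) : Set M) = ⨆ i ∈ I', Q i}
  obtain ⟨PP, hPP⟩ := zorn_subset ZZ (by
    intro c hc hchain
    refine ⟨⋃₀ c, ⟨?_, ?_, ?_⟩, fun s hs => Set.subset_sUnion_of_mem hs⟩
    · exact iSupIndep_sUnion_of_directed hchain.directedOn
        (fun a ha => (hc ha).1)
    · rintro P ⟨a, ha, hPa⟩
      exact (hc ha).2.1 P hPa
    · have hI : ∀ a : c, ∃ I' : Set ι,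
          A R S ((sSup a.1 : Submodule R M) : Set M) = ⨆ i ∈ I', Q i := fun a => (hc a.2).2.2
      choose I' hI' using hI
      refine ⟨⋃ a, I' a, ?_⟩
      have h1 : sSup (⋃₀ c) = ⨆ a : c, sSup a.1 := by
        apply le_antisymm
        · apply sSup_le
          rintro P ⟨a, ha, hPa⟩
          exact le_iSup_of_le ⟨a, ha⟩ (le_sSup hPa)
        · apply iSup_le
          intro a
          exact sSup_le_sSup (Set.subset_sUnion_of_mem a.2)
      rw [h1, A_coe_iSup, biSup_iUnion]
      exact iSup_congr hI')
  obtain ⟨⟨hindep, hcg, I', hI'⟩, hmax⟩ := hPP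
  refine ⟨PP, hindep, hcg, ?_⟩
  by_contra hne
  obtain ⟨x, hx⟩ : ∃ x : M, x ∉ sSup PP := by
    by_contra hall
    push Not at hall
    exact hne (eq_top_iff.mpr fun x _ => hall x)
  obtain ⟨T, J, hxT, hT, hTJ⟩ := exists_adapted Q htop hQc {x} (Set.countable_singleton x)
  have hN' : A R S ((Submodule.span R T : Submodule R M) : Set M) = ⨆ i ∈ J, Q i :=
    (A_span T).trans hTJ
  obtain ⟨P, hPcg, hdisj, hsup⟩ := exists_complement Q hind htop (sSup PP) (Submodule.span R T)
    I' J hI' hN' ⟨T, hT, rfl⟩
  have hxP : x ∈ sSup PP ⊔ P := by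
    rw [hsup]
    exact Submodule.mem_sup_right (Submodule.subset_span (hxT rfl))
  have hsSup : sSup (insert P PP) = sSup PP ⊔ P := by
    rw [sSup_insert, sup_comm]
  have hmem : insert P PP ∈ ZZ := by
    refine ⟨?_, ?_, I' ∪ J, ?_⟩
    · intro a ha
      rcases ha with rfl | ha
      · refine hdisj.symm.mono_right (sSup_le_sSup ?_)
        rintro b ⟨hb, hba⟩
        rcases hb with rfl | hb
        · exact absurd rfl hba
        · exact hb
      · by_cases haP : a = P
        · subst haP
          refine hdisj.symm.mono_right (sSup_le_sSup ?_)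
          rintro b ⟨hb, hba⟩
          rcases hb with rfl | hb
          · exact absurd rfl hba
          · exact hb
        · have h1 : sSup (insert P PP \ {a}) ≤ sSup (PP \ {a}) ⊔ P := by
            apply sSup_le
            rintro b ⟨hb, hba⟩
            rcases hb with rfl | hb
            · exact le_sup_right
            · exact le_sup_of_le_left (le_sSup ⟨hb, hba⟩)
          refine Disjoint.mono_right h1 ?_
          apply Disjoint.disjoint_sup_right_of_disjoint_sup_left (hindep ha)
          refine hdisj.mono_left ?_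
          exact sup_le (le_sSup ha) (sSup_le_sSup Set.diff_subset)
    · intro b hb
      rcases hb with rfl | hb
      · exact hPcg
      · exact hcg b hb
    · rw [hsSup, hsup, A_coe_sup, hI', hN', biSup_union']
  have hsub : insert P PP ⊆ PP := hmax hmem (Set.subset_insert P PP)
  have hPPP : P ≤ sSup PP := le_sSup (hsub (Set.mem_insert P PP))
  have hPbot : P = ⊥ := by
    rw [eq_bot_iff]
    exact (le_inf hPPP le_rfl).trans hdisj.le_bot
  rw [hPbot, sup_bot_eq] at hxP
  exact hx hxP

end adapted

end Groth.Agent.Lib.ProjDescentH3
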