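import Mathlib
import Groth.Agent.S0585

set_option autoImplicit false
set_option linter.unusedSimpArgs false
set_option linter.unusedVariables false
set_option linter.unusedSectionVars false
set_option linter.style.longLine false
set_option linter.style.haveILetI false
set_option linter.unnecessarySimpa false
set_option maxHeartbeats 1600000

/-!
# Projectivity is local for the Zariski topology (Raynaud–Gruson, Zariski case)

If `f₁, …, fₙ` generate the unit ideal of `A` and each `M_{fⱼ}` is projective over `A_{fⱼ}`, then `M`
is projective over `A`.  Deduced from faithfully flat descent of projectivity (S0585).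
-/

namespace Groth.Agent.Lib.ZariskiProj

universe u

open TensorProduct

section PiProj

variable {ι : Type u} [Fintype ι] [DecidableEq ι] (R : ι → Type u) [∀ j, CommRing (R j)]
  (P : ι → Type u) [∀ j, AddCommGroup (P j)] [∀ j, Module (R j) (P j)]

/-- A finite product of projective modules is projective over the product ring. -/
theorem pi_projective (h : ∀ j, Module.Projective (R j) (P j)) :
    Module.Projective (∀ j, R j) (∀ j, P j) := by
  apply Module.Projective.of_lifting_property''
  intro f hf
  have hs : ∀ j, ∃ s : P j →ₗ[R j] (P j →₀ R j),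
      Function.LeftInverse (Finsupp.linearCombination (R j) id) s := fun j =>
    (Module.projective_def.1 (h j))
  choose s hs using hs
  have hpre : ∀ j (x : P j), ∃ y, f y = Pi.single j x := fun j x => hf _
  choose g hg using hpre
  let F : ∀ j, P j → (R j →+ ((∀ j, P j) →₀ (∀ j, R j))) := fun j y =>
    { toFun := fun r => (Pi.single j r : ∀ j, R j) • g j y
      map_zero' := by rw [Pi.single_zero, zero_smul]
      map_add' := fun a b => by rw [Pi.single_add, add_smul] }
  let T : ∀ j, (P j →₀ R j) →+ ((∀ j, P j) →₀ (∀ j, R j)) := fun j => Finsupp.liftAddHom (F j)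
  have hT_single : ∀ j y r, T j (Finsupp.single y r) = (Pi.single j r : ∀ j, R j) • g j y := by
    intro j y r
    show Finsupp.liftAddHom (F j) (Finsupp.single y r) = _
    rw [Finsupp.liftAddHom_apply_single]
    rfl
  have hmul : ∀ j (c : ∀ j, R j) (r : R j), c * Pi.single j r = Pi.single j (c j * r) := by
    intro j c r
    funext k
    rw [Pi.mul_apply]
    by_cases hk : k = j
    · subst hk
      rw [Pi.single_eq_same, Pi.single_eq_same]
    · rw [Pi.single_eq_of_ne hk, Pi.single_eq_of_ne hk, mul_zero]
  have hT_smul : ∀ j (c : ∀ j, R j) (v : P j →₀ R j), T j (c j • v) = c • T j v := by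
    intro j c v
    induction v using Finsupp.induction_linear with
    | zero => rw [smul_zero, map_zero, smul_zero]
    | add v w hv hw => rw [smul_add, map_add, map_add, hv, hw, smul_add]
    | single y r =>
      rw [Finsupp.smul_single, hT_single, hT_single, smul_eq_mul, ← hmul, mul_smul]
  have hfT : ∀ j (v : P j →₀ R j),
      f (T j v) = Pi.single j (Finsupp.linearCombination (R j) id v) := by
    intro j v
    induction v using Finsupp.induction_linear with
    | zero => rw [map_zero, map_zero, map_zero, Pi.single_zero]
    | add v w hv hw => rw [map_add, map_add, hv, hw, map_add, Pi.single_add]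
    | single y r =>
      rw [hT_single, map_smul, hg, Finsupp.linearCombination_single, id]
      funext k
      rw [Pi.smul_apply']
      by_cases hk : k = j
      · subst hk
        rw [Pi.single_eq_same, Pi.single_eq_same, Pi.single_eq_same]
      · rw [Pi.single_eq_of_ne hk, Pi.single_eq_of_ne hk, Pi.single_eq_of_ne hk, smul_zero]
  let h' : (∀ j, P j) →ₗ[∀ j, R j] ((∀ j, P j) →₀ (∀ j, R j)) :=
    { toFun := fun p => ∑ j, T j (s j (p j))
      map_add' := fun p q => by
        simp only [Pi.add_apply, map_add, Finset.sum_add_distrib]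
      map_smul' := fun c p => by
        simp only [RingHom.id_apply, Finset.smul_sum]
        refine Finset.sum_congr rfl fun j _ => ?_
        rw [Pi.smul_apply', map_smul, hT_smul] }
  refine ⟨h', ?_⟩
  ext1 p
  show f (∑ j, T j (s j (p j))) = p
  rw [map_sum]
  have : ∀ j, f (T j (s j (p j))) = Pi.single j (p j) := fun j => by
    rw [hfT, hs j (p j)]
  simp only [this]
  exact Finset.univ_sum_single p

end PiProj

section Main

variable {A : Type u} [CommRing A] {ι : Type u} [Fintype ι] [DecidableEq ι] (f : ι → A)
  (hf : Ideal.span (Set.range f) = ⊤)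
  (B : ι → Type u) [∀ j, CommRing (B j)] [∀ j, Algebra A (B j)]
  [∀ j, IsLocalization.Away (f j) (B j)]

include hf in
theorem faithfullyFlat_pi : Module.FaithfullyFlat A (∀ j, B j) := by
  haveI : ∀ j, Module.Flat A (B j) := fun j => IsLocalization.flat (B j) (Submonoid.powers (f j))
  haveI : Module.Flat A (∀ j, B j) :=
    Module.Flat.of_linearEquiv (DFinsupp.linearEquivFunOnFintype (R := A) (M := B)).symm
  apply Module.FaithfullyFlat.of_comap_surjective
  intro p
  obtain ⟨j, hj⟩ : ∃ j, f j ∉ p.asIdeal := by
    by_contra hall
    push Not at hall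
    have : Ideal.span (Set.range f) ≤ p.asIdeal :=
      Ideal.span_le.2 (by rintro _ ⟨j, rfl⟩; exact hall j)
    rw [hf] at this
    exact p.isPrime.ne_top (top_le_iff.1 this)
  have hdisj : Disjoint (Submonoid.powers (f j) : Set A) p.asIdeal := by
    rw [Set.disjoint_left]
    rintro x ⟨n, rfl⟩ hx
    exact hj (p.isPrime.mem_of_pow_mem n hx)
  let q : Ideal (B j) := Ideal.map (algebraMap A (B j)) p.asIdeal
  have hq : q.IsPrime :=
    IsLocalization.isPrime_of_isPrime_disjoint (Submonoid.powers (f j)) (B j) _ p.isPrime hdisj
  have hqc : q.comap (algebraMap A (B j)) = p.asIdeal :=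
    IsLocalization.comap_map_of_isPrime_disjoint (Submonoid.powers (f j)) (B j) p.isPrime hdisj
  refine ⟨⟨q.comap (Pi.evalRingHom B j), inferInstance⟩, ?_⟩
  ext1
  rw [PrimeSpectrum.comap_asIdeal]
  show (q.comap (Pi.evalRingHom B j)).comap (algebraMap A (∀ j, B j)) = p.asIdeal
  rw [Ideal.comap_comap, ← hqc]
  rfl

variable (M : Type u) [AddCommGroup M] [Module A M]
  (N : ι → Type u) [∀ j, AddCommGroup (N j)] [∀ j, Module A (N j)] [∀ j, Module (B j) (N j)]
  [∀ j, IsScalarTower A (B j) (N j)]

include hf in
/-- **Zariski descent of projectivity.** -/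
theorem projective_of_localized
    (g : ∀ j, M →ₗ[A] N j) [∀ j, IsLocalizedModule (Submonoid.powers (f j)) (g j)]
    (hproj : ∀ j, Module.Projective (B j) (N j)) :
    Module.Projective A M := by
  haveI : Module.FaithfullyFlat A (∀ j, B j) := faithfullyFlat_pi f hf B
  haveI : IsScalarTower A (∀ j, B j) (∀ j, N j) := Pi.isScalarTower'
  let G : M →ₗ[A] (∀ j, N j) := LinearMap.pi g
  let Φ : (∀ j, B j) ⊗[A] M →ₗ[∀ j, B j] (∀ j, N j) := LinearMap.liftBaseChange (∀ j, B j) G
  have hbc : ∀ j, IsBaseChange (B j) (g j) := fun j =>
    IsLocalizedModule.isBaseChange (Submonoid.powers (f j)) (B j) (g j)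
  have hΦ_eq : ∀ z, Φ z = fun j => (hbc j).equiv (TensorProduct.piLeft A M B z j) := by
    intro z
    induction z using TensorProduct.induction_on with
    | zero =>
      funext j
      simp
    | tmul s m =>
      funext j
      have h1 : TensorProduct.piLeft A M B (s ⊗ₜ m) j = s j ⊗ₜ m := by
        simp [TensorProduct.piLeft]
      rw [h1, IsBaseChange.equiv_tmul]
      show (LinearMap.liftBaseChange (∀ j, B j) G (s ⊗ₜ m)) j = _
      rw [LinearMap.liftBaseChange_tmul, Pi.smul_apply']
      rfl
    | add x y hx hy =>
      rw [map_add, hx, hy]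
      funext j
      simp
  have hΦ : Function.Bijective Φ := by
    have h1 : (Φ : _ → _) = (fun v : ∀ j, B j ⊗[A] M => fun j => (hbc j).equiv (v j)) ∘
        (TensorProduct.piLeft A M B) := funext hΦ_eq
    rw [h1]
    refine Function.Bijective.comp ?_ (LinearEquiv.bijective _)
    constructor
    · intro v w hvw
      funext j
      exact (hbc j).equiv.injective (congrFun hvw j)
    · intro n
      exact ⟨fun j => (hbc j).equiv.symm (n j), by funext j; simp⟩
  haveI : Module.Projective (∀ j, B j) (∀ j, N j) := pi_projective B N hproj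
  haveI : Module.Projective (∀ j, B j) ((∀ j, B j) ⊗[A] M) :=
    Module.Projective.of_equiv' (LinearEquiv.ofBijective Φ hΦ).symm
  exact Groth.Agent.S0585.result A (∀ j, B j) M

end Main

end Groth.Agent.Lib.ZariskiProj
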