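import Mathlib
import Groth.Agent.Lib.ZariskiProj_lead

/-!
# Gluing retractions with a projective conormal module (helper4)

Algebraic core for "formally smooth affine-locally ⇒ formally smooth".

* `projective_of_local_lifts`: a module `Q` over `A₀` is projective as soon as, for a finite family
  `g_j` generating the unit ideal, the localisation map `Q → Q_{g_j}` lifts along the surjection
  `(Q →₀ A₀)_{g_j} → Q_{g_j}` (uses Zariski descent of projectivity, `ZariskiProj_lead`).
* `exists_section_of_projective`: a surjection of `I`-torsion `A`-modules onto a module which is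
  projective over `A ⧸ I` has an `A`-linear section.
-/

set_option autoImplicit false
universe u

namespace Groth.Agent.Lib.FSmGlueH4

open LocalizedModule

section ModuleTheory

variable {A₀ : Type u} [CommRing A₀] (Q : Type u) [AddCommGroup Q] [Module A₀ Q]

/-- Projectivity from chartwise lifts of the localisation maps. -/
theorem projective_of_local_lifts {ι : Type u} [Fintype ι] [DecidableEq ι] (g : ι → A₀)
    (hg : Ideal.span (Set.range g) = ⊤)
    (h : ∀ j, ∃ φ : Q →ₗ[A₀] LocalizedModule (Submonoid.powers (g j)) (Q →₀ A₀),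
      ∀ q, IsLocalizedModule.map (Submonoid.powers (g j))
        (mkLinearMap (Submonoid.powers (g j)) (Q →₀ A₀)) (mkLinearMap (Submonoid.powers (g j)) Q)
        (Finsupp.linearCombination A₀ (id : Q → Q)) (φ q) =
          mkLinearMap (Submonoid.powers (g j)) Q q) :
    Module.Projective A₀ Q := by
  refine Groth.Agent.Lib.ZariskiProj.projective_of_localized g hg
    (fun j => Localization (Submonoid.powers (g j))) Q
    (fun j => LocalizedModule (Submonoid.powers (g j)) Q)
    (fun j => mkLinearMap (Submonoid.powers (g j)) Q) ?_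
  intro j
  obtain ⟨φ, hφ⟩ := h j
  let S := Submonoid.powers (g j)
  let lc : (Q →₀ A₀) →ₗ[A₀] Q := Finsupp.linearCombination A₀ (id : Q → Q)
  let π₀ : LocalizedModule S (Q →₀ A₀) →ₗ[A₀] LocalizedModule S Q :=
    IsLocalizedModule.map S (mkLinearMap S (Q →₀ A₀)) (mkLinearMap S Q) lc
  let π : LocalizedModule S (Q →₀ A₀) →ₗ[Localization S] LocalizedModule S Q :=
    LinearMap.extendScalarsOfIsLocalization S (Localization S) π₀
  have hunit : ∀ x : S, IsUnit (algebraMap A₀ (Module.End A₀ (LocalizedModule S (Q →₀ A₀))) x) :=
    IsLocalizedModule.map_units (mkLinearMap S (Q →₀ A₀))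
  let φ' : LocalizedModule S Q →ₗ[A₀] LocalizedModule S (Q →₀ A₀) :=
    IsLocalizedModule.lift S (mkLinearMap S Q) φ hunit
  let φ'' : LocalizedModule S Q →ₗ[Localization S] LocalizedModule S (Q →₀ A₀) :=
    LinearMap.extendScalarsOfIsLocalization S (Localization S) φ'
  have hφ' : φ' ∘ₗ mkLinearMap S Q = φ := IsLocalizedModule.lift_comp S (mkLinearMap S Q) φ hunit
  have hcomp : π₀ ∘ₗ φ' = LinearMap.id := by
    refine IsLocalizedModule.linearMap_ext S (mkLinearMap S Q) (mkLinearMap S Q) ?_
    ext q
    have h1 : φ' (mkLinearMap S Q q) = φ q := LinearMap.congr_fun hφ' q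
    simp only [LinearMap.coe_comp, Function.comp_apply, LinearMap.id_coe, id_eq]
    rw [h1]
    exact hφ q
  refine Module.Projective.of_split φ'' π ?_
  ext x
  exact LinearMap.congr_fun hcomp x

end ModuleTheory

section Section

variable {A : Type u} [CommRing A] (I : Ideal A) {J Q : Type u} [AddCommGroup J] [Module A J]
  [AddCommGroup Q] [Module A Q]

/-- A surjection of `I`-torsion modules onto an `A ⧸ I`-projective module splits `A`-linearly. -/
theorem exists_section_of_projective (hJ : Module.IsTorsionBySet A J (I : Set A))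
    (hQ : Module.IsTorsionBySet A Q (I : Set A))
    (hproj : @Module.Projective (A ⧸ I) _ Q _ hQ.module)
    (π : J →ₗ[A] Q) (hπ : Function.Surjective π) :
    ∃ s : Q →ₗ[A] J, ∀ q, π (s q) = q := by
  letI := hJ.module
  letI := hQ.module
  have hsurj : Function.Surjective (algebraMap A (A ⧸ I)) := Ideal.Quotient.mk_surjective
  let π' : J →ₗ[A ⧸ I] Q := π.extendScalarsOfSurjective hsurj
  obtain ⟨s', hs'⟩ := Module.projective_lifting_property π' (LinearMap.id : Q →ₗ[A ⧸ I] Q) hπ
  exact ⟨s'.restrictScalars A, fun q => LinearMap.congr_fun hs' q⟩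

end Section

end Groth.Agent.Lib.FSmGlueH4
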