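import Mathlib
import Groth.Agent.Lib.FSmGlue1_helper4

/-!
# Gluing retractions with a projective conormal module, II (helper4)

`A → C → A/I` with `I² = 0`, `J = ker(C → A/I)`, `J² = 0`.  The module `Qm = C/(A·1) ≅ J/I`.

* `retraction_of_projective`: if `A → C` is injective and `Qm` is projective over `A/I`, then there is
  an `A`-algebra retraction `C → A` compatible with the augmentation.
-/

set_option autoImplicit false
universe u

namespace Groth.Agent.Lib.FSmGlueH4

variable (A C : Type u) [CommRing A] [CommRing C] [Algebra A C]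

/-- The submodule `A · 1` of `C`. -/
abbrev N1 : Submodule A C := LinearMap.range (Algebra.linearMap A C)

/-- `C / A·1`. -/
abbrev Qm : Type u := C ⧸ N1 A C

/-- The quotient map `C → C/A·1`. -/
abbrev dq : C →ₗ[A] Qm A C := (N1 A C).mkQ

variable {A C} (I : Ideal A) (ε : C →ₐ[A] A ⧸ I)

theorem eps_algebraMap (a : A) : ε (algebraMap A C a) = Ideal.Quotient.mk I a := ε.commutes a

theorem eps_algebraMap_of_mem {x : A} (hx : x ∈ I) : ε (algebraMap A C x) = 0 := by
  rw [eps_algebraMap]; exact Ideal.Quotient.eq_zero_iff_mem.2 hx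

theorem exists_sub_mem_ker (c : C) : ∃ a : A, ε (c - algebraMap A C a) = 0 := by
  obtain ⟨a, ha⟩ := Ideal.Quotient.mk_surjective (ε c)
  exact ⟨a, by rw [map_sub, eps_algebraMap, ha, sub_self]⟩

theorem dq_algebraMap (a : A) : dq A C (algebraMap A C a) = 0 := by
  rw [Submodule.mkQ_apply, Submodule.Quotient.mk_eq_zero]
  exact ⟨a, rfl⟩

variable (hJ : ∀ x y : C, ε x = 0 → ε y = 0 → x * y = 0)

include hJ in
theorem torsQ : Module.IsTorsionBySet A (Qm A C) (I : Set A) := by
  intro q x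
  obtain ⟨c, rfl⟩ := Submodule.mkQ_surjective _ q
  obtain ⟨a, ha⟩ := exists_sub_mem_ker I ε c
  have h0 : algebraMap A C (x : A) * (c - algebraMap A C a) = 0 :=
    hJ _ _ (eps_algebraMap_of_mem I ε x.2) ha
  rw [← map_smul, Submodule.mkQ_apply, Submodule.Quotient.mk_eq_zero]
  refine ⟨(x : A) * a, ?_⟩
  rw [Algebra.linearMap_apply, map_mul, Algebra.smul_def]
  linear_combination -h0

/-- The kernel of the augmentation, as an `A`-submodule. -/
abbrev Jε : Submodule A C := LinearMap.ker ε.toLinearMap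

theorem mem_Jε {c : C} : c ∈ Jε I ε ↔ ε c = 0 := LinearMap.mem_ker

include hJ in
theorem torsJ : Module.IsTorsionBySet A (Jε I ε) (I : Set A) := by
  intro j x
  apply Subtype.ext
  rw [Submodule.coe_smul, Submodule.coe_zero, Algebra.smul_def]
  exact hJ _ _ (eps_algebraMap_of_mem I ε x.2) ((mem_Jε I ε).1 j.2)

/-- The surjection `J → C/A·1`. -/
abbrev πJ : Jε I ε →ₗ[A] Qm A C := dq A C ∘ₗ (Jε I ε).subtype

theorem πJ_surjective : Function.Surjective (πJ I ε) := by
  intro q
  obtain ⟨c, rfl⟩ := Submodule.mkQ_surjective _ q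
  obtain ⟨a, ha⟩ := exists_sub_mem_ker I ε c
  refine ⟨⟨c - algebraMap A C a, (mem_Jε I ε).2 ha⟩, ?_⟩
  show dq A C (c - algebraMap A C a) = dq A C c
  rw [map_sub, dq_algebraMap, sub_zero]

/-- The `A ⧸ I`-module structure on `C/A·1`. -/
@[reducible] def qmModule : Module (A ⧸ I) (Qm A C) := (torsQ I ε hJ).module

include hJ in
theorem dq_mul (c c' : C) (a a' : A) (ha : ε (c - algebraMap A C a) = 0)
    (ha' : ε (c' - algebraMap A C a') = 0) :
    dq A C (c * c') = a • dq A C c' + a' • dq A C c := by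
  have h0 : (c - algebraMap A C a) * (c' - algebraMap A C a') = 0 := hJ _ _ ha ha'
  have h1 : c * c' = a • c' + a' • c - algebraMap A C (a * a') := by
    rw [Algebra.smul_def, Algebra.smul_def, map_mul]
    linear_combination h0
  rw [h1, map_sub, map_add, map_smul, map_smul, dq_algebraMap, sub_zero]

/-- **Retraction from projectivity.** -/
theorem retraction_of_projective (hinj : Function.Injective (algebraMap A C))
    (hproj : @Module.Projective (A ⧸ I) _ (Qm A C) _ (qmModule I ε hJ)) :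
    ∃ ρ : C →ₐ[A] A, ∀ c, Ideal.Quotient.mk I (ρ c) = ε c := by
  obtain ⟨s, hs⟩ := exists_section_of_projective I (torsJ I ε hJ) (torsQ I ε hJ) hproj (πJ I ε)
    (πJ_surjective I ε)
  have hs' : ∀ q, dq A C ((s q : C)) = q := hs
  have hsε : ∀ q, ε (s q : C) = 0 := fun q => (mem_Jε I ε).1 (s q).2
  let Θ : C →ₗ[A] C := LinearMap.id - ((Jε I ε).subtype ∘ₗ s ∘ₗ dq A C)
  have hΘ : ∀ c, Θ c = c - (s (dq A C c) : C) := fun c => rfl
  have hΘmem : ∀ c, Θ c ∈ N1 A C := by
    intro c
    rw [← Submodule.Quotient.mk_eq_zero, ← Submodule.mkQ_apply, hΘ, map_sub]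
    rw [hs' (dq A C c), sub_self]
  have hinj' : Function.Injective (Algebra.linearMap A C) := hinj
  let e := LinearEquiv.ofInjective (Algebra.linearMap A C) hinj'
  let ρ₀ : C →ₗ[A] A := e.symm.toLinearMap ∘ₗ (Θ.codRestrict (N1 A C) hΘmem)
  have hρ₀ : ∀ c, algebraMap A C (ρ₀ c) = Θ c := by
    intro c
    have h1 : e (ρ₀ c) = ⟨Θ c, hΘmem c⟩ := e.apply_symm_apply _
    exact congrArg Subtype.val h1
  have hone : ρ₀ 1 = 1 := by
    apply hinj
    have h1 : dq A C (1 : C) = 0 := by
      have := dq_algebraMap (A := A) (C := C) 1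
      rwa [(algebraMap A C).map_one] at this
    rw [hρ₀, hΘ, h1, map_zero, Submodule.coe_zero, sub_zero, (algebraMap A C).map_one]
  have hmul : ∀ c c', ρ₀ (c * c') = ρ₀ c * ρ₀ c' := by
    intro c c'
    apply hinj
    rw [(algebraMap A C).map_mul, hρ₀, hρ₀, hρ₀, hΘ, hΘ, hΘ]
    obtain ⟨a, ha⟩ := exists_sub_mem_ker I ε c
    obtain ⟨a', ha'⟩ := exists_sub_mem_ker I ε c'
    have h1 : (c - algebraMap A C a) * (s (dq A C c') : C) = 0 := hJ _ _ ha (hsε _)
    have h2 : (c' - algebraMap A C a') * (s (dq A C c) : C) = 0 := hJ _ _ ha' (hsε _)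
    have h3 : (s (dq A C c) : C) * (s (dq A C c') : C) = 0 := hJ _ _ (hsε _) (hsε _)
    have h4 : (s (dq A C (c * c')) : C) =
        algebraMap A C a * (s (dq A C c') : C) + algebraMap A C a' * (s (dq A C c) : C) := by
      rw [dq_mul I ε hJ c c' a a' ha ha', map_add, map_smul, map_smul, Submodule.coe_add,
        Submodule.coe_smul, Submodule.coe_smul, Algebra.smul_def, Algebra.smul_def]
    rw [h4]
    linear_combination h1 + h2 - h3
  refine ⟨AlgHom.ofLinearMap ρ₀ hone hmul, fun c => ?_⟩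
  show Ideal.Quotient.mk I (ρ₀ c) = ε c
  rw [← eps_algebraMap I ε, hρ₀, hΘ, map_sub, hsε, sub_zero]

end Groth.Agent.Lib.FSmGlueH4
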