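import Mathlib
import Groth.Agent.Lib.FSmGlue2_helper4

/-!
# Gluing retractions with a projective conormal module, III (helper4)

The chartwise lifting property `LP` of the augmented algebra `C` and the projectivity of
`Qm = C/(A·1)` over `A/I` that it implies.
-/

set_option autoImplicit false
set_option linter.style.haveILetI false
universe u

namespace Groth.Agent.Lib.FSmGlueH4

open TrivSqZeroExt

variable {A C : Type u} [CommRing A] [CommRing C] [Algebra A C] (I : Ideal A) (ε : C →ₐ[A] A ⧸ I)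

/-- The lifting property of the augmented `A`-algebra `C` over the locus where `g` is invertible:
`A`-algebra maps `C → E'` compatible with the augmentation lift along square-zero surjections
`E → E'` of `A`-algebras in which `g` is invertible. -/
def LP (g : A) : Prop :=
  ∀ (E E' : Type u) [CommRing E] [CommRing E'] [Algebra A E] [Algebra A E'] (q : E →ₐ[A] E'),
    Function.Surjective q → ∀ K' : Ideal E, (∀ x ∈ K', ∀ y ∈ K', x * y = 0) →
    RingHom.ker q.toRingHom ≤ K' → IsUnit (algebraMap A E g) →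
    ∀ ψ₀ : C →ₐ[A] E', (∀ c, ε c = 0 → ψ₀ c ∈ K'.map q.toRingHom) →
      ∃ ψ : C →ₐ[A] E, ∀ c, q (ψ c) = ψ₀ c

variable (hJ : ∀ x y : C, ε x = 0 → ε y = 0 → x * y = 0)

include hJ in
theorem dq_mul' (c c' : C) :
    letI := qmModule I ε hJ
    dq A C (c * c') = ε c • dq A C c' + ε c' • dq A C c := by
  letI := qmModule I ε hJ
  obtain ⟨a, ha⟩ := exists_sub_mem_ker I ε c
  obtain ⟨a', ha'⟩ := exists_sub_mem_ker I ε c'
  have e1 : ε c = Ideal.Quotient.mk I a := by
    rw [map_sub, sub_eq_zero] at ha; rw [ha, eps_algebraMap]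
  have e2 : ε c' = Ideal.Quotient.mk I a' := by
    rw [map_sub, sub_eq_zero] at ha'; rw [ha', eps_algebraMap]
  rw [dq_mul I ε hJ c c' a a' ha ha', e1, e2]
  rfl

set_option maxHeartbeats 1600000 in
/-- Lifting maps out of `Qm` along surjections of modules over a ring where `g` is invertible. -/
theorem exists_lift_of_LP (g : A) (h : LP I ε g)
    (R₀ : Type u) [CommRing R₀] [Algebra (A ⧸ I) R₀]
    (hunit : IsUnit (algebraMap (A ⧸ I) R₀ (Ideal.Quotient.mk I g)))
    (M N : Type u) [AddCommGroup M] [AddCommGroup N] [Module R₀ M] [Module R₀ N]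
    [Module (A ⧸ I) M] [Module (A ⧸ I) N] [IsScalarTower (A ⧸ I) R₀ M]
    [IsScalarTower (A ⧸ I) R₀ N] (π : M →ₗ[R₀] N) (hπ : Function.Surjective π) :
    letI := qmModule I ε hJ
    ∀ φN : Qm A C →ₗ[A ⧸ I] N, ∃ φM : Qm A C →ₗ[A ⧸ I] M, ∀ x, π (φM x) = φN x := by
  letI := qmModule I ε hJ
  intro φN
  letI opM : Module R₀ᵐᵒᵖ M := Module.compHom M ((RingHom.id R₀).fromOpposite mul_comm)
  haveI : IsCentralScalar R₀ M := ⟨fun _ _ => rfl⟩
  letI opN : Module R₀ᵐᵒᵖ N := Module.compHom N ((RingHom.id R₀).fromOpposite mul_comm)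
  haveI : IsCentralScalar R₀ N := ⟨fun _ _ => rfl⟩
  let ιA : A →+* R₀ := (algebraMap (A ⧸ I) R₀).comp (Ideal.Quotient.mk I)
  letI algE : Algebra A (TrivSqZeroExt R₀ M) := ((inlHom R₀ M).comp ιA).toAlgebra
  letI algE' : Algebra A (TrivSqZeroExt R₀ N) := ((inlHom R₀ N).comp ιA).toAlgebra
  have hAE : ∀ a : A, algebraMap A (TrivSqZeroExt R₀ M) a = inl (ιA a) := fun a => rfl
  have hAE' : ∀ a : A, algebraMap A (TrivSqZeroExt R₀ N) a = inl (ιA a) := fun a => rfl
  let q : TrivSqZeroExt R₀ M →ₐ[A] TrivSqZeroExt R₀ N :=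
    { (TrivSqZeroExt.map π).toRingHom with
      commutes' := fun a => by
        show TrivSqZeroExt.map π (inl (ιA a)) = inl (ιA a)
        exact map_inl π _ }
  have hq : ∀ x, q x = TrivSqZeroExt.map π x := fun x => rfl
  have hqsurj : Function.Surjective q := by
    intro y
    obtain ⟨m, hm⟩ := hπ (snd y)
    refine ⟨inl (fst y) + inr m, ?_⟩
    rw [hq]
    refine TrivSqZeroExt.ext ?_ ?_
    · rw [fst_map]; simp
    · rw [snd_map]; simp [hm]
  let K' : Ideal (TrivSqZeroExt R₀ M) := RingHom.ker (fstHom R₀ R₀ M).toRingHom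
  have hK'mem : ∀ x : TrivSqZeroExt R₀ M, x ∈ K' ↔ fst x = 0 := fun x => Iff.rfl
  have hK'sq : ∀ x ∈ K', ∀ y ∈ K', x * y = 0 := by
    intro x hx y hy
    rw [hK'mem] at hx hy
    refine TrivSqZeroExt.ext ?_ ?_
    · rw [fst_mul, hx, zero_mul, fst_zero]
    · rw [snd_mul, hx, hy, zero_smul, MulOpposite.op_zero, zero_smul, add_zero, snd_zero]
  have hkerq : RingHom.ker q.toRingHom ≤ K' := by
    intro x hx
    rw [hK'mem]
    have h1 : q x = 0 := hx
    rw [hq] at h1
    have h2 := congrArg fst h1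
    rwa [fst_map, fst_zero] at h2
  have hgE : IsUnit (algebraMap A (TrivSqZeroExt R₀ M) g) := by
    rw [hAE]
    exact hunit.map (inlHom R₀ M)
  -- the map ψ₀
  let ψ₀ : C →ₐ[A] TrivSqZeroExt R₀ N :=
    { toFun := fun c => inl (algebraMap (A ⧸ I) R₀ (ε c)) + inr (φN (dq A C c))
      map_one' := by
        have h1 : dq A C (1 : C) = 0 := by
          have := dq_algebraMap (A := A) (C := C) 1
          rwa [(algebraMap A C).map_one] at this
        rw [map_one, map_one, h1, map_zero, inr_zero, add_zero, inl_one]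
      map_mul' := fun c c' => by
        rw [dq_mul' I ε hJ c c', map_mul, map_mul, map_add, map_smul, map_smul]
        refine TrivSqZeroExt.ext ?_ ?_
        · simp
        · simp only [snd_add, snd_inl, snd_inr, zero_add, snd_mul, fst_add, fst_inl, fst_inr,
            add_zero, smul_add, smul_zero, MulOpposite.smul_eq_mul_unop, op_smul_eq_smul,
            algebraMap_smul]
      map_zero' := by
        rw [map_zero, map_zero, map_zero, map_zero, inl_zero, inr_zero, add_zero]
      map_add' := fun c c' => by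
        rw [map_add, map_add, map_add, map_add, inl_add, inr_add]
        abel
      commutes' := fun a => by
        rw [hAE', dq_algebraMap, map_zero, inr_zero, add_zero, eps_algebraMap]
        rfl }
  have hψ₀ : ∀ c, ψ₀ c = inl (algebraMap (A ⧸ I) R₀ (ε c)) + inr (φN (dq A C c)) := fun c => rfl
  have hψ₀K : ∀ c, ε c = 0 → ψ₀ c ∈ K'.map q.toRingHom := by
    intro c hc
    obtain ⟨m, hm⟩ := hπ (φN (dq A C c))
    have h1 : (inr m : TrivSqZeroExt R₀ M) ∈ K' := by rw [hK'mem, fst_inr]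
    have h2 := Ideal.mem_map_of_mem q.toRingHom h1
    have h3 : q.toRingHom (inr m) = ψ₀ c := by
      show q (inr m) = ψ₀ c
      rw [hq, map_inr, hm, hψ₀, hc, map_zero, inl_zero, zero_add]
    rwa [h3] at h2
  obtain ⟨ψ, hψ⟩ := h (TrivSqZeroExt R₀ M) (TrivSqZeroExt R₀ N) q hqsurj K' hK'sq hkerq hgE ψ₀ hψ₀K
  -- the A-module structure on M through A ⧸ I
  letI mAM : Module A M := Module.compHom M (Ideal.Quotient.mk I)
  haveI : IsScalarTower A (A ⧸ I) M := ⟨fun a b m => by
    show (a • b) • m = Ideal.Quotient.mk I a • (b • m)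
    rw [Algebra.smul_def, mul_smul]
    rfl⟩
  let φ₀ : C →ₗ[A] M :=
    { toFun := fun c => snd (ψ c)
      map_add' := fun c c' => by rw [map_add, snd_add]
      map_smul' := fun a c => by
        rw [map_smul, Algebra.smul_def, hAE, snd_mul, fst_inl, snd_inl, smul_zero, add_zero]
        show algebraMap (A ⧸ I) R₀ (Ideal.Quotient.mk I a) • snd (ψ c) = _
        rw [algebraMap_smul]
        rfl }
  have hφ₀ : ∀ c, φ₀ c = snd (ψ c) := fun c => rfl
  have hker : N1 A C ≤ LinearMap.ker φ₀ := by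
    rintro _ ⟨a, rfl⟩
    rw [LinearMap.mem_ker, hφ₀, Algebra.linearMap_apply, ψ.commutes, hAE, snd_inl]
  let φ₁ : Qm A C →ₗ[A] M := (N1 A C).liftQ φ₀ hker
  refine ⟨φ₁.extendScalarsOfSurjective Ideal.Quotient.mk_surjective, fun x => ?_⟩
  obtain ⟨c, rfl⟩ := Submodule.mkQ_surjective _ x
  show π (φ₁ ((N1 A C).mkQ c)) = φN (dq A C c)
  have h0 : φ₁ ((N1 A C).mkQ c) = φ₀ c := Submodule.liftQ_apply _ _ _
  rw [h0, hφ₀]
  have h1 := congrArg snd (hψ c)
  rw [hq, snd_map, hψ₀, snd_add, snd_inl, snd_inr, zero_add] at h1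
  exact h1

end Groth.Agent.Lib.FSmGlueH4
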