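import Mathlib
import Groth.Agent.Lib.FSmGlue3_helper4

/-!
# Gluing retractions with a projective conormal module, IV (helper4)

* `projective_Qm`: the chartwise lifting property implies that `C/(A·1)` is projective over `A/I`.
* `alg_core'`: `A → C → A/I` with `ker(C → A/I)² = 0`; if Zariski-locally on `A` there are
  `A`-algebra maps `C → A_g` and the chartwise lifting property `LP` holds, then there is a global
  `A`-algebra retraction `C → A` compatible with the augmentation.
-/

set_option autoImplicit false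
set_option linter.style.haveILetI false
universe u

namespace Groth.Agent.Lib.FSmGlueH4

open LocalizedModule

variable {A C : Type u} [CommRing A] [CommRing C] [Algebra A C] (I : Ideal A) (ε : C →ₐ[A] A ⧸ I)
  (hJ : ∀ x y : C, ε x = 0 → ε y = 0 → x * y = 0)

include hJ in
theorem local_lift (g : A) (h : LP I ε g) :
    letI := qmModule I ε hJ
    ∃ φ : Qm A C →ₗ[A ⧸ I]
        LocalizedModule (Submonoid.powers (Ideal.Quotient.mk I g)) (Qm A C →₀ A ⧸ I),
      ∀ q, IsLocalizedModule.map (Submonoid.powers (Ideal.Quotient.mk I g))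
        (mkLinearMap (Submonoid.powers (Ideal.Quotient.mk I g)) (Qm A C →₀ A ⧸ I))
        (mkLinearMap (Submonoid.powers (Ideal.Quotient.mk I g)) (Qm A C))
        (Finsupp.linearCombination (A ⧸ I) (id : Qm A C → Qm A C)) (φ q) =
          mkLinearMap (Submonoid.powers (Ideal.Quotient.mk I g)) (Qm A C) q := by
  letI := qmModule I ε hJ
  let S := Submonoid.powers (Ideal.Quotient.mk I g)
  let lc : (Qm A C →₀ A ⧸ I) →ₗ[A ⧸ I] Qm A C :=
    Finsupp.linearCombination (A ⧸ I) (id : Qm A C → Qm A C)
  have hlc : Function.Surjective lc := Finsupp.linearCombination_id_surjective (A ⧸ I) (Qm A C)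
  let π₀ : LocalizedModule S (Qm A C →₀ A ⧸ I) →ₗ[A ⧸ I] LocalizedModule S (Qm A C) :=
    IsLocalizedModule.map S (mkLinearMap S (Qm A C →₀ A ⧸ I)) (mkLinearMap S (Qm A C)) lc
  have hπ₀ : Function.Surjective π₀ :=
    IsLocalizedModule.map_surjective S (mkLinearMap S (Qm A C →₀ A ⧸ I))
      (mkLinearMap S (Qm A C)) lc hlc
  let π : LocalizedModule S (Qm A C →₀ A ⧸ I) →ₗ[Localization S] LocalizedModule S (Qm A C) :=
    LinearMap.extendScalarsOfIsLocalization S (Localization S) π₀
  have hunit : IsUnit (algebraMap (A ⧸ I) (Localization S) (Ideal.Quotient.mk I g)) :=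
    IsLocalization.map_units (Localization S)
      (⟨Ideal.Quotient.mk I g, Submonoid.mem_powers _⟩ : S)
  obtain ⟨φM, hφM⟩ := exists_lift_of_LP I ε hJ g h (Localization S) hunit
    (LocalizedModule S (Qm A C →₀ A ⧸ I)) (LocalizedModule S (Qm A C)) π hπ₀
    (mkLinearMap S (Qm A C))
  exact ⟨φM, hφM⟩

include hJ in
/-- The chartwise lifting property implies projectivity of `C/(A·1)` over `A/I`. -/
theorem projective_Qm {ι : Type u} [Fintype ι] [DecidableEq ι] (g : ι → A)
    (hg : Ideal.span (Set.range g) = ⊤) (hLP : ∀ j, LP I ε (g j)) :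
    @Module.Projective (A ⧸ I) _ (Qm A C) _ (qmModule I ε hJ) := by
  letI := qmModule I ε hJ
  refine projective_of_local_lifts (Qm A C) (fun j => Ideal.Quotient.mk I (g j)) ?_ ?_
  · have h1 : Ideal.map (Ideal.Quotient.mk I) (Ideal.span (Set.range g)) = ⊤ := by
      rw [hg, Ideal.map_top]
    rw [Ideal.map_span, ← Set.range_comp] at h1
    exact h1
  · intro j
    exact local_lift I ε hJ (g j) (hLP j)

include hJ in
/-- **Algebraic core**: local retractions and the chartwise lifting property give a global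
retraction. -/
theorem alg_core' (G : Set A) (hG : Ideal.span G = ⊤)
    (hloc : ∀ g ∈ G, ∃ (Ag : Type u) (_ : CommRing Ag) (_ : Algebra A Ag),
      IsLocalization.Away g Ag ∧ Nonempty (C →ₐ[A] Ag))
    (hLP : ∀ g ∈ G, LP I ε g) :
    ∃ ρ : C →ₐ[A] A, ∀ c, Ideal.Quotient.mk I (ρ c) = ε c := by
  classical
  have hinj : Function.Injective (algebraMap A C) := by
    rw [injective_iff_map_eq_zero]
    intro x hx
    have : x ∈ (⊥ : Submodule A A) := by
      refine Submodule.mem_of_span_eq_top_of_smul_pow_mem _ G hG x ?_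
      rintro ⟨g, hg⟩
      obtain ⟨Ag, _, _, hloc', ⟨ρ⟩⟩ := hloc g hg
      have := hloc'
      have h0 : algebraMap A Ag x = 0 := by rw [← ρ.commutes, hx, map_zero]
      obtain ⟨⟨_, N, rfl⟩, hN⟩ :=
        (IsLocalization.map_eq_zero_iff (Submonoid.powers g) Ag x).1 h0
      exact ⟨N, by simpa using hN⟩
    simpa using this
  obtain ⟨s', hs'G, hs'⟩ := (Ideal.span_eq_top_iff_finite G).1 hG
  have hproj := projective_Qm I ε hJ (fun j : (s' : Set A) => (j : A))
    (by rw [Subtype.range_coe]; exact hs') (fun j => hLP _ (hs'G j.2))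
  exact retraction_of_projective I ε hJ hinj hproj

end Groth.Agent.Lib.FSmGlueH4
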