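import Mathlib
import Groth.Prelude.Def_MoreMor
import Groth.Agent.Lib.GLiftGeom_helper7
import Groth.Agent.Lib.UnivThickSch2_helper7
import Groth.Agent.Lib.FSmGlue4_helper4

/-!
# Local lifts glue without finite presentation, geometric part I (helper4)

In the setting of helper7's `GLiftGeom` (a section `σ₀ : T₀ ⟶ X` of `p : X ⟶ T` over a first order
thickening `i : T₀ ⟶ T` of affine schemes, `W` the first order neighbourhood of `σ₀`, an affine
scheme), the geometric lifting property `GeomLift` near an open `D₀` of `T₀` implies the algebraic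
lifting property `LP` of `Γ(W)` over `Γ(T)` for every `g` with `D(g) ∩ T₀ ⊆ D₀`.
-/

set_option autoImplicit false
set_option linter.style.haveILetI false
universe u
open CategoryTheory CategoryTheory.Limits AlgebraicGeometry

namespace Groth.Agent.Lib.FSmGlueH4

open Groth.Agent.Lib.Thickening4_helper7 Groth.Agent.Lib.Thickening_helper7
  Groth.Agent.Lib.UnivThickSch1_helper7 Groth.Agent.Lib.UnivThickSch2_helper7
  Groth.Agent.Lib.FormalEtale_helper7 Groth.Agent.Lib.GLiftGeomH7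

/-- The identification `Γ(Spec R, ⊤) ≅ R`. -/
noncomputable abbrev γ (R : Type u) [CommRing R] : Γ(Spec (CommRingCat.of R), ⊤) →+* R :=
  (Scheme.ΓSpecIso (CommRingCat.of R)).hom.hom

theorem γ_bijective (R : Type u) [CommRing R] : Function.Bijective (γ R) :=
  ConcreteCategory.bijective_of_isIso (Scheme.ΓSpecIso (CommRingCat.of R)).hom

theorem γ_specMap {R S : Type u} [CommRing R] [CommRing S] (f : R →+* S)
    (x : Γ(Spec (CommRingCat.of R), ⊤)) :
    γ S ((Spec.map (CommRingCat.ofHom f)).appTop.hom x) = f (γ R x) := by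
  have h := Scheme.ΓSpecIso_naturality (CommRingCat.ofHom f)
  exact congrArg (fun φ => φ.hom x) h

/-- Morphisms from `Spec R` to an affine scheme from ring maps. -/
theorem exists_spec_hom {Y : Scheme.{u}} [IsAffine Y] {R : Type u} [CommRing R]
    (φ : Γ(Y, ⊤) →+* R) :
    ∃ g : Spec (CommRingCat.of R) ⟶ Y, ∀ y, γ R (g.appTop.hom y) = φ y := by
  obtain ⟨g, hg⟩ := exists_hom_appTop' (Y := Spec (CommRingCat.of R)) (T := Y)
    (CommRingCat.ofHom φ ≫ (Scheme.ΓSpecIso (CommRingCat.of R)).inv)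
  refine ⟨g, fun y => ?_⟩
  rw [hg]
  show (Scheme.ΓSpecIso (CommRingCat.of R)).hom.hom
    ((Scheme.ΓSpecIso (CommRingCat.of R)).inv.hom (φ y)) = φ y
  have h := (Scheme.ΓSpecIso (CommRingCat.of R)).inv_hom_id
  exact congrArg (fun ψ => ψ.hom (φ y)) h

/-- The geometric lifting property of `p : X ⟶ T` near the image of the open `D₀` of `T₀`. -/
def GeomLift {X T₀ T : Scheme.{u}} (σ₀ : T₀ ⟶ X) (p : X ⟶ T) (D₀ : T₀.Opens) : Prop :=
  ∀ (E E' : Type u) [CommRing E] [CommRing E'] (q : E →+* E'), Function.Surjective q →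
    RingHom.ker q ^ 2 = ⊥ →
    ∀ (u₀ : Spec (CommRingCat.of E') ⟶ X) (v : Spec (CommRingCat.of E) ⟶ T),
      u₀ ≫ p = Spec.map (CommRingCat.ofHom q) ≫ v →
      Set.range u₀ ⊆ σ₀ '' (D₀ : Set T₀) →
      ∃ u : Spec (CommRingCat.of E) ⟶ X, Spec.map (CommRingCat.ofHom q) ≫ u = u₀ ∧ u ≫ p = v

section Setup

variable {X T₀ : Scheme.{u}} (σ₀ : T₀ ⟶ X) [IsImmersion σ₀]

set_option maxHeartbeats 3200000 in
theorem LP_of_geomLift {T : Scheme.{u}} [IsAffine T] [IsAffine T₀] (p : X ⟶ T) (i : T₀ ⟶ T)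
    (hi : MoreMor.IsFirstOrderThickening i) (hσ : σ₀ ≫ p = i) [IsAffine (W σ₀)]
    [Algebra Γ(T, ⊤) Γ(W σ₀, ⊤)]
    (halg : algebraMap Γ(T, ⊤) Γ(W σ₀, ⊤) = (om σ₀ ≫ σ₀.coborderRange.ι ≫ p).appTop.hom)
    (ε : Γ(W σ₀, ⊤) →ₐ[Γ(T, ⊤)] Γ(T, ⊤) ⧸ RingHom.ker i.appTop.hom)
    (hε0 : ∀ c, ε c = 0 ↔ (ta σ₀).appTop.hom c = 0)
    (g : Γ(T, ⊤)) (D₀ : T₀.Opens) (hgD : i ⁻¹ᵁ T.basicOpen g ≤ D₀) (hH : GeomLift σ₀ p D₀) :
    LP (RingHom.ker i.appTop.hom) ε g := by
  intro E E' _ _ _ _ q hq K' hK' hker hg ψ₀ hψ₀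
  have hK'2 : K' ^ 2 = ⊥ := by
    rw [eq_bot_iff, pow_two, Ideal.mul_le]
    intro x hx y hy
    rw [hK' x hx y hy]
    exact Ideal.zero_mem _
  have hkq2 : RingHom.ker q.toRingHom ^ 2 = ⊥ := by
    rw [eq_bot_iff, ← hK'2]
    exact Ideal.pow_right_mono hker 2
  let e : Spec (CommRingCat.of E') ⟶ Spec (CommRingCat.of E) :=
    Spec.map (CommRingCat.ofHom q.toRingHom)
  have he : MoreMor.IsFirstOrderThickening e := fot_SpecMap q.toRingHom hq hkq2
  have hesurj : Function.Surjective e := he.1.2.surj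
  obtain ⟨u₀', hu₀'⟩ := exists_spec_hom (Y := W σ₀) ψ₀.toRingHom
  obtain ⟨v, hv⟩ := exists_spec_hom (Y := T) (algebraMap Γ(T, ⊤) E)
  have hτq : ta σ₀ ≫ om σ₀ ≫ σ₀.coborderRange.ι ≫ p = i := by
    rw [← Category.assoc, ← Category.assoc, Category.assoc (ta σ₀), ta_om_ι, hσ]
  -- the square
  have hsq : (u₀' ≫ om σ₀ ≫ σ₀.coborderRange.ι) ≫ p = e ≫ v := by
    rw [Category.assoc, Category.assoc]
    apply ext_of_isAffine
    ext a
    apply (γ_bijective E').1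
    have h1 : (u₀' ≫ om σ₀ ≫ σ₀.coborderRange.ι ≫ p).appTop.hom a =
        u₀'.appTop.hom ((om σ₀ ≫ σ₀.coborderRange.ι ≫ p).appTop.hom a) := by
      rw [Scheme.Hom.comp_appTop]; rfl
    have h2 : (e ≫ v).appTop.hom a = e.appTop.hom (v.appTop.hom a) := by
      rw [Scheme.Hom.comp_appTop]; rfl
    rw [h1, h2, hu₀', γ_specMap, hv, ← halg]
    exact (ψ₀.commutes a).trans (q.commutes a).symm
  -- the range condition
  have hrange : Set.range (u₀' ≫ om σ₀ ≫ σ₀.coborderRange.ι) ⊆ σ₀ '' (D₀ : Set T₀) := by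
    rintro _ ⟨y, rfl⟩
    have : Surjective (ta σ₀) := (fot_ta σ₀).1.2
    obtain ⟨t₀, ht₀⟩ := (ta σ₀).surjective (u₀' y)
    have h1 : (u₀' ≫ om σ₀ ≫ σ₀.coborderRange.ι) y = σ₀ t₀ := by
      rw [Scheme.Hom.comp_apply, ← ht₀, ← Scheme.Hom.comp_apply, ta_om_ι]
    refine ⟨t₀, hgD ?_, h1.symm⟩
    show i t₀ ∈ T.basicOpen g
    have h2 : i t₀ = v (e y) := by
      have h3 : p ((u₀' ≫ om σ₀ ≫ σ₀.coborderRange.ι) y) = v (e y) := by
        rw [← Scheme.Hom.comp_apply, hsq, Scheme.Hom.comp_apply]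
      rw [h1, ← Scheme.Hom.comp_apply, hσ] at h3
      exact h3
    rw [h2]
    have h4 : v ⁻¹ᵁ T.basicOpen g = ⊤ := by
      rw [Scheme.preimage_basicOpen_top]
      apply Scheme.basicOpen_of_isUnit
      have h5 : IsUnit (γ E (v.appTop.hom g)) := by rw [hv]; exact hg
      exact (isUnit_map_iff (MulEquivClass.toMulEquiv
        (Scheme.ΓSpecIso (CommRingCat.of E)).commRingCatIsoToRingEquiv) _).1 h5
    have h6 : e y ∈ v ⁻¹ᵁ T.basicOpen g := by rw [h4]; trivial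
    exact h6
  obtain ⟨uu, huu1, huu2⟩ := hH E E' q.toRingHom hq hkq2 _ v hsq hrange
  -- factor through the coborder
  have hrange2 : Set.range uu ⊆ Set.range σ₀.coborderRange.ι := by
    rintro _ ⟨z, rfl⟩
    obtain ⟨y, rfl⟩ := hesurj z
    rw [Scheme.Opens.range_ι]
    have h1 : uu (e y) = (u₀' ≫ om σ₀ ≫ σ₀.coborderRange.ι) y := by
      rw [← Scheme.Hom.comp_apply, huu1]
    rw [h1]
    obtain ⟨t₀, -, ht₀⟩ := hrange ⟨y, rfl⟩
    rw [← ht₀]
    exact subset_coborder ⟨_, rfl⟩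
  let b : Spec (CommRingCat.of E) ⟶ σ₀.coborderRange.toScheme :=
    IsOpenImmersion.lift σ₀.coborderRange.ι uu hrange2
  have hb : b ≫ σ₀.coborderRange.ι = uu := IsOpenImmersion.lift_fac _ _ _
  -- the small thickening
  let K'' : Ideal E' := K'.map q.toRingHom
  let r : E →+* E' ⧸ K'' := (Ideal.Quotient.mk K'').comp q.toRingHom
  have hrsurj : Function.Surjective r := Ideal.Quotient.mk_surjective.comp hq
  have hrker : RingHom.ker r = K' := by
    have h1 : RingHom.ker r = (RingHom.ker (Ideal.Quotient.mk K'')).comap q.toRingHom := by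
      rw [RingHom.comap_ker]
    rw [h1, Ideal.mk_ker, Ideal.comap_map_of_surjective q.toRingHom hq]
    exact sup_eq_left.2 (by rw [← RingHom.ker_eq_comap_bot]; exact hker)
  have hrker2 : RingHom.ker r ^ 2 = ⊥ := by rw [hrker]; exact hK'2
  let t : Spec (CommRingCat.of (E' ⧸ K'')) ⟶ Spec (CommRingCat.of E) :=
    Spec.map (CommRingCat.ofHom r)
  have ht : MoreMor.IsFirstOrderThickening t := fot_SpecMap r hrsurj hrker2
  let t' : Spec (CommRingCat.of (E' ⧸ K'')) ⟶ Spec (CommRingCat.of E') :=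
    Spec.map (CommRingCat.ofHom (Ideal.Quotient.mk K''))
  have htt' : t = t' ≫ e := by
    show Spec.map (CommRingCat.ofHom r) = _
    rw [← Spec.map_comp]
    rfl
  -- the map `Spec (E'/K'') ⟶ T₀`
  have hπ₀ : Function.Surjective (ta σ₀).appTop.hom := by
    have := (fot_ta σ₀).1.1
    exact (ta σ₀).app_surjective ⊤ (isAffineOpen_top (W σ₀))
  have hkerle : RingHom.ker (ta σ₀).appTop.hom ≤
      RingHom.ker ((Ideal.Quotient.mk K'').comp ψ₀.toRingHom) := by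
    intro c hc
    rw [RingHom.mem_ker, RingHom.comp_apply, Ideal.Quotient.eq_zero_iff_mem]
    exact hψ₀ c ((hε0 c).2 hc)
  let α : Γ(T₀, ⊤) →+* E' ⧸ K'' :=
    RingHom.liftOfSurjective (ta σ₀).appTop.hom hπ₀ ⟨_, hkerle⟩
  have hα : ∀ c, α ((ta σ₀).appTop.hom c) = Ideal.Quotient.mk K'' (ψ₀ c) := fun c =>
    RingHom.liftOfRightInverse_comp_apply _ _ _ ⟨_, hkerle⟩ c
  obtain ⟨a₀, ha₀⟩ := exists_spec_hom (Y := T₀) α
  have ha₀ta : a₀ ≫ ta σ₀ = t' ≫ u₀' := by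
    apply ext_of_isAffine
    ext c
    apply (γ_bijective (E' ⧸ K'')).1
    have h1 : (a₀ ≫ ta σ₀).appTop.hom c = a₀.appTop.hom ((ta σ₀).appTop.hom c) := by
      rw [Scheme.Hom.comp_appTop]; rfl
    have h2 : (t' ≫ u₀').appTop.hom c = t'.appTop.hom (u₀'.appTop.hom c) := by
      rw [Scheme.Hom.comp_appTop]; rfl
    rw [h1, h2, ha₀, hα, γ_specMap, hu₀']
    rfl
  have hkey : a₀ ≫ σ₀ = t' ≫ u₀' ≫ om σ₀ ≫ σ₀.coborderRange.ι := by
    have h1 : a₀ ≫ ta σ₀ ≫ om σ₀ ≫ σ₀.coborderRange.ι = a₀ ≫ σ₀ := by rw [ta_om_ι]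
    rw [← h1, ← Category.assoc, ha₀ta, Category.assoc]
  have hw : (a₀ ≫ (sg σ₀).toImage) ≫ (sg σ₀).ker.subschemeι = t ≫ b := by
    rw [Category.assoc, (sg σ₀).toImage_imageι, ← cancel_mono σ₀.coborderRange.ι, Category.assoc,
      Category.assoc, hb, Scheme.Hom.liftCoborder_ι, htt', Category.assoc, huu1]
    exact hkey
  obtain ⟨a', ha'⟩ := exists_lift_infNbhd (sg σ₀).ker t ht _ b hw
  have ha'om : a' ≫ om σ₀ = b := ha'
  -- the ring map
  have hea' : e ≫ a' = u₀' := by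
    rw [← cancel_mono (om σ₀ ≫ σ₀.coborderRange.ι), Category.assoc, reassoc_of% ha'om, hb, huu1]
  have hpa' : a' ≫ om σ₀ ≫ σ₀.coborderRange.ι ≫ p = v := by
    rw [reassoc_of% ha'om, reassoc_of% hb, huu2]
  let ψr : Γ(W σ₀, ⊤) →+* E := (γ E).comp a'.appTop.hom
  refine ⟨{ ψr with
    commutes' := fun a => by
      show γ E (a'.appTop.hom (algebraMap Γ(T, ⊤) Γ(W σ₀, ⊤) a)) = _
      rw [halg, ← hv]
      have h1 := congrArg (fun m => m.appTop.hom a) hpa'
      simp only [Scheme.Hom.comp_appTop, CommRingCat.hom_comp, RingHom.comp_apply] at h1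
      simp only [Scheme.Hom.comp_appTop, CommRingCat.hom_comp, RingHom.comp_apply]
      rw [h1] }, fun c => ?_⟩
  show q (γ E (a'.appTop.hom c)) = ψ₀ c
  have h1 := γ_specMap q.toRingHom (a'.appTop.hom c)
  have h2 : (e ≫ a').appTop.hom c = e.appTop.hom (a'.appTop.hom c) := by
    rw [Scheme.Hom.comp_appTop]; rfl
  have h3 : q (γ E (a'.appTop.hom c)) = γ E' ((e ≫ a').appTop.hom c) := by
    rw [h2]; exact h1.symm
  rw [h3, hea', hu₀']
  rfl

end Setup

end Groth.Agent.Lib.FSmGlueH4
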