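import Mathlib
import Groth.Prelude.Def_MoreMor
import Groth.Agent.Lib.GLiftMain_helper7
import Groth.Agent.Lib.FSmGlue5_helper4

/-!
# Local lifts glue without finite presentation, geometric part II (helper4)

`exists_section_aux'`, `exists_lift'`: helper7's gluing theorems for local lifts along a first order
thickening with affine source, with "locally of finite presentation" replaced by the geometric
lifting property `GeomLift` near every point.
-/

set_option autoImplicit false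
set_option linter.style.haveILetI false
universe u
open CategoryTheory CategoryTheory.Limits AlgebraicGeometry

namespace Groth.Agent.Lib.FSmGlueH4

open Groth.Agent.Lib.Thickening4_helper7 Groth.Agent.Lib.Thickening_helper7
  Groth.Agent.Lib.UnivThickSch1_helper7 Groth.Agent.Lib.UnivThickSch2_helper7
  Groth.Agent.Lib.FormalEtale_helper7 Groth.Agent.Lib.GLiftGeomH7

section Setup

variable {X T₀ : Scheme.{u}} (σ₀ : T₀ ⟶ X) [IsImmersion σ₀]

set_option maxHeartbeats 3200000 in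
/-- **Local sections glue** (no finiteness): a section over `T₀` of `p : X ⟶ T` extends to the first
order thickening `T` of the affine scheme `T₀` as soon as it extends Zariski locally on `T` and `p`
has the geometric lifting property near every point of the section. -/
theorem exists_section_aux' {T : Scheme.{u}} [IsAffine T] [IsAffine T₀] (p : X ⟶ T)
    (i : T₀ ⟶ T) (hi : MoreMor.IsFirstOrderThickening i) (hσ : σ₀ ≫ p = i)
    (hloc : ∀ t : T, ∃ (D : T.Opens) (s : D.toScheme ⟶ X), t ∈ D ∧ s ≫ p = D.ι ∧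
      (i ∣_ D) ≫ s = (i ⁻¹ᵁ D).ι ≫ σ₀)
    (hgeom : ∀ t₀ : T₀, ∃ D₀ : T₀.Opens, t₀ ∈ D₀ ∧ GeomLift σ₀ p D₀) :
    ∃ σ : T ⟶ X, σ ≫ p = 𝟙 T ∧ i ≫ σ = σ₀ := by
  have : IsClosedImmersion i := hi.1.1
  have : Surjective i := hi.1.2
  have : IsAffine (W σ₀) := isAffine_W σ₀
  letI : Algebra Γ(T, ⊤) Γ(W σ₀, ⊤) :=
    (om σ₀ ≫ σ₀.coborderRange.ι ≫ p).appTop.hom.toAlgebra
  have halg : algebraMap Γ(T, ⊤) Γ(W σ₀, ⊤) =
      (om σ₀ ≫ σ₀.coborderRange.ι ≫ p).appTop.hom := rfl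
  have hτq : ta σ₀ ≫ om σ₀ ≫ σ₀.coborderRange.ι ≫ p = i := by
    rw [← Category.assoc, ← Category.assoc, Category.assoc (ta σ₀), ta_om_ι, hσ]
  have hπ : Function.Surjective i.appTop.hom := i.app_surjective ⊤ (isAffineOpen_top T)
  have hεπ : ∀ a : Γ(T, ⊤), (ta σ₀).appTop.hom (algebraMap Γ(T, ⊤) Γ(W σ₀, ⊤) a) =
      i.appTop.hom a := by
    intro a
    have h1 := congrArg (fun m => m.appTop.hom a) hτq
    exact h1
  have hJ0 : ∀ x y : Γ(W σ₀, ⊤), (ta σ₀).appTop.hom x = 0 → (ta σ₀).appTop.hom y = 0 →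
      x * y = 0 := by
    intro x y hx hy
    have := (fot_ta σ₀).1.1
    have h1 := ker_app_pow_eq_bot (ta σ₀) (n := 2) (by rw [pow_two]; exact (fot_ta σ₀).2) ⊤
    have h2 : x * y ∈ RingHom.ker ((ta σ₀).app ⊤).hom ^ 2 := by
      rw [pow_two]; exact Ideal.mul_mem_mul hx hy
    rw [h1] at h2
    exact h2
  -- the augmentation
  let e := RingHom.quotientKerEquivOfSurjective hπ
  let ε : Γ(W σ₀, ⊤) →ₐ[Γ(T, ⊤)] (Γ(T, ⊤) ⧸ RingHom.ker i.appTop.hom) :=
    { (e.symm.toRingHom).comp (ta σ₀).appTop.hom with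
      commutes' := by
        intro a
        change e.symm ((ta σ₀).appTop.hom (algebraMap Γ(T, ⊤) Γ(W σ₀, ⊤) a)) = _
        rw [hεπ, RingEquiv.symm_apply_eq]
        exact (RingHom.quotientKerEquivOfSurjective_apply_mk hπ a).symm }
  have hε : ∀ c, ε c = e.symm ((ta σ₀).appTop.hom c) := fun c => rfl
  have hε0 : ∀ c, ε c = 0 ↔ (ta σ₀).appTop.hom c = 0 := by
    intro c
    rw [hε, RingEquiv.symm_apply_eq, map_zero]
  -- local sections over basic opens
  let G : Set Γ(T, ⊤) := {g | (∃ s : (T.basicOpen g).toScheme ⟶ X, s ≫ p = (T.basicOpen g).ι ∧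
    (i ∣_ T.basicOpen g) ≫ s = (i ⁻¹ᵁ T.basicOpen g).ι ≫ σ₀) ∧
    ∃ D₀ : T₀.Opens, i ⁻¹ᵁ T.basicOpen g ≤ D₀ ∧ GeomLift σ₀ p D₀}
  have hG : Ideal.span G = ⊤ := by
    rw [← (isAffineOpen_top T).iSup_basicOpen_eq_self_iff, eq_top_iff]
    intro t _
    obtain ⟨D, s, htD, hs₁, hs₂⟩ := hloc t
    obtain ⟨t₀, rfl⟩ := i.surjective t
    obtain ⟨D₀, ht₀D₀, hD₀⟩ := hgeom t₀
    obtain ⟨VT, hVT⟩ := exists_opens_preimage_eq i hi D₀
    have htVT : i t₀ ∈ VT := by
      have h1 : t₀ ∈ i ⁻¹ᵁ VT := by rw [hVT]; exact ht₀D₀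
      exact h1
    obtain ⟨g, hgle, htg⟩ := (isAffineOpen_top T).exists_basicOpen_le
      (V := D ⊓ VT) ⟨i t₀, ⟨htD, htVT⟩⟩ trivial
    have hgD : T.basicOpen g ≤ D := hgle.trans inf_le_left
    have hgVT : T.basicOpen g ≤ VT := hgle.trans inf_le_right
    refine TopologicalSpace.Opens.mem_iSup.2 ⟨⟨g, ⟨T.homOfLE hgD ≫ s, ?_, ?_⟩, D₀, ?_, hD₀⟩, htg⟩
    · rw [Category.assoc, hs₁, Scheme.homOfLE_ι]
    · rw [← Category.assoc, Groth.Agent.Lib.GLiftGeomH7.morphismRestrict_homOfLE, Category.assoc, hs₂,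
        Scheme.homOfLE_ι_assoc]
    · rw [← hVT]
      exact fun x hx => hgVT hx
  obtain ⟨ρ, hρ⟩ := alg_core' (RingHom.ker i.appTop.hom) ε
    (fun x y hx hy => hJ0 x y ((hε0 x).1 hx) ((hε0 y).1 hy)) G hG (by
      rintro g ⟨⟨s, hs₁, hs₂⟩, -⟩
      obtain ⟨s'', hs''₁, hs''₂⟩ := factor_section σ₀ i hi (T.basicOpen g) s hs₂
      refine ⟨Γ((T.basicOpen g).toScheme, ⊤), inferInstance, inferInstance, inferInstance, ?_⟩
      have hcomm : s'' ≫ om σ₀ ≫ σ₀.coborderRange.ι ≫ p = (T.basicOpen g).ι := by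
        rw [← hs₁, ← hs''₁, Category.assoc, Category.assoc]
      exact ⟨{ s''.appTop.hom with
        commutes' := by
          intro a
          exact congrArg (fun m => m.appTop.hom a) hcomm }⟩) (by
      rintro g ⟨-, D₀, hgD₀, hD₀⟩
      exact LP_of_geomLift σ₀ p i hi hσ halg ε hε0 g D₀ hgD₀ hD₀)
  -- the global section
  obtain ⟨σ', hσ'⟩ := exists_hom_appTop' (Y := T) (T := W σ₀) (CommRingCat.ofHom ρ.toRingHom)
  have h1 : σ' ≫ om σ₀ ≫ σ₀.coborderRange.ι ≫ p = 𝟙 T := by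
    apply ext_of_isAffine
    rw [Scheme.Hom.comp_appTop, hσ']
    ext a
    exact ρ.commutes a
  have h2 : i ≫ σ' = ta σ₀ := by
    apply ext_of_isAffine
    rw [Scheme.Hom.comp_appTop, hσ']
    ext c
    change i.appTop.hom (ρ c) = (ta σ₀).appTop.hom c
    have h3 := hρ c
    rw [hε, RingEquiv.eq_symm_apply, RingHom.quotientKerEquivOfSurjective_apply_mk] at h3
    exact h3
  refine ⟨σ' ≫ om σ₀ ≫ σ₀.coborderRange.ι, ?_, ?_⟩
  · rw [Category.assoc, Category.assoc]; exact h1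
  · rw [← Category.assoc, h2, ta_om_ι]

end Setup

/-- **Local lifts glue** (no finiteness). -/
theorem exists_lift' {S X T T₀ : Scheme.{u}} (f : X ⟶ S)
    (i : T₀ ⟶ T) [IsAffine T₀] (hi : MoreMor.IsFirstOrderThickening i)
    (a : T ⟶ S) (a₀ : T₀ ⟶ X) (hsqr : a₀ ≫ f = i ≫ a)
    (hloc : ∀ t : T, ∃ (D : T.Opens) (b : D.toScheme ⟶ X), t ∈ D ∧ b ≫ f = D.ι ≫ a ∧
      (i ∣_ D) ≫ b = (i ⁻¹ᵁ D).ι ≫ a₀)
    (hgeom : ∀ t₀ : T₀, ∃ D₀ : T₀.Opens, t₀ ∈ D₀ ∧
        GeomLift (pullback.lift a₀ i hsqr) (pullback.snd f a) D₀) :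
    ∃ b' : T ⟶ X, b' ≫ f = a ∧ i ≫ b' = a₀ := by
  have := hi.1.1
  have := hi.1.2
  have : IsAffine T := Groth.Agent.Lib.ThickAffH6.isAffine_of_thickening i
  have hσ : pullback.lift a₀ i hsqr ≫ pullback.snd f a = i := pullback.lift_snd _ _ _
  have : IsImmersion (pullback.lift a₀ i hsqr ≫ pullback.snd f a) := by
    rw [hσ]; infer_instance
  have : IsImmersion (pullback.lift a₀ i hsqr) :=
    IsImmersion.of_comp (pullback.lift a₀ i hsqr) (pullback.snd f a)
  obtain ⟨σ, hσ1, hσ2⟩ := exists_section_aux' (pullback.lift a₀ i hsqr) (pullback.snd f a) i hi hσ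
    (by
      intro t
      obtain ⟨D, b, htD, hb₁, hb₂⟩ := hloc t
      refine ⟨D, pullback.lift b D.ι hb₁, htD, pullback.lift_snd _ _ _, ?_⟩
      apply pullback.hom_ext
      · rw [Category.assoc, Category.assoc, pullback.lift_fst, pullback.lift_fst, hb₂]
      · rw [Category.assoc, Category.assoc, pullback.lift_snd, pullback.lift_snd,
          morphismRestrict_ι]) hgeom
  refine ⟨σ ≫ pullback.fst f a, ?_, ?_⟩
  · rw [Category.assoc, pullback.condition, ← Category.assoc, hσ1, Category.id_comp]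
  · rw [← Category.assoc, hσ2, pullback.lift_fst]

end Groth.Agent.Lib.FSmGlueH4
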