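import Mathlib
import Groth.Prelude.Def_MoreMor
import Groth.Agent.Lib.AffLift_helper7
import Groth.Agent.Lib.FSmGlue6_helper4

/-!
# Chartwise formally smooth ⇒ formally smooth (helper4)

`formallySmoothHom_of_chartFS`: if for all affine opens `U ⊆ f⁻¹ V` the ring map `Γ(Y,V) → Γ(X,U)` is
formally smooth, then `f` has the infinitesimal lifting property against square-zero thickenings
of affine schemes.
-/

set_option autoImplicit false
set_option linter.style.haveILetI false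
universe u
open CategoryTheory CategoryTheory.Limits AlgebraicGeometry

namespace Groth.Agent.Lib.FSmGlueH4

open Groth.Agent.Lib.Thickening4_helper7 Groth.Agent.Lib.Thickening_helper7
  Groth.Agent.Lib.UnivThickSch1_helper7 Groth.Agent.Lib.UnivThickSch2_helper7
  Groth.Agent.Lib.FormalEtale_helper7 Groth.Agent.Lib.AffLiftH7 Groth.Agent.Lib.WeilSchH7

/-- Chartwise formal smoothness. -/
def ChartFS {X Y : Scheme.{u}} (f : X ⟶ Y) : Prop :=
  ∀ (U : X.Opens) (V : Y.Opens), IsAffineOpen U → IsAffineOpen V → ∀ hUV : U ≤ f ⁻¹ᵁ V,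
    (f.appLE V U hUV).hom.FormallySmooth

/-- Morphisms of affine schemes which are formally smooth on global sections lift. -/
theorem hasLift_of_formallySmooth {X Y : Scheme.{u}} [IsAffine X] [IsAffine Y] (f : X ⟶ Y)
    (hf : f.appTop.hom.FormallySmooth) : HasLift f := by
  intro T₀ T _ _ ι hι a b hab
  obtain ⟨c₀, hc1, -, hc3⟩ := ring_lift f.appTop.hom hf b.appTop.hom
    ι.appTop.hom ι.appTop.hom hι.2 a.appTop.hom a.appTop.hom
    (fun r => by rw [← appTop_comp_apply, ← appTop_comp_apply, hab])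
    (fun r => by rw [← appTop_comp_apply, ← appTop_comp_apply, hab])
    (fun p => by
      obtain ⟨x, hx⟩ := hι.1 (a.appTop.hom p)
      exact ⟨x, hx, hx⟩)
  obtain ⟨c, hc⟩ := exists_hom_appTop (Y := T) (T := X) (CommRingCat.ofHom c₀)
  have hcapp : ∀ p, c.appTop.hom p = c₀ p := fun p => by rw [hc]; rfl
  refine ⟨c, ?_, ?_⟩
  · apply ext_of_isAffine
    apply CommRingCat.hom_ext
    apply RingHom.ext
    intro p
    rw [appTop_comp_apply, hcapp, hc1]
  · apply ext_of_isAffine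
    apply CommRingCat.hom_ext
    apply RingHom.ext
    intro r
    rw [appTop_comp_apply, hcapp, hc3]

theorem chartFS_resLE {X Y : Scheme.{u}} (f : X ⟶ Y) (hf : ChartFS f) (U : X.Opens) (V : Y.Opens)
    (hU : IsAffineOpen U) (hV : IsAffineOpen V) (hUV : U ≤ f ⁻¹ᵁ V) :
    (f.resLE V U hUV).appTop.hom.FormallySmooth := by
  have h1 : (f.resLE V U hUV).appTop = V.topIso.hom ≫ f.appLE V U hUV ≫ U.topIso.inv :=
    Scheme.Hom.resLE_app_top f hUV
  rw [h1]
  simp only [CommRingCat.hom_comp]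
  refine RingHom.FormallySmooth.comp ?_ (RingHom.FormallySmooth.comp (hf U V hU hV hUV) ?_)
  · exact RingHom.FormallySmooth.of_bijective
      (ConcreteCategory.bijective_of_isIso V.topIso.hom)
  · exact RingHom.FormallySmooth.of_bijective
      (ConcreteCategory.bijective_of_isIso U.topIso.inv)

theorem isThick_of_fot {T₀ T : Scheme.{u}} [IsAffine T₀] [IsAffine T] (e : T₀ ⟶ T)
    (he : MoreMor.IsFirstOrderThickening e) : IsThick e := by
  have : IsClosedImmersion e := he.1.1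
  refine ⟨(IsClosedImmersion.isAffine_surjective_of_isAffine e).2, fun x y hx hy => ?_⟩
  have hk : RingHom.ker (e.app ⊤).hom ^ 2 = ⊥ :=
    Groth.Agent.Lib.Thickening4_helper7.ker_app_pow_eq_bot e
      (by rw [pow_two]; exact he.2) ⊤
  have hx' : x ∈ RingHom.ker (e.app ⊤).hom := (RingHom.mem_ker).mpr hx
  have hy' : y ∈ RingHom.ker (e.app ⊤).hom := (RingHom.mem_ker).mpr hy
  have hxy : x * y ∈ RingHom.ker (e.app ⊤).hom ^ 2 := by
    rw [pow_two]
    exact Ideal.mul_mem_mul hx' hy'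
  rw [hk] at hxy
  exact (Ideal.mem_bot).mp hxy

/-- Local lifts exist. -/
theorem exists_local_lift {X S T T₀ : Scheme.{u}} (f : X ⟶ S) (hf : ChartFS f) (i : T₀ ⟶ T)
    (hi : MoreMor.IsFirstOrderThickening i) (b : T ⟶ S) (a : T₀ ⟶ X) (comm : a ≫ f = i ≫ b)
    (t : T) : ∃ (D : T.Opens) (l : D.toScheme ⟶ X), t ∈ D ∧ l ≫ f = D.ι ≫ b ∧
      (i ∣_ D) ≫ l = (i ⁻¹ᵁ D).ι ≫ a := by
  have hci : IsClosedImmersion i := hi.1.1
  have hsurj : Surjective i := hi.1.2
  obtain ⟨t₀, rfl⟩ := i.surjective t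
  have hbt : b (i t₀) = f (a t₀) := by
    have := congrArg (fun g : T₀ ⟶ S => g t₀) comm
    simpa using this.symm
  obtain ⟨_, ⟨(V : S.Opens), hV, rfl⟩, hxV, -⟩ :=
    S.isBasis_affineOpens.exists_subset_of_mem_open (Set.mem_univ (f (a t₀))) isOpen_univ
  obtain ⟨_, ⟨(U : X.Opens), hU, rfl⟩, hxU, hUV : U ≤ f ⁻¹ᵁ V⟩ :=
    X.isBasis_affineOpens.exists_subset_of_mem_open hxV (f ⁻¹ᵁ V).isOpen
  obtain ⟨W, hW⟩ := exists_opens_preimage_eq i hi (a ⁻¹ᵁ U)
  have htW : i t₀ ∈ W := by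
    have h1 : t₀ ∈ i ⁻¹ᵁ W := by rw [hW]; exact hxU
    exact h1
  have htV : i t₀ ∈ b ⁻¹ᵁ V := by
    show b (i t₀) ∈ V
    rw [hbt]; exact hxV
  have htWV : i t₀ ∈ W ⊓ b ⁻¹ᵁ V := ⟨htW, htV⟩
  obtain ⟨_, ⟨(D : T.Opens), hD, rfl⟩, htD, hDW : D ≤ W ⊓ b ⁻¹ᵁ V⟩ :=
    T.isBasis_affineOpens.exists_subset_of_mem_open htWV (W ⊓ b ⁻¹ᵁ V).isOpen
  have hDW1 : D ≤ W := hDW.trans inf_le_left
  have hDV : D ≤ b ⁻¹ᵁ V := hDW.trans inf_le_right
  have e' : i ⁻¹ᵁ D ≤ a ⁻¹ᵁ U := by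
    rw [← hW]
    exact fun y hy => hDW1 hy
  have : IsAffine D.toScheme := hD
  have : IsAffine (i ⁻¹ᵁ D).toScheme := hD.preimage i
  have : IsAffine U.toScheme := hU
  have : IsAffine V.toScheme := hV
  have hfot := fot_morphismRestrict i hi D
  have hthick : IsThick (i ∣_ D) := isThick_of_fot (i ∣_ D) hfot
  obtain ⟨c, hc1, hc2⟩ := hasLift_of_formallySmooth (f.resLE V U hUV)
    (chartFS_resLE f hf U V hU hV hUV) _ _ inferInstance inferInstance
    (i ∣_ D) hthick (a.resLE U (i ⁻¹ᵁ D) e') (b.resLE V D hDV) (by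
      rw [← cancel_mono V.ι, Category.assoc, Category.assoc, Scheme.Hom.resLE_comp_ι f hUV,
        Scheme.Hom.resLE_comp_ι b hDV, Scheme.Hom.resLE_comp_ι_assoc a e', comm,
        morphismRestrict_ι_assoc])
  refine ⟨D, c ≫ U.ι, htD, ?_, ?_⟩
  · rw [Category.assoc, ← Scheme.Hom.resLE_comp_ι f hUV, ← Category.assoc, hc2,
      Scheme.Hom.resLE_comp_ι b hDV]
  · rw [← Category.assoc, hc1, Scheme.Hom.resLE_comp_ι a e']

set_option maxHeartbeats 1600000 in
/-- The geometric lifting property of the base change. -/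
theorem geomLift_pullback {X S T T₀ : Scheme.{u}} (f : X ⟶ S) (hf : ChartFS f) (i : T₀ ⟶ T)
    (b : T ⟶ S) (a : T₀ ⟶ X) (comm : a ≫ f = i ≫ b) (t₀ : T₀) :
    ∃ D₀ : T₀.Opens, t₀ ∈ D₀ ∧ GeomLift (pullback.lift a i comm) (pullback.snd f b) D₀ := by
  obtain ⟨_, ⟨(V : S.Opens), hV, rfl⟩, hxV, -⟩ :=
    S.isBasis_affineOpens.exists_subset_of_mem_open (Set.mem_univ (f (a t₀))) isOpen_univ
  obtain ⟨_, ⟨(U : X.Opens), hU, rfl⟩, hxU, hUV : U ≤ f ⁻¹ᵁ V⟩ :=
    X.isBasis_affineOpens.exists_subset_of_mem_open hxV (f ⁻¹ᵁ V).isOpen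
  refine ⟨a ⁻¹ᵁ U, hxU, ?_⟩
  intro E E' _ _ q hq hk u₀ v hsq hrange
  have he : MoreMor.IsFirstOrderThickening (Spec.map (CommRingCat.ofHom q)) :=
    fot_SpecMap q hq hk
  have hesurj : Function.Surjective (Spec.map (CommRingCat.ofHom q)) := he.1.2.surj
  have hu₁ : ∀ y, (u₀ ≫ pullback.fst f b) y ∈ U := by
    intro y
    obtain ⟨t', ht', hty⟩ := hrange ⟨y, rfl⟩
    rw [Scheme.Hom.comp_apply, ← hty, ← Scheme.Hom.comp_apply, pullback.lift_fst]
    exact ht'
  have hw : ∀ z, (v ≫ b) z ∈ V := by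
    intro z
    obtain ⟨y, rfl⟩ := hesurj z
    have h1 : (v ≫ b) (Spec.map (CommRingCat.ofHom q) y) = f ((u₀ ≫ pullback.fst f b) y) := by
      rw [← Scheme.Hom.comp_apply, ← Scheme.Hom.comp_apply, ← Category.assoc, ← hsq,
        Category.assoc, Category.assoc, pullback.condition]
    rw [h1]
    exact hUV (hu₁ y)
  let u₁' : Spec (CommRingCat.of E') ⟶ U.toScheme :=
    IsOpenImmersion.lift U.ι (u₀ ≫ pullback.fst f b) (by
      rintro _ ⟨y, rfl⟩
      rw [Scheme.Opens.range_ι]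
      exact hu₁ y)
  have hu₁' : u₁' ≫ U.ι = u₀ ≫ pullback.fst f b := IsOpenImmersion.lift_fac _ _ _
  let w' : Spec (CommRingCat.of E) ⟶ V.toScheme :=
    IsOpenImmersion.lift V.ι (v ≫ b) (by
      rintro _ ⟨z, rfl⟩
      rw [Scheme.Opens.range_ι]
      exact hw z)
  have hw' : w' ≫ V.ι = v ≫ b := IsOpenImmersion.lift_fac _ _ _
  have : IsAffine U.toScheme := hU
  have : IsAffine V.toScheme := hV
  have hthick : IsThick (Spec.map (CommRingCat.ofHom q)) := isThick_of_fot _ he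
  obtain ⟨c, hc1, hc2⟩ := hasLift_of_formallySmooth (f.resLE V U hUV)
    (chartFS_resLE f hf U V hU hV hUV) _ _ inferInstance inferInstance
    (Spec.map (CommRingCat.ofHom q)) hthick u₁' w' (by
      rw [← cancel_mono V.ι, Category.assoc, Category.assoc, Scheme.Hom.resLE_comp_ι f hUV,
        hw', reassoc_of% hu₁', pullback.condition, ← Category.assoc, hsq, Category.assoc])
  have hcf : (c ≫ U.ι) ≫ f = v ≫ b := by
    rw [Category.assoc, ← Scheme.Hom.resLE_comp_ι f hUV, ← Category.assoc, hc2, hw']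
  refine ⟨pullback.lift (c ≫ U.ι) v hcf, ?_, pullback.lift_snd _ _ _⟩
  apply pullback.hom_ext
  · rw [Category.assoc, pullback.lift_fst, ← Category.assoc, hc1, hu₁']
  · rw [Category.assoc, pullback.lift_snd, hsq]

/-- **Chartwise formally smooth morphisms are formally smooth.** -/
theorem formallySmoothHom_of_chartFS {X Y : Scheme.{u}} (f : X ⟶ Y) (hf : ChartFS f) :
    MoreMor.IsFormallySmoothHom f := by
  intro A _ I hI a b comm
  obtain ⟨l, h1, h2⟩ := exists_lift' f (thk I) (fot_thk I hI) b a comm.symm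
    (fun t => exists_local_lift f hf (thk I) (fot_thk I hI) b a comm.symm t)
    (fun t₀ => geomLift_pullback f hf (thk I) b a comm.symm t₀)
  exact ⟨l, h2, h1⟩

end Groth.Agent.Lib.FSmGlueH4
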