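import Groth.Agent.Lib.SmoothLiftSch_helper7
import Groth.Agent.Lib.AlgSpPullback_helper7
import Groth.Prelude.Def_AlgSpInf

/-!
# Étale-local lifts for `b` when `a ≫ b` is formally smooth and `a` is an étale cover
(helper7, S12195)
-/

set_option autoImplicit false
set_option backward.isDefEq.respectTransparency false
set_option backward.isDefEq.respectTransparency.types false
universe u
open CategoryTheory CategoryTheory.Limits AlgebraicGeometry Opposite TensorProduct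

namespace Groth.Agent.Lib.FSmoothCompH7

open AlgSp

/-- Ring-level: an étale algebra over `A ⧸ I` lifts, locally at a prime, to an étale `A`-algebra. -/
theorem ring_part (A : Type u) [CommRing A] (I : Ideal A) (C₀ : Type u) [CommRing C₀]
    [Algebra (A ⧸ I) C₀] [Algebra.Etale (A ⧸ I) C₀] (q : Ideal C₀) [q.IsPrime] :
    ∃ (C : Type u) (_ : CommRing C) (_ : Algebra A C)
      (θ : C₀ →+* C ⧸ I.map (algebraMap A C)) (q'' : Ideal (C ⧸ I.map (algebraMap A C))),
      Algebra.Etale A C ∧ q''.IsPrime ∧ Ideal.comap θ q'' = q ∧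
      ∀ x : A ⧸ I, θ (algebraMap (A ⧸ I) C₀ x) =
        algebraMap (A ⧸ I) (C ⧸ I.map (algebraMap A C)) x := by
  have hπ : Function.Surjective (algebraMap A (A ⧸ I)) := Ideal.Quotient.mk_surjective
  obtain ⟨g, hg, C, instC, algAC, hCet, ⟨e₁⟩⟩ :=
    Groth.Agent.Lib.SmoothLiftRingH7.exists_etale_lift' A (A ⧸ I) hπ C₀ q
  obtain ⟨Θ⟩ : Nonempty (Localization.Away g ≃ₐ[A ⧸ I] (C ⧸ I.map (algebraMap A C))) :=
    ⟨((Algebra.TensorProduct.quotIdealMapEquivQuotTensor C I).trans e₁).symm⟩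
  have hdisj : Disjoint (Submonoid.powers g : Set C₀) (q : Set C₀) :=
    (Ideal.disjoint_powers_iff_notMem_of_isPrime g).2 hg
  have hq'prime := IsLocalization.isPrime_of_isPrime_disjoint (Submonoid.powers g)
    (Localization.Away g) q inferInstance hdisj
  have hq'comap := IsLocalization.under_map_of_isPrime_disjoint (Submonoid.powers g)
    (Localization.Away g) (inferInstance : q.IsPrime) hdisj
  refine ⟨C, instC, algAC,
    (Θ.toRingEquiv.toRingHom).comp (algebraMap C₀ (Localization.Away g)),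
    Ideal.comap Θ.symm.toRingEquiv.toRingHom
      (Ideal.map (algebraMap C₀ (Localization.Away g)) q), hCet, ?_, ?_, ?_⟩
  · haveI := hq'prime
    exact Ideal.comap_isPrime _ _
  · rw [Ideal.comap_comap]
    have h1 : (Θ.symm.toRingEquiv.toRingHom).comp
        ((Θ.toRingEquiv.toRingHom).comp (algebraMap C₀ (Localization.Away g))) =
        algebraMap C₀ (Localization.Away g) := by
      ext x
      show Θ.symm (Θ (algebraMap C₀ (Localization.Away g) x)) = _
      exact Θ.symm_apply_apply _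
    rw [h1]
    exact hq'comap
  · intro x
    show Θ (algebraMap C₀ (Localization.Away g) (algebraMap (A ⧸ I) C₀ x)) = _
    rw [← IsScalarTower.algebraMap_apply (A ⧸ I) C₀ (Localization.Away g) x]
    exact Θ.commutes x

/-- `Spec (C ⧸ IC)` is the pullback of `Spec (A ⧸ I) ⟶ Spec A` along `Spec C ⟶ Spec A`. -/
theorem isPullback_quot (A : Type u) [CommRing A] (I : Ideal A) (C : Type u) [CommRing C]
    [Algebra A C] :
    IsPullback
      (Spec.map (CommRingCat.ofHom (algebraMap (A ⧸ I) (C ⧸ I.map (algebraMap A C)))))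
      (Spec.map (CommRingCat.ofHom (Ideal.Quotient.mk (I.map (algebraMap A C)))))
      (Spec.map (CommRingCat.ofHom (Ideal.Quotient.mk I)))
      (Spec.map (CommRingCat.ofHom (algebraMap A C))) := by
  apply isPullback_SpecMap_of_isPushout
  refine (CommRingCat.isPushout_tensorProduct A (A ⧸ I) C).of_iso (Iso.refl _) (Iso.refl _)
    (Iso.refl _)
    (Algebra.TensorProduct.quotIdealMapEquivQuotTensor C I).symm.toRingEquiv.toCommRingCatIso
    ?_ ?_ ?_ ?_
  · simp only [Iso.refl_hom, Category.comp_id, Category.id_comp]; rfl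
  · simp only [Iso.refl_hom, Category.comp_id, Category.id_comp]
  · simp only [Iso.refl_hom, Category.id_comp]
    apply CommRingCat.hom_ext
    apply RingHom.ext
    intro x
    change (Algebra.TensorProduct.quotIdealMapEquivQuotTensor C I).symm (x ⊗ₜ[A] (1 : C)) =
      algebraMap (A ⧸ I) (C ⧸ I.map (algebraMap A C)) x
    have h1 : x ⊗ₜ[A] (1 : C) = algebraMap (A ⧸ I) ((A ⧸ I) ⊗[A] C) x := by
      rw [Algebra.TensorProduct.algebraMap_apply]; rfl
    rw [h1]
    exact (Algebra.TensorProduct.quotIdealMapEquivQuotTensor C I).symm.commutes x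
  · simp only [Iso.refl_hom, Category.id_comp]
    ext c
    change (Algebra.TensorProduct.quotIdealMapEquivQuotTensor C I).symm ((1 : A ⧸ I) ⊗ₜ[A] c) =
      Ideal.Quotient.mk (I.map (algebraMap A C)) c
    rw [AlgEquiv.symm_apply_eq]
    exact (Algebra.TensorProduct.quotIdealMapEquivQuotTensor_mk C I c).symm

/-- A point of `Spec A` comes from `Spec (A ⧸ I)` when `I ^ 2 = ⊥`. -/
theorem pt_lift (A : Type u) [CommRing A] (I : Ideal A) (hI2 : I ^ 2 = ⊥)
    (t : ↥(Spec (CommRingCat.of A))) :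
    ∃ t₀ : ↥(Spec (CommRingCat.of (A ⧸ I))),
      (Spec.map (CommRingCat.ofHom (Ideal.Quotient.mk I))) t₀ = t := by
  obtain ⟨tp, rfl⟩ : ∃ tp : PrimeSpectrum A, tp = t := ⟨t, rfl⟩
  have hI : (I : Set A) ⊆ tp.asIdeal := by
    intro x hx
    have h2 : x ^ 2 ∈ I ^ 2 := Ideal.pow_mem_pow hx 2
    rw [hI2] at h2
    have h3 : x ^ 2 = 0 := h2
    have h4 : x ^ 2 ∈ tp.asIdeal := by rw [h3]; exact Ideal.zero_mem _
    exact tp.isPrime.mem_of_pow_mem 2 h4
  have h5 : tp ∈ Set.range (PrimeSpectrum.comap (Ideal.Quotient.mk I)) := by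
    rw [range_comap_of_surjective _ _ Ideal.Quotient.mk_surjective,
      PrimeSpectrum.mem_zeroLocus, Ideal.mk_ker]
    exact hI
  obtain ⟨t₀, ht₀⟩ := h5
  exact ⟨t₀, ht₀⟩

section Core

variable {S : Scheme.{u}} {G H : Sp S} {b : G ⟶ H} (sq : InfSq b) (C : Type u) [CommRing C]
  [Algebra sq.A C]

/-- The structure morphism of `Spec C`. -/
noncomputable abbrev strC : Spec (CommRingCat.of C) ⟶ S :=
  Spec.map (CommRingCat.ofHom (algebraMap sq.A C)) ≫ sq.str

/-- `Spec C` over `S`. -/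
noncomputable abbrev UC : Over S := Over.mk (strC sq C)

/-- `Spec (C ⧸ IC)` over `S`. -/
noncomputable abbrev ZC : Over S :=
  Over.mk (Spec.map (CommRingCat.ofHom
    (Ideal.Quotient.mk (sq.I.map (algebraMap sq.A C)))) ≫ strC sq C)

/-- The closed immersion `Spec (C ⧸ IC) ⟶ Spec C` over `S`. -/
noncomputable abbrev jC : ZC sq C ⟶ UC sq C :=
  Over.homMk (Spec.map (CommRingCat.ofHom
    (Ideal.Quotient.mk (sq.I.map (algebraMap sq.A C))))) rfl

/-- The morphism `Spec C ⟶ Spec A` over `S`. -/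
noncomputable abbrev gC : UC sq C ⟶ sq.ptT' :=
  Over.homMk (Spec.map (CommRingCat.ofHom (algebraMap sq.A C))) rfl

theorem core {F : Sp S} (a : F ⟶ G) (hab : IsFormallySmoothMor (a ≫ b))
    (E : Over S) (fstE : (yon S).obj E ⟶ F) (sndE : E ⟶ sq.ptT)
    (sqE : IsPullback fstE ((yon S).map sndE) a sq.top) (zO : ZC sq C ⟶ E)
    (hz' : zO.left ≫ sndE.left = Spec.map (CommRingCat.ofHom
      (algebraMap (sq.A ⧸ sq.I) (C ⧸ sq.I.map (algebraMap sq.A C))))) :
    ∃ l : (yon S).obj (UC sq C) ⟶ G, l ≫ b = (yon S).map (gC sq C) ≫ sq.bot ∧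
      ∀ (V : Over S) (p : V ⟶ sq.ptT) (q : V ⟶ UC sq C), p ≫ sq.j = q ≫ gC sq C →
        (yon S).map q ≫ l = (yon S).map p ≫ sq.top := by
  have hPB := isPullback_quot sq.A sq.I C
  have hz : zO ≫ sndE ≫ sq.j = jC sq C ≫ gC sq C := by
    apply Over.OverMorphism.ext
    simp only [Over.comp_left, Over.homMk_left]
    rw [← Category.assoc, hz']
    exact hPB.w
  have comm' : ((yon S).map zO ≫ fstE) ≫ (a ≫ b) =
      (yon S).map (jC sq C) ≫ ((yon S).map (gC sq C) ≫ sq.bot) := by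
    calc ((yon S).map zO ≫ fstE) ≫ (a ≫ b)
        = (yon S).map zO ≫ ((fstE ≫ a) ≫ b) := by simp only [Category.assoc]
      _ = (yon S).map zO ≫ (((yon S).map sndE ≫ sq.top) ≫ b) := by rw [sqE.w]
      _ = (yon S).map zO ≫ ((yon S).map sndE ≫ (sq.top ≫ b)) := by simp only [Category.assoc]
      _ = (yon S).map zO ≫ ((yon S).map sndE ≫ ((yon S).map sq.j ≫ sq.bot)) := by
          rw [sq.comm]
      _ = (yon S).map (zO ≫ sndE ≫ sq.j) ≫ sq.bot := by
          simp only [CategoryTheory.Functor.map_comp, Category.assoc]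
      _ = (yon S).map (jC sq C ≫ gC sq C) ≫ sq.bot := by rw [hz]
      _ = (yon S).map (jC sq C) ≫ ((yon S).map (gC sq C) ≫ sq.bot) := by
          simp only [CategoryTheory.Functor.map_comp, Category.assoc]
  have hsq0 : (sq.I.map (algebraMap sq.A C)) ^ 2 = ⊥ := by
    rw [← Ideal.map_pow, sq.sq_zero, Ideal.map_bot]
  have hab' : ∀ sq' : InfSq (a ≫ b), sq'.HasLift := hab
  obtain ⟨l', hl'1, hl'2⟩ := hab' ⟨C, sq.I.map (algebraMap sq.A C), hsq0, strC sq C,
    (yon S).map zO ≫ fstE, (yon S).map (gC sq C) ≫ sq.bot, comm'⟩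
  have hl1 : (yon S).map (jC sq C) ≫ l' = (yon S).map zO ≫ fstE := hl'1
  have hl2 : l' ≫ (a ≫ b) = (yon S).map (gC sq C) ≫ sq.bot := hl'2
  refine ⟨l' ≫ a, ?_, ?_⟩
  · rw [Category.assoc]; exact hl2
  · intro V p q hpq
    have hw : p.left ≫ Spec.map (CommRingCat.ofHom (Ideal.Quotient.mk sq.I)) =
        q.left ≫ Spec.map (CommRingCat.ofHom (algebraMap sq.A C)) := by
      have := congrArg (fun m => m.left) hpq
      simpa only [Over.comp_left, Over.homMk_left] using this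
    obtain ⟨φl, hφl1, hφl2⟩ : ∃ φl : V.left ⟶ Spec (CommRingCat.of
        (C ⧸ sq.I.map (algebraMap sq.A C))),
        φl ≫ Spec.map (CommRingCat.ofHom
          (algebraMap (sq.A ⧸ sq.I) (C ⧸ sq.I.map (algebraMap sq.A C)))) = p.left ∧
        φl ≫ Spec.map (CommRingCat.ofHom
          (Ideal.Quotient.mk (sq.I.map (algebraMap sq.A C)))) = q.left :=
      ⟨hPB.lift p.left q.left hw, hPB.lift_fst _ _ _, hPB.lift_snd _ _ _⟩
    have hφw : φl ≫ (ZC sq C).hom = V.hom := by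
      have hq := Over.w q
      calc φl ≫ (ZC sq C).hom
          = (φl ≫ Spec.map (CommRingCat.ofHom
              (Ideal.Quotient.mk (sq.I.map (algebraMap sq.A C))))) ≫ strC sq C := by
            simp only [Over.mk_hom, Category.assoc]
        _ = q.left ≫ (UC sq C).hom := by rw [hφl2]; rfl
        _ = V.hom := hq
    obtain ⟨φ, hφ⟩ : ∃ φ : V ⟶ ZC sq C, φ.left = φl := ⟨Over.homMk φl hφw, rfl⟩
    have hφ1 : φ ≫ jC sq C = q := by
      apply Over.OverMorphism.ext
      simp only [Over.comp_left, Over.homMk_left]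
      rw [hφ]; exact hφl2
    have hφ2 : φ ≫ zO ≫ sndE = p := by
      apply Over.OverMorphism.ext
      simp only [Over.comp_left]
      rw [hz', hφ]; exact hφl1
    calc (yon S).map q ≫ l' ≫ a
        = (yon S).map (φ ≫ jC sq C) ≫ l' ≫ a := by rw [hφ1]
      _ = (yon S).map φ ≫ (((yon S).map (jC sq C) ≫ l') ≫ a) := by
          simp only [CategoryTheory.Functor.map_comp, Category.assoc]
      _ = (yon S).map φ ≫ (((yon S).map zO ≫ fstE) ≫ a) := by rw [hl1]
      _ = (yon S).map φ ≫ ((yon S).map zO ≫ (fstE ≫ a)) := by simp only [Category.assoc]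
      _ = (yon S).map φ ≫ ((yon S).map zO ≫ ((yon S).map sndE ≫ sq.top)) := by rw [sqE.w]
      _ = (yon S).map (φ ≫ zO ≫ sndE) ≫ sq.top := by
          simp only [CategoryTheory.Functor.map_comp, Category.assoc]
      _ = (yon S).map p ≫ sq.top := by rw [hφ2]

end Core

theorem main {S : Scheme.{u}} {F G H : Sp S} (a : F ⟶ G) (b : G ⟶ H)
    (ha : RepWith @Etale a) (ha' : RepWith @Surjective a)
    (hab : IsFormallySmoothMor (a ≫ b)) (sq : InfSq b) (t : ↥sq.ptT'.left) :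
    ∃ (U' : Over S) (g : U' ⟶ sq.ptT') (l : (yon S).obj U' ⟶ G),
      IsAffine U'.left ∧ Etale g.left ∧ (∃ u : ↥U'.left, g.left u = t) ∧
        l ≫ b = (yon S).map g ≫ sq.bot ∧
          ∀ (V : Over S) (p : V ⟶ sq.ptT) (q : V ⟶ U'), p ≫ sq.j = q ≫ g →
            (yon S).map q ≫ l = (yon S).map p ≫ sq.top := by
  obtain ⟨E, fstE, sndE, sqE, hsE⟩ : ∃ (E : Over S) (fstE : (yon S).obj E ⟶ F)
      (sndE : E ⟶ sq.ptT), IsPullback fstE ((yon S).map sndE) a sq.top ∧ Etale sndE.left :=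
    ⟨_, ha.rep.fst sq.top, ha.rep.snd sq.top, ha.rep.isPullback sq.top,
      ha.property_snd sq.top⟩
  haveI := hsE
  have hsurj : Surjective sndE.left := ((repWith_iff _ a).1 ha').2 sq.top fstE sndE sqE
  obtain ⟨t₀, ht₀⟩ := pt_lift sq.A sq.I sq.sq_zero t
  obtain ⟨e₀, he₀⟩ := hsurj.surj t₀
  obtain ⟨E1, hE1, he₀E1, -⟩ :=
    Groth.Agent.Lib.SmoothLiftSchH7.exists_affine_nhd e₀ ⊤ trivial
  obtain ⟨ψ, hψ⟩ : ∃ ψ : Spec Γ(E.left, E1) ⟶ Spec (CommRingCat.of (sq.A ⧸ sq.I)),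
      ψ = hE1.fromSpec ≫ sndE.left := ⟨_, rfl⟩
  haveI : Etale ψ := by rw [hψ]; infer_instance
  obtain ⟨γ, hγ⟩ : ∃ γ : CommRingCat.of (sq.A ⧸ sq.I) ⟶ Γ(E.left, E1), Spec.map γ = ψ :=
    ⟨Spec.preimage ψ, Spec.map_preimage ψ⟩
  have hγet : γ.hom.Etale :=
    (HasRingHomProperty.Spec_iff (P := @Etale)).1 (by rw [hγ]; infer_instance)
  letI algC₀ : Algebra (sq.A ⧸ sq.I) Γ(E.left, E1) := γ.hom.toAlgebra
  haveI : Algebra.Etale (sq.A ⧸ sq.I) Γ(E.left, E1) := hγet
  obtain ⟨qq, hqq⟩ : ∃ qq : PrimeSpectrum Γ(E.left, E1),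
      qq = hE1.primeIdealOf ⟨e₀, he₀E1⟩ := ⟨_, rfl⟩
  haveI := qq.isPrime
  obtain ⟨C, instC, algAC, θ, q'', hCet, hq''prime, hq''comap, hθ⟩ :=
    ring_part sq.A sq.I Γ(E.left, E1) qq.asIdeal
  have hPB := isPullback_quot sq.A sq.I C
  -- the morphism `Spec (C ⧸ IC) ⟶ E`
  obtain ⟨zE, hzE⟩ : ∃ zE : Spec (CommRingCat.of (C ⧸ sq.I.map (algebraMap sq.A C))) ⟶ E.left,
      zE = Spec.map (CommRingCat.ofHom θ) ≫ hE1.fromSpec := ⟨_, rfl⟩
  have hzs : zE ≫ sndE.left = Spec.map (CommRingCat.ofHom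
      (algebraMap (sq.A ⧸ sq.I) (C ⧸ sq.I.map (algebraMap sq.A C)))) := by
    have h1 : γ ≫ CommRingCat.ofHom θ = CommRingCat.ofHom
        (algebraMap (sq.A ⧸ sq.I) (C ⧸ sq.I.map (algebraMap sq.A C))) := by
      ext x
      exact hθ x
    calc zE ≫ sndE.left = Spec.map (CommRingCat.ofHom θ) ≫ (hE1.fromSpec ≫ sndE.left) := by
          rw [hzE, Category.assoc]
      _ = Spec.map (CommRingCat.ofHom θ) ≫ Spec.map γ := by rw [← hψ, hγ]
      _ = Spec.map (γ ≫ CommRingCat.ofHom θ) := (Spec.map_comp _ _).symm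
      _ = _ := by rw [h1]
  have hzw : zE ≫ E.hom = (ZC sq C).hom := by
    have hw := Over.w sndE
    calc zE ≫ E.hom = zE ≫ (sndE.left ≫ sq.ptT.hom) := by rw [hw]
      _ = (zE ≫ sndE.left) ≫ sq.ptT.hom := (Category.assoc _ _ _).symm
      _ = (Spec.map (CommRingCat.ofHom (algebraMap (sq.A ⧸ sq.I)
            (C ⧸ sq.I.map (algebraMap sq.A C)))) ≫
            Spec.map (CommRingCat.ofHom (Ideal.Quotient.mk sq.I))) ≫ sq.str := by
          rw [hzs]; simp only [Over.mk_hom, Category.assoc]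
      _ = (Spec.map (CommRingCat.ofHom (Ideal.Quotient.mk (sq.I.map (algebraMap sq.A C)))) ≫
            Spec.map (CommRingCat.ofHom (algebraMap sq.A C))) ≫ sq.str := by rw [hPB.w]
      _ = (ZC sq C).hom := by simp only [Over.mk_hom, Category.assoc]
  obtain ⟨zO, hzO⟩ : ∃ zO : ZC sq C ⟶ E, zO.left = zE := ⟨Over.homMk zE hzw, rfl⟩
  have hz' : zO.left ≫ sndE.left = Spec.map (CommRingCat.ofHom
      (algebraMap (sq.A ⧸ sq.I) (C ⧸ sq.I.map (algebraMap sq.A C)))) := by
    rw [hzO]; exact hzs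
  obtain ⟨l, hl1, hl2⟩ := core sq C a hab E fstE sndE sqE zO hz'
  refine ⟨UC sq C, gC sq C, l, ?_, ?_, ?_, hl1, hl2⟩
  · show IsAffine (Spec (CommRingCat.of C))
    infer_instance
  · show Etale (Spec.map (CommRingCat.ofHom (algebraMap sq.A C)))
    exact (HasRingHomProperty.Spec_iff (P := @Etale)).2 (RingHom.etale_algebraMap.2 hCet)
  · obtain ⟨u₀, hu₀⟩ : ∃ u₀ : PrimeSpectrum (C ⧸ sq.I.map (algebraMap sq.A C)),
        u₀.asIdeal = q'' := ⟨⟨q'', hq''prime⟩, rfl⟩
    have h1 : (Spec.map (CommRingCat.ofHom θ)) u₀ = qq := by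
      apply PrimeSpectrum.ext
      show Ideal.comap θ u₀.asIdeal = qq.asIdeal
      rw [hu₀]; exact hq''comap
    have h2 : zE u₀ = e₀ := by
      rw [hzE, Scheme.Hom.comp_apply, h1, hqq]
      exact hE1.fromSpec_primeIdealOf ⟨e₀, he₀E1⟩
    refine ⟨(Spec.map (CommRingCat.ofHom
      (Ideal.Quotient.mk (sq.I.map (algebraMap sq.A C))))) u₀, ?_⟩
    show (Spec.map (CommRingCat.ofHom (algebraMap sq.A C)))
      ((Spec.map (CommRingCat.ofHom (Ideal.Quotient.mk (sq.I.map (algebraMap sq.A C))))) u₀) = t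
    rw [← Scheme.Hom.comp_apply, ← hPB.w, ← hzs, Scheme.Hom.comp_apply, Scheme.Hom.comp_apply,
      h2]
    exact (congrArg (fun x => (Spec.map (CommRingCat.ofHom (Ideal.Quotient.mk sq.I))) x)
      he₀).trans ht₀

end Groth.Agent.Lib.FSmoothCompH7
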