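import Mathlib
import Groth.Prelude
import Groth.Agent.Lib.NormPic1_helper5

/-!
# Frobenius splittings and cohomology of invertible modules, I (helper5)
APPEND-ONLY once landed.

* `abHom`: a morphism of abelian sheaves `toAb F ⟶ toAb G` from sectionwise additive maps.
* `frobL`: the `p`-th power map `L ⟶ L^{⊗ p}` of abelian sheaves, in characteristic `p`.
* `retrL`: the retraction `L^{⊗ p} ⟶ L` induced by a Frobenius splitting.
* `frobL_retrL`: `frobL ≫ retrL = 𝟙`.
* `smulAb_frobL`: `frobL` is `p`-semilinear for global functions.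
-/

set_option autoImplicit false

namespace Groth.Agent.FSplit

open AlgebraicGeometry CategoryTheory CategoryTheory.Limits TopologicalSpace Opposite
open QcqsLoc GenLocH8 FLFH8 TensH8
open Groth.Agent.NormPic (selfFrame)

universe u

/-- Freshman's dream in a commutative ring in which the prime `p` vanishes. -/
theorem add_pow_of_natCast_eq_zero {R : Type*} [CommRing R] (p : ℕ) [hpp : Fact p.Prime]
    (hp : (p : R) = 0) (x y : R) : (x + y) ^ p = x ^ p + y ^ p := by
  rcases subsingleton_or_nontrivial R with hs | hn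
  · exact Subsingleton.elim _ _
  · haveI : CharP R p := (CharP.charP_iff_prime_eq_zero hpp.out).2 hp
    exact add_pow_char x y p

variable {X : Scheme.{u}}

section AbHom

/-- A morphism of the underlying abelian sheaves from sectionwise additive maps. -/
noncomputable def abHom {F G : X.Modules} (f : ∀ U : X.Opens, Γ(F, U) →+ Γ(G, U))
    (hf : ∀ {U V : X.Opens} (h : V ≤ U) (t : Γ(F, U)), rF G h (f U t) = f V (rF F h t)) :
    Coh.toAb F ⟶ Coh.toAb G :=
  ⟨{ app := fun U => AddCommGrpCat.ofHom (f U.unop)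
     naturality := by
       intro U V g
       ext t
       exact (hf (leOfHom g.unop) t).symm }⟩

theorem abHom_app {F G : X.Modules} (f : ∀ U : X.Opens, Γ(F, U) →+ Γ(G, U))
    (hf : ∀ {U V : X.Opens} (h : V ≤ U) (t : Γ(F, U)), rF G h (f U t) = f V (rF F h t))
    (U : X.Opens) (t : Γ(F, U)) : (abHom f hf).hom.app (op U) t = f U t := rfl

end AbHom

section Frob

variable {L : X.Modules}

theorem natCast_eq_zero_of_top (p : ℕ) (hp : (p : Γ(X, ⊤)) = 0) (W : X.Opens) :
    (p : Γ(X, W)) = 0 := by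
  have h := congrArg (rX (le_top : W ≤ ⊤)) hp
  rwa [map_natCast, map_zero] at h

/-- The `p`-th tensor power of local sections is additive in characteristic `p`. -/
theorem lpow_add (hL : PicF.IsInvertible L) (p : ℕ) [hpp : Fact p.Prime]
    (hp : (p : Γ(X, ⊤)) = 0) (U : X.Opens) (t t' : Γ(L, U)) :
    (CycCov.lpow L U (t + t') p : Γ(CohB1.tensorPow L p, U)) =
      CycCov.lpow L U t p + CycCov.lpow L U t' p := by
  apply eq_of_cover (CohB1.tensorPow L p)
  intro x hx
  obtain ⟨W, -, hxW, hWU, e, he⟩ := exists_isGen_le hL x U hx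
  refine ⟨W, hWU, hxW, ?_⟩
  obtain ⟨a, ha⟩ := (he W le_rfl).1 (rF L hWU t)
  obtain ⟨b, hb⟩ := (he W le_rfl).1 (rF L hWU t')
  rw [SubExt.rF_self] at ha hb
  have hpW := natCast_eq_zero_of_top p hp W
  have e1 : rF (CohB1.tensorPow L p) hWU
      ((CycCov.lpow L U t p : Γ(CohB1.tensorPow L p, U)) + CycCov.lpow L U t' p) =
      rF (CohB1.tensorPow L p) hWU (CycCov.lpow L U t p) +
        rF (CohB1.tensorPow L p) hWU (CycCov.lpow L U t' p) := map_add _ _ _
  have e2 : rF L hWU (t + t') = (a + b) • e := by rw [map_add, ha, hb, add_smul]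
  rw [e1, rF_lpow, rF_lpow, rF_lpow, e2, ha, hb, lpow_smul, lpow_smul, lpow_smul,
    add_pow_of_natCast_eq_zero p hpW, add_smul]

/-- The `p`-th power map `L ⟶ L^{⊗ p}` on sections, as an additive map. -/
noncomputable def frobSec (hL : PicF.IsInvertible L) (p : ℕ) [hpp : Fact p.Prime]
    (hp : (p : Γ(X, ⊤)) = 0) (U : X.Opens) : Γ(L, U) →+ Γ(CohB1.tensorPow L p, U) :=
  AddMonoidHom.mk' (fun t => (CycCov.lpow L U t p : Γ(CohB1.tensorPow L p, U)))
    (fun t t' => lpow_add hL p hp U t t')

/-- The `p`-th power map `L ⟶ L^{⊗ p}` of abelian sheaves. -/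
noncomputable def frobL (hL : PicF.IsInvertible L) (p : ℕ) [hpp : Fact p.Prime]
    (hp : (p : Γ(X, ⊤)) = 0) : Coh.toAb L ⟶ Coh.toAb (CohB1.tensorPow L p) :=
  abHom (frobSec hL p hp) (fun h t => rF_lpow L h t p)

theorem frobL_app (hL : PicF.IsInvertible L) (p : ℕ) [hpp : Fact p.Prime]
    (hp : (p : Γ(X, ⊤)) = 0) (U : X.Opens) (t : Γ(L, U)) :
    (frobL hL p hp).hom.app (op U) t = (CycCov.lpow L U t p : Γ(CohB1.tensorPow L p, U)) := rfl

end Frob

section Retr

variable {L : X.Modules}

/-- An additive endomorphism of the structure sheaf, sectionwise on functions. -/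
noncomputable def sU (s : Coh.toAb (Coh.structureModule X) ⟶ Coh.toAb (Coh.structureModule X))
    (W : X.Opens) (c : Γ(X, W)) : Γ(X, W) := s.hom.app (op W) c

theorem sU_add (s : Coh.toAb (Coh.structureModule X) ⟶ Coh.toAb (Coh.structureModule X))
    (W : X.Opens) (c c' : Γ(X, W)) : sU s W (c + c') = sU s W c + sU s W c' :=
  map_add (s.hom.app (op W)).hom c c'

theorem sU_res (s : Coh.toAb (Coh.structureModule X) ⟶ Coh.toAb (Coh.structureModule X))
    {W W' : X.Opens} (h : W' ≤ W) (c : Γ(X, W)) : rX h (sU s W c) = sU s W' (rX h c) := by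
  have := ConcreteCategory.congr_hom (s.hom.naturality (homOfLE h).op) c
  exact this.symm

theorem coefOf_add {M : X.Modules} {N : ℕ} (Φ : Frame L M N) {U : X.Opens} (τ τ' : Γ(M, U))
    (W : X.Opens) (hW : W ≤ U) (e : Γ(L, W)) (he : IsGen L W e) :
    Φ.coefOf (τ + τ') W hW e he = Φ.coefOf τ W hW e he + Φ.coefOf τ' W hW e he := by
  symm
  apply Φ.coefOf_unique
  rw [map_add, add_smul, ← Φ.coefOf_spec, ← Φ.coefOf_spec]

variable (hL : PicF.IsInvertible L) (p : ℕ)
  (s : Coh.toAb (Coh.structureModule X) ⟶ Coh.toAb (Coh.structureModule X))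
  (hlin : ∀ (U : X.Opens) (a b : Γ(X, U)), sU s U (a ^ p * b) = a * sU s U b)

include hL hlin in
theorem exists_retrSec (U : X.Opens) (τ : Γ(CohB1.tensorPow L p, U)) :
    ∃ σ : Γ(L, U), ∀ (W : X.Opens) (hW : W ≤ U) (e : Γ(L, W)) (he : IsGen L W e),
      rF L hW σ = sU s W ((Frame.pow L p).coefOf τ W hW e he) • e := by
  obtain ⟨σ, hσ⟩ := (selfFrame L).exists_section hL U
    (fun W hW e he => sU s W ((Frame.pow L p).coefOf τ W hW e he))
    (fun W hW e he W' h => by
      rw [(Frame.pow L p).coefOf_res τ W hW e he h, sU_res])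
    (fun W hW e he u he' => by
      rw [(Frame.pow L p).coefOf_change τ W hW e he u he', pow_one, mul_comm, hlin, mul_comm])
  exact ⟨σ, hσ⟩

/-- The retraction on sections. -/
noncomputable def retrSec (U : X.Opens) (τ : Γ(CohB1.tensorPow L p, U)) : Γ(L, U) :=
  Classical.choose (exists_retrSec hL p s hlin U τ)

theorem retrSec_spec (U : X.Opens) (τ : Γ(CohB1.tensorPow L p, U)) (W : X.Opens) (hW : W ≤ U)
    (e : Γ(L, W)) (he : IsGen L W e) :
    rF L hW (retrSec hL p s hlin U τ) = sU s W ((Frame.pow L p).coefOf τ W hW e he) • e :=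
  Classical.choose_spec (exists_retrSec hL p s hlin U τ) W hW e he

theorem retrSec_unique (U : X.Opens) (τ : Γ(CohB1.tensorPow L p, U)) (σ' : Γ(L, U))
    (h : ∀ (W : X.Opens) (hW : W ≤ U) (e : Γ(L, W)) (he : IsGen L W e),
      rF L hW σ' = sU s W ((Frame.pow L p).coefOf τ W hW e he) • e) :
    σ' = retrSec hL p s hlin U τ := by
  apply eq_of_cover L
  intro x hx
  obtain ⟨W, -, hxW, hWU, e, he⟩ := exists_isGen_le hL x U hx
  exact ⟨W, hWU, hxW, by rw [h W hWU e he, retrSec_spec hL p s hlin U τ W hWU e he]⟩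

theorem retrSec_add (U : X.Opens) (τ τ' : Γ(CohB1.tensorPow L p, U)) :
    retrSec hL p s hlin U (τ + τ') = retrSec hL p s hlin U τ + retrSec hL p s hlin U τ' := by
  symm
  apply retrSec_unique
  intro W hW e he
  rw [map_add, retrSec_spec hL p s hlin U τ W hW e he, retrSec_spec hL p s hlin U τ' W hW e he,
    coefOf_add, sU_add, add_smul]

theorem rF_retrSec {U V : X.Opens} (h : V ≤ U) (τ : Γ(CohB1.tensorPow L p, U)) :
    rF L h (retrSec hL p s hlin U τ) =
      retrSec hL p s hlin V (rF (CohB1.tensorPow L p) h τ) := by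
  apply retrSec_unique
  intro W hW e he
  rw [rF_rF, retrSec_spec hL p s hlin U τ W (hW.trans h) e he]
  have : (Frame.pow L p).coefOf τ W (hW.trans h) e he =
      (Frame.pow L p).coefOf (rF (CohB1.tensorPow L p) h τ) W hW e he := by
    apply (Frame.pow L p).coefOf_unique
    rw [rF_rF]
    exact (Frame.pow L p).coefOf_spec τ W (hW.trans h) e he
  rw [this]

/-- The retraction `L^{⊗ p} ⟶ L` of abelian sheaves induced by a Frobenius splitting. -/
noncomputable def retrL : Coh.toAb (CohB1.tensorPow L p) ⟶ Coh.toAb L :=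
  abHom (fun U => AddMonoidHom.mk' (retrSec hL p s hlin U) (retrSec_add hL p s hlin U))
    (fun h τ => rF_retrSec hL p s hlin h τ)

theorem retrL_app (U : X.Opens) (τ : Γ(CohB1.tensorPow L p, U)) :
    (retrL hL p s hlin).hom.app (op U) τ = retrSec hL p s hlin U τ := rfl

end Retr

section Main

variable {L : X.Modules} (hL : PicF.IsInvertible L) (p : ℕ) [hpp : Fact p.Prime]
  (hp : (p : Γ(X, ⊤)) = 0)
  (s : Coh.toAb (Coh.structureModule X) ⟶ Coh.toAb (Coh.structureModule X))
  (hlin : ∀ (U : X.Opens) (a b : Γ(X, U)), sU s U (a ^ p * b) = a * sU s U b)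
  (h1 : ∀ W : X.Opens, sU s W 1 = 1)

include h1 in
theorem retrSec_lpow (U : X.Opens) (t : Γ(L, U)) :
    retrSec hL p s hlin U (CycCov.lpow L U t p) = t := by
  symm
  apply retrSec_unique
  intro W hW e he
  obtain ⟨a, ha⟩ := (he W le_rfl).1 (rF L hW t)
  rw [SubExt.rF_self] at ha
  have hc : (Frame.pow L p).coefOf (CycCov.lpow L U t p : Γ(CohB1.tensorPow L p, U)) W hW e he =
      a ^ p := by
    symm
    apply (Frame.pow L p).coefOf_unique
    rw [rF_lpow, ha, lpow_smul]
    rfl
  have h2 : sU s W (a ^ p) = a := by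
    have := hlin W a 1
    rw [mul_one, h1, mul_one] at this
    exact this
  rw [hc, ha, h2]

include h1 in
theorem frobL_retrL : frobL hL p hp ≫ retrL hL p s hlin = 𝟙 _ := by
  ext U t
  exact retrSec_lpow hL p s hlin h1 U.unop t

theorem smulAb_frobL (r : Coh.Γtop X) :
    Coh.smulAb L r ≫ frobL hL p hp =
      frobL hL p hp ≫ Coh.smulAb (CohB1.tensorPow L p) (r ^ p) := by
  ext U t
  have h := lpow_smul L U.unop (Coh.resTop X U r) t p
  have h2 : ((Coh.resTop X U r : Γ(X, U.unop)) ^ p) = (Coh.resTop X U (r ^ p) : Γ(X, U.unop)) :=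
    (map_pow (Coh.resTop X U) r p).symm
  exact h.trans (congrArg (fun c : Γ(X, U.unop) =>
    c • (CycCov.lpow L U.unop t p : Γ(CohB1.tensorPow L p, U.unop))) h2)

include s hlin h1 in
theorem H_frobL_injective (i : ℕ) :
    Function.Injective (Sheaf.H.map (frobL hL p hp) i) := by
  intro x y hxy
  have := congrArg (Sheaf.H.map (retrL hL p s hlin) i) hxy
  rwa [← Sheaf.H.map_comp_apply, ← Sheaf.H.map_comp_apply, frobL_retrL hL p hp s hlin h1,
    Sheaf.H.map_id_apply, Sheaf.H.map_id_apply] at this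

theorem H_frobL_smul (i : ℕ) (r : Coh.Γtop X) (x : Coh.HH X L i) :
    Sheaf.H.map (frobL hL p hp) i (r • x) = r ^ p • Sheaf.H.map (frobL hL p hp) i x := by
  change Sheaf.H.map (frobL hL p hp) i (Sheaf.H.map (Coh.smulAb L r) i x) =
    Sheaf.H.map (Coh.smulAb (CohB1.tensorPow L p) (r ^ p)) i (Sheaf.H.map (frobL hL p hp) i x)
  rw [← Sheaf.H.map_comp_apply, ← Sheaf.H.map_comp_apply, smulAb_frobL]

end Main

/-- An injective additive `p`-semilinear map between finite-dimensional vector spaces over a perfect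
field does not decrease the dimension. -/
theorem finrank_le_of_semilinear {k V W : Type*} [Field k] (p : ℕ) [Fact p.Prime] [CharP k p]
    [PerfectRing k p] [AddCommGroup V] [Module k V] [AddCommGroup W] [Module k W]
    [Module.Finite k V] [Module.Finite k W] (f : V →+ W) (hf : Function.Injective f)
    (hsl : ∀ (c : k) (v : V), f (c • v) = c ^ p • f v) :
    Module.finrank k V ≤ Module.finrank k W := by
  let b := Module.finBasis k V
  have hli : LinearIndependent k (fun i => f (b i)) := by
    rw [Fintype.linearIndependent_iff]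
    intro g hg j
    let d : Fin (Module.finrank k V) → k := fun i => (frobeniusEquiv k p).symm (g i)
    have hd : ∀ i, d i ^ p = g i := fun i => frobeniusEquiv_symm_pow_p k p (g i)
    have h2 : f (∑ i, d i • b i) = 0 := by
      rw [map_sum, ← hg]
      refine Finset.sum_congr rfl (fun i _ => ?_)
      rw [hsl, hd]
    have h3 : ∑ i, d i • b i = 0 := hf (by rw [h2, map_zero])
    have h4 := Fintype.linearIndependent_iff.1 b.linearIndependent d h3 j
    rw [← hd j, h4, zero_pow (Fact.out : p.Prime).ne_zero]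
  have := hli.fintype_card_le_finrank
  rwa [Fintype.card_fin] at this

end Groth.Agent.FSplit
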