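import Mathlib
import Groth.Prelude
import Groth.Agent.Lib.FSplit1_helper5
import Groth.Agent.Lib.ProperFin9_helper9

/-!
# Frobenius splittings and cohomology, II: the cokernel of Frobenius (helper5)
APPEND-ONLY once landed.

* `surjective_of_semilinear`: an injective additive `p`-semilinear endomorphism of a finite
  dimensional vector space over a perfect field is surjective.
* `subsingleton_H_cokernel`: on a Frobenius split proper scheme over a perfect field, the cokernel
  of the `p`-th power map on `O_X` has no cohomology.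
-/

set_option autoImplicit false

namespace Groth.Agent.FSplit

open AlgebraicGeometry CategoryTheory CategoryTheory.Limits TopologicalSpace Opposite

universe u

/-- An injective additive `p`-semilinear endomorphism of a finite dimensional vector space over a
perfect field is surjective. -/
theorem surjective_of_semilinear {k V : Type*} [Field k] (p : ℕ) [Fact p.Prime] [CharP k p]
    [PerfectRing k p] [AddCommGroup V] [Module k V] [Module.Finite k V] (f : V →+ V)
    (hf : Function.Injective f) (hsl : ∀ (c : k) (v : V), f (c • v) = c ^ p • f v) :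
    Function.Surjective f := by
  let W' : Submodule k V :=
    { carrier := Set.range f
      add_mem' := by
        rintro _ _ ⟨a, rfl⟩ ⟨b, rfl⟩
        exact ⟨a + b, map_add f a b⟩
      zero_mem' := ⟨0, map_zero f⟩
      smul_mem' := by
        rintro c _ ⟨a, rfl⟩
        refine ⟨(frobeniusEquiv k p).symm c • a, ?_⟩
        rw [hsl, frobeniusEquiv_symm_pow_p] }
  let f' : V →+ W' :=
    { toFun := fun v => ⟨f v, v, rfl⟩
      map_zero' := Subtype.ext (map_zero f)
      map_add' := fun a b => Subtype.ext (map_add f a b) }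
  have h1 : Module.finrank k V ≤ Module.finrank k W' :=
    finrank_le_of_semilinear p f' (fun a b hab => hf (congrArg Subtype.val hab))
      (fun c v => Subtype.ext (hsl c v))
  have h2 : W' = ⊤ :=
    Submodule.eq_top_of_finrank_eq (le_antisymm (Submodule.finrank_le W') h1)
  intro w
  have h3 : w ∈ W' := h2 ▸ Submodule.mem_top
  exact h3

variable {X : Scheme.{u}}

/-- The `p`-th power map on `O_X` is `p`-semilinear for global functions. -/
theorem smulAb_pow (p : ℕ)
    (φ : Coh.toAb (Coh.structureModule X) ⟶ Coh.toAb (Coh.structureModule X))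
    (hφ : ∀ (U : X.Opens) (t : Γ(X, U)), φ.hom.app (op U) t = t ^ p) (r : Coh.Γtop X) :
    Coh.smulAb (Coh.structureModule X) r ≫ φ =
      φ ≫ Coh.smulAb (Coh.structureModule X) (r ^ p) := by
  ext U t
  obtain ⟨a, ha⟩ : ∃ a : Γ(X, U.unop), a = Coh.resTop X U r := ⟨_, rfl⟩
  obtain ⟨t', ht'⟩ : ∃ t' : Γ(X, U.unop), t' = t := ⟨_, rfl⟩
  have h1 := hφ U.unop (a * t')
  have h2 := hφ U.unop t'
  have h3 : @id Γ(X, U.unop) (Coh.resTop X U (r ^ p)) = a ^ p := by
    rw [ha]
    exact map_pow (Coh.resTop X U) r p
  have goal : @id Γ(X, U.unop) (φ.hom.app (op U.unop) (a * t')) =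
      a ^ p * @id Γ(X, U.unop) (φ.hom.app (op U.unop) t') := by
    show φ.hom.app (op U.unop) (a * t') = _
    rw [h1, mul_pow]
    congr 1
    exact h2.symm
  have goal2 : @id Γ(X, U.unop) (φ.hom.app (op U.unop) (a * t')) =
      @id Γ(X, U.unop) (Coh.resTop X U (r ^ p)) * @id Γ(X, U.unop) (φ.hom.app (op U.unop) t') := by
    rw [h3]
    exact goal
  subst ha ht'
  exact goal2

/-- On a Frobenius split scheme proper over a perfect field, the cokernel of the `p`-th power map on
the structure sheaf has vanishing cohomology. -/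
theorem subsingleton_H_cokernel (p : ℕ) [Fact p.Prime] (k : Type u) [Field k] [CharP k p]
    [PerfectRing k p] [X.Over (Spec (CommRingCat.of k))] [IsProper (X ↘ Spec (CommRingCat.of k))]
    (φ : Coh.toAb (Coh.structureModule X) ⟶ Coh.toAb (Coh.structureModule X))
    (hφ : ∀ (U : X.Opens) (t : Γ(X, U)), φ.hom.app (op U) t = t ^ p)
    (s : Coh.toAb (Coh.structureModule X) ⟶ Coh.toAb (Coh.structureModule X))
    (hs : φ ≫ s = 𝟙 _) (i : ℕ) : Subsingleton (Sheaf.H (Limits.cokernel φ) i) := by
  have hsl : ∀ (c : k) (v : Coh.HH X (Coh.structureModule X) i),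
      Sheaf.H.map φ i (c • v) = c ^ p • Sheaf.H.map φ i v := by
    intro c v
    change Sheaf.H.map φ i (Sheaf.H.map (Coh.smulAb _
        (Coh.toGlobal (X ↘ Spec (CommRingCat.of k)) c)) i v) =
      Sheaf.H.map (Coh.smulAb _ (Coh.toGlobal (X ↘ Spec (CommRingCat.of k)) (c ^ p))) i
        (Sheaf.H.map φ i v)
    rw [← Sheaf.H.map_comp_apply, ← Sheaf.H.map_comp_apply, map_pow, smulAb_pow p φ hφ]
  have hinj : Function.Injective (Sheaf.H.map φ i) := by
    intro x y hxy
    have := congrArg (Sheaf.H.map s i) hxy
    rwa [← Sheaf.H.map_comp_apply, ← Sheaf.H.map_comp_apply, hs, Sheaf.H.map_id_apply,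
      Sheaf.H.map_id_apply] at this
  haveI : Module.Finite k (Coh.HH X (Coh.structureModule X) i) :=
    ProperFinH9.finite_HH_of_proper k X _
      (ProperFinH9.isCoh_of_isInvertible TensH8.isInvertible_structureModule) i
  have hsurj := surjective_of_semilinear p (Sheaf.H.map φ i) hinj hsl
  -- the splitting
  have hP : φ ≫ (𝟙 _ - s ≫ φ) = 0 := by
    rw [Preadditive.comp_sub, Category.comp_id, ← Category.assoc, hs, Category.id_comp, sub_self]
  have hj : Limits.cokernel.desc φ (𝟙 _ - s ≫ φ) hP ≫ Limits.cokernel.π φ = 𝟙 _ := by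
    rw [← cancel_epi (Limits.cokernel.π φ), ← Category.assoc, Limits.cokernel.π_desc,
      Category.comp_id, Preadditive.sub_comp, Category.id_comp, Category.assoc,
      Limits.cokernel.condition, Limits.comp_zero, sub_zero]
  have key : ∀ x : Sheaf.H (Limits.cokernel φ) i, x = 0 := by
    intro x
    have h1 : x = Sheaf.H.map (Limits.cokernel.π φ) i
        (Sheaf.H.map (Limits.cokernel.desc φ (𝟙 _ - s ≫ φ) hP) i x) := by
      rw [← Sheaf.H.map_comp_apply, hj, Sheaf.H.map_id_apply]
    obtain ⟨w, hw⟩ := hsurj (Sheaf.H.map (Limits.cokernel.desc φ (𝟙 _ - s ≫ φ) hP) i x)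
    rw [h1, ← hw, ← Sheaf.H.map_comp_apply, Limits.cokernel.condition]
    change ((Sheaf.functorH _ i).map (0 : Coh.toAb (Coh.structureModule X) ⟶
      Limits.cokernel φ)).hom w = 0
    rw [Functor.map_zero]
    rfl
  exact ⟨fun x y => by rw [key x, key y]⟩

end Groth.Agent.FSplit
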