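import Mathlib
import Groth.Prelude
import Groth.Agent.Lib.FibMono1_helper8
import Groth.Agent.Lib.PullTensIso1_helper3
import Groth.Agent.Lib.RestrStalk1_helper8
import Groth.Agent.Lib.RefHull8_helper8
import Groth.Agent.Lib.SDivGen_helper8
import Groth.Agent.Lib.PCohFT2_lead

/-!
# Descent of finite type along flat surjective open morphisms (helper8)

APPEND-ONLY once landed.
-/

set_option autoImplicit false
set_option linter.all false
set_option maxHeartbeats 1600000
set_option backward.isDefEq.respectTransparency false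
set_option backward.isDefEq.respectTransparency.types false
set_option backward.defeqAttrib.useBackward true

universe u
open CategoryTheory CategoryTheory.Limits AlgebraicGeometry Opposite TopologicalSpace TensorProduct

namespace Groth.Agent.Lib.FTDescH8

open Groth.Agent.Lib.StalkSkyL QcqsLoc Groth.Agent.Lib.StalkTensH3 Groth.Agent.Lib.PullTensIsoH3

noncomputable section

/-! ### algebra -/

theorem span_eq_top_of_faithfullyFlat {R S N : Type*} [CommRing R] [CommRing S] [Algebra R S]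
    [Module.FaithfullyFlat R S] [AddCommGroup N] [Module R N] {ι : Type*} (t : ι → N)
    (h : Submodule.span S (Set.range fun i => (1 : S) ⊗ₜ[R] t i) = ⊤) :
    Submodule.span R (Set.range t) = ⊤ := by
  set T := Submodule.span R (Set.range t) with hT
  have hsub : Subsingleton (S ⊗[R] (N ⧸ T)) := by
    have hsurj : Function.Surjective (T.mkQ.baseChange S) :=
      LinearMap.lTensor_surjective S T.mkQ_surjective
    have hker : LinearMap.ker (T.mkQ.baseChange S) = ⊤ := by
      rw [eq_top_iff, ← h, Submodule.span_le]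
      rintro _ ⟨i, rfl⟩
      show T.mkQ.baseChange S ((1 : S) ⊗ₜ[R] t i) = 0
      rw [LinearMap.baseChange_tmul]
      have : T.mkQ (t i) = 0 := by
        rw [Submodule.mkQ_apply, Submodule.Quotient.mk_eq_zero]
        exact Submodule.subset_span ⟨i, rfl⟩
      rw [this, TensorProduct.tmul_zero]
    constructor
    intro a b
    obtain ⟨a', rfl⟩ := hsurj a
    obtain ⟨b', rfl⟩ := hsurj b
    have ha : a' ∈ LinearMap.ker (T.mkQ.baseChange S) := by rw [hker]; trivial
    have hb : b' ∈ LinearMap.ker (T.mkQ.baseChange S) := by rw [hker]; trivial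
    rw [LinearMap.mem_ker.mp ha, LinearMap.mem_ker.mp hb]
  haveI := hsub
  have h2 : Subsingleton (N ⧸ T) := Module.FaithfullyFlat.lTensor_reflects_triviality R S (N ⧸ T)
  exact Submodule.Quotient.subsingleton_iff.mp h2

theorem span_one_tmul_eq_top {R S N : Type*} [CommRing R] [CommRing S] [Algebra R S]
    [AddCommGroup N] [Module R N] {ι : Type*} (t : ι → N)
    (h : Submodule.span R (Set.range t) = ⊤) :
    Submodule.span S (Set.range fun i => (1 : S) ⊗ₜ[R] t i) = ⊤ := by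
  have h1 := Submodule.baseChange_span (R := R) (M := N) (A := S) (Set.range t)
  rw [h, Submodule.baseChange_top] at h1
  rw [h1]
  congr 1
  ext z
  constructor
  · rintro ⟨i, rfl⟩
    exact ⟨t i, ⟨i, rfl⟩, rfl⟩
  · rintro ⟨_, ⟨i, rfl⟩, rfl⟩
    exact ⟨i, rfl⟩

/-! ### spreading out generation -/

variable {X : Scheme.{u}}

/-- the span of the germs of the sections `m j` -/
def Sp (M : X.Modules) {U : X.Opens} {n : ℕ} (m : Fin n → Γ(M, U)) (x : X) (hx : x ∈ U) :
    Submodule (X.presheaf.stalk x) (M.presheaf.stalk x) :=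
  Submodule.span (X.presheaf.stalk x) (Set.range fun j => M.presheaf.germ U x hx (m j))

/-- germs which stay in the span of the `m j` near `x` -/
def goodSub (M : X.Modules) {U : X.Opens} {n : ℕ} (m : Fin n → Γ(M, U)) (x : X) (hx : x ∈ U) :
    Submodule (X.presheaf.stalk x) (M.presheaf.stalk x) where
  carrier := {z | ∃ (O : X.Opens) (hxO : x ∈ O) (hOU : O ≤ U) (s : Γ(M, O)),
    M.presheaf.germ O x hxO s = z ∧
      ∀ (x' : X) (h1 : x' ∈ O), M.presheaf.germ O x' h1 s ∈ Sp M m x' (hOU h1)}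
  zero_mem' := ⟨U, hx, le_rfl, 0, map_zero _, fun x' h1 => by rw [map_zero]; exact Submodule.zero_mem _⟩
  add_mem' := by
    rintro _ _ ⟨O₁, hx₁, hO₁, s₁, rfl, h₁⟩ ⟨O₂, hx₂, hO₂, s₂, rfl, h₂⟩
    refine ⟨O₁ ⊓ O₂, ⟨hx₁, hx₂⟩, inf_le_left.trans hO₁,
      rF M inf_le_left s₁ + rF M inf_le_right s₂, ?_, ?_⟩
    · rw [map_add, SecOrdH8.germ_rF, SecOrdH8.germ_rF]
    · intro x' h'
      rw [map_add, SecOrdH8.germ_rF, SecOrdH8.germ_rF]
      exact Submodule.add_mem _ (h₁ x' h'.1) (h₂ x' h'.2)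
  smul_mem' := by
    rintro r _ ⟨O₁, hx₁, hO₁, s₁, rfl, h₁⟩
    obtain ⟨O₂, hx₂, a, rfl⟩ := TopCat.Presheaf.exists_germ_eq X.presheaf r
    refine ⟨O₁ ⊓ O₂, ⟨hx₁, hx₂⟩, inf_le_left.trans hO₁,
      (rX (inf_le_right : O₁ ⊓ O₂ ≤ O₂) a • rF M (inf_le_left : O₁ ⊓ O₂ ≤ O₁) s₁ :
        Γ(M, O₁ ⊓ O₂)), ?_, ?_⟩
    · rw [Mero.germ_smul, SecOrdH8.germ_rF, SecOrdH8.germ_rX]
    · intro x' h'
      rw [Mero.germ_smul, SecOrdH8.germ_rF]
      exact Submodule.smul_mem _ _ (h₁ x' h'.1)

theorem Sp_le_goodSub (M : X.Modules) {U : X.Opens} {n : ℕ} (m : Fin n → Γ(M, U)) (x : X)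
    (hx : x ∈ U) : Sp M m x hx ≤ goodSub M m x hx := by
  unfold Sp
  rw [Submodule.span_le]
  rintro _ ⟨j, rfl⟩
  exact ⟨U, hx, le_rfl, m j, rfl, fun x' h1 => Submodule.subset_span ⟨j, rfl⟩⟩

/-- if sections of a finite type module generate the stalk at `x`, they generate all the stalks
near `x` -/
theorem exists_nhd_Sp_eq_top (M : X.Modules) (hM : CohB1.IsFT M) {U : X.Opens} {n : ℕ}
    (m : Fin n → Γ(M, U)) (x : X) (hx : x ∈ U) (h : Sp M m x hx = ⊤) :
    ∃ (U' : X.Opens) (hU' : U' ≤ U), x ∈ U' ∧ ∀ (x' : X) (hx' : x' ∈ U'),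
      Sp M m x' (hU' hx') = ⊤ := by
  obtain ⟨V, hxV, k, g, hg⟩ := RefHullH8.exists_spansOn M hM x
  have hgood : goodSub M m x hx = ⊤ := eq_top_iff.mpr (h ▸ Sp_le_goodSub M m x hx)
  have key : ∀ i : Fin k, ∀ᶠ x' in nhds x, ∃ (h1 : x' ∈ V) (h2 : x' ∈ U),
      M.presheaf.germ V x' h1 (g i) ∈ Sp M m x' h2 := by
    intro i
    have hi : M.presheaf.germ V x hxV (g i) ∈ goodSub M m x hx := by rw [hgood]; trivial
    obtain ⟨O, hxO, hOU, s, hs, hO⟩ := hi
    -- `s` and `g i` agree near `x`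
    have e1 : M.presheaf.germ (O ⊓ V) x ⟨hxO, hxV⟩ (rF M inf_le_left s) =
        M.presheaf.germ (O ⊓ V) x ⟨hxO, hxV⟩ (rF M inf_le_right (g i)) := by
      rw [SecOrdH8.germ_rF, SecOrdH8.germ_rF, hs]
    obtain ⟨W, hW, hxW, hWe⟩ := (RefHullH8.germ_eq_iff M (U := O ⊓ V) x ⟨hxO, hxV⟩ _ _).mp e1
    have hWn : (W : Set X) ∈ nhds x := W.2.mem_nhds hxW
    refine Filter.mem_of_superset hWn ?_
    intro x' hx'
    have h1 : x' ∈ O := (hW hx').1
    have h2 : x' ∈ V := (hW hx').2
    refine ⟨h2, hOU h1, ?_⟩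
    have e2 : M.presheaf.germ V x' h2 (g i) = M.presheaf.germ O x' h1 s := by
      have := congrArg (M.presheaf.germ W x' hx') hWe
      rw [rF_rF, rF_rF, SecOrdH8.germ_rF, SecOrdH8.germ_rF] at this
      exact this.symm
    rw [e2]
    exact hO x' h1
  have key2 := Filter.eventually_all.mpr key
  rw [eventually_nhds_iff] at key2
  obtain ⟨T, hT, hTo, hxT⟩ := key2
  refine ⟨(⟨T, hTo⟩ ⊓ U) ⊓ V, inf_le_left.trans inf_le_right, ⟨⟨hxT, hx⟩, hxV⟩, ?_⟩
  intro x' hx'
  rw [eq_top_iff]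
  have hT' := hT x' hx'.1.1
  have hsp := hg x' hx'.2
  rw [← hsp, Submodule.span_le]
  rintro _ ⟨i, rfl⟩
  obtain ⟨h1, h2, h3⟩ := hT' i
  exact h3

/-! ### pullbacks -/

variable {Y : Scheme.{u}}

theorem Sp_cUV_eq_top_iff (f : X ⟶ Y) (F : Y.Modules) (x : X) {V : Y.Opens}
    (hx : f.base x ∈ V) {n : ℕ} (t : Fin n → Γ(F, V)) :
    letI : Algebra (Y.presheaf.stalk (f.base x)) (X.presheaf.stalk x) :=
      (Groth.Agent.Lib.StalkSkyL.stk f x).toAlgebra
    Sp ((Scheme.Modules.pullback f).obj F) (U := f ⁻¹ᵁ V)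
        (fun j => PBH8.cUV f F le_rfl (t j)) x hx = ⊤ ↔
      Submodule.span (X.presheaf.stalk x) (Set.range fun j =>
        (1 : X.presheaf.stalk x) ⊗ₜ[Y.presheaf.stalk (f.base x)]
          (F.presheaf.germ V (f.base x) hx (t j))) = ⊤ := by
  letI : Algebra (Y.presheaf.stalk (f.base x)) (X.presheaf.stalk x) :=
    (Groth.Agent.Lib.StalkSkyL.stk f x).toAlgebra
  let e : (((Scheme.Modules.pullback f).obj F).presheaf.stalk x) ≃ₗ[X.presheaf.stalk x]
      (X.presheaf.stalk x ⊗[Y.presheaf.stalk (f.base x)] F.presheaf.stalk (f.base x)) :=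
    ((pullbackStalkIso f x).app F).toLinearEquiv
  have he : ∀ j, e (((Scheme.Modules.pullback f).obj F).presheaf.germ (f ⁻¹ᵁ V) x hx
      (PBH8.cUV f F le_rfl (t j))) =
      (1 : X.presheaf.stalk x) ⊗ₜ[Y.presheaf.stalk (f.base x)]
        (F.presheaf.germ V (f.base x) hx (t j)) :=
    fun j => pullbackStalkIso_hom_gmM f x F V hx (t j)
  have hmap : Submodule.map (e : _ →ₗ[X.presheaf.stalk x] _)
      (Sp ((Scheme.Modules.pullback f).obj F) (U := f ⁻¹ᵁ V)
        (fun j => PBH8.cUV f F le_rfl (t j)) x hx) =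
      Submodule.span (X.presheaf.stalk x) (Set.range fun j =>
        (1 : X.presheaf.stalk x) ⊗ₜ[Y.presheaf.stalk (f.base x)]
          (F.presheaf.germ V (f.base x) hx (t j))) := by
    unfold Sp
    rw [Submodule.map_span]
    congr 1
    ext z
    constructor
    · rintro ⟨_, ⟨j, rfl⟩, rfl⟩
      exact ⟨j, (he j).symm⟩
    · rintro ⟨j, rfl⟩
      exact ⟨_, ⟨j, rfl⟩, he j⟩
  rw [← hmap]
  exact (Submodule.map_eq_top_iff (e := e)).symm

theorem faithfullyFlat_stalk (f : X ⟶ Y) [Flat f] (x : X) :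
    letI : Algebra (Y.presheaf.stalk (f.base x)) (X.presheaf.stalk x) :=
      (Groth.Agent.Lib.StalkSkyL.stk f x).toAlgebra
    Module.FaithfullyFlat (Y.presheaf.stalk (f.base x)) (X.presheaf.stalk x) := by
  letI : Algebra (Y.presheaf.stalk (f.base x)) (X.presheaf.stalk x) :=
    (Groth.Agent.Lib.StalkSkyL.stk f x).toAlgebra
  haveI hflat : Module.Flat (Y.presheaf.stalk (f.base x)) (X.presheaf.stalk x) :=
    Flat.stalkMap f x
  haveI : IsLocalHom (algebraMap (Y.presheaf.stalk (f.base x)) (X.presheaf.stalk x)) :=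
    (inferInstance : IsLocalHom (f.stalkMap x).hom)
  exact Module.FaithfullyFlat.of_flat_of_isLocalHom

theorem span_germ_eq_top_of_Sp_cUV (f : X ⟶ Y) [Flat f] (F : Y.Modules) (x : X) {V : Y.Opens}
    (hx : f.base x ∈ V) {n : ℕ} (t : Fin n → Γ(F, V))
    (h : Sp ((Scheme.Modules.pullback f).obj F) (U := f ⁻¹ᵁ V)
        (fun j => PBH8.cUV f F le_rfl (t j)) x hx = ⊤) :
    Submodule.span (Y.presheaf.stalk (f.base x))
      (Set.range fun j => F.presheaf.germ V (f.base x) hx (t j)) = ⊤ := by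
  letI : Algebra (Y.presheaf.stalk (f.base x)) (X.presheaf.stalk x) :=
    (Groth.Agent.Lib.StalkSkyL.stk f x).toAlgebra
  haveI := faithfullyFlat_stalk f x
  exact span_eq_top_of_faithfullyFlat (S := X.presheaf.stalk x) _
    ((Sp_cUV_eq_top_iff f F x hx t).mp h)

theorem finite_stalk_of_pullback (f : X ⟶ Y) [Flat f] (F : Y.Modules)
    (h : CohB1.IsFT ((Scheme.Modules.pullback f).obj F)) (x : X) :
    Module.Finite (Y.presheaf.stalk (f.base x)) (F.presheaf.stalk (f.base x)) := by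
  letI : Algebra (Y.presheaf.stalk (f.base x)) (X.presheaf.stalk x) :=
    (Groth.Agent.Lib.StalkSkyL.stk f x).toAlgebra
  haveI := faithfullyFlat_stalk f x
  haveI hfin : Module.Finite (X.presheaf.stalk x)
      (((Scheme.Modules.pullback f).obj F).presheaf.stalk x) :=
    Groth.Agent.Lib.FibMonoH8.finite_stalk_of_isFT _ h x
  let e : (((Scheme.Modules.pullback f).obj F).presheaf.stalk x) ≃ₗ[X.presheaf.stalk x]
      (X.presheaf.stalk x ⊗[Y.presheaf.stalk (f.base x)] F.presheaf.stalk (f.base x)) :=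
    ((pullbackStalkIso f x).app F).toLinearEquiv
  haveI : Module.Finite (X.presheaf.stalk x)
      (X.presheaf.stalk x ⊗[Y.presheaf.stalk (f.base x)] F.presheaf.stalk (f.base x)) :=
    Module.Finite.equiv e
  exact Module.Finite.of_finite_tensorProduct_of_faithfullyFlat (X.presheaf.stalk x)

theorem exists_spansOn_of_pullback (f : X ⟶ Y) [Flat f] (hf : IsOpenMap f.base) (F : Y.Modules)
    (h : CohB1.IsFT ((Scheme.Modules.pullback f).obj F)) (x : X) :
    ∃ (W : Y.Opens) (_ : f.base x ∈ W) (n : ℕ) (t : Fin n → Γ(F, W)),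
      RefHullH8.SpansOn F W t := by
  letI : Algebra (Y.presheaf.stalk (f.base x)) (X.presheaf.stalk x) :=
    (Groth.Agent.Lib.StalkSkyL.stk f x).toAlgebra
  haveI := finite_stalk_of_pullback f F h x
  obtain ⟨n, s, hs⟩ := Module.Finite.exists_fin (R := Y.presheaf.stalk (f.base x))
    (M := F.presheaf.stalk (f.base x))
  choose O hO t' ht' using fun j => TopCat.Presheaf.exists_germ_eq F.presheaf (s j)
  let V : Y.Opens := ⟨⋂ j, (O j : Set Y), isOpen_iInter_of_finite (fun j => (O j).2)⟩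
  have hV : ∀ j, V ≤ O j := fun j y hy => Set.mem_iInter.mp hy j
  have hxV : f.base x ∈ V := Set.mem_iInter.mpr hO
  let t : Fin n → Γ(F, V) := fun j => rF F (hV j) (t' j)
  have ht : ∀ j, F.presheaf.germ V (f.base x) hxV (t j) = s j := fun j => by
    rw [SecOrdH8.germ_rF]
    exact ht' j
  have h1 : Sp ((Scheme.Modules.pullback f).obj F) (U := f ⁻¹ᵁ V)
      (fun j => PBH8.cUV f F le_rfl (t j)) x hxV = ⊤ := by
    refine (Sp_cUV_eq_top_iff f F x hxV t).mpr ?_
    apply span_one_tmul_eq_top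
    have : (fun j => F.presheaf.germ V (f.base x) hxV (t j)) = s := funext ht
    rw [this]
    exact hs
  obtain ⟨U', hU', hxU', hsp⟩ := exists_nhd_Sp_eq_top _ h _ x hxV h1
  let W : Y.Opens := ⟨f.base '' (U' : Set X), hf _ U'.2⟩
  have hWV : W ≤ V := by
    rintro _ ⟨x', hx', rfl⟩
    exact hU' hx'
  refine ⟨W, ⟨x, hxU', rfl⟩, n, fun j => rF F hWV (t j), ?_⟩
  intro y hy
  obtain ⟨x', hx', rfl⟩ := hy
  have h2 := span_germ_eq_top_of_Sp_cUV f F x' (hU' hx') t (hsp x' hx')
  have : (fun j => F.presheaf.germ W (f.base x') ⟨x', hx', rfl⟩ (rF F hWV (t j))) =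
      fun j => F.presheaf.germ V (f.base x') (hU' hx') (t j) :=
    funext fun j => SecOrdH8.germ_rF F hWV _ _ _
  rw [this]
  exact h2

/-! ### from spanning sections to generating sections -/

theorem epi_freeHom_of_spansOn (F : Y.Modules) (W : Y.Opens) {n : ℕ} (t : Fin n → Γ(F, W))
    (h : RefHullH8.SpansOn F W t) (hle : W.ι ''ᵁ ⊤ ≤ W) :
    Epi (SDivGenH8.freeHom (F.restrict W.ι)
      (fun j => (rF F hle (t j) : Γ(F.restrict W.ι, ⊤)))) := by
  set t' : Fin n → Γ(F.restrict W.ι, ⊤) := fun j => rF F hle (t j) with ht'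
  set p := SDivGenH8.freeHom (F.restrict W.ι) t' with hp
  apply epi_of_forall_stalk_epi
  intro w
  rw [ModuleCat.epi_iff_surjective]
  let R_w : Submodule ((W : Scheme.{u}).presheaf.stalk w) ((F.restrict W.ι).presheaf.stalk w) :=
    LinearMap.range ((DerSch.stalkFunctor (W : Scheme.{u}) w).map p).hom
  let ε := RestrStalkH8.restrictStalkEquiv W.ι F w
  let σ := RestrStalkH8.stalkRingEquiv W.ι w
  have hε : ∀ (o : (W : Scheme.{u}).presheaf.stalk w) (z : (F.restrict W.ι).presheaf.stalk w),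
      ε (o • z) = σ.symm o • ε z := RestrStalkH8.restrictStalkEquiv_smul W.ι F w
  have hsymm : ∀ (r : Y.presheaf.stalk (W.ι.base w)) (z : F.presheaf.stalk (W.ι.base w)),
      ε.symm (r • z) = σ r • ε.symm z := by
    intro r z
    apply ε.injective
    rw [hε, AddEquiv.apply_symm_apply, RingEquiv.symm_apply_apply, AddEquiv.apply_symm_apply]
  let T : Submodule (Y.presheaf.stalk (W.ι.base w)) (F.presheaf.stalk (W.ι.base w)) :=
    { carrier := {z | ε.symm z ∈ R_w}
      zero_mem' := by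
        show ε.symm 0 ∈ R_w
        rw [map_zero]
        exact Submodule.zero_mem _
      add_mem' := by
        intro a b ha hb
        show ε.symm (a + b) ∈ R_w
        rw [map_add]
        exact Submodule.add_mem _ ha hb
      smul_mem' := by
        intro r a ha
        show ε.symm (r • a) ∈ R_w
        rw [hsymm]
        exact Submodule.smul_mem _ _ ha }
  have hy : W.ι.base w ∈ W := w.2
  have hgen : ∀ j, F.presheaf.germ W (W.ι.base w) hy (t j) ∈ T := by
    intro j
    show ε.symm (F.presheaf.germ W (W.ι.base w) hy (t j)) ∈ R_w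
    have e1 : ε ((F.restrict W.ι).presheaf.germ ⊤ w trivial (t' j)) =
        F.presheaf.germ W (W.ι.base w) hy (t j) := by
      rw [RestrStalkH8.restrictStalkEquiv_germ]
      exact SecOrdH8.germ_rF F hle _ _ (t j)
    rw [← e1, AddEquiv.symm_apply_apply]
    -- the germ of `t' j` is in the range
    let g : Γ(FlatMod.freeMod (W : Scheme.{u}) n, ⊤) :=
      (Sigma.ι (fun _ : Fin n => Coh.structureModule (W : Scheme.{u})) j).val.app (op ⊤)
        (1 : (W : Scheme.{u}).ringCatSheaf.obj.obj (op ⊤))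
    have e2 : p.app ⊤ g = t' j := by
      have := SDivGenH8.freeHom_app_ι (F.restrict W.ι) t' j ⊤
        (1 : (W : Scheme.{u}).ringCatSheaf.obj.obj (op ⊤))
      refine this.trans ((one_smul ((W : Scheme.{u}).ringCatSheaf.obj.obj (op ⊤)) _).trans ?_)
      change (F.restrict W.ι).presheaf.map
        (homOfLE (le_top : (⊤ : (W : Scheme.{u}).Opens) ≤ ⊤)).op (t' j) = t' j
      have hid : (homOfLE (le_top : (⊤ : (W : Scheme.{u}).Opens) ≤ ⊤)).op = 𝟙 (op ⊤) := rfl
      rw [hid, (F.restrict W.ι).presheaf.map_id]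
      rfl
    refine ⟨(FlatMod.freeMod (W : Scheme.{u}) n).presheaf.germ ⊤ w trivial g, ?_⟩
    have := DerSch.stalkFunctor_map_germ w p ⊤ trivial g
    rw [e2] at this
    exact this
  have hT : T = ⊤ := by
    rw [eq_top_iff, ← h (W.ι.base w) hy, Submodule.span_le]
    rintro _ ⟨j, rfl⟩
    exact hgen j
  intro z
  have hz : ε z ∈ T := by rw [hT]; trivial
  have hz' : ε.symm (ε z) ∈ R_w := hz
  rw [AddEquiv.symm_apply_apply] at hz'
  obtain ⟨a, ha⟩ := hz'
  exact ⟨a, ha⟩

theorem exists_genSec_of_spansOn (F : Y.Modules) (W : Y.Opens) {n : ℕ} (t : Fin n → Γ(F, W))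
    (h : RefHullH8.SpansOn F W t) :
    ∃ G : SheafOfModules.GeneratingSections
      (R := ((W : Y.Opens) : Scheme.{u}).ringCatSheaf) (F.restrict W.ι), Finite G.I := by
  have hle : W.ι ''ᵁ ⊤ ≤ W := by rw [Scheme.Opens.ι_image_top]
  haveI := epi_freeHom_of_spansOn F W t h hle
  exact Groth.Agent.Lib.DCohLocLead.exists_genSec_of_epi_freeMod n
    (SDivGenH8.freeHom (F.restrict W.ι) (fun j => (rF F hle (t j) : Γ(F.restrict W.ι, ⊤))))

/-- **S9837** -/
theorem main9837 (f : X ⟶ Y) [Flat f] [Surjective f] (hf : IsOpenMap f.base) (F : Y.Modules)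
    (h : SheafOfModules.IsFiniteType (R := X.ringCatSheaf) ((Scheme.Modules.pullback f).obj F)) :
    SheafOfModules.IsFiniteType (R := Y.ringCatSheaf) F := by
  have key : ∀ y : Y, ∃ W : Y.Opens, y ∈ W ∧ ∃ G : SheafOfModules.GeneratingSections
      (R := ((W : Y.Opens) : Scheme.{u}).ringCatSheaf) (F.restrict W.ι), Finite G.I := by
    intro y
    obtain ⟨x, rfl⟩ := f.surjective y
    obtain ⟨W, hxW, n, t, ht⟩ := exists_spansOn_of_pullback f hf F h x
    exact ⟨W, hxW, exists_genSec_of_spansOn F W t ht⟩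
  choose W hyW hW using key
  refine Groth.Agent.Lib.DCohLocLead.isFT_of_local_genSec F W ?_ hW
  rw [eq_top_iff]
  intro y _
  exact Opens.mem_iSup.mpr ⟨y, hyW y⟩

end

end Groth.Agent.Lib.FTDescH8
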