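import Mathlib
import Groth.Prelude
import Groth.Agent.Lib.FTDesc1_helper8
import Groth.Agent.Lib.FLF2_helper8
import Groth.Agent.Lib.RefHull2_helper8
import Groth.Agent.Lib.FpqcOpen_helper7
import Groth.Agent.Lib.ClosedDescentFam_helper7

/-!
# Descent of the number of local generators along fpqc coverings (helper8)

APPEND-ONLY once landed.
-/

set_option autoImplicit false
set_option linter.all false
set_option maxHeartbeats 1600000
set_option backward.isDefEq.respectTransparency false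
set_option backward.isDefEq.respectTransparency.types false
set_option backward.defeqAttrib.useBackward true

universe u
open CategoryTheory CategoryTheory.Limits AlgebraicGeometry Opposite TopologicalSpace TensorProduct

namespace Groth.Agent.Lib.FTDescH8

open Groth.Agent.Lib.StalkSkyL QcqsLoc

noncomputable section

/-! ### algebra: the number of generators descends along flat local homomorphisms -/

theorem exists_span_fin_of_baseChange {R S N : Type u} [CommRing R] [CommRing S] [IsLocalRing R]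
    [IsLocalRing S] [Algebra R S] [IsLocalHom (algebraMap R S)] [AddCommGroup N] [Module R N]
    [Module.Finite R N] (n : ℕ) (s : Fin n → S ⊗[R] N)
    (hs : Submodule.span S (Set.range s) = ⊤) :
    ∃ t : Fin n → N, Submodule.span R (Set.range t) = ⊤ := by
  let κR := IsLocalRing.ResidueField R
  let κS := IsLocalRing.ResidueField S
  -- the fibre over the residue field of `S`
  have h1 : Submodule.span κS (Set.range fun j => (1 : κS) ⊗ₜ[S] s j) = ⊤ :=
    span_one_tmul_eq_top (S := κS) s hs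
  have h2 : Module.finrank κS (κS ⊗[S] (S ⊗[R] N)) ≤ n := by
    have h3 := finrank_range_le_card (R := κS) (fun j => (1 : κS) ⊗ₜ[S] s j)
    rw [Set.finrank, h1, finrank_top, Fintype.card_fin] at h3
    exact h3
  let e1 : κS ⊗[S] (S ⊗[R] N) ≃ₗ[κS] κS ⊗[R] N :=
    TensorProduct.AlgebraTensorModule.cancelBaseChange R S κS κS N
  let e2 : κS ⊗[κR] (κR ⊗[R] N) ≃ₗ[κS] κS ⊗[R] N :=
    TensorProduct.AlgebraTensorModule.cancelBaseChange R κR κS κS N
  have h4 : Module.finrank κS (κS ⊗[S] (S ⊗[R] N)) = Module.finrank κR (κR ⊗[R] N) := by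
    rw [LinearEquiv.finrank_eq (e1.trans e2.symm), Module.finrank_baseChange]
  obtain ⟨γ, hγ⟩ := FLFH8.exists_span_of_finrank_fibre (R := R) (M := N)
    (Module.finrank κR (κR ⊗[R] N)) rfl
  have hd : Module.finrank κR (κR ⊗[R] N) ≤ n := h4 ▸ h2
  -- pad with zeros
  refine ⟨fun j => if h : (j : ℕ) < Module.finrank κR (κR ⊗[R] N) then γ ⟨j, h⟩ else 0, ?_⟩
  rw [eq_top_iff, ← hγ, Submodule.span_le]
  rintro _ ⟨i, rfl⟩
  refine Submodule.subset_span ⟨⟨i, lt_of_lt_of_le i.2 hd⟩, ?_⟩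
  simp

/-! ### spanning sections with a bound on their number -/

variable {X : Scheme.{u}}

theorem exists_spansOn_card (F : X.Modules)
    (σ : SheafOfModules.LocalGeneratorsData.{u} (R := X.ringCatSheaf) F) (r : ℕ)
    (hσ : ∀ k, Finite (σ.generators k).I ∧ Nat.card (σ.generators k).I ≤ r) (x : X) :
    ∃ (V : X.Opens) (_ : x ∈ V) (n : ℕ) (_ : n ≤ r) (m : Fin n → Γ(F, V)),
      RefHullH8.SpansOn F V m := by
  have hcov := σ.coversTop
  rw [Opens.coversTop_iff] at hcov
  have hx' : x ∈ (⨆ i, σ.X i : X.Opens) := by rw [hcov]; trivial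
  simp only [Opens.mem_iSup] at hx'
  obtain ⟨i, hxi⟩ := hx'
  let W : X.Opens := σ.X i
  let G := QCohFT.generatingSectionsRestrict F W W le_rfl (σ.generators i)
  haveI hfin : Finite G.I := by
    rw [QCohFT.generatingSectionsRestrict_I]
    exact (hσ i).1
  have hcard : Nat.card G.I ≤ r := by
    rw [QCohFT.generatingSectionsRestrict_I]
    exact (hσ i).2
  haveI : Epi G.π := G.epi
  classical
  haveI := Fintype.ofFinite G.I
  let e : G.I ≃ Fin (Fintype.card G.I) := Fintype.equivFin G.I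
  let g : G.I → Γ(F, W.ι ''ᵁ ⊤) := fun j =>
    QCohFT.secHom _ _ ⊤ (SheafOfModules.ιFree j ≫ G.π)
      (1 : ((W : Scheme.{u}).ringCatSheaf.obj.obj (op ⊤) : Type u))
  have hxV : x ∈ W.ι ''ᵁ ⊤ := by rw [Scheme.Opens.ι_image_top]; exact hxi
  refine ⟨W.ι ''ᵁ ⊤, hxV, Fintype.card G.I, ?_, fun k => g (e.symm k), ?_⟩
  · rw [← Nat.card_eq_fintype_card]
    exact hcard
  intro y hy
  rw [eq_top_iff]
  intro z _
  obtain ⟨O, hyO, s, rfl⟩ := TopCat.Presheaf.exists_germ_eq F.presheaf z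
  have hyW : y ∈ W := by rw [Scheme.Opens.ι_image_top] at hy; exact hy
  let y' : (W : Scheme.{u}) := ⟨y, hyW⟩
  let U' : (W : Scheme.{u}).Opens := W.ι ⁻¹ᵁ O
  have h : W.ι ''ᵁ U' ≤ O := by
    rintro _ ⟨a, ha, rfl⟩
    exact ha
  have hy'U' : y' ∈ U' := hyO
  let s' : Γ(F.restrict W.ι, U') := rF F h s
  obtain ⟨V', hV', hy'V', t, ht⟩ := EpiLoc.exists_local_lift G.π s' hy'U'
  have hsp := QCohFT.range_le_span G.π V' t
  obtain ⟨c, hc⟩ := (Submodule.mem_span_range_iff_exists_fun _).1 hsp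
  have hyV'' : y ∈ W.ι ''ᵁ V' := ⟨y', hy'V', rfl⟩
  have hle1 : W.ι ''ᵁ V' ≤ O := (W.ι.image_mono hV').trans h
  have hle2 : W.ι ''ᵁ V' ≤ W.ι ''ᵁ ⊤ := W.ι.image_mono le_top
  have e1 : F.presheaf.germ O y hyO s = F.presheaf.germ (W.ι ''ᵁ V') y hyV'' (rF F hle1 s) :=
    (SecOrdH8.germ_rF F hle1 y hyV'' s).symm
  have e2 : rF F hle1 s = ∑ j : G.I, (show Γ(X, W.ι ''ᵁ V') from c j) • rF F hle2 (g j) := by
    have h1 : rF F hle1 s = (F.restrict W.ι).presheaf.map (homOfLE hV').op s' := by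
      change _ = rF F (W.ι.image_mono hV') (rF F h s)
      rw [rF_rF]
    rw [h1, ← ht]
    change QCohFT.secHom _ _ V' G.π t = _
    rw [← hc]
    refine Finset.sum_congr rfl (fun j _ => ?_)
    have h2 : QCohFT.secHom _ _ V' (SheafOfModules.ιFree j ≫ G.π)
        (1 : ((W : Scheme.{u}).ringCatSheaf.obj.obj (op V') : Type u)) = rF F hle2 (g j) := by
      have hn := PresheafOfModules.naturality_apply (SheafOfModules.ιFree j ≫ G.π).val
        (homOfLE (le_top : V' ≤ ⊤)).op
        (1 : ((W : Scheme.{u}).ringCatSheaf.obj.obj (op ⊤) : Type u))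
      have h1 : ((SheafOfModules.unit (W : Scheme.{u}).ringCatSheaf).val.map
          (homOfLE (le_top : V' ≤ ⊤)).op).hom
          (1 : ((W : Scheme.{u}).ringCatSheaf.obj.obj (op ⊤) : Type u)) =
          (1 : ((W : Scheme.{u}).ringCatSheaf.obj.obj (op V') : Type u)) :=
        map_one ((W : Scheme.{u}).ringCatSheaf.obj.map (homOfLE (le_top : V' ≤ ⊤)).op).hom
      rw [h1] at hn
      exact hn
    rw [h2]
    exact RefHullH8.restrict_smul_eq' F W V' (c j) _
  rw [e1, e2, map_sum]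
  refine Submodule.sum_mem _ (fun j _ => ?_)
  rw [Mero.germ_smul, SecOrdH8.germ_rF]
  refine Submodule.smul_mem _ _ (Submodule.subset_span ⟨e j, ?_⟩)
  simp

/-! ### the locus where given sections generate -/

theorem isOpen_Sp_eq_top (M : X.Modules) (hM : CohB1.IsFT M) {U : X.Opens} {n : ℕ}
    (m : Fin n → Γ(M, U)) : IsOpen {x : X | ∃ h : x ∈ U, Sp M m x h = ⊤} := by
  rw [isOpen_iff_forall_mem_open]
  rintro x ⟨hxU, hx⟩
  obtain ⟨U', hU', hxU', hsp⟩ := exists_nhd_Sp_eq_top M hM m x hxU hx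
  exact ⟨U', fun x' hx' => ⟨hU' hx', hsp x' hx'⟩, U'.2, hxU'⟩

variable {Y : Scheme.{u}}

theorem preimage_span_germ_eq (f : X ⟶ Y) [Flat f] (F : Y.Modules) {V : Y.Opens} {n : ℕ}
    (t : Fin n → Γ(F, V)) :
    f.base ⁻¹' {y : Y | ∃ h : y ∈ V, Submodule.span (Y.presheaf.stalk y)
        (Set.range fun j => F.presheaf.germ V y h (t j)) = ⊤} =
      {x : X | ∃ h : x ∈ f ⁻¹ᵁ V, Sp ((Scheme.Modules.pullback f).obj F) (U := f ⁻¹ᵁ V)
        (fun j => PBH8.cUV f F le_rfl (t j)) x h = ⊤} := by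
  ext x
  constructor
  · rintro ⟨h, hsp⟩
    refine ⟨h, ?_⟩
    letI : Algebra (Y.presheaf.stalk (f.base x)) (X.presheaf.stalk x) :=
      (Groth.Agent.Lib.StalkSkyL.stk f x).toAlgebra
    exact (Sp_cUV_eq_top_iff f F x h t).mpr (span_one_tmul_eq_top _ hsp)
  · rintro ⟨h, hsp⟩
    exact ⟨h, span_germ_eq_top_of_Sp_cUV f F x h t hsp⟩

theorem exists_sections_of_germs (F : Y.Modules) (y : Y) {n : ℕ}
    (s : Fin n → F.presheaf.stalk y) :
    ∃ (V : Y.Opens) (hy : y ∈ V) (t : Fin n → Γ(F, V)),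
      ∀ j, F.presheaf.germ V y hy (t j) = s j := by
  choose O hO t' ht' using fun j => TopCat.Presheaf.exists_germ_eq F.presheaf (s j)
  let V : Y.Opens := ⟨⋂ j, (O j : Set Y), isOpen_iInter_of_finite (fun j => (O j).2)⟩
  have hV : ∀ j, V ≤ O j := fun j y hy => Set.mem_iInter.mp hy j
  have hyV : y ∈ V := Set.mem_iInter.mpr hO
  refine ⟨V, hyV, fun j => rF F (hV j) (t' j), fun j => ?_⟩
  rw [SecOrdH8.germ_rF]
  exact ht' j

/-! ### generating sections with their number -/

theorem exists_genSec_card_of_spansOn (F : Y.Modules) (W : Y.Opens) {n : ℕ}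
    (t : Fin n → Γ(F, W)) (h : RefHullH8.SpansOn F W t) :
    ∃ G : SheafOfModules.GeneratingSections (R := Y.ringCatSheaf.over W) (F.over W),
      Finite G.I ∧ Nat.card G.I = n := by
  have hle : W.ι ''ᵁ ⊤ ≤ W := by rw [Scheme.Opens.ι_image_top]
  haveI := epi_freeHom_of_spansOn F W t h hle
  let p := SDivGenH8.freeHom (F.restrict W.ι) (fun j => (rF F hle (t j) : Γ(F.restrict W.ι, ⊤)))
  let e : SheafOfModules.free (R := (W : Scheme.{u}).ringCatSheaf) (ULift.{u} (Fin n)) ≅
      FlatMod.freeMod (W : Scheme.{u}) n :=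
    Sigma.reindex (Equiv.ulift : ULift.{u} (Fin n) ≃ Fin n)
      (fun _ : Fin n => Coh.structureModule (W : Scheme.{u}))
  let q : SheafOfModules.free (R := (W : Scheme.{u}).ringCatSheaf) (ULift.{u} (Fin n)) ⟶
      F.restrict W.ι := e.hom ≫ p
  haveI : Epi q := epi_comp _ _
  let G : SheafOfModules.GeneratingSections (R := (W : Scheme.{u}).ringCatSheaf)
      (F.restrict W.ι) :=
    { I := ULift.{u} (Fin n)
      s := (F.restrict W.ι).freeHomEquiv q
      epi := by rw [Equiv.symm_apply_apply]; infer_instance }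
  haveI := Groth.Agent.Lib.DCohLocLead.preservesColimits_ΦU W
  let G₂ := G.map (Groth.Agent.Lib.DCohLocLead.ΦU W) (Groth.Agent.Lib.DCohLocLead.ηU W)
  refine ⟨G₂.ofEpi (Groth.Agent.Lib.DCohLocLead.compIsoU W F).hom,
    inferInstanceAs (Finite (ULift.{u} (Fin n))), ?_⟩
  show Nat.card (ULift.{u} (Fin n)) = n
  simp

/-- **S9861** (quasi-coherence is not needed) -/
theorem main9861 {ι : Type u} {Xi : ι → Scheme.{u}} (f : ∀ i, Xi i ⟶ Y)
    (hf : Presieve.ofArrows Xi f ∈ Scheme.fpqcPrecoverage Y) (F : Y.Modules) (r : ℕ)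
    (h : ∀ i, ∃ σ : SheafOfModules.LocalGeneratorsData.{u} (R := (Xi i).ringCatSheaf)
        ((Scheme.Modules.pullback (f i)).obj F),
      ∀ k, Finite (σ.generators k).I ∧ Nat.card (σ.generators k).I ≤ r) :
    ∃ σ : SheafOfModules.LocalGeneratorsData.{u} (R := Y.ringCatSheaf) F,
      ∀ k, Finite (σ.generators k).I ∧ Nat.card (σ.generators k).I ≤ r := by
  obtain ⟨hg1, hg2⟩ := (show Presieve.ofArrows Xi f ∈ Scheme.propQCPrecoverage @Flat Y from hf)
  let E : PreZeroHypercover.{u} Y := ⟨ι, Xi, f⟩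
  have hE1 : E.presieve₀ ∈ Scheme.qcPrecoverage Y := hg1
  have hE2 : E.presieve₀ ∈ Scheme.precoverage @Flat Y := hg2
  haveI hqc : QuasiCompactCover E := Scheme.presieve₀_mem_qcPrecoverage_iff.1 hE1
  obtain ⟨hsurj, hfl⟩ := (Scheme.presieve₀_mem_precoverage_iff E).1 hE2
  choose σ hσ using h
  have hFT : ∀ i, CohB1.IsFT ((Scheme.Modules.pullback (f i)).obj F) := fun i => by
    have hσ' : (σ i).IsFiniteType := by
      constructor
      intro k
      exact ⟨(hσ i k).1⟩
    constructor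
    exact ⟨σ i, hσ'⟩
  have key : ∀ y : Y, ∃ (W : Y.Opens) (_ : y ∈ W) (n : ℕ) (_ : n ≤ r) (t : Fin n → Γ(F, W)),
      RefHullH8.SpansOn F W t := by
    intro y
    obtain ⟨i, x, rfl⟩ := hsurj y
    haveI : Flat (f i) := hfl i
    letI : Algebra (Y.presheaf.stalk ((f i).base x)) ((Xi i).presheaf.stalk x) :=
      (Groth.Agent.Lib.StalkSkyL.stk (f i) x).toAlgebra
    haveI : IsLocalHom (algebraMap (Y.presheaf.stalk ((f i).base x))
        ((Xi i).presheaf.stalk x)) := (inferInstance : IsLocalHom ((f i).stalkMap x).hom)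
    haveI := finite_stalk_of_pullback (f i) F (hFT i) x
    obtain ⟨V', hxV', n, hn, m, hm⟩ := exists_spansOn_card _ (σ i) r (hσ i) x
    let e : (((Scheme.Modules.pullback (f i)).obj F).presheaf.stalk x) ≃ₗ[(Xi i).presheaf.stalk x]
        ((Xi i).presheaf.stalk x ⊗[Y.presheaf.stalk ((f i).base x)]
          F.presheaf.stalk ((f i).base x)) :=
      ((pullbackStalkIso (f i) x).app F).toLinearEquiv
    have hs : Submodule.span ((Xi i).presheaf.stalk x) (Set.range fun j =>
        e (((Scheme.Modules.pullback (f i)).obj F).presheaf.germ V' x hxV' (m j))) = ⊤ := by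
      have h1 := hm x hxV'
      have h2 := congrArg (Submodule.map e.toLinearMap) h1
      rw [Submodule.map_span, Submodule.map_top, LinearMap.range_eq_top.mpr e.surjective] at h2
      rw [← h2]
      congr 1
      ext z
      constructor
      · rintro ⟨j, rfl⟩
        exact ⟨_, ⟨j, rfl⟩, rfl⟩
      · rintro ⟨_, ⟨j, rfl⟩, rfl⟩
        exact ⟨j, rfl⟩
    obtain ⟨t₀, ht₀⟩ := exists_span_fin_of_baseChange n _ hs
    obtain ⟨V, hyV, t, ht⟩ := exists_sections_of_germs F ((f i).base x) t₀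
    let A : Set Y := {y : Y | ∃ h : y ∈ V, Submodule.span (Y.presheaf.stalk y)
      (Set.range fun j => F.presheaf.germ V y h (t j)) = ⊤}
    have hA : IsOpen A := by
      apply Groth.Agent.Lib.FpqcOpen_helper7.isOpen_of_quasiCompactCover E hfl
      intro i'
      haveI : Flat (f i') := hfl i'
      have h3 := preimage_span_germ_eq (f i') F t
      show IsOpen ((f i').base ⁻¹' A)
      rw [h3]
      exact isOpen_Sp_eq_top _ (hFT i') _
    have hyA : (f i).base x ∈ A := by
      refine ⟨hyV, ?_⟩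
      have : (fun j => F.presheaf.germ V ((f i).base x) hyV (t j)) = t₀ := funext ht
      rw [this]
      exact ht₀
    let W : Y.Opens := ⟨A, hA⟩ ⊓ V
    have hWV : W ≤ V := inf_le_right
    refine ⟨W, ⟨hyA, hyV⟩, n, hn, fun j => rF F hWV (t j), ?_⟩
    intro y' hy'
    obtain ⟨hV', hsp⟩ := hy'.1
    have : (fun j => F.presheaf.germ W y' hy' (rF F hWV (t j))) =
        fun j => F.presheaf.germ V y' hV' (t j) :=
      funext fun j => SecOrdH8.germ_rF F hWV _ _ _
    rw [this]
    exact hsp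
  choose W hyW n hn t ht using key
  have hG := fun y => exists_genSec_card_of_spansOn F (W y) (t y) (ht y)
  choose G hG1 hG2 using hG
  have hc : (Opens.grothendieckTopology Y).CoversTop W := by
    have htop : ⨆ y, W y = ⊤ := eq_top_iff.mpr (fun y _ => Opens.mem_iSup.mpr ⟨y, hyW y⟩)
    rw [Opens.coversTop_iff]
    exact htop
  refine ⟨{ I := Y, X := W, coversTop := hc, generators := G }, fun y => ⟨hG1 y, ?_⟩⟩
  show Nat.card (G y).I ≤ r
  rw [hG2 y]
  exact hn y

end

end Groth.Agent.Lib.FTDescH8
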