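import Mathlib

/-! A ring map of finite type from a ring to a field has a "locally closed" kernel: its kernel is
maximal among the primes avoiding a suitable element. -/

namespace GDomH8

theorem exists_away_isMaximal {A L : Type*} [CommRing A] [Field L] (φ : A →+* L)
    (hφ : φ.FiniteType) :
    ∃ f : A, φ f ≠ 0 ∧ ∀ 𝔮 : Ideal A, 𝔮.IsPrime → RingHom.ker φ ≤ 𝔮 → f ∉ 𝔮 →
      𝔮 = RingHom.ker φ := by
  classical
  set 𝔭 := RingHom.ker φ with h𝔭
  haveI h𝔭p : 𝔭.IsPrime := RingHom.ker_isPrime φ
  let D := A ⧸ 𝔭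
  let ψ : D →+* L := RingHom.kerLift φ
  have hψinj : Function.Injective ψ := RingHom.kerLift_injective φ
  haveI : IsDomain D := (Ideal.Quotient.isDomain_iff_prime 𝔭).mpr h𝔭p
  letI aAL : Algebra A L := φ.toAlgebra
  letI aDL : Algebra D L := ψ.toAlgebra
  haveI : IsScalarTower A D L := IsScalarTower.of_algebraMap_eq (fun a => rfl)
  haveI ftA : Algebra.FiniteType A L := hφ
  haveI ftD : Algebra.FiniteType D L := Algebra.FiniteType.of_restrictScalars_finiteType A D L
  let K := FractionRing D
  letI aKL : Algebra K L := (IsFractionRing.lift hψinj).toAlgebra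
  haveI : IsScalarTower D K L := IsScalarTower.of_algebraMap_eq
    (fun d => (IsFractionRing.lift_algebraMap hψinj d).symm)
  haveI ftK : Algebra.FiniteType K L := Algebra.FiniteType.of_restrictScalars_finiteType D K L
  haveI finK : Module.Finite K L := finite_of_finite_type_of_isJacobsonRing K L
  haveI algK : Algebra.IsAlgebraic K L := Algebra.IsAlgebraic.of_finite K L
  haveI algD : Algebra.IsAlgebraic D L :=
    (IsFractionRing.comap_isAlgebraic_iff (A := D) (K := K) (C := L)).mpr algK
  obtain ⟨s, hs⟩ := ftD.out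
  obtain ⟨d, hd0, hdint⟩ := Algebra.IsAlgebraic.exists_integral_multiples D s
  obtain ⟨f, hf⟩ := Ideal.Quotient.mk_surjective d
  have hφf : φ f = ψ d := by rw [← hf]; rfl
  have hψd : ψ d ≠ 0 := fun h => hd0 (hψinj (by rw [h, map_zero]))
  refine ⟨f, by rw [hφf]; exact hψd, ?_⟩
  intro 𝔮 h𝔮 hle hf𝔮
  -- the localization `D_d`
  let Dd := Localization.Away d
  have hunit : IsUnit (ψ d) := isUnit_iff_ne_zero.mpr hψd
  let χ : Dd →+* L := IsLocalization.Away.lift d hunit
  letI aDdL : Algebra Dd L := χ.toAlgebra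
  haveI : IsScalarTower D Dd L := IsScalarTower.of_algebraMap_eq
    (fun x => (IsLocalization.Away.lift_eq d hunit x).symm)
  -- `L` is integral over `D_d`
  have hint : ∀ x ∈ s, IsIntegral Dd x := by
    intro x hx
    have h1 : IsIntegral Dd (d • x) := (hdint x hx).tower_top
    have h2 : x = (IsLocalization.Away.invSelf (S := Dd) d) • (d • x) := by
      rw [Algebra.smul_def, Algebra.smul_def, ← mul_assoc]
      have h3 : algebraMap Dd L (IsLocalization.Away.invSelf (S := Dd) d) * algebraMap D L d = 1 := by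
        rw [IsScalarTower.algebraMap_apply D Dd L, ← map_mul, mul_comm,
          IsLocalization.Away.mul_invSelf, map_one]
      rw [h3, one_mul]
    rw [h2]
    exact h1.smul _
  haveI hLint : Algebra.IsIntegral Dd L := by
    constructor
    intro x
    have hx : x ∈ Algebra.adjoin D (s : Set L) := by rw [hs]; trivial
    have hle' : Algebra.adjoin D (s : Set L) ≤
        (Algebra.adjoin Dd (s : Set L)).restrictScalars D :=
      Algebra.adjoin_le (fun y hy => Algebra.subset_adjoin hy)
    have hx' : x ∈ Algebra.adjoin Dd (s : Set L) := hle' hx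
    have hle'' : Algebra.adjoin Dd (s : Set L) ≤ integralClosure Dd L :=
      Algebra.adjoin_le (fun y hy => hint y hy)
    exact hle'' hx'
  -- `D_d` is a field
  have hDinj : Function.Injective (algebraMap D Dd) :=
    IsLocalization.injective Dd (powers_le_nonZeroDivisors_of_noZeroDivisors hd0)
  have hχinj : Function.Injective (algebraMap Dd L) := by
    show Function.Injective χ
    apply (IsLocalization.lift_injective_iff (M := Submonoid.powers d) _).mpr
    intro x y
    constructor
    · intro h; rw [hDinj h]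
    · intro h; rw [hψinj h]
  have hfield : IsField Dd := isField_of_isIntegral_of_isField hχinj (Field.toIsField L)
  -- conclude
  have hdisj : Disjoint (Submonoid.powers d : Set D) ((𝔮.map (Ideal.Quotient.mk 𝔭) : Ideal D) : Set D) := by
    rw [Set.disjoint_left]
    rintro _ ⟨n, rfl⟩ hmem
    have hmem' : (Ideal.Quotient.mk 𝔭) (f ^ n) ∈ 𝔮.map (Ideal.Quotient.mk 𝔭) := by
      rw [map_pow, hf]; exact hmem
    rw [Ideal.mem_map_iff_of_surjective _ Ideal.Quotient.mk_surjective] at hmem'
    obtain ⟨b, hb, hbe⟩ := hmem'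
    have : f ^ n - b ∈ 𝔭 := by
      rw [← Ideal.Quotient.eq]; exact hbe.symm
    have hfn : f ^ n ∈ 𝔮 := by
      have := 𝔮.add_mem (hle this) hb
      simpa using this
    exact hf𝔮 (h𝔮.mem_of_pow_mem n hfn)
  haveI hq'p : (𝔮.map (Ideal.Quotient.mk 𝔭)).IsPrime :=
    Ideal.map_isPrime_of_surjective Ideal.Quotient.mk_surjective (by
      rw [Ideal.mk_ker]; exact hle)
  have hcomap := IsLocalization.under_map_of_isPrime_disjoint (Submonoid.powers d) Dd hq'p hdisj
  letI := hfield.toField
  have hbot : (𝔮.map (Ideal.Quotient.mk 𝔭)).map (algebraMap D Dd) = ⊥ := by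
    rcases Ideal.eq_bot_or_top ((𝔮.map (Ideal.Quotient.mk 𝔭)).map (algebraMap D Dd)) with h | h
    · exact h
    · exfalso
      rw [h] at hcomap
      have : (𝔮.map (Ideal.Quotient.mk 𝔭)) = ⊤ := by
        rw [← hcomap]; rfl
      exact hq'p.ne_top this
  rw [hbot] at hcomap
  have hq0 : 𝔮.map (Ideal.Quotient.mk 𝔭) = ⊥ := by
    rw [← hcomap]
    ext x
    simp only [Ideal.mem_comap, Ideal.mem_bot, Ideal.under]
    constructor
    · intro h; exact hDinj (by rw [h, map_zero])
    · intro h; rw [h, map_zero]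
  apply le_antisymm _ hle
  intro a ha
  have : (Ideal.Quotient.mk 𝔭) a ∈ 𝔮.map (Ideal.Quotient.mk 𝔭) := Ideal.mem_map_of_mem _ ha
  rw [hq0, Ideal.mem_bot, Ideal.Quotient.eq_zero_iff_mem] at this
  exact this

end GDomH8
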