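import Mathlib
import Groth.Agent.Lib.GDom_helper8
import Groth.Agent.Lib.SchFT_helper8
import Groth.Agent.Lib.ResQuot_helper8
import Groth.Agent.Lib.CartDim_helper8

universe u
open AlgebraicGeometry CategoryTheory

namespace FTPointH8

open Groth.Agent.SchFTH8 Groth.Agent.ResQuotH8

/-- The image of a closed point under a morphism locally of finite type is closed in some open
neighbourhood (it is a "finite type point"). -/
theorem exists_opens_of_lft {P V : Scheme.{u}} (g : P ⟶ V) [LocallyOfFiniteType g] (w : P)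
    (hw : ∀ w' : P, w ⤳ w' → w' = w) :
    ∃ O : V.Opens, g w ∈ O ∧ ∀ v' ∈ O, g w ⤳ v' → v' = g w := by
  obtain ⟨_, ⟨O1, hO1', rfl⟩, hvO1, -⟩ :=
    V.isBasis_affineOpens.exists_subset_of_mem_open (Set.mem_univ (g w)) isOpen_univ
  have hO1 : IsAffineOpen O1 := hO1'
  obtain ⟨_, ⟨W1, hW1', rfl⟩, hwW1, hWO⟩ :=
    P.isBasis_affineOpens.exists_subset_of_mem_open (show w ∈ (g ⁻¹ᵁ O1 : Set P) from hvO1)
      (g ⁻¹ᵁ O1).2
  have hW1 : IsAffineOpen W1 := hW1'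
  have e : W1 ≤ g ⁻¹ᵁ O1 := hWO
  have hα : (g.appLE O1 W1 e).hom.FiniteType :=
    HasRingHomProperty.appLE (P := @LocallyOfFiniteType) g inferInstance ⟨O1, hO1'⟩ ⟨W1, hW1'⟩ e
  set 𝔭w := (hW1.primeIdealOf ⟨w, hwW1⟩).asIdeal with h𝔭w
  haveI hpw : 𝔭w.IsPrime := (hW1.primeIdealOf ⟨w, hwW1⟩).2
  -- `𝔭w` is maximal
  haveI hmax : 𝔭w.IsMaximal := by
    obtain ⟨𝔪, h𝔪, hle⟩ := Ideal.exists_le_maximal 𝔭w hpw.ne_top
    set w' : P := hW1.fromSpec ⟨𝔪, h𝔪.isPrime⟩ with hw'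
    have hw'W : w' ∈ W1 := fromSpec_mem hW1 _
    have hpw' : hW1.primeIdealOf ⟨w', hw'W⟩ = ⟨𝔪, h𝔪.isPrime⟩ := primeIdealOf_fromSpec hW1 _ hw'W
    have hsp : w ⤳ w' := by
      rw [specializes_iff_primeIdealOf_le hW1 w w' hwW1 hw'W, hpw']
      exact hle
    have := hw w' hsp
    have h2 : hW1.primeIdealOf ⟨w', hw'W⟩ = hW1.primeIdealOf ⟨w, hwW1⟩ := by
      congr 1
      exact Subtype.ext this
    rw [hpw'] at h2
    have : 𝔪 = 𝔭w := congrArg PrimeSpectrum.asIdeal h2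
    rw [← this]; exact h𝔪
  letI : Field (Γ(P, W1) ⧸ 𝔭w) := Ideal.Quotient.field 𝔭w
  let φ : Γ(V, O1) →+* (Γ(P, W1) ⧸ 𝔭w) := (Ideal.Quotient.mk 𝔭w).comp (g.appLE O1 W1 e).hom
  have hφ : φ.FiniteType :=
    (RingHom.FiniteType.of_surjective _ Ideal.Quotient.mk_surjective).comp hα
  have hker : RingHom.ker φ = (hO1.primeIdealOf ⟨g w, hvO1⟩).asIdeal := by
    rw [primeIdealOf_map g hW1 hO1 e w hwW1]
    ext a
    simp only [φ, RingHom.mem_ker, RingHom.comp_apply, Ideal.mem_comap,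
      Ideal.Quotient.eq_zero_iff_mem]
    rfl
  obtain ⟨f, hf0, hfmax⟩ := GDomH8.exists_away_isMaximal φ hφ
  refine ⟨V.basicOpen f, ?_, ?_⟩
  · by_contra hcon
    have := (CartDimH8.mem_primeIdealOf_iff hO1 (g w) hvO1 f).mpr hcon
    rw [← hker, RingHom.mem_ker] at this
    exact hf0 this
  · intro v' hv' hsp
    have hv'O1 : v' ∈ O1 := V.basicOpen_le f hv'
    have h1 : hO1.primeIdealOf ⟨g w, hvO1⟩ ≤ hO1.primeIdealOf ⟨v', hv'O1⟩ :=
      (specializes_iff_primeIdealOf_le hO1 (g w) v' hvO1 hv'O1).mp hsp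
    have h2 : f ∉ (hO1.primeIdealOf ⟨v', hv'O1⟩).asIdeal := fun hmem =>
      ((CartDimH8.mem_primeIdealOf_iff hO1 v' hv'O1 f).mp hmem) hv'
    have h3 := hfmax _ (hO1.primeIdealOf ⟨v', hv'O1⟩).2 (by rw [hker]; exact h1) h2
    rw [hker] at h3
    have h4 : hO1.primeIdealOf ⟨v', hv'O1⟩ = hO1.primeIdealOf ⟨g w, hvO1⟩ :=
      PrimeSpectrum.ext h3
    have h5 := congrArg hO1.fromSpec h4
    rw [hO1.fromSpec_primeIdealOf ⟨v', hv'O1⟩, hO1.fromSpec_primeIdealOf ⟨g w, hvO1⟩] at h5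
    exact h5

end FTPointH8
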