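import Mathlib
import Groth.Prelude.Def_AlgSpDec
import Groth.Agent.Lib.FTPoint_helper8
import Groth.Agent.Lib.ResTrdeg3_helper8

universe u
open AlgebraicGeometry CategoryTheory CategoryTheory.Limits
open AlgSp
open Groth.Agent.Lib.AlgSpReduced_helper7 Groth.Agent.Lib.AlgSpPoints_helper7

namespace FTPointH8

variable {S : Scheme.{u}}

/-- finite type points of an algebraic space, in the field-point form. -/
def IsFTPt (X : AlgSp.Space S) (x : AlgSp.Points X.obj) : Prop :=
  ∃ (k : Type u) (_ : Field k) (str : Spec (CommRingCat.of k) ⟶ S)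
    (ξ : (AlgSp.yon S).obj (Over.mk str) ⟶ X.obj),
    AlgSp.LocP @LocallyOfFiniteType ξ ∧ AlgSp.Points.ofPt ξ (IsLocalRing.closedPoint k) = x

/-- finite type points of an algebraic space, in the chart form. -/
def IsFTPt' (X : AlgSp.Space S) (x : AlgSp.Points X.obj) : Prop :=
  ∃ (U : Over S) (φ : (AlgSp.yon S).obj U ⟶ X.obj) (u : ↥U.left), AlgSp.RepWith @Etale φ ∧
    IsClosed ({u} : Set ↥U.left) ∧ AlgSp.Points.ofPt φ u = x

/-- A point closed in an open neighbourhood of a chart gives a chart with that point closed. -/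
theorem isFTPt'_of_open {X : AlgSp.Space S} {V : Over S} (b : (yon S).obj V ⟶ X.obj)
    (hbe : RepWith @Etale b) (v : ↥V.left) (O : V.left.Opens) (hvO : v ∈ O)
    (hO : ∀ v' ∈ O, v ⤳ v' → v' = v) : IsFTPt' X (Points.ofPt b v) := by
  let OU : Over S := Over.mk (O.ι ≫ V.hom)
  let j : OU ⟶ V := Over.homMk O.ι rfl
  have hje : RepWith @Etale ((yon S).map j ≫ b) :=
    (RepWith (S := S) @Etale).comp_mem _ _
      ((repWith_yon_map_iff _ _).2 (inferInstanceAs (Etale O.ι))) hbe
  obtain ⟨u, hu⟩ : ∃ u : ↥(O : Scheme), O.ι u = v := by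
    have : v ∈ Set.range O.ι := by rw [Scheme.Opens.range_ι]; exact hvO
    exact this
  refine ⟨OU, (yon S).map j ≫ b, u, hje, ?_, ?_⟩
  · apply isClosed_of_closure_subset
    intro y hy
    have hsp : u ⤳ y := specializes_iff_mem_closure.mpr hy
    have hsp' : O.ι u ⤳ O.ι y := hsp.map O.ι.continuous
    rw [hu] at hsp'
    have hyO : O.ι y ∈ O := by
      have : O.ι y ∈ Set.range O.ι := ⟨y, rfl⟩
      rw [Scheme.Opens.range_ι] at this
      exact this
    have := hO _ hyO hsp'
    rw [← hu] at this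
    exact O.ι.isOpenEmbedding.injective this
  · rw [ofPt_comp]
    show Points.ofPt b (O.ι u) = _
    rw [hu]

theorem isFTPt'_of_isFTPt {X : AlgSp.Space S} {x : AlgSp.Points X.obj} (h : IsFTPt X x) :
    IsFTPt' X x := by
  obtain ⟨k, _, str, ξ, hξ, hx⟩ := h
  obtain ⟨V, b, v, hbe, hv⟩ := ResTrdegH8.exists_chart X x
  have sq := hbe.rep.isPullback' ξ
  haveI e2 : Etale (hbe.rep.snd ξ).left := hbe.property_snd ξ
  haveI h1 : LocallyOfFiniteType (hbe.rep.fst' ξ).left :=
    hξ ((yon S).map (hbe.rep.snd ξ)) b (hbe.rep.fst' ξ) ((repWith_yon_map_iff _ _).2 e2) hbe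
      sq.w.symm
  obtain ⟨w, hw1, hw2⟩ := exists_ofPt_eq_of_isPullback sq v (IsLocalRing.closedPoint k)
    (by rw [hv, hx])
  haveI := EtDimH8.locallyQuasiFinite_of_etale (hbe.rep.snd ξ).left
  have hsm := EtDimH8.strictMono_of_locallyQuasiFinite (hbe.rep.snd ξ).left
  have hcl : ∀ w', w ⤳ w' → w' = w := by
    intro w' hsp
    by_contra hne
    have hle : w' ≤ w := hsp
    have hlt : w' < w := lt_of_le_not_ge hle (fun hge => hne ((hsp.antisymm hge).eq).symm)
    have := hsm hlt
    have hsub : (hbe.rep.snd ξ).left w' = (hbe.rep.snd ξ).left w :=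
      Subsingleton.elim (α := ↥(Spec (CommRingCat.of k))) _ _
    simp only [hsub] at this
    exact lt_irrefl _ this
  obtain ⟨O, hvO, hO⟩ := exists_opens_of_lft (hbe.rep.fst' ξ).left w hcl
  rw [hw1] at hvO hO
  rw [← hv]
  exact isFTPt'_of_open b hbe v O hvO hO

theorem isFTPt_of_isFTPt' {X : AlgSp.Space S} {x : AlgSp.Points X.obj} (h : IsFTPt' X x) :
    IsFTPt X x := by
  obtain ⟨U, φ, u, hφe, hcl, hx⟩ := h
  let ι : Spec (CommRingCat.of ↑(U.left.residueField u)) ⟶ U.left := U.left.fromSpecResidueField u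
  haveI hci : IsClosedImmersion ι := isClosed_singleton_iff_isClosedImmersion.mp hcl
  let T : Over S := Over.mk (ι ≫ U.hom)
  let i : T ⟶ U := Over.homMk ι rfl
  refine ⟨↑(U.left.residueField u), inferInstance, ι ≫ U.hom, (yon S).map i ≫ φ, ?_, ?_⟩
  · intro U' V' a' b' h' ha'e hb'e cm
    obtain ⟨α, rfl⟩ := (yon S).map_surjective a'
    haveI hα : Etale α.left := (repWith_yon_map_iff _ _).1 ha'e
    have sq := hb'e.rep.isPullback' φ
    haveI e2 : Etale (hb'e.rep.snd φ).left := hb'e.property_snd φ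
    haveI e1 : Etale (hb'e.rep.fst' φ).left := hφe.property _ _ _ sq.flip
    have hi : (yon S).map h' ≫ b' = (yon S).map (α ≫ i) ≫ φ := by
      rw [← cm, Functor.map_comp, Category.assoc]
    have m1 : hb'e.rep.lift' h' (α ≫ i) hi ≫ hb'e.rep.fst' φ = h' := hb'e.rep.lift'_fst _ _ hi
    have m2 : hb'e.rep.lift' h' (α ≫ i) hi ≫ hb'e.rep.snd φ = α ≫ i := hb'e.rep.lift'_snd _ _ hi
    have m2' : (hb'e.rep.lift' h' (α ≫ i) hi).left ≫ (hb'e.rep.snd φ).left = α.left ≫ ι := by
      rw [← Over.comp_left, m2]; rfl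
    haveI : LocallyOfFiniteType ((hb'e.rep.lift' h' (α ≫ i) hi).left ≫ (hb'e.rep.snd φ).left) := by
      rw [m2']; infer_instance
    haveI : LocallyOfFiniteType (hb'e.rep.lift' h' (α ≫ i) hi).left :=
      locallyOfFiniteType_of_comp _ (hb'e.rep.snd φ).left
    have : h'.left = (hb'e.rep.lift' h' (α ≫ i) hi).left ≫ (hb'e.rep.fst' φ).left := by
      rw [← Over.comp_left, m1]
    rw [this]
    infer_instance
  · rw [ofPt_comp]
    show Points.ofPt φ (ι (IsLocalRing.closedPoint ↑(U.left.residueField u))) = x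
    rw [Scheme.fromSpecResidueField_apply]
    exact hx

end FTPointH8
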