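import Mathlib
import Groth.Prelude.Def_AlgSpDec
import Groth.Agent.Lib.FTPoint2_helper8

universe u
open AlgebraicGeometry CategoryTheory CategoryTheory.Limits
open AlgSp
open Groth.Agent.Lib.AlgSpReduced_helper7 Groth.Agent.Lib.AlgSpPoints_helper7

namespace FTPointH8

theorem exists_ft_point_of_isLocallyClosed (U : Scheme.{u}) (T : Set U) (hT : IsLocallyClosed T)
    (hne : T.Nonempty) :
    ∃ u ∈ T, ∃ O : U.Opens, u ∈ O ∧ ∀ u' ∈ O, u ⤳ u' → u' = u := by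
  obtain ⟨O0, Z, hO0, hZ, rfl⟩ := hT
  obtain ⟨t, htO, htZ⟩ := hne
  obtain ⟨_, ⟨O1, hO1', rfl⟩, htO1, hO1O0⟩ :=
    U.isBasis_affineOpens.exists_subset_of_mem_open htO hO0
  have hO1 : IsAffineOpen O1 := hO1'
  haveI : CompactSpace ↥O1 := isCompact_iff_compactSpace.mp hO1.isCompact
  have hcl : IsClosed ((Subtype.val : ↥O1 → U) ⁻¹' Z) := hZ.preimage continuous_subtype_val
  obtain ⟨⟨u, huO1⟩, huZ, hucl⟩ := hcl.exists_closed_singleton ⟨⟨t, htO1⟩, htZ⟩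
  refine ⟨u, ⟨hO1O0 huO1, huZ⟩, O1, huO1, ?_⟩
  intro u' hu' hsp
  have h1 : (⟨u, huO1⟩ : ↥O1) ⤳ ⟨u', hu'⟩ := (subtype_specializes_iff _ _).mpr hsp
  have h2 := h1.mem_closed hucl (Set.mem_singleton _)
  exact congrArg Subtype.val h2

variable {S : Scheme.{u}}

theorem exists_isFTPt_of_isLocallyClosed (X : AlgSp.Space S) (T : Set (AlgSp.Points X.obj))
    (hT : IsLocallyClosed T) (hne : T.Nonempty) : ∃ x ∈ T, IsFTPt X x := by
  obtain ⟨U, a, hae, has⟩ := X.property.atlas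
  obtain ⟨x0, hx0⟩ := hne
  obtain ⟨u0, hu0⟩ := ofPt_surjective a has x0
  have hTU : IsLocallyClosed ((Points.ofPt a) ⁻¹' T) := hT.preimage (Points.continuous_ofPt a)
  obtain ⟨u, huT, O, huO, hO⟩ := exists_ft_point_of_isLocallyClosed U.left _ hTU
    ⟨u0, by rw [Set.mem_preimage, hu0]; exact hx0⟩
  exact ⟨Points.ofPt a u, huT, isFTPt_of_isFTPt' (isFTPt'_of_open a hae u O huO hO)⟩

end FTPointH8
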