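import Mathlib
import Groth.Prelude.Def_Wider
import Groth.Prelude.Def_W4bk5brsh7111920
import Groth.Agent.Lib.FaltingsCM_helper6
import Groth.Agent.Lib.LocCohArt2_helper7
import Groth.Agent.Lib.Catenary_helper5

/-!
# Finite length of `H^i_m(M)` below a bound over quotients of regular local rings (helper6, S5167)
-/

set_option autoImplicit false
universe u

open CategoryTheory Pointwise

namespace Groth.Agent.Lib.FaltingsLocal_helper6

open Groth.Agent.DepthLib Groth.Agent.Lib.FaltingsCor_helper6 Groth.Agent.Lib.FaltingsCM_helper6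
open IsLocalRing

section Local

variable {A : Type u} [CommRing A] [IsLocalRing A] [IsNoetherianRing A]

theorem isFiniteLength_iff_finite (M : Type u) [AddCommGroup M] [Module A M] [Module.Finite A M]
    (i : ℕ) :
    IsFiniteLength A (LocCoh.H (maximalIdeal A) i M) ↔
      Module.Finite A (LocCoh.H (maximalIdeal A) i M) := by
  constructor
  · intro h
    haveI := (isFiniteLength_iff_isNoetherian_isArtinian.1 h).1
    infer_instance
  · intro h
    haveI := h
    haveI : IsArtinian A (LocCoh.H (maximalIdeal A) i M) :=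
      Groth.Agent.Lib.LocCohArtH7.main817 A i M
    exact isFiniteLength_iff_isNoetherian_isArtinian.2 ⟨inferInstance, inferInstance⟩

theorem height_max_quot (p : PrimeSpectrum A) (e : ℕ)
    (he : ringKrullDim (A ⧸ p.asIdeal) = e) :
    ((maximalIdeal A ⊔ p.asIdeal).map (Ideal.Quotient.mk p.asIdeal)).height = e := by
  have hpm : p.asIdeal ≤ maximalIdeal A := le_maximalIdeal p.isPrime.ne_top
  rw [sup_eq_left.2 hpm]
  have hle : p ≤ closedPoint A := hpm
  have h1 := height_Ici_eq p (closedPoint A) hle
  have h1' : Order.height (⟨closedPoint A, hle⟩ : Set.Ici p) =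
      ((maximalIdeal A).map (Ideal.Quotient.mk p.asIdeal)).height := h1
  rw [← h1']
  letI : OrderTop (Set.Ici p) :=
    { top := ⟨closedPoint A, hle⟩
      le_top := fun x => by
        show x.1.asIdeal ≤ maximalIdeal A
        exact le_maximalIdeal x.1.isPrime.ne_top }
  have h2 : ((Order.height (⊤ : Set.Ici p) : ℕ∞) : WithBot ℕ∞) = Order.krullDim (Set.Ici p) :=
    Order.height_top_eq_krullDim
  have h3 := Groth.Agent.Hartshorne.ringKrullDim_quotient_eq_coheight p.asIdeal
  rw [Order.coheight_eq_krullDim_Ici, he] at h3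
  have h4 : ((Order.height (⟨closedPoint A, hle⟩ : Set.Ici p) : ℕ∞) : WithBot ℕ∞) =
      ((e : ℕ∞) : WithBot ℕ∞) := by
    have h5 : (⊤ : Set.Ici p) = ⟨closedPoint A, hle⟩ := rfl
    rw [← h5, h2]
    exact h3.symm
  exact WithBot.coe_injective h4

end Local

/-- S5167 -/
theorem main5167 (R : Type u) [CommRing R] [IsRegularLocalRing R] (A : Type u) [CommRing A]
    [IsLocalRing A] [IsNoetherianRing A] (π : R →+* A) (hπ : Function.Surjective π)
    (M : Type u) [AddCommGroup M] [Module A M] [Module.Finite A M] (n : ℕ) :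
    (∀ i : ℕ, i ≤ n → IsFiniteLength A (LocCoh.H (IsLocalRing.maximalIdeal A) i M)) ↔
      ∀ p : PrimeSpectrum A, p.asIdeal ≠ IsLocalRing.maximalIdeal A → ∀ e : ℕ,
        ringKrullDim (A ⧸ p.asIdeal) = e →
        (n : ℕ∞) < LocCoh.depth (Localization.AtPrime p.asIdeal)
          (LocalizedModule p.asIdeal.primeCompl M) + e := by
  haveI : IsRegularRing R := RegUCH8.isRegularRing_of_isRegularLocalRing R
  have h1 : (∀ i : ℕ, i ≤ n → IsFiniteLength A (LocCoh.H (maximalIdeal A) i M)) ↔
      (∀ i : ℕ, i ≤ n → Module.Finite A (LocCoh.H (maximalIdeal A) i M)) :=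
    forall_congr' fun i => imp_congr_right fun _ => isFiniteLength_iff_finite M i
  rw [h1, finite_iff_lt_finDimRel (maximalIdeal A) M n,
    finDimRel_eq R A π hπ (maximalIdeal A) (maximalIdeal A) M]
  constructor
  · intro hlt p hp e he
    have hmp : ¬ maximalIdeal A ≤ p.asIdeal := fun h =>
      hp (le_antisymm (le_maximalIdeal p.isPrime.ne_top) h)
    have h2 : (n : ℕ∞) < LocCoh.adjDepth (maximalIdeal A) M p :=
      lt_of_lt_of_le hlt (by unfold LocCoh.minAdjDepth; exact iInf₂_le p hmp)
    unfold LocCoh.adjDepth at h2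
    rwa [height_max_quot p e he] at h2
  · intro hyp
    have key : ((n + 1 : ℕ) : ℕ∞) ≤ LocCoh.minAdjDepth (maximalIdeal A) (maximalIdeal A) M := by
      unfold LocCoh.minAdjDepth
      refine le_iInf₂ fun p hmp => ?_
      have hp : p.asIdeal ≠ maximalIdeal A := fun h => hmp (h ▸ le_rfl)
      have hfin : ringKrullDim (A ⧸ p.asIdeal) ≠ ⊤ := by
        intro htop
        have h3 : ringKrullDim (A ⧸ p.asIdeal) ≤ ringKrullDim A :=
          ringKrullDim_quotient_le p.asIdeal
        rw [htop] at h3
        exact ringKrullDim_ne_top (top_le_iff.1 h3)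
      have hbot : ringKrullDim (A ⧸ p.asIdeal) ≠ ⊥ := ringKrullDim_ne_bot
      obtain ⟨e, he⟩ : ∃ e : ℕ, ringKrullDim (A ⧸ p.asIdeal) = e := by
        obtain ⟨x, hx⟩ := WithBot.ne_bot_iff_exists.1 hbot
        have hx' : x ≠ ⊤ := by
          intro h
          apply hfin
          rw [← hx, h]
          rfl
        obtain ⟨e, he⟩ := ENat.ne_top_iff_exists.1 hx'
        exact ⟨e, by rw [← hx, ← he]; rfl⟩
      have h4 := hyp p hp e he
      unfold LocCoh.adjDepth
      rw [height_max_quot p e he]
      have h5 := Order.add_one_le_of_lt h4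
      exact_mod_cast h5
    exact lt_of_lt_of_le (by exact_mod_cast Nat.lt_succ_self n) key

end Groth.Agent.Lib.FaltingsLocal_helper6
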