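import Mathlib
import Groth.Prelude.Def_CAlg
import Groth.Prelude.Def_EGA4b
import Groth.Agent.Lib.ArtinLocalFlat_helper9
import Groth.Agent.Lib.LocalCrit2_helper9

/-!
# Flatness over an Artinian local base from codimension ≤ 1 (abstract local theorem) — helper4

`LT`: Let `A` be a local ring with nilpotent maximal ideal `m`, `R` a local `A`-algebra with
nilradical `N`, such that
* (H1) `depth R ≥ 1` (in the form: `n z = 0 → z = 0`),
* (H2) `R/N` has a regular sequence `x, y` of length two in the maximal ideal,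
* (K1) `N / (N ∩ mR)` is supported at the closed point,
* (K2) `(aR : ε) / (a : ε) R` is supported at the closed point for all ideals `a` and elements `ε`
  of `A`.
Then `R` is flat over `A` and `N ≤ mR`.
-/

set_option autoImplicit false
universe u

namespace Groth.Agent.Lib.FamCycH4

open IsLocalRing TensorProduct

section General

lemma mem_sup_span {R : Type*} [CommRing R] {I : Ideal R} {e z : R} :
    z ∈ I ⊔ Ideal.span {e} ↔ ∃ α ∈ I, ∃ u, z = α + e * u := by
  rw [Submodule.mem_sup]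
  constructor
  · rintro ⟨α, hα, w, hw, rfl⟩
    obtain ⟨u, rfl⟩ := Ideal.mem_span_singleton'.mp hw
    exact ⟨α, hα, u, by ring⟩
  · rintro ⟨α, hα, u, rfl⟩
    exact ⟨α, hα, e * u, Ideal.mem_span_singleton'.mpr ⟨u, mul_comm _ _⟩, rfl⟩

lemma map_map_alg {A B C : Type*} [CommRing A] [CommRing B] [CommRing C] [Algebra A B]
    [Algebra B C] [Algebra A C] [IsScalarTower A B C] (a : Ideal A) :
    (a.map (algebraMap A B)).map (algebraMap B C) = a.map (algebraMap A C) := by
  rw [Ideal.map_map, ← IsScalarTower.algebraMap_eq]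

lemma mem_smul_top_iff {A R : Type*} [CommRing A] [CommRing R] [Algebra A R] (a : Ideal A)
    (r : R) : r ∈ a • (⊤ : Submodule A R) ↔ r ∈ a.map (algebraMap A R) := by
  rw [Ideal.smul_top_eq_map, Submodule.restrictScalars_mem]

lemma map_le_nilradical {A R : Type*} [CommRing A] [IsLocalRing A] [CommRing R] [Algebra A R]
    (hnil : IsNilpotent (maximalIdeal A)) :
    (maximalIdeal A).map (algebraMap A R) ≤ nilradical R := by
  rw [Ideal.map_le_iff_le_comap]
  intro c hc
  obtain ⟨n, hn⟩ := hnil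
  rw [Ideal.mem_comap, mem_nilradical]
  refine ⟨n, ?_⟩
  have h1 : c ^ n ∈ maximalIdeal A ^ n := Ideal.pow_mem_pow hc n
  rw [hn] at h1
  have h2 : c ^ n = 0 := by simpa using h1
  rw [← map_pow, h2, map_zero]

/-- the colon ideal `(a : ε)` in the form used by `ArtinLocalFlat.mem_colon_smul_top` -/
def colonI {A : Type*} [CommRing A] (a : Ideal A) (ε : A) : Ideal A :=
  LinearMap.ker (a.mkQ ∘ₗ LinearMap.toSpanSingleton A A ε)

lemma mem_colonI {A : Type*} [CommRing A] {a : Ideal A} {ε c : A} :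
    c ∈ colonI a ε ↔ c * ε ∈ a := by
  unfold colonI
  rw [LinearMap.mem_ker, LinearMap.comp_apply, LinearMap.toSpanSingleton_apply,
    Submodule.mkQ_apply, Submodule.Quotient.mk_eq_zero, smul_eq_mul]

lemma mul_mem_of_socle {A R : Type*} [CommRing A] [CommRing R] [Algebra A R] (a m : Ideal A)
    (ε : A) (hmε : ∀ c ∈ m, c * ε ∈ a) :
    ∀ w ∈ m.map (algebraMap A R), algebraMap A R ε * w ∈ a.map (algebraMap A R) := by
  intro w hw
  have hw2 : w ∈ Submodule.span R ((algebraMap A R) '' (m : Set A)) := hw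
  clear hw
  induction hw2 using Submodule.span_induction with
  | mem w hw =>
    obtain ⟨c, hc, rfl⟩ := hw
    rw [← map_mul, mul_comm]
    exact Ideal.mem_map_of_mem _ (hmε c hc)
  | zero => rw [mul_zero]; exact zero_mem _
  | add x y _ _ hx hy => rw [mul_add]; exact add_mem hx hy
  | smul s x _ hx =>
    rw [mul_smul_comm]
    exact Submodule.smul_mem _ s hx

end General

section NSdef

variable {R : Type*} [CommRing R] [IsLocalRing R]

/-- `NS I`: the quotient `R/I` has no nonzero element killed by the maximal ideal. -/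
def NS (I : Ideal R) : Prop := ∀ z : R, (∀ r ∈ maximalIdeal R, r * z ∈ I) → z ∈ I

lemma NS_pow {I : Ideal R} (h : NS I) :
    ∀ (t : ℕ) (z : R), (∀ u ∈ maximalIdeal R ^ t, u * z ∈ I) → z ∈ I := by
  intro t
  induction t with
  | zero =>
    intro z hz
    have := hz 1 (by rw [pow_zero, Ideal.one_eq_top]; exact Submodule.mem_top)
    rwa [one_mul] at this
  | succ t ih =>
    intro z hz
    apply ih z
    intro u hu
    apply h
    intro r hr
    have h1 : r * u ∈ maximalIdeal R ^ (t + 1) := by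
      rw [pow_succ']
      exact Ideal.mul_mem_mul hr hu
    have h2 := hz _ h1
    rwa [mul_assoc] at h2

/-- the key depth computation: `NS` propagates from `I` to `I + (e)` -/
lemma NS_sup (I N : Ideal R) (e x y : R)
    (hx : x ∈ maximalIdeal R) (hy : y ∈ maximalIdeal R)
    (hxr : ∀ r, x * r ∈ N → r ∈ N)
    (hyr : ∀ r, y * r ∈ N ⊔ Ideal.span {x} → r ∈ N ⊔ Ideal.span {x})
    (PA : ∀ r ∈ N, e * r ∈ I) (PB : ∀ r, e * r ∈ I → r ∈ N) (hNS : NS I) :
    NS (I ⊔ Ideal.span {e}) := by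
  intro z hz
  obtain ⟨α, hα, u, hxu⟩ := mem_sup_span.mp (hz x hx)
  obtain ⟨β, hβ, v, hyv⟩ := mem_sup_span.mp (hz y hy)
  have h1 : e * (y * u - x * v) ∈ I := by
    have : e * (y * u - x * v) = x * β - y * α := by
      linear_combination x * hyv - y * hxu
    rw [this]
    exact I.sub_mem (I.mul_mem_left _ hβ) (I.mul_mem_left _ hα)
  have h2 : y * u - x * v ∈ N := PB _ h1
  have h3 : y * u ∈ N ⊔ Ideal.span {x} := mem_sup_span.mpr ⟨y * u - x * v, h2, v, by ring⟩
  obtain ⟨ν, hν, c, huc⟩ := mem_sup_span.mp (hyr u h3)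
  have hxt : x * (z - e * c) ∈ I := by
    have : x * (z - e * c) = α + e * ν := by
      linear_combination hxu + e * huc
    rw [this]
    exact I.add_mem hα (PA ν hν)
  have key : ∀ r ∈ maximalIdeal R, r * (z - e * c) ∈ I := by
    intro r hr
    obtain ⟨γ, hγ, w, hrw⟩ := mem_sup_span.mp (hz r hr)
    have h5 : e * (x * (w - r * c)) ∈ I := by
      have : e * (x * (w - r * c)) = r * (x * (z - e * c)) - x * γ := by
        linear_combination (-x) * hrw
      rw [this]
      exact I.sub_mem (I.mul_mem_left _ hxt) (I.mul_mem_left _ hγ)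
    have h6 : x * (w - r * c) ∈ N := PB _ h5
    have h7 : w - r * c ∈ N := hxr _ h6
    have : r * (z - e * c) = γ + e * (w - r * c) := by
      linear_combination hrw
    rw [this]
    exact I.add_mem hγ (PA _ h7)
  have ht := hNS _ key
  exact mem_sup_span.mpr ⟨z - e * c, ht, c, by ring⟩

end NSdef

section TensorStep

variable {A : Type*} [CommRing A] {R : Type*} [AddCommGroup R] [Module A R]

/-- propagation of `Tor₁`-vanishing from `a` to `a + (ε)` -/
lemma rTensor_inj_step (a m : Ideal A) (ε : A)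
    (hmε : ∀ c ∈ m, c * ε ∈ a)
    (hcol : ∀ r : R, ε • r ∈ a • (⊤ : Submodule A R) → r ∈ m • (⊤ : Submodule A R))
    (hinj : Function.Injective (a.subtype.rTensor R)) :
    Function.Injective ((a ⊔ Ideal.span {ε}).subtype.rTensor R) := by
  have hεa' : ε ∈ a ⊔ Ideal.span {ε} := Ideal.mem_sup_right (Ideal.mem_span_singleton_self ε)
  obtain ⟨ε', hε'⟩ : ∃ ε' : (a ⊔ Ideal.span {ε} : Ideal A), (ε' : A) = ε := ⟨⟨ε, hεa'⟩, rfl⟩
  obtain ⟨ι, hι⟩ : ∃ ι : a →ₗ[A] (a ⊔ Ideal.span {ε} : Ideal A), ∀ x, ((ι x : _) : A) = x :=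
    ⟨Submodule.inclusion le_sup_left, fun x => rfl⟩
  have hcomp : (a ⊔ Ideal.span {ε}).subtype.rTensor R ∘ₗ ι.rTensor R = a.subtype.rTensor R := by
    rw [← LinearMap.rTensor_comp]
    congr 1
    ext x
    exact hι x
  have claim1 : ∀ ξ : (a ⊔ Ideal.span {ε} : Ideal A) ⊗[A] R,
      ∃ (ξ₀ : a ⊗[A] R) (r : R), ξ = ι.rTensor R ξ₀ + ε' ⊗ₜ[A] r := by
    intro ξ
    induction ξ using TensorProduct.induction_on with
    | zero => exact ⟨0, 0, by simp⟩
    | tmul x r =>
      obtain ⟨α, hα, w, hw, hx⟩ := Submodule.mem_sup.mp x.2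
      obtain ⟨c, rfl⟩ := Ideal.mem_span_singleton'.mp hw
      refine ⟨(⟨α, hα⟩ : a) ⊗ₜ[A] r, c • r, ?_⟩
      have hx' : x = ι ⟨α, hα⟩ + c • ε' := by
        apply Subtype.ext
        rw [Submodule.coe_add, Submodule.coe_smul, hι, hε', smul_eq_mul]
        exact hx.symm
      rw [hx', TensorProduct.add_tmul, LinearMap.rTensor_tmul, TensorProduct.smul_tmul]
    | add ξ₁ ξ₂ h₁ h₂ =>
      obtain ⟨ξ₀, r, rfl⟩ := h₁
      obtain ⟨ξ₀', r', rfl⟩ := h₂
      refine ⟨ξ₀ + ξ₀', r + r', ?_⟩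
      rw [map_add, TensorProduct.tmul_add]
      abel
  have claim2 : ∀ r ∈ m • (⊤ : Submodule A R), ∃ ξ₁ : a ⊗[A] R, ε' ⊗ₜ[A] r = ι.rTensor R ξ₁ := by
    intro r hr
    refine Submodule.smul_induction_on hr (fun c hc r _ => ?_) (fun r₁ r₂ h₁ h₂ => ?_)
    · refine ⟨(⟨c * ε, hmε c hc⟩ : a) ⊗ₜ[A] r, ?_⟩
      rw [LinearMap.rTensor_tmul, ← TensorProduct.smul_tmul]
      congr 1
      apply Subtype.ext
      rw [Submodule.coe_smul, hι, hε', smul_eq_mul]
    · obtain ⟨ξ₁, h₁⟩ := h₁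
      obtain ⟨ξ₂, h₂⟩ := h₂
      exact ⟨ξ₁ + ξ₂, by rw [TensorProduct.tmul_add, h₁, h₂, map_add]⟩
  rw [injective_iff_map_eq_zero]
  intro ξ hξ
  obtain ⟨ξ₀, r, rfl⟩ := claim1 ξ
  have h0 : a.subtype.rTensor R ξ₀ + ε ⊗ₜ[A] r = 0 := by
    rw [map_add, ← LinearMap.comp_apply, hcomp, LinearMap.rTensor_tmul, Submodule.subtype_apply,
      hε'] at hξ
    exact hξ
  have h1 : ε • r ∈ a • (⊤ : Submodule A R) := by
    have h3 := congrArg (TensorProduct.lid A R) h0
    rw [map_add, TensorProduct.lid_tmul, map_zero] at h3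
    have h2 := Groth.Agent.Lib.ArtinLocalFlat.lid_rTensor_mem a ξ₀
    have h4 : ε • r = - (TensorProduct.lid A R) (a.subtype.rTensor R ξ₀) :=
      eq_neg_of_add_eq_zero_right h3
    rw [h4]
    exact neg_mem h2
  obtain ⟨ξ₁, hξ₁⟩ := claim2 r (hcol r h1)
  rw [hξ₁, ← map_add] at hξ ⊢
  rw [← LinearMap.comp_apply, hcomp] at hξ
  rw [hinj (hξ.trans (map_zero _).symm), map_zero]

end TensorStep

section LocalTheorem

variable {A : Type u} [CommRing A] [IsLocalRing A] {R : Type u} [CommRing R] [Algebra A R]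
  [IsLocalRing R]

/-- hypotheses of the local theorem -/
structure LTHyp (A : Type u) [CommRing A] [IsLocalRing A] (R : Type u) [CommRing R] [Algebra A R]
    [IsLocalRing R] : Prop where
  hnil : IsNilpotent (maximalIdeal A)
  H1 : NS (⊥ : Ideal R)
  H2 : ∃ x ∈ maximalIdeal R, ∃ y ∈ maximalIdeal R,
      (∀ r, x * r ∈ nilradical R → r ∈ nilradical R) ∧
      (∀ r, y * r ∈ nilradical R ⊔ Ideal.span {x} → r ∈ nilradical R ⊔ Ideal.span {x})
  K1 : ∀ r ∈ nilradical R, ∃ t : ℕ, ∀ u ∈ maximalIdeal R ^ t,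
      u * r ∈ (maximalIdeal A).map (algebraMap A R)
  K2 : ∀ (a : Ideal A) (ε : A) (r : R), algebraMap A R ε * r ∈ a.map (algebraMap A R) →
      ∃ t : ℕ, ∀ u ∈ maximalIdeal R ^ t, u * r ∈ (colonI a ε).map (algebraMap A R)

lemma NS_nil (h : LTHyp A R) : NS (nilradical R) := by
  obtain ⟨x, hx, y, hy, hxr, hyr⟩ := h.H2
  intro z hz
  exact hxr z (hz x hx)

lemma lemA (h : LTHyp A R) (a : Ideal A) (ε : A) (hmε : ∀ c ∈ maximalIdeal A, c * ε ∈ a)
    (hNS : NS (a.map (algebraMap A R))) :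
    ∀ r ∈ nilradical R, algebraMap A R ε * r ∈ a.map (algebraMap A R) := by
  intro r hr
  obtain ⟨t, ht⟩ := h.K1 r hr
  apply NS_pow hNS t
  intro u hu
  have h1 := mul_mem_of_socle (R := R) a (maximalIdeal A) ε hmε _ (ht u hu)
  have : u * (algebraMap A R ε * r) = algebraMap A R ε * (u * r) := by ring
  rw [this]
  exact h1

lemma lemB (h : LTHyp A R) (a : Ideal A) (ε : A) (hε : ε ∉ a) :
    ∀ r, algebraMap A R ε * r ∈ a.map (algebraMap A R) → r ∈ nilradical R := by
  intro r hr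
  obtain ⟨t, ht⟩ := h.K2 a ε r hr
  have hcol : colonI a ε ≤ maximalIdeal A := by
    apply IsLocalRing.le_maximalIdeal
    intro htop
    have h1 : (1 : A) ∈ colonI a ε := htop ▸ Submodule.mem_top
    rw [mem_colonI, one_mul] at h1
    exact hε h1
  apply NS_pow (NS_nil h) t
  intro u hu
  exact map_le_nilradical h.hnil (Ideal.map_mono hcol (ht u hu))

lemma lemC (h : LTHyp A R) (a : Ideal A) (ε : A) (hmε : ∀ c ∈ maximalIdeal A, c * ε ∈ a)
    (hε : ε ∉ a) (hNS : NS (a.map (algebraMap A R))) :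
    NS ((a ⊔ Ideal.span {ε}).map (algebraMap A R)) := by
  rw [Ideal.map_sup, Ideal.map_span, Set.image_singleton]
  obtain ⟨x, hx, y, hy, hxr, hyr⟩ := h.H2
  exact NS_sup _ (nilradical R) _ x y hx hy hxr hyr (lemA h a ε hmε hNS) (lemB h a ε hε) hNS

/-- **The local theorem.** -/
theorem LT [IsNoetherianRing A] (h : LTHyp A R) :
    Module.Flat A R ∧ nilradical R ≤ (maximalIdeal A).map (algebraMap A R) := by
  classical
  have hbot : NS ((⊥ : Ideal A).map (algebraMap A R)) ∧
      (nilradical R ≤ (maximalIdeal A).map (algebraMap A R) →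
        Function.Injective ((⊥ : Ideal A).subtype.rTensor R)) := by
    refine ⟨by rw [Ideal.map_bot]; exact h.H1, fun _ => ?_⟩
    have hz : ∀ ξ : (⊥ : Ideal A) ⊗[A] R, ξ = 0 := by
      intro ξ
      induction ξ using TensorProduct.induction_on with
      | zero => rfl
      | tmul x r => rw [Subsingleton.elim x 0, TensorProduct.zero_tmul]
      | add x y hx hy => rw [hx, hy, add_zero]
    intro ξ₁ ξ₂ _
    rw [hz ξ₁, hz ξ₂]
  obtain ⟨a₀, ⟨ha₀m, ha₀Q⟩, hmax⟩ := set_has_maximal_iff_noetherian.mpr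
    (inferInstance : IsNoetherian A A)
    {a : Ideal A | a ≤ maximalIdeal A ∧ (NS (Ideal.map (algebraMap A R) a) ∧
      (nilradical R ≤ (maximalIdeal A).map (algebraMap A R) →
        Function.Injective ((Submodule.subtype a).rTensor R)))} ⟨⊥, bot_le, hbot⟩
  have ha₀ : a₀ = maximalIdeal A := by
    by_contra hne
    have hne_top : a₀ ≠ ⊤ := fun htop =>
      (IsLocalRing.maximalIdeal.isMaximal A).ne_top (top_le_iff.mp (htop ▸ ha₀m))
    obtain ⟨ε, hε, hmε⟩ := Groth.Agent.Lib.ArtinLocalFlat.exists_socle h.hnil a₀ hne_top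
    have hεm : ε ∈ maximalIdeal A := by
      by_contra hεm
      have hu : IsUnit ε := by
        rw [IsLocalRing.mem_maximalIdeal, mem_nonunits_iff, not_not] at hεm
        exact hεm
      apply hne
      apply le_antisymm ha₀m
      intro c hc
      exact (Ideal.mul_unit_mem_iff_mem a₀ hu).mp (hmε c hc)
    have hQ' : NS (Ideal.map (algebraMap A R) (a₀ ⊔ Ideal.span {ε})) ∧
        (nilradical R ≤ (maximalIdeal A).map (algebraMap A R) →
          Function.Injective ((Submodule.subtype (a₀ ⊔ Ideal.span {ε})).rTensor R)) := by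
      refine ⟨lemC h a₀ ε hmε hε ha₀Q.1, fun hNm => ?_⟩
      refine rTensor_inj_step a₀ (maximalIdeal A) ε hmε (fun r hr => ?_) (ha₀Q.2 hNm)
      have h1 := (mem_smul_top_iff a₀ _).mp hr
      rw [Algebra.smul_def] at h1
      exact (mem_smul_top_iff _ _).mpr (hNm (lemB h a₀ ε hε r h1))
    have hle : a₀ ⊔ Ideal.span {ε} ≤ maximalIdeal A :=
      sup_le ha₀m ((Ideal.span_singleton_le_iff_mem _).mpr hεm)
    have hlt' : a₀ < a₀ ⊔ Ideal.span {ε} := by
      refine lt_of_le_of_ne le_sup_left (fun heq => hε ?_)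
      rw [heq]
      exact Ideal.mem_sup_right (Ideal.mem_span_singleton_self ε)
    exact hmax _ ⟨hle, hQ'⟩ hlt'
  rw [ha₀] at ha₀Q
  have hNm : nilradical R ≤ (maximalIdeal A).map (algebraMap A R) := by
    intro r hr
    obtain ⟨t, ht⟩ := h.K1 r hr
    exact NS_pow ha₀Q.1 t r ht
  refine ⟨?_, hNm⟩
  let _ := Ideal.Quotient.field (maximalIdeal A)
  exact Groth.Agent.Lib.LocalCrit2.flat_of_nilpotent (maximalIdeal A) h.hnil R (ha₀Q.2 hNm)

end LocalTheorem

end Groth.Agent.Lib.FamCycH4
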