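import Mathlib
import Groth.Prelude.Def_CAlg
import Groth.Prelude.Def_EGA4b
import Groth.Agent.Lib.FamCycLT_helper4
import Groth.Agent.Lib.Depth_helper5
import Groth.Agent.Lib.DepthRefl_helper5

/-!
# Flatness and reduced fibre over an Artinian local base from codimension ≤ 1 (helper4)

Globalisation of `FamCycH4.LT` by induction on the height of primes.
-/

set_option autoImplicit false
universe u

namespace Groth.Agent.Lib.FamCycH4

open IsLocalRing TensorProduct Pointwise

section Loc

variable {B : Type u} [CommRing B] [IsNoetherianRing B] (q : Ideal B) [q.IsPrime]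

lemma pow_le_map_of_no_primes (J : Ideal B)
    (hJ : ∀ (q' : Ideal B), q'.IsPrime → J ≤ q' → q' ≤ q → q' = q) :
    ∃ t : ℕ, maximalIdeal (Localization.AtPrime q) ^ t ≤
      J.map (algebraMap B (Localization.AtPrime q)) := by
  haveI : IsNoetherianRing (Localization.AtPrime q) :=
    IsLocalization.isNoetherianRing q.primeCompl _ inferInstance
  apply Ideal.exists_pow_le_of_le_radical_of_fg _ (IsNoetherian.noetherian _)
  rw [Ideal.radical_eq_sInf]
  apply le_sInf
  rintro P ⟨hJP, hP⟩
  haveI := hP
  have h1 : J ≤ P.comap (algebraMap B (Localization.AtPrime q)) :=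
    Ideal.map_le_iff_le_comap.mp hJP
  have h2 : P.comap (algebraMap B (Localization.AtPrime q)) ≤ q := by
    have h3 := Ideal.comap_mono (f := algebraMap B (Localization.AtPrime q))
      (IsLocalRing.le_maximalIdeal hP.ne_top)
    have h4 : (maximalIdeal (Localization.AtPrime q)).comap
        (algebraMap B (Localization.AtPrime q)) = q :=
      Localization.AtPrime.under_maximalIdeal
    rwa [h4] at h3
  have h3 : P.under B = q := hJ _ (Ideal.comap_isPrime _ P) h1 h2
  exact (Localization.AtPrime.eq_maximalIdeal_iff_under_eq.mp h3).ge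

lemma loc_pow (I : Ideal B) (b : B)
    (h : ∀ (q' : Ideal B) [q'.IsPrime], q' < q →
      algebraMap B (Localization.AtPrime q') b ∈ I.map (algebraMap B (Localization.AtPrime q'))) :
    ∃ t : ℕ, ∀ u ∈ maximalIdeal (Localization.AtPrime q) ^ t,
      u * algebraMap B (Localization.AtPrime q) b ∈
        I.map (algebraMap B (Localization.AtPrime q)) := by
  obtain ⟨J, hJmem⟩ : ∃ J : Ideal B, ∀ c, c ∈ J ↔ c * b ∈ I :=
    ⟨Submodule.comap (LinearMap.toSpanSingleton B B b) I, fun c => by
      rw [Submodule.mem_comap, LinearMap.toSpanSingleton_apply, smul_eq_mul]⟩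
  obtain ⟨t, ht⟩ := pow_le_map_of_no_primes q J (by
    intro q' hq' hJq' hq'q
    by_contra hne
    haveI := hq'
    obtain ⟨s, hs, hsb⟩ := (IsLocalization.algebraMap_mem_map_algebraMap_iff q'.primeCompl
      (Localization.AtPrime q') I b).mp (h q' (lt_of_le_of_ne hq'q hne))
    exact Ideal.mem_primeCompl_iff.mp hs (hJq' ((hJmem s).mpr hsb)))
  refine ⟨t, fun u hu => ?_⟩
  have hu' : u ∈ Submodule.span (Localization.AtPrime q)
      ((algebraMap B (Localization.AtPrime q)) '' (J : Set B)) := ht hu
  clear hu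
  induction hu' using Submodule.span_induction with
  | mem w hw =>
    obtain ⟨c, hc, rfl⟩ := hw
    rw [← map_mul]
    exact Ideal.mem_map_of_mem _ ((hJmem c).mp hc)
  | zero => rw [zero_mul]; exact zero_mem _
  | add x y _ _ hx hy => rw [add_mul]; exact add_mem hx hy
  | smul a x _ hx =>
    rw [smul_mul_assoc]
    exact Submodule.smul_mem _ a hx

lemma finish_mk' (I' : Ideal (Localization.AtPrime q)) (b s' : B) (s : q.primeCompl)
    (hs' : s' ∈ q.primeCompl) (u : Localization.AtPrime q)
    (h : u * algebraMap B (Localization.AtPrime q) (s' * b) ∈ I') :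
    u * IsLocalization.mk' (Localization.AtPrime q) b s ∈ I' := by
  have hunit : IsUnit (algebraMap B (Localization.AtPrime q) (s' * s)) :=
    IsLocalization.map_units (Localization.AtPrime q) (⟨s', hs'⟩ * s : q.primeCompl)
  rw [← Ideal.unit_mul_mem_iff_mem I' hunit]
  have : algebraMap B (Localization.AtPrime q) (s' * s) *
      (u * IsLocalization.mk' (Localization.AtPrime q) b s) =
      u * algebraMap B (Localization.AtPrime q) (s' * b) := by
    rw [map_mul, map_mul, ← IsLocalization.mk'_spec' (Localization.AtPrime q) b s]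
    ring
  rw [this]
  exact h

end Loc

/-- the property propagated by induction on the height -/
def Good (A : Type u) [CommRing A] [IsLocalRing A] {B : Type u} [CommRing B] [Algebra A B]
    (q : Ideal B) [q.IsPrime] : Prop :=
  Module.Flat A (Localization.AtPrime q) ∧
    nilradical (Localization.AtPrime q) ≤
      (maximalIdeal A).map (algebraMap A (Localization.AtPrime q))

section Kloc

variable {A : Type u} [CommRing A] [IsLocalRing A] {B : Type u} [CommRing B] [IsNoetherianRing B]
  [Algebra A B] (q : Ideal B) [q.IsPrime]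

lemma K1_loc (hgood : ∀ (q' : Ideal B) [q'.IsPrime], q' < q → Good A q') :
    ∀ r ∈ nilradical (Localization.AtPrime q), ∃ t : ℕ,
      ∀ u ∈ maximalIdeal (Localization.AtPrime q) ^ t,
        u * r ∈ (maximalIdeal A).map (algebraMap A (Localization.AtPrime q)) := by
  intro r hr
  obtain ⟨b, s, rfl⟩ := IsLocalization.exists_mk'_eq q.primeCompl r
  have hb : algebraMap B (Localization.AtPrime q) b ∈ nilradical (Localization.AtPrime q) := by
    rw [← IsLocalization.mk'_spec' (Localization.AtPrime q) b s]
    exact Ideal.mul_mem_left _ _ hr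
  obtain ⟨k, hk⟩ := mem_nilradical.mp hb
  rw [← map_pow] at hk
  obtain ⟨s', hs'⟩ := (IsLocalization.map_eq_zero_iff q.primeCompl (Localization.AtPrime q)
    (b ^ k)).mp hk
  have hnilp : IsNilpotent ((s' : B) * b) := ⟨k + 1, by
    have : ((s' : B) * b) ^ (k + 1) = (s' : B) ^ k * b * ((s' : B) * b ^ k) := by ring
    rw [this, hs', mul_zero]⟩
  obtain ⟨t, ht⟩ := loc_pow q ((maximalIdeal A).map (algebraMap A B)) ((s' : B) * b)
    (fun q' _ hlt => by
      have hg := (hgood q' hlt).2
      rw [map_map_alg]
      exact hg (mem_nilradical.mpr (hnilp.map _)))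
  refine ⟨t, fun u hu => ?_⟩
  have h1 := ht u hu
  rw [map_map_alg] at h1
  exact finish_mk' q _ b s' s s'.2 u h1

lemma K2_loc (hgood : ∀ (q' : Ideal B) [q'.IsPrime], q' < q → Good A q')
    (a : Ideal A) (ε : A) (r : Localization.AtPrime q)
    (hr : algebraMap A (Localization.AtPrime q) ε * r ∈
      a.map (algebraMap A (Localization.AtPrime q))) :
    ∃ t : ℕ, ∀ u ∈ maximalIdeal (Localization.AtPrime q) ^ t,
      u * r ∈ (colonI a ε).map (algebraMap A (Localization.AtPrime q)) := by
  obtain ⟨b, s, rfl⟩ := IsLocalization.exists_mk'_eq q.primeCompl r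
  have h1 : algebraMap B (Localization.AtPrime q) (algebraMap A B ε * b) ∈
      (a.map (algebraMap A B)).map (algebraMap B (Localization.AtPrime q)) := by
    rw [map_map_alg, map_mul, ← IsScalarTower.algebraMap_apply,
      ← IsLocalization.mk'_spec' (Localization.AtPrime q) b s]
    have : algebraMap A (Localization.AtPrime q) ε *
        (algebraMap B (Localization.AtPrime q) s *
          IsLocalization.mk' (Localization.AtPrime q) b s) =
        algebraMap B (Localization.AtPrime q) s *
          (algebraMap A (Localization.AtPrime q) ε *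
            IsLocalization.mk' (Localization.AtPrime q) b s) := by ring
    rw [this]
    exact Ideal.mul_mem_left _ _ hr
  obtain ⟨s', hs', hsb⟩ := (IsLocalization.algebraMap_mem_map_algebraMap_iff q.primeCompl
    (Localization.AtPrime q) _ _).mp h1
  obtain ⟨t, ht⟩ := loc_pow q ((colonI a ε).map (algebraMap A B)) (s' * b)
    (fun q' _ hlt => by
      haveI := (hgood q' hlt).1
      rw [map_map_alg, ← mem_smul_top_iff]
      apply Groth.Agent.Lib.ArtinLocalFlat.mem_colon_smul_top a ε
      rw [mem_smul_top_iff, ← map_map_alg (B := B), Algebra.smul_def,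
        IsScalarTower.algebraMap_apply A B (Localization.AtPrime q'), ← map_mul]
      apply Ideal.mem_map_of_mem
      have : algebraMap A B ε * (s' * b) = s' * (algebraMap A B ε * b) := by ring
      rw [this]
      exact hsb)
  refine ⟨t, fun u hu => ?_⟩
  have h2 := ht u hu
  rw [map_map_alg] at h2
  exact finish_mk' q _ b s' s hs' u h2

end Kloc

section H1

variable {B : Type u} [CommRing B] [IsNoetherianRing B]

lemma H1_loc (hS1 : LocCoh.HasSk 1 B B) (q : Ideal B) [q.IsPrime] (hq : 1 ≤ q.height) :
    NS (⊥ : Ideal (Localization.AtPrime q)) := by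
  have h := hS1 q
  rw [Groth.Agent.DepthLib.supportDim_locSelf, Groth.Agent.DepthLib.depth_locSelf] at h
  have h1 : ((1 : ℕ) : WithBot ℕ∞) ≤ (q.height : WithBot ℕ∞) := by exact_mod_cast hq
  rw [min_eq_left h1] at h
  have h2 : (1 : ℕ∞) ≤ LocCoh.depth (Localization.AtPrime q) (Localization.AtPrime q) := by
    exact_mod_cast h
  unfold LocCoh.depth at h2
  rcases (Groth.Agent.DepthLib.one_le_idealDepth_iff _ _).mp h2 with htop | ⟨x, hx, hreg⟩
  · exfalso
    have hle : maximalIdeal (Localization.AtPrime q) •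
        (⊤ : Submodule (Localization.AtPrime q) (Localization.AtPrime q)) ≤
        maximalIdeal (Localization.AtPrime q) := Ideal.mul_le_left
    rw [htop, top_le_iff] at hle
    exact (IsLocalRing.maximalIdeal.isMaximal _).ne_top hle
  · intro z hz
    have h3 := hz x hx
    rw [Ideal.mem_bot] at h3 ⊢
    exact hreg (show x • z = x • (0 : Localization.AtPrime q) by
      rw [smul_zero, smul_eq_mul, h3])

end H1

section Red

variable {B : Type u} [CommRing B]

lemma map_mk_prime (P : Ideal B) [P.IsPrime] :
    (P.map (Ideal.Quotient.mk (nilradical B))).IsPrime :=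
  Ideal.map_isPrime_of_surjective Ideal.Quotient.mk_surjective
    (by rw [Ideal.mk_ker]; exact nilradical_le_prime P)

lemma comap_map_mk (P : Ideal B) [P.IsPrime] :
    (P.map (Ideal.Quotient.mk (nilradical B))).comap (Ideal.Quotient.mk (nilradical B)) = P := by
  rw [Ideal.comap_map_of_surjective _ Ideal.Quotient.mk_surjective]
  have h1 : Ideal.comap (Ideal.Quotient.mk (nilradical B)) ⊥ = nilradical B := by
    rw [← RingHom.ker_eq_comap_bot, Ideal.mk_ker]
  rw [h1, sup_eq_left]
  exact nilradical_le_prime P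

lemma map_mk_lt {P' P : Ideal B} [P'.IsPrime] [P.IsPrime] (h : P' < P) :
    P'.map (Ideal.Quotient.mk (nilradical B)) < P.map (Ideal.Quotient.mk (nilradical B)) := by
  refine lt_of_le_of_ne (Ideal.map_mono h.le) (fun heq => h.ne ?_)
  rw [← comap_map_mk P', heq, comap_map_mk P]

lemma height_le_of_map_height_le (n : ℕ) :
    ∀ (P : Ideal B) [P.IsPrime],
      (P.map (Ideal.Quotient.mk (nilradical B))).height ≤ (n : ℕ∞) → P.height ≤ (n : ℕ∞) := by
  induction n with
  | zero =>
    intro P _ h
    haveI := map_mk_prime P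
    rw [Ideal.height_le_iff] at h ⊢
    intro P' hP' hlt
    haveI := hP'
    have h1 := h _ (map_mk_prime P') (map_mk_lt hlt)
    exact absurd h1 (by simp)
  | succ n ih =>
    intro P _ h
    haveI := map_mk_prime P
    rw [Ideal.height_le_iff] at h ⊢
    intro P' hP' hlt
    haveI := hP'
    have h1 := h _ (map_mk_prime P') (map_mk_lt hlt)
    have h2 : (P'.map (Ideal.Quotient.mk (nilradical B))).height ≤ (n : ℕ∞) := by
      rw [Nat.cast_succ] at h1
      exact Order.le_of_lt_add_one h1
    have h3 := ih P' h2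
    exact lt_of_le_of_lt h3 (by exact_mod_cast Nat.lt_succ_self n)

variable (q : Ideal B) [q.IsPrime] (qb : Ideal (B ⧸ nilradical B)) [qb.IsPrime]
  (hqq : q = qb.comap (Ideal.Quotient.mk (nilradical B)))

lemma lrh_surj : Function.Surjective
    (Localization.localRingHom q qb (Ideal.Quotient.mk (nilradical B)) hqq) := by
  intro s
  obtain ⟨bb, tt, rfl⟩ := IsLocalization.exists_mk'_eq qb.primeCompl s
  obtain ⟨b, rfl⟩ := Ideal.Quotient.mk_surjective bb
  obtain ⟨t, ht⟩ := Ideal.Quotient.mk_surjective (tt : B ⧸ nilradical B)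
  have htq : t ∈ q.primeCompl := Ideal.mem_primeCompl_iff.mpr (fun htq =>
    Ideal.mem_primeCompl_iff.mp tt.2 (by
      rw [← ht]
      rw [hqq] at htq
      exact htq))
  refine ⟨IsLocalization.mk' _ b ⟨t, htq⟩, ?_⟩
  rw [Localization.localRingHom_mk']
  congr 1
  exact Subtype.ext ht

lemma lrh_ker1 (r : Localization.AtPrime q)
    (hr : Localization.localRingHom q qb (Ideal.Quotient.mk (nilradical B)) hqq r = 0) :
    r ∈ nilradical (Localization.AtPrime q) := by
  obtain ⟨b, s, rfl⟩ := IsLocalization.exists_mk'_eq q.primeCompl r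
  have h1 : Localization.localRingHom q qb (Ideal.Quotient.mk (nilradical B)) hqq
      (algebraMap B _ b) = 0 := by
    rw [← IsLocalization.mk'_spec' (Localization.AtPrime q) b s, map_mul, hr, mul_zero]
  have h2 : algebraMap (B ⧸ nilradical B) (Localization.AtPrime qb)
      (Ideal.Quotient.mk (nilradical B) b) = 0 := by
    rw [← h1]
    exact (Localization.localRingHom_to_map q qb _ hqq b).symm
  obtain ⟨mm, hmm⟩ := (IsLocalization.map_eq_zero_iff qb.primeCompl (Localization.AtPrime qb)
    (Ideal.Quotient.mk (nilradical B) b)).mp h2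
  obtain ⟨m, hm⟩ := Ideal.Quotient.mk_surjective (mm : B ⧸ nilradical B)
  have hmq : m ∈ q.primeCompl := Ideal.mem_primeCompl_iff.mpr (fun hmq =>
    Ideal.mem_primeCompl_iff.mp mm.2 (by
      rw [← hm]
      rw [hqq] at hmq
      exact hmq))
  have h3 : m * b ∈ nilradical B := by
    rw [← Ideal.Quotient.eq_zero_iff_mem, map_mul, hm]
    exact hmm
  have h4 : algebraMap B (Localization.AtPrime q) (m * b) ∈
      nilradical (Localization.AtPrime q) :=
    mem_nilradical.mpr ((mem_nilradical.mp h3).map _)
  have hunit : IsUnit (algebraMap B (Localization.AtPrime q) (m * s)) :=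
    IsLocalization.map_units (Localization.AtPrime q) (⟨m, hmq⟩ * s : q.primeCompl)
  rw [← Ideal.unit_mul_mem_iff_mem _ hunit]
  have h5 : algebraMap B (Localization.AtPrime q) (m * s) *
      IsLocalization.mk' (Localization.AtPrime q) b s =
      algebraMap B (Localization.AtPrime q) (m * b) := by
    rw [map_mul, map_mul, mul_assoc, IsLocalization.mk'_spec']
  rw [h5]
  exact h4

lemma lrh_ker2 (r : Localization.AtPrime q) (hr : r ∈ nilradical (Localization.AtPrime q)) :
    Localization.localRingHom q qb (Ideal.Quotient.mk (nilradical B)) hqq r = 0 := by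
  haveI : IsReduced (B ⧸ nilradical B) :=
    (Ideal.isRadical_iff_quotient_reduced (nilradical B)).mp
      (show (Ideal.radical (0 : Ideal B)).IsRadical from Ideal.radical_isRadical _)
  exact ((mem_nilradical.mp hr).map _).eq_zero

end Red

section H2

lemma H2_abs {R S : Type*} [CommRing R] [CommRing S] [IsLocalRing R] [IsLocalRing S] (ρ : R →+* S)
    (hsurj : Function.Surjective ρ)
    (hk1 : ∀ r, ρ r = 0 → r ∈ nilradical R) (hk2 : ∀ r ∈ nilradical R, ρ r = 0)
    (x' y' : S) (hx'n : x' ∈ maximalIdeal S) (hy'n : y' ∈ maximalIdeal S)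
    (hx'reg : ∀ s : S, x' * s = 0 → s = 0)
    (hy'reg : ∀ s : S, y' * s ∈ Ideal.span {x'} → s ∈ Ideal.span {x'}) :
    ∃ x ∈ maximalIdeal R, ∃ y ∈ maximalIdeal R,
      (∀ r, x * r ∈ nilradical R → r ∈ nilradical R) ∧
      (∀ r, y * r ∈ nilradical R ⊔ Ideal.span {x} → r ∈ nilradical R ⊔ Ideal.span {x}) := by
  obtain ⟨x, rfl⟩ := hsurj x'
  obtain ⟨y, rfl⟩ := hsurj y'
  have hmem : ∀ w : R, ρ w ∈ maximalIdeal S → w ∈ maximalIdeal R := by
    intro w hw
    rw [mem_maximalIdeal, mem_nonunits_iff] at hw ⊢
    exact fun hu => hw (hu.map ρ)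
  refine ⟨x, hmem x hx'n, y, hmem y hy'n, ?_, ?_⟩
  · intro r hr
    apply hk1
    apply hx'reg
    rw [← map_mul]
    exact hk2 _ hr
  · intro r hr
    obtain ⟨ν, hν, c, hc⟩ := mem_sup_span.mp hr
    have h1 : ρ y * ρ r ∈ Ideal.span {ρ x} := by
      rw [← map_mul, hc, map_add, hk2 ν hν, zero_add, map_mul]
      exact Ideal.mem_span_singleton'.mpr ⟨ρ c, mul_comm _ _⟩
    obtain ⟨s, hs⟩ := Ideal.mem_span_singleton'.mp (hy'reg _ h1)
    obtain ⟨r', rfl⟩ := hsurj s
    have h2 : r - x * r' ∈ nilradical R := by
      apply hk1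
      rw [map_sub, map_mul, ← hs]
      ring
    exact mem_sup_span.mpr ⟨r - x * r', h2, r', by ring⟩

variable {B : Type u} [CommRing B] [IsNoetherianRing B]

lemma H2_loc (hS2 : LocCoh.HasSk 2 (B ⧸ nilradical B) (B ⧸ nilradical B))
    (q : Ideal B) [q.IsPrime] (hq : ¬ q.height ≤ 1) :
    ∃ x ∈ maximalIdeal (Localization.AtPrime q), ∃ y ∈ maximalIdeal (Localization.AtPrime q),
      (∀ r, x * r ∈ nilradical (Localization.AtPrime q) → r ∈ nilradical (Localization.AtPrime q)) ∧
      (∀ r, y * r ∈ nilradical (Localization.AtPrime q) ⊔ Ideal.span {x} →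
        r ∈ nilradical (Localization.AtPrime q) ⊔ Ideal.span {x}) := by
  classical
  haveI hqbp : (q.map (Ideal.Quotient.mk (nilradical B))).IsPrime := map_mk_prime q
  have hqq : q = (q.map (Ideal.Quotient.mk (nilradical B))).comap
      (Ideal.Quotient.mk (nilradical B)) := (comap_map_mk q).symm
  have hht2 : (2 : ℕ∞) ≤ (q.map (Ideal.Quotient.mk (nilradical B))).height := by
    have h1 : ¬ (q.map (Ideal.Quotient.mk (nilradical B))).height ≤ ((1 : ℕ) : ℕ∞) := fun hle =>
      hq (by simpa using height_le_of_map_height_le 1 q hle)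
    rw [not_le] at h1
    have h2 := Order.add_one_le_of_lt h1
    simpa [one_add_one_eq_two] using h2
  have hht : ((2 : ℕ) : WithBot ℕ∞) ≤
      ((q.map (Ideal.Quotient.mk (nilradical B))).height : WithBot ℕ∞) := by
    have h0 : ((2 : ℕ) : WithBot ℕ∞) = (((2 : ℕ) : ℕ∞) : WithBot ℕ∞) := rfl
    rw [h0, WithBot.coe_le_coe]
    exact_mod_cast hht2
  have hdepth : ((2 : ℕ) : ℕ∞) ≤
      LocCoh.depth (Localization.AtPrime (q.map (Ideal.Quotient.mk (nilradical B))))
        (Localization.AtPrime (q.map (Ideal.Quotient.mk (nilradical B)))) := by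
    have h := hS2 (q.map (Ideal.Quotient.mk (nilradical B)))
    rw [Groth.Agent.DepthLib.supportDim_locSelf, Groth.Agent.DepthLib.depth_locSelf,
      min_eq_left hht] at h
    have h0 : ((2 : ℕ) : WithBot ℕ∞) = (((2 : ℕ) : ℕ∞) : WithBot ℕ∞) := rfl
    rw [h0, WithBot.coe_le_coe] at h
    exact h
  unfold LocCoh.depth at hdepth
  rcases (Groth.Agent.DepthLib.le_idealDepth_iff _ _ 2).mp hdepth with
    htop | ⟨rs, hreg, hmem, hlen⟩
  · exfalso
    have hle : maximalIdeal (Localization.AtPrime (q.map (Ideal.Quotient.mk (nilradical B)))) •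
        (⊤ : Submodule (Localization.AtPrime (q.map (Ideal.Quotient.mk (nilradical B))))
          (Localization.AtPrime (q.map (Ideal.Quotient.mk (nilradical B))))) ≤
        maximalIdeal (Localization.AtPrime (q.map (Ideal.Quotient.mk (nilradical B)))) :=
      Ideal.mul_le_left
    rw [htop, top_le_iff] at hle
    exact (IsLocalRing.maximalIdeal.isMaximal _).ne_top hle
  obtain ⟨x', y', rfl⟩ := List.length_eq_two.mp hlen
  rw [RingTheory.Sequence.isWeaklyRegular_cons_iff,
    RingTheory.Sequence.isWeaklyRegular_cons_iff] at hreg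
  obtain ⟨hx'reg, hy'reg, -⟩ := hreg
  have hx'n := hmem x' (by simp)
  have hy'n := hmem y' (by simp)
  refine H2_abs (Localization.localRingHom q (q.map (Ideal.Quotient.mk (nilradical B)))
    (Ideal.Quotient.mk (nilradical B)) hqq) (lrh_surj q _ hqq) (lrh_ker1 q _ hqq)
    (lrh_ker2 q _ hqq) x' y' hx'n hy'n ?_ ?_
  · intro s hs
    exact hx'reg (show x' • s = x' • (0 : Localization.AtPrime _) by
      rw [smul_zero, smul_eq_mul, hs])
  · intro s hs
    have h1 := (isSMulRegular_quotient_iff_mem_of_smul_mem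
      (x' • (⊤ : Submodule (Localization.AtPrime (q.map (Ideal.Quotient.mk (nilradical B))))
        (Localization.AtPrime (q.map (Ideal.Quotient.mk (nilradical B)))))) y').mp hy'reg s
    have e : ∀ w : Localization.AtPrime (q.map (Ideal.Quotient.mk (nilradical B))),
        w ∈ x' • (⊤ : Submodule (Localization.AtPrime (q.map (Ideal.Quotient.mk (nilradical B))))
          (Localization.AtPrime (q.map (Ideal.Quotient.mk (nilradical B))))) ↔
        w ∈ Ideal.span {x'} := by
      intro w
      rw [Submodule.mem_smul_pointwise_iff_exists, Ideal.mem_span_singleton']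
      constructor
      · rintro ⟨b, -, rfl⟩
        exact ⟨b, by rw [smul_eq_mul, mul_comm]⟩
      · rintro ⟨b, rfl⟩
        exact ⟨b, trivial, by rw [smul_eq_mul, mul_comm]⟩
    rw [← e]
    apply h1
    rw [e]
    exact hs

end H2

section Main

variable {A : Type u} [CommRing A] [IsArtinianRing A] [IsLocalRing A]

lemma good_of_codim {B : Type u} [CommRing B] [Algebra A B] (q : Ideal B) [q.IsPrime]
    (h : Module.Flat A (Localization.AtPrime q) ∧ IsReduced (EGA4.FibLocRing A B q)) :
    Good A q := by
  refine ⟨h.1, ?_⟩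
  have hcomap : q.comap (algebraMap A B) = maximalIdeal A := by
    haveI : (q.comap (algebraMap A B)).IsPrime := Ideal.comap_isPrime _ q
    haveI : (q.comap (algebraMap A B)).IsMaximal := IsArtinianRing.isMaximal_of_isPrime _
    exact IsLocalRing.eq_maximalIdeal inferInstance
  have hred : IsReduced (Localization.AtPrime q ⧸
      ((q.comap (algebraMap A B)).map (algebraMap A (Localization.AtPrime q)))) := h.2
  rw [hcomap] at hred
  intro r hr
  have h1 : IsNilpotent (Ideal.Quotient.mk
      ((maximalIdeal A).map (algebraMap A (Localization.AtPrime q))) r) :=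
    (mem_nilradical.mp hr).map _
  exact Ideal.Quotient.eq_zero_iff_mem.mp h1.eq_zero

theorem good_all (B : Type u) [CommRing B] [Algebra A B] [IsNoetherianRing B]
    (hS1 : LocCoh.HasSk 1 B B) (hS2 : LocCoh.HasSk 2 (B ⧸ nilradical B) (B ⧸ nilradical B))
    (hcodim : ∀ (q : Ideal B) [q.IsPrime], q.height ≤ 1 →
      Module.Flat A (Localization.AtPrime q) ∧ IsReduced (EGA4.FibLocRing A B q)) :
    ∀ (q : Ideal B) [q.IsPrime], Good A q := by
  have hnil : IsNilpotent (maximalIdeal A) := by
    have h1 := IsArtinianRing.isNilpotent_jacobson_bot (R := A)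
    rwa [IsLocalRing.jacobson_eq_maximalIdeal ⊥ bot_ne_top] at h1
  have key : ∀ n : ℕ, ∀ (q : Ideal B) [q.IsPrime], q.height ≤ (n : ℕ∞) → Good A q := by
    intro n
    induction n with
    | zero =>
      intro q _ hq
      exact good_of_codim q (hcodim q (hq.trans (by simp)))
    | succ n ih =>
      intro q _ hq
      by_cases h1 : q.height ≤ 1
      · exact good_of_codim q (hcodim q h1)
      · have hgood : ∀ (q' : Ideal B) [q'.IsPrime], q' < q → Good A q' := by
          intro q' _ hlt
          apply ih q'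
          have h2 := (Ideal.height_le_iff.mp hq) q' inferInstance hlt
          rw [Nat.cast_succ] at h2
          exact Order.le_of_lt_add_one h2
        have hLT : LTHyp A (Localization.AtPrime q) :=
          { hnil := hnil
            H1 := H1_loc hS1 q (le_of_lt (not_le.mp h1))
            H2 := H2_loc hS2 q h1
            K1 := K1_loc q hgood
            K2 := K2_loc q hgood }
        exact LT hLT
  intro q _
  obtain ⟨n, hn⟩ := ENat.ne_top_iff_exists.mp (Ideal.height_ne_top_of_isPrime (I := q))
  exact key n q hn.symm.le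

theorem main_flat (B : Type u) [CommRing B] [Algebra A B] [IsNoetherianRing B]
    (hS1 : LocCoh.HasSk 1 B B) (hS2 : LocCoh.HasSk 2 (B ⧸ nilradical B) (B ⧸ nilradical B))
    (hcodim : ∀ (q : Ideal B) [q.IsPrime], q.height ≤ 1 →
      Module.Flat A (Localization.AtPrime q) ∧ IsReduced (EGA4.FibLocRing A B q)) :
    Module.Flat A B := by
  have hg := good_all B hS1 hS2 hcodim
  apply Module.flat_of_isLocalized_maximal B B (fun P => Localization.AtPrime P)
    (fun P => Algebra.linearMap B _)
  intro P _
  exact (hg P).1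

theorem main_red (B : Type u) [CommRing B] [Algebra A B] [IsNoetherianRing B]
    (hS1 : LocCoh.HasSk 1 B B) (hS2 : LocCoh.HasSk 2 (B ⧸ nilradical B) (B ⧸ nilradical B))
    (hcodim : ∀ (q : Ideal B) [q.IsPrime], q.height ≤ 1 →
      Module.Flat A (Localization.AtPrime q) ∧ IsReduced (EGA4.FibLocRing A B q)) :
    IsReduced (B ⧸ (maximalIdeal A).map (algebraMap A B)) := by
  have hg := good_all B hS1 hS2 hcodim
  have hnil : IsNilpotent (maximalIdeal A) := by
    have h1 := IsArtinianRing.isNilpotent_jacobson_bot (R := A)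
    rwa [IsLocalRing.jacobson_eq_maximalIdeal ⊥ bot_ne_top] at h1
  rw [← Ideal.isRadical_iff_quotient_reduced]
  intro b hb
  obtain ⟨k, hk⟩ := hb
  have hbnil : IsNilpotent b := by
    have h1 := map_le_nilradical (R := B) hnil hk
    obtain ⟨j, hj⟩ := mem_nilradical.mp h1
    exact ⟨k * j, by rw [pow_mul, hj]⟩
  by_contra hbI
  obtain ⟨J, hJmem⟩ : ∃ J : Ideal B, ∀ c, c ∈ J ↔ c * b ∈ (maximalIdeal A).map (algebraMap A B) :=
    ⟨Submodule.comap (LinearMap.toSpanSingleton B B b) ((maximalIdeal A).map (algebraMap A B)),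
      fun c => by rw [Submodule.mem_comap, LinearMap.toSpanSingleton_apply, smul_eq_mul]⟩
  have hJ : J ≠ ⊤ := fun htop => hbI (by
    have h1 : (1 : B) ∈ J := htop ▸ Submodule.mem_top
    rwa [hJmem, one_mul] at h1)
  obtain ⟨P, hP, hJP⟩ := Ideal.exists_le_maximal J hJ
  haveI := hP
  have h1 : algebraMap B (Localization.AtPrime P) b ∈
      ((maximalIdeal A).map (algebraMap A B)).map (algebraMap B (Localization.AtPrime P)) := by
    rw [map_map_alg]
    exact (hg P).2 (mem_nilradical.mpr (hbnil.map _))
  obtain ⟨s, hs, hsb⟩ := (IsLocalization.algebraMap_mem_map_algebraMap_iff P.primeCompl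
    (Localization.AtPrime P) _ b).mp h1
  exact Ideal.mem_primeCompl_iff.mp hs (hJP ((hJmem s).mpr hsb))

end Main

end Groth.Agent.Lib.FamCycH4
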