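import Mathlib
import Groth.Prelude.Def_W4c6instabfans3Fan
import Groth.Prelude.Def_W4c6instabfans3FanCvx

set_option autoImplicit false
universe u
open CategoryTheory Opposite Instab
open Instab Instab.Fan

namespace Groth.Agent.FanBasic9

/-- integer linear maps are determined by the images of the standard basis -/
theorem toLin_apply {k n : ℕ} (L : (Fin k → ℤ) →ₗ[ℤ] (Fin n → ℤ)) (u : Fin k → ℤ) (j : Fin n) :
    L u j = ∑ l, u l * L (Pi.single l 1) j := by
  have hu : u = ∑ l, u l • (Pi.single l 1 : Fin k → ℤ) := by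
    ext i
    simp [Finset.sum_apply, Pi.single_apply]
  conv_lhs => rw [hu]
  rw [map_sum, Finset.sum_apply]
  refine Finset.sum_congr rfl fun l _ => ?_
  rw [map_smul]
  rfl

theorem realMap_id (n : ICone) (v : Fin n.dim → ℝ) : (𝟙 n : n ⟶ n).realMap v = v := by
  funext j
  change ∑ i, (((Pi.single i 1 : Fin n.dim → ℤ) j : ℤ) : ℝ) * v i = v j
  simp [Pi.single_apply]

theorem realMap_comp {k m n : ICone} (φ : k ⟶ m) (ψ : m ⟶ n) (v : Fin k.dim → ℝ) :
    (φ ≫ ψ).realMap v = ψ.realMap (φ.realMap v) := by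
  funext j
  change ∑ i, ((ψ.toLin (φ.toLin (Pi.single i 1)) j : ℤ) : ℝ) * v i
    = ∑ l, ((ψ.toLin (Pi.single l 1) j : ℤ) : ℝ) * (∑ i, ((φ.toLin (Pi.single i 1) l : ℤ) : ℝ) * v i)
  simp_rw [Finset.mul_sum]
  rw [Finset.sum_comm]
  refine Finset.sum_congr rfl fun i _ => ?_
  rw [toLin_apply ψ.toLin (φ.toLin (Pi.single i 1)) j]
  push_cast
  rw [Finset.sum_mul]
  refine Finset.sum_congr rfl fun l _ => ?_
  ring

theorem realMap_smul {k n : ICone} (φ : k ⟶ n) (c : ℝ) (v : Fin k.dim → ℝ) :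
    φ.realMap (c • v) = c • φ.realMap v := by
  funext j
  change ∑ i, _ * (c * v i) = c * ∑ i, _ * v i
  rw [Finset.mul_sum]
  refine Finset.sum_congr rfl fun i _ => ?_
  ring

theorem realMap_add {k n : ICone} (φ : k ⟶ n) (v w : Fin k.dim → ℝ) :
    φ.realMap (v + w) = φ.realMap v + φ.realMap w := by
  funext j
  change ∑ i, _ * (v i + w i) = ∑ i, _ * v i + ∑ i, _ * w i
  rw [← Finset.sum_add_distrib]
  refine Finset.sum_congr rfl fun i _ => ?_
  ring

theorem realMap_nonneg {k n : ICone} (φ : k ⟶ n) (v : Fin k.dim → ℝ) (hv : ∀ i, 0 ≤ v i)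
    (j : Fin n.dim) : 0 ≤ φ.realMap v j := by
  refine Finset.sum_nonneg fun i _ => mul_nonneg ?_ (hv i)
  have := φ.nonneg (Pi.single i 1) (fun l => by
    by_cases h : l = i
    · subst h; simp
    · simp [h]) j
  exact_mod_cast this

variable {F : Fan.{u}}

theorem mk_glue {k n : ICone} (φ : k ⟶ n) (ξ : F.obj (op n)) (v : Orth k) (w : Orth n) (c : ℝ)
    (hc : 0 < c) (h : w.1 = c • φ.realMap v.1) :
    (P.mk (F.map φ.op ξ) v : P F) = P.mk ξ w :=
  Quot.sound (Rel.glue φ ξ v w c hc h)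

theorem mk_smul {n : ICone} (ξ : F.obj (op n)) (v w : Orth n) (c : ℝ)
    (hc : 0 < c) (h : w.1 = c • v.1) :
    (P.mk ξ v : P F) = P.mk ξ w := by
  have h1 := mk_glue (F := F) (𝟙 n) ξ v w c hc (by rw [realMap_id]; exact h)
  have h2 : F.map (𝟙 n : n ⟶ n).op ξ = ξ := by
    rw [op_id, F.map_id]; rfl
  rw [h2] at h1
  exact h1

theorem P_ind {motive : P F → Prop} (h : ∀ (n : ICone) (ξ : F.obj (op n)) (v : Orth n),
    motive (P.mk ξ v)) (x : P F) : motive x := by
  induction x using Quot.ind with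
  | _ p =>
    obtain ⟨⟨n, ξ⟩, v⟩ := p
    exact h n ξ v

theorem map_mk {G : Fan.{u}} (f : F ⟶ G) {n : ICone} (ξ : F.obj (op n)) (v : Orth n) :
    P.map f (P.mk ξ v) = P.mk (f.app _ ξ) v := rfl

end Groth.Agent.FanBasic9
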