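import Mathlib
import Groth.Agent.Lib.FanBasic1_helper9

set_option autoImplicit false
universe u
open CategoryTheory Opposite Instab
open Instab Instab.Fan

namespace Groth.Agent.FanCone9

variable {ι : Type*} [Fintype ι] [DecidableEq ι] {κ : Type*}

/-- real solutions of an integral homogeneous linear system -/
def SolR (M : κ → ι → ℤ) (x : ι → ℝ) : Prop := ∀ j, ∑ i, (M j i : ℝ) * x i = 0

/-- integral solutions -/
def SolZ (M : κ → ι → ℤ) (u : ι → ℤ) : Prop := ∀ j, ∑ i, M j i * u i = 0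

/-- a nonnegative real solution has a nonnegative rational solution with the same support -/
theorem exists_rat_point (M : κ → ι → ℤ) (x : ι → ℝ) (hx : SolR M x) (hnn : ∀ i, 0 ≤ x i) :
    ∃ u : ι → ℚ, (∀ j, ∑ i, (M j i : ℚ) * u i = 0) ∧ (∀ i, x i = 0 → u i = 0) ∧
      (∀ i, 0 < x i → 0 < u i) := by
  classical
  let W : Submodule ℚ ℝ := Submodule.span ℚ (Set.range x)
  haveI : FiniteDimensional ℚ W := FiniteDimensional.span_of_finite ℚ (Set.finite_range x)
  let b := Module.finBasis ℚ W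
  let xi : ι → W := fun i => ⟨x i, Submodule.subset_span (Set.mem_range_self i)⟩
  let q : ι → Fin (Module.finrank ℚ W) → ℚ := fun i l => b.repr (xi i) l
  have hrepr : ∀ i, x i = ∑ l, (q i l : ℝ) * (b l : ℝ) := by
    intro i
    have h1 := b.sum_repr (xi i)
    have h2 := congrArg (Subtype.val) h1
    rw [Submodule.coe_sum] at h2
    simp only [Submodule.coe_smul, Rat.smul_def] at h2
    exact h2.symm
  have hMq : ∀ j l, ∑ i, (M j i : ℚ) * q i l = 0 := by
    intro j l
    have h1 : ∑ i, (M j i : ℚ) • xi i = 0 := by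
      apply Subtype.ext
      rw [Submodule.coe_sum]
      simp only [Submodule.coe_smul, Rat.smul_def, Submodule.coe_zero]
      have := hx j
      simpa using this
    have h2 := congrArg (fun w => b.repr w l) h1
    simp only [map_sum, map_smul, Finsupp.coe_finset_sum, Finsupp.coe_smul, Finset.sum_apply,
      Pi.smul_apply, smul_eq_mul, map_zero, Finsupp.coe_zero, Pi.zero_apply] at h2
    exact h2
  have hq0 : ∀ i, x i = 0 → ∀ l, q i l = 0 := by
    intro i hi l
    have : xi i = 0 := Subtype.ext hi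
    change b.repr (xi i) l = 0
    rw [this]; simp
  -- approximation
  let O : Set (Fin (Module.finrank ℚ W) → ℝ) :=
    {ρ | ∀ i, 0 < x i → 0 < ∑ l, (q i l : ℝ) * ρ l}
  have hO : IsOpen O := by
    have : O = ⋂ i, {ρ | 0 < x i → 0 < ∑ l, (q i l : ℝ) * ρ l} := by
      ext ρ; simp [O]
    rw [this]
    refine isOpen_iInter_of_finite fun i => ?_
    by_cases hi : 0 < x i
    · have : {ρ : Fin (Module.finrank ℚ W) → ℝ | 0 < x i → 0 < ∑ l, (q i l : ℝ) * ρ l}
          = {ρ | 0 < ∑ l, (q i l : ℝ) * ρ l} := by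
        ext ρ; simp [hi]
      rw [this]
      refine isOpen_lt continuous_const ?_
      refine continuous_finset_sum _ fun l _ => ?_
      exact continuous_const.mul (continuous_apply l)
    · have : {ρ : Fin (Module.finrank ℚ W) → ℝ | 0 < x i → 0 < ∑ l, (q i l : ℝ) * ρ l}
          = Set.univ := by
        ext ρ; simp [hi]
      rw [this]; exact isOpen_univ
  have hne : O.Nonempty := ⟨fun l => (b l : ℝ), fun i hi => by rw [← hrepr i]; exact hi⟩
  have hd : DenseRange (fun (ρ : Fin (Module.finrank ℚ W) → ℚ) => fun l => ((ρ l : ℚ) : ℝ)) :=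
    DenseRange.piMap (fun _ => Rat.denseRange_cast)
  obtain ⟨ρ, hρ⟩ := hd.exists_mem_open hO hne
  refine ⟨fun i => ∑ l, q i l * ρ l, ?_, ?_, ?_⟩
  · intro j
    simp_rw [Finset.mul_sum]
    rw [Finset.sum_comm]
    refine Finset.sum_eq_zero fun l _ => ?_
    have := hMq j l
    calc ∑ i, (M j i : ℚ) * (q i l * ρ l) = (∑ i, (M j i : ℚ) * q i l) * ρ l := by
          rw [Finset.sum_mul]; refine Finset.sum_congr rfl fun i _ => by ring
      _ = 0 := by rw [this, zero_mul]
  · intro i hi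
    refine Finset.sum_eq_zero fun l _ => ?_
    rw [hq0 i hi l, zero_mul]
  · intro i hi
    have := hρ i hi
    have h2 : ((∑ l, q i l * ρ l : ℚ) : ℝ) = ∑ l, (q i l : ℝ) * (ρ l : ℝ) := by push_cast; rfl
    have h3 : (0 : ℝ) < ((∑ l, q i l * ρ l : ℚ) : ℝ) := by rw [h2]; exact this
    exact_mod_cast h3

/-- a nonnegative real solution has a nonnegative integral solution with the same support -/
theorem exists_int_point (M : κ → ι → ℤ) (x : ι → ℝ) (hx : SolR M x) (hnn : ∀ i, 0 ≤ x i) :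
    ∃ u : ι → ℤ, SolZ M u ∧ (∀ i, x i = 0 → u i = 0) ∧ (∀ i, 0 < x i → 0 < u i) := by
  classical
  obtain ⟨uQ, h1, h2, h3⟩ := exists_rat_point M x hx hnn
  let D : ℕ := ∏ i, (uQ i).den
  have hD : 0 < D := Finset.prod_pos fun i _ => (uQ i).den_pos
  have hex : ∀ i, ∃ z : ℤ, (z : ℚ) = (D : ℚ) * uQ i := by
    intro i
    obtain ⟨e, he⟩ : (uQ i).den ∣ D := Finset.dvd_prod_of_mem _ (Finset.mem_univ i)
    refine ⟨(e : ℤ) * (uQ i).num, ?_⟩
    rw [he]
    push_cast
    have := Rat.mul_den_eq_num (uQ i)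
    calc ((e : ℚ) * ((uQ i).num : ℚ)) = (e : ℚ) * (uQ i * (uQ i).den) := by rw [this]
      _ = _ := by ring
  choose u hu using hex
  refine ⟨u, ?_, ?_, ?_⟩
  · intro j
    have : ((∑ i, M j i * u i : ℤ) : ℚ) = 0 := by
      push_cast
      simp_rw [hu]
      calc ∑ i, (M j i : ℚ) * ((D : ℚ) * uQ i) = (D : ℚ) * ∑ i, (M j i : ℚ) * uQ i := by
            rw [Finset.mul_sum]; refine Finset.sum_congr rfl fun i _ => by ring
        _ = 0 := by rw [h1 j, mul_zero]
    exact_mod_cast this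
  · intro i hi
    have : (u i : ℚ) = 0 := by rw [hu, h2 i hi, mul_zero]
    exact_mod_cast this
  · intro i hi
    have : (0 : ℚ) < (u i : ℚ) := by
      rw [hu]
      exact mul_pos (by exact_mod_cast hD) (h3 i hi)
    exact_mod_cast this

/-- Carathéodory-type decomposition: a nonnegative real solution of an integral system is a
nonnegative combination of linearly independent nonnegative integral solutions supported in the
support of the point. -/
theorem exists_decomp (M : κ → ι → ℤ) : ∀ (N : ℕ) (x : ι → ℝ), SolR M x → (∀ i, 0 ≤ x i) →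
    (Finset.univ.filter (fun i => x i ≠ 0)).card ≤ N →
    ∃ (m : ℕ) (w : Fin m → ι → ℤ) (z : Fin m → ℝ), (∀ a, SolZ M (w a)) ∧ (∀ a i, 0 ≤ w a i) ∧
      (∀ a i, x i = 0 → w a i = 0) ∧ (∀ c : Fin m → ℤ, (∀ i, ∑ a, c a * w a i = 0) → c = 0) ∧
      (∀ a, 0 ≤ z a) ∧ (∀ i, x i = ∑ a, z a * (w a i : ℝ)) := by
  classical
  intro N
  induction N with
  | zero =>
    intro x hx hnn hcard
    have hx0 : ∀ i, x i = 0 := by
      intro i
      by_contra hne
      have : i ∈ Finset.univ.filter (fun i => x i ≠ 0) := by simp [hne]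
      have := Finset.card_pos.2 ⟨i, this⟩
      omega
    refine ⟨0, Fin.elim0, Fin.elim0, fun a => a.elim0, fun a => a.elim0, fun a => a.elim0,
      fun c _ => funext fun a => a.elim0, fun a => a.elim0, fun i => by simp [hx0 i]⟩
  | succ N ih =>
    intro x hx hnn hcard
    by_cases hx0 : ∀ i, x i = 0
    · refine ⟨0, Fin.elim0, Fin.elim0, fun a => a.elim0, fun a => a.elim0, fun a => a.elim0,
        fun c _ => funext fun a => a.elim0, fun a => a.elim0, fun i => by simp [hx0 i]⟩
    push_neg at hx0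
    obtain ⟨i₁, hi₁⟩ := hx0
    obtain ⟨u, hu1, hu2, hu3⟩ := exists_int_point M x hx hnn
    let S : Finset ι := Finset.univ.filter (fun i => 0 < x i)
    have hS : S.Nonempty := ⟨i₁, by simp [S, lt_of_le_of_ne (hnn i₁) (Ne.symm hi₁)]⟩
    obtain ⟨i₀, hi₀S, hmin⟩ := Finset.exists_min_image S (fun i => x i / (u i : ℝ)) hS
    have hi₀ : 0 < x i₀ := by simpa [S] using hi₀S
    have hui₀ : (0 : ℝ) < (u i₀ : ℝ) := by exact_mod_cast hu3 i₀ hi₀
    set t : ℝ := x i₀ / (u i₀ : ℝ) with ht
    have htpos : 0 < t := div_pos hi₀ hui₀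
    let x' : ι → ℝ := fun i => x i - t * (u i : ℝ)
    have hx'0 : ∀ i, x i = 0 → x' i = 0 := by
      intro i hi
      simp [x', hi, hu2 i hi]
    have hx'nn : ∀ i, 0 ≤ x' i := by
      intro i
      rcases (hnn i).eq_or_lt with h | h
      · rw [hx'0 i h.symm]
      · have hui : (0 : ℝ) < (u i : ℝ) := by exact_mod_cast hu3 i h
        have := hmin i (by simp [S, h])
        change t ≤ x i / (u i : ℝ) at this
        rw [le_div_iff₀ hui] at this
        change 0 ≤ x i - t * (u i : ℝ)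
        linarith
    have hx'i₀ : x' i₀ = 0 := by
      change x i₀ - t * (u i₀ : ℝ) = 0
      rw [ht]; field_simp; ring
    have hx'sol : SolR M x' := by
      intro j
      have h1 := hx j
      have h2 : (∑ i, (M j i : ℝ) * (u i : ℝ)) = 0 := by exact_mod_cast hu1 j
      calc ∑ i, (M j i : ℝ) * x' i
          = ∑ i, (M j i : ℝ) * x i - t * ∑ i, (M j i : ℝ) * (u i : ℝ) := by
            rw [Finset.mul_sum, ← Finset.sum_sub_distrib]
            refine Finset.sum_congr rfl fun i _ => by simp only [x']; ring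
        _ = 0 := by rw [h1, h2]; ring
    have hcard' : (Finset.univ.filter (fun i => x' i ≠ 0)).card ≤ N := by
      have hss : Finset.univ.filter (fun i => x' i ≠ 0) ⊂ Finset.univ.filter (fun i => x i ≠ 0) := by
        rw [Finset.ssubset_iff_of_subset]
        · exact ⟨i₀, by simp [hi₀.ne'], by simp [hx'i₀]⟩
        · intro i hi
          simp only [Finset.mem_filter, Finset.mem_univ, true_and] at hi ⊢
          exact fun h => hi (hx'0 i h)
      have := Finset.card_lt_card hss
      omega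
    obtain ⟨m, w, z, hw1, hw2, hw3, hw4, hz, hsum⟩ := ih x' hx'sol hx'nn hcard'
    refine ⟨m + 1, Fin.cons u w, Fin.cons t z, ?_, ?_, ?_, ?_, ?_, ?_⟩
    · intro a
      refine Fin.cases ?_ (fun a => ?_) a
      · simpa using hu1
      · simpa using hw1 a
    · intro a
      refine Fin.cases ?_ (fun a => ?_) a
      · intro i
        simp only [Fin.cons_zero]
        rcases (hnn i).eq_or_lt with h | h
        · rw [hu2 i h.symm]
        · exact (hu3 i h).le
      · intro i; simpa using hw2 a i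
    · intro a
      refine Fin.cases ?_ (fun a => ?_) a
      · intro i hi; simpa using hu2 i hi
      · intro i hi; simpa using hw3 a i (hx'0 i hi)
    · intro c hc
      have hc0 : c 0 = 0 := by
        have := hc i₀
        rw [Fin.sum_univ_succ] at this
        simp only [Fin.cons_zero, Fin.cons_succ] at this
        have h0 : ∑ a : Fin m, c a.succ * w a i₀ = 0 :=
          Finset.sum_eq_zero fun a _ => by rw [hw3 a i₀ hx'i₀, mul_zero]
        rw [h0, add_zero] at this
        rcases mul_eq_zero.1 this with h | h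
        · exact h
        · exact absurd h (hu3 i₀ hi₀).ne'
      have hrest : (fun a : Fin m => c a.succ) = 0 := by
        apply hw4
        intro i
        have := hc i
        rw [Fin.sum_univ_succ] at this
        simp only [Fin.cons_zero, Fin.cons_succ, hc0, zero_mul, zero_add] at this
        exact this
      funext a
      refine Fin.cases ?_ (fun a => ?_) a
      · exact hc0
      · exact congr_fun hrest a
    · intro a
      refine Fin.cases ?_ (fun a => ?_) a
      · simpa using htpos.le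
      · simpa using hz a
    · intro i
      rw [Fin.sum_univ_succ]
      simp only [Fin.cons_zero, Fin.cons_succ]
      have := hsum i
      change x i - t * (u i : ℝ) = _ at this
      linarith

open Groth.Agent.FanBasic9

/-- the key "fibre product of simplicial cones" lemma: two points of two rational simplices
mapping to the same ray of a third one come from a common simplicial subcone. -/
theorem exists_common {k k' n : ICone} (φ : k ⟶ n) (ψ : k' ⟶ n) (y : Orth k) (y' : Orth k')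
    (c d : ℝ) (hc : 0 < c) (hd : 0 < d) (h : c • φ.realMap y.1 = d • ψ.realMap y'.1) :
    ∃ (m : ICone) (α : m ⟶ k) (β : m ⟶ k') (z : Orth m) (a b : ℝ),
      α ≫ φ = β ≫ ψ ∧ 0 < a ∧ 0 < b ∧ y.1 = a • α.realMap z.1 ∧ y'.1 = b • β.realMap z.1 := by
  classical
  let M : Fin n.dim → (Fin k.dim ⊕ Fin k'.dim) → ℤ := fun j =>
    Sum.elim (fun i => φ.toLin (Pi.single i 1) j) (fun i' => - ψ.toLin (Pi.single i' 1) j)
  let x : (Fin k.dim ⊕ Fin k'.dim) → ℝ := Sum.elim (fun i => c * y.1 i) (fun i' => d * y'.1 i')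
  have hx : SolR M x := by
    intro j
    rw [Fintype.sum_sum_type]
    simp only [M, x, Sum.elim_inl, Sum.elim_inr]
    have := congr_fun h j
    simp only [Pi.smul_apply, smul_eq_mul] at this
    change c * ∑ i, _ * y.1 i = d * ∑ i, _ * y'.1 i at this
    rw [Finset.mul_sum, Finset.mul_sum] at this
    have e1 : ∑ i, ((φ.toLin (Pi.single i 1) j : ℤ) : ℝ) * (c * y.1 i)
        = ∑ i, c * (((φ.toLin (Pi.single i 1) j : ℤ) : ℝ) * y.1 i) :=
      Finset.sum_congr rfl fun i _ => by ring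
    have e2 : ∑ i, (((- ψ.toLin (Pi.single i 1) j : ℤ)) : ℝ) * (d * y'.1 i)
        = - ∑ i, d * (((ψ.toLin (Pi.single i 1) j : ℤ) : ℝ) * y'.1 i) := by
      rw [← Finset.sum_neg_distrib]
      exact Finset.sum_congr rfl fun i _ => by push_cast; ring
    rw [e1, e2, this]; ring
  have hnn : ∀ i, 0 ≤ x i := by
    rintro (i | i)
    · exact mul_nonneg hc.le (y.2.1 i)
    · exact mul_nonneg hd.le (y'.2.1 i)
  obtain ⟨m₀, w, z, hw1, hw2, hw3, hw4, hz, hsum⟩ := exists_decomp M _ x hx hnn le_rfl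
  -- the point x is nonzero
  have hxne : ∃ i, x (Sum.inl i) ≠ 0 := by
    by_contra hcon
    push_neg at hcon
    apply y.2.2
    funext i
    have := hcon i
    simp only [x, Sum.elim_inl] at this
    rcases mul_eq_zero.1 this with h | h
    · exact absurd h hc.ne'
    · exact h
  have hm₀ : 0 < m₀ := by
    rcases Nat.eq_zero_or_pos m₀ with h0 | h0
    · subst h0
      obtain ⟨i, hi⟩ := hxne
      exact absurd (by rw [hsum (Sum.inl i)]; simp) hi
    · exact h0
  let m : ICone := ⟨⟨m₀, hm₀⟩⟩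
  let A : Matrix (Fin k.dim) (Fin m₀) ℤ := fun i a => w a (Sum.inl i)
  let B : Matrix (Fin k'.dim) (Fin m₀) ℤ := fun i a => w a (Sum.inr i)
  have hA : ∀ (cc : Fin m₀ → ℤ) i, A.mulVecLin cc i = ∑ a, cc a * w a (Sum.inl i) := by
    intro cc i
    simp only [Matrix.mulVecLin_apply, Matrix.mulVec, dotProduct, A]
    exact Finset.sum_congr rfl fun a _ => mul_comm _ _
  have hB : ∀ (cc : Fin m₀ → ℤ) i, B.mulVecLin cc i = ∑ a, cc a * w a (Sum.inr i) := by
    intro cc i
    simp only [Matrix.mulVecLin_apply, Matrix.mulVec, dotProduct, B]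
    exact Finset.sum_congr rfl fun a _ => mul_comm _ _
  -- compatibility
  have hcompat : ∀ cc : Fin m₀ → ℤ, φ.toLin (A.mulVecLin cc) = ψ.toLin (B.mulVecLin cc) := by
    intro cc
    funext j
    rw [toLin_apply φ.toLin, toLin_apply ψ.toLin]
    simp_rw [hA, hB, Finset.sum_mul]
    rw [Finset.sum_comm, Finset.sum_comm (s := Finset.univ (α := Fin k'.dim))]
    refine Finset.sum_congr rfl fun a _ => ?_
    have := hw1 a j
    rw [Fintype.sum_sum_type] at this
    simp only [M, Sum.elim_inl, Sum.elim_inr] at this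
    have e1 : ∑ i, cc a * w a (Sum.inl i) * φ.toLin (Pi.single i 1) j
        = cc a * ∑ i, φ.toLin (Pi.single i 1) j * w a (Sum.inl i) := by
      rw [Finset.mul_sum]; exact Finset.sum_congr rfl fun i _ => by ring
    have e2 : ∑ i, cc a * w a (Sum.inr i) * ψ.toLin (Pi.single i 1) j
        = cc a * ∑ i, ψ.toLin (Pi.single i 1) j * w a (Sum.inr i) := by
      rw [Finset.mul_sum]; exact Finset.sum_congr rfl fun i _ => by ring
    rw [e1, e2]
    congr 1
    have e3 : ∑ i, -ψ.toLin (Pi.single i 1) j * w a (Sum.inr i)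
        = - ∑ i, ψ.toLin (Pi.single i 1) j * w a (Sum.inr i) := by
      rw [← Finset.sum_neg_distrib]; exact Finset.sum_congr rfl fun i _ => by ring
    rw [e3] at this
    linarith
  have hker : ∀ cc : Fin m₀ → ℤ, A.mulVecLin cc = 0 → B.mulVecLin cc = 0 → cc = 0 := by
    intro cc h1 h2
    apply hw4
    rintro (i | i)
    · rw [← hA]; rw [h1]; rfl
    · rw [← hB]; rw [h2]; rfl
  have hAinj : Function.Injective A.mulVecLin := by
    rw [injective_iff_map_eq_zero]
    intro cc hcc
    refine hker cc hcc ?_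
    apply ψ.injective
    rw [← hcompat, hcc, map_zero, map_zero]
  have hBinj : Function.Injective B.mulVecLin := by
    rw [injective_iff_map_eq_zero]
    intro cc hcc
    refine hker cc ?_ hcc
    apply φ.injective
    rw [hcompat, hcc, map_zero, map_zero]
  let α : m ⟶ k := ⟨A.mulVecLin, hAinj, fun v hv j => by
    exact le_of_le_of_eq (Finset.sum_nonneg fun a _ => mul_nonneg (hv a) (hw2 a _)) (hA v j).symm⟩
  let β : m ⟶ k' := ⟨B.mulVecLin, hBinj, fun v hv j => by
    exact le_of_le_of_eq (Finset.sum_nonneg fun a _ => mul_nonneg (hv a) (hw2 a _)) (hB v j).symm⟩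
  have hzne : z ≠ 0 := by
    intro hz0
    obtain ⟨i, hi⟩ := hxne
    exact absurd (by rw [hsum (Sum.inl i), hz0]; simp) hi
  let zz : Orth m := ⟨z, hz, hzne⟩
  have hαz : ∀ i, α.realMap z i = c * y.1 i := by
    intro i
    change ∑ a, ((A.mulVecLin (Pi.single a 1) i : ℤ) : ℝ) * z a = _
    have := hsum (Sum.inl i)
    simp only [x, Sum.elim_inl] at this
    rw [this]
    refine Finset.sum_congr rfl fun a _ => ?_
    rw [hA]
    simp [Pi.single_apply, mul_comm]
  have hβz : ∀ i, β.realMap z i = d * y'.1 i := by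
    intro i
    change ∑ a, ((B.mulVecLin (Pi.single a 1) i : ℤ) : ℝ) * z a = _
    have := hsum (Sum.inr i)
    simp only [x, Sum.elim_inr] at this
    rw [this]
    refine Finset.sum_congr rfl fun a _ => ?_
    rw [hB]
    simp [Pi.single_apply, mul_comm]
  refine ⟨m, α, β, zz, c⁻¹, d⁻¹, ?_, inv_pos.2 hc, inv_pos.2 hd, ?_, ?_⟩
  · apply ICone.Hom.ext
    apply LinearMap.ext
    intro cc
    exact hcompat cc
  · funext i
    simp only [Pi.smul_apply, smul_eq_mul]
    change y.1 i = c⁻¹ * α.realMap z i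
    rw [hαz]; field_simp
  · funext i
    simp only [Pi.smul_apply, smul_eq_mul]
    change y'.1 i = d⁻¹ * β.realMap z i
    rw [hβz]; field_simp

/-- the "common subcone" relation on points of the disjoint union -/
def CS (F : Fan.{u}) (p q : Pt F) : Prop :=
  ∃ (k : ICone) (φ₁ : k ⟶ p.1.1) (φ₂ : k ⟶ q.1.1) (y : Orth k) (c₁ c₂ : ℝ),
    F.map φ₁.op p.1.2 = F.map φ₂.op q.1.2 ∧ 0 < c₁ ∧ 0 < c₂ ∧
      p.2.1 = c₁ • φ₁.realMap y.1 ∧ q.2.1 = c₂ • φ₂.realMap y.1

theorem CS.refl (F : Fan.{u}) (p : Pt F) : CS F p p :=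
  ⟨p.1.1, 𝟙 _, 𝟙 _, p.2, 1, 1, rfl, one_pos, one_pos, by rw [realMap_id, one_smul],
    by rw [realMap_id, one_smul]⟩

theorem CS.symm {F : Fan.{u}} {p q : Pt F} (h : CS F p q) : CS F q p := by
  obtain ⟨k, φ₁, φ₂, y, c₁, c₂, h1, h2, h3, h4, h5⟩ := h
  exact ⟨k, φ₂, φ₁, y, c₂, c₁, h1.symm, h3, h2, h5, h4⟩

theorem CS.of_rel {F : Fan.{u}} {p q : Pt F} (h : Rel F p q) : CS F p q := by
  obtain ⟨φ, ξ, v, w, c, hc, h⟩ := h
  refine ⟨_, 𝟙 _, φ, v, 1, c, ?_, one_pos, hc, by rw [realMap_id, one_smul], h⟩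
  change F.map (𝟙 _).op (F.map φ.op ξ) = F.map φ.op ξ
  rw [op_id, FunctorToTypes.map_id_apply]

theorem CS.trans {F : Fan.{u}} {p q r : Pt F} (h₁ : CS F p q) (h₂ : CS F q r) : CS F p r := by
  obtain ⟨k, φ₁, φ₂, y, c₁, c₂, e1, hc₁, hc₂, hp, hq⟩ := h₁
  obtain ⟨k', ψ₂, ψ₃, y', d₂, d₃, e2, hd₂, hd₃, hq', hr⟩ := h₂
  obtain ⟨m, α, β, z, a, b, hαβ, ha, hb, hy, hy'⟩ :=
    exists_common φ₂ ψ₂ y y' c₂ d₂ hc₂ hd₂ (by rw [← hq, ← hq'])
  refine ⟨m, α ≫ φ₁, β ≫ ψ₃, z, c₁ * a, d₃ * b, ?_, mul_pos hc₁ ha, mul_pos hd₃ hb, ?_, ?_⟩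
  · rw [op_comp, op_comp, FunctorToTypes.map_comp_apply, FunctorToTypes.map_comp_apply, e1, ← e2,
      ← FunctorToTypes.map_comp_apply, ← FunctorToTypes.map_comp_apply, ← op_comp, ← op_comp, hαβ]
  · rw [hp, hy, realMap_smul, realMap_comp, smul_smul]
  · rw [hr, hy', realMap_smul, realMap_comp, smul_smul]

/-- **Common subcone lemma.** Two pairs (cone, vector) giving the same point of `P F` lie in the
rational simplex of a common subcone. -/
theorem common_of_mk_eq (F : Fan.{u}) {n₁ n₂ : ICone}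
    (σ₁ : F.obj (op n₁)) (σ₂ : F.obj (op n₂)) (v₁ : Fan.Orth n₁) (v₂ : Fan.Orth n₂)
    (h : Fan.P.mk σ₁ v₁ = Fan.P.mk σ₂ v₂) :
    ∃ (k : ICone) (φ₁ : k ⟶ n₁) (φ₂ : k ⟶ n₂) (y : Fan.Orth k) (c₁ c₂ : ℝ),
      F.map φ₁.op σ₁ = F.map φ₂.op σ₂ ∧ 0 < c₁ ∧ 0 < c₂ ∧
        v₁.1 = c₁ • φ₁.realMap y.1 ∧ v₂.1 = c₂ • φ₂.realMap y.1 := by
  have h1 : Relation.EqvGen (Rel F) ⟨⟨n₁, σ₁⟩, v₁⟩ ⟨⟨n₂, σ₂⟩, v₂⟩ := Quot.eqvGen_exact h
  have h2 : ∀ p q : Pt F, Relation.EqvGen (Rel F) p q → CS F p q := by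
    intro p q hpq
    induction hpq with
    | rel _ _ h => exact CS.of_rel h
    | refl p => exact CS.refl F p
    | symm _ _ _ ih => exact ih.symm
    | trans _ _ _ _ _ ih1 ih2 => exact ih1.trans ih2
  exact h2 _ _ h1

end Groth.Agent.FanCone9
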