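import Mathlib
import Groth.Agent.Lib.FanCone1_helper9

set_option autoImplicit false
universe u
open CategoryTheory Opposite Instab
open Instab Instab.Fan

namespace Groth.Agent.FanMap9

open Groth.Agent.FanBasic9 Groth.Agent.FanCone9

variable {F G : Fan.{u}}

theorem mk_eq_of_common {n₁ n₂ k : ICone} (σ₁ : F.obj (op n₁)) (σ₂ : F.obj (op n₂))
    (v₁ : Orth n₁) (v₂ : Orth n₂) (φ₁ : k ⟶ n₁) (φ₂ : k ⟶ n₂) (y : Orth k) (c₁ c₂ : ℝ)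
    (e : F.map φ₁.op σ₁ = F.map φ₂.op σ₂) (h₁ : 0 < c₁) (h₂ : 0 < c₂)
    (hv₁ : v₁.1 = c₁ • φ₁.realMap y.1) (hv₂ : v₂.1 = c₂ • φ₂.realMap y.1) :
    (P.mk σ₁ v₁ : P F) = P.mk σ₂ v₂ := by
  rw [← mk_glue φ₁ σ₁ y v₁ c₁ h₁ hv₁, ← mk_glue φ₂ σ₂ y v₂ c₂ h₂ hv₂, e]

theorem mk_eq_iff {n₁ n₂ : ICone} (σ₁ : F.obj (op n₁)) (σ₂ : F.obj (op n₂))
    (v₁ : Orth n₁) (v₂ : Orth n₂) :
    (P.mk σ₁ v₁ : P F) = P.mk σ₂ v₂ ↔
    ∃ (k : ICone) (φ₁ : k ⟶ n₁) (φ₂ : k ⟶ n₂) (y : Fan.Orth k) (c₁ c₂ : ℝ),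
      F.map φ₁.op σ₁ = F.map φ₂.op σ₂ ∧ 0 < c₁ ∧ 0 < c₂ ∧
        v₁.1 = c₁ • φ₁.realMap y.1 ∧ v₂.1 = c₂ • φ₂.realMap y.1 :=
  ⟨common_of_mk_eq F σ₁ σ₂ v₁ v₂, fun ⟨_, φ₁, φ₂, y, c₁, c₂, e, h₁, h₂, hv₁, hv₂⟩ =>
    mk_eq_of_common σ₁ σ₂ v₁ v₂ φ₁ φ₂ y c₁ c₂ e h₁ h₂ hv₁ hv₂⟩

theorem app_map (f : F ⟶ G) {k n : ICone} (φ : k ⟶ n) (ξ : F.obj (op n)) :
    f.app _ (F.map φ.op ξ) = G.map φ.op (f.app _ ξ) := NatTrans.naturality_apply f φ.op ξ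

theorem map_injective (f : F ⟶ G) (hf : ∀ n : ICone, Function.Injective (f.app (op n))) :
    Function.Injective (P.map f) := by
  intro x x'
  induction x using P_ind with
  | _ n σ v =>
  induction x' using P_ind with
  | _ n' σ' v' =>
  intro h
  rw [map_mk, map_mk] at h
  obtain ⟨k, φ₁, φ₂, y, c₁, c₂, e, h₁, h₂, hv₁, hv₂⟩ := common_of_mk_eq G _ _ _ _ h
  rw [← app_map, ← app_map] at e
  exact mk_eq_of_common σ σ' v v' φ₁ φ₂ y c₁ c₂ (hf _ e) h₁ h₂ hv₁ hv₂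

theorem map_surjective (f : F ⟶ G) (hf : ∀ n : ICone, Function.Surjective (f.app (op n))) :
    Function.Surjective (P.map f) := by
  intro x
  induction x using P_ind with
  | _ n τ v =>
  obtain ⟨σ, rfl⟩ := hf n τ
  exact ⟨P.mk σ v, rfl⟩

theorem map_id_apply (x : P F) : P.map (𝟙 F) x = x := by
  induction x using P_ind with
  | _ n σ v => rfl

theorem map_comp_apply {H : Fan.{u}} (f : F ⟶ G) (g : G ⟶ H) (x : P F) :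
    P.map (f ≫ g) x = P.map g (P.map f x) := by
  induction x using P_ind with
  | _ n σ v => rfl

end Groth.Agent.FanMap9
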