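import Mathlib
import Groth.Agent.Lib.FanMap1_helper9

set_option autoImplicit false
universe u
open CategoryTheory Opposite Instab
open Instab Instab.Fan

namespace Groth.Agent.FanPull9

open Groth.Agent.FanBasic9 Groth.Agent.FanCone9 Groth.Agent.FanMap9

variable {F F' G : Fan.{u}}

theorem coneMap_comp (f : F ⟶ G) {k : ICone} (a : F.obj (op k)) :
    coneMap a ≫ f = coneMap (f.app _ a) :=
  uliftYonedaEquiv_symm_comp a f

/-- cones of a fibre product are compatible pairs of cones (existence) -/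
theorem exists_pullback_cone (f : F ⟶ G) (g : F' ⟶ G) {k : ICone} (a : F.obj (op k))
    (b : F'.obj (op k)) (h : f.app _ a = g.app _ b) :
    ∃ τ : (Limits.pullback f g).obj (op k),
      (Limits.pullback.fst f g).app _ τ = a ∧ (Limits.pullback.snd f g).app _ τ = b := by
  have hcomp : coneMap a ≫ f = coneMap b ≫ g := by
    rw [coneMap_comp, coneMap_comp, h]
  refine ⟨uliftYonedaEquiv.{u} (Limits.pullback.lift (coneMap a) (coneMap b) hcomp), ?_, ?_⟩
  · rw [← uliftYonedaEquiv_comp, Limits.pullback.lift_fst]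
    exact uliftYonedaEquiv.apply_symm_apply a
  · rw [← uliftYonedaEquiv_comp, Limits.pullback.lift_snd]
    exact uliftYonedaEquiv.apply_symm_apply b

theorem pullback_cone_condition (f : F ⟶ G) (g : F' ⟶ G) {k : ICone}
    (τ : (Limits.pullback f g).obj (op k)) :
    f.app _ ((Limits.pullback.fst f g).app _ τ) = g.app _ ((Limits.pullback.snd f g).app _ τ) := by
  have := congrArg (fun (α : Limits.pullback f g ⟶ G) => α.app (op k) τ) (Limits.pullback.condition (f := f) (g := g))
  simpa using this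

theorem pullback_cone_ext (f : F ⟶ G) (g : F' ⟶ G) {k : ICone}
    (τ τ' : (Limits.pullback f g).obj (op k))
    (h1 : (Limits.pullback.fst f g).app _ τ = (Limits.pullback.fst f g).app _ τ')
    (h2 : (Limits.pullback.snd f g).app _ τ = (Limits.pullback.snd f g).app _ τ') : τ = τ' := by
  have : coneMap τ = coneMap τ' := by
    apply Limits.pullback.hom_ext
    · rw [coneMap_comp, coneMap_comp, h1]
    · rw [coneMap_comp, coneMap_comp, h2]
  exact uliftYonedaEquiv.symm.injective this

/-- surjectivity of `P (F ×_G F') → P F ×_{P G} P F'` -/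
theorem exists_pullback_point (f : F ⟶ G) (g : F' ⟶ G)
    (x : Fan.P F) (x' : Fan.P F') (h : Fan.P.map f x = Fan.P.map g x') :
    ∃ y : Fan.P (Limits.pullback f g),
      Fan.P.map (Limits.pullback.fst f g) y = x ∧ Fan.P.map (Limits.pullback.snd f g) y = x' := by
  induction x using P_ind with
  | _ n σ v =>
  induction x' using P_ind with
  | _ n' σ' v' =>
  rw [map_mk, map_mk] at h
  obtain ⟨k, φ₁, φ₂, y, c₁, c₂, e, h₁, h₂, hv₁, hv₂⟩ := common_of_mk_eq G _ _ _ _ h
  rw [← app_map, ← app_map] at e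
  obtain ⟨τ, hτ1, hτ2⟩ := exists_pullback_cone f g _ _ e
  refine ⟨P.mk τ y, ?_, ?_⟩
  · rw [map_mk, hτ1]
    exact mk_glue φ₁ σ y v c₁ h₁ hv₁
  · rw [map_mk, hτ2]
    exact mk_glue φ₂ σ' y v' c₂ h₂ hv₂

end Groth.Agent.FanPull9
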