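import Mathlib
import Groth.Agent.Lib.FanPull1_helper9

set_option autoImplicit false
universe u
open CategoryTheory Opposite Instab
open Instab Instab.Fan

namespace Groth.Agent.FanSub9

open Groth.Agent.FanBasic9 Groth.Agent.FanCone9 Groth.Agent.FanMap9 Groth.Agent.FanPull9

variable {F G : Fan.{u}}

theorem mem_range_ι (S : Subfunctor F) (x : P F) : x ∈ Set.range (P.map S.ι) ↔
    ∃ (n : ICone) (σ : F.obj (op n)) (v : Orth n), σ ∈ S.obj (op n) ∧ x = P.mk σ v := by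
  constructor
  · rintro ⟨y, rfl⟩
    induction y using P_ind with
    | _ n τ v => exact ⟨n, τ.1, v, τ.2, rfl⟩
  · rintro ⟨n, σ, v, hσ, rfl⟩
    exact ⟨P.mk (F := S.toFunctor) ⟨σ, hσ⟩ v, rfl⟩

theorem mem_range_map (f : F ⟶ G) (x : P G) : x ∈ Set.range (P.map f) ↔
    ∃ (n : ICone) (σ : F.obj (op n)) (v : Orth n), x = P.mk (f.app _ σ) v := by
  constructor
  · rintro ⟨y, rfl⟩
    induction y using P_ind with
    | _ n τ v => exact ⟨n, τ, v, rfl⟩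
  · rintro ⟨n, σ, v, rfl⟩
    exact ⟨P.mk σ v, rfl⟩

theorem range_map_eq_range_ι (f : F ⟶ G) :
    Set.range (P.map f) = Set.range (P.map (Subfunctor.range f).ι) := by
  ext x
  rw [mem_range_ι, mem_range_map]
  constructor
  · rintro ⟨n, σ, v, rfl⟩
    exact ⟨n, _, v, ⟨σ, rfl⟩, rfl⟩
  · rintro ⟨n, τ, v, ⟨σ, rfl⟩, rfl⟩
    exact ⟨n, σ, v, rfl⟩

theorem range_snd {G' : Fan.{u}} (f : F ⟶ G) (g : G' ⟶ G) :
    Set.range (P.map (Limits.pullback.snd f g)) = P.map g ⁻¹' Set.range (P.map f) := by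
  ext x'
  constructor
  · rintro ⟨y, rfl⟩
    refine ⟨P.map (Limits.pullback.fst f g) y, ?_⟩
    rw [← map_comp_apply, ← map_comp_apply, Limits.pullback.condition]
  · rintro ⟨x, hx⟩
    obtain ⟨y, _, hy⟩ := exists_pullback_point f g x x' hx
    exact ⟨y, hy⟩

theorem realizable_inter (U V : Set (P F)) (hU : IsRealizable U) (hV : IsRealizable V) :
    IsRealizable (U ∩ V) := by
  obtain ⟨S, rfl⟩ := hU
  obtain ⟨T, rfl⟩ := hV
  refine ⟨S ⊓ T, ?_⟩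
  ext x
  rw [Set.mem_inter_iff, mem_range_ι, mem_range_ι, mem_range_ι]
  constructor
  · rintro ⟨⟨n, σ, v, hσ, rfl⟩, ⟨n', σ', v', hσ', h⟩⟩
    obtain ⟨k, φ₁, φ₂, y, c₁, c₂, e, h₁, h₂, hv₁, hv₂⟩ := common_of_mk_eq F _ _ _ _ h
    refine ⟨k, F.map φ₁.op σ, y, ⟨S.map φ₁.op hσ, ?_⟩, (mk_glue φ₁ σ y v c₁ h₁ hv₁).symm⟩
    rw [e]
    exact T.map φ₂.op hσ'
  · rintro ⟨n, σ, v, ⟨h1, h2⟩, rfl⟩
    exact ⟨⟨n, σ, v, h1, rfl⟩, ⟨n, σ, v, h2, rfl⟩⟩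

theorem realizable_iUnion (ι : Type*) (U : ι → Set (P F)) (hU : ∀ i, IsRealizable (U i)) :
    IsRealizable (Set.iUnion U) := by
  choose S hS using hU
  refine ⟨⨆ i, S i, ?_⟩
  ext x
  rw [Set.mem_iUnion, mem_range_ι]
  constructor
  · rintro ⟨i, hi⟩
    rw [hS i, mem_range_ι] at hi
    obtain ⟨n, σ, v, hσ, rfl⟩ := hi
    refine ⟨n, σ, v, ?_, rfl⟩
    rw [Subfunctor.iSup_obj]
    exact Set.mem_iUnion.2 ⟨i, hσ⟩
  · rintro ⟨n, σ, v, hσ, rfl⟩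
    rw [Subfunctor.iSup_obj] at hσ
    obtain ⟨i, hi⟩ := Set.mem_iUnion.1 hσ
    refine ⟨i, ?_⟩
    rw [hS i, mem_range_ι]
    exact ⟨n, σ, v, hi, rfl⟩

end Groth.Agent.FanSub9
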