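import Mathlib
import Groth.Agent.Lib.FanSub1_helper9

set_option autoImplicit false
universe u
open CategoryTheory Opposite Instab
open Instab Instab.Fan

namespace Groth.Agent.FanRep9

open Groth.Agent.FanBasic9 Groth.Agent.FanCone9 Groth.Agent.FanMap9 Groth.Agent.FanPull9

/-- the representable fan of the cone `[n]` -/
abbrev H (n : ICone) : Fan.{u} := uliftYoneda.{u}.obj n

variable {F G : Fan.{u}}

theorem coneMap_app {n k : ICone} (σ : F.obj (op n)) (φ : k ⟶ n) :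
    (coneMap σ).app (op k) (ULift.up φ) = F.map φ.op σ := rfl

theorem coneMap_app' {n k : ICone} (σ : F.obj (op n)) (a : (H.{u} n).obj (op k)) :
    (coneMap σ).app (op k) a = F.map a.down.op σ := rfl

theorem H_map {n k m : ICone} (ψ : m ⟶ k) (φ : k ⟶ n) :
    (H.{u} n).map ψ.op (ULift.up φ) = ULift.up (ψ ≫ φ) := rfl

theorem H_map' {n k m : ICone} (ψ : m ⟶ k) (a : (H.{u} n).obj (op k)) :
    (H.{u} n).map ψ.op a = ULift.up (ψ ≫ a.down) := rfl

/-- the ray of `φ y` in `ℝ^n` is an invariant of the point of `P (H n)` -/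
theorem rep_ray {n k k' : ICone} (a : (H.{u} n).obj (op k)) (a' : (H.{u} n).obj (op k'))
    (y : Orth k) (y' : Orth k') (h : (P.mk a y : P (H.{u} n)) = P.mk a' y') :
    ∃ c : ℝ, 0 < c ∧ a.down.realMap y.1 = c • a'.down.realMap y'.1 := by
  obtain ⟨m, α, β, z, c₁, c₂, e, h₁, h₂, hv₁, hv₂⟩ := common_of_mk_eq _ _ _ _ _ h
  rw [H_map', H_map'] at e
  have e' : α ≫ a.down = β ≫ a'.down := congrArg ULift.down e
  refine ⟨c₁ / c₂, div_pos h₁ h₂, ?_⟩
  rw [hv₁, hv₂, realMap_smul, realMap_smul, ← realMap_comp, ← realMap_comp, e', smul_smul]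
  congr 1
  field_simp

theorem realMap_ne_zero {k n : ICone} (φ : k ⟶ n) (y : Orth k) : φ.realMap y.1 ≠ 0 := by
  intro h0
  have hy : ∃ i, y.1 i ≠ 0 := by
    by_contra hcon
    push_neg at hcon
    exact y.2.2 (funext hcon)
  obtain ⟨i, hi⟩ := hy
  have hipos : 0 < y.1 i := lt_of_le_of_ne (y.2.1 i) (Ne.symm hi)
  have hne : φ.toLin (Pi.single i 1) ≠ 0 := by
    intro h
    have := φ.injective (h.trans (map_zero φ.toLin).symm)
    have := congr_fun this i
    simp at this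
  obtain ⟨j, hj⟩ : ∃ j, φ.toLin (Pi.single i 1) j ≠ 0 := by
    by_contra hcon
    push_neg at hcon
    exact hne (funext hcon)
  have hnn : ∀ i', 0 ≤ φ.toLin (Pi.single i' 1) j := fun i' =>
    φ.nonneg (Pi.single i' 1) (fun l => by
      by_cases h : l = i'
      · subst h; simp
      · simp [h]) j
  have hjpos : (0 : ℝ) < ((φ.toLin (Pi.single i 1) j : ℤ) : ℝ) := by
    exact_mod_cast lt_of_le_of_ne (hnn i) (Ne.symm hj)
  have := congr_fun h0 j
  change ∑ i', ((φ.toLin (Pi.single i' 1) j : ℤ) : ℝ) * y.1 i' = 0 at this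
  have hle : ((φ.toLin (Pi.single i 1) j : ℤ) : ℝ) * y.1 i
      ≤ ∑ i', ((φ.toLin (Pi.single i' 1) j : ℤ) : ℝ) * y.1 i' :=
    Finset.single_le_sum (f := fun i' => ((φ.toLin (Pi.single i' 1) j : ℤ) : ℝ) * y.1 i')
      (fun i' _ => mul_nonneg (by exact_mod_cast hnn i') (y.2.1 i')) (Finset.mem_univ i)
  have := mul_pos hjpos hipos
  linarith

/-- the induced map on punctured orthants -/
def realMapOrth {k n : ICone} (φ : k ⟶ n) (y : Orth k) : Orth n :=
  ⟨φ.realMap y.1, realMap_nonneg φ y.1 y.2.1, realMap_ne_zero φ y⟩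

@[simp] theorem realMapOrth_val {k n : ICone} (φ : k ⟶ n) (y : Orth k) :
    (realMapOrth φ y).1 = φ.realMap y.1 := rfl

theorem mk_map {k n : ICone} (φ : k ⟶ n) (ξ : F.obj (op n)) (y : Orth k) :
    (P.mk (F.map φ.op ξ) y : P F) = P.mk ξ (realMapOrth φ y) :=
  mk_glue φ ξ y _ 1 one_pos (by simp)

theorem rep_mk_eq {n k : ICone} (a : (H.{u} n).obj (op k)) (y : Orth k) :
    (P.mk a y : P (H.{u} n)) = P.mk (ULift.up (𝟙 n)) (realMapOrth a.down y) := by
  have h1 := mk_map (F := H.{u} n) a.down (ULift.up (𝟙 n)) y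
  have h2 : (H.{u} n).map a.down.op (ULift.up (𝟙 n)) = a := by
    rw [H_map, Category.comp_id]
  rw [h2] at h1
  exact h1

theorem rep_bounded (n : ICone) : IsBounded (H.{u} n) := by
  refine ⟨{⟨n, ULift.up (𝟙 n)⟩}, fun x => ?_⟩
  induction x using P_ind with
  | _ k a y =>
  exact ⟨_, Finset.mem_singleton_self _, ⟨realMapOrth a.down y, (rep_mk_eq a y).symm⟩⟩

/-- a fan covered by the images of finitely many bounded fans is bounded -/
theorem bounded_of_cover {Q : Fan.{u}} {ι : Type*} [Finite ι] (Qi : ι → Fan.{u})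
    (θ : ∀ i, Qi i ⟶ Q) (hb : ∀ i, IsBounded (Qi i))
    (hcov : ∀ x : P Q, ∃ i, x ∈ Set.range (P.map (θ i))) : IsBounded Q := by
  classical
  haveI := Fintype.ofFinite ι
  choose t ht using hb
  refine ⟨Finset.univ.biUnion (fun i => (t i).image (fun ρ => ⟨ρ.1, (θ i).app _ ρ.2⟩)), fun x => ?_⟩
  obtain ⟨i, y, rfl⟩ := hcov x
  obtain ⟨ρ, hρ, ⟨z, hz⟩⟩ := ht i y
  refine ⟨⟨ρ.1, (θ i).app _ ρ.2⟩, ?_, ⟨z, ?_⟩⟩
  · rw [Finset.mem_biUnion]
    exact ⟨i, Finset.mem_univ i, Finset.mem_image.2 ⟨ρ, hρ, rfl⟩⟩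
  · rw [← hz]; rfl

end Groth.Agent.FanRep9
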