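import Mathlib
import Groth.Agent.Lib.FanRep1_helper9

set_option autoImplicit false
universe u
open CategoryTheory Opposite Instab
open Instab Instab.Fan

namespace Groth.Agent.FanQS9

open Groth.Agent.FanBasic9 Groth.Agent.FanCone9 Groth.Agent.FanMap9 Groth.Agent.FanPull9
  Groth.Agent.FanRep9

variable {F G : Fan.{u}}

theorem map_coneMap_mk {n : ICone} (ξ : G.obj (op n)) (v : Orth n) :
    P.map (coneMap ξ) (P.mk (ULift.up (𝟙 n)) v) = P.mk ξ v := by
  rw [map_mk, coneMap_app]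
  congr 1
  rw [op_id, FunctorToTypes.map_id_apply]

/-- description of the fibres of `P F → P G` over a rational simplex, given a finite cover of the
base change of `f` along the cone. -/
theorem fibre_desc (f : F ⟶ G) {n : ICone} (ξ : G.obj (op n))
    (t : Finset (Σ k : ICone, (Limits.pullback f (coneMap ξ)).obj (op k)))
    (ht : ∀ x : P (Limits.pullback f (coneMap ξ)), ∃ e ∈ t, x ∈ P.cell e.2)
    (x : P F) (v : Orth n) :
    P.map f x = P.mk ξ v ↔ ∃ ρ ∈ t, ∃ (z : Orth ρ.1) (c : ℝ), 0 < c ∧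
      x = P.mk ((Limits.pullback.fst f (coneMap ξ)).app _ ρ.2) z ∧
      v.1 = c • ((Limits.pullback.snd f (coneMap ξ)).app _ ρ.2).down.realMap z.1 := by
  constructor
  · intro h
    rw [← map_coneMap_mk ξ v] at h
    obtain ⟨y₀, hy1, hy2⟩ := exists_pullback_point f (coneMap ξ) x _ h
    obtain ⟨ρ, hρ, ⟨z, hz⟩⟩ := ht y₀
    refine ⟨ρ, hρ, z, ?_⟩
    rw [← hz, map_mk] at hy1 hy2
    obtain ⟨c, hc, hcv⟩ := rep_ray _ _ _ _ hy2
    refine ⟨c⁻¹, inv_pos.2 hc, hy1.symm, ?_⟩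
    rw [hcv, smul_smul, inv_mul_cancel₀ hc.ne', one_smul]
    exact (realMap_id n v.1).symm
  · rintro ⟨ρ, hρ, z, c, hc, rfl, hv⟩
    rw [map_mk, pullback_cone_condition, coneMap_app']
    exact mk_glue _ ξ z v c hc hv

/-- **S19373** in reusable form -/
theorem qs_pairs (G : Fan.{u}) (hG : G.IsQuasiSeparated)
    {n n' : ICone} (ξ : G.obj (op n)) (ξ' : G.obj (op n')) :
    ∃ s : Finset (Σ k : ICone, (k ⟶ n) × (k ⟶ n')),
      (∀ e ∈ s, G.map e.2.1.op ξ = G.map e.2.2.op ξ') ∧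
      ∀ (v : Fan.Orth n) (w : Fan.Orth n'), Fan.P.mk ξ v = Fan.P.mk ξ' w ↔
        ∃ e ∈ s, ∃ (y : Fan.Orth e.1) (c c' : ℝ), 0 < c ∧ 0 < c' ∧
          v.1 = c • e.2.1.realMap y.1 ∧ w.1 = c' • e.2.2.realMap y.1 := by
  classical
  obtain ⟨t, ht⟩ := hG n n' ξ ξ'
  refine ⟨t.image (fun ρ => ⟨ρ.1, ((Limits.pullback.fst (coneMap ξ) (coneMap ξ')).app _ ρ.2).down,
    ((Limits.pullback.snd (coneMap ξ) (coneMap ξ')).app _ ρ.2).down⟩), ?_, ?_⟩
  · intro e he
    obtain ⟨ρ, hρ, rfl⟩ := Finset.mem_image.1 he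
    have := pullback_cone_condition (coneMap ξ) (coneMap ξ') ρ.2
    rw [coneMap_app', coneMap_app'] at this
    exact this
  · intro v w
    constructor
    · intro h
      have h' : P.map (coneMap ξ) (P.mk (ULift.up (𝟙 n)) v) = P.mk ξ' w := by
        rw [map_coneMap_mk]; exact h
      obtain ⟨ρ, hρ, z, c, hc, hx, hw⟩ := (fibre_desc (coneMap ξ) ξ' t ht _ w).1 h'
      obtain ⟨c₂, hc₂, hcv⟩ := rep_ray _ _ _ _ hx
      refine ⟨_, Finset.mem_image.2 ⟨ρ, hρ, rfl⟩, z, c₂, c, hc₂, hc, ?_, hw⟩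
      rw [← hcv]
      exact (realMap_id n v.1).symm
    · rintro ⟨e, he, y, c, c', hc, hc', hv, hw⟩
      obtain ⟨ρ, hρ, rfl⟩ := Finset.mem_image.1 he
      have := pullback_cone_condition (coneMap ξ) (coneMap ξ') ρ.2
      rw [coneMap_app', coneMap_app'] at this
      exact mk_eq_of_common ξ ξ' v w _ _ y c c' this hc hc' hv hw

end Groth.Agent.FanQS9
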