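import Mathlib
import Groth.Agent.Lib.FanQS1_helper9

set_option autoImplicit false
universe u
open CategoryTheory Opposite Instab
open Instab Instab.Fan

namespace Groth.Agent.FanQS9

open Groth.Agent.FanBasic9 Groth.Agent.FanCone9 Groth.Agent.FanMap9 Groth.Agent.FanPull9
  Groth.Agent.FanRep9

variable {F G : Fan.{u}}

theorem comp_app_apply {F₁ F₂ F₃ : Fan.{u}} (α : F₁ ⟶ F₂) (β : F₂ ⟶ F₃) {k : ICone}
    (x : F₁.obj (op k)) : (α ≫ β).app (op k) x = β.app _ (α.app _ x) := rfl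

/-- a map from a bounded fan to a quasi-separated fan is bounded -/
theorem boundedMap_of_qs (hG : G.IsQuasiSeparated) (f : F ⟶ G) (hF : F.IsBounded) :
    IsBoundedMap f := by
  classical
  intro n σ
  obtain ⟨sF, hsF⟩ := hF
  let Qe : (↥sF) → Fan.{u} := fun e =>
    Limits.pullback (coneMap (f.app _ e.1.2)) (coneMap σ)
  have hcond : ∀ e : ↥sF, (Limits.pullback.fst (coneMap (f.app _ e.1.2)) (coneMap σ) ≫ coneMap e.1.2) ≫ f
      = Limits.pullback.snd (coneMap (f.app _ e.1.2)) (coneMap σ) ≫ coneMap σ := by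
    intro e
    rw [Category.assoc, coneMap_comp, Limits.pullback.condition]
  let θ : ∀ e : ↥sF, Qe e ⟶ Limits.pullback f (coneMap σ) := fun e =>
    Limits.pullback.lift (Limits.pullback.fst _ _ ≫ coneMap e.1.2) (Limits.pullback.snd _ _) (hcond e)
  refine bounded_of_cover Qe θ (fun e => hG e.1.1 n (f.app _ e.1.2) σ) ?_
  intro x
  induction x using P_ind with
  | _ k τ y =>
  set a := (Limits.pullback.fst f (coneMap σ)).app _ τ with ha
  set b := (Limits.pullback.snd f (coneMap σ)).app _ τ with hb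
  have hab : f.app _ a = G.map b.down.op σ := by
    rw [ha, hb, pullback_cone_condition, coneMap_app']
  obtain ⟨e, he, ⟨v, hv⟩⟩ := hsF (P.mk a y)
  obtain ⟨m, γ₂, γ₁, z, c₂, c₁, eq, h₂, h₁, hv₂, hv₁⟩ := common_of_mk_eq F _ _ _ _ hv
  have hcompat : (coneMap (f.app _ e.2)).app (op m) (ULift.up γ₂)
      = (coneMap σ).app (op m) (ULift.up (γ₁ ≫ b.down)) := by
    rw [coneMap_app, coneMap_app, ← app_map, eq, app_map, hab, op_comp,
      FunctorToTypes.map_comp_apply]
  obtain ⟨ρ, hρ1, hρ2⟩ := exists_pullback_cone (coneMap (f.app _ e.2)) (coneMap σ) _ _ hcompat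
  refine ⟨⟨e, he⟩, P.mk ρ z, ?_⟩
  rw [map_mk]
  have hθρ : (θ ⟨e, he⟩).app _ ρ = (Limits.pullback f (coneMap σ)).map γ₁.op τ := by
    apply pullback_cone_ext
    · rw [← comp_app_apply, Limits.pullback.lift_fst, comp_app_apply, hρ1, coneMap_app,
        app_map, ← ha, eq]
    · rw [← comp_app_apply, Limits.pullback.lift_snd, hρ2, app_map, ← hb, H_map']
  rw [hθρ]
  exact mk_glue γ₁ τ z y c₁ h₁ hv₁

theorem qs_iff (G : Fan.{u}) :
    G.IsQuasiSeparated ↔
      ∀ (F : Fan.{u}) (f : F ⟶ G), F.IsBounded → Fan.IsBoundedMap f := by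
  constructor
  · intro hG F f hF
    exact boundedMap_of_qs hG f hF
  · intro h n₀ n₁ σ₀ σ₁
    exact h (H.{u} n₀) (coneMap σ₀) (rep_bounded n₀) n₁ σ₁

end Groth.Agent.FanQS9
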