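import Mathlib
import Groth.Agent.Lib.FanQS2_helper9

set_option autoImplicit false
universe u
open CategoryTheory Opposite Instab
open Instab Instab.Fan

namespace Groth.Agent.FanTop9

open Groth.Agent.FanBasic9 Groth.Agent.FanCone9 Groth.Agent.FanMap9 Groth.Agent.FanPull9
  Groth.Agent.FanRep9 Groth.Agent.FanQS9

variable {F G : Fan.{u}}

/-- the real matrix of a cone morphism is injective -/
theorem realMap_injective {k n : ICone} (φ : k ⟶ n) : Function.Injective φ.realMap := by
  classical
  have hsub : ∀ x x' : Fin k.dim → ℝ, φ.realMap (x - x') = φ.realMap x - φ.realMap x' := by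
    intro x x'
    have : x - x' = x + (-1 : ℝ) • x' := by simp [sub_eq_add_neg]
    rw [this, realMap_add, realMap_smul]; simp [sub_eq_add_neg]
  have hker : ∀ x : Fin k.dim → ℝ, φ.realMap x = 0 → x = 0 := by
    intro x hx
    let M : Fin n.dim → (Fin k.dim ⊕ Fin k.dim) → ℤ := fun j =>
      Sum.elim (fun i => φ.toLin (Pi.single i 1) j) (fun i' => - φ.toLin (Pi.single i' 1) j)
    let X : (Fin k.dim ⊕ Fin k.dim) → ℝ := Sum.elim (fun i => max (x i) 0) (fun i => max (- x i) 0)
    have hX : SolR M X := by
      intro j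
      rw [Fintype.sum_sum_type]
      simp only [M, X, Sum.elim_inl, Sum.elim_inr]
      have := congr_fun hx j
      change ∑ i, ((φ.toLin (Pi.single i 1) j : ℤ) : ℝ) * x i = 0 at this
      rw [← Finset.sum_add_distrib]
      refine Eq.trans ?_ this
      refine Finset.sum_congr rfl fun i _ => ?_
      push_cast
      have : max (x i) 0 - max (- x i) 0 = x i := by
        rcases le_total 0 (x i) with h | h
        · rw [max_eq_left h, max_eq_right (by linarith)]; ring
        · rw [max_eq_right h, max_eq_left (by linarith)]; ring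
      linear_combination ((φ.toLin (Pi.single i 1) j : ℤ) : ℝ) * this
    have hnn : ∀ i, 0 ≤ X i := by
      rintro (i | i) <;> simp [X]
    obtain ⟨m, w, z, hw1, -, -, -, -, hsum⟩ := exists_decomp M _ X hX hnn le_rfl
    have hweq : ∀ a i, w a (Sum.inl i) = w a (Sum.inr i) := by
      intro a
      have : φ.toLin (fun i => w a (Sum.inl i)) = φ.toLin (fun i => w a (Sum.inr i)) := by
        funext j
        rw [toLin_apply φ.toLin, toLin_apply φ.toLin]
        have := hw1 a j
        rw [Fintype.sum_sum_type] at this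
        simp only [M, Sum.elim_inl, Sum.elim_inr] at this
        have e3 : ∑ i, -φ.toLin (Pi.single i 1) j * w a (Sum.inr i)
            = - ∑ i, φ.toLin (Pi.single i 1) j * w a (Sum.inr i) := by
          rw [← Finset.sum_neg_distrib]; exact Finset.sum_congr rfl fun i _ => by ring
        rw [e3] at this
        have e1 : ∑ l, w a (Sum.inl l) * φ.toLin (Pi.single l 1) j
            = ∑ i, φ.toLin (Pi.single i 1) j * w a (Sum.inl i) :=
          Finset.sum_congr rfl fun i _ => mul_comm _ _
        have e2 : ∑ l, w a (Sum.inr l) * φ.toLin (Pi.single l 1) j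
            = ∑ i, φ.toLin (Pi.single i 1) j * w a (Sum.inr i) :=
          Finset.sum_congr rfl fun i _ => mul_comm _ _
        rw [e1, e2]; linarith
      exact fun i => congr_fun (φ.injective this) i
    funext i
    have h1 := hsum (Sum.inl i)
    have h2 := hsum (Sum.inr i)
    simp only [X, Sum.elim_inl, Sum.elim_inr] at h1 h2
    have : max (x i) 0 = max (- x i) 0 := by
      rw [h1, h2]
      exact Finset.sum_congr rfl fun a _ => by rw [hweq a i]
    rcases le_total 0 (x i) with h | h
    · rw [max_eq_left h, max_eq_right (by linarith)] at this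
      simpa using this
    · rw [max_eq_right h, max_eq_left (by linarith)] at this
      simp only [Pi.zero_apply]; linarith
  intro x x' h
  have := hker (x - x') (by rw [hsub, h, sub_self])
  exact sub_eq_zero.1 this

/-- `realMap` as a linear map -/
def realMapLin {k n : ICone} (φ : k ⟶ n) : (Fin k.dim → ℝ) →ₗ[ℝ] (Fin n.dim → ℝ) where
  toFun := φ.realMap
  map_add' := realMap_add φ
  map_smul' := realMap_smul φ

theorem realMap_isClosedEmbedding {k n : ICone} (φ : k ⟶ n) :
    Topology.IsClosedEmbedding φ.realMap :=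
  LinearMap.isClosedEmbedding_of_injective (f := realMapLin φ)
    (LinearMap.ker_eq_bot.2 (realMap_injective φ))

theorem realMap_continuous {k n : ICone} (φ : k ⟶ n) : Continuous φ.realMap :=
  (realMap_isClosedEmbedding φ).continuous

theorem realMapOrth_continuous {k n : ICone} (φ : k ⟶ n) : Continuous (realMapOrth φ) :=
  ((realMap_continuous φ).comp continuous_subtype_val).subtype_mk _

/-- scaling in the punctured orthant -/
def smulOrth {n : ICone} (c : ℝ) (hc : 0 < c) (v : Orth n) : Orth n :=
  ⟨c • v.1, fun i => mul_nonneg hc.le (v.2.1 i), fun h => v.2.2 (by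
    rcases smul_eq_zero.1 h with h | h
    · exact absurd h hc.ne'
    · exact h)⟩

theorem mk_smulOrth {n : ICone} (ξ : F.obj (op n)) (c : ℝ) (hc : 0 < c) (v : Orth n) :
    (P.mk ξ (smulOrth c hc v) : P F) = P.mk ξ v :=
  (mk_smul ξ v _ c hc rfl).symm

/-- the cone over the image of a closed set of the punctured orthant under a cone morphism is
closed -/
theorem isClosed_cone_image {k n : ICone} (φ : k ⟶ n) (T : Set (Orth k)) (hT : IsClosed T)
    (hinv : ∀ (y : Orth k) (c : ℝ) (hc : 0 < c), y ∈ T → smulOrth c hc y ∈ T) :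
    IsClosed {w : Orth n | ∃ y ∈ T, ∃ c : ℝ, 0 < c ∧ w.1 = c • φ.realMap y.1} := by
  obtain ⟨C, hC, hCT⟩ := isClosed_induced_iff.1 hT
  have horth : IsClosed {v : Fin k.dim → ℝ | ∀ i, 0 ≤ v i} := by
    have : {v : Fin k.dim → ℝ | ∀ i, 0 ≤ v i} = ⋂ i, {v | 0 ≤ v i} := by ext v; simp
    rw [this]
    exact isClosed_iInter fun i => isClosed_le continuous_const (continuous_apply i)
  have hT₀ : IsClosed ((C ∩ {v : Fin k.dim → ℝ | ∀ i, 0 ≤ v i}) ∪ {0}) :=
    (hC.inter horth).union isClosed_singleton
  have himg := (realMap_isClosedEmbedding φ).isClosedMap _ hT₀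
  have : {w : Orth n | ∃ y ∈ T, ∃ c : ℝ, 0 < c ∧ w.1 = c • φ.realMap y.1}
      = Subtype.val ⁻¹' (φ.realMap '' ((C ∩ {v : Fin k.dim → ℝ | ∀ i, 0 ≤ v i}) ∪ {0})) := by
    ext w
    constructor
    · rintro ⟨y, hy, c, hc, hw⟩
      refine ⟨c • y.1, Or.inl ⟨?_, fun i => mul_nonneg hc.le (y.2.1 i)⟩, ?_⟩
      · have h1 := hinv y c hc hy
        rw [← hCT] at h1
        exact h1
      · rw [realMap_smul]; exact hw.symm
    · rintro ⟨t, ht, htw⟩
      rcases ht with ⟨htC, htnn⟩ | ht0
      · have htne : t ≠ 0 := by
          intro h0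
          apply w.2.2
          rw [← htw, h0]
          have := realMap_smul φ 0 0
          simpa using this
        refine ⟨⟨t, htnn, htne⟩, ?_, 1, one_pos, by rw [one_smul]; exact htw.symm⟩
        rw [← hCT]
        exact htC
      · exfalso
        apply w.2.2
        rw [← htw, Set.mem_singleton_iff.1 ht0]
        have := realMap_smul φ 0 0
        simpa using this
  rw [this]
  exact himg.preimage continuous_subtype_val

theorem mk_continuous {n : ICone} (ξ : F.obj (op n)) : Continuous (P.mk ξ : Orth n → P F) :=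
  continuous_quot_mk.comp (continuous_sigmaMk (σ := fun e : (Σ n : ICone, F.obj (op n)) => Orth e.1)
    (i := ⟨n, ξ⟩))

theorem isClosed_iff (S : Set (P F)) :
    IsClosed S ↔ ∀ (n : ICone) (ξ : F.obj (op n)), IsClosed {v : Orth n | P.mk ξ v ∈ S} := by
  constructor
  · intro h n ξ
    exact h.preimage (mk_continuous ξ)
  · intro h
    have h1 : IsClosed ((Quot.mk (Rel F)) ⁻¹' S) := by
      refine (isClosed_sigma_iff
        (σ := fun e : (Σ n : ICone, F.obj (op n)) => Orth e.1)).2 ?_
      rintro ⟨n, ξ⟩
      exact h n ξ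
    exact isClosed_coinduced.2 h1

theorem map_continuous (f : F ⟶ G) : Continuous (P.map f) := by
  refine continuous_quot_lift _ (continuous_quot_mk.comp ?_)
  refine continuous_sigma fun e => ?_
  exact continuous_sigmaMk (σ := fun e : (Σ n : ICone, G.obj (op n)) => Orth e.1)
    (i := ⟨e.1, f.app _ e.2⟩)

end Groth.Agent.FanTop9
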