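import Mathlib
import Groth.Agent.Lib.FanTop1_helper9

set_option autoImplicit false
universe u
open CategoryTheory Opposite Instab
open Instab Instab.Fan

namespace Groth.Agent.FanTop9

open Groth.Agent.FanBasic9 Groth.Agent.FanCone9 Groth.Agent.FanMap9 Groth.Agent.FanPull9
  Groth.Agent.FanRep9 Groth.Agent.FanQS9

variable {F G : Fan.{u}}

theorem realMapOrth_smulOrth {k n : ICone} (φ : k ⟶ n) (c : ℝ) (hc : 0 < c) (y : Orth k) :
    realMapOrth φ (smulOrth c hc y) = smulOrth c hc (realMapOrth φ y) :=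
  Subtype.ext (realMap_smul φ c y.1)

/-- the image of a closed scaling-invariant set of a rational simplex is closed (quasi-separated
fans) -/
theorem isClosed_mk_image (hF : F.IsQuasiSeparated) {n : ICone} (ξ : F.obj (op n))
    (S : Set (Orth n)) (hS : IsClosed S)
    (hinv : ∀ v w : Orth n, v ∈ S → ∀ c : ℝ, 0 < c → w.1 = c • v.1 → w ∈ S) :
    IsClosed (P.mk ξ '' S) := by
  rw [isClosed_iff]
  intro n' ξ'
  obtain ⟨s, hs1, hs2⟩ := qs_pairs F hF ξ ξ'
  have hset : {w : Orth n' | P.mk ξ' w ∈ P.mk ξ '' S}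
      = ⋃ e ∈ s, {w : Orth n' | ∃ y ∈ {y : Orth e.1 | realMapOrth e.2.1 y ∈ S},
          ∃ c : ℝ, 0 < c ∧ w.1 = c • e.2.2.realMap y.1} := by
    ext w
    simp only [Set.mem_setOf_eq, Set.mem_image, Set.mem_iUnion]
    constructor
    · rintro ⟨v, hvS, hvw⟩
      obtain ⟨e, he, y, c, c', hc, hc', hv, hw⟩ := (hs2 v w).1 hvw
      refine ⟨e, he, y, ?_, c', hc', hw⟩
      refine hinv v _ hvS c⁻¹ (inv_pos.2 hc) ?_
      rw [realMapOrth_val, hv, smul_smul, inv_mul_cancel₀ hc.ne', one_smul]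
    · rintro ⟨e, he, y, hy, c', hc', hw⟩
      exact ⟨realMapOrth e.2.1 y, hy,
        (hs2 _ w).2 ⟨e, he, y, 1, c', one_pos, hc', by simp, hw⟩⟩
  rw [hset]
  refine isClosed_biUnion_finset fun e _ => ?_
  refine isClosed_cone_image e.2.2 _ (hS.preimage (realMapOrth_continuous _)) ?_
  intro y c hc hy
  change realMapOrth e.2.1 (smulOrth c hc y) ∈ S
  rw [realMapOrth_smulOrth]
  exact hinv _ _ hy c hc rfl

theorem isClosed_cell (hF : F.IsQuasiSeparated) {n : ICone} (ξ : F.obj (op n)) :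
    IsClosed (P.cell ξ) := by
  have := isClosed_mk_image hF ξ Set.univ isClosed_univ (fun _ _ _ _ _ _ => Set.mem_univ _)
  rwa [Set.image_univ] at this

theorem isClosed_iff_cells (hF : F.IsQuasiSeparated) (S : Set (P F)) :
    IsClosed S ↔ ∀ (n : ICone) (ξ : F.obj (op n)), IsClosed (S ∩ P.cell ξ) := by
  constructor
  · intro h n ξ
    exact h.inter (isClosed_cell hF ξ)
  · intro h
    rw [isClosed_iff]
    intro n ξ
    have := (h n ξ).preimage (mk_continuous ξ)
    have e : (P.mk ξ) ⁻¹' (S ∩ P.cell ξ) = {v : Orth n | P.mk ξ v ∈ S} := by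
      ext v
      simp only [Set.mem_preimage, Set.mem_inter_iff, Set.mem_setOf_eq, and_iff_left_iff_imp]
      exact fun _ => ⟨v, rfl⟩
    rwa [e] at this

end Groth.Agent.FanTop9
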