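import Mathlib
import Groth.Agent.Lib.FanTop2_helper9

set_option autoImplicit false
universe u
open CategoryTheory Opposite Instab
open Instab Instab.Fan

namespace Groth.Agent.FanTop9

open Groth.Agent.FanBasic9 Groth.Agent.FanCone9 Groth.Agent.FanMap9 Groth.Agent.FanPull9
  Groth.Agent.FanRep9 Groth.Agent.FanQS9

variable {F G : Fan.{u}}

theorem bounded_closedMap (ψ : F ⟶ G) (hψ : IsBoundedMap ψ) : IsClosedMap (P.map ψ) := by
  intro S hS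
  rw [isClosed_iff]
  intro n ξ
  obtain ⟨t, ht⟩ := hψ n ξ
  have hset : {v : Orth n | P.mk ξ v ∈ P.map ψ '' S}
      = ⋃ ρ ∈ t, {v : Orth n | ∃ z ∈ {z : Orth ρ.1 |
          P.mk ((Limits.pullback.fst ψ (coneMap ξ)).app _ ρ.2) z ∈ S},
          ∃ c : ℝ, 0 < c ∧ v.1 = c • ((Limits.pullback.snd ψ (coneMap ξ)).app _ ρ.2).down.realMap z.1} := by
    ext v
    simp only [Set.mem_setOf_eq, Set.mem_image, Set.mem_iUnion]
    constructor
    · rintro ⟨x, hxS, hx⟩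
      obtain ⟨ρ, hρ, z, c, hc, rfl, hv⟩ := (fibre_desc ψ ξ t ht x v).1 hx
      exact ⟨ρ, hρ, z, hxS, c, hc, hv⟩
    · rintro ⟨ρ, hρ, z, hz, c, hc, hv⟩
      exact ⟨_, hz, (fibre_desc ψ ξ t ht _ v).2 ⟨ρ, hρ, z, c, hc, rfl, hv⟩⟩
  rw [hset]
  refine isClosed_biUnion_finset fun ρ _ => ?_
  refine isClosed_cone_image _ _ (hS.preimage (mk_continuous _)) ?_
  intro z c hc hz
  change P.mk _ (smulOrth c hc z) ∈ S
  rw [mk_smulOrth]
  exact hz

theorem bounded_finite_fibres (ψ : F ⟶ G) (hψ : IsBoundedMap ψ) (y : P G) :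
    (P.map ψ ⁻¹' {y}).Finite := by
  induction y using P_ind with
  | _ n ξ v =>
  obtain ⟨t, ht⟩ := hψ n ξ
  refine Set.Finite.subset (Set.Finite.biUnion t.finite_toSet (t := fun ρ =>
    {x : P F | ∃ (z : Orth ρ.1) (c : ℝ), 0 < c ∧
      x = P.mk ((Limits.pullback.fst ψ (coneMap ξ)).app _ ρ.2) z ∧
      v.1 = c • ((Limits.pullback.snd ψ (coneMap ξ)).app _ ρ.2).down.realMap z.1})
    (fun ρ _ => Set.Subsingleton.finite ?_)) ?_
  · rintro x ⟨z, c, hc, rfl, hv⟩ x' ⟨z', c', hc', rfl, hv'⟩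
    have h1 : c • z.1 = c' • z'.1 := by
      apply realMap_injective ((Limits.pullback.snd ψ (coneMap ξ)).app _ ρ.2).down
      rw [realMap_smul, realMap_smul, ← hv, ← hv']
    refine mk_smul _ z z' (c'⁻¹ * c) (mul_pos (inv_pos.2 hc') hc) ?_
    rw [← smul_smul, h1, smul_smul, inv_mul_cancel₀ hc'.ne', one_smul]
  · intro x hx
    obtain ⟨ρ, hρ, z, c, hc, hxz, hv⟩ := (fibre_desc ψ ξ t ht x v).1 hx
    exact Set.mem_biUnion (Finset.mem_coe.2 hρ) ⟨z, c, hc, hxz, hv⟩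

theorem bounded_image_desc (ψ : F ⟶ G) (hψ : IsBoundedMap ψ) (n : ICone) (ξ : G.obj (op n)) :
    ∃ s : Finset (Σ k : ICone, k ⟶ n),
      {v : Fan.Orth n | Fan.P.mk ξ v ∈ Set.range (Fan.P.map ψ)} =
        ⋃ e ∈ s, {v : Fan.Orth n | ∃ (y : Fan.Orth e.1) (c : ℝ), 0 < c ∧
          v.1 = c • e.2.realMap y.1} := by
  classical
  obtain ⟨t, ht⟩ := hψ n ξ
  refine ⟨t.image (fun ρ => ⟨ρ.1, ((Limits.pullback.snd ψ (coneMap ξ)).app _ ρ.2).down⟩), ?_⟩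
  ext v
  simp only [Set.mem_setOf_eq, Set.mem_range, Set.mem_iUnion]
  constructor
  · rintro ⟨x, hx⟩
    obtain ⟨ρ, hρ, z, c, hc, -, hv⟩ := (fibre_desc ψ ξ t ht x v).1 hx
    exact ⟨_, Finset.mem_image.2 ⟨ρ, hρ, rfl⟩, z, c, hc, hv⟩
  · rintro ⟨e, he, y, c, hc, hv⟩
    obtain ⟨ρ, hρ, rfl⟩ := Finset.mem_image.1 he
    exact ⟨_, (fibre_desc ψ ξ t ht _ v).2 ⟨ρ, hρ, y, c, hc, rfl, hv⟩⟩

theorem bounded_isClosedEmbedding (ψ : F ⟶ G) (hψ : IsBoundedMap ψ)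
    (hinj : ∀ n : ICone, Function.Injective (ψ.app (op n))) :
    Topology.IsClosedEmbedding (P.map ψ) :=
  Topology.IsClosedEmbedding.of_continuous_injective_isClosedMap (map_continuous ψ)
    (map_injective ψ hinj) (bounded_closedMap ψ hψ)

end Groth.Agent.FanTop9
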