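import Mathlib
import Groth.Agent.Lib.FanTop3_helper9

set_option autoImplicit false
universe u
open CategoryTheory Opposite Instab
open Instab Instab.Fan

namespace Groth.Agent.FanRat9

open Groth.Agent.FanBasic9 Groth.Agent.FanCone9 Groth.Agent.FanMap9 Groth.Agent.FanPull9
  Groth.Agent.FanRep9 Groth.Agent.FanQS9 Groth.Agent.FanTop9

variable {F G : Fan.{u}}

theorem one_dim : ((one.dim : ℕ+) : ℕ) = 1 := rfl

/-- the index `0` of `Fin 1` -/
def i0 : Fin one.dim := ⟨0, one.dim.pos⟩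

theorem fin_one_eq (i : Fin one.dim) : i = i0 := by
  apply Fin.ext
  have := i.2
  have h1 := one_dim
  change i.val = 0
  omega

/-- the cone morphism `[1] ⟶ [n]` of a nonzero nonnegative integer vector -/
def rayHom {n : ICone} (u : Fin n.dim → ℤ) (hu : ∀ i, 0 ≤ u i) (hne : u ≠ 0) : one ⟶ n where
  toLin := (LinearMap.proj (R := ℤ) (φ := fun _ : Fin one.dim => ℤ) i0).smulRight u
  injective := by
    intro c c' h
    simp only [LinearMap.smulRight_apply, LinearMap.proj_apply] at h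
    have h2 : (c i0 - c' i0) • u = 0 := by rw [sub_smul, h, sub_self]
    rcases smul_eq_zero.1 h2 with h3 | h3
    · funext i
      rw [fin_one_eq i]
      exact sub_eq_zero.1 h3
    · exact absurd h3 hne
  nonneg := by
    intro v hv j
    simp only [LinearMap.smulRight_apply, LinearMap.proj_apply, Pi.smul_apply, smul_eq_mul]
    exact mul_nonneg (hv i0) (hu j)

theorem rayHom_realMap {n : ICone} (u : Fin n.dim → ℤ) (hu : ∀ i, 0 ≤ u i) (hne : u ≠ 0) :
    (rayHom u hu hne).realMap (Orth.ones one).1 = fun j => (u j : ℝ) := by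
  funext j
  change ∑ i, (((rayHom u hu hne).toLin (Pi.single i 1) j : ℤ) : ℝ) * (1 : ℝ) = _
  rw [Fintype.sum_eq_single i0 (fun i hi => absurd (fin_one_eq i) hi)]
  have : (rayHom u hu hne).toLin (Pi.single i0 1) j = u j := by
    change (((Pi.single i0 1 : Fin one.dim → ℤ) i0) • u) j = u j
    rw [Pi.single_eq_same, one_smul]
  rw [this, mul_one]

theorem isRational_mk_int {n : ICone} (ξ : F.obj (op n)) (u : Fin n.dim → ℤ) (hu : ∀ i, 0 ≤ u i)
    (hne : u ≠ 0) (v : Orth n) (hv : ∀ i, v.1 i = (u i : ℝ)) :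
    (P.mk ξ v).IsRational :=
  ⟨F.map (rayHom u hu hne).op ξ, (mk_glue (rayHom u hu hne) ξ (Orth.ones one) v 1 one_pos (by
    rw [one_smul, rayHom_realMap]; exact funext hv)).symm⟩

theorem mk_int_eq {n : ICone} (ξ : F.obj (op n)) (u : Fin n.dim → ℤ) (hu : ∀ i, 0 ≤ u i)
    (hne : u ≠ 0) (v : Orth n) (hv : ∀ i, v.1 i = (u i : ℝ)) :
    (P.mk ξ v : P F) = P.mk (F.map (rayHom u hu hne).op ξ) (Orth.ones one) :=
  (mk_glue (rayHom u hu hne) ξ (Orth.ones one) v 1 one_pos (by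
    rw [one_smul, rayHom_realMap]; exact funext hv)).symm

/-- a closed scaling-invariant subset of the punctured orthant containing all integer points is
everything -/
theorem eq_univ_of_int_points {n : ICone} (C : Set (Orth n)) (hC : IsClosed C)
    (hinv : ∀ (v : Orth n) (c : ℝ) (hc : 0 < c), v ∈ C → smulOrth c hc v ∈ C)
    (hint : ∀ (u : Fin n.dim → ℤ) (_ : ∀ i, 0 ≤ u i) (_ : u ≠ 0) (v : Orth n),
      (∀ i, v.1 i = (u i : ℝ)) → v ∈ C) : C = Set.univ := by
  classical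
  by_contra hne
  obtain ⟨v, hv⟩ : ∃ v, v ∉ C := by
    by_contra hcon
    push Not at hcon
    exact hne (Set.eq_univ_of_forall hcon)
  obtain ⟨O, hO, hOC⟩ := isOpen_induced_iff.1 hC.isOpen_compl
  have hvO : v.1 ∈ O := ((Set.ext_iff.1 hOC v).2 hv)
  obtain ⟨ε, hε, hball⟩ := Metric.isOpen_iff.1 hO v.1 hvO
  have hq : ∀ i, ∃ q : ℚ, v.1 i < (q : ℝ) ∧ (q : ℝ) < v.1 i + ε := fun i =>
    exists_rat_btwn (by linarith)
  choose q hq1 hq2 using hq
  have hqpos : ∀ i, (0 : ℝ) < (q i : ℝ) := fun i => lt_of_le_of_lt (v.2.1 i) (hq1 i)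
  -- clear denominators
  let D : ℕ := ∏ i, (q i).den
  have hD : 0 < D := Finset.prod_pos fun i _ => (q i).den_pos
  have hex : ∀ i, ∃ z : ℤ, (z : ℚ) = (D : ℚ) * q i := by
    intro i
    obtain ⟨e, he⟩ : (q i).den ∣ D := Finset.dvd_prod_of_mem _ (Finset.mem_univ i)
    refine ⟨(e : ℤ) * (q i).num, ?_⟩
    rw [he]
    push_cast
    have := Rat.mul_den_eq_num (q i)
    calc ((e : ℚ) * ((q i).num : ℚ)) = (e : ℚ) * (q i * (q i).den) := by rw [this]
      _ = _ := by ring
  choose u hu using hex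
  have hDR : (0 : ℝ) < (D : ℝ) := by exact_mod_cast hD
  have huR : ∀ i, (u i : ℝ) = (D : ℝ) * (q i : ℝ) := by
    intro i
    have := hu i
    have h2 : ((u i : ℚ) : ℝ) = (((D : ℚ) * q i : ℚ) : ℝ) := by rw [this]
    push_cast at h2
    exact h2
  have hupos : ∀ i, 0 < u i := by
    intro i
    have : (0 : ℝ) < (u i : ℝ) := by rw [huR]; exact mul_pos hDR (hqpos i)
    exact_mod_cast this
  have hune : u ≠ 0 := by
    intro h0
    have := hupos ⟨0, n.dim.pos⟩
    rw [h0] at this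
    simp at this
  let w : Orth n := ⟨fun i => (u i : ℝ), fun i => by
    change (0 : ℝ) ≤ (u i : ℝ)
    exact_mod_cast (hupos i).le, fun h0 => by
    have := congr_fun h0 ⟨0, n.dim.pos⟩
    have h1 := hupos ⟨0, n.dim.pos⟩
    simp only [Pi.zero_apply] at this
    have : u ⟨0, n.dim.pos⟩ = 0 := by exact_mod_cast this
    omega⟩
  have hw : w ∈ C := hint u (fun i => (hupos i).le) hune w (fun _ => rfl)
  have hqv := hinv w (D : ℝ)⁻¹ (inv_pos.2 hDR) hw
  have hqO : (smulOrth (D : ℝ)⁻¹ (inv_pos.2 hDR) w).1 ∈ O := by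
    apply hball
    rw [Metric.mem_ball, dist_pi_lt_iff hε]
    intro i
    change dist ((D : ℝ)⁻¹ * (u i : ℝ)) (v.1 i) < ε
    rw [huR, ← mul_assoc, inv_mul_cancel₀ hDR.ne', one_mul, Real.dist_eq, abs_lt]
    constructor <;> linarith [hq1 i, hq2 i]
  exact ((Set.ext_iff.1 hOC _).1 hqO) hqv

end Groth.Agent.FanRat9
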