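import Mathlib
import Groth.Agent.Lib.FanRat1_helper9

set_option autoImplicit false
universe u
open CategoryTheory Opposite Instab
open Instab Instab.Fan

namespace Groth.Agent.FanRat9

open Groth.Agent.FanBasic9 Groth.Agent.FanCone9 Groth.Agent.FanMap9 Groth.Agent.FanPull9
  Groth.Agent.FanRep9 Groth.Agent.FanQS9 Groth.Agent.FanTop9

variable {F G : Fan.{u}}

theorem bounded_surj_iff (ψ : F ⟶ G) (hψ : IsBoundedMap ψ) :
    Function.Surjective (P.map ψ) ↔ ∀ y : P G, y.IsRational → y ∈ Set.range (P.map ψ) := by
  constructor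
  · intro h y _; exact h y
  · intro h y
    induction y using P_ind with
    | _ n ξ v =>
    let C : Set (Orth n) := {v | P.mk ξ v ∈ Set.range (P.map ψ)}
    have hC : C = Set.univ := by
      apply eq_univ_of_int_points
      · have : IsClosed (Set.range (P.map ψ)) := by
          rw [← Set.image_univ]; exact bounded_closedMap ψ hψ _ isClosed_univ
        exact this.preimage (mk_continuous ξ)
      · intro v c hc hv
        change P.mk ξ (smulOrth c hc v) ∈ Set.range (P.map ψ)
        rw [mk_smulOrth]; exact hv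
      · intro u hu hne v hv
        exact h _ (isRational_mk_int ξ u hu hne v hv)
    have : v ∈ C := by rw [hC]; trivial
    exact this

/-- positive proportionality of nonzero nonnegative vectors is a closed condition -/
theorem prop_iff {k : ℕ} (a b : Fin k → ℝ) (ha : ∀ i, 0 ≤ a i) (hb : ∀ i, 0 ≤ b i) (ha0 : a ≠ 0)
    (hb0 : b ≠ 0) : (∃ t : ℝ, 0 < t ∧ a = t • b) ↔ ∀ i j, a i * b j = a j * b i := by
  constructor
  · rintro ⟨t, _, rfl⟩ i j
    simp only [Pi.smul_apply, smul_eq_mul]; ring
  · intro h
    obtain ⟨j₀, hj₀⟩ : ∃ j, b j ≠ 0 := by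
      by_contra hcon
      push Not at hcon
      exact hb0 (funext hcon)
    have hbpos : 0 < b j₀ := lt_of_le_of_ne (hb j₀) (Ne.symm hj₀)
    have hform : ∀ i, a i = (a j₀ / b j₀) * b i := by
      intro i
      have := h i j₀
      field_simp
      linarith
    have htne : a j₀ ≠ 0 := by
      intro h0
      apply ha0
      funext i
      rw [hform i, h0]; simp
    have htpos : 0 < a j₀ / b j₀ := div_pos (lt_of_le_of_ne (ha j₀) (Ne.symm htne)) hbpos
    exact ⟨_, htpos, funext fun i => by simpa using hform i⟩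

theorem qs_inj_iff (ψ : F ⟶ G) (hF : F.IsQuasiSeparated) :
    Function.Injective (P.map ψ) ↔
      ∀ x y : P F, x.IsRational → y.IsRational → P.map ψ x = P.map ψ y → x = y := by
  constructor
  · intro h x y _ _ hxy; exact h hxy
  · intro h x x'
    induction x using P_ind with
    | _ n σ v =>
    induction x' using P_ind with
    | _ n' σ' v' =>
    intro hxx'
    rw [map_mk, map_mk] at hxx'
    obtain ⟨k, φ₁, φ₂, y, c₁, c₂, e, h₁, h₂, hv₁, hv₂⟩ := common_of_mk_eq G _ _ _ _ hxx'
    rw [← app_map, ← app_map] at e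
    rw [← mk_glue φ₁ σ y v c₁ h₁ hv₁, ← mk_glue φ₂ σ' y v' c₂ h₂ hv₂]
    set τ := F.map φ₁.op σ
    set τ' := F.map φ₂.op σ'
    let C : Set (Orth k) := {z | (P.mk τ z : P F) = P.mk τ' z}
    have hC : C = Set.univ := by
      apply eq_univ_of_int_points
      · obtain ⟨s, hs1, hs2⟩ := qs_pairs F hF τ τ'
        have hset : C = ⋃ e ∈ s, {z : Orth k | ∃ y₁ ∈ {y₁ : Orth e.1 | ∀ i j,
            (e.2.1.realMap y₁.1) i * (e.2.2.realMap y₁.1) j
              = (e.2.1.realMap y₁.1) j * (e.2.2.realMap y₁.1) i},
            ∃ c : ℝ, 0 < c ∧ z.1 = c • e.2.1.realMap y₁.1} := by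
          ext z
          simp only [Set.mem_ofPred_eq, Set.mem_iUnion, C]
          rw [hs2 z z]
          constructor
          · rintro ⟨e, he, y₁, c, c', hc, hc', hz, hz'⟩
            refine ⟨e, he, y₁, ?_, c, hc, hz⟩
            refine (prop_iff _ _ (realMap_nonneg _ _ y₁.2.1) (realMap_nonneg _ _ y₁.2.1)
              (realMap_ne_zero _ y₁) (realMap_ne_zero _ y₁)).1 ⟨c⁻¹ * c', by positivity, ?_⟩
            have : e.2.1.realMap y₁.1 = c⁻¹ • z.1 := by
              rw [hz, smul_smul, inv_mul_cancel₀ hc.ne', one_smul]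
            rw [this, hz', smul_smul]
          · rintro ⟨e, he, y₁, hy₁, c, hc, hz⟩
            obtain ⟨t, ht, hprop⟩ := (prop_iff _ _ (realMap_nonneg _ _ y₁.2.1)
              (realMap_nonneg _ _ y₁.2.1) (realMap_ne_zero _ y₁) (realMap_ne_zero _ y₁)).2 hy₁
            exact ⟨e, he, y₁, c, c * t, hc, mul_pos hc ht, hz, by rw [hz, hprop, smul_smul]⟩
        rw [hset]
        refine isClosed_biUnion_finset fun e _ => ?_
        refine isClosed_cone_image e.2.1 _ ?_ ?_
        · have : {y₁ : Orth e.1 | ∀ i j, (e.2.1.realMap y₁.1) i * (e.2.2.realMap y₁.1) j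
              = (e.2.1.realMap y₁.1) j * (e.2.2.realMap y₁.1) i}
              = ⋂ i, ⋂ j, {y₁ : Orth e.1 | (e.2.1.realMap y₁.1) i * (e.2.2.realMap y₁.1) j
              = (e.2.1.realMap y₁.1) j * (e.2.2.realMap y₁.1) i} := by
            ext y₁; simp
          rw [this]
          refine isClosed_iInter fun i => isClosed_iInter fun j => ?_
          have c1 : Continuous fun y₁ : Orth e.1 => e.2.1.realMap y₁.1 :=
            (realMap_continuous _).comp continuous_subtype_val
          have c2 : Continuous fun y₁ : Orth e.1 => e.2.2.realMap y₁.1 :=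
            (realMap_continuous _).comp continuous_subtype_val
          exact isClosed_eq
            (((continuous_apply i).comp c1).mul ((continuous_apply j).comp c2))
            (((continuous_apply j).comp c1).mul ((continuous_apply i).comp c2))
        · intro y₁ c hc hy₁ i j
          change (e.2.1.realMap (c • y₁.1)) i * (e.2.2.realMap (c • y₁.1)) j
              = (e.2.1.realMap (c • y₁.1)) j * (e.2.2.realMap (c • y₁.1)) i
          rw [realMap_smul, realMap_smul]
          simp only [Pi.smul_apply, smul_eq_mul]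
          have := hy₁ i j
          linear_combination c * c * this
      · intro z c hc hz
        change (P.mk τ (smulOrth c hc z) : P F) = P.mk τ' (smulOrth c hc z)
        rw [mk_smulOrth, mk_smulOrth]; exact hz
      · intro u hu hne z hz
        change (P.mk τ z : P F) = P.mk τ' z
        rw [mk_int_eq τ u hu hne z hz, mk_int_eq τ' u hu hne z hz]
        apply h _ _ ⟨_, rfl⟩ ⟨_, rfl⟩
        have e1 : ψ.app _ (F.map (rayHom u hu hne).op τ)
            = G.map (rayHom u hu hne).op (ψ.app _ τ) := app_map ψ _ τ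
        have e2 : ψ.app _ (F.map (rayHom u hu hne).op τ')
            = G.map (rayHom u hu hne).op (ψ.app _ τ') := app_map ψ _ τ'
        rw [map_mk, map_mk, e1, e2, e]
    have : y ∈ C := by rw [hC]; trivial
    exact this

end Groth.Agent.FanRat9
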