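import Mathlib
import Groth.Agent.Lib.FanRat2_helper9

set_option autoImplicit false
universe u v
open CategoryTheory Opposite Instab
open Instab Instab.Fan

namespace Groth.Agent.FanCvx9

open Groth.Agent.FanBasic9 Groth.Agent.FanCone9 Groth.Agent.FanMap9 Groth.Agent.FanPull9
  Groth.Agent.FanRep9 Groth.Agent.FanQS9 Groth.Agent.FanTop9 Groth.Agent.FanRat9
  Groth.Agent.FanSub9

variable {F : Fan.{u}}

theorem add_smul_ne_zero {n : ICone} (v₀ v₂ : Orth n) (t : ℝ) (ht : 0 ≤ t) :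
    v₀.1 + t • v₂.1 ≠ 0 := by
  intro h0
  apply v₀.2.2
  funext i
  have := congr_fun h0 i
  simp only [Pi.add_apply, Pi.smul_apply, smul_eq_mul, Pi.zero_apply] at this
  have h1 := v₀.2.1 i
  have h2 := mul_nonneg ht (v₂.2.1 i)
  simp only [Pi.zero_apply]
  linarith

/-- the point `v₀ + t v₂` of the punctured orthant -/
def segPt {n : ICone} (v₀ v₂ : Orth n) (t : ℝ) (ht : 0 ≤ t) : Orth n :=
  ⟨v₀.1 + t • v₂.1, fun i => add_nonneg (v₀.2.1 i) (mul_nonneg ht (v₂.2.1 i)),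
    add_smul_ne_zero v₀ v₂ t ht⟩

theorem not_isLocalMax_of_segment {n : ICone} (ξ : F.obj (op n)) (U : Set (P F))
    (hcell : P.cell ξ ⊆ U) {Γ : Type v} [LinearOrder Γ] (Φ : U → Γ) (v₀ v₂ : Orth n) (x : U)
    (hx : x.1 = P.mk ξ v₀)
    (hgt : ∀ (v₁ : Orth n) (t : ℝ), 0 < t → v₁.1 = v₀.1 + t • v₂.1 →
      Φ x < Φ ⟨P.mk ξ v₁, hcell ⟨v₁, rfl⟩⟩) : ¬ IsLocalMax Φ x := by
  intro hmax
  let w : ℕ → Orth n := fun m => segPt v₀ v₂ (1 / ((m : ℝ) + 1)) (by positivity)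
  let g : Orth n → U := fun v => ⟨P.mk ξ v, hcell ⟨v, rfl⟩⟩
  have hg : Continuous g := (mk_continuous ξ).subtype_mk _
  have hgx : g v₀ = x := Subtype.ext hx.symm
  have hw : Filter.Tendsto w Filter.atTop (nhds v₀) := by
    refine (tendsto_subtype_rng (p := fun v : Fin n.dim → ℝ => (∀ i, 0 ≤ v i) ∧ v ≠ 0)
      (l := Filter.atTop) (f := w) (x := v₀)).2 ?_
    have h1 : Filter.Tendsto (fun m : ℕ => v₀.1 + (1 / ((m : ℝ) + 1)) • v₂.1) Filter.atTop
        (nhds (v₀.1 + (0 : ℝ) • v₂.1)) :=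
      tendsto_const_nhds.add (tendsto_one_div_add_atTop_nhds_zero_nat.smul_const v₂.1)
    rw [zero_smul, add_zero] at h1
    exact h1
  have hp : Filter.Tendsto (fun m => g (w m)) Filter.atTop (nhds x) := by
    rw [← hgx]
    exact (hg.tendsto v₀).comp hw
  have hev := hp.eventually hmax
  obtain ⟨m, hm⟩ := hev.exists
  have := hgt (w m) (1 / ((m : ℝ) + 1)) (by positivity) rfl
  exact absurd hm (not_le.2 this)

theorem basis_not_prop : ¬ ∃ c : ℝ, (Orth.basis two 1).1 = c • (Orth.basis two 0).1 := by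
  rintro ⟨c, hc⟩
  have := congr_fun hc 1
  have h10 : (1 : Fin two.dim) ≠ 0 := by decide
  simp only [Orth.basis, Pi.smul_apply, smul_eq_mul] at this
  rw [if_pos trivial, if_neg h10] at this
  simp at this

theorem basis_not_prop' : ¬ ∃ c : ℝ, (Orth.basis two 0).1 = c • (Orth.basis two 1).1 := by
  rintro ⟨c, hc⟩
  have := congr_fun hc 0
  have h01 : (0 : Fin two.dim) ≠ 1 := by decide
  simp only [Orth.basis, Pi.smul_apply, smul_eq_mul] at this
  rw [if_pos trivial, if_neg h01] at this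
  simp at this

theorem cvx_part1 (U : Set (P F)) (hU : IsConvex U) {Γ : Type v} [LinearOrder Γ] (Φ : U → Γ)
    (hΦ : IsQuasiConcaveOn U Φ) (hlsc : ∀ c : Γ, IsClosed {x : U | Φ x ≤ c}) (x : U)
    (hxrat : (x : P F).IsRational) (hmax : IsLocalMax Φ x) (y : U) : Φ y ≤ Φ x := by
  by_contra hlt
  rw [not_le] at hlt
  obtain ⟨hlc, ⟨S, hS⟩, hseg⟩ := hU
  -- step A: a rational point with a bigger value
  obtain ⟨y', hy'rat, hy'⟩ : ∃ y' : U, (y' : P F).IsRational ∧ Φ x < Φ y' := by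
    have hy := (Set.ext_iff.1 hS y.1).1 y.2
    rw [mem_range_ι] at hy
    obtain ⟨n, σ, v, hσ, hyv⟩ := hy
    have hcell : ∀ v' : Orth n, P.mk σ v' ∈ U := fun v' => by
      refine (Set.ext_iff.1 hS _).2 ?_
      rw [mem_range_ι]; exact ⟨n, σ, v', hσ, rfl⟩
    let g : Orth n → U := fun v' => ⟨P.mk σ v', hcell v'⟩
    have hg : Continuous g := (mk_continuous σ).subtype_mk _
    by_contra hcon
    push Not at hcon
    have hC : {v' : Orth n | Φ (g v') ≤ Φ x} = Set.univ := by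
      apply eq_univ_of_int_points
      · exact (hlsc (Φ x)).preimage hg
      · intro v' c hc hv'
        have : g (smulOrth c hc v') = g v' := Subtype.ext (mk_smulOrth σ c hc v')
        change Φ (g (smulOrth c hc v')) ≤ Φ x
        rw [this]; exact hv'
      · intro u hu hne v' hv'
        exact hcon (g v') (isRational_mk_int σ u hu hne v' hv')
    have hv : v ∈ {v' : Orth n | Φ (g v') ≤ Φ x} := by rw [hC]; trivial
    have hgy : g v = y := Subtype.ext hyv.symm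
    change Φ (g v) ≤ Φ x at hv
    rw [hgy] at hv
    exact absurd hv (not_le.2 hlt)
  have hne : (x : P F) ≠ y' := by
    intro h
    have : x = y' := Subtype.ext h
    rw [this] at hy'
    exact lt_irrefl _ hy'
  obtain ⟨τ, hτU, hτ0, hτ1⟩ := hseg x y' x.2 y'.2 hxrat hy'rat hne
  refine not_isLocalMax_of_segment τ U hτU Φ (Orth.basis two 0) (Orth.basis two 1) x hτ0.symm ?_ hmax
  intro v₁ t ht hv₁
  have h0 : P.mk τ (Orth.basis two 0) ∈ U := hτU ⟨_, rfl⟩
  have h2 : P.mk τ (Orth.basis two 1) ∈ U := hτU ⟨_, rfl⟩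
  have h1 : P.mk τ v₁ ∈ U := hτU ⟨_, rfl⟩
  have key := hΦ two τ (Orth.basis two 0) v₁ (Orth.basis two 1) h0 h1 h2 basis_not_prop
    ⟨1, t, one_pos, ht, by rw [one_smul]; exact hv₁⟩
  have e0 : (⟨_, h0⟩ : U) = x := Subtype.ext hτ0
  have e2 : (⟨_, h2⟩ : U) = y' := Subtype.ext hτ1
  rw [e0, e2, min_eq_left hy'.le] at key
  rcases key.1.lt_or_eq with h | h
  · exact h
  · exact absurd (key.2 h.symm) hy'.ne

theorem cvx_part2 (U : Set (P F)) (hU : IsConvex U) {Γ : Type v} [LinearOrder Γ] (Φ : U → Γ)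
    (hΦ : IsStrictQuasiConcaveOn U Φ) (x y : U) (hxrat : (x : P F).IsRational)
    (hyrat : (y : P F).IsRational) (hx : IsLocalMax Φ x) (hy : IsLocalMax Φ y) : x = y := by
  by_contra hne
  have hne' : (x : P F) ≠ y := fun h => hne (Subtype.ext h)
  obtain ⟨hlc, -, hseg⟩ := hU
  obtain ⟨τ, hτU, hτ0, hτ1⟩ := hseg x y x.2 y.2 hxrat hyrat hne'
  have h0 : P.mk τ (Orth.basis two 0) ∈ U := hτU ⟨_, rfl⟩
  have h2 : P.mk τ (Orth.basis two 1) ∈ U := hτU ⟨_, rfl⟩
  have e0 : (⟨_, h0⟩ : U) = x := Subtype.ext hτ0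
  have e2 : (⟨_, h2⟩ : U) = y := Subtype.ext hτ1
  rcases le_total (Φ x) (Φ y) with hle | hle
  · refine not_isLocalMax_of_segment τ U hτU Φ (Orth.basis two 0) (Orth.basis two 1) x hτ0.symm ?_ hx
    intro v₁ t ht hv₁
    have key := hΦ two τ (Orth.basis two 0) v₁ (Orth.basis two 1) h0 (hτU ⟨_, rfl⟩) h2
      basis_not_prop ⟨1, t, one_pos, ht, by rw [one_smul]; exact hv₁⟩
    rw [e0, e2, min_eq_left hle] at key
    exact key
  · refine not_isLocalMax_of_segment τ U hτU Φ (Orth.basis two 1) (Orth.basis two 0) y hτ1.symm ?_ hy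
    intro v₁ t ht hv₁
    have key := hΦ two τ (Orth.basis two 0) v₁ (Orth.basis two 1) h0 (hτU ⟨_, rfl⟩) h2
      basis_not_prop ⟨t, 1, ht, one_pos, by rw [one_smul, add_comm]; exact hv₁⟩
    rw [e0, e2, min_eq_right hle] at key
    exact key

end Groth.Agent.FanCvx9
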