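import Mathlib
import Groth.Agent.Lib.FanTop3_helper9

set_option autoImplicit false
universe u
open CategoryTheory Opposite Instab
open Instab Instab.Fan

namespace Groth.Agent.FanSeq9

open Groth.Agent.FanBasic9 Groth.Agent.FanCone9 Groth.Agent.FanMap9 Groth.Agent.FanPull9
  Groth.Agent.FanRep9 Groth.Agent.FanQS9 Groth.Agent.FanTop9

variable {F : Fan.{u}}

instance (n : ICone) : T2Space (Orth n) :=
  inferInstanceAs (T2Space {v : Fin n.dim → ℝ // (∀ i, 0 ≤ v i) ∧ v ≠ 0})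

/-- the sum of the coordinates -/
def sum1 {n : ICone} (v : Orth n) : ℝ := ∑ i, v.1 i

theorem sum1_pos {n : ICone} (v : Orth n) : 0 < sum1 v := by
  obtain ⟨i, hi⟩ : ∃ i, v.1 i ≠ 0 := by
    by_contra hcon
    push Not at hcon
    exact v.2.2 (funext hcon)
  exact Finset.sum_pos' (fun i _ => v.2.1 i)
    ⟨i, Finset.mem_univ i, lt_of_le_of_ne (v.2.1 i) (Ne.symm hi)⟩

theorem sum1_continuous {n : ICone} : Continuous (sum1 (n := n)) :=
  continuous_finset_sum _ fun i _ => (continuous_apply i).comp continuous_subtype_val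

/-- normalization to the standard simplex -/
noncomputable def nrm {n : ICone} (v : Orth n) : Orth n :=
  smulOrth (sum1 v)⁻¹ (inv_pos.2 (sum1_pos v)) v

theorem nrm_val {n : ICone} (v : Orth n) : (nrm v).1 = (sum1 v)⁻¹ • v.1 := rfl

theorem sum1_smul {n : ICone} (v w : Orth n) (c : ℝ) (h : w.1 = c • v.1) :
    sum1 w = c * sum1 v := by
  unfold sum1
  rw [h, Finset.mul_sum]
  rfl

theorem sum1_nrm {n : ICone} (v : Orth n) : sum1 (nrm v) = 1 := by
  rw [sum1_smul v (nrm v) _ (nrm_val v), inv_mul_cancel₀ (sum1_pos v).ne']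

theorem nrm_of_smul {n : ICone} (v w : Orth n) (c : ℝ) (hc : 0 < c) (h : w.1 = c • v.1) :
    nrm w = nrm v := by
  apply Subtype.ext
  rw [nrm_val, nrm_val, sum1_smul v w c h, h, smul_smul]
  congr 1
  have := (sum1_pos v).ne'
  field_simp

theorem nrm_of_sum1 {n : ICone} (v : Orth n) (h : sum1 v = 1) : nrm v = v := by
  apply Subtype.ext
  rw [nrm_val, h, inv_one, one_smul]

theorem nrm_nrm {n : ICone} (v : Orth n) : nrm (nrm v) = nrm v := nrm_of_sum1 _ (sum1_nrm v)

theorem mk_nrm {n : ICone} (ξ : F.obj (op n)) (v : Orth n) : (P.mk ξ (nrm v) : P F) = P.mk ξ v :=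
  mk_smulOrth ξ _ _ v

theorem nrm_continuous {n : ICone} : Continuous (nrm (n := n)) := by
  refine Continuous.subtype_mk ?_ _
  exact (sum1_continuous.inv₀ fun v => (sum1_pos v).ne').smul continuous_subtype_val

theorem smul_of_nrm_eq {n : ICone} (v w : Orth n) (h : nrm w = nrm v) :
    ∃ c : ℝ, 0 < c ∧ w.1 = c • v.1 := by
  refine ⟨sum1 w * (sum1 v)⁻¹, mul_pos (sum1_pos w) (inv_pos.2 (sum1_pos v)), ?_⟩
  have h1 := congrArg Subtype.val h
  rw [nrm_val, nrm_val] at h1
  have : w.1 = sum1 w • ((sum1 w)⁻¹ • w.1) := by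
    rw [smul_smul, mul_inv_cancel₀ (sum1_pos w).ne', one_smul]
  rw [this, h1, smul_smul]

theorem nrm_mem_stdSimplex {n : ICone} (v : Orth n) : (nrm v).1 ∈ stdSimplex ℝ (Fin n.dim) :=
  ⟨(nrm v).2.1, sum1_nrm v⟩

theorem mk_eq_of_nrm_eq {n : ICone} (ξ : F.obj (op n)) (v w : Orth n) (h : nrm w = nrm v) :
    (P.mk ξ w : P F) = P.mk ξ v := by
  rw [← mk_nrm ξ w, ← mk_nrm ξ v, h]

/-- points of `P F` are closed when `F` is quasi-separated -/
theorem isClosed_singleton (hF : F.IsQuasiSeparated) (p : P F) : IsClosed ({p} : Set (P F)) := by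
  induction p using P_ind with
  | _ n ξ v =>
  have h1 : IsClosed (P.mk ξ '' (nrm ⁻¹' {nrm v}) : Set (P F)) := by
    refine isClosed_mk_image hF ξ _ (_root_.isClosed_singleton.preimage nrm_continuous) ?_
    intro v' w hv' c hc hw
    change nrm w = nrm v
    rw [nrm_of_smul v' w c hc hw]
    exact hv'
  have h2 : (P.mk ξ '' (nrm ⁻¹' {nrm v}) : Set (P F)) = {P.mk ξ v} := by
    ext q
    constructor
    · rintro ⟨w, hw, rfl⟩
      exact mk_eq_of_nrm_eq ξ v w hw
    · intro hq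
      rw [Set.mem_singleton_iff.1 hq]
      exact ⟨v, rfl, rfl⟩
  rwa [h2] at h1

theorem t1Space (hF : F.IsQuasiSeparated) : T1Space (P F) := ⟨isClosed_singleton hF⟩

end Groth.Agent.FanSeq9
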