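import Mathlib
import Groth.Agent.Lib.FanSeq1_helper9

set_option autoImplicit false
universe u
open CategoryTheory Opposite Instab
open Instab Instab.Fan

namespace Groth.Agent.FanSeq9

open Groth.Agent.FanBasic9 Groth.Agent.FanCone9 Groth.Agent.FanMap9 Groth.Agent.FanPull9
  Groth.Agent.FanRep9 Groth.Agent.FanQS9 Groth.Agent.FanTop9

variable {F : Fan.{u}}

theorem exists_mk (p : P F) : ∃ (n : ICone) (σ : F.obj (op n)) (v : Orth n), p = P.mk σ v := by
  induction p using P_ind with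
  | _ n σ v => exact ⟨n, σ, v, rfl⟩

/-- step 1: a convergent sequence avoiding its limit has infinitely many terms in one cell -/
theorem frequently_cell (hF : F.IsQuasiSeparated) (x : ℕ → P F) (x₀ : P F)
    (hx : Filter.Tendsto x Filter.atTop (nhds x₀)) (I : ℕ) (hI : ∀ i, I ≤ i → x i ≠ x₀) :
    ∃ (n : ICone) (ξ : F.obj (op n)), ∃ᶠ i in Filter.atTop, x i ∈ P.cell ξ := by
  haveI := t1Space hF
  by_contra hcon
  let T : Set (P F) := x '' {i | I ≤ i}
  have hT : IsClosed T := by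
    rw [isClosed_iff_cells hF]
    intro n ξ
    have hfin : {i | x i ∈ P.cell ξ}.Finite := by
      by_contra hinf
      exact hcon ⟨n, ξ, Nat.frequently_atTop_iff_infinite.2 hinf⟩
    have : (T ∩ P.cell ξ).Finite := by
      refine (hfin.image x).subset ?_
      rintro p ⟨⟨i, _, rfl⟩, hp⟩
      exact ⟨i, hp, rfl⟩
    exact this.isClosed
  have hx₀ : x₀ ∉ T := by
    rintro ⟨i, hi, hxi⟩
    exact hI i hi hxi
  have h1 : ∀ᶠ i in Filter.atTop, x i ∈ Tᶜ := hx.eventually (hT.isOpen_compl.mem_nhds hx₀)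
  have h2 : ∀ᶠ i in Filter.atTop, I ≤ i := Filter.eventually_ge_atTop I
  obtain ⟨i, hi1, hi2⟩ := (h1.and h2).exists
  exact hi1 ⟨i, hi2, rfl⟩

theorem seq_lift (hF : F.IsQuasiSeparated) (x : ℕ → P F) (x₀ : P F)
    (hx : Filter.Tendsto x Filter.atTop (nhds x₀)) :
    ∃ (n : ICone) (σ : F.obj (op n)) (r : ℕ → ℕ) (v : ℕ → Orth n) (v₀ : Orth n),
      StrictMono r ∧ (∀ j, P.mk σ (v j) = x (r j)) ∧ P.mk σ v₀ = x₀ ∧
        Filter.Tendsto v Filter.atTop (nhds v₀) := by
  by_cases hA : ∃ᶠ i in Filter.atTop, x i = x₀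
  · obtain ⟨r, hr, hrx⟩ := Filter.extraction_of_frequently_atTop hA
    obtain ⟨n, σ, v₀, rfl⟩ := exists_mk x₀
    exact ⟨n, σ, r, fun _ => v₀, v₀, hr, fun j => (hrx j).symm, rfl, tendsto_const_nhds⟩
  · rw [Filter.not_frequently] at hA
    obtain ⟨I, hI⟩ := Filter.eventually_atTop.1 hA
    obtain ⟨n, ξ, hfreq⟩ := frequently_cell hF x x₀ hx I hI
    obtain ⟨r₁, hr₁, hr₁x⟩ := Filter.extraction_of_frequently_atTop hfreq
    choose w hw using hr₁x
    -- normalise
    have hsimp : ∀ j, (nrm (w j)).1 ∈ stdSimplex ℝ (Fin n.dim) := fun j => nrm_mem_stdSimplex _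
    obtain ⟨a, ha, r₂, hr₂, hconv⟩ := (isCompact_stdSimplex ℝ (Fin n.dim)).tendsto_subseq hsimp
    have ha0 : a ≠ 0 := by
      intro h0
      have := ha.2
      rw [h0] at this
      simp at this
    let vlim : Orth n := ⟨a, ha.1, ha0⟩
    have hconv' : Filter.Tendsto (fun j => nrm (w (r₂ j))) Filter.atTop (nhds vlim) :=
      (tendsto_subtype_rng (p := fun v : Fin n.dim → ℝ => (∀ i, 0 ≤ v i) ∧ v ≠ 0)
        (l := Filter.atTop) (f := fun j => nrm (w (r₂ j))) (x := vlim)).2 hconv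
    have hy : ∀ j, (P.mk ξ (nrm (w (r₂ j))) : P F) = x (r₁ (r₂ j)) := fun j => by
      rw [mk_nrm]; exact hw (r₂ j)
    have hmono : StrictMono (r₁ ∘ r₂) := hr₁.comp hr₂
    have hytend : Filter.Tendsto (fun j => x (r₁ (r₂ j))) Filter.atTop (nhds x₀) :=
      hx.comp hmono.tendsto_atTop
    refine ⟨n, ξ, r₁ ∘ r₂, fun j => nrm (w (r₂ j)), vlim, hmono, hy, ?_, hconv'⟩
    -- step 3: the limit lifts x₀
    by_contra hne
    let f : ℕ → Orth n := fun j => nrm (w (r₂ (j + I)))
    have hf : Filter.Tendsto f Filter.atTop (nhds vlim) :=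
      (Filter.tendsto_add_atTop_iff_nat I).2 hconv'
    have hK : IsClosed (insert vlim (Set.range f)) := hf.isCompact_insert_range.isClosed
    have hS : IsClosed (nrm ⁻¹' (insert vlim (Set.range f))) := hK.preimage nrm_continuous
    have hT' : IsClosed (P.mk ξ '' (nrm ⁻¹' (insert vlim (Set.range f))) : Set (P F)) := by
      refine isClosed_mk_image hF ξ _ hS ?_
      intro v' w' hv' c hc hw'
      change nrm w' ∈ insert vlim (Set.range f)
      rw [nrm_of_smul v' w' c hc hw']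
      exact hv'
    have hmem : ∀ j, x (r₁ (r₂ (j + I))) ∈ (P.mk ξ '' (nrm ⁻¹' (insert vlim (Set.range f))) : Set (P F)) := by
      intro j
      refine ⟨f j, ?_, hy (j + I)⟩
      change nrm (f j) ∈ insert vlim (Set.range f)
      rw [show nrm (f j) = f j from nrm_nrm _]
      exact Set.mem_insert_of_mem _ ⟨j, rfl⟩
    have hytend' : Filter.Tendsto (fun j => x (r₁ (r₂ (j + I)))) Filter.atTop (nhds x₀) :=
      (Filter.tendsto_add_atTop_iff_nat (f := fun j => x (r₁ (r₂ j))) I).2 hytend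
    have hx₀mem := hT'.mem_of_tendsto hytend' (Filter.Eventually.of_forall hmem)
    obtain ⟨s, hs, hsx⟩ := hx₀mem
    rcases hs with hs | ⟨j, hj⟩
    · apply hne
      rw [← hsx]
      have : nrm s = nrm vlim := by
        rw [show nrm s = vlim from hs]
        exact (nrm_of_sum1 vlim ha.2).symm
      exact (mk_eq_of_nrm_eq ξ vlim s this).symm
    · have h1 : (P.mk ξ s : P F) = P.mk ξ (f j) := by
        have : nrm s = nrm (f j) := by
          rw [show nrm s = f j from hj.symm]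
          exact (nrm_nrm _).symm
        exact mk_eq_of_nrm_eq ξ (f j) s this
      have h2 : x (r₁ (r₂ (j + I))) = x₀ := by
        rw [← hsx, h1]; exact (hy (j + I)).symm
      have h3 : I ≤ r₁ (r₂ (j + I)) :=
        le_trans (Nat.le_add_left I j) (hmono.id_le (j + I))
      exact hI _ h3 h2

end Groth.Agent.FanSeq9
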