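import Mathlib
import Groth.Prelude
import Groth.Agent.Lib.TsenLang_lead

set_option autoImplicit false
set_option linter.style.haveILetI false
set_option linter.unusedVariables false

universe u

open MvPolynomial Module

namespace Groth.Agent.Lib.FanoLinH4

variable {k : Type u} [Field k]

/-- the linear substitution `x_i ↦ ∑_a B a i * s_a`. -/
noncomputable def gsub {N m : ℕ} (B : Fin m → Fin N → k) (i : Fin N) : MvPolynomial (Fin m) k :=
  ∑ a, C (B a i) * X a

noncomputable def psi {N m : ℕ} (B : Fin m → Fin N → k) :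
    MvPolynomial (Fin N) k →ₐ[k] MvPolynomial (Fin m) k :=
  aeval (gsub B)

theorem psi_X {N m : ℕ} (B : Fin m → Fin N → k) (j : Fin N) : psi B (X j) = gsub B j :=
  aeval_X _ _

theorem gsub_homog {N m : ℕ} (B : Fin m → Fin N → k) (i : Fin N) :
    (gsub B i).IsHomogeneous 1 :=
  IsHomogeneous.sum _ _ _ (fun a _ => isHomogeneous_C_mul_X _ _)

theorem pd_g {N m : ℕ} (B : Fin m → Fin N → k) (a : Fin m) (i : Fin N) :
    pderiv a (gsub B i) = C (B a i) := by
  simp [gsub, pderiv_C_mul, pderiv_X, Pi.single_apply]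

theorem chain {N m : ℕ} (B : Fin m → Fin N → k) (a : Fin m) (p : MvPolynomial (Fin N) k) :
    pderiv a (psi B p) = ∑ i, C (B a i) * psi B (pderiv i p) := by
  induction p using MvPolynomial.induction_on with
  | C r => simp [psi]
  | add p q hp hq => simp only [map_add, hp, hq, mul_add, Finset.sum_add_distrib]
  | mul_X p j hp =>
    have key : ∀ i, C (B a i) * psi B (pderiv i (p * X j)) =
        C (B a i) * psi B (pderiv i p) * gsub B j +
          (if i = j then C (B a j) * psi B p else 0) := by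
      intro i
      rw [pderiv_mul, map_add, map_mul, map_mul, psi_X, pderiv_X, Pi.single_apply]
      by_cases h : j = i
      · subst h
        rw [if_pos rfl, if_pos rfl, map_one]; ring
      · rw [if_neg h, if_neg (fun h' => h h'.symm), map_zero]; ring
    rw [map_mul, psi_X, pderiv_mul, hp, pd_g, Finset.sum_congr rfl (fun i _ => key i),
      Finset.sum_add_distrib, Finset.sum_ite_eq', if_pos (Finset.mem_univ j), Finset.sum_mul]
    ring

theorem eval_psi {N m : ℕ} (B : Fin m → Fin N → k) (s : Fin m → k)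
    (p : MvPolynomial (Fin N) k) :
    eval s (psi B p) = eval (fun i => ∑ a, B a i * s a) p := by
  have h : (aeval s : MvPolynomial (Fin m) k →ₐ[k] k).comp (psi B) =
      aeval (fun i => ∑ a, B a i * s a) := by
    apply MvPolynomial.algHom_ext
    intro i
    rw [AlgHom.comp_apply, psi_X, aeval_X]
    simp [gsub]
  exact DFunLike.congr_fun h p

noncomputable def Bof {N m : ℕ} {U : Submodule k (Fin N → k)} (bU : Basis (Fin m) k U) :
    Fin m → Fin N → k := fun a => ((bU a : U) : Fin N → k)

theorem pt_eq {N m : ℕ} {U : Submodule k (Fin N → k)} (bU : Basis (Fin m) k U)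
    (s : Fin m → k) :
    (fun i => ∑ a, Bof bU a i * s a) = ((∑ a, s a • bU a : U) : Fin N → k) := by
  funext i
  rw [Submodule.coe_sum, Finset.sum_apply]
  refine Finset.sum_congr rfl fun a _ => ?_
  rw [Submodule.coe_smul, Pi.smul_apply, smul_eq_mul, mul_comm]
  rfl

noncomputable def Lam {N : ℕ} (f : MvPolynomial (Fin N) k) (u : Fin N → k) :
    (Fin N → k) →ₗ[k] k :=
  ∑ i, (eval u (pderiv i f)) • (LinearMap.proj i : (Fin N → k) →ₗ[k] k)

theorem Lam_apply {N : ℕ} (f : MvPolynomial (Fin N) k) (u w : Fin N → k) :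
    Lam f u w = ∑ i, eval u (pderiv i f) * w i := by
  simp [Lam, LinearMap.sum_apply]

noncomputable def Gof {N m c : ℕ} (B : Fin m → Fin N → k) (v : Fin c → Fin N → k)
    (f : MvPolynomial (Fin N) k) (j : Fin c) : MvPolynomial (Fin m) k :=
  ∑ i, C (v j i) * psi B (pderiv i f)

theorem Gof_homog {N m c : ℕ} (B : Fin m → Fin N → k) (v : Fin c → Fin N → k)
    (f : MvPolynomial (Fin N) k) (d : ℕ) (hf : f.IsHomogeneous d) (j : Fin c) :
    (Gof B v f j).IsHomogeneous (d - 1) := by
  refine IsHomogeneous.sum _ _ _ (fun i _ => ?_)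
  refine IsHomogeneous.C_mul ?_ _
  have h1 : (pderiv i f).IsHomogeneous (d - 1) := hf.pderiv
  have h2 := h1.aeval (gsub B) (n := 1) (fun i' => gsub_homog B i')
  rw [one_mul] at h2
  exact h2

theorem core (k : Type u) [Field k] [IsAlgClosed k] (N d : ℕ) (hd : 2 ≤ d)
    (f : MvPolynomial (Fin N) k) (hf : f.IsHomogeneous d)
    (U : Submodule k (Fin N → k)) (hU : ∀ u ∈ U, eval u f = 0)
    (hsm : ∀ u ∈ U, u ≠ 0 → ∃ i : Fin N, eval u (pderiv i f) ≠ 0)
    (m c : ℕ) (bU : Basis (Fin m) k U) (bQ : Basis (Fin c) k ((Fin N → k) ⧸ U))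
    (hlt : c < m) : False := by
  classical
  -- Step 1
  have hpsi_f : psi (Bof bU) f = 0 := by
    apply MvPolynomial.funext
    intro s
    rw [eval_psi, map_zero, pt_eq]
    exact hU _ (Submodule.coe_mem _)
  -- representatives
  choose v hv using fun j => Submodule.Quotient.mk_surjective U (bQ j)
  obtain ⟨s, hs0, hsG⟩ := Groth.Agent.Lib.Ci.isCi_zero_of_isAlgClosed k c m
    (Gof (Bof bU) v f) (fun _ => d - 1) (fun j => Gof_homog (Bof bU) v f d hf j)
    (fun _ => by omega)
    (by
      simp only [pow_zero, Finset.sum_const, Finset.card_univ, Fintype.card_fin, smul_eq_mul,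
        mul_one]
      exact hlt)
  have huU : (∑ a, s a • bU a : U) ≠ 0 := by
    intro h0
    apply hs0
    funext a
    exact Fintype.linearIndependent_iff.mp bU.linearIndependent s h0 a
  have hu0 : ((∑ a, s a • bU a : U) : Fin N → k) ≠ 0 := fun h => huU (Subtype.ext h)
  obtain ⟨i₀, hi₀⟩ := hsm _ (Submodule.coe_mem _) hu0
  have hu_eq := pt_eq bU s
  have hLamB : ∀ a, Lam f ((∑ a, s a • bU a : U) : Fin N → k) (Bof bU a) = 0 := by
    intro a
    have h1 := chain (Bof bU) a f
    rw [hpsi_f, map_zero] at h1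
    have h2 := congrArg (eval s) h1
    rw [map_zero, map_sum] at h2
    rw [Lam_apply]
    refine Eq.trans ?_ h2.symm
    refine Finset.sum_congr rfl (fun i _ => ?_)
    rw [map_mul, eval_C, eval_psi, hu_eq, mul_comm]
  have hLamv : ∀ j, Lam f ((∑ a, s a • bU a : U) : Fin N → k) (v j) = 0 := by
    intro j
    have h2 := hsG j
    unfold Gof at h2
    rw [map_sum] at h2
    rw [Lam_apply]
    refine Eq.trans ?_ h2
    refine Finset.sum_congr rfl (fun i _ => ?_)
    rw [map_mul, eval_C, eval_psi, hu_eq, mul_comm]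
  have hU_le : ∀ w ∈ U, Lam f ((∑ a, s a • bU a : U) : Fin N → k) w = 0 := by
    intro w hw
    have hcomp : (Lam f ((∑ a, s a • bU a : U) : Fin N → k)).comp U.subtype = 0 := by
      apply bU.ext
      intro a
      rw [LinearMap.comp_apply, LinearMap.zero_apply]
      exact hLamB a
    exact LinearMap.congr_fun hcomp ⟨w, hw⟩
  have hΛ' : U.liftQ (Lam f ((∑ a, s a • bU a : U) : Fin N → k))
      (fun w hw => LinearMap.mem_ker.mpr (hU_le w hw)) = 0 := by
    apply bQ.ext
    intro j
    rw [← hv j, LinearMap.zero_apply]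
    exact hLamv j
  have hall : ∀ w, Lam f ((∑ a, s a • bU a : U) : Fin N → k) w = 0 := by
    intro w
    exact LinearMap.congr_fun hΛ' (Submodule.Quotient.mk w)
  have h5 := hall (Pi.single i₀ 1)
  rw [Lam_apply] at h5
  simp only [Pi.single_apply, mul_ite, mul_one, mul_zero, Finset.sum_ite_eq', Finset.sum_ite_eq,
    Finset.mem_univ, if_true] at h5
  exact hi₀ h5

theorem main (k : Type u) [Field k] [IsAlgClosed k]
    (n d : ℕ) (hd : 2 ≤ d) (f : MvPolynomial (Fin (n + 1)) k) (hf : f.IsHomogeneous d)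
    (U : Submodule k (Fin (n + 1) → k)) (hU : ∀ u ∈ U, MvPolynomial.eval u f = 0)
    (hsm : ∀ u ∈ U, u ≠ 0 → ∃ i : Fin (n + 1), MvPolynomial.eval u (MvPolynomial.pderiv i f) ≠ 0) :
    2 * Module.finrank k ↥U ≤ n + 1 := by
  by_contra hcon
  push_neg at hcon
  have hsum := Submodule.finrank_quotient_add_finrank U
  rw [Module.finrank_fin_fun] at hsum
  exact core k (n + 1) d hd f hf U hU hsm _ _ (Module.finBasis k U) (Module.finBasis k _)
    (by omega)

end Groth.Agent.Lib.FanoLinH4
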