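import Mathlib

/-!
# Fatou's lemma (helper library, helper2)
-/

namespace FatouH2

open PowerSeries

theorem exists_int_multiple (A : Polynomial ℚ) :
    ∃ (n : ℤ) (A₀ : Polynomial ℤ), n ≠ 0 ∧
      A₀.map (Int.castRingHom ℚ) = Polynomial.C (n : ℚ) * A := by
  obtain ⟨n, hn, h⟩ := IsLocalization.integerNormalization_spec (nonZeroDivisors ℤ) A
  refine ⟨n, IsLocalization.integerNormalization (nonZeroDivisors ℤ) A,
    nonZeroDivisors.ne_zero hn, ?_⟩
  ext i
  have := congrArg (fun p => Polynomial.coeff p i) h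
  simp only [Polynomial.coeff_map, Polynomial.coeff_smul] at this
  rw [Polynomial.coeff_map, Polynomial.coeff_C_mul]
  simpa [Algebra.smul_def] using this

theorem map_injective : Function.Injective (PowerSeries.map (Int.castRingHom ℚ)) := by
  intro x y h
  ext i
  have := congrArg (PowerSeries.coeff i) h
  simpa using this

theorem prime_dvd_of_mul (p : ℤ) (hp : Prime p) (G W : PowerSeries ℤ) (a : ℤ)
    (h : G * W = PowerSeries.C (p * a)) :
    (∃ G', G = PowerSeries.C p * G') ∨ (∃ W', W = PowerSeries.C p * W') := by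
  have hn : Nat.Prime p.natAbs := Int.prime_iff_natAbs_prime.mp hp
  haveI : Fact (Nat.Prime p.natAbs) := ⟨hn⟩
  set φ := PowerSeries.map (Int.castRingHom (ZMod p.natAbs)) with hφ
  have h0 : φ G * φ W = 0 := by
    rw [← map_mul, h, hφ, PowerSeries.map_C]
    have : (Int.castRingHom (ZMod p.natAbs)) (p * a) = 0 := by
      rw [eq_intCast, ZMod.intCast_zmod_eq_zero_iff_dvd]
      exact Dvd.dvd.mul_right (Int.natAbs_dvd.mpr dvd_rfl) a
    rw [this, map_zero]
  have key : ∀ G : PowerSeries ℤ, φ G = 0 → ∃ G', G = PowerSeries.C p * G' := by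
    intro G hG
    have hd : ∀ i, p ∣ PowerSeries.coeff i G := by
      intro i
      have := congrArg (PowerSeries.coeff i) hG
      rw [hφ, PowerSeries.coeff_map, map_zero, eq_intCast,
        ZMod.intCast_zmod_eq_zero_iff_dvd] at this
      exact Int.natAbs_dvd.mp this
    refine ⟨PowerSeries.mk fun i => PowerSeries.coeff i G / p, ?_⟩
    ext i
    rw [PowerSeries.coeff_C_mul, PowerSeries.coeff_mk, Int.mul_ediv_cancel' (hd i)]
  rcases mul_eq_zero.mp h0 with h1 | h1
  · exact Or.inl (key G h1)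
  · exact Or.inr (key W h1)

theorem coeff_zero_dvd (M : ℤ) : M ≠ 0 → ∀ (G W : PowerSeries ℤ), G * W = PowerSeries.C M →
    ∀ i, PowerSeries.constantCoeff G ∣ PowerSeries.coeff i G := by
  refine UniqueFactorizationMonoid.induction_on_prime
    (P := fun M : ℤ => M ≠ 0 → ∀ (G W : PowerSeries ℤ), G * W = PowerSeries.C M →
      ∀ i, PowerSeries.constantCoeff G ∣ PowerSeries.coeff i G) M ?_ ?_ ?_
  · intro h; exact absurd rfl h
  · intro x hx _ G W h i
    have h1 : PowerSeries.constantCoeff G * PowerSeries.constantCoeff W = x := by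
      have := congrArg PowerSeries.constantCoeff h
      simpa using this
    have hu : IsUnit (PowerSeries.constantCoeff G) := isUnit_of_mul_isUnit_left (h1 ▸ hx)
    exact hu.dvd
  · intro a p ha hp ih _ G W h i
    have hCp : (PowerSeries.C p : PowerSeries ℤ) ≠ 0 := by
      intro h0
      have := congrArg PowerSeries.constantCoeff h0
      simp at this
      exact hp.ne_zero this
    rcases prime_dvd_of_mul p hp G W a h with ⟨G', rfl⟩ | ⟨W', rfl⟩
    · have h' : G' * W = PowerSeries.C a := by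
        apply mul_left_cancel₀ hCp
        rw [← mul_assoc, h, map_mul]
      have := ih ha G' W h' i
      rw [map_mul, PowerSeries.constantCoeff_C, PowerSeries.coeff_C_mul]
      exact mul_dvd_mul_left p this
    · have h' : G * W' = PowerSeries.C a := by
        apply mul_left_cancel₀ hCp
        rw [mul_left_comm, h, map_mul]
      exact ih ha G W' h' i

theorem fatou (P Q : Polynomial ℚ)
    (hPQ : IsCoprime P Q) (hQ : Q.coeff 0 = 1) (Z : PowerSeries ℤ)
    (hZ : (P : PowerSeries ℚ) = (Q : PowerSeries ℚ) * PowerSeries.map (Int.castRingHom ℚ) Z) :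
    (∃ P₀ : Polynomial ℤ, P₀.map (Int.castRingHom ℚ) = P) ∧
      ∃ Q₀ : Polynomial ℤ, Q₀.map (Int.castRingHom ℚ) = Q := by
  obtain ⟨A, B, hAB⟩ := hPQ
  obtain ⟨nA, A₀, hnA, hA₀⟩ := exists_int_multiple A
  obtain ⟨nB, B₀, hnB, hB₀⟩ := exists_int_multiple B
  obtain ⟨c, Q₁, hc, hQ₁⟩ := exists_int_multiple Q
  set φ := PowerSeries.map (Int.castRingHom ℚ) with hφ
  have hcoe : ∀ p : Polynomial ℤ, φ (p : PowerSeries ℤ) =
      ((p.map (Int.castRingHom ℚ) : Polynomial ℚ) : PowerSeries ℚ) :=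
    fun p => Polynomial.polynomial_map_coe.symm
  have key : (Q : PowerSeries ℚ) * ((A : PowerSeries ℚ) * φ Z + (B : PowerSeries ℚ)) = 1 := by
    calc (Q : PowerSeries ℚ) * ((A : PowerSeries ℚ) * φ Z + (B : PowerSeries ℚ))
        = (A : PowerSeries ℚ) * ((Q : PowerSeries ℚ) * φ Z) +
          (B : PowerSeries ℚ) * (Q : PowerSeries ℚ) := by ring
      _ = ((A * P + B * Q : Polynomial ℚ) : PowerSeries ℚ) := by
        rw [← hZ, Polynomial.coe_add, Polynomial.coe_mul, Polynomial.coe_mul]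
      _ = 1 := by rw [hAB]; exact Polynomial.coe_one
  set W : PowerSeries ℤ := PowerSeries.C nB * (A₀ : PowerSeries ℤ) * Z +
    PowerSeries.C nA * (B₀ : PowerSeries ℤ) with hWdef
  have hW : (Q₁ : PowerSeries ℤ) * W = PowerSeries.C (c * nA * nB) := by
    apply map_injective
    change φ _ = φ _
    rw [map_mul, hcoe, hQ₁, hWdef, map_add, map_mul, map_mul, map_mul, hcoe, hcoe, hA₀, hB₀,
      hφ, PowerSeries.map_C, PowerSeries.map_C, PowerSeries.map_C, ← hφ,
      Polynomial.coe_mul, Polynomial.coe_mul, Polynomial.coe_mul, Polynomial.coe_C,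
      Polynomial.coe_C, Polynomial.coe_C]
    simp only [eq_intCast, Int.cast_mul, map_mul]
    calc PowerSeries.C (c : ℚ) * (Q : PowerSeries ℚ) *
          (PowerSeries.C (nB : ℚ) * (PowerSeries.C (nA : ℚ) * (A : PowerSeries ℚ)) * φ Z +
            PowerSeries.C (nA : ℚ) * (PowerSeries.C (nB : ℚ) * (B : PowerSeries ℚ)))
        = PowerSeries.C (c : ℚ) * PowerSeries.C (nA : ℚ) * PowerSeries.C (nB : ℚ) *
          ((Q : PowerSeries ℚ) * ((A : PowerSeries ℚ) * φ Z + (B : PowerSeries ℚ))) := by ring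
      _ = _ := by rw [key, mul_one]
  have hcN : c * nA * nB ≠ 0 := mul_ne_zero (mul_ne_zero hc hnA) hnB
  have hdvd := coeff_zero_dvd (c * nA * nB) hcN (Q₁ : PowerSeries ℤ) W hW
  have hQ₁coeff : ∀ i, ((Q₁.coeff i : ℤ) : ℚ) = c * Q.coeff i := by
    intro i
    have := congrArg (fun p => Polynomial.coeff p i) hQ₁
    simpa [Polynomial.coeff_map, Polynomial.coeff_C_mul] using this
  have hQ₁0 : Q₁.coeff 0 = c := by
    have := hQ₁coeff 0
    rw [hQ, mul_one] at this
    exact_mod_cast this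
  have hcdvd : ∀ i, c ∣ Q₁.coeff i := by
    intro i
    have := hdvd i
    rwa [Polynomial.constantCoeff_coe, hQ₁0, Polynomial.coeff_coe] at this
  have hcQ : (c : ℚ) ≠ 0 := by exact_mod_cast hc
  have hQlift : Q ∈ Polynomial.lifts (Int.castRingHom ℚ) := by
    rw [Polynomial.lifts_iff_coeff_lifts]
    intro i
    obtain ⟨q, hq⟩ := hcdvd i
    refine ⟨q, ?_⟩
    have := hQ₁coeff i
    rw [hq, Int.cast_mul] at this
    rw [eq_intCast]
    exact mul_left_cancel₀ hcQ this
  obtain ⟨Q₀, hQ₀⟩ := (Polynomial.mem_lifts _).mp hQlift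
  refine ⟨?_, Q₀, hQ₀⟩
  have hPlift : P ∈ Polynomial.lifts (Int.castRingHom ℚ) := by
    rw [Polynomial.lifts_iff_coeff_lifts]
    intro i
    refine ⟨PowerSeries.coeff i ((Q₀ : PowerSeries ℤ) * Z), ?_⟩
    have h1 : (P : PowerSeries ℚ) = φ ((Q₀ : PowerSeries ℤ) * Z) := by
      rw [map_mul, hcoe, hQ₀, hZ]
    have := congrArg (PowerSeries.coeff i) h1
    rw [Polynomial.coeff_coe, hφ, PowerSeries.coeff_map] at this
    exact this.symm
  exact (Polynomial.mem_lifts _).mp hPlift

end FatouH2
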