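import Mathlib
import Groth.Prelude.Def_FlatCA

/-!
# S1191: an element of `S` outside `q` lying in all associated primes of the fibre module that
are not contained in `q·(κ(p) ⊗ S)` (lead)
-/

set_option autoImplicit false
universe u

namespace Groth.Agent.Lib.FibAssAvoid

open TensorProduct

attribute [local instance] Algebra.TensorProduct.rightAlgebra

section

variable {R S : Type u} [CommRing R] [CommRing S] [Algebra R S] (p : Ideal R) [hp : p.IsPrime]

include hp in
/-- every element of `κ(p) ⊗ S` becomes of the form `1 ⊗ g` after multiplying by some `t ∉ p` -/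
theorem exists_smul_eq_one_tmul (h : p.Fiber S) :
    ∃ t : R, t ∉ p ∧ ∃ g : S, t • h = (1 : p.ResidueField) ⊗ₜ[R] g := by
  induction h using TensorProduct.induction_on with
  | zero =>
    exact ⟨1, fun h1 => hp.ne_top ((Ideal.eq_top_iff_one p).mpr h1), 0,
      by rw [smul_zero, TensorProduct.tmul_zero]⟩
  | tmul x s =>
    obtain ⟨a', t', ht', rfl⟩ := IsFractionRing.div_surjective (R ⧸ p) x
    obtain ⟨a, rfl⟩ := Ideal.Quotient.mk_surjective a'
    obtain ⟨t, rfl⟩ := Ideal.Quotient.mk_surjective t'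
    have hne : algebraMap (R ⧸ p) p.ResidueField (Ideal.Quotient.mk p t) ≠ 0 :=
      map_ne_zero_of_mem_nonZeroDivisors _ (IsFractionRing.injective (R ⧸ p) p.ResidueField) ht'
    have htp : t ∉ p := by
      intro h
      apply hne
      rw [Ideal.Quotient.eq_zero_iff_mem.mpr h, map_zero]
    refine ⟨t, htp, a • s, ?_⟩
    have hx : t • (algebraMap (R ⧸ p) p.ResidueField (Ideal.Quotient.mk p a) /
        algebraMap (R ⧸ p) p.ResidueField (Ideal.Quotient.mk p t)) =
        a • (1 : p.ResidueField) := by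
      rw [Algebra.smul_def, Algebra.smul_def, mul_one,
        IsScalarTower.algebraMap_apply R (R ⧸ p) p.ResidueField t,
        IsScalarTower.algebraMap_apply R (R ⧸ p) p.ResidueField a, Ideal.Quotient.algebraMap_eq]
      field_simp
    rw [TensorProduct.smul_tmul', hx, TensorProduct.smul_tmul]
  | add h₁ h₂ ih₁ ih₂ =>
    obtain ⟨t₁, ht₁, g₁, e₁⟩ := ih₁
    obtain ⟨t₂, ht₂, g₂, e₂⟩ := ih₂
    refine ⟨t₁ * t₂, fun h => (hp.mem_or_mem h).elim ht₁ ht₂, t₂ • g₁ + t₁ • g₂, ?_⟩
    have h1 : (t₁ * t₂) • h₁ = t₂ • ((1 : p.ResidueField) ⊗ₜ[R] g₁) := by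
      rw [mul_comm, mul_smul, e₁]
    have h2 : (t₁ * t₂) • h₂ = t₁ • ((1 : p.ResidueField) ⊗ₜ[R] g₂) := by
      rw [mul_smul, e₂]
    rw [smul_add, h1, h2, TensorProduct.tmul_add, TensorProduct.tmul_smul,
      TensorProduct.tmul_smul]

end

theorem main {R S : Type u} [CommRing R] [CommRing S] [Algebra R S]
    [Algebra.FinitePresentation R S]
    (N : Type u) [AddCommGroup N] [Module S N] [Module R N] [IsScalarTower R S N]
    [Module.FinitePresentation S N]
    (p : Ideal R) [p.IsPrime] (q : Ideal S) [q.IsPrime] [q.LiesOver p] :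
    ∃ g : S, g ∉ q ∧ ∀ r ∈ associatedPrimes (p.Fiber S) (FlatCA.fiberMod p S N),
      ¬ r ≤ FlatCA.fiberIdeal p q → (1 : p.ResidueField) ⊗ₜ[R] g ∈ r := by
  classical
  haveI : Algebra.FiniteType R S := Algebra.FiniteType.of_finitePresentation
  haveI : IsNoetherianRing (p.Fiber S) :=
    Algebra.FiniteType.isNoetherianRing p.ResidueField (p.Fiber S)
  haveI : Module.Finite (p.Fiber S) (FlatCA.fiberMod p S N) :=
    inferInstanceAs (Module.Finite (p.Fiber S) ((p.Fiber S) ⊗[S] N))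
  let fκ : p.ResidueField →ₐ[R] q.ResidueField :=
    Ideal.ResidueField.mapₐ p q (Algebra.ofId R S) (q.over_def p)
  let φ : p.Fiber S →ₐ[R] q.ResidueField :=
    Algebra.TensorProduct.lift fκ (IsScalarTower.toAlgHom R S q.ResidueField)
      (fun _ _ => Commute.all _ _)
  have hφ : ∀ (x : p.ResidueField) (s : S),
      φ (x ⊗ₜ[R] s) = fκ x * algebraMap S q.ResidueField s :=
    fun x s => Algebra.TensorProduct.lift_tmul _ _ _ x s
  have hφt : ∀ t : R, t ∉ p → φ (algebraMap R (p.Fiber S) t) ≠ 0 := by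
    intro t ht h0
    rw [AlgHom.commutes, IsScalarTower.algebraMap_apply R S q.ResidueField,
      Ideal.algebraMap_residueField_eq_zero] at h0
    exact ht ((Ideal.mem_of_liesOver q p t).mpr h0)
  have hle : FlatCA.fiberIdeal p q ≤ RingHom.ker φ.toRingHom := by
    unfold FlatCA.fiberIdeal
    rw [Ideal.map_le_iff_le_comap]
    intro s hs
    rw [Ideal.mem_comap, RingHom.mem_ker]
    show φ ((1 : p.ResidueField) ⊗ₜ[R] s) = 0
    rw [hφ, Ideal.algebraMap_residueField_eq_zero.mpr hs, mul_zero]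
  have hQ' : ∀ h : p.Fiber S, h ∈ FlatCA.fiberIdeal p q ↔ φ h = 0 := by
    intro h
    constructor
    · intro hh
      exact hle hh
    · intro hh
      obtain ⟨t, ht, g, e⟩ := exists_smul_eq_one_tmul p h
      have h1 : φ ((1 : p.ResidueField) ⊗ₜ[R] g) = 0 := by
        rw [← e, map_smul, hh, smul_zero]
      rw [hφ, map_one, one_mul, Ideal.algebraMap_residueField_eq_zero] at h1
      have h2 : (1 : p.ResidueField) ⊗ₜ[R] g ∈ FlatCA.fiberIdeal p q :=
        Ideal.mem_map_of_mem _ h1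
      rw [← e, Algebra.smul_def] at h2
      have hu : IsUnit (algebraMap R (p.Fiber S) t) := by
        rw [IsScalarTower.algebraMap_apply R p.ResidueField (p.Fiber S)]
        apply IsUnit.map
        rw [isUnit_iff_ne_zero, Ne, Ideal.algebraMap_residueField_eq_zero]
        exact ht
      exact (Ideal.unit_mul_mem_iff_mem _ hu).mp h2
  have hker : FlatCA.fiberIdeal p q = RingHom.ker φ.toRingHom := by
    ext h
    rw [hQ', RingHom.mem_ker]
    rfl
  haveI hprime : (FlatCA.fiberIdeal p q).IsPrime := by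
    rw [hker]
    exact RingHom.ker_isPrime φ.toRingHom
  have hfin := associatedPrimes.finite (p.Fiber S) (FlatCA.fiberMod p S N)
  obtain ⟨T, hT⟩ : ∃ T : Finset (Ideal (p.Fiber S)), ∀ r, r ∈ T ↔
      (r ∈ associatedPrimes (p.Fiber S) (FlatCA.fiberMod p S N) ∧
        ¬ r ≤ FlatCA.fiberIdeal p q) :=
    ⟨hfin.toFinset.filter (fun r => ¬ r ≤ FlatCA.fiberIdeal p q), fun r => by
      rw [Finset.mem_filter, hfin.mem_toFinset]⟩
  have hch : ∀ r : Ideal (p.Fiber S), ∃ x : p.Fiber S,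
      (¬ r ≤ FlatCA.fiberIdeal p q → x ∈ r ∧ x ∉ FlatCA.fiberIdeal p q) := by
    intro r
    by_cases hr : r ≤ FlatCA.fiberIdeal p q
    · exact ⟨0, fun h => absurd hr h⟩
    · obtain ⟨x, hx, hx'⟩ := SetLike.not_le_iff_exists.mp hr
      exact ⟨x, fun _ => ⟨hx, hx'⟩⟩
  choose c hc using hch
  have hhQ : (∏ r ∈ T, c r) ∉ FlatCA.fiberIdeal p q := by
    rw [Ideal.IsPrime.prod_mem_iff]
    rintro ⟨r, hrT, hcr⟩
    exact (hc r ((hT r).mp hrT).2).2 hcr
  have hhr : ∀ r ∈ T, (∏ r ∈ T, c r) ∈ r := by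
    intro r hrT
    obtain ⟨d, hd⟩ := Finset.dvd_prod_of_mem c hrT
    rw [hd]
    exact r.mul_mem_right d (hc r ((hT r).mp hrT).2).1
  obtain ⟨t, ht, g, e⟩ := exists_smul_eq_one_tmul p (∏ r ∈ T, c r)
  refine ⟨g, ?_, ?_⟩
  · intro hg
    apply hhQ
    rw [hQ']
    have h1 : φ ((1 : p.ResidueField) ⊗ₜ[R] g) = 0 := by
      rw [hφ, Ideal.algebraMap_residueField_eq_zero.mpr hg, mul_zero]
    rw [← e, Algebra.smul_def, map_mul] at h1
    exact (mul_eq_zero.mp h1).resolve_left (hφt t ht)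
  · intro r hr hnr
    rw [← e, Algebra.smul_def]
    apply Ideal.mul_mem_left
    exact hhr r ((hT r).mpr ⟨hr, hnr⟩)

end Groth.Agent.Lib.FibAssAvoid
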