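/-
helper5: associated points of the pullback of a coherent module along a flat morphism with Cohen–Macaulay fibres;
invariance of "no embedded associated points" under extension of the base field (EGA IV 4.2.7-type).
APPEND-ONLY once landed.
-/
import Mathlib
import Groth.Agent.Lib.AssFlat_helper5
import Groth.Agent.Lib.FibAssDim1_helper5
import Groth.Agent.Lib.FibStalkIso_helper5
import Groth.Agent.Lib.FibCoh_helper8
import Groth.Agent.Lib.PB10_helper8
import Groth.Agent.Lib.OpenAtEq_helper8
import Groth.Agent.Lib.CMFieldBC_helper5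
import Groth.Agent.Lib.ConsProp1_helper7
import Groth.Agent.Lib.ConsMor1_helper7
import Groth.Agent.Lib.CohDev6_helper8
import Groth.Agent.Lib.CohDev17_helper8
import Groth.Prelude.Def_FDesc
import Groth.Prelude.Def_EGA4Misc

set_option autoImplicit false

namespace Groth.Agent.Lib.FibNoEmbH5

open AlgebraicGeometry CategoryTheory TopologicalSpace TensorProduct IsLocalRing

universe u

section Order

theorem exists_isMax_ge_of_coheight_ne_top {α : Type*} [Preorder α] :
    ∀ (n : ℕ) (a : α), Order.coheight a = n → ∃ b, a ≤ b ∧ IsMax b := by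
  intro n
  induction n using Nat.strong_induction_on with
  | _ n ih =>
    intro a ha
    by_cases hmax : IsMax a
    · exact ⟨a, le_rfl, hmax⟩
    · rw [not_isMax_iff] at hmax
      obtain ⟨b, hab⟩ := hmax
      have h1 := Order.coheight_add_one_le hab
      rw [ha] at h1
      have hbfin : Order.coheight b ≠ ⊤ := by
        intro htop
        rw [htop, top_add] at h1
        exact absurd h1 (by simp)
      obtain ⟨m, hm⟩ := ENat.ne_top_iff_exists.mp hbfin
      rw [← hm] at h1
      have hmn : m + 1 ≤ n := by exact_mod_cast h1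
      obtain ⟨c, hbc, hc⟩ := ih m (by omega) b hm.symm
      exact ⟨c, hab.le.trans hbc, hc⟩

end Order

section Ring

/-- **associated primes along a flat local homomorphism** -/
theorem maximalIdeal_isAssociatedPrime_tensor_iff {A B : Type u} [CommRing A] [CommRing B]
    [IsLocalRing A] [IsLocalRing B] [IsNoetherianRing A] [Algebra A B]
    [IsLocalHom (algebraMap A B)] [Module.Flat A B]
    (M : Type u) [AddCommGroup M] [Module A M] :
    IsAssociatedPrime (maximalIdeal B) (B ⊗[A] M) ↔
      IsAssociatedPrime (maximalIdeal A) M ∧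
        IsAssociatedPrime (maximalIdeal B)
          (B ⧸ (maximalIdeal A).map (algebraMap A B) • (⊤ : Submodule B B)) := by
  have hloc : IsLocalHom (algebraMap A B) := inferInstance
  have hcomap : (maximalIdeal B).comap (algebraMap A B) = maximalIdeal A :=
    ((IsLocalRing.local_hom_TFAE (algebraMap A B)).out 0 4).mp hloc
  have key := Groth.Agent.AssFlat.associatedPrimes_tensor (R := A) (S := B) (N := B) M
  constructor
  · intro h
    have h' : maximalIdeal B ∈ associatedPrimes B (B ⊗[A] M) := h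
    rw [key] at h'
    simp only [Set.mem_iUnion] at h'
    obtain ⟨p, hp, hq⟩ := h'
    haveI : p.IsPrime := hp.isPrime
    have hq' := hq
    rw [Groth.Agent.AssFlat.associatedPrimes_tensorQuot] at hq'
    have hpm := Groth.Agent.AssFlat.comap_eq_of_mem_associatedPrimes_quot (N := B) p
      (maximalIdeal B) hq'
    rw [hcomap] at hpm
    subst hpm
    exact ⟨hp, hq⟩
  · rintro ⟨h1, h2⟩
    show maximalIdeal B ∈ associatedPrimes B (B ⊗[A] M)
    rw [key]
    simp only [Set.mem_iUnion]
    exact ⟨maximalIdeal A, h1, h2⟩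

/-- associated primes of a quotient ring, as a module over the ring or over itself -/
theorem maximalIdeal_isAssociatedPrime_quotient_iff {B : Type u} [CommRing B] [IsLocalRing B]
    [IsNoetherianRing B] (I : Ideal B) [Nontrivial (B ⧸ I)] :
    haveI : IsLocalRing (B ⧸ I) :=
      IsLocalRing.of_surjective' (Ideal.Quotient.mk I) Ideal.Quotient.mk_surjective
    IsAssociatedPrime (maximalIdeal B) (B ⧸ I • (⊤ : Submodule B B)) ↔
      IsAssociatedPrime (maximalIdeal (B ⧸ I)) (B ⧸ I) := by
  haveI : IsLocalRing (B ⧸ I) :=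
    IsLocalRing.of_surjective' (Ideal.Quotient.mk I) Ideal.Quotient.mk_surjective
  have hI : I • (⊤ : Submodule B B) = I := by
    rw [smul_eq_mul, Ideal.mul_top]
  rw [LinearEquiv.isAssociatedPrime_iff (Submodule.quotEquivOfEq _ _ hI)]
  have hsurj : Function.Surjective (Ideal.Quotient.mk I) := Ideal.Quotient.mk_surjective
  haveI : IsLocalHom (Ideal.Quotient.mk I) := IsLocalHom.of_surjective _ hsurj
  have hloc : IsLocalHom (Ideal.Quotient.mk I) := inferInstance
  have hcomap : (maximalIdeal (B ⧸ I)).comap (Ideal.Quotient.mk I) = maximalIdeal B :=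
    ((IsLocalRing.local_hom_TFAE (Ideal.Quotient.mk I)).out 0 4).mp hloc
  rw [isAssociatedPrime_iff, isAssociatedPrime_iff]
  have hcolon : ∀ x : B ⧸ I, ((⊥ : Submodule (B ⧸ I) (B ⧸ I)).colon {x}).comap (Ideal.Quotient.mk I) =
      (⊥ : Submodule B (B ⧸ I)).colon {x} := by
    intro x
    ext b
    simp only [Ideal.mem_comap, Submodule.mem_colon_singleton, Submodule.mem_bot]
    rfl
  constructor
  · rintro ⟨-, x, hx⟩
    refine ⟨inferInstance, x, ?_⟩
    apply Ideal.comap_injective_of_surjective _ hsurj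
    rw [hcomap, hcolon, ← hx]
  · rintro ⟨-, x, hx⟩
    refine ⟨inferInstance, x, ?_⟩
    rw [← hcomap, hx, hcolon]

/-- in a Cohen–Macaulay local ring the maximal ideal is associated iff the dimension is zero -/
theorem maximalIdeal_isAssociatedPrime_iff_of_cm (C : Type u) [CommRing C]
    [hC : LocCoh.IsCohenMacaulayLocalRing C] :
    IsAssociatedPrime (maximalIdeal C) C ↔ ringKrullDim C = 0 := by
  rw [Groth.Agent.Lib.FibAssH5.isAssociatedPrime_maximalIdeal_iff C]
  have h := hC.supportDim_eq_depth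
  rw [Module.supportDim_self_eq_ringKrullDim] at h
  rw [h]
  constructor
  · rintro ⟨-, h0⟩
    rw [h0]; rfl
  · intro h0
    refine ⟨inferInstance, ?_⟩
    exact_mod_cast h0

end Ring

section Scheme

open Groth.Agent.FibStalkDimH8

variable {Y' Y : Scheme.{u}} (e : Y' ⟶ Y)

/-- `y'` is a maximal point of its fibre -/
def MaxInFib (y' : Y') : Prop := ∀ z : Y', e.base z = e.base y' → z ⤳ y' → z = y'

theorem fibCoh_eq_zero_iff_maxInFib (y' : Y') : FibCohH8.fibCoh e y' = 0 ↔ MaxInFib e y' := by
  constructor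
  · intro h z hz hsp
    unfold FibCohH8.fibCoh at h
    rw [Order.coheight_eq_zero] at h
    have hle : (⟨y', rfl⟩ : {u' : Y' // e u' = e y'}) ≤ ⟨z, hz⟩ := hsp
    have hge := h hle
    exact (hsp.antisymm (show y' ⤳ z from hge)).eq
  · intro h
    exact OpenAtEqH8.fibCoh_eq_zero_of_isMax e y' h

set_option maxHeartbeats 800000 in
/-- **associated points of a pullback along a flat morphism with Cohen–Macaulay fibres** -/
theorem isAssPoint_pullback_iff [Flat e] [IsLocallyNoetherian Y] [IsLocallyNoetherian Y']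
    (G : Y.Modules) [G.IsQuasicoherent]
    (hfib : ∀ y' : Y', LocCoh.IsCohenMacaulayLocalRing
      ((e.fiber (e.base y')).presheaf.stalk (e.asFiber y')))
    (y' : Y') :
    Curv2.IsAssPoint ((Scheme.Modules.pullback e).obj G) y' ↔
      Curv2.IsAssPoint G (e.base y') ∧ MaxInFib e y' := by
  letI algOO : Algebra (Y.presheaf.stalk (e y')) (Y'.presheaf.stalk y') :=
    (e.stalkMap y').hom.toAlgebra
  letI modOG : Module (Y.presheaf.stalk (e y'))
      (((Scheme.Modules.pullback e).obj G).presheaf.stalk y') :=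
    Module.compHom _ (e.stalkMap y').hom
  haveI : IsScalarTower (Y.presheaf.stalk (e y')) (Y'.presheaf.stalk y')
      (((Scheme.Modules.pullback e).obj G).presheaf.stalk y') :=
    IsScalarTower.of_algebraMap_smul fun _ _ => rfl
  have hbc : IsBaseChange (Y'.presheaf.stalk y') (PBH8.cStalkLin e G y') :=
    PBH8.isBaseChange_cStalk e G y'
  let E := hbc.equiv
  haveI : IsLocalHom (algebraMap (Y.presheaf.stalk (e y')) (Y'.presheaf.stalk y')) :=
    (inferInstance : IsLocalHom (e.stalkMap y').hom)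
  haveI : Module.Flat (Y.presheaf.stalk (e y')) (Y'.presheaf.stalk y') := Flat.stalkMap e y'
  have h1 : Curv2.IsAssPoint ((Scheme.Modules.pullback e).obj G) y' ↔
      IsAssociatedPrime (maximalIdeal (Y'.presheaf.stalk y'))
        ((Y'.presheaf.stalk y') ⊗[Y.presheaf.stalk (e y')] (G.presheaf.stalk (e y'))) :=
    (LinearEquiv.isAssociatedPrime_iff E).symm
  have h2 := maximalIdeal_isAssociatedPrime_tensor_iff
    (A := Y.presheaf.stalk (e y')) (B := Y'.presheaf.stalk y') (G.presheaf.stalk (e y'))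
  refine h1.trans (h2.trans ?_)
  apply and_congr_right
  intro _
  haveI hCM' := hfib y'
  let σ := Groth.Agent.FibStalkIso.fibStalkEquiv e y'
  haveI hCMq : LocCoh.IsCohenMacaulayLocalRing (Y'.presheaf.stalk y' ⧸ fibIdeal e y') :=
    Groth.Agent.FlatCM.isCMLocalRing_of_ringEquiv σ.symm
  haveI : Nontrivial (Y'.presheaf.stalk y' ⧸ fibIdeal e y') := inferInstance
  have h3 := maximalIdeal_isAssociatedPrime_quotient_iff (fibIdeal e y')
  have h4 := maximalIdeal_isAssociatedPrime_iff_of_cm (Y'.presheaf.stalk y' ⧸ fibIdeal e y')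
  have h5 : ringKrullDim (Y'.presheaf.stalk y' ⧸ fibIdeal e y') =
      ((FibCohH8.fibCoh e y' : ℕ∞) : WithBot ℕ∞) := by
    rw [ringKrullDim_eq_of_ringEquiv σ, FibCohH8.stalk_fiber_eq_fibCoh]
  refine h3.trans (h4.trans ?_)
  rw [h5, ← fibCoh_eq_zero_iff_maxInFib]
  exact_mod_cast Iff.rfl

end Scheme

section NoEmb

variable {Y' Y : Scheme.{u}} (e : Y' ⟶ Y)

/-- associated points are invariant under isomorphisms of modules -/
theorem isAssPoint_iff_of_iso {X : Scheme.{u}} {M N : X.Modules} (α : M ≅ N) (x : X) :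
    Curv2.IsAssPoint M x ↔ Curv2.IsAssPoint N x :=
  LinearEquiv.isAssociatedPrime_iff (CohDevH8.stalkEquivOfIso α x)

theorem noEmbedded_iff_of_iso {X : Scheme.{u}} {M N : X.Modules} (α : M ≅ N) :
    AssSch.NoEmbedded M ↔ AssSch.NoEmbedded N := by
  constructor
  · intro h x hx y hy hyx
    exact h x ((isAssPoint_iff_of_iso α x).mpr hx) y ((isAssPoint_iff_of_iso α y).mpr hy) hyx
  · intro h x hx y hy hyx
    exact h x ((isAssPoint_iff_of_iso α x).mp hx) y ((isAssPoint_iff_of_iso α y).mp hy) hyx

/-- every point has a generization in its fibre which is maximal in the fibre -/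
theorem exists_maxInFib_specializes
    (hfib : ∀ y' : Y', LocCoh.IsCohenMacaulayLocalRing
      ((e.fiber (e.base y')).presheaf.stalk (e.asFiber y')))
    (y' : Y') : ∃ y'' : Y', y'' ⤳ y' ∧ e.base y'' = e.base y' ∧ MaxInFib e y'' := by
  haveI := hfib y'
  have hfin : ringKrullDim ((e.fiber (e.base y')).presheaf.stalk (e.asFiber y')) ≠ ⊤ :=
    ringKrullDim_ne_top
  rw [FibCohH8.stalk_fiber_eq_fibCoh] at hfin
  have hfin' : FibCohH8.fibCoh e y' ≠ ⊤ := by
    intro h; rw [h] at hfin; exact hfin rfl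
  obtain ⟨n, hn⟩ := ENat.ne_top_iff_exists.mp hfin'
  obtain ⟨⟨y'', hb⟩, hle, hmax⟩ := exists_isMax_ge_of_coheight_ne_top n
    (⟨y', rfl⟩ : {u' : Y' // e u' = e y'}) hn.symm
  refine ⟨y'', hle, hb, ?_⟩
  intro z hz hsp
  have hle' : (⟨y'', hb⟩ : {u' : Y' // e u' = e y'}) ≤ ⟨z, hz.trans hb⟩ := hsp
  have hge := hmax hle'
  exact (hsp.antisymm (show y'' ⤳ z from hge)).eq

/-- **no embedded associated points and flat surjective pullback with Cohen–Macaulay fibres** -/
theorem noEmbedded_pullback_iff [Flat e] [Surjective e] [IsLocallyNoetherian Y]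
    [IsLocallyNoetherian Y'] (G : Y.Modules) [G.IsQuasicoherent]
    (hfib : ∀ y' : Y', LocCoh.IsCohenMacaulayLocalRing
      ((e.fiber (e.base y')).presheaf.stalk (e.asFiber y'))) :
    AssSch.NoEmbedded ((Scheme.Modules.pullback e).obj G) ↔ AssSch.NoEmbedded G := by
  have key := isAssPoint_pullback_iff e G hfib
  constructor
  · intro h y₂ hy₂ y₁ hy₁ hsp
    -- `y₁ ⤳ y₂`, both associated
    obtain ⟨y₂₀, hy₂₀⟩ := e.surjective y₂
    obtain ⟨y₂', h2sp, h2e, h2max⟩ := exists_maxInFib_specializes e hfib y₂₀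
    have he2 : e.base y₂' = y₂ := h2e.trans hy₂₀
    have hsp' : y₁ ⤳ e.base y₂' := by rw [he2]; exact hsp
    obtain ⟨y'', h''sp, h''e⟩ := (Flat.generalizingMap e) hsp'
    obtain ⟨y₁', h1sp, h1e, h1max⟩ := exists_maxInFib_specializes e hfib y''
    have he1 : e.base y₁' = y₁ := h1e.trans h''e
    have hass2 : y₂' ∈ AssSch.Ass ((Scheme.Modules.pullback e).obj G) :=
      (key y₂').mpr ⟨by rw [he2]; exact hy₂, h2max⟩
    have hass1 : y₁' ∈ AssSch.Ass ((Scheme.Modules.pullback e).obj G) :=
      (key y₁').mpr ⟨by rw [he1]; exact hy₁, h1max⟩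
    have := h y₂' hass2 y₁' hass1 (h1sp.trans h''sp)
    rw [← he2, ← he1, this]
  · intro h y₂' hy₂' y₁' hy₁' hsp
    obtain ⟨h2a, h2max⟩ := (key y₂').mp hy₂'
    obtain ⟨h1a, -⟩ := (key y₁').mp hy₁'
    have heq := h (e.base y₂') h2a (e.base y₁') h1a (hsp.map e.continuous)
    exact (h2max y₁' heq.symm hsp).symm

end NoEmb

end Groth.Agent.Lib.FibNoEmbH5
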