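/-
helper5: "no embedded associated points" is a constructible property of algebraic schemes with a coherent module
(EGA IV 9.8.3-type); S5871 via helper2's `main5878`.
APPEND-ONLY once landed.
-/
import Mathlib
import Groth.Agent.Lib.FibNoEmb1_helper5
import Groth.Agent.Lib.FibNoEmb2_helper5
import Groth.Agent.Lib.ConsMod1_helper2
import Groth.Agent.Lib.Constr_lead
import Groth.Agent.Lib.TFFree_helper8
import Groth.Agent.Lib.ConsMor1_helper7

set_option autoImplicit false

namespace Groth.Agent.Lib.FibNoEmbH5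

open AlgebraicGeometry CategoryTheory TopologicalSpace Topology TensorProduct IsLocalRing Limits

universe u

theorem isField_of_subsingleton_primeSpectrum (R : Type*) [CommRing R] [IsDomain R]
    [Subsingleton (PrimeSpectrum R)] : IsField R := by
  by_contra hnf
  obtain ⟨p, hp0, hp⟩ := Ring.not_isField_iff_exists_prime.mp hnf
  have : (⟨p, hp⟩ : PrimeSpectrum R) = ⟨⊥, Ideal.isPrime_bot⟩ := Subsingleton.elim _ _
  exact hp0 (congrArg PrimeSpectrum.asIdeal this)

set_option maxHeartbeats 800000 in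
/-- the fibres of a base change of a morphism of one-point integral schemes are Cohen–Macaulay -/
theorem isCM_fiber_of_fieldSquare {Y Y' T T' : Scheme.{u}} (g : Y ⟶ T) (g' : Y' ⟶ T')
    (e : Y' ⟶ Y) (h : T' ⟶ T)
    [IsIntegral T] [Subsingleton T] [IsIntegral T'] [Subsingleton T'] [LocallyOfFiniteType g]
    (sq : IsPullback e g' g h) (z : Y) (t : e.fiber z) :
    LocCoh.IsCohenMacaulayLocalRing ((e.fiber z).presheaf.stalk t) := by
  haveI : IsAffine T := Groth.Agent.Lib.ConsPropH7.isAffine_of_subsingleton T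
  haveI : IsAffine T' := Groth.Agent.Lib.ConsPropH7.isAffine_of_subsingleton T'
  haveI : Subsingleton (PrimeSpectrum Γ(T, ⊤)) :=
    (T.isoSpec.hom.homeomorph).symm.injective.subsingleton
  haveI : Subsingleton (PrimeSpectrum Γ(T', ⊤)) :=
    (T'.isoSpec.hom.homeomorph).symm.injective.subsingleton
  letI fk : Field Γ(T, ⊤) := (isField_of_subsingleton_primeSpectrum Γ(T, ⊤)).toField
  letI fK : Field Γ(T', ⊤) := (isField_of_subsingleton_primeSpectrum Γ(T', ⊤)).toField
  letI algkK : Algebra Γ(T, ⊤) Γ(T', ⊤) := (h.appTop).hom.toAlgebra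
  have sq' : IsPullback e (g' ≫ T'.isoSpec.hom) (g ≫ T.isoSpec.hom) (Spec.map h.appTop) := by
    refine IsPullback.of_iso sq (Iso.refl _) (Iso.refl _) T'.isoSpec T.isoSpec ?_ ?_ ?_ ?_
    · simp
    · simp
    · simp
    · exact (Scheme.isoSpec_hom_naturality h).symm
  have sq'' : IsPullback e (g' ≫ T'.isoSpec.hom) (g ≫ T.isoSpec.hom)
      (Spec.map (CommRingCat.ofHom (algebraMap Γ(T, ⊤) Γ(T', ⊤)))) := sq'
  haveI : LocallyOfFiniteType (g ≫ T.isoSpec.hom) := inferInstance
  exact Groth.Agent.CMFieldBC.isCM_stalk_fiber_of_isPullback Γ(T, ⊤) Γ(T', ⊤) e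
    (g' ≫ T'.isoSpec.hom) (g ≫ T.isoSpec.hom) sq'' (Or.inr inferInstance) z t

set_option maxHeartbeats 1000000 in
/-- "no embedded associated point" is invariant under extension of the base field -/
theorem isFieldStableMod_noEmbedded :
    ConsProp.IsFieldStableMod.{u} (fun Y T g G => AssSch.NoEmbedded G) := by
  intro Y Y' T T' g g' e h _ _ _ _ _ _ sq F F' hF α
  haveI : F.IsQuasicoherent := hF.1
  have he := Groth.Agent.Lib.ConsPairH7.fpqc_of_isPullback sq
    (Groth.Agent.Lib.ConsPairH7.fpqc_of_subsingleton h)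
  haveI : Surjective e := he.1.1
  haveI : Flat e := he.1.2
  haveI : IsNoetherian T := Groth.Agent.Lib.ConsPropH7.isNoetherian_of_subsingleton T
  haveI : IsNoetherian T' := Groth.Agent.Lib.ConsPropH7.isNoetherian_of_subsingleton T'
  haveI : IsLocallyNoetherian Y := LocallyOfFiniteType.isLocallyNoetherian g
  haveI : LocallyOfFiniteType g' := MorphismProperty.of_isPullback sq inferInstance
  haveI : IsLocallyNoetherian Y' := LocallyOfFiniteType.isLocallyNoetherian g'
  have hfib : ∀ y' : Y', LocCoh.IsCohenMacaulayLocalRing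
      ((e.fiber (e y')).presheaf.stalk (e.asFiber y')) := fun y' =>
    isCM_fiber_of_fieldSquare g g' e h sq (e y') (e.asFiber y')
  exact (noEmbedded_pullback_iff e F hfib).symm.trans (noEmbedded_iff_of_iso α.symm)

set_option maxHeartbeats 1000000 in
/-- "no embedded associated point" is a constructible property of algebraic schemes with a coherent module -/
theorem isConsMod_noEmbedded :
    ConsProp.IsConsMod.{u} (fun Y T g G => AssSch.NoEmbedded G) := by
  refine ⟨isFieldStableMod_noEmbedded, ?_⟩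
  intro X S f _ _ _ _ F hF
  classical
  haveI hq : F.IsQuasicoherent := hF.1
  haveI : Coh.IsQCoh F := hF.1
  haveI : SheafOfModules.IsFiniteType (R := X.ringCatSheaf) F := hF.2
  haveI : IsLocallyNoetherian X := LocallyOfFiniteType.isLocallyNoetherian f
  haveI : CompactSpace X := QuasiCompact.compactSpace_of_compactSpace f
  haveI : IsNoetherian X := {}
  have hfp : CohB1.IsFP F := FLFH8.isFinitePresentation_of_isCoh F
  haveI : LocallyOfFinitePresentation f := inferInstance
  obtain ⟨U₀, hηU₀, hopen⟩ := exists_open_NE f F hfp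
  have hpre : IsOpen (f.base ⁻¹' (U₀ : Set S)) := U₀.2.preimage f.base.hom.continuous
  have hZcons : IsConstructible ((NE f F ∩ f.base ⁻¹' (U₀ : Set S))ᶜ ∩ f.base ⁻¹' (U₀ : Set S)) := by
    have h1 : IsConstructible (NE f F ∩ f.base ⁻¹' (U₀ : Set S)) :=
      (NoetherianSpace.isCompact _).isConstructible hopen
    have h2 : IsConstructible (f.base ⁻¹' (U₀ : Set S)) :=
      (NoetherianSpace.isCompact _).isConstructible hpre
    exact h1.compl.inter h2
  have hT : IsConstructible
      (f '' ((NE f F ∩ f.base ⁻¹' (U₀ : Set S))ᶜ ∩ f.base ⁻¹' (U₀ : Set S))) :=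
    Scheme.Hom.isConstructible_image f hZcons
  obtain ⟨U, hU, hηU, hsub⟩ :=
    Groth.Agent.Lib.Constr_lead.exists_open_generic_of_isConstructible hT (genericPoint_spec S)
  rcases hsub with hsub | hsub
  · right
    refine ⟨genericPoint S, mem_interior.mpr ⟨U ∩ U₀, ?_, hU.inter U₀.2, ⟨hηU, hηU₀⟩⟩⟩
    intro s hs hsE
    obtain ⟨x, ⟨hxZ, hxU₀⟩, hxs⟩ := hsub ⟨hs.1, trivial⟩
    have hall := (noEmbedded_fiber_iff f F s).mp hsE
    exact hxZ ⟨hall x hxs, hxU₀⟩
  · left
    refine ⟨genericPoint S, mem_interior.mpr ⟨U ∩ U₀, ?_, hU.inter U₀.2, ⟨hηU, hηU₀⟩⟩⟩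
    intro s hs
    refine (noEmbedded_fiber_iff f F s).mpr ?_
    intro x hx
    by_contra hcon
    have hxU₀ : x ∈ f.base ⁻¹' (U₀ : Set S) := by
      show f.base x ∈ (U₀ : Set S)
      rw [hx]; exact hs.2
    exact hsub ⟨hs.1, trivial⟩ ⟨x, ⟨fun hmem => hcon hmem.1, hxU₀⟩, hx⟩

/-- **S5871** -/
theorem main5871 {X S : Scheme.{u}} (f : X ⟶ S)
    [LocallyOfFinitePresentation f] [QuasiCompact f] [QuasiSeparated f]
    (F : X.Modules) [Coh.IsQCoh F] (hF : CohB1.IsFP F) :
    Topology.IsLocallyConstructible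
      {s : S | AssSch.NoEmbedded ((Scheme.Modules.pullback (f.fiberι s)).obj F)} :=
  Groth.Agent.Lib.ConsModH2.main5878 isConsMod_noEmbedded f F hF

end Groth.Agent.Lib.FibNoEmbH5
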