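/-
helper5: dimensions of the associated prime cycles of the fibre modules (EGA IV 9.8.5-type).
* `isOpen_fibAssDimIn_inter`: variant of `isOpen_fibAssDimIn` with flatness only over an open of the base.
* `dimsAss G`: the set of dimensions of the associated prime cycles of a module.
* `dim_closure_eq_of_maxInFib`, `dimsAss_pullback_eq`: invariance under extension of the base field.
APPEND-ONLY once landed.
-/
import Mathlib
import Groth.Agent.Lib.FibAssDim2_helper5
import Groth.Agent.Lib.FibSupp4_helper5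
import Groth.Agent.Lib.FibNoEmb3_helper5
import Groth.Agent.Lib.FieldGen_helper8
import Groth.Agent.Lib.ClosHt_helper8

set_option autoImplicit false

namespace Groth.Agent.Lib.FibAssCycH5

open AlgebraicGeometry CategoryTheory TopologicalSpace Topology TensorProduct Limits
open Groth.Agent.Lib.FibSkH5 Groth.Agent.Lib.FibPdH5 Groth.Agent.Lib.FibRectH5
  Groth.Agent.Lib.FibAssH5 Groth.Agent.Lib.FibNoEmbH5

universe u

section Inter

variable {X Y : Scheme.{u}} (f : X ⟶ Y)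

set_option maxHeartbeats 1000000 in
/-- variant of `isOpen_fibAssDimIn` where `F` is only assumed flat over an open subset `U₀` of the base -/
theorem isOpen_fibAssDimIn_inter [LocallyOfFinitePresentation f] (F : X.Modules)
    (hF : CohB1.IsFP F) (U₀ : Y.Opens)
    (hflat : ∀ x : X, f.base x ∈ U₀ → FlatMod.IsFlatOverAt f F x) (Φ : Set ℕ) :
    IsOpen ({x : X | ∀ z : f.fiber (f.base x),
      f.asFiber x ∈ closure ({z} : Set ↥(f.fiber (f.base x))) → FibAssQ f F Φ (f.base x) z} ∩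
        f.base ⁻¹' (U₀ : Set Y)) := by
  classical
  haveI : SheafOfModules.IsFinitePresentation (R := X.ringCatSheaf) F := hF
  haveI : F.IsQuasicoherent := inferInstance
  have hset : {x : X | ∀ z : f.fiber (f.base x),
      f.asFiber x ∈ closure ({z} : Set ↥(f.fiber (f.base x))) → FibAssQ f F Φ (f.base x) z} =
      {x : X | ∀ x' : X, x' ⤳ x → f.base x' = f.base x →
        FibAssQ f F Φ (f.base x') (f.asFiber x')} := by
    ext x
    exact forall_generization_iff f (FibAssQ f F Φ) x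
  rw [hset, isOpen_iff_forall_mem_open]
  rintro x ⟨hx, hxU₀⟩
  obtain ⟨V, hV, hyV, hVU₀⟩ := Opens.isBasis_iff_nbhd.mp Y.isBasis_affineOpens
    (show f.base x ∈ U₀ from hxU₀)
  obtain ⟨U, hU, hxU, e⟩ := Opens.isBasis_iff_nbhd.mp X.isBasis_affineOpens
    (show x ∈ f ⁻¹ᵁ V from hyV)
  letI algAB : Algebra Γ(Y, V) Γ(X, U) := (f.appLE V U e).hom.toAlgebra
  haveI : Algebra.FinitePresentation Γ(Y, V) Γ(X, U) :=
    HasRingHomProperty.appLE (P := @LocallyOfFinitePresentation) f inferInstance ⟨V, hV⟩ ⟨U, hU⟩ e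
  letI mAM : Module Γ(Y, V) Γ(F, U) := Module.compHom Γ(F, U) (f.appLE V U e).hom
  haveI : IsScalarTower Γ(Y, V) Γ(X, U) Γ(F, U) :=
    IsScalarTower.of_algebraMap_smul (fun _ _ => rfl)
  haveI : Module.FinitePresentation Γ(X, U) Γ(F, U) :=
    QCohFP2.finitePresentation_of_isFinitePresentation F hU
  haveI : Module.Flat Γ(Y, V) Γ(F, U) :=
    FlatSecH8.flat_sections_of_flat_stalks f F hU e (fun x' hx'U =>
      (FlatSecH8.isFlatOverAt_iff_flat_stalk f F hV e hx'U).mp (hflat x' (hVU₀ (e hx'U))))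
  have hopen := isOpen_assDimIn (A := Γ(Y, V)) (B := Γ(X, U)) Γ(F, U) Φ
  have hmemU : ∀ 𝔭 : PrimeSpectrum Γ(X, U), (hU.fromSpec 𝔭 : X) ∈ U :=
    fun 𝔭 => Groth.Agent.SchFTH8.fromSpec_mem hU 𝔭
  have hprime : ∀ 𝔭 : PrimeSpectrum Γ(X, U),
      hU.primeIdealOf ⟨hU.fromSpec 𝔭, hmemU 𝔭⟩ = 𝔭 :=
    fun 𝔭 => Groth.Agent.SchFTH8.primeIdealOf_fromSpec hU 𝔭 (hmemU 𝔭)
  -- the pointwise dictionary
  have hQ : ∀ 𝔯 : PrimeSpectrum Γ(X, U),
      FibAssQ f F Φ (f.base (hU.fromSpec 𝔯)) (f.asFiber (hU.fromSpec 𝔯)) ↔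
        (AssFib Γ(Y, V) Γ(F, U) 𝔯 → ∃ n ∈ Φ, fibCoheight Γ(Y, V) 𝔯.asIdeal = (n : ℕ∞)) := by
    intro 𝔯
    have h1 := asFiber_mem_ass_iff f hV hU e F hF (hmemU 𝔯)
    have h2 := dim_closure_asFiber f hV hU e (hmemU 𝔯)
    rw [hprime] at h1 h2
    unfold FibAssQ
    rw [h1, h2]
    constructor
    · intro h hass
      obtain ⟨n, hn, hcn⟩ := h hass
      exact ⟨n, hn, by exact_mod_cast hcn⟩
    · intro h hass
      obtain ⟨n, hn, hcn⟩ := h hass
      exact ⟨n, hn, by rw [hcn]; rfl⟩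
  have hiff : ∀ 𝔭 : PrimeSpectrum Γ(X, U), AssDimIn Γ(Y, V) Γ(F, U) Φ 𝔭 ↔
      ∀ x' : X, x' ⤳ hU.fromSpec 𝔭 → f.base x' = f.base (hU.fromSpec 𝔭) →
        FibAssQ f F Φ (f.base x') (f.asFiber x') := by
    intro 𝔭
    constructor
    · intro h x' hsp hy
      have hx'U : x' ∈ U := hsp.mem_open U.isOpen (hmemU 𝔭)
      have hxx : (hU.fromSpec (hU.primeIdealOf ⟨x', hx'U⟩) : X) = x' :=
        hU.fromSpec_primeIdealOf ⟨x', hx'U⟩
      rw [← hxx]
      rw [hQ]
      intro hass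
      apply h (hU.primeIdealOf ⟨x', hx'U⟩) _ _ hass
      · rw [← fromSpec_specializes_iff hU, hxx]
        exact hsp
      · have := (base_fromSpec_eq_iff f hV hU e (hU.primeIdealOf ⟨x', hx'U⟩) 𝔭).mp
          (by rw [hxx]; exact hy)
        exact this
    · intro h 𝔯 hle hc hass
      have h1 := h (hU.fromSpec 𝔯) ((fromSpec_specializes_iff hU 𝔯 𝔭).mpr hle)
        ((base_fromSpec_eq_iff f hV hU e 𝔯 𝔭).mpr hc)
      exact (hQ 𝔯).mp h1 hass
  refine ⟨(fun 𝔭 : PrimeSpectrum Γ(X, U) => (hU.fromSpec 𝔭 : X)) ''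
    {q : PrimeSpectrum Γ(X, U) | AssDimIn Γ(Y, V) Γ(F, U) Φ q}, ?_,
    hU.fromSpec.isOpenEmbedding.isOpenMap _ hopen, ?_⟩
  · rintro _ ⟨𝔭, h𝔭, rfl⟩
    exact ⟨(hiff 𝔭).mp h𝔭, hVU₀ (e (hmemU 𝔭))⟩
  · refine ⟨hU.primeIdealOf ⟨x, hxU⟩, ?_, hU.fromSpec_primeIdealOf ⟨x, hxU⟩⟩
    rw [Set.mem_ofPred_eq, hiff]
    have hxx : (hU.fromSpec (hU.primeIdealOf ⟨x, hxU⟩) : X) = x :=
      hU.fromSpec_primeIdealOf ⟨x, hxU⟩
    rw [hxx]
    exact hx

end Inter

section Dims

/-- the set of dimensions of the associated prime cycles of a module -/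
def dimsAss {Y : Scheme.{u}} (G : Y.Modules) : Set (WithBot ℕ∞) :=
  (fun z : Y => topologicalKrullDim ↥(closure ({z} : Set Y))) '' AssSch.Ass G

theorem dimsAss_eq_of_iso {Y : Scheme.{u}} {M N : Y.Modules} (α : M ≅ N) :
    dimsAss M = dimsAss N := by
  unfold dimsAss
  congr 1
  ext y
  exact isAssPoint_iff_of_iso α y

set_option maxHeartbeats 800000 in
/-- a point maximal in its fibre for an extension of the base field has a closure of the same
dimension as its image -/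
theorem dim_closure_eq_of_maxInFib {Y Y' T T' : Scheme.{u}} (g : Y ⟶ T) (g' : Y' ⟶ T')
    (e : Y' ⟶ Y) (h : T' ⟶ T)
    [IsIntegral T] [Subsingleton T] [IsIntegral T'] [Subsingleton T'] [LocallyOfFiniteType g]
    (sq : IsPullback e g' g h) (y' : Y') (hmax : MaxInFib e y') :
    topologicalKrullDim ↥(closure ({y'} : Set Y')) =
      topologicalKrullDim ↥(closure ({e.base y'} : Set Y)) := by
  haveI : IsAffine T := Groth.Agent.Lib.ConsPropH7.isAffine_of_subsingleton T
  haveI : IsAffine T' := Groth.Agent.Lib.ConsPropH7.isAffine_of_subsingleton T'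
  haveI : Subsingleton (PrimeSpectrum Γ(T, ⊤)) :=
    (T.isoSpec.hom.homeomorph).symm.injective.subsingleton
  haveI : Subsingleton (PrimeSpectrum Γ(T', ⊤)) :=
    (T'.isoSpec.hom.homeomorph).symm.injective.subsingleton
  letI fk : Field Γ(T, ⊤) := (isField_of_subsingleton_primeSpectrum Γ(T, ⊤)).toField
  letI fK : Field Γ(T', ⊤) := (isField_of_subsingleton_primeSpectrum Γ(T', ⊤)).toField
  have sq' : IsPullback e (g' ≫ T'.isoSpec.hom) (g ≫ T.isoSpec.hom) (Spec.map h.appTop) := by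
    refine IsPullback.of_iso sq (Iso.refl _) (Iso.refl _) T'.isoSpec T.isoSpec ?_ ?_ ?_ ?_
    · simp
    · simp
    · simp
    · exact (Scheme.isoSpec_hom_naturality h).symm
  haveI : LocallyOfFiniteType (g ≫ T.isoSpec.hom) := inferInstance
  obtain ⟨n, -, -, h1, h2⟩ := FieldGenH8.trdeg_eq_of_isMax_fibre Γ(T, ⊤) Γ(T', ⊤) e
    (g' ≫ T'.isoSpec.hom) (g ≫ T.isoSpec.hom) h.appTop sq' y' (fun w hw hπ => hmax w hπ hw)
  rw [Groth.Agent.ClosHtH8.topologicalKrullDim_closure_singleton,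
    Groth.Agent.ClosHtH8.topologicalKrullDim_closure_singleton, h1, h2]

set_option maxHeartbeats 1000000 in
/-- the set of dimensions of the associated prime cycles is invariant under extension of the base
field -/
theorem dimsAss_pullback_eq {Y Y' T T' : Scheme.{u}} (g : Y ⟶ T) (g' : Y' ⟶ T')
    (e : Y' ⟶ Y) (h : T' ⟶ T)
    [IsIntegral T] [Subsingleton T] [IsIntegral T'] [Subsingleton T'] [LocallyOfFiniteType g]
    (sq : IsPullback e g' g h) (F : Y.Modules) [F.IsQuasicoherent] :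
    dimsAss ((Scheme.Modules.pullback e).obj F) = dimsAss F := by
  have he := Groth.Agent.Lib.ConsPairH7.fpqc_of_isPullback sq
    (Groth.Agent.Lib.ConsPairH7.fpqc_of_subsingleton h)
  haveI : Surjective e := he.1.1
  haveI : Flat e := he.1.2
  haveI : IsNoetherian T := Groth.Agent.Lib.ConsPropH7.isNoetherian_of_subsingleton T
  haveI : IsNoetherian T' := Groth.Agent.Lib.ConsPropH7.isNoetherian_of_subsingleton T'
  haveI : IsLocallyNoetherian Y := LocallyOfFiniteType.isLocallyNoetherian g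
  haveI : LocallyOfFiniteType g' := MorphismProperty.of_isPullback sq inferInstance
  haveI : IsLocallyNoetherian Y' := LocallyOfFiniteType.isLocallyNoetherian g'
  have hfib : ∀ y' : Y', LocCoh.IsCohenMacaulayLocalRing
      ((e.fiber (e y')).presheaf.stalk (e.asFiber y')) := fun y' =>
    isCM_fiber_of_fieldSquare g g' e h sq (e y') (e.asFiber y')
  have key := isAssPoint_pullback_iff e F hfib
  ext d
  constructor
  · rintro ⟨y', hy', rfl⟩
    obtain ⟨ha, hm⟩ := (key y').mp hy'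
    exact ⟨e.base y', ha, (dim_closure_eq_of_maxInFib g g' e h sq y' hm).symm⟩
  · rintro ⟨y, hy, rfl⟩
    obtain ⟨y₀, rfl⟩ := e.surjective y
    obtain ⟨y', -, hey, hm⟩ := exists_maxInFib_specializes e hfib y₀
    refine ⟨y', (key y').mpr ⟨by rw [hey]; exact hy, hm⟩, ?_⟩
    show topologicalKrullDim ↥(closure ({y'} : Set Y')) = _
    rw [dim_closure_eq_of_maxInFib g g' e h sq y' hm, hey]

end Dims

end Groth.Agent.Lib.FibAssCycH5
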