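/-
helper5: the set of dimensions of the associated prime cycles of the fibre modules is a constructible
relation (EGA IV 9.8.5-type); S5874 via helper2's `main5878`.
APPEND-ONLY once landed.
-/
import Mathlib
import Groth.Agent.Lib.FibAssCyc1_helper5
import Groth.Agent.Lib.ConsMod1_helper2
import Groth.Agent.Lib.Constr_lead
import Groth.Agent.Lib.TFFree_helper8
import Groth.Agent.Lib.GenFlatSch_helper8

set_option autoImplicit false

namespace Groth.Agent.Lib.FibAssCycH5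

open AlgebraicGeometry CategoryTheory TopologicalSpace Topology TensorProduct Limits
open Groth.Agent.Lib.FibSkH5 Groth.Agent.Lib.FibAssH5 Groth.Agent.Lib.FibNoEmbH5
  Groth.Agent.Lib.FibSuppH5

universe u

section Crit

variable {X Y : Scheme.{u}} (f : X ⟶ Y) (F : X.Modules)

/-- fibrewise criterion: the dimensions of the associated cycles of `F_s` lie in `Φ` -/
theorem dimsAss_fiber_subset_iff (s : Y) (Φ : Set ℕ) :
    dimsAss ((Scheme.Modules.pullback (f.fiberι s)).obj F) ⊆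
        (fun n : ℕ => (n : WithBot ℕ∞)) '' Φ ↔
      ∀ x : X, f.base x = s → x ∈ AssDimLocus f F Φ := by
  constructor
  · intro h x hx
    obtain ⟨ζ, rfl⟩ := exists_fiber_point f hx
    rw [fiberι_mem_assDimLocus_iff]
    intro z' _ hass
    obtain ⟨n, hn, hd⟩ := h ⟨z', hass, rfl⟩
    exact ⟨n, hn, hd.symm⟩
  · rintro h _ ⟨z, hz, rfl⟩
    have h1 := (fiberι_mem_assDimLocus_iff f F s z Φ).mp (h _ (base_fiberι f s z)) z
      specializes_rfl hz
    obtain ⟨n, hn, hd⟩ := h1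
    exact ⟨n, hn, hd.symm⟩

theorem eq_image_iff (D : Set (WithBot ℕ∞)) (Φ : Finset ℕ) :
    D = (fun n : ℕ => (n : WithBot ℕ∞)) '' (Φ : Set ℕ) ↔
      D ⊆ (fun n : ℕ => (n : WithBot ℕ∞)) '' (Φ : Set ℕ) ∧
      ∀ n ∈ Φ, ¬ D ⊆ (fun n : ℕ => (n : WithBot ℕ∞)) '' ((Φ.erase n : Finset ℕ) : Set ℕ) := by
  constructor
  · rintro rfl
    refine ⟨subset_rfl, fun n hn hsub => ?_⟩
    obtain ⟨m, hm, hmn⟩ := hsub ⟨n, Finset.mem_coe.mpr hn, rfl⟩
    have hmn' : m = n := by
      have h0 : ((m : ℕ) : WithBot ℕ∞) = (n : WithBot ℕ∞) := hmn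
      exact_mod_cast h0
    rw [Finset.mem_coe, Finset.mem_erase] at hm
    exact hm.1 hmn'
  · rintro ⟨h1, h2⟩
    apply Set.Subset.antisymm h1
    rintro _ ⟨n, hn, rfl⟩
    by_contra hnot
    apply h2 n (Finset.mem_coe.mp hn)
    intro d hd
    obtain ⟨m, hm, rfl⟩ := h1 hd
    refine ⟨m, ?_, rfl⟩
    rw [Finset.mem_coe, Finset.mem_erase]
    refine ⟨?_, Finset.mem_coe.mp hm⟩
    rintro rfl
    exact hnot hd

/-- if each condition `D s ⊆ Ψ` is constant near `η`, then so is `D s = Φ` -/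
theorem generic_dichotomy {S : Type*} [TopologicalSpace S] (η : S) (D : S → Set (WithBot ℕ∞))
    (h : ∀ Ψ : Set ℕ, ∃ U : Set S, IsOpen U ∧ η ∈ U ∧ ∀ s ∈ U,
      (D s ⊆ (fun n : ℕ => (n : WithBot ℕ∞)) '' Ψ ↔
        D η ⊆ (fun n : ℕ => (n : WithBot ℕ∞)) '' Ψ))
    (Φ : Finset ℕ) :
    (interior {s | D s = (fun n : ℕ => (n : WithBot ℕ∞)) '' (Φ : Set ℕ)}).Nonempty ∨
      (interior {s | D s = (fun n : ℕ => (n : WithBot ℕ∞)) '' (Φ : Set ℕ)}ᶜ).Nonempty := by
  classical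
  choose U hUo hUη hUiff using h
  set W : Set S := U (Φ : Set ℕ) ∩ ⋂ n ∈ Φ, U ((Φ.erase n : Finset ℕ) : Set ℕ) with hW
  have hWo : IsOpen W := (hUo _).inter (isOpen_biInter_finset (fun n _ => hUo _))
  have hηW : η ∈ W := ⟨hUη _, Set.mem_iInter₂.mpr (fun n _ => hUη _)⟩
  have hiff : ∀ s ∈ W, (D s = (fun n : ℕ => (n : WithBot ℕ∞)) '' (Φ : Set ℕ) ↔
      D η = (fun n : ℕ => (n : WithBot ℕ∞)) '' (Φ : Set ℕ)) := by
    intro s hs
    rw [eq_image_iff, eq_image_iff, hUiff _ s hs.1]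
    have h2 : ∀ n ∈ Φ, (D s ⊆
        (fun n : ℕ => (n : WithBot ℕ∞)) '' ((Φ.erase n : Finset ℕ) : Set ℕ) ↔
        D η ⊆ (fun n : ℕ => (n : WithBot ℕ∞)) '' ((Φ.erase n : Finset ℕ) : Set ℕ)) :=
      fun n hn => hUiff _ s (Set.mem_iInter₂.mp hs.2 n hn)
    constructor
    · rintro ⟨ha, hb⟩
      exact ⟨ha, fun n hn hc => hb n hn ((h2 n hn).mpr hc)⟩
    · rintro ⟨ha, hb⟩
      exact ⟨ha, fun n hn hc => hb n hn ((h2 n hn).mp hc)⟩
  by_cases hη : D η = (fun n : ℕ => (n : WithBot ℕ∞)) '' (Φ : Set ℕ)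
  · left
    exact ⟨η, mem_interior.mpr ⟨W, fun s hs => (hiff s hs).mpr hη, hWo, hηW⟩⟩
  · right
    exact ⟨η, mem_interior.mpr ⟨W, fun s hs hcon => hη ((hiff s hs).mp hcon), hWo, hηW⟩⟩

/-- a condition which, over an open `U₀ ∋ η`, is the complement of a constructible set is constant near the
generic point -/
theorem exists_open_const_of_isConstructible {S : Type*} [TopologicalSpace S] {η : S}
    (hη : IsGenericPoint η (Set.univ : Set S)) {T : Set S} (hT : IsConstructible T)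
    {U₀ : Set S} (hU₀ : IsOpen U₀) (hηU₀ : η ∈ U₀) (Q : S → Prop)
    (hQ : ∀ s ∈ U₀, (Q s ↔ s ∉ T)) :
    ∃ U : Set S, IsOpen U ∧ η ∈ U ∧ ∀ s ∈ U, (Q s ↔ Q η) := by
  obtain ⟨U, hU, hηU, hsub⟩ :=
    Groth.Agent.Lib.Constr_lead.exists_open_generic_of_isConstructible hT hη
  refine ⟨U ∩ U₀, hU.inter hU₀, ⟨hηU, hηU₀⟩, ?_⟩
  intro s hs
  rw [hQ s hs.2, hQ η hηU₀]
  rcases hsub with hsub | hsub
  · have h1 := hsub ⟨hs.1, trivial⟩
    have h2 := hsub ⟨hηU, trivial⟩
    exact ⟨fun h => absurd h1 h, fun h => absurd h2 h⟩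
  · have h1 := hsub ⟨hs.1, trivial⟩
    have h2 := hsub ⟨hηU, trivial⟩
    exact ⟨fun _ => h2, fun _ => h1⟩

end Crit

section Generic

set_option maxHeartbeats 1000000 in
/-- over an integral noetherian base, the condition "the dimensions of the associated cycles of `F_s` lie in
`Ψ`" is constant on a neighbourhood of the generic point -/
theorem exists_open_subset_const {X S : Scheme.{u}} [IsIntegral S] [IsNoetherian S]
    (f : X ⟶ S) [LocallyOfFiniteType f] [QuasiCompact f]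
    (F : X.Modules) [Coh.IsQCoh F] (hF : CohB1.IsFP F) (U₀ : S.Opens)
    (hηU₀ : genericPoint S ∈ U₀)
    (hflat : ∀ x : X, f.base x ∈ U₀ → FlatMod.IsFlatOverAt f F x) (Ψ : Set ℕ) :
    ∃ U : Set S, IsOpen U ∧ genericPoint S ∈ U ∧ ∀ s ∈ U,
      (dimsAss ((Scheme.Modules.pullback (f.fiberι s)).obj F) ⊆
          (fun n : ℕ => (n : WithBot ℕ∞)) '' Ψ ↔
        dimsAss ((Scheme.Modules.pullback (f.fiberι (genericPoint S))).obj F) ⊆
          (fun n : ℕ => (n : WithBot ℕ∞)) '' Ψ) := by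
  classical
  haveI : IsLocallyNoetherian X := LocallyOfFiniteType.isLocallyNoetherian f
  haveI : CompactSpace X := QuasiCompact.compactSpace_of_compactSpace f
  haveI : IsNoetherian X := {}
  haveI : LocallyOfFinitePresentation f :=
    LocallyOfFinitePresentation.iff_locallyOfFiniteType.mpr inferInstance
  have hopen : IsOpen (AssDimLocus f F Ψ ∩ f.base ⁻¹' (U₀ : Set S)) :=
    isOpen_fibAssDimIn_inter f F hF U₀ hflat Ψ
  have hpre : IsOpen (f.base ⁻¹' (U₀ : Set S)) := U₀.2.preimage f.base.hom.continuous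
  have hZcons : IsConstructible
      ((AssDimLocus f F Ψ ∩ f.base ⁻¹' (U₀ : Set S))ᶜ ∩ f.base ⁻¹' (U₀ : Set S)) := by
    have h1 : IsConstructible (AssDimLocus f F Ψ ∩ f.base ⁻¹' (U₀ : Set S)) :=
      (NoetherianSpace.isCompact _).isConstructible hopen
    have h2 : IsConstructible (f.base ⁻¹' (U₀ : Set S)) :=
      (NoetherianSpace.isCompact _).isConstructible hpre
    exact h1.compl.inter h2
  have hT : IsConstructible
      (f '' ((AssDimLocus f F Ψ ∩ f.base ⁻¹' (U₀ : Set S))ᶜ ∩ f.base ⁻¹' (U₀ : Set S))) :=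
    Scheme.Hom.isConstructible_image f hZcons
  -- the criterion
  have hQ : ∀ s : S, s ∈ U₀ →
      (dimsAss ((Scheme.Modules.pullback (f.fiberι s)).obj F) ⊆
          (fun n : ℕ => (n : WithBot ℕ∞)) '' Ψ ↔
        s ∉ f '' ((AssDimLocus f F Ψ ∩ f.base ⁻¹' (U₀ : Set S))ᶜ ∩ f.base ⁻¹' (U₀ : Set S))) := by
    intro s hs
    rw [dimsAss_fiber_subset_iff]
    constructor
    · rintro h ⟨x, ⟨hxZ, hxU₀⟩, hxs⟩
      exact hxZ ⟨h x hxs, hxU₀⟩
    · intro h x hx
      by_contra hcon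
      apply h
      refine ⟨x, ⟨fun hmem => hcon hmem.1, ?_⟩, hx⟩
      show f.base x ∈ (U₀ : Set S)
      rw [hx]; exact hs
  exact exists_open_const_of_isConstructible (genericPoint_spec S) hT U₀.2 hηU₀
    (fun s => dimsAss ((Scheme.Modules.pullback (f.fiberι s)).obj F) ⊆
      (fun n : ℕ => (n : WithBot ℕ∞)) '' Ψ) hQ

set_option maxHeartbeats 1000000 in
/-- "the set of dimensions of the associated prime cycles is `Φ`" is a constructible relation -/
theorem isConsMod_dimsAss (Φ : Finset ℕ) :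
    ConsProp.IsConsMod.{u} (fun Y T g G =>
      dimsAss G = (fun n : ℕ => (n : WithBot ℕ∞)) '' (Φ : Set ℕ)) := by
  refine ⟨?_, ?_⟩
  · intro Y Y' T T' g g' e h _ _ _ _ _ _ sq F F' hF α
    haveI : F.IsQuasicoherent := hF.1
    show dimsAss F = _ ↔ dimsAss F' = _
    rw [dimsAss_eq_of_iso α, dimsAss_pullback_eq g g' e h sq F]
  · intro X S f _ _ _ _ F hF
    classical
    haveI hq : F.IsQuasicoherent := hF.1
    haveI : Coh.IsQCoh F := hF.1
    haveI : SheafOfModules.IsFiniteType (R := X.ringCatSheaf) F := hF.2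
    haveI : IsLocallyNoetherian X := LocallyOfFiniteType.isLocallyNoetherian f
    haveI : CompactSpace X := QuasiCompact.compactSpace_of_compactSpace f
    haveI : IsNoetherian X := {}
    have hfp : CohB1.IsFP F := FLFH8.isFinitePresentation_of_isCoh F
    obtain ⟨U₀, ⟨s₀, hs₀⟩, hfl⟩ := GenFlatSchH8.generic_flat f F
    have hηU₀ : genericPoint S ∈ U₀ := (genericPoint_specializes s₀).mem_open U₀.2 hs₀
    exact generic_dichotomy (genericPoint S)
      (fun s => dimsAss ((Scheme.Modules.pullback (f.fiberι s)).obj F))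
      (fun Ψ => exists_open_subset_const f F hfp U₀ hηU₀ hfl Ψ) Φ

/-- **S5874** -/
theorem main5874 {X S : Scheme.{u}} (f : X ⟶ S)
    [LocallyOfFinitePresentation f] [QuasiCompact f] [QuasiSeparated f]
    (F : X.Modules) [Coh.IsQCoh F] (hF : CohB1.IsFP F) (Φ : Finset ℕ) :
    Topology.IsLocallyConstructible {s : S |
      (fun z : ↥(f.fiber s) => topologicalKrullDim ↥(closure ({z} : Set ↥(f.fiber s)))) ''
          AssSch.Ass ((Scheme.Modules.pullback (f.fiberι s)).obj F) =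
        (fun n : ℕ => (n : WithBot ℕ∞)) '' (Φ : Set ℕ)} :=
  Groth.Agent.Lib.ConsModH2.main5878 (isConsMod_dimsAss Φ) f F hF

end Generic

end Groth.Agent.Lib.FibAssCycH5
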