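/-
helper5: the support of a finitely presented flat module is open over the base, ring level.
* `support_eq_zeroLocus_fitt`: Supp M = V(Fitt_0 M) for finite M (helper8's Fitting ideals).
* `exists_le_mem_support_of_le`: going down for the support of a flat module.
* `isOpen_image_inter_support`: image in Spec A of (open ∩ Supp M) is open (B f.p. over A, M f.p., A-flat).
* `nontrivial_fibModQ_iff_mem_support`.
APPEND-ONLY once landed.
-/
import Mathlib
import Groth.Agent.Lib.Fitt6_helper8
import Groth.Agent.Lib.FibAssDim3_helper5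

set_option autoImplicit false

namespace Groth.Agent.Lib.FibSuppH5

open TensorProduct PrimeSpectrum

universe u

section FittSupport

variable (R : Type u) [CommRing R] (M : Type u) [AddCommGroup M] [Module R M] [Module.Finite R M]

/-- the support of a finite module is the zero locus of its zeroth Fitting ideal -/
theorem support_eq_zeroLocus_fitt :
    Module.support R M = zeroLocus (Fitt.ideal R M 0 : Set R) := by
  classical
  ext p
  rw [mem_zeroLocus, SetLike.coe_subset_coe]
  constructor
  · intro hp
    by_contra hle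
    obtain ⟨f, hf, hfree, hrank⟩ := FittH8.exists_free_of_fitt (M := M) 0 p.asIdeal
      (fun k hk => absurd hk (Nat.not_lt_zero k)) hle
    haveI := hfree
    haveI := FittH8.nontrivial_away_of_notMem p.asIdeal f hf
    haveI : Subsingleton (LocalizedModule (Submonoid.powers f) M) :=
      (Module.finrank_eq_zero_iff_of_free (Localization.Away f) _).mp hrank
    have hsub := (LocalizedModule.subsingleton_iff_support_subset (M := M) (f := f)).mp inferInstance
    have := hsub hp
    rw [mem_zeroLocus, Set.singleton_subset_iff] at this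
    exact hf this
  · intro hle
    by_contra hp
    rw [Module.notMem_support_iff] at hp
    refine FittH8.fitt_not_le_of_span (M := M) 0 p.asIdeal p.asIdeal.primeCompl ?_
      (Localization.AtPrime p.asIdeal) (LocalizedModule p.asIdeal.primeCompl M)
      (LocalizedModule.mkLinearMap p.asIdeal.primeCompl M) (fun i => Fin.elim0 i) ?_ hle
    · rw [Set.disjoint_left]
      intro x hx hxp
      exact hx hxp
    · rw [eq_top_iff]
      intro x _
      rw [Subsingleton.elim x 0]
      exact zero_mem _

end FittSupport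


section GoingDown

/-- for a flat module, `M/p'M` has no `(A/p')`-torsion -/
theorem mem_smul_top_of_smul_mem {A : Type u} [CommRing A] (M : Type u) [AddCommGroup M]
    [Module A M] [Module.Flat A M] (p' : Ideal A) [p'.IsPrime] {a : A} (ha : a ∉ p') {m : M}
    (hm : a • m ∈ (p' • ⊤ : Submodule A M)) : m ∈ (p' • ⊤ : Submodule A M) := by
  let e := TensorProduct.quotTensorEquivQuotSMul M p'
  have hnz : Ideal.Quotient.mk p' a ∈ nonZeroDivisors (A ⧸ p') := by
    apply mem_nonZeroDivisors_of_ne_zero
    rw [Ne, Ideal.Quotient.eq_zero_iff_mem]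
    exact ha
  have hreg : IsSMulRegular ((A ⧸ p') ⊗[A] M) (Ideal.Quotient.mk p' a) :=
    Module.Flat.isSMulRegular_of_nonZeroDivisors (R := A ⧸ p') (M := (A ⧸ p') ⊗[A] M) hnz
  have h1 : (Ideal.Quotient.mk p' a) • ((1 : A ⧸ p') ⊗ₜ[A] m) = 0 := by
    have h2 : (Ideal.Quotient.mk p' a) • ((1 : A ⧸ p') ⊗ₜ[A] m) = a • ((1 : A ⧸ p') ⊗ₜ[A] m) := by
      rw [TensorProduct.smul_tmul', TensorProduct.smul_tmul', smul_eq_mul, mul_one]
      congr 1
      rw [Algebra.smul_def, mul_one]
      rfl
    rw [h2]
    apply e.injective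
    rw [map_smul, TensorProduct.quotTensorEquivQuotSMul_mk_one_tmul, map_zero,
      ← Submodule.Quotient.mk_smul, Submodule.Quotient.mk_eq_zero]
    exact hm
  have h3 : ((1 : A ⧸ p') ⊗ₜ[A] m) = 0 :=
    hreg (show (Ideal.Quotient.mk p' a) • ((1 : A ⧸ p') ⊗ₜ[A] m) =
      (Ideal.Quotient.mk p' a) • (0 : (A ⧸ p') ⊗[A] M) by rw [h1, smul_zero])
  have h4 := congrArg e h3
  rw [TensorProduct.quotTensorEquivQuotSMul_mk_one_tmul, map_zero,
    Submodule.Quotient.mk_eq_zero] at h4
  exact h4

variable {A B : Type u} [CommRing A] [CommRing B] [Algebra A B]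
  (M : Type u) [AddCommGroup M] [Module B M] [Module A M] [IsScalarTower A B M]
  [Module.Finite B M] [Module.Flat A M]

theorem mem_map_smul_top_iff (p' : Ideal A) (m : M) :
    m ∈ (p'.map (algebraMap A B) • ⊤ : Submodule B M) ↔ m ∈ (p' • ⊤ : Submodule A M) := by
  have h := Ideal.smul_restrictScalars p' (⊤ : Submodule B M)
  rw [Submodule.restrictScalars_top] at h
  rw [← h]
  rfl

/-- **going down for the support of a flat module** -/
theorem exists_le_mem_support_of_le (q : PrimeSpectrum B) (hq : q ∈ Module.support B M)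
    (p' : Ideal A) [p'.IsPrime] (hp' : p' ≤ q.asIdeal.comap (algebraMap A B)) :
    ∃ q' : PrimeSpectrum B, q' ≤ q ∧ q' ∈ Module.support B M ∧
      q'.asIdeal.comap (algebraMap A B) = p' := by
  set I : Ideal B := p'.map (algebraMap A B) with hI
  have hIq : I ≤ q.asIdeal := Ideal.map_le_iff_le_comap.mpr hp'
  have h1 : q ∈ Module.support B (M ⧸ (I • ⊤ : Submodule B M)) := by
    rw [Module.support_quotient]
    exact ⟨hq, by rw [mem_zeroLocus]; exact hIq⟩
  have h2 : Module.annihilator B (M ⧸ (I • ⊤ : Submodule B M)) ≤ q.asIdeal :=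
    Module.annihilator_le_of_mem_support h1
  obtain ⟨Q, hQmin, hQle⟩ := Ideal.exists_minimalPrimes_le h2
  haveI hQp : Q.IsPrime := hQmin.1.1
  have hQsupp' : (⟨Q, hQp⟩ : PrimeSpectrum B) ∈ Module.support B (M ⧸ (I • ⊤ : Submodule B M)) := by
    rw [Module.support_eq_zeroLocus, mem_zeroLocus]
    exact hQmin.1.2
  have hQsupp : (⟨Q, hQp⟩ : PrimeSpectrum B) ∈ Module.support B M := by
    rw [Module.support_quotient] at hQsupp'
    exact hQsupp'.1
  have hIQ : I ≤ Q := by
    rw [Module.support_quotient] at hQsupp'
    have := hQsupp'.2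
    rw [mem_zeroLocus] at this
    exact this
  refine ⟨⟨Q, hQp⟩, hQle, hQsupp, ?_⟩
  apply le_antisymm
  · intro a ha
    by_contra hap
    have haQ : algebraMap A B a ∈ Q := ha
    obtain ⟨y, hy, hay⟩ := Ideal.exists_mul_mem_of_mem_minimalPrimes hQmin haQ
    apply hy
    rw [Module.mem_annihilator]
    intro m'
    obtain ⟨m, rfl⟩ := Submodule.Quotient.mk_surjective _ m'
    rw [Module.mem_annihilator] at hay
    have h3 := hay (Submodule.Quotient.mk m)
    rw [← Submodule.Quotient.mk_smul, Submodule.Quotient.mk_eq_zero, mul_smul,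
      algebraMap_smul, mem_map_smul_top_iff] at h3
    rw [← Submodule.Quotient.mk_smul, Submodule.Quotient.mk_eq_zero, mem_map_smul_top_iff]
    exact mem_smul_top_of_smul_mem M p' hap h3
  · intro a ha
    exact hIQ (Ideal.mem_map_of_mem _ ha)

end GoingDown


section OpenImage

open Groth.Agent.Lib.FibSkH5 Groth.Agent.Lib.FibPdH5

variable {A B : Type u} [CommRing A] [CommRing B] [Algebra A B] [Algebra.FinitePresentation A B]
  (M : Type u) [AddCommGroup M] [Module B M] [Module A M] [IsScalarTower A B M]
  [Module.FinitePresentation B M] [Module.Flat A M]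

theorem isOpen_image_basicOpen_inter_support (g : B) :
    IsOpen (comap (algebraMap A B) ''
      ((basicOpen g : Set (PrimeSpectrum B)) ∩ Module.support B M)) := by
  apply isOpen_of_stableUnderGeneralization_of_isConstructible
  · rintro x y hyx ⟨q, ⟨hqg, hqs⟩, rfl⟩
    have hle : y ≤ comap (algebraMap A B) q := (le_iff_specializes _ _).mpr hyx
    obtain ⟨q', hq'le, hq's, hq'c⟩ := exists_le_mem_support_of_le M q hqs y.asIdeal hle
    refine ⟨q', ⟨?_, hq's⟩, PrimeSpectrum.ext hq'c⟩
    intro hg
    exact hqg (hq'le hg)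
  · apply isConstructible_comap_image (RingHom.finitePresentation_algebraMap.mpr inferInstance)
    rw [support_eq_zeroLocus_fitt]
    refine isConstructible_basicOpen.inter ?_
    have h1 := isRetrocompact_zeroLocus_compl_of_fg (FittH8.fitt_fg (R := B) (M := M) 0)
    exact ((h1.isConstructible (isClosed_zeroLocus _).isOpen_compl)).of_compl

/-- **the support of a finitely presented flat module is open over the base** -/
theorem isOpen_image_inter_support (U : Set (PrimeSpectrum B)) (hU : IsOpen U) :
    IsOpen (comap (algebraMap A B) '' (U ∩ Module.support B M)) := by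
  rw [isOpen_iff_forall_mem_open]
  rintro _ ⟨q, ⟨hqU, hqs⟩, rfl⟩
  obtain ⟨_, ⟨g, rfl⟩, hqg, hgU⟩ :=
    PrimeSpectrum.isTopologicalBasis_basic_opens.exists_subset_of_mem_open hqU hU
  refine ⟨_, ?_, isOpen_image_basicOpen_inter_support M g, ⟨q, ⟨hqg, hqs⟩, rfl⟩⟩
  exact Set.image_mono (Set.inter_subset_inter_left _ hgU)

omit [Algebra.FinitePresentation A B] [Module A M] [IsScalarTower A B M] [Module.Flat A M] in
theorem nontrivial_fibModQ_iff_mem_support (q : PrimeSpectrum B) :
    Nontrivial (FibModQ A q.asIdeal M) ↔ q ∈ Module.support B M := by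
  rw [Module.mem_support_iff_of_finite]
  constructor
  · intro h
    by_contra hle
    haveI := subsingleton_fibModQ A q.asIdeal M hle
    exact not_nontrivial _ h
  · intro h
    exact nontrivial_fibModQ A q.asIdeal M h

end OpenImage

end Groth.Agent.Lib.FibSuppH5
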