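/-
helper5: the fibrewise support of a flat finitely presented module, scheme level.
* `FibSupp f F`: points x of X at which the stalk of the restriction of F to the fibre through x is nonzero.
* `mem_fibSupp_iff` (chart dictionary), `isClosed_fibSupp`, `isOpen_image_inter_fibSupp` (f is open on the support),
  `exists_ass_generization` (every point of the support is a specialization of an associated point of the fibre module).
APPEND-ONLY once landed.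
-/
import Mathlib
import Groth.Agent.Lib.FibAssDim2_helper5
import Groth.Agent.Lib.FibAssDim3_helper5
import Groth.Agent.Lib.FibSupp1_helper5

set_option autoImplicit false

namespace Groth.Agent.Lib.FibSuppH5

open AlgebraicGeometry CategoryTheory TopologicalSpace TensorProduct
open Groth.Agent.Lib.FibSkH5 Groth.Agent.Lib.FibPdH5 Groth.Agent.Lib.FibRectH5
open Groth.Agent.Lib.FibAssH5

universe u

section Supp

variable {X Y : Scheme.{u}} (f : X ⟶ Y)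

/-- the fibrewise support of `F` -/
def FibSupp (F : X.Modules) : Set X :=
  {x | Nontrivial (((Scheme.Modules.pullback (f.fiberι (f.base x))).obj F).presheaf.stalk
    (f.asFiber x))}

variable [LocallyOfFinitePresentation f] {V : Y.Opens}
  (hV : IsAffineOpen V) {U : X.Opens} (hU : IsAffineOpen U) (e : U ≤ f ⁻¹ᵁ V) (F : X.Modules)

include hV e in
/-- chart dictionary for the fibrewise support -/
theorem mem_fibSupp_iff (hF : CohB1.IsFP F) {x : X} (hxU : x ∈ U) :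
    x ∈ FibSupp f F ↔ hU.primeIdealOf ⟨x, hxU⟩ ∈ Module.support Γ(X, U) Γ(F, U) := by
  letI algAB : Algebra Γ(Y, V) Γ(X, U) := (f.appLE V U e).hom.toAlgebra
  haveI : SheafOfModules.IsFinitePresentation (R := X.ringCatSheaf) F := hF
  haveI : F.IsQuasicoherent := inferInstance
  haveI : Module.FinitePresentation Γ(X, U) Γ(F, U) :=
    QCohFP2.finitePresentation_of_isFinitePresentation F hU
  obtain ⟨σ, ε, hε⟩ := exists_semilinear_fibMod f hV hU e F hxU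
  rw [← nontrivial_fibModQ_iff_mem_support (A := Γ(Y, V))]
  exact ε.toEquiv.nontrivial_congr.symm

end Supp


section Global

variable {X Y : Scheme.{u}} (f : X ⟶ Y) [LocallyOfFinitePresentation f] (F : X.Modules)

theorem isClosed_fibSupp (hF : CohB1.IsFP F) : IsClosed (FibSupp f F) := by
  haveI : SheafOfModules.IsFinitePresentation (R := X.ringCatSheaf) F := hF
  haveI : F.IsQuasicoherent := inferInstance
  rw [← isOpen_compl_iff, isOpen_iff_forall_mem_open]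
  intro x hx
  obtain ⟨V, hV, hyV, -⟩ := Opens.isBasis_iff_nbhd.mp Y.isBasis_affineOpens
    (show f.base x ∈ (⊤ : Y.Opens) from trivial)
  obtain ⟨U, hU, hxU, e⟩ := Opens.isBasis_iff_nbhd.mp X.isBasis_affineOpens
    (show x ∈ f ⁻¹ᵁ V from hyV)
  haveI : Module.FinitePresentation Γ(X, U) Γ(F, U) :=
    QCohFP2.finitePresentation_of_isFinitePresentation F hU
  have hmemU : ∀ 𝔭 : PrimeSpectrum Γ(X, U), (hU.fromSpec 𝔭 : X) ∈ U :=
    fun 𝔭 => Groth.Agent.SchFTH8.fromSpec_mem hU 𝔭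
  have hprime : ∀ 𝔭 : PrimeSpectrum Γ(X, U),
      hU.primeIdealOf ⟨hU.fromSpec 𝔭, hmemU 𝔭⟩ = 𝔭 :=
    fun 𝔭 => Groth.Agent.SchFTH8.primeIdealOf_fromSpec hU 𝔭 (hmemU 𝔭)
  have hcl : IsClosed (Module.support Γ(X, U) Γ(F, U)) := by
    rw [Module.support_eq_zeroLocus]
    exact PrimeSpectrum.isClosed_zeroLocus _
  refine ⟨(fun 𝔭 : PrimeSpectrum Γ(X, U) => (hU.fromSpec 𝔭 : X)) ''
    (Module.support Γ(X, U) Γ(F, U))ᶜ, ?_,
    hU.fromSpec.isOpenEmbedding.isOpenMap _ hcl.isOpen_compl, ?_⟩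
  · rintro _ ⟨𝔭, h𝔭, rfl⟩
    intro hmem
    apply h𝔭
    have := (mem_fibSupp_iff f hV hU e F hF (hmemU 𝔭)).mp hmem
    rwa [hprime] at this
  · refine ⟨hU.primeIdealOf ⟨x, hxU⟩, ?_, hU.fromSpec_primeIdealOf ⟨x, hxU⟩⟩
    intro hmem
    exact hx ((mem_fibSupp_iff f hV hU e F hF hxU).mpr hmem)

set_option maxHeartbeats 1000000 in
/-- `f` is open on the support of a flat finitely presented module -/
theorem isOpen_image_inter_fibSupp (hF : CohB1.IsFP F) (hflat : FlatMod.IsFlatOver f F)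
    (W : Set X) (hW : IsOpen W) : IsOpen (f.base '' (W ∩ FibSupp f F)) := by
  classical
  haveI : SheafOfModules.IsFinitePresentation (R := X.ringCatSheaf) F := hF
  haveI : F.IsQuasicoherent := inferInstance
  rw [isOpen_iff_forall_mem_open]
  rintro _ ⟨x, ⟨hxW, hxS⟩, rfl⟩
  obtain ⟨V, hV, hyV, -⟩ := Opens.isBasis_iff_nbhd.mp Y.isBasis_affineOpens
    (show f.base x ∈ (⊤ : Y.Opens) from trivial)
  obtain ⟨U, hU, hxU, e⟩ := Opens.isBasis_iff_nbhd.mp X.isBasis_affineOpens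
    (show x ∈ f ⁻¹ᵁ V from hyV)
  letI algAB : Algebra Γ(Y, V) Γ(X, U) := (f.appLE V U e).hom.toAlgebra
  haveI : Algebra.FinitePresentation Γ(Y, V) Γ(X, U) :=
    HasRingHomProperty.appLE (P := @LocallyOfFinitePresentation) f inferInstance ⟨V, hV⟩ ⟨U, hU⟩ e
  letI mAM : Module Γ(Y, V) Γ(F, U) := Module.compHom Γ(F, U) (f.appLE V U e).hom
  haveI : IsScalarTower Γ(Y, V) Γ(X, U) Γ(F, U) :=
    IsScalarTower.of_algebraMap_smul (fun _ _ => rfl)
  haveI : Module.FinitePresentation Γ(X, U) Γ(F, U) :=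
    QCohFP2.finitePresentation_of_isFinitePresentation F hU
  haveI : Module.Flat Γ(Y, V) Γ(F, U) :=
    FlatSecH8.flat_sections_of_flat_stalks f F hU e (fun x' hx'U =>
      (FlatSecH8.isFlatOverAt_iff_flat_stalk f F hV e hx'U).mp (hflat x'))
  have hmemU : ∀ 𝔭 : PrimeSpectrum Γ(X, U), (hU.fromSpec 𝔭 : X) ∈ U :=
    fun 𝔭 => Groth.Agent.SchFTH8.fromSpec_mem hU 𝔭
  have hprime : ∀ 𝔭 : PrimeSpectrum Γ(X, U),
      hU.primeIdealOf ⟨hU.fromSpec 𝔭, hmemU 𝔭⟩ = 𝔭 :=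
    fun 𝔭 => Groth.Agent.SchFTH8.primeIdealOf_fromSpec hU 𝔭 (hmemU 𝔭)
  have hW' : IsOpen ((fun 𝔭 : PrimeSpectrum Γ(X, U) => (hU.fromSpec 𝔭 : X)) ⁻¹' W) :=
    hW.preimage hU.fromSpec.continuous
  have hopen := isOpen_image_inter_support (A := Γ(Y, V)) (B := Γ(X, U)) Γ(F, U) _ hW'
  have hbase : ∀ 𝔮 : PrimeSpectrum Γ(X, U),
      (hV.fromSpec (PrimeSpectrum.comap (algebraMap Γ(Y, V) Γ(X, U)) 𝔮) : Y) =
        f.base (hU.fromSpec 𝔮) := by
    intro 𝔮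
    have h1 : PrimeSpectrum.comap (algebraMap Γ(Y, V) Γ(X, U)) 𝔮 =
        hV.primeIdealOf ⟨f.base (hU.fromSpec 𝔮), e (hmemU 𝔮)⟩ :=
      PrimeSpectrum.ext (comap_eq_primeIdealOf f hV hU e 𝔮)
    rw [h1]
    exact hV.fromSpec_primeIdealOf ⟨f.base (hU.fromSpec 𝔮), e (hmemU 𝔮)⟩
  refine ⟨(fun 𝔭 : PrimeSpectrum Γ(Y, V) => (hV.fromSpec 𝔭 : Y)) ''
    (PrimeSpectrum.comap (algebraMap Γ(Y, V) Γ(X, U)) ''
      (((fun 𝔭 : PrimeSpectrum Γ(X, U) => (hU.fromSpec 𝔭 : X)) ⁻¹' W) ∩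
        Module.support Γ(X, U) Γ(F, U))), ?_,
    hV.fromSpec.isOpenEmbedding.isOpenMap _ hopen, ?_⟩
  · rintro _ ⟨_, ⟨𝔮, ⟨h𝔮W, h𝔮S⟩, rfl⟩, rfl⟩
    refine ⟨hU.fromSpec 𝔮, ⟨h𝔮W, ?_⟩, (hbase 𝔮).symm⟩
    rw [mem_fibSupp_iff f hV hU e F hF (hmemU 𝔮), hprime]
    exact h𝔮S
  · refine ⟨_, ⟨hU.primeIdealOf ⟨x, hxU⟩, ⟨?_, ?_⟩, rfl⟩, ?_⟩
    · show (hU.fromSpec (hU.primeIdealOf ⟨x, hxU⟩) : X) ∈ W
      rw [hU.fromSpec_primeIdealOf ⟨x, hxU⟩]
      exact hxW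
    · exact (mem_fibSupp_iff f hV hU e F hF hxU).mp hxS
    · show (hV.fromSpec _ : Y) = f.base x
      rw [hbase, hU.fromSpec_primeIdealOf ⟨x, hxU⟩]

set_option maxHeartbeats 1000000 in
/-- every point of the fibrewise support is a specialization, in its fibre, of an associated
point of the fibre module -/
theorem exists_ass_generization (hF : CohB1.IsFP F) {x : X} (hx : x ∈ FibSupp f F) :
    ∃ x' : X, x' ⤳ x ∧ f.base x' = f.base x ∧
      f.asFiber x' ∈ AssSch.Ass ((Scheme.Modules.pullback (f.fiberι (f.base x'))).obj F) := by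
  classical
  haveI : SheafOfModules.IsFinitePresentation (R := X.ringCatSheaf) F := hF
  haveI : F.IsQuasicoherent := inferInstance
  obtain ⟨V, hV, hyV, -⟩ := Opens.isBasis_iff_nbhd.mp Y.isBasis_affineOpens
    (show f.base x ∈ (⊤ : Y.Opens) from trivial)
  obtain ⟨U, hU, hxU, e⟩ := Opens.isBasis_iff_nbhd.mp X.isBasis_affineOpens
    (show x ∈ f ⁻¹ᵁ V from hyV)
  letI algAB : Algebra Γ(Y, V) Γ(X, U) := (f.appLE V U e).hom.toAlgebra
  haveI : Algebra.FinitePresentation Γ(Y, V) Γ(X, U) :=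
    HasRingHomProperty.appLE (P := @LocallyOfFinitePresentation) f inferInstance ⟨V, hV⟩ ⟨U, hU⟩ e
  haveI : Module.FinitePresentation Γ(X, U) Γ(F, U) :=
    QCohFP2.finitePresentation_of_isFinitePresentation F hU
  have hmemU : ∀ 𝔭 : PrimeSpectrum Γ(X, U), (hU.fromSpec 𝔭 : X) ∈ U :=
    fun 𝔭 => Groth.Agent.SchFTH8.fromSpec_mem hU 𝔭
  have hprime : ∀ 𝔭 : PrimeSpectrum Γ(X, U),
      hU.primeIdealOf ⟨hU.fromSpec 𝔭, hmemU 𝔭⟩ = 𝔭 :=
    fun 𝔭 => Groth.Agent.SchFTH8.primeIdealOf_fromSpec hU 𝔭 (hmemU 𝔭)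
  set q := hU.primeIdealOf ⟨x, hxU⟩ with hq
  have hqs : q ∈ Module.support Γ(X, U) Γ(F, U) := (mem_fibSupp_iff f hV hU e F hF hxU).mp hx
  haveI : Nontrivial (FibModQ Γ(Y, V) q.asIdeal Γ(F, U)) :=
    (nontrivial_fibModQ_iff_mem_support (A := Γ(Y, V)) Γ(F, U) q).mpr hqs
  haveI := isNoetherianRing_fib (A := Γ(Y, V)) q.asIdeal
  obtain ⟨P, hP⟩ := associatedPrimes.nonempty (Fib Γ(Y, V) q.asIdeal)
    (FibModQ Γ(Y, V) q.asIdeal Γ(F, U))
  haveI := hP.isPrime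
  have hass := (mem_associatedPrimes_fibModQ_iff Γ(F, U) q.asIdeal P).mp hP
  set 𝔯 : PrimeSpectrum Γ(X, U) := ⟨below Γ(Y, V) q.asIdeal P, inferInstance⟩ with h𝔯
  have hle : 𝔯 ≤ q := below_le Γ(Y, V) q.asIdeal P
  have hc : 𝔯.asIdeal.comap (algebraMap Γ(Y, V) Γ(X, U)) =
      q.asIdeal.comap (algebraMap Γ(Y, V) Γ(X, U)) := comap_below Γ(Y, V) q.asIdeal P
  have hxx : (hU.fromSpec q : X) = x := hU.fromSpec_primeIdealOf ⟨x, hxU⟩
  refine ⟨hU.fromSpec 𝔯, ?_, ?_, ?_⟩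
  · rw [← hxx]
    exact (fromSpec_specializes_iff hU 𝔯 q).mpr hle
  · rw [← hxx]
    exact (base_fromSpec_eq_iff f hV hU e 𝔯 q).mpr hc
  · have h1 := asFiber_mem_ass_iff f hV hU e F hF (hmemU 𝔯)
    rw [hprime] at h1
    exact h1.mpr hass

end Global

end Groth.Agent.Lib.FibSuppH5
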