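/-
helper5: dimension of closed subsets of schemes through heights of points; irreducible components and maximal points.
* `topologicalKrullDim_closed_eq_iSup_height`, `exists_genericPoint_of_mem_irreducibleComponents`,
  `exists_irreducibleComponent_of_mem`, `topDim_lt_top` (copied from helper9's WeilCohG3).
APPEND-ONLY once landed.
-/
import Mathlib
import Groth.Agent.Lib.ClosHt_helper8
import Groth.Agent.Lib.BCDimSch_helper8

set_option autoImplicit false

namespace Groth.Agent.Lib.FibSuppH5

open AlgebraicGeometry CategoryTheory TopologicalSpace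

universe u

section Topology

variable {T : Scheme.{u}} {S : Set T}

/-- the dimension of a closed subset of a scheme is the supremum of the heights of its points
(in the specialization order of the scheme) -/
theorem topologicalKrullDim_closed_eq_iSup_height (hS : IsClosed S) :
    topologicalKrullDim ↥S = ⨆ a : S, ((Order.height (a : T) : ℕ∞) : WithBot ℕ∞) := by
  have hemb : Topology.IsClosedEmbedding (Subtype.val : S → T) := hS.isClosedEmbedding_subtypeVal
  haveI : QuasiSober S := hemb.quasiSober
  have h1 : topologicalKrullDim ↥S = @Order.krullDim S (specializationPreorder _) := by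
    unfold topologicalKrullDim
    exact @Order.krullDim_eq_of_orderIso (TopologicalSpace.IrreducibleCloseds S)
      S _ (specializationPreorder _) (irreducibleSetEquivPoints (α := S))
  have h2 : @Order.krullDim S (specializationPreorder _) = Order.krullDim S := by
    refine @Order.krullDim_eq_of_orderIso _ _ (specializationPreorder _) _ ?_
    refine @RelIso.mk _ _ (@LE.le _ (specializationPreorder S).toLE) (· ≤ ·)
      (Equiv.refl _) ?_
    intro a b
    change (b : T) ⤳ (a : T) ↔ b ⤳ a
    exact (subtype_specializes_iff b a).symm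
  rw [h1, h2, Order.krullDim_eq_iSup_height]
  congr 1
  funext a
  congr 1
  refine Order.height_eq_of_strictMono (Subtype.val : S → T) (fun _ _ h => h) ?_ a
  intro a b hb
  have hsp : (a : T) ⤳ b := hb.le
  exact ⟨⟨b, hsp.mem_closed hS a.2⟩, hb, rfl⟩

/-- an irreducible component of a closed subset `S` of a scheme has a generic point, which is a
maximal point of `S`; its dimension is the height of this point -/
theorem exists_genericPoint_of_mem_irreducibleComponents (hS : IsClosed S) (Z : Set ↥S)
    (hZ : Z ∈ irreducibleComponents ↥S) :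
    ∃ ζ : ↥S, Z = closure {ζ} ∧ (∀ w ∈ S, w ⤳ (ζ : T) → w = ζ) ∧
      topologicalKrullDim ↥Z = Order.height (ζ : T) := by
  have hemb : Topology.IsClosedEmbedding (Subtype.val : S → T) := hS.isClosedEmbedding_subtypeVal
  haveI : QuasiSober S := hemb.quasiSober
  have hZirr : IsIrreducible Z := hZ.1
  have hZcl : IsClosed Z := isClosed_of_mem_irreducibleComponents Z hZ
  obtain ⟨ζ, hζ⟩ := QuasiSober.sober hZirr hZcl
  have hζZ : closure ({ζ} : Set ↥S) = Z := hζ
  refine ⟨ζ, hζZ.symm, ?_, ?_⟩
  · intro w hw hsp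
    have hsp' : (⟨w, hw⟩ : ↥S) ⤳ ζ := (subtype_specializes_iff _ _).mpr hsp
    have hirr : IsIrreducible (closure ({(⟨w, hw⟩ : ↥S)} : Set ↥S)) :=
      isIrreducible_singleton.closure
    have hle : Z ≤ closure ({(⟨w, hw⟩ : ↥S)} : Set ↥S) := by
      rw [← hζZ]
      exact closure_minimal (Set.singleton_subset_iff.mpr (specializes_iff_mem_closure.mp hsp'))
        isClosed_closure
    have hge := hZ.2 hirr hle
    have hwZ : (⟨w, hw⟩ : ↥S) ∈ Z := hge (subset_closure rfl)
    rw [← hζZ] at hwZ
    have hsp'' : ζ ⤳ (⟨w, hw⟩ : ↥S) := specializes_iff_mem_closure.mpr hwZ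
    exact congrArg Subtype.val (hsp'.antisymm hsp'').eq
  · rw [← Groth.Agent.ClosHtH8.topologicalKrullDim_closure_singleton T (ζ : T)]
    have hφ : Topology.IsEmbedding (fun a : ↥Z => ((a : ↥S) : T)) :=
      Topology.IsEmbedding.subtypeVal.comp Topology.IsEmbedding.subtypeVal
    have hrange : Set.range (fun a : ↥Z => ((a : ↥S) : T)) = closure ({(ζ : T)} : Set T) := by
      ext t
      constructor
      · rintro ⟨a, rfl⟩
        have ha : (a : ↥S) ∈ closure ({ζ} : Set ↥S) := by rw [hζZ]; exact a.2
        have hsp : ζ ⤳ (a : ↥S) := specializes_iff_mem_closure.mpr ha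
        exact specializes_iff_mem_closure.mp ((subtype_specializes_iff _ _).mp hsp)
      · intro ht
        have hsp : (ζ : T) ⤳ t := specializes_iff_mem_closure.mpr ht
        have htS : t ∈ S := hsp.mem_closed hS ζ.2
        have hsp' : ζ ⤳ (⟨t, htS⟩ : ↥S) := (subtype_specializes_iff _ _).mpr hsp
        have htZ : (⟨t, htS⟩ : ↥S) ∈ Z := by
          rw [← hζZ]
          exact specializes_iff_mem_closure.mp hsp'
        exact ⟨⟨⟨t, htS⟩, htZ⟩, rfl⟩
    have e1 := hφ.toHomeomorph
    have e2 := Homeomorph.setCongr hrange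
    exact IsHomeomorph.topologicalKrullDim_eq _ (e1.trans e2).isHomeomorph

/-- every point of a closed subset `S` lies on an irreducible component of `S`, whose generic
point is a maximal point of `S` -/
theorem exists_irreducibleComponent_of_mem (hS : IsClosed S) {z : T} (hz : z ∈ S) :
    ∃ Z ∈ irreducibleComponents ↥S, ∃ ζ : T, ζ ∈ S ∧ ζ ⤳ z ∧ (∀ w ∈ S, w ⤳ ζ → w = ζ) ∧
      topologicalKrullDim ↥Z = Order.height ζ := by
  have hmem := irreducibleComponent_mem_irreducibleComponents (⟨z, hz⟩ : ↥S)
  obtain ⟨ζ, hZ, hmax, hdim⟩ := exists_genericPoint_of_mem_irreducibleComponents hS _ hmem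
  refine ⟨_, hmem, ζ, ζ.2, ?_, hmax, hdim⟩
  have hzZ : (⟨z, hz⟩ : ↥S) ∈ irreducibleComponent (⟨z, hz⟩ : ↥S) := mem_irreducibleComponent
  rw [hZ] at hzZ
  exact (subtype_specializes_iff _ _).mp (specializes_iff_mem_closure.mpr hzZ)

end Topology


section FiniteDim

/-- (copied from helper9's WeilCohG3) -/
lemma ringKrullDim_le_nat_of_finiteType (k A : Type u) [Field k] [CommRing A] [Algebra k A]
    [Algebra.FiniteType k A] : ∃ n : ℕ, ringKrullDim A ≤ ((n : ℕ∞) : WithBot ℕ∞) := by
  obtain ⟨n, f, hf⟩ := Algebra.FiniteType.iff_quotient_mvPolynomial''.mp ‹Algebra.FiniteType k A›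
  refine ⟨n, (ringKrullDim_le_of_surjective f.toRingHom hf).trans ?_⟩
  rw [MvPolynomial.ringKrullDim_of_isNoetherianRing, ringKrullDim_eq_zero_of_field, zero_add]
  simp

/-- (copied from helper9's WeilCohG3) a quasi-compact scheme locally of finite type over a field
is finite dimensional -/
lemma topDim_lt_top {k : Type u} [Field k] (X : Scheme.{u}) (f : X ⟶ Spec (CommRingCat.of k))
    [LocallyOfFiniteType f] [CompactSpace X] : topologicalKrullDim X < ⊤ := by
  let 𝒰 := X.affineCover.finiteSubcover
  rw [Groth.Agent.BCDimSchH8.dim_eq_iSup_openCover X 𝒰]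
  have hb : ∀ i, ∃ n : ℕ, topologicalKrullDim (𝒰.X i) ≤ ((n : ℕ∞) : WithBot ℕ∞) := by
    intro i
    let U := 𝒰.X i
    let g : Spec Γ(U, ⊤) ⟶ Spec (CommRingCat.of k) := U.isoSpec.inv ≫ 𝒰.f i ≫ f
    haveI : LocallyOfFiniteType g := by
      dsimp only [g]
      infer_instance
    have hφ : LocallyOfFiniteType (Spec.map (Spec.preimage g)) := by
      rw [Spec.map_preimage]
      infer_instance
    rw [HasRingHomProperty.Spec_iff (P := @LocallyOfFiniteType)] at hφ
    algebraize [(Spec.preimage g).hom]
    obtain ⟨n, hn⟩ := ringKrullDim_le_nat_of_finiteType k Γ(U, ⊤)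
    refine ⟨n, ?_⟩
    rw [IsHomeomorph.topologicalKrullDim_eq _ (Scheme.homeoOfIso U.isoSpec).isHomeomorph]
    show topologicalKrullDim (PrimeSpectrum Γ(U, ⊤)) ≤ _
    rw [PrimeSpectrum.topologicalKrullDim_eq_ringKrullDim]
    exact hn
  choose n hn using hb
  refine lt_of_le_of_lt (b := (((Finset.univ.sup n : ℕ) : ℕ∞) : WithBot ℕ∞)) ?_ ?_
  · refine iSup_le fun i => (hn i).trans ?_
    exact_mod_cast Finset.le_sup (f := n) (Finset.mem_univ i)
  · exact WithBot.coe_lt_coe.2 (ENat.natCast_lt_top _)

/-- the fibres of a quasi-compact morphism locally of finite type are finite dimensional -/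
theorem fiber_dim_lt_top {X Y : Scheme.{u}} (f : X ⟶ Y) [LocallyOfFiniteType f] [QuasiCompact f]
    (y : Y) : topologicalKrullDim (f.fiber y) < ⊤ := by
  haveI : LocallyOfFiniteType (f.fiberToSpecResidueField y) :=
    MorphismProperty.pullback_snd _ _ inferInstance
  exact topDim_lt_top (k := Y.residueField y) (f.fiber y) (f.fiberToSpecResidueField y)

end FiniteDim

end Groth.Agent.Lib.FibSuppH5
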