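/-
helper5: supports of the fibre modules F_y: components, dimensions (EGA IV 12.2.1 (iii), (v)-type).
APPEND-ONLY once landed.
-/
import Mathlib
import Groth.Agent.Lib.FibSupp2_helper5
import Groth.Agent.Lib.FibSupp3_helper5
import Groth.Agent.Lib.FibAssDim4_helper5

set_option autoImplicit false

namespace Groth.Agent.Lib.FibSuppH5

open AlgebraicGeometry CategoryTheory TopologicalSpace TensorProduct
open Groth.Agent.Lib.FibSkH5 Groth.Agent.Lib.FibPdH5 Groth.Agent.Lib.FibRectH5
open Groth.Agent.Lib.FibAssH5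

universe u

section PerFibre

variable {X Y : Scheme.{u}} (f : X ⟶ Y) (F : X.Modules)

/-- the support of the fibre module `F_y` -/
def Sig (y : Y) : Set ↥(f.fiber y) :=
  {z | Nontrivial (((Scheme.Modules.pullback (f.fiberι y)).obj F).presheaf.stalk z)}

theorem mem_sig_iff (y : Y) (z : f.fiber y) :
    z ∈ Sig f F y ↔ f.fiberι y z ∈ FibSupp f F :=
  fiber_point_transport f
    (fun y z => Nontrivial (((Scheme.Modules.pullback (f.fiberι y)).obj F).presheaf.stalk z)) y z

theorem asFiber_mem_sig_iff (x : X) : f.asFiber x ∈ Sig f F (f.base x) ↔ x ∈ FibSupp f F :=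
  Iff.rfl

theorem base_fiberι (y : Y) (z : f.fiber y) : f.base (f.fiberι y z) = y := by
  have : f.fiberι y z ∈ Set.range (f.fiberι y) := ⟨z, rfl⟩
  rw [f.range_fiberι y] at this
  exact this

theorem exists_fiber_point {y : Y} {x : X} (hx : f.base x = y) : ∃ z : f.fiber y, f.fiberι y z = x := by
  have : x ∈ Set.range (f.fiberι y) := by
    rw [f.range_fiberι y]
    exact hx
  exact this

theorem fiberι_specializes_iff (y : Y) (z z' : f.fiber y) :
    f.fiberι y z ⤳ f.fiberι y z' ↔ z ⤳ z' :=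
  (f.fiberι y).isEmbedding.isInducing.specializes_iff

theorem ass_subset_sig (y : Y) {z : f.fiber y}
    (hz : z ∈ AssSch.Ass ((Scheme.Modules.pullback (f.fiberι y)).obj F)) : z ∈ Sig f F y := by
  show Nontrivial _
  by_contra hnt
  rw [not_nontrivial_iff_subsingleton] at hnt
  have h1 : IsLocalRing.maximalIdeal ((f.fiber y).presheaf.stalk z) ∈
      associatedPrimes ((f.fiber y).presheaf.stalk z)
        (((Scheme.Modules.pullback (f.fiberι y)).obj F).presheaf.stalk z) := hz
  rw [associatedPrimes.eq_empty_of_subsingleton] at h1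
  exact Set.notMem_empty _ h1

variable [LocallyOfFinitePresentation f]

theorem isClosed_sig (hF : CohB1.IsFP F) (y : Y) : IsClosed (Sig f F y) := by
  have h : Sig f F y = (f.fiberι y).base ⁻¹' FibSupp f F := by
    ext z
    exact mem_sig_iff f F y z
  rw [h]
  exact (isClosed_fibSupp f F hF).preimage (f.fiberι y).continuous

/-- every point of the support of `F_y` is a specialization of an associated point -/
theorem exists_ass_specializes (hF : CohB1.IsFP F) (y : Y) {z : f.fiber y} (hz : z ∈ Sig f F y) :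
    ∃ z₀ ∈ AssSch.Ass ((Scheme.Modules.pullback (f.fiberι y)).obj F), z₀ ⤳ z := by
  obtain ⟨x', hsp, hy, hass⟩ := exists_ass_generization f F hF ((mem_sig_iff f F y z).mp hz)
  have hx'y : f.base x' = y := hy.trans (base_fiberι f y z)
  obtain ⟨z₀, rfl⟩ := exists_fiber_point f hx'y
  refine ⟨z₀, ?_, (fiberι_specializes_iff f y z₀ z).mp hsp⟩
  exact (fiber_point_transport f
    (fun y z => z ∈ AssSch.Ass ((Scheme.Modules.pullback (f.fiberι y)).obj F)) y z₀).mpr hass

/-- maximal points of the support are associated -/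
theorem mem_ass_of_maximal (hF : CohB1.IsFP F) (y : Y) {ζ : f.fiber y} (hζ : ζ ∈ Sig f F y)
    (hmax : ∀ w ∈ Sig f F y, w ⤳ ζ → w = ζ) :
    ζ ∈ AssSch.Ass ((Scheme.Modules.pullback (f.fiberι y)).obj F) := by
  obtain ⟨z₀, hz₀, hsp⟩ := exists_ass_specializes f F hF y hζ
  have := hmax z₀ (ass_subset_sig f F y hz₀) hsp
  rwa [this] at hz₀

theorem dim_closure_eq_height (y : Y) (z : f.fiber y) :
    topologicalKrullDim ↥(closure ({z} : Set ↥(f.fiber y))) =
      ((Order.height z : ℕ∞) : WithBot ℕ∞) :=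
  Groth.Agent.ClosHtH8.topologicalKrullDim_closure_singleton (f.fiber y) z

end PerFibre


section Components

variable {X Y : Scheme.{u}} (f : X ⟶ Y) [LocallyOfFinitePresentation f] (F : X.Modules)

/-- the locus of `x` such that the associated points of `F_{f x}` through `x` have closures of
dimension in `Φ` -/
def AssDimLocus (Φ : Set ℕ) : Set X :=
  {x : X | ∀ z : f.fiber (f.base x),
    f.asFiber x ∈ closure ({z} : Set ↥(f.fiber (f.base x))) → FibAssQ f F Φ (f.base x) z}

theorem isOpen_assDimLocus (hF : CohB1.IsFP F) (hflat : FlatMod.IsFlatOver f F) (Φ : Set ℕ) :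
    IsOpen (AssDimLocus f F Φ) :=
  isOpen_fibAssDimIn f F hF hflat Φ

omit [LocallyOfFinitePresentation f] in
theorem fiberι_mem_assDimLocus_iff (y : Y) (ζ : f.fiber y) (Φ : Set ℕ) :
    f.fiberι y ζ ∈ AssDimLocus f F Φ ↔ ∀ z' : f.fiber y, z' ⤳ ζ → FibAssQ f F Φ y z' := by
  unfold AssDimLocus
  rw [Set.mem_ofPred_eq, forall_generization_iff]
  constructor
  · intro h z' hsp
    have := h (f.fiberι y z') ((fiberι_specializes_iff f y z' ζ).mpr hsp)
      (by rw [base_fiberι, base_fiberι])
    exact (fiber_point_transport f (FibAssQ f F Φ) y z').mpr this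
  · intro h x' hsp hy
    have hx'y : f.base x' = y := hy.trans (base_fiberι f y ζ)
    obtain ⟨z', rfl⟩ := exists_fiber_point f hx'y
    rw [← fiber_point_transport f (FibAssQ f F Φ) y z']
    exact h z' ((fiberι_specializes_iff f y z' ζ).mp hsp)

set_option maxHeartbeats 1000000 in
/-- the locus of `y` such that `Supp F_y` has an irreducible component of dimension `n` -/
theorem compDim_set_eq (hF : CohB1.IsFP F) (n : ℕ) :
    {y : Y | ∃ Z ∈ irreducibleComponents ↥(Sig f F y),
      topologicalKrullDim ↥Z = (n : WithBot ℕ∞)} =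
      f.base '' (AssDimLocus f F {n} ∩ FibSupp f F) := by
  ext y
  constructor
  · rintro ⟨Z, hZ, hdim⟩
    obtain ⟨ζ, hZeq, hmax, hdimZ⟩ :=
      exists_genericPoint_of_mem_irreducibleComponents (isClosed_sig f F hF y) Z hZ
    refine ⟨f.fiberι y ζ, ⟨?_, (mem_sig_iff f F y ζ).mp ζ.2⟩, base_fiberι f y ζ⟩
    rw [fiberι_mem_assDimLocus_iff]
    intro z' hsp hass
    have hz'S := ass_subset_sig f F y hass
    have hz'ζ := hmax z' hz'S hsp
    refine ⟨n, rfl, ?_⟩
    rw [hz'ζ, dim_closure_eq_height, ← hdimZ, hdim]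
  · rintro ⟨x, ⟨hxO, hxS⟩, rfl⟩
    obtain ⟨Z, hZ, ζ, hζS, hsp, hmax, hdimZ⟩ :=
      exists_irreducibleComponent_of_mem (isClosed_sig f F hF (f.base x))
        ((asFiber_mem_sig_iff f F x).mpr hxS)
    have hζass := mem_ass_of_maximal f F hF (f.base x) hζS hmax
    obtain ⟨m, hm, hd⟩ := hxO ζ (specializes_iff_mem_closure.mp hsp) hζass
    rw [Set.mem_singleton_iff] at hm
    subst hm
    refine ⟨Z, hZ, ?_⟩
    rw [hdimZ, ← dim_closure_eq_height, hd]

/-- **EGA IV 12.2.1 (iii)-type** (S4965 form; properness is not needed) -/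
theorem isOpen_compDims_superset (hF : CohB1.IsFP F) (hflat : FlatMod.IsFlatOver f F)
    (Φ : Finset ℕ) :
    IsOpen {y : Y | ∀ n ∈ Φ, ∃ Z ∈ irreducibleComponents ↥(Sig f F y),
      topologicalKrullDim ↥Z = (n : WithBot ℕ∞)} := by
  have hset : {y : Y | ∀ n ∈ Φ, ∃ Z ∈ irreducibleComponents ↥(Sig f F y),
      topologicalKrullDim ↥Z = (n : WithBot ℕ∞)} =
      ⋂ n ∈ Φ, {y : Y | ∃ Z ∈ irreducibleComponents ↥(Sig f F y),
        topologicalKrullDim ↥Z = (n : WithBot ℕ∞)} := by
    ext y
    simp only [Set.mem_iInter, Set.mem_ofPred_eq]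
  rw [hset]
  refine isOpen_biInter_finset fun n _ => ?_
  rw [compDim_set_eq f F hF n]
  exact isOpen_image_inter_fibSupp f F hF hflat _ (isOpen_assDimLocus f F hF hflat {n})

end Components

end Groth.Agent.Lib.FibSuppH5
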