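/-
helper5: dim Supp F_y is locally constant; components of Supp F_y of prescribed dimensions (EGA IV 12.2.1 (iii), (v)-type).
* `isLocallyConstant_dim_sig` (S4969 form), `isOpen_noEmb_compDims_eq` (S4966 form).
APPEND-ONLY once landed.
-/
import Mathlib
import Groth.Agent.Lib.FibSupp4_helper5

set_option autoImplicit false

namespace Groth.Agent.Lib.FibSuppH5

open AlgebraicGeometry CategoryTheory TopologicalSpace TensorProduct
open Groth.Agent.Lib.FibSkH5 Groth.Agent.Lib.FibPdH5 Groth.Agent.Lib.FibRectH5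
open Groth.Agent.Lib.FibAssH5

universe u

section Arith

theorem lift_nat_of_lt_top {x : WithBot ℕ∞} (h0 : 0 ≤ x) (h1 : x < ⊤) :
    ∃ n : ℕ, x = (n : WithBot ℕ∞) := by
  induction x with
  | bot => exact absurd h0 (by simp)
  | coe y =>
    have hy' : y ≠ ⊤ := by
      rintro rfl
      exact lt_irrefl _ h1
    lift y to ℕ using hy'
    exact ⟨y, rfl⟩

end Arith

section Dim

variable {X Y : Scheme.{u}} (f : X ⟶ Y) [LocallyOfFinitePresentation f] (F : X.Modules)

/-- the dimension of the support of `F_y` -/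
theorem dim_sig_eq (hF : CohB1.IsFP F) (y : Y) :
    topologicalKrullDim ↥(Sig f F y) =
      ⨆ a : Sig f F y, ((Order.height (a : f.fiber y) : ℕ∞) : WithBot ℕ∞) :=
  topologicalKrullDim_closed_eq_iSup_height (isClosed_sig f F hF y)

theorem height_le_dim_sig (hF : CohB1.IsFP F) (y : Y) {z : f.fiber y} (hz : z ∈ Sig f F y) :
    ((Order.height z : ℕ∞) : WithBot ℕ∞) ≤ topologicalKrullDim ↥(Sig f F y) := by
  rw [dim_sig_eq f F hF y]
  exact le_iSup (fun a : Sig f F y => ((Order.height (a : f.fiber y) : ℕ∞) : WithBot ℕ∞)) ⟨z, hz⟩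

theorem height_mono_of_specializes (y : Y) {z z' : f.fiber y} (h : z' ⤳ z) :
    Order.height z ≤ Order.height z' :=
  Order.height_mono h

theorem dim_sig_le_of_forall_ass (hF : CohB1.IsFP F) (y : Y) (n : ℕ)
    (h : ∀ z' : f.fiber y, FibAssQ f F (Set.Iic n) y z') :
    topologicalKrullDim ↥(Sig f F y) ≤ (n : WithBot ℕ∞) := by
  rw [dim_sig_eq f F hF y]
  refine iSup_le fun a => ?_
  obtain ⟨z₀, hz₀, hsp⟩ := exists_ass_specializes f F hF y a.2
  obtain ⟨m, hm, hd⟩ := h z₀ hz₀
  rw [dim_closure_eq_height] at hd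
  have h1 : ((Order.height (a : f.fiber y) : ℕ∞) : WithBot ℕ∞) ≤
      ((Order.height z₀ : ℕ∞) : WithBot ℕ∞) :=
    WithBot.coe_le_coe.mpr (height_mono_of_specializes f y hsp)
  refine h1.trans ?_
  rw [hd]
  have : m ≤ n := hm
  exact_mod_cast this

end Dim


section LocConst

variable {X Y : Scheme.{u}} (f : X ⟶ Y) [IsProper f] [LocallyOfFinitePresentation f]
  (F : X.Modules)

omit [IsProper f] in
theorem height_ne_top [QuasiCompact f] (y : Y) (z : f.fiber y) : Order.height z ≠ ⊤ := by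
  intro h
  have h1 := dim_closure_eq_height f y z
  have h2 : topologicalKrullDim ↥(closure ({z} : Set ↥(f.fiber y))) < ⊤ :=
    lt_of_le_of_lt (topologicalKrullDim_subspace_le _ _) (fiber_dim_lt_top f y)
  rw [h1, h] at h2
  exact lt_irrefl _ h2

set_option maxHeartbeats 1000000 in
/-- **EGA IV 12.2.1 (v)-type** (S4969 form): `y ↦ dim Supp F_y` is locally constant -/
theorem isLocallyConstant_dim_sig (hF : CohB1.IsFP F) (hflat : FlatMod.IsFlatOver f F) :
    IsLocallyConstant (fun y : Y => topologicalKrullDim ↥(Sig f F y)) := by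
  rw [IsLocallyConstant.iff_exists_open]
  intro y₀
  by_cases hemp : Sig f F y₀ = ∅
  · -- empty support
    refine ⟨(f.base '' FibSupp f F)ᶜ,
      (f.isClosedMap _ (isClosed_fibSupp f F hF)).isOpen_compl, ?_, ?_⟩
    · rintro ⟨x, hxS, hxy⟩
      obtain ⟨z, rfl⟩ := exists_fiber_point f hxy
      have : z ∈ Sig f F y₀ := (mem_sig_iff f F y₀ z).mpr hxS
      rw [hemp] at this
      exact this
    · intro y hy
      have hy' : Sig f F y = ∅ := by
        ext z
        simp only [Set.mem_empty_iff_false, iff_false]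
        intro hz
        exact hy ⟨f.fiberι y z, (mem_sig_iff f F y z).mp hz, base_fiberι f y z⟩
      show topologicalKrullDim ↥(Sig f F y) = topologicalKrullDim ↥(Sig f F y₀)
      rw [dim_sig_eq f F hF y, dim_sig_eq f F hF y₀]
      haveI : IsEmpty ↥(Sig f F y) := Set.isEmpty_coe_sort.mpr hy'
      haveI : IsEmpty ↥(Sig f F y₀) := Set.isEmpty_coe_sort.mpr hemp
      rw [iSup_of_empty, iSup_of_empty]
  · -- nonempty support
    obtain ⟨a₀, ha₀⟩ := Set.nonempty_iff_ne_empty.mpr hemp
    have hfin : topologicalKrullDim ↥(Sig f F y₀) < ⊤ :=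
      lt_of_le_of_lt (topologicalKrullDim_subspace_le _ _) (fiber_dim_lt_top f y₀)
    have hnn : 0 ≤ topologicalKrullDim ↥(Sig f F y₀) := by
      refine le_trans ?_ (height_le_dim_sig f F hF y₀ ha₀)
      exact WithBot.coe_le_coe.mpr zero_le
    obtain ⟨n, hn⟩ := lift_nat_of_lt_top hnn hfin
    -- the two open sets
    have hU₁ : IsOpen {y : Y | ∀ z : f.fiber y, ∀ z' : f.fiber y,
        z ∈ closure ({z'} : Set ↥(f.fiber y)) → FibAssQ f F (Set.Iic n) y z'} :=
      isOpen_forall_fiber f f.isClosedMap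
        (fun y z => ∀ z' : f.fiber y, z ∈ closure ({z'} : Set ↥(f.fiber y)) →
          FibAssQ f F (Set.Iic n) y z') (isOpen_fibAssDimIn f F hF hflat (Set.Iic n))
    have hU₂ : IsOpen (f.base '' (AssDimLocus f F (Set.Ici n) ∩ FibSupp f F)) :=
      isOpen_image_inter_fibSupp f F hF hflat _ (isOpen_assDimLocus f F hF hflat (Set.Ici n))
    refine ⟨_, hU₁.inter hU₂, ⟨?_, ?_⟩, ?_⟩
    · -- y₀ ∈ U₁
      intro z z' _ hass
      have hz'S := ass_subset_sig f F y₀ hass
      have hle := height_le_dim_sig f F hF y₀ hz'S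
      rw [hn] at hle
      have hle' : Order.height z' ≤ (n : ℕ∞) := by exact_mod_cast hle
      have hne : Order.height z' ≠ ⊤ := ne_top_of_le_ne_top (ENat.natCast_ne_top n) hle'
      obtain ⟨m, hm⟩ := ENat.ne_top_iff_exists.mp hne
      refine ⟨m, ?_, ?_⟩
      · show m ≤ n
        rw [← hm] at hle'
        exact_mod_cast hle'
      · rw [dim_closure_eq_height, ← hm]
        rfl
    · -- y₀ ∈ U₂
      have hex : ∃ a ∈ Sig f F y₀, (n : ℕ∞) ≤ Order.height a := by
        rcases Nat.eq_zero_or_pos n with h0 | hpos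
        · exact ⟨a₀, ha₀, by rw [h0]; exact zero_le⟩
        · have hlt : (((n - 1 : ℕ) : ℕ∞) : WithBot ℕ∞) < topologicalKrullDim ↥(Sig f F y₀) := by
            rw [hn]
            have : n - 1 < n := by omega
            exact_mod_cast this
          rw [dim_sig_eq f F hF y₀, lt_iSup_iff] at hlt
          obtain ⟨a, ha⟩ := hlt
          refine ⟨a, a.2, ?_⟩
          have ha' : ((n - 1 : ℕ) : ℕ∞) < Order.height (a : f.fiber y₀) := by exact_mod_cast ha
          have h1 := Order.add_one_le_of_lt ha'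
          have h2 : ((n - 1 : ℕ) : ℕ∞) + 1 = (n : ℕ∞) := by
            have : n - 1 + 1 = n := by omega
            exact_mod_cast this
          rwa [h2] at h1
      obtain ⟨a, haS, han⟩ := hex
      obtain ⟨z₀, hz₀, hsp⟩ := exists_ass_specializes f F hF y₀ haS
      have hz₀n : (n : ℕ∞) ≤ Order.height z₀ :=
        han.trans (height_mono_of_specializes f y₀ hsp)
      refine ⟨f.fiberι y₀ z₀, ⟨?_, (mem_sig_iff f F y₀ z₀).mp (ass_subset_sig f F y₀ hz₀)⟩,
        base_fiberι f y₀ z₀⟩
      rw [fiberι_mem_assDimLocus_iff]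
      intro z' hsp' _
      have hz'n : (n : ℕ∞) ≤ Order.height z' :=
        hz₀n.trans (height_mono_of_specializes f y₀ hsp')
      obtain ⟨m, hm⟩ := ENat.ne_top_iff_exists.mp (height_ne_top f y₀ z')
      refine ⟨m, ?_, ?_⟩
      · show n ≤ m
        rw [← hm] at hz'n
        exact_mod_cast hz'n
      · rw [dim_closure_eq_height, ← hm]
        rfl
    · -- constancy
      rintro y ⟨hy₁, ⟨x, ⟨hxO, hxS⟩, rfl⟩⟩
      show topologicalKrullDim ↥(Sig f F (f.base x)) = topologicalKrullDim ↥(Sig f F y₀)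
      rw [hn]
      apply le_antisymm
      · exact dim_sig_le_of_forall_ass f F hF (f.base x) n
          (fun z' => hy₁ z' z' (subset_closure rfl))
      · have hzS : f.asFiber x ∈ Sig f F (f.base x) := (asFiber_mem_sig_iff f F x).mpr hxS
        obtain ⟨z₀, hz₀, hsp⟩ := exists_ass_specializes f F hF (f.base x) hzS
        obtain ⟨m, hm, hd⟩ := hxO z₀ (specializes_iff_mem_closure.mp hsp) hz₀
        rw [dim_closure_eq_height] at hd
        have h1 := height_le_dim_sig f F hF (f.base x) (ass_subset_sig f F (f.base x) hz₀)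
        rw [hd] at h1
        refine le_trans ?_ h1
        have : n ≤ m := hm
        exact_mod_cast this

end LocConst


section NoEmbDims

variable {X Y : Scheme.{u}} (f : X ⟶ Y) [IsProper f] [LocallyOfFinitePresentation f]
  (F : X.Modules)

set_option maxHeartbeats 1000000 in
/-- **EGA IV 12.2.1 (iii)-type** (S4966 form) -/
theorem isOpen_noEmb_compDims_eq (hF : CohB1.IsFP F) (hflat : FlatMod.IsFlatOver f F)
    (Φ : Finset ℕ) :
    IsOpen {y : Y | AssSch.NoEmbedded ((Scheme.Modules.pullback (f.fiberι y)).obj F) ∧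
      (fun Z : Set ↥(Sig f F y) => topologicalKrullDim ↥Z) '' irreducibleComponents ↥(Sig f F y) =
        (fun n : ℕ => (n : WithBot ℕ∞)) '' (Φ : Set ℕ)} := by
  have hA : IsOpen {y : Y | ∀ t : f.fiber y,
      ∀ z ∈ AssSch.Ass ((Scheme.Modules.pullback (f.fiberι y)).obj F), t ∈ closure {z} →
      ∀ z' ∈ AssSch.Ass ((Scheme.Modules.pullback (f.fiberι y)).obj F),
        z ∈ closure {z'} → z' = z} :=
    isOpen_forall_fiber f f.isClosedMap
      (fun y t => ∀ z ∈ AssSch.Ass ((Scheme.Modules.pullback (f.fiberι y)).obj F),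
        t ∈ closure {z} → ∀ z' ∈ AssSch.Ass ((Scheme.Modules.pullback (f.fiberι y)).obj F),
          z ∈ closure {z'} → z' = z) (isOpen_fibNoEmb f F hF hflat)
  have hB : IsOpen {y : Y | ∀ t : f.fiber y, ∀ z' : f.fiber y,
      t ∈ closure ({z'} : Set ↥(f.fiber y)) → FibAssQ f F (Φ : Set ℕ) y z'} :=
    isOpen_forall_fiber f f.isClosedMap
      (fun y t => ∀ z' : f.fiber y, t ∈ closure ({z'} : Set ↥(f.fiber y)) →
        FibAssQ f F (Φ : Set ℕ) y z') (isOpen_fibAssDimIn f F hF hflat (Φ : Set ℕ))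
  have hC := isOpen_compDims_superset f F hF hflat Φ
  convert (hA.inter hB).inter hC using 1
  ext y
  constructor
  · rintro ⟨hne, himg⟩
    refine ⟨⟨?_, ?_⟩, ?_⟩
    · intro t z hz _ z' hz' hzz'
      exact (hne z hz z' hz' (specializes_iff_mem_closure.mpr hzz')).symm
    · intro t z' _ hass
      have hz'S := ass_subset_sig f F y hass
      obtain ⟨Z, hZ, ζ, hζS, hsp, hmax, hdimZ⟩ :=
        exists_irreducibleComponent_of_mem (isClosed_sig f F hF y) hz'S
      have hζass := mem_ass_of_maximal f F hF y hζS hmax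
      have hzζ : z' = ζ := hne z' hass ζ hζass hsp
      have hmem : topologicalKrullDim ↥Z ∈
          (fun Z : Set ↥(Sig f F y) => topologicalKrullDim ↥Z) ''
            irreducibleComponents ↥(Sig f F y) := ⟨Z, hZ, rfl⟩
      rw [himg] at hmem
      obtain ⟨n, hn, hnd⟩ := hmem
      refine ⟨n, hn, ?_⟩
      rw [hzζ, dim_closure_eq_height, ← hdimZ]
      exact hnd.symm
    · intro n hn
      have hmem : (n : WithBot ℕ∞) ∈ (fun n : ℕ => (n : WithBot ℕ∞)) '' (Φ : Set ℕ) :=
        ⟨n, hn, rfl⟩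
      rw [← himg] at hmem
      obtain ⟨Z, hZ, hd⟩ := hmem
      exact ⟨Z, hZ, hd⟩
  · rintro ⟨⟨hA', hB'⟩, hC'⟩
    refine ⟨?_, ?_⟩
    · intro x hx y' hy' hsp
      exact (hA' x x hx (subset_closure rfl) y' hy' (specializes_iff_mem_closure.mp hsp)).symm
    · ext d
      constructor
      · rintro ⟨Z, hZ, rfl⟩
        obtain ⟨ζ, hZeq, hmax, hdimZ⟩ :=
          exists_genericPoint_of_mem_irreducibleComponents (isClosed_sig f F hF y) Z hZ
        have hζass := mem_ass_of_maximal f F hF y ζ.2 hmax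
        obtain ⟨n, hn, hd⟩ := hB' ζ ζ (subset_closure rfl) hζass
        refine ⟨n, hn, ?_⟩
        rw [dim_closure_eq_height] at hd
        show (n : WithBot ℕ∞) = topologicalKrullDim ↥Z
        rw [hdimZ, hd]
      · rintro ⟨n, hn, rfl⟩
        obtain ⟨Z, hZ, hd⟩ := hC' n hn
        exact ⟨Z, hZ, hd⟩

end NoEmbDims

end Groth.Agent.Lib.FibSuppH5
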