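/-
helper5: the set of dimensions of the irreducible components of the supports of the fibre modules is a
constructible relation (EGA IV 9.8.5-type); S5875 via helper2's `main5878`.
APPEND-ONLY once landed.
-/
import Mathlib
import Groth.Agent.Lib.FibAssCyc2_helper5
import Groth.Agent.Lib.FibSupp5_helper5
import Groth.Agent.Lib.SuppTens2_helper8
import Groth.Agent.Lib.SuppFT_helper9

set_option autoImplicit false

namespace Groth.Agent.Lib.FibAssCycH5

open AlgebraicGeometry CategoryTheory TopologicalSpace Topology TensorProduct Limits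
open Groth.Agent.Lib.FibSkH5 Groth.Agent.Lib.FibAssH5 Groth.Agent.Lib.FibNoEmbH5
  Groth.Agent.Lib.FibSuppH5

universe u

section Top

/-- the dimensions of the irreducible components of a closed subset of a scheme are the dimensions of the
closures of its maximal points -/
theorem image_irreducibleComponents_eq {T : Scheme.{u}} {S : Set T} (hS : IsClosed S) :
    (fun Z : Set ↥S => topologicalKrullDim ↥Z) '' irreducibleComponents ↥S =
      {d | ∃ ζ ∈ S, (∀ w ∈ S, w ⤳ ζ → w = ζ) ∧
        topologicalKrullDim ↥(closure ({ζ} : Set T)) = d} := by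
  ext d
  constructor
  · rintro ⟨Z, hZ, rfl⟩
    obtain ⟨ζ, -, hmax, hdim⟩ := exists_genericPoint_of_mem_irreducibleComponents hS Z hZ
    refine ⟨ζ, ζ.2, hmax, ?_⟩
    rw [Groth.Agent.ClosHtH8.topologicalKrullDim_closure_singleton]
    exact hdim.symm
  · rintro ⟨ζ, hζ, hmax, rfl⟩
    obtain ⟨Z, hZ, ζ', hζ'S, hsp, -, hdim⟩ := exists_irreducibleComponent_of_mem hS hζ
    have : ζ' = ζ := hmax ζ' hζ'S hsp
    subst this
    refine ⟨Z, hZ, ?_⟩
    show topologicalKrullDim ↥Z = _
    rw [Groth.Agent.ClosHtH8.topologicalKrullDim_closure_singleton]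
    exact hdim

end Top

section Dims

/-- the set of dimensions of the irreducible components of the support of a module -/
def compDims {Y : Scheme.{u}} (G : Y.Modules) : Set (WithBot ℕ∞) :=
  (fun Z : Set ↥(CohB1.support G) => topologicalKrullDim ↥Z) ''
    irreducibleComponents ↥(CohB1.support G)

theorem compDims_eq_of_support_eq {Y : Scheme.{u}} {M N : Y.Modules}
    (h : CohB1.support M = CohB1.support N) : compDims M = compDims N := by
  unfold compDims
  rw [h]

theorem support_eq_of_iso {Y : Scheme.{u}} {M N : Y.Modules} (α : M ≅ N) :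
    CohB1.support M = CohB1.support N := by
  ext y
  show ¬ Subsingleton (M.presheaf.stalk y) ↔ ¬ Subsingleton (N.presheaf.stalk y)
  rw [not_iff_not]
  exact (CohDevH8.stalkEquivOfIso α y).toEquiv.subsingleton_congr

set_option maxHeartbeats 1000000 in
/-- the set of dimensions of the irreducible components of the support is invariant under extension of the
base field -/
theorem compDims_pullback_eq {Y Y' T T' : Scheme.{u}} (g : Y ⟶ T) (g' : Y' ⟶ T')
    (e : Y' ⟶ Y) (h : T' ⟶ T)
    [IsIntegral T] [Subsingleton T] [IsIntegral T'] [Subsingleton T'] [LocallyOfFiniteType g]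
    (sq : IsPullback e g' g h) (F : Y.Modules) [F.IsQuasicoherent]
    [SheafOfModules.IsFiniteType (R := Y.ringCatSheaf) F] :
    compDims ((Scheme.Modules.pullback e).obj F) = compDims F := by
  have he := Groth.Agent.Lib.ConsPairH7.fpqc_of_isPullback sq
    (Groth.Agent.Lib.ConsPairH7.fpqc_of_subsingleton h)
  haveI : Surjective e := he.1.1
  haveI : Flat e := he.1.2
  haveI : IsNoetherian T := Groth.Agent.Lib.ConsPropH7.isNoetherian_of_subsingleton T
  haveI : IsNoetherian T' := Groth.Agent.Lib.ConsPropH7.isNoetherian_of_subsingleton T'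
  haveI : IsLocallyNoetherian Y := LocallyOfFiniteType.isLocallyNoetherian g
  haveI : LocallyOfFiniteType g' := MorphismProperty.of_isPullback sq inferInstance
  haveI : IsLocallyNoetherian Y' := LocallyOfFiniteType.isLocallyNoetherian g'
  have hfib : ∀ y' : Y', LocCoh.IsCohenMacaulayLocalRing
      ((e.fiber (e y')).presheaf.stalk (e.asFiber y')) := fun y' =>
    isCM_fiber_of_fieldSquare g g' e h sq (e y') (e.asFiber y')
  have hS : IsClosed (CohB1.support F) := SuppFT.isClosed_support F
  have hsupp : CohB1.support ((Scheme.Modules.pullback e).obj F) = e.base ⁻¹' CohB1.support F :=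
    SuppTensH8.support_pullback e F
  have hS' : IsClosed (CohB1.support ((Scheme.Modules.pullback e).obj F)) := by
    rw [hsupp]; exact hS.preimage e.base.hom.continuous
  unfold compDims
  rw [image_irreducibleComponents_eq hS, image_irreducibleComponents_eq hS']
  ext d
  constructor
  · rintro ⟨w, hw, hmax, rfl⟩
    rw [hsupp] at hw hmax
    have hm : MaxInFib e w := fun z hz hsp =>
      hmax z (by show e.base z ∈ CohB1.support F; rw [hz]; exact hw) hsp
    refine ⟨e.base w, hw, ?_, (dim_closure_eq_of_maxInFib g g' e h sq w hm).symm⟩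
    intro y₁ hy₁ hsp
    obtain ⟨w₁, hw₁, hew₁⟩ := (Flat.generalizingMap e) hsp
    have : w₁ = w := hmax w₁ (by show e.base w₁ ∈ CohB1.support F; rw [hew₁]; exact hy₁) hw₁
    rw [← hew₁, this]
  · rintro ⟨ζ, hζ, hmax, rfl⟩
    obtain ⟨w₀, rfl⟩ := e.surjective ζ
    obtain ⟨w, -, hew, hm⟩ := exists_maxInFib_specializes e hfib w₀
    refine ⟨w, ?_, ?_, ?_⟩
    · rw [hsupp]; show e.base w ∈ CohB1.support F; rw [hew]; exact hζ
    · intro w₁ hw₁ hsp
      rw [hsupp] at hw₁
      have h1 : e.base w₁ = e.base w₀ := hmax _ hw₁ (by rw [← hew]; exact hsp.map e.continuous)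
      exact hm w₁ (h1.trans hew.symm) hsp
    · rw [dim_closure_eq_of_maxInFib g g' e h sq w hm, hew]

end Dims

section Generic

section Crit3

variable {X Y : Scheme.{u}} (f : X ⟶ Y) [LocallyOfFinitePresentation f] (F : X.Modules)

omit [LocallyOfFinitePresentation f] in
theorem support_fiber_eq_sig (s : Y) :
    CohB1.support ((Scheme.Modules.pullback (f.fiberι s)).obj F) = Sig f F s := by
  ext z
  exact not_subsingleton_iff_nontrivial

omit [LocallyOfFinitePresentation f] in
theorem compDims_fiber_eq (s : Y) :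
    compDims ((Scheme.Modules.pullback (f.fiberι s)).obj F) =
      (fun Z : Set ↥(Sig f F s) => topologicalKrullDim ↥Z) ''
        irreducibleComponents ↥(Sig f F s) := by
  unfold compDims
  rw [support_fiber_eq_sig]

set_option maxHeartbeats 1000000 in
/-- fibrewise criterion: the dimensions of the irreducible components of `Supp F_s` lie in `Ψ` -/
theorem compDims_fiber_subset_iff [QuasiCompact f] (hF : CohB1.IsFP F) (s : Y) (Ψ : Set ℕ) :
    compDims ((Scheme.Modules.pullback (f.fiberι s)).obj F) ⊆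
        (fun n : ℕ => (n : WithBot ℕ∞)) '' Ψ ↔
      ∀ x : X, f.base x = s → ∀ n : ℕ, n ∉ Ψ → x ∉ AssDimLocus f F {n} ∩ FibSupp f F := by
  rw [compDims_fiber_eq]
  constructor
  · intro h x hx n hn hmem
    have hs : s ∈ f.base '' (AssDimLocus f F {n} ∩ FibSupp f F) := ⟨x, hmem, hx⟩
    rw [← compDim_set_eq f F hF n] at hs
    obtain ⟨Z, hZ, hdim⟩ := hs
    obtain ⟨m, hm, hmn⟩ := h ⟨Z, hZ, rfl⟩
    have hmn' : ((m : ℕ) : WithBot ℕ∞) = (n : WithBot ℕ∞) := hmn.trans hdim
    have : m = n := by exact_mod_cast hmn'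
    exact hn (this ▸ hm)
  · rintro h _ ⟨Z, hZ, rfl⟩
    obtain ⟨ζ, -, -, hdimZ⟩ :=
      exists_genericPoint_of_mem_irreducibleComponents (isClosed_sig f F hF s) Z hZ
    have hne := height_ne_top f s (ζ : f.fiber s)
    obtain ⟨n, hn⟩ := ENat.ne_top_iff_exists.mp hne
    have hdim : topologicalKrullDim ↥Z = (n : WithBot ℕ∞) := by
      rw [hdimZ, ← hn]; rfl
    by_contra hcon
    have hnΨ : n ∉ Ψ := fun hmem => hcon ⟨n, hmem, hdim.symm⟩
    have hs : s ∈ {y : Y | ∃ Z ∈ irreducibleComponents ↥(Sig f F y),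
        topologicalKrullDim ↥Z = (n : WithBot ℕ∞)} := ⟨Z, hZ, hdim⟩
    rw [compDim_set_eq f F hF n] at hs
    obtain ⟨x, hx, hxs⟩ := hs
    exact h x hxs n hnΨ hx

end Crit3

set_option maxHeartbeats 1000000 in
/-- over an integral noetherian base, the condition "the dimensions of the irreducible components of
`Supp F_s` lie in `Ψ`" is constant on a neighbourhood of the generic point -/
theorem exists_open_compDims_subset_const {X S : Scheme.{u}} [IsIntegral S] [IsNoetherian S]
    (f : X ⟶ S) [LocallyOfFiniteType f] [QuasiCompact f]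
    (F : X.Modules) [Coh.IsQCoh F] (hF : CohB1.IsFP F) (U₀ : S.Opens)
    (hηU₀ : genericPoint S ∈ U₀)
    (hflat : ∀ x : X, f.base x ∈ U₀ → FlatMod.IsFlatOverAt f F x) (Ψ : Set ℕ) :
    ∃ U : Set S, IsOpen U ∧ genericPoint S ∈ U ∧ ∀ s ∈ U,
      (compDims ((Scheme.Modules.pullback (f.fiberι s)).obj F) ⊆
          (fun n : ℕ => (n : WithBot ℕ∞)) '' Ψ ↔
        compDims ((Scheme.Modules.pullback (f.fiberι (genericPoint S))).obj F) ⊆
          (fun n : ℕ => (n : WithBot ℕ∞)) '' Ψ) := by
  classical
  haveI : IsLocallyNoetherian X := LocallyOfFiniteType.isLocallyNoetherian f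
  haveI : CompactSpace X := QuasiCompact.compactSpace_of_compactSpace f
  haveI : IsNoetherian X := {}
  haveI : LocallyOfFinitePresentation f :=
    LocallyOfFinitePresentation.iff_locallyOfFiniteType.mpr inferInstance
  have hO : IsOpen (⋃ n ∈ {n : ℕ | n ∉ Ψ}, (AssDimLocus f F {n} ∩ f.base ⁻¹' (U₀ : Set S))) :=
    isOpen_biUnion (fun n _ => isOpen_fibAssDimIn_inter f F hF U₀ hflat {n})
  have hcl : IsClosed (FibSupp f F) := isClosed_fibSupp f F hF
  have hBcons : IsConstructible
      ((⋃ n ∈ {n : ℕ | n ∉ Ψ}, (AssDimLocus f F {n} ∩ f.base ⁻¹' (U₀ : Set S))) ∩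
        FibSupp f F) := by
    have h1 : IsConstructible
        (⋃ n ∈ {n : ℕ | n ∉ Ψ}, (AssDimLocus f F {n} ∩ f.base ⁻¹' (U₀ : Set S))) :=
      (NoetherianSpace.isCompact _).isConstructible hO
    have h2 : IsConstructible (FibSupp f F) := by
      have h3 := ((NoetherianSpace.isCompact _).isConstructible hcl.isOpen_compl).compl
      rwa [compl_compl] at h3
    exact h1.inter h2
  have hT : IsConstructible
      (f '' ((⋃ n ∈ {n : ℕ | n ∉ Ψ}, (AssDimLocus f F {n} ∩ f.base ⁻¹' (U₀ : Set S))) ∩
        FibSupp f F)) :=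
    Scheme.Hom.isConstructible_image f hBcons
  have hQ : ∀ s : S, s ∈ U₀ →
      (compDims ((Scheme.Modules.pullback (f.fiberι s)).obj F) ⊆
          (fun n : ℕ => (n : WithBot ℕ∞)) '' Ψ ↔
        s ∉ f '' ((⋃ n ∈ {n : ℕ | n ∉ Ψ},
          (AssDimLocus f F {n} ∩ f.base ⁻¹' (U₀ : Set S))) ∩ FibSupp f F)) := by
    intro s hs
    rw [compDims_fiber_subset_iff f F hF s Ψ]
    constructor
    · rintro h ⟨x, ⟨hxO, hxS⟩, hxs⟩
      obtain ⟨n, hn, hxn⟩ := Set.mem_iUnion₂.mp hxO
      exact h x hxs n hn ⟨hxn.1, hxS⟩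
    · intro h x hx n hn hmem
      apply h
      refine ⟨x, ⟨Set.mem_iUnion₂.mpr ⟨n, hn, hmem.1, ?_⟩, hmem.2⟩, hx⟩
      show f.base x ∈ (U₀ : Set S)
      rw [hx]; exact hs
  exact exists_open_const_of_isConstructible (genericPoint_spec S) hT U₀.2 hηU₀
    (fun s => compDims ((Scheme.Modules.pullback (f.fiberι s)).obj F) ⊆
      (fun n : ℕ => (n : WithBot ℕ∞)) '' Ψ) hQ

set_option maxHeartbeats 1000000 in
/-- "the set of dimensions of the irreducible components of the support is `Φ`" is a constructible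
relation -/
theorem isConsMod_compDims (Φ : Finset ℕ) :
    ConsProp.IsConsMod.{u} (fun Y T g G =>
      compDims G = (fun n : ℕ => (n : WithBot ℕ∞)) '' (Φ : Set ℕ)) := by
  refine ⟨?_, ?_⟩
  · intro Y Y' T T' g g' e h _ _ _ _ _ _ sq F F' hF α
    haveI : F.IsQuasicoherent := hF.1
    haveI : SheafOfModules.IsFiniteType (R := Y.ringCatSheaf) F := hF.2
    show compDims F = _ ↔ compDims F' = _
    rw [compDims_eq_of_support_eq (support_eq_of_iso α), compDims_pullback_eq g g' e h sq F]
  · intro X S f _ _ _ _ F hF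
    classical
    haveI hq : F.IsQuasicoherent := hF.1
    haveI : Coh.IsQCoh F := hF.1
    haveI : SheafOfModules.IsFiniteType (R := X.ringCatSheaf) F := hF.2
    haveI : IsLocallyNoetherian X := LocallyOfFiniteType.isLocallyNoetherian f
    haveI : CompactSpace X := QuasiCompact.compactSpace_of_compactSpace f
    haveI : IsNoetherian X := {}
    have hfp : CohB1.IsFP F := FLFH8.isFinitePresentation_of_isCoh F
    obtain ⟨U₀, ⟨s₀, hs₀⟩, hfl⟩ := GenFlatSchH8.generic_flat f F
    have hηU₀ : genericPoint S ∈ U₀ := (genericPoint_specializes s₀).mem_open U₀.2 hs₀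
    exact generic_dichotomy (genericPoint S)
      (fun s => compDims ((Scheme.Modules.pullback (f.fiberι s)).obj F))
      (fun Ψ => exists_open_compDims_subset_const f F hfp U₀ hηU₀ hfl Ψ) Φ

/-- **S5875** -/
theorem main5875 {X S : Scheme.{u}} (f : X ⟶ S)
    [LocallyOfFinitePresentation f] [QuasiCompact f] [QuasiSeparated f]
    (F : X.Modules) [Coh.IsQCoh F] (hF : CohB1.IsFP F) (Φ : Finset ℕ) :
    Topology.IsLocallyConstructible {s : S |
      (fun Z : Set ↥(CohB1.support ((Scheme.Modules.pullback (f.fiberι s)).obj F)) =>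
          topologicalKrullDim ↥Z) ''
          irreducibleComponents ↥(CohB1.support ((Scheme.Modules.pullback (f.fiberι s)).obj F)) =
        (fun n : ℕ => (n : WithBot ℕ∞)) '' (Φ : Set ℕ)} :=
  Groth.Agent.Lib.ConsModH2.main5878 (isConsMod_compDims Φ) f F hF

end Generic

end Groth.Agent.Lib.FibAssCycH5
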