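/-
helper5: ring-level ingredients for "geometrically reduced fibres" (EGA IV 12.1.1 (vii)):
Serre's criterion R_0 + S_1 for reducedness, reduced => S_1, depth-zero reduced local rings are fields,
geometric reducedness passes to localizations.  APPEND-ONLY once landed.
-/
import Mathlib
import Groth.Prelude.Def_CAlg
import Groth.Agent.Lib.SerreNormal_helper5
import Groth.Agent.Lib.SmoothRegField_helper3

set_option autoImplicit false
universe u

namespace Groth.Agent.Lib.FibGRedH5

open IsLocalRing TensorProduct

/-- in a reduced noetherian ring every associated prime is minimal -/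
theorem mem_minimalPrimes_of_mem_associatedPrimes (R : Type u) [CommRing R] [IsNoetherianRing R]
    [IsReduced R]
    (P : Ideal R) (hP : P ∈ associatedPrimes R R) : P ∈ minimalPrimes R := by
  obtain ⟨hPprime, x, hx⟩ := isAssociatedPrime_iff.1 hP
  have hx0 : x ≠ 0 := by
    rintro rfl
    apply hPprime.ne_top
    rw [hx, Ideal.eq_top_iff_one, Submodule.mem_colon_singleton]
    simp
  -- `x` is not nilpotent, so it avoids some minimal prime `q`
  have hxnil : x ∉ nilradical R := by
    rw [nilradical_eq_zero]
    exact hx0
  have hsInf : nilradical R = sInf (minimalPrimes R) := by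
    change nilradical R = sInf (⊥ : Ideal R).minimalPrimes
    rw [Ideal.sInf_minimalPrimes]
    exact (Ideal.radical_bot_of_isReduced (R := R)).symm ▸ (nilradical_eq_zero R)
  rw [hsInf, Submodule.mem_sInf] at hxnil
  push Not at hxnil
  obtain ⟨q, hq, hxq⟩ := hxnil
  have hPq : P ≤ q := by
    intro a ha
    rw [hx, Submodule.mem_colon_singleton, Submodule.mem_bot, smul_eq_mul] at ha
    have : a * x ∈ q := by rw [ha]; exact zero_mem _
    exact (hq.1.1.mem_or_mem this).resolve_right hxq
  have hqP : q ≤ P := hq.2 ⟨hPprime, bot_le⟩ hPq
  have hqeq : q = P := le_antisymm hqP hPq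
  rw [← hqeq]
  exact hq

/-- a reduced noetherian ring satisfies `(S_1)` -/
theorem hasSk_one_of_isReduced (R : Type u) [CommRing R] [IsNoetherianRing R] [IsReduced R] :
    LocCoh.HasSk 1 R R := by
  intro p hp
  rw [Groth.Agent.DepthLib.supportDim_locSelf]
  by_cases h1 : 1 ≤ LocCoh.depth (Localization.AtPrime p) (LocalizedModule p.primeCompl R)
  · refine (min_le_left _ _).trans ?_
    exact_mod_cast h1
  · have hass := (Groth.Agent.DepthLib.not_one_le_depth_localization_iff R p).1 h1
    have hmin := mem_minimalPrimes_of_mem_associatedPrimes R p hass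
    have hht : p.height = 0 := Ideal.height_eq_zero_iff.mpr hmin
    rw [hht]
    refine (min_le_right _ _).trans ?_
    exact_mod_cast (bot_le : (0 : ℕ∞) ≤ _)

/-- Serre's criterion `R_0 + S_1`: a noetherian ring with `(S_1)` whose localizations at the minimal
primes are reduced is reduced. -/
theorem isReduced_of_S1_of_minimal (R : Type u) [CommRing R] [IsNoetherianRing R]
    (h1 : LocCoh.HasSk 1 R R)
    (h0 : ∀ (P : Ideal R) [P.IsPrime], P ∈ minimalPrimes R → IsReduced (Localization.AtPrime P)) :
    IsReduced R := by
  constructor
  intro x hxnil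
  by_contra hx
  obtain ⟨P, hP, hle⟩ := exists_le_isAssociatedPrime_of_isNoetherianRing R x hx
  haveI : P.IsPrime := hP.isPrime
  have hd : ¬ 1 ≤ LocCoh.depth (Localization.AtPrime P) (LocalizedModule P.primeCompl R) :=
    (Groth.Agent.DepthLib.not_one_le_depth_localization_iff R P).2 hP
  have hd0 : LocCoh.depth (Localization.AtPrime P) (LocalizedModule P.primeCompl R) = 0 := by
    by_contra hne
    exact hd (Order.one_le_iff_pos.mpr (pos_iff_ne_zero.mpr hne))
  have h1P := h1 P
  rw [hd0, Groth.Agent.DepthLib.supportDim_locSelf] at h1P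
  have hht : P.height = 0 := by
    rcases min_le_iff.1 h1P with h | h
    · exact absurd h (by norm_num)
    · have : P.height ≤ 0 := by exact_mod_cast h
      exact le_antisymm this bot_le
  haveI := h0 P (Ideal.height_eq_zero_iff.mp hht)
  have hnil : IsNilpotent (algebraMap R (Localization.AtPrime P) x) := hxnil.map _
  have hz : algebraMap R (Localization.AtPrime P) x = 0 := hnil.eq_zero
  rw [IsLocalization.map_eq_zero_iff P.primeCompl] at hz
  obtain ⟨s, hs⟩ := hz
  apply s.2
  apply hle
  rw [Submodule.mem_colon_singleton, Submodule.mem_bot, smul_eq_mul]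
  exact hs

/-- a reduced noetherian local ring of depth zero is a field -/
theorem isField_of_isReduced_of_not_one_le_depth (S : Type u) [CommRing S] [IsLocalRing S]
    [IsNoetherianRing S] [IsReduced S] (h : ¬ 1 ≤ LocCoh.depth S S) : IsField S := by
  unfold LocCoh.depth at h
  obtain ⟨Q, hQ, hmQ⟩ := Groth.Agent.DepthLib.exists_associatedPrime_of_not_one_le _ _ h
  haveI := hQ.isPrime
  have hQm : Q = maximalIdeal S :=
    le_antisymm (IsLocalRing.le_maximalIdeal hQ.isPrime.ne_top) hmQ
  have hmin : maximalIdeal S ∈ minimalPrimes S := by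
    rw [← hQm]
    exact mem_minimalPrimes_of_mem_associatedPrimes S Q hQ
  rw [IsLocalRing.isField_iff_maximalIdeal_eq]
  have hle : maximalIdeal S ≤ nilradical S := by
    rw [nilradical_eq_sInf]
    apply le_sInf
    intro p hp
    haveI : p.IsPrime := hp
    exact hmin.2 ⟨hp, bot_le⟩ (IsLocalRing.le_maximalIdeal hp.ne_top)
  rw [nilradical_eq_zero] at hle
  exact le_antisymm hle bot_le

/-- a formally smooth noetherian local algebra of depth zero over a field is a field -/
theorem isField_of_formallySmooth_of_not_one_le_depth {k S : Type u} [Field k] [CommRing S]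
    [IsLocalRing S] [IsNoetherianRing S] [Algebra k S] [Algebra.FormallySmooth k S]
    (h : ¬ 1 ≤ LocCoh.depth S S) : IsField S := by
  haveI : IsRegularLocalRing S :=
    Groth.Agent.Lib.SmoothRegFieldH3.regular_of_formallySmooth_field (k := k)
  haveI : IsDomain S := Groth.Agent.RegularLib.isDomain S
  exact isField_of_isReduced_of_not_one_le_depth S h

/-- the localization at a minimal prime of a noetherian ring has depth zero -/
theorem not_one_le_depth_of_mem_minimalPrimes (R : Type u) [CommRing R] [IsNoetherianRing R]
    (P : Ideal R) [P.IsPrime] (hP : P ∈ minimalPrimes R) :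
    ¬ 1 ≤ LocCoh.depth (Localization.AtPrime P) (Localization.AtPrime P) := by
  rw [← Groth.Agent.DepthLib.depth_locSelf]
  apply (Groth.Agent.DepthLib.not_one_le_depth_localization_iff R P).2
  apply Module.associatedPrimes.minimalPrimes_annihilator_subset_associatedPrimes
  have : Module.annihilator R R = ⊥ := by
    rw [eq_bot_iff]
    intro a ha
    have := Module.mem_annihilator.mp ha 1
    simpa using this
  rw [this]
  exact hP

/-- geometric reducedness passes to localizations -/
theorem isGeometricallyReduced_of_isLocalization {k R S : Type u} [Field k] [CommRing R]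
    [CommRing S] [Algebra k R] [Algebra k S] [Algebra R S] [IsScalarTower k R S]
    (M : Submonoid R) [IsLocalization M S] [Algebra.IsGeometricallyReduced k R] :
    Algebra.IsGeometricallyReduced k S := by
  rw [Algebra.isGeometricallyReduced_field_iff]
  have hred : IsReduced (AlgebraicClosure k ⊗[k] R) :=
    (Algebra.isGeometricallyReduced_field_iff k R).mp inferInstance
  letI alg : Algebra (AlgebraicClosure k ⊗[k] R) (AlgebraicClosure k ⊗[k] S) :=
    (Algebra.TensorProduct.map (AlgHom.id (AlgebraicClosure k) (AlgebraicClosure k))
      (IsScalarTower.toAlgHom k R S)).toRingHom.toAlgebra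
  haveI : IsScalarTower (AlgebraicClosure k) (AlgebraicClosure k ⊗[k] R)
      (AlgebraicClosure k ⊗[k] S) := IsScalarTower.of_algebraMap_eq' (by
        ext a
        simp [RingHom.algebraMap_toAlgebra, Algebra.TensorProduct.algebraMap_apply])
  haveI := IsLocalization.tensorProduct_tensorProduct_right k (AlgebraicClosure k) M S (by
    ext r
    simp [RingHom.algebraMap_toAlgebra])
  exact isReduced_localizationPreserves
    (M.map (Algebra.TensorProduct.includeRight (R := k) (A := AlgebraicClosure k))) _ hred

end Groth.Agent.Lib.FibGRedH5
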