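import Mathlib
import Groth.Prelude.Def_Curv2
import Groth.Agent.Lib.StalkDict2_helper4

set_option autoImplicit false
set_option linter.style.haveILetI false
set_option linter.unusedSectionVars false
universe u
open scoped TensorProduct
open CategoryTheory CategoryTheory.Limits AlgebraicGeometry

attribute [local instance] Curv2.stalkAlgebra

namespace Groth.Agent.Lib.StalkDict4H4

open Groth.Agent.Lib.FlatPtBCH4 Groth.Agent.Lib.StalkDictH4 Groth.Agent.Lib.StalkDict2H4
  Groth.Agent.Lib.GeomRedInsepH4

theorem flat_of_comp {W Y X : Scheme.{u}} (f : W ⟶ Y) (g : Y ⟶ X) [Flat g] [IsPreimmersion g]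
    [Flat (f ≫ g)] : Flat f := by
  apply Flat.of_stalkMap
  intro y
  haveI := isIso_stalkMap_of_flat_of_isPreimmersion g (f y)
  have h := Flat.stalkMap (f ≫ g) y
  rw [Scheme.Hom.stalkMap_comp] at h
  exact (RingHom.Flat.respectsIso.cancel_left_isIso (g.stalkMap (f y)) (f.stalkMap y)).mp h

theorem reduced_of_flat_preimmersion {W Z : Scheme.{u}} (p : W ⟶ Z) [Flat p] [IsPreimmersion p]
    [IsReduced Z] : IsReduced W := by
  haveI : ∀ w : W, _root_.IsReduced (W.presheaf.stalk w) := fun w => by
    haveI := isIso_stalkMap_of_flat_of_isPreimmersion p w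
    exact isReduced_of_injective (inv (p.stalkMap w)).hom
      ((ConcreteCategory.isIso_iff_bijective _).mp inferInstance).1
  exact isReduced_of_isReduced_stalk W

variable (k : Type u) [Field k] (X : Scheme.{u}) [X.Over (Spec (CommRingCat.of k))]

theorem tensor_reduced_of_specializes (x x' : X) (h : x' ⤳ x) (K : Type u) [Field K]
    [Algebra k K] (hA : _root_.IsReduced (K ⊗[k] X.presheaf.stalk x)) :
    _root_.IsReduced (K ⊗[k] X.presheaf.stalk x') := by
  have hσ : Spec.map (X.presheaf.stalkSpecializes h) ≫ X.fromSpecStalk x = X.fromSpecStalk x' :=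
    Scheme.SpecMap_stalkSpecializes_fromSpecStalk h
  haveI : IsPreimmersion (Spec.map (X.presheaf.stalkSpecializes h) ≫ X.fromSpecStalk x) :=
    hσ ▸ inferInstance
  haveI : Flat (Spec.map (X.presheaf.stalkSpecializes h) ≫ X.fromSpecStalk x) :=
    hσ ▸ inferInstance
  haveI : IsPreimmersion (Spec.map (X.presheaf.stalkSpecializes h)) :=
    IsPreimmersion.of_comp (Spec.map (X.presheaf.stalkSpecializes h)) (X.fromSpecStalk x)
  haveI : Flat (Spec.map (X.presheaf.stalkSpecializes h)) :=
    flat_of_comp (Spec.map (X.presheaf.stalkSpecializes h)) (X.fromSpecStalk x)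
  have hσk : Spec.map (X.presheaf.stalkSpecializes h) ≫
      Spec.map (CommRingCat.ofHom (algebraMap k (X.presheaf.stalk x))) =
      Spec.map (CommRingCat.ofHom (algebraMap k (X.presheaf.stalk x'))) := by
    have e1 := fromSpecStalk_comp k X x
    have e2 := fromSpecStalk_comp k X x'
    exact (congrArg (fun t => Spec.map (X.presheaf.stalkSpecializes h) ≫ t) e1.symm).trans
      ((Category.assoc _ _ _).symm.trans
        ((congrArg (fun t => t ≫ (X ↘ Spec (CommRingCat.of k))) hσ).trans e2))
  haveI hZ : IsReduced (pullback (Spec.map (CommRingCat.ofHom (algebraMap k (X.presheaf.stalk x))))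
      (Spec.map (CommRingCat.ofHom (algebraMap k K)))) := by
    haveI : _root_.IsReduced (X.presheaf.stalk x ⊗[k] K) :=
      isReduced_of_injective (Algebra.TensorProduct.comm k (X.presheaf.stalk x) K)
        (AlgEquiv.injective _)
    haveI : IsReduced (Spec (CommRingCat.of (X.presheaf.stalk x ⊗[k] K))) := inferInstance
    exact isReduced_of_isOpenImmersion (pullbackSpecIso k (X.presheaf.stalk x) K).hom
  haveI hW : IsReduced (pullback (Spec.map (X.presheaf.stalkSpecializes h))
      (pullback.fst (Spec.map (CommRingCat.ofHom (algebraMap k (X.presheaf.stalk x))))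
        (Spec.map (CommRingCat.ofHom (algebraMap k K))))) :=
    reduced_of_flat_preimmersion (pullback.snd (Spec.map (X.presheaf.stalkSpecializes h))
      (pullback.fst (Spec.map (CommRingCat.ofHom (algebraMap k (X.presheaf.stalk x))))
        (Spec.map (CommRingCat.ofHom (algebraMap k K)))))
  haveI hZ' : IsReduced (pullback
      (Spec.map (CommRingCat.ofHom (algebraMap k (X.presheaf.stalk x'))))
      (Spec.map (CommRingCat.ofHom (algebraMap k K)))) :=
    isReduced_of_isOpenImmersion
      ((pullbackRightPullbackFstIso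
        (Spec.map (CommRingCat.ofHom (algebraMap k (X.presheaf.stalk x))))
        (Spec.map (CommRingCat.ofHom (algebraMap k K)))
        (Spec.map (X.presheaf.stalkSpecializes h)) ≪≫
        pullback.congrHom hσk (rfl : Spec.map (CommRingCat.ofHom (algebraMap k K)) = _)).inv)
  haveI : IsReduced (Spec (CommRingCat.of (X.presheaf.stalk x' ⊗[k] K))) :=
    isReduced_of_isOpenImmersion (pullbackSpecIso k (X.presheaf.stalk x') K).inv
  haveI : _root_.IsReduced (X.presheaf.stalk x' ⊗[k] K) :=
    (affine_isReduced_iff (CommRingCat.of (X.presheaf.stalk x' ⊗[k] K))).mp inferInstance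
  exact isReduced_of_injective (Algebra.TensorProduct.comm k K (X.presheaf.stalk x'))
    (AlgEquiv.injective _)

theorem main1542 (x x' : X) (h : x' ⤳ x) (hx : Curv2.IsGeomReducedAt k X x) :
    Curv2.IsGeomReducedAt k X x' := by
  haveI hA : Algebra.IsGeometricallyReduced k (X.presheaf.stalk x) := (main1541 k X x).mp hx
  rw [main1541]
  have t := (main9634 (k := k) (S := X.presheaf.stalk x')).out 2 1
  exact t.mp (fun K _ _ => tensor_reduced_of_specializes k X x x' h K
    (Groth.Agent.Lib.PerfectRed.isReduced_tensor_of_isGeometricallyReduced k _ K))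

end Groth.Agent.Lib.StalkDict4H4
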