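import Mathlib
import Groth.Prelude.Def_Curv2
import Groth.Prelude.Def_FDesc
import Groth.Agent.Lib.StalkDict4_helper4
import Groth.Agent.Lib.GeomRedGenPts_helper4

set_option autoImplicit false
set_option linter.style.haveILetI false
set_option linter.unusedSectionVars false

universe u

open scoped TensorProduct
open CategoryTheory CategoryTheory.Limits AlgebraicGeometry

attribute [local instance] Curv2.stalkAlgebra

namespace Groth.Agent.Lib.GeomRedOpenH4

open Groth.Agent.Lib.StalkDictH4 Groth.Agent.Lib.StalkDict2H4 Groth.Agent.Lib.GeomRedInsepH4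
open Groth.Agent.Lib.GeomRedGenPtsH4

/-- If `A` is Noetherian and `A_p` is reduced, then `A_f` is reduced for some `f ∉ p`. -/
theorem exists_away_isReduced (A : Type u) [CommRing A] [IsNoetherianRing A] (p : Ideal A)
    [hp : p.IsPrime] (S : Type u) [CommRing S] [Algebra A S] [IsLocalization.AtPrime S p]
    [IsReduced S] : ∃ f : A, f ∉ p ∧ IsReduced (Localization.Away f) := by
  classical
  obtain ⟨T, hT⟩ := (isNoetherianRing_iff_ideal_fg A).mp inferInstance (nilradical A)
  have hex : ∀ a : A, ∃ s : A, s ∉ p ∧ (a ∈ T → s * a = 0) := by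
    intro a
    by_cases ha : a ∈ T
    · have hnil : IsNilpotent a := by
        have h1 : a ∈ nilradical A := hT ▸ Ideal.subset_span ha
        exact mem_nilradical.mp h1
      have ha' : algebraMap A S a = 0 := (hnil.map (algebraMap A S)).eq_zero
      obtain ⟨m, hm⟩ := (IsLocalization.map_eq_zero_iff p.primeCompl S a).mp ha'
      exact ⟨m.1, m.2, fun _ => hm⟩
    · exact ⟨1, fun h1 => hp.ne_top ((Ideal.eq_top_iff_one p).mpr h1), fun h => absurd h ha⟩
  choose s hs1 hs2 using hex
  let f : A := ∏ a ∈ T, s a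
  have hfp : f ∉ p := by
    intro hf
    obtain ⟨a, _, ha⟩ := Ideal.IsPrime.prod_mem_iff.mp hf
    exact hs1 a ha
  have hfT : ∀ a ∈ T, f * a = 0 := by
    intro a ha
    obtain ⟨c, hc⟩ := Finset.dvd_prod_of_mem s ha
    have hf' : f = s a * c := hc
    rw [hf', mul_assoc, mul_comm c a, ← mul_assoc, hs2 a ha, zero_mul]
  have hker : nilradical A ≤ RingHom.ker (algebraMap A (Localization.Away f)) := by
    rw [← hT, Ideal.span_le]
    intro a ha
    rw [SetLike.mem_coe, RingHom.mem_ker,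
      IsLocalization.map_eq_zero_iff (Submonoid.powers f) (Localization.Away f) a]
    exact ⟨⟨f, Submonoid.mem_powers f⟩, hfT a ha⟩
  refine ⟨f, hfp, ?_⟩
  rw [← nilradical_eq_bot_iff]
  have h1 := IsLocalization.map_radical (Submonoid.powers f) (Localization.Away f)
    (⊥ : Ideal A)
  rw [Ideal.map_bot] at h1
  change (⊥ : Ideal (Localization.Away f)).radical = ⊥
  rw [← h1, Ideal.map_eq_bot_iff_le_ker]
  exact hker

theorem exists_affine_reduced_nhds (X : Scheme.{u}) [IsLocallyNoetherian X] (x : X)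
    [IsReduced (X.presheaf.stalk x)] :
    ∃ W : X.Opens, IsAffineOpen W ∧ x ∈ W ∧ IsReduced Γ(X, W) := by
  obtain ⟨_, ⟨U, hU, rfl⟩, hxU, -⟩ :=
    X.isBasis_affineOpens.exists_subset_of_mem_open (Set.mem_univ x) isOpen_univ
  have hU' : IsAffineOpen U := hU
  have hxU' : x ∈ U := hxU
  haveI : IsNoetherianRing Γ(X, U) := IsLocallyNoetherian.component_noetherian ⟨U, hU'⟩
  letI : Algebra Γ(X, U) (X.presheaf.stalk x) :=
    TopCat.Presheaf.algebra_section_stalk X.presheaf (⟨x, hxU'⟩ : U)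
  haveI hloc : IsLocalization.AtPrime (X.presheaf.stalk x)
      (hU'.primeIdealOf ⟨x, hxU'⟩).asIdeal := hU'.isLocalization_stalk ⟨x, hxU'⟩
  obtain ⟨f, hfp, hred⟩ := exists_away_isReduced Γ(X, U) (hU'.primeIdealOf ⟨x, hxU'⟩).asIdeal
    (X.presheaf.stalk x)
  refine ⟨X.basicOpen f, hU'.basicOpen f, ?_, ?_⟩
  · rw [X.mem_basicOpen f x hxU']
    exact IsLocalization.map_units (X.presheaf.stalk x)
      (⟨f, hfp⟩ : (hU'.primeIdealOf ⟨x, hxU'⟩).asIdeal.primeCompl)
  · haveI := hU'.isLocalization_basicOpen f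
    exact isReduced_of_injective
      (IsLocalization.algEquiv (Submonoid.powers f) Γ(X, X.basicOpen f) (Localization.Away f))
      (AlgEquiv.injective _)

theorem eq_of_specializes_minimal (X : Scheme.{u}) (x : X)
    (q : PrimeSpectrum (X.presheaf.stalk x))
    (hq : q.asIdeal ∈ minimalPrimes (X.presheaf.stalk x)) (ζ : X)
    (h1 : ζ ⤳ (X.fromSpecStalk x) (q : ↥(Spec (X.presheaf.stalk x)))) :
    ζ = (X.fromSpecStalk x) (q : ↥(Spec (X.presheaf.stalk x))) := by
  set η : X := (X.fromSpecStalk x) (q : ↥(Spec (X.presheaf.stalk x))) with hη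
  have hηx : η ⤳ x := by
    have h1 : η ∈ Set.range (X.fromSpecStalk x) := ⟨q, rfl⟩
    rw [Scheme.range_fromSpecStalk] at h1
    exact h1
  have h2 : ζ ⤳ x := h1.trans hηx
  obtain ⟨q', hq'⟩ : ζ ∈ Set.range (X.fromSpecStalk x) := by
    rw [Scheme.range_fromSpecStalk]; exact h2
  have h3 : q' ⤳ (q : ↥(Spec (X.presheaf.stalk x))) := by
    rw [← (X.fromSpecStalk x).isEmbedding.isInducing.specializes_iff, hq']
    exact h1
  have h4 : PrimeSpectrum.asIdeal (R := X.presheaf.stalk x) q' ≤ q.asIdeal :=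
    (PrimeSpectrum.le_iff_specializes (R := X.presheaf.stalk x) q' q).mpr h3
  have h5 : q.asIdeal ≤ PrimeSpectrum.asIdeal (R := X.presheaf.stalk x) q' :=
    hq.2 ⟨PrimeSpectrum.isPrime (R := X.presheaf.stalk x) q', bot_le⟩ h4
  have h6 : q' = (q : ↥(Spec (X.presheaf.stalk x))) :=
    PrimeSpectrum.ext (R := X.presheaf.stalk x) (le_antisymm h4 h5)
  rw [← hq', hη]
  exact congrArg _ h6

variable (k : Type u) [Field k] (X : Scheme.{u}) [X.Over (Spec (CommRingCat.of k))]

theorem isGeomReducedAt_of_minimal (x : X) [IsReduced (X.presheaf.stalk x)]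
    (h : ∀ q : PrimeSpectrum (X.presheaf.stalk x),
      q.asIdeal ∈ minimalPrimes (X.presheaf.stalk x) →
      Curv2.IsGeomReducedAt k X ((X.fromSpecStalk x) (q : ↥(Spec (X.presheaf.stalk x))))) :
    Curv2.IsGeomReducedAt k X x := by
  rw [main1541]
  have t := (main9634 (k := k) (S := X.presheaf.stalk x)).out 2 1
  refine t.mp (fun K _ _ => ?_)
  let ι := {q : PrimeSpectrum (X.presheaf.stalk x) //
    q.asIdeal ∈ minimalPrimes (X.presheaf.stalk x)}
  let η : ι → X := fun q => (X.fromSpecStalk x) (q.1 : ↥(Spec (X.presheaf.stalk x)))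
  have hη : ∀ q : ι, η q ⤳ x := fun q => by
    have h1 : η q ∈ Set.range (X.fromSpecStalk x) := ⟨q.1, rfl⟩
    rw [Scheme.range_fromSpecStalk] at h1
    exact h1
  refine isReduced_tensor_of_family (fun q : ι => X.presheaf.stalk (η q))
    (fun q => specAlgHom k X (hη q)) ?_ K ?_
  · intro b hb
    have hmem : b ∈ sInf (minimalPrimes (X.presheaf.stalk x)) := by
      rw [Submodule.mem_sInf]
      intro p hp
      let q : ι := ⟨⟨p, hp.1.1⟩, hp⟩
      have hc := comap_stalkSpecializes X x q.1 (hη q)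
      have hb' : (X.presheaf.stalkSpecializes (hη q)).hom b = 0 := hb q
      have h2 : b ∈ (IsLocalRing.maximalIdeal (X.presheaf.stalk (η q))).comap
          (X.presheaf.stalkSpecializes (hη q)).hom := by
        rw [Ideal.mem_comap, hb']
        exact zero_mem _
      rw [hc] at h2
      exact h2
    have hbot : sInf (minimalPrimes (X.presheaf.stalk x)) = ⊥ := by
      change sInf (⊥ : Ideal (X.presheaf.stalk x)).minimalPrimes = ⊥
      rw [Ideal.sInf_minimalPrimes]
      exact nilradical_eq_zero _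
    rw [hbot] at hmem
    exact (Submodule.mem_bot _).mp hmem
  · intro q
    haveI := (main1541 k X (η q)).mp (h q.1 q.2)
    exact Groth.Agent.Lib.PerfectRed.isReduced_tensor_of_isGeometricallyReduced k _ K

theorem main2522 {k : Type u} [Field k] {X : Scheme.{u}} [IsLocallyNoetherian X]
    (f : X ⟶ Spec (CommRingCat.of k)) : IsOpen {x : X | FBase.IsGeomReducedAt f x} := by
  letI : X.Over (Spec (CommRingCat.of k)) := ⟨f⟩
  rw [isOpen_iff_forall_mem_open]
  intro x hx
  have hx' : Curv2.IsGeomReducedAt k X x := hx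
  haveI : Algebra.IsGeometricallyReduced k (X.presheaf.stalk x) := (main1541 k X x).mp hx'
  haveI : IsReduced (X.presheaf.stalk x) := Algebra.isReduced_of_isGeometricallyReduced k
  obtain ⟨W, hW, hxW, hred⟩ := exists_affine_reduced_nhds X x
  haveI := hred
  haveI : IsNoetherianRing Γ(X, W) := IsLocallyNoetherian.component_noetherian ⟨W, hW⟩
  classical
  let g : Ideal Γ(X, W) → X := fun p => if h : p.IsPrime then hW.fromSpec ⟨p, h⟩ else x
  let S : Set X := {η | η ∈ g '' (minimalPrimes Γ(X, W)) ∧ ¬ Curv2.IsGeomReducedAt k X η}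
  have hSfin : S.Finite :=
    ((minimalPrimes.finite_of_isNoetherianRing Γ(X, W)).image g).subset (fun η hη => hη.1)
  have hcl : closure S = ⋃ η ∈ S, closure {η} := by
    have h1 := hSfin.closure_biUnion (fun η => ({η} : Set X))
    rwa [Set.biUnion_of_singleton] at h1
  refine ⟨(W : Set X) ∩ (closure S)ᶜ, ?_, W.isOpen.inter isClosed_closure.isOpen_compl,
    ⟨hxW, ?_⟩⟩
  · rintro y ⟨hyW, hyS⟩
    change Curv2.IsGeomReducedAt k X y
    have hyW' : y ∈ W := hyW
    letI : Algebra Γ(X, W) (X.presheaf.stalk y) :=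
      TopCat.Presheaf.algebra_section_stalk X.presheaf (⟨y, hyW'⟩ : W)
    haveI hloc : IsLocalization.AtPrime (X.presheaf.stalk y)
        (hW.primeIdealOf ⟨y, hyW'⟩).asIdeal := hW.isLocalization_stalk ⟨y, hyW'⟩
    haveI : IsReduced (X.presheaf.stalk y) :=
      isReduced_localizationPreserves (hW.primeIdealOf ⟨y, hyW'⟩).asIdeal.primeCompl _ hred
    apply isGeomReducedAt_of_minimal k X y
    intro q hq
    by_contra hbad
    set η : X := (X.fromSpecStalk y) (q : ↥(Spec (X.presheaf.stalk y))) with hη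
    have hηy : η ⤳ y := by
      have h1 : η ∈ Set.range (X.fromSpecStalk y) := ⟨q, rfl⟩
      rw [Scheme.range_fromSpecStalk] at h1
      exact h1
    have hηW : η ∈ W := hηy.mem_open W.isOpen hyW'
    have hmin : (hW.primeIdealOf ⟨η, hηW⟩).asIdeal ∈ minimalPrimes Γ(X, W) := by
      refine ⟨⟨(hW.primeIdealOf ⟨η, hηW⟩).isPrime, bot_le⟩, fun p'' hp'' hle => ?_⟩
      let P'' : PrimeSpectrum Γ(X, W) := ⟨p'', hp''.1⟩
      have hsp : P'' ⤳ hW.primeIdealOf ⟨η, hηW⟩ :=
        (PrimeSpectrum.le_iff_specializes P'' (hW.primeIdealOf ⟨η, hηW⟩)).mp hle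
      have hsp' : hW.fromSpec P'' ⤳ η := by
        have h1 := hsp.map hW.fromSpec.continuous
        rwa [hW.fromSpec_primeIdealOf ⟨η, hηW⟩] at h1
      have heq := eq_of_specializes_minimal X y q hq _ hsp'
      have heq2 : P'' = hW.primeIdealOf ⟨η, hηW⟩ := by
        apply hW.fromSpec.isOpenEmbedding.injective
        rw [hW.fromSpec_primeIdealOf]
        exact heq
      exact le_of_eq (congrArg PrimeSpectrum.asIdeal heq2.symm)
    have hgη : g (hW.primeIdealOf ⟨η, hηW⟩).asIdeal = η := by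
      change (if h : (hW.primeIdealOf ⟨η, hηW⟩).asIdeal.IsPrime then
        hW.fromSpec ⟨(hW.primeIdealOf ⟨η, hηW⟩).asIdeal, h⟩ else x) = η
      rw [dif_pos (hW.primeIdealOf ⟨η, hηW⟩).isPrime]
      exact hW.fromSpec_primeIdealOf ⟨η, hηW⟩
    have hηS : η ∈ S := ⟨⟨_, hmin, hgη⟩, hbad⟩
    apply hyS
    exact closure_mono (Set.singleton_subset_iff.mpr hηS) (specializes_iff_mem_closure.mp hηy)
  · intro hxS
    rw [hcl] at hxS
    obtain ⟨η, hηS, hxη⟩ := Set.mem_iUnion₂.mp hxS
    have hsp : η ⤳ x := specializes_iff_mem_closure.mpr hxη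
    exact hηS.2 (Groth.Agent.Lib.StalkDict4H4.main1542 k X x η hsp hx')

end Groth.Agent.Lib.GeomRedOpenH4
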