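/-
helper5: pointwise criterion for geometric reducedness of a scheme locally of finite type over a field:
`X` is geometrically reduced at `x` iff `O_{X,x}` is `(S_1)` and `X` is smooth at every generization
`z` of `x` whose local ring has depth zero.  APPEND-ONLY once landed.
-/
import Mathlib
import Groth.Prelude.Def_Curv2
import Groth.Prelude.Def_FDesc
import Groth.Agent.Lib.FibGRed1_helper5
import Groth.Agent.Lib.GeomRedOpen_helper4
import Groth.Agent.Lib.GenSmoothGR2_helper6
import Groth.Agent.Lib.StalkLocz1_helper8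

set_option autoImplicit false
set_option linter.unusedSectionVars false
universe u

open scoped TensorProduct
open CategoryTheory CategoryTheory.Limits AlgebraicGeometry

attribute [local instance] Curv2.stalkAlgebra

namespace Groth.Agent.Lib.FibGRedH5

variable (k : Type u) [Field k] (X : Scheme.{u}) [X.Over (Spec (CommRingCat.of k))]

/-- geometric reducedness of the local ring passes to generizations -/
theorem geomRed_stalk_of_specializes {x z : X} (h : z ⤳ x)
    [Algebra.IsGeometricallyReduced k (X.presheaf.stalk x)] :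
    Algebra.IsGeometricallyReduced k (X.presheaf.stalk z) := by
  letI : Algebra (X.presheaf.stalk x) (X.presheaf.stalk z) :=
    (X.presheaf.stalkSpecializes h).hom.toAlgebra
  haveI : IsScalarTower k (X.presheaf.stalk x) (X.presheaf.stalk z) :=
    IsScalarTower.of_algebraMap_eq
      (fun c => ((Groth.Agent.Lib.GeomRedGenPtsH4.specAlgHom k X h).commutes c).symm)
  haveI : (RingHom.ker (Cyc.specMap x z h)).IsPrime := RingHom.ker_isPrime _
  haveI := StalkLoczH8.isLocalization_stalkSpecializes h
  exact isGeometricallyReduced_of_isLocalization (RingHom.ker (Cyc.specMap x z h)).primeCompl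

variable [LocallyOfFinitePresentation (X ↘ Spec (CommRingCat.of k))]

omit [LocallyOfFinitePresentation (X ↘ Spec (CommRingCat.of k))] in
theorem isLocallyNoetherian_of_lfp (h : LocallyOfFinitePresentation (X ↘ Spec (CommRingCat.of k))) :
    IsLocallyNoetherian X :=
  LocallyOfFiniteType.isLocallyNoetherian (X ↘ Spec (CommRingCat.of k))

/-- forward direction of the criterion -/
theorem crit_forward (x : X) (hx : Curv2.IsGeomReducedAt k X x) :
    LocCoh.HasSk 1 (X.presheaf.stalk x) (X.presheaf.stalk x) ∧
      ∀ z : X, z ⤳ x → ¬ 1 ≤ LocCoh.depth (X.presheaf.stalk z) (X.presheaf.stalk z) →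
        z ∈ (X ↘ Spec (CommRingCat.of k)).smoothLocus := by
  haveI := isLocallyNoetherian_of_lfp k X inferInstance
  haveI hgr : Algebra.IsGeometricallyReduced k (X.presheaf.stalk x) :=
    (Groth.Agent.Lib.StalkDict2H4.main1541 k X x).mp hx
  haveI : IsReduced (X.presheaf.stalk x) := Algebra.isReduced_of_isGeometricallyReduced k
  refine ⟨hasSk_one_of_isReduced _, fun z hz hd => ?_⟩
  haveI hgrz : Algebra.IsGeometricallyReduced k (X.presheaf.stalk z) :=
    geomRed_stalk_of_specializes k X hz
  haveI : IsReduced (X.presheaf.stalk z) := Algebra.isReduced_of_isGeometricallyReduced k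
  have hfield : IsField (X.presheaf.stalk z) :=
    isField_of_isReduced_of_not_one_le_depth _ hd
  have hfs : Algebra.FormallySmooth k (X.presheaf.stalk z) :=
    Groth.Agent.Lib.GenSmoothGRH6.formallySmooth_of_isField hfield hgrz
  exact (Groth.Agent.Lib.GenSmoothGR2H6.mem_smoothLocus_iff k X z).2 hfs

/-- backward direction of the criterion -/
theorem crit_backward (x : X)
    (h1 : LocCoh.HasSk 1 (X.presheaf.stalk x) (X.presheaf.stalk x))
    (h2 : ∀ z : X, z ⤳ x → ¬ 1 ≤ LocCoh.depth (X.presheaf.stalk z) (X.presheaf.stalk z) →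
      z ∈ (X ↘ Spec (CommRingCat.of k)).smoothLocus) :
    Curv2.IsGeomReducedAt k X x := by
  haveI := isLocallyNoetherian_of_lfp k X inferInstance
  -- the data attached to a minimal prime
  have key : ∀ q : PrimeSpectrum (X.presheaf.stalk x),
      q.asIdeal ∈ minimalPrimes (X.presheaf.stalk x) →
      Curv2.IsGeomReducedAt k X ((X.fromSpecStalk x) (q : ↥(Spec (X.presheaf.stalk x)))) ∧
        IsReduced (Localization.AtPrime q.asIdeal) := by
    intro q hq
    set z : X := (X.fromSpecStalk x) (q : ↥(Spec (X.presheaf.stalk x))) with hz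
    have hzx : z ⤳ x := by
      have h1 : z ∈ Set.range (X.fromSpecStalk x) := ⟨q, rfl⟩
      rw [Scheme.range_fromSpecStalk] at h1
      exact h1
    letI : Algebra (X.presheaf.stalk x) (X.presheaf.stalk z) :=
      (X.presheaf.stalkSpecializes hzx).hom.toAlgebra
    haveI : (RingHom.ker (Cyc.specMap x z hzx)).IsPrime := RingHom.ker_isPrime _
    haveI hloc := StalkLoczH8.isLocalization_stalkSpecializes hzx
    have hker : RingHom.ker (Cyc.specMap x z hzx) = q.asIdeal := by
      rw [← Groth.Agent.Lib.GeomRedGenPtsH4.comap_stalkSpecializes X x q hzx]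
      ext a
      rw [StalkLoczH8.mem_ker_specMap_iff, Ideal.mem_comap]
    have htr : ∀ (J : Ideal (X.presheaf.stalk x)) [J.IsPrime],
        RingHom.ker (Cyc.specMap x z hzx) = J → IsLocalization.AtPrime (X.presheaf.stalk z) J := by
      intro J _ hJ
      subst hJ
      exact hloc
    haveI hloc' : IsLocalization.AtPrime (X.presheaf.stalk z) q.asIdeal := htr q.asIdeal hker
    let e : Localization.AtPrime q.asIdeal ≃ₐ[X.presheaf.stalk x] X.presheaf.stalk z :=
      IsLocalization.algEquiv q.asIdeal.primeCompl _ _
    have hd : ¬ 1 ≤ LocCoh.depth (X.presheaf.stalk z) (X.presheaf.stalk z) := by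
      rw [← Groth.Agent.SerreLib.depth_eq_of_ringEquiv _ _ e.toRingEquiv]
      exact not_one_le_depth_of_mem_minimalPrimes _ q.asIdeal hq
    have hsm := h2 z hzx hd
    haveI hfs : Algebra.FormallySmooth k (X.presheaf.stalk z) :=
      (Groth.Agent.Lib.GenSmoothGR2H6.mem_smoothLocus_iff k X z).1 hsm
    have hfield : IsField (X.presheaf.stalk z) :=
      isField_of_formallySmooth_of_not_one_le_depth (k := k) hd
    have hgr : Algebra.IsGeometricallyReduced k (X.presheaf.stalk z) :=
      Groth.Agent.Lib.GenSmoothGR2H6.isGeometricallyReduced_of_isField hfield hfs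
    refine ⟨(Groth.Agent.Lib.StalkDict2H4.main1541 k X z).mpr hgr, ?_⟩
    haveI : IsReduced (X.presheaf.stalk z) := Algebra.isReduced_of_isGeometricallyReduced k
    exact isReduced_of_injective e.toRingEquiv.toRingHom e.injective
  haveI : IsReduced (X.presheaf.stalk x) :=
    isReduced_of_S1_of_minimal _ h1 (fun P hP hPmin => (key ⟨P, hP⟩ hPmin).2)
  exact Groth.Agent.Lib.GeomRedOpenH4.isGeomReducedAt_of_minimal k X x
    (fun q hq => (key q hq).1)

/-- **Pointwise criterion for geometric reducedness.** -/
theorem geomReducedAt_iff (x : X) :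
    Curv2.IsGeomReducedAt k X x ↔
      (LocCoh.HasSk 1 (X.presheaf.stalk x) (X.presheaf.stalk x) ∧
        ∀ z : X, z ⤳ x → ¬ 1 ≤ LocCoh.depth (X.presheaf.stalk z) (X.presheaf.stalk z) →
          z ∈ (X ↘ Spec (CommRingCat.of k)).smoothLocus) :=
  ⟨crit_forward k X x, fun h => crit_backward k X x h.1 h.2⟩

end Groth.Agent.Lib.FibGRedH5
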