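/-
helper5: geometric normality of a scheme locally of finite type over a field, pointwise criterion
(EGA IV 6.7.7 / 12.1.1 (vi)-style): `X` is normal at all points over `x` after every finite extension of the
base field iff `O_{X,x}` is `(S_2)` and `X` is smooth at every generization `z` of `x` with depth `O_{X,z} ≤ 1`.
Part 1: the base change morphism `X_K ⟶ X` (flat, closed, Cohen–Macaulay fibres).  APPEND-ONLY once landed.
-/
import Mathlib
import Groth.Prelude.Def_Curv2
import Groth.Agent.Lib.FibGRed2_helper5
import Groth.Agent.Lib.CMAscent_helper5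
import Groth.Agent.Lib.CMLocusBC_helper5
import Groth.Agent.Lib.FibSk6_helper5
import Groth.Agent.Lib.GeomRegSmooth_helper3
import Groth.Agent.Lib.DepthTensor_helper5

set_option autoImplicit false
set_option linter.unusedSectionVars false
universe u

open scoped TensorProduct
open CategoryTheory CategoryTheory.Limits AlgebraicGeometry

attribute [local instance] Curv2.stalkAlgebra

namespace Groth.Agent.Lib.FibGNormH5

variable (k : Type u) [Field k] (X : Scheme.{u}) [X.Over (Spec (CommRingCat.of k))]
  (K : Type u) [Field K] [Algebra k K]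

instance flat_bcFst : Flat (Curv2.bcFst k X K) := by
  haveI : Flat (Spec.map (CommRingCat.ofHom (algebraMap k K))) := by
    rw [Flat.SpecMap_iff]
    show (algebraMap k K).Flat
    exact RingHom.flat_algebraMap_iff.mpr inferInstance
  show Flat (pullback.fst _ _)
  infer_instance

theorem isFinite_bcFst [Module.Finite k K] : IsFinite (Curv2.bcFst k X K) := by
  haveI : IsFinite (Spec.map (CommRingCat.ofHom (algebraMap k K))) := by
    rw [IsFinite.SpecMap_iff]
    show (algebraMap k K).Finite
    exact RingHom.finite_algebraMap.mpr inferInstance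
  show IsFinite (pullback.fst _ _)
  infer_instance

/-- the fibres of `X_K ⟶ X` have Cohen–Macaulay local rings -/
theorem isCM_stalk_fiber_bcFst [LocallyOfFiniteType (X ↘ Spec (CommRingCat.of k))] (z : X)
    (t : (Curv2.bcFst k X K).fiber z) :
    LocCoh.IsCohenMacaulayLocalRing (((Curv2.bcFst k X K).fiber z).presheaf.stalk t) := by
  have sqT : IsPullback ((Curv2.bcFst k X K).fiberι z)
      ((Curv2.bcFst k X K).fiberToSpecResidueField z) (Curv2.bcFst k X K)
      (X.fromSpecResidueField z) := IsPullback.of_hasPullback _ _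
  have sqπ : IsPullback (Curv2.bcFst k X K) (Curv2.bcSnd k X K) (X ↘ Spec (CommRingCat.of k))
      (Spec.map (CommRingCat.ofHom (algebraMap k K))) := IsPullback.of_hasPullback _ _
  have s2 := sqT.flip.paste_vert sqπ
  have hcψ : Spec.map (Spec.preimage (X.fromSpecResidueField z ≫ (X ↘ Spec (CommRingCat.of k)))) =
      X.fromSpecResidueField z ≫ (X ↘ Spec (CommRingCat.of k)) := Spec.map_preimage _
  rw [← hcψ] at s2
  letI : Algebra k (X.residueField z) :=
    (Spec.preimage (X.fromSpecResidueField z ≫ (X ↘ Spec (CommRingCat.of k)))).hom.toAlgebra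
  haveI : Algebra.EssFiniteType k (X.residueField z) :=
    Groth.Agent.CMLocusBC.essFiniteType_preimage (X ↘ Spec (CommRingCat.of k)) z
  obtain ⟨eΓ⟩ := Groth.Agent.CMAscent.gamma_equiv_of_isPullback_Spec k K (X.residueField z) _ _ s2
  have hCM : LocCoh.IsCohenMacaulayRing (X.residueField z ⊗[k] K) :=
    Groth.Agent.TensorCM.isCMRing_tensor_field _ _ _
  haveI : LocCoh.IsCohenMacaulayRing Γ((Curv2.bcFst k X K).fiber z, ⊤) :=
    Groth.Agent.Lib.CMEquivH3.isCohenMacaulayRing_of_ringEquiv eΓ hCM
  haveI : IsAffineHom (Curv2.bcFst k X K) :=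
    MorphismProperty.pullback_fst (P := @IsAffineHom) _ _ inferInstance
  haveI : IsAffineHom ((Curv2.bcFst k X K).fiberToSpecResidueField z) :=
    MorphismProperty.pullback_snd (P := @IsAffineHom) _ _ inferInstance
  haveI : IsAffine ((Curv2.bcFst k X K).fiber z) :=
    isAffine_of_isAffineHom ((Curv2.bcFst k X K).fiberToSpecResidueField z)
  exact Groth.Agent.CMAscent.isCM_stalk_of_isAffine t

/-- depth does not decrease along a flat local homomorphism of noetherian local rings -/
theorem depth_le_depth_of_flat_local (A B : Type u) [CommRing A] [CommRing B] [IsLocalRing A]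
    [IsLocalRing B] [IsNoetherianRing A] [IsNoetherianRing B] [Algebra A B]
    [IsLocalHom (algebraMap A B)] [Module.Flat A B] :
    LocCoh.depth A A ≤ LocCoh.depth B B := by
  have h := Groth.Agent.DepthTensor.depth_tensor (R := A) (S := B) A B
  have e : B ⊗[A] A ≃ₗ[B] B := TensorProduct.AlgebraTensorModule.rid A B B
  have h2 : LocCoh.depth B (B ⊗[A] A) = LocCoh.depth B B := by
    unfold LocCoh.depth
    exact Groth.Agent.DepthLib.idealDepth_congr _ _ e
  rw [h2] at h
  rw [h]
  exact le_self_add

end Groth.Agent.Lib.FibGNormH5
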