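/-
helper5: geometric normality of a scheme locally of finite type over a field, pointwise criterion, part 2:
`GNfin`, `normal_backward` ((S_2) + smooth at the generizations of depth ≤ 1 ⇒ normal after finite extensions).
APPEND-ONLY once landed.
-/
import Mathlib
import Groth.Agent.Lib.FibGNorm1_helper5

set_option autoImplicit false
set_option linter.unusedSectionVars false
universe u

open scoped TensorProduct
open CategoryTheory CategoryTheory.Limits AlgebraicGeometry

attribute [local instance] Curv2.stalkAlgebra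

namespace Groth.Agent.Lib.FibGNormH5

open Groth.Agent.Lib.FibGRedH5

variable (k : Type u) [Field k] (X : Scheme.{u}) [X.Over (Spec (CommRingCat.of k))]

/-- `X` is normal at all points over `x` after every finite extension of the base field -/
def GNfin (x : X) : Prop :=
  ∀ (K : Type u) [Field K] [Algebra k K], Module.Finite k K →
    ∀ x' : Curv2.bc k X K, (Curv2.bcFst k X K).base x' = x →
      IsDomain ((Curv2.bc k X K).presheaf.stalk x') ∧
        IsIntegrallyClosed ((Curv2.bc k X K).presheaf.stalk x')

/-- the local ring at the point `fromSpecStalk x P` is the localization at `P` -/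
theorem isLocalization_fromSpecStalk (W : Scheme.{u}) (x : W)
    (q : PrimeSpectrum (W.presheaf.stalk x))
    (hzx : (W.fromSpecStalk x) (q : ↥(Spec (W.presheaf.stalk x))) ⤳ x) :
    @IsLocalization.AtPrime _ _
      (W.presheaf.stalk ((W.fromSpecStalk x) (q : ↥(Spec (W.presheaf.stalk x))))) _
      (W.presheaf.stalkSpecializes hzx).hom.toAlgebra q.asIdeal q.isPrime := by
  letI : Algebra (W.presheaf.stalk x)
      (W.presheaf.stalk ((W.fromSpecStalk x) (q : ↥(Spec (W.presheaf.stalk x))))) :=
    (W.presheaf.stalkSpecializes hzx).hom.toAlgebra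
  haveI : (RingHom.ker (Cyc.specMap x _ hzx)).IsPrime := RingHom.ker_isPrime _
  haveI hloc := StalkLoczH8.isLocalization_stalkSpecializes hzx
  have hker : RingHom.ker (Cyc.specMap x _ hzx) = q.asIdeal := by
    rw [← Groth.Agent.Lib.GeomRedGenPtsH4.comap_stalkSpecializes W x q hzx]
    ext a
    rw [StalkLoczH8.mem_ker_specMap_iff, Ideal.mem_comap]
  have htr : ∀ (J : Ideal (W.presheaf.stalk x)) [J.IsPrime],
      RingHom.ker (Cyc.specMap x _ hzx) = J → IsLocalization.AtPrime
        (W.presheaf.stalk ((W.fromSpecStalk x) (q : ↥(Spec (W.presheaf.stalk x))))) J := by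
    intro J _ hJ
    subst hJ
    exact hloc
  exact htr q.asIdeal hker

variable [LocallyOfFinitePresentation (X ↘ Spec (CommRingCat.of k))]

set_option maxHeartbeats 800000 in
/-- `(S_2)` and smoothness at the generizations of depth `≤ 1` give normality after finite extensions -/
theorem normal_backward (x : X)
    (h2 : LocCoh.HasSk 2 (X.presheaf.stalk x) (X.presheaf.stalk x))
    (hsm : ∀ z : X, z ⤳ x → ¬ 2 ≤ LocCoh.depth (X.presheaf.stalk z) (X.presheaf.stalk z) →
      z ∈ (X ↘ Spec (CommRingCat.of k)).smoothLocus) :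
    GNfin k X x := by
  intro K _ _ hfin x' hx'
  subst hx'
  haveI : IsLocallyNoetherian X := isLocallyNoetherian_of_lfp k X inferInstance
  haveI : LocallyOfFiniteType (Curv2.bcSnd k X K) := by
    show LocallyOfFiniteType (pullback.snd _ _)
    infer_instance
  haveI : IsLocallyNoetherian (Curv2.bc k X K) :=
    LocallyOfFiniteType.isLocallyNoetherian (Curv2.bcSnd k X K)
  have hS2 : LocCoh.HasSk 2 ((Curv2.bc k X K).presheaf.stalk x')
      ((Curv2.bc k X K).presheaf.stalk x') :=
    (Groth.Agent.Lib.FibSkH5.hasSk_stalk_iff_of_flat (Curv2.bcFst k X K)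
      (fun w' => isCM_stalk_fiber_bcFst k X K _ _) 2 x').mpr h2
  have hR1 : LocCoh.HasRk 1 ((Curv2.bc k X K).presheaf.stalk x') := by
    intro P' hP' hht
    set q : PrimeSpectrum ((Curv2.bc k X K).presheaf.stalk x') := ⟨P', hP'⟩ with hq
    set z' : Curv2.bc k X K := ((Curv2.bc k X K).fromSpecStalk x')
      (q : ↥(Spec ((Curv2.bc k X K).presheaf.stalk x'))) with hz'
    have hz'x' : z' ⤳ x' := by
      have h1 : z' ∈ Set.range ((Curv2.bc k X K).fromSpecStalk x') := ⟨q, rfl⟩
      rw [Scheme.range_fromSpecStalk] at h1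
      exact h1
    letI : Algebra ((Curv2.bc k X K).presheaf.stalk x') ((Curv2.bc k X K).presheaf.stalk z') :=
      ((Curv2.bc k X K).presheaf.stalkSpecializes hz'x').hom.toAlgebra
    haveI hloc : IsLocalization.AtPrime ((Curv2.bc k X K).presheaf.stalk z') P' :=
      isLocalization_fromSpecStalk (Curv2.bc k X K) x' q hz'x'
    have hdim : ringKrullDim ((Curv2.bc k X K).presheaf.stalk z') = P'.height :=
      IsLocalization.AtPrime.ringKrullDim_eq_height P' _
    have hzx : (Curv2.bcFst k X K).base z' ⤳ (Curv2.bcFst k X K).base x' :=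
      hz'x'.map (Curv2.bcFst k X K).continuous
    have hd : ¬ 2 ≤ LocCoh.depth (X.presheaf.stalk ((Curv2.bcFst k X K).base z'))
        (X.presheaf.stalk ((Curv2.bcFst k X K).base z')) := by
      intro h2le
      letI : Algebra (X.presheaf.stalk ((Curv2.bcFst k X K).base z'))
          ((Curv2.bc k X K).presheaf.stalk z') := ((Curv2.bcFst k X K).stalkMap z').hom.toAlgebra
      haveI : Module.Flat (X.presheaf.stalk ((Curv2.bcFst k X K).base z'))
          ((Curv2.bc k X K).presheaf.stalk z') := Flat.stalkMap (Curv2.bcFst k X K) z'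
      haveI : IsLocalHom (algebraMap (X.presheaf.stalk ((Curv2.bcFst k X K).base z'))
          ((Curv2.bc k X K).presheaf.stalk z')) :=
        inferInstanceAs (IsLocalHom ((Curv2.bcFst k X K).stalkMap z').hom)
      have h3 := depth_le_depth_of_flat_local (X.presheaf.stalk ((Curv2.bcFst k X K).base z'))
        ((Curv2.bc k X K).presheaf.stalk z')
      have h4 := Groth.Agent.FlatCM.depth_le_dim ((Curv2.bc k X K).presheaf.stalk z')
      rw [hdim] at h4
      have h5 : (2 : ℕ∞) ≤ P'.height := by
        have : ((2 : ℕ∞) : WithBot ℕ∞) ≤ (P'.height : WithBot ℕ∞) :=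
          le_trans (by exact_mod_cast (h2le.trans h3)) h4
        exact_mod_cast this
      have h6 : (2 : ℕ∞) ≤ 1 := h5.trans (by exact_mod_cast hht)
      exact absurd h6 (by norm_num)
    have hsmz := hsm _ hzx hd
    have hreg : IsRegularLocalRing ((Curv2.bc k X K).presheaf.stalk z') :=
      Groth.Agent.Lib.GeomRegSmoothH3.isGeomRegularAt_of_mem_smoothLocus k X _ hsmz K
        (IntermediateField.fg_top k K) z' rfl
    let e : Localization.AtPrime P' ≃ₐ[(Curv2.bc k X K).presheaf.stalk x']
        (Curv2.bc k X K).presheaf.stalk z' := IsLocalization.algEquiv P'.primeCompl _ _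
    exact IsRegularLocalRing.of_ringEquiv e.symm.toRingEquiv
  obtain ⟨hdom, hic⟩ := Groth.Agent.SerreLib.normal_of_R1_S2_local _ hR1 hS2
  exact ⟨hdom, hic⟩

end Groth.Agent.Lib.FibGNormH5
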