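/-
helper5: geometric normality, part 3: a point of a scheme locally of finite type over a field at which the scheme
is regular after every finite extension of the base field is a smooth point (the proof of helper3's
`mem_smoothLocus_of_isGeomRegularAt` only uses finite purely inseparable extensions; restated here with the
weaker hypothesis).  APPEND-ONLY once landed.
-/
import Mathlib
import Groth.Agent.Lib.FibGNorm2_helper5

set_option autoImplicit false
set_option maxSynthPendingDepth 3
set_option linter.unusedSectionVars false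
universe u

open scoped TensorProduct
open CategoryTheory CategoryTheory.Limits AlgebraicGeometry IsLocalRing

attribute [local instance] Curv2.stalkAlgebra

namespace Groth.Agent.Lib.FibGNormH5

variable (k : Type u) [Field k] (X : Scheme.{u}) [X.Over (Spec (CommRingCat.of k))]
  [LocallyOfFinitePresentation (X ↘ (Spec (CommRingCat.of k)))]

/-- regular after every finite extension of the base field -/
def RegFin (x : X) : Prop :=
  ∀ (k' : Type u) [Field k'] [Algebra k k'], Module.Finite k k' →
    ∀ x' : Curv2.bc k X k', (Curv2.bcFst k X k').base x' = x →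
      IsRegularLocalRing ((Curv2.bc k X k').presheaf.stalk x')

/-- (after helper3) regularity after finite extensions gives adic formal smoothness of the local ring -/
theorem adic_of_regFin (x : X) (h : RegFin k X x) :
    CAlgX.IsAdicFormallySmooth k (X.presheaf.stalk x) (maximalIdeal (X.presheaf.stalk x)) := by
  haveI : IsLocallyNoetherian X :=
    LocallyOfFiniteType.isLocallyNoetherian (X ↘ (Spec (CommRingCat.of k)))
  obtain ⟨p, hp⟩ := ExpChar.exists k
  haveI := hp
  rw [Groth.Agent.S4573.result p]
  intro k' _ _ hfin hpow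
  haveI := hfin
  haveI hpi : IsPurelyInseparable k k' :=
    (isPurelyInseparable_iff_pow_mem k p).mpr (fun y => ⟨1, by simpa using hpow y⟩)
  haveI hloc : IsLocalRing (X.presheaf.stalk x ⊗[k] k') :=
    Groth.Agent.Lib.StalkDict7H4.isLocalRing_tensor_pi (X.presheaf.stalk x) k'
  let Q : PrimeSpectrum (X.presheaf.stalk x ⊗[k] k') := IsLocalRing.closedPoint _
  have hQ : Q.asIdeal.comap (algebraMap (X.presheaf.stalk x) (X.presheaf.stalk x ⊗[k] k')) =
      IsLocalRing.maximalIdeal _ := by
    haveI hmax : (Ideal.comap (algebraMap (X.presheaf.stalk x) (X.presheaf.stalk x ⊗[k] k'))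
        (IsLocalRing.maximalIdeal (X.presheaf.stalk x ⊗[k] k'))).IsMaximal :=
      Ideal.isMaximal_comap_of_isIntegral_of_isMaximal (R := X.presheaf.stalk x)
        (IsLocalRing.maximalIdeal (X.presheaf.stalk x ⊗[k] k'))
    exact IsLocalRing.eq_maximalIdeal hmax
  obtain ⟨x', hx', ⟨e⟩⟩ := Groth.Agent.Lib.StalkDict7H4.exists_pt_of_prime k X k' x Q
  haveI hreg : IsRegularLocalRing ((Curv2.bc k X k').presheaf.stalk x') :=
    h k' hfin x' (hx' hQ)
  haveI hregL : IsRegularLocalRing (Localization.AtPrime Q.asIdeal) :=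
    IsRegularLocalRing.of_ringEquiv e.symm
  haveI hN : IsNoetherianRing (k' ⊗[k] X.presheaf.stalk x) :=
    Groth.Agent.Lib.GeomRegFSH3.isNoetherianRing_tensor_of_finite (k := k)
      (S := X.presheaf.stalk x) k'
  haveI hN' : IsNoetherianRing (X.presheaf.stalk x ⊗[k] k') :=
    isNoetherianRing_of_ringEquiv _
      (Algebra.TensorProduct.comm k k' (X.presheaf.stalk x)).toRingEquiv
  haveI hR : IsRegularRing (X.presheaf.stalk x ⊗[k] k') := by
    apply Groth.Agent.Lib.GeomRegAdicH3.isRegularRing_of_forall_maximal
    intro 𝔐 h𝔐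
    have h1 : 𝔐 = Q.asIdeal := IsLocalRing.eq_maximalIdeal h𝔐
    subst h1
    exact hregL
  exact IsRegularRing.of_ringEquiv
    (Algebra.TensorProduct.comm k (X.presheaf.stalk x) k').toRingEquiv

/-- (after helper3) points which are regular after finite extensions are smooth -/
theorem mem_smoothLocus_of_regFin (x : X) (h : RegFin k X x) :
    x ∈ (X ↘ (Spec (CommRingCat.of k))).smoothLocus := by
  haveI : IsLocallyNoetherian X :=
    LocallyOfFiniteType.isLocallyNoetherian (X ↘ (Spec (CommRingCat.of k)))
  have hadic := adic_of_regFin k X x h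
  rw [Scheme.Hom.mem_smoothLocus]
  obtain ⟨ε, hεdef⟩ : ∃ ε : k →+* (Spec (CommRingCat.of k)).presheaf.stalk
      ((X ↘ (Spec (CommRingCat.of k))) x),
      ε = ((Scheme.ΓSpecIso (CommRingCat.of k)).inv ≫
        (Spec (CommRingCat.of k)).presheaf.germ ⊤ ((X ↘ (Spec (CommRingCat.of k))) x)
          trivial).hom := ⟨_, rfl⟩
  have hεbij : Function.Bijective ε := by
    rw [hεdef]; exact Groth.Agent.Lib.GenSmoothGRH6.bijective_toStalk_field _
  have hσ : ((X ↘ (Spec (CommRingCat.of k))).stalkMap x).hom.comp ε = Curv2.stalkMap k X x := by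
    rw [hεdef]
    ext r
    exact Scheme.Hom.germ_stalkMap_apply (X ↘ Spec (CommRingCat.of k)) ⊤ x trivial _
  letI alg : Algebra ((Spec (CommRingCat.of k)).presheaf.stalk ((X ↘ (Spec (CommRingCat.of k))) x))
      (X.presheaf.stalk x) := ((X ↘ (Spec (CommRingCat.of k))).stalkMap x).hom.toAlgebra
  letI algk : Algebra k ((Spec (CommRingCat.of k)).presheaf.stalk
      ((X ↘ (Spec (CommRingCat.of k))) x)) := ε.toAlgebra
  haveI : IsScalarTower k
      ((Spec (CommRingCat.of k)).presheaf.stalk ((X ↘ (Spec (CommRingCat.of k))) x))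
      (X.presheaf.stalk x) := IsScalarTower.of_algebraMap_eq (fun r => by
        have := congrArg (fun φ : k →+* X.presheaf.stalk x => φ r) hσ
        exact this.symm)
  obtain ⟨n, g, hg⟩ := Groth.Agent.Lib.StalkSmoothH3.exists_poly_stalk
    (X ↘ (Spec (CommRingCat.of k))) x
  have h2 := Groth.Agent.Lib.SmoothRegFieldH3.adic_base_of_surjective
    (R₀ := (Spec (CommRingCat.of k)).presheaf.stalk ((X ↘ (Spec (CommRingCat.of k))) x))
    hεbij.2 _ hadic
  exact Groth.Agent.Lib.SmoothRegH3.formallySmooth_of_adic_of_poly n g hg h2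

end Groth.Agent.Lib.FibGNormH5
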