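/-
helper5: geometric normality, part 4: `normal_forward` (normal after finite extensions ⇒ (S_2) and smooth at the
generizations of depth ≤ 1) and the criterion `gnfin_iff`.  APPEND-ONLY once landed.
-/
import Mathlib
import Groth.Agent.Lib.FibGNorm3_helper5
import Groth.Agent.Lib.IntegralHeight_helper5
import Groth.Agent.Lib.GeomRedBC2_helper7

set_option autoImplicit false
set_option linter.unusedSectionVars false
universe u

open scoped TensorProduct
open CategoryTheory CategoryTheory.Limits AlgebraicGeometry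

attribute [local instance] Curv2.stalkAlgebra

namespace Groth.Agent.Lib.FibGNormH5

open Groth.Agent.Lib.FibGRedH5

variable (k : Type u) [Field k] (X : Scheme.{u}) [X.Over (Spec (CommRingCat.of k))]
  [LocallyOfFinitePresentation (X ↘ Spec (CommRingCat.of k))]

/-- a normal noetherian local domain satisfies `(S_2)` -/
theorem hasSk_two_of_normal (S : Type u) [CommRing S] [IsNoetherianRing S] [IsDomain S]
    [IsIntegrallyClosed S] : LocCoh.HasSk 2 S S := by
  refine ((Groth.Agent.SerreLib.serre_criterion S).1 (fun p hp => ⟨?_, ?_⟩)).2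
  · exact IsLocalization.isDomain_of_le_nonZeroDivisors (Localization.AtPrime p)
      p.primeCompl_le_nonZeroDivisors
  · exact isIntegrallyClosed_of_isLocalization (Localization.AtPrime p) p.primeCompl
      p.primeCompl_le_nonZeroDivisors

/-- in a local ring with `(S_2)`, a generization with local ring of depth `< 2` has dimension `≤ 1` -/
theorem dim_le_one_of_hasSk_two {W : Scheme.{u}} [IsLocallyNoetherian W] {x z : W} (hzx : z ⤳ x)
    (h2 : LocCoh.HasSk 2 (W.presheaf.stalk x) (W.presheaf.stalk x))
    (hd : ¬ 2 ≤ LocCoh.depth (W.presheaf.stalk z) (W.presheaf.stalk z)) :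
    ringKrullDim (W.presheaf.stalk z) ≤ 1 := by
  letI : Algebra (W.presheaf.stalk x) (W.presheaf.stalk z) :=
    (W.presheaf.stalkSpecializes hzx).hom.toAlgebra
  haveI hP : (RingHom.ker (Cyc.specMap x z hzx)).IsPrime := RingHom.ker_isPrime _
  haveI hloc := StalkLoczH8.isLocalization_stalkSpecializes hzx
  set P := RingHom.ker (Cyc.specMap x z hzx) with hPdef
  have h2P := h2 P
  rw [Groth.Agent.DepthLib.supportDim_locSelf, Groth.Agent.DepthLib.depth_locSelf] at h2P
  let e : Localization.AtPrime P ≃ₐ[W.presheaf.stalk x] W.presheaf.stalk z :=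
    IsLocalization.algEquiv P.primeCompl _ _
  rw [Groth.Agent.SerreLib.depth_eq_of_ringEquiv _ _ e.toRingEquiv] at h2P
  have hdim : ringKrullDim (W.presheaf.stalk z) = P.height :=
    IsLocalization.AtPrime.ringKrullDim_eq_height P _
  rw [hdim]
  have hlt : LocCoh.depth (W.presheaf.stalk z) (W.presheaf.stalk z) < 2 := not_le.mp hd
  rcases min_le_iff.1 h2P with h | h
  · exfalso
    have : ((2 : ℕ∞) : WithBot ℕ∞) ≤
        ((LocCoh.depth (W.presheaf.stalk z) (W.presheaf.stalk z) : ℕ∞) : WithBot ℕ∞) := h
    exact hd (WithBot.coe_le_coe.1 this)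
  · have h' : P.height ≤ LocCoh.depth (W.presheaf.stalk z) (W.presheaf.stalk z) := by
      exact_mod_cast h
    have h'' : P.height < 2 := lt_of_le_of_lt h' hlt
    have h3 : P.height ≤ 1 := by
      have h4 : P.height < 1 + 1 := by
        have : (1 : ℕ∞) + 1 = 2 := by norm_num
        rw [this]
        exact h''
      exact Order.le_of_lt_add_one h4
    exact_mod_cast h3

/-- the dimension of the local ring does not increase along the finite base change `X_K ⟶ X` -/
theorem dim_stalk_bc_le (K : Type u) [Field K] [Algebra k K] [Module.Finite k K] (z : X)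
    (z' : Curv2.bc k X K) (hz' : (Curv2.bcFst k X K).base z' = z) :
    ringKrullDim ((Curv2.bc k X K).presheaf.stalk z') ≤ ringKrullDim (X.presheaf.stalk z) := by
  obtain ⟨q, -, ⟨e⟩⟩ := Groth.Agent.Lib.StalkDict6H4.exists_prime k X K z z' hz'
  rw [← ringKrullDim_eq_of_ringEquiv e, IsLocalization.AtPrime.ringKrullDim_eq_height q.asIdeal]
  refine (Ideal.height_le_ringKrullDim_of_ne_top q.2.ne_top).trans ?_
  haveI : Module.Finite (X.presheaf.stalk z) (X.presheaf.stalk z ⊗[k] K) :=
    Module.Finite.base_change k (X.presheaf.stalk z) K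
  haveI : Algebra.IsIntegral (X.presheaf.stalk z) (X.presheaf.stalk z ⊗[k] K) :=
    Algebra.IsIntegral.of_finite _ _
  exact Groth.Agent.IntegralHeight.ringKrullDim_le_of_isIntegral _ _

set_option maxHeartbeats 800000 in
/-- normality after finite extensions gives `(S_2)` and smoothness at the generizations of depth `≤ 1` -/
theorem normal_forward (x : X) (h : GNfin k X x) :
    LocCoh.HasSk 2 (X.presheaf.stalk x) (X.presheaf.stalk x) ∧
      ∀ z : X, z ⤳ x → ¬ 2 ≤ LocCoh.depth (X.presheaf.stalk z) (X.presheaf.stalk z) →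
        z ∈ (X ↘ Spec (CommRingCat.of k)).smoothLocus := by
  haveI : IsLocallyNoetherian X := isLocallyNoetherian_of_lfp k X inferInstance
  have hNoeth : ∀ (K : Type u) [Field K] [Algebra k K], IsLocallyNoetherian (Curv2.bc k X K) := by
    intro K _ _
    haveI : LocallyOfFiniteType (Curv2.bcSnd k X K) := by
      show LocallyOfFiniteType (pullback.snd _ _)
      infer_instance
    exact LocallyOfFiniteType.isLocallyNoetherian (Curv2.bcSnd k X K)
  -- Step 1: `(S_2)` at `x`
  have hS2 : LocCoh.HasSk 2 (X.presheaf.stalk x) (X.presheaf.stalk x) := by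
    haveI := hNoeth k
    haveI : Surjective (Spec.map (CommRingCat.ofHom (algebraMap k k))) :=
      Groth.Agent.Lib.GeomRedBC2H7.surjective_specMap k
    haveI : Surjective (Curv2.bcFst k X k) :=
      MorphismProperty.pullback_fst (P := @Surjective) _ _ inferInstance
    obtain ⟨x', hx'⟩ := (Curv2.bcFst k X k).surjective x
    obtain ⟨hdom, hic⟩ := h k inferInstance x' hx'
    have h1 := hasSk_two_of_normal ((Curv2.bc k X k).presheaf.stalk x')
    have h2 := (Groth.Agent.Lib.FibSkH5.hasSk_stalk_iff_of_flat (Curv2.bcFst k X k)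
      (fun w' => isCM_stalk_fiber_bcFst k X k _ _) 2 x').mp h1
    rw [← hx']
    exact h2
  refine ⟨hS2, fun z hzx hd => ?_⟩
  have hdimz : ringKrullDim (X.presheaf.stalk z) ≤ 1 := dim_le_one_of_hasSk_two hzx hS2 hd
  apply mem_smoothLocus_of_regFin k X z
  intro K _ _ hfin z' hz'
  haveI := hfin
  haveI := hNoeth K
  haveI := isFinite_bcFst k X K
  have hcl : IsClosedMap (Curv2.bcFst k X K).base := (Curv2.bcFst k X K).isClosedMap
  obtain ⟨x', hz'x', hx'⟩ := hcl.specializingMap (a := z') (b := x) (by rw [hz']; exact hzx)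
  obtain ⟨hdom, hic⟩ := h K hfin x' hx'
  letI : Algebra ((Curv2.bc k X K).presheaf.stalk x') ((Curv2.bc k X K).presheaf.stalk z') :=
    ((Curv2.bc k X K).presheaf.stalkSpecializes hz'x').hom.toAlgebra
  haveI hP : (RingHom.ker (Cyc.specMap x' z' hz'x')).IsPrime := RingHom.ker_isPrime _
  haveI hloc := StalkLoczH8.isLocalization_stalkSpecializes hz'x'
  haveI : IsDomain ((Curv2.bc k X K).presheaf.stalk z') :=
    IsLocalization.isDomain_of_le_nonZeroDivisors ((Curv2.bc k X K).presheaf.stalk z')
      (RingHom.ker (Cyc.specMap x' z' hz'x')).primeCompl_le_nonZeroDivisors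
  haveI : IsIntegrallyClosed ((Curv2.bc k X K).presheaf.stalk z') :=
    isIntegrallyClosed_of_isLocalization ((Curv2.bc k X K).presheaf.stalk z')
      (RingHom.ker (Cyc.specMap x' z' hz'x')).primeCompl
      (RingHom.ker (Cyc.specMap x' z' hz'x')).primeCompl_le_nonZeroDivisors
  exact Groth.Agent.SerreLib.regular_of_normal_of_dim_le_one _
    ((dim_stalk_bc_le k X K z z' hz').trans hdimz)

/-- **Pointwise criterion for geometric normality.** -/
theorem gnfin_iff (x : X) :
    GNfin k X x ↔
      (LocCoh.HasSk 2 (X.presheaf.stalk x) (X.presheaf.stalk x) ∧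
        ∀ z : X, z ⤳ x → ¬ 2 ≤ LocCoh.depth (X.presheaf.stalk z) (X.presheaf.stalk z) →
          z ∈ (X ↘ Spec (CommRingCat.of k)).smoothLocus) :=
  ⟨normal_forward k X x, fun h => normal_backward k X x h.1 h.2⟩

end Groth.Agent.Lib.FibGNormH5
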