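import Mathlib
import Groth.Agent.Lib.FibSk6_helper5
import Groth.Agent.S0386

/-!
# Fibrewise (S_k), part 7: the non-flat case of EGA IV 12.1.6 (helper5)

* `isOpen_flat_fibSk`: for `f` locally of finite presentation, the set of points at which `f` is
  flat and the fibre satisfies `(S_k)` is open.

APPEND-ONLY once landed.
-/

set_option autoImplicit false

namespace Groth.Agent.Lib.FibSkH5

open AlgebraicGeometry CategoryTheory TopologicalSpace

universe u

theorem isOpen_flat_fibSk {X Y : Scheme.{u}} (f : X ⟶ Y) [LocallyOfFinitePresentation f]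
    (k : ℕ) : IsOpen {x : X | (f.stalkMap x).hom.Flat ∧ FibSk k f x} := by
  have hopen := Groth.Agent.S0386.result f
  let U : X.Opens := ⟨{x : X | (f.stalkMap x).hom.Flat}, hopen⟩
  haveI : Flat (U.ι ≫ f) := by
    apply Flat.of_stalkMap
    intro u
    rw [Scheme.Hom.stalkMap_comp]
    have h1 : (f.stalkMap (U.ι u)).hom.Flat := u.2
    exact RingHom.Flat.comp h1 (Flat.stalkMap U.ι u)
  have h2 := fibSk_isOpen k (U.ι ≫ f)
  have hset : {x : X | (f.stalkMap x).hom.Flat ∧ FibSk k f x} =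
      U.ι '' {u : (U : Scheme.{u}) | FibSk k (U.ι ≫ f) u} := by
    ext x
    constructor
    · rintro ⟨hfl, hsk⟩
      exact ⟨⟨x, hfl⟩, (fibSk_loc k f U.ι ⟨x, hfl⟩).2 hsk, rfl⟩
    · rintro ⟨u, hu, rfl⟩
      exact ⟨u.2, (fibSk_loc k f U.ι u).1 hu⟩
  rw [hset]
  exact U.ι.isOpenEmbedding.isOpenMap _ h2

end Groth.Agent.Lib.FibSkH5
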