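/-
helper5: the non-flat versions (restriction to the open flat locus) of the openness results of
FibGRed3: `DepthAlongNS`, `depthAlongNS_loc`, `isOpen_flat_depthAlongNS`, `isOpen_flat_geomReducedAt`.
APPEND-ONLY once landed.
-/
import Mathlib
import Groth.Agent.Lib.FibGRed3_helper5
import Groth.Agent.Lib.FibSk7_helper5

set_option autoImplicit false
set_option linter.unusedSectionVars false
universe u

open CategoryTheory CategoryTheory.Limits AlgebraicGeometry TopologicalSpace
open Groth.Agent.Lib.FibSkH5 Groth.Agent.FibMapFlat Groth.Agent.FibNoeth Groth.Agent.CMLocusBC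

namespace Groth.Agent.Lib.FibGRedH5

/-- the local rings of the fibre at all non-smooth generizations of `x` in its fibre have depth `≥ n` -/
def DepthAlongNS (n : ℕ) {X Y : Scheme.{u}} (f : X ⟶ Y) [LocallyOfFinitePresentation f]
    (x : X) : Prop :=
  ∀ z : X, z ⤳ x → f.base z = f.base x → z ∈ ((f.smoothLocus : Set X))ᶜ →
    (n : ℕ∞) ≤ LocCoh.depth ((f.fiber (f.base z)).presheaf.stalk (f.asFiber z))
      ((f.fiber (f.base z)).presheaf.stalk (f.asFiber z))

/-- the local ring of the fibre is insensitive to restriction to an open subscheme -/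
theorem nonempty_fibStalk_loc_equiv {X S U : Scheme.{u}} (f : X ⟶ S) [LocallyOfFiniteType f]
    (j : U ⟶ X) [IsOpenImmersion j] (u : U) :
    Nonempty ((f.fiber (f.base (j.base u))).presheaf.stalk (f.asFiber (j.base u)) ≃+*
      ((j ≫ f).fiber ((j ≫ f).base u)).presheaf.stalk ((j ≫ f).asFiber u)) := by
  haveI : IsOpenImmersion (fibComp f j ((j ≫ f) u)) :=
    MorphismProperty.of_isPullback (P := @IsOpenImmersion)
      (isPullback_fibComp f j ((j ≫ f) u)).flip inferInstance
  have hpt : (f.fiberι ((j ≫ f) u)) (fibComp f j ((j ≫ f) u) ((j ≫ f).asFiber u)) = j u := by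
    rw [← Scheme.Hom.comp_apply, fibComp_fiberι, Scheme.Hom.comp_apply,
      Scheme.Hom.fiberι_asFiber]
  obtain ⟨e⟩ := fiberStalk_transport_equiv f ((j ≫ f) u)
    (fibComp f j ((j ≫ f) u) ((j ≫ f).asFiber u)) (j u) hpt
  let σ : (f.fiber ((j ≫ f) u)).presheaf.stalk
        (fibComp f j ((j ≫ f) u) ((j ≫ f).asFiber u)) ≃+*
      ((j ≫ f).fiber ((j ≫ f) u)).presheaf.stalk ((j ≫ f).asFiber u) :=
    (asIso ((fibComp f j ((j ≫ f) u)).stalkMap ((j ≫ f).asFiber u))).commRingCatIsoToRingEquiv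
  exact ⟨e.trans σ⟩

theorem depthAlongNS_loc (n : ℕ) {X S U : Scheme.{u}} (f : X ⟶ S)
    [LocallyOfFinitePresentation f] (j : U ⟶ X) [IsOpenImmersion j] (u : U) :
    DepthAlongNS n (j ≫ f) u ↔ DepthAlongNS n f (j.base u) := by
  have hsm : ∀ w : U, w ∈ (j ≫ f).smoothLocus ↔ j.base w ∈ f.smoothLocus := by
    intro w
    rw [← Scheme.Hom.preimage_smoothLocus_eq j f]
    rfl
  have hdepth : ∀ w : U,
      LocCoh.depth (((j ≫ f).fiber ((j ≫ f).base w)).presheaf.stalk ((j ≫ f).asFiber w))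
        (((j ≫ f).fiber ((j ≫ f).base w)).presheaf.stalk ((j ≫ f).asFiber w)) =
      LocCoh.depth ((f.fiber (f.base (j.base w))).presheaf.stalk (f.asFiber (j.base w)))
        ((f.fiber (f.base (j.base w))).presheaf.stalk (f.asFiber (j.base w))) := by
    intro w
    obtain ⟨σ⟩ := nonempty_fibStalk_loc_equiv f j w
    haveI : IsLocallyNoetherian (f.fiber (f.base (j.base w))) := isLocallyNoetherian_fiber f _
    haveI : LocallyOfFiniteType (j ≫ f) := inferInstance
    haveI : IsLocallyNoetherian ((j ≫ f).fiber ((j ≫ f).base w)) :=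
      isLocallyNoetherian_fiber (j ≫ f) _
    exact (Groth.Agent.SerreLib.depth_eq_of_ringEquiv _ _ σ).symm
  constructor
  · intro h z hz hfz hzZ
    have hzr : z ∈ Set.range j.base :=
      hz.mem_open j.isOpenEmbedding.isOpen_range ⟨u, rfl⟩
    obtain ⟨w, rfl⟩ := hzr
    have hw : w ⤳ u := j.isOpenEmbedding.isInducing.specializes_iff.mp hz
    have hwZ : w ∈ (((j ≫ f).smoothLocus : Set U))ᶜ := by
      intro hw'
      exact hzZ ((hsm w).mp hw')
    have := h w hw hfz hwZ
    rw [hdepth] at this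
    exact this
  · intro h w hw hfw hwZ
    have hwZ' : j.base w ∈ ((f.smoothLocus : Set X))ᶜ := by
      intro hw'
      exact hwZ ((hsm w).mpr hw')
    have := h (j.base w) (hw.map j.continuous) hfw hwZ'
    rw [hdepth]
    exact this

theorem isOpen_flat_depthAlongNS (n : ℕ) {X Y : Scheme.{u}} (f : X ⟶ Y)
    [LocallyOfFinitePresentation f] :
    IsOpen {x : X | (f.stalkMap x).hom.Flat ∧ DepthAlongNS n f x} := by
  have hopen := Groth.Agent.S0386.result f
  let U : X.Opens := ⟨{x : X | (f.stalkMap x).hom.Flat}, hopen⟩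
  haveI : Flat (U.ι ≫ f) := by
    apply Flat.of_stalkMap
    intro u
    rw [Scheme.Hom.stalkMap_comp]
    have h1 : (f.stalkMap (U.ι u)).hom.Flat := u.2
    exact RingHom.Flat.comp h1 (Flat.stalkMap U.ι u)
  have h2 : IsOpen {u : (U : Scheme.{u}) | DepthAlongNS n (U.ι ≫ f) u} :=
    isOpen_depthAlongRing (U.ι ≫ f) _ (U.ι ≫ f).smoothLocus.isOpen.isClosed_compl n
  have hset : {x : X | (f.stalkMap x).hom.Flat ∧ DepthAlongNS n f x} =
      U.ι '' {u : (U : Scheme.{u}) | DepthAlongNS n (U.ι ≫ f) u} := by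
    ext x
    constructor
    · rintro ⟨hfl, hd⟩
      exact ⟨⟨x, hfl⟩, (depthAlongNS_loc n f U.ι ⟨x, hfl⟩).2 hd, rfl⟩
    · rintro ⟨u, hu, rfl⟩
      exact ⟨u.2, (depthAlongNS_loc n f U.ι u).1 hu⟩
  rw [hset]
  exact U.ι.isOpenEmbedding.isOpenMap _ h2

/-- **EGA IV 12.1.6-type**: for `f` locally of finite presentation the set of points at which `f` is
flat and the fibre is geometrically reduced is open. -/
theorem isOpen_flat_geomReducedAt {X Y : Scheme.{u}} (f : X ⟶ Y) [LocallyOfFinitePresentation f] :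
    IsOpen {x : X | (f.stalkMap x).hom.Flat ∧
      FBase.IsGeomReducedAt (f.fiberToSpecResidueField (f.base x)) (f.asFiber x)} := by
  have hopen := Groth.Agent.S0386.result f
  have hset : {x : X | (f.stalkMap x).hom.Flat ∧
      FBase.IsGeomReducedAt (f.fiberToSpecResidueField (f.base x)) (f.asFiber x)} =
      {x : X | (f.stalkMap x).hom.Flat ∧ FibSk 1 f x} ∩
        {x : X | (f.stalkMap x).hom.Flat ∧ DepthAlongNS 1 f x} := by
    ext x
    constructor
    · rintro ⟨hfl, hgr⟩
      have hfl' : ∀ z : X, z ⤳ x → (f.stalkMap z).hom.Flat := fun z hz => hz.mem_open hopen hfl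
      obtain ⟨h1, h2⟩ := (geomReducedAt_fibre_iff f x hfl').mp hgr
      exact ⟨⟨hfl, h1⟩, ⟨hfl, h2⟩⟩
    · rintro ⟨⟨hfl, h1⟩, ⟨-, h2⟩⟩
      have hfl' : ∀ z : X, z ⤳ x → (f.stalkMap z).hom.Flat := fun z hz => hz.mem_open hopen hfl
      exact ⟨hfl, (geomReducedAt_fibre_iff f x hfl').mpr ⟨h1, h2⟩⟩
  rw [hset]
  exact (isOpen_flat_fibSk f 1).inter (isOpen_flat_depthAlongNS 1 f)

end Groth.Agent.Lib.FibGRedH5
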