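/-
helper5: geometric normality in flat families (EGA IV 12.1.1 (vi), 12.1.6, 12.2.4 (iv)-type):
`FibGN`, `fibGN_iff`, `isOpen_flat_fibGN`, `isOpen_proper_fibGN`.  APPEND-ONLY once landed.
-/
import Mathlib
import Groth.Agent.Lib.FibGNorm4_helper5
import Groth.Agent.Lib.FibGRed4_helper5

set_option autoImplicit false
set_option linter.unusedSectionVars false
universe u

open scoped TensorProduct
open CategoryTheory CategoryTheory.Limits AlgebraicGeometry TopologicalSpace
open Groth.Agent.Lib.FibSkH5 Groth.Agent.Lib.FibPdH5 Groth.Agent.Lib.FibAssH5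
  Groth.Agent.Lib.FibGRedH5

namespace Groth.Agent.Lib.FibGNormH5

variable {X Y : Scheme.{u}} (f : X ⟶ Y)

/-- the fibre `X_y` is normal at all points over `z` after every finite extension of `κ(y)` -/
def FibGN (y : Y) (z : f.fiber y) : Prop :=
  ∀ (K : Type u) [Field K] [Algebra (IsLocalRing.ResidueField (Y.presheaf.stalk y)) K],
    Module.Finite (IsLocalRing.ResidueField (Y.presheaf.stalk y)) K →
    ∀ x' : ↥(FBase.bc (f.fiberToSpecResidueField y) K),
      (FBase.bcπ (f.fiberToSpecResidueField y) K).base x' = z →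
      IsDomain ((FBase.bc (f.fiberToSpecResidueField y) K).presheaf.stalk x') ∧
        IsIntegrallyClosed ((FBase.bc (f.fiberToSpecResidueField y) K).presheaf.stalk x')

/-- the fibrewise form of the pointwise criterion for geometric normality -/
theorem fibGN_iff [LocallyOfFinitePresentation f] (x : X)
    (hfl : ∀ z : X, z ⤳ x → (f.stalkMap z).hom.Flat) :
    FibGN f (f.base x) (f.asFiber x) ↔ (FibSk 2 f x ∧ DepthAlongNS 2 f x) := by
  letI : (f.fiber (f.base x)).Over (Spec (CommRingCat.of (Y.residueField (f.base x)))) :=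
    ⟨f.fiberToSpecResidueField (f.base x)⟩
  haveI hlfp : ∀ y : Y, LocallyOfFinitePresentation (f.fiberToSpecResidueField y) := fun y =>
    MorphismProperty.pullback_snd (P := @LocallyOfFinitePresentation) _ _ inferInstance
  haveI : LocallyOfFinitePresentation
      ((f.fiber (f.base x)) ↘ Spec (CommRingCat.of (Y.residueField (f.base x)))) := hlfp _
  have hcrit := gnfin_iff (Y.residueField (f.base x)) (f.fiber (f.base x)) (f.asFiber x)
  have h0 : FibGN f (f.base x) (f.asFiber x) ↔
      GNfin (Y.residueField (f.base x)) (f.fiber (f.base x)) (f.asFiber x) := Iff.rfl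
  rw [h0, hcrit]
  apply and_congr Iff.rfl
  have hgen := forall_generization_iff f
    (fun y z' => ¬ 2 ≤ LocCoh.depth ((f.fiber y).presheaf.stalk z') ((f.fiber y).presheaf.stalk z') →
      z' ∈ (f.fiberToSpecResidueField y).smoothLocus) x
  have hL : (∀ z : ↥(f.fiber (f.base x)), z ⤳ f.asFiber x →
      ¬ 2 ≤ LocCoh.depth ((f.fiber (f.base x)).presheaf.stalk z)
        ((f.fiber (f.base x)).presheaf.stalk z) →
      z ∈ ((f.fiber (f.base x)) ↘
        Spec (CommRingCat.of (Y.residueField (f.base x)))).smoothLocus) ↔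
      (∀ z : ↥(f.fiber (f.base x)), f.asFiber x ∈ closure ({z} : Set ↥(f.fiber (f.base x))) →
        ¬ 2 ≤ LocCoh.depth ((f.fiber (f.base x)).presheaf.stalk z)
          ((f.fiber (f.base x)).presheaf.stalk z) →
        z ∈ (f.fiberToSpecResidueField (f.base x)).smoothLocus) := by
    constructor
    · intro h z hz
      exact h z (specializes_iff_mem_closure.mpr hz)
    · intro h z hz
      exact h z (specializes_iff_mem_closure.mp hz)
  rw [hL, hgen]
  constructor
  · intro h z hz hfz hzZ
    by_contra hd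
    apply hzZ
    have hd' : ¬ 2 ≤ LocCoh.depth ((f.fiber (f.base z)).presheaf.stalk (f.asFiber z))
        ((f.fiber (f.base z)).presheaf.stalk (f.asFiber z)) := by
      intro h1
      apply hd
      exact_mod_cast h1
    have hsm := h z hz hfz hd'
    exact (Groth.Agent.Lib.UnramLocH4.main2156 f z).mpr ⟨hfl z hz, hsm⟩
  · intro h z hz hfz hd
    by_contra hsm
    apply hd
    have hzZ : z ∈ ((f.smoothLocus : Set X))ᶜ := by
      intro hz'
      exact hsm ((Groth.Agent.Lib.UnramLocH4.main2156 f z).mp hz').2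
    have := h z hz hfz hzZ
    exact_mod_cast this

/-- **EGA IV 12.1.6-type**: for `f` locally of finite presentation the set of points at which `f` is flat and
the fibre is geometrically normal is open. -/
theorem isOpen_flat_fibGN [LocallyOfFinitePresentation f] :
    IsOpen {x : X | (f.stalkMap x).hom.Flat ∧ FibGN f (f.base x) (f.asFiber x)} := by
  have hopen := Groth.Agent.S0386.result f
  have hset : {x : X | (f.stalkMap x).hom.Flat ∧ FibGN f (f.base x) (f.asFiber x)} =
      {x : X | (f.stalkMap x).hom.Flat ∧ FibSk 2 f x} ∩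
        {x : X | (f.stalkMap x).hom.Flat ∧ DepthAlongNS 2 f x} := by
    ext x
    constructor
    · rintro ⟨hfl, hgn⟩
      have hfl' : ∀ z : X, z ⤳ x → (f.stalkMap z).hom.Flat := fun z hz => hz.mem_open hopen hfl
      obtain ⟨h1, h2⟩ := (fibGN_iff f x hfl').mp hgn
      exact ⟨⟨hfl, h1⟩, ⟨hfl, h2⟩⟩
    · rintro ⟨⟨hfl, h1⟩, ⟨-, h2⟩⟩
      have hfl' : ∀ z : X, z ⤳ x → (f.stalkMap z).hom.Flat := fun z hz => hz.mem_open hopen hfl
      exact ⟨hfl, (fibGN_iff f x hfl').mpr ⟨h1, h2⟩⟩
  rw [hset]
  exact (isOpen_flat_fibSk f 2).inter (isOpen_flat_depthAlongNS 2 f)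

/-- flat case -/
theorem isOpen_fibGN [Flat f] [LocallyOfFinitePresentation f] :
    IsOpen {x : X | FibGN f (f.base x) (f.asFiber x)} := by
  have h := isOpen_flat_fibGN f
  have hset : {x : X | FibGN f (f.base x) (f.asFiber x)} =
      {x : X | (f.stalkMap x).hom.Flat ∧ FibGN f (f.base x) (f.asFiber x)} := by
    ext x
    exact ⟨fun hx => ⟨Flat.stalkMap f x, hx⟩, fun hx => hx.2⟩
  rw [hset]
  exact h

/-- **EGA IV 12.2.4 (iv)-type**: for `f` proper, flat, of finite presentation the set of points of the base with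
geometrically normal fibre is open. -/
theorem isOpen_proper_fibGN [IsProper f] [Flat f] [LocallyOfFinitePresentation f] :
    IsOpen {y : Y | ∀ z : f.fiber y, FibGN f y z} :=
  isOpen_forall_fiber f f.isClosedMap (FibGN f) (isOpen_fibGN f)

end Groth.Agent.Lib.FibGNormH5
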