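/-
helper5: geometric normality of a scheme locally of finite type over a field, all field extensions:
`regular_bc_of_mem_smoothLocus`, `GNall`, `normal_backward_all`, `gnall_iff`.  APPEND-ONLY once landed.
-/
import Mathlib
import Groth.Agent.Lib.FibGNorm4_helper5

set_option autoImplicit false
set_option linter.unusedSectionVars false
set_option maxSynthPendingDepth 3
universe u

open scoped TensorProduct
open CategoryTheory CategoryTheory.Limits AlgebraicGeometry

attribute [local instance] Curv2.stalkAlgebra

namespace Groth.Agent.Lib.FibGNormH5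

open Groth.Agent.Lib.FibGRedH5

variable (k : Type u) [Field k] (X : Scheme.{u}) [X.Over (Spec (CommRingCat.of k))]
  [LocallyOfFinitePresentation (X ↘ Spec (CommRingCat.of k))]

/-- smooth points stay regular after an arbitrary extension of the base field
(helper3's argument for `isGeomRegularAt_of_mem_smoothLocus`, which does not use finite generation) -/
theorem regular_bc_of_mem_smoothLocus (x : X)
    (hx : x ∈ (X ↘ (Spec (CommRingCat.of k))).smoothLocus)
    (k' : Type u) [Field k'] [Algebra k k'] (x' : Curv2.bc k X k')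
    (hx' : (Curv2.bcFst k X k').base x' = x) :
    IsRegularLocalRing ((Curv2.bc k X k').presheaf.stalk x') := by
  haveI hfs : Algebra.FormallySmooth k (X.presheaf.stalk x) :=
    (Groth.Agent.Lib.GenSmoothGR2H6.mem_smoothLocus_iff k X x).1 hx
  haveI : LocallyOfFiniteType (Curv2.bcSnd k X k') := by
    show LocallyOfFiniteType (pullback.snd _ _)
    infer_instance
  haveI : IsLocallyNoetherian (Curv2.bc k X k') :=
    LocallyOfFiniteType.isLocallyNoetherian (Curv2.bcSnd k X k')
  obtain ⟨q, -, ⟨e⟩⟩ := Groth.Agent.Lib.StalkDict6H4.exists_prime k X k' x x' hx'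
  let c : (k' ⊗[k] X.presheaf.stalk x) ≃+* (X.presheaf.stalk x ⊗[k] k') :=
    (Algebra.TensorProduct.comm k k' (X.presheaf.stalk x)).toRingEquiv
  haveI hq' : (q.asIdeal.comap c).IsPrime := Ideal.comap_isPrime _ _
  let E₁ : Localization.AtPrime (q.asIdeal.comap c) ≃+*
      Localization.AtPrime q.asIdeal :=
    IsLocalization.ringEquivOfRingEquiv (Localization.AtPrime (q.asIdeal.comap c))
      (Localization.AtPrime q.asIdeal) c (c.map_primeCompl_comap_eq q.asIdeal)
  let E : Localization.AtPrime (q.asIdeal.comap c) ≃+*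
      (Curv2.bc k X k').presheaf.stalk x' := E₁.trans e
  haveI : Algebra.FormallySmooth k' (Localization.AtPrime (q.asIdeal.comap c)) :=
    Algebra.FormallySmooth.comp k' (k' ⊗[k] X.presheaf.stalk x) _
  letI algB : Algebra k' ((Curv2.bc k X k').presheaf.stalk x') :=
    (E.toRingHom.comp (algebraMap k' _)).toAlgebra
  let Ea : Localization.AtPrime (q.asIdeal.comap c) ≃ₐ[k']
      (Curv2.bc k X k').presheaf.stalk x' := { E with commutes' := fun _ => rfl }
  haveI : Algebra.FormallySmooth k' ((Curv2.bc k X k').presheaf.stalk x') :=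
    Algebra.FormallySmooth.of_equiv Ea
  exact Groth.Agent.Lib.SmoothRegFieldH3.regular_of_formallySmooth_field (k := k')

/-- `X` is normal at all points over `x` after every extension of the base field -/
def GNall (x : X) : Prop :=
  ∀ (K : Type u) [Field K] [Algebra k K],
    ∀ x' : Curv2.bc k X K, (Curv2.bcFst k X K).base x' = x →
      IsDomain ((Curv2.bc k X K).presheaf.stalk x') ∧
        IsIntegrallyClosed ((Curv2.bc k X K).presheaf.stalk x')

set_option maxHeartbeats 800000 in
/-- `(S_2)` and smoothness at the generizations of depth `≤ 1` give normality after all extensions -/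
theorem normal_backward_all (x : X)
    (h2 : LocCoh.HasSk 2 (X.presheaf.stalk x) (X.presheaf.stalk x))
    (hsm : ∀ z : X, z ⤳ x → ¬ 2 ≤ LocCoh.depth (X.presheaf.stalk z) (X.presheaf.stalk z) →
      z ∈ (X ↘ Spec (CommRingCat.of k)).smoothLocus) :
    GNall k X x := by
  intro K _ _ x' hx'
  subst hx'
  haveI : IsLocallyNoetherian X := isLocallyNoetherian_of_lfp k X inferInstance
  haveI : LocallyOfFiniteType (Curv2.bcSnd k X K) := by
    show LocallyOfFiniteType (pullback.snd _ _)
    infer_instance
  haveI : IsLocallyNoetherian (Curv2.bc k X K) :=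
    LocallyOfFiniteType.isLocallyNoetherian (Curv2.bcSnd k X K)
  have hS2 : LocCoh.HasSk 2 ((Curv2.bc k X K).presheaf.stalk x')
      ((Curv2.bc k X K).presheaf.stalk x') :=
    (Groth.Agent.Lib.FibSkH5.hasSk_stalk_iff_of_flat (Curv2.bcFst k X K)
      (fun w' => isCM_stalk_fiber_bcFst k X K _ _) 2 x').mpr h2
  have hR1 : LocCoh.HasRk 1 ((Curv2.bc k X K).presheaf.stalk x') := by
    intro P' hP' hht
    set q : PrimeSpectrum ((Curv2.bc k X K).presheaf.stalk x') := ⟨P', hP'⟩ with hq
    set z' : Curv2.bc k X K := ((Curv2.bc k X K).fromSpecStalk x')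
      (q : ↥(Spec ((Curv2.bc k X K).presheaf.stalk x'))) with hz'
    have hz'x' : z' ⤳ x' := by
      have h1 : z' ∈ Set.range ((Curv2.bc k X K).fromSpecStalk x') := ⟨q, rfl⟩
      rw [Scheme.range_fromSpecStalk] at h1
      exact h1
    letI : Algebra ((Curv2.bc k X K).presheaf.stalk x') ((Curv2.bc k X K).presheaf.stalk z') :=
      ((Curv2.bc k X K).presheaf.stalkSpecializes hz'x').hom.toAlgebra
    haveI hloc : IsLocalization.AtPrime ((Curv2.bc k X K).presheaf.stalk z') P' :=
      isLocalization_fromSpecStalk (Curv2.bc k X K) x' q hz'x'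
    have hdim : ringKrullDim ((Curv2.bc k X K).presheaf.stalk z') = P'.height :=
      IsLocalization.AtPrime.ringKrullDim_eq_height P' _
    have hzx : (Curv2.bcFst k X K).base z' ⤳ (Curv2.bcFst k X K).base x' :=
      hz'x'.map (Curv2.bcFst k X K).continuous
    have hd : ¬ 2 ≤ LocCoh.depth (X.presheaf.stalk ((Curv2.bcFst k X K).base z'))
        (X.presheaf.stalk ((Curv2.bcFst k X K).base z')) := by
      intro h2le
      letI : Algebra (X.presheaf.stalk ((Curv2.bcFst k X K).base z'))
          ((Curv2.bc k X K).presheaf.stalk z') := ((Curv2.bcFst k X K).stalkMap z').hom.toAlgebra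
      haveI : Module.Flat (X.presheaf.stalk ((Curv2.bcFst k X K).base z'))
          ((Curv2.bc k X K).presheaf.stalk z') := Flat.stalkMap (Curv2.bcFst k X K) z'
      haveI : IsLocalHom (algebraMap (X.presheaf.stalk ((Curv2.bcFst k X K).base z'))
          ((Curv2.bc k X K).presheaf.stalk z')) :=
        inferInstanceAs (IsLocalHom ((Curv2.bcFst k X K).stalkMap z').hom)
      have h3 := depth_le_depth_of_flat_local (X.presheaf.stalk ((Curv2.bcFst k X K).base z'))
        ((Curv2.bc k X K).presheaf.stalk z')
      have h4 := Groth.Agent.FlatCM.depth_le_dim ((Curv2.bc k X K).presheaf.stalk z')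
      rw [hdim] at h4
      have h5 : (2 : ℕ∞) ≤ P'.height := by
        have : ((2 : ℕ∞) : WithBot ℕ∞) ≤ (P'.height : WithBot ℕ∞) :=
          le_trans (by exact_mod_cast (h2le.trans h3)) h4
        exact_mod_cast this
      have h6 : (2 : ℕ∞) ≤ 1 := h5.trans (by exact_mod_cast hht)
      exact absurd h6 (by norm_num)
    have hsmz := hsm _ hzx hd
    have hreg : IsRegularLocalRing ((Curv2.bc k X K).presheaf.stalk z') :=
      regular_bc_of_mem_smoothLocus k X _ hsmz K z' rfl
    let e : Localization.AtPrime P' ≃ₐ[(Curv2.bc k X K).presheaf.stalk x']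
        (Curv2.bc k X K).presheaf.stalk z' := IsLocalization.algEquiv P'.primeCompl _ _
    exact IsRegularLocalRing.of_ringEquiv e.symm.toRingEquiv
  obtain ⟨hdom, hic⟩ := Groth.Agent.SerreLib.normal_of_R1_S2_local _ hR1 hS2
  exact ⟨hdom, hic⟩

/-- **Pointwise criterion for geometric normality (all field extensions).** -/
theorem gnall_iff (x : X) :
    GNall k X x ↔
      (LocCoh.HasSk 2 (X.presheaf.stalk x) (X.presheaf.stalk x) ∧
        ∀ z : X, z ⤳ x → ¬ 2 ≤ LocCoh.depth (X.presheaf.stalk z) (X.presheaf.stalk z) →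
          z ∈ (X ↘ Spec (CommRingCat.of k)).smoothLocus) :=
  ⟨fun h => (gnfin_iff k X x).mp (fun K _ _ _ x' hx' => h K x' hx'),
    fun h => normal_backward_all k X x h.1 h.2⟩

/-- finite extensions suffice -/
theorem gnall_iff_gnfin (x : X) : GNall k X x ↔ GNfin k X x :=
  (gnall_iff k X x).trans (gnfin_iff k X x).symm

end Groth.Agent.Lib.FibGNormH5
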