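/-
helper5: the normality criterion `NC` (`(S_2)` + the generizations of depth `≤ 1` lie in a given "good" set) and its
invariance under flat morphisms with Cohen–Macaulay fibres / open immersions.  APPEND-ONLY once landed.
-/
import Mathlib
import Groth.Agent.Lib.FibGNorm6_helper5

set_option autoImplicit false
set_option linter.unusedSectionVars false
universe u

open scoped TensorProduct
open CategoryTheory CategoryTheory.Limits AlgebraicGeometry TopologicalSpace

namespace Groth.Agent.Lib.FibGNormH5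

section Ring

open Groth.Agent.FlatCM Groth.Agent.DepthLib

variable (R S : Type u) [CommRing R] [CommRing S] [Algebra R S] [IsNoetherianRing R]
  [IsNoetherianRing S] [Module.Flat R S]

/-- going down with control of the depth: over a prime `p ⊆ Q ∩ R` there is a prime `P ⊆ Q` with `P ∩ R = p` and
`depth S_P = depth R_p` -/
theorem exists_prime_depth_eq (Q : Ideal S) [Q.IsPrime] (p : Ideal R) [p.IsPrime]
    (hpQ : p ≤ Q.comap (algebraMap R S)) :
    ∃ (P : Ideal S) (_ : P.IsPrime), P ≤ Q ∧ P.comap (algebraMap R S) = p ∧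
      LocCoh.depth (Localization.AtPrime P) (Localization.AtPrime P) =
        LocCoh.depth (Localization.AtPrime p) (Localization.AtPrime p) := by
  have hle : p.map (algebraMap R S) ≤ Q := Ideal.map_le_iff_le_comap.2 hpQ
  obtain ⟨P, hP, hPQ⟩ := Ideal.exists_minimalPrimes_le hle
  haveI hPp : P.IsPrime := hP.1.1
  have hlo := liesOver_of_mem_minimalPrimes_map R S p P hP
  have hPr : P.comap (algebraMap R S) = p := hlo.over.symm
  have hP' : P ∈ ((P.comap (algebraMap R S)).map (algebraMap R S)).minimalPrimes := by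
    rw [hPr]; exact hP
  have hdim0 := Groth.Agent.FibLocH8.dim_fibLocRing_eq_zero (A := R) P hP'
  haveI := Groth.Agent.FlatCM.isNoetherianRing_fibLocRing R S P
  have hdep0 : LocCoh.depth (EGA4.FibLocRing R S P) (EGA4.FibLocRing R S P) = 0 := by
    have h1 := depth_le_dim (EGA4.FibLocRing R S P)
    rw [hdim0] at h1
    have h2 : LocCoh.depth (EGA4.FibLocRing R S P) (EGA4.FibLocRing R S P) ≤ 0 := by
      have : ((LocCoh.depth (EGA4.FibLocRing R S P) (EGA4.FibLocRing R S P) : ℕ∞) :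
          WithBot ℕ∞) ≤ ((0 : ℕ∞) : WithBot ℕ∞) := h1
      exact WithBot.coe_le_coe.1 this
    exact le_antisymm h2 zero_le
  obtain ⟨hd, -⟩ := depth_dim_localization_eq_add R S P
  rw [hdep0, add_zero] at hd
  refine ⟨P, hPp, hPQ, hPr, ?_⟩
  have tr : ∀ (r' : Ideal R) [r'.IsPrime], r' = p →
      LocCoh.depth (Localization.AtPrime r') (Localization.AtPrime r') =
        LocCoh.depth (Localization.AtPrime p) (Localization.AtPrime p) := by
    intro r' _ e
    subst e
    rfl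
  rw [hd]
  exact tr _ hPr

end Ring

section Scheme

open Groth.Agent.Lib.FibSkH5

/-- generizations lift along flat morphisms of locally noetherian schemes, with the same depth of the local ring -/
theorem exists_generization_depth_eq {W' W : Scheme.{u}} (φ : W' ⟶ W) [Flat φ]
    [IsLocallyNoetherian W'] [IsLocallyNoetherian W] (w' : W') (w1 : W) (h1 : w1 ⤳ φ w') :
    ∃ w1' : W', w1' ⤳ w' ∧ φ w1' = w1 ∧
      LocCoh.depth (W'.presheaf.stalk w1') (W'.presheaf.stalk w1') =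
        LocCoh.depth (W.presheaf.stalk w1) (W.presheaf.stalk w1) := by
  classical
  obtain ⟨V, hV, hyV, -⟩ := Opens.isBasis_iff_nbhd.mp W.isBasis_affineOpens
    (show φ w' ∈ (⊤ : W.Opens) from trivial)
  obtain ⟨U, hU, hxU, e⟩ := Opens.isBasis_iff_nbhd.mp W'.isBasis_affineOpens
    (show w' ∈ φ ⁻¹ᵁ V from hyV)
  letI algAB : Algebra Γ(W, V) Γ(W', U) := (φ.appLE V U e).hom.toAlgebra
  haveI : Module.Flat Γ(W, V) Γ(W', U) :=
    HasRingHomProperty.appLE (P := @Flat) φ inferInstance ⟨V, hV⟩ ⟨U, hU⟩ e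
  haveI : IsNoetherianRing Γ(W, V) := IsLocallyNoetherian.component_noetherian ⟨V, hV⟩
  haveI : IsNoetherianRing Γ(W', U) := IsLocallyNoetherian.component_noetherian ⟨U, hU⟩
  have hw1V : w1 ∈ V := h1.mem_open V.2 hyV
  have hcomapQ : (hU.primeIdealOf ⟨w', hxU⟩).asIdeal.comap (algebraMap Γ(W, V) Γ(W', U)) =
      (hV.primeIdealOf ⟨φ w', e hxU⟩).asIdeal := primeIdealOf_comap φ hV hU e hxU
  have hp1 : (hV.primeIdealOf ⟨w1, hw1V⟩).asIdeal ≤
      (hU.primeIdealOf ⟨w', hxU⟩).asIdeal.comap (algebraMap Γ(W, V) Γ(W', U)) := by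
    rw [hcomapQ]
    have hsp : hV.primeIdealOf ⟨w1, hw1V⟩ ⤳ hV.primeIdealOf ⟨φ w', e hxU⟩ := by
      have h2 : (hV.fromSpec (hV.primeIdealOf ⟨w1, hw1V⟩) : W) ⤳
          hV.fromSpec (hV.primeIdealOf ⟨φ w', e hxU⟩) := by
        rw [hV.fromSpec_primeIdealOf, hV.fromSpec_primeIdealOf]
        exact h1
      exact hV.fromSpec.isOpenEmbedding.isInducing.specializes_iff.mp h2
    exact (PrimeSpectrum.le_iff_specializes _ _).mpr hsp
  obtain ⟨P, hPp, hPQ, hPc, hdep⟩ := exists_prime_depth_eq Γ(W, V) Γ(W', U)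
    (hU.primeIdealOf ⟨w', hxU⟩).asIdeal (hV.primeIdealOf ⟨w1, hw1V⟩).asIdeal hp1
  set 𝔓 : PrimeSpectrum Γ(W', U) := ⟨P, hPp⟩ with h𝔓
  have hmem : (hU.fromSpec 𝔓 : W') ∈ U := by
    have : (hU.fromSpec 𝔓 : W') ∈ hU.fromSpec.opensRange := ⟨𝔓, rfl⟩
    rwa [hU.opensRange_fromSpec] at this
  have hprime : hU.primeIdealOf ⟨hU.fromSpec 𝔓, hmem⟩ = 𝔓 := by
    apply hU.fromSpec.isOpenEmbedding.injective
    rw [hU.fromSpec_primeIdealOf]
  have hφ : φ (hU.fromSpec 𝔓) = w1 := by
    have hc := primeIdealOf_comap φ hV hU e hmem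
    rw [hprime] at hc
    have h2 : hV.primeIdealOf ⟨φ (hU.fromSpec 𝔓), e hmem⟩ = hV.primeIdealOf ⟨w1, hw1V⟩ :=
      PrimeSpectrum.ext (hc.symm.trans hPc)
    have h3 := congrArg (fun t => (hV.fromSpec t : W)) h2
    simp only [hV.fromSpec_primeIdealOf] at h3
    exact h3
  refine ⟨hU.fromSpec 𝔓, ?_, hφ, ?_⟩
  · have hsp : 𝔓 ⤳ hU.primeIdealOf ⟨w', hxU⟩ := (PrimeSpectrum.le_iff_specializes _ _).mp hPQ
    have h2 := hsp.map hU.fromSpec.continuous
    rwa [hU.fromSpec_primeIdealOf] at h2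
  · letI aX : Algebra Γ(W', U) (W'.presheaf.stalk (hU.fromSpec 𝔓)) :=
      TopCat.Presheaf.algebra_section_stalk W'.presheaf (⟨hU.fromSpec 𝔓, hmem⟩ : U)
    letI aY : Algebra Γ(W, V) (W.presheaf.stalk w1) :=
      TopCat.Presheaf.algebra_section_stalk W.presheaf (⟨w1, hw1V⟩ : V)
    haveI l1 : IsLocalization.AtPrime (W'.presheaf.stalk (hU.fromSpec 𝔓)) P := by
      have := hU.isLocalization_stalk ⟨hU.fromSpec 𝔓, hmem⟩
      rw [hprime] at this
      exact this
    haveI l2 : IsLocalization.AtPrime (W.presheaf.stalk w1)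
        (hV.primeIdealOf ⟨w1, hw1V⟩).asIdeal := hV.isLocalization_stalk ⟨w1, hw1V⟩
    let e₁ : Localization.AtPrime P ≃ₐ[Γ(W', U)] W'.presheaf.stalk (hU.fromSpec 𝔓) :=
      IsLocalization.algEquiv P.primeCompl _ _
    let e₂ : Localization.AtPrime (hV.primeIdealOf ⟨w1, hw1V⟩).asIdeal ≃ₐ[Γ(W, V)]
        W.presheaf.stalk w1 :=
      IsLocalization.algEquiv (hV.primeIdealOf ⟨w1, hw1V⟩).asIdeal.primeCompl _ _
    haveI : IsNoetherianRing (Localization.AtPrime P) :=
      IsLocalization.isNoetherianRing P.primeCompl _ inferInstance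
    haveI : IsNoetherianRing (Localization.AtPrime (hV.primeIdealOf ⟨w1, hw1V⟩).asIdeal) :=
      IsLocalization.isNoetherianRing (hV.primeIdealOf ⟨w1, hw1V⟩).asIdeal.primeCompl _
        inferInstance
    rw [← Groth.Agent.SerreLib.depth_eq_of_ringEquiv _ _ e₁.toRingEquiv,
      ← Groth.Agent.SerreLib.depth_eq_of_ringEquiv _ _ e₂.toRingEquiv]
    exact hdep

/-- the normality criterion at a point of a scheme `W`, relative to a "good" set `Z` -/
def NC (W : Scheme.{u}) (Z : Set W) (w : W) : Prop :=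
  LocCoh.HasSk 2 (W.presheaf.stalk w) (W.presheaf.stalk w) ∧
    ∀ w1 : W, w1 ⤳ w → ¬ 2 ≤ LocCoh.depth (W.presheaf.stalk w1) (W.presheaf.stalk w1) → w1 ∈ Z

/-- invariance of `NC` under flat morphisms with Cohen–Macaulay fibres -/
theorem nc_flat_iff {W' W : Scheme.{u}} (φ : W' ⟶ W) [Flat φ]
    [IsLocallyNoetherian W'] [IsLocallyNoetherian W]
    (hfib : ∀ w' : W', LocCoh.IsCohenMacaulayLocalRing
      ((φ.fiber (φ w')).presheaf.stalk (φ.asFiber w')))
    (Z : Set W) (w' : W') :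
    NC W' (φ ⁻¹' Z) w' ↔ NC W Z (φ w') := by
  unfold NC
  rw [hasSk_stalk_iff_of_flat φ hfib 2 w']
  apply and_congr Iff.rfl
  constructor
  · intro h w1 hw1 hd
    obtain ⟨w1', hsp, hφ, hdep⟩ := exists_generization_depth_eq φ w' w1 hw1
    have := h w1' hsp (by rw [hdep]; exact hd)
    rw [Set.mem_preimage, hφ] at this
    exact this
  · intro h w1' hw1' hd
    apply h (φ w1') (hw1'.map φ.continuous)
    intro h2
    apply hd
    letI : Algebra (W.presheaf.stalk (φ w1')) (W'.presheaf.stalk w1') :=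
      (φ.stalkMap w1').hom.toAlgebra
    haveI : Module.Flat (W.presheaf.stalk (φ w1')) (W'.presheaf.stalk w1') := Flat.stalkMap φ w1'
    haveI : IsLocalHom (algebraMap (W.presheaf.stalk (φ w1')) (W'.presheaf.stalk w1')) :=
      inferInstanceAs (IsLocalHom (φ.stalkMap w1').hom)
    exact h2.trans (depth_le_depth_of_flat_local (W.presheaf.stalk (φ w1'))
      (W'.presheaf.stalk w1'))

/-- invariance of `NC` under open immersions -/
theorem nc_openImm_iff {W' W : Scheme.{u}} (ψ : W' ⟶ W) [IsOpenImmersion ψ]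
    [IsLocallyNoetherian W'] [IsLocallyNoetherian W] (Z : Set W) (w' : W') :
    NC W' (ψ ⁻¹' Z) w' ↔ NC W Z (ψ w') := by
  have hσ : ∀ t : W', Nonempty (W.presheaf.stalk (ψ t) ≃+* W'.presheaf.stalk t) := fun t =>
    ⟨(asIso (ψ.stalkMap t)).commRingCatIsoToRingEquiv⟩
  have hdepth : ∀ t : W', LocCoh.depth (W.presheaf.stalk (ψ t)) (W.presheaf.stalk (ψ t)) =
      LocCoh.depth (W'.presheaf.stalk t) (W'.presheaf.stalk t) := by
    intro t
    obtain ⟨σ⟩ := hσ t
    exact Groth.Agent.SerreLib.depth_eq_of_ringEquiv _ _ σ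
  unfold NC
  obtain ⟨σ⟩ := hσ w'
  refine and_congr ⟨hasSk_of_ringEquiv' σ.symm 2, hasSk_of_ringEquiv' σ 2⟩ ?_
  constructor
  · intro h w1 hw1 hd
    have hr : w1 ∈ Set.range ψ := hw1.mem_open ψ.isOpenEmbedding.isOpen_range ⟨w', rfl⟩
    obtain ⟨w1', rfl⟩ := hr
    have hsp : w1' ⤳ w' := ψ.isOpenEmbedding.isInducing.specializes_iff.mp hw1
    exact h w1' hsp (by rw [← hdepth]; exact hd)
  · intro h w1' hw1' hd
    exact h (ψ w1') (hw1'.map ψ.continuous) (by rw [hdepth]; exact hd)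

end Scheme

end Groth.Agent.Lib.FibGNormH5
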