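/-
helper5: the fibrewise normality criterion `FibNC` is a fibrewise property in the sense of helper8's `IsFibrewise`;
local constructibility of the fibrewise geometrically normal locus (EGA IV 9.9.4-type, S3455).  APPEND-ONLY once landed.
-/
import Mathlib
import Groth.Agent.Lib.FibGNorm7_helper5
import Groth.Agent.Lib.FibGNorm5_helper5
import Groth.Agent.Lib.FibCons4_helper8

set_option autoImplicit false
set_option linter.unusedSectionVars false
universe u

open scoped TensorProduct
open CategoryTheory CategoryTheory.Limits AlgebraicGeometry TopologicalSpace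
open Groth.Agent.FibMapFlat Groth.Agent.FibNoeth Groth.Agent.CMLocusBC
  Groth.Agent.Lib.FibConsH8 Groth.Agent.Lib.FibSkH5 Groth.Agent.Lib.UnramLocH4

namespace Groth.Agent.Lib.FibGNormH5

/-- the set of points of the fibre at which the fibre is smooth over the residue field -/
def fibSmSet {X Y : Scheme.{u}} (f : X ⟶ Y) (y : Y) : Set ↥(f.fiber y) :=
  {z | ((f.fiberToSpecResidueField y).stalkMap z).hom.FormallySmooth}

/-- the normality criterion at a point of a fibre -/
def FibNCpt {X Y : Scheme.{u}} (f : X ⟶ Y) (y : Y) (z : ↥(f.fiber y)) : Prop :=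
  NC (f.fiber y) (fibSmSet f y) z

/-- the normality criterion for the fibre through `x` at `x` -/
def FibNC {X Y : Scheme.{u}} (f : X ⟶ Y) (x : X) : Prop :=
  FibNCpt f (f.base x) (f.asFiber x)

theorem fibNC_bc {X Y X' Y' : Scheme.{u}} (f : X ⟶ Y) [LocallyOfFiniteType f]
    (f' : X' ⟶ Y') (g' : X' ⟶ X) (g : Y' ⟶ Y) (hc : IsPullback g' f' f g) (x' : X') :
    FibNC f' x' ↔ FibNC f (g' x') := by
  haveI hflφ : Flat (fibMap hc (f' x')) := flat_fibMap hc (f' x')
  have hpt : (f.fiberι (g (f' x'))) (fibMap hc (f' x') (f'.asFiber x')) = g' x' := by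
    rw [fiberι_fibMap_apply, Scheme.Hom.fiberι_asFiber]
  haveI : IsLocallyNoetherian (f.fiber (g (f' x'))) := isLocallyNoetherian_fiber f _
  haveI : LocallyOfFiniteType f' :=
    MorphismProperty.of_isPullback (P := @LocallyOfFiniteType) hc inferInstance
  haveI : IsLocallyNoetherian (f'.fiber (f' x')) := isLocallyNoetherian_fiber f' (f' x')
  have sq := isPullback_fibMap hc (f' x')
  haveI : LocallyOfFiniteType (f.fiberToSpecResidueField (g (f' x'))) :=
    MorphismProperty.pullback_snd _ _ inferInstance
  haveI : LocallyOfFiniteType (f'.fiberToSpecResidueField (f' x')) :=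
    MorphismProperty.pullback_snd _ _ inferInstance
  haveI : Flat (Spec.map (g.residueFieldMap (f' x'))) := by
    rw [HasRingHomProperty.Spec_iff (P := @Flat)]
    letI := (g.residueFieldMap (f' x')).hom.toAlgebra
    show Module.Flat (Y.residueField (g (f' x'))) (Y'.residueField (f' x'))
    infer_instance
  have hpre : (fibMap hc (f' x')) ⁻¹' (fibSmSet f (g (f' x'))) = fibSmSet f' (f' x') := by
    ext z1'
    exact (stalk_smooth_iff_of_isPullback_of_flat sq z1').symm
  have key := nc_flat_iff (fibMap hc (f' x'))
    (fun w' => isCM_stalk_fiber_fibMap' hc (f' x') (fibMap hc (f' x') w')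
      ((fibMap hc (f' x')).asFiber w')) (fibSmSet f (g (f' x'))) (f'.asFiber x')
  rw [hpre] at key
  have htr := fiber_point_transport f (FibNCpt f) (g (f' x'))
    (fibMap hc (f' x') (f'.asFiber x'))
  rw [hpt] at htr
  exact key.trans htr

theorem fibNC_loc {X S U : Scheme.{u}} (f : X ⟶ S) [LocallyOfFiniteType f] (j : U ⟶ X)
    [IsOpenImmersion j] (u : U) : FibNC (j ≫ f) u ↔ FibNC f (j u) := by
  haveI : IsOpenImmersion (fibComp f j ((j ≫ f) u)) :=
    MorphismProperty.of_isPullback (P := @IsOpenImmersion)
      (isPullback_fibComp f j ((j ≫ f) u)).flip inferInstance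
  have hpt : (f.fiberι ((j ≫ f) u)) (fibComp f j ((j ≫ f) u) ((j ≫ f).asFiber u)) = j u := by
    rw [← Scheme.Hom.comp_apply, fibComp_fiberι, Scheme.Hom.comp_apply,
      Scheme.Hom.fiberι_asFiber]
  haveI : IsLocallyNoetherian (f.fiber ((j ≫ f) u)) := isLocallyNoetherian_fiber f _
  haveI : IsLocallyNoetherian ((j ≫ f).fiber ((j ≫ f) u)) := isLocallyNoetherian_fiber (j ≫ f) _
  have hpre : (fibComp f j ((j ≫ f) u)) ⁻¹' (fibSmSet f ((j ≫ f) u)) =
      fibSmSet (j ≫ f) ((j ≫ f) u) := by
    ext z
    have h1 := stalk_transfer RingHom.FormallySmooth.respectsIso (fibComp f j ((j ≫ f) u))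
      (f.fiberToSpecResidueField ((j ≫ f) u)) ((j ≫ f).fiberToSpecResidueField ((j ≫ f) u)) (𝟙 _)
      (by rw [fibComp_toSpec, Category.comp_id]) z
    exact h1.symm
  have key := nc_openImm_iff (fibComp f j ((j ≫ f) u)) (fibSmSet f ((j ≫ f) u))
    ((j ≫ f).asFiber u)
  rw [hpre] at key
  have htr := fiber_point_transport f (FibNCpt f) ((j ≫ f) u)
    (fibComp f j ((j ≫ f) u) ((j ≫ f).asFiber u))
  rw [hpt] at htr
  exact key.trans htr

/-- the criterion is equivalent to geometric normality of the fibre (all extensions of the residue field) -/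
theorem fibNC_iff_gnall {X Y : Scheme.{u}} (f : X ⟶ Y) [LocallyOfFinitePresentation f] (x : X) :
    FibNC f x ↔
      ∀ (K : Type u) [Field K] [Algebra (IsLocalRing.ResidueField (Y.presheaf.stalk (f.base x))) K]
        (x' : ↥(FBase.bc (f.fiberToSpecResidueField (f.base x)) K)),
        (FBase.bcπ (f.fiberToSpecResidueField (f.base x)) K).base x' = f.asFiber x →
          (IsDomain ((FBase.bc (f.fiberToSpecResidueField (f.base x)) K).presheaf.stalk x') ∧
            IsIntegrallyClosed
              ((FBase.bc (f.fiberToSpecResidueField (f.base x)) K).presheaf.stalk x')) := by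
  letI : (f.fiber (f.base x)).Over (Spec (CommRingCat.of (Y.residueField (f.base x)))) :=
    ⟨f.fiberToSpecResidueField (f.base x)⟩
  haveI : LocallyOfFinitePresentation
      ((f.fiber (f.base x)) ↘ Spec (CommRingCat.of (Y.residueField (f.base x)))) :=
    MorphismProperty.pullback_snd (P := @LocallyOfFinitePresentation) _ _ inferInstance
  have hcrit := gnall_iff (Y.residueField (f.base x)) (f.fiber (f.base x)) (f.asFiber x)
  exact hcrit.symm

/-- the criterion is equivalent to geometric normality of the fibre (finite extensions of the residue field) -/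
theorem fibNC_iff_fibGN {X Y : Scheme.{u}} (f : X ⟶ Y) [LocallyOfFinitePresentation f] (x : X) :
    FibNC f x ↔ FibGN f (f.base x) (f.asFiber x) := by
  letI : (f.fiber (f.base x)).Over (Spec (CommRingCat.of (Y.residueField (f.base x)))) :=
    ⟨f.fiberToSpecResidueField (f.base x)⟩
  haveI : LocallyOfFinitePresentation
      ((f.fiber (f.base x)) ↘ Spec (CommRingCat.of (Y.residueField (f.base x)))) :=
    MorphismProperty.pullback_snd (P := @LocallyOfFinitePresentation) _ _ inferInstance
  have hcrit := gnfin_iff (Y.residueField (f.base x)) (f.fiber (f.base x)) (f.asFiber x)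
  exact hcrit.symm

theorem fibNC_isOpen {X S : Scheme.{u}} (f : X ⟶ S) [Flat f] [LocallyOfFinitePresentation f] :
    IsOpen {x : X | FibNC f x} := by
  have h := isOpen_fibGN f
  have hset : {x : X | FibNC f x} = {x : X | FibGN f (f.base x) (f.asFiber x)} := by
    ext x
    exact fibNC_iff_fibGN f x
  rw [hset]
  exact h

theorem isFibrewise_fibNC : IsFibrewise.{u} (fun {X S} f x => FibNC f x) where
  bc f _ f' g' g hc x' := fibNC_bc f f' g' g hc x'
  loc f _ j _ u := fibNC_loc f j u
  isOpen f _ _ := fibNC_isOpen f

/-- **EGA IV 9.9.4-type**: the fibrewise geometrically normal locus of a morphism locally of finite presentation is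
locally constructible. -/
theorem main3455 {X S : Scheme.{u}} (f : X ⟶ S) [LocallyOfFinitePresentation f] :
    Topology.IsLocallyConstructible {x : X |
      ∀ (K : Type u) [Field K] [Algebra (IsLocalRing.ResidueField (S.presheaf.stalk (f.base x))) K]
        (x' : ↥(FBase.bc (f.fiberToSpecResidueField (f.base x)) K)),
        (FBase.bcπ (f.fiberToSpecResidueField (f.base x)) K).base x' = f.asFiber x →
          (IsDomain ((FBase.bc (f.fiberToSpecResidueField (f.base x)) K).presheaf.stalk x') ∧
            IsIntegrallyClosed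
              ((FBase.bc (f.fiberToSpecResidueField (f.base x)) K).presheaf.stalk x'))} := by
  have h := isLocallyConstructible isFibrewise_fibNC f
  have hset : {x : X | FibNC f x} = {x : X |
      ∀ (K : Type u) [Field K] [Algebra (IsLocalRing.ResidueField (S.presheaf.stalk (f.base x))) K]
        (x' : ↥(FBase.bc (f.fiberToSpecResidueField (f.base x)) K)),
        (FBase.bcπ (f.fiberToSpecResidueField (f.base x)) K).base x' = f.asFiber x →
          (IsDomain ((FBase.bc (f.fiberToSpecResidueField (f.base x)) K).presheaf.stalk x') ∧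
            IsIntegrallyClosed
              ((FBase.bc (f.fiberToSpecResidueField (f.base x)) K).presheaf.stalk x'))} := by
    ext x
    exact fibNC_iff_gnall f x
  rw [← hset]
  exact h

end Groth.Agent.Lib.FibGNormH5
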