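import Mathlib
import Groth.Prelude.Def_CInt
import Groth.Agent.Lib.FibMapFlat_helper5

/-!
# Relative codimension under base change (helper5): S14105
APPEND-ONLY once landed.
-/

set_option autoImplicit false
universe u

namespace Groth.Agent.FibBaseChangeDim

open AlgebraicGeometry CategoryTheory Limits IsLocalRing
open Groth.Agent.FibStalkDimH8 FibRedH8 Groth.Agent.FibStalkIso Groth.Agent.FibStalkCM
open Groth.Agent.FibMapFlat Groth.Agent.FibStalkDim2

theorem dim_le_of_flat_local (A B : Type u) [CommRing A] [CommRing B] [IsLocalRing A]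
    [IsLocalRing B] [IsNoetherianRing A] [IsNoetherianRing B] [Algebra A B]
    [IsLocalHom (algebraMap A B)] [Module.Flat A B] : ringKrullDim A ≤ ringKrullDim B := by
  rw [Groth.Agent.FlatCM.dim_eq_add A B]
  exact le_add_of_nonneg_right ringKrullDim_nonneg_of_nontrivial

theorem isNoetherianRing_fiberStalk {X S : Scheme.{u}} [IsLocallyNoetherian X] (f : X ⟶ S)
    (x : X) : IsNoetherianRing ↑(CInt.fiberStalk f x) :=
  isNoetherianRing_of_ringEquiv _ (fibStalkEquiv f x)

section

variable {P X Y Z : Scheme.{u}} {fst : P ⟶ X} {snd : P ⟶ Y} {f : X ⟶ Z} {g : Y ⟶ Z}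
  [IsLocallyNoetherian X] [IsLocallyNoetherian P]

/-- for a cartesian square, `dim O_{X_{g y}, fst p} ≤ dim O_{P_y, p}` -/
theorem dim_fiberStalk_le_baseChange (h : IsPullback fst snd f g) (p : P) :
    ringKrullDim ↑(CInt.fiberStalk f (fst p)) ≤ ringKrullDim ↑(CInt.fiberStalk snd p) := by
  haveI hflφ : Flat (fibMap h (snd p)) := flat_fibMap h (snd p)
  have hpt : (f.fiberι (g (snd p))) (fibMap h (snd p) (snd.asFiber p)) = fst p := by
    rw [fiberι_fibMap_apply, Scheme.Hom.fiberι_asFiber]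
  obtain ⟨e⟩ := fiberStalk_transport_equiv f (g (snd p)) (fibMap h (snd p) (snd.asFiber p))
    (fst p) hpt
  letI : Algebra ((f.fiber (g (snd p))).presheaf.stalk (fibMap h (snd p) (snd.asFiber p)))
      ((snd.fiber (snd p)).presheaf.stalk (snd.asFiber p)) :=
    ((fibMap h (snd p)).stalkMap (snd.asFiber p)).hom.toAlgebra
  haveI : IsLocalHom (algebraMap
      ((f.fiber (g (snd p))).presheaf.stalk (fibMap h (snd p) (snd.asFiber p)))
      ((snd.fiber (snd p)).presheaf.stalk (snd.asFiber p))) :=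
    inferInstanceAs (IsLocalHom ((fibMap h (snd p)).stalkMap (snd.asFiber p)).hom)
  haveI : Module.Flat
      ((f.fiber (g (snd p))).presheaf.stalk (fibMap h (snd p) (snd.asFiber p)))
      ((snd.fiber (snd p)).presheaf.stalk (snd.asFiber p)) :=
    Flat.stalkMap (fibMap h (snd p)) (snd.asFiber p)
  haveI : IsNoetherianRing ↑(CInt.fiberStalk f (fst p)) := isNoetherianRing_fiberStalk f (fst p)
  haveI : IsNoetherianRing
      ((f.fiber (g (snd p))).presheaf.stalk (fibMap h (snd p) (snd.asFiber p))) :=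
    isNoetherianRing_of_ringEquiv _ e
  haveI : IsNoetherianRing ((snd.fiber (snd p)).presheaf.stalk (snd.asFiber p)) :=
    isNoetherianRing_fiberStalk snd p
  rw [ringKrullDim_eq_of_ringEquiv e]
  exact dim_le_of_flat_local _ _

/-- `dim O_{P_y,p} ≤ dim O_{X_z, fst p} + dim O_{fst⁻¹(fst p), p}` -/
theorem dim_fiberStalk_snd_le (h : IsPullback fst snd f g) (p : P) :
    ringKrullDim ↑(CInt.fiberStalk snd p) ≤
      ringKrullDim ↑(CInt.fiberStalk f (fst p)) + ringKrullDim ↑(CInt.fiberStalk fst p) := by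
  have h1 : ringKrullDim ↑(CInt.fiberStalk snd p) ≤
      ringKrullDim ↑(CInt.fiberStalk (snd ≫ g) p) := by
    have hle : fibIdeal (snd ≫ g) p ≤ fibIdeal snd p := by
      rw [fibIdeal_comp snd g p]
      exact Ideal.map_mono (fibIdeal_le g (snd p))
    rw [← ringKrullDim_eq_of_ringEquiv (fibStalkEquiv snd p),
      ← ringKrullDim_eq_of_ringEquiv (fibStalkEquiv (snd ≫ g) p)]
    exact ringKrullDim_le_of_surjective (Ideal.Quotient.factor hle)
      (Ideal.Quotient.factor_surjective hle)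
  have h2 : ringKrullDim ↑(CInt.fiberStalk (snd ≫ g) p) =
      ringKrullDim ↑(CInt.fiberStalk (fst ≫ f) p) :=
    congrArg (fun k : P ⟶ Z => ringKrullDim ↑(CInt.fiberStalk k p)) h.w.symm
  exact h1.trans (h2.le.trans (dim_comp fst f p).1)

end

theorem main14105 {X S S' : Scheme.{u}} (f : X ⟶ S) (g : S' ⟶ S)
    [IsLocallyNoetherian X] [IsLocallyNoetherian (pullback f g)] (Y : Set ↥X) :
    ((⨅ y : Y, ringKrullDim ↑(CInt.fiberStalk f y.1)) ≤
      ⨅ y' : (fun x' => (pullback.fst f g) x') ⁻¹' Y,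
        ringKrullDim ↑(CInt.fiberStalk (pullback.snd f g) y'.1)) ∧
    (Y ⊆ Set.range (pullback.fst f g).base →
      (⨅ y' : (fun x' => (pullback.fst f g) x') ⁻¹' Y,
        ringKrullDim ↑(CInt.fiberStalk (pullback.snd f g) y'.1)) =
        ⨅ y : Y, ringKrullDim ↑(CInt.fiberStalk f y.1)) := by
  have hpb : IsPullback (pullback.fst f g) (pullback.snd f g) f g := IsPullback.of_hasPullback f g
  have part1 : (⨅ y : Y, ringKrullDim ↑(CInt.fiberStalk f y.1)) ≤
      ⨅ y' : (fun x' => (pullback.fst f g) x') ⁻¹' Y,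
        ringKrullDim ↑(CInt.fiberStalk (pullback.snd f g) y'.1) := by
    refine le_iInf fun y' => ?_
    have h1 : (⨅ y : Y, ringKrullDim ↑(CInt.fiberStalk f y.1)) ≤
        ringKrullDim ↑(CInt.fiberStalk f ((pullback.fst f g) y'.1)) :=
      iInf_le (fun y : Y => ringKrullDim ↑(CInt.fiberStalk f y.1)) ⟨(pullback.fst f g) y'.1, y'.2⟩
    exact h1.trans (dim_fiberStalk_le_baseChange hpb y'.1)
  refine ⟨part1, fun hY => le_antisymm ?_ part1⟩
  refine le_iInf fun y => ?_
  obtain ⟨y₀, hy₀⟩ := hY y.2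
  haveI : Nonempty ((pullback.fst f g).fiber y.1) :=
    ⟨((pullback.fst f g).fiberHomeo y.1).symm ⟨y₀, hy₀⟩⟩
  obtain ⟨z, hz⟩ := exists_zero_dim_point ((pullback.fst f g).fiber y.1)
  have hy' : (pullback.fst f g) (((pullback.fst f g).fiberι y.1) z) = y.1 := by
    have := ((pullback.fst f g).fiberHomeo y.1 z).2
    rw [Set.mem_preimage, Set.mem_singleton_iff, Scheme.Hom.fiberHomeo_apply] at this
    exact this
  have hmem : ((pullback.fst f g).fiberι y.1) z ∈ (fun x' => (pullback.fst f g) x') ⁻¹' Y := by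
    show (pullback.fst f g) (((pullback.fst f g).fiberι y.1) z) ∈ Y
    rw [hy']
    exact y.2
  have h1 : (⨅ y' : (fun x' => (pullback.fst f g) x') ⁻¹' Y,
        ringKrullDim ↑(CInt.fiberStalk (pullback.snd f g) y'.1)) ≤
      ringKrullDim ↑(CInt.fiberStalk (pullback.snd f g) (((pullback.fst f g).fiberι y.1) z)) :=
    iInf_le (fun y' : (fun x' => (pullback.fst f g) x') ⁻¹' Y =>
      ringKrullDim ↑(CInt.fiberStalk (pullback.snd f g) y'.1))
      ⟨((pullback.fst f g).fiberι y.1) z, hmem⟩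
  refine h1.trans ((dim_fiberStalk_snd_le hpb _).trans ?_)
  rw [dim_fiberStalk_transport (pullback.fst f g) y.1 z _ rfl, hz, add_zero, hy']

end Groth.Agent.FibBaseChangeDim
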