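/-
helper5: pointwise criterion for the geometric condition (R_n) (finite extensions) on a scheme locally of
finite presentation over a field: `GRkFin`, `grkfin_iff`.  APPEND-ONLY once landed.
-/
import Mathlib
import Groth.Agent.Lib.FibGNorm6_helper5
import Groth.Agent.Lib.FibBaseChangeDim_helper5

set_option autoImplicit false
universe u

open scoped TensorProduct
open CategoryTheory CategoryTheory.Limits AlgebraicGeometry IsLocalRing

attribute [local instance] Curv2.stalkAlgebra

namespace Groth.Agent.Lib.FibRkH5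

open Groth.Agent.Lib.FibGRedH5 Groth.Agent.Lib.FibGNormH5

variable (k : Type u) [Field k] (X : Scheme.{u}) [X.Over (Spec (CommRingCat.of k))]

/-- `X` satisfies `(R_n)` at all points over `x` after every finite extension of the base field -/
def GRkFin (n : ℕ) (x : X) : Prop :=
  ∀ (K : Type u) [Field K] [Algebra k K], Module.Finite k K →
    ∀ x' : Curv2.bc k X K, (Curv2.bcFst k X K).base x' = x →
      LocCoh.HasRk n ((Curv2.bc k X K).presheaf.stalk x')

variable [LocallyOfFinitePresentation (X ↘ Spec (CommRingCat.of k))]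

set_option maxHeartbeats 800000 in
theorem grk_backward (n : ℕ) (x : X)
    (hsm : ∀ z : X, z ⤳ x → ringKrullDim (X.presheaf.stalk z) ≤ n →
      z ∈ (X ↘ Spec (CommRingCat.of k)).smoothLocus) :
    GRkFin k X n x := by
  intro K _ _ hfin x' hx'
  subst hx'
  haveI : IsLocallyNoetherian X := isLocallyNoetherian_of_lfp k X inferInstance
  haveI : LocallyOfFiniteType (Curv2.bcSnd k X K) := by
    show LocallyOfFiniteType (pullback.snd _ _)
    infer_instance
  haveI : IsLocallyNoetherian (Curv2.bc k X K) :=
    LocallyOfFiniteType.isLocallyNoetherian (Curv2.bcSnd k X K)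
  intro P' hP' hht
  set q : PrimeSpectrum ((Curv2.bc k X K).presheaf.stalk x') := ⟨P', hP'⟩ with hq
  set z' : Curv2.bc k X K := ((Curv2.bc k X K).fromSpecStalk x')
    (q : ↥(Spec ((Curv2.bc k X K).presheaf.stalk x'))) with hz'
  have hz'x' : z' ⤳ x' := by
    have h1 : z' ∈ Set.range ((Curv2.bc k X K).fromSpecStalk x') := ⟨q, rfl⟩
    rw [Scheme.range_fromSpecStalk] at h1
    exact h1
  letI : Algebra ((Curv2.bc k X K).presheaf.stalk x') ((Curv2.bc k X K).presheaf.stalk z') :=
    ((Curv2.bc k X K).presheaf.stalkSpecializes hz'x').hom.toAlgebra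
  haveI hloc : IsLocalization.AtPrime ((Curv2.bc k X K).presheaf.stalk z') P' :=
    isLocalization_fromSpecStalk (Curv2.bc k X K) x' q hz'x'
  have hdim : ringKrullDim ((Curv2.bc k X K).presheaf.stalk z') = P'.height :=
    IsLocalization.AtPrime.ringKrullDim_eq_height P' _
  have hzx : (Curv2.bcFst k X K).base z' ⤳ (Curv2.bcFst k X K).base x' :=
    hz'x'.map (Curv2.bcFst k X K).continuous
  have hd : ringKrullDim (X.presheaf.stalk ((Curv2.bcFst k X K).base z')) ≤ n := by
    letI : Algebra (X.presheaf.stalk ((Curv2.bcFst k X K).base z'))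
        ((Curv2.bc k X K).presheaf.stalk z') := ((Curv2.bcFst k X K).stalkMap z').hom.toAlgebra
    haveI : Module.Flat (X.presheaf.stalk ((Curv2.bcFst k X K).base z'))
        ((Curv2.bc k X K).presheaf.stalk z') := Flat.stalkMap (Curv2.bcFst k X K) z'
    haveI : IsLocalHom (algebraMap (X.presheaf.stalk ((Curv2.bcFst k X K).base z'))
        ((Curv2.bc k X K).presheaf.stalk z')) :=
      inferInstanceAs (IsLocalHom ((Curv2.bcFst k X K).stalkMap z').hom)
    have h3 := Groth.Agent.FibBaseChangeDim.dim_le_of_flat_local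
      (X.presheaf.stalk ((Curv2.bcFst k X K).base z')) ((Curv2.bc k X K).presheaf.stalk z')
    rw [hdim] at h3
    refine h3.trans ?_
    exact_mod_cast hht
  have hsmz := hsm _ hzx hd
  have hreg : IsRegularLocalRing ((Curv2.bc k X K).presheaf.stalk z') :=
    Groth.Agent.Lib.GeomRegSmoothH3.isGeomRegularAt_of_mem_smoothLocus k X _ hsmz K
      (IntermediateField.fg_top k K) z' rfl
  let e : Localization.AtPrime P' ≃ₐ[(Curv2.bc k X K).presheaf.stalk x']
      (Curv2.bc k X K).presheaf.stalk z' := IsLocalization.algEquiv P'.primeCompl _ _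
  exact IsRegularLocalRing.of_ringEquiv e.symm.toRingEquiv

set_option maxHeartbeats 800000 in
theorem grk_forward (n : ℕ) (x : X) (h : GRkFin k X n x) :
    ∀ z : X, z ⤳ x → ringKrullDim (X.presheaf.stalk z) ≤ n →
      z ∈ (X ↘ Spec (CommRingCat.of k)).smoothLocus := by
  haveI : IsLocallyNoetherian X := isLocallyNoetherian_of_lfp k X inferInstance
  have hNoeth : ∀ (K : Type u) [Field K] [Algebra k K], IsLocallyNoetherian (Curv2.bc k X K) := by
    intro K _ _
    haveI : LocallyOfFiniteType (Curv2.bcSnd k X K) := by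
      show LocallyOfFiniteType (pullback.snd _ _)
      infer_instance
    exact LocallyOfFiniteType.isLocallyNoetherian (Curv2.bcSnd k X K)
  intro z hzx hdimz
  apply mem_smoothLocus_of_regFin k X z
  intro K _ _ hfin z' hz'
  haveI := hfin
  haveI := hNoeth K
  haveI := isFinite_bcFst k X K
  have hcl : IsClosedMap (Curv2.bcFst k X K).base := (Curv2.bcFst k X K).isClosedMap
  obtain ⟨x', hz'x', hx'⟩ := hcl.specializingMap (a := z') (b := x) (by rw [hz']; exact hzx)
  have hRk := h K hfin x' hx'
  letI : Algebra ((Curv2.bc k X K).presheaf.stalk x') ((Curv2.bc k X K).presheaf.stalk z') :=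
    ((Curv2.bc k X K).presheaf.stalkSpecializes hz'x').hom.toAlgebra
  haveI hP : (RingHom.ker (Cyc.specMap x' z' hz'x')).IsPrime := RingHom.ker_isPrime _
  haveI hloc := StalkLoczH8.isLocalization_stalkSpecializes hz'x'
  have hdim : ringKrullDim ((Curv2.bc k X K).presheaf.stalk z') =
      (RingHom.ker (Cyc.specMap x' z' hz'x')).height :=
    IsLocalization.AtPrime.ringKrullDim_eq_height (RingHom.ker (Cyc.specMap x' z' hz'x')) _
  have hht : (RingHom.ker (Cyc.specMap x' z' hz'x')).height ≤ n := by
    have h1 := (dim_stalk_bc_le k X K z z' hz').trans hdimz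
    rw [hdim] at h1
    exact_mod_cast h1
  haveI hreg := hRk (RingHom.ker (Cyc.specMap x' z' hz'x')) hht
  let e : Localization.AtPrime (RingHom.ker (Cyc.specMap x' z' hz'x'))
      ≃ₐ[(Curv2.bc k X K).presheaf.stalk x']
      (Curv2.bc k X K).presheaf.stalk z' :=
    IsLocalization.algEquiv (RingHom.ker (Cyc.specMap x' z' hz'x')).primeCompl _ _
  exact IsRegularLocalRing.of_ringEquiv e.toRingEquiv

/-- **Pointwise criterion for the geometric condition `(R_n)`.** -/
theorem grkfin_iff (n : ℕ) (x : X) :
    GRkFin k X n x ↔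
      ∀ z : X, z ⤳ x → ringKrullDim (X.presheaf.stalk z) ≤ n →
        z ∈ (X ↘ Spec (CommRingCat.of k)).smoothLocus :=
  ⟨grk_forward k X n x, grk_backward k X n x⟩

end Groth.Agent.Lib.FibRkH5
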