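/-
helper5: geometric (R_n) after all field extensions (`GRkAll`, `grkall_iff`), the criterion `RC`
(the generizations with local ring of dimension `≤ n` lie in a given "good" set) and its invariance under flat
morphisms / open immersions.  APPEND-ONLY once landed.
-/
import Mathlib
import Groth.Agent.Lib.FibRk3_helper5
import Groth.Agent.Lib.FibGNorm7_helper5

set_option autoImplicit false
set_option linter.unusedSectionVars false
universe u

open scoped TensorProduct
open CategoryTheory CategoryTheory.Limits AlgebraicGeometry TopologicalSpace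

attribute [local instance] Curv2.stalkAlgebra

namespace Groth.Agent.Lib.FibRkH5

open Groth.Agent.Lib.FibGRedH5 Groth.Agent.Lib.FibGNormH5

section Field

variable (k : Type u) [Field k] (X : Scheme.{u}) [X.Over (Spec (CommRingCat.of k))]

/-- `X` satisfies `(R_n)` at all points over `x` after every extension of the base field -/
def GRkAll (n : ℕ) (x : X) : Prop :=
  ∀ (K : Type u) [Field K] [Algebra k K],
    ∀ x' : Curv2.bc k X K, (Curv2.bcFst k X K).base x' = x →
      LocCoh.HasRk n ((Curv2.bc k X K).presheaf.stalk x')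

variable [LocallyOfFinitePresentation (X ↘ Spec (CommRingCat.of k))]

set_option maxHeartbeats 800000 in
theorem grk_backward_all (n : ℕ) (x : X)
    (hsm : ∀ z : X, z ⤳ x → ringKrullDim (X.presheaf.stalk z) ≤ n →
      z ∈ (X ↘ Spec (CommRingCat.of k)).smoothLocus) :
    GRkAll k X n x := by
  intro K _ _ x' hx'
  subst hx'
  haveI : IsLocallyNoetherian X := isLocallyNoetherian_of_lfp k X inferInstance
  haveI : LocallyOfFiniteType (Curv2.bcSnd k X K) := by
    show LocallyOfFiniteType (pullback.snd _ _)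
    infer_instance
  haveI : IsLocallyNoetherian (Curv2.bc k X K) :=
    LocallyOfFiniteType.isLocallyNoetherian (Curv2.bcSnd k X K)
  intro P' hP' hht
  set q : PrimeSpectrum ((Curv2.bc k X K).presheaf.stalk x') := ⟨P', hP'⟩ with hq
  set z' : Curv2.bc k X K := ((Curv2.bc k X K).fromSpecStalk x')
    (q : ↥(Spec ((Curv2.bc k X K).presheaf.stalk x'))) with hz'
  have hz'x' : z' ⤳ x' := by
    have h1 : z' ∈ Set.range ((Curv2.bc k X K).fromSpecStalk x') := ⟨q, rfl⟩
    rw [Scheme.range_fromSpecStalk] at h1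
    exact h1
  letI : Algebra ((Curv2.bc k X K).presheaf.stalk x') ((Curv2.bc k X K).presheaf.stalk z') :=
    ((Curv2.bc k X K).presheaf.stalkSpecializes hz'x').hom.toAlgebra
  haveI hloc : IsLocalization.AtPrime ((Curv2.bc k X K).presheaf.stalk z') P' :=
    isLocalization_fromSpecStalk (Curv2.bc k X K) x' q hz'x'
  have hdim : ringKrullDim ((Curv2.bc k X K).presheaf.stalk z') = P'.height :=
    IsLocalization.AtPrime.ringKrullDim_eq_height P' _
  have hzx : (Curv2.bcFst k X K).base z' ⤳ (Curv2.bcFst k X K).base x' :=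
    hz'x'.map (Curv2.bcFst k X K).continuous
  have hd : ringKrullDim (X.presheaf.stalk ((Curv2.bcFst k X K).base z')) ≤ n := by
    letI : Algebra (X.presheaf.stalk ((Curv2.bcFst k X K).base z'))
        ((Curv2.bc k X K).presheaf.stalk z') := ((Curv2.bcFst k X K).stalkMap z').hom.toAlgebra
    haveI : Module.Flat (X.presheaf.stalk ((Curv2.bcFst k X K).base z'))
        ((Curv2.bc k X K).presheaf.stalk z') := Flat.stalkMap (Curv2.bcFst k X K) z'
    haveI : IsLocalHom (algebraMap (X.presheaf.stalk ((Curv2.bcFst k X K).base z'))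
        ((Curv2.bc k X K).presheaf.stalk z')) :=
      inferInstanceAs (IsLocalHom ((Curv2.bcFst k X K).stalkMap z').hom)
    have h3 := Groth.Agent.FibBaseChangeDim.dim_le_of_flat_local
      (X.presheaf.stalk ((Curv2.bcFst k X K).base z')) ((Curv2.bc k X K).presheaf.stalk z')
    rw [hdim] at h3
    refine h3.trans ?_
    exact_mod_cast hht
  have hsmz := hsm _ hzx hd
  have hreg : IsRegularLocalRing ((Curv2.bc k X K).presheaf.stalk z') :=
    regular_bc_of_mem_smoothLocus k X _ hsmz K z' rfl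
  let e : Localization.AtPrime P' ≃ₐ[(Curv2.bc k X K).presheaf.stalk x']
      (Curv2.bc k X K).presheaf.stalk z' := IsLocalization.algEquiv P'.primeCompl _ _
  exact IsRegularLocalRing.of_ringEquiv e.symm.toRingEquiv

/-- **Pointwise criterion for the geometric condition `(R_n)` (all field extensions).** -/
theorem grkall_iff (n : ℕ) (x : X) :
    GRkAll k X n x ↔
      ∀ z : X, z ⤳ x → ringKrullDim (X.presheaf.stalk z) ≤ n →
        z ∈ (X ↘ Spec (CommRingCat.of k)).smoothLocus :=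
  ⟨fun h => (grkfin_iff k X n x).mp (fun K _ _ _ x' hx' => h K x' hx'),
    fun h => grk_backward_all k X n x h⟩

end Field

section Ring

open Groth.Agent.FlatCM Groth.Agent.DepthLib

variable (R S : Type u) [CommRing R] [CommRing S] [Algebra R S] [IsNoetherianRing R]
  [IsNoetherianRing S] [Module.Flat R S]

/-- going down with control of the dimension: over a prime `p ⊆ Q ∩ R` there is a prime `P ⊆ Q` with
`P ∩ R = p` and `dim S_P = dim R_p` -/
theorem exists_prime_dim_eq (Q : Ideal S) [Q.IsPrime] (p : Ideal R) [p.IsPrime]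
    (hpQ : p ≤ Q.comap (algebraMap R S)) :
    ∃ (P : Ideal S) (_ : P.IsPrime), P ≤ Q ∧ P.comap (algebraMap R S) = p ∧
      ringKrullDim (Localization.AtPrime P) = ringKrullDim (Localization.AtPrime p) := by
  have hle : p.map (algebraMap R S) ≤ Q := Ideal.map_le_iff_le_comap.2 hpQ
  obtain ⟨P, hP, hPQ⟩ := Ideal.exists_minimalPrimes_le hle
  haveI hPp : P.IsPrime := hP.1.1
  have hlo := liesOver_of_mem_minimalPrimes_map R S p P hP
  have hPr : P.comap (algebraMap R S) = p := hlo.over.symm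
  have hP' : P ∈ ((P.comap (algebraMap R S)).map (algebraMap R S)).minimalPrimes := by
    rw [hPr]; exact hP
  have hdim0 := Groth.Agent.FibLocH8.dim_fibLocRing_eq_zero (A := R) P hP'
  obtain ⟨-, hd⟩ := depth_dim_localization_eq_add R S P
  rw [hdim0, add_zero] at hd
  refine ⟨P, hPp, hPQ, hPr, ?_⟩
  have tr : ∀ (r' : Ideal R) [r'.IsPrime], r' = p →
      ringKrullDim (Localization.AtPrime r') = ringKrullDim (Localization.AtPrime p) := by
    intro r' _ e
    subst e
    rfl
  rw [hd]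
  exact tr _ hPr

end Ring

section Scheme

open Groth.Agent.Lib.FibSkH5

set_option maxHeartbeats 800000 in
/-- generizations lift along flat morphisms of locally noetherian schemes, with the same dimension of the local ring -/
theorem exists_generization_dim_eq {W' W : Scheme.{u}} (φ : W' ⟶ W) [Flat φ]
    [IsLocallyNoetherian W'] [IsLocallyNoetherian W] (w' : W') (w1 : W) (h1 : w1 ⤳ φ w') :
    ∃ w1' : W', w1' ⤳ w' ∧ φ w1' = w1 ∧
      ringKrullDim (W'.presheaf.stalk w1') = ringKrullDim (W.presheaf.stalk w1) := by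
  classical
  obtain ⟨V, hV, hyV, -⟩ := Opens.isBasis_iff_nbhd.mp W.isBasis_affineOpens
    (show φ w' ∈ (⊤ : W.Opens) from trivial)
  obtain ⟨U, hU, hxU, e⟩ := Opens.isBasis_iff_nbhd.mp W'.isBasis_affineOpens
    (show w' ∈ φ ⁻¹ᵁ V from hyV)
  letI algAB : Algebra Γ(W, V) Γ(W', U) := (φ.appLE V U e).hom.toAlgebra
  haveI : Module.Flat Γ(W, V) Γ(W', U) :=
    HasRingHomProperty.appLE (P := @Flat) φ inferInstance ⟨V, hV⟩ ⟨U, hU⟩ e
  haveI : IsNoetherianRing Γ(W, V) := IsLocallyNoetherian.component_noetherian ⟨V, hV⟩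
  haveI : IsNoetherianRing Γ(W', U) := IsLocallyNoetherian.component_noetherian ⟨U, hU⟩
  have hw1V : w1 ∈ V := h1.mem_open V.2 hyV
  have hcomapQ : (hU.primeIdealOf ⟨w', hxU⟩).asIdeal.comap (algebraMap Γ(W, V) Γ(W', U)) =
      (hV.primeIdealOf ⟨φ w', e hxU⟩).asIdeal := primeIdealOf_comap φ hV hU e hxU
  have hp1 : (hV.primeIdealOf ⟨w1, hw1V⟩).asIdeal ≤
      (hU.primeIdealOf ⟨w', hxU⟩).asIdeal.comap (algebraMap Γ(W, V) Γ(W', U)) := by
    rw [hcomapQ]
    have hsp : hV.primeIdealOf ⟨w1, hw1V⟩ ⤳ hV.primeIdealOf ⟨φ w', e hxU⟩ := by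
      have h2 : (hV.fromSpec (hV.primeIdealOf ⟨w1, hw1V⟩) : W) ⤳
          hV.fromSpec (hV.primeIdealOf ⟨φ w', e hxU⟩) := by
        rw [hV.fromSpec_primeIdealOf, hV.fromSpec_primeIdealOf]
        exact h1
      exact hV.fromSpec.isOpenEmbedding.isInducing.specializes_iff.mp h2
    exact (PrimeSpectrum.le_iff_specializes _ _).mpr hsp
  obtain ⟨P, hPp, hPQ, hPc, hdep⟩ := exists_prime_dim_eq Γ(W, V) Γ(W', U)
    (hU.primeIdealOf ⟨w', hxU⟩).asIdeal (hV.primeIdealOf ⟨w1, hw1V⟩).asIdeal hp1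
  set 𝔓 : PrimeSpectrum Γ(W', U) := ⟨P, hPp⟩ with h𝔓
  have hmem : (hU.fromSpec 𝔓 : W') ∈ U := by
    have : (hU.fromSpec 𝔓 : W') ∈ hU.fromSpec.opensRange := ⟨𝔓, rfl⟩
    rwa [hU.opensRange_fromSpec] at this
  have hprime : hU.primeIdealOf ⟨hU.fromSpec 𝔓, hmem⟩ = 𝔓 := by
    apply hU.fromSpec.isOpenEmbedding.injective
    rw [hU.fromSpec_primeIdealOf]
  have hφ : φ (hU.fromSpec 𝔓) = w1 := by
    have hc := primeIdealOf_comap φ hV hU e hmem
    rw [hprime] at hc
    have h2 : hV.primeIdealOf ⟨φ (hU.fromSpec 𝔓), e hmem⟩ = hV.primeIdealOf ⟨w1, hw1V⟩ :=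
      PrimeSpectrum.ext (hc.symm.trans hPc)
    have h3 := congrArg (fun t => (hV.fromSpec t : W)) h2
    simp only [hV.fromSpec_primeIdealOf] at h3
    exact h3
  refine ⟨hU.fromSpec 𝔓, ?_, hφ, ?_⟩
  · have hsp : 𝔓 ⤳ hU.primeIdealOf ⟨w', hxU⟩ := (PrimeSpectrum.le_iff_specializes _ _).mp hPQ
    have h2 := hsp.map hU.fromSpec.continuous
    rwa [hU.fromSpec_primeIdealOf] at h2
  · letI aX : Algebra Γ(W', U) (W'.presheaf.stalk (hU.fromSpec 𝔓)) :=
      TopCat.Presheaf.algebra_section_stalk W'.presheaf (⟨hU.fromSpec 𝔓, hmem⟩ : U)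
    letI aY : Algebra Γ(W, V) (W.presheaf.stalk w1) :=
      TopCat.Presheaf.algebra_section_stalk W.presheaf (⟨w1, hw1V⟩ : V)
    haveI l1 : IsLocalization.AtPrime (W'.presheaf.stalk (hU.fromSpec 𝔓)) P := by
      have := hU.isLocalization_stalk ⟨hU.fromSpec 𝔓, hmem⟩
      rw [hprime] at this
      exact this
    haveI l2 : IsLocalization.AtPrime (W.presheaf.stalk w1)
        (hV.primeIdealOf ⟨w1, hw1V⟩).asIdeal := hV.isLocalization_stalk ⟨w1, hw1V⟩
    let e₁ : Localization.AtPrime P ≃ₐ[Γ(W', U)] W'.presheaf.stalk (hU.fromSpec 𝔓) :=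
      IsLocalization.algEquiv P.primeCompl _ _
    let e₂ : Localization.AtPrime (hV.primeIdealOf ⟨w1, hw1V⟩).asIdeal ≃ₐ[Γ(W, V)]
        W.presheaf.stalk w1 :=
      IsLocalization.algEquiv (hV.primeIdealOf ⟨w1, hw1V⟩).asIdeal.primeCompl _ _
    rw [← ringKrullDim_eq_of_ringEquiv e₁.toRingEquiv,
      ← ringKrullDim_eq_of_ringEquiv e₂.toRingEquiv]
    exact hdep

/-- the `(R_n)` criterion at a point of a scheme `W`, relative to a "good" set `Z` -/
def RC (n : ℕ) (W : Scheme.{u}) (Z : Set W) (w : W) : Prop :=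
  ∀ w1 : W, w1 ⤳ w → ringKrullDim (W.presheaf.stalk w1) ≤ (n : WithBot ℕ∞) → w1 ∈ Z

/-- invariance of `RC` under flat morphisms -/
theorem rc_flat_iff (n : ℕ) {W' W : Scheme.{u}} (φ : W' ⟶ W) [Flat φ]
    [IsLocallyNoetherian W'] [IsLocallyNoetherian W] (Z : Set W) (w' : W') :
    RC n W' (φ ⁻¹' Z) w' ↔ RC n W Z (φ w') := by
  unfold RC
  constructor
  · intro h w1 hw1 hd
    obtain ⟨w1', hsp, hφ, hdep⟩ := exists_generization_dim_eq φ w' w1 hw1
    have := h w1' hsp (by rw [hdep]; exact hd)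
    rw [Set.mem_preimage, hφ] at this
    exact this
  · intro h w1' hw1' hd
    apply h (φ w1') (hw1'.map φ.continuous)
    letI : Algebra (W.presheaf.stalk (φ w1')) (W'.presheaf.stalk w1') :=
      (φ.stalkMap w1').hom.toAlgebra
    haveI : Module.Flat (W.presheaf.stalk (φ w1')) (W'.presheaf.stalk w1') := Flat.stalkMap φ w1'
    haveI : IsLocalHom (algebraMap (W.presheaf.stalk (φ w1')) (W'.presheaf.stalk w1')) :=
      inferInstanceAs (IsLocalHom (φ.stalkMap w1').hom)
    exact (Groth.Agent.FibBaseChangeDim.dim_le_of_flat_local (W.presheaf.stalk (φ w1'))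
      (W'.presheaf.stalk w1')).trans hd

/-- invariance of `RC` under open immersions -/
theorem rc_openImm_iff (n : ℕ) {W' W : Scheme.{u}} (ψ : W' ⟶ W) [IsOpenImmersion ψ]
    (Z : Set W) (w' : W') :
    RC n W' (ψ ⁻¹' Z) w' ↔ RC n W Z (ψ w') := by
  have hσ : ∀ t : W', Nonempty (W.presheaf.stalk (ψ t) ≃+* W'.presheaf.stalk t) := fun t =>
    ⟨(asIso (ψ.stalkMap t)).commRingCatIsoToRingEquiv⟩
  have hdim : ∀ t : W', ringKrullDim (W.presheaf.stalk (ψ t)) =
      ringKrullDim (W'.presheaf.stalk t) := by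
    intro t
    obtain ⟨σ⟩ := hσ t
    exact ringKrullDim_eq_of_ringEquiv σ
  unfold RC
  constructor
  · intro h w1 hw1 hd
    have hr : w1 ∈ Set.range ψ := hw1.mem_open ψ.isOpenEmbedding.isOpen_range ⟨w', rfl⟩
    obtain ⟨w1', rfl⟩ := hr
    have hsp : w1' ⤳ w' := ψ.isOpenEmbedding.isInducing.specializes_iff.mp hw1
    exact h w1' hsp (by rw [← hdim]; exact hd)
  · intro h w1' hw1' hd
    exact h (ψ w1') (hw1'.map ψ.continuous) (by rw [hdim]; exact hd)

end Scheme

end Groth.Agent.Lib.FibRkH5
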