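/-
helper5: the fibrewise `(R_n)` criterion `FibRC`: invariance under base change and open immersions, equivalence with the
geometric condition `(R_n)` (all field extensions).  APPEND-ONLY once landed.
-/
import Mathlib
import Groth.Agent.Lib.FibRk5_helper5
import Groth.Agent.Lib.FibGNorm8_helper5

set_option autoImplicit false
set_option linter.unusedSectionVars false
universe u

open scoped TensorProduct
open CategoryTheory CategoryTheory.Limits AlgebraicGeometry TopologicalSpace
open Groth.Agent.FibMapFlat Groth.Agent.FibNoeth Groth.Agent.CMLocusBC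
  Groth.Agent.Lib.FibConsH8 Groth.Agent.Lib.FibSkH5 Groth.Agent.Lib.UnramLocH4
  Groth.Agent.Lib.FibGNormH5

namespace Groth.Agent.Lib.FibRkH5

/-- the `(R_n)` criterion at a point of a fibre -/
def FibRCpt (n : ℕ) {X Y : Scheme.{u}} (f : X ⟶ Y) (y : Y) (z : ↥(f.fiber y)) : Prop :=
  RC n (f.fiber y) (fibSmSet f y) z

/-- the `(R_n)` criterion for the fibre through `x` at `x` -/
def FibRC (n : ℕ) {X Y : Scheme.{u}} (f : X ⟶ Y) (x : X) : Prop :=
  FibRCpt n f (f.base x) (f.asFiber x)

theorem fibRC_bc (n : ℕ) {X Y X' Y' : Scheme.{u}} (f : X ⟶ Y) [LocallyOfFiniteType f]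
    (f' : X' ⟶ Y') (g' : X' ⟶ X) (g : Y' ⟶ Y) (hc : IsPullback g' f' f g) (x' : X') :
    FibRC n f' x' ↔ FibRC n f (g' x') := by
  haveI hflφ : Flat (fibMap hc (f' x')) := flat_fibMap hc (f' x')
  have hpt : (f.fiberι (g (f' x'))) (fibMap hc (f' x') (f'.asFiber x')) = g' x' := by
    rw [fiberι_fibMap_apply, Scheme.Hom.fiberι_asFiber]
  haveI : IsLocallyNoetherian (f.fiber (g (f' x'))) := isLocallyNoetherian_fiber f _
  haveI : LocallyOfFiniteType f' :=
    MorphismProperty.of_isPullback (P := @LocallyOfFiniteType) hc inferInstance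
  haveI : IsLocallyNoetherian (f'.fiber (f' x')) := isLocallyNoetherian_fiber f' (f' x')
  have sq := isPullback_fibMap hc (f' x')
  haveI : LocallyOfFiniteType (f.fiberToSpecResidueField (g (f' x'))) :=
    MorphismProperty.pullback_snd _ _ inferInstance
  haveI : LocallyOfFiniteType (f'.fiberToSpecResidueField (f' x')) :=
    MorphismProperty.pullback_snd _ _ inferInstance
  haveI : Flat (Spec.map (g.residueFieldMap (f' x'))) := by
    rw [HasRingHomProperty.Spec_iff (P := @Flat)]
    letI := (g.residueFieldMap (f' x')).hom.toAlgebra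
    show Module.Flat (Y.residueField (g (f' x'))) (Y'.residueField (f' x'))
    infer_instance
  have hpre : (fibMap hc (f' x')) ⁻¹' (fibSmSet f (g (f' x'))) = fibSmSet f' (f' x') := by
    ext z1'
    exact (stalk_smooth_iff_of_isPullback_of_flat sq z1').symm
  have key := rc_flat_iff n (fibMap hc (f' x')) (fibSmSet f (g (f' x'))) (f'.asFiber x')
  rw [hpre] at key
  have htr := fiber_point_transport f (FibRCpt n f) (g (f' x'))
    (fibMap hc (f' x') (f'.asFiber x'))
  rw [hpt] at htr
  exact key.trans htr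

theorem fibRC_loc (n : ℕ) {X S U : Scheme.{u}} (f : X ⟶ S) [LocallyOfFiniteType f] (j : U ⟶ X)
    [IsOpenImmersion j] (u : U) : FibRC n (j ≫ f) u ↔ FibRC n f (j u) := by
  haveI : IsOpenImmersion (fibComp f j ((j ≫ f) u)) :=
    MorphismProperty.of_isPullback (P := @IsOpenImmersion)
      (isPullback_fibComp f j ((j ≫ f) u)).flip inferInstance
  have hpt : (f.fiberι ((j ≫ f) u)) (fibComp f j ((j ≫ f) u) ((j ≫ f).asFiber u)) = j u := by
    rw [← Scheme.Hom.comp_apply, fibComp_fiberι, Scheme.Hom.comp_apply,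
      Scheme.Hom.fiberι_asFiber]
  have hpre : (fibComp f j ((j ≫ f) u)) ⁻¹' (fibSmSet f ((j ≫ f) u)) =
      fibSmSet (j ≫ f) ((j ≫ f) u) := by
    ext z
    have h1 := stalk_transfer RingHom.FormallySmooth.respectsIso (fibComp f j ((j ≫ f) u))
      (f.fiberToSpecResidueField ((j ≫ f) u)) ((j ≫ f).fiberToSpecResidueField ((j ≫ f) u)) (𝟙 _)
      (by rw [fibComp_toSpec, Category.comp_id]) z
    exact h1.symm
  have key := rc_openImm_iff n (fibComp f j ((j ≫ f) u)) (fibSmSet f ((j ≫ f) u))
    ((j ≫ f).asFiber u)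
  rw [hpre] at key
  have htr := fiber_point_transport f (FibRCpt n f) ((j ≫ f) u)
    (fibComp f j ((j ≫ f) u) ((j ≫ f).asFiber u))
  rw [hpt] at htr
  exact key.trans htr

/-- the criterion is equivalent to the geometric condition `(R_n)` for the fibre (all extensions of the residue
field) -/
theorem fibRC_iff_grkall (n : ℕ) {X Y : Scheme.{u}} (f : X ⟶ Y) [LocallyOfFinitePresentation f]
    (x : X) :
    FibRC n f x ↔
      ∀ (K : Type u) [Field K] [Algebra (IsLocalRing.ResidueField (Y.presheaf.stalk (f.base x))) K]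
        (x' : ↥(FBase.bc (f.fiberToSpecResidueField (f.base x)) K)),
        (FBase.bcπ (f.fiberToSpecResidueField (f.base x)) K).base x' = f.asFiber x →
          LocCoh.HasRk n ((FBase.bc (f.fiberToSpecResidueField (f.base x)) K).presheaf.stalk x') := by
  letI : (f.fiber (f.base x)).Over (Spec (CommRingCat.of (Y.residueField (f.base x)))) :=
    ⟨f.fiberToSpecResidueField (f.base x)⟩
  haveI : LocallyOfFinitePresentation
      ((f.fiber (f.base x)) ↘ Spec (CommRingCat.of (Y.residueField (f.base x)))) :=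
    MorphismProperty.pullback_snd (P := @LocallyOfFinitePresentation) _ _ inferInstance
  have hcrit := grkall_iff (Y.residueField (f.base x)) (f.fiber (f.base x)) n (f.asFiber x)
  exact hcrit.symm

end Groth.Agent.Lib.FibRkH5
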