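/-
helper5: a variant of helper8's `IsFibrewise` constructibility framework (FibCons1-2_helper8) in which
"open in flat l.f.p. families" is replaced by "generically constant along irreducible closed subsets, in flat l.f.p.
families over a Noetherian integral base" (`IsFibrewiseGC`, `isLocallyConstructible'`).  The proofs are helper8's,
with the one modification in `exists_open_const'`.  APPEND-ONLY once landed.
-/
import Mathlib
import Groth.Agent.Lib.FibCons2_helper8

set_option autoImplicit false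
universe u

namespace Groth.Agent.Lib.FibRkH5

open AlgebraicGeometry CategoryTheory Limits TopologicalSpace Topology

/-- variant of helper8's `IsFibrewise`: openness in flat families is replaced by generic constancy
along irreducible closed subsets meeting the generic fibre, over a Noetherian integral base. -/
structure IsFibrewiseGC (P : ∀ {X S : Scheme.{u}} (_ : X ⟶ S), X → Prop) : Prop where
  bc : ∀ {X S X' S' : Scheme.{u}} (f : X ⟶ S) [LocallyOfFiniteType f] (f' : X' ⟶ S')
    (g' : X' ⟶ X) (g : S' ⟶ S), IsPullback g' f' f g → ∀ x' : X', P f' x' ↔ P f (g' x')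
  loc : ∀ {X S U : Scheme.{u}} (f : X ⟶ S) [LocallyOfFiniteType f] (j : U ⟶ X)
    [IsOpenImmersion j] (u : U), P (j ≫ f) u ↔ P f (j u)
  genConst : ∀ {X T : Scheme.{u}} (g : X ⟶ T) [IsIntegral T] [IsNoetherian T] [Flat g]
    [LocallyOfFinitePresentation g] [QuasiCompact g] (ζ : X), g ζ = genericPoint T →
    ∃ O : Set X, IsOpen O ∧ ζ ∈ O ∧
      ((O ∩ closure {ζ} ⊆ {x | P g x}) ∨ (O ∩ closure {ζ} ⊆ {x | P g x}ᶜ))

variable {P : ∀ {X S : Scheme.{u}} (_ : X ⟶ S), X → Prop}

theorem isNoetherian_of_isClosedImmersion {T S : Scheme.{u}} (i : T ⟶ S) [IsClosedImmersion i]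
    [IsNoetherian S] : IsNoetherian T := by
  haveI : IsLocallyNoetherian T := LocallyOfFiniteType.isLocallyNoetherian i
  haveI : CompactSpace T := by
    have := i.isClosedEmbedding.isCompact_preimage (K := Set.univ) isCompact_univ
    rw [Set.preimage_univ] at this
    exact isCompact_univ_iff.mp this
  exact {}

theorem isNoetherian_opens {T : Scheme.{u}} [IsNoetherian T] (U : T.Opens) :
    IsNoetherian (U : Scheme.{u}) := by
  haveI : IsLocallyNoetherian (U : Scheme.{u}) := LocallyOfFiniteType.isLocallyNoetherian U.ι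
  haveI : NoetherianSpace T := inferInstance
  haveI : CompactSpace (U : Scheme.{u}) := by
    have h : IsCompact (U : Set T) := NoetherianSpace.isCompact _
    exact isCompact_iff_compactSpace.mp h
  exact {}

set_option maxHeartbeats 1000000 in
/-- **Generic constancy** for `IsFibrewiseGC` properties over a Noetherian base. -/
theorem exists_open_const' (hP : IsFibrewiseGC P) {X S : Scheme.{u}} (f : X ⟶ S)
    [LocallyOfFiniteType f] [QuasiCompact f] [IsNoetherian S] (ζ : X) :
    ∃ O : Set X, IsOpen O ∧ ζ ∈ O ∧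
      ((O ∩ closure {ζ} ⊆ {x | P f x}) ∨ (O ∩ closure {ζ} ⊆ {x | P f x}ᶜ)) := by
  obtain ⟨T, i, hi, hT, hrange, hgen⟩ :=
    CohDevH8.exists_integral_subscheme (closure {f ζ}) isClosed_closure (f ζ) rfl
  haveI := hi; haveI := hT
  haveI : IsNoetherian T := isNoetherian_of_isClosedImmersion i
  set fT := pullback.snd f i with hfT
  obtain ⟨T', hdense, hflat, hlfp⟩ := GenFlatSch2H8.generic_flat_fp fT
  haveI := hflat; haveI := hlfp
  have hηT' : genericPoint T ∈ T' := by
    have hne : (T' : Set T).Nonempty := hdense.nonempty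
    exact ((genericPoint_spec T).mem_open_set_iff T'.2).2 (by simpa using hne)
  haveI : Nonempty (T' : Scheme.{u}) := ⟨⟨genericPoint T, hηT'⟩⟩
  haveI : IsIntegral (T' : Scheme.{u}) := inferInstance
  haveI : IsNoetherian (T' : Scheme.{u}) := isNoetherian_opens T'
  set j : (fT ⁻¹ᵁ T' : Scheme.{u}) ⟶ X := (fT ⁻¹ᵁ T').ι ≫ pullback.fst f i with hj
  have hjemb : IsEmbedding j := by
    have h1 : IsEmbedding (pullback.fst f i) := (pullback.fst f i).isEmbedding
    have h2 : IsEmbedding (fT ⁻¹ᵁ T').ι := (fT ⁻¹ᵁ T').ι.isEmbedding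
    exact h1.comp h2
  have hPj : ∀ x'' : (fT ⁻¹ᵁ T' : Scheme.{u}), P (fT ∣_ T') x'' ↔ P f (j x'') := by
    intro x''
    rw [hP.bc fT (fT ∣_ T') (fT ⁻¹ᵁ T').ι T'.ι (isPullback_morphismRestrict fT T').flip x'',
      hP.bc f fT (pullback.fst f i) i (IsPullback.of_hasPullback f i)]
    rfl
  set O₂ : Set S := (i '' ((T' : Set T)ᶜ))ᶜ with hO₂
  have hO₂open : IsOpen O₂ :=
    (i.isClosedEmbedding.isClosedMap _ T'.2.isClosed_compl).isOpen_compl
  have hlift : ∀ x : X, x ∈ closure {ζ} → f x ∈ O₂ → ∃ x'' : (fT ⁻¹ᵁ T' : Scheme.{u}), j x'' = x := by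
    intro x hx hxO
    have h1 : f x ∈ closure {f ζ} := by
      have := image_closure_subset_closure_image f.continuous (s := {ζ}) ⟨x, hx, rfl⟩
      simpa using this
    rw [← hrange] at h1
    obtain ⟨t, ht⟩ := h1
    have htT' : t ∈ T' := by
      by_contra hcon
      exact hxO ⟨t, hcon, ht⟩
    obtain ⟨z, hz1, hz2⟩ := Scheme.Pullback.exists_preimage_pullback x t ht.symm
    have hzmem : z ∈ fT ⁻¹ᵁ T' := by
      show fT z ∈ T'
      rw [hfT, hz2]; exact htT'
    exact ⟨(⟨z, hzmem⟩ : (fT ⁻¹ᵁ T' : Scheme.{u})), hz1⟩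
  have hζO₂ : f ζ ∈ O₂ := by
    rintro ⟨t, ht, hte⟩
    have : t = genericPoint T := i.isClosedEmbedding.injective (by rw [hte, hgen])
    exact ht (this ▸ hηT')
  obtain ⟨ζ'', hζ''⟩ := hlift ζ (subset_closure rfl) hζO₂
  -- `ζ''` lies over the generic point of `T'`
  have hgζ : (fT ∣_ T') ζ'' = genericPoint (T' : Scheme.{u}) := by
    have h1 : T'.ι ((fT ∣_ T') ζ'') = genericPoint T := by
      apply i.isClosedEmbedding.injective
      rw [hgen, ← hζ'']
      have e1 : T'.ι ((fT ∣_ T') ζ'') = fT ((fT ⁻¹ᵁ T').ι ζ'') := by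
        rw [← Scheme.Hom.comp_apply, morphismRestrict_ι, Scheme.Hom.comp_apply]
      rw [e1]
      have e2 := congrArg (fun φ : pullback f i ⟶ S => φ ((fT ⁻¹ᵁ T').ι ζ''))
        (pullback.condition (f := f) (g := i))
      simp only [Scheme.Hom.comp_apply] at e2
      exact e2.symm
    have h2 : T'.ι (genericPoint (T' : Scheme.{u})) = genericPoint T :=
      genericPoint_eq_of_isOpenImmersion T'.ι
    exact T'.ι.isOpenEmbedding.injective (h1.trans h2.symm)
  obtain ⟨O'', hO''open, hζO'', hor⟩ := hP.genConst (fT ∣_ T') ζ'' hgζ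
  obtain ⟨O₁, hO₁, hO₁W⟩ := hjemb.isInducing.isOpen_iff.1 hO''open
  have hmem1 : ζ ∈ O₁ := by
    have : ζ'' ∈ j ⁻¹' O₁ := by rw [hO₁W]; exact hζO''
    rw [← hζ'']; exact this
  refine ⟨O₁ ∩ f ⁻¹' O₂, hO₁.inter (hO₂open.preimage f.continuous), ⟨hmem1, hζO₂⟩, ?_⟩
  have hcl : ∀ x'' : (fT ⁻¹ᵁ T' : Scheme.{u}), j x'' ∈ closure {ζ} → x'' ∈ closure {ζ''} := by
    intro x'' hx
    rw [← specializes_iff_mem_closure] at hx ⊢
    rw [← hjemb.isInducing.specializes_iff, hζ'']
    exact hx
  rcases hor with h | h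
  · left
    rintro x ⟨⟨hx1, hx2⟩, hx3⟩
    obtain ⟨x'', rfl⟩ := hlift x hx3 hx2
    have h1 : x'' ∈ O'' := by
      have : x'' ∈ j ⁻¹' O₁ := hx1
      rwa [hO₁W] at this
    exact (hPj x'').1 (h ⟨h1, hcl x'' hx3⟩)
  · right
    rintro x ⟨⟨hx1, hx2⟩, hx3⟩ hPx
    obtain ⟨x'', rfl⟩ := hlift x hx3 hx2
    have h1 : x'' ∈ O'' := by
      have : x'' ∈ j ⁻¹' O₁ := hx1
      rwa [hO₁W] at this
    exact h ⟨h1, hcl x'' hx3⟩ ((hPj x'').2 hPx)


open Groth.Agent.Lib.ConstrNoeth_lead in
/-- **Noetherian case**. -/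
theorem isConstructible_of_noetherian' (hP : IsFibrewiseGC P) {X S : Scheme.{u}} (f : X ⟶ S)
    [LocallyOfFiniteType f] [QuasiCompact f] [IsNoetherian S] [NoetherianSpace X] :
    IsConstructible {x : X | P f x} := by
  set E : Set X := {x : X | P f x} with hE
  have key : ∀ Z : Set X, IsClosed Z → IsConstructible (E ∩ Z) := by
    apply isClosed_induction (P := fun Z => IsConstructible (E ∩ Z))
    · simp
    · intro Z₁ Z₂ _ _ h1 h2
      rw [Set.inter_union_distrib_left]
      exact h1.union h2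
    · intro Z hZ hirr ih
      obtain ⟨ζ, hζ⟩ := QuasiSober.sober hirr hZ
      have hcl : closure {ζ} = Z := hζ.def
      obtain ⟨O, hO, hζO, hor⟩ := exists_open_const' hP f ζ
      rw [hcl] at hor
      have hζZ : ζ ∈ Z := hcl ▸ subset_closure rfl
      have hZ' : IsClosed (Z ∩ Oᶜ) := hZ.inter hO.isClosed_compl
      have hss : Z ∩ Oᶜ ⊂ Z := by
        refine ⟨Set.inter_subset_left, fun h => ?_⟩
        exact (h hζZ).2 hζO
      have h1 := ih _ hZ' hss
      have hdecomp : E ∩ Z = (E ∩ (Z ∩ Oᶜ)) ∪ (E ∩ (O ∩ Z)) := by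
        ext x
        simp only [Set.mem_inter_iff, Set.mem_union, Set.mem_compl_iff]
        tauto
      rw [hdecomp]
      refine h1.union ?_
      rcases hor with h | h
      · have : E ∩ (O ∩ Z) = O ∩ Z := Set.inter_eq_right.2 h
        rw [this]
        exact isConstructible_of_isLocallyClosed (hO.isLocallyClosed.inter hZ.isLocallyClosed)
      · have : E ∩ (O ∩ Z) = ∅ := by
          ext x
          simp only [Set.mem_inter_iff, Set.mem_empty_iff_false, iff_false]
          rintro ⟨hx1, hx2⟩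
          exact h hx2 hx1
        rw [this]
        exact IsConstructible.empty
  have := key Set.univ isClosed_univ
  rwa [Set.inter_univ] at this

/-- Ring case, by Noetherian approximation. -/
theorem isConstructible_spec' (hP : IsFibrewiseGC P) (A B : Type u) [CommRing A] [CommRing B]
    [Algebra A B] [Algebra.FinitePresentation A B] :
    IsConstructible {x : Spec (CommRingCat.of B) |
      P (Spec.map (CommRingCat.ofHom (algebraMap A B))) x} := by
  obtain ⟨A₁, _, _, _, _, B₁, _, _, _, _, M₁, _, _, _, _, f₁, hft, -, hfp, -, hpush, -⟩ :=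
    FlatDescH8.exists_model A B PUnit.{u+1}
  haveI := hft; haveI := hfp; haveI := hpush
  haveI : IsNoetherianRing A₁ := Algebra.FiniteType.isNoetherianRing ℤ A₁
  haveI : Algebra.FiniteType A₁ B₁ := inferInstance
  haveI : IsNoetherianRing B₁ := Algebra.FiniteType.isNoetherianRing A₁ B₁
  set φ₁ := Spec.map (CommRingCat.ofHom (algebraMap A₁ B₁)) with hφ₁
  haveI : LocallyOfFiniteType φ₁ := by
    rw [hφ₁, HasRingHomProperty.Spec_iff (P := @LocallyOfFiniteType)]
    exact RingHom.finiteType_algebraMap.2 inferInstance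
  haveI : NoetherianSpace (Spec (CommRingCat.of B₁)) :=
    inferInstanceAs (NoetherianSpace (PrimeSpectrum B₁))
  haveI : IsNoetherian (Spec (CommRingCat.of A₁)) := inferInstance
  have h1 := isConstructible_of_noetherian' hP φ₁
  have hpo := CommRingCat.isPushout_of_isPushout A₁ A B₁ B
  have hpb := (isPullback_SpecMap_of_isPushout _ _ _ _ hpo).flip
  have h2 := (Spec.map (CommRingCat.ofHom (algebraMap B₁ B))).isConstructible_preimage h1
  convert h2 using 1
  ext x'
  exact hP.bc φ₁ _ _ _ hpb x'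

/-- Affine schemes case. -/
theorem isConstructible_of_isAffine' (hP : IsFibrewiseGC P) {X S : Scheme.{u}} [IsAffine X]
    [IsAffine S] (f : X ⟶ S) [LocallyOfFinitePresentation f] :
    IsConstructible {x : X | P f x} := by
  letI : Algebra Γ(S, ⊤) Γ(X, ⊤) := f.appTop.hom.toAlgebra
  have hfp : f.appTop.hom.FinitePresentation := by
    have : LocallyOfFinitePresentation (Spec.map f.appTop) := by
      have h := Scheme.isoSpec_hom_naturality f
      have : Spec.map f.appTop = X.isoSpec.inv ≫ f ≫ S.isoSpec.hom := by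
        rw [← h, Iso.inv_hom_id_assoc]
      rw [this]
      infer_instance
    exact (HasRingHomProperty.Spec_iff (P := @LocallyOfFinitePresentation)).1 this
  haveI : Algebra.FinitePresentation Γ(S, ⊤) Γ(X, ⊤) := hfp
  have h1 := isConstructible_spec' hP Γ(S, ⊤) Γ(X, ⊤)
  have hmap : Spec.map (CommRingCat.ofHom (algebraMap Γ(S, ⊤) Γ(X, ⊤))) = Spec.map f.appTop := rfl
  rw [hmap] at h1
  haveI : LocallyOfFiniteType (Spec.map f.appTop) := by
    rw [HasRingHomProperty.Spec_iff (P := @LocallyOfFiniteType)]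
    exact RingHom.FiniteType.of_finitePresentation hfp
  have hpb : IsPullback X.isoSpec.hom f (Spec.map f.appTop) S.isoSpec.hom :=
    IsPullback.of_horiz_isIso ⟨Scheme.isoSpec_hom_naturality f⟩
  have h2 := X.isoSpec.hom.isConstructible_preimage h1
  convert h2 using 1
  ext x
  exact hP.bc (Spec.map f.appTop) f X.isoSpec.hom S.isoSpec.hom hpb x

/-- **Main theorem** of the variant: for a morphism locally of finite presentation the locus of an
`IsFibrewiseGC` property is locally constructible. -/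
theorem isLocallyConstructible' (hP : IsFibrewiseGC P) {X S : Scheme.{u}} (f : X ⟶ S)
    [LocallyOfFinitePresentation f] : IsLocallyConstructible {x : X | P f x} := by
  intro x
  obtain ⟨V, hV, hxV⟩ : ∃ V : S.Opens, IsAffineOpen V ∧ f x ∈ V := by
    obtain ⟨_, ⟨V, hV, rfl⟩, hxV, -⟩ := S.isBasis_affineOpens.exists_subset_of_mem_open
      (Set.mem_univ (f x)) isOpen_univ
    exact ⟨V, hV, hxV⟩
  obtain ⟨U, hU, hxU, hUV⟩ : ∃ U : X.Opens, IsAffineOpen U ∧ x ∈ U ∧ U ≤ f ⁻¹ᵁ V := by
    obtain ⟨_, ⟨U, hU, rfl⟩, hxU, hsub⟩ := X.isBasis_affineOpens.exists_subset_of_mem_open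
      (show x ∈ ((f ⁻¹ᵁ V : X.Opens) : Set X) from hxV) (f ⁻¹ᵁ V).2
    exact ⟨U, hU, hxU, hsub⟩
  refine ⟨U, U.2.mem_nhds hxU, U.2, ?_⟩
  haveI : IsAffine (U : Scheme.{u}) := hU
  haveI : IsAffine (V : Scheme.{u}) := hV
  have h1 := isConstructible_of_isAffine' hP (f.resLE V U hUV)
  suffices h : {u : (U : Scheme.{u}) | P (f.resLE V U hUV) u} =
      (Subtype.val ⁻¹' {x : X | P f x} : Set ↥(U : Set X)) by
    rw [← h]; exact h1
  ext u
  show P (f.resLE V U hUV) u ↔ P f u.1
  have e1 : f.resLE V U hUV = X.homOfLE hUV ≫ f ∣_ V := rfl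
  rw [e1, hP.loc (f ∣_ V) (X.homOfLE hUV) u,
    hP.bc f (f ∣_ V) (f ⁻¹ᵁ V).ι V.ι (isPullback_morphismRestrict f V).flip]
  have e2 : (f ⁻¹ᵁ V).ι ((X.homOfLE hUV) u) = u.1 := by
    rw [← Scheme.Hom.comp_apply, Scheme.homOfLE_ι]
    rfl
  rw [e2]

end Groth.Agent.Lib.FibRkH5
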