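/-
helper5: generic constancy of the fibrewise `(R_n)` criterion `FibRC` in flat l.f.p. families over a Noetherian
integral base (`genConst_pos`, `genConst_neg`), hence `isFibrewiseGC_fibRC` and the local constructibility of the
locus where the fibres are geometrically `(R_n)` (EGA IV 9.9.2/9.9.5-type; S3454).  APPEND-ONLY once landed.
-/
import Mathlib
import Groth.Agent.Lib.FibRk6_helper5
import Groth.Agent.Lib.FibRk7_helper5
import Groth.Agent.Lib.FibCoh_helper8
import Groth.Agent.Lib.GenFibDim_helper8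
import Groth.Agent.Lib.FibComp_helper8
import Groth.Agent.Lib.ProdGen_helper8
import Groth.Agent.Lib.SubComp_helper8
import Groth.Agent.Lib.Chev4_helper8
import Groth.Agent.Lib.OpenAtComp_helper8
import Groth.Agent.Lib.AffDim12_helper8
import Groth.Agent.Lib.CohDev6_helper8
import Groth.Agent.Lib.FibChain_helper8
import Groth.Agent.S2255

set_option autoImplicit false
universe u

open AlgebraicGeometry CategoryTheory Limits TopologicalSpace Topology
open Groth.Agent.Lib.FibGNormH5 Groth.Agent.Lib.FibAssH5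

namespace Groth.Agent.Lib.FibRkH5

/-- dimension of the closure of a point in its fibre -/
noncomputable def tau {X T : Scheme.{u}} (g : X ⟶ T) (x : X) : ℕ∞ :=
  Cardinal.toENat (Dual3.resTrdeg g x)

theorem fibreDimAt_eq_coh_add_tau {X T : Scheme.{u}} (g : X ⟶ T) [LocallyOfFiniteType g] (x : X) :
    FlatMor.fibreDimAt g x = ((FibCohH8.fibCoh g x + tau g x : ℕ∞) : WithBot ℕ∞) := by
  rw [FibCohH8.fibreDimAt_eq, WithBot.coe_add]
  rfl

theorem tau_closedImmersion_comp {V X T : Scheme.{u}} (i : V ⟶ X) [IsClosedImmersion i]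
    (g : X ⟶ T) (v : V) : tau (i ≫ g) v = tau g (i v) := by
  unfold tau
  rw [OpenAtCompH8.resTrdeg_closedImmersion_comp]

/-- **generic constancy of the fibre dimension** (from the proof of S4781) -/
theorem exists_open_fibreDimAt_eq {V T : Scheme.{u}} (h : V ⟶ T) [IsNoetherian T]
    [IrreducibleSpace T] [IrreducibleSpace V] [IsDominant h] [LocallyOfFiniteType h]
    [QuasiCompact h] :
    ∃ (n0 : ℕ) (U : T.Opens), genericPoint T ∈ U ∧
      FlatMor.fibreDimAt h (genericPoint V) = n0 ∧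
      ∀ v : V, h v ∈ U → FlatMor.fibreDimAt h v = n0 := by
  obtain ⟨n0, h1, h2, -⟩ := GenFibDimH8.exists_nat h
  set η := genericPoint T with hη
  have hgenfib : ∀ z : V, h z = η → FlatMor.fibreDimAt h z ≤ (n0 : WithBot ℕ∞) := by
    intro z hz
    have h3 : topologicalKrullDim ↥(h.fiber (h z)) = n0 := by rw [hz]; exact h1
    rw [← h3]
    exact TopDimLocH8.localDim_le_topDim (h.fiber (h z)) (h.asFiber z)
  set C : Set V := {z : V | FlatMor.fibreDimAt h z ≤ (n0 : WithBot ℕ∞)}ᶜ with hC
  have hCc : IsClosed C := (ChevH8.isOpen_fibreDimAt_le h n0).isClosed_compl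
  have hηC : η ∉ closure (⇑h '' C) := by
    intro hcon
    obtain ⟨C'', i, hi, hrange⟩ := ProdGenH8.exists_closedImmersion_range V C hCc
    have hrg : Set.range ⇑(i ≫ h) = ⇑h '' C := by
      rw [Scheme.Hom.comp_base, TopCat.coe_comp, Set.range_comp, hrange]
    haveI : IsDominant (i ≫ h) := by
      constructor
      rw [DenseRange, dense_iff_closure_eq, hrg]
      apply Set.eq_univ_of_univ_subset
      intro s _
      have hs : η ⤳ s := genericPoint_specializes s
      exact hs.mem_closed isClosed_closure hcon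
    have hcompη : closure ({η} : Set T) ∈ irreducibleComponents ↥T := by
      rw [SubCompH8.closure_mem_irreducibleComponents_iff]
      intro z hz
      exact ((genericPoint_specializes z).antisymm hz).eq.symm
    obtain ⟨x, -, hx⟩ := (Groth.Agent.S2255.result (i ≫ h)).mp inferInstance η hcompη
    have hixC : i x ∈ C := hrange ▸ Set.mem_range_self x
    exact hixC (hgenfib (i x) hx)
  refine ⟨n0, ⟨(closure (⇑h '' C))ᶜ, isClosed_closure.isOpen_compl⟩, hηC, h2, ?_⟩
  intro v hv
  apply le_antisymm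
  · by_contra hcon
    apply hv
    apply subset_closure
    exact ⟨v, hcon, rfl⟩
  · rw [← h1]
    exact GenFibDimH8.generic_le h v

/-- for an integral closed subscheme `V` of `X` dominating `T`: over a dense open of `T`,
`coh_V(v) + tau(v) = tau(generic point of V)` -/
theorem exists_open_coh_add_tau {X T V : Scheme.{u}} (g : X ⟶ T) [IsIntegral T] [IsNoetherian T]
    [LocallyOfFiniteType g] [QuasiCompact g] (i : V ⟶ X) [IsClosedImmersion i] [IsIntegral V]
    (hdom : g (i (genericPoint V)) = genericPoint T) :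
    ∃ (e : ℕ) (U : T.Opens), genericPoint T ∈ U ∧ tau g (i (genericPoint V)) = e ∧
      ∀ v : V, g (i v) ∈ U → FibCohH8.fibCoh (i ≫ g) v + tau g (i v) = e := by
  haveI : IsDominant (i ≫ g) := by
    constructor
    rw [DenseRange, dense_iff_closure_eq]
    apply Set.eq_univ_of_univ_subset
    intro s _
    have hs : genericPoint T ⤳ s := genericPoint_specializes s
    apply hs.mem_closed isClosed_closure
    apply subset_closure
    exact ⟨genericPoint V, hdom⟩
  obtain ⟨n0, U, hηU, hgen, hU⟩ := exists_open_fibreDimAt_eq (i ≫ g)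
  have hmax : ∀ z : V, z ⤳ genericPoint V → z = genericPoint V := by
    intro z hz
    exact (hz.antisymm (genericPoint_specializes z)).eq
  have h0 := Groth.Agent.Lib.AffDimH8.fibCoh_eq_zero_of_isMax (i ≫ g) (genericPoint V) hmax
  refine ⟨n0, U, hηU, ?_, ?_⟩
  · rw [fibreDimAt_eq_coh_add_tau, h0, zero_add, tau_closedImmersion_comp] at hgen
    exact_mod_cast hgen
  · intro v hv
    have := hU v hv
    rw [fibreDimAt_eq_coh_add_tau, tau_closedImmersion_comp] at this
    exact_mod_cast this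

/-- the criterion `FibRC` for a flat morphism locally of finite presentation, in terms of the points of `X` -/
theorem fibRC_iff_forall (n : ℕ) {X T : Scheme.{u}} (g : X ⟶ T) [Flat g]
    [LocallyOfFinitePresentation g] (x : X) :
    FibRC n g x ↔ ∀ z : X, z ⤳ x → g z = g x → z ∉ g.smoothLocus →
      (n : ℕ∞) < FibCohH8.fibCoh g z := by
  haveI hlfp : ∀ y : T, LocallyOfFinitePresentation (g.fiberToSpecResidueField y) := fun y =>
    MorphismProperty.pullback_snd (P := @LocallyOfFinitePresentation) _ _ inferInstance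
  have hgen := forall_generization_iff g
    (fun y z' => ringKrullDim ((g.fiber y).presheaf.stalk z') ≤ (n : WithBot ℕ∞) →
      z' ∈ fibSmSet g y) x
  have hL : FibRC n g x ↔
      (∀ z : ↥(g.fiber (g.base x)), g.asFiber x ∈ closure ({z} : Set ↥(g.fiber (g.base x))) →
        ringKrullDim ((g.fiber (g.base x)).presheaf.stalk z) ≤ (n : WithBot ℕ∞) →
        z ∈ fibSmSet g (g.base x)) := by
    unfold FibRC FibRCpt RC
    constructor
    · intro h z hz
      exact h z (specializes_iff_mem_closure.mpr hz)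
    · intro h z hz
      exact h z (specializes_iff_mem_closure.mp hz)
  rw [hL, hgen]
  have hsm : ∀ z : X, g.asFiber z ∈ fibSmSet g (g.base z) ↔ z ∈ g.smoothLocus := by
    intro z
    rw [Groth.Agent.Lib.UnramLocH4.main2156 g z]
    constructor
    · intro h
      exact ⟨Flat.stalkMap g z, h⟩
    · intro h
      exact h.2
  constructor
  · intro h z hz hfz hns
    by_contra hle
    apply hns
    rw [← hsm]
    apply h z hz hfz
    rw [FibCohH8.stalk_fiber_eq_fibCoh]
    have : FibCohH8.fibCoh g z ≤ (n : ℕ∞) := not_lt.mp hle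
    exact_mod_cast this
  · intro h z hz hfz hd
    rw [hsm]
    by_contra hns
    have h1 := h z hz hfz hns
    rw [FibCohH8.stalk_fiber_eq_fibCoh] at hd
    have : FibCohH8.fibCoh g z ≤ (n : ℕ∞) := by exact_mod_cast hd
    exact absurd h1 (not_lt.mpr this)

theorem noetherianSpace_of_qc {X T : Scheme.{u}} (g : X ⟶ T) [IsNoetherian T]
    [LocallyOfFiniteType g] [QuasiCompact g] : NoetherianSpace X := by
  haveI : IsLocallyNoetherian X := LocallyOfFiniteType.isLocallyNoetherian g
  haveI : CompactSpace X := QuasiCompact.compactSpace_of_compactSpace g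
  haveI : IsNoetherian X := {}
  infer_instance

theorem eq_genericPoint_of_specializes {T : Scheme.{u}} [IsIntegral T] (t : T)
    (h : t ⤳ genericPoint T) : t = genericPoint T :=
  (h.antisymm (genericPoint_specializes t)).eq

set_option maxHeartbeats 1000000 in
/-- generic constancy, the case where the criterion holds at `ζ` -/
theorem genConst_pos (n : ℕ) {X T : Scheme.{u}} (g : X ⟶ T) [IsIntegral T] [IsNoetherian T]
    [Flat g] [LocallyOfFinitePresentation g] [QuasiCompact g] (ζ : X)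
    (hgζ : g ζ = genericPoint T) (hζ : FibRC n g ζ) :
    ∃ O : Set X, IsOpen O ∧ ζ ∈ O ∧ O ⊆ {x | FibRC n g x} := by
  haveI : NoetherianSpace X := noetherianSpace_of_qc g
  set Zns : Set X := ((g.smoothLocus : Set X))ᶜ with hZns
  have hZcl : IsClosed Zns := g.smoothLocus.isOpen.isClosed_compl
  obtain ⟨𝒮, hfin, hcl, hirr, hU⟩ := NoetherianSpace.exists_finite_set_isClosed_irreducible hZcl
  have hζ' := (fibRC_iff_forall n g ζ).mp hζ
  -- an open neighbourhood of `ζ` for each irreducible component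
  have key : ∀ t ∈ 𝒮, ∃ O : Set X, IsOpen O ∧ ζ ∈ O ∧ ∀ w ∈ O, ∀ z' : X, z' ⤳ w →
      g z' = g w → z' ∈ t → (n : ℕ∞) < FibCohH8.fibCoh g z' := by
    intro t ht
    by_cases hζt : ζ ∈ t
    swap
    · refine ⟨tᶜ, (hcl t ht).isOpen_compl, hζt, ?_⟩
      intro w hw z' hz' _ hz't
      exact absurd (hz'.mem_closed (hcl t ht) hz't) hw
    obtain ⟨γ, hγ⟩ := QuasiSober.sober (hirr t ht) (hcl t ht)
    have hγcl : closure {γ} = t := hγ.def
    have hγζ : γ ⤳ ζ := by
      rw [specializes_iff_mem_closure, hγcl]; exact hζt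
    have hgγ : g γ = genericPoint T := by
      apply eq_genericPoint_of_specializes
      rw [← hgζ]
      exact hγζ.map g.continuous
    have hγZ : γ ∈ Zns := by
      rw [hU]
      exact ⟨t, ht, hγcl ▸ subset_closure rfl⟩
    have hcγ : (n : ℕ∞) < FibCohH8.fibCoh g γ := hζ' γ hγζ (hgγ.trans hgζ.symm) hγZ
    obtain ⟨V, i, hi, hV, hrange, hgen⟩ :=
      CohDevH8.exists_integral_subscheme t (hcl t ht) γ hγcl
    haveI := hi; haveI := hV
    obtain ⟨e, U, hηU, hτγ, hUe⟩ := exists_open_coh_add_tau g i (by rw [hgen]; exact hgγ)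
    rw [hgen] at hτγ
    refine ⟨g ⁻¹' (U : Set T), U.2.preimage g.continuous, by
      show g ζ ∈ U
      rw [hgζ]; exact hηU, ?_⟩
    intro w hw z' hz' hgz' hz't
    have hz'r : z' ∈ Set.range i := hrange ▸ hz't
    obtain ⟨v, rfl⟩ := hz'r
    have hvU : g (i v) ∈ U := by rw [hgz']; exact hw
    have hsum := hUe v hvU
    have hτle : tau g (i v) ≤ e := by
      rw [← hsum]; exact le_add_self
    by_contra hle
    have hle' : FibCohH8.fibCoh g (i v) ≤ (n : ℕ∞) := not_lt.mp hle
    -- semicontinuity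
    have hsp : γ ⤳ i v := by
      rw [specializes_iff_mem_closure, hγcl]; exact hz't
    have h1 : ((n + 1 + e : ℕ) : WithBot ℕ∞) ≤ FlatMor.fibreDimAt g γ := by
      rw [fibreDimAt_eq_coh_add_tau, hτγ]
      have h2 : ((n + 1 : ℕ) : ℕ∞) ≤ FibCohH8.fibCoh g γ := by
        have := Order.add_one_le_of_lt hcγ
        exact_mod_cast this
      have h3 : ((n + 1 + e : ℕ) : ℕ∞) ≤ FibCohH8.fibCoh g γ + (e : ℕ∞) := by
        push_cast
        exact add_le_add h2 le_rfl
      exact_mod_cast h3
    have h4 := Groth.Agent.Lib.AffDimH8.fibreDimAt_le_of_specializes g (n + 1 + e) γ (i v) hsp h1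
    rw [fibreDimAt_eq_coh_add_tau] at h4
    have h5 : ((n + 1 + e : ℕ) : ℕ∞) ≤ FibCohH8.fibCoh g (i v) + tau g (i v) := by
      exact_mod_cast h4
    have h6 : FibCohH8.fibCoh g (i v) + tau g (i v) ≤ (n : ℕ∞) + (e : ℕ∞) :=
      add_le_add hle' hτle
    have h7 : ((n + 1 + e : ℕ) : ℕ∞) ≤ ((n + e : ℕ) : ℕ∞) := by
      push_cast
      push_cast at h5
      exact h5.trans h6
    have h8 : n + 1 + e ≤ n + e := by exact_mod_cast h7
    omega
  choose! Ot hOt_open hOt_mem hOt using key
  refine ⟨⋂ t ∈ 𝒮, Ot t, hfin.isOpen_biInter hOt_open, Set.mem_iInter₂.mpr hOt_mem, ?_⟩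
  intro w hw
  rw [Set.mem_ofPred_eq, fibRC_iff_forall]
  intro z' hz' hgz' hns
  have hz'Z : z' ∈ Zns := hns
  rw [hU] at hz'Z
  obtain ⟨t, ht, hz't⟩ := hz'Z
  exact hOt t ht w (Set.mem_iInter₂.mp hw t ht) z' hz' hgz' hz't

set_option maxHeartbeats 1600000 in
/-- generic constancy, the case where the criterion fails at `ζ` -/
theorem genConst_neg (n : ℕ) {X T : Scheme.{u}} (g : X ⟶ T) [IsIntegral T] [IsNoetherian T]
    [Flat g] [LocallyOfFinitePresentation g] [QuasiCompact g] (ζ : X)
    (hgζ : g ζ = genericPoint T) (hζ : ¬ FibRC n g ζ) :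
    ∃ O : Set X, IsOpen O ∧ ζ ∈ O ∧ O ∩ closure {ζ} ⊆ {x | FibRC n g x}ᶜ := by
  haveI : NoetherianSpace X := noetherianSpace_of_qc g
  rw [fibRC_iff_forall] at hζ
  push Not at hζ
  obtain ⟨z, hzζ, hgz, hzns, hcz⟩ := hζ
  have hgzη : g z = genericPoint T := hgz.trans hgζ
  -- the closure of `z` as an integral scheme
  obtain ⟨V, i, hi, hV, hrange, hgen⟩ :=
    CohDevH8.exists_integral_subscheme (closure {z}) isClosed_closure z rfl
  haveI := hi; haveI := hV
  obtain ⟨e, U₀, hηU₀, hτz, hU₀e⟩ := exists_open_coh_add_tau g i (by rw [hgen]; exact hgzη)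
  rw [hgen] at hτz
  obtain ⟨c, hc⟩ : ∃ c : ℕ, FibCohH8.fibCoh g z = (c : ℕ∞) := by
    have hne : FibCohH8.fibCoh g z ≠ ⊤ := ne_top_of_le_ne_top (ENat.natCast_ne_top n) hcz
    obtain ⟨c, hc⟩ := ENat.ne_top_iff_exists.mp hne
    exact ⟨c, hc.symm⟩
  have hcn : c ≤ n := by
    rw [hc] at hcz
    exact_mod_cast hcz
  -- the open set where the fibre dimension is at most that at `z`
  set Oa : Set X := {x : X | FlatMor.fibreDimAt g x ≤ ((c + e : ℕ) : WithBot ℕ∞)} with hOa
  have hOaopen : IsOpen Oa := ChevH8.isOpen_fibreDimAt_le g (c + e)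
  have hzOa : z ∈ Oa := by
    show FlatMor.fibreDimAt g z ≤ _
    rw [fibreDimAt_eq_coh_add_tau, hc, hτz]
    exact_mod_cast le_rfl
  set V₂ : Set X := closure {z} ∩ Oaᶜ with hV₂
  have hV₂cl : IsClosed V₂ := isClosed_closure.inter hOaopen.isClosed_compl
  obtain ⟨𝒮, hfin, hcl, hirr, hU⟩ := NoetherianSpace.exists_finite_set_isClosed_irreducible hV₂cl
  -- for each irreducible component of `V₂` an open of `T` over which it contains no maximal
  -- point of the fibres of `closure {z}`
  have key : ∀ t ∈ 𝒮, ∃ Ut : Set T, IsOpen Ut ∧ genericPoint T ∈ Ut ∧ ∀ v : V, g (i v) ∈ Ut →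
      g (i v) ∈ U₀ → FibCohH8.fibCoh (i ≫ g) v = 0 → i v ∉ t := by
    intro t ht
    obtain ⟨γ, hγ⟩ := QuasiSober.sober (hirr t ht) (hcl t ht)
    have hγcl : closure {γ} = t := hγ.def
    have hγt : γ ∈ t := hγcl ▸ subset_closure rfl
    have hγV₂ : γ ∈ V₂ := by
      rw [hU]; exact ⟨t, ht, hγt⟩
    by_cases hgγ : g γ = genericPoint T
    swap
    · refine ⟨(closure {g γ})ᶜ, isClosed_closure.isOpen_compl, ?_, ?_⟩
      · intro hmem
        apply hgγ
        apply eq_genericPoint_of_specializes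
        exact specializes_iff_mem_closure.mpr hmem
      · intro v hv _ _ hvt
        apply hv
        have h1 : γ ⤳ i v := by
          rw [specializes_iff_mem_closure, hγcl]; exact hvt
        exact (h1.map g.continuous).mem_closure
    -- `γ` is a point of the generic fibre of `closure {z}`, different from `z`
    have hγne : γ ≠ z := by
      intro h
      rw [h] at hγV₂
      exact hγV₂.2 hzOa
    obtain ⟨γ', hγ'⟩ : γ ∈ Set.range i := hrange ▸ hγV₂.1
    have hγ'ne : γ' ≠ genericPoint V := by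
      intro h
      apply hγne
      rw [← hγ', h, hgen]
    have hcohγ' : FibCohH8.fibCoh (i ≫ g) γ' ≠ 0 := by
      intro h0
      unfold FibCohH8.fibCoh at h0
      rw [Order.coheight_eq_zero] at h0
      have hξ : (i ≫ g) (genericPoint V) = (i ≫ g) γ' := by
        show g (i (genericPoint V)) = g (i γ')
        rw [hgen, hγ', hgzη, hgγ]
      have hle : (⟨γ', rfl⟩ : {u' : V // (i ≫ g) u' = (i ≫ g) γ'}) ≤ ⟨genericPoint V, hξ⟩ :=
        genericPoint_specializes γ'
      have := h0 hle
      have h2 : genericPoint V ⤳ γ' := genericPoint_specializes γ'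
      have h3 : γ' ⤳ genericPoint V := this
      exact hγ'ne (h3.antisymm h2).eq
    have hsumγ := hU₀e γ' (by rw [hγ', hgγ]; exact hηU₀)
    rw [hγ'] at hsumγ
    obtain ⟨Vt, it, hit, hVt, hranget, hgent⟩ :=
      CohDevH8.exists_integral_subscheme t (hcl t ht) γ hγcl
    haveI := hit; haveI := hVt
    obtain ⟨et, Ut, hηUt, hτγ, hUte⟩ := exists_open_coh_add_tau g it (by rw [hgent]; exact hgγ)
    rw [hgent] at hτγ
    have het : et < e := by
      rw [hτγ] at hsumγ
      have h1 : (1 : ℕ∞) ≤ FibCohH8.fibCoh (i ≫ g) γ' := Order.one_le_iff_ne_zero.mpr hcohγ'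
      have h2 : (1 : ℕ∞) + (et : ℕ∞) ≤ (e : ℕ∞) := by
        rw [← hsumγ]; exact add_le_add h1 le_rfl
      have h3 : 1 + et ≤ e := by exact_mod_cast h2
      omega
    refine ⟨(Ut : Set T), Ut.2, hηUt, ?_⟩
    intro v hvUt hvU₀ hcoh0 hvt
    have hsum := hU₀e v hvU₀
    rw [hcoh0, zero_add] at hsum
    obtain ⟨v'', hv''⟩ : i v ∈ Set.range it := hranget ▸ hvt
    have hsumt := hUte v'' (by rw [hv'']; exact hvUt)
    rw [hv'', hsum] at hsumt
    have h4 : (e : ℕ∞) ≤ (et : ℕ∞) := by
      rw [← hsumt]; exact le_add_self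
    have h5 : e ≤ et := by exact_mod_cast h4
    omega
  choose! Ut hUt_open hUt_mem hUt using key
  set Uall : Set T := (U₀ : Set T) ∩ ⋂ t ∈ 𝒮, Ut t with hUall
  have hUallopen : IsOpen Uall := U₀.2.inter (hfin.isOpen_biInter hUt_open)
  have hηUall : genericPoint T ∈ Uall := ⟨hηU₀, Set.mem_iInter₂.mpr hUt_mem⟩
  refine ⟨g ⁻¹' Uall, hUallopen.preimage g.continuous, by
    show g ζ ∈ Uall
    rw [hgζ]; exact hηUall, ?_⟩
  rintro w ⟨hwU, hwζ⟩ hRC
  rw [Set.mem_ofPred_eq, fibRC_iff_forall] at hRC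
  -- `w` lies on `closure {z}`
  have hwz : w ∈ closure {z} := by
    have h1 : ζ ∈ closure {z} := hzζ.mem_closure
    exact (isClosed_closure.closure_subset_iff.mpr (Set.singleton_subset_iff.mpr h1)) hwζ
  obtain ⟨w', hw'⟩ : w ∈ Set.range i := hrange ▸ hwz
  haveI : LocallyOfFiniteType (i ≫ g) := inferInstance
  obtain ⟨x₀, hx₀g, hx₀w, hx₀dim, -⟩ := Groth.Agent.FibChainH8.exists_generic_in_fiber (i ≫ g) w'
  have hcoh0 : FibCohH8.fibCoh (i ≫ g) x₀ = 0 := by
    rw [FibCohH8.stalk_fiber_eq_fibCoh] at hx₀dim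
    exact_mod_cast hx₀dim
  have hgx₀ : g (i x₀) = g w := by
    have : (i ≫ g) x₀ = (i ≫ g) w' := hx₀g
    rw [← hw']
    exact this
  have hx₀U : g (i x₀) ∈ Uall := by rw [hgx₀]; exact hwU
  have hsum := hU₀e x₀ hx₀U.1
  rw [hcoh0, zero_add] at hsum
  have hx₀cl : i x₀ ∈ closure {z} := hrange ▸ Set.mem_range_self x₀
  have hx₀V₂ : i x₀ ∉ V₂ := by
    intro hmem
    rw [hU] at hmem
    obtain ⟨t, ht, hxt⟩ := hmem
    exact hUt t ht x₀ (Set.mem_iInter₂.mp hx₀U.2 t ht) hx₀U.1 hcoh0 hxt
  have hx₀Oa : i x₀ ∈ Oa := by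
    by_contra hcon
    exact hx₀V₂ ⟨hx₀cl, hcon⟩
  have hδ : FlatMor.fibreDimAt g (i x₀) ≤ ((c + e : ℕ) : WithBot ℕ∞) := hx₀Oa
  rw [fibreDimAt_eq_coh_add_tau, hsum] at hδ
  have hδ' : FibCohH8.fibCoh g (i x₀) + (e : ℕ∞) ≤ ((c + e : ℕ) : ℕ∞) := by exact_mod_cast hδ
  have hcohle : FibCohH8.fibCoh g (i x₀) ≤ (c : ℕ∞) := by
    have hne : FibCohH8.fibCoh g (i x₀) ≠ ⊤ := by
      intro htop
      rw [htop, top_add] at hδ'
      exact absurd hδ' (by simp)
    obtain ⟨m, hm⟩ := ENat.ne_top_iff_exists.mp hne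
    rw [← hm] at hδ' ⊢
    have : m + e ≤ c + e := by exact_mod_cast hδ'
    have : m ≤ c := by omega
    exact_mod_cast this
  have hsp : i x₀ ⤳ w := by
    rw [← hw']
    exact hx₀w.map i.continuous
  have hns : i x₀ ∉ g.smoothLocus := by
    intro hsm
    have h1 : z ⤳ i x₀ := specializes_iff_mem_closure.mpr hx₀cl
    exact hzns (h1.mem_open g.smoothLocus.isOpen hsm)
  have := hRC (i x₀) hsp hgx₀ hns
  have h9 : (n : ℕ∞) < (c : ℕ∞) := lt_of_lt_of_le this hcohle
  have : n < c := by exact_mod_cast h9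
  omega

/-- the fibrewise `(R_n)` criterion is generically constant -/
theorem isFibrewiseGC_fibRC (n : ℕ) : IsFibrewiseGC.{u} (fun {X S} f x => FibRC n f x) where
  bc f _ f' g' g hc x' := fibRC_bc n f f' g' g hc x'
  loc f _ j _ u := fibRC_loc n f j u
  genConst g _ _ _ _ _ ζ hζ := by
    by_cases h : FibRC n g ζ
    · obtain ⟨O, hO, hζO, hsub⟩ := genConst_pos n g ζ hζ h
      exact ⟨O, hO, hζO, Or.inl (fun x hx => hsub hx.1)⟩
    · obtain ⟨O, hO, hζO, hsub⟩ := genConst_neg n g ζ hζ h
      exact ⟨O, hO, hζO, Or.inr hsub⟩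

/-- **EGA IV 9.9.2-type**: for a morphism locally of finite presentation the set of points at which the fibre is
geometrically `(R_n)` is locally constructible. -/
theorem main3454 {X S : Scheme.{u}} (f : X ⟶ S) [LocallyOfFinitePresentation f] (n : ℕ) :
    Topology.IsLocallyConstructible {x : X |
      ∀ (K : Type u) [Field K] [Algebra (IsLocalRing.ResidueField (S.presheaf.stalk (f.base x))) K]
        (x' : ↥(FBase.bc (f.fiberToSpecResidueField (f.base x)) K)),
        (FBase.bcπ (f.fiberToSpecResidueField (f.base x)) K).base x' = f.asFiber x →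
          LocCoh.HasRk n ((FBase.bc (f.fiberToSpecResidueField (f.base x)) K).presheaf.stalk x')} := by
  have h := isLocallyConstructible' (isFibrewiseGC_fibRC n) f
  have hset : {x : X | FibRC n f x} = {x : X |
      ∀ (K : Type u) [Field K] [Algebra (IsLocalRing.ResidueField (S.presheaf.stalk (f.base x))) K]
        (x' : ↥(FBase.bc (f.fiberToSpecResidueField (f.base x)) K)),
        (FBase.bcπ (f.fiberToSpecResidueField (f.base x)) K).base x' = f.asFiber x →
          LocCoh.HasRk n ((FBase.bc (f.fiberToSpecResidueField (f.base x)) K).presheaf.stalk x')} := by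
    ext x
    exact fibRC_iff_grkall n f x
  rw [← hset]
  exact h

end Groth.Agent.Lib.FibRkH5
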