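/-
helper5: dimension of the closure of a point in its fibre (`cdim`) and generic equidimensionality of the
fibres of an irreducible closed subset over an integral noetherian base (towards EGA IV 9.8.3; S5873).
* `cdim`, `cdim_fiberι`, `cdim_ne_top`, `cdim_lt_of_specializes`, `cdim_eq_toENat`.
* `exists_open_cdim_max` (E+), `exists_max_generization` (Ex), `exists_open_cdim_lt` (E').
APPEND-ONLY once landed.
-/
import Mathlib
import Groth.Agent.Lib.FibSupp5_helper5
import Groth.Agent.Lib.ProdGen_helper8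
import Groth.Agent.Lib.CompDims_helper8
import Groth.Agent.Lib.OpenAtComp_helper8
import Groth.Agent.Lib.Chev4_helper8
import Groth.Agent.Lib.FibRk8_helper5
import Groth.Agent.Lib.Constr_lead
import Groth.Agent.Lib.EquidimChar_helper8

set_option autoImplicit false

namespace Groth.Agent.Lib.FibAssGenH5

open AlgebraicGeometry CategoryTheory TopologicalSpace Topology Limits
open Groth.Agent.Lib.FibSkH5 Groth.Agent.Lib.FibSuppH5

universe u

section Cdim

variable {X S : Scheme.{u}} (f : X ⟶ S)

/-- the dimension of the closure of `x` in its fibre -/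
noncomputable def cdim (x : X) : ℕ∞ := Order.height (f.asFiber x)

theorem cdim_fiberι (s : S) (z : f.fiber s) : cdim f (f.fiberι s z) = Order.height z := by
  have h := fiber_point_transport f (fun y z => Order.height z = Order.height z) s z
  have h2 := fiber_point_transport f (fun y w => Order.height w = Order.height z) s z
  exact (h2.mp rfl)

theorem cdim_eq_height_of {s : S} {x : X} (z : f.fiber s) (hz : f.fiberι s z = x) :
    cdim f x = Order.height z := by
  subst hz
  exact cdim_fiberι f s z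

theorem height_ne_top' [LocallyOfFiniteType f] [QuasiCompact f] (s : S) (z : f.fiber s) :
    Order.height z ≠ ⊤ := by
  intro h
  have h1 := Groth.Agent.ClosHtH8.topologicalKrullDim_closure_singleton (f.fiber s) z
  have h2 : topologicalKrullDim ↥(closure ({z} : Set ↥(f.fiber s))) < ⊤ :=
    lt_of_le_of_lt (topologicalKrullDim_subspace_le _ _) (fiber_dim_lt_top f s)
  rw [h1, h] at h2
  exact lt_irrefl _ h2

theorem cdim_ne_top [LocallyOfFiniteType f] [QuasiCompact f] (x : X) : cdim f x ≠ ⊤ :=
  height_ne_top' f (f.base x) (f.asFiber x)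

theorem cdim_eq_toENat [LocallyOfFiniteType f] (x : X) :
    cdim f x = Cardinal.toENat (Dual3.resTrdeg f x) := by
  obtain ⟨n, hn, hh⟩ := Groth.Agent.FibRes2H8.height_asFiber f x
  unfold cdim Dual3.resTrdeg
  rw [hh, hn]
  simp

/-- `cdim` increases strictly under proper generization inside a fibre -/
theorem cdim_lt_of_specializes [LocallyOfFiniteType f] [QuasiCompact f] {x x' : X}
    (h : x' ⤳ x) (hf : f.base x' = f.base x) (hne : x' ≠ x) : cdim f x < cdim f x' := by
  obtain ⟨z, hz⟩ := exists_fiber_point f (rfl : f.base x = f.base x)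
  obtain ⟨z', hz'⟩ := exists_fiber_point f hf
  rw [cdim_eq_height_of f z hz, cdim_eq_height_of f z' hz']
  have hsp : z' ⤳ z := (fiberι_specializes_iff f _ z' z).mp (by rw [hz, hz']; exact h)
  have hlt : z < z' := by
    refine lt_of_le_not_ge hsp ?_
    intro hge
    have h2 : z ⤳ z' := hge
    apply hne
    rw [← hz, ← hz', (hsp.antisymm h2).eq]
  exact Order.height_strictMono hlt (lt_top_iff_ne_top.mpr (height_ne_top' f _ z))

theorem cdim_le_of_specializes [LocallyOfFiniteType f] [QuasiCompact f] {x x' : X}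
    (h : x' ⤳ x) (hf : f.base x' = f.base x) : cdim f x ≤ cdim f x' := by
  by_cases hne : x' = x
  · rw [hne]
  · exact (cdim_lt_of_specializes f h hf hne).le

theorem eq_of_cdim_eq [LocallyOfFiniteType f] [QuasiCompact f] {x x' : X}
    (h : x' ⤳ x) (hf : f.base x' = f.base x) (hc : cdim f x' = cdim f x) : x' = x := by
  by_contra hne
  exact absurd hc (cdim_lt_of_specializes f h hf hne).ne'

/-- the dimension of the closure of a point in its fibre, as in the statements -/
theorem dim_closure_eq_cdim (s : S) (z : f.fiber s) :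
    topologicalKrullDim ↥(closure ({z} : Set ↥(f.fiber s))) =
      ((cdim f (f.fiberι s z) : ℕ∞) : WithBot ℕ∞) := by
  rw [cdim_fiberι]
  exact Groth.Agent.ClosHtH8.topologicalKrullDim_closure_singleton (f.fiber s) z

end Cdim

section Generic

variable {X S : Scheme.{u}} [IsIntegral S] [IsNoetherian S] (f : X ⟶ S) [LocallyOfFiniteType f]
  [QuasiCompact f]

set_option maxHeartbeats 1000000 in
/-- **generic equidimensionality along an irreducible closed subset dominating the base** -/
theorem exists_open_cdim_max (ξ : X) (hξ : f.base ξ = genericPoint S) :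
    ∃ U : Set S, IsOpen U ∧ genericPoint S ∈ U ∧ ∀ x ∈ closure ({ξ} : Set X), f.base x ∈ U →
      cdim f x ≤ cdim f ξ ∧
      ((∀ x' ∈ closure ({ξ} : Set X), f.base x' = f.base x → x' ⤳ x → x' = x) →
        cdim f x = cdim f ξ) := by
  classical
  obtain ⟨W, i, hi, hrange⟩ :=
    ProdGenH8.exists_closedImmersion_range X (closure ({ξ} : Set X)) isClosed_closure
  haveI := hi
  set g : W ⟶ S := i ≫ f with hg
  haveI : LocallyOfFiniteType g := inferInstance
  haveI : QuasiCompact g := inferInstance
  haveI : NoetherianSpace W := Groth.Agent.Lib.FibRkH5.noetherianSpace_of_qc g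
  haveI : LocallyOfFinitePresentation g :=
    LocallyOfFinitePresentation.iff_locallyOfFiniteType.mpr inferInstance
  have hemb := i.isClosedEmbedding.isEmbedding
  -- the generic point of `W`
  obtain ⟨ξ'', hξ''⟩ : ξ ∈ Set.range i := by rw [hrange]; exact subset_closure rfl
  have hgen : ∀ a : W, ξ'' ⤳ a := by
    intro a
    rw [← hemb.isInducing.specializes_iff, hξ'', specializes_iff_mem_closure, ← hrange]
    exact ⟨a, rfl⟩
  have hmax'' : ∀ b : W, b ⤳ ξ'' → b = ξ'' := fun b hb => (hb.antisymm (hgen b)).eq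
  have hgξ : g.base ξ'' = genericPoint S := by
    show f.base (i.base ξ'') = _
    rw [hξ'', hξ]
  -- the fibre dimension at the generic point
  have hn0 : FlatMor.fibreDimAt g ξ'' = ((cdim f ξ : ℕ∞) : WithBot ℕ∞) := by
    rw [FibGenH8.fibreDimAt_of_isMax g ξ'' hmax'', OpenAtCompH8.resTrdeg_closedImmersion_comp,
      hξ'', cdim_eq_toENat]
  obtain ⟨n0, hn0'⟩ := EquidimIrrH8.exists_nat_fibreDimAt g ξ''
  have hcn : ((cdim f ξ : ℕ∞) : WithBot ℕ∞) = (n0 : WithBot ℕ∞) := hn0.symm.trans hn0'
  -- the open set where the fibre dimension is generic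
  have hO : IsOpen {w : W | FlatMor.fibreDimAt g w ≤ (n0 : WithBot ℕ∞)} :=
    ChevH8.isOpen_fibreDimAt_le g n0
  have hOc : IsConstructible {w : W | FlatMor.fibreDimAt g w ≤ (n0 : WithBot ℕ∞)}ᶜ :=
    ((NoetherianSpace.isCompact _).isConstructible hO).compl
  have hT : IsConstructible (g '' {w : W | FlatMor.fibreDimAt g w ≤ (n0 : WithBot ℕ∞)}ᶜ) :=
    Scheme.Hom.isConstructible_image g hOc
  have hηT : genericPoint S ∉ g '' {w : W | FlatMor.fibreDimAt g w ≤ (n0 : WithBot ℕ∞)}ᶜ := by
    rintro ⟨w, hw, hgw⟩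
    apply hw
    obtain ⟨ζ, hζg, hζw, hζmax, hζdim⟩ := CompDimsH8.exists_fibre_max_eq g w
    have : ξ'' = ζ := hζmax ξ'' (by rw [hgξ, hgw]) (hgen ζ)
    show FlatMor.fibreDimAt g w ≤ _
    rw [← hζdim, ← this, hn0']
  obtain ⟨U, hU, hηU, hsub⟩ :=
    Groth.Agent.Lib.Constr_lead.exists_open_generic_of_isConstructible hT (genericPoint_spec S)
  have hsub' : U ∩ Set.univ ⊆ (g '' {w : W | FlatMor.fibreDimAt g w ≤ (n0 : WithBot ℕ∞)}ᶜ)ᶜ := by
    rcases hsub with hsub | hsub
    · exact absurd (hsub ⟨hηU, trivial⟩) hηT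
    · exact hsub
  refine ⟨U, hU, hηU, ?_⟩
  intro x hx hxU
  obtain ⟨w, rfl⟩ : x ∈ Set.range i := by rw [hrange]; exact hx
  have hwO : FlatMor.fibreDimAt g w ≤ (n0 : WithBot ℕ∞) := by
    by_contra hcon
    exact hsub' ⟨hxU, trivial⟩ ⟨w, hcon, rfl⟩
  have hwge : (n0 : WithBot ℕ∞) ≤ FlatMor.fibreDimAt g w := by
    rw [← hn0']
    exact FibGenH8.fibreDimAt_le_of_specializes g (hgen w)
  have hweq : FlatMor.fibreDimAt g w = (n0 : WithBot ℕ∞) := le_antisymm hwO hwge
  have hform := FibCohH8.fibreDimAt_eq g w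
  rw [OpenAtCompH8.resTrdeg_closedImmersion_comp, ← cdim_eq_toENat, hweq, ← hcn] at hform
  -- `hform : cdim ξ = fibCoh g w + cdim (i w)`
  have hform' : (cdim f ξ : ℕ∞) = FibCohH8.fibCoh g w + cdim f (i.base w) := by
    exact_mod_cast hform
  constructor
  · rw [hform']
    exact le_add_self
  · intro hmax
    have hwmax : ∀ w'' : W, g.base w'' = g.base w → w'' ⤳ w → w'' = w := by
      intro w'' hgw'' hsp
      have h1 : i.base w'' ∈ closure ({ξ} : Set X) := by rw [← hrange]; exact ⟨w'', rfl⟩
      have h2 := hmax (i.base w'') h1 hgw'' (hsp.map i.base.hom.continuous)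
      exact hemb.injective h2
    rw [OpenAtEqH8.fibCoh_eq_zero_of_isMax g w hwmax, zero_add] at hform'
    exact hform'.symm

set_option maxHeartbeats 1000000 in
/-- every point of an irreducible closed subset has a generization in the same fibre which is maximal in
the trace of the subset on the fibre -/
theorem exists_max_generization (ξ : X) (x : X) (hx : x ∈ closure ({ξ} : Set X)) :
    ∃ x' ∈ closure ({ξ} : Set X), f.base x' = f.base x ∧ x' ⤳ x ∧
      ∀ x'' ∈ closure ({ξ} : Set X), f.base x'' = f.base x' → x'' ⤳ x' → x'' = x' := by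
  obtain ⟨W, i, hi, hrange⟩ :=
    ProdGenH8.exists_closedImmersion_range X (closure ({ξ} : Set X)) isClosed_closure
  haveI := hi
  have hemb := i.isClosedEmbedding.isEmbedding
  obtain ⟨w, rfl⟩ : x ∈ Set.range i := by rw [hrange]; exact hx
  obtain ⟨w', hgw', hsp, hmax⟩ := EquidimCharH8.exists_fibre_max (i ≫ f) w
  refine ⟨i.base w', by rw [← hrange]; exact ⟨w', rfl⟩, hgw', hsp.map i.base.hom.continuous, ?_⟩
  intro x'' hx'' hfx'' hsp''
  obtain ⟨w'', rfl⟩ : x'' ∈ Set.range i := by rw [hrange]; exact hx''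
  have h1 : w'' ⤳ w' := hemb.isInducing.specializes_iff.mp hsp''
  have h2 := hmax w'' (by
    show f.base (i.base w'') = f.base (i.base w)
    rw [hfx'']; exact hgw') h1
  rw [h2]

set_option maxHeartbeats 1000000 in
/-- if the points of a closed subset over the generic point have `cdim < k`, the same holds over a
neighbourhood of the generic point -/
theorem exists_open_cdim_lt (D : Set X) (hD : IsClosed D) (k : ℕ∞)
    (h : ∀ x ∈ D, f.base x = genericPoint S → cdim f x < k) :
    ∃ U : Set S, IsOpen U ∧ genericPoint S ∈ U ∧ ∀ x ∈ D, f.base x ∈ U → cdim f x < k := by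
  classical
  haveI : NoetherianSpace X := Groth.Agent.Lib.FibRkH5.noetherianSpace_of_qc f
  obtain ⟨𝒮, hfin, hcl, hirr, hU⟩ := NoetherianSpace.exists_finite_set_isClosed_irreducible hD
  -- an open for each irreducible piece
  have key : ∀ C ∈ 𝒮, ∃ U : Set S, IsOpen U ∧ genericPoint S ∈ U ∧
      ∀ x ∈ C, f.base x ∈ U → cdim f x < k := by
    intro C hC
    obtain ⟨ξ, hξ⟩ := QuasiSober.sober (hirr C hC) (hcl C hC)
    have hξC : ξ ∈ C := hξ.mem
    have hCeq : C = closure ({ξ} : Set X) := hξ.def.symm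
    have hCD : C ⊆ D := by rw [hU]; exact Set.subset_sUnion_of_mem hC
    by_cases hfξ : f.base ξ = genericPoint S
    · obtain ⟨U, hUo, hηU, hUx⟩ := exists_open_cdim_max f ξ hfξ
      refine ⟨U, hUo, hηU, fun x hxC hxU => ?_⟩
      have h1 := (hUx x (hCeq ▸ hxC) hxU).1
      exact lt_of_le_of_lt h1 (h ξ (hCD hξC) hfξ)
    · refine ⟨(closure ({f.base ξ} : Set S))ᶜ, isClosed_closure.isOpen_compl, ?_, ?_⟩
      · intro hmem
        have h1 : f.base ξ ⤳ genericPoint S := specializes_iff_mem_closure.mpr hmem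
        exact hfξ (h1.antisymm (genericPoint_specializes _)).eq
      · intro x hxC hxU
        exfalso
        apply hxU
        have h1 : ξ ⤳ x := specializes_iff_mem_closure.mpr (hCeq ▸ hxC)
        exact (h1.map f.base.hom.continuous).mem_closure
  choose! V hVo hVη hVx using key
  refine ⟨⋂ C ∈ 𝒮, V C, hfin.isOpen_biInter (fun C hC => hVo C hC),
    Set.mem_iInter₂.mpr (fun C hC => hVη C hC), ?_⟩
  intro x hxD hxU
  rw [hU] at hxD
  obtain ⟨C, hC, hxC⟩ := hxD
  exact hVx C hC x hxC (Set.mem_iInter₂.mp hxU C hC)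

end Generic

end Groth.Agent.Lib.FibAssGenH5
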