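/-
helper5: the associated points of the fibre modules near the generic point of an integral noetherian base
(EGA IV 9.8.3), formulated with points of the total space; S5873.
* `RelAss`, `ZK`, `isOpen_compl_ZK_inter`, `MaxIn`, `exists_open_structure`.
APPEND-ONLY once landed.
-/
import Mathlib
import Groth.Agent.Lib.FibAssGen1_helper5
import Groth.Agent.Lib.FibAssCyc2_helper5
import Groth.Agent.Lib.NegTw2_helper9
import Groth.Agent.Lib.Fpqc1_helper8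

set_option autoImplicit false

namespace Groth.Agent.Lib.FibAssGenH5

open AlgebraicGeometry CategoryTheory TopologicalSpace Topology Limits
open Groth.Agent.Lib.FibSkH5 Groth.Agent.Lib.FibSuppH5 Groth.Agent.Lib.FibAssH5
  Groth.Agent.Lib.FibAssCycH5

universe u

section Defs

variable {X S : Scheme.{u}} (f : X ⟶ S) (F : X.Modules)

/-- the points of `X` which are associated points of the fibre module of their fibre -/
def RelAss : Set X :=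
  {x | f.asFiber x ∈ AssSch.Ass ((Scheme.Modules.pullback (f.fiberι (f.base x))).obj F)}

theorem fiberι_mem_relAss_iff (s : S) (z : f.fiber s) :
    f.fiberι s z ∈ RelAss f F ↔ z ∈ AssSch.Ass ((Scheme.Modules.pullback (f.fiberι s)).obj F) :=
  (fiber_point_transport f
    (fun y z => z ∈ AssSch.Ass ((Scheme.Modules.pullback (f.fiberι y)).obj F)) s z).symm

/-- points lying on an associated cycle of dimension `k` of their fibre -/
def ZK (k : ℕ) : Set X :=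
  {x | ∃ x' : X, x' ⤳ x ∧ f.base x' = f.base x ∧ x' ∈ RelAss f F ∧ cdim f x' = k}

theorem compl_ZK_eq [LocallyOfFinitePresentation f] [QuasiCompact f] (k : ℕ) :
    (ZK f F k)ᶜ = {x : X | ∀ z : f.fiber (f.base x),
      f.asFiber x ∈ closure ({z} : Set ↥(f.fiber (f.base x))) →
        FibAssQ f F {n | n ≠ k} (f.base x) z} := by
  ext x
  rw [Set.mem_ofPred_eq, forall_generization_iff]
  constructor
  · intro hx x' hsp hfx' hass
    have hne : cdim f x' ≠ k := fun hc => hx ⟨x', hsp, hfx', hass, hc⟩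
    refine ⟨(cdim f x').toNat, ?_, ?_⟩
    · intro hc
      apply hne
      rw [← ENat.natCast_toNat (cdim_ne_top f x'), hc]
    · rw [dim_closure_eq_height]
      show ((cdim f x' : ℕ∞) : WithBot ℕ∞) = _
      rw [← ENat.natCast_toNat (cdim_ne_top f x')]
      rfl
  · rintro hx ⟨x', hsp, hfx', hass, hc⟩
    obtain ⟨n, hn, hd⟩ := hx x' hsp hfx' hass
    rw [dim_closure_eq_height] at hd
    have hd' : ((cdim f x' : ℕ∞) : WithBot ℕ∞) = ((n : ℕ∞) : WithBot ℕ∞) := hd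
    have hd'' : cdim f x' = (n : ℕ∞) := by exact_mod_cast hd'
    rw [hc] at hd''
    exact hn (by exact_mod_cast hd''.symm)

theorem isOpen_compl_ZK_inter [LocallyOfFinitePresentation f] [QuasiCompact f]
    (hF : CohB1.IsFP F) (U₀ : S.Opens)
    (hflat : ∀ x : X, f.base x ∈ U₀ → FlatMod.IsFlatOverAt f F x) (k : ℕ) :
    IsOpen ((ZK f F k)ᶜ ∩ f.base ⁻¹' (U₀ : Set S)) := by
  rw [compl_ZK_eq]
  exact isOpen_fibAssDimIn_inter f F hF U₀ hflat _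

/-- `x` is a maximal point of the trace of `closure {ξ}` on the fibre over `s` -/
def MaxIn (s : S) (ξ x : X) : Prop :=
  f.base x = s ∧ x ∈ closure ({ξ} : Set X) ∧
    ∀ x' ∈ closure ({ξ} : Set X), f.base x' = s → x' ⤳ x → x' = x

end Defs

section Main

theorem exists_open_disjoint_of_isConstructible {S : Type*} [TopologicalSpace S] {η : S}
    (hη : IsGenericPoint η (Set.univ : Set S)) {T : Set S} (hT : IsConstructible T)
    (hηT : η ∉ T) : ∃ U : Set S, IsOpen U ∧ η ∈ U ∧ ∀ s ∈ U, s ∉ T := by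
  obtain ⟨U, hU, hηU, hsub⟩ :=
    Groth.Agent.Lib.Constr_lead.exists_open_generic_of_isConstructible hT hη
  refine ⟨U, hU, hηU, ?_⟩
  rcases hsub with hsub | hsub
  · exact absurd (hsub ⟨hηU, trivial⟩) hηT
  · exact fun s hs => hsub ⟨hs, trivial⟩

variable {X S : Scheme.{u}} [IsIntegral S] [IsNoetherian S] (f : X ⟶ S) [LocallyOfFiniteType f]
  [QuasiCompact f] (F : X.Modules) [Coh.IsQCoh F]

set_option maxHeartbeats 1000000 in
/-- the associated points of the generic fibre module are finitely many -/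
theorem finite_relAss_generic (hF : CohB1.IsFP F) :
    {ξ : X | ξ ∈ RelAss f F ∧ f.base ξ = genericPoint S}.Finite := by
  haveI : F.IsQuasicoherent := ‹Coh.IsQCoh F›
  haveI : SheafOfModules.IsFinitePresentation (R := X.ringCatSheaf) F := hF
  haveI : IsLocallyNoetherian (f.fiber (genericPoint S)) :=
    Groth.Agent.FibChainH8.isLocallyNoetherian_fiber f (genericPoint S)
  haveI : IsNoetherian (f.fiber (genericPoint S)) := {}
  haveI hfp := FpqcH8.isFP_pullback (f.fiberι (genericPoint S)) F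
  have hcoh : Coh.IsCoh ((Scheme.Modules.pullback (f.fiberι (genericPoint S))).obj F) :=
    ⟨inferInstance, Groth.Agent.Lib.FibTors.isFT_of_isFP _ hfp⟩
  have hfin := NegTw9.finite_assPoints _ hcoh
  refine (hfin.image (f.fiberι (genericPoint S)).base).subset ?_
  rintro ξ ⟨hξ, hfξ⟩
  obtain ⟨z, rfl⟩ := exists_fiber_point f hfξ
  exact ⟨z, (fiberι_mem_relAss_iff f F _ z).mp hξ, rfl⟩

set_option maxHeartbeats 4000000 in
/-- **EGA IV 9.8.3** with points of the total space -/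
theorem exists_open_structure (hF : CohB1.IsFP F) :
    ∃ U : S.Opens, genericPoint S ∈ U ∧ ∀ s ∈ U,
      (∀ x : X, f.base x = s → (x ∈ RelAss f F ↔
        ∃ ξ ∈ RelAss f F, f.base ξ = genericPoint S ∧ MaxIn f s ξ x)) ∧
      (∀ ξ ∈ RelAss f F, f.base ξ = genericPoint S → ∀ ξ' ∈ RelAss f F,
        f.base ξ' = genericPoint S → ξ ≠ ξ' → ∀ x : X, MaxIn f s ξ x → ¬ MaxIn f s ξ' x) ∧
      (∀ ξ ∈ RelAss f F, f.base ξ = genericPoint S → ∀ x : X, MaxIn f s ξ x →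
        ((∀ y ∈ RelAss f F, f.base y = s → y ⤳ x → y = x) ↔
          (∀ y ∈ RelAss f F, f.base y = genericPoint S → y ⤳ ξ → y = ξ))) := by
  classical
  haveI : F.IsQuasicoherent := ‹Coh.IsQCoh F›
  haveI : SheafOfModules.IsFiniteType (R := X.ringCatSheaf) F :=
    Groth.Agent.Lib.FibTors.isFT_of_isFP F hF
  haveI : NoetherianSpace X := Groth.Agent.Lib.FibRkH5.noetherianSpace_of_qc f
  haveI : LocallyOfFinitePresentation f :=
    LocallyOfFinitePresentation.iff_locallyOfFiniteType.mpr inferInstance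
  obtain ⟨U₀, ⟨s₀, hs₀⟩, hfl⟩ := GenFlatSchH8.generic_flat f F
  have hηU₀ : genericPoint S ∈ U₀ := (genericPoint_specializes s₀).mem_open U₀.2 hs₀
  set η := genericPoint S with hηdef
  set 𝒜 : Set X := {ξ : X | ξ ∈ RelAss f F ∧ f.base ξ = η} with h𝒜
  have h𝒜fin : 𝒜.Finite := finite_relAss_generic f F hF
  have hfin : ∀ x : X, cdim f x = ((cdim f x).toNat : ℕ∞) := fun x =>
    (ENat.natCast_toNat (cdim_ne_top f x)).symm
  have hpre : IsOpen (f.base ⁻¹' (U₀ : Set S)) := U₀.2.preimage f.base.hom.continuous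
  -- (1) the dimensions of the associated cycles
  obtain ⟨UK, hUKo, hηUK, hUK⟩ := exists_open_subset_const f F hF U₀ hηU₀ hfl
    {n : ℕ | ∃ ξ ∈ 𝒜, cdim f ξ = n}
  have hKη : dimsAss ((Scheme.Modules.pullback (f.fiberι η)).obj F) ⊆
      (fun n : ℕ => (n : WithBot ℕ∞)) '' {n : ℕ | ∃ ξ ∈ 𝒜, cdim f ξ = n} := by
    rintro _ ⟨z, hz, rfl⟩
    refine ⟨(cdim f (f.fiberι η z)).toNat,
      ⟨f.fiberι η z, ⟨(fiberι_mem_relAss_iff f F η z).mpr hz, base_fiberι f η z⟩,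
        hfin _⟩, ?_⟩
    show ((((cdim f (f.fiberι η z)).toNat : ℕ) : ℕ∞) : WithBot ℕ∞) = _
    rw [← hfin]
    exact (dim_closure_eq_cdim f η z).symm
  have hK : ∀ s ∈ UK, ∀ x ∈ RelAss f F, f.base x = s → ∃ ξ ∈ 𝒜, cdim f ξ = cdim f x := by
    intro s hs x hx hfx
    obtain ⟨z, rfl⟩ := exists_fiber_point f hfx
    have hz := (fiberι_mem_relAss_iff f F s z).mp hx
    obtain ⟨n, ⟨ξ, hξ, hξn⟩, hn⟩ := ((hUK s hs).mpr hKη) ⟨z, hz, rfl⟩
    refine ⟨ξ, hξ, ?_⟩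
    have h1 : ((n : ℕ) : WithBot ℕ∞) = ((cdim f (f.fiberι s z) : ℕ∞) : WithBot ℕ∞) := by
      rw [← dim_closure_eq_cdim]; exact hn
    have h2 : ((n : ℕ) : ℕ∞) = cdim f (f.fiberι s z) := by exact_mod_cast h1
    rw [hξn, h2]
  -- (2) generic equidimensionality of the closures of the associated points of the generic fibre
  have h1 : ∀ ξ ∈ 𝒜, ∃ U : Set S, IsOpen U ∧ η ∈ U ∧ ∀ x ∈ closure ({ξ} : Set X),
      f.base x ∈ U → cdim f x ≤ cdim f ξ ∧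
      ((∀ x' ∈ closure ({ξ} : Set X), f.base x' = f.base x → x' ⤳ x → x' = x) →
        cdim f x = cdim f ξ) := fun ξ hξ => exists_open_cdim_max f ξ hξ.2
  choose! U1 hU1o hU1η hU1x using h1
  -- (3) intersections of two such closures
  have h2 : ∀ ξ ∈ 𝒜, ∀ ξ' ∈ 𝒜, ∃ U : Set S, IsOpen U ∧ η ∈ U ∧
      (ξ ∉ closure ({ξ'} : Set X) → ∀ x ∈ closure ({ξ} : Set X) ∩ closure ({ξ'} : Set X),
        f.base x ∈ U → cdim f x < cdim f ξ) := by
    intro ξ hξ ξ' hξ'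
    by_cases hmem : ξ ∈ closure ({ξ'} : Set X)
    · exact ⟨Set.univ, isOpen_univ, trivial, fun h => absurd hmem h⟩
    · obtain ⟨U, hUo, hηU, hUx⟩ := exists_open_cdim_lt f
        (closure ({ξ} : Set X) ∩ closure ({ξ'} : Set X))
        (isClosed_closure.inter isClosed_closure) (cdim f ξ) (by
          rintro x ⟨hx1, hx2⟩ hfx
          have hsp : ξ ⤳ x := specializes_iff_mem_closure.mpr hx1
          have hne : ξ ≠ x := by
            rintro rfl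
            exact hmem hx2
          exact cdim_lt_of_specializes f hsp (hξ.2.trans hfx.symm) hne)
      exact ⟨U, hUo, hηU, fun _ => hUx⟩
  choose! U2 hU2o hU2η hU2x using h2
  -- (4) the associated cycles of dimension `k` are traces of closures of associated points of the
  -- generic fibre
  have h3 : ∀ k : ℕ, ∃ U : Set S, IsOpen U ∧ η ∈ U ∧ ∀ x ∈ ZK f F k, f.base x ∈ U →
      f.base x ∈ U₀ → ∃ ξ ∈ 𝒜, cdim f ξ = k ∧ x ∈ closure ({ξ} : Set X) := by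
    intro k
    set R : Set X := ⋃ ξ ∈ {ξ : X | ξ ∈ 𝒜 ∧ cdim f ξ = k}, closure ({ξ} : Set X) with hR
    have hRcl : IsClosed R :=
      (h𝒜fin.subset (fun ξ hξ => hξ.1)).isClosed_biUnion (fun ξ _ => isClosed_closure)
    have hopen := isOpen_compl_ZK_inter f F hF U₀ hfl k
    have hB : IsConstructible
        ((((ZK f F k)ᶜ ∩ f.base ⁻¹' (U₀ : Set S))ᶜ ∩ f.base ⁻¹' (U₀ : Set S)) ∩ Rᶜ) := by
      have c1 : IsConstructible ((ZK f F k)ᶜ ∩ f.base ⁻¹' (U₀ : Set S)) :=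
        (NoetherianSpace.isCompact _).isConstructible hopen
      have c2 : IsConstructible (f.base ⁻¹' (U₀ : Set S)) :=
        (NoetherianSpace.isCompact _).isConstructible hpre
      have c3 : IsConstructible Rᶜ :=
        (NoetherianSpace.isCompact _).isConstructible hRcl.isOpen_compl
      exact (c1.compl.inter c2).inter c3
    have hT := Scheme.Hom.isConstructible_image f hB
    have hηT : η ∉ f '' ((((ZK f F k)ᶜ ∩ f.base ⁻¹' (U₀ : Set S))ᶜ ∩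
        f.base ⁻¹' (U₀ : Set S)) ∩ Rᶜ) := by
      rintro ⟨x, ⟨⟨hx1, hx2⟩, hxR⟩, hfx⟩
      apply hxR
      have hxZ : x ∈ ZK f F k := by
        by_contra hcon
        exact hx1 ⟨hcon, hx2⟩
      obtain ⟨x', hsp, hfx', hass, hc⟩ := hxZ
      exact Set.mem_biUnion (show x' ∈ {ξ : X | ξ ∈ 𝒜 ∧ cdim f ξ = k} from
        ⟨⟨hass, hfx'.trans hfx⟩, hc⟩) hsp.mem_closure
    obtain ⟨U, hUo, hηU, hUT⟩ :=
      exists_open_disjoint_of_isConstructible (genericPoint_spec S) hT hηT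
    refine ⟨U, hUo, hηU, fun x hxZ hxU hxU₀ => ?_⟩
    by_contra hcon
    apply hUT _ hxU
    refine ⟨x, ⟨⟨fun hmem => hmem.1 hxZ, hxU₀⟩, ?_⟩, rfl⟩
    intro hxR
    obtain ⟨ξ, ⟨hξ, hξk⟩, hxξ⟩ := Set.mem_iUnion₂.mp hxR
    exact hcon ⟨ξ, hξ, hξk, hxξ⟩
  choose U3 hU3o hU3η hU3x using h3
  -- the neighbourhood
  refine ⟨⟨((U₀ : Set S) ∩ UK) ∩ ⋂ ξ ∈ 𝒜, ((U1 ξ ∩ U3 (cdim f ξ).toNat) ∩ ⋂ ξ' ∈ 𝒜, U2 ξ ξ'),
    (U₀.2.inter hUKo).inter (h𝒜fin.isOpen_biInter (fun ξ hξ =>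
      ((hU1o ξ hξ).inter (hU3o _)).inter
        (h𝒜fin.isOpen_biInter (fun ξ' hξ' => hU2o ξ hξ ξ' hξ'))))⟩, ?_, ?_⟩
  · exact ⟨⟨hηU₀, hηUK⟩, Set.mem_iInter₂.mpr (fun ξ hξ =>
      ⟨⟨hU1η ξ hξ, hU3η _⟩, Set.mem_iInter₂.mpr (fun ξ' hξ' => hU2η ξ hξ ξ' hξ')⟩)⟩
  rintro s ⟨⟨hsU₀, hsUK⟩, hsA⟩
  have hsA' : ∀ ξ ∈ 𝒜, (s ∈ U1 ξ ∧ s ∈ U3 (cdim f ξ).toNat) ∧ ∀ ξ' ∈ 𝒜, s ∈ U2 ξ ξ' :=
    fun ξ hξ => ⟨(Set.mem_iInter₂.mp hsA ξ hξ).1,
      fun ξ' hξ' => Set.mem_iInter₂.mp (Set.mem_iInter₂.mp hsA ξ hξ).2 ξ' hξ'⟩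
  -- consequences over `s`
  have hE : ∀ ξ ∈ 𝒜, ∀ x ∈ closure ({ξ} : Set X), f.base x = s → cdim f x ≤ cdim f ξ :=
    fun ξ hξ x hx hfx => (hU1x ξ hξ x hx (by rw [hfx]; exact (hsA' ξ hξ).1.1)).1
  have hEmax : ∀ ξ ∈ 𝒜, ∀ x : X, MaxIn f s ξ x → cdim f x = cdim f ξ := by
    intro ξ hξ x hx
    refine (hU1x ξ hξ x hx.2.1 (by rw [hx.1]; exact (hsA' ξ hξ).1.1)).2 ?_
    intro x' hx' hfx' hsp
    exact hx.2.2 x' hx' (hfx'.trans hx.1) hsp
  have hE' : ∀ ξ ∈ 𝒜, ∀ ξ' ∈ 𝒜, ξ ∉ closure ({ξ'} : Set X) → ∀ x : X,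
      x ∈ closure ({ξ} : Set X) → x ∈ closure ({ξ'} : Set X) → f.base x = s →
      cdim f x < cdim f ξ :=
    fun ξ hξ ξ' hξ' hmem x hx1 hx2 hfx =>
      hU2x ξ hξ ξ' hξ' hmem x ⟨hx1, hx2⟩ (by rw [hfx]; exact (hsA' ξ hξ).2 ξ' hξ')
  have hZ : ∀ ξ ∈ 𝒜, ∀ x ∈ RelAss f F, f.base x = s → cdim f x = cdim f ξ →
      ∃ ξ₁ ∈ 𝒜, cdim f ξ₁ = cdim f ξ ∧ x ∈ closure ({ξ₁} : Set X) := by
    intro ξ hξ x hx hfx hc
    obtain ⟨ξ₁, hξ₁, hξ₁k, hxξ₁⟩ := hU3x (cdim f ξ).toNat x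
      ⟨x, specializes_rfl, rfl, hx, by rw [hc]; exact hfin ξ⟩
      (by rw [hfx]; exact (hsA' ξ hξ).1.2) (by rw [hfx]; exact hsU₀)
    exact ⟨ξ₁, hξ₁, by rw [hξ₁k]; exact (hfin ξ).symm, hxξ₁⟩
  -- (a), both directions
  have ha1 : ∀ ξ ∈ 𝒜, ∀ x : X, MaxIn f s ξ x → x ∈ RelAss f F := by
    intro ξ hξ x hx
    have hc := hEmax ξ hξ x hx
    have hξZ : ξ ∈ ZK f F (cdim f ξ).toNat := ⟨ξ, specializes_rfl, rfl, hξ.1, hfin ξ⟩
    have hxZ : x ∈ ZK f F (cdim f ξ).toNat := by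
      by_contra hcon
      have hxO : x ∈ (ZK f F (cdim f ξ).toNat)ᶜ ∩ f.base ⁻¹' (U₀ : Set S) :=
        ⟨hcon, by show f.base x ∈ (U₀ : Set S); rw [hx.1]; exact hsU₀⟩
      have hsp : ξ ⤳ x := specializes_iff_mem_closure.mpr hx.2.1
      exact (hsp.mem_open (isOpen_compl_ZK_inter f F hF U₀ hfl _) hxO).1 hξZ
    obtain ⟨x', hsp, hfx', hass, hc'⟩ := hxZ
    have : x' = x := eq_of_cdim_eq f hsp hfx' (by rw [hc', hc]; exact (hfin ξ).symm)
    rwa [this] at hass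
  have ha2 : ∀ x ∈ RelAss f F, f.base x = s → ∃ ξ ∈ 𝒜, MaxIn f s ξ x := by
    intro x hx hfx
    obtain ⟨ξ, hξ, hξc⟩ := hK s hsUK x hx hfx
    obtain ⟨ξ₁, hξ₁, hξ₁c, hxξ₁⟩ := hZ ξ hξ x hx hfx hξc.symm
    refine ⟨ξ₁, hξ₁, hfx, hxξ₁, ?_⟩
    intro x' hx' hfx' hsp
    by_contra hne
    have h1 := cdim_lt_of_specializes f hsp (hfx'.trans hfx.symm) hne
    have h2 := hE ξ₁ hξ₁ x' hx' hfx'
    rw [hξ₁c, hξc] at h2
    exact absurd h1 (not_lt.mpr h2)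
  -- (b)
  have hb : ∀ ξ ∈ 𝒜, ∀ ξ' ∈ 𝒜, ξ ≠ ξ' → ∀ x : X, MaxIn f s ξ x → ¬ MaxIn f s ξ' x := by
    intro ξ hξ ξ' hξ' hne x hx hx'
    have hc := hEmax ξ hξ x hx
    have hc' := hEmax ξ' hξ' x hx'
    have hmem : ξ ∉ closure ({ξ'} : Set X) := by
      intro hmem
      have hsp : ξ' ⤳ ξ := specializes_iff_mem_closure.mpr hmem
      exact hne (eq_of_cdim_eq f hsp (hξ'.2.trans hξ.2.symm) (by rw [← hc', hc])).symm
    exact absurd (hE' ξ hξ ξ' hξ' hmem x hx.2.1 hx'.2.1 hx.1) (by rw [hc]; exact lt_irrefl _)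
  refine ⟨?_, ?_, ?_⟩
  · intro x hfx
    constructor
    · intro hx
      obtain ⟨ξ, hξ, hm⟩ := ha2 x hx hfx
      exact ⟨ξ, hξ.1, hξ.2, hm⟩
    · rintro ⟨ξ, hξ1, hξ2, hm⟩
      exact ha1 ξ ⟨hξ1, hξ2⟩ x hm
  · intro ξ hξ1 hξ2 ξ' hξ'1 hξ'2 hne x hx
    exact hb ξ ⟨hξ1, hξ2⟩ ξ' ⟨hξ'1, hξ'2⟩ hne x hx
  · intro ξ hξ1 hξ2 x hx
    have hξ : ξ ∈ 𝒜 := ⟨hξ1, hξ2⟩
    constructor
    · intro hmin ξ' hξ'1 hξ'2 hsp
      have hξ' : ξ' ∈ 𝒜 := ⟨hξ'1, hξ'2⟩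
      by_contra hne
      have hxξ' : x ∈ closure ({ξ'} : Set X) :=
        (hsp.trans (specializes_iff_mem_closure.mpr hx.2.1)).mem_closure
      obtain ⟨y, hy, hfy, hyx, hymax⟩ := exists_max_generization f ξ' x hxξ'
      have hym : MaxIn f s ξ' y := ⟨hfy.trans hx.1, hy, fun x'' hx'' hfx'' hsp'' =>
        hymax x'' hx'' (hfx''.trans (hfy.trans hx.1).symm) hsp''⟩
      have hyass := ha1 ξ' hξ' y hym
      have hyx' : y = x := hmin y hyass hym.1 hyx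
      rw [hyx'] at hym
      exact hb ξ hξ ξ' hξ' (fun h => hne h.symm) x hx hym
    · intro hmin y hy hfy hyx
      obtain ⟨ξ', hξ', hym⟩ := ha2 y hy hfy
      have hxξ' : x ∈ closure ({ξ'} : Set X) :=
        ((specializes_iff_mem_closure.mpr hym.2.1).trans hyx).mem_closure
      by_cases hmem : ξ ∈ closure ({ξ'} : Set X)
      · have hsp : ξ' ⤳ ξ := specializes_iff_mem_closure.mpr hmem
        have heq : ξ' = ξ := hmin ξ' hξ'.1 hξ'.2 hsp
        rw [heq] at hym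
        exact hx.2.2 y hym.2.1 hfy hyx
      · have h1 := hE' ξ hξ ξ' hξ' hmem x hx.2.1 hxξ' hx.1
        rw [hEmax ξ hξ x hx] at h1
        exact absurd h1 (lt_irrefl _)

end Main

end Groth.Agent.Lib.FibAssGenH5
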