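/-
helper5: EGA IV 9.8.3 in the form of S5873 (translation of `exists_open_structure` to the points of the fibres).
APPEND-ONLY once landed.
-/
import Mathlib
import Groth.Agent.Lib.FibAssGen2_helper5

set_option autoImplicit false

namespace Groth.Agent.Lib.FibAssGenH5

open AlgebraicGeometry CategoryTheory TopologicalSpace Topology Limits
open Groth.Agent.Lib.FibSkH5 Groth.Agent.Lib.FibSuppH5 Groth.Agent.Lib.FibAssH5
  Groth.Agent.Lib.FibAssCycH5

universe u

section Translate

variable {X S : Scheme.{u}} (f : X ⟶ S) (F : X.Modules)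

/-- the maximal points of the trace on the fibre over `s` of the closure of a point `ξ` of `X` -/
def MM (s : S) (ξ : X) : Set ↥(f.fiber s) :=
  {z : ↥(f.fiber s) | z ∈ ((f.fiberι s).base ⁻¹' closure {ξ}) ∧
    ∀ z' ∈ ((f.fiberι s).base ⁻¹' closure {ξ}), z' ⤳ z → z' = z}

theorem mem_MM_iff (s : S) (ξ : X) (z : f.fiber s) :
    z ∈ MM f s ξ ↔ MaxIn f s ξ (f.fiberι s z) := by
  constructor
  · rintro ⟨hz, hmax⟩
    refine ⟨base_fiberι f s z, hz, ?_⟩
    intro x' hx' hfx' hsp
    obtain ⟨z', rfl⟩ := exists_fiber_point f hfx'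
    rw [hmax z' hx' ((fiberι_specializes_iff f s z' z).mp hsp)]
  · rintro ⟨-, hz, hmax⟩
    refine ⟨hz, ?_⟩
    intro z' hz' hsp
    exact (f.fiberι s).isEmbedding.injective
      (hmax _ hz' (base_fiberι f s z') ((fiberι_specializes_iff f s z' z).mpr hsp))

theorem forall_ass_iff (s : S) (z : f.fiber s) :
    (∀ y ∈ AssSch.Ass ((Scheme.Modules.pullback (f.fiberι s)).obj F), y ⤳ z → y = z) ↔
      (∀ y' ∈ RelAss f F, f.base y' = s → y' ⤳ f.fiberι s z → y' = f.fiberι s z) := by
  constructor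
  · intro h y' hy' hfy' hsp
    obtain ⟨y, rfl⟩ := exists_fiber_point f hfy'
    rw [h y ((fiberι_mem_relAss_iff f F s y).mp hy') ((fiberι_specializes_iff f s y z).mp hsp)]
  · intro h y hy hsp
    exact (f.fiberι s).isEmbedding.injective
      (h _ ((fiberι_mem_relAss_iff f F s y).mpr hy) (base_fiberι f s y)
        ((fiberι_specializes_iff f s y z).mpr hsp))

end Translate

set_option maxHeartbeats 2000000 in
/-- **S5873** -/
theorem main5873 {X S : Scheme.{u}} [IsIntegral S] [IsNoetherian S]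
    (f : X ⟶ S) [LocallyOfFiniteType f] [QuasiCompact f]
    (F : X.Modules) [Coh.IsQCoh F] (hF : CohB1.IsFP F) :
    ∃ U : S.Opens, genericPoint S ∈ U ∧ ∀ s ∈ U,
      (AssSch.Ass ((Scheme.Modules.pullback (f.fiberι s)).obj F) =
          ⋃ x ∈ AssSch.Ass ((Scheme.Modules.pullback (f.fiberι (genericPoint S))).obj F),
            MM f s ((f.fiberι (genericPoint S)).base x)) ∧
      (∀ x ∈ AssSch.Ass ((Scheme.Modules.pullback (f.fiberι (genericPoint S))).obj F),
        ∀ x' ∈ AssSch.Ass ((Scheme.Modules.pullback (f.fiberι (genericPoint S))).obj F), x ≠ x' →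
          Disjoint (MM f s ((f.fiberι (genericPoint S)).base x))
            (MM f s ((f.fiberι (genericPoint S)).base x'))) ∧
      (∀ x ∈ AssSch.Ass ((Scheme.Modules.pullback (f.fiberι (genericPoint S))).obj F),
        ∀ z ∈ MM f s ((f.fiberι (genericPoint S)).base x),
          ((∀ y ∈ AssSch.Ass ((Scheme.Modules.pullback (f.fiberι s)).obj F), y ⤳ z → y = z) ↔
            (∀ y ∈ AssSch.Ass ((Scheme.Modules.pullback (f.fiberι (genericPoint S))).obj F),
              y ⤳ x → y = x))) := by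
  obtain ⟨U, hηU, hU⟩ := exists_open_structure f F hF
  refine ⟨U, hηU, fun s hs => ?_⟩
  obtain ⟨ha, hb, hc⟩ := hU s hs
  set η := genericPoint S with hη
  refine ⟨?_, ?_, ?_⟩
  · ext z
    rw [← fiberι_mem_relAss_iff f F s z, ha _ (base_fiberι f s z)]
    simp only [Set.mem_iUnion, exists_prop]
    constructor
    · rintro ⟨ξ, hξ, hfξ, hm⟩
      obtain ⟨x, rfl⟩ := exists_fiber_point f hfξ
      exact ⟨x, (fiberι_mem_relAss_iff f F η x).mp hξ, (mem_MM_iff f s _ z).mpr hm⟩
    · rintro ⟨x, hx, hz⟩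
      exact ⟨f.fiberι η x, (fiberι_mem_relAss_iff f F η x).mpr hx, base_fiberι f η x,
        (mem_MM_iff f s _ z).mp hz⟩
  · intro x hx x' hx' hne
    rw [Set.disjoint_left]
    intro z hz hz'
    refine hb _ ((fiberι_mem_relAss_iff f F η x).mpr hx) (base_fiberι f η x)
      _ ((fiberι_mem_relAss_iff f F η x').mpr hx') (base_fiberι f η x') ?_ _
      ((mem_MM_iff f s _ z).mp hz) ((mem_MM_iff f s _ z).mp hz')
    intro h
    exact hne ((f.fiberι η).isEmbedding.injective h)
  · intro x hx z hz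
    rw [forall_ass_iff f F s z, forall_ass_iff f F η x]
    exact hc _ ((fiberι_mem_relAss_iff f F η x).mpr hx) (base_fiberι f η x) _
      ((mem_MM_iff f s _ z).mp hz)

end Groth.Agent.Lib.FibAssGenH5
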