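import Mathlib

/-!
# Fibrations (`O_S ≅ f_* O_X`) and flat base change (helper8)
-/

universe u

open AlgebraicGeometry CategoryTheory Limits TopologicalSpace Opposite

namespace FibH8

/-- A morphism of schemes whose comorphism is bijective on a basis of opens has bijective
comorphism on all opens. -/
theorem bijective_app_of_basis {X Y : Scheme.{u}} (f : X ⟶ Y) {ι : Type*} (B : ι → Y.Opens)
    (hB : Opens.IsBasis (Set.range B)) (h : ∀ i, Function.Bijective (f.app (B i))) (U : Y.Opens) :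
    Function.Bijective (f.app U) := by
  let ψ : Y.sheaf ⟶ (TopCat.Sheaf.pushforward CommRingCat f.base).obj X.sheaf := ⟨f.c⟩
  haveI : IsIso ψ := TopCat.Sheaf.isIso_iff_isIso_basis (B := B) hB
    (fun i => (ConcreteCategory.isIso_iff_bijective _).2 (h i))
  have h1 : IsIso ((sheafToPresheaf (Opens.grothendieckTopology Y) CommRingCat).map ψ) :=
    CategoryTheory.Functor.map_isIso _ ψ
  have h2 : IsIso (((sheafToPresheaf (Opens.grothendieckTopology Y) CommRingCat).map ψ).app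
      (op U)) := inferInstance
  exact (ConcreteCategory.isIso_iff_bijective _).1 h2

variable {X Y S T : Scheme.{u}} {f : T ⟶ S} {g : Y ⟶ X} {iX : X ⟶ S} {iY : Y ⟶ T}

/-- **Flat base change of a fibration**, small affine opens. -/
theorem bijective_app_of_isPullback_affine (H : IsPullback g iY iX f) [Flat f] [QuasiCompact iX]
    [QuasiSeparated iX] (hb : ∀ V : S.Opens, Function.Bijective (iX.app V))
    {US : S.Opens} {UT : T.Opens} (hUS : IsAffineOpen US) (hUT : IsAffineOpen UT)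
    (hUST : UT ≤ f ⁻¹ᵁ US) : Function.Bijective (iY.app UT) := by
  have hUSX : iX ⁻¹ᵁ US ≤ iX ⁻¹ᵁ US := le_rfl
  have hUY : iY ⁻¹ᵁ UT = g ⁻¹ᵁ (iX ⁻¹ᵁ US) ⊓ iY ⁻¹ᵁ UT := by
    refine (inf_eq_right.2 ?_).symm
    have h1 : g ⁻¹ᵁ (iX ⁻¹ᵁ US) = iY ⁻¹ᵁ (f ⁻¹ᵁ US) := by
      rw [← Scheme.Hom.comp_preimage, ← Scheme.Hom.comp_preimage, H.w]
    rw [h1]
    exact (Opens.map iY.base).monotone hUST
  haveI := isIso_pushoutSection_of_isQuasiSeparated_of_flat_right H hUST hUSX hUY hUS hUT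
    (iX.isCompact_preimage hUS.isCompact) (iX.isQuasiSeparated_preimage hUS.isQuasiSeparated)
  haveI : IsIso (iX.appLE US (iX ⁻¹ᵁ US) hUSX) := by
    have : iX.appLE US (iX ⁻¹ᵁ US) hUSX = iX.app US := by simp [Scheme.Hom.appLE]
    rw [this]
    exact (ConcreteCategory.isIso_iff_bijective _).2 (hb US)
  have h2 : pushout.inr _ _ ≫ pushoutSection H hUST hUSX hUY =
      iY.appLE UT (iY ⁻¹ᵁ UT) (by simp) := pushout.inr_desc _ _ _
  have h3 : IsIso (iY.appLE UT (iY ⁻¹ᵁ UT) (by simp)) := by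
    rw [← h2]; infer_instance
  have h4 : iY.appLE UT (iY ⁻¹ᵁ UT) (by simp) = iY.app UT := by simp [Scheme.Hom.appLE]
  rw [h4] at h3
  exact (ConcreteCategory.isIso_iff_bijective _).1 h3

/-- **Flat base change of a fibration.** -/
theorem bijective_app_of_isPullback (H : IsPullback g iY iX f) [Flat f] [QuasiCompact iX]
    [QuasiSeparated iX] (hb : ∀ V : S.Opens, Function.Bijective (iX.app V)) (UT : T.Opens) :
    Function.Bijective (iY.app UT) := by
  let B : {V : T.Opens // IsAffineOpen V ∧ ∃ US : S.Opens, IsAffineOpen US ∧ V ≤ f ⁻¹ᵁ US} →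
    T.Opens := Subtype.val
  have hB : Opens.IsBasis (Set.range B) := by
    rw [Opens.isBasis_iff_nbhd]
    intro W x hxW
    obtain ⟨_, ⟨US, hUS, rfl⟩, hfx, -⟩ :=
      S.isBasis_affineOpens.exists_subset_of_mem_open (Set.mem_univ (f x)) isOpen_univ
    have hx' : x ∈ W ⊓ f ⁻¹ᵁ US := ⟨hxW, hfx⟩
    obtain ⟨_, ⟨V, hV, rfl⟩, hxV, hVW⟩ :=
      T.isBasis_affineOpens.exists_subset_of_mem_open hx' (W ⊓ f ⁻¹ᵁ US).isOpen
    exact ⟨V, ⟨⟨V, hV, US, hUS, fun z hz => (hVW hz).2⟩, rfl⟩, hxV, fun z hz => (hVW hz).1⟩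
  refine bijective_app_of_basis iY B hB (fun V => ?_) UT
  obtain ⟨US, hUS, hle⟩ := V.2.2
  exact bijective_app_of_isPullback_affine H hb hUS V.2.1 hle

theorem nonempty_preimage_of_bijective {X Y : Scheme.{u}} (f : X ⟶ Y) {V : Y.Opens}
    (hb : Function.Injective (f.app V)) [Nonempty V] : Nonempty (f ⁻¹ᵁ V) := by
  by_contra hne
  rw [not_nonempty_iff] at hne
  have h1 : f ⁻¹ᵁ V = ⊥ := by
    ext z
    simp only [Opens.coe_bot, Set.mem_empty_iff_false, iff_false]
    exact fun hz => hne.false ⟨z, hz⟩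
  haveI : Subsingleton Γ(X, f ⁻¹ᵁ V) := by
    rw [h1]; infer_instance
  haveI : Nontrivial Γ(Y, V) := Scheme.component_nontrivial Y V
  exact zero_ne_one (α := Γ(Y, V)) (hb (Subsingleton.elim _ _))

/-- The target of a fibration from an integral scheme is integral. -/
theorem isIntegral_of_fibration {X Y : Scheme.{u}} [IsIntegral X] (f : X ⟶ Y)
    (hb : ∀ V : Y.Opens, Function.Bijective (f.app V)) : IsIntegral Y := by
  haveI : Nonempty Y := ⟨f (Nonempty.some inferInstance)⟩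
  refine ⟨inferInstance, fun U hU => ?_⟩
  haveI := nonempty_preimage_of_bijective f (hb U).1
  exact Function.Injective.isDomain (f.app U).hom (hb U).1

end FibH8
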