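import Mathlib
import Groth.Prelude
import Groth.Agent.Lib.EulerFibBC_helper2
import Groth.Agent.Lib.HHVan_helper9

/-!
# Vanishing of the cohomology of the fibres under an arbitrary base change (helper9)

APPEND-ONLY once landed.
-/

set_option autoImplicit false
set_option backward.isDefEq.respectTransparency false
set_option backward.isDefEq.respectTransparency.types false
set_option linter.style.haveILetI false
set_option linter.unusedSectionVars false
universe u

open CategoryTheory CategoryTheory.Limits AlgebraicGeometry TopologicalSpace Opposite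

namespace FibBC

variable {X Y Y' X' : Scheme.{u}} {f : X ⟶ Y} {g : Y' ⟶ Y} {fst : X' ⟶ X} {snd : X' ⟶ Y'}

set_option maxHeartbeats 1600000 in
/-- vanishing of the cohomology of the fibres passes to an arbitrary base change
(general pullback square) -/
theorem subsingleton_fiberH_of_isPullback (h : IsPullback fst snd f g)
    [QuasiCompact f] [QuasiSeparated f] (F : X.Modules)
    [F.IsQuasicoherent] (y' : Y') (i : ℕ)
    (h0 : Subsingleton (CohIII.fiberH f F (g y') i)) :
    Subsingleton (CohIII.fiberH snd ((Scheme.Modules.pullback fst).obj F) y' i) := by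
  have hpb := isPullback_fiberToSpecResidueField_of_isPullback h y'
  letI : Algebra (Y.residueField (g y')) (Y'.residueField y') :=
    (g.residueFieldMap y').hom.toAlgebra
  letI o1 : (f.fiber (g y')).Over (Spec (CommRingCat.of (Y.residueField (g y')))) :=
    ⟨f.fiberToSpecResidueField (g y')⟩
  letI o2 : (snd.fiber y').Over (Spec (CommRingCat.of (Y'.residueField y'))) :=
    ⟨snd.fiberToSpecResidueField y'⟩
  have hX : IsPullback (f.fiberι (g y')) (f.fiberToSpecResidueField (g y')) f
      (Y.fromSpecResidueField (g y')) := IsPullback.of_hasPullback f (Y.fromSpecResidueField (g y'))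
  haveI : QuasiSeparated (f.fiberToSpecResidueField (g y')) :=
    MorphismProperty.of_isPullback (P := @QuasiSeparated) hX inferInstance
  haveI : QuasiCompact (f.fiberToSpecResidueField (g y')) :=
    MorphismProperty.of_isPullback (P := @QuasiCompact) hX inferInstance
  haveI : CompactSpace (f.fiber (g y')) :=
    QuasiCompact.compactSpace_of_compactSpace (f.fiberToSpecResidueField (g y'))
  haveI : QuasiSeparatedSpace (f.fiber (g y')) :=
    quasiSeparatedSpace_of_quasiSeparated (f.fiberToSpecResidueField (g y'))
  obtain ⟨g₀, hg₀⟩ : ∃ g₀ : snd.fiber y' ⟶ f.fiber (g y'),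
      g₀ = pullback.map _ _ _ _ fst (Spec.map (g.residueFieldMap y')) g
        h.w.symm (by simp) := ⟨_, rfl⟩
  rw [← hg₀] at hpb
  have hcomm : g₀ ≫ f.fiberι (g y') = snd.fiberι y' ≫ fst := by
    rw [hg₀]
    exact pullback.lift_fst _ _ _
  haveI : Coh.IsQCoh ((Scheme.Modules.pullback (f.fiberι (g y'))).obj F) :=
    PBH8.isQuasicoherent_pullback _ F
  obtain ⟨e⟩ := Groth.Agent.S0034.result (Y.residueField (g y')) (Y'.residueField y')
    (f.fiber (g y')) (snd.fiber y') g₀ hpb ((Scheme.Modules.pullback (f.fiberι (g y'))).obj F) i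
  let θ : (Scheme.Modules.pullback g₀).obj ((Scheme.Modules.pullback (f.fiberι (g y'))).obj F) ≅
      (Scheme.Modules.pullback (snd.fiberι y')).obj
        ((Scheme.Modules.pullback fst).obj F) :=
    (Scheme.Modules.pullbackComp g₀ (f.fiberι (g y'))).app F ≪≫
      (Scheme.Modules.pullbackCongr hcomm).app F ≪≫
      ((Scheme.Modules.pullbackComp (snd.fiberι y') fst).app F).symm
  haveI : Subsingleton (Coh.HH (f.fiber (g y'))
      ((Scheme.Modules.pullback (f.fiberι (g y'))).obj F) i) := h0
  have h1 : Subsingleton (Coh.HH (snd.fiber y') ((Scheme.Modules.pullback g₀).obj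
      ((Scheme.Modules.pullback (f.fiberι (g y'))).obj F)) i) := e.symm.toEquiv.subsingleton
  exact Groth.Agent.HHVan.subsingleton_of_iso θ i h1

end FibBC
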