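import Mathlib
import Groth.Agent.Lib.BrEtNbhd5_helper3
import Groth.Agent.Lib.Henselization8_helper3

/-!
# Spreading out an étale algebra over the local ring to an étale neighbourhood, with the stalk
isomorphism (helper3)
-/

set_option autoImplicit false
set_option maxSynthPendingDepth 3
universe u

namespace Groth.Agent.Lib.FibBranchH3

open AlgebraicGeometry IsLocalRing CategoryTheory

/-- transport of `germ_stalkClosedPointTo_Spec_fromSpecStalk` along an equality of morphisms -/
theorem germ_stalkClosedPointTo_of_eq {X : Scheme.{u}} {L : CommRingCat.{u}} [IsLocalRing L]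
    (x : X) (ρ : X.presheaf.stalk x ⟶ L) [IsLocalHom ρ.hom] (γ : Spec L ⟶ X)
    (hγ : γ = Spec.map ρ ≫ X.fromSpecStalk x)
    (W : X.Opens) (hxW : x ∈ W) (hW : γ (closedPoint L) ∈ W) :
    X.presheaf.germ W _ hW ≫ Scheme.stalkClosedPointTo γ = X.presheaf.germ W x hxW ≫ ρ := by
  subst hγ
  exact Scheme.germ_stalkClosedPointTo_Spec_fromSpecStalk ρ W hW

/-- an étale algebra over the local ring with a prime over the closed point spreads out to an
étale neighbourhood whose local ring is the localization -/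
theorem exists_etale_nbhd_stalk_equiv (X : Scheme.{u}) (x : X)
    (C : Type u) [CommRing C] [Algebra (X.presheaf.stalk x) C]
    [Algebra.Etale (X.presheaf.stalk x) C] (q₂ : Ideal C) [q₂.IsPrime]
    (hq₂ : q₂.comap (algebraMap (X.presheaf.stalk x) C) = maximalIdeal (X.presheaf.stalk x)) :
    ∃ (U : Scheme.{u}) (g : U ⟶ X) (u : U), Etale g ∧ g u = x ∧
      ∃ ψ : U.presheaf.stalk u ≃+* Localization.AtPrime q₂,
        ∀ (W : X.Opens) (hxW : x ∈ W) (huW : g u ∈ W) (s : Γ(X, W)),
          ψ (g.stalkMap u (X.presheaf.germ W (g u) huW s)) =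
            algebraMap (X.presheaf.stalk x) (Localization.AtPrime q₂)
              (X.presheaf.germ W x hxW s) := by
  obtain ⟨V, hV, hxV, -⟩ := exists_isAffineOpen_mem_and_subset (x := x) (U := ⊤) trivial
  letI algRA : Algebra Γ(X, V) (X.presheaf.stalk x) := X.presheaf.algebra_section_stalk ⟨x, hxV⟩
  haveI hlocA : IsLocalization.AtPrime (X.presheaf.stalk x)
      (hV.primeIdealOf ⟨x, hxV⟩).asIdeal := hV.isLocalization_stalk ⟨x, hxV⟩
  letI algRC : Algebra Γ(X, V) C :=
    ((algebraMap (X.presheaf.stalk x) C).comp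
      (algebraMap Γ(X, V) (X.presheaf.stalk x))).toAlgebra
  haveI tow : IsScalarTower Γ(X, V) (X.presheaf.stalk x) C :=
    IsScalarTower.of_algebraMap_eq (fun _ => rfl)
  obtain ⟨E, _, _, q, _, hE, ⟨κ⟩⟩ := Groth.Agent.Lib.EssEtTransH4.core Γ(X, V) Γ(X, V)
    (X.presheaf.stalk x) C (hV.primeIdealOf ⟨x, hxV⟩).asIdeal q₂
  haveI := hE
  haveI hlh : IsLocalHom (algebraMap (X.presheaf.stalk x) (Localization.AtPrime q₂)) :=
    Groth.Agent.Lib.EssEt.isLocalHom_of_comap q₂ hq₂
  haveI tow2 : IsScalarTower Γ(X, V) (X.presheaf.stalk x) (Localization.AtPrime q₂) :=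
    IsScalarTower.of_algebraMap_eq (fun r => by
      rw [IsScalarTower.algebraMap_apply Γ(X, V) C (Localization.AtPrime q₂),
        IsScalarTower.algebraMap_apply (X.presheaf.stalk x) C (Localization.AtPrime q₂),
        IsScalarTower.algebraMap_apply Γ(X, V) (X.presheaf.stalk x) C])
  -- the local ring `L`
  obtain ⟨L, hLdef⟩ : ∃ L : CommRingCat.{u}, L = CommRingCat.of (Localization.AtPrime q₂) :=
    ⟨_, rfl⟩
  subst hLdef
  haveI : IsLocalRing (CommRingCat.of (Localization.AtPrime q₂)) :=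
    inferInstanceAs (IsLocalRing (Localization.AtPrime q₂))
  let ρ : E →+* Localization.AtPrime q₂ :=
    (κ : Localization.AtPrime q →+* Localization.AtPrime q₂).comp
      (algebraMap E (Localization.AtPrime q))
  let φ : Γ(X, V) ⟶ CommRingCat.of E := CommRingCat.ofHom (algebraMap Γ(X, V) E)
  haveI hetφ : Etale (Spec.map φ) :=
    (HasRingHomProperty.Spec_iff (P := @Etale)).mpr (RingHom.etale_algebraMap.mpr hE)
  let β : Spec (CommRingCat.of (Localization.AtPrime q₂)) ⟶ Spec (CommRingCat.of E) :=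
    Spec.map (CommRingCat.ofHom ρ)
  let ρ₀ : X.presheaf.stalk x ⟶ CommRingCat.of (Localization.AtPrime q₂) :=
    CommRingCat.ofHom (algebraMap (X.presheaf.stalk x) (Localization.AtPrime q₂))
  haveI : IsLocalHom ρ₀.hom := hlh
  have hβg : β ≫ (Spec.map φ ≫ hV.fromSpec) = Spec.map ρ₀ ≫ X.fromSpecStalk x := by
    rw [← hV.fromSpecStalk_eq_fromSpecStalk hxV, IsAffineOpen.fromSpecStalk,
      ← Spec.map_comp_assoc, ← Spec.map_comp_assoc]
    congr 2
    ext r
    show κ (algebraMap E (Localization.AtPrime q) (algebraMap Γ(X, V) E r)) =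
      algebraMap (X.presheaf.stalk x) (Localization.AtPrime q₂) (X.presheaf.germ V x hxV r)
    rw [← IsScalarTower.algebraMap_apply Γ(X, V) E (Localization.AtPrime q), κ.commutes,
      IsScalarTower.algebraMap_apply Γ(X, V) (X.presheaf.stalk x) (Localization.AtPrime q₂)]
    rfl
  obtain ⟨u, hudef⟩ : ∃ u : PrimeSpectrum E,
      u = β (closedPoint (CommRingCat.of (Localization.AtPrime q₂))) := ⟨_, rfl⟩
  have hgu : (Spec.map φ ≫ hV.fromSpec) u = x := by
    have h1 : (Spec.map φ ≫ hV.fromSpec) u =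
        (β ≫ (Spec.map φ ≫ hV.fromSpec))
          (closedPoint (CommRingCat.of (Localization.AtPrime q₂))) := by
      rw [hudef]
      rfl
    rw [h1, hβg, Scheme.Hom.comp_apply, Spec_closedPoint, Scheme.fromSpecStalk_closedPoint]
  -- the prime of `u`
  have hκm : ∀ z : Localization.AtPrime q,
      κ z ∈ maximalIdeal (Localization.AtPrime q₂) ↔ z ∈ maximalIdeal (Localization.AtPrime q) :=
    fun z => Groth.Agent.Lib.HenselizationH3.mem_maximalIdeal_iff_of_ringEquiv κ.toRingEquiv z
  have huq : u.asIdeal = q := by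
    rw [hudef]
    ext e
    show ρ e ∈ maximalIdeal (Localization.AtPrime q₂) ↔ e ∈ q
    show κ (algebraMap E (Localization.AtPrime q) e) ∈ _ ↔ _
    rw [hκm, IsLocalization.AtPrime.to_map_mem_maximal_iff (Localization.AtPrime q) q]
  -- the local homomorphism `ψ₀`
  obtain ⟨ψ₀, hψ₀germ, hψ₀compat⟩ : ∃ ψ₀ : (Spec (CommRingCat.of E)).presheaf.stalk u ⟶
      CommRingCat.of (Localization.AtPrime q₂),
      ((Spec (CommRingCat.of E)).presheaf.germ ⊤ u trivial ≫ ψ₀ =
        (Scheme.ΓSpecIso (CommRingCat.of E)).hom ≫ CommRingCat.ofHom ρ) ∧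
      (∀ (W : X.Opens) (hxW : x ∈ W) (huW : (Spec.map φ ≫ hV.fromSpec) u ∈ W),
        X.presheaf.germ W _ huW ≫ (Spec.map φ ≫ hV.fromSpec).stalkMap u ≫ ψ₀ =
          X.presheaf.germ W x hxW ≫ ρ₀) := by
    subst hudef
    refine ⟨Scheme.stalkClosedPointTo β, Scheme.germ_stalkClosedPointTo_Spec _, ?_⟩
    intro W hxW huW
    have h2 := germ_stalkClosedPointTo_of_eq x ρ₀ (β ≫ (Spec.map φ ≫ hV.fromSpec)) hβg W hxW huW
    rw [Scheme.stalkClosedPointTo_comp] at h2
    exact h2
  -- `ψ₀` is bijective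
  have hψ₀bij : Function.Bijective ψ₀.hom := by
    letI algEL : Algebra E (Localization.AtPrime q₂) := ρ.toAlgebra
    let κ' : Localization.AtPrime q ≃ₐ[E] Localization.AtPrime q₂ :=
      AlgEquiv.ofRingEquiv (f := κ.toRingEquiv) (fun _ => rfl)
    haveI hlocq : IsLocalization q.primeCompl (Localization.AtPrime q₂) :=
      IsLocalization.isLocalization_of_algEquiv q.primeCompl κ'
    have hM : u.asIdeal.primeCompl = q.primeCompl := by
      ext z
      show z ∉ u.asIdeal ↔ z ∉ q
      rw [huq]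
    haveI hlocu : IsLocalization u.asIdeal.primeCompl (Localization.AtPrime q₂) := by
      rw [hM]
      exact hlocq
    let e := IsLocalization.algEquiv u.asIdeal.primeCompl (Localization.AtPrime u.asIdeal)
      (Localization.AtPrime q₂)
    have hθ : ((Spec.stalkIso (CommRingCat.of E) u).inv ≫ ψ₀).hom = e.toRingEquiv.toRingHom := by
      apply IsLocalization.ringHom_ext u.asIdeal.primeCompl
      ext z
      have h1 := congrArg (fun χ => χ.hom z)
        (Spec.algebraMap_stalkIso_inv_assoc (R := CommRingCat.of E) (x := u) ψ₀)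
      have h2 : (CommRingCat.ofHom (algebraMap (CommRingCat.of E)
          (Localization.AtPrime u.asIdeal)) ≫ (Spec.stalkIso (CommRingCat.of E) u).inv ≫ ψ₀).hom z
          = ρ z := by
        rw [h1, hψ₀germ]
        simp
      have h3 : e (algebraMap E (Localization.AtPrime u.asIdeal) z) = ρ z := e.commutes z
      exact h2.trans h3.symm
    have h4 : ψ₀ = (Spec.stalkIso (CommRingCat.of E) u).hom ≫
        ((Spec.stalkIso (CommRingCat.of E) u).inv ≫ ψ₀) := by
      rw [Iso.hom_inv_id_assoc]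
    rw [h4, CommRingCat.hom_comp, hθ]
    exact e.toRingEquiv.bijective.comp
      (ConcreteCategory.bijective_of_isIso (Spec.stalkIso (CommRingCat.of E) u).hom)
  refine ⟨Spec (CommRingCat.of E), Spec.map φ ≫ hV.fromSpec, u, inferInstance, hgu,
    RingEquiv.ofBijective ψ₀.hom hψ₀bij, ?_⟩
  intro W hxW huW s
  have := congrArg (fun χ => χ.hom s) (hψ₀compat W hxW huW)
  exact this

/-- elementary étale neighbourhoods: the residue field extension is trivial if that of the
algebra is -/
theorem residueFieldMap_bijective_of_stalk_equiv {U X : Scheme.{u}} (g : U ⟶ X) (u : U) (x : X)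
    (hgu : g u = x) (B : Type u) [CommRing B] [IsLocalRing B] [Algebra (X.presheaf.stalk x) B]
    (ψ : U.presheaf.stalk u ≃+* B)
    (hψ : ∀ (W : X.Opens) (hxW : x ∈ W) (huW : g u ∈ W) (s : Γ(X, W)),
      ψ (g.stalkMap u (X.presheaf.germ W (g u) huW s)) =
        algebraMap (X.presheaf.stalk x) B (X.presheaf.germ W x hxW s))
    (hres : ∀ d : B, ∃ a : X.presheaf.stalk x,
      d - algebraMap (X.presheaf.stalk x) B a ∈ maximalIdeal B) :
    Function.Bijective (g.residueFieldMap u) := by
  refine ⟨(g.residueFieldMap u).hom.injective, fun y => ?_⟩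
  obtain ⟨d', rfl⟩ := IsLocalRing.residue_surjective y
  obtain ⟨a, ha⟩ := hres (ψ d')
  obtain ⟨W, hxW, s, rfl⟩ := TopCat.Presheaf.exists_germ_eq X.presheaf a
  have huW : g u ∈ W := by rw [hgu]; exact hxW
  refine ⟨IsLocalRing.residue _ (X.presheaf.germ W (g u) huW s), ?_⟩
  show IsLocalRing.residue _ (g.stalkMap u (X.presheaf.germ W (g u) huW s)) =
    IsLocalRing.residue _ d'
  rw [eq_comm, ← sub_eq_zero, ← map_sub, IsLocalRing.residue_eq_zero_iff,
    ← Groth.Agent.Lib.HenselizationH3.mem_maximalIdeal_iff_of_ringEquiv ψ, map_sub,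
    hψ W hxW huW s]
  exact ha

end Groth.Agent.Lib.FibBranchH3
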