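import Mathlib
import Groth.Agent.Lib.FibBranch1_helper3
import Groth.Agent.Lib.FibBranch2_helper3
import Groth.Agent.Lib.FibStalkIso_helper5
import Groth.Agent.Lib.BrEtNbhd4_helper3

/-!
# Branches of a fibre through étale neighbourhoods (helper3)
-/

set_option autoImplicit false
set_option maxSynthPendingDepth 3
universe u

namespace Groth.Agent.Lib.FibBranchH3

open AlgebraicGeometry IsLocalRing CategoryTheory EGA4loc
open Groth.Agent.FibStalkDimH8 Groth.Agent.FibStalkIso Groth.Agent.Lib.BrEtNbhdH3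

section Count

/-- the number of irreducible components of the fibre of `h` through the point over `u` is the
number of minimal primes of `O_u / m_s O_u` -/
theorem fibre_count_eq' {U S : Scheme.{u}} (h : U ⟶ S) (u : U) (s : S) (hs : h u = s) :
    {Z : Set ↑(h.fiber s) | Z ∈ irreducibleComponents ↑(h.fiber s) ∧
        ∃ u' ∈ Z, h.fiberι s u' = u}.encard =
      (minimalPrimes (U.presheaf.stalk u ⧸ fibIdeal h u)).encard := by
  subst hs
  have hset : {Z : Set ↑(h.fiber (h u)) | Z ∈ irreducibleComponents ↑(h.fiber (h u)) ∧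
        ∃ u' ∈ Z, h.fiberι (h u) u' = u} =
      {Z : Set ↑(h.fiber (h u)) | Z ∈ irreducibleComponents ↑(h.fiber (h u)) ∧
        h.asFiber u ∈ Z} := by
    ext Z
    constructor
    · rintro ⟨hZ, u', hu'Z, hu'⟩
      refine ⟨hZ, ?_⟩
      have h1 : u' = h.asFiber u := by
        apply (h.fiberι (h u)).isEmbedding.injective
        rw [h.fiberι_asFiber u]
        exact hu'
      rw [← h1]
      exact hu'Z
    · rintro ⟨hZ, hu⟩
      exact ⟨hZ, h.asFiber u, hu, h.fiberι_asFiber u⟩
  rw [hset, encard_components_through_eq]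
  exact (encard_minimalPrimes_eq_of_ringEquiv (fibStalkEquiv h u)).symm

variable {U X S : Scheme.{u}} (g : U ⟶ X) (f : X ⟶ S) (u : U)

theorem fibIdeal_comp :
    fibIdeal (g ≫ f) u = (fibIdeal f (g u)).map (g.stalkMap u).hom := by
  have h := Scheme.Hom.stalkMap_comp g f u
  have h1 : fibIdeal (g ≫ f) u = Ideal.map ((g.stalkMap u).hom.comp (f.stalkMap (g u)).hom)
      (maximalIdeal (S.presheaf.stalk (f (g u)))) := by
    show Ideal.map ((g ≫ f).stalkMap u).hom (maximalIdeal _) = _
    rw [h]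
    rfl
  rw [h1, ← Ideal.map_map]

/-- comparison of `O_u / m_s O_u` with a model `B` of the local ring of `U` at `u` -/
theorem quot_count_eq (x : X) (hgu : g u = x)
    (B : Type u) [CommRing B] [Algebra (X.presheaf.stalk x) B]
    (ψ : U.presheaf.stalk u ≃+* B)
    (hψ : ∀ (W : X.Opens) (hxW : x ∈ W) (huW : g u ∈ W) (s : Γ(X, W)),
      ψ (g.stalkMap u (X.presheaf.germ W (g u) huW s)) =
        algebraMap (X.presheaf.stalk x) B (X.presheaf.germ W x hxW s)) :
    (minimalPrimes (U.presheaf.stalk u ⧸ fibIdeal (g ≫ f) u)).encard =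
      (minimalPrimes (B ⧸ (fibIdeal f x).map (algebraMap (X.presheaf.stalk x) B))).encard := by
  subst hgu
  have hψ' : ∀ a : X.presheaf.stalk (g u), ψ ((g.stalkMap u).hom a) = algebraMap _ B a := by
    intro a
    obtain ⟨W, hW, s, rfl⟩ := TopCat.Presheaf.exists_germ_eq X.presheaf a
    exact hψ W hW hW s
  have hIJ : (fibIdeal f (g u)).map (algebraMap (X.presheaf.stalk (g u)) B) =
      (fibIdeal (g ≫ f) u).map (ψ : U.presheaf.stalk u →+* B) := by
    have hcomp : (ψ : U.presheaf.stalk u →+* B).comp (g.stalkMap u).hom =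
        algebraMap (X.presheaf.stalk (g u)) B := RingHom.ext hψ'
    rw [fibIdeal_comp, Ideal.map_map (f := (g.stalkMap u).hom) (g := (ψ : U.presheaf.stalk u →+* B)),
      hcomp]
  exact encard_minimalPrimes_eq_of_ringEquiv (Ideal.quotientEquiv _ _ ψ hIJ)

end Count

section Main

variable {X S : Scheme.{u}} (f : X ⟶ S) (x : X)

theorem fibIdeal_le : fibIdeal f x ≤ maximalIdeal (X.presheaf.stalk x) :=
  ((IsLocalRing.local_hom_TFAE (f.stalkMap x).hom).out 0 2).mp
    (inferInstance : IsLocalHom (f.stalkMap x).hom)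

/-- geometric branches of a fibre through étale neighbourhoods -/
theorem numGeomBranchesAt_fibre_eq_iSup :
    Brnch.numGeomBranchesAt (f.fiber (f x)) (f.asFiber x) =
      ⨆ (U : Scheme.{u}) (g : U ⟶ X) (u : U) (_ : Etale g ∧ g u = x),
        {Z : Set ↑((g ≫ f).fiber (f x)) | Z ∈ irreducibleComponents ↑((g ≫ f).fiber (f x)) ∧
          ∃ u' ∈ Z, (g ≫ f).fiberι (f x) u' = u}.encard := by
  have hI := fibIdeal_le f x
  haveI : IsLocalRing (X.presheaf.stalk x ⧸ fibIdeal f x) :=
    Groth.Agent.Lib.UnibranchH3.isLocalRing_quotient _ hI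
  have h0 : Brnch.numGeomBranchesAt (f.fiber (f x)) (f.asFiber x) =
      Brnch.numGeomBranches (X.presheaf.stalk x ⧸ fibIdeal f x) :=
    (numGeomBranches_eq_of_ringEquiv (fibStalkEquiv f x)).symm
  rw [h0, numGeomBranches_quotient_eq_iSup _ _ hI]
  apply le_antisymm
  · refine iSup_le fun j => ?_
    haveI : (RingHom.ker j.pt).IsPrime := Groth.Agent.Lib.StrictHens.ker_isPrime j.pt
    obtain ⟨U, g, u, hEt, hgu, ψ, hψ⟩ := exists_etale_nbhd_stalk_equiv X x j.C (RingHom.ker j.pt)
      (Groth.Agent.Lib.StrictHens.ker_comap j.pt)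
    refine le_iSup_of_le U (le_iSup_of_le g (le_iSup_of_le u (le_iSup_of_le ⟨hEt, hgu⟩
      (le_of_eq ?_))))
    rw [fibre_count_eq' (g ≫ f) u (f x) (by rw [Scheme.Hom.comp_apply, hgu])]
    exact (quot_count_eq g f u x hgu j.A ψ hψ).symm
  · refine iSup_le fun U => iSup_le fun g => iSup_le fun u => iSup_le ?_
    rintro ⟨hEt, rfl⟩
    letI algAB : Algebra (X.presheaf.stalk (g u)) (U.presheaf.stalk u) :=
      (g.stalkMap u).hom.toAlgebra
    haveI : IsLocalHom (algebraMap (X.presheaf.stalk (g u)) (U.presheaf.stalk u)) :=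
      inferInstanceAs (IsLocalHom (g.stalkMap u).hom)
    have hess := isEssentiallyEtale_stalkMap g u
    obtain ⟨k, ⟨e⟩⟩ := exists_idx_of_essEtale
      (K := SeparableClosure (ResidueField (X.presheaf.stalk (g u)))) (U.presheaf.stalk u) hess
    have hcomm : ∀ (W : X.Opens) (hxW : g u ∈ W) (huW : g u ∈ W) (s : Γ(X, W)),
        e.toRingEquiv (g.stalkMap u (X.presheaf.germ W (g u) huW s)) =
          algebraMap (X.presheaf.stalk (g u)) k.A (X.presheaf.germ W (g u) hxW s) :=
      fun W hxW huW s => e.commutes (X.presheaf.germ W (g u) hxW s)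
    have hc1 := fibre_count_eq' (g ≫ f) u (f (g u)) (Scheme.Hom.comp_apply g f u)
    have hc2 := quot_count_eq g f u (g u) rfl k.A e.toRingEquiv hcomm
    exact (hc1.trans hc2).le.trans
      (le_iSup (fun j : Groth.Agent.Lib.StrictHens.Idx (X.presheaf.stalk (g u))
        (SeparableClosure (ResidueField (X.presheaf.stalk (g u)))) =>
          (minimalPrimes (j.A ⧸ (fibIdeal f (g u)).map
            (algebraMap (X.presheaf.stalk (g u)) j.A))).encard) k)

/-- branches of a fibre through elementary étale neighbourhoods -/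
theorem numBranchesAt_fibre_eq_iSup :
    Brnch.numBranchesAt (f.fiber (f x)) (f.asFiber x) =
      ⨆ (U : Scheme.{u}) (g : U ⟶ X) (u : U) (_ : Hens2.IsEtaleNbhd g u x),
        {Z : Set ↑((g ≫ f).fiber (f x)) | Z ∈ irreducibleComponents ↑((g ≫ f).fiber (f x)) ∧
          ∃ u' ∈ Z, (g ≫ f).fiberι (f x) u' = u}.encard := by
  have hI := fibIdeal_le f x
  haveI : IsLocalRing (X.presheaf.stalk x ⧸ fibIdeal f x) :=
    Groth.Agent.Lib.UnibranchH3.isLocalRing_quotient _ hI
  have h0 : Brnch.numBranchesAt (f.fiber (f x)) (f.asFiber x) =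
      Brnch.numBranches (X.presheaf.stalk x ⧸ fibIdeal f x) :=
    (numBranches_eq_of_ringEquiv (fibStalkEquiv f x)).symm
  rw [h0, numBranches_quotient_eq_iSup _ _ hI]
  apply le_antisymm
  · refine iSup_le fun j => ?_
    haveI : (RingHom.ker j.pt).IsPrime := Groth.Agent.Lib.HenselizationH3.ker_isPrime j.pt
    obtain ⟨U, g, u, hEt, hgu, ψ, hψ⟩ := exists_etale_nbhd_stalk_equiv X x j.C (RingHom.ker j.pt)
      (Groth.Agent.Lib.HenselizationH3.ker_comap j.pt)
    have hnb : Hens2.IsEtaleNbhd g u x :=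
      ⟨hEt, hgu, residueFieldMap_bijective_of_stalk_equiv g u x hgu j.A ψ hψ
        (Groth.Agent.Lib.HenselizationH3.exists_sub_mem_maximalIdeal j.pt)⟩
    refine le_iSup_of_le U (le_iSup_of_le g (le_iSup_of_le u (le_iSup_of_le hnb
      (le_of_eq ?_))))
    rw [fibre_count_eq' (g ≫ f) u (f x) (by rw [Scheme.Hom.comp_apply, hgu])]
    exact (quot_count_eq g f u x hgu j.A ψ hψ).symm
  · refine iSup_le fun U => iSup_le fun g => iSup_le fun u => iSup_le ?_
    rintro ⟨hEt, rfl, hres⟩
    letI algAB : Algebra (X.presheaf.stalk (g u)) (U.presheaf.stalk u) :=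
      (g.stalkMap u).hom.toAlgebra
    haveI : IsLocalHom (algebraMap (X.presheaf.stalk (g u)) (U.presheaf.stalk u)) :=
      inferInstanceAs (IsLocalHom (g.stalkMap u).hom)
    have hess := isEssentiallyEtale_stalkMap g u
    have hstrict : IsStrictlyEssentiallyEtale (X.presheaf.stalk (g u)) (U.presheaf.stalk u) :=
      ⟨hess, hres⟩
    obtain ⟨k, ⟨e⟩⟩ := Groth.Agent.Lib.HenselizationH3.exists_idx_of_strict
      (U.presheaf.stalk u) hstrict
    have hcomm : ∀ (W : X.Opens) (hxW : g u ∈ W) (huW : g u ∈ W) (s : Γ(X, W)),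
        e.toRingEquiv (g.stalkMap u (X.presheaf.germ W (g u) huW s)) =
          algebraMap (X.presheaf.stalk (g u)) k.A (X.presheaf.germ W (g u) hxW s) :=
      fun W hxW huW s => e.commutes (X.presheaf.germ W (g u) hxW s)
    have hc1 := fibre_count_eq' (g ≫ f) u (f (g u)) (Scheme.Hom.comp_apply g f u)
    have hc2 := quot_count_eq g f u (g u) rfl k.A e.toRingEquiv hcomm
    exact (hc1.trans hc2).le.trans
      (le_iSup (fun j : Groth.Agent.Lib.HenselizationH3.Idx (X.presheaf.stalk (g u)) =>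
        (minimalPrimes (j.A ⧸ (fibIdeal f (g u)).map
          (algebraMap (X.presheaf.stalk (g u)) j.A))).encard) k)

end Main

end Groth.Agent.Lib.FibBranchH3
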