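import Groth.Agent.Lib.FibCat14_helper6

/-!
# Representability of the diagonal from representability of morphisms from slices (helper6)

Given `H : C/W ⥤ᵇ 𝒮 ×_C 𝒮` with components `H₁, H₂ : C/W ⥤ᵇ 𝒮` and a terminal object of `C/W ×_{H₁,𝒮,H₂} C/W`,
construct a terminal object of `C/W ×_{H, 𝒮 ×_C 𝒮, Δ} 𝒮` using an equalizer in `C`.
-/

set_option autoImplicit false

universe v₆ u₆ v₅ u₅ v₄ u₄ v₃ u₃ v₂ u₂ v u

open CategoryTheory CategoryTheory.Limits FibCat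

namespace Groth.Agent.Lib.FibCat15_helper6

open Groth.Agent.Lib.FibCat_helper6 Groth.Agent.Lib.FibCat2_helper6 Groth.Agent.Lib.FibCat13_helper6
  Groth.Agent.Lib.FibCat14_helper6

section

variable {C : Type u} [Category.{v} C] [HasEqualizers C] {𝒮 : BasedCategory.{v₂, u₂} C}
  (h𝒮 : IsFibGrpd 𝒮.p) {W : C} (H : overCat W ⥤ᵇ prodC 𝒮 𝒮)

/-- first component of `H` -/
abbrev H₁ : overCat W ⥤ᵇ 𝒮 := BasedFunctor.comp H (fpFst _ _)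
/-- second component of `H` -/
abbrev H₂ : overCat W ⥤ᵇ 𝒮 := BasedFunctor.comp H (fpSnd _ _)

/-- the diagonal -/
abbrev Δ' (𝒮 : BasedCategory.{v₂, u₂} C) : 𝒮 ⥤ᵇ prodC 𝒮 𝒮 := diag (toSelf 𝒮)

variable (t : (fp (H₁ H) (H₂ H)).obj)

/-- the two objects of `C/W` underlying `t` -/
abbrev w₁ : Over W := t.obj.fst
abbrev w₂ : Over W := t.obj.snd

theorem e_left : (w₁ H t).left = (w₂ H t).left := (fp_obj_snd_proj t).symm

/-- the two parallel maps to `W` -/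
abbrev a₁ : (w₁ H t).left ⟶ W := (w₁ H t).hom
abbrev a₂ : (w₁ H t).left ⟶ W := eqToHom (e_left H t) ≫ (w₂ H t).hom

/-- the equalizer -/
noncomputable abbrev E : C := equalizer (a₁ H t) (a₂ H t)
noncomputable abbrev ι : E H t ⟶ (w₁ H t).left := equalizer.ι (a₁ H t) (a₂ H t)

/-- the object of `C/W` underlying the terminal object -/
noncomputable abbrev w₀ : Over W := Over.mk (ι H t ≫ a₁ H t)

noncomputable def ε₁ : w₀ H t ⟶ w₁ H t := Over.homMk (ι H t) rfl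

noncomputable def ε₂ : w₀ H t ⟶ w₂ H t := Over.homMk (ι H t ≫ eqToHom (e_left H t)) (by
  have := equalizer.condition (a₁ H t) (a₂ H t)
  simpa using this.symm)

theorem ε₁_left : (ε₁ H t).left = ι H t := rfl
theorem ε₂_left : (ε₂ H t).left = ι H t ≫ eqToHom (e_left H t) := rfl

instance ε₁_isHomLift : (overCat W).p.IsHomLift (ι H t) (ε₁ H t) := over_isHomLift (ε₁ H t)
instance ε₂_isHomLift : (overCat W).p.IsHomLift (ι H t ≫ eqToHom (e_left H t)) (ε₂ H t) :=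
  over_isHomLift (ε₂ H t)

/-- the isomorphism `θ` of `t` -/
abbrev θ : (H₁ H).obj (w₁ H t) ≅ (H₂ H).obj (w₂ H t) := t.obj.iso

instance θ_isHomLift : 𝒮.p.IsHomLift (𝟙 (w₁ H t).left) (θ H t).hom := t.property

noncomputable abbrev φ₁ : (H₁ H).obj (w₀ H t) ⟶ (H₁ H).obj (w₁ H t) := (H₁ H).map (ε₁ H t)
noncomputable abbrev φ₂ : (H₂ H).obj (w₀ H t) ⟶ (H₂ H).obj (w₂ H t) := (H₂ H).map (ε₂ H t)

instance φ₁_isHomLift : 𝒮.p.IsHomLift (ι H t) (φ₁ H t) := inferInstance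
instance φ₂_isHomLift : 𝒮.p.IsHomLift (ι H t ≫ eqToHom (e_left H t)) (φ₂ H t) := inferInstance

noncomputable abbrev ψ : (H₁ H).obj (w₀ H t) ⟶ (H₂ H).obj (w₂ H t) := φ₁ H t ≫ (θ H t).hom

instance ψ_isHomLift : 𝒮.p.IsHomLift (𝟙 (E H t) ≫ ι H t ≫ eqToHom (e_left H t)) (ψ H t) := by
  have h1 : 𝒮.p.IsHomLift (ι H t ≫ 𝟙 _) (ψ H t) := inferInstance
  rw [Category.comp_id] at h1
  infer_instance

include h𝒮 in
theorem φ₂_isStronglyCartesian :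
    𝒮.p.IsStronglyCartesian (ι H t ≫ eqToHom (e_left H t)) (φ₂ H t) :=
  isStronglyCartesian_of_isFibGrpd h𝒮 _ _

/-- the isomorphism `α₀` -/
noncomputable def α₀ : (H₁ H).obj (w₀ H t) ⟶ (H₂ H).obj (w₀ H t) :=
  haveI := φ₂_isStronglyCartesian h𝒮 H t
  Functor.IsStronglyCartesian.map 𝒮.p (ι H t ≫ eqToHom (e_left H t)) (φ₂ H t)
    (g := 𝟙 (E H t)) rfl (ψ H t)

instance α₀_isHomLift : 𝒮.p.IsHomLift (𝟙 (E H t)) (α₀ h𝒮 H t) := by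
  haveI := φ₂_isStronglyCartesian h𝒮 H t
  unfold α₀
  infer_instance

theorem α₀_fac : α₀ h𝒮 H t ≫ φ₂ H t = ψ H t := by
  haveI := φ₂_isStronglyCartesian h𝒮 H t
  unfold α₀
  exact Functor.IsStronglyCartesian.fac _ _ _ _ _

theorem α₀_isIso : IsIso (α₀ h𝒮 H t) := isIso_of_isFibGrpd_id h𝒮 (R := E H t) _

/-- `α₀` as an isomorphism -/
noncomputable def α₀Iso : (H₁ H).obj (w₀ H t) ≅ (H₂ H).obj (w₀ H t) :=
  @asIso _ _ _ _ (α₀ h𝒮 H t) (α₀_isIso h𝒮 H t)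

@[simp] theorem α₀Iso_hom : (α₀Iso h𝒮 H t).hom = α₀ h𝒮 H t := rfl

instance α₀Iso_isHomLift : 𝒮.p.IsHomLift (𝟙 (E H t)) (α₀Iso h𝒮 H t).hom := α₀_isHomLift h𝒮 H t

theorem H₂_w₀_proj : 𝒮.p.obj ((H₂ H).obj (w₀ H t)) = E H t := (H₂ H).w_obj (w₀ H t)

/-- the isomorphism `ζ₀ : H w₀ ≅ Δ (H₂ w₀)` -/
noncomputable def ζ₀ : H.obj (w₀ H t) ≅ (Δ' 𝒮).obj ((H₂ H).obj (w₀ H t)) :=
  @prodIsoMk _ _ _ _ (H.obj (w₀ H t)) ((Δ' 𝒮).obj ((H₂ H).obj (w₀ H t))) (E H t)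
    (α₀Iso h𝒮 H t) (Iso.refl _) (α₀Iso_isHomLift h𝒮 H t) (IsHomLift.id (H₂_w₀_proj H t))

theorem ζ₀_hom_fst : (ζ₀ h𝒮 H t).hom.hom.fst = α₀ h𝒮 H t := rfl
theorem ζ₀_hom_snd : (ζ₀ h𝒮 H t).hom.hom.snd = 𝟙 _ := rfl

/-- the terminal object -/
noncomputable def z₀ : (fp H (Δ' 𝒮)).obj :=
  fpObjMk (w₀ H t) ((H₂ H).obj (w₀ H t)) (ζ₀ h𝒮 H t)
    (@prodIsoMk_isHomLift _ _ _ _ (H.obj (w₀ H t)) ((Δ' 𝒮).obj ((H₂ H).obj (w₀ H t))) (E H t)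
      (α₀Iso h𝒮 H t) (Iso.refl _) (α₀Iso_isHomLift h𝒮 H t) (IsHomLift.id (H₂_w₀_proj H t)))

end

end Groth.Agent.Lib.FibCat15_helper6
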