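import Groth.Agent.Lib.FibCat15_helper6

/-!
# Terminality of `z₀` (helper6)
-/

set_option autoImplicit false

universe v₆ u₆ v₅ u₅ v₄ u₄ v₃ u₃ v₂ u₂ v u

open CategoryTheory CategoryTheory.Limits FibCat

namespace Groth.Agent.Lib.FibCat15_helper6

open Groth.Agent.Lib.FibCat_helper6 Groth.Agent.Lib.FibCat2_helper6 Groth.Agent.Lib.FibCat13_helper6
  Groth.Agent.Lib.FibCat14_helper6

section

variable {C : Type u} [Category.{v} C] [HasEqualizers C] {𝒮 : BasedCategory.{v₂, u₂} C}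
  (h𝒮 : IsFibGrpd 𝒮.p) {W : C} (H : overCat W ⥤ᵇ prodC 𝒮 𝒮)
  (z : (fp H (Δ' 𝒮)).obj)

abbrev zw : Over W := z.obj.fst
abbrev zs : 𝒮.obj := z.obj.snd
abbrev ζ : H.obj (zw H z) ≅ (Δ' 𝒮).obj (zs H z) := z.obj.iso
abbrev ζ₁ : (H₁ H).obj (zw H z) ⟶ zs H z := (ζ H z).hom.hom.fst
abbrev ζ₂ : (H₂ H).obj (zw H z) ⟶ zs H z := (ζ H z).hom.hom.snd

theorem ζ_isHomLift : (prodC 𝒮 𝒮).p.IsHomLift (𝟙 (zw H z).left) (ζ H z).hom := z.property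

instance ζ₁_isHomLift : 𝒮.p.IsHomLift (𝟙 (zw H z).left) (ζ₁ H z) :=
  haveI := ζ_isHomLift H z
  fp_isHomLift_fst (ζ H z).hom (𝟙 (zw H z).left)

instance ζ₂_isHomLift : 𝒮.p.IsHomLift (𝟙 (zw H z).left) (ζ₂ H z) :=
  haveI := ζ_isHomLift H z
  fp_isHomLift_snd' (ζ H z).hom (𝟙 (zw H z).left)

include h𝒮 in
theorem ζ₁_isIso : IsIso (ζ₁ H z) := isIso_of_isFibGrpd_id h𝒮 (R := (zw H z).left) _
include h𝒮 in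
theorem ζ₂_isIso : IsIso (ζ₂ H z) := isIso_of_isFibGrpd_id h𝒮 (R := (zw H z).left) _

noncomputable def ζ₁Iso : (H₁ H).obj (zw H z) ≅ zs H z := @asIso _ _ _ _ (ζ₁ H z) (ζ₁_isIso h𝒮 H z)
noncomputable def ζ₂Iso : (H₂ H).obj (zw H z) ≅ zs H z := @asIso _ _ _ _ (ζ₂ H z) (ζ₂_isIso h𝒮 H z)

@[simp] theorem ζ₁Iso_hom : (ζ₁Iso h𝒮 H z).hom = ζ₁ H z := rfl
@[simp] theorem ζ₂Iso_hom : (ζ₂Iso h𝒮 H z).hom = ζ₂ H z := rfl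

instance ζ₂Iso_inv_isHomLift : 𝒮.p.IsHomLift (𝟙 (zw H z).left) (ζ₂Iso h𝒮 H z).inv :=
  haveI : 𝒮.p.IsHomLift (𝟙 (zw H z).left) (ζ₂Iso h𝒮 H z).hom := ζ₂_isHomLift H z
  IsHomLift.lift_id_inv _ _ _

/-- the isomorphism `H₁ w ≅ H₂ w` attached to `z` -/
noncomputable def zθ : (H₁ H).obj (zw H z) ≅ (H₂ H).obj (zw H z) :=
  ζ₁Iso h𝒮 H z ≪≫ (ζ₂Iso h𝒮 H z).symm

theorem zθ_hom : (zθ h𝒮 H z).hom = ζ₁ H z ≫ (ζ₂Iso h𝒮 H z).inv := rfl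

instance zθ_isHomLift : 𝒮.p.IsHomLift (𝟙 (zw H z).left) (zθ h𝒮 H z).hom := by
  rw [zθ_hom]
  have : 𝒮.p.IsHomLift (𝟙 (zw H z).left ≫ 𝟙 (zw H z).left) (ζ₁ H z ≫ (ζ₂Iso h𝒮 H z).inv) :=
    inferInstance
  rw [Category.id_comp] at this
  exact this

/-- the object of `C/W ×_{H₁,𝒮,H₂} C/W` attached to `z` -/
noncomputable def πz : (fp (H₁ H) (H₂ H)).obj :=
  fpObjMk (zw H z) (zw H z) (zθ h𝒮 H z) (zθ_isHomLift h𝒮 H z)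

end

end Groth.Agent.Lib.FibCat15_helper6
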