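import Groth.Agent.Lib.FibCat16_helper6

/-!
# Terminality of `z₀`: existence (helper6)
-/

set_option autoImplicit false

universe v₆ u₆ v₅ u₅ v₄ u₄ v₃ u₃ v₂ u₂ v u

open CategoryTheory CategoryTheory.Limits FibCat

namespace Groth.Agent.Lib.FibCat15_helper6

open Groth.Agent.Lib.FibCat_helper6 Groth.Agent.Lib.FibCat2_helper6 Groth.Agent.Lib.FibCat13_helper6
  Groth.Agent.Lib.FibCat14_helper6

section

variable {C : Type u} [Category.{v} C] [HasEqualizers C] {𝒮 : BasedCategory.{v₂, u₂} C}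
  (h𝒮 : IsFibGrpd 𝒮.p) {W : C} (H : overCat W ⥤ᵇ prodC 𝒮 𝒮)
  (t : (fp (H₁ H) (H₂ H)).obj) (z : (fp H (Δ' 𝒮)).obj) (m : πz h𝒮 H z ⟶ t)

/-- first component of a morphism `πz ⟶ t` -/
abbrev c₁ : zw H z ⟶ w₁ H t := m.hom.fst
abbrev c₂ : zw H z ⟶ w₂ H t := m.hom.snd

theorem m_w : (H₁ H).map (c₁ h𝒮 H t z m) ≫ (θ H t).hom =
    (zθ h𝒮 H z).hom ≫ (H₂ H).map (c₂ h𝒮 H t z m) := m.hom.w

abbrev kk : (zw H z).left ⟶ (w₁ H t).left := (c₁ h𝒮 H t z m).left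

theorem c₂_left : (c₂ h𝒮 H t z m).left = kk h𝒮 H t z m ≫ eqToHom (e_left H t) := by
  have h1 : (overCat W).p.IsHomLift ((fp (H₁ H) (H₂ H)).p.map m) m.hom.snd :=
    fp_isHomLift_snd' m _
  have h2 : (overCat W).p.IsHomLift (kk h𝒮 H t z m) (c₂ h𝒮 H t z m) := h1
  have := over_left_eq (c₂ h𝒮 H t z m) (kk h𝒮 H t z m)
  exact this.trans (Category.id_comp _)

theorem kk_a₁ : kk h𝒮 H t z m ≫ a₁ H t = (zw H z).hom := Over.w (c₁ h𝒮 H t z m)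

theorem kk_a₂ : kk h𝒮 H t z m ≫ a₂ H t = (zw H z).hom := by
  have := Over.w (c₂ h𝒮 H t z m)
  rw [c₂_left] at this
  simpa using this

/-- the lift to the equalizer -/
noncomputable def kk' : (zw H z).left ⟶ E H t :=
  equalizer.lift (kk h𝒮 H t z m) ((kk_a₁ h𝒮 H t z m).trans (kk_a₂ h𝒮 H t z m).symm)

theorem kk'_ι : kk' h𝒮 H t z m ≫ ι H t = kk h𝒮 H t z m := equalizer.lift_ι _ _

/-- the first component of the morphism `z ⟶ z₀` -/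
noncomputable def cc : zw H z ⟶ w₀ H t := Over.homMk (kk' h𝒮 H t z m) (by
  show kk' h𝒮 H t z m ≫ ι H t ≫ a₁ H t = (zw H z).hom
  rw [← Category.assoc, kk'_ι, kk_a₁])

theorem cc_left : (cc h𝒮 H t z m).left = kk' h𝒮 H t z m := rfl

theorem cc_ε₁ : cc h𝒮 H t z m ≫ ε₁ H t = c₁ h𝒮 H t z m := by
  apply Over.OverMorphism.ext
  show kk' h𝒮 H t z m ≫ ι H t = _
  exact kk'_ι h𝒮 H t z m

theorem cc_ε₂ : cc h𝒮 H t z m ≫ ε₂ H t = c₂ h𝒮 H t z m := by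
  apply Over.OverMorphism.ext
  show kk' h𝒮 H t z m ≫ ι H t ≫ eqToHom (e_left H t) = _
  rw [← Category.assoc, kk'_ι, c₂_left]

theorem map_cc_ε₁ : (H₁ H).map (cc h𝒮 H t z m) ≫ (H₁ H).map (ε₁ H t) =
    (H₁ H).map (c₁ h𝒮 H t z m) :=
  ((H₁ H).toFunctor.map_comp _ _).symm.trans (congrArg (H₁ H).map (cc_ε₁ h𝒮 H t z m))

theorem map_cc_ε₂ : (H₂ H).map (cc h𝒮 H t z m) ≫ (H₂ H).map (ε₂ H t) =
    (H₂ H).map (c₂ h𝒮 H t z m) :=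
  ((H₂ H).toFunctor.map_comp _ _).symm.trans (congrArg (H₂ H).map (cc_ε₂ h𝒮 H t z m))

instance cc_isHomLift : (overCat W).p.IsHomLift (kk' h𝒮 H t z m) (cc h𝒮 H t z m) :=
  over_isHomLift (cc h𝒮 H t z m)

/-- the second component of the morphism `z ⟶ z₀` -/
noncomputable def dd : zs H z ⟶ (H₂ H).obj (w₀ H t) :=
  (ζ₂Iso h𝒮 H z).inv ≫ (H₂ H).map (cc h𝒮 H t z m)

theorem ζ₂_dd : ζ₂ H z ≫ dd h𝒮 H t z m = (H₂ H).map (cc h𝒮 H t z m) := by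
  unfold dd
  rw [← ζ₂Iso_hom h𝒮 H z, Iso.hom_inv_id_assoc]

theorem key_fst : (H₁ H).map (cc h𝒮 H t z m) ≫ α₀ h𝒮 H t = ζ₁ H z ≫ dd h𝒮 H t z m := by
  haveI := φ₂_isStronglyCartesian h𝒮 H t
  have h1 : 𝒮.p.IsHomLift (kk' h𝒮 H t z m) ((H₁ H).map (cc h𝒮 H t z m) ≫ α₀ h𝒮 H t) := by
    have : 𝒮.p.IsHomLift (kk' h𝒮 H t z m ≫ 𝟙 _) ((H₁ H).map (cc h𝒮 H t z m) ≫ α₀ h𝒮 H t) :=
      inferInstance
    rw [Category.comp_id] at this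
    exact this
  have h2 : 𝒮.p.IsHomLift (kk' h𝒮 H t z m) (ζ₁ H z ≫ dd h𝒮 H t z m) := by
    unfold dd
    have : 𝒮.p.IsHomLift (𝟙 _ ≫ 𝟙 _ ≫ kk' h𝒮 H t z m)
        (ζ₁ H z ≫ (ζ₂Iso h𝒮 H z).inv ≫ (H₂ H).map (cc h𝒮 H t z m)) := inferInstance
    rw [Category.id_comp, Category.id_comp] at this
    exact this
  apply Functor.IsStronglyCartesian.ext 𝒮.p (ι H t ≫ eqToHom (e_left H t)) (φ₂ H t)
    (kk' h𝒮 H t z m)
  rw [Category.assoc, α₀_fac]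
  show (H₁ H).map (cc h𝒮 H t z m) ≫ (H₁ H).map (ε₁ H t) ≫ (θ H t).hom =
    (ζ₁ H z ≫ dd h𝒮 H t z m) ≫ (H₂ H).map (ε₂ H t)
  rw [← Category.assoc, map_cc_ε₁, m_w]
  unfold dd
  rw [Category.assoc, Category.assoc, map_cc_ε₂, zθ_hom, Category.assoc]

/-- the morphism `z ⟶ z₀` -/
noncomputable def nn : z ⟶ z₀ h𝒮 H t :=
  fpHomMk (cc h𝒮 H t z m) (dd h𝒮 H t z m) (by
    apply fp_hom_ext
    · exact key_fst h𝒮 H t z m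
    · show (H₂ H).map (cc h𝒮 H t z m) ≫ 𝟙 _ = ζ₂ H z ≫ dd h𝒮 H t z m
      rw [Category.comp_id, ζ₂_dd])

end

end Groth.Agent.Lib.FibCat15_helper6
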