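import Groth.Agent.Lib.FibCat17_helper6

/-!
# Terminality of `z₀`: uniqueness and conclusion (helper6)
-/

set_option autoImplicit false

universe v₆ u₆ v₅ u₅ v₄ u₄ v₃ u₃ v₂ u₂ v u

open CategoryTheory CategoryTheory.Limits FibCat

namespace Groth.Agent.Lib.FibCat15_helper6

open Groth.Agent.Lib.FibCat_helper6 Groth.Agent.Lib.FibCat2_helper6 Groth.Agent.Lib.FibCat13_helper6
  Groth.Agent.Lib.FibCat14_helper6

section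

variable {C : Type u} [Category.{v} C] [HasEqualizers C] {𝒮 : BasedCategory.{v₂, u₂} C}
  (h𝒮 : IsFibGrpd 𝒮.p) {W : C} (H : overCat W ⥤ᵇ prodC 𝒮 𝒮)
  (t : (fp (H₁ H) (H₂ H)).obj) (z : (fp H (Δ' 𝒮)).obj) (n' : z ⟶ z₀ h𝒮 H t)

abbrev c' : zw H z ⟶ w₀ H t := n'.hom.fst
abbrev d' : zs H z ⟶ (H₂ H).obj (w₀ H t) := n'.hom.snd

theorem n'_fst : (H₁ H).map (c' h𝒮 H t z n') ≫ α₀ h𝒮 H t = ζ₁ H z ≫ d' h𝒮 H t z n' :=
  congrArg (fun k => k.hom.fst) n'.hom.w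

theorem n'_snd : (H₂ H).map (c' h𝒮 H t z n') = ζ₂ H z ≫ d' h𝒮 H t z n' := by
  have h : (H₂ H).map (c' h𝒮 H t z n') ≫ 𝟙 _ = ζ₂ H z ≫ d' h𝒮 H t z n' :=
    congrArg (fun k => k.hom.snd) n'.hom.w
  rwa [Category.comp_id] at h

theorem d'_eq : d' h𝒮 H t z n' = (ζ₂Iso h𝒮 H z).inv ≫ (H₂ H).map (c' h𝒮 H t z n') := by
  rw [n'_snd, ← ζ₂Iso_hom h𝒮 H z, Iso.inv_hom_id_assoc]

/-- the morphism `πz ⟶ t` attached to `n'` -/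
noncomputable def m'' : πz h𝒮 H z ⟶ t :=
  fpHomMk (F := H₁ H) (G := H₂ H) (X := πz h𝒮 H z) (Y := t)
    (c' h𝒮 H t z n' ≫ ε₁ H t) (c' h𝒮 H t z n' ≫ ε₂ H t) (by
    show (H₁ H).map (c' h𝒮 H t z n' ≫ ε₁ H t) ≫ (θ H t).hom =
      (zθ h𝒮 H z).hom ≫ (H₂ H).map (c' h𝒮 H t z n' ≫ ε₂ H t)
    have e1 : (H₁ H).map (c' h𝒮 H t z n' ≫ ε₁ H t) =
        (H₁ H).map (c' h𝒮 H t z n') ≫ φ₁ H t := (H₁ H).toFunctor.map_comp _ _
    have e2 : (H₂ H).map (c' h𝒮 H t z n' ≫ ε₂ H t) =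
        (H₂ H).map (c' h𝒮 H t z n') ≫ φ₂ H t := (H₂ H).toFunctor.map_comp _ _
    rw [e1, e2, Category.assoc]
    show (H₁ H).map (c' h𝒮 H t z n') ≫ ψ H t = _
    rw [← α₀_fac h𝒮 H t, ← Category.assoc, n'_fst, zθ_hom, n'_snd]
    simp only [Category.assoc]
    rw [← ζ₂Iso_hom h𝒮 H z, Iso.inv_hom_id_assoc])

theorem m''_fst : (m'' h𝒮 H t z n').hom.fst = c' h𝒮 H t z n' ≫ ε₁ H t := rfl

variable (ht : IsTerminal t)

include ht in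
theorem c'_eq : c' h𝒮 H t z n' = cc h𝒮 H t z (ht.from (πz h𝒮 H z)) := by
  have hm : m'' h𝒮 H t z n' = ht.from (πz h𝒮 H z) := ht.hom_ext _ _
  have h1 : c' h𝒮 H t z n' ≫ ε₁ H t = c₁ h𝒮 H t z (ht.from (πz h𝒮 H z)) := by
    rw [← m''_fst, hm]
  have h2 : (c' h𝒮 H t z n').left ≫ ι H t = kk h𝒮 H t z (ht.from (πz h𝒮 H z)) :=
    congrArg (fun k => k.left) h1
  apply Over.OverMorphism.ext
  show (c' h𝒮 H t z n').left = kk' h𝒮 H t z (ht.from (πz h𝒮 H z))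
  apply equalizer.hom_ext
  rw [h2]
  exact (kk'_ι h𝒮 H t z _).symm

include ht in
theorem n'_eq : n' = nn h𝒮 H t z (ht.from (πz h𝒮 H z)) := by
  have h1 := c'_eq h𝒮 H t z n' ht
  apply fp_hom_ext
  · exact h1
  · show d' h𝒮 H t z n' = dd h𝒮 H t z (ht.from (πz h𝒮 H z))
    rw [d'_eq]
    unfold dd
    rw [h1]

/-- `z₀` is terminal -/
noncomputable def z₀_isTerminal : IsTerminal (z₀ h𝒮 H t) :=
  IsTerminal.ofUniqueHom (fun z => nn h𝒮 H t z (ht.from (πz h𝒮 H z)))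
    (fun z n' => n'_eq h𝒮 H t z n' ht)

end

end Groth.Agent.Lib.FibCat15_helper6
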