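import Groth.Agent.Lib.FibCat18_helper6
import Mathlib.CategoryTheory.Limits.Shapes.BinaryProducts

/-!
# Representability of morphisms from slices from representability of the diagonal (helper6)

Given `G' : C/V ⥤ᵇ 𝒮`, `G : C/U ⥤ᵇ 𝒮`, form `H = (G' ∘ pr₁, G ∘ pr₂) : C/(V × U) ⥤ᵇ 𝒮 ×_C 𝒮`; from a terminal
object of `C/(V×U) ×_{H, 𝒮 ×_C 𝒮, Δ} 𝒮` construct a terminal object of `C/V ×_{G', 𝒮, G} C/U`.
-/

set_option autoImplicit false

universe v₆ u₆ v₅ u₅ v₄ u₄ v₃ u₃ v₂ u₂ v u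

open CategoryTheory CategoryTheory.Limits FibCat

namespace Groth.Agent.Lib.FibCat19_helper6

open Groth.Agent.Lib.FibCat_helper6 Groth.Agent.Lib.FibCat2_helper6 Groth.Agent.Lib.FibCat13_helper6
  Groth.Agent.Lib.FibCat14_helper6 Groth.Agent.Lib.FibCat15_helper6
  Groth.Agent.Lib.FibCat4_helper6

section

variable {C : Type u} [Category.{v} C] [HasBinaryProducts C] [HasEqualizers C] {𝒮 : BasedCategory.{v₂, u₂} C}
  (h𝒮 : IsFibGrpd 𝒮.p) {U V : C} (G' : overCat V ⥤ᵇ 𝒮) (G : overCat U ⥤ᵇ 𝒮)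

/-- `G' ∘ pr₁` -/
noncomputable abbrev AA : overCat (V ⨯ U) ⥤ᵇ 𝒮 := BasedFunctor.comp (overMap (prod.fst : V ⨯ U ⟶ V)) G'
/-- `G ∘ pr₂` -/
noncomputable abbrev BB : overCat (V ⨯ U) ⥤ᵇ 𝒮 := BasedFunctor.comp (overMap (prod.snd : V ⨯ U ⟶ U)) G

theorem AA_BB_eq : BasedFunctor.comp (AA G') (toSelf 𝒮) = BasedFunctor.comp (BB (V := V) G) (toSelf 𝒮) :=
  basedFunctor_ext ((AA G').w.trans (BB (V := V) G).w.symm)

/-- the functor `(G' ∘ pr₁, G ∘ pr₂)` -/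
noncomputable def HH : overCat (V ⨯ U) ⥤ᵇ prodC 𝒮 𝒮 :=
  fpLift (AA G') (BB G) (eqToIso (AA_BB_eq G' G))

theorem HH_obj_fst (w : Over (V ⨯ U)) :
    ((HH G' G).obj w).obj.fst = G'.obj ((Over.map prod.fst).obj w) := rfl
theorem HH_obj_snd (w : Over (V ⨯ U)) :
    ((HH G' G).obj w).obj.snd = G.obj ((Over.map prod.snd).obj w) := rfl
theorem HH_map_fst {w w' : Over (V ⨯ U)} (c : w ⟶ w') :
    ((HH G' G).map c).hom.fst = G'.map ((Over.map prod.fst).map c) := rfl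
theorem HH_map_snd {w w' : Over (V ⨯ U)} (c : w ⟶ w') :
    ((HH G' G).map c).hom.snd = G.map ((Over.map prod.snd).map c) := rfl

variable (z₀ : (fp (HH G' G) (Δ' 𝒮)).obj)

/-- the object of `C/V ×_𝒮 C/U` attached to an object of `C/(V×U) ×_{𝒮 ×_C 𝒮} 𝒮` -/
noncomputable def tOf : (fp G' G).obj :=
  fpObjMk ((Over.map prod.fst).obj (zw (HH G' G) z₀)) ((Over.map prod.snd).obj (zw (HH G' G) z₀))
    (zθ h𝒮 (HH G' G) z₀) (zθ_isHomLift h𝒮 (HH G' G) z₀)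

variable (t : (fp G' G).obj)

abbrev tv : Over V := t.obj.fst
abbrev tu : Over U := t.obj.snd
abbrev tθ : G'.obj (tv G' G t) ≅ G.obj (tu G' G t) := t.obj.iso

instance tθ_isHomLift : 𝒮.p.IsHomLift (𝟙 (tv G' G t).left) (tθ G' G t).hom := t.property

theorem et : (tv G' G t).left = (tu G' G t).left := (fp_obj_snd_proj t).symm

/-- the object of `C/(V × U)` attached to `t` -/
noncomputable abbrev tw : Over (V ⨯ U) :=
  Over.mk (prod.lift (tv G' G t).hom (eqToHom (et G' G t) ≫ (tu G' G t).hom))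

noncomputable def i₁ : (Over.map prod.fst).obj (tw G' G t) ≅ tv G' G t :=
  Over.isoMk (Iso.refl _) (by
    show 𝟙 _ ≫ (tv G' G t).hom = prod.lift (tv G' G t).hom (eqToHom (et G' G t) ≫ (tu G' G t).hom) ≫ prod.fst
    rw [Category.id_comp]
    exact (prod.lift_fst _ _).symm)

noncomputable def i₂ : (Over.map prod.snd).obj (tw G' G t) ≅ tu G' G t :=
  Over.isoMk (eqToIso (et G' G t)) (by
    show eqToHom (et G' G t) ≫ (tu G' G t).hom =
      prod.lift (tv G' G t).hom (eqToHom (et G' G t) ≫ (tu G' G t).hom) ≫ prod.snd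
    exact (prod.lift_snd _ _).symm)

theorem i₁_hom_left : (i₁ G' G t).hom.left = 𝟙 _ := rfl
theorem i₂_hom_left : (i₂ G' G t).hom.left = eqToHom (et G' G t) := rfl

instance i₁_isHomLift : (overCat V).p.IsHomLift (𝟙 (tv G' G t).left) (i₁ G' G t).hom :=
  over_isHomLift (i₁ G' G t).hom

instance i₂_isHomLift : (overCat U).p.IsHomLift (𝟙 (tv G' G t).left) (i₂ G' G t).hom := by
  apply IsHomLift.of_fac (overCat U).p _ _ rfl (et G' G t).symm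
  show 𝟙 _ = eqToHom _ ≫ eqToHom (et G' G t) ≫ eqToHom _
  simp

noncomputable def Ψa : G'.obj ((Over.map prod.fst).obj (tw G' G t)) ≅ G.obj (tu G' G t) :=
  G'.toFunctor.mapIso (i₁ G' G t) ≪≫ tθ G' G t

noncomputable def Ψb : G.obj ((Over.map prod.snd).obj (tw G' G t)) ≅ G.obj (tu G' G t) :=
  G.toFunctor.mapIso (i₂ G' G t)

theorem Ψa_hom : (Ψa G' G t).hom = G'.map (i₁ G' G t).hom ≫ (tθ G' G t).hom := rfl
theorem Ψb_hom : (Ψb G' G t).hom = G.map (i₂ G' G t).hom := rfl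

instance Ψa_isHomLift : 𝒮.p.IsHomLift (𝟙 (tv G' G t).left) (Ψa G' G t).hom := by
  rw [Ψa_hom]
  have : 𝒮.p.IsHomLift (𝟙 (tv G' G t).left ≫ 𝟙 (tv G' G t).left)
      (G'.map (i₁ G' G t).hom ≫ (tθ G' G t).hom) := inferInstance
  rw [Category.id_comp] at this
  exact this

instance Ψb_isHomLift : 𝒮.p.IsHomLift (𝟙 (tv G' G t).left) (Ψb G' G t).hom := by
  rw [Ψb_hom]; infer_instance

/-- the isomorphism `H (tw) ≅ Δ (G tu)` -/
noncomputable def Ψζ : (HH G' G).obj (tw G' G t) ≅ (Δ' 𝒮).obj (G.obj (tu G' G t)) :=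
  @prodIsoMk _ _ _ _ ((HH G' G).obj (tw G' G t)) ((Δ' 𝒮).obj (G.obj (tu G' G t)))
    (tv G' G t).left (Ψa G' G t) (Ψb G' G t) (Ψa_isHomLift G' G t) (Ψb_isHomLift G' G t)

theorem Ψζ_hom_fst : (Ψζ G' G t).hom.hom.fst = (Ψa G' G t).hom := rfl
theorem Ψζ_hom_snd : (Ψζ G' G t).hom.hom.snd = (Ψb G' G t).hom := rfl

/-- the object of `C/(V×U) ×_{𝒮 ×_C 𝒮} 𝒮` attached to `t` -/
noncomputable def zOf : (fp (HH G' G) (Δ' 𝒮)).obj :=
  fpObjMk (tw G' G t) (G.obj (tu G' G t)) (Ψζ G' G t)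
    (@prodIsoMk_isHomLift _ _ _ _ ((HH G' G).obj (tw G' G t)) ((Δ' 𝒮).obj (G.obj (tu G' G t)))
      (tv G' G t).left (Ψa G' G t) (Ψb G' G t) (Ψa_isHomLift G' G t) (Ψb_isHomLift G' G t))

end

end Groth.Agent.Lib.FibCat19_helper6
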