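import Groth.Agent.Lib.FibCat19_helper6

/-!
# Terminality of `tOf z₀` (helper6)
-/

set_option autoImplicit false

universe v₆ u₆ v₅ u₅ v₄ u₄ v₃ u₃ v₂ u₂ v u

open CategoryTheory CategoryTheory.Limits FibCat

namespace Groth.Agent.Lib.FibCat19_helper6

open Groth.Agent.Lib.FibCat_helper6 Groth.Agent.Lib.FibCat2_helper6 Groth.Agent.Lib.FibCat13_helper6
  Groth.Agent.Lib.FibCat14_helper6 Groth.Agent.Lib.FibCat15_helper6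
  Groth.Agent.Lib.FibCat4_helper6

theorem abstract_w {D : Type u₃} [Category.{v₃} D] {P Q P' Q' P₀ Q₀ S₀ : D} (θ : P ⟶ Q)
    (j₁ : P' ⟶ P) (j₁i : P ⟶ P') (h₁ : j₁i ≫ j₁ = 𝟙 _) (j₂ : Q' ⟶ Q) (j₂i : Q ⟶ Q')
    (h₂ : j₂i ≫ j₂ = 𝟙 _) (A : P' ⟶ P₀) (B : Q' ⟶ Q₀) (ζ₁ : P₀ ⟶ S₀) (ζ₂ : Q₀ ≅ S₀) (d : Q ⟶ S₀)
    (hA : A ≫ ζ₁ = (j₁ ≫ θ) ≫ d) (hB : B ≫ ζ₂.hom = j₂ ≫ d) :
    (j₁i ≫ A) ≫ (ζ₁ ≫ ζ₂.inv) = θ ≫ (j₂i ≫ B) := by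
  have eB : B = j₂ ≫ d ≫ ζ₂.inv := by
    rw [← Category.assoc, ← hB, Category.assoc, Iso.hom_inv_id, Category.comp_id]
  rw [eB, Category.assoc, ← Category.assoc A, hA]
  simp only [Category.assoc]
  rw [← Category.assoc j₁i, h₁, Category.id_comp, ← Category.assoc j₂i, h₂, Category.id_comp]

section

variable {C : Type u} [Category.{v} C] [HasBinaryProducts C] [HasEqualizers C]
  {𝒮 : BasedCategory.{v₂, u₂} C}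
  (h𝒮 : IsFibGrpd 𝒮.p) {U V : C} (G' : overCat V ⥤ᵇ 𝒮) (G : overCat U ⥤ᵇ 𝒮)
  (z₀ : (fp (HH G' G) (Δ' 𝒮)).obj) (t : (fp G' G).obj) (n : zOf G' G t ⟶ z₀)

abbrev nc : tw G' G t ⟶ zw (HH G' G) z₀ := n.hom.fst
abbrev nd : G.obj (tu G' G t) ⟶ zs (HH G' G) z₀ := n.hom.snd

theorem n_fst : G'.map ((Over.map prod.fst).map (nc G' G z₀ t n)) ≫ ζ₁ (HH G' G) z₀ =
    (Ψa G' G t).hom ≫ nd G' G z₀ t n :=
  congrArg (fun k => k.hom.fst) n.hom.w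

theorem n_snd : G.map ((Over.map prod.snd).map (nc G' G z₀ t n)) ≫ ζ₂ (HH G' G) z₀ =
    (Ψb G' G t).hom ≫ nd G' G z₀ t n :=
  congrArg (fun k => k.hom.snd) n.hom.w

noncomputable abbrev b₁ : tv G' G t ⟶ (Over.map prod.fst).obj (zw (HH G' G) z₀) :=
  (i₁ G' G t).inv ≫ (Over.map prod.fst).map (nc G' G z₀ t n)

noncomputable abbrev b₂ : tu G' G t ⟶ (Over.map prod.snd).obj (zw (HH G' G) z₀) :=
  (i₂ G' G t).inv ≫ (Over.map prod.snd).map (nc G' G z₀ t n)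

theorem map_b₁ : G'.map (b₁ G' G z₀ t n) =
    G'.map (i₁ G' G t).inv ≫ G'.map ((Over.map prod.fst).map (nc G' G z₀ t n)) :=
  G'.toFunctor.map_comp _ _

theorem map_b₂ : G.map (b₂ G' G z₀ t n) =
    G.map (i₂ G' G t).inv ≫ G.map ((Over.map prod.snd).map (nc G' G z₀ t n)) :=
  G.toFunctor.map_comp _ _

theorem map_i₁_inv_hom : G'.map (i₁ G' G t).inv ≫ G'.map (i₁ G' G t).hom = 𝟙 _ :=
  (G'.toFunctor.mapIso (i₁ G' G t)).inv_hom_id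

theorem map_i₂_inv_hom : G.map (i₂ G' G t).inv ≫ G.map (i₂ G' G t).hom = 𝟙 _ :=
  (G.toFunctor.mapIso (i₂ G' G t)).inv_hom_id

theorem μ_w : G'.map (b₁ G' G z₀ t n) ≫ (zθ h𝒮 (HH G' G) z₀).hom =
    (tθ G' G t).hom ≫ G.map (b₂ G' G z₀ t n) := by
  rw [map_b₁, map_b₂]
  exact abstract_w (tθ G' G t).hom (G'.map (i₁ G' G t).hom) (G'.map (i₁ G' G t).inv)
    (map_i₁_inv_hom G' G t) (G.map (i₂ G' G t).hom) (G.map (i₂ G' G t).inv)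
    (map_i₂_inv_hom G' G t) _ _ (ζ₁ (HH G' G) z₀) (ζ₂Iso h𝒮 (HH G' G) z₀) (nd G' G z₀ t n)
    (n_fst G' G z₀ t n) (n_snd G' G z₀ t n)

/-- the morphism `t ⟶ tOf z₀` attached to a morphism `zOf t ⟶ z₀` -/
noncomputable def μ : t ⟶ tOf h𝒮 G' G z₀ :=
  fpHomMk (F := G') (G := G) (X := t) (Y := tOf h𝒮 G' G z₀)
    (b₁ G' G z₀ t n) (b₂ G' G z₀ t n) (μ_w h𝒮 G' G z₀ t n)

theorem μ_fst : (μ h𝒮 G' G z₀ t n).hom.fst = b₁ G' G z₀ t n := rfl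
theorem μ_snd : (μ h𝒮 G' G z₀ t n).hom.snd = b₂ G' G z₀ t n := rfl

end

end Groth.Agent.Lib.FibCat19_helper6
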