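import Groth.Agent.Lib.FibCat20_helper6

/-!
# Terminality of `tOf z₀`: uniqueness (helper6)
-/

set_option autoImplicit false

universe v₆ u₆ v₅ u₅ v₄ u₄ v₃ u₃ v₂ u₂ v u

open CategoryTheory CategoryTheory.Limits FibCat

namespace Groth.Agent.Lib.FibCat19_helper6

open Groth.Agent.Lib.FibCat_helper6 Groth.Agent.Lib.FibCat2_helper6 Groth.Agent.Lib.FibCat13_helper6
  Groth.Agent.Lib.FibCat14_helper6 Groth.Agent.Lib.FibCat15_helper6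
  Groth.Agent.Lib.FibCat4_helper6

theorem abstract_w' {D : Type u₃} [Category.{v₃} D] {P Q P' P₀ Q₀ S₀ : D} (θ : P ⟶ Q)
    (j₁ : P' ⟶ P) (β₁ : P ⟶ P₀) (β₂ : Q ⟶ Q₀) (ζ₁ : P₀ ⟶ S₀) (ζ₂ : Q₀ ≅ S₀)
    (h : β₁ ≫ (ζ₁ ≫ ζ₂.inv) = θ ≫ β₂) :
    (j₁ ≫ β₁) ≫ ζ₁ = (j₁ ≫ θ) ≫ (β₂ ≫ ζ₂.hom) := by
  have : β₁ ≫ ζ₁ = θ ≫ β₂ ≫ ζ₂.hom := by
    rw [← Category.assoc, ← h]
    simp
  rw [Category.assoc, this, Category.assoc]

section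

variable {C : Type u} [Category.{v} C] [HasBinaryProducts C] [HasEqualizers C]
  {𝒮 : BasedCategory.{v₂, u₂} C}
  (h𝒮 : IsFibGrpd 𝒮.p) {U V : C} (G' : overCat V ⥤ᵇ 𝒮) (G : overCat U ⥤ᵇ 𝒮)
  (z₀ : (fp (HH G' G) (Δ' 𝒮)).obj) (t : (fp G' G).obj) (μ' : t ⟶ tOf h𝒮 G' G z₀)

abbrev b₁' : tv G' G t ⟶ (Over.map prod.fst).obj (zw (HH G' G) z₀) := μ'.hom.fst
abbrev b₂' : tu G' G t ⟶ (Over.map prod.snd).obj (zw (HH G' G) z₀) := μ'.hom.snd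

theorem μ'_w : G'.map (b₁' h𝒮 G' G z₀ t μ') ≫ (zθ h𝒮 (HH G' G) z₀).hom =
    (tθ G' G t).hom ≫ G.map (b₂' h𝒮 G' G z₀ t μ') := μ'.hom.w

theorem b₂'_left : (b₂' h𝒮 G' G z₀ t μ').left =
    eqToHom (et G' G t).symm ≫ (b₁' h𝒮 G' G z₀ t μ').left := by
  have h1 : (overCat U).p.IsHomLift ((fp G' G).p.map μ') μ'.hom.snd := fp_isHomLift_snd' μ' _
  have h2 : (overCat U).p.IsHomLift (b₁' h𝒮 G' G z₀ t μ').left (b₂' h𝒮 G' G z₀ t μ') := h1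
  have := over_left_eq (b₂' h𝒮 G' G z₀ t μ') (b₁' h𝒮 G' G z₀ t μ').left
  rw [this]
  congr 1
  exact Category.comp_id _

/-- the first component of `n'` -/
noncomputable def c'' : tw G' G t ⟶ zw (HH G' G) z₀ :=
  Over.homMk (b₁' h𝒮 G' G z₀ t μ').left (by
    show (b₁' h𝒮 G' G z₀ t μ').left ≫ (zw (HH G' G) z₀).hom =
      prod.lift (tv G' G t).hom (eqToHom (et G' G t) ≫ (tu G' G t).hom)
    apply Limits.prod.hom_ext
    · rw [Category.assoc]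
      exact (Over.w (b₁' h𝒮 G' G z₀ t μ')).trans (prod.lift_fst _ _).symm
    · rw [Category.assoc]
      have h := Over.w (b₂' h𝒮 G' G z₀ t μ')
      rw [b₂'_left] at h
      have h' : (b₁' h𝒮 G' G z₀ t μ').left ≫ (zw (HH G' G) z₀).hom ≫ prod.snd =
          eqToHom (et G' G t) ≫ (tu G' G t).hom := by
        rw [← h]
        show _ = eqToHom (et G' G t) ≫ (eqToHom (et G' G t).symm ≫ (b₁' h𝒮 G' G z₀ t μ').left) ≫
          (zw (HH G' G) z₀).hom ≫ prod.snd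
        simp
      exact h'.trans (prod.lift_snd _ _).symm)

theorem c''_left : (c'' h𝒮 G' G z₀ t μ').left = (b₁' h𝒮 G' G z₀ t μ').left := rfl

theorem map_fst_c'' : (Over.map prod.fst).map (c'' h𝒮 G' G z₀ t μ') =
    (i₁ G' G t).hom ≫ b₁' h𝒮 G' G z₀ t μ' := by
  apply Over.OverMorphism.ext
  show (b₁' h𝒮 G' G z₀ t μ').left = 𝟙 _ ≫ (b₁' h𝒮 G' G z₀ t μ').left
  rw [Category.id_comp]

theorem map_snd_c'' : (Over.map prod.snd).map (c'' h𝒮 G' G z₀ t μ') =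
    (i₂ G' G t).hom ≫ b₂' h𝒮 G' G z₀ t μ' := by
  apply Over.OverMorphism.ext
  show (b₁' h𝒮 G' G z₀ t μ').left = eqToHom (et G' G t) ≫ (b₂' h𝒮 G' G z₀ t μ').left
  rw [b₂'_left]
  simp

end

end Groth.Agent.Lib.FibCat19_helper6
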