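import Groth.Agent.Lib.FibCat21_helper6

/-!
# Terminality of `tOf z₀`: conclusion (helper6)
-/

set_option autoImplicit false

universe v₆ u₆ v₅ u₅ v₄ u₄ v₃ u₃ v₂ u₂ v u

open CategoryTheory CategoryTheory.Limits FibCat

namespace Groth.Agent.Lib.FibCat19_helper6

open Groth.Agent.Lib.FibCat_helper6 Groth.Agent.Lib.FibCat2_helper6 Groth.Agent.Lib.FibCat13_helper6
  Groth.Agent.Lib.FibCat14_helper6 Groth.Agent.Lib.FibCat15_helper6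
  Groth.Agent.Lib.FibCat4_helper6

section

variable {C : Type u} [Category.{v} C] [HasBinaryProducts C] [HasEqualizers C]
  {𝒮 : BasedCategory.{v₂, u₂} C}
  (h𝒮 : IsFibGrpd 𝒮.p) {U V : C} (G' : overCat V ⥤ᵇ 𝒮) (G : overCat U ⥤ᵇ 𝒮)
  (z₀ : (fp (HH G' G) (Δ' 𝒮)).obj) (t : (fp G' G).obj) (μ' : t ⟶ tOf h𝒮 G' G z₀)

/-- the second component of `n'` -/
noncomputable def d'' : G.obj (tu G' G t) ⟶ zs (HH G' G) z₀ :=
  G.map (b₂' h𝒮 G' G z₀ t μ') ≫ ζ₂ (HH G' G) z₀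

theorem map_map_fst_c'' : G'.map ((Over.map prod.fst).map (c'' h𝒮 G' G z₀ t μ')) =
    G'.map (i₁ G' G t).hom ≫ G'.map (b₁' h𝒮 G' G z₀ t μ') :=
  (congrArg G'.map (map_fst_c'' h𝒮 G' G z₀ t μ')).trans (G'.toFunctor.map_comp _ _)

theorem map_map_snd_c'' : G.map ((Over.map prod.snd).map (c'' h𝒮 G' G z₀ t μ')) =
    G.map (i₂ G' G t).hom ≫ G.map (b₂' h𝒮 G' G z₀ t μ') :=
  (congrArg G.map (map_snd_c'' h𝒮 G' G z₀ t μ')).trans (G.toFunctor.map_comp _ _)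

theorem n'_w_fst : G'.map ((Over.map prod.fst).map (c'' h𝒮 G' G z₀ t μ')) ≫ ζ₁ (HH G' G) z₀ =
    (Ψa G' G t).hom ≫ d'' h𝒮 G' G z₀ t μ' := by
  rw [map_map_fst_c'']
  exact abstract_w' (tθ G' G t).hom (G'.map (i₁ G' G t).hom) (G'.map (b₁' h𝒮 G' G z₀ t μ'))
    (G.map (b₂' h𝒮 G' G z₀ t μ')) (ζ₁ (HH G' G) z₀) (ζ₂Iso h𝒮 (HH G' G) z₀)
    (μ'_w h𝒮 G' G z₀ t μ')

theorem n'_w_snd : G.map ((Over.map prod.snd).map (c'' h𝒮 G' G z₀ t μ')) ≫ ζ₂ (HH G' G) z₀ =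
    (Ψb G' G t).hom ≫ d'' h𝒮 G' G z₀ t μ' := by
  rw [map_map_snd_c'']
  exact Category.assoc _ _ _

/-- the morphism `zOf t ⟶ z₀` attached to `μ'` -/
noncomputable def n'' : zOf G' G t ⟶ z₀ :=
  fpHomMk (F := HH G' G) (G := Δ' 𝒮) (X := zOf G' G t) (Y := z₀)
    (c'' h𝒮 G' G z₀ t μ') (d'' h𝒮 G' G z₀ t μ') (by
      apply fp_hom_ext
      · exact n'_w_fst h𝒮 G' G z₀ t μ'
      · exact n'_w_snd h𝒮 G' G z₀ t μ')

theorem n''_fst : (n'' h𝒮 G' G z₀ t μ').hom.fst = c'' h𝒮 G' G z₀ t μ' := rfl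

theorem μ_n'' : μ h𝒮 G' G z₀ t (n'' h𝒮 G' G z₀ t μ') = μ' := by
  apply fp_hom_ext
  · show (i₁ G' G t).inv ≫ (Over.map prod.fst).map (c'' h𝒮 G' G z₀ t μ') = b₁' h𝒮 G' G z₀ t μ'
    rw [map_fst_c'', Iso.inv_hom_id_assoc]
  · show (i₂ G' G t).inv ≫ (Over.map prod.snd).map (c'' h𝒮 G' G z₀ t μ') = b₂' h𝒮 G' G z₀ t μ'
    rw [map_snd_c'', Iso.inv_hom_id_assoc]

/-- `tOf z₀` is terminal if `z₀` is -/
noncomputable def tOf_isTerminal (hz₀ : IsTerminal z₀) : IsTerminal (tOf h𝒮 G' G z₀) :=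
  IsTerminal.ofUniqueHom (fun t => μ h𝒮 G' G z₀ t (hz₀.from (zOf G' G t)))
    (fun t μ' => by
      rw [← μ_n'' h𝒮 G' G z₀ t μ']
      congr 1
      exact hz₀.hom_ext _ _)

end

end Groth.Agent.Lib.FibCat19_helper6
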