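import Groth.Agent.Lib.FibCat_helper6

/-!
# Helper library on categories over a base, part 2 (helper6): fibres, thin and discrete fibres
-/

set_option autoImplicit false

universe v₅ u₅ v₄ u₄ v₃ u₃ v₂ u₂ v u

open CategoryTheory CategoryTheory.Limits FibCat

namespace Groth.Agent.Lib.FibCat2_helper6

section plain

variable {C : Type u} [Category.{v} C] {𝒳 : Type u₂} [Category.{v₂} 𝒳] {p : 𝒳 ⥤ C}

theorem map_eq_id_of_isHomLift_id {a : 𝒳} (φ : a ⟶ a) {U : C} [p.IsHomLift (𝟙 U) φ] :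
    p.map φ = 𝟙 (p.obj a) := by
  have := IsHomLift.fac' p (𝟙 U) φ
  simpa using this

/-- Parallel morphisms over an identity coincide when the fibres are thin. -/
theorem eq_of_isThin_fiber {U : C} (h : Quiver.IsThin (p.Fiber U)) {a b : 𝒳} (φ ψ : a ⟶ b)
    [p.IsHomLift (𝟙 U) φ] [p.IsHomLift (𝟙 U) ψ] : φ = ψ := by
  have := h (Functor.Fiber.mk (IsHomLift.domain_eq p (𝟙 U) φ))
    (Functor.Fiber.mk (IsHomLift.codomain_eq p (𝟙 U) φ))
  have e : Functor.Fiber.homMk p U φ = Functor.Fiber.homMk p U ψ := Subsingleton.elim _ _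
  exact congrArg Subtype.val e

theorem eq_of_isFibSetoid (h : IsFibSetoid p) {U : C} {a b : 𝒳} (φ ψ : a ⟶ b)
    [p.IsHomLift (𝟙 U) φ] [p.IsHomLift (𝟙 U) ψ] : φ = ψ :=
  eq_of_isThin_fiber (h.2 U) φ ψ

/-- A morphism over an identity between objects of a discrete fibre is an `eqToHom`. -/
theorem eq_eqToHom_of_isDiscrete_fiber {U : C} (h : IsDiscrete (p.Fiber U)) {a b : 𝒳} (φ : a ⟶ b)
    [p.IsHomLift (𝟙 U) φ] : ∃ e : a = b, φ = eqToHom e := by
  have e0 := IsDiscrete.eq_of_hom (Functor.Fiber.homMk p U φ)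
  have e : a = b := congrArg Subtype.val e0
  refine ⟨e, ?_⟩
  subst e
  have e1 : Functor.Fiber.homMk p U φ = 𝟙 _ := Subsingleton.elim _ _
  exact congrArg Subtype.val e1

theorem isFibSetoid_of_isFibSet (h : IsFibSet p) : IsFibSetoid p :=
  ⟨h.1, fun U a b => (h.2 U).subsingleton a b⟩

end plain

section based

variable {C : Type u} [Category.{v} C] {𝒳 : BasedCategory.{v₂, u₂} C}
  {𝒴 : BasedCategory.{v₃, u₃} C}

theorem basedFunctor_ext {F G : 𝒳 ⥤ᵇ 𝒴} (h : F.toFunctor = G.toFunctor) : F = G := by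
  cases F; cases G; cases h; rfl

end based

end Groth.Agent.Lib.FibCat2_helper6
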