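import Groth.Agent.Lib.FibCat_helper6
import Groth.Agent.Lib.FibCat2_helper6

/-!
# Equivalences over the base: criteria (helper6)

* `isEquivOver_of_fullyFaithful` : a functor over `C` which is fully faithful and essentially
  surjective *over identities* is an equivalence over `C`.
* `isEquivOver_of_isEquivalence` : if `𝒳` is fibred over `C`, a functor over `C` that is an equivalence of the
  underlying categories is an equivalence over `C`.
* `isEquivOver_comp`, `isEquivOver_of_iso`, `isEquivOver_inverse`.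
-/

set_option autoImplicit false

universe v₅ u₅ v₄ u₄ v₃ u₃ v₂ u₂ v u

open CategoryTheory CategoryTheory.Limits FibCat

namespace Groth.Agent.Lib.FibCat3_helper6

section EquivOver

variable {C : Type u} [Category.{v} C] {𝒳 : BasedCategory.{v₂, u₂} C}
  {𝒴 : BasedCategory.{v₃, u₃} C} {𝒵 : BasedCategory.{v₄, u₄} C}

section criterion

variable (F : 𝒳 ⥤ᵇ 𝒴) [F.toFunctor.Full] [F.toFunctor.Faithful]
  (x : 𝒴.obj → 𝒳.obj) (φ : ∀ y, F.obj (x y) ≅ y)
  (hφ : ∀ y, 𝒴.p.IsHomLift (𝟙 (𝒴.p.obj y)) (φ y).hom)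

include hφ in
theorem quasiInv_obj_eq (y : 𝒴.obj) : 𝒳.p.obj (x y) = 𝒴.p.obj y := by
  have := hφ y
  rw [← F.w_obj]
  exact IsHomLift.domain_eq 𝒴.p (𝟙 (𝒴.p.obj y)) (φ y).hom

include hφ in
theorem quasiInv_inv_isHomLift (y : 𝒴.obj) : 𝒴.p.IsHomLift (𝟙 (𝒴.p.obj y)) (φ y).inv := by
  have := hφ y
  exact IsHomLift.lift_id_inv _ _ _

/-- the quasi-inverse functor (underlying functor) -/
noncomputable def quasiInvFunctor : 𝒴.obj ⥤ 𝒳.obj where
  obj := x
  map {y y'} g := F.toFunctor.preimage ((φ y).hom ≫ g ≫ (φ y').inv)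
  map_id y := by
    apply F.toFunctor.map_injective
    simp
  map_comp {y y' y''} g g' := by
    apply F.toFunctor.map_injective
    simp

theorem map_quasiInvFunctor_map {y y' : 𝒴.obj} (g : y ⟶ y') :
    F.map ((quasiInvFunctor F x φ).map g) = (φ y).hom ≫ g ≫ (φ y').inv :=
  F.toFunctor.map_preimage _

include hφ in
theorem quasiInvFunctor_isHomLift {y y' : 𝒴.obj} (g : y ⟶ y') :
    𝒳.p.IsHomLift (𝒴.p.map g) ((quasiInvFunctor F x φ).map g) := by
  rw [← BasedFunctor.isHomLift_iff F, map_quasiInvFunctor_map]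
  have h1 := hφ y
  have h2 := quasiInv_inv_isHomLift F x φ hφ y'
  have : 𝒴.p.IsHomLift (𝟙 (𝒴.p.obj y) ≫ 𝒴.p.map g ≫ 𝟙 (𝒴.p.obj y'))
      ((φ y).hom ≫ g ≫ (φ y').inv) := inferInstance
  rw [Category.id_comp, Category.comp_id] at this
  exact this

/-- the quasi-inverse functor over `C` -/
noncomputable def quasiInv : 𝒴 ⥤ᵇ 𝒳 where
  toFunctor := quasiInvFunctor F x φ
  w := Functor.ext (fun y => quasiInv_obj_eq F x φ hφ y) (fun y y' g => by
    have := quasiInvFunctor_isHomLift F x φ hφ g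
    exact IsHomLift.fac' 𝒳.p (𝒴.p.map g) ((quasiInvFunctor F x φ).map g))

include x φ hφ in
/-- A functor over `C` which is fully faithful and such that every object of the target is isomorphic,
by an isomorphism over an identity, to the image of an object of the source, is an equivalence over `C`. -/
theorem isEquivOver_of_data : IsEquivOver F := by
  refine ⟨quasiInv F x φ hφ, ⟨?_⟩, ⟨?_⟩⟩
  · refine BasedNatIso.mkNatIso
      (NatIso.ofComponents (fun a => F.toFunctor.preimageIso (φ (F.obj a))) ?_) ?_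
    · intro a b f
      apply F.toFunctor.map_injective
      show F.map ((quasiInvFunctor F x φ).map (F.map f) ≫ F.toFunctor.preimage (φ (F.obj b)).hom) =
        F.map (F.toFunctor.preimage (φ (F.obj a)).hom ≫ f)
      have e := map_quasiInvFunctor_map F x φ (F.map f)
      have e1 : F.map (F.toFunctor.preimage (φ (F.obj b)).hom) = (φ (F.obj b)).hom :=
        F.toFunctor.map_preimage _
      have e2 : F.map (F.toFunctor.preimage (φ (F.obj a)).hom) = (φ (F.obj a)).hom :=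
        F.toFunctor.map_preimage _
      calc F.map ((quasiInvFunctor F x φ).map (F.map f) ≫ F.toFunctor.preimage (φ (F.obj b)).hom)
          = F.map ((quasiInvFunctor F x φ).map (F.map f)) ≫
              F.map (F.toFunctor.preimage (φ (F.obj b)).hom) := F.toFunctor.map_comp _ _
        _ = ((φ (F.obj a)).hom ≫ F.map f ≫ (φ (F.obj b)).inv) ≫ (φ (F.obj b)).hom :=
            congrArg₂ (fun u v => u ≫ v) e e1
        _ = (φ (F.obj a)).hom ≫ F.map f := by simp
        _ = F.map (F.toFunctor.preimage (φ (F.obj a)).hom) ≫ F.map f := by rw [e2]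
        _ = F.map (F.toFunctor.preimage (φ (F.obj a)).hom ≫ f) := (F.toFunctor.map_comp _ _).symm
    · intro a
      have h1 : 𝒴.p.IsHomLift (𝟙 (𝒴.p.obj (F.obj a))) (φ (F.obj a)).hom := hφ (F.obj a)
      have h2 : 𝒴.p.IsHomLift (𝟙 (𝒳.p.obj a)) (φ (F.obj a)).hom := by
        rw [← F.w_obj a]; exact h1
      have h3 : 𝒴.p.IsHomLift (𝟙 (𝒳.p.obj a))
          (F.map (F.toFunctor.preimage (φ (F.obj a)).hom)) := by
        rw [show F.map (F.toFunctor.preimage (φ (F.obj a)).hom) = (φ (F.obj a)).hom from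
          F.toFunctor.map_preimage _]
        exact h2
      have h4 : 𝒳.p.IsHomLift (𝟙 (𝒳.p.obj a)) (F.toFunctor.preimage (φ (F.obj a)).hom) :=
        F.isHomLift_map _ _
      exact h4
  · refine BasedNatIso.mkNatIso
      (NatIso.ofComponents (fun y => φ y) ?_) ?_
    · intro y y' g
      show F.map ((quasiInvFunctor F x φ).map g) ≫ (φ y').hom = (φ y).hom ≫ g
      have e := map_quasiInvFunctor_map F x φ g
      calc F.map ((quasiInvFunctor F x φ).map g) ≫ (φ y').hom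
          = ((φ y).hom ≫ g ≫ (φ y').inv) ≫ (φ y').hom := congrArg (· ≫ (φ y').hom) e
        _ = (φ y).hom ≫ g := by simp
    · intro y
      exact hφ y

end criterion

/-- A functor over `C` which is fully faithful and such that every object of the target is isomorphic,
by an isomorphism over an identity, to the image of an object of the source, is an equivalence over `C`. -/
theorem isEquivOver_of_fullyFaithful (F : 𝒳 ⥤ᵇ 𝒴) [F.toFunctor.Full] [F.toFunctor.Faithful]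
    (h : ∀ y : 𝒴.obj, ∃ (x : 𝒳.obj) (φ : F.obj x ≅ y), 𝒴.p.IsHomLift (𝟙 (𝒴.p.obj y)) φ.hom) :
    IsEquivOver F := by
  choose x φ hφ using h
  exact isEquivOver_of_data F x φ hφ

theorem isHomLift_id_of_eq {𝒲 : BasedCategory.{v₅, u₅} C} {R R' : C} (h : R = R') {a b : 𝒲.obj}
    (m : a ⟶ b) (hm : 𝒲.p.IsHomLift (𝟙 R) m) : 𝒲.p.IsHomLift (𝟙 R') m := by
  subst h; exact hm

/-- An equivalence over `C` is essentially surjective over identities. -/
theorem essSurjOver_of_isEquivOver {F : 𝒳 ⥤ᵇ 𝒴} (h : IsEquivOver F) (y : 𝒴.obj) :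
    ∃ (x : 𝒳.obj) (φ : F.obj x ≅ y), 𝒴.p.IsHomLift (𝟙 (𝒴.p.obj y)) φ.hom := by
  obtain ⟨G, ⟨e₁⟩, ⟨e₂⟩⟩ := h
  refine ⟨G.obj y, ((BasedNatTrans.forgetful _ _).mapIso e₂).app y, ?_⟩
  exact e₂.hom.isHomLift' y

theorem full_of_isEquivOver {F : 𝒳 ⥤ᵇ 𝒴} (h : IsEquivOver F) : F.toFunctor.Full :=
  have := Lib.FibCat_helper6.isEquivalence_of_isEquivOver h
  inferInstance

theorem faithful_of_isEquivOver {F : 𝒳 ⥤ᵇ 𝒴} (h : IsEquivOver F) : F.toFunctor.Faithful :=
  have := Lib.FibCat_helper6.isEquivalence_of_isEquivOver h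
  inferInstance

/-- The quasi-inverse of an equivalence over `C` is an equivalence over `C`. -/
theorem isEquivOver_inverse {F : 𝒳 ⥤ᵇ 𝒴} {G : 𝒴 ⥤ᵇ 𝒳}
    (e₁ : BasedFunctor.comp F G ≅ BasedFunctor.id 𝒳)
    (e₂ : BasedFunctor.comp G F ≅ BasedFunctor.id 𝒴) : IsEquivOver G :=
  ⟨F, ⟨e₂⟩, ⟨e₁⟩⟩

/-- A composite of equivalences over `C` is an equivalence over `C`. -/
theorem isEquivOver_comp {F : 𝒳 ⥤ᵇ 𝒴} {G : 𝒴 ⥤ᵇ 𝒵} (hF : IsEquivOver F) (hG : IsEquivOver G) :
    IsEquivOver (BasedFunctor.comp F G) := by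
  have := full_of_isEquivOver hF
  have := faithful_of_isEquivOver hF
  have := full_of_isEquivOver hG
  have := faithful_of_isEquivOver hG
  have : (BasedFunctor.comp F G).toFunctor.Full :=
    (inferInstance : (F.toFunctor ⋙ G.toFunctor).Full)
  have : (BasedFunctor.comp F G).toFunctor.Faithful :=
    (inferInstance : (F.toFunctor ⋙ G.toFunctor).Faithful)
  apply isEquivOver_of_fullyFaithful
  intro z
  obtain ⟨y, ψ, hψ⟩ := essSurjOver_of_isEquivOver hG z
  obtain ⟨x, φ, hφ⟩ := essSurjOver_of_isEquivOver hF y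
  refine ⟨x, G.toFunctor.mapIso φ ≪≫ ψ, ?_⟩
  have e : 𝒴.p.obj y = 𝒵.p.obj z := by
    rw [← G.w_obj y]
    exact IsHomLift.domain_eq 𝒵.p (𝟙 (𝒵.p.obj z)) ψ.hom
  have hφ' : 𝒴.p.IsHomLift (𝟙 (𝒵.p.obj z)) φ.hom := isHomLift_id_of_eq e _ hφ
  have h1 : 𝒵.p.IsHomLift (𝟙 (𝒵.p.obj z)) (G.map φ.hom) := inferInstance
  have h2 : 𝒵.p.IsHomLift (𝟙 (𝒵.p.obj z) ≫ 𝟙 (𝒵.p.obj z)) (G.map φ.hom ≫ ψ.hom) := inferInstance
  rw [Category.id_comp] at h2
  exact h2

/-- A functor over `C` isomorphic (over `C`, or even just as a functor) to an equivalence over `C` is one. -/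
theorem isEquivOver_of_iso {F G : 𝒳 ⥤ᵇ 𝒴} (e : F ≅ G) (hF : IsEquivOver F) : IsEquivOver G := by
  have := full_of_isEquivOver hF
  have := faithful_of_isEquivOver hF
  let e' : F.toFunctor ≅ G.toFunctor := (BasedNatTrans.forgetful _ _).mapIso e
  have : G.toFunctor.Full := Functor.Full.of_iso e'
  have : G.toFunctor.Faithful := Functor.Faithful.of_iso e'
  apply isEquivOver_of_fullyFaithful
  intro y
  obtain ⟨x, φ, hφ⟩ := essSurjOver_of_isEquivOver hF y
  refine ⟨x, (e'.app x).symm ≪≫ φ, ?_⟩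
  have e0 : 𝒳.p.obj x = 𝒴.p.obj y := by
    rw [← F.w_obj x]
    exact IsHomLift.domain_eq 𝒴.p (𝟙 (𝒴.p.obj y)) φ.hom
  have h1 : 𝒴.p.IsHomLift (𝟙 (𝒴.p.obj y)) (e.inv.toNatTrans.app x) :=
    isHomLift_id_of_eq e0 _ (e.inv.isHomLift' x)
  have h2 : 𝒴.p.IsHomLift (𝟙 (𝒴.p.obj y) ≫ 𝟙 (𝒴.p.obj y)) (e.inv.toNatTrans.app x ≫ φ.hom) :=
    inferInstance
  rw [Category.id_comp] at h2
  exact h2

/-- If `𝒳` is fibred over `C`, a functor `𝒳 ⟶ 𝒴` over `C` that is an equivalence of the underlying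
categories is an equivalence over `C`. -/
theorem isEquivOver_of_isEquivalence [𝒳.p.IsFibered] (F : 𝒳 ⥤ᵇ 𝒴) [F.toFunctor.IsEquivalence] :
    IsEquivOver F := by
  apply isEquivOver_of_fullyFaithful
  intro y
  let x₀ := F.toFunctor.objPreimage y
  let φ₀ : F.obj x₀ ≅ y := F.toFunctor.objObjPreimageIso y
  -- the morphism of `C` under `φ₀`
  have e0 : 𝒴.p.obj (F.obj x₀) = 𝒳.p.obj x₀ := F.w_obj x₀
  let f : 𝒳.p.obj x₀ ≅ 𝒴.p.obj y := eqToIso e0.symm ≪≫ 𝒴.p.mapIso φ₀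
  have hf : 𝒴.p.IsHomLift f.hom φ₀.hom :=
    IsHomLift.of_fac _ _ _ e0 rfl (by simp [f])
  obtain ⟨x, ψ, hψ⟩ := CategoryTheory.IsPreFibered.exists_isCartesian 𝒳.p (a := x₀) rfl f.inv
  have hψ' : 𝒳.p.IsStronglyCartesian f.inv ψ := inferInstance
  have : IsIso ψ := Functor.IsStronglyCartesian.isIso_of_base_isIso 𝒳.p f.inv ψ
  refine ⟨x, F.toFunctor.mapIso (asIso ψ) ≪≫ φ₀, ?_⟩
  have h1 : 𝒴.p.IsHomLift f.inv (F.map ψ) := inferInstance
  have h2 : 𝒴.p.IsHomLift (f.inv ≫ f.hom) (F.map ψ ≫ φ₀.hom) := inferInstance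
  rw [Iso.inv_hom_id] at h2
  exact h2

end EquivOver

end Groth.Agent.Lib.FibCat3_helper6
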