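import Groth.Agent.Lib.FibCat3_helper6

/-!
# Whiskering of isomorphisms over the base; functors over `C` between slices (helper6)
-/

set_option autoImplicit false

universe v₆ u₆ v₅ u₅ v₄ u₄ v₃ u₃ v₂ u₂ v u

open CategoryTheory CategoryTheory.Limits FibCat

namespace Groth.Agent.Lib.FibCat4_helper6

section whisker

variable {C : Type u} [Category.{v} C] {𝒳 : BasedCategory.{v₂, u₂} C}
  {𝒴 : BasedCategory.{v₃, u₃} C} {𝒵 : BasedCategory.{v₄, u₄} C} {𝒲 : BasedCategory.{v₅, u₅} C}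

/-- left whiskering of an isomorphism of functors over `C` -/
def whiskerLeftIso (F : 𝒳 ⥤ᵇ 𝒴) {G H : 𝒴 ⥤ᵇ 𝒵} (α : G ≅ H) :
    BasedFunctor.comp F G ≅ BasedFunctor.comp F H where
  hom := BasedCategory.whiskerLeft F α.hom
  inv := BasedCategory.whiskerLeft F α.inv
  hom_inv_id := by
    apply BasedNatTrans.homCategory.ext
    ext a
    have := congrArg (fun t => t.toNatTrans.app (F.obj a)) α.hom_inv_id
    exact this
  inv_hom_id := by
    apply BasedNatTrans.homCategory.ext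
    ext a
    have := congrArg (fun t => t.toNatTrans.app (F.obj a)) α.inv_hom_id
    exact this

/-- right whiskering of an isomorphism of functors over `C` -/
def whiskerRightIso {F G : 𝒳 ⥤ᵇ 𝒴} (α : F ≅ G) (H : 𝒴 ⥤ᵇ 𝒵) :
    BasedFunctor.comp F H ≅ BasedFunctor.comp G H where
  hom := BasedCategory.whiskerRight α.hom H
  inv := BasedCategory.whiskerRight α.inv H
  hom_inv_id := by
    apply BasedNatTrans.homCategory.ext
    ext a
    have h1 : α.hom.toNatTrans.app a ≫ α.inv.toNatTrans.app a = 𝟙 _ :=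
      congrArg (fun t => t.toNatTrans.app a) α.hom_inv_id
    show H.map (α.hom.toNatTrans.app a) ≫ H.map (α.inv.toNatTrans.app a) = 𝟙 _
    rw [← Functor.map_comp, h1, Functor.map_id]
  inv_hom_id := by
    apply BasedNatTrans.homCategory.ext
    ext a
    have h1 : α.inv.toNatTrans.app a ≫ α.hom.toNatTrans.app a = 𝟙 _ :=
      congrArg (fun t => t.toNatTrans.app a) α.inv_hom_id
    show H.map (α.inv.toNatTrans.app a) ≫ H.map (α.hom.toNatTrans.app a) = 𝟙 _
    rw [← Functor.map_comp, h1, Functor.map_id]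

@[simp] theorem whiskerLeftIso_hom_app (F : 𝒳 ⥤ᵇ 𝒴) {G H : 𝒴 ⥤ᵇ 𝒵} (α : G ≅ H) (a : 𝒳.obj) :
    (whiskerLeftIso F α).hom.toNatTrans.app a = α.hom.toNatTrans.app (F.obj a) := rfl

@[simp] theorem whiskerRightIso_hom_app {F G : 𝒳 ⥤ᵇ 𝒴} (α : F ≅ G) (H : 𝒴 ⥤ᵇ 𝒵) (a : 𝒳.obj) :
    (whiskerRightIso α H).hom.toNatTrans.app a = H.map (α.hom.toNatTrans.app a) := rfl

/-- the component of an isomorphism of functors over `C` -/
def appIso {F G : 𝒳 ⥤ᵇ 𝒴} (α : F ≅ G) (a : 𝒳.obj) : F.obj a ≅ G.obj a :=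
  ((BasedNatTrans.forgetful _ _).mapIso α).app a

@[simp] theorem appIso_hom {F G : 𝒳 ⥤ᵇ 𝒴} (α : F ≅ G) (a : 𝒳.obj) :
    (appIso α a).hom = α.hom.toNatTrans.app a := rfl

theorem appIso_isHomLift {F G : 𝒳 ⥤ᵇ 𝒴} (α : F ≅ G) (a : 𝒳.obj) {R : C} (h : 𝒳.p.obj a = R) :
    𝒴.p.IsHomLift (𝟙 R) (appIso α a).hom :=
  α.hom.isHomLift h

end whisker

section slice

variable {C : Type u} [Category.{v} C] {X X' : C} (H : Over X' ⥤ Over X)
  (hw : H ⋙ Over.forget X = Over.forget X')

include hw in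
theorem slice_obj_left (A : Over X') : (H.obj A).left = A.left := Functor.congr_obj hw A

include hw in
theorem slice_map_left {A B : Over X'} (g : A ⟶ B) :
    (H.map g).left = eqToHom (slice_obj_left H hw A) ≫ g.left ≫
      eqToHom (slice_obj_left H hw B).symm := by
  have := Functor.congr_hom hw g
  simpa using this

/-- the morphism `X' ⟶ X` attached to a functor `C/X' ⥤ C/X` over `C` -/
def sliceMor : X' ⟶ X :=
  eqToHom (slice_obj_left H hw (Over.mk (𝟙 X'))).symm ≫ (H.obj (Over.mk (𝟙 X'))).hom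

theorem slice_obj_hom (A : Over X') :
    (H.obj A).hom = eqToHom (slice_obj_left H hw A) ≫ A.hom ≫ sliceMor H hw := by
  have := Over.w (H.map (Over.homMk A.hom : A ⟶ Over.mk (𝟙 X')))
  rw [slice_map_left H hw] at this
  rw [← this]
  simp [sliceMor]

/-- a functor `C/X' ⥤ C/X` over `C` is isomorphic to composition with a morphism `X' ⟶ X` -/
def sliceIso : H ≅ Over.map (sliceMor H hw) :=
  NatIso.ofComponents (fun A => Over.isoMk (eqToIso (slice_obj_left H hw A))
    (by simp [slice_obj_hom H hw A])) (by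
    intro A B g
    ext
    simp [slice_map_left H hw g])

theorem sliceIso_hom_app_left (A : Over X') :
    ((sliceIso H hw).hom.app A).left = eqToHom (slice_obj_left H hw A) := rfl

end slice

section sliceBased

variable {C : Type u} [Category.{v} C] {X X' : C}

/-- composition with `a : X' ⟶ X` as a functor over `C` -/
abbrev overMap (a : X' ⟶ X) : overCat X' ⥤ᵇ overCat X := ⟨Over.map a, Over.mapForget_eq a⟩

/-- the morphism attached to a functor over `C` between slices -/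
def sliceMorB (H : overCat X' ⥤ᵇ overCat X) : X' ⟶ X := sliceMor H.toFunctor H.w

/-- a functor `C/X' ⥤ C/X` over `C` is isomorphic over `C` to composition with a morphism `X' ⟶ X` -/
def sliceIsoB (H : overCat X' ⥤ᵇ overCat X) : H ≅ overMap (sliceMorB H) :=
  BasedNatIso.mkNatIso (sliceIso H.toFunctor H.w) (fun A => by
    apply IsHomLift.of_fac (overCat X).p _ _ (slice_obj_left H.toFunctor H.w A) rfl
    show 𝟙 _ = eqToHom _ ≫ ((sliceIso H.toFunctor H.w).hom.app A).left ≫ eqToHom _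
    rw [sliceIso_hom_app_left]
    simp)

/-- if composition with `a` then `b` is isomorphic over `C` to the identity, then `a ≫ b = 𝟙` -/
theorem comp_eq_id_of_iso (a : X' ⟶ X) (b : X ⟶ X')
    (e : BasedFunctor.comp (overMap a) (overMap b) ≅ BasedFunctor.id (overCat X')) :
    a ≫ b = 𝟙 X' := by
  have h : (overCat X').p.IsHomLift (𝟙 X') (e.hom.toNatTrans.app (Over.mk (𝟙 X'))) :=
    e.hom.isHomLift' (Over.mk (𝟙 X'))
  have h1 : (e.hom.toNatTrans.app (Over.mk (𝟙 X'))).left = eqToHom rfl ≫ 𝟙 X' ≫ eqToHom rfl :=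
    IsHomLift.fac' (overCat X').p (𝟙 X') (e.hom.toNatTrans.app (Over.mk (𝟙 X')))
  have h2 : (e.hom.toNatTrans.app (Over.mk (𝟙 X'))).left = 𝟙 X' := by
    rw [h1]; simp
  have h3 : (e.hom.toNatTrans.app (Over.mk (𝟙 X'))).left ≫ 𝟙 X' = (𝟙 X' ≫ a) ≫ b :=
    Over.w (e.hom.toNatTrans.app (Over.mk (𝟙 X')))
  have h4 : (𝟙 X' : X' ⟶ X') ≫ 𝟙 X' = (𝟙 X' ≫ a) ≫ b :=
    (congrArg (fun k => k ≫ 𝟙 X') h2).symm.trans h3
  rw [Category.id_comp, Category.id_comp] at h4
  exact h4.symm

end sliceBased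

end Groth.Agent.Lib.FibCat4_helper6
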