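import Groth.Agent.Lib.FibCat4_helper6

/-!
# Transfer of (strongly) cartesian morphisms and fibredness along equivalences over `C` (helper6)
-/

set_option autoImplicit false

universe v₆ u₆ v₅ u₅ v₄ u₄ v₃ u₃ v₂ u₂ v u

open CategoryTheory CategoryTheory.Limits FibCat

namespace Groth.Agent.Lib.FibCat5_helper6

open Groth.Agent.Lib.FibCat3_helper6

section

variable {C : Type u} [Category.{v} C] {𝒳 : BasedCategory.{v₂, u₂} C}
  {𝒴 : BasedCategory.{v₃, u₃} C} (F : 𝒳 ⥤ᵇ 𝒴)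

/-- a fully faithful functor over `C` reflects cartesian morphisms -/
theorem isCartesian_of_map [F.toFunctor.Full] [F.toFunctor.Faithful] {R S : C} (f : R ⟶ S)
    {a b : 𝒳.obj} (φ : a ⟶ b) (h : 𝒴.p.IsCartesian f (F.map φ)) : 𝒳.p.IsCartesian f φ := by
  have hφ : 𝒳.p.IsHomLift f φ := F.isHomLift_map f φ
  refine { toIsHomLift := hφ, universal_property := ?_ }
  intro a' φ' hφ'
  have : 𝒴.p.IsHomLift f (F.map φ') := inferInstance
  let χ' := Functor.IsCartesian.map 𝒴.p f (F.map φ) (F.map φ')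
  have hχ' : 𝒴.p.IsHomLift (𝟙 R) χ' := by dsimp only [χ']; infer_instance
  have eχ' : χ' ≫ F.map φ = F.map φ' := Functor.IsCartesian.fac _ _ _ _
  have hχ'' : 𝒴.p.IsHomLift (𝟙 R) (F.map (F.toFunctor.preimage χ')) := by
    rw [show F.map (F.toFunctor.preimage χ') = χ' from F.toFunctor.map_preimage χ']; exact hχ'
  refine ⟨F.toFunctor.preimage χ', ⟨F.isHomLift_map _ _, ?_⟩, ?_⟩
  · apply F.toFunctor.map_injective
    rw [Functor.map_comp, Functor.map_preimage]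
    exact eχ'
  · rintro ψ ⟨h1, h2⟩
    apply F.toFunctor.map_injective
    rw [Functor.map_preimage]
    have : 𝒴.p.IsHomLift (𝟙 R) (F.map ψ) := inferInstance
    exact Functor.IsCartesian.map_uniq 𝒴.p f (F.map φ) (F.map φ') (F.map ψ)
      (by rw [← h2]; exact (F.toFunctor.map_comp _ _).symm)

/-- a fully faithful functor over `C` reflects strongly cartesian morphisms -/
theorem isStronglyCartesian_of_map [F.toFunctor.Full] [F.toFunctor.Faithful] {R S : C} (f : R ⟶ S)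
    {a b : 𝒳.obj} (φ : a ⟶ b) (h : 𝒴.p.IsStronglyCartesian f (F.map φ)) :
    𝒳.p.IsStronglyCartesian f φ := by
  have hφ : 𝒳.p.IsHomLift f φ := F.isHomLift_map f φ
  refine { toIsHomLift := hφ, universal_property' := ?_ }
  intro a' g φ' hφ'
  have : 𝒴.p.IsHomLift (g ≫ f) (F.map φ') := inferInstance
  let χ' := Functor.IsStronglyCartesian.map 𝒴.p f (F.map φ) (g := g) rfl (F.map φ')
  have hχ' : 𝒴.p.IsHomLift g χ' := by dsimp only [χ']; infer_instance
  have eχ' : χ' ≫ F.map φ = F.map φ' := Functor.IsStronglyCartesian.fac _ _ _ _ _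
  have hχ'' : 𝒴.p.IsHomLift g (F.map (F.toFunctor.preimage χ')) := by
    rw [show F.map (F.toFunctor.preimage χ') = χ' from F.toFunctor.map_preimage χ']; exact hχ'
  refine ⟨F.toFunctor.preimage χ', ⟨F.isHomLift_map _ _, ?_⟩, ?_⟩
  · apply F.toFunctor.map_injective
    rw [Functor.map_comp, Functor.map_preimage]
    exact eχ'
  · rintro ψ ⟨h1, h2⟩
    apply F.toFunctor.map_injective
    rw [Functor.map_preimage]
    have : 𝒴.p.IsHomLift g (F.map ψ) := inferInstance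
    exact Functor.IsStronglyCartesian.map_uniq 𝒴.p f (F.map φ) rfl (F.map φ') (F.map ψ)
      (by rw [← h2]; exact (F.toFunctor.map_comp _ _).symm)

variable (hF : ∀ y : 𝒴.obj, ∃ (x : 𝒳.obj) (ε : F.obj x ≅ y), 𝒴.p.IsHomLift (𝟙 (𝒴.p.obj y)) ε.hom)

include hF in
/-- a fully faithful functor over `C`, essentially surjective over identities, preserves strongly cartesian
morphisms -/
theorem map_isStronglyCartesian [F.toFunctor.Full] [F.toFunctor.Faithful] {R S : C} (f : R ⟶ S)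
    {a b : 𝒳.obj} (φ : a ⟶ b) (h : 𝒳.p.IsStronglyCartesian f φ) :
    𝒴.p.IsStronglyCartesian f (F.map φ) := by
  have hφ : 𝒴.p.IsHomLift f (F.map φ) := inferInstance
  refine { toIsHomLift := hφ, universal_property' := ?_ }
  intro y' g ψ' hψ'
  obtain ⟨x', ε, hε⟩ := hF y'
  have hε' : 𝒴.p.IsHomLift (𝟙 (𝒴.p.obj y')) ε.inv := IsHomLift.lift_id_inv _ _ _
  have h1 : 𝒴.p.IsHomLift (𝟙 (𝒴.p.obj y') ≫ g ≫ f) (ε.hom ≫ ψ') := inferInstance
  rw [Category.id_comp] at h1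
  let φ' : x' ⟶ b := F.toFunctor.preimage (ε.hom ≫ ψ')
  have eφ' : F.map φ' = ε.hom ≫ ψ' := F.toFunctor.map_preimage _
  have e0 : 𝒳.p.obj x' = 𝒴.p.obj y' := by
    rw [← F.w_obj]; exact IsHomLift.domain_eq 𝒴.p (𝟙 (𝒴.p.obj y')) ε.hom
  have hφ' : 𝒳.p.IsHomLift (g ≫ f) φ' := by
    have : 𝒴.p.IsHomLift (g ≫ f) (F.map φ') := by rw [eφ']; exact h1
    exact F.isHomLift_map _ _
  obtain ⟨χ, ⟨hχ1, hχ2⟩, hχu⟩ :=
    Functor.IsStronglyCartesian.universal_property 𝒳.p f φ g (g ≫ f) rfl φ'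
  have hFχ : 𝒴.p.IsHomLift g (F.map χ) := inferInstance
  refine ⟨ε.inv ≫ F.map χ, ⟨?_, ?_⟩, ?_⟩
  · have : 𝒴.p.IsHomLift (𝟙 (𝒴.p.obj y') ≫ g) (ε.inv ≫ F.map χ) := inferInstance
    rw [Category.id_comp] at this
    exact this
  · rw [Category.assoc, ← Functor.map_comp, hχ2, eφ', Iso.inv_hom_id_assoc]
  · rintro χ' ⟨k1, k2⟩
    have h2 : 𝒴.p.IsHomLift (𝟙 (𝒴.p.obj y') ≫ g) (ε.hom ≫ χ') := inferInstance
    rw [Category.id_comp] at h2
    let χ₀ : x' ⟶ a := F.toFunctor.preimage (ε.hom ≫ χ')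
    have eχ₀ : F.map χ₀ = ε.hom ≫ χ' := F.toFunctor.map_preimage _
    have hχ₀ : 𝒳.p.IsHomLift g χ₀ := by
      have : 𝒴.p.IsHomLift g (F.map χ₀) := by rw [eχ₀]; exact h2
      exact F.isHomLift_map _ _
    have : χ₀ = χ := by
      apply hχu
      refine ⟨hχ₀, ?_⟩
      apply F.toFunctor.map_injective
      rw [Functor.map_comp, eχ₀, eφ', Category.assoc, k2]
    rw [← this, eχ₀, Iso.inv_hom_id_assoc]

include hF in
/-- a fully faithful functor over `C`, essentially surjective over identities, preserves cartesian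
morphisms -/
theorem map_isCartesian [F.toFunctor.Full] [F.toFunctor.Faithful] {R S : C} (f : R ⟶ S)
    {a b : 𝒳.obj} (φ : a ⟶ b) (h : 𝒳.p.IsCartesian f φ) :
    𝒴.p.IsCartesian f (F.map φ) := by
  have hφ : 𝒴.p.IsHomLift f (F.map φ) := inferInstance
  refine { toIsHomLift := hφ, universal_property := ?_ }
  intro y' ψ' hψ'
  obtain ⟨x', ε, hε⟩ := hF y'
  have eR : 𝒴.p.obj y' = R := IsHomLift.domain_eq 𝒴.p f ψ'
  have hε1 : 𝒴.p.IsHomLift (𝟙 R) ε.hom := isHomLift_id_of_eq eR _ hε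
  have hε' : 𝒴.p.IsHomLift (𝟙 R) ε.inv := IsHomLift.lift_id_inv _ _ _
  have h1 : 𝒴.p.IsHomLift (𝟙 R ≫ f) (ε.hom ≫ ψ') := inferInstance
  rw [Category.id_comp] at h1
  let φ' : x' ⟶ b := F.toFunctor.preimage (ε.hom ≫ ψ')
  have eφ' : F.map φ' = ε.hom ≫ ψ' := F.toFunctor.map_preimage _
  have hφ' : 𝒳.p.IsHomLift f φ' := by
    have : 𝒴.p.IsHomLift f (F.map φ') := by rw [eφ']; exact h1
    exact F.isHomLift_map _ _
  obtain ⟨χ, ⟨hχ1, hχ2⟩, hχu⟩ := h.universal_property φ'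
  have hFχ : 𝒴.p.IsHomLift (𝟙 R) (F.map χ) := inferInstance
  refine ⟨ε.inv ≫ F.map χ, ⟨?_, ?_⟩, ?_⟩
  · have : 𝒴.p.IsHomLift (𝟙 R ≫ 𝟙 R) (ε.inv ≫ F.map χ) := inferInstance
    rw [Category.id_comp] at this
    exact this
  · rw [Category.assoc, ← Functor.map_comp, hχ2, eφ', Iso.inv_hom_id_assoc]
  · rintro χ' ⟨k1, k2⟩
    have h2 : 𝒴.p.IsHomLift (𝟙 R ≫ 𝟙 R) (ε.hom ≫ χ') := inferInstance
    rw [Category.id_comp] at h2
    let χ₀ : x' ⟶ a := F.toFunctor.preimage (ε.hom ≫ χ')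
    have eχ₀ : F.map χ₀ = ε.hom ≫ χ' := F.toFunctor.map_preimage _
    have hχ₀ : 𝒳.p.IsHomLift (𝟙 R) χ₀ := by
      have : 𝒴.p.IsHomLift (𝟙 R) (F.map χ₀) := by rw [eχ₀]; exact h2
      exact F.isHomLift_map _ _
    have : χ₀ = χ := by
      apply hχu
      refine ⟨hχ₀, ?_⟩
      apply F.toFunctor.map_injective
      rw [Functor.map_comp, eχ₀, eφ', Category.assoc, k2]
    rw [← this, eχ₀, Iso.inv_hom_id_assoc]

end

section equiv

variable {C : Type u} [Category.{v} C] {𝒳 : BasedCategory.{v₂, u₂} C}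
  {𝒴 : BasedCategory.{v₃, u₃} C} {F : 𝒳 ⥤ᵇ 𝒴} (hF : IsEquivOver F)

include hF

theorem isCartesian_map_iff {R S : C} (f : R ⟶ S) {a b : 𝒳.obj} (φ : a ⟶ b) :
    𝒴.p.IsCartesian f (F.map φ) ↔ 𝒳.p.IsCartesian f φ := by
  have := full_of_isEquivOver hF
  have := faithful_of_isEquivOver hF
  exact ⟨isCartesian_of_map F f φ,
    map_isCartesian F (fun y => essSurjOver_of_isEquivOver hF y) f φ⟩

theorem isStronglyCartesian_map_iff {R S : C} (f : R ⟶ S) {a b : 𝒳.obj} (φ : a ⟶ b) :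
    𝒴.p.IsStronglyCartesian f (F.map φ) ↔ 𝒳.p.IsStronglyCartesian f φ := by
  have := full_of_isEquivOver hF
  have := faithful_of_isEquivOver hF
  exact ⟨isStronglyCartesian_of_map F f φ,
    map_isStronglyCartesian F (fun y => essSurjOver_of_isEquivOver hF y) f φ⟩

end equiv

end Groth.Agent.Lib.FibCat5_helper6
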