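import Groth.Agent.Lib.FibCat6_helper6
import Mathlib.CategoryTheory.Limits.Preserves.Shapes.Terminal

/-!
# Representability and terminal objects (helper6)

A category over `C` is representable iff it is fibred in groupoids and has a terminal object.
-/

set_option autoImplicit false

universe v₆ u₆ v₅ u₅ v₄ u₄ v₃ u₃ v₂ u₂ v u

open CategoryTheory CategoryTheory.Limits FibCat

namespace Groth.Agent.Lib.FibCat7_helper6

open Groth.Agent.Lib.FibCat_helper6 Groth.Agent.Lib.FibCat2_helper6 Groth.Agent.Lib.FibCat3_helper6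
  Groth.Agent.Lib.FibCat5_helper6 Groth.Agent.Lib.FibCat6_helper6

section

variable {C : Type u} [Category.{v} C] {𝒳 : BasedCategory.{v₂, u₂} C}

section toSlice

variable (ξ : 𝒳.obj) (hξ : IsTerminal ξ)

/-- the functor to the slice over the image of a terminal object -/
def toSliceFunctor : 𝒳.obj ⥤ Over (𝒳.p.obj ξ) where
  obj ρ := Over.mk (𝒳.p.map (hξ.from ρ))
  map {ρ ρ'} φ := Over.homMk (𝒳.p.map φ) (by
    show 𝒳.p.map φ ≫ 𝒳.p.map (hξ.from ρ') = 𝒳.p.map (hξ.from ρ)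
    rw [← Functor.map_comp]
    congr 1
    exact hξ.hom_ext _ _)
  map_id ρ := by ext; simp
  map_comp φ ψ := by ext; simp

/-- the functor over `C` to the slice over the image of a terminal object -/
def toSlice : 𝒳 ⥤ᵇ overCat (𝒳.p.obj ξ) where
  toFunctor := toSliceFunctor ξ hξ
  w := rfl

theorem toSlice_map_left {ρ ρ' : 𝒳.obj} (φ : ρ ⟶ ρ') :
    ((toSlice ξ hξ).map φ).left = 𝒳.p.map φ := rfl

variable (h : IsFibGrpd 𝒳.p)

include h in
theorem toSlice_faithful : (toSlice ξ hξ).toFunctor.Faithful where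
  map_injective {ρ ρ'} φ ψ e := by
    have e1 : 𝒳.p.map φ = 𝒳.p.map ψ := congrArg (fun k => k.left) e
    have hs := h.isStronglyCartesian (hξ.from ρ')
    have h1 : 𝒳.p.IsHomLift (𝒳.p.map φ) ψ := by rw [e1]; infer_instance
    exact Functor.IsStronglyCartesian.ext 𝒳.p (𝒳.p.map (hξ.from ρ')) (hξ.from ρ') (𝒳.p.map φ)
      (hξ.hom_ext _ _)

include h in
theorem toSlice_full : (toSlice ξ hξ).toFunctor.Full where
  map_surjective {ρ ρ'} m := by
    have hs := h.isStronglyCartesian (hξ.from ρ')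
    let g : 𝒳.p.obj ρ ⟶ 𝒳.p.obj ρ' := m.left
    have hw : g ≫ 𝒳.p.map (hξ.from ρ') = 𝒳.p.map (hξ.from ρ) := Over.w m
    have h1 : 𝒳.p.IsHomLift (g ≫ 𝒳.p.map (hξ.from ρ')) (hξ.from ρ) := by
      rw [hw]; infer_instance
    let χ : ρ ⟶ ρ' := Functor.IsStronglyCartesian.map 𝒳.p (𝒳.p.map (hξ.from ρ')) (hξ.from ρ')
      (g := g) rfl (hξ.from ρ)
    have hχ : 𝒳.p.IsHomLift g χ := by dsimp only [χ]; infer_instance
    refine ⟨χ, ?_⟩
    apply Over.OverMorphism.ext
    exact (IsHomLift.eq_of_isHomLift 𝒳.p g χ).symm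

include h in
theorem toSlice_essSurj (A : Over (𝒳.p.obj ξ)) :
    ∃ (ρ : 𝒳.obj) (ε : (toSlice ξ hξ).obj ρ ≅ A),
      (overCat (𝒳.p.obj ξ)).p.IsHomLift (𝟙 ((overCat (𝒳.p.obj ξ)).p.obj A)) ε.hom := by
  obtain ⟨ρ, φ, hφ⟩ := h.exists_lift (x := ξ) A.hom
  have e0 : 𝒳.p.obj ρ = A.left := IsHomLift.domain_eq 𝒳.p A.hom φ
  have e1 : φ = hξ.from ρ := hξ.hom_ext _ _
  have e2 : 𝒳.p.map (hξ.from ρ) = eqToHom e0 ≫ A.hom := by
    rw [← e1]
    have := IsHomLift.fac' 𝒳.p A.hom φ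
    simpa using this
  refine ⟨ρ, Over.isoMk (eqToIso e0) (by
    show eqToHom e0 ≫ A.hom = 𝒳.p.map (hξ.from ρ)
    exact e2.symm), ?_⟩
  apply IsHomLift.of_fac (overCat (𝒳.p.obj ξ)).p _ _
    (show (overCat (𝒳.p.obj ξ)).p.obj ((toSlice ξ hξ).obj ρ) = A.left from e0) rfl
  show 𝟙 A.left = eqToHom _ ≫ eqToHom e0 ≫ eqToHom _
  simp

include h in
theorem toSlice_isEquivOver : IsEquivOver (toSlice ξ hξ) := by
  have := toSlice_faithful ξ hξ h
  have := toSlice_full ξ hξ h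
  exact isEquivOver_of_fullyFaithful _ (toSlice_essSurj ξ hξ h)

end toSlice

/-- a category fibred in groupoids with a terminal object is representable -/
theorem isRepresentable_of_isTerminal {𝒳 : BasedCategory.{v, max u v} C} (h : IsFibGrpd 𝒳.p)
    (ξ : 𝒳.obj) (hξ : IsTerminal ξ) : IsRepresentable 𝒳 :=
  ⟨𝒳.p.obj ξ, toSlice ξ hξ, toSlice_isEquivOver ξ hξ h⟩

/-- a representable category over `C` is fibred in groupoids -/
theorem isFibGrpd_of_isRepresentable {𝒳 : BasedCategory.{v, max u v} C} (h : IsRepresentable 𝒳) :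
    IsFibGrpd 𝒳.p := by
  obtain ⟨U, F, hF⟩ := h
  exact (isFibGrpd_iff_of_isEquivOver hF).2 (isFibGrpd_over_forget U)

/-- a representable category over `C` has a terminal object -/
theorem exists_isTerminal_of_isRepresentable {𝒳 : BasedCategory.{v, max u v} C}
    (h : IsRepresentable 𝒳) : ∃ ξ : 𝒳.obj, Nonempty (IsTerminal ξ) := by
  obtain ⟨U, F, hF⟩ := h
  have := isEquivalence_of_isEquivOver hF
  let T : Over U := Over.mk (𝟙 U)
  have hT : IsTerminal T := Over.mkIdTerminal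
  refine ⟨F.toFunctor.objPreimage T, ⟨?_⟩⟩
  have h1 : IsTerminal (F.toFunctor.obj (F.toFunctor.objPreimage T)) :=
    hT.ofIso (F.toFunctor.objObjPreimageIso T).symm
  exact IsTerminal.isTerminalOfObj F.toFunctor _ h1

theorem isRepresentable_iff {𝒳 : BasedCategory.{v, max u v} C} :
    IsRepresentable 𝒳 ↔ IsFibGrpd 𝒳.p ∧ ∃ ξ : 𝒳.obj, Nonempty (IsTerminal ξ) := by
  constructor
  · intro h
    exact ⟨isFibGrpd_of_isRepresentable h, exists_isTerminal_of_isRepresentable h⟩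
  · rintro ⟨h, ξ, ⟨hξ⟩⟩
    exact isRepresentable_of_isTerminal h ξ hξ

end

end Groth.Agent.Lib.FibCat7_helper6
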