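import Groth.Agent.Lib.FibCat7_helper6

/-!
# Fibrewise criteria for faithfulness, fullness, equivalence (helper6)
-/

set_option autoImplicit false

universe v₆ u₆ v₅ u₅ v₄ u₄ v₃ u₃ v₂ u₂ v u

open CategoryTheory CategoryTheory.Limits FibCat

namespace Groth.Agent.Lib.FibCat8_helper6

open Groth.Agent.Lib.FibCat_helper6 Groth.Agent.Lib.FibCat2_helper6 Groth.Agent.Lib.FibCat3_helper6
  Groth.Agent.Lib.FibCat5_helper6 Groth.Agent.Lib.FibCat6_helper6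

section plain

variable {C : Type u} [Category.{v} C] {𝒳 : Type u₂} [Category.{v₂} 𝒳] (p : 𝒳 ⥤ C)

/-- being strongly cartesian over `f` or over the image is the same -/
theorem isStronglyCartesian_map_of {R S : C} (f : R ⟶ S) {a b : 𝒳} (φ : a ⟶ b)
    [h : p.IsStronglyCartesian f φ] : p.IsStronglyCartesian (p.map φ) φ := by
  subst_hom_lift p f φ
  exact h

theorem isStronglyCartesian_of_map {R S : C} (f : R ⟶ S) {a b : 𝒳} (φ : a ⟶ b)
    [p.IsHomLift f φ] (h : p.IsStronglyCartesian (p.map φ) φ) : p.IsStronglyCartesian f φ := by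
  subst_hom_lift p f φ
  exact h

end plain

section

variable {C : Type u} [Category.{v} C] {𝒳 : BasedCategory.{v₂, u₂} C}
  {𝒴 : BasedCategory.{v₃, u₃} C} (G : 𝒳 ⥤ᵇ 𝒴)

/-- `G` sends strongly cartesian morphisms to strongly cartesian morphisms (over their image) -/
def PresCart : Prop :=
  ∀ ⦃a b : 𝒳.obj⦄ (φ : a ⟶ b), 𝒳.p.IsStronglyCartesian (𝒳.p.map φ) φ →
    𝒴.p.IsStronglyCartesian (𝒳.p.map φ) (G.toFunctor.map φ)

/-- fibrewise faithfulness -/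
def FibFaithful : Prop :=
  ∀ (U : C) ⦃a b : 𝒳.obj⦄ (φ ψ : a ⟶ b), 𝒳.p.IsHomLift (𝟙 U) φ → 𝒳.p.IsHomLift (𝟙 U) ψ →
    G.map φ = G.map ψ → φ = ψ

/-- fibrewise fullness -/
def FibFull : Prop :=
  ∀ (U : C) ⦃a b : 𝒳.obj⦄ (_ : 𝒳.p.obj a = U) (_ : 𝒳.p.obj b = U) (m : G.obj a ⟶ G.obj b),
    𝒴.p.IsHomLift (𝟙 U) m → ∃ φ : a ⟶ b, 𝒳.p.IsHomLift (𝟙 U) φ ∧ G.map φ = m

variable {G}

theorem PresCart.map {R S : C} (hG : PresCart G) (f : R ⟶ S) {a b : 𝒳.obj} (φ : a ⟶ b)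
    (h : 𝒳.p.IsStronglyCartesian f φ) : 𝒴.p.IsStronglyCartesian f (G.map φ) := by
  have h1 : 𝒳.p.IsStronglyCartesian (𝒳.p.map φ) φ := isStronglyCartesian_map_of 𝒳.p f φ
  have h2 := hG φ h1
  have h3 : 𝒴.p.IsHomLift f (G.map φ) := inferInstance
  subst_hom_lift 𝒳.p f φ
  exact h2

theorem faithful_of_fibFaithful [𝒳.p.IsFibered] (hG : PresCart G) (h : FibFaithful G) :
    G.toFunctor.Faithful where
  map_injective {a b} φ ψ e := by
    let f := 𝒳.p.map φ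
    have hψ : 𝒳.p.IsHomLift f ψ := by
      have : 𝒴.p.IsHomLift f (G.map φ) := inferInstance
      have : 𝒴.p.IsHomLift f (G.map ψ) := by
        have e' : G.map φ = G.map ψ := e
        rw [← e']; exact this
      exact G.isHomLift_map f ψ
    obtain ⟨a', κ, hκ⟩ := Functor.IsPreFibered.exists_isCartesian' (p := 𝒳.p) (a := b) f
    have hκ' : 𝒳.p.IsStronglyCartesian f κ := inferInstance
    have hGκ : 𝒴.p.IsStronglyCartesian f (G.map κ) := hG.map f κ hκ'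
    let χ₁ : a ⟶ a' := Functor.IsCartesian.map 𝒳.p f κ φ
    let χ₂ : a ⟶ a' := Functor.IsCartesian.map 𝒳.p f κ ψ
    have h1 : 𝒳.p.IsHomLift (𝟙 (𝒳.p.obj a)) χ₁ := by dsimp only [χ₁]; infer_instance
    have h2 : 𝒳.p.IsHomLift (𝟙 (𝒳.p.obj a)) χ₂ := by dsimp only [χ₂]; infer_instance
    have e1 : χ₁ ≫ κ = φ := Functor.IsCartesian.fac 𝒳.p f κ φ
    have e2 : χ₂ ≫ κ = ψ := Functor.IsCartesian.fac 𝒳.p f κ ψ
    have h3 : 𝒴.p.IsHomLift (𝟙 (𝒳.p.obj a)) (G.map χ₁) := inferInstance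
    have h4 : 𝒴.p.IsHomLift (𝟙 (𝒳.p.obj a)) (G.map χ₂) := inferInstance
    have e3 : G.map χ₁ = G.map χ₂ := by
      apply Functor.IsCartesian.ext 𝒴.p f (G.map κ)
      rw [← Functor.map_comp, ← Functor.map_comp, e1, e2]
      exact e
    have e4 : χ₁ = χ₂ := h _ χ₁ χ₂ h1 h2 e3
    rw [← e1, ← e2, e4]

theorem full_of_fibFull [𝒳.p.IsFibered] (hG : PresCart G) (h : FibFull G) :
    G.toFunctor.Full where
  map_surjective {a b} m := by
    have ha : 𝒴.p.obj (G.obj a) = 𝒳.p.obj a := G.w_obj a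
    have hb : 𝒴.p.obj (G.obj b) = 𝒳.p.obj b := G.w_obj b
    let g : 𝒳.p.obj a ⟶ 𝒳.p.obj b := eqToHom ha.symm ≫ 𝒴.p.map m ≫ eqToHom hb
    have hm : 𝒴.p.IsHomLift g m := IsHomLift.of_fac _ _ _ ha hb rfl
    obtain ⟨a', κ, hκ⟩ := Functor.IsPreFibered.exists_isCartesian' (p := 𝒳.p) (a := b) g
    have hκ' : 𝒳.p.IsStronglyCartesian g κ := inferInstance
    have hGκ : 𝒴.p.IsStronglyCartesian g (G.map κ) := hG.map g κ hκ'
    let χ' : G.obj a ⟶ G.obj a' := Functor.IsCartesian.map 𝒴.p g (G.map κ) m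
    have hχ' : 𝒴.p.IsHomLift (𝟙 (𝒳.p.obj a)) χ' := by dsimp only [χ']; infer_instance
    have eχ' : χ' ≫ G.map κ = m := Functor.IsCartesian.fac 𝒴.p g (G.map κ) m
    have ha' : 𝒳.p.obj a' = 𝒳.p.obj a := IsHomLift.domain_eq 𝒳.p g κ
    obtain ⟨χ, hχ, eχ⟩ := h (𝒳.p.obj a) rfl ha' χ' hχ'
    refine ⟨χ ≫ κ, ?_⟩
    rw [Functor.map_comp]
    exact (congrArg (· ≫ G.map κ) eχ).trans eχ'

end

section grpd

variable {C : Type u} [Category.{v} C] {𝒳 : BasedCategory.{v₂, u₂} C}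
  {𝒴 : BasedCategory.{v₃, u₃} C} (G : 𝒳 ⥤ᵇ 𝒴)

theorem presCart_of_isFibGrpd (h𝒴 : IsFibGrpd 𝒴.p) : PresCart G := by
  intro a b φ _
  exact isStronglyCartesian_of_isFibGrpd h𝒴 _ _

theorem fibFaithful_of_fiberFunctor (h : ∀ U : C, (fiberFunctor G U).Faithful) : FibFaithful G := by
  intro U a b φ ψ hφ hψ e
  have ha : 𝒳.p.obj a = U := IsHomLift.domain_eq 𝒳.p (𝟙 U) φ
  have hb : 𝒳.p.obj b = U := IsHomLift.codomain_eq 𝒳.p (𝟙 U) φ
  let A : 𝒳.p.Fiber U := Functor.Fiber.mk ha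
  let B : 𝒳.p.Fiber U := Functor.Fiber.mk hb
  let φ' : A ⟶ B := ⟨φ, hφ⟩
  let ψ' : A ⟶ B := ⟨ψ, hψ⟩
  have : (fiberFunctor G U).map φ' = (fiberFunctor G U).map ψ' := Subtype.ext e
  have := (h U).map_injective this
  exact congrArg Subtype.val this

theorem fibFull_of_fiberFunctor (h : ∀ U : C, (fiberFunctor G U).Full) : FibFull G := by
  intro U a b ha hb m hm
  let A : 𝒳.p.Fiber U := Functor.Fiber.mk ha
  let B : 𝒳.p.Fiber U := Functor.Fiber.mk hb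
  let m' : (fiberFunctor G U).obj A ⟶ (fiberFunctor G U).obj B := ⟨m, hm⟩
  obtain ⟨φ', hφ'⟩ := (h U).map_surjective m'
  exact ⟨φ'.1, φ'.2, congrArg Subtype.val hφ'⟩

theorem fiberFunctor_faithful [G.toFunctor.Faithful] (U : C) : (fiberFunctor G U).Faithful where
  map_injective {a b} φ ψ e := by
    apply Subtype.ext
    apply G.toFunctor.map_injective
    exact congrArg Subtype.val e

theorem fiberFunctor_full [G.toFunctor.Full] (U : C) : (fiberFunctor G U).Full where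
  map_surjective {a b} m := by
    have hm : 𝒴.p.IsHomLift (𝟙 U) m.1 := m.2
    obtain ⟨φ, hφ⟩ := G.toFunctor.map_surjective (X := a.1) (Y := b.1) m.1
    have h1 : 𝒴.p.IsHomLift (𝟙 U) (G.map φ) := by
      have hφ' : G.map φ = m.1 := hφ
      rw [hφ']; exact hm
    have h2 : 𝒳.p.IsHomLift (𝟙 U) φ := G.isHomLift_map _ _
    exact ⟨⟨φ, h2⟩, Subtype.ext hφ⟩

end grpd

end Groth.Agent.Lib.FibCat8_helper6
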