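import Groth.Agent.Lib.FibCatRep1_lead
import Groth.Prelude.Def_AlgSt
import Mathlib.CategoryTheory.Limits.Types.Pullbacks
import Mathlib.CategoryTheory.Limits.Shapes.Pullback.IsPullback.Basic

/-!
# Calculus of the categories over `C` attached to presheaves (lead)

Functors over `C` between `Stk.ofPsh P` and `Stk.ofPsh Q` are maps of presheaves; equivalences give
isomorphisms of presheaves; pullback squares of presheaves give 2-fibre products.
-/

set_option autoImplicit false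

universe w v₆ u₆ v₅ u₅ v₄ u₄ v₃ u₃ v₂ u₂ v u

open CategoryTheory CategoryTheory.Limits Opposite FibCat Stk

namespace Groth.Agent.Lib.OfPshCalc

open Groth.Agent.Lib.FibCat_helper6 Groth.Agent.Lib.FibCat3_helper6
  Groth.Agent.Lib.FibCat14_helper6 Groth.Agent.Lib.LiftSqBC Groth.Agent.Lib.FibCatPaste
  Groth.Agent.Lib.FibCatSwap Groth.Agent.Lib.FibCatIsoFun

variable {C : Type u} [Category.{v} C]

section basic

variable (Q : Cᵒᵖ ⥤ Type w)

theorem map_comp_op_apply {X Y Z : C} (f : X ⟶ Y) (g : Y ⟶ Z) (s : Q.obj (op Z)) :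
    Q.map (f ≫ g).op s = Q.map f.op (Q.map g.op s) := by
  rw [op_comp, Functor.map_comp_apply]

theorem map_id_op_apply (X : C) (s : Q.obj (op X)) : Q.map (𝟙 X).op s = s := by
  rw [op_id, Functor.map_id_apply]

variable {Q}

/-- An isomorphism of `ofPsh Q` from an isomorphism of the bases compatible with the sections. -/
def eltIsoMk {a b : EltObj Q} (t : a.base ≅ b.base) (h : Q.map t.hom.op b.sec = a.sec) : a ≅ b where
  hom := ⟨t.hom, h⟩
  inv := ⟨t.inv, by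
    rw [← h, ← map_comp_op_apply, t.inv_hom_id]
    exact map_id_op_apply Q _ _⟩
  hom_inv_id := EltObj.hom_ext t.hom_inv_id
  inv_hom_id := EltObj.hom_ext t.inv_hom_id

theorem eltIsoMk_hom_hom {a b : EltObj Q} (t : a.base ≅ b.base) (h) :
    (eltIsoMk (Q := Q) t h).hom.hom = t.hom := rfl

/-- Two objects with the same base and equal sections. -/
def idIso (T : C) {r r' : Q.obj (op T)} (h : r = r') : (⟨T, r⟩ : EltObj Q) ≅ ⟨T, r'⟩ :=
  eltIsoMk (a := ⟨T, r⟩) (b := ⟨T, r'⟩) (Iso.refl T) (by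
    subst h
    exact map_id_op_apply Q _ _)

theorem idIso_hom_hom (T : C) {r r' : Q.obj (op T)} (h : r = r') :
    (idIso (Q := Q) T h).hom.hom = 𝟙 T := rfl

theorem isHomLift_of_hom_eq {a b : EltObj Q} (m : a ⟶ b) {T : C} (ha : a.base = T)
    (hb : b.base = T) (h : m.hom = eqToHom (ha.trans hb.symm)) :
    (ofPsh Q).p.IsHomLift (𝟙 T) m := by
  obtain ⟨A, r⟩ := a
  obtain ⟨B, r'⟩ := b
  dsimp only at ha hb
  subst ha
  subst hb
  have e : (EltObj.forget Q).map m = 𝟙 _ := by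
    rw [EltObj.forget_map, h, eqToHom_refl]
    rfl
  have h0 : (EltObj.forget Q).IsHomLift ((EltObj.forget Q).map m) m := IsHomLift.map _ m
  rw [e] at h0
  exact h0

end basic

section mapOf

variable {P : Cᵒᵖ ⥤ Type w} {Q : Cᵒᵖ ⥤ Type w} (Ψ : ofPsh P ⥤ᵇ ofPsh Q)

theorem base_eq (a : EltObj P) : (Ψ.toFunctor.obj a).base = a.base := Ψ.w_obj a

theorem hom_eq {a' a : EltObj P} (m : a' ⟶ a) :
    (Ψ.toFunctor.map m).hom =
      eqToHom (base_eq Ψ a') ≫ m.hom ≫ eqToHom (base_eq Ψ a).symm := by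
  have h0 : (ofPsh P).p.IsHomLift ((ofPsh P).p.map m) m := IsHomLift.map _ m
  have h1 : (ofPsh Q).p.IsHomLift ((ofPsh P).p.map m) (Ψ.toFunctor.map m) :=
    BasedFunctor.preserves_isHomLift Ψ _ m
  exact IsHomLift.fac' (ofPsh Q).p ((ofPsh P).p.map m) (Ψ.toFunctor.map m)

/-- The section of `Q` over the base of `a` determined by `Ψ a`. -/
def secOf (a : EltObj P) : Q.obj (op a.base) :=
  Q.map (eqToHom (base_eq Ψ a).symm).op (Ψ.toFunctor.obj a).sec

theorem secOf_map {a' a : EltObj P} (m : a' ⟶ a) : Q.map m.hom.op (secOf Ψ a) = secOf Ψ a' := by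
  have h1 : eqToHom (base_eq Ψ a').symm ≫ (Ψ.toFunctor.map m).hom =
      m.hom ≫ eqToHom (base_eq Ψ a).symm := by
    rw [hom_eq]; simp
  calc Q.map m.hom.op (secOf Ψ a)
      = Q.map (m.hom ≫ eqToHom (base_eq Ψ a).symm).op (Ψ.toFunctor.obj a).sec :=
        (map_comp_op_apply Q _ _ _).symm
    _ = Q.map (eqToHom (base_eq Ψ a').symm ≫ (Ψ.toFunctor.map m).hom).op
          (Ψ.toFunctor.obj a).sec := by rw [h1]
    _ = Q.map (eqToHom (base_eq Ψ a').symm).op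
          (Q.map (Ψ.toFunctor.map m).hom.op (Ψ.toFunctor.obj a).sec) :=
        map_comp_op_apply Q _ _ _
    _ = secOf Ψ a' := by rw [(Ψ.toFunctor.map m).map_sec]; rfl

/-- The map of presheaves determined by a functor over `C` between the attached categories. -/
def mapOf : P ⟶ Q where
  app T := ↾fun x => secOf Ψ ⟨T.unop, x⟩
  naturality T T' g := by
    ext x
    exact (secOf_map Ψ (⟨g.unop, rfl⟩ :
      (⟨T'.unop, P.map g x⟩ : EltObj P) ⟶ ⟨T.unop, x⟩)).symm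

theorem mapOf_app (a : EltObj P) : (mapOf Ψ).app (op a.base) a.sec = secOf Ψ a := rfl

/-- The component of the comparison isomorphism `Ψ ≅ ofPshMap (mapOf Ψ)`. -/
def compIso (a : EltObj P) : Ψ.toFunctor.obj a ≅ (ofPshMap (mapOf Ψ)).toFunctor.obj a :=
  eltIsoMk (a := Ψ.toFunctor.obj a) (b := (ofPshMap (mapOf Ψ)).toFunctor.obj a)
    (eqToIso (base_eq Ψ a)) (by
      show Q.map (eqToHom (base_eq Ψ a)).op
        (Q.map (eqToHom (base_eq Ψ a).symm).op (Ψ.toFunctor.obj a).sec) = _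
      rw [← map_comp_op_apply, eqToHom_trans, eqToHom_refl]
      exact map_id_op_apply Q _ _)

theorem compIso_hom_hom (a : EltObj P) : (compIso Ψ a).hom.hom = eqToHom (base_eq Ψ a) := rfl

/-- Every functor over `C` between categories attached to presheaves comes from a map of
presheaves. -/
def isoOf : Ψ ≅ ofPshMap (mapOf Ψ) :=
  BasedNatIso.mkNatIso
    (NatIso.ofComponents (fun a => compIso Ψ a) (fun {a' a} m => by
      apply EltObj.hom_ext
      show (Ψ.toFunctor.map m).hom ≫ eqToHom (base_eq Ψ a) = eqToHom (base_eq Ψ a') ≫ m.hom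
      rw [hom_eq]; simp))
    (fun a => isHomLift_of_hom_eq (compIso Ψ a).hom (base_eq Ψ a) rfl rfl)

theorem mapOf_ofPshMap (m : P ⟶ Q) : mapOf (ofPshMap m) = m := by
  ext T x
  show Q.map (eqToHom _).op (m.app _ x) = m.app T x
  rw [eqToHom_refl]
  exact map_id_op_apply Q _ _

variable {Ψ}

theorem secOf_congr {Ψ' : ofPsh P ⥤ᵇ ofPsh Q} (α : Ψ ≅ Ψ') (a : EltObj P) :
    secOf Ψ a = secOf Ψ' a := by
  have hn : (ofPsh Q).p.IsHomLift (𝟙 ((ofPsh P).p.obj a)) (α.hom.toNatTrans.app a) :=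
    α.hom.isHomLift' a
  have h1 : (α.hom.toNatTrans.app a).hom =
      eqToHom (base_eq Ψ a) ≫ 𝟙 _ ≫ eqToHom (base_eq Ψ' a).symm :=
    IsHomLift.fac' (ofPsh Q).p (𝟙 ((ofPsh P).p.obj a)) (α.hom.toNatTrans.app a)
  have h2 : eqToHom (base_eq Ψ a).symm ≫ (α.hom.toNatTrans.app a).hom =
      eqToHom (base_eq Ψ' a).symm := by
    rw [h1]; simp
  unfold secOf
  rw [← (α.hom.toNatTrans.app a).map_sec, ← map_comp_op_apply, h2]

theorem mapOf_congr {Ψ' : ofPsh P ⥤ᵇ ofPsh Q} (α : Ψ ≅ Ψ') : mapOf Ψ = mapOf Ψ' := by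
  ext T x
  exact secOf_congr α ⟨T.unop, x⟩

theorem mapOf_id : mapOf (BasedFunctor.id (ofPsh P)) = 𝟙 P := by
  ext T x
  have h : secOf (BasedFunctor.id (ofPsh P)) ⟨T.unop, x⟩ = x := map_id_op_apply P T.unop x
  exact h

end mapOf

section comp

variable {P : Cᵒᵖ ⥤ Type w} {Q : Cᵒᵖ ⥤ Type w} {R : Cᵒᵖ ⥤ Type w}

theorem mapOf_comp (Ψ₁ : ofPsh P ⥤ᵇ ofPsh Q) (Ψ₂ : ofPsh Q ⥤ᵇ ofPsh R) :
    mapOf (BasedFunctor.comp Ψ₁ Ψ₂) = mapOf Ψ₁ ≫ mapOf Ψ₂ := by
  have ι : BasedFunctor.comp Ψ₁ Ψ₂ ≅ ofPshMap (mapOf Ψ₁ ≫ mapOf Ψ₂) :=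
    (Groth.Agent.Lib.LiftSqComp.whiskerRightIso (isoOf Ψ₁) Ψ₂) ≪≫
      (whiskerLeftIso (ofPshMap (mapOf Ψ₁)) (isoOf Ψ₂)) ≪≫
      (Iso.refl _ : BasedFunctor.comp (ofPshMap (mapOf Ψ₁)) (ofPshMap (mapOf Ψ₂)) ≅
        ofPshMap (mapOf Ψ₁ ≫ mapOf Ψ₂))
  rw [mapOf_congr ι, mapOf_ofPshMap]

/-- An equivalence over `C` between the categories attached to two presheaves gives an
isomorphism of presheaves. -/
def isoOfEquiv (E : ofPsh P ⥤ᵇ ofPsh Q) (E' : ofPsh Q ⥤ᵇ ofPsh P)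
    (η : BasedFunctor.comp E E' ≅ BasedFunctor.id (ofPsh P))
    (ε : BasedFunctor.comp E' E ≅ BasedFunctor.id (ofPsh Q)) : P ≅ Q where
  hom := mapOf E
  inv := mapOf E'
  hom_inv_id := by rw [← mapOf_comp, mapOf_congr η, mapOf_id]
  inv_hom_id := by rw [← mapOf_comp, mapOf_congr ε, mapOf_id]

theorem nonempty_iso_of_isEquivOver (E : ofPsh P ⥤ᵇ ofPsh Q) (hE : IsEquivOver E) :
    Nonempty (P ≅ Q) := by
  obtain ⟨E', ⟨η⟩, ⟨ε⟩⟩ := hE
  exact ⟨isoOfEquiv E E' η ε⟩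

end comp

section pb

variable {P Q R F' : Cᵒᵖ ⥤ Type w} {a : P ⟶ R} {b : Q ⟶ R} {fst : F' ⟶ P} {snd : F' ⟶ Q}
  (sq : IsPullback fst snd a b)

include sq in
theorem sq_apply (T : C) (s : F'.obj (op T)) :
    a.app (op T) (fst.app (op T) s) = b.app (op T) (snd.app (op T) s) :=
  ConcreteCategory.congr_hom (NatTrans.congr_app sq.w (op T)) s

/-- The 2-isomorphism filling the square of categories attached to a pullback square. -/
def pbIso : BasedFunctor.comp (ofPshMap fst) (ofPshMap a) ≅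
    BasedFunctor.comp (ofPshMap snd) (ofPshMap b) :=
  BasedNatIso.mkNatIso
    (NatIso.ofComponents (fun s => idIso (Q := R) s.base (sq_apply sq s.base s.sec))
      (fun {s s'} m => by
        apply EltObj.hom_ext
        show m.hom ≫ 𝟙 _ = 𝟙 _ ≫ m.hom
        rw [Category.comp_id, Category.id_comp]))
    (fun s => isHomLift_of_hom_eq _ rfl rfl (eqToHom_refl _ _).symm)

/-- The comparison functor from the category of the pullback presheaf to the 2-fibre product. -/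
def pbFun : ofPsh F' ⥤ᵇ fp (ofPshMap a) (ofPshMap b) :=
  fpLift (ofPshMap fst) (ofPshMap snd) (pbIso sq)

instance pbFun_faithful : (pbFun sq).toFunctor.Faithful where
  map_injective := by
    intro s s' m m' h
    apply EltObj.hom_ext
    exact congrArg (fun n => n.hom.fst.hom) h

instance pbFun_full : (pbFun sq).toFunctor.Full where
  map_surjective := by
    intro s s' n
    have h1 : P.map n.hom.fst.hom.op (fst.app _ s'.sec) = fst.app _ s.sec := n.hom.fst.map_sec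
    have h2 : Q.map n.hom.snd.hom.op (snd.app _ s'.sec) = snd.app _ s.sec := n.hom.snd.map_sec
    have hl : (ofPsh Q).p.IsHomLift ((fp (ofPshMap a) (ofPshMap b)).p.map n) n.hom.snd :=
      fp_isHomLift_snd _ _ n
    have h3 : n.hom.fst.hom = n.hom.snd.hom :=
      @IsHomLift.eq_of_isHomLift _ _ _ _ (EltObj.forget Q) ((pbFun sq).obj s).obj.snd
        ((pbFun sq).obj s').obj.snd n.hom.fst.hom n.hom.snd hl
    have key : ∀ (t : s.base ⟶ s'.base),
        P.map t.op (fst.app (op s'.base) s'.sec) = fst.app (op s.base) s.sec →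
        Q.map t.op (snd.app (op s'.base) s'.sec) = snd.app (op s.base) s.sec →
        F'.map t.op s'.sec = s.sec := by
      intro t e1 e2
      apply Types.ext_of_isPullback (sq.app (op s.base))
      · rw [NatTrans.naturality_apply]; exact e1
      · rw [NatTrans.naturality_apply]; exact e2
    have hs : F'.map n.hom.fst.hom.op s'.sec = s.sec :=
      key n.hom.fst.hom h1 (by rw [h3]; exact h2)
    refine ⟨⟨n.hom.fst.hom, hs⟩, ?_⟩
    apply fp_hom_ext
    · exact EltObj.hom_ext rfl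
    · exact EltObj.hom_ext h3

theorem pbFun_essSurj (w : (fp (ofPshMap a) (ofPshMap b)).obj) :
    ∃ (s : (ofPsh F').obj) (φ : (pbFun sq).obj s ≅ w),
      (fp (ofPshMap a) (ofPshMap b)).p.IsHomLift
        (𝟙 ((fp (ofPshMap a) (ofPshMap b)).p.obj w)) φ.hom := by
  let tI : w.obj.fst.base ≅ w.obj.snd.base :=
    ⟨w.obj.iso.hom.hom, w.obj.iso.inv.hom, congrArg EltObj.Hom.hom w.obj.iso.hom_inv_id,
      congrArg EltObj.Hom.hom w.obj.iso.inv_hom_id⟩
  let q' : Q.obj (op w.obj.fst.base) := Q.map tI.hom.op w.obj.snd.sec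
  have hq : a.app _ w.obj.fst.sec = b.app _ q' := by
    have h0 : R.map tI.hom.op (b.app _ w.obj.snd.sec) = a.app _ w.obj.fst.sec :=
      w.obj.iso.hom.map_sec
    rw [← h0]
    exact (NatTrans.naturality_apply b tI.hom.op w.obj.snd.sec).symm
  obtain ⟨s, hs1, hs2⟩ := Types.exists_of_isPullback (sq.app (op w.obj.fst.base))
    w.obj.fst.sec q' hq
  let i1 : (⟨w.obj.fst.base, fst.app _ s⟩ : EltObj P) ≅ w.obj.fst :=
    idIso (Q := P) w.obj.fst.base hs1
  let i2 : (⟨w.obj.fst.base, snd.app _ s⟩ : EltObj Q) ≅ w.obj.snd :=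
    eltIsoMk (a := ⟨w.obj.fst.base, snd.app _ s⟩) (b := w.obj.snd) tI hs2.symm
  refine ⟨⟨w.obj.fst.base, s⟩, fpIsoMk (F := ofPshMap a) (G := ofPshMap b)
    (X := (pbFun sq).obj ⟨w.obj.fst.base, s⟩) (Y := w) i1 i2 ?_, ?_⟩
  · apply EltObj.hom_ext
    show 𝟙 _ ≫ tI.hom = 𝟙 _ ≫ tI.hom
    rfl
  · exact fpIsoMk_isHomLift _ _ _
      (isHomLift_of_hom_eq i1.hom rfl rfl (eqToHom_refl _ _).symm)

theorem pbFun_isEquivOver : IsEquivOver (pbFun sq) :=
  isEquivOver_of_fullyFaithful (pbFun sq) (pbFun_essSurj sq)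

end pb

section first

variable {𝒰 : BasedCategory.{v₂, u₂} C} {𝒵 : BasedCategory.{v₃, u₃} C}
  {ℰ : BasedCategory.{v₄, u₄} C} {𝒲 : BasedCategory.{v₅, u₅} C}

/-- Change of the first factor along a 2-isomorphism. -/
def isoFun₁ {z z' : 𝒰 ⥤ᵇ 𝒵} (ι : z ≅ z') (π : ℰ ⥤ᵇ 𝒵) : fp z π ⥤ᵇ fp z' π :=
  BasedFunctor.comp (swap z π) (BasedFunctor.comp (isoFun π ι) (swap π z'))

theorem isoFun₁_isEquivOver {z z' : 𝒰 ⥤ᵇ 𝒵} (ι : z ≅ z') (π : ℰ ⥤ᵇ 𝒵) :
    IsEquivOver (isoFun₁ ι π) :=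
  isEquivOver_comp (swap_isEquivOver z π)
    (isEquivOver_comp (isoFun_isEquivOver π ι) (swap_isEquivOver π z'))

/-- Precomposition of the first factor with a functor. -/
def precomp₁ (L : 𝒲 ⥤ᵇ 𝒰) (z : 𝒰 ⥤ᵇ 𝒵) (π : ℰ ⥤ᵇ 𝒵) :
    fp (BasedFunctor.comp L z) π ⥤ᵇ fp z π :=
  BasedFunctor.comp (swap (BasedFunctor.comp L z) π)
    (BasedFunctor.comp (precomp π z L) (swap π z))

theorem precomp₁_isEquivOver (L : 𝒲 ⥤ᵇ 𝒰) (hL : IsEquivOver L) (z : 𝒰 ⥤ᵇ 𝒵) (π : ℰ ⥤ᵇ 𝒵) :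
    IsEquivOver (precomp₁ L z π) :=
  isEquivOver_comp (swap_isEquivOver _ π)
    (isEquivOver_comp (precomp_isEquivOver π z L hL) (swap_isEquivOver π z))

end first

end Groth.Agent.Lib.OfPshCalc
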