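import Groth.Agent.Lib.FibCatDiagBC_lead
import Groth.Agent.Lib.OfPshCalc_lead

/-!
# The base change of a diagonal along a pair of sections (lead)

For `h : 𝒳 ⟶ 𝒴` and `t : 𝒰 ⟶ 𝒳 ×_𝒴 𝒳`, the 2-fibre product `𝒰 ×_{𝒳 ×_𝒴 𝒳} 𝒳` is equivalent to the
2-fibre product of `𝒰` with the diagonal of a base change `𝒯' ×_𝒴 𝒳 ⟶ 𝒯'` of `h`, along the pair
of sections defined by `t`.
-/

set_option autoImplicit false

universe v₆ u₆ v₅ u₅ v₄ u₄ v₃ u₃ v₂ u₂ v u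

open CategoryTheory CategoryTheory.Limits FibCat

namespace Groth.Agent.Lib.FibCatDiagSec

open Groth.Agent.Lib.FibCat_helper6 Groth.Agent.Lib.FibCat3_helper6
  Groth.Agent.Lib.FibCat14_helper6 Groth.Agent.Lib.LiftSqBC Groth.Agent.Lib.LiftSqComp
  Groth.Agent.Lib.FibCatPaste Groth.Agent.Lib.FibCatDiagBC Groth.Agent.Lib.OfPshCalc
  Groth.Agent.Lib.FibCatSwap Groth.Agent.Lib.FibCatIsoFun

variable {C : Type u} [Category.{v} C]

theorem iota_aux {E : Type*} [Category E] {G0 H1 H2 : E} (ai : H1 ⟶ G0) (ah : G0 ⟶ H1)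
    (hα : ai ≫ ah = 𝟙 H1) (τ : H1 ⟶ H2) (i1 : H1 ⟶ H1) (hi1 : i1 = 𝟙 _) (i0 : G0 ⟶ G0)
    (hi0 : i0 = 𝟙 _) (i2 : H2 ⟶ H2) (hi2 : i2 = 𝟙 _) :
    i1 ≫ τ = (ai ≫ i0 ≫ (ah ≫ τ)) ≫ i2 := by
  subst hi1 hi0 hi2
  rw [Category.id_comp, Category.id_comp, Category.comp_id, ← Category.assoc, hα,
    Category.id_comp]

section secA

variable {𝒳 : BasedCategory.{v₂, u₂} C} {𝒴 : BasedCategory.{v₃, u₃} C}
  {𝒰 : BasedCategory.{v₄, u₄} C} {𝒯' : BasedCategory.{v₅, u₅} C}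
  (h : 𝒳 ⥤ᵇ 𝒴) (t : 𝒰 ⥤ᵇ fp h h) (g : 𝒯' ⥤ᵇ 𝒴) (r : 𝒰 ⥤ᵇ 𝒯')
  (α : BasedFunctor.comp r g ≅ BasedFunctor.comp (BasedFunctor.comp t (fpFst h h)) h)

/-- The 2-isomorphism `h t₁ ≅ h t₂` carried by `t`. -/
def tau : BasedFunctor.comp (BasedFunctor.comp t (fpFst h h)) h ≅
    BasedFunctor.comp (BasedFunctor.comp t (fpSnd h h)) h :=
  whiskerLeftIso t (fpIso h h)

/-- The first section. -/
def sec₁ : 𝒰 ⥤ᵇ fp g h := fpLift r (BasedFunctor.comp t (fpFst h h)) α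

/-- The second section. -/
def sec₂ : 𝒰 ⥤ᵇ fp g h := fpLift r (BasedFunctor.comp t (fpSnd h h)) (α ≪≫ tau h t)

/-- The pair of sections. -/
def sig : 𝒰 ⥤ᵇ fp (fpFst g h) (fpFst g h) :=
  fpLift (sec₁ h t g r α) (sec₂ h t g r α)
    (Iso.refl _ : BasedFunctor.comp (sec₁ h t g r α) (fpFst g h) ≅
      BasedFunctor.comp (sec₂ h t g r α) (fpFst g h))

/-- `t` factors through the pair of sections. -/
def iotaIso : BasedFunctor.comp (sig h t g r α) (Phi h g) ≅ t :=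
  isoMk2 h h (H := BasedFunctor.comp (sig h t g r α) (Phi h g)) (K := t)
    (Iso.refl _) (Iso.refl _) (fun u => by
      have hα : α.inv.toNatTrans.app u ≫ α.hom.toNatTrans.app u = 𝟙 _ :=
        app_congr α.inv_hom_id u
      exact iota_aux (α.inv.toNatTrans.app u) (α.hom.toNatTrans.app u) hα
        (t.toFunctor.obj u).obj.iso.hom _ (h.toFunctor.map_id _) _ (g.toFunctor.map_id _) _
        (h.toFunctor.map_id _))

theorem exists_equiv_diag :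
    ∃ Ξ : fp (sig h t g r α) (diag (fpFst g h)) ⥤ᵇ fp t (diag h),
      IsEquivOver Ξ ∧ Nonempty (BasedFunctor.comp Ξ (fpFst t (diag h)) ≅
        fpFst (sig h t g r α) (diag (fpFst g h))) := by
  have h12 : IsEquivOver (BasedFunctor.comp (isoFun₁ (iotaIso h t g r α).symm (diag h))
      (paste (sig h t g r α) (Phi h g) (diag h))) :=
    isEquivOver_comp (isoFun₁_isEquivOver _ _) (paste_isEquivOver _ _ _)
  let E₃ : fp (sig h t g r α) (diag (fpFst g h)) ⥤ᵇ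
      fp (sig h t g r α) (fpFst (Phi h g) (diag h)) :=
    precomp (sig h t g r α) (fpFst (Phi h g) (diag h)) (diagBC h g)
  have h3 : IsEquivOver E₃ :=
    precomp_isEquivOver (sig h t g r α) (fpFst (Phi h g) (diag h)) (diagBC h g)
      (diagBC_isEquivOver h g)
  obtain ⟨E', ⟨η⟩, ⟨ε⟩⟩ := h12
  refine ⟨BasedFunctor.comp E₃ E', isEquivOver_comp h3 (isEquivOver_inverse η ε), ⟨?_⟩⟩
  exact whiskerLeftIso E₃
    (whiskerRightIso ε (fpFst (sig h t g r α) (fpFst (Phi h g) (diag h))))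

end secA

section secC

variable {𝒲 : BasedCategory.{v₂, u₂} C} {ℰ : BasedCategory.{v₃, u₃} C}
  {ℬ : BasedCategory.{v₄, u₄} C} (L : 𝒲 ⥤ᵇ ℰ) (π : ℰ ⥤ᵇ ℬ)

/-- `(w₁, w₂, φ) ↦ (L w₁, L w₂, φ)`. -/
def lamb : fp (BasedFunctor.comp L π) (BasedFunctor.comp L π) ⥤ᵇ fp π π :=
  BasedFunctor.comp (precomp (BasedFunctor.comp L π) π L) (precomp₁ L π π)

theorem lamb_isEquivOver (hL : IsEquivOver L) : IsEquivOver (lamb L π) :=
  isEquivOver_comp (precomp_isEquivOver (BasedFunctor.comp L π) π L hL)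
    (precomp₁_isEquivOver L hL π π)

def lambIso : BasedFunctor.comp (diag (BasedFunctor.comp L π)) (lamb L π) ≅
    BasedFunctor.comp L (diag π) :=
  Iso.refl _

end secC

end Groth.Agent.Lib.FibCatDiagSec
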