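import Groth.Agent.Lib.LiftSqComp_lead
import Groth.Prelude.Def_FibCat2

open CategoryTheory CategoryTheory.Limits

namespace Groth.Agent.Lib.LiftSqBC

universe v₆ u₆ v₅ u₅ v₄ u₄ v₃ u₃ v₂ u₂ v u

open LiftSq FibCat Groth.Agent.Lib.LiftSqComp

section aux

variable {D : Type*} [Category D] {E : Type*} [Category E]

theorem sq_aux (Y : D ⥤ E) {A B T : D} {P Q : E} {b : A ⟶ B} {t : B ⟶ T} {s : A ⟶ T}
    {i₁ : Y.obj B ⟶ P} {ft : P ⟶ Q} {i₂ : Y.obj T ⟶ Q}
    (h1 : b ≫ t = s) (h2 : Y.map t ≫ i₂ = i₁ ≫ ft) :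
    (Y.map b ≫ i₁) ≫ ft = Y.map s ≫ i₂ := by
  rw [← h1, Y.map_comp, Category.assoc, Category.assoc, h2]

theorem sq_aux2 (Y : D ⥤ E) {A B B' : D} {P Q : E} {dh : A ⟶ B} {di : B ⟶ A} {eh : A ⟶ B'}
    {Id : Y.obj B ⟶ P} {fψ : P ⟶ Q} {Ie : Y.obj B' ⟶ Q}
    (hid : di ≫ dh = 𝟙 B) (h : (Y.map dh ≫ Id) ≫ fψ = Y.map eh ≫ Ie) :
    Y.map (di ≫ eh) ≫ Ie = Id ≫ fψ := by
  rw [Y.map_comp, Category.assoc, ← h, Category.assoc, ← Category.assoc, ← Y.map_comp, hid,
    Y.map_id, Category.id_comp]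

theorem tri_aux {A B B' T : D} {dh : A ⟶ B} {di : B ⟶ A} {eh : A ⟶ B'} {dT : B ⟶ T}
    {eT : B' ⟶ T} {s : A ⟶ T} (hid : di ≫ dh = 𝟙 B) (h1 : dh ≫ dT = s) (h2 : eh ≫ eT = s) :
    (di ≫ eh) ≫ eT = dT := by
  rw [Category.assoc, h2, ← h1, ← Category.assoc, hid, Category.id_comp]

theorem tri_aux2 {A B B' : D} {dh : A ⟶ B} {di : B ⟶ A} {eh : A ⟶ B'}
    (h : dh ≫ di = 𝟙 A) : dh ≫ (di ≫ eh) = eh := by
  rw [← Category.assoc, h, Category.id_comp]

theorem tri_aux3 {A B B' : D} {dh : A ⟶ B} {di : B ⟶ A} {eh : A ⟶ B'} {x : B ⟶ B'}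
    (hid : di ≫ dh = 𝟙 B) (h : dh ≫ x = eh) : x = di ≫ eh := by
  rw [← h, ← Category.assoc, hid, Category.id_comp]

theorem inv_sq_aux {D₁ D₂ : Type*} [Category D₁] [Category D₂] (F : D₁ ⥤ E) (G : D₂ ⥤ E)
    {A A' : D₁} {P P' : D₂} {u : A ⟶ A'} {u' : A' ⟶ A} {v : P ⟶ P'} {v' : P' ⟶ P}
    {h : F.obj A ⟶ G.obj P} {k : F.obj A' ⟶ G.obj P'}
    (hu : u' ≫ u = 𝟙 A') (hv : v ≫ v' = 𝟙 P) (hw : F.map u ≫ k = h ≫ G.map v) :
    F.map u' ≫ h = k ≫ G.map v' := by
  have hu' : F.map u' ≫ F.map u = 𝟙 _ := by rw [← F.map_comp, hu, F.map_id]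
  have hv' : G.map v ≫ G.map v' = 𝟙 _ := by rw [← G.map_comp, hv, G.map_id]
  calc F.map u' ≫ h = F.map u' ≫ h ≫ (G.map v ≫ G.map v') := by rw [hv', Category.comp_id]
    _ = F.map u' ≫ (h ≫ G.map v) ≫ G.map v' := by rw [Category.assoc]
    _ = F.map u' ≫ (F.map u ≫ k) ≫ G.map v' := by rw [hw]
    _ = (F.map u' ≫ F.map u) ≫ k ≫ G.map v' := by simp only [Category.assoc]
    _ = k ≫ G.map v' := by rw [hu', Category.id_comp]

end aux

variable {C : Type u} [Category.{v} C]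

def whiskerLeftIso {𝒜 : BasedCategory.{v₂, u₂} C} {ℬ : BasedCategory.{v₃, u₃} C}
    {𝒳 : BasedCategory.{v₄, u₄} C} (H : 𝒜 ⥤ᵇ ℬ) {F G : ℬ ⥤ᵇ 𝒳} (α : F ≅ G) :
    BasedFunctor.comp H F ≅ BasedFunctor.comp H G where
  hom := BasedCategory.whiskerLeft H α.hom
  inv := BasedCategory.whiskerLeft H α.inv
  hom_inv_id := by rw [← whiskerLeft_comp', α.hom_inv_id, whiskerLeft_id']
  inv_hom_id := by rw [← whiskerLeft_comp', α.inv_hom_id, whiskerLeft_id']

section fp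

variable {𝒳 : BasedCategory.{v₂, u₂} C} {𝒴 : BasedCategory.{v₃, u₃} C}
  {𝒮 : BasedCategory.{v₄, u₄} C} {ℬ : BasedCategory.{v₅, u₅} C} (F : 𝒳 ⥤ᵇ 𝒮) (G : 𝒴 ⥤ᵇ 𝒮)

/-- A 2-morphism into the 2-fibre product from its two components. -/
def homMk2 {H K : ℬ ⥤ᵇ fp F G}
    (α : BasedFunctor.comp H (fpFst F G) ⟶ BasedFunctor.comp K (fpFst F G))
    (β : BasedFunctor.comp H (fpSnd F G) ⟶ BasedFunctor.comp K (fpSnd F G))
    (hw : ∀ b, F.toFunctor.map (α.toNatTrans.app b) ≫ (K.toFunctor.obj b).obj.iso.hom =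
      (H.toFunctor.obj b).obj.iso.hom ≫ G.toFunctor.map (β.toNatTrans.app b)) : H ⟶ K where
  toNatTrans :=
    { app := fun b => ObjectProperty.homMk
        { fst := α.toNatTrans.app b
          snd := β.toNatTrans.app b
          w := hw b }
      naturality := fun b b' m => by
        apply ObjectProperty.hom_ext
        apply CategoricalPullback.hom_ext
        · exact α.toNatTrans.naturality m
        · exact β.toNatTrans.naturality m }
  isHomLift' := fun b => (BasedFunctor.isHomLift_iff (fpFst F G) _ _).mp (α.isHomLift' b)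

theorem homMk2_fst {H K : ℬ ⥤ᵇ fp F G}
    (α : BasedFunctor.comp H (fpFst F G) ⟶ BasedFunctor.comp K (fpFst F G))
    (β : BasedFunctor.comp H (fpSnd F G) ⟶ BasedFunctor.comp K (fpSnd F G)) hw (b : ℬ.obj) :
    ((homMk2 F G α β hw).toNatTrans.app b).hom.fst = α.toNatTrans.app b := rfl

theorem homMk2_snd {H K : ℬ ⥤ᵇ fp F G}
    (α : BasedFunctor.comp H (fpFst F G) ⟶ BasedFunctor.comp K (fpFst F G))
    (β : BasedFunctor.comp H (fpSnd F G) ⟶ BasedFunctor.comp K (fpSnd F G)) hw (b : ℬ.obj) :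
    ((homMk2 F G α β hw).toNatTrans.app b).hom.snd = β.toNatTrans.app b := rfl

theorem hom_ext2 {H K : ℬ ⥤ᵇ fp F G} {θ θ' : H ⟶ K}
    (h1 : ∀ b, (θ.toNatTrans.app b).hom.fst = (θ'.toNatTrans.app b).hom.fst)
    (h2 : ∀ b, (θ.toNatTrans.app b).hom.snd = (θ'.toNatTrans.app b).hom.snd) : θ = θ' := by
  apply hom_ext'
  intro b
  apply ObjectProperty.hom_ext
  apply CategoricalPullback.hom_ext
  · exact h1 b
  · exact h2 b

/-- A 2-isomorphism into the 2-fibre product from its two components. -/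
def isoMk2 {H K : ℬ ⥤ᵇ fp F G}
    (α : BasedFunctor.comp H (fpFst F G) ≅ BasedFunctor.comp K (fpFst F G))
    (β : BasedFunctor.comp H (fpSnd F G) ≅ BasedFunctor.comp K (fpSnd F G))
    (hw : ∀ b, F.toFunctor.map (α.hom.toNatTrans.app b) ≫ (K.toFunctor.obj b).obj.iso.hom =
      (H.toFunctor.obj b).obj.iso.hom ≫ G.toFunctor.map (β.hom.toNatTrans.app b)) : H ≅ K where
  hom := homMk2 F G α.hom β.hom hw
  inv := homMk2 F G α.inv β.inv (fun b =>
    inv_sq_aux F.toFunctor G.toFunctor (app_congr α.inv_hom_id b) (app_congr β.hom_inv_id b) (hw b))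
  hom_inv_id := by
    apply hom_ext2
    · intro b; exact app_congr α.hom_inv_id b
    · intro b; exact app_congr β.hom_inv_id b
  inv_hom_id := by
    apply hom_ext2
    · intro b; exact app_congr α.inv_hom_id b
    · intro b; exact app_congr β.inv_hom_id b

end fp

section main

variable {𝒜 : BasedCategory.{v₂, u₂} C} {ℬ : BasedCategory.{v₃, u₃} C}
  {𝒳 : BasedCategory.{v₄, u₄} C} {𝒴 : BasedCategory.{v₅, u₅} C} {𝒴' : BasedCategory.{v₆, u₆} C}
  (j : 𝒜 ⥤ᵇ ℬ) (f : 𝒳 ⥤ᵇ 𝒴) (y : 𝒴' ⥤ᵇ 𝒴)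

/-- The square against `f` induced by a square against the base change of `f`. -/
def sqX (sq : Sq j (fpFst y f)) : Sq j f where
  top := BasedFunctor.comp sq.top (fpSnd y f)
  bot := BasedFunctor.comp sq.bot y
  iso := (whiskerRightIso sq.iso y : BasedFunctor.comp (BasedFunctor.comp j sq.bot) y ≅
      BasedFunctor.comp (BasedFunctor.comp sq.top (fpFst y f)) y) ≪≫
    (whiskerLeftIso sq.top (fpIso y f) :
      BasedFunctor.comp sq.top (BasedFunctor.comp (fpFst y f) y) ≅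
      BasedFunctor.comp sq.top (BasedFunctor.comp (fpSnd y f) f))

theorem sqX_iso_app (sq : Sq j (fpFst y f)) (a : 𝒜.obj) :
    (sqX j f y sq).iso.hom.toNatTrans.app a =
      y.toFunctor.map (sq.iso.hom.toNatTrans.app a) ≫ (sq.top.toFunctor.obj a).obj.iso.hom := rfl

/-- Existence: a dotted arrow for the induced square gives one for the original square. -/
def liftP (sq : Sq j (fpFst y f)) (d' : (sqX j f y sq).Lift) : sq.Lift where
  fn := fpLift sq.bot d'.fn d'.isoBot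
  isoTop := isoMk2 y f (H := BasedFunctor.comp j (fpLift sq.bot d'.fn d'.isoBot)) (K := sq.top)
    sq.iso d'.isoTop (fun a => (app_congr d'.w a).symm)
  isoBot := Iso.refl _
  w := by
    apply hom_ext'
    intro a
    exact Category.id_comp _

/-- The dotted arrow of the induced square attached to a dotted arrow of the original square. -/
def flat (sq : Sq j (fpFst y f)) (d : sq.Lift) : (sqX j f y sq).Lift where
  fn := BasedFunctor.comp d.fn (fpSnd y f)
  isoTop := whiskerRightIso d.isoTop (fpSnd y f)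
  isoBot := (whiskerRightIso d.isoBot y : BasedFunctor.comp sq.bot y ≅
      BasedFunctor.comp (BasedFunctor.comp d.fn (fpFst y f)) y) ≪≫
    (whiskerLeftIso d.fn (fpIso y f) :
      BasedFunctor.comp d.fn (BasedFunctor.comp (fpFst y f) y) ≅
      BasedFunctor.comp d.fn (BasedFunctor.comp (fpSnd y f) f))
  w := by
    apply hom_ext'
    intro a
    have h1 : d.isoBot.hom.toNatTrans.app (j.toFunctor.obj a) ≫
        (d.isoTop.hom.toNatTrans.app a).hom.fst = sq.iso.hom.toNatTrans.app a :=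
      app_congr d.w a
    exact sq_aux y.toFunctor h1 (d.isoTop.hom.toNatTrans.app a).hom.w

theorem flat_isoBot_app (sq : Sq j (fpFst y f)) (d : sq.Lift) (b : ℬ.obj) :
    (flat j f y sq d).isoBot.hom.toNatTrans.app b =
      y.toFunctor.map (d.isoBot.hom.toNatTrans.app b) ≫ (d.fn.toFunctor.obj b).obj.iso.hom := rfl

def flatHom (sq : Sq j (fpFst y f)) {d e : sq.Lift} (Ψ : d ⟶ e) :
    flat j f y sq d ⟶ flat j f y sq e where
  hom := BasedCategory.whiskerRight Ψ.hom (fpSnd y f)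
  w_top := by
    apply hom_ext'
    intro a
    have h1 : Ψ.hom.toNatTrans.app (j.toFunctor.obj a) ≫ e.isoTop.hom.toNatTrans.app a =
        d.isoTop.hom.toNatTrans.app a := app_congr Ψ.w_top a
    exact congrArg (fun m => m.hom.snd) h1
  w_bot := by
    apply hom_ext'
    intro b
    have h1 : d.isoBot.hom.toNatTrans.app b ≫ (Ψ.hom.toNatTrans.app b).hom.fst =
        e.isoBot.hom.toNatTrans.app b := app_congr Ψ.w_bot b
    exact sq_aux y.toFunctor h1 (Ψ.hom.toNatTrans.app b).hom.w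

theorem uniq (hf : LiftsUniquely j f) (sq : Sq j (fpFst y f)) : sq.UniqLift := by
  intro d e
  obtain ⟨u⟩ := (hf (sqX j f y sq)).2 (flat j f y sq d) (flat j f y sq e)
  obtain ⟨ψ, hψ⟩ : ∃ ψ : flat j f y sq d ⟶ flat j f y sq e, ∀ θ, θ = ψ := ⟨u.default, u.uniq⟩
  have hdi : ∀ b, d.isoBot.inv.toNatTrans.app b ≫ d.isoBot.hom.toNatTrans.app b = 𝟙 _ :=
    fun b => app_congr d.isoBot.inv_hom_id b
  have hdh : ∀ b, d.isoBot.hom.toNatTrans.app b ≫ d.isoBot.inv.toNatTrans.app b = 𝟙 _ :=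
    fun b => app_congr d.isoBot.hom_inv_id b
  let α : BasedFunctor.comp d.fn (fpFst y f) ⟶ BasedFunctor.comp e.fn (fpFst y f) :=
    d.isoBot.inv ≫ e.isoBot.hom
  have hα : ∀ b, α.toNatTrans.app b =
      d.isoBot.inv.toNatTrans.app b ≫ e.isoBot.hom.toNatTrans.app b := fun b => rfl
  have hψbot : ∀ b, (y.toFunctor.map (d.isoBot.hom.toNatTrans.app b) ≫
      (d.fn.toFunctor.obj b).obj.iso.hom) ≫ f.toFunctor.map (ψ.hom.toNatTrans.app b) =
      y.toFunctor.map (e.isoBot.hom.toNatTrans.app b) ≫ (e.fn.toFunctor.obj b).obj.iso.hom :=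
    fun b => app_congr ψ.w_bot b
  have hψtop : ∀ a, ψ.hom.toNatTrans.app (j.toFunctor.obj a) ≫
      (e.isoTop.hom.toNatTrans.app a).hom.snd = (d.isoTop.hom.toNatTrans.app a).hom.snd :=
    fun a => app_congr ψ.w_top a
  have hw : ∀ b, y.toFunctor.map (α.toNatTrans.app b) ≫ (e.fn.toFunctor.obj b).obj.iso.hom =
      (d.fn.toFunctor.obj b).obj.iso.hom ≫ f.toFunctor.map (ψ.hom.toNatTrans.app b) := by
    intro b
    rw [hα]
    exact sq_aux2 y.toFunctor (hdi b) (hψbot b)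
  let Θh : d.fn ⟶ e.fn := homMk2 y f α ψ.hom hw
  let Θ : d ⟶ e := ⟨Θh, by
    apply hom_ext2
    · intro a
      have h1 : d.isoBot.hom.toNatTrans.app (j.toFunctor.obj a) ≫
          (d.isoTop.hom.toNatTrans.app a).hom.fst = sq.iso.hom.toNatTrans.app a :=
        app_congr d.w a
      have h2 : e.isoBot.hom.toNatTrans.app (j.toFunctor.obj a) ≫
          (e.isoTop.hom.toNatTrans.app a).hom.fst = sq.iso.hom.toNatTrans.app a :=
        app_congr e.w a
      exact tri_aux (hdi _) h1 h2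
    · intro a
      exact hψtop a, by
    apply hom_ext'
    intro b
    exact tri_aux2 (hdh b)⟩
  refine ⟨⟨⟨Θ⟩, fun Ψ => ?_⟩⟩
  show Ψ = Θ
  apply Sq.Lift.hom_ext
  apply hom_ext2
  · intro b
    have h1 : d.isoBot.hom.toNatTrans.app b ≫ (Ψ.hom.toNatTrans.app b).hom.fst =
        e.isoBot.hom.toNatTrans.app b := app_congr Ψ.w_bot b
    exact tri_aux3 (hdi b) h1
  · intro b
    have e1 : flatHom j f y sq Ψ = ψ := hψ _
    exact app_congr (hom_congr e1) b

theorem liftsUniquely_fpFst (hf : LiftsUniquely j f) : LiftsUniquely j (fpFst y f) := by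
  intro sq
  refine ⟨?_, uniq j f y hf sq⟩
  obtain ⟨d'⟩ := (hf (sqX j f y sq)).1
  exact ⟨liftP j f y sq d'⟩

end main

end Groth.Agent.Lib.LiftSqBC
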