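import Groth.Agent.Lib.FibCat14_helper6
import Groth.Agent.Lib.LiftSqBC_lead

/-!
# Pasting and precomposition equivalences for 2-fibre products of based categories (lead)
-/

set_option autoImplicit false

universe v₆ u₆ v₅ u₅ v₄ u₄ v₃ u₃ v₂ u₂ v u

open CategoryTheory CategoryTheory.Limits FibCat

namespace Groth.Agent.Lib.FibCatPaste

open Groth.Agent.Lib.FibCat_helper6 Groth.Agent.Lib.FibCat3_helper6
  Groth.Agent.Lib.FibCat14_helper6 Groth.Agent.Lib.LiftSqBC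

variable {C : Type u} [Category.{v} C]

theorem isHomLift_comp_of_id {𝒳 : BasedCategory.{v₂, u₂} C} {a b c : 𝒳.obj} {R T : C} (φ : a ⟶ b)
    (ψ : b ⟶ c) (h1 : 𝒳.p.IsHomLift (𝟙 R) φ) (h2 : 𝒳.p.IsHomLift (𝟙 T) ψ) :
    𝒳.p.IsHomLift (𝟙 R) (φ ≫ ψ) :=
  IsHomLift.comp_lift_id_right' 𝒳.p (𝟙 R) φ T ψ

section iso

variable {𝒳 : BasedCategory.{v₂, u₂} C} {𝒴 : BasedCategory.{v₃, u₃} C}
  {𝒮 : BasedCategory.{v₄, u₄} C} {F : 𝒳 ⥤ᵇ 𝒮} {G : 𝒴 ⥤ᵇ 𝒮}

/-- An isomorphism in a 2-fibre product from isomorphisms of its two components. -/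
def fpIsoMk {X Y : (fp F G).obj} (a : X.obj.fst ≅ Y.obj.fst) (b : X.obj.snd ≅ Y.obj.snd)
    (w : F.toFunctor.map a.hom ≫ Y.obj.iso.hom = X.obj.iso.hom ≫ G.toFunctor.map b.hom) :
    X ≅ Y where
  hom := fpHomMk a.hom b.hom w
  inv := fpHomMk a.inv b.inv
    (inv_sq_aux F.toFunctor G.toFunctor a.inv_hom_id b.hom_inv_id w)
  hom_inv_id := fp_hom_ext a.hom_inv_id b.hom_inv_id
  inv_hom_id := fp_hom_ext a.inv_hom_id b.inv_hom_id

theorem fpIsoMk_hom_fst {X Y : (fp F G).obj} (a : X.obj.fst ≅ Y.obj.fst)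
    (b : X.obj.snd ≅ Y.obj.snd) (w) : (fpIsoMk (F := F) (G := G) a b w).hom.hom.fst = a.hom := rfl

theorem fpIsoMk_hom_snd {X Y : (fp F G).obj} (a : X.obj.fst ≅ Y.obj.fst)
    (b : X.obj.snd ≅ Y.obj.snd) (w) : (fpIsoMk (F := F) (G := G) a b w).hom.hom.snd = b.hom := rfl

theorem fpIsoMk_isHomLift {X Y : (fp F G).obj} (a : X.obj.fst ≅ Y.obj.fst)
    (b : X.obj.snd ≅ Y.obj.snd) (w) {R : C}
    (h : 𝒳.p.IsHomLift (𝟙 R) a.hom) :
    (fp F G).p.IsHomLift (𝟙 R) (fpIsoMk (F := F) (G := G) a b w).hom :=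
  fp_isHomLift_of_fst _ _ h

end iso

section paste

variable {𝒰 : BasedCategory.{v₂, u₂} C} {𝒵 : BasedCategory.{v₃, u₃} C}
  {𝒴 : BasedCategory.{v₄, u₄} C} {𝒳 : BasedCategory.{v₅, u₅} C}
  (z : 𝒰 ⥤ᵇ 𝒵) (g : 𝒵 ⥤ᵇ 𝒴) (f : 𝒳 ⥤ᵇ 𝒴)

/-- `(u, x, φ) ↦ (z u, x, φ)`. -/
def pasteInner : fp (BasedFunctor.comp z g) f ⥤ᵇ fp g f :=
  fpLift (BasedFunctor.comp (fpFst (BasedFunctor.comp z g) f) z) (fpSnd (BasedFunctor.comp z g) f)
    (fpIso (BasedFunctor.comp z g) f)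

/-- The pasting functor `𝒰 ×_𝒴 𝒳 ⟶ 𝒰 ×_𝒵 (𝒵 ×_𝒴 𝒳)`, `(u, x, φ) ↦ (u, (z u, x, φ), 𝟙)`. -/
def paste : fp (BasedFunctor.comp z g) f ⥤ᵇ fp z (fpFst g f) :=
  fpLift (fpFst (BasedFunctor.comp z g) f) (pasteInner z g f)
    (Iso.refl (BasedFunctor.comp (fpFst (BasedFunctor.comp z g) f) z))

theorem paste_comp_fpFst :
    BasedFunctor.comp (paste z g f) (fpFst z (fpFst g f)) = fpFst (BasedFunctor.comp z g) f := rfl

instance paste_faithful : (paste z g f).toFunctor.Faithful where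
  map_injective := by
    intro t t' m m' h
    apply fp_hom_ext
    · exact congrArg (fun n => n.hom.fst) h
    · exact congrArg (fun n => n.hom.snd.hom.snd) h

instance paste_full : (paste z g f).toFunctor.Full where
  map_surjective := by
    intro t t' n
    have hw : z.toFunctor.map n.hom.fst ≫ 𝟙 _ = 𝟙 _ ≫ n.hom.snd.hom.fst := n.hom.w
    have hw' : z.toFunctor.map n.hom.fst = n.hom.snd.hom.fst :=
      (Category.comp_id _).symm.trans (hw.trans (Category.id_comp _))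
    have hw2 : g.toFunctor.map n.hom.snd.hom.fst ≫ t'.obj.iso.hom =
        t.obj.iso.hom ≫ f.toFunctor.map n.hom.snd.hom.snd := n.hom.snd.hom.w
    refine ⟨fpHomMk n.hom.fst n.hom.snd.hom.snd ?_, ?_⟩
    · show g.toFunctor.map (z.toFunctor.map n.hom.fst) ≫ t'.obj.iso.hom =
        t.obj.iso.hom ≫ f.toFunctor.map n.hom.snd.hom.snd
      rw [hw']
      exact hw2
    · apply fp_hom_ext
      · rfl
      · apply fp_hom_ext
        · exact hw'
        · rfl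

theorem paste_essSurj (w : (fp z (fpFst g f)).obj) :
    ∃ (t : (fp (BasedFunctor.comp z g) f).obj) (φ : (paste z g f).obj t ≅ w),
      (fp z (fpFst g f)).p.IsHomLift (𝟙 ((fp z (fpFst g f)).p.obj w)) φ.hom := by
  have hw : 𝒵.p.IsHomLift (𝟙 (𝒰.p.obj w.obj.fst)) w.obj.iso.hom := w.property
  have hq : 𝒴.p.IsHomLift (𝟙 (𝒵.p.obj w.obj.snd.obj.fst)) w.obj.snd.obj.iso.hom :=
    w.obj.snd.property
  have h1 : 𝒴.p.IsHomLift (𝟙 (𝒰.p.obj w.obj.fst)) (g.toFunctor.map w.obj.iso.hom) :=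
    BasedFunctor.preserves_isHomLift g _ _
  have h : 𝒴.p.IsHomLift (𝟙 (𝒰.p.obj w.obj.fst))
      (g.toFunctor.map w.obj.iso.hom ≫ w.obj.snd.obj.iso.hom) :=
    isHomLift_comp_of_id _ _ h1 hq
  let t : (fp (BasedFunctor.comp z g) f).obj :=
    fpObjMk (F := BasedFunctor.comp z g) (G := f) w.obj.fst w.obj.snd.obj.snd
      (g.toFunctor.mapIso w.obj.iso ≪≫ w.obj.snd.obj.iso) h
  let b' : (pasteInner z g f).obj t ≅ w.obj.snd :=
    fpIsoMk (F := g) (G := f) (X := (pasteInner z g f).obj t) (Y := w.obj.snd)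
      w.obj.iso (Iso.refl _) (by
        show g.toFunctor.map w.obj.iso.hom ≫ w.obj.snd.obj.iso.hom =
          (g.toFunctor.map w.obj.iso.hom ≫ w.obj.snd.obj.iso.hom) ≫
            f.toFunctor.map (𝟙 w.obj.snd.obj.snd)
        rw [f.toFunctor.map_id, Category.comp_id])
  refine ⟨t, fpIsoMk (F := z) (G := fpFst g f) (X := (paste z g f).obj t) (Y := w)
    (Iso.refl _) b' ?_, ?_⟩
  · show z.toFunctor.map (𝟙 w.obj.fst) ≫ w.obj.iso.hom = 𝟙 _ ≫ w.obj.iso.hom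
    rw [z.toFunctor.map_id]
  · exact fpIsoMk_isHomLift _ _ _
      (inferInstance : 𝒰.p.IsHomLift (𝟙 (𝒰.p.obj w.obj.fst)) (𝟙 w.obj.fst))

theorem paste_isEquivOver : IsEquivOver (paste z g f) :=
  isEquivOver_of_fullyFaithful (paste z g f) (paste_essSurj z g f)

end paste

section precomp

variable {𝒰 : BasedCategory.{v₂, u₂} C} {𝒵 : BasedCategory.{v₃, u₃} C}
  {ℰ : BasedCategory.{v₄, u₄} C} {𝒲 : BasedCategory.{v₅, u₅} C}
  (z : 𝒰 ⥤ᵇ 𝒵) (π : ℰ ⥤ᵇ 𝒵) (L : 𝒲 ⥤ᵇ ℰ)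

/-- `(u, w, ψ) ↦ (u, L w, ψ)`. -/
def precomp : fp z (BasedFunctor.comp L π) ⥤ᵇ fp z π :=
  fpLift (fpFst z (BasedFunctor.comp L π)) (BasedFunctor.comp (fpSnd z (BasedFunctor.comp L π)) L)
    (fpIso z (BasedFunctor.comp L π))

theorem precomp_comp_fpFst :
    BasedFunctor.comp (precomp z π L) (fpFst z π) = fpFst z (BasedFunctor.comp L π) := rfl

instance precomp_faithful [L.toFunctor.Faithful] : (precomp z π L).toFunctor.Faithful where
  map_injective := by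
    intro t t' m m' h
    apply fp_hom_ext
    · exact congrArg (fun n => n.hom.fst) h
    · apply L.toFunctor.map_injective
      exact congrArg (fun n => n.hom.snd) h

instance precomp_full [L.toFunctor.Full] : (precomp z π L).toFunctor.Full where
  map_surjective := by
    intro t t' n
    obtain ⟨m₂, hm₂⟩ := L.toFunctor.map_surjective n.hom.snd
    have hw : z.toFunctor.map n.hom.fst ≫ t'.obj.iso.hom =
        t.obj.iso.hom ≫ π.toFunctor.map n.hom.snd := n.hom.w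
    refine ⟨fpHomMk n.hom.fst m₂ ?_, ?_⟩
    · show z.toFunctor.map n.hom.fst ≫ t'.obj.iso.hom =
        t.obj.iso.hom ≫ π.toFunctor.map (L.toFunctor.map m₂)
      exact hw.trans (congrArg (fun x => t.obj.iso.hom ≫ π.toFunctor.map x) hm₂.symm)
    · apply fp_hom_ext
      · rfl
      · exact hm₂

theorem precomp_essSurj
    (hL : ∀ q : ℰ.obj, ∃ (w : 𝒲.obj) (θ : L.obj w ≅ q), ℰ.p.IsHomLift (𝟙 (ℰ.p.obj q)) θ.hom)
    (w' : (fp z π).obj) :
    ∃ (t : (fp z (BasedFunctor.comp L π)).obj) (φ : (precomp z π L).obj t ≅ w'),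
      (fp z π).p.IsHomLift (𝟙 ((fp z π).p.obj w')) φ.hom := by
  obtain ⟨w, θ, hθ⟩ := hL w'.obj.snd
  have hw' : 𝒵.p.IsHomLift (𝟙 (𝒰.p.obj w'.obj.fst)) w'.obj.iso.hom := w'.property
  have hθi : ℰ.p.IsHomLift (𝟙 (ℰ.p.obj w'.obj.snd)) θ.inv := inferInstance
  have h1 : 𝒵.p.IsHomLift (𝟙 (ℰ.p.obj w'.obj.snd)) (π.toFunctor.map θ.inv) :=
    BasedFunctor.preserves_isHomLift π _ _
  have h : 𝒵.p.IsHomLift (𝟙 (𝒰.p.obj w'.obj.fst)) (w'.obj.iso.hom ≫ π.toFunctor.map θ.inv) :=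
    isHomLift_comp_of_id _ _ hw' h1
  let t : (fp z (BasedFunctor.comp L π)).obj :=
    fpObjMk (F := z) (G := BasedFunctor.comp L π) w'.obj.fst w
      (w'.obj.iso ≪≫ π.toFunctor.mapIso θ.symm) h
  refine ⟨t, fpIsoMk (F := z) (G := π) (X := (precomp z π L).obj t) (Y := w')
    (Iso.refl _) θ ?_, ?_⟩
  · show z.toFunctor.map (𝟙 w'.obj.fst) ≫ w'.obj.iso.hom =
      (w'.obj.iso.hom ≫ π.toFunctor.map θ.inv) ≫ π.toFunctor.map θ.hom
    rw [z.toFunctor.map_id, Category.id_comp, Category.assoc, ← π.toFunctor.map_comp,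
      θ.inv_hom_id, π.toFunctor.map_id, Category.comp_id]
  · exact fpIsoMk_isHomLift _ _ _
      (inferInstance : 𝒰.p.IsHomLift (𝟙 (𝒰.p.obj w'.obj.fst)) (𝟙 w'.obj.fst))

theorem precomp_isEquivOver (hL : IsEquivOver L) : IsEquivOver (precomp z π L) := by
  have := full_of_isEquivOver hL
  have := faithful_of_isEquivOver hL
  exact isEquivOver_of_fullyFaithful (precomp z π L)
    (precomp_essSurj z π L (essSurjOver_of_isEquivOver hL))

end precomp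

end Groth.Agent.Lib.FibCatPaste
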