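import Groth.Prelude.Def_LiftSq

open CategoryTheory

namespace Groth.Agent.Lib.LiftSqComp

universe v₆ u₆ v₅ u₅ v₄ u₄ v₃ u₃ v₂ u₂ v u

open LiftSq

variable {C : Type u} [Category.{v} C]
  {𝒜 : BasedCategory.{v₂, u₂} C} {ℬ : BasedCategory.{v₃, u₃} C}
  {𝒳 : BasedCategory.{v₄, u₄} C} {𝒴 : BasedCategory.{v₅, u₅} C} {𝒵 : BasedCategory.{v₆, u₆} C}

theorem cancel_aux {D : Type*} [Category D] {X Y Z : D} {p : X ⟶ Y} {q : Y ⟶ X} {r : Y ⟶ Z}
    {s : X ⟶ Z} (hqp : q ≫ p = 𝟙 Y) (h : p ≫ r = s) : q ≫ s = r := by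
  rw [← h, ← Category.assoc, hqp, Category.id_comp]

theorem inv_aux {D : Type*} [Category D] {X Y : D} {p : X ⟶ Y} {q : Y ⟶ X} {r : X ⟶ Y}
    (hpq : p ≫ q = 𝟙 X) (h : q ≫ r = 𝟙 Y) : r = p := by
  calc r = (p ≫ q) ≫ r := by rw [hpq, Category.id_comp]
    _ = p ≫ (q ≫ r) := Category.assoc _ _ _
    _ = p := by rw [h, Category.comp_id]

theorem app_congr {F G : 𝒜 ⥤ᵇ ℬ} {α β : F ⟶ G} (e : α = β) (a : 𝒜.obj) :
    α.toNatTrans.app a = β.toNatTrans.app a := by rw [e]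

theorem hom_ext' {F G : 𝒜 ⥤ᵇ ℬ} {α β : F ⟶ G}
    (h : ∀ a, α.toNatTrans.app a = β.toNatTrans.app a) : α = β := by
  apply BasedNatTrans.homCategory.ext
  ext a
  exact h a

theorem hom_congr {j : 𝒜 ⥤ᵇ ℬ} {f : 𝒳 ⥤ᵇ 𝒴} {sq : Sq j f} {d d' : sq.Lift} {θ θ' : d ⟶ d'}
    (e : θ = θ') : θ.hom = θ'.hom := by rw [e]

def whiskerRightIso {F G : 𝒜 ⥤ᵇ ℬ} (α : F ≅ G) (H : ℬ ⥤ᵇ 𝒳) :
    BasedFunctor.comp F H ≅ BasedFunctor.comp G H where
  hom := BasedCategory.whiskerRight α.hom H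
  inv := BasedCategory.whiskerRight α.inv H
  hom_inv_id := by rw [← whiskerRight_comp', α.hom_inv_id, whiskerRight_id']
  inv_hom_id := by rw [← whiskerRight_comp', α.inv_hom_id, whiskerRight_id']

variable (j : 𝒜 ⥤ᵇ ℬ) (f : 𝒳 ⥤ᵇ 𝒴) (g : 𝒴 ⥤ᵇ 𝒵)

abbrev sqG (sq : Sq j (BasedFunctor.comp f g)) : Sq j g :=
  ⟨BasedFunctor.comp sq.top f, sq.bot, sq.iso⟩

abbrev sqF (sq : Sq j (BasedFunctor.comp f g)) (d₁ : (sqG j f g sq).Lift) : Sq j f :=
  ⟨sq.top, d₁.fn, d₁.isoTop⟩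

def compLift (sq : Sq j (BasedFunctor.comp f g)) (d₁ : (sqG j f g sq).Lift)
    (d₂ : (sqF j f g sq d₁).Lift) : sq.Lift where
  fn := d₂.fn
  isoTop := d₂.isoTop
  isoBot := d₁.isoBot ≪≫ whiskerRightIso d₂.isoBot g
  w := by
    apply hom_ext'
    intro a
    have w1 : d₁.isoBot.hom.toNatTrans.app (j.toFunctor.obj a) ≫
        g.toFunctor.map (d₁.isoTop.hom.toNatTrans.app a) = sq.iso.hom.toNatTrans.app a :=
      app_congr d₁.w a
    have w2 : d₂.isoBot.hom.toNatTrans.app (j.toFunctor.obj a) ≫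
        f.toFunctor.map (d₂.isoTop.hom.toNatTrans.app a) = d₁.isoTop.hom.toNatTrans.app a :=
      app_congr d₂.w a
    show (d₁.isoBot.hom.toNatTrans.app (j.toFunctor.obj a) ≫
        g.toFunctor.map (d₂.isoBot.hom.toNatTrans.app (j.toFunctor.obj a))) ≫
        g.toFunctor.map (f.toFunctor.map (d₂.isoTop.hom.toNatTrans.app a)) =
        sq.iso.hom.toNatTrans.app a
    have h : g.toFunctor.map (d₂.isoBot.hom.toNatTrans.app (j.toFunctor.obj a)) ≫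
        g.toFunctor.map (f.toFunctor.map (d₂.isoTop.hom.toNatTrans.app a)) =
        g.toFunctor.map (d₁.isoTop.hom.toNatTrans.app a) :=
      (g.toFunctor.map_comp _ _).symm.trans (congrArg (fun x => g.toFunctor.map x) w2)
    exact (Category.assoc _ _ _).trans
      ((congrArg (fun x => d₁.isoBot.hom.toNatTrans.app (j.toFunctor.obj a) ≫ x) h).trans w1)

def liftG (sq : Sq j (BasedFunctor.comp f g)) (d : sq.Lift) : (sqG j f g sq).Lift where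
  fn := BasedFunctor.comp d.fn f
  isoTop := whiskerRightIso d.isoTop f
  isoBot := d.isoBot
  w := by
    apply hom_ext'
    intro a
    exact app_congr d.w a

def homG (sq : Sq j (BasedFunctor.comp f g)) {d d' : sq.Lift} (Ψ : d ⟶ d') :
    liftG j f g sq d ⟶ liftG j f g sq d' where
  hom := BasedCategory.whiskerRight Ψ.hom f
  w_top := by
    apply hom_ext'
    intro a
    have h1 : Ψ.hom.toNatTrans.app (j.toFunctor.obj a) ≫ d'.isoTop.hom.toNatTrans.app a =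
        d.isoTop.hom.toNatTrans.app a := app_congr Ψ.w_top a
    show f.toFunctor.map (Ψ.hom.toNatTrans.app (j.toFunctor.obj a)) ≫
        f.toFunctor.map (d'.isoTop.hom.toNatTrans.app a) =
        f.toFunctor.map (d.isoTop.hom.toNatTrans.app a)
    exact (f.toFunctor.map_comp _ _).symm.trans (congrArg (fun x => f.toFunctor.map x) h1)
  w_bot := by
    apply hom_ext'
    intro b
    exact app_congr Ψ.w_bot b

theorem uniq (hf : LiftsUniquely j f) (hg : LiftsUniquely j g)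
    (sq : Sq j (BasedFunctor.comp f g)) : sq.UniqLift := by
  intro d d'
  obtain ⟨u₁⟩ := (hg (sqG j f g sq)).2 (liftG j f g sq d) (liftG j f g sq d')
  obtain ⟨u₁'⟩ := (hg (sqG j f g sq)).2 (liftG j f g sq d') (liftG j f g sq d)
  obtain ⟨u₁d⟩ := (hg (sqG j f g sq)).2 (liftG j f g sq d) (liftG j f g sq d)
  obtain ⟨u₁d'⟩ := (hg (sqG j f g sq)).2 (liftG j f g sq d') (liftG j f g sq d')
  obtain ⟨θ₁, hθ₁⟩ : ∃ θ₁ : liftG j f g sq d ⟶ liftG j f g sq d', ∀ θ, θ = θ₁ :=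
    ⟨u₁.default, u₁.uniq⟩
  obtain ⟨θ₁', -⟩ : ∃ θ₁' : liftG j f g sq d' ⟶ liftG j f g sq d, True := ⟨u₁'.default, trivial⟩
  have h11 : θ₁ ≫ θ₁' = 𝟙 _ := (u₁d.uniq _).trans (u₁d.uniq _).symm
  have h12 : θ₁' ≫ θ₁ = 𝟙 _ := (u₁d'.uniq _).trans (u₁d'.uniq _).symm
  have h11a : ∀ b, θ₁.hom.toNatTrans.app b ≫ θ₁'.hom.toNatTrans.app b = 𝟙 _ := fun b =>
    app_congr (hom_congr h11) b
  have h12a : ∀ b, θ₁'.hom.toNatTrans.app b ≫ θ₁.hom.toNatTrans.app b = 𝟙 _ := fun b =>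
    app_congr (hom_congr h12) b
  let ι₁ : BasedFunctor.comp d.fn f ≅ BasedFunctor.comp d'.fn f :=
    ⟨θ₁.hom, θ₁'.hom, hom_congr h11, hom_congr h12⟩
  let sq₂ : Sq j f := ⟨sq.top, BasedFunctor.comp d'.fn f, whiskerRightIso d'.isoTop f⟩
  let l' : sq₂.Lift := ⟨d'.fn, d'.isoTop, Iso.refl _, by
    apply hom_ext'
    intro a
    show 𝟙 _ ≫ f.toFunctor.map (d'.isoTop.hom.toNatTrans.app a) =
      f.toFunctor.map (d'.isoTop.hom.toNatTrans.app a)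
    exact Category.id_comp _⟩
  let l : sq₂.Lift := ⟨d.fn, d.isoTop, ι₁.symm, by
    apply hom_ext'
    intro a
    have h1 : θ₁.hom.toNatTrans.app (j.toFunctor.obj a) ≫
        f.toFunctor.map (d'.isoTop.hom.toNatTrans.app a) =
        f.toFunctor.map (d.isoTop.hom.toNatTrans.app a) := app_congr θ₁.w_top a
    show θ₁'.hom.toNatTrans.app (j.toFunctor.obj a) ≫
        f.toFunctor.map (d.isoTop.hom.toNatTrans.app a) =
        f.toFunctor.map (d'.isoTop.hom.toNatTrans.app a)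
    exact cancel_aux (h12a _) h1⟩
  obtain ⟨u₂⟩ := (hf sq₂).2 l l'
  obtain ⟨θ₂, hθ₂⟩ : ∃ θ₂ : l ⟶ l', ∀ θ, θ = θ₂ := ⟨u₂.default, u₂.uniq⟩
  have hθ₂f : ∀ b, f.toFunctor.map (θ₂.hom.toNatTrans.app b) = θ₁.hom.toNatTrans.app b := by
    intro b
    have h3 : θ₁'.hom.toNatTrans.app b ≫ f.toFunctor.map (θ₂.hom.toNatTrans.app b) = 𝟙 _ :=
      app_congr θ₂.w_bot b
    exact inv_aux (h11a b) h3
  have hθ₁bot : ∀ b, d.isoBot.hom.toNatTrans.app b ≫ g.toFunctor.map (θ₁.hom.toNatTrans.app b) =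
      d'.isoBot.hom.toNatTrans.app b := fun b => app_congr θ₁.w_bot b
  let Θ : d ⟶ d' := ⟨θ₂.hom, θ₂.w_top, by
    apply hom_ext'
    intro b
    show d.isoBot.hom.toNatTrans.app b ≫
        g.toFunctor.map (f.toFunctor.map (θ₂.hom.toNatTrans.app b)) =
        d'.isoBot.hom.toNatTrans.app b
    exact (congrArg (fun x => d.isoBot.hom.toNatTrans.app b ≫ g.toFunctor.map x) (hθ₂f b)).trans
      (hθ₁bot b)⟩
  refine ⟨⟨⟨Θ⟩, fun Ψ => ?_⟩⟩
  have e1 : homG j f g sq Ψ = θ₁ := hθ₁ _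
  have e1' : ∀ b, f.toFunctor.map (Ψ.hom.toNatTrans.app b) = θ₁.hom.toNatTrans.app b := fun b =>
    app_congr (hom_congr e1) b
  let ψ₂ : l ⟶ l' := ⟨Ψ.hom, Ψ.w_top, by
    apply hom_ext'
    intro b
    show θ₁'.hom.toNatTrans.app b ≫ f.toFunctor.map (Ψ.hom.toNatTrans.app b) = 𝟙 _
    exact (congrArg (fun x => θ₁'.hom.toNatTrans.app b ≫ x) (e1' b)).trans (h12a b)⟩
  have e2 : ψ₂ = θ₂ := hθ₂ _
  show Ψ = Θ
  have e3 : ψ₂.hom = θ₂.hom := hom_congr e2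
  exact Sq.Lift.hom_ext e3

theorem liftsUniquely_comp (hf : LiftsUniquely j f) (hg : LiftsUniquely j g) :
    LiftsUniquely j (BasedFunctor.comp f g) := by
  intro sq
  refine ⟨?_, uniq j f g hf hg sq⟩
  obtain ⟨d₁⟩ := (hg (sqG j f g sq)).1
  obtain ⟨d₂⟩ := (hf (sqF j f g sq d₁)).1
  exact ⟨compLift j f g sq d₁ d₂⟩

end Groth.Agent.Lib.LiftSqComp
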