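import Groth.Agent.Lib.FibCatPaste_lead
import Groth.Agent.Lib.FibCatSwap_lead
import Groth.Agent.Lib.FibCatPostcomp_lead
import Groth.Agent.Lib.FibCatIsoFun_lead
import Groth.Agent.Lib.FibCatGraph_lead
import Groth.Agent.Lib.LiftSqComp_lead

/-!
# Representable 1-morphisms of categories over `C`: base change, composition, invariance (lead)
-/

set_option autoImplicit false

universe v₆ u₆ v₅ u₅ v₄ u₄ v₃ u₃ v₂ u₂ v u

open CategoryTheory CategoryTheory.Limits FibCat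

namespace Groth.Agent.Lib.FibCatRep1

open Groth.Agent.Lib.FibCat_helper6 Groth.Agent.Lib.FibCat3_helper6
  Groth.Agent.Lib.FibCat14_helper6 Groth.Agent.Lib.LiftSqBC Groth.Agent.Lib.FibCatPaste
  Groth.Agent.Lib.FibCatSwap Groth.Agent.Lib.FibCatPostcomp Groth.Agent.Lib.FibCatIsoFun
  Groth.Agent.Lib.FibCatGraph

variable {C : Type u} [Category.{v} C]

section transport

variable {𝒜 : BasedCategory.{v₂, u₂} C} {ℬ : BasedCategory.{v₃, u₃} C}

theorem rep_of_equiv_to (L : 𝒜 ⥤ᵇ ℬ) (hL : IsEquivOver L) (h : IsRepresentable ℬ) :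
    IsRepresentable 𝒜 := by
  obtain ⟨U, F, hF⟩ := h
  exact ⟨U, BasedFunctor.comp L F, isEquivOver_comp hL hF⟩

theorem rep_of_equiv_from (L : 𝒜 ⥤ᵇ ℬ) (hL : IsEquivOver L) (h : IsRepresentable 𝒜) :
    IsRepresentable ℬ := by
  obtain ⟨L', ⟨η⟩, ⟨ε⟩⟩ := hL
  exact rep_of_equiv_to L' (isEquivOver_inverse η ε) h

end transport

section bc

variable {𝒳 : BasedCategory.{v₂, u₂} C} {𝒴 : BasedCategory.{v₃, u₃} C}
  {𝒵 : BasedCategory.{v₄, u₄} C} {𝒲 : BasedCategory.{v₅, u₅} C}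

theorem rep1_baseChange (f : 𝒳 ⥤ᵇ 𝒴) (g : 𝒵 ⥤ᵇ 𝒴) (hf : IsRepresentable1 f) :
    IsRepresentable1 (fpFst g f) := by
  intro U z
  exact rep_of_equiv_from (paste z g f) (paste_isEquivOver z g f) (hf U (BasedFunctor.comp z g))

theorem rep1_precomp_equiv (L : 𝒲 ⥤ᵇ 𝒳) (hL : IsEquivOver L) (π : 𝒳 ⥤ᵇ 𝒴)
    (hπ : IsRepresentable1 π) : IsRepresentable1 (BasedFunctor.comp L π) := by
  intro U z
  exact rep_of_equiv_to (precomp z π L) (precomp_isEquivOver z π L hL) (hπ U z)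

theorem rep1_of_twoCart {g : 𝒵 ⥤ᵇ 𝒴} {f : 𝒳 ⥤ᵇ 𝒴} (a : 𝒲 ⥤ᵇ 𝒵) (b : 𝒲 ⥤ᵇ 𝒳)
    (e : BasedFunctor.comp a g ≅ BasedFunctor.comp b f) (h2 : IsEquivOver (fpLift a b e))
    (hf : IsRepresentable1 f) : IsRepresentable1 a :=
  rep1_precomp_equiv (fpLift a b e) h2 (fpFst g f) (rep1_baseChange f g hf)

theorem rep1_postcomp_equiv (x : 𝒲 ⥤ᵇ 𝒳) (E : 𝒳 ⥤ᵇ 𝒴) (hE : IsEquivOver E)
    (hx : IsRepresentable1 x) : IsRepresentable1 (BasedFunctor.comp x E) := by
  intro U y'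
  have := full_of_isEquivOver hE
  have := faithful_of_isEquivOver hE
  obtain ⟨E', ⟨η⟩, ⟨ε⟩⟩ := hE
  exact rep_of_equiv_from (postN y' x E E' ε) (postN_isEquivOver y' x E E' ε)
    (hx U (BasedFunctor.comp y' E'))

theorem rep1_of_iso {x x' : 𝒲 ⥤ᵇ 𝒳} (ι : x ≅ x') (hx : IsRepresentable1 x) :
    IsRepresentable1 x' := by
  intro U y
  exact rep_of_equiv_from (isoFun y ι) (isoFun_isEquivOver y ι) (hx U y)

/-- The composite of two representable 1-morphisms is representable. -/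
theorem rep1_comp (f : 𝒳 ⥤ᵇ 𝒴) (g : 𝒴 ⥤ᵇ 𝒵) (hf : IsRepresentable1 f)
    (hg : IsRepresentable1 g) : IsRepresentable1 (BasedFunctor.comp f g) := by
  intro U z
  obtain ⟨V, E, hE⟩ := hg U z
  obtain ⟨E', ⟨η⟩, ⟨ε⟩⟩ := hE
  have hE' : IsEquivOver E' := isEquivOver_inverse η ε
  have hL : IsEquivOver (BasedFunctor.comp E' (swap z g)) :=
    isEquivOver_comp hE' (swap_isEquivOver z g)
  have h1 := hf V (BasedFunctor.comp (BasedFunctor.comp E' (swap z g)) (fpFst g z))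
  have h2 := rep_of_equiv_from (swap _ _) (swap_isEquivOver _ _) h1
  have h3 := rep_of_equiv_from (precomp f (fpFst g z) (BasedFunctor.comp E' (swap z g)))
    (precomp_isEquivOver f (fpFst g z) _ hL) h2
  have h4 := rep_of_equiv_to (paste f g z) (paste_isEquivOver f g z) h3
  exact rep_of_equiv_to (swap z (BasedFunctor.comp f g)) (swap_isEquivOver _ _) h4

end bc

section square

variable {𝒳 : BasedCategory.{v₂, u₂} C} {𝒴 : BasedCategory.{v₃, u₃} C}
  {𝒳' : BasedCategory.{v₄, u₄} C} {𝒴' : BasedCategory.{v₅, u₅} C}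

theorem rep1_equiv_square (f : 𝒳 ⥤ᵇ 𝒴) (f' : 𝒳' ⥤ᵇ 𝒴') (a : 𝒳' ⥤ᵇ 𝒳) (b : 𝒴' ⥤ᵇ 𝒴)
    (ha : IsEquivOver a) (hb : IsEquivOver b)
    (e : BasedFunctor.comp f' b ≅ BasedFunctor.comp a f) :
    IsRepresentable1 f ↔ IsRepresentable1 f' := by
  constructor
  · intro hf
    have h1 : IsRepresentable1 (BasedFunctor.comp a f) := rep1_precomp_equiv a ha f hf
    have h2 : IsRepresentable1 (BasedFunctor.comp f' b) := rep1_of_iso e.symm h1
    obtain ⟨b', ⟨ηb⟩, ⟨εb⟩⟩ := hb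
    have h3 : IsRepresentable1 (BasedFunctor.comp (BasedFunctor.comp f' b) b') :=
      rep1_postcomp_equiv _ b' (isEquivOver_inverse ηb εb) h2
    have iso : BasedFunctor.comp (BasedFunctor.comp f' b) b' ≅ f' :=
      Groth.Agent.Lib.LiftSqBC.whiskerLeftIso f' ηb
    exact rep1_of_iso iso h3
  · intro hf'
    have h1 : IsRepresentable1 (BasedFunctor.comp f' b) := rep1_postcomp_equiv f' b hb hf'
    have h2 : IsRepresentable1 (BasedFunctor.comp a f) := rep1_of_iso e h1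
    obtain ⟨a', ⟨ηa⟩, ⟨εa⟩⟩ := ha
    have h3 : IsRepresentable1 (BasedFunctor.comp a' (BasedFunctor.comp a f)) :=
      rep1_precomp_equiv a' (isEquivOver_inverse ηa εa) _ h2
    have iso : BasedFunctor.comp a' (BasedFunctor.comp a f) ≅ f :=
      Groth.Agent.Lib.LiftSqComp.whiskerRightIso εa f
    exact rep1_of_iso iso h3

end square

section cancel

variable {𝒳 : BasedCategory.{v₂, u₂} C} {𝒴 : BasedCategory.{v₃, u₃} C}
  {𝒵 : BasedCategory.{v₄, u₄} C}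

/-- If `g ∘ f` and the diagonal of `g` are representable then so is `f`. -/
theorem rep1_of_comp_of_diag (f : 𝒳 ⥤ᵇ 𝒴) (g : 𝒴 ⥤ᵇ 𝒵)
    (hgf : IsRepresentable1 (BasedFunctor.comp f g)) (hΔ : IsRepresentable1 (FibCat.diag g)) :
    IsRepresentable1 f := by
  have hgr : IsRepresentable1 (graph (BasedFunctor.comp f g) g f (Iso.refl _)) :=
    rep1_of_twoCart (g := Xi (BasedFunctor.comp f g) g f (Iso.refl _)) (f := FibCat.diag g)
      (graph (BasedFunctor.comp f g) g f (Iso.refl _)) f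
      (Groth.Agent.Lib.FibCatGraph.sqIso (BasedFunctor.comp f g) g f (Iso.refl _))
      (graphBC_isEquivOver (BasedFunctor.comp f g) g f (Iso.refl _)) hΔ
  have hsnd : IsRepresentable1 (fpSnd (BasedFunctor.comp f g) g) :=
    rep1_precomp_equiv (swap (BasedFunctor.comp f g) g) (swap_isEquivOver _ _)
      (fpFst g (BasedFunctor.comp f g)) (rep1_baseChange (BasedFunctor.comp f g) g hgf)
  exact rep1_comp (graph (BasedFunctor.comp f g) g f (Iso.refl _))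
    (fpSnd (BasedFunctor.comp f g) g) hgr hsnd

end cancel

end Groth.Agent.Lib.FibCatRep1
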