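import Groth.Prelude.Def_W4stkcategoriessitesFib

/-!
# Helper library on categories over a base (helper6)

General lemmas about `FibCat.IsFibGrpd`, `FibCat.fp`, `FibCat.inertia`, `FibCat.IsEquivOver`.
-/

set_option autoImplicit false

universe v₅ u₅ v₄ u₄ v₃ u₃ v₂ u₂ v u

open CategoryTheory CategoryTheory.Limits FibCat

namespace Groth.Agent.Lib.FibCat_helper6

section plain

variable {C : Type u} [Category.{v} C] {𝒳 : Type u₂} [Category.{v₂} 𝒳] {p : 𝒳 ⥤ C}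

/-- In a category fibred in groupoids every morphism is strongly cartesian over any morphism it
lifts. -/
theorem isStronglyCartesian_of_isFibGrpd (h : IsFibGrpd p) {R S : C} (f : R ⟶ S) {a b : 𝒳}
    (φ : a ⟶ b) [p.IsHomLift f φ] : p.IsStronglyCartesian f φ := by
  subst_hom_lift p f φ
  exact h.isStronglyCartesian φ

theorem isFibered_of_isFibGrpd (h : IsFibGrpd p) : p.IsFibered := by
  apply Functor.IsFibered.of_exists_isStronglyCartesian
  intro a R f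
  obtain ⟨y, φ, hφ⟩ := h.exists_lift f
  exact ⟨y, φ, isStronglyCartesian_of_isFibGrpd h f φ⟩

/-- In a category fibred in groupoids a morphism over an isomorphism is an isomorphism. -/
theorem isIso_of_isFibGrpd (h : IsFibGrpd p) {R S : C} (f : R ⟶ S) [IsIso f] {a b : 𝒳}
    (φ : a ⟶ b) [p.IsHomLift f φ] : IsIso φ := by
  have := isStronglyCartesian_of_isFibGrpd h f φ
  exact Functor.IsStronglyCartesian.isIso_of_base_isIso p f φ

/-- In a category fibred in groupoids a morphism over an identity is an isomorphism. -/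
theorem isIso_of_isFibGrpd_id (h : IsFibGrpd p) {R : C} {a b : 𝒳}
    (φ : a ⟶ b) [p.IsHomLift (𝟙 R) φ] : IsIso φ :=
  isIso_of_isFibGrpd h (𝟙 R) φ

/-- A flexible form of the existence of lifts in a category fibred in groupoids. -/
theorem exists_lift_of_isFibGrpd (h : IsFibGrpd p) {x : 𝒳} {V S : C} (hS : p.obj x = S)
    (f : V ⟶ S) : ∃ (y : 𝒳) (φ : y ⟶ x), p.IsHomLift f φ := by
  subst hS
  exact h.exists_lift f

/-- Every morphism is strongly cartesian with respect to the identity functor. -/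
theorem isStronglyCartesian_id_functor {R S : C} (f : R ⟶ S) {a b : C} (φ : a ⟶ b)
    [(𝟭 C).IsHomLift f φ] : (𝟭 C).IsStronglyCartesian f φ := by
  subst_hom_lift (𝟭 C) f φ
  refine { toIsHomLift := inferInstance, universal_property' := ?_ }
  intro a' g φ' hφ'
  refine ⟨g, ⟨?_, ?_⟩, ?_⟩
  · exact IsHomLift.map (𝟭 C) g
  · have := IsHomLift.eq_of_isHomLift (𝟭 C) (g ≫ (𝟭 C).map φ) φ'
    simpa using this
  · rintro χ ⟨h1, h2⟩
    have := IsHomLift.eq_of_isHomLift (𝟭 C) g χ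
    simpa using this.symm

/-- The forgetful functor of a slice category is fibred in groupoids. -/
theorem isFibGrpd_over_forget (U : C) : IsFibGrpd (Over.forget U) := by
  refine ⟨?_, ?_⟩
  · intro x V f
    change V ⟶ x.left at f
    exact ⟨Over.mk (f ≫ x.hom), Over.homMk (U := Over.mk (f ≫ x.hom)) (V := x) f rfl,
      IsHomLift.map (Over.forget U) (Over.homMk (U := Over.mk (f ≫ x.hom)) (V := x) f rfl)⟩
  · intro y x φ
    refine { toIsHomLift := inferInstance, universal_property' := ?_ }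
    intro a' g φ' hφ'
    let g' : a'.left ⟶ y.left := g
    have e : φ'.left = g' ≫ φ.left := by
      have := IsHomLift.eq_of_isHomLift (Over.forget U) (g ≫ (Over.forget U).map φ) φ'
      simpa using this.symm
    have w : g' ≫ y.hom = a'.hom := by
      rw [← Over.w φ, ← Category.assoc, ← e, Over.w]
    refine ⟨Over.homMk g' w, ⟨?_, ?_⟩, ?_⟩
    · exact IsHomLift.map (Over.forget U) (Over.homMk g' w)
    · ext
      simpa using e.symm
    · rintro χ ⟨h1, h2⟩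
      ext
      have := IsHomLift.eq_of_isHomLift (Over.forget U) g χ
      simpa using this.symm

end plain

section EquivOver

variable {C : Type u} [Category.{v} C] {𝒳 : BasedCategory.{v₂, u₂} C}
  {𝒴 : BasedCategory.{v₃, u₃} C} {𝒵 : BasedCategory.{v₄, u₄} C}

/-- The equivalence of underlying categories given by an equivalence over the base. -/
noncomputable def equivalenceOfIsEquivOver {F : 𝒳 ⥤ᵇ 𝒴} (G : 𝒴 ⥤ᵇ 𝒳)
    (e₁ : BasedFunctor.comp F G ≅ BasedFunctor.id 𝒳)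
    (e₂ : BasedFunctor.comp G F ≅ BasedFunctor.id 𝒴) : 𝒳.obj ≌ 𝒴.obj :=
  CategoryTheory.Equivalence.mk F.toFunctor G.toFunctor
    ((BasedNatTrans.forgetful _ _).mapIso e₁).symm ((BasedNatTrans.forgetful _ _).mapIso e₂)

theorem isEquivalence_of_isEquivOver {F : 𝒳 ⥤ᵇ 𝒴} (h : IsEquivOver F) :
    F.toFunctor.IsEquivalence := by
  obtain ⟨G, ⟨e₁⟩, ⟨e₂⟩⟩ := h
  exact (equivalenceOfIsEquivOver G e₁ e₂).isEquivalence_functor

/-- For a functor `H` over `C`, a morphism that is strongly cartesian over `C` and whose image is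
strongly cartesian over `C` is strongly cartesian with respect to `H`. -/
theorem isStronglyCartesian_basedFunctor (H : 𝒳 ⥤ᵇ 𝒴) {a' a : 𝒳.obj} (m : a' ⟶ a)
    (h1 : 𝒳.p.IsStronglyCartesian (𝒳.p.map m) m)
    (h2 : 𝒴.p.IsStronglyCartesian (𝒳.p.map m) (H.map m)) :
    H.toFunctor.IsStronglyCartesian (H.map m) m := by
  refine { toIsHomLift := inferInstance, universal_property' := ?_ }
  intro a'' g m' hm'
  have e : H.map m' = g ≫ H.map m :=
    (IsHomLift.eq_of_isHomLift H.toFunctor (g ≫ H.map m) m').symm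
  have ha'' : 𝒴.p.obj (H.obj a'') = 𝒳.p.obj a'' := H.w_obj a''
  have ha' : 𝒴.p.obj (H.obj a') = 𝒳.p.obj a' := H.w_obj a'
  let g₀ : 𝒳.p.obj a'' ⟶ 𝒳.p.obj a' := eqToHom ha''.symm ≫ 𝒴.p.map g ≫ eqToHom ha'
  have hg : 𝒴.p.IsHomLift g₀ g := IsHomLift.of_fac _ _ _ ha'' ha' rfl
  have hm'' : 𝒴.p.IsHomLift (g₀ ≫ 𝒳.p.map m) (H.map m') := by
    rw [e]; infer_instance
  have hm''' : 𝒳.p.IsHomLift (g₀ ≫ 𝒳.p.map m) m' := H.isHomLift_map _ m'
  let χ : a'' ⟶ a' := Functor.IsStronglyCartesian.map 𝒳.p (𝒳.p.map m) m (g := g₀) rfl m'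
  have hχ : 𝒳.p.IsHomLift g₀ χ := by dsimp only [χ]; infer_instance
  have eχ : χ ≫ m = m' := Functor.IsStronglyCartesian.fac _ _ _ _ _
  have hχg : H.map χ = g := by
    have : 𝒴.p.IsHomLift g₀ (H.map χ) := inferInstance
    apply Functor.IsStronglyCartesian.ext 𝒴.p (𝒳.p.map m) (H.map m) g₀
    rw [← H.map_comp, eχ, e]
  refine ⟨χ, ⟨?_, eχ⟩, ?_⟩
  · rw [← hχg]; exact IsHomLift.map H.toFunctor χ
  · rintro χ' ⟨k1, k2⟩
    have e' : H.map χ' = g := (IsHomLift.eq_of_isHomLift H.toFunctor g χ').symm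
    have : 𝒴.p.IsHomLift g₀ (H.map χ') := by rw [e']; exact hg
    have : 𝒳.p.IsHomLift g₀ χ' := H.isHomLift_map _ χ'
    exact Functor.IsStronglyCartesian.map_uniq 𝒳.p (𝒳.p.map m) m rfl m' χ' k2

/-- A functor over `C` between categories fibred in groupoids over `C` is fibred in groupoids as soon
as morphisms to the image of an object lift. -/
theorem isFibGrpd_basedFunctor (H : 𝒳 ⥤ᵇ 𝒴) (h𝒳 : IsFibGrpd 𝒳.p) (h𝒴 : IsFibGrpd 𝒴.p)
    (hl : ∀ {x : 𝒳.obj} {V : 𝒴.obj} (f : V ⟶ H.obj x),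
      ∃ (y : 𝒳.obj) (φ : y ⟶ x), H.toFunctor.IsHomLift f φ) : IsFibGrpd H.toFunctor :=
  ⟨hl, fun m => isStronglyCartesian_basedFunctor H m (h𝒳.isStronglyCartesian m)
    (isStronglyCartesian_of_isFibGrpd h𝒴 _ _)⟩

theorem isEquivOver_id : IsEquivOver (BasedFunctor.id 𝒳) :=
  ⟨BasedFunctor.id 𝒳, ⟨Iso.refl _⟩, ⟨Iso.refl _⟩⟩

end EquivOver

section fp

variable {C : Type u} [Category.{v} C] {𝒳 : BasedCategory.{v₂, u₂} C}
  {𝒴 : BasedCategory.{v₃, u₃} C} {𝒮 : BasedCategory.{v₄, u₄} C} (F : 𝒳 ⥤ᵇ 𝒮) (G : 𝒴 ⥤ᵇ 𝒮)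

variable {F G}

theorem fp_p_map {X Y : (fp F G).obj} (m : X ⟶ Y) : (fp F G).p.map m = 𝒳.p.map m.hom.fst := rfl

theorem fp_isHomLift_fst {X Y : (fp F G).obj} (m : X ⟶ Y) {R S : C} (f : R ⟶ S)
    [(fp F G).p.IsHomLift f m] : 𝒳.p.IsHomLift f m.hom.fst := by
  subst_hom_lift (fp F G).p f m
  exact IsHomLift.map 𝒳.p m.hom.fst

theorem fp_isHomLift_snd' {X Y : (fp F G).obj} (m : X ⟶ Y) {R S : C} (f : R ⟶ S)
    [(fp F G).p.IsHomLift f m] : 𝒴.p.IsHomLift f m.hom.snd := by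
  subst_hom_lift (fp F G).p f m
  exact fp_isHomLift_snd F G m

theorem fp_isHomLift_of_fst {X Y : (fp F G).obj} (m : X ⟶ Y) {R S : C} (f : R ⟶ S)
    (h : 𝒳.p.IsHomLift f m.hom.fst) : (fp F G).p.IsHomLift f m := by
  have h1 : 𝒳.p.obj X.obj.fst = R := IsHomLift.domain_eq 𝒳.p f m.hom.fst
  have h2 : 𝒳.p.obj Y.obj.fst = S := IsHomLift.codomain_eq 𝒳.p f m.hom.fst
  exact IsHomLift.of_fac (fp F G).p f m h1 h2 (IsHomLift.fac 𝒳.p f m.hom.fst)

theorem fp_obj_iso_isHomLift (X : (fp F G).obj) :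
    𝒮.p.IsHomLift (𝟙 (𝒳.p.obj X.obj.fst)) X.obj.iso.hom := X.property

theorem fp_obj_iso_isHomLift' (X : (fp F G).obj) {R : C} (hR : 𝒳.p.obj X.obj.fst = R) :
    𝒮.p.IsHomLift (𝟙 R) X.obj.iso.hom := by
  subst hR; exact X.property

theorem fp_obj_snd_proj (X : (fp F G).obj) : 𝒴.p.obj X.obj.snd = 𝒳.p.obj X.obj.fst := by
  have := fp_obj_iso_isHomLift X
  rw [← G.w_obj]
  exact IsHomLift.codomain_eq 𝒮.p (𝟙 (𝒳.p.obj X.obj.fst)) X.obj.iso.hom

/-- A morphism of `fp F G` whose two components are strongly cartesian, the image of the second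
in `𝒮` being strongly cartesian as well, is strongly cartesian. -/
theorem fp_isStronglyCartesian {X' X : (fp F G).obj} (m : X' ⟶ X) {R S : C} (f : R ⟶ S)
    (h1 : 𝒳.p.IsStronglyCartesian f m.hom.fst) (h2 : 𝒴.p.IsStronglyCartesian f m.hom.snd)
    (h3 : 𝒮.p.IsStronglyCartesian f (G.map m.hom.snd)) : (fp F G).p.IsStronglyCartesian f m := by
  have hm : (fp F G).p.IsHomLift f m := fp_isHomLift_of_fst m f h1.toIsHomLift
  refine { toIsHomLift := hm, universal_property' := ?_ }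
  intro X'' g m' hm'
  have hm'1 : 𝒳.p.IsHomLift (g ≫ f) m'.hom.fst := fp_isHomLift_fst m' (g ≫ f)
  have hm'2 : 𝒴.p.IsHomLift (g ≫ f) m'.hom.snd := fp_isHomLift_snd' m' (g ≫ f)
  have hR : 𝒳.p.obj X'.obj.fst = R := IsHomLift.domain_eq 𝒳.p f m.hom.fst
  let χ₁ : X''.obj.fst ⟶ X'.obj.fst :=
    Functor.IsStronglyCartesian.map 𝒳.p f m.hom.fst (g := g) rfl m'.hom.fst
  let χ₂ : X''.obj.snd ⟶ X'.obj.snd :=
    Functor.IsStronglyCartesian.map 𝒴.p f m.hom.snd (g := g) rfl m'.hom.snd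
  have hχ₁ : 𝒳.p.IsHomLift g χ₁ := by dsimp only [χ₁]; infer_instance
  have hχ₂ : 𝒴.p.IsHomLift g χ₂ := by dsimp only [χ₂]; infer_instance
  have eχ₁ : χ₁ ≫ m.hom.fst = m'.hom.fst := Functor.IsStronglyCartesian.fac _ _ _ _ _
  have eχ₂ : χ₂ ≫ m.hom.snd = m'.hom.snd := Functor.IsStronglyCartesian.fac _ _ _ _ _
  have hX' : 𝒮.p.IsHomLift (𝟙 R) X'.obj.iso.hom := fp_obj_iso_isHomLift' X' hR
  have hX'' : 𝒮.p.IsHomLift (𝟙 ((fp F G).p.obj X'')) X''.obj.iso.hom := X''.property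
  have w : F.map χ₁ ≫ X'.obj.iso.hom = X''.obj.iso.hom ≫ G.map χ₂ := by
    have l1 : 𝒮.p.IsHomLift g (F.map χ₁ ≫ X'.obj.iso.hom) := inferInstance
    have l2 : 𝒮.p.IsHomLift g (X''.obj.iso.hom ≫ G.map χ₂) := inferInstance
    apply Functor.IsStronglyCartesian.ext 𝒮.p f (G.map m.hom.snd) g
    rw [Category.assoc, ← m.hom.w, ← Category.assoc, ← F.map_comp, eχ₁, m'.hom.w, Category.assoc,
      ← G.map_comp, eχ₂]
  refine ⟨ObjectProperty.homMk ⟨χ₁, χ₂, w⟩, ⟨?_, ?_⟩, ?_⟩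
  · exact fp_isHomLift_of_fst _ g hχ₁
  · apply ObjectProperty.hom_ext
    apply CategoricalPullback.hom_ext
    · exact eχ₁
    · exact eχ₂
  · rintro χ' ⟨hχ'1, hχ'2⟩
    have a1 : 𝒳.p.IsHomLift g χ'.hom.fst := fp_isHomLift_fst χ' g
    have a2 : 𝒴.p.IsHomLift g χ'.hom.snd := fp_isHomLift_snd' χ' g
    apply ObjectProperty.hom_ext
    apply CategoricalPullback.hom_ext
    · exact Functor.IsStronglyCartesian.map_uniq 𝒳.p f m.hom.fst rfl m'.hom.fst χ'.hom.fst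
        (by rw [← hχ'2]; rfl)
    · exact Functor.IsStronglyCartesian.map_uniq 𝒴.p f m.hom.snd rfl m'.hom.snd χ'.hom.snd
        (by rw [← hχ'2]; rfl)

section lift

variable (X : (fp F G).obj) {R : C} (f : R ⟶ 𝒳.p.obj X.obj.fst) {x' : 𝒳.obj}
  (φ : x' ⟶ X.obj.fst) {y' : 𝒴.obj} (ψ : y' ⟶ X.obj.snd)
  (h1 : 𝒳.p.IsHomLift f φ) (h2 : 𝒴.p.IsHomLift f ψ)
  (h3 : 𝒮.p.IsStronglyCartesian f (F.map φ)) (h4 : 𝒮.p.IsStronglyCartesian f (G.map ψ))

include h1 in
theorem fpLift_aux1 : 𝒮.p.IsHomLift f (F.map φ ≫ X.obj.iso.hom) := by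
  have := fp_obj_iso_isHomLift X
  infer_instance

include h2 in
theorem fpLift_aux2 : 𝒮.p.IsHomLift f (G.map ψ ≫ X.obj.iso.inv) := by
  have := fp_obj_iso_isHomLift X
  have : 𝒮.p.IsHomLift (𝟙 (𝒳.p.obj X.obj.fst)) X.obj.iso.inv := inferInstance
  infer_instance

/-- The isomorphism `F x' ≅ G y'` induced on strongly cartesian lifts. -/
noncomputable def fpLiftIso : F.obj x' ≅ G.obj y' :=
  haveI := fpLift_aux1 X f φ h1
  haveI := fpLift_aux2 X f ψ h2
  haveI : 𝒮.p.IsHomLift (𝟙 R) (𝟙 (F.obj x')) :=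
    IsHomLift.id (by rw [F.w_obj]; exact IsHomLift.domain_eq 𝒳.p f φ)
  haveI : 𝒮.p.IsHomLift (𝟙 R) (𝟙 (G.obj y')) :=
    IsHomLift.id (by rw [G.w_obj]; exact IsHomLift.domain_eq 𝒴.p f ψ)
  { hom := Functor.IsStronglyCartesian.map 𝒮.p f (G.map ψ) (g := 𝟙 R) (f' := f)
      (Category.id_comp f).symm (F.map φ ≫ X.obj.iso.hom)
    inv := Functor.IsStronglyCartesian.map 𝒮.p f (F.map φ) (g := 𝟙 R) (f' := f)
      (Category.id_comp f).symm (G.map ψ ≫ X.obj.iso.inv)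
    hom_inv_id := by
      apply Functor.IsStronglyCartesian.ext 𝒮.p f (F.map φ) (𝟙 R)
      simp
    inv_hom_id := by
      apply Functor.IsStronglyCartesian.ext 𝒮.p f (G.map ψ) (𝟙 R)
      simp }

theorem fpLiftIso_hom_isHomLift :
    𝒮.p.IsHomLift (𝟙 R) (fpLiftIso X f φ ψ h1 h2 h3 h4).hom := by
  have := fpLift_aux1 X f φ h1
  dsimp only [fpLiftIso]
  infer_instance

theorem fpLiftIso_hom_comp :
    (fpLiftIso X f φ ψ h1 h2 h3 h4).hom ≫ G.map ψ = F.map φ ≫ X.obj.iso.hom := by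
  have := fpLift_aux1 X f φ h1
  dsimp only [fpLiftIso]
  exact Functor.IsStronglyCartesian.fac _ _ _ _ _

/-- The lifted object `(x', y', θ')` of `fp F G`. -/
noncomputable def fpLiftObj : (fp F G).obj :=
  ⟨⟨x', y', fpLiftIso X f φ ψ h1 h2 h3 h4⟩, by
    have e : 𝒳.p.obj x' = R := IsHomLift.domain_eq 𝒳.p f φ
    have := fpLiftIso_hom_isHomLift X f φ ψ h1 h2 h3 h4
    change 𝒮.p.IsHomLift (𝟙 (𝒳.p.obj x')) (fpLiftIso X f φ ψ h1 h2 h3 h4).hom
    rw [e]; exact this⟩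

/-- The lifted morphism `(φ, ψ) : (x', y', θ') ⟶ X` of `fp F G`. -/
noncomputable def fpLiftHom : fpLiftObj X f φ ψ h1 h2 h3 h4 ⟶ X :=
  ObjectProperty.homMk ⟨φ, ψ, (fpLiftIso_hom_comp X f φ ψ h1 h2 h3 h4).symm⟩

@[simp] theorem fpLiftHom_fst : (fpLiftHom X f φ ψ h1 h2 h3 h4).hom.fst = φ := rfl
@[simp] theorem fpLiftHom_snd : (fpLiftHom X f φ ψ h1 h2 h3 h4).hom.snd = ψ := rfl

theorem fpLiftHom_isHomLift : (fp F G).p.IsHomLift f (fpLiftHom X f φ ψ h1 h2 h3 h4) :=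
  fp_isHomLift_of_fst _ f h1

end lift

end fp

section inertia

variable {C : Type u} [Category.{v} C] {𝒳 : BasedCategory.{v₂, u₂} C}
  {𝒴 : BasedCategory.{v₃, u₃} C} {F : 𝒳 ⥤ᵇ 𝒴}

theorem inertia_aut_isHomLift (X : InertiaObj F) :
    𝒳.p.IsHomLift (𝟙 (𝒳.p.obj X.pt)) X.aut.hom := by
  have : 𝒴.p.IsHomLift (𝟙 (𝒳.p.obj X.pt)) (F.map X.aut.hom) := by
    rw [X.map_aut]; infer_instance
  exact F.isHomLift_map _ _

theorem inertia_aut_isHomLift' (X : InertiaObj F) {R : C} (hR : 𝒳.p.obj X.pt = R) :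
    𝒳.p.IsHomLift (𝟙 R) X.aut.hom := by
  subst hR; exact inertia_aut_isHomLift X

theorem inertia_isHomLift_hom {X Y : (inertia F).obj} (m : X ⟶ Y) {R S : C} (f : R ⟶ S)
    [(inertia F).p.IsHomLift f m] : 𝒳.p.IsHomLift f m.hom := by
  subst_hom_lift (inertia F).p f m
  exact IsHomLift.map 𝒳.p m.hom

theorem inertia_isHomLift_of_hom {X Y : (inertia F).obj} (m : X ⟶ Y) {R S : C} (f : R ⟶ S)
    (h : 𝒳.p.IsHomLift f m.hom) : (inertia F).p.IsHomLift f m := by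
  have h1 : 𝒳.p.obj X.pt = R := IsHomLift.domain_eq 𝒳.p f m.hom
  have h2 : 𝒳.p.obj Y.pt = S := IsHomLift.codomain_eq 𝒳.p f m.hom
  exact IsHomLift.of_fac (inertia F).p f m h1 h2 (IsHomLift.fac 𝒳.p f m.hom)

/-- A morphism of the inertia whose underlying morphism is strongly cartesian is strongly
cartesian. -/
theorem inertia_isStronglyCartesian {X' X : (inertia F).obj} (m : X' ⟶ X) {R S : C} (f : R ⟶ S)
    (h : 𝒳.p.IsStronglyCartesian f m.hom) : (inertia F).p.IsStronglyCartesian f m := by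
  have hm : (inertia F).p.IsHomLift f m := inertia_isHomLift_of_hom m f h.toIsHomLift
  refine { toIsHomLift := hm, universal_property' := ?_ }
  intro X'' g m' hm'
  have hm'1 : 𝒳.p.IsHomLift (g ≫ f) m'.hom := inertia_isHomLift_hom m' (g ≫ f)
  have hR : 𝒳.p.obj X'.pt = R := IsHomLift.domain_eq 𝒳.p f m.hom
  let χ : X''.pt ⟶ X'.pt := Functor.IsStronglyCartesian.map 𝒳.p f m.hom (g := g) rfl m'.hom
  have hχ : 𝒳.p.IsHomLift g χ := by dsimp only [χ]; infer_instance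
  have eχ : χ ≫ m.hom = m'.hom := Functor.IsStronglyCartesian.fac _ _ _ _ _
  have hX' : 𝒳.p.IsHomLift (𝟙 R) X'.aut.hom := inertia_aut_isHomLift' X' hR
  have hX'' : 𝒳.p.IsHomLift (𝟙 ((inertia F).p.obj X'')) X''.aut.hom := inertia_aut_isHomLift X''
  have w : X''.aut.hom ≫ χ = χ ≫ X'.aut.hom := by
    have l1 : 𝒳.p.IsHomLift g (X''.aut.hom ≫ χ) := inferInstance
    have l2 : 𝒳.p.IsHomLift g (χ ≫ X'.aut.hom) := inferInstance
    apply Functor.IsStronglyCartesian.ext 𝒳.p f m.hom g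
    rw [Category.assoc, eχ, m'.comm, Category.assoc, m.comm, ← Category.assoc, eχ]
  refine ⟨⟨χ, w⟩, ⟨inertia_isHomLift_of_hom _ g hχ, ?_⟩, ?_⟩
  · apply InertiaObj.hom_ext
    exact eχ
  · rintro χ' ⟨k1, k2⟩
    have a1 : 𝒳.p.IsHomLift g χ'.hom := inertia_isHomLift_hom χ' g
    apply InertiaObj.hom_ext
    exact Functor.IsStronglyCartesian.map_uniq 𝒳.p f m.hom rfl m'.hom χ'.hom
      (by rw [← k2]; rfl)

section lift

variable (X : InertiaObj F) {R : C} (f : R ⟶ 𝒳.p.obj X.pt) {x' : 𝒳.obj}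
  (φ : x' ⟶ X.pt) (h1 : 𝒳.p.IsStronglyCartesian f φ) (h2 : 𝒴.p.IsStronglyCartesian f (F.map φ))

include h1 in
theorem inertiaLift_aux1 : 𝒳.p.IsHomLift f (φ ≫ X.aut.hom) := by
  have := inertia_aut_isHomLift X
  infer_instance

include h1 in
theorem inertiaLift_aux2 : 𝒳.p.IsHomLift f (φ ≫ X.aut.inv) := by
  have := inertia_aut_isHomLift X
  have : 𝒳.p.IsHomLift (𝟙 (𝒳.p.obj X.pt)) X.aut.inv := inferInstance
  infer_instance

/-- The automorphism induced on a strongly cartesian lift. -/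
noncomputable def inertiaLiftIso : x' ≅ x' :=
  haveI := inertiaLift_aux1 X f φ h1
  haveI := inertiaLift_aux2 X f φ h1
  haveI : 𝒳.p.IsHomLift (𝟙 R) (𝟙 x') := IsHomLift.id (IsHomLift.domain_eq 𝒳.p f φ)
  { hom := Functor.IsStronglyCartesian.map 𝒳.p f φ (g := 𝟙 R) (f' := f)
      (Category.id_comp f).symm (φ ≫ X.aut.hom)
    inv := Functor.IsStronglyCartesian.map 𝒳.p f φ (g := 𝟙 R) (f' := f)
      (Category.id_comp f).symm (φ ≫ X.aut.inv)
    hom_inv_id := by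
      apply Functor.IsStronglyCartesian.ext 𝒳.p f φ (𝟙 R)
      simp
    inv_hom_id := by
      apply Functor.IsStronglyCartesian.ext 𝒳.p f φ (𝟙 R)
      simp }

theorem inertiaLiftIso_hom_isHomLift : 𝒳.p.IsHomLift (𝟙 R) (inertiaLiftIso X f φ h1).hom := by
  have := inertiaLift_aux1 X f φ h1
  dsimp only [inertiaLiftIso]
  infer_instance

theorem inertiaLiftIso_hom_comp :
    (inertiaLiftIso X f φ h1).hom ≫ φ = φ ≫ X.aut.hom := by
  have := inertiaLift_aux1 X f φ h1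
  dsimp only [inertiaLiftIso]
  exact Functor.IsStronglyCartesian.fac _ _ _ _ _

include h2 in
theorem inertiaLiftIso_map_aut :
    F.map (inertiaLiftIso X f φ h1).hom = 𝟙 (F.obj x') := by
  have := inertiaLiftIso_hom_isHomLift X f φ h1
  have l1 : 𝒴.p.IsHomLift (𝟙 R) (F.map (inertiaLiftIso X f φ h1).hom) := inferInstance
  have l2 : 𝒴.p.IsHomLift (𝟙 R) (𝟙 (F.obj x')) :=
    IsHomLift.id (by rw [F.w_obj]; exact IsHomLift.domain_eq 𝒳.p f φ)
  apply Functor.IsStronglyCartesian.ext 𝒴.p f (F.map φ) (𝟙 R)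
  rw [← F.map_comp, inertiaLiftIso_hom_comp, F.map_comp, X.map_aut, Category.comp_id,
    Category.id_comp]

/-- The lifted object of the inertia. -/
noncomputable def inertiaLiftObj : InertiaObj F :=
  ⟨x', inertiaLiftIso X f φ h1, inertiaLiftIso_map_aut X f φ h1 h2⟩

/-- The lifted morphism of the inertia. -/
noncomputable def inertiaLiftHom :
    (inertiaLiftObj X f φ h1 h2 : (inertia F).obj) ⟶ (X : (inertia F).obj) :=
  ⟨φ, inertiaLiftIso_hom_comp X f φ h1⟩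

@[simp] theorem inertiaLiftHom_hom : (inertiaLiftHom X f φ h1 h2).hom = φ := rfl

end lift

end inertia

end Groth.Agent.Lib.FibCat_helper6
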