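import Mathlib
import Groth.Agent.Lib.MultTrivAlg_helper4

/-!
# Algebra core: a natural action of the characters of a commutative monoid on the points of a
finitely generated algebra, which is trivial on all fibres, is trivial (helper4)

Weight-space decomposition plus Nakayama's lemma on the local rings of the algebra.
-/

set_option autoImplicit false
set_option linter.unusedVariables false
set_option linter.unusedTactic false
set_option linter.unreachableTactic false
set_option linter.unusedSectionVars false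
set_option linter.style.haveILetI false
set_option linter.deprecated false
set_option linter.unusedSimpArgs false
set_option linter.style.longLine false
set_option maxHeartbeats 1600000

universe u

namespace Groth.Agent.Lib.FibTrivH4

open Groth.Agent.Lib.MultTrivH4

section Alg

variable {R' A' : Type u} [CommRing R'] [CommRing A'] [Algebra R' A'] {G : Type} [CommMonoid G]

theorem eq_single_one_of_coeff {B : Type u} [CommRing B] (x : MonoidAlgebra B G)
    (h : ∀ m : G, m ≠ 1 → x.coeff m = 0) : x = MonoidAlgebra.single 1 (x.coeff 1) := by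
  classical
  apply MonoidAlgebra.coeff_injective
  apply Finsupp.ext
  intro m
  rw [MonoidAlgebra.coeff_single, Finsupp.single_apply]
  split_ifs with hm
  · rw [← hm]
  · exact h m (Ne.symm hm)

/-- **Algebra core, fibrewise form.** A natural action of characters `G →* C` on points
`A' →ₐ[R'] C` of a finitely generated algebra, compatible with products of characters, which is
trivial on all algebras living over a residue field of `R'`, is trivial. -/
theorem alg_core_fib (hft : Algebra.FiniteType R' A')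
    (act : ∀ (C : Type u) [CommRing C] [Algebra R' C], (G →* C) → (A' →ₐ[R'] C) → (A' →ₐ[R'] C))
    (hnat : ∀ (C C' : Type u) [CommRing C] [CommRing C'] [Algebra R' C] [Algebra R' C']
      (θ : C →ₐ[R'] C') (ψ : G →* C) (ξ : A' →ₐ[R'] C),
      θ.comp (act C ψ ξ) = act C' (θ.toRingHom.toMonoidHom.comp ψ) (θ.comp ξ))
    (hmul : ∀ (C : Type u) [CommRing C] [Algebra R' C] (ψ ψ' : G →* C) (ξ : A' →ₐ[R'] C),
      act C (ψ * ψ') ξ = act C ψ (act C ψ' ξ))
    (hone : ∀ (C : Type u) [CommRing C] [Algebra R' C] (ξ : A' →ₐ[R'] C), act C 1 ξ = ξ)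
    (htriv : ∀ (𝔭 : Ideal R') [𝔭.IsPrime] (C : Type u) [CommRing C] [Algebra R' C],
      (∀ r ∈ 𝔭, algebraMap R' C r = 0) → (∀ r, r ∉ 𝔭 → IsUnit (algebraMap R' C r)) →
      ∀ (ψ : G →* C) (ξ : A' →ₐ[R'] C), act C ψ ξ = ξ)
    (C : Type u) [CommRing C] [Algebra R' C] (ψ : G →* C) (ξ : A' →ₐ[R'] C) :
    act C ψ ξ = ξ := by
  classical
  obtain ⟨ρ, hρ⟩ : ∃ ρ : A' →ₐ[R'] MonoidAlgebra A' G,
      ρ = act (MonoidAlgebra A' G) (MonoidAlgebra.of A' G)
        (MonoidAlgebra.singleOneAlgHom : A' →ₐ[R'] MonoidAlgebra A' G) := ⟨_, rfl⟩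
  -- everything is determined by `ρ`
  have hN : ∀ (C : Type u) [CommRing C] [Algebra R' C] (ψ : G →* C) (ξ : A' →ₐ[R'] C),
      act C ψ ξ = (lft ψ ξ).comp ρ := by
    intro C _ _ ψ ξ
    have h := hnat (MonoidAlgebra A' G) C (lft ψ ξ) (MonoidAlgebra.of A' G)
      (MonoidAlgebra.singleOneAlgHom : A' →ₐ[R'] MonoidAlgebra A' G)
    rw [lft_comp_of, lft_comp_singleOne, ← hρ] at h
    exact h.symm
  -- weight property
  have hW : ∀ (a : A') (m : G),
      ρ ((ρ a).coeff m) = MonoidAlgebra.single m ((ρ a).coeff m) := by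
    intro a m
    have hΘa : (MonoidAlgebra.mapAlgHom G ρ).toRingHom.toMonoidHom.comp (MonoidAlgebra.of A' G) =
        MonoidAlgebra.of (MonoidAlgebra A' G) G := by
      apply MonoidHom.ext
      intro g
      show MonoidAlgebra.mapAlgHom G ρ (MonoidAlgebra.single g 1) = MonoidAlgebra.single g 1
      rw [MonoidAlgebra.mapAlgHom_single, map_one]
    have hΘb : (MonoidAlgebra.mapAlgHom G ρ).comp
        (MonoidAlgebra.singleOneAlgHom : A' →ₐ[R'] MonoidAlgebra A' G) =
        (th0 (R' := R') (A' := A') (G := G)).comp ρ := by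
      apply AlgHom.ext
      intro c
      show MonoidAlgebra.mapAlgHom G ρ (MonoidAlgebra.single 1 c) = MonoidAlgebra.single 1 (ρ c)
      rw [MonoidAlgebra.mapAlgHom_single]
    have h1 := hmul (MonoidAlgebra (MonoidAlgebra A' G) G)
      (MonoidAlgebra.of (MonoidAlgebra A' G) G)
      ((th0 (R' := R') (A' := A') (G := G)).toRingHom.toMonoidHom.comp (MonoidAlgebra.of A' G))
      ((th0 (R' := R') (A' := A') (G := G)).comp
        (MonoidAlgebra.singleOneAlgHom : A' →ₐ[R'] MonoidAlgebra A' G))
    have h2 := hnat (MonoidAlgebra A' G) (MonoidAlgebra (MonoidAlgebra A' G) G)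
      (th0 (R' := R') (A' := A') (G := G)) (MonoidAlgebra.of A' G)
      (MonoidAlgebra.singleOneAlgHom : A' →ₐ[R'] MonoidAlgebra A' G)
    rw [← hρ] at h2
    have h3 := hnat (MonoidAlgebra A' G) (MonoidAlgebra (MonoidAlgebra A' G) G)
      (MonoidAlgebra.mapAlgHom G ρ) (MonoidAlgebra.of A' G)
      (MonoidAlgebra.singleOneAlgHom : A' →ₐ[R'] MonoidAlgebra A' G)
    rw [← hρ, hΘa, hΘb] at h3
    have h4 := hN (MonoidAlgebra (MonoidAlgebra A' G) G)
      (MonoidAlgebra.of (MonoidAlgebra A' G) G *
        (th0 (R' := R') (A' := A') (G := G)).toRingHom.toMonoidHom.comp (MonoidAlgebra.of A' G))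
      ((th0 (R' := R') (A' := A') (G := G)).comp
        (MonoidAlgebra.singleOneAlgHom : A' →ₐ[R'] MonoidAlgebra A' G))
    have h5 : (thD (R' := R') (A' := A') (G := G)).comp ρ =
        (MonoidAlgebra.mapAlgHom G ρ).comp ρ := by
      rw [h3, h2, ← h1]
      exact h4.symm
    have h6 := congrArg (fun F => (F a).coeff m) h5
    simp only [AlgHom.comp_apply] at h6
    rw [coeff_thD, MonoidAlgebra.coeff_mapAlgHom] at h6
    exact h6.symm
  -- the coefficient maps
  have hlin : ∀ m : G, ∃ P : A' →ₗ[R'] A', ∀ a, P a = (ρ a).coeff m := by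
    intro m
    refine ⟨{ toFun := fun a => (ρ a).coeff m
              map_add' := fun x y => by
                rw [map_add, MonoidAlgebra.coeff_add, Finsupp.add_apply]
              map_smul' := fun r x => by
                show (ρ (r • x)).coeff m = r • (ρ x).coeff m
                rw [map_smul, MonoidAlgebra.coeff_smul_apply] }, fun a => rfl⟩
  choose P hP using hlin
  have hidem : ∀ m a, P m (P m a) = P m a := by
    intro m a
    rw [hP m (P m a), hP m a, hW a m, MonoidAlgebra.coeff_single, Finsupp.single_eq_same]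
  -- vanishing on fibral algebras
  have hfibre : ∀ (𝔭 : Ideal R') [𝔭.IsPrime] (D : Type u) [CommRing D] [Algebra R' D],
      (∀ r ∈ 𝔭, algebraMap R' D r = 0) → (∀ r, r ∉ 𝔭 → IsUnit (algebraMap R' D r)) →
      ∀ (γ : A' →ₐ[R'] D) (m : G), m ≠ 1 → ∀ a, γ (P m a) = 0 := by
    intro 𝔭 _ D _ _ hD0 hDu γ m hm a
    have hk0 : ∀ r ∈ 𝔭, algebraMap R' (MonoidAlgebra D G) r = 0 := by
      intro r hr
      rw [MonoidAlgebra.coe_algebraMap]
      show MonoidAlgebra.single 1 (algebraMap R' D r) = 0
      rw [hD0 r hr, MonoidAlgebra.single_zero]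
    have hku : ∀ r, r ∉ 𝔭 → IsUnit (algebraMap R' (MonoidAlgebra D G) r) := by
      intro r hr
      have h1 : algebraMap R' (MonoidAlgebra D G) r =
          (MonoidAlgebra.singleOneRingHom : D →+* MonoidAlgebra D G) (algebraMap R' D r) := by
        rw [MonoidAlgebra.coe_algebraMap]
        rfl
      rw [h1]
      exact (hDu r hr).map _
    have h5 := htriv 𝔭 (MonoidAlgebra D G) hk0 hku
      ((MonoidAlgebra.mapAlgHom G γ).toRingHom.toMonoidHom.comp (MonoidAlgebra.of A' G))
      ((MonoidAlgebra.mapAlgHom G γ).comp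
        (MonoidAlgebra.singleOneAlgHom : A' →ₐ[R'] MonoidAlgebra A' G))
    have h6 := hnat (MonoidAlgebra A' G) (MonoidAlgebra D G)
      (MonoidAlgebra.mapAlgHom G γ) (MonoidAlgebra.of A' G)
      (MonoidAlgebra.singleOneAlgHom : A' →ₐ[R'] MonoidAlgebra A' G)
    rw [h5, ← hρ] at h6
    have h7 := congrArg (fun F => (F a).coeff m) h6
    simp only [AlgHom.comp_apply] at h7
    rw [MonoidAlgebra.coeff_mapAlgHom, MonoidAlgebra.coeff_mapAlgHom] at h7
    have h8 : ((MonoidAlgebra.singleOneAlgHom : A' →ₐ[R'] MonoidAlgebra A' G) a).coeff m = 0 := by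
      show (MonoidAlgebra.single (1 : G) a).coeff m = 0
      rw [MonoidAlgebra.coeff_single, Finsupp.single_apply, if_neg (Ne.symm hm)]
    rw [h8, map_zero] at h7
    rw [hP]
    exact h7
  -- the finitely generated ideal of the non-trivial weights
  obtain ⟨s, hs⟩ := hft.out
  obtain ⟨Tset, hTdef⟩ : ∃ Tset : Set A',
      Tset = {t | ∃ a ∈ s, ∃ m : G, m ≠ 1 ∧ t = P m a} := ⟨_, rfl⟩
  have hTfin : Tset.Finite := by
    have hsub : Tset ⊆ insert 0
        (⋃ a ∈ (s : Set A'), (fun m => P m a) '' ((ρ a).coeff.support : Set G)) := by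
      rw [hTdef]
      rintro t ⟨a, ha, m, hm, rfl⟩
      by_cases hms : m ∈ (ρ a).coeff.support
      · refine Set.mem_insert_of_mem _ ?_
        exact Set.mem_biUnion (Finset.mem_coe.mpr ha) ⟨m, Finset.mem_coe.mpr hms, rfl⟩
      · have h0 : P m a = 0 := by
          rw [hP]
          exact Finsupp.notMem_support_iff.mp hms
        rw [h0]
        exact Set.mem_insert _ _
    refine Set.Finite.subset ?_ hsub
    refine Set.Finite.insert _ ?_
    exact Set.Finite.biUnion s.finite_toSet (fun a _ => (Finset.finite_toSet _).image _)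
  obtain ⟨I', hI'⟩ : ∃ I' : Ideal A', I' = Ideal.span Tset := ⟨_, rfl⟩
  have hI'fg : I'.FG := by
    rw [hI']
    exact Submodule.fg_span hTfin
  -- all non-trivial weight components lie in `I'`
  have hall : ∀ (m : G), m ≠ 1 → ∀ a, P m a ∈ I' := by
    obtain ⟨q, hq⟩ : ∃ q : A' →ₐ[R'] A' ⧸ I', q = Ideal.Quotient.mkₐ R' I' := ⟨_, rfl⟩
    have hq0 : ∀ x, q x = 0 ↔ x ∈ I' := by
      intro x
      rw [hq, Ideal.Quotient.mkₐ_eq_mk, Ideal.Quotient.eq_zero_iff_mem]
    obtain ⟨F₁, hF₁⟩ : ∃ F₁ : A' →ₐ[R'] MonoidAlgebra (A' ⧸ I') G,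
        F₁ = (MonoidAlgebra.mapAlgHom G q).comp ρ := ⟨_, rfl⟩
    obtain ⟨F₂, hF₂⟩ : ∃ F₂ : A' →ₐ[R'] MonoidAlgebra (A' ⧸ I') G,
        F₂ = (MonoidAlgebra.singleOneAlgHom :
          (A' ⧸ I') →ₐ[R'] MonoidAlgebra (A' ⧸ I') G).comp q := ⟨_, rfl⟩
    have hcoef : ∀ a m, (F₁ a).coeff m = q (P m a) := by
      intro a m
      rw [hF₁, AlgHom.comp_apply, MonoidAlgebra.coeff_mapAlgHom, hP]
    have hsum : ∀ a, lft (1 : G →* A' ⧸ I') (AlgHom.id R' (A' ⧸ I')) (F₁ a) = q a := by
      intro a
      have h1 : ∀ x : MonoidAlgebra A' G,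
          lft (1 : G →* A' ⧸ I') (AlgHom.id R' (A' ⧸ I')) (MonoidAlgebra.mapAlgHom G q x) =
            q (lft (1 : G →* A') (AlgHom.id R' A') x) := by
        intro x
        induction x using MonoidAlgebra.induction_linear with
        | zero => simp
        | add x y hx hy => simp only [map_add, hx, hy]
        | single g c =>
          rw [MonoidAlgebra.mapAlgHom_single, lft_single, lft_single]
          simp only [AlgHom.id_apply, MonoidHom.one_apply, mul_one]
      rw [hF₁, AlgHom.comp_apply, h1]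
      have h10 := hone A' (AlgHom.id R' A')
      rw [hN A' 1 (AlgHom.id R' A')] at h10
      have h11 := congrArg (fun F => F a) h10
      simp only [AlgHom.comp_apply, AlgHom.id_apply] at h11
      rw [h11]
    have hgen : ∀ a ∈ s, F₁ a = F₂ a := by
      intro a ha
      have hz : ∀ m : G, m ≠ 1 → (F₁ a).coeff m = 0 := by
        intro m hm
        rw [hcoef, hq0, hI']
        apply Ideal.subset_span
        rw [hTdef]
        exact ⟨a, ha, m, hm, rfl⟩
      have h2 := eq_single_one_of_coeff (F₁ a) hz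
      have h3 := hsum a
      rw [h2, lft_single] at h3
      simp only [AlgHom.id_apply, MonoidHom.one_apply, mul_one] at h3
      rw [h2, h3, hF₂]
      rfl
    have hF : F₁ = F₂ := by
      apply AlgHom.ext_of_adjoin_eq_top hs
      intro a ha
      exact hgen a (Finset.mem_coe.mp ha)
    intro m hm a
    rw [← hq0, ← hcoef, hF, hF₂]
    show (MonoidAlgebra.single (1 : G) (q a)).coeff m = 0
    rw [MonoidAlgebra.coeff_single, Finsupp.single_apply, if_neg (Ne.symm hm)]
  -- Nakayama on the local rings of `A'`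
  have hTzero : ∀ t ∈ Tset, t = 0 := by
    intro t ht
    apply eq_zero_of_localization
    intro J hJ
    haveI : J.IsPrime := hJ.isPrime
    obtain ⟨𝔭, h𝔭⟩ : ∃ 𝔭 : Ideal R', 𝔭 = J.comap (algebraMap R' A') := ⟨_, rfl⟩
    haveI h𝔭prime : 𝔭.IsPrime := by
      rw [h𝔭]
      exact Ideal.comap_isPrime _ _
    obtain ⟨𝔭', h𝔭'⟩ : ∃ 𝔭' : Ideal A', 𝔭' = 𝔭.map (algebraMap R' A') := ⟨_, rfl⟩
    have hkey : ∀ t' ∈ Tset, ∃ f : R', f ∉ 𝔭 ∧
        f • t' ∈ 𝔭 • (I'.restrictScalars R') := by
      intro t' ht'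
      rw [hTdef] at ht'
      obtain ⟨a, ha, m, hm, rfl⟩ := ht'
      have hD0 : ∀ r ∈ 𝔭, algebraMap R'
          (Localization (Algebra.algebraMapSubmonoid (A' ⧸ 𝔭') 𝔭.primeCompl)) r = 0 := by
        intro r hr
        rw [IsScalarTower.algebraMap_apply R' (A' ⧸ 𝔭')
          (Localization (Algebra.algebraMapSubmonoid (A' ⧸ 𝔭') 𝔭.primeCompl))]
        have h0 : algebraMap R' (A' ⧸ 𝔭') r = 0 := by
          rw [← (Ideal.Quotient.mkₐ R' 𝔭').commutes r, Ideal.Quotient.mkₐ_eq_mk,
            Ideal.Quotient.eq_zero_iff_mem, h𝔭']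
          exact Ideal.mem_map_of_mem _ hr
        rw [h0, map_zero]
      have hDu : ∀ r, r ∉ 𝔭 → IsUnit (algebraMap R'
          (Localization (Algebra.algebraMapSubmonoid (A' ⧸ 𝔭') 𝔭.primeCompl)) r) := by
        intro r hr
        rw [IsScalarTower.algebraMap_apply R' (A' ⧸ 𝔭')
          (Localization (Algebra.algebraMapSubmonoid (A' ⧸ 𝔭') 𝔭.primeCompl))]
        exact IsLocalization.map_units _
          (⟨algebraMap R' (A' ⧸ 𝔭') r,
            Algebra.mem_algebraMapSubmonoid_of_mem (⟨r, hr⟩ : 𝔭.primeCompl)⟩ :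
            Algebra.algebraMapSubmonoid (A' ⧸ 𝔭') 𝔭.primeCompl)
      have h1 := hfibre 𝔭 (Localization (Algebra.algebraMapSubmonoid (A' ⧸ 𝔭') 𝔭.primeCompl))
        hD0 hDu
        ((IsScalarTower.toAlgHom R' (A' ⧸ 𝔭')
          (Localization (Algebra.algebraMapSubmonoid (A' ⧸ 𝔭') 𝔭.primeCompl))).comp
          (Ideal.Quotient.mkₐ R' 𝔭')) m hm a
      have h2 : algebraMap (A' ⧸ 𝔭')
          (Localization (Algebra.algebraMapSubmonoid (A' ⧸ 𝔭') 𝔭.primeCompl))
          (Ideal.Quotient.mk 𝔭' (P m a)) = 0 := h1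
      obtain ⟨c, hc⟩ := (IsLocalization.map_eq_zero_iff
        (Algebra.algebraMapSubmonoid (A' ⧸ 𝔭') 𝔭.primeCompl) _ _).mp h2
      obtain ⟨f, hf, hfc⟩ := Submonoid.mem_map.mp c.2
      refine ⟨f, hf, ?_⟩
      have h3 : f • P m a ∈ 𝔭' := by
        rw [← Ideal.Quotient.eq_zero_iff_mem, Algebra.smul_def, map_mul]
        rw [← hfc] at hc
        exact hc
      have h4 : f • P m a ∈ 𝔭 • (⊤ : Submodule R' A') := by
        rw [Ideal.smul_top_eq_map, ← h𝔭']
        exact h3
      have h5 : P m (f • P m a) ∈ Submodule.map (P m) (𝔭 • (⊤ : Submodule R' A')) :=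
        Submodule.mem_map_of_mem h4
      rw [Submodule.map_smul'', map_smul, hidem] at h5
      have h6 : Submodule.map (P m) ⊤ ≤ I'.restrictScalars R' := by
        rintro _ ⟨b, -, rfl⟩
        exact hall m hm b
      exact Submodule.smul_mono le_rfl h6 h5
    obtain ⟨N, hN'⟩ : ∃ N : Ideal (Localization.AtPrime J),
        N = I'.map (algebraMap A' (Localization.AtPrime J)) := ⟨_, rfl⟩
    have hNfg : N.FG := by
      rw [hN']
      exact hI'fg.map _
    have hmapsmul : ∀ y ∈ 𝔭 • (I'.restrictScalars R'),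
        algebraMap A' (Localization.AtPrime J) y ∈
          IsLocalRing.maximalIdeal (Localization.AtPrime J) • N := by
      intro y hy
      refine Submodule.smul_induction_on hy ?_ ?_
      · intro r hr x hx
        have hx' : x ∈ I' := hx
        rw [Algebra.smul_def, map_mul, ← smul_eq_mul]
        apply Submodule.smul_mem_smul
        · rw [IsLocalization.AtPrime.to_map_mem_maximal_iff (Localization.AtPrime J) J]
          rw [h𝔭] at hr
          exact hr
        · rw [hN']
          exact Ideal.mem_map_of_mem _ hx'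
      · intro x y hx hy
        rw [map_add]
        exact Submodule.add_mem _ hx hy
    have hgenN : ∀ t' ∈ Tset, algebraMap A' (Localization.AtPrime J) t' ∈
        IsLocalRing.maximalIdeal (Localization.AtPrime J) • N := by
      intro t' ht'
      obtain ⟨f, hf, hf2⟩ := hkey t' ht'
      have hfJ : algebraMap R' A' f ∉ J := by
        intro hcon
        apply hf
        rw [h𝔭]
        exact hcon
      obtain ⟨w, hw⟩ := IsLocalization.map_units (Localization.AtPrime J)
        (⟨algebraMap R' A' f, hfJ⟩ : J.primeCompl)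
      have h3 : algebraMap A' (Localization.AtPrime J) t' =
          (↑w⁻¹ : Localization.AtPrime J) * algebraMap A' (Localization.AtPrime J) (f • t') := by
        rw [Algebra.smul_def, map_mul, ← hw, ← mul_assoc, Units.inv_mul, one_mul]
      rw [h3]
      have h4 := Submodule.smul_mem (IsLocalRing.maximalIdeal (Localization.AtPrime J) • N)
        (↑w⁻¹ : Localization.AtPrime J) (hmapsmul _ hf2)
      rwa [smul_eq_mul] at h4
    have hNle : N ≤ IsLocalRing.maximalIdeal (Localization.AtPrime J) • N := by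
      have h1 : I' ≤ Ideal.comap (algebraMap A' (Localization.AtPrime J))
          (IsLocalRing.maximalIdeal (Localization.AtPrime J) • N) := by
        rw [hI', Ideal.span_le]
        intro t' ht'
        exact hgenN t' ht'
      intro y hy
      rw [hN'] at hy
      exact (Ideal.map_le_iff_le_comap.mpr h1) hy
    have hNbot : N = ⊥ := Submodule.eq_bot_of_le_smul_of_le_jacobson_bot
      (IsLocalRing.maximalIdeal (Localization.AtPrime J)) N hNfg hNle
      (IsLocalRing.maximalIdeal_le_jacobson ⊥)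
    have h9 : algebraMap A' (Localization.AtPrime J) t ∈ N := by
      rw [hN']
      apply Ideal.mem_map_of_mem
      rw [hI']
      exact Ideal.subset_span ht
    rw [hNbot] at h9
    exact (Submodule.mem_bot _).mp h9
  have hzero : ∀ (m : G), m ≠ 1 → ∀ a : A', (ρ a).coeff m = 0 := by
    intro m hm a
    have h1 := hall m hm a
    have h2 : Ideal.span Tset = ⊥ := by
      rw [Ideal.span_eq_bot]
      exact hTzero
    rw [hI', h2, Ideal.mem_bot] at h1
    rw [← hP, h1]
  -- `ρ` is the trivial coaction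
  have hρ1 : ∀ a, ρ a = MonoidAlgebra.single 1 a := by
    intro a
    have h9 := eq_single_one_of_coeff (ρ a) (fun m hm => hzero m hm a)
    have h10 := hone A' (AlgHom.id R' A')
    rw [hN A' 1 (AlgHom.id R' A')] at h10
    have h11 := congrArg (fun F => F a) h10
    simp only [AlgHom.comp_apply, AlgHom.id_apply] at h11
    rw [h9, lft_single] at h11
    simp only [AlgHom.id_apply, MonoidHom.one_apply, mul_one] at h11
    rw [h9, h11]
  rw [hN C ψ ξ]
  apply AlgHom.ext
  intro a
  rw [AlgHom.comp_apply, hρ1, lft_single, map_one, mul_one]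

end Alg

end Groth.Agent.Lib.FibTrivH4
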