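import Mathlib
import Groth.Prelude
import Groth.Agent.Lib.MultTriv_helper4
import Groth.Agent.Lib.FibTrivAlg_helper4

/-!
# A group of multiplicative type acting trivially on all fibres acts trivially (helper4)

Fibrewise analogue of `MultTriv_helper4`; application: a homomorphism from a group of
multiplicative type which is central on all fibres is central.
-/

set_option autoImplicit false
set_option linter.unusedVariables false
set_option linter.unusedTactic false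
set_option linter.unreachableTactic false
set_option linter.unusedSectionVars false
set_option linter.style.haveILetI false
set_option linter.deprecated false
set_option linter.unusedSimpArgs false
set_option linter.style.longLine false
set_option maxHeartbeats 1600000

universe u

open CategoryTheory CategoryTheory.Limits MonoidalCategory CartesianMonoidalCategory MonObj GrpObj
  AlgebraicGeometry Opposite

namespace Groth.Agent.Lib.FibTrivH4

open Groth.Agent.Lib.MultTrivH4 Groth.Agent.Lib.RedDictH8 Groth.Agent.Lib.DSDict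
  Groth.Agent.Lib.MultGa

/-! ### Lifting to the residue field -/

theorem exists_residueField_lift {R' : Type u} [CommRing R'] (𝔭 : Ideal R') [𝔭.IsPrime]
    (C : Type u) [CommRing C] [Algebra R' C]
    (hC0 : ∀ r ∈ 𝔭, algebraMap R' C r = 0) (hCu : ∀ r, r ∉ 𝔭 → IsUnit (algebraMap R' C r)) :
    ∃ χ : 𝔭.ResidueField →+* C, χ.comp (algebraMap R' 𝔭.ResidueField) = algebraMap R' C := by
  have hf₁ : 𝔭 ≤ RingHom.ker (algebraMap R' C) := fun r hr => RingHom.mem_ker.mpr (hC0 r hr)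
  have hf₂ : 𝔭.primeCompl ≤ (IsUnit.submonoid C).comap (algebraMap R' C) := by
    intro r hr
    show algebraMap R' C r ∈ IsUnit.submonoid C
    exact (IsUnit.mem_submonoid_iff _).mpr (hCu r hr)
  refine ⟨Ideal.ResidueField.lift 𝔭 (algebraMap R' C) hf₁ hf₂, ?_⟩
  ext r
  rw [RingHom.comp_apply]
  exact Ideal.ResidueField.lift_algebraMap 𝔭 (algebraMap R' C) hf₁ hf₂ r

/-! ### The local theorem -/

section Loc

variable {S : Scheme.{u}}
  {U : Scheme.{u}} (j : U ⟶ S) (X' : Over U) {M : Type} [AddCommGroup M]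
  (bul : ∀ (T' : Over U), (T' ⟶ Red.DS U M) → (T' ⟶ X') → (T' ⟶ X'))
  (hbnat : ∀ (T'' T' : Over U) (c : T'' ⟶ T') (t : T' ⟶ Red.DS U M) (x' : T' ⟶ X'),
    c ≫ bul T' t x' = bul T'' (c ≫ t) (c ≫ x'))
  (hbmul : ∀ (T' : Over U) (t t' : T' ⟶ Red.DS U M) (x' : T' ⟶ X'),
    bul T' (t * t') x' = bul T' t (bul T' t' x'))
  (hbone : ∀ (T' : Over U) (x' : T' ⟶ X'), bul T' 1 x' = x')
  (hbtriv : ∀ (T' : Over U), (∃ (K : Type u) (_ : Field K)
      (p : T'.left ⟶ Spec (CommRingCat.of K)) (q : Spec (CommRingCat.of K) ⟶ S),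
      p ≫ q = T'.hom ≫ j) →
    ∀ (t : T' ⟶ Red.DS U M) (x' : T' ⟶ X'), bul T' t x' = x')

include hbnat hbtriv in
theorem base_eq_f (T' : Over U) (t : T' ⟶ Red.DS U M) (x' : T' ⟶ X') (z : T'.left) :
    (bul T' t x').left.base z = x'.left.base z := by
  obtain ⟨z₀, hz₀⟩ : ∃ z₀ : ↥(Spec (T'.left.residueField z)),
      (T'.left.fromSpecResidueField z).base z₀ = z := by
    have h : z ∈ Set.range (T'.left.fromSpecResidueField z).base := by
      rw [Scheme.range_fromSpecResidueField]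
      exact Set.mem_singleton z
    exact h
  let T₀ : Over U := Over.mk (T'.left.fromSpecResidueField z ≫ T'.hom)
  let c₀ : T₀ ⟶ T' := Over.homMk (T'.left.fromSpecResidueField z) rfl
  have h1 := hbnat T₀ T' c₀ t x'
  have h2 := hbtriv T₀ ⟨T'.left.residueField z, inferInstance, 𝟙 _,
    T'.left.fromSpecResidueField z ≫ T'.hom ≫ j, by
      show 𝟙 _ ≫ T'.left.fromSpecResidueField z ≫ T'.hom ≫ j =
        (T'.left.fromSpecResidueField z ≫ T'.hom) ≫ j
      rw [Category.id_comp, Category.assoc]⟩ (c₀ ≫ t) (c₀ ≫ x')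
  rw [h2] at h1
  have h3 := congrArg (fun f => f.left.base z₀) h1
  rw [← hz₀]
  exact h3

include hbnat hbmul hbone hbtriv in
theorem local_univ_f {R' A' : Type u} [CommRing R'] [CommRing A'] [Algebra R' A']
    (hft : Algebra.FiniteType R' A')
    (k : Spec (CommRingCat.of R') ⟶ U) (v : Spec (CommRingCat.of A') ⟶ X'.left)
    (hv : v ≫ X'.hom = Spec.map (CommRingCat.ofHom (algebraMap R' A')) ≫ k)
    [IsOpenImmersion v] [Mono k]
    (C : Type u) [CommRing C] [Algebra R' C] (ψ : Multiplicative M →* C) (ξ : A' →ₐ[R'] C) :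
    bul (TB k C) (pt k ψ) (xp k v hv ξ) = xp k v hv ξ := by
  have hex : ∀ (C : Type u) [CommRing C] [Algebra R' C] (ψ : Multiplicative M →* C)
      (ξ : A' →ₐ[R'] C),
      ∃ ξ' : A' →ₐ[R'] C, xp k v hv ξ' = bul (TB k C) (pt k ψ) (xp k v hv ξ) := by
    intro C _ _ ψ ξ
    apply exists_rd k v hv
    rintro _ ⟨z, rfl⟩
    have hb := base_eq_f j X' bul hbnat hbtriv (TB k C) (pt k ψ) (xp k v hv ξ) z
    exact ⟨(Spec.map (CommRingCat.ofHom ξ.toRingHom)).base z, hb.symm⟩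
  obtain ⟨act, hact⟩ : ∃ act : (∀ (C : Type u) [CommRing C] [Algebra R' C],
      (Multiplicative M →* C) → (A' →ₐ[R'] C) → (A' →ₐ[R'] C)),
      ∀ (C : Type u) [CommRing C] [Algebra R' C] (ψ : Multiplicative M →* C) (ξ : A' →ₐ[R'] C),
        xp k v hv (act C ψ ξ) = bul (TB k C) (pt k ψ) (xp k v hv ξ) :=
    ⟨fun C _ _ ψ ξ => (hex C ψ ξ).choose, fun C _ _ ψ ξ => (hex C ψ ξ).choose_spec⟩
  have hcore := alg_core_fib hft act ?_ ?_ ?_ ?_ C ψ ξ
  · rw [← hact, hcore]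
  · -- naturality
    intro C C' _ _ _ _ θ ψ ξ
    apply xp_injective k v hv
    calc xp k v hv (θ.comp (act C ψ ξ)) = specOver k θ ≫ xp k v hv (act C ψ ξ) :=
          (xp_nat k v hv θ _).symm
      _ = specOver k θ ≫ bul (TB k C) (pt k ψ) (xp k v hv ξ) := by rw [hact]
      _ = bul (TB k C') (specOver k θ ≫ pt k ψ) (specOver k θ ≫ xp k v hv ξ) :=
          hbnat _ _ _ _ _
      _ = bul (TB k C') (pt k (θ.toRingHom.toMonoidHom.comp ψ)) (xp k v hv (θ.comp ξ)) := by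
          rw [pt_nat, xp_nat]
      _ = xp k v hv (act C' (θ.toRingHom.toMonoidHom.comp ψ) (θ.comp ξ)) := (hact _ _ _).symm
  · -- multiplicativity
    intro C _ _ ψ ψ' ξ
    apply xp_injective k v hv
    calc xp k v hv (act C (ψ * ψ') ξ) = bul (TB k C) (pt k (ψ * ψ')) (xp k v hv ξ) := hact _ _ _
      _ = bul (TB k C) (pt k ψ * pt k ψ') (xp k v hv ξ) := by rw [pt_mul]
      _ = bul (TB k C) (pt k ψ) (bul (TB k C) (pt k ψ') (xp k v hv ξ)) := hbmul _ _ _ _
      _ = bul (TB k C) (pt k ψ) (xp k v hv (act C ψ' ξ)) := by rw [hact]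
      _ = xp k v hv (act C ψ (act C ψ' ξ)) := (hact _ _ _).symm
  · -- unit
    intro C _ _ ξ
    apply xp_injective k v hv
    rw [hact, pt_one, hbone]
  · -- triviality on the fibres
    intro 𝔭 _ C _ _ hC0 hCu ψ ξ
    apply xp_injective k v hv
    rw [hact]
    apply hbtriv
    obtain ⟨χ, hχ⟩ := exists_residueField_lift 𝔭 C hC0 hCu
    refine ⟨𝔭.ResidueField, inferInstance, Spec.map (CommRingCat.ofHom χ),
      Spec.map (CommRingCat.ofHom (algebraMap R' 𝔭.ResidueField)) ≫ k ≫ j, ?_⟩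
    show Spec.map (CommRingCat.ofHom χ) ≫
        Spec.map (CommRingCat.ofHom (algebraMap R' 𝔭.ResidueField)) ≫ k ≫ j =
      (Spec.map (CommRingCat.ofHom (algebraMap R' C)) ≫ k) ≫ j
    rw [← Category.assoc, ← Spec.map_comp, ← CommRingCat.ofHom_comp, hχ, Category.assoc]

include hbnat hbmul hbone hbtriv in
theorem local_main_f [LocallyOfFiniteType X'.hom]
    (T' : Over U) (t : T' ⟶ Red.DS U M) (x' : T' ⟶ X') : bul T' t x' = x' := by
  apply Over.OverMorphism.ext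
  apply Scheme.hom_ext_of_forall
  intro z
  obtain ⟨U', hU', hzU', -⟩ := exists_isAffineOpen_mem_and_subset
    (x := T'.hom.base z) (U := (⊤ : U.Opens)) trivial
  have hzX : x'.left.base z ∈ X'.hom ⁻¹ᵁ U' := by
    have h := Scheme.Hom.comp_apply x'.left X'.hom z
    rw [Over.w x'] at h
    show X'.hom (x'.left z) ∈ U'
    rw [← h]
    exact hzU'
  obtain ⟨V', hV', hzV', hV'U'⟩ := exists_isAffineOpen_mem_and_subset
    (x := x'.left.base z) (U := X'.hom ⁻¹ᵁ U') hzX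
  obtain ⟨N, hN⟩ : ∃ N : T'.left.Opens, N = x'.left ⁻¹ᵁ V' := ⟨_, rfl⟩
  have hzN : z ∈ N := by rw [hN]; exact hzV'
  refine ⟨N, hzN, ?_⟩
  obtain ⟨cN, hcN⟩ : ∃ cN : Over.mk (N.ι ≫ T'.hom) ⟶ T', cN.left = N.ι :=
    ⟨Over.homMk N.ι rfl, rfl⟩
  have h1 := hbnat _ T' cN t x'
  suffices h2 : bul _ (cN ≫ t) (cN ≫ x') = cN ≫ x' by
    rw [h2] at h1
    have h3 := congrArg (fun f => f.left) h1
    simp only [Over.comp_left] at h3
    rw [hcN] at h3
    exact h3
  letI : Algebra Γ(U, U') Γ(X'.left, V') := (X'.hom.appLE U' V' hV'U').hom.toAlgebra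
  have hft : Algebra.FiniteType Γ(U, U') Γ(X'.left, V') :=
    HasRingHomProperty.appLE @LocallyOfFiniteType X'.hom inferInstance ⟨U', hU'⟩ ⟨V', hV'⟩ hV'U'
  have hv : hV'.fromSpec ≫ X'.hom =
      Spec.map (CommRingCat.ofHom (algebraMap Γ(U, U') Γ(X'.left, V'))) ≫ hU'.fromSpec :=
    (hU'.SpecMap_appLE_fromSpec X'.hom hV' hV'U').symm
  have hrange : Set.range (cN ≫ x').left ⊆ Set.range hV'.fromSpec := by
    rw [hV'.range_fromSpec]
    rintro _ ⟨w, rfl⟩
    have hw : N.ι w ∈ N := ι_mem' N w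
    have hw' : N.ι w ∈ x'.left ⁻¹ᵁ V' := hN.le hw
    have h4 : (cN ≫ x').left = N.ι ≫ x'.left := by
      rw [Over.comp_left, hcN]
    rw [h4, Scheme.Hom.comp_apply]
    exact hw'
  haveI : Mono hU'.fromSpec := inferInstance
  obtain ⟨c, hc1, hc2⟩ := exists_factor (R' := Γ(U, U')) (A' := Γ(X'.left, V'))
    hU'.fromSpec hV'.fromSpec hv (cN ≫ t) (cN ≫ x') hrange
  rw [← hc1, ← hc2, ← hbnat]
  rw [local_univ_f j X' bul hbnat hbmul hbone hbtriv (R' := Γ(U, U'))
    (A' := Γ(X'.left, V')) hft hU'.fromSpec hV'.fromSpec hv]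

end Loc

/-! ### The main theorems -/

section Main

/-- The local form: after a base change `jj : U ⟶ S` making `H` diagonalisable, the action is
trivial. -/
theorem local_apply_f {S : Scheme.{u}} {H X : Over S} [GrpObj H] [LocallyOfFiniteType X.hom]
    (bulS : ∀ (Y : Over S), (Y ⟶ H) → (Y ⟶ X) → (Y ⟶ X))
    (hnat : ∀ (Y' Y : Over S) (c : Y' ⟶ Y) (h : Y ⟶ H) (x : Y ⟶ X),
      c ≫ bulS Y h x = bulS Y' (c ≫ h) (c ≫ x))
    (hmul : ∀ (Y : Over S) (h h' : Y ⟶ H) (x : Y ⟶ X),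
      bulS Y (h * h') x = bulS Y h (bulS Y h' x))
    (hone : ∀ (Y : Over S) (x : Y ⟶ X), bulS Y 1 x = x)
    (htriv : ∀ (Y : Over S), (∃ (K : Type u) (_ : Field K)
        (p : Y.left ⟶ Spec (CommRingCat.of K)) (q : Spec (CommRingCat.of K) ⟶ S),
        p ≫ q = Y.hom) → ∀ (h : Y ⟶ H) (x : Y ⟶ X), bulS Y h x = x)
    {U : Scheme.{u}} (jj : U ⟶ S) {M : Type} [AddCommGroup M]
    (a1 : Red.bc jj H ⟶ Red.DS U M) (ainv : Red.DS U M ⟶ Red.bc jj H) [IsMonHom ainv]
    (h1 : a1 ≫ ainv = 𝟙 _) (Y : Over S) (g : Y ⟶ H) (x : Y ⟶ X) :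
    pullback.fst Y.hom jj ≫ (bulS Y g x).left = pullback.fst Y.hom jj ≫ x.left := by
  haveI : LocallyOfFiniteType (Red.bc jj X).hom := by
    show LocallyOfFiniteType (pullback.snd X.hom jj)
    infer_instance
  have hloc := local_main_f jj (Red.bc jj X)
    (fun T' t x' => unchk jj (bulS ((Over.map jj).obj T') (chk jj (t ≫ ainv)) (chk jj x')))
    (by
      intro T'' T' c t x'
      show c ≫ unchk jj (bulS ((Over.map jj).obj T') (chk jj (t ≫ ainv)) (chk jj x')) =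
        unchk jj (bulS ((Over.map jj).obj T'') (chk jj ((c ≫ t) ≫ ainv)) (chk jj (c ≫ x')))
      rw [← unchk_comp, hnat, ← chk_comp, ← chk_comp, Category.assoc])
    (by
      intro T' t t' x'
      show unchk jj (bulS ((Over.map jj).obj T') (chk jj ((t * t') ≫ ainv)) (chk jj x')) =
        unchk jj (bulS ((Over.map jj).obj T') (chk jj (t ≫ ainv))
          (chk jj (unchk jj (bulS ((Over.map jj).obj T') (chk jj (t' ≫ ainv)) (chk jj x')))))
      rw [chk_unchk, MonObj.mul_comp t t' ainv, chk_mul, hmul])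
    (by
      intro T' x'
      show unchk jj (bulS ((Over.map jj).obj T') (chk jj (1 ≫ ainv)) (chk jj x')) = x'
      rw [MonObj.one_comp, chk_one', hone, unchk_chk])
    (by
      intro T' hp t x'
      obtain ⟨K, iK, p, q, hpq⟩ := hp
      show unchk jj (bulS ((Over.map jj).obj T') (chk jj (t ≫ ainv)) (chk jj x')) = x'
      have h3 : bulS ((Over.map jj).obj T') (chk jj (t ≫ ainv)) (chk jj x') = chk jj x' :=
        htriv ((Over.map jj).obj T') ⟨K, iK, p, q, hpq⟩ _ _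
      rw [h3, unchk_chk])
  -- apply it to the base change of `(g, x)`
  obtain ⟨c, hc⟩ : ∃ c : (Over.map jj).obj (Over.mk (pullback.snd Y.hom jj)) ⟶ Y,
      c.left = pullback.fst Y.hom jj :=
    ⟨Over.homMk (pullback.fst Y.hom jj) pullback.condition, rfl⟩
  have h4 := hloc (Over.mk (pullback.snd Y.hom jj)) (unchk jj (c ≫ g) ≫ a1) (unchk jj (c ≫ x))
  have h5 : unchk jj (bulS _ (chk jj ((unchk jj (c ≫ g) ≫ a1) ≫ ainv))
      (chk jj (unchk jj (c ≫ x)))) = unchk jj (c ≫ x) := h4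
  rw [Category.assoc, h1, Category.comp_id, chk_unchk, chk_unchk] at h5
  have h6 : bulS _ (c ≫ g) (c ≫ x) = c ≫ x := by
    have h7 := congrArg (chk jj) h5
    rw [chk_unchk, chk_unchk] at h7
    exact h7
  rw [← hnat] at h6
  have h8 := congrArg (fun k => k.left) h6
  simp only [Over.comp_left, hc] at h8
  exact h8

/-- **Fibrewise trivial actions are trivial.** -/
theorem main_fib {S : Scheme.{u}} (H X : Over S) [GrpObj H] [LocallyOfFiniteType X.hom]
    (hH : ∃ (S' : Scheme.{u}) (f : S' ⟶ S), Flat f ∧ Surjective f ∧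
      ∀ s' : S', ∃ Uo : S'.Opens, s' ∈ Uo ∧ ∃ (M : Type) (_ : AddCommGroup M),
        Nonempty (Grp.mk (Red.bc (Uo.ι ≫ f) H) ≅ Grp.mk (Red.DS (Uo : Scheme.{u}) M)))
    (bulS : ∀ (Y : Over S), (Y ⟶ H) → (Y ⟶ X) → (Y ⟶ X))
    (hnat : ∀ (Y' Y : Over S) (c : Y' ⟶ Y) (h : Y ⟶ H) (x : Y ⟶ X),
      c ≫ bulS Y h x = bulS Y' (c ≫ h) (c ≫ x))
    (hmul : ∀ (Y : Over S) (h h' : Y ⟶ H) (x : Y ⟶ X),
      bulS Y (h * h') x = bulS Y h (bulS Y h' x))
    (hone : ∀ (Y : Over S) (x : Y ⟶ X), bulS Y 1 x = x)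
    (htriv : ∀ (Y : Over S), (∃ (K : Type u) (_ : Field K)
        (p : Y.left ⟶ Spec (CommRingCat.of K)) (q : Spec (CommRingCat.of K) ⟶ S),
        p ≫ q = Y.hom) → ∀ (h : Y ⟶ H) (x : Y ⟶ X), bulS Y h x = x) :
    ∀ (Y : Over S) (h : Y ⟶ H) (x : Y ⟶ X), bulS Y h x = x := by
  intro Y g x
  obtain ⟨S', f, hflat, hsurj, hloc⟩ := hH
  haveI := hflat
  have key : ∀ y : Y.left, ∃ (Q : Scheme.{u}) (q : Q ⟶ Y.left), Flat q ∧ y ∈ Set.range q ∧
      q ≫ (bulS Y g x).left = q ≫ x.left := by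
    intro y
    obtain ⟨s', hs'⟩ := hsurj.surj (Y.hom y)
    obtain ⟨Uo, hs'U, M, instM, ⟨e⟩⟩ := hloc s'
    obtain ⟨a1, ainv, ha1, hainv, h1, h2⟩ := Groth.Agent.Lib.DiagHom.iso_data e
    haveI := hainv
    refine ⟨pullback Y.hom (Uo.ι ≫ f), pullback.fst Y.hom (Uo.ι ≫ f), inferInstance, ?_, ?_⟩
    · obtain ⟨w, hw, _⟩ := Scheme.Pullback.exists_preimage_pullback (f := Y.hom) (g := Uo.ι ≫ f)
        y (⟨s', hs'U⟩ : Uo) (by
          first
            | exact hs'.symm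
            | (rw [Scheme.Hom.comp_apply]; exact hs'.symm)
            | (simp; exact hs'.symm))
      exact ⟨w, hw⟩
    · exact local_apply_f bulS hnat hmul hone htriv (Uo.ι ≫ f) a1 ainv h1 Y g x
  choose Q q hq1 hq2 hq3 using key
  apply Over.OverMorphism.ext
  haveI : Flat (Sigma.desc q) := flat_sigmaDesc Q q hq1
  haveI : Surjective (Sigma.desc q) := ⟨fun h => by
    obtain ⟨y, hy⟩ := hq2 h
    refine ⟨(Sigma.ι Q h) y, ?_⟩
    rw [← Scheme.Hom.comp_apply, Sigma.ι_desc]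
    exact hy⟩
  haveI : Epi (Sigma.desc q) := Flat.epi_of_flat_of_surjective _
  rw [← cancel_epi (Sigma.desc q)]
  refine Sigma.hom_ext _ _ (fun h => ?_)
  rw [Sigma.ι_desc_assoc, Sigma.ι_desc_assoc]
  exact hq3 h

end Main

end Groth.Agent.Lib.FibTrivH4
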