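import Mathlib
import Groth.Prelude
import Groth.Agent.Lib.FibTriv_helper4

/-!
# A homomorphism from a group of multiplicative type which is central on all fibres is central
(helper4)
-/

set_option autoImplicit false
set_option linter.unusedVariables false
set_option linter.unusedTactic false
set_option linter.unreachableTactic false
set_option linter.unusedSectionVars false
set_option linter.style.haveILetI false
set_option linter.deprecated false
set_option linter.unusedSimpArgs false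
set_option linter.style.longLine false
set_option maxHeartbeats 1600000

universe u

open CategoryTheory CategoryTheory.Limits MonoidalCategory CartesianMonoidalCategory MonObj GrpObj
  AlgebraicGeometry Opposite

namespace Groth.Agent.Lib.FibTrivH4

open Groth.Agent.Lib.MultTrivH4 Groth.Agent.Lib.RedDictH8 Groth.Agent.Lib.DSDict
  Groth.Agent.Lib.MultGa

theorem chk_post {S U : Scheme.{u}} (jj : U ⟶ S) {X Y : Over S} (φ : X ⟶ Y) {T' : Over U}
    (x' : T' ⟶ Red.bc jj X) :
    chk jj (x' ≫ (Over.pullback jj).map φ) = chk jj x' ≫ φ := by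
  unfold chk
  simp only [Functor.map_comp, Category.assoc, eps_nat]

theorem comm_pt {S : Scheme.{u}} {H G : Over S} [GrpObj H] [GrpObj G] (u : H ⟶ G) [IsMonHom u]
    (s : S)
    (hfib : ∀ (X : Over (Spec (S.residueField s)))
      (g : X ⟶ Red.bc (S.fromSpecResidueField s) G)
      (h : X ⟶ Red.bc (S.fromSpecResidueField s) H),
      g * (h ≫ (Over.pullback (S.fromSpecResidueField s)).map u) =
        (h ≫ (Over.pullback (S.fromSpecResidueField s)).map u) * g)
    (X' : Over (Spec (S.residueField s)))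
    (g : (Over.map (S.fromSpecResidueField s)).obj X' ⟶ G)
    (h : (Over.map (S.fromSpecResidueField s)).obj X' ⟶ H) :
    g * (h ≫ u) = (h ≫ u) * g := by
  have h1 := hfib X' (unchk (S.fromSpecResidueField s) g) (unchk (S.fromSpecResidueField s) h)
  have h2 := congrArg (chk (S.fromSpecResidueField s)) h1
  rw [chk_mul, chk_mul, chk_post, chk_unchk, chk_unchk] at h2
  exact h2

theorem comm_of_factor {S : Scheme.{u}} {H G : Over S} [GrpObj H] [GrpObj G] (u : H ⟶ G)
    [IsMonHom u] (s : S)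
    (hfib : ∀ (X : Over (Spec (S.residueField s)))
      (g : X ⟶ Red.bc (S.fromSpecResidueField s) G)
      (h : X ⟶ Red.bc (S.fromSpecResidueField s) H),
      g * (h ≫ (Over.pullback (S.fromSpecResidueField s)).map u) =
        (h ≫ (Over.pullback (S.fromSpecResidueField s)).map u) * g)
    (Yl : Scheme.{u}) (p' : Yl ⟶ Spec (S.residueField s)) (Yh : Yl ⟶ S)
    (hp' : p' ≫ S.fromSpecResidueField s = Yh) (g : Over.mk Yh ⟶ G) (h : Over.mk Yh ⟶ H) :
    g * (h ≫ u) = (h ≫ u) * g := by
  subst hp'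
  exact comm_pt u s hfib (Over.mk p') g h

/-- **SGA3 IX 5.6 (a)**: a homomorphism from a group of multiplicative type to a group locally of
finite type which is central on all fibres is central. -/
theorem main5256 {S : Scheme.{u}} (H G : Over S) [GrpObj H] [GrpObj G]
    (hH : SGA3x.IsMultTypeFT H) [LocallyOfFiniteType G.hom]
    (u : H ⟶ G) [IsMonHom u]
    (hfib : ∀ (s : S) (X : Over (Spec (S.residueField s)))
      (g : X ⟶ Red.bc (S.fromSpecResidueField s) G)
      (h : X ⟶ Red.bc (S.fromSpecResidueField s) H),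
      g * (h ≫ (Over.pullback (S.fromSpecResidueField s)).map u) =
        (h ≫ (Over.pullback (S.fromSpecResidueField s)).map u) * g) :
    ∀ (X : Over S) (g : X ⟶ G) (h : X ⟶ H), g * (h ≫ u) = (h ≫ u) * g := by
  have hH' : ∃ (S' : Scheme.{u}) (f : S' ⟶ S), Flat f ∧ Surjective f ∧
      ∀ s' : S', ∃ Uo : S'.Opens, s' ∈ Uo ∧ ∃ (M : Type) (_ : AddCommGroup M),
        Nonempty (Grp.mk (Red.bc (Uo.ι ≫ f) H) ≅ Grp.mk (Red.DS (Uo : Scheme.{u}) M)) := by
    obtain ⟨S', f, hfl, hsu, -, hloc⟩ := hH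
    refine ⟨S', f, hfl, hsu, fun s' => ?_⟩
    obtain ⟨Uo, hs', M, iM, -, hiso⟩ := hloc s'
    exact ⟨Uo, hs', M, iM, hiso⟩
  have key := main_fib H G hH' (fun Y h g => (h ≫ u) * g * (h ≫ u)⁻¹) ?_ ?_ ?_ ?_
  · intro X g h
    have h2 : (h ≫ u) * g * (h ≫ u)⁻¹ = g := key X h g
    calc g * (h ≫ u) = ((h ≫ u) * g * (h ≫ u)⁻¹) * (h ≫ u) := by rw [h2]
      _ = (h ≫ u) * g := by group
  · -- naturality
    intro Y' Y c h x
    show c ≫ ((h ≫ u) * x * (h ≫ u)⁻¹) = ((c ≫ h) ≫ u) * (c ≫ x) * ((c ≫ h) ≫ u)⁻¹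
    rw [MonObj.comp_mul, MonObj.comp_mul, GrpObj.comp_inv, Category.assoc]
  · -- multiplicativity
    intro Y h h' x
    show ((h * h') ≫ u) * x * ((h * h') ≫ u)⁻¹ =
      (h ≫ u) * ((h' ≫ u) * x * (h' ≫ u)⁻¹) * (h ≫ u)⁻¹
    rw [MonObj.mul_comp h h' u]
    group
  · -- unit
    intro Y x
    show ((1 : Y ⟶ H) ≫ u) * x * ((1 : Y ⟶ H) ≫ u)⁻¹ = x
    rw [MonObj.one_comp]
    group
  · -- triviality on the fibres
    intro Y hY h x
    obtain ⟨K, iK, p, q, hpq⟩ := hY
    show (h ≫ u) * x * (h ≫ u)⁻¹ = x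
    have hq := Scheme.descResidueField_stalkClosedPointTo_fromSpecResidueField K S q
    obtain ⟨s, p', hp'⟩ : ∃ (s : S) (p' : Y.left ⟶ Spec (S.residueField s)),
        p' ≫ S.fromSpecResidueField s = Y.hom := by
      refine ⟨q (IsLocalRing.closedPoint K),
        p ≫ Spec.map (Scheme.descResidueField (Scheme.stalkClosedPointTo q)), ?_⟩
      rw [Category.assoc, hq, hpq]
    have hcomm : x * (h ≫ u) = (h ≫ u) * x := comm_of_factor u s (hfib s) Y.left p' Y.hom hp' x h
    calc (h ≫ u) * x * (h ≫ u)⁻¹ = (x * (h ≫ u)) * (h ≫ u)⁻¹ := by rw [hcomm]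
      _ = x := by group

end Groth.Agent.Lib.FibTrivH4
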