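import Groth.Agent.Lib.FibClv_helper6

set_option autoImplicit false
open CategoryTheory
universe v₁ u₁ v₂ u₂ v₃ u₃
open FibCat

namespace Groth.Agent.Lib.FibClv_helper6

variable {𝒮 : Type u₁} {𝒳 : Type u₂} [Category.{v₁} 𝒮] [Category.{v₂} 𝒳] {p : 𝒳 ⥤ 𝒮}
  (K : FibCat.Cleavage p)

instance lift_comp_lift_id_isHomLift {T S : 𝒮} {a : 𝒳} (ha : p.obj a = S) (f : T ⟶ S) :
    p.IsHomLift f (K.lift (K.obj_proj ha (𝟙 S)) f ≫ K.lift ha (𝟙 S)) := inferInstance

theorem compApp_id_left {T S : 𝒮} {a : 𝒳} (ha : p.obj a = S) (f : T ⟶ S) :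
    compApp K ha (𝟙 S) f ≫ eqToHom (obj_congr K ha (Category.comp_id f)) =
      Functor.IsCartesian.map p f (K.lift ha f)
        (K.lift (K.obj_proj ha (𝟙 S)) f ≫ K.lift ha (𝟙 S)) := by
  apply Functor.IsCartesian.ext p f (K.lift ha f)
  rw [Category.assoc, eqToHom_lift K ha (Category.comp_id f), compApp_fac, Functor.IsCartesian.fac]

end Groth.Agent.Lib.FibClv_helper6
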