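import Groth.Agent.Lib.FibClv2_helper6

set_option autoImplicit false
open CategoryTheory
universe v₁ u₁ v₂ u₂ v₃ u₃
open FibCat

namespace Groth.Agent.Lib.FibClv_helper6

variable {𝒮 : Type u₁} {𝒳 : Type u₂} [Category.{v₁} 𝒮] [Category.{v₂} 𝒳] {p : 𝒳 ⥤ 𝒮}
  (K : FibCat.Cleavage p)

instance lift_comp_compApp_isHomLift {V U T S : 𝒮} {a : 𝒳} (ha : p.obj a = S) (f : T ⟶ S)
    (g : U ⟶ T) (h : V ⟶ U) :
    p.IsHomLift h (K.lift (K.obj_proj (K.obj_proj ha f) g) h ≫ compApp K ha f g) := by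
  have : p.IsHomLift (h ≫ 𝟙 U) (K.lift (K.obj_proj (K.obj_proj ha f) g) h ≫ compApp K ha f g) :=
    inferInstance
  rw [Category.comp_id] at this
  exact this

theorem compApp_cocycle {V U T S : 𝒮} {a : 𝒳} (ha : p.obj a = S) (f : T ⟶ S) (g : U ⟶ T)
    (h : V ⟶ U) :
    compApp K (K.obj_proj ha f) g h ≫ compApp K ha f (h ≫ g) ≫
        eqToHom (obj_congr K ha (Category.assoc h g f)) =
      Functor.IsCartesian.map p h (K.lift (K.obj_proj ha (g ≫ f)) h)
        (K.lift (K.obj_proj (K.obj_proj ha f) g) h ≫ compApp K ha f g) ≫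
          compApp K ha (g ≫ f) h := by
  have h1 : p.IsHomLift (𝟙 V) (compApp K (K.obj_proj ha f) g h ≫ compApp K ha f (h ≫ g) ≫
        eqToHom (obj_congr K ha (Category.assoc h g f))) := by
    have : p.IsHomLift (𝟙 V ≫ 𝟙 V) (compApp K (K.obj_proj ha f) g h ≫ compApp K ha f (h ≫ g) ≫
        eqToHom (obj_congr K ha (Category.assoc h g f))) := inferInstance
    rw [Category.id_comp] at this
    exact this
  have h2 : p.IsHomLift (𝟙 V) (Functor.IsCartesian.map p h (K.lift (K.obj_proj ha (g ≫ f)) h)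
        (K.lift (K.obj_proj (K.obj_proj ha f) g) h ≫ compApp K ha f g) ≫
          compApp K ha (g ≫ f) h) := by
    have : p.IsHomLift (𝟙 V ≫ 𝟙 V) (Functor.IsCartesian.map p h (K.lift (K.obj_proj ha (g ≫ f)) h)
        (K.lift (K.obj_proj (K.obj_proj ha f) g) h ≫ compApp K ha f g) ≫
          compApp K ha (g ≫ f) h) := inferInstance
    rw [Category.id_comp] at this
    exact this
  apply Functor.IsCartesian.ext p (h ≫ g ≫ f) (K.lift ha (h ≫ g ≫ f))
  simp only [Category.assoc]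
  rw [eqToHom_lift K ha (Category.assoc h g f), compApp_fac, compApp_fac_assoc, compApp_fac,
    Functor.IsCartesian.fac_assoc, Category.assoc, compApp_fac]

end Groth.Agent.Lib.FibClv_helper6
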