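import Groth.Agent.Lib.FibClv3_helper6
import Mathlib.CategoryTheory.FiberedCategory.Fibered

set_option autoImplicit false
open CategoryTheory
universe v₁ u₁ v₂ u₂ v₃ u₃
open FibCat

namespace Groth.Agent.Lib.FibClv_helper6

variable {𝒮 : Type u₁} {𝒳 : Type u₂} [Category.{v₁} 𝒮] [Category.{v₂} 𝒳] {p : 𝒳 ⥤ 𝒮}
  (K : FibCat.Cleavage p)

/-- in a fibred category, the chosen lift over an isomorphism is an isomorphism -/
theorem lift_isIso [p.IsFibered] {R S : 𝒮} {a : 𝒳} (ha : p.obj a = S) (f : R ⟶ S) [IsIso f] :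
    IsIso (K.lift ha f) := by
  have : p.IsStronglyCartesian f (K.lift ha f) := inferInstance
  exact Functor.IsStronglyCartesian.isIso_of_base_isIso p f (K.lift ha f)

theorem inverseImage_map_fac {R S : 𝒮} (f : R ⟶ S) {a b : p.Fiber S} (φ : a ⟶ b) :
    Functor.Fiber.fiberInclusion.map ((K.inverseImage f).map φ) ≫ K.lift b.2 f =
      K.lift a.2 f ≫ Functor.Fiber.fiberInclusion.map φ := by
  exact (K.transport f).naturality φ

theorem inverseImage_faithful [p.IsFibered] {R S : 𝒮} (f : R ⟶ S) [IsIso f] :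
    (K.inverseImage f).Faithful where
  map_injective {a b} φ ψ e := by
    have h1 := inverseImage_map_fac K f φ
    have h2 := inverseImage_map_fac K f ψ
    rw [e] at h1
    have h3 : K.lift a.2 f ≫ Functor.Fiber.fiberInclusion.map φ =
        K.lift a.2 f ≫ Functor.Fiber.fiberInclusion.map ψ := h1.symm.trans h2
    have := lift_isIso K a.2 f
    apply Functor.Fiber.hom_ext
    exact (cancel_epi (K.lift a.2 f)).1 h3

theorem inverseImage_full [p.IsFibered] {R S : 𝒮} (f : R ⟶ S) [IsIso f] :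
    (K.inverseImage f).Full where
  map_surjective {a b} m := by
    have hia := lift_isIso K a.2 f
    let m' : K.obj a.2 f ⟶ K.obj b.2 f := m.1
    have hm : p.IsHomLift (𝟙 R) m' := m.2
    have h1 : p.IsHomLift (inv f) (inv (K.lift a.2 f)) := inferInstance
    have h2 : p.IsHomLift (inv f ≫ 𝟙 R ≫ f) (inv (K.lift a.2 f) ≫ m' ≫ K.lift b.2 f) :=
      inferInstance
    have e : inv f ≫ 𝟙 R ≫ f = 𝟙 S := by simp
    rw [e] at h2
    let φ : a ⟶ b := ⟨inv (K.lift a.2 f) ≫ m' ≫ K.lift b.2 f, h2⟩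
    refine ⟨φ, ?_⟩
    apply Functor.Fiber.hom_ext
    rw [Cleavage.inverseImage_map]
    symm
    have h3 : p.IsHomLift f (K.lift a.2 f ≫ Functor.Fiber.fiberInclusion.map φ) := inferInstance
    refine Functor.IsCartesian.map_uniq p f (K.lift b.2 f)
      (K.lift a.2 f ≫ Functor.Fiber.fiberInclusion.map φ) m' ?_
    show m' ≫ K.lift b.2 f = K.lift a.2 f ≫ inv (K.lift a.2 f) ≫ m' ≫ K.lift b.2 f
    rw [IsIso.hom_inv_id_assoc]

/-- an isomorphism of `𝒳` over the identity gives an isomorphism in the fibre -/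
def fiberIsoP {U : 𝒮} {A B : p.Fiber U} (ε : A.1 ≅ B.1)
    (hε : p.IsHomLift (𝟙 U) ε.hom) : A ≅ B where
  hom := ⟨ε.hom, hε⟩
  inv := ⟨ε.inv, IsHomLift.lift_id_inv _ _ _⟩
  hom_inv_id := Subtype.ext ε.hom_inv_id
  inv_hom_id := Subtype.ext ε.inv_hom_id

theorem inverseImage_essSurj [p.IsFibered] {R S : 𝒮} (f : R ⟶ S) [IsIso f] :
    (K.inverseImage f).EssSurj where
  mem_essImage c := by
    -- `a = (f⁻¹)^* c`
    have ha : p.obj (K.obj c.2 (inv f)) = S := K.obj_proj c.2 (inv f)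
    let a : p.Fiber S := ⟨K.obj c.2 (inv f), ha⟩
    let l1 : K.obj ha f ⟶ K.obj c.2 (inv f) := K.lift ha f
    let l2 : K.obj c.2 (inv f) ⟶ c.1 := K.lift c.2 (inv f)
    have h1 : IsIso l1 := lift_isIso K ha f
    have h2 : IsIso l2 := lift_isIso K c.2 (inv f)
    have hl1 : p.IsHomLift f l1 := inferInstance
    have hl2 : p.IsHomLift (inv f) l2 := inferInstance
    have h3 : p.IsHomLift (f ≫ inv f) (l1 ≫ l2) := inferInstance
    rw [IsIso.hom_inv_id] at h3
    let ε : ((K.inverseImage f).obj a).1 ≅ c.1 :=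
      (@asIso _ _ _ _ l1 h1) ≪≫ (@asIso _ _ _ _ l2 h2)
    have h4 : p.IsHomLift (𝟙 R) ε.hom := h3
    exact ⟨a, ⟨fiberIsoP ε h4⟩⟩

theorem inverseImage_isEquivalence [p.IsFibered] {R S : 𝒮} (f : R ⟶ S) [IsIso f] :
    (K.inverseImage f).IsEquivalence :=
  { faithful := inverseImage_faithful K f
    full := inverseImage_full K f
    essSurj := inverseImage_essSurj K f }

end Groth.Agent.Lib.FibClv_helper6
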