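import Groth.Agent.Lib.FibClv4_helper6

set_option autoImplicit false
open CategoryTheory
universe v₁ u₁ v₂ u₂ v₃ u₃
open FibCat

namespace Groth.Agent.Lib.FibClv_helper6

variable {𝒮 : Type u₁} {𝒳 : Type u₂} [Category.{v₁} 𝒮] [Category.{v₂} 𝒳] (p : 𝒳 ⥤ 𝒮)

/-- a cartesian lift of `f` with target `a` -/
structure CartLift {R S : 𝒮} (a : 𝒳) (f : R ⟶ S) where
  b : 𝒳
  φ : b ⟶ a
  cart : p.IsCartesian f φ

theorem id_isCartesian_of_eqToHom {R S : 𝒮} {a : 𝒳} (ha : p.obj a = S) (e : R = S) :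
    p.IsCartesian (eqToHom e) (𝟙 a) := by
  subst e
  subst ha
  rw [eqToHom_refl]
  infer_instance

open Classical in
/-- the normalised choice of cartesian lifts -/
noncomputable def normChoice [p.IsPreFibered] {R S : 𝒮} {a : 𝒳} (ha : p.obj a = S) (f : R ⟶ S) :
    CartLift p a f :=
  if h : ∃ e : R = S, f = eqToHom e then
    ⟨a, 𝟙 a, by obtain ⟨e, rfl⟩ := h; exact id_isCartesian_of_eqToHom p ha e⟩
  else ⟨Functor.IsPreFibered.pullbackObj ha f, Functor.IsPreFibered.pullbackMap ha f, inferInstance⟩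

/-- the normalised cleavage of a pre-fibred category -/
noncomputable def normCleavage [p.IsPreFibered] : FibCat.Cleavage p where
  obj ha f := (normChoice p ha f).b
  lift ha f := (normChoice p ha f).φ
  isCartesian ha f := (normChoice p ha f).cart

theorem cartLift_aux {R S : 𝒮} {a : 𝒳} {f : R ⟶ S} (c : CartLift p a f)
    (h : p.IsCartesian f (𝟙 a)) (hc : c = ⟨a, 𝟙 a, h⟩) : ∃ h : c.b = a, c.φ = eqToHom h := by
  subst hc
  exact ⟨rfl, rfl⟩

theorem normCleavage_isNormalised [p.IsPreFibered] : (normCleavage p).IsNormalised := by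
  intro S a ha
  have h : ∃ e : S = S, 𝟙 S = eqToHom e := ⟨rfl, rfl⟩
  have hc : p.IsCartesian (𝟙 S) (𝟙 a) := by
    have := id_isCartesian_of_eqToHom p ha (rfl : S = S)
    rwa [eqToHom_refl] at this
  exact cartLift_aux p (normChoice p ha (𝟙 S)) hc (dif_pos h)

end Groth.Agent.Lib.FibClv_helper6
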