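import Groth.Agent.Lib.FibClv5_helper6

set_option autoImplicit false
open CategoryTheory
universe v₁ u₁ v₂ u₂ v₃ u₃
open FibCat

namespace Groth.Agent.Lib.FibClv_helper6

variable {𝒮 : Type u₁} {𝒳 : Type u₂} [Category.{v₁} 𝒮] [Category.{v₂} 𝒳] {p : 𝒳 ⥤ 𝒮}
  (K : FibCat.Cleavage p)

theorem fiber_isIso_of_isIso {U : 𝒮} {A B : p.Fiber U} (m : A ⟶ B)
    (h : IsIso (Functor.Fiber.fiberInclusion.map m)) : IsIso m := by
  let m₀ : A.1 ⟶ B.1 := Functor.Fiber.fiberInclusion.map m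
  have h0 : IsIso m₀ := h
  let ε : A.1 ≅ B.1 := @asIso _ _ _ _ m₀ h0
  have hε : p.IsHomLift (𝟙 U) ε.hom := m.2
  have : m = (fiberIsoP ε hε).hom := Subtype.ext rfl
  rw [this]
  infer_instance

/-- in a fibred category all comparison morphisms are isomorphisms -/
theorem comp_isIso_of_isFibered [p.IsFibered] {R S T : 𝒮} (f : T ⟶ S) (g : R ⟶ T) :
    IsIso (K.comp f g) := by
  have : ∀ a, IsIso ((K.comp f g).app a) := by
    intro a
    apply fiber_isIso_of_isIso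
    let l1 : K.obj (K.obj_proj a.2 f) g ⟶ K.obj a.2 f := K.lift (K.obj_proj a.2 f) g
    let l2 : K.obj a.2 f ⟶ a.1 := K.lift a.2 f
    let l3 : K.obj a.2 (g ≫ f) ⟶ a.1 := K.lift a.2 (g ≫ f)
    have h1 : p.IsCartesian g l1 := K.isCartesian _ g
    have h2 : p.IsCartesian f l2 := K.isCartesian _ f
    have h3 : p.IsCartesian (g ≫ f) l3 := K.isCartesian _ (g ≫ f)
    have h12 : p.IsCartesian (g ≫ f) (l1 ≫ l2) := Functor.IsFibered.comp g f l1 l2
    let ε := Functor.IsCartesian.domainUniqueUpToIso p (g ≫ f) l3 (l1 ≫ l2)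
    have : Functor.Fiber.fiberInclusion.map ((K.comp f g).app a) = ε.hom := rfl
    rw [this]
    infer_instance
  exact NatIso.isIso_of_isIso_app _

/-- if all comparison morphisms are isomorphisms, composites of chosen lifts are cartesian -/
theorem lift_comp_isCartesian (h : ∀ (R S T : 𝒮) (f : T ⟶ S) (g : R ⟶ T), IsIso (K.comp f g))
    {R S T : 𝒮} (f : T ⟶ S) (g : R ⟶ T) {a : 𝒳} (ha : p.obj a = S) :
    p.IsCartesian (g ≫ f) (K.lift (K.obj_proj ha f) g ≫ K.lift ha f) := by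
  let A : p.Fiber S := ⟨a, ha⟩
  let l1 : K.obj (K.obj_proj ha f) g ⟶ K.obj ha f := K.lift (K.obj_proj ha f) g
  let l2 : K.obj ha f ⟶ a := K.lift ha f
  let l3 : K.obj ha (g ≫ f) ⟶ a := K.lift ha (g ≫ f)
  have h1 : p.IsCartesian g l1 := K.isCartesian _ g
  have h2 : p.IsCartesian f l2 := K.isCartesian _ f
  have h3 : p.IsCartesian (g ≫ f) l3 := K.isCartesian _ (g ≫ f)
  have h12 : p.IsHomLift (g ≫ f) (l1 ≫ l2) := inferInstance
  let c : K.obj (K.obj_proj ha f) g ⟶ K.obj ha (g ≫ f) :=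
    Functor.Fiber.fiberInclusion.map ((K.comp f g).app A)
  have hc : c ≫ l3 = l1 ≫ l2 := Functor.IsCartesian.fac p (g ≫ f) l3 (l1 ≫ l2)
  have hci : IsIso ((K.comp f g).app A) := by
    have := h R S T f g
    infer_instance
  have hci' : IsIso c := Functor.map_isIso _ _
  let ε : K.obj (K.obj_proj ha f) g ≅ K.obj ha (g ≫ f) := @asIso _ _ _ _ c hci'
  have hε : p.IsHomLift (𝟙 R) ε.hom := ((K.comp f g).app A).2
  have : p.IsCartesian (g ≫ f) (ε.hom ≫ l3) := Functor.IsCartesian.of_iso_comp p (g ≫ f) l3 ε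
  have e : ε.hom ≫ l3 = l1 ≫ l2 := hc
  rw [e] at this
  exact this

/-- if all comparison morphisms of a cleavage are isomorphisms, the category is fibred -/
theorem isFibered_of_comp_isIso
    (h : ∀ (R S T : 𝒮) (f : T ⟶ S) (g : R ⟶ T), IsIso (K.comp f g)) : p.IsFibered := by
  have := K.isPreFibered
  refine { comp := ?_ }
  intro R S T f g a b c φ ψ hφ hψ
  have hc : p.obj c = T := IsHomLift.codomain_eq p g ψ
  let l2 : K.obj hc g ⟶ c := K.lift hc g
  have h2 : p.IsCartesian g l2 := K.isCartesian hc g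
  let ι₁ : b ≅ K.obj hc g := Functor.IsCartesian.domainUniqueUpToIso p g l2 ψ
  have hι₁ : p.IsHomLift (𝟙 S) ι₁.hom := inferInstance
  have e1 : ι₁.hom ≫ l2 = ψ := Functor.IsCartesian.fac p g l2 ψ
  have h1' : p.IsCartesian f (φ ≫ ι₁.hom) := Functor.IsCartesian.of_comp_iso p f φ ι₁
  let l1 : K.obj (K.obj_proj hc g) f ⟶ K.obj hc g := K.lift (K.obj_proj hc g) f
  have h1 : p.IsCartesian f l1 := K.isCartesian _ f
  let ι₂ : a ≅ K.obj (K.obj_proj hc g) f :=
    Functor.IsCartesian.domainUniqueUpToIso p f l1 (φ ≫ ι₁.hom)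
  have hι₂ : p.IsHomLift (𝟙 R) ι₂.hom := inferInstance
  have e2 : ι₂.hom ≫ l1 = φ ≫ ι₁.hom := Functor.IsCartesian.fac p f l1 (φ ≫ ι₁.hom)
  have h12 : p.IsCartesian (f ≫ g) (l1 ≫ l2) := lift_comp_isCartesian K h g f hc
  have e : φ ≫ ψ = ι₂.hom ≫ (l1 ≫ l2) := by
    rw [← Category.assoc, e2, Category.assoc, e1]
  rw [e]
  exact Functor.IsCartesian.of_iso_comp p (f ≫ g) (l1 ≫ l2) ι₂

theorem isFibered_iff_comp_isIso :
    p.IsFibered ↔ ∀ (R S T : 𝒮) (f : T ⟶ S) (g : R ⟶ T), IsIso (K.comp f g) :=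
  ⟨fun _ _ _ _ f g => comp_isIso_of_isFibered K f g, isFibered_of_comp_isIso K⟩

end Groth.Agent.Lib.FibClv_helper6
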