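import Groth.Prelude.Def_FibClv

set_option autoImplicit false
open CategoryTheory
universe v₁ u₁ v₂ u₂ v₃ u₃
open FibCat

namespace Groth.Agent.Lib.FibClv_helper6

variable {𝒮 : Type u₁} {𝒳 : Type u₂} [Category.{v₁} 𝒮] [Category.{v₂} 𝒳] {p : 𝒳 ⥤ 𝒮}
  (K : FibCat.Cleavage p)

theorem obj_congr {R S : 𝒮} {a : 𝒳} (ha : p.obj a = S) {f f' : R ⟶ S} (h : f = f') :
    K.obj ha f = K.obj ha f' := by subst h; rfl

theorem eqToHom_lift {R S : 𝒮} {a : 𝒳} (ha : p.obj a = S) {f f' : R ⟶ S} (h : f = f') :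
    eqToHom (obj_congr K ha h) ≫ K.lift ha f' = K.lift ha f := by
  subst h; simp

theorem inverseImageCongr_hom_app {R S : 𝒮} {f f' : R ⟶ S} (h : f = f') (a : p.Fiber S) :
    Functor.Fiber.fiberInclusion.map ((K.inverseImageCongr h).hom.app a) =
      eqToHom (obj_congr K a.2 h) := by
  subst h
  simp [Cleavage.inverseImageCongr]

end Groth.Agent.Lib.FibClv_helper6

namespace Groth.Agent.Lib.FibClv_helper6

variable {𝒮 : Type u₁} {𝒳 : Type u₂} [Category.{v₁} 𝒮] [Category.{v₂} 𝒳] {p : 𝒳 ⥤ 𝒮}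
  (K : FibCat.Cleavage p)

instance lift_isHomLift {R S : 𝒮} {a : 𝒳} (ha : p.obj a = S) (f : R ⟶ S) :
    p.IsHomLift f (K.lift ha f) := (K.isCartesian ha f).toIsHomLift

instance lift_comp_lift_isHomLift {R T S : 𝒮} {a : 𝒳} (ha : p.obj a = S) (f : T ⟶ S) (g : R ⟶ T) :
    p.IsHomLift (g ≫ f) (K.lift (K.obj_proj ha f) g ≫ K.lift ha f) := inferInstance

/-- the comparison morphism `c_{f,g}` at an object, in `𝒳` -/
noncomputable def compApp {R T S : 𝒮} {a : 𝒳} (ha : p.obj a = S) (f : T ⟶ S) (g : R ⟶ T) :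
    K.obj (K.obj_proj ha f) g ⟶ K.obj ha (g ≫ f) :=
  Functor.IsCartesian.map p (g ≫ f) (K.lift ha (g ≫ f)) (K.lift (K.obj_proj ha f) g ≫ K.lift ha f)

instance compApp_isHomLift {R T S : 𝒮} {a : 𝒳} (ha : p.obj a = S) (f : T ⟶ S) (g : R ⟶ T) :
    p.IsHomLift (𝟙 R) (compApp K ha f g) := by
  unfold compApp; infer_instance

@[reassoc (attr := simp)]
theorem compApp_fac {R T S : 𝒮} {a : 𝒳} (ha : p.obj a = S) (f : T ⟶ S) (g : R ⟶ T) :
    compApp K ha f g ≫ K.lift ha (g ≫ f) = K.lift (K.obj_proj ha f) g ≫ K.lift ha f :=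
  Functor.IsCartesian.fac _ _ _ _

theorem comp_app_eq {R T S : 𝒮} (f : T ⟶ S) (g : R ⟶ T) (a : p.Fiber S) :
    Functor.Fiber.fiberInclusion.map ((K.comp f g).app a) = compApp K a.2 f g := rfl

theorem compApp_id_right {T S : 𝒮} {a : 𝒳} (ha : p.obj a = S) (f : T ⟶ S) :
    compApp K ha f (𝟙 T) ≫ eqToHom (obj_congr K ha (Category.id_comp f)) =
      K.lift (K.obj_proj ha f) (𝟙 T) := by
  apply Functor.IsCartesian.ext p f (K.lift ha f)
  rw [Category.assoc, eqToHom_lift K ha (Category.id_comp f), compApp_fac]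

end Groth.Agent.Lib.FibClv_helper6
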