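import Mathlib
import Groth.Prelude.Def_FibCat2

set_option autoImplicit false
set_option linter.style.haveILetI false
set_option linter.unusedSectionVars false

universe u v u₂ v₂

namespace Groth.Agent.Lib.FibCoFibH4

open CategoryTheory Functor Opposite

variable {C : Type u} [Category.{v} C] {𝒳 : Type u₂} [Category.{v₂} 𝒳] (p : 𝒳 ⥤ C)

lemma of_op {R S : Cᵒᵖ} {a b : 𝒳ᵒᵖ} (f : R ⟶ S) (φ : a ⟶ b) (h : p.op.IsHomLift f φ) :
    p.IsHomLift f.unop φ.unop := by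
  cases h
  show p.IsHomLift (p.map φ.unop) φ.unop
  infer_instance

lemma to_op {R S : C} {a b : 𝒳} (f : R ⟶ S) (φ : a ⟶ b) (h : p.IsHomLift f φ) :
    p.op.IsHomLift f.op φ.op := by
  cases h
  show p.op.IsHomLift (p.op.map φ.op) φ.op
  infer_instance

/-- `p.op`-cartesian ↔ `p`-cocartesian. -/
lemma op_cart_iff {R S : C} {a b : 𝒳} (f : R ⟶ S) (φ : a ⟶ b) :
    p.op.IsCartesian f.op φ.op ↔ p.IsCocartesian f φ := by
  constructor
  · intro hC
    refine { toIsHomLift := of_op p f.op φ.op hC.toIsHomLift, universal_property := ?_ }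
    intro b' φ' hφ'
    haveI h' : p.op.IsHomLift f.op φ'.op := to_op p f φ' hφ'
    obtain ⟨χ, ⟨h1, h2⟩, hu⟩ := hC.universal_property φ'.op
    refine ⟨χ.unop, ⟨of_op p (𝟙 (op S)) χ h1, congrArg Quiver.Hom.unop h2⟩, ?_⟩
    rintro χ' ⟨h1', h2'⟩
    have := hu χ'.op ⟨to_op p (𝟙 S) χ' h1', congrArg Quiver.Hom.op h2'⟩
    exact congrArg Quiver.Hom.unop this
  · intro hC
    refine { toIsHomLift := to_op p f φ hC.toIsHomLift, universal_property := ?_ }
    intro a' φ' hφ'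
    haveI h' : p.IsHomLift f φ'.unop := of_op p f.op φ' hφ'
    obtain ⟨χ, ⟨h1, h2⟩, hu⟩ := hC.universal_property φ'.unop
    refine ⟨χ.op, ⟨to_op p (𝟙 S) χ h1, congrArg Quiver.Hom.op h2⟩, ?_⟩
    rintro χ' ⟨h1', h2'⟩
    have := hu χ'.unop ⟨of_op p (𝟙 (op S)) χ' h1', congrArg Quiver.Hom.unop h2'⟩
    exact congrArg Quiver.Hom.op this

/-- `p.op`-cocartesian ↔ `p`-cartesian. -/
lemma op_cocart_iff {R S : C} {a b : 𝒳} (f : R ⟶ S) (φ : a ⟶ b) :
    p.op.IsCocartesian f.op φ.op ↔ p.IsCartesian f φ := by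
  constructor
  · intro hC
    refine { toIsHomLift := of_op p f.op φ.op hC.toIsHomLift, universal_property := ?_ }
    intro a' φ' hφ'
    haveI h' : p.op.IsHomLift f.op φ'.op := to_op p f φ' hφ'
    obtain ⟨χ, ⟨h1, h2⟩, hu⟩ := hC.universal_property φ'.op
    refine ⟨χ.unop, ⟨of_op p (𝟙 (op R)) χ h1, congrArg Quiver.Hom.unop h2⟩, ?_⟩
    rintro χ' ⟨h1', h2'⟩
    have := hu χ'.op ⟨to_op p (𝟙 R) χ' h1', congrArg Quiver.Hom.op h2'⟩
    exact congrArg Quiver.Hom.unop this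
  · intro hC
    refine { toIsHomLift := to_op p f φ hC.toIsHomLift, universal_property := ?_ }
    intro b' φ' hφ'
    haveI h' : p.IsHomLift f φ'.unop := of_op p f.op φ' hφ'
    obtain ⟨χ, ⟨h1, h2⟩, hu⟩ := hC.universal_property φ'.unop
    refine ⟨χ.op, ⟨to_op p (𝟙 R) χ h1, congrArg Quiver.Hom.op h2⟩, ?_⟩
    rintro χ' ⟨h1', h2'⟩
    have := hu χ'.unop ⟨of_op p (𝟙 (op R)) χ' h1', congrArg Quiver.Hom.unop h2'⟩
    exact congrArg Quiver.Hom.op this

/-- In a fibred category, cocartesian morphisms compose. -/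
theorem cocart_comp [p.IsFibered] {R S T : C} (f : R ⟶ S) (g : S ⟶ T) {a b c : 𝒳}
    (α : a ⟶ b) (β : b ⟶ c) [hα : p.IsCocartesian f α] [hβ : p.IsCocartesian g β] :
    p.IsCocartesian (f ≫ g) (α ≫ β) where
  toIsHomLift := inferInstance
  universal_property := by
    intro c' γ hγ
    have hc' : p.obj c' = T := IsHomLift.codomain_eq p (f ≫ g) γ
    obtain ⟨d, ψ, hψ⟩ := IsPreFibered.exists_isCartesian p hc' g
    haveI := hψ
    haveI : p.IsStronglyCartesian g ψ := inferInstance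
    obtain ⟨γ', ⟨hγ'1, hγ'2⟩, hγ'u⟩ :=
      IsStronglyCartesian.universal_property p g ψ f (f ≫ g) rfl γ
    haveI := hγ'1
    obtain ⟨δ, ⟨hδ1, hδ2⟩, hδu⟩ := hα.universal_property γ'
    haveI := hδ1
    haveI : p.IsHomLift g (δ ≫ ψ) := inferInstance
    obtain ⟨χ, ⟨hχ1, hχ2⟩, hχu⟩ := hβ.universal_property (δ ≫ ψ)
    refine ⟨χ, ⟨hχ1, ?_⟩, ?_⟩
    · rw [Category.assoc, hχ2, ← Category.assoc, hδ2, hγ'2]
    · rintro χ' ⟨h1, h2⟩
      haveI := h1
      haveI : p.IsHomLift g (β ≫ χ') := inferInstance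
      obtain ⟨δ', ⟨hδ'1, hδ'2⟩, hδ'u⟩ := hψ.universal_property (β ≫ χ')
      haveI := hδ'1
      haveI : p.IsHomLift f (α ≫ δ') := inferInstance
      have e1 : α ≫ δ' = γ' := by
        apply hγ'u
        refine ⟨inferInstance, ?_⟩
        rw [Category.assoc, hδ'2, ← Category.assoc, h2]
      have e2 : δ' = δ := hδu δ' ⟨hδ'1, e1⟩
      have e3 : β ≫ χ' = δ ≫ ψ := by rw [← hδ'2, e2]
      exact hχu χ' ⟨h1, e3⟩

theorem main5144 [p.IsPreFibered] [p.op.IsPreFibered] : p.IsFibered ↔ p.op.IsFibered := by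
  constructor
  · intro h
    refine { toIsPreFibered := inferInstance, comp := ?_ }
    intro R S T f g a b c φ ψ hφ hψ
    haveI hφ' : p.IsCocartesian f.unop φ.unop := (op_cart_iff p f.unop φ.unop).mp hφ
    haveI hψ' : p.IsCocartesian g.unop ψ.unop := (op_cart_iff p g.unop ψ.unop).mp hψ
    have := cocart_comp p g.unop f.unop ψ.unop φ.unop
    exact (op_cart_iff p (g.unop ≫ f.unop) (ψ.unop ≫ φ.unop)).mpr this
  · intro h
    refine { toIsPreFibered := inferInstance, comp := ?_ }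
    intro R S T f g a b c φ ψ hφ hψ
    haveI hφ' : p.op.IsCocartesian f.op φ.op := (op_cocart_iff p f φ).mpr hφ
    haveI hψ' : p.op.IsCocartesian g.op ψ.op := (op_cocart_iff p g ψ).mpr hψ
    have := cocart_comp p.op g.op f.op ψ.op φ.op
    exact (op_cocart_iff p (f ≫ g) (φ ≫ ψ)).mp this

end Groth.Agent.Lib.FibCoFibH4
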