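import Mathlib
import Groth.Agent.Lib.FibCons2_helper8
import Groth.Agent.Lib.CMLocusBC_helper5
import Groth.Agent.Lib.CMMor5_helper8

/-!
# Constructibility of the fibrewise Cohen–Macaulay locus (helper8)

APPEND-ONLY once landed.
-/

set_option autoImplicit false
universe u

namespace Groth.Agent.Lib.FibConsH8

open AlgebraicGeometry CategoryTheory Limits TopologicalSpace Topology
open Groth.Agent.FibMapFlat Groth.Agent.FibNoeth Groth.Agent.FibStalkIso
  Groth.Agent.FibStalkDimH8 FibRedH8 Groth.Agent.CMLocusBC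

/-- the local ring of the fibre through `x` at `x` is Cohen–Macaulay -/
def FibCM {X S : Scheme.{u}} (f : X ⟶ S) (x : X) : Prop :=
  LocCoh.IsCohenMacaulayLocalRing ((f.fiber (f.base x)).presheaf.stalk (f.asFiber x))

theorem fibCM_bc {X Y X' Y' : Scheme.{u}} (f : X ⟶ Y) [LocallyOfFiniteType f]
    (f' : X' ⟶ Y') (g' : X' ⟶ X) (g : Y' ⟶ Y) (hc : IsPullback g' f' f g) (x' : X') :
    FibCM f' x' ↔ FibCM f (g' x') := by
  haveI hflφ : Flat (fibMap hc (f' x')) := flat_fibMap hc (f' x')
  have hpt : (f.fiberι (g (f' x'))) (fibMap hc (f' x') (f'.asFiber x')) = g' x' := by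
    rw [fiberι_fibMap_apply, Scheme.Hom.fiberι_asFiber]
  obtain ⟨e⟩ := fiberStalk_transport_equiv f (g (f' x')) (fibMap hc (f' x') (f'.asFiber x'))
    (g' x') hpt
  letI : Algebra ((f.fiber (g (f' x'))).presheaf.stalk (fibMap hc (f' x') (f'.asFiber x')))
      ((f'.fiber (f' x')).presheaf.stalk (f'.asFiber x')) :=
    ((fibMap hc (f' x')).stalkMap (f'.asFiber x')).hom.toAlgebra
  haveI : IsLocalHom (algebraMap
      ((f.fiber (g (f' x'))).presheaf.stalk (fibMap hc (f' x') (f'.asFiber x')))
      ((f'.fiber (f' x')).presheaf.stalk (f'.asFiber x'))) :=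
    inferInstanceAs (IsLocalHom ((fibMap hc (f' x')).stalkMap (f'.asFiber x')).hom)
  haveI : Module.Flat
      ((f.fiber (g (f' x'))).presheaf.stalk (fibMap hc (f' x') (f'.asFiber x')))
      ((f'.fiber (f' x')).presheaf.stalk (f'.asFiber x')) :=
    Flat.stalkMap (fibMap hc (f' x')) (f'.asFiber x')
  haveI : IsLocallyNoetherian (f.fiber (g (f' x'))) := isLocallyNoetherian_fiber f _
  haveI : IsNoetherianRing
      ((f.fiber (g (f' x'))).presheaf.stalk (fibMap hc (f' x') (f'.asFiber x'))) :=
    inferInstance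
  haveI : LocallyOfFiniteType f' :=
    MorphismProperty.of_isPullback (P := @LocallyOfFiniteType) hc inferInstance
  haveI : IsLocallyNoetherian (f'.fiber (f' x')) := isLocallyNoetherian_fiber f' (f' x')
  haveI : IsNoetherianRing ((f'.fiber (f' x')).presheaf.stalk (f'.asFiber x')) :=
    inferInstance
  have hF : LocCoh.IsCohenMacaulayLocalRing
      (EGA4.FibRing ((f.fiber (g (f' x'))).presheaf.stalk (fibMap hc (f' x') (f'.asFiber x')))
        ((f'.fiber (f' x')).presheaf.stalk (f'.asFiber x'))) := by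
    haveI := isCM_stalk_fiber_fibMap' hc (f' x') (fibMap hc (f' x') (f'.asFiber x'))
      ((fibMap hc (f' x')).asFiber (f'.asFiber x'))
    have : LocCoh.IsCohenMacaulayLocalRing
        ((f'.fiber (f' x')).presheaf.stalk (f'.asFiber x') ⧸
          fibIdeal (fibMap hc (f' x')) (f'.asFiber x')) :=
      Groth.Agent.FlatCM.isCMLocalRing_of_ringEquiv
        (fibStalkEquiv (fibMap hc (f' x')) (f'.asFiber x')).symm
    exact this
  have key := Groth.Agent.FlatCM.isCM_local_iff
    ((f.fiber (g (f' x'))).presheaf.stalk (fibMap hc (f' x') (f'.asFiber x')))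
    ((f'.fiber (f' x')).presheaf.stalk (f'.asFiber x'))
  constructor
  · intro h
    have hA := (key.1 h).1
    haveI := hA
    exact Groth.Agent.FlatCM.isCMLocalRing_of_ringEquiv e.symm
  · intro h
    have hB : LocCoh.IsCohenMacaulayLocalRing
        ((f.fiber (g (f' x'))).presheaf.stalk (fibMap hc (f' x') (f'.asFiber x'))) := by
      haveI : LocCoh.IsCohenMacaulayLocalRing
          ((f.fiber (f (g' x'))).presheaf.stalk (f.asFiber (g' x'))) := h
      exact Groth.Agent.FlatCM.isCMLocalRing_of_ringEquiv e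
    exact key.2 ⟨hB, hF⟩

theorem fibCM_loc {X S U : Scheme.{u}} (f : X ⟶ S) [LocallyOfFiniteType f] (j : U ⟶ X)
    [IsOpenImmersion j] (u : U) : FibCM (j ≫ f) u ↔ FibCM f (j u) := by
  haveI := isLocallyNoetherian_fiber f (f (j u))
  haveI := isLocallyNoetherian_fiber (j ≫ f) ((j ≫ f) u)
  have key := Groth.Agent.FibStalkCM.cm_comp_iff j f u (Flat.stalkMap j u) inferInstance
    inferInstance
  have hj := (Groth.Agent.Lib.CMMorH8.isCMAt_of_lqf j u (Flat.stalkMap j u)).2
  exact ⟨fun h => (key.1 h).1, fun h => key.2 ⟨h, hj⟩⟩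

theorem fibCM_isOpen {X S : Scheme.{u}} (f : X ⟶ S) [Flat f] [LocallyOfFinitePresentation f] :
    IsOpen {x : X | FibCM f x} := by
  have := Groth.Agent.Lib.CMMorH8.isOpen_isCMAt f
  convert this using 1
  ext x
  exact ⟨fun h => ⟨Flat.stalkMap f x, h⟩, fun h => h.2⟩

theorem isFibrewise_fibCM : IsFibrewise.{u} (fun {X S} f x => FibCM f x) where
  bc f _ f' g' g hc x' := fibCM_bc f f' g' g hc x'
  loc f _ j _ u := fibCM_loc f j u
  isOpen f _ _ := fibCM_isOpen f

theorem main3421 {X S : Scheme.{u}} (f : X ⟶ S) [LocallyOfFinitePresentation f] :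
    Topology.IsLocallyConstructible {x : X |
      LocCoh.IsCohenMacaulayLocalRing ((f.fiber (f.base x)).presheaf.stalk (f.asFiber x))} :=
  isLocallyConstructible isFibrewise_fibCM f

end Groth.Agent.Lib.FibConsH8

namespace Groth.Agent.Lib.FibConsH8

open AlgebraicGeometry CategoryTheory Limits TopologicalSpace Topology
open Groth.Agent.FibMapFlat

theorem isLocallyConstructible_compl {T : Type*} [TopologicalSpace T] {s : Set T}
    (hs : IsLocallyConstructible s) : IsLocallyConstructible sᶜ := by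
  intro x
  obtain ⟨U, hU, hUo, hc⟩ := hs x
  refine ⟨U, hU, hUo, ?_⟩
  have : (Subtype.val ⁻¹' sᶜ : Set U) = (Subtype.val ⁻¹' s : Set U)ᶜ := rfl
  rw [this]
  exact hc.compl

theorem main3437 {X S : Scheme.{u}} (f : X ⟶ S)
    [LocallyOfFinitePresentation f] [QuasiCompact f] :
    Topology.IsLocallyConstructible {s : S |
      ∀ z : ↥(f.fiber s), LocCoh.IsCohenMacaulayLocalRing ((f.fiber s).presheaf.stalk z)} := by
  have h1 := isLocallyConstructible_compl (main3421 f)
  have h2 := isLocallyConstructible_compl (f.isLocallyConstructible_image h1)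
  convert h2 using 1
  ext s
  simp only [Set.mem_ofPred_eq, Set.mem_compl_iff, Set.mem_image, not_exists, not_and,
    not_not]
  constructor
  · intro h x hx hfx
    subst hfx
    exact hx (h (f.asFiber x))
  · intro h z
    by_contra hcon
    apply h (f.fiberι s z) ?_ (Groth.Agent.FibRes2H8.fiberι_mem f s z)
    intro hCM
    obtain ⟨e⟩ := fiberStalk_transport_equiv f s z (f.fiberι s z) rfl
    haveI : LocCoh.IsCohenMacaulayLocalRing
        ((f.fiber (f (f.fiberι s z))).presheaf.stalk (f.asFiber (f.fiberι s z))) := hCM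
    exact hcon (Groth.Agent.FlatCM.isCMLocalRing_of_ringEquiv e)

end Groth.Agent.Lib.FibConsH8
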