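/-
helper5: module version of helper8's `IsFibrewise` constructibility framework (FibCons1-2_helper8):
pointwise properties `P f F x` of a morphism with a module which are invariant under base change,
local on the source and open in families which are flat over a Noetherian base have locally
constructible loci for `f` locally of finite presentation and `F` of finite presentation
(EGA IV 9.9-type).  The proofs follow helper8's, with generic flatness for modules and helper2's
Noetherian approximation with a module.  APPEND-ONLY once landed.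
-/
import Mathlib
import Groth.Agent.Lib.FibCons2_helper8
import Groth.Agent.Lib.FibRk7_helper5
import Groth.Agent.Lib.FibRk8_helper5
import Groth.Agent.Lib.ConsMod1_helper2
import Groth.Agent.Lib.GenFlatSch_helper8
import Groth.Agent.Lib.FlatBC3_helper8
import Groth.Agent.Lib.TFFree_helper8

set_option autoImplicit false
set_option linter.style.haveILetI false
set_option linter.unusedVariables false
universe u

namespace Groth.Agent.Lib.FibConsModH5

open AlgebraicGeometry CategoryTheory Limits TopologicalSpace Topology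
open Groth.Agent.Lib.ConstrNoeth_lead

/-- A "fibrewise" pointwise property of morphisms of schemes with a module: invariant under
isomorphisms of modules and base change, local on the source, open in families whose module is
flat over a Noetherian base. -/
structure IsFibrewiseMod
    (P : ∀ {X S : Scheme.{u}} (_ : X ⟶ S) (_ : X.Modules), X → Prop) : Prop where
  iso : ∀ {X S : Scheme.{u}} (f : X ⟶ S) {F G : X.Modules} (_ : F ≅ G) (_ : Coh.IsCoh F) (x : X),
    P f F x → P f G x
  bc : ∀ {X S X' S' : Scheme.{u}} (f : X ⟶ S) [LocallyOfFiniteType f] (F : X.Modules)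
    (_ : Coh.IsCoh F) (f' : X' ⟶ S') (g' : X' ⟶ X) (g : S' ⟶ S), IsPullback g' f' f g →
    ∀ x' : X', P f' ((Scheme.Modules.pullback g').obj F) x' ↔ P f F (g' x')
  loc : ∀ {X S U : Scheme.{u}} (f : X ⟶ S) [LocallyOfFiniteType f] (F : X.Modules)
    (_ : Coh.IsCoh F) (j : U ⟶ X) [IsOpenImmersion j] (u : U),
    P (j ≫ f) ((Scheme.Modules.pullback j).obj F) u ↔ P f F (j u)
  isOpen : ∀ {X T : Scheme.{u}} (g : X ⟶ T) [IsNoetherian T] [LocallyOfFiniteType g]
    (F : X.Modules) (_ : Coh.IsCoh F), FlatMod.IsFlatOver g F → IsOpen {x : X | P g F x}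

variable {P : ∀ {X S : Scheme.{u}} (_ : X ⟶ S) (_ : X.Modules), X → Prop}

set_option maxHeartbeats 1000000 in
/-- **Generic constancy** over a Noetherian base. -/
theorem exists_open_const (hP : IsFibrewiseMod P) {X S : Scheme.{u}} (f : X ⟶ S)
    [LocallyOfFiniteType f] [QuasiCompact f] [IsNoetherian S] (F : X.Modules) (hF : Coh.IsCoh F)
    (ζ : X) :
    ∃ O : Set X, IsOpen O ∧ ζ ∈ O ∧
      ((O ∩ closure {ζ} ⊆ {x | P f F x}) ∨ (O ∩ closure {ζ} ⊆ {x | P f F x}ᶜ)) := by
  obtain ⟨T, i, hi, hT, hrange, hgen⟩ :=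
    CohDevH8.exists_integral_subscheme (closure {f ζ}) isClosed_closure (f ζ) rfl
  haveI := hi; haveI := hT
  haveI : IsNoetherian T := Groth.Agent.Lib.FibRkH5.isNoetherian_of_isClosedImmersion i
  set fT := pullback.snd f i with hfT
  have hFT : Coh.IsCoh ((Scheme.Modules.pullback (pullback.fst f i)).obj F) :=
    Groth.Agent.Lib.ConsModH2.isCoh_pullback (pullback.fst f i) F hF
  haveI : ((Scheme.Modules.pullback (pullback.fst f i)).obj F).IsQuasicoherent := hFT.1
  haveI : SheafOfModules.IsFiniteType (R := (pullback f i).ringCatSheaf)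
      ((Scheme.Modules.pullback (pullback.fst f i)).obj F) := hFT.2
  haveI : LocallyOfFiniteType fT := MorphismProperty.pullback_snd _ _ inferInstance
  haveI : QuasiCompact fT := MorphismProperty.pullback_snd _ _ inferInstance
  obtain ⟨T', hT'ne, hflat⟩ := GenFlatSchH8.generic_flat fT
    ((Scheme.Modules.pullback (pullback.fst f i)).obj F)
  have hηT' : genericPoint T ∈ T' :=
    ((genericPoint_spec T).mem_open_set_iff T'.2).2 (by simpa using hT'ne)
  haveI : IsNoetherian (T' : Scheme.{u}) := Groth.Agent.Lib.FibRkH5.isNoetherian_opens T'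
  set j : (fT ⁻¹ᵁ T' : Scheme.{u}) ⟶ X := (fT ⁻¹ᵁ T').ι ≫ pullback.fst f i with hj
  have hjemb : IsEmbedding j := by
    have h1 : IsEmbedding (pullback.fst f i) := (pullback.fst f i).isEmbedding
    have h2 : IsEmbedding (fT ⁻¹ᵁ T').ι := (fT ⁻¹ᵁ T').ι.isEmbedding
    exact h1.comp h2
  have sq1 : IsPullback (fT ⁻¹ᵁ T').ι (fT ∣_ T') fT T'.ι := (isPullback_morphismRestrict fT T').flip
  haveI : LocallyOfFiniteType (fT ∣_ T') := MorphismProperty.of_isPullback sq1 inferInstance
  have hF'' : Coh.IsCoh ((Scheme.Modules.pullback (fT ⁻¹ᵁ T').ι).obj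
      ((Scheme.Modules.pullback (pullback.fst f i)).obj F)) :=
    Groth.Agent.Lib.ConsModH2.isCoh_pullback _ _ hFT
  -- the property on the restricted family agrees with the property of `f`
  have hPj : ∀ x'' : (fT ⁻¹ᵁ T' : Scheme.{u}),
      P (fT ∣_ T') ((Scheme.Modules.pullback (fT ⁻¹ᵁ T').ι).obj
        ((Scheme.Modules.pullback (pullback.fst f i)).obj F)) x'' ↔ P f F (j x'') := by
    intro x''
    rw [hP.bc fT _ hFT (fT ∣_ T') (fT ⁻¹ᵁ T').ι T'.ι sq1 x'',
      hP.bc f F hF fT (pullback.fst f i) i (IsPullback.of_hasPullback f i)]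
    rfl
  have hflat'' : FlatMod.IsFlatOver (fT ∣_ T') ((Scheme.Modules.pullback (fT ⁻¹ᵁ T').ι).obj
      ((Scheme.Modules.pullback (pullback.fst f i)).obj F)) := by
    intro x''
    apply FlatBC2H8.isFlatOverAt_pullback sq1
    apply hflat
    exact x''.2
  have hW : IsOpen {x'' : (fT ⁻¹ᵁ T' : Scheme.{u}) |
      P (fT ∣_ T') ((Scheme.Modules.pullback (fT ⁻¹ᵁ T').ι).obj
        ((Scheme.Modules.pullback (pullback.fst f i)).obj F)) x''} :=
    hP.isOpen (fT ∣_ T') _ hF'' hflat''
  -- the open subset of `S` cutting out `T'`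
  set O₂ : Set S := (i '' ((T' : Set T)ᶜ))ᶜ with hO₂
  have hO₂open : IsOpen O₂ :=
    (i.isClosedEmbedding.isClosedMap _ T'.2.isClosed_compl).isOpen_compl
  -- lifting points
  have hlift : ∀ x : X, x ∈ closure {ζ} → f x ∈ O₂ →
      ∃ x'' : (fT ⁻¹ᵁ T' : Scheme.{u}), j x'' = x := by
    intro x hx hxO
    have h1 : f x ∈ closure {f ζ} := by
      have := image_closure_subset_closure_image f.continuous (s := {ζ}) ⟨x, hx, rfl⟩
      simpa using this
    rw [← hrange] at h1
    obtain ⟨t, ht⟩ := h1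
    have htT' : t ∈ T' := by
      by_contra hcon
      exact hxO ⟨t, hcon, ht⟩
    obtain ⟨z, hz1, hz2⟩ := Scheme.Pullback.exists_preimage_pullback x t ht.symm
    have hzmem : z ∈ fT ⁻¹ᵁ T' := by
      show fT z ∈ T'
      rw [hfT, hz2]; exact htT'
    exact ⟨(⟨z, hzmem⟩ : (fT ⁻¹ᵁ T' : Scheme.{u})), hz1⟩
  have hζO₂ : f ζ ∈ O₂ := by
    rintro ⟨t, ht, hte⟩
    have : t = genericPoint T := i.isClosedEmbedding.injective (by rw [hte, hgen])
    exact ht (this ▸ hηT')
  obtain ⟨ζ'', hζ''⟩ := hlift ζ (subset_closure rfl) hζO₂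
  by_cases hPζ : P f F ζ
  · -- the good case
    have hζW : ζ'' ∈ {x'' : (fT ⁻¹ᵁ T' : Scheme.{u}) |
        P (fT ∣_ T') ((Scheme.Modules.pullback (fT ⁻¹ᵁ T').ι).obj
          ((Scheme.Modules.pullback (pullback.fst f i)).obj F)) x''} := by
      show P (fT ∣_ T') _ ζ''
      rw [hPj, hζ'']; exact hPζ
    obtain ⟨O₁, hO₁, hO₁W⟩ := hjemb.isInducing.isOpen_iff.1 hW
    refine ⟨O₁ ∩ f ⁻¹' O₂, hO₁.inter (hO₂open.preimage f.continuous), ⟨?_, hζO₂⟩, Or.inl ?_⟩
    · have : ζ'' ∈ j ⁻¹' O₁ := by rw [hO₁W]; exact hζW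
      rw [← hζ'']; exact this
    · rintro x ⟨⟨hx1, hx2⟩, hx3⟩
      obtain ⟨x'', rfl⟩ := hlift x hx3 hx2
      have : x'' ∈ j ⁻¹' O₁ := hx1
      rw [hO₁W] at this
      exact (hPj x'').1 this
  · refine ⟨f ⁻¹' O₂, hO₂open.preimage f.continuous, hζO₂, Or.inr ?_⟩
    rintro x ⟨hx2, hx3⟩ hPx
    obtain ⟨x'', rfl⟩ := hlift x hx3 hx2
    have hsp : ζ'' ⤳ x'' := by
      rw [← hjemb.isInducing.specializes_iff, hζ'', specializes_iff_mem_closure]
      exact hx3
    have hx''W : x'' ∈ {x'' : (fT ⁻¹ᵁ T' : Scheme.{u}) |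
        P (fT ∣_ T') ((Scheme.Modules.pullback (fT ⁻¹ᵁ T').ι).obj
          ((Scheme.Modules.pullback (pullback.fst f i)).obj F)) x''} := (hPj x'').2 hPx
    have := hsp.mem_open hW hx''W
    exact hPζ (hζ'' ▸ (hPj ζ'').1 this)

/-- **Noetherian case**. -/
theorem isConstructible_of_noetherian (hP : IsFibrewiseMod P) {X S : Scheme.{u}} (f : X ⟶ S)
    [LocallyOfFiniteType f] [QuasiCompact f] [IsNoetherian S] (F : X.Modules)
    (hF : Coh.IsCoh F) : IsConstructible {x : X | P f F x} := by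
  haveI : NoetherianSpace X := Groth.Agent.Lib.FibRkH5.noetherianSpace_of_qc f
  set E : Set X := {x : X | P f F x} with hE
  have key : ∀ Z : Set X, IsClosed Z → IsConstructible (E ∩ Z) := by
    apply isClosed_induction (P := fun Z => IsConstructible (E ∩ Z))
    · simp
    · intro Z₁ Z₂ _ _ h1 h2
      rw [Set.inter_union_distrib_left]
      exact h1.union h2
    · intro Z hZ hirr ih
      obtain ⟨ζ, hζ⟩ := QuasiSober.sober hirr hZ
      have hcl : closure {ζ} = Z := hζ.def
      obtain ⟨O, hO, hζO, hor⟩ := exists_open_const hP f F hF ζ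
      rw [hcl] at hor
      have hζZ : ζ ∈ Z := hcl ▸ subset_closure rfl
      have hZ' : IsClosed (Z ∩ Oᶜ) := hZ.inter hO.isClosed_compl
      have hss : Z ∩ Oᶜ ⊂ Z := by
        refine ⟨Set.inter_subset_left, fun h => ?_⟩
        exact (h hζZ).2 hζO
      have h1 := ih _ hZ' hss
      have hdecomp : E ∩ Z = (E ∩ (Z ∩ Oᶜ)) ∪ (E ∩ (O ∩ Z)) := by
        ext x
        simp only [Set.mem_inter_iff, Set.mem_union, Set.mem_compl_iff]
        tauto
      rw [hdecomp]
      refine h1.union ?_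
      rcases hor with h | h
      · have : E ∩ (O ∩ Z) = O ∩ Z := Set.inter_eq_right.2 h
        rw [this]
        exact isConstructible_of_isLocallyClosed (hO.isLocallyClosed.inter hZ.isLocallyClosed)
      · have : E ∩ (O ∩ Z) = ∅ := by
          ext x
          simp only [Set.mem_inter_iff, Set.mem_empty_iff_false, iff_false]
          rintro ⟨hx1, hx2⟩
          exact h hx2 hx1
        rw [this]
        exact IsConstructible.empty
  have := key Set.univ isClosed_univ
  rwa [Set.inter_univ] at this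

/-- Affine base, finitely presented morphism: by Noetherian approximation. -/
theorem isConstructible_of_isAffine (hP : IsFibrewiseMod P) {X S : Scheme.{u}} [IsAffine S]
    (f : X ⟶ S) [LocallyOfFinitePresentation f] [QuasiCompact f] [QuasiSeparated f]
    (F : X.Modules) [Coh.IsQCoh F] (hF : CohB1.IsFP F) :
    IsConstructible {x : X | P f F x} := by
  obtain ⟨S₀, X₀, hN, u₀, h, q, F₀, h1, h2, h3, h4, ⟨ε⟩⟩ :=
    Groth.Agent.Lib.ConsModH2.exists_noetherian_model_mod_of_isAffine f F hF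
  haveI := hN
  haveI := h1
  haveI := h2
  have hc := isConstructible_of_noetherian hP u₀ F₀ h4
  have hpre := q.isConstructible_preimage hc
  have hcohq : Coh.IsCoh ((Scheme.Modules.pullback q).obj F₀) :=
    Groth.Agent.Lib.ConsModH2.isCoh_pullback q F₀ h4
  have hcohF : Coh.IsCoh F := Groth.Agent.Lib.ConsModH2.isCoh_of_isFP F hF
  convert hpre using 1
  ext x
  show P f F x ↔ P u₀ F₀ (q x)
  rw [← hP.bc u₀ F₀ h4 f q h h3 x]
  exact ⟨fun hx => hP.iso f ε.symm hcohF x hx, fun hx => hP.iso f ε hcohq x hx⟩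

set_option maxHeartbeats 1000000 in
/-- **Main theorem**: for a morphism locally of finite presentation with a quasi-coherent module of
finite presentation the locus of a fibrewise property is locally constructible. -/
theorem isLocallyConstructible (hP : IsFibrewiseMod P) {X S : Scheme.{u}} (f : X ⟶ S)
    [LocallyOfFinitePresentation f] (F : X.Modules) [Coh.IsQCoh F] (hF : CohB1.IsFP F) :
    IsLocallyConstructible {x : X | P f F x} := by
  intro x
  haveI := hF
  haveI : F.IsQuasicoherent := ‹Coh.IsQCoh F›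
  have hcohF : Coh.IsCoh F := Groth.Agent.Lib.ConsModH2.isCoh_of_isFP F hF
  obtain ⟨V, hV, hxV⟩ : ∃ V : S.Opens, IsAffineOpen V ∧ f x ∈ V := by
    obtain ⟨_, ⟨V, hV, rfl⟩, hxV, -⟩ := S.isBasis_affineOpens.exists_subset_of_mem_open
      (Set.mem_univ (f x)) isOpen_univ
    exact ⟨V, hV, hxV⟩
  obtain ⟨U, hU, hxU, hUV⟩ : ∃ U : X.Opens, IsAffineOpen U ∧ x ∈ U ∧ U ≤ f ⁻¹ᵁ V := by
    obtain ⟨_, ⟨U, hU, rfl⟩, hxU, hsub⟩ := X.isBasis_affineOpens.exists_subset_of_mem_open
      (show x ∈ ((f ⁻¹ᵁ V : X.Opens) : Set X) from hxV) (f ⁻¹ᵁ V).2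
    exact ⟨U, hU, hxU, hsub⟩
  refine ⟨U, U.2.mem_nhds hxU, U.2, ?_⟩
  haveI : IsAffine (U : Scheme.{u}) := hU
  haveI : IsAffine (V : Scheme.{u}) := hV
  haveI : Coh.IsQCoh ((Scheme.Modules.pullback U.ι).obj F) :=
    PBH8.isQuasicoherent_pullback U.ι F
  have hfpU : CohB1.IsFP ((Scheme.Modules.pullback U.ι).obj F) := FpqcH8.isFP_pullback U.ι F
  have h1 := isConstructible_of_isAffine hP (f.resLE V U hUV)
    ((Scheme.Modules.pullback U.ι).obj F) hfpU
  suffices h : {u : (U : Scheme.{u}) | P (f.resLE V U hUV) ((Scheme.Modules.pullback U.ι).obj F) u} =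
      (Subtype.val ⁻¹' {x : X | P f F x} : Set ↥(U : Set X)) by
    rw [← h]; exact h1
  ext u
  show P (f.resLE V U hUV) ((Scheme.Modules.pullback U.ι).obj F) u ↔ P f F u.1
  have e1 : f.resLE V U hUV = X.homOfLE hUV ≫ f ∣_ V := rfl
  have hcohV : Coh.IsCoh ((Scheme.Modules.pullback (f ⁻¹ᵁ V).ι).obj F) :=
    Groth.Agent.Lib.ConsModH2.isCoh_pullback _ F hcohF
  have hcohU : Coh.IsCoh ((Scheme.Modules.pullback U.ι).obj F) :=
    Groth.Agent.Lib.ConsModH2.isCoh_pullback _ F hcohF
  have hcohUV : Coh.IsCoh ((Scheme.Modules.pullback (X.homOfLE hUV)).obj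
      ((Scheme.Modules.pullback (f ⁻¹ᵁ V).ι).obj F)) :=
    Groth.Agent.Lib.ConsModH2.isCoh_pullback _ _ hcohV
  haveI : LocallyOfFiniteType (f ∣_ V) :=
    MorphismProperty.of_isPullback (isPullback_morphismRestrict f V).flip inferInstance
  let α : (Scheme.Modules.pullback (X.homOfLE hUV)).obj
      ((Scheme.Modules.pullback (f ⁻¹ᵁ V).ι).obj F) ≅ (Scheme.Modules.pullback U.ι).obj F :=
    (DescH8.pbIso (X.homOfLE hUV) (f ⁻¹ᵁ V).ι U.ι (Scheme.homOfLE_ι X hUV)).app F
  have h2 : P (f.resLE V U hUV) ((Scheme.Modules.pullback U.ι).obj F) u ↔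
      P (X.homOfLE hUV ≫ f ∣_ V) ((Scheme.Modules.pullback (X.homOfLE hUV)).obj
        ((Scheme.Modules.pullback (f ⁻¹ᵁ V).ι).obj F)) u := by
    rw [e1]
    exact ⟨fun hx => hP.iso _ α.symm hcohU u hx, fun hx => hP.iso _ α hcohUV u hx⟩
  rw [h2, hP.loc (f ∣_ V) _ hcohV (X.homOfLE hUV) u,
    hP.bc f F hcohF (f ∣_ V) (f ⁻¹ᵁ V).ι V.ι (isPullback_morphismRestrict f V).flip]
  have e2 : (f ⁻¹ᵁ V).ι ((X.homOfLE hUV) u) = u.1 := by
    rw [← Scheme.Hom.comp_apply, Scheme.homOfLE_ι]
    rfl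
  rw [e2]

end Groth.Agent.Lib.FibConsModH5
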