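import Mathlib
import Groth.Prelude
import Groth.Agent.Lib.RelAssBCSch2_helper2
import Groth.Agent.Lib.FibTors2_helper2
import Groth.Agent.Lib.WeakAssSch3_helper4

/-!
# Fibrewise torsion-free modules, part 1 (helper2, S4832)

* `exists_weakAss_not_minimal`: a localization with nonzero torsion produces a weakly associated
  prime which is not a minimal prime.
* `torsionFree_iff_assPoints_maximal`: on a scheme with integral local rings, a quasi-coherent module
  has torsion-free stalks iff all its associated points are maximal points.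
* `TF f F s`: every relative associated point of `F` over `s` is a maximal point of the fibre;
  `torsionFree_fiber_iff`: the fibre module over `s` is torsion-free iff `TF f F s`.
* `isDomain_stalk_fiber_of_isPullback`: transport of local integrality of fibres along a base change
  with trivial residue field extension.
APPEND-ONLY once landed.
-/

set_option autoImplicit false
set_option maxHeartbeats 1000000
universe u

open CategoryTheory CategoryTheory.Limits AlgebraicGeometry TopologicalSpace Opposite Topology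

namespace Groth.Agent.Lib.FibTF

open Groth.Agent.Lib.RelAssSpread Groth.Agent.Lib.RelAssGen Groth.Agent.Lib.RelAssBCSch

section Alg

/-- Nonzero torsion in a localization at a prime (with integral local ring) produces a weakly
associated prime which is not a minimal prime of the ring. -/
theorem exists_weakAss_not_minimal {R : Type*} [CommRing R] (q : Ideal R) [q.IsPrime]
    (Rq : Type*) [CommRing Rq] [Algebra R Rq] [IsLocalization.AtPrime Rq q] [IsDomain Rq]
    {N Nq : Type*} [AddCommGroup N] [Module R N] [AddCommGroup Nq] [Module R Nq] [Module Rq Nq]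
    [IsScalarTower R Rq Nq] (g : N →ₗ[R] Nq) [IsLocalizedModule q.primeCompl g]
    (h : Submodule.torsion Rq Nq ≠ ⊥) :
    ∃ (n : N) (P : Ideal R), P ∈ (Submodule.span R {n}).annihilator.minimalPrimes ∧ P ≤ q ∧
      P ∉ minimalPrimes R := by
  obtain ⟨y, hy, hy0⟩ := Submodule.exists_mem_ne_zero_of_ne_bot h
  obtain ⟨⟨r, hr⟩, hry⟩ := (Submodule.mem_torsion_iff y).mp hy
  have hry' : r • y = 0 := hry
  have hr0 : r ≠ 0 := nonZeroDivisors.ne_zero hr
  obtain ⟨⟨n, t⟩, hnt⟩ := IsLocalizedModule.surj q.primeCompl g y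
  have hnt' : (t : R) • y = g n := hnt
  have hgn0 : g n ≠ 0 := by
    intro h0
    apply hy0
    have hinj := IsLocalizedModule.smul_injective g t
    apply hinj
    show (t : R) • y = (t : R) • (0 : Nq)
    rw [hnt', h0, smul_zero]
  have hrgn : r • g n = 0 := by
    rw [← hnt', smul_comm, hry', smul_zero]
  obtain ⟨⟨a, t'⟩, hat⟩ := IsLocalization.surj q.primeCompl r
  have hat' : r * algebraMap R Rq t' = algebraMap R Rq a := hat
  have ha0 : algebraMap R Rq a ≠ 0 := by
    rw [← hat']
    exact mul_ne_zero hr0 (IsLocalization.map_units Rq t').ne_zero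
  have hagn : g (a • n) = 0 := by
    rw [map_smul, ← algebraMap_smul Rq a (g n), ← hat', mul_comm, mul_smul, hrgn, smul_zero]
  obtain ⟨u, hu⟩ := (IsLocalizedModule.eq_zero_iff q.primeCompl g).mp hagn
  have hu' : (u : R) • a • n = 0 := hu
  set b : R := (u : R) * a with hb
  have hbn : b • n = 0 := by rw [hb, mul_smul]; exact hu'
  have hb0 : algebraMap R Rq b ≠ 0 := by
    rw [hb, map_mul]
    exact mul_ne_zero (IsLocalization.map_units Rq u).ne_zero ha0
  set I : Ideal R := (Submodule.span R {n}).annihilator with hI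
  have hImem : ∀ c : R, c ∈ I ↔ c • n = 0 := fun c => Submodule.mem_annihilator_span_singleton n c
  have hIq : I ≤ q := by
    intro c hc
    by_contra hcq
    apply hgn0
    exact (IsLocalizedModule.eq_zero_iff q.primeCompl g).mpr ⟨⟨c, hcq⟩, (hImem c).mp hc⟩
  obtain ⟨P, hPmin, hPq⟩ := Ideal.exists_minimalPrimes_le hIq
  refine ⟨n, P, hPmin, hPq, ?_⟩
  intro hPminR
  have hbP : b ∈ P := hPmin.1.2 ((hImem b).mpr hbn)
  obtain ⟨s, hs, k, hsk⟩ :=
    Groth.Agent.Lib.WeakAss_helper4.exists_mul_pow_mem (I := (⊥ : Ideal R)) hPminR hbP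
  have hsk0 : s * b ^ k = 0 := (Submodule.mem_bot R).mp hsk
  have h1 : algebraMap R Rq s * (algebraMap R Rq b) ^ k = 0 := by
    rw [← map_pow, ← map_mul, hsk0, map_zero]
  have h2 : algebraMap R Rq s = 0 := by
    rcases mul_eq_zero.mp h1 with h | h
    · exact h
    · exact absurd h (pow_ne_zero k hb0)
  obtain ⟨v, hv⟩ := (IsLocalization.map_eq_zero_iff q.primeCompl Rq s).mp h2
  have hvs : (v : R) * s ∈ P := by rw [hv]; exact P.zero_mem
  haveI := hPmin.1.1
  rcases Ideal.IsPrime.mem_or_mem ‹P.IsPrime› hvs with h | h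
  · exact v.2 (hPq h)
  · exact hs h

/-- If the maximal ideal of a local domain is associated to a torsion-free module, the ring is a
field. -/
theorem maximalIdeal_eq_bot_of_isAssociatedPrime {R : Type*} [CommRing R] [IsLocalRing R]
    [IsDomain R] {M : Type*} [AddCommGroup M] [Module R M]
    (hass : IsAssociatedPrime (IsLocalRing.maximalIdeal R) M)
    (htf : Submodule.torsion R M = ⊥) : IsLocalRing.maximalIdeal R = ⊥ := by
  obtain ⟨hprime, y, hy⟩ := hass
  have hy0 : y ≠ 0 := by
    intro h0
    apply hprime.ne_top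
    rw [hy, h0]
    have : (⊥ : Submodule R M).colon {(0 : M)} = ⊤ := by
      ext r
      simp [Submodule.mem_colon_singleton]
    rw [this, Ideal.radical_top]
  have hcol : (⊥ : Submodule R M).colon {y} = ⊥ := by
    rw [eq_bot_iff]
    intro r hr
    rw [Submodule.mem_colon_singleton, Submodule.mem_bot] at hr
    by_contra hr0
    have hr0' : r ≠ 0 := fun h => hr0 (by rw [h]; exact Submodule.zero_mem _)
    apply hy0
    have : y ∈ Submodule.torsion R M :=
      (Submodule.mem_torsion_iff y).mpr ⟨⟨r, mem_nonZeroDivisors_of_ne_zero hr0'⟩, hr⟩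
    rw [htf] at this
    exact (Submodule.mem_bot R).mp this
  rw [hy, hcol]
  exact Ideal.radical_bot_of_isReduced

end Alg

variable {X S X' S' : Scheme.{u}}

/-- A point whose local ring is a field is a maximal point. -/
theorem eq_of_specializes_of_maximalIdeal_eq_bot {Y : Scheme.{u}} (z : Y)
    (h : IsLocalRing.maximalIdeal (Y.presheaf.stalk z) = ⊥) (w : Y) (hw : w ⤳ z) : w = z := by
  have h1 : w ∈ Set.range (Y.fromSpecStalk z) := by
    rw [Scheme.range_fromSpecStalk]
    exact hw
  obtain ⟨P, rfl⟩ := h1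
  have hP : P = IsLocalRing.closedPoint (Y.presheaf.stalk z) := by
    apply PrimeSpectrum.ext
    show P.asIdeal = IsLocalRing.maximalIdeal _
    have := IsLocalRing.le_maximalIdeal P.isPrime.ne_top
    rw [h] at this ⊢
    exact le_bot_iff.mp this
  rw [hP, Scheme.fromSpecStalk_closedPoint]

/-- On a scheme with integral local rings, a quasi-coherent module has torsion-free stalks iff its
associated points are maximal points. -/
theorem torsionFree_iff_assPoints_maximal (Y : Scheme.{u}) (G : Y.Modules) [G.IsQuasicoherent]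
    (hdom : ∀ z : Y, IsDomain (Y.presheaf.stalk z)) :
    (∀ z : Y, Submodule.torsion (Y.presheaf.stalk z) (G.presheaf.stalk z) = ⊥) ↔
      ∀ z : Y, Curv2.IsAssPoint G z → ∀ w : Y, w ⤳ z → w = z := by
  constructor
  · intro H z hz w hw
    haveI := hdom z
    exact eq_of_specializes_of_maximalIdeal_eq_bot z
      (maximalIdeal_eq_bot_of_isAssociatedPrime hz (H z)) w hw
  · intro H z
    by_contra htor
    haveI := hdom z
    obtain ⟨_, ⟨W, hW, rfl⟩, hzW, -⟩ :=
      Y.isBasis_affineOpens.exists_subset_of_mem_open (Set.mem_univ z) isOpen_univ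
    have hW : IsAffineOpen W := hW
    have hzW : z ∈ W := hzW
    letI := TopCat.Presheaf.algebra_section_stalk Y.presheaf (⟨z, hzW⟩ : W)
    haveI : IsLocalization.AtPrime (Y.presheaf.stalk z) (hW.primeIdealOf ⟨z, hzW⟩).asIdeal :=
      hW.isLocalization_stalk ⟨z, hzW⟩
    letI := StalkLocH8.modSec G hzW
    haveI : IsScalarTower Γ(Y, W) (Y.presheaf.stalk z) (G.presheaf.stalk z) :=
      IsScalarTower.of_algebraMap_smul (fun _ _ => rfl)
    haveI := StalkLocH8.isLocalizedModule_germLin G hW hzW
    obtain ⟨n, P, hPmin, hPq, hPnot⟩ := exists_weakAss_not_minimal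
      (hW.primeIdealOf ⟨z, hzW⟩).asIdeal (Y.presheaf.stalk z) (StalkLocH8.germLin G hzW) htor
    haveI hPprime : P.IsPrime := hPmin.1.1
    obtain ⟨z₁, hz₁W, hz₁P⟩ := exists_point_of_prime hW P hPprime
    have hass : Curv2.IsAssPoint G z₁ := by
      rw [Groth.Agent.Lib.WeakAssSch3_helper4.isAssPoint_iff_isWeakAssPoint,
        Groth.Agent.Lib.WeakAssSch_helper4.isWeakAssPoint_iff
          (Groth.Agent.Lib.QCohLoc_helper4.locOn_of_isQuasicoherent G hW) hW hz₁W, hz₁P]
      exact ⟨n, hPmin⟩
    apply hPnot
    refine ⟨⟨hPprime, bot_le⟩, ?_⟩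
    rintro P₀ ⟨hP₀prime, -⟩ hP₀P
    obtain ⟨w, hwW, hwP₀⟩ := exists_point_of_prime hW P₀ hP₀prime
    have hspec : w ⤳ z₁ := by
      rw [specializes_iff_mem_closure, mem_closure_iff_prime_le hW hwW hz₁W, hwP₀, hz₁P]
      exact hP₀P
    have hwz := H z₁ hass w hspec
    rw [← hz₁P, ← hwP₀]
    exact le_of_eq (congrArg PrimeSpectrum.asIdeal (primeIdealOf_congr hW hwz.symm hz₁W hwW))

/-- Every relative associated point of `F` over `s` is a maximal point of the fibre over `s`. -/
def TF (f : X ⟶ S) (F : X.Modules) (s : S) : Prop :=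
  ∀ x ∈ MoreMor.relAss f F, f x = s → ∀ y : X, f y = s → y ⤳ x → y = x

theorem fiberι_mem_fiber (f : X ⟶ S) (s : S) (z : ↥(f.fiber s)) : f ((f.fiberι s) z) = s := by
  have : (f.fiberι s) z ∈ Set.range (f.fiberι s) := ⟨z, rfl⟩
  rw [Scheme.Hom.range_fiberι] at this
  exact this

theorem exists_fiberι_eq (f : X ⟶ S) (s : S) (y : X) (hy : f y = s) :
    ∃ z : ↥(f.fiber s), (f.fiberι s) z = y := by
  have : y ∈ Set.range (f.fiberι s) := by
    rw [Scheme.Hom.range_fiberι]
    exact hy
  exact this

theorem tf_iff_fiber (f : X ⟶ S) (F : X.Modules) [F.IsQuasicoherent] (s : S) :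
    TF f F s ↔ ∀ z : ↥(f.fiber s),
      Curv2.IsAssPoint ((Scheme.Modules.pullback (f.fiberι s)).obj F) z →
        ∀ w : ↥(f.fiber s), w ⤳ z → w = z := by
  have hemb : Topology.IsEmbedding (f.fiberι s) := (f.fiberι s).isEmbedding
  constructor
  · intro H z hz w hw
    have hx : (f.fiberι s) z ∈ MoreMor.relAss f F := (isAssPoint_fiber_iff f F s z).mp hz
    have := H _ hx (fiberι_mem_fiber f s z) _ (fiberι_mem_fiber f s w)
      (hw.map (f.fiberι s).continuous)
    exact hemb.injective this
  · intro H x hx hxs y hys hyx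
    obtain ⟨z, rfl⟩ := exists_fiberι_eq f s x hxs
    obtain ⟨w, rfl⟩ := exists_fiberι_eq f s y hys
    have hz : Curv2.IsAssPoint ((Scheme.Modules.pullback (f.fiberι s)).obj F) z :=
      (isAssPoint_fiber_iff f F s z).mpr hx
    have hwz : w ⤳ z := hemb.isInducing.specializes_iff.mp hyx
    rw [H z hz w hwz]

/-- **The fibre module over `s` is torsion-free iff the relative associated points over `s` are
maximal points of the fibre.** -/
theorem torsionFree_fiber_iff (f : X ⟶ S) (F : X.Modules) [F.IsQuasicoherent] (s : S)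
    (hint : ∀ x : ↥(f.fiber s), IsDomain ((f.fiber s).presheaf.stalk x)) :
    (∀ x : ↥(f.fiber s), Submodule.torsion ((f.fiber s).presheaf.stalk x)
      (((Scheme.Modules.pullback (f.fiberι s)).obj F).presheaf.stalk x) = ⊥) ↔ TF f F s := by
  haveI : ((Scheme.Modules.pullback (f.fiberι s)).obj F).IsQuasicoherent :=
    PBH8.isQuasicoherent_pullback (f.fiberι s) F
  rw [tf_iff_fiber]
  exact torsionFree_iff_assPoints_maximal (f.fiber s) _ hint

/-- An associated point of the fibre module at which `F` is free is a maximal point of the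
fibre. -/
theorem eq_of_specializes_of_free (f : X ⟶ S) (F : X.Modules) [F.IsQuasicoherent] (s : S)
    (z : ↥(f.fiber s)) [IsDomain ((f.fiber s).presheaf.stalk z)]
    (hass : Curv2.IsAssPoint ((Scheme.Modules.pullback (f.fiberι s)).obj F) z)
    (hfree : Module.Free (X.presheaf.stalk ((f.fiberι s) z)) (F.presheaf.stalk ((f.fiberι s) z)))
    (w : ↥(f.fiber s)) (hw : w ⤳ z) : w = z := by
  letI alg := ((f.fiberι s).stalkMap z).hom.toAlgebra
  letI : Module (X.presheaf.stalk ((f.fiberι s) z))
      (((Scheme.Modules.pullback (f.fiberι s)).obj F).presheaf.stalk z) :=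
    Module.compHom _ ((f.fiberι s).stalkMap z).hom
  haveI : IsScalarTower (X.presheaf.stalk ((f.fiberι s) z)) ((f.fiber s).presheaf.stalk z)
      (((Scheme.Modules.pullback (f.fiberι s)).obj F).presheaf.stalk z) :=
    IsScalarTower.of_algebraMap_smul fun _ _ => rfl
  have hb := PBH8.isBaseChange_cStalk (f.fiberι s) F z
  haveI := hfree
  haveI : Module.Free ((f.fiber s).presheaf.stalk z)
      (((Scheme.Modules.pullback (f.fiberι s)).obj F).presheaf.stalk z) :=
    Module.Free.of_equiv hb.equiv
  have htf : Submodule.torsion ((f.fiber s).presheaf.stalk z)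
      (((Scheme.Modules.pullback (f.fiberι s)).obj F).presheaf.stalk z) = ⊥ :=
    Module.Flat.torsion_eq_bot
  exact eq_of_specializes_of_maximalIdeal_eq_bot z
    (maximalIdeal_eq_bot_of_isAssociatedPrime hass htf) w hw

section Transport

/-- The residue field extension of a preimmersion is trivial. -/
theorem isIso_residueFieldMap_of_isPreimmersion {Y Z : Scheme.{u}} (g : Y ⟶ Z) [IsPreimmersion g]
    (y : Y) : IsIso (g.residueFieldMap y) := by
  rw [ConcreteCategory.isIso_iff_bijective]
  constructor
  · exact (g.residueFieldMap y).hom.injective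
  · intro c
    obtain ⟨b, rfl⟩ := IsLocalRing.residue_surjective c
    obtain ⟨a, rfl⟩ := g.stalkMap_surjective y b
    refine ⟨(Z.residue (g y)).hom a, ?_⟩
    have := congrArg (fun φ => φ.hom a) (Scheme.residue_residueFieldMap g y)
    exact this

/-- Local integrality of the fibres is inherited by a base change with trivial residue field
extension. -/
theorem isDomain_stalk_fiber_of_isPullback {g' : X' ⟶ X} {f' : X' ⟶ S'} {f : X ⟶ S} {g : S' ⟶ S}
    (hc : IsPullback g' f' f g) (t : S') [IsIso (g.residueFieldMap t)]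
    (hint : ∀ z : ↥(f.fiber (g t)), IsDomain ((f.fiber (g t)).presheaf.stalk z))
    (z' : ↥(f'.fiber t)) : IsDomain ((f'.fiber t).presheaf.stalk z') := by
  obtain ⟨u, hu⟩ : ∃ u : f'.fiber t ⟶ f.fiber (g t),
      IsPullback u (f'.fiberToSpecResidueField t) (f.fiberToSpecResidueField (g t))
        (Spec.map (g.residueFieldMap t)) :=
    ⟨_, isPullback_fiberToSpecResidueField_of_isPullback hc t⟩
  haveI : IsIso u := hu.isIso_fst_of_isIso
  haveI := hint (u z')
  exact MulEquiv.isDomain ((f.fiber (g t)).presheaf.stalk (u z'))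
    (asIso (u.stalkMap z')).commRingCatIsoToRingEquiv.symm.toMulEquiv

end Transport

end Groth.Agent.Lib.FibTF
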