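import Mathlib
import Groth.Prelude
import Groth.Agent.Lib.RelAssSpread_helper2
import Groth.Agent.Lib.RelAssAlg5_helper2

/-!
# Relative associated points outside an open: spreading out from the generic fibre (helper2)

`f : X ⟶ Y` of finite type, `Y` irreducible, `F` quasi-coherent of finite type, `U ⊆ X` open.
If some relative associated point of `F` over the generic point is not in `U`, then over a nonempty
open of `Y` every fibre contains a relative associated point outside `U` (S1369).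
APPEND-ONLY once landed.
-/

set_option autoImplicit false
set_option maxHeartbeats 1000000
universe u

open CategoryTheory AlgebraicGeometry TopologicalSpace Opposite

namespace Groth.Agent.Lib.RelAssSpread

open Groth.Agent.Lib.RelAssAlg

variable {X Y : Scheme.{u}}

/-- **S1369.** -/
theorem main1369 (f : X ⟶ Y) [IrreducibleSpace Y] [LocallyOfFiniteType f]
    (F : X.Modules) (hF : Coh.IsCoh F) (U : X.Opens)
    (h : ∃ x ∈ MoreMor.relAss f F, f x = genericPoint Y ∧ x ∉ U) :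
    ∃ V : Y.Opens, (V : Set Y).Nonempty ∧ ∀ y ∈ V, ∃ x ∈ MoreMor.relAss f F, f x = y ∧ x ∉ U := by
  classical
  haveI : F.IsQuasicoherent := hF.1
  haveI : SheafOfModules.IsFiniteType (R := X.ringCatSheaf) F := hF.2
  obtain ⟨x₀, hx₀, hfx₀, hx₀U⟩ := h
  obtain ⟨_, ⟨V, hV, rfl⟩, hηV, -⟩ := Y.isBasis_affineOpens.exists_subset_of_mem_open
    (Set.mem_univ (genericPoint Y)) isOpen_univ
  have hV : IsAffineOpen V := hV
  have hηV : genericPoint Y ∈ V := hηV
  have hx₀V : x₀ ∈ ((f ⁻¹ᵁ V : X.Opens) : Set X) := by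
    change f x₀ ∈ V
    rw [hfx₀]; exact hηV
  obtain ⟨_, ⟨W, hW, rfl⟩, hx₀W, e⟩ := X.isBasis_affineOpens.exists_subset_of_mem_open
    hx₀V (f ⁻¹ᵁ V).2
  have hW : IsAffineOpen W := hW
  have hx₀W : x₀ ∈ W := hx₀W
  have e : W ≤ f ⁻¹ᵁ V := e
  letI algAB : Algebra Γ(Y, V) Γ(X, W) := (f.appLE V W e).hom.toAlgebra
  letI modAM : Module Γ(Y, V) Γ(F, W) := Module.compHom Γ(F, W) (f.appLE V W e).hom
  haveI : IsScalarTower Γ(Y, V) Γ(X, W) Γ(F, W) :=
    IsScalarTower.of_algebraMap_smul (fun _ _ => rfl)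
  have hft : (f.appLE V W e).hom.FiniteType :=
    HasRingHomProperty.appLE @LocallyOfFiniteType f inferInstance ⟨V, hV⟩ ⟨W, hW⟩ _
  haveI : Algebra.FiniteType Γ(Y, V) Γ(X, W) := hft
  haveI : Module.Finite Γ(X, W) Γ(F, W) := QCohFT.finite_of_isFiniteType F hW
  set n := (hV.primeIdealOf ⟨genericPoint Y, hηV⟩).asIdeal with hn
  set J : Ideal Γ(X, W) := Ideal.span {g : Γ(X, W) | X.basicOpen g ≤ U} with hJ
  have hnle : ∀ p : Ideal Γ(Y, V), p.IsPrime → n ≤ p := by
    intro p hp a ha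
    by_contra hap
    obtain ⟨y, hyV, hyp⟩ := exists_point_of_prime hV p hp
    have hy : y ∈ Y.basicOpen a := by
      rw [mem_basicOpen_iff_notMem_prime hV hyV, hyp]; exact hap
    have hη : genericPoint Y ∈ Y.basicOpen a :=
      ((genericPoint_spec Y).mem_open_set_iff (Y.basicOpen a).2).mpr ⟨y, trivial, hy⟩
    rw [mem_basicOpen_iff_notMem_prime hV hηV] at hη
    exact hη ha
  have comapEq : ∀ (x : X) (hxW : x ∈ W),
      ((hW.primeIdealOf ⟨x, hxW⟩).asIdeal).comap (algebraMap Γ(Y, V) Γ(X, W)) =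
        (hV.primeIdealOf ⟨f x, e hxW⟩).asIdeal := by
    intro x hxW
    have := IsAffineOpen.comap_primeIdealOf_appLE (f := f) V hV W hW e hxW
    exact congrArg PrimeSpectrum.asIdeal this
  set q₀ := (hW.primeIdealOf ⟨x₀, hx₀W⟩).asIdeal with hq₀
  have hq₀n : q₀.comap (algebraMap Γ(Y, V) Γ(X, W)) = n := by
    rw [hq₀, comapEq x₀ hx₀W, hn]
    have : (⟨f x₀, e hx₀W⟩ : V) = ⟨genericPoint Y, hηV⟩ := Subtype.ext hfx₀
    rw [this]
  have hrel₀ : RelAssElem Γ(Y, V) Γ(F, W) q₀ := (mem_relAss_iff f F hV hW e hx₀W).mp hx₀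
  have hJq₀ : J ≤ q₀ := by
    rw [hJ, Ideal.span_le]
    intro g hg
    by_contra hgq
    exact hx₀U (hg ((mem_basicOpen_iff_notMem_prime hW hx₀W g).mpr hgq))
  obtain ⟨a, han, hcore⟩ := core1369 Γ(Y, V) (M := Γ(F, W)) n hnle J q₀ hq₀n hrel₀ hJq₀
  refine ⟨Y.basicOpen a, ⟨genericPoint Y, ?_⟩, ?_⟩
  · change genericPoint Y ∈ Y.basicOpen a
    rw [mem_basicOpen_iff_notMem_prime hV hηV]
    exact han
  · intro y hy
    have hyV : y ∈ V := Y.basicOpen_le a hy
    have hay : a ∉ (hV.primeIdealOf ⟨y, hyV⟩).asIdeal :=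
      (mem_basicOpen_iff_notMem_prime hV hyV a).mp hy
    obtain ⟨q, hq, hqp, hrel, hJq⟩ := hcore _ inferInstance hay
    obtain ⟨x, hxW, hxq⟩ := exists_point_of_prime hW q hq
    refine ⟨x, ?_, ?_, ?_⟩
    · rw [mem_relAss_iff f F hV hW e hxW, hxq]; exact hrel
    · apply eq_of_prime_eq hV (e hxW) hyV
      rw [← comapEq x hxW, hxq, hqp]
    · intro hxU
      obtain ⟨g, hgU, hxg⟩ := hW.exists_basicOpen_le (V := U) ⟨x, hxU⟩ hxW
      have hgq : g ∉ q := by
        rw [← hxq, ← mem_basicOpen_iff_notMem_prime hW hxW]; exact hxg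
      exact hgq (hJq (Ideal.subset_span hgU))

end Groth.Agent.Lib.RelAssSpread
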