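import Mathlib
import Groth.Prelude
import Groth.Agent.Lib.FibTF1_helper2
import Groth.Agent.Lib.RelAssSpread2_helper2
import Groth.Agent.Lib.FreeLoc1_helper8
import Groth.Agent.Lib.Constr_lead
import Groth.Agent.Lib.SetCons2_helper8
import Groth.Agent.Lib.ConsProp1_helper7

/-!
# Fibrewise torsion-free modules, part 2 (helper2, S4832)

* `exists_maximal_generization`, `exists_opens_subset_closure_h2` (topology; the second is the lemma
  of lead's `EtSubA_lead`, copied to avoid the heavy import chain).
* `mem_relAss_baseChange_iff`: S8885 for an arbitrary pullback square, in terms of `relAss`.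
* `tf_pullback_iff`: the condition `TF` is compatible with base change along a morphism whose base
  change is a topological embedding.
* `free_stalk_of_maximal_generic`: over an integral base, at a maximal point of the generic fibre
  (locally integral) every module has free stalk.
* `dichotomy`: over a Noetherian integral base, `TF` holds on a nonempty open or fails on a nonempty
  open.
* `transport`: all hypotheses of S4832 are inherited by base change along a preimmersion.
APPEND-ONLY once landed.
-/

set_option autoImplicit false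
set_option maxHeartbeats 1000000
set_option linter.style.haveILetI false
universe u

open CategoryTheory CategoryTheory.Limits AlgebraicGeometry TopologicalSpace Opposite Topology

namespace Groth.Agent.Lib.FibTF

open Groth.Agent.Lib.RelAssSpread Groth.Agent.Lib.RelAssGen Groth.Agent.Lib.RelAssBCSch

section Top

/-- In a quasi-sober T0 space every point has a maximal generization. -/
theorem exists_maximal_generization {α : Type*} [TopologicalSpace α] [QuasiSober α] [T0Space α]
    (y : α) : ∃ y₀ : α, y₀ ⤳ y ∧ ∀ w : α, w ⤳ y₀ → w = y₀ := by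
  obtain ⟨c, hc⟩ := QuasiSober.sober (isIrreducible_irreducibleComponent (x := y))
    isClosed_irreducibleComponent
  refine ⟨c, ?_, ?_⟩
  · rw [specializes_iff_mem_closure, hc.def]
    exact mem_irreducibleComponent
  · intro w hw
    have h1 : closure {c} ⊆ closure {w} := specializes_iff_closure_subset.mp hw
    rw [hc.def] at h1
    have h2 : closure {w} = irreducibleComponent y :=
      eq_irreducibleComponent isIrreducible_singleton.closure.isPreirreducible h1
    have h3 : c ⤳ w := by
      rw [specializes_iff_mem_closure, hc.def, ← h2]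
      exact subset_closure rfl
    exact (hw.antisymm h3).eq

/-- (lead, `EtSubA_lead`) In a Noetherian quasi-sober space a maximal point has an open
neighbourhood contained in its closure. -/
theorem exists_open_subset_closure_top_h2 {α : Type*} [TopologicalSpace α] [NoetherianSpace α]
    [QuasiSober α] (y : α) (hmax : ∀ c : α, c ⤳ y → c = y) :
    ∃ O : Set α, IsOpen O ∧ y ∈ O ∧ O ⊆ closure {y} := by
  classical
  have hfin : {C ∈ irreducibleComponents α | y ∉ C}.Finite :=
    NoetherianSpace.finite_irreducibleComponents.subset (fun C hC => hC.1)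
  have hB : IsClosed (⋃ C ∈ {C ∈ irreducibleComponents α | y ∉ C}, C) :=
    hfin.isClosed_biUnion (fun C hC => isClosed_of_mem_irreducibleComponents C hC.1)
  refine ⟨(⋃ C ∈ {C ∈ irreducibleComponents α | y ∉ C}, C)ᶜ, hB.isOpen_compl, ?_, ?_⟩
  · intro hy
    obtain ⟨C, hC, hyC⟩ := Set.mem_iUnion₂.mp hy
    exact hC.2 hyC
  · intro v hv
    have hyC : y ∈ irreducibleComponent v := by
      by_contra h
      exact hv (Set.mem_iUnion₂.mpr ⟨irreducibleComponent v,
        ⟨irreducibleComponent_mem_irreducibleComponents v, h⟩, mem_irreducibleComponent⟩)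
    obtain ⟨c, hc⟩ := QuasiSober.sober (isIrreducible_irreducibleComponent (x := v))
      isClosed_irreducibleComponent
    have h1 : c ⤳ y := by
      rw [specializes_iff_mem_closure, hc.def]
      exact hyC
    have h2 := hmax c h1
    rw [← h2, hc.def]
    exact mem_irreducibleComponent

/-- (lead, `EtSubA_lead`) On a locally Noetherian scheme a maximal point has an open neighbourhood
contained in its closure. -/
theorem exists_opens_subset_closure_h2 (Y : Scheme.{u}) [IsLocallyNoetherian Y] (y₀ : Y)
    (hmax : ∀ c : Y, c ⤳ y₀ → c = y₀) :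
    ∃ O : Y.Opens, y₀ ∈ O ∧ (O : Set Y) ⊆ closure {y₀} := by
  obtain ⟨W, hW, hyW⟩ : ∃ W : Y.Opens, IsAffineOpen W ∧ y₀ ∈ W := by
    obtain ⟨_, ⟨W, hW, rfl⟩, hyW, -⟩ := Y.isBasis_affineOpens.exists_subset_of_mem_open
      (Set.mem_univ y₀) isOpen_univ
    exact ⟨W, hW, hyW⟩
  haveI : IsNoetherianRing Γ(Y, W) := IsLocallyNoetherian.component_noetherian ⟨W, hW⟩
  haveI : NoetherianSpace W.toScheme := noetherianSpace_of_isAffineOpen W hW
  obtain ⟨y', hy'⟩ : ∃ y' : W.toScheme, W.ι y' = y₀ := ⟨⟨y₀, hyW⟩, rfl⟩
  have hmax' : ∀ c : W.toScheme, c ⤳ y' → c = y' := by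
    intro c hc
    have h1 : W.ι c ⤳ W.ι y' := hc.map W.ι.continuous
    rw [hy'] at h1
    have h2 := hmax _ h1
    exact W.ι.isOpenEmbedding.injective (h2.trans hy'.symm)
  obtain ⟨O, hO, hyO, hOcl⟩ := exists_open_subset_closure_top_h2 y' hmax'
  refine ⟨⟨W.ι '' O, W.ι.isOpenEmbedding.isOpenMap O hO⟩, ?_, ?_⟩
  · show y₀ ∈ W.ι '' O
    exact ⟨y', hyO, hy'⟩
  · intro v hv
    obtain ⟨w, hw, rfl⟩ : v ∈ W.ι '' O := hv
    have h3 : W.ι w ∈ W.ι '' closure {y'} := ⟨w, hOcl hw, rfl⟩
    have h4 := image_closure_subset_closure_image W.ι.continuous h3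
    rw [Set.image_singleton, hy'] at h4
    exact h4

end Top

variable {X S X' S' : Scheme.{u}}

/-- S8885 for an arbitrary pullback square, in terms of `relAss`. -/
theorem mem_relAss_baseChange_iff (f : X ⟶ S) [LocallyOfFiniteType f] (F : X.Modules)
    [F.IsQuasicoherent] (g : S' ⟶ S) (f' : X' ⟶ S') (g' : X' ⟶ X) (hc : IsPullback g' f' f g)
    (x' : X') :
    x' ∈ MoreMor.relAss f' ((Scheme.Modules.pullback g').obj F) ↔
      g' x' ∈ MoreMor.relAss f F ∧
        ∀ x'' : X', f' x'' = f' x' → g' x'' = g' x' → x'' ⤳ x' → x'' = x' := by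
  have hw : f (g' x') = g (f' x') := by
    have := congrArg (fun φ => φ.base x') hc.w
    exact this
  obtain ⟨_, ⟨V, hV, rfl⟩, hsV, -⟩ := S.isBasis_affineOpens.exists_subset_of_mem_open
    (Set.mem_univ (g (f' x'))) isOpen_univ
  obtain ⟨_, ⟨V', hV', rfl⟩, hs'V', hV'V⟩ := S'.isBasis_affineOpens.exists_subset_of_mem_open
    (show f' x' ∈ ((g ⁻¹ᵁ V : S'.Opens) : Set S') from hsV) (g ⁻¹ᵁ V).2
  obtain ⟨_, ⟨W, hW, rfl⟩, hxW, hWV⟩ := X.isBasis_affineOpens.exists_subset_of_mem_open
    (show g' x' ∈ ((f ⁻¹ᵁ V : X.Opens) : Set X) from by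
      show f (g' x') ∈ V
      rw [hw]; exact hsV) (f ⁻¹ᵁ V).2
  exact chartIff f F g f' g' hc hV hV' hV'V hW hWV x' ⟨hxW, hs'V'⟩

/-- `TF` is compatible with base change, when the base change of the base morphism is a
topological embedding. -/
theorem tf_pullback_iff (f : X ⟶ S) [LocallyOfFiniteType f] (F : X.Modules) [F.IsQuasicoherent]
    (g : S' ⟶ S) (hemb : Topology.IsEmbedding (pullback.fst f g)) (t : S') :
    TF (pullback.snd f g) ((Scheme.Modules.pullback (pullback.fst f g)).obj F) t ↔
      TF f F (g t) := by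
  have hc : IsPullback (pullback.fst f g) (pullback.snd f g) f g := IsPullback.of_hasPullback f g
  have hw : ∀ x' : ↥(pullback f g), f ((pullback.fst f g) x') = g ((pullback.snd f g) x') := by
    intro x'
    have := congrArg (fun φ => φ.base x') hc.w
    exact this
  constructor
  · intro H x hx hxs y hys hyx
    obtain ⟨x', hx'1, hx'2⟩ := Scheme.Pullback.exists_preimage_pullback (f := f) (g := g) x t hxs
    obtain ⟨y', hy'1, hy'2⟩ := Scheme.Pullback.exists_preimage_pullback (f := f) (g := g) y t hys
    have hx'rel : x' ∈ MoreMor.relAss (pullback.snd f g)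
        ((Scheme.Modules.pullback (pullback.fst f g)).obj F) := by
      refine (mem_relAss_baseChange_iff f F g _ _ hc x').mpr ⟨?_, ?_⟩
      · rw [hx'1]; exact hx
      · intro x'' _ h2 _
        exact hemb.injective h2
    have hy'x' : y' ⤳ x' := by
      rw [← hemb.isInducing.specializes_iff, hy'1, hx'1]
      exact hyx
    have h3 := H x' hx'rel hx'2 y' hy'2 hy'x'
    rw [← hy'1, ← hx'1, h3]
  · intro H x' hx' hx's y' hy's hy'x'
    have hx := ((mem_relAss_baseChange_iff f F g _ _ hc x').mp hx').1
    have h1 : f ((pullback.fst f g) x') = g t := by rw [hw, hx's]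
    have h2 : f ((pullback.fst f g) y') = g t := by rw [hw, hy's]
    have h3 : (pullback.fst f g) y' ⤳ (pullback.fst f g) x' :=
      hy'x'.map (pullback.fst f g).continuous
    exact hemb.injective (H _ hx h1 _ h2 h3)

/-- Over an integral base, at a maximal point of the (locally integral) generic fibre every module
has a free stalk: the local ring there is a field. -/
theorem free_stalk_of_maximal_generic [IsIntegral S] (f : X ⟶ S) (F : X.Modules)
    (z : ↥(f.fiber (genericPoint S))) [IsDomain ((f.fiber (genericPoint S)).presheaf.stalk z)]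
    (hmax : ∀ y : X, y ⤳ (f.fiberι (genericPoint S)) z → y = (f.fiberι (genericPoint S)) z) :
    Module.Free (X.presheaf.stalk ((f.fiberι (genericPoint S)) z))
      (F.presheaf.stalk ((f.fiberι (genericPoint S)) z)) := by
  obtain ⟨hsurj, hker⟩ := Groth.Agent.FibStalkKer.main9501 f (genericPoint S) z
  have key : ∀ s : S, s = genericPoint S →
      IsLocalRing.maximalIdeal (S.presheaf.stalk s) = ⊥ := by
    intro s hs
    subst hs
    exact IsLocalRing.isField_iff_maximalIdeal_eq.mp (Field.toIsField S.functionField)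
  have hm := key _ (fiberι_mem_fiber f (genericPoint S) z)
  have hker' : RingHom.ker ((f.fiberι (genericPoint S)).stalkMap z).hom = ⊥ := by
    rw [hker]
    have : IsLocalRing.maximalIdeal
        (S.presheaf.stalk (f.base ((f.fiberι (genericPoint S)).base z))) = ⊥ := hm
    rw [this, Ideal.map_bot]
  have hinj : Function.Injective ((f.fiberι (genericPoint S)).stalkMap z).hom :=
    (RingHom.injective_iff_ker_eq_bot _).mpr hker'
  haveI : IsDomain (X.presheaf.stalk ((f.fiberι (genericPoint S)) z)) :=
    Function.Injective.isDomain ((f.fiberι (genericPoint S)).stalkMap z).hom hinj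
  have hmx : IsLocalRing.maximalIdeal (X.presheaf.stalk ((f.fiberι (genericPoint S)) z)) = ⊥ := by
    rw [eq_bot_iff]
    intro c hc
    have hnil := Groth.Agent.Lib.WeakAssSch3_helper4.isNilpotent_of_mem_maximalIdeal _ hmax c hc
    exact (Submodule.mem_bot _).mpr hnil.eq_zero
  have hfield : IsField (X.presheaf.stalk ((f.fiberι (genericPoint S)) z)) :=
    IsLocalRing.isField_iff_maximalIdeal_eq.mpr hmx
  letI := hfield.toField
  exact Module.Free.of_divisionRing _ _

/-- **Generic dichotomy.** Over a Noetherian integral base, the condition `TF` either holds on a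
nonempty open subset or fails on a nonempty open subset. -/
theorem dichotomy [IsIntegral S] [IsNoetherian S] (f : X ⟶ S) [LocallyOfFiniteType f]
    [QuasiCompact f] (F : X.Modules) [F.IsQuasicoherent]
    [SheafOfModules.IsFinitePresentation (R := X.ringCatSheaf) F]
    (hint : ∀ (s : S) (x : ↥(f.fiber s)), IsDomain ((f.fiber s).presheaf.stalk x)) :
    ∃ V : S.Opens, (V : Set S).Nonempty ∧ ((∀ s ∈ V, TF f F s) ∨ (∀ s ∈ V, ¬ TF f F s)) := by
  classical
  haveI : IsLocallyNoetherian X := LocallyOfFiniteType.isLocallyNoetherian f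
  have hFT : SheafOfModules.IsFiniteType (R := X.ringCatSheaf) F :=
    Groth.Agent.Lib.FibTors.isFT_of_isFP F inferInstance
  have hcoh : Coh.IsCoh F := ⟨inferInstance, hFT⟩
  by_cases hη : TF f F (genericPoint S)
  · -- the generic fibre module is torsion-free
    have h1 : ∀ x ∈ MoreMor.relAss f F, f x = genericPoint S → x ∈ FreeLocH8.freeOpen F := by
      intro x hx hfx
      obtain ⟨z, rfl⟩ := exists_fiberι_eq f (genericPoint S) x hfx
      haveI := hint (genericPoint S) z
      rw [FreeLocH8.mem_freeOpen]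
      apply free_stalk_of_maximal_generic f F z
      intro y hy
      refine hη _ hx hfx y ?_ hy
      have h2 : f y ⤳ f ((f.fiberι (genericPoint S)) z) := hy.map f.continuous
      rw [hfx] at h2
      exact (h2.antisymm (genericPoint_specializes (f y))).eq
    obtain ⟨V, hVne, hV⟩ := main1368 f F hcoh (FreeLocH8.freeOpen F) h1
    refine ⟨V, hVne, Or.inl ?_⟩
    intro s hs
    rw [tf_iff_fiber]
    intro z hz w hw
    haveI := hint s z
    have hx : (f.fiberι s) z ∈ MoreMor.relAss f F := (isAssPoint_fiber_iff f F s z).mp hz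
    have hfree : (f.fiberι s) z ∈ FreeLocH8.freeOpen F :=
      hV _ hx (by rw [fiberι_mem_fiber]; exact hs)
    exact eq_of_specializes_of_free f F s z hz ((FreeLocH8.mem_freeOpen F _).mp hfree) w hw
  · -- the generic fibre module has torsion
    unfold TF at hη
    push_neg at hη
    obtain ⟨ξ, hξ, hfξ, ζ, hfζ, hζξ, hne⟩ := hη
    obtain ⟨O, hO⟩ : ∃ O : X.Opens, (O : Set X) = (closure {ξ})ᶜ :=
      ⟨⟨(closure {ξ})ᶜ, isClosed_closure.isOpen_compl⟩, rfl⟩
    have hmemO : ∀ x : X, x ∈ O ↔ x ∉ closure {ξ} := by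
      intro x
      rw [← SetLike.mem_coe, hO]
      rfl
    have h2 : ∃ x ∈ MoreMor.relAss f F, f x = genericPoint S ∧ x ∉ O :=
      ⟨ξ, hξ, hfξ, fun h => (hmemO ξ).mp h (subset_closure rfl)⟩
    obtain ⟨V₁, hV₁ne, hV₁⟩ := main1369 f F hcoh O h2
    obtain ⟨D, hD⟩ : ∃ D : Set S,
        D = {s : S | Set.univ ∩ f ⁻¹' {s} ⊆ closure ((O : Set X) ∩ f ⁻¹' {s})} := ⟨_, rfl⟩
    have hDlc : IsLocallyConstructible D := by
      rw [hD]
      exact SetConsH8.main3427 f (O : Set X) Set.univ
        (Groth.Agent.Lib.FibTors.isLocallyConstructible_of_isOpen O.2)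
        (Groth.Agent.Lib.FibTors.isLocallyConstructible_of_isOpen isOpen_univ)
    have hDc : IsConstructible D := hDlc.isConstructible
    have hDη : genericPoint S ∈ D := by
      rw [hD]
      rintro y ⟨-, hy⟩
      have hy' : f y = genericPoint S := hy
      obtain ⟨y₀, hy₀y, hy₀max⟩ := exists_maximal_generization y
      have hfy₀ : f y₀ = genericPoint S := by
        have h3 : f y₀ ⤳ f y := hy₀y.map f.continuous
        rw [hy'] at h3
        exact (h3.antisymm (genericPoint_specializes (f y₀))).eq
      by_cases hy₀O : y₀ ∈ O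
      · have h4 : closure {y₀} ⊆ closure ((O : Set X) ∩ f ⁻¹' {genericPoint S}) :=
          closure_mono (Set.singleton_subset_iff.mpr ⟨hy₀O, hfy₀⟩)
        exact h4 (specializes_iff_mem_closure.mp hy₀y)
      · exfalso
        have h4 : y₀ ∈ closure {ξ} := by
          by_contra h
          exact hy₀O ((hmemO y₀).mpr h)
        have h5 : ξ ⤳ y₀ := specializes_iff_mem_closure.mpr h4
        have h6 : ξ = y₀ := hy₀max ξ h5
        have h7 : ζ = y₀ := hy₀max ζ (by rw [← h6]; exact hζξ)
        exact hne (h7.trans h6.symm)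
    obtain ⟨U₂, hU₂o, hηU₂, hU₂⟩ :=
      Groth.Agent.Lib.Constr_lead.exists_open_generic_of_isConstructible hDc (genericPoint_spec S)
    have hU₂D : U₂ ⊆ D := by
      rcases hU₂ with h | h
      · intro s hs
        exact h ⟨hs, trivial⟩
      · exact absurd hDη (h ⟨hηU₂, trivial⟩)
    refine ⟨V₁ ⊓ ⟨U₂, hU₂o⟩, ?_, Or.inr ?_⟩
    · obtain ⟨s₁, hs₁⟩ := hV₁ne
      exact ⟨genericPoint S, (genericPoint_specializes s₁).mem_open V₁.2 hs₁, hηU₂⟩
    · rintro s ⟨hsV₁, hsU₂⟩ hTF
      obtain ⟨x, hx, hfx, hxO⟩ := hV₁ s hsV₁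
      have hxcl : x ∈ closure {ξ} := by
        by_contra h
        exact hxO ((hmemO x).mpr h)
      have hsD : s ∈ D := hU₂D hsU₂
      rw [hD] at hsD
      haveI : LocallyOfFiniteType (f.fiberToSpecResidueField s) :=
        MorphismProperty.pullback_snd _ _ inferInstance
      haveI : IsLocallyNoetherian (f.fiber s) :=
        LocallyOfFiniteType.isLocallyNoetherian (f.fiberToSpecResidueField s)
      obtain ⟨z, hz⟩ := exists_fiberι_eq f s x hfx
      have hemb : Topology.IsEmbedding (f.fiberι s) := (f.fiberι s).isEmbedding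
      have hzmax : ∀ w : ↥(f.fiber s), w ⤳ z → w = z := by
        intro w hw
        have h3 : (f.fiberι s) w ⤳ x := by
          rw [← hz]
          exact hw.map (f.fiberι s).continuous
        have h4 := hTF x hx hfx _ (fiberι_mem_fiber f s w) h3
        exact hemb.injective (h4.trans hz.symm)
      obtain ⟨N, hzN, hNcl⟩ := exists_opens_subset_closure_h2 (f.fiber s) z hzmax
      obtain ⟨N', hN'o, hN'⟩ := hemb.isInducing.isOpen_iff.mp N.2
      have hxN' : x ∈ N' := by
        have h3 : z ∈ (f.fiberι s) ⁻¹' N' := by rw [hN']; exact hzN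
        rw [← hz]
        exact h3
      have hxcl2 : x ∈ closure ((O : Set X) ∩ f ⁻¹' {s}) := hsD ⟨trivial, hfx⟩
      obtain ⟨w, hwN', hwO, hws⟩ := mem_closure_iff.mp hxcl2 N' hN'o hxN'
      obtain ⟨w', rfl⟩ := exists_fiberι_eq f s w hws
      have hw'N : w' ∈ (N : Set ↥(f.fiber s)) := by
        have h3 : w' ∈ (f.fiberι s) ⁻¹' N' := hwN'
        rw [hN'] at h3
        exact h3
      have h5 : z ⤳ w' := specializes_iff_mem_closure.mpr (hNcl hw'N)
      have h6 : x ⤳ (f.fiberι s) w' := by
        rw [← hz]
        exact h5.map (f.fiberι s).continuous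
      have h7 : ξ ⤳ (f.fiberι s) w' := (specializes_iff_mem_closure.mpr hxcl).trans h6
      exact (hmemO _).mp hwO (specializes_iff_mem_closure.mp h7)

/-- All hypotheses of S4832 are inherited by base change along a preimmersion of the base, and the
condition `TF` is compatible with it. -/
theorem transport (f : X ⟶ S) [LocallyOfFiniteType f] [QuasiCompact f] (F : X.Modules)
    [F.IsQuasicoherent] [SheafOfModules.IsFinitePresentation (R := X.ringCatSheaf) F]
    (hint : ∀ (s : S) (x : ↥(f.fiber s)), IsDomain ((f.fiber s).presheaf.stalk x))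
    (g : S' ⟶ S) [IsPreimmersion g] :
    ∃ (X' : Scheme.{u}) (f' : X' ⟶ S') (_ : LocallyOfFiniteType f') (_ : QuasiCompact f')
      (F' : X'.Modules) (_ : F'.IsQuasicoherent)
      (_ : SheafOfModules.IsFinitePresentation (R := X'.ringCatSheaf) F'),
      (∀ (t : S') (z' : ↥(f'.fiber t)), IsDomain ((f'.fiber t).presheaf.stalk z')) ∧
      ∀ t : S', TF f' F' t ↔ TF f F (g t) := by
  refine ⟨pullback f g, pullback.snd f g, inferInstance, inferInstance,
    (Scheme.Modules.pullback (pullback.fst f g)).obj F,
    PBH8.isQuasicoherent_pullback _ F, FpqcH8.isFP_pullback _ F, ?_, ?_⟩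
  · intro t z'
    haveI := isIso_residueFieldMap_of_isPreimmersion g t
    exact isDomain_stalk_fiber_of_isPullback (IsPullback.of_hasPullback f g) t (hint (g t)) z'
  · intro t
    exact tf_pullback_iff f F g (pullback.fst f g).isEmbedding t

end Groth.Agent.Lib.FibTF
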