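/-
helper5: the locus of points of the base over which all relative associated points of a module lie in
a given open (EGA IV 9.8-type; towards S1370): base change and the Noetherian case.
APPEND-ONLY once landed.
-/
import Mathlib
import Groth.Agent.Lib.FibTF2_helper2
import Groth.Agent.Lib.RelAssBCSch2_helper2
import Groth.Agent.Lib.RelAssSpread_helper2
import Groth.Agent.Lib.RelAssSpread2_helper2
import Groth.Agent.Lib.FibNoEmb2_helper5
import Groth.Agent.Lib.FibCoh_helper8
import Groth.Agent.Lib.FibChain_helper8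
import Groth.Agent.Lib.ConsMod1_helper2

set_option autoImplicit false
set_option linter.style.haveILetI false
set_option linter.unusedVariables false

namespace Groth.Agent.Lib.RelAssUH5

open AlgebraicGeometry CategoryTheory TopologicalSpace Topology Limits

universe u

variable {X S X' S' : Scheme.{u}}

/-- the locus of points of the base over which all relative associated points lie in `U` -/
def locusU (f : X ⟶ S) (F : X.Modules) (U : X.Opens) : Set S :=
  {y : S | ∀ x ∈ MoreMor.relAss f F, f x = y → x ∈ U}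

theorem mem_locusU_iff (f : X ⟶ S) (F : X.Modules) (U : X.Opens) (y : S) :
    y ∈ locusU f F U ↔ ∀ x ∈ MoreMor.relAss f F, f x = y → x ∈ U := Iff.rfl

/-- the relative assassin only depends on the isomorphism class of the module -/
theorem mem_relAss_iff_of_iso (f : X ⟶ S) {F G : X.Modules} [F.IsQuasicoherent]
    [G.IsQuasicoherent] (α : F ≅ G) (x : X) :
    x ∈ MoreMor.relAss f F ↔ x ∈ MoreMor.relAss f G := by
  have h1 := Groth.Agent.Lib.RelAssBCSch.isAssPoint_fiber_iff f F (f x) (f.asFiber x)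
  have h2 := Groth.Agent.Lib.RelAssBCSch.isAssPoint_fiber_iff f G (f x) (f.asFiber x)
  rw [Scheme.Hom.fiberι_asFiber] at h1 h2
  rw [← h1, ← h2]
  exact FibNoEmbH5.isAssPoint_iff_of_iso
    ((Scheme.Modules.pullback (f.fiberι (f x))).mapIso α) _

/-- every point of a base change has a generization with the same two images which is maximal
among such points -/
theorem exists_max_doubleFibre (f' : X' ⟶ S') [LocallyOfFiniteType f'] (g' : X' ⟶ X) (x₀ : X') :
    ∃ x' : X', f' x' = f' x₀ ∧ g' x' = g' x₀ ∧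
      ∀ x'' : X', f' x'' = f' x' → g' x'' = g' x' → x'' ⤳ x' → x'' = x' := by
  haveI := Groth.Agent.FibChainH8.isLocallyNoetherian_fiber f' (f' x₀)
  have hfin : ringKrullDim ((f'.fiber (f' x₀)).presheaf.stalk (f'.asFiber x₀)) < ⊤ :=
    ringKrullDim_lt_top
  rw [FibCohH8.stalk_fiber_eq_fibCoh] at hfin
  have hfin' : FibCohH8.fibCoh f' x₀ ≠ ⊤ := by
    intro h
    rw [h] at hfin
    exact lt_irrefl _ hfin
  let ι : {u' : X' // f' u' = f' x₀ ∧ g' u' = g' x₀} → {u' : X' // f' u' = f' x₀} :=
    fun t => ⟨t.1, t.2.1⟩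
  have hι : StrictMono ι := fun a b hab => hab
  have hle : Order.coheight (⟨x₀, rfl, rfl⟩ : {u' : X' // f' u' = f' x₀ ∧ g' u' = g' x₀}) ≤
      FibCohH8.fibCoh f' x₀ :=
    Order.coheight_le_coheight_apply_of_strictMono ι hι _
  have hT : Order.coheight (⟨x₀, rfl, rfl⟩ : {u' : X' // f' u' = f' x₀ ∧ g' u' = g' x₀}) ≠ ⊤ :=
    ne_top_of_le_ne_top hfin' hle
  obtain ⟨n, hn⟩ := ENat.ne_top_iff_exists.mp hT
  obtain ⟨⟨x', hx'1, hx'2⟩, hle', hmax⟩ := FibNoEmbH5.exists_isMax_ge_of_coheight_ne_top n
    (⟨x₀, rfl, rfl⟩ : {u' : X' // f' u' = f' x₀ ∧ g' u' = g' x₀}) hn.symm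
  refine ⟨x', hx'1, hx'2, ?_⟩
  intro x'' h1 h2 hsp
  have hle'' : (⟨x', hx'1, hx'2⟩ : {u' : X' // f' u' = f' x₀ ∧ g' u' = g' x₀}) ≤
      ⟨x'', h1.trans hx'1, h2.trans hx'2⟩ := hsp
  have hge := hmax hle''
  exact (hsp.antisymm (show x' ⤳ x'' from hge)).eq

/-- **base change** for the locus where the relative associated points lie in an open -/
theorem mem_locusU_baseChange_iff (f : X ⟶ S) [LocallyOfFiniteType f] (F : X.Modules)
    [F.IsQuasicoherent] (U : X.Opens) (g : S' ⟶ S) (f' : X' ⟶ S') (g' : X' ⟶ X)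
    (sq : IsPullback g' f' f g) (F' : X'.Modules) [F'.IsQuasicoherent]
    (α : F' ≅ (Scheme.Modules.pullback g').obj F) (s' : S') :
    s' ∈ locusU f' F' (g' ⁻¹ᵁ U) ↔ g s' ∈ locusU f F U := by
  haveI : LocallyOfFiniteType f' := MorphismProperty.of_isPullback sq inferInstance
  haveI : ((Scheme.Modules.pullback g').obj F).IsQuasicoherent :=
    PBH8.isQuasicoherent_pullback g' F
  have hw : ∀ x' : X', f (g' x') = g (f' x') := fun x' => by
    have := congrArg (fun φ => φ.base x') sq.w
    exact this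
  constructor
  · intro h x hx hfx
    obtain ⟨x₀, hx₀1, hx₀2⟩ := Scheme.exists_preimage_of_isPullback sq x s' hfx
    obtain ⟨x', h1, h2, hmax⟩ := exists_max_doubleFibre f' g' x₀
    have hrel : x' ∈ MoreMor.relAss f' F' := by
      rw [mem_relAss_iff_of_iso f' α,
        Groth.Agent.Lib.FibTF.mem_relAss_baseChange_iff f F g f' g' sq x']
      refine ⟨?_, hmax⟩
      rw [h2, hx₀1]
      exact hx
    have h3 : g' x' ∈ U := h x' hrel (h1.trans hx₀2)
    rwa [h2, hx₀1] at h3
  · intro h x' hx' hfx'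
    rw [mem_relAss_iff_of_iso f' α,
      Groth.Agent.Lib.FibTF.mem_relAss_baseChange_iff f F g f' g' sq x'] at hx'
    show g' x' ∈ U
    apply h (g' x') hx'.1
    rw [hw, hfx']

/-- Over a Noetherian base the locus is constructible. -/
theorem isConstructible_locusU {X S : Scheme.{u}} (f : X ⟶ S)
    [IsNoetherian S] [LocallyOfFiniteType f] [QuasiCompact f] (F : X.Modules)
    (hF : Coh.IsCoh F) (U : X.Opens) : IsConstructible (locusU f F U) := by
  haveI : F.IsQuasicoherent := hF.1
  apply Groth.Agent.Lib.ConsPropH7.isConstructible_of_forall_generic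
  intro ξ
  obtain ⟨I, hint, hN, hgen, hrange⟩ := Groth.Agent.Lib.ConsPropH7.exists_red_closure ξ
  haveI := hint
  haveI := hN
  have sq := IsPullback.of_hasPullback f I.subschemeι
  have hF' := Groth.Agent.Lib.ConsModH2.isCoh_pullback (pullback.fst f I.subschemeι) F hF
  haveI : ((Scheme.Modules.pullback (pullback.fst f I.subschemeι)).obj F).IsQuasicoherent :=
    hF'.1
  haveI : LocallyOfFiniteType (pullback.snd f I.subschemeι) :=
    MorphismProperty.pullback_snd _ _ inferInstance
  haveI : QuasiCompact (pullback.snd f I.subschemeι) :=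
    MorphismProperty.pullback_snd _ _ inferInstance
  have hloc : ∀ t : I.subscheme,
      t ∈ locusU (pullback.snd f I.subschemeι)
        ((Scheme.Modules.pullback (pullback.fst f I.subschemeι)).obj F)
        ((pullback.fst f I.subschemeι) ⁻¹ᵁ U) ↔ I.subschemeι t ∈ locusU f F U :=
    fun t => mem_locusU_baseChange_iff f F U I.subschemeι _ _ sq _ (Iso.refl _) t
  by_cases hη : genericPoint I.subscheme ∈ locusU (pullback.snd f I.subschemeι)
      ((Scheme.Modules.pullback (pullback.fst f I.subschemeι)).obj F)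
      ((pullback.fst f I.subschemeι) ⁻¹ᵁ U)
  · obtain ⟨V, hVne, hV⟩ := Groth.Agent.Lib.RelAssSpread.main1368
      (pullback.snd f I.subschemeι) _ hF' ((pullback.fst f I.subschemeι) ⁻¹ᵁ U) hη
    obtain ⟨W, hW, hξW, hsub⟩ := Groth.Agent.Lib.ConsPropH7.exists_open_of_subscheme ξ I hgen
      hrange (V : Set I.subscheme) (locusU f F U) V.2 hVne
      (fun t ht => (hloc t).mp (fun x hx hxt => hV x hx (by rw [hxt]; exact ht)))
    exact ⟨W, hW, hξW, Or.inl hsub⟩
  · have hη' : ∃ x ∈ MoreMor.relAss (pullback.snd f I.subschemeι)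
        ((Scheme.Modules.pullback (pullback.fst f I.subschemeι)).obj F),
        (pullback.snd f I.subschemeι) x = genericPoint I.subscheme ∧
          x ∉ (pullback.fst f I.subschemeι) ⁻¹ᵁ U := by
      by_contra hcon
      apply hη
      intro x hx hxt
      by_contra hxU
      exact hcon ⟨x, hx, hxt, hxU⟩
    obtain ⟨V, hVne, hV⟩ := Groth.Agent.Lib.RelAssSpread.main1369
      (pullback.snd f I.subschemeι) _ hF' ((pullback.fst f I.subschemeι) ⁻¹ᵁ U) hη'
    obtain ⟨W, hW, hξW, hsub⟩ := Groth.Agent.Lib.ConsPropH7.exists_open_of_subscheme ξ I hgen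
      hrange (V : Set I.subscheme) (locusU f F U)ᶜ V.2 hVne
      (fun t ht hcon => by
        obtain ⟨x, hx, hxt, hxU⟩ := hV t ht
        exact hxU ((hloc t).mpr hcon x hx hxt))
    exact ⟨W, hW, hξW, Or.inr hsub⟩

end Groth.Agent.Lib.RelAssUH5
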