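/-
helper5: the locus of points of the base over which all relative associated points of a module lie in
a given quasi-compact open is locally constructible (S1370): descent to a Noetherian base
(with the open) and the general case.
APPEND-ONLY once landed.
-/
import Mathlib
import Groth.Agent.Lib.RelAssU1_helper5

set_option autoImplicit false
set_option linter.style.haveILetI false
set_option linter.unusedVariables false

namespace Groth.Agent.Lib.RelAssUH5

open AlgebraicGeometry CategoryTheory TopologicalSpace Topology Limits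
open Set.Notation
open Groth.Agent.Lib.ConsPropH7 Groth.Agent.Lib.LimBaseChangeH7 Groth.Agent.Lib.LimDescFPH7
open Groth.Agent.Lib.ConsModH2

universe u

section Descend

/-- A finitely presented morphism `X ⟶ lim S_i` with a finitely presented quasi-coherent module
and a quasi-compact open descends to a stage. -/
theorem exists_descend_modU {I : Type u} [SmallCategory I] [IsCofiltered I]
    (D : I ⥤ Scheme.{u}) (c : Cone D) (hc : IsLimit c)
    [∀ (i j : I) (a : i ⟶ j), IsAffineHom (D.map a)] [∀ i, CompactSpace (D.obj i)]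
    [∀ i, QuasiSeparatedSpace (D.obj i)] {X : Scheme.{u}} (u : X ⟶ c.pt)
    [LocallyOfFinitePresentation u] [QuasiCompact u] [QuasiSeparated u]
    (F : X.Modules) [Coh.IsQCoh F] (hF : CohB1.IsFP F) (U : X.Opens)
    (hU : IsCompact (U : Set X)) :
    ∃ (i : I) (Xi : Scheme.{u}) (ui : Xi ⟶ D.obj i) (q : X ⟶ Xi) (Fi : Xi.Modules)
      (Ui : Xi.Opens),
      LocallyOfFinitePresentation ui ∧ QuasiCompact ui ∧ QuasiSeparated ui ∧
        IsPullback q u ui (c.π.app i) ∧ Coh.IsQCoh Fi ∧ CohB1.IsFP Fi ∧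
        Nonempty ((Scheme.Modules.pullback q).obj Fi ≅ F) ∧ q ⁻¹ᵁ Ui = U := by
  obtain ⟨i₁, X₁, u₁, q₁, F₁, hlfp₁, hqc₁, hqs₁, hpb₁, hq₁, hfp₁, ⟨ε⟩⟩ :=
    exists_descend_mod D c hc u F hF
  haveI := hlfp₁
  haveI := hqc₁
  haveI := hqs₁
  haveI := hq₁
  haveI := hfp₁
  haveI : F₁.IsQuasicoherent := hq₁
  haveI : CompactSpace X₁ := QuasiCompact.compactSpace_of_compactSpace u₁
  haveI : QuasiSeparatedSpace X₁ := quasiSeparatedSpace_of_quasiSeparated u₁
  haveI : ∀ {j k : Over i₁} (g : j ⟶ k), IsAffineHom ((bcDiagram D i₁ u₁).map g) :=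
    fun g => inferInstance
  let U' : (bcCone c hpb₁).pt.Opens := U
  have hU' : IsCompact (U' : Set (bcCone c hpb₁).pt) := hU
  obtain ⟨j, V, hV, hVU⟩ := AlgebraicGeometry.exists_preimage_eq (bcDiagram D i₁ u₁)
    (bcCone c hpb₁) (isLimitBcCone c hpb₁ hc) U' hU'
  haveI : Coh.IsQCoh ((Scheme.Modules.pullback (pullback.fst u₁ (D.map j.hom))).obj F₁) :=
    PBH8.isQuasicoherent_pullback _ F₁
  refine ⟨j.left, pullback u₁ (D.map j.hom), pullback.snd u₁ (D.map j.hom),
    (bcCone c hpb₁).π.app j, (Scheme.Modules.pullback (pullback.fst u₁ (D.map j.hom))).obj F₁, V,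
    MorphismProperty.pullback_snd _ _ inferInstance,
    MorphismProperty.pullback_snd _ _ inferInstance,
    MorphismProperty.pullback_snd _ _ inferInstance, isPullback_bcCone_π c hpb₁ j,
    inferInstance, FpqcH8.isFP_pullback _ F₁, ⟨?_⟩, hVU⟩
  exact (DescH8.pbIso ((bcCone c hpb₁).π.app j) (pullback.fst u₁ (D.map j.hom)) q₁
    (bcCone_π_fst c hpb₁ j)).app F₁ ≪≫ ε

end Descend

section Affine

/-- descent of a finitely presented morphism with module and quasi-compact open over `Spec A` to a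
Noetherian base -/
theorem exists_noetherian_model_modU (A : Type u) [CommRing A] {X : Scheme.{u}}
    (u : X ⟶ Spec (CommRingCat.of A))
    [LocallyOfFinitePresentation u] [QuasiCompact u] [QuasiSeparated u]
    (F : X.Modules) [Coh.IsQCoh F] (hF : CohB1.IsFP F) (U : X.Opens)
    (hU : IsCompact (U : Set X)) :
    ∃ (S₀ X₀ : Scheme.{u}) (_ : IsNoetherian S₀) (u₀ : X₀ ⟶ S₀)
      (h : Spec (CommRingCat.of A) ⟶ S₀) (q : X ⟶ X₀) (F₀ : X₀.Modules) (U₀ : X₀.Opens),
      LocallyOfFiniteType u₀ ∧ QuasiCompact u₀ ∧ IsPullback q u u₀ h ∧ Coh.IsCoh F₀ ∧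
        Nonempty ((Scheme.Modules.pullback q).obj F₀ ≅ F) ∧ q ⁻¹ᵁ U₀ = U := by
  letI : Algebra (ULift.{u} ℤ) A := ULift.algebra' ℤ A
  haveI : ∀ i, CompactSpace ((DS (ULift.{u} ℤ) A).obj i) := fun i => inferInstance
  haveI : ∀ i, QuasiSeparatedSpace ((DS (ULift.{u} ℤ) A).obj i) := fun i => inferInstance
  let u' : X ⟶ (coneS (ULift.{u} ℤ) A).pt := u
  haveI : LocallyOfFinitePresentation u' := ‹LocallyOfFinitePresentation u›
  haveI : QuasiCompact u' := ‹QuasiCompact u›
  haveI : QuasiSeparated u' := ‹QuasiSeparated u›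
  obtain ⟨i, Xi, ui, q, Fi, Ui, h1, h2, h3, h4, h5, h6, h7, h8⟩ :=
    exists_descend_modU (DS (ULift.{u} ℤ) A) (coneS (ULift.{u} ℤ) A)
      (isLimitConeS (ULift.{u} ℤ) A) u' F hF U hU
  haveI := h1
  haveI := h5
  exact ⟨_, Xi, isNoetherian_stage A i, ui, (coneS (ULift.{u} ℤ) A).π.app i, q, Fi, Ui,
    inferInstance, h2, h4, isCoh_of_isFP Fi h6, h7, h8⟩

/-- descent of a finitely presented morphism with module and quasi-compact open over an affine
scheme to a Noetherian base -/
theorem exists_noetherian_model_modU_of_isAffine {X S : Scheme.{u}} [IsAffine S] (u : X ⟶ S)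
    [LocallyOfFinitePresentation u] [QuasiCompact u] [QuasiSeparated u]
    (F : X.Modules) [Coh.IsQCoh F] (hF : CohB1.IsFP F) (U : X.Opens)
    (hU : IsCompact (U : Set X)) :
    ∃ (S₀ X₀ : Scheme.{u}) (_ : IsNoetherian S₀) (u₀ : X₀ ⟶ S₀) (h : S ⟶ S₀) (q : X ⟶ X₀)
      (F₀ : X₀.Modules) (U₀ : X₀.Opens),
      LocallyOfFiniteType u₀ ∧ QuasiCompact u₀ ∧ IsPullback q u u₀ h ∧ Coh.IsCoh F₀ ∧
        Nonempty ((Scheme.Modules.pullback q).obj F₀ ≅ F) ∧ q ⁻¹ᵁ U₀ = U := by
  let e : S ⟶ Spec (CommRingCat.of Γ(S, ⊤)) := S.isoSpec.hom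
  haveI : IsIso e := inferInstanceAs (IsIso S.isoSpec.hom)
  haveI : LocallyOfFinitePresentation (u ≫ e) := inferInstance
  haveI : QuasiCompact (u ≫ e) := inferInstance
  haveI : QuasiSeparated (u ≫ e) := inferInstance
  obtain ⟨S₀, X₀, hN, u₀, h, q, F₀, U₀, h1, h2, h3, h4, h5, h6⟩ :=
    exists_noetherian_model_modU Γ(S, ⊤) (u ≫ e) F hF U hU
  refine ⟨S₀, X₀, hN, u₀, e ≫ h, q, F₀, U₀, h1, h2, ?_, h4, h5, h6⟩
  have hiso : IsPullback (𝟙 X) u (u ≫ e) e := IsPullback.of_horiz_isIso ⟨by simp⟩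
  have h7 := hiso.paste_horiz h3
  simpa using h7

/-- Over an affine base the locus is constructible. -/
theorem isConstructible_locusU_of_isAffine {X S : Scheme.{u}} [IsAffine S] (f : X ⟶ S)
    [LocallyOfFinitePresentation f] [QuasiCompact f] [QuasiSeparated f]
    (F : X.Modules) [Coh.IsQCoh F] (hF : CohB1.IsFP F) (U : X.Opens)
    (hU : IsCompact (U : Set X)) :
    IsConstructible (locusU f F U) := by
  obtain ⟨S₀, X₀, hN, u₀, h, q, F₀, U₀, h1, h2, h3, h4, ⟨ε⟩, h6⟩ :=
    exists_noetherian_model_modU_of_isAffine f F hF U hU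
  haveI := hN
  haveI := h1
  haveI := h2
  haveI : F₀.IsQuasicoherent := h4.1
  haveI : F.IsQuasicoherent := ‹Coh.IsQCoh F›
  have e : locusU f F U = h ⁻¹' locusU u₀ F₀ U₀ := by
    ext s
    rw [← h6]
    exact mem_locusU_baseChange_iff u₀ F₀ U₀ h f q h3 F ε.symm s
  rw [e]
  exact h.isConstructible_preimage (isConstructible_locusU u₀ F₀ h4 U₀)

end Affine

section General

/-- restriction of the locus to an open subscheme of the base -/
theorem locusU_restrict {X S : Scheme.{u}} (f : X ⟶ S) [LocallyOfFiniteType f]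
    (F : X.Modules) [F.IsQuasicoherent] (U : X.Opens) (V : S.Opens) :
    ((V : Set S) ↓∩ locusU f F U) =
      locusU (pullback.snd f V.ι) ((Scheme.Modules.pullback (pullback.fst f V.ι)).obj F)
        ((pullback.fst f V.ι) ⁻¹ᵁ U) := by
  haveI : ((Scheme.Modules.pullback (pullback.fst f V.ι)).obj F).IsQuasicoherent :=
    PBH8.isQuasicoherent_pullback _ F
  ext t
  exact (mem_locusU_baseChange_iff f F U V.ι _ _ (IsPullback.of_hasPullback f V.ι) _
    (Iso.refl _) t).symm

/-- the preimage of an open which is quasi-compact over the base in the restriction over an affine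
open of the base is quasi-compact -/
theorem isCompact_preimage_restrict {X S : Scheme.{u}} (f : X ⟶ S) (U : X.Opens)
    [QuasiCompact (U.ι ≫ f)] (V : S.Opens) (hV : IsAffineOpen V) :
    IsCompact (((pullback.fst f V.ι) ⁻¹ᵁ U : (pullback f V.ι).Opens) : Set ↥(pullback f V.ι)) := by
  have hemb : IsOpenEmbedding (pullback.fst f V.ι) := (pullback.fst f V.ι).isOpenEmbedding
  rw [hemb.isEmbedding.isCompact_iff]
  have h1 : IsCompact ((U.ι ≫ f) ⁻¹' (V : Set S)) :=
    QuasiCompact.isCompact_preimage (f := U.ι ≫ f) _ V.2 hV.isCompact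
  have h2 : IsCompact (U.ι '' ((U.ι ≫ f) ⁻¹' (V : Set S))) := h1.image U.ι.continuous
  have heq : (pullback.fst f V.ι) '' (((pullback.fst f V.ι) ⁻¹ᵁ U : (pullback f V.ι).Opens) :
      Set ↥(pullback f V.ι)) = U.ι '' ((U.ι ≫ f) ⁻¹' (V : Set S)) := by
    ext x
    constructor
    · rintro ⟨z, hz, rfl⟩
      refine ⟨⟨(pullback.fst f V.ι) z, hz⟩, ?_, rfl⟩
      show f ((pullback.fst f V.ι) z) ∈ V
      have hw : f ((pullback.fst f V.ι) z) = V.ι ((pullback.snd f V.ι) z) := by
        have := congrArg (fun φ => φ.base z) (pullback.condition (f := f) (g := V.ι))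
        exact this
      rw [hw]
      exact ((pullback.snd f V.ι) z).2
    · rintro ⟨⟨x, hxU⟩, hxV, rfl⟩
      have hxV' : f x ∈ V := hxV
      obtain ⟨z, hz1, hz2⟩ := Scheme.Pullback.exists_preimage_pullback (f := f) (g := V.ι) x
        ⟨f x, hxV'⟩ rfl
      exact ⟨z, by show (pullback.fst f V.ι) z ∈ U; rw [hz1]; exact hxU, hz1⟩
  rw [heq]
  exact h2

theorem isConstructible_locusU_restrict {X S : Scheme.{u}} (f : X ⟶ S)
    [LocallyOfFinitePresentation f] [QuasiCompact f] [QuasiSeparated f]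
    (F : X.Modules) [Coh.IsQCoh F] (hF : CohB1.IsFP F) (U : X.Opens) [QuasiCompact (U.ι ≫ f)]
    (V : S.Opens) (hV : IsAffineOpen V) :
    IsConstructible ((V : Set S) ↓∩ locusU f F U) := by
  haveI : IsAffine (V : Scheme.{u}) := hV
  haveI := hF
  haveI : F.IsQuasicoherent := ‹Coh.IsQCoh F›
  haveI : LocallyOfFinitePresentation (pullback.snd f V.ι) :=
    MorphismProperty.pullback_snd _ _ inferInstance
  haveI : QuasiCompact (pullback.snd f V.ι) := MorphismProperty.pullback_snd _ _ inferInstance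
  haveI : QuasiSeparated (pullback.snd f V.ι) := MorphismProperty.pullback_snd _ _ inferInstance
  rw [locusU_restrict f F U V]
  haveI : Coh.IsQCoh ((Scheme.Modules.pullback (pullback.fst f V.ι)).obj F) :=
    PBH8.isQuasicoherent_pullback _ F
  exact isConstructible_locusU_of_isAffine _ _ (FpqcH8.isFP_pullback _ F) _
    (isCompact_preimage_restrict f U V hV)

/-- **S1370** -/
theorem main1370 {X S : Scheme.{u}} (f : X ⟶ S)
    [LocallyOfFinitePresentation f] [QuasiCompact f] [QuasiSeparated f]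
    (F : X.Modules) [Coh.IsQCoh F] (hF : CohB1.IsFP F) (U : X.Opens) [QuasiCompact (U.ι ≫ f)] :
    IsLocallyConstructible (locusU f F U) := by
  intro x
  obtain ⟨_, ⟨V, hV, rfl⟩, hxV, -⟩ :=
    S.isBasis_affineOpens.exists_subset_of_mem_open (Set.mem_univ x) isOpen_univ
  exact ⟨V, V.2.mem_nhds hxV, V.2, isConstructible_locusU_restrict f F hF U V hV⟩

end General

end Groth.Agent.Lib.RelAssUH5
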