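import Mathlib
import Groth.Agent.Lib.FibCrit12_helper8
import Groth.Agent.Lib.FibCrit9_helper8

/-! Open immersions / isomorphisms and thickenings of the base, modulo `Crit` (helper8).
APPEND-ONLY once landed. -/

set_option autoImplicit false
universe u

namespace Groth.Agent.Lib.FibCritH8

open AlgebraicGeometry CategoryTheory Limits IsLocalRing

variable {X X' Y Y' S S' : Scheme.{u}}

/-- Over a thickening `S ⟶ S'`, the fibre maps of `f'` are base changes of `f`. -/
theorem fiberMap_of_thickening (P : MorphismProperty Scheme.{u}) [P.IsStableUnderBaseChange]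
    (iX : X ⟶ X') (iY : Y ⟶ Y') (iS : S ⟶ S')
    (f : X ⟶ Y) (f' : X' ⟶ Y') (g : Y ⟶ S) (g' : Y' ⟶ S')
    (hS : MoreMor.IsThickening iS) (hcX : IsPullback iX (f ≫ g) (f' ≫ g') iS)
    (hcY : IsPullback iY g g' iS) (w : iX ≫ f' = f ≫ iY) (hf : P f) (s' : S') :
    P (MoreMor.fiberMap f' g' s') := by
  have htop : IsPullback iX f f' iY := IsPullback.of_bot hcX w hcY
  obtain ⟨σ, hσ⟩ := exists_lift_fromSpecResidueField iS hS s'
  let t : g'.fiber s' ⟶ Y :=
    hcY.lift (g'.fiberι s') (g'.fiberToSpecResidueField s' ≫ σ)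
      (by rw [Category.assoc, hσ]; exact g'.fiber_fac _)
  have ht : t ≫ iY = g'.fiberι s' := hcY.lift_fst _ _ _
  have hbig : IsPullback ((f' ≫ g').fiberι s') (MoreMor.fiberMap f' g' s') f' (t ≫ iY) := by
    rw [ht]
    exact isPullback_fiberMap f' g' _
  let top : (f' ≫ g').fiber s' ⟶ X :=
    htop.lift ((f' ≫ g').fiberι s') (MoreMor.fiberMap f' g' s' ≫ t)
      (by rw [Category.assoc, ht]; exact (fiberMap_fiberι f' g' _).symm)
  have h1 : top ≫ iX = (f' ≫ g').fiberι s' := htop.lift_fst _ _ _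
  have h2 : top ≫ f = MoreMor.fiberMap f' g' s' ≫ t := htop.lift_snd _ _ _
  have hbig' : IsPullback (top ≫ iX) (MoreMor.fiberMap f' g' s') f' (t ≫ iY) := by
    rw [h1]; exact hbig
  have hleft := IsPullback.of_right hbig' h2 htop
  exact MorphismProperty.of_isPullback (P := P) hleft hf

theorem snd_of_fiberMap (P : MorphismProperty Scheme.{u}) [P.RespectsIso]
    {f : X ⟶ Y} {g : Y ⟶ S} (s : S) (h : P (MoreMor.fiberMap f g s)) :
    P (pullback.snd f (g.fiberι s)) := by
  rw [fiberMap_eq] at h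
  exact (MorphismProperty.cancel_left_of_respectsIso P _ _).mp h

theorem isOpenImmersion_iff_of_thickening (iX : X ⟶ X') (iY : Y ⟶ Y') (iS : S ⟶ S')
    (f : X ⟶ Y) (f' : X' ⟶ Y') (g : Y ⟶ S) (g' : Y' ⟶ S')
    (hS : MoreMor.IsThickening iS) (hcX : IsPullback iX (f ≫ g) (f' ≫ g') iS)
    (hcY : IsPullback iY g g' iS) (w : iX ≫ f' = f ≫ iY) [Flat (f' ≫ g')]
    [LocallyOfFinitePresentation (f' ≫ g')] [LocallyOfFiniteType g']
    (H : Crit f' g') : IsOpenImmersion f ↔ IsOpenImmersion f' := by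
  have htop : IsPullback iX f f' iY := IsPullback.of_bot hcX w hcY
  constructor
  · intro hf
    refine (isOpenImmersion_isIso_iff_of_crit H).1.mpr (fun s' => ?_)
    exact snd_of_fiberMap @IsOpenImmersion s'
      (fiberMap_of_thickening @IsOpenImmersion iX iY iS f f' g g' hS hcX hcY w hf s')
  · intro hf'
    exact MorphismProperty.of_isPullback (P := @IsOpenImmersion) htop hf'

theorem isIso_iff_of_thickening (iX : X ⟶ X') (iY : Y ⟶ Y') (iS : S ⟶ S')
    (f : X ⟶ Y) (f' : X' ⟶ Y') (g : Y ⟶ S) (g' : Y' ⟶ S')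
    (hS : MoreMor.IsThickening iS) (hcX : IsPullback iX (f ≫ g) (f' ≫ g') iS)
    (hcY : IsPullback iY g g' iS) (w : iX ≫ f' = f ≫ iY) [Flat (f' ≫ g')]
    [LocallyOfFinitePresentation (f' ≫ g')] [LocallyOfFiniteType g']
    (H : Crit f' g') : IsIso f ↔ IsIso f' := by
  have htop : IsPullback iX f f' iY := IsPullback.of_bot hcX w hcY
  constructor
  · intro hf
    refine (isOpenImmersion_isIso_iff_of_crit H).2.mpr (fun s' => ?_)
    exact snd_of_fiberMap (MorphismProperty.isomorphisms Scheme) s'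
      (fiberMap_of_thickening (MorphismProperty.isomorphisms Scheme) iX iY iS f f' g g' hS hcX
        hcY w hf s')
  · intro hf'
    exact MorphismProperty.of_isPullback (P := MorphismProperty.isomorphisms Scheme) htop hf'

end Groth.Agent.Lib.FibCritH8
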