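import Mathlib
import Groth.Prelude.Def_CAlg
import Groth.Prelude.Def_EGA4b
import Groth.Agent.Lib.FibDepth_helper3
import Groth.Agent.Lib.DepthRefl_helper5

/-!
# Reflexivity and depth for flat morphisms with fibres of depth ≥ 1, 2 (helper3)
-/

set_option autoImplicit false
universe u

namespace Groth.Agent.Lib.FibDepth2H3

open RingTheory.Sequence Pointwise Groth.Agent.DepthLib TensorProduct Groth.Agent.Lib.FibDepthH3

section fib

variable (A B : Type u) [CommRing A] [CommRing B] [IsNoetherianRing A] [IsNoetherianRing B]
  [Algebra A B] [Module.Flat A B] (q : Ideal B) [q.IsPrime]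

/-- the depth of the local ring of a flat algebra is at least the depth of the fibre local ring -/
theorem fibDepth_ring_le :
    LocCoh.idealDepth (q.map (algebraMap B (EGA4.FibLocRing A B q))) (EGA4.FibLocRing A B q) ≤
      LocCoh.depth (Localization.AtPrime q) (Localization.AtPrime q) := by
  set p : Ideal A := q.comap (algebraMap A B) with hp
  haveI : p.IsPrime := Ideal.comap_isPrime _ _
  set R := Localization.AtPrime p with hR
  set S := Localization.AtPrime q with hS
  letI algRS : Algebra R S := (Localization.localRingHom p q (algebraMap A B) rfl).toAlgebra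
  haveI : IsLocalHom (algebraMap R S) := Localization.isLocalHom_localRingHom p q _ rfl
  have hcomp : (algebraMap R S).comp (algebraMap A R) = algebraMap A S := by
    ext a
    change Localization.localRingHom p q (algebraMap A B) rfl (algebraMap A R a) = _
    rw [Localization.localRingHom_to_map]
    exact (IsScalarTower.algebraMap_apply A B S a).symm
  haveI : IsScalarTower A R S := IsScalarTower.of_algebraMap_eq' hcomp.symm
  haveI : Module.Flat B S := IsLocalization.flat S q.primeCompl
  haveI : Module.Flat A S := Module.Flat.trans A B S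
  haveI : Module.Flat R S := (Module.flat_iff_of_isLocalization R p.primeCompl S).2 inferInstance
  have h1 := Groth.Agent.DepthTensor.depth_tensor (R := R) (S := S) R S
  have e1 : S ⊗[R] R ≃ₗ[S] S := TensorProduct.AlgebraTensorModule.rid R S S
  have h2 : LocCoh.depth S (S ⊗[R] R) = LocCoh.depth S S := by
    unfold LocCoh.depth
    exact idealDepth_congr _ _ e1
  have h3 : LocCoh.depth S (Groth.Agent.DepthTensor.Fib R S S) ≤ LocCoh.depth S S := by
    rw [← h2, h1]
    exact le_add_self
  have hideal : (IsLocalRing.maximalIdeal R).map (algebraMap R S) =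
      p.map (algebraMap A S) := by
    rw [← Localization.AtPrime.map_eq_maximalIdeal, Ideal.map_map, hcomp]
  have e2 : Groth.Agent.DepthTensor.Fib R S S ≃ₗ[S] EGA4.FibLocRing A B q :=
    Submodule.quotEquivOfEq _ _ (by rw [hideal, smul_eq_mul, Ideal.mul_top])
  have h4 : LocCoh.depth S (Groth.Agent.DepthTensor.Fib R S S) =
      LocCoh.idealDepth (IsLocalRing.maximalIdeal S) (EGA4.FibLocRing A B q) := by
    unfold LocCoh.depth
    exact idealDepth_congr _ _ e2
  have h5 := idealDepth_map_le_of_surjective
    (Ideal.Quotient.mk (p.map (algebraMap A S))) Ideal.Quotient.mk_surjective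
    (EGA4.FibLocRing A B q) (fun s m => (Algebra.smul_def s m).symm) (IsLocalRing.maximalIdeal S)
  have h6 : (IsLocalRing.maximalIdeal S).map (Ideal.Quotient.mk (p.map (algebraMap A S))) =
      q.map (algebraMap B (EGA4.FibLocRing A B q)) := by
    rw [← Localization.AtPrime.map_eq_maximalIdeal, Ideal.map_map]
    rfl
  rw [h6] at h5
  exact h5.trans (h4 ▸ h3)

/-- fibrewise depth bound on the fibre local rings gives a global `J`-depth bound for `B` -/
theorem le_idealDepth_ring_of_fib (J : Ideal B) (n : ℕ)
    (h : ∀ q : PrimeSpectrum B, J ≤ q.asIdeal →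
      (n : ℕ∞) ≤ LocCoh.idealDepth (q.asIdeal.map (algebraMap B (EGA4.FibLocRing A B q.asIdeal)))
        (EGA4.FibLocRing A B q.asIdeal)) :
    (n : ℕ∞) ≤ LocCoh.idealDepth J B := by
  apply le_idealDepth_of_forall_localization J n B
  intro q hq hJq
  rw [depth_locSelf]
  exact (h ⟨q, hq⟩ hJq).trans (fibDepth_ring_le A B q)

end fib

section refl

variable {B : Type u} [CommRing B] [IsNoetherianRing B] (J : Ideal B)
  (F : Type u) [AddCommGroup F] [Module B F] [Module.Finite B F]

/-- a finite module, reflexive off `V(J)`, with `depth_J ≥ 2`, over a ring with `depth_J ≥ 1`, is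
reflexive -/
theorem isReflexive_of_depth (dB1 : 1 ≤ LocCoh.idealDepth J B)
    (hU : ∀ q : PrimeSpectrum B, ¬ J ≤ q.asIdeal →
      Module.IsReflexive (Localization.AtPrime q.asIdeal) (LocalizedModule q.asIdeal.primeCompl F))
    (hF : 2 ≤ LocCoh.idealDepth J F) : Module.IsReflexive B F := by
  haveI : Module.FinitePresentation B F := Module.finitePresentation_of_finite B F
  haveI : Module.Finite B (Module.Dual B F) := finite_hom F B
  haveI : Module.FinitePresentation B (Module.Dual B F) := Module.finitePresentation_of_finite B _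
  haveI : Module.Finite B (Module.Dual B (Module.Dual B F)) := finite_hom _ B
  have hF1 : 1 ≤ LocCoh.idealDepth J F := le_trans (by norm_num) hF
  -- injectivity
  have hinj : Function.Injective (Module.Dual.eval B F) := by
    rw [← LinearMap.ker_eq_bot]
    by_contra hne
    set K := LinearMap.ker (Module.Dual.eval B F) with hK
    haveI : Nontrivial K := Submodule.nontrivial_iff_ne_bot.2 hne
    obtain ⟨P, hP⟩ := associatedPrimes.nonempty B K
    have hPF : P ∈ associatedPrimes B F :=
      associatedPrimes.subset_of_injective (f := K.subtype) K.injective_subtype hP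
    obtain ⟨hPprime, k, hk⟩ := isAssociatedPrime_iff.1 hP
    have hmem : ∀ a, a ∈ P ↔ a • k = 0 := by
      intro a
      rw [hk, Submodule.mem_colon_singleton, Submodule.mem_bot]
    have hJP : J ≤ P := by
      by_contra hJP
      haveI := hU ⟨P, hPprime⟩ hJP
      obtain ⟨s, hs, hsk⟩ := Groth.Agent.ReflexiveLoc.exists_smul_eq_zero_of_eval_eq_zero
        P.primeCompl (Localization.AtPrime P) (LocalizedModule.mkLinearMap P.primeCompl F)
        (Module.bijective_dual_eval _ _).1 (k : F) k.2
      apply hs
      rw [SetLike.mem_coe, hmem]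
      exact Subtype.ext hsk
    exact not_one_le_idealDepth_of_le_associatedPrime J F P hPF hJP hF1
  -- surjectivity
  have hsurj : Function.Surjective (Module.Dual.eval B F) := by
    rw [← LinearMap.range_eq_top]
    by_contra hne
    set Rg := LinearMap.range (Module.Dual.eval B F) with hRg
    set C := Module.Dual B (Module.Dual B F) ⧸ Rg with hC
    haveI : Nontrivial C := Submodule.Quotient.nontrivial_iff.2 hne
    obtain ⟨P, hP⟩ := associatedPrimes.nonempty B C
    obtain ⟨hPprime, c, hc⟩ := isAssociatedPrime_iff.1 hP
    have hmem : ∀ a, a ∈ P ↔ a • c = 0 := by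
      intro a
      rw [hc, Submodule.mem_colon_singleton, Submodule.mem_bot]
    obtain ⟨θ, rfl⟩ := Submodule.Quotient.mk_surjective _ c
    have hJP : J ≤ P := by
      by_contra hJP
      haveI := hU ⟨P, hPprime⟩ hJP
      obtain ⟨s, hs, hsθ⟩ := Groth.Agent.ReflexiveLoc.exists_smul_mem_range_eval
        P.primeCompl (Localization.AtPrime P) (LocalizedModule.mkLinearMap P.primeCompl F)
        (Module.bijective_dual_eval _ _).2 θ
      apply hs
      rw [SetLike.mem_coe, hmem, ← Submodule.Quotient.mk_smul, Submodule.Quotient.mk_eq_zero]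
      exact hsθ
    have hses := (depth_ses J F (Module.Dual B (Module.Dual B F)) C (Module.Dual.eval B F)
      Rg.mkQ hinj (Submodule.mkQ_surjective _) (by
        rw [LinearMap.exact_iff, Submodule.ker_mkQ])).2.1
    have d1 : 1 ≤ LocCoh.idealDepth J (Module.Dual B (Module.Dual B F)) :=
      (idealDepth_hom J (Module.Dual B F) B).1 dB1
    have d2 : 1 ≤ LocCoh.idealDepth J F - 1 := by
      apply ENat.le_sub_of_add_le_left (by norm_num)
      exact le_trans (by norm_num) hF
    exact not_one_le_idealDepth_of_le_associatedPrime J C P hP hJP ((le_min d1 d2).trans hses)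
  exact ⟨⟨hinj, hsurj⟩⟩

end refl

section main

theorem main18722 (A B : Type u) [CommRing A] [CommRing B]
    [IsNoetherianRing A] [IsNoetherianRing B] [Algebra A B] [Module.Flat A B] (J : Ideal B)
    (hZ1 : ∀ q : PrimeSpectrum B, J ≤ q.asIdeal →
      1 ≤ LocCoh.idealDepth (q.asIdeal.map (algebraMap B (EGA4.FibLocRing A B q.asIdeal)))
        (EGA4.FibLocRing A B q.asIdeal))
    (F : Type u) [AddCommGroup F] [Module B F] [Module.Finite B F] :
    ((∀ q : PrimeSpectrum B, ¬ J ≤ q.asIdeal →
        Module.IsReflexive (Localization.AtPrime q.asIdeal)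
          (LocalizedModule q.asIdeal.primeCompl F)) →
      2 ≤ LocCoh.idealDepth J F → Module.IsReflexive B F) ∧
    (Module.IsReflexive B F →
      (∀ q : PrimeSpectrum B, J ≤ q.asIdeal →
        2 ≤ LocCoh.idealDepth (q.asIdeal.map (algebraMap B (EGA4.FibLocRing A B q.asIdeal)))
          (EGA4.FibLocRing A B q.asIdeal)) →
      2 ≤ LocCoh.idealDepth J F) := by
  constructor
  · intro hU hF
    have dB1 : 1 ≤ LocCoh.idealDepth J B := by
      have := le_idealDepth_ring_of_fib A B J 1 (fun q hq => by exact_mod_cast hZ1 q hq)
      exact_mod_cast this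
    exact isReflexive_of_depth J F dB1 hU hF
  · intro hR hZ2
    have dB2 : 2 ≤ LocCoh.idealDepth J B := by
      have := le_idealDepth_ring_of_fib A B J 2 (fun q hq => by exact_mod_cast hZ2 q hq)
      exact_mod_cast this
    exact (reflexive_depth J F).2 dB2

end main

end Groth.Agent.Lib.FibDepth2H3
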