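/-
helper5: depth of the stalks of a pullback along a flat morphism with Cohen–Macaulay fibres
(`depth (e^*G)_{y'} = depth G_{e y'} + dim O_{e^{-1}(e y'), y'}`), towards the invariance of the
rectified depth of fibre modules under base change (S5914).  APPEND-ONLY once landed.
-/
import Mathlib
import Groth.Agent.Lib.DepthAlongBC_helper2
import Groth.Agent.Lib.FibStalkIso_helper5
import Groth.Agent.Lib.FibCoh_helper8
import Groth.Agent.Lib.FlatCM2_helper9
import Groth.Agent.Lib.FibNoEmb2_helper5

set_option autoImplicit false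
set_option linter.style.haveILetI false
set_option linter.unusedVariables false

namespace Groth.Agent.Lib.FibRectBCH5

open AlgebraicGeometry CategoryTheory TopologicalSpace TensorProduct IsLocalRing
open Groth.Agent.DepthLib Groth.Agent.DepthTensor Groth.Agent.FibStalkDimH8

universe u

/-- the depth of a stalk only depends on the isomorphism class of the module -/
theorem depth_stalk_of_iso {X : Scheme.{u}} {M N : X.Modules} (α : M ≅ N) (x : X) :
    LocCoh.depth (X.presheaf.stalk x) (M.presheaf.stalk x) =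
      LocCoh.depth (X.presheaf.stalk x) (N.presheaf.stalk x) :=
  idealDepth_congr _ _ (CohDevH8.stalkEquivOfIso α x)

set_option maxHeartbeats 1000000 in
/-- **depth along a flat morphism with a Cohen–Macaulay fibre** -/
theorem depth_stalk_pullback_cm {Y' Y : Scheme.{u}} (e : Y' ⟶ Y) [Flat e]
    [IsLocallyNoetherian Y] [IsLocallyNoetherian Y'] (G : Y.Modules) (hG : Coh.IsCoh G) (y' : Y')
    (hfib : LocCoh.IsCohenMacaulayLocalRing
      ((e.fiber (e.base y')).presheaf.stalk (e.asFiber y'))) :
    LocCoh.depth (Y'.presheaf.stalk y')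
        (((Scheme.Modules.pullback e).obj G).presheaf.stalk y') =
      LocCoh.depth (Y.presheaf.stalk (e y')) (G.presheaf.stalk (e y')) +
        FibCohH8.fibCoh e y' := by
  haveI : G.IsQuasicoherent := hG.1
  haveI : SheafOfModules.IsFiniteType (R := Y.ringCatSheaf) G := hG.2
  letI algOO : Algebra (Y.presheaf.stalk (e y')) (Y'.presheaf.stalk y') :=
    (e.stalkMap y').hom.toAlgebra
  letI modOG : Module (Y.presheaf.stalk (e y'))
      (((Scheme.Modules.pullback e).obj G).presheaf.stalk y') :=
    Module.compHom _ (e.stalkMap y').hom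
  haveI : IsScalarTower (Y.presheaf.stalk (e y')) (Y'.presheaf.stalk y')
      (((Scheme.Modules.pullback e).obj G).presheaf.stalk y') :=
    IsScalarTower.of_algebraMap_smul fun _ _ => rfl
  have bc := PBH8.isBaseChange_cStalk e G y'
  haveI : Module.Flat (Y.presheaf.stalk (e y')) (Y'.presheaf.stalk y') := Flat.stalkMap e y'
  haveI : IsLocalHom (algebraMap (Y.presheaf.stalk (e y')) (Y'.presheaf.stalk y')) :=
    inferInstanceAs (IsLocalHom (e.stalkMap y').hom)
  haveI : Module.Finite (Y.presheaf.stalk (e y')) (G.presheaf.stalk (e y')) :=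
    FLFH8.finite_stalk G (e y')
  have h1 := Groth.Agent.Lib.DepthAlongBC.depth_baseChange (Y.presheaf.stalk (e y'))
    (Y'.presheaf.stalk y') _ _ _ bc
  rw [h1]
  congr 1
  -- the closed fibre
  have hI : ((maximalIdeal (Y.presheaf.stalk (e y'))).map
      (algebraMap (Y.presheaf.stalk (e y')) (Y'.presheaf.stalk y')) •
        (⊤ : Submodule (Y'.presheaf.stalk y') (Y'.presheaf.stalk y'))) = fibIdeal e y' := by
    rw [smul_eq_mul, Ideal.mul_top]
    rfl
  have e2 : Fib (Y.presheaf.stalk (e y')) (Y'.presheaf.stalk y') (Y'.presheaf.stalk y')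
      ≃ₗ[Y'.presheaf.stalk y'] (Y'.presheaf.stalk y' ⧸ fibIdeal e y') :=
    Submodule.quotEquivOfEq _ _ hI
  have h2 : LocCoh.depth (Y'.presheaf.stalk y')
      (Fib (Y.presheaf.stalk (e y')) (Y'.presheaf.stalk y') (Y'.presheaf.stalk y')) =
      LocCoh.depth (Y'.presheaf.stalk y') (Y'.presheaf.stalk y' ⧸ fibIdeal e y') :=
    idealDepth_congr _ _ e2
  let σ := Groth.Agent.FibStalkIso.fibStalkEquiv e y'
  haveI hCM' := hfib
  haveI hCMq : LocCoh.IsCohenMacaulayLocalRing (Y'.presheaf.stalk y' ⧸ fibIdeal e y') :=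
    Groth.Agent.FlatCM.isCMLocalRing_of_ringEquiv σ.symm
  haveI : Nontrivial (Y'.presheaf.stalk y' ⧸ fibIdeal e y') := inferInstance
  haveI : IsLocalRing (Y'.presheaf.stalk y' ⧸ fibIdeal e y') :=
    IsLocalRing.of_surjective' (Ideal.Quotient.mk _) Ideal.Quotient.mk_surjective
  haveI : IsLocalHom (algebraMap (Y'.presheaf.stalk y')
      (Y'.presheaf.stalk y' ⧸ fibIdeal e y')) :=
    IsLocalHom.of_surjective _ Ideal.Quotient.mk_surjective
  have h3 : LocCoh.depth (Y'.presheaf.stalk y') (Y'.presheaf.stalk y' ⧸ fibIdeal e y') =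
      LocCoh.depth (Y'.presheaf.stalk y' ⧸ fibIdeal e y')
        (Y'.presheaf.stalk y' ⧸ fibIdeal e y') :=
    depth_eq_of_isLocalHom (Y'.presheaf.stalk y') (Y'.presheaf.stalk y' ⧸ fibIdeal e y')
      (Y'.presheaf.stalk y' ⧸ fibIdeal e y')
  have h4 := (Groth.Agent.FlatCM.isCMLocalRing_iff
    (Y'.presheaf.stalk y' ⧸ fibIdeal e y')).1 hCMq
  have h5 : ringKrullDim (Y'.presheaf.stalk y' ⧸ fibIdeal e y') =
      ((FibCohH8.fibCoh e y' : ℕ∞) : WithBot ℕ∞) := by
    rw [ringKrullDim_eq_of_ringEquiv σ, FibCohH8.stalk_fiber_eq_fibCoh]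
  rw [h2, h3]
  rw [h5] at h4
  exact (WithBot.coe_injective h4).symm

/-- the depth of a stalk is `⊤` exactly when the stalk vanishes -/
theorem depth_stalk_eq_top_iff {X : Scheme.{u}} [IsLocallyNoetherian X] (G : X.Modules)
    (hG : Coh.IsCoh G) (x : X) :
    LocCoh.depth (X.presheaf.stalk x) (G.presheaf.stalk x) = ⊤ ↔
      Subsingleton (G.presheaf.stalk x) := by
  haveI : G.IsQuasicoherent := hG.1
  haveI : SheafOfModules.IsFiniteType (R := X.ringCatSheaf) G := hG.2
  haveI : Module.Finite (X.presheaf.stalk x) (G.presheaf.stalk x) := FLFH8.finite_stalk G x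
  constructor
  · intro h
    by_contra hns
    haveI : Nontrivial (G.presheaf.stalk x) := not_subsingleton_iff_nontrivial.mp hns
    exact idealDepth_ne_top _ _ (smul_top_ne_top (G.presheaf.stalk x)) h
  · intro h
    exact idealDepth_of_subsingleton _ _

end Groth.Agent.Lib.FibRectBCH5
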