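/-
helper5: the rectified depth `prof (F_{f x})_x + dim cl_{X_{f x}}{x}` of the fibre modules of `F` is
invariant under base change and restriction to opens (towards S5914).
* `rectAt`, `rect`, `rectAt_eq_rect`, `rect_of_iso`.
* `quotDim_add_height`: in a base change by a field extension, `dim (O_{z'} / m_z O_{z'}) + dim cl{z'} = dim cl{z}`.
* `rect_bc`, `rect_loc`.
* `rect_eq_top_iff`, `isOpen_le_rect`.
APPEND-ONLY once landed.
-/
import Mathlib
import Groth.Agent.Lib.FibRectBC1_helper5
import Groth.Agent.Lib.FibRect2_helper5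
import Groth.Agent.Lib.FibAssGen1_helper5
import Groth.Agent.Lib.FieldGen_helper8
import Groth.Agent.Lib.CMLocusBC_helper5
import Groth.Agent.Lib.ResTrdeg1_helper8
import Groth.Agent.Lib.CMMor3_helper8
import Groth.Agent.Lib.SuppTens2_helper8
import Groth.Agent.Lib.SuppFT_helper9
import Groth.Agent.Lib.TFFree_helper8
import Groth.Agent.Lib.ConsMod1_helper2

set_option autoImplicit false
set_option linter.style.haveILetI false
set_option linter.unusedVariables false

namespace Groth.Agent.Lib.FibRectBCH5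

open AlgebraicGeometry CategoryTheory TopologicalSpace TensorProduct IsLocalRing Limits
open Groth.Agent.DepthLib Groth.Agent.DepthTensor Groth.Agent.FibStalkDimH8
open Groth.Agent.Lib.FibSkH5 Groth.Agent.Lib.FibAssGenH5
open Groth.Agent.FibMapFlat Groth.Agent.FibNoeth Groth.Agent.CMLocusBC

attribute [local instance] Curv2.stalkAlgebra Curv2.resAlgebra

universe u

section Defs

variable {X S : Scheme.{u}} (f : X ⟶ S) (F : X.Modules)

/-- the rectified depth of the fibre module at a point of a fibre -/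
noncomputable def rectAt (y : S) (z : f.fiber y) : ℕ∞ :=
  LocCoh.depth ((f.fiber y).presheaf.stalk z)
    (((Scheme.Modules.pullback (f.fiberι y)).obj F).presheaf.stalk z) + Order.height z

/-- the rectified depth of the fibre module at a point of the source -/
noncomputable def rect (x : X) : ℕ∞ := rectAt f F (f.base x) (f.asFiber x)

theorem rect_eq (x : X) : rect f F x = CInt.fiberDepth f F x + cdim f x := rfl

theorem rectAt_eq_rect (y : S) (z : f.fiber y) : rectAt f F y z = rect f F (f.fiberι y z) := by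
  have h := fiber_point_transport f (fun y' w => rectAt f F y' w = rectAt f F y z) y z
  exact (h.mp rfl).symm

theorem rect_of_iso {F G : X.Modules} (α : F ≅ G) (x : X) : rect f F x = rect f G x := by
  unfold rect rectAt
  rw [depth_stalk_of_iso ((Scheme.Modules.pullback (f.fiberι (f.base x))).mapIso α) (f.asFiber x)]

end Defs

section Field

set_option maxHeartbeats 1000000 in
/-- in a base change by a field extension, `dim (O_{z'} / m_z O_{z'}) + dim cl{z'} = dim cl{z}` -/
theorem quotDim_add_height (κ κ' : Type u) [Field κ] [Field κ'] {Z' Z : Scheme.{u}}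
    (π : Z' ⟶ Z) (q : Z' ⟶ Spec (CommRingCat.of κ')) (p : Z ⟶ Spec (CommRingCat.of κ))
    (ψ : CommRingCat.of κ ⟶ CommRingCat.of κ') (sq : IsPullback π q p (Spec.map ψ))
    [LocallyOfFiniteType p] (z' : Z') :
    ∃ c : ℕ, ringKrullDim (↥(Z'.presheaf.stalk z') ⧸ Ideal.map (π.stalkMap z').hom
        (IsLocalRing.maximalIdeal ↥(Z.presheaf.stalk (π z')))) = c ∧
      (c : ℕ∞) + Order.height z' = Order.height (π z') := by
  letI ovZ : Z.Over (Spec (CommRingCat.of κ)) := ⟨p⟩
  letI ovZ' : Z'.Over (Spec (CommRingCat.of κ')) := ⟨q⟩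
  haveI : LocallyOfFiniteType (Z ↘ Spec (CommRingCat.of κ)) := ‹LocallyOfFiniteType p›
  haveI hq : LocallyOfFiniteType q := MorphismProperty.of_isPullback sq inferInstance
  haveI : LocallyOfFiniteType (Z' ↘ Spec (CommRingCat.of κ')) := hq
  haveI : IsLocallyNoetherian Z := LocallyOfFiniteType.isLocallyNoetherian p
  haveI : IsLocallyNoetherian Z' := LocallyOfFiniteType.isLocallyNoetherian q
  haveI : Flat (Spec.map ψ) := inferInstance
  haveI : Flat π := MorphismProperty.of_isPullback sq.flip inferInstance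
  obtain ⟨a, ha, hha⟩ := Groth.Agent.HtTrdegH8.height_eq_trdeg κ Z (π z')
  obtain ⟨a', ha', hha'⟩ := Groth.Agent.HtTrdegH8.height_eq_trdeg κ' Z' z'
  obtain ⟨b, b', hb', hb, hsum⟩ := FieldExtH8.stalk_dim_add_trdeg κ κ' π q p ψ sq z' a a' ha ha'
  have h1 := FieldExtH8.flat_stalk_dim_add_quot π z'
  rw [hb', hb] at h1
  generalize ringKrullDim (↥(Z'.presheaf.stalk z') ⧸ Ideal.map (π.stalkMap z').hom
        (IsLocalRing.maximalIdeal ↥(Z.presheaf.stalk (π z')))) = D at h1 ⊢
  induction D using WithBot.recBotCoe with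
  | bot =>
    exfalso
    rw [WithBot.add_bot] at h1
    exact WithBot.coe_ne_bot h1
  | coe D =>
    induction D using ENat.recTopCoe with
    | top =>
      exfalso
      have h2 : ((b' : ℕ∞) : WithBot ℕ∞) = (((b : ℕ∞) + ⊤ : ℕ∞) : WithBot ℕ∞) := by
        rw [WithBot.coe_add]
        exact h1
      rw [add_top] at h2
      exact ENat.natCast_ne_top b' (WithBot.coe_injective h2)
    | coe c =>
      refine ⟨c, rfl, ?_⟩
      have h2 : b' = b + c := by exact_mod_cast h1
      have h3 : c + a' = a := by omega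
      rw [hha, hha']
      exact_mod_cast h3

end Field

section BC

variable {X S X' S' : Scheme.{u}}

set_option maxHeartbeats 2000000 in
/-- **invariance of the rectified depth under base change** -/
theorem rect_bc (f : X ⟶ S) [LocallyOfFiniteType f] (F : X.Modules) (hF : Coh.IsCoh F)
    (f' : X' ⟶ S') (g' : X' ⟶ X) (g : S' ⟶ S) (hc : IsPullback g' f' f g) (x' : X') :
    rect f' ((Scheme.Modules.pullback g').obj F) x' = rect f F (g' x') := by
  haveI : F.IsQuasicoherent := hF.1
  haveI : LocallyOfFiniteType f' := MorphismProperty.of_isPullback hc inferInstance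
  haveI := isLocallyNoetherian_fiber f (g (f' x'))
  haveI := isLocallyNoetherian_fiber f' (f' x')
  haveI : Flat (fibMap hc (f' x')) := flat_fibMap hc (f' x')
  have hG : Coh.IsCoh ((Scheme.Modules.pullback (f.fiberι (g (f' x')))).obj F) :=
    Groth.Agent.Lib.ConsModH2.isCoh_pullback _ F hF
  let β : (Scheme.Modules.pullback (f'.fiberι (f' x'))).obj ((Scheme.Modules.pullback g').obj F) ≅
      (Scheme.Modules.pullback (fibMap hc (f' x'))).obj
        ((Scheme.Modules.pullback (f.fiberι (g (f' x')))).obj F) :=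
    (DescH8.pbIso (f'.fiberι (f' x')) g' (f'.fiberι (f' x') ≫ g') rfl).app F ≪≫
      ((DescH8.pbIso (fibMap hc (f' x')) (f.fiberι (g (f' x'))) (f'.fiberι (f' x') ≫ g')
        (fibMap_fiberι hc (f' x'))).app F).symm
  have hCM := isCM_stalk_fiber_fibMap' hc (f' x') (fibMap hc (f' x') (f'.asFiber x'))
    ((fibMap hc (f' x')).asFiber (f'.asFiber x'))
  have hdepth := depth_stalk_pullback_cm (fibMap hc (f' x')) _ hG (f'.asFiber x') hCM
  have hlft : LocallyOfFiniteType (f.fiberToSpecResidueField (g (f' x'))) :=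
    MorphismProperty.pullback_snd _ _ inferInstance
  obtain ⟨c, hc1, hc2⟩ := @quotDim_add_height (S.residueField (g (f' x')))
    (S'.residueField (f' x')) _ _ _ _ (fibMap hc (f' x')) (f'.fiberToSpecResidueField (f' x'))
    (f.fiberToSpecResidueField (g (f' x'))) (g.residueFieldMap (f' x'))
    (isPullback_fibMap hc (f' x')) hlft (f'.asFiber x')
  have h5 : ringKrullDim ((f'.fiber (f' x')).presheaf.stalk (f'.asFiber x') ⧸
      fibIdeal (fibMap hc (f' x')) (f'.asFiber x')) =
      ((FibCohH8.fibCoh (fibMap hc (f' x')) (f'.asFiber x') : ℕ∞) : WithBot ℕ∞) := by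
    rw [ringKrullDim_eq_of_ringEquiv
      (Groth.Agent.FibStalkIso.fibStalkEquiv (fibMap hc (f' x')) (f'.asFiber x')),
      FibCohH8.stalk_fiber_eq_fibCoh]
  have h6 : FibCohH8.fibCoh (fibMap hc (f' x')) (f'.asFiber x') = (c : ℕ∞) := by
    have h7 : ((FibCohH8.fibCoh (fibMap hc (f' x')) (f'.asFiber x') : ℕ∞) : WithBot ℕ∞) =
        ((c : ℕ∞) : WithBot ℕ∞) := by
      rw [← h5]
      exact hc1
    exact WithBot.coe_injective h7
  have hpt : (f.fiberι (g (f' x'))) (fibMap hc (f' x') (f'.asFiber x')) = g' x' := by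
    rw [fiberι_fibMap_apply, Scheme.Hom.fiberι_asFiber]
  have key : rect f' ((Scheme.Modules.pullback g').obj F) x' =
      rectAt f F (g (f' x')) (fibMap hc (f' x') (f'.asFiber x')) := by
    unfold rect rectAt
    rw [depth_stalk_of_iso β (f'.asFiber x'), hdepth, h6, add_assoc, hc2]
  rw [key, rectAt_eq_rect, hpt]

set_option maxHeartbeats 2000000 in
/-- **invariance of the rectified depth under restriction to an open subscheme** -/
theorem rect_loc {U : Scheme.{u}} (f : X ⟶ S) [LocallyOfFiniteType f] (F : X.Modules)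
    (hF : Coh.IsCoh F) (j : U ⟶ X) [IsOpenImmersion j] (u : U) :
    rect (j ≫ f) ((Scheme.Modules.pullback j).obj F) u = rect f F (j u) := by
  haveI : F.IsQuasicoherent := hF.1
  haveI : LocallyOfFiniteType (j ≫ f) := inferInstance
  haveI : IsOpenImmersion (fibComp f j ((j ≫ f) u)) :=
    MorphismProperty.of_isPullback (P := @IsOpenImmersion)
      (isPullback_fibComp f j ((j ≫ f) u)).flip inferInstance
  haveI := isLocallyNoetherian_fiber f ((j ≫ f) u)
  haveI := isLocallyNoetherian_fiber (j ≫ f) ((j ≫ f) u)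
  have hG : Coh.IsCoh ((Scheme.Modules.pullback (f.fiberι ((j ≫ f) u))).obj F) :=
    Groth.Agent.Lib.ConsModH2.isCoh_pullback _ F hF
  let β : (Scheme.Modules.pullback ((j ≫ f).fiberι ((j ≫ f) u))).obj
        ((Scheme.Modules.pullback j).obj F) ≅
      (Scheme.Modules.pullback (fibComp f j ((j ≫ f) u))).obj
        ((Scheme.Modules.pullback (f.fiberι ((j ≫ f) u))).obj F) :=
    (DescH8.pbIso ((j ≫ f).fiberι ((j ≫ f) u)) j ((j ≫ f).fiberι ((j ≫ f) u) ≫ j) rfl).app F ≪≫
      ((DescH8.pbIso (fibComp f j ((j ≫ f) u)) (f.fiberι ((j ≫ f) u))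
        ((j ≫ f).fiberι ((j ≫ f) u) ≫ j) (fibComp_fiberι f j ((j ≫ f) u))).app F).symm
  have hCM := (Groth.Agent.Lib.CMMorH8.isCMAt_of_lqf (fibComp f j ((j ≫ f) u))
    ((j ≫ f).asFiber u) (Flat.stalkMap _ _)).2
  have hdepth := depth_stalk_pullback_cm (fibComp f j ((j ≫ f) u)) _ hG ((j ≫ f).asFiber u) hCM
  rw [FibCohH8.fibCoh_eq_zero_of_lqf, add_zero] at hdepth
  have hpt : (f.fiberι ((j ≫ f) u)) (fibComp f j ((j ≫ f) u) ((j ≫ f).asFiber u)) = j u := by
    rw [← Scheme.Hom.comp_apply, fibComp_fiberι, Scheme.Hom.comp_apply,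
      Scheme.Hom.fiberι_asFiber]
  have hcd : cdim (j ≫ f) u = cdim f (j u) := by
    rw [cdim_eq_toENat, cdim_eq_toENat, ResTrdegH8.resTrdeg_etale_comp j f u]
  have hht : Order.height (fibComp f j ((j ≫ f) u) ((j ≫ f).asFiber u)) = cdim f (j u) := by
    rw [← hpt, cdim_fiberι]
  have key : rect (j ≫ f) ((Scheme.Modules.pullback j).obj F) u =
      rectAt f F ((j ≫ f) u) (fibComp f j ((j ≫ f) u) ((j ≫ f).asFiber u)) := by
    rw [rect_eq]
    unfold rectAt CInt.fiberDepth
    rw [hht, hcd]
    congr 1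
    rw [← hdepth]
    exact depth_stalk_of_iso β ((j ≫ f).asFiber u)
  rw [key, rectAt_eq_rect, hpt]

end BC

section Top

variable {X S : Scheme.{u}}

/-- the rectified depth is `⊤` exactly off the support -/
theorem rect_eq_top_iff (f : X ⟶ S) [LocallyOfFiniteType f] (F : X.Modules) (hF : Coh.IsCoh F)
    (x : X) : rect f F x = ⊤ ↔ x ∉ CohB1.support F := by
  haveI : F.IsQuasicoherent := hF.1
  haveI : SheafOfModules.IsFiniteType (R := X.ringCatSheaf) F := hF.2
  haveI := isLocallyNoetherian_fiber f (f x)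
  have hG : Coh.IsCoh ((Scheme.Modules.pullback (f.fiberι (f x))).obj F) :=
    Groth.Agent.Lib.ConsModH2.isCoh_pullback _ F hF
  obtain ⟨n, -, hn⟩ := Groth.Agent.FibRes2H8.height_asFiber f x
  have hsupp := SuppTensH8.support_pullback (f.fiberι (f x)) F
  have hmem : f.asFiber x ∈ CohB1.support ((Scheme.Modules.pullback (f.fiberι (f x))).obj F) ↔
      x ∈ CohB1.support F := by
    rw [hsupp, Set.mem_preimage, Scheme.Hom.fiberι_asFiber]
  unfold rect rectAt
  rw [hn, ← hmem]
  have h1 := depth_stalk_eq_top_iff ((Scheme.Modules.pullback (f.fiberι (f x))).obj F) hG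
    (f.asFiber x)
  constructor
  · intro h hs
    have h2 : LocCoh.depth ((f.fiber (f x)).presheaf.stalk (f.asFiber x))
        (((Scheme.Modules.pullback (f.fiberι (f x))).obj F).presheaf.stalk (f.asFiber x)) = ⊤ := by
      by_contra hne
      obtain ⟨m, hm⟩ := ENat.ne_top_iff_exists.mp hne
      rw [← hm] at h
      exact ENat.natCast_ne_top (m + n) (by exact_mod_cast h)
    exact hs (h1.mp h2)
  · intro hs
    have h2 : Subsingleton
        (((Scheme.Modules.pullback (f.fiberι (f x))).obj F).presheaf.stalk (f.asFiber x)) := by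
      by_contra hns
      exact hs hns
    rw [h1.mpr h2, top_add]

set_option maxHeartbeats 1000000 in
/-- **lower semicontinuity of the rectified depth in flat families over a Noetherian base** -/
theorem isOpen_le_rect {T : Scheme.{u}} (g : X ⟶ T) [IsNoetherian T] [LocallyOfFiniteType g]
    (F : X.Modules) (hF : Coh.IsCoh F) (hflat : FlatMod.IsFlatOver g F) (n : ℕ∞) :
    IsOpen {x : X | n ≤ rect g F x} := by
  haveI : F.IsQuasicoherent := hF.1
  haveI : SheafOfModules.IsFiniteType (R := X.ringCatSheaf) F := hF.2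
  haveI : IsLocallyNoetherian X := LocallyOfFiniteType.isLocallyNoetherian g
  induction n using ENat.recTopCoe with
  | top =>
    have hcl := SuppFT.isClosed_support F
    have heq : {x : X | ⊤ ≤ rect g F x} = (CohB1.support F)ᶜ := by
      ext x
      rw [Set.mem_ofPred_eq, top_le_iff, rect_eq_top_iff g F hF x]
      rfl
    rw [heq]
    exact hcl.isOpen_compl
  | coe m =>
    haveI : LocallyOfFinitePresentation g := inferInstance
    have hfp : CohB1.IsFP F := FLFH8.isFinitePresentation_of_isCoh F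
    have hopen := Groth.Agent.Lib.FibRectH5.isOpen_fibRectGE g F hfp hflat m
    convert hopen using 1
    ext x
    rw [Set.mem_ofPred_eq, Set.mem_ofPred_eq]
    unfold Groth.Agent.Lib.FibRectH5.FibRectGE rect rectAt
    rw [Groth.Agent.ClosHtH8.topologicalKrullDim_closure_singleton (g.fiber (g.base x))
      (g.asFiber x), ← WithBot.coe_add]
    constructor
    · intro h
      exact_mod_cast h
    · intro h
      exact_mod_cast h

end Top

end Groth.Agent.Lib.FibRectBCH5
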