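/-
helper5: the depth of the fibre modules along a closed subset (`CInt.fiberDepthAlong`) is invariant
under base change and restriction to opens; it is a "fibrewise property with a closed subset" in the
sense of `FibConsModSub1_helper5`, hence `y ↦ prof_{Y ∩ X_{f y}} (F_{f y})` is a locally
constructible function (towards S5986, S19986; EGA IV 12.3-type).
APPEND-ONLY once landed.
-/
import Mathlib
import Groth.Agent.Lib.FibRectBC2_helper5
import Groth.Agent.Lib.FibDepthAlong2_helper5
import Groth.Agent.Lib.DepthAlongBC_helper2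
import Groth.Agent.Lib.FibSupp4_helper5
import Groth.Agent.Lib.FibConsModSub1_helper5
import Groth.Agent.Lib.FibCons3_helper8

set_option autoImplicit false
set_option linter.style.haveILetI false
set_option linter.unusedVariables false

namespace Groth.Agent.Lib.FibDepthAlongBCH5

open AlgebraicGeometry CategoryTheory TopologicalSpace TensorProduct IsLocalRing Limits Topology
open Groth.Agent.DepthLib Groth.Agent.DepthTensor
open Groth.Agent.Lib.FibSkH5 Groth.Agent.Lib.FibAssGenH5 Groth.Agent.Lib.FibRectBCH5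
open Groth.Agent.FibMapFlat Groth.Agent.FibNoeth Groth.Agent.CMLocusBC

universe u

section Bridge

variable {X S : Scheme.{u}} (f : X ⟶ S) (F : X.Modules)

/-- the fibre depth at a point of a fibre -/
theorem fiberDepth_fiberι (s : S) (w : f.fiber s) :
    CInt.fiberDepth f F (f.fiberι s w) =
      LocCoh.depth ((f.fiber s).presheaf.stalk w)
        (((Scheme.Modules.pullback (f.fiberι s)).obj F).presheaf.stalk w) := by
  have h := fiber_point_transport f (fun y' w' =>
    LocCoh.depth ((f.fiber y').presheaf.stalk w')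
        (((Scheme.Modules.pullback (f.fiberι y')).obj F).presheaf.stalk w') =
      LocCoh.depth ((f.fiber s).presheaf.stalk w)
        (((Scheme.Modules.pullback (f.fiberι s)).obj F).presheaf.stalk w)) s w
  exact h.mp rfl

theorem fiberDepth_of_iso {F G : X.Modules} (α : F ≅ G) (x : X) :
    CInt.fiberDepth f F x = CInt.fiberDepth f G x := by
  unfold CInt.fiberDepth
  exact depth_stalk_of_iso ((Scheme.Modules.pullback (f.fiberι (f.base x))).mapIso α)
    (f.asFiber x)

theorem fiberDepthAlong_of_iso {F G : X.Modules} (α : F ≅ G) (Y : Set X) (x : X) :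
    CInt.fiberDepthAlong f F Y x = CInt.fiberDepthAlong f G Y x := by
  unfold CInt.fiberDepthAlong
  exact iInf_congr (fun z => fiberDepth_of_iso f α z.1)

theorem depthAlong_of_iso {Z : Scheme.{u}} {G G' : Z.Modules} (α : G ≅ G') (Y : Set Z) (y : Z) :
    CInt.depthAlong G Y y = CInt.depthAlong G' Y y := by
  unfold CInt.depthAlong
  exact iInf_congr (fun z => depth_stalk_of_iso α z.1)

/-- the depth of the fibre module along `Y` is the depth along the trace of `Y` on the fibre -/
theorem fiberDepthAlong_fiberι (Y : Set X) (s : S) (w : f.fiber s) :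
    CInt.fiberDepthAlong f F Y (f.fiberι s w) =
      CInt.depthAlong ((Scheme.Modules.pullback (f.fiberι s)).obj F) ((f.fiberι s) ⁻¹' Y) w := by
  unfold CInt.fiberDepthAlong CInt.depthAlong
  apply le_antisymm
  · apply le_iInf
    rintro ⟨z', hz'Y, hz'w⟩
    refine iInf_le_of_le ⟨f.fiberι s z', hz'Y, hz'w.map (f.fiberι s).continuous, ?_⟩ ?_
    · rw [FibSuppH5.base_fiberι, FibSuppH5.base_fiberι]
    · exact le_of_eq (fiberDepth_fiberι f F s z')
  · apply le_iInf
    rintro ⟨z, hzY, hzw, hzs⟩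
    have hzs' : f.base z = s := by rw [hzs, FibSuppH5.base_fiberι]
    obtain ⟨z', rfl⟩ := FibSuppH5.exists_fiber_point f hzs'
    refine iInf_le_of_le ⟨z', hzY, (FibSuppH5.fiberι_specializes_iff f s z' w).mp hzw⟩ ?_
    exact le_of_eq (fiberDepth_fiberι f F s z').symm

/-- off a closed subset the depth along it is infinite -/
theorem fiberDepthAlong_eq_top_of_notMem (Y : Set X) (hY : IsClosed Y) {x : X} (hx : x ∉ Y) :
    CInt.fiberDepthAlong f F Y x = ⊤ := by
  unfold CInt.fiberDepthAlong
  rw [iInf_eq_top]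
  rintro ⟨z, hzY, hzx, -⟩
  exact absurd (hzx.mem_closed hY hzY) hx

end Bridge

section BC

variable {X S X' S' : Scheme.{u}}

set_option maxHeartbeats 2000000 in
/-- **invariance of the fibre depth along a closed subset under base change** -/
theorem fiberDepthAlong_bc (f : X ⟶ S) [LocallyOfFiniteType f] (F : X.Modules) (hF : Coh.IsCoh F)
    (Y : Set X) (hY : IsClosed Y)
    (f' : X' ⟶ S') (g' : X' ⟶ X) (g : S' ⟶ S) (hc : IsPullback g' f' f g) (x' : X') :
    CInt.fiberDepthAlong f' ((Scheme.Modules.pullback g').obj F) (g' ⁻¹' Y) x' =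
      CInt.fiberDepthAlong f F Y (g' x') := by
  haveI : F.IsQuasicoherent := hF.1
  haveI : LocallyOfFiniteType f' := MorphismProperty.of_isPullback hc inferInstance
  haveI := isLocallyNoetherian_fiber f (g (f' x'))
  haveI := isLocallyNoetherian_fiber f' (f' x')
  haveI : Flat (fibMap hc (f' x')) := flat_fibMap hc (f' x')
  have hG : Coh.IsCoh ((Scheme.Modules.pullback (f.fiberι (g (f' x')))).obj F) :=
    Groth.Agent.Lib.ConsModH2.isCoh_pullback _ F hF
  let β : (Scheme.Modules.pullback (f'.fiberι (f' x'))).obj ((Scheme.Modules.pullback g').obj F) ≅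
      (Scheme.Modules.pullback (fibMap hc (f' x'))).obj
        ((Scheme.Modules.pullback (f.fiberι (g (f' x')))).obj F) :=
    (DescH8.pbIso (f'.fiberι (f' x')) g' (f'.fiberι (f' x') ≫ g') rfl).app F ≪≫
      ((DescH8.pbIso (fibMap hc (f' x')) (f.fiberι (g (f' x'))) (f'.fiberι (f' x') ≫ g')
        (fibMap_fiberι hc (f' x'))).app F).symm
  have hpt : (f.fiberι (g (f' x'))) (fibMap hc (f' x') (f'.asFiber x')) = g' x' := by
    rw [fiberι_fibMap_apply, Scheme.Hom.fiberι_asFiber]
  have hYs : IsClosed ((f.fiberι (g (f' x'))) ⁻¹' Y) :=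
    hY.preimage (f.fiberι (g (f' x'))).continuous
  have hset : (f'.fiberι (f' x')) ⁻¹' (g' ⁻¹' Y) =
      (fun w => fibMap hc (f' x') w) ⁻¹' ((f.fiberι (g (f' x'))) ⁻¹' Y) := by
    ext w
    show g' ((f'.fiberι (f' x')) w) ∈ Y ↔ (f.fiberι (g (f' x'))) (fibMap hc (f' x') w) ∈ Y
    rw [fiberι_fibMap_apply]
  have h1 : CInt.fiberDepthAlong f' ((Scheme.Modules.pullback g').obj F) (g' ⁻¹' Y) x' =
      CInt.fiberDepthAlong f' ((Scheme.Modules.pullback g').obj F) (g' ⁻¹' Y)
        (f'.fiberι (f' x') (f'.asFiber x')) := by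
    rw [Scheme.Hom.fiberι_asFiber]
  have h2 := Groth.Agent.Lib.DepthAlongBC.main2871 (fibMap hc (f' x'))
    ((Scheme.Modules.pullback (f.fiberι (g (f' x')))).obj F) hG
    (⟨_, hYs⟩ : Closeds (f.fiber (g (f' x')))) (f'.asFiber x')
  rw [h1, fiberDepthAlong_fiberι, depthAlong_of_iso β, hset]
  rw [← hpt, fiberDepthAlong_fiberι]
  exact h2

set_option maxHeartbeats 2000000 in
/-- **invariance of the fibre depth along a closed subset under restriction to an open
subscheme** -/
theorem fiberDepthAlong_loc {U : Scheme.{u}} (f : X ⟶ S) [LocallyOfFiniteType f] (F : X.Modules)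
    (hF : Coh.IsCoh F) (Y : Set X) (hY : IsClosed Y) (j : U ⟶ X) [IsOpenImmersion j] (u : U) :
    CInt.fiberDepthAlong (j ≫ f) ((Scheme.Modules.pullback j).obj F) (j ⁻¹' Y) u =
      CInt.fiberDepthAlong f F Y (j u) := by
  haveI : F.IsQuasicoherent := hF.1
  haveI : LocallyOfFiniteType (j ≫ f) := inferInstance
  haveI : IsOpenImmersion (fibComp f j ((j ≫ f) u)) :=
    MorphismProperty.of_isPullback (P := @IsOpenImmersion)
      (isPullback_fibComp f j ((j ≫ f) u)).flip inferInstance
  haveI : Flat (fibComp f j ((j ≫ f) u)) := inferInstance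
  haveI := isLocallyNoetherian_fiber f ((j ≫ f) u)
  haveI := isLocallyNoetherian_fiber (j ≫ f) ((j ≫ f) u)
  have hG : Coh.IsCoh ((Scheme.Modules.pullback (f.fiberι ((j ≫ f) u))).obj F) :=
    Groth.Agent.Lib.ConsModH2.isCoh_pullback _ F hF
  let β : (Scheme.Modules.pullback ((j ≫ f).fiberι ((j ≫ f) u))).obj
        ((Scheme.Modules.pullback j).obj F) ≅
      (Scheme.Modules.pullback (fibComp f j ((j ≫ f) u))).obj
        ((Scheme.Modules.pullback (f.fiberι ((j ≫ f) u))).obj F) :=
    (DescH8.pbIso ((j ≫ f).fiberι ((j ≫ f) u)) j ((j ≫ f).fiberι ((j ≫ f) u) ≫ j) rfl).app F ≪≫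
      ((DescH8.pbIso (fibComp f j ((j ≫ f) u)) (f.fiberι ((j ≫ f) u))
        ((j ≫ f).fiberι ((j ≫ f) u) ≫ j) (fibComp_fiberι f j ((j ≫ f) u))).app F).symm
  have hptw : ∀ w : (j ≫ f).fiber ((j ≫ f) u),
      (f.fiberι ((j ≫ f) u)) (fibComp f j ((j ≫ f) u) w) = j (((j ≫ f).fiberι ((j ≫ f) u)) w) := by
    intro w
    rw [← Scheme.Hom.comp_apply, fibComp_fiberι, Scheme.Hom.comp_apply]
  have hpt : (f.fiberι ((j ≫ f) u)) (fibComp f j ((j ≫ f) u) ((j ≫ f).asFiber u)) = j u := by
    rw [hptw, Scheme.Hom.fiberι_asFiber]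
  have hYs : IsClosed ((f.fiberι ((j ≫ f) u)) ⁻¹' Y) :=
    hY.preimage (f.fiberι ((j ≫ f) u)).continuous
  have hset : ((j ≫ f).fiberι ((j ≫ f) u)) ⁻¹' (j ⁻¹' Y) =
      (fun w => fibComp f j ((j ≫ f) u) w) ⁻¹' ((f.fiberι ((j ≫ f) u)) ⁻¹' Y) := by
    ext w
    show j (((j ≫ f).fiberι ((j ≫ f) u)) w) ∈ Y ↔
      (f.fiberι ((j ≫ f) u)) (fibComp f j ((j ≫ f) u) w) ∈ Y
    rw [hptw]
  have h1 : CInt.fiberDepthAlong (j ≫ f) ((Scheme.Modules.pullback j).obj F) (j ⁻¹' Y) u =
      CInt.fiberDepthAlong (j ≫ f) ((Scheme.Modules.pullback j).obj F) (j ⁻¹' Y)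
        ((j ≫ f).fiberι ((j ≫ f) u) ((j ≫ f).asFiber u)) := by
    rw [Scheme.Hom.fiberι_asFiber]
  have h2 := Groth.Agent.Lib.DepthAlongBC.main2871 (fibComp f j ((j ≫ f) u))
    ((Scheme.Modules.pullback (f.fiberι ((j ≫ f) u))).obj F) hG
    (⟨_, hYs⟩ : Closeds (f.fiber ((j ≫ f) u))) ((j ≫ f).asFiber u)
  rw [h1, fiberDepthAlong_fiberι, depthAlong_of_iso β, hset]
  rw [← hpt, fiberDepthAlong_fiberι]
  exact h2

end BC

section Top

variable {X S : Scheme.{u}}

/-- the fibre depth is `⊤` exactly off the support -/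
theorem fiberDepth_eq_top_iff (f : X ⟶ S) [LocallyOfFiniteType f] (F : X.Modules)
    (hF : Coh.IsCoh F) (x : X) : CInt.fiberDepth f F x = ⊤ ↔ x ∉ CohB1.support F := by
  rw [← rect_eq_top_iff f F hF x, rect_eq]
  obtain ⟨k, -, hk⟩ := Groth.Agent.FibRes2H8.height_asFiber f x
  have hk' : cdim f x = (k : ℕ∞) := hk
  rw [hk']
  constructor
  · intro h
    rw [h, top_add]
  · intro h
    by_contra hne
    obtain ⟨m, hm⟩ := ENat.ne_top_iff_exists.mp hne
    rw [← hm] at h
    exact ENat.natCast_ne_top (m + k) (by exact_mod_cast h)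

/-- on a closed subset the depth of the fibre module along it is `⊤` exactly off the support -/
theorem fiberDepthAlong_eq_top_iff (f : X ⟶ S) [LocallyOfFiniteType f] (F : X.Modules)
    (hF : Coh.IsCoh F) (Y : Set X) {x : X} (hx : x ∈ Y) :
    CInt.fiberDepthAlong f F Y x = ⊤ ↔ x ∉ CohB1.support F := by
  haveI : F.IsQuasicoherent := hF.1
  haveI : SheafOfModules.IsFiniteType (R := X.ringCatSheaf) F := hF.2
  have hcl := SuppFT.isClosed_support F
  unfold CInt.fiberDepthAlong
  rw [iInf_eq_top]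
  constructor
  · intro h
    have := h ⟨x, hx, specializes_rfl, rfl⟩
    exact (fiberDepth_eq_top_iff f F hF x).mp this
  · rintro h ⟨z, hzY, hzx, -⟩
    rw [fiberDepth_eq_top_iff f F hF z]
    intro hz
    exact h (hzx.mem_closed hcl hz)

set_option maxHeartbeats 1000000 in
/-- **lower semicontinuity of the depth of the fibre modules along a closed subset in flat
families over a Noetherian base** (as a function on the whole source, with value `⊤` off the
closed subset) -/
theorem isOpen_le_fiberDepthAlong {T : Scheme.{u}} (g : X ⟶ T) [IsNoetherian T]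
    [LocallyOfFiniteType g] (F : X.Modules) (hF : Coh.IsCoh F) (Y : Set X) (hY : IsClosed Y)
    (hflat : FlatMod.IsFlatOver g F) (n : ℕ∞) :
    IsOpen {x : X | n ≤ CInt.fiberDepthAlong g F Y x} := by
  haveI : F.IsQuasicoherent := hF.1
  haveI : SheafOfModules.IsFiniteType (R := X.ringCatSheaf) F := hF.2
  haveI : IsLocallyNoetherian X := LocallyOfFiniteType.isLocallyNoetherian g
  induction n using ENat.recTopCoe with
  | top =>
    have hcl := SuppFT.isClosed_support F
    have heq : {x : X | ⊤ ≤ CInt.fiberDepthAlong g F Y x} = Yᶜ ∪ (CohB1.support F)ᶜ := by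
      ext x
      rw [Set.mem_ofPred_eq, top_le_iff]
      by_cases hx : x ∈ Y
      · rw [fiberDepthAlong_eq_top_iff g F hF Y hx]
        simp [hx]
      · simp [hx, fiberDepthAlong_eq_top_of_notMem g F Y hY hx]
    rw [heq]
    exact hY.isOpen_compl.union hcl.isOpen_compl
  | coe m =>
    haveI : LocallyOfFinitePresentation g := inferInstance
    have hfp : CohB1.IsFP F := FLFH8.isFinitePresentation_of_isCoh F
    obtain ⟨U, hU⟩ := Groth.Agent.Lib.FibPdH5.exists_opens_fiberDepthAlong g ⟨Y, hY⟩ F hfp hflat m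
    have heq : {x : X | (m : ℕ∞) ≤ CInt.fiberDepthAlong g F Y x} = Yᶜ ∪ (U : Set X) := by
      ext x
      rw [Set.mem_ofPred_eq]
      by_cases hx : x ∈ Y
      · have := hU x hx
        simp only [Set.mem_union, Set.mem_compl_iff, hx, not_true_eq_false, false_or]
        exact this.symm
      · simp [hx, fiberDepthAlong_eq_top_of_notMem g F Y hY hx]
    rw [heq]
    exact hY.isOpen_compl.union U.2

end Top

section Main

/-- "the depth of the fibre module along `Y` is at least `n`" is a fibrewise property -/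
theorem isFibrewiseModSub_le_fiberDepthAlong (n : ℕ∞) :
    Groth.Agent.Lib.FibConsModSubH5.IsFibrewiseModSub.{u}
      (fun {X S} f F Y x => n ≤ CInt.fiberDepthAlong f F Y x) where
  iso f _ _ α _ Y x h := by
    rw [← fiberDepthAlong_of_iso f α Y x]
    exact h
  bc f _ F hF Y hY f' g' g hc x' := by rw [fiberDepthAlong_bc f F hF Y hY f' g' g hc x']
  loc f _ F hF Y hY j _ u := by rw [fiberDepthAlong_loc f F hF Y hY j u]
  isOpen g _ _ F hF Y hY hflat := isOpen_le_fiberDepthAlong g F hF Y hY hflat n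

variable {X S : Scheme.{u}}

/-- the loci `{n ≤ prof_{Y ∩ X_{f y}}(F_{f y})}` are locally constructible -/
theorem isLocallyConstructible_le_fiberDepthAlong (f : X ⟶ S) [LocallyOfFinitePresentation f]
    (F : X.Modules) [Coh.IsQCoh F] (hF : CohB1.IsFP F) (Y : Set X) (hY : IsClosed Y)
    (hYlc : IsLocallyConstructible Y) (n : ℕ∞) :
    IsLocallyConstructible {x : X | n ≤ CInt.fiberDepthAlong f F Y x} :=
  Groth.Agent.Lib.FibConsModSubH5.isLocallyConstructible
    (isFibrewiseModSub_le_fiberDepthAlong n) f F hF Y hY hYlc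

/-- the level sets of `prof_{Y ∩ X_{f y}}(F_{f y})` are locally constructible -/
theorem isLocallyConstructible_fiberDepthAlong_eq (f : X ⟶ S) [LocallyOfFinitePresentation f]
    (F : X.Modules) [Coh.IsQCoh F] (hF : CohB1.IsFP F) (Y : Set X) (hY : IsClosed Y)
    (hYlc : IsLocallyConstructible Y) (n : ℕ∞) :
    IsLocallyConstructible {x : X | CInt.fiberDepthAlong f F Y x = n} := by
  have hle := isLocallyConstructible_le_fiberDepthAlong f F hF Y hY hYlc
  induction n using ENat.recTopCoe with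
  | top =>
    convert hle ⊤ using 1
    ext x
    rw [Set.mem_ofPred_eq, Set.mem_ofPred_eq, top_le_iff]
  | coe m =>
    have h1 := hle m
    have h2 := Groth.Agent.Lib.FibConsH8.isLocallyConstructible_compl (hle ((m : ℕ∞) + 1))
    convert h1.inter h2 using 1
    ext x
    simp only [Set.mem_ofPred_eq, Set.mem_inter_iff, Set.mem_compl_iff, not_le]
    constructor
    · intro h
      rw [h]
      exact ⟨le_rfl, (ENat.lt_add_one_iff (ENat.natCast_ne_top m)).mpr le_rfl⟩
    · rintro ⟨h3, h4⟩
      exact le_antisymm ((ENat.lt_add_one_iff (ENat.natCast_ne_top m)).mp h4) h3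

end Main

end Groth.Agent.Lib.FibDepthAlongBCH5
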