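/-
helper5: consequences of the local constructibility of `y ↦ prof_{Y ∩ X_{f y}} (F_{f y})`
(`FibDepthAlongBC1_helper5`): retrocompactness of the loci `{y ∈ Y | n ≤ prof …}` (S5986) and local
constructibility of the function on the topological space `Y` (S19986).  (EGA IV 12.3-type.)
APPEND-ONLY once landed.
-/
import Mathlib
import Groth.Agent.Lib.FibDepthAlongBC1_helper5
import Groth.Agent.Lib.ProConsTop_helper8
import Groth.Agent.Lib.SpectralT1_helper8
import Groth.Agent.Lib.LimConstr_helper9

set_option autoImplicit false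
set_option linter.style.haveILetI false
set_option linter.unusedVariables false

namespace Groth.Agent.Lib.FibDepthAlongBCH5

open AlgebraicGeometry CategoryTheory TopologicalSpace Topology

universe u

section General

/-- in a spectral space, if an intersection of constructible sets is contained in a constructible
set then so is a finite subintersection -/
theorem exists_finset_iInter_subset {W : Type*} [TopologicalSpace W] [CompactSpace W]
    [QuasiSober W] [PrespectralSpace W] [QuasiSeparatedSpace W] {ι : Type*} (B : ι → Set W)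
    (hB : ∀ i, IsConstructible (B i)) (C : Set W) (hC : IsConstructible C)
    (h : ⋂ i, B i ⊆ C) : ∃ J : Finset ι, ⋂ i ∈ J, B i ⊆ C := by
  have hcs : @CompactSpace W (constructibleTopology W) :=
    Groth.Agent.Lib.SpectralT1H8.compactSpace_constructible
  have hO := (Groth.Agent.Lib.ProConsTopH8.isClopen_constructibleTopology hC).1
  have hCl := fun i => (Groth.Agent.Lib.ProConsTopH8.isClopen_constructibleTopology (hB i)).2
  have hs : @IsCompact W (constructibleTopology W) Cᶜ :=
    @IsClosed.isCompact W (constructibleTopology W) _ hcs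
      ((@isClosed_compl_iff W (constructibleTopology W) _).2 hO)
  obtain ⟨u, hu⟩ := @IsCompact.elim_finite_subfamily_closed W
    (constructibleTopology W) _ ι hs B hCl (by
      rw [Set.eq_empty_iff_forall_notMem]
      rintro z ⟨hz1, hz2⟩
      exact hz1 (h hz2))
  refine ⟨u, fun z hz => ?_⟩
  by_contra hzC
  have : z ∈ Cᶜ ∩ ⋂ i ∈ u, B i := ⟨hzC, hz⟩
  rw [hu] at this
  exact this

/-- a locally constructible subset of a scheme is retrocompact -/
theorem isRetrocompact_of_isLocallyConstructible {X : Scheme.{u}} {T : Set X}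
    (hT : IsLocallyConstructible T) : IsRetrocompact T := by
  intro U hUc hUo
  have H : ∀ x : U, ∃ W : X.Opens, (x : X) ∈ W ∧ (W : Set X) ⊆ U ∧
      IsCompact (T ∩ (W : Set X)) := by
    rintro ⟨x, hxU⟩
    obtain ⟨W, hW, hxW, hWU⟩ : ∃ W : X.Opens, IsAffineOpen W ∧ x ∈ W ∧ (W : Set X) ⊆ U := by
      obtain ⟨_, ⟨W, hW, rfl⟩, hxW, hWU⟩ :=
        X.isBasis_affineOpens.exists_subset_of_mem_open hxU hUo
      exact ⟨W, hW, hxW, hWU⟩
    refine ⟨W, hxW, hWU, ?_⟩
    haveI : IsAffine (W : Scheme.{u}) := hW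
    have h1 : IsLocallyConstructible (W.ι ⁻¹' T) :=
      hT.preimage_of_isOpenEmbedding W.ι.isOpenEmbedding
    have h2 : IsCompact (W.ι ⁻¹' T) :=
      LimConstr.isCompact_of_isConstructible h1.isConstructible
    have h3 := h2.image W.ι.continuous
    convert h3 using 1
    rw [Set.image_preimage_eq_inter_range, Scheme.Opens.range_ι]
  choose W hW1 hW2 hW3 using H
  obtain ⟨t, ht⟩ := hUc.elim_finite_subcover (fun x : U => (W x : Set X)) (fun x => (W x).2)
    (fun x hx => Set.mem_iUnion.mpr ⟨⟨x, hx⟩, hW1 ⟨x, hx⟩⟩)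
  have hEq : T ∩ U = ⋃ i ∈ t, (T ∩ (W i : Set X)) := by
    ext x
    simp only [Set.mem_inter_iff, Set.mem_iUnion, exists_prop]
    constructor
    · rintro ⟨hx, hxU⟩
      obtain ⟨i, hi, hxi⟩ : ∃ i ∈ t, x ∈ (W i : Set X) := by
        simpa using ht hxU
      exact ⟨i, hi, hx, hxi⟩
    · rintro ⟨i, hi, hx, hxi⟩
      exact ⟨hx, hW2 i hxi⟩
  rw [hEq]
  exact t.isCompact_biUnion (fun i _ => hW3 i)

set_option maxHeartbeats 1000000 in
/-- a function `D : X → ℕ∞` whose loci `{k ≤ D}` are constructible in a spectral open `U` takes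
finitely many values on the trace of `U` on a closed subset `Y` with constructible trace, and its
level sets there are constructible -/
theorem finite_and_constructible_of_le {X : Type*} [TopologicalSpace X] (Y : Set X)
    (hYc : IsClosed Y) (U : Set X) (hU : IsOpen U)
    [CompactSpace ↥U] [QuasiSober ↥U] [PrespectralSpace ↥U] [QuasiSeparatedSpace ↥U]
    (D : X → ℕ∞) (hD : ∀ k : ℕ∞, IsConstructible (Subtype.val ⁻¹' {x | k ≤ D x} : Set ↥U))
    (hY : IsConstructible (Subtype.val ⁻¹' Y : Set ↥U))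
    (V : Opens ↥Y) (hV : (V : Set ↥Y) = Subtype.val ⁻¹' U) :
    ((fun y : ↥Y => D y.1) '' (V : Set ↥Y)).Finite ∧
      ∀ t : ℕ∞, IsConstructible {v : ↥V | D v.1.1 = t} := by
  constructor
  · -- finiteness of the set of values
    have hsub : ⋂ k : ℕ, (Subtype.val ⁻¹' {x | (k : ℕ∞) ≤ D x} : Set ↥U) ⊆
        (Subtype.val ⁻¹' {x | ⊤ ≤ D x} : Set ↥U) := by
      intro u hu
      rw [Set.mem_iInter] at hu
      show ⊤ ≤ D u.1
      rw [top_le_iff, ENat.eq_top_iff_forall_ge]
      exact fun m => hu m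
    obtain ⟨J, hJ⟩ := exists_finset_iInter_subset
      (fun k : ℕ => (Subtype.val ⁻¹' {x | (k : ℕ∞) ≤ D x} : Set ↥U)) (fun k => hD k) _ (hD ⊤) hsub
    refine Set.Finite.subset (((Finset.range (J.sup id)).image
      (fun m : ℕ => (m : ℕ∞))).finite_toSet.union (Set.finite_singleton ⊤)) ?_
    rintro _ ⟨y, hyV, rfl⟩
    have hyU : y.1 ∈ U := by
      have : y ∈ (V : Set ↥Y) := hyV
      rw [hV] at this
      exact this
    show D y.1 ∈ _
    rcases eq_or_ne (D y.1) ⊤ with htop | hne
    · right
      exact htop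
    · left
      obtain ⟨m, hm⟩ := ENat.ne_top_iff_exists.mp hne
      rw [Finset.coe_image, Set.mem_image]
      refine ⟨m, ?_, hm⟩
      rw [Finset.coe_range, Set.mem_Iio]
      by_contra hlt
      rw [not_lt] at hlt
      have hmem : (⟨y.1, hyU⟩ : ↥U) ∈ ⋂ i ∈ J,
          (Subtype.val ⁻¹' {x | (i : ℕ∞) ≤ D x} : Set ↥U) := by
        rw [Set.mem_iInter₂]
        intro i hi
        show (i : ℕ∞) ≤ D y.1
        rw [← hm]
        have h1 : i ≤ J.sup id := Finset.le_sup (f := id) hi
        exact_mod_cast h1.trans hlt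
      have := hJ hmem
      exact hne (top_le_iff.mp this)
  · -- constructibility of the level sets
    intro t
    have hmem : ∀ v : ↥V, v.1.1 ∈ U := by
      intro v
      have : v.1 ∈ (V : Set ↥Y) := v.2
      rw [hV] at this
      exact this
    let g : ↥V → ↥U := fun v => ⟨v.1.1, hmem v⟩
    have hgemb : IsEmbedding g :=
      (IsEmbedding.subtypeVal.comp IsEmbedding.subtypeVal).codRestrict U hmem
    have hrange : Set.range g = (Subtype.val ⁻¹' Y : Set ↥U) := by
      ext u
      constructor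
      · rintro ⟨v, rfl⟩
        exact v.1.2
      · intro hu
        have huV : (⟨u.1, hu⟩ : ↥Y) ∈ V := by
          show (⟨u.1, hu⟩ : ↥Y) ∈ (V : Set ↥Y)
          rw [hV]
          exact u.2
        exact ⟨⟨⟨u.1, hu⟩, huV⟩, rfl⟩
    have hgcl : IsClosedEmbedding g := by
      refine ⟨hgemb, ?_⟩
      rw [hrange]
      exact hYc.preimage continuous_subtype_val
    have hcomp : IsCompact (Set.range g)ᶜ := by
      rw [hrange]
      exact LimConstr.isCompact_of_isConstructible hY.compl
    have hE : IsConstructible (Subtype.val ⁻¹' {x | D x = t} : Set ↥U) := by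
      induction t using ENat.recTopCoe with
      | top =>
        convert hD ⊤ using 1
        ext u
        show D u.1 = ⊤ ↔ ⊤ ≤ D u.1
        rw [top_le_iff]
      | coe m =>
        convert (hD m).sdiff (hD ((m : ℕ∞) + 1)) using 1
        ext u
        show D u.1 = (m : ℕ∞) ↔ (m : ℕ∞) ≤ D u.1 ∧ ¬ ((m : ℕ∞) + 1 ≤ D u.1)
        rw [not_le]
        constructor
        · intro h
          rw [h]
          exact ⟨le_rfl, (ENat.lt_add_one_iff (ENat.natCast_ne_top m)).mpr le_rfl⟩
        · rintro ⟨h3, h4⟩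
          exact le_antisymm ((ENat.lt_add_one_iff (ENat.natCast_ne_top m)).mp h4) h3
    exact hE.preimage_of_isClosedEmbedding hgcl hcomp

end General

section Main

variable {X S : Scheme.{u}}

/-- **S5986** -/
theorem main5986 (f : X ⟶ S) [LocallyOfFinitePresentation f] (Y : Closeds ↥X)
    (hY : IsLocallyConstructible (Y : Set ↥X)) (F : X.Modules) (hqc : Coh.IsQCoh F)
    (hfp : CohB1.IsFP F) (n : ℕ) :
    IsRetrocompact {y : ↥X | y ∈ Y ∧ (n : ℕ∞) ≤ CInt.fiberDepthAlong f F (Y : Set ↥X) y} := by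
  haveI := hqc
  have h1 := isLocallyConstructible_le_fiberDepthAlong f F hfp (Y : Set X) Y.isClosed hY n
  exact isRetrocompact_of_isLocallyConstructible (hY.inter h1)

set_option maxHeartbeats 1000000 in
/-- **S19986** -/
theorem main19986 (f : X ⟶ S) [LocallyOfFinitePresentation f] (Y : Closeds ↥X)
    (hY : IsLocallyConstructible (Y : Set ↥X)) (F : X.Modules) (hqc : Coh.IsQCoh F)
    (hfp : CohB1.IsFP F) (y₀ : ↥(Y : Set ↥X)) :
    ∃ V : Opens ↥(Y : Set ↥X), y₀ ∈ V ∧
      ((fun y : ↥(Y : Set ↥X) => CInt.fiberDepthAlong f F (Y : Set ↥X) y.1) ''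
        (V : Set ↥(Y : Set ↥X))).Finite ∧
      ∀ t : ℕ∞, IsConstructible
        {v : ↥V | CInt.fiberDepthAlong f F (Y : Set ↥X) v.1.1 = t} := by
  haveI := hqc
  obtain ⟨U, hU, hyU⟩ : ∃ U : X.Opens, IsAffineOpen U ∧ y₀.1 ∈ U := by
    obtain ⟨_, ⟨U, hU, rfl⟩, hyU, -⟩ := X.isBasis_affineOpens.exists_subset_of_mem_open
      (Set.mem_univ y₀.1) isOpen_univ
    exact ⟨U, hU, hyU⟩
  haveI : IsAffine (U : Scheme.{u}) := hU
  haveI : CompactSpace ↥(U : Set X) := inferInstanceAs (CompactSpace (U : Scheme.{u}))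
  haveI : QuasiSober ↥(U : Set X) := inferInstanceAs (QuasiSober (U : Scheme.{u}))
  haveI : PrespectralSpace ↥(U : Set X) := inferInstanceAs (PrespectralSpace (U : Scheme.{u}))
  haveI : QuasiSeparatedSpace ↥(U : Set X) :=
    inferInstanceAs (QuasiSeparatedSpace (U : Scheme.{u}))
  have hcons : ∀ E : Set X, IsLocallyConstructible E →
      IsConstructible (Subtype.val ⁻¹' E : Set ↥(U : Set X)) := by
    intro E hE
    have h1 : IsLocallyConstructible (U.ι ⁻¹' E) :=
      hE.preimage_of_isOpenEmbedding U.ι.isOpenEmbedding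
    exact h1.isConstructible
  refine ⟨⟨Subtype.val ⁻¹' (U : Set X), U.2.preimage continuous_subtype_val⟩, hyU, ?_⟩
  exact finite_and_constructible_of_le (Y : Set X) Y.isClosed (U : Set X) U.2
    (fun x => CInt.fiberDepthAlong f F (Y : Set X) x)
    (fun k => hcons _
      (isLocallyConstructible_le_fiberDepthAlong f F hfp (Y : Set X) Y.isClosed hY k))
    (hcons _ hY) _ rfl

end Main

end Groth.Agent.Lib.FibDepthAlongBCH5
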