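import Groth.Agent.Lib.GenFlatHom_lead
import Groth.Agent.Lib.FinGrpSplit_lead
import Groth.Agent.Lib.ClosedOrbit_lead
import Groth.Agent.Lib.AbSubvar_lead
import Groth.Agent.Lib.FieldExt3_helper8
import Groth.Agent.Lib.QSecA_helper8
import Groth.Agent.S1653
import Groth.Statements.S19572

/-! # Fibre dimension of a homomorphism of group schemes is constant; isogenies (lead) -/

set_option backward.isDefEq.respectTransparency false
set_option backward.isDefEq.respectTransparency.types false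
set_option linter.unusedSimpArgs false
set_option linter.unusedVariables false
set_option linter.unusedSectionVars false
set_option linter.style.longLine false
set_option linter.style.haveILetI false
set_option linter.unnecessarySimpa false
set_option maxHeartbeats 800000

universe u

open CategoryTheory CategoryTheory.Limits MonoidalCategory CartesianMonoidalCategory MonObj GrpObj
  AlgebraicGeometry Opposite Topology TopologicalSpace

namespace Groth.Agent.Lib.FibDimConst

variable {k : Type u} [Field k]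

theorem comp_pt {S : Scheme.{u}} {A B C : Over S} (φ : A ⟶ B) (ψ : B ⟶ C) (p : A.left) :
    (φ ≫ ψ).left p = ψ.left (φ.left p) := rfl

/-- the local fibre dimension of a homomorphism of group schemes over a field is the same at all
points of the source -/
theorem fibreDimAt_const {X Y : Over (Spec (CommRingCat.of k))} [GrpObj X] [GrpObj Y]
    (f : X ⟶ Y) [IsMonHom f] [LocallyOfFiniteType f.left] (x₁ x₂ : X.left) :
    FlatMor.fibreDimAt f.left x₁ = FlatMor.fibreDimAt f.left x₂ := by
  haveI hsub : Subsingleton ↥(Spec (CommRingCat.of k)) :=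
    inferInstanceAs (Subsingleton (PrimeSpectrum k))
  obtain ⟨τX, hτX⟩ : ∃ τX : X ⊗ X ⟶ X ⊗ X, τX = lift (fst X X) (fst X X * snd X X) := ⟨_, rfl⟩
  obtain ⟨τX', hτX'⟩ : ∃ τX' : X ⊗ X ⟶ X ⊗ X, τX' = lift (fst X X) ((fst X X)⁻¹ * snd X X) :=
    ⟨_, rfl⟩
  obtain ⟨τY, hτY⟩ : ∃ τY : X ⊗ Y ⟶ X ⊗ Y, τY = lift (fst X Y) ((fst X Y ≫ f) * snd X Y) :=
    ⟨_, rfl⟩
  obtain ⟨τY', hτY'⟩ : ∃ τY' : X ⊗ Y ⟶ X ⊗ Y,
      τY' = lift (fst X Y) ((fst X Y ≫ f)⁻¹ * snd X Y) := ⟨_, rfl⟩
  have hW : X ◁ f = lift (fst X X) (snd X X ≫ f) := by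
    apply CartesianMonoidalCategory.hom_ext <;> simp
  have h1 : τX ≫ τX' = 𝟙 _ := by
    rw [hτX', comp_lift, MonObj.comp_mul, GrpObj.comp_inv, hτX, lift_fst, lift_snd,
      _root_.inv_mul_cancel_left, lift_fst_snd]
  have h2 : τX' ≫ τX = 𝟙 _ := by
    rw [hτX, comp_lift, MonObj.comp_mul, hτX', lift_fst, lift_snd,
      _root_.mul_inv_cancel_left, lift_fst_snd]
  have h3 : τY ≫ τY' = 𝟙 _ := by
    rw [hτY', comp_lift, MonObj.comp_mul, GrpObj.comp_inv, ← Category.assoc, hτY, lift_fst,
      lift_snd, _root_.inv_mul_cancel_left, lift_fst_snd]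
  have h4 : τY' ≫ τY = 𝟙 _ := by
    rw [hτY, comp_lift, MonObj.comp_mul, ← Category.assoc, hτY', lift_fst, lift_snd,
      _root_.mul_inv_cancel_left, lift_fst_snd]
  have hcomm : τX ≫ (X ◁ f) = (X ◁ f) ≫ τY := by
    have hl : τX ≫ (X ◁ f) = lift (fst X X) ((fst X X ≫ f) * (snd X X ≫ f)) := by
      rw [hW, comp_lift, ← Category.assoc, hτX, lift_fst, lift_snd, MonObj.mul_comp]
    have hr : (X ◁ f) ≫ τY = lift (fst X X) ((fst X X ≫ f) * (snd X X ≫ f)) := by
      rw [hτY, comp_lift, MonObj.comp_mul, ← Category.assoc, hW, lift_fst, lift_snd]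
    rw [hl, hr]
  haveI : IsIso τX.left :=
    ⟨⟨τX'.left, by rw [← Over.comp_left, h1]; rfl, by rw [← Over.comp_left, h2]; rfl⟩⟩
  haveI : IsIso τY.left :=
    ⟨⟨τY'.left, by rw [← Over.comp_left, h3]; rfl, by rw [← Over.comp_left, h4]; rfl⟩⟩
  have sqA : IsPullback τX.left (X ◁ f).left (X ◁ f).left τY.left :=
    IsPullback.of_horiz_isIso ⟨by rw [← Over.comp_left, ← Over.comp_left, hcomm]⟩
  have sqB : IsPullback (snd X X).left (X ◁ f).left f.left (snd X Y).left :=
    (Groth.Agent.Lib.FinGrpSplit.isPullback_whiskerLeft X f).flip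
  haveI : LocallyOfFiniteType (X ◁ f).left :=
    MorphismProperty.of_isPullback (P := @LocallyOfFiniteType) sqB inferInstance
  have eA : ∀ z : (X ⊗ X).left, FlatMor.fibreDimAt (X ◁ f).left z =
      FlatMor.fibreDimAt (X ◁ f).left (τX.left z) :=
    fun z => FieldExtH8.fibreDimAt_baseChange (X ◁ f).left τY.left τX.left (X ◁ f).left sqA z
  have eB : ∀ z : (X ⊗ X).left, FlatMor.fibreDimAt (X ◁ f).left z =
      FlatMor.fibreDimAt f.left ((snd X X).left z) :=
    fun z => FieldExtH8.fibreDimAt_baseChange f.left (snd X Y).left (snd X X).left (X ◁ f).left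
      sqB z
  -- a point of the product over `(x₁, x₂)`
  haveI hsub' : Subsingleton ↥(𝟙_ (Over (Spec (CommRingCat.of k)))).left :=
    (inferInstance : Subsingleton (PrimeSpectrum k))
  have hpb : IsPullback (fst X X).left (snd X X).left (toUnit X).left (toUnit X).left :=
    (Groth.Agent.Lib.GenFlatHom.isPullback_fst_snd X X).map (Over.forget _)
  obtain ⟨w, hw1, hw2⟩ := Groth.Agent.Lib.ClosedOrbit.exists_of_isPullback hpb x₁ x₂
    (Subsingleton.elim _ _)
  obtain ⟨σ', hσ'⟩ : ∃ σ' : X ⊗ X ⟶ X ⊗ X,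
      σ' = lift (snd X X * (fst X X)⁻¹) (fst X X) := ⟨_, rfl⟩
  have hs1 : σ' ≫ snd X X = fst X X := by rw [hσ', lift_snd]
  have hs2 : σ' ≫ τX ≫ snd X X = snd X X := by
    rw [hτX, lift_snd, MonObj.comp_mul, hσ', lift_fst, lift_snd, _root_.inv_mul_cancel_right]
  have e1 : (snd X X).left (σ'.left w) = x₁ := by
    rw [← comp_pt, hs1]; exact hw1
  have e2 : (snd X X).left (τX.left (σ'.left w)) = x₂ := by
    rw [← comp_pt, ← comp_pt, hs2]; exact hw2
  rw [← e1, ← eB, eA, eB, e2]

/-- a surjective homomorphism between abelian varieties of the same dimension is finite and flat -/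
theorem main19572 (k : Type u) [Field k]
    (X Y : Over (Spec (CommRingCat.of k)))
    [GrpObj X] [IsProper X.hom] [GeometricallyIntegral X.hom]
    [GrpObj Y] [IsProper Y.hom] [GeometricallyIntegral Y.hom]
    (f : X ⟶ Y) [IsMonHom f] [Surjective f.left]
    (hdim : topologicalKrullDim X.left = topologicalKrullDim Y.left) :
    IsFinite f.left ∧ Flat f.left := by
  haveI hsub : Subsingleton ↥(Spec (CommRingCat.of k)) :=
    inferInstanceAs (Subsingleton (PrimeSpectrum k))
  haveI : IsDomain (CommRingCat.of k) := inferInstanceAs (IsDomain k)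
  haveI : IsIntegral (Spec (CommRingCat.of k)) := inferInstance
  haveI : IsIntegral X.left := GeometricallyIntegral.isIntegral_of_subsingleton X.hom
  haveI : IsIntegral Y.left := GeometricallyIntegral.isIntegral_of_subsingleton Y.hom
  haveI : LocallyOfFiniteType f.left := Groth.Agent.Lib.GenFlatHom.lft_hom f
  have hflat : Flat f.left := Groth.Agent.Lib.GenFlatHom.flat_hom f
  refine ⟨?_, hflat⟩
  obtain ⟨a, ha⟩ := Groth.Agent.Lib.AbSubvar.exists_nat_dim X
  obtain ⟨b, hb⟩ := Groth.Agent.Lib.AbSubvar.exists_nat_dim Y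
  have hab : a = b := by
    have h : ((a : ℕ∞) : WithBot ℕ∞) = ((b : ℕ∞) : WithBot ℕ∞) := by rw [← ha, ← hb, hdim]
    exact_mod_cast h
  letI : X.left.Over (Spec (CommRingCat.of k)) := ⟨X.hom⟩
  letI : Y.left.Over (Spec (CommRingCat.of k)) := ⟨Y.hom⟩
  haveI : LocallyOfFiniteType (X.left ↘ Spec (CommRingCat.of k)) :=
    (inferInstance : LocallyOfFiniteType X.hom)
  haveI : LocallyOfFiniteType (Y.left ↘ Spec (CommRingCat.of k)) :=
    (inferInstance : LocallyOfFiniteType Y.hom)
  have hcl : topologicalKrullDim ↥(closure (Set.range f.left.base)) = (b : WithBot ℕ∞) := by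
    have hr : closure (Set.range f.left.base) = Set.univ := by
      rw [Set.range_eq_univ.mpr f.left.surjective, closure_univ]
    have hb' : topologicalKrullDim ↥Y.left = (b : WithBot ℕ∞) := by rw [hb]; rfl
    rw [hr, ← hb']
    exact (IsHomeomorph.topologicalKrullDim_eq _
      (Homeomorph.Set.univ ↥Y.left).isHomeomorph)
  obtain ⟨-, -, hdense⟩ := Groth.Agent.S1653.result k X.left Y.left f.left (Over.w f) a b
    (by rw [ha]; rfl) hcl
  obtain ⟨x₀, hx₀⟩ := hdense.nonempty
  have hx₀' : FlatMor.fibreDimAt f.left x₀ = 0 := by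
    have h : FlatMor.fibreDimAt f.left x₀ = ((a - b : ℕ) : WithBot ℕ∞) := hx₀
    rw [h, hab, Nat.sub_self]; rfl
  have hall : ∀ t, FlatMor.fibreDimAt f.left t ≤ 0 := fun t =>
    le_of_eq ((fibreDimAt_const f t x₀).trans hx₀')
  haveI : LocallyQuasiFinite f.left := QSecH8.locallyQuasiFinite_of_fibreDimAt_le_zero f.left hall
  haveI : IsProper (f.left ≫ Y.hom) := by rw [Over.w f]; infer_instance
  haveI : IsProper f.left := IsProper.of_comp f.left Y.hom
  exact IsFinite.of_isProper_of_locallyQuasiFinite f.left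

end Groth.Agent.Lib.FibDimConst
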