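/-
helper5: the locus where the fibre of a morphism locally of finite presentation is equidimensional at the
point is locally constructible (EGA IV 9.9.1-type; S3451).  The condition is rewritten as
`FibEqD f x : ∀ z ⤳ x in the fibre, fibreDimAt f x ≤ fibreDimAt f z` and fed to the `IsFibrewiseGC` framework
of `FibRk7_helper5`.  APPEND-ONLY once landed.
-/
import Mathlib
import Groth.Agent.Lib.FibRk8_helper5
import Groth.Agent.Lib.CompDims_helper8
import Groth.Agent.Lib.FieldExt3_helper8
import Groth.Agent.Lib.FibCoh8_helper8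
import Groth.Agent.Lib.FibGen2_helper8
import Groth.Agent.Lib.OpenAtEq_helper8
import Groth.Agent.Lib.FibMapFlat_helper5
import Groth.Agent.Lib.EquidimIrr_helper8

set_option autoImplicit false
universe u

open AlgebraicGeometry CategoryTheory Limits TopologicalSpace Topology
open Groth.Agent.FibMapFlat

namespace Groth.Agent.Lib.FibEqdH5

open Groth.Agent.Lib.FibRkH5

/-- the fibre dimension does not drop at the generizations of `x` in its fibre -/
def FibEqD {X S : Scheme.{u}} (f : X ⟶ S) (x : X) : Prop :=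
  ∀ z : X, z ⤳ x → f z = f x → FlatMor.fibreDimAt f x ≤ FlatMor.fibreDimAt f z

/-- the dimension of the irreducible component of the fibre with a given generic point -/
theorem dim_closure_of_max {X S : Scheme.{u}} (f : X ⟶ S) [LocallyOfFiniteType f] (s : S) (ζ : X)
    (hζ : f ζ = s) (hmax : ∀ x'' : X, f x'' = s → x'' ⤳ ζ → x'' = ζ) :
    ∃ p : ↥(f.fiber s), f.fiberι s p = ζ ∧
      closure ({p} : Set ↥(f.fiber s)) ∈ irreducibleComponents ↥(f.fiber s) ∧
      topologicalKrullDim ↥(closure ({p} : Set ↥(f.fiber s))) = FlatMor.fibreDimAt f ζ := by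
  let p : ↥(f.fiber s) := (f.fiberHomeo s).symm ⟨ζ, hζ⟩
  have hp : (f.fiberι s).base p = ζ := f.fiberι_fiberHomeo_symm s ⟨ζ, hζ⟩
  have hpmax : ∀ q : ↥(f.fiber s), q ⤳ p → q = p := by
    intro q hq
    apply (f.fiberι s).isEmbedding.injective
    rw [hp]
    apply hmax
    · exact Groth.Agent.FibRes2H8.fiberι_mem f s q
    · have := hq.map (f.fiberι s).continuous
      rwa [hp] at this
  have hcomp : closure ({p} : Set ↥(f.fiber s)) ∈ irreducibleComponents ↥(f.fiber s) :=
    (SubCompH8.closure_mem_irreducibleComponents_iff p).mpr hpmax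
  obtain ⟨z', hz', hdim⟩ := FibCompH8.dim_component_fiber f s _ hcomp
  have hpz' : z' = p := by
    apply hpmax
    rw [specializes_iff_mem_closure, ← hz']
    exact subset_closure rfl
  refine ⟨p, hp, hcomp, ?_⟩
  rw [hdim, hpz', hp]

/-- **pointwise translation**: the fibre through `x` is equidimensional at `x` iff the fibre dimension is
constant on the generizations of `x` in the fibre. -/
theorem topEqD_iff {X S : Scheme.{u}} (f : X ⟶ S) [LocallyOfFiniteType f] (x : X) :
    (∃ e : ℕ, ∀ Z ∈ irreducibleComponents (↥(f.fiber (f.base x)) : Type u), f.asFiber x ∈ Z →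
        topologicalKrullDim (↥Z : Type u) = e) ↔ FibEqD f x := by
  constructor
  · rintro ⟨e, he⟩
    -- every maximal point of the fibre specializing to `x` has fibre dimension `e`
    have key : ∀ ζ : X, f ζ = f x → ζ ⤳ x → (∀ x'' : X, f x'' = f x → x'' ⤳ ζ → x'' = ζ) →
        FlatMor.fibreDimAt f ζ = (e : WithBot ℕ∞) := by
      intro ζ hζ hζx hmax
      obtain ⟨p, hp, hcomp, hdim⟩ := dim_closure_of_max f (f x) ζ hζ hmax
      rw [← hdim]
      apply he _ hcomp
      rw [← specializes_iff_mem_closure]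
      rw [← (f.fiberι (f x)).isEmbedding.isInducing.specializes_iff, hp,
        Scheme.Hom.fiberι_asFiber]
      exact hζx
    intro z hzx hfz
    obtain ⟨ζ₀, hζ₀f, hζ₀x, hζ₀max, hζ₀dim⟩ := CompDimsH8.exists_fibre_max_eq f x
    obtain ⟨ζ, hζf, hζz, hζmax, hζdim⟩ := CompDimsH8.exists_fibre_max_eq f z
    have h1 := key ζ₀ hζ₀f hζ₀x hζ₀max
    have h2 := key ζ (hζf.trans hfz) (hζz.trans hzx)
      (fun x'' h1 h2 => hζmax x'' (h1.trans hfz.symm) h2)
    rw [← hζ₀dim, h1, ← hζdim, h2]
  · intro H
    obtain ⟨e, he⟩ := EquidimIrrH8.exists_nat_fibreDimAt f x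
    refine ⟨e, ?_⟩
    intro Z hZ hxZ
    obtain ⟨z', hz', hdim⟩ := FibCompH8.dim_component_fiber f (f x) Z hZ
    rw [hdim, ← he]
    have hsp : (f.fiberι (f x)) z' ⤳ x := by
      have h1 : z' ⤳ f.asFiber x := by
        rw [specializes_iff_mem_closure, ← hz']; exact hxZ
      have h2 := h1.map (f.fiberι (f x)).continuous
      rwa [Scheme.Hom.fiberι_asFiber] at h2
    apply le_antisymm
    · exact FibGenH8.fibreDimAt_le_of_specializes f hsp
    · exact H _ hsp (Groth.Agent.FibRes2H8.fiberι_mem f (f x) z')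

/-- invariance of the criterion under base change -/
theorem fibEqD_bc {X Y X' Y' : Scheme.{u}} (f : X ⟶ Y) [LocallyOfFiniteType f]
    (f' : X' ⟶ Y') (g' : X' ⟶ X) (g : Y' ⟶ Y) (hc : IsPullback g' f' f g) (x' : X') :
    FibEqD f' x' ↔ FibEqD f (g' x') := by
  have hdim : ∀ w' : X', FlatMor.fibreDimAt f' w' = FlatMor.fibreDimAt f (g' w') :=
    fun w' => FieldExtH8.fibreDimAt_baseChange f g g' f' hc w'
  have hw : ∀ w' : X', f (g' w') = g (f' w') := fun w' =>
    congrArg (fun k : X' ⟶ Y => k w') hc.w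
  constructor
  · intro H z hz hfz
    haveI hflφ : Flat (fibMap hc (f' x')) := flat_fibMap hc (f' x')
    have hfz' : f z = g (f' x') := hfz.trans (hw x')
    let p : ↥(f.fiber (g (f' x'))) := (f.fiberHomeo (g (f' x'))).symm ⟨z, hfz'⟩
    have hp : (f.fiberι (g (f' x'))).base p = z := f.fiberι_fiberHomeo_symm _ ⟨z, hfz'⟩
    have hq : (f.fiberι (g (f' x'))) (fibMap hc (f' x') (f'.asFiber x')) = g' x' := by
      rw [fiberι_fibMap_apply, Scheme.Hom.fiberι_asFiber]
    have hpq : p ⤳ fibMap hc (f' x') (f'.asFiber x') := by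
      rw [← (f.fiberι (g (f' x'))).isEmbedding.isInducing.specializes_iff, hp, hq]
      exact hz
    obtain ⟨p', hp', hpp'⟩ := (Flat.generalizingMap (fibMap hc (f' x'))) hpq
    have hz'1 : (f'.fiberι (f' x')) p' ⤳ x' := by
      have := hp'.map (f'.fiberι (f' x')).continuous
      rwa [Scheme.Hom.fiberι_asFiber] at this
    have hz'2 : f' ((f'.fiberι (f' x')) p') = f' x' :=
      Groth.Agent.FibRes2H8.fiberι_mem f' (f' x') p'
    have hz'3 : g' ((f'.fiberι (f' x')) p') = z := by
      rw [← fiberι_fibMap_apply hc (f' x') p', hpp', hp]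
    have := H _ hz'1 hz'2
    rw [hdim, hdim, hz'3] at this
    exact this
  · intro H z' hz' hfz'
    have := H (g' z') (hz'.map g'.continuous) (by rw [hw, hw, hfz'])
    rw [hdim, hdim]
    exact this

/-- invariance of the criterion under restriction to an open subscheme -/
theorem fibEqD_loc {X S U : Scheme.{u}} (f : X ⟶ S) [LocallyOfFiniteType f] (j : U ⟶ X)
    [IsOpenImmersion j] (u : U) : FibEqD (j ≫ f) u ↔ FibEqD f (j u) := by
  have hdim : ∀ u' : U, FlatMor.fibreDimAt (j ≫ f) u' = FlatMor.fibreDimAt f (j u') := fun u' =>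
    (FibCohH8.fibreDimAt_etale_local f (j ≫ f) j (𝟙 S) (by simp) u').symm
  constructor
  · intro H z hz hfz
    have hzr : z ∈ Set.range j := hz.mem_open j.isOpenEmbedding.isOpen_range ⟨u, rfl⟩
    obtain ⟨u', rfl⟩ := hzr
    have h1 : u' ⤳ u := j.isOpenEmbedding.isInducing.specializes_iff.mp hz
    have := H u' h1 (by simpa using hfz)
    rw [hdim, hdim] at this
    exact this
  · intro H u' hu' hfu'
    have := H (j u') (hu'.map j.continuous) (by simpa using hfu')
    rw [hdim, hdim]
    exact this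

end Groth.Agent.Lib.FibEqdH5
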