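/-
helper5: generic constancy of the criterion `FibEqD` (equidimensionality of the fibre at the point) along the
closure of a point over the generic point of a Noetherian integral base; `IsFibrewiseGC` and S3451.
APPEND-ONLY once landed.
-/
import Mathlib
import Groth.Agent.Lib.FibEqd1_helper5

set_option autoImplicit false
universe u

open AlgebraicGeometry CategoryTheory Limits TopologicalSpace Topology

namespace Groth.Agent.Lib.FibEqdH5

open Groth.Agent.Lib.FibRkH5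

/-- generic constancy, the case where the criterion holds at `ζ`: it holds on a neighbourhood -/
theorem genConst_pos {X T : Scheme.{u}} (g : X ⟶ T) [IsIntegral T] [IsNoetherian T]
    [LocallyOfFiniteType g] [QuasiCompact g] (ζ : X)
    (hgζ : g ζ = genericPoint T) (hζ : FibEqD g ζ) :
    ∃ O : Set X, IsOpen O ∧ ζ ∈ O ∧ O ⊆ {x | FibEqD g x} := by
  haveI : NoetherianSpace X := noetherianSpace_of_qc g
  obtain ⟨d, hd⟩ := EquidimIrrH8.exists_nat_fibreDimAt g ζ
  obtain ⟨𝒮, hfin, hcl, hirr, hU⟩ :=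
    NoetherianSpace.exists_finite_set_isClosed_irreducible (isClosed_univ (X := X))
  -- the union of the components not containing `ζ`
  set C : Set X := ⋃ t ∈ {t ∈ 𝒮 | ζ ∉ t}, t with hC
  have hCcl : IsClosed C := by
    apply Set.Finite.isClosed_biUnion (hfin.subset (fun t ht => ht.1))
    intro t ht
    exact hcl t ht.1
  have hζC : ζ ∉ C := by
    intro hcon
    simp only [hC, Set.mem_iUnion, exists_prop] at hcon
    obtain ⟨t, ht, hζt⟩ := hcon
    exact ht.2 hζt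
  have hopen := ChevH8.isOpen_fibreDimAt_le g d
  -- on the open set the fibre dimension is constant
  have hconst : ∀ x ∈ Cᶜ ∩ {x : X | FlatMor.fibreDimAt g x ≤ (d : WithBot ℕ∞)},
      FlatMor.fibreDimAt g x = (d : WithBot ℕ∞) := by
    rintro x ⟨hxC, hxd⟩
    apply le_antisymm hxd
    have hxu : x ∈ (Set.univ : Set X) := Set.mem_univ x
    rw [hU] at hxu
    obtain ⟨t, ht, hxt⟩ := hxu
    have hζt : ζ ∈ t := by
      by_contra hcon
      apply hxC
      simp only [hC, Set.mem_iUnion, exists_prop]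
      exact ⟨t, ⟨ht, hcon⟩, hxt⟩
    obtain ⟨γ, hγ⟩ := QuasiSober.sober (hirr t ht) (hcl t ht)
    have hγcl : closure {γ} = t := hγ.def
    have hγζ : γ ⤳ ζ := by
      rw [specializes_iff_mem_closure, hγcl]; exact hζt
    have hγx : γ ⤳ x := by
      rw [specializes_iff_mem_closure, hγcl]; exact hxt
    have hgγ : g γ = g ζ := by
      rw [hgζ]
      apply eq_genericPoint_of_specializes
      rw [← hgζ]
      exact hγζ.map g.continuous
    have h1 := hζ γ hγζ hgγ
    rw [hd] at h1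
    exact h1.trans (FibGenH8.fibreDimAt_le_of_specializes g hγx)
  refine ⟨Cᶜ ∩ {x : X | FlatMor.fibreDimAt g x ≤ (d : WithBot ℕ∞)},
    hCcl.isOpen_compl.inter hopen, ⟨hζC, hd.le⟩, ?_⟩
  intro x hx z hz _
  have hzO : z ∈ Cᶜ ∩ {x : X | FlatMor.fibreDimAt g x ≤ (d : WithBot ℕ∞)} :=
    hz.mem_open (hCcl.isOpen_compl.inter hopen) hx
  rw [hconst x hx, hconst z hzO]

set_option maxHeartbeats 1000000 in
/-- generic constancy, the case where the criterion fails at `ζ`: it fails on a neighbourhood of `ζ` in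
`closure {ζ}` -/
theorem genConst_neg {X T : Scheme.{u}} (g : X ⟶ T) [IsIntegral T] [IsNoetherian T]
    [LocallyOfFiniteType g] [QuasiCompact g] (ζ : X)
    (hgζ : g ζ = genericPoint T) (hζ : ¬ FibEqD g ζ) :
    ∃ O : Set X, IsOpen O ∧ ζ ∈ O ∧ O ∩ closure {ζ} ⊆ {x | FibEqD g x}ᶜ := by
  unfold FibEqD at hζ
  push Not at hζ
  obtain ⟨ξ, hξζ, hgξ, hlt⟩ := hζ
  obtain ⟨a, ha⟩ := EquidimIrrH8.exists_nat_fibreDimAt g ξ
  have hgξ' : g ξ = genericPoint T := hgξ.trans hgζ
  -- the integral closed subscheme `closure {ξ}`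
  obtain ⟨V, i, hi, hV, hrange, hgen⟩ :=
    CohDevH8.exists_integral_subscheme (closure {ξ}) isClosed_closure ξ rfl
  haveI := hi; haveI := hV
  set h := i ≫ g with hh
  haveI : IsDominant h := by
    constructor
    rw [DenseRange, dense_iff_closure_eq]
    apply Set.eq_univ_of_univ_subset
    intro s _
    have hs : genericPoint T ⤳ s := genericPoint_specializes s
    apply hs.mem_closed isClosed_closure
    apply subset_closure
    exact ⟨genericPoint V, by rw [hh, Scheme.Hom.comp_apply, hgen]; exact hgξ'⟩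
  obtain ⟨n0, h1, h2, h3⟩ := GenFibDimH8.exists_nat h
  have hgenfib : ∀ v : V, h v = genericPoint T →
      FlatMor.fibreDimAt h v ≤ (n0 : WithBot ℕ∞) := by
    intro z hz
    have h3 : topologicalKrullDim ↥(h.fiber (h z)) = n0 := by rw [hz]; exact h1
    rw [← h3]
    exact TopDimLocH8.localDim_le_topDim (h.fiber (h z)) (h.asFiber z)
  have hge : ∀ v : V, (n0 : WithBot ℕ∞) ≤ FlatMor.fibreDimAt h v := by
    intro v; rw [← h1]; exact GenFibDimH8.generic_le h v
  -- the closed set `B`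
  set U₁ : Set X := {x : X | FlatMor.fibreDimAt g x ≤ (a : WithBot ℕ∞)} with hU₁
  have hU₁o : IsOpen U₁ := ChevH8.isOpen_fibreDimAt_le g a
  set B : Set X := closure {ξ} ∩ U₁ᶜ with hB
  have hBcl : IsClosed B := isClosed_closure.inter hU₁o.isClosed_compl
  obtain ⟨W, iB, hiB, hrangeB⟩ := ProdGenH8.exists_closedImmersion_range X B hBcl
  haveI := hiB
  set hB' := iB ≫ g with hhB
  -- the generic fibre of `B` has dimension `< n0`
  have hii : ∀ w : W, hB' w = genericPoint T → ∀ dw : ℕ,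
      FlatMor.fibreDimAt hB' w = (dw : WithBot ℕ∞) → dw + 1 ≤ n0 := by
    intro w hw dw hdw
    obtain ⟨β, hβf, hβw, hβmax, hβdim⟩ := CompDimsH8.exists_fibre_max_eq hB' w
    have hβmax' : ∀ x'' : W, hB' x'' = hB' β → x'' ⤳ β → x'' = β :=
      fun x'' h1 h2 => hβmax x'' (h1.trans hβf) h2
    have e1 : FlatMor.fibreDimAt hB' β = ((tau g (iB β) : ℕ∞) : WithBot ℕ∞) := by
      rw [fibreDimAt_eq_coh_add_tau, OpenAtEqH8.fibCoh_eq_zero_of_isMax hB' β hβmax', zero_add,
        tau_closedImmersion_comp]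
    have hβB : iB β ∈ B := hrangeB ▸ Set.mem_range_self β
    have hβr : iB β ∈ Set.range i := by rw [hrange]; exact hβB.1
    obtain ⟨β₁, hβ₁⟩ := hβr
    have hhβ₁ : h β₁ = genericPoint T := by
      rw [hh, Scheme.Hom.comp_apply, hβ₁]
      have e : hB' β = g (iB β) := rfl
      rw [← e, hβf, hw]
    have e2 := hgenfib β₁ hhβ₁
    rw [fibreDimAt_eq_coh_add_tau, tau_closedImmersion_comp, hβ₁] at e2
    have hne : β₁ ≠ genericPoint V := by
      intro hcon
      rw [hcon, hgen] at hβ₁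
      have hξB : ξ ∈ B := hβ₁ ▸ hβB
      exact hξB.2 ha.le
    have hcoh : 1 ≤ FibCohH8.fibCoh h β₁ := by
      rw [Order.one_le_iff_ne_zero]
      intro h0
      unfold FibCohH8.fibCoh at h0
      rw [Order.coheight_eq_zero] at h0
      have hle : (⟨β₁, rfl⟩ : {v' : V // h v' = h β₁}) ≤
          ⟨genericPoint V, by rw [hhβ₁, GenFibDimH8.map_genericPoint h]⟩ :=
        genericPoint_specializes β₁
      have hge' := h0 hle
      apply hne
      exact ((show β₁ ⤳ genericPoint V from hge').antisymm (genericPoint_specializes β₁)).eq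
    rw [← hβdim, e1] at hdw
    have hτ : tau g (iB β) = (dw : ℕ∞) := by exact_mod_cast hdw
    have e3 : FibCohH8.fibCoh h β₁ + tau g (iB β) ≤ (n0 : ℕ∞) := by exact_mod_cast e2
    have e4 : (dw : ℕ∞) + 1 ≤ (n0 : ℕ∞) := by
      calc (dw : ℕ∞) + 1 = 1 + tau g (iB β) := by rw [hτ, add_comm]
        _ ≤ FibCohH8.fibCoh h β₁ + tau g (iB β) := add_le_add hcoh le_rfl
        _ ≤ n0 := e3
    exact_mod_cast e4
  have hζB : ζ ∈ B := ⟨by rw [← specializes_iff_mem_closure]; exact hξζ, by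
    show ¬ (FlatMor.fibreDimAt g ζ ≤ (a : WithBot ℕ∞))
    rw [← ha]; exact not_le.mpr hlt⟩
  obtain ⟨w₀, hw₀⟩ : ζ ∈ Set.range iB := hrangeB ▸ hζB
  have hw₀η : hB' w₀ = genericPoint T := by
    rw [hhB, Scheme.Hom.comp_apply, hw₀]; exact hgζ
  have hn0pos : 1 ≤ n0 := by
    obtain ⟨dw, hdw⟩ := EquidimIrrH8.exists_nat_fibreDimAt hB' w₀
    have := hii w₀ hw₀η dw hdw
    omega
  obtain ⟨m, rfl⟩ : ∃ m, n0 = m + 1 := ⟨n0 - 1, by omega⟩
  -- the open neighbourhood
  set W₁ : Set V := {v : V | FlatMor.fibreDimAt h v ≤ ((m + 1 : ℕ) : WithBot ℕ∞)} with hW₁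
  have hW₁o : IsOpen W₁ := ChevH8.isOpen_fibreDimAt_le h (m + 1)
  set OB : Set W := {w : W | FlatMor.fibreDimAt hB' w ≤ (m : WithBot ℕ∞)} with hOB
  have hOBo : IsOpen OB := ChevH8.isOpen_fibreDimAt_le hB' m
  set O : Set X := (i '' W₁ᶜ)ᶜ ∩ (iB '' OBᶜ)ᶜ with hO
  have hOo : IsOpen O :=
    ((i.isClosedEmbedding.isClosedMap _ hW₁o.isClosed_compl).isOpen_compl).inter
      ((iB.isClosedEmbedding.isClosedMap _ hOBo.isClosed_compl).isOpen_compl)
  have hζO : ζ ∈ O := by
    refine ⟨?_, ?_⟩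
    · rintro ⟨v, hv, hvζ⟩
      apply hv
      apply hgenfib
      rw [hh, Scheme.Hom.comp_apply, hvζ]; exact hgζ
    · rintro ⟨w, hw, hwζ⟩
      apply hw
      have hwη : hB' w = genericPoint T := by
        rw [hhB, Scheme.Hom.comp_apply, hwζ]; exact hgζ
      obtain ⟨dw, hdw⟩ := EquidimIrrH8.exists_nat_fibreDimAt hB' w
      have := hii w hwη dw hdw
      show FlatMor.fibreDimAt hB' w ≤ (m : WithBot ℕ∞)
      rw [hdw]
      exact_mod_cast (by omega : dw ≤ m)
  refine ⟨O, hOo, hζO, ?_⟩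
  rintro x ⟨hxO, hxζ⟩ hx
  have hζx : ζ ⤳ x := specializes_iff_mem_closure.mpr hxζ
  have hξx : ξ ⤳ x := hξζ.trans hζx
  have hxd : FlatMor.fibreDimAt g ζ ≤ FlatMor.fibreDimAt g x :=
    FibGenH8.fibreDimAt_le_of_specializes g hζx
  have hxB : x ∈ B := ⟨specializes_iff_mem_closure.mp hξx, by
    show ¬ (FlatMor.fibreDimAt g x ≤ (a : WithBot ℕ∞))
    rw [← ha]; exact not_le.mpr (hlt.trans_le hxd)⟩
  obtain ⟨v, hv⟩ : x ∈ Set.range i := by rw [hrange]; exact hxB.1
  obtain ⟨w, hw⟩ : x ∈ Set.range iB := by rw [hrangeB]; exact hxB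
  have hvW₁ : v ∈ W₁ := by
    by_contra hcon
    exact hxO.1 ⟨v, hcon, hv⟩
  have hwOB : w ∈ OB := by
    by_contra hcon
    exact hxO.2 ⟨w, hcon, hw⟩
  obtain ⟨z₁, hz₁f, hz₁v, hz₁max, hz₁dim⟩ := CompDimsH8.exists_fibre_max_eq h v
  have hz₁max' : ∀ x'' : V, h x'' = h z₁ → x'' ⤳ z₁ → x'' = z₁ :=
    fun x'' h1 h2 => hz₁max x'' (h1.trans hz₁f) h2
  have hz₁n : FlatMor.fibreDimAt h z₁ = ((m + 1 : ℕ) : WithBot ℕ∞) :=
    le_antisymm (hz₁dim ▸ hvW₁) (hge z₁)
  have hτ : tau g (i z₁) = ((m + 1 : ℕ) : ℕ∞) := by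
    rw [fibreDimAt_eq_coh_add_tau, OpenAtEqH8.fibCoh_eq_zero_of_isMax h z₁ hz₁max', zero_add,
      tau_closedImmersion_comp] at hz₁n
    exact_mod_cast hz₁n
  have hzx : i z₁ ⤳ x := by rw [← hv]; exact hz₁v.map i.continuous
  have hgz : g (i z₁) = g x := by
    have e : h z₁ = h v := hz₁f
    rw [hh, Scheme.Hom.comp_apply, Scheme.Hom.comp_apply, hv] at e
    exact e
  have hzB : i z₁ ∉ B := by
    intro hcon
    obtain ⟨w₂, hw₂⟩ : i z₁ ∈ Set.range iB := by rw [hrangeB]; exact hcon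
    have hsp : w₂ ⤳ w := by
      rw [← iB.isClosedEmbedding.isInducing.specializes_iff, hw₂, hw]; exact hzx
    have e1 := FibGenH8.fibreDimAt_le_of_specializes hB' hsp
    have e2 : FlatMor.fibreDimAt hB' w ≤ (m : WithBot ℕ∞) := hwOB
    have e3 := e1.trans e2
    rw [fibreDimAt_eq_coh_add_tau, tau_closedImmersion_comp, hw₂, hτ] at e3
    have e4 : FibCohH8.fibCoh hB' w₂ + ((m + 1 : ℕ) : ℕ∞) ≤ (m : ℕ∞) := by exact_mod_cast e3
    have e5 : ((m + 1 : ℕ) : ℕ∞) ≤ (m : ℕ∞) := le_trans le_add_self e4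
    have : m + 1 ≤ m := by exact_mod_cast e5
    omega
  have hzU₁ : i z₁ ∈ U₁ := by
    by_contra hcon
    exact hzB ⟨by rw [← hrange]; exact Set.mem_range_self z₁, hcon⟩
  have e6 := hx (i z₁) hzx hgz
  have e7 : FlatMor.fibreDimAt g (i z₁) ≤ (a : WithBot ℕ∞) := hzU₁
  have e8 := (hlt.trans_le hxd).trans_le (e6.trans e7)
  rw [ha] at e8
  exact lt_irrefl _ e8

/-- the criterion `FibEqD` is a fibrewise property with generic constancy -/
theorem isFibrewiseGC_fibEqD : IsFibrewiseGC.{u} (fun {X S} f x => FibEqD f x) where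
  bc f _ f' g' g hc x' := fibEqD_bc f f' g' g hc x'
  loc f _ j _ u := fibEqD_loc f j u
  genConst g _ _ _ _ _ ζ hζ := by
    by_cases h : FibEqD g ζ
    · obtain ⟨O, hO, hζO, hsub⟩ := genConst_pos g ζ hζ h
      exact ⟨O, hO, hζO, Or.inl (fun x hx => hsub hx.1)⟩
    · obtain ⟨O, hO, hζO, hsub⟩ := genConst_neg g ζ hζ h
      exact ⟨O, hO, hζO, Or.inr hsub⟩

/-- **S3451** -/
theorem main3451 {X S : Scheme.{u}} (f : X ⟶ S) [LocallyOfFinitePresentation f] :
    Topology.IsLocallyConstructible {x : X | ∃ e : ℕ,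
      ∀ Z ∈ irreducibleComponents (↥(f.fiber (f.base x)) : Type u), f.asFiber x ∈ Z →
        topologicalKrullDim (↥Z : Type u) = e} := by
  have h := isLocallyConstructible' isFibrewiseGC_fibEqD f
  have hset : {x : X | FibEqD f x} = {x : X | ∃ e : ℕ,
      ∀ Z ∈ irreducibleComponents (↥(f.fiber (f.base x)) : Type u), f.asFiber x ∈ Z →
        topologicalKrullDim (↥Z : Type u) = e} := by
    ext x
    exact (topEqD_iff f x).symm
  rw [← hset]
  exact h

end Groth.Agent.Lib.FibEqdH5
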