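import Mathlib
import Groth.Agent.Lib.FlatFibre_helper9
import Groth.Agent.Lib.LocalCrit9_helper9
import Groth.Agent.Lib.LocalCrit11_helper9

/-! Fibrewise exactness of a bounded complex of flat modules (EGA IV 11.3 / Stacks 00MI-type):
descending induction with the "injective mod `𝔪` ⇒ injective with flat cokernel" lemma, and its
converse. -/

universe u

namespace Groth.Agent.Lib.FibExactH8

open IsLocalRing

section lemmaB

variable {A B : Type u} [CommRing A] [IsLocalRing A] [CommRing B] [IsLocalRing B]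
  [IsNoetherianRing B] [Algebra A B] [IsLocalHom (algebraMap A B)]
  (F : ℕ → Type u) [∀ i, AddCommGroup (F i)] [∀ i, Module B (F i)] [∀ i, Module A (F i)]
  [∀ i, IsScalarTower A B (F i)] [∀ i, Module.Finite B (F i)] [∀ i, Module.Flat A (F i)]
  (d : ∀ i, F (i + 1) →ₗ[B] F i)

theorem step (i : ℕ) (hd : ∀ x, d i (d (i + 1) x) = 0)
    (hfib : ∀ x : F (i + 1), d i x ∈ maximalIdeal A • (⊤ : Submodule A (F i)) →
      ∃ y, x - d (i + 1) y ∈ maximalIdeal A • (⊤ : Submodule A (F (i + 1))))
    (hflat : Module.Flat A (F (i + 1) ⧸ LinearMap.range (d (i + 1)))) :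
    (∀ x, d i x = 0 → ∃ y, d (i + 1) y = x) ∧ Module.Flat A (F i ⧸ LinearMap.range (d i)) := by
  have hle : LinearMap.range (d (i + 1)) ≤ LinearMap.ker (d i) := by
    rintro _ ⟨y, rfl⟩; exact hd y
  let ũ : (F (i + 1) ⧸ LinearMap.range (d (i + 1))) →ₗ[B] F i :=
    (LinearMap.range (d (i + 1))).liftQ (d i) hle
  let v : (F (i + 1) ⧸ LinearMap.range (d (i + 1))) →ₗ[A] F i := ũ.restrictScalars A
  have hvmk : ∀ x', v (Submodule.Quotient.mk x') = d i x' := fun x' => rfl
  have hv : Function.Injective (v.lTensor (A ⧸ maximalIdeal A)) := by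
    rw [Groth.Agent.Lib.FlatFibre.lTensor_quot_injective_iff]
    intro x hx
    obtain ⟨x', rfl⟩ := Submodule.Quotient.mk_surjective _ x
    rw [hvmk] at hx
    obtain ⟨y, hy⟩ := hfib x' hx
    have h1 : (Submodule.Quotient.mk x' : F (i + 1) ⧸ LinearMap.range (d (i + 1))) =
        Submodule.Quotient.mk (x' - d (i + 1) y) := by
      rw [Submodule.Quotient.mk_sub]
      have : (Submodule.Quotient.mk (d (i + 1) y) : F (i + 1) ⧸ LinearMap.range (d (i + 1))) = 0 :=
        (Submodule.Quotient.mk_eq_zero _).mpr ⟨y, rfl⟩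
      rw [this, sub_zero]
    rw [h1]
    exact Submodule.smul_top_le_comap_smul_top _
      ((LinearMap.range (d (i + 1))).mkQ.restrictScalars A) hy
  haveI := hflat
  have hinj : Function.Injective v :=
    Groth.Agent.Lib.FlatFibre.injective_of_injective_mod B v hv
  have hfl : Module.Flat A (F i ⧸ LinearMap.range v) :=
    Groth.Agent.Lib.FlatFibre.flat_coker_of_injective_mod B v hv
  refine ⟨fun x hx => ?_, ?_⟩
  · have h0 : v (Submodule.Quotient.mk x) = v 0 := by rw [hvmk, hx, map_zero]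
    have h1 := hinj h0
    rw [Submodule.Quotient.mk_eq_zero] at h1
    exact h1
  · have hrange : LinearMap.range v = (LinearMap.range (d i)).restrictScalars A := by
      ext z
      constructor
      · rintro ⟨x, rfl⟩
        obtain ⟨x', rfl⟩ := Submodule.Quotient.mk_surjective _ x
        exact ⟨x', rfl⟩
      · rintro ⟨x', rfl⟩
        exact ⟨Submodule.Quotient.mk x', rfl⟩
    exact Module.Flat.of_linearEquiv
      ((Submodule.Quotient.restrictScalarsEquiv A (LinearMap.range (d i))).symm.trans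
        (Submodule.quotEquivOfEq _ _ hrange.symm))

theorem lemmaB (e : ℕ) (hd : ∀ i x, d i (d (i + 1) x) = 0) (he : d e = 0)
    (hfib : ∀ i, i < e → ∀ x : F (i + 1), d i x ∈ maximalIdeal A • (⊤ : Submodule A (F i)) →
      ∃ y, x - d (i + 1) y ∈ maximalIdeal A • (⊤ : Submodule A (F (i + 1)))) :
    (∀ i, i < e → ∀ x, d i x = 0 → ∃ y, d (i + 1) y = x) ∧
      Module.Flat A (F 0 ⧸ LinearMap.range (d 0)) := by
  have key : ∀ k, k ≤ e → Module.Flat A (F (e - k) ⧸ LinearMap.range (d (e - k))) ∧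
      ∀ i, e - k ≤ i → i < e → ∀ x, d i x = 0 → ∃ y, d (i + 1) y = x := by
    intro k
    induction k with
    | zero =>
      intro _
      refine ⟨?_, fun i hi hi' => absurd hi' (by omega)⟩
      rw [Nat.sub_zero]
      have hbot : LinearMap.range (d e) = ⊥ := by rw [he]; exact LinearMap.range_zero
      exact Module.Flat.of_linearEquiv
        ((Submodule.quotEquivOfEqBot _ hbot).restrictScalars A)
    | succ k ih =>
      intro hk
      obtain ⟨hfl, hex⟩ := ih (by omega)
      have h1 : e - k = (e - (k + 1)) + 1 := by omega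
      rw [h1] at hfl
      obtain ⟨hex', hfl'⟩ := step F d (e - (k + 1)) (hd _) (hfib _ (by omega)) hfl
      refine ⟨hfl', fun i hi hi' => ?_⟩
      by_cases hik : i = e - (k + 1)
      · subst hik; exact hex'
      · exact hex i (by omega) hi'
  obtain ⟨hfl, hex⟩ := key e le_rfl
  rw [Nat.sub_self] at hfl
  exact ⟨fun i hi => hex i (by omega) hi, hfl⟩

end lemmaB

section lemmaC

variable {R : Type u} [CommRing R] (I : Ideal R)
  (F : ℕ → Type u) [∀ i, AddCommGroup (F i)] [∀ i, Module R (F i)] [∀ i, Module.Flat R (F i)]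
  (d : ∀ i, F (i + 1) →ₗ[R] F i)

theorem stepC (i : ℕ) (hd : ∀ x, d i (d (i + 1) x) = 0)
    (hex : ∀ x, d i x = 0 → ∃ y, d (i + 1) y = x)
    (hflat : Module.Flat R (F i ⧸ LinearMap.range (d i))) :
    (∀ x : F (i + 1), d i x ∈ I • (⊤ : Submodule R (F i)) →
      ∃ y, x - d (i + 1) y ∈ I • (⊤ : Submodule R (F (i + 1)))) ∧
      Module.Flat R (F (i + 1) ⧸ LinearMap.range (d (i + 1))) := by
  have hle : LinearMap.range (d (i + 1)) ≤ LinearMap.ker (d i) := by
    rintro _ ⟨y, rfl⟩; exact hd y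
  let v : (F (i + 1) ⧸ LinearMap.range (d (i + 1))) →ₗ[R] F i :=
    (LinearMap.range (d (i + 1))).liftQ (d i) hle
  have hvmk : ∀ x', v (Submodule.Quotient.mk x') = d i x' := fun x' => rfl
  have hinj : Function.Injective v := by
    rw [injective_iff_map_eq_zero]
    intro x hx
    obtain ⟨x', rfl⟩ := Submodule.Quotient.mk_surjective _ x
    rw [hvmk] at hx
    obtain ⟨y, hy⟩ := hex x' hx
    exact (Submodule.Quotient.mk_eq_zero _).mpr ⟨y, hy⟩
  have hrange : LinearMap.range v = LinearMap.range (d i) := by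
    ext z
    constructor
    · rintro ⟨x, rfl⟩
      obtain ⟨x', rfl⟩ := Submodule.Quotient.mk_surjective _ x
      exact ⟨x', rfl⟩
    · rintro ⟨x', rfl⟩
      exact ⟨Submodule.Quotient.mk x', rfl⟩
  haveI : Module.Flat R (F i ⧸ LinearMap.range v) := by
    rw [hrange]; exact hflat
  refine ⟨fun x hx => ?_, ?_⟩
  · have h1 : Function.Injective (v.lTensor (R ⧸ I)) :=
      Groth.Agent.Lib.LocalCrit9.lTensor_injective_of_flat_coker v hinj (R ⧸ I)
    rw [Groth.Agent.Lib.FlatFibre.lTensor_quot_injective_iff] at h1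
    have h2 := h1 (Submodule.Quotient.mk x) (by rw [hvmk]; exact hx)
    have h3 : (I • (⊤ : Submodule R (F (i + 1) ⧸ LinearMap.range (d (i + 1))))) =
        Submodule.map (LinearMap.range (d (i + 1))).mkQ (I • (⊤ : Submodule R (F (i + 1)))) := by
      rw [Submodule.map_smul'', Submodule.map_top, Submodule.range_mkQ]
    rw [h3] at h2
    obtain ⟨z, hz, hzx⟩ := h2
    have h4 : x - z ∈ LinearMap.range (d (i + 1)) := by
      rw [← Submodule.Quotient.mk_eq_zero, Submodule.Quotient.mk_sub, sub_eq_zero]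
      exact hzx.symm
    obtain ⟨y, hy⟩ := h4
    refine ⟨y, ?_⟩
    rw [hy, sub_sub_cancel]
    exact hz
  · exact Groth.Agent.Lib.LocalCrit11.flat_of_injective_of_flat_coker v hinj

theorem lemmaC (e : ℕ) (hd : ∀ i x, d i (d (i + 1) x) = 0)
    (hex : ∀ i, i < e → ∀ x, d i x = 0 → ∃ y, d (i + 1) y = x)
    (hflat : Module.Flat R (F 0 ⧸ LinearMap.range (d 0))) :
    ∀ i, i < e → ∀ x : F (i + 1), d i x ∈ I • (⊤ : Submodule R (F i)) →
      ∃ y, x - d (i + 1) y ∈ I • (⊤ : Submodule R (F (i + 1))) := by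
  have key : ∀ j, j ≤ e → Module.Flat R (F j ⧸ LinearMap.range (d j)) := by
    intro j
    induction j with
    | zero => exact fun _ => hflat
    | succ j ih =>
      intro hj
      exact (stepC I F d j (hd j) (hex j (by omega)) (ih (by omega))).2
  intro i hi
  exact (stepC I F d i (hd i) (hex i hi) (key i (by omega))).1

end lemmaC

end Groth.Agent.Lib.FibExactH8
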