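import Mathlib

/-! Matrices modulo an ideal: kernel/range conditions over `B ⧸ J` in terms of vectors over `B`. -/

universe u

namespace Groth.Agent.Lib.FibExactH8

variable {B : Type u} [CommRing B] (J : Ideal B)

theorem mem_smul_top_pi_iff {n : ℕ} (v : Fin n → B) :
    v ∈ J • (⊤ : Submodule B (Fin n → B)) ↔ ∀ j, v j ∈ J := by
  constructor
  · intro h
    refine Submodule.smul_induction_on h ?_ ?_
    · intro r hr w _ j
      simpa using J.mul_mem_right (w j) hr
    · intro x y hx hy j; exact J.add_mem (hx j) (hy j)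
  · intro h
    rw [pi_eq_sum_univ v]
    exact Submodule.sum_mem _ fun i _ => Submodule.smul_mem_smul (h i) Submodule.mem_top

theorem comp_mk_eq_zero_iff {n : ℕ} (v : Fin n → B) :
    (Ideal.Quotient.mk J ∘ v = 0) ↔ v ∈ J • (⊤ : Submodule B (Fin n → B)) := by
  rw [mem_smul_top_pi_iff]
  constructor
  · intro h j
    have := congrFun h j
    simpa [Ideal.Quotient.eq_zero_iff_mem] using this
  · intro h
    funext j
    simpa [Ideal.Quotient.eq_zero_iff_mem] using h j

theorem exists_lift_vec {n : ℕ} (w : Fin n → B ⧸ J) : ∃ v : Fin n → B, Ideal.Quotient.mk J ∘ v = w := by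
  choose v hv using fun j => Ideal.Quotient.mk_surjective (w j)
  exact ⟨v, funext hv⟩

theorem map_mk_mulVec {a b : ℕ} (ψ : Matrix (Fin a) (Fin b) B) (v : Fin b → B) :
    (ψ.map (Ideal.Quotient.mk J)).mulVec (Ideal.Quotient.mk J ∘ v) =
      Ideal.Quotient.mk J ∘ (ψ.mulVec v) := by
  funext i
  exact (RingHom.map_mulVec (Ideal.Quotient.mk J) ψ v i).symm

theorem ker_eq_range_map_mk_iff {a b c : ℕ} (ψ1 : Matrix (Fin a) (Fin b) B)
    (ψ2 : Matrix (Fin b) (Fin c) B) (h : ψ1 * ψ2 = 0) :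
    LinearMap.ker (Matrix.mulVecLin (ψ1.map (Ideal.Quotient.mk J))) =
      LinearMap.range (Matrix.mulVecLin (ψ2.map (Ideal.Quotient.mk J))) ↔
    ∀ v : Fin b → B, ψ1.mulVec v ∈ J • (⊤ : Submodule B (Fin a → B)) →
      ∃ w : Fin c → B, v - ψ2.mulVec w ∈ J • (⊤ : Submodule B (Fin b → B)) := by
  constructor
  · intro heq v hv
    have h1 : Ideal.Quotient.mk J ∘ v ∈
        LinearMap.ker (Matrix.mulVecLin (ψ1.map (Ideal.Quotient.mk J))) := by
      rw [LinearMap.mem_ker, Matrix.mulVecLin_apply, map_mk_mulVec, comp_mk_eq_zero_iff]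
      exact hv
    rw [heq] at h1
    obtain ⟨wb, hwb⟩ := h1
    obtain ⟨w, rfl⟩ := exists_lift_vec J wb
    refine ⟨w, ?_⟩
    rw [Matrix.mulVecLin_apply, map_mk_mulVec] at hwb
    rw [← comp_mk_eq_zero_iff]
    funext j
    have := congrFun hwb j
    simp only [Function.comp_apply, Pi.sub_apply, map_sub, Pi.zero_apply] at this ⊢
    rw [this, sub_self]
  · intro hv
    apply le_antisymm
    · intro vb hvb
      obtain ⟨v, rfl⟩ := exists_lift_vec J vb
      rw [LinearMap.mem_ker, Matrix.mulVecLin_apply, map_mk_mulVec, comp_mk_eq_zero_iff] at hvb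
      obtain ⟨w, hw⟩ := hv v hvb
      refine ⟨Ideal.Quotient.mk J ∘ w, ?_⟩
      rw [Matrix.mulVecLin_apply, map_mk_mulVec]
      rw [← comp_mk_eq_zero_iff] at hw
      funext j
      have := congrFun hw j
      simp only [Function.comp_apply, Pi.sub_apply, map_sub, Pi.zero_apply] at this ⊢
      exact (sub_eq_zero.mp this).symm
    · rintro _ ⟨wb, rfl⟩
      rw [LinearMap.mem_ker, Matrix.mulVecLin_apply, Matrix.mulVecLin_apply, Matrix.mulVec_mulVec,
        ← Matrix.map_mul, h]
      simp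

end Groth.Agent.Lib.FibExactH8
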