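import Mathlib

/-! Localising matrices: exactness of the localised sequence in terms of the original one. -/

universe u

namespace Groth.Agent.Lib.FibExactH8

variable {S : Type u} [CommRing S] (T : Submonoid S) (B : Type u) [CommRing B] [Algebra S B]
  [IsLocalization T B]

/-- The localisation map on vectors. -/
noncomputable def ιn (n : ℕ) : (Fin n → S) →ₗ[S] (Fin n → B) :=
  LinearMap.pi fun i => Algebra.linearMap S B ∘ₗ LinearMap.proj i

theorem ιn_apply {n : ℕ} (v : Fin n → S) (j : Fin n) : ιn B n v j = algebraMap S B (v j) := rfl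

theorem ιn_eq_comp {n : ℕ} (v : Fin n → S) : ιn B n v = algebraMap S B ∘ v := rfl

instance isLocalizedModule_ιn (n : ℕ) : IsLocalizedModule T (ιn B n) :=
  IsLocalizedModule.pi T fun _ => Algebra.linearMap S B

theorem mulVec_ιn {a b : ℕ} (φ : Matrix (Fin a) (Fin b) S) (v : Fin b → S) :
    (φ.map (algebraMap S B)).mulVec (ιn B b v) = ιn B a (φ.mulVec v) := by
  funext i
  exact (RingHom.map_mulVec (algebraMap S B) φ v i).symm

theorem mulVec_smul' {a b : ℕ} (ψ : Matrix (Fin a) (Fin b) B) (s : S) (v : Fin b → B) :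
    ψ.mulVec (s • v) = s • ψ.mulVec v := Matrix.mulVec_smul ψ s v

theorem exact_iff {a b c : ℕ} (φ1 : Matrix (Fin a) (Fin b) S) (φ2 : Matrix (Fin b) (Fin c) S) :
    (∀ v : Fin b → B, (φ1.map (algebraMap S B)).mulVec v = 0 →
      ∃ w, (φ2.map (algebraMap S B)).mulVec w = v) ↔
    ∀ k : Fin b → S, φ1.mulVec k = 0 → ∃ s ∈ T, ∃ w : Fin c → S, φ2.mulVec w = s • k := by
  constructor
  · intro h k hk
    have h1 : (φ1.map (algebraMap S B)).mulVec (ιn B b k) = 0 := by
      rw [mulVec_ιn, hk, map_zero]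
    obtain ⟨w, hw⟩ := h _ h1
    obtain ⟨⟨w', s⟩, hws⟩ := IsLocalizedModule.surj T (ιn B c) w
    replace hws : (s : S) • w = ιn B c w' := hws
    have h2 : ιn B b ((s : S) • k - φ2.mulVec w') = 0 := by
      rw [map_sub, ← mulVec_ιn, ← hws, mulVec_smul', hw, map_smul, sub_self]
    obtain ⟨t, ht⟩ := (IsLocalizedModule.eq_zero_iff T (ιn B b)).mp h2
    replace ht : (t : S) • ((s : S) • k - φ2.mulVec w') = 0 := ht
    refine ⟨t * s, T.mul_mem t.2 s.2, (t : S) • w', ?_⟩
    rw [smul_sub, sub_eq_zero] at ht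
    rw [Matrix.mulVec_smul, ← ht, mul_smul]
  · intro h v hv
    obtain ⟨⟨v', s⟩, hvs⟩ := IsLocalizedModule.surj T (ιn B b) v
    replace hvs : (s : S) • v = ιn B b v' := hvs
    have h1 : ιn B a (φ1.mulVec v') = 0 := by
      rw [← mulVec_ιn, ← hvs, mulVec_smul', hv, smul_zero]
    obtain ⟨t, ht⟩ := (IsLocalizedModule.eq_zero_iff T (ιn B a)).mp h1
    replace ht : (t : S) • φ1.mulVec v' = 0 := ht
    have h2 : φ1.mulVec ((t : S) • v') = 0 := by
      rw [Matrix.mulVec_smul]; exact ht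
    obtain ⟨g, hg, w, hw⟩ := h _ h2
    have hu : IsUnit (algebraMap S B (g * t * s)) :=
      IsLocalization.map_units B ⟨g * t * s, T.mul_mem (T.mul_mem hg t.2) s.2⟩
    obtain ⟨u, hu⟩ := hu
    refine ⟨(↑u⁻¹ : B) • ιn B c w, ?_⟩
    rw [Matrix.mulVec_smul, mulVec_ιn, hw]
    have h3 : ιn B b (g • (t : S) • v') = (u : B) • v := by
      rw [map_smul, map_smul, ← hvs, hu]
      funext j
      simp only [Pi.smul_apply]
      rw [Algebra.smul_def, Algebra.smul_def, Algebra.smul_def, smul_eq_mul, map_mul, map_mul]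
      ring
    rw [h3, smul_smul]
    simp

theorem isOpen_exactLocus [IsNoetherianRing S] {a b c : ℕ} (φ1 : Matrix (Fin a) (Fin b) S)
    (φ2 : Matrix (Fin b) (Fin c) S) :
    IsOpen {q : PrimeSpectrum S | ∀ k : Fin b → S, φ1.mulVec k = 0 →
      ∃ s ∈ q.asIdeal.primeCompl, ∃ w : Fin c → S, φ2.mulVec w = s • k} := by
  classical
  rw [isOpen_iff_forall_mem_open]
  intro q hq
  have hfg : (LinearMap.ker φ1.mulVecLin).FG := IsNoetherian.noetherian _
  obtain ⟨s, hs⟩ := hfg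
  have h1 : ∀ k ∈ s, ∃ g : S, g ∉ q.asIdeal ∧ ∃ w : Fin c → S, φ2.mulVec w = g • k := by
    intro k hk
    have hk' : k ∈ LinearMap.ker φ1.mulVecLin := by
      rw [← hs]; exact Submodule.subset_span hk
    obtain ⟨g, hg, w, hw⟩ := hq k hk'
    exact ⟨g, hg, w, hw⟩
  choose! g hg w hw using h1
  have hG : (∏ k ∈ s, g k) ∉ q.asIdeal := by
    intro hmem
    obtain ⟨k, hk, hgk⟩ := (Ideal.IsPrime.prod_mem_iff (hp := q.isPrime)).mp hmem
    exact hg k hk hgk
  have hGK : ∀ k, φ1.mulVec k = 0 → ∃ w : Fin c → S, φ2.mulVec w = (∏ k ∈ s, g k) • k := by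
    intro k hk
    have hk' : k ∈ Submodule.span S (s : Set (Fin b → S)) := by
      rw [hs]; exact hk
    refine Submodule.span_induction ?_ ?_ ?_ ?_ hk'
    · intro x hx
      obtain ⟨c', hc'⟩ := Finset.dvd_prod_of_mem g hx
      refine ⟨c' • w x, ?_⟩
      rw [Matrix.mulVec_smul, hw x hx, hc', smul_smul, mul_comm]
    · exact ⟨0, by simp⟩
    · rintro x y _ _ ⟨wx, hwx⟩ ⟨wy, hwy⟩
      exact ⟨wx + wy, by rw [Matrix.mulVec_add, hwx, hwy, smul_add]⟩
    · rintro r x _ ⟨wx, hwx⟩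
      exact ⟨r • wx, by rw [Matrix.mulVec_smul, hwx, smul_comm]⟩
  refine ⟨PrimeSpectrum.basicOpen (∏ k ∈ s, g k), ?_, (PrimeSpectrum.basicOpen _).isOpen, hG⟩
  intro q' hq' k hk
  obtain ⟨w', hw'⟩ := hGK k hk
  exact ⟨_, hq', w', hw'⟩

/-- The induced map on cokernels. -/
noncomputable def cokerMap {a b : ℕ} (φ : Matrix (Fin a) (Fin b) S) :
    ((Fin a → S) ⧸ LinearMap.range φ.mulVecLin) →ₗ[S]
      ((Fin a → B) ⧸ LinearMap.range (φ.map (algebraMap S B)).mulVecLin) :=
  (LinearMap.range φ.mulVecLin).liftQ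
    (((LinearMap.range (φ.map (algebraMap S B)).mulVecLin).mkQ.restrictScalars S) ∘ₗ ιn B a)
    (by
      rintro _ ⟨v, rfl⟩
      rw [LinearMap.mem_ker, LinearMap.comp_apply, Matrix.mulVecLin_apply, ← mulVec_ιn]
      exact (Submodule.Quotient.mk_eq_zero _).mpr ⟨ιn B b v, rfl⟩)

theorem cokerMap_mk {a b : ℕ} (φ : Matrix (Fin a) (Fin b) S) (v : Fin a → S) :
    cokerMap B φ (Submodule.Quotient.mk v) = Submodule.Quotient.mk (ιn B a v) := rfl

instance isLocalizedModule_cokerMap {a b : ℕ} (φ : Matrix (Fin a) (Fin b) S) :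
    IsLocalizedModule T (cokerMap B φ) where
  map_units := by
    intro x
    obtain ⟨u, hu⟩ := IsLocalization.map_units B x
    rw [Module.End.isUnit_iff]
    have h1 : ⇑(algebraMap S (Module.End S
        ((Fin a → B) ⧸ LinearMap.range (φ.map (algebraMap S B)).mulVecLin)) x) =
        fun m => u • m := by
      funext m
      rw [Module.algebraMap_end_apply, Units.smul_def, hu, algebraMap_smul]
    rw [h1]
    exact MulAction.bijective u
  surj := by
    intro y
    obtain ⟨y', rfl⟩ := Submodule.Quotient.mk_surjective _ y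
    obtain ⟨⟨v, s⟩, hvs⟩ := IsLocalizedModule.surj T (ιn B a) y'
    refine ⟨⟨Submodule.Quotient.mk v, s⟩, ?_⟩
    change s • Submodule.Quotient.mk y' = cokerMap B φ (Submodule.Quotient.mk v)
    rw [cokerMap_mk, ← hvs]
    rfl
  exists_of_eq := by
    intro x₁ x₂ h
    obtain ⟨v1, rfl⟩ := Submodule.Quotient.mk_surjective _ x₁
    obtain ⟨v2, rfl⟩ := Submodule.Quotient.mk_surjective _ x₂
    rw [cokerMap_mk, cokerMap_mk, Submodule.Quotient.eq] at h
    obtain ⟨w, hw⟩ := h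
    rw [Matrix.mulVecLin_apply] at hw
    obtain ⟨⟨w', s⟩, hws⟩ := IsLocalizedModule.surj T (ιn B b) w
    replace hws : (s : S) • w = ιn B b w' := hws
    have h2 : ιn B a ((s : S) • (v1 - v2) - φ.mulVec w') = 0 := by
      rw [map_sub, ← mulVec_ιn, ← hws, mulVec_smul', hw, map_smul, map_sub, sub_self]
    obtain ⟨t, ht⟩ := (IsLocalizedModule.eq_zero_iff T (ιn B a)).mp h2
    replace ht : (t : S) • ((s : S) • (v1 - v2) - φ.mulVec w') = 0 := ht
    refine ⟨t * s, ?_⟩
    change ((t * s : T) : S) • (Submodule.Quotient.mk v1 : (Fin a → S) ⧸ LinearMap.range φ.mulVecLin)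
      = ((t * s : T) : S) • Submodule.Quotient.mk v2
    rw [← Submodule.Quotient.mk_smul, ← Submodule.Quotient.mk_smul, Submodule.Quotient.eq,
      ← smul_sub]
    refine ⟨(t : S) • w', ?_⟩
    rw [smul_sub, sub_eq_zero] at ht
    rw [Matrix.mulVecLin_apply, Matrix.mulVec_smul, ← ht, Submonoid.coe_mul, mul_smul]

end Groth.Agent.Lib.FibExactH8
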