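import Mathlib
import Groth.Agent.Lib.FibExact1_helper8
import Groth.Agent.Lib.FibExact2_helper8
import Groth.Agent.Lib.FibExact3_helper8

/-! Per-prime statement: fibrewise exactness ⇔ exactness of the localised complex + flat coker. -/

universe u

namespace Groth.Agent.Lib.FibExactH8

open IsLocalRing

variable {R S : Type u} [CommRing R] [CommRing S] [Algebra R S] [IsNoetherianRing S]
  [Module.Flat R S]

variable (q : Ideal S) [q.IsPrime]

local notation "Bq" => Localization.AtPrime q

theorem fibEx_iff (n : ℕ → ℕ)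
    (ψ : (i : ℕ) → Matrix (Fin (n i)) (Fin (n (i + 1))) (Localization.AtPrime q)) (e : ℕ)
    (hψ : ∀ i, ψ i * ψ (i + 1) = 0) (hψe : ψ e = 0) :
    (∀ i, i < e → ∀ v : Fin (n (i + 1)) → Localization.AtPrime q,
      (ψ i).mulVec v ∈ ((q.comap (algebraMap R S)).map (algebraMap R (Localization.AtPrime q))) •
        (⊤ : Submodule (Localization.AtPrime q) (Fin (n i) → Localization.AtPrime q)) →
      ∃ w, v - (ψ (i + 1)).mulVec w ∈
        ((q.comap (algebraMap R S)).map (algebraMap R (Localization.AtPrime q))) •
        (⊤ : Submodule (Localization.AtPrime q) (Fin (n (i + 1)) → Localization.AtPrime q))) ↔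
    ((∀ i, i < e → ∀ v : Fin (n (i + 1)) → Localization.AtPrime q, (ψ i).mulVec v = 0 →
      ∃ w, (ψ (i + 1)).mulVec w = v) ∧
      Module.Flat R ((Fin (n 0) → Localization.AtPrime q) ⧸
        LinearMap.range (ψ 0).mulVecLin)) := by
  set p : Ideal R := q.comap (algebraMap R S) with hp
  haveI : p.IsPrime := Ideal.comap_isPrime _ _
  haveI : q.LiesOver p := ⟨rfl⟩
  haveI : IsNoetherianRing Bq := IsLocalization.isNoetherianRing q.primeCompl Bq inferInstance
  haveI : Module.Flat S Bq := IsLocalization.flat Bq q.primeCompl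
  haveI : Module.Flat R Bq := Module.Flat.trans R S Bq
  have hd : ∀ i (x : Fin (n (i + 1 + 1)) → Bq), (ψ i).mulVec ((ψ (i + 1)).mulVec x) = 0 := by
    intro i x
    rw [Matrix.mulVec_mulVec, hψ i, Matrix.zero_mulVec]
  constructor
  · intro hfib
    letI := Localization.AtPrime.algebraOfLiesOver p q
    haveI : IsLocalHom (algebraMap (Localization.AtPrime p) Bq) :=
      Localization.isLocalHom_localRingHom _ _ _ _
    have hI : (maximalIdeal (Localization.AtPrime p)).map
        (algebraMap (Localization.AtPrime p) Bq) = p.map (algebraMap R Bq) := by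
      rw [← Localization.AtPrime.map_eq_maximalIdeal, Ideal.map_map,
        ← IsScalarTower.algebraMap_eq]
    haveI : ∀ i, Module.Flat (Localization.AtPrime p) (Fin (n i) → Bq) := fun i =>
      Module.Flat.trans (Localization.AtPrime p) Bq (Fin (n i) → Bq)
    have hB := lemmaB (A := Localization.AtPrime p) (B := Bq) (fun i => Fin (n i) → Bq)
      (fun i => (ψ i).mulVecLin) e (fun i x => hd i x)
      (by rw [hψe]; exact Matrix.mulVecLin_zero) (by
        intro i hi x hx
        have hx' := Groth.Agent.Lib.FlatFibre.smul_top_le_map_smul_top (S := Bq) _ _ hx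
        rw [hI] at hx'
        obtain ⟨w, hw⟩ := hfib i hi x hx'
        refine ⟨w, ?_⟩
        rw [← hI] at hw
        exact Groth.Agent.Lib.FlatFibre.map_smul_top_le_smul_top _ _ hw)
    refine ⟨hB.1, ?_⟩
    haveI := hB.2
    exact Module.Flat.trans R (Localization.AtPrime p) _
  · rintro ⟨hex, hflat⟩
    haveI : ∀ i, Module.Flat R (Fin (n i) → Bq) := fun i =>
      Module.Flat.trans R Bq (Fin (n i) → Bq)
    have hfl : Module.Flat R ((Fin (n 0) → Bq) ⧸
        LinearMap.range ((ψ 0).mulVecLin.restrictScalars R)) := by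
      have hr : LinearMap.range ((ψ 0).mulVecLin.restrictScalars R) =
          (LinearMap.range (ψ 0).mulVecLin).restrictScalars R := rfl
      rw [hr]
      exact Module.Flat.of_linearEquiv
        (Submodule.Quotient.restrictScalarsEquiv R (LinearMap.range (ψ 0).mulVecLin))
    have hC := lemmaC (R := R) p (fun i => Fin (n i) → Bq)
      (fun i => (ψ i).mulVecLin.restrictScalars R) e (fun i x => hd i x) hex hfl
    intro i hi v hv
    have hv' := Groth.Agent.Lib.FlatFibre.map_smul_top_le_smul_top _ _ hv
    obtain ⟨w, hw⟩ := hC i hi v hv'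
    exact ⟨w, Groth.Agent.Lib.FlatFibre.smul_top_le_map_smul_top (S := Bq) _ _ hw⟩

end Groth.Agent.Lib.FibExactH8
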