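import Mathlib
import Groth.Prelude.Def_EGA4b
import Groth.Agent.Lib.FibExact4_helper8
import Groth.Agent.Lib.FlatLocusNoeth_helper6

/-! Openness of the fibrewise-exactness locus of a finite free complex (EGA IV 12.3-type). -/

universe u

namespace Groth.Agent.Lib.FibExactH8

section claim1

variable {S : Type u} [CommRing S] {C : Type u} [CommRing C] (α : S →+* C)
  (e : ℕ) (n : ℕ → ℕ) (φ : (i : ℕ) → Matrix (Fin (n i)) (Fin (n (i + 1))) S)

/-- truncated family of matrices -/
def trunc : (i : ℕ) → Matrix (Fin (n i)) (Fin (n (i + 1))) S :=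
  fun i => if i < e then φ i else 0

theorem trunc_of_lt {i : ℕ} (h : i < e) : trunc e n φ i = φ i := if_pos h

theorem trunc_of_ge {i : ℕ} (h : e ≤ i) : trunc e n φ i = 0 := if_neg (by omega)

theorem trunc_mul (hφ : ∀ i, i + 2 ≤ e → φ i * φ (i + 1) = 0) (i : ℕ) :
    trunc e n φ i * trunc e n φ (i + 1) = 0 := by
  by_cases h : i + 2 ≤ e
  · rw [trunc_of_lt e n φ (by omega), trunc_of_lt e n φ (by omega : i + 1 < e)]
    exact hφ i h
  · rw [trunc_of_ge e n φ (by omega : e ≤ i + 1), Matrix.mul_zero]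

theorem claim1 :
    ((∀ i, i + 2 ≤ e → LinearMap.ker (Matrix.mulVecLin ((φ i).map α)) =
        LinearMap.range (Matrix.mulVecLin ((φ (i + 1)).map α))) ∧
      (1 ≤ e → Function.Injective (Matrix.mulVecLin ((φ (e - 1)).map α)))) ↔
    ∀ i, i < e → LinearMap.ker (Matrix.mulVecLin ((trunc e n φ i).map α)) =
        LinearMap.range (Matrix.mulVecLin ((trunc e n φ (i + 1)).map α)) := by
  have hz : ∀ i, e ≤ i + 1 →
      LinearMap.range (Matrix.mulVecLin ((trunc e n φ (i + 1)).map α)) = ⊥ := by
    intro i hi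
    rw [trunc_of_ge e n φ hi, Matrix.map_zero _ (map_zero α), Matrix.mulVecLin_zero,
      LinearMap.range_zero]
  constructor
  · rintro ⟨h1, h2⟩ i hi
    by_cases hi2 : i + 2 ≤ e
    · rw [trunc_of_lt e n φ hi, trunc_of_lt e n φ (by omega : i + 1 < e)]
      exact h1 i hi2
    · have hie : i = e - 1 := by omega
      rw [hz i (by omega), trunc_of_lt e n φ hi, LinearMap.ker_eq_bot]
      subst hie
      exact h2 (by omega)
  · intro h
    refine ⟨fun i hi2 => ?_, fun he => ?_⟩
    · have := h i (by omega)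
      rwa [trunc_of_lt e n φ (by omega : i < e), trunc_of_lt e n φ (by omega : i + 1 < e)] at this
    · have := h (e - 1) (by omega)
      rw [hz (e - 1) (by omega), trunc_of_lt e n φ (by omega : e - 1 < e),
        LinearMap.ker_eq_bot] at this
      exact this

end claim1

section main

variable (R S : Type u) [CommRing R] [IsNoetherianRing R] [CommRing S] [Algebra R S]
  [Algebra.FiniteType R S] [Module.Flat R S]

theorem mem_iff (e : ℕ) (n : ℕ → ℕ) (φ : (i : ℕ) → Matrix (Fin (n i)) (Fin (n (i + 1))) S)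
    (hφ : ∀ i, φ i * φ (i + 1) = 0) (hφe : φ e = 0) (q : PrimeSpectrum S) :
    (∀ i, i < e → LinearMap.ker (Matrix.mulVecLin
        ((φ i).map (algebraMap S (EGA4.FibLocRing R S q.asIdeal)))) =
      LinearMap.range (Matrix.mulVecLin
        ((φ (i + 1)).map (algebraMap S (EGA4.FibLocRing R S q.asIdeal))))) ↔
    ((∀ i, i < e → ∀ k : Fin (n (i + 1)) → S, (φ i).mulVec k = 0 →
        ∃ s ∈ q.asIdeal.primeCompl, ∃ w : Fin (n (i + 1 + 1)) → S, (φ (i + 1)).mulVec w = s • k) ∧
      Module.Flat R (LocalizedModule q.asIdeal.primeCompl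
        ((Fin (n 0) → S) ⧸ LinearMap.range (φ 0).mulVecLin))) := by
  haveI : IsNoetherianRing S := Algebra.FiniteType.isNoetherianRing R S
  have hmap : ∀ i, (φ i).map (algebraMap S (EGA4.FibLocRing R S q.asIdeal)) =
      ((φ i).map (algebraMap S (Localization.AtPrime q.asIdeal))).map
        (Ideal.Quotient.mk ((q.asIdeal.comap (algebraMap R S)).map
          (algebraMap R (Localization.AtPrime q.asIdeal)))) := by
    intro i
    rw [Matrix.map_map]
    rfl
  have hψ : ∀ i, (φ i).map (algebraMap S (Localization.AtPrime q.asIdeal)) *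
      (φ (i + 1)).map (algebraMap S (Localization.AtPrime q.asIdeal)) = 0 := by
    intro i
    rw [← Matrix.map_mul, hφ i, Matrix.map_zero _ (map_zero _)]
  have h1 : (∀ i, i < e → LinearMap.ker (Matrix.mulVecLin
        ((φ i).map (algebraMap S (EGA4.FibLocRing R S q.asIdeal)))) =
      LinearMap.range (Matrix.mulVecLin
        ((φ (i + 1)).map (algebraMap S (EGA4.FibLocRing R S q.asIdeal))))) ↔
      (∀ i, i < e → ∀ v : Fin (n (i + 1)) → Localization.AtPrime q.asIdeal,
        ((φ i).map (algebraMap S (Localization.AtPrime q.asIdeal))).mulVec v ∈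
          ((q.asIdeal.comap (algebraMap R S)).map
            (algebraMap R (Localization.AtPrime q.asIdeal))) •
          (⊤ : Submodule (Localization.AtPrime q.asIdeal)
            (Fin (n i) → Localization.AtPrime q.asIdeal)) →
        ∃ w, v - ((φ (i + 1)).map (algebraMap S (Localization.AtPrime q.asIdeal))).mulVec w ∈
          ((q.asIdeal.comap (algebraMap R S)).map
            (algebraMap R (Localization.AtPrime q.asIdeal))) •
          (⊤ : Submodule (Localization.AtPrime q.asIdeal)
            (Fin (n (i + 1)) → Localization.AtPrime q.asIdeal))) := by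
    refine forall_congr' fun i => imp_congr_right fun _ => ?_
    rw [hmap i, hmap (i + 1)]
    exact ker_eq_range_map_mk_iff _ _ _ (hψ i)
  rw [h1, fibEx_iff (R := R) q.asIdeal n
    (fun i => (φ i).map (algebraMap S (Localization.AtPrime q.asIdeal))) e hψ
    (by simp only [hφe]; exact Matrix.map_zero _ (map_zero _))]
  refine and_congr (forall_congr' fun i => imp_congr_right fun _ => ?_) ?_
  · exact exact_iff q.asIdeal.primeCompl (Localization.AtPrime q.asIdeal) (φ i) (φ (i + 1))
  · have eqv := (IsLocalizedModule.iso q.asIdeal.primeCompl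
      (cokerMap (Localization.AtPrime q.asIdeal) (φ 0))).restrictScalars R
    exact ⟨fun h => Module.Flat.of_linearEquiv eqv, fun h => Module.Flat.of_linearEquiv eqv.symm⟩

theorem main9184 (e : ℕ) (n : ℕ → ℕ) (φ : (i : ℕ) → Matrix (Fin (n i)) (Fin (n (i + 1))) S)
    (hφ : ∀ i, i + 2 ≤ e → φ i * φ (i + 1) = 0) :
    IsOpen {q : PrimeSpectrum S |
      (∀ i, i + 2 ≤ e →
        LinearMap.ker (Matrix.mulVecLin ((φ i).map (algebraMap S (EGA4.FibLocRing R S q.asIdeal)))) =
          LinearMap.range (Matrix.mulVecLin ((φ (i + 1)).map (algebraMap S (EGA4.FibLocRing R S q.asIdeal))))) ∧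
      (1 ≤ e → Function.Injective
        (Matrix.mulVecLin ((φ (e - 1)).map (algebraMap S (EGA4.FibLocRing R S q.asIdeal)))))} := by
  haveI : IsNoetherianRing S := Algebra.FiniteType.isNoetherianRing R S
  have hset : {q : PrimeSpectrum S |
      (∀ i, i + 2 ≤ e →
        LinearMap.ker (Matrix.mulVecLin ((φ i).map (algebraMap S (EGA4.FibLocRing R S q.asIdeal)))) =
          LinearMap.range (Matrix.mulVecLin ((φ (i + 1)).map (algebraMap S (EGA4.FibLocRing R S q.asIdeal))))) ∧
      (1 ≤ e → Function.Injective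
        (Matrix.mulVecLin ((φ (e - 1)).map (algebraMap S (EGA4.FibLocRing R S q.asIdeal)))))} =
      (⋂ i ∈ Finset.range e, {q : PrimeSpectrum S | ∀ k : Fin (n (i + 1)) → S,
        (trunc e n φ i).mulVec k = 0 → ∃ s ∈ q.asIdeal.primeCompl,
          ∃ w : Fin (n (i + 1 + 1)) → S, (trunc e n φ (i + 1)).mulVec w = s • k}) ∩
      {q : PrimeSpectrum S | Module.Flat R (LocalizedModule q.asIdeal.primeCompl
        ((Fin (n 0) → S) ⧸ LinearMap.range (trunc e n φ 0).mulVecLin))} := by
    ext q
    simp only [Set.mem_ofPred_eq, Set.mem_inter_iff, Set.mem_iInter, Finset.mem_range]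
    rw [claim1 (algebraMap S (EGA4.FibLocRing R S q.asIdeal)) e n φ,
      mem_iff R S e n (trunc e n φ) (trunc_mul e n φ hφ) (trunc_of_ge e n φ le_rfl) q]
  rw [hset]
  refine IsOpen.inter (isOpen_biInter_finset fun i _ => ?_) ?_
  · exact isOpen_exactLocus (trunc e n φ i) (trunc e n φ (i + 1))
  · exact Groth.Agent.Lib.FlatLocusNoethH6.isOpen_flatLocus
      ((Fin (n 0) → S) ⧸ LinearMap.range (trunc e n φ 0).mulVecLin)

end main

end Groth.Agent.Lib.FibExactH8
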