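import Mathlib
import Groth.Prelude.Def_FibCat2
import Groth.Prelude.Def_W4stkcategoriessitesFib

/-!
# Factorization of a 1-morphism of fibred categories

`F : 𝒳 ⟶ 𝒴` over `C` factors as `𝒳 --u--> 𝒳' --v--> 𝒴` with `u` fully faithful, having a left adjoint
`w`, and `v` a fibred category.  `𝒳'` has objects `(x, y, f : y ⟶ F x)` with `f` vertical.
-/

namespace Groth.Agent.FibFactor

open CategoryTheory CategoryTheory.Functor

universe v u v₂ u₂ v₃ u₃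

section HomLift

variable {𝒮 : Type*} {𝒳 : Type*} [Category 𝒮] [Category 𝒳] (p : 𝒳 ⥤ 𝒮)

lemma lift_of_comp_vertical {a b c : 𝒳} (φ : a ⟶ b) (ψ : b ⟶ c) {R S T : 𝒮} (h : R ⟶ S)
    [p.IsHomLift (𝟙 T) ψ] [p.IsHomLift h (φ ≫ ψ)] : p.IsHomLift h φ := by
  have hb := IsHomLift.domain_eq p (𝟙 T) ψ
  have hc := IsHomLift.codomain_eq p (𝟙 T) ψ
  have hS := IsHomLift.codomain_eq p h (φ ≫ ψ)
  obtain rfl : T = S := hc.symm.trans hS
  apply IsHomLift.of_fac' p h φ (IsHomLift.domain_eq p h (φ ≫ ψ)) hb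
  have e1 := IsHomLift.fac' p h (φ ≫ ψ)
  have e2 := IsHomLift.fac' p (𝟙 T) ψ
  rw [p.map_comp, e2] at e1
  have := congrArg (· ≫ eqToHom hc ≫ eqToHom hb.symm) e1
  simpa using this

lemma lift_of_vertical_comp {a b c : 𝒳} (φ : a ⟶ b) (ψ : b ⟶ c) {R S T : 𝒮} (h : R ⟶ S)
    [p.IsHomLift (𝟙 T) φ] [p.IsHomLift h (φ ≫ ψ)] : p.IsHomLift h ψ := by
  have ha := IsHomLift.domain_eq p (𝟙 T) φ
  have hb := IsHomLift.codomain_eq p (𝟙 T) φ
  have hR := IsHomLift.domain_eq p h (φ ≫ ψ)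
  obtain rfl : T = R := ha.symm.trans hR
  apply IsHomLift.of_fac' p h ψ hb (IsHomLift.codomain_eq p h (φ ≫ ψ))
  have e1 := IsHomLift.fac' p h (φ ≫ ψ)
  have e2 := IsHomLift.fac' p (𝟙 T) φ
  rw [p.map_comp, e2] at e1
  have := congrArg (eqToHom hb ≫ eqToHom ha.symm ≫ ·) e1
  simpa using this

end HomLift

variable {C : Type u} [Category.{v} C]
  {𝒳 : BasedCategory.{v₂, u₂} C} {𝒴 : BasedCategory.{v₃, u₃} C} (F : 𝒳 ⥤ᵇ 𝒴)

/-- Objects of the factorization category: `(x, y, f : y ⟶ F x)` with `f` vertical. -/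
structure Obj where
  x : 𝒳.obj
  y : 𝒴.obj
  f : y ⟶ F.obj x
  hf : 𝒴.p.IsHomLift (𝟙 (𝒳.p.obj x)) f

attribute [instance] Obj.hf

variable {F}

/-- Morphisms of the factorization category. -/
@[ext]
structure Hom (A B : Obj F) where
  a : A.x ⟶ B.x
  b : A.y ⟶ B.y
  w : A.f ≫ F.map a = b ≫ B.f

attribute [reassoc] Hom.w

instance : Category (Obj F) where
  Hom := Hom
  id A := ⟨𝟙 _, 𝟙 _, by simp⟩
  comp m n := ⟨m.a ≫ n.a, m.b ≫ n.b, by
    rw [Functor.map_comp, m.w_assoc, n.w, Category.assoc]⟩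

@[ext]
lemma hom_ext {A B : Obj F} {m n : A ⟶ B} (ha : m.a = n.a) (hb : m.b = n.b) : m = n :=
  Hom.ext ha hb

@[simp] lemma id_a (A : Obj F) : Hom.a (𝟙 A) = 𝟙 A.x := rfl
@[simp] lemma id_b (A : Obj F) : Hom.b (𝟙 A) = 𝟙 A.y := rfl
@[simp, reassoc] lemma comp_a {A B D : Obj F} (m : A ⟶ B) (n : B ⟶ D) : (m ≫ n).a = m.a ≫ n.a := rfl
@[simp, reassoc] lemma comp_b {A B D : Obj F} (m : A ⟶ B) (n : B ⟶ D) : (m ≫ n).b = m.b ≫ n.b := rfl

variable (F)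

/-- The projection to `𝒳`. -/
@[simps]
def projX : Obj F ⥤ 𝒳.obj where
  obj A := A.x
  map m := m.a

/-- The projection to `𝒴`. -/
@[simps]
def projY : Obj F ⥤ 𝒴.obj where
  obj A := A.y
  map m := m.b

/-- The structure functor to the base. -/
abbrev P : Obj F ⥤ C := projX F ⋙ 𝒳.p

variable {F}

lemma liftX_iff {A B : Obj F} (m : A ⟶ B) {R S : C} (h : R ⟶ S) :
    (P F).IsHomLift h m ↔ 𝒳.p.IsHomLift h m.a := by
  constructor
  · intro _
    exact IsHomLift.of_fac 𝒳.p h m.a (IsHomLift.domain_eq (P F) h m) (IsHomLift.codomain_eq (P F) h m)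
      (IsHomLift.fac (P F) h m)
  · intro hm
    have h1 : 𝒳.p.obj A.x = R := IsHomLift.domain_eq 𝒳.p h m.a
    have h2 : 𝒳.p.obj B.x = S := IsHomLift.codomain_eq 𝒳.p h m.a
    have h3 : h = eqToHom h1.symm ≫ 𝒳.p.map m.a ≫ eqToHom h2 := IsHomLift.fac 𝒳.p h m.a
    exact IsHomLift.of_fac (P F) h m h1 h2 h3

lemma liftY_of_liftX {A B : Obj F} (m : A ⟶ B) {R S : C} (h : R ⟶ S) [𝒳.p.IsHomLift h m.a] :
    𝒴.p.IsHomLift h m.b := by
  have : 𝒴.p.IsHomLift h (m.b ≫ B.f) := by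
    rw [← m.w]
    exact IsHomLift.comp_lift_id_left' 𝒴.p (𝒳.p.obj A.x) A.f h (F.map m.a)
  exact lift_of_comp_vertical (T := 𝒳.p.obj B.x) 𝒴.p m.b B.f h

lemma liftX_of_liftY {A B : Obj F} (m : A ⟶ B) {R S : C} (h : R ⟶ S) [𝒴.p.IsHomLift h m.b] :
    𝒳.p.IsHomLift h m.a := by
  have : 𝒴.p.IsHomLift h (A.f ≫ F.map m.a) := by
    rw [m.w]
    exact IsHomLift.comp_lift_id_right' 𝒴.p h m.b (𝒳.p.obj B.x) B.f
  have : 𝒴.p.IsHomLift h (F.map m.a) := lift_of_vertical_comp (T := 𝒳.p.obj A.x) 𝒴.p A.f (F.map m.a) h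
  exact BasedFunctor.isHomLift_map F h m.a


/-- A morphism of the factorization category whose two components are strongly cartesian
(and whose `𝒳`-component has strongly cartesian image under `F`) is strongly cartesian. -/
lemma isStronglyCartesian_of_components {A B : Obj F} (m : A ⟶ B) {R S : C} (h : R ⟶ S)
    [𝒳.p.IsStronglyCartesian h m.a] [𝒴.p.IsStronglyCartesian h m.b]
    [𝒴.p.IsStronglyCartesian h (F.map m.a)] : (P F).IsStronglyCartesian h m := by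
  have hm : (P F).IsHomLift h m := (liftX_iff m h).2 inferInstance
  refine ⟨?_⟩
  intro A' g m' hm'
  have hRA : 𝒳.p.obj A.x = R := IsHomLift.domain_eq 𝒳.p h m.a
  have ha' : 𝒳.p.IsHomLift (g ≫ h) m'.a := (liftX_iff m' (g ≫ h)).1 hm'
  have hb' : 𝒴.p.IsHomLift (g ≫ h) m'.b := liftY_of_liftX m' (g ≫ h)
  let a' : A'.x ⟶ A.x := IsStronglyCartesian.map 𝒳.p h m.a (g := g) rfl m'.a
  let b' : A'.y ⟶ A.y := IsStronglyCartesian.map 𝒴.p h m.b (g := g) rfl m'.b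
  have ha'g : 𝒳.p.IsHomLift g a' := IsStronglyCartesian.map_isHomLift 𝒳.p h m.a rfl m'.a
  have hb'g : 𝒴.p.IsHomLift g b' := IsStronglyCartesian.map_isHomLift 𝒴.p h m.b rfl m'.b
  have fa : a' ≫ m.a = m'.a := IsStronglyCartesian.fac 𝒳.p h m.a rfl m'.a
  have fb : b' ≫ m.b = m'.b := IsStronglyCartesian.fac 𝒴.p h m.b rfl m'.b
  have hw : A'.f ≫ F.map a' = b' ≫ A.f := by
    have h1 : 𝒴.p.IsHomLift g (A'.f ≫ F.map a') :=
      IsHomLift.comp_lift_id_left' 𝒴.p (𝒳.p.obj A'.x) A'.f g (F.map a')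
    have h2 : 𝒴.p.IsHomLift g (b' ≫ A.f) :=
      IsHomLift.comp_lift_id_right' 𝒴.p g b' (𝒳.p.obj A.x) A.f
    apply IsStronglyCartesian.ext 𝒴.p h (F.map m.a) g
    rw [Category.assoc, ← F.map_comp, fa, m'.w, Category.assoc, m.w, ← Category.assoc, fb]
  refine ⟨⟨a', b', hw⟩, ⟨(liftX_iff _ g).2 ha'g, hom_ext fa fb⟩, ?_⟩
  rintro n ⟨hn, hnm⟩
  have hna : 𝒳.p.IsHomLift g n.a := (liftX_iff n g).1 hn
  have hnb : 𝒴.p.IsHomLift g n.b := liftY_of_liftX n g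
  apply hom_ext
  · exact IsStronglyCartesian.map_uniq 𝒳.p h m.a rfl m'.a n.a (by rw [← comp_a, hnm])
  · exact IsStronglyCartesian.map_uniq 𝒴.p h m.b rfl m'.b n.b (by rw [← comp_b, hnm])


lemma isHomLift_id_of_eq {𝒮 : Type*} {𝒵 : Type*} [Category 𝒮] [Category 𝒵] (p : 𝒵 ⥤ 𝒮)
    {a b : 𝒵} (φ : a ⟶ b) {R R' : 𝒮} (e : R = R') [p.IsHomLift (𝟙 R) φ] :
    p.IsHomLift (𝟙 R') φ := by
  subst e; infer_instance

section Fibered

variable [𝒳.p.IsFibered] [𝒴.p.IsFibered] (hF : FibCat.PreservesStronglyCartesian F)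

include hF

/-- Existence of lifts with strongly cartesian components. -/
lemma exists_lift (A : Obj F) {R : C} (h : R ⟶ 𝒳.p.obj A.x) :
    ∃ (A' : Obj F) (m : A' ⟶ A),
      𝒳.p.IsStronglyCartesian h m.a ∧ 𝒴.p.IsStronglyCartesian h m.b := by
  obtain ⟨x', φx, hφx⟩ := IsPreFibered.exists_isCartesian' (p := 𝒳.p) h
  have hAy : 𝒴.p.obj A.y = 𝒳.p.obj A.x := IsHomLift.domain_eq 𝒴.p (𝟙 _) A.f
  obtain ⟨y', φy, hφy⟩ := IsPreFibered.exists_isCartesian 𝒴.p hAy h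
  have sx : 𝒳.p.IsStronglyCartesian h φx := inferInstance
  have sy : 𝒴.p.IsStronglyCartesian h φy := inferInstance
  have sF : 𝒴.p.IsStronglyCartesian h (F.map φx) := hF h φx sx
  have hl : 𝒴.p.IsHomLift h (φy ≫ A.f) :=
    IsHomLift.comp_lift_id_right' 𝒴.p h φy (𝒳.p.obj A.x) A.f
  have hh : h = 𝟙 R ≫ h := by simp
  let f' : y' ⟶ F.obj x' := IsStronglyCartesian.map 𝒴.p h (F.map φx) hh (φy ≫ A.f)
  have hf' : 𝒴.p.IsHomLift (𝟙 R) f' :=
    IsStronglyCartesian.map_isHomLift 𝒴.p h (F.map φx) hh (φy ≫ A.f)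
  have hx'R : R = 𝒳.p.obj x' := (IsHomLift.domain_eq 𝒳.p h φx).symm
  have hf'' : 𝒴.p.IsHomLift (𝟙 (𝒳.p.obj x')) f' := isHomLift_id_of_eq 𝒴.p f' hx'R
  have fac : f' ≫ F.map φx = φy ≫ A.f := IsStronglyCartesian.fac 𝒴.p h (F.map φx) hh (φy ≫ A.f)
  exact ⟨⟨x', y', f', hf''⟩, ⟨φx, φy, fac⟩, sx, sy⟩

lemma isFibered_P : (P F).IsFibered := by
  apply IsFibered.of_exists_isStronglyCartesian
  intro A R h'
  obtain ⟨h, rfl⟩ : ∃ h : R ⟶ 𝒳.p.obj A.x, h = h' := ⟨h', rfl⟩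
  obtain ⟨A', m, sx, sy⟩ := exists_lift hF A h
  have sF : 𝒴.p.IsStronglyCartesian h (F.map m.a) := hF h m.a sx
  exact ⟨A', m, isStronglyCartesian_of_components m h⟩

lemma components_of_isStronglyCartesian {A B : Obj F} (m : A ⟶ B) {R S : C} (h : R ⟶ S)
    [(P F).IsStronglyCartesian h m] :
    𝒳.p.IsStronglyCartesian h m.a ∧ 𝒴.p.IsStronglyCartesian h m.b := by
  have hS : 𝒳.p.obj B.x = S := IsHomLift.codomain_eq (P F) h m
  subst hS
  obtain ⟨A₀, m₀, sx, sy⟩ := exists_lift hF B h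
  have sF : 𝒴.p.IsStronglyCartesian h (F.map m₀.a) := hF h m₀.a sx
  have s₀ : (P F).IsStronglyCartesian h m₀ := isStronglyCartesian_of_components m₀ h
  let e : A ≅ A₀ := IsCartesian.domainUniqueUpToIso (P F) h m₀ m
  have he : e.hom ≫ m₀ = m := IsCartesian.fac (P F) h m₀ m
  have hel : (P F).IsHomLift (𝟙 R) e.hom := IsCartesian.map_isHomLift (P F) h m₀ m
  have hea : 𝒳.p.IsHomLift (𝟙 R) e.hom.a := (liftX_iff e.hom (𝟙 R)).1 hel
  have heb : 𝒴.p.IsHomLift (𝟙 R) e.hom.b := liftY_of_liftX e.hom (𝟙 R)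
  have ia : IsIso e.hom.a := (inferInstance : IsIso ((projX F).map e.hom))
  have ib : IsIso e.hom.b := (inferInstance : IsIso ((projY F).map e.hom))
  have ca : 𝒳.p.IsStronglyCartesian (𝟙 R) e.hom.a := IsStronglyCartesian.of_isIso 𝒳.p (𝟙 R) e.hom.a
  have cb : 𝒴.p.IsStronglyCartesian (𝟙 R) e.hom.b := IsStronglyCartesian.of_isIso 𝒴.p (𝟙 R) e.hom.b
  have ca' : 𝒳.p.IsStronglyCartesian (𝟙 R ≫ h) (e.hom.a ≫ m₀.a) := inferInstance
  have cb' : 𝒴.p.IsStronglyCartesian (𝟙 R ≫ h) (e.hom.b ≫ m₀.b) := inferInstance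
  rw [Category.id_comp, ← comp_a, he] at ca'
  rw [Category.id_comp, ← comp_b, he] at cb'
  exact ⟨ca', cb'⟩

end Fibered


variable (F)

/-- The factorization category as a based category. -/
def X' : BasedCategory C where
  obj := Obj F
  p := P F

/-- The object `(x, F x, 𝟙)`. -/
abbrev uObj (x : 𝒳.obj) : Obj F := ⟨x, F.obj x, 𝟙 _, inferInstance⟩

/-- The fully faithful embedding `x ↦ (x, F x, 𝟙)` as a functor. -/
def uFun : 𝒳.obj ⥤ Obj F where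
  obj := uObj F
  map := fun {x x'} a => (⟨a, F.map a, by simp [uObj]⟩ : Hom (uObj F x) (uObj F x'))
  map_id := fun x => hom_ext rfl (F.map_id x)
  map_comp := fun a a' => hom_ext rfl (F.map_comp a a')

/-- The fully faithful embedding `x ↦ (x, F x, 𝟙)`. -/
def uF : 𝒳 ⥤ᵇ X' F where
  toFunctor := uFun F
  w := rfl

/-- The projection `(x, y, f) ↦ y`. -/
def vF : X' F ⥤ᵇ 𝒴 where
  toFunctor := projY F
  w := by
    have hobj : ∀ A : Obj F, 𝒴.p.obj A.y = 𝒳.p.obj A.x :=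
      fun A => IsHomLift.domain_eq 𝒴.p (𝟙 (𝒳.p.obj A.x)) A.f
    refine CategoryTheory.Functor.ext hobj ?_
    intro A B m
    have : 𝒴.p.IsHomLift (𝒳.p.map (Hom.a m)) (Hom.b m) := liftY_of_liftX m _
    exact IsHomLift.fac' 𝒴.p (𝒳.p.map (Hom.a m)) (Hom.b m)

/-- The projection `(x, y, f) ↦ x`. -/
def wF : X' F ⥤ᵇ 𝒳 where
  toFunctor := projX F
  w := rfl

lemma uF_comp_vF : BasedFunctor.comp (uF F) (vF F) = F := rfl

lemma b_eq_of_hom_uObj {A : Obj F} {x : 𝒳.obj} (m : A ⟶ uObj F x) :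
    A.f ≫ F.map m.a = m.b := by
  have := m.w
  have h2 : A.f ≫ F.map m.a = m.b ≫ 𝟙 (F.obj x) := this
  exact h2.trans (Category.comp_id _)

instance : (uFun F).Faithful where
  map_injective {x x'} a a' h := congrArg Hom.a h

instance : (uFun F).Full where
  map_surjective {x x'} m := by
    refine ⟨Hom.a m, ?_⟩
    apply hom_ext
    · rfl
    · have := b_eq_of_hom_uObj F m
      change 𝟙 _ ≫ F.map (Hom.a m) = Hom.b m at this
      change F.map (Hom.a m) = Hom.b m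
      simpa using this

/-- The hom-equivalence of the adjunction `w ⊣ u`. -/
def homEquiv (A : Obj F) (x : 𝒳.obj) : (A.x ⟶ x) ≃ (A ⟶ uObj F x) where
  toFun a := (⟨a, A.f ≫ F.map a, by simp [uObj]⟩ : Hom A (uObj F x))
  invFun m := m.a
  left_inv a := rfl
  right_inv m := hom_ext rfl (b_eq_of_hom_uObj F m)

/-- The adjunction `w ⊣ u`. -/
def adj : projX F ⊣ uFun F :=
  Adjunction.mkOfHomEquiv
    { homEquiv := fun A x => homEquiv F A x
      homEquiv_naturality_left_symm := fun m n => rfl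
      homEquiv_naturality_right := fun {A x x'} a a' => by
        apply hom_ext
        · rfl
        · change A.f ≫ F.map (a ≫ a') = (A.f ≫ F.map a) ≫ F.map a'
          simp }


section Fibered2

variable {F}
variable [𝒳.p.IsFibered] [𝒴.p.IsFibered] (hF : FibCat.PreservesStronglyCartesian F)

include hF

lemma isFibered_projY : (projY F).IsFibered := by
  apply IsFibered.of_exists_isStronglyCartesian
  intro A y' g'
  obtain ⟨g, rfl⟩ : ∃ g : y' ⟶ A.y, g = g' := ⟨g', rfl⟩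
  have hAy : 𝒴.p.obj A.y = 𝒳.p.obj A.x := IsHomLift.domain_eq 𝒴.p (𝟙 (𝒳.p.obj A.x)) A.f
  obtain ⟨R, hR⟩ : ∃ R : C, R = 𝒴.p.obj y' := ⟨_, rfl⟩
  obtain ⟨h, hh'⟩ : ∃ h : R ⟶ 𝒳.p.obj A.x, h = eqToHom hR ≫ 𝒴.p.map g ≫ eqToHom hAy := ⟨_, rfl⟩
  have hg : 𝒴.p.IsHomLift h g := by rw [hh']; infer_instance
  obtain ⟨x', φx, hφx⟩ := IsPreFibered.exists_isCartesian' (p := 𝒳.p) h
  have sx : 𝒳.p.IsStronglyCartesian h φx := inferInstance
  have sF : 𝒴.p.IsStronglyCartesian h (F.map φx) := hF h φx sx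
  have hl : 𝒴.p.IsHomLift h (g ≫ A.f) :=
    IsHomLift.comp_lift_id_right' 𝒴.p h g (𝒳.p.obj A.x) A.f
  have hh : h = 𝟙 R ≫ h := by simp
  let f' : y' ⟶ F.obj x' := IsStronglyCartesian.map 𝒴.p h (F.map φx) hh (g ≫ A.f)
  have hf' : 𝒴.p.IsHomLift (𝟙 R) f' :=
    IsStronglyCartesian.map_isHomLift 𝒴.p h (F.map φx) hh (g ≫ A.f)
  have hx'R : R = 𝒳.p.obj x' := (IsHomLift.domain_eq 𝒳.p h φx).symm
  have hf'' : 𝒴.p.IsHomLift (𝟙 (𝒳.p.obj x')) f' := isHomLift_id_of_eq 𝒴.p f' hx'R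
  have fac : f' ≫ F.map φx = g ≫ A.f := IsStronglyCartesian.fac 𝒴.p h (F.map φx) hh (g ≫ A.f)
  let A' : Obj F := ⟨x', y', f', hf''⟩
  let m : A' ⟶ A := ⟨φx, g, fac⟩
  refine ⟨A', m, ?_⟩
  have hm : (projY F).IsHomLift g m := IsHomLift.map (projY F) m
  refine { toIsHomLift := hm, universal_property' := ?_ }
  intro A'' k' m'' hm''
  obtain ⟨k, rfl⟩ : ∃ k : A''.y ⟶ y', k = k' := ⟨k', rfl⟩
  have hb : k ≫ g = m''.b := IsHomLift.eq_of_isHomLift (projY F) (k ≫ g) m''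
  have hA''y : 𝒳.p.obj A''.x = 𝒴.p.obj A''.y :=
    (IsHomLift.domain_eq 𝒴.p (𝟙 (𝒳.p.obj A''.x)) A''.f).symm
  obtain ⟨g₀, hg₀⟩ : ∃ g₀ : 𝒳.p.obj A''.x ⟶ R, g₀ = eqToHom hA''y ≫ 𝒴.p.map k ≫ eqToHom hR.symm :=
    ⟨_, rfl⟩
  have hk : 𝒴.p.IsHomLift g₀ k := by rw [hg₀]; infer_instance
  have hm''b : 𝒴.p.IsHomLift (g₀ ≫ h) m''.b := by rw [← hb]; infer_instance
  have hm''a : 𝒳.p.IsHomLift (g₀ ≫ h) m''.a := liftX_of_liftY m'' (g₀ ≫ h)
  let a' : A''.x ⟶ x' := IsStronglyCartesian.map 𝒳.p h φx (g := g₀) rfl m''.a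
  have ha'g : 𝒳.p.IsHomLift g₀ a' := IsStronglyCartesian.map_isHomLift 𝒳.p h φx rfl m''.a
  have fa : a' ≫ φx = m''.a := IsStronglyCartesian.fac 𝒳.p h φx rfl m''.a
  have hw : A''.f ≫ F.map a' = k ≫ f' := by
    have h1 : 𝒴.p.IsHomLift g₀ (A''.f ≫ F.map a') :=
      IsHomLift.comp_lift_id_left' 𝒴.p (𝒳.p.obj A''.x) A''.f g₀ (F.map a')
    have h2 : 𝒴.p.IsHomLift g₀ (k ≫ f') := IsHomLift.comp_lift_id_right' 𝒴.p g₀ k R f'
    apply IsStronglyCartesian.ext 𝒴.p h (F.map φx) g₀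
    rw [Category.assoc, ← F.map_comp, fa, m''.w, Category.assoc, fac, ← Category.assoc, hb]
  refine ⟨(⟨a', k, hw⟩ : Hom A'' A'), ⟨?_, hom_ext fa hb⟩, ?_⟩
  · exact IsHomLift.map (projY F) (show A'' ⟶ A' from ⟨a', k, hw⟩)
  rintro n ⟨hn, hnm⟩
  have hnb : k = n.b := @IsHomLift.eq_of_isHomLift _ _ _ _ (projY F) A'' A' k n hn
  have hnb' : 𝒴.p.IsHomLift g₀ n.b := hnb ▸ hk
  have hna : 𝒳.p.IsHomLift g₀ n.a := liftX_of_liftY n g₀
  apply hom_ext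
  · have : n.a ≫ φx = m''.a := by rw [← hnm]; rfl
    exact IsStronglyCartesian.map_uniq 𝒳.p h φx rfl m''.a n.a this
  · exact hnb.symm

lemma preserves_uF : FibCat.PreservesStronglyCartesian (uF F) := by
  intro R S f x x' φ hφ
  have h1 : 𝒳.p.IsStronglyCartesian f (Hom.a ((uFun F).map φ)) := hφ
  have h2 : 𝒴.p.IsStronglyCartesian f (Hom.b ((uFun F).map φ)) := hF f φ hφ
  have h3 : 𝒴.p.IsStronglyCartesian f (F.map (Hom.a ((uFun F).map φ))) := hF f φ hφ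
  exact isStronglyCartesian_of_components ((uFun F).map φ) f

lemma preserves_vF : FibCat.PreservesStronglyCartesian (vF F) := by
  intro R S f A B m hm
  have hm' : (P F).IsStronglyCartesian f (show (A : Obj F) ⟶ (B : Obj F) from m) := hm
  exact (components_of_isStronglyCartesian hF _ f).2

lemma preserves_wF : FibCat.PreservesStronglyCartesian (wF F) := by
  intro R S f A B m hm
  have hm' : (P F).IsStronglyCartesian f (show (A : Obj F) ⟶ (B : Obj F) from m) := hm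
  exact (components_of_isStronglyCartesian hF _ f).1

end Fibered2

theorem main {C : Type u} [Category.{v} C]
    {𝒳 𝒴 : BasedCategory.{v, max u v} C} [𝒳.p.IsFibered] [𝒴.p.IsFibered]
    (F : 𝒳 ⥤ᵇ 𝒴) (hF : FibCat.PreservesStronglyCartesian F) :
    ∃ (𝒳' : BasedCategory.{v, max u v} C) (u : 𝒳 ⥤ᵇ 𝒳') (v : 𝒳' ⥤ᵇ 𝒴) (w : 𝒳' ⥤ᵇ 𝒳),
      𝒳'.p.IsFibered ∧ FibCat.PreservesStronglyCartesian u ∧ FibCat.PreservesStronglyCartesian v ∧
        FibCat.PreservesStronglyCartesian w ∧ BasedFunctor.comp u v = F ∧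
        u.toFunctor.Full ∧ u.toFunctor.Faithful ∧ Nonempty (w.toFunctor ⊣ u.toFunctor) ∧
        v.toFunctor.IsFibered :=
  ⟨X' F, uF F, vF F, wF F, isFibered_P hF, preserves_uF hF, preserves_vF hF, preserves_wF hF,
    uF_comp_vF F, (inferInstance : (uFun F).Full), (inferInstance : (uFun F).Faithful),
    ⟨adj F⟩, isFibered_projY hF⟩

end Groth.Agent.FibFactor
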