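import Mathlib
import Groth.Prelude.Def_FlatMod2
import Groth.Agent.Lib.SchDenseFib3_helper2
import Groth.Agent.Lib.IsoCrit_helper5
import Groth.Agent.Lib.FibStalkKer_helper5

/-!
# Flat locus of a module relative to a morphism and base change, part 1 (helper2)

Ring-level lemma: flatness of a "fibre module" over a "fibre ring" read off after identifying the
fibre rings with quotients; transport lemmas for stalks.
APPEND-ONLY once landed.
-/

set_option autoImplicit false
set_option maxHeartbeats 1000000
open AlgebraicGeometry CategoryTheory CategoryTheory.Limits TopologicalSpace TensorProduct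
universe u

namespace Groth.Agent.Lib.FlatLocBC

/-- a base change along a surjective ring map is surjective -/
theorem isBaseChange_surjective {R R' M M' : Type u} [CommRing R] [CommRing R']
    [Algebra R R'] [AddCommGroup M] [Module R M] [AddCommGroup M'] [Module R M'] [Module R' M']
    [IsScalarTower R R' M'] (c : M →ₗ[R] M') (hc : IsBaseChange R' c)
    (hsurj : Function.Surjective (algebraMap R R')) : Function.Surjective c := by
  intro y
  refine hc.inductionOn y (motive := fun y => ∃ x, c x = y) ⟨0, map_zero _⟩ (fun m => ⟨m, rfl⟩) ?_ ?_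
  · intro r' y ih
    obtain ⟨x, rfl⟩ := ih
    obtain ⟨r, rfl⟩ := hsurj r'
    exact ⟨r • x, by rw [map_smul, algebraMap_smul]⟩
  · intro y₁ y₂ h₁ h₂
    obtain ⟨x₁, rfl⟩ := h₁
    obtain ⟨x₂, rfl⟩ := h₂
    exact ⟨x₁ + x₂, map_add _ _ _⟩

/-- `(I.map φ) • ⊤ ⊆ I • ⊤` for a module over `C` viewed over `B` through `φ`. -/
theorem mem_smul_top_of_mem_map_smul_top {B C M : Type u} [CommRing B] [CommRing C] (φ : B →+* C)
    [AddCommGroup M] [Module B M] [Module C M] (hBM : ∀ (b : B) (m : M), b • m = φ b • m)
    (I : Ideal B) (m : M) (hm : m ∈ (I.map φ) • (⊤ : Submodule C M)) :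
    m ∈ I • (⊤ : Submodule B M) := by
  have hP : ∀ c ∈ I.map φ, ∀ m : M, c • m ∈ I • (⊤ : Submodule B M) := by
    intro c hc
    refine Submodule.span_induction (p := fun c _ => ∀ m : M, c • m ∈ I • (⊤ : Submodule B M))
      ?_ ?_ ?_ ?_ hc
    · rintro _ ⟨a, ha, rfl⟩ m
      rw [← hBM]
      exact Submodule.smul_mem_smul ha trivial
    · intro m
      rw [zero_smul]
      exact Submodule.zero_mem _
    · intro x y _ _ hx hy m
      rw [add_smul]
      exact Submodule.add_mem _ (hx m) (hy m)
    · intro r x _ hx m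
      rw [smul_eq_mul, mul_comm, mul_smul]
      exact hx (r • m)
  refine Submodule.smul_induction_on hm ?_ ?_
  · intro c hc n _
    exact hP c hc n
  · intro x y hx hy
    exact Submodule.add_mem _ hx hy

/-- **Reading off fibre flatness.** Given a commutative square of rings with surjective vertical
maps `θ : B → B₁` (kernel `I`) and `π : C → C₁` (kernel `I C`), a `C`-module `M` and its base change
`N` to `C₁`: if `N` is flat over `B₁` then `M / I M` is flat over `B / I`. -/
theorem flat_quot_of_flat_fibre {B C B₁ C₁ M N : Type u} [CommRing B] [CommRing C] [CommRing B₁]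
    [CommRing C₁] (φ : B →+* C) (ψ : B₁ →+* C₁) (θ : B →+* B₁) (π : C →+* C₁)
    (hsq : π.comp φ = ψ.comp θ) (hθ : Function.Surjective θ)
    (I : Ideal B) (hI : RingHom.ker θ = I) (hker : RingHom.ker π = I.map φ)
    [AddCommGroup M] [Module B M] [Module C M] (hBM : ∀ (b : B) (m : M), b • m = φ b • m)
    [AddCommGroup N] [Module B₁ N] [Module C₁ N] (hBN : ∀ (b : B₁) (n : N), b • n = ψ b • n)
    (u : M →+ N) (hu : ∀ (c : C) (m : M), u (c • m) = π c • u m)
    (husurj : Function.Surjective u)
    (huker : ∀ m, u m = 0 → m ∈ (RingHom.ker π) • (⊤ : Submodule C M))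
    (hfl : Module.Flat B₁ N) :
    Module.Flat (B ⧸ I) (M ⧸ (I • (⊤ : Submodule B M))) := by
  subst hI
  let E : B ⧸ RingHom.ker θ ≃+* B₁ := RingHom.quotientKerEquivOfSurjective hθ
  have hE : ∀ b : B, E (Ideal.Quotient.mk _ b) = θ b := fun b => rfl
  letI algQ : Algebra (B ⧸ RingHom.ker θ) B₁ := (E : B ⧸ RingHom.ker θ →+* B₁).toAlgebra
  letI modQ : Module (B ⧸ RingHom.ker θ) N := Module.compHom N (E : B ⧸ RingHom.ker θ →+* B₁)
  haveI : IsScalarTower (B ⧸ RingHom.ker θ) B₁ N := IsScalarTower.of_algebraMap_smul fun _ _ => rfl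
  haveI flQ : Module.Flat (B ⧸ RingHom.ker θ) B₁ :=
    (RingHom.Flat.of_bijective E.bijective : (E : B ⧸ RingHom.ker θ →+* B₁).Flat)
  haveI := hfl
  haveI flN : Module.Flat (B ⧸ RingHom.ker θ) N := Module.Flat.trans (B ⧸ RingHom.ker θ) B₁ N
  letI modBN : Module B N := Module.compHom N θ
  have huB : ∀ (b : B) (m : M), u (b • m) = θ b • u m := by
    intro b m
    rw [hBM, hu, hBN]
    have := congrArg (fun ρ : B →+* C₁ => ρ b) hsq
    simp only [RingHom.comp_apply] at this
    rw [this]
  let uB : M →ₗ[B] N :=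
    { toFun := u
      map_add' := map_add u
      map_smul' := fun b m => huB b m }
  have hle : RingHom.ker θ • (⊤ : Submodule B M) ≤ LinearMap.ker uB := by
    rw [Submodule.smul_le]
    intro a ha m _
    rw [LinearMap.mem_ker]
    show u (a • m) = 0
    rw [huB, (RingHom.mem_ker).mp ha, zero_smul]
  let v : (M ⧸ (RingHom.ker θ • (⊤ : Submodule B M))) →ₗ[B] N :=
    (RingHom.ker θ • (⊤ : Submodule B M)).liftQ uB hle
  have hv : ∀ m : M, v (Submodule.Quotient.mk m) = u m := fun m => rfl
  let vQ : (M ⧸ (RingHom.ker θ • (⊤ : Submodule B M))) →ₗ[B ⧸ RingHom.ker θ] N :=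
    { toFun := v
      map_add' := map_add v
      map_smul' := by
        intro a z
        obtain ⟨b, rfl⟩ := Ideal.Quotient.mk_surjective a
        obtain ⟨m, rfl⟩ := Submodule.Quotient.mk_surjective _ z
        show v (Submodule.Quotient.mk (b • m)) = E (Ideal.Quotient.mk _ b) • v (Submodule.Quotient.mk m)
        rw [hv, hv, hE, huB] }
  have hbij : Function.Bijective vQ := by
    constructor
    · rw [← LinearMap.ker_eq_bot, LinearMap.ker_eq_bot']
      intro z hz
      obtain ⟨m, rfl⟩ := Submodule.Quotient.mk_surjective _ z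
      have h1 : u m = 0 := hz
      have h2 := huker m h1
      rw [hker] at h2
      have h3 := mem_smul_top_of_mem_map_smul_top φ hBM (RingHom.ker θ) m h2
      exact (Submodule.Quotient.mk_eq_zero _).mpr h3
    · intro n
      obtain ⟨m, rfl⟩ := husurj n
      exact ⟨Submodule.Quotient.mk m, rfl⟩
  exact Module.Flat.of_linearEquiv (LinearEquiv.ofBijective vQ hbij)

section Stalk

/-- transport of the ideal `𝔪_s O_{Y,y}` along the identification of stalks at equal points -/
theorem comap_stalkSpecializes_map {Y S : Scheme.{u}} (g : Y ⟶ S) : ∀ (y₁ y₂ : Y) (e : y₂ = y₁),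
    Ideal.comap (Y.presheaf.stalkSpecializes (specializes_of_eq e)).hom
      (Ideal.map (g.stalkMap y₂).hom (IsLocalRing.maximalIdeal (S.presheaf.stalk (g y₂)))) =
    Ideal.map (g.stalkMap y₁).hom (IsLocalRing.maximalIdeal (S.presheaf.stalk (g y₁))) := by
  intro y₁ y₂ e
  subst e
  have h1 : Y.presheaf.stalkSpecializes (specializes_of_eq (rfl : y₂ = y₂)) = 𝟙 _ :=
    TopCat.Presheaf.stalkSpecializes_refl _ _
  rw [h1, CommRingCat.hom_id, Ideal.comap_id]

theorem stalkSpecializes_bijective_of_eq (Y : Scheme.{u}) : ∀ (y₁ y₂ : Y) (e : y₂ = y₁),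
    Function.Bijective (Y.presheaf.stalkSpecializes (specializes_of_eq e)).hom := by
  intro y₁ y₂ e
  subst e
  have h1 : Y.presheaf.stalkSpecializes (specializes_of_eq (rfl : y₂ = y₂)) = 𝟙 _ :=
    TopCat.Presheaf.stalkSpecializes_refl _ _
  rw [h1, CommRingCat.hom_id]
  exact Function.bijective_id

/-- Flatness over the base at a point is invariant under isomorphism of modules. -/
theorem isFlatOverAt_of_iso {X S : Scheme.{u}} (f : X ⟶ S) {M M' : X.Modules} (α : M ≅ M') (x : X)
    (h : FlatMod.IsFlatOverAt f M x) : FlatMod.IsFlatOverAt f M' x := by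
  letI i1 := FlatMod.moduleStalkOver f M x
  letI i2 := FlatMod.moduleStalkOver f M' x
  have hbij : Function.Bijective (Groth.Agent.IsoCrit.stalkLin α.hom x) := by
    haveI : IsIso ((TopCat.Presheaf.stalkFunctor AddCommGrpCat.{u} x).map
        ((Scheme.Modules.toPresheaf X).map α.hom)) := inferInstance
    exact ConcreteCategory.bijective_of_isIso
      ((TopCat.Presheaf.stalkFunctor AddCommGrpCat.{u} x).map
        ((Scheme.Modules.toPresheaf X).map α.hom))
  let e := LinearEquiv.ofBijective (Groth.Agent.IsoCrit.stalkLin α.hom x) hbij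
  let e' : M.presheaf.stalk x ≃ₗ[S.presheaf.stalk (f x)] M'.presheaf.stalk x :=
    { e.toAddEquiv with
      map_smul' := fun r m => by
        show e ((f.stalkMap x).hom r • m) = (f.stalkMap x).hom r • e m
        exact map_smul e _ m }
  haveI : Module.Flat (S.presheaf.stalk (f x)) (M.presheaf.stalk x) := h
  exact Module.Flat.of_linearEquiv e'.symm

end Stalk

end Groth.Agent.Lib.FlatLocBC
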