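import Mathlib
import Groth.Prelude.Def_FlatMod2
import Groth.Prelude.Def_MoreMor
import Groth.Agent.Lib.FlatLocBC1_helper2
import Groth.Agent.Lib.FlatBC4_helper8
import Groth.Agent.Lib.FibMapFlat_helper5
import Groth.Agent.Lib.FibCrit5_helper8
import Groth.Agent.Lib.PB10_helper8
import Groth.Agent.Lib.FibMorCons_helper8
import Groth.Agent.S1483
import Groth.Agent.S4863

/-!
# Flat locus of a module relative to a morphism and base change, part 2 (helper2)

`f : X ⟶ Y`, `g : Y ⟶ S`, `X` locally of finite presentation over `S`, `Y` locally of finite type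
over `S`, `F` finitely presented quasi-coherent on `X`, flat over `S`.  The set of points where `F`
is flat over `Y` is open and commutes with every base change `S' ⟶ S` (S1441).
APPEND-ONLY once landed.
-/

set_option autoImplicit false
set_option maxHeartbeats 1000000
open AlgebraicGeometry CategoryTheory CategoryTheory.Limits TopologicalSpace TensorProduct
universe u

namespace Groth.Agent.Lib.FlatLocBC

open Groth.Agent.FibMapFlat Groth.Agent.Lib.FibCritH8 IsLocalRing

section FibSquare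

/-- The square of fibre maps of a base change is cartesian (as in helper7's `AlgSpFlatLocus`,
restated here to keep the import chain short). -/
theorem fiber_square {U V W U' V' W' : Scheme.{u}} (h₀ : U ⟶ V) (k₀ : V ⟶ W)
    (j : W' ⟶ W) (pV : V' ⟶ V) (k₀' : V' ⟶ W') (pU : U' ⟶ U) (h₀' : U' ⟶ V')
    (sqV : IsPullback pV k₀' k₀ j) (sqU : IsPullback pU h₀' h₀ pV)
    (outer : IsPullback pU (h₀' ≫ k₀') (h₀ ≫ k₀) j) (w' : W') :
    IsPullback (fibMap outer w') (MoreMor.fiberMap h₀' k₀' w') (MoreMor.fiberMap h₀ k₀ (j w'))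
      (fibMap sqV w') := by
  have e1 : MoreMor.fiberMap h₀' k₀' w' ≫ k₀'.fiberToSpecResidueField w' =
      (h₀' ≫ k₀').fiberToSpecResidueField w' := pullback.lift_snd _ _ _
  have e2 : MoreMor.fiberMap h₀ k₀ (j w') ≫ k₀.fiberToSpecResidueField (j w') =
      (h₀ ≫ k₀).fiberToSpecResidueField (j w') := pullback.lift_snd _ _ _
  have big : IsPullback (fibMap outer w')
      (MoreMor.fiberMap h₀' k₀' w' ≫ k₀'.fiberToSpecResidueField w')
      (MoreMor.fiberMap h₀ k₀ (j w') ≫ k₀.fiberToSpecResidueField (j w'))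
      (Spec.map (j.residueFieldMap w')) := by
    rw [e1, e2]; exact isPullback_fibMap outer w'
  refine IsPullback.of_bot big ?_ (isPullback_fibMap sqV w')
  apply pullback.hom_ext
  · calc (fibMap outer w' ≫ MoreMor.fiberMap h₀ k₀ (j w')) ≫ k₀.fiberι (j w')
        = fibMap outer w' ≫ (MoreMor.fiberMap h₀ k₀ (j w') ≫ k₀.fiberι (j w')) :=
          Category.assoc _ _ _
      _ = fibMap outer w' ≫ ((h₀ ≫ k₀).fiberι (j w') ≫ h₀) := by rw [fiberMap_fiberι]
      _ = (fibMap outer w' ≫ (h₀ ≫ k₀).fiberι (j w')) ≫ h₀ := (Category.assoc _ _ _).symm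
      _ = ((h₀' ≫ k₀').fiberι w' ≫ pU) ≫ h₀ := by rw [fibMap_fiberι]
      _ = (h₀' ≫ k₀').fiberι w' ≫ (pU ≫ h₀) := Category.assoc _ _ _
      _ = (h₀' ≫ k₀').fiberι w' ≫ (h₀' ≫ pV) := by rw [sqU.w]
      _ = ((h₀' ≫ k₀').fiberι w' ≫ h₀') ≫ pV := (Category.assoc _ _ _).symm
      _ = (MoreMor.fiberMap h₀' k₀' w' ≫ k₀'.fiberι w') ≫ pV := by rw [fiberMap_fiberι]
      _ = MoreMor.fiberMap h₀' k₀' w' ≫ (k₀'.fiberι w' ≫ pV) := Category.assoc _ _ _
      _ = MoreMor.fiberMap h₀' k₀' w' ≫ (fibMap sqV w' ≫ k₀.fiberι (j w')) := by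
          rw [fibMap_fiberι]
      _ = (MoreMor.fiberMap h₀' k₀' w' ≫ fibMap sqV w') ≫ k₀.fiberι (j w') :=
          (Category.assoc _ _ _).symm
  · calc (fibMap outer w' ≫ MoreMor.fiberMap h₀ k₀ (j w')) ≫ k₀.fiberToSpecResidueField (j w')
        = fibMap outer w' ≫ (MoreMor.fiberMap h₀ k₀ (j w') ≫
            k₀.fiberToSpecResidueField (j w')) := Category.assoc _ _ _
      _ = (MoreMor.fiberMap h₀' k₀' w' ≫ k₀'.fiberToSpecResidueField w') ≫
            Spec.map (j.residueFieldMap w') := big.w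
      _ = MoreMor.fiberMap h₀' k₀' w' ≫ (k₀'.fiberToSpecResidueField w' ≫
            Spec.map (j.residueFieldMap w')) := Category.assoc _ _ _
      _ = MoreMor.fiberMap h₀' k₀' w' ≫ (fibMap sqV w' ≫
            k₀.fiberToSpecResidueField (j w')) := by rw [(isPullback_fibMap sqV w').w]
      _ = (MoreMor.fiberMap h₀' k₀' w' ≫ fibMap sqV w') ≫ k₀.fiberToSpecResidueField (j w') :=
          (Category.assoc _ _ _).symm

end FibSquare

variable {X Y S : Scheme.{u}} (f : X ⟶ Y) (g : Y ⟶ S)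

/-- Condition (a2) of the fibrewise criterion of flatness at `x`: `F_x / 𝔪_s F_x` is flat over
`O_{Y,y} / 𝔪_s O_{Y,y}`. -/
def FibFlatAt (F : X.Modules) (x : X) : Prop :=
  letI := FlatMod.moduleStalkOver f F x
  Module.Flat (↑(Y.presheaf.stalk (f x)) ⧸ Ideal.map (g.stalkMap (f x)).hom
      (IsLocalRing.maximalIdeal ↑(S.presheaf.stalk (g (f x)))))
    (↑(F.presheaf.stalk x) ⧸ (Ideal.map (g.stalkMap (f x)).hom
      (IsLocalRing.maximalIdeal ↑(S.presheaf.stalk (g (f x)))) •
        (⊤ : Submodule ↑(Y.presheaf.stalk (f x)) ↑(F.presheaf.stalk x))))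

/-- Flatness of the restriction to the fibre over the fibre of `Y` gives condition (a2). -/
theorem fibFlatAt_of_fiber (F : X.Modules) [F.IsQuasicoherent] (s : S)
    (z : ((f ≫ g).fiber s : Scheme.{u}))
    (H : FlatMod.IsFlatOverAt (MoreMor.fiberMap f g s)
      ((Scheme.Modules.pullback ((f ≫ g).fiberι s)).obj F) z) :
    FibFlatAt f g F (((f ≫ g).fiberι s) z) := by
  have hmor : MoreMor.fiberMap f g s ≫ g.fiberι s = (f ≫ g).fiberι s ≫ f := fiberMap_fiberι f g s
  have hpt : (g.fiberι s) ((MoreMor.fiberMap f g s) z) = f (((f ≫ g).fiberι s) z) := by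
    rw [← Scheme.Hom.comp_apply, ← Scheme.Hom.comp_apply, hmor]
  have hσ := stalkSpecializes_bijective_of_eq Y _ _ hpt
  obtain ⟨hsurjY, hkerY⟩ := Groth.Agent.FibStalkKer.main9501 g s ((MoreMor.fiberMap f g s) z)
  obtain ⟨hsurjX, hkerX⟩ := Groth.Agent.FibStalkKer.main9501 (f ≫ g) s z
  -- base change of stalks
  letI algOO : Algebra (X.presheaf.stalk (((f ≫ g).fiberι s) z))
      (((f ≫ g).fiber s).presheaf.stalk z) := (((f ≫ g).fiberι s).stalkMap z).hom.toAlgebra
  letI modOG : Module (X.presheaf.stalk (((f ≫ g).fiberι s) z))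
      (((Scheme.Modules.pullback ((f ≫ g).fiberι s)).obj F).presheaf.stalk z) :=
    Module.compHom _ (((f ≫ g).fiberι s).stalkMap z).hom
  haveI : IsScalarTower (X.presheaf.stalk (((f ≫ g).fiberι s) z))
      (((f ≫ g).fiber s).presheaf.stalk z)
      (((Scheme.Modules.pullback ((f ≫ g).fiberι s)).obj F).presheaf.stalk z) :=
    IsScalarTower.of_algebraMap_smul fun _ _ => rfl
  have hbc : IsBaseChange (((f ≫ g).fiber s).presheaf.stalk z)
      (PBH8.cStalkLin ((f ≫ g).fiberι s) F z) := PBH8.isBaseChange_cStalk ((f ≫ g).fiberι s) F z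
  have husurj : Function.Surjective (PBH8.cStalkLin ((f ≫ g).fiberι s) F z) :=
    isBaseChange_surjective _ hbc hsurjX
  have huker : ∀ m, PBH8.cStalkLin ((f ≫ g).fiberι s) F z m = 0 →
      m ∈ (RingHom.ker (((f ≫ g).fiberι s).stalkMap z).hom) •
        (⊤ : Submodule (X.presheaf.stalk (((f ≫ g).fiberι s) z))
          (F.presheaf.stalk (((f ≫ g).fiberι s) z))) := fun m hm =>
    Groth.Agent.Lib.SchDenseFib.mem_smul_top_of_isBaseChange_eq_zero _ hbc hsurjX m hm
  unfold FibFlatAt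
  letI i1 := FlatMod.moduleStalkOver f F (((f ≫ g).fiberι s) z)
  letI i2 := FlatMod.moduleStalkOver (MoreMor.fiberMap f g s)
    ((Scheme.Modules.pullback ((f ≫ g).fiberι s)).obj F) z
  refine flat_quot_of_flat_fibre (φ := (f.stalkMap (((f ≫ g).fiberι s) z)).hom)
    (ψ := ((MoreMor.fiberMap f g s).stalkMap z).hom)
    (θ := ((g.fiberι s).stalkMap ((MoreMor.fiberMap f g s) z)).hom.comp
      (Y.presheaf.stalkSpecializes (specializes_of_eq hpt)).hom)
    (π := (((f ≫ g).fiberι s).stalkMap z).hom) ?_ ?_ _ ?_ ?_ (fun _ _ => rfl) (fun _ _ => rfl)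
    (PBH8.cStalkLin ((f ≫ g).fiberι s) F z).toAddMonoidHom ?_ husurj huker H
  · -- the square commutes
    have h1 := Scheme.Hom.stalkMap_congr_hom _ _ hmor.symm z
    rw [Scheme.Hom.stalkMap_comp, Scheme.Hom.stalkMap_comp] at h1
    have h2 := congrArg CommRingCat.Hom.hom h1
    simpa [CommRingCat.hom_comp, RingHom.comp_assoc] using h2
  · exact hsurjY.comp hσ.surjective
  · rw [← RingHom.comap_ker, hkerY]
    exact comap_stalkSpecializes_map g _ _ hpt
  · rw [hkerX, Ideal.map_map]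
    exact congrArg (fun φ : S.presheaf.stalk (g (f (((f ≫ g).fiberι s) z))) ⟶
        X.presheaf.stalk (((f ≫ g).fiberι s) z) =>
      Ideal.map φ.hom (IsLocalRing.maximalIdeal _))
      (Scheme.Hom.stalkMap_comp f g (((f ≫ g).fiberι s) z))
  · intro c m
    exact map_smul (PBH8.cStalkLin ((f ≫ g).fiberι s) F z) c m

section Main

/-- Descent of flatness over `Y` at a point along an arbitrary base change of `S`, for a module
flat over `S` (fibrewise criterion). -/
theorem isFlatOverAt_of_baseChange [LocallyOfFinitePresentation (f ≫ g)] [LocallyOfFiniteType g]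
    (F : X.Modules) (hq : Coh.IsQCoh F) (hfp : CohB1.IsFP F)
    (hfl : FlatMod.IsFlatOver (f ≫ g) F)
    {X' Y' S' : Scheme.{u}} (h : S' ⟶ S) (gY : Y' ⟶ Y) (g' : Y' ⟶ S')
    (hY : IsPullback gY g' g h) (gX : X' ⟶ X) (f' : X' ⟶ Y')
    (hX : IsPullback gX (f' ≫ g') (f ≫ g) h) (w : gX ≫ f = f' ≫ gY)
    (x' : X') (H : FlatMod.IsFlatOverAt f' ((Scheme.Modules.pullback gX).obj F) x') :
    FlatMod.IsFlatOverAt f F (gX x') := by
  haveI : F.IsQuasicoherent := hq
  have sqU : IsPullback gX f' f gY := IsPullback.of_bot hX w hY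
  -- fibre point
  obtain ⟨s', hs'⟩ : ∃ s' : S', s' = (f' ≫ g') x' := ⟨_, rfl⟩
  obtain ⟨z', hz'x⟩ : ∃ z' : ((f' ≫ g').fiber s' : Scheme.{u}), ((f' ≫ g').fiberι s') z' = x' := by
    subst hs'
    exact ⟨(f' ≫ g').asFiber x', (f' ≫ g').fiberι_asFiber x'⟩
  -- step a: restrict to the fibre of `X'`
  have H₁ : FlatMod.IsFlatOverAt (MoreMor.fiberMap f' g' s')
      ((Scheme.Modules.pullback ((f' ≫ g').fiberι s')).obj
        ((Scheme.Modules.pullback gX).obj F)) z' := by
    refine FlatBC2H8.isFlatOverAt_pullback (isPullback_fiberMap f' g' s') _ z' ?_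
    rw [hz'x]; exact H
  -- step b: the restriction is the pullback of the restriction of `F` to the fibre of `X`
  let α : (Scheme.Modules.pullback ((f' ≫ g').fiberι s')).obj
        ((Scheme.Modules.pullback gX).obj F) ≅
      (Scheme.Modules.pullback (fibMap hX s')).obj
        ((Scheme.Modules.pullback ((f ≫ g).fiberι (h s'))).obj F) :=
    (Scheme.Modules.pullbackComp ((f' ≫ g').fiberι s') gX).app F ≪≫
      (Scheme.Modules.pullbackCongr (fibMap_fiberι hX s').symm).app F ≪≫
      ((Scheme.Modules.pullbackComp (fibMap hX s') ((f ≫ g).fiberι (h s'))).app F).symm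
  have H₂ := isFlatOverAt_of_iso (MoreMor.fiberMap f' g' s') α z' H₁
  -- step c: descend along the flat map of fibres
  haveI : Flat (fibMap hY s') := flat_fibMap hY s'
  have H₃ := FlatBC2H8.isFlatOverAt_of_pullback (fiber_square f g h gY g' gX f' hY sqU hX s')
    ((Scheme.Modules.pullback ((f ≫ g).fiberι (h s'))).obj F) z' (Flat.stalkMap _ _) H₂
  -- step d: condition (a2)
  have H₄ := fibFlatAt_of_fiber f g F (h s') (fibMap hX s' z') H₃
  have hpt : ((f ≫ g).fiberι (h s')) (fibMap hX s' z') = gX x' := by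
    rw [fiberι_fibMap_apply, hz'x]
  rw [hpt] at H₄
  -- the fibrewise criterion
  by_cases hx : Nontrivial ↑(F.presheaf.stalk (gX x'))
  · exact ((Groth.Agent.S1483.result f g F hq hfp (gX x') hx).mp ⟨hfl (gX x'), H₄⟩).2
  · rw [not_nontrivial_iff_subsingleton] at hx
    unfold FlatMod.IsFlatOverAt
    letI := FlatMod.moduleStalkOver f F (gX x')
    haveI := hx
    infer_instance

/-- **S1441.** The flat locus of `F` over `Y` is open and commutes with base change on `S`. -/
theorem main1441 [LocallyOfFinitePresentation (f ≫ g)] [LocallyOfFiniteType g]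
    (F : X.Modules) (hq : Coh.IsQCoh F) (hfp : CohB1.IsFP F)
    (hfl : FlatMod.IsFlatOver (f ≫ g) F) :
    IsOpen {x : ↑X | FlatMod.IsFlatOverAt f F x} ∧
      ∀ {X' Y' S' : Scheme.{u}} (h : S' ⟶ S) (gY : Y' ⟶ Y) (g' : Y' ⟶ S')
        (hY : IsPullback gY g' g h) (gX : X' ⟶ X) (f' : X' ⟶ Y')
        (hX : IsPullback gX (f' ≫ g') (f ≫ g) h) (w : gX ≫ f = f' ≫ gY),
        {x' : ↑X' | FlatMod.IsFlatOverAt f' ((Scheme.Modules.pullback gX).obj F) x'} =
          gX ⁻¹' {x : ↑X | FlatMod.IsFlatOverAt f F x} := by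
  haveI : LocallyOfFinitePresentation f := FibMorConsH8.lfp_of_comp f g
  haveI : Coh.IsQCoh F := hq
  refine ⟨Groth.Agent.S4863.result f F hfp, ?_⟩
  intro X' Y' S' h gY g' hY gX f' hX w
  ext x'
  simp only [Set.mem_setOf_eq, Set.mem_preimage]
  constructor
  · exact isFlatOverAt_of_baseChange f g F hq hfp hfl h gY g' hY gX f' hX w x'
  · intro hx
    haveI : F.IsQuasicoherent := hq
    exact FlatBC2H8.isFlatOverAt_pullback (IsPullback.of_bot hX w hY) F x' hx

end Main

end Groth.Agent.Lib.FlatLocBC
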