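import Mathlib
import Groth.Agent.Lib.FlatLocBC2_helper2

/-!
# Fibrewise flatness of a module relative to a morphism, part 1 (helper2)

`FibFlatAt f g F x` (from `FlatLocBC2_helper2`): `F_x / 𝔪_s F_x` is flat over
`O_{Y,y} / 𝔪_s O_{Y,y}`.  Here: ring-level transport lemmas, the equivalence with flatness of the
restriction to the fibre over the fibre of `Y`, invariance under (stalk-)isomorphisms on `X`, `Y`,
`S`, under isomorphisms of modules and under arbitrary base change on `S`.
APPEND-ONLY once landed.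
-/

set_option autoImplicit false
set_option maxHeartbeats 1000000
open AlgebraicGeometry CategoryTheory CategoryTheory.Limits TopologicalSpace TensorProduct
universe u

namespace Groth.Agent.Lib.FibFlatH2

open Groth.Agent.Lib.FlatLocBC Groth.Agent.FibMapFlat Groth.Agent.Lib.FibCritH8 IsLocalRing

section Ring

/-- Two-sided version of `FlatLocBC.flat_quot_of_flat_fibre`. -/
theorem flat_quot_iff_flat_fibre {B C B₁ C₁ M N : Type u} [CommRing B] [CommRing C] [CommRing B₁]
    [CommRing C₁] (φ : B →+* C) (ψ : B₁ →+* C₁) (θ : B →+* B₁) (π : C →+* C₁)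
    (hsq : π.comp φ = ψ.comp θ) (hθ : Function.Surjective θ)
    (I : Ideal B) (hI : RingHom.ker θ = I) (hker : RingHom.ker π = I.map φ)
    [AddCommGroup M] [Module B M] [Module C M] (hBM : ∀ (b : B) (m : M), b • m = φ b • m)
    [AddCommGroup N] [Module B₁ N] [Module C₁ N] (hBN : ∀ (b : B₁) (n : N), b • n = ψ b • n)
    (u : M →+ N) (hu : ∀ (c : C) (m : M), u (c • m) = π c • u m)
    (husurj : Function.Surjective u)
    (huker : ∀ m, u m = 0 → m ∈ (RingHom.ker π) • (⊤ : Submodule C M)) :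
    Module.Flat (B ⧸ I) (M ⧸ (I • (⊤ : Submodule B M))) ↔ Module.Flat B₁ N := by
  refine ⟨fun hfl => ?_, fun hfl => flat_quot_of_flat_fibre φ ψ θ π hsq hθ I hI hker hBM hBN u hu
    husurj huker hfl⟩
  subst hI
  let E : B ⧸ RingHom.ker θ ≃+* B₁ := RingHom.quotientKerEquivOfSurjective hθ
  have hE : ∀ b : B, E (Ideal.Quotient.mk _ b) = θ b := fun b => rfl
  letI modQ : Module (B ⧸ RingHom.ker θ) N := Module.compHom N (E : B ⧸ RingHom.ker θ →+* B₁)
  letI modBN : Module B N := Module.compHom N θ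
  have huB : ∀ (b : B) (m : M), u (b • m) = θ b • u m := by
    intro b m
    rw [hBM, hu, hBN]
    have := congrArg (fun ρ : B →+* C₁ => ρ b) hsq
    simp only [RingHom.comp_apply] at this
    rw [this]
  let uB : M →ₗ[B] N :=
    { toFun := u
      map_add' := map_add u
      map_smul' := fun b m => huB b m }
  have hle : RingHom.ker θ • (⊤ : Submodule B M) ≤ LinearMap.ker uB := by
    rw [Submodule.smul_le]
    intro a ha m _
    rw [LinearMap.mem_ker]
    show u (a • m) = 0
    rw [huB, (RingHom.mem_ker).mp ha, zero_smul]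
  let v : (M ⧸ (RingHom.ker θ • (⊤ : Submodule B M))) →ₗ[B] N :=
    (RingHom.ker θ • (⊤ : Submodule B M)).liftQ uB hle
  have hv : ∀ m : M, v (Submodule.Quotient.mk m) = u m := fun m => rfl
  let vQ : (M ⧸ (RingHom.ker θ • (⊤ : Submodule B M))) →ₗ[B ⧸ RingHom.ker θ] N :=
    { toFun := v
      map_add' := map_add v
      map_smul' := by
        intro a z
        obtain ⟨b, rfl⟩ := Ideal.Quotient.mk_surjective a
        obtain ⟨m, rfl⟩ := Submodule.Quotient.mk_surjective _ z
        show v (Submodule.Quotient.mk (b • m)) = E (Ideal.Quotient.mk _ b) • v (Submodule.Quotient.mk m)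
        rw [hv, hv, hE, huB] }
  have hbij : Function.Bijective vQ := by
    constructor
    · rw [← LinearMap.ker_eq_bot, LinearMap.ker_eq_bot']
      intro z hz
      obtain ⟨m, rfl⟩ := Submodule.Quotient.mk_surjective _ z
      have h1 : u m = 0 := hz
      have h2 := huker m h1
      rw [hker] at h2
      have h3 := mem_smul_top_of_mem_map_smul_top φ hBM (RingHom.ker θ) m h2
      exact (Submodule.Quotient.mk_eq_zero _).mpr h3
    · intro n
      obtain ⟨m, rfl⟩ := husurj n
      exact ⟨Submodule.Quotient.mk m, rfl⟩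
  haveI := hfl
  haveI flN : Module.Flat (B ⧸ RingHom.ker θ) N :=
    Module.Flat.of_linearEquiv (LinearEquiv.ofBijective vQ hbij).symm
  letI algQ' : Algebra B₁ (B ⧸ RingHom.ker θ) := (E.symm : B₁ →+* B ⧸ RingHom.ker θ).toAlgebra
  haveI : IsScalarTower B₁ (B ⧸ RingHom.ker θ) N := IsScalarTower.of_algebraMap_smul fun b n => by
    show E (E.symm b) • n = b • n
    rw [E.apply_symm_apply]
  haveI flQ : Module.Flat B₁ (B ⧸ RingHom.ker θ) :=
    (RingHom.Flat.of_bijective E.symm.bijective : (E.symm : B₁ →+* B ⧸ RingHom.ker θ).Flat)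
  exact Module.Flat.trans B₁ (B ⧸ RingHom.ker θ) N

/-- A bijective semilinear map reflects membership in `I M`. -/
theorem mem_smul_top_of_semilinear {B B' M M' : Type u} [CommRing B] [CommRing B'] (φ : B →+* B')
    [AddCommGroup M] [Module B M] [AddCommGroup M'] [Module B' M']
    (v : M →+ M') (hv : ∀ (b : B) (m : M), v (b • m) = φ b • v m) (hvb : Function.Bijective v)
    (I : Ideal B) (m : M) (hm : v m ∈ (I.map φ) • (⊤ : Submodule B' M')) :
    m ∈ I • (⊤ : Submodule B M) := by
  have hP : ∀ c ∈ I.map φ, ∀ n' : M', ∃ m₀ ∈ I • (⊤ : Submodule B M), v m₀ = c • n' := by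
    intro c hc
    refine Submodule.span_induction
      (p := fun c _ => ∀ n' : M', ∃ m₀ ∈ I • (⊤ : Submodule B M), v m₀ = c • n') ?_ ?_ ?_ ?_ hc
    · rintro _ ⟨a, ha, rfl⟩ n'
      obtain ⟨n, rfl⟩ := hvb.2 n'
      exact ⟨a • n, Submodule.smul_mem_smul ha trivial, hv a n⟩
    · intro n'
      exact ⟨0, Submodule.zero_mem _, by rw [map_zero, zero_smul]⟩
    · intro x y _ _ hx hy n'
      obtain ⟨m₁, h₁, e₁⟩ := hx n'
      obtain ⟨m₂, h₂, e₂⟩ := hy n'
      exact ⟨m₁ + m₂, Submodule.add_mem _ h₁ h₂, by rw [map_add, e₁, e₂, add_smul]⟩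
    · intro r x _ hx n'
      obtain ⟨m₁, h₁, e₁⟩ := hx (r • n')
      exact ⟨m₁, h₁, by rw [e₁, smul_eq_mul, mul_comm, mul_smul]⟩
  have hQ : ∀ n' ∈ (I.map φ) • (⊤ : Submodule B' M'),
      ∃ m₀ ∈ I • (⊤ : Submodule B M), v m₀ = n' := by
    intro n' hn'
    refine Submodule.smul_induction_on hn' ?_ ?_
    · intro c hc n _
      exact hP c hc n
    · intro x y hx hy
      obtain ⟨m₁, h₁, e₁⟩ := hx
      obtain ⟨m₂, h₂, e₂⟩ := hy
      exact ⟨m₁ + m₂, Submodule.add_mem _ h₁ h₂, by rw [map_add, e₁, e₂]⟩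
  obtain ⟨m₀, h₀, e₀⟩ := hQ _ hm
  rw [← hvb.1 e₀]
  exact h₀

/-- **Transport of fibre flatness** along an isomorphism of rings and a compatible semilinear
bijection of modules. -/
theorem flat_quot_congr {B B' M M' : Type u} [CommRing B] [CommRing B'] (φ : B →+* B')
    (hφ : Function.Bijective φ)
    [AddCommGroup M] [Module B M] [AddCommGroup M'] [Module B' M']
    (v : M →+ M') (hv : ∀ (b : B) (m : M), v (b • m) = φ b • v m) (hvb : Function.Bijective v)
    (I : Ideal B) (I' : Ideal B') (hI : I' = I.map φ) :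
    Module.Flat (B ⧸ I) (M ⧸ (I • (⊤ : Submodule B M))) ↔
      Module.Flat (B' ⧸ I') (M' ⧸ (I' • (⊤ : Submodule B' M'))) := by
  subst hI
  let θ : B →+* (B' ⧸ I.map φ) := (Ideal.Quotient.mk (I.map φ)).comp φ
  have hθ : Function.Surjective θ := Ideal.Quotient.mk_surjective.comp hφ.2
  have hkerθ : RingHom.ker θ = I := by
    ext b
    rw [RingHom.mem_ker]
    show Ideal.Quotient.mk (I.map φ) (φ b) = 0 ↔ b ∈ I
    rw [Ideal.Quotient.eq_zero_iff_mem]
    constructor
    · intro hb
      obtain ⟨a, ha, hab⟩ := (Ideal.mem_map_iff_of_surjective φ hφ.2).mp hb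
      rw [← hφ.1 hab]
      exact ha
    · exact Ideal.mem_map_of_mem φ
  let u : M →+ (M' ⧸ ((I.map φ) • (⊤ : Submodule B' M'))) :=
    ((I.map φ) • (⊤ : Submodule B' M')).mkQ.toAddMonoidHom.comp v
  refine flat_quot_iff_flat_fibre (B := B) (C := B) (B₁ := B' ⧸ I.map φ) (C₁ := B' ⧸ I.map φ)
    (RingHom.id B) (RingHom.id _) θ θ (RingHom.ext fun _ => rfl) hθ I hkerθ ?_ (fun _ _ => rfl)
    (fun _ _ => rfl) u ?_ ?_ ?_
  · rw [hkerθ, Ideal.map_id]
  · intro c m
    show Submodule.Quotient.mk (v (c • m)) = θ c • Submodule.Quotient.mk (v m)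
    rw [hv]
    rfl
  · intro n
    obtain ⟨n', rfl⟩ := Submodule.Quotient.mk_surjective _ n
    obtain ⟨m, rfl⟩ := hvb.2 n'
    exact ⟨m, rfl⟩
  · intro m hm
    have h1 : v m ∈ (I.map φ) • (⊤ : Submodule B' M') := (Submodule.Quotient.mk_eq_zero _).mp hm
    rw [hkerθ]
    exact mem_smul_top_of_semilinear φ v hv hvb I m h1

/-- A bijective ring map between local rings maps the maximal ideal onto the maximal ideal. -/
theorem map_maximalIdeal_of_bijective {R R' : Type u} [CommRing R] [CommRing R'] [IsLocalRing R]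
    [IsLocalRing R'] (φ : R →+* R') (hφ : Function.Bijective φ) :
    (maximalIdeal R).map φ = maximalIdeal R' := by
  let e : R ≃+* R' := RingEquiv.ofBijective φ hφ
  have he : ∀ r, e r = φ r := fun r => rfl
  apply le_antisymm
  · rw [Ideal.map_le_iff_le_comap]
    intro x hx
    rw [Ideal.mem_comap, mem_maximalIdeal, mem_nonunits_iff]
    intro hu
    rw [mem_maximalIdeal, mem_nonunits_iff] at hx
    apply hx
    have : IsUnit (e.symm (φ x)) := hu.map e.symm
    rwa [← he, e.symm_apply_apply] at this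
  · intro y hy
    obtain ⟨x, rfl⟩ := hφ.2 y
    apply Ideal.mem_map_of_mem
    rw [mem_maximalIdeal, mem_nonunits_iff] at hy ⊢
    intro hu
    exact hy (hu.map φ)

end Ring

variable {X Y S : Scheme.{u}} (f : X ⟶ Y) (g : Y ⟶ S)

section Fiber

/-- Condition (a2) is equivalent to flatness of the restriction to the fibre over the fibre of
`Y`. -/
theorem fibFlatAt_iff_fiber (F : X.Modules) [F.IsQuasicoherent] (s : S)
    (z : ((f ≫ g).fiber s : Scheme.{u})) :
    FibFlatAt f g F (((f ≫ g).fiberι s) z) ↔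
      FlatMod.IsFlatOverAt (MoreMor.fiberMap f g s)
        ((Scheme.Modules.pullback ((f ≫ g).fiberι s)).obj F) z := by
  have hmor : MoreMor.fiberMap f g s ≫ g.fiberι s = (f ≫ g).fiberι s ≫ f := fiberMap_fiberι f g s
  have hpt : (g.fiberι s) ((MoreMor.fiberMap f g s) z) = f (((f ≫ g).fiberι s) z) := by
    rw [← Scheme.Hom.comp_apply, ← Scheme.Hom.comp_apply, hmor]
  have hσ := stalkSpecializes_bijective_of_eq Y _ _ hpt
  obtain ⟨hsurjY, hkerY⟩ := Groth.Agent.FibStalkKer.main9501 g s ((MoreMor.fiberMap f g s) z)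
  obtain ⟨hsurjX, hkerX⟩ := Groth.Agent.FibStalkKer.main9501 (f ≫ g) s z
  letI algOO : Algebra (X.presheaf.stalk (((f ≫ g).fiberι s) z))
      (((f ≫ g).fiber s).presheaf.stalk z) := (((f ≫ g).fiberι s).stalkMap z).hom.toAlgebra
  letI modOG : Module (X.presheaf.stalk (((f ≫ g).fiberι s) z))
      (((Scheme.Modules.pullback ((f ≫ g).fiberι s)).obj F).presheaf.stalk z) :=
    Module.compHom _ (((f ≫ g).fiberι s).stalkMap z).hom
  haveI : IsScalarTower (X.presheaf.stalk (((f ≫ g).fiberι s) z))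
      (((f ≫ g).fiber s).presheaf.stalk z)
      (((Scheme.Modules.pullback ((f ≫ g).fiberι s)).obj F).presheaf.stalk z) :=
    IsScalarTower.of_algebraMap_smul fun _ _ => rfl
  have hbc : IsBaseChange (((f ≫ g).fiber s).presheaf.stalk z)
      (PBH8.cStalkLin ((f ≫ g).fiberι s) F z) := PBH8.isBaseChange_cStalk ((f ≫ g).fiberι s) F z
  have husurj : Function.Surjective (PBH8.cStalkLin ((f ≫ g).fiberι s) F z) :=
    isBaseChange_surjective _ hbc hsurjX
  have huker : ∀ m, PBH8.cStalkLin ((f ≫ g).fiberι s) F z m = 0 →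
      m ∈ (RingHom.ker (((f ≫ g).fiberι s).stalkMap z).hom) •
        (⊤ : Submodule (X.presheaf.stalk (((f ≫ g).fiberι s) z))
          (F.presheaf.stalk (((f ≫ g).fiberι s) z))) := fun m hm =>
    Groth.Agent.Lib.SchDenseFib.mem_smul_top_of_isBaseChange_eq_zero _ hbc hsurjX m hm
  unfold FibFlatAt FlatMod.IsFlatOverAt
  letI i1 := FlatMod.moduleStalkOver f F (((f ≫ g).fiberι s) z)
  letI i2 := FlatMod.moduleStalkOver (MoreMor.fiberMap f g s)
    ((Scheme.Modules.pullback ((f ≫ g).fiberι s)).obj F) z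
  refine flat_quot_iff_flat_fibre (φ := (f.stalkMap (((f ≫ g).fiberι s) z)).hom)
    (ψ := ((MoreMor.fiberMap f g s).stalkMap z).hom)
    (θ := ((g.fiberι s).stalkMap ((MoreMor.fiberMap f g s) z)).hom.comp
      (Y.presheaf.stalkSpecializes (specializes_of_eq hpt)).hom)
    (π := (((f ≫ g).fiberι s).stalkMap z).hom) ?_ ?_ _ ?_ ?_ (fun _ _ => rfl) (fun _ _ => rfl)
    (PBH8.cStalkLin ((f ≫ g).fiberι s) F z).toAddMonoidHom ?_ husurj huker
  · have h1 := Scheme.Hom.stalkMap_congr_hom _ _ hmor.symm z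
    rw [Scheme.Hom.stalkMap_comp, Scheme.Hom.stalkMap_comp] at h1
    have h2 := congrArg CommRingCat.Hom.hom h1
    simpa [CommRingCat.hom_comp, RingHom.comp_assoc] using h2
  · exact hsurjY.comp hσ.surjective
  · rw [← RingHom.comap_ker, hkerY]
    exact comap_stalkSpecializes_map g _ _ hpt
  · rw [hkerX, Ideal.map_map]
    exact congrArg (fun φ : S.presheaf.stalk (g (f (((f ≫ g).fiberι s) z))) ⟶
        X.presheaf.stalk (((f ≫ g).fiberι s) z) =>
      Ideal.map φ.hom (IsLocalRing.maximalIdeal _))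
      (Scheme.Hom.stalkMap_comp f g (((f ≫ g).fiberι s) z))
  · intro c m
    exact map_smul (PBH8.cStalkLin ((f ≫ g).fiberι s) F z) c m

end Fiber

section Transport

/-- `FibFlatAt` holds where the stalk of the module vanishes. -/
theorem fibFlatAt_of_subsingleton (F : X.Modules) (x : X)
    (h : Subsingleton (F.presheaf.stalk x)) : FibFlatAt f g F x := by
  unfold FibFlatAt
  letI := FlatMod.moduleStalkOver f F x
  haveI := h
  haveI : Subsingleton (↑(F.presheaf.stalk x) ⧸ (Ideal.map (g.stalkMap (f x)).hom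
      (IsLocalRing.maximalIdeal ↑(S.presheaf.stalk (g (f x)))) •
        (⊤ : Submodule ↑(Y.presheaf.stalk (f x)) ↑(F.presheaf.stalk x)))) :=
    Function.Surjective.subsingleton (Submodule.Quotient.mk_surjective _)
  infer_instance

/-- `FibFlatAt` is invariant under isomorphisms of modules. -/
theorem fibFlatAt_iff_of_iso {F F' : X.Modules} (α : F ≅ F') (x : X) :
    FibFlatAt f g F x ↔ FibFlatAt f g F' x := by
  unfold FibFlatAt
  letI i1 := FlatMod.moduleStalkOver f F x
  letI i2 := FlatMod.moduleStalkOver f F' x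
  have hbij : Function.Bijective (Groth.Agent.IsoCrit.stalkLin α.hom x) := by
    haveI : IsIso ((TopCat.Presheaf.stalkFunctor AddCommGrpCat.{u} x).map
        ((Scheme.Modules.toPresheaf X).map α.hom)) := inferInstance
    exact ConcreteCategory.bijective_of_isIso
      ((TopCat.Presheaf.stalkFunctor AddCommGrpCat.{u} x).map
        ((Scheme.Modules.toPresheaf X).map α.hom))
  refine flat_quot_congr (RingHom.id _) Function.bijective_id
    (Groth.Agent.IsoCrit.stalkLin α.hom x).toAddMonoidHom ?_ hbij _ _ ?_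
  · intro b m
    show Groth.Agent.IsoCrit.stalkLin α.hom x ((f.stalkMap x).hom b • m) =
      (f.stalkMap x).hom b • Groth.Agent.IsoCrit.stalkLin α.hom x m
    exact map_smul _ _ m
  · rw [Ideal.map_id]

/-- Invariance under a morphism into `X` which is an isomorphism on stalks at the point
(e.g. an open immersion). -/
theorem fibFlatAt_comp_left {X' : Scheme.{u}} (j : X' ⟶ X) (F : X.Modules) [F.IsQuasicoherent]
    (x' : X') (hj : Function.Bijective (j.stalkMap x').hom) :
    FibFlatAt (j ≫ f) g ((Scheme.Modules.pullback j).obj F) x' ↔ FibFlatAt f g F (j x') := by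
  letI algOO : Algebra (X.presheaf.stalk (j x')) (X'.presheaf.stalk x') :=
    (j.stalkMap x').hom.toAlgebra
  letI modOG : Module (X.presheaf.stalk (j x'))
      (((Scheme.Modules.pullback j).obj F).presheaf.stalk x') :=
    Module.compHom _ (j.stalkMap x').hom
  haveI : IsScalarTower (X.presheaf.stalk (j x')) (X'.presheaf.stalk x')
      (((Scheme.Modules.pullback j).obj F).presheaf.stalk x') :=
    IsScalarTower.of_algebraMap_smul fun _ _ => rfl
  have hbc : IsBaseChange (X'.presheaf.stalk x') (PBH8.cStalkLin j F x') :=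
    PBH8.isBaseChange_cStalk j F x'
  have hsurj : Function.Surjective (PBH8.cStalkLin j F x') :=
    isBaseChange_surjective _ hbc hj.2
  have hinj : Function.Injective (PBH8.cStalkLin j F x') := by
    rw [← LinearMap.ker_eq_bot, LinearMap.ker_eq_bot']
    intro m hm
    have h1 := Groth.Agent.Lib.SchDenseFib.mem_smul_top_of_isBaseChange_eq_zero _ hbc hj.2 m hm
    have hk : RingHom.ker (algebraMap (X.presheaf.stalk (j x')) (X'.presheaf.stalk x')) = ⊥ :=
      (RingHom.injective_iff_ker_eq_bot _).mp hj.1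
    rw [hk, Submodule.bot_smul] at h1
    exact (Submodule.mem_bot _).mp h1
  unfold FibFlatAt
  letI i1 := FlatMod.moduleStalkOver f F (j x')
  letI i2 := FlatMod.moduleStalkOver (j ≫ f) ((Scheme.Modules.pullback j).obj F) x'
  refine (@flat_quot_congr (Y.presheaf.stalk (f (j x'))) (Y.presheaf.stalk (f (j x')))
    (F.presheaf.stalk (j x')) (((Scheme.Modules.pullback j).obj F).presheaf.stalk x') _ _
    (RingHom.id _) Function.bijective_id _ i1 _ i2
    (PBH8.cStalkLin j F x').toAddMonoidHom ?_ ⟨hinj, hsurj⟩ _ _ ?_).symm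
  · intro b m
    show PBH8.cStalkLin j F x' ((f.stalkMap (j x')).hom b • m) =
      ((j ≫ f).stalkMap x').hom b • PBH8.cStalkLin j F x' m
    rw [map_smul]
    show (j.stalkMap x').hom ((f.stalkMap (j x')).hom b) • PBH8.cStalkLin j F x' m = _
    rw [Scheme.Hom.stalkMap_comp]
    rfl
  · rw [Ideal.map_id]
    rfl

/-- Invariance under a morphism into `Y` which is an isomorphism on stalks at the point. -/
theorem fibFlatAt_comp_mid {Y₀ : Scheme.{u}} (f₀ : X ⟶ Y₀) (jY : Y₀ ⟶ Y) (F : X.Modules) (x : X)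
    (hj : Function.Bijective (jY.stalkMap (f₀ x)).hom) :
    FibFlatAt (f₀ ≫ jY) g F x ↔ FibFlatAt f₀ (jY ≫ g) F x := by
  unfold FibFlatAt
  letI i1 := FlatMod.moduleStalkOver (f₀ ≫ jY) F x
  letI i2 := FlatMod.moduleStalkOver f₀ F x
  refine @flat_quot_congr (Y.presheaf.stalk (jY (f₀ x))) (Y₀.presheaf.stalk (f₀ x))
    (F.presheaf.stalk x) (F.presheaf.stalk x) _ _ (jY.stalkMap (f₀ x)).hom hj _ i1 _ i2
    (AddMonoidHom.id _) ?_ Function.bijective_id _ _ ?_
  · intro b m
    show ((f₀ ≫ jY).stalkMap x).hom b • m = (f₀.stalkMap x).hom ((jY.stalkMap (f₀ x)).hom b) • m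
    rw [Scheme.Hom.stalkMap_comp]
    rfl
  · show Ideal.map ((jY ≫ g).stalkMap (f₀ x)).hom
        (IsLocalRing.maximalIdeal (S.presheaf.stalk (g (jY (f₀ x))))) =
      Ideal.map (jY.stalkMap (f₀ x)).hom (Ideal.map (g.stalkMap (jY (f₀ x))).hom
        (IsLocalRing.maximalIdeal (S.presheaf.stalk (g (jY (f₀ x))))))
    rw [Ideal.map_map]
    exact congrArg (fun φ : S.presheaf.stalk (g (jY (f₀ x))) ⟶ Y₀.presheaf.stalk (f₀ x) =>
      Ideal.map φ.hom (IsLocalRing.maximalIdeal _)) (Scheme.Hom.stalkMap_comp jY g (f₀ x))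

/-- Invariance under a morphism out of `S` which is an isomorphism on stalks at the point. -/
theorem fibFlatAt_comp_right {S₀ : Scheme.{u}} (g₀ : Y ⟶ S₀) (j : S₀ ⟶ S) (F : X.Modules) (x : X)
    (hj : Function.Bijective (j.stalkMap (g₀ (f x))).hom) :
    FibFlatAt f (g₀ ≫ j) F x ↔ FibFlatAt f g₀ F x := by
  unfold FibFlatAt
  letI i1 := FlatMod.moduleStalkOver f F x
  refine flat_quot_congr (RingHom.id _) Function.bijective_id (AddMonoidHom.id _)
    (fun _ _ => rfl) Function.bijective_id _ _ ?_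
  rw [Ideal.map_id]
  have h1 : Ideal.map (j.stalkMap (g₀ (f x))).hom
      (IsLocalRing.maximalIdeal (S.presheaf.stalk (j (g₀ (f x))))) =
      IsLocalRing.maximalIdeal (S₀.presheaf.stalk (g₀ (f x))) :=
    map_maximalIdeal_of_bijective _ hj
  rw [← h1, Ideal.map_map]
  exact (congrArg (fun φ : S.presheaf.stalk (j (g₀ (f x))) ⟶ Y.presheaf.stalk (f x) =>
    Ideal.map φ.hom (IsLocalRing.maximalIdeal _)) (Scheme.Hom.stalkMap_comp g₀ j (f x))).symm

/-- Over a base whose local ring at the image point is a field, `FibFlatAt` is flatness over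
`Y`. -/
theorem fibFlatAt_iff_of_isField (F : X.Modules) (x : X)
    (hK : IsField (S.presheaf.stalk (g (f x)))) :
    FibFlatAt f g F x ↔ FlatMod.IsFlatOverAt f F x := by
  unfold FibFlatAt FlatMod.IsFlatOverAt
  letI i1 := FlatMod.moduleStalkOver f F x
  have hI : Ideal.map (g.stalkMap (f x)).hom
      (IsLocalRing.maximalIdeal (S.presheaf.stalk (g (f x)))) = ⊥ := by
    rw [IsLocalRing.isField_iff_maximalIdeal_eq.mp hK, Ideal.map_bot]
  have hk : RingHom.ker (RingHom.id (Y.presheaf.stalk (f x))) = ⊥ :=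
    (RingHom.injective_iff_ker_eq_bot _).mp Function.injective_id
  refine flat_quot_iff_flat_fibre (RingHom.id _) (RingHom.id _) (RingHom.id _) (RingHom.id _) rfl
    Function.surjective_id _ ?_ ?_ (fun _ _ => rfl) (fun _ _ => rfl) (AddMonoidHom.id _)
    (fun _ _ => rfl) Function.surjective_id ?_
  · rw [hI, hk]
  · rw [hI, Ideal.map_bot, hk]
  · intro m hm
    have : m = 0 := hm
    rw [this]
    exact Submodule.zero_mem _

end Transport

end Groth.Agent.Lib.FibFlatH2
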