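import Mathlib
import Groth.Agent.Lib.FibFlat1_helper2
import Groth.Agent.Lib.ConsProp2_helper7
import Groth.Agent.Lib.GenFlatSch_helper8
import Groth.Agent.Lib.GenFlatSch2_helper8
import Groth.Agent.Lib.Fpqc1_helper8

/-!
# Fibrewise flatness of a module relative to a morphism, part 2 (helper2)

* `fibFlatAt_baseChange_iff`: `FibFlatAt` commutes with arbitrary base change on `S`.
* `exists_open_fibFlat_of_integral`: over an integral base the locus is open over a nonempty open
  of the base (generic flatness + fibrewise criterion + openness of the flat locus).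
* `isConstructible_fibFlat_noeth`: over a Noetherian base the locus is constructible.
APPEND-ONLY once landed.
-/

set_option autoImplicit false
set_option maxHeartbeats 1000000
open AlgebraicGeometry CategoryTheory CategoryTheory.Limits TopologicalSpace TensorProduct Topology
universe u

namespace Groth.Agent.Lib.FibFlatH2

open Groth.Agent.Lib.FlatLocBC Groth.Agent.FibMapFlat Groth.Agent.Lib.FibCritH8 IsLocalRing
open Groth.Agent.Lib.ConsPropH7

section Aux

/-- points of a fibre product given as an abstract pullback square -/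
theorem exists_preimage_of_isPullback {P A B C : Scheme.{u}} {a : P ⟶ A} {b : P ⟶ B} {c : A ⟶ C}
    {d : B ⟶ C} (sq : IsPullback a b c d) (x : A) (y : B) (hxy : c x = d y) :
    ∃ p : P, a p = x ∧ b p = y := by
  obtain ⟨z, hz1, hz2⟩ := Scheme.Pullback.exists_preimage_pullback x y hxy
  refine ⟨sq.isoPullback.inv z, ?_, ?_⟩
  · rw [← Scheme.Hom.comp_apply, sq.isoPullback_inv_fst]
    exact hz1
  · rw [← Scheme.Hom.comp_apply, sq.isoPullback_inv_snd]
    exact hz2

/-- flatness of the restriction over an open gives flatness of the stalk maps over that open -/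
theorem stalkMap_flat_of_restrict {Y S : Scheme.{u}} (g : Y ⟶ S) (U : S.Opens) [Flat (g ∣_ U)]
    (y : Y) (hy : g y ∈ U) : (g.stalkMap y).hom.Flat :=
  (RingHom.Flat.respectsIso.arrow_mk_iso_iff (morphismRestrictStalkMap g U ⟨y, hy⟩)).mp
    (Flat.stalkMap (g ∣_ U) ⟨y, hy⟩)

end Aux

variable {X Y S : Scheme.{u}} (f : X ⟶ Y) (g : Y ⟶ S)

/-- **`FibFlatAt` commutes with base change on `S`.** -/
theorem fibFlatAt_baseChange_iff (F : X.Modules) [F.IsQuasicoherent]
    {X' Y' S' : Scheme.{u}} (h : S' ⟶ S) (gY : Y' ⟶ Y) (g' : Y' ⟶ S')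
    (hY : IsPullback gY g' g h) (gX : X' ⟶ X) (f' : X' ⟶ Y')
    (hX : IsPullback gX (f' ≫ g') (f ≫ g) h) (w : gX ≫ f = f' ≫ gY) (x' : X') :
    FibFlatAt f' g' ((Scheme.Modules.pullback gX).obj F) x' ↔ FibFlatAt f g F (gX x') := by
  have sqU : IsPullback gX f' f gY := IsPullback.of_bot hX w hY
  obtain ⟨s', hs'⟩ : ∃ s' : S', s' = (f' ≫ g') x' := ⟨_, rfl⟩
  obtain ⟨z', hz'x⟩ : ∃ z' : ((f' ≫ g').fiber s' : Scheme.{u}), ((f' ≫ g').fiberι s') z' = x' := by
    subst hs'
    exact ⟨(f' ≫ g').asFiber x', (f' ≫ g').fiberι_asFiber x'⟩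
  let α : (Scheme.Modules.pullback ((f' ≫ g').fiberι s')).obj
        ((Scheme.Modules.pullback gX).obj F) ≅
      (Scheme.Modules.pullback (fibMap hX s')).obj
        ((Scheme.Modules.pullback ((f ≫ g).fiberι (h s'))).obj F) :=
    (Scheme.Modules.pullbackComp ((f' ≫ g').fiberι s') gX).app F ≪≫
      (Scheme.Modules.pullbackCongr (fibMap_fiberι hX s').symm).app F ≪≫
      ((Scheme.Modules.pullbackComp (fibMap hX s') ((f ≫ g).fiberι (h s'))).app F).symm
  haveI : Flat (fibMap hY s') := flat_fibMap hY s'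
  have hpt : ((f ≫ g).fiberι (h s')) (fibMap hX s' z') = gX x' := by
    rw [fiberι_fibMap_apply, hz'x]
  have e1 := fibFlatAt_iff_fiber f' g' ((Scheme.Modules.pullback gX).obj F) s' z'
  have e2 := fibFlatAt_iff_fiber f g F (h s') (fibMap hX s' z')
  rw [hz'x] at e1
  rw [hpt] at e2
  rw [e1, e2]
  constructor
  · intro H₁
    have H₂ := isFlatOverAt_of_iso (MoreMor.fiberMap f' g' s') α z' H₁
    exact FlatBC2H8.isFlatOverAt_of_pullback (fiber_square f g h gY g' gX f' hY sqU hX s')
      ((Scheme.Modules.pullback ((f ≫ g).fiberι (h s'))).obj F) z' (Flat.stalkMap _ _) H₂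
  · intro H₃
    have H₂ := FlatBC2H8.isFlatOverAt_pullback (fiber_square f g h gY g' gX f' hY sqU hX s')
      ((Scheme.Modules.pullback ((f ≫ g).fiberι (h s'))).obj F) z' H₃
    exact isFlatOverAt_of_iso (MoreMor.fiberMap f' g' s') α.symm z' H₂

/-- Over an integral base, the locus of fibrewise flatness is open over a nonempty open of the
base. -/
theorem exists_open_fibFlat_of_integral [IsIntegral S] [LocallyOfFiniteType g] [QuasiCompact g]
    [LocallyOfFinitePresentation (f ≫ g)] [QuasiCompact (f ≫ g)]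
    (F : X.Modules) (hq : Coh.IsQCoh F) (hfp : CohB1.IsFP F) :
    ∃ U : S.Opens, (U : Set S).Nonempty ∧
      IsOpen ({x : X | FibFlatAt f g F x} ∩ (f ≫ g) ⁻¹' (U : Set S)) := by
  haveI : F.IsQuasicoherent := hq
  haveI := hfp
  obtain ⟨U₁, hU₁d, hU₁f, -⟩ := GenFlatSch2H8.generic_flat_fp g
  obtain ⟨U₂, hU₂ne, hU₂⟩ := GenFlatSchH8.generic_flat (f ≫ g) F
  haveI := hU₁f
  refine ⟨U₂ ⊓ U₁, hU₁d.inter_open_nonempty _ U₂.2 hU₂ne, ?_⟩
  haveI : LocallyOfFinitePresentation f := FibMorConsH8.lfp_of_comp f g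
  haveI : Coh.IsQCoh F := hq
  have hopen := Groth.Agent.S4863.result f F hfp
  have heq : {x : X | FibFlatAt f g F x} ∩ (f ≫ g) ⁻¹' ((U₂ ⊓ U₁ : S.Opens) : Set S) =
      {x : X | FlatMod.IsFlatOverAt f F x} ∩ (f ≫ g) ⁻¹' ((U₂ ⊓ U₁ : S.Opens) : Set S) := by
    ext x
    simp only [Set.mem_inter_iff, Set.mem_setOf_eq, Set.mem_preimage]
    refine and_congr_left fun hx => ?_
    have hg : (g.stalkMap (f x)).hom.Flat := stalkMap_flat_of_restrict g U₁ (f x) hx.2
    have hfl : FlatMod.IsFlatOverAt (f ≫ g) F x := hU₂ x hx.1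
    by_cases hnt : Nontrivial ↑(F.presheaf.stalk x)
    · have key := Groth.Agent.S1483.result f g F hq hfp x hnt
      constructor
      · intro h
        exact (key.mp ⟨hfl, h⟩).2
      · intro h
        exact (key.mpr ⟨hg, h⟩).2
    · rw [not_nontrivial_iff_subsingleton] at hnt
      constructor
      · intro _
        unfold FlatMod.IsFlatOverAt
        letI := FlatMod.moduleStalkOver f F x
        haveI := hnt
        infer_instance
      · intro _
        exact fibFlatAt_of_subsingleton f g F x hnt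
  rw [heq]
  exact hopen.inter ((U₂ ⊓ U₁ : S.Opens).2.preimage (f ≫ g).continuous)

/-- **Noetherian case**: the locus of fibrewise flatness is constructible. -/
theorem isConstructible_fibFlat_noeth [IsNoetherian S] [LocallyOfFiniteType g] [QuasiCompact g]
    [LocallyOfFiniteType (f ≫ g)] [QuasiCompact (f ≫ g)]
    (F : X.Modules) (hq : Coh.IsQCoh F) (hfp : CohB1.IsFP F) :
    IsConstructible {x : X | FibFlatAt f g F x} := by
  haveI : F.IsQuasicoherent := hq
  haveI := hfp
  haveI : IsLocallyNoetherian X := LocallyOfFiniteType.isLocallyNoetherian (f ≫ g)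
  haveI : CompactSpace X := QuasiCompact.compactSpace_of_compactSpace (f ≫ g)
  haveI : IsNoetherian X := {}
  refine isConstructible_of_forall_generic fun ξ => ?_
  obtain ⟨I, hint, hN, hgen, hrange⟩ := exists_red_closure ((f ≫ g) ξ)
  haveI := hint
  haveI := hN
  -- base change to the closure of the image point
  have hY := IsPullback.of_hasPullback g I.subschemeι
  have hXY := IsPullback.of_hasPullback f (pullback.fst g I.subschemeι)
  have hX : IsPullback (pullback.fst f (pullback.fst g I.subschemeι))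
      (pullback.snd f (pullback.fst g I.subschemeι) ≫ pullback.snd g I.subschemeι) (f ≫ g)
      I.subschemeι := hXY.paste_vert hY
  obtain ⟨gX, hgX⟩ : ∃ gX : pullback f (pullback.fst g I.subschemeι) ⟶ X,
      gX = pullback.fst f (pullback.fst g I.subschemeι) := ⟨_, rfl⟩
  obtain ⟨f', hf'⟩ : ∃ f' : pullback f (pullback.fst g I.subschemeι) ⟶ pullback g I.subschemeι,
      f' = pullback.snd f (pullback.fst g I.subschemeι) := ⟨_, rfl⟩
  obtain ⟨g', hg'⟩ : ∃ g' : pullback g I.subschemeι ⟶ I.subscheme,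
      g' = pullback.snd g I.subschemeι := ⟨_, rfl⟩
  rw [← hgX, ← hf', ← hg'] at hX
  rw [← hgX, ← hf'] at hXY
  rw [← hg'] at hY
  haveI : LocallyOfFiniteType g' := MorphismProperty.of_isPullback (P := @LocallyOfFiniteType) hY
    inferInstance
  haveI : QuasiCompact g' := MorphismProperty.of_isPullback (P := @QuasiCompact) hY inferInstance
  haveI : LocallyOfFiniteType (f' ≫ g') :=
    MorphismProperty.of_isPullback (P := @LocallyOfFiniteType) hX inferInstance
  haveI : QuasiCompact (f' ≫ g') :=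
    MorphismProperty.of_isPullback (P := @QuasiCompact) hX inferInstance
  haveI : IsLocallyNoetherian I.subscheme := inferInstance
  haveI : LocallyOfFinitePresentation (f' ≫ g') := inferInstance
  haveI hq' : Coh.IsQCoh ((Scheme.Modules.pullback gX).obj F) :=
    PBH8.isQuasicoherent_pullback gX F
  have hfp' : CohB1.IsFP ((Scheme.Modules.pullback gX).obj F) := FpqcH8.isFP_pullback gX F
  obtain ⟨U, hUne, hUopen⟩ := exists_open_fibFlat_of_integral f' g'
    ((Scheme.Modules.pullback gX).obj F) hq' hfp'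
  have hEE' : ∀ x', FibFlatAt f' g' ((Scheme.Modules.pullback gX).obj F) x' ↔
      FibFlatAt f g F (gX x') := fun x' =>
    fibFlatAt_baseChange_iff f g F I.subschemeι _ g' hY gX f' hX hXY.w x'
  haveI : IsClosedImmersion gX :=
    MorphismProperty.of_isPullback (P := @IsClosedImmersion) hX.flip inferInstance
  obtain ⟨ξ', hξ'1, hξ'2⟩ := exists_preimage_of_isPullback hX ξ (genericPoint I.subscheme)
    hgen.symm
  have hηU : genericPoint I.subscheme ∈ (U : Set I.subscheme) :=
    ((genericPoint_spec I.subscheme).mem_open_set_iff U.2).mpr (by simpa using hUne)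
  obtain ⟨U₁, hU₁, hU₁W⟩ := gX.isClosedEmbedding.isInducing.isOpen_iff.mp hUopen
  have hrangeX : closure {ξ} ⊆ Set.range gX := by
    apply closure_minimal _ gX.isClosedEmbedding.isClosed_range
    rintro _ rfl
    exact ⟨ξ', hξ'1⟩
  by_cases hξE : FibFlatAt f g F ξ
  · refine ⟨U₁, hU₁, ?_, Or.inl ?_⟩
    · have h1 : ξ' ∈ gX ⁻¹' U₁ := by
        rw [hU₁W]
        refine ⟨(hEE' ξ').mpr ?_, ?_⟩
        · rw [hξ'1]
          exact hξE
        · show (f' ≫ g') ξ' ∈ (U : Set I.subscheme)
          rw [hξ'2]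
          exact hηU
      rw [← hξ'1]
      exact h1
    · rintro x ⟨hxU₁, hxcl⟩
      obtain ⟨x', rfl⟩ := hrangeX hxcl
      have h1 : x' ∈ gX ⁻¹' U₁ := hxU₁
      rw [hU₁W] at h1
      exact (hEE' x').mp h1.1
  · obtain ⟨V, hV, hVU⟩ := I.subschemeι.isClosedEmbedding.isInducing.isOpen_iff.mp U.2
    refine ⟨(f ≫ g) ⁻¹' V, hV.preimage (f ≫ g).continuous, ?_, Or.inr ?_⟩
    · show (f ≫ g) ξ ∈ V
      rw [← hgen]
      have h1 : genericPoint I.subscheme ∈ I.subschemeι ⁻¹' V := by
        rw [hVU]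
        exact hηU
      exact h1
    · rintro x ⟨hxV, hxcl⟩ hxE
      obtain ⟨x', rfl⟩ := hrangeX hxcl
      have hx'U : (f' ≫ g') x' ∈ (U : Set I.subscheme) := by
        have h1 : (f' ≫ g') x' ∈ I.subschemeι ⁻¹' V := by
          show I.subschemeι ((f' ≫ g') x') ∈ V
          have h2 : I.subschemeι ((f' ≫ g') x') = (f ≫ g) (gX x') := by
            rw [← Scheme.Hom.comp_apply, ← Scheme.Hom.comp_apply, hX.w]
          rw [h2]
          exact hxV
        rw [hVU] at h1
        exact h1
      have hx'W : x' ∈ gX ⁻¹' U₁ := by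
        rw [hU₁W]
        exact ⟨(hEE' x').mpr hxE, hx'U⟩
      have hspec : ξ ⤳ gX x' := specializes_iff_mem_closure.mpr hxcl
      have hξU₁ : ξ ∈ U₁ := hspec.mem_open hU₁ hx'W
      have h3 : ξ' ∈ gX ⁻¹' U₁ := by
        show gX ξ' ∈ U₁
        rw [hξ'1]
        exact hξU₁
      rw [hU₁W] at h3
      apply hξE
      rw [← hξ'1]
      exact (hEE' ξ').mp h3.1

end Groth.Agent.Lib.FibFlatH2
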