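import Mathlib
import Groth.Agent.Lib.FibFlat2_helper2
import Groth.Agent.Lib.ConsProp3_helper7
import Groth.Agent.Lib.ConsMod1_helper2

/-!
# Fibrewise flatness of a module relative to a morphism, part 3 (helper2)

EGA IV 11.2.8: for `X ⟶ Y ⟶ S` locally of finite presentation over `S` and `F` quasi-coherent of
finite presentation on `X`, the set of points `x` of `X` where `F_s` is flat over `Y_s`
(`s` the image of `x`) is locally constructible.

* `exists_descend_pair_mod`: descent of `(X ⟶ Y ⟶ lim S_i, F)` to a stage.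
* `isConstructible_fibFlat_of_isAffine`, `isLocallyConstructible_fibFlat`.
* `main4868`, `main5948`.
APPEND-ONLY once landed.
-/

set_option autoImplicit false
set_option maxHeartbeats 1000000
set_option linter.style.haveILetI false
set_option linter.unusedVariables false
open AlgebraicGeometry CategoryTheory CategoryTheory.Limits TopologicalSpace TensorProduct Topology
open Set.Notation
universe u

namespace Groth.Agent.Lib.FibFlatH2

open Groth.Agent.Lib.FlatLocBC Groth.Agent.FibMapFlat Groth.Agent.Lib.FibCritH8 IsLocalRing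
open Groth.Agent.Lib.ConsPropH7 Groth.Agent.Lib.LimBaseChangeH7 Groth.Agent.Lib.LimDescFPH7

section Descend

/-- A pair `X ⟶ Y ⟶ lim S_i` of finitely presented objects descends to a stage (variant of
helper7's `exists_descend_pair` keeping finite presentation and quasi-separatedness). -/
theorem exists_descend_pair' {I : Type u} [SmallCategory I] [IsCofiltered I]
    (D : I ⥤ Scheme.{u}) (c : Cone D) (hc : IsLimit c)
    [∀ (i j : I) (a : i ⟶ j), IsAffineHom (D.map a)] [∀ i, CompactSpace (D.obj i)]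
    [∀ i, QuasiSeparatedSpace (D.obj i)] {X Y : Scheme.{u}} (f : X ⟶ Y) (g : Y ⟶ c.pt)
    [LocallyOfFinitePresentation g] [QuasiCompact g] [QuasiSeparated g]
    [LocallyOfFinitePresentation (f ≫ g)] [QuasiCompact (f ≫ g)] [QuasiSeparated (f ≫ g)] :
    ∃ (i : I) (Xi Yi : Scheme.{u}) (fi : Xi ⟶ Yi) (gi : Yi ⟶ D.obj i) (qX : X ⟶ Xi)
      (qY : Y ⟶ Yi), LocallyOfFinitePresentation gi ∧ QuasiCompact gi ∧ QuasiSeparated gi ∧
        LocallyOfFinitePresentation fi ∧ QuasiCompact fi ∧ QuasiSeparated fi ∧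
        IsPullback qY g gi (c.π.app i) ∧ IsPullback qX f fi qY := by
  obtain ⟨i₁, Y₁, g₁, q₁, hlfp₁, hqc₁, hqs₁, hpb₁⟩ := main591 hc Y g
  haveI := hlfp₁
  haveI := hqc₁
  haveI := hqs₁
  haveI : CompactSpace Y₁ := QuasiCompact.compactSpace_of_compactSpace g₁
  haveI : QuasiSeparatedSpace Y₁ := quasiSeparatedSpace_of_quasiSeparated g₁
  haveI : LocallyOfFinitePresentation f := Groth.Agent.Lib.LimDiagH7.lfp_of_comp f g
  haveI : QuasiCompact f := QuasiCompact.of_comp f g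
  haveI : QuasiSeparated f := QuasiSeparated.of_comp f g
  let f' : X ⟶ (bcCone c hpb₁).pt := f
  haveI : LocallyOfFinitePresentation f' := ‹LocallyOfFinitePresentation f›
  haveI : QuasiCompact f' := ‹QuasiCompact f›
  haveI : QuasiSeparated f' := ‹QuasiSeparated f›
  obtain ⟨j, Xj, fj, q, hlfp, hqc, hqs, hpb⟩ :=
    main591 (D := bcDiagram D i₁ g₁) (c := bcCone c hpb₁) (isLimitBcCone c hpb₁ hc) X f'
  let fj' : Xj ⟶ pullback g₁ (D.map j.hom) := fj
  refine ⟨j.left, Xj, pullback g₁ (D.map j.hom), fj', pullback.snd g₁ (D.map j.hom), q,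
    (bcCone c hpb₁).π.app j, MorphismProperty.pullback_snd _ _ inferInstance,
    MorphismProperty.pullback_snd _ _ inferInstance,
    MorphismProperty.pullback_snd _ _ inferInstance, hlfp, hqc, hqs,
    isPullback_bcCone_π c hpb₁ j, hpb⟩

/-- The base change of a stage to a later stage, with clean types. -/
theorem exists_bc_stage {I : Type u} [SmallCategory I] {D : I ⥤ Scheme.{u}} (c : Cone D) {i : I}
    {Xi X : Scheme.{u}} {xi : Xi ⟶ D.obj i} {qX : X ⟶ Xi} {pX : X ⟶ c.pt}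
    (hX : IsPullback qX pX xi (c.π.app i)) {k : I} (a : k ⟶ i) :
    ∃ qk : X ⟶ pullback xi (D.map a), qk ≫ pullback.fst xi (D.map a) = qX ∧
      qk ≫ pullback.snd xi (D.map a) = pX ≫ c.π.app k ∧
      IsPullback qk pX (pullback.snd xi (D.map a)) (c.π.app k) :=
  ⟨(bcCone c hX).π.app (Over.mk a), bcCone_π_fst c hX (Over.mk a), bcCone_π_snd c hX (Over.mk a),
    isPullback_bcCone_π c hX (Over.mk a)⟩

/-- Descent of a module along a base-changed limit, with clean types. -/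
theorem exists_descend_mod_bc {I : Type u} [SmallCategory I] [IsCofiltered I]
    (D : I ⥤ Scheme.{u}) (c : Cone D) (hc : IsLimit c)
    [∀ (i j : I) (a : i ⟶ j), IsAffineHom (D.map a)] {i : I}
    {Xi X : Scheme.{u}} (xi : Xi ⟶ D.obj i) [CompactSpace Xi] [QuasiSeparatedSpace Xi]
    {qX : X ⟶ Xi} {pX : X ⟶ c.pt}
    (hX : IsPullback qX pX xi (c.π.app i)) (F : X.Modules) [Coh.IsQCoh F] (hF : CohB1.IsFP F) :
    ∃ (k : I) (a : k ⟶ i) (qk : X ⟶ pullback xi (D.map a))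
      (Fk : (pullback xi (D.map a)).Modules), qk ≫ pullback.fst xi (D.map a) = qX ∧
      qk ≫ pullback.snd xi (D.map a) = pX ≫ c.π.app k ∧
      IsPullback qk pX (pullback.snd xi (D.map a)) (c.π.app k) ∧ Coh.IsQCoh Fk ∧ CohB1.IsFP Fk ∧
      Nonempty ((Scheme.Modules.pullback qk).obj Fk ≅ F) := by
  let F' : (bcCone c hX).pt.Modules := F
  haveI : Coh.IsQCoh F' := ‹Coh.IsQCoh F›
  have hF' : CohB1.IsFP F' := hF
  haveI : ∀ (j k : Over i) (a : j ⟶ k), IsAffineHom ((bcDiagram D i xi).map a) :=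
    fun j k a => inferInstance
  haveI : CompactSpace ((bcDiagram D i xi).obj (Over.mk (𝟙 i))) := inferInstance
  haveI : QuasiSeparatedSpace ((bcDiagram D i xi).obj (Over.mk (𝟙 i))) := inferInstance
  obtain ⟨k, -, Fk, hq, hfp, ⟨ε⟩⟩ :=
    Groth.Agent.Lib.LimDescMain.main4788 (bcDiagram D i xi) (bcCone c hX)
      (isLimitBcCone c hX hc) (Over.mk (𝟙 i)) F' hF'
  exact ⟨k.left, k.hom, (bcCone c hX).π.app k, Fk, bcCone_π_fst c hX k, bcCone_π_snd c hX k,
    isPullback_bcCone_π c hX k, hq, hfp, ⟨ε⟩⟩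

/-- Descent of a finitely presented quasi-coherent module on `X` to a later stage of a descended
pair. -/
theorem descend_mod_of_pair {I : Type u} [SmallCategory I] [IsCofiltered I]
    (D : I ⥤ Scheme.{u}) (c : Cone D) (hc : IsLimit c)
    [∀ (i j : I) (a : i ⟶ j), IsAffineHom (D.map a)] [∀ i, CompactSpace (D.obj i)]
    [∀ i, QuasiSeparatedSpace (D.obj i)] {X Y : Scheme.{u}} (f : X ⟶ Y) (g : Y ⟶ c.pt)
    (i : I) {Xi Yi : Scheme.{u}} (fi : Xi ⟶ Yi) (gi : Yi ⟶ D.obj i) (qX : X ⟶ Xi) (qY : Y ⟶ Yi)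
    [LocallyOfFinitePresentation gi] [QuasiCompact gi] [QuasiSeparated gi]
    [LocallyOfFinitePresentation fi] [QuasiCompact fi] [QuasiSeparated fi]
    (sqY : IsPullback qY g gi (c.π.app i)) (sqX : IsPullback qX f fi qY)
    (F : X.Modules) [Coh.IsQCoh F] (hF : CohB1.IsFP F) :
    ∃ (k : I) (Xk Yk : Scheme.{u}) (fk : Xk ⟶ Yk) (gk : Yk ⟶ D.obj k) (qXk : X ⟶ Xk)
      (qYk : Y ⟶ Yk) (Fk : Xk.Modules), LocallyOfFinitePresentation gk ∧ QuasiCompact gk ∧
        LocallyOfFinitePresentation (fk ≫ gk) ∧ QuasiCompact (fk ≫ gk) ∧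
        IsPullback qYk g gk (c.π.app k) ∧ IsPullback qXk f fk qYk ∧ Coh.IsQCoh Fk ∧
        CohB1.IsFP Fk ∧ Nonempty ((Scheme.Modules.pullback qXk).obj Fk ≅ F) := by
  haveI : LocallyOfFinitePresentation (fi ≫ gi) := inferInstance
  haveI : QuasiCompact (fi ≫ gi) := inferInstance
  haveI : QuasiSeparated (fi ≫ gi) := inferInstance
  have hXi : IsPullback qX (f ≫ g) (fi ≫ gi) (c.π.app i) := sqX.paste_vert sqY
  haveI : CompactSpace Xi := QuasiCompact.compactSpace_of_compactSpace (fi ≫ gi)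
  haveI : QuasiSeparatedSpace Xi := quasiSeparatedSpace_of_quasiSeparated (fi ≫ gi)
  obtain ⟨k, a, qXk, Fk, hqX_fst, hqX_snd, outer, hq, hfp, hε⟩ :=
    exists_descend_mod_bc D c hc (fi ≫ gi) hXi F hF
  obtain ⟨qYk, hqY_fst, hqY_snd, sqYk⟩ := exists_bc_stage c sqY a
  -- the pair at stage `k`
  have hcond : (pullback.fst (fi ≫ gi) (D.map a) ≫ fi) ≫ gi =
      pullback.snd (fi ≫ gi) (D.map a) ≫ D.map a := by
    rw [Category.assoc]
    exact pullback.condition
  obtain ⟨fk, hfk_fst, hfk_snd⟩ : ∃ fk : pullback (fi ≫ gi) (D.map a) ⟶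
      pullback gi (D.map a), fk ≫ pullback.fst gi (D.map a) =
        pullback.fst (fi ≫ gi) (D.map a) ≫ fi ∧
      fk ≫ pullback.snd gi (D.map a) = pullback.snd (fi ≫ gi) (D.map a) :=
    ⟨pullback.lift _ _ hcond, pullback.lift_fst _ _ _, pullback.lift_snd _ _ _⟩
  have comm : qXk ≫ fk = f ≫ qYk := by
    apply pullback.hom_ext
    · have e1 : (qXk ≫ fk) ≫ pullback.fst gi (D.map a) = qX ≫ fi := by
        rw [Category.assoc, hfk_fst, ← Category.assoc, hqX_fst]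
      have e2 : (f ≫ qYk) ≫ pullback.fst gi (D.map a) = f ≫ qY := by
        rw [Category.assoc, hqY_fst]
      rw [e1, e2]
      exact sqX.w
    · have e1 : (qXk ≫ fk) ≫ pullback.snd gi (D.map a) = (f ≫ g) ≫ c.π.app k := by
        rw [Category.assoc, hfk_snd, hqX_snd]
      have e2 : (f ≫ qYk) ≫ pullback.snd gi (D.map a) = f ≫ g ≫ c.π.app k := by
        rw [Category.assoc, hqY_snd]
      rw [e1, e2, Category.assoc]
  have sqXk : IsPullback qXk f fk qYk := by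
    refine IsPullback.of_bot ?_ comm sqYk
    rw [hfk_snd]
    exact outer
  refine ⟨k, pullback (fi ≫ gi) (D.map a), pullback gi (D.map a), fk,
    pullback.snd gi (D.map a), qXk, qYk, Fk,
    MorphismProperty.pullback_snd _ _ inferInstance,
    MorphismProperty.pullback_snd _ _ inferInstance, ?_, ?_, sqYk, sqXk, hq, hfp, hε⟩
  · rw [hfk_snd]
    exact MorphismProperty.pullback_snd _ _ inferInstance
  · rw [hfk_snd]
    exact MorphismProperty.pullback_snd _ _ inferInstance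

/-- A pair `X ⟶ Y ⟶ lim S_i` of finitely presented objects with a finitely presented
quasi-coherent module on `X` descends to a stage. -/
theorem exists_descend_pair_mod {I : Type u} [SmallCategory I] [IsCofiltered I]
    (D : I ⥤ Scheme.{u}) (c : Cone D) (hc : IsLimit c)
    [∀ (i j : I) (a : i ⟶ j), IsAffineHom (D.map a)] [∀ i, CompactSpace (D.obj i)]
    [∀ i, QuasiSeparatedSpace (D.obj i)] {X Y : Scheme.{u}} (f : X ⟶ Y) (g : Y ⟶ c.pt)
    [LocallyOfFinitePresentation g] [QuasiCompact g] [QuasiSeparated g]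
    [LocallyOfFinitePresentation (f ≫ g)] [QuasiCompact (f ≫ g)] [QuasiSeparated (f ≫ g)]
    (F : X.Modules) [Coh.IsQCoh F] (hF : CohB1.IsFP F) :
    ∃ (k : I) (Xk Yk : Scheme.{u}) (fk : Xk ⟶ Yk) (gk : Yk ⟶ D.obj k) (qXk : X ⟶ Xk)
      (qYk : Y ⟶ Yk) (Fk : Xk.Modules), LocallyOfFinitePresentation gk ∧ QuasiCompact gk ∧
        LocallyOfFinitePresentation (fk ≫ gk) ∧ QuasiCompact (fk ≫ gk) ∧
        IsPullback qYk g gk (c.π.app k) ∧ IsPullback qXk f fk qYk ∧ Coh.IsQCoh Fk ∧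
        CohB1.IsFP Fk ∧ Nonempty ((Scheme.Modules.pullback qXk).obj Fk ≅ F) := by
  obtain ⟨i, Xi, Yi, fi, gi, qX, qY, h1, h2, h3, h4, h5, h6, sqY, sqX⟩ :=
    exists_descend_pair' D c hc f g
  haveI := h1
  haveI := h2
  haveI := h3
  haveI := h4
  haveI := h5
  haveI := h6
  exact descend_mod_of_pair D c hc f g i fi gi qX qY sqY sqX F hF

end Descend

section Affine

/-- descent of a finitely presented pair with module over `Spec A` to a Noetherian base -/
theorem exists_noetherian_model_pair_mod (A : Type u) [CommRing A] {X Y : Scheme.{u}} (f : X ⟶ Y)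
    (g : Y ⟶ Spec (CommRingCat.of A))
    [LocallyOfFinitePresentation g] [QuasiCompact g] [QuasiSeparated g]
    [LocallyOfFinitePresentation (f ≫ g)] [QuasiCompact (f ≫ g)] [QuasiSeparated (f ≫ g)]
    (F : X.Modules) [Coh.IsQCoh F] (hF : CohB1.IsFP F) :
    ∃ (S₀ X₀ Y₀ : Scheme.{u}) (_ : IsNoetherian S₀) (f₀ : X₀ ⟶ Y₀) (g₀ : Y₀ ⟶ S₀)
      (h : Spec (CommRingCat.of A) ⟶ S₀) (qX : X ⟶ X₀) (qY : Y ⟶ Y₀) (F₀ : X₀.Modules),
      LocallyOfFiniteType g₀ ∧ QuasiCompact g₀ ∧ LocallyOfFiniteType (f₀ ≫ g₀) ∧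
        QuasiCompact (f₀ ≫ g₀) ∧ IsPullback qY g g₀ h ∧ IsPullback qX f f₀ qY ∧
        Coh.IsQCoh F₀ ∧ CohB1.IsFP F₀ ∧ Nonempty ((Scheme.Modules.pullback qX).obj F₀ ≅ F) := by
  letI : Algebra (ULift.{u} ℤ) A := ULift.algebra' ℤ A
  haveI : ∀ i, CompactSpace ((DS (ULift.{u} ℤ) A).obj i) := fun i => inferInstance
  haveI : ∀ i, QuasiSeparatedSpace ((DS (ULift.{u} ℤ) A).obj i) := fun i => inferInstance
  let g' : Y ⟶ (coneS (ULift.{u} ℤ) A).pt := g
  haveI : LocallyOfFinitePresentation g' := ‹LocallyOfFinitePresentation g›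
  haveI : QuasiCompact g' := ‹QuasiCompact g›
  haveI : QuasiSeparated g' := ‹QuasiSeparated g›
  haveI : LocallyOfFinitePresentation (f ≫ g') := ‹LocallyOfFinitePresentation (f ≫ g)›
  haveI : QuasiCompact (f ≫ g') := ‹QuasiCompact (f ≫ g)›
  haveI : QuasiSeparated (f ≫ g') := ‹QuasiSeparated (f ≫ g)›
  obtain ⟨i, Xi, Yi, fi, gi, qX, qY, Fi, h1, h2, h3, h4, h5, h6, h7, h8, h9⟩ :=
    exists_descend_pair_mod (DS (ULift.{u} ℤ) A) (coneS (ULift.{u} ℤ) A)
      (isLimitConeS (ULift.{u} ℤ) A) f g' F hF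
  haveI := h1
  haveI := h3
  exact ⟨_, Xi, Yi, isNoetherian_stage A i, fi, gi, (coneS (ULift.{u} ℤ) A).π.app i, qX, qY, Fi,
    inferInstance, h2, inferInstance, h4, h5, h6, h7, h8, h9⟩

/-- descent of a finitely presented pair with module over an affine scheme to a Noetherian base -/
theorem exists_noetherian_model_pair_mod_of_isAffine {X Y S : Scheme.{u}} [IsAffine S] (f : X ⟶ Y)
    (g : Y ⟶ S)
    [LocallyOfFinitePresentation g] [QuasiCompact g] [QuasiSeparated g]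
    [LocallyOfFinitePresentation (f ≫ g)] [QuasiCompact (f ≫ g)] [QuasiSeparated (f ≫ g)]
    (F : X.Modules) [Coh.IsQCoh F] (hF : CohB1.IsFP F) :
    ∃ (S₀ X₀ Y₀ : Scheme.{u}) (_ : IsNoetherian S₀) (f₀ : X₀ ⟶ Y₀) (g₀ : Y₀ ⟶ S₀)
      (h : S ⟶ S₀) (qX : X ⟶ X₀) (qY : Y ⟶ Y₀) (F₀ : X₀.Modules),
      LocallyOfFiniteType g₀ ∧ QuasiCompact g₀ ∧ LocallyOfFiniteType (f₀ ≫ g₀) ∧
        QuasiCompact (f₀ ≫ g₀) ∧ IsPullback qY g g₀ h ∧ IsPullback qX f f₀ qY ∧
        Coh.IsQCoh F₀ ∧ CohB1.IsFP F₀ ∧ Nonempty ((Scheme.Modules.pullback qX).obj F₀ ≅ F) := by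
  let e : S ⟶ Spec (CommRingCat.of Γ(S, ⊤)) := S.isoSpec.hom
  haveI : IsIso e := inferInstanceAs (IsIso S.isoSpec.hom)
  haveI : LocallyOfFinitePresentation (g ≫ e) := inferInstance
  haveI : QuasiCompact (g ≫ e) := inferInstance
  haveI : QuasiSeparated (g ≫ e) := inferInstance
  haveI : LocallyOfFinitePresentation (f ≫ g ≫ e) := by
    rw [← Category.assoc]; infer_instance
  haveI : QuasiCompact (f ≫ g ≫ e) := by
    rw [← Category.assoc]; infer_instance
  haveI : QuasiSeparated (f ≫ g ≫ e) := by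
    rw [← Category.assoc]; infer_instance
  obtain ⟨S₀, X₀, Y₀, hN, f₀, g₀, h, qX, qY, F₀, h1, h2, h3, h4, h5, h6, h7, h8, h9⟩ :=
    exists_noetherian_model_pair_mod Γ(S, ⊤) f (g ≫ e) F hF
  refine ⟨S₀, X₀, Y₀, hN, f₀, g₀, e ≫ h, qX, qY, F₀, h1, h2, h3, h4, ?_, h6, h7, h8, h9⟩
  have hiso : IsPullback (𝟙 Y) g (g ≫ e) e := IsPullback.of_horiz_isIso ⟨by simp⟩
  have h10 := hiso.paste_horiz h5
  simpa using h10

/-- Over an affine base, for finitely presented `X ⟶ Y ⟶ S`, the locus of fibrewise flatness is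
constructible. -/
theorem isConstructible_fibFlat_of_isAffine {X Y S : Scheme.{u}} [IsAffine S] (f : X ⟶ Y)
    (g : Y ⟶ S)
    [LocallyOfFinitePresentation g] [QuasiCompact g] [QuasiSeparated g]
    [LocallyOfFinitePresentation (f ≫ g)] [QuasiCompact (f ≫ g)] [QuasiSeparated (f ≫ g)]
    (F : X.Modules) [Coh.IsQCoh F] (hF : CohB1.IsFP F) :
    IsConstructible {x : X | FibFlatAt f g F x} := by
  obtain ⟨S₀, X₀, Y₀, hN, f₀, g₀, h, qX, qY, F₀, h1, h2, h3, h4, h5, h6, h7, h8, ⟨ε⟩⟩ :=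
    exists_noetherian_model_pair_mod_of_isAffine f g F hF
  haveI := hN
  haveI := h1
  haveI := h2
  haveI := h3
  haveI := h4
  haveI : F₀.IsQuasicoherent := h7
  have hX : IsPullback qX (f ≫ g) (f₀ ≫ g₀) h := h6.paste_vert h5
  have e : {x : X | FibFlatAt f g F x} = qX ⁻¹' {x₀ : X₀ | FibFlatAt f₀ g₀ F₀ x₀} := by
    ext x
    simp only [Set.mem_setOf_eq, Set.mem_preimage]
    rw [← fibFlatAt_baseChange_iff f₀ g₀ F₀ h qY g h5 qX f hX h6.w x]
    exact fibFlatAt_iff_of_iso f g ε.symm x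
  rw [e]
  exact qX.isConstructible_preimage (isConstructible_fibFlat_noeth f₀ g₀ F₀ h7 h8)

end Affine

section Main

variable {X Y S : Scheme.{u}} (f : X ⟶ Y) (g : Y ⟶ S)

theorem isLocallyConstructible_compl' {T : Type*} [TopologicalSpace T] {s : Set T}
    (hs : IsLocallyConstructible s) : IsLocallyConstructible sᶜ := by
  intro x
  obtain ⟨U, hU, hUo, hc⟩ := hs x
  exact ⟨U, hU, hUo, by rw [Set.preimage_compl]; exact hc.compl⟩

/-- `FibFlatAt` for the restrictions to open subschemes. -/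
theorem fibFlatAt_resLE_iff (F : X.Modules) [F.IsQuasicoherent] (S₀ : S.Opens) (Y₀ : Y.Opens)
    (X₀ : X.Opens) (eY : Y₀ ≤ g ⁻¹ᵁ S₀) (eX : X₀ ≤ f ⁻¹ᵁ Y₀) (x₀ : X₀) :
    FibFlatAt (f.resLE Y₀ X₀ eX) (g.resLE S₀ Y₀ eY) ((Scheme.Modules.pullback X₀.ι).obj F) x₀ ↔
      FibFlatAt f g F (X₀.ι x₀) := by
  have hbij : ∀ {A B : Scheme.{u}} (j : A ⟶ B) [IsOpenImmersion j] (a : A),
      Function.Bijective (j.stalkMap a).hom := fun j _ a =>
    ConcreteCategory.bijective_of_isIso (j.stalkMap a)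
  rw [← fibFlatAt_comp_left f g X₀.ι F x₀ (hbij X₀.ι x₀)]
  rw [← Scheme.Hom.resLE_comp_ι f eX]
  rw [fibFlatAt_comp_mid g (f.resLE Y₀ X₀ eX) Y₀.ι _ x₀ (hbij Y₀.ι _)]
  rw [← Scheme.Hom.resLE_comp_ι g eY]
  rw [fibFlatAt_comp_right (f.resLE Y₀ X₀ eX) (g.resLE S₀ Y₀ eY) S₀.ι _ x₀ (hbij S₀.ι _)]

/-- Constructibility on an affine open chart. -/
theorem isConstructible_fibFlat_restrict [LocallyOfFinitePresentation g]
    [LocallyOfFinitePresentation (f ≫ g)] (F : X.Modules) [Coh.IsQCoh F] (hF : CohB1.IsFP F)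
    (S₀ : S.Opens) (Y₀ : Y.Opens) (X₀ : X.Opens) (hS₀ : IsAffineOpen S₀) (hY₀ : IsAffineOpen Y₀)
    (hX₀ : IsAffineOpen X₀) (eY : Y₀ ≤ g ⁻¹ᵁ S₀) (eX : X₀ ≤ f ⁻¹ᵁ Y₀) :
    IsConstructible ((X₀ : Set X) ↓∩ {x : X | FibFlatAt f g F x}) := by
  haveI : F.IsQuasicoherent := ‹Coh.IsQCoh F›
  haveI := hF
  haveI : IsAffine (S₀ : Scheme.{u}) := hS₀
  haveI : IsAffine (Y₀ : Scheme.{u}) := hY₀
  haveI : IsAffine (X₀ : Scheme.{u}) := hX₀
  have hset : ((X₀ : Set X) ↓∩ {x : X | FibFlatAt f g F x}) =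
      {x₀ : X₀ | FibFlatAt (f.resLE Y₀ X₀ eX) (g.resLE S₀ Y₀ eY)
        ((Scheme.Modules.pullback X₀.ι).obj F) x₀} := by
    ext x₀
    exact (fibFlatAt_resLE_iff f g F S₀ Y₀ X₀ eY eX x₀).symm
  rw [hset]
  haveI : LocallyOfFinitePresentation (g.resLE S₀ Y₀ eY) := inferInstance
  haveI : LocallyOfFinitePresentation (f.resLE Y₀ X₀ eX ≫ g.resLE S₀ Y₀ eY) := by
    rw [Scheme.Hom.resLE_comp_resLE]
    infer_instance
  haveI : Coh.IsQCoh ((Scheme.Modules.pullback X₀.ι).obj F) :=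
    PBH8.isQuasicoherent_pullback X₀.ι F
  exact isConstructible_fibFlat_of_isAffine (f.resLE Y₀ X₀ eX) (g.resLE S₀ Y₀ eY)
    ((Scheme.Modules.pullback X₀.ι).obj F) (FpqcH8.isFP_pullback X₀.ι F)

/-- **EGA IV 11.2.8** (pointwise form with the stalk condition). -/
theorem isLocallyConstructible_fibFlat [LocallyOfFinitePresentation g]
    [LocallyOfFinitePresentation (f ≫ g)] (F : X.Modules) [Coh.IsQCoh F] (hF : CohB1.IsFP F) :
    IsLocallyConstructible {x : X | FibFlatAt f g F x} := by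
  intro x
  obtain ⟨_, ⟨S₀, hS₀, rfl⟩, hsS₀, -⟩ :=
    S.isBasis_affineOpens.exists_subset_of_mem_open (Set.mem_univ (g (f x))) isOpen_univ
  obtain ⟨_, ⟨Y₀, hY₀, rfl⟩, hyY₀, eY⟩ :=
    Y.isBasis_affineOpens.exists_subset_of_mem_open (show f x ∈ g ⁻¹ᵁ S₀ from hsS₀)
      (g ⁻¹ᵁ S₀).isOpen
  obtain ⟨_, ⟨X₀, hX₀, rfl⟩, hxX₀, eX⟩ :=
    X.isBasis_affineOpens.exists_subset_of_mem_open (show x ∈ f ⁻¹ᵁ Y₀ from hyY₀)
      (f ⁻¹ᵁ Y₀).isOpen
  exact ⟨X₀, X₀.2.mem_nhds hxX₀, X₀.2,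
    isConstructible_fibFlat_restrict f g F hF S₀ Y₀ X₀ hS₀ hY₀ hX₀ eY eX⟩

/-- **S4868.** -/
theorem main4868 (h : Y ⟶ S) (g' : X ⟶ S) (w : f ≫ h = g')
    [LocallyOfFinitePresentation g'] [QuasiCompact g'] [QuasiSeparated g']
    [LocallyOfFinitePresentation h] [QuasiCompact h] [QuasiSeparated h]
    (F : X.Modules) [Coh.IsQCoh F] (hF : CohB1.IsFP F) :
    IsLocallyConstructible {s : S | ∀ x : X, g' x = s → FibFlatAt f h F x} := by
  subst w
  have hE := isLocallyConstructible_fibFlat f h F hF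
  have hset : {s : S | ∀ x : X, (f ≫ h) x = s → FibFlatAt f h F x} =
      ((f ≫ h) '' {x : X | FibFlatAt f h F x}ᶜ)ᶜ := by
    ext s
    simp only [Set.mem_setOf_eq, Set.mem_compl_iff, Set.mem_image, not_exists, not_and, not_not]
    constructor
    · intro H x hx hxs
      exact hx (H x hxs)
    · intro H x hxs
      by_contra hcon
      exact H x hcon hxs
  rw [hset]
  exact isLocallyConstructible_compl'
    ((f ≫ h).isLocallyConstructible_image (isLocallyConstructible_compl' hE))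

theorem isField_stalk_of_subsingleton (T : Scheme.{u}) [IsIntegral T] [Subsingleton T] (p : T) :
    IsField (T.presheaf.stalk p) := by
  have hp : p = genericPoint T := Subsingleton.elim _ _
  rw [hp]
  exact Field.toIsField T.functionField

/-- Flatness on an arbitrary model of the fibres is the stalk condition. -/
theorem isFlatOverAt_model_iff (F : X.Modules) [F.IsQuasicoherent] (s : S)
    {Xs Ys : Scheme.{u}} (ιX : Xs ⟶ X) (ιY : Ys ⟶ Y) (fs : Xs ⟶ Ys)
    (pY : Ys ⟶ Spec (S.residueField s))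
    (sq1 : IsPullback ιY pY g (S.fromSpecResidueField s)) (sq2 : IsPullback ιX fs f ιY)
    (x' : Xs) :
    FlatMod.IsFlatOverAt fs ((Scheme.Modules.pullback ιX).obj F) x' ↔
      FibFlatAt f g F (ιX x') := by
  have hX : IsPullback ιX (fs ≫ pY) (f ≫ g) (S.fromSpecResidueField s) := sq2.paste_vert sq1
  rw [← fibFlatAt_baseChange_iff f g F (S.fromSpecResidueField s) ιY pY sq1 ιX fs hX sq2.w x']
  exact (fibFlatAt_iff_of_isField fs pY _ x'
    (isField_stalk_of_subsingleton (Spec (S.residueField s)) _)).symm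

/-- **S5948.** -/
theorem main5948 (g' : X ⟶ S) (h : Y ⟶ S)
    [LocallyOfFinitePresentation g'] [LocallyOfFinitePresentation h] (w : f ≫ h = g')
    (F : X.Modules) [Coh.IsQCoh F] (hF : CohB1.IsFP F) :
    IsLocallyConstructible {x : ↥X | ∀ (Xs Ys : Scheme.{u}) (ιX : Xs ⟶ X) (ιY : Ys ⟶ Y)
      (fs : Xs ⟶ Ys) (pY : Ys ⟶ Spec (S.residueField (g'.base x))),
      IsPullback ιY pY h (S.fromSpecResidueField (g'.base x)) → IsPullback ιX fs f ιY →
        ∀ x' : ↥Xs, ιX.base x' = x →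
          FlatMod.IsFlatOverAt fs ((Scheme.Modules.pullback ιX).obj F) x'} := by
  subst w
  haveI : F.IsQuasicoherent := ‹Coh.IsQCoh F›
  have hset : {x : ↥X | ∀ (Xs Ys : Scheme.{u}) (ιX : Xs ⟶ X) (ιY : Ys ⟶ Y)
      (fs : Xs ⟶ Ys) (pY : Ys ⟶ Spec (S.residueField ((f ≫ h).base x))),
      IsPullback ιY pY h (S.fromSpecResidueField ((f ≫ h).base x)) → IsPullback ιX fs f ιY →
        ∀ x' : ↥Xs, ιX.base x' = x →
          FlatMod.IsFlatOverAt fs ((Scheme.Modules.pullback ιX).obj F) x'} =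
      {x : X | FibFlatAt f h F x} := by
    ext x
    simp only [Set.mem_setOf_eq]
    constructor
    · intro H
      have h1 := H ((f ≫ h).fiber ((f ≫ h) x)) (h.fiber ((f ≫ h) x)) ((f ≫ h).fiberι _)
        (h.fiberι _) (MoreMor.fiberMap f h _) (h.fiberToSpecResidueField _)
        (IsPullback.of_hasPullback _ _) (Groth.Agent.Lib.FibCritH8.isPullback_fiberMap f h _) ((f ≫ h).asFiber x)
        ((f ≫ h).fiberι_asFiber x)
      have h2 := fibFlatAt_of_fiber f h F _ _ h1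
      rwa [(f ≫ h).fiberι_asFiber x] at h2
    · intro hx Xs Ys ιX ιY fs pY sq1 sq2 x' hx'
      rw [isFlatOverAt_model_iff f h F _ ιX ιY fs pY sq1 sq2 x', hx']
      exact hx
  rw [hset]
  exact isLocallyConstructible_fibFlat f h F hF

end Main

end Groth.Agent.Lib.FibFlatH2
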