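import Mathlib
import Groth.Prelude.Def_FlatMod2
import Groth.Prelude.Def_MoreMor
import Groth.Prelude.Def_Coh
import Groth.Prelude.Def_CohB1
import Groth.Agent.Lib.FlatLocBC2_helper2
import Groth.Agent.Lib.GenFlatSch_helper8
import Groth.Agent.Lib.Constr_lead

/-!
# Non-flatness of the generic fibre spreads out (helper2)

`g : X ⟶ Y`, `h : Y ⟶ S` of finite type over an integral Noetherian scheme `S`, `F` coherent on `X`.
If `F_η` is not flat relative to `g_η` then `F_s` is not flat relative to `g_s` for `s` near `η`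
(S4833).  Assembly of generic flatness, openness of the relative flat locus (S4863), the fibrewise
criterion of flatness (pointwise form of S1441) and Chevalley's theorem.
APPEND-ONLY once landed.
-/

set_option autoImplicit false
set_option maxHeartbeats 1000000
open AlgebraicGeometry CategoryTheory CategoryTheory.Limits TopologicalSpace TensorProduct Topology
universe u

namespace Groth.Agent.Lib.NonFlatGen

open Groth.Agent.FibMapFlat Groth.Agent.Lib.FibCritH8 IsLocalRing Groth.Agent.Lib.FlatLocBC

variable {X Y S : Scheme.{u}} (f : X ⟶ Y) (g : Y ⟶ S)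

/-- Pointwise form of `FlatLocBC.isFlatOverAt_of_baseChange`: only flatness of `F` over `S` at the
image point is needed. -/
theorem isFlatOverAt_of_baseChange_at [LocallyOfFinitePresentation (f ≫ g)] [LocallyOfFiniteType g]
    (F : X.Modules) (hq : Coh.IsQCoh F) (hfp : CohB1.IsFP F)
    {X' Y' S' : Scheme.{u}} (h : S' ⟶ S) (gY : Y' ⟶ Y) (g' : Y' ⟶ S')
    (hY : IsPullback gY g' g h) (gX : X' ⟶ X) (f' : X' ⟶ Y')
    (hX : IsPullback gX (f' ≫ g') (f ≫ g) h) (w : gX ≫ f = f' ≫ gY)
    (x' : X') (hfl : FlatMod.IsFlatOverAt (f ≫ g) F (gX x'))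
    (H : FlatMod.IsFlatOverAt f' ((Scheme.Modules.pullback gX).obj F) x') :
    FlatMod.IsFlatOverAt f F (gX x') := by
  haveI : F.IsQuasicoherent := hq
  have sqU : IsPullback gX f' f gY := IsPullback.of_bot hX w hY
  obtain ⟨s', hs'⟩ : ∃ s' : S', s' = (f' ≫ g') x' := ⟨_, rfl⟩
  obtain ⟨z', hz'x⟩ : ∃ z' : ((f' ≫ g').fiber s' : Scheme.{u}), ((f' ≫ g').fiberι s') z' = x' := by
    subst hs'
    exact ⟨(f' ≫ g').asFiber x', (f' ≫ g').fiberι_asFiber x'⟩
  have H₁ : FlatMod.IsFlatOverAt (MoreMor.fiberMap f' g' s')
      ((Scheme.Modules.pullback ((f' ≫ g').fiberι s')).obj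
        ((Scheme.Modules.pullback gX).obj F)) z' := by
    refine FlatBC2H8.isFlatOverAt_pullback (isPullback_fiberMap f' g' s') _ z' ?_
    rw [hz'x]; exact H
  let α : (Scheme.Modules.pullback ((f' ≫ g').fiberι s')).obj
        ((Scheme.Modules.pullback gX).obj F) ≅
      (Scheme.Modules.pullback (fibMap hX s')).obj
        ((Scheme.Modules.pullback ((f ≫ g).fiberι (h s'))).obj F) :=
    (Scheme.Modules.pullbackComp ((f' ≫ g').fiberι s') gX).app F ≪≫
      (Scheme.Modules.pullbackCongr (fibMap_fiberι hX s').symm).app F ≪≫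
      ((Scheme.Modules.pullbackComp (fibMap hX s') ((f ≫ g).fiberι (h s'))).app F).symm
  have H₂ := isFlatOverAt_of_iso (MoreMor.fiberMap f' g' s') α z' H₁
  haveI : Flat (fibMap hY s') := flat_fibMap hY s'
  have H₃ := FlatBC2H8.isFlatOverAt_of_pullback (fiber_square f g h gY g' gX f' hY sqU hX s')
    ((Scheme.Modules.pullback ((f ≫ g).fiberι (h s'))).obj F) z' (Flat.stalkMap _ _) H₂
  have H₄ := fibFlatAt_of_fiber f g F (h s') (fibMap hX s' z') H₃
  have hpt : ((f ≫ g).fiberι (h s')) (fibMap hX s' z') = gX x' := by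
    rw [fiberι_fibMap_apply, hz'x]
  rw [hpt] at H₄
  by_cases hx : Nontrivial ↑(F.presheaf.stalk (gX x'))
  · exact ((Groth.Agent.S1483.result f g F hq hfp (gX x') hx).mp ⟨hfl, H₄⟩).2
  · rw [not_nontrivial_iff_subsingleton] at hx
    unfold FlatMod.IsFlatOverAt
    letI := FlatMod.moduleStalkOver f F (gX x')
    haveI := hx
    infer_instance

/-- **S4833.** -/
theorem main4833 {X Y S : Scheme.{u}} [IsIntegral S] [IsNoetherian S]
    (g : X ⟶ Y) (h : Y ⟶ S) [LocallyOfFiniteType h] [QuasiCompact h]
    [LocallyOfFiniteType (g ≫ h)] [QuasiCompact (g ≫ h)]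
    (F : X.Modules) [Coh.IsQCoh F] (hF : CohB1.IsFP F)
    (hη : ¬ FlatMod.IsFlatOver
      (pullback.lift (pullback.fst (g ≫ h) (S.fromSpecResidueField (genericPoint S)) ≫ g)
          (pullback.snd (g ≫ h) (S.fromSpecResidueField (genericPoint S)))
          ((Category.assoc _ _ _).trans pullback.condition) :
        pullback (g ≫ h) (S.fromSpecResidueField (genericPoint S)) ⟶
          pullback h (S.fromSpecResidueField (genericPoint S)))
      ((Scheme.Modules.pullback
        (pullback.fst (g ≫ h) (S.fromSpecResidueField (genericPoint S)))).obj F)) :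
    ∃ U : S.Opens, genericPoint S ∈ U ∧ ∀ s ∈ U, ¬ FlatMod.IsFlatOver
      (pullback.lift (pullback.fst (g ≫ h) (S.fromSpecResidueField s) ≫ g)
          (pullback.snd (g ≫ h) (S.fromSpecResidueField s))
          ((Category.assoc _ _ _).trans pullback.condition) :
        pullback (g ≫ h) (S.fromSpecResidueField s) ⟶ pullback h (S.fromSpecResidueField s))
      ((Scheme.Modules.pullback (pullback.fst (g ≫ h) (S.fromSpecResidueField s))).obj F) := by
  classical
  have hq : Coh.IsQCoh F := inferInstance
  haveI : F.IsQuasicoherent := hq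
  haveI : SheafOfModules.IsFinitePresentation (R := X.ringCatSheaf) F := hF
  haveI : SheafOfModules.IsFiniteType (R := X.ringCatSheaf) F := inferInstance
  haveI : LocallyOfFinitePresentation (g ≫ h) := inferInstance
  haveI : LocallyOfFinitePresentation g := FibMorConsH8.lfp_of_comp g h
  -- the squares
  have hYs : ∀ s : S, IsPullback (pullback.fst h (S.fromSpecResidueField s))
      (pullback.snd h (S.fromSpecResidueField s)) h (S.fromSpecResidueField s) :=
    fun s => IsPullback.of_hasPullback _ _
  have hXs : ∀ s : S, IsPullback (pullback.fst (g ≫ h) (S.fromSpecResidueField s))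
      ((pullback.lift (pullback.fst (g ≫ h) (S.fromSpecResidueField s) ≫ g)
          (pullback.snd (g ≫ h) (S.fromSpecResidueField s))
          ((Category.assoc _ _ _).trans pullback.condition) :
        pullback (g ≫ h) (S.fromSpecResidueField s) ⟶ pullback h (S.fromSpecResidueField s)) ≫
        pullback.snd h (S.fromSpecResidueField s)) (g ≫ h) (S.fromSpecResidueField s) := by
    intro s
    rw [pullback.lift_snd]
    exact IsPullback.of_hasPullback _ _
  have hws : ∀ s : S, pullback.fst (g ≫ h) (S.fromSpecResidueField s) ≫ g =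
      (pullback.lift (pullback.fst (g ≫ h) (S.fromSpecResidueField s) ≫ g)
          (pullback.snd (g ≫ h) (S.fromSpecResidueField s))
          ((Category.assoc _ _ _).trans pullback.condition) :
        pullback (g ≫ h) (S.fromSpecResidueField s) ⟶ pullback h (S.fromSpecResidueField s)) ≫
        pullback.fst h (S.fromSpecResidueField s) := fun s => (pullback.lift_fst _ _ _).symm
  -- points of the fibre lie over `s`
  have hover : ∀ (s : S) (x' : ↑(pullback (g ≫ h) (S.fromSpecResidueField s))),
      (g ≫ h) (pullback.fst (g ≫ h) (S.fromSpecResidueField s) x') = s := by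
    intro s x'
    rw [← Scheme.Hom.comp_apply, pullback.condition, Scheme.Hom.comp_apply,
      Scheme.fromSpecResidueField_apply]
  -- generic flatness
  obtain ⟨U₀, hU₀ne, hU₀⟩ := GenFlatSchH8.generic_flat (g ≫ h) F
  have hηU₀ : genericPoint S ∈ U₀ := by
    have := ((genericPoint_spec S).mem_open_set_iff U₀.2).mpr (by simpa using hU₀ne)
    exact this
  -- the relative flat locus
  have hW : IsOpen {x : X | FlatMod.IsFlatOverAt g F x} := Groth.Agent.S4863.result g F hF
  -- `X` is Noetherian
  haveI : IsLocallyNoetherian X := LocallyOfFiniteType.isLocallyNoetherian (g ≫ h)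
  haveI : CompactSpace X := QuasiCompact.compactSpace_of_compactSpace (g ≫ h)
  haveI : IsNoetherian X := {}
  have hZcons : IsConstructible {x : X | ¬ FlatMod.IsFlatOverAt g F x} := by
    have h1 : IsConstructible {x : X | FlatMod.IsFlatOverAt g F x} :=
      (NoetherianSpace.isCompact _).isConstructible hW
    have h2 := h1.compl
    exact h2
  have hE : IsConstructible ((g ≫ h) '' {x : X | ¬ FlatMod.IsFlatOverAt g F x}) :=
    Scheme.Hom.isConstructible_image (g ≫ h) hZcons
  -- the generic point is in the image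
  have hηE : genericPoint S ∈ (g ≫ h) '' {x : X | ¬ FlatMod.IsFlatOverAt g F x} := by
    by_contra hne
    apply hη
    intro x'
    have hx : FlatMod.IsFlatOverAt g F
        (pullback.fst (g ≫ h) (S.fromSpecResidueField (genericPoint S)) x') := by
      by_contra hx
      exact hne ⟨_, hx, hover _ x'⟩
    exact FlatBC2H8.isFlatOverAt_pullback
      (IsPullback.of_bot (hXs (genericPoint S)) (hws (genericPoint S)) (hYs (genericPoint S)))
      F x' hx
  obtain ⟨U, hU, hηU, hsub⟩ :=
    Groth.Agent.Lib.Constr_lead.exists_open_generic_of_isConstructible hE (genericPoint_spec S)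
  rcases hsub with hsub | hsub
  swap
  · exact absurd hηE (hsub ⟨hηU, trivial⟩)
  refine ⟨⟨U, hU⟩ ⊓ U₀, ⟨hηU, hηU₀⟩, ?_⟩
  intro s hs hflat
  obtain ⟨x, hxZ, hxs⟩ := hsub ⟨hs.1, trivial⟩
  obtain ⟨pt⟩ : Nonempty ↑(Spec (S.residueField s)) := inferInstance
  obtain ⟨x', hx', -⟩ := Scheme.Pullback.exists_preimage_pullback (f := g ≫ h)
    (g := S.fromSpecResidueField s) x pt (by rw [Scheme.fromSpecResidueField_apply]; exact hxs)
  apply hxZ
  have hflx : FlatMod.IsFlatOverAt (g ≫ h) F
      (pullback.fst (g ≫ h) (S.fromSpecResidueField s) x') := by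
    apply hU₀
    rw [hx']
    have : (g ≫ h) x = s := hxs
    rw [this]
    exact hs.2
  have key := isFlatOverAt_of_baseChange_at g h F hq hF (S.fromSpecResidueField s)
    (pullback.fst h (S.fromSpecResidueField s)) (pullback.snd h (S.fromSpecResidueField s))
    (hYs s) (pullback.fst (g ≫ h) (S.fromSpecResidueField s)) _ (hXs s) (hws s) x' hflx (hflat x')
  rw [hx'] at key
  exact key

end Groth.Agent.Lib.NonFlatGen
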