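import Mathlib
import Groth.Prelude.Def_EGA4Misc
import Groth.Prelude.Def_FlatMod2
import Groth.Agent.Lib.ConsMod1_helper2
import Groth.Agent.Lib.NonFlatGen_helper2
import Groth.Agent.Lib.ConsMor1_helper7
import Groth.Agent.Lib.TFFree_helper8
import Groth.Agent.Lib.FLF8_helper8
import Groth.Agent.Lib.CohDev17_helper8
import Groth.Agent.Lib.Fpqc1_helper8
import Groth.Agent.Lib.PB10_helper8

/-!
# Local constructibility of the set of points over which the fibre module is locally free
(EGA IV 9.4.7) (helper2)

`FreeQ Q F x`: the stalk `F_x` is free over `O_{X,x}` of a rank satisfying `Q`.  The relation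
"all stalks are free of a rank satisfying `Q`" is a constructible property of algebraic schemes with
a coherent module (`isConsMod_freeQ`): field-stability by faithfully flat descent on stalks, the
generic dichotomy by generic flatness, the fibrewise criterion of flatness (pointwise S1441 with
`Y = X`) and Chevalley's theorem.  Then S5878 gives S4819 (`Q = True`) and S4820 (`Q = (· = n)`).
APPEND-ONLY once landed.
-/

set_option autoImplicit false
set_option maxHeartbeats 1000000
set_option linter.style.haveILetI false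
set_option linter.unusedVariables false
universe u
open CategoryTheory CategoryTheory.Limits AlgebraicGeometry TopologicalSpace Topology TensorProduct

namespace Groth.Agent.Lib.FibFreeH2

/-- The stalk `F_x` is free over `O_{X,x}` of a rank satisfying `Q`. -/
def FreeQ (Q : ℕ → Prop) {X : Scheme.{u}} (F : X.Modules) (x : X) : Prop :=
  Module.Free (X.presheaf.stalk x) (F.presheaf.stalk x) ∧
    Q (Module.finrank (X.presheaf.stalk x) (F.presheaf.stalk x))

variable {Q : ℕ → Prop}

theorem freeQ_of_iso {X : Scheme.{u}} {M N : X.Modules} (e : M ≅ N) (x : X)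
    (h : FreeQ Q M x) : FreeQ Q N x := by
  obtain ⟨h1, h2⟩ := h
  haveI := h1
  let E := CohDevH8.stalkEquivOfIso e x
  exact ⟨Module.Free.of_equiv E, by rw [← E.finrank_eq]; exact h2⟩

/-- Freeness of a stalk passes to the pullback, with the same rank. -/
theorem freeQ_pullback {X Y : Scheme.{u}} (f : X ⟶ Y) (F : Y.Modules) [F.IsQuasicoherent]
    (x : X) (h : FreeQ Q F (f x)) : FreeQ Q ((Scheme.Modules.pullback f).obj F) x := by
  obtain ⟨h1, h2⟩ := h
  haveI := h1
  letI algOO : Algebra (Y.presheaf.stalk (f x)) (X.presheaf.stalk x) :=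
    (f.stalkMap x).hom.toAlgebra
  letI modOG : Module (Y.presheaf.stalk (f x))
      (((Scheme.Modules.pullback f).obj F).presheaf.stalk x) :=
    Module.compHom _ (f.stalkMap x).hom
  haveI : IsScalarTower (Y.presheaf.stalk (f x)) (X.presheaf.stalk x)
      (((Scheme.Modules.pullback f).obj F).presheaf.stalk x) :=
    IsScalarTower.of_algebraMap_smul fun _ _ => rfl
  have hbc : IsBaseChange (X.presheaf.stalk x) (PBH8.cStalkLin f F x) :=
    PBH8.isBaseChange_cStalk f F x
  let E := hbc.equiv
  refine ⟨Module.Free.of_equiv E, ?_⟩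
  rw [← E.finrank_eq, Module.finrank_baseChange]
  exact h2

/-- Freeness of a stalk descends along a flat stalk map, with the same rank. -/
theorem freeQ_of_pullback {X Y : Scheme.{u}} (f : X ⟶ Y) (F : Y.Modules) [F.IsQuasicoherent]
    [SheafOfModules.IsFiniteType (R := Y.ringCatSheaf) F] (x : X)
    (hfl : (f.stalkMap x).hom.Flat)
    (h : FreeQ Q ((Scheme.Modules.pullback f).obj F) x) : FreeQ Q F (f x) := by
  obtain ⟨h1, h2⟩ := h
  haveI := h1
  letI algOO : Algebra (Y.presheaf.stalk (f x)) (X.presheaf.stalk x) :=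
    (f.stalkMap x).hom.toAlgebra
  letI modOG : Module (Y.presheaf.stalk (f x))
      (((Scheme.Modules.pullback f).obj F).presheaf.stalk x) :=
    Module.compHom _ (f.stalkMap x).hom
  haveI : IsScalarTower (Y.presheaf.stalk (f x)) (X.presheaf.stalk x)
      (((Scheme.Modules.pullback f).obj F).presheaf.stalk x) :=
    IsScalarTower.of_algebraMap_smul fun _ _ => rfl
  have hbc : IsBaseChange (X.presheaf.stalk x) (PBH8.cStalkLin f F x) :=
    PBH8.isBaseChange_cStalk f F x
  let E := hbc.equiv
  haveI : Module.Flat (Y.presheaf.stalk (f x)) (X.presheaf.stalk x) := hfl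
  haveI : IsLocalHom (algebraMap (Y.presheaf.stalk (f x)) (X.presheaf.stalk x)) :=
    (inferInstance : IsLocalHom (f.stalkMap x).hom)
  haveI : Module.FaithfullyFlat (Y.presheaf.stalk (f x)) (X.presheaf.stalk x) :=
    Module.FaithfullyFlat.of_flat_of_isLocalHom
  haveI : Module.Free (X.presheaf.stalk x)
      ((X.presheaf.stalk x) ⊗[Y.presheaf.stalk (f x)] (F.presheaf.stalk (f x))) :=
    Module.Free.of_equiv E.symm
  haveI : Module.Flat (X.presheaf.stalk x)
      ((X.presheaf.stalk x) ⊗[Y.presheaf.stalk (f x)] (F.presheaf.stalk (f x))) := inferInstance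
  haveI : Module.Flat (Y.presheaf.stalk (f x)) (F.presheaf.stalk (f x)) :=
    FpqcH8.flat_of_faithfullyFlat (T := X.presheaf.stalk x)
  haveI : Module.Finite (Y.presheaf.stalk (f x)) (F.presheaf.stalk (f x)) :=
    FLFH8.finite_stalk F (f x)
  haveI : Module.Free (Y.presheaf.stalk (f x)) (F.presheaf.stalk (f x)) :=
    Module.free_of_flat_of_isLocalRing
  refine ⟨inferInstance, ?_⟩
  have e1 : Module.finrank (X.presheaf.stalk x)
      ((X.presheaf.stalk x) ⊗[Y.presheaf.stalk (f x)] (F.presheaf.stalk (f x))) =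
      Module.finrank (Y.presheaf.stalk (f x)) (F.presheaf.stalk (f x)) :=
    Module.finrank_baseChange
  rw [← e1, E.finrank_eq]
  exact h2

/-- The locus where the stalk is free of a rank satisfying `Q` is open. -/
theorem isOpen_setOf_freeQ (Q : ℕ → Prop) {X : Scheme.{u}} (F : X.Modules) [F.IsQuasicoherent]
    [SheafOfModules.IsFinitePresentation (R := X.ringCatSheaf) F] :
    IsOpen {x : X | FreeQ Q F x} := by
  rw [isOpen_iff_forall_mem_open]
  intro x hx
  obtain ⟨_, ⟨V, hV : IsAffineOpen V, rfl⟩, hxV, -⟩ :=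
    X.isBasis_affineOpens.exists_subset_of_mem_open (Set.mem_univ x) isOpen_univ
  have hxV' : x ∈ V := hxV
  haveI : Module.FinitePresentation Γ(X, V) Γ(F, V) :=
    QCohFP2.finitePresentation_of_isFinitePresentation F hV
  obtain ⟨f, hxf, r, g, hg, hli⟩ := FLFH8.exists_basis_basicOpen F hV hxV' hx.1
  have hr : Q r := by
    have := (FLFH8.free_stalk_of_basis F (hV.basicOpen f) hxf g hg hli).2
    rw [← this]
    exact hx.2
  refine ⟨X.basicOpen f, ?_, (X.basicOpen f).2, hxf⟩
  intro y hy
  obtain ⟨h1, h2⟩ := FLFH8.free_stalk_of_basis F (hV.basicOpen f) hy g hg hli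
  exact ⟨h1, by rw [h2]; exact hr⟩

theorem isFinLocFree_iff {X : Scheme.{u}} (F : X.Modules) [F.IsQuasicoherent]
    [SheafOfModules.IsFinitePresentation (R := X.ringCatSheaf) F] :
    FlatMod.IsFinLocFree F ↔ ∀ x : X, FreeQ (fun _ => True) F x :=
  ⟨fun h x => ⟨FLFH8.free_stalk_of_finLocFree F h x, trivial⟩,
    fun h x => FLFH8.exists_free_nhd F x (h x).1⟩

theorem isFinLocFreeOfRank_iff {X : Scheme.{u}} (F : X.Modules) [F.IsQuasicoherent]
    [SheafOfModules.IsFinitePresentation (R := X.ringCatSheaf) F] (n : ℕ) :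
    FlatMod.IsFinLocFreeOfRank n F ↔ ∀ x : X, FreeQ (fun r => r = n) F x := by
  constructor
  · intro h x
    exact FLFH8.free_stalk_of_finLocFreeOfRank F h x
  · intro h x
    obtain ⟨_, ⟨V, hV : IsAffineOpen V, rfl⟩, hxV, -⟩ :=
      X.isBasis_affineOpens.exists_subset_of_mem_open (Set.mem_univ x) isOpen_univ
    have hxV' : x ∈ V := hxV
    haveI : Module.FinitePresentation Γ(X, V) Γ(F, V) :=
      QCohFP2.finitePresentation_of_isFinitePresentation F hV
    obtain ⟨f, hxf, r, g, hg, hli⟩ := FLFH8.exists_basis_basicOpen F hV hxV' (h x).1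
    have hr : r = n := by
      have := (FLFH8.free_stalk_of_basis F (hV.basicOpen f) hxf g hg hli).2
      rw [← this]
      exact (h x).2
    subst hr
    exact ⟨X.basicOpen f, hxf, FLFH8.iso_of_basis F (hV.basicOpen f) g hg hli⟩

/-- Flatness over the identity is flatness of the stalk. -/
theorem isFlatOverAt_id_iff {X : Scheme.{u}} (F : X.Modules) (x : X) :
    FlatMod.IsFlatOverAt (𝟙 X) F x ↔
      Module.Flat (X.presheaf.stalk x) (F.presheaf.stalk x) := by
  have key : @Eq (Module (X.presheaf.stalk x) (F.presheaf.stalk x))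
      (FlatMod.moduleStalkOver (𝟙 X) F x)
      (inferInstance : Module (X.presheaf.stalk x) (F.presheaf.stalk x)) := by
    refine Module.ext' _ _ (fun (r : X.presheaf.stalk x) (m : F.presheaf.stalk x) => ?_)
    have h1 : ((𝟙 X : X ⟶ X).stalkMap x).hom r = r := by
      rw [Scheme.Hom.stalkMap_id]
      rfl
    show (((𝟙 X : X ⟶ X).stalkMap x).hom r : X.presheaf.stalk x) • m = r • m
    rw [h1]
  unfold FlatMod.IsFlatOverAt
  show @Module.Flat (X.presheaf.stalk x) (F.presheaf.stalk x) _ _
    (FlatMod.moduleStalkOver (𝟙 X) F x) ↔ _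
  rw [key]

/-- Fibrewise criterion: if `F` is flat over `S` at `x`, freeness of the stalk of the base change
at a point over `x` implies freeness of `F_x`, with the same rank. -/
theorem freeQ_of_baseChange {X S X' S' : Scheme.{u}} (u : X ⟶ S)
    [LocallyOfFinitePresentation u] (F : X.Modules) [Coh.IsQCoh F] (hF : CohB1.IsFP F)
    (h : S' ⟶ S) (gX : X' ⟶ X) (u' : X' ⟶ S') (sq : IsPullback gX u' u h) (x' : X')
    (hfl : FlatMod.IsFlatOverAt u F (gX x'))
    (H : FreeQ Q ((Scheme.Modules.pullback gX).obj F) x') : FreeQ Q F (gX x') := by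
  have hq : Coh.IsQCoh F := inferInstance
  haveI : F.IsQuasicoherent := hq
  haveI : SheafOfModules.IsFinitePresentation (R := X.ringCatSheaf) F := hF
  haveI : SheafOfModules.IsFiniteType (R := X.ringCatSheaf) F := inferInstance
  haveI : LocallyOfFinitePresentation (𝟙 X ≫ u) := by
    rw [Category.id_comp]; infer_instance
  haveI : LocallyOfFiniteType u := inferInstance
  have hX : IsPullback gX (𝟙 X' ≫ u') (𝟙 X ≫ u) h := by
    rw [Category.id_comp, Category.id_comp]; exact sq
  have hfl' : FlatMod.IsFlatOverAt (𝟙 X ≫ u) F (gX x') := by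
    rw [Category.id_comp]; exact hfl
  haveI := H.1
  have H' : FlatMod.IsFlatOverAt (𝟙 X') ((Scheme.Modules.pullback gX).obj F) x' :=
    (isFlatOverAt_id_iff _ x').mpr inferInstance
  have key := Groth.Agent.Lib.NonFlatGen.isFlatOverAt_of_baseChange_at (𝟙 X) u F hq hF h gX u' sq
    gX (𝟙 X') hX (by simp) x' hfl' H'
  haveI : Module.Flat (X.presheaf.stalk (gX x')) (F.presheaf.stalk (gX x')) :=
    (isFlatOverAt_id_iff F (gX x')).mp key
  haveI : Module.Finite (X.presheaf.stalk (gX x')) (F.presheaf.stalk (gX x')) :=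
    FLFH8.finite_stalk F (gX x')
  haveI : Module.Free (X.presheaf.stalk (gX x')) (F.presheaf.stalk (gX x')) :=
    Module.free_of_flat_of_isLocalRing
  have hrk := freeQ_pullback
    (Q := fun r => r = Module.finrank (X.presheaf.stalk (gX x')) (F.presheaf.stalk (gX x')))
    gX F x' ⟨inferInstance, rfl⟩
  exact ⟨inferInstance, by rw [← hrk.2]; exact H.2⟩

/-- "All stalks are free of a rank satisfying `Q`" is a constructible property of algebraic schemes
with a coherent module. -/
theorem isConsMod_freeQ (Q : ℕ → Prop) :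
    ConsProp.IsConsMod.{u} (fun Y T g G => ∀ y : Y, FreeQ Q G y) := by
  refine ⟨?_, ?_⟩
  · intro Y Y' T T' g g' e h _ _ _ _ _ _ sq F F' hF α
    haveI : F.IsQuasicoherent := hF.1
    haveI : SheafOfModules.IsFiniteType (R := Y.ringCatSheaf) F := hF.2
    have he := Groth.Agent.Lib.ConsPairH7.fpqc_of_isPullback sq
      (Groth.Agent.Lib.ConsPairH7.fpqc_of_subsingleton h)
    haveI : Surjective e := he.1.1
    haveI : Flat e := he.1.2
    constructor
    · intro H y'
      exact freeQ_of_iso α.symm y' (freeQ_pullback e F y' (H (e y')))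
    · intro H y
      obtain ⟨y', rfl⟩ := e.surjective y
      exact freeQ_of_pullback e F y' (Flat.stalkMap e y') (freeQ_of_iso α y' (H y'))
  · intro X S u _ _ _ _ F hF
    classical
    haveI hq : F.IsQuasicoherent := hF.1
    haveI : Coh.IsQCoh F := hF.1
    haveI : SheafOfModules.IsFiniteType (R := X.ringCatSheaf) F := hF.2
    haveI : IsLocallyNoetherian X := LocallyOfFiniteType.isLocallyNoetherian u
    haveI : CompactSpace X := QuasiCompact.compactSpace_of_compactSpace u
    haveI : IsNoetherian X := {}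
    haveI hfp : SheafOfModules.IsFinitePresentation (R := X.ringCatSheaf) F :=
      FLFH8.isFinitePresentation_of_isCoh F
    haveI : LocallyOfFinitePresentation u := inferInstance
    have hW : IsOpen {x : X | FreeQ Q F x} := isOpen_setOf_freeQ Q F
    have hZcons : IsConstructible {x : X | ¬ FreeQ Q F x} := by
      have h1 : IsConstructible {x : X | FreeQ Q F x} :=
        (NoetherianSpace.isCompact _).isConstructible hW
      exact h1.compl
    have hT : IsConstructible (u '' {x : X | ¬ FreeQ Q F x}) :=
      Scheme.Hom.isConstructible_image u hZcons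
    obtain ⟨U₀, hU₀ne, hU₀⟩ := GenFlatSchH8.generic_flat u F
    have hηU₀ : genericPoint S ∈ U₀ :=
      ((genericPoint_spec S).mem_open_set_iff U₀.2).mpr (by simpa using hU₀ne)
    obtain ⟨U, hU, hηU, hsub⟩ :=
      Groth.Agent.Lib.Constr_lead.exists_open_generic_of_isConstructible hT (genericPoint_spec S)
    rcases hsub with hsub | hsub
    · right
      refine ⟨genericPoint S, mem_interior.mpr ⟨U ∩ U₀, ?_, hU.inter U₀.2, ⟨hηU, hηU₀⟩⟩⟩
      intro s hs hsE
      obtain ⟨x, hxZ, hxs⟩ := hsub ⟨hs.1, trivial⟩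
      obtain ⟨x', hx'⟩ : ∃ x' : u.fiber s, u.fiberι s x' = x := by
        have : x ∈ Set.range (u.fiberι s) := by
          rw [Scheme.Hom.range_fiberι]; exact hxs
        exact this
      apply hxZ
      have hflx : FlatMod.IsFlatOverAt u F (u.fiberι s x') := by
        apply hU₀
        rw [hx']
        have : u x = s := hxs
        rw [this]
        exact hs.2
      have key := freeQ_of_baseChange u F hfp (S.fromSpecResidueField s) (u.fiberι s)
        (u.fiberToSpecResidueField s) (IsPullback.of_hasPullback _ _) x' hflx (hsE x')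
      rwa [hx'] at key
    · left
      refine ⟨genericPoint S, mem_interior.mpr ⟨U, ?_, hU, hηU⟩⟩
      intro s hs x'
      apply freeQ_pullback
      by_contra hcon
      exact hsub ⟨hs, trivial⟩ ⟨_, hcon, Groth.Agent.FibRes2H8.fiberι_mem u s x'⟩

/-- The set of points of the base over which all stalks of the fibre module are free of a rank
satisfying `Q` is locally constructible. -/
theorem main_freeQ (Q : ℕ → Prop) {X S : Scheme.{u}} (f : X ⟶ S)
    [LocallyOfFinitePresentation f] [QuasiCompact f] [QuasiSeparated f]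
    (F : X.Modules) [Coh.IsQCoh F] (hF : CohB1.IsFP F) :
    IsLocallyConstructible {s : S | ∀ x : f.fiber s,
      FreeQ Q ((Scheme.Modules.pullback (f.fiberι s)).obj F) x} :=
  Groth.Agent.Lib.ConsModH2.main5878 (isConsMod_freeQ Q) f F hF

/-- **S4819** -/
theorem main4819 {X S : Scheme.{u}} (f : X ⟶ S)
    [LocallyOfFinitePresentation f] [QuasiCompact f] [QuasiSeparated f]
    (F : X.Modules) [Coh.IsQCoh F] (hF : CohB1.IsFP F) :
    IsLocallyConstructible
      {s : S | FlatMod.IsFinLocFree ((Scheme.Modules.pullback (f.fiberι s)).obj F)} := by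
  haveI : F.IsQuasicoherent := ‹Coh.IsQCoh F›
  haveI : SheafOfModules.IsFinitePresentation (R := X.ringCatSheaf) F := hF
  have e : {s : S | FlatMod.IsFinLocFree ((Scheme.Modules.pullback (f.fiberι s)).obj F)} =
      {s : S | ∀ x : f.fiber s,
        FreeQ (fun _ => True) ((Scheme.Modules.pullback (f.fiberι s)).obj F) x} := by
    ext s
    haveI := FpqcH8.isFP_pullback (f.fiberι s) F
    exact isFinLocFree_iff _
  rw [e]
  exact main_freeQ _ f F hF

/-- **S4820** -/
theorem main4820 {X S : Scheme.{u}} (f : X ⟶ S)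
    [LocallyOfFinitePresentation f] [QuasiCompact f] [QuasiSeparated f]
    (F : X.Modules) [Coh.IsQCoh F] (hF : CohB1.IsFP F) (n : ℕ) :
    IsLocallyConstructible
      {s : S | FlatMod.IsFinLocFreeOfRank n
        ((Scheme.Modules.pullback (f.fiberι s)).obj F)} := by
  haveI : F.IsQuasicoherent := ‹Coh.IsQCoh F›
  haveI : SheafOfModules.IsFinitePresentation (R := X.ringCatSheaf) F := hF
  have e : {s : S | FlatMod.IsFinLocFreeOfRank n
        ((Scheme.Modules.pullback (f.fiberι s)).obj F)} =
      {s : S | ∀ x : f.fiber s,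
        FreeQ (fun r => r = n) ((Scheme.Modules.pullback (f.fiberι s)).obj F) x} := by
    ext s
    haveI := FpqcH8.isFP_pullback (f.fiberι s) F
    exact isFinLocFreeOfRank_iff _ n
  rw [e]
  exact main_freeQ _ f F hF

end Groth.Agent.Lib.FibFreeH2
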