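import Mathlib
import Groth.Agent.S2107

/-!
# A finitely presented module that is flat over the base and fibrewise flat is free (local form)
-/

set_option autoImplicit false

namespace Groth.Agent.Lib.FibFreeH8

open IsLocalRing

universe u

/-- R local, S local essentially f.p. over R, N f.p. S-module flat over R with N/mN flat over S/mS.
Then N is free over S. -/
theorem free_of_flat_of_fibre_flat {R S N : Type u} [CommRing R] [CommRing S] [IsLocalRing R]
    [IsLocalRing S] [Algebra R S] [IsLocalHom (algebraMap R S)]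
    (hS : CAlgX.IsEssFinitePresentation R S)
    [AddCommGroup N] [Module S N] [Module R N] [IsScalarTower R S N]
    [Module.FinitePresentation S N] [Module.Flat R N]
    (hfib : Module.Flat (S ⧸ (maximalIdeal R).map (algebraMap R S))
      (N ⧸ ((maximalIdeal R).map (algebraMap R S)) • (⊤ : Submodule S N))) :
    Module.Free S N := by
  classical
  obtain ⟨J, hJ⟩ : ∃ J : Ideal S, J = (maximalIdeal R).map (algebraMap R S) := ⟨_, rfl⟩
  rw [← hJ] at hfib
  have hJle : J ≤ maximalIdeal S := by
    rw [hJ]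
    exact IsLocalRing.map_maximalIdeal_le (algebraMap R S)
  have hJne : J ≠ ⊤ := fun h => (maximalIdeal.isMaximal S).ne_top (top_le_iff.mp (h ▸ hJle))
  haveI : Nontrivial (S ⧸ J) := Ideal.Quotient.nontrivial_iff.mpr hJne
  haveI : IsLocalRing (S ⧸ J) :=
    IsLocalRing.of_surjective' (Ideal.Quotient.mk J) Ideal.Quotient.mk_surjective
  haveI : Module.Finite S (N ⧸ J • (⊤ : Submodule S N)) := inferInstance
  haveI : Module.Finite (S ⧸ J) (N ⧸ J • (⊤ : Submodule S N)) :=
    Module.Finite.of_restrictScalars_finite S (S ⧸ J) _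
  haveI : Module.Free (S ⧸ J) (N ⧸ J • (⊤ : Submodule S N)) :=
    Module.free_of_flat_of_isLocalRing
  obtain ⟨ι, _, ⟨b⟩⟩ : ∃ (ι : Type u) (_ : Fintype ι),
      Nonempty (Module.Basis ι (S ⧸ J) (N ⧸ J • (⊤ : Submodule S N))) :=
    ⟨Module.Free.ChooseBasisIndex (S ⧸ J) (N ⧸ J • (⊤ : Submodule S N)), inferInstance,
      ⟨Module.Free.chooseBasis _ _⟩⟩
  have hlift : ∀ i, ∃ y : N, Submodule.Quotient.mk (p := (J • ⊤ : Submodule S N)) y = b i :=
    fun i => Submodule.Quotient.mk_surjective _ (b i)
  choose y hy using hlift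
  obtain ⟨uu, huu⟩ : ∃ uu : (ι → S) →ₗ[S] N, uu = Fintype.linearCombination S y := ⟨_, rfl⟩
  have hmk : ∀ x : ι → S, Submodule.Quotient.mk (p := (J • ⊤ : Submodule S N)) (uu x) =
      ∑ i, Ideal.Quotient.mk J (x i) • b i := by
    intro x
    rw [huu, Fintype.linearCombination_apply, ← Submodule.mkQ_apply, map_sum]
    refine Finset.sum_congr rfl fun i _ => ?_
    rw [Submodule.mkQ_apply, ← hy i, Module.Quotient.mk_smul_mk]
  -- fibre injectivity
  have hu : ∀ x : ι → S, uu x ∈ ((maximalIdeal R).map (algebraMap R S)) • (⊤ : Submodule S N) →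
      x ∈ ((maximalIdeal R).map (algebraMap R S)) • (⊤ : Submodule S (ι → S)) := by
    rw [← hJ]
    intro x hx
    have h0 : ∑ i, Ideal.Quotient.mk J (x i) • b i = 0 := by
      rw [← hmk, Submodule.Quotient.mk_eq_zero]
      exact hx
    have h1 := Fintype.linearIndependent_iff.mp b.linearIndependent _ h0
    have h2 : ∀ i, x i ∈ J := fun i => Ideal.Quotient.eq_zero_iff_mem.mp (h1 i)
    have h3 : x = ∑ i, x i • (Pi.single i (1 : S) : ι → S) := by
      ext j
      simp [Finset.sum_apply, Pi.single_apply]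
    rw [h3]
    exact Submodule.sum_mem _ fun i _ => Submodule.smul_mem_smul (h2 i) Submodule.mem_top
  obtain ⟨hinj, -⟩ := Groth.Agent.S2107.result hS uu hu
  -- surjectivity by Nakayama
  have hsurj : Function.Surjective uu := by
    rw [← LinearMap.range_eq_top, eq_top_iff]
    refine Submodule.le_of_le_smul_of_le_jacobson_bot (I := J) Module.Finite.fg_top
      (hJle.trans (IsLocalRing.maximalIdeal_le_jacobson ⊥)) ?_
    intro n _
    obtain ⟨c, hc⟩ : ∃ c : ι → S, ∀ i, Ideal.Quotient.mk J (c i) =
        b.repr (Submodule.Quotient.mk (p := (J • ⊤ : Submodule S N)) n) i :=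
      ⟨fun i => (Ideal.Quotient.mk_surjective (b.repr _ i)).choose,
        fun i => (Ideal.Quotient.mk_surjective (b.repr _ i)).choose_spec⟩
    have h1 : Submodule.Quotient.mk (p := (J • ⊤ : Submodule S N)) (uu c) =
        Submodule.Quotient.mk (p := (J • ⊤ : Submodule S N)) n := by
      rw [hmk]
      simp_rw [hc]
      exact b.sum_repr _
    have h2 : n - uu c ∈ (J • ⊤ : Submodule S N) := by
      rw [← Submodule.Quotient.mk_eq_zero, Submodule.Quotient.mk_sub, h1, sub_self]
    have h3 : n = uu c + (n - uu c) := by abel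
    rw [h3]
    exact Submodule.add_mem_sup (LinearMap.mem_range_self uu c) h2
  exact Module.Free.of_equiv (LinearEquiv.ofBijective uu ⟨hinj, hsurj⟩)

end Groth.Agent.Lib.FibFreeH8
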