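/-
helper5: from points of the source to points of the base: local constructibility of `{y | ∀ z ∈ X_y, Q y z}`;
the locus of geometrically normal fibres (EGA IV 9.9.5-type, S4827).  APPEND-ONLY once landed.
-/
import Mathlib
import Groth.Agent.Lib.FibGNorm8_helper5
import Groth.Agent.Lib.FibCons3_helper8

set_option autoImplicit false
set_option linter.unusedSectionVars false
universe u

open scoped TensorProduct
open CategoryTheory CategoryTheory.Limits AlgebraicGeometry TopologicalSpace
open Groth.Agent.Lib.FibConsH8 Groth.Agent.Lib.FibSkH5

namespace Groth.Agent.Lib.FibGNormH5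

/-- if `{x | Q (f x) (asFiber x)}` is locally constructible in `X` then `{y | ∀ z ∈ X_y, Q y z}` is locally
constructible in `Y` (Chevalley) -/
theorem isLocallyConstructible_forall_fiber {X Y : Scheme.{u}} (f : X ⟶ Y)
    [LocallyOfFinitePresentation f] [QuasiCompact f] (Q : ∀ (y : Y), ↥(f.fiber y) → Prop)
    (h : Topology.IsLocallyConstructible {x : X | Q (f.base x) (f.asFiber x)}) :
    Topology.IsLocallyConstructible {y : Y | ∀ z : ↥(f.fiber y), Q y z} := by
  have h1 := isLocallyConstructible_compl h
  have h2 := isLocallyConstructible_compl (f.isLocallyConstructible_image h1)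
  convert h2 using 1
  ext s
  simp only [Set.mem_ofPred_eq, Set.mem_compl_iff, Set.mem_image, not_exists, not_and,
    not_not]
  constructor
  · intro h x hx hfx
    subst hfx
    exact hx (h (f.asFiber x))
  · intro h z
    by_contra hcon
    apply h (f.fiberι s z) ?_ (Groth.Agent.FibRes2H8.fiberι_mem f s z)
    intro hQ
    exact hcon ((fiber_point_transport f Q s z).mpr hQ)

/-- **EGA IV 9.9.5-type**: the set of points of the base with geometrically normal fibre is locally constructible. -/
theorem main4827 {X S : Scheme.{u}} (f : X ⟶ S)
    [LocallyOfFinitePresentation f] [QuasiCompact f] :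
    Topology.IsLocallyConstructible {s : S |
      ∀ (K : Type u) [Field K] [Algebra (IsLocalRing.ResidueField (S.presheaf.stalk s)) K]
        (x' : ↥(FBase.bc (f.fiberToSpecResidueField s) K)),
        IsDomain ((FBase.bc (f.fiberToSpecResidueField s) K).presheaf.stalk x') ∧
          IsIntegrallyClosed ((FBase.bc (f.fiberToSpecResidueField s) K).presheaf.stalk x')} := by
  have h := isLocallyConstructible_forall_fiber f
    (fun s z => ∀ (K : Type u) [Field K] [Algebra (IsLocalRing.ResidueField (S.presheaf.stalk s)) K]
      (x' : ↥(FBase.bc (f.fiberToSpecResidueField s) K)),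
      (FBase.bcπ (f.fiberToSpecResidueField s) K).base x' = z →
        (IsDomain ((FBase.bc (f.fiberToSpecResidueField s) K).presheaf.stalk x') ∧
          IsIntegrallyClosed ((FBase.bc (f.fiberToSpecResidueField s) K).presheaf.stalk x')))
    (main3455 f)
  convert h using 1
  ext s
  simp only [Set.mem_ofPred_eq]
  constructor
  · intro hs z K _ _ x' _
    exact hs K x'
  · intro hs K _ _ x'
    exact hs _ K x' rfl

end Groth.Agent.Lib.FibGNormH5
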