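import Mathlib
import Groth.Prelude

set_option autoImplicit false
set_option linter.unusedVariables false
set_option linter.unusedTactic false
set_option linter.unreachableTactic false
set_option linter.unusedSectionVars false
set_option linter.style.haveILetI false
set_option maxHeartbeats 800000
set_option backward.isDefEq.respectTransparency false

open CategoryTheory CategoryTheory.Limits

universe v₁ u₁ v₂ u₂ v₃ u₃ v₄ u₄

namespace Groth.Agent.Lib.FibGrpdPbH4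

variable {𝒮 : Type u₁} [Category.{v₁} 𝒮] {𝒳 : Type u₂} [Category.{v₂} 𝒳]

theorem isHomLift_of_map_eq (p : 𝒳 ⥤ 𝒮) {a b : 𝒳} (χ : a ⟶ b) (g : p.obj a ⟶ p.obj b)
    (h : p.map χ = g) : p.IsHomLift g χ := by
  subst h; infer_instance

theorem exists_unique_map (p : 𝒳 ⥤ 𝒮) (hp : FibCat.IsFibGrpd p)
    {a b a' : 𝒳} (φ : a ⟶ b) (φ' : a' ⟶ b) (g : p.obj a' ⟶ p.obj a)
    (h : g ≫ p.map φ = p.map φ') :
    ∃ χ : a' ⟶ a, (p.map χ = g ∧ χ ≫ φ = φ') ∧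
      ∀ χ' : a' ⟶ a, p.map χ' = g → χ' ≫ φ = φ' → χ' = χ := by
  haveI := hp.isStronglyCartesian φ
  obtain ⟨χ, ⟨hχ1, hχ2⟩, huniq⟩ :=
    Functor.IsStronglyCartesian.universal_property p (p.map φ) φ g (p.map φ') h.symm φ'
  haveI := hχ1
  refine ⟨χ, ⟨(IsHomLift.eq_of_isHomLift p g χ).symm, hχ2⟩, fun χ' h1 h2 => ?_⟩
  exact huniq χ' ⟨isHomLift_of_map_eq p χ' g h1, h2⟩

theorem map_ext (p : 𝒳 ⥤ 𝒮) (hp : FibCat.IsFibGrpd p) {a b a' : 𝒳} (φ : a ⟶ b)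
    (χ χ' : a' ⟶ a) (h1 : p.map χ = p.map χ') (h2 : χ ≫ φ = χ' ≫ φ) : χ = χ' := by
  obtain ⟨χ₀, _, huniq⟩ := exists_unique_map p hp φ (χ' ≫ φ) (p.map χ')
    (by rw [Functor.map_comp])
  rw [huniq χ h1 h2, huniq χ' rfl rfl]

theorem exists_lift' (p : 𝒳 ⥤ 𝒮) (hp : FibCat.IsFibGrpd p) {x : 𝒳} {V : 𝒮} (f : V ⟶ p.obj x) :
    ∃ (y : 𝒳) (φ : y ⟶ x) (e : p.obj y = V), p.map φ = eqToHom e ≫ f := by
  obtain ⟨y, φ, hφ⟩ := hp.exists_lift f
  haveI := hφ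
  refine ⟨y, φ, IsHomLift.domain_eq p f φ, ?_⟩
  have h := IsHomLift.fac' p f φ
  rw [h]
  simp

theorem isIso_of_isIso_map (p : 𝒳 ⥤ 𝒮) (hp : FibCat.IsFibGrpd p) {a b : 𝒳} (χ : a ⟶ b)
    [IsIso (p.map χ)] : IsIso χ := by
  haveI := hp.isStronglyCartesian χ
  exact Functor.IsStronglyCartesian.isIso_of_base_isIso p (p.map χ) χ

theorem comp_isFibGrpd {ℬ : Type u₃} [Category.{v₃} ℬ] (p : 𝒳 ⥤ ℬ) (q : ℬ ⥤ 𝒮)
    (hp : FibCat.IsFibGrpd p) (hq : FibCat.IsFibGrpd q) : FibCat.IsFibGrpd (p ⋙ q) where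
  exists_lift := by
    intro x V f
    obtain ⟨b, φ₁, e₁, h₁⟩ := exists_lift' q hq (x := p.obj x) f
    obtain ⟨y, φ₂, e₂, h₂⟩ := exists_lift' p hp (x := x) φ₁
    refine ⟨y, φ₂, ?_⟩
    have ha : (p ⋙ q).obj y = V := by rw [Functor.comp_obj, e₂, e₁]
    apply IsHomLift.of_fac' (p ⋙ q) f φ₂ ha rfl
    rw [Functor.comp_map, h₂, Functor.map_comp, h₁, eqToHom_map]
    simp
  isStronglyCartesian := by
    intro y x φ
    refine { universal_property' := ?_ }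
    intro a' g φ' hφ'
    have hfac : g ≫ q.map (p.map φ) = q.map (p.map φ') :=
      IsHomLift.eq_of_isHomLift (p ⋙ q) (g ≫ (p ⋙ q).map φ) φ'
    obtain ⟨β, ⟨hβ1, hβ2⟩, hβu⟩ := exists_unique_map q hq (p.map φ) (p.map φ') g hfac
    obtain ⟨χ, ⟨hχ1, hχ2⟩, hχu⟩ := exists_unique_map p hp φ φ' β hβ2
    refine ⟨χ, ⟨isHomLift_of_map_eq (p ⋙ q) χ g ?_, hχ2⟩, ?_⟩
    · show q.map (p.map χ) = g
      rw [hχ1, hβ1]
    · rintro χ' ⟨h1, h2⟩
      haveI := h1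
      have h3 : q.map (p.map χ') = g :=
        (IsHomLift.eq_of_isHomLift (p ⋙ q) g χ').symm
      have h4 : p.map χ' = β := hβu (p.map χ') h3 (by rw [← Functor.map_comp, h2])
      exact hχu χ' h4 h2

open CategoricalPullback in
theorem pi2_isFibGrpd {X : Type u₃} [Category.{v₃} X] {Y : Type u₄} [Category.{v₄} Y]
    (πX : X ⥤ 𝒮) (F : Y ⥤ X) (hX : FibCat.IsFibGrpd πX) (hY : FibCat.IsFibGrpd (F ⋙ πX)) :
    FibCat.IsFibGrpd (CategoricalPullback.π₂ F (𝟭 X)) where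
  exists_lift := by
    intro P x' f'
    change x' ⟶ P.snd at f'
    obtain ⟨y', ψ, e, hψ⟩ := exists_lift' (F ⋙ πX) hY (x := P.fst) (πX.map (f' ≫ P.iso.inv))
    have hψ' : πX.map (F.map ψ) = eqToHom e ≫ πX.map (f' ≫ P.iso.inv) := hψ
    obtain ⟨χ, ⟨hχ1, hχ2⟩, _⟩ := exists_unique_map πX hX (F.map ψ) (f' ≫ P.iso.inv)
      (eqToHom e.symm) (by rw [hψ']; simp)
    haveI : IsIso (πX.map χ) := by rw [hχ1]; infer_instance
    haveI : IsIso χ := isIso_of_isIso_map πX hX χ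
    have w : F.map ψ ≫ P.iso.hom = (asIso χ).symm.hom ≫ (𝟭 X).map f' := by
      rw [← cancel_epi χ, ← Category.assoc, hχ2]
      simp
    let P' : F ⊡ (𝟭 X) := ⟨y', x', (asIso χ).symm⟩
    let Φ : P' ⟶ P := ⟨ψ, f', w⟩
    exact ⟨P', Φ, isHomLift_of_map_eq (CategoricalPullback.π₂ F (𝟭 X)) Φ f' rfl⟩
  isStronglyCartesian := by
    intro P' P Φ
    refine { universal_property' := ?_ }
    intro P'' g' Φ' hΦ'
    change P''.snd ⟶ P'.snd at g'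
    have hfac : g' ≫ Φ.snd = Φ'.snd :=
      IsHomLift.eq_of_isHomLift (CategoricalPullback.π₂ F (𝟭 X))
        (g' ≫ (CategoricalPullback.π₂ F (𝟭 X)).map Φ) Φ'
    have K : (P''.iso.hom ≫ g' ≫ P'.iso.inv) ≫ F.map Φ.fst = F.map Φ'.fst := by
      rw [← cancel_mono P.iso.hom]
      simp only [Category.assoc]
      rw [Φ.w, Φ'.w]
      simp only [Functor.id_map, Iso.inv_hom_id_assoc]
      rw [hfac]
    have hu : πX.map (P''.iso.hom ≫ g' ≫ P'.iso.inv) ≫ (F ⋙ πX).map Φ.fst =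
        (F ⋙ πX).map Φ'.fst := by
      show πX.map _ ≫ πX.map (F.map Φ.fst) = πX.map (F.map Φ'.fst)
      rw [← Functor.map_comp, K]
    obtain ⟨χY, ⟨hχ1, hχ2⟩, hχu⟩ := exists_unique_map (F ⋙ πX) hY Φ.fst Φ'.fst
      (πX.map (P''.iso.hom ≫ g' ≫ P'.iso.inv)) hu
    have E : F.map χY = P''.iso.hom ≫ g' ≫ P'.iso.inv := by
      apply map_ext πX hX (F.map Φ.fst)
      · exact hχ1
      · rw [K, ← Functor.map_comp, hχ2]
    have w : F.map χY ≫ P'.iso.hom = P''.iso.hom ≫ (𝟭 X).map g' := by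
      rw [E]; simp
    let Xm : P'' ⟶ P' := ⟨χY, g', w⟩
    refine ⟨Xm, ⟨isHomLift_of_map_eq (CategoricalPullback.π₂ F (𝟭 X)) Xm g' rfl, ?_⟩, ?_⟩
    · exact CategoricalPullback.hom_ext hχ2 hfac
    · rintro X' ⟨h1, h2⟩
      haveI := h1
      have hs : X'.snd = g' :=
        (IsHomLift.eq_of_isHomLift (CategoricalPullback.π₂ F (𝟭 X)) g' X').symm
      have hf : X'.fst ≫ Φ.fst = Φ'.fst := congrArg CategoricalPullback.Hom.fst h2
      have E' : F.map X'.fst = P''.iso.hom ≫ g' ≫ P'.iso.inv := by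
        rw [← hs, ← cancel_mono P'.iso.hom]
        simp
      have hX'1 : (F ⋙ πX).map X'.fst = πX.map (P''.iso.hom ≫ g' ≫ P'.iso.inv) := by
        show πX.map (F.map X'.fst) = _
        rw [E']
      have h5 := hχu X'.fst hX'1 hf
      exact CategoricalPullback.hom_ext h5 hs

theorem main {S : Type u₁} [Category.{v₁} S] {X : Type u₂} [Category.{v₂} X]
    {Y : Type u₃} [Category.{v₃} Y] (πX : X ⥤ S) (πY : Y ⥤ S) (hX : FibCat.IsFibGrpd πX)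
    (hY : FibCat.IsFibGrpd πY) (F : Y ⥤ X) (hF : F ⋙ πX = πY) :
    FibCat.IsFibGrpd (CategoricalPullback.π₂ F (𝟭 X)) ∧
      FibCat.IsFibGrpd (CategoricalPullback.π₂ F (𝟭 X) ⋙ πX) := by
  subst hF
  have h1 := pi2_isFibGrpd πX F hX hY
  exact ⟨h1, comp_isFibGrpd _ _ h1 hX⟩

end Groth.Agent.Lib.FibGrpdPbH4
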