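import Mathlib
import Groth.Prelude
import Groth.Agent.Lib.BddHilb1_helper9
import Groth.Agent.Lib.EulerFibBC_helper2
import Groth.Agent.S1026

/-!
# Finiteness of the set of Hilbert functions of the fibres over a Noetherian base (helper9)

For `f : X ⟶ S` proper over a Noetherian scheme, `F` coherent on `X` and a family `M d` of
invertible modules on `X`, the functions `d ↦ χ(X_s, (F ⊗ M d)_s)` (with `PerfAux.eulerChar`),
`s` running over *all* points of `S`, form a finite set.
APPEND-ONLY once landed.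
-/

set_option autoImplicit false
universe u
open AlgebraicGeometry CategoryTheory CategoryTheory.Limits TopologicalSpace

namespace FibHilb

open Groth.Agent.TensInv

/-- over a locally Noetherian base, locally of finite type is locally of finite presentation -/
theorem lfp_of_lft {X Y : Scheme.{u}} (f : X ⟶ Y) [LocallyOfFiniteType f] [IsLocallyNoetherian Y] :
    LocallyOfFinitePresentation f := by
  rw [HasRingHomProperty.iff_appLE (P := @LocallyOfFinitePresentation)]
  intro U V e
  have h1 := HasRingHomProperty.appLE (P := @LocallyOfFiniteType) f inferInstance U V e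
  haveI : IsNoetherianRing Γ(Y, U.1) := IsLocallyNoetherian.component_noetherian U
  exact RingHom.FinitePresentation.of_finiteType.1 h1

/-- in a flat coherent family over a connected locally Noetherian base the Euler characteristic of
the fibres is constant -/
theorem eulerChar_const_of_flat {X S : Scheme.{u}} [IsLocallyNoetherian S] [PreconnectedSpace S]
    (f : X ⟶ S) [IsProper f] (G : X.Modules) (hG : Coh.IsCoh G)
    (hflat : FlatMod.IsFlatOver f G) (s s' : S) :
    PerfAux.eulerChar f G s = PerfAux.eulerChar f G s' := by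
  haveI : LocallyOfFinitePresentation f := lfp_of_lft f
  haveI : IsLocallyNoetherian X := LocallyOfFiniteType.isLocallyNoetherian f
  haveI := hG.1
  haveI := hG.2
  have hFP : CohB1.IsFP G := FLFH8.isFinitePresentation_of_isCoh _
  have hlc := Groth.Agent.S1026.result f G hFP hflat
  exact hlc.apply_eq_of_preconnectedSpace s s'

/-- generic constancy of the Hilbert functions of the fibres on an irreducible closed subset of
the base -/
theorem exists_open_const {X S : Scheme.{u}} [IsLocallyNoetherian S] (f : X ⟶ S) [IsProper f]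
    {I : Type*} (M : I → X.Modules) (hM : ∀ d, PicF.IsInvertible (M d))
    (F : X.Modules) (hF : Coh.IsCoh F) (Z : Set S) (hZ : IsClosed Z) (hirr : IsIrreducible Z) :
    ∃ U : Set S, IsOpen U ∧ (Z ∩ U).Nonempty ∧
      ∀ s s' : S, s ∈ Z ∩ U → s' ∈ Z ∩ U →
        ∀ d, PerfAux.eulerChar f (CohB1.tensorMod F (M d)) s =
          PerfAux.eulerChar f (CohB1.tensorMod F (M d)) s' := by
  haveI : IsLocallyNoetherian X := LocallyOfFiniteType.isLocallyNoetherian f
  obtain ⟨𝓘, h𝓘⟩ : ∃ 𝓘 : S.IdealSheafData, 𝓘 = Scheme.IdealSheafData.vanishingIdeal ⟨Z, hZ⟩ :=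
    ⟨_, rfl⟩
  have hsupp : (𝓘.support : Set S) = Z := by
    rw [h𝓘]
    exact Scheme.IdealSheafData.coe_support_vanishingIdeal _
  have hrange : Set.range 𝓘.subschemeι = Z := by
    rw [Scheme.IdealSheafData.range_subschemeι, hsupp]
  haveI : IsReduced 𝓘.subscheme := by
    rw [h𝓘]
    exact CohDevH8.isReduced_subscheme_vanishingIdeal _
  haveI : IrreducibleSpace 𝓘.subscheme :=
    BddHilb.irreducibleSpace_of_isEmbedding 𝓘.subschemeι 𝓘.subschemeι.isEmbedding
      (by rw [hrange]; exact hirr)
  haveI : IsIntegral 𝓘.subscheme := isIntegral_of_irreducibleSpace_of_isReduced _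
  set j : 𝓘.subscheme ⟶ S := 𝓘.subschemeι with hj
  haveI : IsLocallyNoetherian 𝓘.subscheme := LocallyOfFiniteType.isLocallyNoetherian j
  set fZ : pullback f j ⟶ 𝓘.subscheme := pullback.snd f j with hfZ
  set pZ : pullback f j ⟶ X := pullback.fst f j with hpZ
  haveI : IsLocallyNoetherian (pullback f j) := LocallyOfFiniteType.isLocallyNoetherian fZ
  set FZ := (Scheme.Modules.pullback pZ).obj F with hFZ
  have hFZc : Coh.IsCoh FZ := Groth.Agent.Lib.ConsModH2.isCoh_pullback _ F hF
  haveI := hFZc.1
  haveI := hFZc.2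
  obtain ⟨UW, hUWne, hUWflat⟩ := GenFlatSchH8.generic_flat fZ FZ
  obtain ⟨U, hUopen, hUeq⟩ := j.isEmbedding.isInducing.isOpen_iff.mp UW.isOpen
  refine ⟨U, hUopen, ?_, ?_⟩
  · obtain ⟨w, hw⟩ := hUWne
    refine ⟨j w, ?_, ?_⟩
    · rw [← hrange]
      exact ⟨w, rfl⟩
    · have : w ∈ j ⁻¹' U := by rw [hUeq]; exact hw
      exact this
  -- the family over `UW`
  haveI : Nonempty ↥(UW : Scheme.{u}) := by
    obtain ⟨w, hw⟩ := hUWne
    exact ⟨⟨w, hw⟩⟩
  haveI : IsIntegral (UW : Scheme.{u}) := isIntegral_of_isOpenImmersion UW.ι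
  haveI : IrreducibleSpace ↥(UW : Scheme.{u}) := inferInstance
  haveI : PreconnectedSpace ↥(UW : Scheme.{u}) := inferInstance
  haveI : IsLocallyNoetherian (UW : Scheme.{u}) := LocallyOfFiniteType.isLocallyNoetherian UW.ι
  set fU : pullback fZ UW.ι ⟶ (UW : Scheme.{u}) := pullback.snd fZ UW.ι with hfU
  set pU : pullback fZ UW.ι ⟶ pullback f j := pullback.fst fZ UW.ι with hpU
  haveI : IsLocallyNoetherian (pullback fZ UW.ι) := LocallyOfFiniteType.isLocallyNoetherian fU
  set FU := (Scheme.Modules.pullback pU).obj FZ with hFU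
  have hFUc : Coh.IsCoh FU := Groth.Agent.Lib.ConsModH2.isCoh_pullback _ FZ hFZc
  have hflatU : FlatMod.IsFlatOver fU FU := by
    intro z
    refine FlatBC2H8.isFlatOverAt_pullback (IsPullback.of_hasPullback fZ UW.ι) FZ z
      (hUWflat _ ?_)
    have h1 : fZ.base (pU.base z) = UW.ι.base (fU.base z) := by
      rw [← Scheme.Hom.comp_apply, ← Scheme.Hom.comp_apply, hpU, hfU, pullback.condition]
    rw [h1]
    exact (fU.base z).2
  -- the value at a point of `Z ∩ U`
  have hval : ∀ d, ∃ N : (pullback fZ UW.ι).Modules, Coh.IsCoh N ∧ FlatMod.IsFlatOver fU N ∧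
      ∀ y : ↥(UW : Scheme.{u}), PerfAux.eulerChar fU N y =
        PerfAux.eulerChar f (CohB1.tensorMod F (M d)) (j.base (UW.ι.base y)) := by
    intro d
    have hMZ : PicF.IsInvertible ((Scheme.Modules.pullback pZ).obj (M d)) :=
      TensH8.isInvertible_pullback pZ (hM d)
    have hMU : PicF.IsInvertible ((Scheme.Modules.pullback pU).obj
        ((Scheme.Modules.pullback pZ).obj (M d))) := TensH8.isInvertible_pullback pU hMZ
    have hcoh0 : Coh.IsCoh (CohB1.tensorMod F (M d)) := Snap9.isCoh_tensorMod hF (hM d)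
    haveI := hcoh0.1
    have hcohZ : Coh.IsCoh ((Scheme.Modules.pullback pZ).obj (CohB1.tensorMod F (M d))) :=
      Groth.Agent.Lib.ConsModH2.isCoh_pullback _ _ hcoh0
    haveI := hcohZ.1
    refine ⟨(Scheme.Modules.pullback pU).obj
      ((Scheme.Modules.pullback pZ).obj (CohB1.tensorMod F (M d))),
      Groth.Agent.Lib.ConsModH2.isCoh_pullback _ _ hcohZ, ?_, ?_⟩
    · obtain ⟨e1⟩ := Groth.Agent.Lib.FibAmpH2.nonempty_pullback_tensor_iso pZ F (hM d)
      obtain ⟨e2⟩ := Groth.Agent.Lib.FibAmpH2.nonempty_pullback_tensor_iso pU FZ hMZ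
      have hflat2 : FlatMod.IsFlatOver fU
          (CohB1.tensorMod ((Scheme.Modules.pullback pU).obj
            ((Scheme.Modules.pullback pZ).obj (M d))) FU) :=
        Groth.Agent.Lib.RelPerfTensH3.isFlatOver_tensor fU _ _
          (TensH8.isFinLocFree_of_isInvertible hMU) hflatU
      have hflat3 : FlatMod.IsFlatOver fU
          (CohB1.tensorMod FU ((Scheme.Modules.pullback pU).obj
            ((Scheme.Modules.pullback pZ).obj (M d)))) :=
        Groth.Agent.Lib.RelPerfTensH3.isFlatOver_of_iso fU (comm _ _) hflat2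
      exact Groth.Agent.Lib.RelPerfTensH3.isFlatOver_of_iso fU
        ((Scheme.Modules.pullback pU).mapIso e1 ≪≫ e2).symm hflat3
    · intro y
      rw [Groth.Agent.Lib.CBCH2.eulerChar_baseChange fZ UW.ι _ y,
        Groth.Agent.Lib.CBCH2.eulerChar_baseChange f j _ (UW.ι.base y)]
  intro s s' hs hs' d
  obtain ⟨N, hNc, hNflat, hN⟩ := hval d
  have hlift : ∀ s : S, s ∈ Z ∩ U → ∃ y : ↥(UW : Scheme.{u}), j.base (UW.ι.base y) = s := by
    intro s hs
    have h1 : s ∈ Set.range j := by rw [hrange]; exact hs.1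
    obtain ⟨z, rfl⟩ := h1
    have h2 : z ∈ j ⁻¹' U := hs.2
    rw [hUeq] at h2
    exact ⟨⟨z, h2⟩, rfl⟩
  obtain ⟨y, rfl⟩ := hlift s hs
  obtain ⟨y', rfl⟩ := hlift s' hs'
  rw [← hN y, ← hN y']
  exact eulerChar_const_of_flat fU N hNc hNflat y y'

/-- **finiteness of the set of Hilbert functions** of the fibres (at all points) of a coherent
module on a scheme proper over a Noetherian base -/
theorem finite_range_eulerChar {X S : Scheme.{u}} [IsNoetherian S] (f : X ⟶ S) [IsProper f]
    {I : Type*} (M : I → X.Modules) (hM : ∀ d, PicF.IsInvertible (M d))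
    (F : X.Modules) (hF : Coh.IsCoh F) :
    (Set.range (fun s : S => fun d : I =>
      PerfAux.eulerChar f (CohB1.tensorMod F (M d)) s)).Finite := by
  haveI : NoetherianSpace S := inferInstance
  refine BddHilb.finite_range_of_generic_const (fun s : S => s) _ ?_
  intro Z hZ hirr
  obtain ⟨U, hU, hne, hconst⟩ := exists_open_const f M hM F hF Z hZ hirr
  refine ⟨U, hU, hne, fun p p' hp hp' => ?_⟩
  funext d
  exact hconst p p' hp hp' d

end FibHilb
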