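import Mathlib
import Groth.Prelude
import Groth.Agent.Lib.FibHilb1_helper9
import Groth.Agent.Lib.PnOverVan_helper9
import Groth.Agent.Lib.KRRReg1_helper9
import Groth.Agent.Lib.BddFam4_helper9

/-!
# The fibres of `P^n_S ⟶ S` and their Hilbert polynomials (helper9)

APPEND-ONLY once landed.
-/

set_option autoImplicit false
universe u
open AlgebraicGeometry CategoryTheory CategoryTheory.Limits TopologicalSpace

namespace FibHilb

open CohB1 Groth.Agent.ProjBCn Groth.Agent.PnOver Groth.Agent.TensInv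

section Fibre

variable (n : ℕ) (S : Scheme.{u}) (s : (Over.mk (𝟙 S) : Over S).left)

/-- the fibre of `P^n_S ⟶ S` at `s` (in the form used by `FGA.fibreAt`) -/
noncomputable abbrev W : Scheme.{u} :=
  (FGA.fibreAt (ProjSpaceOver.toBase n S) (Over.mk (𝟙 S)) s).left

/-- `W ⟶ (P^n_S)_S` -/
noncomputable abbrev aW : W n S s ⟶ PicF.XT (ProjSpaceOver.toBase n S) (Over.mk (𝟙 S)) :=
  pullback.fst (PicF.XTproj (ProjSpaceOver.toBase n S) (Over.mk (𝟙 S)))
    ((Over.mk (𝟙 S) : Over S).left.fromSpecResidueField s)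

/-- `(P^n_S)_S ⟶ P^n_S` -/
noncomputable abbrev bW : PicF.XT (ProjSpaceOver.toBase n S) (Over.mk (𝟙 S)) ⟶ ProjSpaceOver n S :=
  pullback.fst (ProjSpaceOver.toBase n S) (Over.mk (𝟙 S) : Over S).hom

/-- `P^n_S ⟶ P^n_ℤ` -/
noncomputable abbrev cW : ProjSpaceOver n S ⟶ ProjSpace n (ULift.{u} ℤ) :=
  pullback.fst (ProjSpace.toSpec n (ULift.{u} ℤ)) (specULiftZIsTerminal.from S)

/-- `W ⟶ P^n_ℤ` -/
noncomputable def toPZ : W n S s ⟶ ProjSpace n (ULift.{u} ℤ) := aW n S s ≫ bW n S ≫ cW n S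

theorem isPullback_W :
    IsPullback (toPZ n S s) (FGA.fibreAt (ProjSpaceOver.toBase n S) (Over.mk (𝟙 S)) s).hom
      (ProjSpace.toSpec n (ULift.{u} ℤ))
      (Spec.map (CommRingCat.ofHom (zHom ((Over.mk (𝟙 S) : Over S).left.residueField s)))) := by
  have h1 := IsPullback.of_hasPullback (PicF.XTproj (ProjSpaceOver.toBase n S) (Over.mk (𝟙 S)))
    ((Over.mk (𝟙 S) : Over S).left.fromSpecResidueField s)
  have h2 := IsPullback.of_hasPullback (ProjSpaceOver.toBase n S) (Over.mk (𝟙 S) : Over S).hom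
  have h3 := IsPullback.of_hasPullback (ProjSpace.toSpec n (ULift.{u} ℤ))
    (specULiftZIsTerminal.from S)
  have h := (h1.paste_horiz h2).paste_horiz h3
  have e : ((Over.mk (𝟙 S) : Over S).left.fromSpecResidueField s ≫ (Over.mk (𝟙 S) : Over S).hom) ≫
      specULiftZIsTerminal.from S =
      Spec.map (CommRingCat.ofHom (zHom ((Over.mk (𝟙 S) : Over S).left.residueField s))) :=
    specULiftZIsTerminal.hom_ext _ _
  rw [e, Category.assoc] at h
  exact h

/-- the identification of the fibre with `P^n_{κ(s)}` -/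
noncomputable def ιW : W n S s ⟶ ProjSpace n ((Over.mk (𝟙 S) : Over S).left.residueField s) :=
  ((isPullback_W n S s).isoIsPullback _ _
    (isPullback_projMapH n (zHom ((Over.mk (𝟙 S) : Over S).left.residueField s)))).hom

instance : IsIso (ιW n S s) := by
  unfold ιW
  infer_instance

theorem ιW_projMapH :
    ιW n S s ≫ projMapH n (zHom ((Over.mk (𝟙 S) : Over S).left.residueField s)) = toPZ n S s :=
  IsPullback.isoIsPullback_hom_fst _ _ _ _

theorem ιW_toSpec :
    ιW n S s ≫ ProjSpace.toSpec n ((Over.mk (𝟙 S) : Over S).left.residueField s) =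
      (W n S s ↘ Spec (CommRingCat.of ((Over.mk (𝟙 S) : Over S).left.residueField s))) :=
  IsPullback.isoIsPullback_hom_snd _ _ _ _

/-- the restriction of `O(m)` to the fibre is the pullback of `O(m)` on `P^n_{κ(s)}` -/
theorem nonempty_restr_twist_iso (m : ℤ) :
    Nonempty (FGA.restrFibre (ProjSpaceOver.toBase n S) (Over.mk (𝟙 S)) s
        (FGA.ET (ProjSpaceOver.toBase n S) (Twist.twistOver n S m) (Over.mk (𝟙 S))) ≅
      (Scheme.Modules.pullback (ιW n S s)).obj
        (Twist.twistProjSpace n ((Over.mk (𝟙 S) : Over S).left.residueField s) m)) := by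
  obtain ⟨e⟩ := PnOverVanH9.pullback_projMapH_twist n
    (zHom ((Over.mk (𝟙 S) : Over S).left.residueField s)) m
  show Nonempty ((Scheme.Modules.pullback (aW n S s)).obj
    ((Scheme.Modules.pullback (bW n S)).obj
      ((Scheme.Modules.pullback (cW n S)).obj (Twist.twistProjSpace n (ULift.{u} ℤ) m))) ≅ _)
  have hcomm : aW n S s ≫ bW n S ≫ cW n S =
      ιW n S s ≫ projMapH n (zHom ((Over.mk (𝟙 S) : Over S).left.residueField s)) := by
    rw [ιW_projMapH]
    rfl
  exact ⟨(Scheme.Modules.pullback (aW n S s)).mapIso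
      ((Scheme.Modules.pullbackComp (bW n S) (cW n S)).app _) ≪≫
    (Scheme.Modules.pullbackComp (aW n S s) (bW n S ≫ cW n S)).app _ ≪≫
    (Scheme.Modules.pullbackCongr hcomm).app _ ≪≫
    ((Scheme.Modules.pullbackComp (ιW n S s)
      (projMapH n (zHom ((Over.mk (𝟙 S) : Over S).left.residueField s)))).app _).symm ≪≫
    (Scheme.Modules.pullback (ιW n S s)).mapIso e⟩

theorem isProper_W :
    IsProper (W n S s ↘ Spec (CommRingCat.of ((Over.mk (𝟙 S) : Over S).left.residueField s))) :=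
  Snap9.isProper_of_closed_projSpace ((Over.mk (𝟙 S) : Over S).left.residueField s) n (W n S s)
    (ιW n S s) (ιW_toSpec n S s)

theorem isCoh_restr (F : (ProjSpaceOver n S).Modules) (hF : Coh.IsCoh F) :
    Coh.IsCoh (FGA.restrFibre (ProjSpaceOver.toBase n S) (Over.mk (𝟙 S)) s
      (FGA.ET (ProjSpaceOver.toBase n S) F (Over.mk (𝟙 S)))) :=
  Groth.Agent.Lib.ConsModH2.isCoh_pullback _ _ (Groth.Agent.Lib.ConsModH2.isCoh_pullback _ _ hF)

/-- the Hilbert polynomial of the restriction of a coherent module to the fibre -/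
theorem exists_poly (F : (ProjSpaceOver n S).Modules) (hF : Coh.IsCoh F) :
    ∃ P : Polynomial ℚ, ∀ m : ℤ,
      (FGA.eulerCharLE ((Over.mk (𝟙 S) : Over S).left.residueField s) (W n S s)
        (CohB1.tensorMod
          (FGA.restrFibre (ProjSpaceOver.toBase n S) (Over.mk (𝟙 S)) s
            (FGA.ET (ProjSpaceOver.toBase n S) F (Over.mk (𝟙 S))))
          (FGA.restrFibre (ProjSpaceOver.toBase n S) (Over.mk (𝟙 S)) s
            (FGA.ET (ProjSpaceOver.toBase n S) (Twist.twistOver n S m) (Over.mk (𝟙 S))))) n : ℚ) =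
        P.eval (m : ℚ) := by
  haveI := isProper_W n S s
  haveI : IsLocallyNoetherian (W n S s) := LocallyOfFiniteType.isLocallyNoetherian
    (W n S s ↘ Spec (CommRingCat.of ((Over.mk (𝟙 S) : Over S).left.residueField s)))
  have hG := isCoh_restr n S s F hF
  obtain ⟨P, hP⟩ := Snap9.main2426 ((Over.mk (𝟙 S) : Over S).left.residueField s) n (W n S s)
    (ιW n S s) (ιW_toSpec n S s) _ hG
  refine ⟨P, fun m => ?_⟩
  obtain ⟨e⟩ := nonempty_restr_twist_iso n S s m
  have hcoh : Coh.IsCoh (CohB1.tensorMod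
      (FGA.restrFibre (ProjSpaceOver.toBase n S) (Over.mk (𝟙 S)) s
        (FGA.ET (ProjSpaceOver.toBase n S) F (Over.mk (𝟙 S))))
      ((Scheme.Modules.pullback (ιW n S s)).obj
        (Twist.twistProjSpace n ((Over.mk (𝟙 S) : Over S).left.residueField s) m))) :=
    Snap9.isCoh_tensorMod hG (Snap9.isInvertible_pullback_twist _ n (W n S s) (ιW n S s) m)
  rw [← hP m]
  unfold FGA.eulerCharLE
  push_cast
  refine Finset.sum_congr rfl (fun j _ => ?_)
  have h2 := EulerField.finrank_eq_length ((Over.mk (𝟙 S) : Over S).left.residueField s)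
    (W n S s) _ hcoh j
  have h4 := (Groth.Agent.HypConn.hhEquivOfIso
    (A := ((Over.mk (𝟙 S) : Over S).left.residueField s)) (mapL
      (FGA.restrFibre (ProjSpaceOver.toBase n S) (Over.mk (𝟙 S)) s
        (FGA.ET (ProjSpaceOver.toBase n S) F (Over.mk (𝟙 S)))) e) j).finrank_eq
  rw [h4]
  have h3 : ((Module.finrank ((Over.mk (𝟙 S) : Over S).left.residueField s)
      (Coh.HH (W n S s) (CohB1.tensorMod
      (FGA.restrFibre (ProjSpaceOver.toBase n S) (Over.mk (𝟙 S)) s
        (FGA.ET (ProjSpaceOver.toBase n S) F (Over.mk (𝟙 S))))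
      ((Scheme.Modules.pullback (ιW n S s)).obj
        (Twist.twistProjSpace n ((Over.mk (𝟙 S) : Over S).left.residueField s) m))) j) : ℤ) : ℚ) =
      (((Module.length ((Over.mk (𝟙 S) : Over S).left.residueField s)
      (Coh.HH (W n S s) (CohB1.tensorMod
      (FGA.restrFibre (ProjSpaceOver.toBase n S) (Over.mk (𝟙 S)) s
        (FGA.ET (ProjSpaceOver.toBase n S) F (Over.mk (𝟙 S))))
      ((Scheme.Modules.pullback (ιW n S s)).obj
        (Twist.twistProjSpace n ((Over.mk (𝟙 S) : Over S).left.residueField s) m))) j)).toNat : ℤ) : ℚ) := by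
    rw [h2]
  push_cast at h3
  rw [h3]

/-- the Euler characteristic of the twisted restriction to the fibre, in terms of
`PerfAux.eulerChar` -/
theorem eulerCharLE_eq_eulerChar [IsLocallyNoetherian S] (F : (ProjSpaceOver n S).Modules)
    (hF : Coh.IsCoh F) (m : ℤ) :
    FGA.eulerCharLE ((Over.mk (𝟙 S) : Over S).left.residueField s) (W n S s)
        (CohB1.tensorMod
          (FGA.restrFibre (ProjSpaceOver.toBase n S) (Over.mk (𝟙 S)) s
            (FGA.ET (ProjSpaceOver.toBase n S) F (Over.mk (𝟙 S))))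
          (FGA.restrFibre (ProjSpaceOver.toBase n S) (Over.mk (𝟙 S)) s
            (FGA.ET (ProjSpaceOver.toBase n S) (Twist.twistOver n S m) (Over.mk (𝟙 S))))) n =
      PerfAux.eulerChar (ProjSpaceOver.toBase n S)
        (CohB1.tensorMod F (Twist.twistOver n S m)) s := by
  haveI := Groth.Agent.Lib.ProjSpaceProperH4.isProper_toBase n S
  haveI := isProper_W n S s
  haveI : IsLocallyNoetherian (ProjSpaceOver n S) :=
    LocallyOfFiniteType.isLocallyNoetherian (ProjSpaceOver.toBase n S)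
  have hdim := Snap9.dim_le_of_closed_projSpace ((Over.mk (𝟙 S) : Over S).left.residueField s) n
    (W n S s) (ιW n S s)
  rw [← Snap9.euler_eq_eulerCharLE ((Over.mk (𝟙 S) : Over S).left.residueField s) (W n S s) n hdim]
  have hO : PicF.IsInvertible (Twist.twistOver n S m) := KRRRegH9.isInvertible_twistOver n S m
  have hcoh : Coh.IsCoh (CohB1.tensorMod F (Twist.twistOver n S m)) :=
    Snap9.isCoh_tensorMod hF hO
  haveI := hcoh.1
  have h1 := Groth.Agent.Lib.CBCH2.eulerChar_baseChange (ProjSpaceOver.toBase n S) (𝟙 S)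
    (CohB1.tensorMod F (Twist.twistOver n S m)) s
  have h2 : PerfAux.eulerChar (ProjSpaceOver.toBase n S)
      (CohB1.tensorMod F (Twist.twistOver n S m)) ((𝟙 S : S ⟶ S) s) =
      PerfAux.eulerChar (ProjSpaceOver.toBase n S)
      (CohB1.tensorMod F (Twist.twistOver n S m)) s := rfl
  rw [← h2, ← h1]
  unfold PerfAux.eulerChar Curv2.euler
  refine finsum_congr (fun i => ?_)
  obtain ⟨e1⟩ := Groth.Agent.Lib.FibAmpH2.nonempty_pullback_tensor_iso (bW n S) F hO
  obtain ⟨e2⟩ := Groth.Agent.Lib.FibAmpH2.nonempty_pullback_tensor_iso (aW n S s)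
    ((Scheme.Modules.pullback (bW n S)).obj F) (TensH8.isInvertible_pullback (bW n S) hO)
  have h3 := (Groth.Agent.HypConn.hhEquivOfIso
    (A := ((Over.mk (𝟙 S) : Over S).left.residueField s))
    ((Scheme.Modules.pullback (aW n S s)).mapIso e1 ≪≫ e2) i).finrank_eq
  congr 2
  exact h3.symm

end Fibre

section Main

/-- **S11736**: only finitely many Hilbert polynomials occur among the fibres of a coherent module
on `P^n_S`, `S` Noetherian -/
theorem main11736 (S : Scheme.{u}) [IsNoetherian S] (n : ℕ)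
    (F : (CohB1.ProjSpaceOver n S).Modules) (hF : Coh.IsCoh F) :
    ∃ I : Set (Polynomial ℚ), I.Finite ∧
      ∀ s : (Over.mk (𝟙 S)).left, ∃ P ∈ I, ∀ m : ℤ,
        (FGA.eulerCharLE ((Over.mk (𝟙 S)).left.residueField s) (FGA.fibreAt (CohB1.ProjSpaceOver.toBase n S) (Over.mk (𝟙 S)) s).left
          (CohB1.tensorMod
            (FGA.restrFibre (CohB1.ProjSpaceOver.toBase n S) (Over.mk (𝟙 S)) s (FGA.ET (CohB1.ProjSpaceOver.toBase n S) F (Over.mk (𝟙 S))))
            (FGA.restrFibre (CohB1.ProjSpaceOver.toBase n S) (Over.mk (𝟙 S)) s (FGA.ET (CohB1.ProjSpaceOver.toBase n S) (Twist.twistOver n S m) (Over.mk (𝟙 S))))) n : ℚ) =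
          P.eval (m : ℚ) := by
  classical
  haveI := Groth.Agent.Lib.ProjSpaceProperH4.isProper_toBase n S
  have hfin := finite_range_eulerChar (ProjSpaceOver.toBase n S)
    (fun m : ℤ => Twist.twistOver n S m) (fun m => KRRRegH9.isInvertible_twistOver n S m) F hF
  obtain ⟨v, hv⟩ : ∃ v : S → ℤ → ℤ, v = fun s : S => fun m : ℤ =>
      PerfAux.eulerChar (ProjSpaceOver.toBase n S)
        (CohB1.tensorMod F (Twist.twistOver n S m)) s := ⟨_, rfl⟩
  rw [← hv] at hfin
  have hvapp : ∀ (s : S) (m : ℤ), v s m = PerfAux.eulerChar (ProjSpaceOver.toBase n S)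
      (CohB1.tensorMod F (Twist.twistOver n S m)) s := by
    intro s m
    rw [hv]
  clear hv
  have hP := fun s : S => exists_poly n S s F hF
  choose P hP using hP
  haveI : Finite (Set.range v) := hfin.to_subtype
  have hσ : ∀ h : Set.range v, ∃ s, v s = h.1 := fun h => h.2
  choose σ hσ using hσ
  refine ⟨Set.range (fun h : Set.range v => P (σ h)), Set.finite_range _, fun s => ?_⟩
  refine ⟨P (σ ⟨v s, s, rfl⟩), ⟨_, rfl⟩, fun m => ?_⟩
  have h1 := congrFun (hσ ⟨v s, s, rfl⟩) m
  have h2 := eulerCharLE_eq_eulerChar n S s F hF m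
  have h3 := eulerCharLE_eq_eulerChar n S (σ ⟨v s, s, rfl⟩) F hF m
  have h4 := hvapp s m
  have h5 := hvapp (σ ⟨v s, s, rfl⟩) m
  rw [← hP (σ ⟨v s, s, rfl⟩) m]
  congr 1
  show FGA.eulerCharLE ((Over.mk (𝟙 S) : Over S).left.residueField s) (W n S s) _ n =
    FGA.eulerCharLE ((Over.mk (𝟙 S) : Over S).left.residueField (σ ⟨v s, s, rfl⟩))
      (W n S (σ ⟨v s, s, rfl⟩)) _ n
  rw [h2, h3, ← h4, ← h5, h1]

end Main

end FibHilb
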