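import Mathlib
import Groth.Agent.Lib.UnramLoc_helper4

/-!
# A morphism with a section whose fibre at `s` is trivial is an isomorphism near `s` (helper4)

SGA3 VI_B 2.?: `π : X → S` closed with a section `ε`, lfp near `ε(s)`, `X_s ≅ Spec κ(s)`.
-/

set_option autoImplicit false
set_option linter.unusedVariables false
set_option linter.unusedTactic false
set_option linter.unreachableTactic false
set_option linter.unusedSectionVars false
set_option linter.style.haveILetI false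
set_option linter.deprecated false
set_option maxHeartbeats 1600000

universe u

open CategoryTheory CategoryTheory.Limits AlgebraicGeometry TopologicalSpace

namespace Groth.Agent.Lib.FibIsoNhdH4

open Groth.Agent.Lib.UnramLocH4

theorem isOpenImmersion_of_comp_of_diagonal {X Y Z : Scheme.{u}} (f : X ⟶ Y) (g : Y ⟶ Z)
    [hd : IsOpenImmersion (pullback.diagonal g)] [hc : IsOpenImmersion (f ≫ g)] :
    IsOpenImmersion f := by
  have hpc : (@IsOpenImmersion : MorphismProperty Scheme.{u}).HasOfPostcompProperty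
      (@IsOpenImmersion : MorphismProperty Scheme.{u}).diagonal :=
    MorphismProperty.hasOfPostcompProperty_iff_le_diagonal.mpr le_rfl
  exact MorphismProperty.of_postcomp (W := @IsOpenImmersion)
    (W' := (@IsOpenImmersion : MorphismProperty Scheme.{u}).diagonal) f g hd hc

theorem main5321 (X S : Scheme.{u}) (π : X ⟶ S) (ε : S ⟶ X) (hε : ε ≫ π = 𝟙 S)
    (hcl : IsClosedMap π.base) (s : S)
    (hfp : ∃ W : X.Opens, ε.base s ∈ W ∧ LocallyOfFinitePresentation (W.ι ≫ π))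
    (hs : IsIso (π.fiberToSpecResidueField s)) :
    ∃ U : S.Opens, s ∈ U ∧ IsIso (π ∣_ U) := by
  obtain ⟨W, hεW, hlfp⟩ := hfp
  haveI := hlfp
  have hπε : ∀ t : S, π.base (ε.base t) = t := by
    intro t
    have h0 : (ε ≫ π).base t = t := by rw [hε]; rfl
    exact h0
  have hεπε : ε ≫ π ≫ ε = ε := by rw [← Category.assoc, hε, Category.id_comp]
  -- Step 1: unramified at `ε s`
  obtain ⟨i, hi⟩ : ∃ i : Spec (S.residueField s) ⟶ S, i = S.fromSpecResidueField s := ⟨_, rfl⟩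
  obtain ⟨g₀, hg₀⟩ : ∃ g₀ : (W : Scheme) ⟶ S, g₀ = W.ι ≫ π := ⟨_, rfl⟩
  haveI : LocallyOfFinitePresentation g₀ := by rw [hg₀]; exact hlfp
  haveI hiso : IsIso (pullback.snd π i) := by rw [hi]; exact hs
  obtain ⟨j, hjo, hjs⟩ : ∃ j : pullback g₀ i ⟶ pullback π i,
      IsOpenImmersion j ∧ j ≫ pullback.snd π i = pullback.snd g₀ i := by
    refine ⟨pullback.map g₀ i π i W.ι (𝟙 _) (𝟙 _) (by rw [hg₀, Category.comp_id])
      (by rw [Category.comp_id, Category.id_comp]), inferInstance, ?_⟩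
    exact (pullback.lift_snd _ _ _).trans (Category.comp_id _)
  haveI := hjo
  haveI : IsOpenImmersion (pullback.snd g₀ i) := by rw [← hjs]; infer_instance
  have hx₀ : g₀.base ⟨ε.base s, hεW⟩ = s := by
    rw [hg₀]; exact hπε s
  obtain ⟨pt, -⟩ : ∃ pt : ↥(Spec (S.residueField s)), True :=
    ⟨IsLocalRing.closedPoint (S.residueField s), trivial⟩
  have hpt : i.base pt = s := by
    rw [hi]; exact Scheme.fromSpecResidueField_apply s pt
  obtain ⟨x', hx'1, hx'2⟩ := Scheme.Pullback.exists_preimage_pullback (f := g₀) (g := i)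
    ⟨ε.base s, hεW⟩ pt (hx₀.trans hpt.symm)
  have h1 : ((pullback.snd g₀ i).stalkMap x').hom.FormallyUnramified :=
    FormallyUnramified.stalkMap (pullback.snd g₀ i) x'
  have h2 := stalk_unramified_descent g₀ i x' h1
  have h3 : (g₀.stalkMap ⟨ε.base s, hεW⟩).hom.FormallyUnramified :=
    (stalk_congr_point (P := RingHom.FormallyUnramified) g₀ hx'1).mp h2
  -- Step 2: unramified on a neighbourhood
  obtain ⟨U₁, hxU₁, hU₁⟩ := (exists_nhd_iff_stalk g₀ ⟨ε.base s, hεW⟩).mpr h3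
  obtain ⟨j₁, hj₁⟩ : ∃ j₁ : (U₁ : Scheme) ⟶ X, j₁ = U₁.ι ≫ W.ι := ⟨_, rfl⟩
  haveI : IsOpenImmersion j₁ := by rw [hj₁]; infer_instance
  obtain ⟨h, hh⟩ : ∃ h : (U₁ : Scheme) ⟶ S, h = U₁.ι ≫ g₀ := ⟨_, rfl⟩
  have hjh : j₁ ≫ π = h := by rw [hj₁, hh, hg₀, Category.assoc]
  haveI : FormallyUnramified h := by rw [hh]; exact hU₁
  haveI : LocallyOfFiniteType h := by rw [hh]; infer_instance
  haveI hdiag : IsOpenImmersion (pullback.diagonal h) := inferInstance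
  -- Step 3: the section is an open immersion near `s`
  have hsj : ε.base s ∈ j₁.opensRange :=
    ⟨⟨⟨ε.base s, hεW⟩, hxU₁⟩, by rw [hj₁]; rfl⟩
  obtain ⟨S₁, hS₁⟩ : ∃ S₁ : S.Opens, S₁ = ε ⁻¹ᵁ j₁.opensRange := ⟨_, rfl⟩
  have hsS₁ : s ∈ S₁ := by rw [hS₁]; exact hsj
  have hmem : ∀ y : S, y ∈ S₁ → ε.base y ∈ Set.range j₁.base := by
    intro y hy
    rw [hS₁] at hy
    exact hy
  have hrange : Set.range (S₁.ι ≫ ε).base ⊆ Set.range j₁.base := by
    rintro _ ⟨t, rfl⟩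
    exact hmem t.1 t.2
  obtain ⟨ε₁, hε₁⟩ : ∃ ε₁ : (S₁ : Scheme) ⟶ (U₁ : Scheme), ε₁ ≫ j₁ = S₁.ι ≫ ε :=
    ⟨IsOpenImmersion.lift j₁ (S₁.ι ≫ ε) hrange, IsOpenImmersion.lift_fac _ _ _⟩
  have hcomp : ε₁ ≫ h = S₁.ι := by
    rw [← hjh, ← Category.assoc, hε₁, Category.assoc, hε, Category.comp_id]
  haveI : IsOpenImmersion (ε₁ ≫ h) := by rw [hcomp]; infer_instance
  haveI : IsOpenImmersion ε₁ := isOpenImmersion_of_comp_of_diagonal ε₁ h
  obtain ⟨e, he⟩ : ∃ e : (S₁ : Scheme) ⟶ X, e = S₁.ι ≫ ε := ⟨_, rfl⟩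
  haveI : IsOpenImmersion e := by rw [he, ← hε₁]; infer_instance
  -- Step 4: the fibre is one point
  have hinj : Function.Injective (pullback.snd π i).base :=
    (pullback.snd π i).isOpenEmbedding.injective
  have hfib : ∀ x : X, π.base x = s → x = ε.base s := by
    intro x hx
    obtain ⟨a, ha1, -⟩ := Scheme.Pullback.exists_preimage_pullback (f := π) (g := i) x pt
      (hx.trans hpt.symm)
    obtain ⟨b, hb1, -⟩ := Scheme.Pullback.exists_preimage_pullback (f := π) (g := i)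
      (ε.base s) pt ((hπε s).trans hpt.symm)
    have hsnd : (pullback.snd π i).base a = (pullback.snd π i).base b :=
      Subsingleton.elim (α := PrimeSpectrum _) _ _
    have hab : a = b := hinj hsnd
    rw [← ha1, ← hb1, hab]
  -- Step 5
  obtain ⟨Ω, hΩ⟩ : ∃ Ω : X.Opens, Ω = e.opensRange := ⟨_, rfl⟩
  have hεΩ : ε.base s ∈ Ω := by
    rw [hΩ]; exact ⟨⟨s, hsS₁⟩, by rw [he]; rfl⟩
  have hC : IsClosed (π.base '' (Ω : Set X)ᶜ) := hcl _ Ω.isOpen.isClosed_compl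
  have hsC : s ∉ π.base '' (Ω : Set X)ᶜ := by
    rintro ⟨x, hxΩ, hxs⟩
    exact hxΩ (by rw [hfib x hxs]; exact hεΩ)
  obtain ⟨U, hU⟩ : ∃ U : S.Opens, (U : Set S) = (π.base '' (Ω : Set X)ᶜ)ᶜ :=
    ⟨⟨_, hC.isOpen_compl⟩, rfl⟩
  have hsU : s ∈ U := by
    rw [← SetLike.mem_coe, hU]; exact hsC
  have hUΩ : ∀ x : X, π.base x ∈ U → x ∈ Ω := by
    intro x hx
    by_contra hxΩ
    have hx' : π.base x ∈ (U : Set S) := hx
    rw [hU] at hx'
    exact hx' ⟨x, hxΩ, rfl⟩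
  refine ⟨U, hsU, ?_⟩
  have hra : Set.range (π ⁻¹ᵁ U).ι.base ⊆ Set.range e.base := by
    rintro _ ⟨z, rfl⟩
    have hz : π.base ((π ⁻¹ᵁ U).ι.base z) ∈ U := z.2
    have hz' := hUΩ _ hz
    rw [hΩ] at hz'
    exact hz'
  obtain ⟨b, hb⟩ : ∃ b : ((π ⁻¹ᵁ U : X.Opens) : Scheme) ⟶ (S₁ : Scheme),
      b ≫ e = (π ⁻¹ᵁ U).ι :=
    ⟨IsOpenImmersion.lift e (π ⁻¹ᵁ U).ι hra, IsOpenImmersion.lift_fac _ _ _⟩
  have hfix : (π ⁻¹ᵁ U).ι ≫ π ≫ ε = (π ⁻¹ᵁ U).ι := by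
    rw [← hb, he]
    simp only [Category.assoc]
    rw [hεπε]
  have hrσ : Set.range (U.ι ≫ ε).base ⊆ Set.range (π ⁻¹ᵁ U).ι.base := by
    rintro _ ⟨t, rfl⟩
    refine ⟨⟨ε.base t.1, ?_⟩, rfl⟩
    show π.base (ε.base t.1) ∈ U
    rw [hπε]; exact t.2
  obtain ⟨σ, hσ⟩ : ∃ σ : (U : Scheme) ⟶ ((π ⁻¹ᵁ U : X.Opens) : Scheme),
      σ ≫ (π ⁻¹ᵁ U).ι = U.ι ≫ ε :=
    ⟨IsOpenImmersion.lift (π ⁻¹ᵁ U).ι (U.ι ≫ ε) hrσ, IsOpenImmersion.lift_fac _ _ _⟩
  have h1' : (π ∣_ U) ≫ σ = 𝟙 _ := by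
    rw [← cancel_mono (π ⁻¹ᵁ U).ι, Category.assoc, hσ, morphismRestrict_ι_assoc,
      Category.id_comp]
    exact hfix
  have h2' : σ ≫ (π ∣_ U) = 𝟙 _ := by
    rw [← cancel_mono U.ι, Category.assoc, morphismRestrict_ι, ← Category.assoc, hσ,
      Category.assoc, hε, Category.comp_id, Category.id_comp]
  exact ⟨⟨σ, h1', h2'⟩⟩

end Groth.Agent.Lib.FibIsoNhdH4
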