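import Mathlib
import Groth.Prelude
import Groth.Agent.Lib.PBCNat5_helper2
import Groth.Agent.Lib.PBCAlg5_helper2
import Groth.Agent.Lib.BCFib1_helper2
import Groth.Agent.Lib.TFFree_helper8

/-!
# Sections over the closed fibre lift when `H^1` of the fibre vanishes (helper2)

For `X` proper over a Noetherian local ring `A` and a coherent `O_X`-module `H` flat over `A` with
`H^1(X_y, H_y) = 0` on the closed fibre, the restriction map `H^0(X, H) → H^0(X_y, H_y)` is
surjective.
-/

set_option autoImplicit false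
universe u
open CategoryTheory Limits AlgebraicGeometry TopologicalSpace Opposite TensorProduct

namespace Groth.Agent.Lib.FibLiftH2

open Groth.Agent.Lib.PBCH2 Groth.Agent.Lib.FlatBCH2 Groth.Agent.Lib.FibVanH2
  Groth.Agent.Lib.BCFibH2

section Main

variable (A : Type u) [CommRing A] [IsNoetherianRing A] [IsLocalRing A] (X : Scheme.{u})
  [X.Over (Spec (CommRingCat.of A))] [IsProper (X ↘ Spec (CommRingCat.of A))]
  (H : X.Modules) (hH : Coh.IsCoh H)
  (hfl : FlatMod.IsFlatOver (X ↘ Spec (CommRingCat.of A)) H)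

include hH hfl in
theorem pullMod_zero_surjective
    (hvan : Subsingleton (CohIII.fiberH (X ↘ Spec (CommRingCat.of A)) H
      (IsLocalRing.closedPoint A) 1)) :
    Function.Surjective (CohPull.pullMod
      ((X ↘ Spec (CommRingCat.of A)).fiberι (IsLocalRing.closedPoint A)) H 0) := by
  classical
  set y : PrimeSpectrum A := IsLocalRing.closedPoint A with hy
  haveI : IsLocallyNoetherian X :=
    LocallyOfFiniteType.isLocallyNoetherian (X ↘ Spec (CommRingCat.of A))
  haveI : LocallyOfFinitePresentation (X ↘ Spec (CommRingCat.of A)) :=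
    LocallyOfFinitePresentation.iff_locallyOfFiniteType.mpr inferInstance
  haveI : Coh.IsQCoh H := hH.1
  haveI : H.IsQuasicoherent := hH.1
  haveI : SheafOfModules.IsFiniteType (R := X.ringCatSheaf) H := hH.2
  have hfp : CohB1.IsFP H := FLFH8.isFinitePresentation_of_isCoh H
  obtain ⟨P, hP, -, -, hpk⟩ := natPackageChain A X H hfp hfl
  letI := fibreOver A (X := X) y
  -- degree one: vanishing
  obtain ⟨Ψ1, hΨ1⟩ := hpk 1
  obtain ⟨Ψ1', -, -⟩ := hΨ1 y.asIdeal.ResidueField ((X ↘ Spec (CommRingCat.of A)).fiber y)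
    ((X ↘ Spec (CommRingCat.of A)).fiberι y) (isPullback_fibre' A y)
  have hsub1 : Subsingleton ((CohIII.TFun P (-((1 : ℕ) : ℤ))).obj
      (ModuleCat.of A y.asIdeal.ResidueField)) := by
    haveI := hvan
    exact Ψ1'.toEquiv.subsingleton
  obtain ⟨g, hg, hs1, hs0⟩ := algVan P hP (-((1 : ℕ) : ℤ)) y.asIdeal.ResidueField hsub1
  -- degree zero
  obtain ⟨Ψ0, hΨ0⟩ := hpk 0
  obtain ⟨Ψ0', hmul, hincl⟩ := hΨ0 y.asIdeal.ResidueField
    ((X ↘ Spec (CommRingCat.of A)).fiber y)
    ((X ↘ Spec (CommRingCat.of A)).fiberι y) (isPullback_fibre' A y)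
  have e0 : (-((1 : ℕ) : ℤ)) + 1 = -((0 : ℕ) : ℤ) := by norm_num
  rw [e0] at hs0
  have hgu : IsUnit (algebraMap A y.asIdeal.ResidueField g) := IsUnit.mk0 _ hg
  obtain ⟨e, he⟩ := isBC_of_hasGSplit P (-((0 : ℕ) : ℤ)) Ψ0 Ψ0'
    (CohPull.pullMod ((X ↘ Spec (CommRingCat.of A)).fiberι y) H 0) hmul hincl g hs0 hgu
  -- `A → κ(y)` is surjective at the closed point
  haveI : y.asIdeal.IsMaximal := by
    rw [hy]
    exact IsLocalRing.maximalIdeal.isMaximal A
  have hsurj : Function.Surjective (algebraMap A y.asIdeal.ResidueField) :=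
    Ideal.algebraMap_residueField_surjective y.asIdeal
  intro z
  obtain ⟨w, rfl⟩ := e.surjective z
  induction w using TensorProduct.induction_on with
  | zero => exact ⟨0, by rw [map_zero, map_zero]⟩
  | tmul a' x =>
    obtain ⟨a, rfl⟩ := hsurj a'
    refine ⟨a • x, ?_⟩
    rw [← he]
    congr 1
    rw [TensorProduct.tmul_smul, TensorProduct.smul_tmul', Algebra.smul_def, mul_one]
  | add w w' hw hw' =>
    obtain ⟨x, hx⟩ := hw
    obtain ⟨x', hx'⟩ := hw'
    exact ⟨x + x', by rw [map_add, map_add, hx, hx']⟩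

end Main

end Groth.Agent.Lib.FibLiftH2
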