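import Mathlib
import Groth.Prelude
import Groth.Agent.Lib.ProjFormula2_helper3
import Groth.Agent.Lib.PullTensIso3_helper3

/-!
# The unit of `f^* ⊣ f_*`, the projection morphism and the pullback of a tensor product (helper2)
-/

set_option autoImplicit false
universe u
open CategoryTheory CategoryTheory.Limits AlgebraicGeometry Opposite TopologicalSpace

namespace Groth.Agent.Lib.FibLiftH2

open Groth.Agent.Lib.ProjFormulaH3 Groth.Agent.Lib.PullTensIsoH3 Groth.Agent.Lib.StalkTensH3
  PBH8 QCohExtn QcqsLoc PullTensH9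

noncomputable section

variable {X Y : Scheme.{u}} (f : X ⟶ Y)

/-- the unit of `f^* ⊣ f_*` on sections -/
lemma unit_app_eq_cUV (M : Y.Modules) (V : Y.Opens) (m : Γ(M, V)) :
    (ap ((Scheme.Modules.pullbackPushforwardAdjunction f).unit.app M) V m :
      Γ((Scheme.Modules.pullback f).obj M, f ⁻¹ᵁ V)) = cUV f M le_rfl m := by
  unfold cUV
  have h : (homOfLE (le_rfl : f ⁻¹ᵁ V ≤ f ⁻¹ᵁ V)).op = 𝟙 (op (f ⁻¹ᵁ V)) := rfl
  rw [h, ((Scheme.Modules.pullback f).obj M).presheaf.map_id]
  rfl

/-- **compatibility of the unit with the projection morphism** -/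
theorem unit_tensor_pj (G D : Y.Modules) :
    (DCoh.tensorBi.map ((Scheme.Modules.pullbackPushforwardAdjunction f).unit.app G)).app D ≫
        pj f ((Scheme.Modules.pullback f).obj G) D =
      (Scheme.Modules.pullbackPushforwardAdjunction f).unit.app (CohB1.tensorMod G D) ≫
        (Scheme.Modules.pushforward f).map (ptHom f G D) := by
  apply PFormH9.hom_ext_tmul
  intro V g d
  show ap (pj f ((Scheme.Modules.pullback f).obj G) D) V
      (ap ((DCoh.tensorBi.map
        ((Scheme.Modules.pullbackPushforwardAdjunction f).unit.app G)).app D) V (tm G D V g d)) =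
    ap (ptHom f G D) (f ⁻¹ᵁ V)
      (ap ((Scheme.Modules.pullbackPushforwardAdjunction f).unit.app (CohB1.tensorMod G D)) V
        (tm G D V g d))
  have h1 : ap ((DCoh.tensorBi.map
      ((Scheme.Modules.pullbackPushforwardAdjunction f).unit.app G)).app D) V (tm G D V g d) =
      tm ((Scheme.Modules.pushforward f).obj ((Scheme.Modules.pullback f).obj G)) D V
        (ap ((Scheme.Modules.pullbackPushforwardAdjunction f).unit.app G) V g) d :=
    tensorBi_map_app_tm ((Scheme.Modules.pullbackPushforwardAdjunction f).unit.app G) D V g d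
  have h2 : (ap ((Scheme.Modules.pullbackPushforwardAdjunction f).unit.app (CohB1.tensorMod G D)) V
      (tm G D V g d) : Γ((Scheme.Modules.pullback f).obj (CohB1.tensorMod G D), f ⁻¹ᵁ V)) =
      cUV f (CohB1.tensorMod G D) le_rfl (tm G D V g d) :=
    unit_app_eq_cUV f (CohB1.tensorMod G D) V (tm G D V g d)
  have h3 : (ap ((Scheme.Modules.pullbackPushforwardAdjunction f).unit.app G) V g :
      Γ((Scheme.Modules.pullback f).obj G, f ⁻¹ᵁ V)) = cUV f G le_rfl g :=
    unit_app_eq_cUV f G V g
  refine (congrArg (ap (pj f ((Scheme.Modules.pullback f).obj G) D) V) h1).trans ?_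
  refine (pj_tm f ((Scheme.Modules.pullback f).obj G) D V _ d).trans ?_
  refine Eq.trans ?_ (congrArg (ap (ptHom f G D) (f ⁻¹ᵁ V)) h2).symm
  refine Eq.trans ?_ (ptHom_cUV' f G D V g d).symm
  exact congrArg (fun t => tm ((Scheme.Modules.pullback f).obj G)
    ((Scheme.Modules.pullback f).obj D) (f ⁻¹ᵁ V) t (cUV f D le_rfl d)) h3

end

end Groth.Agent.Lib.FibLiftH2
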