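import Mathlib

/-!
# Corepresentability of `M ↦ Hom(G, T M)` from a presentation of `G`

If `E₁ ⟶ E₀ ⟶ G ⟶ 0` is exact and the functors `M ↦ Hom(E_i, T M)` on `A`-modules are
corepresentable (as functors to abelian groups) by `Q_i`, with `Q₀` finite, then
`M ↦ Hom(G, T M)` is corepresentable by a finite `A`-module.
-/

set_option autoImplicit false
universe u
open CategoryTheory Limits Opposite

namespace Groth.Agent.Lib.HomCorepH2

variable {A : Type u} [CommRing A]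

/-- the corepresentable functor `Hom_A(Q, -)` with values in abelian groups -/
noncomputable abbrev HomAb (Q : ModuleCat.{u} A) : ModuleCat.{u} A ⥤ AddCommGrpCat.{u} :=
  (linearCoyoneda A (ModuleCat.{u} A)).obj (op Q) ⋙ forget₂ (ModuleCat.{u} A) AddCommGrpCat.{u}

lemma HomAb_map_apply {Q M M' : ModuleCat.{u} A} (g : M ⟶ M') (h : Q ⟶ M) :
    ((HomAb Q).map g).hom (show (HomAb Q).obj M from h) =
      (show (HomAb Q).obj M' from h ≫ g) := rfl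

/-- Yoneda for the functors `HomAb` -/
lemma yoneda_HomAb {Q₀ Q₁ : ModuleCat.{u} A} (η' : HomAb Q₀ ⟶ HomAb Q₁) :
    ∃ φ : Q₁ ⟶ Q₀, ∀ (M : ModuleCat.{u} A) (g : Q₀ ⟶ M),
      (show Q₁ ⟶ M from (η'.app M).hom (show (HomAb Q₀).obj M from g)) = φ ≫ g := by
  refine ⟨(show Q₁ ⟶ Q₀ from (η'.app Q₀).hom (show (HomAb Q₀).obj Q₀ from 𝟙 Q₀)),
    fun M g => ?_⟩
  have h := congrArg (fun ψ => ψ.hom (show (HomAb Q₀).obj Q₀ from 𝟙 Q₀)) (η'.naturality g)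
  have h1 : ((HomAb Q₀).map g).hom (show (HomAb Q₀).obj Q₀ from 𝟙 Q₀) =
      (show (HomAb Q₀).obj M from g) := by
    rw [HomAb_map_apply]
    exact congrArg (fun (z : Q₀ ⟶ M) => (show (HomAb Q₀).obj M from z)) (Category.id_comp g)
  have h2 : (η'.app M).hom (((HomAb Q₀).map g).hom (show (HomAb Q₀).obj Q₀ from 𝟙 Q₀)) =
      ((HomAb Q₁).map g).hom ((η'.app Q₀).hom (show (HomAb Q₀).obj Q₀ from 𝟙 Q₀)) := h
  rw [h1] at h2
  exact h2


section Main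

variable {𝒞 : Type*} [Category.{u} 𝒞] [Abelian 𝒞] (T : ModuleCat.{u} A ⥤ 𝒞)

lemma coy_map_apply (E : 𝒞) {M M' : ModuleCat.{u} A} (k : M ⟶ M') (h : E ⟶ T.obj M) :
    ((T ⋙ preadditiveCoyoneda.obj (op E)).map k).hom
      (show (T ⋙ preadditiveCoyoneda.obj (op E)).obj M from h) =
      (show (T ⋙ preadditiveCoyoneda.obj (op E)).obj M' from h ≫ T.map k) := rfl

theorem hom_corep {G E₀ E₁ : 𝒞} (v : E₁ ⟶ E₀) (π : E₀ ⟶ G) [Epi π] (w : v ≫ π = 0)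
    (hex : (ShortComplex.mk v π w).Exact)
    {Q₀ Q₁ : ModuleCat.{u} A} [Module.Finite A Q₀]
    (ε₀ : T ⋙ preadditiveCoyoneda.obj (op E₀) ≅ HomAb Q₀)
    (ε₁ : T ⋙ preadditiveCoyoneda.obj (op E₁) ≅ HomAb Q₁) :
    ∃ N : ModuleCat.{u} A, Module.Finite A N ∧
      Nonempty (T ⋙ preadditiveCoyoneda.obj (op G) ≅ HomAb N) := by
  classical
  let η : T ⋙ preadditiveCoyoneda.obj (op E₀) ⟶ T ⋙ preadditiveCoyoneda.obj (op E₁) :=
    Functor.whiskerLeft T (preadditiveCoyoneda.map v.op)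
  have hη : ∀ (M : ModuleCat.{u} A) (x : E₀ ⟶ T.obj M),
      (show E₁ ⟶ T.obj M from (η.app M).hom
        (show (T ⋙ preadditiveCoyoneda.obj (op E₀)).obj M from x)) = v ≫ x := fun M x => rfl
  let η' : HomAb Q₀ ⟶ HomAb Q₁ := ε₀.inv ≫ η ≫ ε₁.hom
  obtain ⟨φ, hφ⟩ := yoneda_HomAb η'
  let p : Q₀ ⟶ cokernel φ := cokernel.π φ
  have hps : Function.Surjective p.hom := (ModuleCat.epi_iff_surjective p).1 inferInstance
  -- the element-level maps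
  let a₀ : ∀ M : ModuleCat.{u} A, (E₀ ⟶ T.obj M) → (Q₀ ⟶ M) := fun M x =>
    (ε₀.hom.app M).hom (show (T ⋙ preadditiveCoyoneda.obj (op E₀)).obj M from x)
  let b₀ : ∀ M : ModuleCat.{u} A, (Q₀ ⟶ M) → (E₀ ⟶ T.obj M) := fun M g =>
    (ε₀.inv.app M).hom (show (HomAb Q₀).obj M from g)
  let a₁ : ∀ M : ModuleCat.{u} A, (E₁ ⟶ T.obj M) → (Q₁ ⟶ M) := fun M x =>
    (ε₁.hom.app M).hom (show (T ⋙ preadditiveCoyoneda.obj (op E₁)).obj M from x)
  have ha₀_add : ∀ (M : ModuleCat.{u} A) (x y : E₀ ⟶ T.obj M), a₀ M (x + y) = a₀ M x + a₀ M y :=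
    fun M x y => map_add (ε₀.hom.app M).hom _ _
  have ha₀_zero : ∀ (M : ModuleCat.{u} A), a₀ M 0 = 0 := fun M => map_zero (ε₀.hom.app M).hom
  have ha₁_zero : ∀ (M : ModuleCat.{u} A), a₁ M 0 = 0 := fun M => map_zero (ε₁.hom.app M).hom
  have hab : ∀ (M : ModuleCat.{u} A) (g : Q₀ ⟶ M), a₀ M (b₀ M g) = g := fun M g =>
    congrArg (fun ψ => ψ.hom (show (HomAb Q₀).obj M from g)) (ε₀.inv_hom_id_app M)
  have hba : ∀ (M : ModuleCat.{u} A) (x : E₀ ⟶ T.obj M), b₀ M (a₀ M x) = x := fun M x =>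
    congrArg (fun ψ => ψ.hom (show (T ⋙ preadditiveCoyoneda.obj (op E₀)).obj M from x))
      (ε₀.hom_inv_id_app M)
  have ha₁_inj : ∀ (M : ModuleCat.{u} A), Function.Injective (a₁ M) := fun M x y h =>
    (ConcreteCategory.bijective_of_isIso (ε₁.hom.app M)).1 h
  -- key relation: `a₁ (v ≫ x) = φ ≫ a₀ x`
  have hkey : ∀ (M : ModuleCat.{u} A) (x : E₀ ⟶ T.obj M), a₁ M (v ≫ x) = φ ≫ a₀ M x := by
    intro M x
    rw [← hφ M (a₀ M x)]
    show a₁ M (v ≫ x) = (ε₁.hom.app M).hom ((η.app M).hom ((ε₀.inv.app M).hom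
      (show (HomAb Q₀).obj M from a₀ M x)))
    have h1 : (ε₀.inv.app M).hom (show (HomAb Q₀).obj M from a₀ M x) =
        (show (T ⋙ preadditiveCoyoneda.obj (op E₀)).obj M from x) := hba M x
    rw [h1]
    rfl
  -- naturality of `a₀`
  have ha₀_nat : ∀ {M M' : ModuleCat.{u} A} (k : M ⟶ M') (x : E₀ ⟶ T.obj M),
      a₀ M' (x ≫ T.map k) = a₀ M x ≫ k := by
    intro M M' k x
    have h := congrArg (fun ψ => ψ.hom (show (T ⋙ preadditiveCoyoneda.obj (op E₀)).obj M from x))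
      (ε₀.hom.naturality k)
    exact h
  -- the comparison map
  have hΨ : ∀ (M : ModuleCat.{u} A) (h : G ⟶ T.obj M), φ ≫ a₀ M (π ≫ h) = 0 := by
    intro M h
    rw [← hkey, ← Category.assoc, w, zero_comp, ha₁_zero]
  let Ψ : ∀ M : ModuleCat.{u} A, (G ⟶ T.obj M) → (cokernel φ ⟶ M) := fun M h =>
    cokernel.desc φ (a₀ M (π ≫ h)) (hΨ M h)
  have hpΨ : ∀ (M : ModuleCat.{u} A) (h : G ⟶ T.obj M), p ≫ Ψ M h = a₀ M (π ≫ h) := fun M h =>
    cokernel.π_desc _ _ _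
  have hΨ_add : ∀ (M : ModuleCat.{u} A) (h h' : G ⟶ T.obj M), Ψ M (h + h') = Ψ M h + Ψ M h' := by
    intro M h h'
    rw [← cancel_epi p, Preadditive.comp_add, hpΨ, hpΨ, hpΨ, Preadditive.comp_add, ha₀_add]
  have hΨ_inj : ∀ (M : ModuleCat.{u} A), Function.Injective (Ψ M) := by
    intro M h h' hh
    have h1 : a₀ M (π ≫ h) = a₀ M (π ≫ h') := by rw [← hpΨ, ← hpΨ, hh]
    have h2 : π ≫ h = π ≫ h' := by rw [← hba M (π ≫ h), ← hba M (π ≫ h'), h1]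
    exact (cancel_epi π).1 h2
  have hΨ_surj : ∀ (M : ModuleCat.{u} A), Function.Surjective (Ψ M) := by
    intro M g
    have h1 : v ≫ b₀ M (p ≫ g) = 0 := by
      apply ha₁_inj M
      rw [hkey, hab, ha₁_zero, ← Category.assoc, cokernel.condition, zero_comp]
    refine ⟨hex.desc (b₀ M (p ≫ g)) h1, ?_⟩
    rw [← cancel_epi p, hpΨ]
    have h2 : π ≫ hex.desc (b₀ M (p ≫ g)) h1 = b₀ M (p ≫ g) := hex.g_desc _ h1
    rw [h2, hab]
  have hΨ_nat : ∀ {M M' : ModuleCat.{u} A} (k : M ⟶ M') (h : G ⟶ T.obj M),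
      Ψ M' (h ≫ T.map k) = Ψ M h ≫ k := by
    intro M M' k h
    rw [← cancel_epi p, hpΨ, ← Category.assoc, ← Category.assoc, hpΨ, ha₀_nat]
  refine ⟨cokernel φ, Module.Finite.of_surjective p.hom hps, ⟨?_⟩⟩
  refine NatIso.ofComponents (fun M => (AddEquiv.toAddCommGrpIso
    ((AddEquiv.ofBijective (AddMonoidHom.mk' (Ψ M) (hΨ_add M) : (G ⟶ T.obj M) →+ (cokernel φ ⟶ M))
      ⟨hΨ_inj M, hΨ_surj M⟩)) : (T ⋙ preadditiveCoyoneda.obj (op G)).obj M ≅ (HomAb (cokernel φ)).obj M))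
    ?_
  intro M M' k
  apply AddCommGrpCat.hom_ext
  apply AddMonoidHom.ext
  intro h
  exact hΨ_nat k h

end Main

end Groth.Agent.Lib.HomCorepH2
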