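import Mathlib
import Groth.Prelude
import Groth.Agent.Lib.HomCorep_helper2
import Groth.Agent.Lib.TensBasis5_helper9
import Groth.Agent.Lib.RelPerfTens_helper3
import Groth.Agent.Lib.FLF5_helper8
import Groth.Agent.Lib.TensInv2_helper9
import Groth.Agent.Lib.TensorAssoc_helper2
import Groth.Agent.Lib.DTorCmp_helper2
import Groth.Agent.Lib.BCH0_helper2
import Groth.Agent.Lib.SDivGen_helper8

/-!
# `Hom(E, -)` for a dualizable module `E`, and corepresentability of `M ↦ Hom(E, f^*M~ ⊗ F)`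
-/

set_option autoImplicit false
universe u
open CategoryTheory Limits AlgebraicGeometry TopologicalSpace Opposite

namespace Groth.Agent.Lib.HomDualH2

open Groth.Agent.TensInv Groth.Agent.Lib.HomCorepH2

section Adj

variable {𝒞 𝒟 : Type*} [Category 𝒞] [Category 𝒟] [Preadditive 𝒞] [Preadditive 𝒟]
  {L : 𝒞 ⥤ 𝒟} {R : 𝒟 ⥤ 𝒞} (adj : L ⊣ R) [L.Additive]

/-- `Hom(L X, -) ≅ Hom(X, R -)` as functors to abelian groups -/
noncomputable def adjCoyonedaIso (X : 𝒞) :
    preadditiveCoyoneda.obj (op (L.obj X)) ≅ R ⋙ preadditiveCoyoneda.obj (op X) :=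
  NatIso.ofComponents (fun Y => (adj.homAddEquiv X Y).toAddCommGrpIso) (by
    intro Y Y' g
    apply AddCommGrpCat.hom_ext
    apply AddMonoidHom.ext
    intro h
    exact adj.homEquiv_naturality_right h g)

end Adj

section Unit

variable {X : Scheme.{u}}

/-- morphisms from the structure sheaf are global sections -/
noncomputable def homUnitEquiv (H : X.Modules) : (Coh.structureModule X ⟶ H) ≃+ Γ(H, ⊤) where
  toFun f := f.val.app (op ⊤) (1 : X.ringCatSheaf.obj.obj (op ⊤))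
  invFun t := SDivGenH8.unitHom H t
  left_inv f := by
    apply (SheafOfModules.unitHomEquiv H).injective
    refine ((SheafOfModules.unitHomEquiv H).apply_symm_apply _).trans ?_
    ext V
    show H.val.map (homOfLE (le_top : V.unop ≤ ⊤)).op
      (f.val.app (op ⊤) (1 : X.ringCatSheaf.obj.obj (op ⊤))) = f.val.app V _
    have h := PresheafOfModules.naturality_apply f.val (homOfLE (le_top : V.unop ≤ ⊤)).op
      (1 : X.ringCatSheaf.obj.obj (op ⊤))
    refine h.symm.trans ?_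
    congr 1
    exact map_one (X.ringCatSheaf.obj.map (homOfLE (le_top : V.unop ≤ ⊤)).op).hom
  right_inv t := by
    refine (SDivGenH8.unitHom_app_one H t ⊤).trans ?_
    have h : (homOfLE (le_top : (⊤ : X.Opens) ≤ ⊤)).op = 𝟙 (op (⊤ : X.Opens)) := rfl
    rw [h, H.val.map_id]
    rfl
  map_add' f g := rfl

lemma homUnitEquiv_comp {H H' : X.Modules} (f : Coh.structureModule X ⟶ H) (ψ : H ⟶ H') :
    homUnitEquiv H' (f ≫ ψ) = (ψ.app ⊤).hom (homUnitEquiv H f) := rfl

end Unit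


section GS

variable (A : Type u) [CommRing A] {X : Scheme.{u}} [X.Over (Spec (CommRingCat.of A))]

/-- `Hom(O_X, -)` is the global sections functor -/
noncomputable def homUnitIso :
    preadditiveCoyoneda.obj (op (Coh.structureModule X)) ≅
      CohIII.globalSectionsA A ⋙ forget₂ (ModuleCat.{u} A) AddCommGrpCat.{u} :=
  NatIso.ofComponents (fun H => ((homUnitEquiv H).toAddCommGrpIso :
    (preadditiveCoyoneda.obj (op (Coh.structureModule X))).obj H ≅
      (CohIII.globalSectionsA A ⋙ forget₂ (ModuleCat.{u} A) AddCommGrpCat.{u}).obj H)) (by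
    intro H H' ψ
    apply AddCommGrpCat.hom_ext
    apply AddMonoidHom.ext
    intro f
    exact homUnitEquiv_comp f ψ)

end GS

section Assoc

variable {X : Scheme.{u}}

/-- `(- ⊗ F) ⊗ D ≅ - ⊗ (F ⊗ D)` -/
noncomputable def assocNat (F D : X.Modules) :
    DCoh.tensorRightMod F ⋙ tR D ≅ DCoh.tensorRightMod (CohB1.tensorMod F D) :=
  Functor.isoWhiskerRight (Groth.Agent.Lib.DTorCmp.eT F) (tR D) ≪≫
    (NatIso.ofComponents (fun P => Groth.Agent.Lib.TensorAssoc.assocIso X.sheaf P F D)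
      (fun {P P'} f => Groth.Agent.Lib.TensorAssoc.assocIso_nat₁ P F D f) :
      tR F ⋙ tR D ≅ tR (CohB1.tensorMod F D)) ≪≫
    (Groth.Agent.Lib.DTorCmp.eT (CohB1.tensorMod F D)).symm

end Assoc

section Main

variable (A : Type u) [CommRing A] [IsNoetherianRing A] (X : Scheme.{u})
  [X.Over (Spec (CommRingCat.of A))] [IsProper (X ↘ Spec (CommRingCat.of A))]
  (F : X.Modules) (hF : Coh.IsCoh F)
  (hfl : FlatMod.IsFlatOver (X ↘ Spec (CommRingCat.of A)) F)

include hF hfl in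
/-- if `Hom(E, -) ≅ Γ(X, - ⊗ D)` with `D` finite locally free, then `M ↦ Hom(E, f^*M~ ⊗ F)` is
corepresentable by a finite module -/
theorem corep_of_theta (E D : X.Modules) (hD : FlatMod.IsFinLocFree D)
    (θ : preadditiveCoyoneda.obj (op E) ≅
      tR D ⋙ preadditiveCoyoneda.obj (op (Coh.structureModule X))) :
    ∃ Q : ModuleCat.{u} A, Module.Finite A Q ∧
      Nonempty (CohIII.tensorAFunctor A F ⋙ preadditiveCoyoneda.obj (op E) ≅ HomAb Q) := by
  haveI : IsLocallyNoetherian X :=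
    LocallyOfFiniteType.isLocallyNoetherian (X ↘ Spec (CommRingCat.of A))
  have hF' : Coh.IsCoh (CohB1.tensorMod F D) := TensBasis.isCoh_tensorMod_finLocFree hF hD
  have hfl1 : FlatMod.IsFlatOver (X ↘ Spec (CommRingCat.of A))
      (((DCoh.tensorBi (X := X)).obj D).obj F) :=
    Groth.Agent.Lib.RelPerfTensH3.isFlatOver_tensor _ D F hD hfl
  have hfl' : FlatMod.IsFlatOver (X ↘ Spec (CommRingCat.of A)) (CohB1.tensorMod F D) :=
    Groth.Agent.Lib.RelPerfTensH3.isFlatOver_of_iso _ (Groth.Agent.TensInv.comm D F) hfl1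
  obtain ⟨Q, hQ, ⟨α⟩⟩ := Groth.Agent.Lib.BCMainH2.main2436 A X (CohB1.tensorMod F D) hF' hfl'
  refine ⟨Q, hQ, ⟨?_⟩⟩
  let pre : ModuleCat.{u} A ⥤ X.Modules :=
    tilde.functor (CommRingCat.of A) ⋙ Scheme.Modules.pullback (X ↘ Spec (CommRingCat.of A))
  let i1 : CohIII.tensorAFunctor A F ⋙ preadditiveCoyoneda.obj (op E) ≅
      CohIII.tensorAFunctor A F ⋙ tR D ⋙ preadditiveCoyoneda.obj (op (Coh.structureModule X)) :=
    Functor.isoWhiskerLeft _ θ
  let i2 : CohIII.tensorAFunctor A F ⋙ tR D ⋙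
        preadditiveCoyoneda.obj (op (Coh.structureModule X)) ≅
      CohIII.tensorAFunctor A (CohB1.tensorMod F D) ⋙
        preadditiveCoyoneda.obj (op (Coh.structureModule X)) :=
    (Functor.isoWhiskerRight (Functor.isoWhiskerLeft pre (assocNat F D))
      (preadditiveCoyoneda.obj (op (Coh.structureModule X))) :)
  let i3 : CohIII.tensorAFunctor A (CohB1.tensorMod F D) ⋙
        preadditiveCoyoneda.obj (op (Coh.structureModule X)) ≅
      CohIII.tensorAFunctor A (CohB1.tensorMod F D) ⋙ CohIII.globalSectionsA A ⋙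
        forget₂ (ModuleCat.{u} A) AddCommGrpCat.{u} :=
    Functor.isoWhiskerLeft _ (homUnitIso A)
  let i4 : CohIII.tensorAFunctor A (CohB1.tensorMod F D) ⋙ CohIII.globalSectionsA A ⋙
        forget₂ (ModuleCat.{u} A) AddCommGrpCat.{u} ≅ HomAb Q :=
    (Functor.isoWhiskerRight α (forget₂ (ModuleCat.{u} A) AddCommGrpCat.{u}) :)
  exact i1 ≪≫ i2 ≪≫ i3 ≪≫ i4

end Main


section Kappa

variable {X : Scheme.{u}}

/-- from an identification of the internal Hom functor of `E` with `- ⊗ D` to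
`Hom(E, -) ≅ Hom(O, - ⊗ D)` -/
noncomputable def thetaOfKappa (E D : X.Modules) [ModSite.HasSheafHom (O := X.sheaf) E]
    (κ : ModSite.sheafHom (O := X.sheaf) E ≅ tR D) :
    preadditiveCoyoneda.obj (op E) ≅
      tR D ⋙ preadditiveCoyoneda.obj (op (Coh.structureModule X)) :=
  preadditiveCoyoneda.mapIso
      ((Groth.Agent.TensInv.comm (Coh.structureModule X) E ≪≫
        Groth.Agent.TensInv.rightUnit E).op) ≪≫
    adjCoyonedaIso (ModSite.sheafHomAdj (O := X.sheaf) E) (Coh.structureModule X) ≪≫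
    Functor.isoWhiskerRight κ (preadditiveCoyoneda.obj (op (Coh.structureModule X)))

end Kappa

section Main2

variable (A : Type u) [CommRing A] [IsNoetherianRing A] (X : Scheme.{u})
  [X.Over (Spec (CommRingCat.of A))] [IsProper (X ↘ Spec (CommRingCat.of A))]
  (F : X.Modules) (hF : Coh.IsCoh F)
  (hfl : FlatMod.IsFlatOver (X ↘ Spec (CommRingCat.of A)) F)

include hF hfl in
theorem main4500_of_theta (G E₀ E₁ D₀ D₁ : X.Modules)
    (h₀ : FlatMod.IsFinLocFree D₀) (h₁ : FlatMod.IsFinLocFree D₁)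
    (θ₀ : preadditiveCoyoneda.obj (op E₀) ≅
      tR D₀ ⋙ preadditiveCoyoneda.obj (op (Coh.structureModule X)))
    (θ₁ : preadditiveCoyoneda.obj (op E₁) ≅
      tR D₁ ⋙ preadditiveCoyoneda.obj (op (Coh.structureModule X)))
    (v : E₁ ⟶ E₀) (π : E₀ ⟶ G) [Epi π] (w : v ≫ π = 0) (hex : (ShortComplex.mk v π w).Exact) :
    ∃ N : ModuleCat.{u} A, Module.Finite A N ∧
      Nonempty (CohIII.tensorAFunctor A F ⋙ preadditiveCoyoneda.obj (op G) ≅
        (linearCoyoneda A (ModuleCat.{u} A)).obj (op N) ⋙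
          forget₂ (ModuleCat.{u} A) AddCommGrpCat.{u}) := by
  obtain ⟨Q₀, hQ₀, ⟨ε₀⟩⟩ := corep_of_theta A X F hF hfl E₀ D₀ h₀ θ₀
  obtain ⟨Q₁, -, ⟨ε₁⟩⟩ := corep_of_theta A X F hF hfl E₁ D₁ h₁ θ₁
  haveI := hQ₀
  exact hom_corep (CohIII.tensorAFunctor A F) v π w hex ε₀ ε₁

end Main2

end Groth.Agent.Lib.HomDualH2
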