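import Mathlib
import Groth.Prelude
import Groth.Agent.Lib.FibLift2_helper2
import Groth.Agent.Lib.HomDual_helper2

/-!
# Lifting homomorphisms from a closed subscheme, given a dual and surjectivity on global sections
(helper2)
-/

set_option autoImplicit false
universe u
open CategoryTheory CategoryTheory.Limits AlgebraicGeometry Opposite TopologicalSpace

namespace Groth.Agent.Lib.FibLiftH2

open Groth.Agent.Lib.ProjFormulaH3 Groth.Agent.Lib.PullTensIsoH3 Groth.Agent.Lib.StalkTensH3
  PBH8 QCohExtn QcqsLoc PullTensH9 Groth.Agent.TensInv Groth.Agent.Lib.HomDualH2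

noncomputable section

variable {Z X : Scheme.{u}} (f : Z ⟶ X)

lemma homUnitEquiv_comp' {H H' : X.Modules} (s : Coh.structureModule X ⟶ H) (ψ : H ⟶ H') :
    homUnitEquiv H' (s ≫ ψ) = ap ψ ⊤ (homUnitEquiv H s) := rfl

/-- a global section of `f_* f^* H` in the image of `cUV` comes from the unit -/
lemma exists_comp_unit (H : X.Modules)
    (hsurj : Function.Surjective
      (cUV f H (U := (⊤ : Z.Opens)) (V := (⊤ : X.Opens)) le_top))
    (s'' : Coh.structureModule X ⟶
      (Scheme.Modules.pushforward f).obj ((Scheme.Modules.pullback f).obj H)) :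
    ∃ s : Coh.structureModule X ⟶ H,
      s ≫ (Scheme.Modules.pullbackPushforwardAdjunction f).unit.app H = s'' := by
  obtain ⟨t, ht⟩ := hsurj (show Γ((Scheme.Modules.pullback f).obj H, ⊤) from
    homUnitEquiv ((Scheme.Modules.pushforward f).obj ((Scheme.Modules.pullback f).obj H)) s'')
  refine ⟨(homUnitEquiv H).symm t, ?_⟩
  apply (homUnitEquiv _).injective
  rw [homUnitEquiv_comp', AddEquiv.apply_symm_apply]
  refine Eq.trans ?_ ht
  exact unit_app_eq_cUV f H ⊤ t

variable [IsClosedImmersion f]

/-- **lifting of homomorphisms** -/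
theorem exists_lift_hom (F G D : X.Modules)
    (θ : preadditiveCoyoneda.obj (op F) ≅
      tR D ⋙ preadditiveCoyoneda.obj (op (Coh.structureModule X)))
    (hsurj : Function.Surjective
      (cUV f (CohB1.tensorMod G D) (U := (⊤ : Z.Opens)) (V := (⊤ : X.Opens)) le_top))
    (u₀ : (Scheme.Modules.pullback f).obj F ⟶ (Scheme.Modules.pullback f).obj G) :
    ∃ u : F ⟶ G, (Scheme.Modules.pullback f).map u = u₀ := by
  let adj := Scheme.Modules.pullbackPushforwardAdjunction f
  let PG : X.Modules := (Scheme.Modules.pushforward f).obj ((Scheme.Modules.pullback f).obj G)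
  let û : F ⟶ PG := adj.homEquiv F ((Scheme.Modules.pullback f).obj G) u₀
  -- element-level form of `θ`
  let a : ∀ P : X.Modules, (F ⟶ P) → (Coh.structureModule X ⟶ CohB1.tensorMod P D) := fun P u =>
    (θ.hom.app P).hom (show (preadditiveCoyoneda.obj (op F)).obj P from u)
  let b : ∀ P : X.Modules, (Coh.structureModule X ⟶ CohB1.tensorMod P D) → (F ⟶ P) := fun P s =>
    (θ.inv.app P).hom (show (tR D ⋙ preadditiveCoyoneda.obj (op (Coh.structureModule X))).obj P
      from s)
  have hab : ∀ (P : X.Modules) (s : Coh.structureModule X ⟶ CohB1.tensorMod P D),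
      a P (b P s) = s := fun P s =>
    congrArg (fun ψ => ψ.hom (show (tR D ⋙ preadditiveCoyoneda.obj
      (op (Coh.structureModule X))).obj P from s)) (θ.inv_hom_id_app P)
  have hba : ∀ (P : X.Modules) (u : F ⟶ P), b P (a P u) = u := fun P u =>
    congrArg (fun ψ => ψ.hom (show (preadditiveCoyoneda.obj (op F)).obj P from u))
      (θ.hom_inv_id_app P)
  have ha_nat : ∀ {P P' : X.Modules} (ψ : P ⟶ P') (u : F ⟶ P),
      a P' (u ≫ ψ) = a P u ≫ (DCoh.tensorBi.map ψ).app D := by
    intro P P' ψ u
    exact congrArg (fun χ => χ.hom (show (preadditiveCoyoneda.obj (op F)).obj P from u))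
      (θ.hom.naturality ψ)
  let s' : Coh.structureModule X ⟶ CohB1.tensorMod PG D := a PG û
  haveI : IsIso (pj f ((Scheme.Modules.pullback f).obj G) D) := isIso_pj f _ _
  haveI : IsIso (ptHom f G D) := isIso_ptHom f G D
  let c := pj f ((Scheme.Modules.pullback f).obj G) D
  let μ := ptHom f G D
  obtain ⟨s, hs⟩ := exists_comp_unit f (CohB1.tensorMod G D) hsurj
    (s' ≫ c ≫ (Scheme.Modules.pushforward f).map (inv μ))
  have hC := unit_tensor_pj f G D
  have hμ : (Scheme.Modules.pushforward f).map (inv μ) ≫ (Scheme.Modules.pushforward f).map μ =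
      𝟙 _ := by
    rw [← CategoryTheory.Functor.map_comp, IsIso.inv_hom_id, CategoryTheory.Functor.map_id]
  have h1 : s ≫ (DCoh.tensorBi.map (adj.unit.app G)).app D = s' := by
    apply (cancel_mono c).1
    calc (s ≫ (DCoh.tensorBi.map (adj.unit.app G)).app D) ≫ c
        = s ≫ ((DCoh.tensorBi.map (adj.unit.app G)).app D ≫ c) := Category.assoc _ _ _
      _ = s ≫ (adj.unit.app (CohB1.tensorMod G D) ≫ (Scheme.Modules.pushforward f).map μ) :=
          congrArg (fun t => s ≫ t) hC
      _ = (s ≫ adj.unit.app (CohB1.tensorMod G D)) ≫ (Scheme.Modules.pushforward f).map μ :=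
          (Category.assoc _ _ _).symm
      _ = (s' ≫ c ≫ (Scheme.Modules.pushforward f).map (inv μ)) ≫
            (Scheme.Modules.pushforward f).map μ :=
          congrArg (fun t => t ≫ (Scheme.Modules.pushforward f).map μ) hs
      _ = s' ≫ c ≫ ((Scheme.Modules.pushforward f).map (inv μ) ≫
            (Scheme.Modules.pushforward f).map μ) := by
          simp only [Category.assoc]
      _ = s' ≫ c := by rw [hμ, Category.comp_id]
  refine ⟨b G s, ?_⟩
  apply (adj.homEquiv F ((Scheme.Modules.pullback f).obj G)).injective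
  show adj.homEquiv F _ ((Scheme.Modules.pullback f).map (b G s)) = û
  rw [Adjunction.homEquiv_unit]
  have h3 : adj.unit.app F ≫ (Scheme.Modules.pushforward f).map
      ((Scheme.Modules.pullback f).map (b G s)) = b G s ≫ adj.unit.app G :=
    (adj.unit.naturality (b G s)).symm
  rw [h3, ← hba PG (b G s ≫ adj.unit.app G), ha_nat, hab, h1]
  exact hba PG û

end

end Groth.Agent.Lib.FibLiftH2
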