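import Mathlib
import Groth.Prelude
import Groth.Agent.Lib.FibLift2_helper2
import Groth.Agent.Lib.TensInv2_helper9
import Groth.Agent.Lib.Leray_helper9
import Groth.Agent.Lib.RpushVanish_helper9
import Groth.Agent.Lib.HHVan_helper9
import Groth.Agent.Lib.KFlatSite7_helper2

/-!
# The sheaf Hom on a closed subscheme and the pullback of `G ⊗ D` (helper2)

For a closed immersion `f : Z ⟶ X`, `F` with internal Hom `≅ - ⊗ D` on `X`:
`f_* Hom(f^*F, f^*G) ≅ f_* f^* (G ⊗ D)`, hence their cohomologies vanish together.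
-/

set_option autoImplicit false
universe u
open CategoryTheory CategoryTheory.Limits AlgebraicGeometry Opposite TopologicalSpace

namespace Groth.Agent.Lib.FibLiftH2

open Groth.Agent.Lib.ProjFormulaH3 Groth.Agent.Lib.PullTensIsoH3 Groth.Agent.Lib.StalkTensH3
  PBH8 QCohExtn QcqsLoc PullTensH9 Groth.Agent.TensInv

noncomputable section

variable {Z X : Scheme.{u}} (f : Z ⟶ X)

section Coh

variable [IsClosedImmersion f]

theorem subsingleton_HH_push_iff (M : Z.Modules) (j : ℕ) :
    Subsingleton (Coh.HH X ((Scheme.Modules.pushforward f).obj M) j) ↔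
      Subsingleton (Coh.HH Z M j) := by
  obtain ⟨e⟩ := _root_.Leray.nonempty_H_addEquiv_push f.base (Coh.toAb M)
    (fun q => _root_.RpushVanish.isZero_Rpush_succ_of_isClosedEmbedding f.base
      f.isClosedEmbedding (Coh.toAb M) q) j
  constructor
  · intro h
    haveI : Subsingleton (CohTop.H ((CohTop.push f.base).obj (Coh.toAb M)) j) := h
    exact e.toEquiv.subsingleton
  · intro h
    haveI := h
    exact e.symm.toEquiv.subsingleton

end Coh

section Adj

variable (F : X.Modules) [ModSite.HasSheafHom (O := X.sheaf) F]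
  [DCoh.HasSheafHom ((Scheme.Modules.pullback f).obj F)]

/-- `P ↦ f^*F ⊗ f^*P` -/
abbrev LA : X.Modules ⥤ Z.Modules :=
  Scheme.Modules.pullback f ⋙ (DCoh.tensorBi (X := Z)).obj ((Scheme.Modules.pullback f).obj F)

/-- `P ↦ f^*(P ⊗ F)` -/
abbrev LB : X.Modules ⥤ Z.Modules := tR F ⋙ Scheme.Modules.pullback f

/-- `Q ↦ f_* Hom(f^*F, Q)` -/
abbrev RA : Z.Modules ⥤ X.Modules :=
  DCoh.sheafHom ((Scheme.Modules.pullback f).obj F) ⋙ Scheme.Modules.pushforward f

/-- `Q ↦ Hom(F, f_* Q)` -/
abbrev RB : Z.Modules ⥤ X.Modules :=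
  Scheme.Modules.pushforward f ⋙ ModSite.sheafHom (O := X.sheaf) F

def adjA : LA f F ⊣ RA f F :=
  (Scheme.Modules.pullbackPushforwardAdjunction f).comp
    (DCoh.sheafHomAdj ((Scheme.Modules.pullback f).obj F))

def adjB : LB f F ⊣ RB f F :=
  (ModSite.sheafHomAdj (O := X.sheaf) F).comp (Scheme.Modules.pullbackPushforwardAdjunction f)

/-- `f^*(P ⊗ F) ≅ f^*F ⊗ f^*P`, naturally in `P` -/
def isoLBA : LB f F ≅ LA f F :=
  NatIso.ofComponents (fun P => pullTensIso f P F ≪≫
    (Groth.Agent.TensInv.comm ((Scheme.Modules.pullback f).obj P)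
      ((Scheme.Modules.pullback f).obj F))) (by
    intro P P' φ
    have h1 := ptHom_natural_left f φ F
    have h3 := congrArg (fun t => t.app ((Scheme.Modules.pullback f).obj F))
      ((Groth.Agent.Lib.KFlatSite.sigmaNatIso Z.sheaf).hom.naturality
        ((Scheme.Modules.pullback f).map φ))
    have h3' : (DCoh.tensorBi.map ((Scheme.Modules.pullback f).map φ)).app
          ((Scheme.Modules.pullback f).obj F) ≫
          (commIso ((Scheme.Modules.pullback f).obj P')).hom.app
            ((Scheme.Modules.pullback f).obj F) =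
        (commIso ((Scheme.Modules.pullback f).obj P)).hom.app
            ((Scheme.Modules.pullback f).obj F) ≫
          ((DCoh.tensorBi (X := Z)).obj ((Scheme.Modules.pullback f).obj F)).map
            ((Scheme.Modules.pullback f).map φ) := h3
    show (Scheme.Modules.pullback f).map ((tR F).map φ) ≫
        (ptHom f P' F ≫ (commIso ((Scheme.Modules.pullback f).obj P')).hom.app
          ((Scheme.Modules.pullback f).obj F)) =
      (ptHom f P F ≫ (commIso ((Scheme.Modules.pullback f).obj P)).hom.app
          ((Scheme.Modules.pullback f).obj F)) ≫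
        ((DCoh.tensorBi (X := Z)).obj ((Scheme.Modules.pullback f).obj F)).map
          ((Scheme.Modules.pullback f).map φ)
    exact (Category.assoc _ _ _).symm.trans
      ((congrArg (fun t => t ≫ (commIso ((Scheme.Modules.pullback f).obj P')).hom.app
              ((Scheme.Modules.pullback f).obj F)) h1).trans
        ((Category.assoc _ _ _).trans
          ((congrArg (fun t => ptHom f P F ≫ t) h3').trans (Category.assoc _ _ _).symm))))

/-- `f_* Hom(f^*F, Q) ≅ Hom(F, f_* Q)` -/
def isoRAB : RA f F ≅ RB f F :=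
  ((adjA f F).ofNatIsoLeft (isoLBA f F).symm).rightAdjointUniq (adjB f F)

end Adj

end

end Groth.Agent.Lib.FibLiftH2
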