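import Mathlib
import Groth.Prelude
import Groth.Agent.Lib.FibLift1_helper2
import Groth.Agent.Lib.FibLift3_helper2
import Groth.Agent.Lib.FibLift4_helper2
import Groth.Agent.Lib.PullFn3_helper2
import Groth.Agent.Lib.TensBasis5_helper9
import Groth.Agent.Lib.RelPerfTens_helper3
import Groth.Agent.Lib.BCFun3_helper2
import Groth.Agent.Lib.KerFree1_helper8

/-!
# Lifting homomorphisms of locally free modules from the closed fibre, given a dual (helper2)

`X` proper flat over a Noetherian local ring, `F` with internal Hom `≅ - ⊗ D`, `G`, `D` finite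
locally free, `H^1(X_y, Hom(F_y, G_y)) = 0`: every `u₀ : F_y ⟶ G_y` lifts to `u : F ⟶ G`.
APPEND-ONLY once landed.
-/

set_option autoImplicit false
universe u
open CategoryTheory CategoryTheory.Limits AlgebraicGeometry Opposite TopologicalSpace

namespace Groth.Agent.Lib.FibLiftH2

open Groth.Agent.Lib.ProjFormulaH3 Groth.Agent.Lib.PullTensIsoH3 Groth.Agent.Lib.StalkTensH3
  PBH8 QCohExtn QcqsLoc PullTensH9 Groth.Agent.TensInv Groth.Agent.Lib.HomDualH2

noncomputable section

section Closed

variable {Z X : Scheme.{u}} (f : Z ⟶ X)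

theorem cUV_surjective_of_pullMod (M : X.Modules)
    (h : Function.Surjective (CohPull.pullMod f M 0)) :
    Function.Surjective (cUV f M (U := (⊤ : Z.Opens)) (V := (⊤ : X.Opens)) le_top) := by
  intro t
  obtain ⟨y, hy⟩ := h ((Sheaf.H.equiv₀ (Coh.toAb ((Scheme.Modules.pullback f).obj M))
    (isTerminalTop : IsTerminal (⊤ : Z.Opens))).symm t)
  refine ⟨Sheaf.H.equiv₀ (Coh.toAb M) (isTerminalTop : IsTerminal (⊤ : X.Opens)) y, ?_⟩
  have := Groth.Agent.Lib.PullFnH2.equiv₀_pullMod_cUV f M y
  rw [hy, AddEquiv.apply_symm_apply] at this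
  exact this.symm

variable [IsClosedImmersion f]

/-- `f_* Hom(f^*F, f^*G) ≅ f_* f^*(G ⊗ D)` -/
def pushSheafHomIso (F G D : X.Modules) [ModSite.HasSheafHom (O := X.sheaf) F]
    [DCoh.HasSheafHom ((Scheme.Modules.pullback f).obj F)]
    (κ : ModSite.sheafHom (O := X.sheaf) F ≅ tR D) :
    (Scheme.Modules.pushforward f).obj
        ((DCoh.sheafHom ((Scheme.Modules.pullback f).obj F)).obj
          ((Scheme.Modules.pullback f).obj G)) ≅
      (Scheme.Modules.pushforward f).obj
        ((Scheme.Modules.pullback f).obj (CohB1.tensorMod G D)) :=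
  (isoRAB f F).app ((Scheme.Modules.pullback f).obj G) ≪≫
    κ.app ((Scheme.Modules.pushforward f).obj ((Scheme.Modules.pullback f).obj G)) ≪≫
    (@asIso _ _ _ _ (pj f ((Scheme.Modules.pullback f).obj G) D) (isIso_pj f _ _)) ≪≫
    (Scheme.Modules.pushforward f).mapIso (pullTensIso f G D).symm

theorem subsingleton_HH_pull_tensor (F G D : X.Modules) [ModSite.HasSheafHom (O := X.sheaf) F]
    [DCoh.HasSheafHom ((Scheme.Modules.pullback f).obj F)]
    (κ : ModSite.sheafHom (O := X.sheaf) F ≅ tR D) (j : ℕ)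
    (h : Subsingleton (Coh.HH Z ((DCoh.sheafHom ((Scheme.Modules.pullback f).obj F)).obj
      ((Scheme.Modules.pullback f).obj G)) j)) :
    Subsingleton (Coh.HH Z ((Scheme.Modules.pullback f).obj (CohB1.tensorMod G D)) j) :=
  (subsingleton_HH_push_iff f _ j).mp
    (Groth.Agent.HHVan.subsingleton_of_iso (pushSheafHomIso f F G D κ) j
      ((subsingleton_HH_push_iff f _ j).mpr h))

end Closed

section Main

variable (A : Type u) [CommRing A] [IsLocalRing A] (X : Scheme.{u})
  [X.Over (Spec (CommRingCat.of A))]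

theorem isClosedImmersion_fiberι_closedPoint :
    IsClosedImmersion ((X ↘ Spec (CommRingCat.of A)).fiberι (IsLocalRing.closedPoint A)) := by
  haveI : (IsLocalRing.closedPoint A).asIdeal.IsMaximal :=
    IsLocalRing.maximalIdeal.isMaximal A
  letI := Groth.Agent.Lib.FibVanH2.fibreOver A (X := X) (IsLocalRing.closedPoint A)
  have hsq := Groth.Agent.Lib.BCFibH2.isPullback_fibre' A (X := X) (IsLocalRing.closedPoint A)
  have hcl : IsClosedImmersion (Spec.map (CommRingCat.ofHom
      (algebraMap A (IsLocalRing.closedPoint A).asIdeal.ResidueField))) :=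
    IsClosedImmersion.spec_of_surjective _
      (Ideal.algebraMap_residueField_surjective (IsLocalRing.closedPoint A).asIdeal)
  exact MorphismProperty.of_isPullback (P := @IsClosedImmersion) hsq.flip hcl

variable [IsNoetherianRing A] [IsProper (X ↘ Spec (CommRingCat.of A))]
  [Flat (X ↘ Spec (CommRingCat.of A))]

variable {A X}

/-- **existence of the lifting**, given a dual `D` of `F` -/
theorem exists_lift_of_kappa (F G D : X.Modules) (hG : FlatMod.IsFinLocFree G)
    (hD : FlatMod.IsFinLocFree D) [ModSite.HasSheafHom (O := X.sheaf) F]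
    (κ : ModSite.sheafHom (O := X.sheaf) F ≅ tR D)
    [DCoh.HasSheafHom (CohIII.fiberMod (X ↘ Spec (CommRingCat.of A)) F
      (IsLocalRing.closedPoint A))]
    (h1 : Subsingleton (Coh.HH
      ((X ↘ Spec (CommRingCat.of A)).fiber (IsLocalRing.closedPoint A))
      ((DCoh.sheafHom (CohIII.fiberMod (X ↘ Spec (CommRingCat.of A)) F
        (IsLocalRing.closedPoint A))).obj
        (CohIII.fiberMod (X ↘ Spec (CommRingCat.of A)) G (IsLocalRing.closedPoint A))) 1))
    (u₀ : CohIII.fiberMod (X ↘ Spec (CommRingCat.of A)) F (IsLocalRing.closedPoint A) ⟶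
      CohIII.fiberMod (X ↘ Spec (CommRingCat.of A)) G (IsLocalRing.closedPoint A)) :
    ∃ u : F ⟶ G, (Scheme.Modules.pullback
      ((X ↘ Spec (CommRingCat.of A)).fiberι (IsLocalRing.closedPoint A))).map u = u₀ := by
  haveI := isClosedImmersion_fiberι_closedPoint A X
  haveI : IsLocallyNoetherian X :=
    LocallyOfFiniteType.isLocallyNoetherian (X ↘ Spec (CommRingCat.of A))
  have hH : Coh.IsCoh (CohB1.tensorMod G D) :=
    TensBasis.isCoh_tensorMod_finLocFree (KerFreeH8.isCoh_of_finLocFree hG) hD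
  have hDfl : FlatMod.IsFlatOver (X ↘ Spec (CommRingCat.of A)) D :=
    Groth.Agent.Lib.RelPerfTensH3.isFlatOver_of_iso _ (rightUnit D)
      (Groth.Agent.Lib.RelPerfTensH3.isFlatOver_tensor _ D (Coh.structureModule X) hD
        (Groth.Agent.Lib.BCFunH2.isFlatOver_unit (X ↘ Spec (CommRingCat.of A))))
  have hfl : FlatMod.IsFlatOver (X ↘ Spec (CommRingCat.of A)) (CohB1.tensorMod G D) :=
    Groth.Agent.Lib.RelPerfTensH3.isFlatOver_tensor _ G D hG hDfl
  have hvan : Subsingleton (CohIII.fiberH (X ↘ Spec (CommRingCat.of A))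
      (CohB1.tensorMod G D) (IsLocalRing.closedPoint A) 1) :=
    subsingleton_HH_pull_tensor
      ((X ↘ Spec (CommRingCat.of A)).fiberι (IsLocalRing.closedPoint A)) F G D κ 1 h1
  have hs := pullMod_zero_surjective A X (CohB1.tensorMod G D) hH hfl hvan
  have hc := cUV_surjective_of_pullMod
    ((X ↘ Spec (CommRingCat.of A)).fiberι (IsLocalRing.closedPoint A)) (CohB1.tensorMod G D) hs
  exact exists_lift_hom ((X ↘ Spec (CommRingCat.of A)).fiberι (IsLocalRing.closedPoint A))
    F G D (thetaOfKappa F D κ) hc u₀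

end Main

end

end Groth.Agent.Lib.FibLiftH2
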