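import Mathlib
import Groth.Agent.Lib.FlatFibre_helper9

/-!
# Extension of scalars along a surjection of local rings: injectivity and surjectivity descend
(helper2)

Pure algebra for the lifting of homomorphisms from the closed fibre (S4476).
APPEND-ONLY once landed.
-/

set_option autoImplicit false
universe u
open TensorProduct

namespace Groth.Agent.Lib.FibLiftH2

section Cyclic

variable {R : Type u} [CommRing R] {S' : Type u} [AddCommGroup S'] [Module R S'] (one : S')
  (hsurj : ∀ s : S', ∃ r : R, r • one = s) {N : Type u} [AddCommGroup N] [Module R N]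

include hsurj in
lemma exists_tmul_eq (t : S' ⊗[R] N) : ∃ n : N, one ⊗ₜ[R] n = t := by
  induction t using TensorProduct.induction_on with
  | zero => exact ⟨0, TensorProduct.tmul_zero _ _⟩
  | tmul s n =>
    obtain ⟨r, rfl⟩ := hsurj s
    exact ⟨r • n, (TensorProduct.smul_tmul r one n).symm⟩
  | add a b ha hb =>
    obtain ⟨n₁, rfl⟩ := ha
    obtain ⟨n₂, rfl⟩ := hb
    exact ⟨n₁ + n₂, TensorProduct.tmul_add _ _ _⟩

include hsurj in
lemma tmul_eq_zero_iff (I : Ideal R) (hI : ∀ r : R, r • one = 0 ↔ r ∈ I) (n : N) :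
    one ⊗ₜ[R] n = 0 ↔ n ∈ I • (⊤ : Submodule R N) := by
  constructor
  · intro h
    let g : R →ₗ[R] S' := LinearMap.toSpanSingleton R S' one
    have hg : Function.Surjective g := fun s => by
      obtain ⟨r, hr⟩ := hsurj s
      exact ⟨r, hr⟩
    have hk : LinearMap.ker g = I := by
      ext r
      rw [LinearMap.mem_ker]
      exact hI r
    subst hk
    let e₁ : (R ⧸ LinearMap.ker g) ≃ₗ[R] S' := g.quotKerEquivOfSurjective hg
    have he₁ : e₁.symm one = Submodule.Quotient.mk (1 : R) := by
      rw [LinearEquiv.symm_apply_eq]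
      show one = g 1
      exact (one_smul R one).symm
    let ψ : S' ⊗[R] N ≃ₗ[R] N ⧸ (LinearMap.ker g • (⊤ : Submodule R N)) :=
      (TensorProduct.congr e₁.symm (LinearEquiv.refl R N)).trans
        (TensorProduct.quotTensorEquivQuotSMul N (LinearMap.ker g))
    have hψ : ψ (one ⊗ₜ[R] n) = Submodule.Quotient.mk n := by
      show (TensorProduct.quotTensorEquivQuotSMul N (LinearMap.ker g))
        ((TensorProduct.congr e₁.symm (LinearEquiv.refl R N)) (one ⊗ₜ[R] n)) = _
      rw [TensorProduct.congr_tmul, he₁]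
      have := TensorProduct.quotTensorEquivQuotSMul_mk_tmul (M := N) (LinearMap.ker g) 1 n
      rw [one_smul] at this
      exact this
    rw [h, map_zero] at hψ
    exact (Submodule.Quotient.mk_eq_zero _).mp hψ.symm
  · intro h
    refine Submodule.smul_induction_on h (fun r hr m _ => ?_) (fun a b ha hb => ?_)
    · rw [← TensorProduct.smul_tmul, (hI r).mpr hr, TensorProduct.zero_tmul]
    · rw [TensorProduct.tmul_add, ha, hb, add_zero]

end Cyclic

section Ext

open ChangeOfRings

variable {R S : Type u} [CommRing R] [CommRing S] (φ : R →+* S)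

/-- `n ↦ 1 ⊗ n` -/
noncomputable def eta (N : ModuleCat.{u} R) (n : N) : ↑((ModuleCat.extendScalars.{u, u, u} φ).obj N) :=
  (1 : S) ⊗ₜ[R,φ] n

lemma map_eta {N M : ModuleCat.{u} R} (v : N ⟶ M) (n : N) :
    ((ModuleCat.extendScalars.{u, u, u} φ).map v).hom (eta φ N n) = eta φ M (v.hom n) :=
  ModuleCat.ExtendScalars.map_tmul φ v 1 n

lemma eta_sub (N : ModuleCat.{u} R) (a b : N) : eta φ N (a - b) = eta φ N a - eta φ N b :=
  TensorProduct.tmul_sub _ _ _

variable (hφ : Function.Surjective φ)

include hφ in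
lemma exists_eta (N : ModuleCat.{u} R) (t : ↑((ModuleCat.extendScalars.{u, u, u} φ).obj N)) :
    ∃ n : N, eta φ N n = t := by
  letI : Module R S := Module.compHom S φ
  refine exists_tmul_eq (R := R) (S' := S) (1 : S) (fun s => ?_) (N := N) t
  obtain ⟨r, rfl⟩ := hφ s
  exact ⟨r, mul_one _⟩

include hφ in
lemma eta_eq_zero_iff (N : ModuleCat.{u} R) (n : N) :
    eta φ N n = 0 ↔ n ∈ RingHom.ker φ • (⊤ : Submodule R N) := by
  letI : Module R S := Module.compHom S φ
  refine tmul_eq_zero_iff (R := R) (S' := S) (1 : S) (fun s => ?_) (N := N) (RingHom.ker φ)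
    (fun r => ?_) n
  · obtain ⟨r, rfl⟩ := hφ s
    exact ⟨r, mul_one _⟩
  · rw [RingHom.mem_ker]
    show φ r * 1 = 0 ↔ φ r = 0
    rw [mul_one]

include hφ in
/-- **injectivity descends** along `R → S = R / 𝔪₀ R` for a flat target -/
theorem injective_of_extendScalars_injective
    {R₀ : Type u} [CommRing R₀] [IsLocalRing R₀] [IsLocalRing R] [IsNoetherianRing R]
    (α : R₀ →+* R) [IsLocalHom α]
    (hker : RingHom.ker φ = Ideal.map α (IsLocalRing.maximalIdeal R₀))
    (N M : ModuleCat.{u} R) [Module.Finite R N]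
    (hflat : @Module.Flat R₀ M _ _ (Module.compHom M α))
    (v : N ⟶ M)
    (h : Function.Injective ((ModuleCat.extendScalars.{u, u, u} φ).map v).hom) :
    Function.Injective v.hom := by
  letI : Algebra R₀ R := α.toAlgebra
  letI : Module R₀ M := Module.compHom M α
  letI : Module R₀ N := Module.compHom N α
  haveI : IsScalarTower R₀ R M := IsScalarTower.of_algebraMap_smul (fun r m => rfl)
  haveI : IsScalarTower R₀ R N := IsScalarTower.of_algebraMap_smul (fun r m => rfl)
  haveI : IsLocalHom (algebraMap R₀ R) := ‹IsLocalHom α›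
  haveI : Module.Flat R₀ M := hflat
  let v₀ : N →ₗ[R₀] M := v.hom.restrictScalars R₀
  suffices hv₀ : Function.Injective v₀ from hv₀
  apply Groth.Agent.Lib.FlatFibre.injective_of_injective_mod R v₀
  rw [Groth.Agent.Lib.FlatFibre.lTensor_quot_injective_iff]
  intro n hn
  have h1 : v.hom n ∈ RingHom.ker φ • (⊤ : Submodule R M) := by
    rw [hker]
    exact Groth.Agent.Lib.FlatFibre.smul_top_le_map_smul_top (S := R) _ _ hn
  have h2 : eta φ M (v.hom n) = 0 := (eta_eq_zero_iff φ hφ M _).mpr h1
  have h3 : eta φ N n = 0 := by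
    apply h
    rw [map_zero]
    exact (map_eta φ v n).trans h2
  have h4 := (eta_eq_zero_iff φ hφ N n).mp h3
  rw [hker] at h4
  exact Groth.Agent.Lib.FlatFibre.map_smul_top_le_smul_top (S := R) _ _ h4

include hφ in
/-- **surjectivity descends** (Nakayama) -/
theorem surjective_of_extendScalars_surjective [IsLocalRing R]
    (hker : RingHom.ker φ ≤ IsLocalRing.maximalIdeal R)
    (N M : ModuleCat.{u} R) [Module.Finite R M] (v : N ⟶ M)
    (h : Function.Surjective ((ModuleCat.extendScalars.{u, u, u} φ).map v).hom) :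
    Function.Surjective v.hom := by
  rw [← LinearMap.range_eq_top, eq_top_iff]
  have hfg : (⊤ : Submodule R M).FG := Module.Finite.fg_top
  refine Submodule.le_of_le_smul_of_le_jacobson_bot (I := RingHom.ker φ) hfg ?_ ?_
  · rw [IsLocalRing.jacobson_eq_maximalIdeal ⊥ bot_ne_top]
    exact hker
  · intro m _
    obtain ⟨t, ht⟩ := h (eta φ M m)
    obtain ⟨n, rfl⟩ := exists_eta φ hφ N t
    have h0 : eta φ M (m - v.hom n) = 0 := by
      rw [eta_sub, ← ht, map_eta, sub_self]
    have hmem := (eta_eq_zero_iff φ hφ M _).mp h0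
    rw [Submodule.mem_sup]
    exact ⟨v.hom n, ⟨n, rfl⟩, m - v.hom n, hmem, by abel⟩

end Ext

end Groth.Agent.Lib.FibLiftH2
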