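import Mathlib
import Groth.Prelude
import Groth.Agent.Lib.FibLift6_helper2
import Groth.Agent.Lib.StalkSky2_lead
import Groth.Agent.Lib.FibStalkKer_helper5
import Groth.Agent.Lib.CohLoc_helper8
import Groth.Agent.Lib.CohKer_helper8
import Groth.Agent.Lib.SuppFT_helper9
import Groth.Agent.Lib.CohDev3_helper8
import Groth.Agent.Lib.SuppStalk2_helper8
import Groth.Agent.Lib.EpiLoc_helper9
import Groth.Agent.Lib.Desc1_helper8

/-!
# Monomorphisms and epimorphisms are detected on the closed fibre (helper2)

`X` proper over a Noetherian local ring `A`, `u : F ⟶ G` a morphism of coherent modules.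
If the restriction of `u` to the closed fibre is an epimorphism then so is `u`; if it is a
monomorphism and `G` is flat over `A` then `u` is a monomorphism.
APPEND-ONLY once landed.
-/

set_option autoImplicit false
universe u
open CategoryTheory CategoryTheory.Limits AlgebraicGeometry Opposite TopologicalSpace

namespace Groth.Agent.Lib.FibLiftH2

lemma iso_hom_injective {R : Type u} [Ring R] {A B : ModuleCat.{u} R} (i : A ≅ B) :
    Function.Injective i.hom.hom := by
  intro a b h
  have h1 := congrArg i.inv.hom h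
  have h2 : ∀ c, i.inv.hom (i.hom.hom c) = c := fun c =>
    congrArg (fun ψ => ψ.hom c) i.hom_inv_id
  rwa [h2, h2] at h1

lemma iso_hom_surjective {R : Type u} [Ring R] {A B : ModuleCat.{u} R} (i : A ≅ B) :
    Function.Surjective i.hom.hom := fun b =>
  ⟨i.inv.hom b, congrArg (fun ψ => ψ.hom b) i.inv_hom_id⟩

section Stalk

variable {X Y : Scheme.{u}} (f : X ⟶ Y) (s : Y)

/-- the stalk of `ι^* u` is the extension of scalars of the stalk of `u` -/
lemma extend_map_eq {F G : X.Modules} (u : F ⟶ G) (z : f.fiber s) :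
    (ModuleCat.extendScalars.{u, u, u} (Groth.Agent.Lib.StalkSkyL.stk (f.fiberι s) z)).map
        ((DerSch.stalkFunctor X ((f.fiberι s).base z)).map u) =
      (Groth.Agent.Lib.StalkSkyL.pullbackStalkIso (f.fiberι s) z).inv.app F ≫
        (DerSch.stalkFunctor (f.fiber s) z).map ((Scheme.Modules.pullback (f.fiberι s)).map u) ≫
          (Groth.Agent.Lib.StalkSkyL.pullbackStalkIso (f.fiberι s) z).hom.app G := by
  have hnat := (Groth.Agent.Lib.StalkSkyL.pullbackStalkIso (f.fiberι s) z).hom.naturality u
  have h2 : (Groth.Agent.Lib.StalkSkyL.pullbackStalkIso (f.fiberι s) z).inv.app F ≫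
      ((Scheme.Modules.pullback (f.fiberι s) ⋙ DerSch.stalkFunctor (f.fiber s) z).map u ≫
        (Groth.Agent.Lib.StalkSkyL.pullbackStalkIso (f.fiberι s) z).hom.app G) =
      (DerSch.stalkFunctor X ((f.fiberι s).base z) ⋙ ModuleCat.extendScalars.{u, u, u}
        (Groth.Agent.Lib.StalkSkyL.stk (f.fiberι s) z)).map u := by
    rw [hnat, Iso.inv_hom_id_app_assoc]
  exact h2.symm

/-- injectivity on the stalks at the points of a fibre, from a monomorphism on the fibre -/
theorem stalk_injective_of_mono_pullback [IsLocallyNoetherian X]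
    {F G : X.Modules} [F.IsQuasicoherent] [SheafOfModules.IsFiniteType (R := X.ringCatSheaf) F]
    (hG : FlatMod.IsFlatOver f G) (u : F ⟶ G)
    [Mono ((Scheme.Modules.pullback (f.fiberι s)).map u)] (z : f.fiber s) :
    Function.Injective (Algz.stalkMapₗ u ((f.fiberι s).base z)) := by
  obtain ⟨hsurj, hker⟩ := Groth.Agent.FibStalkKer.main9501 f s z
  haveI : Module.Finite (X.presheaf.stalk ((f.fiberι s).base z))
      ((DerSch.stalkFunctor X ((f.fiberι s).base z)).obj F) :=
    SuppStalkH8.finite_stalk F ((f.fiberι s).base z)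
  have hinj1 : Function.Injective ((DerSch.stalkFunctor (f.fiber s) z).map
      ((Scheme.Modules.pullback (f.fiberι s)).map u)).hom := fun a b hab =>
    DescH8.stk_injective_of_mono ((Scheme.Modules.pullback (f.fiberι s)).map u) z hab
  have hinj2 : Function.Injective ((ModuleCat.extendScalars.{u, u, u}
      (Groth.Agent.Lib.StalkSkyL.stk (f.fiberι s) z)).map
        ((DerSch.stalkFunctor X ((f.fiberι s).base z)).map u)).hom := by
    rw [extend_map_eq]
    intro a b hab
    have h1 := iso_hom_injective
      ((Groth.Agent.Lib.StalkSkyL.pullbackStalkIso (f.fiberι s) z).app G) hab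
    have h2 := hinj1 h1
    exact iso_hom_injective
      ((Groth.Agent.Lib.StalkSkyL.pullbackStalkIso (f.fiberι s) z).symm.app F) h2
  exact injective_of_extendScalars_injective
    (Groth.Agent.Lib.StalkSkyL.stk (f.fiberι s) z) hsurj
    (f.stalkMap ((f.fiberι s).base z)).hom hker
    ((DerSch.stalkFunctor X ((f.fiberι s).base z)).obj F)
    ((DerSch.stalkFunctor X ((f.fiberι s).base z)).obj G) (hG ((f.fiberι s).base z))
    ((DerSch.stalkFunctor X ((f.fiberι s).base z)).map u) hinj2

/-- surjectivity on the stalks at the points of a fibre, from an epimorphism on the fibre -/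
theorem stalk_surjective_of_epi_pullback
    {F G : X.Modules} [G.IsQuasicoherent] [SheafOfModules.IsFiniteType (R := X.ringCatSheaf) G]
    (u : F ⟶ G)
    [Epi ((Scheme.Modules.pullback (f.fiberι s)).map u)] (z : f.fiber s) :
    Function.Surjective (Algz.stalkMapₗ u ((f.fiberι s).base z)) := by
  obtain ⟨hsurj, -⟩ := Groth.Agent.FibStalkKer.main9501 f s z
  haveI : Module.Finite (X.presheaf.stalk ((f.fiberι s).base z))
      ((DerSch.stalkFunctor X ((f.fiberι s).base z)).obj G) :=
    SuppStalkH8.finite_stalk G ((f.fiberι s).base z)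
  have hsur1 : Function.Surjective ((DerSch.stalkFunctor (f.fiber s) z).map
      ((Scheme.Modules.pullback (f.fiberι s)).map u)).hom := fun b =>
    EpiLoc.stalk_surjective_of_epi ((Scheme.Modules.pullback (f.fiberι s)).map u) z b
  have hsur2 : Function.Surjective ((ModuleCat.extendScalars.{u, u, u}
      (Groth.Agent.Lib.StalkSkyL.stk (f.fiberι s) z)).map
        ((DerSch.stalkFunctor X ((f.fiberι s).base z)).map u)).hom := by
    rw [extend_map_eq]
    intro c
    obtain ⟨b, hb⟩ := iso_hom_surjective
      ((Groth.Agent.Lib.StalkSkyL.pullbackStalkIso (f.fiberι s) z).app G) c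
    obtain ⟨a, ha⟩ := hsur1 b
    obtain ⟨a', ha'⟩ := iso_hom_surjective
      ((Groth.Agent.Lib.StalkSkyL.pullbackStalkIso (f.fiberι s) z).symm.app F) a
    refine ⟨a', ?_⟩
    show ((Groth.Agent.Lib.StalkSkyL.pullbackStalkIso (f.fiberι s) z).hom.app G).hom
      (((DerSch.stalkFunctor (f.fiber s) z).map
        ((Scheme.Modules.pullback (f.fiberι s)).map u)).hom
        (((Groth.Agent.Lib.StalkSkyL.pullbackStalkIso (f.fiberι s) z).inv.app F).hom a')) = c
    rw [show ((Groth.Agent.Lib.StalkSkyL.pullbackStalkIso (f.fiberι s) z).inv.app F).hom a' = a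
      from ha', ha]
    exact hb
  have hker : RingHom.ker (Groth.Agent.Lib.StalkSkyL.stk (f.fiberι s) z) ≤
      IsLocalRing.maximalIdeal (X.presheaf.stalk ((f.fiberι s).base z)) :=
    IsLocalRing.le_maximalIdeal (RingHom.ker_ne_top _)
  exact surjective_of_extendScalars_surjective
    (Groth.Agent.Lib.StalkSkyL.stk (f.fiberι s) z) hsurj hker
    ((DerSch.stalkFunctor X ((f.fiberι s).base z)).obj F)
    ((DerSch.stalkFunctor X ((f.fiberι s).base z)).obj G)
    ((DerSch.stalkFunctor X ((f.fiberι s).base z)).map u) hsur2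

end Stalk

section Local

variable (A : Type u) [CommRing A] [IsLocalRing A] (X : Scheme.{u})
  [X.Over (Spec (CommRingCat.of A))] [IsProper (X ↘ Spec (CommRingCat.of A))]

/-- a finite type module on a proper scheme over a local ring whose stalks vanish along the
closed fibre is zero -/
theorem isZero_of_closedFibre (C : X.Modules)
    [SheafOfModules.IsFiniteType (R := X.ringCatSheaf) C]
    (h : ∀ z : (X ↘ Spec (CommRingCat.of A)).fiber (IsLocalRing.closedPoint A),
      ((X ↘ Spec (CommRingCat.of A)).fiberι (IsLocalRing.closedPoint A)).base z ∉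
        CohB1.support C) :
    IsZero C := by
  apply CohDevH8.isZero_of_support_eq_empty
  by_contra hne
  obtain ⟨x₀, hx₀⟩ := Set.nonempty_iff_ne_empty.mpr hne
  have hcl : IsClosed (CohB1.support C) := SuppFT.isClosed_support C
  have hcl' : IsClosed ((X ↘ Spec (CommRingCat.of A)).base '' CohB1.support C) :=
    (X ↘ Spec (CommRingCat.of A)).isClosedMap _ hcl
  have hspec : ((X ↘ Spec (CommRingCat.of A)).base x₀ : PrimeSpectrum A) ⤳
      IsLocalRing.closedPoint A := IsLocalRing.specializes_closedPoint _
  have hmem : IsLocalRing.closedPoint A ∈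
      (X ↘ Spec (CommRingCat.of A)).base '' CohB1.support C :=
    hspec.mem_closed hcl' ⟨x₀, hx₀, rfl⟩
  obtain ⟨x, hx, hfx⟩ := hmem
  have hxr : x ∈ Set.range
      ((X ↘ Spec (CommRingCat.of A)).fiberι (IsLocalRing.closedPoint A)).base := by
    rw [Scheme.Hom.range_fiberι]
    exact hfx
  obtain ⟨z, rfl⟩ := hxr
  exact h z hx

variable {A X}

/-- **epimorphisms are detected on the closed fibre** -/
theorem epi_of_epi_fibre {F G : X.Modules} (hF : Coh.IsCoh F) (hG : Coh.IsCoh G) (u : F ⟶ G)
    (h : Epi ((Scheme.Modules.pullback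
      ((X ↘ Spec (CommRingCat.of A)).fiberι (IsLocalRing.closedPoint A))).map u)) : Epi u := by
  haveI := h
  haveI : G.IsQuasicoherent := hG.1
  haveI : SheafOfModules.IsFiniteType (R := X.ringCatSheaf) G := hG.2
  have hC := CohKerH8.isCoh_cokernel hF hG u
  haveI := hC.2
  have hz : IsZero (cokernel u) := isZero_of_closedFibre A X (cokernel u) (fun z =>
    CohLocH8.notMem_support_cokernel u _
      (stalk_surjective_of_epi_pullback (X ↘ Spec (CommRingCat.of A))
        (IsLocalRing.closedPoint A) u z))
  exact Preadditive.epi_of_isZero_cokernel _ hz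

/-- **monomorphisms are detected on the closed fibre** (flat target) -/
theorem mono_of_mono_fibre [IsNoetherianRing A] {F G : X.Modules} (hF : Coh.IsCoh F)
    (hG : Coh.IsCoh G) (hfl : FlatMod.IsFlatOver (X ↘ Spec (CommRingCat.of A)) G) (u : F ⟶ G)
    (h : Mono ((Scheme.Modules.pullback
      ((X ↘ Spec (CommRingCat.of A)).fiberι (IsLocalRing.closedPoint A))).map u)) : Mono u := by
  haveI := h
  haveI : IsLocallyNoetherian X :=
    LocallyOfFiniteType.isLocallyNoetherian (X ↘ Spec (CommRingCat.of A))
  haveI : F.IsQuasicoherent := hF.1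
  haveI : SheafOfModules.IsFiniteType (R := X.ringCatSheaf) F := hF.2
  have hK := CohKerH8.isCoh_kernel hF hG u
  haveI := hK.2
  have hz : IsZero (kernel u) := isZero_of_closedFibre A X (kernel u) (fun z =>
    CohLocH8.notMem_support_kernel u _
      (stalk_injective_of_mono_pullback (X ↘ Spec (CommRingCat.of A))
        (IsLocalRing.closedPoint A) hfl u z))
  exact Preadditive.mono_of_isZero_kernel _ hz

end Local

end Groth.Agent.Lib.FibLiftH2
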