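import Mathlib
import Groth.Prelude
import Groth.Agent.Lib.FibLift5_helper2
import Groth.Agent.Lib.FibLift7_helper2

/-!
# Lifting homomorphisms of locally free modules from the closed fibre: assembly (helper2)
APPEND-ONLY once landed.
-/

set_option autoImplicit false
universe u
open CategoryTheory CategoryTheory.Limits AlgebraicGeometry Opposite TopologicalSpace

namespace Groth.Agent.Lib.FibLiftH2

open Groth.Agent.TensInv

variable {A : Type u} [CommRing A] [IsNoetherianRing A] [IsLocalRing A] {X : Scheme.{u}}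
  [X.Over (Spec (CommRingCat.of A))] [IsProper (X ↘ Spec (CommRingCat.of A))]
  [Flat (X ↘ Spec (CommRingCat.of A))]

theorem isFlatOver_of_finLocFree (G : X.Modules) (hG : FlatMod.IsFinLocFree G) :
    FlatMod.IsFlatOver (X ↘ Spec (CommRingCat.of A)) G :=
  Groth.Agent.Lib.RelPerfTensH3.isFlatOver_of_iso _ (rightUnit G)
    (Groth.Agent.Lib.RelPerfTensH3.isFlatOver_tensor _ G (Coh.structureModule X) hG
      (Groth.Agent.Lib.BCFunH2.isFlatOver_unit (X ↘ Spec (CommRingCat.of A))))

/-- S4476, given a dual `D` of `F` -/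
theorem main4476_of_dual (F G : X.Modules) (hF : FlatMod.IsFinLocFree F)
    (hG : FlatMod.IsFinLocFree G) [ModSite.HasSheafHom (O := X.sheaf) F]
    (D : X.Modules) (hD : FlatMod.IsFinLocFree D)
    (κ : ModSite.sheafHom (O := X.sheaf) F ≅ tR D)
    [DCoh.HasSheafHom (CohIII.fiberMod (X ↘ Spec (CommRingCat.of A)) F
      (IsLocalRing.closedPoint A))]
    (h1 : Subsingleton (Coh.HH
      ((X ↘ Spec (CommRingCat.of A)).fiber (IsLocalRing.closedPoint A))
      ((DCoh.sheafHom (CohIII.fiberMod (X ↘ Spec (CommRingCat.of A)) F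
        (IsLocalRing.closedPoint A))).obj
        (CohIII.fiberMod (X ↘ Spec (CommRingCat.of A)) G (IsLocalRing.closedPoint A))) 1))
    (u₀ : CohIII.fiberMod (X ↘ Spec (CommRingCat.of A)) F (IsLocalRing.closedPoint A) ⟶
      CohIII.fiberMod (X ↘ Spec (CommRingCat.of A)) G (IsLocalRing.closedPoint A)) :
    (∃ u : F ⟶ G, (Scheme.Modules.pullback
      ((X ↘ Spec (CommRingCat.of A)).fiberι (IsLocalRing.closedPoint A))).map u = u₀) ∧
    ∀ u : F ⟶ G, (Scheme.Modules.pullback
      ((X ↘ Spec (CommRingCat.of A)).fiberι (IsLocalRing.closedPoint A))).map u = u₀ →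
        (Mono u₀ → Mono u) ∧ (Epi u₀ → Epi u) := by
  have hFc : Coh.IsCoh F := KerFreeH8.isCoh_of_finLocFree hF
  have hGc : Coh.IsCoh G := KerFreeH8.isCoh_of_finLocFree hG
  refine ⟨exists_lift_of_kappa F G D hG hD κ h1 u₀, fun u hu => ⟨fun hm => ?_, fun he => ?_⟩⟩
  · subst hu
    exact mono_of_mono_fibre hFc hGc (isFlatOver_of_finLocFree G hG) u hm
  · subst hu
    exact epi_of_epi_fibre hFc hGc u he

end Groth.Agent.Lib.FibLiftH2
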