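import Mathlib
import Groth.Prelude.Def_CAlg
import Groth.Prelude.Def_EGA4b
import Groth.Agent.Lib.FlatCM_helper9
/-!
# Base change of fibre local rings: depth does not drop (helper5)

For a pushout square `B' = A' ⊗_A B` and a prime `q'` of `B'`, the fibre local ring
`B'_{q'} / p' B'_{q'}` is a localisation of `κ(p') ⊗_{κ(p)} (κ(p) ⊗_A B)`, hence flat and local over the
fibre local ring of `B` at `q = q' ∩ B`; so its depth is at least that of the latter.
APPEND-ONLY once landed.
-/

set_option autoImplicit false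
set_option linter.style.haveILetI false
universe u
open TensorProduct

namespace Groth.Agent.Lib.FibLocBCH5

section field

variable (A B A' B' : Type u) [CommRing A] [CommRing B] [CommRing A'] [CommRing B']
    [Algebra A B] [Algebra A A'] [Algebra B B'] [Algebra A' B'] [Algebra A B']
    [IsScalarTower A B B'] [IsScalarTower A A' B'] [Algebra.IsPushout A B A' B']
    (k k' : Type u) [Field k] [Field k'] [Algebra A k] [Algebra A' k'] [Algebra A k']
    [IsScalarTower A A' k'] [Algebra k k'] [IsScalarTower A k k']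

/-- the ring isomorphism `k' ⊗_k (k ⊗_A B) ≃ k' ⊗_{A'} B'` -/
noncomputable def fibEquiv : k' ⊗[k] (k ⊗[A] B) ≃+* k' ⊗[A'] B' :=
  (Algebra.TensorProduct.cancelBaseChange A k k' k' B).toRingEquiv.trans
    ((Algebra.TensorProduct.comm A k' B).toRingEquiv.trans
      ((Algebra.IsPushout.cancelBaseChangeAlg A B A' B' k').symm.toRingEquiv.trans
        (Algebra.TensorProduct.comm A' B' k').toRingEquiv))

theorem fibEquiv_tmul (x : k') (y : k) (b : B) :
    fibEquiv A B A' B' k k' (x ⊗ₜ (y ⊗ₜ b)) = (y • x) ⊗ₜ algebraMap B B' b := by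
  simp [fibEquiv]

/-- the flat ring map `k ⊗_A B → k' ⊗_{A'} B'` -/
noncomputable def fibMap : k ⊗[A] B →+* k' ⊗[A'] B' :=
  (fibEquiv A B A' B' k k').toRingHom.comp
    (Algebra.TensorProduct.includeRight : k ⊗[A] B →ₐ[k] k' ⊗[k] (k ⊗[A] B)).toRingHom

theorem fibMap_tmul (y : k) (b : B) :
    fibMap A B A' B' k k' (y ⊗ₜ b) = (algebraMap k k' y) ⊗ₜ algebraMap B B' b := by
  simp [fibMap, fibEquiv_tmul, Algebra.smul_def]

attribute [local instance] Algebra.TensorProduct.rightAlgebra in
theorem fibMap_flat : (fibMap A B A' B' k k').Flat := by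
  refine RingHom.Flat.comp ?_ (RingHom.Flat.of_bijective (fibEquiv A B A' B' k k').bijective)
  have h1 : (algebraMap k k').Flat := RingHom.flat_algebraMap_iff.2 inferInstance
  have := RingHom.Flat.isStableUnderBaseChange k k' (k ⊗[A] B) (k' ⊗[k] (k ⊗[A] B)) h1
  exact this

end field

section depth

open Groth.Agent.FlatCM

variable (A B A' B' : Type u) [CommRing A] [CommRing B] [CommRing A'] [CommRing B']
    [IsNoetherianRing B] [IsNoetherianRing B']
    [Algebra A B] [Algebra A A'] [Algebra B B'] [Algebra A' B'] [Algebra A B']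
    [IsScalarTower A B B'] [IsScalarTower A A' B'] [Algebra.IsPushout A B A' B']

/-- the depth of the fibre local rings does not drop under base change -/
theorem depth_fibLocRing_le (q' : Ideal B') [q'.IsPrime] :
    LocCoh.depth (EGA4.FibLocRing A B (q'.comap (algebraMap B B')))
        (EGA4.FibLocRing A B (q'.comap (algebraMap B B'))) ≤
      LocCoh.depth (EGA4.FibLocRing A' B' q') (EGA4.FibLocRing A' B' q') := by
  set p' : Ideal A' := q'.comap (algebraMap A' B') with hp'
  set p : Ideal A := p'.comap (algebraMap A A') with hp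
  letI algkk : Algebra p.ResidueField p'.ResidueField :=
    (Ideal.ResidueField.map p p' (algebraMap A A') rfl).toAlgebra
  haveI : IsScalarTower A p.ResidueField p'.ResidueField :=
    IsScalarTower.of_algebraMap_eq' (by
      ext a
      rw [IsScalarTower.algebraMap_apply A A' p'.ResidueField]
      exact (Ideal.ResidueField.map_algebraMap p p' (algebraMap A A') rfl a).symm)
  set φ := fibMap A B A' B' p.ResidueField p'.ResidueField with hφ
  have hφflat : φ.Flat := fibMap_flat A B A' B' _ _
  let Q' : p'.primesOver B' := ⟨q', inferInstance, ⟨rfl⟩⟩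
  let 𝔮' := PrimeSpectrum.primesOverOrderIsoFiber A' B' p' Q'
  have hq' : 𝔮'.asIdeal.comap
      (Algebra.TensorProduct.includeRight : B' →ₐ[A'] p'.Fiber B') = q' := by
    have := (PrimeSpectrum.primesOverOrderIsoFiber A' B' p').symm_apply_apply Q'
    rw [← PrimeSpectrum.coe_primesOverOrderIsoFiber_symm_apply]
    exact congrArg Subtype.val this
  set 𝔮 : Ideal (p.Fiber B) := 𝔮'.asIdeal.comap φ with h𝔮
  haveI : 𝔮.IsPrime := Ideal.comap_isPrime _ _
  have hq : q'.comap (algebraMap B B') =
      𝔮.comap (Algebra.TensorProduct.includeRight : B →ₐ[A] p.Fiber B) := by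
    ext b
    have h1 : φ (1 ⊗ₜ b) = 1 ⊗ₜ algebraMap B B' b := by rw [hφ, fibMap_tmul, map_one]
    rw [Ideal.mem_comap, Ideal.mem_comap, h𝔮, Ideal.mem_comap,
      Algebra.TensorProduct.includeRight_apply, h1]
    conv_lhs => rw [← hq']
    rw [Ideal.mem_comap, Algebra.TensorProduct.includeRight_apply]
  obtain ⟨e'⟩ : Nonempty (Localization.AtPrime 𝔮'.asIdeal ≃+* EGA4.FibLocRing A' B' q') := by
    have key := fibre_equiv_of_prime A' B' p' 𝔮'.asIdeal
    have tr : ∀ (r : Ideal B') [r.IsPrime], q' = r →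
        Nonempty (Localization.AtPrime 𝔮'.asIdeal ≃+* EGA4.FibLocRing A' B' r) →
        Nonempty (Localization.AtPrime 𝔮'.asIdeal ≃+* EGA4.FibLocRing A' B' q') := by
      intro r _ e h
      subst e
      exact h
    exact tr _ hq'.symm key
  obtain ⟨e⟩ : Nonempty (Localization.AtPrime 𝔮 ≃+*
      EGA4.FibLocRing A B (q'.comap (algebraMap B B'))) := by
    have key := fibre_equiv_of_prime A B p 𝔮
    have tr : ∀ (r : Ideal B) [r.IsPrime], q'.comap (algebraMap B B') = r →
        Nonempty (Localization.AtPrime 𝔮 ≃+* EGA4.FibLocRing A B r) →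
        Nonempty (Localization.AtPrime 𝔮 ≃+*
          EGA4.FibLocRing A B (q'.comap (algebraMap B B'))) := by
      intro r _ e h
      subst e
      exact h
    exact tr _ hq key
  haveI : IsNoetherianRing (Localization.AtPrime 𝔮'.asIdeal) :=
    isNoetherianRing_of_ringEquiv _ e'.symm
  haveI : IsNoetherianRing (Localization.AtPrime 𝔮) := isNoetherianRing_of_ringEquiv _ e.symm
  have d1 := depth_ringEquiv (A := Localization.AtPrime 𝔮)
    (A' := EGA4.FibLocRing A B (q'.comap (algebraMap B B'))) e
  have d2 := depth_ringEquiv (A := Localization.AtPrime 𝔮'.asIdeal)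
    (A' := EGA4.FibLocRing A' B' q') e'
  rw [← d1, ← d2]
  have hψ := hφflat.localRingHom 𝔮'.asIdeal 𝔮 rfl
  letI : Algebra (Localization.AtPrime 𝔮) (Localization.AtPrime 𝔮'.asIdeal) :=
    (Localization.localRingHom 𝔮 𝔮'.asIdeal φ rfl).toAlgebra
  haveI : Module.Flat (Localization.AtPrime 𝔮) (Localization.AtPrime 𝔮'.asIdeal) := hψ
  haveI : IsLocalHom (algebraMap (Localization.AtPrime 𝔮) (Localization.AtPrime 𝔮'.asIdeal)) :=
    Localization.isLocalHom_localRingHom _ _ _ rfl
  rw [depth_eq_add (Localization.AtPrime 𝔮) (Localization.AtPrime 𝔮'.asIdeal)]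
  exact le_self_add

omit [IsNoetherianRing B] in
theorem map_eq_maximalIdeal_fibLocRing (Q : Ideal B) [Q.IsPrime] :
    Q.map (algebraMap B (EGA4.FibLocRing A B Q)) =
      IsLocalRing.maximalIdeal (EGA4.FibLocRing A B Q) := by
  have h0 : Q.map (algebraMap B (EGA4.FibLocRing A B Q)) =
      (IsLocalRing.maximalIdeal (Localization.AtPrime Q)).map
        (Ideal.Quotient.mk ((Q.comap (algebraMap A B)).map
          (algebraMap A (Localization.AtPrime Q)))) := by
    rw [← Localization.AtPrime.map_eq_maximalIdeal, Ideal.map_map]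
    rfl
  rw [h0]
  apply le_antisymm
  · rw [Ideal.map_le_iff_le_comap]
    intro x hx
    have : IsLocalHom (Ideal.Quotient.mk ((Q.comap (algebraMap A B)).map
        (algebraMap A (Localization.AtPrime Q)))) :=
      IsLocalHom.of_surjective _ Ideal.Quotient.mk_surjective
    rw [Ideal.mem_comap, IsLocalRing.mem_maximalIdeal, mem_nonunits_iff]
    intro hu
    exact (IsLocalRing.mem_maximalIdeal x).1 hx (isUnit_of_map_unit _ x hu)
  · intro y hy
    obtain ⟨x, rfl⟩ := Ideal.Quotient.mk_surjective y
    apply Ideal.mem_map_of_mem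
    rw [IsLocalRing.mem_maximalIdeal, mem_nonunits_iff]
    intro hu
    exact (IsLocalRing.mem_maximalIdeal _).1 hy (hu.map _)

/-- the hypothesis "fibre local rings have depth `≥ n` along `V(J)`" is stable under base change -/
theorem le_depth_fibLocRing_baseChange (J : Ideal B) (n : ℕ∞)
    (hZ : ∀ q : PrimeSpectrum B, J ≤ q.asIdeal →
      n ≤ LocCoh.idealDepth (q.asIdeal.map (algebraMap B (EGA4.FibLocRing A B q.asIdeal)))
        (EGA4.FibLocRing A B q.asIdeal))
    (q' : PrimeSpectrum B') (hJq' : J.map (algebraMap B B') ≤ q'.asIdeal) :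
    n ≤ LocCoh.idealDepth (q'.asIdeal.map (algebraMap B' (EGA4.FibLocRing A' B' q'.asIdeal)))
        (EGA4.FibLocRing A' B' q'.asIdeal) := by
  have h1 := hZ ⟨q'.asIdeal.comap (algebraMap B B'), inferInstance⟩
    (Ideal.map_le_iff_le_comap.1 hJq')
  rw [map_eq_maximalIdeal_fibLocRing] at h1 ⊢
  exact h1.trans (depth_fibLocRing_le A B A' B' q'.asIdeal)

end depth

end Groth.Agent.Lib.FibLocBCH5
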