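import Mathlib
import Groth.Prelude
import Groth.Agent.Lib.FibMono1_helper8
import Groth.Agent.Lib.Fpqc1_helper8
import Groth.Agent.Lib.PB9_helper8

/-!
# Locally split monomorphisms into finite locally free modules (helper8)

APPEND-ONLY once landed.
-/

set_option autoImplicit false
set_option linter.all false
set_option maxHeartbeats 1600000
set_option backward.isDefEq.respectTransparency false
set_option backward.isDefEq.respectTransparency.types false
set_option backward.defeqAttrib.useBackward true

universe u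
open CategoryTheory CategoryTheory.Limits AlgebraicGeometry Opposite TopologicalSpace TensorProduct

namespace Groth.Agent.Lib.FibMonoH8

open Groth.Agent.Lib.StalkSkyL Groth.Agent.Lib.TorAmpPushL

noncomputable section

/-! ### split monomorphisms, elementary form -/

def SplitM {C : Type*} [Category C] {A B : C} (m : A ⟶ B) : Prop := ∃ r : B ⟶ A, m ≫ r = 𝟙 A

theorem SplitM.map {C D : Type*} [Category C] [Category D] {A B : C} {m : A ⟶ B}
    (h : SplitM m) (G : C ⥤ D) : SplitM (G.map m) := by
  obtain ⟨r, hr⟩ := h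
  exact ⟨G.map r, by rw [← G.map_comp, hr, G.map_id]⟩

theorem SplitM.of_natIso {C D : Type*} [Category C] [Category D] {G G' : C ⥤ D} (e : G ≅ G')
    {A B : C} {m : A ⟶ B} (h : SplitM (G.map m)) : SplitM (G'.map m) := by
  obtain ⟨r, hr⟩ := h
  refine ⟨e.inv.app B ≫ r ≫ e.hom.app A, ?_⟩
  have hn := e.inv.naturality m
  calc G'.map m ≫ e.inv.app B ≫ r ≫ e.hom.app A
      = (G'.map m ≫ e.inv.app B) ≫ r ≫ e.hom.app A := by simp only [Category.assoc]
    _ = (e.inv.app A ≫ G.map m) ≫ r ≫ e.hom.app A := by rw [hn]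
    _ = e.inv.app A ≫ (G.map m ≫ r) ≫ e.hom.app A := by simp only [Category.assoc]
    _ = 𝟙 _ := by rw [hr, Category.id_comp, Iso.inv_hom_id_app]

theorem SplitM.mono {C : Type*} [Category C] {A B : C} {m : A ⟶ B} (h : SplitM m) : Mono m := by
  obtain ⟨r, hr⟩ := h
  exact mono_of_mono_fac hr

/-! ### from a split pullback to a split stalk -/

variable {X Z : Scheme.{u}}

theorem splitAt_of_splitM_stalk_pullback {F V : X.Modules} (hFt : CohB1.IsFT F)
    (hV : FlatMod.IsFinLocFree V) (u : F ⟶ V) (h : Z ⟶ X) (z : Z)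
    (hs : SplitM ((DerSch.stalkFunctor Z z).map ((Scheme.Modules.pullback h).map u))) :
    SplitAt u (h.base z) := by
  let res : Z.presheaf.stalk z →+* IsLocalRing.ResidueField (Z.presheaf.stalk z) :=
    IsLocalRing.residue _
  have hs' : SplitM ((Scheme.Modules.pullback h ⋙ DerSch.stalkFunctor Z z).map u) := hs
  have s1 : SplitM ((DerSch.stalkFunctor X (h.base z) ⋙
      ModuleCat.extendScalars.{u, u, u} (stk h z)).map u) :=
    SplitM.of_natIso (pullbackStalkIso h z) hs'
  have s2 : SplitM ((ModuleCat.extendScalars.{u, u, u} (stk h z) ⋙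
      ModuleCat.extendScalars.{u, u, u} res).map ((DerSch.stalkFunctor X (h.base z)).map u)) :=
    s1.map (ModuleCat.extendScalars.{u, u, u} res)
  have s3 : SplitM ((ModuleCat.extendScalars.{u, u, u} (res.comp (stk h z))).map
      ((DerSch.stalkFunctor X (h.base z)).map u)) :=
    SplitM.of_natIso (ModuleCat.extendScalarsComp (stk h z) res).symm s2
  have hmono := s3.mono
  haveI : Module.Finite (X.presheaf.stalk (h.base z))
      ((DerSch.stalkFunctor X (h.base z)).obj F) := finite_stalk_of_isFT F hFt _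
  haveI := FLFH8.isQuasicoherent_of_finLocFree V hV
  haveI := FLFH8.isFinitePresentation_of_finLocFree V hV
  haveI : Module.Finite (X.presheaf.stalk (h.base z))
      ((DerSch.stalkFunctor X (h.base z)).obj V) := FLFH8.finite_stalk V _
  haveI : Module.Free (X.presheaf.stalk (h.base z))
      ((DerSch.stalkFunctor X (h.base z)).obj V) := FLFH8.free_stalk_of_finLocFree V hV _
  have hφ : ∀ r ∈ IsLocalRing.maximalIdeal (X.presheaf.stalk (h.base z)),
      (res.comp (stk h z)) r = 0 := by
    intro r hr
    have h3 := map_nonunit (stk h z) r hr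
    exact (IsLocalRing.residue_eq_zero_iff _).mpr h3
  exact exists_retraction_of_mono_extendScalars (res.comp (stk h z)) hφ _ hmono

theorem splitAt_pullback_of_splitAt {F V : X.Modules} (u : F ⟶ V) (h : Z ⟶ X) (z : Z)
    (hs : SplitAt u (h.base z)) : SplitAt ((Scheme.Modules.pullback h).map u) z := by
  have s0 : SplitM ((DerSch.stalkFunctor X (h.base z)).map u) := hs
  have s1 : SplitM ((DerSch.stalkFunctor X (h.base z) ⋙
      ModuleCat.extendScalars.{u, u, u} (stk h z)).map u) :=
    s0.map (ModuleCat.extendScalars.{u, u, u} (stk h z))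
  have s2 : SplitM ((Scheme.Modules.pullback h ⋙ DerSch.stalkFunctor Z z).map u) :=
    SplitM.of_natIso (pullbackStalkIso h z).symm s1
  exact s2

/-! ### locally split monomorphisms -/

/-- `u` is split near `x`, in pullback form -/
def LocSplitAt {F V : X.Modules} (u : F ⟶ V) (x : X) : Prop :=
  ∃ U : X.Opens, x ∈ U ∧
    ∃ r : (Scheme.Modules.pullback U.ι).obj V ⟶ (Scheme.Modules.pullback U.ι).obj F,
      (Scheme.Modules.pullback U.ι).map u ≫ r = 𝟙 _

theorem splitAt_of_locSplitAt {F V : X.Modules} (hFt : CohB1.IsFT F)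
    (hV : FlatMod.IsFinLocFree V) (u : F ⟶ V) (x : X) (h : LocSplitAt u x) : SplitAt u x := by
  obtain ⟨U, hxU, r, hr⟩ := h
  have h0 : SplitM ((Scheme.Modules.pullback U.ι).map u) := ⟨r, hr⟩
  exact splitAt_of_splitM_stalk_pullback hFt hV u U.ι ⟨x, hxU⟩
    (h0.map (DerSch.stalkFunctor (↑U) ⟨x, hxU⟩))

theorem locSplitAt_of_splitAt {F V : X.Modules} (hFt : CohB1.IsFT F)
    (hV : FlatMod.IsFinLocFree V) (u : F ⟶ V) (h : ∀ x : X, SplitAt u x) (x : X) :
    LocSplitAt u x := by
  obtain ⟨hm, hC⟩ := mono_and_finLocFree_cokernel hFt hV u h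
  haveI := hm
  obtain ⟨W, hxW, ψ, hψ⟩ := Groth.Agent.Lib.DCohLocLead.exists_local_lift_of_finLocFree hC
    (cokernel.π u) (𝟙 _) x
  refine ⟨W, hxW, ?_⟩
  haveI : PreservesColimitsOfSize.{u, u} (Scheme.Modules.restrictFunctor W.ι) :=
    (Scheme.Modules.restrictAdjunction W.ι).leftAdjoint_preservesColimits
  haveI : PreservesFiniteLimits (Scheme.Modules.pullback W.ι) :=
    preservesFiniteLimits_pullback_of_flat W.ι
  haveI : PreservesFiniteLimits (Scheme.Modules.restrictFunctor W.ι) :=
    preservesFiniteLimits_of_natIso (Scheme.Modules.restrictFunctorIsoPullback W.ι).symm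
  haveI : (Scheme.Modules.restrictFunctor W.ι).Additive :=
    Functor.additive_of_iso (Scheme.Modules.restrictFunctorIsoPullback W.ι).symm
  let Sc : ShortComplex X.Modules := ShortComplex.mk u (cokernel.π u) (cokernel.condition u)
  have hSc : Sc.ShortExact :=
    { exact := ShortComplex.exact_cokernel u
      mono_f := inferInstanceAs (Mono u)
      epi_g := inferInstanceAs (Epi (cokernel.π u)) }
  have hR := hSc.map_of_exact (Scheme.Modules.restrictFunctor W.ι)
  let ψ' : (Sc.map (Scheme.Modules.restrictFunctor W.ι)).X₃ ⟶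
      (Sc.map (Scheme.Modules.restrictFunctor W.ι)).X₂ := ψ
  have hs : ψ' ≫ (Sc.map (Scheme.Modules.restrictFunctor W.ι)).g = 𝟙 _ := by
    show ψ ≫ (Scheme.Modules.restrictFunctor W.ι).map (cokernel.π u) = 𝟙 _
    rw [hψ]
    exact (Scheme.Modules.restrictFunctor W.ι).map_id _
  haveI := hR.mono_f
  let sp := ShortComplex.Splitting.ofExactOfSection _ hR.exact ψ' hs inferInstance
  have h1 : SplitM ((Scheme.Modules.restrictFunctor W.ι).map u) := ⟨sp.r, sp.f_r⟩
  exact SplitM.of_natIso (Scheme.Modules.restrictFunctorIsoPullback W.ι) h1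

/-- local splitting of the pullback from local splitting -/
theorem locSplitAt_pullback {F V : X.Modules} [F.IsQuasicoherent] (hFt : CohB1.IsFT F)
    (hV : FlatMod.IsFinLocFree V) (u : F ⟶ V) (h : ∀ x : X, LocSplitAt u x) (g : Z ⟶ X)
    (z : Z) : LocSplitAt ((Scheme.Modules.pullback g).map u) z := by
  haveI : SheafOfModules.IsFiniteType (R := X.ringCatSheaf) F := hFt
  have hFt' : CohB1.IsFT ((Scheme.Modules.pullback g).obj F) := FpqcH8.isFiniteType_pullback g F
  have hV' : FlatMod.IsFinLocFree ((Scheme.Modules.pullback g).obj V) :=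
    PBH8.isFinLocFree_pullback g hV
  refine locSplitAt_of_splitAt hFt' hV' _ (fun y => ?_) z
  exact splitAt_pullback_of_splitAt u g y (splitAt_of_locSplitAt hFt hV u _ (h _))

/-- local splitting descends from a morphism hitting every point -/
theorem locSplitAt_of_pullback {F V : X.Modules} [F.IsQuasicoherent] (hFt : CohB1.IsFT F)
    (hV : FlatMod.IsFinLocFree V) (u : F ⟶ V) (x : X) (g : Z ⟶ X) (z : Z) (hz : g.base z = x)
    (h : LocSplitAt ((Scheme.Modules.pullback g).map u) z) : SplitAt u x := by
  haveI : SheafOfModules.IsFiniteType (R := X.ringCatSheaf) F := hFt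
  have hFt' : CohB1.IsFT ((Scheme.Modules.pullback g).obj F) := FpqcH8.isFiniteType_pullback g F
  have hV' : FlatMod.IsFinLocFree ((Scheme.Modules.pullback g).obj V) :=
    PBH8.isFinLocFree_pullback g hV
  have h1 : SplitAt ((Scheme.Modules.pullback g).map u) z :=
    splitAt_of_locSplitAt hFt' hV' _ z h
  have h2 := splitAt_of_splitM_stalk_pullback hFt hV u g z h1
  rw [hz] at h2
  exact h2

end

end Groth.Agent.Lib.FibMonoH8
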