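import Mathlib
import Groth.Agent.Lib.FibKoszul7_helper2

/-!
# Noetherian flat model of a flat finitely presented algebra together with an element (helper2)

`exists_flat_model_elt`: `α : R → B` flat of finite presentation, `f : B`.  There are a Noetherian
`R₂ → R`, a flat `R₂`-algebra `B₂` (Noetherian), a pushout square `B = R ⊗_{R₂} B₂` and `f₂ : B₂`
mapping to `f`.
APPEND-ONLY once landed.
-/

set_option autoImplicit false
universe u

namespace Groth.Agent.Lib.FibNzd

open TensorProduct CategoryTheory CategoryTheory.Limits Groth.Agent.Lib.FlatDescH8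
  Groth.Agent.Lib.FibKoszul

variable {R B : Type u} [CommRing R] [CommRing B]

/-- a finite type model containing a given element -/
theorem exists_model_elt (α : R →+* B) (hα' : α.FinitePresentation) (f : B) :
    ∃ (R₁ B₁ : Type u) (_ : CommRing R₁) (_ : CommRing B₁)
      (ι : R₁ →+* R) (ιB : B₁ →+* B) (α₁ : R₁ →+* B₁) (f₁ : B₁),
      Algebra.FiniteType ℤ R₁ ∧ α₁.FiniteType ∧
      IsPushout (CommRingCat.ofHom α₁) (CommRingCat.ofHom ι) (CommRingCat.ofHom ιB)
        (CommRingCat.ofHom α) ∧ ιB f₁ = f := by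
  classical
  letI algRB : Algebra R B := α.toAlgebra
  haveI : Algebra.FinitePresentation R B := hα'
  obtain ⟨nB, mB, ⟨PB⟩⟩ := Algebra.Presentation.exists_presentation_fin R B
  let E : R ⊗[PB.Core] PB.ModelOfHasCoeffs PB.Core ≃ₐ[R] B :=
    PB.tensorModelOfHasCoeffsEquiv PB.Core
  obtain ⟨S, hSfg, hS⟩ := exists_fg_forall_mem_jmap_range (A₀ := PB.Core) (A := R)
    (B₀ := PB.ModelOfHasCoeffs PB.Core) {E.symm f}
  let ιB₁ : S ⊗[PB.Core] PB.ModelOfHasCoeffs PB.Core →+* B :=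
    (E : R ⊗[PB.Core] PB.ModelOfHasCoeffs PB.Core →+* B).comp (jmap S).toRingHom
  have hT0 := (CommRingCat.isPushout_tensorProduct PB.Core R (PB.ModelOfHasCoeffs PB.Core)).flip
  have hTS := (CommRingCat.isPushout_tensorProduct PB.Core S (PB.ModelOfHasCoeffs PB.Core)).flip
  have hsqS : IsPushout
      (CommRingCat.ofHom (Algebra.TensorProduct.includeLeftRingHom :
        S →+* S ⊗[PB.Core] PB.ModelOfHasCoeffs PB.Core))
      (CommRingCat.ofHom S.val.toRingHom)
      (CommRingCat.ofHom (jmap (B₀ := PB.ModelOfHasCoeffs PB.Core) S).toRingHom)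
      (CommRingCat.ofHom (Algebra.TensorProduct.includeLeftRingHom :
        R →+* R ⊗[PB.Core] PB.ModelOfHasCoeffs PB.Core)) := by
    refine IsPushout.of_top (h₁₁ := CommRingCat.ofHom (algebraMap PB.Core
        (PB.ModelOfHasCoeffs PB.Core)))
      (v₁₁ := CommRingCat.ofHom (algebraMap PB.Core S))
      (v₁₂ := CommRingCat.ofHom (Algebra.TensorProduct.includeRight :
        PB.ModelOfHasCoeffs PB.Core →ₐ[PB.Core] S ⊗[PB.Core] PB.ModelOfHasCoeffs PB.Core).toRingHom)
      ?_ ?_ hTS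
    · exact hT0
    · rfl
  have hsq1 : IsPushout
      (CommRingCat.ofHom (Algebra.TensorProduct.includeLeftRingHom :
        S →+* S ⊗[PB.Core] PB.ModelOfHasCoeffs PB.Core))
      (CommRingCat.ofHom S.val.toRingHom)
      (CommRingCat.ofHom (R := S ⊗[PB.Core] PB.ModelOfHasCoeffs PB.Core) ιB₁)
      (CommRingCat.ofHom α) := by
    refine IsPushout.of_iso hsqS (Iso.refl _) (Iso.refl _) (Iso.refl _)
      (E.toRingEquiv.toCommRingCatIso) ?_ ?_ ?_ ?_
    · simp
    · simp
    · rw [Iso.refl_hom, Category.id_comp]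
      rfl
    · rw [Iso.refl_hom, Category.id_comp]
      ext r
      exact E.commutes r
  obtain ⟨f₁, hf₁⟩ := hS (E.symm f) (Finset.mem_singleton_self _)
  have hf₁' : jmap S f₁ = E.symm f := hf₁
  haveI : Algebra.FiniteType PB.Core S := (Subalgebra.fg_iff_finiteType S).mp hSfg
  refine ⟨S, S ⊗[PB.Core] PB.ModelOfHasCoeffs PB.Core, inferInstance, inferInstance,
    S.val.toRingHom, ιB₁, Algebra.TensorProduct.includeLeftRingHom, f₁, ?_, ?_, hsq1, ?_⟩
  · exact Algebra.FiniteType.trans (inferInstance : Algebra.FiniteType ℤ PB.Core) inferInstance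
  · exact (RingHom.finiteType_algebraMap (A := S)
      (B := S ⊗[PB.Core] PB.ModelOfHasCoeffs PB.Core)).mpr inferInstance
  · show E (jmap S f₁) = f
    rw [hf₁', AlgEquiv.apply_symm_apply]

/-- **Noetherian flat model with an element.** -/
theorem exists_flat_model_elt (α : R →+* B) (hα : α.Flat) (hα' : α.FinitePresentation) (f : B) :
    ∃ (R₂ B₂ : Type u) (_ : CommRing R₂) (_ : CommRing B₂)
      (ι : R₂ →+* R) (ιB : B₂ →+* B) (α₂ : R₂ →+* B₂) (f₂ : B₂),
      IsNoetherianRing B₂ ∧ α₂.Flat ∧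
      IsPushout (CommRingCat.ofHom α₂) (CommRingCat.ofHom ι) (CommRingCat.ofHom ιB)
        (CommRingCat.ofHom α) ∧ ιB f₂ = f := by
  classical
  obtain ⟨R₁, B₁, _, _, ι, ιB, α₁, f₁, hR₁, hα₁, sq1, hf₁⟩ := exists_model_elt α hα' f
  letI algR₁R : Algebra R₁ R := ι.toAlgebra
  letI algR₁B₁ : Algebra R₁ B₁ := α₁.toAlgebra
  haveI : IsNoetherianRing R₁ := Algebra.FiniteType.isNoetherianRing ℤ R₁
  haveI : Algebra.FiniteType R₁ B₁ := hα₁
  haveI hfB : Module.Flat R (R ⊗[R₁] B₁) := flat_tensor_of_isPushout α ιB sq1 hα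
  obtain ⟨A', hA'fg, hflat⟩ := exists_fg_subalgebra_flat' (A₁ := R₁) (B₁ := B₁) B₁ R
  haveI := hflat
  haveI : Algebra.FiniteType R₁ A' := (Subalgebra.fg_iff_finiteType A').mp hA'fg
  haveI : IsNoetherianRing A' := Algebra.FiniteType.isNoetherianRing R₁ A'
  have hTB := (CommRingCat.isPushout_tensorProduct R₁ A' B₁).flip
  let dB : CommRingCat.of (A' ⊗[R₁] B₁) ⟶ CommRingCat.of B :=
    hTB.desc (CommRingCat.ofHom ιB) (CommRingCat.ofHom (α.comp A'.val.toRingHom)) (by
      have h0 := sq1.w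
      rw [h0]
      rfl)
  have sqB : IsPushout
      (CommRingCat.ofHom (Algebra.TensorProduct.includeLeftRingHom : A' →+* A' ⊗[R₁] B₁))
      (CommRingCat.ofHom A'.val.toRingHom) dB (CommRingCat.ofHom α) := by
    refine IsPushout.of_top (h₁₁ := CommRingCat.ofHom (algebraMap R₁ B₁))
      (v₁₁ := CommRingCat.ofHom (algebraMap R₁ A'))
      (v₁₂ := CommRingCat.ofHom (Algebra.TensorProduct.includeRight :
        B₁ →ₐ[R₁] A' ⊗[R₁] B₁).toRingHom) ?_ ?_ hTB
    · rw [hTB.inl_desc]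
      exact sq1
    · exact hTB.inr_desc _ _ _
  refine ⟨A', A' ⊗[R₁] B₁, inferInstance, inferInstance, A'.val.toRingHom, dB.hom,
    Algebra.TensorProduct.includeLeftRingHom, (1 : A') ⊗ₜ[R₁] f₁, ?_, ?_, sqB, ?_⟩
  · exact Algebra.FiniteType.isNoetherianRing A' (A' ⊗[R₁] B₁)
  · exact (RingHom.flat_algebraMap_iff (R := A') (S := A' ⊗[R₁] B₁)).mpr hflat
  · have h1 := congrArg (fun t => t.hom f₁) (hTB.inl_desc (CommRingCat.ofHom ιB)
      (CommRingCat.ofHom (α.comp A'.val.toRingHom)) (by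
        have h0 := sq1.w
        rw [h0]
        rfl))
    have h2 : dB.hom ((1 : A') ⊗ₜ[R₁] f₁) = ιB f₁ := h1
    rw [h2, hf₁]

end Groth.Agent.Lib.FibNzd
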