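import Groth.Agent.Lib.FlatFibre_helper9

/-!
# Consequences: regular elements on the fibre, free fibres
-/

namespace Groth.Agent.Lib.FlatFibre

open TensorProduct

universe u

theorem quotient_flat_of_nonzerodivisor_in_fibre {R S : Type u} [CommRing R] [CommRing S]
    [IsLocalRing R] [IsLocalRing S] [IsNoetherianRing S] [Algebra R S]
    [IsLocalHom (algebraMap R S)] [Module.Flat R S] (f : S)
    (hf : Ideal.Quotient.mk ((IsLocalRing.maximalIdeal R).map (algebraMap R S)) f ∈
      nonZeroDivisors (S ⧸ ((IsLocalRing.maximalIdeal R).map (algebraMap R S)))) :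
    Module.Flat R (S ⧸ Ideal.span {f}) ∧ f ∈ nonZeroDivisors S := by
  let v : S →ₗ[R] S := LinearMap.mul R S f
  have hv : ∀ x, v x = f * x := fun x => rfl
  have h : Function.Injective (v.lTensor (R ⧸ IsLocalRing.maximalIdeal R)) := by
    rw [lTensor_quot_injective_iff]
    intro x hx
    rw [Ideal.smul_top_eq_map] at hx ⊢
    have hx' : f * x ∈ (IsLocalRing.maximalIdeal R).map (algebraMap R S) := hx
    have h1 : Ideal.Quotient.mk ((IsLocalRing.maximalIdeal R).map (algebraMap R S)) x *
        Ideal.Quotient.mk ((IsLocalRing.maximalIdeal R).map (algebraMap R S)) f = 0 := by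
      rw [← map_mul, Ideal.Quotient.eq_zero_iff_mem, mul_comm]; exact hx'
    have h2 := (mul_right_mem_nonZeroDivisors_eq_zero_iff hf).mp h1
    exact Ideal.Quotient.eq_zero_iff_mem.mp h2
  have hinj := injective_of_injective_mod S v h
  have hflat := flat_coker_of_injective_mod S v h
  constructor
  · have hrange : LinearMap.range v = (Ideal.span {f}).restrictScalars R := by
      ext y
      constructor
      · rintro ⟨x, rfl⟩
        show f * x ∈ Ideal.span {f}
        exact Ideal.mul_mem_right _ _ (Ideal.subset_span rfl)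
      · intro hy
        obtain ⟨a, rfl⟩ := Ideal.mem_span_singleton'.mp hy
        exact ⟨a, by rw [hv, mul_comm]⟩
    let e : (S ⧸ LinearMap.range v) ≃ₗ[R] (S ⧸ Ideal.span {f}) :=
      Submodule.quotEquivOfEq _ _ hrange ≪≫ₗ
        Submodule.Quotient.restrictScalarsEquiv R (Ideal.span {f})
    exact Module.Flat.of_linearEquiv e.symm
  · rw [mem_nonZeroDivisors_iff_right]
    intro x hx
    apply hinj
    rw [hv, map_zero, mul_comm]; exact hx

set_option maxHeartbeats 1000000 in
theorem free_of_free_fibre {R S M : Type u} [CommRing R] [CommRing S] [IsLocalRing R]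
    [IsLocalRing S] [IsNoetherianRing S] [Algebra R S] [IsLocalHom (algebraMap R S)]
    [AddCommGroup M] [Module R M] [Module S M] [IsScalarTower R S M] [Module.Finite S M]
    [Nontrivial M] [Module.Flat R M]
    (h : Module.Free (S ⧸ ((IsLocalRing.maximalIdeal R).map (algebraMap R S)))
      ((S ⧸ ((IsLocalRing.maximalIdeal R).map (algebraMap R S))) ⊗[S] M)) :
    Module.Free S M ∧ Module.Flat R S := by
  classical
  set mS : Ideal S := (IsLocalRing.maximalIdeal R).map (algebraMap R S) with hmS
  have hmS_le : mS ≤ IsLocalRing.maximalIdeal S :=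
    Ideal.map_le_iff_le_comap.mpr fun a ha => map_nonunit (algebraMap R S) a ha
  have hmS_ne : mS ≠ ⊤ := fun htop => by
    rw [htop] at hmS_le
    exact (IsLocalRing.maximalIdeal.isMaximal S).ne_top (top_le_iff.mp hmS_le)
  haveI : Nontrivial (S ⧸ mS) := Ideal.Quotient.nontrivial_iff.mpr hmS_ne
  let ι := Module.Free.ChooseBasisIndex (S ⧸ mS) ((S ⧸ mS) ⊗[S] M)
  let bb : Module.Basis ι (S ⧸ mS) ((S ⧸ mS) ⊗[S] M) := Module.Free.chooseBasis _ _
  have hmk : Function.Surjective (TensorProduct.mk S (S ⧸ mS) M 1) :=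
    TensorProduct.mk_surjective S M (S ⧸ mS) Ideal.Quotient.mk_surjective
  choose m hm using fun i => hmk (bb i)
  -- `1 ⊗ y = 0 ↔ y ∈ mS M`
  have hzero : ∀ y : M, (1 : S ⧸ mS) ⊗ₜ[S] y = 0 ↔ y ∈ mS • (⊤ : Submodule S M) := by
    intro y
    rw [← (TensorProduct.quotTensorEquivQuotSMul M mS).map_eq_zero_iff,
      TensorProduct.quotTensorEquivQuotSMul_mk_one_tmul, Submodule.Quotient.mk_eq_zero]
  let uS : (ι → S) →ₗ[S] M := Fintype.linearCombination S m
  have huS : ∀ x : ι → S, uS x = ∑ i, x i • m i := fun x => by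
    simp [uS, Fintype.linearCombination_apply]
  -- the image of `uS x` in the fibre
  have hfib : ∀ x : ι → S, (1 : S ⧸ mS) ⊗ₜ[S] uS x =
      ∑ i, (Ideal.Quotient.mk mS (x i)) • bb i := by
    intro x
    rw [huS, TensorProduct.tmul_sum]
    refine Finset.sum_congr rfl fun i _ => ?_
    rw [TensorProduct.tmul_smul, ← hm i]
    show x i • (1 : S ⧸ mS) ⊗ₜ[S] m i = _
    rw [← algebraMap_smul (S ⧸ mS) (x i) ((1 : S ⧸ mS) ⊗ₜ[S] m i)]
    rfl
  let v : (ι → S) →ₗ[R] M := uS.restrictScalars R
  have hv : Function.Injective (v.lTensor (R ⧸ IsLocalRing.maximalIdeal R)) := by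
    rw [lTensor_quot_injective_iff]
    intro x hx
    have hx1 : uS x ∈ mS • (⊤ : Submodule S M) :=
      smul_top_le_map_smul_top (IsLocalRing.maximalIdeal R) (uS x) hx
    have hx2 := (hzero _).mpr hx1
    rw [hfib] at hx2
    have hx3 : ∀ i, Ideal.Quotient.mk mS (x i) = 0 :=
      Fintype.linearIndependent_iff.mp bb.linearIndependent _ hx2
    have hx4 : ∀ i, x i ∈ IsLocalRing.maximalIdeal R • (⊤ : Submodule R S) := by
      intro i
      rw [Ideal.smul_top_eq_map]
      exact Ideal.Quotient.eq_zero_iff_mem.mp (hx3 i)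
    have hx5 : x = ∑ i, LinearMap.single R (fun _ : ι => S) i (x i) := by
      funext j
      simp [Finset.sum_apply, Pi.single_apply]
    rw [hx5]
    refine Submodule.sum_mem _ fun i _ => ?_
    exact Submodule.smul_top_le_comap_smul_top _ (LinearMap.single R (fun _ : ι => S) i) (hx4 i)
  have hinj : Function.Injective uS := injective_of_injective_mod S v hv
  have hsurj : Function.Surjective uS := by
    rw [← LinearMap.range_eq_top, eq_top_iff]
    refine Submodule.le_of_le_smul_of_le_jacobson_bot (I := mS) (Module.finite_def.mp inferInstance)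
      ?_ ?_
    · rw [IsLocalRing.jacobson_eq_maximalIdeal ⊥ bot_ne_top]; exact hmS_le
    · intro y _
      let c := bb.repr ((1 : S ⧸ mS) ⊗ₜ[S] y)
      choose c' hc' using fun i => Ideal.Quotient.mk_surjective (I := mS) (c i)
      have h1 : (1 : S ⧸ mS) ⊗ₜ[S] (y - uS c') = 0 := by
        rw [TensorProduct.tmul_sub, hfib, sub_eq_zero]
        conv_lhs => rw [← bb.sum_repr ((1 : S ⧸ mS) ⊗ₜ[S] y)]
        refine Finset.sum_congr rfl fun i _ => ?_
        rw [hc']
      have h2 := (hzero _).mp h1
      have : y = uS c' + (y - uS c') := by abel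
      rw [this]
      exact Submodule.add_mem_sup ⟨c', rfl⟩ h2
  let e : (ι → S) ≃ₗ[S] M := LinearEquiv.ofBijective uS ⟨hinj, hsurj⟩
  refine ⟨Module.Free.of_equiv e, ?_⟩
  haveI : Module.Flat R (ι → S) := Module.Flat.of_linearEquiv (e.restrictScalars R)
  haveI : Nonempty ι := by
    by_contra hne
    rw [not_nonempty_iff] at hne
    haveI : Subsingleton M := e.symm.toEquiv.subsingleton
    exact not_subsingleton M inferInstance
  obtain ⟨i₀⟩ := ‹Nonempty ι›
  refine Module.Flat.of_retract (M := ι → S) (LinearMap.single R (fun _ : ι => S) i₀)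
    (LinearMap.proj i₀) ?_
  ext s
  simp

end Groth.Agent.Lib.FlatFibre
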