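import Mathlib
import Groth.Agent.Lib.FibKoszul3_helper2
import Groth.Agent.Lib.FlatFibre2_helper9
import Groth.Agent.Lib.CartierFlat4_helper9

/-!
# Nonzerodivisors on a fibre, Noetherian local case (helper2)

`R → P` flat with `P` Noetherian, `K` a field over `R`, `𝔮K` a prime of `P ⊗_R K`, `f : P` a
nonzerodivisor in the local ring of the fibre at `𝔮K`.  Then `f` is a nonzerodivisor in `P_Q`
(`Q` the contraction of `𝔮K`) and `P_Q / f` is flat over `R` (`local_nzd_flat`); consequently
multiplication by `f` on `P ⊗_R A'` is injective near `Q` for every `R`-algebra `A'`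
(`mul_eq_zero_local`).
APPEND-ONLY once landed.
-/

set_option autoImplicit false
universe u

namespace Groth.Agent.Lib.FibNzd

open TensorProduct Groth.Agent.Lib.FibKoszul Groth.Agent.Lib.FlatFibre

section Literal

variable {R P K : Type u} [CommRing R] [CommRing P] [Algebra R P] [Field K] [Algebra R K]

/-- the elementwise hypothesis gives a nonzerodivisor in the local ring of the fibre -/
theorem iotaK_mem_nonZeroDivisors (𝔮K : Ideal (P ⊗[R] K)) [𝔮K.IsPrime] (f : P)
    (hf : ∀ y : P ⊗[R] K, (f ⊗ₜ[R] (1 : K)) * y = 0 → ∃ t, t ∉ 𝔮K ∧ t * y = 0) :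
    iotaK 𝔮K f ∈ nonZeroDivisors (Localization.AtPrime 𝔮K) := by
  rw [mem_nonZeroDivisors_iff_right]
  intro w hw
  obtain ⟨⟨y, s⟩, rfl⟩ := IsLocalization.mk'_surjective 𝔮K.primeCompl w
  rw [iotaK_apply] at hw
  have h1 : algebraMap (P ⊗[R] K) (Localization.AtPrime 𝔮K) (y * (f ⊗ₜ[R] (1 : K))) = 0 := by
    rw [map_mul, ← IsLocalization.mk'_spec' (Localization.AtPrime 𝔮K) y s, mul_assoc, hw,
      mul_zero]
  obtain ⟨m, hm⟩ := (IsLocalization.map_eq_zero_iff 𝔮K.primeCompl
    (Localization.AtPrime 𝔮K) _).mp h1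
  have h2 : (f ⊗ₜ[R] (1 : K)) * ((m : P ⊗[R] K) * y) = 0 := by
    rw [← hm]; ring
  obtain ⟨t, ht, hty⟩ := hf _ h2
  rw [IsLocalization.mk'_eq_zero_iff]
  refine ⟨⟨t * (m : P ⊗[R] K), ?_⟩, ?_⟩
  · exact (Ideal.IsPrime.mul_mem_iff_mem_or_mem inferInstance).not.mpr (not_or.mpr ⟨ht, m.2⟩)
  · show t * (m : P ⊗[R] K) * y = 0
    rw [mul_assoc]; exact hty

/-- **Noetherian local case.** -/
theorem local_nzd_flat [IsNoetherianRing P] [Module.Flat R P] (𝔮K : Ideal (P ⊗[R] K))
    [𝔮K.IsPrime] (f : P)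
    (hf : ∀ y : P ⊗[R] K, (f ⊗ₜ[R] (1 : K)) * y = 0 → ∃ t, t ∉ 𝔮K ∧ t * y = 0)
    (Q : Ideal P) [Q.IsPrime]
    (hQ : Q = 𝔮K.comap (Algebra.TensorProduct.includeLeftRingHom : P →+* P ⊗[R] K)) :
    algebraMap P (Localization.AtPrime Q) f ∈ nonZeroDivisors (Localization.AtPrime Q) ∧
      Module.Flat R (Localization.AtPrime Q ⧸
        Ideal.span {algebraMap P (Localization.AtPrime Q) f}) := by
  haveI hp : (RingHom.ker (algebraMap R K)).IsPrime := RingHom.ker_isPrime _
  let j : (RingHom.ker (algebraMap R K)).ResidueField →ₐ[R] K :=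
    Ideal.ResidueField.liftₐ (RingHom.ker (algebraMap R K)) (Algebra.ofId R K)
      (fun x hx => hx)
      (fun r hr => by
        show IsUnit (algebraMap R K r)
        rw [isUnit_iff_ne_zero]
        exact hr)
  obtain ⟨p, hpdef⟩ : ∃ p : Ideal R, p = RingHom.ker (algebraMap R K) := ⟨_, rfl⟩
  subst hpdef
  have hQ' : Q = ctr (RingHom.ker (algebraMap R K))
      (primeKappa (RingHom.ker (algebraMap R K)) j 𝔮K) :=
    hQ.trans (ctr_eq (RingHom.ker (algebraMap R K)) j 𝔮K).symm
  subst hQ'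
  set p : Ideal R := RingHom.ker (algebraMap R K) with hp_def
  -- the local rings
  have hcomap : p = (ctr p (primeKappa p j 𝔮K)).comap (algebraMap R P) :=
    (comap_ctr p j 𝔮K).symm
  letI algRpO : Algebra (Localization.AtPrime p)
      (Localization.AtPrime (ctr p (primeKappa p j 𝔮K))) :=
    (Localization.localRingHom p (ctr p (primeKappa p j 𝔮K)) (algebraMap R P) hcomap).toAlgebra
  haveI tower : IsScalarTower R (Localization.AtPrime p)
      (Localization.AtPrime (ctr p (primeKappa p j 𝔮K))) :=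
    IsScalarTower.of_algebraMap_eq (fun x => by
      show algebraMap R (Localization.AtPrime (ctr p (primeKappa p j 𝔮K))) x =
        Localization.localRingHom p (ctr p (primeKappa p j 𝔮K)) (algebraMap R P) hcomap
          (algebraMap R (Localization.AtPrime p) x)
      rw [Localization.localRingHom_to_map, ← IsScalarTower.algebraMap_apply])
  haveI : IsLocalHom (algebraMap (Localization.AtPrime p)
      (Localization.AtPrime (ctr p (primeKappa p j 𝔮K)))) :=
    Localization.isLocalHom_localRingHom p (ctr p (primeKappa p j 𝔮K)) _ hcomap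
  haveI : Module.Flat R (Localization.AtPrime (ctr p (primeKappa p j 𝔮K))) :=
    Module.Flat.trans R P (Localization.AtPrime (ctr p (primeKappa p j 𝔮K)))
  haveI : Module.Flat (Localization.AtPrime p)
      (Localization.AtPrime (ctr p (primeKappa p j 𝔮K))) :=
    (Module.flat_iff_of_isLocalization (Localization.AtPrime p) p.primeCompl
      (Localization.AtPrime (ctr p (primeKappa p j 𝔮K)))).mpr inferInstance
  haveI : IsNoetherianRing (Localization.AtPrime (ctr p (primeKappa p j 𝔮K))) :=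
    IsLocalization.isNoetherianRing (ctr p (primeKappa p j 𝔮K)).primeCompl _ inferInstance
  have hmax : (IsLocalRing.maximalIdeal (Localization.AtPrime p)).map
      (algebraMap (Localization.AtPrime p) (Localization.AtPrime (ctr p (primeKappa p j 𝔮K)))) =
      p.map (algebraMap R (Localization.AtPrime (ctr p (primeKappa p j 𝔮K)))) := by
    rw [← Localization.AtPrime.map_eq_maximalIdeal, Ideal.map_map,
      ← IsScalarTower.algebraMap_eq]
  -- injectivity of `chi`
  have hχinj : Function.Injective (chi p j 𝔮K) := by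
    letI : Algebra (Localization.AtPrime (primeKappa p j 𝔮K)) (Localization.AtPrime 𝔮K) :=
      (chi p j 𝔮K).toAlgebra
    haveI : Module.Flat (Localization.AtPrime (primeKappa p j 𝔮K)) (Localization.AtPrime 𝔮K) :=
      chi_flat p j 𝔮K
    haveI : IsLocalHom (algebraMap (Localization.AtPrime (primeKappa p j 𝔮K))
      (Localization.AtPrime 𝔮K)) := chi_isLocalHom p j 𝔮K
    haveI : Module.FaithfullyFlat (Localization.AtPrime (primeKappa p j 𝔮K))
      (Localization.AtPrime 𝔮K) := Module.FaithfullyFlat.of_flat_of_isLocalHom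
    exact FaithfulSMul.algebraMap_injective _ _
  have hnzd := iotaK_mem_nonZeroDivisors 𝔮K f hf
  have hf' : Ideal.Quotient.mk ((IsLocalRing.maximalIdeal (Localization.AtPrime p)).map
      (algebraMap (Localization.AtPrime p) (Localization.AtPrime (ctr p (primeKappa p j 𝔮K)))))
      (algebraMap P (Localization.AtPrime (ctr p (primeKappa p j 𝔮K))) f) ∈
      nonZeroDivisors (Localization.AtPrime (ctr p (primeKappa p j 𝔮K)) ⧸
        ((IsLocalRing.maximalIdeal (Localization.AtPrime p)).map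
          (algebraMap (Localization.AtPrime p)
            (Localization.AtPrime (ctr p (primeKappa p j 𝔮K)))))) := by
    rw [mem_nonZeroDivisors_iff_right]
    intro xb hxb
    obtain ⟨x, rfl⟩ := Ideal.Quotient.mk_surjective xb
    rw [← map_mul, Ideal.Quotient.eq_zero_iff_mem, hmax,
      ← ker_gmap p (primeKappa p j 𝔮K), RingHom.mem_ker, map_mul] at hxb
    rw [Ideal.Quotient.eq_zero_iff_mem, hmax, ← ker_gmap p (primeKappa p j 𝔮K), RingHom.mem_ker]
    have h1 : chi p j 𝔮K (gmap p (primeKappa p j 𝔮K) x) * iotaK 𝔮K f = 0 := by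
      have h2 := congrArg (chi p j 𝔮K) hxb
      rw [map_mul, map_zero] at h2
      have h3 : iotaK 𝔮K f = chi p j 𝔮K (gmap p (primeKappa p j 𝔮K)
          (algebraMap P (Localization.AtPrime (ctr p (primeKappa p j 𝔮K))) f)) := by
        rw [iotaK_eq p j 𝔮K]
        rfl
      rw [h3]
      exact h2
    have h4 := (mul_right_mem_nonZeroDivisors_eq_zero_iff hnzd).mp h1
    exact hχinj (by rw [h4, map_zero])
  obtain ⟨hfl, hreg⟩ := quotient_flat_of_nonzerodivisor_in_fibre
    (R := Localization.AtPrime p) (S := Localization.AtPrime (ctr p (primeKappa p j 𝔮K)))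
    (algebraMap P (Localization.AtPrime (ctr p (primeKappa p j 𝔮K))) f) hf'
  refine ⟨hreg, ?_⟩
  haveI := hfl
  exact Module.Flat.trans R (Localization.AtPrime p) _

/-- **Consequence**: multiplication by `f` on `P ⊗ A'` is injective near `Q`. -/
theorem mul_eq_zero_local [IsNoetherianRing P] [Module.Flat R P] (𝔮K : Ideal (P ⊗[R] K))
    [𝔮K.IsPrime] (f : P)
    (hf : ∀ y : P ⊗[R] K, (f ⊗ₜ[R] (1 : K)) * y = 0 → ∃ t, t ∉ 𝔮K ∧ t * y = 0)
    (A' : Type u) [CommRing A'] [Algebra R A'] (z : P ⊗[R] A')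
    (hz : (f ⊗ₜ[R] (1 : A')) * z = 0) :
    ∃ t : P, t ∉ 𝔮K.comap (Algebra.TensorProduct.includeLeftRingHom : P →+* P ⊗[R] K) ∧
      (t ⊗ₜ[R] (1 : A')) * z = 0 := by
  obtain ⟨Q, hQ⟩ : ∃ Q : Ideal P,
      Q = 𝔮K.comap (Algebra.TensorProduct.includeLeftRingHom : P →+* P ⊗[R] K) := ⟨_, rfl⟩
  haveI : Q.IsPrime := by rw [hQ]; exact Ideal.comap_isPrime _ _
  obtain ⟨hnzd, hflat⟩ := local_nzd_flat 𝔮K f hf Q hQ
  rw [← hQ]
  haveI := hflat
  have hnz2 := Groth.Agent.Lib.CartierFlat4.tmul_one_mem_nonZeroDivisors (A := R)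
    (algebraMap P (Localization.AtPrime Q) f) hnzd A'
  let ρ : P ⊗[R] A' →ₐ[R] (Localization.AtPrime Q) ⊗[R] A' :=
    Algebra.TensorProduct.map (IsScalarTower.toAlgHom R P (Localization.AtPrime Q))
      (AlgHom.id R A')
  have h1 : (algebraMap P (Localization.AtPrime Q) f ⊗ₜ[R] (1 : A')) * ρ z = 0 := by
    have h2 := congrArg ρ hz
    rw [map_mul, map_zero] at h2
    exact h2
  have h3 : ρ z = 0 := by
    rw [mul_comm] at h1
    exact (mul_right_mem_nonZeroDivisors_eq_zero_iff hnz2).mp h1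
  let g : P ⊗[R] A' →ₗ[P] (Localization.AtPrime Q) ⊗[R] A' :=
    AlgebraTensorModule.rTensor R A' (Algebra.linearMap P (Localization.AtPrime Q))
  have hρg : ∀ w : P ⊗[R] A', g w = ρ w := by
    intro w
    induction w using TensorProduct.induction_on with
    | zero => rw [map_zero, map_zero]
    | tmul b a => rfl
    | add x y hx hy => rw [map_add, map_add, hx, hy]
  haveI : IsLocalizedModule Q.primeCompl g := IsLocalizedModule.rTensor (R := R) (N := A') P Q.primeCompl
    (Algebra.linearMap P (Localization.AtPrime Q))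
  obtain ⟨c, hc⟩ := (IsLocalizedModule.eq_zero_iff Q.primeCompl g).mp ((hρg z).trans h3)
  refine ⟨c.1, c.2, ?_⟩
  have h4 : (c : P) • z = 0 := hc
  rw [Algebra.smul_def, Algebra.TensorProduct.algebraMap_apply] at h4
  exact h4

end Literal

end Groth.Agent.Lib.FibNzd
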