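import Mathlib
import Groth.Agent.Lib.FibNzd1_helper2
import Groth.Agent.Lib.FibNzd2_helper2
import Groth.Agent.Lib.CartierFlat_helper9

/-!
# Fibrewise nonzerodivisors: flat finitely presented case (helper2)

`main_alg`: `α : R → B` flat of finite presentation, `f : B` which is a nonzerodivisor in the local
rings of all fibres (over fields, given as pushouts).  Then `f` is a nonzerodivisor of `B` and
`B / f` is flat over `R`.
APPEND-ONLY once landed.
-/

set_option autoImplicit false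
universe u

namespace Groth.Agent.Lib.FibNzd

open TensorProduct CategoryTheory CategoryTheory.Limits

variable {R B K BK : Type u} [CommRing R] [CommRing B] [CommRing K] [CommRing BK]

/-- **Noetherian case, pushout form.** -/
theorem noeth_pushout [IsNoetherianRing B] (hK : IsField K) (α : R →+* B) (hα : α.Flat)
    (κ : R →+* K) (βB : B →+* BK) (κB : K →+* BK)
    (h1 : IsPushout (CommRingCat.ofHom α) (CommRingCat.ofHom κ) (CommRingCat.ofHom βB)
      (CommRingCat.ofHom κB))
    (qK : Ideal BK) [qK.IsPrime] (f : B)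
    (hf : ∀ y : BK, βB f * y = 0 → ∃ t, t ∉ qK ∧ t * y = 0) :
    letI := α.toAlgebra
    ∀ (A' : Type u) [CommRing A'] [Algebra R A'] (z : B ⊗[R] A'),
      (f ⊗ₜ[R] (1 : A')) * z = 0 →
      ∃ t : B, t ∉ qK.comap βB ∧ (t ⊗ₜ[R] (1 : A')) * z = 0 := by
  letI := hK.toField
  letI algRB : Algebra R B := α.toAlgebra
  letI algRK : Algebra R K := κ.toAlgebra
  haveI : Module.Flat R B := hα
  intro A' _ _ z hz
  have hT := CommRingCat.isPushout_tensorProduct R B K
  let e := hT.isoIsPushout _ _ h1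
  have he : ∀ b : B, e.hom.hom (b ⊗ₜ[R] (1 : K)) = βB b := by
    intro b
    have := congrArg (fun t => t.hom b) (hT.inl_isoIsPushout_hom _ _ h1)
    exact this
  have hbij : Function.Bijective e.hom.hom := ConcreteCategory.bijective_of_isIso e.hom
  haveI : (qK.comap e.hom.hom).IsPrime := Ideal.comap_isPrime _ _
  have hf' : ∀ y : B ⊗[R] K, (f ⊗ₜ[R] (1 : K)) * y = 0 →
      ∃ t, t ∉ qK.comap e.hom.hom ∧ t * y = 0 := by
    intro y hy
    have h2 : βB f * e.hom.hom y = 0 := by
      rw [← he, ← map_mul, hy, map_zero]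
    obtain ⟨t, ht, hty⟩ := hf _ h2
    obtain ⟨t', rfl⟩ := hbij.2 t
    refine ⟨t', ht, hbij.1 ?_⟩
    rw [map_mul, map_zero]
    exact hty
  obtain ⟨t, ht, htz⟩ := mul_eq_zero_local (qK.comap e.hom.hom) f hf' A' z hz
  refine ⟨t, ?_, htz⟩
  intro hmem
  apply ht
  rw [Ideal.mem_comap, Ideal.mem_comap]
  show e.hom.hom (t ⊗ₜ[R] (1 : K)) ∈ qK
  rw [he]
  exact hmem

/-- **General case, local statement.** -/
theorem general_local (hK : IsField K) (α : R →+* B) (hα : α.Flat)
    (hα' : α.FinitePresentation)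
    (κ : R →+* K) (βB : B →+* BK) (κB : K →+* BK)
    (h1 : IsPushout (CommRingCat.ofHom α) (CommRingCat.ofHom κ) (CommRingCat.ofHom βB)
      (CommRingCat.ofHom κB))
    (qK : Ideal BK) [qK.IsPrime] (f : B)
    (hf : ∀ y : BK, βB f * y = 0 → ∃ t, t ∉ qK ∧ t * y = 0) (I : Ideal R) (x : B)
    (hx : f * x ∈ I.map α) :
    ∃ t : B, t ∉ qK.comap βB ∧ t * x ∈ I.map α := by
  obtain ⟨R₂, B₂, _, _, ι, ιB, α₂, f₂, hN, hα₂, sq1, hf₂⟩ := exists_flat_model_elt α hα hα' f
  haveI := hN
  have h1' : IsPushout (CommRingCat.ofHom α₂) (CommRingCat.ofHom (κ.comp ι))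
      (CommRingCat.ofHom (βB.comp ιB)) (CommRingCat.ofHom κB) := sq1.paste_vert h1
  have hNoe := noeth_pushout hK α₂ hα₂ (κ.comp ι) (βB.comp ιB) κB h1' qK f₂ (by
    intro y hy
    apply hf
    rw [← hf₂]
    exact hy)
  letI algR₂B₂ : Algebra R₂ B₂ := α₂.toAlgebra
  letI algR₂R : Algebra R₂ R := ι.toAlgebra
  have hT := CommRingCat.isPushout_tensorProduct R₂ B₂ R
  let e := hT.isoIsPushout _ _ sq1
  have heL : ∀ b : B₂, e.hom.hom (b ⊗ₜ[R₂] (1 : R)) = ιB b := by
    intro b
    have := congrArg (fun t => t.hom b) (hT.inl_isoIsPushout_hom _ _ sq1)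
    exact this
  have heR : ∀ r : R, e.hom.hom ((1 : B₂) ⊗ₜ[R₂] r) = α r := by
    intro r
    have := congrArg (fun t => t.hom r) (hT.inr_isoIsPushout_hom _ _ sq1)
    exact this
  have hbij : Function.Bijective e.hom.hom := ConcreteCategory.bijective_of_isIso e.hom
  let π : B₂ ⊗[R₂] R →ₐ[R₂] B₂ ⊗[R₂] (R ⧸ I) :=
    Algebra.TensorProduct.map (AlgHom.id R₂ B₂) (Ideal.Quotient.mkₐ R₂ I)
  have hkerπ : RingHom.ker π = I.map
      (Algebra.TensorProduct.includeRight : R →ₐ[R₂] B₂ ⊗[R₂] R) := by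
    have h2 := Algebra.TensorProduct.lTensor_ker (A := B₂) (Ideal.Quotient.mkₐ R₂ I)
      (Ideal.Quotient.mkₐ_surjective R₂ I)
    have hk : RingHom.ker (Ideal.Quotient.mkₐ R₂ I) = I := by
      ext r
      rw [RingHom.mem_ker]
      exact Ideal.Quotient.eq_zero_iff_mem
    rw [hk] at h2
    exact h2
  -- `I B` corresponds to `ker π`
  have hIα : I.map α = (I.map
      (Algebra.TensorProduct.includeRight : R →ₐ[R₂] B₂ ⊗[R₂] R)).map e.hom.hom := by
    apply le_antisymm
    · rw [Ideal.map_le_iff_le_comap]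
      intro r hr
      rw [Ideal.mem_comap, ← heR r]
      exact Ideal.mem_map_of_mem _ (Ideal.mem_map_of_mem _ hr)
    · rw [Ideal.map_le_iff_le_comap, Ideal.map_le_iff_le_comap]
      intro r hr
      rw [Ideal.mem_comap, Ideal.mem_comap]
      show e.hom.hom ((1 : B₂) ⊗ₜ[R₂] r) ∈ _
      rw [heR]
      exact Ideal.mem_map_of_mem _ hr
  have hmem_iff : ∀ w : B₂ ⊗[R₂] R, e.hom.hom w ∈ I.map α ↔ π w = 0 := by
    intro w
    rw [hIα, ← RingHom.mem_ker, hkerπ]
    constructor
    · intro h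
      have h3 := Ideal.mem_comap.mpr h
      rw [Ideal.comap_map_of_bijective _ hbij] at h3
      exact h3
    · intro h
      exact Ideal.mem_map_of_mem _ h
  obtain ⟨w, rfl⟩ := hbij.2 x
  have hz : (f₂ ⊗ₜ[R₂] (1 : R ⧸ I)) * π w = 0 := by
    have h4 : π ((f₂ ⊗ₜ[R₂] (1 : R)) * w) = 0 := by
      rw [← hmem_iff, map_mul, heL, hf₂]
      exact hx
    rw [map_mul] at h4
    have h5 : π (f₂ ⊗ₜ[R₂] (1 : R)) = f₂ ⊗ₜ[R₂] (1 : R ⧸ I) := by
      show (Algebra.TensorProduct.map (AlgHom.id R₂ B₂) (Ideal.Quotient.mkₐ R₂ I))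
        (f₂ ⊗ₜ[R₂] (1 : R)) = _
      rw [Algebra.TensorProduct.map_tmul, map_one]
      rfl
    rw [h5] at h4
    exact h4
  obtain ⟨t, ht, htz⟩ := hNoe (R ⧸ I) (π w) hz
  refine ⟨ιB t, ?_, ?_⟩
  · intro hmem
    apply ht
    rw [Ideal.mem_comap] at hmem ⊢
    exact hmem
  · have h6 : π ((t ⊗ₜ[R₂] (1 : R)) * w) = 0 := by
      rw [map_mul]
      have h5 : π (t ⊗ₜ[R₂] (1 : R)) = t ⊗ₜ[R₂] (1 : R ⧸ I) := by
        show (Algebra.TensorProduct.map (AlgHom.id R₂ B₂) (Ideal.Quotient.mkₐ R₂ I))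
          (t ⊗ₜ[R₂] (1 : R)) = _
        rw [Algebra.TensorProduct.map_tmul, map_one]
        rfl
      rw [h5]
      exact htz
    have h7 := (hmem_iff _).mpr h6
    rw [map_mul, heL] at h7
    exact h7

/-- **Fibrewise nonzerodivisors give a relative effective Cartier divisor** (algebra). -/
theorem main_alg {R B : Type u} [CommRing R] [CommRing B] (α : R →+* B) (hα : α.Flat)
    (hα' : α.FinitePresentation) (f : B)
    (H : ∀ q : Ideal B, q.IsMaximal → ∃ (K BK : Type u) (_ : CommRing K) (_ : CommRing BK)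
      (_ : IsField K) (κ : R →+* K) (βB : B →+* BK) (κB : K →+* BK) (qK : Ideal BK)
      (_ : qK.IsPrime),
      IsPushout (CommRingCat.ofHom α) (CommRingCat.ofHom κ) (CommRingCat.ofHom βB)
        (CommRingCat.ofHom κB) ∧ qK.comap βB = q ∧
        ∀ y : BK, βB f * y = 0 → ∃ t, t ∉ qK ∧ t * y = 0) :
    f ∈ nonZeroDivisors B ∧ ((Ideal.Quotient.mk (Ideal.span {f})).comp α).Flat := by
  have star : ∀ (I : Ideal R) (x : B), f * x ∈ I.map α → x ∈ I.map α := by
    intro I x hx
    by_contra hxn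
    have hJ : (I.map α).colon {x} ≠ ⊤ := by
      intro htop
      have h1 : (1 : B) ∈ (I.map α).colon {x} := by rw [htop]; trivial
      rw [Submodule.mem_colon_singleton, one_smul] at h1
      exact hxn h1
    obtain ⟨m, hm, hJm⟩ := Ideal.exists_le_maximal _ hJ
    obtain ⟨K, BK, _, _, hK, κ, βB, κB, qK, hqK, h1, hq, hf⟩ := H m hm
    haveI := hqK
    obtain ⟨t, ht, htx⟩ := general_local hK α hα hα' κ βB κB h1 qK f hf I x hx
    rw [hq] at ht
    apply ht
    apply hJm
    rw [Submodule.mem_colon_singleton]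
    exact htx
  constructor
  · rw [mem_nonZeroDivisors_iff_right]
    intro x hx
    have h1 := star ⊥ x (by rw [mul_comm, hx]; exact zero_mem _)
    rw [Ideal.map_bot] at h1
    exact h1
  · rw [Groth.Agent.Lib.CartierFlat.flat_comp_mk_iff]
    letI algRB : Algebra R B := α.toAlgebra
    haveI : Module.Flat R B := hα
    let v : B →ₗ[R] B := LinearMap.mul R B f
    have hv : ∀ x, v x = f * x := fun x => rfl
    have hflat : Module.Flat R (B ⧸ LinearMap.range v) := by
      apply Groth.Agent.Lib.McCoyH8.flat_coker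
      intro I
      rw [Groth.Agent.Lib.FlatFibre.lTensor_quot_injective_iff]
      intro x hx
      rw [Ideal.smul_top_eq_map] at hx ⊢
      exact star I x hx
    have hrange : LinearMap.range v = (Ideal.span {f}).restrictScalars R := by
      ext y
      constructor
      · rintro ⟨x, rfl⟩
        show f * x ∈ Ideal.span {f}
        exact Ideal.mul_mem_right _ _ (Ideal.subset_span rfl)
      · intro hy
        obtain ⟨a, rfl⟩ := Ideal.mem_span_singleton'.mp hy
        exact ⟨a, by rw [hv, mul_comm]⟩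
    let e : (B ⧸ LinearMap.range v) ≃ₗ[R] (B ⧸ Ideal.span {f}) :=
      Submodule.quotEquivOfEq _ _ hrange ≪≫ₗ
        Submodule.Quotient.restrictScalarsEquiv R (Ideal.span {f})
    exact Module.Flat.of_linearEquiv e.symm

end Groth.Agent.Lib.FibNzd
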