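import Mathlib

namespace Groth.Agent.Lib.FibProdFT

universe u

theorem pi_finiteType (R : Type*) [CommRing R] {ι : Type*} [Fintype ι] (A : ι → Type*)
    [∀ i, CommRing (A i)] [∀ i, Algebra R (A i)] (hA : ∀ i, Algebra.FiniteType R (A i)) :
    Algebra.FiniteType R (∀ i, A i) := by
  classical
  choose s hs using fun i => (hA i).out
  let T : Set (∀ i, A i) := Set.range (fun i => (Pi.single i 1 : ∀ i, A i)) ∪
    ⋃ i, ((fun y => (Pi.single i y : ∀ i, A i)) '' (s i : Set (A i)))
  have hTfin : T.Finite := by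
    refine Set.Finite.union (Set.finite_range _) (Set.finite_iUnion fun i => ?_)
    exact (Finset.finite_toSet (s i)).image _
  have key : ∀ (i : ι) (y : A i), (Pi.single i y : ∀ i, A i) ∈ Algebra.adjoin R T := by
    intro i y
    have hy : y ∈ Algebra.adjoin R (s i : Set (A i)) := by rw [hs i]; trivial
    refine Algebra.adjoin_induction
      (p := fun y _ => (Pi.single i y : ∀ i, A i) ∈ Algebra.adjoin R T) ?_ ?_ ?_ ?_ hy
    · intro x hx
      have hxT : (Pi.single i x : ∀ i, A i) ∈ T :=
        Set.mem_union_right _ (Set.mem_iUnion.2 ⟨i, ⟨x, hx, rfl⟩⟩)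
      exact Algebra.subset_adjoin hxT
    · intro r
      have : (Pi.single i (algebraMap R (A i) r) : ∀ i, A i) = r • Pi.single i 1 := by
        rw [← Pi.single_smul, Algebra.smul_def, mul_one]
      rw [this]
      have h1T : (Pi.single i 1 : ∀ i, A i) ∈ T := Set.mem_union_left _ ⟨i, rfl⟩
      exact Subalgebra.smul_mem _ (Algebra.subset_adjoin h1T) r
    · intro x y _ _ hx hy
      rw [Pi.single_add]; exact add_mem hx hy
    · intro x y _ _ hx hy
      rw [Pi.single_mul]; exact mul_mem hx hy
  refine ⟨⟨hTfin.toFinset, ?_⟩⟩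
  rw [Set.Finite.coe_toFinset, eq_top_iff]
  intro x _
  rw [← Finset.univ_sum_single x]
  exact Subalgebra.sum_mem _ (fun i _ => key i (x i))

theorem main (R : Type u) [CommRing R] [IsNoetherianRing R] {ι : Type u} [Fintype ι]
    (Q : Type u) [CommRing Q] [Algebra R Q] [Algebra.FiniteType R Q] (A B : ι → Type u)
    [∀ i, CommRing (A i)]
    [∀ i, CommRing (B i)] [∀ i, Algebra R (A i)] [∀ i, Algebra R (B i)]
    (hA : ∀ i, Algebra.FiniteType R (A i))
    (φ : ∀ i, A i →ₐ[R] B i) (ψ : ∀ i, Q →ₐ[R] B i)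
    (hφ : ∀ i, Function.Surjective (φ i)) (hψ : ∀ i, Function.Surjective (ψ i)) :
    Algebra.FiniteType R ↥(AlgHom.equalizer ((AlgHom.pi ψ).comp (AlgHom.fst R Q (∀ i, A i)))
      ((AlgHom.pi fun i => (φ i).comp (Pi.evalAlgHom R A i)).comp
        (AlgHom.snd R Q (∀ i, A i)))) := by
  classical
  set E := AlgHom.equalizer ((AlgHom.pi ψ).comp (AlgHom.fst R Q (∀ i, A i)))
      ((AlgHom.pi fun i => (φ i).comp (Pi.evalAlgHom R A i)).comp
        (AlgHom.snd R Q (∀ i, A i))) with hE
  have hmem : ∀ x : Q × (∀ i, A i), x ∈ E ↔ ∀ i, ψ i x.1 = φ i (x.2 i) := by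
    intro x
    rw [hE, AlgHom.mem_equalizer]
    constructor
    · intro h i; exact congrFun h i
    · intro h; funext i; exact h i
  haveI : Algebra.FiniteType R (∀ i, A i) := pi_finiteType R A hA
  haveI : Algebra.FiniteType R (Q × (∀ i, A i)) := inferInstance
  have hex1 : ∀ q : Q, ∃ a : ∀ i, A i, ((q, a) : Q × (∀ i, A i)) ∈ E := by
    intro q
    choose a ha using fun i => hφ i (ψ i q)
    exact ⟨a, (hmem _).2 (fun i => (ha i).symm)⟩
  have hex2 : ∀ (i : ι) (x : A i), ∃ e : Q × (∀ i, A i), e ∈ E ∧ e.2 i = x := by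
    intro i x
    obtain ⟨q, hq⟩ := hψ i (φ i x)
    choose c hc using fun j => hφ j (ψ j q)
    refine ⟨(q, Function.update c i x), (hmem _).2 ?_, ?_⟩
    · intro j
      rcases eq_or_ne j i with rfl | hji
      · show ψ j q = φ j (Function.update c j x j)
        rw [Function.update_self]; exact hq
      · show ψ j q = φ j (Function.update c i x j)
        rw [Function.update_of_ne hji]; exact (hc j).symm
    · show Function.update c i x i = x
      rw [Function.update_self]
  let S : Set (Q × (∀ i, A i)) :=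
    insert 1 (Set.range (fun i => ((0, Pi.single i 1) : Q × (∀ i, A i))))
  have hSfin : S.Finite := Set.Finite.insert _ (Set.finite_range _)
  have hspan : Submodule.span E S = (⊤ : Submodule E (Q × (∀ i, A i))) := by
    rw [eq_top_iff]
    rintro ⟨q, a⟩ -
    obtain ⟨a0, ha0⟩ := hex1 q
    choose e he1 he2 using fun i => hex2 i (a i - a0 i)
    have hdecomp : ((q, a) : Q × (∀ i, A i)) =
        (⟨(q, a0), ha0⟩ : E) • (1 : Q × (∀ i, A i)) +
          ∑ i, (⟨e i, he1 i⟩ : E) • ((0, Pi.single i 1) : Q × (∀ i, A i)) := by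
      have h1 : ∀ (x : E) (c : Q × (∀ i, A i)), x • c = (x : Q × (∀ i, A i)) * c :=
        fun x c => by rw [Subalgebra.smul_def, smul_eq_mul]
      simp only [h1, mul_one]
      have h2 : ∀ i, e i * ((0, Pi.single i 1) : Q × (∀ i, A i)) =
          (0, Pi.single i (a i - a0 i)) := by
        intro i
        apply Prod.ext
        · simp
        · funext j
          show (e i).2 j * (Pi.single i (1 : A i) : ∀ i, A i) j = Pi.single i (a i - a0 i) j
          rcases eq_or_ne j i with rfl | hji
          · rw [Pi.single_eq_same, Pi.single_eq_same, mul_one, he2]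
          · rw [Pi.single_eq_of_ne hji, Pi.single_eq_of_ne hji, mul_zero]
      have h3 : ∑ i, ((0, Pi.single i (a i - a0 i)) : Q × (∀ i, A i)) = (0, a - a0) := by
        apply Prod.ext
        · rw [Prod.fst_sum]; simp
        · rw [Prod.snd_sum]
          exact Finset.univ_sum_single (a - a0)
      simp only [h2]
      rw [h3]
      apply Prod.ext
      · simp
      · simp
    rw [hdecomp]
    refine Submodule.add_mem _
      (Submodule.smul_mem _ _ (Submodule.subset_span (Set.mem_insert _ _)))
      (Submodule.sum_mem _ (fun i _ => Submodule.smul_mem _ _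
        (Submodule.subset_span (Set.mem_insert_of_mem _ ⟨i, rfl⟩))))
  refine ⟨fg_of_fg_of_fg R E (Q × (∀ i, A i)) (Algebra.FiniteType.out) ?_
    (fun x y h => Subtype.ext h)⟩
  rw [← hspan]
  exact Submodule.fg_span hSfin

end Groth.Agent.Lib.FibProdFT
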