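import Mathlib
import Groth.Prelude
import Groth.Agent.Lib.FibProdTor1_helper3
import Groth.Agent.Lib.PCHom4_helper2

/-!
# Pseudo-coherence of a fibre product of ring maps (helper3)

* `pcr_torIndep_bc_surj`, `pcr_torIndep_bc`: base change of a pseudo-coherent ring map `R → A`
  along `R → R ⊗_k k'`, for `R` and `A` flat over `k`.
* `pcr_fibreProduct`: `B₁ ⊗_A B₂ → C₁ ⊗_A C₂` is pseudo-coherent when `B₂`, `C₂` are flat over `A`.
-/

set_option autoImplicit false
set_option linter.all false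
set_option maxHeartbeats 1600000

universe u
open CategoryTheory CategoryTheory.Limits DerivedCategory
open scoped TensorProduct ChangeOfRings
attribute [local instance] HasDerivedCategory.standard

namespace Groth.Agent.Lib.FibProdTorH3

open DRing CochainComplex Groth.Agent.ExtendScalarsLib Groth.Agent.Lib.DMod_helper6
  Groth.Agent.Lib.TorAmpStalkBCH3 Groth.Agent.Lib.PCHom

noncomputable section

section Stable

variable {R A R' A' : Type u} [CommRing R] [CommRing A] [CommRing R'] [CommRing A']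

/-- a property of ring maps stable under base change, in pushout-square form -/
theorem prop_of_isPushout
    {Pr : ∀ {X Y : Type u} [CommRing X] [CommRing Y], (X →+* Y) → Prop}
    (hPr : RingHom.IsStableUnderBaseChange @Pr)
    (α : R →+* A) (γ : R →+* R') (β : A →+* A') (δ : R' →+* A')
    (hpo : IsPushout (CommRingCat.ofHom α) (CommRingCat.ofHom γ) (CommRingCat.ofHom β)
      (CommRingCat.ofHom δ)) (h : Pr α) : Pr δ := by
  letI : Algebra R A := α.toAlgebra
  letI : Algebra R R' := γ.toAlgebra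
  letI : Algebra A A' := β.toAlgebra
  letI : Algebra R' A' := δ.toAlgebra
  letI : Algebra R A' := (β.comp α).toAlgebra
  haveI : IsScalarTower R A A' := IsScalarTower.of_algebraMap_eq (fun _ => rfl)
  have hw : δ.comp γ = β.comp α := by
    have := hpo.w
    rw [← CommRingCat.ofHom_comp, ← CommRingCat.ofHom_comp] at this
    exact (congrArg CommRingCat.Hom.hom this).symm
  haveI : IsScalarTower R R' A' :=
    IsScalarTower.of_algebraMap_eq (fun a => (DFunLike.congr_fun hw a).symm)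
  haveI h1 : Algebra.IsPushout R A R' A' := CommRingCat.isPushout_iff_isPushout.1 hpo
  exact hPr R A R' A' h

end Stable

section Flat

variable {k R A : Type u} [CommRing k] [CommRing R] [CommRing A]

lemma termwiseFlat_restrict_unit (ι : k →+* R) (α : R →+* A) (hA : (α.comp ι).Flat) :
    TermwiseFlat ((restrictCx ι).obj ((restrictCx α).obj (unitC A))) := fun i => by
  by_cases hi : i = 0
  · subst hi
    have e0 : ((restrictCx ι).obj ((restrictCx α).obj (unitC A))).X 0 ≅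
        (ModuleCat.restrictScalars.{u} ι).obj
          ((ModuleCat.restrictScalars.{u} α).obj (ModuleCat.of A A)) :=
      (ModuleCat.restrictScalars.{u} ι).mapIso ((ModuleCat.restrictScalars.{u} α).mapIso
        (HomologicalComplex.singleObjXSelf (ComplexShape.up ℤ) 0 (ModuleCat.of A A)))
    haveI := flat_restrict_restrict_self ι α hA
    exact Module.Flat.of_linearEquiv e0.toLinearEquiv
  · exact flat_of_isZero _ ((ModuleCat.restrictScalars.{u} ι).map_isZero
      ((ModuleCat.restrictScalars.{u} α).map_isZero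
        (HomologicalComplex.isZero_single_obj_X _ 0 _ i hi)))

end Flat

section Surj

variable {k P A k' P' A' : Type u} [CommRing k] [CommRing P] [CommRing A] [CommRing k']
  [CommRing P'] [CommRing A']

/-- the surjective case -/
theorem pcr_torIndep_bc_surj (ι : k →+* P) (φ : P →+* A) (κ : k →+* k') (γ : P →+* P')
    (κ' : k' →+* P') (β : A →+* A') (φ' : P' →+* A')
    (hpo1 : IsPushout (CommRingCat.ofHom ι) (CommRingCat.ofHom κ) (CommRingCat.ofHom γ)
      (CommRingCat.ofHom κ'))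
    (hpo2 : IsPushout (CommRingCat.ofHom φ) (CommRingCat.ofHom γ) (CommRingCat.ofHom β)
      (CommRingCat.ofHom φ'))
    (hP : ι.Flat) (hA : (φ.comp ι).Flat) (hφ : Function.Surjective φ) (h : PCR φ) : PCR φ' := by
  have hφ' : Function.Surjective φ' :=
    prop_of_isPushout RingHom.surjective_isStableUnderBaseChange φ γ β φ' hpo2 hφ
  rw [pcr_iff_resPC_of_surjective φ hφ] at h
  rw [pcr_iff_resPC_of_surjective φ' hφ']
  have h' : IsPseudoCoherent' P ((restrictD φ).obj (Dual.inD A A)) := h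
  show IsPseudoCoherent' P' ((restrictD φ').obj (Dual.inD A' A'))
  obtain ⟨E, b, hEb, hEff, ⟨e⟩⟩ := h'
  haveI : E.IsKProjective :=
    isKProjective_of_projective_bounded E b hEb
      (fun j => by haveI := (hEff j).2; infer_instance)
  obtain ⟨q, hq⟩ := exists_Q_map_eq_of_isKProjective (E := E)
    (F := (restrictCx φ).obj (unitC A)) (e.hom ≫ (tdIso φ).hom)
  have hq' : IsIso (Q.map q) := by rw [hq]; infer_instance
  have hEk : TermwiseFlat ((restrictCx ι).obj E) := fun i =>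
    flat_restrict_of_flat ι hP (E.X i) (by haveI := (hEff i).2; exact Module.Flat.of_free)
  have hX₀b : VanishesAbove ((restrictCx φ).obj (unitC A)) 0 := fun i hi =>
    (ModuleCat.restrictScalars.{u} φ).map_isZero (vanishesAbove_unitC A i hi)
  haveI i1 := isIso_Q_map_ESc_hom ι κ γ κ' hpo1 q hq' b 0 hEb hX₀b hEk
    (termwiseFlat_restrict_unit ι φ hA)
  obtain ⟨p2⟩ := nonempty_pushoutCxIso_hom φ γ β φ' hpo2 (unitC A)
  letI : Algebra P P' := γ.toAlgebra
  refine ⟨(ESc γ).obj E, b,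
    fun i hi => (ModuleCat.extendScalars.{u, u, u} γ).map_isZero (hEb i hi),
    fun i => ⟨finite_ES (A := P) (B := P') (E.X i) (hEff i).1,
      free_ES (A := P) (B := P') (E.X i) (hEff i).2⟩, ⟨?_⟩⟩
  exact asIso (Q.map ((ESc γ).map q)) ≪≫ Q.mapIso p2 ≪≫
    Q.mapIso ((restrictCx φ').mapIso (extUnitIso β)) ≪≫ (tdIso φ').symm

end Surj

section General

/-- **base change of a pseudo-coherent ring map along `R → R ⊗_k k'`**, for `R` and `A` flat
over `k` -/
theorem pcr_torIndep_bc {k R A k' R' A' : CommRingCat.{u}} (ι : k ⟶ R) (α : R ⟶ A) (κ : k ⟶ k')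
    (γ : R ⟶ R') (κ' : k' ⟶ R') (β : A ⟶ A') (δ : R' ⟶ A')
    (hpo1 : IsPushout ι κ γ κ') (hpo2 : IsPushout α γ β δ)
    (hR : ι.hom.Flat) (hA : (ι ≫ α).hom.Flat) (h : PCR α.hom) : PCR δ.hom := by
  have h0 := h
  letI := α.hom.toAlgebra
  obtain ⟨n, φa, hφa, -⟩ := h0
  let C : R ⟶ CommRingCat.of (MvPolynomial (Fin n) R) := CommRingCat.ofHom MvPolynomial.C
  let φ : CommRingCat.of (MvPolynomial (Fin n) R) ⟶ A := CommRingCat.ofHom φa.toRingHom
  have hα : C ≫ φ = α := by
    ext r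
    exact φa.commutes r
  have hCpc : PCR C.hom := PCR.mvPolynomial_C n
  have hφpc : PCR φ.hom := by
    refine PCR.of_comp hCpc ?_
    have : φ.hom.comp C.hom = α.hom := by rw [← CommRingCat.hom_comp, hα]
    rw [this]
    exact h
  have hP' : IsPushout C γ (pushout.inl C γ) (pushout.inr C γ) := IsPushout.of_hasPushout _ _
  have hs : IsPushout (C ≫ φ) γ β δ := by rw [hα]; exact hpo2
  have SA := IsPushout.of_left' hs hP'
  have SP := hpo1.paste_horiz hP'
  set φ' := hP'.desc (φ ≫ β) δ (by rw [← Category.assoc, hs.w]) with hφ'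
  have hCflat : C.hom.Flat := by
    show (MvPolynomial.C : R →+* MvPolynomial (Fin n) R).Flat
    rw [← MvPolynomial.algebraMap_eq, RingHom.flat_algebraMap_iff]
    infer_instance
  have hflP : (ι ≫ C).hom.Flat := RingHom.Flat.comp hR hCflat
  have hflA : (φ.hom.comp (ι ≫ C).hom).Flat := by
    have : φ.hom.comp (ι ≫ C).hom = (ι ≫ α).hom := by
      rw [← hα, ← Category.assoc]
      rfl
    rw [this]
    exact hA
  have t1 : PCR φ'.hom :=
    pcr_torIndep_bc_surj (ι ≫ C).hom φ.hom κ.hom (pushout.inl C γ).hom (κ' ≫ pushout.inr C γ).hom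
      β.hom φ'.hom SP SA hflP hflA hφa hφpc
  have hCsm : C.hom.Smooth := by
    show (MvPolynomial.C : R →+* MvPolynomial (Fin n) R).Smooth
    rw [← MvPolynomial.algebraMap_eq, RingHom.smooth_algebraMap]
    exact ⟨inferInstance, inferInstance⟩
  have hC'sm : (pushout.inr C γ).hom.Smooth :=
    prop_of_isPushout RingHom.Smooth.isStableUnderBaseChange C.hom γ.hom (pushout.inl C γ).hom
      (pushout.inr C γ).hom hP' hCsm
  have t2 : PCR (pushout.inr C γ).hom := PCR.of_smooth _ hC'sm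
  have hδ : pushout.inr C γ ≫ φ' = δ := hP'.inr_desc _ _ _
  have t3 := PCR.comp t2 t1
  have : φ'.hom.comp (pushout.inr C γ).hom = δ.hom := by rw [← CommRingCat.hom_comp, hδ]
  rw [this] at t3
  exact t3

end General

section FibreProduct

/-- **pseudo-coherence of a fibre product of ring maps** -/
theorem pcr_fibreProduct {A B₁ C₁ B₂ C₂ B C : CommRingCat.{u}}
    (b₁ : A ⟶ B₁) (α₁ : B₁ ⟶ C₁) (b₂ : A ⟶ B₂) (α₂ : B₂ ⟶ C₂)
    (iB₁ : B₁ ⟶ B) (iB₂ : B₂ ⟶ B) (hB : IsPushout b₁ b₂ iB₁ iB₂)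
    (iC₁ : C₁ ⟶ C) (iC₂ : C₂ ⟶ C) (hC : IsPushout (b₁ ≫ α₁) (b₂ ≫ α₂) iC₁ iC₂)
    (φ : B ⟶ C) (hφ₁ : iB₁ ≫ φ = α₁ ≫ iC₁) (hφ₂ : iB₂ ≫ φ = α₂ ≫ iC₂)
    (hfl₂ : b₂.hom.Flat) (hfl₂' : (b₂ ≫ α₂).hom.Flat)
    (h₁ : PCR α₁.hom) (h₂ : PCR α₂.hom) : PCR φ.hom := by
  have hD : IsPushout b₁ (b₂ ≫ α₂) (pushout.inl b₁ (b₂ ≫ α₂)) (pushout.inr b₁ (b₂ ≫ α₂)) :=
    IsPushout.of_hasPushout _ _
  have S1 := IsPushout.of_left' hD.flip hB.flip
  have S2 := IsPushout.of_left' hC hD
  set ψ₁ := hB.flip.desc (α₂ ≫ pushout.inr b₁ (b₂ ≫ α₂)) (pushout.inl b₁ (b₂ ≫ α₂))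
    (by rw [← Category.assoc, hD.flip.w]) with hψ₁
  set ψ₂ := hD.desc (α₁ ≫ iC₁) iC₂ (by rw [← Category.assoc, hC.w]) with hψ₂
  have hψ : ψ₁ ≫ ψ₂ = φ := by
    apply hB.hom_ext
    · rw [hφ₁, ← Category.assoc]
      have : iB₁ ≫ ψ₁ = pushout.inl b₁ (b₂ ≫ α₂) := hB.flip.inr_desc _ _ _
      rw [this]
      exact hD.inl_desc _ _ _
    · rw [hφ₂, ← Category.assoc]
      have : iB₂ ≫ ψ₁ = α₂ ≫ pushout.inr b₁ (b₂ ≫ α₂) := hB.flip.inl_desc _ _ _
      rw [this, Category.assoc]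
      congr 1
      exact hD.inr_desc _ _ _
  have hflD : (pushout.inl b₁ (b₂ ≫ α₂)).hom.Flat :=
    RingHom.Flat.isStableUnderBaseChange.pushout_inl RingHom.Flat.respectsIso b₁ (b₂ ≫ α₂) hfl₂'
  have t1 : PCR ψ₁.hom :=
    pcr_torIndep_bc b₂ α₂ b₁ iB₂ iB₁ (pushout.inr b₁ (b₂ ≫ α₂)) ψ₁ hB.flip S1 hfl₂ hfl₂' h₂
  have t2 : PCR ψ₂.hom :=
    PCR.baseChange_of_flat α₁.hom (pushout.inl b₁ (b₂ ≫ α₂)).hom iC₁.hom ψ₂.hom S2 hflD h₁
  have t3 := PCR.comp t1 t2
  rw [← hψ]
  exact t3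

end FibreProduct

end

end Groth.Agent.Lib.FibProdTorH3
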