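import Mathlib
import Groth.Prelude
import Groth.Agent.Lib.FibProdPC1_helper3
import Groth.Agent.Lib.FibProdTor2_helper3
import Groth.Agent.Lib.RelPCn_helper3
import Groth.Agent.Lib.PCHom3_helper2

/-!
# Pseudo-coherence of a fibre product of morphisms (helper3; S6260)
-/

set_option autoImplicit false
set_option linter.all false
set_option maxHeartbeats 1600000
set_option backward.isDefEq.respectTransparency false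
set_option backward.isDefEq.respectTransparency.types false
set_option backward.defeqAttrib.useBackward true

universe u
open CategoryTheory CategoryTheory.Limits AlgebraicGeometry Opposite TopologicalSpace

attribute [local instance] HasDerivedCategory.standard

namespace Groth.Agent.Lib.FibProdTorH3

open Groth.Agent.Lib.PCHom Groth.Agent.Lib.RelPCbH3 DerSch

noncomputable section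

/-- pseudo-coherence of `f₁ ×_S f₂`, in the affine-local form -/
theorem isPseudoCoherentMor_fibreProduct {S X₁ Y₁ X₂ Y₂ X Y : Scheme.{u}} (f₁ : X₁ ⟶ Y₁)
    (q₁ : Y₁ ⟶ S) (f₂ : X₂ ⟶ Y₂) (q₂ : Y₂ ⟶ S) [Flat q₂] [Flat (f₂ ≫ q₂)]
    (pX₁ : X ⟶ X₁) (pX₂ : X ⟶ X₂) (hX : IsPullback pX₁ pX₂ (f₁ ≫ q₁) (f₂ ≫ q₂))
    (pY₁ : Y ⟶ Y₁) (pY₂ : Y ⟶ Y₂) (hY : IsPullback pY₁ pY₂ q₁ q₂)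
    (f : X ⟶ Y) (hf₁ : f ≫ pY₁ = pX₁ ≫ f₁) (hf₂ : f ≫ pY₂ = pX₂ ≫ f₂)
    (p₁ : MoreMor.IsPseudoCoherentMor f₁) (p₂ : MoreMor.IsPseudoCoherentMor f₂) :
    MoreMor.IsPseudoCoherentMor f := by
  rw [main7166]
  intro x
  obtain ⟨T₀, hT₀, hsT₀, -⟩ := Opens.isBasis_iff_nbhd.mp S.isBasis_affineOpens
    (show q₁.base (f₁.base (pX₁.base x)) ∈ (⊤ : S.Opens) from trivial)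
  obtain ⟨V₁, hV₁, hyV₁, hV₁T⟩ := Opens.isBasis_iff_nbhd.mp Y₁.isBasis_affineOpens
    (show f₁.base (pX₁.base x) ∈ q₁ ⁻¹ᵁ T₀ from hsT₀)
  obtain ⟨U₁, hU₁, hxU₁, hU₁V⟩ := Opens.isBasis_iff_nbhd.mp X₁.isBasis_affineOpens
    (show pX₁.base x ∈ f₁ ⁻¹ᵁ V₁ from hyV₁)
  have hs2 : q₂.base (f₂.base (pX₂.base x)) ∈ T₀ := by
    have hw := congrArg (fun k => k.base x) hX.w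
    have hw' : q₁.base (f₁.base (pX₁.base x)) = q₂.base (f₂.base (pX₂.base x)) := hw
    rw [← hw']
    exact hsT₀
  obtain ⟨V₂, hV₂, hyV₂, hV₂T⟩ := Opens.isBasis_iff_nbhd.mp Y₂.isBasis_affineOpens
    (show f₂.base (pX₂.base x) ∈ q₂ ⁻¹ᵁ T₀ from hs2)
  obtain ⟨U₂, hU₂, hxU₂, hU₂V⟩ := Opens.isBasis_iff_nbhd.mp X₂.isBasis_affineOpens
    (show pX₂.base x ∈ f₂ ⁻¹ᵁ V₂ from hyV₂)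
  have hU₁T : U₁ ≤ (f₁ ≫ q₁) ⁻¹ᵁ T₀ := fun z hz => hV₁T (hU₁V hz)
  have hU₂T : U₂ ≤ (f₂ ≫ q₂) ⁻¹ᵁ T₀ := fun z hz => hV₂T (hU₂V hz)
  have hWX : IsAffineOpen (pX₁ ⁻¹ᵁ U₁ ⊓ pX₂ ⁻¹ᵁ U₂) :=
    isAffineOpen_inf hX hU₂T hU₁T hT₀ hU₂ hU₁
  have hWY : IsAffineOpen (pY₁ ⁻¹ᵁ V₁ ⊓ pY₂ ⁻¹ᵁ V₂) :=
    isAffineOpen_inf hY hV₂T hV₁T hT₀ hV₂ hV₁
  have hWXY : pX₁ ⁻¹ᵁ U₁ ⊓ pX₂ ⁻¹ᵁ U₂ ≤ f ⁻¹ᵁ (pY₁ ⁻¹ᵁ V₁ ⊓ pY₂ ⁻¹ᵁ V₂) := by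
    rintro z ⟨hz1, hz2⟩
    refine ⟨?_, ?_⟩
    · show pY₁.base (f.base z) ∈ V₁
      have hw : pY₁.base (f.base z) = f₁.base (pX₁.base z) := congrArg (fun k => k.base z) hf₁
      rw [hw]
      exact hU₁V hz1
    · show pY₂.base (f.base z) ∈ V₂
      have hw : pY₂.base (f.base z) = f₂.base (pX₂.base z) := congrArg (fun k => k.base z) hf₂
      rw [hw]
      exact hU₂V hz2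
  have hxW : x ∈ pX₁ ⁻¹ᵁ U₁ ⊓ pX₂ ⁻¹ᵁ U₂ := ⟨hxU₁, hxU₂⟩
  have poC := isPushout_inf hX hU₂T hU₁T hT₀ hU₂ hU₁
  have poB := isPushout_inf hY hV₂T hV₁T hT₀ hV₂ hV₁
  have e1 : (f₁ ≫ q₁).appLE T₀ U₁ hU₁T = q₁.appLE T₀ V₁ hV₁T ≫ f₁.appLE V₁ U₁ hU₁V :=
    (Scheme.Hom.appLE_comp_appLE f₁ q₁ T₀ V₁ U₁ hV₁T hU₁V).symm
  have e2 : (f₂ ≫ q₂).appLE T₀ U₂ hU₂T = q₂.appLE T₀ V₂ hV₂T ≫ f₂.appLE V₂ U₂ hU₂V :=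
    (Scheme.Hom.appLE_comp_appLE f₂ q₂ T₀ V₂ U₂ hV₂T hU₂V).symm
  have hfl' : ((f₂ ≫ q₂).appLE T₀ U₂ hU₂T).hom.Flat := (f₂ ≫ q₂).flat_appLE hT₀ hU₂ hU₂T
  rw [e1, e2] at poC
  rw [e2] at hfl'
  have t₁ : PCR (f₁.appLE V₁ U₁ hU₁V).hom := p₁ U₁ V₁ hU₁ hV₁ hU₁V
  have t₂ : PCR (f₂.appLE V₂ U₂ hU₂V).hom := p₂ U₂ V₂ hU₂ hV₂ hU₂V
  have hφ₁ : pY₁.appLE V₁ (pY₁ ⁻¹ᵁ V₁ ⊓ pY₂ ⁻¹ᵁ V₂) inf_le_left ≫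
      f.appLE (pY₁ ⁻¹ᵁ V₁ ⊓ pY₂ ⁻¹ᵁ V₂) (pX₁ ⁻¹ᵁ U₁ ⊓ pX₂ ⁻¹ᵁ U₂) hWXY =
      f₁.appLE V₁ U₁ hU₁V ≫ pX₁.appLE U₁ (pX₁ ⁻¹ᵁ U₁ ⊓ pX₂ ⁻¹ᵁ U₂) inf_le_left := by
    rw [Scheme.Hom.appLE_comp_appLE, Scheme.Hom.appLE_comp_appLE]
    exact appLE_congr hf₁ _ _ _ _
  have hφ₂ : pY₂.appLE V₂ (pY₁ ⁻¹ᵁ V₁ ⊓ pY₂ ⁻¹ᵁ V₂) inf_le_right ≫
      f.appLE (pY₁ ⁻¹ᵁ V₁ ⊓ pY₂ ⁻¹ᵁ V₂) (pX₁ ⁻¹ᵁ U₁ ⊓ pX₂ ⁻¹ᵁ U₂) hWXY =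
      f₂.appLE V₂ U₂ hU₂V ≫ pX₂.appLE U₂ (pX₁ ⁻¹ᵁ U₁ ⊓ pX₂ ⁻¹ᵁ U₂) inf_le_right := by
    rw [Scheme.Hom.appLE_comp_appLE, Scheme.Hom.appLE_comp_appLE]
    exact appLE_congr hf₂ _ _ _ _
  have key := pcr_fibreProduct (q₁.appLE T₀ V₁ hV₁T) (f₁.appLE V₁ U₁ hU₁V) (q₂.appLE T₀ V₂ hV₂T)
    (f₂.appLE V₂ U₂ hU₂V) _ _ poB _ _ poC
    (f.appLE (pY₁ ⁻¹ᵁ V₁ ⊓ pY₂ ⁻¹ᵁ V₂) (pX₁ ⁻¹ᵁ U₁ ⊓ pX₂ ⁻¹ᵁ U₂) hWXY) hφ₁ hφ₂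
    (q₂.flat_appLE hT₀ hV₂ hV₂T) hfl' t₁ t₂
  exact ⟨_, _, hWXY, hWX, hWY, hxW, key⟩

/-- **S6260** -/
theorem main6260 {S X₁ Y₁ X₂ Y₂ X Y : Scheme.{u}} (f₁ : X₁ ⟶ Y₁) (q₁ : Y₁ ⟶ S)
    (f₂ : X₂ ⟶ Y₂) (q₂ : Y₂ ⟶ S) [Flat q₂] [Flat (f₂ ≫ q₂)]
    (pX₁ : X ⟶ X₁) (pX₂ : X ⟶ X₂) (hX : IsPullback pX₁ pX₂ (f₁ ≫ q₁) (f₂ ≫ q₂))
    (pY₁ : Y ⟶ Y₁) (pY₂ : Y ⟶ Y₂) (hY : IsPullback pY₁ pY₂ q₁ q₂)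
    (f : X ⟶ Y) (hf₁ : f ≫ pY₁ = pX₁ ≫ f₁) (hf₂ : f ≫ pY₂ = pX₂ ≫ f₂)
    [LocallyOfFiniteType f₁] [LocallyOfFiniteType f₂]
    (h₁ : ∀ n : ℤ, DerSch.IsNPseudoCoherent f₁ n) (h₂ : ∀ n : ℤ, DerSch.IsNPseudoCoherent f₂ n)
    (n : ℤ) : DerSch.IsNPseudoCoherent f n := by
  have p := isPseudoCoherentMor_fibreProduct f₁ q₁ f₂ q₂ pX₁ pX₂ hX pY₁ pY₂ hY f hf₁ hf₂
    ((isNPseudoCoherent_iff_pcMor f₁).1 h₁) ((isNPseudoCoherent_iff_pcMor f₂).1 h₂)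
  haveI : LocallyOfFinitePresentation f := main7168 f p
  haveI : LocallyOfFiniteType f := inferInstance
  exact (isNPseudoCoherent_iff_pcMor f).2 p n

end

end Groth.Agent.Lib.FibProdTorH3
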