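import Mathlib
import Groth.Agent.Lib.FibProjDim4_helper5
import Groth.Agent.Lib.FibSk6_helper5
import Groth.Agent.S0386
import Groth.Agent.Lib.FibCons3_helper8

/-!
# Codepth of fibre modules, part 6: the local rings of the fibres (helper5)

* `isOpen_flat_fibCodepth`: EGA IV 12.1.1 (v) for `F = O_X` (without assuming `f` flat).
* `isLocallyConstructible_fibCodepth_eq`: the set of points where the fibre has codepth exactly `n`
  is locally constructible (EGA IV 9.9.2/9.9.3).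

APPEND-ONLY once landed.
-/

set_option autoImplicit false

namespace Groth.Agent.Lib.FibPdH5

open AlgebraicGeometry CategoryTheory TopologicalSpace TensorProduct
open Groth.Agent.Lib.FibSkH5

universe u

section RingCodepth

/-- the codepth condition `dim R ≤ depth R + n` on a local ring -/
def RingCodepthLE (n : ℕ) (R : Type u) [CommRing R] [IsLocalRing R] : Prop :=
  ringKrullDim R ≤ ((LocCoh.depth R R : ℕ∞) : WithBot ℕ∞) + n

theorem ringCodepthLE_of_ringEquiv {R R' : Type u} [CommRing R] [CommRing R'] [IsLocalRing R]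
    [IsLocalRing R'] (σ : R ≃+* R') (n : ℕ) (h : RingCodepthLE n R) : RingCodepthLE n R' := by
  unfold RingCodepthLE at h ⊢
  have h1 : ringKrullDim R' = ringKrullDim R := (ringKrullDim_eq_of_ringEquiv σ).symm
  have h2 : LocCoh.depth R R ≤ LocCoh.depth R' R' :=
    Groth.Agent.Lib.SemiSk_helper6.depth_le σ σ.toAddEquiv (fun r m => map_mul σ r m)
  rw [h1]
  refine h.trans ?_
  gcongr
  exact WithBot.coe_le_coe.mpr h2

theorem ringCodepthLE_congr {R R' : Type u} [CommRing R] [CommRing R'] [IsLocalRing R]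
    [IsLocalRing R'] (σ : R ≃+* R') (n : ℕ) : RingCodepthLE n R ↔ RingCodepthLE n R' :=
  ⟨ringCodepthLE_of_ringEquiv σ n, ringCodepthLE_of_ringEquiv σ.symm n⟩

variable (A : Type u) {B : Type u} [CommRing A] [CommRing B] [Algebra A B]

/-- for `M = B` the codepth condition on the fibre module is the codepth condition on the fibre
ring -/
theorem codepthLE_self_iff (n : ℕ) (q : PrimeSpectrum B) :
    CodepthLE A B n q ↔ RingCodepthLE n (Fib A q.asIdeal) := by
  let e : FibModQ A q.asIdeal B ≃ₗ[Fib A q.asIdeal] Fib A q.asIdeal :=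
    (fibMEquiv' A q.asIdeal B).symm ≪≫ₗ
      TensorProduct.AlgebraTensorModule.rid B (Fib A q.asIdeal) (Fib A q.asIdeal)
  unfold CodepthLE RingCodepthLE
  rw [Module.supportDim_eq_of_equiv e, Module.supportDim_self_eq_ringKrullDim]
  unfold LocCoh.depth
  rw [Groth.Agent.DepthLib.idealDepth_congr _ _ e]

end RingCodepth

section Scheme

open Limits Topology
open Groth.Agent.FibMapFlat Groth.Agent.FibNoeth Groth.Agent.CMLocusBC
  Groth.Agent.Lib.FibConsH8

/-- the local ring of the fibre through `x` at `x` has codepth `≤ n` -/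
def FibCodepth (n : ℕ) {X S : Scheme.{u}} (f : X ⟶ S) (x : X) : Prop :=
  RingCodepthLE n ((f.fiber (f.base x)).presheaf.stalk (f.asFiber x))

/-- **EGA IV 12.1.1 (v) for `F = O_X`, flat case.** -/
theorem fibCodepth_isOpen (n : ℕ) {X Y : Scheme.{u}} (f : X ⟶ Y) [Flat f]
    [LocallyOfFinitePresentation f] : IsOpen {x : X | FibCodepth n f x} := by
  classical
  rw [isOpen_iff_forall_mem_open]
  intro x hx
  obtain ⟨V, hV, hyV, -⟩ := Opens.isBasis_iff_nbhd.mp Y.isBasis_affineOpens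
    (show f.base x ∈ (⊤ : Y.Opens) from trivial)
  obtain ⟨U, hU, hxU, e⟩ := Opens.isBasis_iff_nbhd.mp X.isBasis_affineOpens
    (show x ∈ f ⁻¹ᵁ V from hyV)
  letI algAB : Algebra Γ(Y, V) Γ(X, U) := (f.appLE V U e).hom.toAlgebra
  haveI : Algebra.FinitePresentation Γ(Y, V) Γ(X, U) :=
    HasRingHomProperty.appLE (P := @LocallyOfFinitePresentation) f inferInstance ⟨V, hV⟩ ⟨U, hU⟩ e
  haveI : Module.Flat Γ(Y, V) Γ(X, U) :=
    HasRingHomProperty.appLE (P := @Flat) f inferInstance ⟨V, hV⟩ ⟨U, hU⟩ e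
  have hmemU : ∀ 𝔭 : PrimeSpectrum Γ(X, U), (hU.fromSpec 𝔭 : X) ∈ U := by
    intro 𝔭
    have : (hU.fromSpec 𝔭 : X) ∈ hU.fromSpec.opensRange := ⟨𝔭, rfl⟩
    rwa [hU.opensRange_fromSpec] at this
  have hprime : ∀ 𝔭 : PrimeSpectrum Γ(X, U),
      hU.primeIdealOf ⟨hU.fromSpec 𝔭, hmemU 𝔭⟩ = 𝔭 := by
    intro 𝔭
    apply hU.fromSpec.isOpenEmbedding.injective
    rw [hU.fromSpec_primeIdealOf]
  have key' : ∀ 𝔭 : PrimeSpectrum Γ(X, U),
      Nonempty (Fib Γ(Y, V) 𝔭.asIdeal ≃+*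
        (f.fiber (f (hU.fromSpec 𝔭))).presheaf.stalk (f.asFiber (hU.fromSpec 𝔭))) := by
    intro 𝔭
    have := nonempty_fib_ringEquiv f hV hU e (hmemU 𝔭)
    rwa [hprime] at this
  have hiff : ∀ 𝔭 : PrimeSpectrum Γ(X, U),
      CodepthLE Γ(Y, V) Γ(X, U) n 𝔭 ↔ FibCodepth n f (hU.fromSpec 𝔭) := by
    intro 𝔭
    obtain ⟨σ⟩ := key' 𝔭
    rw [codepthLE_self_iff]
    exact ringCodepthLE_congr σ n
  have hopen := isOpen_codepthLE (A := Γ(Y, V)) (B := Γ(X, U)) Γ(X, U) n
  refine ⟨(fun 𝔭 : PrimeSpectrum Γ(X, U) => (hU.fromSpec 𝔭 : X)) ''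
    {q : PrimeSpectrum Γ(X, U) | CodepthLE Γ(Y, V) Γ(X, U) n q}, ?_,
    hU.fromSpec.isOpenEmbedding.isOpenMap _ hopen, ?_⟩
  · rintro _ ⟨𝔭, h𝔭, rfl⟩
    exact (hiff 𝔭).mp h𝔭
  · refine ⟨hU.primeIdealOf ⟨x, hxU⟩, ?_, hU.fromSpec_primeIdealOf ⟨x, hxU⟩⟩
    rw [Set.mem_ofPred_eq, hiff]
    have hxx : (hU.fromSpec (hU.primeIdealOf ⟨x, hxU⟩) : X) = x :=
      hU.fromSpec_primeIdealOf ⟨x, hxU⟩
    rw [hxx]
    exact hx

theorem fibCodepth_loc (n : ℕ) {X S U : Scheme.{u}} (f : X ⟶ S) [LocallyOfFiniteType f]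
    (j : U ⟶ X) [IsOpenImmersion j] (u : U) : FibCodepth n (j ≫ f) u ↔ FibCodepth n f (j u) := by
  haveI : IsOpenImmersion (fibComp f j ((j ≫ f) u)) :=
    MorphismProperty.of_isPullback (P := @IsOpenImmersion)
      (isPullback_fibComp f j ((j ≫ f) u)).flip inferInstance
  have hpt : (f.fiberι ((j ≫ f) u)) (fibComp f j ((j ≫ f) u) ((j ≫ f).asFiber u)) = j u := by
    rw [← Scheme.Hom.comp_apply, fibComp_fiberι, Scheme.Hom.comp_apply,
      Scheme.Hom.fiberι_asFiber]
  obtain ⟨e⟩ := fiberStalk_transport_equiv f ((j ≫ f) u)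
    (fibComp f j ((j ≫ f) u) ((j ≫ f).asFiber u)) (j u) hpt
  let σ : (f.fiber ((j ≫ f) u)).presheaf.stalk
        (fibComp f j ((j ≫ f) u) ((j ≫ f).asFiber u)) ≃+*
      ((j ≫ f).fiber ((j ≫ f) u)).presheaf.stalk ((j ≫ f).asFiber u) :=
    (asIso ((fibComp f j ((j ≫ f) u)).stalkMap ((j ≫ f).asFiber u))).commRingCatIsoToRingEquiv
  unfold FibCodepth
  exact ringCodepthLE_congr (σ.symm.trans e.symm) n

/-- **EGA IV 12.1.1 (v) for `F = O_X`**: the set of points where `f` is flat and the fibre has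
codepth `≤ n` is open. -/
theorem isOpen_flat_fibCodepth {X Y : Scheme.{u}} (f : X ⟶ Y) [LocallyOfFinitePresentation f]
    (n : ℕ) : IsOpen {x : X | (f.stalkMap x).hom.Flat ∧ FibCodepth n f x} := by
  have hopen := Groth.Agent.S0386.result f
  let U : X.Opens := ⟨{x : X | (f.stalkMap x).hom.Flat}, hopen⟩
  haveI : Flat (U.ι ≫ f) := by
    apply Flat.of_stalkMap
    intro u
    rw [Scheme.Hom.stalkMap_comp]
    have h1 : (f.stalkMap (U.ι u)).hom.Flat := u.2
    exact RingHom.Flat.comp h1 (Flat.stalkMap U.ι u)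
  have h2 := fibCodepth_isOpen n (U.ι ≫ f)
  have hset : {x : X | (f.stalkMap x).hom.Flat ∧ FibCodepth n f x} =
      U.ι '' {u : (U : Scheme.{u}) | FibCodepth n (U.ι ≫ f) u} := by
    ext x
    constructor
    · rintro ⟨hfl, hsk⟩
      exact ⟨⟨x, hfl⟩, (fibCodepth_loc n f U.ι ⟨x, hfl⟩).2 hsk, rfl⟩
    · rintro ⟨u, hu, rfl⟩
      exact ⟨u.2, (fibCodepth_loc n f U.ι u).1 hu⟩
  rw [hset]
  exact U.ι.isOpenEmbedding.isOpenMap _ h2

end Scheme

section BC

open Limits Topology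
open Groth.Agent.FibMapFlat Groth.Agent.FibNoeth Groth.Agent.CMLocusBC
  Groth.Agent.Lib.FibConsH8 Groth.Agent.FlatCM

/-- arithmetic: cancelling a finite summand in the codepth inequality -/
theorem codepth_arith (a : ℕ) (b : ℕ∞) (k n : ℕ) :
    (a : WithBot ℕ∞) + (k : WithBot ℕ∞) ≤ ((b + k : ℕ∞) : WithBot ℕ∞) + n ↔
      (a : WithBot ℕ∞) ≤ ((b : ℕ∞) : WithBot ℕ∞) + n := by
  induction b with
  | top =>
    have h1 : (((⊤ : ℕ∞) + (k : ℕ∞) : ℕ∞) : WithBot ℕ∞) + (n : WithBot ℕ∞) =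
        ((⊤ : ℕ∞) : WithBot ℕ∞) := by
      rw [top_add]
      rfl
    have h2 : ((⊤ : ℕ∞) : WithBot ℕ∞) + (n : WithBot ℕ∞) = ((⊤ : ℕ∞) : WithBot ℕ∞) := rfl
    have h3 : (a : WithBot ℕ∞) + (k : WithBot ℕ∞) = (((a + k : ℕ) : ℕ∞) : WithBot ℕ∞) := by
      push_cast
      rfl
    have h4 : (a : WithBot ℕ∞) = (((a : ℕ) : ℕ∞) : WithBot ℕ∞) := rfl
    rw [h1, h2, h3, h4]
    exact ⟨fun _ => WithBot.coe_le_coe.mpr le_top, fun _ => WithBot.coe_le_coe.mpr le_top⟩
  | coe b =>
    have h1 : (a : WithBot ℕ∞) + (k : WithBot ℕ∞) ≤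
        (((b : ℕ∞) + (k : ℕ∞) : ℕ∞) : WithBot ℕ∞) + (n : WithBot ℕ∞) ↔ a + k ≤ b + k + n := by
      norm_cast
    have h2 : (a : WithBot ℕ∞) ≤ ((b : ℕ∞) : WithBot ℕ∞) + (n : WithBot ℕ∞) ↔
        a ≤ b + n := by
      norm_cast
    rw [h1, h2]
    omega

end BC

section BC2

open Limits Topology
open Groth.Agent.FibMapFlat Groth.Agent.FibNoeth Groth.Agent.CMLocusBC
  Groth.Agent.Lib.FibConsH8 Groth.Agent.FlatCM

/-- ring level: codepth is preserved along a flat map at a prime with CM fibre local ring -/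
theorem ringCodepthLE_localization_iff (R S : Type u) [CommRing R] [CommRing S] [Algebra R S]
    [IsNoetherianRing R] [IsNoetherianRing S] [Module.Flat R S] (Q : Ideal S) [Q.IsPrime]
    (hfib : LocCoh.IsCohenMacaulayLocalRing (EGA4.FibLocRing R S Q)) (n : ℕ) :
    RingCodepthLE n (Localization.AtPrime Q) ↔
      RingCodepthLE n (Localization.AtPrime (Q.comap (algebraMap R S))) := by
  obtain ⟨hd, hdim⟩ := depth_dim_localization_eq_add R S Q
  haveI := isNoetherianRing_fibLocRing R S Q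
  have hF := (isCMLocalRing_iff _).1 hfib
  haveI : IsNoetherianRing (Localization.AtPrime (Q.comap (algebraMap R S))) :=
    IsLocalization.isNoetherianRing (Q.comap (algebraMap R S)).primeCompl _ inferInstance
  obtain ⟨a, ha⟩ := exists_nat_ringKrullDim (Localization.AtPrime (Q.comap (algebraMap R S)))
  obtain ⟨k, hk⟩ := exists_nat_ringKrullDim (EGA4.FibLocRing R S Q)
  have hk' : LocCoh.depth (EGA4.FibLocRing R S Q) (EGA4.FibLocRing R S Q) = (k : ℕ∞) := by
    rw [hk] at hF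
    have : ((k : ℕ∞) : WithBot ℕ∞) =
        ((LocCoh.depth (EGA4.FibLocRing R S Q) (EGA4.FibLocRing R S Q) : ℕ∞) : WithBot ℕ∞) := by
      rw [← hF]; rfl
    exact (WithBot.coe_injective this).symm
  unfold RingCodepthLE
  rw [hdim, hd, ha, hk, hk']
  exact codepth_arith a _ k n

/-- For a flat morphism `φ : W' ⟶ W` of locally Noetherian schemes all of whose fibre local rings
are Cohen–Macaulay, `O_{W',w'}` and `O_{W,φ w'}` have the same codepth. -/
theorem ringCodepthLE_stalk_iff_of_flat {W' W : Scheme.{u}} (φ : W' ⟶ W) [Flat φ]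
    [IsLocallyNoetherian W'] [IsLocallyNoetherian W]
    (hfib : ∀ w' : W', LocCoh.IsCohenMacaulayLocalRing
      ((φ.fiber (φ w')).presheaf.stalk (φ.asFiber w')))
    (n : ℕ) (w' : W') :
    RingCodepthLE n (W'.presheaf.stalk w') ↔ RingCodepthLE n (W.presheaf.stalk (φ w')) := by
  classical
  obtain ⟨V, hV, hyV, -⟩ := Opens.isBasis_iff_nbhd.mp W.isBasis_affineOpens
    (show φ w' ∈ (⊤ : W.Opens) from trivial)
  obtain ⟨U, hU, hxU, e⟩ := Opens.isBasis_iff_nbhd.mp W'.isBasis_affineOpens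
    (show w' ∈ φ ⁻¹ᵁ V from hyV)
  letI algAB : Algebra Γ(W, V) Γ(W', U) := (φ.appLE V U e).hom.toAlgebra
  haveI : Module.Flat Γ(W, V) Γ(W', U) :=
    HasRingHomProperty.appLE (P := @Flat) φ inferInstance ⟨V, hV⟩ ⟨U, hU⟩ e
  haveI : IsNoetherianRing Γ(W, V) := IsLocallyNoetherian.component_noetherian ⟨V, hV⟩
  haveI : IsNoetherianRing Γ(W', U) := IsLocallyNoetherian.component_noetherian ⟨U, hU⟩
  obtain ⟨σ⟩ := nonempty_fib_ringEquiv φ hV hU e hxU
  have hfibR : LocCoh.IsCohenMacaulayLocalRing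
      (EGA4.FibLocRing Γ(W, V) Γ(W', U) (hU.primeIdealOf ⟨w', hxU⟩).asIdeal) := by
    haveI := hfib w'
    exact Groth.Agent.FlatCM.isCMLocalRing_of_ringEquiv σ.symm
  have main := ringCodepthLE_localization_iff Γ(W, V) Γ(W', U)
    (hU.primeIdealOf ⟨w', hxU⟩).asIdeal hfibR n
  have hcomap : (hU.primeIdealOf ⟨w', hxU⟩).asIdeal.comap (algebraMap Γ(W, V) Γ(W', U)) =
      (hV.primeIdealOf ⟨φ w', e hxU⟩).asIdeal := primeIdealOf_comap φ hV hU e hxU
  letI aX : Algebra Γ(W', U) (W'.presheaf.stalk w') :=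
    TopCat.Presheaf.algebra_section_stalk W'.presheaf (⟨w', hxU⟩ : U)
  letI aY : Algebra Γ(W, V) (W.presheaf.stalk (φ w')) :=
    TopCat.Presheaf.algebra_section_stalk W.presheaf (⟨φ w', e hxU⟩ : V)
  haveI : IsLocalization.AtPrime (W'.presheaf.stalk w') (hU.primeIdealOf ⟨w', hxU⟩).asIdeal :=
    hU.isLocalization_stalk ⟨w', hxU⟩
  haveI : IsLocalization.AtPrime (W.presheaf.stalk (φ w'))
      (hV.primeIdealOf ⟨φ w', e hxU⟩).asIdeal := hV.isLocalization_stalk ⟨φ w', e hxU⟩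
  let σ₁ : Localization.AtPrime (hU.primeIdealOf ⟨w', hxU⟩).asIdeal ≃+* W'.presheaf.stalk w' :=
    (IsLocalization.algEquiv (hU.primeIdealOf ⟨w', hxU⟩).asIdeal.primeCompl _ _).toRingEquiv
  let σ₂ : Localization.AtPrime (hV.primeIdealOf ⟨φ w', e hxU⟩).asIdeal ≃+*
      W.presheaf.stalk (φ w') :=
    (IsLocalization.algEquiv (hV.primeIdealOf ⟨φ w', e hxU⟩).asIdeal.primeCompl _ _).toRingEquiv
  rw [← ringCodepthLE_congr σ₁ n, ← ringCodepthLE_congr σ₂ n, main]
  have tr : ∀ (r r' : Ideal Γ(W, V)) [r.IsPrime] [r'.IsPrime], r = r' →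
      (RingCodepthLE n (Localization.AtPrime r) ↔ RingCodepthLE n (Localization.AtPrime r')) := by
    intro r r' _ _ h
    subst h
    exact Iff.rfl
  exact tr _ _ hcomap

theorem fibCodepth_bc (n : ℕ) {X Y X' Y' : Scheme.{u}} (f : X ⟶ Y) [LocallyOfFiniteType f]
    (f' : X' ⟶ Y') (g' : X' ⟶ X) (g : Y' ⟶ Y) (hc : IsPullback g' f' f g) (x' : X') :
    FibCodepth n f' x' ↔ FibCodepth n f (g' x') := by
  haveI hflφ : Flat (Groth.Agent.FibMapFlat.fibMap hc (f' x')) := flat_fibMap hc (f' x')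
  have hpt : (f.fiberι (g (f' x'))) (Groth.Agent.FibMapFlat.fibMap hc (f' x') (f'.asFiber x')) = g' x' := by
    rw [fiberι_fibMap_apply, Scheme.Hom.fiberι_asFiber]
  obtain ⟨e⟩ := fiberStalk_transport_equiv f (g (f' x')) (Groth.Agent.FibMapFlat.fibMap hc (f' x') (f'.asFiber x'))
    (g' x') hpt
  haveI : IsLocallyNoetherian (f.fiber (g (f' x'))) := isLocallyNoetherian_fiber f _
  haveI : LocallyOfFiniteType f' :=
    MorphismProperty.of_isPullback (P := @LocallyOfFiniteType) hc inferInstance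
  haveI : IsLocallyNoetherian (f'.fiber (f' x')) := isLocallyNoetherian_fiber f' (f' x')
  have key := ringCodepthLE_stalk_iff_of_flat (Groth.Agent.FibMapFlat.fibMap hc (f' x'))
    (fun w' => isCM_stalk_fiber_fibMap' hc (f' x') (Groth.Agent.FibMapFlat.fibMap hc (f' x') w')
      ((Groth.Agent.FibMapFlat.fibMap hc (f' x')).asFiber w')) n (f'.asFiber x')
  unfold FibCodepth
  rw [key]
  exact ringCodepthLE_congr e.symm n

theorem isFibrewise_fibCodepth (n : ℕ) :
    IsFibrewise.{u} (fun {X S} f x => FibCodepth n f x) where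
  bc f _ f' g' g hc x' := fibCodepth_bc n f f' g' g hc x'
  loc f _ j _ u := fibCodepth_loc n f j u
  isOpen f _ _ := fibCodepth_isOpen n f

/-- the fibrewise codepth `≤ n` locus of a morphism locally of finite presentation is locally
constructible -/
theorem isLocallyConstructible_fibCodepth {X S : Scheme.{u}} (f : X ⟶ S)
    [LocallyOfFinitePresentation f] (n : ℕ) :
    Topology.IsLocallyConstructible {x : X | FibCodepth n f x} :=
  isLocallyConstructible (isFibrewise_fibCodepth n) f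

end BC2

section Eq

open Limits Topology
open Groth.Agent.FibMapFlat Groth.Agent.FibNoeth Groth.Agent.CMLocusBC
  Groth.Agent.Lib.FibConsH8 Groth.Agent.FlatCM

/-- over a Noetherian local ring: `dim R = depth R + n` in terms of the conditions
`dim R ≤ depth R + m` -/
theorem ringCodepth_eq_iff (R : Type u) [CommRing R] [IsLocalRing R] [IsNoetherianRing R] (n : ℕ) :
    ringKrullDim R = ((LocCoh.depth R R : ℕ∞) : WithBot ℕ∞) + n ↔
      RingCodepthLE n R ∧ ∀ m : ℕ, m < n → ¬ RingCodepthLE m R := by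
  obtain ⟨a, ha⟩ := exists_nat_ringKrullDim R
  have hle := Groth.Agent.DepthLib.depth_le_supportDim R R
  rw [Module.supportDim_self_eq_ringKrullDim, ha] at hle
  have hfin : LocCoh.depth R R ≠ ⊤ := by
    intro h
    rw [h] at hle
    have h' : ((⊤ : ℕ∞) : WithBot ℕ∞) ≤ (((a : ℕ) : ℕ∞) : WithBot ℕ∞) := hle
    exact absurd (WithBot.coe_le_coe.mp h') (by simp)
  obtain ⟨b, hb⟩ := ENat.ne_top_iff_exists.mp hfin
  unfold RingCodepthLE
  rw [ha, ← hb]
  rw [← hb] at hle
  have hba : b ≤ a := by exact_mod_cast hle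
  have h1 : ((a : ℕ) : WithBot ℕ∞) = (((b : ℕ) : ℕ∞) : WithBot ℕ∞) + (n : WithBot ℕ∞) ↔
      a = b + n := by
    norm_cast
  have h2 : ∀ m : ℕ, ((a : ℕ) : WithBot ℕ∞) ≤ (((b : ℕ) : ℕ∞) : WithBot ℕ∞) + (m : WithBot ℕ∞) ↔
      a ≤ b + m := by
    intro m
    norm_cast
  rw [h1, h2]
  simp only [h2]
  constructor
  · intro h
    exact ⟨by omega, fun m hm => by omega⟩
  · rintro ⟨h3, h4⟩
    by_contra hne
    have hlt : a < b + n := by omega
    have hn : 0 < n := by omega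
    exact h4 (n - 1) (by omega) (by omega)

/-- **EGA IV 9.9.2 (viii)/12.1.1**: the set of points where the fibre has codepth exactly `n` is
locally constructible. -/
theorem isLocallyConstructible_fibCodepth_eq {X S : Scheme.{u}} (f : X ⟶ S)
    [LocallyOfFinitePresentation f] (n : ℕ) :
    Topology.IsLocallyConstructible {x : X |
      ringKrullDim ((f.fiber (f.base x)).presheaf.stalk (f.asFiber x)) =
        ((LocCoh.depth ((f.fiber (f.base x)).presheaf.stalk (f.asFiber x))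
          ((f.fiber (f.base x)).presheaf.stalk (f.asFiber x)) : ℕ∞) : WithBot ℕ∞) + n} := by
  have hN : ∀ x : X, IsNoetherianRing ((f.fiber (f.base x)).presheaf.stalk (f.asFiber x)) := by
    intro x
    haveI : IsLocallyNoetherian (f.fiber (f.base x)) := isLocallyNoetherian_fiber f _
    infer_instance
  rcases Nat.eq_zero_or_pos n with rfl | hn
  · have hset : {x : X |
        ringKrullDim ((f.fiber (f.base x)).presheaf.stalk (f.asFiber x)) =
          ((LocCoh.depth ((f.fiber (f.base x)).presheaf.stalk (f.asFiber x))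
            ((f.fiber (f.base x)).presheaf.stalk (f.asFiber x)) : ℕ∞) : WithBot ℕ∞) + (0 : ℕ)} =
        {x : X | FibCodepth 0 f x} := by
      ext x
      haveI := hN x
      rw [Set.mem_ofPred_eq, ringCodepth_eq_iff]
      exact ⟨fun h => h.1, fun h => ⟨h, fun m hm => absurd hm (Nat.not_lt_zero m)⟩⟩
    rw [hset]
    exact isLocallyConstructible_fibCodepth f 0
  · have hset : {x : X |
        ringKrullDim ((f.fiber (f.base x)).presheaf.stalk (f.asFiber x)) =
          ((LocCoh.depth ((f.fiber (f.base x)).presheaf.stalk (f.asFiber x))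
            ((f.fiber (f.base x)).presheaf.stalk (f.asFiber x)) : ℕ∞) : WithBot ℕ∞) + n} =
        {x : X | FibCodepth n f x} ∩ {x : X | FibCodepth (n - 1) f x}ᶜ := by
      ext x
      haveI := hN x
      rw [Set.mem_ofPred_eq, ringCodepth_eq_iff]
      constructor
      · rintro ⟨h1, h2⟩
        exact ⟨h1, h2 (n - 1) (by omega)⟩
      · rintro ⟨h1, h2⟩
        refine ⟨h1, fun m hm hc => h2 ?_⟩
        have hmn : m ≤ n - 1 := by omega
        show RingCodepthLE (n - 1) _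
        unfold RingCodepthLE at hc ⊢
        refine hc.trans ?_
        gcongr
    rw [hset]
    exact (isLocallyConstructible_fibCodepth f n).inter
      (isLocallyConstructible_compl (isLocallyConstructible_fibCodepth f (n - 1)))

end Eq

end Groth.Agent.Lib.FibPdH5
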