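/-
helper5: the rectified depth `x ↦ prof (F_{f x})_x + dim cl_{X_{f x}}{x}` of the fibre modules is a
locally constructible function (EGA IV 9.9-type; S5914), via the module version of the `IsFibrewise`
framework (`FibConsMod1_helper5`).  APPEND-ONLY once landed.
-/
import Mathlib
import Groth.Agent.Lib.FibRectBC2_helper5
import Groth.Agent.Lib.FibConsMod1_helper5
import Groth.Agent.Lib.FibCons3_helper8

set_option autoImplicit false
set_option linter.style.haveILetI false
set_option linter.unusedVariables false

namespace Groth.Agent.Lib.FibRectBCH5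

open AlgebraicGeometry CategoryTheory TopologicalSpace Topology Limits

universe u

/-- "the rectified depth is at least `n`" is a fibrewise property of morphisms with a module -/
theorem isFibrewiseMod_le_rect (n : ℕ∞) :
    Groth.Agent.Lib.FibConsModH5.IsFibrewiseMod.{u} (fun {X S} f F x => n ≤ rect f F x) where
  iso f _ _ α _ x h := by
    rw [← rect_of_iso f α x]
    exact h
  bc f _ F hF f' g' g hc x' := by rw [rect_bc f F hF f' g' g hc x']
  loc f _ F hF j _ u := by rw [rect_loc f F hF j u]
  isOpen g _ _ F hF hflat := isOpen_le_rect g F hF hflat n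

set_option maxHeartbeats 1000000 in
/-- **S5914** -/
theorem main5914 {X S : Scheme.{u}} (f : X ⟶ S) [LocallyOfFinitePresentation f]
    (F : X.Modules) [Coh.IsQCoh F] (hF : CohB1.IsFP F) (n : ℕ∞) :
    Topology.IsLocallyConstructible {x : X |
      ((CInt.fiberDepth f F x : ℕ∞) : WithBot ℕ∞) +
          topologicalKrullDim ↥(closure ({f.asFiber x} : Set ↥(f.fiber (f.base x)))) =
        ((n : ℕ∞) : WithBot ℕ∞)} := by
  have hset : {x : X | ((CInt.fiberDepth f F x : ℕ∞) : WithBot ℕ∞) +
      topologicalKrullDim ↥(closure ({f.asFiber x} : Set ↥(f.fiber (f.base x)))) =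
        ((n : ℕ∞) : WithBot ℕ∞)} = {x : X | rect f F x = n} := by
    ext x
    rw [Set.mem_ofPred_eq, Set.mem_ofPred_eq,
      Groth.Agent.ClosHtH8.topologicalKrullDim_closure_singleton (f.fiber (f.base x))
        (f.asFiber x), ← WithBot.coe_add, WithBot.coe_inj]
    rfl
  rw [hset]
  have hle : ∀ k : ℕ∞, IsLocallyConstructible {x : X | k ≤ rect f F x} := fun k =>
    Groth.Agent.Lib.FibConsModH5.isLocallyConstructible (isFibrewiseMod_le_rect k) f F hF
  induction n using ENat.recTopCoe with
  | top =>
    convert hle ⊤ using 1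
    ext x
    rw [Set.mem_ofPred_eq, Set.mem_ofPred_eq, top_le_iff]
  | coe m =>
    have h1 := hle m
    have h2 := Groth.Agent.Lib.FibConsH8.isLocallyConstructible_compl (hle ((m : ℕ∞) + 1))
    convert h1.inter h2 using 1
    ext x
    simp only [Set.mem_ofPred_eq, Set.mem_inter_iff, Set.mem_compl_iff, not_le]
    constructor
    · intro h
      rw [h]
      exact ⟨le_rfl, (ENat.lt_add_one_iff (ENat.natCast_ne_top m)).mpr le_rfl⟩
    · rintro ⟨h3, h4⟩
      exact le_antisymm ((ENat.lt_add_one_iff (ENat.natCast_ne_top m)).mp h4) h3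

end Groth.Agent.Lib.FibRectBCH5
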