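import Mathlib
import Groth.Agent.Lib.FlatLocFP1_helper6

/-!
# Flatness at primes: general lemmas for stage descent
-/

set_option autoImplicit false
open TensorProduct

namespace Groth.Agent.Lib.FlatStageH8

universe u

section FA

variable {k C : Type u} [CommRing k] [CommRing C] [Algebra k C]
  (X : Type u) [AddCommGroup X] [Module C X] [Module k X] [IsScalarTower k C X]

/-- monotonicity of flatness of localizations in the multiplicative set. -/
theorem flat_localizedModule_mono {T₁ T₂ : Submonoid C} (hT : T₁ ≤ T₂)
    (h : Module.Flat k (LocalizedModule T₁ X)) : Module.Flat k (LocalizedModule T₂ X) := by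
  rw [Groth.Agent.Lib.FlatLocFP1H6.flat_localizedModule_iff] at h ⊢
  intro I ξ hξ
  obtain ⟨t, ht, h0⟩ := h I ξ hξ
  exact ⟨t, hT ht, h0⟩

/-- if `X` is flat at all primes not containing `a` then `X_a` is flat. -/
theorem flat_localizedModule_powers_of_forall_prime (a : C)
    (h : ∀ (Q : Ideal C) [Q.IsPrime], a ∉ Q → Module.Flat k (LocalizedModule Q.primeCompl X)) :
    Module.Flat k (LocalizedModule (Submonoid.powers a) X) := by
  rw [Groth.Agent.Lib.FlatLocFP1H6.flat_localizedModule_iff]
  intro I ξ hξ
  have ht : a ∈ Ideal.radical (LinearMap.ker (LinearMap.toSpanSingleton C (X ⊗[k] I) ξ)) := by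
    rw [Ideal.radical_eq_sInf, Ideal.mem_sInf]
    rintro Q ⟨hQ𝔫, hQprime⟩
    by_contra haQ
    obtain ⟨s, hs, hs0⟩ := (Groth.Agent.Lib.FlatLocFP1H6.flat_localizedModule_iff (A := k) (C := C)
      Q.primeCompl X).mp (h Q haQ) I ξ hξ
    refine hs (hQ𝔫 ?_)
    rw [LinearMap.mem_ker, LinearMap.toSpanSingleton_apply]
    exact hs0
  obtain ⟨n, hn⟩ := ht
  refine ⟨a ^ n, ⟨n, rfl⟩, ?_⟩
  rw [LinearMap.mem_ker, LinearMap.toSpanSingleton_apply] at hn
  exact hn

end FA

section LOC

variable {k C E : Type u} [CommRing k] [CommRing C] [CommRing E]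
  [Algebra k C] [Algebra C E] [Algebra k E] [IsScalarTower k C E]
  {X Y : Type u} [AddCommGroup X] [Module C X] [Module k X] [IsScalarTower k C X]
  [AddCommGroup Y] [Module E Y] [Module C Y] [Module k Y] [IsScalarTower C E Y]
  [IsScalarTower k E Y]

/-- flatness at a prime of a localization `E = W⁻¹C` versus flatness at the contracted prime. -/
theorem flat_localized_iff_of_isLocalization (W : Submonoid C) [IsLocalization W E]
    (f : X →ₗ[C] Y) (hf : IsBaseChange E f)
    (q : Ideal E) [q.IsPrime] :
    Module.Flat k (LocalizedModule q.primeCompl Y) ↔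
      Module.Flat k (LocalizedModule (q.comap (algebraMap C E)).primeCompl X) := by
  haveI : IsLocalization (q.comap (algebraMap C E)).primeCompl (Localization.AtPrime q) :=
    IsLocalization.isLocalization_isLocalization_atPrime_isLocalization W
      (Localization.AtPrime q) q
  have hbc : IsBaseChange (Localization.AtPrime q)
      (((LocalizedModule.mkLinearMap q.primeCompl Y).restrictScalars C).comp f) :=
    IsBaseChange.comp hf
      (IsLocalizedModule.isBaseChange q.primeCompl (Localization.AtPrime q)
        (LocalizedModule.mkLinearMap q.primeCompl Y))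
  haveI : IsLocalizedModule (q.comap (algebraMap C E)).primeCompl
      (((LocalizedModule.mkLinearMap q.primeCompl Y).restrictScalars C).comp f) :=
    (isLocalizedModule_iff_isBaseChange (q.comap (algebraMap C E)).primeCompl
      (Localization.AtPrime q) _).mpr hbc
  exact Groth.Agent.Lib.FlatLocFP1H6.flat_iff_of_isLocalizedModule (A := k) (C := C)
    (q.comap (algebraMap C E)).primeCompl
    (((LocalizedModule.mkLinearMap q.primeCompl Y).restrictScalars C).comp f)

end LOC

end Groth.Agent.Lib.FlatStageH8
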