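import Mathlib
import Groth.Agent.Lib.KerFP_helper6
import Groth.Agent.Lib.FlatStageA_helper8
import Groth.Agent.S0387

/-!
# Spreading out a fibrewise nonzerodivisor: algebra
-/

set_option autoImplicit false

namespace Groth.Agent.Lib.FibRegH8

open TensorProduct

universe u

/-- L1: if `C` is a finitely presented `A`-algebra and `C/(c)` is flat over `A` then the
annihilator of `c` is a finitely generated ideal. -/
theorem fg_annihilator_of_flat_quotient {A C : Type u} [CommRing A] [CommRing C] [Algebra A C]
    [Algebra.FinitePresentation A C] (c : C) [Module.Flat A (C ⧸ Ideal.span {c})] :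
    (LinearMap.ker (LinearMap.toSpanSingleton C C c)).FG := by
  haveI : Module.FinitePresentation C (C ⧸ Ideal.span {c}) :=
    Module.finitePresentation_of_surjective (Ideal.span {c}).mkQ
      (Submodule.mkQ_surjective _) (by
        rw [Submodule.ker_mkQ]
        exact ⟨{c}, by simp [Ideal.span]⟩)
  haveI hfp : Module.FinitePresentation C (LinearMap.ker (Ideal.span {c}).mkQ) :=
    Groth.Agent.Lib.KerFPH6.finitePresentation_ker_of_flat (A := A) (B := C)
      (Ideal.span {c}).mkQ (Submodule.mkQ_surjective _)
  have hmem : ∀ x : C, LinearMap.toSpanSingleton C C c x ∈ LinearMap.ker (Ideal.span {c}).mkQ := by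
    intro x
    rw [Submodule.ker_mkQ, LinearMap.toSpanSingleton_apply]
    exact Ideal.mul_mem_left _ _ (Ideal.subset_span rfl)
  let φ : C →ₗ[C] LinearMap.ker (Ideal.span {c}).mkQ :=
    (LinearMap.toSpanSingleton C C c).codRestrict _ hmem
  have hφ : Function.Surjective φ := by
    rintro ⟨y, hy⟩
    rw [Submodule.ker_mkQ] at hy
    obtain ⟨a, rfl⟩ := Ideal.mem_span_singleton'.mp hy
    exact ⟨a, Subtype.ext (by simp [φ, LinearMap.toSpanSingleton_apply])⟩
  have hK : (LinearMap.ker φ).FG := Module.FinitePresentation.fg_ker φ hφ
  have heq : LinearMap.ker φ = LinearMap.ker (LinearMap.toSpanSingleton C C c) := by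
    ext x
    simp only [LinearMap.mem_ker]
    constructor
    · intro h
      exact congrArg Subtype.val h
    · intro h
      exact Subtype.ext h
  rwa [heq] at hK

end Groth.Agent.Lib.FibRegH8
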