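import Mathlib
import Groth.Agent.Lib.FibReg1_helper8

/-!
# Spreading out a fibrewise nonzerodivisor: algebra (II)
-/

set_option autoImplicit false

namespace Groth.Agent.Lib.FibRegH8

open TensorProduct

universe u

section TQ

variable {A B C : Type u} [CommRing A] [CommRing B] [CommRing C] [Algebra A B] [Algebra B C]
  [Algebra A C] [IsScalarTower A B C] (p : Submonoid B) [IsLocalization p C] (h₀ : B)

/-- the quotient `C/(h₀)` is the localization of `B/(h₀)`. -/
theorem exists_isLocalizedModule_quotient :
    ∃ ψ : (B ⧸ Ideal.span {h₀}) →ₗ[B] (C ⧸ Ideal.span {algebraMap B C h₀}),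
      IsLocalizedModule p ψ ∧ ∀ b : B, ψ (Ideal.Quotient.mk _ b) = Ideal.Quotient.mk _ (algebraMap B C b) := by
  haveI : IsLocalizedModule p (Algebra.linearMap B C) :=
    (isLocalizedModule_iff_isLocalization' _ _).mpr inferInstance
  have hI : (Ideal.span {h₀} : Submodule B B).localized' C p (Algebra.linearMap B C) =
      Ideal.span {algebraMap B C h₀} := by
    show (Submodule.span B {h₀}).localized' C p (Algebra.linearMap B C) = _
    rw [Submodule.localized'_span, Set.image_singleton]
    rfl
  have key : ∀ (I : Submodule C C),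
      (Ideal.span {h₀} : Submodule B B).localized' C p (Algebra.linearMap B C) = I →
      ∃ ψ : (B ⧸ Ideal.span {h₀}) →ₗ[B] (C ⧸ I),
        IsLocalizedModule p ψ ∧ ∀ b : B, ψ (Submodule.Quotient.mk b) =
          Submodule.Quotient.mk (algebraMap B C b) := by
    rintro _ rfl
    exact ⟨Submodule.toLocalizedQuotient' C p (Algebra.linearMap B C) (Ideal.span {h₀}),
      inferInstance, fun b => rfl⟩
  exact key _ hI

/-- TQ -/
theorem flat_quotient_iff :
    Module.Flat A (C ⧸ Ideal.span {algebraMap B C h₀}) ↔
      Module.Flat A (LocalizedModule p (B ⧸ Ideal.span {h₀})) := by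
  obtain ⟨ψ, hψ, -⟩ := exists_isLocalizedModule_quotient (C := C) p h₀
  exact Groth.Agent.Lib.FlatLocFP1H6.flat_iff_of_isLocalizedModule (A := A) p ψ

end TQ

end Groth.Agent.Lib.FibRegH8
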