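import Mathlib
import Groth.Agent.Lib.FibReg2_helper8

/-!
# Spreading out a fibrewise nonzerodivisor: algebra (III)
-/

set_option autoImplicit false

namespace Groth.Agent.Lib.FibRegH8

open TensorProduct

universe u

/-- L2: spreading out. -/
theorem exists_spread {A B : Type u} [CommRing A] [CommRing B] [Algebra A B]
    [Algebra.FinitePresentation A B] (q : Ideal B) [q.IsPrime] (h₀ : B)
    (hα : ∀ b : B, h₀ * b = 0 → ∃ t, t ∉ q ∧ t * b = 0)
    (hβ : Module.Flat A (LocalizedModule q.primeCompl (B ⧸ Ideal.span {h₀}))) :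
    ∃ g, g ∉ q ∧ (∀ b : B, h₀ * b = 0 → ∃ k : ℕ, g ^ k * b = 0) ∧
      ∀ (Q : Ideal B) [Q.IsPrime], g ∉ Q →
        Module.Flat A (LocalizedModule Q.primeCompl (B ⧸ Ideal.span {h₀})) := by
  classical
  haveI : Module.FinitePresentation B (B ⧸ Ideal.span {h₀}) :=
    Module.finitePresentation_of_surjective (Ideal.span {h₀}).mkQ
      (Submodule.mkQ_surjective _) (by
        rw [Submodule.ker_mkQ]
        exact ⟨{h₀}, by simp [Ideal.span]⟩)
  have hopen : IsOpen {Q : PrimeSpectrum B |
      Module.Flat A (LocalizedModule Q.asIdeal.primeCompl (B ⧸ Ideal.span {h₀}))} :=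
    Groth.Agent.S0387.result (R := A) (S := B) (M := B ⧸ Ideal.span {h₀})
  have hq : (⟨q, inferInstance⟩ : PrimeSpectrum B) ∈ {Q : PrimeSpectrum B |
      Module.Flat A (LocalizedModule Q.asIdeal.primeCompl (B ⧸ Ideal.span {h₀}))} := hβ
  obtain ⟨_, ⟨_, ⟨g₂, rfl⟩, rfl⟩, hqg₂, hsub⟩ :=
    PrimeSpectrum.isBasis_basic_opens.exists_subset_of_mem_open hq hopen
  have hg₂q : g₂ ∉ q := hqg₂
  have hflatQ : ∀ (Q : Ideal B) [Q.IsPrime], g₂ ∉ Q →
      Module.Flat A (LocalizedModule Q.primeCompl (B ⧸ Ideal.span {h₀})) := by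
    intro Q _ hQ
    exact hsub (show (⟨Q, inferInstance⟩ : PrimeSpectrum B) ∈
      (PrimeSpectrum.basicOpen g₂ : Set (PrimeSpectrum B)) from hQ)
  -- the localization
  haveI : Algebra.FinitePresentation B (Localization.Away g₂) :=
    IsLocalization.Away.finitePresentation g₂
  haveI : Algebra.FinitePresentation A (Localization.Away g₂) :=
    Algebra.FinitePresentation.trans A B (Localization.Away g₂)
  haveI : Module.Flat A (Localization.Away g₂ ⧸
      Ideal.span {algebraMap B (Localization.Away g₂) h₀}) :=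
    (flat_quotient_iff (A := A) (C := Localization.Away g₂) (Submonoid.powers g₂) h₀).mpr
      (Groth.Agent.Lib.FlatStageH8.flat_localizedModule_powers_of_forall_prime (k := A) (C := B)
        (B ⧸ Ideal.span {h₀}) g₂ (fun Q _ hQ => hflatQ Q hQ))
  obtain ⟨s, hs⟩ := fg_annihilator_of_flat_quotient (A := A)
    (algebraMap B (Localization.Away g₂) h₀)
  -- each element of the annihilator is killed by an element outside q
  have hkill1 : ∀ a : Localization.Away g₂, a * algebraMap B (Localization.Away g₂) h₀ = 0 →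
      ∃ t, t ∉ q ∧ algebraMap B (Localization.Away g₂) t * a = 0 := by
    intro a ha
    obtain ⟨⟨b, m⟩, rfl⟩ := IsLocalization.mk'_surjective (Submonoid.powers g₂) a
    have h1 : IsLocalization.mk' (Localization.Away g₂) (h₀ * b) m = 0 := by
      rw [← IsLocalization.mul_mk'_eq_mk'_of_mul, mul_comm]
      exact ha
    obtain ⟨m', hm'⟩ := (IsLocalization.mk'_eq_zero_iff (h₀ * b) m).mp h1
    obtain ⟨t, htq, ht⟩ := hα ((m' : B) * b) (by
      rw [mul_left_comm]; exact hm')
    refine ⟨t, htq, ?_⟩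
    rw [IsLocalization.mul_mk'_eq_mk'_of_mul, IsLocalization.mk'_eq_zero_iff]
    exact ⟨m', by rw [mul_left_comm]; exact ht⟩
  have hkill2 : ∀ a ∈ s, ∃ t, t ∉ q ∧ algebraMap B (Localization.Away g₂) t * a = 0 := by
    intro a ha
    have ha' : a ∈ LinearMap.ker (LinearMap.toSpanSingleton (Localization.Away g₂)
        (Localization.Away g₂) (algebraMap B (Localization.Away g₂) h₀)) :=
      hs ▸ Submodule.subset_span ha
    rw [LinearMap.mem_ker, LinearMap.toSpanSingleton_apply, smul_eq_mul] at ha'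
    exact hkill1 a ha'
  choose! t ht using hkill2
  have hTq : (∏ a ∈ s, t a) ∉ q := by
    intro hmem
    obtain ⟨a, has, hta⟩ := (Ideal.IsPrime.prod_mem_iff).mp hmem
    exact (ht a has).1 hta
  have hTkill : ∀ a : Localization.Away g₂, a * algebraMap B (Localization.Away g₂) h₀ = 0 →
      algebraMap B (Localization.Away g₂) (∏ a ∈ s, t a) * a = 0 := by
    intro a ha
    have ha' : a ∈ Submodule.span (Localization.Away g₂) (s : Set (Localization.Away g₂)) := by
      rw [hs, LinearMap.mem_ker, LinearMap.toSpanSingleton_apply, smul_eq_mul]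
      exact ha
    refine Submodule.span_induction ?_ ?_ ?_ ?_ ha'
    · intro x hx
      rw [← Finset.mul_prod_erase s t hx, map_mul, mul_right_comm, (ht x hx).2, zero_mul]
    · exact mul_zero _
    · intro x y _ _ hx hy
      rw [mul_add, hx, hy, add_zero]
    · intro r x _ hx
      rw [smul_eq_mul, mul_left_comm, hx, mul_zero]
  refine ⟨g₂ * ∏ a ∈ s, t a, ?_, ?_, ?_⟩
  · intro hmem
    rcases (Ideal.IsPrime.mem_or_mem inferInstance hmem) with h | h
    · exact hg₂q h
    · exact hTq h
  · intro b hb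
    have h1 : algebraMap B (Localization.Away g₂) b * algebraMap B (Localization.Away g₂) h₀ = 0 := by
      rw [← map_mul, mul_comm, hb, map_zero]
    have h2 := hTkill _ h1
    rw [← map_mul] at h2
    obtain ⟨⟨_, k, rfl⟩, hk⟩ := (IsLocalization.map_eq_zero_iff (Submonoid.powers g₂)
      (Localization.Away g₂) _).mp h2
    refine ⟨k + 1, ?_⟩
    have hk' : g₂ ^ k * ((∏ a ∈ s, t a) * b) = 0 := hk
    calc (g₂ * ∏ a ∈ s, t a) ^ (k + 1) * b
        = g₂ * (∏ a ∈ s, t a) ^ k * (g₂ ^ k * ((∏ a ∈ s, t a) * b)) := by ring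
      _ = 0 := by rw [hk', mul_zero]
  · intro Q _ hQ
    refine hflatQ Q (fun h => hQ ?_)
    exact Ideal.mul_mem_right _ _ h

end Groth.Agent.Lib.FibRegH8
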