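import Mathlib
import Groth.Agent.Lib.FibReg3_helper8
import Groth.Agent.Lib.FibInjF_helper6
import Groth.Agent.Lib.FLF1_helper8
import Groth.Agent.Lib.GenFlatSch_helper8
import Groth.Agent.S2107

/-!
# Spreading out a fibrewise nonzerodivisor: geometry
-/

set_option autoImplicit false

open CategoryTheory AlgebraicGeometry Opposite TopologicalSpace TensorProduct

universe u

namespace Groth.Agent.Lib.FibRegH8

/-- stalk-level consequence of EGA IV 11.3.7 for multiplication by `h`. -/
theorem stalk_regular {X S : Scheme.{u}} (f : X ⟶ S) [LocallyOfFinitePresentation f] (x : X)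
    (hflat : (f.stalkMap x).hom.Flat) (h : X.presheaf.stalk x)
    (hreg : Ideal.Quotient.mk (Ideal.map (f.stalkMap x).hom
        (IsLocalRing.maximalIdeal (S.presheaf.stalk (f x)))) h ∈
      nonZeroDivisors (X.presheaf.stalk x ⧸ Ideal.map (f.stalkMap x).hom
        (IsLocalRing.maximalIdeal (S.presheaf.stalk (f x))))) :
    letI : Algebra (S.presheaf.stalk (f x)) (X.presheaf.stalk x) := (f.stalkMap x).hom.toAlgebra
    (∀ a : X.presheaf.stalk x, a * h = 0 → a = 0) ∧
      Module.Flat (S.presheaf.stalk (f x)) (X.presheaf.stalk x ⧸ Ideal.span {h}) := by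
  letI algRS : Algebra (S.presheaf.stalk (f x)) (X.presheaf.stalk x) :=
    (f.stalkMap x).hom.toAlgebra
  haveI : IsLocalHom (algebraMap (S.presheaf.stalk (f x)) (X.presheaf.stalk x)) :=
    (inferInstance : IsLocalHom (f.stalkMap x).hom)
  have hess : CAlgX.IsEssFinitePresentation (S.presheaf.stalk (f x)) (X.presheaf.stalk x) :=
    Groth.Agent.Lib.FibInjH6.isEssFinitePresentation_stalkMap f x
  haveI : Module.Flat (S.presheaf.stalk (f x)) (X.presheaf.stalk x) := hflat
  have hJ : ∀ a : X.presheaf.stalk x,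
      a ∈ (IsLocalRing.maximalIdeal (S.presheaf.stalk (f x))).map
          (algebraMap (S.presheaf.stalk (f x)) (X.presheaf.stalk x)) •
        (⊤ : Submodule (X.presheaf.stalk x) (X.presheaf.stalk x)) ↔
      a ∈ Ideal.map (f.stalkMap x).hom (IsLocalRing.maximalIdeal (S.presheaf.stalk (f x))) := by
    intro a
    rw [smul_eq_mul, Ideal.mul_top]
    rfl
  have hu : ∀ a : X.presheaf.stalk x,
      LinearMap.toSpanSingleton (X.presheaf.stalk x) (X.presheaf.stalk x) h a ∈
        (IsLocalRing.maximalIdeal (S.presheaf.stalk (f x))).map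
          (algebraMap (S.presheaf.stalk (f x)) (X.presheaf.stalk x)) •
        (⊤ : Submodule (X.presheaf.stalk x) (X.presheaf.stalk x)) →
      a ∈ (IsLocalRing.maximalIdeal (S.presheaf.stalk (f x))).map
          (algebraMap (S.presheaf.stalk (f x)) (X.presheaf.stalk x)) •
        (⊤ : Submodule (X.presheaf.stalk x) (X.presheaf.stalk x)) := by
    intro a ha
    rw [hJ] at ha ⊢
    rw [LinearMap.toSpanSingleton_apply, smul_eq_mul] at ha
    have h1 := (mem_nonZeroDivisors_iff_right.mp hreg) (Ideal.Quotient.mk _ a) (by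
      rw [← map_mul, Ideal.Quotient.eq_zero_iff_mem]
      exact ha)
    exact Ideal.Quotient.eq_zero_iff_mem.mp h1
  obtain ⟨hinj, hfl⟩ := Groth.Agent.S2107.result hess
    (LinearMap.toSpanSingleton (X.presheaf.stalk x) (X.presheaf.stalk x) h) hu
  refine ⟨fun a ha => ?_, ?_⟩
  · apply hinj
    rw [LinearMap.toSpanSingleton_apply, smul_eq_mul, ha, map_zero]
  · have key : ∀ I : Submodule (X.presheaf.stalk x) (X.presheaf.stalk x),
        LinearMap.range (LinearMap.toSpanSingleton (X.presheaf.stalk x) (X.presheaf.stalk x) h)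
          = I → Module.Flat (S.presheaf.stalk (f x)) (X.presheaf.stalk x ⧸ I) := by
      rintro _ rfl
      exact hfl
    exact key _ (LinearMap.range_toSpanSingleton _)

end Groth.Agent.Lib.FibRegH8
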