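import Mathlib
import Groth.Agent.Lib.FibReg4_helper8

/-!
# Spreading out a fibrewise nonzerodivisor: geometry (II)
-/

set_option autoImplicit false

open CategoryTheory AlgebraicGeometry Opposite TopologicalSpace TensorProduct

universe u

namespace Groth.Agent.Lib.FibRegH8

set_option maxHeartbeats 1000000 in
theorem slice_flat {X S : Scheme.{u}} (f : X ⟶ S) [LocallyOfFinitePresentation f] (x : X)
    (hflat : (f.stalkMap x).hom.Flat) (h : X.presheaf.stalk x)
    (hreg : Ideal.Quotient.mk (Ideal.map (f.stalkMap x).hom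
        (IsLocalRing.maximalIdeal (S.presheaf.stalk (f x)))) h ∈
      nonZeroDivisors (X.presheaf.stalk x ⧸ Ideal.map (f.stalkMap x).hom
        (IsLocalRing.maximalIdeal (S.presheaf.stalk (f x))))) :
    ∃ (U : X.Opens) (hU : IsAffineOpen U) (hx : x ∈ U) (h' : Γ(X, U)),
      X.presheaf.germ U x hx h' = h ∧ h' ∈ nonZeroDivisors Γ(X, U) ∧
      Flat (Spec.map (CommRingCat.ofHom (Ideal.Quotient.mk (Ideal.span {h'}))) ≫
        hU.fromSpec ≫ f) ∧
      LocallyOfFinitePresentation (Spec.map (CommRingCat.ofHom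
        (Ideal.Quotient.mk (Ideal.span {h'}))) ≫ hU.fromSpec ≫ f) := by
  classical
  obtain ⟨hstk1, hstk2⟩ := stalk_regular f x hflat h hreg
  -- choose affine opens
  obtain ⟨V, hV, hyV, -⟩ := Opens.isBasis_iff_nbhd.mp S.isBasis_affineOpens
    (show f.base x ∈ (⊤ : S.Opens) from trivial)
  obtain ⟨U₁, hU₁V, hxU₁, h₁, hh₁⟩ := TopCat.Presheaf.exists_le_germ_eq X.presheaf h
    (show x ∈ f ⁻¹ᵁ V from hyV)
  obtain ⟨U, hU, hxU, hUU₁⟩ := Opens.isBasis_iff_nbhd.mp X.isBasis_affineOpens hxU₁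
  have e : U ≤ f ⁻¹ᵁ V := hUU₁.trans hU₁V
  obtain ⟨h₀, hh₀⟩ : ∃ h₀ : Γ(X, U), X.presheaf.germ U x hxU h₀ = h :=
    ⟨X.presheaf.map (homOfLE hUU₁).op h₁, by
      rw [TopCat.Presheaf.germ_res_apply]; exact hh₁⟩
  -- algebra structures
  letI algAB : Algebra Γ(S, V) Γ(X, U) := (f.appLE V U e).hom.toAlgebra
  haveI : Algebra.FinitePresentation Γ(S, V) Γ(X, U) :=
    HasRingHomProperty.appLE (P := @LocallyOfFinitePresentation) f inferInstance ⟨V, hV⟩ ⟨U, hU⟩ e
  letI algRS : Algebra (S.presheaf.stalk (f x)) (X.presheaf.stalk x) :=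
    (f.stalkMap x).hom.toAlgebra
  letI algAR : Algebra Γ(S, V) (S.presheaf.stalk (f x)) :=
    TopCat.Presheaf.algebra_section_stalk S.presheaf (⟨f.base x, hyV⟩ : V)
  letI algBT : Algebra Γ(X, U) (X.presheaf.stalk x) :=
    TopCat.Presheaf.algebra_section_stalk X.presheaf (⟨x, hxU⟩ : U)
  letI algAT : Algebra Γ(S, V) (X.presheaf.stalk x) :=
    ((algebraMap Γ(X, U) (X.presheaf.stalk x)).comp (algebraMap Γ(S, V) Γ(X, U))).toAlgebra
  haveI : IsScalarTower Γ(S, V) Γ(X, U) (X.presheaf.stalk x) :=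
    IsScalarTower.of_algebraMap_eq' rfl
  haveI : IsScalarTower Γ(S, V) (S.presheaf.stalk (f x)) (X.presheaf.stalk x) := by
    refine IsScalarTower.of_algebraMap_eq fun a => ?_
    show (X.presheaf.germ U x hxU).hom ((f.appLE V U e).hom a) =
      (f.stalkMap x).hom ((S.presheaf.germ V _ hyV).hom a)
    rw [GenFlatSchH8.stalkMap_germ_appLE f e hxU a]
  haveI : IsLocalization.AtPrime (S.presheaf.stalk (f x))
      (hV.primeIdealOf ⟨f x, hyV⟩).asIdeal := hV.isLocalization_stalk ⟨_, hyV⟩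
  haveI : IsLocalization.AtPrime (X.presheaf.stalk x)
      (hU.primeIdealOf ⟨x, hxU⟩).asIdeal := hU.isLocalization_stalk ⟨_, hxU⟩
  haveI : Module.Flat Γ(S, V) (S.presheaf.stalk (f x)) :=
    IsLocalization.flat _ (hV.primeIdealOf ⟨f x, hyV⟩).asIdeal.primeCompl
  have hgerm : algebraMap Γ(X, U) (X.presheaf.stalk x) h₀ = h := hh₀
  -- (α) and (β)
  have hα : ∀ b : Γ(X, U), h₀ * b = 0 →
      ∃ t, t ∉ (hU.primeIdealOf ⟨x, hxU⟩).asIdeal ∧ t * b = 0 := by
    intro b hb
    have h1 : algebraMap Γ(X, U) (X.presheaf.stalk x) b * h = 0 := by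
      rw [← hgerm, ← map_mul, mul_comm, hb, map_zero]
    have h2 := hstk1 _ h1
    obtain ⟨t, ht⟩ := (IsLocalization.map_eq_zero_iff
      (hU.primeIdealOf ⟨x, hxU⟩).asIdeal.primeCompl (X.presheaf.stalk x) b).mp h2
    exact ⟨t.1, t.2, ht⟩
  have hβ : Module.Flat Γ(S, V) (LocalizedModule (hU.primeIdealOf ⟨x, hxU⟩).asIdeal.primeCompl
      (Γ(X, U) ⧸ Ideal.span {h₀})) := by
    refine (flat_quotient_iff (A := Γ(S, V)) (C := X.presheaf.stalk x)
      (hU.primeIdealOf ⟨x, hxU⟩).asIdeal.primeCompl h₀).mp ?_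
    rw [hgerm]
    haveI := hstk2
    exact Module.Flat.trans Γ(S, V) (S.presheaf.stalk (f x)) _
  obtain ⟨g, hgq, hga, hgb⟩ := exists_spread (A := Γ(S, V)) (B := Γ(X, U))
    (hU.primeIdealOf ⟨x, hxU⟩).asIdeal h₀ hα hβ
  -- the basic open
  have hU' : IsAffineOpen (X.basicOpen g) := hU.basicOpen g
  have hxU' : x ∈ X.basicOpen g := FLFH8.mem_basicOpen_of_notMem_prime hU hxU hgq
  haveI : IsLocalization.Away g Γ(X, X.basicOpen g) := hU.isLocalization_basicOpen g
  have e' : X.basicOpen g ≤ f ⁻¹ᵁ V := (X.basicOpen_le g).trans e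
  letI algAC : Algebra Γ(S, V) Γ(X, X.basicOpen g) :=
    (f.appLE V (X.basicOpen g) e').hom.toAlgebra
  haveI : IsScalarTower Γ(S, V) Γ(X, U) Γ(X, X.basicOpen g) := by
    refine IsScalarTower.of_algebraMap_eq' ?_
    show (f.appLE V (X.basicOpen g) e').hom =
      (X.presheaf.map (homOfLE (X.basicOpen_le g)).op).hom.comp (f.appLE V U e).hom
    rw [← CommRingCat.hom_comp, Scheme.Hom.appLE_map]
  refine ⟨X.basicOpen g, hU', hxU', algebraMap Γ(X, U) Γ(X, X.basicOpen g) h₀, ?_, ?_, ?_, ?_⟩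
  · show X.presheaf.germ (X.basicOpen g) x hxU'
      (X.presheaf.map (homOfLE (X.basicOpen_le g)).op h₀) = h
    rw [TopCat.Presheaf.germ_res_apply]
    exact hh₀
  · rw [mem_nonZeroDivisors_iff_right]
    intro z hz
    obtain ⟨⟨b, m⟩, rfl⟩ := IsLocalization.mk'_surjective (Submonoid.powers g) z
    have h1 : IsLocalization.mk' Γ(X, X.basicOpen g) (h₀ * b) m = 0 := by
      rw [← IsLocalization.mul_mk'_eq_mk'_of_mul, mul_comm]
      exact hz
    obtain ⟨m', hm'⟩ := (IsLocalization.mk'_eq_zero_iff (h₀ * b) m).mp h1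
    obtain ⟨k, hk⟩ := hga ((m' : Γ(X, U)) * b) (by rw [mul_left_comm]; exact hm')
    rw [IsLocalization.mk'_eq_zero_iff]
    exact ⟨⟨g ^ k, k, rfl⟩ * m', by rw [Submonoid.coe_mul, mul_assoc]; exact hk⟩
  · have hfl : Module.Flat Γ(S, V) (Γ(X, X.basicOpen g) ⧸
        Ideal.span {algebraMap Γ(X, U) Γ(X, X.basicOpen g) h₀}) :=
      (flat_quotient_iff (A := Γ(S, V)) (C := Γ(X, X.basicOpen g)) (Submonoid.powers g) h₀).mpr
        (Groth.Agent.Lib.FlatStageH8.flat_localizedModule_powers_of_forall_prime (k := Γ(S, V))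
          (C := Γ(X, U)) (Γ(X, U) ⧸ Ideal.span {h₀}) g (fun Q _ hQ => hgb Q hQ))
    have hcomp : Spec.map (CommRingCat.ofHom (Ideal.Quotient.mk
          (Ideal.span {algebraMap Γ(X, U) Γ(X, X.basicOpen g) h₀}))) ≫ hU'.fromSpec ≫ f =
        Spec.map (f.appLE V (X.basicOpen g) e' ≫ CommRingCat.ofHom (Ideal.Quotient.mk
          (Ideal.span {algebraMap Γ(X, U) Γ(X, X.basicOpen g) h₀}))) ≫ hV.fromSpec := by
      rw [Spec.map_comp, Category.assoc, IsAffineOpen.SpecMap_appLE_fromSpec]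
    rw [hcomp]
    haveI : Flat (Spec.map (f.appLE V (X.basicOpen g) e' ≫ CommRingCat.ofHom (Ideal.Quotient.mk
          (Ideal.span {algebraMap Γ(X, U) Γ(X, X.basicOpen g) h₀})))) := by
      rw [Flat.SpecMap_iff]
      exact RingHom.flat_algebraMap_iff.mpr hfl
    infer_instance
  · have hcomp : Spec.map (CommRingCat.ofHom (Ideal.Quotient.mk
          (Ideal.span {algebraMap Γ(X, U) Γ(X, X.basicOpen g) h₀}))) ≫ hU'.fromSpec ≫ f =
        Spec.map (f.appLE V (X.basicOpen g) e' ≫ CommRingCat.ofHom (Ideal.Quotient.mk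
          (Ideal.span {algebraMap Γ(X, U) Γ(X, X.basicOpen g) h₀}))) ≫ hV.fromSpec := by
      rw [Spec.map_comp, Category.assoc, IsAffineOpen.SpecMap_appLE_fromSpec]
    rw [hcomp]
    haveI : Algebra.FinitePresentation Γ(X, U) Γ(X, X.basicOpen g) :=
      IsLocalization.Away.finitePresentation g
    haveI : Algebra.FinitePresentation Γ(S, V) Γ(X, X.basicOpen g) :=
      Algebra.FinitePresentation.trans Γ(S, V) Γ(X, U) Γ(X, X.basicOpen g)
    haveI : Algebra.FinitePresentation Γ(X, X.basicOpen g) (Γ(X, X.basicOpen g) ⧸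
        Ideal.span {algebraMap Γ(X, U) Γ(X, X.basicOpen g) h₀}) :=
      Algebra.FinitePresentation.quotient (Submodule.fg_span_singleton _)
    haveI : Algebra.FinitePresentation Γ(S, V) (Γ(X, X.basicOpen g) ⧸
        Ideal.span {algebraMap Γ(X, U) Γ(X, X.basicOpen g) h₀}) :=
      Algebra.FinitePresentation.trans Γ(S, V) Γ(X, X.basicOpen g) _
    haveI : LocallyOfFinitePresentation (Spec.map (f.appLE V (X.basicOpen g) e' ≫
        CommRingCat.ofHom (Ideal.Quotient.mk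
          (Ideal.span {algebraMap Γ(X, U) Γ(X, X.basicOpen g) h₀})))) := by
      rw [HasRingHomProperty.Spec_iff (P := @LocallyOfFinitePresentation)]
      exact RingHom.finitePresentation_algebraMap.mpr inferInstance
    infer_instance

end Groth.Agent.Lib.FibRegH8
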