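import Mathlib
import Groth.Agent.Lib.FibReg5_helper8
import Groth.Agent.Lib.FibStalkIso_helper5

/-!
# Depth ≥ 1 gives a nonzerodivisor in the maximal ideal; application to slicing
-/

set_option autoImplicit false

open CategoryTheory AlgebraicGeometry Opposite TopologicalSpace TensorProduct

universe u

namespace Groth.Agent.Lib.FibRegH8

/-- depth ≥ 1 of a local ring gives a nonzerodivisor in the maximal ideal. -/
theorem exists_nonZeroDivisor_of_one_le_depth (R : Type u) [CommRing R] [IsLocalRing R]
    (h : 1 ≤ LocCoh.depth R R) :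
    ∃ a : R, a ∈ IsLocalRing.maximalIdeal R ∧ a ∈ nonZeroDivisors R := by
  classical
  unfold LocCoh.depth LocCoh.idealDepth at h
  have hne : IsLocalRing.maximalIdeal R • (⊤ : Submodule R R) ≠ ⊤ := by
    rw [smul_eq_mul, Ideal.mul_top]
    exact (IsLocalRing.maximalIdeal.isMaximal R).ne_top
  rw [if_neg hne] at h
  by_contra hcon
  push Not at hcon
  have hle : (⨆ (rs : List R) (_ : RingTheory.Sequence.IsWeaklyRegular R rs ∧
      ∀ r ∈ rs, r ∈ IsLocalRing.maximalIdeal R), (rs.length : ℕ∞)) ≤ 0 := by
    refine iSup_le fun rs => iSup_le fun hrs => ?_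
    cases rs with
    | nil => simp
    | cons r rs =>
      exfalso
      have h1 : IsSMulRegular R r :=
        ((RingTheory.Sequence.isWeaklyRegular_cons_iff R r rs).mp hrs.1).1
      refine hcon r (hrs.2 r (List.mem_cons_self)) ?_
      rw [mem_nonZeroDivisors_iff_right]
      intro z hz
      apply h1
      show r • z = r • (0 : R)
      rw [smul_eq_mul, smul_eq_mul, mul_zero, mul_comm]
      exact hz
  have : (1 : ℕ∞) ≤ 0 := h.trans hle
  simp at this

end Groth.Agent.Lib.FibRegH8
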