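import Mathlib
import Groth.Agent.Lib.EquidimAt2_helper8
import Groth.Agent.Lib.GeomConnM_helper8
import Groth.Agent.Lib.AffInt1_helper8

set_option autoImplicit false
universe u

namespace Groth.Agent.Lib.FibRegSeqH8

open AlgebraicGeometry CategoryTheory

/-- If every fibre ring `κ(p) ⊗ S` is equidimensional of dimension `d`, the fibre dimension of
`Spec S → Spec R` is `d` at every point. -/
theorem fibreDimAt_of_equidim (R S : Type u) [CommRing R] [CommRing S] [Algebra R S]
    [Algebra.FiniteType R S] (d : ℕ)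
    (heq : ∀ p : PrimeSpectrum R, ∀ P ∈ minimalPrimes (p.asIdeal.Fiber S),
      ringKrullDim (p.asIdeal.Fiber S ⧸ P) = (d : WithBot ℕ∞))
    (x : Spec (CommRingCat.of S)) :
    FlatMor.fibreDimAt (Spec.map (CommRingCat.ofHom (algebraMap R S))) x = (d : WithBot ℕ∞) := by
  set f := Spec.map (CommRingCat.ofHom (algebraMap R S)) with hf
  haveI : LocallyOfFiniteType f := by
    rw [hf, HasRingHomProperty.Spec_iff (P := @LocallyOfFiniteType)]
    exact (RingHom.finiteType_algebraMap).mpr inferInstance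
  apply Groth.Agent.Lib.EquidimAtH8.fibreDimAt_of_equidim_fibres f d
  intro x' Z hZ
  let p : PrimeSpectrum R := f x'
  let e := Arrow.leftFunc.mapIso (Spec.fiberToSpecResidueFieldIso R S p)
  change f.fiber p ≅ Spec (CommRingCat.of (p.asIdeal.Fiber S)) at e
  let φ : ↥(f.fiber p) ≃ₜ PrimeSpectrum (p.asIdeal.Fiber S) := e.hom.homeomorph
  have hZ' : φ '' Z ∈ irreducibleComponents (PrimeSpectrum (p.asIdeal.Fiber S)) :=
    GeomConnH8.image_mem_irreducibleComponents φ hZ
  rw [← PrimeSpectrum.zeroLocus_minimalPrimes] at hZ'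
  obtain ⟨P, hP, hPZ⟩ := hZ'
  have h1 : topologicalKrullDim ↥Z = topologicalKrullDim ↥(φ '' Z) :=
    IsHomeomorph.topologicalKrullDim_eq _ (φ.image Z).isHomeomorph
  rw [h1, ← hPZ]
  show topologicalKrullDim ↥(PrimeSpectrum.zeroLocus (P : Set (p.asIdeal.Fiber S))) = _
  rw [Groth.Agent.Lib.AffIntH8.topologicalKrullDim_zeroLocus]
  exact heq p P hP

end Groth.Agent.Lib.FibRegSeqH8
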