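import Mathlib
import Groth.Prelude.Def_CAlg
import Groth.Agent.Lib.CM_helper5

set_option autoImplicit false
universe u

namespace Groth.Agent.Lib.FibRegSeqH8

open RingTheory.Sequence

theorem supportDim_quot_ofList (A : Type u) [CommRing A] (xs : List A) :
    Module.supportDim A (A ⧸ (Ideal.ofList xs • (⊤ : Submodule A A))) =
      ringKrullDim (A ⧸ Ideal.ofList xs) := by
  have e : (A ⧸ (Ideal.ofList xs • (⊤ : Submodule A A))) ≃ₗ[A] (A ⧸ Ideal.ofList xs) :=
    Submodule.quotEquivOfEq _ _ (by rw [smul_eq_mul, Ideal.mul_top])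
  rw [Module.supportDim_eq_of_equiv e, Module.supportDim_quotient_eq_ringKrullDim]

/-- Krull: cutting by `i` elements of the maximal ideal drops the dimension by at most `i`. -/
theorem dim_le_dim_quot_add (A : Type u) [CommRing A] [IsLocalRing A] [IsNoetherianRing A]
    (xs : List A) (hmem : ∀ x ∈ xs, x ∈ IsLocalRing.maximalIdeal A) :
    ringKrullDim A ≤ ringKrullDim (A ⧸ Ideal.ofList xs) + xs.length := by
  have := Groth.Agent.DepthLib.supportDim_le_supportDim_quot_ofList_add_length xs A hmem
  rwa [Module.supportDim_self_eq_ringKrullDim, supportDim_quot_ofList] at this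

/-- In a Cohen–Macaulay local ring, a sequence in the maximal ideal is regular iff it cuts the
dimension down by its length. -/
theorem isRegular_iff_dim (A : Type u) [CommRing A] [hA : LocCoh.IsCohenMacaulayLocalRing A]
    (xs : List A) (hmem : ∀ x ∈ xs, x ∈ IsLocalRing.maximalIdeal A) :
    IsRegular A xs ↔ ringKrullDim (A ⧸ Ideal.ofList xs) + xs.length = ringKrullDim A := by
  have h1 := (Groth.Agent.DepthLib.isCM_list xs A hA.supportDim_eq_depth hmem).1
  rw [Module.supportDim_self_eq_ringKrullDim, supportDim_quot_ofList] at h1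
  rw [← h1]
  constructor
  · intro h; exact h.toIsWeaklyRegular
  · intro h
    refine ⟨h, ?_⟩
    rw [smul_eq_mul, Ideal.mul_top]
    intro htop
    have hle : Ideal.ofList xs ≤ IsLocalRing.maximalIdeal A := by
      rw [Ideal.ofList, Ideal.span_le]
      intro x hx
      exact hmem x hx
    rw [← htop] at hle
    exact (IsLocalRing.maximalIdeal.isMaximal A).ne_top (top_le_iff.mp hle)

end Groth.Agent.Lib.FibRegSeqH8
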