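import Mathlib
import Groth.Prelude.Def_EGA4b
import Groth.Agent.Lib.FibCohSpec_helper8

set_option autoImplicit false
universe u

namespace Groth.Agent.Lib.FibRegSeqH8

open AlgebraicGeometry CategoryTheory

set_option maxHeartbeats 800000 in
/-- The fibre local ring of `S/I` at `q̄` is the quotient of the fibre local ring of `S` at `q` by
the image of `I`; in particular their dimensions agree (expressed through `fibCoh`). -/
theorem fibCoh_quot_eq (R S : Type u) [CommRing R] [CommRing S] [Algebra R S] (I : Ideal S)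
    (qb : Ideal (S ⧸ I)) [hqb : qb.IsPrime] (q : Ideal S) [hq : q.IsPrime]
    (hqq : qb.comap (algebraMap S (S ⧸ I)) = q) :
    ringKrullDim (EGA4.FibLocRing R S q ⧸ I.map (algebraMap S (EGA4.FibLocRing R S q))) =
      ((FibCohH8.fibCoh (Spec.map (CommRingCat.ofHom (algebraMap R (S ⧸ I))))
        (⟨qb, hqb⟩ : PrimeSpectrum (S ⧸ I)) : ℕ∞) : WithBot ℕ∞) := by
  set Sq := Localization.AtPrime q with hSq
  set I' := I.map (algebraMap S Sq) with hI'
  set J := (q.comap (algebraMap R S)).map (algebraMap R Sq) with hJ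
  let B := Sq ⧸ I'
  haveI : IsScalarTower R (S ⧸ I) B := IsScalarTower.of_algebraMap_eq fun r => by
    show Ideal.Quotient.mk I' (algebraMap R Sq r) =
      Ideal.Quotient.mk I' (algebraMap S Sq (algebraMap R S r))
    rw [← IsScalarTower.algebraMap_apply R S Sq]
  have hsub : Algebra.algebraMapSubmonoid (S ⧸ I) q.primeCompl = qb.primeCompl := by
    ext c
    constructor
    · rintro ⟨s, hs, rfl⟩
      intro hmem
      apply hs
      rw [← hqq]
      exact hmem
    · intro hc
      obtain ⟨s, rfl⟩ := Ideal.Quotient.mk_surjective c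
      refine ⟨s, ?_, rfl⟩
      intro hs
      apply hc
      rw [← hqq] at hs
      exact hs
  haveI : IsLocalization.AtPrime B qb := by
    unfold IsLocalization.AtPrime
    rw [← hsub]
    infer_instance
  rw [Groth.Agent.Lib.FibCohSpecH8.fibCoh_spec_eq (A := R) (C := S ⧸ I) (B := B) qb]
  have h1 : (qb.under R).map (algebraMap R B) = J.map (Ideal.Quotient.mk I') := by
    have : qb.under R = q.comap (algebraMap R S) := by
      rw [← hqq, Ideal.comap_comap, ← IsScalarTower.algebraMap_eq]
    rw [this, hJ, Ideal.map_map]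
    rfl
  have h2 : I.map (algebraMap S (EGA4.FibLocRing R S q)) = I'.map (Ideal.Quotient.mk J) := by
    rw [hI', Ideal.map_map]
    rfl
  rw [h1, h2]
  exact (ringKrullDim_eq_of_ringEquiv (DoubleQuot.quotQuotEquivComm I' J)).symm

end Groth.Agent.Lib.FibRegSeqH8
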