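import Mathlib
import Groth.Agent.Lib.FibRegSeq2_helper8
import Groth.Agent.Lib.FibRegSeq3_helper8
import Groth.Agent.Lib.FibCoh2_helper8
import Groth.Agent.Lib.ResTrdeg1_helper8

set_option autoImplicit false
universe u

namespace Groth.Agent.Lib.FibRegSeqH8

open AlgebraicGeometry CategoryTheory RingTheory.Sequence

/-- residue transcendence degree is unchanged on passing to a closed subscheme `Spec S/I`. -/
theorem resTrdeg_quot_eq (R S : Type u) [CommRing R] [CommRing S] [Algebra R S] (I : Ideal S)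
    (qb : Ideal (S ⧸ I)) [hqb : qb.IsPrime] (q : Ideal S) [hq : q.IsPrime]
    (hqq : qb.comap (algebraMap S (S ⧸ I)) = q) :
    Dual3.resTrdeg (Spec.map (CommRingCat.ofHom (algebraMap R (S ⧸ I))))
      (⟨qb, hqb⟩ : PrimeSpectrum (S ⧸ I)) =
    Dual3.resTrdeg (Spec.map (CommRingCat.ofHom (algebraMap R S))) (⟨q, hq⟩ : PrimeSpectrum S) := by
  set ι := Spec.map (CommRingCat.ofHom (algebraMap S (S ⧸ I))) with hι
  set f0 := Spec.map (CommRingCat.ofHom (algebraMap R S)) with hf0
  have hcomp : Spec.map (CommRingCat.ofHom (algebraMap R (S ⧸ I))) = ι ≫ f0 := by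
    rw [hι, hf0, ← Spec.map_comp, ← CommRingCat.ofHom_comp, ← IsScalarTower.algebraMap_eq]
  haveI : IsClosedImmersion ι :=
    IsClosedImmersion.spec_of_surjective _ Ideal.Quotient.mk_surjective
  have hpt : ι (⟨qb, hqb⟩ : PrimeSpectrum (S ⧸ I)) = (⟨q, hq⟩ : PrimeSpectrum S) := by
    apply PrimeSpectrum.ext
    exact hqq
  rw [ResTrdegH8.resTrdeg_congr hcomp, ResTrdegH8.resTrdeg_comp, hpt,
    ResTrdegH8.resTrdeg_eq_zero_of_lqf ι, add_zero]

end Groth.Agent.Lib.FibRegSeqH8

namespace Groth.Agent.Lib.FibRegSeqH8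

open AlgebraicGeometry CategoryTheory RingTheory.Sequence

set_option maxHeartbeats 800000 in
/-- **Local criterion**: at a point `q ⊇ (fs)` whose fibre local ring is Cohen–Macaulay, the images
of `fs` form a regular sequence in the fibre local ring iff the fibre dimension of `V(fs)` at `q`
is at most that of `Spec S` minus the length of `fs`. -/
theorem isRegular_fibLocRing_iff (R S : Type u) [CommRing R] [CommRing S] [Algebra R S]
    [Algebra.FiniteType R S] (fs : List S)
    (qb : Ideal (S ⧸ Ideal.ofList fs)) [hqb : qb.IsPrime] (q : Ideal S) [hq : q.IsPrime]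
    (hqq : qb.comap (algebraMap S (S ⧸ Ideal.ofList fs)) = q)
    [hCM : LocCoh.IsCohenMacaulayLocalRing (EGA4.FibLocRing R S q)] :
    IsRegular (EGA4.FibLocRing R S q) (fs.map (algebraMap S (EGA4.FibLocRing R S q))) ↔
      FlatMor.fibreDimAt (Spec.map (CommRingCat.ofHom (algebraMap R (S ⧸ Ideal.ofList fs))))
        (⟨qb, hqb⟩ : PrimeSpectrum (S ⧸ Ideal.ofList fs)) + (fs.length : WithBot ℕ∞) ≤
      FlatMor.fibreDimAt (Spec.map (CommRingCat.ofHom (algebraMap R S)))
        (⟨q, hq⟩ : PrimeSpectrum S) := by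
  set A := EGA4.FibLocRing R S q with hA
  set xs := fs.map (algebraMap S A) with hxs
  haveI : IsNoetherianRing A := hCM.toIsNoetherian
  haveI : IsLocalRing A := hCM.toIsLocalRing
  set g := Spec.map (CommRingCat.ofHom (algebraMap R (S ⧸ Ideal.ofList fs))) with hg
  set f0 := Spec.map (CommRingCat.ofHom (algebraMap R S)) with hf0
  haveI : Algebra.FiniteType R (S ⧸ Ideal.ofList fs) :=
    Algebra.FiniteType.of_surjective (Ideal.Quotient.mkₐ R _) (Ideal.Quotient.mkₐ_surjective R _)
  haveI : LocallyOfFiniteType f0 := by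
    rw [hf0, HasRingHomProperty.Spec_iff (P := @LocallyOfFiniteType)]
    exact (RingHom.finiteType_algebraMap).mpr inferInstance
  haveI : LocallyOfFiniteType g := by
    rw [hg, HasRingHomProperty.Spec_iff (P := @LocallyOfFiniteType)]
    exact (RingHom.finiteType_algebraMap).mpr inferInstance
  -- the sequence lies in the maximal ideal
  have hle : Ideal.ofList fs ≤ q := by
    rw [← hqq]
    intro s hs
    rw [Ideal.mem_comap]
    have : algebraMap S (S ⧸ Ideal.ofList fs) s = 0 := by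
      rw [Ideal.Quotient.algebraMap_eq, Ideal.Quotient.eq_zero_iff_mem]; exact hs
    rw [this]; exact zero_mem _
  have hmem : ∀ x ∈ xs, x ∈ IsLocalRing.maximalIdeal A := by
    intro x hx
    rw [hxs, List.mem_map] at hx
    obtain ⟨s, hs, rfl⟩ := hx
    have hsq : s ∈ q := hle (Ideal.subset_span hs)
    have h1 : algebraMap S (Localization.AtPrime q) s ∈
        IsLocalRing.maximalIdeal (Localization.AtPrime q) :=
      (IsLocalization.AtPrime.to_map_mem_maximal_iff (Localization.AtPrime q) q s).mpr hsq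
    rw [IsLocalRing.mem_maximalIdeal, mem_nonunits_iff] at h1 ⊢
    intro hu
    apply h1
    haveI : IsLocalHom (Ideal.Quotient.mk ((q.comap (algebraMap R S)).map
        (algebraMap R (Localization.AtPrime q)))) :=
      IsLocalHom.of_surjective _ Ideal.Quotient.mk_surjective
    exact (isUnit_map_iff (Ideal.Quotient.mk ((q.comap (algebraMap R S)).map
        (algebraMap R (Localization.AtPrime q)))) _).mp hu
  rw [isRegular_iff_dim A xs hmem]
  have hlen : xs.length = fs.length := by rw [hxs, List.length_map]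
  have hofl : Ideal.ofList xs = (Ideal.ofList fs).map (algebraMap S A) := by
    rw [hxs, Ideal.map_ofList]
  have hb := fibCoh_quot_eq R S (Ideal.ofList fs) qb q hqq
  have ha : ringKrullDim A = ((FibCohH8.fibCoh f0 (⟨q, hq⟩ : PrimeSpectrum S) : ℕ∞) : WithBot ℕ∞) :=
    (Groth.Agent.Lib.FibCohSpecH8.fibCoh_spec_eq (A := R) (C := S)
      (B := Localization.AtPrime q) q).symm
  have hKrull := dim_le_dim_quot_add A xs hmem
  have hafin : ((FibCohH8.fibCoh f0 (⟨q, hq⟩ : PrimeSpectrum S) : ℕ∞) : WithBot ℕ∞) ≠ ⊤ := by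
    rw [← ha]; exact ringKrullDim_ne_top
  rw [hofl, hlen, hb, ha] at hKrull
  rw [hofl, hlen, hb, ha]
  rw [FibCohH8.fibreDimAt_eq g, FibCohH8.fibreDimAt_eq f0,
    resTrdeg_quot_eq R S (Ideal.ofList fs) qb q hqq]
  obtain ⟨n, hn⟩ := Groth.Agent.ResQuot2H8.exists_trdeg_nat f0 (⟨q, hq⟩ : PrimeSpectrum S)
  have hn' : Dual3.resTrdeg f0 (⟨q, hq⟩ : PrimeSpectrum S) = n := hn
  rw [hn', Cardinal.toENat_nat]
  set a := FibCohH8.fibCoh f0 (⟨q, hq⟩ : PrimeSpectrum S) with hadef
  set b := FibCohH8.fibCoh g (⟨qb, hqb⟩ : PrimeSpectrum (S ⧸ Ideal.ofList fs)) with hbdef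
  clear_value a b
  have hcast : ((fs.length : ℕ) : WithBot ℕ∞) = (((fs.length : ℕ) : ℕ∞) : WithBot ℕ∞) := rfl
  have hcastn : (((n : ℕ) : ℕ∞) : WithBot ℕ∞) = (((n : ℕ) : ℕ∞) : WithBot ℕ∞) := rfl
  rw [hcast] at hKrull ⊢
  rw [← WithBot.coe_add, WithBot.coe_le_coe] at hKrull
  rw [← WithBot.coe_add, ← WithBot.coe_add, ← WithBot.coe_add, ← WithBot.coe_add,
    WithBot.coe_le_coe, WithBot.coe_inj]
  have ha' : a ≠ ⊤ := fun h => hafin (by rw [h]; rfl)
  obtain ⟨a0, rfl⟩ := ENat.ne_top_iff_exists.mp ha'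
  cases b using ENat.recTopCoe with
  | top =>
    simp
  | coe b0 =>
    have h1 : a0 ≤ b0 + fs.length := by exact_mod_cast hKrull
    constructor
    · intro h
      have h2 : b0 + fs.length = a0 := by exact_mod_cast h
      have h3 : b0 + n + fs.length ≤ a0 + n := by omega
      exact_mod_cast h3
    · intro h
      have h2 : b0 + n + fs.length ≤ a0 + n := by exact_mod_cast h
      have h3 : b0 + fs.length = a0 := by omega
      exact_mod_cast h3

end Groth.Agent.Lib.FibRegSeqH8
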