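import Mathlib
import Groth.Agent.Lib.FibRegSeq1_helper8
import Groth.Agent.Lib.FibRegSeq4_helper8
import Groth.Agent.Lib.Chev4_helper8
import Groth.Agent.Lib.FlatCM2_helper9
import Groth.Agent.Lib.EquidimIrr_helper8

set_option autoImplicit false
universe u

namespace Groth.Agent.Lib.FibRegSeqH8

open AlgebraicGeometry CategoryTheory RingTheory.Sequence

/-- Cohen–Macaulay fibre rings have Cohen–Macaulay fibre local rings (no flatness or Noetherian
hypothesis). -/
theorem cm_fibLocRing (R S : Type u) [CommRing R] [CommRing S] [Algebra R S]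
    (hCM : ∀ p : PrimeSpectrum R, LocCoh.IsCohenMacaulayRing (p.asIdeal.Fiber S))
    (Q : Ideal S) [Q.IsPrime] : LocCoh.IsCohenMacaulayLocalRing (EGA4.FibLocRing R S Q) := by
  obtain ⟨q', hq', ⟨e3⟩⟩ := Groth.Agent.FlatCM.exists_fibre_equiv R S Q
  have h1 : LocCoh.IsCohenMacaulayLocalRing (Localization.AtPrime q') :=
    (hCM ⟨Q.comap (algebraMap R S), inferInstance⟩).isCohenMacaulayLocalRing_localization q'
  exact Groth.Agent.FlatCM.isCMLocalRing_of_ringEquiv (T := Localization.AtPrime q') e3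

set_option maxHeartbeats 800000 in
theorem main9174 (R S : Type u) [CommRing R] [CommRing S]
    [Algebra R S] [Algebra.FiniteType R S] (d : ℕ)
    (hCM : ∀ p : PrimeSpectrum R, LocCoh.IsCohenMacaulayRing (p.asIdeal.Fiber S))
    (heq : ∀ p : PrimeSpectrum R, ∀ P ∈ minimalPrimes (p.asIdeal.Fiber S),
      ringKrullDim (p.asIdeal.Fiber S ⧸ P) = (d : WithBot ℕ∞))
    (f : List S) :
    ∃ U : Set (PrimeSpectrum S), IsOpen U ∧ ∀ q : PrimeSpectrum S, Ideal.ofList f ≤ q.asIdeal →
      (q ∈ U ↔ RingTheory.Sequence.IsRegular (EGA4.FibLocRing R S q.asIdeal)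
        (f.map (algebraMap S (EGA4.FibLocRing R S q.asIdeal)))) := by
  set I := Ideal.ofList f with hI
  set g := Spec.map (CommRingCat.ofHom (algebraMap R (S ⧸ I))) with hg
  haveI : Algebra.FiniteType R (S ⧸ I) :=
    Algebra.FiniteType.of_surjective (Ideal.Quotient.mkₐ R _) (Ideal.Quotient.mkₐ_surjective R _)
  haveI : LocallyOfFiniteType g := by
    rw [hg, HasRingHomProperty.Spec_iff (P := @LocallyOfFiniteType)]
    exact (RingHom.finiteType_algebraMap).mpr inferInstance
  let W : Set (PrimeSpectrum (S ⧸ I)) :=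
    {qb | FlatMor.fibreDimAt g qb + (f.length : WithBot ℕ∞) ≤ (d : WithBot ℕ∞)}
  have hWopen : IsOpen W := by
    by_cases hid : f.length ≤ d
    · have h1 : IsOpen {x : PrimeSpectrum (S ⧸ I) |
          FlatMor.fibreDimAt g x ≤ ((d - f.length : ℕ) : WithBot ℕ∞)} :=
        ChevH8.isOpen_fibreDimAt_le g (d - f.length)
      convert h1 using 1
      ext qb
      obtain ⟨D, hD⟩ := EquidimIrrH8.exists_nat_fibreDimAt g qb
      show FlatMor.fibreDimAt g qb + (f.length : WithBot ℕ∞) ≤ (d : WithBot ℕ∞) ↔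
        FlatMor.fibreDimAt g qb ≤ ((d - f.length : ℕ) : WithBot ℕ∞)
      rw [hD]
      constructor
      · intro h
        have h2 : D + f.length ≤ d := by exact_mod_cast h
        have h3 : D ≤ d - f.length := by omega
        exact_mod_cast h3
      · intro h
        have h2 : D ≤ d - f.length := by exact_mod_cast h
        have h3 : D + f.length ≤ d := by omega
        exact_mod_cast h3
    · have : W = ∅ := by
        ext qb
        simp only [Set.mem_empty_iff_false, iff_false]
        obtain ⟨D, hD⟩ := EquidimIrrH8.exists_nat_fibreDimAt g qb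
        show ¬ (FlatMor.fibreDimAt g qb + (f.length : WithBot ℕ∞) ≤ (d : WithBot ℕ∞))
        rw [hD]
        intro h
        have h2 : D + f.length ≤ d := by exact_mod_cast h
        omega
      rw [this]
      exact isOpen_empty
  have hemb := PrimeSpectrum.isClosedEmbedding_comap_of_surjective (S ⧸ I) (Ideal.Quotient.mk I)
    Ideal.Quotient.mk_surjective
  refine ⟨(PrimeSpectrum.comap (Ideal.Quotient.mk I) '' Wᶜ)ᶜ, ?_, ?_⟩
  · rw [isOpen_compl_iff]
    exact hemb.isClosedMap _ hWopen.isClosed_compl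
  · intro q hq
    have hker : RingHom.ker (Ideal.Quotient.mk I) ≤ q.asIdeal := by rw [Ideal.mk_ker]; exact hq
    set qb := q.asIdeal.map (Ideal.Quotient.mk I) with hqb
    haveI hqbp : qb.IsPrime :=
      Ideal.map_isPrime_of_surjective Ideal.Quotient.mk_surjective hker
    have hqq : qb.comap (algebraMap S (S ⧸ I)) = q.asIdeal := by
      rw [hqb, Ideal.Quotient.algebraMap_eq,
        Ideal.comap_map_of_surjective _ Ideal.Quotient.mk_surjective, ← RingHom.ker_eq_comap_bot]
      exact sup_eq_left.mpr hker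
    have hcomap : PrimeSpectrum.comap (Ideal.Quotient.mk I) ⟨qb, hqbp⟩ = q := by
      apply PrimeSpectrum.ext
      exact hqq
    have hmemU : q ∈ (PrimeSpectrum.comap (Ideal.Quotient.mk I) '' Wᶜ)ᶜ ↔
        (⟨qb, hqbp⟩ : PrimeSpectrum (S ⧸ I)) ∈ W := by
      rw [Set.mem_compl_iff]
      constructor
      · intro h
        by_contra hW
        exact h ⟨⟨qb, hqbp⟩, hW, hcomap⟩
      · rintro h ⟨qb', hqb', hc⟩
        have : qb' = ⟨qb, hqbp⟩ := hemb.injective (hc.trans hcomap.symm)
        rw [this] at hqb'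
        exact hqb' h
    rw [hmemU]
    haveI := cm_fibLocRing R S hCM q.asIdeal
    rw [isRegular_fibLocRing_iff R S f qb q.asIdeal hqq]
    have hd := fibreDimAt_of_equidim R S d heq q
    show FlatMor.fibreDimAt g ⟨qb, hqbp⟩ + (f.length : WithBot ℕ∞) ≤ (d : WithBot ℕ∞) ↔ _
    rw [← hd]

end Groth.Agent.Lib.FibRegSeqH8
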