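import Mathlib
import Groth.Agent.Lib.FibCat4_helper6
import Groth.Agent.Lib.FibCat7_helper6
import Groth.Agent.Lib.FibCat12_helper6
import Groth.Agent.Lib.FibCat14_helper6

set_option autoImplicit false

/-! `C/X ⥤ C/Y` is a representable 1-morphism. -/

universe v u
open CategoryTheory CategoryTheory.Limits FibCat

namespace Groth.Agent.Lib.FibRepOver_helper7
open Groth.Agent.Lib.FibCat_helper6 Groth.Agent.Lib.FibCat4_helper6 Groth.Agent.Lib.FibCat7_helper6
  Groth.Agent.Lib.FibCat12_helper6 Groth.Agent.Lib.FibCat14_helper6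

section gen
variable {D : Type*} [Category D]

lemma e3id {A B E : D} (h1 : A = B) (h2 : B = E) (h3 : E = A) :
    𝟙 A = eqToHom h1 ≫ eqToHom h2 ≫ eqToHom h3 := by
  subst h1; subst h2; simp

lemma eid3 {A B E : D} (h1 : A = B) (h2 : B = E) (h3 : A = E) :
    eqToHom h1 ≫ 𝟙 B ≫ eqToHom h2 = eqToHom h3 := by
  subst h1; subst h2; simp

lemma gen_cond {P Q R T : D} (E1 : P = Q) (E2 : P = R) (ez : R = Q) {u : Q ⟶ T} {v : R ⟶ T}
    (h : eqToHom E1 ≫ u = eqToHom E2 ≫ v) : v = eqToHom ez ≫ u := by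
  subst E1; subst E2; simpa using h.symm

lemma gen_mm {P R S Q T : D} (k : R ⟶ T) (h1 : P = R) (h2 : T = S) (h3 : S = T) (h4 : P = Q)
    (h5 : Q = R) :
    eqToHom h1 ≫ k ≫ eqToHom h2 ≫ eqToHom h3 = eqToHom h4 ≫ eqToHom h5 ≫ k := by
  subst h1; subst h2; subst h4; simp

lemma gen_key {P R S S' Q : D} (h1 : P = R) (x : R ⟶ S) (h2 : S = S') (h3 : S' = S) (h4 : P = Q)
    (y : Q ⟶ S) (ez : Q = R)
    (h : (eqToHom h1 ≫ x ≫ eqToHom h2) ≫ eqToHom h3 = eqToHom h4 ≫ y) : y = eqToHom ez ≫ x := by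
  subst h1; subst h2; subst h4; simpa using h.symm

lemma gen_snd {Q R S T : D} (ez : Q = R) (x : R ⟶ S) (p : S ⟶ T) (bh : Q ⟶ T) (y : Q ⟶ S)
    (hy : y = eqToHom ez ≫ x) (h : y ≫ p = bh) : x ≫ p = eqToHom ez.symm ≫ bh := by
  subst ez; subst hy; simpa using h

end gen

variable {C : Type u} [Category.{v} C] [HasPullbacks C] {X Y U : C} (f : X ⟶ Y)
  (G : overCat U ⥤ᵇ overCat Y)

/-- the morphism attached to `G` -/
noncomputable abbrev gg : U ⟶ Y := sliceMorB G

omit [HasPullbacks C] in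
lemma G_obj_left (a : Over U) : (G.obj a).left = a.left := slice_obj_left G.toFunctor G.w a

omit [HasPullbacks C] in
lemma G_obj_hom (a : Over U) :
    (G.obj a).hom = eqToHom (G_obj_left G a) ≫ a.hom ≫ gg G :=
  slice_obj_hom G.toFunctor G.w a

omit [HasPullbacks C] in
lemma G_map_left {a a' : Over U} (k : a ⟶ a') :
    (G.map k).left = eqToHom (G_obj_left G a) ≫ k.left ≫ eqToHom (G_obj_left G a').symm :=
  slice_map_left G.toFunctor G.w k

noncomputable def a₀ : Over U := Over.mk (pullback.fst (gg G) f)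
noncomputable def b₀ : Over X := Over.mk (pullback.snd (gg G) f)

noncomputable def θ₀ : G.obj (a₀ f G) ≅ (overMap f).obj (b₀ f G) :=
  Over.isoMk (eqToIso (G_obj_left G (a₀ f G))) (by
    show eqToHom (G_obj_left G (a₀ f G)) ≫ (pullback.snd (gg G) f ≫ f) = (G.obj (a₀ f G)).hom
    have h := G_obj_hom G (a₀ f G)
    exact (h.trans (congrArg (fun q => eqToHom (G_obj_left G (a₀ f G)) ≫ q)
      (pullback.condition : pullback.fst (gg G) f ≫ gg G = pullback.snd (gg G) f ≫ f))).symm)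

lemma θ₀_left : (θ₀ f G).hom.left = eqToHom (G_obj_left G (a₀ f G)) := rfl

lemma θ₀_lift :
    (overCat Y).p.IsHomLift (𝟙 ((overCat U).p.obj (a₀ f G))) (θ₀ f G).hom := by
  apply IsHomLift.of_fac (overCat Y).p _ _ (G_obj_left G (a₀ f G)) rfl
  show 𝟙 _ = eqToHom _ ≫ (θ₀ f G).hom.left ≫ eqToHom _
  rw [θ₀_left]
  exact e3id _ _ _

/-- the terminal object -/
noncomputable def t₀ : (fp G (overMap f)).obj :=
  fpObjMk (F := G) (G := overMap f) (a₀ f G) (b₀ f G) (θ₀ f G) (θ₀_lift f G)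

section
variable (z : (fp G (overMap f)).obj)

omit [HasPullbacks C] in
lemma ez : z.obj.snd.left = z.obj.fst.left := fp_obj_snd_proj z

omit [HasPullbacks C] in
lemma θ_left :
    z.obj.iso.hom.left = eqToHom ((G_obj_left G z.obj.fst).trans (ez f G z).symm) := by
  haveI : (overCat Y).p.IsHomLift (𝟙 z.obj.fst.left) z.obj.iso.hom := z.property
  have h := over_left_eq z.obj.iso.hom (𝟙 z.obj.fst.left)
  exact h.trans (eid3 _ _ _)

omit [HasPullbacks C] in
lemma cond : z.obj.fst.hom ≫ gg G = (eqToHom (ez f G z).symm ≫ z.obj.snd.hom) ≫ f := by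
  have h : z.obj.iso.hom.left ≫ (z.obj.snd.hom ≫ f) = (G.obj z.obj.fst).hom :=
    Over.w z.obj.iso.hom
  have h3 : eqToHom ((G_obj_left G z.obj.fst).trans (ez f G z).symm) ≫ (z.obj.snd.hom ≫ f) =
      eqToHom (G_obj_left G z.obj.fst) ≫ (z.obj.fst.hom ≫ gg G) :=
    ((congrArg (fun q => q ≫ (z.obj.snd.hom ≫ f)) (θ_left f G z)).symm.trans h).trans
      (G_obj_hom G z.obj.fst)
  have h4 := gen_cond _ _ (ez f G z).symm h3
  rw [Category.assoc]
  exact h4

/-- the map to the fibre product -/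
noncomputable def kk : z.obj.fst.left ⟶ pullback (gg G) f :=
  pullback.lift z.obj.fst.hom (eqToHom (ez f G z).symm ≫ z.obj.snd.hom) (cond f G z)

noncomputable def αm : z.obj.fst ⟶ a₀ f G :=
  Over.homMk (kk f G z) (pullback.lift_fst _ _ _)

noncomputable def βm : z.obj.snd ⟶ b₀ f G :=
  Over.homMk (eqToHom (ez f G z) ≫ kk f G z) (by
    show (eqToHom (ez f G z) ≫ kk f G z) ≫ pullback.snd (gg G) f = z.obj.snd.hom
    rw [Category.assoc, kk, pullback.lift_snd]
    simp)

lemma αm_left : (αm f G z).left = kk f G z := rfl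
lemma βm_left : (βm f G z).left = eqToHom (ez f G z) ≫ kk f G z := rfl

noncomputable def mm : z ⟶ t₀ f G :=
  fpHomMk (αm f G z) (βm f G z) (by
    apply Over.OverMorphism.ext
    show (G.map (αm f G z)).left ≫ (θ₀ f G).hom.left =
      z.obj.iso.hom.left ≫ ((overMap f).map (βm f G z)).left
    have e2 : ((overMap f).map (βm f G z)).left = eqToHom (ez f G z) ≫ kk f G z := rfl
    rw [G_map_left G (αm f G z), θ₀_left, θ_left, e2, αm_left]
    simp only [Category.assoc]
    exact gen_mm _ _ _ _ _ _)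

lemma uniq (m' : z ⟶ t₀ f G) : m' = mm f G z := by
  have hw : G.map m'.hom.fst ≫ (θ₀ f G).hom = z.obj.iso.hom ≫ (overMap f).map m'.hom.snd :=
    m'.hom.w
  have hwl : (G.map m'.hom.fst).left ≫ (θ₀ f G).hom.left =
      z.obj.iso.hom.left ≫ m'.hom.snd.left := congrArg (fun q => q.left) hw
  rw [G_map_left G m'.hom.fst, θ₀_left, θ_left] at hwl
  have key : m'.hom.snd.left = eqToHom (ez f G z) ≫ m'.hom.fst.left :=
    gen_key _ _ _ _ _ _ _ hwl
  have hfst : m'.hom.fst.left = kk f G z := by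
    apply pullback.hom_ext
    · exact (Over.w m'.hom.fst).trans (pullback.lift_fst _ _ _).symm
    · exact (gen_snd (ez f G z) _ _ _ _ key (Over.w m'.hom.snd)).trans
        (pullback.lift_snd _ _ _).symm
  refine fp_hom_ext ?_ ?_
  · apply Over.OverMorphism.ext
    exact hfst
  · apply Over.OverMorphism.ext
    show m'.hom.snd.left = eqToHom (ez f G z) ≫ kk f G z
    exact key.trans (congrArg (fun q => eqToHom (ez f G z) ≫ q) hfst)

end

noncomputable def t₀_isTerminal : IsTerminal (t₀ f G) :=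
  IsTerminal.ofUniqueHom (fun z => mm f G z) (fun z m' => uniq f G z m')

theorem main : IsRepresentable1 (overMap f) := by
  intro U G
  have hfib : IsFibGrpd (fp G (overMap f)).p :=
    isFibGrpd_fp G (overMap f) (isFibGrpd_over_forget U) (isFibGrpd_over_forget X)
      (isFibGrpd_over_forget Y)
  exact isRepresentable_of_isTerminal hfib (t₀ f G) (t₀_isTerminal f G)

end Groth.Agent.Lib.FibRepOver_helper7
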