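/-
helper5: ring form of Chevalley's semicontinuity theorem for fibre dimensions.
* `fibCoheight_eq_trdeg`: the coheight of a prime in its fibre is a transcendence degree;
* `fibreDimAt_spec_eq`: local dimension of the fibre of `Spec C → Spec A` in ring terms;
* `isClosed_fibLocDim_ge` (from helper8's `isClosed_fibreDimAt_ge`).
APPEND-ONLY once landed.
-/
import Mathlib
import Groth.Agent.Lib.ResTrdegSpec_helper8
import Groth.Agent.Lib.FibRect1_helper5
import Groth.Agent.Lib.DimFT_helper8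
import Groth.Agent.Lib.DimFT3_helper8
import Groth.Agent.Lib.FibCohSpec_helper8
import Groth.Agent.Lib.FibCoh2_helper8
import Groth.Agent.Lib.AffDim10_helper8

set_option autoImplicit false
universe u

open TensorProduct AlgebraicGeometry CategoryTheory

namespace Groth.Agent.Lib.FibRkH5

open Groth.Agent.Lib.FibRectH5 Groth.Agent.Lib.FibSkH5

/-- transcendence degree of a domain over a field computed on subrings of which they are
"fraction rings" -/
theorem trdeg_eq_of_fraction_ring_square {R0 T0 K T1 : Type u} [CommRing R0] [CommRing T0]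
    [Field K] [CommRing T1] [IsDomain T1] [Algebra R0 T0] [Algebra K T1]
    (ιR : R0 →+* K) (ιT : T0 →+* T1)
    (hα : Function.Injective (algebraMap R0 T0)) (hιR : Function.Injective ιR)
    (hιT : Function.Injective ιT)
    (hsq : ∀ r, algebraMap K T1 (ιR r) = ιT (algebraMap R0 T0 r))
    (hK : ∀ y : K, ∃ a t : R0, t ≠ 0 ∧ y * ιR t = ιR a)
    (hT : ∀ y : T1, ∃ (a : T0) (t : R0), t ≠ 0 ∧ y * ιT (algebraMap R0 T0 t) = ιT a) :
    Algebra.trdeg K T1 = Algebra.trdeg R0 T0 := by
  let L := FractionRing T1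
  haveI : FaithfulSMul K T1 := (faithfulSMul_iff_algebraMap_injective _ _).mpr
    (algebraMap K T1).injective
  haveI : FaithfulSMul T1 L := (faithfulSMul_iff_algebraMap_injective _ _).mpr
    (IsFractionRing.injective T1 L)
  haveI : Algebra.IsAlgebraic T1 L := by
    apply Groth.Agent.Lib.ResTrdegSpecH8.isAlgebraic_of_fraction
    intro y
    obtain ⟨⟨a, t⟩, h⟩ := IsLocalization.surj (nonZeroDivisors T1) y
    exact ⟨a, t.1, nonZeroDivisors.ne_zero t.2, h⟩
  rw [Groth.Agent.DimIneqH8.trdeg_eq_of_algebraic_top K T1 L]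
  refine Groth.Agent.Lib.ResTrdegSpecH8.trdeg_eq_of_fraction_square ιR
    ((algebraMap T1 L).comp ιT) hα hιR
    ((IsFractionRing.injective T1 L).comp hιT) ?_ hK ?_
  · intro r
    rw [IsScalarTower.algebraMap_apply K T1 L, hsq]
    rfl
  · intro y
    obtain ⟨⟨b1, b2⟩, h⟩ := IsLocalization.surj (nonZeroDivisors T1) y
    obtain ⟨a1, t1, ht1, h1⟩ := hT b1
    obtain ⟨a2, t2, ht2, h2⟩ := hT b2.1
    have hb2 : (b2 : T1) ≠ 0 := nonZeroDivisors.ne_zero b2.2
    have hιt : ∀ t : R0, t ≠ 0 → ιT (algebraMap R0 T0 t) ≠ 0 := by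
      intro t ht h0
      apply ht
      apply hα
      apply hιT
      rw [h0, map_zero, map_zero]
    refine ⟨a1 * algebraMap R0 T0 t2, a2 * algebraMap R0 T0 t1, ?_, ?_⟩
    · intro h0
      have : ιT (a2 * algebraMap R0 T0 t1) = 0 := by rw [h0, map_zero]
      rw [map_mul, ← h2] at this
      rcases mul_eq_zero.mp this with h3 | h3
      · rcases mul_eq_zero.mp h3 with h4 | h4
        · exact hb2 h4
        · exact hιt t2 ht2 h4
      · exact hιt t1 ht1 h3
    · simp only [RingHom.comp_apply, map_mul]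
      rw [← h1, ← h2]
      simp only [map_mul]
      have h' : y * algebraMap T1 L (b2 : T1) = algebraMap T1 L b1 := h
      rw [← h']
      ring

variable {A C : Type u} [CommRing A] [CommRing C] [Algebra A C]

/-- the coheight of `q` in its fibre is the transcendence degree of `C/q` over `A/(q ∩ A)` -/
theorem fibCoheight_eq_trdeg [Algebra.FiniteType A C] (q : Ideal C) [hq : q.IsPrime] :
    ∃ n : ℕ, fibCoheight A q = (n : ℕ∞) ∧
      Algebra.trdeg (A ⧸ q.under A) (C ⧸ q) = (n : Cardinal.{u}) := by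
  set p := q.under A with hp
  haveI : p.IsPrime := Ideal.comap_isPrime _ _
  haveI : Algebra.FiniteType p.ResidueField (p.Fiber C) := inferInstance
  set 𝔔 : PrimeSpectrum (p.Fiber C) :=
    PrimeSpectrum.primesOverOrderIsoFiber A C p (fibPoint A q) with h𝔔
  have hco : Order.coheight 𝔔 = fibCoheight A q := Order.coheight_orderIso _ _
  haveI : Algebra.FiniteType p.ResidueField (p.Fiber C ⧸ 𝔔.asIdeal) :=
    Algebra.FiniteType.of_surjective (Ideal.Quotient.mkₐ p.ResidueField 𝔔.asIdeal)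
      (Ideal.Quotient.mkₐ_surjective p.ResidueField 𝔔.asIdeal)
  obtain ⟨n, -, h2, h3, -⟩ := Groth.Agent.DimFTH8.exists_dim_eq p.ResidueField
    (p.Fiber C ⧸ 𝔔.asIdeal)
  have h4 := Groth.Agent.DimFT3H8.ringKrullDim_quotient_eq_coheight 𝔔.asIdeal
  rw [h3] at h4
  have h5 : Order.coheight 𝔔 = (n : ℕ∞) := by
    have : (⟨𝔔.asIdeal, 𝔔.isPrime⟩ : PrimeSpectrum _) = 𝔔 := rfl
    rw [this] at h4
    exact_mod_cast h4.symm
  refine ⟨n, by rw [← hco, h5], ?_⟩
  rw [← h2]
  symm
  have hq' : 𝔔.asIdeal.comap (Algebra.TensorProduct.includeRight :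
      C →ₐ[A] p.Fiber C) = q := by
    have := (PrimeSpectrum.primesOverOrderIsoFiber A C p).symm_apply_apply (fibPoint A q)
    rw [← PrimeSpectrum.coe_primesOverOrderIsoFiber_symm_apply]
    exact congrArg Subtype.val this
  let φ : C →+* p.Fiber C ⧸ 𝔔.asIdeal :=
    (Ideal.Quotient.mk 𝔔.asIdeal).comp
      (Algebra.TensorProduct.includeRight : C →ₐ[A] p.Fiber C).toRingHom
  have hφker : RingHom.ker φ = q := by
    ext c
    rw [RingHom.mem_ker]
    show (Ideal.Quotient.mk 𝔔.asIdeal) _ = 0 ↔ _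
    rw [Ideal.Quotient.eq_zero_iff_mem, ← hq']
    rfl
  let ιT : C ⧸ q →+* p.Fiber C ⧸ 𝔔.asIdeal :=
    Ideal.Quotient.lift q φ (fun c hc => by rw [← RingHom.mem_ker, hφker]; exact hc)
  refine trdeg_eq_of_fraction_ring_square (algebraMap (A ⧸ p) p.ResidueField) ιT
    Ideal.algebraMap_quotient_injective (IsFractionRing.injective (A ⧸ p) p.ResidueField) ?_ ?_ ?_ ?_
  · apply RingHom.lift_injective_of_ker_le_ideal
    intro c hc
    rw [hφker] at hc
    exact hc
  · intro r
    obtain ⟨a, rfl⟩ := Ideal.Quotient.mk_surjective r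
    rw [Ideal.Quotient.algebraMap_mk_of_liesOver, Ideal.Quotient.lift_mk]
    show algebraMap p.ResidueField (p.Fiber C ⧸ 𝔔.asIdeal)
      (algebraMap (A ⧸ p) p.ResidueField (Ideal.Quotient.mk p a)) =
      (Ideal.Quotient.mk 𝔔.asIdeal) ((1 : p.ResidueField) ⊗ₜ[A] (algebraMap A C a))
    rw [IsScalarTower.algebraMap_apply p.ResidueField (p.Fiber C) (p.Fiber C ⧸ 𝔔.asIdeal)]
    show (Ideal.Quotient.mk 𝔔.asIdeal) _ = _
    congr 1
    rw [Algebra.TensorProduct.algebraMap_apply, Algebra.algebraMap_self_apply]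
    have : algebraMap (A ⧸ p) p.ResidueField (Ideal.Quotient.mk p a) =
        algebraMap A p.ResidueField a := rfl
    rw [this, Algebra.algebraMap_eq_smul_one, Algebra.algebraMap_eq_smul_one (A := C),
      TensorProduct.smul_tmul]
  · intro y
    obtain ⟨⟨a, t⟩, h⟩ := IsLocalization.surj (nonZeroDivisors (A ⧸ p)) y
    exact ⟨a, t.1, nonZeroDivisors.ne_zero t.2, h⟩
  · intro y
    obtain ⟨x, rfl⟩ := Ideal.Quotient.mk_surjective y
    obtain ⟨r, hr, s, e⟩ := Ideal.Fiber.exists_smul_eq_one_tmul p x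
    refine ⟨Ideal.Quotient.mk q s, Ideal.Quotient.mk p r, ?_, ?_⟩
    · rw [Ne, Ideal.Quotient.eq_zero_iff_mem]
      exact hr
    · rw [Ideal.Quotient.algebraMap_mk_of_liesOver, Ideal.Quotient.lift_mk,
        Ideal.Quotient.lift_mk]
      show (Ideal.Quotient.mk 𝔔.asIdeal) x *
        (Ideal.Quotient.mk 𝔔.asIdeal) ((1 : p.ResidueField) ⊗ₜ[A] (algebraMap A C r)) =
        (Ideal.Quotient.mk 𝔔.asIdeal) ((1 : p.ResidueField) ⊗ₜ[A] s)
      rw [← map_mul, ← e]
      congr 1
      rw [Algebra.algebraMap_eq_smul_one (A := C), TensorProduct.tmul_smul, mul_smul_comm]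
      rw [show ((1 : p.ResidueField) ⊗ₜ[A] (1 : C) : p.Fiber C) = 1 from rfl, mul_one]

theorem locallyOfFiniteType_spec [Algebra.FiniteType A C] :
    LocallyOfFiniteType (Spec.map (CommRingCat.ofHom (algebraMap A C))) := by
  rw [HasRingHomProperty.Spec_iff (P := @LocallyOfFiniteType)]
  show (algebraMap A C).FiniteType
  exact (RingHom.finiteType_algebraMap (A := A) (B := C)).mpr inferInstance

/-- the local dimension of the fibre of `Spec C → Spec A` at `q` in ring terms -/
theorem fibreDimAt_spec_eq [Algebra.FiniteType A C] (q : Ideal C) [hq : q.IsPrime] :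
    FlatMor.fibreDimAt (Spec.map (CommRingCat.ofHom (algebraMap A C)))
        (⟨q, hq⟩ : PrimeSpectrum C) =
      ringKrullDim (Fib A q) + ((fibCoheight A q : ℕ∞) : WithBot ℕ∞) := by
  haveI := locallyOfFiniteType_spec (A := A) (C := C)
  rw [FibCohH8.fibreDimAt_eq,
    Groth.Agent.Lib.FibCohSpecH8.fibCoh_spec_eq (B := Localization.AtPrime q) q,
    Groth.Agent.Lib.ResTrdegSpecH8.resTrdeg_spec q]
  obtain ⟨n, h1, h2⟩ := fibCoheight_eq_trdeg (A := A) q
  rw [h1, h2, Cardinal.toENat_nat]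

/-- **ring form of Chevalley's semicontinuity theorem** -/
theorem isClosed_fibLocDim_ge [Algebra.FiniteType A C] (j : ℕ) :
    IsClosed {q : PrimeSpectrum C | (j : WithBot ℕ∞) ≤
      ringKrullDim (Fib A q.asIdeal) + ((fibCoheight A q.asIdeal : ℕ∞) : WithBot ℕ∞)} := by
  haveI := locallyOfFiniteType_spec (A := A) (C := C)
  have h := Groth.Agent.Lib.AffDimH8.isClosed_fibreDimAt_ge
    (Spec.map (CommRingCat.ofHom (algebraMap A C))) j
  have hset : {q : PrimeSpectrum C | (j : WithBot ℕ∞) ≤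
      ringKrullDim (Fib A q.asIdeal) + ((fibCoheight A q.asIdeal : ℕ∞) : WithBot ℕ∞)} =
      {c : PrimeSpectrum C | (j : WithBot ℕ∞) ≤
        FlatMor.fibreDimAt (Spec.map (CommRingCat.ofHom (algebraMap A C))) c} := by
    ext q
    rw [Set.mem_ofPred_eq, Set.mem_ofPred_eq]
    have := fibreDimAt_spec_eq (A := A) q.asIdeal
    rw [← this]
  rw [hset]
  exact h

end Groth.Agent.Lib.FibRkH5
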