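import Mathlib
import Groth.Prelude.Def_CAlg
import Groth.Prelude.Def_EGA4b
import Groth.Agent.Lib.CMFormalFibres_helper9
import Groth.Agent.Lib.TensorSkAt_helper9
import Groth.Agent.Lib.TensorSk_helper9
import Groth.Agent.Lib.FlatCM4_helper9

/-!
# `(S_n)` formal fibres pass to local algebras essentially of finite type (helper5)

The `(S_n)` analogue of helper9's `CMFormalFibres_helper9` (EGA IV 7.4.4 for the property `(S_n)`):

* `hasSk_tensor_field`: `(S_n)` is preserved by a finitely generated extension of the base field.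
* `hasSk_fiber_mvPolynomial`: the fibres of `R[T] → S[T]` are `(S_n)` if those of `R → S` are
  (the fibre over `𝔮` is `κ(𝔮) ⊗_{κ(p)} (κ(p) ⊗_R S)`).
* `hasSnFormalFibres_of_flat'`: descent along flat local maps with `(S_n)` fibre local rings.
* `hasSnFormalFibres_of_ringEquiv`, `_quotient`, `_of_surjective`.
* `hasSnFormalFibres_mvPolynomial_localization`, `hasSnFormalFibres_of_essFiniteType`.
APPEND-ONLY once landed.
-/

set_option autoImplicit false
universe u
open IsLocalRing TensorProduct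

namespace Groth.Agent.Lib.SnFFH5

open Groth.Agent.FlatCM Groth.Agent.TensorCM Groth.Agent.EquiCat9 Groth.Agent.DepthLib

section Basic

variable (n : ℕ) (R : Type u) [CommRing R] [IsNoetherianRing R]

theorem hasSkAt_of_hasSk (h : LocCoh.HasSk n R R) (q : Ideal R) [q.IsPrime] :
    EGA4.HasSkAt n R R q := by
  rw [hasSkAt_self_iff]
  intro r hr _
  exact (hasSk_self_iff_skLoc n R).1 h r

theorem hasSk_of_forall_hasSkAt (h : ∀ (q : Ideal R) [q.IsPrime], EGA4.HasSkAt n R R q) :
    LocCoh.HasSk n R R := by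
  rw [hasSk_self_iff_skLoc]
  intro q hq
  exact (hasSkAt_self_iff n R q).1 (h q) q le_rfl

end Basic

section Field

variable (k F k' : Type u) [Field k] [CommRing F] [Algebra k F] [IsNoetherianRing F] [Field k']
  [Algebra k k'] [Algebra.EssFiniteType k k']

/-- `(S_n)` is preserved by a finitely generated extension of the base field -/
theorem hasSk_tensor_field (n : ℕ) (h : LocCoh.HasSk n F F) :
    LocCoh.HasSk n (F ⊗[k] k') (F ⊗[k] k') := by
  haveI : IsNoetherianRing (F ⊗[k] k') := Algebra.EssFiniteType.isNoetherianRing F _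
  have hfib : ∀ (p : Ideal F) [p.IsPrime], LocCoh.IsCohenMacaulayRing (p.Fiber (F ⊗[k] k')) :=
    fun p _ => isCMRing_fiber_tensor k F k' (Or.inr inferInstance) p
  apply hasSk_of_forall_hasSkAt
  intro Q hQ
  exact (hasSkAt_iff_of_cm_fibres F (F ⊗[k] k') hfib n Q).1 (hasSkAt_of_hasSk n F h _)

end Field

section Poly

attribute [local instance] MvPolynomial.algebraMvPolynomial

variable (R S : Type u) [CommRing R] [CommRing S] [Algebra R S] [IsNoetherianRing R]
  [IsNoetherianRing S]

/-- `(S_n)` fibres are stable under polynomial base change -/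
theorem hasSk_fiber_mvPolynomial (n m : ℕ)
    (hfib : ∀ (p : Ideal R) [p.IsPrime], LocCoh.HasSk n (p.Fiber S) (p.Fiber S))
    (𝔮 : Ideal (MvPolynomial (Fin m) R)) [𝔮.IsPrime] :
    LocCoh.HasSk n (𝔮.Fiber (MvPolynomial (Fin m) S)) (𝔮.Fiber (MvPolynomial (Fin m) S)) := by
  set p := 𝔮.comap (algebraMap R (MvPolynomial (Fin m) R)) with hp
  haveI : p.IsPrime := Ideal.comap_isPrime _ _
  haveI : 𝔮.LiesOver p := ⟨rfl⟩
  letI := Localization.AtPrime.algebraOfLiesOver p 𝔮
  haveI a2 : IsScalarTower R p.ResidueField 𝔮.ResidueField := inferInstance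
  haveI a3 : Algebra.EssFiniteType p.ResidueField 𝔮.ResidueField := inferInstance
  let e1 : MvPolynomial (Fin m) R ⊗[R] S ≃ₐ[MvPolynomial (Fin m) R] MvPolynomial (Fin m) S :=
    Algebra.IsPushout.equiv R (MvPolynomial (Fin m) R) S (MvPolynomial (Fin m) S)
  let e0 : 𝔮.ResidueField ⊗[MvPolynomial (Fin m) R] MvPolynomial (Fin m) S ≃ₐ[𝔮.ResidueField]
      𝔮.ResidueField ⊗[MvPolynomial (Fin m) R] (MvPolynomial (Fin m) R ⊗[R] S) :=
    Algebra.TensorProduct.congr AlgEquiv.refl e1.symm
  let e2 : 𝔮.ResidueField ⊗[MvPolynomial (Fin m) R] (MvPolynomial (Fin m) R ⊗[R] S)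
      ≃ₐ[𝔮.ResidueField] 𝔮.ResidueField ⊗[R] S :=
    Algebra.TensorProduct.cancelBaseChange R (MvPolynomial (Fin m) R) 𝔮.ResidueField
      𝔮.ResidueField S
  let e3 : 𝔮.ResidueField ⊗[p.ResidueField] (p.ResidueField ⊗[R] S) ≃ₐ[𝔮.ResidueField]
      𝔮.ResidueField ⊗[R] S :=
    Algebra.TensorProduct.cancelBaseChange R p.ResidueField 𝔮.ResidueField 𝔮.ResidueField S
  let e4 : (p.ResidueField ⊗[R] S) ⊗[p.ResidueField] 𝔮.ResidueField ≃ₐ[p.ResidueField]
      𝔮.ResidueField ⊗[p.ResidueField] (p.ResidueField ⊗[R] S) :=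
    Algebra.TensorProduct.comm p.ResidueField (p.ResidueField ⊗[R] S) 𝔮.ResidueField
  haveI : IsNoetherianRing (p.Fiber S) := Groth.Agent.Lib.RegFlatH3.isNoetherianRing_fiber R S p
  have h1 : LocCoh.HasSk n ((p.Fiber S) ⊗[p.ResidueField] 𝔮.ResidueField)
      ((p.Fiber S) ⊗[p.ResidueField] 𝔮.ResidueField) :=
    hasSk_tensor_field p.ResidueField (p.Fiber S) 𝔮.ResidueField n (hfib p)
  haveI : IsNoetherianRing ((p.Fiber S) ⊗[p.ResidueField] 𝔮.ResidueField) := by
    have h := Algebra.EssFiniteType.isNoetherianRing (p.Fiber S)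
      ((p.Fiber S) ⊗[p.ResidueField] 𝔮.ResidueField)
    exact h
  let e : (p.Fiber S) ⊗[p.ResidueField] 𝔮.ResidueField ≃+*
      𝔮.Fiber (MvPolynomial (Fin m) S) :=
    e4.toRingEquiv.trans (e3.toRingEquiv.trans (e2.symm.toRingEquiv.trans e0.symm.toRingEquiv))
  exact hasSk_of_ringEquiv n e h1

end Poly

section Descent

variable (A A' : Type u) [CommRing A] [CommRing A'] [IsNoetherianRing A] [IsNoetherianRing A']
  [IsLocalRing A] [IsLocalRing A'] [Algebra A A'] [IsLocalHom (algebraMap A A')]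

open Groth.Agent.Lib.FFTransferH3 in
/-- descent of `(S_n)` formal fibres along a flat local homomorphism with `(S_n)` fibre local
rings -/
theorem hasSnFormalFibres_of_flat' (n : ℕ) [Module.Flat A A']
    (hf : ∀ (Q : Ideal A') [Q.IsPrime], SkLoc n (EGA4.FibLocRing A A' Q))
    (hA' : EGA4.HasSnFormalFibres n A') : EGA4.HasSnFormalFibres n A := by
  haveI := tower' A A'
  haveI := noeth_cpl A'
  haveI := noeth_cpl A
  obtain ⟨_, _, _, hff', _, _⟩ := Groth.Agent.Lib.AnUnramH3.completion_facts A'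
  haveI : Module.Flat A' (EGA4.Cpl A') := hff'.toFlat
  haveI : Module.Flat A (EGA4.Cpl A') := flat_base A A'
  have h1 : ∀ (P : Ideal (EGA4.Cpl A')) [P.IsPrime],
      SkLoc n (EGA4.FibLocRing A (EGA4.Cpl A') P) := by
    intro P hP
    apply skLoc_fibLocRing_comp A A' (EGA4.Cpl A') n P
    · exact hf (P.comap (algebraMap A' (EGA4.Cpl A')))
    · exact (hasSk_fiber_iff A' (EGA4.Cpl A') n _).1
        (hA' (P.comap (algebraMap A' (EGA4.Cpl A')))) P rfl
  letI := algCpl A A'
  haveI := tower A A'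
  haveI := flat_cpl A A'
  haveI := faithfullyFlat_cpl A A'
  intro p hp
  change LocCoh.HasSk n (p.Fiber (EGA4.Cpl A)) (p.Fiber (EGA4.Cpl A))
  apply hasSk_fiber_descent A (EGA4.Cpl A) (EGA4.Cpl A') n
  intro p' hp'
  rw [hasSk_fiber_iff]
  intro P hP _
  exact h1 P

end Descent

section Equiv

variable {R S : Type u} [CommRing R] [CommRing S] [IsNoetherianRing R] [IsLocalRing R]
  [IsNoetherianRing S] [IsLocalRing S]

/-- `(S_n)` formal fibres are invariant under ring isomorphisms -/
theorem hasSnFormalFibres_of_ringEquiv (n : ℕ) (e : R ≃+* S) (h : EGA4.HasSnFormalFibres n R) :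
    EGA4.HasSnFormalFibres n S := by
  letI : Algebra S R := e.symm.toRingHom.toAlgebra
  have halg : ∀ r, algebraMap S R r = e.symm r := fun _ => rfl
  haveI : IsLocalHom (algebraMap S R) := IsLocalHom.of_surjective _ e.symm.surjective
  let l : S ≃ₗ[S] R :=
    { toFun := e.symm
      map_add' := map_add e.symm
      map_smul' := fun a x => by
        simp only [smul_eq_mul, RingHom.id_apply, map_mul, Algebra.smul_def, halg]
      invFun := e
      left_inv := fun x => e.apply_symm_apply x
      right_inv := fun x => e.symm_apply_apply x }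
  haveI : Module.Flat S R := Module.Flat.of_linearEquiv l.symm
  refine hasSnFormalFibres_of_flat' S R n (fun Q _ => ?_) h
  haveI := isNoetherianRing_fibLocRing S R Q
  apply skLoc_of_isCMLocalRing
  apply isCM_fibLocRing_of_map_comap_eq
  exact Ideal.map_comap_of_surjective _ e.symm.surjective Q

end Equiv

section Quot

variable (T : Type u) [CommRing T] [IsNoetherianRing T] [IsLocalRing T]

/-- `(S_n)` formal fibres pass to quotients -/
theorem hasSnFormalFibres_quotient (n : ℕ) (I : Ideal T) [Nontrivial (T ⧸ I)]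
    (hT : EGA4.HasSnFormalFibres n T) : EGA4.HasSnFormalFibres n (T ⧸ I) := by
  intro pb hpb
  obtain ⟨e⟩ := Groth.Agent.Lib.CMEquivH3.nonempty_ringEquiv_formalFibre T I pb
  haveI : IsNoetherianRing (EGA4.Cpl T) := Groth.Agent.Lib.FFTransferH3.noeth_cpl T
  haveI : IsNoetherianRing (EGA4.formalFibre T (pb.comap (Ideal.Quotient.mk I))) :=
    Groth.Agent.Lib.RegFlatH3.isNoetherianRing_fiber T (EGA4.Cpl T) _
  exact hasSk_of_ringEquiv n e (hT (pb.comap (Ideal.Quotient.mk I)))

/-- `(S_n)` formal fibres pass to surjective images -/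
theorem hasSnFormalFibres_of_surjective (n : ℕ) {B : Type u} [CommRing B] [IsNoetherianRing B]
    [IsLocalRing B] (φ : T →+* B) (hφ : Function.Surjective φ)
    (hT : EGA4.HasSnFormalFibres n T) : EGA4.HasSnFormalFibres n B := by
  let e : T ⧸ RingHom.ker φ ≃+* B := RingHom.quotientKerEquivOfSurjective hφ
  haveI : Nontrivial (T ⧸ RingHom.ker φ) := e.toEquiv.nontrivial
  exact hasSnFormalFibres_of_ringEquiv n e (hasSnFormalFibres_quotient T n (RingHom.ker φ) hT)

end Quot

section CMtoSn

/-- CM formal fibres are `(S_n)` formal fibres -/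
theorem hasSnFormalFibres_of_hasCMFormalFibres (n : ℕ) (T : Type u) [CommRing T]
    [IsNoetherianRing T] [IsLocalRing T] (h : EGA4.HasCMFormalFibres T) :
    EGA4.HasSnFormalFibres n T := by
  intro p hp
  haveI := h p
  exact hasSk_of_isCMRing n _

end CMtoSn

section PolyLoc

attribute [local instance] MvPolynomial.algebraMvPolynomial

variable (A : Type u) [CommRing A] [IsNoetherianRing A] [IsLocalRing A]

/-- localizations of polynomial rings over a local ring with `(S_n)` formal fibres have `(S_n)`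
formal fibres -/
theorem hasSnFormalFibres_mvPolynomial_localization (n m : ℕ) (hA : EGA4.HasSnFormalFibres n A)
    (𝔔 : Ideal (MvPolynomial (Fin m) A)) [𝔔.IsPrime] :
    EGA4.HasSnFormalFibres n (Localization.AtPrime 𝔔) := by
  obtain ⟨hloc, hnoeth, hcompl, hff, hlh, hmap⟩ := Groth.Agent.Lib.AnUnramH3.completion_facts A
  haveI := hloc
  haveI := hnoeth
  haveI := hcompl
  haveI := hlh
  haveI := hff
  haveI hEff : Module.FaithfullyFlat (MvPolynomial (Fin m) A)
      (MvPolynomial (Fin m) (AdicCompletion (maximalIdeal A) A)) :=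
    faithfullyFlat_mvPolynomial A _
  have hne : 𝔔.map (algebraMap (MvPolynomial (Fin m) A)
      (MvPolynomial (Fin m) (AdicCompletion (maximalIdeal A) A))) ≠ ⊤ := by
    intro htop
    have h1 := Ideal.comap_map_eq_self_of_faithfullyFlat
      (B := MvPolynomial (Fin m) (AdicCompletion (maximalIdeal A) A)) 𝔔
    rw [htop, Ideal.comap_top] at h1
    exact Ideal.IsPrime.ne_top' h1.symm
  obtain ⟨⟨𝔔', h𝔔'⟩⟩ := Ideal.nonempty_minimalPrimes hne
  haveI : 𝔔'.IsPrime := h𝔔'.1.1
  haveI hlo : 𝔔'.LiesOver 𝔔 :=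
    Groth.Agent.DepthLib.liesOver_of_mem_minimalPrimes_map _ _ 𝔔 𝔔' h𝔔'
  letI := Localization.AtPrime.algebraOfLiesOver 𝔔 𝔔'
  haveI : IsLocalHom (algebraMap (Localization.AtPrime 𝔔) (Localization.AtPrime 𝔔')) :=
    Localization.isLocalHom_localRingHom _ _ _ _
  haveI : Module.Flat (Localization.AtPrime 𝔔) (Localization.AtPrime 𝔔') :=
    flat_localization_liesOver _ _ 𝔔 𝔔'
  haveI : IsNoetherianRing (Localization.AtPrime 𝔔) :=
    IsLocalization.isNoetherianRing 𝔔.primeCompl _ inferInstance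
  haveI : IsNoetherianRing (Localization.AtPrime 𝔔') :=
    IsLocalization.isNoetherianRing 𝔔'.primeCompl _ inferInstance
  obtain ⟨P, _, hP, f, hf⟩ := exists_surjective_of_isCMRing (AdicCompletion (maximalIdeal A) A)
  haveI := isCMRing_mvPolynomial P m
  have hD' : EGA4.HasCMFormalFibres (Localization.AtPrime 𝔔') :=
    hasCMFormalFibres_localization_of_surjective (MvPolynomial (Fin m) P) _
      (MvPolynomial.map f) (MvPolynomial.map_surjective f hf) 𝔔'
  refine hasSnFormalFibres_of_flat' (Localization.AtPrime 𝔔) (Localization.AtPrime 𝔔') n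
    (fun Q hQ => ?_) (hasSnFormalFibres_of_hasCMFormalFibres n _ hD')
  have a1 : SkLoc n
      (EGA4.FibLocRing (MvPolynomial (Fin m) (AdicCompletion (maximalIdeal A) A))
        (Localization.AtPrime 𝔔') Q) := by
    haveI := isNoetherianRing_fibLocRing
      (MvPolynomial (Fin m) (AdicCompletion (maximalIdeal A) A)) (Localization.AtPrime 𝔔') Q
    apply skLoc_of_isCMLocalRing
    exact isCM_fibLocRing_of_map_comap_eq _ _ Q
      (IsLocalization.map_under 𝔔'.primeCompl (Localization.AtPrime 𝔔') Q)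
  have a2 : SkLoc n
      (EGA4.FibLocRing (MvPolynomial (Fin m) A)
        (MvPolynomial (Fin m) (AdicCompletion (maximalIdeal A) A))
        (Q.comap (algebraMap (MvPolynomial (Fin m) (AdicCompletion (maximalIdeal A) A))
          (Localization.AtPrime 𝔔')))) := by
    refine (hasSk_fiber_iff (MvPolynomial (Fin m) A)
      (MvPolynomial (Fin m) (AdicCompletion (maximalIdeal A) A)) n _).1 ?_ _ rfl
    exact hasSk_fiber_mvPolynomial A (AdicCompletion (maximalIdeal A) A) n m
      (fun p _ => hA p) _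
  have a3 : SkLoc n
      (EGA4.FibLocRing (MvPolynomial (Fin m) A) (Localization.AtPrime 𝔔') Q) :=
    skLoc_fibLocRing_comp (MvPolynomial (Fin m) A)
      (MvPolynomial (Fin m) (AdicCompletion (maximalIdeal A) A)) (Localization.AtPrime 𝔔') n Q
      a2 a1
  -- remove the trivial first factor `A[T] → A[T]_𝔔`
  set P := Q.comap (algebraMap (Localization.AtPrime 𝔔) (Localization.AtPrime 𝔔')) with hP
  have hP' : P ∈ ((P.comap (algebraMap (MvPolynomial (Fin m) A) (Localization.AtPrime 𝔔))).map
      (algebraMap (MvPolynomial (Fin m) A) (Localization.AtPrime 𝔔))).minimalPrimes := by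
    rw [IsLocalization.map_under 𝔔.primeCompl (Localization.AtPrime 𝔔) P]
    rw [Ideal.minimalPrimes_eq_subsingleton_self]
    exact Set.mem_singleton P
  have hdim0 := Groth.Agent.FibLocH8.dim_fibLocRing_eq_zero (A := MvPolynomial (Fin m) A) P hP'
  haveI := isNoetherianRing_fibLocRing (MvPolynomial (Fin m) A) (Localization.AtPrime 𝔔) P
  have hdep0 : LocCoh.depth (EGA4.FibLocRing (MvPolynomial (Fin m) A) (Localization.AtPrime 𝔔) P)
      (EGA4.FibLocRing (MvPolynomial (Fin m) A) (Localization.AtPrime 𝔔) P) = 0 := by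
    have h1 := depth_le_dim (EGA4.FibLocRing (MvPolynomial (Fin m) A) (Localization.AtPrime 𝔔) P)
    rw [hdim0] at h1
    have h2 : LocCoh.depth (EGA4.FibLocRing (MvPolynomial (Fin m) A) (Localization.AtPrime 𝔔) P)
        (EGA4.FibLocRing (MvPolynomial (Fin m) A) (Localization.AtPrime 𝔔) P) ≤ 0 := by
      have : ((LocCoh.depth (EGA4.FibLocRing (MvPolynomial (Fin m) A) (Localization.AtPrime 𝔔) P)
          (EGA4.FibLocRing (MvPolynomial (Fin m) A) (Localization.AtPrime 𝔔) P) : ℕ∞) :
          WithBot ℕ∞) ≤ ((0 : ℕ∞) : WithBot ℕ∞) := h1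
      exact WithBot.coe_le_coe.1 this
    exact le_antisymm h2 zero_le
  obtain ⟨hd, hdim⟩ := depth_dim_fibLocRing_comp (MvPolynomial (Fin m) A)
    (Localization.AtPrime 𝔔) (Localization.AtPrime 𝔔') Q
  rw [hdep0, zero_add] at hd
  rw [hdim0, zero_add] at hdim
  unfold SkLoc at a3 ⊢
  rw [← hd, ← hdim]
  exact a3

end PolyLoc

section EssFT

variable (A : Type u) [CommRing A] [IsNoetherianRing A] [IsLocalRing A]
  (B : Type u) [CommRing B] [IsNoetherianRing B] [IsLocalRing B] [Algebra A B]
  [Algebra.EssFiniteType A B]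

/-- **EGA IV 7.4.4 for `(S_n)`**: `(S_n)` formal fibres pass to local algebras essentially of
finite type -/
theorem hasSnFormalFibres_of_essFiniteType (n : ℕ) (hA : EGA4.HasSnFormalFibres n A) :
    EGA4.HasSnFormalFibres n B := by
  obtain ⟨m, 𝔔, h𝔔, φ, hφ⟩ := exists_surjective_localization_mvPolynomial A B
  haveI := h𝔔
  haveI : IsNoetherianRing (Localization.AtPrime 𝔔) :=
    IsLocalization.isNoetherianRing 𝔔.primeCompl _ inferInstance
  exact hasSnFormalFibres_of_surjective (Localization.AtPrime 𝔔) n φ hφ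
    (hasSnFormalFibres_mvPolynomial_localization A n m hA 𝔔)

end EssFT

end Groth.Agent.Lib.SnFFH5
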