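import Mathlib
import Groth.Prelude.Def_CAlg
import Groth.Prelude.Def_EGA4b
import Groth.Agent.Lib.FFS1a_helper5
import Groth.Agent.Lib.DepthSk_helper5
import Groth.Agent.Lib.SnFormalFibres_helper5
import Groth.Agent.Lib.FormalEquidimPoly_helper9
import Groth.Agent.Lib.FormalEquidimMin_helper9
import Groth.Agent.Lib.CMEquiv_helper3
import Groth.Agent.Lib.AnUnram_helper3

/-!
# Strict formal catenarity passes to local algebras essentially of finite type (helper5, S4735)

`A` strictly formally catenary  ⟺  `A` formally catenary and the formal fibres of `A` are `(S_1)`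
(the part used here: `⟹` for `A`, `⟸` for the domains `B/q`).  Formal catenarity passes to
essentially-finite-type local algebras by helper9's `FormalEquidimPoly_helper9`, and `(S_1)` formal
fibres by `SnFormalFibres_helper5`.
APPEND-ONLY once landed.
-/

set_option autoImplicit false
universe u
open IsLocalRing TensorProduct

namespace Groth.Agent.Lib.StrictCatH5

open Groth.Agent.DepthLib Groth.Agent.AssFlat Groth.Agent.Lib.FFS1H5

/-- a Noetherian ring whose associated primes are all minimal satisfies `(S_1)` -/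
theorem hasS1_of_ass_minimal {R : Type u} [CommRing R] [IsNoetherianRing R]
    (h : ∀ Q ∈ associatedPrimes R R, Q ∈ minimalPrimes R) : LocCoh.HasSk 1 R R := by
  intro Q hQ
  by_cases h1 : 1 ≤ LocCoh.depth (Localization.AtPrime Q) (LocalizedModule Q.primeCompl R)
  · refine le_trans (min_le_left _ _) ?_
    have : ((1 : ℕ∞) : WithBot ℕ∞) ≤
        ((LocCoh.depth (Localization.AtPrime Q) (LocalizedModule Q.primeCompl R) : ℕ∞) :
          WithBot ℕ∞) := WithBot.coe_le_coe.2 h1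
    exact this
  · have hQass := (not_one_le_depth_localization_iff R Q).1 h1
    have hmin := h Q hQass
    have hht : Q.height = 0 := Ideal.height_eq_zero_iff.2 hmin
    rw [supportDim_locSelf, hht]
    refine le_trans (min_le_right _ _) ?_
    exact WithBot.coe_le_coe.2 zero_le

section Fibre

variable {R S : Type u} [CommRing R] [CommRing S] [Algebra R S] (p : Ideal R) [p.IsPrime]

/-- converse of `mem_minimalPrimes_of_S1_fibre`: if every associated prime of `S ⊗ R/p` is a minimal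
prime of `pS`, the fibre ring `κ(p) ⊗ S` satisfies `(S_1)`. -/
theorem hasS1_fibre_of_ass_minimal [IsNoetherianRing R] [IsNoetherianRing S] [Module.Flat R S]
    (H : ∀ P ∈ associatedPrimes S (S ⊗[R] (R ⧸ p)), P ∈ (p.map (algebraMap R S)).minimalPrimes) :
    LocCoh.HasSk 1 (p.Fiber S) (p.Fiber S) := by
  haveI hFn : IsNoetherianRing (p.Fiber S) := isNoetherianRing_fiber p
  apply hasS1_of_ass_minimal
  intro Q hQ
  obtain ⟨hQprime, x, hx⟩ := (isAssociatedPrime_iff).1 hQ
  haveI := hQprime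
  obtain ⟨r, hr, z, hrz⟩ := Ideal.Fiber.exists_smul_eq_one_tmul p x
  -- `Q` is the annihilator of `1 ⊗ z`
  have hmemQ : ∀ f : p.Fiber S, f ∈ Q ↔ f * ((1 : p.ResidueField) ⊗ₜ[R] z) = 0 := by
    intro f
    rw [hx, Submodule.mem_colon_singleton, Submodule.mem_bot, smul_eq_mul, ← hrz, mul_smul_comm]
    constructor
    · intro h; rw [h, smul_zero]
    · intro h; exact smul_fibre_injective p r hr _ h
  set e := PrimeSpectrum.primesOverOrderIsoFiber R S p with he
  set P' := e.symm ⟨Q, hQprime⟩ with hP'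
  have hPcomap : (P' : Ideal S) = Q.comap Algebra.TensorProduct.includeRight := by
    rw [hP']
    exact PrimeSpectrum.coe_primesOverOrderIsoFiber_symm_apply (R := R) (S := S) (p := p)
      ⟨Q, hQprime⟩
  have hmemP : ∀ s : S, s ∈ (P' : Ideal S) ↔ (s * z) ⊗ₜ[R] (1 : R ⧸ p) = 0 := by
    intro s
    rw [hPcomap, Ideal.mem_comap]
    change (1 : p.ResidueField) ⊗ₜ[R] s ∈ Q ↔ _
    rw [hmemQ, Algebra.TensorProduct.tmul_mul_tmul, one_mul]
    exact ⟨fun h => tmul_one_eq_zero_of_fibre p _ h, fun h => fibre_tmul_eq_zero p _ h⟩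
  have hPass : (P' : Ideal S) ∈ associatedPrimes S (S ⊗[R] (R ⧸ p)) := by
    refine (isAssociatedPrime_iff).2 ⟨P'.2.1, z ⊗ₜ[R] (1 : R ⧸ p), ?_⟩
    ext s
    rw [hmemP, Submodule.mem_colon_singleton, Submodule.mem_bot, TensorProduct.smul_tmul',
      smul_eq_mul]
  have hPmin := H _ hPass
  -- minimality of `Q`
  refine ⟨⟨hQprime, bot_le⟩, ?_⟩
  rintro Q' ⟨hQ'prime, -⟩ hQ'Q
  set P'' := e.symm ⟨Q', hQ'prime⟩ with hP''
  have hle : P'' ≤ P' := e.symm.monotone (show (⟨Q', hQ'prime⟩ : PrimeSpectrum (p.Fiber S)) ≤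
    ⟨Q, hQprime⟩ from hQ'Q)
  have hP''p : p.map (algebraMap R S) ≤ (P'' : Ideal S) := by
    rw [Ideal.map_le_iff_le_comap]
    exact (P''.2.2.over).le
  have hge : (P' : Ideal S) ≤ (P'' : Ideal S) := hPmin.2 ⟨P''.2.1, hP''p⟩ hle
  have hge' : P' ≤ P'' := hge
  have := (e.symm.le_iff_le).1 hge'
  exact this

end Fibre

section Strict

theorem dim_quot_succ_le {R : Type*} [CommRing R] (𝔮' 𝔮 : Ideal R) [h𝔮' : 𝔮'.IsPrime]
    (hlt : 𝔮' < 𝔮) : ringKrullDim (R ⧸ 𝔮) + 1 ≤ ringKrullDim (R ⧸ 𝔮') := by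
  obtain ⟨t, ht𝔮, ht𝔮'⟩ := SetLike.exists_of_lt hlt
  haveI : IsDomain (R ⧸ 𝔮') := Ideal.Quotient.isDomain 𝔮'
  refine ringKrullDim_succ_le_of_surjective (Ideal.Quotient.factor hlt.le)
    (Ideal.Quotient.factor_surjective hlt.le) (r := Ideal.Quotient.mk 𝔮' t) ?_ ?_
  · apply mem_nonZeroDivisors_of_ne_zero
    intro h0
    exact ht𝔮' (Ideal.Quotient.eq_zero_iff_mem.mp h0)
  · rw [Ideal.Quotient.factor_mk]
    exact Ideal.Quotient.eq_zero_iff_mem.mpr ht𝔮

variable {R : Type u} [CommRing R] [IsNoetherianRing R] [IsLocalRing R]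

theorem minimalPrimes_subset_ass : minimalPrimes R ⊆ associatedPrimes R R := by
  intro Q hQ
  apply Module.associatedPrimes.minimalPrimes_annihilator_subset_associatedPrimes R R
  rw [Module.annihilator_eq_bot.2 inferInstance]
  exact hQ

/-- in a strictly equidimensional Noetherian local ring all associated primes are minimal -/
theorem ass_minimal_of_isStrictlyEquidim (h : EGA4.IsStrictlyEquidim R) :
    ∀ Q ∈ associatedPrimes R R, Q ∈ minimalPrimes R := by
  intro Q hQ
  haveI : Q.IsPrime := hQ.isPrime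
  obtain ⟨Q0, hQ0min, hQ0le⟩ := Ideal.exists_minimalPrimes_le (bot_le : (⊥ : Ideal R) ≤ Q)
  have hQ0ass : Q0 ∈ associatedPrimes R R := minimalPrimes_subset_ass hQ0min
  rcases eq_or_lt_of_le hQ0le with heq | hlt
  · rw [← heq]; exact hQ0min
  · exfalso
    haveI : Q0.IsPrime := hQ0min.1.1
    have h1 := dim_quot_succ_le Q0 Q hlt
    rw [h Q hQ, h Q0 hQ0ass] at h1
    obtain ⟨a, ha⟩ := Groth.Agent.FlatCM.exists_nat_ringKrullDim R
    rw [ha] at h1
    have h2 : ((a + 1 : ℕ) : WithBot ℕ∞) ≤ (a : WithBot ℕ∞) := by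
      push_cast
      exact h1
    have h3 : a + 1 ≤ a := by exact_mod_cast h2
    omega

theorem isEquidim_of_isStrictlyEquidim (h : EGA4.IsStrictlyEquidim R) : EGA4.IsEquidim R :=
  fun Q hQ => h Q (minimalPrimes_subset_ass hQ)

theorem isStrictlyEquidim_of_isEquidim (h : EGA4.IsEquidim R)
    (h2 : ∀ Q ∈ associatedPrimes R R, Q ∈ minimalPrimes R) : EGA4.IsStrictlyEquidim R :=
  fun Q hQ => h Q (h2 Q hQ)

end Strict

section Dom

variable (D : Type u) [CommRing D] [IsNoetherianRing D] [IsLocalRing D]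

/-- `Ĉ ⊗_D D/⊥ ≃ Ĉ` -/
noncomputable def tensorQuotBotEquiv (C : Type u) [CommRing C] [Algebra D C] :
    C ⊗[D] (D ⧸ (⊥ : Ideal D)) ≃ₗ[C] C :=
  (TensorProduct.AlgebraTensorModule.congr (LinearEquiv.refl C C)
    (Submodule.quotEquivOfEqBot (⊥ : Ideal D) rfl)).trans
    (TensorProduct.AlgebraTensorModule.rid D C C)

theorem ass_tensorQuotBot (C : Type u) [CommRing C] [Algebra D C] :
    associatedPrimes C (C ⊗[D] (D ⧸ (⊥ : Ideal D))) = associatedPrimes C C :=
  LinearEquiv.AssociatedPrimes.eq (tensorQuotBotEquiv D C)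

variable [IsDomain D]

/-- for a local domain: `Ass(D̂) ⊆ Min(D̂)` iff the generic formal fibre is `(S_1)` -/
theorem hasS1_generic_formalFibre
    (h : ∀ Q ∈ associatedPrimes (EGA4.Cpl D) (EGA4.Cpl D), Q ∈ minimalPrimes (EGA4.Cpl D)) :
    LocCoh.HasSk 1 (EGA4.formalFibre D ⊥) (EGA4.formalFibre D ⊥) := by
  obtain ⟨hloc, hnoeth, hcomp, hff, hlh, hmap⟩ := Groth.Agent.Lib.AnUnramH3.completion_facts D
  haveI := hloc
  haveI := hnoeth
  haveI := hff
  apply hasS1_fibre_of_ass_minimal (R := D) (S := EGA4.Cpl D) ⊥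
  intro P hP
  rw [ass_tensorQuotBot] at hP
  rw [Ideal.map_bot]
  exact h P hP

theorem ass_minimal_of_hasS1_generic
    (h : LocCoh.HasSk 1 (EGA4.formalFibre D ⊥) (EGA4.formalFibre D ⊥)) :
    ∀ Q ∈ associatedPrimes (EGA4.Cpl D) (EGA4.Cpl D), Q ∈ minimalPrimes (EGA4.Cpl D) := by
  obtain ⟨hloc, hnoeth, hcomp, hff, hlh, hmap⟩ := Groth.Agent.Lib.AnUnramH3.completion_facts D
  haveI := hloc
  haveI := hnoeth
  haveI := hff
  intro Q hQ
  rw [← ass_tensorQuotBot D] at hQ
  have := mem_minimalPrimes_of_S1_fibre (R := D) (S := EGA4.Cpl D) ⊥ h Q hQ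
  rwa [Ideal.map_bot] at this

end Dom

section Main

variable (A : Type u) [CommRing A] [IsNoetherianRing A] [IsLocalRing A]

theorem cpl_facts : IsLocalRing (EGA4.Cpl A) ∧ IsNoetherianRing (EGA4.Cpl A) := by
  obtain ⟨hloc, hnoeth, -⟩ := Groth.Agent.Lib.AnUnramH3.completion_facts A
  exact ⟨hloc, hnoeth⟩

/-- strictly formally catenary ⇒ formally catenary -/
theorem isFormallyCatenary_of_strict (hA : EGA4.IsFormallyStrictlyCatenary A) :
    EGA4.IsFormallyCatenary A := by
  intro p hp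
  haveI := (cpl_facts (A ⧸ p)).1
  haveI := (cpl_facts (A ⧸ p)).2
  exact isEquidim_of_isStrictlyEquidim (hA p)

/-- strictly formally catenary ⇒ `(S_1)` formal fibres -/
theorem hasS1FormalFibres_of_strict (hA : EGA4.IsFormallyStrictlyCatenary A) :
    EGA4.HasSnFormalFibres 1 A := by
  intro p hp
  haveI := (cpl_facts (A ⧸ p)).1
  haveI := (cpl_facts (A ⧸ p)).2
  have h1 : LocCoh.HasSk 1 (EGA4.formalFibre (A ⧸ p) ⊥) (EGA4.formalFibre (A ⧸ p) ⊥) :=
    hasS1_generic_formalFibre (A ⧸ p) (ass_minimal_of_isStrictlyEquidim (hA p))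
  obtain ⟨e⟩ := Groth.Agent.Lib.CMEquivH3.nonempty_ringEquiv_formalFibre A p
    (⊥ : Ideal (A ⧸ p))
  haveI : IsNoetherianRing (EGA4.formalFibre (A ⧸ p) ⊥) :=
    Groth.Agent.Lib.RegFlatH3.isNoetherianRing_fiber (A ⧸ p) (EGA4.Cpl (A ⧸ p)) _
  have h2 := Groth.Agent.TensorCM.hasSk_of_ringEquiv 1 e.symm h1
  have hcomap : (⊥ : Ideal (A ⧸ p)).comap (Ideal.Quotient.mk p) = p := by
    rw [← RingHom.ker_eq_comap_bot, Ideal.mk_ker]
  have tr : ∀ (q : Ideal A) [q.IsPrime], q = p →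
      LocCoh.HasSk 1 (EGA4.formalFibre A q) (EGA4.formalFibre A q) →
      LocCoh.HasSk 1 (EGA4.formalFibre A p) (EGA4.formalFibre A p) := by
    intro q _ e h
    subst e
    exact h
  exact tr _ hcomap h2

variable (B : Type u) [CommRing B] [IsNoetherianRing B] [IsLocalRing B] [Algebra A B]
  [Algebra.EssFiniteType A B]

/-- **EGA IV 7.2.x (S4735)**: strict formal catenarity passes to local algebras essentially of
finite type -/
theorem main4735 (hA : EGA4.IsFormallyStrictlyCatenary A) :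
    EGA4.IsFormallyStrictlyCatenary B := by
  have hS1 := hasS1FormalFibres_of_strict A hA
  have hFC := isFormallyCatenary_of_strict A hA
  intro q hq
  haveI : Algebra.EssFiniteType A (B ⧸ q) := Algebra.EssFiniteType.comp A B (B ⧸ q)
  haveI := (cpl_facts (B ⧸ q)).1
  haveI := (cpl_facts (B ⧸ q)).2
  have h1 : EGA4.IsFormallyEquidim (B ⧸ q) :=
    Groth.Agent.EquiCat9.isFormallyEquidim_of_essFiniteType_of_isFormallyCatenary A (B ⧸ q) hFC
      (Groth.Agent.EquiCat9.isEquidim_of_isDomain _)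
  have h2 : EGA4.HasSnFormalFibres 1 (B ⧸ q) :=
    Groth.Agent.Lib.SnFFH5.hasSnFormalFibres_of_essFiniteType A (B ⧸ q) 1 hS1
  exact isStrictlyEquidim_of_isEquidim h1 (ass_minimal_of_hasS1_generic (B ⧸ q) (h2 ⊥))

end Main

end Groth.Agent.Lib.StrictCatH5
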