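/-
helper5: ring level of EGA IV 12.1.6-type openness for "geometric (R_k) + equidimensional + no
embedded components": `isStrictlyEquidim_fib_iff`, `isClosed_badSet` (Chevalley), `isOpen_strEq_dimAlongGT`.
APPEND-ONLY once landed.
-/
import Mathlib
import Groth.Agent.Lib.FibRk1_helper5
import Groth.Agent.Lib.FibEquidim1_helper5
import Groth.Agent.Lib.StrictCat_helper5

set_option autoImplicit false
universe u

open TensorProduct

namespace Groth.Agent.Lib.FibRkH5

open Groth.Agent.Lib.FibSkH5 Groth.Agent.Lib.FibPdH5 Groth.Agent.Lib.FibRectH5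
  Groth.Agent.Lib.FibAssH5

theorem exists_nat_dim (R : Type u) [CommRing R] [IsNoetherianRing R] [IsLocalRing R] :
    ∃ m : ℕ, ringKrullDim R = (m : WithBot ℕ∞) := by
  have h1 : ringKrullDim R ≠ ⊤ := ringKrullDim_ne_top
  have h2 : 0 ≤ ringKrullDim R := ringKrullDim_nonneg_of_nontrivial
  cases h : ringKrullDim R with
  | bot => rw [h] at h2; exact absurd h2 (by simp)
  | coe x =>
    cases x with
    | top => exact absurd h h1
    | coe m => exact ⟨m, rfl⟩

variable {A B : Type u} [CommRing A] [CommRing B] [Algebra A B]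

/-- dimension of the fibre local rings `> k` at the generizations of `q` in its fibre lying in `Z` -/
def DimAlongGT (A : Type u) {B : Type u} [CommRing A] [CommRing B] [Algebra A B]
    (Z : Set (PrimeSpectrum B)) (k : ℕ) (q : PrimeSpectrum B) : Prop :=
  ∀ 𝔯 : PrimeSpectrum B, 𝔯 ≤ q →
    𝔯.asIdeal.comap (algebraMap A B) = q.asIdeal.comap (algebraMap A B) → 𝔯 ∈ Z →
      ((k : ℕ∞) : WithBot ℕ∞) < ringKrullDim (Fib A 𝔯.asIdeal)

/-- the points having a generization in their fibre, lying in `Z`, with closure (in the fibre)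
of dimension `≥ j` -/
def BadSet (A : Type u) {B : Type u} [CommRing A] [CommRing B] [Algebra A B]
    (Z : Set (PrimeSpectrum B)) (j : ℕ) : Set (PrimeSpectrum B) :=
  {q | ∃ 𝔯 : PrimeSpectrum B, 𝔯 ≤ q ∧
    𝔯.asIdeal.comap (algebraMap A B) = q.asIdeal.comap (algebraMap A B) ∧ 𝔯 ∈ Z ∧
      (j : ℕ∞) ≤ fibCoheight A 𝔯.asIdeal}

section FT

variable [Algebra.FiniteType A B]

theorem ass_fib_self_iff (q : Ideal B) [q.IsPrime] (P : Ideal (Fib A q)) [P.IsPrime] :
    P ∈ associatedPrimes (Fib A q) (Fib A q) ↔ AssFib A B ⟨below A q P, inferInstance⟩ := by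
  rw [← mem_associatedPrimes_fibModQ_iff B q P]
  let e : FibModQ A q B ≃ₗ[Fib A q] Fib A q :=
    (fibMEquiv' A q B).symm ≪≫ₗ TensorProduct.AlgebraTensorModule.rid B (Fib A q) (Fib A q)
  rw [LinearEquiv.AssociatedPrimes.eq e]

theorem assDimIn_of_le {d : ℕ} {q 𝔯 : PrimeSpectrum B} (h : AssDimIn A B {d} q) (hle : 𝔯 ≤ q)
    (hc : 𝔯.asIdeal.comap (algebraMap A B) = q.asIdeal.comap (algebraMap A B)) :
    AssDimIn A B {d} 𝔯 :=
  fun 𝔯' hle' hc' hass => h 𝔯' (hle'.trans hle) (hc'.trans hc) hass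

theorem dim_fib_add_fibCoheight_of_assDimIn {d : ℕ} (q : PrimeSpectrum B)
    (h : AssDimIn A B {d} q) :
    ringKrullDim (Fib A q.asIdeal) + ((fibCoheight A q.asIdeal : ℕ∞) : WithBot ℕ∞) =
      (d : WithBot ℕ∞) := by
  haveI := isNoetherianRing_fib (A := A) q.asIdeal
  obtain ⟨P₁, hP₁, hd₁⟩ := Equi133H8.exists_minimalPrimes_dim_eq (Fib A q.asIdeal)
  haveI := hP₁.1.1
  have hass : P₁ ∈ associatedPrimes (Fib A q.asIdeal) (Fib A q.asIdeal) :=
    Groth.Agent.Lib.StrictCatH5.minimalPrimes_subset_ass hP₁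
  have hassF := (ass_fib_self_iff q.asIdeal P₁).mp hass
  obtain ⟨n, hn, hcn⟩ := h ⟨below A q.asIdeal P₁, inferInstance⟩ (below_le A q.asIdeal P₁)
    (comap_below A q.asIdeal P₁) hassF
  rw [Set.mem_singleton_iff] at hn
  subst hn
  have hform := dim_quotient_add_fibCoheight (A := A) q.asIdeal P₁
  rw [hd₁] at hform
  rw [hform]
  exact congrArg _ hcn

/-- "equidimensional without embedded primes" in terms of the dimensions of the closures of the
associated points -/
theorem isStrictlyEquidim_fib_iff (q : PrimeSpectrum B) :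
    EGA4.IsStrictlyEquidim (Fib A q.asIdeal) ↔ ∃ d : ℕ, AssDimIn A B {d} q := by
  haveI := isNoetherianRing_fib (A := A) q.asIdeal
  obtain ⟨c, hc⟩ := ENat.ne_top_iff_exists.mp (fibCoheight_ne_top (A := A) q.asIdeal)
  constructor
  · intro hS
    obtain ⟨m, hm⟩ := exists_nat_dim (Fib A q.asIdeal)
    refine ⟨m + c, fun 𝔯 hle hcm hass => ⟨m + c, rfl, ?_⟩⟩
    obtain ⟨P, hP, hP𝔯⟩ := exists_prime_fib_of_le A q.asIdeal 𝔯.asIdeal hle hcm
    have hassP : P ∈ associatedPrimes (Fib A q.asIdeal) (Fib A q.asIdeal) :=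
      (ass_fib_self_iff q.asIdeal P).mpr ((assFib_congr B (below A q.asIdeal P) 𝔯 hP𝔯).mpr hass)
    have hdim := hS P hassP
    have hform := dim_quotient_add_fibCoheight (A := A) q.asIdeal P
    rw [hdim, hm, ← hc, fibCoheight_congr A _ _ hP𝔯] at hform
    have : ((m + c : ℕ) : ℕ∞) = fibCoheight A 𝔯.asIdeal := by exact_mod_cast hform
    exact this.symm
  · rintro ⟨d, hd⟩ P hP
    haveI := hP.isPrime
    have key : ∀ P' ∈ associatedPrimes (Fib A q.asIdeal) (Fib A q.asIdeal),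
        ringKrullDim (Fib A q.asIdeal ⧸ P') + ((c : ℕ) : WithBot ℕ∞) = (d : WithBot ℕ∞) := by
      intro P' hP'
      haveI := hP'.isPrime
      have hassF := (ass_fib_self_iff q.asIdeal P').mp hP'
      obtain ⟨n, hn, hcn⟩ := hd ⟨below A q.asIdeal P', inferInstance⟩ (below_le A q.asIdeal P')
        (comap_below A q.asIdeal P') hassF
      rw [Set.mem_singleton_iff] at hn
      subst hn
      have hform := dim_quotient_add_fibCoheight (A := A) q.asIdeal P'
      rw [← hc] at hform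
      rw [show ((c : ℕ) : WithBot ℕ∞) = (((c : ℕ) : ℕ∞) : WithBot ℕ∞) from rfl, hform]
      exact congrArg _ hcn
    obtain ⟨P₁, hP₁, hd₁⟩ := Equi133H8.exists_minimalPrimes_dim_eq (Fib A q.asIdeal)
    have e1 := key P hP
    have e2 := key P₁ (Groth.Agent.Lib.StrictCatH5.minimalPrimes_subset_ass hP₁)
    rw [← e2, hd₁] at e1
    exact Equi133H8.add_nat_cancel _ _ c e1

set_option maxHeartbeats 1000000 in
/-- Chevalley: `BadSet` is closed -/
theorem isClosed_badSet (Z : Set (PrimeSpectrum B)) (hZ : IsClosed Z) (j : ℕ) :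
    IsClosed (BadSet A Z j) := by
  classical
  set I : Ideal B := PrimeSpectrum.vanishingIdeal Z with hI
  have hZI : ∀ 𝔯 : PrimeSpectrum B, 𝔯 ∈ Z ↔ I ≤ 𝔯.asIdeal := by
    intro 𝔯
    have h1 : PrimeSpectrum.zeroLocus (I : Set B) = Z := by
      rw [hI, PrimeSpectrum.zeroLocus_vanishingIdeal_eq_closure, hZ.closure_eq]
    constructor
    · intro h
      rw [← h1] at h
      exact h
    · intro h
      rw [← h1]
      exact h
  have hsurj : Function.Surjective (algebraMap B (B ⧸ I)) := Ideal.Quotient.mk_surjective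
  haveI : Algebra.FiniteType A (B ⧸ I) :=
    Algebra.FiniteType.of_surjective (Ideal.Quotient.mkₐ A I) (Ideal.Quotient.mkₐ_surjective A I)
  have hcl := isClosed_fibLocDim_ge (A := A) (C := B ⧸ I) j
  have hemb := PrimeSpectrum.isClosedEmbedding_comap_of_surjective (B ⧸ I)
    (algebraMap B (B ⧸ I)) hsurj
  have himg := hemb.isClosedMap _ hcl
  convert himg using 1
  -- comap (map) for primes containing `I`
  have hcm : ∀ r : Ideal B, I ≤ r → (r.map (algebraMap B (B ⧸ I))).comap (algebraMap B (B ⧸ I)) = r := by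
    intro r hr
    rw [Ideal.comap_map_of_surjective _ hsurj]
    apply le_antisymm
    · refine sup_le le_rfl ?_
      intro x hx
      rw [Ideal.mem_comap, Submodule.mem_bot] at hx
      apply hr
      rw [← Ideal.Quotient.eq_zero_iff_mem]
      exact hx
    · exact le_sup_left
  ext q
  constructor
  · rintro ⟨𝔯, hle, hc, h𝔯Z, hj⟩
    have hI𝔯 : I ≤ 𝔯.asIdeal := (hZI 𝔯).mp h𝔯Z
    have hIq : I ≤ q.asIdeal := hI𝔯.trans hle
    have hkerq : RingHom.ker (algebraMap B (B ⧸ I)) ≤ q.asIdeal := by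
      intro x hx
      apply hIq
      rw [← Ideal.Quotient.eq_zero_iff_mem]
      exact hx
    have hker𝔯 : RingHom.ker (algebraMap B (B ⧸ I)) ≤ 𝔯.asIdeal := by
      intro x hx
      apply hI𝔯
      rw [← Ideal.Quotient.eq_zero_iff_mem]
      exact hx
    let q' : PrimeSpectrum (B ⧸ I) := ⟨q.asIdeal.map (algebraMap B (B ⧸ I)),
      Ideal.map_isPrime_of_surjective hsurj hkerq⟩
    let 𝔯' : PrimeSpectrum (B ⧸ I) := ⟨𝔯.asIdeal.map (algebraMap B (B ⧸ I)),
      Ideal.map_isPrime_of_surjective hsurj hker𝔯⟩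
    haveI : q'.asIdeal.IsPrime := q'.isPrime
    haveI : 𝔯'.asIdeal.IsPrime := 𝔯'.isPrime
    have hq' : q'.asIdeal.comap (algebraMap B (B ⧸ I)) = q.asIdeal := hcm _ hIq
    have h𝔯' : 𝔯'.asIdeal.comap (algebraMap B (B ⧸ I)) = 𝔯.asIdeal := hcm _ hI𝔯
    refine ⟨q', ?_, PrimeSpectrum.ext hq'⟩
    rw [Set.mem_ofPred_eq]
    have hle' : 𝔯'.asIdeal ≤ q'.asIdeal := Ideal.map_mono hle
    have hc' : 𝔯'.asIdeal.comap (algebraMap A (B ⧸ I)) =
        q'.asIdeal.comap (algebraMap A (B ⧸ I)) := by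
      rw [← comap_under_eq (P := B) A 𝔯'.asIdeal, ← comap_under_eq (P := B) A q'.asIdeal,
        hq', h𝔯']
      exact hc
    obtain ⟨𝔓, h𝔓, h𝔓𝔯⟩ := exists_prime_fib_of_le A q'.asIdeal 𝔯'.asIdeal hle' hc'
    have hform := dim_quotient_add_fibCoheight (A := A) q'.asIdeal 𝔓
    rw [fibCoheight_congr A _ _ h𝔓𝔯] at hform
    have h1 : fibCoheight A 𝔯'.asIdeal = fibCoheight A 𝔯.asIdeal := by
      rw [← fibCoheight_under A hsurj 𝔯'.asIdeal]
      exact fibCoheight_congr A _ _ h𝔯'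
    rw [h1] at hform
    have h2 : ringKrullDim (Fib A q'.asIdeal ⧸ 𝔓) ≤ ringKrullDim (Fib A q'.asIdeal) :=
      ringKrullDim_quotient_le 𝔓
    calc (j : WithBot ℕ∞) ≤ ((fibCoheight A 𝔯.asIdeal : ℕ∞) : WithBot ℕ∞) := by exact_mod_cast hj
      _ = ringKrullDim (Fib A q'.asIdeal ⧸ 𝔓) +
            ((fibCoheight A q'.asIdeal : ℕ∞) : WithBot ℕ∞) := hform.symm
      _ ≤ _ := add_le_add h2 le_rfl
  · rintro ⟨q', hq', rfl⟩
    rw [Set.mem_ofPred_eq] at hq'
    haveI := isNoetherianRing_fib (A := A) q'.asIdeal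
    obtain ⟨P₁, hP₁, hd₁⟩ := Equi133H8.exists_minimalPrimes_dim_eq (Fib A q'.asIdeal)
    haveI := hP₁.1.1
    have hform := dim_quotient_add_fibCoheight (A := A) q'.asIdeal P₁
    rw [hd₁] at hform
    rw [hform] at hq'
    set 𝔯' : Ideal (B ⧸ I) := below A q'.asIdeal P₁ with h𝔯'
    refine ⟨⟨𝔯'.comap (algebraMap B (B ⧸ I)), Ideal.comap_isPrime _ _⟩, ?_, ?_, ?_, ?_⟩
    · exact Ideal.comap_mono (below_le A q'.asIdeal P₁)
    · show (𝔯'.comap (algebraMap B (B ⧸ I))).comap (algebraMap A B) =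
        (q'.asIdeal.comap (algebraMap B (B ⧸ I))).comap (algebraMap A B)
      rw [comap_under_eq (P := B) A 𝔯', comap_under_eq (P := B) A q'.asIdeal]
      exact comap_below A q'.asIdeal P₁
    · rw [hZI]
      intro x hx
      show algebraMap B (B ⧸ I) x ∈ 𝔯'
      rw [show algebraMap B (B ⧸ I) x = 0 from Ideal.Quotient.eq_zero_iff_mem.mpr hx]
      exact zero_mem _
    · have h1 := fibCoheight_under A hsurj 𝔯'
      show (j : ℕ∞) ≤ fibCoheight A (under (P := B) 𝔯')
      rw [h1]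
      exact_mod_cast hq'

/-- on the locus where the associated points have closures of dimension `d` -/
theorem dimAlongGT_iff_of_assDimIn {d : ℕ} (Z : Set (PrimeSpectrum B)) (k : ℕ)
    (q : PrimeSpectrum B) (h : AssDimIn A B {d} q) :
    DimAlongGT A Z k q ↔ q ∉ BadSet A Z (d - k) := by
  have key : ∀ 𝔯 : PrimeSpectrum B, 𝔯 ≤ q →
      𝔯.asIdeal.comap (algebraMap A B) = q.asIdeal.comap (algebraMap A B) →
      (((k : ℕ∞) : WithBot ℕ∞) < ringKrullDim (Fib A 𝔯.asIdeal) ↔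
        ¬ ((d - k : ℕ) : ℕ∞) ≤ fibCoheight A 𝔯.asIdeal) := by
    intro 𝔯 hle hc
    haveI := isNoetherianRing_fib (A := A) 𝔯.asIdeal
    obtain ⟨m, hm⟩ := exists_nat_dim (Fib A 𝔯.asIdeal)
    obtain ⟨c, hc'⟩ := ENat.ne_top_iff_exists.mp (fibCoheight_ne_top (A := A) 𝔯.asIdeal)
    have hsum := dim_fib_add_fibCoheight_of_assDimIn 𝔯 (assDimIn_of_le h hle hc)
    rw [hm, ← hc'] at hsum
    have hsum' : m + c = d := by exact_mod_cast hsum
    rw [hm, ← hc']
    have e1 : (((k : ℕ∞) : WithBot ℕ∞) < ((m : ℕ) : WithBot ℕ∞)) ↔ k < m := by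
      constructor
      · intro h1; exact_mod_cast h1
      · intro h1; exact_mod_cast h1
    have e2 : (((d - k : ℕ) : ℕ∞) ≤ ((c : ℕ) : ℕ∞)) ↔ d - k ≤ c := by
      constructor
      · intro h1; exact_mod_cast h1
      · intro h1; exact_mod_cast h1
    rw [e1, e2]
    omega
  constructor
  · rintro hD ⟨𝔯, hle, hc, h𝔯Z, hj⟩
    exact ((key 𝔯 hle hc).mp (hD 𝔯 hle hc h𝔯Z)) hj
  · intro hB 𝔯 hle hc h𝔯Z
    rw [key 𝔯 hle hc]
    intro hj
    exact hB ⟨𝔯, hle, hc, h𝔯Z, hj⟩

end FT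

/-- **ring level**: for a flat finitely presented algebra and a closed subset `Z`, the locus where the fibre local ring is
equidimensional without embedded primes and the fibre local rings at the generizations
(in the fibre) lying in `Z` have dimension `> k`, is open. -/
theorem isOpen_strEq_dimAlongGT [Algebra.FinitePresentation A B] [Module.Flat A B]
    (Z : Set (PrimeSpectrum B)) (hZ : IsClosed Z) (k : ℕ) :
    IsOpen {q : PrimeSpectrum B | EGA4.IsStrictlyEquidim (Fib A q.asIdeal) ∧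
      DimAlongGT A Z k q} := by
  haveI : Algebra.FiniteType A B := inferInstance
  have hopen : IsOpen (⋃ d : ℕ, ({q : PrimeSpectrum B | AssDimIn A B {d} q} ∩
      (BadSet A Z (d - k))ᶜ)) :=
    isOpen_iUnion fun d => (isOpen_assDimIn (A := A) B {d}).inter
      (isClosed_badSet Z hZ (d - k)).isOpen_compl
  convert hopen using 1
  ext q
  rw [Set.mem_ofPred_eq, Set.mem_iUnion]
  constructor
  · rintro ⟨hS, hD⟩
    obtain ⟨d, hd⟩ := (isStrictlyEquidim_fib_iff q).mp hS
    exact ⟨d, hd, (dimAlongGT_iff_of_assDimIn Z k q hd).mp hD⟩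
  · rintro ⟨d, hd, hB⟩
    exact ⟨(isStrictlyEquidim_fib_iff q).mpr ⟨d, hd⟩,
      (dimAlongGT_iff_of_assDimIn Z k q hd).mpr hB⟩

end Groth.Agent.Lib.FibRkH5
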