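/-
helper5: EGA IV 12.1.6 / 12.2.4-type openness for "geometric (R_k) + equidimensional + no embedded
components" in flat families: `isOpen_strEq_dimAlong`, `FibGRkEq`, `fibGRkEq_iff`, `isOpen_fibGRkEq`,
`isOpen_proper_fibGRkEq`.  APPEND-ONLY once landed.
-/
import Mathlib
import Groth.Agent.Lib.FibRk2_helper5
import Groth.Agent.Lib.FibRk3_helper5
import Groth.Agent.Lib.FibGNorm5_helper5
import Groth.Agent.Lib.FormalStrict_helper9

set_option autoImplicit false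
set_option linter.unusedSectionVars false
universe u

open scoped TensorProduct
open CategoryTheory CategoryTheory.Limits AlgebraicGeometry TopologicalSpace
open Groth.Agent.Lib.FibSkH5 Groth.Agent.Lib.FibPdH5 Groth.Agent.Lib.FibAssH5
  Groth.Agent.Lib.FibGRedH5 Groth.Agent.Lib.FibGNormH5

namespace Groth.Agent.Lib.FibRkH5

variable {X Y : Scheme.{u}} (f : X ⟶ Y)

set_option maxHeartbeats 1000000 in
/-- scheme form of `isOpen_strEq_dimAlongGT` -/
theorem isOpen_strEq_dimAlong [Flat f] [LocallyOfFinitePresentation f] (Z : Set X)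
    (hZ : IsClosed Z) (k : ℕ) :
    IsOpen {x : X | EGA4.IsStrictlyEquidim ((f.fiber (f.base x)).presheaf.stalk (f.asFiber x)) ∧
      ∀ z : X, z ⤳ x → f.base z = f.base x → z ∈ Z →
        ((k : ℕ∞) : WithBot ℕ∞) <
          ringKrullDim ((f.fiber (f.base z)).presheaf.stalk (f.asFiber z))} := by
  classical
  rw [isOpen_iff_forall_mem_open]
  intro x hx
  obtain ⟨V, hV, hyV, -⟩ := Opens.isBasis_iff_nbhd.mp Y.isBasis_affineOpens
    (show f.base x ∈ (⊤ : Y.Opens) from trivial)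
  obtain ⟨U, hU, hxU, e⟩ := Opens.isBasis_iff_nbhd.mp X.isBasis_affineOpens
    (show x ∈ f ⁻¹ᵁ V from hyV)
  letI algAB : Algebra Γ(Y, V) Γ(X, U) := (f.appLE V U e).hom.toAlgebra
  haveI : Algebra.FinitePresentation Γ(Y, V) Γ(X, U) :=
    HasRingHomProperty.appLE (P := @LocallyOfFinitePresentation) f inferInstance ⟨V, hV⟩ ⟨U, hU⟩ e
  haveI : Module.Flat Γ(Y, V) Γ(X, U) :=
    HasRingHomProperty.appLE (P := @Flat) f inferInstance ⟨V, hV⟩ ⟨U, hU⟩ e
  have hmemU : ∀ 𝔭 : PrimeSpectrum Γ(X, U), (hU.fromSpec 𝔭 : X) ∈ U := by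
    intro 𝔭
    have : (hU.fromSpec 𝔭 : X) ∈ hU.fromSpec.opensRange := ⟨𝔭, rfl⟩
    rwa [hU.opensRange_fromSpec] at this
  have hprime : ∀ 𝔭 : PrimeSpectrum Γ(X, U),
      hU.primeIdealOf ⟨hU.fromSpec 𝔭, hmemU 𝔭⟩ = 𝔭 := by
    intro 𝔭
    apply hU.fromSpec.isOpenEmbedding.injective
    rw [hU.fromSpec_primeIdealOf]
  have key' : ∀ 𝔭 : PrimeSpectrum Γ(X, U),
      Nonempty (Fib Γ(Y, V) 𝔭.asIdeal ≃+*
        (f.fiber (f (hU.fromSpec 𝔭))).presheaf.stalk (f.asFiber (hU.fromSpec 𝔭))) := by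
    intro 𝔭
    have := nonempty_fib_ringEquiv f hV hU e (hmemU 𝔭)
    rwa [hprime] at this
  have hdim : ∀ 𝔭 : PrimeSpectrum Γ(X, U),
      ringKrullDim ((f.fiber (f (hU.fromSpec 𝔭))).presheaf.stalk (f.asFiber (hU.fromSpec 𝔭))) =
      ringKrullDim (Fib Γ(Y, V) 𝔭.asIdeal) := by
    intro 𝔭
    obtain ⟨σ⟩ := key' 𝔭
    exact (ringKrullDim_eq_of_ringEquiv σ).symm
  have hstr : ∀ 𝔭 : PrimeSpectrum Γ(X, U),
      EGA4.IsStrictlyEquidim ((f.fiber (f (hU.fromSpec 𝔭))).presheaf.stalk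
        (f.asFiber (hU.fromSpec 𝔭))) ↔
      EGA4.IsStrictlyEquidim (Fib Γ(Y, V) 𝔭.asIdeal) := by
    intro 𝔭
    obtain ⟨σ⟩ := key' 𝔭
    haveI := isNoetherianRing_fib (A := Γ(Y, V)) 𝔭.asIdeal
    haveI : IsNoetherianRing ((f.fiber (f (hU.fromSpec 𝔭))).presheaf.stalk
        (f.asFiber (hU.fromSpec 𝔭))) := isNoetherianRing_of_ringEquiv _ σ
    exact ⟨Groth.Agent.EquiCat9.isStrictlyEquidim_of_ringEquiv σ.symm,
      Groth.Agent.EquiCat9.isStrictlyEquidim_of_ringEquiv σ⟩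
  have hcomap : ∀ 𝔭 : PrimeSpectrum Γ(X, U),
      𝔭.asIdeal.comap (algebraMap Γ(Y, V) Γ(X, U)) =
        (hV.primeIdealOf ⟨f.base (hU.fromSpec 𝔭), e (hmemU 𝔭)⟩).asIdeal := by
    intro 𝔭
    have := primeIdealOf_comap f hV hU e (hmemU 𝔭)
    rwa [hprime] at this
  have hfib : ∀ 𝔭₁ 𝔭₂ : PrimeSpectrum Γ(X, U),
      f.base (hU.fromSpec 𝔭₁) = f.base (hU.fromSpec 𝔭₂) ↔
        𝔭₁.asIdeal.comap (algebraMap Γ(Y, V) Γ(X, U)) =
          𝔭₂.asIdeal.comap (algebraMap Γ(Y, V) Γ(X, U)) := by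
    intro 𝔭₁ 𝔭₂
    rw [hcomap, hcomap]
    constructor
    · intro h
      have : (⟨f.base (hU.fromSpec 𝔭₁), e (hmemU 𝔭₁)⟩ : V) =
          ⟨f.base (hU.fromSpec 𝔭₂), e (hmemU 𝔭₂)⟩ := Subtype.ext h
      rw [this]
    · intro h
      have h' := Groth.Agent.Lib.AffStalk_helper3.primeIdealOf_injective hV (PrimeSpectrum.ext h)
      exact congrArg Subtype.val h'
  have hspec : ∀ 𝔭₁ 𝔭₂ : PrimeSpectrum Γ(X, U),
      (hU.fromSpec 𝔭₁ : X) ⤳ hU.fromSpec 𝔭₂ ↔ 𝔭₁ ≤ 𝔭₂ := by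
    intro 𝔭₁ 𝔭₂
    rw [hU.fromSpec.isOpenEmbedding.isInducing.specializes_iff]
    exact (PrimeSpectrum.le_iff_specializes 𝔭₁ 𝔭₂).symm
  set ZU : Set (PrimeSpectrum Γ(X, U)) := {𝔭 | (hU.fromSpec 𝔭 : X) ∈ Z} with hZU
  have hZUcl : IsClosed ZU := hZ.preimage hU.fromSpec.continuous
  have hdict : ∀ 𝔭 : PrimeSpectrum Γ(X, U),
      (EGA4.IsStrictlyEquidim (Fib Γ(Y, V) 𝔭.asIdeal) ∧ DimAlongGT Γ(Y, V) ZU k 𝔭) ↔
        (EGA4.IsStrictlyEquidim ((f.fiber (f.base (hU.fromSpec 𝔭))).presheaf.stalk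
            (f.asFiber (hU.fromSpec 𝔭))) ∧
          ∀ z : X, z ⤳ hU.fromSpec 𝔭 → f.base z = f.base (hU.fromSpec 𝔭) → z ∈ Z →
            ((k : ℕ∞) : WithBot ℕ∞) <
              ringKrullDim ((f.fiber (f.base z)).presheaf.stalk (f.asFiber z))) := by
    intro 𝔭
    apply and_congr (hstr 𝔭).symm
    constructor
    · intro h z hz hfz hzZ
      have hzU : z ∈ U := hz.mem_open U.isOpen (hmemU 𝔭)
      obtain ⟨𝔯, rfl⟩ : ∃ 𝔯 : PrimeSpectrum Γ(X, U), (hU.fromSpec 𝔯 : X) = z :=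
        ⟨hU.primeIdealOf ⟨z, hzU⟩, hU.fromSpec_primeIdealOf ⟨z, hzU⟩⟩
      have := h 𝔯 ((hspec _ _).mp hz) ((hfib _ _).mp hfz) hzZ
      rw [← hdim] at this
      exact this
    · intro h 𝔯 hle hc h𝔯Z
      have := h (hU.fromSpec 𝔯) ((hspec _ _).mpr hle) ((hfib _ _).mpr hc) h𝔯Z
      rw [← hdim]
      exact this
  have hopen : IsOpen {q : PrimeSpectrum Γ(X, U) |
      EGA4.IsStrictlyEquidim (Fib Γ(Y, V) q.asIdeal) ∧ DimAlongGT Γ(Y, V) ZU k q} :=
    isOpen_strEq_dimAlongGT (A := Γ(Y, V)) ZU hZUcl k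
  refine ⟨(fun 𝔭 : PrimeSpectrum Γ(X, U) => (hU.fromSpec 𝔭 : X)) ''
    {q : PrimeSpectrum Γ(X, U) |
      EGA4.IsStrictlyEquidim (Fib Γ(Y, V) q.asIdeal) ∧ DimAlongGT Γ(Y, V) ZU k q}, ?_,
    hU.fromSpec.isOpenEmbedding.isOpenMap _ hopen, ?_⟩
  · rintro _ ⟨𝔭, h𝔭, rfl⟩
    exact (hdict 𝔭).mp h𝔭
  · refine ⟨hU.primeIdealOf ⟨x, hxU⟩, ?_, hU.fromSpec_primeIdealOf ⟨x, hxU⟩⟩
    rw [Set.mem_ofPred_eq, hdict, hU.fromSpec_primeIdealOf ⟨x, hxU⟩]
    exact hx

/-- the condition of S5931 at a point `z` of the fibre over `y` -/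
def FibGRkEq (k : ℕ) (y : Y) (z : f.fiber y) : Prop :=
  (∀ (K : Type u) [Field K] [Algebra (IsLocalRing.ResidueField (Y.presheaf.stalk y)) K],
      Module.Finite (IsLocalRing.ResidueField (Y.presheaf.stalk y)) K →
      ∀ x' : ↥(FBase.bc (f.fiberToSpecResidueField y) K),
        (FBase.bcπ (f.fiberToSpecResidueField y) K).base x' = z →
        LocCoh.HasRk k ((FBase.bc (f.fiberToSpecResidueField y) K).presheaf.stalk x')) ∧
    EGA4.IsEquidim ↑((f.fiber y).presheaf.stalk z) ∧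
    (∀ p ∈ associatedPrimes ↑((f.fiber y).presheaf.stalk z) ↑((f.fiber y).presheaf.stalk z),
      p ∈ minimalPrimes ↑((f.fiber y).presheaf.stalk z))

set_option maxHeartbeats 1000000 in
/-- the fibrewise form of the pointwise criterion -/
theorem fibGRkEq_iff [Flat f] [LocallyOfFinitePresentation f] (k : ℕ) (x : X) :
    FibGRkEq f k (f.base x) (f.asFiber x) ↔
      (EGA4.IsStrictlyEquidim ((f.fiber (f.base x)).presheaf.stalk (f.asFiber x)) ∧
        ∀ z : X, z ⤳ x → f.base z = f.base x → z ∈ ((f.smoothLocus : Set X))ᶜ →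
          ((k : ℕ∞) : WithBot ℕ∞) <
            ringKrullDim ((f.fiber (f.base z)).presheaf.stalk (f.asFiber z))) := by
  letI : (f.fiber (f.base x)).Over (Spec (CommRingCat.of (Y.residueField (f.base x)))) :=
    ⟨f.fiberToSpecResidueField (f.base x)⟩
  haveI hlfp : ∀ y : Y, LocallyOfFinitePresentation (f.fiberToSpecResidueField y) := fun y =>
    MorphismProperty.pullback_snd (P := @LocallyOfFinitePresentation) _ _ inferInstance
  haveI : LocallyOfFinitePresentation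
      ((f.fiber (f.base x)) ↘ Spec (CommRingCat.of (Y.residueField (f.base x)))) := hlfp _
  haveI : IsLocallyNoetherian (f.fiber (f.base x)) :=
    Groth.Agent.CMLocusBC.isLocallyNoetherian_fiber f (f.base x)
  have hcrit := grkfin_iff (Y.residueField (f.base x)) (f.fiber (f.base x)) k (f.asFiber x)
  have h0 : (∀ (K : Type u) [Field K]
      [Algebra (IsLocalRing.ResidueField (Y.presheaf.stalk (f.base x))) K],
      Module.Finite (IsLocalRing.ResidueField (Y.presheaf.stalk (f.base x))) K →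
      ∀ x' : ↥(FBase.bc (f.fiberToSpecResidueField (f.base x)) K),
        (FBase.bcπ (f.fiberToSpecResidueField (f.base x)) K).base x' = f.asFiber x →
        LocCoh.HasRk k ((FBase.bc (f.fiberToSpecResidueField (f.base x)) K).presheaf.stalk x')) ↔
      GRkFin (Y.residueField (f.base x)) (f.fiber (f.base x)) k (f.asFiber x) := Iff.rfl
  have hstrict : (EGA4.IsEquidim ↑((f.fiber (f.base x)).presheaf.stalk (f.asFiber x)) ∧
      (∀ p ∈ associatedPrimes ↑((f.fiber (f.base x)).presheaf.stalk (f.asFiber x))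
        ↑((f.fiber (f.base x)).presheaf.stalk (f.asFiber x)),
        p ∈ minimalPrimes ↑((f.fiber (f.base x)).presheaf.stalk (f.asFiber x)))) ↔
      EGA4.IsStrictlyEquidim ((f.fiber (f.base x)).presheaf.stalk (f.asFiber x)) :=
    ⟨fun h => Groth.Agent.Lib.StrictCatH5.isStrictlyEquidim_of_isEquidim h.1 h.2,
      fun h => ⟨Groth.Agent.Lib.StrictCatH5.isEquidim_of_isStrictlyEquidim h,
        Groth.Agent.Lib.StrictCatH5.ass_minimal_of_isStrictlyEquidim h⟩⟩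
  unfold FibGRkEq
  rw [h0, hcrit, hstrict, and_comm]
  apply and_congr Iff.rfl
  have hgen := forall_generization_iff f
    (fun y z' => ringKrullDim ((f.fiber y).presheaf.stalk z') ≤ (k : WithBot ℕ∞) →
      z' ∈ (f.fiberToSpecResidueField y).smoothLocus) x
  have hL : (∀ z : ↥(f.fiber (f.base x)), z ⤳ f.asFiber x →
      ringKrullDim ((f.fiber (f.base x)).presheaf.stalk z) ≤ (k : WithBot ℕ∞) →
      z ∈ ((f.fiber (f.base x)) ↘
        Spec (CommRingCat.of (Y.residueField (f.base x)))).smoothLocus) ↔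
      (∀ z : ↥(f.fiber (f.base x)), f.asFiber x ∈ closure ({z} : Set ↥(f.fiber (f.base x))) →
        ringKrullDim ((f.fiber (f.base x)).presheaf.stalk z) ≤ (k : WithBot ℕ∞) →
        z ∈ (f.fiberToSpecResidueField (f.base x)).smoothLocus) := by
    constructor
    · intro h z hz
      exact h z (specializes_iff_mem_closure.mpr hz)
    · intro h z hz
      exact h z (specializes_iff_mem_closure.mp hz)
  rw [hL, hgen]
  constructor
  · intro h z hz hfz hzZ
    by_contra hd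
    apply hzZ
    have hd' : ringKrullDim ((f.fiber (f.base z)).presheaf.stalk (f.asFiber z)) ≤
        (k : WithBot ℕ∞) := not_lt.mp hd
    have hsm := h z hz hfz hd'
    exact (Groth.Agent.Lib.UnramLocH4.main2156 f z).mpr ⟨Flat.stalkMap f z, hsm⟩
  · intro h z hz hfz hd
    by_contra hsm
    have hzZ : z ∈ ((f.smoothLocus : Set X))ᶜ := by
      intro hz'
      exact hsm ((Groth.Agent.Lib.UnramLocH4.main2156 f z).mp hz').2
    have := h z hz hfz hzZ
    exact absurd hd (not_le.mpr this)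

/-- **EGA IV 12.1.6-type** (S5931 form) -/
theorem isOpen_fibGRkEq [Flat f] [LocallyOfFinitePresentation f] (k : ℕ) :
    IsOpen {x : X | FibGRkEq f k (f.base x) (f.asFiber x)} := by
  have h := isOpen_strEq_dimAlong f ((f.smoothLocus : Set X))ᶜ
    f.smoothLocus.isOpen.isClosed_compl k
  convert h using 1
  ext x
  rw [Set.mem_ofPred_eq, Set.mem_ofPred_eq]
  exact fibGRkEq_iff f k x

/-- **EGA IV 12.2.4-type** (S5932 form) -/
theorem isOpen_proper_fibGRkEq [IsProper f] [Flat f] [LocallyOfFinitePresentation f] (k : ℕ) :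
    IsOpen {y : Y | ∀ z : f.fiber y, FibGRkEq f k y z} :=
  isOpen_forall_fiber f f.isClosedMap (FibGRkEq f k) (isOpen_fibGRkEq f k)

end Groth.Agent.Lib.FibRkH5
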