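/-
helper5: the locus of points of the base with geometrically `(R_n)` fibre is locally constructible
(EGA IV 9.9.5-type, S4828).  APPEND-ONLY once landed.
-/
import Mathlib
import Groth.Agent.Lib.FibRk8_helper5
import Groth.Agent.Lib.FibGNorm9_helper5

set_option autoImplicit false
set_option linter.unusedSectionVars false
universe u

open scoped TensorProduct
open CategoryTheory CategoryTheory.Limits AlgebraicGeometry TopologicalSpace
open Groth.Agent.Lib.FibGNormH5

namespace Groth.Agent.Lib.FibRkH5

/-- **EGA IV 9.9.5-type**: the set of points of the base with geometrically `(R_n)` fibre is locally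
constructible. -/
theorem main4828 {X S : Scheme.{u}} (f : X ⟶ S)
    [LocallyOfFinitePresentation f] [QuasiCompact f] (n : ℕ) :
    Topology.IsLocallyConstructible {s : S |
      ∀ (K : Type u) [Field K] [Algebra (IsLocalRing.ResidueField (S.presheaf.stalk s)) K]
        (x' : ↥(FBase.bc (f.fiberToSpecResidueField s) K)),
        LocCoh.HasRk n ((FBase.bc (f.fiberToSpecResidueField s) K).presheaf.stalk x')} := by
  have h := isLocallyConstructible_forall_fiber f
    (fun s z => ∀ (K : Type u) [Field K] [Algebra (IsLocalRing.ResidueField (S.presheaf.stalk s)) K]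
      (x' : ↥(FBase.bc (f.fiberToSpecResidueField s) K)),
      (FBase.bcπ (f.fiberToSpecResidueField s) K).base x' = z →
        LocCoh.HasRk n ((FBase.bc (f.fiberToSpecResidueField s) K).presheaf.stalk x'))
    (main3454 f n)
  convert h using 1
  ext s
  simp only [Set.mem_ofPred_eq]
  constructor
  · intro hs z K _ _ x' _
    exact hs K x'
  · intro hs K _ _ x'
    exact hs _ K x' rfl

end Groth.Agent.Lib.FibRkH5
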