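import Mathlib
import Groth.Prelude.Def_FibSite
import Groth.Agent.Lib.FibSite2_helper8

/-!
# Fibred sites: extension from the fibre over a final object is fully faithful (helper8)
-/

set_option backward.isDefEq.respectTransparency false
set_option backward.isDefEq.respectTransparency.types false
set_option backward.defeqAttrib.useBackward true

universe u

open CategoryTheory CategoryTheory.Limits Opposite Pseudofunctor Pseudofunctor.CoGrothendieck
  Bicategory

namespace Groth.Agent.Lib.FibSiteH8

variable {𝒮 : Type u} [SmallCategory 𝒮] (F : Pseudofunctor (LocallyDiscrete 𝒮ᵒᵖ) Cat.{u, u})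

theorem full_ι_of_isTerminal (i : 𝒮) (hi : IsTerminal i) : (ι F i).Full where
  map_surjective {V V₀} l := exists_vert F l (hi.hom_ext _ _)

theorem faithful_ι (i : 𝒮) : (ι F i).Faithful where
  map_injective {V V₀} a b h := ι_map_injective F a b h

variable (J : FibSite.Topologies F) (hF : FibSite.IsPreFibSite F J)

include hF

theorem extend_fullyFaithful (i : 𝒮) (hi : IsTerminal i)
    [(ι F i).IsContinuous (J i) (FibSite.totalTopology F J)]
    [((ι F i).sheafPushforwardContinuous (Type u) (J i)
      (FibSite.totalTopology F J)).IsRightAdjoint] :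
    (FibSite.extend F J (Type u) i).Full ∧ (FibSite.extend F J (Type u) i).Faithful := by
  haveI := full_ι_of_isTerminal F i hi
  haveI := faithful_ι F i
  haveI : (ι F i).IsCocontinuous (J i) (FibSite.totalTopology F J) := isCocontinuous_ι F J hF i
  let t : Adjunction.Triple (FibSite.extend F J (Type u) i)
      ((ι F i).sheafPushforwardContinuous (Type u) (J i) (FibSite.totalTopology F J))
      ((ι F i).sheafPushforwardCocontinuous (Type u) (J i) (FibSite.totalTopology F J)) :=
    { adj₁ := (ι F i).sheafAdjunctionContinuous (Type u) (J i) (FibSite.totalTopology F J)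
      adj₂ := (ι F i).sheafAdjunctionCocontinuous (Type u) (J i) (FibSite.totalTopology F J) }
  haveI : IsIso t.adj₂.counit := by
    haveI : ∀ G : Sheaf (J i) (Type u), IsIso (t.adj₂.counit.app G) := by
      intro G
      haveI : IsIso ((sheafToPresheaf _ _).map (t.adj₂.counit.app G)) := by
        show IsIso (((ι F i).sheafAdjunctionCocontinuous (Type u) (J i)
          (FibSite.totalTopology F J)).counit.app G).hom
        rw [Functor.sheafAdjunctionCocontinuous_counit_app_hom]
        infer_instance
      exact isIso_of_reflects_iso _ (sheafToPresheaf _ _)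
    exact NatIso.isIso_of_isIso_app _
  haveI : IsIso t.adj₁.unit := t.isIso_unit_iff_isIso_counit.2 inferInstance
  have ff := t.adj₁.fullyFaithfulLOfIsIsoUnit
  exact ⟨ff.full, ff.faithful⟩

end Groth.Agent.Lib.FibSiteH8
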