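import Mathlib
import Groth.Prelude.Def_FibSite
import Groth.Agent.Lib.FibSite2_helper8

/-!
# Fibred sites: right Kan extension along a fibre inclusion is a product over base maps (helper8)
-/

set_option backward.isDefEq.respectTransparency false
set_option backward.isDefEq.respectTransparency.types false
set_option backward.defeqAttrib.useBackward true

universe w v₃ u₃ v₂ u₂ v₁ u₁ u

open CategoryTheory CategoryTheory.Limits Opposite Pseudofunctor Pseudofunctor.CoGrothendieck
  Bicategory

namespace Groth.Agent.Lib.FibSiteH8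

section CompInit

variable {C : Type*} [Category C] {I : Type*} (T : I → C) (idx : C → I)
  (huniq : ∀ c, Unique (T (idx c) ⟶ c)) (hidx : ∀ (i : I) (c : C), (T i ⟶ c) → idx c = i)
  {A : Type*} [Category A] (D : C ⥤ A)

include hidx in
theorem compInit_key (t : Fan (fun i => D.obj (T i))) {c : C} (i : I) (h : T i ⟶ c) :
    t.proj i ≫ D.map h = t.proj (idx c) ≫ D.map (huniq c).default := by
  obtain rfl := hidx i c h
  rw [(huniq c).uniq h]

/-- the cone built from a fan on the component-initial objects -/
def compInit_cone (t : Fan (fun i => D.obj (T i))) : Cone D where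
  pt := t.pt
  π :=
    { app := fun c => t.proj (idx c) ≫ D.map (huniq c).default
      naturality := by
        intro c c' g
        dsimp
        rw [Category.id_comp, Category.assoc, ← D.map_comp]
        exact (compInit_key T idx huniq hidx D t (idx c) ((huniq c).default ≫ g)).symm }

/-- a limit cone gives a limit fan on the component-initial objects -/
def compInit_isLimitFan (s : Cone D) (hs : IsLimit s) :
    IsLimit (Fan.mk s.pt (fun i => s.π.app (T i))) :=
  Fan.IsLimit.mk _ (fun t => hs.lift (compInit_cone T idx huniq hidx D t))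
    (fun t i => by
      have h1 := hs.fac (compInit_cone T idx huniq hidx D t) (T i)
      have h2 := compInit_key T idx huniq hidx D t i (𝟙 (T i))
      rw [D.map_id, Category.comp_id] at h2
      exact h1.trans h2.symm)
    (fun t m hm => by
      refine hs.uniq (compInit_cone T idx huniq hidx D t) m (fun c => ?_)
      have h1 : s.π.app (T (idx c)) ≫ D.map (huniq c).default = s.π.app c := s.w _
      have h2 := hm (idx c)
      show m ≫ s.π.app c = t.proj (idx c) ≫ D.map (huniq c).default
      rw [← h1, ← Category.assoc]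
      exact congrArg (· ≫ D.map (huniq c).default) h2)

/-- a cone which is a limit fan on the component-initial objects is a limit cone -/
def compInit_isLimitCone (s : Cone D)
    (hs : IsLimit (Fan.mk s.pt (fun i => s.π.app (T i)))) : IsLimit s where
  lift t := Fan.IsLimit.lift hs (fun i => t.π.app (T i))
  fac t c := by
    have h1 : s.π.app (T (idx c)) ≫ D.map (huniq c).default = s.π.app c := s.w _
    have h2 : t.π.app (T (idx c)) ≫ D.map (huniq c).default = t.π.app c := t.w _
    rw [← h1, ← h2, ← Category.assoc]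
    exact congrArg (· ≫ D.map (huniq c).default)
      (Fan.IsLimit.fac hs (fun i => t.π.app (T i)) (idx c))
  uniq t m hm := by
    refine Fan.IsLimit.hom_ext hs _ _ (fun i => ?_)
    rw [Fan.IsLimit.fac]
    exact hm (T i)

end CompInit

section FanLemmas

variable {I : Type*} {A : Type*} [Category A]

/-- composing the legs of a limit fan with isomorphisms gives a limit fan -/
noncomputable def isLimitFanPostIso {X Y : I → A} {P : A} (p : ∀ i, P ⟶ X i)
    (e : ∀ i, X i ⟶ Y i) [∀ i, IsIso (e i)] (h : IsLimit (Fan.mk P p)) :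
    IsLimit (Fan.mk P (fun i => p i ≫ e i)) :=
  Fan.IsLimit.mk _ (fun t => Fan.IsLimit.lift h (fun i => t.proj i ≫ inv (e i)))
    (fun t i => by
      have h1 : Fan.IsLimit.lift h (fun i => t.proj i ≫ inv (e i)) ≫ p i =
          t.proj i ≫ inv (e i) := Fan.IsLimit.fac h (fun i => t.proj i ≫ inv (e i)) i
      show Fan.IsLimit.lift h _ ≫ (p i ≫ e i) = t.proj i
      rw [← Category.assoc, h1, Category.assoc, IsIso.inv_hom_id, Category.comp_id])
    (fun t m hm => by
      refine Fan.IsLimit.hom_ext h _ _ (fun i => ?_)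
      rw [Fan.IsLimit.fac]
      have h1 : m ≫ (p i ≫ e i) = t.proj i := hm i
      show m ≫ p i = t.proj i ≫ inv (e i)
      rw [← h1, Category.assoc, Category.assoc, IsIso.hom_inv_id, Category.comp_id])

theorem isIso_proj_of_unique [Unique I] {X : I → A} {P : A}
    (p : ∀ i, P ⟶ X i) (h : IsLimit (Fan.mk P p)) : IsIso (p default) := by
  refine ⟨Fan.IsLimit.lift h
    (fun i => eqToHom (congrArg X (Subsingleton.elim default i))), ?_, ?_⟩
  · refine Fan.IsLimit.hom_ext h _ _ (fun i => ?_)
    obtain rfl : i = default := Subsingleton.elim _ _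
    rw [Category.assoc, Fan.IsLimit.fac]
    simp
  · exact (Fan.IsLimit.fac h _ default).trans (by simp)

end FanLemmas

section Ran

variable {𝒮 : Type u₁} [Category.{v₁} 𝒮] (F : Pseudofunctor (LocallyDiscrete 𝒮ᵒᵖ) Cat.{v₂, u₂})
variable (S : 𝒮) (X : ∫ᶜ F)

/-- the component-initial objects of the comma category computing `Ran_ι` at `X` -/
def ranT (f : S ⟶ X.base) : StructuredArrow (op X) (ι F S).op :=
  StructuredArrow.mk (Y := op ((FibSite.invImage F f).obj X.fiber)) (cartesianLift X.fiber f).op

/-- the component of an object of the comma category -/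
def ranIdx (c : StructuredArrow (op X) (ι F S).op) : S ⟶ X.base := c.hom.unop.base

theorem ranIdx_eq (f : S ⟶ X.base) (c : StructuredArrow (op X) (ι F S).op)
    (φ : ranT F S X f ⟶ c) : ranIdx F S X c = f := by
  have h : c.hom.unop = (ι F S).map φ.right.unop ≫ cartesianLift X.fiber f :=
    (congrArg Quiver.Hom.unop (StructuredArrow.w φ)).symm
  show c.hom.unop.base = f
  rw [h]
  simp

set_option warn.classDefReducibility false in
/-- uniqueness of the map from the component-initial object -/
noncomputable def ranUniq (c : StructuredArrow (op X) (ι F S).op) :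
    Unique (ranT F S X (ranIdx F S X c) ⟶ c) where
  default := StructuredArrow.homMk (Quiver.Hom.op c.hom.unop.fiber) (by
    apply Quiver.Hom.unop_inj
    exact (fac F X _ c.hom.unop).symm)
  uniq φ := by
    apply StructuredArrow.hom_ext
    apply Quiver.Hom.unop_inj
    apply vert_cart_inj F (ranIdx F S X c)
    have h1 : (ι F S).map φ.right.unop ≫ cartesianLift X.fiber (ranIdx F S X c) = c.hom.unop :=
      congrArg Quiver.Hom.unop (StructuredArrow.w φ)
    have h2 := fac F X _ c.hom.unop
    exact h1.trans h2

/-- pointwise right Kan extension along a fibre inclusion is a product over base maps -/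
noncomputable def ranFanIsLimit {A : Type u₃} [Category.{v₃} A] (P : (F.obj ⟨op S⟩)ᵒᵖ ⥤ A)
    (E : Functor.RightExtension (ι F S).op P) (hE : E.IsPointwiseRightKanExtensionAt (op X)) :
    IsLimit (Fan.mk (E.left.obj (op X)) (fun f : S ⟶ X.base =>
      (E.left.map (cartesianLift X.fiber f).op ≫
        E.hom.app (op ((FibSite.invImage F f).obj X.fiber)) :
        E.left.obj (op X) ⟶ P.obj (op ((FibSite.invImage F f).obj X.fiber))))) :=
  compInit_isLimitFan (ranT F S X) (ranIdx F S X) (ranUniq F S X) (ranIdx_eq F S X) _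
    (E.coneAt (op X)) hE

/-- conversely -/
noncomputable def ranIsPointwiseOfFan {A : Type u₃} [Category.{v₃} A]
    (P : (F.obj ⟨op S⟩)ᵒᵖ ⥤ A)
    (E : Functor.RightExtension (ι F S).op P)
    (h : IsLimit (Fan.mk (E.left.obj (op X)) (fun f : S ⟶ X.base =>
      (E.left.map (cartesianLift X.fiber f).op ≫
        E.hom.app (op ((FibSite.invImage F f).obj X.fiber)) :
        E.left.obj (op X) ⟶ P.obj (op ((FibSite.invImage F f).obj X.fiber)))))) :
    E.IsPointwiseRightKanExtensionAt (op X) :=
  compInit_isLimitCone (ranT F S X) (ranIdx F S X) (ranUniq F S X) _ (E.coneAt (op X)) h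

end Ran

section SheafLevel

variable {𝒮 : Type u₁} [Category.{v₁} 𝒮] (F : Pseudofunctor (LocallyDiscrete 𝒮ᵒᵖ) Cat.{v₂, u₂})
  (J : FibSite.Topologies F) {A : Type u₃} [Category.{v₃} A] {i j : 𝒮} (f : i ⟶ j)
  [∀ P : (F.obj ⟨op i⟩)ᵒᵖ ⥤ A, (ι F i).op.HasPointwiseRightKanExtension P]

/-- projection `ι_j^* Ran_{ι_i} P ⟶ (f^*)^* P` -/
noncomputable def ranProj (P : (F.obj ⟨op i⟩)ᵒᵖ ⥤ A) :
    (ι F j).op ⋙ (ι F i).op.ran.obj P ⟶ (FibSite.invImage F f).op ⋙ P where
  app Z := ((ι F i).op.ran.obj P).map (cartesianLift Z.unop f).op ≫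
    ((ι F i).op.ranCounit.app P).app (op ((FibSite.invImage F f).obj Z.unop))
  naturality Z Z' z := by
    have h1 := cart_nat F f z.unop
    have h2 := ((ι F i).op.ranCounit.app P).naturality ((FibSite.invImage F f).map z.unop).op
    dsimp at h2 ⊢
    rw [← Functor.map_comp_assoc, ← op_comp, h1, op_comp, Functor.map_comp_assoc, h2,
      Category.assoc]

theorem ranProj_naturality {P P' : (F.obj ⟨op i⟩)ᵒᵖ ⥤ A} (φ : P ⟶ P') :
    Functor.whiskerLeft (ι F j).op ((ι F i).op.ran.map φ) ≫ ranProj F f P' =
      ranProj F f P ≫ Functor.whiskerLeft (FibSite.invImage F f).op φ := by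
  ext Z
  have h1 : ((ι F i).op.ran.map φ).app (op ((ι F j).obj (unop Z))) ≫
      ((ι F i).op.ran.obj P').map (cartesianLift (unop Z) f).op =
      ((ι F i).op.ran.obj P).map (cartesianLift (unop Z) f).op ≫
        ((ι F i).op.ran.map φ).app (op ((ι F i).obj ((FibSite.invImage F f).obj (unop Z)))) :=
    (((ι F i).op.ran.map φ).naturality (cartesianLift Z.unop f).op).symm
  have h2 := congr_app ((ι F i).op.ranCounit.naturality φ)
    (op ((FibSite.invImage F f).obj Z.unop))
  dsimp [ranProj] at h2 ⊢
  rw [reassoc_of% h1, h2, Category.assoc]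

variable [(ι F i).IsCocontinuous (J i) (FibSite.totalTopology F J)]
  [(ι F j).IsContinuous (J j) (FibSite.totalTopology F J)]

/-- the projection on sheaves -/
noncomputable def sheafProj [(FibSite.invImage F f).IsContinuous (J j) (J i)]
    (a : Sheaf (J i) A) :
    (FibSite.restr F J A j).obj ((FibSite.coextend F J A i).obj a) ⟶
      ((FibSite.invImage F f).sheafPushforwardContinuous A (J j) (J i)).obj a :=
  ⟨ranProj F f a.obj⟩

theorem sheafProj_naturality [(FibSite.invImage F f).IsContinuous (J j) (J i)]
    {a a' : Sheaf (J i) A} (φ : a ⟶ a') :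
    (FibSite.coextend F J A i ⋙ FibSite.restr F J A j).map φ ≫ sheafProj F J f a' =
      sheafProj F J f a ≫
        ((FibSite.invImage F f).sheafPushforwardContinuous A (J j) (J i)).map φ := by
  apply Sheaf.hom_ext
  exact ranProj_naturality F f φ.hom

/-- the fan of projections is a limit fan -/
noncomputable def sheafFanIsLimit [∀ f : i ⟶ j, (FibSite.invImage F f).IsContinuous (J j) (J i)]
    (a : Sheaf (J i) A) :
    IsLimit (Fan.mk ((FibSite.restr F J A j).obj ((FibSite.coextend F J A i).obj a))
      (fun f : i ⟶ j => sheafProj F J f a)) := by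
  refine isLimitOfReflects (sheafToPresheaf (J j) A) ?_
  refine evaluationJointlyReflectsLimits _ (fun Z => ?_)
  have key : IsLimit ((sheafToPresheaf (J j) A ⋙ (evaluation _ A).obj Z).mapCone
      (Fan.mk ((FibSite.restr F J A j).obj ((FibSite.coextend F J A i).obj a))
        (fun f : i ⟶ j => sheafProj F J f a))) := by
    refine (isLimitMapConeFanMkEquiv (sheafToPresheaf (J j) A ⋙ (evaluation _ A).obj Z)
      (fun f : i ⟶ j => ((FibSite.invImage F f).sheafPushforwardContinuous A (J j) (J i)).obj a)
      (fun f : i ⟶ j => sheafProj F J f a)).symm ?_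
    exact ranFanIsLimit F i ((ι F j).obj Z.unop) a.obj
      (Functor.RightExtension.mk _ ((ι F i).op.ranCounit.app a.obj))
      ((ι F i).op.isPointwiseRightKanExtensionRanCounit a.obj (op ((ι F j).obj Z.unop)))
  exact key

theorem isIso_sheafProj_of_unique [(FibSite.invImage F f).IsContinuous (J j) (J i)]
    (hf : ∀ g : i ⟶ j, g = f) (a : Sheaf (J i) A) : IsIso (sheafProj F J f a) := by
  letI : Unique (i ⟶ j) := ⟨⟨f⟩, hf⟩
  haveI : IsIso ((sheafToPresheaf _ _).map (sheafProj F J f a)) := by
    show IsIso (ranProj F f a.obj)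
    haveI : ∀ Z, IsIso ((ranProj F f a.obj).app Z) := fun Z =>
      isIso_proj_of_unique (I := i ⟶ j) _ (ranFanIsLimit F i ((ι F j).obj Z.unop) a.obj
        (Functor.RightExtension.mk _ ((ι F i).op.ranCounit.app a.obj))
        ((ι F i).op.isPointwiseRightKanExtensionRanCounit a.obj (op ((ι F j).obj Z.unop))))
    exact NatIso.isIso_of_isIso_app _
  exact isIso_of_reflects_iso _ (sheafToPresheaf _ _)

/-- when there is exactly one base map `i ⟶ j`, restriction to `j` of the coextension from `i`
is the direct image along the inverse image functor -/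
noncomputable def coextendRestrIso [(FibSite.invImage F f).IsContinuous (J j) (J i)]
    (hf : ∀ g : i ⟶ j, g = f) :
    FibSite.coextend F J A i ⋙ FibSite.restr F J A j ≅
      (FibSite.invImage F f).sheafPushforwardContinuous A (J j) (J i) :=
  haveI : ∀ a : Sheaf (J i) A, IsIso (sheafProj F J f a) := isIso_sheafProj_of_unique F J f hf
  NatIso.ofComponents (fun a => asIso (sheafProj F J f a))
    (fun φ => sheafProj_naturality F J f φ)

end SheafLevel

section Reflect

variable {𝒮 : Type u₁} [Category.{v₁} 𝒮] (F : Pseudofunctor (LocallyDiscrete 𝒮ᵒᵖ) Cat.{v₂, u₂})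
  (J : FibSite.Topologies F)

theorem preservesFiniteLimits_of_restr {𝒜 : Type*} [Category 𝒜]
    [∀ B, (ι F B).IsContinuous (J B) (FibSite.totalTopology F J)]
    (Φ : 𝒜 ⥤ Sheaf (FibSite.totalTopology F J) (Type w))
    (h : ∀ B, PreservesFiniteLimits (Φ ⋙ FibSite.restr F J (Type w) B)) :
    PreservesFiniteLimits Φ := by
  refine ⟨fun K _ _ => ⟨fun {D} => ?_⟩⟩
  haveI : PreservesLimit D (Φ ⋙ sheafToPresheaf _ _) := by
    apply preservesLimit_of_evaluation
    intro X
    haveI := h X.unop.base
    have : PreservesLimit D (((Φ ⋙ FibSite.restr F J (Type w) X.unop.base) ⋙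
        sheafToPresheaf (J X.unop.base) (Type w)) ⋙
          (evaluation _ _).obj (op X.unop.fiber)) := inferInstance
    exact this
  exact preservesLimit_of_reflects_of_preserves Φ (sheafToPresheaf _ _)

end Reflect

end Groth.Agent.Lib.FibSiteH8
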