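import Mathlib
import Groth.Prelude.Def_FibSite
import Groth.Agent.Lib.FibSite4_helper8

/-!
# Fibred sites: a cartesian functor which is fibrewise a morphism of sites (helper8)
-/

set_option backward.isDefEq.respectTransparency false
set_option backward.isDefEq.respectTransparency.types false
set_option backward.defeqAttrib.useBackward true

universe u

open CategoryTheory CategoryTheory.Limits Opposite Pseudofunctor Pseudofunctor.CoGrothendieck
  Bicategory StrongTrans

namespace Groth.Agent.Lib.FibSiteH8

section FanIso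

variable {I : Type*} {A : Type*} [Category A]

theorem isIso_of_fan_map {X : I → A} {P P' : A} (p : ∀ i, P ⟶ X i) (p' : ∀ i, P' ⟶ X i)
    (h : IsLimit (Fan.mk P p)) (h' : IsLimit (Fan.mk P' p')) (θ : P ⟶ P')
    (hθ : ∀ i, θ ≫ p' i = p i) : IsIso θ := by
  refine ⟨Fan.IsLimit.lift h p', ?_, ?_⟩
  · refine Fan.IsLimit.hom_ext h _ _ (fun i => ?_)
    have h1 : Fan.IsLimit.lift h p' ≫ p i = p' i := Fan.IsLimit.fac h p' i
    show (θ ≫ Fan.IsLimit.lift h p') ≫ p i = 𝟙 P ≫ p i
    rw [Category.assoc, h1, hθ, Category.id_comp]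
  · refine Fan.IsLimit.hom_ext h' _ _ (fun i => ?_)
    have h1 : Fan.IsLimit.lift h p' ≫ p i = p' i := Fan.IsLimit.fac h p' i
    show (Fan.IsLimit.lift h p' ≫ θ) ≫ p' i = 𝟙 P' ≫ p' i
    rw [Category.assoc, hθ, h1, Category.id_comp]

end FanIso

variable {𝒮 : Type u} [SmallCategory 𝒮] {F G : Pseudofunctor (LocallyDiscrete 𝒮ᵒᵖ) Cat.{u, u}}
  (α : G ⟶ F)

section Basic

attribute [local simp]
  Strict.leftUnitor_eqToIso Strict.rightUnitor_eqToIso Strict.associator_eqToIso

theorem map_ι_map (S : 𝒮) {Z Z' : G.obj ⟨op S⟩} (z : Z ⟶ Z') :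
    (map α).map ((ι G S).map z) = (ι F S).map ((α.app ⟨op S⟩).toFunctor.map z) := by
  ext
  · simp
  · simp [naturality_id_hom_app, Cat.Hom.id_toFunctor]
    have h : (α.app ⟨op S⟩).toFunctor.map ((G.mapId ⟨op S⟩).inv.toNatTrans.app Z') ≫
        (α.app ⟨op S⟩).toFunctor.map ((G.mapId ⟨op S⟩).hom.toNatTrans.app Z') = 𝟙 _ := by
      rw [← CategoryTheory.Functor.map_comp, Cat.Hom.inv_hom_id_toNatTrans_app,
        CategoryTheory.Functor.map_id]
    rw [reassoc_of% h]

theorem isIso_map_cart_fiber {S B : 𝒮} (f : S ⟶ B) (Z : G.obj ⟨op B⟩) :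
    IsIso ((map α).map (cartesianLift Z f)).fiber := by
  rw [map_map_fiber]
  infer_instance

end Basic

/-- the fibre inclusions commute with the induced functor on total categories -/
def ιCompMapIso (S : 𝒮) : ι G S ⋙ map α ≅ (α.app ⟨op S⟩).toFunctor ⋙ ι F S :=
  NatIso.ofComponents (fun Z => Iso.refl _) (fun {Z Z'} z => by
    have h := map_ι_map α S z
    dsimp only [Functor.comp_map, Iso.refl_hom]
    rw [Category.comp_id, Category.id_comp]
    exact h)

variable (J : FibSite.Topologies F) (K : FibSite.Topologies G)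

theorem isContinuous_map (hF : FibSite.IsPreFibSite F J) (hG : FibSite.IsPreFibSite G K)
    (hα : ∀ S, (α.app ⟨op S⟩).toFunctor.IsContinuous (K S) (J S)) :
    (map α).IsContinuous (FibSite.totalTopology G K) (FibSite.totalTopology F J) := by
  refine (isContinuous_totalTopology_iff G K hG (FibSite.totalTopology F J) (map α)).2
    (fun S => ?_)
  haveI := hα S
  haveI := isContinuous_ι F J hF S
  haveI : ((α.app ⟨op S⟩).toFunctor ⋙ ι F S).IsContinuous (K S) (FibSite.totalTopology F J) :=
    Functor.isContinuous_comp _ _ (K S) (J S) (FibSite.totalTopology F J)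
  exact Functor.isContinuous_of_iso (ιCompMapIso α S).symm (K S) (FibSite.totalTopology F J)

section Theta

variable (S : 𝒮)
  [(ι F S).IsContinuous (J S) (FibSite.totalTopology F J)]
  [(ι F S).IsCocontinuous (J S) (FibSite.totalTopology F J)]
  [(ι G S).IsContinuous (K S) (FibSite.totalTopology G K)]
  [(ι G S).IsCocontinuous (K S) (FibSite.totalTopology G K)]
  [(map α).IsContinuous (FibSite.totalTopology G K) (FibSite.totalTopology F J)]
  [(α.app ⟨op S⟩).toFunctor.IsContinuous (K S) (J S)]

/-- the comparison map before transposition -/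
noncomputable def tHom (H : Sheaf (J S) (Type u)) :
    (FibSite.restr G K (Type u) S).obj
      (((map α).sheafPushforwardContinuous (Type u) (FibSite.totalTopology G K)
        (FibSite.totalTopology F J)).obj ((FibSite.coextend F J (Type u) S).obj H)) ⟶
    ((α.app ⟨op S⟩).toFunctor.sheafPushforwardContinuous (Type u) (K S) (J S)).obj H :=
  ⟨{ app := fun Z => ((ι F S).op.ranCounit.app H.obj).app
        (op ((α.app ⟨op S⟩).toFunctor.obj Z.unop))
     naturality := fun Z Z' z => by
       have h := ((ι F S).op.ranCounit.app H.obj).naturality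
        ((α.app ⟨op S⟩).toFunctor.map z.unop).op
       have e := map_ι_map α S z.unop
       refine Eq.trans ?_ h
       exact congrArg (fun t => ((ι F S).op.ran.obj H.obj).map (Quiver.Hom.op t) ≫
          ((ι F S).op.ranCounit.app H.obj).app
            (op ((α.app ⟨op S⟩).toFunctor.obj Z'.unop))) e }⟩

theorem tHom_naturality {H H' : Sheaf (J S) (Type u)} (φ : H ⟶ H') :
    (FibSite.restr G K (Type u) S).map
      (((map α).sheafPushforwardContinuous (Type u) (FibSite.totalTopology G K)
        (FibSite.totalTopology F J)).map ((FibSite.coextend F J (Type u) S).map φ)) ≫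
      tHom α J K S H' =
    tHom α J K S H ≫
      ((α.app ⟨op S⟩).toFunctor.sheafPushforwardContinuous (Type u) (K S) (J S)).map φ := by
  refine Sheaf.hom_ext (NatTrans.ext (funext fun Z => ?_))
  exact congr_app ((ι F S).op.ranCounit.naturality φ.hom)
    (op ((α.app ⟨op S⟩).toFunctor.obj Z.unop))

/-- the comparison of right adjoints -/
noncomputable def thetaHom :
    FibSite.coextend F J (Type u) S ⋙
      (map α).sheafPushforwardContinuous (Type u) (FibSite.totalTopology G K)
        (FibSite.totalTopology F J) ⟶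
    (α.app ⟨op S⟩).toFunctor.sheafPushforwardContinuous (Type u) (K S) (J S) ⋙
      FibSite.coextend G K (Type u) S where
  app H := ((ι G S).sheafAdjunctionCocontinuous (Type u) (K S)
    (FibSite.totalTopology G K)).homEquiv _ _ (tHom α J K S H)
  naturality H H' φ := by
    refine ((Adjunction.homEquiv_naturality_left _ _ _).symm.trans ?_).trans
      (Adjunction.homEquiv_naturality_right _ _ _)
    exact congrArg _ (tHom_naturality α J K S φ)

theorem theta_counit (H : Sheaf (J S) (Type u)) (Z : (G.obj ⟨op S⟩)ᵒᵖ) :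
    ((thetaHom α J K S).app H).hom.app (op ((ι G S).obj Z.unop)) ≫
      ((ι G S).op.ranCounit.app
        (((α.app ⟨op S⟩).toFunctor.sheafPushforwardContinuous (Type u) (K S) (J S)).obj H).obj).app Z =
    ((ι F S).op.ranCounit.app H.obj).app (op ((α.app ⟨op S⟩).toFunctor.obj Z.unop)) := by
  have h1 := ((ι G S).sheafAdjunctionCocontinuous (Type u) (K S)
    (FibSite.totalTopology G K)).homEquiv _ _ |>.symm_apply_apply (tHom α J K S H)
  rw [Adjunction.homEquiv_counit] at h1
  have h2 := congrArg (fun t => t.hom.app Z) h1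
  have h3 := (ι G S).sheafAdjunctionCocontinuous_counit_app_hom (Type u) (K S)
    (FibSite.totalTopology G K)
    (((α.app ⟨op S⟩).toFunctor.sheafPushforwardContinuous (Type u) (K S) (J S)).obj H)
  rw [Functor.ranAdjunction_counit] at h3
  have h4 := congrArg (fun t => t.app Z) h3
  exact (congrArg (fun x => ((thetaHom α J K S).app H).hom.app (op ((ι G S).obj Z.unop)) ≫ x)
    h4.symm).trans h2

end Theta

section ThetaIso

theorem leg_calc {A : Type*} [Category A] {P P' Q' Q'' W W' : A}
    (θX : P ⟶ P') (a : P' ⟶ Q') (b : Q' ⟶ W) (c : P ⟶ Q'') (θ' : Q'' ⟶ Q') (d : Q'' ⟶ W)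
    {M : A} (c1 : P ⟶ M) (c2 : M ⟶ Q'') (d' : M ⟶ W') (h : W' ⟶ W)
    (n : c ≫ θ' = θX ≫ a) (cc : θ' ≫ b = d) (hc : c = c1 ≫ c2) (e : c2 ≫ d = d' ≫ h) :
    θX ≫ a ≫ b = (c1 ≫ d') ≫ h := by
  rw [← Category.assoc, ← n, Category.assoc, cc, hc, Category.assoc, e, Category.assoc]

variable (S : 𝒮)
  [(ι F S).IsContinuous (J S) (FibSite.totalTopology F J)]
  [(ι F S).IsCocontinuous (J S) (FibSite.totalTopology F J)]
  [(ι G S).IsContinuous (K S) (FibSite.totalTopology G K)]
  [(ι G S).IsCocontinuous (K S) (FibSite.totalTopology G K)]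
  [(map α).IsContinuous (FibSite.totalTopology G K) (FibSite.totalTopology F J)]
  [(α.app ⟨op S⟩).toFunctor.IsContinuous (K S) (J S)]

theorem theta_leg (H : Sheaf (J S) (Type u)) (X : ∫ᶜ G) (f : S ⟶ X.base) :
    ((thetaHom α J K S).app H).hom.app (op X) ≫
      (((ι G S).op.ran.obj (((α.app ⟨op S⟩).toFunctor.sheafPushforwardContinuous (Type u)
          (K S) (J S)).obj H).obj).map (cartesianLift X.fiber f).op ≫
        ((ι G S).op.ranCounit.app (((α.app ⟨op S⟩).toFunctor.sheafPushforwardContinuous (Type u)
          (K S) (J S)).obj H).obj).app (op ((FibSite.invImage G f).obj X.fiber))) =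
    (((ι F S).op.ran.obj H.obj).map (cartesianLift ((map α).obj X).fiber f).op ≫
        ((ι F S).op.ranCounit.app H.obj).app
          (op ((FibSite.invImage F f).obj ((map α).obj X).fiber))) ≫
      H.obj.map (((map α).map (cartesianLift X.fiber f)).fiber).op := by
  have n := ((thetaHom α J K S).app H).hom.naturality (cartesianLift X.fiber f).op
  have c := theta_counit α J K S H (op ((FibSite.invImage G f).obj X.fiber))
  have fc := fac F ((map α).obj X) _ ((map α).map (cartesianLift X.fiber f))
  have e := ((ι F S).op.ranCounit.app H.obj).naturality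
    (((map α).map (cartesianLift X.fiber f)).fiber).op
  refine leg_calc _ _ _ _ _ _ _ _ _ _ n c ?_ e
  exact (congrArg (fun t => ((ι F S).op.ran.obj H.obj).map (Quiver.Hom.op t)) fc).trans
    (by rw [op_comp, CategoryTheory.Functor.map_comp]; rfl)

theorem isIso_thetaHom_app (H : Sheaf (J S) (Type u)) : IsIso ((thetaHom α J K S).app H) := by
  haveI : IsIso ((sheafToPresheaf _ _).map ((thetaHom α J K S).app H)) := by
    show IsIso ((thetaHom α J K S).app H).hom
    haveI : ∀ X, IsIso (((thetaHom α J K S).app H).hom.app X) := by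
      intro X
      haveI : ∀ f : S ⟶ X.unop.base,
          IsIso (H.obj.map (((map α).map (cartesianLift X.unop.fiber f)).fiber).op) := by
        intro f
        haveI := isIso_map_cart_fiber α f X.unop.fiber
        infer_instance
      have hF := isLimitFanPostIso _
        (fun f : S ⟶ X.unop.base =>
          H.obj.map (((map α).map (cartesianLift X.unop.fiber f)).fiber).op)
        (ranFanIsLimit F S ((map α).obj X.unop) H.obj
          (Functor.RightExtension.mk _ ((ι F S).op.ranCounit.app H.obj))
          ((ι F S).op.isPointwiseRightKanExtensionRanCounit H.obj (op ((map α).obj X.unop))))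
      have hG := ranFanIsLimit G S X.unop
        (((α.app ⟨op S⟩).toFunctor.sheafPushforwardContinuous (Type u) (K S) (J S)).obj H).obj
        (Functor.RightExtension.mk _ ((ι G S).op.ranCounit.app _))
        ((ι G S).op.isPointwiseRightKanExtensionRanCounit _ (op X.unop))
      exact isIso_of_fan_map _ _ hF hG _ (fun f => theta_leg α J K S H X.unop f)
    exact NatIso.isIso_of_isIso_app _
  exact isIso_of_reflects_iso _ (sheafToPresheaf _ _)

/-- the comparison of right adjoints is an isomorphism -/
noncomputable def thetaIso :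
    FibSite.coextend F J (Type u) S ⋙
      (map α).sheafPushforwardContinuous (Type u) (FibSite.totalTopology G K)
        (FibSite.totalTopology F J) ≅
    (α.app ⟨op S⟩).toFunctor.sheafPushforwardContinuous (Type u) (K S) (J S) ⋙
      FibSite.coextend G K (Type u) S :=
  haveI : ∀ H, IsIso ((thetaHom α J K S).app H) := isIso_thetaHom_app α J K S
  haveI := NatIso.isIso_of_isIso_app (thetaHom α J K S)
  asIso (thetaHom α J K S)

end ThetaIso

theorem preservesFiniteLimits_sheafPullback_map
    (hF : FibSite.IsPreFibSite F J) (hG : FibSite.IsPreFibSite G K)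
    [∀ S, (α.app ⟨op S⟩).toFunctor.IsContinuous (K S) (J S)]
    [(map α).IsContinuous (FibSite.totalTopology G K) (FibSite.totalTopology F J)]
    [((map α).sheafPushforwardContinuous (Type u) (FibSite.totalTopology G K)
      (FibSite.totalTopology F J)).IsRightAdjoint]
    [∀ S, ((α.app ⟨op S⟩).toFunctor.sheafPushforwardContinuous (Type u) (K S)
      (J S)).IsRightAdjoint]
    (hpl : ∀ S, PreservesFiniteLimits
      ((α.app ⟨op S⟩).toFunctor.sheafPullback (Type u) (K S) (J S))) :
    PreservesFiniteLimits ((map α).sheafPullback (Type u) (FibSite.totalTopology G K)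
      (FibSite.totalTopology F J)) := by
  haveI : ∀ B, (ι F B).IsContinuous (J B) (FibSite.totalTopology F J) :=
    fun B => isContinuous_ι F J hF B
  haveI : ∀ B, (ι F B).IsCocontinuous (J B) (FibSite.totalTopology F J) :=
    fun B => isCocontinuous_ι F J hF B
  haveI : ∀ B, (ι G B).IsContinuous (K B) (FibSite.totalTopology G K) :=
    fun B => isContinuous_ι G K hG B
  haveI : ∀ B, (ι G B).IsCocontinuous (K B) (FibSite.totalTopology G K) :=
    fun B => isCocontinuous_ι G K hG B
  apply preservesFiniteLimits_of_restr F J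
  intro S
  haveI := hpl S
  let adjL := ((map α).sheafAdjunctionContinuous (Type u) (FibSite.totalTopology G K)
    (FibSite.totalTopology F J)).comp
      ((ι F S).sheafAdjunctionCocontinuous (Type u) (J S) (FibSite.totalTopology F J))
  let adjR := ((ι G S).sheafAdjunctionCocontinuous (Type u) (K S)
    (FibSite.totalTopology G K)).comp
      ((α.app ⟨op S⟩).toFunctor.sheafAdjunctionContinuous (Type u) (K S) (J S))
  let e := (adjL.ofNatIsoRight (thetaIso α J K S)).leftAdjointUniq adjR
  haveI : PreservesLimits (FibSite.restr G K (Type u) S) :=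
    ((ι G S).sheafAdjunctionContinuous (Type u) (K S)
      (FibSite.totalTopology G K)).rightAdjoint_preservesLimits
  exact preservesFiniteLimits_of_natIso e.symm

end Groth.Agent.Lib.FibSiteH8
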