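import Mathlib
import Groth.Prelude.Def_FibSite
import Groth.Agent.Lib.FibSite4_helper8

/-!
# Fibred sites: restriction of the extension is a coproduct over base maps (helper8)
-/

set_option backward.isDefEq.respectTransparency false
set_option backward.isDefEq.respectTransparency.types false
set_option backward.defeqAttrib.useBackward true

universe u

open CategoryTheory CategoryTheory.Limits Opposite Pseudofunctor Pseudofunctor.CoGrothendieck
  Bicategory

namespace Groth.Agent.Lib.FibSiteH8

section Abstract

variable {C D : Type*} [Category C] [Category D] {L : C ⥤ D} {R : D ⥤ C} (adj : L ⊣ R)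
  {I : Type*} {Lf : I → (C ⥤ D)} {Rf : I → (D ⥤ C)} (adjf : ∀ f, Lf f ⊣ Rf f)
  (π : ∀ f, R ⟶ Rf f)
  (hπ : ∀ b : D, IsLimit (Fan.mk (R.obj b) (fun f => (π f).app b)))

/-- the injections of the cofan mate to a fan of right adjoints -/
def mateInj (a : C) (f : I) : (Lf f).obj a ⟶ L.obj a :=
  ((adjf f).homEquiv a (L.obj a)).symm (adj.unit.app a ≫ (π f).app (L.obj a))

theorem mateInj_comp (a : C) (f : I) {T : D} (m : L.obj a ⟶ T) :
    (adjf f).homEquiv a T (mateInj adj adjf π a f ≫ m) = adj.homEquiv a T m ≫ (π f).app T := by
  rw [Adjunction.homEquiv_naturality_right, mateInj, Equiv.apply_symm_apply, Category.assoc,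
    ← (π f).naturality m, ← Category.assoc, ← Adjunction.homEquiv_unit]

/-- if the right adjoint is a product of right adjoints, the left adjoint is the coproduct of the
left adjoints -/
noncomputable def mateCofanIsColimit (a : C) :
    IsColimit (Cofan.mk (L.obj a) (mateInj adj adjf π a)) :=
  Cofan.IsColimit.mk _
    (fun t => (adj.homEquiv a t.pt).symm
      (Fan.IsLimit.lift (hπ t.pt) (fun f => (adjf f).homEquiv a t.pt (t.inj f))))
    (fun t f => by
      apply ((adjf f).homEquiv a t.pt).injective
      have h := mateInj_comp adj adjf π a f ((adj.homEquiv a t.pt).symm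
        (Fan.IsLimit.lift (hπ t.pt) (fun f => (adjf f).homEquiv a t.pt (t.inj f))))
      rw [Equiv.apply_symm_apply] at h
      exact h.trans (Fan.IsLimit.fac (hπ t.pt) _ f))
    (fun t m hm => by
      apply (adj.homEquiv a t.pt).injective
      rw [Equiv.apply_symm_apply]
      refine Fan.IsLimit.hom_ext (hπ t.pt) _ _ (fun f => ?_)
      rw [Fan.IsLimit.fac]
      have h := mateInj_comp adj adjf π a f m
      exact h.symm.trans (congrArg _ (hm f)))

end Abstract

end Groth.Agent.Lib.FibSiteH8
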