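import Mathlib
import Groth.Prelude.Def_FibSite
import Groth.Agent.Lib.FibSite2_helper8

/-!
# Fibred sites: bicovering morphisms and left Kan extension along a fibre inclusion (helper8)
-/

set_option backward.isDefEq.respectTransparency false
set_option backward.isDefEq.respectTransparency.types false
set_option backward.defeqAttrib.useBackward true

universe u

open CategoryTheory CategoryTheory.Limits Opposite Pseudofunctor Pseudofunctor.CoGrothendieck
  Bicategory

namespace Groth.Agent.Lib.FibSiteH8

variable {𝒮 : Type u} [SmallCategory 𝒮] (F : Pseudofunctor (LocallyDiscrete 𝒮ᵒᵖ) Cat.{u, u})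
  (i : 𝒮)

section Vert

open Classical in
/-- the vertical part of a morphism between objects of the fibre over `i` -/
noncomputable def vertPart {Z V : F.obj ⟨op i⟩} (l : (ι F i).obj Z ⟶ (ι F i).obj V) :
    Option (Z ⟶ V) :=
  if h : l.base = 𝟙 i then some (exists_vert F l h).choose else none

theorem vertPart_map {Z V : F.obj ⟨op i⟩} (l' : Z ⟶ V) :
    vertPart F i ((ι F i).map l') = some l' := by
  have h : ((ι F i).map l').base = 𝟙 i := rfl
  rw [vertPart, dif_pos h]
  congr 1
  exact ι_map_injective F _ _ (exists_vert F _ h).choose_spec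

theorem vertPart_comp {Z V V' : F.obj ⟨op i⟩} (l : (ι F i).obj Z ⟶ (ι F i).obj V)
    (a : V ⟶ V') :
    vertPart F i (l ≫ (ι F i).map a) = (vertPart F i l).map (fun l' => l' ≫ a) := by
  by_cases hb : l.base = 𝟙 i
  · obtain ⟨l₀, rfl⟩ := exists_vert F l hb
    rw [← Functor.map_comp, vertPart_map, vertPart_map]
    rfl
  · have hb' : ¬ (l ≫ (ι F i).map a).base = 𝟙 i := by
      intro h
      apply hb
      simpa using h
    rw [vertPart, dif_neg hb', vertPart, dif_neg hb]
    rfl

end Vert

section Retr

variable (P : (F.obj ⟨op i⟩)ᵒᵖ ⥤ Type u) (Z : F.obj ⟨op i⟩)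

/-- the cocone defining the retraction -/
noncomputable def retrCocone :
    Cocone (CostructuredArrow.proj (ι F i).op (op ((ι F i).obj Z)) ⋙ P) where
  pt := Option (P.obj (op Z))
  ι :=
    { app := fun g => TypeCat.ofHom (fun x =>
        (vertPart F i g.hom.unop).map (fun l' => P.map l'.op x))
      naturality := fun g g' φ => by
        ext x
        have hw : g.hom.unop = g'.hom.unop ≫ (ι F i).map φ.left.unop :=
          (congrArg Quiver.Hom.unop (CostructuredArrow.w φ)).symm
        show (vertPart F i g'.hom.unop).map (fun l' => P.map l'.op (P.map φ.left x)) =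
          (vertPart F i g.hom.unop).map (fun l' => P.map l'.op x)
        rw [hw, vertPart_comp, Option.map_map]
        congr 1
        funext l'
        show P.map l'.op (P.map φ.left x) = P.map (l' ≫ φ.left.unop).op x
        rw [op_comp, Functor.map_comp_apply]
        rfl }

/-- the retraction of the unit on the vertical component -/
noncomputable def retr (y : ((ι F i).op.lan.obj P).obj (op ((ι F i).obj Z))) :
    Option (P.obj (op Z)) :=
  ((ι F i).op.isPointwiseLeftKanExtensionLeftKanExtensionUnit P
    (op ((ι F i).obj Z))).desc (retrCocone F i P Z) y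

theorem retr_leg (g : CostructuredArrow (ι F i).op (op ((ι F i).obj Z))) (x : P.obj g.left) :
    retr F i P Z (((ι F i).op.lan.obj P).map g.hom
      (((ι F i).op.lanUnit.app P).app g.left x)) =
      (vertPart F i g.hom.unop).map (fun l' => P.map l'.op x) := by
  have h := ((ι F i).op.isPointwiseLeftKanExtensionLeftKanExtensionUnit P
    (op ((ι F i).obj Z))).fac (retrCocone F i P Z) g
  exact ConcreteCategory.congr_hom h x

theorem retr_unit (x : P.obj (op Z)) :
    retr F i P Z (((ι F i).op.lanUnit.app P).app (op Z) x) = some x := by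
  have h := retr_leg F i P Z (CostructuredArrow.mk (𝟙 ((ι F i).op.obj (op Z)))) x
  have hv : vertPart F i (𝟙 ((ι F i).obj Z)) = some (𝟙 Z) := by
    rw [← (ι F i).map_id]
    exact vertPart_map F i (𝟙 Z)
  have h' : retr F i P Z (((ι F i).op.lanUnit.app P).app (op Z) x) =
      (vertPart F i (𝟙 ((ι F i).obj Z))).map (fun l' => P.map l'.op x) := by
    simpa using h
  rw [h', hv]
  simp

end Retr

theorem retr_natural {P P' : (F.obj ⟨op i⟩)ᵒᵖ ⥤ Type u} (φ : P ⟶ P') (Z : F.obj ⟨op i⟩)
    (y : ((ι F i).op.lan.obj P).obj (op ((ι F i).obj Z))) :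
    retr F i P' Z (((ι F i).op.lan.map φ).app _ y) =
      (retr F i P Z y).map (φ.app (op Z)) := by
  obtain ⟨g, x, rfl⟩ := Types.jointly_surjective_of_isColimit
    ((ι F i).op.isPointwiseLeftKanExtensionLeftKanExtensionUnit P (op ((ι F i).obj Z))) y
  have h1 : ((ι F i).op.lan.map φ).app _ (((ι F i).op.lan.obj P).map g.hom
        (((ι F i).op.lanUnit.app P).app g.left x)) =
      ((ι F i).op.lan.obj P').map g.hom
        (((ι F i).op.lanUnit.app P').app g.left (φ.app g.left x)) := by
    rw [NatTrans.naturality_apply]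
    congr 1
    exact (ConcreteCategory.congr_hom (congr_app ((ι F i).op.lanUnit.naturality φ) g.left)
      x).symm
  have h2 := retr_leg F i P Z g x
  have h3 := retr_leg F i P' Z g (φ.app g.left x)
  refine (congrArg (retr F i P' Z) h1).trans (h3.trans ?_)
  refine Eq.trans ?_ (congrArg (Option.map (φ.app (op Z))) h2).symm
  rw [Option.map_map]
  congr 1
  funext l'
  exact (NatTrans.naturality_apply φ l'.op x).symm

section Main

variable (J : FibSite.Topologies F) (hF : FibSite.IsPreFibSite F J)
  {R : (F.obj ⟨op i⟩)ᵒᵖ ⥤ Type u} {U : F.obj ⟨op i⟩} (u : R ⟶ yoneda.obj U)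

include hF

theorem W_lan_of_W (hu : (J i).W u) :
    (FibSite.totalTopology F J).W (((ι F i).op.lan (H := Type u)).map u) := by
  intro G' hG'
  haveI := isContinuous_ι F J hF i
  have hs : Presheaf.IsSheaf (J i) ((ι F i).op ⋙ G') :=
    Functor.op_comp_isSheaf_of_isSheaf (ι F i) (J i) _ G' hG'
  have hb := hu _ hs
  let adj := (ι F i).op.lanAdjunction (Type u)
  have key : ∀ g : (ι F i).op.lan.obj (yoneda.obj U) ⟶ G',
      (ι F i).op.lan.map u ≫ g = (adj.homEquiv _ _).symm (u ≫ adj.homEquiv _ _ g) := fun g => by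
    rw [← adj.homEquiv_naturality_left, Equiv.symm_apply_apply]
  constructor
  · intro g₁ g₂ h
    dsimp only at h
    rw [key, key] at h
    exact (adj.homEquiv _ _).injective (hb.1 ((adj.homEquiv _ _).symm.injective h))
  · intro k
    obtain ⟨g₀, hg₀⟩ := hb.2 (adj.homEquiv _ _ k)
    refine ⟨(adj.homEquiv _ _).symm g₀, ?_⟩
    dsimp only
    rw [key, Equiv.apply_symm_apply]
    dsimp only at hg₀
    rw [hg₀, Equiv.symm_apply_apply]

theorem isLocallySurjective_of_lan
    (h : Presheaf.IsLocallySurjective (FibSite.totalTopology F J)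
      (((ι F i).op.lan (H := Type u)).map u)) :
    Presheaf.IsLocallySurjective (J i) u := by
  refine ⟨fun {V} s => ?_⟩
  have h1 := Presheaf.imageSieve_mem (FibSite.totalTopology F J) ((ι F i).op.lan.map u)
    (U := op ((ι F i).obj V)) (((ι F i).op.lanUnit.app (yoneda.obj U)).app (op V) s)
  obtain ⟨R₀, hR₀, hle⟩ := (mem_totalTopology_iff F J hF _ _).1 h1
  refine (J i).superset_covering ?_ hR₀
  intro W g hg
  obtain ⟨t', ht'⟩ := hle _ (Sieve.image_mem_functorPushforward _ _ hg)
  have e1 : ((ι F i).op.lan.obj (yoneda.obj U)).map ((ι F i).map g).op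
      (((ι F i).op.lanUnit.app (yoneda.obj U)).app (op V) s) =
      ((ι F i).op.lanUnit.app (yoneda.obj U)).app (op W) ((yoneda.obj U).map g.op s) :=
    (NatTrans.naturality_apply ((ι F i).op.lanUnit.app (yoneda.obj U)) g.op s).symm
  have e2 := retr_natural F i u W t'
  have e3 : retr F i (yoneda.obj U) W (((ι F i).op.lan.map u).app (op ((ι F i).obj W)) t') =
      some ((yoneda.obj U).map g.op s) :=
    (congrArg (retr F i (yoneda.obj U) W) (ht'.trans e1)).trans (retr_unit F i _ W _)
  have e4 := e2.symm.trans e3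
  obtain ⟨t, _, hut⟩ := Option.map_eq_some_iff.1 e4
  exact ⟨t, hut⟩

theorem isLocallyInjective_of_lan
    (h : Presheaf.IsLocallyInjective (FibSite.totalTopology F J)
      (((ι F i).op.lan (H := Type u)).map u)) :
    Presheaf.IsLocallyInjective (J i) u := by
  refine ⟨fun {X} x y hxy => ?_⟩
  have e0 : ∀ z : R.obj X, ((ι F i).op.lan.map u).app _
      (((ι F i).op.lanUnit.app R).app X z) =
      ((ι F i).op.lanUnit.app (yoneda.obj U)).app X (u.app X z) := fun z =>
    (ConcreteCategory.congr_hom (congr_app ((ι F i).op.lanUnit.naturality u) X) z).symm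
  have h1 := Presheaf.equalizerSieve_mem (FibSite.totalTopology F J) ((ι F i).op.lan.map u)
    (X := op ((ι F i).obj X.unop)) (((ι F i).op.lanUnit.app R).app X x)
    (((ι F i).op.lanUnit.app R).app X y)
    ((e0 x).trans ((congrArg (fun w => ((ι F i).op.lanUnit.app (yoneda.obj U)).app X w) hxy).trans
      (e0 y).symm))
  obtain ⟨R₀, hR₀, hle⟩ := (mem_totalTopology_iff F J hF _ _).1 h1
  refine (J i).superset_covering ?_ hR₀
  intro W g hg
  have h2 : ((ι F i).op.lan.obj R).map ((ι F i).map g).op
      (((ι F i).op.lanUnit.app R).app X x) =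
      ((ι F i).op.lan.obj R).map ((ι F i).map g).op
      (((ι F i).op.lanUnit.app R).app X y) :=
    hle _ (Sieve.image_mem_functorPushforward _ _ hg)
  have e1 : ∀ z : R.obj X, ((ι F i).op.lan.obj R).map ((ι F i).map g).op
      (((ι F i).op.lanUnit.app R).app X z) =
      ((ι F i).op.lanUnit.app R).app (op W) (R.map g.op z) := fun z =>
    (NatTrans.naturality_apply ((ι F i).op.lanUnit.app R) g.op z).symm
  have h2' := (e1 x).symm.trans (h2.trans (e1 y))
  have h3 := (retr_unit F i R W _).symm.trans
    ((congrArg (retr F i R W) h2').trans (retr_unit F i R W _))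
  exact Option.some.inj h3

theorem W_iff_W_lan :
    (J i).W u ↔ (FibSite.totalTopology F J).W (((ι F i).op.lan (H := Type u)).map u) := by
  constructor
  · exact W_lan_of_W F i J hF u
  · intro h
    rw [GrothendieckTopology.W_iff_isLocallyBijective] at h ⊢
    exact ⟨isLocallyInjective_of_lan F i J hF u h.1, isLocallySurjective_of_lan F i J hF u h.2⟩

end Main

end Groth.Agent.Lib.FibSiteH8
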