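import Mathlib
import Groth.Prelude.Def_FibSite
import Groth.Agent.Lib.FibSite5_helper8
import Groth.Agent.Lib.FibSite7_helper8

/-!
# Fibred sites: a cartesian functor which is a morphism of total sites is fibrewise a morphism
of sites (lead)

The proof of left exactness of the fibrewise inverse image uses the "pointed retract" trick:
for a pointed sheaf `H` on the fibre, `H` is a natural retract of `restr (coextend H)`.
-/

set_option autoImplicit false
set_option linter.unusedSimpArgs false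
set_option linter.unusedVariables false
set_option linter.unusedSectionVars false
set_option linter.style.longLine false
set_option linter.unnecessarySimpa false
set_option linter.deprecated false
set_option maxHeartbeats 1600000
set_option backward.isDefEq.respectTransparency false
set_option backward.isDefEq.respectTransparency.types false
set_option backward.defeqAttrib.useBackward true

universe v₁ u₁ v₂ u₂ u

open CategoryTheory CategoryTheory.Limits Opposite Pseudofunctor Pseudofunctor.CoGrothendieck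
  Bicategory StrongTrans

namespace Groth.Agent.Lib.FibSiteL

open Groth.Agent.Lib.FibSiteH8

noncomputable section

section Abstract

variable {C : Type u₁} [Category.{v₁} C]

theorem isPullback_of_existsUnique {W X Y Z : C} {p₁ : W ⟶ X} {p₂ : W ⟶ Y} {f : X ⟶ Z}
    {g : Y ⟶ Z} (comm : p₁ ≫ f = p₂ ≫ g)
    (hex : ∀ {U : C} (a : U ⟶ X) (b : U ⟶ Y), a ≫ f = b ≫ g →
      ∃ l : U ⟶ W, l ≫ p₁ = a ∧ l ≫ p₂ = b)
    (huniq : ∀ {U : C} (l l' : U ⟶ W), l ≫ p₁ = l' ≫ p₁ → l ≫ p₂ = l' ≫ p₂ → l = l') :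
    IsPullback p₁ p₂ f g :=
  ⟨⟨comm⟩, ⟨PullbackCone.IsLimit.mk comm
    (fun s => (hex s.fst s.snd s.condition).choose)
    (fun s => (hex s.fst s.snd s.condition).choose_spec.1)
    (fun s => (hex s.fst s.snd s.condition).choose_spec.2)
    (fun s m h₁ h₂ => huniq _ _ (h₁.trans (hex s.fst s.snd s.condition).choose_spec.1.symm)
      (h₂.trans (hex s.fst s.snd s.condition).choose_spec.2.symm))⟩⟩

theorem isPullback_of_retract {W X Y Z W' X' Y' Z' : C}
    {p₁ : W ⟶ X} {p₂ : W ⟶ Y} {f : X ⟶ Z} {g : Y ⟶ Z}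
    {p₁' : W' ⟶ X'} {p₂' : W' ⟶ Y'} {f' : X' ⟶ Z'} {g' : Y' ⟶ Z'}
    (h' : IsPullback p₁' p₂' f' g') (comm : p₁ ≫ f = p₂ ≫ g)
    (iW : W ⟶ W') (iX : X ⟶ X') (iY : Y ⟶ Y') (iZ : Z ⟶ Z')
    (rW : W' ⟶ W) (rX : X' ⟶ X) (rY : Y' ⟶ Y)
    (hW : iW ≫ rW = 𝟙 W) (hX : iX ≫ rX = 𝟙 X) (hY : iY ≫ rY = 𝟙 Y)
    (i₁ : iW ≫ p₁' = p₁ ≫ iX) (i₂ : iW ≫ p₂' = p₂ ≫ iY)
    (i₃ : iX ≫ f' = f ≫ iZ) (i₄ : iY ≫ g' = g ≫ iZ)
    (r₁ : rW ≫ p₁ = p₁' ≫ rX) (r₂ : rW ≫ p₂ = p₂' ≫ rY) :
    IsPullback p₁ p₂ f g := by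
  refine isPullback_of_existsUnique comm (fun {U} a b hab => ?_) (fun {U} l l' h₁ h₂ => ?_)
  · have w : (a ≫ iX) ≫ f' = (b ≫ iY) ≫ g' := by
      rw [Category.assoc, Category.assoc, i₃, i₄, ← Category.assoc, ← Category.assoc, hab]
    refine ⟨h'.lift _ _ w ≫ rW, ?_, ?_⟩
    · rw [Category.assoc, r₁, ← Category.assoc, h'.lift_fst, Category.assoc, hX,
        Category.comp_id]
    · rw [Category.assoc, r₂, ← Category.assoc, h'.lift_snd, Category.assoc, hY,
        Category.comp_id]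
  · have e : l ≫ iW = l' ≫ iW := by
      apply h'.hom_ext
      · rw [Category.assoc, Category.assoc, i₁, ← Category.assoc, ← Category.assoc, h₁]
      · rw [Category.assoc, Category.assoc, i₂, ← Category.assoc, ← Category.assoc, h₂]
    have e' : (l ≫ iW) ≫ rW = (l' ≫ iW) ≫ rW := by rw [e]
    rw [Category.assoc, Category.assoc, hW, Category.comp_id, Category.comp_id] at e'
    exact e'

theorem preservesPullbacks_of_map_isPullback {D : Type u₂} [Category.{v₂} D] [HasPullbacks C]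
    (A : C ⥤ D)
    (h : ∀ {W X Y Z : C} {p₁ : W ⟶ X} {p₂ : W ⟶ Y} {f : X ⟶ Z} {g : Y ⟶ Z},
      IsPullback p₁ p₂ f g → IsPullback (A.map p₁) (A.map p₂) (A.map f) (A.map g)) :
    PreservesLimitsOfShape WalkingCospan A := by
  refine ⟨fun {K} => ?_⟩
  haveI : PreservesLimit (cospan (K.map WalkingCospan.Hom.inl) (K.map WalkingCospan.Hom.inr)) A := by
    apply preservesLimit_of_preserves_limit_cone (pullbackIsPullback _ _)
    exact (isLimitMapConePullbackConeEquiv A pullback.condition).symm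
      (h (IsPullback.of_hasPullback _ _)).isLimit
  exact preservesLimit_of_iso_diagram A (diagramIsoCospan K).symm

section Ext

variable [FinitaryExtensive C]

theorem isPullback_of_cofans {X Y X' Y' : C} (c : BinaryCofan X Y) (hc : IsColimit c)
    (c' : BinaryCofan X' Y') (hc' : IsColimit c') (a : X' ⟶ X) (b : Y' ⟶ Y) (m : c'.pt ⟶ c.pt)
    (h₁ : a ≫ c.inl = c'.inl ≫ m) (h₂ : b ≫ c.inr = c'.inr ≫ m) :
    IsPullback c'.inl a m c.inl ∧ IsPullback c'.inr b m c.inr :=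
  ((BinaryCofan.isVanKampen_iff c).mp (FinitaryExtensive.vanKampen c hc) c' a b m h₁ h₂).mp ⟨hc'⟩

theorem isPullback_inl_coprod_map {X Y X' Y' : C} (a : X' ⟶ X) (b : Y' ⟶ Y) :
    IsPullback (coprod.inl : X' ⟶ X' ⨿ Y') a (coprod.map a b) coprod.inl ∧
    IsPullback (coprod.inr : Y' ⟶ X' ⨿ Y') b (coprod.map a b) coprod.inr :=
  isPullback_of_cofans (BinaryCofan.mk coprod.inl coprod.inr) (coprodIsCoprod X Y)
    (BinaryCofan.mk coprod.inl coprod.inr) (coprodIsCoprod X' Y') a b (coprod.map a b)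
    (by simp) (by simp)

theorem exists_decomp [HasPullbacks C] {Z T U : C} (c : BinaryCofan Z T) (hc : IsColimit c)
    (m : U ⟶ c.pt) :
    ∃ (U₁ U₂ : C) (j₁ : U₁ ⟶ U) (j₂ : U₂ ⟶ U) (c₁ : U₁ ⟶ Z) (c₂ : U₂ ⟶ T),
      j₁ ≫ m = c₁ ≫ c.inl ∧ j₂ ≫ m = c₂ ≫ c.inr ∧
        Nonempty (IsColimit (BinaryCofan.mk j₁ j₂)) := by
  refine ⟨pullback m c.inl, pullback m c.inr, pullback.fst _ _, pullback.fst _ _,
    pullback.snd _ _, pullback.snd _ _, pullback.condition, pullback.condition, ?_⟩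
  exact ((BinaryCofan.isVanKampen_iff c).mp (FinitaryExtensive.vanKampen c hc)
    (BinaryCofan.mk (pullback.fst m c.inl) (pullback.fst m c.inr)) (pullback.snd _ _)
    (pullback.snd _ _) m pullback.condition.symm pullback.condition.symm).mpr
    ⟨IsPullback.of_hasPullback _ _, IsPullback.of_hasPullback _ _⟩

theorem isPullback_of_isPullback_cofan {W X Y Z T : C} {p₁ : W ⟶ X} {p₂ : W ⟶ Y} {f : X ⟶ Z}
    {g : Y ⟶ Z} (comm : p₁ ≫ f = p₂ ≫ g)
    {PW PX PY PZ : C} {iW : W ⟶ PW} {tW : T ⟶ PW} {iX : X ⟶ PX} {tX : T ⟶ PX} {iY : Y ⟶ PY}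
    {tY : T ⟶ PY} {iZ : Z ⟶ PZ}
    (hW : IsColimit (BinaryCofan.mk iW tW)) (hX : IsColimit (BinaryCofan.mk iX tX))
    (hY : IsColimit (BinaryCofan.mk iY tY))
    {P₁ : PW ⟶ PX} {P₂ : PW ⟶ PY} {F' : PX ⟶ PZ} {G' : PY ⟶ PZ}
    (h₁l : p₁ ≫ iX = iW ≫ P₁) (h₁r : 𝟙 T ≫ tX = tW ≫ P₁)
    (h₂l : p₂ ≫ iY = iW ≫ P₂)
    (hFl : f ≫ iZ = iX ≫ F') (hGl : g ≫ iZ = iY ≫ G')
    (H : IsPullback P₁ P₂ F' G') : IsPullback p₁ p₂ f g := by
  have vk₁ : IsPullback iW p₁ P₁ iX :=
    (isPullback_of_cofans (BinaryCofan.mk iX tX) hX (BinaryCofan.mk iW tW) hW p₁ (𝟙 T) P₁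
      h₁l h₁r).1
  haveI : Mono iY := FinitaryExtensive.mono_inl_of_isColimit hY
  haveI : Mono iW := FinitaryExtensive.mono_inl_of_isColimit hW
  refine isPullback_of_existsUnique comm (fun {U} a b hab => ?_) (fun {U} l l' e₁ e₂ => ?_)
  · have w : (a ≫ iX) ≫ F' = (b ≫ iY) ≫ G' := by
      rw [Category.assoc, Category.assoc, ← hFl, ← hGl, ← Category.assoc, ← Category.assoc, hab]
    have hu₁ : H.lift _ _ w ≫ P₁ = a ≫ iX := H.lift_fst _ _ w
    have hu₂ : H.lift _ _ w ≫ P₂ = b ≫ iY := H.lift_snd _ _ w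
    have hl₁ : vk₁.lift (H.lift _ _ w) a hu₁ ≫ iW = H.lift _ _ w := vk₁.lift_fst _ _ _
    refine ⟨vk₁.lift (H.lift _ _ w) a hu₁, vk₁.lift_snd _ _ _, ?_⟩
    rw [← cancel_mono iY, Category.assoc, h₂l, ← Category.assoc, hl₁, hu₂]
  · rw [← cancel_mono iW]
    apply H.hom_ext
    · rw [Category.assoc, Category.assoc, ← h₁l, ← Category.assoc, ← Category.assoc, e₁]
    · rw [Category.assoc, Category.assoc, ← h₂l, ← Category.assoc, ← Category.assoc, e₂]

theorem isPullback_coprod_map [HasPullbacks C] (T : C) {W X Y Z : C} {p₁ : W ⟶ X} {p₂ : W ⟶ Y}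
    {f : X ⟶ Z} {g : Y ⟶ Z} (sq : IsPullback p₁ p₂ f g) :
    IsPullback (coprod.map p₁ (𝟙 T)) (coprod.map p₂ (𝟙 T)) (coprod.map f (𝟙 T))
      (coprod.map g (𝟙 T)) := by
  have comm : coprod.map p₁ (𝟙 T) ≫ coprod.map f (𝟙 T) =
      coprod.map p₂ (𝟙 T) ≫ coprod.map g (𝟙 T) := by
    rw [coprod.map_map, coprod.map_map, sq.w]
  have e₁ : coprod.map p₁ (𝟙 T) ≫ coprod.map f (𝟙 T) = coprod.map (p₁ ≫ f) (𝟙 T) := by
    rw [coprod.map_map, Category.comp_id]
  have e₂ : coprod.map p₂ (𝟙 T) ≫ coprod.map g (𝟙 T) = coprod.map (p₁ ≫ f) (𝟙 T) := by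
    rw [← comm, e₁]
  have vX := isPullback_inl_coprod_map f (𝟙 T)
  have vY := isPullback_inl_coprod_map g (𝟙 T)
  have vW := isPullback_inl_coprod_map (p₁ ≫ f) (𝟙 T)
  refine isPullback_of_existsUnique comm (fun {U} a b hab => ?_) (fun {U} l l' h₁ h₂ => ?_)
  · obtain ⟨U₁, U₂, j₁, j₂, c₁, c₂, hj₁, hj₂, ⟨hU⟩⟩ :=
      exists_decomp (BinaryCofan.mk (coprod.inl : Z ⟶ Z ⨿ T) coprod.inr) (coprodIsCoprod Z T)
        (a ≫ coprod.map f (𝟙 T))
    have k₁a : (j₁ ≫ a) ≫ coprod.map f (𝟙 T) = c₁ ≫ coprod.inl := by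
      rw [Category.assoc]; exact hj₁
    have k₁b : (j₁ ≫ b) ≫ coprod.map g (𝟙 T) = c₁ ≫ coprod.inl := by
      rw [Category.assoc, ← hab]; exact hj₁
    have k₂a : (j₂ ≫ a) ≫ coprod.map f (𝟙 T) = c₂ ≫ coprod.inr := by
      rw [Category.assoc]; exact hj₂
    have k₂b : (j₂ ≫ b) ≫ coprod.map g (𝟙 T) = c₂ ≫ coprod.inr := by
      rw [Category.assoc, ← hab]; exact hj₂
    obtain ⟨a₁, ha₁, ha₁'⟩ : ∃ a₁ : U₁ ⟶ X, a₁ ≫ coprod.inl = j₁ ≫ a ∧ a₁ ≫ f = c₁ :=
      ⟨_, vX.1.lift_fst _ _ k₁a, vX.1.lift_snd _ _ k₁a⟩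
    obtain ⟨b₁, hb₁, hb₁'⟩ : ∃ b₁ : U₁ ⟶ Y, b₁ ≫ coprod.inl = j₁ ≫ b ∧ b₁ ≫ g = c₁ :=
      ⟨_, vY.1.lift_fst _ _ k₁b, vY.1.lift_snd _ _ k₁b⟩
    obtain ⟨a₂, ha₂, ha₂'⟩ : ∃ a₂ : U₂ ⟶ T, a₂ ≫ coprod.inr = j₂ ≫ a ∧ a₂ ≫ 𝟙 T = c₂ :=
      ⟨_, vX.2.lift_fst _ _ k₂a, vX.2.lift_snd _ _ k₂a⟩
    obtain ⟨b₂, hb₂, hb₂'⟩ : ∃ b₂ : U₂ ⟶ T, b₂ ≫ coprod.inr = j₂ ≫ b ∧ b₂ ≫ 𝟙 T = c₂ :=
      ⟨_, vY.2.lift_fst _ _ k₂b, vY.2.lift_snd _ _ k₂b⟩
    rw [Category.comp_id] at ha₂' hb₂'
    have hw : a₁ ≫ f = b₁ ≫ g := ha₁'.trans hb₁'.symm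
    obtain ⟨l, hl₁, hl₂⟩ := BinaryCofan.IsColimit.desc' hU (sq.lift a₁ b₁ hw ≫ coprod.inl)
      (c₂ ≫ (coprod.inr : T ⟶ W ⨿ T))
    have hl₁' : j₁ ≫ l = sq.lift a₁ b₁ hw ≫ coprod.inl := hl₁
    have hl₂' : j₂ ≫ l = c₂ ≫ coprod.inr := hl₂
    refine ⟨l, ?_, ?_⟩
    · refine BinaryCofan.IsColimit.hom_ext hU ?_ ?_
      · show j₁ ≫ l ≫ coprod.map p₁ (𝟙 T) = j₁ ≫ a
        rw [← Category.assoc, hl₁', Category.assoc, coprod.inl_map, ← Category.assoc,
          sq.lift_fst, ha₁]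
      · show j₂ ≫ l ≫ coprod.map p₁ (𝟙 T) = j₂ ≫ a
        rw [← Category.assoc, hl₂', Category.assoc, coprod.inr_map, Category.id_comp, ← ha₂,
          ha₂']
    · refine BinaryCofan.IsColimit.hom_ext hU ?_ ?_
      · show j₁ ≫ l ≫ coprod.map p₂ (𝟙 T) = j₁ ≫ b
        rw [← Category.assoc, hl₁', Category.assoc, coprod.inl_map, ← Category.assoc,
          sq.lift_snd, hb₁]
      · show j₂ ≫ l ≫ coprod.map p₂ (𝟙 T) = j₂ ≫ b
        rw [← Category.assoc, hl₂', Category.assoc, coprod.inr_map, Category.id_comp, ← hb₂,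
          hb₂']
  · obtain ⟨U₁, U₂, j₁, j₂, c₁, c₂, hj₁, hj₂, ⟨hU⟩⟩ :=
      exists_decomp (BinaryCofan.mk (coprod.inl : Z ⟶ Z ⨿ T) coprod.inr) (coprodIsCoprod Z T)
        (l ≫ coprod.map (p₁ ≫ f) (𝟙 T))
    have hll' : l ≫ coprod.map (p₁ ≫ f) (𝟙 T) = l' ≫ coprod.map (p₁ ≫ f) (𝟙 T) := by
      rw [← e₁, ← Category.assoc, ← Category.assoc, h₁]
    refine BinaryCofan.IsColimit.hom_ext hU ?_ ?_
    · show j₁ ≫ l = j₁ ≫ l'
      have k : (j₁ ≫ l) ≫ coprod.map (p₁ ≫ f) (𝟙 T) = c₁ ≫ coprod.inl := by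
        rw [Category.assoc]; exact hj₁
      have k' : (j₁ ≫ l') ≫ coprod.map (p₁ ≫ f) (𝟙 T) = c₁ ≫ coprod.inl := by
        rw [Category.assoc, ← hll']; exact hj₁
      obtain ⟨w, hw, hw'⟩ : ∃ w : U₁ ⟶ W, w ≫ coprod.inl = j₁ ≫ l ∧ w ≫ (p₁ ≫ f) = c₁ :=
        ⟨_, vW.1.lift_fst _ _ k, vW.1.lift_snd _ _ k⟩
      obtain ⟨w', hw2, hw2'⟩ : ∃ w' : U₁ ⟶ W, w' ≫ coprod.inl = j₁ ≫ l' ∧ w' ≫ (p₁ ≫ f) = c₁ :=
        ⟨_, vW.1.lift_fst _ _ k', vW.1.lift_snd _ _ k'⟩
      have hww : w = w' := by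
        apply sq.hom_ext
        · rw [← cancel_mono (coprod.inl : X ⟶ X ⨿ T), Category.assoc, Category.assoc,
            ← coprod.inl_map p₁ (𝟙 T), ← Category.assoc, ← Category.assoc, hw, hw2,
            Category.assoc, Category.assoc, h₁]
        · rw [← cancel_mono (coprod.inl : Y ⟶ Y ⨿ T), Category.assoc, Category.assoc,
            ← coprod.inl_map p₂ (𝟙 T), ← Category.assoc, ← Category.assoc, hw, hw2,
            Category.assoc, Category.assoc, h₂]
      rw [← hw, ← hw2, hww]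
    · show j₂ ≫ l = j₂ ≫ l'
      have k : (j₂ ≫ l) ≫ coprod.map (p₁ ≫ f) (𝟙 T) = c₂ ≫ coprod.inr := by
        rw [Category.assoc]; exact hj₂
      have k' : (j₂ ≫ l') ≫ coprod.map (p₁ ≫ f) (𝟙 T) = c₂ ≫ coprod.inr := by
        rw [Category.assoc, ← hll']; exact hj₂
      obtain ⟨t, ht, ht'⟩ : ∃ t : U₂ ⟶ T, t ≫ coprod.inr = j₂ ≫ l ∧ t ≫ 𝟙 T = c₂ :=
        ⟨_, vW.2.lift_fst _ _ k, vW.2.lift_snd _ _ k⟩
      obtain ⟨t', ht2, ht2'⟩ : ∃ t' : U₂ ⟶ T, t' ≫ coprod.inr = j₂ ≫ l' ∧ t' ≫ 𝟙 T = c₂ :=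
        ⟨_, vW.2.lift_fst _ _ k', vW.2.lift_snd _ _ k'⟩
      rw [Category.comp_id] at ht' ht2'
      rw [← ht, ← ht2, ht', ht2']

end Ext

theorem preservesPullbacks_of_pointed_retract {D : Type u₂} [Category.{v₂} D]
    [HasPullbacks C] [FinitaryExtensive C] [FinitaryExtensive D]
    (A : C ⥤ D) [PreservesColimitsOfShape (Discrete WalkingPair) A]
    (N : C ⥤ C) (cu : N ⟶ 𝟭 C) [PreservesLimitsOfShape WalkingCospan (N ⋙ A)] (T : C)
    (s : ∀ H : C, (H ⨿ T) ⟶ N.obj (H ⨿ T))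
    (hs : ∀ H, s H ≫ cu.app (H ⨿ T) = 𝟙 (H ⨿ T))
    (hnat : ∀ {H H' : C} (φ : H ⟶ H'),
      s H ≫ N.map (coprod.map φ (𝟙 T)) = coprod.map φ (𝟙 T) ≫ s H') :
    PreservesLimitsOfShape WalkingCospan A := by
  apply preservesPullbacks_of_map_isPullback
  intro W X Y Z p₁ p₂ f g sq
  have h₁ := isPullback_coprod_map T sq
  have h₂ : IsPullback (A.map (N.map (coprod.map p₁ (𝟙 T)))) (A.map (N.map (coprod.map p₂ (𝟙 T))))
      (A.map (N.map (coprod.map f (𝟙 T)))) (A.map (N.map (coprod.map g (𝟙 T)))) :=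
    h₁.map (N ⋙ A)
  have hcun : ∀ {H H' : C} (φ : H ⟶ H'),
      A.map (cu.app (H ⨿ T)) ≫ A.map (coprod.map φ (𝟙 T)) =
        A.map (N.map (coprod.map φ (𝟙 T))) ≫ A.map (cu.app (H' ⨿ T)) := by
    intro H H' φ
    rw [← A.map_comp, ← A.map_comp]
    congr 1
    exact (cu.naturality (coprod.map φ (𝟙 T))).symm
  have hsn : ∀ {H H' : C} (φ : H ⟶ H'),
      A.map (s H) ≫ A.map (N.map (coprod.map φ (𝟙 T))) =
        A.map (coprod.map φ (𝟙 T)) ≫ A.map (s H') := by
    intro H H' φ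
    rw [← A.map_comp, ← A.map_comp, hnat]
  have hscu : ∀ H : C, A.map (s H) ≫ A.map (cu.app (H ⨿ T)) = 𝟙 _ := by
    intro H
    rw [← A.map_comp, hs, A.map_id]
  have h₃ : IsPullback (A.map (coprod.map p₁ (𝟙 T))) (A.map (coprod.map p₂ (𝟙 T)))
      (A.map (coprod.map f (𝟙 T))) (A.map (coprod.map g (𝟙 T))) :=
    isPullback_of_retract h₂ (by rw [← A.map_comp, ← A.map_comp, h₁.w])
      (A.map (s W)) (A.map (s X)) (A.map (s Y)) (A.map (s Z))
      (A.map (cu.app _)) (A.map (cu.app _)) (A.map (cu.app _))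
      (hscu W) (hscu X) (hscu Y) (hsn p₁) (hsn p₂) (hsn f) (hsn g) (hcun p₁) (hcun p₂)
  have q₁l : A.map p₁ ≫ A.map (coprod.inl : X ⟶ X ⨿ T) =
      A.map (coprod.inl : W ⟶ W ⨿ T) ≫ A.map (coprod.map p₁ (𝟙 T)) := by
    rw [← A.map_comp, ← A.map_comp, coprod.inl_map]
  have q₁r : 𝟙 (A.obj T) ≫ A.map (coprod.inr : T ⟶ X ⨿ T) =
      A.map (coprod.inr : T ⟶ W ⨿ T) ≫ A.map (coprod.map p₁ (𝟙 T)) := by
    rw [← A.map_comp, coprod.inr_map, Category.id_comp, Category.id_comp]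
  have q₂l : A.map p₂ ≫ A.map (coprod.inl : Y ⟶ Y ⨿ T) =
      A.map (coprod.inl : W ⟶ W ⨿ T) ≫ A.map (coprod.map p₂ (𝟙 T)) := by
    rw [← A.map_comp, ← A.map_comp, coprod.inl_map]
  have qF : A.map f ≫ A.map (coprod.inl : Z ⟶ Z ⨿ T) =
      A.map (coprod.inl : X ⟶ X ⨿ T) ≫ A.map (coprod.map f (𝟙 T)) := by
    rw [← A.map_comp, ← A.map_comp, coprod.inl_map]
  have qG : A.map g ≫ A.map (coprod.inl : Z ⟶ Z ⨿ T) =
      A.map (coprod.inl : Y ⟶ Y ⨿ T) ≫ A.map (coprod.map g (𝟙 T)) := by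
    rw [← A.map_comp, ← A.map_comp, coprod.inl_map]
  exact isPullback_of_isPullback_cofan (by rw [← A.map_comp, ← A.map_comp, sq.w])
    (isColimitOfHasBinaryCoproductOfPreservesColimit A W T)
    (isColimitOfHasBinaryCoproductOfPreservesColimit A X T)
    (isColimitOfHasBinaryCoproductOfPreservesColimit A Y T)
    q₁l q₁r q₂l qF qG h₃


theorem preservesPullbacks_of_pointed_retract' {D : Type u₂} [Category.{v₂} D]
    [HasPullbacks C] [FinitaryExtensive C] [FinitaryExtensive D]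
    (A : C ⥤ D) [PreservesColimitsOfShape (Discrete WalkingPair) A]
    (N : C ⥤ C) (cu : N ⟶ 𝟭 C) [PreservesLimitsOfShape WalkingCospan (N ⋙ A)] (T : C)
    (s : ∀ (H : C), (T ⟶ H) → (H ⟶ N.obj H))
    (hs : ∀ (H : C) (pt : T ⟶ H), s H pt ≫ cu.app H = 𝟙 H)
    (hnat : ∀ {H H' : C} (pt : T ⟶ H) (pt' : T ⟶ H') (φ : H ⟶ H'), pt ≫ φ = pt' →
      s H pt ≫ N.map φ = φ ≫ s H' pt') :
    PreservesLimitsOfShape WalkingCospan A :=
  preservesPullbacks_of_pointed_retract A N cu T (fun H => s (H ⨿ T) coprod.inr)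
    (fun H => hs _ _)
    (fun {H H'} φ => hnat coprod.inr coprod.inr (coprod.map φ (𝟙 T)) (by simp))

end Abstract

section WGen

variable {𝒮 : Type u} [SmallCategory 𝒮] (F : Pseudofunctor (LocallyDiscrete 𝒮ᵒᵖ) Cat.{u, u})
  (i : 𝒮) (J : FibSite.Topologies F) (hF : FibSite.IsPreFibSite F J)
  {R Q : (F.obj ⟨op i⟩)ᵒᵖ ⥤ Type u} (u : R ⟶ Q)

include hF

theorem isLocallySurjective_of_lan'
    (h : Presheaf.IsLocallySurjective (FibSite.totalTopology F J)
      (((ι F i).op.lan (H := Type u)).map u)) :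
    Presheaf.IsLocallySurjective (J i) u := by
  refine ⟨fun {V} s => ?_⟩
  have h1 := Presheaf.imageSieve_mem (FibSite.totalTopology F J) ((ι F i).op.lan.map u)
    (U := op ((ι F i).obj V)) (((ι F i).op.lanUnit.app Q).app (op V) s)
  obtain ⟨R₀, hR₀, hle⟩ := (mem_totalTopology_iff F J hF _ _).1 h1
  refine (J i).superset_covering ?_ hR₀
  intro W g hg
  obtain ⟨t', ht'⟩ := hle _ (Sieve.image_mem_functorPushforward _ _ hg)
  have e1 : ((ι F i).op.lan.obj Q).map ((ι F i).map g).op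
      (((ι F i).op.lanUnit.app Q).app (op V) s) =
      ((ι F i).op.lanUnit.app Q).app (op W) (Q.map g.op s) :=
    (NatTrans.naturality_apply ((ι F i).op.lanUnit.app Q) g.op s).symm
  have e2 := retr_natural F i u W t'
  have e3 : retr F i Q W (((ι F i).op.lan.map u).app (op ((ι F i).obj W)) t') =
      some (Q.map g.op s) :=
    (congrArg (retr F i Q W) (ht'.trans e1)).trans (retr_unit F i _ W _)
  have e4 := e2.symm.trans e3
  obtain ⟨t, _, hut⟩ := Option.map_eq_some_iff.1 e4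
  exact ⟨t, hut⟩

theorem isLocallyInjective_of_lan'
    (h : Presheaf.IsLocallyInjective (FibSite.totalTopology F J)
      (((ι F i).op.lan (H := Type u)).map u)) :
    Presheaf.IsLocallyInjective (J i) u := by
  refine ⟨fun {X} x y hxy => ?_⟩
  have e0 : ∀ z : R.obj X, ((ι F i).op.lan.map u).app _
      (((ι F i).op.lanUnit.app R).app X z) =
      ((ι F i).op.lanUnit.app Q).app X (u.app X z) := fun z =>
    (ConcreteCategory.congr_hom (congr_app ((ι F i).op.lanUnit.naturality u) X) z).symm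
  have h1 := Presheaf.equalizerSieve_mem (FibSite.totalTopology F J) ((ι F i).op.lan.map u)
    (X := op ((ι F i).obj X.unop)) (((ι F i).op.lanUnit.app R).app X x)
    (((ι F i).op.lanUnit.app R).app X y)
    ((e0 x).trans ((congrArg (fun w => ((ι F i).op.lanUnit.app Q).app X w) hxy).trans
      (e0 y).symm))
  obtain ⟨R₀, hR₀, hle⟩ := (mem_totalTopology_iff F J hF _ _).1 h1
  refine (J i).superset_covering ?_ hR₀
  intro W g hg
  have h2 : ((ι F i).op.lan.obj R).map ((ι F i).map g).op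
      (((ι F i).op.lanUnit.app R).app X x) =
      ((ι F i).op.lan.obj R).map ((ι F i).map g).op
      (((ι F i).op.lanUnit.app R).app X y) :=
    hle _ (Sieve.image_mem_functorPushforward _ _ hg)
  have e1 : ∀ z : R.obj X, ((ι F i).op.lan.obj R).map ((ι F i).map g).op
      (((ι F i).op.lanUnit.app R).app X z) =
      ((ι F i).op.lanUnit.app R).app (op W) (R.map g.op z) := fun z =>
    (NatTrans.naturality_apply ((ι F i).op.lanUnit.app R) g.op z).symm
  have h2' := (e1 x).symm.trans (h2.trans (e1 y))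
  have h3 := (retr_unit F i R W _).symm.trans
    ((congrArg (retr F i R W) h2').trans (retr_unit F i R W _))
  exact Option.some.inj h3

theorem W_of_W_lan'
    (h : (FibSite.totalTopology F J).W (((ι F i).op.lan (H := Type u)).map u)) :
    (J i).W u := by
  rw [GrothendieckTopology.W_iff_isLocallyBijective] at h ⊢
  exact ⟨isLocallyInjective_of_lan' F i J hF u h.1, isLocallySurjective_of_lan' F i J hF u h.2⟩

end WGen

section Cont

variable {𝒮 : Type u} [SmallCategory 𝒮] {F G : Pseudofunctor (LocallyDiscrete 𝒮ᵒᵖ) Cat.{u, u}}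
  (α : G ⟶ F) (J : FibSite.Topologies F) (K : FibSite.Topologies G)

theorem isContinuous_app (hF : FibSite.IsPreFibSite F J) (hG : FibSite.IsPreFibSite G K)
    [(map α).IsContinuous (FibSite.totalTopology G K) (FibSite.totalTopology F J)] (S : 𝒮) :
    (α.app ⟨op S⟩).toFunctor.IsContinuous (K S) (J S) := by
  haveI := isContinuous_ι G K hG S
  haveI : (ι G S ⋙ map α).IsContinuous (K S) (FibSite.totalTopology F J) :=
    Functor.isContinuous_comp _ _ (K S) (FibSite.totalTopology G K) (FibSite.totalTopology F J)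
  haveI : ((α.app ⟨op S⟩).toFunctor ⋙ ι F S).IsContinuous (K S) (FibSite.totalTopology F J) :=
    Functor.isContinuous_of_iso (ιCompMapIso α S) (K S) (FibSite.totalTopology F J)
  refine ⟨fun H => ?_⟩
  refine Presieve.IsSheaf.comp_of_W_map_of_adjunction (K S)
    ((α.app ⟨op S⟩).toFunctor.op.lanAdjunction (Type u)) ?_ H.obj
    ((isSheaf_iff_isSheaf_of_type _ _).1 H.property)
  intro Z R hR
  apply W_of_W_lan' F S J hF
  let adj := ((α.app ⟨op S⟩).toFunctor.op.lanAdjunction (Type u)).comp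
    ((ι F S).op.lanAdjunction (Type u))
  let iso : (Functor.whiskeringLeft _ _ (Type u)).obj (ι F S).op ⋙
      (Functor.whiskeringLeft _ _ (Type u)).obj (α.app ⟨op S⟩).toFunctor.op ≅
      (Functor.whiskeringLeft _ _ (Type u)).obj ((α.app ⟨op S⟩).toFunctor ⋙ ι F S).op :=
    NatIso.ofComponents (fun P => Iso.refl _)
  exact Functor.W_map_of_adjunction_of_isContinuous (K S) (FibSite.totalTopology F J)
    ((α.app ⟨op S⟩).toFunctor ⋙ ι F S) _ (adj.ofNatIsoRight iso) _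
    (Sieve.W_shrinkFunctor_ι_of_mem (K S) R hR)

end Cont

section Sec

variable {𝒮 : Type u} [SmallCategory 𝒮] (G : Pseudofunctor (LocallyDiscrete 𝒮ᵒᵖ) Cat.{u, u})
  (K : FibSite.Topologies G) (S : 𝒮)

/-- the vertical isomorphism `(𝟙 S)^* Z ≅ Z` -/
def vIdIso (Z : G.obj ⟨op S⟩) : (FibSite.invImage G (𝟙 S)).obj Z ≅ Z :=
  (Cat.Hom.toNatIso (G.mapId ⟨op S⟩)).app Z

theorem vIdIso_naturality {Z Z' : G.obj ⟨op S⟩} (z : Z ⟶ Z') :
    (FibSite.invImage G (𝟙 S)).map z ≫ (vIdIso G S Z').hom = (vIdIso G S Z).hom ≫ z :=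
  (Cat.Hom.toNatIso (G.mapId ⟨op S⟩)).hom.naturality z

theorem ι_map_vIdIso (Z : G.obj ⟨op S⟩) :
    (ι G S).map (vIdIso G S Z).hom = cartesianLift Z (𝟙 S) := by
  ext
  · simp
  · simp [vIdIso, ← Cat.Hom₂.comp_app]

variable [(ι G S).IsContinuous (K S) (FibSite.totalTopology G K)]
  [(ι G S).IsCocontinuous (K S) (FibSite.totalTopology G K)]
  [∀ f : S ⟶ S, (FibSite.invImage G f).IsContinuous (K S) (K S)]

/-- direct image along `f^*` -/
abbrev Pf (f : S ⟶ S) : Sheaf (K S) (Type u) ⥤ Sheaf (K S) (Type u) :=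
  (FibSite.invImage G f).sheafPushforwardContinuous (Type u) (K S) (K S)

/-- the counit of `restr ⊣ coextend` -/
abbrev cuc : FibSite.coextend G K (Type u) S ⋙ FibSite.restr G K (Type u) S ⟶
    𝟭 (Sheaf (K S) (Type u)) :=
  ((ι G S).sheafAdjunctionCocontinuous (Type u) (K S) (FibSite.totalTopology G K)).counit

/-- the identity component -/
def idσ (H : Sheaf (K S) (Type u)) : H ⟶ (Pf G K S (𝟙 S)).obj H :=
  ⟨{ app := fun Z => H.obj.map (vIdIso G S Z.unop).hom.op
     naturality := fun Z Z' z => by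
       have hn := vIdIso_naturality G S z.unop
       show H.obj.map z ≫ H.obj.map (vIdIso G S Z'.unop).hom.op =
         H.obj.map (vIdIso G S Z.unop).hom.op ≫
           H.obj.map ((FibSite.invImage G (𝟙 S)).map z.unop).op
       rw [← H.obj.map_comp, ← H.obj.map_comp]
       congr 1
       exact congrArg Quiver.Hom.op hn.symm }⟩

theorem idσ_naturality {H H' : Sheaf (K S) (Type u)} (φ : H ⟶ H') :
    φ ≫ idσ G K S H' = idσ G K S H ≫ (Pf G K S (𝟙 S)).map φ := by
  refine Sheaf.hom_ext (NatTrans.ext (funext fun Z => ?_))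
  exact (φ.hom.naturality (vIdIso G S Z.unop).hom.op).symm

instance isIso_idσ (H : Sheaf (K S) (Type u)) : IsIso (idσ G K S H) := by
  haveI : IsIso ((sheafToPresheaf _ _).map (idσ G K S H)) := by
    show IsIso (idσ G K S H).hom
    haveI : ∀ Z, IsIso ((idσ G K S H).hom.app Z) := fun Z => by
      show IsIso (H.obj.map (vIdIso G S Z.unop).hom.op)
      infer_instance
    exact NatIso.isIso_of_isIso_app _
  exact isIso_of_reflects_iso _ (sheafToPresheaf _ _)

theorem sheafProj_id (H : Sheaf (K S) (Type u)) :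
    sheafProj G K (𝟙 S) H = (cuc G K S).app H ≫ idσ G K S H := by
  refine Sheaf.hom_ext (NatTrans.ext (funext fun Z => ?_))
  have h3 := (ι G S).sheafAdjunctionCocontinuous_counit_app_hom (Type u) (K S)
    (FibSite.totalTopology G K) H
  rw [Functor.ranAdjunction_counit] at h3
  have h4 := congrArg (fun t => t.app Z) h3
  have hn := ((ι G S).op.ranCounit.app H.obj).naturality (vIdIso G S Z.unop).hom.op
  have hc := ι_map_vIdIso G S Z.unop
  show ((ι G S).op.ran.obj H.obj).map (cartesianLift Z.unop (𝟙 S)).op ≫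
      ((ι G S).op.ranCounit.app H.obj).app (op ((FibSite.invImage G (𝟙 S)).obj Z.unop)) =
    ((cuc G K S).app H).hom.app Z ≫ H.obj.map (vIdIso G S Z.unop).hom.op
  rw [← hc]
  exact hn.trans (congrArg (fun t => t ≫ H.obj.map (vIdIso G S Z.unop).hom.op) h4.symm)

/-- `f_* ⊤` is terminal -/
def isTerminalPfTop (f : S ⟶ S) :
    IsTerminal ((Pf G K S f).obj (⊤_ (Sheaf (K S) (Type u)))) := by
  haveI : PreservesLimits (Pf G K S f) :=
    ((FibSite.invImage G f).sheafAdjunctionContinuous (Type u) (K S)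
      (K S)).rightAdjoint_preservesLimits
  exact IsTerminal.isTerminalObj _ _ terminalIsTerminal

/-- the constant component -/
def constσ (f : S ⟶ S) (H : Sheaf (K S) (Type u)) (pt : ⊤_ (Sheaf (K S) (Type u)) ⟶ H) :
    H ⟶ (Pf G K S f).obj H :=
  (isTerminalPfTop G K S f).from H ≫ (Pf G K S f).map pt

open Classical in
/-- the components of the section -/
def σ (H : Sheaf (K S) (Type u)) (pt : ⊤_ (Sheaf (K S) (Type u)) ⟶ H) (f : S ⟶ S) :
    H ⟶ (Pf G K S f).obj H :=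
  if h : f = 𝟙 S then (by subst h; exact idσ G K S H) else constσ G K S f H pt

theorem σ_id (H : Sheaf (K S) (Type u)) (pt : ⊤_ (Sheaf (K S) (Type u)) ⟶ H) :
    σ G K S H pt (𝟙 S) = idσ G K S H := by
  rw [σ, dif_pos rfl]

theorem σ_natural {H H' : Sheaf (K S) (Type u)} {pt : ⊤_ (Sheaf (K S) (Type u)) ⟶ H}
    {pt' : ⊤_ (Sheaf (K S) (Type u)) ⟶ H'} (φ : H ⟶ H') (hφ : pt ≫ φ = pt') (f : S ⟶ S) :
    σ G K S H pt f ≫ (Pf G K S f).map φ = φ ≫ σ G K S H' pt' f := by
  by_cases h : f = 𝟙 S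
  · subst h
    rw [σ_id, σ_id]
    exact (idσ_naturality G K S φ).symm
  · rw [σ, dif_neg h, σ, dif_neg h, constσ, constσ, Category.assoc, ← Functor.map_comp, hφ,
      ← Category.assoc]
    congr 1
    exact (isTerminalPfTop G K S f).hom_ext _ _

/-- the section of the counit at a pointed sheaf -/
def sec (H : Sheaf (K S) (Type u)) (pt : ⊤_ (Sheaf (K S) (Type u)) ⟶ H) :
    H ⟶ (FibSite.coextend G K (Type u) S ⋙ FibSite.restr G K (Type u) S).obj H :=
  Fan.IsLimit.lift (sheafFanIsLimit G K (i := S) (j := S) H) (fun f => σ G K S H pt f)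

theorem sec_proj (H : Sheaf (K S) (Type u)) (pt : ⊤_ (Sheaf (K S) (Type u)) ⟶ H) (f : S ⟶ S) :
    sec G K S H pt ≫ sheafProj G K f H = σ G K S H pt f :=
  Fan.IsLimit.fac (sheafFanIsLimit G K (i := S) (j := S) H) (fun f => σ G K S H pt f) f

theorem sec_counit (H : Sheaf (K S) (Type u)) (pt : ⊤_ (Sheaf (K S) (Type u)) ⟶ H) :
    sec G K S H pt ≫ (cuc G K S).app H = 𝟙 H := by
  rw [← cancel_mono (idσ G K S H), Category.assoc, ← sheafProj_id, sec_proj, σ_id,
    Category.id_comp]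

theorem sec_natural {H H' : Sheaf (K S) (Type u)} {pt : ⊤_ (Sheaf (K S) (Type u)) ⟶ H}
    {pt' : ⊤_ (Sheaf (K S) (Type u)) ⟶ H'} (φ : H ⟶ H') (hφ : pt ≫ φ = pt') :
    sec G K S H pt ≫ (FibSite.coextend G K (Type u) S ⋙ FibSite.restr G K (Type u) S).map φ =
      φ ≫ sec G K S H' pt' := by
  refine Fan.IsLimit.hom_ext (sheafFanIsLimit G K (i := S) (j := S) H') _ _ (fun f => ?_)
  show (sec G K S H pt ≫
      (FibSite.coextend G K (Type u) S ⋙ FibSite.restr G K (Type u) S).map φ) ≫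
      sheafProj G K f H' = (φ ≫ sec G K S H' pt') ≫ sheafProj G K f H'
  rw [Category.assoc, sheafProj_naturality, ← Category.assoc, sec_proj, Category.assoc, sec_proj,
    σ_natural G K S φ hφ f]

end Sec

section Main

variable {𝒮 : Type u} [SmallCategory 𝒮] {F G : Pseudofunctor (LocallyDiscrete 𝒮ᵒᵖ) Cat.{u, u}}
  (α : G ⟶ F) (J : FibSite.Topologies F) (K : FibSite.Topologies G)

section Pieces

variable (S : 𝒮)
  [(ι F S).IsContinuous (J S) (FibSite.totalTopology F J)]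
  [(ι F S).IsCocontinuous (J S) (FibSite.totalTopology F J)]
  [(ι G S).IsContinuous (K S) (FibSite.totalTopology G K)]
  [(ι G S).IsCocontinuous (K S) (FibSite.totalTopology G K)]
  [(map α).IsContinuous (FibSite.totalTopology G K) (FibSite.totalTopology F J)]
  [(α.app ⟨op S⟩).toFunctor.IsContinuous (K S) (J S)]

/-- `restr ∘ Φ⁻¹ ≅ α_S⁻¹ ∘ restr` -/
def restrPullbackIso :
    (map α).sheafPullback (Type u) (FibSite.totalTopology G K) (FibSite.totalTopology F J) ⋙
      FibSite.restr F J (Type u) S ≅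
    FibSite.restr G K (Type u) S ⋙
      (α.app ⟨op S⟩).toFunctor.sheafPullback (Type u) (K S) (J S) :=
  ((((map α).sheafAdjunctionContinuous (Type u) (FibSite.totalTopology G K)
    (FibSite.totalTopology F J)).comp
      ((ι F S).sheafAdjunctionCocontinuous (Type u) (J S)
        (FibSite.totalTopology F J))).ofNatIsoRight (thetaIso α J K S)).leftAdjointUniq
    (((ι G S).sheafAdjunctionCocontinuous (Type u) (K S)
    (FibSite.totalTopology G K)).comp
      ((α.app ⟨op S⟩).toFunctor.sheafAdjunctionContinuous (Type u) (K S) (J S)))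

theorem preservesFiniteLimits_restr_comp
    [PreservesFiniteLimits ((map α).sheafPullback (Type u) (FibSite.totalTopology G K)
      (FibSite.totalTopology F J))] :
    PreservesFiniteLimits (FibSite.restr G K (Type u) S ⋙
      (α.app ⟨op S⟩).toFunctor.sheafPullback (Type u) (K S) (J S)) := by
  haveI : PreservesLimits (FibSite.restr F J (Type u) S) :=
    ((ι F S).sheafAdjunctionContinuous (Type u) (J S)
      (FibSite.totalTopology F J)).rightAdjoint_preservesLimits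
  exact preservesFiniteLimits_of_natIso (restrPullbackIso α J K S)

theorem preservesFiniteLimits_coextend_restr_comp
    [PreservesFiniteLimits ((map α).sheafPullback (Type u) (FibSite.totalTopology G K)
      (FibSite.totalTopology F J))] :
    PreservesFiniteLimits ((FibSite.coextend G K (Type u) S ⋙ FibSite.restr G K (Type u) S) ⋙
      (α.app ⟨op S⟩).toFunctor.sheafPullback (Type u) (K S) (J S)) := by
  haveI : PreservesLimits (FibSite.coextend G K (Type u) S) :=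
    ((ι G S).sheafAdjunctionCocontinuous (Type u) (K S)
      (FibSite.totalTopology G K)).rightAdjoint_preservesLimits
  haveI := preservesFiniteLimits_restr_comp α J K S
  haveI : PreservesFiniteLimits (FibSite.coextend G K (Type u) S ⋙
      (FibSite.restr G K (Type u) S ⋙
      (α.app ⟨op S⟩).toFunctor.sheafPullback (Type u) (K S) (J S))) :=
    comp_preservesFiniteLimits _ _
  exact preservesFiniteLimits_of_natIso (Functor.associator _ _ _).symm

theorem preservesTerminal_app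
    [PreservesFiniteLimits ((map α).sheafPullback (Type u) (FibSite.totalTopology G K)
      (FibSite.totalTopology F J))] :
    PreservesLimit (Functor.empty.{0} (Sheaf (K S) (Type u)))
      ((α.app ⟨op S⟩).toFunctor.sheafPullback (Type u) (K S) (J S)) := by
  haveI : PreservesLimits (FibSite.restr G K (Type u) S) :=
    ((ι G S).sheafAdjunctionContinuous (Type u) (K S)
      (FibSite.totalTopology G K)).rightAdjoint_preservesLimits
  haveI hΛ := preservesFiniteLimits_restr_comp α J K S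
  haveI : PreservesLimit (Functor.empty.{0} (Sheaf (FibSite.totalTopology G K) (Type u)))
      (FibSite.restr G K (Type u) S ⋙
      (α.app ⟨op S⟩).toFunctor.sheafPullback (Type u) (K S) (J S)) :=
    (hΛ.preservesFiniteLimits (Discrete PEmpty.{1})).preservesLimit
  have t₁ : IsTerminal ((FibSite.restr G K (Type u) S).obj
      (⊤_ (Sheaf (FibSite.totalTopology G K) (Type u)))) :=
    IsTerminal.isTerminalObj _ _ terminalIsTerminal
  have t₂ : IsTerminal ((FibSite.restr G K (Type u) S ⋙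
      (α.app ⟨op S⟩).toFunctor.sheafPullback (Type u) (K S) (J S)).obj
      (⊤_ (Sheaf (FibSite.totalTopology G K) (Type u)))) :=
    IsTerminal.isTerminalObj _ _ terminalIsTerminal
  exact preservesTerminal_of_iso _
    (((α.app ⟨op S⟩).toFunctor.sheafPullback (Type u) (K S) (J S)).mapIso
      (terminalIsTerminal.uniqueUpToIso t₁) ≪≫ t₂.uniqueUpToIso terminalIsTerminal)

theorem preservesPullbacks_app
    [∀ f : S ⟶ S, (FibSite.invImage G f).IsContinuous (K S) (K S)]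
    [PreservesFiniteLimits ((map α).sheafPullback (Type u) (FibSite.totalTopology G K)
      (FibSite.totalTopology F J))] :
    PreservesLimitsOfShape WalkingCospan
      ((α.app ⟨op S⟩).toFunctor.sheafPullback (Type u) (K S) (J S)) := by
  haveI hB := preservesFiniteLimits_coextend_restr_comp α J K S
  haveI : PreservesLimitsOfShape WalkingCospan
      ((FibSite.coextend G K (Type u) S ⋙ FibSite.restr G K (Type u) S) ⋙
      (α.app ⟨op S⟩).toFunctor.sheafPullback (Type u) (K S) (J S)) :=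
    hB.preservesFiniteLimits WalkingCospan
  haveI : PreservesColimitsOfSize.{0, 0}
      ((α.app ⟨op S⟩).toFunctor.sheafPullback (Type u) (K S) (J S)) :=
    ((α.app ⟨op S⟩).toFunctor.sheafAdjunctionContinuous (Type u) (K S)
      (J S)).leftAdjoint_preservesColimits
  haveI : PreservesColimitsOfShape (Discrete WalkingPair)
      ((α.app ⟨op S⟩).toFunctor.sheafPullback (Type u) (K S) (J S)) := inferInstance
  haveI : HasPullbacks (Sheaf (K S) (Type u)) := inferInstance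
  haveI : FinitaryExtensive (Sheaf (K S) (Type u)) := inferInstance
  haveI : FinitaryExtensive (Sheaf (J S) (Type u)) := inferInstance
  exact preservesPullbacks_of_pointed_retract'
    ((α.app ⟨op S⟩).toFunctor.sheafPullback (Type u) (K S) (J S))
    (FibSite.coextend G K (Type u) S ⋙ FibSite.restr G K (Type u) S) (cuc G K S)
    (⊤_ (Sheaf (K S) (Type u)))
    (fun H pt => sec G K S H pt)
    (fun H pt => sec_counit G K S H pt)
    (fun {H H'} pt pt' φ hφ => sec_natural G K S φ hφ)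

end Pieces

theorem preservesFiniteLimits_app (hF : FibSite.IsPreFibSite F J) (hG : FibSite.IsPreFibSite G K)
    [(map α).IsContinuous (FibSite.totalTopology G K) (FibSite.totalTopology F J)]
    [((map α).sheafPushforwardContinuous (Type u) (FibSite.totalTopology G K)
      (FibSite.totalTopology F J)).IsRightAdjoint]
    [PreservesFiniteLimits ((map α).sheafPullback (Type u) (FibSite.totalTopology G K)
      (FibSite.totalTopology F J))]
    (S : 𝒮) [(α.app ⟨op S⟩).toFunctor.IsContinuous (K S) (J S)]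
    [((α.app ⟨op S⟩).toFunctor.sheafPushforwardContinuous (Type u) (K S) (J S)).IsRightAdjoint] :
    PreservesFiniteLimits ((α.app ⟨op S⟩).toFunctor.sheafPullback (Type u) (K S) (J S)) := by
  haveI := isContinuous_ι F J hF S
  haveI := isCocontinuous_ι F J hF S
  haveI := isContinuous_ι G K hG S
  haveI := isCocontinuous_ι G K hG S
  haveI : ∀ f : S ⟶ S, (FibSite.invImage G f).IsContinuous (K S) (K S) := fun f => hG f
  haveI hpb := preservesPullbacks_app α J K S
  haveI := preservesTerminal_app α J K S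
  haveI := preservesLimitsOfShape_pempty_of_preservesTerminal
    ((α.app ⟨op S⟩).toFunctor.sheafPullback (Type u) (K S) (J S))
  haveI : HasTerminal (Sheaf (K S) (Type u)) := inferInstance
  haveI : HasPullbacks (Sheaf (K S) (Type u)) := inferInstance
  exact preservesFiniteLimits_of_preservesTerminal_and_pullbacks _

end Main

end

end Groth.Agent.Lib.FibSiteL
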