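import Mathlib
import Groth.Prelude
import Groth.Agent.Lib.ProjSpaceProper_helper4

set_option autoImplicit false
set_option linter.style.haveILetI false
set_option linter.unusedVariables false
set_option linter.unusedSectionVars false
set_option backward.isDefEq.respectTransparency false
set_option maxHeartbeats 800000

universe u

open AlgebraicGeometry CategoryTheory CategoryTheory.Limits TopologicalSpace

namespace Groth.Agent.Lib.FibSurfDivH4

/-- No chain of four irreducible closed subsets in a space of dimension `≤ 2`. -/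
theorem no_chain4 {T : Type*} [TopologicalSpace T] (hdim : topologicalKrullDim T ≤ 2)
    (a b c d : IrreducibleCloseds T) (hab : a < b) (hbc : b < c) (hcd : c < d) : False := by
  have hsm : StrictMono (![a, b, c, d] : Fin 4 → IrreducibleCloseds T) := by
    rw [Fin.strictMono_iff_lt_succ]
    intro i
    fin_cases i
    · first | exact hab | simpa using hab
    · first | exact hbc | simpa using hbc
    · first | exact hcd | simpa using hcd
  have h1 := Order.LTSeries.length_le_krullDim (LTSeries.mk 3 _ hsm)
  have h2 : ((3 : ℕ) : WithBot ℕ∞) ≤ 2 := le_trans h1 hdim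
  exact absurd h2 (by decide)

/-- Topological core of the divisor dichotomy on a fibered surface. -/
theorem core {T : Type u} [TopologicalSpace T] [QuasiSober T] [T0Space T]
    {R : Type u} [CommRing R] [IsDedekindDomain R] (hR : ¬ IsField R)
    (π : T → PrimeSpectrum R) (hcont : Continuous π) (hclosed : IsClosedMap π)
    (hgen : GeneralizingMap π) [IrreducibleSpace T] (hdim : topologicalKrullDim T = 2)
    (D : Set T) (hD : IsClosed D) (hirr : IsIrreducible D) (hD1 : topologicalKrullDim D = 1) :
    (∃ s : PrimeSpectrum R, s.asIdeal.IsMaximal ∧ D ⊆ π ⁻¹' {s} ∧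
        ∀ D' : Set T, IsIrreducible D' → D' ⊆ π ⁻¹' {s} → D ⊆ D' → D' = D) ∨
      (∃ x : T, (π x).asIdeal = ⊥ ∧
        (∀ z : T, (π z).asIdeal = ⊥ → x ⤳ z → z = x) ∧ D = closure {x}) := by
  classical
  have hbot : ¬ (⊥ : Ideal R).IsMaximal := fun h => hR (Ring.isField_iff_maximal_bot.mpr h)
  obtain ⟨ξ, hξ⟩ := QuasiSober.sober hirr hD
  have hξD : closure {ξ} = D := hξ
  have chain : ∀ a b c d : IrreducibleCloseds T, a < b → b < c → c < d → False :=
    fun a b c d => no_chain4 hdim.le a b c d
  let Dc : IrreducibleCloseds T := ⟨D, hirr, hD⟩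
  let Uc : IrreducibleCloseds T := ⟨Set.univ, IrreducibleSpace.isIrreducible_univ T, isClosed_univ⟩
  by_cases hη : (π ξ).asIdeal = ⊥
  · right
    refine ⟨ξ, hη, ?_, hξD.symm⟩
    intro z hz hspec
    by_contra hne
    have hzD : z ∈ D := by
      rw [← hξD]; exact specializes_iff_mem_closure.mp hspec
    have hzcl : ¬ IsClosed ({z} : Set T) := by
      intro hcl
      have h2 : IsClosed (π '' {z}) := hclosed _ hcl
      rw [Set.image_singleton] at h2
      have h3 := (PrimeSpectrum.isClosed_singleton_iff_isMaximal (π z)).mp h2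
      rw [hz] at h3
      exact hbot h3
    obtain ⟨z', hz'mem, hz'ne⟩ : ∃ z' ∈ closure ({z} : Set T), z' ≠ z := by
      by_contra hcon
      push_neg at hcon
      apply hzcl
      have h4 : closure ({z} : Set T) = {z} :=
        Set.Subset.antisymm (fun w hw => hcon w hw) subset_closure
      rw [← h4]; exact isClosed_closure
    let W : IrreducibleCloseds T := ⟨closure {z'}, isIrreducible_singleton.closure, isClosed_closure⟩
    let C : IrreducibleCloseds T := ⟨closure {z}, isIrreducible_singleton.closure, isClosed_closure⟩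
    have hWC : W < C := by
      refine SetLike.coe_ssubset_coe.mp
        ⟨closure_minimal (Set.singleton_subset_iff.mpr hz'mem) isClosed_closure, fun hsub => hz'ne ?_⟩
      have h1 : z' ⤳ z := specializes_iff_mem_closure.mpr (hsub (subset_closure rfl))
      have h2 : z ⤳ z' := specializes_iff_mem_closure.mpr hz'mem
      exact (h1.antisymm h2).eq
    have hCD : C < Dc := by
      refine SetLike.coe_ssubset_coe.mp
        ⟨closure_minimal (Set.singleton_subset_iff.mpr hzD) hD, fun hsub => hne ?_⟩
      have hξmem : ξ ∈ D := by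
        rw [← hξD]; exact subset_closure rfl
      have h1 : z ⤳ ξ := specializes_iff_mem_closure.mpr (hsub hξmem)
      exact (h1.antisymm hspec).eq
    have hDU : Dc < Uc := by
      refine SetLike.coe_ssubset_coe.mp ⟨Set.subset_univ _, fun hsub => ?_⟩
      have hind : Topology.IsInducing
          (Set.codRestrict (id : T → T) D (fun x => hsub (Set.mem_univ x))) :=
        Topology.IsInducing.id.codRestrict _
      have h1 := hind.topologicalKrullDim_le
      rw [hdim, hD1] at h1
      exact absurd h1 (by decide)
    exact chain W C Dc Uc hWC hCD hDU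
  · left
    have hmax : (π ξ).asIdeal.IsMaximal := (π ξ).isPrime.isMaximal hη
    have hscl : IsClosed ({π ξ} : Set (PrimeSpectrum R)) :=
      (PrimeSpectrum.isClosed_singleton_iff_isMaximal _).mpr hmax
    have hfib : IsClosed (π ⁻¹' {π ξ}) := hscl.preimage hcont
    refine ⟨π ξ, hmax, ?_, ?_⟩
    · rw [← hξD]; exact closure_minimal (Set.singleton_subset_iff.mpr rfl) hfib
    · intro D' hD'irr hD'sub hDD'
      by_contra hne
      -- a proper irreducible closed subset of D
      obtain ⟨A, hAD⟩ : ∃ A : IrreducibleCloseds T, (A : Set T) ⊂ D := by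
        have h1 : (1 : WithBot ℕ∞) ≤ Order.krullDim (IrreducibleCloseds D) := hD1.ge
        obtain ⟨x, y, hxy⟩ := Order.one_le_krullDim_iff.mp h1
        have hind : Topology.IsInducing (Subtype.val : D → T) := Topology.IsInducing.subtypeVal
        have hlt := IrreducibleCloseds.map_strictMono_of_isInducing hind hxy
        refine ⟨IrreducibleCloseds.map Subtype.val hind.continuous x, ?_⟩
        have hyD : ((IrreducibleCloseds.map Subtype.val hind.continuous y :
            IrreducibleCloseds T) : Set T) ⊆ D := by
          rw [IrreducibleCloseds.coe_map]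
          exact closure_minimal (Subtype.coe_image_subset D _) hD
        exact ssubset_of_ssubset_of_subset (SetLike.coe_ssubset_coe.mpr hlt) hyD
      let b0 : PrimeSpectrum R := ⟨⊥, Ideal.isPrime_bot⟩
      have hb0 : b0 ⤳ π ξ :=
        (PrimeSpectrum.le_iff_specializes b0 (π ξ)).mp
          (show b0.asIdeal ≤ (π ξ).asIdeal from bot_le)
      obtain ⟨x', -, hx'⟩ := hgen hb0
      let E : IrreducibleCloseds T := ⟨closure D', hD'irr.closure, isClosed_closure⟩
      have hEfib : closure D' ⊆ π ⁻¹' {π ξ} := closure_minimal hD'sub hfib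
      have hx'E : x' ∉ closure D' := by
        intro hmem
        have h5 : π x' = π ξ := hEfib hmem
        rw [hx'] at h5
        exact hη (by rw [← h5])
      have hDE : Dc < E :=
        SetLike.coe_ssubset_coe.mp ⟨hDD'.trans subset_closure,
          fun hsub => hne (Set.Subset.antisymm (subset_closure.trans hsub) hDD')⟩
      have hEU : E < Uc :=
        SetLike.coe_ssubset_coe.mp ⟨Set.subset_univ _, fun hsub => hx'E (hsub (Set.mem_univ x'))⟩
      have hADc : A < Dc := SetLike.coe_ssubset_coe.mp hAD
      exact chain A Dc E Uc hADc hDE hEU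

theorem main7919 {R : Type u} [CommRing R] [IsDedekindDomain R]
    (hR : ¬ IsField R) (X : Over (Spec (CommRingCat.of R))) [IsIntegral X.left]
    (hdim : topologicalKrullDim X.left = 2) [Flat X.hom] (hproj : Neron.IsProjectiveOver R X)
    (D : Set X.left) (hD : IsClosed D) (hirr : IsIrreducible D) (hD1 : topologicalKrullDim D = 1) :
    (∃ s : (Spec (CommRingCat.of R) : Scheme.{u}), s.asIdeal.IsMaximal ∧ D ⊆ X.hom.base ⁻¹' {s} ∧
        ∀ D' : Set X.left, IsIrreducible D' → D' ⊆ X.hom.base ⁻¹' {s} → D ⊆ D' → D' = D) ∨
      (∃ x : X.left, (X.hom.base x).asIdeal = ⊥ ∧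
        (∀ z : X.left, (X.hom.base z).asIdeal = ⊥ → x ⤳ z → z = x) ∧ D = closure {x}) := by
  obtain ⟨n, i, hi, hcomp⟩ := hproj
  haveI := hi
  haveI : IsProper X.hom := by
    rw [← hcomp]
    haveI := Groth.Agent.Lib.ProjSpaceProperH4.isProper_toBase n (Spec (CommRingCat.of R))
    infer_instance
  exact core hR (⇑X.hom.base) X.hom.continuous (X.hom.isClosedMap) (Flat.generalizingMap X.hom)
    hdim D hD hirr hD1

end Groth.Agent.Lib.FibSurfDivH4
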