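import Mathlib
import Groth.Prelude
import Groth.Agent.Lib.FibTF2_helper2

/-!
# Fibrewise torsion-free modules, part 3 (helper2, S4832)

* `isConstructible_setOf_tf`: over a Noetherian base the locus `TF` is constructible.
* `main4832`: the fibrewise torsion-free locus is locally constructible.
APPEND-ONLY once landed.
-/

set_option autoImplicit false
set_option maxHeartbeats 1000000
set_option linter.style.haveILetI false
universe u

open CategoryTheory CategoryTheory.Limits AlgebraicGeometry TopologicalSpace Opposite Topology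

namespace Groth.Agent.Lib.FibTF

variable {X S : Scheme.{u}}

/-- Over a Noetherian base, the locus where the fibre module is torsion-free is constructible. -/
theorem isConstructible_setOf_tf [IsNoetherian S] (f : X ⟶ S) [LocallyOfFiniteType f]
    [QuasiCompact f] (F : X.Modules) [F.IsQuasicoherent]
    [SheafOfModules.IsFinitePresentation (R := X.ringCatSheaf) F]
    (hint : ∀ (s : S) (x : ↥(f.fiber s)), IsDomain ((f.fiber s).presheaf.stalk x)) :
    IsConstructible {s : S | TF f F s} := by
  apply Groth.Agent.Lib.ConsPropH7.isConstructible_of_forall_generic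
  intro ξ
  obtain ⟨I, hI⟩ : ∃ I : S.IdealSheafData,
      I = Scheme.IdealSheafData.vanishingIdeal ⟨closure {ξ}, isClosed_closure⟩ := ⟨_, rfl⟩
  obtain ⟨hintg, hgen⟩ : ∃ (_ : IsIntegral I.subscheme),
      I.subschemeι (genericPoint I.subscheme) = ξ := by
    subst hI
    exact CohDevH8.exists_isIntegral_subscheme (closure {ξ}) isClosed_closure ξ rfl
  haveI := hintg
  haveI : IsLocallyNoetherian I.subscheme := LocallyOfFiniteType.isLocallyNoetherian I.subschemeι
  haveI : CompactSpace I.subscheme := QuasiCompact.compactSpace_of_compactSpace I.subschemeι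
  haveI : IsNoetherian I.subscheme := {}
  have hrange : Set.range I.subschemeι = closure {ξ} := by
    rw [Scheme.IdealSheafData.range_subschemeι, hI]
    exact Scheme.IdealSheafData.coe_support_vanishingIdeal _
  obtain ⟨X', f', h1, h2, F', h3, h4, hint', hloc⟩ := transport f F hint I.subschemeι
  haveI := h1
  haveI := h2
  haveI := h3
  haveI := h4
  have key : ∀ (W : Set I.subscheme) (E : Set S), IsOpen W → W.Nonempty →
      (∀ t ∈ W, I.subschemeι t ∈ E) →
      ∃ U : Set S, IsOpen U ∧ ξ ∈ U ∧ U ∩ closure {ξ} ⊆ E := by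
    intro W E hW hWne hWE
    obtain ⟨U, hU, hUW⟩ := I.subschemeι.isClosedEmbedding.isInducing.isOpen_iff.mp hW
    refine ⟨U, hU, ?_, ?_⟩
    · have hη : genericPoint I.subscheme ∈ W :=
        ((genericPoint_spec _).mem_open_set_iff hW).mpr (by simpa using hWne)
      rw [← hgen]
      have : genericPoint I.subscheme ∈ I.subschemeι ⁻¹' U := by rw [hUW]; exact hη
      exact this
    · rintro z ⟨hzU, hzZ⟩
      rw [← hrange] at hzZ
      obtain ⟨t, rfl⟩ := hzZ
      apply hWE
      rw [← hUW]
      exact hzU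
  obtain ⟨V, hVne, hV⟩ := dichotomy f' F' hint'
  rcases hV with h5 | h5
  · obtain ⟨U, hU, hξU, hsub⟩ := key V {s | TF f F s} V.2 hVne
      (fun t ht => (hloc t).mp (h5 t ht))
    exact ⟨U, hU, hξU, Or.inl hsub⟩
  · obtain ⟨U, hU, hξU, hsub⟩ := key V {s | TF f F s}ᶜ V.2 hVne
      (fun t ht hcon => h5 t ht ((hloc t).mpr hcon))
    exact ⟨U, hU, hξU, Or.inr hsub⟩

/-- **S4832.** -/
theorem main4832 (f : X ⟶ S) [IsLocallyNoetherian S]
    [LocallyOfFiniteType f] [QuasiCompact f] (F : X.Modules) [Coh.IsQCoh F] (hF : CohB1.IsFP F)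
    (hint : ∀ (s : S) (x : ↥(f.fiber s)), IsDomain ((f.fiber s).presheaf.stalk x)) :
    Topology.IsLocallyConstructible {s : S | ∀ x : ↥(f.fiber s),
      Submodule.torsion ((f.fiber s).presheaf.stalk x)
        (((Scheme.Modules.pullback (f.fiberι s)).obj F).presheaf.stalk x) = ⊥} := by
  haveI : F.IsQuasicoherent := ‹Coh.IsQCoh F›
  haveI : SheafOfModules.IsFinitePresentation (R := X.ringCatSheaf) F := hF
  have hE : {s : S | ∀ x : ↥(f.fiber s), Submodule.torsion ((f.fiber s).presheaf.stalk x)
      (((Scheme.Modules.pullback (f.fiberι s)).obj F).presheaf.stalk x) = ⊥} =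
      {s : S | TF f F s} := by
    ext s
    exact torsionFree_fiber_iff f F s (hint s)
  rw [hE]
  intro s₀
  obtain ⟨V₀, hV₀, hsV₀⟩ : ∃ V₀ : S.Opens, IsAffineOpen V₀ ∧ s₀ ∈ V₀ := by
    obtain ⟨_, ⟨V₀, hV₀, rfl⟩, hsV₀, -⟩ :=
      S.isBasis_affineOpens.exists_subset_of_mem_open (Set.mem_univ s₀) isOpen_univ
    exact ⟨V₀, hV₀, hsV₀⟩
  refine ⟨V₀, V₀.2.mem_nhds hsV₀, V₀.2, ?_⟩
  haveI : IsAffine V₀.toScheme := hV₀
  haveI : IsNoetherian V₀.toScheme := {}
  obtain ⟨X', f', h1, h2, F', h3, h4, hint', hloc⟩ := transport f F hint V₀.ι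
  haveI := h1
  haveI := h2
  haveI := h3
  haveI := h4
  have hcons := isConstructible_setOf_tf f' F' hint'
  have heq : {t : V₀.toScheme | TF f' F' t} =
      (Subtype.val ⁻¹' {s : S | TF f F s} : Set ↥(V₀ : Set S)) := by
    ext t
    exact hloc t
  have h5 : IsConstructible (Subtype.val ⁻¹' {s : S | TF f F s} : Set ↥(V₀ : Set S)) := by
    rw [← heq]
    exact hcons
  exact h5

end Groth.Agent.Lib.FibTF
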