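import Mathlib
import Groth.Agent.Lib.FiberRank_helper9

/-!
# Constructibility of the colength of the fibrewise annihilator (helper3)
-/

set_option autoImplicit false
universe u
open TensorProduct

namespace Groth.Agent.Lib.FibreAnnRankH3

section fibre

variable {A : Type*} [CommRing A] {S : Type*} [CommRing S] [Algebra A S]
  {Q : Type*} [AddCommGroup Q] [Module A Q] [Module S Q] [IsScalarTower A S Q]

/-- `s ↦ (s • q i)_i` -/
noncomputable def vmap {r : ℕ} (q : Fin r → Q) : S →ₗ[A] (Fin r → Q) :=
  LinearMap.pi fun i => (LinearMap.toSpanSingleton S Q (q i)).restrictScalars A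

lemma vmap_apply {r : ℕ} (q : Fin r → Q) (s : S) (i : Fin r) : vmap (A := A) q s i = s • q i := rfl

variable (κ : Type*) [Field κ] [Algebra A κ]

/-- evaluation of an endomorphism at the `1 ⊗ q i` -/
noncomputable def Psi {r : ℕ} (q : Fin r → Q) :
    Module.End κ (κ ⊗[A] Q) →ₗ[κ] (Fin r → κ ⊗[A] Q) :=
  LinearMap.pi fun i => LinearMap.applyₗ ((1 : κ) ⊗ₜ[A] q i)

lemma Psi_apply {r : ℕ} (q : Fin r → Q) (e : Module.End κ (κ ⊗[A] Q)) (i : Fin r) :
    Psi κ q e i = e ((1 : κ) ⊗ₜ[A] q i) := rfl

lemma Psi_injective {r : ℕ} (q : Fin r → Q) (hq : Submodule.span A (Set.range q) = ⊤) :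
    Function.Injective (Psi (A := A) κ q) := by
  rw [injective_iff_map_eq_zero]
  intro e he
  have h1 : ∀ i, e ((1 : κ) ⊗ₜ[A] q i) = 0 := fun i => by
    have := congrFun he i
    rwa [Psi_apply] at this
  -- `1 ⊗ q i` span
  have h2 : ∀ m : Q, e ((1 : κ) ⊗ₜ[A] m) = 0 := by
    intro m
    have hm : m ∈ Submodule.span A (Set.range q) := hq ▸ Submodule.mem_top
    induction hm using Submodule.span_induction with
    | mem x hx => obtain ⟨i, rfl⟩ := hx; exact h1 i
    | zero => simp
    | add x y _ _ hx hy => rw [TensorProduct.tmul_add, map_add, hx, hy, add_zero]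
    | smul a x _ hx =>
      rw [TensorProduct.tmul_smul, ← algebraMap_smul κ a, map_smul, hx, smul_zero]
  apply LinearMap.ext
  intro z
  have hz : z ∈ Submodule.span κ (Set.range fun m : Q => (1 : κ) ⊗ₜ[A] m) := by
    rw [FiberRank9.span_one_tmul]; exact Submodule.mem_top
  induction hz using Submodule.span_induction with
  | mem x hx => obtain ⟨m, rfl⟩ := hx; exact h2 m
  | zero => simp
  | add x y _ _ hx hy => rw [map_add, hx, hy]; simp
  | smul a x _ hx => rw [map_smul, hx]; simp

lemma range_baseChange_eq_span {M N : Type*} [AddCommGroup M] [Module A M] [AddCommGroup N]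
    [Module A N] (f : M →ₗ[A] N) :
    LinearMap.range (f.baseChange κ) =
      Submodule.span κ (Set.range fun m : M => (1 : κ) ⊗ₜ[A] f m) := by
  rw [← Submodule.map_top, ← FiberRank9.span_one_tmul (A := A) κ M, Submodule.map_span]
  congr 1
  ext z
  constructor
  · rintro ⟨_, ⟨m, rfl⟩, rfl⟩
    exact ⟨m, by simp⟩
  · rintro ⟨m, rfl⟩
    exact ⟨_, ⟨m, rfl⟩, by simp⟩

/-- the span of the multiplication endomorphisms has the rank of `v ⊗ κ`. -/
theorem finrank_span_eq {r : ℕ} (q : Fin r → Q) (hq : Submodule.span A (Set.range q) = ⊤) :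
    Module.finrank κ (Submodule.span κ (Set.range fun s : S =>
      LinearMap.baseChange κ (DistribSMul.toLinearMap A Q s))) =
    Module.finrank κ (LinearMap.range ((vmap (A := A) (S := S) q).baseChange κ)) := by
  set W := Submodule.span κ (Set.range fun s : S =>
      LinearMap.baseChange κ (DistribSMul.toLinearMap A Q s)) with hW
  let θ : κ ⊗[A] (Fin r → Q) ≃ₗ[κ] (Fin r → κ ⊗[A] Q) :=
    TensorProduct.piRight A κ κ (fun _ : Fin r => Q)
  have key : W.map (Psi (A := A) κ q) =
      (LinearMap.range ((vmap (A := A) (S := S) q).baseChange κ)).map θ.toLinearMap := by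
    rw [range_baseChange_eq_span, hW, Submodule.map_span, Submodule.map_span]
    congr 1
    ext z
    constructor
    · rintro ⟨_, ⟨s, rfl⟩, rfl⟩
      refine ⟨_, ⟨s, rfl⟩, ?_⟩
      funext i
      show θ ((1 : κ) ⊗ₜ[A] vmap (A := A) (S := S) q s) i = _
      rw [Psi_apply, LinearMap.baseChange_tmul]
      simp [θ, vmap_apply]
    · rintro ⟨_, ⟨s, rfl⟩, rfl⟩
      refine ⟨_, ⟨s, rfl⟩, ?_⟩
      funext i
      show _ = θ ((1 : κ) ⊗ₜ[A] vmap (A := A) (S := S) q s) i
      rw [Psi_apply, LinearMap.baseChange_tmul]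
      simp [θ, vmap_apply]
  have e1 := (Submodule.equivMapOfInjective _ (Psi_injective κ q hq) W).finrank_eq
  have e2 := (Submodule.equivMapOfInjective _ θ.injective
    (LinearMap.range ((vmap (A := A) (S := S) q).baseChange κ))).finrank_eq
  rw [e1, e2]
  exact congrArg (fun X : Submodule κ (Fin r → κ ⊗[A] Q) => Module.finrank κ X) key

end fibre

section main

variable (A : Type u) [CommRing A] [IsNoetherianRing A]
  (S : Type u) [CommRing S] [Algebra A S]
  (Q : Type u) [AddCommGroup Q] [Module A Q] [Module S Q] [IsScalarTower A S Q]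
  [Module.Finite A Q] [Module.Flat A Q]

theorem main (n : ℕ) :
    Topology.IsConstructible {p : PrimeSpectrum A |
      Module.finrank p.asIdeal.ResidueField
        (Submodule.span p.asIdeal.ResidueField
          (Set.range fun s : S =>
            LinearMap.baseChange p.asIdeal.ResidueField (DistribSMul.toLinearMap A Q s))) = n} := by
  classical
  obtain ⟨r, q, hq⟩ := Module.Finite.exists_fin (R := A) (M := Q)
  set φ : PrimeSpectrum A → ℕ := fun p => Module.finrank p.asIdeal.ResidueField
    (Submodule.span p.asIdeal.ResidueField (Set.range fun s : S =>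
      LinearMap.baseChange p.asIdeal.ResidueField (DistribSMul.toLinearMap A Q s))) with hφ
  let N := Fin r → Q
  let v : S →ₗ[A] N := vmap (A := A) q
  have hkey : ∀ p : PrimeSpectrum A,
      φ p + Module.finrank p.asIdeal.ResidueField
        (p.asIdeal.ResidueField ⊗[A] (N ⧸ LinearMap.range v)) =
      Module.finrank p.asIdeal.ResidueField (p.asIdeal.ResidueField ⊗[A] N) := by
    intro p
    have h1 := finrank_span_eq (A := A) (S := S) p.asIdeal.ResidueField q hq
    have h2 := FiberRank9.finrank_range_baseChange_add p.asIdeal.ResidueField v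
    show Module.finrank _ _ + _ = _
    rw [h1]
    exact h2
  haveI : Module.Flat A N :=
    Module.Flat.of_linearEquiv
      (DFinsupp.linearEquivFunOnFintype (R := A) (M := fun _ : Fin r => Q)).symm
  haveI : Module.FinitePresentation A N := Module.finitePresentation_of_finite A _
  have hlc : IsLocallyConstant (Module.rankAtStalk (R := A) N) :=
    Module.isLocallyConstant_rankAtStalk
  -- lower semicontinuity
  have hopen : ∀ b : ℕ, IsOpen {p : PrimeSpectrum A | b ≤ φ p} := by
    intro b
    rw [isOpen_iff_eventually]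
    intro x hx
    have h1 := FiberRank9.eventually_fiber_le (A := A) (N ⧸ LinearMap.range v) x
    have h3 := hlc.eventually_eq x
    filter_upwards [h1, h3] with y hy1 hy3
    rw [Module.rankAtStalk_eq, Module.rankAtStalk_eq] at hy3
    unfold Ideal.Fiber at hy3
    have ex := hkey x
    have ey := hkey y
    have hx' : b ≤ φ x := hx
    show b ≤ φ y
    omega
  have hretro : ∀ U : Set (PrimeSpectrum A), IsRetrocompact U :=
    fun U V _ _ => TopologicalSpace.NoetherianSpace.isCompact _
  have hcon : ∀ b : ℕ, Topology.IsConstructible {p : PrimeSpectrum A | b ≤ φ p} := fun b =>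
    IsRetrocompact.isConstructible (hopen b) (hretro _)
  have : {p : PrimeSpectrum A | φ p = n} = {p | n ≤ φ p} ∩ {p | n + 1 ≤ φ p}ᶜ := by
    ext p
    simp only [Set.mem_setOf_eq, Set.mem_inter_iff, Set.mem_compl_iff]
    omega
  show Topology.IsConstructible {p : PrimeSpectrum A | φ p = n}
  rw [this]
  exact (hcon n).inter (hcon (n + 1)).compl

end main

end Groth.Agent.Lib.FibreAnnRankH3
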