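import Mathlib
import Groth.Agent.Lib.GeomIrr1_lead

/-!
# Functions vanishing on a fibrewise dense open of `Spec (R ⊗ₖ A)` (helper3)
-/

set_option autoImplicit false

open TensorProduct

namespace Groth.Agent.Lib.FibreDenseH3

universe u

variable {k : Type u} [Field k] {R A : Type u} [CommRing R] [CommRing A] [Algebra k R] [Algebra k A]

section key

variable (𝔠 q : Ideal R) (ℓ : 𝔠 →ₗ[R] R ⧸ q)

/-- `𝔠 ⊗ A → R ⊗ A`. -/
noncomputable def Jmap : (𝔠 ⊗[k] A) →ₗ[k] (R ⊗[k] A) :=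
  LinearMap.rTensor A (𝔠.subtype.restrictScalars k)

/-- `𝔠 ⊗ A → κ ⊗ A`. -/
noncomputable def Lmap : (𝔠 ⊗[k] A) →ₗ[k] ((R ⧸ q) ⊗[k] A) :=
  LinearMap.rTensor A (ℓ.restrictScalars k)

/-- `R ⊗ A → κ ⊗ A`. -/
noncomputable def piA : (R ⊗[k] A) →ₐ[k] ((R ⧸ q) ⊗[k] A) :=
  Algebra.TensorProduct.map (Ideal.Quotient.mkₐ k q) (AlgHom.id k A)

variable (A) in
theorem Jmap_injective : Function.Injective (Jmap (k := k) (A := A) 𝔠) :=
  Module.Flat.rTensor_preserves_injective_linearMap _ (Subtype.val_injective)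

@[simp] theorem Jmap_tmul (c : 𝔠) (a : A) : Jmap (k := k) 𝔠 (c ⊗ₜ a) = (c : R) ⊗ₜ a := rfl

@[simp] theorem Lmap_tmul (c : 𝔠) (a : A) : Lmap (k := k) 𝔠 q ℓ (c ⊗ₜ a) = ℓ c ⊗ₜ a := rfl

theorem key (t : R ⊗[k] A) (y : 𝔠 ⊗[k] A) :
    ∃ z : 𝔠 ⊗[k] A, Jmap 𝔠 z = t * Jmap 𝔠 y ∧ Lmap 𝔠 q ℓ z = piA q t * Lmap 𝔠 q ℓ y := by
  induction t using TensorProduct.induction_on with
  | zero => exact ⟨0, by simp, by simp⟩
  | add t₁ t₂ h₁ h₂ =>
    obtain ⟨z₁, h11, h12⟩ := h₁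
    obtain ⟨z₂, h21, h22⟩ := h₂
    exact ⟨z₁ + z₂, by rw [map_add, h11, h21, add_mul], by rw [map_add, h12, h22, map_add, add_mul]⟩
  | tmul r a =>
    induction y using TensorProduct.induction_on with
    | zero => exact ⟨0, by simp, by simp⟩
    | add y₁ y₂ h₁ h₂ =>
      obtain ⟨z₁, h11, h12⟩ := h₁
      obtain ⟨z₂, h21, h22⟩ := h₂
      exact ⟨z₁ + z₂, by rw [map_add, h11, h21, map_add, mul_add],
        by rw [map_add, h12, h22, map_add, mul_add]⟩
    | tmul c a' =>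
      refine ⟨(r • c) ⊗ₜ (a * a'), ?_, ?_⟩
      · rw [Jmap_tmul, Jmap_tmul, Algebra.TensorProduct.tmul_mul_tmul]
        rfl
      · rw [Lmap_tmul, Lmap_tmul, piA, Algebra.TensorProduct.map_tmul,
          Algebra.TensorProduct.tmul_mul_tmul, map_smul]
        rfl

end key

/-- Main theorem. -/
theorem eq_zero_of_fibrewise [IsAlgClosed k] [IsDomain A]
    (U : TopologicalSpace.Opens (PrimeSpectrum (R ⊗[k] A)))
    (hsurj : ∀ q : PrimeSpectrum R, ∃ P ∈ U,
      PrimeSpectrum.comap (Algebra.TensorProduct.includeLeftRingHom : R →+* R ⊗[k] A) P = q)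
    (f : R ⊗[k] A)
    (hf : ∀ g : R ⊗[k] A, (PrimeSpectrum.basicOpen g : Set (PrimeSpectrum (R ⊗[k] A))) ⊆ U →
      algebraMap (R ⊗[k] A) (Localization.Away g) f = 0) :
    f = 0 := by
  classical
  by_contra hne
  -- coordinates
  let b := Module.Free.chooseBasis k A
  let B := Algebra.TensorProduct.basis R b
  obtain ⟨r, hr⟩ : ∃ r, r = B.repr f := ⟨_, rfl⟩
  let 𝔠 : Ideal R := Ideal.span ((r.support.image r : Finset R) : Set R)
  have hmem : ∀ i, r i ∈ 𝔠 := by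
    intro i
    by_cases hi : i ∈ r.support
    · exact Ideal.subset_span (Finset.mem_coe.mpr (Finset.mem_image_of_mem r hi))
    · rw [Finsupp.notMem_support_iff.mp hi]
      exact zero_mem _
  let yf : 𝔠 ⊗[k] A := ∑ i ∈ r.support, (⟨r i, hmem i⟩ : 𝔠) ⊗ₜ[k] b i
  have hJ : Jmap 𝔠 yf = f := by
    have h1 := B.linearCombination_repr f
    rw [← hr, Finsupp.linearCombination_apply, Finsupp.sum] at h1
    rw [← h1]
    simp only [yf, map_sum, Jmap_tmul]
    apply Finset.sum_congr rfl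
    intro i _
    rw [Algebra.TensorProduct.basis_apply, TensorProduct.smul_tmul', smul_eq_mul, mul_one]
  -- a simple quotient of `𝔠`
  haveI : Module.Finite R 𝔠 := Module.Finite.iff_fg.mpr ⟨_, rfl⟩
  rcases eq_top_or_exists_le_coatom (⊥ : Submodule R 𝔠) with hbot | ⟨H, hH, -⟩
  · apply hne
    rw [← hJ]
    have hz : ∀ i, (⟨r i, hmem i⟩ : 𝔠) = 0 := by
      intro i
      have : (⟨r i, hmem i⟩ : 𝔠) ∈ (⊥ : Submodule R 𝔠) := by rw [hbot]; trivial
      simpa using this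
    simp only [yf, hz, zero_tmul, Finset.sum_const_zero, map_zero]
  haveI hsimple : IsSimpleModule R (𝔠 ⧸ H) := isSimpleModule_iff_isCoatom.mpr hH
  obtain ⟨q, hq, ⟨e⟩⟩ := isSimpleModule_iff_quot_maximal.mp hsimple
  haveI := hq
  let ℓ : 𝔠 →ₗ[R] R ⧸ q := e.toLinearMap ∘ₗ H.mkQ
  have hℓsurj : Function.Surjective ℓ := e.surjective.comp H.mkQ_surjective
  -- some coefficient survives
  have hex : ∃ i₀, ℓ ⟨r i₀, hmem i₀⟩ ≠ 0 := by
    by_contra hall
    push_neg at hall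
    have hzero : ∀ (x : R) (hx : x ∈ 𝔠), ℓ ⟨x, hx⟩ = 0 := by
      intro x hx
      induction hx using Submodule.span_induction with
      | mem x hx =>
        rw [Finset.mem_coe, Finset.mem_image] at hx
        obtain ⟨i, -, rfl⟩ := hx
        exact hall i
      | zero => exact map_zero ℓ
      | add x y hx hy h1 h2 =>
        have : (⟨x + y, add_mem hx hy⟩ : 𝔠) = ⟨x, hx⟩ + ⟨y, hy⟩ := rfl
        rw [this, map_add, h1, h2, add_zero]
      | smul a x hx h1 =>
        have : (⟨a • x, Submodule.smul_mem _ a hx⟩ : 𝔠) = a • ⟨x, hx⟩ := rfl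
        rw [this, map_smul, h1, smul_zero]
    obtain ⟨x, hx⟩ := hℓsurj 1
    rw [hzero x.1 x.2] at hx
    exact zero_ne_one hx
  obtain ⟨i₀, hi₀⟩ := hex
  haveI : IsDomain ((R ⧸ q) ⊗[k] A) :=
    Groth.Agent.Lib.GeomIrr.isDomain_tensor_of_isAlgClosed k (R ⧸ q) A
  -- `φ ≠ 0`
  have hφ : Lmap 𝔠 q ℓ yf ≠ 0 := by
    intro h0
    let B' := Algebra.TensorProduct.basis (R ⧸ q) b
    have h1 := congrArg (fun x => B'.repr x i₀) h0
    simp only [yf, map_sum, Lmap_tmul, Algebra.TensorProduct.basis_repr_tmul, Module.Basis.repr_self,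
      Finsupp.mapRange_single, map_one, Finsupp.smul_single, smul_eq_mul, mul_one, map_zero,
      Finsupp.coe_zero, Pi.zero_apply, B'] at h1
    rw [Finsupp.finset_sum_apply] at h1
    simp only [Finsupp.single_apply] at h1
    rw [Finset.sum_ite_eq'] at h1
    by_cases hi : i₀ ∈ r.support
    · rw [if_pos hi] at h1
      exact hi₀ h1
    · apply hi₀
      have : (⟨r i₀, hmem i₀⟩ : 𝔠) = 0 := by
        apply Subtype.ext
        exact Finsupp.notMem_support_iff.mp hi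
      rw [this, map_zero]
  -- the generic point of the fibre
  let P₀ : PrimeSpectrum (R ⊗[k] A) := ⟨RingHom.ker (piA (k := k) (A := A) q).toRingHom, RingHom.ker_isPrime _⟩
  obtain ⟨P, hPU, hPq⟩ := hsurj ⟨q, hq.isPrime⟩
  have hle : P₀ ≤ P := by
    show RingHom.ker (piA (k := k) (A := A) q).toRingHom ≤ P.asIdeal
    have hker : RingHom.ker (piA (k := k) (A := A) q) =
        (RingHom.ker (Ideal.Quotient.mkₐ k q)).map
          (Algebra.TensorProduct.includeLeft : R →ₐ[k] R ⊗[k] A) :=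
      Algebra.TensorProduct.rTensor_ker _ (Ideal.Quotient.mkₐ_surjective k q)
    intro x hx
    have hx' : x ∈ RingHom.ker (piA (k := k) (A := A) q) := hx
    rw [hker] at hx'
    have hmap : (RingHom.ker (Ideal.Quotient.mkₐ k q)).map
        (Algebra.TensorProduct.includeLeft : R →ₐ[k] R ⊗[k] A) ≤ P.asIdeal := by
      rw [Ideal.map_le_iff_le_comap]
      intro s hs
      have hsq : s ∈ q := by
        rw [← Ideal.Quotient.eq_zero_iff_mem]
        exact hs
      have : s ∈ (PrimeSpectrum.comap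
          (Algebra.TensorProduct.includeLeftRingHom : R →+* R ⊗[k] A) P).asIdeal := by
        rw [hPq]; exact hsq
      exact this
    exact hmap hx'
  have hP₀U : P₀ ∈ U :=
    ((PrimeSpectrum.le_iff_specializes P₀ P).mp hle).mem_open U.isOpen hPU
  obtain ⟨_, ⟨g, rfl⟩, hgP₀, hgU⟩ :=
    PrimeSpectrum.isTopologicalBasis_basic_opens.exists_subset_of_mem_open hP₀U U.isOpen
  have hg0 : piA (k := k) (A := A) q g ≠ 0 := fun h => hgP₀ h
  -- `g ^ N * f = 0`
  have h0 := hf g hgU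
  rw [IsLocalization.map_eq_zero_iff (Submonoid.powers g)] at h0
  obtain ⟨⟨_, N, rfl⟩, hN⟩ := h0
  obtain ⟨z, hz1, hz2⟩ := key 𝔠 q ℓ (g ^ N) yf
  rw [hJ, hN] at hz1
  have hz : z = 0 := Jmap_injective A 𝔠 (by rw [hz1, map_zero])
  rw [hz, map_zero, map_pow] at hz2
  rcases mul_eq_zero.mp hz2.symm with h | h
  · exact hg0 (IsNilpotent.eq_zero ⟨N, h⟩)
  · exact hφ h

end Groth.Agent.Lib.FibreDenseH3
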