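import Mathlib
import Groth.Agent.Lib.FibreDense_helper3

/-!
# Relative Cartier divisors in `R ⊗ₖ A` avoiding points (helper3)
-/

set_option autoImplicit false

open TensorProduct

namespace Groth.Agent.Lib.FibreDenseH3

universe u

variable {k : Type u} [Field k] {R A : Type u} [CommRing R] [CommRing A] [Algebra k R] [Algebra k A]

variable (k R A) in
/-- The `R`-basis of `R ⊗ A` coming from a chosen `k`-basis of `A`. -/
noncomputable def cB : Module.Basis (Module.Free.ChooseBasisIndex k A) R (R ⊗[k] A) :=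
  Algebra.TensorProduct.basis R (Module.Free.chooseBasis k A)

theorem cB_repr_map {R₂ : Type u} [CommRing R₂] [Algebra k R₂] (φ : R →ₐ[k] R₂) (t : R ⊗[k] A)
    (i : Module.Free.ChooseBasisIndex k A) :
    (cB k R₂ A).repr (Algebra.TensorProduct.map φ (AlgHom.id k A) t) i = φ ((cB k R A).repr t i) := by
  induction t using TensorProduct.induction_on with
  | zero => simp
  | add x y hx hy => simp only [map_add, Finsupp.add_apply, hx, hy]
  | tmul r a =>
    simp only [cB, Algebra.TensorProduct.map_tmul, AlgHom.coe_id, id_eq,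
      Algebra.TensorProduct.basis_repr_tmul, Finsupp.smul_apply, Finsupp.mapRange_apply,
      smul_eq_mul, map_mul, AlgHom.commutes]

/-- Lemma A: a nonzero element survives in some closed fibre after a linear functional on its
content ideal. -/
theorem exists_content (y : R ⊗[k] A) (hy : y ≠ 0) :
    ∃ (𝔠 q : Ideal R) (_ : q.IsMaximal) (ℓ : 𝔠 →ₗ[R] R ⧸ q) (yc : 𝔠 ⊗[k] A),
      Jmap 𝔠 yc = y ∧ Lmap 𝔠 q ℓ yc ≠ 0 := by
  classical
  let b := Module.Free.chooseBasis k A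
  let B := Algebra.TensorProduct.basis R b
  obtain ⟨r, hr⟩ : ∃ r, r = B.repr y := ⟨_, rfl⟩
  let 𝔠 : Ideal R := Ideal.span ((r.support.image r : Finset R) : Set R)
  have hmem : ∀ i, r i ∈ 𝔠 := by
    intro i
    by_cases hi : i ∈ r.support
    · exact Ideal.subset_span (Finset.mem_coe.mpr (Finset.mem_image_of_mem r hi))
    · rw [Finsupp.notMem_support_iff.mp hi]
      exact zero_mem _
  let yf : 𝔠 ⊗[k] A := ∑ i ∈ r.support, (⟨r i, hmem i⟩ : 𝔠) ⊗ₜ[k] b i
  have hJ : Jmap 𝔠 yf = y := by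
    have h1 := B.linearCombination_repr y
    rw [← hr, Finsupp.linearCombination_apply, Finsupp.sum] at h1
    rw [← h1]
    simp only [yf, map_sum, Jmap_tmul]
    apply Finset.sum_congr rfl
    intro i _
    rw [Algebra.TensorProduct.basis_apply, TensorProduct.smul_tmul', smul_eq_mul, mul_one]
  haveI : Module.Finite R 𝔠 := Module.Finite.iff_fg.mpr ⟨_, rfl⟩
  rcases eq_top_or_exists_le_coatom (⊥ : Submodule R 𝔠) with hbot | ⟨H, hH, -⟩
  · exfalso
    apply hy
    rw [← hJ]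
    have hz : ∀ i, (⟨r i, hmem i⟩ : 𝔠) = 0 := by
      intro i
      have : (⟨r i, hmem i⟩ : 𝔠) ∈ (⊥ : Submodule R 𝔠) := by rw [hbot]; trivial
      simpa using this
    simp only [yf, hz, zero_tmul, Finset.sum_const_zero, map_zero]
  haveI hsimple : IsSimpleModule R (𝔠 ⧸ H) := isSimpleModule_iff_isCoatom.mpr hH
  obtain ⟨q, hq, ⟨e⟩⟩ := isSimpleModule_iff_quot_maximal.mp hsimple
  haveI := hq
  let ℓ : 𝔠 →ₗ[R] R ⧸ q := e.toLinearMap ∘ₗ H.mkQ
  have hℓsurj : Function.Surjective ℓ := e.surjective.comp H.mkQ_surjective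
  have hex : ∃ i₀, ℓ ⟨r i₀, hmem i₀⟩ ≠ 0 := by
    by_contra hall
    push_neg at hall
    have hzero : ∀ (x : R) (hx : x ∈ 𝔠), ℓ ⟨x, hx⟩ = 0 := by
      intro x hx
      induction hx using Submodule.span_induction with
      | mem x hx =>
        rw [Finset.mem_coe, Finset.mem_image] at hx
        obtain ⟨i, -, rfl⟩ := hx
        exact hall i
      | zero => exact map_zero ℓ
      | add x y hx hy h1 h2 =>
        have : (⟨x + y, add_mem hx hy⟩ : 𝔠) = ⟨x, hx⟩ + ⟨y, hy⟩ := rfl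
        rw [this, map_add, h1, h2, add_zero]
      | smul a x hx h1 =>
        have : (⟨a • x, Submodule.smul_mem _ a hx⟩ : 𝔠) = a • ⟨x, hx⟩ := rfl
        rw [this, map_smul, h1, smul_zero]
    obtain ⟨x, hx⟩ := hℓsurj 1
    rw [hzero x.1 x.2] at hx
    exact zero_ne_one hx
  obtain ⟨i₀, hi₀⟩ := hex
  refine ⟨𝔠, q, hq, ℓ, yf, hJ, ?_⟩
  intro h0
  let B' := Algebra.TensorProduct.basis (R ⧸ q) b
  have h1 := congrArg (fun x => B'.repr x i₀) h0
  simp only [yf, map_sum, Lmap_tmul, Algebra.TensorProduct.basis_repr_tmul, Module.Basis.repr_self,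
    Finsupp.mapRange_single, map_one, Finsupp.smul_single, smul_eq_mul, mul_one, map_zero,
    Finsupp.coe_zero, Pi.zero_apply, B'] at h1
  rw [Finsupp.finset_sum_apply] at h1
  simp only [Finsupp.single_apply] at h1
  rw [Finset.sum_ite_eq'] at h1
  by_cases hi : i₀ ∈ r.support
  · rw [if_pos hi] at h1
    exact hi₀ h1
  · apply hi₀
    have : (⟨r i₀, hmem i₀⟩ : 𝔠) = 0 := by
      apply Subtype.ext
      exact Finsupp.notMem_support_iff.mp hi
    rw [this, map_zero]

/-- Having a unit coefficient. -/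
def HasUnitCoeff (f : R ⊗[k] A) : Prop := ∃ i, IsUnit ((cB k R A).repr f i)

theorem HasUnitCoeff.map {R₂ : Type u} [CommRing R₂] [Algebra k R₂] (φ : R →ₐ[k] R₂)
    {f : R ⊗[k] A} (hf : HasUnitCoeff f) :
    HasUnitCoeff (Algebra.TensorProduct.map φ (AlgHom.id k A) f) := by
  obtain ⟨i, hi⟩ := hf
  exact ⟨i, by rw [cB_repr_map]; exact hi.map φ⟩

theorem HasUnitCoeff.piA_ne_zero {f : R ⊗[k] A} (hf : HasUnitCoeff f) (q : Ideal R)
    (hq : q ≠ ⊤) : piA (k := k) (A := A) q f ≠ 0 := by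
  intro h0
  have := HasUnitCoeff.map (Ideal.Quotient.mkₐ k q) hf
  obtain ⟨i, hi⟩ := this
  have h1 : Algebra.TensorProduct.map (Ideal.Quotient.mkₐ k q) (AlgHom.id k A) f = 0 := h0
  rw [h1, map_zero, Finsupp.zero_apply] at hi
  haveI : Nontrivial (R ⧸ q) := Ideal.Quotient.nontrivial_iff.mpr hq
  exact not_isUnit_zero hi

theorem HasUnitCoeff.mem_nonZeroDivisors [IsAlgClosed k] [IsDomain A] {f : R ⊗[k] A}
    (hf : HasUnitCoeff f) : f ∈ nonZeroDivisors (R ⊗[k] A) := by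
  rw [mem_nonZeroDivisors_iff_right]
  intro y hy
  by_contra hne
  obtain ⟨𝔠, q, hq, ℓ, yc, hJ, hL⟩ := exists_content y hne
  haveI := hq
  haveI : IsDomain ((R ⧸ q) ⊗[k] A) :=
    Groth.Agent.Lib.GeomIrr.isDomain_tensor_of_isAlgClosed k (R ⧸ q) A
  obtain ⟨z, hz1, hz2⟩ := key 𝔠 q ℓ f yc
  rw [hJ, mul_comm, hy] at hz1
  have hz : z = 0 := Jmap_injective A 𝔠 (by rw [hz1, map_zero])
  rw [hz, map_zero] at hz2
  rcases mul_eq_zero.mp hz2.symm with h | h
  · exact hf.piA_ne_zero q hq.ne_top h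
  · exact hL h

theorem mem_map_of_mul_mem [IsAlgClosed k] [IsDomain A] {f : R ⊗[k] A} (hf : HasUnitCoeff f)
    (𝔞 : Ideal R) (t : R ⊗[k] A)
    (h : f * t ∈ 𝔞.map (Algebra.TensorProduct.includeLeft : R →ₐ[k] R ⊗[k] A)) :
    t ∈ 𝔞.map (Algebra.TensorProduct.includeLeft : R →ₐ[k] R ⊗[k] A) := by
  have hker : RingHom.ker (piA (k := k) (A := A) 𝔞) =
      (RingHom.ker (Ideal.Quotient.mkₐ k 𝔞)).map
        (Algebra.TensorProduct.includeLeft : R →ₐ[k] R ⊗[k] A) :=
    Algebra.TensorProduct.rTensor_ker _ (Ideal.Quotient.mkₐ_surjective k 𝔞)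
  have hk2 : RingHom.ker (Ideal.Quotient.mkₐ k 𝔞) = 𝔞 := Ideal.Quotient.mkₐ_ker k 𝔞
  rw [hk2] at hker
  rw [← hker] at h ⊢
  have h1 : piA (k := k) (A := A) 𝔞 f * piA (k := k) (A := A) 𝔞 t = 0 := by
    rw [← map_mul]; exact h
  have h2 := (HasUnitCoeff.map (Ideal.Quotient.mkₐ k 𝔞) hf).mem_nonZeroDivisors
  exact (mem_nonZeroDivisors_iff_right.mp h2) _ (by rw [mul_comm]; exact h1)

theorem HasUnitCoeff.flat_quotient [IsAlgClosed k] [IsDomain A] {f : R ⊗[k] A}
    (hf : HasUnitCoeff f) : Module.Flat R ((R ⊗[k] A) ⧸ Ideal.span {f}) := by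
  classical
  apply Module.Flat.of_forall_isTrivialRelation
  intro l a x hax
  choose t ht using fun i => Ideal.Quotient.mk_surjective (x i)
  -- `∑ aᵢ tᵢ = f * s`
  have hmem : ∑ i, a i • t i ∈ Ideal.span {f} := by
    rw [← Ideal.Quotient.eq_zero_iff_mem, map_sum, ← hax]
    apply Finset.sum_congr rfl
    intro i _
    rw [← ht i]
    rfl
  obtain ⟨s, hs⟩ := Ideal.mem_span_singleton'.mp hmem
  -- `s ∈ 𝔞 T`
  let 𝔞 : Ideal R := Ideal.span (Set.range a)
  have h1 : f * s ∈ 𝔞.map (Algebra.TensorProduct.includeLeft : R →ₐ[k] R ⊗[k] A) := by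
    rw [mul_comm, hs]
    refine Ideal.sum_mem _ fun i _ => ?_
    rw [Algebra.smul_def]
    exact Ideal.mul_mem_right _ _ (Ideal.mem_map_of_mem _ (Ideal.subset_span ⟨i, rfl⟩))
  have h2 := mem_map_of_mul_mem hf 𝔞 s h1
  rw [Ideal.map_span, ← Set.range_comp] at h2
  obtain ⟨c, hc⟩ := (Ideal.mem_span_range_iff_exists_fun).mp h2
  -- relation in the free module
  have hrel : ∑ i, a i • (t i - f * c i) = 0 := by
    simp_rw [smul_sub]
    rw [Finset.sum_sub_distrib, ← hs, ← hc, sub_eq_zero]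
    rw [Finset.sum_mul]
    apply Finset.sum_congr rfl
    intro i _
    simp only [Function.comp_apply, Algebra.smul_def]
    have : (algebraMap R (R ⊗[k] A)) (a i) =
        (Algebra.TensorProduct.includeLeft : R →ₐ[k] R ⊗[k] A) (a i) := rfl
    rw [this]
    ring
  obtain ⟨m, α, y, h3, h4⟩ := Module.Flat.isTrivialRelation_of_sum_smul_eq_zero hrel
  refine ⟨m, α, fun j => Ideal.Quotient.mk _ (y j), ?_, h4⟩
  intro i
  have h5 : x i = Ideal.Quotient.mk (Ideal.span {f}) (t i - f * c i) := by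
    rw [map_sub, ht i]
    have : Ideal.Quotient.mk (Ideal.span {f}) (f * c i) = 0 :=
      Ideal.Quotient.eq_zero_iff_mem.mpr (Ideal.mul_mem_right _ _ (Ideal.mem_span_singleton_self f))
    rw [this, sub_zero]
  have h3' : t i - f * c i = ∑ j, α i j • y j := h3 i
  rw [h5, h3', map_sum]
  apply Finset.sum_congr rfl
  intro j _
  rfl

end Groth.Agent.Lib.FibreDenseH3
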