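import Mathlib
import Groth.Agent.Lib.FibreDense2_helper3

/-!
# Local principal relative Cartier divisors missing finitely many points (helper3)
-/

set_option autoImplicit false

open TensorProduct

namespace Groth.Agent.Lib.FibreDenseH3

universe u

variable {k : Type u} [Field k] {R A : Type u} [CommRing R] [CommRing A] [Algebra k R] [Algebra k A]

/-- The generic point of the fibre over `p` lies in `U`. -/
theorem ker_piA_mem (U : TopologicalSpace.Opens (PrimeSpectrum (R ⊗[k] A)))
    (hsurj : ∀ q : PrimeSpectrum R, ∃ P ∈ U,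
      PrimeSpectrum.comap (Algebra.TensorProduct.includeLeftRingHom : R →+* R ⊗[k] A) P = q)
    (p : PrimeSpectrum R) (P₀ : PrimeSpectrum (R ⊗[k] A))
    (hP₀ : P₀.asIdeal = RingHom.ker (piA (k := k) (A := A) p.asIdeal).toRingHom) : P₀ ∈ U := by
  obtain ⟨P, hPU, hPq⟩ := hsurj p
  have hle : P₀ ≤ P := by
    show P₀.asIdeal ≤ P.asIdeal
    rw [hP₀]
    have hker : RingHom.ker (piA (k := k) (A := A) p.asIdeal) =
        (RingHom.ker (Ideal.Quotient.mkₐ k p.asIdeal)).map
          (Algebra.TensorProduct.includeLeft : R →ₐ[k] R ⊗[k] A) :=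
      Algebra.TensorProduct.rTensor_ker _ (Ideal.Quotient.mkₐ_surjective k p.asIdeal)
    intro x hx
    have hx' : x ∈ RingHom.ker (piA (k := k) (A := A) p.asIdeal) := hx
    rw [hker] at hx'
    have hmap : (RingHom.ker (Ideal.Quotient.mkₐ k p.asIdeal)).map
        (Algebra.TensorProduct.includeLeft : R →ₐ[k] R ⊗[k] A) ≤ P.asIdeal := by
      rw [Ideal.map_le_iff_le_comap]
      intro s hs
      have hsq : s ∈ p.asIdeal := by
        rw [← Ideal.Quotient.eq_zero_iff_mem]
        exact hs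
      have : s ∈ (PrimeSpectrum.comap
          (Algebra.TensorProduct.includeLeftRingHom : R →+* R ⊗[k] A) P).asIdeal := by
        rw [hPq]; exact hsq
      exact this
    exact hmap hx'
  exact ((PrimeSpectrum.le_iff_specializes P₀ P).mp hle).mem_open U.isOpen hPU

set_option maxHeartbeats 800000 in
theorem cartier_avoid [IsAlgClosed k] [IsDomain A] (Z : Finset (A →ₐ[k] k))
    (U : TopologicalSpace.Opens (PrimeSpectrum (R ⊗[k] A)))
    (hZ : ∀ z ∈ Z, ∀ q : PrimeSpectrum R,
      PrimeSpectrum.comap (Algebra.TensorProduct.lift (AlgHom.id k R) ((Algebra.ofId k R).comp z)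
        (fun _ _ => Commute.all _ _)).toRingHom q ∈ U)
    (hsurj : ∀ q : PrimeSpectrum R, ∃ P ∈ U,
      PrimeSpectrum.comap (Algebra.TensorProduct.includeLeftRingHom : R →+* R ⊗[k] A) P = q)
    (p : PrimeSpectrum R) :
    ∃ r : R, r ∉ p.asIdeal ∧
      ∃ f : (Localization.Away r) ⊗[k] A,
        f ∈ nonZeroDivisors ((Localization.Away r) ⊗[k] A) ∧
        Module.Flat (Localization.Away r)
          (((Localization.Away r) ⊗[k] A) ⧸ Ideal.span {f}) ∧
        (∀ z ∈ Z, IsUnit (Algebra.TensorProduct.lift (AlgHom.id k (Localization.Away r))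
          ((Algebra.ofId k (Localization.Away r)).comp z) (fun _ _ => Commute.all _ _) f)) ∧
        (∀ P : PrimeSpectrum ((Localization.Away r) ⊗[k] A), f ∉ P.asIdeal →
          PrimeSpectrum.comap (Algebra.TensorProduct.map
            (IsScalarTower.toAlgHom k R (Localization.Away r)) (AlgHom.id k A)).toRingHom P ∈ U) := by
  classical
  haveI := p.isPrime
  haveI : IsDomain ((R ⧸ p.asIdeal) ⊗[k] A) :=
    Groth.Agent.Lib.GeomIrr.isDomain_tensor_of_isAlgClosed k (R ⧸ p.asIdeal) A
  let P₀ : PrimeSpectrum (R ⊗[k] A) :=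
    ⟨RingHom.ker (piA (k := k) (A := A) p.asIdeal).toRingHom, RingHom.ker_isPrime _⟩
  have hP₀U : P₀ ∈ U := ker_piA_mem U hsurj p P₀ rfl
  let ev : (A →ₐ[k] k) → ((R ⊗[k] A) →ₐ[k] R) := fun z =>
    Algebra.TensorProduct.lift (AlgHom.id k R) ((Algebra.ofId k R).comp z) (fun _ _ => Commute.all _ _)
  let Pz : (A →ₐ[k] k) → PrimeSpectrum (R ⊗[k] A) := fun z =>
    PrimeSpectrum.comap (ev z).toRingHom p
  let 𝔘 : Ideal (R ⊗[k] A) :=
    PrimeSpectrum.vanishingIdeal ((U : Set (PrimeSpectrum (R ⊗[k] A)))ᶜ)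
  have hU1 : ∀ P ∈ U, ¬ 𝔘 ≤ P.asIdeal := by
    intro P hP hle
    have h1 : P ∈ PrimeSpectrum.zeroLocus (𝔘 : Set (R ⊗[k] A)) := hle
    rw [PrimeSpectrum.zeroLocus_vanishingIdeal_eq_closure,
      (isClosed_compl_iff.mpr U.isOpen).closure_eq] at h1
    exact h1 hP
  have hU2 : ∀ x ∈ 𝔘, ∀ P : PrimeSpectrum (R ⊗[k] A), x ∉ P.asIdeal → P ∈ U := by
    intro x hx P hxP
    by_contra hPU
    exact hxP ((PrimeSpectrum.mem_vanishingIdeal _ _).mp hx P hPU)
  let F : Option (A →ₐ[k] k) → Ideal (R ⊗[k] A) := fun o =>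
    o.elim P₀.asIdeal (fun z => (Pz z).asIdeal)
  let s : Finset (Option (A →ₐ[k] k)) := insert none (Z.image some)
  have hav : ¬ ((𝔘 : Set (R ⊗[k] A)) ⊆ ⋃ i ∈ (s : Set (Option (A →ₐ[k] k))), F i) := by
    rw [Ideal.subset_union_prime none none (fun i _ _ _ => by
      cases i with
      | none => exact P₀.isPrime
      | some z => exact (Pz z).isPrime)]
    rintro ⟨i, hi, hle⟩
    cases i with
    | none => exact hU1 P₀ hP₀U hle
    | some z =>
      have hz : z ∈ Z := by simpa [s] using hi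
      exact hU1 (Pz z) (hZ z hz p) hle
  obtain ⟨f, hf𝔘, hfn⟩ := Set.not_subset.mp hav
  have hf0 : f ∉ P₀.asIdeal := fun h =>
    hfn (Set.mem_biUnion (show none ∈ (s : Set (Option (A →ₐ[k] k))) by simp [s]) h)
  have hfz : ∀ z ∈ Z, ev z f ∉ p.asIdeal := fun z hz h =>
    hfn (Set.mem_biUnion (show some z ∈ (s : Set (Option (A →ₐ[k] k))) by simp [s, hz]) h)
  obtain ⟨i₀, hi₀⟩ : ∃ i₀, (cB k R A).repr f i₀ ∉ p.asIdeal := by
    by_contra hall
    push_neg at hall
    apply hf0
    show piA (k := k) (A := A) p.asIdeal f = 0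
    have := (cB k R A).linearCombination_repr f
    rw [← this, Finsupp.linearCombination_apply, Finsupp.sum, map_sum]
    apply Finset.sum_eq_zero
    intro i _
    rw [cB, Algebra.TensorProduct.basis_apply, TensorProduct.smul_tmul', smul_eq_mul, mul_one, piA,
      Algebra.TensorProduct.map_tmul]
    have : Ideal.Quotient.mkₐ k p.asIdeal ((Algebra.TensorProduct.basis R
        (Module.Free.chooseBasis k A)).repr f i) = 0 :=
      Ideal.Quotient.eq_zero_iff_mem.mpr (hall i)
    rw [this, zero_tmul]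
  let r : R := (cB k R A).repr f i₀ * ∏ z ∈ Z, ev z f
  have hr : r ∉ p.asIdeal := by
    intro h
    rcases (Ideal.IsPrime.mem_or_mem inferInstance h) with h | h
    · exact hi₀ h
    · obtain ⟨z, hz, hz'⟩ := Ideal.IsPrime.prod_mem_iff.mp h
      exact hfz z hz hz'
  refine ⟨r, hr, ?_⟩
  let φ : R →ₐ[k] Localization.Away r := IsScalarTower.toAlgHom k R (Localization.Away r)
  have hφr : IsUnit (φ r) := IsLocalization.Away.algebraMap_isUnit r
  let ψ : (R ⊗[k] A) →ₐ[k] (Localization.Away r) ⊗[k] A :=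
    Algebra.TensorProduct.map φ (AlgHom.id k A)
  have hunit : HasUnitCoeff (ψ f) :=
    ⟨i₀, by
      rw [cB_repr_map]
      exact isUnit_of_dvd_unit (map_dvd φ (Dvd.intro _ rfl)) hφr⟩
  refine ⟨ψ f, hunit.mem_nonZeroDivisors, hunit.flat_quotient, ?_, ?_⟩
  · intro z hz
    have hnat : ∀ t : R ⊗[k] A,
        Algebra.TensorProduct.lift (AlgHom.id k (Localization.Away r))
          ((Algebra.ofId k (Localization.Away r)).comp z) (fun _ _ => Commute.all _ _) (ψ t) =
        φ (ev z t) := by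
      intro t
      induction t using TensorProduct.induction_on with
      | zero => simp
      | add x y hx hy => simp only [map_add, hx, hy]
      | tmul a b =>
        simp only [ψ, ev, Algebra.TensorProduct.map_tmul, Algebra.TensorProduct.lift_tmul,
          AlgHom.coe_id, id_eq, AlgHom.comp_apply, Algebra.ofId_apply, map_mul, AlgHom.commutes]
    rw [hnat]
    refine isUnit_of_dvd_unit (map_dvd φ ?_) hφr
    exact Dvd.dvd.mul_left (Finset.dvd_prod_of_mem (fun z => ev z f) hz) _
  · intro P hP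
    exact hU2 f hf𝔘 _ (fun h => hP h)

end Groth.Agent.Lib.FibreDenseH3
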