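import Groth.Agent.Lib.GeomRedFibreTFAE_helper7
import Groth.Agent.Lib.AlgSpGor_helper7
import Groth.Agent.Lib.AlgSpEpi_helper7
import Groth.Agent.Lib.AlgSpLocP3_helper7
import Groth.Agent.Lib.AlgSpNoethDesc_helper7
import Groth.Agent.Lib.EtaleField_helper4
import Groth.Agent.Lib.GeomIrrSch_helper4

/-!
# Locally Noetherian fibres of a morphism of algebraic spaces: independence of the representative
(helper7)
-/

set_option autoImplicit false
set_option linter.style.haveILetI false
universe u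
open CategoryTheory CategoryTheory.Limits AlgebraicGeometry Opposite

namespace Groth.Agent.Lib.FibreLocNoethH7

open AlgSp Groth.Agent.Lib.AlgSpPoints_helper7 Groth.Agent.Lib.AlgSpPullback_helper7
  Groth.Agent.Lib.AlgSpLocP_helper7 Groth.Agent.Lib.AlgSpQC_helper7
  Groth.Agent.Lib.GeomFibreBC Groth.Agent.Lib.GeomRedFibreTFAEH7
  Groth.Agent.Lib.AlgSpGorH7 Groth.Agent.Lib.AlgSpEpi_helper7
  Groth.Agent.Lib.AlgSpLocP3_helper7 Groth.Agent.Lib.AlgSpNoethDesc_helper7
  Groth.Agent.Lib.GeomIrrSchH4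

variable {S : Scheme.{u}}

theorem universallyOpen_specMap_field {L Ω : Type u} [Field L] [Field Ω] (ψ : L →+* Ω) :
    UniversallyOpen (Spec.map (CommRingCat.ofHom ψ)) := by
  letI := ψ.toAlgebra
  exact universallyOpen_specMap (k := L) Ω

/-- Morphisms between spectra of fields are flat, surjective and universally open. -/
theorem field_mor_props {K L : Type u} [Field K] [Field L]
    (m : Spec (CommRingCat.of K) ⟶ Spec (CommRingCat.of L)) :
    Flat m ∧ Surjective m ∧ UniversallyOpen m := by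
  rw [← Spec.map_preimage m]
  exact ⟨flat_specMap_field (Spec.preimage m).hom, surjective_specMap_field (Spec.preimage m).hom,
    universallyOpen_specMap_field (Spec.preimage m).hom⟩

/-- Locally Noetherian descends along representable flat surjective universally open
morphisms. -/
theorem isLocNoethSp_descend {X Y : Sp S} (hY : IsAlgSpace Y) (g : X ⟶ Y)
    (hfl : RepWith @Flat g) (hs : RepWith @Surjective g) (ho : RepWith @UniversallyOpen g)
    (h : IsLocNoethSp X) : IsLocNoethSp Y := by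
  obtain ⟨V, q, hqe, hqs⟩ := hY.atlas
  have sq := hfl.rep.isPullback q
  haveI : Flat (hfl.rep.snd q).left := hfl.property q _ _ sq
  haveI : Surjective (hfl.rep.snd q).left := hs.property q _ _ sq
  haveI : UniversallyOpen (hfl.rep.snd q).left := ho.property q _ _ sq
  have hfe : RepWith @Etale (hfl.rep.fst q) := repWith_fst_of_isPullback _ sq hqe
  haveI : IsLocallyNoetherian (hfl.rep.pullback q).left := locNoeth_of_etale_chart h _ hfe
  exact ⟨V, q, hqe, hqs, isLocallyNoetherian_of_flat_of_surjective (hfl.rep.snd q).left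
    (hfl.rep.snd q).left.isOpenMap⟩

/-- Descent of local Noetherianity of the fibre along a flat surjective universally open change
of the base point. -/
theorem locNoeth_fibre_descend {X Y : Sp S} (hX : IsAlgSpace X) (hY : IsAlgSpace Y) (f : X ⟶ Y)
    {T T' : Over S} (c : T' ⟶ T) [Flat c.left] [Surjective c.left] [UniversallyOpen c.left]
    (t : (yon S).obj T ⟶ Y) (t' : (yon S).obj T' ⟶ Y) (ht : t' = (yon S).map c ≫ t)
    {P P' : Sp S} {a : P ⟶ X} {b : P ⟶ (yon S).obj T} (sq : IsPullback a b f t)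
    {a' : P' ⟶ X} {b' : P' ⟶ (yon S).obj T'} (sq' : IsPullback a' b' f t')
    (h : IsLocNoethSp P') : IsLocNoethSp P := by
  subst ht
  have hP : IsAlgSpace P := isAlgSpace_of_isPullback hY.diag hX (IsAlgSpace.yon_obj T) sq
  have hw : a' ≫ f = (b' ≫ (yon S).map c) ≫ t := by rw [Category.assoc]; exact sq'.w
  let g : P' ⟶ P := sq.lift a' (b' ≫ (yon S).map c) hw
  have hg1 : g ≫ a = a' := sq.lift_fst _ _ _
  have hg2 : g ≫ b = b' ≫ (yon S).map c := sq.lift_snd _ _ _
  have sqg : IsPullback g b' b ((yon S).map c) := by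
    refine IsPullback.of_right ?_ hg2 sq
    rw [hg1]
    exact sq'
  exact isLocNoethSp_descend hP g
    (repWith_fst_of_isPullback _ sqg ((repWith_yon_map_iff @Flat c).2 inferInstance))
    (repWith_fst_of_isPullback _ sqg ((repWith_yon_map_iff @Surjective c).2 inferInstance))
    (repWith_fst_of_isPullback _ sqg ((repWith_yon_map_iff @UniversallyOpen c).2 inferInstance)) h

/-- A field-valued point in the class of a monomorphic one factors through it. -/
theorem exists_factor_of_mono {Y : Sp S} (hY : IsAlgSpace Y) (p p₀ : FieldPt Y)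
    (hpp : Points.mk p = Points.mk p₀) [Mono p₀.toHom] :
    ∃ c : p.pt ⟶ p₀.pt, (yon S).map c ≫ p₀.toHom = p.toHom := by
  obtain ⟨Ω, _, w, α, β, hαβ⟩ := (rel_iff p p₀).1 (Points.mk_eq_mk_iff.1 hpp)
  have sq := IsPullback.of_hasPullback p.toHom p₀.toHom
  have hP : IsAlgSpace (pullback p.toHom p₀.toHom) :=
    isAlgSpace_of_isPullback hY.diag (IsAlgSpace.yon_obj _) (IsAlgSpace.yon_obj _) sq
  have hne : Nonempty (Points (pullback p.toHom p₀.toHom)) :=
    ⟨Points.mk (ofHom (pullback.lift ((yon S).map α) ((yon S).map β) hαβ))⟩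
  haveI := isIso_of_mono_to_field p.str hP (pullback.fst p.toHom p₀.toHom) hne
  obtain ⟨c, hc⟩ := (yon S).map_surjective
    (inv (pullback.fst p.toHom p₀.toHom) ≫ pullback.snd p.toHom p₀.toHom)
  refine ⟨c, ?_⟩
  rw [hc, Category.assoc, ← pullback.condition, IsIso.inv_hom_id_assoc]

theorem main10804 (X Y : AlgSp.Space S) (f : X ⟶ Y)
    (p p₀ : AlgSp.FieldPt Y.obj) (hpp : AlgSp.Points.mk p = AlgSp.Points.mk p₀) (hmono : Mono p₀.toHom)
    (hNoeth : ∀ ⦃P : AlgSp.Sp S⦄ (fst : P ⟶ X.obj) (snd : P ⟶ (AlgSp.yon S).obj p.pt),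
      IsPullback fst snd f.hom p.toHom → AlgSp.IsLocNoethSp P)
    {Q : AlgSp.Sp S} (qfst : Q ⟶ X.obj) (qsnd : Q ⟶ (AlgSp.yon S).obj p₀.pt)
    (hQ : IsPullback qfst qsnd f.hom p₀.toHom) :
    AlgSp.IsLocNoethSp Q := by
  haveI := hmono
  obtain ⟨c, hc⟩ := exists_factor_of_mono Y.property p p₀ hpp
  have sqP := IsPullback.of_hasPullback f.hom p.toHom
  have hPn := hNoeth _ _ sqP
  obtain ⟨h1, h2, h3⟩ := field_mor_props (K := p.K) (L := p₀.K) c.left
  haveI := h1
  haveI := h2
  haveI := h3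
  exact locNoeth_fibre_descend X.property Y.property f.hom c p₀.toHom p.toHom hc.symm hQ sqP hPn

theorem main10803 (X Y : AlgSp.Space S) (f : X ⟶ Y)
    (y : AlgSp.Points Y.obj) (p : AlgSp.FieldPt Y.obj) (hp : AlgSp.Points.mk p = y)
    (hNoeth : ∀ ⦃P : AlgSp.Sp S⦄ (fst : P ⟶ X.obj) (snd : P ⟶ (AlgSp.yon S).obj p.pt),
      IsPullback fst snd f.hom p.toHom → AlgSp.IsLocNoethSp P)
    (V : Over S) (b : (AlgSp.yon S).obj V ⟶ Y.obj) (hb : AlgSp.RepWith @Etale b) (v : ↥V.left)
    (hv : AlgSp.Points.ofPt b v = y)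
    {Q : AlgSp.Sp S} (qfst : Q ⟶ X.obj) (qsnd : Q ⟶ (AlgSp.yon S).obj (AlgSp.FieldPt.ofPt b v).pt)
    (hQ : IsPullback qfst qsnd f.hom (AlgSp.FieldPt.ofPt b v).toHom) :
    AlgSp.IsLocNoethSp Q := by
  obtain ⟨E, φ, σ, sqE, hσ⟩ : ∃ (E : Over S) (φ : E ⟶ V) (σ : E ⟶ p.pt),
      IsPullback ((yon S).map φ) ((yon S).map σ) b p.toHom ∧ Etale σ.left :=
    ⟨_, _, _, hb.rep.isPullback' p.toHom, hb.property_snd p.toHom⟩
  haveI := hσ
  have h0 : Points.ofPt b v = Points.ofPt p.toHom (IsLocalRing.closedPoint p.K) := by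
    rw [hv, ← hp, Points.ofPt_toHom]
  obtain ⟨e, he1, -⟩ := exists_ofPt_eq_of_isPullback sqE v _ h0
  subst he1
  -- the residue field point of `E` at `e`
  let Ee : Over S := Over.mk (E.left.fromSpecResidueField e ≫ E.hom)
  let ie : Ee ⟶ E := Over.homMk (E.left.fromSpecResidueField e) rfl
  let m1 : Ee ⟶ p.pt := ie ≫ σ
  haveI : IsOpenImmersion (E.left.fromSpecResidueField e) :=
    Groth.Agent.Lib.EtaleFieldH4.isOpenImmersion_fromSpecResidueField p.K σ.left e
  haveI : LocallyOfFiniteType m1.left := by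
    show LocallyOfFiniteType (E.left.fromSpecResidueField e ≫ σ.left)
    infer_instance
  let m2 : Ee ⟶ (FieldPt.ofPt b (φ.left e)).pt :=
    Over.homMk (Spec.map (φ.left.residueFieldMap e)) (by
      show Spec.map (φ.left.residueFieldMap e) ≫
        (V.left.fromSpecResidueField (φ.left e) ≫ V.hom) = E.left.fromSpecResidueField e ≫ E.hom
      rw [← Category.assoc, Scheme.Hom.SpecMap_residueFieldMap_fromSpecResidueField,
        Category.assoc, Over.w φ])
  have hm2 : m2 ≫ (Over.homMk (V.left.fromSpecResidueField (φ.left e)) rfl :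
      (FieldPt.ofPt b (φ.left e)).pt ⟶ V) = ie ≫ φ :=
    Over.OverMorphism.ext (by
      show Spec.map (φ.left.residueFieldMap e) ≫ V.left.fromSpecResidueField (φ.left e) =
        E.left.fromSpecResidueField e ≫ φ.left
      exact Scheme.Hom.SpecMap_residueFieldMap_fromSpecResidueField φ.left e)
  have hleg : (yon S).map m1 ≫ p.toHom =
      (yon S).map m2 ≫ (FieldPt.ofPt b (φ.left e)).toHom := by
    have e1 : (yon S).map m2 ≫ (FieldPt.ofPt b (φ.left e)).toHom = (yon S).map (ie ≫ φ) ≫ b := by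
      rw [FieldPt.toHom_ofPt, ← Category.assoc, ← Functor.map_comp, hm2]
    have e2 : (yon S).map m1 ≫ p.toHom = (yon S).map (ie ≫ φ) ≫ b := by
      show (yon S).map (ie ≫ σ) ≫ p.toHom = _
      rw [Functor.map_comp, Functor.map_comp, Category.assoc, Category.assoc, sqE.w]
    rw [e1, e2]
  -- the fibre over `p` and over the residue field point
  have sqP := IsPullback.of_hasPullback f.hom p.toHom
  have hPn := hNoeth _ _ sqP
  have hP1 : IsAlgSpace (pullback f.hom p.toHom) :=
    isAlgSpace_of_isPullback Y.property.diag X.property (IsAlgSpace.yon_obj _) sqP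
  have sqP2 := IsPullback.of_hasPullback f.hom ((yon S).map m1 ≫ p.toHom)
  have hP2 : IsAlgSpace (pullback f.hom ((yon S).map m1 ≫ p.toHom)) :=
    isAlgSpace_of_isPullback Y.property.diag X.property (IsAlgSpace.yon_obj _) sqP2
  have hw : pullback.fst f.hom ((yon S).map m1 ≫ p.toHom) ≫ f.hom =
      (pullback.snd f.hom ((yon S).map m1 ≫ p.toHom) ≫ (yon S).map m1) ≫ p.toHom := by
    rw [Category.assoc]; exact sqP2.w
  let g1 : pullback f.hom ((yon S).map m1 ≫ p.toHom) ⟶ pullback f.hom p.toHom :=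
    sqP.lift _ _ hw
  have hg1 : g1 ≫ pullback.fst f.hom p.toHom = pullback.fst f.hom ((yon S).map m1 ≫ p.toHom) :=
    sqP.lift_fst _ _ _
  have hg2 : g1 ≫ pullback.snd f.hom p.toHom =
      pullback.snd f.hom ((yon S).map m1 ≫ p.toHom) ≫ (yon S).map m1 := sqP.lift_snd _ _ _
  have sqg : IsPullback g1 (pullback.snd f.hom ((yon S).map m1 ≫ p.toHom))
      (pullback.snd f.hom p.toHom) ((yon S).map m1) := by
    refine IsPullback.of_right ?_ hg2 sqP
    rw [hg1]
    exact sqP2
  have hg1lft : RepWith @LocallyOfFiniteType g1 :=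
    repWith_fst_of_isPullback _ sqg ((repWith_yon_map_iff @LocallyOfFiniteType m1).2 inferInstance)
  have hP2n : IsLocNoethSp (pullback f.hom ((yon S).map m1 ≫ p.toHom)) :=
    isLocNoethSp_of_locP hP2 hP1.diag g1
      (locP_of_repWith @LocallyOfFiniteType (fun _ _ g hg => inferInstance) _ hg1lft) hPn
  obtain ⟨h1, h2, h3⟩ := field_mor_props (K := ↥(E.left.residueField e))
    (L := ↥(V.left.residueField (φ.left e))) m2.left
  haveI : Flat m2.left := h1
  haveI : Surjective m2.left := h2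
  haveI : UniversallyOpen m2.left := h3
  exact locNoeth_fibre_descend X.property Y.property f.hom m2 (FieldPt.ofPt b (φ.left e)).toHom
    ((yon S).map m1 ≫ p.toHom) hleg hQ sqP2 hP2n

end Groth.Agent.Lib.FibreLocNoethH7
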