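import Mathlib
import Groth.Agent.Lib.IntegralHeight_helper5

/-!
# Noether normalisation of a fibre, with coordinates from the total space (helper3)
-/

open TensorProduct

namespace Groth.Agent.Lib.FibreNoetherH3

universe u

theorem main (A B : Type u) [CommRing A] [CommRing B] [Algebra A B] [Algebra.FiniteType A B]
    (p : Ideal A) [p.IsPrime] (d : ℕ) (hd : ringKrullDim (p.ResidueField ⊗[A] B) = d) :
    ∃ π : MvPolynomial (Fin d) A →ₐ[A] B,
      (Algebra.TensorProduct.map (AlgHom.id p.ResidueField p.ResidueField) π).toRingHom.Finite := by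
  classical
  let K := p.ResidueField
  let F := K ⊗[A] B
  haveI : Nontrivial F := by
    by_contra h
    rw [not_nontrivial_iff_subsingleton] at h
    have h2 := ringKrullDim_eq_bot_of_subsingleton (R := F)
    rw [hd] at h2
    exact WithBot.coe_ne_bot h2
  haveI : Algebra.FiniteType K F := inferInstance
  obtain ⟨s, g, ginj, gfin⟩ := exists_finite_inj_algHom_of_fg K F
  have hsd : s = d := by
    letI := g.toRingHom.toAlgebra
    haveI : Algebra.IsIntegral (MvPolynomial (Fin s) K) F := by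
      haveI : Module.Finite (MvPolynomial (Fin s) K) F := gfin
      infer_instance
    have h1 := Groth.Agent.IntegralHeight.ringKrullDim_eq_of_isIntegral_of_injective
      (MvPolynomial (Fin s) K) F ginj
    rw [hd, MvPolynomial.ringKrullDim_of_isNoetherianRing, ringKrullDim_eq_zero_of_field,
      zero_add, Nat.card_fin] at h1
    exact_mod_cast h1.symm
  subst hsd
  have hden : ∀ i : Fin s, ∃ a : A, a ∉ p ∧ ∃ b : B,
      a • g (MvPolynomial.X i) = (1 : K) ⊗ₜ[A] b :=
    fun i => Ideal.Fiber.exists_smul_eq_one_tmul p _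
  choose a ha b hb using hden
  let a₀ : A := ∏ i, a i
  have ha₀ : a₀ ∉ p := by
    intro h
    obtain ⟨i, -, hi⟩ := Ideal.IsPrime.prod_mem_iff.1 h
    exact ha i hi
  let b' : Fin s → B := fun i => (∏ j ∈ Finset.univ.erase i, a j) • b i
  have hb' : ∀ i, a₀ • g (MvPolynomial.X i) = (1 : K) ⊗ₜ[A] b' i := by
    intro i
    have h1 : a₀ = (∏ j ∈ Finset.univ.erase i, a j) * a i :=
      (Finset.prod_erase_mul _ _ (Finset.mem_univ i)).symm
    rw [h1, mul_smul, hb i, TensorProduct.tmul_smul]
  let π : MvPolynomial (Fin s) A →ₐ[A] B := MvPolynomial.aeval b'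
  refine ⟨π, ?_⟩
  let u : K := algebraMap A K a₀
  have hu : u ≠ 0 := by
    rw [Ne, Ideal.algebraMap_residueField_eq_zero]; exact ha₀
  let ψ : MvPolynomial (Fin s) K →ₐ[K] K ⊗[A] MvPolynomial (Fin s) A :=
    MvPolynomial.aeval (fun i => u⁻¹ ⊗ₜ[A] MvPolynomial.X i)
  let M := Algebra.TensorProduct.map (AlgHom.id K K) π
  have hcomp : M.comp ψ = g := by
    apply MvPolynomial.algHom_ext
    intro i
    have e1 : (M.comp ψ) (MvPolynomial.X i) = u⁻¹ ⊗ₜ[A] b' i := by
      simp [ψ, M, π]
    rw [e1]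
    have e2 : u⁻¹ ⊗ₜ[A] b' i = u⁻¹ • ((1 : K) ⊗ₜ[A] b' i) := by
      rw [TensorProduct.smul_tmul', smul_eq_mul, mul_one]
    rw [e2, ← hb' i, ← algebraMap_smul K a₀ (g (MvPolynomial.X i)), smul_smul,
      inv_mul_cancel₀ hu, one_smul]
  have hfin : (M.toRingHom.comp ψ.toRingHom).Finite := by
    have e : M.toRingHom.comp ψ.toRingHom = g.toRingHom := by rw [← hcomp]; rfl
    rw [e]; exact gfin
  exact RingHom.Finite.of_comp_finite hfin

end Groth.Agent.Lib.FibreNoetherH3
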