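import Mathlib
import Groth.Agent.Lib.Cartier_helper3
import Groth.Agent.Lib.DimFT_helper8
import Groth.Agent.Lib.DimIneq_helper8

/-!
# Fibre ranks of finite modules and of Kähler differentials (helper6)

* `finrank_fibre_le_of_le`: for a finite module `M` and primes `q ≤ P`,
  `dim_{κ(q)} κ(q) ⊗ M ≤ dim_{κ(P)} κ(P) ⊗ M` (upper semicontinuity of the fibre rank).
* `le_finrank_fibre_kaehler`: `A` of finite type over a field `k`, `q ≤ P` primes with
  `dim A/q ≥ n`; then `dim_{κ(P)} κ(P) ⊗ Ω_{A/k} ≥ n`.
-/

set_option autoImplicit false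
set_option maxHeartbeats 400000
universe u
open TensorProduct

namespace Groth.Agent.Lib.FibreRank_helper6

theorem finrank_fibre_le_of_le (A : Type u) [CommRing A] (M : Type u) [AddCommGroup M] [Module A M]
    [Module.Finite A M] (q P : Ideal A) [q.IsPrime] [P.IsPrime] (h : q ≤ P) :
    Module.finrank q.ResidueField (q.ResidueField ⊗[A] M) ≤
      Module.finrank P.ResidueField (P.ResidueField ⊗[A] M) := by
  have hunit : ∀ y : P.primeCompl, IsUnit (algebraMap A q.ResidueField y) := by
    intro y
    rw [isUnit_iff_ne_zero]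
    intro h0
    exact y.2 (h (Ideal.algebraMap_residueField_eq_zero.mp h0))
  let φ : Localization.AtPrime P →+* q.ResidueField :=
    IsLocalization.lift (M := P.primeCompl) (g := algebraMap A q.ResidueField) hunit
  letI : Algebra (Localization.AtPrime P) q.ResidueField := φ.toAlgebra
  haveI : IsScalarTower A (Localization.AtPrime P) q.ResidueField :=
    IsScalarTower.of_algebraMap_eq (fun x => (IsLocalization.lift_eq hunit x).symm)
  have fg : (⊤ : Submodule (Localization.AtPrime P) (Localization.AtPrime P ⊗[A] M)).FG :=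
    Module.Finite.fg_top
  let e2 : q.ResidueField ⊗[Localization.AtPrime P]
      (⊤ : Submodule (Localization.AtPrime P) (Localization.AtPrime P ⊗[A] M)) ≃ₗ[q.ResidueField]
      q.ResidueField ⊗[A] M :=
    (TensorProduct.AlgebraTensorModule.congr (LinearEquiv.refl q.ResidueField q.ResidueField)
      (Submodule.topEquiv)).trans
      (TensorProduct.AlgebraTensorModule.cancelBaseChange A (Localization.AtPrime P)
        q.ResidueField q.ResidueField M)
  let e1 : P.ResidueField ⊗[Localization.AtPrime P]
      (⊤ : Submodule (Localization.AtPrime P) (Localization.AtPrime P ⊗[A] M)) ≃ₗ[P.ResidueField]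
      P.ResidueField ⊗[A] M :=
    (TensorProduct.AlgebraTensorModule.congr (LinearEquiv.refl P.ResidueField P.ResidueField)
      (Submodule.topEquiv)).trans
      (TensorProduct.AlgebraTensorModule.cancelBaseChange A (Localization.AtPrime P)
        P.ResidueField P.ResidueField M)
  rw [← e2.finrank_eq, ← e1.finrank_eq, Module.finrank_eq_spanFinrank_of_free,
    Module.finrank_eq_spanFinrank_of_free]
  calc _ ≤ (⊤ : Submodule (Localization.AtPrime P) (Localization.AtPrime P ⊗[A] M)).spanFinrank :=
        TensorProduct.spanFinrank_top_le_of_fg _ fg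
    _ = _ := (TensorProduct.spanFinrank_top_eq_of_residueField _ fg).symm

theorem le_finrank_fibre_kaehler (k : Type u) [Field k] (A : Type u) [CommRing A] [Algebra k A]
    [Algebra.FiniteType k A] (n : ℕ) (P q : Ideal A) [P.IsPrime] [q.IsPrime] (hqP : q ≤ P)
    (hq : (n : WithBot ℕ∞) ≤ ringKrullDim (A ⧸ q)) :
    n ≤ Module.finrank P.ResidueField (P.ResidueField ⊗[A] (Ω[A⁄k])) := by
  refine le_trans ?_ (finrank_fibre_le_of_le A (Ω[A⁄k]) q P hqP)
  -- surjectivity of `κ(q) ⊗ Ω_{A/k} → Ω_{κ(q)/k}`
  haveI : Algebra.FormallyUnramified A (Localization.AtPrime q) :=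
    Algebra.FormallyUnramified.of_isLocalization q.primeCompl
  haveI : Algebra.FormallyUnramified A q.ResidueField :=
    Algebra.FormallyUnramified.comp A (Localization.AtPrime q) q.ResidueField
  have hsurj : Function.Surjective (KaehlerDifferential.mapBaseChange k A q.ResidueField) := by
    rw [← LinearMap.range_eq_top, KaehlerDifferential.range_mapBaseChange, LinearMap.ker_eq_top]
    exact Subsingleton.elim _ _
  have h1 : Module.finrank q.ResidueField (Ω[q.ResidueField⁄k]) ≤
      Module.finrank q.ResidueField (q.ResidueField ⊗[A] Ω[A⁄k]) :=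
    LinearMap.finrank_le_finrank_of_surjective hsurj
  refine le_trans ?_ h1
  -- Cartier
  haveI : Algebra.EssFiniteType k q.ResidueField := Algebra.EssFiniteType.comp k A q.ResidueField
  obtain ⟨_, _, hC⟩ := Groth.Agent.Lib.CartierH3.cartier (K := k) (L := q.ResidueField)
  have h2 : Cardinal.toNat (Algebra.trdeg k q.ResidueField) ≤
      Module.finrank q.ResidueField (Ω[q.ResidueField⁄k]) := by
    have : ((Cardinal.toNat (Algebra.trdeg k q.ResidueField) : ℕ) : ℤ) ≤
        (Module.finrank q.ResidueField (Ω[q.ResidueField⁄k]) : ℤ) := by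
      have h0 : (0 : ℤ) ≤ (Module.finrank q.ResidueField
        (EGA41.imperfection ℤ k q.ResidueField) : ℤ) := Nat.cast_nonneg _
      linarith
    exact_mod_cast this
  refine le_trans ?_ h2
  -- dimension = transcendence degree
  obtain ⟨d, -, hd2, hd3, -⟩ := Groth.Agent.DimFTH8.exists_dim_eq k (A ⧸ q)
  haveI : FaithfulSMul k (A ⧸ q) := (faithfulSMul_iff_algebraMap_injective k (A ⧸ q)).mpr
    (algebraMap k (A ⧸ q)).injective
  haveI : FaithfulSMul (A ⧸ q) q.ResidueField :=
    (faithfulSMul_iff_algebraMap_injective (A ⧸ q) q.ResidueField).mpr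
      (IsFractionRing.injective (A ⧸ q) q.ResidueField)
  haveI : Algebra.IsAlgebraic (A ⧸ q) q.ResidueField :=
    IsLocalization.isAlgebraic q.ResidueField (nonZeroDivisors (A ⧸ q))
  have h3 := Groth.Agent.DimIneqH8.trdeg_eq_of_algebraic_top k (A ⧸ q) q.ResidueField
  rw [← h3, hd2, Cardinal.toNat_natCast]
  rw [hd3] at hq
  exact_mod_cast hq

end Groth.Agent.Lib.FibreRank_helper6
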