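import Mathlib
import Groth.Agent.S2107

/-!
# Regular sequences on the fibre lift to regular sequences with flat quotients (local form)
-/

set_option autoImplicit false

namespace Groth.Agent.Lib.RegFibH8

open TensorProduct RingTheory.Sequence IsLocalRing Pointwise

universe u

section Local

variable {R S : Type u} [CommRing R] [CommRing S] [IsLocalRing R] [IsLocalRing S] [Algebra R S]
  [IsLocalHom (algebraMap R S)]

/-- `(N/rN)/J(N/rN) ≃ (N/JN)/r(N/JN)`. -/
noncomputable def quotQuotEquiv (J : Ideal S) (r : S) (N : Type u) [AddCommGroup N] [Module S N] :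
    (QuotSMulTop r N ⧸ (J • ⊤ : Submodule S (QuotSMulTop r N))) ≃ₗ[S]
      QuotSMulTop r (N ⧸ (J • ⊤ : Submodule S N)) :=
  (TensorProduct.quotTensorEquivQuotSMul (QuotSMulTop r N) J).symm ≪≫ₗ
    QuotSMulTop.tensorQuotSMulTopEquivQuotSMulTop r (S ⧸ J) N ≪≫ₗ
      LinearEquiv.ofBijective (QuotSMulTop.map r (TensorProduct.quotTensorEquivQuotSMul N J).toLinearMap)
        ⟨by
          have h1 := QuotSMulTop.map_comp r
            (TensorProduct.quotTensorEquivQuotSMul N J).symm.toLinearMap
            (TensorProduct.quotTensorEquivQuotSMul N J).toLinearMap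
          rw [LinearEquiv.symm_comp, QuotSMulTop.map_id] at h1
          intro x y hxy
          have := congrArg (QuotSMulTop.map r
            (TensorProduct.quotTensorEquivQuotSMul N J).symm.toLinearMap) hxy
          rw [← LinearMap.comp_apply, ← LinearMap.comp_apply, ← h1] at this
          simpa using this,
        QuotSMulTop.map_surjective r (TensorProduct.quotTensorEquivQuotSMul N J).surjective⟩


theorem range_lsmul_eq (r : S) (N : Type u) [AddCommGroup N] [Module S N] :
    LinearMap.range (LinearMap.lsmul S N r) = r • (⊤ : Submodule S N) := by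
  ext x
  simp only [LinearMap.mem_range, LinearMap.lsmul_apply, Submodule.mem_smul_pointwise_iff_exists,
    Submodule.mem_top, true_and]

/-- local form: a sequence which is weakly regular on `N/𝔪_R N` is weakly regular on `N`,
with all successive quotients flat over `R`. -/
theorem local_reg (hS : CAlgX.IsEssFinitePresentation R S) (rs : List S) :
    ∀ (N : Type u) [AddCommGroup N] [Module S N] [Module R N] [IsScalarTower R S N]
      [Module.FinitePresentation S N] [Module.Flat R N],
      IsWeaklyRegular (N ⧸ ((maximalIdeal R).map (algebraMap R S) • ⊤ : Submodule S N)) rs →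
      IsWeaklyRegular N rs ∧
        ∀ i : ℕ, Module.Flat R (N ⧸ (Ideal.ofList (rs.take i) • ⊤ : Submodule S N)) := by
  induction rs with
  | nil =>
    intro N _ _ _ _ _ _ _
    refine ⟨IsWeaklyRegular.nil S N, fun i => ?_⟩
    have h0 : (Ideal.ofList (([] : List S).take i) • ⊤ : Submodule S N) = ⊥ := by
      rw [List.take_nil, Ideal.ofList_nil, Submodule.bot_smul]
    exact Module.Flat.of_linearEquiv ((Submodule.quotEquivOfEqBot _ h0).restrictScalars R)
  | cons r rs ih =>
    intro N _ _ _ _ _ _ h
    set J := (maximalIdeal R).map (algebraMap R S) with hJ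
    obtain ⟨h1, h2⟩ := (isWeaklyRegular_cons_iff _ r rs).mp h
    have hu : ∀ x : N, (LinearMap.lsmul S N r) x ∈ J • (⊤ : Submodule S N) →
        x ∈ J • (⊤ : Submodule S N) := by
      intro x hx
      rw [LinearMap.lsmul_apply] at hx
      have h3 : r • (Submodule.Quotient.mk x : N ⧸ (J • ⊤ : Submodule S N)) = r • 0 := by
        rw [smul_zero, ← Submodule.Quotient.mk_smul]
        exact (Submodule.Quotient.mk_eq_zero _).mpr hx
      exact (Submodule.Quotient.mk_eq_zero _).mp (h1 h3)
    obtain ⟨hinj, hflat⟩ := Groth.Agent.S2107.result (R := R) hS (LinearMap.lsmul S N r) hu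
    rw [range_lsmul_eq] at hflat
    have hreg : IsSMulRegular N r := hinj
    haveI : Module.Flat R (QuotSMulTop r N) := hflat
    haveI : Module.FinitePresentation S (QuotSMulTop r N) := by
      refine Module.finitePresentation_of_surjective (Submodule.mkQ _)
        (Submodule.mkQ_surjective _) ?_
      rw [Submodule.ker_mkQ, ← range_lsmul_eq, LinearMap.range_eq_map]
      exact (Module.Finite.fg_top).map _
    obtain ⟨h4, h5⟩ := ih (QuotSMulTop r N)
      (((quotQuotEquiv J r N).isWeaklyRegular_congr rs).mpr h2)
    refine ⟨(isWeaklyRegular_cons_iff _ r rs).mpr ⟨hreg, h4⟩, fun i => ?_⟩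
    cases i with
    | zero =>
      have h0 : (Ideal.ofList ((r :: rs).take 0) • ⊤ : Submodule S N) = ⊥ := by
        rw [List.take_zero, Ideal.ofList_nil, Submodule.bot_smul]
      exact Module.Flat.of_linearEquiv ((Submodule.quotEquivOfEqBot _ h0).restrictScalars R)
    | succ j =>
      rw [List.take_succ_cons]
      haveI := h5 j
      exact Module.Flat.of_linearEquiv
        ((Submodule.quotOfListConsSMulTopEquivQuotSMulTopInner N r (rs.take j)).restrictScalars R)

end Local

end Groth.Agent.Lib.RegFibH8
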