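import Mathlib
import Groth.Agent.Lib.RegFib1_helper8
import Groth.Agent.Lib.FibInjF_helper6

/-!
# Regular sequences on the fibre: translation to the local form
-/

set_option autoImplicit false

namespace Groth.Agent.Lib.RegFibH8

open TensorProduct RingTheory.Sequence IsLocalRing Pointwise

universe u

section Iso

variable (A R S : Type u) [CommRing A] [CommRing R] [CommRing S] [Algebra A R] [Algebra R S]
  [Algebra A S] [IsScalarTower A R S] (W : Submonoid A) [IsLocalization W R] (I : Ideal R)
  (N : Type u) [AddCommGroup N] [Module S N] [Module R N] [Module A N] [IsScalarTower R S N]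
  [IsScalarTower A R N] [IsScalarTower A S N]

/-- `N ⊗[A] (R ⧸ I) ≃ N ⧸ (I S) N` when `R` is a localization of `A` and `N` is an `S`-module. -/
noncomputable def tensorQuotEquiv :
    N ⊗[A] (R ⧸ I) ≃ₗ[S] N ⧸ (I.map (algebraMap R S) • ⊤ : Submodule S N) :=
  haveI := IsLocalization.tensorProduct_compatibleSMul W R N (R ⧸ I)
  (TensorProduct.equivOfCompatibleSMul R A S N (R ⧸ I)) ≪≫ₗ
    (AlgebraTensorModule.cancelBaseChange R S S N (R ⧸ I)).symm ≪≫ₗ
    (AlgebraTensorModule.congr (LinearEquiv.refl S N)
      (Algebra.TensorProduct.quotIdealMapEquivTensorQuot S I).symm.toLinearEquiv) ≪≫ₗ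
    TensorProduct.tensorQuotEquivQuotSMul N (I.map (algebraMap R S))

end Iso


section Global

variable {A B : Type u} [CommRing A] [CommRing B] [Algebra A B]

theorem main [Algebra.FinitePresentation A B] (M : Type u) [AddCommGroup M] [Module B M]
    [Module A M] [IsScalarTower A B M] [Module.FinitePresentation B M] (q : Ideal B) [q.IsPrime]
    (g : List B) (hg : ∀ b ∈ g, b ∈ q)
    (hflat : Module.Flat A (LocalizedModule q.primeCompl M))
    (hreg : IsRegular
      (LocalizedModule q.primeCompl (M ⊗[A] (q.comap (algebraMap A B)).ResidueField)) g) :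
    IsRegular (LocalizedModule q.primeCompl M) g ∧
      ∀ i ≤ g.length, Module.Flat A
        (LocalizedModule q.primeCompl
          (M ⧸ (Ideal.span {b | b ∈ g.take i} • (⊤ : Submodule B M)))) := by
  classical
  set p : Ideal A := q.comap (algebraMap A B) with hp
  haveI : q.LiesOver p := ⟨rfl⟩
  let R := Localization.AtPrime p
  let S := Localization.AtPrime q
  letI algRS : Algebra R S := Localization.AtPrime.algebraOfLiesOver p q
  haveI : IsLocalHom (algebraMap R S) :=
    Localization.isLocalHom_localRingHom p q (algebraMap A B) _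
  haveI : IsScalarTower A R S := inferInstance
  have hS : CAlgX.IsEssFinitePresentation R S :=
    Groth.Agent.Lib.FibInjH6.isEssFinitePresentation_of_localizations p q (by
      rintro _ ⟨a, ha, rfl⟩
      exact ha)
  let N := LocalizedModule q.primeCompl M
  letI : Module R N := Module.compHom N (algebraMap R S)
  haveI : IsScalarTower R S N := IsScalarTower.of_algebraMap_smul fun _ _ => rfl
  haveI : IsScalarTower A R N := IsScalarTower.of_algebraMap_smul fun a x => by
    show algebraMap R S (algebraMap A R a) • x = a • x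
    rw [← IsScalarTower.algebraMap_apply, algebraMap_smul]
  haveI : Module.Flat R N := (Module.flat_iff_of_isLocalization R p.primeCompl N).mpr hflat
  -- the fibre module
  set J : Ideal S := (maximalIdeal R).map (algebraMap R S) with hJ
  let k := p.ResidueField
  let e1 : LocalizedModule q.primeCompl (M ⊗[A] k) ≃ₗ[B] N ⊗[A] k :=
    IsLocalizedModule.iso q.primeCompl
      (AlgebraTensorModule.rTensor A k (LocalizedModule.mkLinearMap q.primeCompl M))
  let e2 : N ⊗[A] k ≃ₗ[S] N ⧸ (J • ⊤ : Submodule S N) :=
    tensorQuotEquiv A R S p.primeCompl (maximalIdeal R) N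
  let Φ : LocalizedModule q.primeCompl (M ⊗[A] k) ≃ₗ[B] N ⧸ (J • ⊤ : Submodule S N) :=
    e1 ≪≫ₗ e2.restrictScalars B
  have hw : IsWeaklyRegular (N ⧸ (J • ⊤ : Submodule S N)) (g.map (algebraMap B S)) :=
    (isWeaklyRegular_map_algebraMap_iff S _ g).mpr
      ((Φ.isWeaklyRegular_congr g).mp hreg.toIsWeaklyRegular)
  obtain ⟨h1, h2⟩ := local_reg hS (g.map (algebraMap B S)) N hw
  have hNnt : Nontrivial N := by
    haveI := hreg.nontrivial
    haveI : Nontrivial (N ⧸ (J • ⊤ : Submodule S N)) := Φ.symm.toEquiv.nontrivial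
    exact (Submodule.mkQ_surjective (J • ⊤ : Submodule S N)).nontrivial
  have hmem : ∀ r ∈ g.map (algebraMap B S), r ∈ maximalIdeal S := by
    intro r hr
    obtain ⟨b, hb, rfl⟩ := List.mem_map.mp hr
    exact (IsLocalization.AtPrime.to_map_mem_maximal_iff S q b).mpr (hg b hb)
  have hregS : IsRegular N (g.map (algebraMap B S)) :=
    IsRegular.of_isWeaklyRegular_of_mem_maximalIdeal N hmem h1
  have hregB : IsRegular N g := by
    refine ⟨(isWeaklyRegular_map_algebraMap_iff S N g).mp h1, fun htop => hregS.top_ne_smul ?_⟩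
    rw [eq_comm, eq_top_iff]
    intro n _
    have hn : n ∈ (Ideal.ofList g • ⊤ : Submodule B N) := htop ▸ Submodule.mem_top
    refine Submodule.smul_induction_on hn (fun b hb m _ => ?_) (fun x y hx hy => add_mem hx hy)
    rw [← algebraMap_smul S b m]
    refine Submodule.smul_mem_smul ?_ Submodule.mem_top
    rw [← Ideal.map_ofList]
    exact Ideal.mem_map_of_mem _ hb
  refine ⟨hregB, fun i _ => ?_⟩
  have h3 := h2 i
  rw [← List.map_take, ← Ideal.map_ofList] at h3
  set I : Ideal B := Ideal.span {b | b ∈ g.take i} with hI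
  have hloc : (I • ⊤ : Submodule B M).localized' S q.primeCompl
      (LocalizedModule.mkLinearMap q.primeCompl M) =
        (I.map (algebraMap B S)) • (⊤ : Submodule S N) := by
    rw [Submodule.localized'_smul, Ideal.localized'_eq_map, Submodule.localized'_top]
  have h4 : Module.Flat A (N ⧸ (I.map (algebraMap B S) • ⊤ : Submodule S N)) :=
    Module.Flat.trans A R _
  rw [← hloc] at h4
  exact (Module.Flat.equiv_iff ((IsLocalizedModule.iso q.primeCompl
    (Submodule.toLocalizedQuotient' S q.primeCompl (LocalizedModule.mkLinearMap q.primeCompl M)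
      (I • ⊤))).restrictScalars A).symm).mp h4

end Global

end Groth.Agent.Lib.RegFibH8
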