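import Mathlib
import Groth.Agent.Lib.RegFib2_helper8
import Groth.Agent.Lib.FlatLocFP1_helper6

/-!
# Fibrewise non-zero-divisors on flat finitely presented modules

If `B` is a finitely presented `A`-algebra, `M` a finitely presented `B`-module flat over `A`
and `a : B` is a non-zero-divisor on every fibre module, then `a` is a non-zero-divisor on `M`.
With `(S₁)` fibres, fibrewise regularity follows from `a` avoiding the minimal primes of the
support of the fibres.
-/

set_option autoImplicit false

namespace Groth.Agent.Lib.FibreRegS1H3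

open TensorProduct RingTheory.Sequence IsLocalRing Pointwise
open Groth.Agent.Lib.RegFibH8

universe u

section Global

variable {A B : Type u} [CommRing A] [CommRing B] [Algebra A B]

/-- Weakly regular version of `RegFibH8.main`. -/
theorem main_weak [Algebra.FinitePresentation A B] (M : Type u) [AddCommGroup M] [Module B M]
    [Module A M] [IsScalarTower A B M] [Module.FinitePresentation B M] (q : Ideal B) [q.IsPrime]
    (g : List B)
    (hflat : Module.Flat A (LocalizedModule q.primeCompl M))
    (hreg : IsWeaklyRegular
      (LocalizedModule q.primeCompl (M ⊗[A] (q.comap (algebraMap A B)).ResidueField)) g) :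
    IsWeaklyRegular (LocalizedModule q.primeCompl M) g := by
  classical
  set p : Ideal A := q.comap (algebraMap A B) with hp
  haveI : q.LiesOver p := ⟨rfl⟩
  let R := Localization.AtPrime p
  let S := Localization.AtPrime q
  letI algRS : Algebra R S := Localization.AtPrime.algebraOfLiesOver p q
  haveI : IsLocalHom (algebraMap R S) :=
    Localization.isLocalHom_localRingHom p q (algebraMap A B) _
  haveI : IsScalarTower A R S := inferInstance
  have hS : CAlgX.IsEssFinitePresentation R S :=
    Groth.Agent.Lib.FibInjH6.isEssFinitePresentation_of_localizations p q (by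
      rintro _ ⟨a, ha, rfl⟩
      exact ha)
  let N := LocalizedModule q.primeCompl M
  letI : Module R N := Module.compHom N (algebraMap R S)
  haveI : IsScalarTower R S N := IsScalarTower.of_algebraMap_smul fun _ _ => rfl
  haveI : IsScalarTower A R N := IsScalarTower.of_algebraMap_smul fun a x => by
    show algebraMap R S (algebraMap A R a) • x = a • x
    rw [← IsScalarTower.algebraMap_apply, algebraMap_smul]
  haveI : Module.Flat R N := (Module.flat_iff_of_isLocalization R p.primeCompl N).mpr hflat
  -- the fibre module
  set J : Ideal S := (maximalIdeal R).map (algebraMap R S) with hJ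
  let k := p.ResidueField
  let e1 : LocalizedModule q.primeCompl (M ⊗[A] k) ≃ₗ[B] N ⊗[A] k :=
    IsLocalizedModule.iso q.primeCompl
      (AlgebraTensorModule.rTensor A k (LocalizedModule.mkLinearMap q.primeCompl M))
  let e2 : N ⊗[A] k ≃ₗ[S] N ⧸ (J • ⊤ : Submodule S N) :=
    tensorQuotEquiv A R S p.primeCompl (maximalIdeal R) N
  let Φ : LocalizedModule q.primeCompl (M ⊗[A] k) ≃ₗ[B] N ⧸ (J • ⊤ : Submodule S N) :=
    e1 ≪≫ₗ e2.restrictScalars B
  have hw : IsWeaklyRegular (N ⧸ (J • ⊤ : Submodule S N)) (g.map (algebraMap B S)) :=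
    (isWeaklyRegular_map_algebraMap_iff S _ g).mpr
      ((Φ.isWeaklyRegular_congr g).mp hreg)
  obtain ⟨h1, -⟩ := local_reg hS (g.map (algebraMap B S)) N hw
  exact (isWeaklyRegular_map_algebraMap_iff S N g).mp h1

/-- A localization (at a submonoid of `B`) of an `A`-flat `B`-module is `A`-flat. -/
theorem flat_localizedModule (M : Type u) [AddCommGroup M] [Module B M]
    [Module A M] [IsScalarTower A B M] [Module.Flat A M] (T : Submonoid B) :
    Module.Flat A (LocalizedModule T M) := by
  rw [Groth.Agent.Lib.FlatLocFP1H6.flat_localizedModule_iff]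
  intro I ξ hξ
  refine ⟨1, T.one_mem, ?_⟩
  rw [one_smul]
  have hinj : Function.Injective (I.subtype.lTensor M) :=
    Module.Flat.lTensor_preserves_injective_linearMap (M := M) _ I.subtype_injective
  exact hinj (hξ.trans (map_zero _).symm)

/-- Localizing a regular element. -/
theorem isSMulRegular_localizedModule (N : Type u) [AddCommGroup N] [Module B N]
    (T : Submonoid B) (a : B) (h : IsSMulRegular N a) :
    IsSMulRegular (LocalizedModule T N) a := by
  have h1 : IsSMulRegular (LocalizedModule T N) (algebraMap B (Localization T) a) :=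
    IsSMulRegular.of_isLocalizedModule (Localization T) T (LocalizedModule.mkLinearMap T N) h
  exact (isSMulRegular_algebraMap_iff (A := Localization T)).mp h1

/-- Fibrewise regular elements of a flat finitely presented module are regular. -/
theorem isSMulRegular_of_fibres [Algebra.FinitePresentation A B] (M : Type u) [AddCommGroup M]
    [Module B M] [Module A M] [IsScalarTower A B M] [Module.FinitePresentation B M]
    [Module.Flat A M] (a : B)
    (h : ∀ (p : Ideal A) [p.IsPrime], IsSMulRegular (M ⊗[A] p.ResidueField) a) :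
    IsSMulRegular M a := by
  rw [isSMulRegular_iff_right_eq_zero_of_smul]
  intro x hx
  refine Module.eq_zero_of_localization_maximal
    (fun (P : Ideal B) (_ : P.IsMaximal) => LocalizedModule P.primeCompl M)
    (fun (P : Ideal B) (_ : P.IsMaximal) => LocalizedModule.mkLinearMap P.primeCompl M) x ?_
  intro q hq
  haveI : q.IsPrime := hq.isPrime
  have hw : IsWeaklyRegular (LocalizedModule q.primeCompl M) [a] := by
    refine main_weak M q [a] (flat_localizedModule (A := A) M q.primeCompl) ?_
    rw [isWeaklyRegular_singleton_iff]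
    exact isSMulRegular_localizedModule _ _ a (h (q.comap (algebraMap A B)))
  rw [isWeaklyRegular_singleton_iff] at hw
  refine hw.right_eq_zero_of_smul ?_
  rw [← map_smul, hx, map_zero]

end Global

section Fibre

variable {A B : Type u} [CommRing A] [CommRing B] [Algebra A B]

/-- With an `(S₁)` fibre, an element avoiding the minimal primes of the support of the fibre is
regular on the fibre. -/
theorem fibre_regular [Algebra.FiniteType A B] (M : Type u) [AddCommGroup M] [Module B M]
    [Module A M] [IsScalarTower A B M] (p : Ideal A) [p.IsPrime]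
    (hS1 : associatedPrimes (B ⊗[A] p.ResidueField) ((B ⊗[A] p.ResidueField) ⊗[B] M) ⊆
      (Module.annihilator (B ⊗[A] p.ResidueField)
        ((B ⊗[A] p.ResidueField) ⊗[B] M)).minimalPrimes)
    (a : B)
    (ha : ∀ P ∈ (Module.annihilator (B ⊗[A] p.ResidueField)
        ((B ⊗[A] p.ResidueField) ⊗[B] M)).minimalPrimes,
      a ⊗ₜ[A] (1 : p.ResidueField) ∉ P) :
    IsSMulRegular (M ⊗[A] p.ResidueField) a := by
  haveI : IsNoetherianRing (B ⊗[A] p.ResidueField) := by
    haveI : IsNoetherianRing (p.ResidueField ⊗[A] B) :=
      Algebra.FiniteType.isNoetherianRing p.ResidueField _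
    exact isNoetherianRing_of_ringEquiv _
      (Algebra.TensorProduct.comm A p.ResidueField B).toRingEquiv
  have h1 : IsSMulRegular ((B ⊗[A] p.ResidueField) ⊗[B] M)
      (a ⊗ₜ[A] (1 : p.ResidueField) : B ⊗[A] p.ResidueField) := by
    by_contra hn
    have hmem : (a ⊗ₜ[A] (1 : p.ResidueField) : B ⊗[A] p.ResidueField) ∈
        ({r : B ⊗[A] p.ResidueField |
          IsSMulRegular ((B ⊗[A] p.ResidueField) ⊗[B] M) r}ᶜ : Set _) := hn
    rw [← biUnion_associatedPrimes_eq_compl_regular (B ⊗[A] p.ResidueField)
      ((B ⊗[A] p.ResidueField) ⊗[B] M)] at hmem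
    obtain ⟨P, hP, haP⟩ := Set.mem_iUnion₂.mp hmem
    exact ha P (hS1 hP) haP
  have h2 : IsSMulRegular ((B ⊗[A] p.ResidueField) ⊗[B] M) a := by
    have h3 := (isSMulRegular_algebraMap_iff (A := B ⊗[A] p.ResidueField)
      (M := (B ⊗[A] p.ResidueField) ⊗[B] M) (r := a)).mp
    exact h3 (by rwa [Algebra.TensorProduct.algebraMap_apply, Algebra.algebraMap_self,
      RingHom.id_apply])
  let e : (B ⊗[A] p.ResidueField) ⊗[B] M ≃ₗ[B] M ⊗[A] p.ResidueField :=
    TensorProduct.comm B (B ⊗[A] p.ResidueField) M ≪≫ₗ
      AlgebraTensorModule.cancelBaseChange A B B M p.ResidueField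
  exact (e.isSMulRegular_congr a).mp h2

/-- Main theorem (S19195). -/
theorem main19195 [Algebra.FinitePresentation A B] (M : Type u) [AddCommGroup M] [Module B M]
    [Module A M] [IsScalarTower A B M] [Module.FinitePresentation B M] [Module.Flat A M]
    (hS1 : ∀ (p : Ideal A) [p.IsPrime],
      associatedPrimes (B ⊗[A] p.ResidueField) ((B ⊗[A] p.ResidueField) ⊗[B] M) ⊆
        (Module.annihilator (B ⊗[A] p.ResidueField)
          ((B ⊗[A] p.ResidueField) ⊗[B] M)).minimalPrimes)
    (a : B)
    (ha : ∀ (p : Ideal A) [p.IsPrime],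
      ∀ P ∈ (Module.annihilator (B ⊗[A] p.ResidueField)
          ((B ⊗[A] p.ResidueField) ⊗[B] M)).minimalPrimes,
        a ⊗ₜ[A] (1 : p.ResidueField) ∉ P) :
    IsSMulRegular M a :=
  isSMulRegular_of_fibres M a fun p _ => fibre_regular M p (hS1 p) a (ha p)

end Fibre

end Groth.Agent.Lib.FibreRegS1H3
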