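import Mathlib
import Groth.Prelude.Def_Curv2
import Groth.Agent.Lib.FibNoeth_helper5

/-!
# Local Noetherianity and finitely generated base field extension (helper5): S7605.
APPEND-ONLY once landed.
-/

set_option autoImplicit false
universe u

namespace Groth.Agent.NoethFieldBC

open AlgebraicGeometry CategoryTheory Limits

theorem isPullback_bc (k : Type u) [Field k] (X : Scheme.{u}) [X.Over (Spec (CommRingCat.of k))]
    (k' : Type u) [Field k'] [Algebra k k'] :
    IsPullback (Curv2.bcFst k X k') (Curv2.bcSnd k X k') (X ↘ Spec (CommRingCat.of k))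
      (Spec.map (CommRingCat.ofHom (algebraMap k k'))) := IsPullback.of_hasPullback _ _

theorem flat_bcFst (k : Type u) [Field k] (X : Scheme.{u}) [X.Over (Spec (CommRingCat.of k))]
    (k' : Type u) [Field k'] [Algebra k k'] : Flat (Curv2.bcFst k X k') := by
  haveI : Flat (Spec.map (CommRingCat.ofHom (algebraMap k k'))) :=
    Flat.SpecMap_iff.mpr (RingHom.flat_algebraMap_iff.mpr inferInstance)
  exact MorphismProperty.of_isPullback (P := @Flat) (isPullback_bc k X k').flip inferInstance

theorem surjective_bcFst (k : Type u) [Field k] (X : Scheme.{u})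
    [X.Over (Spec (CommRingCat.of k))] (k' : Type u) [Field k'] [Algebra k k'] :
    Surjective (Curv2.bcFst k X k') := by
  haveI : Surjective (Spec.map (CommRingCat.ofHom (algebraMap k k'))) :=
    ⟨fun x => ⟨IsLocalRing.closedPoint k', Subsingleton.elim (α := PrimeSpectrum k) _ _⟩⟩
  exact MorphismProperty.of_isPullback (P := @Surjective) (isPullback_bc k X k').flip
    inferInstance

theorem universallyOpen_bcFst (k : Type u) [Field k] (X : Scheme.{u})
    [X.Over (Spec (CommRingCat.of k))] (k' : Type u) [Field k'] [Algebra k k'] :
    UniversallyOpen (Curv2.bcFst k X k') := by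
  haveI : Subsingleton (Spec (CommRingCat.of k)) :=
    inferInstanceAs (Subsingleton (PrimeSpectrum k))
  haveI : UniversallyOpen (Spec.map (CommRingCat.ofHom (algebraMap k k'))) := inferInstance
  exact MorphismProperty.of_isPullback (P := @UniversallyOpen) (isPullback_bc k X k').flip
    inferInstance

theorem main7605 (k : Type u) [Field k] (X : Scheme.{u}) [X.Over (Spec (CommRingCat.of k))]
    (k' : Type u) [Field k'] [Algebra k k'] (hfg : (⊤ : IntermediateField k k').FG) :
    IsLocallyNoetherian X ↔ IsLocallyNoetherian (Curv2.bc k X k') := by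
  haveI hE : Algebra.EssFiniteType k k' := IntermediateField.fg_top_iff.mp hfg
  constructor
  · intro h
    exact Groth.Agent.FibNoeth.isLocallyNoetherian_of_isPullback_essFiniteType
      (CommRingCat.ofHom (algebraMap k k')) (RingHom.essFiniteType_algebraMap.mpr hE)
      (Curv2.bcFst k X k') (Curv2.bcSnd k X k') (X ↘ Spec (CommRingCat.of k))
      (isPullback_bc k X k')
  · intro h
    haveI := flat_bcFst k X k'
    haveI := surjective_bcFst k X k'
    haveI := universallyOpen_bcFst k X k'
    exact Groth.Agent.Lib.AlgSpNoethDesc_helper7.isLocallyNoetherian_of_flat_of_surjective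
      (Curv2.bcFst k X k') (Curv2.bcFst k X k').isOpenMap

end Groth.Agent.NoethFieldBC
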