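import Mathlib
import Groth.Prelude.Def_Curv2
import Groth.Agent.Lib.CMFieldBC_helper5
import Groth.Agent.Lib.NoethFieldBC_helper5
import Groth.Agent.Lib.RatPts_helper4
import Groth.Agent.Lib.FieldExt2_helper8
import Groth.Agent.Lib.FibStalkCM_helper5

/-!
# `m_x O_{X_K,y} = m_y` when dimensions agree and `κ(x) ⊗_k K` is reduced (helper5): S7627.
APPEND-ONLY once landed.
-/

set_option autoImplicit false
universe u

namespace Groth.Agent.FieldBCMax

open AlgebraicGeometry CategoryTheory Limits TensorProduct IsLocalRing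

attribute [local instance] Curv2.resAlgebra

theorem eq_zero_of_add (b : ℕ) (d : WithBot ℕ∞) (h : (b : WithBot ℕ∞) = b + d) : d = 0 := by
  induction d using WithBot.recBotCoe with
  | bot => simp at h
  | coe e =>
    induction e using ENat.recTopCoe with
    | top =>
      exfalso
      have h2 : ((b : ℕ∞) : WithBot ℕ∞) = (((b : ℕ∞) + ⊤ : ℕ∞) : WithBot ℕ∞) := by
        push_cast; exact h
      have h3 := WithBot.coe_injective h2
      simp at h3
    | coe n =>
      have h2 : (b : ℕ) = b + n := by exact_mod_cast h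
      have : n = 0 := by omega
      subst this
      rfl

open Groth.Agent.CMAscent Groth.Agent.NoethFieldBC in
/-- the fibre of `X_K ⟶ X` over `x` is `Spec (K ⊗_k κ(x))` -/
theorem gamma_fiber_bc (k : Type u) [Field k] (X : Scheme.{u}) [X.Over (Spec (CommRingCat.of k))]
    (K : Type u) [Field K] [Algebra k K] (x : X) :
    IsAffine ((Curv2.bcFst k X K).fiber x) ∧
      Nonempty ((K ⊗[k] X.residueField x) ≃+* Γ((Curv2.bcFst k X K).fiber x, ⊤)) := by
  have sq := isPullback_bc k X K
  haveI : IsAffineHom (Curv2.bcFst k X K) :=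
    MorphismProperty.of_isPullback (P := @IsAffineHom) sq.flip inferInstance
  refine ⟨inferInstance, ?_⟩
  have sqT : IsPullback ((Curv2.bcFst k X K).fiberι x)
      ((Curv2.bcFst k X K).fiberToSpecResidueField x)
      (Curv2.bcFst k X K) (X.fromSpecResidueField x) := IsPullback.of_hasPullback _ _
  have s2 := sqT.paste_horiz sq.flip
  rw [Groth.Agent.Lib.RatPtsH4.fromSpecResidueField_comp k X x] at s2
  exact gamma_equiv_of_isPullback_Spec k (X.residueField x) K _ _ s2

open Groth.Agent.NoethFieldBC Groth.Agent.FibStalkIso Groth.Agent.FibStalkCM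
  Groth.Agent.FibStalkDimH8 FibRedH8 in
theorem main7627 (k : Type u) [Field k] (X : Scheme.{u}) [X.Over (Spec (CommRingCat.of k))]
    [LocallyOfFiniteType (X ↘ (Spec (CommRingCat.of k)))]
    (K : Type u) [Field K] [Algebra k K] (y : ↥(Curv2.bc k X K))
    (hdim : ringKrullDim ↥(X.presheaf.stalk (Curv2.bcFst k X K y)) =
      ringKrullDim ↥((Curv2.bc k X K).presheaf.stalk y))
    (hred : _root_.IsReduced (X.residueField (Curv2.bcFst k X K y) ⊗[k] K)) :
    Ideal.map ((Curv2.bcFst k X K).stalkMap y).hom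
        (IsLocalRing.maximalIdeal ↥(X.presheaf.stalk (Curv2.bcFst k X K y))) =
      IsLocalRing.maximalIdeal ↥((Curv2.bc k X K).presheaf.stalk y) := by
  haveI : IsLocallyNoetherian X :=
    LocallyOfFiniteType.isLocallyNoetherian (X ↘ (Spec (CommRingCat.of k)))
  haveI : LocallyOfFiniteType (Curv2.bcSnd k X K) :=
    MorphismProperty.pullback_snd _ _ inferInstance
  haveI : IsLocallyNoetherian (Curv2.bc k X K) :=
    LocallyOfFiniteType.isLocallyNoetherian (Curv2.bcSnd k X K)
  haveI : Flat (Curv2.bcFst k X K) := flat_bcFst k X K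
  have h1 := FieldExtH8.flat_stalk_dim_add_quot (Curv2.bcFst k X K) y
  obtain ⟨b, hb⟩ := FieldExtH8.exists_stalk_dim_nat k X (Curv2.bcFst k X K y)
  have hIle : Ideal.map ((Curv2.bcFst k X K).stalkMap y).hom
      (IsLocalRing.maximalIdeal ↥(X.presheaf.stalk (Curv2.bcFst k X K y))) ≤
      maximalIdeal ((Curv2.bc k X K).presheaf.stalk y) := fibIdeal_le (Curv2.bcFst k X K) y
  haveI : IsLocalRing (↥((Curv2.bc k X K).presheaf.stalk y) ⧸
      Ideal.map ((Curv2.bcFst k X K).stalkMap y).hom
        (IsLocalRing.maximalIdeal ↥(X.presheaf.stalk (Curv2.bcFst k X K y)))) :=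
    Groth.Agent.FibDim.isLocalRing_quot hIle
  have hdimF : ringKrullDim (↥((Curv2.bc k X K).presheaf.stalk y) ⧸
      Ideal.map ((Curv2.bcFst k X K).stalkMap y).hom
        (IsLocalRing.maximalIdeal ↥(X.presheaf.stalk (Curv2.bcFst k X K y)))) = 0 := by
    apply eq_zero_of_add b
    rw [← hdim, hb] at h1
    exact h1
  haveI : Ring.KrullDimLE 0 (↥((Curv2.bc k X K).presheaf.stalk y) ⧸
      Ideal.map ((Curv2.bcFst k X K).stalkMap y).hom
        (IsLocalRing.maximalIdeal ↥(X.presheaf.stalk (Curv2.bcFst k X K y)))) :=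
    ringKrullDimZero_iff_ringKrullDim_eq_zero.mpr hdimF
  haveI : _root_.IsReduced (↥((Curv2.bc k X K).presheaf.stalk y) ⧸
      Ideal.map ((Curv2.bcFst k X K).stalkMap y).hom
        (IsLocalRing.maximalIdeal ↥(X.presheaf.stalk (Curv2.bcFst k X K y)))) := by
    obtain ⟨hAff, ⟨eΓ⟩⟩ := gamma_fiber_bc k X K (Curv2.bcFst k X K y)
    haveI := hAff
    haveI : _root_.IsReduced (K ⊗[k] X.residueField (Curv2.bcFst k X K y)) :=
      isReduced_of_injective
        (Algebra.TensorProduct.comm k K (X.residueField (Curv2.bcFst k X K y))).toRingEquiv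
        (Algebra.TensorProduct.comm k K
          (X.residueField (Curv2.bcFst k X K y))).toRingEquiv.injective
    haveI : _root_.IsReduced Γ((Curv2.bcFst k X K).fiber (Curv2.bcFst k X K y), ⊤) :=
      isReduced_of_injective eΓ.symm eΓ.symm.injective
    haveI : IsReduced ((Curv2.bcFst k X K).fiber (Curv2.bcFst k X K y)) :=
      isReduced_of_isAffine_isReduced _
    exact isReduced_of_injective (fibStalkEquiv (Curv2.bcFst k X K) y)
      (fibStalkEquiv (Curv2.bcFst k X K) y).injective
  have hfield : IsField (↥((Curv2.bc k X K).presheaf.stalk y) ⧸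
      Ideal.map ((Curv2.bcFst k X K).stalkMap y).hom
        (IsLocalRing.maximalIdeal ↥(X.presheaf.stalk (Curv2.bcFst k X K y)))) :=
    Ring.KrullDimLE.isField_of_isReduced
  exact IsLocalRing.eq_maximalIdeal (Ideal.Quotient.maximal_of_isField _ hfield)

end Groth.Agent.FieldBCMax
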