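import Mathlib
import Groth.Prelude.Def_PolLaw2
import Groth.Agent.Lib.FibreCount_helper1

/-!
# The image of a family of zero cycles over a field (helper1)
-/

set_option autoImplicit false
universe u
open scoped TensorProduct

namespace Groth.Agent.Lib.FieldCaseH1

variable {k : Type u} [Field k] {B : Type u} [CommRing B] [Algebra k B] {d : ℕ}
  (F : PolLaw.MulLaw k B k d)

theorem isMaximal_of_prime (P : Ideal (PolLaw.image F.law)) [P.IsPrime] : P.IsMaximal := by
  haveI : Algebra.IsIntegral k (PolLaw.image F.law) := Groth.Agent.Lib.CHIntegralH1.main13695 F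
  haveI : Algebra.IsIntegral k (PolLaw.image F.law ⧸ P) := by
    constructor
    intro x
    obtain ⟨y, rfl⟩ := Ideal.Quotient.mk_surjective x
    exact (Algebra.IsIntegral.isIntegral (R := k) y).map (Ideal.Quotient.mkₐ k P)
  exact Ideal.Quotient.maximal_of_isField P
    (isField_of_isIntegral_of_isField' (Field.toIsField k))

/-- the point of the geometric fibre attached to an embedding of the residue field -/
noncomputable def thetaS (P : PrimeSpectrum (PolLaw.image F.law))
    (σ : P.asIdeal.ResidueField →ₐ[k] AlgebraicClosure P.asIdeal.ResidueField) :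
    (AlgebraicClosure P.asIdeal.ResidueField) ⊗[k] PolLaw.image F.law →ₐ[k]
      AlgebraicClosure P.asIdeal.ResidueField :=
  Algebra.TensorProduct.lift (AlgHom.id k (AlgebraicClosure P.asIdeal.ResidueField))
    (σ.comp (IsScalarTower.toAlgHom k (PolLaw.image F.law) P.asIdeal.ResidueField))
    (fun _ _ => Commute.all (S := AlgebraicClosure P.asIdeal.ResidueField) _ _)

theorem thetaS_tmul (P : PrimeSpectrum (PolLaw.image F.law))
    (σ : P.asIdeal.ResidueField →ₐ[k] AlgebraicClosure P.asIdeal.ResidueField)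
    (w : AlgebraicClosure P.asIdeal.ResidueField) (b : PolLaw.image F.law) :
    thetaS F P σ (w ⊗ₜ[k] b) = w * σ (algebraMap (PolLaw.image F.law) P.asIdeal.ResidueField b) := by
  rw [thetaS, Algebra.TensorProduct.lift_tmul]
  rfl

theorem thetaS_injective (P : PrimeSpectrum (PolLaw.image F.law)) [P.asIdeal.IsMaximal]
    (σ τ : P.asIdeal.ResidueField →ₐ[k] AlgebraicClosure P.asIdeal.ResidueField)
    (h : RingHom.ker (thetaS F P σ) = RingHom.ker (thetaS F P τ)) : σ = τ := by
  apply AlgHom.ext
  intro x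
  obtain ⟨b, rfl⟩ := Ideal.algebraMap_residueField_surjective P.asIdeal x
  have h1 : (σ (algebraMap (PolLaw.image F.law) P.asIdeal.ResidueField b)) ⊗ₜ[k]
      (1 : PolLaw.image F.law) - (1 : AlgebraicClosure P.asIdeal.ResidueField) ⊗ₜ[k] b ∈
      RingHom.ker (thetaS F P σ) := by
    rw [RingHom.mem_ker, map_sub, thetaS_tmul, thetaS_tmul, map_one, map_one, mul_one, one_mul,
      sub_self]
  rw [h, RingHom.mem_ker, map_sub, thetaS_tmul, thetaS_tmul, map_one, map_one, mul_one, one_mul,
    sub_eq_zero] at h1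
  exact h1

theorem main13707 :
    Finite (PrimeSpectrum (PolLaw.image F.law)) ∧
      Nat.card (PrimeSpectrum (PolLaw.image F.law)) ≤ d ∧
      ∀ P : PrimeSpectrum (PolLaw.image F.law), P.asIdeal.IsMaximal ∧
        Finite (Field.Emb k P.asIdeal.ResidueField) := by
  obtain ⟨h1, h2⟩ := Groth.Agent.Lib.FibreCountH1.main13723 F k
  obtain ⟨e, -⟩ : ∃ e : PrimeSpectrum (k ⊗[k] PolLaw.image F.law) ≃
      PrimeSpectrum (PolLaw.image F.law), True :=
    ⟨(PrimeSpectrum.comapEquiv
      (Algebra.TensorProduct.lid k (PolLaw.image F.law)).toRingEquiv).toEquiv, trivial⟩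
  refine ⟨Finite.of_equiv _ e, by rw [← Nat.card_congr e]; exact h2, fun P => ?_⟩
  haveI hmax : P.asIdeal.IsMaximal := isMaximal_of_prime F P.asIdeal
  refine ⟨hmax, ?_⟩
  haveI := (Groth.Agent.Lib.FibreCountH1.main13723 F
    (AlgebraicClosure P.asIdeal.ResidueField)).1
  exact Finite.of_injective
    (fun σ : P.asIdeal.ResidueField →ₐ[k] AlgebraicClosure P.asIdeal.ResidueField =>
      (⟨RingHom.ker (thetaS F P σ), RingHom.ker_isPrime _⟩ :
        PrimeSpectrum ((AlgebraicClosure P.asIdeal.ResidueField) ⊗[k] PolLaw.image F.law)))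
    (fun σ τ hστ => thetaS_injective F P σ τ (congrArg PrimeSpectrum.asIdeal hστ))

end Groth.Agent.Lib.FieldCaseH1
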