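import Mathlib
import Groth.Prelude.Def_Flat
import Groth.Agent.Lib.FieldExt3_helper8
import Groth.Agent.Lib.FibCoh8_helper8
import Groth.Agent.Lib.FlatFibDim_helper8
import Groth.Agent.Lib.FibStalkDim_helper8
import Groth.Agent.Lib.FibChain_helper8

/-! Dimension of the local ring of a fibre under base change. -/

universe u
open AlgebraicGeometry CategoryTheory CategoryTheory.Limits

namespace FieldExtH8

/-- every nonempty scheme has a maximal point (for the specialization order) -/
theorem exists_isMax (Z : Scheme.{u}) [Nonempty Z] : ∃ ζ : Z, IsMax ζ := by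
  obtain ⟨t⟩ := ‹Nonempty Z›
  obtain ⟨z₀, -, hmax, -⟩ := Groth.Agent.FlatFibDimH8.exists_generic_of_mem_irreducibleComponents Z
    (irreducibleComponent t) (irreducibleComponent_mem_irreducibleComponents t)
  exact ⟨z₀, hmax⟩

/-- The comparison map between the fibres in a base change square, with its properties. -/
theorem fiber_comparison {X S X' S' : Scheme.{u}} (f : X ⟶ S)
    (g : S' ⟶ S) (g' : X' ⟶ X) (f' : X' ⟶ S') (hsq : IsPullback g' f' f g) (s' : S') :
    ∃ θ : f'.fiber s' ⟶ f.fiber (g s'), Flat θ ∧ Surjective θ ∧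
      θ ≫ f.fiberι (g s') = f'.fiberι s' ≫ g' := by
  have sq := isPullback_fiberToSpecResidueField_of_isPullback hsq s'
  refine ⟨pullback.map f' (S'.fromSpecResidueField s') f (S.fromSpecResidueField (g s'))
    g' (Spec.map (g.residueFieldMap s')) g hsq.w.symm (by simp), ?_, ?_, pullback.lift_fst _ _ _⟩
  · haveI : Flat (Spec.map (g.residueFieldMap s')) := inferInstance
    exact MorphismProperty.of_isPullback sq.flip inferInstance
  · haveI : Surjective (Spec.map (g.residueFieldMap s')) :=
      ⟨fun x => ⟨IsLocalRing.closedPoint _, Subsingleton.elim (α := PrimeSpectrum _) _ _⟩⟩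
    exact MorphismProperty.of_isPullback sq.flip inferInstance

/-- The dimension of the local ring of the fibre can only go up under base change. -/
theorem fibCoh_le_baseChange {X S X' S' : Scheme.{u}} (f : X ⟶ S)
    (g : S' ⟶ S) (g' : X' ⟶ X) (f' : X' ⟶ S') (hsq : IsPullback g' f' f g) (x' : X') :
    FibCohH8.fibCoh f (g' x') ≤ FibCohH8.fibCoh f' x' := by
  obtain ⟨θ, hθf, -, hθ⟩ := fiber_comparison f g g' f' hsq (f' x')
  have hpt : f.fiberι (g (f' x')) (θ (f'.asFiber x')) = g' x' := by
    have := congrArg (fun k : f'.fiber (f' x') ⟶ X => k (f'.asFiber x')) hθ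
    refine Eq.trans this ?_
    change g' (f'.fiberι (f' x') (f'.asFiber x')) = g' x'
    rw [Scheme.Hom.fiberι_asFiber]
  have h1 := FibCohH8.coheight_fiber_eq_fibCoh f (g (f' x')) (θ (f'.asFiber x'))
  have h2 := FibCohH8.coheight_fiber_eq_fibCoh f' (f' x') (f'.asFiber x')
  rw [hpt] at h1
  rw [Scheme.Hom.fiberι_asFiber] at h2
  rw [← h1, ← h2]
  exact EtDimH8.coheight_le_of_generalizingMap θ (Flat.generalizingMap θ) _

/-- Over any point of the fibre product of the sets of points there is a point of the base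
change at which the local ring of the fibre has the same dimension. -/
theorem exists_fibCoh_eq_baseChange {X S X' S' : Scheme.{u}} (f : X ⟶ S) [LocallyOfFiniteType f]
    (g : S' ⟶ S) (g' : X' ⟶ X) (f' : X' ⟶ S') (hsq : IsPullback g' f' f g) (x : X) (s' : S')
    (hxs : f x = g s') :
    ∃ x' : X', g' x' = x ∧ f' x' = s' ∧ FibCohH8.fibCoh f' x' = FibCohH8.fibCoh f x := by
  haveI : LocallyOfFiniteType f' := MorphismProperty.of_isPullback hsq inferInstance
  obtain ⟨θ, hθf, hθs, hθ⟩ := fiber_comparison f g g' f' hsq s'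
  haveI := hθf
  haveI := hθs
  haveI : IsLocallyNoetherian (f.fiber (g s')) :=
    Groth.Agent.FibChainH8.isLocallyNoetherian_fiber f (g s')
  haveI : IsLocallyNoetherian (f'.fiber s') :=
    Groth.Agent.FibChainH8.isLocallyNoetherian_fiber f' s'
  -- the point `z` of the fibre
  let z : f.fiber (g s') := (f.fiberHomeo (g s')).symm ⟨x, hxs⟩
  have hz : f.fiberι (g s') z = x := f.fiberι_fiberHomeo_symm _ _
  -- a maximal point of the fibre of θ over z
  haveI : Nonempty (θ.fiber z) := by
    obtain ⟨t, ht⟩ := θ.surjective z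
    exact ⟨(θ.fiberHomeo z).symm ⟨t, ht⟩⟩
  obtain ⟨ζ, hζ⟩ := exists_isMax (θ.fiber z)
  set z' : f'.fiber s' := θ.fiberι z ζ with hz'
  have hθz' : θ z' = z := Groth.Agent.FibRes2H8.fiberι_mem θ z ζ
  have h0 : FibCohH8.fibCoh θ z' = 0 := by
    rw [← FibCohH8.coheight_fiber_eq_fibCoh θ z ζ]
    exact Order.coheight_eq_zero.mpr hζ
  refine ⟨f'.fiberι s' z', ?_, Groth.Agent.FibRes2H8.fiberι_mem f' s' z', ?_⟩
  · have := congrArg (fun k : f'.fiber s' ⟶ X => k z') hθ
    have h3 : f.fiberι (g s') (θ z') = g' (f'.fiberι s' z') := this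
    rw [← h3, hθz', hz]
  · rw [← FibCohH8.coheight_fiber_eq_fibCoh f' s' z', ← hz,
      ← FibCohH8.coheight_fiber_eq_fibCoh f (g s') z, ← hθz']
    apply le_antisymm
    · -- dimension inequality
      have h4 : ringKrullDim ((f'.fiber s').presheaf.stalk z') ≤
          ringKrullDim ((f.fiber (g s')).presheaf.stalk (θ z')) +
            ringKrullDim (↥((f'.fiber s').presheaf.stalk z') ⧸
              Groth.Agent.FibStalkDimH8.fibIdeal θ z') := by
        letI : Algebra ((f.fiber (g s')).presheaf.stalk (θ z')) ((f'.fiber s').presheaf.stalk z') :=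
          (θ.stalkMap z').hom.toAlgebra
        haveI : IsLocalHom (algebraMap ((f.fiber (g s')).presheaf.stalk (θ z'))
            ((f'.fiber s').presheaf.stalk z')) :=
          inferInstanceAs (IsLocalHom (θ.stalkMap z').hom)
        exact Groth.Agent.FibDim.dim_le
      have h5 := Groth.Agent.FibStalkDimH8.dim_quot_le θ z'
      rw [FibCohH8.stalk_fiber_eq_fibCoh, h0] at h5
      have h6 : ringKrullDim (↥((f'.fiber s').presheaf.stalk z') ⧸
          Groth.Agent.FibStalkDimH8.fibIdeal θ z') ≤ 0 := by exact_mod_cast h5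
      have h7 : ringKrullDim ((f'.fiber s').presheaf.stalk z') ≤
          ringKrullDim ((f.fiber (g s')).presheaf.stalk (θ z')) := by
        calc _ ≤ _ := h4
          _ ≤ ringKrullDim ((f.fiber (g s')).presheaf.stalk (θ z')) + 0 := by gcongr
          _ = _ := add_zero _
      rw [AlgebraicGeometry.ringKrullDim_stalk_eq_coheight,
        AlgebraicGeometry.ringKrullDim_stalk_eq_coheight] at h7
      exact_mod_cast h7
    · exact EtDimH8.coheight_le_of_generalizingMap θ (Flat.generalizingMap θ) _

end FieldExtH8
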