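import Mathlib
import Groth.Prelude.Def_AlgSpDec
import Groth.Agent.Lib.BCChart2_helper8
import Groth.Agent.Lib.FieldExt3_helper8
import Groth.Agent.Lib.FieldBase_helper8
import Groth.Agent.Lib.LocDimEt_helper8

/-! The fibre of a morphism of algebraic spaces over a field valued point: local dimension of
the fibre equals relative dimension of the morphism. -/

universe u
open AlgebraicGeometry CategoryTheory CategoryTheory.Limits
open AlgSp
open Groth.Agent.Lib.AlgSpReduced_helper7 Groth.Agent.Lib.AlgSpPoints_helper7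
  Groth.Agent.Lib.AlgSpPullback_helper7

namespace FieldFibreH8

variable {S : Scheme.{u}}

theorem subsingleton_points_yon_field (K : Type u) [Field K] (str : Spec (CommRingCat.of K) ⟶ S) :
    Subsingleton (Points ((yon S).obj (Over.mk str))) := by
  haveI hsub : Subsingleton ↥(Over.mk str).left :=
    inferInstanceAs (Subsingleton (PrimeSpectrum K))
  exact (Points.schemeEquiv (Over.mk str)).symm.injective.subsingleton

/-- For the fibre `F = X ×_Y Spec K`, the local dimension of a chart of `F` at a point over `x` is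
the relative dimension of any chart diagram of `f` at `x`. -/
theorem localDim_eq_fibreDimAt {X Y : AlgSp.Space S} (f : X ⟶ Y)
    (hf : LocP @LocallyOfFiniteType f.hom) (K : Type u) [Field K]
    (str : Spec (CommRingCat.of K) ⟶ S) (y : (yon S).obj (Over.mk str) ⟶ Y.obj)
    {F : Sp S} (hF : IsAlgSpace F) (p : F ⟶ X.obj) (q : F ⟶ (yon S).obj (Over.mk str))
    (sq : IsPullback p q f.hom y) (z : Points F)
    {U V : Over S} (a : (yon S).obj U ⟶ X.obj) (b : (yon S).obj V ⟶ Y.obj) (h : U ⟶ V)
    (u : ↥U.left) (hae : RepWith @Etale a) (hbe : RepWith @Etale b)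
    (comm : a ≫ f.hom = (yon S).map h ≫ b) (hu : Points.ofPt a u = Points.map p z)
    {U1 : Over S} (a1 : (yon S).obj U1 ⟶ F) (hae1 : RepWith @Etale a1) (u1 : ↥U1.left)
    (hu1 : Points.ofPt a1 u1 = z) :
    FlatMor.localDim ↥U1.left u1 = FlatMor.fibreDimAt h.left u := by
  let Y' : AlgSp.Space S := ⟨(yon S).obj (Over.mk str), IsAlgSpace.yon_obj _⟩
  let F' : AlgSp.Space S := ⟨F, hF⟩
  let g : Y' ⟶ Y := ObjectProperty.homMk y
  let f' : F' ⟶ Y' := ObjectProperty.homMk q
  let p' : F' ⟶ X := ObjectProperty.homMk p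
  have sq' : IsPullback p'.hom f'.hom f.hom g.hom := sq
  haveI : LocallyOfFiniteType h.left := hf a b h hae hbe comm
  have hb0e : RepWith @Etale (𝟙 ((yon S).obj (Over.mk str))) := repWith_id _ _
  obtain ⟨W, V'', r, b'', κ, aW, φ, ψ, hre, hb''e, comm', sqL, hr1, hb'', sqV, hpts⟩ :=
    BCChartH8.exists_bc_chart₂ f g p' f' sq' a b h hae hbe comm
      (𝟙 ((yon S).obj (Over.mk str))) hb0e
  haveI := subsingleton_points_yon_field K str
  haveI hsub : Subsingleton ↥(Over.mk str).left :=
    inferInstanceAs (Subsingleton (PrimeSpectrum K))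
  have hv0 : Points.ofPt (𝟙 ((yon S).obj (Over.mk str)))
      (IsLocalRing.closedPoint K : ↥(Over.mk str).left) = Points.map f'.hom z :=
    Subsingleton.elim _ _
  obtain ⟨w, hw, hwu, -⟩ := hpts z u (IsLocalRing.closedPoint K) hu hv0
  rw [LocDimEtH8.localDim_chart_indep a1 r hae1 hre u1 w (hu1.trans hw.symm)]
  haveI : Etale ψ.left := by
    have h1 : RepWith @Etale ((yon S).map ψ) := by
      rw [hb'', Category.comp_id] at hb''e; exact hb''e
    exact (repWith_yon_map_iff _ _).1 h1
  rw [← FieldBaseH8.fibreDimAt_of_etale_to_field κ.left ψ.left w,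
    FieldExtH8.fibreDimAt_baseChange h.left φ.left aW.left κ.left sqL w, hwu]

end FieldFibreH8
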