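import Mathlib
import Groth.Agent.Lib.LocAwayLim_helper7

/-!
# A field valued point with a property descending along limits, thickenings and strata (helper7)

`main6666`: the Zorn-lemma argument: a minimal closed subscheme with `P`, then the local ring at a
generic point of it (a limit of its quasi-compact opens), then its residue field (a thickening).
-/

set_option autoImplicit false
set_option linter.style.haveILetI false
universe u
open CategoryTheory CategoryTheory.Limits AlgebraicGeometry Opposite

namespace Groth.Agent.Lib.FieldPointH7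

open Groth.Agent.Lib

variable {T : Scheme.{u}}

/-- hypothesis (1): insensitive to thickenings -/
def H1 (P : ∀ ⦃T' : Scheme.{u}⦄, (T' ⟶ T) → Prop) : Prop :=
  ∀ ⦃T' T'' : Scheme.{u}⦄ (a : T' ⟶ T) (t : T'' ⟶ T') [IsClosedImmersion t] [Surjective t]
    [CompactSpace T'] [QuasiSeparatedSpace T'] [CompactSpace T''] [QuasiSeparatedSpace T''],
    P (t ≫ a) ↔ P a

/-- hypothesis (2): passes to cofiltered limits with affine transition maps -/
def H2 (P : ∀ ⦃T' : Scheme.{u}⦄, (T' ⟶ T) → Prop) : Prop :=
  ∀ ⦃I : Type u⦄ [SmallCategory I] [IsCofiltered I] (D : I ⥤ Over T) (c : Limits.Cone D)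
    (_ : Limits.IsLimit c), (∀ (i j : I) (m : i ⟶ j), IsAffineHom (D.map m).left) →
    (∀ i, CompactSpace (D.obj i).left ∧ QuasiSeparatedSpace (D.obj i).left) →
    (∀ i, P (D.obj i).hom) → P c.pt.hom

/-- hypothesis (3): passes to an open or to its closed complement -/
def H3 (P : ∀ ⦃T' : Scheme.{u}⦄, (T' ⟶ T) → Prop) : Prop :=
  ∀ ⦃T' Z V : Scheme.{u}⦄ (a : T' ⟶ T) [CompactSpace T'] [QuasiSeparatedSpace T'] (i : Z ⟶ T')
    [IsClosedImmersion i] (j : V ⟶ T') [IsOpenImmersion j] [CompactSpace V],
    Set.range j = (Set.range i)ᶜ → P a → P (j ≫ a) ∨ P (i ≫ a)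

lemma over_hom_ext_of_mono {X Y : Over T} [Mono Y.hom] (f g : X ⟶ Y) : f = g := by
  apply Over.OverMorphism.ext
  rw [← cancel_mono Y.hom, Over.w f, Over.w g]

theorem compact_sub {X : Scheme.{u}} [CompactSpace X] (J : X.IdealSheafData) :
    CompactSpace J.subscheme :=
  QuasiCompact.compactSpace_of_compactSpace J.subschemeι

theorem qs_sub {X : Scheme.{u}} [QuasiSeparatedSpace X] (J : X.IdealSheafData) :
    QuasiSeparatedSpace J.subscheme :=
  quasiSeparatedSpace_of_quasiSeparated J.subschemeι

/-- Chains of closed subschemes with `P` have a lower bound with `P`. -/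
theorem chain_ub [CompactSpace T] [QuasiSeparatedSpace T]
    (P : ∀ ⦃T' : Scheme.{u}⦄, (T' ⟶ T) → Prop) (h2 : H2 P)
    (c : Set T.IdealSheafData) (hcS : ∀ J ∈ c, J ≠ ⊤ ∧ P J.subschemeι)
    (hc : IsChain (· ≤ ·) c) (y : T.IdealSheafData) (hy : y ∈ c) :
    sSup c ≠ ⊤ ∧ P (sSup c).subschemeι := by
  haveI : Nonempty ↥c := ⟨⟨y, hy⟩⟩
  constructor
  · have hne : (⋂ J : ↥c, ((J.1.support : TopologicalSpace.Closeds T) : Set T)).Nonempty := by
      apply IsCompact.nonempty_iInter_of_directed_nonempty_isCompact_isClosed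
      · intro a b
        rcases hc.total a.2 b.2 with h | h
        · exact ⟨b, SetLike.coe_subset_coe.2 (Scheme.IdealSheafData.support_antitone h),
            subset_rfl⟩
        · exact ⟨a, subset_rfl,
            SetLike.coe_subset_coe.2 (Scheme.IdealSheafData.support_antitone h)⟩
      · intro J
        by_contra hJ
        rw [Set.not_nonempty_iff_eq_empty] at hJ
        apply (hcS J.1 J.2).1
        rw [← Scheme.IdealSheafData.support_eq_bot_iff]
        exact TopologicalSpace.Closeds.ext (hJ.trans TopologicalSpace.Closeds.coe_bot.symm)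
      · intro J
        exact J.1.support.isClosed.isCompact
      · intro J
        exact J.1.support.isClosed
    intro htop
    have h0 : ((sSup c).support : Set T) =
        ⋂ J : ↥c, ((J.1.support : TopologicalSpace.Closeds T) : Set T) := by
      rw [Scheme.IdealSheafData.support_sSup]
      simp only [TopologicalSpace.Closeds.coe_iInf]
      exact Set.biInter_eq_iInter c (fun J _ => (J.support : Set T))
    rw [htop, Scheme.IdealSheafData.support_top, TopologicalSpace.Closeds.coe_bot] at h0
    rw [← h0] at hne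
    exact Set.not_nonempty_empty hne
  · haveI : IsDirectedOrder ↥c := ⟨fun a b => by
      rcases hc.total a.2 b.2 with h | h
      · exact ⟨b, h, le_rfl⟩
      · exact ⟨a, le_rfl, h⟩⟩
    haveI : IsFiltered ↥c := isFiltered_of_directed_le_nonempty _
    let ι : ↥c ⥤ T.IdealSheafData :=
      Monotone.functor (f := fun x : ↥c => (x : T.IdealSheafData)) (fun _ _ h => h)
    let D : (↥c)ᵒᵖ ⥤ Over T := ι.op ⋙ Scheme.IdealSheafData.subschemeFunctor T
    haveI hmono : ∀ K, Mono (D.obj K).hom := fun K =>
      show Mono (K.unop.1.subschemeι) from inferInstance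
    let cn : Cone D :=
      { pt := Over.mk (sSup c).subschemeι
        π :=
          { app := fun K => Over.homMk (Scheme.IdealSheafData.inclusion (le_sSup K.unop.2))
              (Scheme.IdealSheafData.inclusion_subschemeι _)
            naturality := fun K L f => over_hom_ext_of_mono _ _ } }
    haveI : Mono cn.pt.hom := show Mono ((sSup c).subschemeι) from inferInstance
    have hle : ∀ s : Cone D, (sSup c).subschemeι.ker ≤ s.pt.hom.ker := by
      intro s
      rw [Scheme.IdealSheafData.ker_subschemeι]
      refine sSup_le (fun J hJ => ?_)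
      have hw : (s.π.app (op ⟨J, hJ⟩)).left ≫ J.subschemeι = s.pt.hom :=
        Over.w (s.π.app (op ⟨J, hJ⟩))
      rw [← hw]
      calc J = J.subschemeι.ker := (Scheme.IdealSheafData.ker_subschemeι J).symm
        _ ≤ _ := Scheme.Hom.le_ker_comp _ _
    have hcn : IsLimit cn :=
      { lift := fun s => Over.homMk
          (IsClosedImmersion.lift (sSup c).subschemeι s.pt.hom (hle s))
          (IsClosedImmersion.lift_fac _ _ _)
        fac := fun s K => over_hom_ext_of_mono _ _
        uniq := fun s m hm => over_hom_ext_of_mono _ _ }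
    have hP := h2 D cn hcn ?_ ?_ ?_
    · exact hP
    · intro i j m
      obtain ⟨q, hq⟩ : ∃ q : i.unop.1.subscheme ⟶ j.unop.1.subscheme, q = (D.map m).left :=
        ⟨_, rfl⟩
      have hw : q ≫ j.unop.1.subschemeι = i.unop.1.subschemeι := by
        rw [hq]
        exact Over.w (D.map m)
      haveI : IsClosedImmersion (q ≫ j.unop.1.subschemeι) := by
        rw [hw]
        infer_instance
      haveI : IsClosedImmersion q := IsClosedImmersion.of_comp q j.unop.1.subschemeι
      have hq' : IsAffineHom q := inferInstance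
      rw [← hq]
      exact hq'
    · intro i
      exact ⟨compact_sub i.unop.1, qs_sub i.unop.1⟩
    · intro i
      exact (hcS i.unop.1 i.unop.2).2

/-- Every nonempty quasi-compact open of a minimal closed subscheme with `P` has `P`. -/
theorem open_piece [CompactSpace T] [QuasiSeparatedSpace T]
    (P : ∀ ⦃T' : Scheme.{u}⦄, (T' ⟶ T) → Prop) (h1 : H1 P) (h3 : H3 P) (J : T.IdealSheafData)
    (hJ : Maximal (fun J : T.IdealSheafData => J ≠ ⊤ ∧ P J.subschemeι) J)
    {V : Scheme.{u}} (j : V ⟶ J.subscheme) [IsOpenImmersion j] [CompactSpace V] [Nonempty V] :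
    P (j ≫ J.subschemeι) := by
  haveI := compact_sub J
  haveI := qs_sub J
  haveI : QuasiSeparatedSpace V := quasiSeparatedSpace_of_quasiSeparated j
  by_cases hsurj : Set.range j = Set.univ
  · haveI : IsIso j := isIso_of_isOpenImmersion_of_opensRange_eq_top j
      (TopologicalSpace.Opens.ext hsurj)
    exact (h1 J.subschemeι j).2 hJ.prop.2
  · let C : TopologicalSpace.Closeds J.subscheme :=
      ⟨(Set.range j)ᶜ, j.isOpenEmbedding.isOpen_range.isClosed_compl⟩
    let K : J.subscheme.IdealSheafData := Scheme.IdealSheafData.vanishingIdeal C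
    have hrange : Set.range K.subschemeι = (Set.range j)ᶜ := by
      rw [Scheme.IdealSheafData.range_subschemeι, Scheme.IdealSheafData.coe_support_vanishingIdeal]
      rfl
    haveI := compact_sub K
    haveI := qs_sub K
    rcases h3 J.subschemeι K.subschemeι j (by rw [hrange, compl_compl]) hJ.prop.2 with h | h
    · exact h
    · exfalso
      obtain ⟨g, hg⟩ : ∃ g : K.subscheme ⟶ T, g = K.subschemeι ≫ J.subschemeι := ⟨_, rfl⟩
      haveI : IsClosedImmersion g := by
        rw [hg]
        infer_instance
      have hJle : J ≤ g.ker := by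
        rw [hg]
        calc J = J.subschemeι.ker := (Scheme.IdealSheafData.ker_subschemeι J).symm
          _ ≤ _ := Scheme.Hom.le_ker_comp _ _
      have hne : g.ker ≠ ⊤ := by
        rw [Ne, Scheme.Hom.ker_eq_top_iff_isEmpty]
        intro hemp
        apply hsurj
        have h0 : Set.range K.subschemeι = ∅ := Set.range_eq_empty_iff.2 hemp
        rw [hrange] at h0
        exact Set.compl_empty_iff.1 h0
      haveI := compact_sub g.ker
      haveI := qs_sub g.ker
      have hPg : P g.ker.subschemeι := by
        have h4 := h1 g.ker.subschemeι g.toImage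
        rw [show g.toImage ≫ g.ker.subschemeι = g from g.toImage_imageι] at h4
        exact h4.1 (hg ▸ h)
      have hle : g.ker ≤ J := hJ.le_of_ge ⟨hne, hPg⟩ hJle
      have hle' : g.ker ≤ J.subschemeι.ker := by
        rw [Scheme.IdealSheafData.ker_subschemeι]
        exact hle
      have hr : IsClosedImmersion.lift g J.subschemeι hle' ≫ g = J.subschemeι :=
        IsClosedImmersion.lift_fac _ _ _
      have hr' : IsClosedImmersion.lift g J.subschemeι hle' ≫ K.subschemeι = 𝟙 _ := by
        rw [← cancel_mono J.subschemeι, Category.assoc, Category.id_comp, ← hg]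
        exact hr
      obtain ⟨v⟩ := ‹Nonempty V›
      have hv : j v ∈ Set.range K.subschemeι :=
        ⟨(IsClosedImmersion.lift g J.subschemeι hle') (j v), by
          rw [← Scheme.Hom.comp_apply, hr']
          rfl⟩
      rw [hrange] at hv
      exact hv ⟨v, rfl⟩

/-- From an affine open of a minimal closed subscheme with `P` and a minimal prime of its ring
we get a field valued point with `P`. -/
theorem field_point_of_affine_open [CompactSpace T] [QuasiSeparatedSpace T]
    (P : ∀ ⦃T' : Scheme.{u}⦄, (T' ⟶ T) → Prop) (h1 : H1 P) (h2 : H2 P) (h3 : H3 P)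
    (J : T.IdealSheafData)
    (hJ : Maximal (fun J : T.IdealSheafData => J ≠ ⊤ ∧ P J.subschemeι) J)
    (A : Type u) [CommRing A] (φ : Spec (CommRingCat.of A) ⟶ J.subscheme) [IsOpenImmersion φ]
    (p : Ideal A) (hp : p ∈ minimalPrimes A) :
    ∃ (K : Type u) (_ : Field K) (t : Spec (CommRingCat.of K) ⟶ T), P t := by
  haveI : p.IsPrime := hp.1.1
  haveI := compact_sub J
  haveI := qs_sub J
  let s : LocAwayLimH7.DS A p ⟶ (Functor.const _).obj T :=
    LocAwayLimH7.toBase A p ≫ (Functor.const _).map (φ ≫ J.subschemeι)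
  let b : Spec (CommRingCat.of (Localization.AtPrime p)) ⟶ T :=
    Spec.map (CommRingCat.ofHom (algebraMap A (Localization.AtPrime p))) ≫ φ ≫ J.subschemeι
  have hp' : ∀ f, (LocAwayLimH7.coneS A p).π.app f ≫ s.app f = b := by
    intro f
    show (LocAwayLimH7.coneS A p).π.app f ≫
      ((LocAwayLimH7.toBase A p).app f ≫ (φ ≫ J.subschemeι)) = b
    rw [← Category.assoc, LocAwayLimH7.coneS_π_toBase]
    rfl
  have hcn : IsLimit (Over.liftCone (LocAwayLimH7.DS A p) s (LocAwayLimH7.coneS A p) b hp') :=
    Over.isLimitLiftCone _ s _ b hp' (LocAwayLimH7.isLimitConeS A p)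
  have hPb : P b := by
    have hP := h2 (Over.lift (LocAwayLimH7.DS A p) s)
      (Over.liftCone (LocAwayLimH7.DS A p) s (LocAwayLimH7.coneS A p) b hp') hcn ?_ ?_ ?_
    · exact hP
    · intro i j m
      exact show IsAffineHom ((LocAwayLimH7.DS A p).map m) from inferInstance
    · intro i
      exact ⟨show CompactSpace ((LocAwayLimH7.DS A p).obj i) from inferInstance,
        show QuasiSeparatedSpace ((LocAwayLimH7.DS A p).obj i) from inferInstance⟩
    · intro i
      show P ((LocAwayLimH7.toBase A p).app i ≫ (φ ≫ J.subschemeι))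
      rw [← Category.assoc]
      haveI : IsOpenImmersion ((LocAwayLimH7.toBase A p).app i) := by
        rw [LocAwayLimH7.toBase_app]
        exact IsOpenImmersion.of_isLocalization i.unop.val
      obtain ⟨z⟩ : Nonempty ↥(Spec (CommRingCat.of (Localization.AtPrime p))) := inferInstance
      haveI : Nonempty ↥((LocAwayLimH7.DS A p).obj i) :=
        ⟨((LocAwayLimH7.coneS A p).π.app i) z⟩
      exact open_piece P h1 h3 J hJ ((LocAwayLimH7.toBase A p).app i ≫ φ)
  -- pass to the residue field
  have hx : ∀ x : PrimeSpectrum (Localization.AtPrime p),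
      x.asIdeal = IsLocalRing.maximalIdeal (Localization.AtPrime p) := by
    intro x
    apply le_antisymm (IsLocalRing.le_maximalIdeal x.isPrime.ne_top)
    have hrad := IsLocalization.AtPrime.radical_map_of_mem_minimalPrimes
      (A := Localization.AtPrime p) p ⊥ hp
    rw [Ideal.map_bot, IsLocalization.AtPrime.map_eq_maximalIdeal p (Localization.AtPrime p)]
      at hrad
    rw [← hrad]
    exact (Ideal.IsPrime.radical_le_iff x.isPrime).2 bot_le
  haveI : IsClosedImmersion (Spec.map (CommRingCat.ofHom
      (IsLocalRing.residue (Localization.AtPrime p)))) :=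
    IsClosedImmersion.spec_of_surjective _ (fun x => IsLocalRing.residue_surjective x)
  haveI : Surjective (Spec.map (CommRingCat.ofHom
      (IsLocalRing.residue (Localization.AtPrime p)))) := ⟨fun x => by
    have h1' : (Spec.map (CommRingCat.ofHom (IsLocalRing.residue (Localization.AtPrime p))))
        (⊥ : PrimeSpectrum (IsLocalRing.ResidueField (Localization.AtPrime p))) =
        IsLocalRing.closedPoint (Localization.AtPrime p) :=
      (Spec.map_apply _ _).trans (IsLocalRing.PrimeSpectrum.comap_residue _ _)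
    exact ⟨_, h1'.trans (PrimeSpectrum.ext (hx x).symm)⟩⟩
  exact ⟨IsLocalRing.ResidueField (Localization.AtPrime p), inferInstance,
    Spec.map (CommRingCat.ofHom (IsLocalRing.residue (Localization.AtPrime p))) ≫ b,
    (h1 b _).2 hPb⟩

/-- **S6666**. -/
theorem main6666 (T : Scheme.{u}) [CompactSpace T] [QuasiSeparatedSpace T] [Nonempty T]
    (P : ∀ ⦃T' : Scheme.{u}⦄, (T' ⟶ T) → Prop) (h1 : H1 P) (h2 : H2 P) (h3 : H3 P)
    (hT : P (𝟙 T)) :
    ∃ (K : Type u) (_ : Field K) (t : Spec (CommRingCat.of K) ⟶ T), P t := by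
  have hbot : (⊥ : T.IdealSheafData) ≠ ⊤ ∧ P (⊥ : T.IdealSheafData).subschemeι := by
    constructor
    · intro h
      haveI : IsEmpty (⊥ : T.IdealSheafData).subscheme := by
        rw [h]
        infer_instance
      obtain ⟨x⟩ := ‹Nonempty T›
      exact isEmptyElim ((inv (⊥ : T.IdealSheafData).subschemeι) x)
    · haveI := compact_sub (⊥ : T.IdealSheafData)
      haveI := qs_sub (⊥ : T.IdealSheafData)
      have h4 := h1 (𝟙 T) (⊥ : T.IdealSheafData).subschemeι
      rw [Category.comp_id] at h4
      exact h4.2 hT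
  obtain ⟨J, -, hJ⟩ := zorn_le_nonempty₀ {J : T.IdealSheafData | J ≠ ⊤ ∧ P J.subschemeι}
    (fun c hcS hc y hy => ⟨sSup c, chain_ub P h2 c (fun J hJ => hcS hJ) hc y hy,
      fun z hz => le_sSup hz⟩) ⊥ hbot
  have hZne : Nonempty ↥J.subscheme := by
    rw [← not_isEmpty_iff, ← Scheme.Hom.ker_eq_top_iff_isEmpty J.subschemeι,
      Scheme.IdealSheafData.ker_subschemeι]
    exact hJ.prop.1
  obtain ⟨x⟩ := hZne
  obtain ⟨_, ⟨U, hU, rfl⟩, hxU, -⟩ :=
    J.subscheme.isBasis_affineOpens.exists_subset_of_mem_open (Set.mem_univ x) isOpen_univ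
  have hU' : IsAffineOpen U := hU
  obtain ⟨y, -⟩ : ∃ y : Spec Γ(J.subscheme, U), hU'.fromSpec y = x := by
    have : x ∈ Set.range hU'.fromSpec := by
      rw [hU'.range_fromSpec]
      exact hxU
    exact this
  haveI := y.isPrime
  obtain ⟨p, hp, -⟩ := Ideal.exists_minimalPrimes_le (bot_le : (⊥ : Ideal Γ(J.subscheme, U)) ≤ y.asIdeal)
  exact @field_point_of_affine_open T _ _ P h1 h2 h3 J hJ Γ(J.subscheme, U) _ hU'.fromSpec
    (inferInstanceAs (IsOpenImmersion hU'.fromSpec)) p hp

end Groth.Agent.Lib.FieldPointH7
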