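import Mathlib

/-!
# Quotient of the spectrum of a field by a finite equivalence relation: algebra (helper6)

`K` a field, `L` a finite `K`-algebra (structure map `sa = algebraMap K L`), `sb : K →+* L` a
second ring map, with a "unit" `e : L → K` and a "composition" `c : L → L ⊗[sb, K, sa] L`.
Then `K` is finite over the equaliser `K'` of `sa, sb`, and `K ⊗[K'] K → L` is injective
(Artin's argument for groupoids).
-/

set_option autoImplicit false
universe u
open TensorProduct

namespace Groth.Agent.Lib.FieldQuotH6

variable {K L : Type u} [Field K] [CommRing L] [Algebra K L] (sb : K →+* L)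

/-- A copy of `L`, regarded as a `K`-algebra through `sb`. -/
def Tw (_sb : K →+* L) : Type u := L

instance : CommRing (Tw sb) := inferInstanceAs (CommRing L)

/-- The identity, as a ring isomorphism `L ≃+* Tw sb`. -/
def Tw.of : L ≃+* Tw sb := RingEquiv.refl L

instance : Algebra K (Tw sb) := RingHom.toAlgebra ((Tw.of sb).toRingHom.comp sb)

theorem Tw.algebraMap_apply (x : K) : algebraMap K (Tw sb) x = Tw.of sb (sb x) := rfl

/-- The equaliser of `algebraMap K L` and `sb`, a subfield of `K`. -/
def eqField : Subfield K where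
  carrier := {x | algebraMap K L x = sb x}
  mul_mem' {x y} hx hy := by
    show algebraMap K L (x * y) = sb (x * y)
    rw [map_mul, map_mul, hx, hy]
  one_mem' := by
    show algebraMap K L 1 = sb 1
    rw [map_one, map_one]
  add_mem' {x y} hx hy := by
    show algebraMap K L (x + y) = sb (x + y)
    rw [map_add, map_add, hx, hy]
  zero_mem' := by
    show algebraMap K L 0 = sb 0
    rw [map_zero, map_zero]
  neg_mem' {x} hx := by
    show algebraMap K L (-x) = sb (-x)
    rw [map_neg, map_neg, hx]
  inv_mem' x hx := by
    show algebraMap K L x⁻¹ = sb x⁻¹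
    by_cases h0 : x = 0
    · rw [h0, inv_zero, map_zero, map_zero]
    · have h1 : algebraMap K L x⁻¹ * algebraMap K L x = 1 := by
        rw [← map_mul, inv_mul_cancel₀ h0, map_one]
      have h2 : algebraMap K L x * sb x⁻¹ = 1 := by
        rw [hx, ← map_mul, mul_inv_cancel₀ h0, map_one]
      exact left_inv_eq_right_inv h1 h2

theorem mem_eqField {x : K} : x ∈ eqField sb ↔ algebraMap K L x = sb x := Iff.rfl

variable (e : L →+* K) (he1 : ∀ x, e (algebraMap K L x) = x) (he2 : ∀ x, e (sb x) = x)
  (c : L →+* Tw sb ⊗[K] L)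
  (hc1 : ∀ x : K, c (algebraMap K L x) = Tw.of sb (algebraMap K L x) ⊗ₜ[K] (1 : L))
  (hc2 : ∀ x : K, c (sb x) = (1 : Tw sb) ⊗ₜ[K] sb x)

include he1 he2 hc1 hc2 in
/-- Artin's lemma for groupoids: elements of `K` independent over the equaliser have independent
images under `sb`. -/
theorem linearIndepOn_sb {s : Finset K} :
    LinearIndepOn (eqField sb) id (s : Set K) → LinearIndepOn K (fun x : K => sb x) (s : Set K) := by
  classical
  refine Finset.induction_on s (fun _ => ?_) fun a s has ih hs => ?_
  · rw [Finset.coe_empty]; exact linearIndepOn_empty _ _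
  rw [Finset.coe_insert] at hs ⊢
  rw [linearIndepOn_insert (mt Finset.mem_coe.1 has)] at hs
  rw [linearIndepOn_insert (mt Finset.mem_coe.1 has)]
  refine ⟨ih hs.1, fun ha => ?_⟩
  rw [Finsupp.mem_span_image_iff_linearCombination] at ha
  obtain ⟨l, hl, hla⟩ := ha
  rw [Finsupp.linearCombination_apply_of_mem_supported K hl] at hla
  have hli : LinearIndependent K (fun i : (s : Set K) => sb i) := ih hs.1
  have hli' : LinearIndependent (Tw sb) (fun i : (s : Set K) => (1 : Tw sb) ⊗ₜ[K] sb i) :=
    Module.Flat.linearIndependent_one_tmul (S := Tw sb) hli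
  have h1 : c (sb a) = (1 : Tw sb) ⊗ₜ[K] sb a := hc2 a
  have h2 : c (sb a) = ∑ i ∈ s, Tw.of sb (algebraMap K L (l i)) ⊗ₜ[K] sb i := by
    rw [← hla, map_sum]
    refine Finset.sum_congr rfl fun i _ => ?_
    rw [Algebra.smul_def, map_mul, hc1, hc2, Algebra.TensorProduct.tmul_mul_tmul, mul_one,
      one_mul]
  have h3 : (1 : Tw sb) ⊗ₜ[K] sb a = ∑ i ∈ s, Tw.of sb (sb (l i)) ⊗ₜ[K] sb i := by
    rw [← hla, TensorProduct.tmul_sum]
    refine Finset.sum_congr rfl fun i _ => ?_
    rw [TensorProduct.tmul_smul, TensorProduct.smul_tmul', Algebra.smul_def, mul_one,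
      Tw.algebraMap_apply]
  have h4 : ∑ i ∈ s, (Tw.of sb (algebraMap K L (l i)) - Tw.of sb (sb (l i))) ⊗ₜ[K] sb i = 0 := by
    simp_rw [TensorProduct.sub_tmul]
    rw [Finset.sum_sub_distrib, ← h2, ← h3, h1, sub_self]
  have key : ∀ i ∈ s, l i ∈ eqField sb := by
    intro i his
    have h5 : ∑ j ∈ s.attach, (Tw.of sb (algebraMap K L (l j)) - Tw.of sb (sb (l j))) •
        ((1 : Tw sb) ⊗ₜ[K] sb (j : K)) = 0 := by
      rw [← h4, ← Finset.sum_attach s]
      refine Finset.sum_congr rfl fun j _ => ?_
      rw [TensorProduct.smul_tmul', smul_eq_mul, mul_one]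
    have h6 := linearIndependent_iff'.1 hli' s.attach
      (fun j => Tw.of sb (algebraMap K L (l j)) - Tw.of sb (sb (l j))) h5 ⟨i, his⟩
      (Finset.mem_attach _ _)
    have h7 : Tw.of sb (algebraMap K L (l i)) = Tw.of sb (sb (l i)) := sub_eq_zero.1 h6
    exact (Tw.of sb).injective h7
  apply hs.2
  have h8 : a = ∑ i ∈ s, l i * i := by
    have := congrArg e hla
    rw [map_sum, he2] at this
    rw [← this]
    refine Finset.sum_congr rfl fun i _ => ?_
    rw [Algebra.smul_def, map_mul, he1, he2]
  show a ∈ Submodule.span (eqField sb) (id '' (s : Set K))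
  rw [h8]
  refine Submodule.sum_mem _ fun i hi => ?_
  have h9 : l i * i = (⟨l i, key i hi⟩ : eqField sb) • i := rfl
  rw [h9]
  exact Submodule.smul_mem _ _ (Submodule.subset_span ⟨i, hi, rfl⟩)

section Consequences

variable [Module.Finite K L]

include he1 he2 hc1 hc2 in
theorem card_le_finrank (s : Finset K)
    (hs : LinearIndependent (eqField sb) fun i : s => (i : K)) :
    s.card ≤ Module.finrank K L := by
  have h1 : LinearIndepOn (eqField sb) id (s : Set K) := hs
  have h2 : LinearIndependent K (fun i : (s : Set K) => sb i) :=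
    linearIndepOn_sb sb e he1 he2 c hc1 hc2 h1
  have h3 := h2.fintype_card_le_finrank
  simpa using h3

include he1 he2 hc1 hc2 in
theorem finite_over_eqField : Module.Finite (eqField sb) K := by
  rw [← Module.rank_lt_aleph0_iff]
  refine lt_of_le_of_lt (rank_le (n := Module.finrank K L) fun s hs =>
    card_le_finrank sb e he1 he2 c hc1 hc2 s hs) (Cardinal.nat_lt_aleph0 _)

example : Algebra (eqField sb) L := inferInstance
example : IsScalarTower (eqField sb) K L := inferInstance
theorem algebraMap_eqField (r : eqField sb) : algebraMap (eqField sb) L r = algebraMap K L r := rfl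

/-- `sb` as a homomorphism of algebras over the equaliser. -/
def sbAlg : K →ₐ[eqField sb] L :=
  { sb with commutes' := fun r => ((r.2 : algebraMap K L r = sb r).symm : sb r = algebraMap K L r) }

/-- The comparison `K ⊗[K'] K → L`. -/
noncomputable def theta : K ⊗[eqField sb] K →ₐ[eqField sb] L :=
  Algebra.TensorProduct.productMap (IsScalarTower.toAlgHom (eqField sb) K L) (sbAlg sb)

theorem theta_tmul (x y : K) : theta sb (x ⊗ₜ y) = algebraMap K L x * sb y := rfl

include he1 he2 hc1 hc2 in
theorem theta_injective : Function.Injective (theta sb) := by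
  classical
  haveI := finite_over_eqField sb e he1 he2 c hc1 hc2
  let b := Module.Free.chooseBasis (eqField sb) K
  let B := Algebra.TensorProduct.basis K b
  -- independence of the images of the basis
  have hb : LinearIndependent K (fun i => sb (b i)) := by
    have h1 : LinearIndepOn (eqField sb) id ((Finset.univ.image b : Finset K) : Set K) := by
      rw [Finset.coe_image, Finset.coe_univ, Set.image_univ]
      exact b.linearIndependent.linearIndepOn_id
    have h2 := linearIndepOn_sb sb e he1 he2 c hc1 hc2 h1
    rw [Finset.coe_image, Finset.coe_univ, Set.image_univ] at h2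
    exact (linearIndepOn_range_iff b.injective (fun x : K => sb x)).1 h2
  rw [injective_iff_map_eq_zero]
  intro z hz
  have h3 : z = ∑ i, B.repr z i • B i := (B.sum_repr z).symm
  have h4 : theta sb z = ∑ i, B.repr z i • sb (b i) := by
    conv_lhs => rw [h3]
    rw [map_sum]
    refine Finset.sum_congr rfl fun i _ => ?_
    rw [Algebra.TensorProduct.basis_apply, TensorProduct.smul_tmul', theta_tmul, smul_eq_mul,
      mul_one, Algebra.smul_def]
  rw [hz] at h4
  have h5 := Fintype.linearIndependent_iff.1 hb (fun i => B.repr z i) h4.symm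
  rw [h3]
  exact Finset.sum_eq_zero fun i _ => by rw [h5 i, zero_smul]

include he1 he2 hc1 hc2 in
/-- If moreover `algebraMap K L` and `sb` are jointly epimorphic, `K ⊗[K'] K → L` is bijective. -/
theorem theta_bijective
    (hepi : ∀ (A : Type u) [CommRing A] (g h : L →+* A),
      (∀ x, g (algebraMap K L x) = h (algebraMap K L x)) → (∀ x, g (sb x) = h (sb x)) → g = h) :
    Function.Bijective (theta sb) := by
  refine ⟨theta_injective sb e he1 he2 c hc1 hc2, ?_⟩
  let f : CommRingCat.of (K ⊗[eqField sb] K) ⟶ CommRingCat.of L :=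
    CommRingCat.ofHom (theta sb).toRingHom
  haveI : CategoryTheory.Epi f := by
    refine ⟨fun {T} g h hgh => ?_⟩
    ext1
    apply hepi
    · intro x
      have := congrArg (fun m => m.hom (x ⊗ₜ[eqField sb] (1 : K))) hgh
      simpa [f, theta_tmul] using this
    · intro x
      have := congrArg (fun m => m.hom ((1 : K) ⊗ₜ[eqField sb] x)) hgh
      simpa [f, theta_tmul] using this
  have hfin : f.hom.Finite := by
    have h1 : ((theta sb).toRingHom.comp
        (Algebra.TensorProduct.includeLeftRingHom : K →+* K ⊗[eqField sb] K)) =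
        algebraMap K L := by
      ext x
      show theta sb (x ⊗ₜ 1) = algebraMap K L x
      rw [theta_tmul, map_one, mul_one]
    have h2 : (algebraMap K L).Finite := RingHom.finite_algebraMap.2 inferInstance
    rw [← h1] at h2
    exact RingHom.Finite.of_comp_finite h2
  exact RingHom.surjective_of_epi_of_finite f hfin

end Consequences

end Groth.Agent.Lib.FieldQuotH6
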