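import Groth.Agent.Lib.FieldQuot1_helper6
import Groth.Agent.Lib.EtaleField_helper4
import Groth.Agent.Lib.AlgSpPresent_helper6
import Groth.Agent.Lib.AlgSpFormal5_helper7

/-!
# Quotient of the spectrum of a field by an étale quasi-compact equivalence relation (helper6)

`main`: if `q : h_{Spec K} ⟶ X` has kernel pair represented by `R ⇉ Spec K` with étale
quasi-compact first projection, then `q` factors as `h_{Spec K} ⟶ h_{Spec K'} ⟶ X` with
`K'` a subfield of `K`, `K/K'` finite, and the second map a monomorphism.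
-/

set_option autoImplicit false
universe u
open CategoryTheory CategoryTheory.Limits AlgebraicGeometry Opposite TensorProduct

namespace Groth.Agent.Lib.FieldQuot2H6

open AlgSp Groth.Agent.Lib.FieldQuotH6 Groth.Agent.Lib.AlgSpEpi_helper7
  Groth.Agent.Lib.AlgSpFormal5_helper7 Groth.Agent.Lib.AlgSpPresent_helper6

variable {S : Scheme.{u}}

theorem isAffine_of_etale_of_quasiCompact (K : Type u) [Field K] {Y : Scheme.{u}}
    (φ : Y ⟶ Spec (CommRingCat.of K)) [Etale φ] [QuasiCompact φ] : IsAffine Y := by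
  haveI : DiscreteTopology Y := by
    rw [discreteTopology_iff_isOpen_singleton]
    intro x
    haveI := Groth.Agent.Lib.EtaleFieldH4.isOpenImmersion_fromSpecResidueField K φ x
    have h := (Y.fromSpecResidueField x).isOpenEmbedding.isOpen_range
    rwa [Scheme.range_fromSpecResidueField] at h
  haveI : CompactSpace Y := QuasiCompact.compactSpace_of_compactSpace φ
  haveI : Finite Y := finite_of_compact_of_discrete
  infer_instance

section SpHom

variable {A B C : Type u} [CommRing A] [CommRing B] [CommRing C]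

/-- `Spec` of a ring map as a morphism over `S`. -/
noncomputable def spHom (f : A →+* B)
    {strA : Spec (CommRingCat.of A) ⟶ S} {strB : Spec (CommRingCat.of B) ⟶ S}
    (h : Spec.map (CommRingCat.ofHom f) ≫ strA = strB) : Over.mk strB ⟶ Over.mk strA :=
  Over.homMk (Spec.map (CommRingCat.ofHom f)) h

lemma spHom_left (f : A →+* B)
    {strA : Spec (CommRingCat.of A) ⟶ S} {strB : Spec (CommRingCat.of B) ⟶ S}
    (h : Spec.map (CommRingCat.ofHom f) ≫ strA = strB) :
    (spHom f h).left = Spec.map (CommRingCat.ofHom f) := rfl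

lemma str_comp (f : A →+* B) (g : B →+* C) (strA : Spec (CommRingCat.of A) ⟶ S) :
    Spec.map (CommRingCat.ofHom g) ≫ Spec.map (CommRingCat.ofHom f) ≫ strA =
      Spec.map (CommRingCat.ofHom (g.comp f)) ≫ strA := by
  rw [CommRingCat.ofHom_comp, Spec.map_comp, Category.assoc]

lemma str_comp' {f : A →+* B} {g : B →+* C}
    {strA : Spec (CommRingCat.of A) ⟶ S} {strB : Spec (CommRingCat.of B) ⟶ S}
    {strC : Spec (CommRingCat.of C) ⟶ S}
    (hf : Spec.map (CommRingCat.ofHom f) ≫ strA = strB)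
    (hg : Spec.map (CommRingCat.ofHom g) ≫ strB = strC) :
    Spec.map (CommRingCat.ofHom (g.comp f)) ≫ strA = strC := by
  rw [← str_comp, hf, hg]

lemma spHom_comp (f : A →+* B) (g : B →+* C)
    {strA : Spec (CommRingCat.of A) ⟶ S} {strB : Spec (CommRingCat.of B) ⟶ S}
    {strC : Spec (CommRingCat.of C) ⟶ S}
    (hf : Spec.map (CommRingCat.ofHom f) ≫ strA = strB)
    (hg : Spec.map (CommRingCat.ofHom g) ≫ strB = strC) :
    spHom g hg ≫ spHom f hf = spHom (g.comp f) (str_comp' hf hg) := by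
  apply Over.OverMorphism.ext
  show Spec.map (CommRingCat.ofHom g) ≫ Spec.map (CommRingCat.ofHom f) =
    Spec.map (CommRingCat.ofHom (g.comp f))
  rw [CommRingCat.ofHom_comp, Spec.map_comp]

lemma spHom_eq_of_eq {f f' : A →+* B} (e : f = f')
    {strA : Spec (CommRingCat.of A) ⟶ S} {strB : Spec (CommRingCat.of B) ⟶ S}
    (h : Spec.map (CommRingCat.ofHom f) ≫ strA = strB)
    (h' : Spec.map (CommRingCat.ofHom f') ≫ strA = strB) : spHom f h = spHom f' h' := by
  subst e; rfl

lemma spHom_injective {f f' : A →+* B}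
    {strA : Spec (CommRingCat.of A) ⟶ S} {strB : Spec (CommRingCat.of B) ⟶ S}
    {h : Spec.map (CommRingCat.ofHom f) ≫ strA = strB}
    {h' : Spec.map (CommRingCat.ofHom f') ≫ strA = strB} (H : spHom f h = spHom f' h') :
    f = f' := by
  have h1 : Spec.map (CommRingCat.ofHom f) = Spec.map (CommRingCat.ofHom f') :=
    congrArg (fun m => m.left) H
  have h2 := Spec.map_injective h1
  exact congrArg (fun m => m.hom) h2

lemma exists_spHom {strA : Spec (CommRingCat.of A) ⟶ S} {strB : Spec (CommRingCat.of B) ⟶ S}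
    (r : Over.mk strB ⟶ Over.mk strA) :
    ∃ (f : A →+* B) (h : Spec.map (CommRingCat.ofHom f) ≫ strA = strB), r = spHom f h := by
  obtain ⟨φ, hφ⟩ := Spec.map_surjective
    (r.left : Spec (CommRingCat.of B) ⟶ Spec (CommRingCat.of A))
  have h : Spec.map (CommRingCat.ofHom φ.hom) ≫ strA = strB := by
    rw [CommRingCat.ofHom_hom, hφ]
    exact Over.w r
  refine ⟨φ.hom, h, ?_⟩
  apply Over.OverMorphism.ext
  rw [spHom_left, CommRingCat.ofHom_hom]
  exact hφ.symm

end SpHom

/-- Pulling back an fppf covering. -/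
lemma exists_cover_lift {U U' T : Over S} (c₀ : U ⟶ U') (h1 : Surjective c₀.left)
    (h2 : Flat c₀.left) (h3 : LocallyOfFinitePresentation c₀.left) (u₀ : T ⟶ U') :
    ∃ (T' : Over S) (w : T' ⟶ T) (x : T' ⟶ U), Epi ((yon S).map w) ∧ x ≫ c₀ = w ≫ u₀ := by
  have sq := (IsPullback.of_hasPullback u₀ c₀).map (Over.forget S)
  have hs : Surjective (pullback.fst u₀ c₀).left :=
    MorphismProperty.of_isPullback (P := @Surjective) sq.flip h1
  have hf : Flat (pullback.fst u₀ c₀).left :=
    MorphismProperty.of_isPullback (P := @Flat) sq.flip h2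
  have hp : LocallyOfFinitePresentation (pullback.fst u₀ c₀).left :=
    MorphismProperty.of_isPullback (P := @LocallyOfFinitePresentation) sq.flip h3
  exact ⟨pullback u₀ c₀, pullback.fst u₀ c₀, pullback.snd u₀ c₀, epi_yon_map _ hs hf hp,
    pullback.condition.symm⟩

section Core

variable {K L : Type u} [Field K] [CommRing L] [Algebra K L] (sb : K →+* L)
  (str : Spec (CommRingCat.of K) ⟶ S) (strR : Spec (CommRingCat.of L) ⟶ S)
  (ha : Spec.map (CommRingCat.ofHom (algebraMap K L)) ≫ str = strR)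
  (hb : Spec.map (CommRingCat.ofHom sb) ≫ str = strR)
  {X : Sp S} (q : (yon S).obj (Over.mk str) ⟶ X)
  (sq : IsPullback ((yon S).map (spHom (algebraMap K L) ha)) ((yon S).map (spHom sb hb)) q q)

include sq in
lemma exists_ringHom_lift {A : Type u} [CommRing A] (ξ η : K →+* A)
    {strA : Spec (CommRingCat.of A) ⟶ S}
    (hξ : Spec.map (CommRingCat.ofHom ξ) ≫ str = strA)
    (hη : Spec.map (CommRingCat.ofHom η) ≫ str = strA)
    (h : (yon S).map (spHom ξ hξ) ≫ q = (yon S).map (spHom η hη) ≫ q) :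
    ∃ f : L →+* A, f.comp (algebraMap K L) = ξ ∧ f.comp sb = η := by
  obtain ⟨r, h1, h2⟩ := (exists_rel_iff (spHom sb hb) (spHom (algebraMap K L) ha) q sq _
    (spHom ξ hξ) (spHom η hη)).2 h
  obtain ⟨f, hf, rfl⟩ := exists_spHom r
  refine ⟨f, ?_, ?_⟩
  · rw [spHom_comp] at h1
    exact spHom_injective h1
  · rw [spHom_comp] at h2
    exact spHom_injective h2

include sq in
lemma ringHom_ext' {A : Type u} [CommRing A] (g h : L →+* A)
    (h1 : g.comp (algebraMap K L) = h.comp (algebraMap K L)) (h2 : g.comp sb = h.comp sb) :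
    g = h := by
  have hg : Spec.map (CommRingCat.ofHom g) ≫ strR = Spec.map (CommRingCat.ofHom g) ≫ strR := rfl
  have hh : Spec.map (CommRingCat.ofHom h) ≫ strR = Spec.map (CommRingCat.ofHom g) ≫ strR := by
    rw [← ha, str_comp, str_comp, h1]
  have key : spHom g hg = spHom h hh := by
    apply (yon S).map_injective
    apply sq.hom_ext
    · rw [← Functor.map_comp, ← Functor.map_comp, spHom_comp, spHom_comp]
      exact congrArg _ (spHom_eq_of_eq h1 _ _)
    · rw [← Functor.map_comp, ← Functor.map_comp, spHom_comp, spHom_comp]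
      exact congrArg _ (spHom_eq_of_eq h2 _ _)
  exact spHom_injective key

include sq in
lemma exists_e : ∃ e : L →+* K, (∀ x, e (algebraMap K L x) = x) ∧ (∀ x, e (sb x) = x) := by
  have hid : Spec.map (CommRingCat.ofHom (RingHom.id K)) ≫ str = str := by
    rw [CommRingCat.ofHom_id, Spec.map_id, Category.id_comp]
  obtain ⟨e, h1, h2⟩ := exists_ringHom_lift sb str strR ha hb q sq (RingHom.id K) (RingHom.id K)
    hid hid rfl
  exact ⟨e, fun x => RingHom.congr_fun h1 x, fun x => RingHom.congr_fun h2 x⟩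

include sq in
lemma exists_c : ∃ c : L →+* Tw sb ⊗[K] L,
    (∀ x : K, c (algebraMap K L x) = Tw.of sb (algebraMap K L x) ⊗ₜ[K] (1 : L)) ∧
    (∀ x : K, c (sb x) = (1 : Tw sb) ⊗ₜ[K] sb x) := by
  let ι₁ : L →+* Tw sb ⊗[K] L :=
    (Algebra.TensorProduct.includeLeftRingHom : Tw sb →+* Tw sb ⊗[K] L).comp (Tw.of sb).toRingHom
  let ι₂ : L →+* Tw sb ⊗[K] L :=
    (Algebra.TensorProduct.includeRight : L →ₐ[K] Tw sb ⊗[K] L).toRingHom
  have hmid : ι₁.comp sb = ι₂.comp (algebraMap K L) := by
    ext x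
    show (Tw.of sb (sb x)) ⊗ₜ[K] (1 : L) = (1 : Tw sb) ⊗ₜ[K] (algebraMap K L x)
    rw [← Tw.algebraMap_apply, Algebra.algebraMap_eq_smul_one, Algebra.algebraMap_eq_smul_one,
      TensorProduct.smul_tmul]
  have h₁ : Spec.map (CommRingCat.ofHom ι₁) ≫ strR = Spec.map (CommRingCat.ofHom ι₁) ≫ strR := rfl
  have h₂ : Spec.map (CommRingCat.ofHom ι₂) ≫ strR = Spec.map (CommRingCat.ofHom ι₁) ≫ strR := by
    calc Spec.map (CommRingCat.ofHom ι₂) ≫ strR
        = Spec.map (CommRingCat.ofHom ι₂) ≫ Spec.map (CommRingCat.ofHom (algebraMap K L)) ≫ str := by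
          rw [ha]
      _ = Spec.map (CommRingCat.ofHom (ι₂.comp (algebraMap K L))) ≫ str := str_comp _ _ _
      _ = Spec.map (CommRingCat.ofHom (ι₁.comp sb)) ≫ str := by rw [hmid]
      _ = Spec.map (CommRingCat.ofHom ι₁) ≫ Spec.map (CommRingCat.ofHom sb) ≫ str :=
          (str_comp _ _ _).symm
      _ = Spec.map (CommRingCat.ofHom ι₁) ≫ strR := by rw [hb]
  have hξ := str_comp' ha h₁
  have hη := str_comp' hb h₂
  have e1 : spHom ι₁ h₁ ≫ spHom (algebraMap K L) ha = spHom (ι₁.comp (algebraMap K L)) hξ :=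
    spHom_comp _ _ _ _
  have e3 : spHom ι₂ h₂ ≫ spHom sb hb = spHom (ι₂.comp sb) hη := spHom_comp _ _ _ _
  have e2 : spHom ι₁ h₁ ≫ spHom sb hb = spHom ι₂ h₂ ≫ spHom (algebraMap K L) ha := by
    rw [spHom_comp, spHom_comp]
    exact spHom_eq_of_eq hmid _ _
  have h : (yon S).map (spHom (ι₁.comp (algebraMap K L)) hξ) ≫ q =
      (yon S).map (spHom (ι₂.comp sb) hη) ≫ q := by
    calc (yon S).map (spHom (ι₁.comp (algebraMap K L)) hξ) ≫ q
        = (yon S).map (spHom ι₁ h₁) ≫ (yon S).map (spHom (algebraMap K L) ha) ≫ q := by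
          rw [← e1, Functor.map_comp, Category.assoc]
      _ = (yon S).map (spHom ι₁ h₁) ≫ (yon S).map (spHom sb hb) ≫ q := by rw [sq.w]
      _ = (yon S).map (spHom ι₂ h₂) ≫ (yon S).map (spHom (algebraMap K L) ha) ≫ q := by
          rw [← Category.assoc, ← Functor.map_comp, e2, Functor.map_comp, Category.assoc]
      _ = (yon S).map (spHom ι₂ h₂) ≫ (yon S).map (spHom sb hb) ≫ q := by rw [sq.w]
      _ = (yon S).map (spHom (ι₂.comp sb) hη) ≫ q := by
          rw [← e3, Functor.map_comp, Category.assoc]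
  obtain ⟨c, hc1, hc2⟩ := exists_ringHom_lift sb str strR ha hb q sq _ _ hξ hη h
  exact ⟨c, fun x => RingHom.congr_fun hc1 x, fun x => RingHom.congr_fun hc2 x⟩

include sq in
theorem core (het : Algebra.Etale K L) :
    ∃ (K' : Type u) (_ : Field K') (str' : Spec (CommRingCat.of K') ⟶ S)
      (c₀ : Over.mk str ⟶ Over.mk str') (q' : (yon S).obj (Over.mk str') ⟶ X),
      (yon S).map c₀ ≫ q' = q ∧ Mono q' ∧ IsFinite c₀.left ∧ Surjective c₀.left ∧
        Flat c₀.left := by
  haveI : Module.Finite K L := Algebra.FormallyUnramified.finite_of_free K L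
  obtain ⟨e, he1, he2⟩ := exists_e sb str strR ha hb q sq
  obtain ⟨c, hc1, hc2⟩ := exists_c sb str strR ha hb q sq
  have hepi : ∀ (A : Type u) [CommRing A] (g h : L →+* A),
      (∀ x, g (algebraMap K L x) = h (algebraMap K L x)) → (∀ x, g (sb x) = h (sb x)) → g = h :=
    fun A _ g h h1 h2 => ringHom_ext' sb str strR ha hb q sq g h (RingHom.ext h1) (RingHom.ext h2)
  have hbij := theta_bijective sb e he1 he2 c hc1 hc2 hepi
  haveI hfin : Module.Finite (eqField sb) K := finite_over_eqField sb e he1 he2 c hc1 hc2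
  -- the structure morphism of the quotient
  obtain ⟨s, φ, hstr⟩ : ∃ (s : S) (φ : S.residueField s ⟶ CommRingCat.of K),
      Spec.map φ ≫ S.fromSpecResidueField s = str :=
    ⟨_, _, (Scheme.SpecToEquivOfField K S).left_inv str⟩
  have hφ : ∀ z, φ.hom z ∈ eqField sb := by
    intro z
    have h1 : Spec.map (CommRingCat.ofHom (algebraMap K L)) ≫ Spec.map φ ≫
        S.fromSpecResidueField s =
        Spec.map (CommRingCat.ofHom sb) ≫ Spec.map φ ≫ S.fromSpecResidueField s := by
      rw [hstr, ha, hb]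
    rw [← Category.assoc, ← Category.assoc, cancel_mono, ← Spec.map_comp, ← Spec.map_comp] at h1
    have h2 := Spec.map_injective h1
    exact congrArg (fun m => m.hom z) h2
  let φ' : S.residueField s →+* eqField sb := φ.hom.codRestrict (eqField sb) hφ
  have hφ' : CommRingCat.ofHom φ' ≫ CommRingCat.ofHom (algebraMap (eqField sb) K) = φ := by
    ext z; rfl
  obtain ⟨str', hc0⟩ : ∃ str' : Spec (CommRingCat.of (eqField sb)) ⟶ S,
      Spec.map (CommRingCat.ofHom (algebraMap (eqField sb) K)) ≫ str' = str :=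
    ⟨Spec.map (CommRingCat.ofHom φ') ≫ S.fromSpecResidueField s, by
      rw [← hstr, ← hφ', Spec.map_comp, Category.assoc]⟩
  let c₀ : Over.mk str ⟶ Over.mk str' := spHom (algebraMap (eqField sb) K) hc0
  have hc0left : c₀.left = Spec.map (CommRingCat.ofHom (algebraMap (eqField sb) K)) := rfl
  have hfinite : IsFinite c₀.left := by
    rw [hc0left, IsFinite.SpecMap_iff]
    exact RingHom.finite_algebraMap.2 inferInstance
  have hflat : Flat c₀.left := by
    rw [hc0left, Flat.SpecMap_iff]
    exact RingHom.flat_algebraMap_iff.2 inferInstance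
  have hlfp : LocallyOfFinitePresentation c₀.left := by
    rw [hc0left, LocallyOfFinitePresentation.SpecMap_iff]
    haveI : Algebra.FinitePresentation (eqField sb) K :=
      Algebra.FinitePresentation.of_finiteType.mp inferInstance
    exact RingHom.finitePresentation_algebraMap.2 inferInstance
  have hsurj : Surjective c₀.left := by
    constructor
    intro p
    have h1 : Subsingleton ↥(Spec (CommRingCat.of (eqField sb))) := by
      change Subsingleton (PrimeSpectrum (eqField sb)); infer_instance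
    have h2 : Nonempty ↥(Spec (CommRingCat.of K)) := by
      change Nonempty (PrimeSpectrum K); infer_instance
    exact ⟨h2.some, @Subsingleton.elim _ h1 _ _⟩
  -- the kernel pair of `c₀`
  let incL : K →+* K ⊗[eqField sb] K := Algebra.TensorProduct.includeLeftRingHom
  let incR : K →+* K ⊗[eqField sb] K :=
    (Algebra.TensorProduct.includeRight : K →ₐ[eqField sb] K ⊗[eqField sb] K).toRingHom
  have hw : incL.comp (algebraMap (eqField sb) K) = incR.comp (algebraMap (eqField sb) K) :=
    congrArg (fun m => m.hom) (CommRingCat.isPushout_tensorProduct (eqField sb) K K).w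
  have hp1 : Spec.map (CommRingCat.ofHom incL) ≫ str = Spec.map (CommRingCat.ofHom incL) ≫ str :=
    rfl
  have hp2 : Spec.map (CommRingCat.ofHom incR) ≫ str = Spec.map (CommRingCat.ofHom incL) ≫ str := by
    calc Spec.map (CommRingCat.ofHom incR) ≫ str
        = Spec.map (CommRingCat.ofHom incR) ≫
            Spec.map (CommRingCat.ofHom (algebraMap (eqField sb) K)) ≫ str' := by rw [hc0]
      _ = Spec.map (CommRingCat.ofHom (incR.comp (algebraMap (eqField sb) K))) ≫ str' :=
          str_comp _ _ _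
      _ = Spec.map (CommRingCat.ofHom (incL.comp (algebraMap (eqField sb) K))) ≫ str' := by
          rw [hw]
      _ = Spec.map (CommRingCat.ofHom incL) ≫
            Spec.map (CommRingCat.ofHom (algebraMap (eqField sb) K)) ≫ str' :=
          (str_comp _ _ _).symm
      _ = Spec.map (CommRingCat.ofHom incL) ≫ str := by rw [hc0]
  have kp0 : IsPullback (spHom incL hp1) (spHom incR hp2) c₀ c₀ := by
    refine IsPullback.of_map (Over.forget S) ?_ ?_
    · rw [spHom_comp, spHom_comp]
      exact spHom_eq_of_eq hw _ _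
    · exact isPullback_SpecMap_of_isPushout _ _ _ _
        (CommRingCat.isPushout_tensorProduct (eqField sb) K K)
  have kp := kp0.map (yon S)
  -- the comparison with `R`
  let E := AlgEquiv.ofBijective (theta sb) hbij
  let θ' : L →+* K ⊗[eqField sb] K := E.symm.toRingEquiv.toRingHom
  have hθ1 : θ'.comp (algebraMap K L) = incL := by
    ext x
    show E.symm (algebraMap K L x) = x ⊗ₜ[eqField sb] (1 : K)
    rw [AlgEquiv.symm_apply_eq]
    show algebraMap K L x = theta sb (x ⊗ₜ[eqField sb] (1 : K))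
    rw [theta_tmul, map_one, mul_one]
  have hθ2 : θ'.comp sb = incR := by
    ext x
    show E.symm (sb x) = (1 : K) ⊗ₜ[eqField sb] x
    rw [AlgEquiv.symm_apply_eq]
    show sb x = theta sb ((1 : K) ⊗ₜ[eqField sb] x)
    rw [theta_tmul, map_one, one_mul]
  have hr : Spec.map (CommRingCat.ofHom θ') ≫ strR = Spec.map (CommRingCat.ofHom incL) ≫ str := by
    rw [← ha, str_comp, hθ1]
  have er1 : spHom θ' hr ≫ spHom (algebraMap K L) ha = spHom incL hp1 := by
    rw [spHom_comp]
    exact spHom_eq_of_eq hθ1 _ _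
  have er2 : spHom θ' hr ≫ spHom sb hb = spHom incR hp2 := by
    rw [spHom_comp]
    exact spHom_eq_of_eq hθ2 _ _
  have hdesc : (yon S).map (spHom incL hp1) ≫ q = (yon S).map (spHom incR hp2) ≫ q := by
    rw [← er1, ← er2, Functor.map_comp, Functor.map_comp, Category.assoc, Category.assoc, sq.w]
  -- descent of `q`
  haveI hEepi : Epi ((yon S).map c₀) := epi_yon_map c₀ hsurj hflat hlfp
  haveI : EffectiveEpi ((yon S).map c₀) := effectiveEpi_of_epi _
  let q' : (yon S).obj (Over.mk str') ⟶ X := EffectiveEpi.desc ((yon S).map c₀) q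
    (fun {Z} g₁ g₂ hg => by
      calc g₁ ≫ q = (kp.lift g₁ g₂ hg ≫ (yon S).map (spHom incL hp1)) ≫ q := by
            rw [kp.lift_fst]
        _ = kp.lift g₁ g₂ hg ≫ (yon S).map (spHom incR hp2) ≫ q := by
            rw [Category.assoc, hdesc]
        _ = g₂ ≫ q := by rw [← Category.assoc, kp.lift_snd])
  have hfac : (yon S).map c₀ ≫ q' = q := EffectiveEpi.fac _ _ _
  have hac : spHom (algebraMap K L) ha ≫ c₀ = spHom sb hb ≫ c₀ := by
    rw [spHom_comp, spHom_comp]
    refine spHom_eq_of_eq ?_ _ _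
    ext x
    exact x.2
  have hmono : Mono q' := by
    refine ⟨fun {Z} u v huv => ?_⟩
    apply hom_ext_yon
    intro T t
    obtain ⟨u₀, hu₀⟩ := (yon S).map_surjective (t ≫ u)
    obtain ⟨v₀, hv₀⟩ := (yon S).map_surjective (t ≫ v)
    obtain ⟨T₁, w₁, x₁, hw₁, hx₁⟩ := exists_cover_lift c₀ hsurj hflat hlfp u₀
    obtain ⟨T₂, w₂, x₂, hw₂, hx₂⟩ := exists_cover_lift c₀ hsurj hflat hlfp (w₁ ≫ v₀)
    have h1 : (w₂ ≫ x₁) ≫ c₀ = (w₂ ≫ w₁) ≫ u₀ := by
      rw [Category.assoc, hx₁, Category.assoc]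
    have h2 : x₂ ≫ c₀ = (w₂ ≫ w₁) ≫ v₀ := by rw [hx₂, Category.assoc]
    have h3 : (yon S).map (w₂ ≫ x₁) ≫ q = (yon S).map x₂ ≫ q := by
      calc (yon S).map (w₂ ≫ x₁) ≫ q = (yon S).map ((w₂ ≫ x₁) ≫ c₀) ≫ q' := by
            rw [(yon S).map_comp (w₂ ≫ x₁) c₀, Category.assoc, hfac]
        _ = (yon S).map (w₂ ≫ w₁) ≫ (t ≫ u) ≫ q' := by
            rw [h1, (yon S).map_comp (w₂ ≫ w₁) u₀, hu₀, Category.assoc]
        _ = (yon S).map (w₂ ≫ w₁) ≫ (t ≫ v) ≫ q' := by
            congr 1
            rw [Category.assoc, Category.assoc, huv]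
        _ = (yon S).map (x₂ ≫ c₀) ≫ q' := by
            rw [h2, (yon S).map_comp (w₂ ≫ w₁) v₀, hv₀]
            simp only [Category.assoc]
        _ = (yon S).map x₂ ≫ q := by
            rw [(yon S).map_comp x₂ c₀, Category.assoc, hfac]
    obtain ⟨r, hr1, hr2⟩ := (exists_rel_iff (spHom sb hb) (spHom (algebraMap K L) ha) q sq _
      (w₂ ≫ x₁) x₂).2 h3
    have h4 : (w₂ ≫ w₁) ≫ u₀ = (w₂ ≫ w₁) ≫ v₀ := by
      rw [← h1, ← h2, ← hr1, ← hr2, Category.assoc, Category.assoc, hac]
    have h5 : (yon S).map (w₂ ≫ w₁) ≫ (t ≫ u) = (yon S).map (w₂ ≫ w₁) ≫ (t ≫ v) := by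
      rw [← hu₀, ← hv₀, ← Functor.map_comp, ← Functor.map_comp, h4]
    haveI : Epi ((yon S).map (w₂ ≫ w₁)) := by
      rw [Functor.map_comp]
      exact epi_comp _ _
    exact (cancel_epi _).1 h5
  exact ⟨eqField sb, inferInstance, str', c₀, q', hfac, hmono, hfinite, hsurj, hflat⟩

end Core

/-- The quotient of the spectrum of a field by an étale quasi-compact equivalence relation. -/
theorem main {K : Type u} [Field K] (str : Spec (CommRingCat.of K) ⟶ S) {X : Sp S}
    (q : (yon S).obj (Over.mk str) ⟶ X) {R : Over S} (a b : R ⟶ Over.mk str)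
    (sq : IsPullback ((yon S).map a) ((yon S).map b) q q) (het : Etale a.left)
    (hqc : QuasiCompact a.left) :
    ∃ (K' : Type u) (_ : Field K') (str' : Spec (CommRingCat.of K') ⟶ S)
      (c₀ : Over.mk str ⟶ Over.mk str') (q' : (yon S).obj (Over.mk str') ⟶ X),
      (yon S).map c₀ ≫ q' = q ∧ Mono q' ∧ IsFinite c₀.left ∧ Surjective c₀.left ∧
        Flat c₀.left := by
  haveI : IsAffine R.left :=
    isAffine_of_etale_of_quasiCompact K (a.left : R.left ⟶ Spec (CommRingCat.of K))
  let ρ := R.left.isoSpec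
  let sa : CommRingCat.of K ⟶ Γ(R.left, ⊤) := Spec.preimage (ρ.inv ≫ a.left)
  let sb : CommRingCat.of K ⟶ Γ(R.left, ⊤) := Spec.preimage (ρ.inv ≫ b.left)
  have hsa : Spec.map sa = ρ.inv ≫ a.left := Spec.map_preimage _
  have hsb : Spec.map sb = ρ.inv ≫ b.left := Spec.map_preimage _
  letI : Algebra K Γ(R.left, ⊤) := sa.hom.toAlgebra
  let strR : Spec (CommRingCat.of Γ(R.left, ⊤)) ⟶ S := ρ.inv ≫ R.hom
  have ha : Spec.map (CommRingCat.ofHom (algebraMap K Γ(R.left, ⊤))) ≫ str = strR := by
    show Spec.map sa ≫ str = ρ.inv ≫ R.hom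
    rw [hsa, Category.assoc]
    congr 1
    exact Over.w a
  have hb : Spec.map (CommRingCat.ofHom sb.hom) ≫ str = strR := by
    show Spec.map sb ≫ str = ρ.inv ≫ R.hom
    rw [hsb, Category.assoc]
    congr 1
    exact Over.w b
  let iso : Over.mk strR ≅ R := Over.isoMk ρ.symm rfl
  have hia : iso.hom ≫ a = spHom (algebraMap K Γ(R.left, ⊤)) ha := by
    apply Over.OverMorphism.ext
    exact hsa.symm
  have hib : iso.hom ≫ b = spHom sb.hom hb := by
    apply Over.OverMorphism.ext
    exact hsb.symm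
  have sq' : IsPullback ((yon S).map (spHom (algebraMap K Γ(R.left, ⊤)) ha))
      ((yon S).map (spHom sb.hom hb)) q q := by
    refine sq.of_iso ((yon S).mapIso iso.symm) (Iso.refl _) (Iso.refl _) (Iso.refl _) ?_ ?_
      (by simp) (by simp)
    · rw [← hia, Functor.map_comp, Iso.refl_hom, Category.comp_id, Functor.mapIso_hom,
        Iso.symm_hom, ← Category.assoc, ← Functor.map_comp, Iso.inv_hom_id, (yon S).map_id,
        Category.id_comp]
    · rw [← hib, Functor.map_comp, Iso.refl_hom, Category.comp_id, Functor.mapIso_hom,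
        Iso.symm_hom, ← Category.assoc, ← Functor.map_comp, Iso.inv_hom_id, (yon S).map_id,
        Category.id_comp]
  have hE : Algebra.Etale K Γ(R.left, ⊤) := by
    have h1 : Etale (Spec.map sa) := by
      rw [hsa]
      infer_instance
    rw [HasRingHomProperty.Spec_iff (P := @Etale)] at h1
    exact RingHom.etale_algebraMap.1 h1
  exact core sb.hom str strR ha hb q sq' hE

end Groth.Agent.Lib.FieldQuot2H6
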