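import Groth.Agent.Lib.FieldQuot4_helper6

/-!
# Étale quasi-compact schemes over a field are finite (helper6)
-/

set_option autoImplicit false
universe u
open CategoryTheory CategoryTheory.Limits AlgebraicGeometry Opposite TensorProduct

namespace Groth.Agent.Lib.FieldQuot5H6

open AlgSp Groth.Agent.Lib.FieldQuot2H6 Groth.Agent.Lib.FieldQuot3H6 Groth.Agent.Lib.FieldQuot4H6

variable {S : Scheme.{u}}

/-- A quasi-compact scheme étale over a field is finite over it. -/
theorem isFinite_of_etale_of_compactSpace (K : Type u) [Field K] {Y : Scheme.{u}}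
    (ψ : Y ⟶ Spec (CommRingCat.of K)) [Etale ψ] [CompactSpace ↥Y] : IsFinite ψ := by
  haveI : QuasiCompact ψ := inferInstance
  haveI : IsAffine Y := isAffine_of_etale_of_quasiCompact K ψ
  let ρ := Y.isoSpec
  let sa : CommRingCat.of K ⟶ Γ(Y, ⊤) := Spec.preimage (ρ.inv ≫ ψ)
  have hsa : Spec.map sa = ρ.inv ≫ ψ := Spec.map_preimage _
  letI : Algebra K Γ(Y, ⊤) := sa.hom.toAlgebra
  have hE : Algebra.Etale K Γ(Y, ⊤) := by
    have h1 : Etale (Spec.map sa) := by
      rw [hsa]
      infer_instance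
    rw [HasRingHomProperty.Spec_iff (P := @Etale)] at h1
    exact RingHom.etale_algebraMap.1 h1
  haveI : Module.Finite K Γ(Y, ⊤) := Algebra.FormallyUnramified.finite_of_free K Γ(Y, ⊤)
  have h2 : IsFinite (Spec.map sa) := by
    rw [IsFinite.SpecMap_iff]
    exact RingHom.finite_algebraMap.2 inferInstance
  have h3 : ψ = ρ.hom ≫ Spec.map sa := by rw [hsa, Iso.hom_inv_id_assoc]
  rw [h3]
  infer_instance

end Groth.Agent.Lib.FieldQuot5H6
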