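import Groth.Agent.Lib.FieldQuot6_helper6
import Groth.Agent.Lib.AlgSpDecent3_helper6
import Groth.Agent.Lib.MonicGsect_helper6
import Groth.Agent.Lib.AlgSpSmST_helper7
import Groth.Agent.Lib.AlgSpLocP4_helper7
import Groth.Agent.Lib.AlgSpEtale_helper7

/-!
# Descent of monomorphic points along quasi-compact étale morphisms (helper6)
-/

set_option autoImplicit false
universe u
open CategoryTheory CategoryTheory.Limits AlgebraicGeometry Opposite TensorProduct

namespace Groth.Agent.Lib.FieldQuot7H6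

open AlgSp Groth.Agent.Lib.FieldQuot2H6 Groth.Agent.Lib.FieldQuot3H6 Groth.Agent.Lib.FieldQuot4H6
  Groth.Agent.Lib.AlgSpPoints_helper7 Groth.Agent.Lib.AlgSpQC_helper7
  Groth.Agent.Lib.AlgSpQC2_helper7 Groth.Agent.Lib.AlgSpPullback_helper7
  Groth.Agent.Lib.AlgSpDecent3_helper6 Groth.Agent.Lib.AlgSpDecent4_helper6
  Groth.Agent.Lib.MonicGsectH6 Groth.Agent.Lib.AlgSpSmST_helper7
  Groth.Agent.Lib.AlgSpEtale_helper7

variable {S : Scheme.{u}}

/-- Let `f : X ⟶ Y` be quasi-compact and étale, `u` a point of an étale chart of `X` whose image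
in `|X|` has a monomorphic representative. Then `Spec κ(u) ×_Y Spec κ(u)` is a finite set. -/
theorem finite_stabiliser_of_qc_etale {X Y : Sp S} (hX : IsAlgSpace X) (hY : IsAlgSpace Y)
    (f : X ⟶ Y) (hq : IsQuasiCompactMor f) (he : IsEtaleMor f) {U : Over S}
    (φ : (yon S).obj U ⟶ X) (hφ : RepWith @Etale φ) (u : ↥U.left) (p : FieldPt X)
    (hm : Mono p.toHom) (hpu : Points.ofPt φ u = Points.mk p) {G : Over S}
    (a b : G ⟶ (FieldPt.ofPt φ u).pt)
    (sqG : IsPullback ((yon S).map a) ((yon S).map b) ((FieldPt.ofPt φ u).toHom ≫ f)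
      ((FieldPt.ofPt φ u).toHom ≫ f)) : Finite ↥G.left := by
  obtain ⟨c, hc⟩ := exists_factor_of_mono p (FieldPt.ofPt φ u) hm (hX.representable_from_yon _) hpu
  let ι : (FieldPt.ofPt φ u).pt ⟶ U := Over.homMk (U.left.fromSpecResidueField u) rfl
  have hqX : (FieldPt.ofPt φ u).toHom = (yon S).map ι ≫ φ := FieldPt.toHom_ofPt φ u
  haveI hmι : Mono ι := by
    have h1 : Mono ι.left := by
      change Mono (U.left.fromSpecResidueField u)
      infer_instance
    exact (Over.forget S).mono_of_mono_map h1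
  -- `c` is étale
  have sqTp := hφ.rep.isPullback' p.toHom
  have hwσ : (yon S).map ι ≫ φ = (yon S).map c ≫ p.toHom := by rw [hc, hqX]
  obtain ⟨σ, hσ⟩ := (yon S).map_surjective (sqTp.lift _ _ hwσ)
  have hσ1 : σ ≫ hφ.rep.fst' p.toHom = ι :=
    (yon S).map_injective (by rw [Functor.map_comp, hσ, sqTp.lift_fst])
  have hσ2 : σ ≫ hφ.rep.snd p.toHom = c :=
    (yon S).map_injective (by rw [Functor.map_comp, hσ, sqTp.lift_snd])
  haveI : Mono σ := mono_of_mono_fac hσ1
  haveI : Mono σ.left := inferInstance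
  haveI : Etale (hφ.rep.snd p.toHom).left := hφ.property_snd p.toHom
  haveI : IsOpenImmersion σ.left := isOpenImmersion_of_mono_of_etale_field p.K
    ((hφ.rep.snd p.toHom).left : _ ⟶ Spec (CommRingCat.of p.K)) σ.left
  have hce : Etale c.left := by
    rw [← hσ2]
    show Etale (σ.left ≫ (hφ.rep.snd p.toHom).left)
    infer_instance
  haveI hsub := subsingleton_spec_field (FieldPt.ofPt φ u).K
  have hcq : QuasiCompact c.left :=
    quasiCompact_of_subsingleton (X := Spec (CommRingCat.of (FieldPt.ofPt φ u).K)) c.left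
  -- the base change of `f` to the point
  have sqZ := IsPullback.of_hasPullback f ((FieldPt.ofPt φ u).toHom ≫ f)
  have hZ : IsAlgSpace (pullback f ((FieldPt.ofPt φ u).toHom ≫ f)) :=
    isAlgSpace_of_isPullback hY.diag hX (IsAlgSpace.yon_obj _) sqZ
  haveI : CompactSpace ↥(FieldPt.ofPt φ u).pt.left :=
    inferInstanceAs (CompactSpace ↥(Spec (CommRingCat.of (FieldPt.ofPt φ u).K)))
  have hZqc : IsQuasiCompactSp (pullback f ((FieldPt.ofPt φ u).toHom ≫ f)) :=
    hq (IsAlgSpace.yon_obj _) (isQuasiCompactSp_yon _) ((FieldPt.ofPt φ u).toHom ≫ f) _ _ sqZ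
  obtain ⟨W, π, hW, hπe, hπs⟩ := exists_affine_atlas hZqc
  have hsndZ : IsEtaleMor (pullback.snd f ((FieldPt.ofPt φ u).toHom ≫ f)) :=
    isEtaleMor_of_isPullback hX hY (IsAlgSpace.yon_obj _) sqZ he
  have hπ' : RepWith @Etale (π ≫ pullback.snd f ((FieldPt.ofPt φ u).toHom ≫ f)) := hsndZ π hπe
  obtain ⟨w, hw⟩ := (yon S).map_surjective (π ≫ pullback.snd f ((FieldPt.ofPt φ u).toHom ≫ f))
  rw [← hw, repWith_yon_map_iff] at hπ'
  haveI : Etale w.left := hπ'
  haveI : CompactSpace ↥W.left := by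
    haveI := hW
    infer_instance
  haveI hWfin : Finite ↥W.left := finite_of_etale_of_compactSpace (FieldPt.ofPt φ u).K
    (w.left : W.left ⟶ Spec (CommRingCat.of (FieldPt.ofPt φ u).K))
  -- `G` as a fibre product over `X`
  let γ : (yon S).obj G ⟶ pullback f ((FieldPt.ofPt φ u).toHom ≫ f) :=
    sqZ.lift ((yon S).map a ≫ (FieldPt.ofPt φ u).toHom) ((yon S).map b)
      (by rw [Category.assoc]; exact sqG.w)
  have hγ1 : γ ≫ pullback.fst f ((FieldPt.ofPt φ u).toHom ≫ f) =
      (yon S).map a ≫ (FieldPt.ofPt φ u).toHom := sqZ.lift_fst _ _ _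
  have hγ2 : γ ≫ pullback.snd f ((FieldPt.ofPt φ u).toHom ≫ f) = (yon S).map b :=
    sqZ.lift_snd _ _ _
  have sqL : IsPullback γ ((yon S).map a) (pullback.fst f ((FieldPt.ofPt φ u).toHom ≫ f))
      (FieldPt.ofPt φ u).toHom := by
    refine IsPullback.of_right ?_ hγ1 sqZ.flip
    rw [hγ2]
    exact sqG.flip
  -- the atlas pulled back to `G`
  have sqP := hπe.rep.isPullback' γ
  haveI hee : Etale (hπe.rep.snd γ).left := hπe.property_snd γ
  have hes : Surjective (hπe.rep.snd γ).left := hπs.property _ _ _ sqP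
  have sqPW : IsPullback ((yon S).map (hπe.rep.snd γ) ≫ (yon S).map a)
      ((yon S).map (hπe.rep.fst' γ)) (FieldPt.ofPt φ u).toHom
      (π ≫ pullback.fst f ((FieldPt.ofPt φ u).toHom ≫ f)) := sqP.flip.paste_horiz sqL.flip
  -- the fibre product of the monomorphic point with the atlas
  have hp := hX.representable_from_yon p.toHom
  have sqP₀ := hp.isPullback' (π ≫ pullback.fst f ((FieldPt.ofPt φ u).toHom ≫ f))
  haveI := hm
  haveI hmm : Mono ((yon S).map (hp.snd (π ≫ pullback.fst f ((FieldPt.ofPt φ u).toHom ≫ f)))) :=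
    sqP₀.mono_snd_of_mono
  haveI : Mono (hp.snd (π ≫ pullback.fst f ((FieldPt.ofPt φ u).toHom ≫ f))) :=
    (yon S).mono_of_mono_map hmm
  have hinj₀ := injective_left_of_mono (hp.snd (π ≫ pullback.fst f ((FieldPt.ofPt φ u).toHom ≫ f)))
  haveI hP₀fin : Finite ↥(hp.pullback (π ≫ pullback.fst f ((FieldPt.ofPt φ u).toHom ≫ f))).left :=
    Finite.of_injective _ hinj₀
  have hwν : (yon S).map ((hπe.rep.snd γ ≫ a) ≫ c) ≫ p.toHom =
      (yon S).map (hπe.rep.fst' γ) ≫ π ≫ pullback.fst f ((FieldPt.ofPt φ u).toHom ≫ f) := by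
    rw [Functor.map_comp, Category.assoc, hc, Functor.map_comp]
    exact sqPW.w
  obtain ⟨ν, hν⟩ := (yon S).map_surjective (sqP₀.lift _ _ hwν)
  have hν1 : ν ≫ hp.fst' (π ≫ pullback.fst f ((FieldPt.ofPt φ u).toHom ≫ f)) =
      (hπe.rep.snd γ ≫ a) ≫ c :=
    (yon S).map_injective (by rw [Functor.map_comp, hν, sqP₀.lift_fst])
  have hν2 : ν ≫ hp.snd (π ≫ pullback.fst f ((FieldPt.ofPt φ u).toHom ≫ f)) = hπe.rep.fst' γ :=
    (yon S).map_injective (by rw [Functor.map_comp, hν, sqP₀.lift_snd])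
  have sqν : IsPullback ((yon S).map (hπe.rep.snd γ ≫ a)) ((yon S).map ν) ((yon S).map c)
      ((yon S).map (hp.fst' (π ≫ pullback.fst f ((FieldPt.ofPt φ u).toHom ≫ f)))) := by
    refine IsPullback.of_bot ?_ ?_ sqP₀
    · rw [← Functor.map_comp, hν2, hc, Functor.map_comp]
      exact sqPW
    · rw [← Functor.map_comp, ← Functor.map_comp, hν1]
  have sqν' : IsPullback (hπe.rep.snd γ ≫ a) ν c
      (hp.fst' (π ≫ pullback.fst f ((FieldPt.ofPt φ u).toHom ≫ f))) :=
    IsPullback.of_map (yon S) hν1.symm sqν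
  have sqν'' := sqν'.map (Over.forget S)
  haveI hνe : Etale ν.left := MorphismProperty.of_isPullback (P := @Etale) sqν'' hce
  haveI hνq : QuasiCompact ν.left := MorphismProperty.of_isPullback (P := @QuasiCompact) sqν'' hcq
  haveI : LocallyQuasiFinite ν.left := locallyQuasiFinite_of_unramified ν.left
  have hPfin : Finite ↥(hπe.rep.pullback γ).left := by
    have h1 : (Set.univ : Set ↥(hπe.rep.pullback γ).left).Finite := by
      refine Set.Finite.of_finite_fibers ν.left (Set.toFinite _) (fun y _ => ?_)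
      rw [Set.univ_inter]
      exact ν.left.finite_preimage_singleton y
    exact Set.finite_univ_iff.1 h1
  exact Finite.of_surjective (hπe.rep.snd γ).left hes.surj

end Groth.Agent.Lib.FieldQuot7H6
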