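import Groth.Agent.Lib.FieldQuot7_helper6
import Groth.Agent.Lib.AlgSpDecentZar_helper6

/-!
# Decent morphisms are étale local on the target (helper6)
-/

set_option autoImplicit false
universe u
open CategoryTheory CategoryTheory.Limits AlgebraicGeometry Opposite TensorProduct

namespace Groth.Agent.Lib.FieldQuot8H6

open AlgSp Groth.Agent.Lib.FieldQuot2H6 Groth.Agent.Lib.FieldQuot3H6 Groth.Agent.Lib.FieldQuot4H6
  Groth.Agent.Lib.FieldQuot7H6
  Groth.Agent.Lib.AlgSpPoints_helper7 Groth.Agent.Lib.AlgSpQC_helper7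
  Groth.Agent.Lib.AlgSpQC2_helper7 Groth.Agent.Lib.AlgSpPullback_helper7
  Groth.Agent.Lib.AlgSpDecent3_helper6 Groth.Agent.Lib.AlgSpDecent4_helper6
  Groth.Agent.Lib.AlgSpDecentZar_helper6

variable {S : Scheme.{u}}

/-- The image of a point with a quasi-compact monomorphic representative under a quasi-compact
étale morphism has a quasi-compact monomorphic representative. -/
theorem exists_qc_mono_point_map {X Y : Sp S} (hX : IsAlgSpace X) (hY : IsAlgSpace Y) (f : X ⟶ Y)
    (hq : IsQuasiCompactMor f) (he : IsEtaleMor f) (p : FieldPt X) (hm : Mono p.toHom)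
    (hpq : RepWith @QuasiCompact p.toHom) :
    ∃ q : FieldPt Y, Points.mk q = Points.map f (Points.mk p) ∧ Mono q.toHom ∧
      RepWith @QuasiCompact q.toHom := by
  obtain ⟨U, φ, hφe, hφs⟩ := hX.atlas
  obtain ⟨u, hu⟩ := ofPt_surjective φ hφs (Points.mk p)
  have hφY : RepWith @Etale (φ ≫ f) := he φ hφe
  have hrep := hY.representable_from_yon (FieldPt.ofPt (φ ≫ f) u).toHom
  obtain ⟨G, a, b, sq⟩ : ∃ (G : Over S) (a b : G ⟶ (FieldPt.ofPt (φ ≫ f) u).pt),
      IsPullback ((yon S).map a) ((yon S).map b) (FieldPt.ofPt (φ ≫ f) u).toHom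
        (FieldPt.ofPt (φ ≫ f) u).toHom := ⟨_, _, _, hrep.isPullback' _⟩
  have hto : (FieldPt.ofPt (φ ≫ f) u).toHom = (FieldPt.ofPt φ u).toHom ≫ f := by
    rw [FieldPt.toHom_ofPt, FieldPt.toHom_ofPt, Category.assoc]
    rfl
  have sq' := sq
  rw [hto] at sq'
  have hfin : Finite ↥G.left :=
    finite_stabiliser_of_qc_etale hX hY f hq he φ hφe u p hm hu a b sq'
  obtain ⟨q, hq1, hq2, hq3⟩ := exists_mono_point hY (φ ≫ f) hφY u u rfl a b sq inferInstance
  refine ⟨q, ?_, hq2, hq3 ?_⟩
  · rw [hq1, ← Points.map_ofPt, hu]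
  · rw [hto]
    have h1 : RepWith @QuasiCompact (FieldPt.ofPt φ u).toHom :=
      repWith_quasiCompact_of_mono p _ hm hpq hu
    apply repWith_quasiCompact_of_isQuasiCompactMor _ (hY.representable_from_yon _)
    exact Groth.Agent.Lib.AlgSpLocP4_helper7.isQuasiCompactMor_comp hX hY.diag _ _
      (isQuasiCompactMor_of_repWith _ h1) hq

section Local

variable {X Y : Sp S} (hX : IsAlgSpace X) (hY : IsAlgSpace Y) (f : X ⟶ Y) {V : Over S}
  (p : (yon S).obj V ⟶ Y) (hp : RepWith @Etale p) (hps : RepWith @Surjective p) {X' : Sp S}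
  (fst : X' ⟶ X) (snd : X' ⟶ (yon S).obj V) (hsq : IsPullback fst snd f p)
  (h : IsDecentMor snd)

include hX hY hp hps hsq h in
theorem isDecent_pullback_of_affine {T : Over S} (hT : IsAffine T.left) {F' : Sp S}
    (g : (yon S).obj T ⟶ Y) (fst' : F' ⟶ X) (snd' : F' ⟶ (yon S).obj T)
    (sq' : IsPullback fst' snd' f g) : IsDecent F' := by
  have hF' : IsAlgSpace F' := isAlgSpace_of_isPullback hY.diag hX (IsAlgSpace.yon_obj T) sq'
  intro x
  obtain ⟨t, ht⟩ := ofScheme_surjective T (Points.map snd' x)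
  have sqT := hp.rep.isPullback' g
  have hes : Surjective (hp.rep.snd g).left := hps.property _ _ _ sqT
  haveI hee : Etale (hp.rep.snd g).left := hp.property_snd g
  obtain ⟨t', ht'⟩ := hes.surj t
  obtain ⟨A, hA, htA, -⟩ := exists_isAffineOpen_mem_and_subset (x := t') (U := ⊤) trivial
  let TA : Over S := Over.mk (A.ι ≫ (hp.rep.pullback g).hom)
  let jA : TA ⟶ hp.rep.pullback g := Over.homMk A.ι rfl
  have hεe : Etale (jA ≫ hp.rep.snd g).left := by
    show Etale (A.ι ≫ (hp.rep.snd g).left)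
    infer_instance
  haveI hAaff : IsAffine (A : Scheme.{u}) := hA
  have hεq : QuasiCompact (jA ≫ hp.rep.snd g).left := by
    haveI := hT
    show QuasiCompact (A.ι ≫ (hp.rep.snd g).left)
    infer_instance
  have hεV : (yon S).map (jA ≫ hp.rep.snd g) ≫ g = (yon S).map (jA ≫ hp.rep.fst' g) ≫ p := by
    rw [Functor.map_comp, Functor.map_comp, Category.assoc, Category.assoc, sqT.w]
  have sqA := IsPullback.of_hasPullback snd' ((yon S).map (jA ≫ hp.rep.snd g))
  have big := sqA.paste_horiz sq'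
  rw [hεV] at big
  let l : pullback snd' ((yon S).map (jA ≫ hp.rep.snd g)) ⟶ X' :=
    hsq.lift (pullback.fst snd' ((yon S).map (jA ≫ hp.rep.snd g)) ≫ fst')
      (pullback.snd snd' ((yon S).map (jA ≫ hp.rep.snd g)) ≫ (yon S).map (jA ≫ hp.rep.fst' g))
      (by rw [Category.assoc]; exact big.w)
  have hl1 : l ≫ fst = pullback.fst snd' ((yon S).map (jA ≫ hp.rep.snd g)) ≫ fst' :=
    hsq.lift_fst _ _ _
  have hl2 : l ≫ snd = pullback.snd snd' ((yon S).map (jA ≫ hp.rep.snd g)) ≫
      (yon S).map (jA ≫ hp.rep.fst' g) := hsq.lift_snd _ _ _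
  have sqXA : IsPullback l (pullback.snd snd' ((yon S).map (jA ≫ hp.rep.snd g))) snd
      ((yon S).map (jA ≫ hp.rep.fst' g)) := by
    refine IsPullback.of_right ?_ hl2 hsq
    rw [hl1]
    exact big
  have hXAd : IsDecent (pullback snd' ((yon S).map (jA ≫ hp.rep.snd g))) := h _ _ _ sqXA
  have hXA : IsAlgSpace (pullback snd' ((yon S).map (jA ≫ hp.rep.snd g))) :=
    isAlgSpace_of_isPullback (IsAlgSpace.yon_obj T).diag hF' (IsAlgSpace.yon_obj TA) sqA
  -- lift the point
  have hpt : Points.map snd' x = Points.map ((yon S).map (jA ≫ hp.rep.snd g))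
      (Points.ofScheme TA (⟨t', htA⟩ : A)) := by
    rw [← Points.ofPt_eq_map_ofScheme, ofPt_yon_map, ← ht]
    congr 1
    exact ht'.symm
  obtain ⟨z, hz, -⟩ := exists_of_isPullback sqA x _ hpt
  obtain ⟨pA, hpA, hpAm, hpAq⟩ := hXAd z
  have hfq : IsQuasiCompactMor (pullback.fst snd' ((yon S).map (jA ≫ hp.rep.snd g))) :=
    isQuasiCompactMor_of_repWith _
      (repWith_fst_of_isPullback _ sqA ((repWith_yon_map_iff _ _).2 hεq))
  have hfe : IsEtaleMor (pullback.fst snd' ((yon S).map (jA ≫ hp.rep.snd g))) :=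
    fun _ _ hφ => repWith_comp _ hφ
      (repWith_fst_of_isPullback _ sqA ((repWith_yon_map_iff _ _).2 hεe))
  obtain ⟨q, hq1, hq2, hq3⟩ := exists_qc_mono_point_map hXA hF' _ hfq hfe pA hpAm hpAq
  exact ⟨q, by rw [hq1, hpA, hz], hq2, hq3⟩

include hX hY hp hps hsq h in
/-- A morphism whose base change to an étale covering of the target is decent is decent. -/
theorem isDecentMor_of_etale_cover : IsDecentMor f := by
  intro T F' g fst' snd' sq'
  have hF' : IsAlgSpace F' := isAlgSpace_of_isPullback hY.diag hX (IsAlgSpace.yon_obj T) sq'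
  refine isDecent_of_zarCover
    (fun i : T.left.affineCover.I₀ =>
      pullback snd' ((yon S).map (Over.homMk (T.left.affineCover.f i) rfl :
        Over.mk (T.left.affineCover.f i ≫ T.hom) ⟶ T)))
    (fun i => pullback.fst snd' _) (fun i => ?_) (fun x => ?_) (fun i => ?_)
  · refine repWith_fst_of_isPullback _ (IsPullback.of_hasPullback _ _)
      ((repWith_yon_map_iff _ _).2 ?_)
    change IsOpenImmersion (T.left.affineCover.f i)
    infer_instance
  · obtain ⟨t, ht⟩ := ofScheme_surjective T (Points.map snd' x)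
    obtain ⟨i, ti, hti⟩ := T.left.affineCover.exists_eq t
    have hpt : Points.map snd' x = Points.map ((yon S).map (Over.homMk (T.left.affineCover.f i) rfl :
        Over.mk (T.left.affineCover.f i ≫ T.hom) ⟶ T))
        (Points.ofScheme (Over.mk (T.left.affineCover.f i ≫ T.hom)) ti) := by
      rw [← Points.ofPt_eq_map_ofScheme, ofPt_yon_map, ← ht]
      congr 1
      exact hti.symm
    obtain ⟨z, hz, -⟩ := exists_of_isPullback (IsPullback.of_hasPullback _ _) x _ hpt
    exact ⟨i, z, hz⟩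
  · have sqi := IsPullback.of_hasPullback snd'
      ((yon S).map (Over.homMk (T.left.affineCover.f i) rfl :
        Over.mk (T.left.affineCover.f i ≫ T.hom) ⟶ T))
    have haff : IsAffine (Over.mk (T.left.affineCover.f i ≫ T.hom)).left := by
      dsimp; infer_instance
    exact isDecent_pullback_of_affine hX hY f p hp hps fst snd hsq h haff _ _ _
      (sqi.paste_horiz sq')

end Local

end Groth.Agent.Lib.FieldQuot8H6
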