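import Mathlib
import Groth.Prelude.Def_FilD
import Groth.Agent.Lib.AbSubobj_helper4

set_option autoImplicit false
set_option linter.style.haveILetI false
set_option linter.unusedSectionVars false

universe v u

open CategoryTheory CategoryTheory.Limits Opposite FilD

namespace Groth.Agent.Lib.FilDH4

variable {A : Type u} [Category.{v} A] [Abelian A]

section Step

/-- A 3×3 diagram chase: middle exactness of the middle row from that of the outer rows. -/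
lemma exact_of_step {X' X X'' Y' Y Y'' Z' Z Z'' : A}
    (iX : X' ⟶ X) (qX : X ⟶ X'') (iY : Y' ⟶ Y) (qY : Y ⟶ Y'') (iZ : Z' ⟶ Z) (qZ : Z ⟶ Z'')
    (f' : X' ⟶ Y') (g' : Y' ⟶ Z') (f : X ⟶ Y) (g : Y ⟶ Z) (f'' : X'' ⟶ Y'') (g'' : Y'' ⟶ Z'')
    (w' : f' ≫ g' = 0) (w : f ≫ g = 0) (w'' : f'' ≫ g'' = 0) (wY : iY ≫ qY = 0)
    [Epi qX] [Mono iZ] (hY : (ShortComplex.mk iY qY wY).Exact)
    (c1 : iX ≫ f = f' ≫ iY) (c2 : iY ≫ g = g' ≫ iZ) (c3 : qX ≫ f'' = f ≫ qY)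
    (c4 : qY ≫ g'' = g ≫ qZ)
    (h' : (ShortComplex.mk f' g' w').Exact) (h'' : (ShortComplex.mk f'' g'' w'').Exact) :
    (ShortComplex.mk f g w).Exact := by
  rw [ShortComplex.exact_iff_exact_up_to_refinements]
  intro T y hy
  have hy' : y ≫ g = 0 := hy
  obtain ⟨T₁, π₁, hπ₁, x₁, e₁⟩ := h''.exact_up_to_refinements (y ≫ qY) (by
    show (y ≫ qY) ≫ g'' = 0
    rw [Category.assoc, c4, ← Category.assoc, hy', zero_comp])
  have e₁' : π₁ ≫ y ≫ qY = x₁ ≫ f'' := e₁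
  obtain ⟨T₂, π₂, hπ₂, x₂, e₂⟩ := surjective_up_to_refinements_of_epi qX x₁
  have hy₂ : (π₂ ≫ π₁ ≫ y - x₂ ≫ f) ≫ qY = 0 := by
    simp only [Preadditive.sub_comp, Category.assoc]
    rw [e₁', ← c3, ← Category.assoc x₂, ← e₂, Category.assoc, sub_self]
  obtain ⟨T₃, π₃, hπ₃, y₃, e₃⟩ :=
    hY.exact_up_to_refinements (π₂ ≫ π₁ ≫ y - x₂ ≫ f) hy₂
  have e₃' : π₃ ≫ (π₂ ≫ π₁ ≫ y - x₂ ≫ f) = y₃ ≫ iY := e₃
  have hy₃ : y₃ ≫ g' = 0 := by
    rw [← cancel_mono iZ, zero_comp, Category.assoc, ← c2, ← Category.assoc, ← e₃']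
    simp only [Category.assoc, Preadditive.sub_comp, hy', w, comp_zero, sub_zero]
  obtain ⟨T₄, π₄, hπ₄, x₄, e₄⟩ := h'.exact_up_to_refinements y₃ hy₃
  have e₄' : π₄ ≫ y₃ = x₄ ≫ f' := e₄
  refine ⟨T₄, π₄ ≫ π₃ ≫ π₂ ≫ π₁, inferInstance, π₄ ≫ π₃ ≫ x₂ + x₄ ≫ iX, ?_⟩
  show (π₄ ≫ π₃ ≫ π₂ ≫ π₁) ≫ y = (π₄ ≫ π₃ ≫ x₂ + x₄ ≫ iX) ≫ f
  calc (π₄ ≫ π₃ ≫ π₂ ≫ π₁) ≫ y
      = π₄ ≫ π₃ ≫ x₂ ≫ f + π₄ ≫ π₃ ≫ (π₂ ≫ π₁ ≫ y - x₂ ≫ f) := by
        simp only [Preadditive.comp_sub, Category.assoc]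
        abel
    _ = π₄ ≫ π₃ ≫ x₂ ≫ f + π₄ ≫ y₃ ≫ iY := by rw [e₃']
    _ = π₄ ≫ π₃ ≫ x₂ ≫ f + x₄ ≫ f' ≫ iY := by
        rw [← Category.assoc π₄ y₃, e₄', Category.assoc]
    _ = (π₄ ≫ π₃ ≫ x₂ + x₄ ≫ iX) ≫ f := by
        simp only [Preadditive.add_comp, Category.assoc, c1]

end Step

section Basic

/-- Transition map of a filtered object. -/
noncomputable abbrev trF (F : FilF A) {p q : ℤ} (h : p ≤ q) : F.obj.obj (op q) ⟶ F.obj.obj (op p) :=
  F.obj.map (homOfLE h).op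

lemma mono_trF (F : FilF A) {p q : ℤ} (h : p ≤ q) : Mono (trF F h) := F.property.1 _

lemma trF_refl (F : FilF A) (p : ℤ) : trF F (le_refl p) = 𝟙 _ := by
  show F.obj.map _ = _
  rw [← F.obj.map_id]
  exact congrArg F.obj.map (Subsingleton.elim _ _)

lemma trF_comp (F : FilF A) {p q r : ℤ} (h₁ : p ≤ q) (h₂ : q ≤ r) :
    trF F h₂ ≫ trF F h₁ = trF F (h₁.trans h₂) := by
  show F.obj.map _ ≫ F.obj.map _ = F.obj.map _
  rw [← F.obj.map_comp]
  exact congrArg F.obj.map (Subsingleton.elim _ _)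

lemma nat_trF {F G : FilF A} (φ : F ⟶ G) {p q : ℤ} (h : p ≤ q) :
    trF F h ≫ φ.hom.app (op p) = φ.hom.app (op q) ≫ trF G h := φ.hom.naturality _

/-- Projection to the graded piece. -/
noncomputable def grπ (F : FilF A) (p : ℤ) : F.obj.obj (op p) ⟶ (gr A p).obj F.obj :=
  cokernel.π (F.obj.map (stepHom p))

instance (F : FilF A) (p : ℤ) : Epi (grπ F p) := by
  unfold grπ
  exact coequalizer.π_epi

lemma step_grπ (F : FilF A) (p : ℤ) : F.obj.map (stepHom p) ≫ grπ F p = 0 :=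
  cokernel.condition _

lemma exact_step_grπ (F : FilF A) (p : ℤ) :
    (ShortComplex.mk (F.obj.map (stepHom p)) (grπ F p) (step_grπ F p)).Exact :=
  ShortComplex.exact_cokernel _

lemma grπ_map {F G : FilF A} (φ : F ⟶ G) (p : ℤ) :
    grπ F p ≫ (gr A p).map φ.hom = φ.hom.app (op p) ≫ grπ G p :=
  cokernel.π_desc _ _ _

lemma strict_le {F G : FilF A} (φ : F ⟶ G) {p q : ℤ} (h : p ≤ q) :
    haveI := mono_trF G h
    imageSubobject (φ.hom.app (op q) ≫ trF G h) ≤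
      imageSubobject (φ.hom.app (op p)) ⊓ Subobject.mk (trF G h) := by
  haveI := mono_trF G h
  apply le_inf
  · rw [← nat_trF φ h]
    exact imageSubobject_comp_le _ _
  · exact imageSubobject_le_mk _ _ (φ.hom.app (op q)) rfl

lemma le_image_of_refinement {V W : A} (P : Subobject V) (u : W ⟶ V) {P' : A}
    (π : P' ⟶ (P : A)) [Epi π] (x : P' ⟶ W) (e : π ≫ P.arrow = x ≫ u) :
    P ≤ imageSubobject u :=
  calc P = imageSubobject P.arrow := (AbSubobjH4.image_arrow P).symm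
    _ = imageSubobject (π ≫ P.arrow) := (AbSubobjH4.img_epi_comp π _).symm
    _ = imageSubobject (x ≫ u) := by rw [e]
    _ ≤ imageSubobject u := imageSubobject_comp_le _ _

lemma sub_mk_lift {V Q : A} (P : Subobject V) (j : Q ⟶ V) [Mono j] (h : P ≤ Subobject.mk j) :
    ∃ a : (P : A) ⟶ Q, a ≫ j = P.arrow :=
  ⟨Subobject.ofLE _ _ h ≫ (Subobject.underlyingIso j).hom, by
    rw [Category.assoc, Subobject.underlyingIso_hom_comp_eq_mk, Subobject.ofLE_arrow]⟩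

lemma sub_image_comp_zero {V W V' : A} (P : Subobject V) (f : W ⟶ V) (g : V ⟶ V')
    (w : f ≫ g = 0) (h : P ≤ imageSubobject f) : P.arrow ≫ g = 0 := by
  have h0 : (imageSubobject f).arrow ≫ g = 0 := by
    rw [← cancel_epi (factorThruImageSubobject f), ← Category.assoc, imageSubobject_arrow_comp,
      comp_zero]
    exact w
  rw [← Subobject.ofLE_arrow h, Category.assoc, h0, comp_zero]

end Basic

section Main

variable (S : ShortComplex (FilF A))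

lemma fg_zero (p : ℤ) : S.f.hom.app (op p) ≫ S.g.hom.app (op p) = 0 :=
  congrArg (fun φ => φ.hom.app (op p)) S.zero

lemma gr_zero (p : ℤ) : (gr A p).map S.f.hom ≫ (gr A p).map S.g.hom = 0 := by
  have h : S.f.hom ≫ S.g.hom = 0 := congrArg (fun φ => φ.hom) S.zero
  rw [← Functor.map_comp, h, Functor.map_zero]

/-- The complex of `p`-th filtration steps. -/
abbrev lvl (p : ℤ) : ShortComplex A :=
  ShortComplex.mk (S.f.hom.app (op p)) (S.g.hom.app (op p)) (fg_zero S p)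

variable (hS : ∀ p : ℤ, (S.map (grF A p)).Exact)

include hS

lemma gr_exact (p : ℤ) :
    (ShortComplex.mk ((gr A p).map S.f.hom) ((gr A p).map S.g.hom) (gr_zero S p)).Exact := hS p

lemma level_exact_aux (b : ℤ) (hb : ∀ p : ℤ, b ≤ p → IsZero (S.X₂.obj.obj (op p))) (k : ℕ) :
    ∀ p : ℤ, b ≤ p + k → (lvl S p).Exact := by
  induction k with
  | zero =>
    intro p hp
    exact ShortComplex.exact_of_isZero_X₂ _ (hb p (by simpa using hp))
  | succ k ih =>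
    intro p hp
    have ih' := ih (p + 1) (by push_cast at hp; omega)
    haveI : Mono (S.X₃.obj.map (stepHom p)) := S.X₃.property.1 _
    exact exact_of_step (S.X₁.obj.map (stepHom p)) (grπ S.X₁ p) (S.X₂.obj.map (stepHom p))
      (grπ S.X₂ p) (S.X₃.obj.map (stepHom p)) (grπ S.X₃ p)
      (S.f.hom.app (op (p + 1))) (S.g.hom.app (op (p + 1))) (S.f.hom.app (op p))
      (S.g.hom.app (op p)) ((gr A p).map S.f.hom) ((gr A p).map S.g.hom)
      (fg_zero S (p + 1)) (fg_zero S p) (gr_zero S p) (step_grπ S.X₂ p)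
      (exact_step_grπ S.X₂ p)
      (S.f.hom.naturality (stepHom p)) (S.g.hom.naturality (stepHom p))
      (grπ_map S.f p) (grπ_map S.g p) ih' (gr_exact S hS p)

lemma level_exact (p : ℤ) : (lvl S p).Exact := by
  obtain ⟨b, hb⟩ := S.X₂.property.2.1
  refine level_exact_aux S hS b hb (b - p).toNat p ?_
  have := Int.self_le_toNat (b - p)
  omega

lemma strict_f : IsStrict S.f := by
  intro p q h
  haveI := mono_trF S.X₂ h
  haveI := mono_trF S.X₃ h
  refine le_antisymm (strict_le S.f h) ?_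
  obtain ⟨P, hP1, hP2, hPe⟩ : ∃ P : Subobject (S.X₂.obj.obj (op p)),
      P ≤ imageSubobject (S.f.hom.app (op p)) ∧ P ≤ Subobject.mk (trF S.X₂ h) ∧
      P = imageSubobject (S.f.hom.app (op p)) ⊓ Subobject.mk (trF S.X₂ h) :=
    ⟨_, inf_le_left, inf_le_right, rfl⟩
  rw [← hPe]
  obtain ⟨a₁, ha₁⟩ := sub_mk_lift P (trF S.X₂ h) hP2
  have hPg : P.arrow ≫ S.g.hom.app (op p) = 0 :=
    sub_image_comp_zero P _ _ (fg_zero S p) hP1
  have ha₁g : a₁ ≫ S.g.hom.app (op q) = 0 := by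
    rw [← cancel_mono (trF S.X₃ h), zero_comp, Category.assoc, ← nat_trF S.g h, ← Category.assoc,
      ha₁, hPg]
  obtain ⟨P', π, hπ, x, e⟩ := (level_exact S hS q).exact_up_to_refinements a₁ ha₁g
  have e' : π ≫ a₁ = x ≫ S.f.hom.app (op q) := e
  refine le_image_of_refinement P _ π x ?_
  rw [← ha₁, ← Category.assoc, e', Category.assoc]

lemma claim_g (k : ℕ) : ∀ (p q : ℤ) (h : p ≤ q), q ≤ p + k →
    ∀ {T : A} (z : T ⟶ S.X₃.obj.obj (op q)) (y : T ⟶ S.X₂.obj.obj (op p)),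
      y ≫ S.g.hom.app (op p) = z ≫ trF S.X₃ h →
      ∃ (T' : A) (π : T' ⟶ T) (_ : Epi π) (y' : T' ⟶ S.X₂.obj.obj (op q)),
        y' ≫ S.g.hom.app (op q) = π ≫ z := by
  induction k with
  | zero =>
    intro p q h hq T z y hyz
    obtain rfl : p = q := by
      have : q ≤ p := by simpa using hq
      omega
    exact ⟨T, 𝟙 T, inferInstance, y, by
      rw [hyz, trF_refl, Category.comp_id, Category.id_comp]⟩
  | succ k ih =>
    intro p q h hq T z y hyz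
    by_cases hpq : p = q
    · subst hpq
      exact ⟨T, 𝟙 T, inferInstance, y, by
        rw [hyz, trF_refl, Category.comp_id, Category.id_comp]⟩
    · have h1 : p + 1 ≤ q := by omega
      have h0 : p ≤ p + 1 := by omega
      have hz : z ≫ trF S.X₃ h = (z ≫ trF S.X₃ h1) ≫ S.X₃.obj.map (stepHom p) := by
        rw [Category.assoc]
        congr 1
        exact (trF_comp S.X₃ h0 h1).symm
      have hgr : (y ≫ grπ S.X₂ p) ≫ (gr A p).map S.g.hom = 0 := by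
        rw [Category.assoc, grπ_map, ← Category.assoc, hyz, hz, Category.assoc, Category.assoc,
          step_grπ, comp_zero, comp_zero]
      obtain ⟨T₁, π₁, hπ₁, x₁, e₁⟩ :=
        (gr_exact S hS p).exact_up_to_refinements (y ≫ grπ S.X₂ p) hgr
      have e₁' : π₁ ≫ y ≫ grπ S.X₂ p = x₁ ≫ (gr A p).map S.f.hom := e₁
      obtain ⟨T₂, π₂, hπ₂, x₂, e₂⟩ := surjective_up_to_refinements_of_epi (grπ S.X₁ p) x₁
      have hy₂ : (π₂ ≫ π₁ ≫ y - x₂ ≫ S.f.hom.app (op p)) ≫ grπ S.X₂ p = 0 := by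
        simp only [Preadditive.sub_comp, Category.assoc]
        rw [e₁', ← grπ_map, ← Category.assoc x₂, ← e₂, Category.assoc, sub_self]
      obtain ⟨T₃, π₃, hπ₃, y₃, e₃⟩ :=
        (exact_step_grπ S.X₂ p).exact_up_to_refinements _ hy₂
      have e₃' : π₃ ≫ (π₂ ≫ π₁ ≫ y - x₂ ≫ S.f.hom.app (op p)) =
          y₃ ≫ S.X₂.obj.map (stepHom p) := e₃
      haveI : Mono (S.X₃.obj.map (stepHom p)) := S.X₃.property.1 _
      have hy₃ : y₃ ≫ S.g.hom.app (op (p + 1)) = (π₃ ≫ π₂ ≫ π₁ ≫ z) ≫ trF S.X₃ h1 := by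
        rw [← cancel_mono (S.X₃.obj.map (stepHom p)), Category.assoc,
          ← S.g.hom.naturality (stepHom p), ← Category.assoc, ← e₃']
        simp only [Category.assoc, Preadditive.sub_comp, Preadditive.comp_sub, fg_zero S p,
          comp_zero, sub_zero, hyz, hz]
      obtain ⟨T₄, π₄, hπ₄, y₄, e₄⟩ := ih (p + 1) q h1 (by push_cast at hq; omega)
        (π₃ ≫ π₂ ≫ π₁ ≫ z) y₃ hy₃
      exact ⟨T₄, π₄ ≫ π₃ ≫ π₂ ≫ π₁, inferInstance, y₄, by
        rw [e₄]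
        simp only [Category.assoc]⟩

lemma strict_g : IsStrict S.g := by
  intro p q h
  haveI := mono_trF S.X₃ h
  refine le_antisymm (strict_le S.g h) ?_
  obtain ⟨P, hP1, hP2, hPe⟩ : ∃ P : Subobject (S.X₃.obj.obj (op p)),
      P ≤ imageSubobject (S.g.hom.app (op p)) ∧ P ≤ Subobject.mk (trF S.X₃ h) ∧
      P = imageSubobject (S.g.hom.app (op p)) ⊓ Subobject.mk (trF S.X₃ h) :=
    ⟨_, inf_le_left, inf_le_right, rfl⟩
  rw [← hPe]
  obtain ⟨a₁, ha₁⟩ := sub_mk_lift P (trF S.X₃ h) hP2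
  obtain ⟨P₁, y, b, hb, hyb⟩ := AbSubobjH4.exists_epi_lift (S.g.hom.app (op p)) P.arrow (by
    rw [AbSubobjH4.image_arrow]
    exact hP1)
  haveI := hb
  obtain ⟨T', π, hπ, y', e⟩ := claim_g S hS (q - p).toNat p q h (by
    have := Int.self_le_toNat (q - p)
    omega) (b ≫ a₁) y (by rw [hyb, Category.assoc, ha₁])
  refine le_image_of_refinement P _ (π ≫ b) y' ?_
  rw [Category.assoc, ← ha₁, ← Category.assoc b, ← Category.assoc π, ← Category.assoc y', e,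
    Category.assoc]

theorem main1085 :
    (∀ p : ℤ, (S.map ((IsFinFil A).ι ⋙ (evaluation ℤᵒᵖ A).obj (op p))).Exact) ∧
      IsStrict S.f ∧ IsStrict S.g :=
  ⟨fun p => level_exact S hS p, strict_f S hS, strict_g S hS⟩

end Main

end Groth.Agent.Lib.FilDH4
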