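import Mathlib
import Groth.Prelude.Def_FilD
import Groth.Agent.Lib.FilD_helper4

set_option autoImplicit false
set_option linter.style.haveILetI false
set_option linter.unusedSectionVars false

universe v u

open CategoryTheory CategoryTheory.Limits Opposite FilD

namespace Groth.Agent.Lib.FilDH4

variable {A : Type u} [Category.{v} A] [Abelian A]

section GrExact

variable (S : ShortComplex (FilF A))

/-- Levelwise exactness and strictness of `g` imply exactness on graded pieces. -/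
lemma gr_exact_of_strict (hl : ∀ p : ℤ, (lvl S p).Exact) (hg : IsStrict S.g) (p : ℤ) :
    (ShortComplex.mk ((gr A p).map S.f.hom) ((gr A p).map S.g.hom) (gr_zero S p)).Exact := by
  rw [ShortComplex.exact_iff_exact_up_to_refinements]
  intro T yb hyb0
  have hyb : yb ≫ (gr A p).map S.g.hom = 0 := hyb0
  obtain ⟨T₁, π₁, hπ₁, y, e₁⟩ := surjective_up_to_refinements_of_epi (grπ S.X₂ p) yb
  have h2 : (y ≫ S.g.hom.app (op p)) ≫ grπ S.X₃ p = 0 := by
    rw [Category.assoc, ← grπ_map, ← Category.assoc, ← e₁, Category.assoc, hyb, comp_zero]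
  obtain ⟨T₂, π₂, hπ₂, z', e₂⟩ := (exact_step_grπ S.X₃ p).exact_up_to_refinements _ h2
  have e₂' : π₂ ≫ y ≫ S.g.hom.app (op p) = z' ≫ S.X₃.obj.map (stepHom p) := e₂
  have h0 : p ≤ p + 1 := by omega
  haveI := mono_trF S.X₃ h0
  have hstr := hg p (p + 1) h0
  have hle : imageSubobject (π₂ ≫ y ≫ S.g.hom.app (op p)) ≤
      imageSubobject (S.g.hom.app (op (p + 1)) ≫ trF S.X₃ h0) := by
    rw [hstr]
    apply le_inf
    · rw [← Category.assoc]
      exact imageSubobject_comp_le _ _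
    · rw [e₂']
      exact imageSubobject_le_mk _ _ z' rfl
  obtain ⟨T₃, a, b, hb, hab⟩ := AbSubobjH4.exists_epi_lift _ _ hle
  haveI := hb
  have hab' : b ≫ π₂ ≫ y ≫ S.g.hom.app (op p) =
      a ≫ S.g.hom.app (op (p + 1)) ≫ S.X₃.obj.map (stepHom p) := hab.symm
  have hk : (b ≫ π₂ ≫ y - a ≫ S.X₂.obj.map (stepHom p)) ≫ S.g.hom.app (op p) = 0 := by
    simp only [Preadditive.sub_comp, Category.assoc]
    rw [S.g.hom.naturality (stepHom p)]
    exact sub_eq_zero.mpr hab'
  obtain ⟨T₄, π₄, hπ₄, x, e₄⟩ := (hl p).exact_up_to_refinements _ hk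
  have e₄' : π₄ ≫ (b ≫ π₂ ≫ y - a ≫ S.X₂.obj.map (stepHom p)) = x ≫ S.f.hom.app (op p) := e₄
  refine ⟨T₄, π₄ ≫ b ≫ π₂ ≫ π₁, inferInstance, x ≫ grπ S.X₁ p, ?_⟩
  show (π₄ ≫ b ≫ π₂ ≫ π₁) ≫ yb = (x ≫ grπ S.X₁ p) ≫ (gr A p).map S.f.hom
  rw [Category.assoc x, grπ_map, ← Category.assoc x, ← e₄']
  simp only [Category.assoc, Preadditive.sub_comp, Preadditive.comp_sub, step_grπ, comp_zero,
    sub_zero, e₁]

end GrExact

section Kernel

variable {X Y : FilF A} (φ : X ⟶ Y)

lemma kerι_app_mono (c : ℤᵒᵖ) : Mono ((kernel.ι φ.hom).app c) :=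
  (NatTrans.mono_iff_mono_app _).1 inferInstance c

lemma ker_app_zero (c : ℤᵒᵖ) : (kernel.ι φ.hom).app c ≫ φ.hom.app c = 0 := by
  rw [← NatTrans.comp_app, kernel.condition]
  rfl

lemma ker_level_exact (c : ℤᵒᵖ) :
    (ShortComplex.mk ((kernel.ι φ.hom).app c) (φ.hom.app c) (ker_app_zero φ c)).Exact :=
  (ShortComplex.exact_kernel φ.hom).map ((evaluation ℤᵒᵖ A).obj c)

lemma ker_map_mono {c d : ℤᵒᵖ} (f : c ⟶ d) : Mono ((kernel φ.hom).map f) := by
  haveI := kerι_app_mono φ c
  haveI : Mono (X.obj.map f) := X.property.1 f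
  have h : (kernel φ.hom).map f ≫ (kernel.ι φ.hom).app d =
      (kernel.ι φ.hom).app c ≫ X.obj.map f := (kernel.ι φ.hom).naturality f
  exact mono_of_mono_fac h

lemma kernel_isFinFil : IsFinFil A (kernel φ.hom) := by
  refine ⟨fun c d f => ker_map_mono φ f, ?_, ?_⟩
  · obtain ⟨b, hb⟩ := X.property.2.1
    refine ⟨b, fun p hp => ?_⟩
    haveI := kerι_app_mono φ (op p)
    exact IsZero.of_mono ((kernel.ι φ.hom).app (op p)) (hb p hp)
  · obtain ⟨a₁, ha₁⟩ := X.property.2.2
    obtain ⟨a₂, ha₂⟩ := Y.property.2.2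
    refine ⟨min a₁ a₂, fun c d f hc => ?_⟩
    haveI : IsIso (X.obj.map f) := ha₁ f (le_trans hc (min_le_left _ _))
    haveI : IsIso (Y.obj.map f) := ha₂ f (le_trans hc (min_le_right _ _))
    haveI : Mono ((kernel φ.hom).map f) := ker_map_mono φ f
    haveI : Epi ((kernel φ.hom).map f) := by
      rw [epi_iff_surjective_up_to_refinements]
      intro T k
      have hx : (k ≫ (kernel.ι φ.hom).app d ≫ inv (X.obj.map f)) ≫ φ.hom.app c = 0 := by
        rw [← cancel_mono (Y.obj.map f)]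
        simp only [Category.assoc, zero_comp]
        rw [← φ.hom.naturality f, IsIso.inv_hom_id_assoc, ker_app_zero, comp_zero]
      obtain ⟨T', π, hπ, k', e⟩ := (ker_level_exact φ c).exact_up_to_refinements _ hx
      have e' : π ≫ k ≫ (kernel.ι φ.hom).app d ≫ inv (X.obj.map f) =
          k' ≫ (kernel.ι φ.hom).app c := e
      refine ⟨T', π, hπ, k', ?_⟩
      haveI := kerι_app_mono φ d
      rw [← cancel_mono ((kernel.ι φ.hom).app d), Category.assoc, Category.assoc,
        (kernel.ι φ.hom).naturality f, ← Category.assoc k', ← e']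
      simp only [Category.assoc, IsIso.inv_hom_id, Category.comp_id]
    exact isIso_of_mono_of_epi _

/-- The kernel with its induced filtration. -/
noncomputable def kerFil : FilF A := ⟨kernel φ.hom, kernel_isFinFil φ⟩

noncomputable def kerι : kerFil φ ⟶ X := ObjectProperty.homMk (kernel.ι φ.hom)

lemma kerι_comp : kerι φ ≫ φ = 0 := by
  apply ObjectProperty.hom_ext
  exact kernel.condition φ.hom

noncomputable def kerCx : ShortComplex (FilF A) := ShortComplex.mk (kerι φ) φ (kerι_comp φ)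

theorem main1086 :
    IsStrict φ ↔ ∀ p : ℤ, ((ShortComplex.mk (kernel.ι φ.hom) φ.hom
      (kernel.condition φ.hom)).map (gr A p)).Exact := by
  constructor
  · intro h p
    exact gr_exact_of_strict (kerCx φ) (fun p => ker_level_exact φ (op p)) h p
  · intro h
    exact strict_g (kerCx φ) (fun p => h p)

end Kernel

end Groth.Agent.Lib.FilDH4
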