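import Mathlib
import Groth.Prelude.Def_FilD
import Groth.Agent.Lib.FilD2_helper4

set_option autoImplicit false
set_option linter.style.haveILetI false
set_option linter.unusedSectionVars false

universe v u

open CategoryTheory CategoryTheory.Limits Opposite FilD

namespace Groth.Agent.Lib.FilDH4

variable {A : Type u} [Category.{v} A] [Abelian A]

section Ext

/-- Extension along an arbitrary map into an injective object, given the kernel condition. -/
lemma exists_ext_of_kernel {W V J : A} [Injective J] (s : W ⟶ V) (t : W ⟶ J)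
    (h : kernel.ι s ≫ t = 0) : ∃ g : V ⟶ J, s ≫ g = t := by
  let t' : Abelian.coimage s ⟶ J := cokernel.desc (kernel.ι s) t h
  refine ⟨Injective.factorThru t' (Abelian.factorThruCoimage s), ?_⟩
  calc s ≫ Injective.factorThru t' (Abelian.factorThruCoimage s)
      = (Abelian.coimage.π s ≫ Abelian.factorThruCoimage s) ≫
          Injective.factorThru t' (Abelian.factorThruCoimage s) := by rw [Abelian.coimage.fac]
    _ = Abelian.coimage.π s ≫ t' := by rw [Category.assoc, Injective.comp_factorThru]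
    _ = t := cokernel.π_desc _ _ _

lemma comp_biprod_desc {T P Q V : A} (k : T ⟶ P ⊞ Q) (a : P ⟶ V) (b : Q ⟶ V) :
    k ≫ biprod.desc a b = (k ≫ biprod.fst) ≫ a + (k ≫ biprod.snd) ≫ b := by
  rw [biprod.desc_eq, Preadditive.comp_add, Category.assoc, Category.assoc]

lemma ext_sum {Y₁ X₀ Y₀ J : A} [Injective J] (i : Y₁ ⟶ Y₀) (u₀ : X₀ ⟶ Y₀) (a : Y₁ ⟶ J)
    (f₀ : X₀ ⟶ J)
    (h : ∀ (T : A) (y : T ⟶ Y₁) (x : T ⟶ X₀), y ≫ i + x ≫ u₀ = 0 → y ≫ a + x ≫ f₀ = 0) :
    ∃ g₀ : Y₀ ⟶ J, i ≫ g₀ = a ∧ u₀ ≫ g₀ = f₀ := by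
  obtain ⟨g, hg⟩ := exists_ext_of_kernel (biprod.desc i u₀) (biprod.desc a f₀) (by
    rw [comp_biprod_desc]
    apply h
    rw [← comp_biprod_desc]
    exact kernel.condition _)
  refine ⟨g, ?_, ?_⟩
  · have := congrArg (fun m => biprod.inl ≫ m) hg
    simpa using this
  · have := congrArg (fun m => biprod.inr ≫ m) hg
    simpa using this

lemma injective_of_ext {X₁ X₂ X₃ : A} (f : X₁ ⟶ X₂) (g : X₂ ⟶ X₃) (w : f ≫ g = 0)
    (hS : (ShortComplex.mk f g w).ShortExact) [Injective X₁] [Injective X₃] : Injective X₂ := by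
  haveI : Injective (ShortComplex.mk f g w).X₁ := ‹Injective X₁›
  haveI : Injective (ShortComplex.mk f g w).X₃ := ‹Injective X₃›
  exact Injective.of_iso (hS.splittingOfInjective.isoBinaryBiproduct).symm inferInstance

lemma injective_level (I : FilF A) (hI : IsFilteredInjective I) (p : ℤ) :
    Injective (I.obj.obj (op p)) := by
  obtain ⟨b, hb⟩ := I.property.2.1
  have key : ∀ (k : ℕ) (p : ℤ), b ≤ p + k → Injective (I.obj.obj (op p)) := by
    intro k
    induction k with
    | zero =>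
      intro p hp
      exact (hb p (by simpa using hp)).injective
    | succ k ih =>
      intro p hp
      haveI : Injective (I.obj.obj (op (p + 1))) := ih (p + 1) (by push_cast at hp; omega)
      haveI : Injective ((gr A p).obj I.obj) := hI p
      haveI : Mono (I.obj.map (stepHom p)) := I.property.1 _
      refine injective_of_ext (I.obj.map (stepHom p)) (grπ I p) (step_grπ I p) ?_
      exact ShortComplex.ShortExact.mk' (exact_step_grπ I p)
        (show Mono (I.obj.map (stepHom p)) from inferInstance)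
        (show Epi (grπ I p) from inferInstance)
  exact key (b - p).toNat p (by have := Int.self_le_toNat (b - p); omega)

end Ext

section Lift

variable {X Y I : FilF A} (u : X ⟶ Y) (f : X ⟶ I)

lemma lift_step (hu : IsStrict u) (p : ℤ) [Injective (I.obj.obj (op p))]
    (hker : ∀ (T : A) (x : T ⟶ X.obj.obj (op p)),
      x ≫ u.hom.app (op p) = 0 → x ≫ f.hom.app (op p) = 0)
    (g₁ : Y.obj.obj (op (p + 1)) ⟶ I.obj.obj (op (p + 1)))
    (hg₁ : u.hom.app (op (p + 1)) ≫ g₁ = f.hom.app (op (p + 1))) :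
    ∃ g₀ : Y.obj.obj (op p) ⟶ I.obj.obj (op p),
      u.hom.app (op p) ≫ g₀ = f.hom.app (op p) ∧
      trF Y (show p ≤ p + 1 by omega) ≫ g₀ = g₁ ≫ trF I (show p ≤ p + 1 by omega) := by
  have h0 : p ≤ p + 1 := by omega
  haveI := mono_trF Y h0
  have hstr := hu p (p + 1) h0
  obtain ⟨g₀, hg1, hg2⟩ := ext_sum (trF Y h0) (u.hom.app (op p)) (g₁ ≫ trF I h0)
    (f.hom.app (op p)) (by
    intro T y x e1
    have e1' : y ≫ trF Y h0 = (-x) ≫ u.hom.app (op p) := by
      rw [Preadditive.neg_comp]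
      exact eq_neg_of_add_eq_zero_left e1
    have hle : imageSubobject ((-x) ≫ u.hom.app (op p)) ≤
        imageSubobject (u.hom.app (op (p + 1)) ≫ trF Y h0) := by
      rw [hstr]
      apply le_inf
      · exact imageSubobject_comp_le _ _
      · rw [← e1']
        exact imageSubobject_le_mk _ _ y rfl
    obtain ⟨T₃, a, b, hb, hab⟩ := AbSubobjH4.exists_epi_lift _ _ hle
    haveI := hb
    have hab' : a ≫ u.hom.app (op (p + 1)) ≫ trF Y h0 = b ≫ (-x) ≫ u.hom.app (op p) := hab
    have hy : b ≫ y = a ≫ u.hom.app (op (p + 1)) := by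
      rw [← cancel_mono (trF Y h0), Category.assoc, Category.assoc, e1']
      exact hab'.symm
    have hz : (b ≫ x + a ≫ trF X h0) ≫ u.hom.app (op p) = 0 := by
      rw [Preadditive.add_comp, Category.assoc, Category.assoc, nat_trF u h0, hab']
      simp
    have hz' := hker T₃ _ hz
    rw [Preadditive.add_comp, Category.assoc, Category.assoc] at hz'
    rw [← cancel_epi b]
    calc b ≫ (y ≫ g₁ ≫ trF I h0 + x ≫ f.hom.app (op p))
        = (b ≫ y) ≫ g₁ ≫ trF I h0 + b ≫ x ≫ f.hom.app (op p) := by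
          rw [Preadditive.comp_add, Category.assoc]
      _ = a ≫ (u.hom.app (op (p + 1)) ≫ g₁) ≫ trF I h0 + b ≫ x ≫ f.hom.app (op p) := by
          rw [hy, Category.assoc, Category.assoc]
      _ = a ≫ trF X h0 ≫ f.hom.app (op p) + b ≫ x ≫ f.hom.app (op p) := by
          rw [hg₁, ← nat_trF f h0]
      _ = 0 := by
          rw [add_comm]
          exact hz'
      _ = b ≫ 0 := by rw [comp_zero])
  exact ⟨g₀, hg2, hg1⟩

open Classical in
/-- One-step choice. -/
noncomputable def stepChoice (p : ℤ) (g₁ : Y.obj.obj (op (p + 1)) ⟶ I.obj.obj (op (p + 1))) :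
    Y.obj.obj (op p) ⟶ I.obj.obj (op p) :=
  if h : ∃ g₀ : Y.obj.obj (op p) ⟶ I.obj.obj (op p),
      u.hom.app (op p) ≫ g₀ = f.hom.app (op p) ∧
      trF Y (show p ≤ p + 1 by omega) ≫ g₀ = g₁ ≫ trF I (show p ≤ p + 1 by omega)
  then h.choose else 0

lemma stepChoice_spec (p : ℤ) (g₁ : Y.obj.obj (op (p + 1)) ⟶ I.obj.obj (op (p + 1)))
    (h : ∃ g₀ : Y.obj.obj (op p) ⟶ I.obj.obj (op p),
      u.hom.app (op p) ≫ g₀ = f.hom.app (op p) ∧
      trF Y (show p ≤ p + 1 by omega) ≫ g₀ = g₁ ≫ trF I (show p ≤ p + 1 by omega)) :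
    u.hom.app (op p) ≫ stepChoice u f p g₁ = f.hom.app (op p) ∧
      trF Y (show p ≤ p + 1 by omega) ≫ stepChoice u f p g₁ =
        g₁ ≫ trF I (show p ≤ p + 1 by omega) := by
  unfold stepChoice
  rw [dif_pos h]
  exact h.choose_spec

/-- The sequence of partial lifts. -/
noncomputable def liftSeq (b : ℤ) : ℕ → (∀ p : ℤ, Y.obj.obj (op p) ⟶ I.obj.obj (op p))
  | 0 => fun _ => 0
  | (n + 1) => Function.update (liftSeq b n) (b - n - 1)
      (stepChoice u f (b - n - 1) (liftSeq b n (b - n - 1 + 1)))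

lemma liftSeq_succ (b : ℤ) (n : ℕ) :
    liftSeq u f b (n + 1) = Function.update (liftSeq u f b n) (b - n - 1)
      (stepChoice u f (b - n - 1) (liftSeq u f b n (b - n - 1 + 1))) := rfl

lemma liftSeq_succ_eq (b : ℤ) (n : ℕ) (p : ℤ) (hp : b - n ≤ p) :
    liftSeq u f b (n + 1) p = liftSeq u f b n p := by
  rw [liftSeq_succ]
  exact Function.update_of_ne (by omega) _ _

lemma liftSeq_succ_self (b : ℤ) (n : ℕ) :
    liftSeq u f b (n + 1) (b - n - 1) =
      stepChoice u f (b - n - 1) (liftSeq u f b n (b - n - 1 + 1)) := by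
  rw [liftSeq_succ]
  exact Function.update_self _ _ _

lemma liftSeq_add_eq (b : ℤ) (n k : ℕ) (p : ℤ) (hp : b - n ≤ p) :
    liftSeq u f b (n + k) p = liftSeq u f b n p := by
  induction k with
  | zero => rfl
  | succ k ih =>
    rw [← add_assoc, liftSeq_succ_eq u f b (n + k) p (by push_cast; omega), ih]

lemma liftSeq_spec (hu : IsStrict u) (hI : IsFilteredInjective I)
    (hker : ∀ (p : ℤ) (T : A) (x : T ⟶ X.obj.obj (op p)),
      x ≫ u.hom.app (op p) = 0 → x ≫ f.hom.app (op p) = 0)
    (b : ℤ) (hb : ∀ p : ℤ, b ≤ p → IsZero (I.obj.obj (op p))) (n : ℕ) :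
    (∀ p : ℤ, b - n ≤ p → u.hom.app (op p) ≫ liftSeq u f b n p = f.hom.app (op p)) ∧
    (∀ p : ℤ, b - n ≤ p → trF Y (show p ≤ p + 1 by omega) ≫ liftSeq u f b n p =
        liftSeq u f b n (p + 1) ≫ trF I (show p ≤ p + 1 by omega)) := by
  induction n with
  | zero =>
    constructor
    · intro p hp
      exact (hb p (by simpa using hp)).eq_of_tgt _ _
    · intro p hp
      exact (hb p (by simpa using hp)).eq_of_tgt _ _
  | succ n ih =>
    obtain ⟨ih1, ih2⟩ := ih
    have hex : ∃ g₀ : Y.obj.obj (op (b - n - 1)) ⟶ I.obj.obj (op (b - n - 1)),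
        u.hom.app (op (b - n - 1)) ≫ g₀ = f.hom.app (op (b - n - 1)) ∧
        trF Y (show b - n - 1 ≤ b - n - 1 + 1 by omega) ≫ g₀ =
          liftSeq u f b n (b - n - 1 + 1) ≫ trF I (show b - n - 1 ≤ b - n - 1 + 1 by omega) := by
      haveI := injective_level I hI (b - n - 1)
      exact lift_step u f hu (b - n - 1) (hker _) (liftSeq u f b n (b - n - 1 + 1))
        (ih1 _ (by omega))
    have hsp := stepChoice_spec u f (b - n - 1) _ hex
    constructor
    · intro p hp
      by_cases hpe : p = b - n - 1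
      · subst hpe
        rw [liftSeq_succ_self]
        exact hsp.1
      · rw [liftSeq_succ_eq u f b n p (by push_cast at hp; omega)]
        exact ih1 p (by push_cast at hp; omega)
    · intro p hp
      have e1 : liftSeq u f b (n + 1) (p + 1) = liftSeq u f b n (p + 1) :=
        liftSeq_succ_eq u f b n (p + 1) (by push_cast at hp; omega)
      by_cases hpe : p = b - n - 1
      · subst hpe
        rw [e1, liftSeq_succ_self]
        exact hsp.2
      · rw [e1, liftSeq_succ_eq u f b n p (by push_cast at hp; omega)]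
        exact ih2 p (by push_cast at hp; omega)

/-- The limit family. -/
noncomputable def liftFam (b : ℤ) (p : ℤ) : Y.obj.obj (op p) ⟶ I.obj.obj (op p) :=
  liftSeq u f b (b - p).toNat p

lemma liftFam_eq (b : ℤ) (p : ℤ) (n : ℕ) (hn : b - n ≤ p) :
    liftFam u f b p = liftSeq u f b n p := by
  have h1 : (b - p).toNat ≤ n := Int.toNat_le.mpr (by omega)
  obtain ⟨k, rfl⟩ := Nat.exists_eq_add_of_le h1
  exact (liftSeq_add_eq u f b _ k p (by have := Int.self_le_toNat (b - p); omega)).symm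

/-- The generalized lifting lemma: a morphism `f : X ⟶ I` into a filtered injective extends along a
strict morphism `u : X ⟶ Y` as soon as `f` kills the kernel of `u` levelwise. -/
theorem exists_lift (hu : IsStrict u) (hI : IsFilteredInjective I)
    (hker : ∀ (p : ℤ) (T : A) (x : T ⟶ X.obj.obj (op p)),
      x ≫ u.hom.app (op p) = 0 → x ≫ f.hom.app (op p) = 0) :
    ∃ g : Y ⟶ I, u ≫ g = f := by
  obtain ⟨b, hb⟩ := I.property.2.1
  have spec := liftSeq_spec u f hu hI hker b hb
  have hG1 : ∀ p : ℤ, u.hom.app (op p) ≫ liftFam u f b p = f.hom.app (op p) := by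
    intro p
    exact (spec (b - p).toNat).1 p (by have := Int.self_le_toNat (b - p); omega)
  have hG2 : ∀ p : ℤ, trF Y (show p ≤ p + 1 by omega) ≫ liftFam u f b p =
      liftFam u f b (p + 1) ≫ trF I (show p ≤ p + 1 by omega) := by
    intro p
    have hn : b - ((b - p).toNat : ℤ) ≤ p := by have := Int.self_le_toNat (b - p); omega
    rw [liftFam_eq u f b (p + 1) (b - p).toNat (by omega)]
    exact (spec (b - p).toNat).2 p hn
  have hG3 : ∀ (k : ℕ) (p q : ℤ) (h : p ≤ q), q = p + k →
      trF Y h ≫ liftFam u f b p = liftFam u f b q ≫ trF I h := by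
    intro k
    induction k with
    | zero =>
      intro p q h hq
      obtain rfl : q = p := by simpa using hq
      rw [trF_refl, trF_refl, Category.id_comp, Category.comp_id]
    | succ k ih =>
      intro p q h hq
      obtain rfl : q = p + k + 1 := by push_cast at hq; omega
      have h₁ : p ≤ p + k := by omega
      have h₂ : p + k ≤ p + k + 1 := by omega
      rw [← trF_comp Y h₁ h₂, ← trF_comp I h₁ h₂, Category.assoc, ih p (p + k) h₁ rfl,
        ← Category.assoc, hG2 (p + k), Category.assoc]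
  have hG4 : ∀ (p q : ℤ) (h : p ≤ q),
      trF Y h ≫ liftFam u f b p = liftFam u f b q ≫ trF I h := by
    intro p q h
    obtain ⟨k, hk⟩ := Int.le.dest h
    exact hG3 k p q h hk.symm
  refine ⟨ObjectProperty.homMk { app := fun c => liftFam u f b c.unop, naturality := ?_ }, ?_⟩
  · intro c d φ
    have hle : d.unop ≤ c.unop := leOfHom φ.unop
    have e : φ = (homOfLE hle).op := Subsingleton.elim _ _
    rw [e]
    exact hG4 d.unop c.unop hle
  · apply ObjectProperty.hom_ext
    ext c
    exact hG1 c.unop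

end Lift

section Mono

lemma mono_hom_of_mono {X Y : FilF A} (u : X ⟶ Y) [Mono u] : Mono u.hom := by
  have h0 : kerι u = 0 := by
    rw [← cancel_mono u, kerι_comp, zero_comp]
  have h1 : kernel.ι u.hom = 0 := congrArg (fun φ => φ.hom) h0
  apply Preadditive.mono_of_cancel_zero
  intro Z g hg
  rw [← kernel.lift_ι u.hom g hg, h1, comp_zero]

lemma mono_app_of_mono {X Y : FilF A} (u : X ⟶ Y) [Mono u] (p : ℤ) :
    Mono (u.hom.app (op p)) := by
  haveI := mono_hom_of_mono u
  exact (NatTrans.mono_iff_mono_app _).1 inferInstance (op p)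

theorem main6605 {X Y I : FilF A} (u : X ⟶ Y) [Mono u] (hu : IsStrict u)
    (hI : IsFilteredInjective I) (f : X ⟶ I) : ∃ g : Y ⟶ I, u ≫ g = f := by
  refine exists_lift u f hu hI ?_
  intro p T x hx
  haveI := mono_app_of_mono u p
  rw [(cancel_mono (u.hom.app (op p))).1 (hx.trans zero_comp.symm), zero_comp]

theorem main1080 {I X : FilF A} (u : I ⟶ X) [Mono u] (hu : IsStrict u)
    (hI : IsFilteredInjective I) : ∃ r : X ⟶ I, u ≫ r = 𝟙 I :=
  main6605 u hu hI (𝟙 I)

end Mono

section Homotopy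

variable (K : CochainComplex (FilF A) ℤ)

lemma exists_ext_d (hK : IsFilteredAcyclic K) (J : FilF A) (hJ : IsFilteredInjective J)
    (n' n n'' : ℤ) (h1 : n' + 1 = n) (h2 : n + 1 = n'') (ψ : K.X n ⟶ J)
    (hψ : K.d n' n ≫ ψ = 0) : ∃ h : K.X n'' ⟶ J, K.d n n'' ≫ h = ψ := by
  subst h1 h2
  let S : ShortComplex (FilF A) :=
    ShortComplex.mk (K.d n' (n' + 1)) (K.d (n' + 1) (n' + 1 + 1)) (K.d_comp_d _ _ _)
  have hS : ∀ p : ℤ, (S.map (grF A p)).Exact := by
    intro p
    have := (HomologicalComplex.exactAt_iff' ((grCx p).obj K) n' (n' + 1) (n' + 1 + 1)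
      (by simp) (by simp)).1 (hK p (n' + 1))
    exact this
  refine exists_lift (K.d (n' + 1) (n' + 1 + 1)) ψ (strict_g S hS) hJ ?_
  intro p T x hx
  obtain ⟨T', π, hπ, z, e⟩ := (level_exact S hS p).exact_up_to_refinements x hx
  haveI := hπ
  have e' : π ≫ x = z ≫ (K.d n' (n' + 1)).hom.app (op p) := e
  have h0 : (K.d n' (n' + 1)).hom.app (op p) ≫ ψ.hom.app (op p) = 0 :=
    congrArg (fun φ => φ.hom.app (op p)) hψ
  rw [← cancel_epi π, comp_zero, ← Category.assoc, e', Category.assoc, h0, comp_zero]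

open Classical in
/-- A chosen extension along the differential. -/
noncomputable def extChoice (n n'' : ℤ) (J : FilF A) (ψ : K.X n ⟶ J) : K.X n'' ⟶ J :=
  if h : ∃ h' : K.X n'' ⟶ J, K.d n n'' ≫ h' = ψ then h.choose else 0

lemma extChoice_spec (n n'' : ℤ) (J : FilF A) (ψ : K.X n ⟶ J)
    (h : ∃ h' : K.X n'' ⟶ J, K.d n n'' ≫ h' = ψ) :
    K.d n n'' ≫ extChoice K n n'' J ψ = ψ := by
  unfold extChoice
  rw [dif_pos h]
  exact h.choose_spec

variable {K} {I : CochainComplex (FilF A) ℤ} (φ : K ⟶ I) (a : ℤ)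

/-- The sequence of partial homotopies. -/
noncomputable def hSeq : ℕ → (∀ i j : ℤ, K.X i ⟶ I.X j)
  | 0 => fun _ _ => 0
  | (k + 1) => Function.update (hSeq k) (a + k + 1)
      (Function.update (hSeq k (a + k + 1)) (a + k)
        (extChoice K (a + k) (a + k + 1) (I.X (a + k))
          (φ.f (a + k) - hSeq k (a + k) (a + k - 1) ≫ I.d (a + k - 1) (a + k))))

lemma hSeq_succ (k : ℕ) :
    hSeq φ a (k + 1) = Function.update (hSeq φ a k) (a + k + 1)
      (Function.update (hSeq φ a k (a + k + 1)) (a + k)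
        (extChoice K (a + k) (a + k + 1) (I.X (a + k))
          (φ.f (a + k) - hSeq φ a k (a + k) (a + k - 1) ≫ I.d (a + k - 1) (a + k)))) := rfl

lemma hSeq_succ_of_ne (k : ℕ) (i j : ℤ) (hi : i ≠ a + k + 1) :
    hSeq φ a (k + 1) i j = hSeq φ a k i j := by
  rw [hSeq_succ, Function.update_of_ne hi]

lemma hSeq_succ_self_of_ne (k : ℕ) (j : ℤ) (hj : j ≠ a + k) :
    hSeq φ a (k + 1) (a + k + 1) j = hSeq φ a k (a + k + 1) j := by
  rw [hSeq_succ, Function.update_self, Function.update_of_ne hj]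

lemma hSeq_succ_self (k : ℕ) :
    hSeq φ a (k + 1) (a + k + 1) (a + k) =
      extChoice K (a + k) (a + k + 1) (I.X (a + k))
          (φ.f (a + k) - hSeq φ a k (a + k) (a + k - 1) ≫ I.d (a + k - 1) (a + k)) := by
  rw [hSeq_succ, Function.update_self, Function.update_self]

lemma hSeq_add_eq (m k : ℕ) (i j : ℤ) (hi : i ≤ a + m) :
    hSeq φ a (m + k) i j = hSeq φ a m i j := by
  induction k with
  | zero => rfl
  | succ k ih =>
    rw [← add_assoc, hSeq_succ_of_ne φ a (m + k) i j (by push_cast; omega), ih]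

lemma hSeq_spec (hK : IsFilteredAcyclic K) [I.IsStrictlyGE a]
    (hI : ∀ n, IsFilteredInjective (I.X n)) (k : ℕ) :
    (∀ i j : ℤ, j + 1 ≠ i → hSeq φ a k i j = 0) ∧
    (∀ i i' i'' : ℤ, i'' + 1 = i → i + 1 = i' → i < a + k →
      φ.f i = K.d i i' ≫ hSeq φ a k i' i + hSeq φ a k i i'' ≫ I.d i'' i) := by
  induction k with
  | zero =>
    refine ⟨fun i j _ => rfl, fun i i' i'' _ _ hi => ?_⟩
    exact (I.isZero_of_isStrictlyGE a i (by push_cast at hi; omega)).eq_of_tgt _ _
  | succ k ih =>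
    obtain ⟨Z, Q⟩ := ih
    have hq := Q (a + k - 1) (a + k) (a + k - 1 - 1) (by omega) (by omega) (by omega)
    have hψ : K.d (a + k - 1) (a + k) ≫
        (φ.f (a + k) - hSeq φ a k (a + k) (a + k - 1) ≫ I.d (a + k - 1) (a + k)) = 0 := by
      rw [Preadditive.comp_sub, ← φ.comm, hq, Preadditive.add_comp, Category.assoc, Category.assoc,
        I.d_comp_d, comp_zero, add_zero, sub_self]
    have hex := exists_ext_d K hK (I.X (a + k)) (hI _) (a + k - 1) (a + k) (a + k + 1)
      (by omega) (by omega) _ hψ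
    have hsp := extChoice_spec K (a + k) (a + k + 1) (I.X (a + k)) _ hex
    constructor
    · intro i j hij
      by_cases hi : i = a + k + 1
      · subst hi
        rw [hSeq_succ_self_of_ne φ a k j (by omega)]
        exact Z _ _ hij
      · rw [hSeq_succ_of_ne φ a k i j hi]
        exact Z _ _ hij
    · intro i i' i'' h1 h2 hi
      by_cases hik : i = a + k
      · subst hik
        subst h2
        obtain rfl : i'' = a + k - 1 := by omega
        rw [hSeq_succ_self, hSeq_succ_of_ne φ a k (a + k) (a + k - 1) (by omega), hsp]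
        abel
      · rw [hSeq_succ_of_ne φ a k i' i (by push_cast at hi; omega),
          hSeq_succ_of_ne φ a k i i'' (by push_cast at hi; omega)]
        exact Q i i' i'' h1 h2 (by push_cast at hi; omega)

/-- The limit homotopy family. -/
noncomputable def hFam (i j : ℤ) : K.X i ⟶ I.X j := hSeq φ a (i - a).toNat i j

lemma hFam_eq (i j : ℤ) (m : ℕ) (hm : i ≤ a + m) : hFam φ a i j = hSeq φ a m i j := by
  have h1 : (i - a).toNat ≤ m := Int.toNat_le.mpr (by omega)
  obtain ⟨k, rfl⟩ := Nat.exists_eq_add_of_le h1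
  exact (hSeq_add_eq φ a _ k i j (by have := Int.self_le_toNat (i - a); omega)).symm

theorem main1083 (K I : CochainComplex (FilF A) ℤ) (hK : IsFilteredAcyclic K) (a : ℤ)
    [I.IsStrictlyGE a] (hI : ∀ n, IsFilteredInjective (I.X n)) (φ : K ⟶ I) :
    Nonempty (Homotopy φ 0) := by
  refine ⟨{ hom := fun i j => hFam φ a i j, zero := ?_, comm := ?_ }⟩
  · intro i j hij
    exact (hSeq_spec φ a hK hI _).1 i j (fun h => hij h)
  · intro i
    rw [dNext_eq _ (show (ComplexShape.up ℤ).Rel i (i + 1) from rfl),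
      prevD_eq _ (show (ComplexShape.up ℤ).Rel (i - 1) i by simp)]
    simp only [HomologicalComplex.zero_f, add_zero]
    have hM : i + 1 ≤ a + ((i + 1 - a).toNat : ℤ) := by
      have := Int.self_le_toNat (i + 1 - a); omega
    rw [hFam_eq φ a (i + 1) i (i + 1 - a).toNat hM,
      hFam_eq φ a i (i - 1) (i + 1 - a).toNat (by omega)]
    exact (hSeq_spec φ a hK hI (i + 1 - a).toNat).2 i (i + 1) (i - 1) (by omega) rfl (by omega)

end Homotopy

end Groth.Agent.Lib.FilDH4
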