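import Mathlib
import Groth.Prelude.Def_FilD
import Groth.Agent.Lib.FilD3_helper4

set_option autoImplicit false
set_option linter.style.haveILetI false
set_option linter.unusedSectionVars false

universe v u v' u'

open CategoryTheory CategoryTheory.Limits Opposite FilD

namespace Groth.Agent.Lib.FilDH4

variable {A : Type u} [Category.{v} A] [Abelian A]

section Biprod

variable (X Y : FilF A)

noncomputable abbrev bF1 : X.obj ⊞ Y.obj ⟶ X.obj := biprod.fst
noncomputable abbrev bF2 : X.obj ⊞ Y.obj ⟶ Y.obj := biprod.snd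
noncomputable abbrev bI1 : X.obj ⟶ X.obj ⊞ Y.obj := biprod.inl
noncomputable abbrev bI2 : Y.obj ⟶ X.obj ⊞ Y.obj := biprod.inr

lemma bp_total (c : ℤᵒᵖ) :
    (bF1 X Y).app c ≫ (bI1 X Y).app c + (bF2 X Y).app c ≫ (bI2 X Y).app c = 𝟙 _ := by
  have := congrArg (fun φ => φ.app c)
    (biprod.total : bF1 X Y ≫ bI1 X Y + bF2 X Y ≫ bI2 X Y = 𝟙 _)
  exact this

lemma biprod_isFinFil : IsFinFil A (X.obj ⊞ Y.obj) := by
  refine ⟨fun c d f => ?_, ?_, ?_⟩
  · haveI : Mono (X.obj.map f) := X.property.1 f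
    haveI : Mono (Y.obj.map f) := Y.property.1 f
    apply Preadditive.mono_of_cancel_zero
    intro Z g hg
    have h1 : g ≫ (bF1 X Y).app c = 0 := by
      rw [← cancel_mono (X.obj.map f), Category.assoc, ← (bF1 X Y).naturality f,
        ← Category.assoc, hg, zero_comp, zero_comp]
    have h2 : g ≫ (bF2 X Y).app c = 0 := by
      rw [← cancel_mono (Y.obj.map f), Category.assoc, ← (bF2 X Y).naturality f,
        ← Category.assoc, hg, zero_comp, zero_comp]
    calc g = g ≫ 𝟙 _ := (Category.comp_id g).symm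
      _ = 0 := by
        rw [← bp_total X Y c, Preadditive.comp_add, ← Category.assoc, h1, ← Category.assoc, h2,
          zero_comp, zero_comp, add_zero]
  · obtain ⟨b₁, hb₁⟩ := X.property.2.1
    obtain ⟨b₂, hb₂⟩ := Y.property.2.1
    refine ⟨max b₁ b₂, fun p hp => ?_⟩
    rw [IsZero.iff_id_eq_zero, ← bp_total X Y (op p),
      (hb₁ p (le_trans (le_max_left _ _) hp)).eq_of_tgt ((bF1 X Y).app (op p)) 0,
      (hb₂ p (le_trans (le_max_right _ _) hp)).eq_of_tgt ((bF2 X Y).app (op p)) 0,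
      zero_comp, zero_comp, add_zero]
  · obtain ⟨a₁, ha₁⟩ := X.property.2.2
    obtain ⟨a₂, ha₂⟩ := Y.property.2.2
    refine ⟨min a₁ a₂, fun c d f hc => ?_⟩
    haveI : IsIso (X.obj.map f) := ha₁ f (le_trans hc (min_le_left _ _))
    haveI : IsIso (Y.obj.map f) := ha₂ f (le_trans hc (min_le_right _ _))
    refine ⟨⟨(bF1 X Y).app d ≫ inv (X.obj.map f) ≫ (bI1 X Y).app c +
      (bF2 X Y).app d ≫ inv (Y.obj.map f) ≫ (bI2 X Y).app c, ?_, ?_⟩⟩
    · calc (X.obj ⊞ Y.obj).map f ≫ ((bF1 X Y).app d ≫ inv (X.obj.map f) ≫ (bI1 X Y).app c +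
            (bF2 X Y).app d ≫ inv (Y.obj.map f) ≫ (bI2 X Y).app c)
          = ((X.obj ⊞ Y.obj).map f ≫ (bF1 X Y).app d) ≫ inv (X.obj.map f) ≫ (bI1 X Y).app c +
            ((X.obj ⊞ Y.obj).map f ≫ (bF2 X Y).app d) ≫ inv (Y.obj.map f) ≫ (bI2 X Y).app c := by
            simp only [Preadditive.comp_add, Category.assoc]
        _ = ((bF1 X Y).app c ≫ X.obj.map f) ≫ inv (X.obj.map f) ≫ (bI1 X Y).app c +
            ((bF2 X Y).app c ≫ Y.obj.map f) ≫ inv (Y.obj.map f) ≫ (bI2 X Y).app c := by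
            rw [(bF1 X Y).naturality f, (bF2 X Y).naturality f]
        _ = (bF1 X Y).app c ≫ (bI1 X Y).app c + (bF2 X Y).app c ≫ (bI2 X Y).app c := by
            simp only [Category.assoc, IsIso.hom_inv_id_assoc]
        _ = 𝟙 _ := bp_total X Y c
    · calc ((bF1 X Y).app d ≫ inv (X.obj.map f) ≫ (bI1 X Y).app c +
            (bF2 X Y).app d ≫ inv (Y.obj.map f) ≫ (bI2 X Y).app c) ≫ (X.obj ⊞ Y.obj).map f
          = (bF1 X Y).app d ≫ inv (X.obj.map f) ≫ ((bI1 X Y).app c ≫ (X.obj ⊞ Y.obj).map f) +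
            (bF2 X Y).app d ≫ inv (Y.obj.map f) ≫ ((bI2 X Y).app c ≫ (X.obj ⊞ Y.obj).map f) := by
            simp only [Preadditive.add_comp, Category.assoc]
        _ = (bF1 X Y).app d ≫ inv (X.obj.map f) ≫ (X.obj.map f ≫ (bI1 X Y).app d) +
            (bF2 X Y).app d ≫ inv (Y.obj.map f) ≫ (Y.obj.map f ≫ (bI2 X Y).app d) := by
            rw [← (bI1 X Y).naturality f, ← (bI2 X Y).naturality f]
        _ = (bF1 X Y).app d ≫ (bI1 X Y).app d + (bF2 X Y).app d ≫ (bI2 X Y).app d := by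
            rw [IsIso.inv_hom_id_assoc, IsIso.inv_hom_id_assoc]
        _ = 𝟙 _ := bp_total X Y d

noncomputable def bpObj : FilF A := ⟨X.obj ⊞ Y.obj, biprod_isFinFil X Y⟩

noncomputable def bpBicone : BinaryBicone X Y where
  pt := bpObj X Y
  fst := ObjectProperty.homMk (bF1 X Y)
  snd := ObjectProperty.homMk (bF2 X Y)
  inl := ObjectProperty.homMk (bI1 X Y)
  inr := ObjectProperty.homMk (bI2 X Y)
  inl_fst := by
    apply ObjectProperty.hom_ext
    exact biprod.inl_fst
  inl_snd := by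
    apply ObjectProperty.hom_ext
    exact biprod.inl_snd
  inr_fst := by
    apply ObjectProperty.hom_ext
    exact biprod.inr_fst
  inr_snd := by
    apply ObjectProperty.hom_ext
    exact biprod.inr_snd

instance hasBinaryBiproducts_filF : HasBinaryBiproducts (FilF A) :=
  ⟨fun X Y => hasBinaryBiproduct_of_total (bpBicone X Y) (by
    apply ObjectProperty.hom_ext
    exact biprod.total)⟩

end Biprod

section Cone

open CochainComplex

lemma mappingCone_exactAt_of_quasiIso {C : Type u'} [Category.{v'} C] [Abelian C]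
    {K L : CochainComplex C ℤ} (φ : K ⟶ L) [QuasiIso φ] (n : ℤ) :
    (mappingCone φ).ExactAt n := by
  have h1 : HomotopyCategory.quasiIso C (ComplexShape.up ℤ)
      ((HomotopyCategory.quotient C (ComplexShape.up ℤ)).map φ) := by
    rw [HomotopyCategory.quotient_map_mem_quasiIso_iff]
    exact (HomologicalComplex.mem_quasiIso_iff φ).2 inferInstance
  rw [HomotopyCategory.quasiIso_eq_trW_subcategoryAcyclic] at h1
  have h2 := ((HomotopyCategory.subcategoryAcyclic C).trW_iff_of_distinguished _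
    (HomotopyCategory.mappingCone_triangleh_distinguished φ)).1 h1
  exact (HomotopyCategory.quotient_obj_mem_subcategoryAcyclic_iff_exactAt _).1 h2 n

lemma cone_filteredAcyclic {K L : CochainComplex (FilF A) ℤ} (α : K ⟶ L)
    (hα : IsFilteredQuasiIso α) : IsFilteredAcyclic (mappingCone α) := by
  intro p n
  haveI : QuasiIso ((grCx p).map α) := hα p
  exact (mappingCone_exactAt_of_quasiIso ((grCx p).map α) n).of_iso
    (mappingCone.mapHomologicalComplexIso α (grF A p)).symm

end Cone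

section Orth

open Pretriangulated

lemma bijective_precomp_of_orthogonal {C : Type u'} [Category.{v'} C] [Preadditive C]
    [HasZeroObject C] [HasShift C ℤ] [∀ n : ℤ, (shiftFunctor C n).Additive] [Pretriangulated C]
    (T : Triangle C) (hT : T ∈ distTriang C) (X : C)
    (h0 : ∀ g : T.obj₃ ⟶ X, g = 0) (h1 : ∀ g : T.obj₃ ⟶ X⟦(1 : ℤ)⟧, g = 0) :
    Function.Bijective (fun β : T.obj₂ ⟶ X => T.mor₁ ≫ β) := by
  constructor
  · intro β₁ β₂ h
    have h' : T.mor₁ ≫ (β₁ - β₂) = 0 := by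
      rw [Preadditive.comp_sub]
      exact sub_eq_zero.mpr h
    obtain ⟨g, hg⟩ := Triangle.yoneda_exact₂ T hT (β₁ - β₂) h'
    rw [h0 g, comp_zero] at hg
    exact sub_eq_zero.mp hg
  · intro δ
    have hT' := rot_of_distTriang _ (rot_of_distTriang _ hT)
    obtain ⟨g, hg⟩ := Triangle.yoneda_exact₂ T.rotate.rotate hT' (δ⟦(1 : ℤ)⟧') (h1 _)
    obtain ⟨g₀, hg₀⟩ : ∃ g₀ : T.obj₂ ⟶ X, (shiftFunctor C (1 : ℤ)).map g₀ = g :=
      (shiftFunctor C (1 : ℤ)).map_surjective g
    refine ⟨-g₀, ?_⟩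
    apply (shiftFunctor C (1 : ℤ)).map_injective
    have hg' : (shiftFunctor C (1 : ℤ)).map δ =
        (-(shiftFunctor C (1 : ℤ)).map T.mor₁) ≫ (shiftFunctor C (1 : ℤ)).map g₀ := by
      rw [hg₀]
      exact hg
    show (shiftFunctor C (1 : ℤ)).map (T.mor₁ ≫ (-g₀)) = _
    rw [hg', Functor.map_comp, Functor.map_neg, Preadditive.comp_neg, Preadditive.neg_comp]

end Orth

section Main

open CochainComplex

theorem main1084 (I : CochainComplex (FilF A) ℤ) (a : ℤ) [I.IsStrictlyGE a]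
    (hI : ∀ n, IsFilteredInjective (I.X n))
    {K L : CochainComplex (FilF A) ℤ} (α : K ⟶ L) (hα : IsFilteredQuasiIso α) :
    Function.Bijective (fun β : (HomotopyCategory.quotient (FilF A) (ComplexShape.up ℤ)).obj L ⟶
        (HomotopyCategory.quotient (FilF A) (ComplexShape.up ℤ)).obj I =>
      (HomotopyCategory.quotient (FilF A) (ComplexShape.up ℤ)).map α ≫ β) := by
  have hC := cone_filteredAcyclic α hα
  have key : ∀ (I' : CochainComplex (FilF A) ℤ) (a' : ℤ) [I'.IsStrictlyGE a']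
      (_ : ∀ n, IsFilteredInjective (I'.X n))
      (g : (HomotopyCategory.quotient (FilF A) (ComplexShape.up ℤ)).obj (mappingCone α) ⟶
        (HomotopyCategory.quotient (FilF A) (ComplexShape.up ℤ)).obj I'), g = 0 := by
    intro I' a' _ hI' g
    obtain ⟨g', rfl⟩ := (HomotopyCategory.quotient _ _).map_surjective g
    rw [HomotopyCategory.quotient_map_eq_zero_iff]
    exact main1083 _ _ hC a' hI' g'
  refine bijective_precomp_of_orthogonal (mappingCone.triangleh α)
    (HomotopyCategory.mappingCone_triangleh_distinguished α) _ (key I a hI) ?_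
  intro g
  haveI : (I⟦(1 : ℤ)⟧).IsStrictlyGE (a - 1) := I.isStrictlyGE_shift a 1 (a - 1) (by omega)
  let e := ((HomotopyCategory.quotient (FilF A) (ComplexShape.up ℤ)).commShiftIso (1 : ℤ)).app I
  have := key (I⟦(1 : ℤ)⟧) (a - 1) (fun n => (hI (n + 1) : _)) (g ≫ e.inv)
  exact (cancel_mono e.inv).1 (this.trans zero_comp.symm)

theorem main1090 {X Y : FilF A} (f : X ⟶ Y)
    (I : CochainComplex (FilF A) ℤ)
    (a : (CochainComplex.singleFunctor (FilF A) 0).obj X ⟶ I) (ha : IsFilteredQuasiIso a)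
    (J : CochainComplex (FilF A) ℤ) [J.IsStrictlyGE 0] (hJ : ∀ n, IsFilteredInjective (J.X n))
    (b : (CochainComplex.singleFunctor (FilF A) 0).obj Y ⟶ J) :
    ∃ φ : I ⟶ J, a ≫ φ = (CochainComplex.singleFunctor (FilF A) 0).map f ≫ b := by
  obtain ⟨β, hβ⟩ := (main1084 J 0 hJ a ha).2 ((HomotopyCategory.quotient _ _).map
    ((CochainComplex.singleFunctor (FilF A) 0).map f ≫ b))
  obtain ⟨φ, rfl⟩ := (HomotopyCategory.quotient _ _).map_surjective β
  refine ⟨φ, ?_⟩
  have hβ' : (HomotopyCategory.quotient _ _).map (a ≫ φ) =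
      (HomotopyCategory.quotient _ _).map ((CochainComplex.singleFunctor (FilF A) 0).map f ≫ b) := by
    rw [Functor.map_comp]
    exact hβ
  have h := HomotopyCategory.homotopyOfEq _ _ hβ'
  have hz : ∀ i j, h.hom i j = 0 := by
    intro i j
    by_cases hij : j + 1 = i
    · by_cases hi : i = 0
      · subst hi
        exact (J.isZero_of_isStrictlyGE 0 j (by omega)).eq_of_tgt _ _
      · exact (HomologicalComplex.isZero_single_obj_X (ComplexShape.up ℤ) 0 X i hi).eq_of_src _ _
    · exact h.zero i j hij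
  have e1 : h.hom = 0 := by
    funext i j
    exact hz i j
  ext n
  rw [h.comm n, e1]
  simp

end Main

end Groth.Agent.Lib.FilDH4
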