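import Mathlib
import Groth.Prelude.Def_FilD
import Groth.Agent.Lib.FilD4_helper4

set_option autoImplicit false
set_option linter.style.haveILetI false
set_option linter.unusedSectionVars false

universe v u

open CategoryTheory CategoryTheory.Limits Opposite FilD

namespace Groth.Agent.Lib.FilDH4

variable {A : Type u} [Category.{v} A] [Abelian A]

section Enough

/-- Bounds of a finite filtered object, normalized so that `a < b`. -/
structure Bounds (X : FilF A) where
  a : ℤ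
  b : ℤ
  hab : a < b
  zero : ∀ p : ℤ, b ≤ p → IsZero (X.obj.obj (op p))
  iso : ∀ {p q : ℤ} (h : p ≤ q), q ≤ a → IsIso (trF X h)

lemma exists_bounds (X : FilF A) : Nonempty (Bounds X) := by
  obtain ⟨b, hb⟩ := X.property.2.1
  obtain ⟨a₀, ha₀⟩ := X.property.2.2
  exact ⟨⟨min a₀ (b - 1), b, by have := min_le_right a₀ (b - 1); omega, hb,
    fun {p q} h hq => ha₀ (homOfLE h).op (le_trans hq (min_le_left _ _))⟩⟩

variable {X : FilF A} (B : Bounds X)

/-- The leg to the "whole object" `X(a)`. -/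
noncomputable def leg (q : ℤ) : X.obj.obj (op q) ⟶ X.obj.obj (op B.a) :=
  haveI := B.iso (min_le_right q B.a) le_rfl
  trF X (min_le_left q B.a) ≫ inv (trF X (min_le_right q B.a))

lemma leg_nat {q' q : ℤ} (h : q' ≤ q) : trF X h ≫ leg B q' = leg B q := by
  haveI := B.iso (min_le_right q B.a) le_rfl
  haveI := B.iso (min_le_right q' B.a) le_rfl
  have hm : min q' B.a ≤ min q B.a := min_le_min_right _ h
  unfold leg
  rw [← Category.assoc, trF_comp X (min_le_left q' B.a) h, IsIso.comp_inv_eq]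
  have e1 : trF X (min_le_right q' B.a) = trF X (min_le_right q B.a) ≫ trF X hm :=
    (trF_comp X hm (min_le_right q B.a)).symm
  rw [e1, Category.assoc, IsIso.inv_hom_id_assoc, trF_comp]

lemma mono_leg (q : ℤ) : Mono (leg B q) := by
  haveI := B.iso (min_le_right q B.a) le_rfl
  haveI := mono_trF X (min_le_left q B.a)
  unfold leg
  exact mono_comp _ _

variable [EnoughInjectives A]

attribute [local instance] Abelian.hasFiniteBiproducts

/-- The injective hull of `X(a)/X(p+1)`. -/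
noncomputable abbrev Jp (p : ℤ) : A := Injective.under (cokernel (leg B (p + 1)))

noncomputable def kap (p : ℤ) : X.obj.obj (op B.a) ⟶ Jp B p :=
  cokernel.π (leg B (p + 1)) ≫ Injective.ι _

lemma leg_kap {p q : ℤ} (h : p + 1 ≤ q) : leg B q ≫ kap B p = 0 := by
  unfold kap
  rw [← leg_nat B h, Category.assoc, cokernel.condition_assoc, zero_comp, comp_zero]

lemma exists_lift_of_kap (p r : ℤ) (hr : r = p + 1) {T : A} (y : T ⟶ X.obj.obj (op B.a))
    (hy : y ≫ kap B p = 0) :
    ∃ (T' : A) (π : T' ⟶ T) (_ : Epi π) (x : T' ⟶ X.obj.obj (op r)), π ≫ y = x ≫ leg B r := by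
  subst hr
  have h1 : y ≫ cokernel.π (leg B (p + 1)) = 0 := by
    rw [← cancel_mono (Injective.ι (cokernel (leg B (p + 1)))), Category.assoc, zero_comp]
    exact hy
  exact (ShortComplex.exact_cokernel (leg B (p + 1))).exact_up_to_refinements y h1

lemma mono_cokπ_leg (r : ℤ) (hr : B.b ≤ r) : Mono (cokernel.π (leg B r)) := by
  apply Preadditive.mono_of_cancel_zero
  intro T g hg
  obtain ⟨T', π, hπ, x, e⟩ :=
    (ShortComplex.exact_cokernel (leg B r)).exact_up_to_refinements g hg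
  haveI := hπ
  have e' : π ≫ g = x ≫ leg B r := e
  have hx : x = 0 := (B.zero r hr).eq_of_tgt _ _
  rw [← cancel_epi π, comp_zero, e', hx, zero_comp]

lemma mono_kap (p : ℤ) (hp : B.b ≤ p + 1) : Mono (kap B p) := by
  haveI : Mono (cokernel.π (leg B (p + 1))) := mono_cokπ_leg B (p + 1) hp
  unfold kap
  exact mono_comp _ _

/-- Index set. -/
abbrev Idx := {p : ℤ // p ∈ Finset.Ico B.a B.b}

noncomputable abbrev Wobj : A := ⨁ (fun p : Idx B => Jp B p.1)

noncomputable abbrev Wπ (p : Idx B) : Wobj B ⟶ Jp B p.1 :=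
  biproduct.π (fun p : Idx B => Jp B p.1) p

noncomputable def phi : X.obj.obj (op B.a) ⟶ Wobj B :=
  biproduct.lift (fun p : Idx B => kap B p.1)

lemma phi_π (p : Idx B) : phi B ≫ Wπ B p = kap B p.1 := biproduct.lift_π _ _

lemma mono_phi : Mono (phi B) := by
  have hab := B.hab
  have hmem : B.b - 1 ∈ Finset.Ico B.a B.b := Finset.mem_Ico.2 ⟨by omega, by omega⟩
  haveI : Mono (phi B ≫ Wπ B ⟨B.b - 1, hmem⟩) := by
    rw [phi_π]
    exact mono_kap B (B.b - 1) (by omega)
  exact mono_of_mono (phi B) (Wπ B ⟨B.b - 1, hmem⟩)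

/-- The filtration steps of `W`. -/
noncomputable def Isub (q : ℤ) : Subobject (Wobj B) :=
  (Finset.univ.filter (fun p : Idx B => p.1 < q)).inf (fun p => kernelSubobject (Wπ B p))

lemma Isub_factors_iff (q : ℤ) {T : A} (f : T ⟶ Wobj B) :
    (Isub B q).Factors f ↔ ∀ p : Idx B, p.1 < q → f ≫ Wπ B p = 0 := by
  unfold Isub
  rw [Subobject.finset_inf_factors]
  constructor
  · intro h p hp
    exact (kernelSubobject_factors_iff _ _).1 (h p (by simp [hp]))
  · intro h p hp
    exact (kernelSubobject_factors_iff _ _).2 (h p (by simpa using hp))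

lemma Isub_arrow_π (q : ℤ) (p : Idx B) (hp : p.1 < q) : (Isub B q).arrow ≫ Wπ B p = 0 :=
  (Isub_factors_iff B q _).1 (Subobject.factors_self _) p hp

lemma Isub_le (q q' : ℤ) (h : ∀ p : Idx B, p.1 < q' → p.1 < q) : Isub B q ≤ Isub B q' :=
  AbSubobjH4.le_of_factors _ _ ((Isub_factors_iff B q' _).2
    (fun p hp => Isub_arrow_π B q p (h p hp)))

/-- The filtered object `I`. -/
noncomputable def Ifun : ℤᵒᵖ ⥤ A where
  obj c := ((Isub B c.unop : Subobject (Wobj B)) : A)
  map {c d} f := Subobject.ofLE _ _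
    (Isub_le B c.unop d.unop (fun p hp => lt_of_lt_of_le hp (leOfHom f.unop)))
  map_id c := Subobject.ofLE_refl _
  map_comp f g := (Subobject.ofLE_comp_ofLE _ _ _ _ _).symm

noncomputable def Iarr (c : ℤᵒᵖ) : (Ifun B).obj c ⟶ Wobj B := (Isub B c.unop).arrow

instance (c : ℤᵒᵖ) : Mono (Iarr B c) :=
  (inferInstance : Mono (Isub B c.unop).arrow)

lemma Iarr_π (c : ℤᵒᵖ) (p : Idx B) (hp : p.1 < c.unop) : Iarr B c ≫ Wπ B p = 0 :=
  Isub_arrow_π B c.unop p hp

lemma Ifun_map_Iarr {c d : ℤᵒᵖ} (f : c ⟶ d) : (Ifun B).map f ≫ Iarr B d = Iarr B c :=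
  Subobject.ofLE_arrow _

noncomputable def Ilift (c : ℤᵒᵖ) {T : A} (f : T ⟶ Wobj B)
    (hf : ∀ p : Idx B, p.1 < c.unop → f ≫ Wπ B p = 0) : T ⟶ (Ifun B).obj c :=
  (Isub B c.unop).factorThru f ((Isub_factors_iff B c.unop f).2 hf)

lemma Ilift_arr (c : ℤᵒᵖ) {T : A} (f : T ⟶ Wobj B)
    (hf : ∀ p : Idx B, p.1 < c.unop → f ≫ Wπ B p = 0) : Ilift B c f hf ≫ Iarr B c = f :=
  Subobject.factorThru_arrow _ _ _

lemma Ifun_isZero (p : ℤ) (hp : B.b ≤ p) : IsZero ((Ifun B).obj (op p)) := by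
  have h0 : Iarr B (op p) = 0 := by
    apply biproduct.hom_ext
    intro j
    rw [zero_comp]
    exact Iarr_π B (op p) j (lt_of_lt_of_le (Finset.mem_Ico.1 j.2).2 hp)
  exact IsZero.of_mono_eq_zero _ h0

lemma Ifun_isIso_of_le {c d : ℤᵒᵖ} (f : c ⟶ d) (hle : Isub B d.unop ≤ Isub B c.unop) :
    IsIso ((Ifun B).map f) := by
  refine ⟨⟨Subobject.ofLE _ _ hle, ?_, ?_⟩⟩
  · show Subobject.ofLE _ _ _ ≫ Subobject.ofLE _ _ _ = _
    rw [Subobject.ofLE_comp_ofLE]
    exact Subobject.ofLE_refl _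
  · show Subobject.ofLE _ _ _ ≫ Subobject.ofLE _ _ _ = _
    rw [Subobject.ofLE_comp_ofLE]
    exact Subobject.ofLE_refl _

lemma Ifun_isFinFil : IsFinFil A (Ifun B) := by
  refine ⟨fun c d f => ?_, ⟨B.b, fun p hp => Ifun_isZero B p hp⟩, ⟨B.a, fun c d f hc => ?_⟩⟩
  · show Mono (Subobject.ofLE _ _ _)
    infer_instance
  · exact Ifun_isIso_of_le B f (Isub_le B _ _ (fun p hp => by
      have := (Finset.mem_Ico.1 p.2).1
      omega))

noncomputable abbrev Iobj : FilF A := ⟨Ifun B, Ifun_isFinFil B⟩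

lemma fac_u (q : ℤ) (p : Idx B) (hp : p.1 < q) : (leg B q ≫ phi B) ≫ Wπ B p = 0 := by
  rw [Category.assoc, phi_π, leg_kap B (by omega)]

noncomputable def uApp (c : ℤᵒᵖ) : X.obj.obj c ⟶ (Ifun B).obj c :=
  Ilift B c (leg B c.unop ≫ phi B) (fun p hp => fac_u B c.unop p hp)

lemma uApp_arr (c : ℤᵒᵖ) : uApp B c ≫ Iarr B c = leg B c.unop ≫ phi B :=
  Ilift_arr B c _ _

lemma uApp_arr' (q : ℤ) : uApp B (op q) ≫ Iarr B (op q) = leg B q ≫ phi B :=
  uApp_arr B (op q)

noncomputable def uNat : X.obj ⟶ Ifun B where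
  app := uApp B
  naturality := by
    intro c d f
    have hle : d.unop ≤ c.unop := leOfHom f.unop
    have e1 : X.obj.map f ≫ leg B d.unop = leg B c.unop := by
      have e : f = (homOfLE hle).op := Subsingleton.elim _ _
      rw [e]
      exact leg_nat B hle
    apply (cancel_mono (Iarr B d)).1
    calc (X.obj.map f ≫ uApp B d) ≫ Iarr B d
        = X.obj.map f ≫ (uApp B d ≫ Iarr B d) := Category.assoc _ _ _
      _ = (X.obj.map f ≫ leg B d.unop) ≫ phi B := by rw [uApp_arr, Category.assoc]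
      _ = uApp B c ≫ Iarr B c := by rw [e1, uApp_arr]
      _ = uApp B c ≫ ((Ifun B).map f ≫ Iarr B d) := by rw [Ifun_map_Iarr]
      _ = (uApp B c ≫ (Ifun B).map f) ≫ Iarr B d := (Category.assoc _ _ _).symm

noncomputable def uHom : X ⟶ Iobj B := ObjectProperty.homMk (uNat B)

lemma mono_uApp (c : ℤᵒᵖ) : Mono (uApp B c) := by
  haveI := mono_leg B c.unop
  haveI := mono_phi B
  haveI : Mono (uApp B c ≫ Iarr B c) := by
    rw [uApp_arr]
    exact mono_comp _ _
  exact mono_of_mono (uApp B c) (Iarr B c)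

lemma mono_uHom : Mono (uHom B) := by
  haveI : ∀ c, Mono ((uNat B).app c) := fun c => mono_uApp B c
  haveI : Mono (uNat B) := NatTrans.mono_of_mono_app _
  exact (IsFinFil A).ι.mono_of_mono_map (show Mono ((IsFinFil A).ι.map (uHom B)) from this)

lemma inj_gr (q : ℤ) : Injective ((gr A q).obj (Ifun B)) := by
  by_cases hq : q ∈ Finset.Ico B.a B.b
  · have hzero : (Ifun B).map (stepHom q) ≫ Iarr B (op q) ≫ Wπ B ⟨q, hq⟩ = 0 := by
      rw [← Category.assoc, Ifun_map_Iarr]
      exact Iarr_π B (op (q + 1)) ⟨q, hq⟩ (by show q < q + 1; omega)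
    have hex : (ShortComplex.mk _ _ hzero).Exact := by
      rw [ShortComplex.exact_iff_exact_up_to_refinements]
      intro T (y : T ⟶ (Ifun B).obj (op q)) (hy : y ≫ Iarr B (op q) ≫ Wπ B ⟨q, hq⟩ = 0)
      have hf : ∀ p' : Idx B, p'.1 < (op (q + 1)).unop → (y ≫ Iarr B (op q)) ≫ Wπ B p' = 0 := by
        intro p' hp'
        have hp'' : p'.1 < q + 1 := hp'
        by_cases h : p'.1 < q
        · rw [Category.assoc, Iarr_π B (op q) p' h, comp_zero]
        · have : p' = ⟨q, hq⟩ := Subtype.ext (by show p'.1 = q; omega)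
          rw [this, Category.assoc]
          exact hy
      refine ⟨T, 𝟙 T, inferInstance, Ilift B (op (q + 1)) _ hf, ?_⟩
      rw [Category.id_comp]
      apply (cancel_mono (Iarr B (op q))).1
      calc y ≫ Iarr B (op q)
          = Ilift B (op (q + 1)) _ hf ≫ Iarr B (op (q + 1)) := (Ilift_arr B _ _ hf).symm
        _ = Ilift B (op (q + 1)) _ hf ≫ ((Ifun B).map (stepHom q) ≫ Iarr B (op q)) := by
            rw [Ifun_map_Iarr]
        _ = (Ilift B (op (q + 1)) _ hf ≫ (Ifun B).map (stepHom q)) ≫ Iarr B (op q) :=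
            (Category.assoc _ _ _).symm
    have hρ : Epi (Iarr B (op q) ≫ Wπ B ⟨q, hq⟩) := by
      have hs : ∀ p' : Idx B, p'.1 < (op q).unop →
          biproduct.ι (fun p : Idx B => Jp B p.1) ⟨q, hq⟩ ≫ Wπ B p' = 0 := by
        intro p' hp'
        have hne : (⟨q, hq⟩ : Idx B) ≠ p' := by
          intro h
          have h2 : p'.1 < q := hp'
          rw [← h] at h2
          exact lt_irrefl _ h2
        exact biproduct.ι_π_ne _ hne
      have hfac : Ilift B (op q) _ hs ≫ (Iarr B (op q) ≫ Wπ B ⟨q, hq⟩) = 𝟙 _ := by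
        rw [← Category.assoc, Ilift_arr]
        exact biproduct.ι_π_self _ _
      exact epi_of_epi_fac hfac
    haveI : Epi (ShortComplex.mk _ _ hzero).g := hρ
    have e := (cokernelIsCokernel ((Ifun B).map (stepHom q))).coconePointUniqueUpToIso
      hex.gIsCokernel
    exact Injective.of_iso e.symm (show Injective (Jp B q) from inferInstance)
  · have hle : Isub B q ≤ Isub B (q + 1) := Isub_le B _ _ (fun p hp => by
      have hp2 := p.2
      by_contra hcon
      have h3 : p.1 = q := by omega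
      exact hq (h3 ▸ hp2))
    haveI : IsIso ((Ifun B).map (stepHom q)) := Ifun_isIso_of_le B (stepHom q) hle
    exact (isZero_cokernel_of_epi ((Ifun B).map (stepHom q))).injective

omit [EnoughInjectives A] in
lemma isStrict_of_lifting {F G : FilF A} (φ : F ⟶ G)
    (H : ∀ (q q' : ℤ) (h : q ≤ q') (T : A) (a : T ⟶ F.obj.obj (op q))
      (z : T ⟶ G.obj.obj (op q')), a ≫ φ.hom.app (op q) = z ≫ trF G h →
      ∃ (T' : A) (π : T' ⟶ T) (_ : Epi π) (x' : T' ⟶ F.obj.obj (op q')),
        π ≫ a = x' ≫ trF F h) :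
    IsStrict φ := by
  intro q q' h
  haveI := mono_trF G h
  refine le_antisymm (strict_le φ h) ?_
  obtain ⟨P, hP1, hP2, hPe⟩ : ∃ P : Subobject (G.obj.obj (op q)),
      P ≤ imageSubobject (φ.hom.app (op q)) ∧ P ≤ Subobject.mk (trF G h) ∧
      P = imageSubobject (φ.hom.app (op q)) ⊓ Subobject.mk (trF G h) :=
    ⟨_, inf_le_left, inf_le_right, rfl⟩
  rw [← hPe]
  obtain ⟨z, hz⟩ := sub_mk_lift P (trF G h) hP2
  obtain ⟨T, a, b', hb', hab⟩ :=
    AbSubobjH4.exists_epi_lift (φ.hom.app (op q)) P.arrow (by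
      rw [AbSubobjH4.image_arrow]
      exact hP1)
  haveI := hb'
  obtain ⟨T', π, hπ, x', e⟩ := H q q' h T a (b' ≫ z) (by rw [hab, Category.assoc, hz])
  haveI := hπ
  refine le_image_of_refinement P _ (π ≫ b') x' ?_
  rw [Category.assoc, ← hab, ← Category.assoc, e, Category.assoc, nat_trF φ h]

lemma strict_uHom : IsStrict (uHom B) := by
  refine isStrict_of_lifting _ ?_
  intro q q' h T a z haz
  have hab := B.hab
  obtain ⟨z', rfl⟩ : ∃ z' : T ⟶ (Ifun B).obj (op q'), z' = z := ⟨z, rfl⟩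
  have haz' : a ≫ uApp B (op q) = z' ≫ (Ifun B).map (homOfLE h).op := haz
  by_cases hb : B.b ≤ q'
  · have hz' : z' = 0 := (Ifun_isZero B q' hb).eq_of_tgt _ _
    haveI := mono_uApp B (op q)
    have ha0 : a = 0 := (cancel_mono (uApp B (op q))).1 (by rw [haz', hz', zero_comp, zero_comp])
    exact ⟨T, 𝟙 T, inferInstance, 0, by rw [ha0, comp_zero, zero_comp]⟩
  · by_cases ha : q' ≤ B.a
    · haveI := B.iso h ha
      exact ⟨T, 𝟙 T, inferInstance, a ≫ inv (trF X h), by
        rw [Category.id_comp, Category.assoc, IsIso.inv_hom_id, Category.comp_id]⟩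
    · have hq1 : q' - 1 ∈ Finset.Ico B.a B.b := Finset.mem_Ico.2 ⟨by omega, by omega⟩
      have h1 : a ≫ leg B q ≫ phi B = z' ≫ Iarr B (op q') := by
        calc a ≫ leg B q ≫ phi B
            = a ≫ uApp B (op q) ≫ Iarr B (op q) := by rw [uApp_arr']
          _ = (a ≫ uApp B (op q)) ≫ Iarr B (op q) := (Category.assoc _ _ _).symm
          _ = (z' ≫ (Ifun B).map (homOfLE h).op) ≫ Iarr B (op q) := by rw [haz']
          _ = z' ≫ ((Ifun B).map (homOfLE h).op ≫ Iarr B (op q)) := Category.assoc _ _ _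
          _ = z' ≫ Iarr B (op q') := by rw [Ifun_map_Iarr]
      have hkey : (a ≫ leg B q) ≫ kap B (q' - 1) = 0 := by
        have h2 := congrArg (fun m => m ≫ Wπ B ⟨q' - 1, hq1⟩) h1
        simp only [Category.assoc] at h2
        rw [phi_π, Iarr_π B (op q') ⟨q' - 1, hq1⟩ (by show q' - 1 < q'; omega), comp_zero] at h2
        rw [Category.assoc]
        exact h2
      obtain ⟨T', π', hπ', x', e'⟩ :=
        exists_lift_of_kap B (q' - 1) q' (by omega) (a ≫ leg B q) hkey
      haveI := mono_leg B q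
      refine ⟨T', π', hπ', x', ?_⟩
      rw [← cancel_mono (leg B q), Category.assoc, Category.assoc, leg_nat B h]
      exact e'

theorem main1081 (X : FilF A) :
    ∃ (I : FilF A) (u : X ⟶ I), IsFilteredInjective I ∧ Mono u ∧ IsStrict u := by
  obtain ⟨B⟩ := exists_bounds X
  exact ⟨Iobj B, uHom B, fun p => inj_gr B p, mono_uHom B, strict_uHom B⟩

end Enough

end Groth.Agent.Lib.FilDH4
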