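import Mathlib
import Groth.Prelude.Def_FilD
import Groth.Agent.Lib.FilD5_helper4

set_option autoImplicit false
set_option linter.style.haveILetI false
set_option linter.unusedSectionVars false

universe v u

open CategoryTheory CategoryTheory.Limits Opposite FilD

namespace Groth.Agent.Lib.FilDH4

variable {A : Type u} [Category.{v} A] [Abelian A]

section Cokernel

variable {X Y : FilF A} (φ : X ⟶ Y)

lemma strict_lifting (hφ : IsStrict φ) {p q : ℤ} (h : p ≤ q) {T : A}
    (a : T ⟶ X.obj.obj (op p)) (z : T ⟶ Y.obj.obj (op q))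
    (e : a ≫ φ.hom.app (op p) = z ≫ trF Y h) :
    ∃ (T' : A) (π : T' ⟶ T) (_ : Epi π) (x' : T' ⟶ X.obj.obj (op q)),
      π ≫ z = x' ≫ φ.hom.app (op q) := by
  haveI := mono_trF Y h
  have hstr := hφ p q h
  have hle : imageSubobject (z ≫ trF Y h) ≤ imageSubobject (φ.hom.app (op q) ≫ trF Y h) := by
    rw [hstr]
    apply le_inf
    · rw [← e]
      exact imageSubobject_comp_le _ _
    · exact imageSubobject_le_mk _ _ z rfl
  obtain ⟨T', a', b, hb, hab⟩ := AbSubobjH4.exists_epi_lift _ _ hle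
  refine ⟨T', b, hb, a', ?_⟩
  rw [← cancel_mono (trF Y h), Category.assoc, Category.assoc]
  exact hab.symm

lemma cokπ_app_epi (c : ℤᵒᵖ) : Epi ((cokernel.π φ.hom).app c) :=
  (NatTrans.epi_iff_epi_app _).1 inferInstance c

lemma cok_app_zero (c : ℤᵒᵖ) : φ.hom.app c ≫ (cokernel.π φ.hom).app c = 0 := by
  rw [← NatTrans.comp_app, cokernel.condition]
  rfl

lemma cok_level_exact (c : ℤᵒᵖ) :
    (ShortComplex.mk (φ.hom.app c) ((cokernel.π φ.hom).app c) (cok_app_zero φ c)).Exact :=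
  (ShortComplex.exact_cokernel φ.hom).map ((evaluation ℤᵒᵖ A).obj c)

lemma cok_map_mono (hφ : IsStrict φ) {p q : ℤ} (h : p ≤ q) :
    Mono ((cokernel φ.hom).map (homOfLE h).op) := by
  apply Preadditive.mono_of_cancel_zero
  intro T t ht
  haveI := cokπ_app_epi φ (op q)
  obtain ⟨T₁, π₁, hπ₁, y, e₁⟩ :=
    surjective_up_to_refinements_of_epi ((cokernel.π φ.hom).app (op q)) t
  have h2 : (y ≫ trF Y h) ≫ (cokernel.π φ.hom).app (op p) = 0 := by
    rw [Category.assoc, (cokernel.π φ.hom).naturality (homOfLE h).op, ← Category.assoc, ← e₁,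
      Category.assoc, ht, comp_zero]
  obtain ⟨T₂, π₂, hπ₂, x, e₂⟩ := (cok_level_exact φ (op p)).exact_up_to_refinements _ h2
  have e₂' : π₂ ≫ y ≫ trF Y h = x ≫ φ.hom.app (op p) := e₂
  obtain ⟨T₃, π₃, hπ₃, x', e₃⟩ := strict_lifting φ hφ h x (π₂ ≫ y) (by
    rw [Category.assoc]
    exact e₂'.symm)
  haveI := hπ₁
  haveI := hπ₂
  haveI := hπ₃
  have : (π₃ ≫ π₂ ≫ π₁) ≫ t = 0 := by
    calc (π₃ ≫ π₂ ≫ π₁) ≫ t = π₃ ≫ π₂ ≫ (π₁ ≫ t) := by simp only [Category.assoc]
      _ = (π₃ ≫ π₂ ≫ y) ≫ (cokernel.π φ.hom).app (op q) := by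
          rw [e₁]
          simp only [Category.assoc]
      _ = 0 := by rw [e₃, Category.assoc, cok_app_zero, comp_zero]
  exact (cancel_epi (π₃ ≫ π₂ ≫ π₁)).1 (this.trans comp_zero.symm)

lemma cokernel_isFinFil (hφ : IsStrict φ) : IsFinFil A (cokernel φ.hom) := by
  refine ⟨fun c d f => ?_, ?_, ?_⟩
  · have hle : d.unop ≤ c.unop := leOfHom f.unop
    have ef : f = (homOfLE hle).op := Subsingleton.elim _ _
    rw [ef]
    exact cok_map_mono φ hφ hle
  · obtain ⟨b, hb⟩ := Y.property.2.1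
    refine ⟨b, fun p hp => ?_⟩
    haveI := cokπ_app_epi φ (op p)
    exact IsZero.of_epi ((cokernel.π φ.hom).app (op p)) (hb p hp)
  · obtain ⟨a₂, ha₂⟩ := Y.property.2.2
    refine ⟨a₂, fun c d f hc => ?_⟩
    have hle : d.unop ≤ c.unop := leOfHom f.unop
    have ef : f = (homOfLE hle).op := Subsingleton.elim _ _
    haveI : Mono ((cokernel φ.hom).map f) := by
      rw [ef]
      exact cok_map_mono φ hφ hle
    haveI : IsIso (Y.obj.map f) := ha₂ f hc
    haveI := cokπ_app_epi φ d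
    haveI := cokπ_app_epi φ c
    haveI : Epi ((cokernel φ.hom).map f) := by
      have hn : (cokernel.π φ.hom).app c ≫ (cokernel φ.hom).map f =
          Y.obj.map f ≫ (cokernel.π φ.hom).app d := ((cokernel.π φ.hom).naturality f).symm
      haveI : Epi ((cokernel.π φ.hom).app c ≫ (cokernel φ.hom).map f) := by
        rw [hn]
        exact epi_comp _ _
      exact epi_of_epi ((cokernel.π φ.hom).app c) _
    exact isIso_of_mono_of_epi _

/-- The cokernel of a strict morphism, with the quotient filtration. -/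
noncomputable def cokFil (hφ : IsStrict φ) : FilF A := ⟨cokernel φ.hom, cokernel_isFinFil φ hφ⟩

noncomputable def cokπ (hφ : IsStrict φ) : Y ⟶ cokFil φ hφ :=
  ObjectProperty.homMk (cokernel.π φ.hom)

lemma comp_cokπ (hφ : IsStrict φ) : φ ≫ cokπ φ hφ = 0 := by
  apply ObjectProperty.hom_ext
  exact cokernel.condition φ.hom

noncomputable def cokCx (hφ : IsStrict φ) : ShortComplex (FilF A) :=
  ShortComplex.mk φ (cokπ φ hφ) (comp_cokπ φ hφ)

lemma cokπ_hom_app_epi (hφ : IsStrict φ) (c : ℤᵒᵖ) : Epi ((cokπ φ hφ).hom.app c) :=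
  cokπ_app_epi φ c

lemma strict_cokπ (hφ : IsStrict φ) : IsStrict (cokπ φ hφ) := by
  intro p q h
  haveI := mono_trF (cokFil φ hφ) h
  refine le_antisymm (strict_le (cokπ φ hφ) h) ?_
  obtain ⟨P, hP2, hPe⟩ : ∃ P : Subobject ((cokFil φ hφ).obj.obj (op p)),
      P ≤ Subobject.mk (trF (cokFil φ hφ) h) ∧
      P = imageSubobject ((cokπ φ hφ).hom.app (op p)) ⊓ Subobject.mk (trF (cokFil φ hφ) h) :=
    ⟨_, inf_le_right, rfl⟩
  rw [← hPe]
  obtain ⟨z, hz⟩ := sub_mk_lift P (trF (cokFil φ hφ) h) hP2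
  haveI : Epi ((cokπ φ hφ).hom.app (op q)) := cokπ_hom_app_epi φ hφ (op q)
  obtain ⟨T', π', hπ', y, e⟩ :=
    surjective_up_to_refinements_of_epi ((cokπ φ hφ).hom.app (op q)) z
  haveI := hπ'
  refine le_image_of_refinement P _ π' y ?_
  rw [← hz, ← Category.assoc, e, Category.assoc]

lemma gr_shortExact_of_strictMono (hφ : IsStrict φ) (hm : ∀ p : ℤ, Mono (φ.hom.app (op p)))
    (p : ℤ) :
    (ShortComplex.mk ((gr A p).map φ.hom) ((gr A p).map (cokπ φ hφ).hom)
      (gr_zero (cokCx φ hφ) p)).ShortExact := by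
  have hex := gr_exact_of_strict (cokCx φ hφ) (fun p => cok_level_exact φ (op p))
    (strict_cokπ φ hφ) p
  haveI : Mono ((gr A p).map φ.hom) := by
    apply Preadditive.mono_of_cancel_zero
    intro T t ht
    obtain ⟨T₁, π₁, hπ₁, y, e₁⟩ := surjective_up_to_refinements_of_epi (grπ X p) t
    have h2 : (y ≫ φ.hom.app (op p)) ≫ grπ Y p = 0 := by
      rw [Category.assoc, ← grπ_map, ← Category.assoc, ← e₁, Category.assoc, ht, comp_zero]
    obtain ⟨T₂, π₂, hπ₂, w, e₂⟩ := (exact_step_grπ Y p).exact_up_to_refinements _ h2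
    have e₂' : π₂ ≫ y ≫ φ.hom.app (op p) = w ≫ Y.obj.map (stepHom p) := e₂
    have h0 : p ≤ p + 1 := by omega
    obtain ⟨T₃, π₃, hπ₃, x', e₃⟩ := strict_lifting φ hφ h0 (π₂ ≫ y) w (by
      rw [Category.assoc]
      exact e₂')
    haveI := hm p
    have e₄ : π₃ ≫ π₂ ≫ y = x' ≫ X.obj.map (stepHom p) := by
      apply (cancel_mono (φ.hom.app (op p))).1
      calc (π₃ ≫ π₂ ≫ y) ≫ φ.hom.app (op p)
          = π₃ ≫ (π₂ ≫ y ≫ φ.hom.app (op p)) := by simp only [Category.assoc]
        _ = π₃ ≫ w ≫ Y.obj.map (stepHom p) := by rw [e₂']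
        _ = (π₃ ≫ w) ≫ Y.obj.map (stepHom p) := (Category.assoc _ _ _).symm
        _ = (x' ≫ φ.hom.app (op (p + 1))) ≫ Y.obj.map (stepHom p) := by rw [e₃]
        _ = x' ≫ (φ.hom.app (op (p + 1)) ≫ Y.obj.map (stepHom p)) := Category.assoc _ _ _
        _ = x' ≫ (X.obj.map (stepHom p) ≫ φ.hom.app (op p)) := by
            rw [φ.hom.naturality (stepHom p)]
        _ = (x' ≫ X.obj.map (stepHom p)) ≫ φ.hom.app (op p) := (Category.assoc _ _ _).symm
    haveI := hπ₁
    haveI := hπ₂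
    haveI := hπ₃
    have : (π₃ ≫ π₂ ≫ π₁) ≫ t = 0 := by
      calc (π₃ ≫ π₂ ≫ π₁) ≫ t = π₃ ≫ π₂ ≫ (π₁ ≫ t) := by simp only [Category.assoc]
        _ = (π₃ ≫ π₂ ≫ y) ≫ grπ X p := by
            rw [e₁]
            simp only [Category.assoc]
        _ = 0 := by rw [e₄, Category.assoc, step_grπ, comp_zero]
    exact (cancel_epi (π₃ ≫ π₂ ≫ π₁)).1 (this.trans comp_zero.symm)
  haveI : Epi ((gr A p).map (cokπ φ hφ).hom) := by
    haveI : Epi ((cokπ φ hφ).hom.app (op p)) := cokπ_hom_app_epi φ hφ (op p)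
    have hg := grπ_map (cokπ φ hφ) p
    haveI : Epi (grπ Y p ≫ (gr A p).map (cokπ φ hφ).hom) := by
      rw [hg]
      exact epi_comp _ _
    exact epi_of_epi (grπ Y p) _
  exact ShortComplex.ShortExact.mk' hex inferInstance inferInstance

end Cokernel

section ExactLemmas

lemma exact_epi_comp_comp_mono {P' P R S U : A} (e : P' ⟶ P) [Epi e] (f : P ⟶ R) (g : R ⟶ S)
    (m : S ⟶ U) [Mono m] (w : f ≫ g = 0) (hex : (ShortComplex.mk f g w).Exact)
    (w' : (e ≫ f) ≫ (g ≫ m) = 0) : (ShortComplex.mk (e ≫ f) (g ≫ m) w').Exact := by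
  rw [ShortComplex.exact_iff_exact_up_to_refinements]
  intro T y hy
  have hy' : y ≫ g = 0 := by
    rw [← cancel_mono m, Category.assoc, zero_comp]
    exact hy
  obtain ⟨T₁, π₁, hπ₁, x, e₁⟩ := hex.exact_up_to_refinements y hy'
  obtain ⟨T₂, π₂, hπ₂, x', e₂⟩ := surjective_up_to_refinements_of_epi e x
  haveI := hπ₁
  haveI := hπ₂
  refine ⟨T₂, π₂ ≫ π₁, epi_comp _ _, x', ?_⟩
  have e₁' : π₁ ≫ y = x ≫ f := e₁
  show (π₂ ≫ π₁) ≫ y = x' ≫ e ≫ f
  rw [Category.assoc, e₁', ← Category.assoc, e₂, Category.assoc]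

lemma exact_of_eq {P R S : A} {f f' : P ⟶ R} {g g' : R ⟶ S} (hf : f = f') (hg : g = g')
    (w : f ≫ g = 0) (w' : f' ≫ g' = 0) (h : (ShortComplex.mk f' g' w').Exact) :
    (ShortComplex.mk f g w).Exact := by
  subst hf hg
  exact h

lemma mono_of_eq' {P R : A} {f f' : P ⟶ R} (h : f = f') (hm : Mono f') : Mono f := by
  subst h
  exact hm

end ExactLemmas

section Resolution

variable [EnoughInjectives A]

open ZeroObject

noncomputable def Iof (Y : FilF A) : FilF A := (main1081 Y).choose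

noncomputable def jof (Y : FilF A) : Y ⟶ Iof Y := (main1081 Y).choose_spec.choose

lemma Iof_inj (Y : FilF A) : IsFilteredInjective (Iof Y) :=
  (main1081 Y).choose_spec.choose_spec.1

instance jof_mono (Y : FilF A) : Mono (jof Y) := (main1081 Y).choose_spec.choose_spec.2.1

lemma jof_strict (Y : FilF A) : IsStrict (jof Y) := (main1081 Y).choose_spec.choose_spec.2.2

noncomputable def Cof (Y : FilF A) : FilF A := cokFil (jof Y) (jof_strict Y)

noncomputable def πof (Y : FilF A) : Iof Y ⟶ Cof Y := cokπ (jof Y) (jof_strict Y)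

lemma jof_πof (Y : FilF A) : jof Y ≫ πof Y = 0 := comp_cokπ _ _

noncomputable def dof (Y : FilF A) : Iof Y ⟶ Iof (Cof Y) := πof Y ≫ jof (Cof Y)

lemma dof_comp (Y : FilF A) : dof Y ≫ dof (Cof Y) = 0 := by
  unfold dof
  rw [Category.assoc, ← Category.assoc (jof (Cof Y)), jof_πof, zero_comp, comp_zero]

lemma jof_dof (Y : FilF A) : jof Y ≫ dof Y = 0 := by
  unfold dof
  rw [← Category.assoc, jof_πof, zero_comp]

lemma grF_jof_πof (Y : FilF A) (p : ℤ) :
    (grF A p).map (jof Y) ≫ (grF A p).map (πof Y) = 0 := by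
  rw [← Functor.map_comp, jof_πof, Functor.map_zero]

lemma grF_shortExact (Y : FilF A) (p : ℤ) :
    (ShortComplex.mk ((grF A p).map (jof Y)) ((grF A p).map (πof Y))
      (grF_jof_πof Y p)).ShortExact :=
  gr_shortExact_of_strictMono (jof Y) (jof_strict Y) (fun q => mono_app_of_mono (jof Y) q) p

lemma grF_dof (Y : FilF A) (p : ℤ) :
    (grF A p).map (dof Y) = (grF A p).map (πof Y) ≫ (grF A p).map (jof (Cof Y)) := by
  unfold dof
  rw [Functor.map_comp]

lemma step_zero (Y : FilF A) (p : ℤ) :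
    (grF A p).map (dof Y) ≫ (grF A p).map (dof (Cof Y)) = 0 := by
  rw [← Functor.map_comp, dof_comp, Functor.map_zero]

lemma step_exact (Y : FilF A) (p : ℤ) :
    (ShortComplex.mk ((grF A p).map (dof Y)) ((grF A p).map (dof (Cof Y)))
      (step_zero Y p)).Exact := by
  haveI : Epi ((grF A p).map (πof Y)) := (grF_shortExact Y p).epi_g
  haveI : Mono ((grF A p).map (jof (Cof (Cof Y)))) := (grF_shortExact (Cof (Cof Y)) p).mono_f
  refine exact_of_eq (grF_dof Y p) (grF_dof (Cof Y) p) _ _ (exact_epi_comp_comp_mono _ _ _ _ _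
    (grF_shortExact (Cof Y) p).exact ?_)
  rw [← grF_dof, ← grF_dof]
  exact step_zero Y p

lemma aug_zero (Y : FilF A) (p : ℤ) {Q : FilF A} (i : Q ⟶ Y) :
    (grF A p).map (i ≫ jof Y) ≫ (grF A p).map (dof Y) = 0 := by
  rw [← Functor.map_comp, Category.assoc, jof_dof, comp_zero, Functor.map_zero]

lemma aug_exact (Y : FilF A) (p : ℤ) {Q : FilF A} (i : Q ⟶ Y) [IsIso i] :
    (ShortComplex.mk ((grF A p).map (i ≫ jof Y)) ((grF A p).map (dof Y))
      (aug_zero Y p i)).Exact := by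
  haveI : Mono ((grF A p).map (jof (Cof Y))) := (grF_shortExact (Cof Y) p).mono_f
  refine exact_of_eq ((grF A p).map_comp i (jof Y)) (grF_dof Y p) _ _
    (exact_epi_comp_comp_mono _ _ _ _ _ (grF_shortExact Y p).exact ?_)
  rw [Category.assoc, ← Category.assoc ((grF A p).map (jof Y)), grF_jof_πof, zero_comp, comp_zero]

lemma aug_mono (Y : FilF A) (p : ℤ) {Q : FilF A} (i : Q ⟶ Y) [IsIso i] :
    Mono ((grF A p).map (i ≫ jof Y)) := by
  haveI : Mono ((grF A p).map (jof Y)) := (grF_shortExact Y p).mono_f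
  rw [Functor.map_comp]
  exact mono_comp _ _

variable (X : FilF A)

noncomputable def Zs : ℕ → FilF A
  | 0 => X
  | (k + 1) => Cof (Zs k)

noncomputable def XI : ℤ → FilF A
  | Int.ofNat k => Iof (Zs X k)
  | Int.negSucc _ => 0

noncomputable def dI : ∀ n : ℤ, XI X n ⟶ XI X (n + 1)
  | Int.ofNat k => dof (Zs X k)
  | Int.negSucc _ => 0

lemma dI_sq : ∀ n : ℤ, dI X n ≫ dI X (n + 1) = 0
  | Int.ofNat k => dof_comp (Zs X k)
  | Int.negSucc _ => zero_comp

noncomputable def Icx : CochainComplex (FilF A) ℤ := CochainComplex.of (XI X) (dI X) (dI_sq X)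

lemma Icx_d (n : ℤ) : (Icx X).d n (n + 1) = dI X n := CochainComplex.of_d (XI X) (dI X) n

instance : (Icx X).IsStrictlyGE 0 := by
  rw [CochainComplex.isStrictlyGE_iff]
  intro i hi
  obtain ⟨m, rfl⟩ := Int.eq_negSucc_of_lt_zero hi
  exact isZero_zero _

omit [EnoughInjectives A] in
lemma isFilteredInjective_zero : IsFilteredInjective (0 : FilF A) := fun p =>
  (Functor.map_isZero (grF A p) (isZero_zero _)).injective

lemma Icx_inj : ∀ n : ℤ, IsFilteredInjective ((Icx X).X n)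
  | Int.ofNat k => Iof_inj (Zs X k)
  | Int.negSucc _ => isFilteredInjective_zero

noncomputable def φ0 : (CochainComplex.singleFunctor (FilF A) 0).obj X ⟶ Icx X :=
  HomologicalComplex.mkHomFromSingle (jof X : X ⟶ (Icx X).X 0) (by
    intro k hk
    obtain rfl : 0 + 1 = k := hk
    rw [Icx_d]
    exact jof_dof X)

lemma φ0_f : (φ0 X).f 0 =
    (HomologicalComplex.singleObjXSelf (ComplexShape.up ℤ) 0 X).hom ≫
      (jof X : X ⟶ (Icx X).X 0) :=
  HomologicalComplex.mkHomFromSingle_f _ _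

lemma Icx_exactAt_succ (p : ℤ) (j : ℕ) :
    ((grCx p).obj (Icx X)).ExactAt (Int.ofNat j + 1) := by
  refine (HomologicalComplex.exactAt_iff' _ (Int.ofNat j) (Int.ofNat j + 1) (Int.ofNat j + 1 + 1)
    (by simp) (by simp)).2 ?_
  exact exact_of_eq (congrArg ((grF A p).map) (Icx_d X (Int.ofNat j)))
    (congrArg ((grF A p).map) (Icx_d X (Int.ofNat j + 1))) _ _ (step_exact (Zs X j) p)

lemma φ0_qi (p : ℤ) : QuasiIso ((grCx p).map (φ0 X)) := by
  rw [quasiIso_iff]
  intro n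
  by_cases hn : n = 0
  · subst hn
    have hzero : IsZero ((Icx X).X (-1)) := isZero_zero _
    have h1 : (grF A p).map (((CochainComplex.singleFunctor (FilF A) 0).obj X).d (-1) 0) = 0 := by
      rw [CochainComplex.singleFunctor_obj_d, Functor.map_zero]
    have h2 : (grF A p).map (((CochainComplex.singleFunctor (FilF A) 0).obj X).d 0 1) = 0 := by
      rw [CochainComplex.singleFunctor_obj_d, Functor.map_zero]
    have h3 : (grF A p).map ((Icx X).d (-1) 0) = 0 := by
      rw [hzero.eq_of_src ((Icx X).d (-1) 0) 0, Functor.map_zero]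
    refine (quasiIsoAt_iff' _ (-1) 0 1 (by simp) (by simp)).2
      ((ShortComplex.quasiIso_iff_of_zeros _ h1 h2 h3).2 ⟨?_, ?_⟩)
    · exact exact_of_eq (congrArg ((grF A p).map) (φ0_f X))
        (congrArg ((grF A p).map) (Icx_d X 0)) _ _
        (aug_exact X p (HomologicalComplex.singleObjXSelf (ComplexShape.up ℤ) 0 X).hom)
    · exact mono_of_eq' (congrArg ((grF A p).map) (φ0_f X))
        (aug_mono X p (HomologicalComplex.singleObjXSelf (ComplexShape.up ℤ) 0 X).hom)
  · have hK : ((grCx p).obj ((CochainComplex.singleFunctor (FilF A) 0).obj X)).ExactAt n :=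
      HomologicalComplex.ExactAt.of_isZero (Functor.map_isZero (grF A p)
        (HomologicalComplex.isZero_single_obj_X (ComplexShape.up ℤ) 0 X n hn))
    rw [quasiIsoAt_iff_exactAt _ _ hK]
    match n, hn with
    | Int.ofNat 0, hn => exact absurd rfl hn
    | Int.ofNat (j + 1), _ => exact Icx_exactAt_succ X p j
    | Int.negSucc m, _ =>
      exact HomologicalComplex.ExactAt.of_isZero (Functor.map_isZero (grF A p) (isZero_zero _))

theorem main1089 (X : FilF A) :
    ∃ (I : CochainComplex (FilF A) ℤ)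
      (φ : (CochainComplex.singleFunctor (FilF A) 0).obj X ⟶ I), I.IsStrictlyGE 0 ∧
      (∀ n, IsFilteredInjective (I.X n)) ∧ IsFilteredQuasiIso φ :=
  ⟨Icx X, φ0 X, inferInstance, Icx_inj X, fun p => φ0_qi X p⟩

end Resolution

end Groth.Agent.Lib.FilDH4
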