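import Mathlib
import Groth.Prelude.Def_FilD
import Groth.Agent.Lib.FilD6_helper4

set_option autoImplicit false
set_option linter.style.haveILetI false
set_option linter.unusedSectionVars false

universe v u

open CategoryTheory CategoryTheory.Limits Opposite FilD

namespace Groth.Agent.Lib.FilDH4

variable {A : Type u} [Category.{v} A] [Abelian A]

section KerAPI

variable {X Y : FilF A} (φ : X ⟶ Y)

noncomputable def kerLift {T : FilF A} (t : T ⟶ X) (h : t ≫ φ = 0) : T ⟶ kerFil φ :=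
  ObjectProperty.homMk (kernel.lift φ.hom t.hom (congrArg (fun m => m.hom) h))

lemma kerLift_ι {T : FilF A} (t : T ⟶ X) (h : t ≫ φ = 0) : kerLift φ t h ≫ kerι φ = t := by
  apply ObjectProperty.hom_ext
  exact kernel.lift_ι _ _ _

instance mono_kerι : Mono (kerι φ) :=
  (IsFinFil A).ι.mono_of_mono_map (show Mono (kernel.ι φ.hom) from inferInstance)

lemma kerι_hom_app_zero (c : ℤᵒᵖ) : (kerι φ).hom.app c ≫ φ.hom.app c = 0 := ker_app_zero φ c

lemma kerι_hom_level_exact (c : ℤᵒᵖ) :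
    (ShortComplex.mk ((kerι φ).hom.app c) (φ.hom.app c) (kerι_hom_app_zero φ c)).Exact :=
  ker_level_exact φ c

lemma kerι_hom_app_mono (c : ℤᵒᵖ) : Mono ((kerι φ).hom.app c) := kerι_app_mono φ c

lemma strict_kerι : IsStrict (kerι φ) := by
  refine isStrict_of_lifting _ ?_
  intro q q' h T a z haz
  haveI := mono_trF Y h
  have hz : z ≫ φ.hom.app (op q') = 0 := by
    apply (cancel_mono (trF Y h)).1
    calc (z ≫ φ.hom.app (op q')) ≫ trF Y h
        = z ≫ (φ.hom.app (op q') ≫ trF Y h) := Category.assoc _ _ _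
      _ = z ≫ (trF X h ≫ φ.hom.app (op q)) := by rw [nat_trF φ h]
      _ = (z ≫ trF X h) ≫ φ.hom.app (op q) := (Category.assoc _ _ _).symm
      _ = (a ≫ (kerι φ).hom.app (op q)) ≫ φ.hom.app (op q) := by rw [haz]
      _ = 0 := by rw [Category.assoc, kerι_hom_app_zero, comp_zero]
      _ = 0 ≫ trF Y h := zero_comp.symm
  obtain ⟨T', π, hπ, x', e⟩ := (kerι_hom_level_exact φ (op q')).exact_up_to_refinements z hz
  have e' : π ≫ z = x' ≫ (kerι φ).hom.app (op q') := e
  refine ⟨T', π, hπ, x', ?_⟩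
  haveI := kerι_hom_app_mono φ (op q)
  apply (cancel_mono ((kerι φ).hom.app (op q))).1
  have hn : trF (kerFil φ) h ≫ (kerι φ).hom.app (op q) =
      (kerι φ).hom.app (op q') ≫ trF X h := nat_trF (kerι φ) h
  calc (π ≫ a) ≫ (kerι φ).hom.app (op q)
      = π ≫ (a ≫ (kerι φ).hom.app (op q)) := Category.assoc _ _ _
    _ = (π ≫ z) ≫ trF X h := by rw [haz, Category.assoc]
    _ = x' ≫ ((kerι φ).hom.app (op q') ≫ trF X h) := by rw [e', Category.assoc]
    _ = x' ≫ (trF (kerFil φ) h ≫ (kerι φ).hom.app (op q)) := by rw [hn]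
    _ = (x' ≫ trF (kerFil φ) h) ≫ (kerι φ).hom.app (op q) := (Category.assoc _ _ _).symm

lemma gr_mono_kerι (p : ℤ) : Mono ((grF A p).map (kerι φ)) :=
  (gr_shortExact_of_strictMono (kerι φ) (strict_kerι φ)
    (fun q => kerι_hom_app_mono φ (op q)) p).mono_f

lemma gr_exact_kerι (hφ : IsStrict φ) (p : ℤ) :
    (ShortComplex.mk ((grF A p).map (kerι φ)) ((grF A p).map φ)
      (by rw [← Functor.map_comp, kerι_comp, Functor.map_zero])).Exact :=
  gr_exact_of_strict (kerCx φ) (fun q => ker_level_exact φ (op q)) hφ p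

end KerAPI

section SCLemma

/-- A morphism of short complexes `S₁ ⟶ S₂` with `S₁.g = 0`, `τ₁` epi and `τ₂` a kernel of `S₂.g`
is a quasi-isomorphism. -/
lemma trunc_quasiIso {S₁ S₂ : ShortComplex A} (φ : S₁ ⟶ S₂) (hg : S₁.g = 0) [Epi φ.τ₁]
    [Mono φ.τ₂] (w : φ.τ₂ ≫ S₂.g = 0) (hex : (ShortComplex.mk φ.τ₂ S₂.g w).Exact) :
    ShortComplex.QuasiIso φ := by
  rw [ShortComplex.quasiIso_iff]
  haveI : Mono (ShortComplex.cyclesMap φ) := by
    haveI : Mono (S₁.iCycles ≫ φ.τ₂) := mono_comp _ _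
    exact mono_of_mono_fac (ShortComplex.cyclesMap_i φ)
  haveI : Epi (ShortComplex.cyclesMap φ) := by
    rw [epi_iff_surjective_up_to_refinements]
    intro T y
    have hy : (y ≫ S₂.iCycles) ≫ S₂.g = 0 := by
      rw [Category.assoc, ShortComplex.iCycles_g, comp_zero]
    obtain ⟨T', π, hπ, x₀, e⟩ := hex.exact_up_to_refinements _ hy
    have e' : π ≫ y ≫ S₂.iCycles = x₀ ≫ φ.τ₂ := e
    refine ⟨T', π, hπ, S₁.liftCycles x₀ (by rw [hg, comp_zero]), ?_⟩
    apply (cancel_mono S₂.iCycles).1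
    rw [Category.assoc, e', Category.assoc, ShortComplex.cyclesMap_i, ← Category.assoc,
      ShortComplex.liftCycles_i]
  haveI : IsIso (ShortComplex.cyclesMap φ) := isIso_of_mono_of_epi _
  exact ShortComplex.isIso_homologyMap_of_isIso_cyclesMap_of_epi inferInstance inferInstance

end SCLemma

section TruncLE

variable (K : CochainComplex (FilF A) ℤ) (b : ℤ)

/-- Coefficient: `1` above `b`, `0` otherwise. -/
def cA (n : ℤ) : ℤ := if b < n then 1 else 0

/-- Coefficient: `1` at `b`, `0` otherwise. -/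
def cC (n : ℤ) : ℤ := if n = b then 1 else 0

noncomputable def gT (n : ℤ) : K.X n ⟶ K.X n ⊞ K.X (n + 1) :=
  biprod.lift (cA b n • 𝟙 _) (cC b n • K.d n (n + 1))

noncomputable abbrev MX (n : ℤ) : FilF A := kerFil (gT K b n)

noncomputable abbrev Mι (n : ℤ) : MX K b n ⟶ K.X n := kerι (gT K b n)

lemma Mι_fst (n : ℤ) : Mι K b n ≫ (cA b n • 𝟙 _) = 0 := by
  have h2 : (Mι K b n ≫ gT K b n) ≫ biprod.fst = 0 := by rw [kerι_comp, zero_comp]
  rw [Category.assoc] at h2
  unfold gT at h2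
  rw [biprod.lift_fst] at h2
  exact h2

lemma Mι_snd (n : ℤ) : Mι K b n ≫ (cC b n • K.d n (n + 1)) = 0 := by
  have h2 : (Mι K b n ≫ gT K b n) ≫ biprod.snd = 0 := by rw [kerι_comp, zero_comp]
  rw [Category.assoc] at h2
  unfold gT at h2
  rw [biprod.lift_snd] at h2
  exact h2

lemma lift_cond {n : ℤ} {T : FilF A} (t : T ⟶ K.X n) (h1 : t ≫ (cA b n • 𝟙 _) = 0)
    (h2 : t ≫ (cC b n • K.d n (n + 1)) = 0) : t ≫ gT K b n = 0 := by
  unfold gT
  apply biprod.hom_ext
  · rw [Category.assoc, biprod.lift_fst, zero_comp]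
    exact h1
  · rw [Category.assoc, biprod.lift_snd, zero_comp]
    exact h2

lemma Mι_eq_zero (n : ℤ) (hn : b < n) : Mι K b n = 0 := by
  have h := Mι_fst K b n
  rw [cA, if_pos hn, one_smul, Category.comp_id] at h
  exact h

lemma Mι_d (n : ℤ) (hn : b ≤ n) : Mι K b n ≫ K.d n (n + 1) = 0 := by
  by_cases h : n = b
  · have h2 := Mι_snd K b n
    rw [cC, if_pos h, one_smul] at h2
    exact h2
  · rw [Mι_eq_zero K b n (by omega), zero_comp]

lemma gT_eq_zero (n : ℤ) (hn : n < b) : gT K b n = 0 := by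
  unfold gT
  rw [cA, cC, if_neg (by omega), if_neg (by omega), zero_smul, zero_smul]
  apply biprod.hom_ext <;> simp

lemma isIso_Mι (n : ℤ) (hn : n < b) : IsIso (Mι K b n) := by
  have h0 : 𝟙 (K.X n) ≫ gT K b n = 0 := by
    rw [Category.id_comp]
    exact gT_eq_zero K b n hn
  have h1 : kerLift (gT K b n) (𝟙 (K.X n)) h0 ≫ Mι K b n = 𝟙 _ := kerLift_ι _ _ _
  refine ⟨⟨kerLift (gT K b n) (𝟙 (K.X n)) h0, ?_, h1⟩⟩
  apply (cancel_mono (Mι K b n)).1
  rw [Category.assoc, h1, Category.comp_id, Category.id_comp]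

lemma dM_cond (n : ℤ) : (Mι K b n ≫ K.d n (n + 1)) ≫ gT K b (n + 1) = 0 := by
  apply lift_cond
  · by_cases h : b < n + 1
    · rw [Mι_d K b n (by omega), zero_comp]
    · rw [cA, if_neg h, zero_smul, comp_zero]
  · rw [Preadditive.comp_zsmul, Category.assoc, K.d_comp_d, comp_zero, smul_zero]

noncomputable def dM (n : ℤ) : MX K b n ⟶ MX K b (n + 1) :=
  kerLift (gT K b (n + 1)) (Mι K b n ≫ K.d n (n + 1)) (dM_cond K b n)

lemma dM_ι (n : ℤ) : dM K b n ≫ Mι K b (n + 1) = Mι K b n ≫ K.d n (n + 1) :=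
  kerLift_ι _ _ _

lemma dM_sq (n : ℤ) : dM K b n ≫ dM K b (n + 1) = 0 := by
  apply (cancel_mono (Mι K b (n + 1 + 1))).1
  rw [Category.assoc, dM_ι, ← Category.assoc, dM_ι, Category.assoc, K.d_comp_d, comp_zero,
    zero_comp]

noncomputable def Mcx : CochainComplex (FilF A) ℤ :=
  CochainComplex.of (MX K b) (dM K b) (dM_sq K b)

lemma Mcx_d (n : ℤ) : (Mcx K b).d n (n + 1) = dM K b n := CochainComplex.of_d _ _ n

noncomputable def Mφ : Mcx K b ⟶ K where
  f n := Mι K b n
  comm' := by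
    intro i j hij
    obtain rfl : i + 1 = j := hij
    rw [Mcx_d]
    exact (dM_ι K b i).symm

lemma isZero_MX (n : ℤ) (hn : b < n) : IsZero (MX K b n) :=
  IsZero.of_mono_eq_zero (Mι K b n) (Mι_eq_zero K b n hn)

instance : (Mcx K b).IsStrictlyLE b := by
  rw [CochainComplex.isStrictlyLE_iff]
  intro i hi
  exact isZero_MX K b i hi

/-- The comparison with the honest kernel at `b`. -/
noncomputable def θb : MX K b b ⟶ kerFil (K.d b (b + 1)) :=
  kerLift (K.d b (b + 1)) (Mι K b b) (Mι_d K b b le_rfl)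

lemma θb_ι : θb K b ≫ kerι (K.d b (b + 1)) = Mι K b b := kerLift_ι _ _ _

lemma isIso_θb : IsIso (θb K b) := by
  have hc : kerι (K.d b (b + 1)) ≫ gT K b b = 0 := by
    apply lift_cond
    · rw [cA, if_neg (lt_irrefl b), zero_smul, comp_zero]
    · rw [cC, if_pos rfl, one_smul, kerι_comp]
  refine ⟨⟨kerLift (gT K b b) (kerι (K.d b (b + 1))) hc, ?_, ?_⟩⟩
  · apply (cancel_mono (Mι K b b)).1
    rw [Category.assoc, Category.id_comp]
    have : kerLift (gT K b b) (kerι (K.d b (b + 1))) hc ≫ Mι K b b = kerι (K.d b (b + 1)) :=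
      kerLift_ι _ _ _
    rw [this, θb_ι]
  · apply (cancel_mono (kerι (K.d b (b + 1)))).1
    rw [Category.assoc, Category.id_comp, θb_ι]
    exact kerLift_ι _ _ _

lemma gr_mono_Mι (p n : ℤ) : Mono ((grF A p).map (Mι K b n)) :=
  gr_mono_kerι _ p

variable (hK : ∀ (p n : ℤ), b < n → IsZero (((grCx p).obj K).homology n))

include hK

lemma strict_d_b : IsStrict (K.d b (b + 1)) := by
  let S : ShortComplex (FilF A) :=
    ShortComplex.mk (K.d b (b + 1)) (K.d (b + 1) (b + 1 + 1)) (K.d_comp_d _ _ _)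
  have hS : ∀ p : ℤ, (S.map (grF A p)).Exact := by
    intro p
    have h1 : ((grCx p).obj K).ExactAt (b + 1) := by
      rw [HomologicalComplex.exactAt_iff_isZero_homology]
      exact hK p (b + 1) (by omega)
    have := (HomologicalComplex.exactAt_iff' ((grCx p).obj K) b (b + 1) (b + 1 + 1)
      (by simp) (by simp)).1 h1
    exact this
  exact strict_f S hS

lemma Mφ_qi (p : ℤ) : QuasiIso ((grCx p).map (Mφ K b)) := by
  rw [quasiIso_iff]
  intro n
  rcases lt_trichotomy n b with hn | hn | hn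
  · -- n < b
    refine (quasiIsoAt_iff' _ (n - 1) n (n + 1) (by simp) (by simp)).2 ?_
    haveI : IsIso (Mι K b (n - 1)) := isIso_Mι K b (n - 1) (by omega)
    haveI : IsIso (Mι K b n) := isIso_Mι K b n hn
    haveI : Mono ((grF A p).map (Mι K b (n + 1))) := gr_mono_Mι K b p (n + 1)
    haveI : Epi ((HomologicalComplex.shortComplexFunctor' A (ComplexShape.up ℤ) (n - 1) n
        (n + 1)).map ((grCx p).map (Mφ K b))).τ₁ :=
      (inferInstance : Epi ((grF A p).map (Mι K b (n - 1))))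
    haveI : IsIso ((HomologicalComplex.shortComplexFunctor' A (ComplexShape.up ℤ) (n - 1) n
        (n + 1)).map ((grCx p).map (Mφ K b))).τ₂ :=
      (inferInstance : IsIso ((grF A p).map (Mι K b n)))
    haveI : Mono ((HomologicalComplex.shortComplexFunctor' A (ComplexShape.up ℤ) (n - 1) n
        (n + 1)).map ((grCx p).map (Mφ K b))).τ₃ :=
      (inferInstance : Mono ((grF A p).map (Mι K b (n + 1))))
    exact ShortComplex.quasiIso_of_epi_of_isIso_of_mono _
  · -- n = b
    subst hn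
    refine (quasiIsoAt_iff' _ (n - 1) n (n + 1) (by simp) (by simp)).2 ?_
    haveI : IsIso (Mι K n (n - 1)) := isIso_Mι K n (n - 1) (by omega)
    haveI : Epi ((HomologicalComplex.shortComplexFunctor' A (ComplexShape.up ℤ) (n - 1) n
        (n + 1)).map ((grCx p).map (Mφ K n))).τ₁ :=
      (inferInstance : Epi ((grF A p).map (Mι K n (n - 1))))
    haveI : Mono ((HomologicalComplex.shortComplexFunctor' A (ComplexShape.up ℤ) (n - 1) n
        (n + 1)).map ((grCx p).map (Mφ K n))).τ₂ := gr_mono_Mι K n p n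
    have hd0 : (Mcx K n).d n (n + 1) = 0 := (isZero_MX K n (n + 1) (by omega)).eq_of_tgt _ _
    have hg : (grF A p).map ((Mcx K n).d n (n + 1)) = 0 := by
      rw [hd0]
      exact (grF A p).map_zero _ _
    have hstr := strict_d_b K n hK
    haveI : IsIso (θb K n) := isIso_θb K n
    have hex : (ShortComplex.mk ((grF A p).map (Mι K n n)) ((grF A p).map (K.d n (n + 1)))
        (by rw [← Functor.map_comp, Mι_d K n n le_rfl, Functor.map_zero])).Exact := by
      have e1 : (grF A p).map (Mι K n n) =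
          (grF A p).map (θb K n) ≫ (grF A p).map (kerι (K.d n (n + 1))) := by
        rw [← Functor.map_comp, θb_ι]
      have e2 : (grF A p).map (K.d n (n + 1)) = (grF A p).map (K.d n (n + 1)) ≫ 𝟙 _ :=
        (Category.comp_id _).symm
      refine exact_of_eq e1 e2 _ ?_ (exact_epi_comp_comp_mono _ _ _ _ _
        (gr_exact_kerι (K.d n (n + 1)) hstr p) ?_)
      · rw [Category.comp_id, Category.assoc, ← Functor.map_comp, kerι_comp, Functor.map_zero,
          comp_zero]
      · rw [Category.comp_id, Category.assoc, ← Functor.map_comp, kerι_comp, Functor.map_zero,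
          comp_zero]
    exact trunc_quasiIso _ hg _ hex
  · -- b < n
    have hL : ((grCx p).obj K).ExactAt n := by
      rw [HomologicalComplex.exactAt_iff_isZero_homology]
      exact hK p n hn
    rw [quasiIsoAt_iff_exactAt' _ _ hL]
    exact HomologicalComplex.ExactAt.of_isZero
      (Functor.map_isZero (grF A p) (isZero_MX K b n hn))

theorem main1088 :
    ∃ (M : CochainComplex (FilF A) ℤ) (φ : M ⟶ K), M.IsStrictlyLE b ∧ IsFilteredQuasiIso φ :=
  ⟨Mcx K b, Mφ K b, inferInstance, fun p => Mφ_qi K b hK p⟩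

end TruncLE

end Groth.Agent.Lib.FilDH4
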