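import Mathlib
import Groth.Prelude.Def_FilD
import Groth.Agent.Lib.FilD7_helper4

set_option autoImplicit false
set_option linter.style.haveILetI false
set_option linter.unusedSectionVars false

universe v u

open CategoryTheory CategoryTheory.Limits Opposite FilD

namespace Groth.Agent.Lib.FilDH4

variable {A : Type u} [Category.{v} A] [Abelian A]

section StrictCriteria

lemma isStrict_of_lifting2 {F G : FilF A} (φ : F ⟶ G)
    (H : ∀ (p q : ℤ) (h : p ≤ q) (T : A) (a : T ⟶ F.obj.obj (op p))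
      (z : T ⟶ G.obj.obj (op q)), a ≫ φ.hom.app (op p) = z ≫ trF G h →
      ∃ (T' : A) (π : T' ⟶ T) (_ : Epi π) (x' : T' ⟶ F.obj.obj (op q)),
        π ≫ z = x' ≫ φ.hom.app (op q)) :
    IsStrict φ := by
  intro p q h
  haveI := mono_trF G h
  refine le_antisymm (strict_le φ h) ?_
  obtain ⟨P, hP1, hP2, hPe⟩ : ∃ P : Subobject (G.obj.obj (op p)),
      P ≤ imageSubobject (φ.hom.app (op p)) ∧ P ≤ Subobject.mk (trF G h) ∧
      P = imageSubobject (φ.hom.app (op p)) ⊓ Subobject.mk (trF G h) :=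
    ⟨_, inf_le_left, inf_le_right, rfl⟩
  rw [← hPe]
  obtain ⟨z, hz⟩ := sub_mk_lift P (trF G h) hP2
  obtain ⟨T, a, b', hb', hab⟩ :=
    AbSubobjH4.exists_epi_lift (φ.hom.app (op p)) P.arrow (by
      rw [AbSubobjH4.image_arrow]
      exact hP1)
  haveI := hb'
  obtain ⟨T', π, hπ, x', e⟩ := H p q h T a (b' ≫ z) (by rw [hab, Category.assoc, hz])
  haveI := hπ
  refine le_image_of_refinement P _ (π ≫ b') x' ?_
  rw [Category.assoc, ← hz, ← Category.assoc b', ← Category.assoc π, e, Category.assoc]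

lemma strict_zero {X Y : FilF A} : IsStrict (0 : X ⟶ Y) := by
  refine isStrict_of_lifting2 _ ?_
  intro p q h T a z haz
  haveI := mono_trF Y h
  have h0 : a ≫ (0 : X.obj.obj (op p) ⟶ Y.obj.obj (op p)) = z ≫ trF Y h := haz
  have hz : z = 0 := by
    apply (cancel_mono (trF Y h)).1
    rw [← h0, comp_zero, zero_comp]
  refine ⟨T, 𝟙 T, inferInstance, 0, ?_⟩
  rw [hz, comp_zero, zero_comp]

lemma strict_section_comp {W X Y : FilF A} (e : W ⟶ X) (s : X ⟶ W) (hs : s ≫ e = 𝟙 X)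
    (d : X ⟶ Y) (hd : IsStrict d) : IsStrict (e ≫ d) := by
  refine isStrict_of_lifting2 _ ?_
  intro p q h T a z haz
  have haz' : (a ≫ e.hom.app (op p)) ≫ d.hom.app (op p) = z ≫ trF Y h := by
    rw [Category.assoc]
    exact haz
  obtain ⟨T', π, hπ, x₁, e₁⟩ := strict_lifting d hd h _ z haz'
  have hsq : s.hom.app (op q) ≫ e.hom.app (op q) = 𝟙 _ :=
    congrArg (fun m => m.hom.app (op q)) hs
  refine ⟨T', π, hπ, x₁ ≫ s.hom.app (op q), ?_⟩
  show π ≫ z = (x₁ ≫ s.hom.app (op q)) ≫ e.hom.app (op q) ≫ d.hom.app (op q)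
  rw [Category.assoc, ← Category.assoc (s.hom.app (op q)), hsq, Category.id_comp]
  exact e₁

lemma strict_of_section {X Y : FilF A} (φ : X ⟶ Y) (s : Y ⟶ X) (hs : s ≫ φ = 𝟙 Y) :
    IsStrict φ := by
  refine isStrict_of_lifting2 _ ?_
  intro p q h T a z _
  have hsq : s.hom.app (op q) ≫ φ.hom.app (op q) = 𝟙 _ :=
    congrArg (fun m => m.hom.app (op q)) hs
  refine ⟨T, 𝟙 T, inferInstance, z ≫ s.hom.app (op q), ?_⟩
  rw [Category.id_comp, Category.assoc, hsq, Category.comp_id]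

end StrictCriteria

section CokAPI

variable {X Y : FilF A} (φ : X ⟶ Y) (hφ : IsStrict φ)

noncomputable def cokDesc {T : FilF A} (t : Y ⟶ T) (h : φ ≫ t = 0) : cokFil φ hφ ⟶ T :=
  ObjectProperty.homMk (cokernel.desc φ.hom t.hom (congrArg (fun m => m.hom) h))

lemma cokπ_desc {T : FilF A} (t : Y ⟶ T) (h : φ ≫ t = 0) :
    cokπ φ hφ ≫ cokDesc φ hφ t h = t := by
  apply ObjectProperty.hom_ext
  exact cokernel.π_desc _ _ _

instance epi_cokπ : Epi (cokπ φ hφ) :=
  (IsFinFil A).ι.epi_of_epi_map (show Epi (cokernel.π φ.hom) from inferInstance)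

lemma gr_epi_cokπ (p : ℤ) : Epi ((grF A p).map (cokπ φ hφ)) := by
  haveI : Epi ((gr A p).map (cokπ φ hφ).hom) := by
    haveI : Epi ((cokπ φ hφ).hom.app (op p)) := cokπ_hom_app_epi φ hφ (op p)
    have hg := grπ_map (cokπ φ hφ) p
    haveI : Epi (grπ Y p ≫ (gr A p).map (cokπ φ hφ).hom) := by
      rw [hg]
      exact epi_comp _ _
    exact epi_of_epi (grπ Y p) _
  exact this

lemma gr_exact_cokπ (p : ℤ) :
    (ShortComplex.mk ((grF A p).map φ) ((grF A p).map (cokπ φ hφ))
      (by rw [← Functor.map_comp, comp_cokπ, Functor.map_zero])).Exact :=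
  gr_exact_of_strict (cokCx φ hφ) (fun q => cok_level_exact φ (op q)) (strict_cokπ φ hφ) p

end CokAPI

section SCLemma

lemma trunc_quasiIso' {S₁ S₂ : ShortComplex A} (φ : S₁ ⟶ S₂) (hf : S₂.f = 0) [Mono φ.τ₃]
    [Epi φ.τ₂] (w : S₁.f ≫ φ.τ₂ = 0) (hex : (ShortComplex.mk S₁.f φ.τ₂ w).Exact) :
    ShortComplex.QuasiIso φ := by
  rw [← ShortComplex.quasiIso_opMap_iff]
  haveI : Epi (ShortComplex.opMap φ).τ₁ := (inferInstance : Epi φ.τ₃.op)
  haveI : Mono (ShortComplex.opMap φ).τ₂ := (inferInstance : Mono φ.τ₂.op)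
  exact trunc_quasiIso (ShortComplex.opMap φ)
    (by
      show S₂.f.op = 0
      rw [hf]
      rfl)
    (by
      show φ.τ₂.op ≫ S₁.f.op = 0
      rw [← op_comp, w]
      rfl) hex.op

lemma exact_of_comp_exact {P' P R S : A} (e : P' ⟶ P) (f : P ⟶ R) (g : R ⟶ S) (w : f ≫ g = 0)
    (w' : (e ≫ f) ≫ g = 0) (hex : (ShortComplex.mk (e ≫ f) g w').Exact) :
    (ShortComplex.mk f g w).Exact := by
  rw [ShortComplex.exact_iff_exact_up_to_refinements]
  intro T y hy
  obtain ⟨T₁, π₁, hπ₁, x, e₁⟩ := hex.exact_up_to_refinements y hy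
  have e₁' : π₁ ≫ y = x ≫ e ≫ f := e₁
  exact ⟨T₁, π₁, hπ₁, x ≫ e, by rw [e₁', Category.assoc]⟩

end SCLemma

section TruncGE

variable (K : CochainComplex (FilF A) ℤ) (a : ℤ)

/-- Coefficient: `1` below `a`, `0` otherwise. -/
def cB (n : ℤ) : ℤ := if n < a then 1 else 0

noncomputable def fT (n : ℤ) : K.X (n - 1) ⊞ K.X n ⟶ K.X n :=
  biprod.desc (cC a n • K.d (n - 1) n) (cB a n • 𝟙 _)

lemma inl_fT (n : ℤ) : biprod.inl ≫ fT K a n = cC a n • K.d (n - 1) n := by
  unfold fT
  rw [biprod.inl_desc]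

lemma inr_fT (n : ℤ) : biprod.inr ≫ fT K a n = cB a n • 𝟙 _ := by
  unfold fT
  rw [biprod.inr_desc]

variable (hK : ∀ (p n : ℤ), n < a → IsZero (((grCx p).obj K).homology n))

include hK in
lemma strict_d_a (n : ℤ) (hn : n = a) : IsStrict (K.d (n - 1) n) := by
  let S : ShortComplex (FilF A) :=
    ShortComplex.mk (K.d (n - 1 - 1) (n - 1)) (K.d (n - 1) n) (K.d_comp_d _ _ _)
  have hS : ∀ p : ℤ, (S.map (grF A p)).Exact := by
    intro p
    have h1 : ((grCx p).obj K).ExactAt (n - 1) := by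
      rw [HomologicalComplex.exactAt_iff_isZero_homology]
      exact hK p (n - 1) (by omega)
    have := (HomologicalComplex.exactAt_iff' ((grCx p).obj K) (n - 1 - 1) (n - 1) n
      (by simp) (by simp)).1 h1
    exact this
  exact strict_g S hS

include hK in
lemma strict_fT (n : ℤ) : IsStrict (fT K a n) := by
  by_cases h1 : n < a
  · have e : fT K a n = biprod.snd := by
      unfold fT
      rw [cB, cC, if_pos h1, if_neg (by omega), zero_smul, one_smul]
      apply biprod.hom_ext'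
      · rw [biprod.inl_desc, biprod.inl_snd]
      · rw [biprod.inr_desc, biprod.inr_snd]
    rw [e]
    exact strict_of_section biprod.snd biprod.inr biprod.inr_snd
  · by_cases h2 : n = a
    · have e : fT K a n = biprod.fst ≫ K.d (n - 1) n := by
        unfold fT
        rw [cB, cC, if_neg h1, if_pos h2, zero_smul, one_smul]
        apply biprod.hom_ext'
        · rw [biprod.inl_desc, biprod.inl_fst_assoc]
        · rw [biprod.inr_desc, biprod.inr_fst_assoc, zero_comp]
      rw [e]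
      exact strict_section_comp biprod.fst biprod.inl biprod.inl_fst _ (strict_d_a K a hK n h2)
    · have e : fT K a n = 0 := by
        unfold fT
        rw [cB, cC, if_neg h1, if_neg h2, zero_smul, zero_smul]
        apply biprod.hom_ext'
        · rw [biprod.inl_desc, comp_zero]
        · rw [biprod.inr_desc, comp_zero]
      rw [e]
      exact strict_zero

noncomputable abbrev LX (n : ℤ) : FilF A := cokFil (fT K a n) (strict_fT K a hK n)

noncomputable abbrev Lπ (n : ℤ) : K.X n ⟶ LX K a hK n := cokπ (fT K a n) (strict_fT K a hK n)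

lemma fT_Lπ (n : ℤ) : fT K a n ≫ Lπ K a hK n = 0 := comp_cokπ _ _

lemma Lπ_eq_zero (n : ℤ) (hn : n < a) : Lπ K a hK n = 0 := by
  have h := fT_Lπ K a hK n
  have h2 : biprod.inr ≫ fT K a n ≫ Lπ K a hK n = 0 := by rw [h, comp_zero]
  rw [← Category.assoc, inr_fT, cB, if_pos hn, one_smul, Category.id_comp] at h2
  exact h2

lemma d_Lπ (m n : ℤ) (h : m + 1 = n) (hn : n ≤ a) : K.d m n ≫ Lπ K a hK n = 0 := by
  by_cases h1 : n < a
  · rw [Lπ_eq_zero K a hK n h1, comp_zero]
  · have h2 : biprod.inl ≫ fT K a n ≫ Lπ K a hK n = 0 := by rw [fT_Lπ, comp_zero]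
    rw [← Category.assoc, inl_fT, cC, if_pos (by omega), one_smul] at h2
    have hm : m = n - 1 := by omega
    rw [← K.XIsoOfEq_hom_comp_d hm n, Category.assoc, h2, comp_zero]

lemma dL_cond (n : ℤ) : fT K a n ≫ K.d n (n + 1) ≫ Lπ K a hK (n + 1) = 0 := by
  apply biprod.hom_ext'
  · rw [← Category.assoc, inl_fT, Preadditive.zsmul_comp, ← Category.assoc, K.d_comp_d,
      zero_comp, smul_zero, comp_zero]
  · rw [← Category.assoc, inr_fT, comp_zero]
    by_cases h1 : n < a
    · rw [d_Lπ K a hK n (n + 1) rfl (by omega), comp_zero]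
    · rw [cB, if_neg h1, zero_smul, zero_comp]

noncomputable def dL (n : ℤ) : LX K a hK n ⟶ LX K a hK (n + 1) :=
  cokDesc (fT K a n) (strict_fT K a hK n) (K.d n (n + 1) ≫ Lπ K a hK (n + 1)) (dL_cond K a hK n)

lemma Lπ_dL (n : ℤ) : Lπ K a hK n ≫ dL K a hK n = K.d n (n + 1) ≫ Lπ K a hK (n + 1) :=
  cokπ_desc _ _ _ _

lemma dL_sq (n : ℤ) : dL K a hK n ≫ dL K a hK (n + 1) = 0 := by
  apply (cancel_epi (Lπ K a hK n)).1
  rw [← Category.assoc, Lπ_dL, Category.assoc, Lπ_dL, ← Category.assoc, K.d_comp_d, zero_comp,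
    comp_zero]

noncomputable def Lcx : CochainComplex (FilF A) ℤ :=
  CochainComplex.of (LX K a hK) (dL K a hK) (dL_sq K a hK)

lemma Lcx_d (n : ℤ) : (Lcx K a hK).d n (n + 1) = dL K a hK n := CochainComplex.of_d _ _ n

noncomputable def Lφ : K ⟶ Lcx K a hK where
  f n := Lπ K a hK n
  comm' := by
    intro i j hij
    obtain rfl : i + 1 = j := hij
    rw [Lcx_d]
    exact Lπ_dL K a hK i

lemma isZero_LX (n : ℤ) (hn : n < a) : IsZero (LX K a hK n) :=
  IsZero.of_epi_eq_zero (Lπ K a hK n) (Lπ_eq_zero K a hK n hn)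

instance : (Lcx K a hK).IsStrictlyGE a := by
  rw [CochainComplex.isStrictlyGE_iff]
  intro i hi
  exact isZero_LX K a hK i hi

lemma fT_eq_zero (n : ℤ) (hn : a < n) : fT K a n = 0 := by
  unfold fT
  rw [cB, cC, if_neg (by omega), if_neg (by omega), zero_smul, zero_smul]
  apply biprod.hom_ext'
  · rw [biprod.inl_desc, comp_zero]
  · rw [biprod.inr_desc, comp_zero]

lemma isIso_Lπ (n : ℤ) (hn : a < n) : IsIso (Lπ K a hK n) := by
  have h0 : fT K a n ≫ 𝟙 (K.X n) = 0 := by
    rw [Category.comp_id]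
    exact fT_eq_zero K a n hn
  have h1 : Lπ K a hK n ≫ cokDesc (fT K a n) (strict_fT K a hK n) (𝟙 (K.X n)) h0 = 𝟙 _ :=
    cokπ_desc _ _ _ _
  refine ⟨⟨cokDesc (fT K a n) (strict_fT K a hK n) (𝟙 (K.X n)) h0, h1, ?_⟩⟩
  apply (cancel_epi (Lπ K a hK n)).1
  rw [← Category.assoc, h1, Category.id_comp, Category.comp_id]

lemma fT_a_eq (n : ℤ) (hn : n = a) : fT K a n = biprod.fst ≫ K.d (n - 1) n := by
  have hc : cC a n = 1 := by
    unfold cC
    exact if_pos hn
  have hb : cB a n = 0 := by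
    unfold cB
    exact if_neg (by omega)
  unfold fT
  rw [hc, hb, zero_smul, one_smul]
  apply biprod.hom_ext'
  · rw [biprod.inl_desc, biprod.inl_fst_assoc]
  · rw [biprod.inr_desc, biprod.inr_fst_assoc, zero_comp]

lemma gr_epi_Lπ (p n : ℤ) : Epi ((grF A p).map (Lπ K a hK n)) := gr_epi_cokπ _ _ p

lemma Lφ_qi (p : ℤ) : QuasiIso ((grCx p).map (Lφ K a hK)) := by
  rw [quasiIso_iff]
  intro n
  rcases lt_trichotomy n a with hn | hn | hn
  · -- n < a
    have hKx : ((grCx p).obj K).ExactAt n := by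
      rw [HomologicalComplex.exactAt_iff_isZero_homology]
      exact hK p n hn
    rw [quasiIsoAt_iff_exactAt _ _ hKx]
    exact HomologicalComplex.ExactAt.of_isZero
      (Functor.map_isZero (grF A p) (isZero_LX K a hK n hn))
  · -- n = a
    refine (quasiIsoAt_iff' _ (n - 1) n (n + 1) (by simp) (by simp)).2 ?_
    haveI : IsIso (Lπ K a hK (n + 1)) := isIso_Lπ K a hK (n + 1) (by omega)
    haveI : Mono ((HomologicalComplex.shortComplexFunctor' A (ComplexShape.up ℤ) (n - 1) n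
        (n + 1)).map ((grCx p).map (Lφ K a hK))).τ₃ :=
      (inferInstance : Mono ((grF A p).map (Lπ K a hK (n + 1))))
    haveI : Epi ((HomologicalComplex.shortComplexFunctor' A (ComplexShape.up ℤ) (n - 1) n
        (n + 1)).map ((grCx p).map (Lφ K a hK))).τ₂ := gr_epi_Lπ K a hK p n
    have hd0 : (Lcx K a hK).d (n - 1) n = 0 :=
      (isZero_LX K a hK (n - 1) (by omega)).eq_of_src _ _
    have hf : (grF A p).map ((Lcx K a hK).d (n - 1) n) = 0 := by
      rw [hd0]
      exact (grF A p).map_zero _ _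
    have hex : (ShortComplex.mk ((grF A p).map (K.d (n - 1) n)) ((grF A p).map (Lπ K a hK n))
        (by rw [← Functor.map_comp, d_Lπ K a hK (n - 1) n (by omega) (by omega),
          Functor.map_zero])).Exact := by
      have hx := gr_exact_cokπ (fT K a n) (strict_fT K a hK n) p
      have e1 : (grF A p).map (fT K a n) =
          (grF A p).map biprod.fst ≫ (grF A p).map (K.d (n - 1) n) := by
        rw [← Functor.map_comp, fT_a_eq K a n hn]
      refine exact_of_comp_exact ((grF A p).map biprod.fst) _ _ _ ?_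
        (exact_of_eq e1.symm rfl _ _ hx)
      rw [← e1, ← Functor.map_comp, fT_Lπ, Functor.map_zero]
    exact trunc_quasiIso' _ hf _ hex
  · -- a < n
    refine (quasiIsoAt_iff' _ (n - 1) n (n + 1) (by simp) (by simp)).2 ?_
    haveI : IsIso (Lπ K a hK n) := isIso_Lπ K a hK n hn
    haveI : IsIso (Lπ K a hK (n + 1)) := isIso_Lπ K a hK (n + 1) (by omega)
    haveI : Epi ((HomologicalComplex.shortComplexFunctor' A (ComplexShape.up ℤ) (n - 1) n
        (n + 1)).map ((grCx p).map (Lφ K a hK))).τ₁ := gr_epi_Lπ K a hK p (n - 1)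
    haveI : IsIso ((HomologicalComplex.shortComplexFunctor' A (ComplexShape.up ℤ) (n - 1) n
        (n + 1)).map ((grCx p).map (Lφ K a hK))).τ₂ :=
      (inferInstance : IsIso ((grF A p).map (Lπ K a hK n)))
    haveI : Mono ((HomologicalComplex.shortComplexFunctor' A (ComplexShape.up ℤ) (n - 1) n
        (n + 1)).map ((grCx p).map (Lφ K a hK))).τ₃ :=
      (inferInstance : Mono ((grF A p).map (Lπ K a hK (n + 1))))
    exact ShortComplex.quasiIso_of_epi_of_isIso_of_mono _

include hK in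
theorem main1087 :
    ∃ (L : CochainComplex (FilF A) ℤ) (φ : K ⟶ L), L.IsStrictlyGE a ∧ IsFilteredQuasiIso φ :=
  ⟨Lcx K a hK, Lφ K a hK, inferInstance, fun p => Lφ_qi K a hK p⟩

end TruncGE

end Groth.Agent.Lib.FilDH4
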