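import Mathlib
import Groth.Prelude.Def_FilD
import Groth.Agent.Lib.FilD8_helper4

set_option autoImplicit false
set_option linter.style.haveILetI false
set_option linter.unusedSectionVars false

universe v u

open CategoryTheory CategoryTheory.Limits Opposite FilD

namespace Groth.Agent.Lib.FilDH4

variable {A : Type u} [Category.{v} A] [Abelian A]

section General

lemma strict_of_app_epi {F G : FilF A} (φ : F ⟶ G) (h : ∀ p : ℤ, Epi (φ.hom.app (op p))) :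
    IsStrict φ := by
  refine isStrict_of_lifting2 _ ?_
  intro p q hpq T a z _
  haveI := h q
  obtain ⟨T', π, hπ, y, e⟩ := surjective_up_to_refinements_of_epi (φ.hom.app (op q)) z
  exact ⟨T', π, hπ, y, e⟩

lemma mono_of_app_mono {F G : FilF A} (φ : F ⟶ G) (h : ∀ p : ℤ, Mono (φ.hom.app (op p))) :
    Mono φ := by
  haveI : ∀ c : ℤᵒᵖ, Mono (φ.hom.app c) := fun c => h c.unop
  haveI : Mono φ.hom := NatTrans.mono_of_mono_app _
  exact (IsFinFil A).ι.mono_of_mono_map (show Mono ((IsFinFil A).ι.map φ) from this)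

lemma epi_of_app_epi {F G : FilF A} (φ : F ⟶ G) (h : ∀ p : ℤ, Epi (φ.hom.app (op p))) :
    Epi φ := by
  haveI : ∀ c : ℤᵒᵖ, Epi (φ.hom.app c) := fun c => h c.unop
  haveI : Epi φ.hom := NatTrans.epi_of_epi_app _
  exact (IsFinFil A).ι.epi_of_epi_map (show Epi ((IsFinFil A).ι.map φ) from this)

/-- Extension along the second map of a short complex which is exact on graded pieces. -/
lemma exists_ext_S (S : ShortComplex (FilF A)) (hS : ∀ p : ℤ, (S.map (grF A p)).Exact)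
    (T : FilF A) (hT : IsFilteredInjective T) (ψ : S.X₂ ⟶ T) (hψ : S.f ≫ ψ = 0) :
    ∃ h : S.X₃ ⟶ T, S.g ≫ h = ψ := by
  refine exists_lift S.g ψ (strict_g S hS) hT ?_
  intro p T' x hx
  obtain ⟨T'', π, hπ, z, e⟩ := (level_exact S hS p).exact_up_to_refinements x hx
  haveI := hπ
  have e' : π ≫ x = z ≫ S.f.hom.app (op p) := e
  have h0 : S.f.hom.app (op p) ≫ ψ.hom.app (op p) = 0 :=
    congrArg (fun φ => φ.hom.app (op p)) hψ
  rw [← cancel_epi π, comp_zero, ← Category.assoc, e', Category.assoc, h0, comp_zero]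

end General

section Single

/-- The identification `X[0]⁰ ≅ X`, typed with `CochainComplex.singleFunctor`. -/
noncomputable def sX0 (X : FilF A) :
    ((CochainComplex.singleFunctor (FilF A) 0).obj X).X 0 ≅ X :=
  HomologicalComplex.singleObjXSelf (ComplexShape.up ℤ) 0 X

lemma single_map_f0 {X Y : FilF A} (f : X ⟶ Y) :
    ((CochainComplex.singleFunctor (FilF A) 0).map f).f 0 = (sX0 X).hom ≫ f ≫ (sX0 Y).inv :=
  HomologicalComplex.single_map_f_self _ _ f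

/-- A map out of a single complex from its degree-0 component. -/
noncomputable def mkFromSingle {X : FilF A} {K : CochainComplex (FilF A) ℤ} (φ : X ⟶ K.X 0)
    (hφ : φ ≫ K.d 0 (0 + 1) = 0) : (CochainComplex.singleFunctor (FilF A) 0).obj X ⟶ K :=
  HomologicalComplex.mkHomFromSingle φ (by
    intro k hk
    obtain rfl : 0 + 1 = k := hk
    exact hφ)

lemma mkFromSingle_f0 {X : FilF A} {K : CochainComplex (FilF A) ℤ} (φ : X ⟶ K.X 0)
    (hφ : φ ≫ K.d 0 (0 + 1) = 0) : (mkFromSingle φ hφ).f 0 = (sX0 X).hom ≫ φ :=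
  HomologicalComplex.mkHomFromSingle_f _ _

lemma from_single_ext {X : FilF A} {K : CochainComplex (FilF A) ℤ}
    {f g : (CochainComplex.singleFunctor (FilF A) 0).obj X ⟶ K} (h : f.f 0 = g.f 0) : f = g :=
  HomologicalComplex.from_single_hom_ext h

lemma single_f_d {X : FilF A} {K : CochainComplex (FilF A) ℤ}
    (φ : (CochainComplex.singleFunctor (FilF A) 0).obj X ⟶ K) (k : ℤ) :
    φ.f 0 ≫ K.d 0 k = 0 := by
  rw [φ.comm 0 k, CochainComplex.singleFunctor_obj_d, zero_comp]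

/-- The degree-0 component of a map out of a single complex. -/
noncomputable def deg0 {X : FilF A} {K : CochainComplex (FilF A) ℤ}
    (φ : (CochainComplex.singleFunctor (FilF A) 0).obj X ⟶ K) : X ⟶ K.X 0 :=
  (sX0 X).inv ≫ φ.f 0

lemma deg0_d {X : FilF A} {K : CochainComplex (FilF A) ℤ}
    (φ : (CochainComplex.singleFunctor (FilF A) 0).obj X ⟶ K) (k : ℤ) :
    deg0 φ ≫ K.d 0 k = 0 := by
  unfold deg0
  rw [Category.assoc, single_f_d, comp_zero]

lemma hom_deg0 {X : FilF A} {K : CochainComplex (FilF A) ℤ}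
    (φ : (CochainComplex.singleFunctor (FilF A) 0).obj X ⟶ K) :
    (sX0 X).hom ≫ deg0 φ = φ.f 0 := by
  unfold deg0
  rw [Iso.hom_inv_id_assoc]

lemma final_eq1 {X Y : FilF A} {K M : CochainComplex (FilF A) ℤ}
    (a : (CochainComplex.singleFunctor (FilF A) 0).obj X ⟶ K) (α : K ⟶ M) (f : X ⟶ Y)
    (b0 : Y ⟶ M.X 0) (hb0 : b0 ≫ M.d 0 (0 + 1) = 0) (h : deg0 a ≫ α.f 0 = f ≫ b0) :
    a ≫ α = (CochainComplex.singleFunctor (FilF A) 0).map f ≫ mkFromSingle b0 hb0 := by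
  refine from_single_ext ?_
  rw [HomologicalComplex.comp_f, HomologicalComplex.comp_f, mkFromSingle_f0, single_map_f0,
    ← hom_deg0 a]
  simp only [Category.assoc, Iso.inv_hom_id_assoc]
  rw [h]

lemma final_eq2 {Y Z : FilF A} {K M : CochainComplex (FilF A) ℤ}
    (c : (CochainComplex.singleFunctor (FilF A) 0).obj Z ⟶ K) (β : M ⟶ K) (g : Y ⟶ Z)
    (b0 : Y ⟶ M.X 0) (hb0 : b0 ≫ M.d 0 (0 + 1) = 0) (h : b0 ≫ β.f 0 = g ≫ deg0 c) :
    mkFromSingle b0 hb0 ≫ β = (CochainComplex.singleFunctor (FilF A) 0).map g ≫ c := by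
  refine from_single_ext ?_
  rw [HomologicalComplex.comp_f, HomologicalComplex.comp_f, mkFromSingle_f0, single_map_f0]
  simp only [Category.assoc]
  rw [h]
  rfl

lemma deg0_gr (J : CochainComplex (FilF A) ℤ) [J.IsStrictlyGE 0] {Z : FilF A}
    (c : (CochainComplex.singleFunctor (FilF A) 0).obj Z ⟶ J) (hc : IsFilteredQuasiIso c)
    (p : ℤ) :
    ((ShortComplex.mk (deg0 c) (J.d 0 (0 + 1)) (deg0_d c _)).map (grF A p)).Exact ∧
      Mono ((grF A p).map (deg0 c)) := by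
  haveI := hc p
  have hq : QuasiIsoAt ((grCx p).map c) 0 := inferInstance
  have h1 : (grF A p).map (((CochainComplex.singleFunctor (FilF A) 0).obj Z).d (-1) 0) = 0 := by
    rw [CochainComplex.singleFunctor_obj_d, Functor.map_zero]
  have h2 : (grF A p).map (((CochainComplex.singleFunctor (FilF A) 0).obj Z).d 0 1) = 0 := by
    rw [CochainComplex.singleFunctor_obj_d, Functor.map_zero]
  have h3 : (grF A p).map (J.d (-1) 0) = 0 := by
    rw [(J.isZero_of_isStrictlyGE 0 (-1) (by omega)).eq_of_src (J.d (-1) 0) 0, Functor.map_zero]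
  obtain ⟨hex, hm⟩ := (ShortComplex.quasiIso_iff_of_zeros _ h1 h2 h3).1
    ((quasiIsoAt_iff' _ (-1) 0 1 (by simp) (by simp)).1 hq)
  have hm' : Mono ((grF A p).map (c.f 0)) := hm
  have w0 : (grF A p).map (c.f 0) ≫ (grF A p).map (J.d 0 (0 + 1)) = 0 := by
    rw [← Functor.map_comp, single_f_d, Functor.map_zero]
  have hex' : (ShortComplex.mk ((grF A p).map (c.f 0)) ((grF A p).map (J.d 0 (0 + 1))) w0).Exact :=
    hex
  have hdeg : (grF A p).map (deg0 c) = (grF A p).map (sX0 Z).inv ≫ (grF A p).map (c.f 0) := by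
    unfold deg0
    rw [Functor.map_comp]
  constructor
  · have w' : ((grF A p).map (sX0 Z).inv ≫ (grF A p).map (c.f 0)) ≫
        ((grF A p).map (J.d 0 (0 + 1)) ≫ 𝟙 _) = 0 := by
      rw [Category.comp_id, Category.assoc, w0, comp_zero]
    have h4 := exact_epi_comp_comp_mono ((grF A p).map (sX0 Z).inv)
      ((grF A p).map (c.f 0)) ((grF A p).map (J.d 0 (0 + 1))) (𝟙 _) w0 hex' w'
    exact exact_of_eq hdeg (Category.comp_id _).symm _ _ h4
  · rw [hdeg]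
    exact mono_comp _ _

lemma exactAt_of_fqi (J : CochainComplex (FilF A) ℤ) {Z : FilF A}
    (c : (CochainComplex.singleFunctor (FilF A) 0).obj Z ⟶ J) (hc : IsFilteredQuasiIso c)
    (p n : ℤ) (hn : n ≠ 0) : ((grCx p).obj J).ExactAt n := by
  haveI := hc p
  have hK : ((grCx p).obj ((CochainComplex.singleFunctor (FilF A) 0).obj Z)).ExactAt n :=
    HomologicalComplex.ExactAt.of_isZero (Functor.map_isZero (grF A p)
      (HomologicalComplex.isZero_single_obj_X (ComplexShape.up ℤ) 0 Z n hn))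
  exact (quasiIsoAt_iff_exactAt ((grCx p).map c) n hK).1 inferInstance

end Single

section Theta

variable (I J : CochainComplex (FilF A) ℤ)

/-- The invariant: `t ≫ d_I` kills the levelwise kernel of `d_J`. -/
def QInv (n : ℤ) (t : J.X n ⟶ I.X (n + 1)) : Prop :=
  ∀ (p : ℤ) (T : A) (x : T ⟶ (J.X n).obj.obj (op p)),
    x ≫ (J.d n (n + 1)).hom.app (op p) = 0 →
      x ≫ t.hom.app (op p) ≫ (I.d (n + 1) (n + 1 + 1)).hom.app (op p) = 0

variable (hI : ∀ n, IsFilteredInjective (I.X n))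
  (hJn : ∀ (p n : ℤ), n ≠ 0 → ((grCx p).obj J).ExactAt n)

include hI hJn in
lemma theta_step (n : ℤ) (hn : 0 ≤ n) (t : J.X n ⟶ I.X (n + 1)) (ht : QInv I J n t) :
    ∃ t' : J.X (n + 1) ⟶ I.X (n + 1 + 1),
      J.d n (n + 1) ≫ t' = -(t ≫ I.d (n + 1) (n + 1 + 1)) ∧ QInv I J (n + 1) t' := by
  let S' : ShortComplex (FilF A) :=
    ShortComplex.mk (J.d n (n + 1)) (J.d (n + 1) (n + 1 + 1)) (J.d_comp_d _ _ _)
  have hS' : ∀ p : ℤ, (S'.map (grF A p)).Exact := by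
    intro p
    exact (HomologicalComplex.exactAt_iff' ((grCx p).obj J) n (n + 1) (n + 1 + 1)
      (by simp) (by simp)).1 (hJn p (n + 1) (by omega))
  obtain ⟨t', ht'⟩ := exists_lift (J.d n (n + 1)) (-(t ≫ I.d (n + 1) (n + 1 + 1)))
    (strict_f S' hS') (hI (n + 1 + 1)) (by
      intro p T x hx
      show x ≫ (-(t.hom.app (op p) ≫ (I.d (n + 1) (n + 1 + 1)).hom.app (op p))) = 0
      rw [Preadditive.comp_neg, ht p T x hx, neg_zero])
  refine ⟨t', ht', ?_⟩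
  intro p T x hx
  obtain ⟨T', π, hπ, z, e⟩ := (level_exact S' hS' p).exact_up_to_refinements x hx
  haveI := hπ
  have e' : π ≫ x = z ≫ (J.d n (n + 1)).hom.app (op p) := e
  have h1 : J.d n (n + 1) ≫ t' ≫ I.d (n + 1 + 1) (n + 1 + 1 + 1) = 0 := by
    rw [← Category.assoc, ht', Preadditive.neg_comp, Category.assoc, I.d_comp_d, comp_zero,
      neg_zero]
  have h0 : (J.d n (n + 1)).hom.app (op p) ≫ t'.hom.app (op p) ≫
      (I.d (n + 1 + 1) (n + 1 + 1 + 1)).hom.app (op p) = 0 :=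
    congrArg (fun m => m.hom.app (op p)) h1
  rw [← cancel_epi π, comp_zero, ← Category.assoc, e', Category.assoc, h0, comp_zero]

open Classical in
/-- A chosen next twisting map. -/
noncomputable def thStep (n : ℤ) (t : J.X n ⟶ I.X (n + 1)) : J.X (n + 1) ⟶ I.X (n + 1 + 1) :=
  if h : ∃ t' : J.X (n + 1) ⟶ I.X (n + 1 + 1),
      J.d n (n + 1) ≫ t' = -(t ≫ I.d (n + 1) (n + 1 + 1)) ∧ QInv I J (n + 1) t'
  then h.choose else 0

include hI hJn in
lemma thStep_spec (n : ℤ) (hn : 0 ≤ n) (t : J.X n ⟶ I.X (n + 1)) (ht : QInv I J n t) :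
    J.d n (n + 1) ≫ thStep I J n t = -(t ≫ I.d (n + 1) (n + 1 + 1)) ∧
      QInv I J (n + 1) (thStep I J n t) := by
  have h := theta_step I J hI hJn n hn t ht
  unfold thStep
  rw [dif_pos h]
  exact h.choose_spec

/-- The sequence of families of twisting maps. -/
noncomputable def thSeq (t0 : J.X 0 ⟶ I.X (0 + 1)) : ℕ → (∀ n : ℤ, J.X n ⟶ I.X (n + 1))
  | 0 => Function.update (fun _ => 0) 0 t0
  | (k + 1) => Function.update (thSeq t0 k) ((k : ℤ) + 1)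
      (thStep I J (k : ℤ) (thSeq t0 k (k : ℤ)))

lemma thSeq_zero_eq (t0 : J.X 0 ⟶ I.X (0 + 1)) :
    thSeq I J t0 0 = Function.update (fun _ => 0) 0 t0 := rfl

lemma thSeq_succ_eq (t0 : J.X 0 ⟶ I.X (0 + 1)) (k : ℕ) :
    thSeq I J t0 (k + 1) = Function.update (thSeq I J t0 k) ((k : ℤ) + 1)
      (thStep I J (k : ℤ) (thSeq I J t0 k (k : ℤ))) := rfl

lemma thSeq_zero (t0 : J.X 0 ⟶ I.X (0 + 1)) : thSeq I J t0 0 0 = t0 := by
  rw [thSeq_zero_eq, Function.update_self]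

lemma thSeq_succ_self (t0 : J.X 0 ⟶ I.X (0 + 1)) (k : ℕ) :
    thSeq I J t0 (k + 1) ((k : ℤ) + 1) = thStep I J (k : ℤ) (thSeq I J t0 k (k : ℤ)) := by
  rw [thSeq_succ_eq, Function.update_self]

include hI hJn in
lemma thSeq_inv (t0 : J.X 0 ⟶ I.X (0 + 1)) (ht0 : QInv I J 0 t0) :
    ∀ (k : ℕ) (n : ℤ), n = k → QInv I J n (thSeq I J t0 k n) := by
  intro k
  induction k with
  | zero =>
    intro n hn
    obtain rfl : n = 0 := by simpa using hn
    rw [thSeq_zero]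
    exact ht0
  | succ k ih =>
    intro n hn
    obtain rfl : n = (k : ℤ) + 1 := by
      push_cast at hn
      exact hn
    rw [thSeq_succ_self]
    exact (thStep_spec I J hI hJn (k : ℤ) (by omega) _ (ih (k : ℤ) rfl)).2

/-- The family of twisting maps. -/
noncomputable def Th (t0 : J.X 0 ⟶ I.X (0 + 1)) (n : ℤ) : J.X n ⟶ I.X (n + 1) :=
  thSeq I J t0 n.toNat n

lemma Th_zero (t0 : J.X 0 ⟶ I.X (0 + 1)) : Th I J t0 0 = t0 := by
  show thSeq I J t0 (0 : ℤ).toNat 0 = t0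
  rw [Int.toNat_zero, thSeq_zero]

include hI hJn in
lemma Th_rel [J.IsStrictlyGE 0] (t0 : J.X 0 ⟶ I.X (0 + 1)) (ht0 : QInv I J 0 t0) (n : ℤ) :
    J.d n (n + 1) ≫ Th I J t0 (n + 1) = -(Th I J t0 n ≫ I.d (n + 1) (n + 1 + 1)) := by
  by_cases hn : 0 ≤ n
  · obtain ⟨k, rfl⟩ := Int.eq_ofNat_of_zero_le hn
    have e1 : Th I J t0 ((k : ℤ) + 1) = thStep I J (k : ℤ) (thSeq I J t0 k (k : ℤ)) := by
      show thSeq I J t0 ((k : ℤ) + 1).toNat ((k : ℤ) + 1) = _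
      rw [Int.toNat_natCast_add_one, thSeq_succ_self]
    have e2 : Th I J t0 (k : ℤ) = thSeq I J t0 k (k : ℤ) := by
      show thSeq I J t0 ((k : ℤ)).toNat (k : ℤ) = _
      rw [Int.toNat_natCast]
    rw [e1, e2]
    exact (thStep_spec I J hI hJn (k : ℤ) (by omega) _
      (thSeq_inv I J hI hJn t0 ht0 k (k : ℤ) rfl)).1
  · exact (J.isZero_of_isStrictlyGE 0 n (by omega)).eq_of_src _ _

end Theta

section Complex

variable (I J : CochainComplex (FilF A) ℤ) (Θ : ∀ n : ℤ, J.X n ⟶ I.X (n + 1))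
  (hΘ : ∀ n : ℤ, J.d n (n + 1) ≫ Θ (n + 1) = -(Θ n ≫ I.d (n + 1) (n + 1 + 1)))

/-- The objects of the horseshoe complex. -/
noncomputable abbrev HX (n : ℤ) : FilF A := I.X n ⊞ J.X n

/-- The twisted differential. -/
noncomputable def Hd (n : ℤ) : HX I J n ⟶ HX I J (n + 1) :=
  biprod.desc (I.d n (n + 1) ≫ biprod.inl) (Θ n ≫ biprod.inl + J.d n (n + 1) ≫ biprod.inr)

lemma inl_Hd (n : ℤ) : (biprod.inl : I.X n ⟶ HX I J n) ≫ Hd I J Θ n =
    I.d n (n + 1) ≫ (biprod.inl : I.X (n + 1) ⟶ HX I J (n + 1)) := by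
  unfold Hd
  rw [biprod.inl_desc]

lemma Hd_snd (n : ℤ) : (biprod.snd : HX I J n ⟶ J.X n) ≫ J.d n (n + 1) =
    Hd I J Θ n ≫ (biprod.snd : HX I J (n + 1) ⟶ J.X (n + 1)) := by
  unfold Hd
  apply biprod.hom_ext'
  · rw [biprod.inl_snd_assoc, zero_comp, biprod.inl_desc_assoc, Category.assoc, biprod.inl_snd,
      comp_zero]
  · rw [biprod.inr_snd_assoc, biprod.inr_desc_assoc, Preadditive.add_comp, Category.assoc,
      Category.assoc, biprod.inl_snd, biprod.inr_snd, comp_zero, zero_add, Category.comp_id]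

include hΘ in
lemma Hd_sq (n : ℤ) : Hd I J Θ n ≫ Hd I J Θ (n + 1) = 0 := by
  unfold Hd
  apply biprod.hom_ext'
  · rw [biprod.inl_desc_assoc, Category.assoc, biprod.inl_desc, ← Category.assoc, I.d_comp_d,
      zero_comp, comp_zero]
  · have h1 : (Θ n ≫ biprod.inl + J.d n (n + 1) ≫ biprod.inr) ≫
        biprod.desc (I.d (n + 1) (n + 1 + 1) ≫ biprod.inl)
          (Θ (n + 1) ≫ biprod.inl + J.d (n + 1) (n + 1 + 1) ≫ biprod.inr) =
        (Θ n ≫ I.d (n + 1) (n + 1 + 1) + J.d n (n + 1) ≫ Θ (n + 1)) ≫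
          (biprod.inl : I.X (n + 1 + 1) ⟶ (I.X (n + 1 + 1) ⊞ J.X (n + 1 + 1) : FilF A)) +
        (J.d n (n + 1) ≫ J.d (n + 1) (n + 1 + 1)) ≫ biprod.inr := by
      simp only [Preadditive.add_comp, Preadditive.comp_add, Category.assoc, biprod.inl_desc,
        biprod.inr_desc, add_assoc]
    rw [biprod.inr_desc_assoc, h1, hΘ n, J.d_comp_d, zero_comp, add_zero, add_neg_cancel,
      zero_comp, comp_zero]

/-- The horseshoe complex. -/
noncomputable def Hcx : CochainComplex (FilF A) ℤ :=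
  CochainComplex.of (HX I J) (Hd I J Θ) (Hd_sq I J Θ hΘ)

lemma Hcx_d (n : ℤ) : (Hcx I J Θ hΘ).d n (n + 1) = Hd I J Θ n :=
  CochainComplex.of_d _ _ n

/-- The inclusion `I ⟶ M`. -/
noncomputable def Hα : I ⟶ Hcx I J Θ hΘ where
  f n := (biprod.inl : I.X n ⟶ HX I J n)
  comm' i j hij := by
    obtain rfl : i + 1 = j := hij
    rw [Hcx_d]
    exact inl_Hd I J Θ i

/-- The projection `M ⟶ J`. -/
noncomputable def Hβ : Hcx I J Θ hΘ ⟶ J where
  f n := (biprod.snd : HX I J n ⟶ J.X n)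
  comm' i j hij := by
    obtain rfl : i + 1 = j := hij
    rw [Hcx_d]
    exact Hd_snd I J Θ i

variable (S : ShortComplex (FilF A)) (β0 : S.X₂ ⟶ I.X 0) (c0 : S.X₃ ⟶ J.X 0)

/-- The degree-0 component of `Y ⟶ M`. -/
noncomputable def Hb0 : S.X₂ ⟶ HX I J 0 := biprod.lift β0 (S.g ≫ c0)

lemma Hb0_d (h1 : (S.g ≫ c0) ≫ Θ 0 = -(β0 ≫ I.d 0 (0 + 1))) (hc0 : c0 ≫ J.d 0 (0 + 1) = 0) :
    Hb0 I J S β0 c0 ≫ Hd I J Θ 0 = 0 := by
  have e1 : (S.g ≫ c0) ≫ Θ 0 ≫
      (biprod.inl : I.X (0 + 1) ⟶ (I.X (0 + 1) ⊞ J.X (0 + 1) : FilF A)) =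
      -(β0 ≫ I.d 0 (0 + 1) ≫ biprod.inl) := by
    rw [← Category.assoc, h1, Preadditive.neg_comp, Category.assoc]
  have e2 : (S.g ≫ c0) ≫ J.d 0 (0 + 1) ≫
      (biprod.inr : J.X (0 + 1) ⟶ (I.X (0 + 1) ⊞ J.X (0 + 1) : FilF A)) = 0 := by
    rw [Category.assoc, ← Category.assoc c0, hc0, zero_comp, comp_zero]
  unfold Hb0 Hd
  rw [biprod.lift_desc, Preadditive.comp_add, e1, e2, add_zero, add_neg_cancel]

lemma Hb0_fac1 (a0 : S.X₁ ⟶ I.X 0) (hβ : S.f ≫ β0 = a0) :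
    a0 ≫ (biprod.inl : I.X 0 ⟶ HX I J 0) = S.f ≫ Hb0 I J S β0 c0 := by
  unfold Hb0
  apply biprod.hom_ext
  · rw [Category.assoc, biprod.inl_fst, Category.comp_id, Category.assoc, biprod.lift_fst, hβ]
  · rw [Category.assoc, biprod.inl_snd, comp_zero, Category.assoc, biprod.lift_snd,
      ← Category.assoc, S.zero, zero_comp]

lemma Hb0_fac2 : Hb0 I J S β0 c0 ≫ (biprod.snd : HX I J 0 ⟶ J.X 0) = S.g ≫ c0 := by
  unfold Hb0
  rw [biprod.lift_snd]

end Complex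

section Base

variable (S : ShortComplex (FilF A))
  (hS : ∀ p : ℤ, (S.map ((IsFinFil A).ι ⋙ (evaluation ℤᵒᵖ A).obj (op p))).ShortExact)
  (I J : CochainComplex (FilF A) ℤ) (hI : ∀ n, IsFilteredInjective (I.X n))

include hS in
lemma S_gr_exact (p : ℤ) : (S.map (grF A p)).Exact :=
  gr_exact_of_strict S (fun q => (hS q).exact)
    (strict_of_app_epi S.g (fun q => (hS q).epi_g)) p

include hS in
lemma S_mono_f : Mono S.f := mono_of_app_mono S.f (fun q => (hS q).mono_f)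

include hS in
lemma S_epi_g : Epi S.g := epi_of_app_epi S.g (fun q => (hS q).epi_g)

include hS in
lemma S_strict_f : IsStrict S.f := strict_f S (S_gr_exact S hS)

include hS hI in
lemma theta_zero (a0 : S.X₁ ⟶ I.X 0) (ha0 : a0 ≫ I.d 0 (0 + 1) = 0)
    (c0 : S.X₃ ⟶ J.X 0) (hc0 : c0 ≫ J.d 0 (0 + 1) = 0)
    (hJ0 : ∀ p : ℤ, ((ShortComplex.mk c0 (J.d 0 (0 + 1)) hc0).map (grF A p)).Exact)
    (hJ0m : ∀ p : ℤ, Mono ((grF A p).map c0))
    (β0 : S.X₂ ⟶ I.X 0) (hβ : S.f ≫ β0 = a0) :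
    ∃ t : J.X 0 ⟶ I.X (0 + 1), (S.g ≫ c0) ≫ t = -(β0 ≫ I.d 0 (0 + 1)) ∧ QInv I J 0 t := by
  have hz : S.f ≫ S.g ≫ c0 = 0 := by rw [← Category.assoc, S.zero, zero_comp]
  have hS' : ∀ p : ℤ, ((ShortComplex.mk S.f (S.g ≫ c0) hz).map (grF A p)).Exact := by
    intro p
    haveI := hJ0m p
    have w : (grF A p).map S.f ≫ (grF A p).map S.g = 0 := by
      rw [← Functor.map_comp, S.zero, Functor.map_zero]
    have w' : (𝟙 _ ≫ (grF A p).map S.f) ≫ ((grF A p).map S.g ≫ (grF A p).map c0) = 0 := by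
      rw [Category.id_comp, ← Category.assoc, w, zero_comp]
    have h1 := exact_epi_comp_comp_mono (𝟙 _) ((grF A p).map S.f) ((grF A p).map S.g)
      ((grF A p).map c0) w (S_gr_exact S hS p) w'
    exact exact_of_eq (Category.id_comp _).symm ((grF A p).map_comp _ _) _ _ h1
  have hψ : S.f ≫ (-(β0 ≫ I.d 0 (0 + 1))) = 0 := by
    rw [Preadditive.comp_neg, ← Category.assoc, hβ, ha0, neg_zero]
  obtain ⟨t, ht⟩ := exists_ext_S (ShortComplex.mk S.f (S.g ≫ c0) hz) hS' (I.X (0 + 1))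
    (hI (0 + 1)) (-(β0 ≫ I.d 0 (0 + 1))) hψ
  have ht' : (S.g ≫ c0) ≫ t = -(β0 ≫ I.d 0 (0 + 1)) := ht
  refine ⟨t, ht', ?_⟩
  have hgt : c0 ≫ t ≫ I.d (0 + 1) (0 + 1 + 1) = 0 := by
    haveI := S_epi_g S hS
    rw [← cancel_epi S.g, comp_zero, ← Category.assoc, ← Category.assoc, ht',
      Preadditive.neg_comp, Category.assoc, I.d_comp_d, comp_zero, neg_zero]
  intro p T x hx
  obtain ⟨T', π, hπ, z, e⟩ :=
    (level_exact (ShortComplex.mk c0 (J.d 0 (0 + 1)) hc0) hJ0 p).exact_up_to_refinements x hx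
  haveI := hπ
  have e' : π ≫ x = z ≫ c0.hom.app (op p) := e
  have h0 : c0.hom.app (op p) ≫ t.hom.app (op p) ≫
      (I.d (0 + 1) (0 + 1 + 1)).hom.app (op p) = 0 :=
    congrArg (fun m => m.hom.app (op p)) hgt
  rw [← cancel_epi π, comp_zero, ← Category.assoc, e', Category.assoc, h0, comp_zero]

end Base

section Main

theorem main1091 (S : ShortComplex (FilF A))
    (hS : ∀ p : ℤ, (S.map ((IsFinFil A).ι ⋙ (evaluation ℤᵒᵖ A).obj (op p))).ShortExact)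
    (I : CochainComplex (FilF A) ℤ) (hI : ∀ n, IsFilteredInjective (I.X n))
    (a : (CochainComplex.singleFunctor (FilF A) 0).obj S.X₁ ⟶ I)
    (J : CochainComplex (FilF A) ℤ) [J.IsStrictlyGE 0]
    (c : (CochainComplex.singleFunctor (FilF A) 0).obj S.X₃ ⟶ J) (hc : IsFilteredQuasiIso c) :
    ∃ (M : CochainComplex (FilF A) ℤ) (α : I ⟶ M) (β : M ⟶ J)
      (b : (CochainComplex.singleFunctor (FilF A) 0).obj S.X₂ ⟶ M),
      (∀ n, ∃ (r : M.X n ⟶ I.X n) (s : J.X n ⟶ M.X n), α.f n ≫ r = 𝟙 _ ∧ s ≫ β.f n = 𝟙 _ ∧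
        α.f n ≫ β.f n = 0 ∧ r ≫ α.f n + β.f n ≫ s = 𝟙 _) ∧
      a ≫ α = (CochainComplex.singleFunctor (FilF A) 0).map S.f ≫ b ∧
      b ≫ β = (CochainComplex.singleFunctor (FilF A) 0).map S.g ≫ c := by
  haveI := S_mono_f S hS
  obtain ⟨β0, hβ⟩ := main6605 S.f (S_strict_f S hS) (hI 0) (deg0 a)
  have hJn : ∀ (p n : ℤ), n ≠ 0 → ((grCx p).obj J).ExactAt n :=
    fun p n hn => exactAt_of_fqi J c hc p n hn
  obtain ⟨t0, ht0, hQ0⟩ := theta_zero S hS I J hI (deg0 a) (deg0_d a _) (deg0 c) (deg0_d c _)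
    (fun p => (deg0_gr J c hc p).1) (fun p => (deg0_gr J c hc p).2) β0 hβ
  have hΘ := Th_rel I J hI hJn t0 hQ0
  have hΘ0 : (S.g ≫ deg0 c) ≫ Th I J t0 0 = -(β0 ≫ I.d 0 (0 + 1)) := by
    rw [Th_zero]
    exact ht0
  have hb0 : (Hb0 I J S β0 (deg0 c) : S.X₂ ⟶ (Hcx I J (Th I J t0) hΘ).X 0) ≫
      (Hcx I J (Th I J t0) hΘ).d 0 (0 + 1) = 0 := by
    rw [Hcx_d]
    exact Hb0_d I J _ S β0 (deg0 c) hΘ0 (deg0_d c _)
  refine ⟨Hcx I J (Th I J t0) hΘ, Hα I J _ hΘ, Hβ I J _ hΘ,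
    mkFromSingle (Hb0 I J S β0 (deg0 c) : S.X₂ ⟶ (Hcx I J (Th I J t0) hΘ).X 0) hb0, ?_, ?_, ?_⟩
  · intro n
    exact ⟨(biprod.fst : HX I J n ⟶ I.X n), (biprod.inr : J.X n ⟶ HX I J n),
      biprod.inl_fst, biprod.inr_snd, biprod.inl_snd, biprod.total⟩
  · exact final_eq1 a (Hα I J _ hΘ) S.f _ hb0 (Hb0_fac1 I J S β0 (deg0 c) (deg0 a) hβ)
  · exact final_eq2 c (Hβ I J _ hΘ) S.g _ hb0 (Hb0_fac2 I J S β0 (deg0 c))

end Main

end Groth.Agent.Lib.FilDH4
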