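import Mathlib
import Groth.Prelude.Def_FilD
import Groth.Agent.Lib.FilD9_helper4

set_option autoImplicit false
set_option linter.style.haveILetI false
set_option linter.unusedSectionVars false

universe v u v' u'

open CategoryTheory CategoryTheory.Limits Opposite FilD

namespace Groth.Agent.Lib.FilDH4.R82

/-! ## The abstract diagram chase: a map of complexes built from pushout steps is a quasi-iso -/

section Chase

variable {C : Type u'} [Category.{v'} C] [Abelian C]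

theorem quasiIso_of_PO {K I : CochainComplex C ℤ} (φ : K ⟶ I)
    (B : ℤ → C) (β : ∀ n, K.X n ⟶ B n) (j : ∀ n, B n ⟶ I.X n) (e : ∀ n, B n ⟶ K.X (n + 1))
    (u : ∀ n, I.X n ⟶ B (n + 1))
    (hφ : ∀ n, φ.f n = β n ≫ j n) (hd : ∀ n, I.d n (n + 1) = u n ≫ j (n + 1))
    (hβe : ∀ n, β n ≫ e n = K.d n (n + 1)) (hue : ∀ n, u n ≫ e (n + 1) = 0)
    (hj : ∀ n, Mono (j n))
    (hf : ∀ (n : ℤ) (T : C) (y : T ⟶ I.X n) (k : T ⟶ K.X (n + 1)),
      y ≫ u n + k ≫ β (n + 1) = 0 →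
      ∃ (T' : C) (π : T' ⟶ T) (_ : Epi π) (b : T' ⟶ B n),
        π ≫ y = b ≫ j n ∧ π ≫ k = -(b ≫ e n))
    (hg : ∀ (n : ℤ) (T : C) (b : T ⟶ B (n + 1)),
      ∃ (T' : C) (π : T' ⟶ T) (_ : Epi π) (y : T' ⟶ I.X n) (k : T' ⟶ K.X (n + 1)),
        π ≫ b = y ≫ u n + k ≫ β (n + 1)) :
    QuasiIso φ := by
  rw [quasiIso_iff]
  intro n
  obtain ⟨m, rfl⟩ : ∃ m : ℤ, n = m + 1 + 1 := ⟨n - 2, by omega⟩
  rw [quasiIsoAt_iff_isIso_homologyMap]
  haveI : Mono (HomologicalComplex.homologyMap φ (m + 1 + 1)) := by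
    rw [HomologicalComplex.mono_homologyMap_iff_up_to_refinements φ (m + 1) (m + 1 + 1)
      (m + 1 + 1 + 1) (by simp) (by simp)]
    intro T k _ y hky
    haveI := hj (m + 1 + 1)
    have h1 : (-y) ≫ u (m + 1) + k ≫ β (m + 1 + 1) = 0 := by
      rw [← cancel_mono (j (m + 1 + 1)), zero_comp, Preadditive.add_comp, Category.assoc,
        Category.assoc, ← hd, ← hφ, hky, Preadditive.neg_comp, neg_add_cancel]
    obtain ⟨T₁, π₁, hπ₁, b, _, hb2⟩ := hf (m + 1) T (-y) k h1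
    obtain ⟨T₂, π₂, hπ₂, y', k', hyk⟩ := hg m T₁ b
    haveI := hπ₁
    haveI := hπ₂
    refine ⟨T₂, π₂ ≫ π₁, epi_comp _ _, -k', ?_⟩
    rw [Category.assoc, hb2, Preadditive.comp_neg, ← Category.assoc, hyk, Preadditive.add_comp,
      Category.assoc, hue, comp_zero, zero_add, Category.assoc, hβe, Preadditive.neg_comp]
  haveI : Epi (HomologicalComplex.homologyMap φ (m + 1 + 1)) := by
    rw [HomologicalComplex.epi_homologyMap_iff_up_to_refinements φ (m + 1) (m + 1 + 1)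
      (m + 1 + 1 + 1) (by simp) (by simp)]
    intro T x hx
    haveI := hj (m + 1 + 1 + 1)
    have hxu : x ≫ u (m + 1 + 1) = 0 := by
      rw [← cancel_mono (j (m + 1 + 1 + 1)), Category.assoc, ← hd, hx, zero_comp]
    obtain ⟨T₁, π₁, hπ₁, b, hb1, hb2⟩ :=
      hf (m + 1 + 1) T x 0 (by rw [hxu, zero_comp, add_zero])
    have hbe : b ≫ e (m + 1 + 1) = 0 := by
      rw [comp_zero] at hb2
      exact neg_eq_zero.mp hb2.symm
    obtain ⟨T₂, π₂, hπ₂, y, k, hyk⟩ := hg (m + 1) T₁ b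
    have hkβ : k ≫ β (m + 1 + 1) = π₂ ≫ b - y ≫ u (m + 1) := by
      rw [hyk, add_sub_cancel_left]
    have hk : k ≫ K.d (m + 1 + 1) (m + 1 + 1 + 1) = 0 := by
      rw [← hβe, ← Category.assoc, hkβ, Preadditive.sub_comp, Category.assoc, hbe, comp_zero,
        Category.assoc, hue, comp_zero, sub_zero]
    haveI := hπ₁
    haveI := hπ₂
    refine ⟨T₂, π₂ ≫ π₁, epi_comp _ _, k, hk, y, ?_⟩
    rw [Category.assoc, hb1, ← Category.assoc, hyk, Preadditive.add_comp, Category.assoc,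
      Category.assoc, ← hd, ← hφ]
    exact add_comm _ _
  exact isIso_of_mono_of_epi _

end Chase

/-! ## Re-indexing of cochain complexes (translation without signs) -/

section Reidx

variable {D : Type u'} [Category.{v'} D] [HasZeroMorphisms D]

/-- The complex `n ↦ L.X (n - c)` with the same differentials (no sign). -/
def reidx (L : CochainComplex D ℤ) (c : ℤ) : CochainComplex D ℤ where
  X n := L.X (n - c)
  d i j := L.d (i - c) (j - c)
  shape i j h := L.shape _ _ (fun h' => h (by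
    have h'' : i - c + 1 = j - c := h'
    show i + 1 = j
    omega))
  d_comp_d' i j k _ _ := L.d_comp_d _ _ _

/-- Functoriality of `reidx`. -/
def reidxMap {L M : CochainComplex D ℤ} (ψ : L ⟶ M) (c : ℤ) : reidx L c ⟶ reidx M c where
  f n := ψ.f (n - c)
  comm' i j _ := ψ.comm _ _

end Reidx

variable {A : Type u} [Category.{v} A] [Abelian A]

/-! ## More strictness lemmas -/

section StrictMore

lemma strict_id (X : FilF A) : IsStrict (𝟙 X) :=
  strict_of_section (𝟙 X) (𝟙 X) (Category.id_comp _)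

lemma strict_comp {X Y Z : FilF A} (f : X ⟶ Y) (g : Y ⟶ Z) (hf : IsStrict f) (hg : IsStrict g)
    (hgm : ∀ p : ℤ, Mono (g.hom.app (op p))) : IsStrict (f ≫ g) := by
  refine isStrict_of_lifting2 _ ?_
  intro p r hpr T a z haz
  have haz' : (a ≫ f.hom.app (op p)) ≫ g.hom.app (op p) = z ≫ trF Z hpr := by
    rw [Category.assoc]
    exact haz
  obtain ⟨T₁, π₁, hπ₁, y', e₁⟩ := strict_lifting g hg hpr _ z haz'
  haveI := hgm p
  have h2 : (π₁ ≫ a) ≫ f.hom.app (op p) = y' ≫ trF Y hpr := by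
    apply (cancel_mono (g.hom.app (op p))).1
    calc ((π₁ ≫ a) ≫ f.hom.app (op p)) ≫ g.hom.app (op p)
        = π₁ ≫ (a ≫ f.hom.app (op p)) ≫ g.hom.app (op p) := by simp only [Category.assoc]
      _ = π₁ ≫ z ≫ trF Z hpr := by rw [haz']
      _ = (y' ≫ g.hom.app (op r)) ≫ trF Z hpr := by rw [← Category.assoc, e₁]
      _ = y' ≫ trF Y hpr ≫ g.hom.app (op p) := by rw [Category.assoc, nat_trF g hpr]
      _ = (y' ≫ trF Y hpr) ≫ g.hom.app (op p) := (Category.assoc _ _ _).symm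
  obtain ⟨T₂, π₂, hπ₂, x', e₂⟩ := strict_lifting f hf hpr _ y' h2
  haveI := hπ₁
  haveI := hπ₂
  refine ⟨T₂, π₂ ≫ π₁, epi_comp _ _, x', ?_⟩
  show (π₂ ≫ π₁) ≫ z = x' ≫ f.hom.app (op r) ≫ g.hom.app (op r)
  rw [Category.assoc, e₁, ← Category.assoc, e₂, Category.assoc]

lemma strict_of_comp {X Y Z : FilF A} (ψ : X ⟶ Y) (q : Y ⟶ Z) (h : IsStrict (ψ ≫ q))
    (hm : ∀ p : ℤ, Mono ((ψ ≫ q).hom.app (op p))) : IsStrict ψ := by
  refine isStrict_of_lifting2 _ ?_
  intro p r hpr T a z haz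
  have hc : ∀ c : ℤᵒᵖ, (ψ ≫ q).hom.app c = ψ.hom.app c ≫ q.hom.app c := fun _ => rfl
  have h1 : a ≫ (ψ ≫ q).hom.app (op p) = (z ≫ q.hom.app (op r)) ≫ trF Z hpr := by
    calc a ≫ (ψ ≫ q).hom.app (op p)
        = (a ≫ ψ.hom.app (op p)) ≫ q.hom.app (op p) := by rw [hc, Category.assoc]
      _ = (z ≫ trF Y hpr) ≫ q.hom.app (op p) := by rw [haz]
      _ = z ≫ q.hom.app (op r) ≫ trF Z hpr := by rw [Category.assoc, nat_trF q hpr]
      _ = (z ≫ q.hom.app (op r)) ≫ trF Z hpr := (Category.assoc _ _ _).symm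
  obtain ⟨T', π, hπ, x', e⟩ := strict_lifting (ψ ≫ q) h hpr a (z ≫ q.hom.app (op r)) h1
  refine ⟨T', π, hπ, x', ?_⟩
  haveI := mono_trF Y hpr
  haveI := hm p
  have h2 : x' ≫ trF X hpr = π ≫ a := by
    apply (cancel_mono ((ψ ≫ q).hom.app (op p))).1
    calc (x' ≫ trF X hpr) ≫ (ψ ≫ q).hom.app (op p)
        = x' ≫ (ψ ≫ q).hom.app (op r) ≫ trF Z hpr := by
          rw [Category.assoc, nat_trF (ψ ≫ q) hpr]
      _ = (x' ≫ (ψ ≫ q).hom.app (op r)) ≫ trF Z hpr := (Category.assoc _ _ _).symm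
      _ = (π ≫ z ≫ q.hom.app (op r)) ≫ trF Z hpr := by rw [← e]
      _ = π ≫ (z ≫ q.hom.app (op r)) ≫ trF Z hpr := Category.assoc _ _ _
      _ = π ≫ a ≫ (ψ ≫ q).hom.app (op p) := by rw [← h1]
      _ = (π ≫ a) ≫ (ψ ≫ q).hom.app (op p) := (Category.assoc _ _ _).symm
  apply (cancel_mono (trF Y hpr)).1
  calc (π ≫ z) ≫ trF Y hpr = π ≫ a ≫ ψ.hom.app (op p) := by rw [Category.assoc, ← haz]
    _ = (π ≫ a) ≫ ψ.hom.app (op p) := (Category.assoc _ _ _).symm
    _ = (x' ≫ trF X hpr) ≫ ψ.hom.app (op p) := by rw [h2]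
    _ = x' ≫ ψ.hom.app (op r) ≫ trF Y hpr := by rw [Category.assoc, nat_trF ψ hpr]
    _ = (x' ≫ ψ.hom.app (op r)) ≫ trF Y hpr := (Category.assoc _ _ _).symm

end StrictMore

/-! ## Pushout of a strict monomorphism: the other leg is a strict monomorphism -/

section PO

variable {B I K' P : FilF A} (j : B ⟶ I) (ψ : B ⟶ P) (hψs : IsStrict ψ)
  (fst : P ⟶ I) (snd : P ⟶ K') (inl : I ⟶ P) (inr : K' ⟶ P)

lemma po_mono (hjm : ∀ p : ℤ, Mono (j.hom.app (op p))) (hψ : ψ ≫ fst = j)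
    (h1 : inr ≫ fst = 0) (h2 : inr ≫ snd = 𝟙 K') (p : ℤ) :
    Mono ((inr ≫ cokπ ψ hψs).hom.app (op p)) := by
  have e1 : ψ.hom.app (op p) ≫ fst.hom.app (op p) = j.hom.app (op p) :=
    congrArg (fun m => m.hom.app (op p)) hψ
  have e2 : inr.hom.app (op p) ≫ fst.hom.app (op p) = 0 :=
    congrArg (fun m => m.hom.app (op p)) h1
  have e3 : inr.hom.app (op p) ≫ snd.hom.app (op p) = 𝟙 _ :=
    congrArg (fun m => m.hom.app (op p)) h2
  show Mono (inr.hom.app (op p) ≫ (cokπ ψ hψs).hom.app (op p))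
  apply Preadditive.mono_of_cancel_zero
  intro T x hx
  obtain ⟨T₁, π₁, hπ₁, b, hb⟩ := (cok_level_exact ψ (op p)).exact_up_to_refinements
    (x ≫ inr.hom.app (op p)) (by
      rw [Category.assoc]
      exact hx)
  have hb' : π₁ ≫ x ≫ inr.hom.app (op p) = b ≫ ψ.hom.app (op p) := hb
  haveI := hπ₁
  haveI := hjm p
  have hb0 : b = 0 := by
    apply (cancel_mono (j.hom.app (op p))).1
    rw [zero_comp, ← e1, ← Category.assoc, ← hb', Category.assoc, Category.assoc, e2, comp_zero,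
      comp_zero]
  have h3 : π₁ ≫ x = 0 := by
    calc π₁ ≫ x = (π₁ ≫ x ≫ inr.hom.app (op p)) ≫ snd.hom.app (op p) := by
          rw [Category.assoc, Category.assoc, e3, Category.comp_id]
      _ = 0 := by rw [hb', hb0, zero_comp, zero_comp]
  exact (cancel_epi π₁).1 (h3.trans comp_zero.symm)

lemma po_strict (hj : IsStrict j) (hψ : ψ ≫ fst = j)
    (h1 : inr ≫ fst = 0) (htot : fst ≫ inl + snd ≫ inr = 𝟙 P) :
    IsStrict (inr ≫ cokπ ψ hψs) := by
  refine isStrict_of_lifting2 _ ?_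
  intro p q hpq T a z haz
  have e1p : ψ.hom.app (op p) ≫ fst.hom.app (op p) = j.hom.app (op p) :=
    congrArg (fun m => m.hom.app (op p)) hψ
  have e1q : ψ.hom.app (op q) ≫ fst.hom.app (op q) = j.hom.app (op q) :=
    congrArg (fun m => m.hom.app (op q)) hψ
  have e2p : inr.hom.app (op p) ≫ fst.hom.app (op p) = 0 :=
    congrArg (fun m => m.hom.app (op p)) h1
  have ht : fst.hom.app (op q) ≫ inl.hom.app (op q) +
      snd.hom.app (op q) ≫ inr.hom.app (op q) = 𝟙 _ :=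
    congrArg (fun m => m.hom.app (op q)) htot
  have haz' : a ≫ inr.hom.app (op p) ≫ (cokπ ψ hψs).hom.app (op p) =
      z ≫ trF (cokFil ψ hψs) hpq := haz
  haveI := cokπ_hom_app_epi ψ hψs (op q)
  obtain ⟨T₁, π₁, hπ₁, w, hw⟩ :=
    surjective_up_to_refinements_of_epi ((cokπ ψ hψs).hom.app (op q)) z
  have hv : (w ≫ trF P hpq - π₁ ≫ a ≫ inr.hom.app (op p)) ≫
      (cokπ ψ hψs).hom.app (op p) = 0 := by
    rw [Preadditive.sub_comp, sub_eq_zero]
    calc (w ≫ trF P hpq) ≫ (cokπ ψ hψs).hom.app (op p)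
        = w ≫ (cokπ ψ hψs).hom.app (op q) ≫ trF (cokFil ψ hψs) hpq := by
          rw [Category.assoc, nat_trF (cokπ ψ hψs) hpq]
      _ = (w ≫ (cokπ ψ hψs).hom.app (op q)) ≫ trF (cokFil ψ hψs) hpq :=
          (Category.assoc _ _ _).symm
      _ = (π₁ ≫ z) ≫ trF (cokFil ψ hψs) hpq := by rw [hw]
      _ = π₁ ≫ a ≫ inr.hom.app (op p) ≫ (cokπ ψ hψs).hom.app (op p) := by
          rw [Category.assoc, ← haz']
      _ = (π₁ ≫ a ≫ inr.hom.app (op p)) ≫ (cokπ ψ hψs).hom.app (op p) := by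
          simp only [Category.assoc]
  obtain ⟨T₂, π₂, hπ₂, b, hb⟩ := (cok_level_exact ψ (op p)).exact_up_to_refinements _ hv
  have hb' : π₂ ≫ (w ≫ trF P hpq - π₁ ≫ a ≫ inr.hom.app (op p)) = b ≫ ψ.hom.app (op p) := hb
  have hb1 : b ≫ j.hom.app (op p) = (π₂ ≫ w ≫ fst.hom.app (op q)) ≫ trF I hpq := by
    calc b ≫ j.hom.app (op p) = (b ≫ ψ.hom.app (op p)) ≫ fst.hom.app (op p) := by
          rw [Category.assoc, e1p]
      _ = (π₂ ≫ (w ≫ trF P hpq - π₁ ≫ a ≫ inr.hom.app (op p))) ≫ fst.hom.app (op p) := by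
          rw [hb']
      _ = π₂ ≫ w ≫ trF P hpq ≫ fst.hom.app (op p) := by
          simp only [Category.assoc, Preadditive.sub_comp, Preadditive.comp_sub, e2p, comp_zero,
            sub_zero]
      _ = (π₂ ≫ w ≫ fst.hom.app (op q)) ≫ trF I hpq := by
          rw [nat_trF fst hpq]
          simp only [Category.assoc]
  obtain ⟨T₃, π₃, hπ₃, b', hb'q⟩ :=
    strict_lifting j hj hpq b (π₂ ≫ w ≫ fst.hom.app (op q)) hb1
  have hw'1 : (π₃ ≫ π₂ ≫ w - b' ≫ ψ.hom.app (op q)) ≫ fst.hom.app (op q) = 0 := by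
    rw [Preadditive.sub_comp, sub_eq_zero, Category.assoc, Category.assoc, Category.assoc, e1q]
    exact hb'q
  have hw'2 : (π₃ ≫ π₂ ≫ w - b' ≫ ψ.hom.app (op q)) =
      ((π₃ ≫ π₂ ≫ w - b' ≫ ψ.hom.app (op q)) ≫ snd.hom.app (op q)) ≫ inr.hom.app (op q) := by
    calc (π₃ ≫ π₂ ≫ w - b' ≫ ψ.hom.app (op q))
        = (π₃ ≫ π₂ ≫ w - b' ≫ ψ.hom.app (op q)) ≫ 𝟙 _ := (Category.comp_id _).symm
      _ = (π₃ ≫ π₂ ≫ w - b' ≫ ψ.hom.app (op q)) ≫
            (fst.hom.app (op q) ≫ inl.hom.app (op q) +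
              snd.hom.app (op q) ≫ inr.hom.app (op q)) := by rw [ht]
      _ = _ := by
          rw [Preadditive.comp_add, ← Category.assoc, hw'1, zero_comp, zero_add, Category.assoc]
  haveI := hπ₁
  haveI := hπ₂
  haveI := hπ₃
  have hz0 : ψ.hom.app (op q) ≫ (cokπ ψ hψs).hom.app (op q) = 0 := cok_app_zero ψ (op q)
  refine ⟨T₃, π₃ ≫ π₂ ≫ π₁, inferInstance,
    (π₃ ≫ π₂ ≫ w - b' ≫ ψ.hom.app (op q)) ≫ snd.hom.app (op q), ?_⟩
  show (π₃ ≫ π₂ ≫ π₁) ≫ z =
    ((π₃ ≫ π₂ ≫ w - b' ≫ ψ.hom.app (op q)) ≫ snd.hom.app (op q)) ≫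
      inr.hom.app (op q) ≫ (cokπ ψ hψs).hom.app (op q)
  calc (π₃ ≫ π₂ ≫ π₁) ≫ z = π₃ ≫ π₂ ≫ w ≫ (cokπ ψ hψs).hom.app (op q) := by
        rw [← hw]
        simp only [Category.assoc]
    _ = (π₃ ≫ π₂ ≫ w - b' ≫ ψ.hom.app (op q)) ≫ (cokπ ψ hψs).hom.app (op q) := by
        rw [Preadditive.sub_comp, Category.assoc b', hz0, comp_zero, sub_zero]
        simp only [Category.assoc]
    _ = (((π₃ ≫ π₂ ≫ w - b' ≫ ψ.hom.app (op q)) ≫ snd.hom.app (op q)) ≫
          inr.hom.app (op q)) ≫ (cokπ ψ hψs).hom.app (op q) := by rw [← hw'2]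
    _ = _ := Category.assoc _ _ _

end PO

/-! ## Stages of the construction -/

section Stages

open ZeroObject

variable [EnoughInjectives A] (K : CochainComplex (FilF A) ℤ)

/-- A stage of the construction at index `n`: an object `B` with a strict mono `K.X n ⟶ B` and a map
`B ⟶ K.X (n+1)` factoring the differential. -/
structure Stage (n : ℤ) where
  B : FilF A
  β : K.X n ⟶ B
  e : B ⟶ K.X (n + 1)
  βe : β ≫ e = K.d n (n + 1)
  ed : e ≫ K.d (n + 1) (n + 1 + 1) = 0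
  βs : IsStrict β
  βm : ∀ p : ℤ, Mono (β.hom.app (op p))

namespace Stage

variable {K} {n : ℤ} (s : Stage K n)

noncomputable abbrev P : FilF A := Iof s.B ⊞ K.X (n + 1)

noncomputable def ψ : s.B ⟶ s.P := biprod.lift (jof s.B) (-s.e)

lemma ψ_fst : s.ψ ≫ (biprod.fst : s.P ⟶ Iof s.B) = jof s.B := by
  unfold ψ
  exact biprod.lift_fst _ _

lemma ψ_snd : s.ψ ≫ (biprod.snd : s.P ⟶ K.X (n + 1)) = -s.e := by
  unfold ψ
  exact biprod.lift_snd _ _

lemma ψ_strict : IsStrict s.ψ :=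
  strict_of_comp s.ψ (biprod.fst : s.P ⟶ Iof s.B)
    (by
      rw [s.ψ_fst]
      exact jof_strict _)
    (by
      rw [s.ψ_fst]
      exact fun p => mono_app_of_mono (jof s.B) p)

lemma ψ_mono (p : ℤ) : Mono (s.ψ.hom.app (op p)) := by
  have e : s.ψ.hom.app (op p) ≫ (biprod.fst : s.P ⟶ Iof s.B).hom.app (op p) =
      (jof s.B).hom.app (op p) := congrArg (fun m => m.hom.app (op p)) s.ψ_fst
  haveI : Mono (s.ψ.hom.app (op p) ≫ (biprod.fst : s.P ⟶ Iof s.B).hom.app (op p)) := by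
    rw [e]
    exact mono_app_of_mono (jof s.B) p
  exact mono_of_mono (s.ψ.hom.app (op p)) ((biprod.fst : s.P ⟶ Iof s.B).hom.app (op p))

noncomputable abbrev B' : FilF A := cokFil s.ψ s.ψ_strict

noncomputable abbrev π : s.P ⟶ s.B' := cokπ s.ψ s.ψ_strict

noncomputable def u : Iof s.B ⟶ s.B' := biprod.inl ≫ s.π

noncomputable def β' : K.X (n + 1) ⟶ s.B' := biprod.inr ≫ s.π

lemma e'_cond : s.ψ ≫ (biprod.snd : s.P ⟶ K.X (n + 1)) ≫ K.d (n + 1) (n + 1 + 1) = 0 := by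
  rw [← Category.assoc, s.ψ_snd, Preadditive.neg_comp, s.ed, neg_zero]

noncomputable def e' : s.B' ⟶ K.X (n + 1 + 1) :=
  cokDesc s.ψ s.ψ_strict ((biprod.snd : s.P ⟶ K.X (n + 1)) ≫ K.d (n + 1) (n + 1 + 1)) s.e'_cond

lemma π_e' : s.π ≫ s.e' = (biprod.snd : s.P ⟶ K.X (n + 1)) ≫ K.d (n + 1) (n + 1 + 1) := by
  unfold e'
  exact cokπ_desc _ _ _ _

lemma β'_e' : s.β' ≫ s.e' = K.d (n + 1) (n + 1 + 1) := by
  unfold β'
  rw [Category.assoc, s.π_e', biprod.inr_snd_assoc]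

lemma u_e' : s.u ≫ s.e' = 0 := by
  unfold u
  rw [Category.assoc, s.π_e', biprod.inl_snd_assoc, zero_comp]

lemma e'_d : s.e' ≫ K.d (n + 1 + 1) (n + 1 + 1 + 1) = 0 := by
  rw [← cancel_epi s.π, ← Category.assoc, s.π_e', Category.assoc, K.d_comp_d, comp_zero,
    comp_zero]

lemma sq : jof s.B ≫ s.u = s.e ≫ s.β' := by
  have h : s.ψ ≫ s.π = 0 := comp_cokπ _ _
  have h' : s.ψ = jof s.B ≫ biprod.inl + (-s.e) ≫ biprod.inr := by
    unfold ψ
    exact biprod.lift_eq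
  have h2 : (jof s.B ≫ (biprod.inl : Iof s.B ⟶ s.P) + (-s.e) ≫ biprod.inr) ≫ s.π = 0 := by
    rw [← h']
    exact h
  rw [Preadditive.add_comp, Category.assoc, Category.assoc, Preadditive.neg_comp,
    ← sub_eq_add_neg, sub_eq_zero] at h2
  exact h2

lemma β'_mono (p : ℤ) : Mono (s.β'.hom.app (op p)) :=
  po_mono (jof s.B) s.ψ s.ψ_strict biprod.fst biprod.snd biprod.inr
    (fun p => mono_app_of_mono (jof s.B) p) s.ψ_fst biprod.inr_fst biprod.inr_snd p

lemma β'_strict : IsStrict s.β' :=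
  po_strict (jof s.B) s.ψ s.ψ_strict biprod.fst biprod.snd biprod.inl biprod.inr
    (jof_strict _) s.ψ_fst biprod.inr_fst biprod.total

/-- The next stage. -/
noncomputable def next : Stage K (n + 1) where
  B := s.B'
  β := s.β'
  e := s.e'
  βe := s.β'_e'
  ed := s.e'_d
  βs := s.β'_strict
  βm := s.β'_mono

lemma gr_β_mono (p : ℤ) : Mono ((grF A p).map s.β) :=
  (gr_shortExact_of_strictMono s.β s.βs s.βm p).mono_f

lemma gr_tot (p : ℤ) :
    (grF A p).map (biprod.fst : s.P ⟶ Iof s.B) ≫ (grF A p).map biprod.inl +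
      (grF A p).map (biprod.snd : s.P ⟶ K.X (n + 1)) ≫ (grF A p).map biprod.inr = 𝟙 _ := by
  rw [← Functor.map_comp, ← Functor.map_comp, ← Functor.map_add, biprod.total, CategoryTheory.Functor.map_id]

lemma gr_u (p : ℤ) : (grF A p).map s.u =
    (grF A p).map (biprod.inl : Iof s.B ⟶ s.P) ≫ (grF A p).map s.π := by
  unfold u
  exact Functor.map_comp _ _ _

lemma gr_β' (p : ℤ) : (grF A p).map s.β' =
    (grF A p).map (biprod.inr : K.X (n + 1) ⟶ s.P) ≫ (grF A p).map s.π := by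
  unfold β'
  exact Functor.map_comp _ _ _

lemma gr_hg (p : ℤ) {T : A} (b : T ⟶ (grF A p).obj s.B') :
    ∃ (T' : A) (π : T' ⟶ T) (_ : Epi π) (y : T' ⟶ (grF A p).obj (Iof s.B))
      (k : T' ⟶ (grF A p).obj (K.X (n + 1))),
      π ≫ b = y ≫ (grF A p).map s.u + k ≫ (grF A p).map s.β' := by
  have hSE := gr_shortExact_of_strictMono s.ψ s.ψ_strict s.ψ_mono p
  haveI : Epi ((grF A p).map s.π) := hSE.epi_g
  obtain ⟨T₁, π₁, hπ₁, w, hw⟩ := surjective_up_to_refinements_of_epi ((grF A p).map s.π) b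
  refine ⟨T₁, π₁, hπ₁, w ≫ (grF A p).map (biprod.fst : s.P ⟶ Iof s.B),
    w ≫ (grF A p).map (biprod.snd : s.P ⟶ K.X (n + 1)), ?_⟩
  rw [hw, s.gr_u p, s.gr_β' p]
  calc w ≫ (grF A p).map s.π = (w ≫ 𝟙 _) ≫ (grF A p).map s.π := by rw [Category.comp_id]
    _ = (w ≫ ((grF A p).map (biprod.fst : s.P ⟶ Iof s.B) ≫ (grF A p).map biprod.inl +
          (grF A p).map (biprod.snd : s.P ⟶ K.X (n + 1)) ≫ (grF A p).map biprod.inr)) ≫
          (grF A p).map s.π := by rw [s.gr_tot p]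
    _ = _ := by
        rw [Preadditive.comp_add, Preadditive.add_comp]
        simp only [Category.assoc]

lemma gr_hf (p : ℤ) {T : A} (y : T ⟶ (grF A p).obj (Iof s.B))
    (k : T ⟶ (grF A p).obj (K.X (n + 1)))
    (h : y ≫ (grF A p).map s.u + k ≫ (grF A p).map s.β' = 0) :
    ∃ (T' : A) (π : T' ⟶ T) (_ : Epi π) (b : T' ⟶ (grF A p).obj s.B),
      π ≫ y = b ≫ (grF A p).map (jof s.B) ∧ π ≫ k = -(b ≫ (grF A p).map s.e) := by
  have hSE := gr_shortExact_of_strictMono s.ψ s.ψ_strict s.ψ_mono p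
  have hw : (y ≫ (grF A p).map (biprod.inl : Iof s.B ⟶ s.P) +
      k ≫ (grF A p).map (biprod.inr : K.X (n + 1) ⟶ s.P)) ≫ (grF A p).map s.π = 0 := by
    rw [Preadditive.add_comp, Category.assoc, Category.assoc, ← s.gr_u p, ← s.gr_β' p]
    exact h
  obtain ⟨T₁, π₁, hπ₁, b, hb⟩ := hSE.exact.exact_up_to_refinements _ hw
  have hb' : π₁ ≫ (y ≫ (grF A p).map (biprod.inl : Iof s.B ⟶ s.P) +
      k ≫ (grF A p).map (biprod.inr : K.X (n + 1) ⟶ s.P)) = b ≫ (grF A p).map s.ψ := hb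
  refine ⟨T₁, π₁, hπ₁, b, ?_, ?_⟩
  · calc π₁ ≫ y = π₁ ≫ (y ≫ (grF A p).map (biprod.inl : Iof s.B ⟶ s.P) +
          k ≫ (grF A p).map (biprod.inr : K.X (n + 1) ⟶ s.P)) ≫
            (grF A p).map (biprod.fst : s.P ⟶ Iof s.B) := by
          rw [Preadditive.add_comp, Category.assoc, Category.assoc, ← Functor.map_comp,
            ← Functor.map_comp, biprod.inl_fst, biprod.inr_fst, CategoryTheory.Functor.map_id, Functor.map_zero,
            comp_zero, add_zero, Category.comp_id]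
      _ = (b ≫ (grF A p).map s.ψ) ≫ (grF A p).map (biprod.fst : s.P ⟶ Iof s.B) := by
          rw [← Category.assoc, hb']
      _ = b ≫ (grF A p).map (jof s.B) := by
          rw [Category.assoc, ← Functor.map_comp, s.ψ_fst]
  · calc π₁ ≫ k = π₁ ≫ (y ≫ (grF A p).map (biprod.inl : Iof s.B ⟶ s.P) +
          k ≫ (grF A p).map (biprod.inr : K.X (n + 1) ⟶ s.P)) ≫
            (grF A p).map (biprod.snd : s.P ⟶ K.X (n + 1)) := by
          rw [Preadditive.add_comp, Category.assoc, Category.assoc, ← Functor.map_comp,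
            ← Functor.map_comp, biprod.inl_snd, biprod.inr_snd, CategoryTheory.Functor.map_id, Functor.map_zero,
            comp_zero, zero_add, Category.comp_id]
      _ = (b ≫ (grF A p).map s.ψ) ≫ (grF A p).map (biprod.snd : s.P ⟶ K.X (n + 1)) := by
          rw [← Category.assoc, hb']
      _ = -(b ≫ (grF A p).map s.e) := by
          rw [Category.assoc, ← Functor.map_comp, s.ψ_snd, Functor.map_neg, Preadditive.comp_neg]

end Stage

/-- The initial stage. -/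
noncomputable def Stage.init : Stage K (Int.ofNat 0) where
  B := K.X (Int.ofNat 0)
  β := 𝟙 _
  e := K.d (Int.ofNat 0) (Int.ofNat 0 + 1)
  βe := Category.id_comp _
  ed := K.d_comp_d _ _ _
  βs := strict_id _
  βm := fun p => by
    show Mono (𝟙 _)
    infer_instance

/-- All the stages. -/
noncomputable def stg : ∀ k : ℕ, Stage K (Int.ofNat k)
  | 0 => Stage.init K
  | (k + 1) => (stg k).next

noncomputable def BZ : ℤ → FilF A
  | Int.ofNat k => (stg K k).B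
  | Int.negSucc _ => 0

noncomputable def IZ : ℤ → FilF A
  | Int.ofNat k => Iof (stg K k).B
  | Int.negSucc _ => 0

noncomputable def βZ : ∀ n : ℤ, K.X n ⟶ BZ K n
  | Int.ofNat k => (stg K k).β
  | Int.negSucc _ => 0

noncomputable def jZ : ∀ n : ℤ, BZ K n ⟶ IZ K n
  | Int.ofNat k => jof (stg K k).B
  | Int.negSucc _ => 0

noncomputable def eZ : ∀ n : ℤ, BZ K n ⟶ K.X (n + 1)
  | Int.ofNat k => (stg K k).e
  | Int.negSucc _ => 0

noncomputable def uZ : ∀ n : ℤ, IZ K n ⟶ BZ K (n + 1)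
  | Int.ofNat k => (stg K k).u
  | Int.negSucc _ => 0

lemma sqZ : ∀ n : ℤ, jZ K n ≫ uZ K n = eZ K n ≫ βZ K (n + 1)
  | Int.ofNat k => (stg K k).sq
  | Int.negSucc _ => (isZero_zero _).eq_of_src _ _

lemma ueZ : ∀ n : ℤ, uZ K n ≫ eZ K (n + 1) = 0
  | Int.ofNat k => (stg K k).u_e'
  | Int.negSucc _ => (isZero_zero _).eq_of_src _ _

noncomputable def dIZ (n : ℤ) : IZ K n ⟶ IZ K (n + 1) := uZ K n ≫ jZ K (n + 1)

lemma dIZ_sq (n : ℤ) : dIZ K n ≫ dIZ K (n + 1) = 0 := by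
  unfold dIZ
  rw [Category.assoc, ← Category.assoc (jZ K (n + 1)), sqZ, Category.assoc,
    ← Category.assoc (uZ K n), ueZ, zero_comp]

/-- The resolving complex. -/
noncomputable def Jcx : CochainComplex (FilF A) ℤ :=
  CochainComplex.of (IZ K) (dIZ K) (dIZ_sq K)

lemma Jcx_d (n : ℤ) : (Jcx K).d n (n + 1) = dIZ K n := CochainComplex.of_d _ _ n

instance : (Jcx K).IsStrictlyGE 0 := by
  rw [CochainComplex.isStrictlyGE_iff]
  intro i hi
  obtain ⟨m, rfl⟩ := Int.eq_negSucc_of_lt_zero hi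
  exact isZero_zero _

lemma Jcx_inj : ∀ n : ℤ, IsFilteredInjective ((Jcx K).X n)
  | Int.ofNat k => Iof_inj (stg K k).B
  | Int.negSucc _ => isFilteredInjective_zero

lemma gr_jZ_mono (p : ℤ) : ∀ n : ℤ, Mono ((grF A p).map (jZ K n))
  | Int.ofNat k => (grF_shortExact (stg K k).B p).mono_f
  | Int.negSucc _ => IsZero.mono ((grF A p).map_isZero (isZero_zero _)) _

lemma gr_βZ_epi (p : ℤ) : ∀ m : ℤ, m ≤ 0 → Epi ((grF A p).map (βZ K m))
  | Int.ofNat 0, _ => by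
      show Epi ((grF A p).map (𝟙 (K.X (Int.ofNat 0))))
      rw [CategoryTheory.Functor.map_id]
      infer_instance
  | Int.ofNat (k + 1), h => by
      exfalso
      have h' : ((k + 1 : ℕ) : ℤ) ≤ 0 := h
      omega
  | Int.negSucc _, _ => IsZero.epi ((grF A p).map_isZero (isZero_zero _)) _

section GE

variable [K.IsStrictlyGE 0]

lemma isZero_K_neg (m : ℕ) : IsZero (K.X (Int.negSucc m)) :=
  K.isZero_of_isStrictlyGE 0 _ (Int.negSucc_lt_zero m)

lemma βeZ : ∀ n : ℤ, βZ K n ≫ eZ K n = K.d n (n + 1)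
  | Int.ofNat k => (stg K k).βe
  | Int.negSucc m => (isZero_K_neg K m).eq_of_src _ _

/-- The resolution map. -/
noncomputable def Φ : K ⟶ Jcx K where
  f n := βZ K n ≫ jZ K n
  comm' := by
    intro i j hij
    obtain rfl : i + 1 = j := hij
    have key : (βZ K i ≫ jZ K i) ≫ uZ K i ≫ jZ K (i + 1) =
        K.d i (i + 1) ≫ βZ K (i + 1) ≫ jZ K (i + 1) := by
      rw [Category.assoc, ← Category.assoc (jZ K i), sqZ, Category.assoc,
        ← Category.assoc (βZ K i), βeZ]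
    rw [Jcx_d]
    exact key

lemma Φ_mono : ∀ n : ℤ, Mono ((Φ K).f n)
  | Int.ofNat k => by
      haveI : Mono (stg K k).β := mono_of_app_mono _ (stg K k).βm
      show Mono ((stg K k).β ≫ jof (stg K k).B)
      infer_instance
  | Int.negSucc m => IsZero.mono (isZero_K_neg K m) _

lemma Φ_strict : ∀ n : ℤ, IsStrict ((Φ K).f n)
  | Int.ofNat k =>
      strict_comp (stg K k).β (jof (stg K k).B) (stg K k).βs (jof_strict _)
        (fun p => mono_app_of_mono (jof (stg K k).B) p)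
  | Int.negSucc m => by
      have h0 : (Φ K).f (Int.negSucc m) = 0 := (isZero_K_neg K m).eq_of_src _ _
      rw [h0]
      exact strict_zero

lemma gr_βZ_mono (p : ℤ) : ∀ m : ℤ, Mono ((grF A p).map (βZ K m))
  | Int.ofNat k => (stg K k).gr_β_mono p
  | Int.negSucc m => IsZero.mono ((grF A p).map_isZero (isZero_K_neg K m)) _

lemma gr_hfZ (p : ℤ) : ∀ (n : ℤ) (T : A) (y : T ⟶ (grF A p).obj (IZ K n))
    (k : T ⟶ (grF A p).obj (K.X (n + 1))),
    y ≫ (grF A p).map (uZ K n) + k ≫ (grF A p).map (βZ K (n + 1)) = 0 →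
    ∃ (T' : A) (π : T' ⟶ T) (_ : Epi π) (b : T' ⟶ (grF A p).obj (BZ K n)),
      π ≫ y = b ≫ (grF A p).map (jZ K n) ∧ π ≫ k = -(b ≫ (grF A p).map (eZ K n))
  | Int.ofNat i, _, y, k, h => (stg K i).gr_hf p y k h
  | Int.negSucc m, T, y, k, h => by
      have hz : IsZero ((grF A p).obj (IZ K (Int.negSucc m))) :=
        (grF A p).map_isZero (isZero_zero _)
      have hy : y = 0 := hz.eq_of_tgt _ _
      haveI := gr_βZ_mono K p (Int.negSucc m + 1)
      have hk : k = 0 := by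
        rw [hy, zero_comp, zero_add] at h
        rw [← cancel_mono ((grF A p).map (βZ K (Int.negSucc m + 1))), h, zero_comp]
      refine ⟨T, 𝟙 T, inferInstance, 0, ?_, ?_⟩
      · rw [hy, comp_zero, zero_comp]
      · rw [hk, comp_zero, zero_comp, neg_zero]

lemma gr_hgZ (p : ℤ) : ∀ (n : ℤ) (T : A) (b : T ⟶ (grF A p).obj (BZ K (n + 1))),
    ∃ (T' : A) (π : T' ⟶ T) (_ : Epi π) (y : T' ⟶ (grF A p).obj (IZ K n))
      (k : T' ⟶ (grF A p).obj (K.X (n + 1))),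
      π ≫ b = y ≫ (grF A p).map (uZ K n) + k ≫ (grF A p).map (βZ K (n + 1))
  | Int.ofNat i, _, b => (stg K i).gr_hg p b
  | Int.negSucc m, T, b => by
      haveI : Epi ((grF A p).map (βZ K (Int.negSucc m + 1))) :=
        gr_βZ_epi K p _ (by
          have := Int.negSucc_lt_zero m
          omega)
      obtain ⟨T₁, π₁, hπ₁, k, hk⟩ :=
        surjective_up_to_refinements_of_epi ((grF A p).map (βZ K (Int.negSucc m + 1))) b
      exact ⟨T₁, π₁, hπ₁, 0, k, by rw [hk, zero_comp, zero_add]⟩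

theorem core_qi (p : ℤ) : QuasiIso ((grCx p).map (Φ K)) := by
  refine quasiIso_of_PO ((grCx p).map (Φ K)) (fun n => (grF A p).obj (BZ K n))
    (fun n => (grF A p).map (βZ K n)) (fun n => (grF A p).map (jZ K n))
    (fun n => (grF A p).map (eZ K n)) (fun n => (grF A p).map (uZ K n))
    ?_ ?_ ?_ ?_ (gr_jZ_mono K p) (gr_hfZ K p) (gr_hgZ K p)
  · intro n
    exact (grF A p).map_comp (βZ K n) (jZ K n)
  · intro n
    show (grF A p).map ((Jcx K).d n (n + 1)) = _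
    rw [Jcx_d]
    exact (grF A p).map_comp (uZ K n) (jZ K (n + 1))
  · intro n
    show (grF A p).map (βZ K n) ≫ (grF A p).map (eZ K n) = (grF A p).map (K.d n (n + 1))
    rw [← Functor.map_comp, βeZ]
  · intro n
    show (grF A p).map (uZ K n) ≫ (grF A p).map (eZ K (n + 1)) = 0
    rw [← Functor.map_comp, ueZ, Functor.map_zero]

theorem core : ∃ (I : CochainComplex (FilF A) ℤ) (φ : K ⟶ I), I.IsStrictlyGE 0 ∧
    (∀ n, IsFilteredInjective (I.X n)) ∧ IsFilteredQuasiIso φ ∧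
    ∀ n, Mono (φ.f n) ∧ IsStrict (φ.f n) :=
  ⟨Jcx K, Φ K, inferInstance, Jcx_inj K, fun p => core_qi K p,
    fun n => ⟨Φ_mono K n, Φ_strict K n⟩⟩

end GE

end Stages

/-! ## The general case by re-indexing -/

section Final

variable [EnoughInjectives A]

/-- The canonical isomorphism `K ≅ reidx (reidx K (-a)) a`, as a morphism. -/
noncomputable def Θ (K : CochainComplex (FilF A) ℤ) (a : ℤ) : K ⟶ reidx (reidx K (-a)) a where
  f n := (K.XIsoOfEq (show n = n - a - (-a) by omega)).hom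
  comm' i j _ := by
    show (K.XIsoOfEq _).hom ≫ K.d (i - a - (-a)) (j - a - (-a)) =
      K.d i j ≫ (K.XIsoOfEq _).hom
    rw [K.XIsoOfEq_hom_comp_d, K.d_comp_XIsoOfEq_hom]

lemma qi_reidx (p : ℤ) {L M : CochainComplex (FilF A) ℤ} (ψ : L ⟶ M)
    (h : QuasiIso ((grCx p).map ψ)) (c : ℤ) : QuasiIso ((grCx p).map (reidxMap ψ c)) := by
  rw [quasiIso_iff]
  intro n
  haveI := h
  have h' : QuasiIsoAt ((grCx p).map ψ) (n - c) := inferInstance
  rw [quasiIsoAt_iff' _ (n - 1 - c) (n - c) (n + 1 - c)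
    (by rw [CochainComplex.prev]; omega) (by rw [CochainComplex.next]; omega)] at h'
  rw [quasiIsoAt_iff' _ (n - 1) n (n + 1) (by simp) (by simp)]
  exact h'

theorem main1082 (K : CochainComplex (FilF A) ℤ) (a : ℤ) [K.IsStrictlyGE a] :
    ∃ (I : CochainComplex (FilF A) ℤ) (a' : ℤ) (φ : K ⟶ I), I.IsStrictlyGE a' ∧
      (∀ n, IsFilteredInjective (I.X n)) ∧ IsFilteredQuasiIso φ ∧
      ∀ n, Mono (φ.f n) ∧ IsStrict (φ.f n) := by
  haveI : (reidx K (-a)).IsStrictlyGE 0 := by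
    rw [CochainComplex.isStrictlyGE_iff]
    intro i hi
    exact K.isZero_of_isStrictlyGE a (i - (-a)) (by omega)
  obtain ⟨I', φ', hI'GE, hI'inj, hqi, hms⟩ := core (reidx K (-a))
  haveI := hI'GE
  refine ⟨reidx I' a, a, Θ K a ≫ reidxMap φ' a, ?_, fun n => hI'inj (n - a), ?_, ?_⟩
  · rw [CochainComplex.isStrictlyGE_iff]
    intro i hi
    exact I'.isZero_of_isStrictlyGE 0 (i - a) (by omega)
  · intro p
    haveI : ∀ n, IsIso ((Θ K a).f n) := fun n => by
      show IsIso (K.XIsoOfEq (show n = n - a - (-a) by omega)).hom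
      infer_instance
    haveI : IsIso (Θ K a) := HomologicalComplex.Hom.isIso_of_components _
    haveI := qi_reidx p φ' (hqi p) a
    rw [Functor.map_comp]
    infer_instance
  · intro n
    obtain ⟨hm, hs⟩ := hms (n - a)
    haveI := hm
    constructor
    · show Mono ((K.XIsoOfEq (show n = n - a - (-a) by omega)).hom ≫ φ'.f (n - a))
      exact @mono_comp _ _ _ _ _ (K.XIsoOfEq (show n = n - a - (-a) by omega)).hom inferInstance
        (φ'.f (n - a)) hm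
    · show IsStrict ((K.XIsoOfEq (show n = n - a - (-a) by omega)).hom ≫ φ'.f (n - a))
      exact strict_section_comp _ (K.XIsoOfEq (show n = n - a - (-a) by omega)).inv
        (Iso.inv_hom_id _) _ hs

end Final

end Groth.Agent.Lib.FilDH4.R82
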