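import Mathlib
import Groth.Agent.Lib.FilKInj1_helper7
import Groth.Agent.Lib.KInjGen5_helper7
import Groth.Agent.Lib.KInjAdj_helper7

/-!
# Filtered K-injective embeddings, part I (helper7)

Given a filtered complex `K` in a Grothendieck abelian category `A`, the quotients
`K / F^p K` (`p ∈ ℤ ∪ {∞}`) form a complex in the functor category `Idxᵒᵖ ⥤ A`,
which is again Grothendieck abelian.  A K-injective resolution there with injective terms
evaluates to a tower of degreewise split epimorphisms of K-injective complexes, to which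
`FilKInj1.partII` applies.
-/

set_option autoImplicit false
universe v u
open CategoryTheory CategoryTheory.Limits Opposite

namespace Groth.Agent.Lib.FilKInj2

/-- Presheaf categories with values in a Grothendieck abelian category are Grothendieck abelian. -/
instance isGrothendieckAbelian_functor {C : Type v} [SmallCategory C] (A : Type u)
    [Category.{v} A] [Abelian A] [IsGrothendieckAbelian.{v} A] :
    IsGrothendieckAbelian.{v} (Cᵒᵖ ⥤ A) where
  ab5OfSize := ⟨fun J _ _ => inferInstance⟩

section Eval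

variable {D : Type v} [SmallCategory D] {A : Type u} [Category.{v} A] [Abelian A]
  [IsGrothendieckAbelian.{v} A]

instance preservesMono_L (a : D) : (evaluationLeftAdjoint A a).PreservesMonomorphisms where
  preserves {M N} f _ := by
    haveI : ∀ t, Mono (((evaluationLeftAdjoint A a).map f).app t) := fun t => by
      have key : Mono (Limits.Sigma.desc fun h : a ⟶ t => f ≫ Sigma.ι (fun _ : a ⟶ t => N) h) := by
        have e : (Limits.Sigma.desc fun h : a ⟶ t => f ≫ Sigma.ι (fun _ : a ⟶ t => N) h) =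
            Limits.Sigma.map (fun _ : a ⟶ t => f) := by
          refine Sigma.hom_ext _ _ (fun k => ?_)
          simp
        rw [e]
        infer_instance
      exact key
    exact NatTrans.mono_of_mono_app _

instance additive_L (a : D) : (evaluationLeftAdjoint A a).Additive :=
  (evaluationAdjunctionRight A a).left_adjoint_additive

instance isLeftAdjoint_L (a : D) : (evaluationLeftAdjoint A a).IsLeftAdjoint :=
  ⟨_, ⟨evaluationAdjunctionRight A a⟩⟩

instance preservesFiniteColimits_L (a : D) :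
    PreservesFiniteColimits (evaluationLeftAdjoint A a) := ⟨fun J _ _ => inferInstance⟩

instance preservesFiniteLimits_L (a : D) :
    PreservesFiniteLimits (evaluationLeftAdjoint A a) := by
  haveI : (evaluationLeftAdjoint A a).PreservesHomology :=
    (evaluationLeftAdjoint A a).preservesHomology_of_preservesMonos_and_cokernels
  exact (evaluationLeftAdjoint A a).preservesFiniteLimits_of_preservesHomology

instance preservesFiniteLimits_ev (a : D) : PreservesFiniteLimits ((evaluation D A).obj a) :=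
  ⟨fun J _ _ => inferInstance⟩

instance preservesFiniteColimits_ev (a : D) : PreservesFiniteColimits ((evaluation D A).obj a) :=
  ⟨fun J _ _ => inferInstance⟩

lemma injective_eval (a : D) (G : D ⥤ A) [Injective G] : Injective (G.obj a) :=
  Injective.injective_of_adjoint (evaluationAdjunctionRight A a) G

/-- Evaluation of complexes of functors. -/
noncomputable abbrev evC (a : D) : CochainComplex (D ⥤ A) ℤ ⥤ CochainComplex A ℤ :=
  ((evaluation D A).obj a).mapHomologicalComplex (ComplexShape.up ℤ)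

lemma isKInjective_eval (a : D) (I : CochainComplex (D ⥤ A) ℤ) [I.IsKInjective] :
    ((evC a).obj I).IsKInjective :=
  KInjAdj_helper7.isKInjective_map (evaluationAdjunctionRight A a) I

/-- The transition maps between evaluations. -/
noncomputable abbrev evTrans {a b : D} (g : a ⟶ b) : evC (A := A) a ⟶ evC b :=
  NatTrans.mapHomologicalComplex ((evaluation D A).map g) (ComplexShape.up ℤ)

/-- The free functor `t ↦ ∐_{a ⟶ t} M`. -/
noncomputable def Lf (a : D) (M : A) : D ⥤ A where
  obj t := ∐ fun _ : a ⟶ t => M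
  map f := Limits.Sigma.desc fun k => Sigma.ι (fun _ => M) (k ≫ f)
  map_id t := Sigma.hom_ext _ _ (fun k => by simp)
  map_comp f g := Sigma.hom_ext _ _ (fun k => by simp)

/-- The inclusions of `Lf a M`. -/
noncomputable def ιL (a : D) (M : A) {t : D} (k : a ⟶ t) : M ⟶ (Lf a M).obj t :=
  Sigma.ι (fun _ : a ⟶ t => M) k

/-- The universal property of `(Lf a M).obj t`. -/
noncomputable def descL (a : D) (M : A) {t : D} {Z : A} (p : (a ⟶ t) → (M ⟶ Z)) :
    (Lf a M).obj t ⟶ Z :=
  Limits.Sigma.desc p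

@[reassoc]
lemma ιL_descL (a : D) (M : A) {t : D} {Z : A} (p : (a ⟶ t) → (M ⟶ Z)) (k : a ⟶ t) :
    ιL a M k ≫ descL a M p = p k :=
  Sigma.ι_desc p k

@[reassoc]
lemma ιL_map (a : D) (M : A) {t t' : D} (k : a ⟶ t) (f : t ⟶ t') :
    ιL a M k ≫ (Lf a M).map f = ιL a M (k ≫ f) :=
  Sigma.ι_desc _ k

lemma hom_ext_L (a : D) (M : A) {t : D} {Z : A} {f g : (Lf a M).obj t ⟶ Z}
    (h : ∀ k : a ⟶ t, ιL a M k ≫ f = ιL a M k ≫ g) : f = g :=
  Sigma.hom_ext _ _ h

/-- The canonical map `L_b M ⟶ L_a M` induced by `g : a ⟶ b`. -/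
noncomputable def mMap {a b : D} (g : a ⟶ b) (M : A) : Lf b M ⟶ Lf a M where
  app t := descL b M fun k => ιL a M (g ≫ k)
  naturality t t' f := hom_ext_L _ _ (fun k => by
    rw [ιL_map_assoc, ιL_descL, ιL_descL_assoc, ιL_map, Category.assoc])

lemma mMap_app {a b : D} (g : a ⟶ b) (M : A) (t : D) :
    (mMap g M).app t = descL b M fun k => ιL a M (g ≫ k) := rfl

/-- The counit `L_b (G b) ⟶ G`. -/
noncomputable def eps (G : D ⥤ A) (b : D) : Lf b (G.obj b) ⟶ G where
  app t := descL b (G.obj b) fun k => G.map k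
  naturality t t' f := hom_ext_L _ _ (fun k => by
    rw [ιL_map_assoc, ιL_descL, ιL_descL_assoc, G.map_comp])

lemma eps_app (G : D ⥤ A) (b t : D) :
    (eps G b).app t = descL b (G.obj b) fun k => G.map k := rfl

instance mono_mMap {a b : D} (g : a ⟶ b) [Epi g] (M : A) : Mono (mMap g M) := by
  haveI : ∀ t, Mono ((mMap g M).app t) := fun t => by
    classical
    let r : (Lf a M).obj t ⟶ (Lf b M).obj t :=
      descL a M fun k' => if h : ∃ k : b ⟶ t, g ≫ k = k' then ιL b M h.choose else 0
    have hr : (mMap g M).app t ≫ r = 𝟙 _ := by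
      refine hom_ext_L _ _ (fun k => ?_)
      have hk : ∃ k' : b ⟶ t, g ≫ k' = g ≫ k := ⟨k, rfl⟩
      have hc : hk.choose = k := (cancel_epi g).1 hk.choose_spec
      rw [mMap_app, ιL_descL_assoc, ιL_descL, dif_pos hk, hc, Category.comp_id]
    exact mono_of_mono_fac hr
  exact NatTrans.mono_of_mono_app _

/-- An injective functor sends epimorphisms of the index category to split epimorphisms. -/
lemma splitEpi_of_injective (G : D ⥤ A) [Injective G] {a b : D} (g : a ⟶ b) [Epi g] :
    ∃ s : G.obj b ⟶ G.obj a, s ≫ G.map g = 𝟙 (G.obj b) := by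
  let h := Injective.factorThru (eps G b) (mMap g (G.obj b))
  have hh : mMap g (G.obj b) ≫ h = eps G b := Injective.comp_factorThru _ _
  refine ⟨ιL a (G.obj b) (𝟙 a) ≫ h.app a, ?_⟩
  have nat := h.naturality g
  have e1 : (mMap g (G.obj b)).app b ≫ h.app b = (eps G b).app b := by
    rw [← NatTrans.comp_app, hh]
  calc (ιL a (G.obj b) (𝟙 a) ≫ h.app a) ≫ G.map g
      = ιL a (G.obj b) (𝟙 a) ≫ (Lf a (G.obj b)).map g ≫ h.app b := by
        rw [Category.assoc, nat]
    _ = ιL a (G.obj b) g ≫ h.app b := by rw [ιL_map_assoc, Category.id_comp]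
    _ = ιL b (G.obj b) (𝟙 b) ≫ (mMap g (G.obj b)).app b ≫ h.app b := by
        rw [mMap_app, ιL_descL_assoc, Category.comp_id]
    _ = ιL b (G.obj b) (𝟙 b) ≫ (eps G b).app b := by rw [e1]
    _ = 𝟙 _ := by rw [eps_app, ιL_descL, G.map_id]

/-- A functor to complexes, seen as a complex of functors. -/
noncomputable def toCx (G : D ⥤ CochainComplex A ℤ) : CochainComplex (D ⥤ A) ℤ where
  X n := G ⋙ HomologicalComplex.eval A (ComplexShape.up ℤ) n
  d n m :=
    { app := fun a => (G.obj a).d n m
      naturality := fun a b f => ((G.map f).comm n m) }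
  shape n m h := by
    ext a
    exact (G.obj a).shape n m h
  d_comp_d' n m k _ _ := by
    ext a
    exact (G.obj a).d_comp_d n m k

/-- The map from the value of `G` to the evaluation of a complex under `toCx G`. -/
noncomputable def compMap (G : D ⥤ CochainComplex A ℤ) (I : CochainComplex (D ⥤ A) ℤ)
    (f : toCx G ⟶ I) (a : D) : G.obj a ⟶ (evC a).obj I where
  f n := (f.f n).app a
  comm' n m _ := by
    have := congr_app (f.comm n m) a
    rw [NatTrans.comp_app, NatTrans.comp_app] at this
    exact this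

lemma quasiIso_compMap (G : D ⥤ CochainComplex A ℤ) (I : CochainComplex (D ⥤ A) ℤ)
    (f : toCx G ⟶ I) [QuasiIso f] (a : D) : QuasiIso (compMap G I f a) := by
  let e : G.obj a ≅ (evC a).obj (toCx G) :=
    HomologicalComplex.Hom.isoOfComponents (fun n => Iso.refl _) (by
      intro i j _
      exact (Category.id_comp ((G.obj a).d i j)).trans (Category.comp_id ((G.obj a).d i j)).symm)
  have h : compMap G I f a = e.hom ≫ (evC a).map f := by
    ext n
    exact (Category.id_comp ((f.f n).app a)).symm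
  rw [h]
  infer_instance

lemma compMap_naturality (G : D ⥤ CochainComplex A ℤ) (I : CochainComplex (D ⥤ A) ℤ)
    (f : toCx G ⟶ I) {a b : D} (g : a ⟶ b) :
    G.map g ≫ compMap G I f b = compMap G I f a ≫ (evTrans g).app I := by
  ext n
  exact (f.f n).naturality g

end Eval

/-! ### The index category `ℤ ∪ {∞}` -/

/-- The index set `ℤ ∪ {∞}`. -/
inductive Idx : Type v
  | top : Idx
  | fin : ℤ → Idx

namespace Idx

/-- The order with `fin p ≤ top`. -/
def le (a b : Idx.{v}) : Prop :=
  match b with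
  | top => True
  | fin q => match a with
    | top => False
    | fin p => p ≤ q

theorem le_refl' : ∀ a : Idx.{v}, le a a
  | top => trivial
  | fin p => Int.le_refl p

theorem le_trans' : ∀ a b c : Idx.{v}, le a b → le b c → le a c
  | _, _, top, _, _ => trivial
  | top, top, fin _, _, h => False.elim h
  | top, fin _, fin _, h, _ => False.elim h
  | fin _, top, fin _, _, h => False.elim h
  | fin _, fin _, fin _, h1, h2 => Int.le_trans h1 h2

instance : Preorder Idx.{v} where
  le := le
  le_refl := le_refl'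
  le_trans := le_trans'

lemma hom_ext_op {x y : Idx.{v}ᵒᵖ} (f g : x ⟶ y) : f = g :=
  Quiver.Hom.unop_inj (Subsingleton.elim _ _)

instance epi_op {x y : Idx.{v}ᵒᵖ} (f : x ⟶ y) : Epi f := ⟨fun _ _ _ => hom_ext_op _ _⟩

end Idx

section Quot

variable {𝒜 : Type*} [Category 𝒜] [Abelian 𝒜] {X : 𝒜}

/-- The functor `a ↦ X / F a` for an antitone family of subobjects. -/
noncomputable def quotFunctor (F : Idx.{v} → Subobject X)
    (hF : ∀ a b : Idx.{v}, a ≤ b → F b ≤ F a) : Idx.{v}ᵒᵖ ⥤ 𝒜 where
  obj x := cokernel (F x.unop).arrow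
  map {x y} f := cokernel.desc _ (cokernel.π (F y.unop).arrow) (by
    rw [← Subobject.ofLE_arrow (hF _ _ (leOfHom f.unop)), Category.assoc, cokernel.condition,
      comp_zero])
  map_id x := by
    ext
    simp
  map_comp f g := by
    ext
    simp

end Quot

section Main

open SpSeq

variable {A : Type u} [Category.{v} A] [Abelian A]

/-- The filtration extended by `F^∞ = 0`. -/
noncomputable def Fx (K : FilCx A) : Idx.{v} → Subobject K.obj
  | .top => ⊥
  | .fin p => K.fil p

lemma Fx_anti (K : FilCx A) : ∀ a b : Idx.{v}, a ≤ b → Fx K b ≤ Fx K a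
  | _, .top, _ => bot_le
  | .top, .fin _, h => False.elim h
  | .fin _, .fin _, h => K.anti h

variable [IsGrothendieckAbelian.{v} A]

theorem main (K : FilCx A) :
    ∃ (J : SpSeq.FilCx A) (j : K ⟶ J),
      (∀ n p : ℤ, Injective (J.obj.X n) ∧ Injective ((J.XFil n).step p) ∧
        Injective ((J.XFil n).quot p) ∧
        ∀ (p' : ℤ) (h : p ≤ p'), Injective (cokernel ((J.XFil n).stepLE h))) ∧
      (CochainComplex.IsKInjective J.obj ∧ ∀ p : ℤ, CochainComplex.IsKInjective (J.step p) ∧
        CochainComplex.IsKInjective (J.quot p) ∧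
        ∀ (p' : ℤ) (h : p ≤ p'), CochainComplex.IsKInjective (cokernel (J.stepLE h))) ∧
      QuasiIso j.hom ∧
      (∀ p : ℤ, ∃ jp : K.step p ⟶ J.step p,
        jp ≫ (J.fil p).arrow = (K.fil p).arrow ≫ j.hom ∧ QuasiIso jp ∧
        (∀ (p' : ℤ) (h : p ≤ p'), ∃ (jp' : K.step p' ⟶ J.step p')
          (jg : cokernel (K.stepLE h) ⟶ cokernel (J.stepLE h)),
          jp' ≫ (J.fil p').arrow = (K.fil p').arrow ≫ j.hom ∧
          jp' ≫ J.stepLE h = K.stepLE h ≫ jp ∧
          cokernel.π (K.stepLE h) ≫ jg = jp ≫ cokernel.π (J.stepLE h) ∧ QuasiIso jg)) ∧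
      (∀ p : ℤ, ∃ jq : K.quot p ⟶ J.quot p,
        cokernel.π (K.fil p).arrow ≫ jq = j.hom ≫ cokernel.π (J.fil p).arrow ∧ QuasiIso jq) := by
  let G : Idx.{v}ᵒᵖ ⥤ CochainComplex A ℤ := quotFunctor (Fx K) (Fx_anti K)
  obtain ⟨I, f, hI, hf, -, hinj⟩ := KInjGen5.exists_resolution (toCx G)
  let gp : ∀ p : ℤ, (op Idx.top : Idx.{v}ᵒᵖ) ⟶ op (Idx.fin p) := fun p =>
    (homOfLE (show Idx.fin p ≤ Idx.top from trivial)).op
  let π : ∀ p : ℤ, (evC (op Idx.top)).obj I ⟶ (evC (op (Idx.fin p))).obj I := fun p =>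
    (evTrans (gp p)).app I
  have hπ : ∀ p n, ∃ s : ((evC (op (Idx.fin p))).obj I).X n ⟶ ((evC (op Idx.top)).obj I).X n,
      s ≫ (π p).f n = 𝟙 _ := fun p n => by
    haveI := hinj n
    obtain ⟨s, hs⟩ := splitEpi_of_injective (I.X n) (gp p)
    exact ⟨s, hs⟩
  have hmono : ∀ p p' : ℤ, p ≤ p' →
      ∃ t : (evC (op (Idx.fin p'))).obj I ⟶ (evC (op (Idx.fin p))).obj I, π p' ≫ t = π p :=
    fun p p' h => by
    let g' : (op (Idx.fin p') : Idx.{v}ᵒᵖ) ⟶ op (Idx.fin p) :=
      (homOfLE (show Idx.fin p ≤ Idx.fin p' from h)).op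
    refine ⟨(evTrans g').app I, ?_⟩
    ext n
    show (I.X n).map (gp p') ≫ (I.X n).map g' = (I.X n).map (gp p)
    rw [← Functor.map_comp]
    exact congrArg _ (Idx.hom_ext_op _ _)
  haveI : ((evC (op Idx.top)).obj I).IsKInjective := isKInjective_eval _ I
  haveI : ∀ p : ℤ, ((evC (op (Idx.fin p))).obj I).IsKInjective := fun p => isKInjective_eval _ I
  have hinj₀ : ∀ n, Injective (((evC (op Idx.top)).obj I).X n) := fun n => by
    haveI := hinj n
    exact injective_eval (op Idx.top) (I.X n)
  let c₀ : K.obj ⟶ G.obj (op Idx.top) := cokernel.π (Fx K Idx.top).arrow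
  haveI : IsIso c₀ := FilKInj1.isIso_cokernel_π_of_eq_zero _ Subobject.bot_arrow
  let j₀ : K.obj ⟶ (evC (op Idx.top)).obj I := c₀ ≫ compMap G I f (op Idx.top)
  haveI := fun a => quasiIso_compMap G I f a
  have hj₀ : QuasiIso j₀ := by
    haveI : QuasiIso c₀ := inferInstance
    exact quasiIso_comp c₀ (compMap G I f (op Idx.top))
  let q : ∀ p : ℤ, K.quot p ⟶ (evC (op (Idx.fin p))).obj I := fun p =>
    compMap G I f (op (Idx.fin p))
  have hq : ∀ p, QuasiIso (q p) := fun p => quasiIso_compMap G I f (op (Idx.fin p))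
  have hcomm : ∀ p, cokernel.π (K.fil p).arrow ≫ q p = j₀ ≫ π p := fun p => by
    have h1 := compMap_naturality G I f (gp p)
    have h2 : c₀ ≫ G.map (gp p) = cokernel.π (K.fil p).arrow :=
      cokernel.π_desc _ _ _
    have h3 : c₀ ≫ G.map (gp p) ≫ compMap G I f (op (Idx.fin p)) =
        c₀ ≫ compMap G I f (op Idx.top) ≫ (evTrans (gp p)).app I :=
      congrArg (c₀ ≫ ·) h1
    have h4 : (c₀ ≫ G.map (gp p)) ≫ compMap G I f (op (Idx.fin p)) =
        cokernel.π (K.fil p).arrow ≫ q p :=
      congrArg (· ≫ compMap G I f (op (Idx.fin p))) h2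
    exact h4.symm.trans ((Category.assoc _ _ _).trans (h3.trans (Category.assoc _ _ _).symm))
  exact FilKInj1.partII K _ (fun p => (evC (op (Idx.fin p))).obj I) π hπ hmono hinj₀ j₀ hj₀ q hq
    hcomm

end Main

end Groth.Agent.Lib.FilKInj2
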