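import Mathlib
import Groth.Prelude.Def_SpSeq

set_option autoImplicit false
universe u v
open CategoryTheory CategoryTheory.Limits

namespace Groth.Agent.Lib.FilStrictH7

variable {A : Type u} [Category.{v} A] [Abelian A]

lemma imageSubobject_comp_mono' {X Y Z : A} (a : X ⟶ Y) (g : Y ⟶ Z) [Mono g] :
    imageSubobject (a ≫ g) = (Subobject.map g).obj (imageSubobject a) := by
  have h1 : imageSubobject a = Subobject.mk (image.ι a) := rfl
  rw [h1, Subobject.map_mk]
  apply le_antisymm
  · exact imageSubobject_le_mk (image.ι a ≫ g) (a ≫ g) (factorThruImage a) (by simp)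
  · haveI : StrongEpi (factorThruImage a) := strongEpi_of_epi _
    let e := image.isoStrongEpiMono (factorThruImage a) (image.ι a ≫ g)
      (by simp : factorThruImage a ≫ image.ι a ≫ g = a ≫ g)
    show Subobject.mk (image.ι a ≫ g) ≤ Subobject.mk (image.ι (a ≫ g))
    exact Subobject.mk_le_mk_of_comm e.hom (image.isoStrongEpiMono_hom_comp_ι _ _ _)

lemma imageSubobject_epi_comp' {X Y Z : A} (h : X ⟶ Y) [Epi h] (f : Y ⟶ Z) :
    imageSubobject (h ≫ f) = imageSubobject f := by
  apply le_antisymm (imageSubobject_comp_le h f)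
  haveI : StrongEpi (h ≫ factorThruImage f) := strongEpi_of_epi _
  let e := image.isoStrongEpiMono (h ≫ factorThruImage f) (image.ι f)
    (by simp : (h ≫ factorThruImage f) ≫ image.ι f = h ≫ f)
  show Subobject.mk (image.ι f) ≤ Subobject.mk (image.ι (h ≫ f))
  exact Subobject.mk_le_mk_of_comm e.hom (image.isoStrongEpiMono_hom_comp_ι _ _ _)

lemma imageSubobject_comp_eq_arrow {X Y Z : A} (a : X ⟶ Y) (g : Y ⟶ Z) :
    imageSubobject (a ≫ g) = imageSubobject ((imageSubobject a).arrow ≫ g) := by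
  conv_lhs => rw [← imageSubobject_arrow_comp a, Category.assoc]
  exact imageSubobject_epi_comp' _ _

lemma imageSubobject_of_epi {X Y : A} (f : X ⟶ Y) [Epi f] : imageSubobject f = ⊤ := by
  have := imageSubobject_epi_comp' f (𝟙 Y)
  rw [Category.comp_id] at this
  rw [this, imageSubobject_mono, ← Subobject.top_eq_id]

theorem strict_comp_of_mono {K L M : SpSeq.FilObj A} (f : K ⟶ L) (g : L ⟶ M)
    (hf : SpSeq.FilObj.IsStrict f) (hg : SpSeq.FilObj.IsStrict g) [Mono g.hom] :
    SpSeq.FilObj.IsStrict (f ≫ g) := by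
  intro p
  show imageSubobject ((K.fil p).arrow ≫ f.hom ≫ g.hom) =
    imageSubobject (f.hom ≫ g.hom) ⊓ M.fil p
  have h3 : (Subobject.map g.hom).obj (L.fil p) = imageSubobject g.hom ⊓ M.fil p := by
    rw [← hg p]
    conv_lhs => rw [← Subobject.mk_arrow (L.fil p)]
    rw [Subobject.map_mk, imageSubobject_mono]
  rw [← Category.assoc, imageSubobject_comp_mono', hf p, Subobject.inf_map,
    ← imageSubobject_comp_mono', h3, ← inf_assoc,
    inf_eq_left.mpr (imageSubobject_comp_le f.hom g.hom)]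

theorem strict_comp_of_epi {K L M : SpSeq.FilObj A} (f : K ⟶ L) (g : L ⟶ M)
    (hf : SpSeq.FilObj.IsStrict f) (hg : SpSeq.FilObj.IsStrict g) [Epi f.hom] :
    SpSeq.FilObj.IsStrict (f ≫ g) := by
  intro p
  show imageSubobject ((K.fil p).arrow ≫ f.hom ≫ g.hom) =
    imageSubobject (f.hom ≫ g.hom) ⊓ M.fil p
  have h1 : imageSubobject ((K.fil p).arrow ≫ f.hom) = L.fil p := by
    rw [hf p, imageSubobject_of_epi, top_inf_eq]
  rw [← Category.assoc, imageSubobject_comp_eq_arrow ((K.fil p).arrow ≫ f.hom) g.hom,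
    imageSubobject_epi_comp' f.hom g.hom, ← hg p]
  exact congrArg (fun S : Subobject L.obj => imageSubobject (S.arrow ≫ g.hom)) h1

end Groth.Agent.Lib.FilStrictH7
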