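import Mathlib
import Groth.Prelude.Def_SpSeq

set_option autoImplicit false
set_option linter.style.haveILetI false
set_option linter.unusedSectionVars false

universe v u

open CategoryTheory CategoryTheory.Limits SpSeq

namespace Groth.Agent.Lib.SpSeqFinH4

variable {A : Type u} [Category.{v} A] [Abelian A]

lemma isZero_subquot_of_eq {X : A} (Z B : Subobject X) (h : B ≤ Z) (e : B = Z) :
    IsZero (subquot Z B h) := by
  subst e
  unfold SpSeq.subquot
  haveI : IsIso (B.ofLE B h) := by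
    rw [Subobject.ofLE_refl]; infer_instance
  exact isZero_cokernel_of_epi _

lemma pullback_bot_le_kernel {X Y : A} (f : X ⟶ Y) :
    (Subobject.pullback f).obj ⊥ ≤ kernelSubobject f := by
  refine le_kernelSubobject _ _ ?_
  have h0 : ∀ {Z : A} (g : Z ⟶ ((⊥ : Subobject Y) : A)), g ≫ (⊥ : Subobject Y).arrow = 0 := by
    intro Z g; rw [Subobject.bot_arrow, comp_zero]
  rw [Subobject.pullback_obj, ← Subobject.underlyingIso_hom_comp_eq_mk, Category.assoc,
    ← pullback.condition, h0, comp_zero]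

lemma pullback_bot_eq {X Y : A} (f : X ⟶ Y) :
    (Subobject.pullback f).obj ⊥ = kernelSubobject f :=
  le_antisymm (pullback_bot_le_kernel f) (SpSeq.FilCx.kernelSubobject_le_pullback f ⊥)

lemma filX_top_of_le (K : FilCx A) {a p n : ℤ} (ha : K.filX a n = ⊤) (h : p ≤ a) :
    K.filX p n = ⊤ := by
  have h1 : K.filX a n ≤ K.filX p n := K.filX_anti n h
  rw [ha] at h1
  exact top_le_iff.mp h1

lemma filX_bot_of_le (K : FilCx A) {b p n : ℤ} (hb : K.filX b n = ⊥) (h : b ≤ p) :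
    K.filX p n = ⊥ := by
  have h1 : K.filX p n ≤ K.filX b n := K.filX_anti n h
  rw [hb] at h1
  exact le_bot_iff.mp h1

lemma isZero_E_of_bot (K : FilCx A) (r : ℕ) {p n : ℤ} (hb : K.filX p n = ⊥) :
    IsZero (K.E r p n) := by
  have h1 : K.filX (p + 1) n = ⊥ := filX_bot_of_le K hb (by omega)
  have hZ : K.ZSub r p n = ⊥ := by
    unfold SpSeq.FilCx.ZSub
    rw [hb, h1, bot_inf_eq, bot_sup_eq]
  unfold SpSeq.FilCx.E
  refine isZero_subquot_of_eq _ _ _ (le_antisymm (K.BSub_le_ZSub r p n) ?_)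
  rw [hZ]; exact bot_le

lemma isZero_E_of_top (K : FilCx A) (r : ℕ) {p n : ℤ} (ht : K.filX (p + 1) n = ⊤) :
    IsZero (K.E r p n) := by
  have hZ : K.ZSub r p n = ⊤ := by
    unfold SpSeq.FilCx.ZSub
    rw [ht, sup_top_eq]
  have hB : K.BSub r p n = ⊤ := by
    unfold SpSeq.FilCx.BSub
    rw [ht, sup_top_eq]
  unfold SpSeq.FilCx.E
  exact isZero_subquot_of_eq _ _ _ (hB.trans hZ.symm)

lemma isBounded (K : FilCx A) (hK : ∀ n : ℤ, (K.XFil n).IsFinite) (r : ℕ) : K.IsBounded r := by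
  intro n
  obtain ⟨⟨a, ha⟩, ⟨b, hb⟩⟩ := hK n
  change K.filX a n = ⊤ at ha
  change K.filX b n = ⊥ at hb
  refine Set.Finite.subset (Set.finite_Ico a b) ?_
  intro p hp
  simp only [Set.mem_setOf_eq] at hp
  rw [Set.mem_Ico]
  by_contra hcon
  apply hp
  by_cases h1 : p < a
  · exact isZero_E_of_top K r (filX_top_of_le K ha (by omega))
  · have h2 : b ≤ p := by omega
    exact isZero_E_of_bot K r (filX_bot_of_le K hb h2)

lemma isIso_homologyMap_of_isIso_f {K L : CochainComplex A ℤ} (f : K ⟶ L) (n : ℤ)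
    (h1 : IsIso (f.f (n - 1))) (h2 : IsIso (f.f n)) (h3 : IsIso (f.f (n + 1))) :
    IsIso (HomologicalComplex.homologyMap f n) := by
  rw [← quasiIsoAt_iff_isIso_homologyMap, quasiIsoAt_iff' f (n - 1) n (n + 1) (by simp) (by simp)]
  haveI : Epi ((HomologicalComplex.shortComplexFunctor' A (ComplexShape.up ℤ)
      (n - 1) n (n + 1)).map f).τ₁ := by
    change Epi (f.f (n - 1)); infer_instance
  haveI : IsIso ((HomologicalComplex.shortComplexFunctor' A (ComplexShape.up ℤ)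
      (n - 1) n (n + 1)).map f).τ₂ := h2
  haveI : Mono ((HomologicalComplex.shortComplexFunctor' A (ComplexShape.up ℤ)
      (n - 1) n (n + 1)).map f).τ₃ := by
    change Mono (f.f (n + 1)); infer_instance
  exact ShortComplex.quasiIso_of_epi_of_isIso_of_mono _

lemma filH_eq_top (K : FilCx A) (n a : ℤ) (h1 : K.filX a (n - 1) = ⊤) (h2 : K.filX a n = ⊤)
    (h3 : K.filX a (n + 1) = ⊤) : K.filH a n = ⊤ := by
  have hi : ∀ i, K.filX a i = ⊤ → IsIso ((K.fil a).arrow.f i) :=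
    fun i h => (Subobject.isIso_iff_mk_eq_top _).2 h
  haveI := isIso_homologyMap_of_isIso_f (K.fil a).arrow n (hi _ h1) (hi _ h2) (hi _ h3)
  unfold SpSeq.FilCx.filH
  rw [imageSubobject_mono, ← Subobject.isIso_iff_mk_eq_top]
  infer_instance

lemma filH_eq_bot (K : FilCx A) (n b : ℤ) (hb : K.filX b n = ⊥) : K.filH b n = ⊥ := by
  have h0 : (K.fil b).arrow.f n = 0 := Subobject.mk_eq_bot_iff_zero.1 hb
  have hX : IsZero ((K.fil b : CochainComplex A ℤ).X n) := by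
    rw [IsZero.iff_id_eq_zero, ← cancel_mono ((K.fil b).arrow.f n)]
    simp only [h0, comp_zero]
  have hH : IsZero ((K.fil b : CochainComplex A ℤ).homology n) :=
    ShortComplex.isZero_homology_of_isZero_X₂ (S := (K.fil b : CochainComplex A ℤ).sc n) hX
  unfold SpSeq.FilCx.filH
  have key : ∀ {X Y : A} (g : X ⟶ Y), g = 0 → imageSubobject g = ⊥ := by
    rintro X Y g rfl; exact imageSubobject_zero
  exact key _ (hH.eq_of_src _ _)

lemma hFil_isFinite (K : FilCx A) (hK : ∀ n : ℤ, (K.XFil n).IsFinite) (n : ℤ) :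
    (K.HFil n).IsFinite := by
  obtain ⟨⟨a1, ha1⟩, _⟩ := hK (n - 1)
  obtain ⟨⟨a2, ha2⟩, ⟨b, hb⟩⟩ := hK n
  obtain ⟨⟨a3, ha3⟩, _⟩ := hK (n + 1)
  change K.filX a1 (n - 1) = ⊤ at ha1
  change K.filX a2 n = ⊤ at ha2
  change K.filX a3 (n + 1) = ⊤ at ha3
  change K.filX b n = ⊥ at hb
  refine ⟨⟨min a1 (min a2 a3), ?_⟩, ⟨b, ?_⟩⟩
  · exact filH_eq_top K n _ (filX_top_of_le K ha1 (by omega)) (filX_top_of_le K ha2 (by omega))
      (filX_top_of_le K ha3 (by omega))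
  · exact filH_eq_bot K n b hb

lemma ZSub_eq_ZTop (K : FilCx A) (r : ℕ) (p n : ℤ) (h : K.filX (p + r) (n + 1) = ⊥) :
    K.ZSub r p n = K.ZTop p n := by
  unfold SpSeq.FilCx.ZSub SpSeq.FilCx.ZTop
  rw [h, pullback_bot_eq]

lemma ZTop_le_ZSub (K : FilCx A) (r : ℕ) (p n : ℤ) : K.ZTop p n ≤ K.ZSub r p n :=
  sup_le_sup_right (inf_le_inf_left _ (SpSeq.FilCx.kernelSubobject_le_pullback _ _)) _

lemma BSub_le_BBot (K : FilCx A) (r : ℕ) (p n : ℤ) : K.BSub r p n ≤ K.BBot p n :=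
  sup_le_sup_right (inf_le_inf_left _ (imageSubobject_comp_le _ _)) _

lemma BSub_eq_BBot (K : FilCx A) (r : ℕ) (p n : ℤ) (h : K.filX (p - r + 1) (n - 1) = ⊤) :
    K.BSub r p n = K.BBot p n := by
  unfold SpSeq.FilCx.BSub SpSeq.FilCx.BBot
  haveI : IsIso (K.filX (p - r + 1) (n - 1)).arrow := (Subobject.isIso_arrow_iff_eq_top _).2 h
  rw [imageSubobject_iso_comp]

lemma isComplete_of_bot (L : FilObj A) (b : ℤ) (hb : L.fil b = ⊥) : L.IsComplete := by
  intro T f hf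
  have hπz : ∀ {Z Y : A} (g : Z ⟶ Y), g = 0 → IsIso (cokernel.π g) := by
    rintro Z Y g rfl; infer_instance
  have hπ : ∀ p, b ≤ p → IsIso (cokernel.π (L.fil p).arrow) := by
    intro p hp
    apply hπz
    have h1 : L.fil p ≤ L.fil b := L.anti hp
    rw [hb] at h1
    have h2 : L.fil p = ⊥ := le_bot_iff.mp h1
    rw [h2]; exact Subobject.bot_arrow
  have hq : ∀ (p q : ℤ) (h : p ≤ q),
      cokernel.π (L.fil q).arrow ≫ L.quotMap h = cokernel.π (L.fil p).arrow := by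
    intro p q h
    unfold SpSeq.FilObj.quotMap
    exact cokernel.π_desc _ _ _
  haveI := hπ b le_rfl
  refine ⟨f b ≫ inv (cokernel.π (L.fil b).arrow), fun p => ?_⟩
  by_cases hp : p ≤ b
  · rw [← hf p b hp, ← hq p b hp]
    simp only [Category.assoc, IsIso.inv_hom_id_assoc]
  · have hp' : b ≤ p := by omega
    haveI := hπ p hp'
    haveI : Mono (L.quotMap hp') := by
      have e : L.quotMap hp' =
          inv (cokernel.π (L.fil p).arrow) ≫ cokernel.π (L.fil b).arrow := by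
        rw [IsIso.eq_inv_comp]; exact hq b p hp'
      rw [e]; infer_instance
    rw [← cancel_mono (L.quotMap hp')]
    simp only [Category.assoc]
    rw [hq b p hp', IsIso.inv_hom_id, Category.comp_id, hf b p hp']

lemma converges (K : FilCx A) (hK : ∀ n : ℤ, (K.XFil n).IsFinite) : K.Converges := by
  have hZ : ∀ p n : ℤ, ∃ r₀ : ℕ, ∀ r : ℕ, r₀ ≤ r → K.ZSub r p n = K.ZTop p n := by
    intro p n
    obtain ⟨_, ⟨b, hb⟩⟩ := hK (n + 1)
    change K.filX b (n + 1) = ⊥ at hb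
    refine ⟨(b - p).toNat, fun r hr => ZSub_eq_ZTop K r p n (filX_bot_of_le K hb ?_)⟩
    have := Int.self_le_toNat (b - p)
    omega
  have hB : ∀ p n : ℤ, ∃ r₀ : ℕ, ∀ r : ℕ, r₀ ≤ r → K.BSub r p n = K.BBot p n := by
    intro p n
    obtain ⟨⟨a, ha⟩, _⟩ := hK (n - 1)
    change K.filX a (n - 1) = ⊤ at ha
    refine ⟨(p + 1 - a).toNat, fun r hr => BSub_eq_BBot K r p n (filX_top_of_le K ha ?_)⟩
    have := Int.self_le_toNat (p + 1 - a)
    omega
  refine ⟨?_, ⟨?_, ?_⟩, ?_⟩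
  · intro p n
    obtain ⟨r₀, h⟩ := hZ p n
    exact ⟨r₀, fun r hr => (h r hr).trans (h r₀ le_rfl).symm⟩
  · intro p n
    obtain ⟨r₀, h⟩ := hZ p n
    obtain ⟨r₁, h'⟩ := hB p n
    refine ⟨⟨?_, ?_⟩, ⟨?_, ?_⟩⟩
    · rintro _ ⟨r, rfl⟩
      exact ZTop_le_ZSub K r p n
    · intro S hS
      exact (hS ⟨r₀, rfl⟩).trans (le_of_eq (h r₀ le_rfl))
    · rintro _ ⟨r, rfl⟩
      exact BSub_le_BBot K r p n
    · intro S hS
      exact (le_of_eq (h' r₁ le_rfl).symm).trans (hS ⟨r₁, rfl⟩)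
  · intro n
    obtain ⟨⟨a, ha⟩, ⟨b, hb⟩⟩ := hFil_isFinite K hK n
    exact ⟨⟨fun S _ => bot_le, fun S hS => (hS ⟨b, rfl⟩).trans (le_of_eq hb)⟩,
      ⟨fun S _ => le_top, fun S hS => (le_of_eq ha.symm).trans (hS ⟨a, rfl⟩)⟩⟩
  · intro n
    obtain ⟨_, ⟨b, hb⟩⟩ := hFil_isFinite K hK n
    exact isComplete_of_bot _ b hb

theorem main6792 (K : FilCx A) (hK : ∀ n : ℤ, (K.XFil n).IsFinite) :
    K.IsBounded 0 ∧ (∀ n : ℤ, (K.HFil n).IsFinite) ∧ K.Converges :=
  ⟨isBounded K hK 0, hFil_isFinite K hK, converges K hK⟩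

end Groth.Agent.Lib.SpSeqFinH4
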