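import Mathlib
import Groth.Prelude.Def_SpSeq
import Groth.Agent.Lib.SpSeqFin_helper4

set_option autoImplicit false
set_option linter.style.haveILetI false
set_option linter.unusedSectionVars false

universe v u

open CategoryTheory CategoryTheory.Limits SpSeq

namespace Groth.Agent.Lib.SpSeqConvH4

open Groth.Agent.Lib.SpSeqFinH4

variable {A : Type u} [Category.{v} A] [Abelian A]

lemma mono_of_isZero_src {X Y : A} (h : IsZero X) (f : X ⟶ Y) : Mono f :=
  ⟨fun g g' _ => h.eq_of_tgt g g'⟩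

lemma epi_of_isZero_tgt {X Y : A} (h : IsZero Y) (f : X ⟶ Y) : Epi f :=
  ⟨fun g g' _ => h.eq_of_src g g'⟩

lemma factors_of_epi_comp {X W W' : A} (S : Subobject X) (π : W' ⟶ W) [Epi π] (x : W ⟶ X)
    (h : S.Factors (π ≫ x)) : S.Factors x := by
  have ht : S.factorThru (π ≫ x) h ≫ S.arrow = π ≫ x := S.factorThru_arrow _ h
  have h0 : kernel.ι π ≫ S.factorThru (π ≫ x) h = 0 := by
    rw [← cancel_mono S.arrow, Category.assoc, ht, kernel.condition_assoc]
    simp
  have e : x = Abelian.epiDesc π _ h0 ≫ S.arrow := by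
    rw [← cancel_epi π, ← Category.assoc, Abelian.comp_epiDesc, ht]
  rw [e]
  exact S.factors_comp_arrow _

lemma mk_factors_iff' {X Y W : A} (m : Y ⟶ X) [Mono m] (x : W ⟶ X) :
    (Subobject.mk m).Factors x ↔ ∃ v : W ⟶ Y, v ≫ m = x := by
  constructor
  · intro h
    refine ⟨(Subobject.mk m).factorThru x h ≫ (Subobject.underlyingIso m).hom, ?_⟩
    rw [Category.assoc, Subobject.underlyingIso_hom_comp_eq_mk, Subobject.factorThru_arrow]
  · rintro ⟨v, rfl⟩
    exact Subobject.factors_of_factors_right v (Subobject.mk_factors_self m)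

lemma pullback_factors {X Y W : A} (f : X ⟶ Y) (T : Subobject Y) (x : W ⟶ X)
    (h : ((Subobject.pullback f).obj T).Factors x) : T.Factors (x ≫ f) := by
  rw [Subobject.pullback_obj, mk_factors_iff'] at h
  obtain ⟨v, rfl⟩ := h
  rw [Category.assoc, ← pullback.condition, ← Category.assoc]
  exact T.factors_comp_arrow _

lemma image_factors_refine {X Y W : A} (g : Y ⟶ X) (x : W ⟶ X)
    (h : (imageSubobject g).Factors x) :
    ∃ (W' : A) (π : W' ⟶ W) (_ : Epi π) (z : W' ⟶ Y), π ≫ x = z ≫ g := by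
  obtain ⟨W', π, hπ, z, hz⟩ := surjective_up_to_refinements_of_epi (factorThruImageSubobject g)
    ((imageSubobject g).factorThru x h)
  refine ⟨W', π, hπ, z, ?_⟩
  calc π ≫ x = π ≫ (imageSubobject g).factorThru x h ≫ (imageSubobject g).arrow := by
        rw [Subobject.factorThru_arrow]
    _ = (z ≫ factorThruImageSubobject g) ≫ (imageSubobject g).arrow := by
        rw [← Category.assoc, hz]
    _ = z ≫ g := by rw [Category.assoc, imageSubobject_arrow_comp]

lemma sup_factors_add {X W : A} (S T : Subobject X) (a b : W ⟶ X) (ha : S.Factors a)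
    (hb : T.Factors b) : (S ⊔ T).Factors (a + b) :=
  Subobject.factors_add _ _ (Subobject.factors_of_le _ le_sup_left ha)
    (Subobject.factors_of_le _ le_sup_right hb)

lemma le_of_forall_factors {X : A} (S T : Subobject X)
    (h : ∀ {W : A} (x : W ⟶ X), S.Factors x → T.Factors x) : S ≤ T := by
  have h1 := h S.arrow (Subobject.factors_self S)
  exact Subobject.le_of_comm (T.factorThru S.arrow h1) (T.factorThru_arrow _ h1)

lemma filX_le (K : FilCx A) {p q : ℤ} (h : p ≤ q) (n : ℤ) : K.filX q n ≤ K.filX p n :=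
  K.filX_anti n h

lemma filX_factors_iff (K : FilCx A) (p n : ℤ) {W : A} (x : W ⟶ K.obj.X n) :
    (K.filX p n).Factors x ↔ ∃ v : W ⟶ (K.step p).X n, v ≫ (K.fil p).arrow.f n = x := by
  unfold SpSeq.FilCx.filX
  exact mk_factors_iff' _ _

lemma filX_factors_mk (K : FilCx A) (p n : ℤ) {W : A} (v : W ⟶ (K.step p).X n) :
    (K.filX p n).Factors (v ≫ (K.fil p).arrow.f n) :=
  (filX_factors_iff K p n _).2 ⟨v, rfl⟩

lemma image_filX_comp (K : FilCx A) (q i : ℤ) {Y : A} (g : K.obj.X i ⟶ Y) :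
    imageSubobject ((K.filX q i).arrow ≫ g) = imageSubobject ((K.fil q).arrow.f i ≫ g) := by
  unfold SpSeq.FilCx.filX
  rw [← Subobject.underlyingIso_hom_comp_eq_mk, Category.assoc, imageSubobject_iso_comp]

lemma cocycle_of_comp (K : FilCx A) (p : ℤ) {j k : ℤ} {W : A} (v : W ⟶ (K.step p).X j)
    (h : (v ≫ (K.fil p).arrow.f j) ≫ K.obj.d j k = 0) : v ≫ (K.step p).d j k = 0 := by
  rw [← cancel_mono ((K.fil p).arrow.f k), zero_comp, Category.assoc,
    ← (K.fil p).arrow.comm j k, ← Category.assoc]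
  exact h

lemma chase_aux {F G : CochainComplex A ℤ} (ι : F ⟶ G) {n m : ℤ} {W W' : A} (π : W' ⟶ W)
    (x : W ⟶ G.X n) (u : W ⟶ F.X m) (y : W' ⟶ F.X n)
    (hu : u ≫ ι.f m = x ≫ G.d n m) (hy : π ≫ u = y ≫ F.d n m) :
    (π ≫ x + (-y) ≫ ι.f n) ≫ G.d n m = 0 := by
  rw [Preadditive.add_comp, Category.assoc, Category.assoc, ← hu, ι.comm n m,
    ← Category.assoc π, hy]
  simp only [Preadditive.neg_comp, Category.assoc, add_neg_cancel]

lemma stepLE_f (K : FilCx A) {p q : ℤ} (h : p ≤ q) (n : ℤ) :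
    (K.stepLE h).f n ≫ (K.fil p).arrow.f n = (K.fil q).arrow.f n := by
  rw [← HomologicalComplex.comp_f, Subobject.ofLE_arrow]

lemma ZSub_le_ZTop (K : FilCx A) (r : ℕ) (hr : 1 ≤ r) (p n : ℤ)
    (hz : IsZero ((K.step (p + r)).homology (n + 1))) : K.ZSub r p n ≤ K.ZTop p n := by
  unfold SpSeq.FilCx.ZSub SpSeq.FilCx.ZTop
  refine sup_le (le_of_forall_factors _ _ ?_) le_sup_right
  intro W x hx
  rw [Subobject.inf_factors] at hx
  obtain ⟨hx1, hx2⟩ := hx
  obtain ⟨u, hu⟩ := (filX_factors_iff K (p + r) (n + 1) _).1 (pullback_factors _ _ _ hx2)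
  have hu0 : u ≫ (K.step (p + r)).d (n + 1) (n + 1 + 1) = 0 := by
    apply cocycle_of_comp
    rw [hu, Category.assoc, HomologicalComplex.d_comp_d, comp_zero]
  obtain ⟨W', π, hπ, y, hy⟩ :=
    (HomologicalComplex.exactAt_iff_exact_up_to_refinements (K.step (p + r)) n (n + 1)
      (n + 1 + 1) (by simp) (by simp)).1
      ((HomologicalComplex.exactAt_iff_isZero_homology _ _).2 hz) u hu0
  have hpr : p ≤ p + r := by omega
  have hpr1 : p + 1 ≤ p + r := by omega
  have hb : (K.filX (p + 1) n).Factors (y ≫ (K.fil (p + r)).arrow.f n) :=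
    Subobject.factors_of_le _ (filX_le K hpr1 n) (filX_factors_mk K (p + r) n y)
  have hny : (K.filX p n).Factors ((-y) ≫ (K.fil (p + r)).arrow.f n) :=
    Subobject.factors_of_le _ (filX_le K hpr n) (filX_factors_mk K (p + r) n (-y))
  have ha1 : (K.filX p n).Factors (π ≫ x + (-y) ≫ (K.fil (p + r)).arrow.f n) :=
    Subobject.factors_add _ _ (Subobject.factors_of_factors_right π hx1) hny
  have ha2 : (kernelSubobject (K.obj.d n (n + 1))).Factors
      (π ≫ x + (-y) ≫ (K.fil (p + r)).arrow.f n) := by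
    rw [kernelSubobject_factors_iff]
    exact chase_aux (K.fil (p + r)).arrow π x u y hu hy
  apply factors_of_epi_comp _ π x
  have e : π ≫ x = (π ≫ x + (-y) ≫ (K.fil (p + r)).arrow.f n) +
      y ≫ (K.fil (p + r)).arrow.f n := by
    rw [Preadditive.neg_comp]; abel
  rw [e]
  exact sup_factors_add _ _ _ _ ((Subobject.inf_factors _).2 ⟨ha1, ha2⟩) hb

lemma BBot_le_BSub (K : FilCx A) (r : ℕ) (hr : 1 ≤ r) (p n : ℤ)
    (hi : IsIso (HomologicalComplex.homologyMap (K.fil (p - r + 1)).arrow n)) :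
    K.BBot p n ≤ K.BSub r p n := by
  unfold SpSeq.FilCx.BBot SpSeq.FilCx.BSub
  rw [image_filX_comp]
  refine sup_le (le_trans (le_of_forall_factors _ _ ?_) le_sup_left) le_sup_right
  intro W x hx
  rw [Subobject.inf_factors] at hx ⊢
  obtain ⟨hx1, hx2⟩ := hx
  refine ⟨hx1, ?_⟩
  have hqp : p - r + 1 ≤ p := by omega
  obtain ⟨v', hv'⟩ := (filX_factors_iff K (p - r + 1) n x).1
    (Subobject.factors_of_le _ (filX_le K hqp n) hx1)
  obtain ⟨W', π, hπ, z, hz⟩ := image_factors_refine _ x hx2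
  have hxd : x ≫ K.obj.d n (n + 1) = 0 := by
    rw [← cancel_epi π, ← Category.assoc, hz, Category.assoc, HomologicalComplex.d_comp_d,
      comp_zero, comp_zero]
  have hv'0 : v' ≫ (K.step (p - r + 1)).d n (n + 1) = 0 := by
    apply cocycle_of_comp
    rw [hv']; exact hxd
  obtain ⟨W'', π', hπ', x₁, hx₁⟩ :=
    (HomologicalComplex.mono_homologyMap_iff_up_to_refinements (K.fil (p - r + 1)).arrow
      (n - 1) n (n + 1) (by simp) (by simp)).1 inferInstance (π ≫ v')
      (by rw [Category.assoc, hv'0, comp_zero]) z (by rw [Category.assoc, hv', hz])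
  haveI : Epi (π' ≫ π) := epi_comp _ _
  apply factors_of_epi_comp _ (π' ≫ π) x
  have e : (π' ≫ π) ≫ x =
      x₁ ≫ ((K.fil (p - r + 1)).arrow.f (n - 1) ≫ K.obj.d (n - 1) n) := by
    calc (π' ≫ π) ≫ x = (π' ≫ π ≫ v') ≫ (K.fil (p - r + 1)).arrow.f n := by
          simp only [Category.assoc, hv']
      _ = (x₁ ≫ (K.step (p - r + 1)).d (n - 1) n) ≫ (K.fil (p - r + 1)).arrow.f n := by
          rw [hx₁]
      _ = x₁ ≫ ((K.fil (p - r + 1)).arrow.f (n - 1) ≫ K.obj.d (n - 1) n) := by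
          rw [Category.assoc, (K.fil (p - r + 1)).arrow.comm]
  rw [e]
  exact imageSubobject_factors_comp_self _ _

lemma claimE (K : FilCx A) (p n : ℤ) (hle : p ≤ p + 1)
    (hM : Mono (HomologicalComplex.homologyMap (K.fil (p + 1)).arrow (n + 1)))
    (hE : Epi (HomologicalComplex.homologyMap (K.stepLE hle) n)) :
    K.filX p n ⊓ (Subobject.pullback (K.obj.d n (n + 1))).obj (K.filX (p + 1) (n + 1)) ≤
      (K.filX p n ⊓ imageSubobject ((K.fil p).arrow.f (n - 1) ≫ K.obj.d (n - 1) n)) ⊔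
        K.filX (p + 1) n := by
  refine le_of_forall_factors _ _ ?_
  intro W x hx
  rw [Subobject.inf_factors] at hx
  obtain ⟨hx1, hx2⟩ := hx
  obtain ⟨v, hv⟩ := (filX_factors_iff K p n x).1 hx1
  obtain ⟨u, hu⟩ := (filX_factors_iff K (p + 1) (n + 1) _).1 (pullback_factors _ _ _ hx2)
  have hu0 : u ≫ (K.step (p + 1)).d (n + 1) (n + 1 + 1) = 0 := by
    apply cocycle_of_comp
    rw [hu, Category.assoc, HomologicalComplex.d_comp_d, comp_zero]
  obtain ⟨W', π, hπ, y, hy⟩ :=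
    (HomologicalComplex.mono_homologyMap_iff_up_to_refinements (K.fil (p + 1)).arrow
      n (n + 1) (n + 1 + 1) (by simp) (by simp)).1 hM u hu0 x hu
  have hs := stepLE_f K hle n
  have hwι : (π ≫ v + (-y) ≫ (K.stepLE hle).f n) ≫ (K.fil p).arrow.f n =
      π ≫ x + (-y) ≫ (K.fil (p + 1)).arrow.f n := by
    rw [Preadditive.add_comp, Category.assoc, Category.assoc, hv, hs]
  have hw0 : (π ≫ v + (-y) ≫ (K.stepLE hle).f n) ≫ (K.step p).d n (n + 1) = 0 := by
    apply cocycle_of_comp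
    rw [hwι]
    exact chase_aux (K.fil (p + 1)).arrow π x u y hu hy
  obtain ⟨W'', π', hπ', z, _, t, ht⟩ :=
    (HomologicalComplex.epi_homologyMap_iff_up_to_refinements (K.stepLE hle)
      (n - 1) n (n + 1) (by simp) (by simp)).1 hE _ hw0
  haveI : Epi (π' ≫ π) := epi_comp _ _
  apply factors_of_epi_comp _ (π' ≫ π) x
  have e : (π' ≫ π) ≫ x = (t ≫ (K.step p).d (n - 1) n) ≫ (K.fil p).arrow.f n +
      (z + π' ≫ y) ≫ (K.fil (p + 1)).arrow.f n := by
    have e1 : π ≫ x = (π ≫ v + (-y) ≫ (K.stepLE hle).f n) ≫ (K.fil p).arrow.f n +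
        y ≫ (K.fil (p + 1)).arrow.f n := by
      rw [hwι, Preadditive.neg_comp]; abel
    rw [Category.assoc, e1, Preadditive.comp_add, ← Category.assoc π', ht, Preadditive.add_comp,
      Preadditive.add_comp, Category.assoc z, hs, Category.assoc π']
    abel
  rw [e]
  refine sup_factors_add _ _ _ _ ((Subobject.inf_factors _).2 ⟨?_, ?_⟩) ?_
  · exact filX_factors_mk K p n _
  · rw [Category.assoc, ← (K.fil p).arrow.comm]
    exact imageSubobject_factors_comp_self _ _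
  · exact filX_factors_mk K (p + 1) n _

lemma BSub_eq_of (K : FilCx A) (r : ℕ) (p n q : ℤ) (hq : p - r + 1 = q) :
    K.BSub r p n = (K.filX p n ⊓
      imageSubobject ((K.fil q).arrow.f (n - 1) ≫ K.obj.d (n - 1) n)) ⊔ K.filX (p + 1) n := by
  subst hq
  unfold SpSeq.FilCx.BSub
  rw [image_filX_comp]

lemma ZSub_eq_of (K : FilCx A) (r : ℕ) (p n q : ℤ) (hq : p + r = q) :
    K.ZSub r p n = (K.filX p n ⊓
      (Subobject.pullback (K.obj.d n (n + 1))).obj (K.filX q (n + 1))) ⊔ K.filX (p + 1) n := by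
  subst hq
  rfl

lemma isZero_E_one (K : FilCx A) (p n : ℤ) (hle : p ≤ p + 1)
    (hM : Mono (HomologicalComplex.homologyMap (K.fil (p + 1)).arrow (n + 1)))
    (hE : Epi (HomologicalComplex.homologyMap (K.stepLE hle) n)) : IsZero (K.E 1 p n) := by
  have h := claimE K p n hle hM hE
  have h2 : K.ZSub 1 p n ≤ K.BSub 1 p n := by
    rw [ZSub_eq_of K 1 p n (p + 1) (by simp), BSub_eq_of K 1 p n p (by simp)]
    exact sup_le h le_sup_right
  unfold SpSeq.FilCx.E
  exact isZero_subquot_of_eq _ _ _ (le_antisymm (K.BSub_le_ZSub 1 p n) h2)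

lemma epi_stepLE_of_iso (K : FilCx A) (p n : ℤ) (hle : p ≤ p + 1)
    (h1 : IsIso (HomologicalComplex.homologyMap (K.fil (p + 1)).arrow n))
    (h2 : IsIso (HomologicalComplex.homologyMap (K.fil p).arrow n)) :
    Epi (HomologicalComplex.homologyMap (K.stepLE hle) n) := by
  have e : HomologicalComplex.homologyMap (K.stepLE hle) n ≫
      HomologicalComplex.homologyMap (K.fil p).arrow n =
      HomologicalComplex.homologyMap (K.fil (p + 1)).arrow n := by
    rw [← HomologicalComplex.homologyMap_comp, Subobject.ofLE_arrow]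
  have e2 : HomologicalComplex.homologyMap (K.stepLE hle) n =
      HomologicalComplex.homologyMap (K.fil (p + 1)).arrow n ≫
        inv (HomologicalComplex.homologyMap (K.fil p).arrow n) := by
    rw [IsIso.eq_comp_inv, e]
  rw [e2]; infer_instance

lemma filH_eq_bot' (K : FilCx A) (p n : ℤ) (hz : IsZero ((K.step p).homology n)) :
    K.filH p n = ⊥ := by
  unfold SpSeq.FilCx.filH
  have key : ∀ {X Y : A} (g : X ⟶ Y), g = 0 → imageSubobject g = ⊥ := by
    rintro X Y g rfl; exact imageSubobject_zero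
  exact key _ (hz.eq_of_src _ _)

lemma filH_eq_top' (K : FilCx A) (p n : ℤ)
    (hi : IsIso (HomologicalComplex.homologyMap (K.fil p).arrow n)) : K.filH p n = ⊤ := by
  unfold SpSeq.FilCx.filH
  rw [imageSubobject_mono, ← Subobject.isIso_iff_mk_eq_top]
  exact hi

lemma converges_of (K : FilCx A)
    (hZ : ∀ p n : ℤ, ∃ r₀ : ℕ, ∀ r : ℕ, r₀ ≤ r → K.ZSub r p n = K.ZTop p n)
    (hB : ∀ p n : ℤ, ∃ r₀ : ℕ, ∀ r : ℕ, r₀ ≤ r → K.BSub r p n = K.BBot p n)
    (hFin : ∀ n : ℤ, (K.HFil n).IsFinite) : K.Converges := by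
  refine ⟨?_, ⟨?_, ?_⟩, ?_⟩
  · intro p n
    obtain ⟨r₀, h⟩ := hZ p n
    exact ⟨r₀, fun r hr => (h r hr).trans (h r₀ le_rfl).symm⟩
  · intro p n
    obtain ⟨r₀, h⟩ := hZ p n
    obtain ⟨r₁, h'⟩ := hB p n
    refine ⟨⟨?_, ?_⟩, ⟨?_, ?_⟩⟩
    · rintro _ ⟨r, rfl⟩
      exact ZTop_le_ZSub K r p n
    · intro S hS
      exact (hS ⟨r₀, rfl⟩).trans (le_of_eq (h r₀ le_rfl))
    · rintro _ ⟨r, rfl⟩
      exact BSub_le_BBot K r p n
    · intro S hS
      exact (le_of_eq (h' r₁ le_rfl).symm).trans (hS ⟨r₁, rfl⟩)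
  · intro n
    obtain ⟨⟨a, ha⟩, ⟨b, hb⟩⟩ := hFin n
    exact ⟨⟨fun S _ => bot_le, fun S hS => (hS ⟨b, rfl⟩).trans (le_of_eq hb)⟩,
      ⟨fun S _ => le_top, fun S hS => (le_of_eq ha.symm).trans (hS ⟨a, rfl⟩)⟩⟩
  · intro n
    obtain ⟨_, ⟨b, hb⟩⟩ := hFin n
    exact isComplete_of_bot _ b hb

theorem main6794 (K : FilCx A)
    (h0 : ∀ n : ℤ, ∃ p₀ : ℤ, ∀ p : ℤ, p₀ ≤ p →
      IsZero ((K.fil p : CochainComplex A ℤ).homology n))
    (h1 : ∀ n : ℤ, ∃ p₁ : ℤ, ∀ p : ℤ, p ≤ p₁ →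
      IsIso (HomologicalComplex.homologyMap (K.fil p).arrow n)) :
    K.IsBounded 1 ∧ (∀ n : ℤ, (K.HFil n).IsFinite) ∧ K.Converges := by
  have hFin : ∀ n : ℤ, (K.HFil n).IsFinite := by
    intro n
    obtain ⟨a, ha⟩ := h0 n
    obtain ⟨b, hb⟩ := h1 n
    exact ⟨⟨b, filH_eq_top' K b n (hb b le_rfl)⟩, ⟨a, filH_eq_bot' K a n (ha a le_rfl)⟩⟩
  refine ⟨?_, hFin, converges_of K ?_ ?_ hFin⟩
  · intro n
    obtain ⟨a0, ha0⟩ := h0 n
    obtain ⟨a1, ha1⟩ := h0 (n + 1)
    obtain ⟨b0, hb0⟩ := h1 n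
    obtain ⟨b1, hb1⟩ := h1 (n + 1)
    refine Set.Finite.subset (Set.finite_Ioo (min b0 b1 - 1) (max a0 a1)) ?_
    intro p hp
    simp only [Set.mem_ofPred_eq] at hp
    rw [Set.mem_Ioo]
    by_contra hcon
    apply hp
    have hle : p ≤ p + 1 := by omega
    by_cases hlt : max a0 a1 ≤ p
    · have hz1 := ha1 (p + 1) (by omega)
      have hz2 := ha0 p (by omega)
      exact isZero_E_one K p n hle (mono_of_isZero_src hz1 _) (epi_of_isZero_tgt hz2 _)
    · have hp1 : p + 1 ≤ min b0 b1 := by omega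
      haveI := hb1 (p + 1) (by omega)
      exact isZero_E_one K p n hle inferInstance
        (epi_stepLE_of_iso K p n hle (hb0 (p + 1) (by omega)) (hb0 p (by omega)))
  · intro p n
    obtain ⟨a, ha⟩ := h0 (n + 1)
    refine ⟨max 1 (a - p).toNat, fun r hr =>
      le_antisymm (ZSub_le_ZTop K r ?_ p n (ha (p + r) ?_)) (ZTop_le_ZSub K r p n)⟩
    · omega
    · have := Int.self_le_toNat (a - p)
      omega
  · intro p n
    obtain ⟨b, hb⟩ := h1 n
    refine ⟨max 1 (p + 1 - b).toNat, fun r hr =>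
      le_antisymm (BSub_le_BBot K r p n) (BBot_le_BSub K r ?_ p n (hb (p - r + 1) ?_))⟩
    · omega
    · have := Int.self_le_toNat (p + 1 - b)
      omega

end Groth.Agent.Lib.SpSeqConvH4
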