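import Mathlib
import Groth.Prelude.Def_SpSeq
import Groth.Agent.Lib.AbSubobj_helper4
import Groth.Agent.Lib.SpSeqFin_helper4
import Groth.Agent.Lib.SpSeqConv_helper4

set_option autoImplicit false
set_option linter.style.haveILetI false
set_option linter.unusedSectionVars false

universe v u

open CategoryTheory CategoryTheory.Limits SpSeq

namespace Groth.Agent.Lib.SpSeqSerreH4

open Groth.Agent.Lib.SpSeqFinH4 Groth.Agent.Lib.SpSeqConvH4

variable {A : Type u} [Category.{v} A] [Abelian A]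

/-! ### weak Serre classes -/

section Serre

open ComposableArrows ZeroObject

variable (P : ObjectProperty A) [P.IsClosedUnderIsomorphisms] (h0 : ∃ Z : A, IsZero Z ∧ P Z)
  (hP : ∀ S : ComposableArrows A 4, S.Exact → P (S.obj 0) → P (S.obj 1) → P (S.obj 3) →
    P (S.obj 4) → P (S.obj 2))

include h0 in
lemma prop_of_isZero {Z : A} (hZ : IsZero Z) : P Z := by
  obtain ⟨Z₀, hZ₀, h⟩ := h0
  exact P.prop_of_iso (hZ₀.iso hZ) h

include hP in
lemma hP5 {X₀ X₁ X₂ X₃ X₄ : A} (f : X₀ ⟶ X₁) (g : X₁ ⟶ X₂) (h : X₂ ⟶ X₃) (k : X₃ ⟶ X₄)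
    (w₁ : f ≫ g = 0) (w₂ : g ≫ h = 0) (w₃ : h ≫ k = 0)
    (e₁ : (ShortComplex.mk f g w₁).Exact) (e₂ : (ShortComplex.mk g h w₂).Exact)
    (e₃ : (ShortComplex.mk h k w₃).Exact) (p0 : P X₀) (p1 : P X₁) (p3 : P X₃) (p4 : P X₄) :
    P X₂ := by
  let S : ComposableArrows A 4 := mk₄ f g h k
  have hS : S.Exact :=
    exact_of_δ₀ e₁.exact_toComposableArrows
      (exact_of_δ₀ e₂.exact_toComposableArrows e₃.exact_toComposableArrows)
  exact hP S hS p0 p1 p3 p4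

include h0 hP in
lemma prop_X₁_of_shortExact (S : ShortComplex A) (hS : S.ShortExact) (h2 : P S.X₂)
    (h3 : P S.X₃) : P S.X₁ := by
  have hZ : P (0 : A) := prop_of_isZero P h0 (isZero_zero A)
  have w₁ : (0 : (0 : A) ⟶ (0 : A)) ≫ (0 : (0 : A) ⟶ S.X₁) = 0 := comp_zero
  have w₂ : (0 : (0 : A) ⟶ S.X₁) ≫ S.f = 0 := zero_comp
  have e₁ : (ShortComplex.mk _ _ w₁).Exact :=
    ShortComplex.exact_of_isZero_X₂ _ (isZero_zero A)
  have e₂ : (ShortComplex.mk _ _ w₂).Exact := by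
    rw [ShortComplex.exact_iff_mono _ rfl]
    exact hS.mono_f
  exact hP5 P hP _ _ _ _ w₁ w₂ S.zero e₁ e₂ hS.exact hZ hZ h2 h3

include h0 hP in
lemma prop_X₃_of_shortExact (S : ShortComplex A) (hS : S.ShortExact) (h1 : P S.X₁)
    (h2 : P S.X₂) : P S.X₃ := by
  have hZ : P (0 : A) := prop_of_isZero P h0 (isZero_zero A)
  have w₂ : S.g ≫ (0 : S.X₃ ⟶ (0 : A)) = 0 := comp_zero
  have w₃ : (0 : S.X₃ ⟶ (0 : A)) ≫ (0 : (0 : A) ⟶ (0 : A)) = 0 := comp_zero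
  have e₂ : (ShortComplex.mk _ _ w₂).Exact := by
    rw [ShortComplex.exact_iff_epi _ rfl]
    exact hS.epi_g
  have e₃ : (ShortComplex.mk _ _ w₃).Exact :=
    ShortComplex.exact_of_isZero_X₂ _ (isZero_zero A)
  exact hP5 P hP _ _ _ _ S.zero w₂ w₃ hS.exact e₂ e₃ h1 h2 hZ hZ

include h0 hP in
lemma prop_X₂_of_shortExact (S : ShortComplex A) (hS : S.ShortExact) (h1 : P S.X₁)
    (h3 : P S.X₃) : P S.X₂ := by
  have hZ : P (0 : A) := prop_of_isZero P h0 (isZero_zero A)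
  have w₁ : (0 : (0 : A) ⟶ S.X₁) ≫ S.f = 0 := zero_comp
  have w₃ : S.g ≫ (0 : S.X₃ ⟶ (0 : A)) = 0 := comp_zero
  have e₁ : (ShortComplex.mk _ _ w₁).Exact := by
    rw [ShortComplex.exact_iff_mono _ rfl]
    exact hS.mono_f
  have e₃ : (ShortComplex.mk _ _ w₃).Exact := by
    rw [ShortComplex.exact_iff_epi _ rfl]
    exact hS.epi_g
  exact hP5 P hP _ _ _ _ w₁ S.zero w₃ e₁ hS.exact e₃ hZ h1 h3 hZ

include h0 hP in
/-- two short exact sequences glued along an isomorphism `S₁.X₃ ≅ S₂.X₁` -/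
lemma prop_of_two_ses (S₁ S₂ : ShortComplex A) (h₁ : S₁.ShortExact) (h₂ : S₂.ShortExact)
    (θ : S₁.X₃ ≅ S₂.X₁) (hE : P S₁.X₂) (hE' : P S₂.X₂) : P S₁.X₃ ∧ P S₂.X₃ := by
  haveI := h₁.mono_f
  haveI := h₁.epi_g
  haveI := h₂.mono_f
  haveI := h₂.epi_g
  have hZ : P (0 : A) := prop_of_isZero P h0 (isZero_zero A)
  obtain ⟨δ, hδ⟩ : ∃ δ : S₁.X₂ ⟶ S₂.X₂, δ = S₁.g ≫ θ.hom ≫ S₂.f := ⟨_, rfl⟩
  have wδ : S₁.f ≫ δ = 0 := by rw [hδ, ← Category.assoc, S₁.zero, zero_comp]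
  have wδ' : δ ≫ S₂.g = 0 := by
    rw [hδ, Category.assoc, Category.assoc, S₂.zero, comp_zero, comp_zero]
  have eδ : (ShortComplex.mk S₁.f δ wδ).Exact := by
    let φ : S₁ ⟶ ShortComplex.mk S₁.f δ wδ :=
      { τ₁ := 𝟙 _
        τ₂ := 𝟙 _
        τ₃ := θ.hom ≫ S₂.f
        comm₁₂ := by simp
        comm₂₃ := by simp [hδ] }
    haveI : Epi φ.τ₁ := by dsimp [φ]; infer_instance
    haveI : IsIso φ.τ₂ := by dsimp [φ]; infer_instance
    haveI : Mono φ.τ₃ := by dsimp [φ]; infer_instance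
    exact (ShortComplex.exact_iff_of_epi_of_isIso_of_mono φ).1 h₁.exact
  have eδ' : (ShortComplex.mk δ S₂.g wδ').Exact := by
    let φ : ShortComplex.mk δ S₂.g wδ' ⟶ S₂ :=
      { τ₁ := S₁.g ≫ θ.hom
        τ₂ := 𝟙 _
        τ₃ := 𝟙 _
        comm₁₂ := by simp [hδ]
        comm₂₃ := by simp }
    haveI : Epi φ.τ₁ := by dsimp [φ]; infer_instance
    haveI : IsIso φ.τ₂ := by dsimp [φ]; infer_instance
    haveI : Mono φ.τ₃ := by dsimp [φ]; infer_instance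
    exact (ShortComplex.exact_iff_of_epi_of_isIso_of_mono φ).2 h₂.exact
  have hK : P S₁.X₁ := by
    have w₁ : (0 : (0 : A) ⟶ (0 : A)) ≫ (0 : (0 : A) ⟶ S₁.X₁) = 0 := comp_zero
    have w₂ : (0 : (0 : A) ⟶ S₁.X₁) ≫ S₁.f = 0 := zero_comp
    have e₁ : (ShortComplex.mk _ _ w₁).Exact :=
      ShortComplex.exact_of_isZero_X₂ _ (isZero_zero A)
    have e₂ : (ShortComplex.mk _ _ w₂).Exact := by
      rw [ShortComplex.exact_iff_mono _ rfl]
      exact h₁.mono_f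
    exact hP5 P hP _ _ _ _ w₁ w₂ wδ e₁ e₂ eδ hZ hZ hE hE'
  have hQ : P S₁.X₃ := prop_X₃_of_shortExact P h0 hP S₁ h₁ hK hE
  have hC : P S₂.X₃ := by
    have w₂ : S₂.g ≫ (0 : S₂.X₃ ⟶ (0 : A)) = 0 := comp_zero
    have w₃ : (0 : S₂.X₃ ⟶ (0 : A)) ≫ (0 : (0 : A) ⟶ (0 : A)) = 0 := comp_zero
    have e₂ : (ShortComplex.mk _ _ w₂).Exact := by
      rw [ShortComplex.exact_iff_epi _ rfl]
      exact h₂.epi_g
    have e₃ : (ShortComplex.mk _ _ w₃).Exact :=
      ShortComplex.exact_of_isZero_X₂ _ (isZero_zero A)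
    exact hP5 P hP _ _ _ _ wδ' w₂ w₃ eδ' e₂ e₃ hE hE' hZ hZ
  exact ⟨hQ, hC⟩

end Serre

/-! ### subquotients -/

section Subquot

variable {X : A}

/-- the projection `Z ⟶ Z / B` -/
noncomputable def sqπ (Z B : Subobject X) (h : B ≤ Z) : (Z : A) ⟶ subquot Z B h :=
  cokernel.π (B.ofLE Z h)

instance (Z B : Subobject X) (h : B ≤ Z) : Epi (sqπ Z B h) :=
  show Epi (cokernel.π (B.ofLE Z h)) from inferInstance

lemma ofLE_sqπ (Z B : Subobject X) (h : B ≤ Z) : B.ofLE Z h ≫ sqπ Z B h = 0 :=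
  cokernel.condition _

lemma sqπ_eq_zero_iff (Z B : Subobject X) (h : B ≤ Z) {T : A} (y : T ⟶ (Z : A)) :
    y ≫ sqπ Z B h = 0 ↔ B.Factors (y ≫ Z.arrow) := by
  constructor
  · intro hy
    have e : Abelian.monoLift (B.ofLE Z h) y hy ≫ B.ofLE Z h = y := Abelian.monoLift_comp _ _ _
    rw [← e, Category.assoc, Subobject.ofLE_arrow]
    exact Subobject.factors_comp_arrow _
  · intro hy
    have e : B.factorThru _ hy ≫ B.ofLE Z h = y := by
      rw [← cancel_mono Z.arrow, Category.assoc, Subobject.ofLE_arrow,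
        Subobject.factorThru_arrow]
    rw [← e, Category.assoc, ofLE_sqπ, comp_zero]

lemma sup_factors_refine (S T : Subobject X) {W : A} (x : W ⟶ X) (h : (S ⊔ T).Factors x) :
    ∃ (W' : A) (π : W' ⟶ W) (_ : Epi π) (s : W' ⟶ (S : A)) (t : W' ⟶ (T : A)),
      π ≫ x = s ≫ S.arrow + t ≫ T.arrow := by
  rw [AbSubobjH4.sup_eq_image] at h
  obtain ⟨W', π, hπ, z, hz⟩ := image_factors_refine _ x h
  refine ⟨W', π, hπ, z ≫ biprod.fst, z ≫ biprod.snd, ?_⟩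
  rw [hz, biprod.desc_eq, Preadditive.comp_add]
  simp only [Category.assoc]

lemma factors_pullback_of {Y W : A} (f : X ⟶ Y) (T : Subobject Y) (x : W ⟶ X)
    (h : T.Factors (x ≫ f)) : ((Subobject.pullback f).obj T).Factors x := by
  rw [Subobject.pullback_obj, mk_factors_iff']
  exact ⟨pullback.lift (T.factorThru _ h) x (Subobject.factorThru_arrow _ _ _),
    pullback.lift_snd _ _ _⟩

lemma epi_ofLE_sqπ (S Z B : Subobject X) (hS : S ≤ Z) (hB : B ≤ Z) (hZ : Z ≤ S ⊔ B) :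
    Epi (S.ofLE Z hS ≫ sqπ Z B hB) := by
  rw [epi_iff_surjective_up_to_refinements]
  intro T y
  obtain ⟨T₁, π₁, hπ₁, z, hz⟩ := surjective_up_to_refinements_of_epi (sqπ Z B hB) y
  have hfac : (S ⊔ B).Factors (z ≫ Z.arrow) :=
    Subobject.factors_of_le _ hZ (Subobject.factors_comp_arrow _)
  obtain ⟨T₂, π₂, hπ₂, s, b, hsb⟩ := sup_factors_refine S B _ hfac
  haveI := hπ₁
  haveI := hπ₂
  refine ⟨T₂, π₂ ≫ π₁, epi_comp _ _, s, ?_⟩
  have e : π₂ ≫ z = s ≫ S.ofLE Z hS + b ≫ B.ofLE Z hB := by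
    rw [← cancel_mono Z.arrow, Category.assoc, hsb, Preadditive.add_comp, Category.assoc,
      Category.assoc, Subobject.ofLE_arrow, Subobject.ofLE_arrow]
  rw [Category.assoc, hz, ← Category.assoc, e, Preadditive.add_comp, Category.assoc,
    Category.assoc, ofLE_sqπ, comp_zero, add_zero]

lemma nonempty_iso_of_epis {W Q R : A} (α : W ⟶ Q) (β : W ⟶ R) [Epi α] [Epi β]
    (h : ∀ {T : A} (x : T ⟶ W), x ≫ α = 0 ↔ x ≫ β = 0) : Nonempty (Q ≅ R) := by
  have h1 : kernel.ι α ≫ β = 0 := (h _).1 (kernel.condition α)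
  have h2 : kernel.ι β ≫ α = 0 := (h _).2 (kernel.condition β)
  refine ⟨⟨Abelian.epiDesc α β h1, Abelian.epiDesc β α h2, ?_, ?_⟩⟩
  · rw [← cancel_epi α, ← Category.assoc, Abelian.comp_epiDesc, Abelian.comp_epiDesc,
      Category.comp_id]
  · rw [← cancel_epi β, ← Category.assoc, Abelian.comp_epiDesc, Abelian.comp_epiDesc,
      Category.comp_id]

lemma subquot_iso_of_eq {Z Z' B B' : Subobject X} (hZ : Z = Z') (hB : B = B') (h : B ≤ Z)
    (h' : B' ≤ Z') : Nonempty (subquot Z B h ≅ subquot Z' B' h') := by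
  subst hZ hB
  exact ⟨Iso.refl _⟩

lemma ses_subquot (B M Z : Subobject X) (hBM : B ≤ M) (hMZ : M ≤ Z) :
    ∃ (i : subquot M B hBM ⟶ subquot Z B (hBM.trans hMZ))
      (q : subquot Z B (hBM.trans hMZ) ⟶ subquot Z M hMZ) (w : i ≫ q = 0),
      (ShortComplex.mk i q w).ShortExact := by
  have hi0 : B.ofLE M hBM ≫ (M.ofLE Z hMZ ≫ sqπ Z B (hBM.trans hMZ)) = 0 := by
    rw [← Category.assoc, Subobject.ofLE_comp_ofLE]
    exact ofLE_sqπ _ _ _
  obtain ⟨i, hi⟩ : ∃ i : subquot M B hBM ⟶ subquot Z B (hBM.trans hMZ),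
      sqπ M B hBM ≫ i = M.ofLE Z hMZ ≫ sqπ Z B (hBM.trans hMZ) :=
    ⟨cokernel.desc _ _ hi0, cokernel.π_desc _ _ _⟩
  have hq0 : B.ofLE Z (hBM.trans hMZ) ≫ sqπ Z M hMZ = 0 := by
    rw [← Subobject.ofLE_comp_ofLE B M Z hBM hMZ, Category.assoc, ofLE_sqπ, comp_zero]
  obtain ⟨q, hq⟩ : ∃ q : subquot Z B (hBM.trans hMZ) ⟶ subquot Z M hMZ,
      sqπ Z B (hBM.trans hMZ) ≫ q = sqπ Z M hMZ :=
    ⟨cokernel.desc _ _ hq0, cokernel.π_desc _ _ _⟩
  have w : i ≫ q = 0 := by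
    rw [← cancel_epi (sqπ M B hBM), ← Category.assoc, hi, Category.assoc, hq, comp_zero,
      ofLE_sqπ]
  refine ⟨i, q, w, ?_⟩
  haveI : Epi q := epi_of_epi_fac hq
  haveI : Mono i := by
    apply Preadditive.mono_of_cancel_zero
    intro T x hx
    obtain ⟨T₁, π₁, hπ₁, m, hm⟩ := surjective_up_to_refinements_of_epi (sqπ M B hBM) x
    have h1 : (m ≫ M.ofLE Z hMZ) ≫ sqπ Z B (hBM.trans hMZ) = 0 := by
      rw [Category.assoc, ← hi, ← Category.assoc, ← hm, Category.assoc, hx, comp_zero]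
    rw [sqπ_eq_zero_iff, Category.assoc, Subobject.ofLE_arrow] at h1
    have h3 : m ≫ sqπ M B hBM = 0 := (sqπ_eq_zero_iff M B hBM m).2 h1
    haveI := hπ₁
    rw [← cancel_epi π₁, hm, h3, comp_zero]
  refine ShortComplex.ShortExact.mk' ?_ inferInstance inferInstance
  rw [ShortComplex.exact_iff_exact_up_to_refinements]
  intro T x hx
  dsimp at hx ⊢
  obtain ⟨T₁, π₁, hπ₁, z, hz⟩ :=
    surjective_up_to_refinements_of_epi (sqπ Z B (hBM.trans hMZ)) x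
  have h1 : z ≫ sqπ Z M hMZ = 0 := by
    rw [← hq, ← Category.assoc, ← hz, Category.assoc, hx, comp_zero]
  rw [sqπ_eq_zero_iff] at h1
  refine ⟨T₁, π₁, hπ₁, M.factorThru _ h1 ≫ sqπ M B hBM, ?_⟩
  have e : M.factorThru _ h1 ≫ M.ofLE Z hMZ = z := by
    rw [← cancel_mono Z.arrow, Category.assoc, Subobject.ofLE_arrow, Subobject.factorThru_arrow]
  rw [Category.assoc, hi, ← Category.assoc, e, hz]

/-- the abstract isomorphism induced by a "differential" `d` -/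
lemma dIso_aux {Y : A} (d : X ⟶ Y) (Fp Fp1 : Subobject X) (hF : Fp1 ≤ Fp) (Gq Gq1 : Subobject Y)
    (hG : Gq1 ≤ Gq) (W W1 : Subobject X) (V V1 : Subobject Y)
    (hW : W = Fp ⊓ (Subobject.pullback d).obj Gq)
    (hW1 : W1 = Fp ⊓ (Subobject.pullback d).obj Gq1)
    (hV : V = Gq ⊓ imageSubobject (Fp.arrow ≫ d))
    (hV1 : V1 = Gq ⊓ imageSubobject (Fp1.arrow ≫ d))
    (hZ : W1 ⊔ Fp1 ≤ W ⊔ Fp1) (hB : V1 ⊔ Gq1 ≤ V ⊔ Gq1) :
    Nonempty (subquot _ _ hZ ≅ subquot _ _ hB) := by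
  have hVG : V ≤ Gq := by rw [hV]; exact inf_le_left
  have hVI : V ≤ imageSubobject (Fp.arrow ≫ d) := by rw [hV]; exact inf_le_right
  have hV1I : V1 ≤ imageSubobject (Fp1.arrow ≫ d) := by rw [hV1]; exact inf_le_right
  have hW1P : W1 ≤ (Subobject.pullback d).obj Gq1 := by rw [hW1]; exact inf_le_right
  -- basic facts on `W`
  have hWF : Fp.Factors W.arrow := by
    rw [hW]
    exact Subobject.factors_of_le _ inf_le_left (Subobject.factors_self _)
  have hWG : Gq.Factors (W.arrow ≫ d) := by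
    apply Groth.Agent.Lib.SpSeqConvH4.pullback_factors
    rw [hW]
    exact Subobject.factors_of_le _ inf_le_right (Subobject.factors_self _)
  have hWI : (imageSubobject (Fp.arrow ≫ d)).Factors (W.arrow ≫ d) := by
    have e : W.arrow = Fp.factorThru _ hWF ≫ Fp.arrow := (Subobject.factorThru_arrow _ _ _).symm
    rw [e, Category.assoc]
    exact imageSubobject_factors_comp_self _ _
  have hWV : V.Factors (W.arrow ≫ d) := by
    rw [hV, Subobject.inf_factors]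
    exact ⟨hWG, hWI⟩
  have hfac : (V ⊔ Gq1).Factors (W.arrow ≫ d) := Subobject.factors_of_le _ le_sup_left hWV
  -- the two epimorphisms
  obtain ⟨α, hα⟩ : ∃ α : (W : A) ⟶ subquot (W ⊔ Fp1) (W1 ⊔ Fp1) hZ,
      α = W.ofLE (W ⊔ Fp1) le_sup_left ≫ sqπ _ _ hZ := ⟨_, rfl⟩
  obtain ⟨β, hβ⟩ : ∃ β : (W : A) ⟶ subquot (V ⊔ Gq1) (V1 ⊔ Gq1) hB,
      β = (V ⊔ Gq1).factorThru _ hfac ≫ sqπ _ _ hB := ⟨_, rfl⟩
  haveI : Epi α := by
    rw [hα]
    exact epi_ofLE_sqπ W (W ⊔ Fp1) (W1 ⊔ Fp1) le_sup_left hZ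
      (sup_le_sup_left le_sup_right _)
  have hαz : ∀ {T : A} (x : T ⟶ (W : A)), x ≫ α = 0 ↔ (W1 ⊔ Fp1).Factors (x ≫ W.arrow) := by
    intro T x
    rw [hα, ← Category.assoc, sqπ_eq_zero_iff, Category.assoc, Subobject.ofLE_arrow]
  have hβz : ∀ {T : A} (x : T ⟶ (W : A)),
      x ≫ β = 0 ↔ (V1 ⊔ Gq1).Factors (x ≫ W.arrow ≫ d) := by
    intro T x
    rw [hβ, ← Category.assoc, sqπ_eq_zero_iff, Category.assoc, Subobject.factorThru_arrow]
  haveI : Epi β := by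
    rw [epi_iff_surjective_up_to_refinements]
    intro T y
    obtain ⟨T₁, π₁, hπ₁, z, hz⟩ := surjective_up_to_refinements_of_epi (sqπ _ _ hB) y
    obtain ⟨T₂, π₂, hπ₂, v, g, hvg⟩ := sup_factors_refine V Gq1 (z ≫ (V ⊔ Gq1).arrow)
      (Subobject.factors_comp_arrow _)
    have hvI : (imageSubobject (Fp.arrow ≫ d)).Factors (v ≫ V.arrow) :=
      Subobject.factors_of_le _ hVI (Subobject.factors_comp_arrow _)
    have hvG : Gq.Factors (v ≫ V.arrow) :=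
      Subobject.factors_of_le _ hVG (Subobject.factors_comp_arrow _)
    obtain ⟨T₃, π₃, hπ₃, f, hf⟩ := image_factors_refine _ _ hvI
    -- hf : π₃ ≫ v ≫ V.arrow = f ≫ Fp.arrow ≫ d
    have hx₀W : W.Factors (f ≫ Fp.arrow) := by
      rw [hW, Subobject.inf_factors]
      refine ⟨Subobject.factors_comp_arrow _, factors_pullback_of d Gq _ ?_⟩
      rw [Category.assoc, ← hf]
      exact Subobject.factors_of_factors_right _ hvG
    haveI := hπ₁
    haveI := hπ₂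
    haveI := hπ₃
    refine ⟨T₃, π₃ ≫ π₂ ≫ π₁, inferInstance, W.factorThru _ hx₀W, ?_⟩
    have hdiff : (π₃ ≫ π₂ ≫ z - W.factorThru _ hx₀W ≫ (V ⊔ Gq1).factorThru _ hfac) ≫
        sqπ _ _ hB = 0 := by
      rw [sqπ_eq_zero_iff, Preadditive.sub_comp]
      simp only [Category.assoc]
      rw [Subobject.factorThru_arrow, hvg, ← Category.assoc (W.factorThru _ hx₀W),
        Subobject.factorThru_arrow, Category.assoc, ← hf, Preadditive.comp_add,
        add_sub_cancel_left]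
      exact Subobject.factors_of_factors_right _
        (Subobject.factors_of_le _ le_sup_right (Subobject.factors_comp_arrow _))
    rw [Preadditive.sub_comp, sub_eq_zero] at hdiff
    rw [hβ, ← Category.assoc (W.factorThru _ hx₀W), ← hdiff]
    simp only [Category.assoc]
    rw [hz]
  refine nonempty_iso_of_epis α β ?_
  intro T x
  rw [hαz, hβz]
  have hxF : Fp.Factors (x ≫ W.arrow) := Subobject.factors_of_factors_right _ hWF
  have hxG : Gq.Factors (x ≫ W.arrow ≫ d) := Subobject.factors_of_factors_right _ hWG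
  constructor
  · intro h
    obtain ⟨T₁, π₁, hπ₁, a, f, haf⟩ := sup_factors_refine W1 Fp1 _ h
    haveI := hπ₁
    apply factors_of_epi_comp _ π₁
    have e : π₁ ≫ x ≫ W.arrow ≫ d = (f ≫ Fp1.arrow) ≫ d + (a ≫ W1.arrow) ≫ d := by
      rw [← Preadditive.add_comp, add_comm, ← haf]
      simp only [Category.assoc]
    have h1 : Gq1.Factors ((a ≫ W1.arrow) ≫ d) := by
      apply Groth.Agent.Lib.SpSeqConvH4.pullback_factors
      exact Subobject.factors_of_le _ hW1P (Subobject.factors_comp_arrow _)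
    have h2 : (imageSubobject (Fp1.arrow ≫ d)).Factors ((f ≫ Fp1.arrow) ≫ d) := by
      rw [Category.assoc]
      exact imageSubobject_factors_comp_self _ _
    have h3 : Gq.Factors ((f ≫ Fp1.arrow) ≫ d) := by
      refine Subobject.factors_left_of_factors_add _ ((a ≫ W1.arrow) ≫ d) ?_
        (Subobject.factors_of_le _ hG h1)
      rw [← e]
      exact Subobject.factors_of_factors_right _ hxG
    rw [e]
    refine sup_factors_add _ _ _ _ ?_ h1
    rw [hV1, Subobject.inf_factors]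
    exact ⟨h3, h2⟩
  · intro h
    obtain ⟨T₁, π₁, hπ₁, b, g, hbg⟩ := sup_factors_refine V1 Gq1 _ h
    have hbI : (imageSubobject (Fp1.arrow ≫ d)).Factors (b ≫ V1.arrow) :=
      Subobject.factors_of_le _ hV1I (Subobject.factors_comp_arrow _)
    obtain ⟨T₂, π₂, hπ₂, f, hf⟩ := image_factors_refine _ _ hbI
    -- hf : π₂ ≫ b ≫ V1.arrow = f ≫ Fp1.arrow ≫ d
    haveI := hπ₁
    haveI := hπ₂
    haveI : Epi (π₂ ≫ π₁) := epi_comp _ _
    apply factors_of_epi_comp _ (π₂ ≫ π₁)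
    have e : (π₂ ≫ π₁) ≫ x ≫ W.arrow =
        ((π₂ ≫ π₁) ≫ x ≫ W.arrow + (-f) ≫ Fp1.arrow) + f ≫ Fp1.arrow := by
      rw [Preadditive.neg_comp]
      abel
    have hzd : ((π₂ ≫ π₁) ≫ x ≫ W.arrow + (-f) ≫ Fp1.arrow) ≫ d = π₂ ≫ g ≫ Gq1.arrow := by
      rw [Preadditive.add_comp, Preadditive.neg_comp, Preadditive.neg_comp]
      simp only [Category.assoc]
      rw [hbg, Preadditive.comp_add, hf]
      abel
    have h1 : W1.Factors ((π₂ ≫ π₁) ≫ x ≫ W.arrow + (-f) ≫ Fp1.arrow) := by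
      rw [hW1, Subobject.inf_factors]
      refine ⟨Subobject.factors_add _ _ (Subobject.factors_of_factors_right _ hxF)
        (Subobject.factors_of_le _ hF (Subobject.factors_comp_arrow _)), ?_⟩
      apply factors_pullback_of
      rw [hzd]
      exact Subobject.factors_of_factors_right _ (Subobject.factors_comp_arrow _)
    rw [e]
    exact sup_factors_add _ _ _ _ h1 (Subobject.factors_comp_arrow _)

lemma dIso {Y : A} (d : X ⟶ Y) (Fp Fp1 : Subobject X) (hF : Fp1 ≤ Fp) (Gq Gq1 : Subobject Y)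
    (hG : Gq1 ≤ Gq)
    (hZ : (Fp ⊓ (Subobject.pullback d).obj Gq1) ⊔ Fp1 ≤ (Fp ⊓ (Subobject.pullback d).obj Gq) ⊔ Fp1)
    (hB : (Gq ⊓ imageSubobject (Fp1.arrow ≫ d)) ⊔ Gq1 ≤
      (Gq ⊓ imageSubobject (Fp.arrow ≫ d)) ⊔ Gq1) :
    Nonempty (subquot _ _ hZ ≅ subquot _ _ hB) :=
  dIso_aux d Fp Fp1 hF Gq Gq1 hG _ _ _ _ rfl rfl rfl rfl hZ hB

/-- the abstract comparison of `E_∞` with the graded pieces of the filtration of cycles -/
lemma eInfIso_aux (Fp Fp1 Kd Im : Subobject X) (hF : Fp1 ≤ Fp) (hI : Im ≤ Kd) (W : Subobject X)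
    (hW : W = Fp ⊓ Kd)
    (hM : (Fp1 ⊓ Kd) ⊔ Im ≤ W ⊔ Im) (hE : (Fp ⊓ Im) ⊔ Fp1 ≤ W ⊔ Fp1) :
    Nonempty (subquot _ _ hE ≅ subquot _ _ hM) := by
  have hWF : Fp.Factors W.arrow := by
    rw [hW]
    exact Subobject.factors_of_le _ inf_le_left (Subobject.factors_self _)
  have hWK : Kd.Factors W.arrow := by
    rw [hW]
    exact Subobject.factors_of_le _ inf_le_right (Subobject.factors_self _)
  obtain ⟨α, hα⟩ : ∃ α : (W : A) ⟶ subquot (W ⊔ Fp1) ((Fp ⊓ Im) ⊔ Fp1) hE,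
      α = W.ofLE (W ⊔ Fp1) le_sup_left ≫ sqπ _ _ hE := ⟨_, rfl⟩
  obtain ⟨β, hβ⟩ : ∃ β : (W : A) ⟶ subquot (W ⊔ Im) ((Fp1 ⊓ Kd) ⊔ Im) hM,
      β = W.ofLE (W ⊔ Im) le_sup_left ≫ sqπ _ _ hM := ⟨_, rfl⟩
  haveI : Epi α := by
    rw [hα]
    exact epi_ofLE_sqπ W (W ⊔ Fp1) _ le_sup_left hE (sup_le_sup_left le_sup_right _)
  haveI : Epi β := by
    rw [hβ]
    exact epi_ofLE_sqπ W (W ⊔ Im) _ le_sup_left hM (sup_le_sup_left le_sup_right _)
  refine nonempty_iso_of_epis α β ?_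
  intro T x
  rw [hα, hβ, ← Category.assoc, ← Category.assoc, sqπ_eq_zero_iff, sqπ_eq_zero_iff,
    Category.assoc, Category.assoc, Subobject.ofLE_arrow, Subobject.ofLE_arrow]
  have hxF : Fp.Factors (x ≫ W.arrow) := Subobject.factors_of_factors_right _ hWF
  have hxK : Kd.Factors (x ≫ W.arrow) := Subobject.factors_of_factors_right _ hWK
  constructor
  · intro h
    obtain ⟨T₁, π₁, hπ₁, b, f, hbf⟩ := sup_factors_refine (Fp ⊓ Im) Fp1 _ h
    haveI := hπ₁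
    apply factors_of_epi_comp _ π₁
    have hb : (Fp ⊓ Im).Factors (b ≫ (Fp ⊓ Im).arrow) := Subobject.factors_comp_arrow _
    rw [Subobject.inf_factors] at hb
    have hfK : Kd.Factors (f ≫ Fp1.arrow) := by
      refine Subobject.factors_right_of_factors_add (b ≫ (Fp ⊓ Im).arrow) _ ?_
        (Subobject.factors_of_le _ hI hb.2)
      rw [← hbf]
      exact Subobject.factors_of_factors_right _ hxK
    rw [hbf, add_comm]
    refine sup_factors_add _ _ _ _ ?_ hb.2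
    rw [Subobject.inf_factors]
    exact ⟨Subobject.factors_comp_arrow _, hfK⟩
  · intro h
    obtain ⟨T₁, π₁, hπ₁, a, c, hac⟩ := sup_factors_refine (Fp1 ⊓ Kd) Im _ h
    haveI := hπ₁
    apply factors_of_epi_comp _ π₁
    have ha : (Fp1 ⊓ Kd).Factors (a ≫ (Fp1 ⊓ Kd).arrow) := Subobject.factors_comp_arrow _
    rw [Subobject.inf_factors] at ha
    have hcF : Fp.Factors (c ≫ Im.arrow) := by
      refine Subobject.factors_right_of_factors_add (a ≫ (Fp1 ⊓ Kd).arrow) _ ?_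
        (Subobject.factors_of_le _ hF ha.1)
      rw [← hac]
      exact Subobject.factors_of_factors_right _ hxF
    rw [hac, add_comm]
    refine sup_factors_add _ _ _ _ ?_ ha.1
    rw [Subobject.inf_factors]
    exact ⟨hcF, Subobject.factors_comp_arrow _⟩

lemma eInfIso (Fp Fp1 Kd Im : Subobject X) (hF : Fp1 ≤ Fp) (hI : Im ≤ Kd)
    (hM : (Fp1 ⊓ Kd) ⊔ Im ≤ (Fp ⊓ Kd) ⊔ Im) (hE : (Fp ⊓ Im) ⊔ Fp1 ≤ (Fp ⊓ Kd) ⊔ Fp1) :
    Nonempty (subquot _ _ hE ≅ subquot _ _ hM) :=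
  eInfIso_aux Fp Fp1 Kd Im hF hI _ rfl hM hE

end Subquot

/-! ### homology as a subquotient -/

lemma image_le_kernel (K : CochainComplex A ℤ) (n : ℤ) :
    imageSubobject (K.d (n - 1) n) ≤ kernelSubobject (K.d n (n + 1)) :=
  le_kernelSubobject _ _ (imageSubobject_arrow_comp_eq_zero (by simp))

lemma homology_iso (K : CochainComplex A ℤ) (n : ℤ) :
    Nonempty (K.homology n ≅ subquot (kernelSubobject (K.d n (n + 1)))
      (imageSubobject (K.d (n - 1) n)) (image_le_kernel K n)) := by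
  obtain ⟨β, hβ⟩ : ∃ β : K.cycles n ⟶ subquot (kernelSubobject (K.d n (n + 1)))
      (imageSubobject (K.d (n - 1) n)) (image_le_kernel K n),
      β = factorThruKernelSubobject (K.d n (n + 1)) (K.iCycles n) (K.iCycles_d n (n + 1)) ≫
        sqπ _ _ (image_le_kernel K n) := ⟨_, rfl⟩
  haveI : Epi β := by
    rw [epi_iff_surjective_up_to_refinements]
    intro T y
    obtain ⟨T₁, π₁, hπ₁, z, hz⟩ :=
      surjective_up_to_refinements_of_epi (sqπ _ _ (image_le_kernel K n)) y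
    have hzd : (z ≫ (kernelSubobject (K.d n (n + 1))).arrow) ≫ K.d n (n + 1) = 0 := by
      rw [Category.assoc, kernelSubobject_arrow_comp, comp_zero]
    refine ⟨T₁, π₁, hπ₁, K.liftCycles _ (n + 1) (by simp) hzd, ?_⟩
    have e : K.liftCycles _ (n + 1) (by simp) hzd ≫
        factorThruKernelSubobject (K.d n (n + 1)) (K.iCycles n) (K.iCycles_d n (n + 1)) = z := by
      rw [← cancel_mono (kernelSubobject (K.d n (n + 1))).arrow, Category.assoc,
        factorThruKernelSubobject_comp_arrow, HomologicalComplex.liftCycles_i]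
    rw [hβ, ← Category.assoc, e, hz]
  refine nonempty_iso_of_epis (K.homologyπ n) β ?_
  intro T x
  rw [hβ, ← Category.assoc, sqπ_eq_zero_iff, Category.assoc,
    factorThruKernelSubobject_comp_arrow,
    K.comp_homologyπ_eq_zero_iff_up_to_refinements (n - 1) n (by simp) x]
  constructor
  · rintro ⟨T₁, π₁, hπ₁, u, hu⟩
    haveI := hπ₁
    apply factors_of_epi_comp _ π₁
    rw [← Category.assoc, hu, Category.assoc, HomologicalComplex.toCycles_i]
    exact imageSubobject_factors_comp_self _ _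
  · intro h
    obtain ⟨T₁, π₁, hπ₁, u, hu⟩ := image_factors_refine _ _ h
    refine ⟨T₁, π₁, hπ₁, u, ?_⟩
    rw [← cancel_mono (K.iCycles n), Category.assoc, Category.assoc,
      HomologicalComplex.toCycles_i, hu]

/-! ### the spectral sequence of a filtered complex -/

section Main

lemma ZSub_succ_le (K : FilCx A) (r : ℕ) (p n : ℤ) : K.ZSub (r + 1) p n ≤ K.ZSub r p n := by
  unfold SpSeq.FilCx.ZSub
  refine sup_le_sup_right (inf_le_inf_left _ ?_) _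
  have h : K.filX (p + ((r + 1 : ℕ) : ℤ)) (n + 1) ≤ K.filX (p + (r : ℤ)) (n + 1) :=
    K.filX_anti (n + 1) (by push_cast; omega)
  exact ((Subobject.pullback _).map (homOfLE h)).le

lemma BSub_le_succ (K : FilCx A) (r : ℕ) (p n : ℤ) : K.BSub r p n ≤ K.BSub (r + 1) p n := by
  unfold SpSeq.FilCx.BSub
  refine sup_le_sup_right (inf_le_inf_left _ ?_) _
  have h : K.filX (p - (r : ℤ) + 1) (n - 1) ≤ K.filX (p - ((r + 1 : ℕ) : ℤ) + 1) (n - 1) :=
    K.filX_anti (n - 1) (by push_cast; omega)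
  exact AbSubobjH4.image_comp_mono h _

lemma ZSub_eq (K : FilCx A) (r : ℕ) (p i j q : ℤ) (hij : i + 1 = j) (hq : p + r = q) :
    K.ZSub r p i = (K.filX p i ⊓ (Subobject.pullback (K.obj.d i j)).obj (K.filX q j)) ⊔
      K.filX (p + 1) i := by
  subst hij hq
  rfl

lemma BSub_eq (K : FilCx A) (r : ℕ) (p i j q : ℤ) (hij : j - 1 = i) (hq : p - r + 1 = q) :
    K.BSub r p j = (K.filX p j ⊓ imageSubobject ((K.filX q i).arrow ≫ K.obj.d i j)) ⊔
      K.filX (p + 1) j := by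
  subst hij hq
  rfl

lemma dIso_concrete (K : FilCx A) (r : ℕ) (p n p₂ n₂ : ℤ) (hp : p + r = p₂) (hn : n + 1 = n₂) :
    Nonempty (subquot (K.ZSub r p n) (K.ZSub (r + 1) p n) (ZSub_succ_le K r p n) ≅
      subquot (K.BSub (r + 1) p₂ n₂) (K.BSub r p₂ n₂) (BSub_le_succ K r p₂ n₂)) := by
  have e1 := ZSub_eq K r p n n₂ p₂ hn hp
  have e2 := ZSub_eq K (r + 1) p n n₂ (p₂ + 1) hn (by push_cast; omega)
  have e3 := BSub_eq K (r + 1) p₂ n n₂ p (by omega) (by push_cast; omega)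
  have e4 := BSub_eq K r p₂ n n₂ (p + 1) (by omega) (by omega)
  have hF : K.filX (p + 1) n ≤ K.filX p n := K.filX_anti n (by omega)
  have hG : K.filX (p₂ + 1) n₂ ≤ K.filX p₂ n₂ := K.filX_anti n₂ (by omega)
  have hZ' : (K.filX p n ⊓ (Subobject.pullback (K.obj.d n n₂)).obj (K.filX (p₂ + 1) n₂)) ⊔
      K.filX (p + 1) n ≤ (K.filX p n ⊓ (Subobject.pullback (K.obj.d n n₂)).obj (K.filX p₂ n₂)) ⊔
      K.filX (p + 1) n := by
    rw [← e1, ← e2]
    exact ZSub_succ_le K r p n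
  have hB' : (K.filX p₂ n₂ ⊓ imageSubobject ((K.filX (p + 1) n).arrow ≫ K.obj.d n n₂)) ⊔
      K.filX (p₂ + 1) n₂ ≤ (K.filX p₂ n₂ ⊓ imageSubobject ((K.filX p n).arrow ≫ K.obj.d n n₂)) ⊔
      K.filX (p₂ + 1) n₂ := by
    rw [← e3, ← e4]
    exact BSub_le_succ K r p₂ n₂
  obtain ⟨φ₁⟩ := subquot_iso_of_eq e1 e2 (ZSub_succ_le K r p n) hZ'
  obtain ⟨φ₂⟩ := dIso (K.obj.d n n₂) (K.filX p n) (K.filX (p + 1) n) hF (K.filX p₂ n₂)
    (K.filX (p₂ + 1) n₂) hG hZ' hB'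
  obtain ⟨φ₃⟩ := subquot_iso_of_eq e3 e4 (BSub_le_succ K r p₂ n₂) hB'
  exact ⟨φ₁ ≪≫ φ₂ ≪≫ φ₃.symm⟩

variable (P : ObjectProperty A) [P.IsClosedUnderIsomorphisms] (h0 : ∃ Z : A, IsZero Z ∧ P Z)
  (hP : ∀ S : ComposableArrows A 4, S.Exact → P (S.obj 0) → P (S.obj 1) → P (S.obj 3) →
    P (S.obj 4) → P (S.obj 2))

lemma prop_subquot_of_eq {X : A} {Z Z' B B' : Subobject X} (hZ : Z = Z') (hB : B = B')
    (h : B ≤ Z) (h' : B' ≤ Z') (hp : P (subquot Z B h)) : P (subquot Z' B' h') := by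
  subst hZ hB
  exact hp

include h0 hP in
lemma page1 (K : FilCx A) (r : ℕ) (hE : ∀ p n : ℤ, P (K.E r p n)) (p n p₂ n₂ : ℤ)
    (hp : p + r = p₂) (hn : n + 1 = n₂) :
    P (subquot (K.ZSub r p n) (K.ZSub (r + 1) p n) (ZSub_succ_le K r p n)) ∧
    P (subquot (K.ZSub r p₂ n₂) (K.BSub (r + 1) p₂ n₂)
      ((K.BSub_le_ZSub (r + 1) p₂ n₂).trans (ZSub_succ_le K r p₂ n₂))) := by
  obtain ⟨i₁, q₁, w₁, hS₁⟩ := ses_subquot (K.BSub r p n) (K.ZSub (r + 1) p n) (K.ZSub r p n)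
    ((BSub_le_succ K r p n).trans (K.BSub_le_ZSub (r + 1) p n)) (ZSub_succ_le K r p n)
  obtain ⟨i₂, q₂, w₂, hS₂⟩ := ses_subquot (K.BSub r p₂ n₂) (K.BSub (r + 1) p₂ n₂)
    (K.ZSub r p₂ n₂) (BSub_le_succ K r p₂ n₂)
    ((K.BSub_le_ZSub (r + 1) p₂ n₂).trans (ZSub_succ_le K r p₂ n₂))
  obtain ⟨θ⟩ := dIso_concrete K r p n p₂ n₂ hp hn
  exact prop_of_two_ses P h0 hP (ShortComplex.mk i₁ q₁ w₁) (ShortComplex.mk i₂ q₂ w₂) hS₁ hS₂ θ
    (hE p n) (hE p₂ n₂)

include h0 hP in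
lemma page_succ (K : FilCx A) (r : ℕ) (hE : ∀ p n : ℤ, P (K.E r p n)) :
    ∀ p n : ℤ, P (K.E (r + 1) p n) := by
  intro p n
  have h1 := (page1 P h0 hP K r hE p n (p + r) (n + 1) rfl rfl).1
  have h2 := (page1 P h0 hP K r hE (p - r) (n - 1) p n (by omega) (by omega)).2
  obtain ⟨i, q, w, hS⟩ := ses_subquot (K.BSub (r + 1) p n) (K.ZSub (r + 1) p n) (K.ZSub r p n)
    (K.BSub_le_ZSub (r + 1) p n) (ZSub_succ_le K r p n)
  exact prop_X₁_of_shortExact P h0 hP (ShortComplex.mk i q w) hS h2 h1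

include h0 hP in
lemma page_add (K : FilCx A) (r : ℕ) (hE : ∀ p n : ℤ, P (K.E r p n)) :
    ∀ (s : ℕ) (p n : ℤ), P (K.E (r + s) p n) := by
  intro s
  induction s with
  | zero => exact hE
  | succ s ih => exact page_succ P h0 hP K (r + s) ih

lemma BBot_le_ZTop (K : FilCx A) (p n : ℤ) : K.BBot p n ≤ K.ZTop p n :=
  sup_le_sup_right (inf_le_inf_left _ (image_le_kernel K.obj n)) _

include h0 hP in
lemma prop_EInf (K : FilCx A) (hK : ∀ n : ℤ, (K.XFil n).IsFinite) (r : ℕ)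
    (hE : ∀ p n : ℤ, P (K.E r p n)) (p n : ℤ) :
    P (subquot (K.ZTop p n) (K.BBot p n) (BBot_le_ZTop K p n)) := by
  obtain ⟨_, ⟨b, hb⟩⟩ := hK (n + 1)
  obtain ⟨⟨a, ha⟩, _⟩ := hK (n - 1)
  change K.filX b (n + 1) = ⊥ at hb
  change K.filX a (n - 1) = ⊤ at ha
  obtain ⟨s, hs⟩ : ∃ s : ℕ, s = (b - p).toNat + (p + 1 - a).toNat := ⟨_, rfl⟩
  have h1 : K.filX (p + ((r + s : ℕ) : ℤ)) (n + 1) = ⊥ :=
    filX_bot_of_le K hb (by push_cast; omega)
  have h2 : K.filX (p - ((r + s : ℕ) : ℤ) + 1) (n - 1) = ⊤ :=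
    filX_top_of_le K ha (by push_cast; omega)
  exact prop_subquot_of_eq P (ZSub_eq_ZTop K (r + s) p n h1) (BSub_eq_BBot K (r + s) p n h2)
    (K.BSub_le_ZSub (r + s) p n) (BBot_le_ZTop K p n) (page_add P h0 hP K r hE s p n)

/-- the filtration of the cycles by `F^p ∩ Ker d + Im d` -/
noncomputable def Mfil (K : FilCx A) (n p : ℤ) : Subobject (K.obj.X n) :=
  (K.filX p n ⊓ kernelSubobject (K.obj.d n (n + 1))) ⊔ imageSubobject (K.obj.d (n - 1) n)

lemma Mfil_anti (K : FilCx A) (n p : ℤ) : Mfil K n (p + 1) ≤ Mfil K n p :=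
  sup_le_sup_right (inf_le_inf_right _ (K.filX_anti n (by omega))) _

lemma im_le_Mfil (K : FilCx A) (n p : ℤ) : imageSubobject (K.obj.d (n - 1) n) ≤ Mfil K n p :=
  le_sup_right

include h0 hP in
theorem main6793 (K : FilCx A) (hK : ∀ n : ℤ, (K.XFil n).IsFinite) (r : ℕ)
    (hr : ∀ p n : ℤ, P (K.E r p n)) (n : ℤ) : P (K.obj.homology n) := by
  obtain ⟨⟨a, ha⟩, ⟨b, hb⟩⟩ := hK n
  change K.filX a n = ⊤ at ha
  change K.filX b n = ⊥ at hb
  -- graded pieces of `Mfil`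
  have hgr : ∀ p : ℤ, P (subquot (Mfil K n p) (Mfil K n (p + 1)) (Mfil_anti K n p)) := by
    intro p
    obtain ⟨φ⟩ := eInfIso (K.filX p n) (K.filX (p + 1) n) (kernelSubobject (K.obj.d n (n + 1)))
      (imageSubobject (K.obj.d (n - 1) n)) (K.filX_anti n (by omega)) (image_le_kernel K.obj n)
      (Mfil_anti K n p) (BBot_le_ZTop K p n)
    exact P.prop_of_iso φ (prop_EInf P h0 hP K hK r hr p n)
  -- induction
  have hind : ∀ k : ℕ, P (subquot (Mfil K n (b - k)) (imageSubobject (K.obj.d (n - 1) n))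
      (im_le_Mfil K n (b - k))) := by
    intro k
    induction k with
    | zero =>
      apply prop_of_isZero P h0
      apply isZero_subquot_of_eq
      have hb' : K.filX (b - ((0 : ℕ) : ℤ)) n = ⊥ := filX_bot_of_le K hb (by simp)
      unfold Mfil
      rw [hb', bot_inf_eq, bot_sup_eq]
    | succ k ih =>
      have e : b - ((k + 1 : ℕ) : ℤ) + 1 = b - (k : ℤ) := by push_cast; ring
      obtain ⟨i, q, w, hS⟩ := ses_subquot (imageSubobject (K.obj.d (n - 1) n))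
        (Mfil K n (b - ((k + 1 : ℕ) : ℤ) + 1)) (Mfil K n (b - ((k + 1 : ℕ) : ℤ)))
        (im_le_Mfil K n _) (Mfil_anti K n _)
      have ih' : P (subquot (Mfil K n (b - ((k + 1 : ℕ) : ℤ) + 1))
          (imageSubobject (K.obj.d (n - 1) n)) (im_le_Mfil K n _)) :=
        prop_subquot_of_eq P (congrArg (Mfil K n) e.symm) rfl _ _ ih
      exact prop_X₂_of_shortExact P h0 hP (ShortComplex.mk i q w) hS ih' (hgr _)
  have hfin := hind (b - a).toNat
  have htop : K.filX (b - (((b - a).toNat : ℕ) : ℤ)) n = ⊤ := filX_top_of_le K ha (by omega)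
  have hM : Mfil K n (b - (((b - a).toNat : ℕ) : ℤ)) = kernelSubobject (K.obj.d n (n + 1)) := by
    unfold Mfil
    rw [htop, top_inf_eq]
    exact sup_eq_left.2 (image_le_kernel K.obj n)
  obtain ⟨ψ⟩ := homology_iso K.obj n
  exact P.prop_of_iso ψ.symm
    (prop_subquot_of_eq P hM rfl _ (image_le_kernel K.obj n) hfin)

end Main

end Groth.Agent.Lib.SpSeqSerreH4
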