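import Mathlib
import Groth.Prelude.Def_SpSeq
import Groth.Agent.Lib.SpSeqSerre_helper4
import Groth.Agent.Lib.FilStrict_helper7

set_option autoImplicit false
set_option linter.style.haveILetI false
set_option linter.unusedSectionVars false

universe v u

open CategoryTheory CategoryTheory.Limits SpSeq

namespace Groth.Agent.Lib.FilObjPOH4

open Groth.Agent.Lib.SpSeqConvH4 Groth.Agent.Lib.SpSeqSerreH4

variable {A : Type u} [Category.{v} A] [Abelian A]

lemma le_pullback_iff {X Y : A} (S : Subobject X) (h : X ⟶ Y) (T : Subobject Y) :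
    S ≤ (Subobject.pullback h).obj T ↔ T.Factors (S.arrow ≫ h) := by
  constructor
  · intro hle
    exact Groth.Agent.Lib.SpSeqConvH4.pullback_factors h T S.arrow
      (Subobject.factors_of_le _ hle (Subobject.factors_self S))
  · intro hf
    exact AbSubobjH4.le_of_factors _ _ (factors_pullback_of h T S.arrow hf)

lemma image_factors_self {X Y : A} (u : X ⟶ Y) : (imageSubobject u).Factors u := by
  have := imageSubobject_factors_comp_self u (𝟙 X)
  rwa [Category.id_comp] at this

lemma image_le_of_factors {X Y : A} (u : X ⟶ Y) (T : Subobject Y) (h : T.Factors u) :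
    imageSubobject u ≤ T :=
  imageSubobject_le u (T.factorThru u h) (T.factorThru_arrow u h)

lemma compat_factors {K L : FilObj A} (f : K ⟶ L) (p : ℤ) :
    (L.fil p).Factors ((K.fil p).arrow ≫ f.hom) :=
  (le_pullback_iff _ _ _).1 (f.compat p)

lemma factors_comp_hom {K L : FilObj A} (f : K ⟶ L) (p : ℤ) {W : A} (x : W ⟶ K.obj)
    (hx : (K.fil p).Factors x) : (L.fil p).Factors (x ≫ f.hom) := by
  have e : x ≫ f.hom = (K.fil p).factorThru x hx ≫ (K.fil p).arrow ≫ f.hom := by
    rw [← Category.assoc, Subobject.factorThru_arrow]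
  rw [e]
  exact Subobject.factors_of_factors_right _ (compat_factors f p)

lemma isIso_hom_of_iso {P P' : FilObj A} (e : P ≅ P') : IsIso e.hom.hom :=
  ⟨⟨e.inv.hom, by exact congrArg FilObj.Hom.hom e.hom_inv_id,
    by exact congrArg FilObj.Hom.hom e.inv_hom_id⟩⟩

lemma iso_strict {P P' : FilObj A} (e : P ≅ P') : FilObj.IsStrict e.hom := by
  intro p
  haveI := isIso_hom_of_iso e
  rw [FilStrictH7.imageSubobject_of_epi e.hom.hom, top_inf_eq]
  apply le_antisymm
  · exact image_le_of_factors _ _ (compat_factors e.hom p)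
  · apply AbSubobjH4.le_of_factors
    have h1 := compat_factors e.inv p
    obtain ⟨t, ht⟩ : ∃ t : (P'.fil p : A) ⟶ (P.fil p : A),
        t ≫ (P.fil p).arrow = (P'.fil p).arrow ≫ e.inv.hom :=
      ⟨_, Subobject.factorThru_arrow _ _ h1⟩
    have hid : e.inv.hom ≫ e.hom.hom = 𝟙 _ := congrArg FilObj.Hom.hom e.inv_hom_id
    have e1 : (P'.fil p).arrow = t ≫ (P.fil p).arrow ≫ e.hom.hom := by
      rw [← Category.assoc, ht, Category.assoc, hid, Category.comp_id]
    rw [e1]
    exact imageSubobject_factors_comp_self _ _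

/-! ### Pushouts -/

section Pushout

variable {K L M : FilObj A} (f : K ⟶ L) (g : K ⟶ M)

noncomputable def poMap : K.obj ⟶ L.obj ⊞ M.obj := biprod.lift f.hom (-g.hom)

noncomputable abbrev poObj : A := cokernel (poMap f g)

noncomputable def poInl : L.obj ⟶ poObj f g := biprod.inl ≫ cokernel.π (poMap f g)

noncomputable def poInr : M.obj ⟶ poObj f g := biprod.inr ≫ cokernel.π (poMap f g)

lemma po_w : f.hom ≫ poInl f g = g.hom ≫ poInr f g := by
  have h : (f.hom ≫ biprod.inl + (-g.hom) ≫ biprod.inr) ≫ cokernel.π (poMap f g) = 0 := by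
    rw [← biprod.lift_eq]; exact cokernel.condition (poMap f g)
  simp only [Preadditive.add_comp, Preadditive.neg_comp, Category.assoc] at h
  rw [add_neg_eq_zero] at h
  exact h

lemma po_exact {T : A} (l : T ⟶ L.obj) (n : T ⟶ M.obj)
    (h : l ≫ poInl f g = n ≫ poInr f g) :
    ∃ (T' : A) (π : T' ⟶ T) (_ : Epi π) (k : T' ⟶ K.obj),
      k ≫ f.hom = π ≫ l ∧ k ≫ g.hom = π ≫ n := by
  have hz : (biprod.lift l (-n)) ≫ cokernel.π (poMap f g) = 0 := by
    rw [biprod.lift_eq]
    simp only [Preadditive.add_comp, Preadditive.neg_comp, Category.assoc]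
    rw [add_neg_eq_zero]
    exact h
  have hex : (ShortComplex.mk (poMap f g) (cokernel.π (poMap f g))
      (cokernel.condition _)).Exact := ShortComplex.exact_cokernel _
  obtain ⟨T', π, hπ, k, hk⟩ := hex.exact_up_to_refinements (biprod.lift l (-n)) hz
  have h1 : π ≫ l = k ≫ f.hom := by
    have := hk =≫ biprod.fst
    simpa [poMap] using this
  have h2 : π ≫ n = k ≫ g.hom := by
    have := hk =≫ biprod.snd
    simpa [poMap] using this
  exact ⟨T', π, hπ, k, h1.symm, h2.symm⟩

lemma po_hom_ext {Z : A} (u v : poObj f g ⟶ Z) (h1 : poInl f g ≫ u = poInl f g ≫ v)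
    (h2 : poInr f g ≫ u = poInr f g ≫ v) : u = v := by
  have : cokernel.π (poMap f g) ≫ u = cokernel.π (poMap f g) ≫ v := by
    apply biprod.hom_ext'
    · rw [← Category.assoc, ← Category.assoc]; exact h1
    · rw [← Category.assoc, ← Category.assoc]; exact h2
  exact (cancel_epi (cokernel.π (poMap f g))).1 this

noncomputable def poFil (p : ℤ) : Subobject (poObj f g) :=
  imageSubobject ((L.fil p).arrow ≫ poInl f g) ⊔ imageSubobject ((M.fil p).arrow ≫ poInr f g)

lemma poFil_anti : Antitone (poFil f g) := by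
  intro p q hpq
  exact sup_le_sup (AbSubobjH4.image_comp_mono (L.anti hpq) _)
    (AbSubobjH4.image_comp_mono (M.anti hpq) _)

noncomputable def poFO : FilObj A := ⟨poObj f g, poFil f g, poFil_anti f g⟩

lemma poInl_compat (p : ℤ) :
    L.fil p ≤ (Subobject.pullback (poInl f g)).obj (poFil f g p) := by
  rw [le_pullback_iff]
  unfold poFil
  exact Subobject.factors_of_le _ le_sup_left (image_factors_self _)

lemma poInr_compat (p : ℤ) :
    M.fil p ≤ (Subobject.pullback (poInr f g)).obj (poFil f g p) := by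
  rw [le_pullback_iff]
  unfold poFil
  exact Subobject.factors_of_le _ le_sup_right (image_factors_self _)

noncomputable def poInlHom : L ⟶ poFO f g := FilObj.Hom.mk (poInl f g) (poInl_compat f g)

noncomputable def poInrHom : M ⟶ poFO f g := FilObj.Hom.mk (poInr f g) (poInr_compat f g)

lemma po_w' : f ≫ poInlHom f g = g ≫ poInrHom f g :=
  FilObj.Hom.ext (by exact po_w f g)

noncomputable def poDesc {Q : FilObj A} (a : L ⟶ Q) (b : M ⟶ Q) (h : f ≫ a = g ≫ b) :
    poObj f g ⟶ Q.obj :=
  cokernel.desc (poMap f g) (biprod.desc a.hom b.hom) (by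
    have h' : f.hom ≫ a.hom = g.hom ≫ b.hom := congrArg FilObj.Hom.hom h
    unfold poMap
    rw [biprod.lift_desc, Preadditive.neg_comp, h', add_neg_cancel])

lemma poInl_desc {Q : FilObj A} (a : L ⟶ Q) (b : M ⟶ Q) (h : f ≫ a = g ≫ b) :
    poInl f g ≫ poDesc f g a b h = a.hom := by
  unfold poInl poDesc
  rw [Category.assoc, cokernel.π_desc, biprod.inl_desc]

lemma poInr_desc {Q : FilObj A} (a : L ⟶ Q) (b : M ⟶ Q) (h : f ≫ a = g ≫ b) :
    poInr f g ≫ poDesc f g a b h = b.hom := by
  unfold poInr poDesc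
  rw [Category.assoc, cokernel.π_desc, biprod.inr_desc]

lemma poDesc_compat {Q : FilObj A} (a : L ⟶ Q) (b : M ⟶ Q) (h : f ≫ a = g ≫ b) (p : ℤ) :
    poFil f g p ≤ (Subobject.pullback (poDesc f g a b h)).obj (Q.fil p) := by
  unfold poFil
  refine sup_le ?_ ?_
  · rw [le_pullback_iff]
    apply factors_of_epi_comp _ (factorThruImageSubobject ((L.fil p).arrow ≫ poInl f g))
    rw [← Category.assoc, imageSubobject_arrow_comp, Category.assoc, poInl_desc]
    exact compat_factors a p
  · rw [le_pullback_iff]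
    apply factors_of_epi_comp _ (factorThruImageSubobject ((M.fil p).arrow ≫ poInr f g))
    rw [← Category.assoc, imageSubobject_arrow_comp, Category.assoc, poInr_desc]
    exact compat_factors b p

noncomputable def poIsColimit :
    IsColimit (PushoutCocone.mk (poInlHom f g) (poInrHom f g) (po_w' f g)) :=
  PushoutCocone.IsColimit.mk _
    (fun s => FilObj.Hom.mk (poDesc f g s.inl s.inr s.condition) (poDesc_compat f g _ _ _))
    (fun s => FilObj.Hom.ext (by exact poInl_desc f g s.inl s.inr s.condition))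
    (fun s => FilObj.Hom.ext (by exact poInr_desc f g s.inl s.inr s.condition))
    (fun s m h1 h2 => FilObj.Hom.ext (by
      have h1' : poInl f g ≫ m.hom = s.inl.hom := congrArg FilObj.Hom.hom h1
      have h2' : poInr f g ≫ m.hom = s.inr.hom := congrArg FilObj.Hom.hom h2
      show m.hom = poDesc f g s.inl s.inr s.condition
      apply po_hom_ext f g
      · rw [poInl_desc]; exact h1'
      · rw [poInr_desc]; exact h2'))

theorem poInr_strict (hf : FilObj.IsStrict f) : FilObj.IsStrict (poInrHom f g) := by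
  intro p
  show imageSubobject ((M.fil p).arrow ≫ poInr f g) =
    imageSubobject (poInr f g) ⊓ poFil f g p
  apply le_antisymm
  · refine le_inf (imageSubobject_comp_le _ _) ?_
    unfold poFil; exact le_sup_right
  · apply le_of_forall_factors
    intro W x hx
    rw [Subobject.inf_factors] at hx
    obtain ⟨hx1, hx2⟩ := hx
    unfold poFil at hx2
    obtain ⟨W₁, π₁, hπ₁, s, t, hst⟩ := sup_factors_refine _ _ x hx2
    haveI := hπ₁
    obtain ⟨a, ha⟩ : ∃ a : W₁ ⟶ poObj f g,
      a = s ≫ (imageSubobject ((L.fil p).arrow ≫ poInl f g)).arrow := ⟨_, rfl⟩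
    obtain ⟨b, hb⟩ : ∃ b : W₁ ⟶ poObj f g,
      b = t ≫ (imageSubobject ((M.fil p).arrow ≫ poInr f g)).arrow := ⟨_, rfl⟩
    rw [← ha, ← hb] at hst
    have hbB : (imageSubobject ((M.fil p).arrow ≫ poInr f g)).Factors b := by
      rw [hb]; exact Subobject.factors_comp_arrow _
    have haA : (imageSubobject ((L.fil p).arrow ≫ poInl f g)).Factors a := by
      rw [ha]; exact Subobject.factors_comp_arrow _
    have haI : (imageSubobject (poInr f g)).Factors a := by
      apply Subobject.factors_left_of_factors_add a b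
      · rw [← hst]; exact Subobject.factors_of_factors_right _ hx1
      · exact Subobject.factors_of_le _ (imageSubobject_comp_le _ _) hbB
    obtain ⟨W₂, π₂, hπ₂, l', hl'⟩ := image_factors_refine _ a haA
    haveI := hπ₂
    obtain ⟨W₃, π₃, hπ₃, n, hn⟩ := image_factors_refine _ (π₂ ≫ a)
      (Subobject.factors_of_factors_right _ haI)
    haveI := hπ₃
    have hln : (π₃ ≫ l' ≫ (L.fil p).arrow) ≫ poInl f g = n ≫ poInr f g := by
      rw [← hn, hl']; simp only [Category.assoc]
    obtain ⟨W₄, π₄, hπ₄, k, hk1, hk2⟩ := po_exact f g _ n hln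
    haveI := hπ₄
    have hkf : (imageSubobject ((K.fil p).arrow ≫ f.hom)).Factors (k ≫ f.hom) := by
      rw [hf p, Subobject.inf_factors]
      refine ⟨imageSubobject_factors_comp_self _ _, ?_⟩
      rw [hk1]
      exact Subobject.factors_of_factors_right _ (Subobject.factors_of_factors_right _
        (Subobject.factors_comp_arrow _))
    obtain ⟨W₅, π₅, hπ₅, k', hk'⟩ := image_factors_refine _ _ hkf
    haveI := hπ₅
    apply factors_of_epi_comp _ (π₅ ≫ π₄ ≫ π₃ ≫ π₂ ≫ π₁) x
    have e1 : (π₅ ≫ π₄ ≫ π₃ ≫ π₂) ≫ a = (k' ≫ (K.fil p).arrow ≫ g.hom) ≫ poInr f g := by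
      calc (π₅ ≫ π₄ ≫ π₃ ≫ π₂) ≫ a = π₅ ≫ π₄ ≫ π₃ ≫ (π₂ ≫ a) := by
            simp only [Category.assoc]
        _ = π₅ ≫ π₄ ≫ π₃ ≫ (l' ≫ (L.fil p).arrow ≫ poInl f g) := by rw [hl']
        _ = π₅ ≫ ((π₄ ≫ π₃ ≫ l' ≫ (L.fil p).arrow) ≫ poInl f g) := by
            simp only [Category.assoc]
        _ = π₅ ≫ ((k ≫ f.hom) ≫ poInl f g) := by rw [hk1]
        _ = (π₅ ≫ k ≫ f.hom) ≫ poInl f g := by simp only [Category.assoc]
        _ = (k' ≫ (K.fil p).arrow ≫ f.hom) ≫ poInl f g := by rw [hk']
        _ = k' ≫ (K.fil p).arrow ≫ (f.hom ≫ poInl f g) := by simp only [Category.assoc]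
        _ = k' ≫ (K.fil p).arrow ≫ (g.hom ≫ poInr f g) := by rw [po_w]
        _ = (k' ≫ (K.fil p).arrow ≫ g.hom) ≫ poInr f g := by simp only [Category.assoc]
    have e : (π₅ ≫ π₄ ≫ π₃ ≫ π₂ ≫ π₁) ≫ x =
        (k' ≫ (K.fil p).arrow ≫ g.hom) ≫ poInr f g + (π₅ ≫ π₄ ≫ π₃ ≫ π₂) ≫ b := by
      calc (π₅ ≫ π₄ ≫ π₃ ≫ π₂ ≫ π₁) ≫ x = (π₅ ≫ π₄ ≫ π₃ ≫ π₂) ≫ (π₁ ≫ x) := by
            simp only [Category.assoc]
        _ = (π₅ ≫ π₄ ≫ π₃ ≫ π₂) ≫ (a + b) := by rw [hst]
        _ = _ := by rw [Preadditive.comp_add, e1]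
    rw [e]
    apply Subobject.factors_add
    · obtain ⟨t', ht'⟩ : ∃ t' : W₅ ⟶ (M.fil p : A),
          t' ≫ (M.fil p).arrow = k' ≫ (K.fil p).arrow ≫ g.hom := by
        have hfac : (M.fil p).Factors (k' ≫ (K.fil p).arrow ≫ g.hom) :=
          Subobject.factors_of_factors_right _ (compat_factors g p)
        exact ⟨(M.fil p).factorThru _ hfac, Subobject.factorThru_arrow _ _ _⟩
      rw [← ht', Category.assoc]
      exact imageSubobject_factors_comp_self _ _
    · exact Subobject.factors_of_factors_right _ hbB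

theorem main6803 :
    HasPushout f g ∧ ∀ (P : FilObj A) (g' : L ⟶ P) (f' : M ⟶ P),
      IsPushout f g g' f' → FilObj.IsStrict f → FilObj.IsStrict f' := by
  refine ⟨HasColimit.mk ⟨_, poIsColimit f g⟩, ?_⟩
  intro P g' f' h hf
  let e : poFO f g ≅ P := (poIsColimit f g).coconePointUniqueUpToIso h.isColimit
  have he : poInrHom f g ≫ e.hom = f' :=
    (poIsColimit f g).comp_coconePointUniqueUpToIso_hom h.isColimit WalkingSpan.right
  rw [← he]
  haveI := isIso_hom_of_iso e
  exact FilStrictH7.strict_comp_of_mono _ _ (poInr_strict f g hf) (iso_strict e)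

end Pushout

/-! ### Pullbacks -/

section Pullback

variable {K L M : FilObj A} (f : L ⟶ K) (g : M ⟶ K)

noncomputable def pbFil (p : ℤ) : Subobject (pullback f.hom g.hom) :=
  (Subobject.pullback (pullback.fst f.hom g.hom)).obj (L.fil p) ⊓
    (Subobject.pullback (pullback.snd f.hom g.hom)).obj (M.fil p)

lemma pbFil_anti : Antitone (pbFil f g) := by
  intro p q hpq
  exact inf_le_inf ((Subobject.pullback _).monotone (L.anti hpq))
    ((Subobject.pullback _).monotone (M.anti hpq))

noncomputable def pbFO : FilObj A := ⟨pullback f.hom g.hom, pbFil f g, pbFil_anti f g⟩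

lemma pbFst_compat (p : ℤ) :
    pbFil f g p ≤ (Subobject.pullback (pullback.fst f.hom g.hom)).obj (L.fil p) := by
  unfold pbFil; exact inf_le_left

lemma pbSnd_compat (p : ℤ) :
    pbFil f g p ≤ (Subobject.pullback (pullback.snd f.hom g.hom)).obj (M.fil p) := by
  unfold pbFil; exact inf_le_right

noncomputable def pbFstHom : pbFO f g ⟶ L :=
  FilObj.Hom.mk (K := pbFO f g) (pullback.fst f.hom g.hom) (pbFst_compat f g)

noncomputable def pbSndHom : pbFO f g ⟶ M :=
  FilObj.Hom.mk (K := pbFO f g) (pullback.snd f.hom g.hom) (pbSnd_compat f g)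

lemma pb_w' : pbFstHom f g ≫ f = pbSndHom f g ≫ g :=
  FilObj.Hom.ext (by exact pullback.condition)

lemma pb_lift_compat {Q : FilObj A} (a : Q ⟶ L) (b : Q ⟶ M)
    (h : a.hom ≫ f.hom = b.hom ≫ g.hom) (p : ℤ) :
    Q.fil p ≤ (Subobject.pullback (pullback.lift a.hom b.hom h)).obj (pbFil f g p) := by
  rw [le_pullback_iff]
  unfold pbFil
  rw [Subobject.inf_factors]
  constructor
  · apply factors_pullback_of
    rw [Category.assoc, pullback.lift_fst]
    exact compat_factors a p
  · apply factors_pullback_of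
    rw [Category.assoc, pullback.lift_snd]
    exact compat_factors b p

noncomputable def pbIsLimit :
    IsLimit (PullbackCone.mk (pbFstHom f g) (pbSndHom f g) (pb_w' f g)) :=
  PullbackCone.IsLimit.mk _
    (fun s => FilObj.Hom.mk (L := pbFO f g)
      (pullback.lift s.fst.hom s.snd.hom (congrArg FilObj.Hom.hom s.condition))
      (pb_lift_compat f g _ _ _))
    (fun s => FilObj.Hom.ext (by exact pullback.lift_fst _ _ _))
    (fun s => FilObj.Hom.ext (by exact pullback.lift_snd _ _ _))
    (fun s m h1 h2 => FilObj.Hom.ext (by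
      have h1' : m.hom ≫ pullback.fst f.hom g.hom = s.fst.hom := congrArg FilObj.Hom.hom h1
      have h2' : m.hom ≫ pullback.snd f.hom g.hom = s.snd.hom := congrArg FilObj.Hom.hom h2
      show m.hom = pullback.lift s.fst.hom s.snd.hom (congrArg FilObj.Hom.hom s.condition)
      apply pullback.hom_ext
      · rw [pullback.lift_fst]; exact h1'
      · rw [pullback.lift_snd]; exact h2'))

theorem pbSnd_strict (hf : FilObj.IsStrict f) : FilObj.IsStrict (pbSndHom f g) := by
  intro p
  show imageSubobject ((pbFil f g p).arrow ≫ pullback.snd f.hom g.hom) =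
    imageSubobject (pullback.snd f.hom g.hom) ⊓ M.fil p
  apply le_antisymm
  · refine le_inf (imageSubobject_comp_le _ _) ?_
    apply image_le_of_factors
    apply Groth.Agent.Lib.SpSeqConvH4.pullback_factors
    exact Subobject.factors_of_le _ (pbSnd_compat f g p) (Subobject.factors_self _)
  · apply le_of_forall_factors
    intro W x hx
    rw [Subobject.inf_factors] at hx
    obtain ⟨hx1, hx2⟩ := hx
    obtain ⟨W₁, π₁, hπ₁, y, hy⟩ := image_factors_refine _ x hx1
    haveI := hπ₁
    have e1 : y ≫ pullback.fst f.hom g.hom ≫ f.hom = π₁ ≫ x ≫ g.hom := by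
      calc y ≫ pullback.fst f.hom g.hom ≫ f.hom
          = y ≫ pullback.snd f.hom g.hom ≫ g.hom := by rw [pullback.condition]
        _ = (y ≫ pullback.snd f.hom g.hom) ≫ g.hom := (Category.assoc _ _ _).symm
        _ = (π₁ ≫ x) ≫ g.hom := by rw [hy]
        _ = π₁ ≫ x ≫ g.hom := Category.assoc _ _ _
    have h1 : (imageSubobject ((L.fil p).arrow ≫ f.hom)).Factors
        (y ≫ pullback.fst f.hom g.hom ≫ f.hom) := by
      rw [hf p, Subobject.inf_factors]
      refine ⟨?_, ?_⟩
      · rw [← Category.assoc]; exact imageSubobject_factors_comp_self _ _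
      · rw [e1, ← Category.assoc]
        exact factors_comp_hom g p _ (Subobject.factors_of_factors_right _ hx2)
    obtain ⟨W₂, π₂, hπ₂, l', hl'⟩ := image_factors_refine _ _ h1
    haveI := hπ₂
    have e2 : (l' ≫ (L.fil p).arrow) ≫ f.hom = (π₂ ≫ π₁ ≫ x) ≫ g.hom := by
      calc (l' ≫ (L.fil p).arrow) ≫ f.hom = l' ≫ (L.fil p).arrow ≫ f.hom :=
            Category.assoc _ _ _
        _ = π₂ ≫ y ≫ pullback.fst f.hom g.hom ≫ f.hom := hl'.symm
        _ = π₂ ≫ π₁ ≫ x ≫ g.hom := by rw [e1]
        _ = (π₂ ≫ π₁ ≫ x) ≫ g.hom := by simp only [Category.assoc]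
    apply factors_of_epi_comp _ (π₂ ≫ π₁) x
    have hy' : (pbFil f g p).Factors
        (pullback.lift (l' ≫ (L.fil p).arrow) (π₂ ≫ π₁ ≫ x) e2) := by
      unfold pbFil
      rw [Subobject.inf_factors]
      constructor
      · apply factors_pullback_of
        rw [pullback.lift_fst]
        exact Subobject.factors_comp_arrow _
      · apply factors_pullback_of
        rw [pullback.lift_snd]
        exact Subobject.factors_of_factors_right _ (Subobject.factors_of_factors_right _ hx2)
    have e3 : (π₂ ≫ π₁) ≫ x = ((pbFil f g p).factorThru _ hy') ≫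
        (pbFil f g p).arrow ≫ pullback.snd f.hom g.hom := by
      rw [← Category.assoc, Subobject.factorThru_arrow, pullback.lift_snd, Category.assoc]
    rw [e3]
    exact imageSubobject_factors_comp_self _ _

theorem main6804 :
    HasPullback f g ∧ ∀ (P : FilObj A) (g' : P ⟶ L) (f' : P ⟶ M),
      IsPullback g' f' f g → FilObj.IsStrict f → FilObj.IsStrict f' := by
  refine ⟨HasLimit.mk ⟨_, pbIsLimit f g⟩, ?_⟩
  intro P g' f' h hf
  let e : P ≅ pbFO f g := h.isLimit.conePointUniqueUpToIso (pbIsLimit f g)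
  have he : e.hom ≫ pbSndHom f g = f' :=
    h.isLimit.conePointUniqueUpToIso_hom_comp (pbIsLimit f g) WalkingCospan.right
  rw [← he]
  haveI := isIso_hom_of_iso e
  exact FilStrictH7.strict_comp_of_epi _ _ (iso_strict e) (pbSnd_strict f g hf)

end Pullback

end Groth.Agent.Lib.FilObjPOH4
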