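import Mathlib

/-!
# The telescope of a `ℤ`-indexed inverse sequence (helper7)

For `X : ℤ → 𝒟` with `τ k : X (k + 1) ⟶ X k` in a preadditive category with countable coproducts and
an upward closed `p : ℤ → Prop` : the map `φ = 1 - shift ∘ τ : ∐_{p k} X (k + 1) → ∐_{p k} X k`, its
functoriality in `p`, and for `p = (i ≤ ·)` the split exact sequence
`0 → ∐_{k ≥ i} X (k + 1) → ∐_{k ≥ i} X k → X i → 0`.
-/

set_option backward.isDefEq.respectTransparency false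
set_option backward.isDefEq.respectTransparency.types false
set_option linter.style.haveILetI false
set_option linter.unusedSectionVars false
set_option autoImplicit false

open CategoryTheory CategoryTheory.Limits

namespace Groth.Agent.Lib.TelescopeH7

universe v u

section General

variable {𝒟 : Type u} [Category.{v} 𝒟] [Preadditive 𝒟] [HasCoproducts.{0} 𝒟]
  (X : ℤ → 𝒟) (τ : ∀ k, X (k + 1) ⟶ X k)

/-- the index set -/
abbrev S (p : ℤ → Prop) : Type := {k : ℤ // p k}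

/-- `∐_{p k} X (k + 1)` -/
noncomputable abbrev P (p : ℤ → Prop) : 𝒟 := ∐ fun s : S p => X (s.1 + 1)

/-- `∐_{p k} X k` -/
noncomputable abbrev Qo (p : ℤ → Prop) : 𝒟 := ∐ fun s : S p => X s.1

/-- the inclusion of a summand of `P` -/
noncomputable def ιP (p : ℤ → Prop) (k : ℤ) (h : p k) : X (k + 1) ⟶ P X p :=
  Sigma.ι (fun s : S p => X (s.1 + 1)) ⟨k, h⟩

/-- the inclusion of a summand of `Qo` -/
noncomputable def ιQ (p : ℤ → Prop) (k : ℤ) (h : p k) : X k ⟶ Qo X p :=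
  Sigma.ι (fun s : S p => X s.1) ⟨k, h⟩

lemma P_hom_ext {p : ℤ → Prop} {Z : 𝒟} {f g : P X p ⟶ Z}
    (h : ∀ (k : ℤ) (hk : p k), ιP X p k hk ≫ f = ιP X p k hk ≫ g) : f = g :=
  Sigma.hom_ext _ _ (fun s => h s.1 s.2)

lemma Qo_hom_ext {p : ℤ → Prop} {Z : 𝒟} {f g : Qo X p ⟶ Z}
    (h : ∀ (k : ℤ) (hk : p k), ιQ X p k hk ≫ f = ιQ X p k hk ≫ g) : f = g :=
  Sigma.hom_ext _ _ (fun s => h s.1 s.2)

/-- maps out of `P` -/
noncomputable def descP (p : ℤ → Prop) {Z : 𝒟} (f : ∀ (k : ℤ), p k → (X (k + 1) ⟶ Z)) :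
    P X p ⟶ Z :=
  Sigma.desc (fun s : S p => f s.1 s.2)

@[reassoc]
lemma ιP_descP (p : ℤ → Prop) {Z : 𝒟} (f : ∀ (k : ℤ), p k → (X (k + 1) ⟶ Z)) (k : ℤ) (h : p k) :
    ιP X p k h ≫ descP X p f = f k h :=
  Sigma.ι_desc _ _

/-- maps out of `Qo` -/
noncomputable def descQ (p : ℤ → Prop) {Z : 𝒟} (f : ∀ (k : ℤ), p k → (X k ⟶ Z)) :
    Qo X p ⟶ Z :=
  Sigma.desc (fun s : S p => f s.1 s.2)

@[reassoc]
lemma ιQ_descQ (p : ℤ → Prop) {Z : 𝒟} (f : ∀ (k : ℤ), p k → (X k ⟶ Z)) (k : ℤ) (h : p k) :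
    ιQ X p k h ≫ descQ X p f = f k h :=
  Sigma.ι_desc _ _

/-- `1 - shift ∘ τ` -/
noncomputable def φ (p : ℤ → Prop) (hp : ∀ k, p k → p (k + 1)) : P X p ⟶ Qo X p :=
  descP X p (fun k h => ιQ X p (k + 1) (hp k h) - τ k ≫ ιQ X p k h)

@[reassoc]
lemma ιP_φ (p : ℤ → Prop) (hp : ∀ k, p k → p (k + 1)) (k : ℤ) (h : p k) :
    ιP X p k h ≫ φ X τ p hp = ιQ X p (k + 1) (hp k h) - τ k ≫ ιQ X p k h :=
  ιP_descP X p _ k h

/-- functoriality of `P` in `p` -/
noncomputable def inclP (p p' : ℤ → Prop) (hpp : ∀ k, p k → p' k) : P X p ⟶ P X p' :=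
  descP X p (fun k h => ιP X p' k (hpp k h))

@[reassoc]
lemma ιP_inclP (p p' : ℤ → Prop) (hpp : ∀ k, p k → p' k) (k : ℤ) (h : p k) :
    ιP X p k h ≫ inclP X p p' hpp = ιP X p' k (hpp k h) :=
  ιP_descP X p _ k h

/-- functoriality of `Qo` in `p` -/
noncomputable def inclQ (p p' : ℤ → Prop) (hpp : ∀ k, p k → p' k) : Qo X p ⟶ Qo X p' :=
  descQ X p (fun k h => ιQ X p' k (hpp k h))

@[reassoc]
lemma ιQ_inclQ (p p' : ℤ → Prop) (hpp : ∀ k, p k → p' k) (k : ℤ) (h : p k) :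
    ιQ X p k h ≫ inclQ X p p' hpp = ιQ X p' k (hpp k h) :=
  ιQ_descQ X p _ k h

lemma inclP_comp (p p' p'' : ℤ → Prop) (hpp : ∀ k, p k → p' k) (hpp' : ∀ k, p' k → p'' k) :
    inclP X p p' hpp ≫ inclP X p' p'' hpp' = inclP X p p'' (fun k h => hpp' k (hpp k h)) := by
  apply P_hom_ext
  intro k hk
  rw [ιP_inclP_assoc, ιP_inclP, ιP_inclP]

lemma inclQ_comp (p p' p'' : ℤ → Prop) (hpp : ∀ k, p k → p' k) (hpp' : ∀ k, p' k → p'' k) :
    inclQ X p p' hpp ≫ inclQ X p' p'' hpp' = inclQ X p p'' (fun k h => hpp' k (hpp k h)) := by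
  apply Qo_hom_ext
  intro k hk
  rw [ιQ_inclQ_assoc, ιQ_inclQ, ιQ_inclQ]

lemma inclQ_descQ (p p' : ℤ → Prop) (hpp : ∀ k, p k → p' k) {Z : 𝒟}
    (f : ∀ (k : ℤ), p' k → (X k ⟶ Z)) :
    inclQ X p p' hpp ≫ descQ X p' f = descQ X p (fun k h => f k (hpp k h)) := by
  apply Qo_hom_ext
  intro k hk
  rw [ιQ_inclQ_assoc, ιQ_descQ, ιQ_descQ]

lemma φ_inclQ (p p' : ℤ → Prop) (hp : ∀ k, p k → p (k + 1)) (hp' : ∀ k, p' k → p' (k + 1))
    (hpp : ∀ k, p k → p' k) :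
    φ X τ p hp ≫ inclQ X p p' hpp = inclP X p p' hpp ≫ φ X τ p' hp' := by
  apply P_hom_ext
  intro k hk
  rw [ιP_φ_assoc, ιP_inclP_assoc, ιP_φ, Preadditive.sub_comp, Category.assoc, ιQ_inclQ, ιQ_inclQ]

open Classical in
/-- the retraction of `inclP` -/
noncomputable def retrP (p p' : ℤ → Prop) : P X p' ⟶ P X p :=
  descP X p' (fun k _ => if h : p k then ιP X p k h else 0)

open Classical in
/-- the retraction of `inclQ` -/
noncomputable def retrQ (p p' : ℤ → Prop) : Qo X p' ⟶ Qo X p :=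
  descQ X p' (fun k _ => if h : p k then ιQ X p k h else 0)

lemma inclP_retrP (p p' : ℤ → Prop) (hpp : ∀ k, p k → p' k) :
    inclP X p p' hpp ≫ retrP X p p' = 𝟙 _ := by
  apply P_hom_ext
  intro k hk
  unfold retrP
  rw [ιP_inclP_assoc, ιP_descP, dif_pos hk, Category.comp_id]

lemma inclQ_retrQ (p p' : ℤ → Prop) (hpp : ∀ k, p k → p' k) :
    inclQ X p p' hpp ≫ retrQ X p p' = 𝟙 _ := by
  apply Qo_hom_ext
  intro k hk
  unfold retrQ
  rw [ιQ_inclQ_assoc, ιQ_descQ, dif_pos hk, Category.comp_id]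

instance mono_inclP (p p' : ℤ → Prop) (hpp : ∀ k, p k → p' k) : Mono (inclP X p p' hpp) :=
  mono_of_mono_fac (inclP_retrP X p p' hpp)

instance mono_inclQ (p p' : ℤ → Prop) (hpp : ∀ k, p k → p' k) : Mono (inclQ X p p' hpp) :=
  mono_of_mono_fac (inclQ_retrQ X p p' hpp)

end General

section Split

variable {𝒟 : Type u} [Category.{v} 𝒟] [Preadditive 𝒟] [HasCoproducts.{0} 𝒟]
  (X : ℤ → 𝒟) (τ : ∀ k, X (k + 1) ⟶ X k)

/-- the tail predicate -/
def up (i : ℤ) : ℤ → Prop := fun k => i ≤ k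

lemma up_succ (i : ℤ) : ∀ k, up i k → up i (k + 1) :=
  fun _ h => le_trans h (Int.le_add_one le_rfl)

lemma up_self (i : ℤ) : up i i := le_refl i

lemma up_le (i : ℤ) : ∀ k, up (i + 1) k → up i k :=
  fun _ h => le_trans (Int.le_add_one le_rfl) h

/-- the total predicate -/
def tt : ℤ → Prop := fun _ => True

lemma tt_succ : ∀ k, tt k → tt (k + 1) := fun _ _ => trivial

lemma up_tt (i : ℤ) : ∀ k, up i k → tt k := fun _ _ => trivial

/-- the iterated transition maps -/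
noncomputable def ρ (i : ℤ) : ∀ (k : ℤ) (_ : up i k), X k ⟶ X i :=
  Int.leInduction (motive := fun k _ => X k ⟶ X i) (𝟙 _) (fun k _ f => τ k ≫ f)

lemma ρ_self (i : ℤ) : ρ X τ i i (up_self i) = 𝟙 _ :=
  Int.leInduction_base (motive := fun k _ => X k ⟶ X i) _ _

lemma ρ_succ (i k : ℤ) (h : up i k) :
    ρ X τ i (k + 1) (up_succ i k h) = τ k ≫ ρ X τ i k h :=
  Int.leInduction_add_one (motive := fun k _ => X k ⟶ X i) _ _ k h

/-- the sum of the iterated transition maps -/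
noncomputable def sg (i : ℤ) : Qo X (up i) ⟶ X i := descQ X (up i) (ρ X τ i)

@[reassoc]
lemma ιQ_sg (i k : ℤ) (h : up i k) : ιQ X (up i) k h ≫ sg X τ i = ρ X τ i k h :=
  ιQ_descQ X (up i) _ k h

/-- the components of the retraction -/
noncomputable def rr (i : ℤ) : ∀ (k : ℤ) (_ : up i k), X k ⟶ P X (up i) :=
  Int.leInduction (motive := fun k _ => X k ⟶ P X (up i)) 0
    (fun k h f => ιP X (up i) k h + τ k ≫ f)

lemma rr_self (i : ℤ) : rr X τ i i (up_self i) = 0 :=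
  Int.leInduction_base (motive := fun k _ => X k ⟶ P X (up i)) _ _

lemma rr_succ (i k : ℤ) (h : up i k) :
    rr X τ i (k + 1) (up_succ i k h) = ιP X (up i) k h + τ k ≫ rr X τ i k h :=
  Int.leInduction_add_one (motive := fun k _ => X k ⟶ P X (up i)) _ _ k h

/-- the retraction -/
noncomputable def r (i : ℤ) : Qo X (up i) ⟶ P X (up i) := descQ X (up i) (rr X τ i)

@[reassoc]
lemma ιQ_r (i k : ℤ) (h : up i k) : ιQ X (up i) k h ≫ r X τ i = rr X τ i k h :=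
  ιQ_descQ X (up i) _ k h

/-- the section -/
noncomputable def sec (i : ℤ) : X i ⟶ Qo X (up i) := ιQ X (up i) i (up_self i)

lemma φ_sg (i : ℤ) : φ X τ (up i) (up_succ i) ≫ sg X τ i = 0 := by
  apply P_hom_ext
  intro k hk
  rw [ιP_φ_assoc, Preadditive.sub_comp, Category.assoc, ιQ_sg, ιQ_sg, comp_zero]
  have h := ρ_succ X τ i k hk
  exact sub_eq_zero.2 h

lemma φ_r (i : ℤ) : φ X τ (up i) (up_succ i) ≫ r X τ i = 𝟙 _ := by
  apply P_hom_ext
  intro k hk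
  rw [ιP_φ_assoc, Preadditive.sub_comp, Category.assoc, ιQ_r, ιQ_r, Category.comp_id]
  have h := rr_succ X τ i k hk
  refine (congrArg (fun t => t - τ k ≫ rr X τ i k hk) h).trans ?_
  exact add_sub_cancel_right _ _

lemma sec_sg (i : ℤ) : sec X i ≫ sg X τ i = 𝟙 _ := by
  unfold sec
  rw [ιQ_sg]
  exact ρ_self X τ i

lemma rr_φ_add (i : ℤ) : ∀ (k : ℤ) (h : up i k),
    rr X τ i k h ≫ φ X τ (up i) (up_succ i) + ρ X τ i k h ≫ sec X i = ιQ X (up i) k h := by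
  refine Int.leInduction (motive := fun k h =>
    rr X τ i k h ≫ φ X τ (up i) (up_succ i) + ρ X τ i k h ≫ sec X i = ιQ X (up i) k h) ?_ ?_
  · have h1 := rr_self X τ i
    have h2 := ρ_self X τ i
    rw [h1, h2, zero_comp, zero_add, Category.id_comp]
    rfl
  · intro k h ih
    have h1 := rr_succ X τ i k h
    have h2 := ρ_succ X τ i k h
    have h3 := ιP_φ X τ (up i) (up_succ i) k h
    rw [h1, h2, Preadditive.add_comp, Category.assoc, Category.assoc,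
      add_assoc, ← Preadditive.comp_add, ih, h3]
    exact sub_add_cancel _ _

lemma r_φ_add (i : ℤ) : r X τ i ≫ φ X τ (up i) (up_succ i) + sg X τ i ≫ sec X i = 𝟙 _ := by
  apply Qo_hom_ext
  intro k hk
  rw [Preadditive.comp_add, ιQ_r_assoc, ιQ_sg_assoc, Category.comp_id]
  exact rr_φ_add X τ i k hk

/-- the telescope short complex -/
noncomputable def sc (i : ℤ) : ShortComplex 𝒟 :=
  ShortComplex.mk (φ X τ (up i) (up_succ i)) (sg X τ i) (φ_sg X τ i)

/-- the telescope sequence is split -/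
noncomputable def splitting (i : ℤ) : (sc X τ i).Splitting where
  r := r X τ i
  s := sec X i
  f_r := φ_r X τ i
  s_g := sec_sg X τ i
  id := r_φ_add X τ i

/-- compatibility of the iterated transition maps -/
lemma ρ_comp (i : ℤ) : ∀ (k : ℤ) (h : up (i + 1) k),
    ρ X τ (i + 1) k h ≫ τ i = ρ X τ i k (up_le i k h) := by
  refine Int.leInduction (motive := fun k h =>
    ρ X τ (i + 1) k h ≫ τ i = ρ X τ i k (up_le i k h)) ?_ ?_
  · have h1 := ρ_self X τ (i + 1)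
    rw [h1, Category.id_comp]
    have h := ρ_succ X τ i i (up_self i)
    rw [ρ_self, Category.comp_id] at h
    exact h.symm
  · intro k h ih
    have h1 := ρ_succ X τ (i + 1) k h
    rw [h1, Category.assoc, ih]
    exact (ρ_succ X τ i k (up_le i k h)).symm

lemma inclQ_sg (i : ℤ) :
    inclQ X (up (i + 1)) (up i) (up_le i) ≫ sg X τ i = sg X τ (i + 1) ≫ τ i := by
  apply Qo_hom_ext
  intro k hk
  rw [ιQ_inclQ_assoc, ιQ_sg, ιQ_sg_assoc]
  exact (ρ_comp X τ i k hk).symm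

/-- the morphism of telescope short complexes -/
noncomputable def scMap (i : ℤ) : sc X τ (i + 1) ⟶ sc X τ i where
  τ₁ := inclP X (up (i + 1)) (up i) (up_le i)
  τ₂ := inclQ X (up (i + 1)) (up i) (up_le i)
  τ₃ := τ i
  comm₁₂ := (φ_inclQ X τ (up (i + 1)) (up i) (up_succ (i + 1)) (up_succ i) (up_le i)).symm
  comm₂₃ := inclQ_sg X τ i

lemma sec_inclQ_descQ (i : ℤ) {Z : 𝒟} (f : ∀ (k : ℤ), tt k → (X k ⟶ Z)) :
    sec X i ≫ inclQ X (up i) tt (up_tt i) ≫ descQ X tt f = f i trivial := by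
  unfold sec
  rw [ιQ_inclQ_assoc, ιQ_descQ]

end Split

end Groth.Agent.Lib.TelescopeH7
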