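import Mathlib
import Groth.Agent.Lib.TelescopeZ_helper7

/-!
# Telescope cones (helper7)

The mapping cones of the telescope maps `φ` for cochain complexes: monomorphisms between them,
the quasi-isomorphism `T_i ⟶ X i`, and the map from the total telescope to a complex receiving
homotopy compatible maps.
-/

set_option backward.isDefEq.respectTransparency false
set_option backward.isDefEq.respectTransparency.types false
set_option linter.style.haveILetI false
set_option linter.unusedSectionVars false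
set_option autoImplicit false

open CategoryTheory CategoryTheory.Limits CochainComplex HomComplex

namespace Groth.Agent.Lib.TelescopeConeH7

universe v u

variable {A : Type u} [Category.{v} A] [Abelian A]

section MonoMap

open CochainComplex.mappingCone

variable {K₁ L₁ K₂ L₂ : CochainComplex A ℤ} (φ₁ : K₁ ⟶ L₁) (φ₂ : K₂ ⟶ L₂)
  (a : K₁ ⟶ K₂) (b : L₁ ⟶ L₂) (comm : φ₁ ≫ b = a ≫ φ₂)

lemma map_f_fst (n : ℤ) :
    (map φ₁ φ₂ a b comm).f n ≫ (fst φ₂).1.v n (n + 1) rfl =
      (fst φ₁).1.v n (n + 1) rfl ≫ a.f (n + 1) := by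
  simp [ext_from_iff _ (n + 1) n rfl, mappingCone.map]

lemma map_f_snd (n : ℤ) :
    (map φ₁ φ₂ a b comm).f n ≫ (snd φ₂).v n n (add_zero n) =
      (snd φ₁).v n n (add_zero n) ≫ b.f n := by
  simp [ext_from_iff _ (n + 1) n rfl, mappingCone.map]

lemma inr_map : inr φ₁ ≫ map φ₁ φ₂ a b comm = b ≫ inr φ₂ := by
  simp [mappingCone.map]

lemma map_congr {a' : K₁ ⟶ K₂} {b' : L₁ ⟶ L₂} (ha : a = a') (hb : b = b')
    (comm' : φ₁ ≫ b' = a' ≫ φ₂) :
    map φ₁ φ₂ a b comm = map φ₁ φ₂ a' b' comm' := by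
  subst ha hb
  rfl

lemma mono_map [Mono a] [Mono b] : Mono (map φ₁ φ₂ a b comm) := by
  apply HomologicalComplex.mono_of_mono_f
  intro n
  apply Preadditive.mono_of_cancel_zero
  intro Z x hx
  rw [ext_to_iff _ _ (n + 1) rfl]
  constructor
  · have h := congrArg (fun y => y ≫ (fst φ₂).1.v n (n + 1) rfl) hx
    simp only [Category.assoc, zero_comp] at h
    rw [map_f_fst, ← Category.assoc] at h
    rw [zero_comp]
    exact (cancel_mono (a.f (n + 1))).1 (h.trans zero_comp.symm)
  · have h := congrArg (fun y => y ≫ (snd φ₂).v n n (add_zero n)) hx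
    simp only [Category.assoc, zero_comp] at h
    rw [map_f_snd, ← Category.assoc] at h
    rw [zero_comp]
    exact (cancel_mono (b.f n)).1 (h.trans zero_comp.symm)

instance mono_inr_f {K L : CochainComplex A ℤ} (φ : K ⟶ L) (n : ℤ) : Mono ((inr φ).f n) :=
  mono_of_mono_fac (inr_f_snd_v φ n)

instance mono_inr {K L : CochainComplex A ℤ} (φ : K ⟶ L) : Mono (inr φ) :=
  HomologicalComplex.mono_of_mono_f _ (fun n => mono_inr_f φ n)

end MonoMap

section Cyl

variable {K L : CochainComplex A ℤ} (f : K ⟶ L)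

/-- the cylinder-like object -/
noncomputable abbrev cyl : CochainComplex A ℤ := mappingCone (𝟙 K) ⊞ L

/-- the inclusion into the cylinder -/
noncomputable def ci : K ⟶ cyl (K := K) (L := L) := biprod.lift (mappingCone.inr (𝟙 K)) f

/-- the projection of the cylinder -/
noncomputable abbrev cp (K L : CochainComplex A ℤ) : cyl (K := K) (L := L) ⟶ L := biprod.snd

@[reassoc]
lemma ci_cp : ci f ≫ cp K L = f := by
  simp [ci]

lemma ci_fst : ci f ≫ biprod.fst = mappingCone.inr (𝟙 K) := by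
  simp [ci]

instance mono_ci : Mono (ci f) := mono_of_mono_fac (ci_fst f)

/-- the projection is a homotopy equivalence -/
noncomputable def homotopyEquiv (K L : CochainComplex A ℤ) :
    HomotopyEquiv (cyl (K := K) (L := L)) L where
  hom := cp K L
  inv := biprod.inr
  homotopyHomInvId :=
    let h₀ : Homotopy (𝟙 (mappingCone (𝟙 K))) 0 := mappingCone.homotopyToZeroOfId K
    let h₁ := (h₀.compRight
      (biprod.inl : _ ⟶ mappingCone (𝟙 K) ⊞ L)).compLeft
        (biprod.fst : mappingCone (𝟙 K) ⊞ L ⟶ _)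
    let h₂ := Homotopy.add h₁ (Homotopy.refl (biprod.snd ≫ biprod.inr))
    (Homotopy.ofEq (by simp [cp])).trans (h₂.symm.trans (Homotopy.ofEq (by simp)))
  homotopyInvHomId := Homotopy.ofEq (by simp)

instance quasiIso_cp (K L : CochainComplex A ℤ) : QuasiIso (cp K L) :=
  (homotopyEquiv K L).quasiIso_hom

end Cyl

section Assembly

variable {ι : Type} [HasColimitsOfShape (Discrete ι) A] (Y : ι → CochainComplex A ℤ)

/-- the coproduct of complexes is computed degreewise -/
noncomputable def isColimX (p : ℤ) :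
    IsColimit ((HomologicalComplex.eval A (ComplexShape.up ℤ) p).mapCocone
      (colimit.cocone (Discrete.functor Y))) :=
  isColimitOfPreserves _ (colimit.isColimit _)

/-- a cocone in degree `p` -/
def coconeX (p : ℤ) {Z : A} (f : ∀ k, (Y k).X p ⟶ Z) :
    Cocone (Discrete.functor Y ⋙ HomologicalComplex.eval A (ComplexShape.up ℤ) p) where
  pt := Z
  ι := Discrete.natTrans (fun k => f k.as)

/-- the degreewise universal property -/
noncomputable def descX (p : ℤ) {Z : A} (f : ∀ k, (Y k).X p ⟶ Z) : (∐ Y).X p ⟶ Z :=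
  (isColimX Y p).desc (coconeX Y p f)

@[reassoc]
lemma ι_descX (p : ℤ) {Z : A} (f : ∀ k, (Y k).X p ⟶ Z) (k : ι) :
    (Sigma.ι Y k).f p ≫ descX Y p f = f k :=
  (isColimX Y p).fac (coconeX Y p f) ⟨k⟩

lemma homX_ext {p : ℤ} {Z : A} {a b : (∐ Y).X p ⟶ Z}
    (h : ∀ k, (Sigma.ι Y k).f p ≫ a = (Sigma.ι Y k).f p ≫ b) : a = b :=
  (isColimX Y p).hom_ext (fun k => h k.as)

/-- a morphism from a coproduct of complexes all of whose components are null-homotopic is
null-homotopic -/
noncomputable def homotopyZero {L : CochainComplex A ℤ} (φ : ∐ Y ⟶ L)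
    (h : ∀ k, Homotopy (Sigma.ι Y k ≫ φ) 0) : Homotopy φ 0 where
  hom i i' := descX Y i (fun k => (h k).hom i i')
  zero i i' hii' := by
    apply homX_ext
    intro k
    rw [ι_descX, (h k).zero i i' hii', comp_zero]
  comm i := by
    apply homX_ext
    intro k
    have hk := (h k).comm i
    rw [dNext_eq _ (show (ComplexShape.up ℤ).Rel i (i + 1) from rfl),
      prevD_eq _ (show (ComplexShape.up ℤ).Rel (i - 1) i by simp)] at hk ⊢
    rw [HomologicalComplex.comp_f, HomologicalComplex.zero_f, add_zero] at hk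
    rw [HomologicalComplex.zero_f, add_zero, Preadditive.comp_add, ι_descX_assoc,
      (Sigma.ι Y k).comm_assoc, ι_descX]
    exact hk

end Assembly

section Tel

open Groth.Agent.Lib.TelescopeH7

variable [HasCoproducts.{0} A]
  (X : ℤ → CochainComplex A ℤ) (τ : ∀ k, X (k + 1) ⟶ X k)

/-- the telescope cone -/
noncomputable abbrev T (p : ℤ → Prop) (hp : ∀ k, p k → p (k + 1)) : CochainComplex A ℤ :=
  mappingCone (φ X τ p hp)

/-- functoriality of the telescope cone -/
noncomputable def mapT (p p' : ℤ → Prop) (hp : ∀ k, p k → p (k + 1))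
    (hp' : ∀ k, p' k → p' (k + 1)) (hpp : ∀ k, p k → p' k) : T X τ p hp ⟶ T X τ p' hp' :=
  mappingCone.map (φ X τ p hp) (φ X τ p' hp') (inclP X p p' hpp) (inclQ X p p' hpp)
    (φ_inclQ X τ p p' hp hp' hpp)

instance mono_mapT (p p' : ℤ → Prop) (hp : ∀ k, p k → p (k + 1))
    (hp' : ∀ k, p' k → p' (k + 1)) (hpp : ∀ k, p k → p' k) : Mono (mapT X τ p p' hp hp' hpp) :=
  mono_map _ _ _ _ _

lemma mapT_comp (p p' p'' : ℤ → Prop) (hp : ∀ k, p k → p (k + 1))
    (hp' : ∀ k, p' k → p' (k + 1)) (hp'' : ∀ k, p'' k → p'' (k + 1))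
    (hpp : ∀ k, p k → p' k) (hpp' : ∀ k, p' k → p'' k) :
    mapT X τ p p' hp hp' hpp ≫ mapT X τ p' p'' hp' hp'' hpp' =
      mapT X τ p p'' hp hp'' (fun k h => hpp' k (hpp k h)) := by
  unfold mapT
  rw [← mappingCone.map_comp]
  exact map_congr _ _ _ _ _ (inclP_comp X p p' p'' hpp hpp') (inclQ_comp X p p' p'' hpp hpp') _

@[reassoc]
lemma inr_mapT (p p' : ℤ → Prop) (hp : ∀ k, p k → p (k + 1))
    (hp' : ∀ k, p' k → p' (k + 1)) (hpp : ∀ k, p k → p' k) :
    mappingCone.inr (φ X τ p hp) ≫ mapT X τ p p' hp hp' hpp =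
      inclQ X p p' hpp ≫ mappingCone.inr (φ X τ p' hp') :=
  inr_map _ _ _ _ _

/-- the inclusion of the `i`-th telescope cone into the total one -/
noncomputable def κ (i : ℤ) : T X τ (up i) (up_succ i) ⟶ T X τ tt tt_succ :=
  mapT X τ (up i) tt (up_succ i) tt_succ (up_tt i)

/-- the transition maps of the telescope cones -/
noncomputable def lam (i : ℤ) : T X τ (up (i + 1)) (up_succ (i + 1)) ⟶ T X τ (up i) (up_succ i) :=
  mapT X τ (up (i + 1)) (up i) (up_succ (i + 1)) (up_succ i) (up_le i)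

instance mono_κ (i : ℤ) : Mono (κ X τ i) := mono_mapT _ _ _ _ _ _ _

lemma lam_κ (i : ℤ) : lam X τ i ≫ κ X τ i = κ X τ (i + 1) :=
  mapT_comp X τ _ _ _ _ _ _ _ _

/-- the quasi-isomorphism from the `i`-th telescope cone to `X i` -/
noncomputable def πT (i : ℤ) : T X τ (up i) (up_succ i) ⟶ X i :=
  mappingCone.descShortComplex (sc X τ i)

instance quasiIso_πT (i : ℤ) : QuasiIso (πT X τ i) :=
  mappingCone.quasiIso_descShortComplex (splitting X τ i).shortExact

/-- the section of `πT` -/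
noncomputable def σT (i : ℤ) : X i ⟶ T X τ (up i) (up_succ i) :=
  sec X i ≫ mappingCone.inr (φ X τ (up i) (up_succ i))

lemma σT_πT (i : ℤ) : σT X τ i ≫ πT X τ i = 𝟙 _ := by
  unfold σT πT
  rw [Category.assoc]
  have h := mappingCone.inr_descShortComplex (sc X τ i)
  have h2 : mappingCone.inr (φ X τ (up i) (up_succ i)) ≫
      mappingCone.descShortComplex (sc X τ i) = sg X τ i := h
  rw [h2]
  exact sec_sg X τ i

lemma lam_πT (i : ℤ) : lam X τ i ≫ πT X τ i = πT X τ (i + 1) ≫ τ i :=
  mappingCone.descShortComplex_naturality (scMap X τ i)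

variable {J : CochainComplex A ℤ} (α : ∀ k, X k ⟶ J) (H : ∀ k, Homotopy (τ k ≫ α k) (α (k + 1)))

/-- the null-homotopy of `φ ≫ desc α` -/
noncomputable def Hφ : Homotopy (φ X τ tt tt_succ ≫ descQ X tt (fun k _ => α k)) 0 :=
  homotopyZero (fun s : S tt => X (s.1 + 1)) _ (fun s =>
    (Homotopy.ofEq (by
      have h1 := ιP_φ_assoc X τ tt tt_succ s.1 s.2 (descQ X tt (fun k _ => α k))
      refine h1.trans ?_
      rw [Preadditive.sub_comp, Category.assoc, ιQ_descQ, ιQ_descQ])).trans
      (Homotopy.equivSubZero (H s.1).symm))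

/-- the map from the total telescope cone -/
noncomputable def g : T X τ tt tt_succ ⟶ J :=
  mappingCone.desc (φ X τ tt tt_succ) (Cochain.ofHomotopy (Hφ X τ α H))
    (descQ X tt (fun k _ => α k)) (by
      rw [δ_ofHomotopy, Cochain.ofHom_zero, sub_zero])

lemma inr_g : mappingCone.inr (φ X τ tt tt_succ) ≫ g X τ α H = descQ X tt (fun k _ => α k) :=
  mappingCone.inr_desc _ _ _ _

lemma σT_κ_g (i : ℤ) : σT X τ i ≫ κ X τ i ≫ g X τ α H = α i := by
  unfold σT κ
  rw [Category.assoc, inr_mapT_assoc, inr_g]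
  exact sec_inclQ_descQ X i (fun k _ => α k)

end Tel

end Groth.Agent.Lib.TelescopeConeH7
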