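import Mathlib
import Groth.Prelude
import Groth.Agent.Lib.TelescopeCone_helper7
import Groth.Agent.Lib.KInjGen8_helper7
import Groth.Agent.Lib.DerProd_helper9

/-!
# Representing an inverse system in the derived category by a filtered complex (helper7)
-/

set_option backward.isDefEq.respectTransparency false
set_option backward.isDefEq.respectTransparency.types false
set_option linter.style.haveILetI false
set_option linter.unusedSectionVars false
set_option autoImplicit false

open CategoryTheory CategoryTheory.Limits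

namespace Groth.Agent.Lib.FilRepH7

open Groth.Agent.Lib.TelescopeH7 Groth.Agent.Lib.TelescopeConeH7

universe w v u

section Chain

variable {A : Type u} [Category.{v} A] [Abelian A] [HasCoproducts.{0} A]
  (X : ℤ → CochainComplex A ℤ) (τ : ∀ k, X (k + 1) ⟶ X k)
  {J : CochainComplex A ℤ} (α : ∀ k, X k ⟶ J) (H : ∀ k, Homotopy (τ k ≫ α k) (α (k + 1)))

/-- the ambient complex -/
noncomputable abbrev Kobj : CochainComplex A ℤ := cyl (K := T X τ tt tt_succ) (L := J)

/-- the inclusions of the steps -/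
noncomputable def incl (i : ℤ) : T X τ (up i) (up_succ i) ⟶ Kobj X τ (J := J) :=
  κ X τ i ≫ ci (g X τ α H)

instance mono_incl (i : ℤ) : Mono (incl X τ α H i) := by
  unfold incl
  exact mono_comp _ _

lemma lam_incl (i : ℤ) : lam X τ i ≫ incl X τ α H i = incl X τ α H (i + 1) := by
  unfold incl
  rw [← Category.assoc, lam_κ]

/-- the filtered complex -/
noncomputable def K : SpSeq.FilCx A where
  obj := Kobj X τ (J := J)
  fil i := Subobject.mk (incl X τ α H i)
  anti := antitone_int_of_succ_le (fun i =>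
    Subobject.mk_le_mk_of_comm (lam X τ i) (lam_incl X τ α H i))

/-- the identification of the steps -/
noncomputable def uIso (i : ℤ) : (K X τ α H).step i ≅ T X τ (up i) (up_succ i) :=
  Subobject.underlyingIso (incl X τ α H i)

lemma uIso_inv_arrow (i : ℤ) :
    (uIso X τ α H i).inv ≫ ((K X τ α H).fil i).arrow = incl X τ α H i :=
  Subobject.underlyingIso_arrow _

lemma uIso_hom_incl (i : ℤ) :
    (uIso X τ α H i).hom ≫ incl X τ α H i = ((K X τ α H).fil i).arrow :=
  Subobject.underlyingIso_hom_comp_eq_mk _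

/-- the projection to `J` -/
noncomputable def pr : (K X τ α H).obj ⟶ J := cp (T X τ tt tt_succ) J

instance quasiIso_pr : QuasiIso (pr X τ α H) := quasiIso_cp _ _

lemma incl_pr (i : ℤ) : incl X τ α H i ≫ pr X τ α H = κ X τ i ≫ g X τ α H := by
  unfold incl pr
  rw [Category.assoc, ci_cp]

/-- the quasi-isomorphisms from the steps -/
noncomputable def π (i : ℤ) : (K X τ α H).step i ⟶ X i := (uIso X τ α H i).hom ≫ πT X τ i

instance quasiIso_π (i : ℤ) : QuasiIso (π X τ α H i) := by
  unfold π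
  infer_instance

/-- the sections -/
noncomputable def σ (i : ℤ) : X i ⟶ (K X τ α H).step i := σT X τ i ≫ (uIso X τ α H i).inv

lemma σ_π (i : ℤ) : σ X τ α H i ≫ π X τ α H i = 𝟙 _ := by
  unfold σ π
  rw [Category.assoc, Iso.inv_hom_id_assoc]
  exact σT_πT X τ i

lemma σ_arrow_pr (i : ℤ) :
    σ X τ α H i ≫ ((K X τ α H).fil i).arrow ≫ pr X τ α H = α i := by
  unfold σ
  rw [Category.assoc, ← Category.assoc (uIso X τ α H i).inv, uIso_inv_arrow, incl_pr]
  exact σT_κ_g X τ α H i

lemma stepLE_uIso (i : ℤ) :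
    (K X τ α H).stepLE (le_of_lt (Int.lt_succ_self i)) ≫ (uIso X τ α H i).hom =
      (uIso X τ α H (i + 1)).hom ≫ lam X τ i := by
  rw [← cancel_mono (incl X τ α H i), Category.assoc, Category.assoc, uIso_hom_incl, lam_incl,
    uIso_hom_incl]
  exact Subobject.ofLE_arrow _

lemma stepLE_π (i : ℤ) :
    (K X τ α H).stepLE (le_of_lt (Int.lt_succ_self i)) ≫ π X τ α H i =
      π X τ α H (i + 1) ≫ τ i := by
  unfold π
  rw [← Category.assoc, stepLE_uIso, Category.assoc, Category.assoc, lam_πT]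

end Chain

section Derived

variable {A : Type u} [Category.{v} A] [Abelian A] [IsGrothendieckAbelian.{v} A]
  [HasDerivedCategory.{w} A]

open DerivedCategory

theorem main (E : DerivedCategory A) (Es : ℤ → DerivedCategory A)
    (t : ∀ i : ℤ, Es (i + 1) ⟶ Es i)
    (a : ∀ i : ℤ, Es i ⟶ E) (hat : ∀ i : ℤ, t i ≫ a i = a (i + 1)) :
    ∃ (K : SpSeq.FilCx A) (e : DerivedCategory.Q.obj K.obj ≅ E)
      (ei : ∀ i : ℤ, DerivedCategory.Q.obj (K.step i) ≅ Es i),
      (∀ i : ℤ, DerivedCategory.Q.map (K.fil i).arrow ≫ e.hom = (ei i).hom ≫ a i) ∧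
      (∀ i : ℤ, DerivedCategory.Q.map (K.stepLE (le_of_lt (Int.lt_succ_self i))) ≫ (ei i).hom =
        (ei (i + 1)).hom ≫ t i) := by
  haveI : HasColimitsOfSize.{0, 0} A := inferInstance
  haveI : HasCoproducts.{0} A := fun _ => inferInstance
  obtain ⟨J, hJ, _, ⟨εE⟩⟩ := Groth.Agent.Lib.KInjGen8.exists_kInjective_rep E
  choose X hX _ hε using fun k => Groth.Agent.Lib.KInjGen8.exists_kInjective_rep (Es k)
  let ε : ∀ k, Q.obj (X k) ≅ Es k := fun k => (hε k).some
  haveI := hJ
  haveI := hX
  choose τ hτ using fun k =>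
    DerProd.exists_lift_of_isKInjective (X (k + 1)) (X k) ((ε (k + 1)).hom ≫ t k ≫ (ε k).inv)
  choose α hα using fun k =>
    DerProd.exists_lift_of_isKInjective (X k) J ((ε k).hom ≫ a k ≫ εE.inv)
  have hH : ∀ k, Nonempty (Homotopy (τ k ≫ α k) (α (k + 1))) := by
    intro k
    have h0 : Q.map (τ k ≫ α k - α (k + 1)) = 0 := by
      rw [Functor.map_sub, Functor.map_comp, hτ, hα, hα, sub_eq_zero]
      simp only [Category.assoc, Iso.inv_hom_id_assoc]
      rw [← hat k]
      simp only [Category.assoc]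
    obtain ⟨h⟩ := DerProd.homotopy_of_isKInjective _ J _ h0
    exact ⟨Homotopy.equivSubZero.symm h⟩
  let H : ∀ k, Homotopy (τ k ≫ α k) (α (k + 1)) := fun k => (hH k).some
  have hπσ : ∀ i, Q.map (π X τ α H i) ≫ Q.map (σ X τ α H i) = 𝟙 _ := by
    intro i
    have h1 : Q.map (σ X τ α H i) ≫ Q.map (π X τ α H i) = 𝟙 _ := by
      rw [← Functor.map_comp, σ_π, CategoryTheory.Functor.map_id]
    have h2 : Q.map (σ X τ α H i) = inv (Q.map (π X τ α H i)) := by
      rw [← cancel_mono (Q.map (π X τ α H i)), h1, IsIso.inv_hom_id]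
    rw [h2, IsIso.hom_inv_id]
  refine ⟨K X τ α H, asIso (Q.map (pr X τ α H)) ≪≫ εE,
    fun i => asIso (Q.map (π X τ α H i)) ≪≫ ε i, ?_, ?_⟩
  · intro i
    have h1 : Q.map ((K X τ α H).fil i).arrow ≫ Q.map (pr X τ α H) =
        Q.map (π X τ α H i) ≫ Q.map (α i) := by
      rw [← σ_arrow_pr X τ α H i, Functor.map_comp, Functor.map_comp, ← Category.assoc (Q.map _),
        hπσ, Category.id_comp]
    have h2 : Q.map (α i) ≫ εE.hom = (ε i).hom ≫ a i := by
      rw [hα]
      simp only [Category.assoc, Iso.inv_hom_id, Category.comp_id]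
    calc Q.map ((K X τ α H).fil i).arrow ≫ (asIso (Q.map (pr X τ α H)) ≪≫ εE).hom
        = (Q.map ((K X τ α H).fil i).arrow ≫ Q.map (pr X τ α H)) ≫ εE.hom := by
          simp only [Iso.trans_hom, asIso_hom, Category.assoc]
      _ = Q.map (π X τ α H i) ≫ (ε i).hom ≫ a i := by
          rw [h1, Category.assoc, h2]
      _ = (asIso (Q.map (π X τ α H i)) ≪≫ ε i).hom ≫ a i := by
          simp only [Iso.trans_hom, asIso_hom, Category.assoc]
  · intro i
    have h1 : Q.map ((K X τ α H).stepLE (le_of_lt (Int.lt_succ_self i))) ≫ Q.map (π X τ α H i) =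
        Q.map (π X τ α H (i + 1)) ≫ Q.map (τ i) := by
      rw [← Functor.map_comp, stepLE_π, Functor.map_comp]
    have h2 : Q.map (τ i) ≫ (ε i).hom = (ε (i + 1)).hom ≫ t i := by
      rw [hτ]
      simp only [Category.assoc, Iso.inv_hom_id, Category.comp_id]
    calc Q.map ((K X τ α H).stepLE (le_of_lt (Int.lt_succ_self i))) ≫
          (asIso (Q.map (π X τ α H i)) ≪≫ ε i).hom
        = (Q.map ((K X τ α H).stepLE (le_of_lt (Int.lt_succ_self i))) ≫ Q.map (π X τ α H i)) ≫
            (ε i).hom := by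
          simp only [Iso.trans_hom, asIso_hom, Category.assoc]
      _ = Q.map (π X τ α H (i + 1)) ≫ (ε (i + 1)).hom ≫ t i := by
          rw [h1, Category.assoc, h2]
      _ = (asIso (Q.map (π X τ α H (i + 1))) ≪≫ ε (i + 1)).hom ≫ t i := by
          simp only [Iso.trans_hom, asIso_hom, Category.assoc]

end Derived

end Groth.Agent.Lib.FilRepH7
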