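import Mathlib
import Groth.Prelude.Def_SGA4c

set_option autoImplicit false

/-! Filtered colimits of sheaves of sets on a site all of whose objects are quasi-compact are
computed objectwise. -/

namespace Groth.Agent.Lib.FiltColimSheaf_helper7
open CategoryTheory CategoryTheory.Limits Opposite
universe u

section Stage
variable {I : Type*} [Category I]

lemma exists_stage {A : Type*} [Finite A] (i₀ : I) (Q : A → ∀ k : I, (i₀ ⟶ k) → Prop)
    (hmono : ∀ a k (f : i₀ ⟶ k) k' (g : k ⟶ k'), Q a k f → Q a k' (f ≫ g))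
    (hex : ∀ a k (f : i₀ ⟶ k), ∃ (k' : I) (g : k ⟶ k'), Q a k' (f ≫ g)) :
    ∃ k, ∃ f : i₀ ⟶ k, ∀ a, Q a k f := by
  classical
  cases nonempty_fintype A
  suffices h : ∀ s : Finset A, ∃ k, ∃ f : i₀ ⟶ k, ∀ a ∈ s, Q a k f by
    obtain ⟨k, f, hf⟩ := h Finset.univ
    exact ⟨k, f, fun a => hf a (Finset.mem_univ a)⟩
  intro s
  induction s using Finset.induction_on with
  | empty => exact ⟨i₀, 𝟙 _, by simp⟩
  | insert a s has ih =>
    obtain ⟨k, f, hf⟩ := ih
    obtain ⟨k', g, hg⟩ := hex a k f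
    refine ⟨k', f ≫ g, fun b hb => ?_⟩
    rcases Finset.mem_insert.1 hb with rfl | hb
    · exact hg
    · exact hmono b k f k' g (hf b hb)

end Stage

section Main
variable {C : Type u} [SmallCategory C] [HasPullbacks C] (J : GrothendieckTopology C)
  {I : Type u} [SmallCategory I] [IsFiltered I]
  (K : I ⥤ Cᵒᵖ ⥤ Type u) (c : Cocone K) (hc : IsColimit c)

include hc in
lemma surj (U : C) (x : c.pt.obj (op U)) :
    ∃ (i : I) (y : (K.obj i).obj (op U)), (c.ι.app i).app (op U) y = x :=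
  Types.jointly_surjective_of_isColimit
    (isColimitOfPreserves ((evaluation Cᵒᵖ (Type u)).obj (op U)) hc) x

include hc in
lemma eq_iff' (U : C) (i : I) (y y' : (K.obj i).obj (op U)) :
    (c.ι.app i).app (op U) y = (c.ι.app i).app (op U) y' ↔
      ∃ (j : I) (f : i ⟶ j), (K.map f).app (op U) y = (K.map f).app (op U) y' :=
  Types.FilteredColimit.isColimit_eq_iff'
    (isColimitOfPreserves ((evaluation Cᵒᵖ (Type u)).obj (op U)) hc) y y'

lemma ι_map (U : C) {i j : I} (f : i ⟶ j) (y : (K.obj i).obj (op U)) :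
    (c.ι.app j).app (op U) ((K.map f).app (op U) y) = (c.ι.app i).app (op U) y := by
  rw [← c.w f]; rfl

lemma ι_nat {U V : C} (h : V ⟶ U) (i : I) (y : (K.obj i).obj (op U)) :
    c.pt.map h.op ((c.ι.app i).app (op U) y) = (c.ι.app i).app (op V) ((K.obj i).map h.op y) :=
  (NatTrans.naturality_apply (c.ι.app i) h.op y).symm

lemma map_nat {U V : C} (h : V ⟶ U) {i j : I} (f : i ⟶ j) (y : (K.obj i).obj (op U)) :
    (K.obj j).map h.op ((K.map f).app (op U) y) = (K.map f).app (op V) ((K.obj i).map h.op y) :=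
  (NatTrans.naturality_apply (K.map f) h.op y).symm

lemma map_comp_app (U : C) {i j k : I} (f : i ⟶ j) (g : j ⟶ k) (y : (K.obj i).obj (op U)) :
    (K.map (f ≫ g)).app (op U) y = (K.map g).app (op U) ((K.map f).app (op U) y) := by
  rw [K.map_comp]; rfl

include hc in
lemma surj₂ (U : C) (x y : c.pt.obj (op U)) :
    ∃ (i : I) (x₀ y₀ : (K.obj i).obj (op U)),
      (c.ι.app i).app (op U) x₀ = x ∧ (c.ι.app i).app (op U) y₀ = y := by
  obtain ⟨i₁, x₁, rfl⟩ := surj K c hc U x
  obtain ⟨i₂, y₂, rfl⟩ := surj K c hc U y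
  exact ⟨IsFiltered.max i₁ i₂, _, _, ι_map K c U (IsFiltered.leftToMax i₁ i₂) x₁,
    ι_map K c U (IsFiltered.rightToMax i₁ i₂) y₂⟩

omit [HasPullbacks C] in
lemma eq_of_arrows {P : Cᵒᵖ ⥤ Type u} (hP : Presieve.IsSheaf J P) {U : C} {A : Type*}
    (V : A → C) (g : ∀ k, V k ⟶ U) (hg : Sieve.ofArrows V g ∈ J U) (t₁ t₂ : P.obj (op U))
    (h : ∀ k, P.map (g k).op t₁ = P.map (g k).op t₂) : t₁ = t₂ := by
  have h1 : Presieve.IsSheafFor P (Presieve.ofArrows V g) :=
    (Presieve.isSheafFor_iff_generate _).2 (hP _ hg)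
  refine h1.isSeparatedFor.ext ?_
  rintro Y f ⟨k⟩
  exact h k

include hc in
lemma sep_finite (hK : ∀ i, Presieve.IsSheaf J (K.obj i)) {U : C} {n : ℕ} (V : Fin n → C)
    (g : ∀ k, V k ⟶ U) (hg : Sieve.ofArrows V g ∈ J U) (x y : c.pt.obj (op U))
    (hxy : ∀ k, c.pt.map (g k).op x = c.pt.map (g k).op y) : x = y := by
  obtain ⟨i₀, x₀, y₀, rfl, rfl⟩ := surj₂ K c hc U x y
  obtain ⟨j, f, hf⟩ := exists_stage (A := Fin n) i₀
    (fun k j f => (K.obj j).map (g k).op ((K.map f).app (op U) x₀) =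
      (K.obj j).map (g k).op ((K.map f).app (op U) y₀))
    (fun k j f j' g' hq => by
      rw [map_comp_app, map_comp_app, map_nat K _ g', map_nat K _ g', hq])
    (fun k j f => by
      have h1 : (c.ι.app j).app (op (V k)) ((K.obj j).map (g k).op ((K.map f).app (op U) x₀)) =
          (c.ι.app j).app (op (V k)) ((K.obj j).map (g k).op ((K.map f).app (op U) y₀)) := by
        rw [← ι_nat, ← ι_nat, ι_map, ι_map]
        exact hxy k
      obtain ⟨j', g', hg'⟩ := (eq_iff' K c hc (V k) j _ _).1 h1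
      refine ⟨j', g', ?_⟩
      rw [map_comp_app, map_comp_app, map_nat K _ g', map_nat K _ g']
      exact hg')
  have h2 : (K.map f).app (op U) x₀ = (K.map f).app (op U) y₀ :=
    eq_of_arrows J (hK j) V g hg _ _ hf
  rw [← ι_map K c U f x₀, ← ι_map K c U f y₀, h2]

include hc in
lemma isSeparatedFor_of_mem (hJ : ∀ U : C, ToposFin.IsQCSite J U)
    (hK : ∀ i, Presieve.IsSheaf J (K.obj i)) {U : C} (T : Sieve U) (hT : T ∈ J U) :
    Presieve.IsSeparatedFor c.pt T.arrows := by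
  obtain ⟨n, V, g, hgT, hcov⟩ := hJ U T hT
  intro x t₁ t₂ h₁ h₂
  refine sep_finite J K c hc hK V g hcov t₁ t₂ (fun k => ?_)
  rw [h₁ (g k) (hgT k), h₂ (g k) (hgT k)]

include hc in
lemma isSheafFor_finite (hK : ∀ i, Presieve.IsSheaf J (K.obj i)) {U : C} {n : ℕ}
    (V : Fin n → C) (g : ∀ k, V k ⟶ U) (hg : Sieve.ofArrows V g ∈ J U) :
    Presieve.IsSheafFor c.pt (Presieve.ofArrows V g) := by
  rw [Presieve.isSheafFor_arrows_iff_pullbacks]
  intro x hx
  have hex : ∃ t : c.pt.obj (op U), ∀ k, c.pt.map (g k).op t = x k := by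
    obtain ⟨i₁, -, h1⟩ := exists_stage (A := Fin n) (IsFiltered.nonempty (C := I)).some
      (fun k j _ => ∃ y : (K.obj j).obj (op (V k)), (c.ι.app j).app (op (V k)) y = x k)
      (fun k j f j' g' ⟨y, hy⟩ => ⟨(K.map g').app _ y, by rw [ι_map]; exact hy⟩)
      (fun k j f => by
        obtain ⟨j', y, hy⟩ := surj K c hc (V k) (x k)
        exact ⟨IsFiltered.max j j', IsFiltered.leftToMax j j',
          (K.map (IsFiltered.rightToMax j j')).app _ y, by rw [ι_map]; exact hy⟩)
    choose ξ hξ using h1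
    obtain ⟨j, f, hf⟩ := exists_stage (A := Fin n × Fin n) i₁
      (fun kl j f =>
        (K.obj j).map (pullback.fst (g kl.1) (g kl.2)).op ((K.map f).app _ (ξ kl.1)) =
        (K.obj j).map (pullback.snd (g kl.1) (g kl.2)).op ((K.map f).app _ (ξ kl.2)))
      (fun kl j f j' g' hq => by
        rw [map_comp_app, map_comp_app, map_nat K _ g', map_nat K _ g', hq])
      (fun kl j f => by
        have h1 : (c.ι.app j).app _
            ((K.obj j).map (pullback.fst (g kl.1) (g kl.2)).op ((K.map f).app _ (ξ kl.1))) =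
            (c.ι.app j).app _
            ((K.obj j).map (pullback.snd (g kl.1) (g kl.2)).op ((K.map f).app _ (ξ kl.2))) := by
          rw [← ι_nat, ← ι_nat, ι_map, ι_map, hξ, hξ]
          exact hx kl.1 kl.2
        obtain ⟨j', g', hg'⟩ := (eq_iff' K c hc _ j _ _).1 h1
        refine ⟨j', g', ?_⟩
        rw [map_comp_app, map_comp_app, map_nat K _ g', map_nat K _ g']
        exact hg')
    have hsh : Presieve.IsSheafFor (K.obj j) (Presieve.ofArrows V g) :=
      (Presieve.isSheafFor_iff_generate _).2 (hK j _ hg)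
    rw [Presieve.isSheafFor_arrows_iff_pullbacks] at hsh
    obtain ⟨t, ht, -⟩ := hsh (fun k => (K.map f).app _ (ξ k)) (fun k l => hf (k, l))
    refine ⟨(c.ι.app j).app _ t, fun k => ?_⟩
    rw [ι_nat, ht k, ι_map, hξ]
  obtain ⟨t, ht⟩ := hex
  refine ⟨t, ht, fun t' ht' => ?_⟩
  exact sep_finite J K c hc hK V g hg t' t (fun k => by rw [ht' k, ht k])

include hc in
theorem isSheaf_pt (hJ : ∀ U : C, ToposFin.IsQCSite J U)
    (hK : ∀ i, Presieve.IsSheaf J (K.obj i)) : Presieve.IsSheaf J c.pt := by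
  intro U T hT
  obtain ⟨n, V, g, hgT, hcov⟩ := hJ U T hT
  refine Presieve.isSheafFor_subsieve_aux c.pt (S := Sieve.ofArrows V g) ?_ ?_ ?_
  · intro Y f hf
    exact ((Sieve.generate_le_iff _ _).2 (by rintro Y f ⟨k⟩; exact hgT k)) f hf
  · exact (Presieve.isSheafFor_iff_generate _).1 (isSheafFor_finite J K c hc hK V g hcov)
  · intro Y f _
    exact isSeparatedFor_of_mem J K c hc hJ hK _ (J.pullback_stable f hcov)

end Main

end Groth.Agent.Lib.FiltColimSheaf_helper7
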