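import Mathlib

/-!
# Finite data in a filtered colimit of commutative rings comes from a stage (lead)
-/

set_option autoImplicit false
universe u

namespace Groth.Agent.Lib.FiltColimStage

open CategoryTheory CategoryTheory.Limits MvPolynomial

variable {I : Type u} [SmallCategory I] [IsFiltered I] (D : I ⥤ CommRingCat.{u}) (c : Cocone D)
  (hc : IsColimit c)

omit [IsFiltered I] in
theorem ι_map {i j : I} (f : i ⟶ j) (y : D.obj i) :
    (c.ι.app j).hom ((D.map f).hom y) = (c.ι.app i).hom y :=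
  RingHom.congr_fun (congrArg CommRingCat.Hom.hom (c.w f)) y

include hc in
theorem exists_stage_finset (s : Finset c.pt) :
    ∃ i : I, ∀ x ∈ s, ∃ y : D.obj i, (c.ι.app i).hom y = x := by
  classical
  induction s using Finset.induction_on with
  | empty =>
    exact ⟨Classical.choice IsFiltered.nonempty, fun x hx => absurd hx (Finset.notMem_empty x)⟩
  | insert x s hx ih =>
    obtain ⟨i, hi⟩ := ih
    obtain ⟨j, y, hy⟩ := Concrete.isColimit_exists_rep D hc x
    refine ⟨IsFiltered.max i j, fun z hz => ?_⟩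
    rcases Finset.mem_insert.1 hz with hzx | hz'
    · refine ⟨(D.map (IsFiltered.rightToMax i j)).hom y, ?_⟩
      rw [ι_map, hzx]
      exact hy
    · obtain ⟨w, hw⟩ := hi z hz'
      exact ⟨(D.map (IsFiltered.leftToMax i j)).hom w, by rw [ι_map, hw]⟩

include hc in
theorem exists_stage_finite (s : Set c.pt) (hs : s.Finite) :
    ∃ i : I, s ⊆ Set.range (c.ι.app i).hom := by
  obtain ⟨i, hi⟩ := exists_stage_finset D c hc hs.toFinset
  exact ⟨i, fun x hx => hi x (hs.mem_toFinset.2 hx)⟩

include hc in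
theorem exists_kill_finset (i : I) (s : Finset (D.obj i))
    (hs : ∀ x ∈ s, (c.ι.app i).hom x = 0) :
    ∃ (j : I) (h : i ⟶ j), ∀ x ∈ s, (D.map h).hom x = 0 := by
  classical
  induction s using Finset.induction_on with
  | empty => exact ⟨i, 𝟙 i, fun x hx => absurd hx (Finset.notMem_empty x)⟩
  | insert x s hx ih =>
    obtain ⟨j₁, h₁, hj₁⟩ := ih (fun z hz => hs z (Finset.mem_insert_of_mem hz))
    have h0 : (c.ι.app i).hom x = (c.ι.app i).hom (0 : D.obj i) := by
      rw [hs x (Finset.mem_insert_self x s), map_zero]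
    obtain ⟨k, f, f', hff'⟩ := Concrete.isColimit_exists_of_rep_eq D hc x (0 : D.obj i) h0
    have hfx : (D.map f).hom x = 0 := by
      have h1 : (D.map f).hom x = (D.map f').hom (0 : D.obj i) := hff'
      rw [h1, map_zero]
    obtain ⟨j, g₁, g₂, hg⟩ := IsFiltered.span h₁ f
    refine ⟨j, h₁ ≫ g₁, fun z hz => ?_⟩
    rcases Finset.mem_insert.1 hz with hzx | hz'
    · rw [hzx, hg, D.map_comp]
      show (D.map g₂).hom ((D.map f).hom x) = 0
      rw [hfx, map_zero]
    · rw [D.map_comp]
      show (D.map g₁).hom ((D.map h₁).hom z) = 0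
      rw [hj₁ z hz', map_zero]

include hc in
/-- a ring map from a finitely presented `ℤ`-algebra to a filtered colimit factors through a
stage -/
theorem exists_factor (R₀ : Type u) [CommRing R₀] [Algebra.FinitePresentation ℤ R₀]
    (χ : R₀ →+* c.pt) :
    ∃ (i : I) (φ : R₀ →+* D.obj i), (c.ι.app i).hom.comp φ = χ := by
  classical
  obtain ⟨n, π, hπ, s, hs⟩ := Algebra.FinitePresentation.out (R := ℤ) (A := R₀)
  obtain ⟨i, hi⟩ := exists_stage_finset D c hc
    (Finset.univ.image fun k : Fin n => χ (π (X k)))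
  choose y hy using fun k : Fin n => hi (χ (π (X k)))
    (Finset.mem_image_of_mem _ (Finset.mem_univ k))
  let θ : MvPolynomial (Fin n) ℤ →+* D.obj i := (MvPolynomial.aeval y).toRingHom
  have hθX : ∀ k, θ (X k) = y k := fun k => MvPolynomial.aeval_X y k
  have hθ : (c.ι.app i).hom.comp θ = χ.comp π.toRingHom := by
    refine MvPolynomial.ringHom_ext (fun a => ?_) (fun k => ?_)
    · exact RingHom.congr_fun (RingHom.ext_int
        (((c.ι.app i).hom.comp θ).comp MvPolynomial.C)
        ((χ.comp π.toRingHom).comp MvPolynomial.C)) a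
    · show (c.ι.app i).hom (θ (X k)) = χ (π (X k))
      rw [hθX, hy]
  have hθ' : ∀ q, (c.ι.app i).hom (θ q) = χ (π q) := fun q => RingHom.congr_fun hθ q
  obtain ⟨j, h, hj⟩ := exists_kill_finset D c hc i (s.image θ) (by
    intro x hx
    obtain ⟨g, hg, rfl⟩ := Finset.mem_image.1 hx
    have h1 : g ∈ RingHom.ker π.toRingHom := by rw [← hs]; exact Ideal.subset_span hg
    have h2 : π g = 0 := RingHom.mem_ker.1 h1
    rw [hθ', h2, map_zero])
  let θ' : MvPolynomial (Fin n) ℤ →+* D.obj j := (D.map h).hom.comp θ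
  have hle : RingHom.ker π.toRingHom ≤ RingHom.ker θ' := by
    rw [← hs, Ideal.span_le]
    intro g hg
    exact RingHom.mem_ker.2 (hj _ (Finset.mem_image_of_mem θ hg))
  refine ⟨j, RingHom.liftOfSurjective π.toRingHom hπ ⟨θ', hle⟩, ?_⟩
  ext r
  obtain ⟨q, rfl⟩ := hπ r
  show (c.ι.app j).hom (RingHom.liftOfSurjective π.toRingHom hπ ⟨θ', hle⟩ (π.toRingHom q))
    = χ (π q)
  rw [RingHom.liftOfSurjective_comp_apply]
  show (c.ι.app j).hom ((D.map h).hom (θ q)) = χ (π q)
  rw [ι_map, hθ']

end Groth.Agent.Lib.FiltColimStage
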