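import Mathlib
import Groth.Prelude
import Groth.Agent.Lib.ModColim1_helper8
import Groth.Agent.Lib.EpiLoc_helper9
import Groth.Agent.Lib.QCohGen1_lead

/-!
# Epimorphisms from a filtered colimit onto a finite type quasi-coherent module (lead)

`main`: for a quasi-compact scheme `X`, a filtered colimit `G = colim G_j` of `O_X`-modules and a
finite type quasi-coherent module `F`, a map `u : G ⟶ F` is an epimorphism iff `G_j ⟶ G ⟶ F` is an
epimorphism for all `j` above some `j₀`.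

Ingredients: the legs of a colimit cocone of sheaves are jointly locally surjective (copied from
helper5's `ShColim5.locally_surj`, there for directed preorders, here for an arbitrary small index
category), helper8's `ModColimH8.isColimit_mapCocone`, helper9's `EpiLoc.exists_local_lift`, and the
generators argument of `QCohGen1_lead`.
-/

set_option autoImplicit false
set_option linter.all false
set_option maxHeartbeats 1600000
set_option backward.isDefEq.respectTransparency false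
set_option backward.isDefEq.respectTransparency.types false
set_option backward.defeqAttrib.useBackward true

universe u

open CategoryTheory CategoryTheory.Limits AlgebraicGeometry Opposite TopologicalSpace
open QcqsLoc QCohExtn

namespace Groth.Agent.Lib.FiltEpiL

/-- the legs of a colimit cocone of sheaves of sets are jointly locally surjective (any small index
category; proof copied from helper5's `ShColim5.locally_surj`). -/
theorem locally_surj_type {T : TopCat.{u}} {K : Type u} [SmallCategory K]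
    (F : K ⥤ Sheaf (Opens.grothendieckTopology T) (Type u)) (c : Cocone F) (hc : IsColimit c)
    (V : Opens T) (g : c.pt.obj.obj (op V)) (x : T) (hx : x ∈ V) :
    ∃ (W : Opens T) (hW : W ≤ V) (i : K) (s : (F.obj i).obj.obj (op W)), x ∈ W ∧
      (c.ι.app i).hom.app (op W) s = c.pt.obj.map (homOfLE hW).op g := by
  let D := F ⋙ sheafToPresheaf (Opens.grothendieckTopology T) (Type u)
  let E := colimit.cocone D
  have hE : IsColimit E := colimit.isColimit D
  have hc' := Sheaf.isColimitSheafifyCocone E hE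
  let e := hc.coconePointUniqueUpToIso hc'
  have he : ∀ i, c.ι.app i ≫ e.hom = (Sheaf.sheafifyCocone E).ι.app i := fun i =>
    hc.comp_coconePointUniqueUpToIso_hom hc' i
  have h5 := Presheaf.imageSieve_mem (Opens.grothendieckTopology T)
    (toSheafify (Opens.grothendieckTopology T) E.pt) (U := op V) (e.hom.hom.app (op V) g)
  obtain ⟨W, f, ⟨y, hy⟩, hxW⟩ := h5 x hx
  have hEW := isColimitOfPreserves ((evaluation (Opens T)ᵒᵖ (Type u)).obj (op W)) hE
  obtain ⟨i, s, hs⟩ := Types.jointly_surjective_of_isColimit hEW y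
  refine ⟨W, f.le, i, s, hxW, ?_⟩
  have hinj : Function.Injective (e.hom.hom.app (op W)) := by
    intro a b hab
    have h1 : ∀ z, e.inv.hom.app (op W) (e.hom.hom.app (op W) z) = z := fun z =>
      congrArg (fun φ => φ z) (congrArg (fun φ => φ.hom.app (op W)) e.hom_inv_id)
    rw [← h1 a, ← h1 b, hab]
  apply hinj
  have h2 := congrArg (fun φ => φ.hom.app (op W)) (he i)
  have h3 := Sheaf.sheafifyCocone_ι_app_val E i
  have h4 : e.hom.hom.app (op W) ((c.ι.app i).hom.app (op W) s) =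
      (toSheafify (Opens.grothendieckTopology T) E.pt).app (op W) ((E.ι.app i).app (op W) s) := by
    have := congrArg (fun φ => φ s) h2
    rw [h3] at this
    exact this
  rw [h4]
  have hs' : (E.ι.app i).app (op W) s = y := hs
  rw [hs', hy]
  have n1 := NatTrans.naturality_apply e.hom.hom f.op g
  exact n1.symm

variable {X : Scheme.{u}}

/-- a section of a filtered colimit of `O_X`-modules locally comes from a stage. -/
theorem locally_rep {K : Type u} [SmallCategory K] [IsFiltered K]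
    (D : K ⥤ X.Modules) (c : Cocone D) (hc : IsColimit c) (V : X.Opens)
    (t : Γ(c.pt, V)) (x : X) (hx : x ∈ V) :
    ∃ (W : X.Opens) (hW : W ≤ V) (i : K) (s : Γ(D.obj i, W)), x ∈ W ∧
      ap (c.ι.app i) W s = rF c.pt hW t := by
  obtain ⟨hc'⟩ := ModColimH8.isColimit_mapCocone D c hc
  obtain ⟨W, hW, i, s, hxW, hs⟩ := locally_surj_type (D ⋙ ModColimH8.toSetSheaf X)
    ((ModColimH8.toSetSheaf X).mapCocone c) hc' V t x hx
  exact ⟨W, hW, i, s, hxW, hs⟩

theorem step1 {K : Type u} [SmallCategory K] [IsFiltered K]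
    (D : K ⥤ X.Modules) (c : Cocone D) (hc : IsColimit c) {F : X.Modules} (u : c.pt ⟶ F) [Epi u]
    (V : X.Opens) (s : Γ(F, V)) (x : X) (hx : x ∈ V) :
    ∃ (W : X.Opens) (hW : W ≤ V) (i : K) (t : Γ(D.obj i, W)), x ∈ W ∧
      ap (c.ι.app i ≫ u) W t = rF F hW s := by
  obtain ⟨V₁, hV₁, hxV₁, t₁, ht₁⟩ := EpiLoc.exists_local_lift u s hx
  obtain ⟨W, hW, i, t, hxW, ht⟩ := locally_rep D c hc V₁ t₁ x hxV₁
  refine ⟨W, hW.trans hV₁, i, t, hxW, ?_⟩
  have h1 : ap (c.ι.app i ≫ u) W t = ap u W (ap (c.ι.app i) W t) := rfl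
  have ht₁' : ap u V₁ t₁ = rF F hV₁ s := ht₁
  rw [h1, ht, ap_rF, ht₁', rF_rF]

theorem step2 {K : Type u} [SmallCategory K] [IsFiltered K]
    (D : K ⥤ X.Modules) (c : Cocone D) (hc : IsColimit c) {F : X.Modules} (u : c.pt ⟶ F) [Epi u]
    (V : X.Opens) (hV : IsCompact (V : Set X)) (s : Γ(F, V)) :
    ∃ j₀ : K, ∀ j : K, Nonempty (j₀ ⟶ j) → ∀ (Z : X.Modules) (ψ : F ⟶ Z),
      (c.ι.app j ≫ u) ≫ ψ = 0 → ap ψ V s = 0 := by
  classical
  choose W hW i t hxW ht using fun (x : V) => step1 D c hc u V s x.1 x.2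
  obtain ⟨T, hT⟩ := hV.elim_finite_subcover (fun x : V => (W x : Set X))
    (fun x => (W x).isOpen) (fun y hy => Set.mem_iUnion.mpr ⟨⟨y, hy⟩, hxW ⟨y, hy⟩⟩)
  obtain ⟨j₀, hj₀⟩ := IsFiltered.sup_objs_exists (T.image i)
  refine ⟨j₀, fun j hf Z ψ hψ => ?_⟩
  obtain ⟨f⟩ := hf
  refine eq_of_cover Z (ap ψ V s) 0 ?_
  intro y hy
  obtain ⟨x, hxT, hyx⟩ := Set.mem_iUnion₂.mp (hT hy)
  obtain ⟨g⟩ := hj₀ (Finset.mem_image_of_mem i hxT)
  refine ⟨W x, hW x, hyx, ?_⟩
  rw [map_zero, ← ap_rF, ← ht x]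
  have hw : D.map (g ≫ f) ≫ c.ι.app j = c.ι.app (i x) := c.w (g ≫ f)
  have h3 : ap (c.ι.app (i x) ≫ u) (W x) (t x) =
      ap ((D.map (g ≫ f) ≫ c.ι.app j) ≫ u) (W x) (t x) := by rw [hw]
  have h4 : ap ψ (W x) (ap ((D.map (g ≫ f) ≫ c.ι.app j) ≫ u) (W x) (t x)) =
      ap ((c.ι.app j ≫ u) ≫ ψ) (W x) (ap (D.map (g ≫ f)) (W x) (t x)) := rfl
  rw [h3, h4, hψ]
  rfl

/-- variant of `QCohGenL.exists_gens` recording that the opens are affine. -/
theorem exists_gens' [CompactSpace X] (E : X.Modules) [E.IsQuasicoherent]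
    [SheafOfModules.IsFiniteType (R := X.ringCatSheaf) E] :
    ∃ (n : ℕ) (L : Fin n → X.Opens) (t : ∀ i, Γ(E, L i)), (∀ i, IsAffineOpen (L i)) ∧
      ∀ x : X, ∃ V : X.Opens, IsAffineOpen V ∧ x ∈ V ∧
        Submodule.span Γ(X, V)
          {s : Γ(E, V) | ∃ (i : Fin n) (h : V ≤ L i), s = rF E h (t i)} = ⊤ := by
  have hc : IsCompact ((⊤ : X.Opens) : Set X) := by
    rw [Opens.coe_top]; exact isCompact_univ
  obtain ⟨S, hS, hcov⟩ := isCompact_iff_finite_and_eq_biUnion_affineOpens.mp hc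
  haveI : Finite S := hS.to_subtype
  have hfin : ∀ W : S, ∃ T : Finset Γ(E, W.1.1),
      Submodule.span Γ(X, W.1.1) (T : Set Γ(E, W.1.1)) = ⊤ := by
    intro W
    haveI := QCohFT.finite_of_isFiniteType E W.1.2
    obtain ⟨T, hT⟩ := (Module.Finite.fg_top : (⊤ : Submodule Γ(X, W.1.1) Γ(E, W.1.1)).FG)
    exact ⟨T, hT⟩
  choose T hT using hfin
  let I := Σ W : S, {s : Γ(E, W.1.1) // s ∈ T W}
  haveI : Finite I := inferInstance
  let e : I ≃ Fin (Nat.card I) := Finite.equivFin I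
  refine ⟨Nat.card I, fun i => (e.symm i).1.1.1, fun i => (e.symm i).2.1,
    fun i => (e.symm i).1.1.2, fun x => ?_⟩
  have hx : x ∈ (⊤ : X.Opens) := trivial
  rw [hcov] at hx
  obtain ⟨W, hxW'⟩ := Opens.mem_iSup.mp hx
  obtain ⟨hW, hxW⟩ := Opens.mem_iSup.mp hxW'
  refine ⟨W.1, W.2, hxW, ?_⟩
  rw [eq_top_iff, ← hT ⟨W, hW⟩]
  apply Submodule.span_mono
  intro s hs
  have key : ∀ idx : I, ∃ (i : Fin (Nat.card I)) (h : idx.1.1.1 ≤ (e.symm i).1.1.1),
      idx.2.1 = rF E h ((e.symm i).2.1) := by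
    intro idx
    obtain ⟨i, rfl⟩ : ∃ i, e.symm i = idx := ⟨e idx, e.symm_apply_apply idx⟩
    exact ⟨i, le_rfl, (Groth.Agent.Lib.QCohGenL.rF_refl' E _).symm⟩
  exact key ⟨⟨W, hW⟩, ⟨s, Finset.mem_coe.mp hs⟩⟩

/-- a map out of a quasi-coherent module killing a locally generating family of sections is zero
(the argument of `QCohGenL.epi_of_gens`). -/
theorem eq_zero_of_gens (E : X.Modules) [E.IsQuasicoherent] {n : ℕ} (L : Fin n → X.Opens)
    (t : ∀ i, Γ(E, L i))
    (hgen : ∀ x : X, ∃ V : X.Opens, IsAffineOpen V ∧ x ∈ V ∧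
        Submodule.span Γ(X, V)
          {s : Γ(E, V) | ∃ (i : Fin n) (h : V ≤ L i), s = rF E h (t i)} = ⊤)
    {Z : X.Modules} (ψ : E ⟶ Z) (h1 : ∀ i, ap ψ (L i) (t i) = 0) : ψ = 0 := by
  have h4 : ∀ (V : X.Opens), Submodule.span Γ(X, V)
      {s : Γ(E, V) | ∃ (i : Fin n) (h : V ≤ L i), s = rF E h (t i)} = ⊤ →
      ∀ s : Γ(E, V), ap ψ V s = 0 := by
    intro V hV s
    have hs : s ∈ Submodule.span Γ(X, V)
        {s : Γ(E, V) | ∃ (i : Fin n) (h : V ≤ L i), s = rF E h (t i)} := by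
      rw [hV]; exact Submodule.mem_top
    refine Submodule.span_induction (p := fun x _ => ap ψ V x = 0) ?_ ?_ ?_ ?_ hs
    · intro s' hs'
      obtain ⟨i, h, rfl⟩ := hs'
      rw [ap_rF, h1, map_zero]
    · exact map_zero _
    · intro a b _ _ ha hb
      rw [map_add, ha, hb, add_zero]
    · intro r a _ ha
      rw [ap_smul, ha, smul_zero]
  have h5 : ∀ (V : X.Opens), IsAffineOpen V → (∀ s : Γ(E, V), ap ψ V s = 0) →
      ∀ (a : Γ(X, V)) (t' : Γ(E, X.basicOpen a)), ap ψ (X.basicOpen a) t' = 0 := by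
    intro V hV h0 a t'
    obtain ⟨m, s, hs⟩ := exists_pow_smul_extends (F := E) (a := a) hV.isCompact hV.isQuasiSeparated t'
    have h6 : rX (X.basicOpen_le a) a ^ m • ap ψ (X.basicOpen a) t' = 0 := by
      rw [← ap_smul, ← hs, ap_rF, h0, map_zero]
    have hu : IsUnit (rX (X.basicOpen_le a) a) := RingedSpace.isUnit_res_basicOpen _ a
    exact (hu.pow m).smul_eq_zero.mp h6
  let B : Set X.Opens := {W | ∃ (V : X.Opens) (a : Γ(X, V)), IsAffineOpen V ∧
    (∀ s : Γ(E, V), ap ψ V s = 0) ∧ W = X.basicOpen a}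
  have hB : Opens.IsBasis B := by
    rw [Opens.isBasis_iff_nbhd]
    intro O x hx
    obtain ⟨V, hV, hxV, hspan⟩ := hgen x
    obtain ⟨a, ha1, ha2⟩ := hV.exists_basicOpen_le ⟨x, hx⟩ hxV
    exact ⟨X.basicOpen a, ⟨V, a, hV, h4 V hspan, rfl⟩, ha2, ha1⟩
  apply Groth.Agent.Lib.BasisHomH7.hom_ext_basis hB
  rintro W ⟨V, a, hV, h0, rfl⟩ x
  rw [h5 V hV h0 a x]
  rfl

theorem main [CompactSpace X]
    {J : Type u} [SmallCategory J] [IsFiltered J] (D : J ⥤ X.Modules)
    (c : Cocone D) (hc : IsColimit c)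
    (F : X.Modules) [F.IsQuasicoherent] [SheafOfModules.IsFiniteType (R := X.ringCatSheaf) F]
    (u : c.pt ⟶ F) :
    Epi u ↔ ∃ j₀ : J, ∀ j : J, Nonempty (j₀ ⟶ j) → Epi (c.ι.app j ≫ u) := by
  classical
  constructor
  · intro hu
    obtain ⟨n, L, t, hL, hgen⟩ := exists_gens' F
    choose j hj using fun i : Fin n => step2 D c hc u (L i) (hL i).isCompact (t i)
    obtain ⟨j₀, hj₀⟩ := IsFiltered.sup_objs_exists (Finset.univ.image j)
    refine ⟨j₀, fun k hf => ?_⟩
    obtain ⟨f⟩ := hf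
    apply Preadditive.epi_of_cancel_zero
    intro Z ψ hψ
    apply eq_zero_of_gens F L t hgen ψ
    intro i
    obtain ⟨g⟩ := hj₀ (Finset.mem_image_of_mem j (Finset.mem_univ i))
    exact hj i k ⟨g ≫ f⟩ Z ψ hψ
  · rintro ⟨j₀, h⟩
    haveI := h j₀ ⟨𝟙 j₀⟩
    exact epi_of_epi (c.ι.app j₀) u

end Groth.Agent.Lib.FiltEpiL
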