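import Groth.Agent.Lib.FiltProj_helper1

/-!
# Lifting finite projective modules along a complete filtration (helper1)

`A` a commutative ring with a decreasing sequence of ideals `K n`, complete and separated for it,
with `K 0 ≤ radical (K n)` for all `n`; `Φ : A → B` surjective with kernel `K 0`.
Idempotent matrices and finite projective modules lift from `B` to `A`, uniquely up to isomorphism.
-/

set_option autoImplicit false

namespace Groth.Agent.Lib.FiltLiftH1

open Groth.Agent.Lib.FiltProjH1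

universe u

section nilmatrix

variable {C : Type*} [CommRing C] {r : ℕ}

theorem matrix_isNilpotent_of_entries (x : Matrix (Fin r) (Fin r) C)
    (hx : ∀ i j, IsNilpotent (x i j)) : IsNilpotent x := by
  classical
  let N₀ : Ideal C := Ideal.span (Set.range (fun ij : Fin r × Fin r => x ij.1 ij.2))
  have hfg : N₀.FG := Submodule.fg_span (Set.finite_range _)
  have hle : N₀ ≤ nilradical C := Ideal.span_le.2 (by
    rintro _ ⟨ij, rfl⟩
    exact mem_nilradical.2 (hx _ _))
  obtain ⟨k, hk⟩ := hfg.isNilpotent_iff_le_nilradical.2 hle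
  have hent : ∀ m i j, (x ^ m) i j ∈ N₀ ^ m := by
    intro m
    induction m with
    | zero =>
      intro i j
      rw [pow_zero, Ideal.one_eq_top]
      exact Submodule.mem_top
    | succ m ih =>
      intro i j
      rw [pow_succ x m, Matrix.mul_apply, pow_succ]
      exact Ideal.sum_mem _ fun l _ =>
        Ideal.mul_mem_mul (ih i l) (Ideal.subset_span ⟨(l, j), rfl⟩)
  refine ⟨k, ?_⟩
  ext i j
  have := hent k i j
  rw [hk, Ideal.zero_eq_bot, Ideal.mem_bot] at this
  rw [this]
  rfl

theorem mapMatrix_surjective {R S : Type*} [Semiring R] [Semiring S] (f : R →+* S)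
    (hf : Function.Surjective f) :
    Function.Surjective (f.mapMatrix : Matrix (Fin r) (Fin r) R →+* Matrix (Fin r) (Fin r) S) := by
  intro m
  refine ⟨Matrix.of fun i j => Classical.choose (hf (m i j)), ?_⟩
  ext i j
  exact Classical.choose_spec (hf (m i j))

end nilmatrix

section semilinear

variable {A B : Type*} [CommRing A] [CommRing B] (Φ : A →+* B)

theorem exists_lift_semilinear {P₁ P₂ P : Type*} [AddCommGroup P₁] [AddCommGroup P₂]
    [AddCommGroup P] [Module A P₁] [Module A P₂] [Module B P] [Module.Projective A P₁]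
    (π₁ : P₁ →ₛₗ[Φ] P) (π₂ : P₂ →ₛₗ[Φ] P) (h₂ : Function.Surjective π₂) :
    ∃ g : P₁ →ₗ[A] P₂, ∀ x, π₂ (g x) = π₁ x := by
  obtain ⟨s, hs⟩ := (Module.projective_def' (R := A) (P := P₁)).1 inferInstance
  choose c hc using fun x : P₁ => h₂ (π₁ x)
  refine ⟨(Finsupp.linearCombination A c) ∘ₗ s, fun x => ?_⟩
  have hx : Finsupp.linearCombination A id (s x) = x := LinearMap.congr_fun hs x
  conv_rhs => rw [← hx]
  rw [LinearMap.comp_apply, Finsupp.linearCombination_apply, Finsupp.linearCombination_apply,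
    Finsupp.sum, Finsupp.sum, map_sum, map_sum]
  refine Finset.sum_congr rfl fun y _ => ?_
  rw [map_smulₛₗ, map_smulₛₗ, hc]
  rfl

theorem exists_equiv_of_lifts (hjac : RingHom.ker Φ ≤ Ideal.jacobson ⊥)
    {P₁ P₂ P : Type*} [AddCommGroup P₁] [AddCommGroup P₂] [AddCommGroup P]
    [Module A P₁] [Module A P₂] [Module B P]
    [Module.Finite A P₁] [Module.Projective A P₁] [Module.Finite A P₂] [Module.Projective A P₂]
    (π₁ : P₁ →ₛₗ[Φ] P) (π₂ : P₂ →ₛₗ[Φ] P)
    (h₁ : Function.Surjective π₁)
    (k₁ : LinearMap.ker π₁ = RingHom.ker Φ • (⊤ : Submodule A P₁))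
    (h₂ : Function.Surjective π₂)
    (k₂ : LinearMap.ker π₂ = RingHom.ker Φ • (⊤ : Submodule A P₂)) :
    ∃ e : P₁ ≃ₗ[A] P₂, ∀ x, π₂ (e x) = π₁ x := by
  obtain ⟨g, hg⟩ := exists_lift_semilinear Φ π₁ π₂ h₂
  have hsurj : Function.Surjective g := by
    rw [← LinearMap.range_eq_top]
    apply eq_top_of_sup_smul_eq_top (RingHom.ker Φ) ⊥ hjac (fun a ha x => by
      rw [Ideal.mem_bot] at ha
      rw [ha, zero_smul])
    rw [eq_top_iff]
    rintro y -
    obtain ⟨x, hx⟩ := h₁ (π₂ y)
    have hy : y - g x ∈ LinearMap.ker π₂ := by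
      rw [LinearMap.mem_ker, map_sub, hg, hx, sub_self]
    rw [k₂] at hy
    have e : y = g x + (y - g x) := by abel
    rw [e]
    exact Submodule.add_mem_sup ⟨x, rfl⟩ hy
  obtain ⟨t, ht⟩ := Module.projective_lifting_property g LinearMap.id hsurj
  have htg : ∀ y, g (t y) = y := fun y => LinearMap.congr_fun ht y
  have hinj : Function.Injective g := by
    rw [← LinearMap.ker_eq_bot]
    let ρ : P₁ →ₗ[A] P₁ := LinearMap.id - t ∘ₗ g
    have hρ : ∀ x ∈ LinearMap.ker g, ρ x = x := fun x hx => by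
      simp only [ρ, LinearMap.sub_apply, LinearMap.id_apply, LinearMap.comp_apply,
        LinearMap.mem_ker.1 hx, map_zero, sub_zero]
    have hρk : ∀ x, ρ x ∈ LinearMap.ker g := fun x => by
      rw [LinearMap.mem_ker]
      simp only [ρ, LinearMap.sub_apply, LinearMap.id_apply, LinearMap.comp_apply, map_sub, htg,
        sub_self]
    have hfg : (LinearMap.ker g).FG := by
      have hker : LinearMap.ker g = LinearMap.range ρ :=
        le_antisymm (fun x hx => ⟨x, hρ x hx⟩) (by
          rintro _ ⟨x, rfl⟩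
          exact hρk x)
      rw [hker, LinearMap.range_eq_map]
      exact Module.Finite.fg_top.map ρ
    apply Submodule.eq_bot_of_le_smul_of_le_jacobson_bot (RingHom.ker Φ) _ hfg _ hjac
    intro x hx
    have hx1 : x ∈ LinearMap.ker π₁ := by
      rw [LinearMap.mem_ker, ← hg, LinearMap.mem_ker.1 hx, map_zero]
    rw [k₁] at hx1
    rw [← hρ x hx]
    refine Submodule.smul_induction_on hx1 (fun a ha y _ => ?_) (fun y z hy hz => ?_)
    · rw [map_smul]
      exact Submodule.smul_mem_smul ha (hρk y)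
    · rw [map_add]
      exact add_mem hy hz
  exact ⟨LinearEquiv.ofBijective g ⟨hinj, hsurj⟩, fun x => hg x⟩

end semilinear


section main

variable {A : Type u} [CommRing A] (K : ℕ → Ideal A)

theorem isNilpotent_mk (hrad : ∀ n, K 0 ≤ (K n).radical) (n : ℕ) {a : A} (ha : a ∈ K 0) :
    IsNilpotent (Ideal.Quotient.mk (K n) a) := by
  obtain ⟨m, hm⟩ := hrad n ha
  exact ⟨m, by rw [← map_pow]; exact Ideal.Quotient.eq_zero_iff_mem.2 hm⟩

theorem le_jacobson_bot (hanti : Antitone K)
    (hcomp : ∀ w : ℕ → A, (∀ n, w (n + 1) - w n ∈ K n) → ∃ x, ∀ n, x - w n ∈ K n)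
    (hsep : ⨅ n, K n = ⊥) (hrad : ∀ n, K 0 ≤ (K n).radical) :
    K 0 ≤ Ideal.jacobson ⊥ := by
  intro x hx
  rw [Ideal.mem_jacobson_bot]
  intro y
  have hz : x * y ∈ K 0 := (K 0).mul_mem_right y hx
  generalize x * y = z at hz
  have hu : ∀ n, ∃ u : A, (z + 1) * u - 1 ∈ K n := by
    intro n
    obtain ⟨v, hv⟩ := (isNilpotent_mk K hrad n hz).isUnit_add_one.exists_right_inv
    obtain ⟨u, rfl⟩ := Ideal.Quotient.mk_surjective v
    refine ⟨u, ?_⟩
    rw [← Ideal.Quotient.eq_zero_iff_mem, map_sub, map_mul, map_add, map_one, hv, sub_self]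
  choose u hu using hu
  have hdiff : ∀ n, u (n + 1) - u n ∈ K n := by
    intro n
    have e : u (n + 1) - u n =
        u n * ((z + 1) * u (n + 1) - 1) - u (n + 1) * ((z + 1) * u n - 1) := by ring
    rw [e]
    exact (K n).sub_mem ((K n).mul_mem_left _ (hanti (Nat.le_succ n) (hu (n + 1))))
      ((K n).mul_mem_left _ (hu n))
  obtain ⟨v, hv⟩ := hcomp u hdiff
  have h0 : (z + 1) * v - 1 = 0 := by
    have hmem : (z + 1) * v - 1 ∈ ⨅ n, K n := by
      rw [Ideal.mem_iInf]
      intro n
      have e : (z + 1) * v - 1 = (z + 1) * (v - u n) + ((z + 1) * u n - 1) := by ring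
      rw [e]
      exact (K n).add_mem ((K n).mul_mem_left _ (hv n)) (hu n)
    rw [hsep] at hmem
    exact hmem
  exact isUnit_iff_exists_inv.2 ⟨v, sub_eq_zero.1 h0⟩

variable {B : Type u} [CommRing B] (Φ : A →+* B)

theorem exists_idempotent_lift (hanti : Antitone K)
    (hcomp : ∀ w : ℕ → A, (∀ n, w (n + 1) - w n ∈ K n) → ∃ x, ∀ n, x - w n ∈ K n)
    (hsep : ⨅ n, K n = ⊥) (hrad : ∀ n, K 0 ≤ (K n).radical)
    (hΦ : Function.Surjective Φ) (hker : RingHom.ker Φ = K 0)
    {r : ℕ} (e : Matrix (Fin r) (Fin r) B) (he : IsIdempotentElem e) :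
    ∃ e' : Matrix (Fin r) (Fin r) A, IsIdempotentElem e' ∧ Φ.mapMatrix e' = e := by
  classical
  have hle : ∀ n a, a ∈ K n → Φ a = 0 := fun n a ha => by
    have := hanti (Nat.zero_le n) ha
    rw [← hker] at this
    exact this
  let Φq : ∀ n, A ⧸ K n →+* B := fun n => Ideal.Quotient.lift (K n) Φ (hle n)
  let fac : ∀ n, A ⧸ K (n + 1) →+* A ⧸ K n := fun n =>
    Ideal.Quotient.factor (hanti (Nat.le_succ n))
  have hfac : ∀ n, (Φq n).comp (fac n) = Φq (n + 1) := fun n =>
    Ideal.Quotient.ringHom_ext (RingHom.ext fun a => rfl)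
  have hΦq : ∀ n, (Φq n).comp (Ideal.Quotient.mk (K n)) = Φ := fun n => RingHom.ext fun a => rfl
  -- base
  have base : Nonempty {e0 : Matrix (Fin r) (Fin r) (A ⧸ K 0) //
      IsIdempotentElem e0 ∧ (Φq 0).mapMatrix e0 = e} := by
    have hsurj : Function.Surjective (Φq 0) := fun b => by
      obtain ⟨a, rfl⟩ := hΦ b
      exact ⟨Ideal.Quotient.mk _ a, rfl⟩
    obtain ⟨e0, h1, h2⟩ := exists_isIdempotentElem_eq_of_ker_isNilpotent (Φq 0).mapMatrix
      (fun x hx => by
        apply matrix_isNilpotent_of_entries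
        intro i j
        obtain ⟨a, ha⟩ := Ideal.Quotient.mk_surjective (x i j)
        have h0 : (Φq 0) (x i j) = 0 := by
          have := Matrix.ext_iff.2 (RingHom.mem_ker.1 hx) i j
          rwa [RingHom.mapMatrix_apply, Matrix.map_apply, Matrix.zero_apply] at this
        rw [← ha] at h0 ⊢
        have ha0 : a ∈ K 0 := by
          rw [← hker]
          exact h0
        exact isNilpotent_mk K hrad 0 ha0)
      e (RingHom.mem_range.2 (mapMatrix_surjective _ hsurj e)) he
    exact ⟨⟨e0, h1, h2⟩⟩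
  obtain ⟨es, hes⟩ : ∃ es : ∀ n, {en : Matrix (Fin r) (Fin r) (A ⧸ K n) //
      IsIdempotentElem en ∧ (Φq n).mapMatrix en = e},
      ∀ n, (fac n).mapMatrix (es (n + 1)).1 = (es n).1 := by
    refine exists_dep_seq (α := fun n => {en : Matrix (Fin r) (Fin r) (A ⧸ K n) //
      IsIdempotentElem en ∧ (Φq n).mapMatrix en = e})
      (fun n en en' => (fac n).mapMatrix en'.1 = en.1) base.some ?_
    rintro n ⟨en, h1, h2⟩
    have hsurj : Function.Surjective (fac n) := fun b => by
      obtain ⟨a, rfl⟩ := Ideal.Quotient.mk_surjective b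
      exact ⟨Ideal.Quotient.mk _ a, rfl⟩
    obtain ⟨en', h1', h2'⟩ := exists_isIdempotentElem_eq_of_ker_isNilpotent (fac n).mapMatrix
      (fun x hx => by
        apply matrix_isNilpotent_of_entries
        intro i j
        obtain ⟨a, ha⟩ := Ideal.Quotient.mk_surjective (x i j)
        have h0 : (fac n) (x i j) = 0 := by
          have := Matrix.ext_iff.2 (RingHom.mem_ker.1 hx) i j
          rwa [RingHom.mapMatrix_apply, Matrix.map_apply, Matrix.zero_apply] at this
        rw [← ha] at h0 ⊢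
        have ha0 : a ∈ K n := Ideal.Quotient.eq_zero_iff_mem.1 h0
        exact isNilpotent_mk K hrad (n + 1) (hanti (Nat.zero_le n) ha0))
      en (RingHom.mem_range.2 (mapMatrix_surjective _ hsurj en)) h1
    refine ⟨⟨en', h1', ?_⟩, h2'⟩
    rw [← h2, ← h2', ← RingHom.comp_apply, RingHom.mapMatrix_comp, hfac]
  -- representatives
  have hx : ∀ n, ∃ x : Matrix (Fin r) (Fin r) A, (Ideal.Quotient.mk (K n)).mapMatrix x = (es n).1 :=
    fun n => mapMatrix_surjective _ Ideal.Quotient.mk_surjective _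
  choose x hx using hx
  have hxe : ∀ n i j, Ideal.Quotient.mk (K n) (x n i j) = (es n).1 i j := fun n i j =>
    Matrix.ext_iff.2 (hx n) i j
  have hdiff : ∀ i j n, x (n + 1) i j - x n i j ∈ K n := by
    intro i j n
    rw [← Ideal.Quotient.eq_zero_iff_mem, map_sub, sub_eq_zero, hxe n, ← hes n]
    have : (fac n).mapMatrix (es (n + 1)).1 i j = fac n ((es (n + 1)).1 i j) := rfl
    rw [this, ← hxe (n + 1)]
    rfl
  have hc : ∀ i j, ∃ c : A, ∀ n, c - x n i j ∈ K n := fun i j =>
    hcomp (fun n => x n i j) (hdiff i j)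
  choose c hc using hc
  let e' : Matrix (Fin r) (Fin r) A := Matrix.of c
  have he'n : ∀ n, (Ideal.Quotient.mk (K n)).mapMatrix e' = (es n).1 := by
    intro n
    ext i j
    rw [← hxe n]
    have : (Ideal.Quotient.mk (K n)).mapMatrix e' i j = Ideal.Quotient.mk (K n) (c i j) := rfl
    rw [this, ← sub_eq_zero, ← map_sub, Ideal.Quotient.eq_zero_iff_mem]
    exact hc i j n
  refine ⟨e', ?_, ?_⟩
  · rw [IsIdempotentElem, ← sub_eq_zero]
    ext i j
    have hmem : (e' * e' - e') i j ∈ ⨅ n, K n := by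
      rw [Ideal.mem_iInf]
      intro n
      rw [← Ideal.Quotient.eq_zero_iff_mem]
      have : Ideal.Quotient.mk (K n) ((e' * e' - e') i j) =
          (Ideal.Quotient.mk (K n)).mapMatrix (e' * e' - e') i j := rfl
      rw [this, map_sub, map_mul, he'n n, (es n).2.1.eq, sub_self]
      rfl
    rw [hsep] at hmem
    exact hmem
  · rw [← (es 0).2.2, ← he'n 0, ← RingHom.comp_apply, RingHom.mapMatrix_comp, hΦq]

end main


section modlift

open Matrix

variable {A B : Type u} [CommRing A] [CommRing B] (Φ : A →+* B)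

/-- coordinatewise application of `Φ` as a semilinear map -/
def piMap (r : ℕ) : (Fin r → A) →ₛₗ[Φ] (Fin r → B) where
  toFun v := fun i => Φ (v i)
  map_add' v w := by
    funext i
    exact map_add Φ _ _
  map_smul' a v := by
    funext i
    exact map_mul Φ _ _

theorem exists_lift_module_of_idempotent_lift (hΦ : Function.Surjective Φ)
    (hlift : ∀ {r : ℕ} (e : Matrix (Fin r) (Fin r) B), IsIdempotentElem e →
      ∃ e' : Matrix (Fin r) (Fin r) A, IsIdempotentElem e' ∧ Φ.mapMatrix e' = e)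
    (P : Type u) [AddCommGroup P] [Module B P] [Module.Finite B P] [Module.Projective B P] :
    ∃ (P' : Type u) (_ : AddCommGroup P') (_ : Module A P'),
      Module.Finite A P' ∧ Module.Projective A P' ∧
      ∃ π : P' →ₛₗ[Φ] P, Function.Surjective π ∧
        LinearMap.ker π = RingHom.ker Φ • (⊤ : Submodule A P') := by
  classical
  obtain ⟨r, q, hq⟩ := Module.Finite.exists_fin' B P
  obtain ⟨s, hs⟩ := Module.projective_lifting_property q LinearMap.id hq
  have hqs : ∀ y, q (s y) = y := fun y => LinearMap.congr_fun hs y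
  obtain ⟨eL, heLdef⟩ : ∃ eL : (Fin r → B) →ₗ[B] (Fin r → B), eL = s ∘ₗ q := ⟨_, rfl⟩
  have heLa : ∀ v, eL v = s (q v) := fun v => by rw [heLdef]; rfl
  have heL : ∀ v, eL (eL v) = eL v := fun v => by rw [heLa, heLa, hqs]
  have heM : IsIdempotentElem (LinearMap.toMatrix' eL) := by
    show LinearMap.toMatrix' eL * LinearMap.toMatrix' eL = LinearMap.toMatrix' eL
    rw [← LinearMap.toMatrix'_mul]
    congr 1
    exact LinearMap.ext fun v => heL v
  obtain ⟨e'M, he'M, he'Φ⟩ := hlift _ heM
  obtain ⟨e'L, he'Ldef⟩ : ∃ e'L : (Fin r → A) →ₗ[A] (Fin r → A), e'L = Matrix.toLin' e'M :=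
    ⟨_, rfl⟩
  have he'La : ∀ v, e'L v = e'M *ᵥ v := fun v => by rw [he'Ldef, Matrix.toLin'_apply]
  have he'L : ∀ v, e'L (e'L v) = e'L v := fun v => by
    rw [he'La, he'La, Matrix.mulVec_mulVec, he'M.eq]
  have hcompat : ∀ v, piMap Φ r (e'L v) = eL (piMap Φ r v) := by
    intro v
    funext i
    have h1 : piMap Φ r (e'L v) i = Φ ((e'M *ᵥ v) i) := by rw [he'La]; rfl
    rw [h1, RingHom.map_mulVec]
    have h2 : e'M.map Φ = LinearMap.toMatrix' eL := he'Φ
    rw [h2]
    have h3 : (Φ ∘ v) = piMap Φ r v := rfl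
    rw [h3, LinearMap.toMatrix'_mulVec]
  refine ⟨LinearMap.range e'L, inferInstance, inferInstance, inferInstance, ?_, ?_⟩
  · refine Module.Projective.of_split (LinearMap.range e'L).subtype e'L.rangeRestrict ?_
    refine LinearMap.ext fun x => ?_
    obtain ⟨v, hv⟩ := x.2
    apply Subtype.ext
    show e'L x.1 = x.1
    rw [← hv, he'L]
  · let π : LinearMap.range e'L →ₛₗ[Φ] P :=
      { toFun := fun x => q (piMap Φ r x.1)
        map_add' := fun x y => by rw [Submodule.coe_add, map_add, map_add]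
        map_smul' := fun a x => by rw [Submodule.coe_smul, map_smulₛₗ, map_smul] }
    have hπ : ∀ x, π x = q (piMap Φ r x.1) := fun x => rfl
    refine ⟨π, ?_, ?_⟩
    · intro y
      obtain ⟨v, hv⟩ : ∃ v : Fin r → A, piMap Φ r v = s y :=
        ⟨fun i => Classical.choose (hΦ (s y i)),
          funext fun i => Classical.choose_spec (hΦ (s y i))⟩
      refine ⟨⟨e'L v, v, rfl⟩, ?_⟩
      rw [hπ]
      show q (piMap Φ r (e'L v)) = y
      rw [hcompat, hv, heLa, hqs, hqs]
    · apply le_antisymm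
      · intro x hx
        rw [LinearMap.mem_ker, hπ] at hx
        obtain ⟨v, hv⟩ := x.2
        have hfix : e'L x.1 = x.1 := by rw [← hv, he'L]
        have hzero : piMap Φ r x.1 = 0 := by
          rw [← hfix, hcompat, heLa, hx, map_zero]
        have hcoord : ∀ j, x.1 j ∈ RingHom.ker Φ := fun j => congrFun hzero j
        have hx1 : x.1 = ∑ j, x.1 j • (Pi.single j (1 : A) : Fin r → A) := by
          funext i
          simp [Finset.sum_apply, Pi.single_apply]
        have hsum : x = ∑ j, x.1 j •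
            (⟨e'L (Pi.single j (1 : A)), _, rfl⟩ : LinearMap.range e'L) := by
          apply Subtype.ext
          rw [Submodule.coe_sum]
          simp only [Submodule.coe_smul]
          calc x.1 = e'L x.1 := hfix.symm
            _ = e'L (∑ j, x.1 j • (Pi.single j (1 : A) : Fin r → A)) := by rw [← hx1]
            _ = ∑ j, x.1 j • e'L (Pi.single j (1 : A)) := by
              rw [map_sum]
              exact Finset.sum_congr rfl fun j _ => map_smul _ _ _
        rw [hsum]
        exact Submodule.sum_mem _ fun j _ =>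
          Submodule.smul_mem_smul (hcoord j) Submodule.mem_top
      · refine Submodule.smul_le.2 fun a ha x _ => ?_
        rw [LinearMap.mem_ker, map_smulₛₗ, RingHom.mem_ker.1 ha, zero_smul]

end modlift

end Groth.Agent.Lib.FiltLiftH1
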