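import Mathlib

/-!
# A surjectivity criterion over a local ring with a coefficient field (helper9)
APPEND-ONLY once landed.
-/

set_option autoImplicit false

namespace FiltNeg

open IsLocalRing

variable {R : Type*} [CommRing R] [IsLocalRing R] {k : Type*} [Field k] (φ : k →+* R)

/-- Let `R` be a local ring with a field `k → R` mapping onto the residue field, and
`f : M → R^m` a linear map such that every nonzero `k`-linear combination of the coordinates of
`f` takes a unit value.  Then `f` is surjective. -/
theorem surjective_of_combinations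
    (hφ : ∀ r : R, ∃ a : k, r - φ a ∈ maximalIdeal R)
    {M : Type*} [AddCommGroup M] [Module R M] {m : ℕ} (f : M →ₗ[R] (Fin m → R))
    (h : ∀ c : Fin m → k, c ≠ 0 → ∃ n : M, ∑ i, φ (c i) * f n i ∉ maximalIdeal R) :
    Function.Surjective f := by
  classical
  -- the subspace of `k^m` of residues of values of `f`
  let U : Submodule k (Fin m → k) :=
    { carrier := {a | ∃ n : M, ∀ i, f n i - φ (a i) ∈ maximalIdeal R}
      add_mem' := by
        rintro a b ⟨n, hn⟩ ⟨n', hn'⟩
        refine ⟨n + n', fun i => ?_⟩
        have : f (n + n') i - φ ((a + b) i) = (f n i - φ (a i)) + (f n' i - φ (b i)) := by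
          rw [map_add, Pi.add_apply, Pi.add_apply, map_add]
          ring
        rw [this]
        exact (maximalIdeal R).add_mem (hn i) (hn' i)
      zero_mem' := ⟨0, fun i => by simp⟩
      smul_mem' := by
        rintro b a ⟨n, hn⟩
        refine ⟨φ b • n, fun i => ?_⟩
        have : f (φ b • n) i - φ ((b • a) i) = φ b * (f n i - φ (a i)) := by
          rw [map_smul, Pi.smul_apply, Pi.smul_apply, smul_eq_mul, smul_eq_mul, map_mul]
          ring
        rw [this]
        exact (maximalIdeal R).mul_mem_left _ (hn i) }
  have hU : U = ⊤ := by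
    by_contra hne
    obtain ⟨ℓ, hℓ0, hℓ⟩ := Submodule.exists_le_ker_of_lt_top U (lt_top_iff_ne_top.2 hne)
    let c : Fin m → k := fun i => ℓ (Pi.single i 1)
    have hℓc : ∀ a : Fin m → k, ℓ a = ∑ i, a i * c i := by
      intro a
      conv_lhs => rw [← Finset.univ_sum_single a]
      rw [map_sum]
      apply Finset.sum_congr rfl
      intro i _
      have : (Pi.single i (a i) : Fin m → k) = a i • Pi.single i 1 := by
        rw [← Pi.single_smul, smul_eq_mul, mul_one]
      rw [this, map_smul, smul_eq_mul]
    have hc : c ≠ 0 := by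
      intro hc0
      apply hℓ0
      apply LinearMap.ext
      intro a
      rw [hℓc a, LinearMap.zero_apply]
      apply Finset.sum_eq_zero
      intro i _
      rw [hc0, Pi.zero_apply, mul_zero]
    obtain ⟨n, hn⟩ := h c hc
    apply hn
    choose a ha using fun i => hφ (f n i)
    have haU : a ∈ U := ⟨n, ha⟩
    have h0 : ℓ a = 0 := hℓ haU
    rw [hℓc a] at h0
    have h1 : ∑ i, φ (c i) * f n i = ∑ i, φ (c i) * (f n i - φ (a i)) + φ (∑ i, a i * c i) := by
      rw [map_sum, ← Finset.sum_add_distrib]
      apply Finset.sum_congr rfl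
      intro i _
      rw [map_mul]
      ring
    rw [h1, h0, map_zero, add_zero]
    exact (maximalIdeal R).sum_mem (fun i _ => (maximalIdeal R).mul_mem_left _ (ha i))
  -- Nakayama
  have hle : (⊤ : Submodule R (Fin m → R)) ≤
      LinearMap.range f ⊔ maximalIdeal R • (⊤ : Submodule R (Fin m → R)) := by
    intro y _
    choose a ha using fun i => hφ (y i)
    have haU : a ∈ U := hU ▸ Submodule.mem_top
    obtain ⟨n, hn⟩ := haU
    have hy : y = f n + (y - f n) := by abel
    rw [hy]
    refine Submodule.add_mem_sup ⟨n, rfl⟩ ?_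
    have h2 : y - f n = ∑ i, (y - f n) i • (Pi.single i 1 : Fin m → R) := by
      conv_lhs => rw [← Finset.univ_sum_single (y - f n)]
      apply Finset.sum_congr rfl
      intro i _
      rw [← Pi.single_smul, smul_eq_mul, mul_one]
    rw [h2]
    refine Submodule.sum_mem _ (fun i _ => Submodule.smul_mem_smul ?_ Submodule.mem_top)
    have : (y - f n) i = (y i - φ (a i)) - (f n i - φ (a i)) := by
      rw [Pi.sub_apply]
      ring
    rw [this]
    exact (maximalIdeal R).sub_mem (ha i) (hn i)
  have hfg : (⊤ : Submodule R (Fin m → R)).FG := Module.Finite.fg_top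
  have hjac : maximalIdeal R ≤ Ideal.jacobson ⊥ := by
    rw [IsLocalRing.jacobson_eq_maximalIdeal ⊥ bot_ne_top]
  have := Submodule.le_of_le_smul_of_le_jacobson_bot hfg hjac hle
  exact LinearMap.range_eq_top.1 (top_le_iff.1 this)

end FiltNeg
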