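import Mathlib
import Groth.Prelude
import Groth.Agent.Lib.FiltNeg1_helper9
import Groth.Agent.Lib.EllNag3_helper9
import Groth.Agent.Lib.ChevD_helper8
import Groth.Agent.Lib.CycLen2_helper8
import Groth.Agent.Lib.Desc1_helper8

/-!
# A map into a free module on a curve is an epimorphism if all its scalar projections are (helper9)
APPEND-ONLY once landed.
-/

set_option autoImplicit false
universe u
open CategoryTheory CategoryTheory.Limits AlgebraicGeometry Opposite TopologicalSpace

namespace FiltNeg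

open QcqsLoc QCohExtn GenLocH8 TensH8 FLFH8 SDivFreeH8 CohDevH8 ChevDH8

section Stalk

variable {X : Scheme.{u}}

theorem stalkMapₗ_sum {M N : X.Modules} {ι : Type*} (s : Finset ι) (φ : ι → (M ⟶ N)) (y : X) :
    Algz.stalkMapₗ (∑ i ∈ s, φ i) y = ∑ i ∈ s, Algz.stalkMapₗ (φ i) y := by
  classical
  induction s using Finset.induction_on with
  | empty => simp [stalkMapₗ_zero]
  | insert a s ha ih => rw [Finset.sum_insert ha, Finset.sum_insert ha, stalkMapₗ_add, ih]

variable (k : Type u) [Field k] [X.Over (Spec (CommRingCat.of k))]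

/-- the stalk map of a scalar multiple -/
theorem stalkMapₗ_smul {M N : X.Modules} (a : k) (f : M ⟶ N) (y : X) (z : M.presheaf.stalk y) :
    Algz.stalkMapₗ (a • f) y z = Curv2.stalkMap k X y a • Algz.stalkMapₗ f y z := by
  obtain ⟨U, hyU, s, rfl⟩ := TopCat.Presheaf.exists_germ_eq M.presheaf z
  rw [stalkMapₗ_germ, stalkMapₗ_germ]
  have h1 : ap (a • f) U s = X.presheaf.map (homOfLE (le_top : U ≤ ⊤)).op
      (Coh.toGlobal (X ↘ Spec (CommRingCat.of k)) a) • ap f U s := KLin.smul_app_apply a f U s
  rw [h1, Groth.Agent.Lib.QCohLoc_helper4.germ_smul]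
  congr 1
  exact TopCat.Presheaf.germ_res_apply X.presheaf (homOfLE (le_top : U ≤ ⊤)) y hyU _

end Stalk

section Free

variable {X : Scheme.{u}} {m : ℕ}

/-- an element of the stalk of a free module is determined by its coordinates -/
theorem stalk_eq_sum (y : X) (z : (FlatMod.freeMod X m).presheaf.stalk y) :
    z = ∑ i, Algz.stalkMapₗ (ιM i : Coh.structureModule X ⟶ FlatMod.freeMod X m) y
      (Algz.stalkMapₗ (projM i) y z) := by
  have h1 : Algz.stalkMapₗ (𝟙 (FlatMod.freeMod X m)) y z = z := by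
    rw [stalkMapₗ_id]
    rfl
  conv_lhs => rw [← h1, id_eq_sumM, stalkMapₗ_sum, LinearMap.sum_apply]
  apply Finset.sum_congr rfl
  intro i _
  rw [stalkMapₗ_comp]
  rfl

end Free

section Comb

variable (k : Type u) [Field k] {X : Scheme.{u}} [X.Over (Spec (CommRingCat.of k))] {m : ℕ}

/-- the `k`-linear combination of the coordinate projections of the free module -/
noncomputable def lam (c : Fin m → k) : FlatMod.freeMod X m ⟶ Coh.structureModule X :=
  ∑ i, c i • projM i

variable {k}

theorem stalkMapₗ_comp_lam {N : X.Modules} (j : N ⟶ FlatMod.freeMod X m) (c : Fin m → k) (y : X)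
    (n : N.presheaf.stalk y) :
    Algz.stalkMapₗ (j ≫ lam k c) y n =
      ∑ i, Curv2.stalkMap k X y (c i) • Algz.stalkMapₗ (j ≫ projM i) y n := by
  unfold lam
  rw [Preadditive.comp_sum, stalkMapₗ_sum, LinearMap.sum_apply]
  apply Finset.sum_congr rfl
  intro i _
  rw [Linear.comp_smul, stalkMapₗ_smul]

end Comb

section Crit

variable (k : Type u) [Field k] [IsAlgClosed k] (X : Scheme.{u}) [X.Over (Spec (CommRingCat.of k))]
  [IsIntegral X] [IsProper (X ↘ Spec (CommRingCat.of k))]

/-- at a closed point, the stalk of a map into a free module all of whose nonzero scalar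
projections are epimorphisms is surjective -/
theorem stalk_surjective_of_combinations {N : X.Modules} {m : ℕ} (j : N ⟶ FlatMod.freeMod X m)
    (h : ∀ c : Fin m → k, c ≠ 0 → Epi (j ≫ lam k c))
    (x : X) (hx : IsClosed ({x} : Set X)) : Function.Surjective (Algz.stalkMapₗ j x) := by
  set R := X.presheaf.stalk x
  let eS := CycLenH8.stalkStructureEquiv x
  let F : N.presheaf.stalk x →ₗ[R] (Fin m → R) :=
    LinearMap.pi (fun i => eS.symm.toLinearMap ∘ₗ Algz.stalkMapₗ (j ≫ projM i) x)
  have hres := EllPic.resMap_bijective_of_ptDeg_eq_one k X x hx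
    (CurvePtInv.finrank_HH0_quotMod_point k X x hx)
  have hφ : ∀ r : R, ∃ a : k, r - Curv2.stalkMap k X x a ∈ IsLocalRing.maximalIdeal R := by
    intro r
    obtain ⟨a, ha⟩ := hres.2 ((X.residue x).hom r)
    refine ⟨a, ?_⟩
    have h1 : (X.residue x).hom (r - Curv2.stalkMap k X x a) = 0 := by
      rw [map_sub, sub_eq_zero]
      exact ha.symm
    exact (IsLocalRing.residue_eq_zero_iff _).1 h1
  have hF : Function.Surjective F := by
    apply surjective_of_combinations (Curv2.stalkMap k X x) hφ F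
    intro c hc
    haveI := h c hc
    obtain ⟨n, hn⟩ := EpiLoc.stalk_surjective_of_epi (j ≫ lam k c) x (CycLenH8.oneGerm x)
    refine ⟨n, ?_⟩
    have hn' : Algz.stalkMapₗ (j ≫ lam k c) x n = CycLenH8.oneGerm x := hn
    rw [stalkMapₗ_comp_lam] at hn'
    have h2 : ∑ i, Curv2.stalkMap k X x (c i) * F n i = 1 := by
      apply eS.injective
      rw [map_sum]
      have h3 : eS 1 = CycLenH8.oneGerm x := by
        show (1 : R) • CycLenH8.oneGerm x = _
        rw [one_smul]
      rw [h3, ← hn']
      apply Finset.sum_congr rfl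
      intro i _
      have h4 : Curv2.stalkMap k X x (c i) * F n i = Curv2.stalkMap k X x (c i) • F n i := rfl
      rw [h4, map_smul]
      congr 1
      exact eS.apply_symm_apply _
    rw [h2]
    exact fun h1 => (IsLocalRing.maximalIdeal R).ne_top_iff_one.1
      (IsLocalRing.maximalIdeal.isMaximal R).ne_top h1
  intro z
  obtain ⟨n, hn⟩ := hF (fun i => eS.symm (Algz.stalkMapₗ (projM i) x z))
  refine ⟨n, ?_⟩
  rw [stalk_eq_sum x z, stalk_eq_sum x (Algz.stalkMapₗ j x n)]
  apply Finset.sum_congr rfl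
  intro i _
  congr 1
  have h5 := congrFun hn i
  have h6 : eS.symm (Algz.stalkMapₗ (j ≫ projM i) x n) =
      eS.symm (Algz.stalkMapₗ (projM i) x z) := h5
  have h7 := eS.symm.injective h6
  rw [stalkMapₗ_comp] at h7
  exact h7

omit [IsAlgClosed k] in
include k in
/-- a map into a free module on an integral curve which is surjective on stalks at the closed
points is an epimorphism -/
theorem epi_of_closed_stalks (hdim : topologicalKrullDim X = 1) {N : X.Modules} {m : ℕ}
    (j : N ⟶ FlatMod.freeMod X m)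
    (h : ∀ x : X, IsClosed ({x} : Set X) → Function.Surjective (Algz.stalkMapₗ j x)) : Epi j := by
  haveI : CompactSpace X :=
    QuasiCompact.compactSpace_of_compactSpace (X ↘ Spec (CommRingCat.of k))
  -- around every point the standard sections are in the image
  have hloc : ∀ y : X, ∃ W : X.Opens, y ∈ W ∧ ∀ i : Fin m, ∃ s : Γ(N, W),
      ap j W s = stdSec m W i := by
    -- first at closed points
    have hcl : ∀ x : X, IsClosed ({x} : Set X) → ∃ W : X.Opens, x ∈ W ∧ ∀ i : Fin m,
        ∃ s : Γ(N, W), ap j W s = stdSec m W i := by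
      intro x hx
      have h1 : ∀ i : Fin m, ∃ (W : X.Opens) (_ : x ∈ W) (s : Γ(N, W)),
          ap j W s = stdSec m W i := by
        intro i
        obtain ⟨n, hn⟩ := h x hx ((FlatMod.freeMod X m).presheaf.germ ⊤ x trivial (stdSec m ⊤ i))
        obtain ⟨V, hxV, s, rfl⟩ := TopCat.Presheaf.exists_germ_eq N.presheaf n
        rw [stalkMapₗ_germ] at hn
        obtain ⟨W, hxW, iV, iT, hW⟩ := TopCat.Presheaf.germ_eq (FlatMod.freeMod X m).presheaf x
          hxV (show x ∈ (⊤ : X.Opens) from trivial) _ _ hn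
        refine ⟨W, hxW, rF N iV.le s, ?_⟩
        rw [ap_rF]
        have h2 : rF (FlatMod.freeMod X m) iV.le (ap j V s) =
            rF (FlatMod.freeMod X m) iT.le (stdSec m ⊤ i) := hW
        rw [h2, rF_stdSec]
      choose W hxW s hs using h1
      have hnhds : (⋂ i, ((W i : X.Opens) : Set X)) ∈ nhds x :=
        Filter.iInter_mem.2 (fun i => (W i).isOpen.mem_nhds (hxW i))
      obtain ⟨T, hT, hTo, hxT⟩ := mem_nhds_iff.1 hnhds
      let W' : X.Opens := ⟨T, hTo⟩
      have hle : ∀ i, W' ≤ W i := fun i z hz => Set.mem_iInter.1 (hT hz) i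
      refine ⟨W', hxT, fun i => ⟨rF N (hle i) (s i), ?_⟩⟩
      rw [ap_rF, hs i, rF_stdSec]
    intro y
    by_cases hy : IsClosed ({y} : Set X)
    · exact hcl y hy
    · obtain ⟨x, -, hx⟩ := IsClosed.exists_closed_singleton (isClosed_univ (X := X))
        Set.univ_nonempty
      obtain ⟨W, hxW, hW⟩ := hcl x hx
      refine ⟨W, ?_, hW⟩
      have hyg : y = genericPoint X := by
        by_contra hne
        exact hy (DegPull.isClosed_singleton_of_ne_generic hdim.le y hne)
      rw [hyg]
      exact ((genericPoint_spec X).mem_open_set_iff W.isOpen).2 ⟨x, Set.mem_univ x, hxW⟩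
  apply DescH8.epi_of_stk_surjective
  intro y z
  obtain ⟨W, hyW, hW⟩ := hloc y
  choose s hs using hW
  obtain ⟨U, hyU, t, rfl⟩ := TopCat.Presheaf.exists_germ_eq (FlatMod.freeMod X m).presheaf z
  have hUW : U ⊓ W ≤ U := inf_le_left
  have hUW' : U ⊓ W ≤ W := inf_le_right
  refine ⟨N.presheaf.germ (U ⊓ W) y ⟨hyU, hyW⟩
    (∑ i, ofM ((projM i).app (U ⊓ W) (rF (FlatMod.freeMod X m) hUW t)) • rF N hUW' (s i)), ?_⟩
  rw [DescH8.stk_germ]
  have h3 : ∀ i, ap j (U ⊓ W) (rF N hUW' (s i)) = stdSec m (U ⊓ W) i := fun i => by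
    rw [ap_rF, hs i, rF_stdSec]
  have h1 : ap j (U ⊓ W)
      (∑ i, ofM ((projM i).app (U ⊓ W) (rF (FlatMod.freeMod X m) hUW t)) • rF N hUW' (s i)) =
      rF (FlatMod.freeMod X m) hUW t := by
    rw [map_sum]
    conv_rhs => rw [section_eq_sum_stdSec m (U ⊓ W) (rF (FlatMod.freeMod X m) hUW t)]
    apply Finset.sum_congr rfl
    intro i _
    rw [ap_smul, h3 i]
  have h2 : j.app (U ⊓ W)
      (∑ i, ofM ((projM i).app (U ⊓ W) (rF (FlatMod.freeMod X m) hUW t)) • rF N hUW' (s i)) =
      rF (FlatMod.freeMod X m) hUW t := h1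
  rw [h2]
  exact TopCat.Presheaf.germ_res_apply (FlatMod.freeMod X m).presheaf (homOfLE hUW) y ⟨hyU, hyW⟩ t

/-- **a map into a free module on a curve over an algebraically closed field all of whose nonzero
scalar projections are epimorphisms is an epimorphism** -/
theorem epi_of_combinations (hdim : topologicalKrullDim X = 1) {N : X.Modules} {m : ℕ}
    (j : N ⟶ FlatMod.freeMod X m)
    (h : ∀ c : Fin m → k, c ≠ 0 → Epi (j ≫ lam k c)) : Epi j :=
  epi_of_closed_stalks k X hdim j
    (fun x hx => stalk_surjective_of_combinations k X j h x hx)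

end Crit

end FiltNeg
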