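import Mathlib
import Groth.Prelude
import Groth.Agent.Lib.FiltNeg2_helper9

/-!
# Submodules of free modules without sections on a curve are filtered with invertible quotients
of negative degree (helper9)
APPEND-ONLY once landed.
-/

set_option autoImplicit false
universe u
open CategoryTheory CategoryTheory.Limits AlgebraicGeometry Opposite TopologicalSpace

namespace FiltNeg

open QcqsLoc QCohExtn GenLocH8 TensH8 FLFH8 SDivFreeH8 CohDevH8 ChevDH8

section Filt

variable (k : Type u) [Field k] (X : Scheme.{u}) [X.Over (Spec (CommRingCat.of k))]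

/-- a filtration of length `r` with invertible quotients of negative degree -/
def HasNegFilt (N : X.Modules) (r : ℕ) : Prop :=
  ∃ (M : Fin (r + 1) → X.Modules) (f : (j : Fin r) → (M j.succ ⟶ M j.castSucc)),
    Nonempty (M 0 ≅ N) ∧ IsZero (M (Fin.last r)) ∧
      ∀ j : Fin r, Mono (f j) ∧ PicF.IsInvertible (cokernel (f j)) ∧
        Curv2.deg k X (cokernel (f j)) 1 < 0

theorem hasNegFilt_zero {N : X.Modules} (hN : IsZero N) : HasNegFilt k X N 0 :=
  ⟨fun _ => N, fun j => Fin.elim0 j, ⟨Iso.refl _⟩, hN, fun j => Fin.elim0 j⟩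

theorem hasNegFilt_succ {N N' : X.Modules} {r : ℕ} (j : N' ⟶ N) [Mono j]
    (hinv : PicF.IsInvertible (cokernel j)) (hdeg : Curv2.deg k X (cokernel j) 1 < 0)
    (h : HasNegFilt k X N' r) : HasNegFilt k X N (r + 1) := by
  obtain ⟨M', f', ⟨e'⟩, hz', hf'⟩ := h
  let M : Fin (r + 2) → X.Modules := Fin.cons N M'
  let f : (i : Fin (r + 1)) → (M i.succ ⟶ M i.castSucc) :=
    fun i => Fin.cases (motive := fun i => (M i.succ ⟶ M i.castSucc))
      (show M' 0 ⟶ N from e'.hom ≫ j) (fun i' => (show M' i'.succ ⟶ M' i'.castSucc from f' i')) i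
  refine ⟨M, f, ⟨Iso.refl _⟩, hz', fun i => ?_⟩
  refine Fin.cases ?_ (fun i' => ?_) i
  · have e : cokernel (e'.hom ≫ j) ≅ cokernel j := cokernelEpiComp e'.hom j
    refine ⟨(inferInstance : Mono (e'.hom ≫ j)), TensH8.isInvertible_of_iso' e.symm hinv, ?_⟩
    have h1 : Curv2.deg k X (cokernel (e'.hom ≫ j)) 1 = Curv2.deg k X (cokernel j) 1 :=
      CurveTens.deg_of_iso k X e 1
    exact h1 ▸ hdeg
  · exact hf' i'

end Filt

section Drop

variable (k : Type u) [Field k] {X : Scheme.{u}} [X.Over (Spec (CommRingCat.of k))]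

/-- forgetting the `j`-th coordinate of a free module -/
noncomputable def dropM {m : ℕ} (j : Fin (m + 1)) : FlatMod.freeMod X (m + 1) ⟶ FlatMod.freeMod X m :=
  ∑ i : Fin m, projM (j.succAbove i) ≫ (ιM i : Coh.structureModule X ⟶ FlatMod.freeMod X m)

theorem dropM_projM {m : ℕ} (j : Fin (m + 1)) (i : Fin m) :
    (dropM j : FlatMod.freeMod X (m + 1) ⟶ FlatMod.freeMod X m) ≫ projM i =
      projM (j.succAbove i) := by
  classical
  unfold dropM
  rw [Preadditive.sum_comp]
  have h1 : ∀ i' ∈ (Finset.univ : Finset (Fin m)),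
      (projM (j.succAbove i') ≫ (ιM i' : Coh.structureModule X ⟶ FlatMod.freeMod X m)) ≫
        projM i = if i' = i then projM (j.succAbove i) else 0 := by
    intro i' _
    rw [Category.assoc, ι_projM]
    by_cases h : i' = i
    · subst h
      rw [if_pos rfl, if_pos rfl, Category.comp_id]
    · rw [if_neg h, if_neg h, comp_zero]
  rw [Finset.sum_congr rfl h1]
  simp

/-- a morphism to a free module all of whose coordinates vanish is zero -/
theorem eq_zero_of_projM {m : ℕ} {Z : X.Modules} (g : Z ⟶ FlatMod.freeMod X m)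
    (h : ∀ i, g ≫ projM i = 0) : g = 0 := by
  rw [← Category.comp_id g, id_eq_sumM, Preadditive.comp_sum]
  apply Finset.sum_eq_zero
  intro i _
  rw [← Category.assoc, h i, zero_comp]

/-- if a nonzero combination of the coordinates vanishes on a submodule of a free module, the
submodule embeds into a smaller free module -/
theorem mono_comp_dropM {m : ℕ} {N : X.Modules} (ι : N ⟶ FlatMod.freeMod X (m + 1)) [Mono ι]
    (c : Fin (m + 1) → k) (j : Fin (m + 1)) (hj : c j ≠ 0) (hc : ι ≫ lam k c = 0) :
    Mono (ι ≫ dropM j) := by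
  refine Preadditive.mono_of_cancel_zero _ (fun {Z} g hg => ?_)
  have h1 : ∀ i : Fin m, g ≫ ι ≫ projM (j.succAbove i) = 0 := by
    intro i
    rw [← dropM_projM j i, ← Category.assoc ι, ← Category.assoc g, hg, zero_comp]
  have h2 : ∑ i, c i • (g ≫ ι ≫ projM i) = 0 := by
    have h3 : g ≫ ι ≫ lam k c = 0 := by rw [hc, comp_zero]
    unfold lam at h3
    rw [Preadditive.comp_sum, Preadditive.comp_sum] at h3
    rw [← h3]
    apply Finset.sum_congr rfl
    intro i _
    rw [Linear.comp_smul, Linear.comp_smul]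
  rw [Fin.sum_univ_succAbove _ j] at h2
  have h4 : ∑ i : Fin m, c (j.succAbove i) • (g ≫ ι ≫ projM (j.succAbove i)) = 0 := by
    apply Finset.sum_eq_zero
    intro i _
    rw [h1 i, smul_zero]
  rw [h4, add_zero] at h2
  have h5 : g ≫ ι ≫ projM j = 0 := by
    rcases smul_eq_zero.1 h2 with h | h
    · exact absurd h hj
    · exact h
  have h6 : g ≫ ι = 0 := by
    apply eq_zero_of_projM
    intro i
    rw [Category.assoc]
    rcases Fin.eq_self_or_eq_succAbove j i with h | ⟨i', h⟩
    · rw [h]; exact h5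
    · rw [h]; exact h1 i'
  exact (cancel_mono ι).1 (h6.trans zero_comp.symm)

end Drop

section Main

variable (k : Type u) [Field k] [IsAlgClosed k] (X : Scheme.{u}) [X.Over (Spec (CommRingCat.of k))]
  [IsIntegral X] [IsProper (X ↘ Spec (CommRingCat.of k))]

omit [IsAlgClosed k] [IsIntegral X] [IsProper (X ↘ Spec (CommRingCat.of k))] in
/-- an embedding into a free module of least rank: no nonzero combination of the coordinates
vanishes -/
theorem exists_minimal_embedding {N : X.Modules}
    (h : ∃ (m : ℕ) (ι : N ⟶ FlatMod.freeMod X m), Mono ι) :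
    ∃ (m : ℕ) (ι : N ⟶ FlatMod.freeMod X m), Mono ι ∧
      ∀ c : Fin m → k, c ≠ 0 → ι ≫ lam k c ≠ 0 := by
  classical
  have hfind := Nat.find_spec h
  have hmin := fun m' => Nat.find_min (H := h) (m := m')
  set m := Nat.find h with hm
  obtain ⟨ι, hι⟩ := hfind
  refine ⟨m, ι, hι, fun c hc hzero => ?_⟩
  obtain ⟨j, hj⟩ : ∃ j, c j ≠ 0 := by
    by_contra hno
    push_neg at hno
    exact hc (funext hno)
  obtain ⟨m', hm'⟩ : ∃ m', m = m' + 1 := ⟨m - 1, by have := j.pos; omega⟩
  clear_value m
  subst hm'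
  haveI := hι
  exact hmin m' (Nat.lt_succ_self m') ⟨ι ≫ dropM j, mono_comp_dropM k ι c j hj hzero⟩

/-- **the key step**: a nonzero finite locally free module without sections inside a free module
has a coordinate combination which is neither zero nor an epimorphism -/
theorem exists_combination (hdim : topologicalKrullDim X = 1) {N : X.Modules} {r : ℕ}
    (hr : 0 < r) (hN : FlatMod.IsFinLocFreeOfRank r N)
    (hemb : ∃ (m : ℕ) (ι : N ⟶ FlatMod.freeMod X m), Mono ι)
    (h0 : ∀ s : LinSer.Sect X N, s = 0) :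
    ∃ (m : ℕ) (ι : N ⟶ FlatMod.freeMod X m) (c : Fin m → k), Mono ι ∧ ι ≫ lam k c ≠ 0 ∧
      ¬ Epi (ι ≫ lam k c) := by
  haveI : Nonempty X := inferInstance
  obtain ⟨m, ι, hι, hmin⟩ := exists_minimal_embedding k X hemb
  haveI := hι
  by_contra hno
  push_neg at hno
  have hepi : ∀ c : Fin m → k, c ≠ 0 → Epi (ι ≫ lam k c) :=
    fun c hc => hno m ι c hι (hmin c hc)
  haveI := epi_of_combinations k X hdim ι hepi
  haveI : IsIso ι := isIso_of_mono_of_epi ι
  have hfree : FlatMod.IsFinLocFreeOfRank m (FlatMod.freeMod X m) :=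
    Groth.Agent.Horrocks.isFinLocFreeOfRank_sigma (fun _ : Fin m => Coh.structureModule X)
      (fun _ => TensH8.isInvertible_structureModule)
  have hrm : r ≤ m := CurveSub.rank_le_of_mono ι hN hfree
  let i0 : Fin m := ⟨0, by omega⟩
  let u : Coh.structureModule X ⟶ N := (ιM i0 : Coh.structureModule X ⟶ FlatMod.freeMod X m) ≫ inv ι
  have hu : u = 0 := by
    apply CurveIdeal.hom_eq_zero_of_ap_one
    exact h0 _
  have h1 : (𝟙 (Coh.structureModule X)) = 0 := by
    have h2 : u ≫ ι ≫ projM i0 = 𝟙 _ := by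
      show ((ιM i0 : Coh.structureModule X ⟶ FlatMod.freeMod X m) ≫ inv ι) ≫ ι ≫ projM i0 = 𝟙 _
      rw [Category.assoc, IsIso.inv_hom_id_assoc, ι_projM, if_pos rfl]
    rw [← h2, hu, zero_comp]
  exact VBCurve.not_isZero_of_isInvertible (TensH8.isInvertible_structureModule (X := X))
    ((IsZero.iff_id_eq_zero _).2 h1)

/-- **statement of S12913** -/
theorem hasNegFilt (hdim : topologicalKrullDim X = 1)
    (hreg : ∀ x : X, IsRegularLocalRing (X.presheaf.stalk x)) (r : ℕ) :
    ∀ (N : X.Modules), FlatMod.IsFinLocFreeOfRank r N →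
      (∃ (m : ℕ) (ι : N ⟶ FlatMod.freeMod X m), Mono ι) →
      (∀ s : LinSer.Sect X N, s = 0) → HasNegFilt k X N r := by
  haveI : IsLocallyNoetherian X :=
    LocallyOfFiniteType.isLocallyNoetherian (X ↘ Spec (CommRingCat.of k))
  haveI : Nonempty X := inferInstance
  induction r with
  | zero =>
    intro N hN _ _
    exact hasNegFilt_zero k X (VBCurve.isZero_of_rank_zero hN)
  | succ r ih =>
    intro N hN hemb h0
    obtain ⟨m, ι, c, hι, hne, hnepi⟩ :=
      exists_combination k X hdim (Nat.succ_pos r) hN hemb h0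
    haveI := hι
    set f := ι ≫ lam k c with hf
    have hOinv := TensH8.isInvertible_structureModule (X := X)
    have hO1 : FlatMod.IsFinLocFreeOfRank 1 (Coh.structureModule X) :=
      finLocFreeOfRank_one_of_isInvertible hOinv
    obtain ⟨rK, rI, hK, hI, hsum, hIpos, hdegsum, -⟩ :=
      VBCurve.exists_kerIm_data k X hreg hdim.le f hne hN
        (FLFH8.IsFinLocFreeOfRank.isFinLocFree _ hO1)
    have hI1 : rI ≤ 1 := CurveSub.rank_le_of_mono (Abelian.image.ι f) hI hO1
    have hrI : rI = 1 := by omega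
    have hrK : rK = r := by omega
    subst hrI
    subst hrK
    -- the image has negative degree
    have hdegI : Curv2.deg k X (Abelian.image f) 1 < 0 := by
      obtain ⟨hle, hiff⟩ := VBCurve.deg_le_of_mono_same_rank k X hdim (Abelian.image.ι f) hI hO1
      rw [CurveDeg.deg_structureModule] at hle hiff
      rcases lt_or_eq_of_le hle with h | h
      · exact h
      · exfalso
        haveI := hiff.1 h
        apply hnepi
        rw [← Abelian.image.fac f]
        infer_instance
    -- the quotient by the kernel is the image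
    have hS := VBCurve.kerImSC_shortExact f
    let j : (VBCurve.kerImSC f).X₁ ⟶ N := (VBCurve.kerImSC f).f
    haveI : Mono j := hS.mono_f
    haveI : Epi (VBCurve.kerImSC f).g := hS.epi_g
    have e : cokernel j ≅ Abelian.image f :=
      IsColimit.coconePointUniqueUpToIso (colimit.isColimit _) hS.exact.gIsCokernel
    have hinv : PicF.IsInvertible (cokernel j) :=
      TensH8.isInvertible_of_iso' e.symm (CurveG12.isInvertible_of_rank_one hI)
    have hdeg : Curv2.deg k X (cokernel j) 1 < 0 := by
      rw [CurveTens.deg_of_iso k X e 1]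
      exact hdegI
    refine hasNegFilt_succ k X j hinv hdeg (ih _ hK ⟨m, j ≫ ι, mono_comp j ι⟩ (fun s => ?_))
    apply QCohExact.app_injective_of_mono j ⊤
    rw [h0 (j.app ⊤ s)]
    exact (map_zero _).symm

end Main

end FiltNeg
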