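import Mathlib

/-!
# Finite projective modules over a ring complete for a filtration by ideals (helper1)

`W` a commutative ring with a decreasing sequence of ideals `I n`, complete and separated for it,
with `I 1 ≤ radical (I n)` for all `n`.  A `W`-module `P` separated for the filtration `I n • ⊤`
whose quotients `P ⧸ I n • ⊤` are finite projective over `W ⧸ I n` is finite projective over `W`.
-/

set_option autoImplicit false

namespace Groth.Agent.Lib.FiltProjH1

universe u v

/-- dependent sequences from a step relation -/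
theorem exists_dep_seq {α : ℕ → Type*} (r : ∀ n, α n → α (n + 1) → Prop) (a0 : α 0)
    (h : ∀ n a, ∃ b, r n a b) : ∃ f : ∀ n, α n, ∀ n, r n (f n) (f (n + 1)) :=
  ⟨fun n => Nat.rec a0 (fun n a => Classical.choose (h n a)) n,
    fun n => Classical.choose_spec (h n _)⟩

section general

variable {W : Type u} [CommRing W]

/-- lifting property over `W ⧸ J`, stated for `W`-linear maps between `W`-modules killed by `J`. -/
theorem exists_lift_of_projective_quotient (J : Ideal W) {P' : Type*} [AddCommGroup P']
    [Module W P'] [Module (W ⧸ J) P'] [IsScalarTower W (W ⧸ J) P'] [Module.Projective (W ⧸ J) P']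
    {X : Type*} {Y : Type*} [AddCommGroup X] [Module W X] [AddCommGroup Y] [Module W Y]
    (hX : ∀ a ∈ J, ∀ x : X, a • x = 0) (hY : ∀ a ∈ J, ∀ y : Y, a • y = 0)
    (g : X →ₗ[W] Y) (hg : Function.Surjective g) (h : P' →ₗ[W] Y) :
    ∃ t : P' →ₗ[W] X, g ∘ₗ t = h := by
  have hXt : Module.IsTorsionBySet W X J := fun x a => hX a.1 a.2 x
  have hYt : Module.IsTorsionBySet W Y J := fun y a => hY a.1 a.2 y
  letI := hXt.module
  letI := hYt.module
  have hsurj : Function.Surjective (algebraMap W (W ⧸ J)) := Ideal.Quotient.mk_surjective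
  obtain ⟨t, ht⟩ := Module.projective_lifting_property
    (LinearMap.extendScalarsOfSurjective hsurj g) (LinearMap.extendScalarsOfSurjective hsurj h) hg
  refine ⟨t.restrictScalars W, ?_⟩
  ext x
  exact LinearMap.congr_fun ht x

/-- Nakayama: a finite module killed by `J`, `I ≤ jacobson J`, `N ⊔ I • ⊤ = ⊤` gives `N = ⊤`. -/
theorem eq_top_of_sup_smul_eq_top {M : Type*} [AddCommGroup M] [Module W M] [Module.Finite W M]
    (I J : Ideal W) (hIJ : I ≤ Ideal.jacobson J) (hJ : ∀ a ∈ J, ∀ x : M, a • x = 0)
    (N : Submodule W M) (h : N ⊔ I • (⊤ : Submodule W M) = ⊤) : N = ⊤ := by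
  have h1 : (⊤ : Submodule W M) ≤ N ⊔ I • (⊤ : Submodule W M) := h.ge
  have h2 := Submodule.sup_eq_sup_smul_of_le_smul_of_le_jacobson (N := N)
    (N' := (⊤ : Submodule W M)) Module.Finite.fg_top hIJ h1
  have h3 : J • (⊤ : Submodule W M) = ⊥ := by
    rw [eq_bot_iff]
    refine Submodule.smul_le.2 fun a ha x _ => ?_
    rw [hJ a ha x]
    exact Submodule.zero_mem _
  rw [h3, sup_bot_eq, sup_top_eq] at h2
  exact h2.symm

/-- membership in `I • ⊤` for functions -/
theorem mem_smul_top_pi {r : ℕ} (I : Ideal W) (y : Fin r → W) :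
    y ∈ I • (⊤ : Submodule W (Fin r → W)) ↔ ∀ j, y j ∈ I := by
  constructor
  · intro hy
    refine Submodule.smul_induction_on hy (fun a ha x _ j => ?_) (fun x z hx hz j => ?_)
    · exact I.mul_mem_right _ ha
    · exact I.add_mem (hx j) (hz j)
  · intro hy
    have : y = ∑ j, y j • (Pi.single j (1 : W) : Fin r → W) := by
      funext i
      simp [Finset.sum_apply, Pi.single_apply]
    rw [this]
    exact Submodule.sum_mem _ fun j _ => Submodule.smul_mem_smul (hy j) Submodule.mem_top

end general


section tower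

variable {W : Type u} [CommRing W] (I : ℕ → Ideal W)

/-- the level-`n` quotient -/
abbrev Pq (P : Type*) [AddCommGroup P] [Module W P] (n : ℕ) :=
  P ⧸ (I n • (⊤ : Submodule W P))

variable (P : Type*) [AddCommGroup P] [Module W P]

theorem mk_mem_smul_top {J : Ideal W} (N : Submodule W P) {x : P}
    (hx : x ∈ J • (⊤ : Submodule W P)) : N.mkQ x ∈ J • (⊤ : Submodule W (P ⧸ N)) := by
  refine Submodule.smul_induction_on hx (fun a ha x _ => ?_) (fun x y hx hy => ?_)
  · rw [map_smul]
    exact Submodule.smul_mem_smul ha Submodule.mem_top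
  · rw [map_add]
    exact add_mem hx hy

theorem killed (n : ℕ) : ∀ a ∈ I n, ∀ y : Pq I P n, a • y = 0 := by
  intro a ha y
  obtain ⟨x, rfl⟩ := Submodule.Quotient.mk_surjective _ y
  rw [← Submodule.Quotient.mk_smul, Submodule.Quotient.mk_eq_zero]
  exact Submodule.smul_mem_smul ha Submodule.mem_top

/-- the transition maps -/
noncomputable def tr (hanti : Antitone I) (n : ℕ) : Pq I P (n + 1) →ₗ[W] Pq I P n :=
  Submodule.mapQ _ _ LinearMap.id (by
    rw [Submodule.comap_id]
    exact Submodule.smul_mono_left (hanti (Nat.le_succ n)))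

theorem tr_mk (hanti : Antitone I) (n : ℕ) (x : P) :
    tr I P hanti n (Submodule.Quotient.mk x) = Submodule.Quotient.mk x := rfl

theorem tr_surjective (hanti : Antitone I) (n : ℕ) : Function.Surjective (tr I P hanti n) := by
  intro y
  obtain ⟨x, rfl⟩ := Submodule.Quotient.mk_surjective _ y
  exact ⟨Submodule.Quotient.mk x, rfl⟩

theorem mem_of_tr_eq_zero (hanti : Antitone I) (n : ℕ) (y : Pq I P (n + 1))
    (h : tr I P hanti n y = 0) : y ∈ I n • (⊤ : Submodule W (Pq I P (n + 1))) := by
  obtain ⟨x, rfl⟩ := Submodule.Quotient.mk_surjective _ y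
  rw [tr_mk, Submodule.Quotient.mk_eq_zero] at h
  exact mk_mem_smul_top P _ h

variable {P} {F : Type*} [AddCommGroup F] [Module W F]

/-- the induced maps on quotients -/
noncomputable def fq (f : F →ₗ[W] P) (n : ℕ) : Pq I F n →ₗ[W] Pq I P n :=
  Submodule.mapQ _ _ f (Submodule.smul_le.2 fun a ha x _ => by
    rw [Submodule.mem_comap, map_smul]
    exact Submodule.smul_mem_smul ha Submodule.mem_top)

theorem fq_mk (f : F →ₗ[W] P) (n : ℕ) (x : F) :
    fq I f n (Submodule.Quotient.mk x) = Submodule.Quotient.mk (f x) := rfl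

theorem tr_fq (hanti : Antitone I) (f : F →ₗ[W] P) (n : ℕ) (z : Pq I F (n + 1)) :
    tr I P hanti n (fq I f (n + 1) z) = fq I f n (tr I F hanti n z) := by
  obtain ⟨x, rfl⟩ := Submodule.Quotient.mk_surjective _ z
  rfl

end tower


section main

variable {W : Type u} [CommRing W] (I : ℕ → Ideal W) {P : Type v} [AddCommGroup P] [Module W P]

theorem finite_projective_of_quotients (hanti : Antitone I)
    (hcomp : ∀ w : ℕ → W, (∀ n, w (n + 1) - w n ∈ I n) → ∃ x, ∀ n, x - w n ∈ I n)
    (hsep : ⨅ n, I n = ⊥)
    (hrad : ∀ n, I 1 ≤ (I n).radical)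
    (hPsep : ⨅ n, I n • (⊤ : Submodule W P) = ⊥)
    (hfin : ∀ n, Module.Finite (W ⧸ I n) (P ⧸ (I n • (⊤ : Submodule W P))))
    (hproj : ∀ n, Module.Projective (W ⧸ I n) (P ⧸ (I n • (⊤ : Submodule W P)))) :
    Module.Finite W P ∧ Module.Projective W P := by
  classical
  have hfinW : ∀ n, Module.Finite W (Pq I P n) := fun n => by
    haveI := hfin n
    exact Module.Finite.trans (W ⧸ I n) _
  have hjac : ∀ n, I 1 ≤ Ideal.jacobson (I n) := fun n =>
    (hrad n).trans Ideal.radical_le_jacobson
  -- Step 0: a map from a free module, surjective modulo `I 1`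
  obtain ⟨r, g, hg⟩ := Module.Finite.exists_fin' W (Pq I P 1)
  obtain ⟨f, hf⟩ := Module.projective_lifting_property (I 1 • (⊤ : Submodule W P)).mkQ g
    (Submodule.mkQ_surjective _)
  have h1 : LinearMap.range f ⊔ I 1 • (⊤ : Submodule W P) = ⊤ := by
    rw [eq_top_iff]
    intro x _
    obtain ⟨y, hy⟩ := hg ((I 1 • ⊤ : Submodule W P).mkQ x)
    have h0 : (I 1 • ⊤ : Submodule W P).mkQ (x - f y) = 0 := by
      rw [map_sub, ← hy, ← LinearMap.comp_apply, hf, sub_self]
    have hx : x - f y ∈ I 1 • (⊤ : Submodule W P) := (Submodule.Quotient.mk_eq_zero _).1 h0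
    have hxe : x = f y + (x - f y) := by abel
    rw [hxe]
    exact Submodule.add_mem_sup (LinearMap.mem_range_self f y) hx
  -- Step 1: surjectivity at every positive level
  have hfq : ∀ n, 1 ≤ n → Function.Surjective (fq I f n) := by
    intro n hn
    rw [← LinearMap.range_eq_top]
    haveI := hfinW n
    apply eq_top_of_sup_smul_eq_top (I 1) (I n) (hjac n) (killed I P n)
    rw [eq_top_iff]
    rintro y -
    obtain ⟨x, rfl⟩ := Submodule.Quotient.mk_surjective _ y
    have hx : x ∈ LinearMap.range f ⊔ I 1 • (⊤ : Submodule W P) := by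
      rw [h1]
      exact Submodule.mem_top
    obtain ⟨a, ⟨z, rfl⟩, b, hb, rfl⟩ := Submodule.mem_sup.1 hx
    rw [Submodule.Quotient.mk_add]
    exact Submodule.add_mem_sup ⟨Submodule.Quotient.mk z, rfl⟩ (mk_mem_smul_top P _ hb)
  -- Step 2: compatible sections
  have base : Nonempty {s : Pq I P (0 + 1) →ₗ[W] Pq I (Fin r → W) (0 + 1) //
      fq I f (0 + 1) ∘ₗ s = LinearMap.id} := by
    haveI := hproj 1
    obtain ⟨s, hs⟩ := exists_lift_of_projective_quotient (I 1) (P' := Pq I P 1)
      (killed I (Fin r → W) 1) (killed I P 1) (fq I f 1) (hfq 1 le_rfl) LinearMap.id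
    exact ⟨⟨s, hs⟩⟩
  obtain ⟨sec, hsec⟩ : ∃ sec : ∀ n, {s : Pq I P (n + 1) →ₗ[W] Pq I (Fin r → W) (n + 1) //
      fq I f (n + 1) ∘ₗ s = LinearMap.id},
      ∀ n, tr I (Fin r → W) hanti (n + 1) ∘ₗ (sec (n + 1)).1 =
        (sec n).1 ∘ₗ tr I P hanti (n + 1) := by
    refine exists_dep_seq (α := fun n => {s : Pq I P (n + 1) →ₗ[W] Pq I (Fin r → W) (n + 1) //
      fq I f (n + 1) ∘ₗ s = LinearMap.id})
      (fun n s s' => tr I (Fin r → W) hanti (n + 1) ∘ₗ s'.1 = s.1 ∘ₗ tr I P hanti (n + 1))
      base.some ?_
    · rintro n ⟨s, hs⟩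
      haveI := hproj (n + 2)
      haveI := hfinW (n + 2)
      obtain ⟨t, ht⟩ := exists_lift_of_projective_quotient (I (n + 2)) (P' := Pq I P (n + 2))
        (killed I (Fin r → W) (n + 2))
        (fun a ha y => killed I (Fin r → W) (n + 1) a (hanti (Nat.le_succ _) ha) y)
        (tr I (Fin r → W) hanti (n + 1)) (tr_surjective I _ hanti _)
        (s ∘ₗ tr I P hanti (n + 1))
      have hu : ∀ y, tr I P hanti (n + 1) (fq I f (n + 2) (t y)) = tr I P hanti (n + 1) y := by
        intro y
        rw [tr_fq]
        have := LinearMap.congr_fun ht y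
        simp only [LinearMap.comp_apply] at this
        rw [this]
        exact LinearMap.congr_fun hs _
      have hsurj : Function.Surjective (fq I f (n + 2) ∘ₗ t) := by
        rw [← LinearMap.range_eq_top]
        apply eq_top_of_sup_smul_eq_top (I (n + 1)) (I (n + 2))
          ((hanti (Nat.succ_le_succ (Nat.zero_le n))).trans (hjac _)) (killed I P (n + 2))
        rw [eq_top_iff]
        rintro y -
        have hy : y - fq I f (n + 2) (t y) ∈ I (n + 1) • (⊤ : Submodule W (Pq I P (n + 2))) := by
          apply mem_of_tr_eq_zero I P hanti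
          rw [map_sub, hu, sub_self]
        have hye : y = fq I f (n + 2) (t y) + (y - fq I f (n + 2) (t y)) := by abel
        rw [hye]
        exact Submodule.add_mem_sup ⟨y, rfl⟩ hy
      have hinj : Function.Injective (fq I f (n + 2) ∘ₗ t) :=
        OrzechProperty.injective_of_surjective_endomorphism _ hsurj
      let ue := LinearEquiv.ofBijective (fq I f (n + 2) ∘ₗ t) ⟨hinj, hsurj⟩
      have hue : ∀ y, fq I f (n + 2) (t (ue.symm y)) = y := fun y => ue.apply_symm_apply y
      refine ⟨⟨t ∘ₗ ue.symm.toLinearMap, ?_⟩, ?_⟩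
      · refine LinearMap.ext fun y => ?_
        exact hue y
      · refine LinearMap.ext fun y => ?_
        have h1 := LinearMap.congr_fun ht (ue.symm y)
        simp only [LinearMap.comp_apply] at h1
        simp only [LinearMap.comp_apply, LinearEquiv.coe_coe]
        rw [h1, ← hu (ue.symm y), hue]
  -- Step 3: the limit section
  have hcompat : ∀ n (z : Pq I P (n + 2)),
      tr I (Fin r → W) hanti (n + 1) ((sec (n + 1)).1 z) =
        (sec n).1 (tr I P hanti (n + 1) z) := fun n z => LinearMap.congr_fun (hsec n) z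
  have hFsep : ∀ z : Fin r → W,
      (∀ n, (Submodule.Quotient.mk z : Pq I (Fin r → W) (n + 1)) = 0) → z = 0 := by
    intro z hz
    funext j
    have : z j ∈ ⨅ n, I n := by
      rw [Ideal.mem_iInf]
      intro n
      have := (mem_smul_top_pi (I (n + 1)) z).1 ((Submodule.Quotient.mk_eq_zero _).1 (hz n)) j
      exact hanti (Nat.le_succ n) this
    rw [hsep] at this
    exact this
  have hlim : ∀ x : P, ∃ w : Fin r → W, ∀ n,
      (Submodule.Quotient.mk w : Pq I (Fin r → W) (n + 1)) =
        (sec n).1 (Submodule.Quotient.mk x) := by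
    intro x
    have hy : ∀ n, ∃ y : Fin r → W, (Submodule.Quotient.mk y : Pq I (Fin r → W) (n + 2)) =
        (sec (n + 1)).1 (Submodule.Quotient.mk x) := fun n =>
      Submodule.Quotient.mk_surjective _ _
    choose y hy using hy
    have hy' : ∀ n, (Submodule.Quotient.mk (y n) : Pq I (Fin r → W) (n + 1)) =
        (sec n).1 (Submodule.Quotient.mk x) := by
      intro n
      have := hcompat n (Submodule.Quotient.mk x)
      rw [← hy n] at this
      exact this
    have hdiff : ∀ n j, (y (n + 1) - y n) j ∈ I (n + 2) := by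
      intro n j
      apply (mem_smul_top_pi (I (n + 2)) _).1 _ j
      rw [← Submodule.Quotient.mk_eq_zero, Submodule.Quotient.mk_sub, sub_eq_zero, hy n]
      exact hy' (n + 1)
    have hw : ∀ j, ∃ wj : W, ∀ n, wj - y n j ∈ I n := fun j =>
      hcomp (fun n => y n j) (fun n => hanti (by omega) (hdiff n j))
    choose w hw using hw
    refine ⟨w, fun n => ?_⟩
    have h3 : (Submodule.Quotient.mk (y (n + 1)) : Pq I (Fin r → W) (n + 1)) =
        (sec n).1 (Submodule.Quotient.mk x) := by
      have := hcompat n (Submodule.Quotient.mk x)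
      rw [← hy' (n + 1)] at this
      exact this
    rw [← h3, ← sub_eq_zero, ← Submodule.Quotient.mk_sub, Submodule.Quotient.mk_eq_zero,
      mem_smul_top_pi]
    intro j
    exact hw j (n + 1)
  choose s hs using hlim
  have hs' : ∀ x n, (Submodule.Quotient.mk (s x) : Pq I (Fin r → W) (n + 1)) =
      (sec n).1 (Submodule.Quotient.mk x) := hs
  let sL : P →ₗ[W] (Fin r → W) :=
    { toFun := s
      map_add' := fun x x' => by
        rw [← sub_eq_zero]
        apply hFsep
        intro n
        rw [Submodule.Quotient.mk_sub, Submodule.Quotient.mk_add, hs', hs', hs',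
          Submodule.Quotient.mk_add, map_add, sub_self]
      map_smul' := fun a x => by
        rw [← sub_eq_zero]
        apply hFsep
        intro n
        rw [Submodule.Quotient.mk_sub, RingHom.id_apply, Submodule.Quotient.mk_smul, hs', hs',
          Submodule.Quotient.mk_smul, map_smul, sub_self] }
  have hfs : ∀ x, f (s x) = x := by
    intro x
    rw [← sub_eq_zero]
    have : f (s x) - x ∈ ⨅ n, I n • (⊤ : Submodule W P) := by
      rw [Submodule.mem_iInf]
      intro n
      have h2 : f (s x) - x ∈ I (n + 1) • (⊤ : Submodule W P) := by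
        rw [← Submodule.Quotient.mk_eq_zero, Submodule.Quotient.mk_sub, sub_eq_zero]
        have := LinearMap.congr_fun (sec n).2 (Submodule.Quotient.mk x)
        simp only [LinearMap.comp_apply, LinearMap.id_apply] at this
        rw [← hs' x n] at this
        exact this
      exact Submodule.smul_mono_left (hanti (Nat.le_succ n)) h2
    rw [hPsep] at this
    exact this
  refine ⟨Module.Finite.of_surjective f (fun x => ⟨s x, hfs x⟩), ?_⟩
  exact Module.Projective.of_split sL f (by ext x; exact hfs x)

end main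

end Groth.Agent.Lib.FiltProjH1
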