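import Mathlib

set_option autoImplicit false
set_option linter.unusedVariables false
set_option linter.unusedTactic false
set_option linter.unreachableTactic false
set_option linter.unusedSectionVars false
set_option linter.style.haveILetI false
set_option maxHeartbeats 800000

universe u v w

namespace Groth.Agent.Lib.TensFiltH4

open scoped TensorProduct
open PiTensorProduct

variable {Γ : Type w} [AddCommGroup Γ] [LinearOrder Γ] [IsOrderedAddMonoid Γ]
variable {R : Type u} [CommRing R] {M : Type v} [AddCommGroup M] [Module R M]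

/-- The filtration induced on the `k`-th tensor power. -/
def T (k : ℕ) (F : Γ → Submodule R M) (γ : Γ) : Submodule R (⨂[R] _ : Fin k, M) :=
  ⨆ c : {c : Fin k → Γ // ∑ i, c i = γ},
    LinearMap.range (PiTensorProduct.map (R := R) (fun i => (F (c.1 i)).subtype))

/-- The product functional on the tensor power. -/
noncomputable def Lam (k : ℕ) (l : Fin k → (M →ₗ[R] R)) : (⨂[R] _ : Fin k, M) →ₗ[R] R :=
  PiTensorProduct.lift ((MultilinearMap.mkPiAlgebra R (Fin k) R).compLinearMap l)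

lemma Lam_tprod (k : ℕ) (l : Fin k → (M →ₗ[R] R)) (v : Fin k → M) :
    Lam k l (tprod R v) = ∏ i, l i (v i) := by
  simp [Lam, PiTensorProduct.lift.tprod, MultilinearMap.compLinearMap_apply,
    MultilinearMap.mkPiAlgebra_apply]

lemma Lam_mem (k : ℕ) (l : Fin k → (M →ₗ[R] R)) (F : Γ → Submodule R M) (γ : Γ) (P : Ideal R)
    (hP : ∀ c : Fin k → Γ, ∑ i, c i = γ → ∀ f : Fin k → M, (∀ i, f i ∈ F (c i)) →
      ∏ i, l i (f i) ∈ P)
    (t : ⨂[R] _ : Fin k, M) (ht : t ∈ T k F γ) : Lam k l t ∈ P := by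
  have hle : T k F γ ≤ Submodule.comap (Lam k l) P := by
    unfold T
    refine iSup_le fun c => ?_
    rintro _ ⟨u, rfl⟩
    rw [Submodule.mem_comap]
    induction u using PiTensorProduct.induction_on with
    | smul_tprod r f =>
      rw [map_smul, map_smul, PiTensorProduct.map_tprod, Lam_tprod, smul_eq_mul]
      exact P.mul_mem_left r (hP c.1 c.2 (fun i => (f i : M)) (fun i => (f i).2))
    | add x y hx hy =>
      rw [map_add, map_add]; exact P.add_mem hx hy
  exact Submodule.mem_comap.1 (hle ht)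

section proj

variable (G : Γ → Submodule R M) (hG : DirectSum.IsInternal G)

/-- The projector onto the `η`-th graded piece. -/
noncomputable def proj (η : Γ) : M →ₗ[R] M :=
  (G η).subtype ∘ₗ (DirectSum.component R Γ (fun i => G i) η) ∘ₗ
    (LinearEquiv.ofBijective (DirectSum.coeLinearMap G) hG).symm.toLinearMap

lemma proj_mem (η : Γ) (w : M) : proj G hG η w ∈ G η :=
  ((DirectSum.component R Γ (fun i => G i) η)
    ((LinearEquiv.ofBijective (DirectSum.coeLinearMap G) hG).symm w)).2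

lemma symm_of_mem {η' : Γ} {g : M} (hg : g ∈ G η') :
    (LinearEquiv.ofBijective (DirectSum.coeLinearMap G) hG).symm g =
      DirectSum.of (fun i => G i) η' ⟨g, hg⟩ := by
  rw [LinearEquiv.symm_apply_eq]
  show g = DirectSum.coeLinearMap G (DirectSum.of (fun i => ↥(G i)) η' ⟨g, hg⟩)
  rw [DirectSum.coeLinearMap_of]

lemma proj_of_mem_same {η : Γ} {g : M} (hg : g ∈ G η) : proj G hG η g = g := by
  show ((G η).subtype ((DirectSum.component R Γ (fun i => G i) η)
    ((LinearEquiv.ofBijective (DirectSum.coeLinearMap G) hG).symm g))) = g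
  rw [symm_of_mem G hG hg, ← DirectSum.apply_eq_component, DirectSum.of_eq_same]
  rfl

lemma proj_of_mem_ne {η η' : Γ} {g : M} (hg : g ∈ G η') (hne : η' ≠ η) : proj G hG η g = 0 := by
  show ((G η).subtype ((DirectSum.component R Γ (fun i => G i) η)
    ((LinearEquiv.ofBijective (DirectSum.coeLinearMap G) hG).symm g))) = 0
  rw [symm_of_mem G hG hg, ← DirectSum.apply_eq_component, DirectSum.of_eq_of_ne _ _ _ hne.symm,
    map_zero]

lemma sum_proj (w : M) : ∃ s : Finset Γ, ∑ η ∈ s, proj G hG η w = w := by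
  classical
  refine ⟨((LinearEquiv.ofBijective (DirectSum.coeLinearMap G) hG).symm w).support, ?_⟩
  have h1 : (LinearEquiv.ofBijective (DirectSum.coeLinearMap G) hG)
      ((LinearEquiv.ofBijective (DirectSum.coeLinearMap G) hG).symm w) = w :=
    LinearEquiv.apply_symm_apply _ w
  conv_rhs => rw [← h1, ← DirectSum.sum_support_of
    ((LinearEquiv.ofBijective (DirectSum.coeLinearMap G) hG).symm w), map_sum]
  refine Finset.sum_congr rfl fun η _ => ?_
  show proj G hG η w = DirectSum.coeLinearMap G (DirectSum.of (fun i => ↥(G i)) η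
    (((LinearEquiv.ofBijective (DirectSum.coeLinearMap G) hG).symm w) η))
  rw [DirectSum.coeLinearMap_of]
  rfl

lemma F_le_ker (F : Γ → Submodule R M) (hF : ∀ γ, F γ = ⨆ η ∈ Set.Ici γ, G η)
    {c η₀ : Γ} (hc : η₀ < c) {f : M} (hf : f ∈ F c) : proj G hG η₀ f = 0 := by
  have hle : F c ≤ LinearMap.ker (proj G hG η₀) := by
    rw [hF c]
    refine iSup₂_le fun η hη => ?_
    intro g hg
    rw [LinearMap.mem_ker]
    exact proj_of_mem_ne G hG hg (ne_of_gt (lt_of_lt_of_le hc hη))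
  exact LinearMap.mem_ker.1 (hle hf)

lemma mem_F_of_proj (F : Γ → Submodule R M) (hF : ∀ γ, F γ = ⨆ η ∈ Set.Ici γ, G η)
    (γ : Γ) (x : M) (hx : ∀ η, η < γ → proj G hG η x = 0) : x ∈ F γ := by
  obtain ⟨s, hs⟩ := sum_proj G hG x
  rw [← hs, hF γ]
  refine Submodule.sum_mem _ fun η _ => ?_
  by_cases hη : η < γ
  · rw [hx η hη]; exact Submodule.zero_mem _
  · exact Submodule.mem_iSup_of_mem η
      (Submodule.mem_iSup_of_mem (Set.mem_Ici.2 (not_lt.1 hη)) (proj_mem G hG η x))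

lemma antitone_of (F : Γ → Submodule R M) (hF : ∀ γ, F γ = ⨆ η ∈ Set.Ici γ, G η) :
    Antitone F := by
  intro a b hab
  rw [hF a, hF b]
  exact biSup_mono fun η hη => Set.mem_Ici.2 (le_trans hab (Set.mem_Ici.1 hη))

end proj

theorem le_of_T_eq [Module.Finite R M] [Module.Projective R M] (k' : ℕ)
    (F₁ F₂ : Γ → Submodule R M) (hF₁ : Antitone F₁)
    (G : Γ → Submodule R M) (hG : DirectSum.IsInternal G)
    (hF₂ : ∀ γ, F₂ γ = ⨆ η ∈ Set.Ici γ, G η)
    (h : ∀ γ, T (k' + 1) F₁ γ = T (k' + 1) F₂ γ) (γ : Γ) : F₁ γ ≤ F₂ γ := by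
  intro x hx
  refine mem_F_of_proj G hG F₂ hF₂ γ x fun η₀ hη₀ => ?_
  by_contra hz
  obtain ⟨s, hs⟩ := Module.Projective.out (R := R) (P := M)
  -- the dual separates points
  obtain ⟨φ, hφ⟩ : ∃ φ : M →ₗ[R] R, φ (proj G hG η₀ x) ≠ 0 := by
    by_contra hno
    push Not at hno
    apply hz
    have h0 : s (proj G hG η₀ x) = 0 :=
      Finsupp.ext fun v => by simpa using hno ((Finsupp.lapply v).comp s)
    have h1 := hs (proj G hG η₀ x)
    rw [h0, map_zero] at h1
    exact h1.symm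
  -- a maximal ideal containing the annihilator
  obtain ⟨m, hm, ham⟩ := Ideal.exists_le_maximal
    (Submodule.span R ({φ (proj G hG η₀ x)} : Set R)).annihilator (by
      intro htop
      have h1 : (1 : R) ∈ (Submodule.span R ({φ (proj G hG η₀ x)} : Set R)).annihilator :=
        htop ▸ Submodule.mem_top
      rw [Submodule.mem_annihilator_span_singleton, one_smul] at h1
      exact hφ h1)
  have hmp : m.IsPrime := hm.isPrime
  -- Step 1
  have star : ∀ δ ε : Γ, ε ≤ δ → ∀ y ∈ F₁ δ, ∀ ψ : M →ₗ[R] R, ψ (proj G hG ε y) ∈ m := by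
    intro δ ε hεδ y hy ψ
    obtain ⟨c, hc0, hcs⟩ : ∃ c : Fin (k' + 1) → Γ, c 0 = γ ∧ ∀ j : Fin k', c j.succ = δ :=
      ⟨Fin.cons γ (fun _ => δ), rfl, fun _ => rfl⟩
    obtain ⟨v, hv0, hvs⟩ : ∃ v : Fin (k' + 1) → M, v 0 = x ∧ ∀ j : Fin k', v j.succ = y :=
      ⟨Fin.cons x (fun _ => y), rfl, fun _ => rfl⟩
    obtain ⟨l, hl0, hls⟩ : ∃ l : Fin (k' + 1) → (M →ₗ[R] R), l 0 = φ ∘ₗ proj G hG η₀ ∧
        ∀ j : Fin k', l j.succ = ψ ∘ₗ proj G hG ε :=
      ⟨Fin.cons (φ ∘ₗ proj G hG η₀) (fun _ => ψ ∘ₗ proj G hG ε), rfl, fun _ => rfl⟩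
    have hv : ∀ i, v i ∈ F₁ (c i) := by
      intro i
      refine Fin.cases ?_ (fun j => ?_) i
      · rw [hv0, hc0]; exact hx
      · rw [hvs, hcs]; exact hy
    have hsum : ∑ i, c i = γ + k' • δ := by
      rw [Fin.sum_univ_succ, hc0]
      simp only [hcs, Finset.sum_const, Finset.card_univ, Fintype.card_fin]
    have hmem : tprod R v ∈ T (k' + 1) F₁ (γ + k' • δ) := by
      unfold T
      refine Submodule.mem_iSup_of_mem ⟨c, hsum⟩
        ⟨tprod R (fun i => (⟨v i, hv i⟩ : F₁ (c i))), ?_⟩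
      rw [PiTensorProduct.map_tprod]; rfl
    rw [h] at hmem
    have hL : Lam (k' + 1) l (tprod R v) ∈ (⊥ : Ideal R) := by
      refine Lam_mem (k' + 1) l F₂ (γ + k' • δ) ⊥ ?_ _ hmem
      intro c' hc' f hf
      rw [Ideal.mem_bot]
      by_cases h0 : η₀ < c' 0
      · refine Finset.prod_eq_zero (Finset.mem_univ 0) ?_
        rw [hl0, LinearMap.comp_apply, F_le_ker G hG F₂ hF₂ h0 (hf 0), map_zero]
      · by_cases h1 : ∃ i : Fin k', ε < c' i.succ
        · obtain ⟨i, hi⟩ := h1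
          refine Finset.prod_eq_zero (Finset.mem_univ i.succ) ?_
          rw [hls, LinearMap.comp_apply, F_le_ker G hG F₂ hF₂ hi (hf i.succ), map_zero]
        · exfalso
          push Not at h0 h1
          have hle : ∑ i, c' i ≤ η₀ + k' • δ := by
            rw [Fin.sum_univ_succ]
            refine add_le_add h0 ?_
            calc ∑ i : Fin k', c' i.succ ≤ ∑ _i : Fin k', δ :=
                  Finset.sum_le_sum fun i _ => (h1 i).trans hεδ
              _ = k' • δ := by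
                  simp only [Finset.sum_const, Finset.card_univ, Fintype.card_fin]
          rw [hc'] at hle
          exact absurd hle (not_le.2 (add_lt_add_of_lt_of_le hη₀ le_rfl))
    rw [Ideal.mem_bot, Lam_tprod, Fin.prod_univ_succ] at hL
    have hL' : φ (proj G hG η₀ x) * ψ (proj G hG ε y) ^ k' = 0 := by
      have e1 : (l 0) (v 0) * ∏ i : Fin k', (l i.succ) (v i.succ) =
          φ (proj G hG η₀ x) * ψ (proj G hG ε y) ^ k' := by
        rw [hl0, hv0]
        simp only [hls, hvs, LinearMap.comp_apply, Finset.prod_const, Finset.card_univ,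
          Fintype.card_fin]
      rw [← e1]; exact hL
    have hmem2 : ψ (proj G hG ε y) ^ k' ∈ m := ham (by
      rw [Submodule.mem_annihilator_span_singleton, smul_eq_mul, mul_comm]; exact hL')
    exact hmp.mem_of_pow_mem k' hmem2
  -- Step 2
  have exg : ∃ (b : Γ) (g : M) (ψ : M →ₗ[R] R), g ∈ G b ∧ ψ g ∉ m := by
    by_contra hno
    push Not at hno
    have hall : ∀ (w : M) (ψ : M →ₗ[R] R), ψ w ∈ m := by
      intro w ψ
      obtain ⟨S, hS⟩ := sum_proj G hG w
      rw [← hS, map_sum]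
      exact m.sum_mem fun η _ => hno η _ ψ (proj_mem G hG η w)
    have htop : (⊤ : Submodule R M) ≤ m • ⊤ := by
      intro w _
      have h1 := hs w
      rw [← h1, Finsupp.linearCombination_apply, Finsupp.sum]
      refine Submodule.sum_mem _ fun v _ => ?_
      have h2 : (s w) v ∈ m := by simpa using hall w ((Finsupp.lapply v).comp s)
      exact Submodule.smul_mem_smul h2 Submodule.mem_top
    obtain ⟨r, hr1, hr2⟩ := Submodule.exists_sub_one_mem_and_smul_eq_zero_of_fg_of_le_smul m ⊤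
      Module.Finite.fg_top htop
    have hrm : r ∈ m := ham (by
      rw [Submodule.mem_annihilator_span_singleton, ← map_smul,
        hr2 (proj G hG η₀ x) Submodule.mem_top, map_zero])
    apply hm.ne_top
    rw [Ideal.eq_top_iff_one]
    have e1 : (1 : R) = r - (r - 1) := by ring
    rw [e1]; exact m.sub_mem hrm hr1
  obtain ⟨b, g, ψ₁, hg, hψ⟩ := exg
  have hgF : g ∈ F₂ b := by
    rw [hF₂ b]
    exact Submodule.mem_iSup_of_mem b (Submodule.mem_iSup_of_mem (Set.mem_Ici.2 le_rfl) hg)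
  have hmem : tprod R (fun _ : Fin (k' + 1) => g) ∈ T (k' + 1) F₂ ((k' + 1) • b) := by
    unfold T
    refine Submodule.mem_iSup_of_mem ⟨fun _ => b, by
        simp only [Finset.sum_const, Finset.card_univ, Fintype.card_fin]⟩
      ⟨tprod R (fun _ => (⟨g, hgF⟩ : F₂ b)), ?_⟩
    rw [PiTensorProduct.map_tprod]; rfl
  rw [← h] at hmem
  have hL : Lam (k' + 1) (fun _ => ψ₁ ∘ₗ proj G hG b) (tprod R (fun _ : Fin (k' + 1) => g)) ∈ m := by
    refine Lam_mem (k' + 1) (fun _ => ψ₁ ∘ₗ proj G hG b) F₁ ((k' + 1) • b) m ?_ _ hmem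
    intro c' hc' f hf
    obtain ⟨i, hi⟩ : ∃ i, b ≤ c' i := by
      by_contra hno
      push Not at hno
      have hlt : ∑ i, c' i < ∑ _i : Fin (k' + 1), b :=
        Finset.sum_lt_sum_of_nonempty Finset.univ_nonempty fun i _ => hno i
      rw [hc'] at hlt
      simp only [Finset.sum_const, Finset.card_univ, Fintype.card_fin, lt_self_iff_false] at hlt
    have hfi : f i ∈ F₁ b := hF₁ hi (hf i)
    have h1 : (ψ₁ ∘ₗ proj G hG b) (f i) ∈ m := star b b le_rfl (f i) hfi ψ₁
    obtain ⟨q, hq⟩ := Finset.dvd_prod_of_mem (fun i => (ψ₁ ∘ₗ proj G hG b) (f i))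
      (Finset.mem_univ i)
    rw [hq]; exact m.mul_mem_right _ h1
  rw [Lam_tprod] at hL
  have hpow : ψ₁ g ^ (k' + 1) ∈ m := by
    have e1 : ∏ _i : Fin (k' + 1), (ψ₁ ∘ₗ proj G hG b) g = ψ₁ g ^ (k' + 1) := by
      rw [Finset.prod_const, Finset.card_univ, Fintype.card_fin, LinearMap.comp_apply,
        proj_of_mem_same G hG hg]
    rw [← e1]; exact hL
  exact hψ (hmp.mem_of_pow_mem _ hpow)

theorem main [Module.Finite R M] [Module.Projective R M]
    (F₁ F₂ : Γ → Submodule R M)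
    (h₁ : ∃ G : Γ → Submodule R M, DirectSum.IsInternal G ∧ ∀ γ, F₁ γ = ⨆ η ∈ Set.Ici γ, G η)
    (h₂ : ∃ G : Γ → Submodule R M, DirectSum.IsInternal G ∧ ∀ γ, F₂ γ = ⨆ η ∈ Set.Ici γ, G η)
    (k : ℕ) (hk : 1 ≤ k)
    (h : ∀ γ : Γ, T k F₁ γ = T k F₂ γ) : F₁ = F₂ := by
  obtain ⟨G₁, hG₁, hF₁⟩ := h₁
  obtain ⟨G₂, hG₂, hF₂⟩ := h₂
  obtain ⟨k', rfl⟩ : ∃ k', k = k' + 1 := ⟨k - 1, by omega⟩
  funext γ
  exact le_antisymm (le_of_T_eq k' F₁ F₂ (antitone_of G₁ F₁ hF₁) G₂ hG₂ hF₂ h γ)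
    (le_of_T_eq k' F₂ F₁ (antitone_of G₂ F₂ hF₂) G₁ hG₁ hF₁ (fun γ => (h γ).symm) γ)

end Groth.Agent.Lib.TensFiltH4
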