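import Mathlib
import Groth.Agent.Lib.TensFilt_helper4

set_option autoImplicit false
set_option linter.unusedVariables false
set_option linter.unusedTactic false
set_option linter.unreachableTactic false
set_option linter.unusedSectionVars false
set_option linter.style.haveILetI false
set_option maxHeartbeats 800000

universe u v w

namespace Groth.Agent.Lib.FiltSplitH4

open scoped TensorProduct
open Groth.Agent.Lib.TensFiltH4

variable {Γ : Type w} [AddCommGroup Γ] [LinearOrder Γ] [IsOrderedAddMonoid Γ]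
variable {R : Type u} [CommRing R] {M : Type v} [AddCommGroup M] [Module R M]

section lattice

lemma biSup_Ioi_Ici {L : Type*} [CompleteLattice L] (Y : Γ → L) (γ : Γ) :
    (⨆ η ∈ Set.Ioi γ, ⨆ η' ∈ Set.Ici η, Y η') = ⨆ η ∈ Set.Ioi γ, Y η := by
  apply le_antisymm
  · refine iSup₂_le fun η hη => iSup₂_le fun η' hη' => ?_
    exact le_iSup₂_of_le η' (Set.mem_Ioi.2 (lt_of_lt_of_le (Set.mem_Ioi.1 hη) (Set.mem_Ici.1 hη')))
      le_rfl
  · refine iSup₂_le fun η hη => ?_
    exact le_iSup₂_of_le η hη (le_iSup₂_of_le η (Set.mem_Ici.2 le_rfl) le_rfl)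

lemma biSup_Ici_eq {L : Type*} [CompleteLattice L] (Y : Γ → L) (γ : Γ) :
    (⨆ η ∈ Set.Ici γ, Y η) = Y γ ⊔ ⨆ η ∈ Set.Ioi γ, Y η := by
  apply le_antisymm
  · refine iSup₂_le fun η hη => ?_
    rcases eq_or_lt_of_le (Set.mem_Ici.1 hη) with h | h
    · rw [← h]; exact le_sup_left
    · exact le_sup_of_le_right (le_iSup₂_of_le η (Set.mem_Ioi.2 h) le_rfl)
  · refine sup_le (le_iSup₂_of_le γ (Set.mem_Ici.2 le_rfl) le_rfl) ?_
    exact iSup₂_le fun η hη =>
      le_iSup₂_of_le η (Set.mem_Ici.2 (le_of_lt (Set.mem_Ioi.1 hη))) le_rfl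

end lattice

section bc

variable (A : Type*) [CommRing A] [Algebra R A]

lemma bc_iSup {ι : Sort*} (p : ι → Submodule R M) :
    (⨆ i, p i).baseChange A = ⨆ i, (p i).baseChange A := by
  apply le_antisymm
  · rw [Submodule.baseChange_eq_span, Submodule.span_le]
    rintro _ ⟨x, hx, rfl⟩
    have hle : (⨆ i, p i) ≤ Submodule.comap (TensorProduct.mk R A M 1)
        ((⨆ i, (p i).baseChange A).restrictScalars R) := by
      refine iSup_le fun i y hy => ?_
      show (1 : A) ⊗ₜ[R] y ∈ ⨆ i, (p i).baseChange A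
      exact Submodule.mem_iSup_of_mem i (Submodule.tmul_mem_baseChange_of_mem 1 hy)
    exact hle hx
  · exact iSup_le fun i => Submodule.baseChange_mono A (le_iSup p i)

lemma bc_sup (p q : Submodule R M) :
    (p ⊔ q).baseChange A = p.baseChange A ⊔ q.baseChange A := by
  apply le_antisymm
  · rw [Submodule.baseChange_eq_span, Submodule.span_le]
    rintro _ ⟨x, hx, rfl⟩
    obtain ⟨y, hy, z, hz, rfl⟩ := Submodule.mem_sup.1 hx
    show (1 : A) ⊗ₜ[R] (y + z) ∈ p.baseChange A ⊔ q.baseChange A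
    rw [TensorProduct.tmul_add]
    exact Submodule.add_mem_sup (Submodule.tmul_mem_baseChange_of_mem 1 hy)
      (Submodule.tmul_mem_baseChange_of_mem 1 hz)
  · exact sup_le (Submodule.baseChange_mono A le_sup_left)
      (Submodule.baseChange_mono A le_sup_right)

end bc

lemma top_of_fibres [Module.Finite R M] (N : Submodule R M)
    (h : ∀ p : PrimeSpectrum R, N.baseChange p.asIdeal.ResidueField = ⊤) : N = ⊤ := by
  by_contra hN
  have hnt : Nontrivial (M ⧸ N) := Submodule.Quotient.nontrivial_iff.2 hN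
  have hsupp : (Module.support R (M ⧸ N)).Nonempty := by
    rw [Set.nonempty_iff_ne_empty, Ne, Module.support_eq_empty_iff]
    exact not_subsingleton _
  obtain ⟨p, hp⟩ := hsupp
  rw [Module.mem_support_iff_nontrivial_residueField_tensorProduct] at hp
  have hzero : ∀ t : p.asIdeal.ResidueField ⊗[R] M,
      (N.mkQ.baseChange p.asIdeal.ResidueField) t = 0 := by
    intro t
    have ht : t ∈ N.baseChange p.asIdeal.ResidueField := by rw [h p]; exact Submodule.mem_top
    obtain ⟨u, rfl⟩ := LinearMap.mem_range.1 ht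
    rw [← LinearMap.comp_apply, ← LinearMap.baseChange_comp]
    have h0 : N.mkQ ∘ₗ N.subtype = 0 := by
      ext x; simp
    rw [h0, LinearMap.baseChange_zero, LinearMap.zero_apply]
  have hs : Function.Surjective (N.mkQ.baseChange p.asIdeal.ResidueField) := by
    rw [LinearMap.baseChange_eq_ltensor]
    exact LinearMap.lTensor_surjective _ (Submodule.mkQ_surjective N)
  have hsub : Subsingleton (p.asIdeal.ResidueField ⊗[R] (M ⧸ N)) := by
    refine ⟨fun a b => ?_⟩
    obtain ⟨a', rfl⟩ := hs a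
    obtain ⟨b', rfl⟩ := hs b
    rw [hzero, hzero]
  exact not_subsingleton _ hsub

section field

variable {κ : Type*} [Field κ] {V : Type*} [AddCommGroup V] [Module κ V] [FiniteDimensional κ V]

lemma sum_le_finrank (U Up Gb : Γ → Submodule κ V) (hU : ∀ γ, U γ = Gb γ ⊔ Up γ)
    (hUp : ∀ γ η, γ < η → U η ≤ Up γ) (d : Γ → ℕ)
    (hd : ∀ γ, d γ = Module.finrank κ (U γ) - Module.finrank κ (Up γ)) (S : Finset Γ) :
    ∑ γ ∈ S, d γ ≤ Module.finrank κ ↥(⨆ γ ∈ S, Gb γ) := by
  classical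
  induction S using Finset.induction_on_min with
  | empty => simp
  | insert a s ha ih =>
    have has : a ∉ s := fun h => lt_irrefl a (ha a h)
    rw [Finset.sum_insert has, Finset.iSup_insert, hd a]
    have hW : (⨆ γ ∈ s, Gb γ) ≤ Up a := by
      refine iSup₂_le fun γ hγ => ?_
      have h1 : Gb γ ≤ U γ := by rw [hU γ]; exact le_sup_left
      exact h1.trans (hUp a γ (ha γ hγ))
    have hsup : (Gb a ⊔ ⨆ γ ∈ s, Gb γ) ⊔ Up a = U a := by
      rw [sup_assoc, sup_eq_right.2 hW, hU a]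
    have h2 := Submodule.finrank_sup_add_finrank_inf_eq (Gb a ⊔ ⨆ γ ∈ s, Gb γ) (Up a)
    rw [hsup] at h2
    have h3 : Module.finrank κ ↥(⨆ γ ∈ s, Gb γ) ≤
        Module.finrank κ ↥((Gb a ⊔ ⨆ γ ∈ s, Gb γ) ⊓ Up a) :=
      Submodule.finrank_mono (le_inf le_sup_right hW)
    have h4 : Module.finrank κ ↥((Gb a ⊔ ⨆ γ ∈ s, Gb γ) ⊓ Up a) ≤
        Module.finrank κ ↥(Gb a ⊔ ⨆ γ ∈ s, Gb γ) :=
      Submodule.finrank_mono inf_le_left
    omega

lemma finrank_biSup_of_indep (X : Γ → Submodule κ V) (hX : iSupIndep X) (S : Finset Γ) :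
    Module.finrank κ ↥(⨆ γ ∈ S, X γ) = ∑ γ ∈ S, Module.finrank κ (X γ) := by
  classical
  induction S using Finset.induction_on with
  | empty => simp
  | insert a s has ih =>
    rw [Finset.sum_insert has, Finset.iSup_insert, ← ih]
    have hd : Disjoint (X a) (⨆ γ ∈ s, X γ) :=
      (hX a).mono_right (iSup₂_le fun γ hγ =>
        le_iSup₂_of_le γ (ne_of_mem_of_not_mem hγ has) le_rfl)
    have h2 := Submodule.finrank_sup_add_finrank_inf_eq (X a) (⨆ γ ∈ s, X γ)
    rw [hd.eq_bot, finrank_bot, add_zero] at h2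
    exact h2

lemma rank_formula (X : Γ → Submodule κ V) (hX : iSupIndep X) (htop : ⨆ γ, X γ = ⊤) :
    Module.finrank κ V = ∑ᶠ γ, (Module.finrank κ ↥(⨆ η ∈ Set.Ici γ, X η) -
      Module.finrank κ ↥(⨆ η ∈ Set.Ioi γ, X η)) := by
  classical
  have hd : ∀ γ, Module.finrank κ ↥(⨆ η ∈ Set.Ici γ, X η) -
      Module.finrank κ ↥(⨆ η ∈ Set.Ioi γ, X η) = Module.finrank κ (X γ) := by
    intro γ
    have hdis : Disjoint (X γ) (⨆ η ∈ Set.Ioi γ, X η) :=
      (hX γ).mono_right (iSup₂_le fun η hη =>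
        le_iSup₂_of_le η (ne_of_gt (Set.mem_Ioi.1 hη)) le_rfl)
    have h2 := Submodule.finrank_sup_add_finrank_inf_eq (X γ) (⨆ η ∈ Set.Ioi γ, X η)
    have hb := biSup_Ici_eq X γ
    rw [hdis.eq_bot, finrank_bot, add_zero, ← hb] at h2
    rw [h2]; omega
  rw [finsum_congr hd]
  have hfin : {γ | X γ ≠ ⊥}.Finite := Submodule.finite_ne_bot_of_iSupIndep hX
  have hsupp : Function.support (fun γ => Module.finrank κ (X γ)) ⊆ ↑hfin.toFinset := by
    intro γ hγ
    rw [Function.mem_support] at hγ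
    rw [Set.Finite.coe_toFinset, Set.mem_setOf_eq]
    intro h0; rw [h0, finrank_bot] at hγ; exact hγ rfl
  rw [finsum_eq_sum_of_support_subset _ hsupp, ← finrank_biSup_of_indep X hX]
  have htop' : (⨆ γ ∈ hfin.toFinset, X γ) = ⊤ := by
    rw [eq_top_iff, ← htop]
    refine iSup_le fun γ => ?_
    by_cases h0 : X γ = ⊥
    · rw [h0]; exact bot_le
    · exact le_iSup₂_of_le γ (hfin.mem_toFinset.2 h0) le_rfl
  rw [htop', finrank_top]

end field

section forward

variable (G : Γ → Submodule R M)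

lemma Fp_eq (F Fp : Γ → Submodule R M) (hFG : ∀ γ, F γ = ⨆ η ∈ Set.Ici γ, G η)
    (hFp : ∀ γ, Fp γ = ⨆ η ∈ Set.Ioi γ, F η) (γ : Γ) : Fp γ = ⨆ η ∈ Set.Ioi γ, G η := by
  rw [hFp]; simp only [hFG]; exact biSup_Ioi_Ici G γ

variable (hG : DirectSum.IsInternal G)
include hG

lemma proj_eq_zero_of_mem_Ioi {γ : Γ} {x : M} (hx : x ∈ ⨆ η ∈ Set.Ioi γ, G η) :
    proj G hG γ x = 0 := by
  have hle : (⨆ η ∈ Set.Ioi γ, G η) ≤ LinearMap.ker (proj G hG γ) := by
    refine iSup₂_le fun η hη g hg => ?_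
    rw [LinearMap.mem_ker]
    exact proj_of_mem_ne G hG hg (ne_of_gt (Set.mem_Ioi.1 hη))
  exact LinearMap.mem_ker.1 (hle hx)

lemma mem_Ioi_of_proj (γ : Γ) (x : M) (hx : ∀ η, η ≤ γ → proj G hG η x = 0) :
    x ∈ ⨆ η ∈ Set.Ioi γ, G η := by
  obtain ⟨s, hs⟩ := sum_proj G hG x
  rw [← hs]
  refine Submodule.sum_mem _ fun η _ => ?_
  by_cases hη : η ≤ γ
  · rw [hx η hη]; exact Submodule.zero_mem _
  · exact Submodule.mem_iSup_of_mem η
      (Submodule.mem_iSup_of_mem (Set.mem_Ioi.2 (not_le.1 hη)) (proj_mem G hG η x))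

/-- The projection onto the graded piece, as a map to the submodule. -/
noncomputable def toG (γ : Γ) : M →ₗ[R] ↥(G γ) :=
  LinearMap.codRestrict (G γ) (proj G hG γ) (fun x => proj_mem G hG γ x)

lemma toG_subtype (γ : Γ) : (toG G hG γ) ∘ₗ (G γ).subtype = LinearMap.id := by
  refine LinearMap.ext fun g => Subtype.ext ?_
  show proj G hG γ (g : M) = (g : M)
  exact proj_of_mem_same G hG g.2

lemma gr_finite_projective [Module.Finite R M] [Module.Projective R M]
    (F Fp : Γ → Submodule R M)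
    (hFG : ∀ γ, F γ = ⨆ η ∈ Set.Ici γ, G η) (hFp : ∀ γ, Fp γ = ⨆ η ∈ Set.Ioi γ, F η) (γ : Γ) :
    Module.Finite R (↥(F γ) ⧸ Submodule.comap (F γ).subtype (Fp γ)) ∧
      Module.Projective R (↥(F γ) ⧸ Submodule.comap (F γ).subtype (Fp γ)) := by
  have hGF : G γ ≤ F γ := by
    rw [hFG γ]; exact le_iSup₂_of_le γ (Set.mem_Ici.2 le_rfl) le_rfl
  obtain ⟨f, hf⟩ : ∃ f : ↥(F γ) →ₗ[R] ↥(G γ), f = (toG G hG γ) ∘ₗ (F γ).subtype := ⟨_, rfl⟩
  have hsurj : Function.Surjective f := by
    intro g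
    refine ⟨⟨g.1, hGF g.2⟩, ?_⟩
    rw [hf]
    exact Subtype.ext (proj_of_mem_same G hG g.2)
  have hker : LinearMap.ker f = Submodule.comap (F γ).subtype (Fp γ) := by
    ext x
    rw [LinearMap.mem_ker, Submodule.mem_comap, Submodule.subtype_apply,
      Fp_eq G F Fp hFG hFp γ, hf]
    constructor
    · intro h0
      have h1 : proj G hG γ (x : M) = 0 := congrArg Subtype.val h0
      refine mem_Ioi_of_proj G hG γ x fun η hη => ?_
      rcases eq_or_lt_of_le hη with h | h
      · rw [h]; exact h1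
      · exact F_le_ker G hG F hFG h x.2
    · intro hx
      exact Subtype.ext (proj_eq_zero_of_mem_Ioi G hG hx)
  have e : (↥(F γ) ⧸ Submodule.comap (F γ).subtype (Fp γ)) ≃ₗ[R] ↥(G γ) :=
    (Submodule.quotEquivOfEq _ _ hker.symm).trans (f.quotKerEquivOfSurjective hsurj)
  haveI : Module.Finite R ↥(G γ) := Module.Finite.of_surjective (toG G hG γ) (by
    intro g; exact ⟨g.1, Subtype.ext (proj_of_mem_same G hG g.2)⟩)
  haveI : Module.Projective R ↥(G γ) :=
    Module.Projective.of_split (G γ).subtype (toG G hG γ) (toG_subtype G hG γ)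
  exact ⟨Module.Finite.equiv e.symm, Module.Projective.of_equiv e.symm⟩

lemma indep_bc (A : Type*) [CommRing A] [Algebra R A] :
    iSupIndep (fun η => (G η).baseChange A) := by
  intro i
  rw [Submodule.disjoint_def]
  intro x hx1 hx2
  have hP1 : ((proj G hG i).baseChange A) x = x := by
    obtain ⟨u, rfl⟩ := LinearMap.mem_range.1 hx1
    rw [← LinearMap.comp_apply, ← LinearMap.baseChange_comp]
    have h0 : proj G hG i ∘ₗ (G i).subtype = (G i).subtype :=
      LinearMap.ext fun g => proj_of_mem_same G hG g.2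
    rw [h0]
  have hP2 : ((proj G hG i).baseChange A) x = 0 := by
    have hle : (⨆ j, ⨆ (_ : j ≠ i), (G j).baseChange A) ≤
        LinearMap.ker ((proj G hG i).baseChange A) := by
      refine iSup₂_le fun j hj y hy => ?_
      rw [LinearMap.mem_ker]
      obtain ⟨u, rfl⟩ := LinearMap.mem_range.1 hy
      rw [← LinearMap.comp_apply, ← LinearMap.baseChange_comp]
      have h0 : proj G hG i ∘ₗ (G j).subtype = 0 :=
        LinearMap.ext fun g => proj_of_mem_ne G hG g.2 hj
      rw [h0, LinearMap.baseChange_zero, LinearMap.zero_apply]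
    exact LinearMap.mem_ker.1 (hle hx2)
  rw [← hP1, hP2]

theorem forward_rank [Module.Finite R M] (F : Γ → Submodule R M)
    (hFG : ∀ γ, F γ = ⨆ η ∈ Set.Ici γ, G η)
    (κ : Type*) [Field κ] [Algebra R κ]
    (Fx : Γ → Submodule κ (κ ⊗[R] M))
    (hFx : ∀ γ, Fx γ = LinearMap.range ((F γ).subtype.baseChange κ)) :
    Module.finrank κ (κ ⊗[R] M) = ∑ᶠ γ, (Module.finrank κ ↥(Fx γ) -
      Module.finrank κ ↥(⨆ η ∈ Set.Ioi γ, Fx η)) := by
  have h1 : ∀ γ, Fx γ = ⨆ η ∈ Set.Ici γ, (G η).baseChange κ := by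
    intro γ
    rw [hFx γ]
    show (F γ).baseChange κ = _
    rw [hFG γ]; simp only [bc_iSup]
  have h2 : ∀ γ, (⨆ η ∈ Set.Ioi γ, Fx η) = ⨆ η ∈ Set.Ioi γ, (G η).baseChange κ := by
    intro γ
    simp only [h1]
    exact biSup_Ioi_Ici (fun η => (G η).baseChange κ) γ
  have h3 : (⨆ i, G i) = ⊤ := hG.submodule_iSup_eq_top
  have htop : ⨆ γ, (G γ).baseChange κ = ⊤ := by
    rw [← bc_iSup, h3, Submodule.baseChange_top]
  have key := rank_formula (fun η => (G η).baseChange κ) (indep_bc G hG κ) htop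
  rw [key]
  refine finsum_congr fun γ => ?_
  rw [h1 γ, h2 γ]

end forward

section backward

lemma lemmaA (F Fp G : Γ → Submodule R M) (hGF : ∀ γ, G γ ≤ F γ)
    (hd : ∀ γ η, γ < η → F η ≤ Fp γ) (hanti : ∀ γ η, γ ≤ η → Fp η ≤ Fp γ)
    (hdisj : ∀ γ, Disjoint (G γ) (Fp γ)) (X : Submodule R M) (g : Γ → M)
    (hg : ∀ γ, g γ ∈ G γ) (s : Finset Γ) :
    ∑ η ∈ s, g η ∈ X → ∀ η ∈ s, X ≤ Fp η → g η = 0 := by
  classical
  induction s using Finset.induction_on_min with
  | empty => intro _ η hη; simp at hη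
  | insert a s ha ih =>
    intro hsum η hη hX
    have has : a ∉ s := fun h => lt_irrefl a (ha a h)
    rw [Finset.sum_insert has] at hsum
    by_cases hXa : X ≤ Fp a
    · have hrest : ∑ x ∈ s, g x ∈ Fp a :=
        Submodule.sum_mem _ fun x hx => hd a x (ha x hx) (hGF x (hg x))
      have hga : g a ∈ Fp a := (Submodule.add_mem_iff_left _ hrest).1 (hXa hsum)
      have hga0 : g a = 0 := Submodule.disjoint_def.1 (hdisj a) (g a) (hg a) hga
      rw [hga0, zero_add] at hsum
      rcases Finset.mem_insert.1 hη with h | h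
      · rw [h]; exact hga0
      · exact ih hsum η h hX
    · rcases Finset.mem_insert.1 hη with h | h
      · rw [h] at hX; exact absurd hX hXa
      · exact absurd (hX.trans (hanti a η (le_of_lt (ha η h)))) hXa

lemma exists_compl (A B : Submodule R M) (hBA : B ≤ A)
    [Module.Projective R (↥A ⧸ Submodule.comap A.subtype B)] :
    ∃ C : Submodule R M, C ≤ A ∧ A = C ⊔ B ∧ Disjoint C B := by
  obtain ⟨s, hs⟩ := Module.projective_lifting_property (Submodule.comap A.subtype B).mkQ
    LinearMap.id (Submodule.mkQ_surjective _)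
  have hs' : ∀ c, (Submodule.comap A.subtype B).mkQ (s c) = c := fun c => by
    have h1 := LinearMap.congr_fun hs c
    rw [LinearMap.comp_apply, LinearMap.id_apply] at h1
    exact h1
  refine ⟨LinearMap.range (A.subtype ∘ₗ s), ?_, ?_, ?_⟩
  · rintro _ ⟨c, rfl⟩; exact (s c).2
  · apply le_antisymm
    · intro x hx
      have hk : (⟨x, hx⟩ : A) - s ((Submodule.comap A.subtype B).mkQ ⟨x, hx⟩) ∈
          Submodule.comap A.subtype B := by
        rw [← Submodule.Quotient.mk_eq_zero, Submodule.Quotient.mk_sub, sub_eq_zero]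
        exact (hs' _).symm
      have hk' : x - (s ((Submodule.comap A.subtype B).mkQ ⟨x, hx⟩) : M) ∈ B := hk
      have hx' : x = (s ((Submodule.comap A.subtype B).mkQ ⟨x, hx⟩) : M) +
          (x - (s ((Submodule.comap A.subtype B).mkQ ⟨x, hx⟩) : M)) := by abel
      rw [hx']
      exact Submodule.add_mem_sup ⟨_, rfl⟩ hk'
    · exact sup_le (by rintro _ ⟨c, rfl⟩; exact (s c).2) hBA
  · rw [Submodule.disjoint_def]
    rintro _ ⟨c, rfl⟩ hmem
    have h1 : s c ∈ Submodule.comap A.subtype B := hmem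
    have h2 : (Submodule.comap A.subtype B).mkQ (s c) = 0 :=
      (Submodule.Quotient.mk_eq_zero _).2 h1
    rw [hs'] at h2
    rw [h2, map_zero]

theorem backward [Module.Finite R M] (F Fp : Γ → Submodule R M) (hF : Antitone F)
    (hFp : ∀ γ, Fp γ = ⨆ η ∈ Set.Ioi γ, F η)
    (hproj : ∀ γ, Module.Projective R (↥(F γ) ⧸ Submodule.comap (F γ).subtype (Fp γ)))
    (hrank : ∀ (p : PrimeSpectrum R),
      Module.finrank p.asIdeal.ResidueField (p.asIdeal.ResidueField ⊗[R] M) =
        ∑ᶠ γ, (Module.finrank p.asIdeal.ResidueField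
            ↥((F γ).baseChange p.asIdeal.ResidueField) -
          Module.finrank p.asIdeal.ResidueField
            ↥(⨆ η ∈ Set.Ioi γ, (F η).baseChange p.asIdeal.ResidueField))) :
    ∃ G : Γ → Submodule R M, DirectSum.IsInternal G ∧ ∀ γ, F γ = ⨆ η ∈ Set.Ici γ, G η := by
  classical
  have hd : ∀ γ η, γ < η → F η ≤ Fp γ := by
    intro γ η h; rw [hFp γ]; exact le_iSup₂_of_le η (Set.mem_Ioi.2 h) le_rfl
  have hFpF : ∀ γ, Fp γ ≤ F γ := by
    intro γ; rw [hFp γ]; exact iSup₂_le fun η hη => hF (le_of_lt (Set.mem_Ioi.1 hη))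
  have hanti : ∀ γ η, γ ≤ η → Fp η ≤ Fp γ := by
    intro γ η h; rw [hFp γ, hFp η]
    exact biSup_mono fun x hx => Set.mem_Ioi.2 (lt_of_le_of_lt h (Set.mem_Ioi.1 hx))
  have hex : ∀ γ, ∃ C : Submodule R M, C ≤ F γ ∧ F γ = C ⊔ Fp γ ∧ Disjoint C (Fp γ) :=
    fun γ => haveI := hproj γ; exists_compl (F γ) (Fp γ) (hFpF γ)
  choose G hGA hGsplit hGdisj using hex
  -- spanning
  have hspan : ⨆ γ, G γ = ⊤ := by
    refine top_of_fibres _ fun p => ?_
    have hU : ∀ γ, (F γ).baseChange p.asIdeal.ResidueField =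
        (G γ).baseChange p.asIdeal.ResidueField ⊔ (Fp γ).baseChange p.asIdeal.ResidueField :=
      fun γ => by
        conv_lhs => rw [hGsplit γ]
        exact bc_sup _ _ _
    have hUp : ∀ γ, (Fp γ).baseChange p.asIdeal.ResidueField =
        ⨆ η ∈ Set.Ioi γ, (F η).baseChange p.asIdeal.ResidueField := fun γ => by
      rw [hFp γ]; simp only [bc_iSup]
    have hmono : ∀ γ η, γ < η → (F η).baseChange p.asIdeal.ResidueField ≤
        (Fp γ).baseChange p.asIdeal.ResidueField :=
      fun γ η h => Submodule.baseChange_mono _ (hd γ η h)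
    obtain ⟨d, hd'⟩ : ∃ d : Γ → ℕ, ∀ γ, d γ =
        Module.finrank p.asIdeal.ResidueField ↥((F γ).baseChange p.asIdeal.ResidueField) -
        Module.finrank p.asIdeal.ResidueField ↥((Fp γ).baseChange p.asIdeal.ResidueField) :=
      ⟨_, fun _ => rfl⟩
    have hrank' : Module.finrank p.asIdeal.ResidueField (p.asIdeal.ResidueField ⊗[R] M) =
        ∑ᶠ γ, d γ := by
      rw [hrank p]
      refine finsum_congr fun γ => ?_
      rw [hd' γ, hUp γ]
    have hle : ∑ᶠ γ, d γ ≤ Module.finrank p.asIdeal.ResidueField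
        ↥((⨆ γ, G γ).baseChange p.asIdeal.ResidueField) := by
      by_cases hfin : (Function.support d).Finite
      · rw [finsum_eq_sum_of_support_subset d (s := hfin.toFinset)
          (Set.Finite.coe_toFinset hfin).symm.subset]
        refine (sum_le_finrank (fun γ => (F γ).baseChange p.asIdeal.ResidueField)
          (fun γ => (Fp γ).baseChange p.asIdeal.ResidueField)
          (fun γ => (G γ).baseChange p.asIdeal.ResidueField) hU hmono d hd'
          hfin.toFinset).trans ?_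
        refine Submodule.finrank_mono ?_
        rw [bc_iSup]
        exact iSup₂_le fun γ _ =>
          le_iSup (fun γ => (G γ).baseChange p.asIdeal.ResidueField) γ
      · rw [finsum_of_infinite_support hfin]; exact Nat.zero_le _
    have hge : Module.finrank p.asIdeal.ResidueField
        ↥((⨆ γ, G γ).baseChange p.asIdeal.ResidueField) ≤
        Module.finrank p.asIdeal.ResidueField (p.asIdeal.ResidueField ⊗[R] M) :=
      Submodule.finrank_le _
    exact Submodule.eq_top_of_finrank_eq (le_antisymm hge (by rw [hrank']; exact hle))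
  -- internal
  have hinj : Function.Injective (DirectSum.coeLinearMap G) := by
    rw [← LinearMap.ker_eq_bot, LinearMap.ker_eq_bot']
    intro v hv
    have hsum : ∑ η ∈ v.support, ((v η : ↥(G η)) : M) = DirectSum.coeLinearMap G v := by
      conv_rhs => rw [← DirectSum.sum_support_of v, map_sum]
      refine Finset.sum_congr rfl fun η _ => ?_
      rw [DirectSum.coeLinearMap_of]
    have hzero := lemmaA F Fp G hGA hd hanti hGdisj ⊥ (fun η => ((v η : ↥(G η)) : M))
      (fun η => (v η).2) v.support (by rw [hsum, hv]; exact Submodule.zero_mem _)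
    refine DFinsupp.ext fun η => ?_
    by_cases hη : η ∈ v.support
    · exact Subtype.ext (hzero η hη bot_le)
    · rw [DFinsupp.notMem_support_iff] at hη
      rw [hη]; rfl
  have hsurj : Function.Surjective (DirectSum.coeLinearMap G) := by
    rw [← LinearMap.range_eq_top, eq_top_iff, ← hspan]
    refine iSup_le fun γ g hg =>
      ⟨DirectSum.of (fun i => ↥(G i)) γ ⟨g, hg⟩, DirectSum.coeLinearMap_of G γ ⟨g, hg⟩⟩
  have hG : DirectSum.IsInternal G := by
    show Function.Bijective (DirectSum.coeAddMonoidHom G)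
    exact ⟨hinj, hsurj⟩
  refine ⟨G, hG, fun γ => ?_⟩
  apply le_antisymm
  · intro x hx
    obtain ⟨S, hS⟩ := sum_proj G hG x
    have hz := lemmaA F Fp G hGA hd hanti hGdisj (F γ) (fun η => proj G hG η x)
      (fun η => proj_mem G hG η x) S (by rw [hS]; exact hx)
    rw [← hS]
    refine Submodule.sum_mem _ fun η hη => ?_
    by_cases hlt : η < γ
    · have h0 : proj G hG η x = 0 := hz η hη (hd η γ hlt)
      rw [h0]; exact Submodule.zero_mem _
    · exact Submodule.mem_iSup_of_mem η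
        (Submodule.mem_iSup_of_mem (Set.mem_Ici.2 (not_lt.1 hlt)) (proj_mem G hG η x))
  · exact iSup₂_le fun η hη => (hGA η).trans (hF (Set.mem_Ici.1 hη))

end backward

theorem main [Module.Finite R M] [Module.Projective R M]
    (F : Γ → Submodule R M) (hF : Antitone F)
    (Fp : Γ → Submodule R M) (hFp : ∀ γ, Fp γ = ⨆ η ∈ Set.Ioi γ, F η) :
    (∃ G : Γ → Submodule R M, DirectSum.IsInternal G ∧ ∀ γ, F γ = ⨆ η ∈ Set.Ici γ, G η) ↔
    ((∀ γ, Module.Finite R (↥(F γ) ⧸ Submodule.comap (F γ).subtype (Fp γ)) ∧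
        Module.Projective R (↥(F γ) ⧸ Submodule.comap (F γ).subtype (Fp γ))) ∧
      ∀ (p : PrimeSpectrum R)
        (Fx : Γ → Submodule p.asIdeal.ResidueField (p.asIdeal.ResidueField ⊗[R] M)),
        (∀ γ, Fx γ = LinearMap.range ((F γ).subtype.baseChange p.asIdeal.ResidueField)) →
        Module.finrank p.asIdeal.ResidueField (p.asIdeal.ResidueField ⊗[R] M) =
          ∑ᶠ γ, (Module.finrank p.asIdeal.ResidueField ↥(Fx γ) -
            Module.finrank p.asIdeal.ResidueField ↥(⨆ η ∈ Set.Ioi γ, Fx η))) := by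
  constructor
  · rintro ⟨G, hG, hFG⟩
    refine ⟨fun γ => gr_finite_projective G hG F Fp hFG hFp γ, fun p Fx hFx => ?_⟩
    exact forward_rank G hG F hFG p.asIdeal.ResidueField Fx hFx
  · rintro ⟨h1, h2⟩
    refine backward F Fp hF hFp (fun γ => (h1 γ).2) fun p => ?_
    exact h2 p (fun γ => (F γ).baseChange p.asIdeal.ResidueField) (fun γ => rfl)

end Groth.Agent.Lib.FiltSplitH4
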