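import Mathlib

namespace Groth.Agent.Lib.FiltSplit

universe u v w

section PiLemmas

variable {R : Type u} [CommRing R] {A : Type v} [Fintype A] {M : A → Type v}
  [∀ a, AddCommGroup (M a)] [∀ a, Module R (M a)]

theorem single_mem_pi [DecidableEq A] (S : ∀ a, Submodule R (M a)) (a : A) (y : M a)
    (hy : y ∈ S a) : (Pi.single a y : ∀ a, M a) ∈ Submodule.pi Set.univ S := by
  rw [Submodule.mem_pi]
  intro b _
  by_cases h : b = a
  · subst h
    rw [Pi.single_eq_same]
    exact hy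
  · rw [Pi.single_eq_of_ne h]
    exact (S b).zero_mem

theorem pi_iSup_eq {ι : Sort*} (S : ι → ∀ a, Submodule R (M a)) :
    Submodule.pi Set.univ (fun a => ⨆ i, S i a) = ⨆ i, Submodule.pi Set.univ (S i) := by
  classical
  apply le_antisymm
  · intro x hx
    rw [Submodule.mem_pi] at hx
    have hsum : x = ∑ a, (Pi.single a (x a) : ∀ a, M a) := (Finset.univ_sum_single x).symm
    rw [hsum]
    refine Submodule.sum_mem _ fun a _ => ?_
    have h1 : (⨆ i, S i a).map (LinearMap.single R M a) ≤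
        ⨆ i, Submodule.pi Set.univ (S i) := by
      rw [Submodule.map_iSup]
      refine iSup_le fun i => ?_
      refine le_trans ?_ (le_iSup (fun i => Submodule.pi Set.univ (S i)) i)
      rintro _ ⟨y, hy, rfl⟩
      exact single_mem_pi (S i) a y hy
    exact h1 (Submodule.mem_map_of_mem (hx a (Set.mem_univ a)))
  · refine iSup_le fun i => ?_
    intro x hx
    rw [Submodule.mem_pi] at hx ⊢
    intro a ha
    exact (le_iSup (fun i => S i a) i) (hx a ha)

theorem pi_biSup_eq {ι : Type*} (p : ι → Prop) (S : ι → ∀ a, Submodule R (M a)) :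
    Submodule.pi Set.univ (fun a => ⨆ i, ⨆ (_ : p i), S i a) =
      ⨆ i, ⨆ (_ : p i), Submodule.pi Set.univ (S i) :=
  calc Submodule.pi Set.univ (fun a => ⨆ i, ⨆ (_ : p i), S i a)
      = ⨆ i, Submodule.pi Set.univ (fun a => ⨆ (_ : p i), S i a) :=
        pi_iSup_eq (fun i a => ⨆ (_ : p i), S i a)
    _ = ⨆ i, ⨆ (_ : p i), Submodule.pi Set.univ (S i) :=
        iSup_congr fun i => pi_iSup_eq (fun (_ : p i) => S i)

theorem le_of_pi_le (S S' : ∀ a, Submodule R (M a))
    (h : Submodule.pi Set.univ S ≤ Submodule.pi Set.univ S') (a : A) : S a ≤ S' a := by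
  classical
  intro y hy
  have h1 := h (single_mem_pi S a y hy)
  rw [Submodule.mem_pi] at h1
  have h2 := h1 a (Set.mem_univ a)
  rwa [Pi.single_eq_same] at h2

end PiLemmas

section Chain

variable {R : Type u} [CommRing R] {M : Type v} [AddCommGroup M] [Module R M]
  {Γ : Type w} [LinearOrder Γ]

theorem chain_indep (N G : Γ → Submodule R M)
    (hG1 : ∀ η, G η ≤ N η)
    (hG2 : ∀ η, G η ⊓ (⨆ ζ ∈ Set.Ioi η, N ζ) = ⊥) : iSupIndep G := by
  classical
  rw [iSupIndep_iff_finsetSum_eq_zero_imp_eq_zero]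
  intro s v hv hsum
  by_contra hne
  push_neg at hne
  let t := s.filter (fun i => v i ≠ 0)
  have ht : t.Nonempty := by
    obtain ⟨i, hi, hvi⟩ := hne
    exact ⟨i, Finset.mem_filter.mpr ⟨hi, hvi⟩⟩
  have hi0 : t.min' ht ∈ t := Finset.min'_mem t ht
  have hi0s : t.min' ht ∈ s := (Finset.mem_filter.mp hi0).1
  have hvi0 : v (t.min' ht) ≠ 0 := (Finset.mem_filter.mp hi0).2
  apply hvi0
  have hmem : v (t.min' ht) ∈ ⨆ ζ ∈ Set.Ioi (t.min' ht), N ζ := by
    have h1 : v (t.min' ht) = - ∑ i ∈ s.erase (t.min' ht), v i := by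
      rw [← Finset.add_sum_erase s v hi0s] at hsum
      exact eq_neg_of_add_eq_zero_left hsum
    rw [h1]
    refine Submodule.neg_mem _ (Submodule.sum_mem _ fun i hi => ?_)
    have his : i ∈ s := Finset.mem_of_mem_erase hi
    have hne' : i ≠ t.min' ht := Finset.ne_of_mem_erase hi
    by_cases hz : v i = 0
    · rw [hz]
      exact Submodule.zero_mem _
    · have hit : i ∈ t := Finset.mem_filter.mpr ⟨his, hz⟩
      have hle : t.min' ht ≤ i := Finset.min'_le t i hit
      have hlt : t.min' ht < i := lt_of_le_of_ne hle (Ne.symm hne')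
      exact Submodule.mem_iSup_of_mem i (Submodule.mem_iSup_of_mem hlt (hG1 i (hv i his)))
  have hboth : v (t.min' ht) ∈ G (t.min' ht) ⊓ ⨆ ζ ∈ Set.Ioi (t.min' ht), N ζ :=
    Submodule.mem_inf.mpr ⟨hv _ hi0s, hmem⟩
  rw [hG2 (t.min' ht)] at hboth
  exact (Submodule.mem_bot R).mp hboth

theorem chain_sup (N G : Γ → Submodule R M) (J : Finset Γ) (hN : Antitone N)
    (h1 : ∀ γ, N γ ≤ ⨆ η ∈ J.filter (fun η => γ ≤ η), N η)
    (hG1 : ∀ η, G η ≤ N η)
    (hG3 : ∀ η, N η ≤ G η ⊔ ⨆ ζ ∈ Set.Ioi η, N ζ) :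
    ∀ γ, N γ = ⨆ η ∈ Set.Ici γ, G η := by
  classical
  have key : ∀ n : ℕ, ∀ γ, (J.filter (fun η => γ ≤ η)).card ≤ n →
      N γ ≤ ⨆ η ∈ Set.Ici γ, G η := by
    intro n
    induction n with
    | zero =>
      intro γ hcard
      have hempty : J.filter (fun η => γ ≤ η) = ∅ :=
        Finset.card_eq_zero.mp (Nat.le_zero.mp hcard)
      refine (h1 γ).trans ?_
      rw [hempty]
      simp
    | succ n ih =>
      intro γ hcard
      refine (h1 γ).trans ?_
      refine iSup₂_le fun η hη => ?_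
      have hγη : γ ≤ η := (Finset.mem_filter.mp hη).2
      refine (hG3 η).trans (sup_le ?_ ?_)
      · exact le_iSup₂_of_le η hγη le_rfl
      · refine iSup₂_le fun ζ hζ => ?_
        have hηζ : η < ζ := hζ
        have hcardζ : (J.filter (fun θ => ζ ≤ θ)).card ≤ n := by
          have hsub : J.filter (fun θ => ζ ≤ θ) ⊆ (J.filter (fun θ => γ ≤ θ)).erase η := by
            intro θ hθ
            have hθJ := (Finset.mem_filter.mp hθ).1
            have hζθ : ζ ≤ θ := (Finset.mem_filter.mp hθ).2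
            refine Finset.mem_erase.mpr ⟨(lt_of_lt_of_le hηζ hζθ).ne',
              Finset.mem_filter.mpr ⟨hθJ, ?_⟩⟩
            exact le_trans hγη (le_trans hηζ.le hζθ)
          have hc := Finset.card_le_card hsub
          rw [Finset.card_erase_of_mem hη] at hc
          omega
        refine (ih ζ hcardζ).trans ?_
        refine iSup₂_le fun θ hθ => ?_
        have hζθ : ζ ≤ θ := hθ
        exact le_iSup₂_of_le θ (le_trans hγη (le_trans hηζ.le hζθ)) le_rfl
  intro γ
  apply le_antisymm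
  · exact key _ γ le_rfl
  · refine iSup₂_le fun η hη => ?_
    exact (hG1 η).trans (hN hη)

end Chain

section Main

variable {Γ : Type w} [LinearOrder Γ]
  {R : Type u} [CommRing R] {A : Type v} [Fintype A] (M : A → Type v)
  [∀ a, AddCommGroup (M a)] [∀ a, Module R (M a)]

theorem backward (F : ∀ a, Γ → Submodule R (M a))
    (Gs : ∀ a, Γ → Submodule R (M a)) (hGs : ∀ a, DirectSum.IsInternal (Gs a))
    (hFGs : ∀ a γ, F a γ = ⨆ η ∈ Set.Ici γ, Gs a η) :
    ∃ G : Γ → Submodule R (∀ a, M a), DirectSum.IsInternal G ∧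
      ∀ γ, Submodule.pi Set.univ (fun a => F a γ) = ⨆ η ∈ Set.Ici γ, G η := by
  classical
  refine ⟨fun η => Submodule.pi Set.univ (fun a => Gs a η), ?_, ?_⟩
  · rw [DirectSum.isInternal_submodule_iff_iSupIndep_and_iSup_eq_top]
    constructor
    · refine iSupIndep_def.mpr fun η => ?_
      rw [Submodule.disjoint_def]
      intro x hx1 hx2
      funext a
      have ha := ((DirectSum.isInternal_submodule_iff_iSupIndep_and_iSup_eq_top (Gs a)).mp
        (hGs a)).1
      have ha' := iSupIndep_def.mp ha η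
      rw [Submodule.disjoint_def] at ha'
      apply ha' (x a)
      · exact (Submodule.mem_pi.mp hx1) a (Set.mem_univ a)
      · have hmap : (⨆ j, ⨆ (_ : j ≠ η), Submodule.pi Set.univ (fun a => Gs a j)).map
            (LinearMap.proj a) ≤ ⨆ j, ⨆ (_ : j ≠ η), Gs a j := by
          rw [Submodule.map_iSup]
          refine iSup_le fun j => ?_
          rw [Submodule.map_iSup]
          refine iSup_le fun hj => ?_
          refine le_iSup₂_of_le j hj ?_
          rintro _ ⟨y, hy, rfl⟩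
          exact (Submodule.mem_pi.mp hy) a (Set.mem_univ a)
        exact hmap (Submodule.mem_map_of_mem hx2)
    · rw [eq_top_iff]
      have e : Submodule.pi Set.univ (fun a => ⨆ η, Gs a η) =
          ⨆ η, Submodule.pi Set.univ (fun a => Gs a η) := pi_iSup_eq (fun η a => Gs a η)
      refine le_trans ?_ e.le
      intro x _
      rw [Submodule.mem_pi]
      intro a _
      have htop := ((DirectSum.isInternal_submodule_iff_iSupIndep_and_iSup_eq_top (Gs a)).mp
        (hGs a)).2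
      have htop' : (⨆ η, Gs a η) = ⊤ := htop
      rw [htop']
      exact Submodule.mem_top
  · intro γ
    have e : Submodule.pi Set.univ (fun a => ⨆ η ∈ Set.Ici γ, Gs a η) =
        ⨆ η ∈ Set.Ici γ, Submodule.pi Set.univ (fun a => Gs a η) :=
      pi_biSup_eq (fun η => η ∈ Set.Ici γ) (fun η a => Gs a η)
    exact (congrArg (Submodule.pi Set.univ) (funext fun a => hFGs a γ)).trans e

variable [∀ a, Module.Finite R (M a)]

theorem forward (F : ∀ a, Γ → Submodule R (M a)) (hF : ∀ a, Antitone (F a))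
    (G : Γ → Submodule R (∀ a, M a)) (hG : DirectSum.IsInternal G)
    (hFG : ∀ γ, Submodule.pi Set.univ (fun a => F a γ) = ⨆ η ∈ Set.Ici γ, G η) (a : A) :
    ∃ Ga : Γ → Submodule R (M a), DirectSum.IsInternal Ga ∧
      ∀ γ, F a γ = ⨆ η ∈ Set.Ici γ, Ga η := by
  classical
  obtain ⟨hind, htop⟩ :=
    (DirectSum.isInternal_submodule_iff_iSupIndep_and_iSup_eq_top G).mp hG
  have htop' : (⨆ η, G η) = ⊤ := htop
  -- finitely many nonzero pieces
  have hfin : ∃ J : Finset Γ, ∀ η, η ∉ J → G η = ⊥ := by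
    have hfg : (⊤ : Submodule R (∀ a, M a)).FG := Module.Finite.fg_top
    have hcompact : IsCompactElement (⊤ : Submodule R (∀ a, M a)) :=
      (Submodule.fg_iff_compact _).mp hfg
    obtain ⟨s, hs⟩ := CompleteLattice.IsCompactElement.exists_finset_of_le_iSup _ hcompact G
      (le_of_eq htop'.symm)
    refine ⟨s, fun η hη => ?_⟩
    have h2 : (⊤ : Submodule R (∀ a, M a)) ≤ ⨆ j, ⨆ (_ : j ≠ η), G j := by
      refine hs.trans (iSup₂_le fun i hi => ?_)
      exact le_iSup₂_of_le i (fun h => hη (h ▸ hi)) le_rfl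
    have h3 := iSupIndep_def.mp hind η
    rw [top_le_iff.mp h2] at h3
    exact disjoint_top.mp h3
  obtain ⟨J, hJ⟩ := hfin
  have hcompl : ∀ η, IsCompl (⨆ ζ ∈ Set.Ioi η, G ζ) (⨆ ζ ∈ Set.Iic η, G ζ) := by
    intro η
    constructor
    · exact hind.disjoint_biSup_biSup
        (Set.disjoint_left.mpr fun ζ h1 h2 => not_lt_of_ge h2 h1)
    · rw [codisjoint_iff, eq_top_iff, ← htop']
      refine iSup_le fun ζ => ?_
      rcases lt_or_ge η ζ with h | h
      · exact le_sup_of_le_left (le_iSup₂_of_le ζ h le_rfl)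
      · exact le_sup_of_le_right (le_iSup₂_of_le ζ h le_rfl)
  have hPeq : ∀ η, Submodule.pi Set.univ (fun b => ⨆ ζ ∈ Set.Ioi η, F b ζ) =
      ⨆ ζ ∈ Set.Ioi η, G ζ := by
    intro η
    have e : Submodule.pi Set.univ (fun b => ⨆ ζ ∈ Set.Ioi η, F b ζ) =
        ⨆ ζ ∈ Set.Ioi η, Submodule.pi Set.univ (fun b => F b ζ) :=
      pi_biSup_eq (fun ζ => ζ ∈ Set.Ioi η) (fun ζ b => F b ζ)
    rw [e]
    apply le_antisymm
    · refine iSup₂_le fun ζ hζ => ?_
      refine (hFG ζ).le.trans ?_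
      refine iSup₂_le fun θ hθ => ?_
      have hζ' : η < ζ := hζ
      have hθ' : ζ ≤ θ := hθ
      exact le_iSup₂_of_le θ (lt_of_lt_of_le hζ' hθ') le_rfl
    · refine iSup₂_le fun ζ hζ => ?_
      refine le_iSup₂_of_le ζ hζ ?_
      refine le_trans ?_ (hFG ζ).ge
      exact le_iSup₂_of_le ζ (Set.mem_Ici.mpr le_rfl) le_rfl
  have hr : ∀ η, ∃ r : (∀ a, M a) →ₗ[R] (∀ a, M a),
      (∀ x, r x ∈ ⨆ ζ ∈ Set.Ioi η, G ζ) ∧ ∀ x ∈ ⨆ ζ ∈ Set.Ioi η, G ζ, r x = x := by
    intro η
    exact ⟨Submodule.projection _ _ (hcompl η),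
      fun x => Submodule.projection_apply_mem (hcompl η) x,
      fun x hx => Submodule.projection_apply_of_mem_left (hcompl η) hx⟩
  choose r hr1 hr2 using hr
  let q : Γ → (M a →ₗ[R] M a) := fun η =>
    (LinearMap.proj a).comp ((r η).comp (LinearMap.single R M a))
  have hqdef : ∀ η y, q η y = (r η (Pi.single a y)) a := fun η y => rfl
  have hq1 : ∀ η y, q η y ∈ ⨆ ζ ∈ Set.Ioi η, F a ζ := by
    intro η y
    have h1 := hr1 η (Pi.single a y)
    rw [← hPeq η, Submodule.mem_pi] at h1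
    rw [hqdef]
    exact h1 a (Set.mem_univ a)
  have hq2 : ∀ η y, y ∈ ⨆ ζ ∈ Set.Ioi η, F a ζ → q η y = y := by
    intro η y hy
    have h1 : (Pi.single a y : ∀ a, M a) ∈ ⨆ ζ ∈ Set.Ioi η, G ζ := by
      rw [← hPeq η]
      exact single_mem_pi _ a y hy
    have h2 := hr2 η _ h1
    rw [hqdef, h2, Pi.single_eq_same]
  let Ga : Γ → Submodule R (M a) := fun η => F a η ⊓ LinearMap.ker (q η)
  have hGadef : ∀ η, Ga η = F a η ⊓ LinearMap.ker (q η) := fun η => rfl
  have hsupF : ∀ η, (⨆ ζ ∈ Set.Ioi η, F a ζ) ≤ F a η := fun η =>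
    iSup₂_le fun ζ hζ => hF a (le_of_lt hζ)
  have hGa1 : ∀ η, Ga η ≤ F a η := fun η => inf_le_left
  have hGa2 : ∀ η, Ga η ⊓ (⨆ ζ ∈ Set.Ioi η, F a ζ) = ⊥ := by
    intro η
    rw [eq_bot_iff]
    intro y hy
    obtain ⟨hy1, hy2⟩ := Submodule.mem_inf.mp hy
    rw [hGadef] at hy1
    have hyk : q η y = 0 := LinearMap.mem_ker.mp (Submodule.mem_inf.mp hy1).2
    have h1 := hq2 η y hy2
    rw [hyk] at h1
    exact (Submodule.mem_bot R).mpr h1.symm
  have hGa3 : ∀ η, F a η ≤ Ga η ⊔ ⨆ ζ ∈ Set.Ioi η, F a ζ := by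
    intro η y hy
    have hqy := hq1 η y
    have hqq : q η (q η y) = q η y := hq2 η _ hqy
    rw [Submodule.mem_sup]
    refine ⟨y - q η y, ?_, q η y, hqy, by abel⟩
    rw [hGadef]
    refine Submodule.mem_inf.mpr ⟨Submodule.sub_mem _ hy (hsupF η hqy), ?_⟩
    rw [LinearMap.mem_ker, map_sub, hqq, sub_self]
  have h1 : ∀ γ, F a γ ≤ ⨆ η ∈ J.filter (fun η => γ ≤ η), F a η := by
    intro γ
    refine le_of_pi_le (fun b => F b γ)
      (fun b => ⨆ η ∈ J.filter (fun η => γ ≤ η), F b η) ?_ a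
    have e1 : Submodule.pi Set.univ (fun b => ⨆ η ∈ J.filter (fun η => γ ≤ η), F b η) =
        ⨆ η ∈ J.filter (fun η => γ ≤ η), Submodule.pi Set.univ (fun b => F b η) :=
      pi_biSup_eq (fun η => η ∈ J.filter (fun η => γ ≤ η)) (fun η b => F b η)
    rw [e1]
    refine (hFG γ).le.trans ?_
    refine iSup₂_le fun η hη => ?_
    by_cases hηJ : η ∈ J
    · refine le_iSup₂_of_le η (Finset.mem_filter.mpr ⟨hηJ, hη⟩) ?_
      refine le_trans ?_ (hFG η).ge
      exact le_iSup₂_of_le η (Set.mem_Ici.mpr le_rfl) le_rfl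
    · rw [hJ η hηJ]
      exact bot_le
  have hind_a : iSupIndep Ga := chain_indep (F a) Ga hGa1 hGa2
  have hsup_a := chain_sup (F a) Ga J (hF a) h1 hGa1 hGa3
  refine ⟨Ga, ?_, hsup_a⟩
  rw [DirectSum.isInternal_submodule_iff_iSupIndep_and_iSup_eq_top]
  refine ⟨hind_a, ?_⟩
  show (⨆ η, Ga η) = ⊤
  rw [eq_top_iff]
  have htopF : (⊤ : Submodule R (M a)) ≤ ⨆ γ, F a γ := by
    refine le_of_pi_le (fun _ => ⊤) (fun b => ⨆ γ, F b γ) ?_ a
    have e2 : Submodule.pi Set.univ (fun b => ⨆ γ, F b γ) =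
        ⨆ γ, Submodule.pi Set.univ (fun b => F b γ) := pi_iSup_eq (fun γ b => F b γ)
    rw [e2]
    have h3 : (⊤ : Submodule R (∀ a, M a)) ≤ ⨆ γ, Submodule.pi Set.univ (fun b => F b γ) := by
      rw [← htop']
      refine iSup_le fun η => ?_
      refine le_trans ?_ (le_iSup (fun γ => Submodule.pi Set.univ (fun b => F b γ)) η)
      refine le_trans ?_ (hFG η).ge
      exact le_iSup₂_of_le η (Set.mem_Ici.mpr le_rfl) le_rfl
    exact le_trans le_top h3
  refine htopF.trans (iSup_le fun γ => ?_)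
  rw [hsup_a γ]
  exact iSup₂_le fun η _ => le_iSup Ga η

end Main

theorem main {Γ : Type w} [AddCommGroup Γ] [LinearOrder Γ] [IsOrderedAddMonoid Γ] [Nontrivial Γ]
    {R : Type u} [CommRing R] {A : Type v} [Fintype A] (M : A → Type v)
    [∀ a, AddCommGroup (M a)] [∀ a, Module R (M a)]
    [∀ a, Module.Finite R (M a)] [∀ a, Module.Projective R (M a)]
    (F : ∀ a, Γ → Submodule R (M a)) (hF : ∀ a, Antitone (F a)) :
    (∃ G : Γ → Submodule R (∀ a, M a), DirectSum.IsInternal G ∧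
        ∀ γ, Submodule.pi Set.univ (fun a => F a γ) = ⨆ η ∈ Set.Ici γ, G η) ↔
    ∀ a, ∃ G : Γ → Submodule R (M a), DirectSum.IsInternal G ∧
      ∀ γ, F a γ = ⨆ η ∈ Set.Ici γ, G η := by
  constructor
  · rintro ⟨G, hG, hFG⟩ a
    exact forward M F hF G hG hFG a
  · intro h
    choose Gs hGs hFGs using h
    exact backward M F Gs hGs hFGs

end Groth.Agent.Lib.FiltSplit
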