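import Mathlib

/-!
# Avoiding the kernels of a basis of functionals by a rational point (helper2)
-/

namespace FinAvoidH2
open scoped TensorProduct
open Matrix

variable {k K : Type*} [Field k] [Field K] [Algebra k K]

theorem det_updateRow_sum_smul {ι κ : Type*} [Fintype ι] [DecidableEq ι]
    (M : Matrix ι ι K) (i : ι) (L : Finset κ) (c : κ → K) (r : κ → ι → K) :
    (M.updateRow i (∑ l ∈ L, c l • r l)).det = ∑ l ∈ L, c l * (M.updateRow i (r l)).det := by
  classical
  induction L using Finset.induction_on with
  | empty =>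
    simp only [Finset.sum_empty]
    exact Matrix.det_eq_zero_of_row_eq_zero i (fun j => by simp)
  | insert a s ha ih =>
    rw [Finset.sum_insert ha, Finset.sum_insert ha, Matrix.det_updateRow_add,
      Matrix.det_updateRow_smul, ih]

/-- exchange step -/
theorem exchange {ι : Type*} [Fintype ι] [DecidableEq ι] (A : Matrix ι ι K) (hA : A.det ≠ 0) :
    ∀ S : Finset ι, ∃ M : Matrix ι ι K, M.det ≠ 0 ∧
      (∀ i ∈ S, ∃ l : K →ₗ[k] k, ∀ j, M i j = algebraMap k K (l (A i j))) ∧
      (∀ i ∉ S, M i = A i) := by
  intro S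
  classical
  induction S using Finset.induction_on with
  | empty => exact ⟨A, hA, by simp, fun i _ => rfl⟩
  | insert i S hi ih =>
    obtain ⟨M, hM, h1, h2⟩ := ih
    let b := Module.Basis.ofVectorSpace k K
    let L : Finset _ := Finset.univ.biUnion fun j => (b.repr (A i j)).support
    have hrow : M i = ∑ l ∈ L, b l • (fun j => algebraMap k K (b.repr (A i j) l)) := by
      rw [h2 i hi]
      ext j
      rw [Finset.sum_apply]
      simp only [Pi.smul_apply, smul_eq_mul]
      have := b.linearCombination_repr (A i j)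
      conv_lhs => rw [← this]
      rw [Finsupp.linearCombination_apply, Finsupp.sum]
      rw [Finset.sum_subset (s₂ := L)]
      · apply Finset.sum_congr rfl
        intro l _
        rw [Algebra.smul_def, mul_comm]
      · intro l hl
        exact Finset.mem_biUnion.mpr ⟨j, Finset.mem_univ _, hl⟩
      · intro l _ hl
        rw [Finsupp.notMem_support_iff.mp hl, zero_smul]
    have hdet : M.det = ∑ l ∈ L, b l *
        (M.updateRow i (fun j => algebraMap k K (b.repr (A i j) l))).det := by
      conv_lhs => rw [← Matrix.updateRow_eq_self M i, hrow]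
      exact det_updateRow_sum_smul M i L _ _
    have : ∃ l ∈ L, (M.updateRow i (fun j => algebraMap k K (b.repr (A i j) l))).det ≠ 0 := by
      by_contra hcon
      push Not at hcon
      apply hM
      rw [hdet]
      apply Finset.sum_eq_zero
      intro l hl
      rw [hcon l hl, mul_zero]
    obtain ⟨l, _, hl⟩ := this
    refine ⟨M.updateRow i (fun j => algebraMap k K (b.repr (A i j) l)), hl, ?_, ?_⟩
    · intro i' hi'
      rcases Finset.mem_insert.mp hi' with rfl | hi'
      · refine ⟨b.coord l, fun j => ?_⟩
        rw [Matrix.updateRow_self]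
        rfl
      · have hne : i' ≠ i := fun h => hi (h ▸ hi')
        obtain ⟨l', hl'⟩ := h1 i' hi'
        refine ⟨l', fun j => ?_⟩
        rw [Matrix.updateRow_ne hne]
        exact hl' j
    · intro i' hi'
      have hne : i' ≠ i := fun h => hi' (h ▸ Finset.mem_insert_self _ _)
      have hnS : i' ∉ S := fun h => hi' (Finset.mem_insert_of_mem h)
      ext j
      rw [Matrix.updateRow_ne hne]
      exact congrFun (h2 i' hnS) j

theorem main {V : Type*} [AddCommGroup V] [Module k V] [Module.Finite k V] {ι : Type*}
    [Fintype ι]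
    (θ : Module.Basis ι K (Module.Dual K (K ⊗[k] V))) :
    ∃ x : V, ∀ i : ι, θ i ((1 : K) ⊗ₜ[k] x) ≠ 0 := by
  classical
  have hcard : Module.finrank k V = Fintype.card ι := by
    have h1 := Module.finrank_eq_card_basis θ
    rw [Subspace.dual_finrank_eq, Module.finrank_baseChange] at h1
    exact h1
  let e : Module.Basis ι k V :=
    (Module.finBasis k V).reindex (Fintype.equivOfCardEq (by simp [hcard]))
  let B : Module.Basis ι K (K ⊗[k] V) := Algebra.TensorProduct.basis K e
  let A : Matrix ι ι K := fun i j => θ i (B j)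
  have hA : A.det ≠ 0 := by
    have : A = (B.dualBasis.toMatrix θ)ᵀ := by
      ext i j
      simp [A, Module.Basis.toMatrix_apply, Module.Basis.dualBasis_repr]
    rw [this, Matrix.det_transpose]
    exact (B.dualBasis.isUnit_det θ).ne_zero
  obtain ⟨M, hM, h1, -⟩ := exchange (k := k) A hA Finset.univ
  choose l hl using fun i => h1 i (Finset.mem_univ i)
  let M₀ : Matrix ι ι k := fun i j => l i (A i j)
  have hMM : M = M₀.map (algebraMap k K) := by
    ext i j
    exact hl i j
  have hM₀ : M₀.det ≠ 0 := by
    intro h0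
    apply hM
    rw [hMM, ← RingHom.mapMatrix_apply, ← RingHom.map_det, h0, map_zero]
  have hu : IsUnit M₀.det := isUnit_iff_ne_zero.mpr hM₀
  let c : ι → k := M₀⁻¹ *ᵥ (fun _ => 1)
  have hc : M₀ *ᵥ c = fun _ => 1 := by
    simp only [c, Matrix.mulVec_mulVec, Matrix.mul_nonsing_inv _ hu, Matrix.one_mulVec]
  refine ⟨∑ j, c j • e j, fun i h0 => ?_⟩
  have h2 : θ i ((1 : K) ⊗ₜ[k] (∑ j, c j • e j)) = ∑ j, algebraMap k K (c j) * A i j := by
    rw [TensorProduct.tmul_sum, map_sum]
    apply Finset.sum_congr rfl
    intro j _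
    rw [TensorProduct.tmul_smul, ← algebraMap_smul K (c j), map_smul, smul_eq_mul]
    simp [A, B, Algebra.TensorProduct.basis_apply]
  have h3 : l i (θ i ((1 : K) ⊗ₜ[k] (∑ j, c j • e j))) = 1 := by
    rw [h2, map_sum]
    have : ∀ j, l i (algebraMap k K (c j) * A i j) = M₀ i j * c j := by
      intro j
      rw [← Algebra.smul_def, map_smul, smul_eq_mul, mul_comm]
    simp_rw [this]
    exact congrFun hc i
  rw [h0, map_zero] at h3
  exact zero_ne_one h3

end FinAvoidH2
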