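import Groth.Agent.Lib.TorsorSeq_lead
import Groth.Statements.S18317
import Groth.Statements.S18319

/-! # Torsors under finite connected group schemes over a field (lead) -/

set_option backward.isDefEq.respectTransparency false
set_option backward.isDefEq.respectTransparency.types false
set_option linter.unusedSimpArgs false
set_option linter.unusedVariables false
set_option linter.unusedSectionVars false
set_option linter.style.longLine false
set_option maxHeartbeats 800000

universe u

open CategoryTheory CategoryTheory.Limits MonoidalCategory CartesianMonoidalCategory MonObj GrpObj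
  AlgebraicGeometry Opposite

namespace Groth.Agent.Lib.FinConnTors

open Groth.Agent.Lib.TorsorSeq

variable {K : Type u} [Field K]

theorem exists_affineOpen (X : Scheme.{u}) (x : X) : ∃ W : X.Opens, IsAffineOpen W ∧ x ∈ W := by
  obtain ⟨W, hW, hw, -⟩ := TopologicalSpace.Opens.isBasis_iff_nbhd.mp X.isBasis_affineOpens
    (TopologicalSpace.Opens.mem_top x)
  exact ⟨W, hW, hw⟩

theorem subsingleton_left (G : Over (Spec (CommRingCat.of K))) [IsFinite G.hom]
    [ConnectedSpace G.left] : Subsingleton G.left := by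
  have h := G.hom.isDiscrete_preimage_singleton (IsLocalRing.closedPoint K)
  have hu : (G.hom ⁻¹' {IsLocalRing.closedPoint K} : Set G.left) = Set.univ := by
    ext x
    simp only [Set.mem_preimage, Set.mem_singleton_iff, Set.mem_univ, iff_true]
    exact Subsingleton.elim _ _
  rw [hu, isDiscrete_univ_iff] at h
  haveI := h
  exact subsingleton_of_preconnected_totallyDisconnected

theorem eq_one_of_isReduced (G : Over (Spec (CommRingCat.of K))) [GrpObj G] [IsFinite G.hom]
    [ConnectedSpace G.left] (T : Over (Spec (CommRingCat.of K))) [IsReduced T.left]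
    (cc : T ⟶ G) : cc = 1 := by
  haveI := subsingleton_left G
  haveI : Surjective η[G].left :=
    ⟨fun x => ⟨IsLocalRing.closedPoint K, Subsingleton.elim _ _⟩⟩
  haveI : IsIso (pullback.fst cc.left η[G].left) := isIso_of_isClosedImmersion_of_surjective _
  have hc : pullback.fst cc.left η[G].left ≫ cc.left =
      pullback.snd cc.left η[G].left ≫ η[G].left := pullback.condition
  have hcc : cc.left = (inv (pullback.fst cc.left η[G].left) ≫ pullback.snd cc.left η[G].left) ≫
      η[G].left := by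
    rw [Category.assoc, ← hc, IsIso.inv_hom_id_assoc]
  have hη : η[G].left ≫ G.hom = 𝟙 _ := by simpa using Over.w η[G]
  have hcT : inv (pullback.fst cc.left η[G].left) ≫ pullback.snd cc.left η[G].left = T.hom := by
    have h := Over.w cc
    rw [hcc, Category.assoc, hη, Category.comp_id] at h
    exact h
  rw [hcT] at hcc
  rw [Hom.one_def]
  apply Over.OverMorphism.ext
  rw [Over.comp_left, Over.toUnit_left]
  exact hcc

theorem eq_of_isReduced (G X : Over (Spec (CommRingCat.of K))) [GrpObj G] [IsFinite G.hom]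
    [ConnectedSpace G.left] (a : AlgGrp.Action G X) [IsIso (lift a.act (snd G X))]
    (T : Over (Spec (CommRingCat.of K))) [IsReduced T.left] (q₁ q₂ : T ⟶ X) : q₁ = q₂ := by
  have h1 := dif_spec a.act q₁ q₂
  rw [eq_one_of_isReduced G T (dif a.act q₁ q₂), act_one' a] at h1
  exact h1.symm

theorem section_of_cover (G X : Over (Spec (CommRingCat.of K))) [GrpObj G] [IsFinite G.hom]
    [ConnectedSpace G.left] (a : AlgGrp.Action G X) (hps : NonAbH1.IsPseudoTorsorSch a)
    {T' : Scheme.{u}} (g : T' ⟶ Spec (CommRingCat.of K)) [Flat g] [Surjective g] [QuasiCompact g]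
    [IsReduced (pullback g g)] (x : T' ⟶ X.left) (hx : x ≫ X.hom = g) :
    NonAbH1.HasSectionOver X (𝟙 (Spec (CommRingCat.of K))) := by
  haveI : IsIso (lift a.act (snd G X)) := hps
  haveI : IsReduced (Over.mk (pullback.fst g g ≫ g)).left := ‹IsReduced (pullback g g)›
  have h1 := eq_of_isReduced G X a (Over.mk (pullback.fst g g ≫ g))
    (Over.homMk (pullback.fst g g ≫ x) (by rw [Category.assoc, hx]; rfl))
    (Over.homMk (pullback.snd g g ≫ x) (by rw [Category.assoc, hx, ← pullback.condition]; rfl))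
  have h2 : pullback.fst g g ≫ x = pullback.snd g g ≫ x := congrArg (fun k => k.left) h1
  refine ⟨EffectiveEpi.desc g x ?_, ?_⟩
  · intro Z g₁ g₂ hg
    calc g₁ ≫ x = (pullback.lift g₁ g₂ hg ≫ pullback.fst g g) ≫ x := by rw [pullback.lift_fst]
      _ = pullback.lift g₁ g₂ hg ≫ pullback.snd g g ≫ x := by rw [Category.assoc, h2]
      _ = g₂ ≫ x := by rw [← Category.assoc, pullback.lift_snd]
  · rw [← cancel_epi g, ← Category.assoc, EffectiveEpi.fac, hx, Category.comp_id]

theorem isReduced_of_etale_field {Z : Scheme.{u}} [IsAffine Z]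
    (p : Z ⟶ Spec (CommRingCat.of K)) [Etale p] : IsReduced Z := by
  have h1 : RingHom.Etale p.appTop.hom :=
    (HasRingHomProperty.iff_of_isAffine (P := @Etale)).mp inferInstance
  have h0 : RingHom.Etale (Scheme.ΓSpecIso (CommRingCat.of K)).inv.hom :=
    RingHom.Etale.of_bijective (ConcreteCategory.bijective_of_isIso _)
  have h2 : RingHom.Etale (p.appTop.hom.comp (Scheme.ΓSpecIso (CommRingCat.of K)).inv.hom) :=
    RingHom.Etale.stableUnderComposition _ _ h0 h1
  algebraize [p.appTop.hom.comp (Scheme.ΓSpecIso (CommRingCat.of K)).inv.hom]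
  haveI : _root_.IsReduced Γ(Z, ⊤) := Algebra.FormallyUnramified.isReduced_of_field K Γ(Z, ⊤)
  exact isReduced_of_isAffine_isReduced Z

theorem section_of_etale (G X : Over (Spec (CommRingCat.of K))) [GrpObj G] [IsFinite G.hom]
    [ConnectedSpace G.left] (a : AlgGrp.Action G X) (hps : NonAbH1.IsPseudoTorsorSch a)
    {T' : Scheme.{u}} [IsAffine T'] [Nonempty T'] (g : T' ⟶ Spec (CommRingCat.of K)) [Etale g]
    (x : T' ⟶ X.left) (hx : x ≫ X.hom = g) :
    NonAbH1.HasSectionOver X (𝟙 (Spec (CommRingCat.of K))) := by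
  haveI : Surjective g := ⟨fun y => ⟨Classical.arbitrary _, Subsingleton.elim _ _⟩⟩
  haveI : IsReduced (pullback g g) := isReduced_of_etale_field (pullback.fst g g ≫ g)
  exact section_of_cover G X a hps g x hx

theorem main_et (G X : Over (Spec (CommRingCat.of K))) [GrpObj G] [IsFinite G.hom]
    [ConnectedSpace G.left] (a : AlgGrp.Action G X)
    (h : NonAbH1.IsTorsorFor Scheme.etalePrecoverage a) :
    NonAbH1.HasSectionOver X (𝟙 (Spec (CommRingCat.of K))) := by
  obtain ⟨hps, R, hR, hs⟩ := h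
  have hR' : R ∈ Scheme.precoverage @Etale (Spec (CommRingCat.of K)) := hR
  have hjs := (Presieve.mem_comap_jointlySurjectivePrecoverage_iff Scheme.forget).1 hR'.1
  obtain ⟨T, f, hRf, t, -⟩ := hjs (IsLocalRing.closedPoint K)
  haveI : Etale f := hR'.2 hRf
  obtain ⟨s, hs'⟩ := hs f hRf
  obtain ⟨V, hV, htV⟩ := exists_affineOpen T t
  haveI : IsAffine ↑V := hV
  haveI : Nonempty ↑V := ⟨⟨t, htV⟩⟩
  exact section_of_etale G X a hps (V.ι ≫ f) (V.ι ≫ s) (by rw [Category.assoc, hs'])

theorem main_fppf [PerfectField K] (G X : Over (Spec (CommRingCat.of K))) [GrpObj G]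
    [IsFinite G.hom] [ConnectedSpace G.left] (a : AlgGrp.Action G X)
    (h : NonAbH1.IsTorsorFor Scheme.fppfPrecoverage a) :
    NonAbH1.HasSectionOver X (𝟙 (Spec (CommRingCat.of K))) := by
  obtain ⟨hps, R, hR, hs⟩ := h
  have hR' : R ∈ Scheme.precoverage (@Flat ⊓ @LocallyOfFinitePresentation)
      (Spec (CommRingCat.of K)) := hR
  have hjs := (Presieve.mem_comap_jointlySurjectivePrecoverage_iff Scheme.forget).1 hR'.1
  obtain ⟨T, f, hRf, t, -⟩ := hjs (IsLocalRing.closedPoint K)
  haveI : LocallyOfFinitePresentation f := (hR'.2 hRf).2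
  obtain ⟨s, hs'⟩ := hs f hRf
  obtain ⟨V, hV, htV⟩ := exists_affineOpen T t
  haveI : IsAffine ↑V := hV
  have hnt : Nontrivial Γ(↑V, ⊤) := by
    by_contra hcon
    rw [not_nontrivial_iff_subsingleton] at hcon
    have hp := ((↑V : Scheme).isoSpec.hom ⟨t, htV⟩ : PrimeSpectrum Γ(↑V, ⊤)).isPrime
    exact hp.ne_top (Ideal.eq_top_of_isUnit_mem _ (Ideal.zero_mem _) (isUnit_of_subsingleton 0))
  obtain ⟨m, hm⟩ := Ideal.exists_maximal Γ(↑V, ⊤)
  letI : Field (Γ(↑V, ⊤) ⧸ m) := Ideal.Quotient.field m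
  obtain ⟨xL, hxL⟩ : ∃ xL : Spec (CommRingCat.of (Γ(↑V, ⊤) ⧸ m)) ⟶ ↑V,
      xL = Spec.map (CommRingCat.ofHom (Ideal.Quotient.mk m)) ≫ (↑V : Scheme).isoSpec.inv :=
    ⟨_, rfl⟩
  haveI : IsClosedImmersion (Spec.map (CommRingCat.ofHom (Ideal.Quotient.mk m))) :=
    IsClosedImmersion.spec_of_surjective _ Ideal.Quotient.mk_surjective
  haveI : LocallyOfFiniteType (xL ≫ V.ι ≫ f) := by
    rw [hxL]
    infer_instance
  obtain ⟨ψ, hψ⟩ := Spec.map_surjective (xL ≫ V.ι ≫ f)
  have hft : RingHom.FiniteType ψ.hom := by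
    rw [← HasRingHomProperty.Spec_iff (P := @LocallyOfFiniteType), hψ]
    infer_instance
  haveI : Etale (xL ≫ V.ι ≫ f) := by
    rw [← hψ, HasRingHomProperty.Spec_iff (P := @Etale)]
    algebraize [ψ.hom]
    haveI : Module.Finite K (Γ(↑V, ⊤) ⧸ m) := finite_of_finite_type_of_isJacobsonRing K _
    haveI : Algebra.IsSeparable K (Γ(↑V, ⊤) ⧸ m) := inferInstance
    haveI : Algebra.FormallyEtale K (Γ(↑V, ⊤) ⧸ m) := Algebra.FormallyEtale.of_isSeparable K _
    haveI : Algebra.FinitePresentation K (Γ(↑V, ⊤) ⧸ m) :=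
      Algebra.FinitePresentation.of_finiteType.mp inferInstance
    exact (⟨inferInstance, inferInstance⟩ : Algebra.Etale K (Γ(↑V, ⊤) ⧸ m))
  haveI : Nonempty (Spec (CommRingCat.of (Γ(↑V, ⊤) ⧸ m))) := ⟨⟨⊥, Ideal.bot_prime⟩⟩
  exact section_of_etale G X a hps (xL ≫ V.ι ≫ f) (xL ≫ V.ι ≫ s)
    (by rw [Category.assoc, Category.assoc, hs'])

end Groth.Agent.Lib.FinConnTors
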