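import Mathlib

open CategoryTheory AlgebraicGeometry Limits TopologicalSpace
universe u

namespace Groth.Agent.Lib.QFinAffine

/-- In `Spec R`, a finite set of points inside an open set lies in a basic open inside it. -/
theorem spec_case (R : CommRingCat.{u}) (O : (Spec R).Opens) (T : Finset (Spec R))
    (hT : ∀ t ∈ T, t ∈ O) :
    ∃ s : R, (∀ t ∈ T, t ∈ PrimeSpectrum.basicOpen s) ∧ PrimeSpectrum.basicOpen s ≤ O := by
  obtain ⟨S, hS⟩ := (@PrimeSpectrum.isOpen_iff R _ O.1).mp O.2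
  set I : Ideal R := Ideal.span S with hI
  have hnot : ∀ t ∈ T, ¬ I ≤ (t : PrimeSpectrum R).asIdeal := by
    intro t ht hle
    have h1 : t ∈ PrimeSpectrum.zeroLocus S := by
      rw [← PrimeSpectrum.zeroLocus_span]
      exact hle
    rw [← hS] at h1
    exact h1 (hT t ht)
  have h2 : ¬ ((I : Set R) ⊆ ⋃ t ∈ (↑T : Set (Spec R)), ((t : PrimeSpectrum R).asIdeal : Set R)) := by
    by_cases hne : T.Nonempty
    · obtain ⟨a, ha⟩ := hne
      rw [Ideal.subset_union_prime (f := fun t : Spec R => (t : PrimeSpectrum R).asIdeal) a a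
        (fun i _ _ _ => i.2)]
      push Not
      exact hnot
    · rw [Finset.not_nonempty_iff_eq_empty] at hne
      subst hne
      simp only [Finset.coe_empty, Set.mem_empty_iff_false, Set.iUnion_of_empty, Set.iUnion_empty,
        Set.subset_empty_iff]
      intro h
      have : (0 : R) ∈ (I : Set R) := I.zero_mem
      rw [h] at this
      exact this
  rw [Set.not_subset] at h2
  obtain ⟨s, hsI, hs⟩ := h2
  refine ⟨s, fun t ht => ?_, ?_⟩
  · intro hst
    apply hs
    simp only [Set.mem_iUnion]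
    exact ⟨t, ht, hst⟩
  · intro p hp
    by_contra hpO
    have h3 : p ∈ PrimeSpectrum.zeroLocus S := by
      rw [← hS]; exact hpO
    rw [← PrimeSpectrum.zeroLocus_span] at h3
    exact hp (h3 hsI)

theorem affine_case (N : Scheme.{u}) [IsAffine N] (O : N.Opens) (T : Finset N)
    (hT : ∀ t ∈ T, t ∈ O) :
    ∃ V : N.Opens, IsAffineOpen V ∧ V ≤ O ∧ ∀ t ∈ T, t ∈ V := by
  classical
  let e := N.isoSpec
  obtain ⟨s, hs1, hs2⟩ := spec_case Γ(N, ⊤) (e.inv ⁻¹ᵁ O) (T.image e.hom) (by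
    intro t ht
    obtain ⟨t', ht', rfl⟩ := Finset.mem_image.mp ht
    show e.inv (e.hom t') ∈ O
    have : e.inv (e.hom t') = t' := by
      rw [← Scheme.Hom.comp_apply, Iso.hom_inv_id]; rfl
    rw [this]
    exact hT t' ht')
  refine ⟨e.hom ⁻¹ᵁ (PrimeSpectrum.basicOpen s), ?_, ?_, ?_⟩
  · exact (IsAffineOpen.Spec_basicOpen s).preimage_of_isIso e.hom
  · intro x hx
    have h1 : e.hom x ∈ e.inv ⁻¹ᵁ O := hs2 hx
    have h2 : e.inv (e.hom x) = x := by
      rw [← Scheme.Hom.comp_apply, Iso.hom_inv_id]; rfl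
    have h3 : e.inv (e.hom x) ∈ O := h1
    rwa [h2] at h3
  · intro t ht
    exact hs1 _ (Finset.mem_image_of_mem _ ht)

theorem exists_affineOpen_of_finset {X Y : Scheme.{u}} (f : X ⟶ Y) [IsAffine Y] [IsSeparated f] [LocallyQuasiFinite f] [LocallyOfFiniteType f] (T : Finset ↑X) :
    ∃ U : X.Opens, IsAffineOpen U ∧ ∀ x ∈ T, x ∈ U := by
  classical
  have hex : ∀ x : X, ∃ W : X.Opens, IsAffineOpen W ∧ x ∈ W := fun x => by
    obtain ⟨_, ⟨W, hW, rfl⟩, hxW, -⟩ :=
      X.isBasis_affineOpens.exists_subset_of_mem_open (Set.mem_univ x) isOpen_univ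
    exact ⟨W, hW, hxW⟩
  choose Wx hWx hxWx using hex
  let W : X.Opens := ⨆ x ∈ T, Wx x
  have hmem : ∀ x ∈ T, x ∈ W := fun x hx => by
    simp only [W, Opens.mem_iSup]
    exact ⟨x, hx, hxWx x⟩
  have hWc : IsCompact (W : Set X) := by
    simp only [W, Opens.coe_iSup]
    exact T.isCompact_biUnion fun x _ => (hWx x).isCompact
  have : CompactSpace W := isCompact_iff_compactSpace.mp hWc
  let g : (W : Scheme) ⟶ Y := W.ι ≫ f
  have : QuasiCompact g := inferInstance
  have : IsSeparated g := inferInstance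
  have : LocallyQuasiFinite g := inferInstance
  have : LocallyOfFiniteType g := inferInstance
  let j := g.toNormalization
  have : IsOpenImmersion j := inferInstance
  have : IsAffine g.normalization := isAffine_of_isAffineHom g.fromNormalization
  let T' : Finset g.normalization := T.attach.image (fun x => j ⟨x.1, hmem x.1 x.2⟩)
  obtain ⟨V, hV, hVO, hTV⟩ := affine_case g.normalization j.opensRange T' (by
    intro t ht
    obtain ⟨x, -, rfl⟩ := Finset.mem_image.mp ht
    exact ⟨_, rfl⟩)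
  refine ⟨W.ι ''ᵁ (j ⁻¹ᵁ V),
    (hV.preimage_of_isOpenImmersion j hVO).image_of_isOpenImmersion W.ι, ?_⟩
  intro x hx
  refine ⟨⟨x, hmem x hx⟩, ?_, rfl⟩
  show j ⟨x, hmem x hx⟩ ∈ V
  exact hTV _ (Finset.mem_image.mpr ⟨⟨x, hx⟩, Finset.mem_attach _ _, rfl⟩)

end Groth.Agent.Lib.QFinAffine
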