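import Mathlib
import Groth.Agent.Lib.FinDesc1_helper6
import Groth.Agent.Lib.QFinAffine_helper9

/-!
# Quasi-compactness of invariant interiors for finite locally free descent
-/

set_option backward.isDefEq.respectTransparency false
set_option backward.isDefEq.respectTransparency.types false

universe u

open CategoryTheory CategoryTheory.Limits AlgebraicGeometry Opposite Topology

namespace Groth.Agent.Lib.FinDescH6

open Groth.Agent.Lib.AffDescH6 Groth.Agent.Lib.LocEffH6

section topo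

/-- Constructible subsets of affine schemes are quasi-compact. -/
lemma isCompact_of_isConstructible {Z : Scheme.{u}} [IsAffine Z] {s : Set Z}
    (hs : IsConstructible s) : IsCompact s := by
  let e : Z ≃ₜ Spec Γ(Z, ⊤) := Scheme.homeoOfIso Z.isoSpec
  have h1 : IsConstructible (e.symm ⁻¹' s) :=
    hs.preimage_of_isOpenEmbedding e.symm.isOpenEmbedding
  obtain ⟨S, _, f, hf⟩ := PrimeSpectrum.exists_range_eq_of_isConstructible
    (R := Γ(Z, ⊤)) (s := e.symm ⁻¹' s) h1
  have h2 : IsCompact (e.symm ⁻¹' s) := by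
    rw [← hf]
    exact isCompact_range (PrimeSpectrum.continuous_comap f)
  have h3 : s = e.symm '' (e.symm ⁻¹' s) := by
    rw [Set.image_preimage_eq _ e.symm.surjective]
  rw [h3]
  exact h2.image e.symm.continuous

/-- For a finite, finitely presented morphism `π : P ⟶ Z` to an affine scheme, a morphism
`g : P ⟶ U'` to an affine scheme and a quasi-compact open `Q'` of `U'`, the set of points of `Z`
whose fibre is mapped into `Q'` is quasi-compact. -/
lemma isCompact_fibre_subset {P Z U' : Scheme.{u}} (π : P ⟶ Z) [IsFinite π]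
    [LocallyOfFinitePresentation π] [IsAffine Z] (g : P ⟶ U') [IsAffine U'] (Q' : U'.Opens)
    (hQ' : IsCompact (Q' : Set U')) :
    IsCompact {x : Z | ∀ w : P, π w = x → g w ∈ Q'} := by
  haveI : IsAffine P := isAffine_of_isAffineHom π
  have hQ : IsCompact ((g ⁻¹ᵁ Q' : P.Opens) : Set P) := g.isCompact_preimage hQ'
  have hc : IsConstructible ((g ⁻¹ᵁ Q' : P.Opens) : Set P) :=
    hQ.isConstructible (g ⁻¹ᵁ Q').isOpen
  have hc' : IsConstructible (π '' ((g ⁻¹ᵁ Q' : P.Opens) : Set P)ᶜ) :=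
    π.isConstructible_image (isConstructible_compl.mpr hc)
  have e : {x : Z | ∀ w : P, π w = x → g w ∈ Q'} = (π '' ((g ⁻¹ᵁ Q' : P.Opens) : Set P)ᶜ)ᶜ := by
    ext x
    simp only [Set.mem_setOf_eq, Set.mem_compl_iff, Set.mem_image, not_exists, not_and]
    constructor
    · intro H w hw hwx
      exact hw (H w hwx)
    · intro H w hwx
      by_contra hc
      exact H w hc hwx
  rw [e]
  exact isCompact_of_isConstructible (isConstructible_compl.mpr hc')

/-- Finite sets of points in an open of an affine open lie in a smaller affine open. -/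
lemma exists_affine_between {V : Scheme.{u}} {U₀ : V.Opens} (hU₀ : IsAffineOpen U₀)
    (W' : V.Opens) (F : Set V) (hF : F.Finite) (hFW : F ⊆ W') (hFU : F ⊆ U₀) :
    ∃ D' : V.Opens, IsAffineOpen D' ∧ D' ≤ W' ∧ D' ≤ U₀ ∧ F ⊆ D' := by
  classical
  haveI : IsAffine U₀.toScheme := hU₀
  have hF' : (U₀.ι ⁻¹' F).Finite := hF.preimage U₀.ι.isOpenEmbedding.injective.injOn
  obtain ⟨V₀, hV₀, hle, hmem⟩ := Groth.Agent.Lib.QFinAffine.affine_case U₀.toScheme
    (U₀.ι ⁻¹ᵁ W') hF'.toFinset (by
      intro t ht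
      rw [Set.Finite.mem_toFinset] at ht
      exact hFW ht)
  refine ⟨U₀.ι ''ᵁ V₀, hV₀.image_of_isOpenImmersion U₀.ι, ?_, ?_, ?_⟩
  · rintro _ ⟨x, hx, rfl⟩
    exact hle hx
  · rintro _ ⟨x, hx, rfl⟩
    exact x.2
  · intro x hx
    refine ⟨⟨x, hFU hx⟩, ?_, rfl⟩
    apply hmem
    rw [Set.Finite.mem_toFinset]
    exact hx

end topo

section main

variable {X S : Scheme.{u}} (p : X ⟶ S) (D : Desc.SchDD p) [IsFinite p]
  [LocallyOfFinitePresentation p]

instance : LocallyOfFinitePresentation (snd₂ p D) :=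
  MorphismProperty.pullback_snd (P := @LocallyOfFinitePresentation) p (D.obj.hom ≫ p)
    inferInstance

lemma isCompact_II {U₀ D' : D.obj.left.Opens} (hU₀ : IsAffineOpen U₀) (hD' : IsAffineOpen D')
    (hle : D' ≤ II p D U₀) : IsCompact (II p D D' : Set D.obj.left) := by
  haveI : IsAffine D'.toScheme := hD'
  haveI : IsAffine U₀.toScheme := hU₀
  let P : (T₂' p D).Opens := snd₂ p D ⁻¹ᵁ D'
  let π : P.toScheme ⟶ D'.toScheme := snd₂ p D ∣_ D'
  have hπ : π ≫ D'.ι = P.ι ≫ snd₂ p D := morphismRestrict_ι _ _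
  haveI : LocallyOfFinitePresentation π :=
    MorphismProperty.of_isPullback (P := @LocallyOfFinitePresentation)
      (isPullback_morphismRestrict (snd₂ p D) D').flip inferInstance
  have hrange : Set.range (P.ι ≫ vu' p D) ⊆ Set.range U₀.ι := by
    rintro _ ⟨w, rfl⟩
    rw [Scheme.Opens.range_ι]
    have hw : snd₂ p D (P.ι w) ∈ D' := w.2
    exact (mem_II p D).mp (hle hw) _ ⟨P.ι w, rfl, rfl⟩
  let g : P.toScheme ⟶ U₀.toScheme := IsOpenImmersion.lift U₀.ι (P.ι ≫ vu' p D) hrange
  have hg : g ≫ U₀.ι = P.ι ≫ vu' p D := IsOpenImmersion.lift_fac _ _ _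
  let Q' : U₀.toScheme.Opens := U₀.ι ⁻¹ᵁ D'
  have hQ' : IsCompact (Q' : Set U₀.toScheme) := by
    have : IsCompact (D' : Set D.obj.left) := hD'.isCompact
    refine (U₀.ι.isOpenEmbedding.isInducing.isCompact_preimage_iff ?_).mpr this
    rw [Scheme.Opens.range_ι]
    exact (hle.trans (II_le p D U₀))
  have key := isCompact_fibre_subset π g Q' hQ'
  have e : (II p D D' : Set D.obj.left) =
      D'.ι '' {x : D'.toScheme | ∀ w : P.toScheme, π w = x → g w ∈ Q'} := by
    ext v
    constructor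
    · intro hv
      have hvD : v ∈ D' := II_le p D D' hv
      refine ⟨⟨v, hvD⟩, ?_, rfl⟩
      intro w hw
      show U₀.ι (g w) ∈ D'
      rw [← Scheme.Hom.comp_apply, hg]
      refine (mem_II p D).mp hv _ ⟨P.ι w, ?_, rfl⟩
      rw [← Scheme.Hom.comp_apply, ← hπ, Scheme.Hom.comp_apply, hw]
      rfl
    · rintro ⟨x, hx, rfl⟩
      rw [SetLike.mem_coe, mem_II]
      rintro v' ⟨w, hw1, rfl⟩
      have hwP : w ∈ P := by
        show snd₂ p D w ∈ D'
        rw [hw1]; exact x.2
      have h1 : π ⟨w, hwP⟩ = x := by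
        apply D'.ι.isOpenEmbedding.injective
        rw [← Scheme.Hom.comp_apply, hπ]
        exact hw1
      have h2 := hx ⟨w, hwP⟩ h1
      have h3 : U₀.ι (g ⟨w, hwP⟩) ∈ D' := h2
      rw [← Scheme.Hom.comp_apply, hg] at h3
      exact h3
  rw [e]
  exact key.image D'.ι.continuous

lemma isQuasiAffine_II {U₀ D' : D.obj.left.Opens} (hU₀ : IsAffineOpen U₀)
    (hD' : IsAffineOpen D') (hle : D' ≤ II p D U₀) : (II p D D').toScheme.IsQuasiAffine := by
  haveI : IsAffine D'.toScheme := hD'
  haveI : CompactSpace (II p D D').toScheme :=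
    isCompact_iff_compactSpace.mp (isCompact_II p D hU₀ hD' hle)
  exact Scheme.IsQuasiAffine.of_isImmersion (D.obj.left.homOfLE (II_le p D D'))

end main

end Groth.Agent.Lib.FinDescH6
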