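import Mathlib
import Groth.Agent.Lib.FinDesc2_helper6
import Groth.Agent.Lib.FinDesc3_helper6
import Groth.Agent.Lib.LocEff5_helper6

/-!
# Effective descent along finite locally free morphisms when orbits lie in affine opens
-/

set_option backward.isDefEq.respectTransparency false
set_option backward.isDefEq.respectTransparency.types false

universe u

open CategoryTheory CategoryTheory.Limits AlgebraicGeometry Opposite

namespace Groth.Agent.Lib.FinDescH6

open Groth.Agent.Lib.AffDescH6 Groth.Agent.Lib.LocEffH6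

variable {X S : Scheme.{u}} (p : X ⟶ S) [Surjective p] [IsFinite p] [Flat p]
  [LocallyOfFinitePresentation p] (D : Desc.SchDD p)

/-- Invariant quasi-affine opens lying over an affine open of the base are good. -/
lemma good_of_isQuasiAffine {W : D.obj.left.Opens} (hW : IsInv D W.ι)
    [hQA : W.toScheme.IsQuasiAffine] (Ya : S.Opens) (hYa : IsAffineOpen Ya)
    (hle : W ≤ (D.obj.hom ≫ p) ⁻¹ᵁ Ya) : Good D W := by
  refine ⟨hW, ?_⟩
  have sq : (p ⁻¹ᵁ Ya).ι ≫ p = (p ∣_ Ya) ≫ Ya.ι := (morphismRestrict_ι p Ya).symm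
  have hrange : Set.range (W.ι ≫ D.obj.hom) ⊆ Set.range (p ⁻¹ᵁ Ya).ι := by
    rintro _ ⟨w, rfl⟩
    rw [Scheme.Opens.range_ι]
    exact hle w.2
  let wa : W.toScheme ⟶ (p ⁻¹ᵁ Ya).toScheme :=
    IsOpenImmersion.lift (p ⁻¹ᵁ Ya).ι (W.ι ≫ D.obj.hom) hrange
  have hw : wa ≫ (p ⁻¹ᵁ Ya).ι = (restrictDD hW).obj.hom := IsOpenImmersion.lift_fac _ _ _
  refine effective_of_baseDD (p ⁻¹ᵁ Ya).ι (p ∣_ Ya) Ya.ι sq (restrictDD hW) wa hw
    (isPullback_morphismRestrict p Ya).flip ?_
  haveI : IsAffine Ya.toScheme := hYa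
  haveI : IsAffine (p ⁻¹ᵁ Ya).toScheme := hYa.preimage p
  haveI : Surjective (p ∣_ Ya) :=
    MorphismProperty.of_isPullback (P := @Surjective) (isPullback_morphismRestrict p Ya).flip
      inferInstance
  haveI : (baseDD (p ⁻¹ᵁ Ya).ι (p ∣_ Ya) Ya.ι sq (restrictDD hW) wa hw).obj.left.IsQuasiAffine :=
    hQA
  exact exists_descent_of_isQuasiAffine (p ∣_ Ya)
    (baseDD (p ⁻¹ᵁ Ya).ι (p ∣_ Ya) Ya.ι sq (restrictDD hW) wa hw)

/-- Effective descent along a surjective finite locally free morphism for a descent datum all of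
whose orbits are contained in affine opens. -/
theorem effective_of_orbits
    (hO : ∀ v : D.obj.left, ∃ U : D.obj.left.Opens, IsAffineOpen U ∧ orbit p D v ⊆ U) :
    ∃ W : Over S, Nonempty ((Desc.toDD p).obj W ≅ D) := by
  have hgood : ∀ v : D.obj.left, ∃ W : D.obj.left.Opens, Good D W ∧ v ∈ W := by
    intro v
    obtain ⟨U, hU, hOU⟩ := hO v
    -- an affine open neighbourhood of the image of `v` in `S`
    obtain ⟨_, ⟨Ya, hYa, rfl⟩, hyYa, -⟩ := S.isBasis_affineOpens.exists_subset_of_mem_open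
      (Set.mem_univ (p (D.obj.hom v))) isOpen_univ
    let Va : D.obj.left.Opens := (D.obj.hom ≫ p) ⁻¹ᵁ Ya
    have hOVa : orbit p D v ⊆ Va := by
      intro v' hv'
      show (D.obj.hom ≫ p) v' ∈ Ya
      rw [Scheme.Hom.comp_apply, orbit_base p D hv']
      exact hyYa
    obtain ⟨U₀, hU₀, hU₀Va, -, hOU₀⟩ :=
      exists_affine_between hU Va (orbit p D v) (finite_orbit p D v) hOVa hOU
    obtain ⟨D', hD', hD'le, -, hOD'⟩ :=
      exists_affine_between hU₀ (II p D U₀) (orbit p D v) (finite_orbit p D v)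
        (orbit_subset_II p D hOU₀) hOU₀
    haveI := isQuasiAffine_II p D hU₀ hD' hD'le
    refine ⟨II p D D', good_of_isQuasiAffine p D (isInv_II p D D') Ya hYa ?_, ?_⟩
    · exact (II_le p D D').trans (hD'le.trans ((II_le p D U₀).trans hU₀Va))
    · exact orbit_subset_II p D hOD' (mem_orbit_self p D v)
  have hc : TopologicalSpace.IsOpenCover (fun i : JJ D => i.1) := by
    apply TopologicalSpace.IsOpenCover.mk
    rw [eq_top_iff]
    intro v _
    obtain ⟨W, hW, hv⟩ := hgood v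
    rw [TopologicalSpace.Opens.mem_iSup]
    exact ⟨⟨W, hW⟩, hv⟩
  exact effective_of_cover hc

end Groth.Agent.Lib.FinDescH6
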