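import Mathlib
import Groth.Agent.Lib.FinDesc1_helper6

/-!
# Orbits are bounded by the number of geometric points of the fibres
-/

set_option backward.isDefEq.respectTransparency false
set_option backward.isDefEq.respectTransparency.types false

universe u

open CategoryTheory CategoryTheory.Limits AlgebraicGeometry Opposite

namespace Groth.Agent.Lib.FinDescH6

open Groth.Agent.Lib.AffDescH6 Groth.Agent.Lib.LocEffH6

variable {X S : Scheme.{u}} (p : X ⟶ S) [IsFinite p] (D : Desc.SchDD p)

/-- The orbit of `v` is the image of the set of geometric points of the fibre of `p`. -/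
theorem exists_geometric_surjection (v : D.obj.left) :
    ∃ (k : Type u) (_ : Field k) (_ : IsAlgClosed k) (y : Spec (CommRingCat.of k) ⟶ S)
      (Ψ : (Spec (CommRingCat.of k) ⟶ X) → D.obj.left),
      orbit p D v ⊆ Ψ '' {x | x ≫ p = y} := by
  let κ := D.obj.left.residueField v
  let K := AlgebraicClosure κ
  let a : Spec (CommRingCat.of K) ⟶ D.obj.left :=
    Spec.map (CommRingCat.ofHom (algebraMap κ K)) ≫ D.obj.left.fromSpecResidueField v
  have ha : ∀ t, a t = v := fun t => by
    show (D.obj.left.fromSpecResidueField v) _ = v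
    exact D.obj.left.fromSpecResidueField_apply v _
  let pt : Spec (CommRingCat.of K) := IsLocalRing.closedPoint K
  classical
  refine ⟨K, inferInstance, inferInstance, a ≫ D.obj.hom ≫ p,
    fun x => if hx : x ≫ p = a ≫ D.obj.hom ≫ p then
      (pullback.lift x a hx ≫ vu' p D) pt else v, ?_⟩
  rintro v' ⟨w, hw1, hw2⟩
  -- a point of the geometric fibre over `w`
  obtain ⟨g, hg1, hg2⟩ := Scheme.Pullback.exists_preimage_pullback (f := snd₂ p D) (g := a) w pt
    (by rw [hw1, ha])
  let π' : pullback (snd₂ p D) a ⟶ Spec (CommRingCat.of K) := pullback.snd _ _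
  haveI : IsFinite π' := MorphismProperty.pullback_snd (P := @IsFinite) _ _ inferInstance
  haveI : IsLocallyArtinian (Spec (CommRingCat.of K)) :=
    Scheme.isLocallyArtinianScheme_Spec.mpr inferInstance
  haveI : IsLocallyArtinian (pullback (snd₂ p D) a) := IsLocallyArtinian.of_locallyQuasiFinite π'
  have hg : IsClosed ({g} : Set (pullback (snd₂ p D) a : Scheme.{u})) := isClosed_discrete _
  let s : Spec (CommRingCat.of K) ⟶ pullback (snd₂ p D) a := pointOfClosedPoint π' g hg
  have hs1 : s ≫ π' = 𝟙 _ := pointOfClosedPoint_comp π' g hg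
  have hs2 : s pt = g := pointOfClosedPoint_apply π' g hg pt
  let x : Spec (CommRingCat.of K) ⟶ X := s ≫ pullback.fst _ _ ≫ fst₂ p D
  have hx : x ≫ p = a ≫ D.obj.hom ≫ p := by
    have e1 : fst₂ p D ≫ p = snd₂ p D ≫ D.obj.hom ≫ p := pullback.condition
    have e2 : pullback.fst (snd₂ p D) a ≫ snd₂ p D = π' ≫ a := pullback.condition
    simp only [x, Category.assoc]
    rw [e1, reassoc_of% e2, reassoc_of% hs1]
  refine ⟨x, hx, ?_⟩
  have hl : pullback.lift x a hx = s ≫ pullback.fst _ _ := by
    apply pullback.hom_ext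
    · rw [pullback.lift_fst]; simp only [x, Category.assoc]
    · rw [pullback.lift_snd, Category.assoc]
      have e2 : pullback.fst (snd₂ p D) a ≫ snd₂ p D = π' ≫ a := pullback.condition
      rw [e2, reassoc_of% hs1]
  simp only [dif_pos hx]
  rw [hl, Scheme.Hom.comp_apply, Scheme.Hom.comp_apply, hs2, hg1, hw2]

/-- Bound on the cardinality of orbits. -/
theorem encard_orbit_le (d : ℕ)
    (hfib : ∀ (k : Type u) [Field k] [IsAlgClosed k] (y : Spec (CommRingCat.of k) ⟶ S),
      Set.encard {x : Spec (CommRingCat.of k) ⟶ X | x ≫ p = y} ≤ d) (v : D.obj.left) :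
    (orbit p D v).encard ≤ d := by
  obtain ⟨k, _, _, y, Ψ, h⟩ := exists_geometric_surjection p D v
  exact (Set.encard_le_encard h).trans ((Set.encard_image_le _ _).trans (hfib k y))

/-- Enumerating a nonempty finite set of cardinality at most `d`. -/
lemma exists_fin_enum {α : Type*} (s : Set α) (d : ℕ) (hs : s.encard ≤ d) (a : α) (ha : a ∈ s) :
    ∃ f : Fin d → α, (∀ i, f i ∈ s) ∧ s ⊆ Set.range f := by
  classical
  have hfin : s.Finite := Set.finite_of_encard_le_coe hs
  let t := hfin.toFinset
  have hcard : t.card ≤ d := by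
    have := hfin.encard_eq_coe_toFinset_card
    rw [this] at hs
    exact_mod_cast hs
  refine ⟨fun i => if h : i.val < t.card then (t.equivFin.symm ⟨i.val, h⟩).1 else a, ?_, ?_⟩
  · intro i
    by_cases h : i.val < t.card
    · simp only [dif_pos h]
      exact hfin.mem_toFinset.mp (t.equivFin.symm ⟨i.val, h⟩).2
    · simp only [dif_neg h]
      exact ha
  · intro x hx
    have hx' : x ∈ t := hfin.mem_toFinset.mpr hx
    let idx := t.equivFin ⟨x, hx'⟩
    refine ⟨⟨idx.val, lt_of_lt_of_le idx.2 hcard⟩, ?_⟩
    simp only [dif_pos idx.2]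
    have : (⟨idx.val, idx.2⟩ : Fin t.card) = idx := rfl
    rw [this, Equiv.symm_apply_apply]

end Groth.Agent.Lib.FinDescH6
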