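import Mathlib
import Groth.Prelude
import Groth.Agent.Lib.FinDual1_helper3
import Groth.Agent.Lib.FinPushPC2_helper3
import Groth.Agent.Lib.LpullAdj_helper3
import Groth.Agent.Lib.LpullEx_helper3
import Groth.Agent.Lib.LpullQC_lead
import Groth.Agent.Lib.LTensQC_lead
import Groth.Agent.Lib.RHomPC3_helper3
import Groth.Agent.Lib.PCohFT3_lead
import Groth.Agent.Lib.QCohCrit_helper9
import Groth.Agent.Lib.SerreCrit1_helper9
import Groth.Agent.Lib.RpushCohD_helper3

/-!
# Duality for a finite morphism, II (helper3; S3657)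

`main3657`: for `f : X ⟶ Y` finite between Noetherian schemes and `a` a right adjoint of
`Rf_* : D_QCoh(X) ⥤ D_QCoh(Y)`, `Rf_* ∘ a ≅ RHom(f_* O_X, -)` on `D^+_QCoh(Y)`.
-/

set_option autoImplicit false
set_option linter.all false
set_option maxHeartbeats 1600000
set_option backward.isDefEq.respectTransparency false
set_option backward.isDefEq.respectTransparency.types false
set_option backward.defeqAttrib.useBackward true

universe u
open CategoryTheory CategoryTheory.Limits AlgebraicGeometry Opposite TopologicalSpace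

attribute [local instance] HasDerivedCategory.standard

namespace Groth.Agent.Lib.FinDualH3

open DerivedCategory Groth.Agent.Lib.RUnitCxH3

noncomputable section

section Coh

variable {X Y : Scheme.{u}} (f : X ⟶ Y)

/-- sections of `f_* O_X` over `W` as an `O_Y(W)`-module (after helper9's `BirCurve.pushSecEquiv`) -/
def pushSecEquiv (W : Y.Opens) :
    letI := (f.app W).hom.toAlgebra
    Γ(X, f ⁻¹ᵁ W) ≃ₗ[Γ(Y, W)] Γ((Scheme.Modules.pushforward f).obj (Coh.structureModule X), W) :=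
  letI := (f.app W).hom.toAlgebra
  { toFun := fun a => a
    invFun := fun s => s
    map_add' := fun _ _ => rfl
    map_smul' := fun _ _ => rfl
    left_inv := fun _ => rfl
    right_inv := fun _ => rfl }

/-- the direct image of the structure sheaf under a finite morphism is coherent
(after helper9's `BirCurve.isCoh_push_OO`) -/
theorem isCoh_push_structureModule [IsFinite f] :
    Coh.IsCoh ((Scheme.Modules.pushforward f).obj (Coh.structureModule X)) := by
  haveI : (Coh.structureModule X).IsQuasicoherent := SerreCrit.isQuasicoherent_OO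
  haveI : ((Scheme.Modules.pushforward f).obj (Coh.structureModule X)).IsQuasicoherent :=
    QCohCrit.isQuasicoherent_pushforward f (Coh.structureModule X)
  refine ⟨inferInstance, ?_⟩
  refine QCohCrit.isFiniteType_of_sections_cover _
    (fun U : Y.affineOpens => (U : Y.Opens)) (fun U => U.2) (iSup_affineOpens_eq_top Y)
    (fun U => ?_)
  have hfin : (f.app U.1).hom.Finite := f.finite_app U.1 U.2
  letI := (f.app U.1).hom.toAlgebra
  haveI : Module.Finite Γ(Y, U.1) Γ(X, f ⁻¹ᵁ U.1) := hfin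
  exact Module.Finite.equiv (pushSecEquiv f U.1)

end Coh

section Main

variable {X Y : Scheme.{u}} (f : X ⟶ Y) [DCoh.HasRpush f]

/-- **S3657** (with `f : X ⟶ Y`) -/
theorem main3657 [IsNoetherian X] [IsNoetherian Y] [IsFinite f]
    (hf : DCoh.RpushPreservesQCoh f)
    (a : DCoh.DQCoh Y ⥤ DCoh.DQCoh X) (adj : DCoh.RpushQ f hf ⊣ a)
    (E : CochainComplex Y.Modules ℤ)
    (hE : Nonempty (DCoh.toD Y E ≅
      DCoh.inD Y ((Scheme.Modules.pushforward f).obj (Coh.structureModule X))))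
    [DCoh.HasLTensorCx E] [DCoh.HasRSheafHom E] :
    Nonempty (Dual3.bddι Y ⋙ a ⋙ DCoh.RpushQ f hf ⋙ ObjectProperty.ι _ ≅
      Dual3.bddι Y ⋙ ObjectProperty.ι _ ⋙ DCoh.RSheafHom E) := by
  obtain ⟨eE⟩ := hE
  haveI : DCoh.HasLpull f := Groth.Agent.Lib.LpullExH3.hasLpull f
  obtain ⟨adjLR⟩ := Groth.Agent.Lib.LpullAdjH3.nonempty_adj f
  -- quasi-coherence / coherence facts
  have hOq : Coh.IsQCoh (Coh.structureModule X) := SerreCrit.isQuasicoherent_OO
  have hcoh := isCoh_push_structureModule f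
  have hEq : DCoh.IsQCohD (DCoh.toD Y E) :=
    Groth.Agent.Lib.DSectX.isQCohD_of_iso eE.symm
      (Groth.Agent.Lib.RpushCohDH3.isQCohD_inD _ hcoh.1)
  have hEpc : ∀ m : ℤ, DCoh.IsPseudoCoherentD m (DCoh.toD Y E) := fun m =>
    Groth.Agent.Lib.DCohLocLead.isPC_of_iso eE.symm
      (Groth.Agent.Lib.DCohLocLead.isPC_inD_of_isCoh _ hcoh m)
  have hU : DCoh.IsQCohD (Q.obj (unitCx X)) :=
    Groth.Agent.Lib.DSectX.isQCohD_of_iso
      ((singleFunctorIsoCompQ X.Modules 0).app (Coh.structureModule X))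
      (Groth.Agent.Lib.RpushCohDH3.isQCohD_inD _ hOq)
  obtain ⟨ePush⟩ := Groth.Agent.Lib.FinPushPCH3.nonempty_Rpush_inD_iso f
    (Coh.structureModule X) hOq
  have hE' : Nonempty (Q.obj E ≅ (DCoh.Rpush f).obj (Q.obj (unitCx X))) :=
    ⟨eE ≪≫ ePush.symm ≪≫ (DCoh.Rpush f).mapIso
      ((singleFunctorIsoCompQ X.Modules 0).app (Coh.structureModule X))⟩
  obtain ⟨c'⟩ := nonempty_projO_natIso f E hU hE'
  -- the restricted functors
  let LQ : DCoh.DQCoh Y ⥤ DCoh.DQCoh X :=
    ObjectProperty.lift _ (ObjectProperty.ι _ ⋙ DCoh.Lpull f)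
      (fun K => Groth.Agent.Lib.LpullQCL.main1054 f K.obj K.property)
  let TQ : DCoh.DQCoh Y ⥤ DCoh.DQCoh Y :=
    ObjectProperty.lift _ (ObjectProperty.ι _ ⋙ DCoh.LTensorCx E)
      (fun T => Groth.Agent.Lib.LTensQCL.main1062 Y E hEq T.obj T.property)
  let adjQ : LQ ⊣ DCoh.RpushQ f hf :=
    adjLR.restrictFullyFaithful (ObjectProperty.fullyFaithfulι _) (ObjectProperty.fullyFaithfulι _)
      (Iso.refl _) (Iso.refl _)
  let adj₁ : LQ ⋙ DCoh.RpushQ f hf ⊣ a ⋙ DCoh.RpushQ f hf := adjQ.comp adj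
  let c : LQ ⋙ DCoh.RpushQ f hf ≅ TQ :=
    Functor.fullyFaithfulCancelRight (ObjectProperty.ι _) c'.symm
  let adjE := DCoh.RSheafHomAdj E
  let G₁ : (Dual3.IsBddBelowQ Y).FullSubcategory ⥤ DCoh.DQCoh Y :=
    Dual3.bddι Y ⋙ (a ⋙ DCoh.RpushQ f hf)
  let G₂ : (Dual3.IsBddBelowQ Y).FullSubcategory ⥤ DCoh.DQCoh Y :=
    ObjectProperty.lift _ (Dual3.bddι Y ⋙ ObjectProperty.ι _ ⋙ DCoh.RSheafHom E)
      (fun K => by
        obtain ⟨n, hn⟩ := K.property
        haveI := hn
        exact Groth.Agent.Lib.RHomPCH3.main1115 E hEpc K.obj.obj K.obj.property n)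
  let α : ∀ (T : DCoh.DQCoh Y) (K : (Dual3.IsBddBelowQ Y).FullSubcategory),
      (T ⟶ G₁.obj K) ≃ ((LQ ⋙ DCoh.RpushQ f hf).obj T ⟶ (Dual3.bddι Y).obj K) := fun T K =>
    (adj₁.homEquiv T ((Dual3.bddι Y).obj K)).symm
  let β : ∀ (T : DCoh.DQCoh Y) (K : (Dual3.IsBddBelowQ Y).FullSubcategory),
      (T ⟶ G₂.obj K) ≃ (TQ.obj T ⟶ (Dual3.bddι Y).obj K) := fun T K =>
    { toFun := fun k => ObjectProperty.homMk ((adjE.homEquiv T.obj K.obj.obj).symm k.hom)
      invFun := fun m => ObjectProperty.homMk (adjE.homEquiv T.obj K.obj.obj m.hom)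
      left_inv := fun k => by
        apply ObjectProperty.hom_ext
        exact (adjE.homEquiv T.obj K.obj.obj).apply_symm_apply k.hom
      right_inv := fun m => by
        apply ObjectProperty.hom_ext
        exact (adjE.homEquiv T.obj K.obj.obj).symm_apply_apply m.hom }
  obtain ⟨e⟩ := nonempty_natIso_of_relative_adjoint (LQ ⋙ DCoh.RpushQ f hf) TQ c
    (Dual3.bddι Y) G₁ G₂ α
    (fun T T' K g k => adj₁.homEquiv_naturality_left_symm g k)
    (fun T K K' m k => adj₁.homEquiv_naturality_right_symm k ((Dual3.bddι Y).map m))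
    β
    (fun T T' K g k => by
      apply ObjectProperty.hom_ext
      exact adjE.homEquiv_naturality_left_symm g.hom k.hom)
    (fun T K K' m k => by
      apply ObjectProperty.hom_ext
      exact adjE.homEquiv_naturality_right_symm k.hom m.hom.hom)
  exact ⟨Functor.isoWhiskerRight e (ObjectProperty.ι _)⟩

end Main

end

end Groth.Agent.Lib.FinDualH3
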