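import Mathlib
import Groth.Prelude
import Groth.Agent.Lib.ZMTFin2_helper7

/-!
# Extending finite surjective morphisms from a quasi-compact open (helper7)

`main1376`: for `S` qcqs, `U ⊆ S` a quasi-compact open and `v : V ⟶ U` finite surjective, there is a
finite surjective `V' ⟶ S` whose restriction to `U` is `v`.
-/

set_option autoImplicit false
set_option linter.style.haveILetI false
universe u
open CategoryTheory CategoryTheory.Limits AlgebraicGeometry TopologicalSpace Opposite

namespace Groth.Agent.Lib.FinExtH7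
open Groth.Agent.Lib.ZMTFinH7

/-- A dense open immersion `j : V ⟶ T` into a separated `S`-scheme, with `V` proper over the open
`U ⊆ S`, has range exactly the preimage of `U`. -/
theorem range_eq_preimage {S V T : Scheme.{u}} (U : S.Opens) (v : V ⟶ (U : Scheme.{u}))
    [IsProper v] (j : V ⟶ T) [IsOpenImmersion j] (hj : Dense (Set.range j)) (π : T ⟶ S)
    [IsSeparated π] (hfac : j ≫ π = v ≫ U.ι) :
    Set.range j = ((π ⁻¹ᵁ U : T.Opens) : Set T) := by
  have hmem : ∀ x : V, π (j x) ∈ U := by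
    intro x
    have h1 : π (j x) = U.ι (v x) := by
      rw [← Scheme.Hom.comp_apply, ← Scheme.Hom.comp_apply, hfac]
    rw [h1]
    exact (v x).2
  apply Set.Subset.antisymm
  · rintro _ ⟨x, rfl⟩
    exact hmem x
  · obtain ⟨W, hW⟩ : ∃ W : T.Opens, W = π ⁻¹ᵁ U := ⟨_, rfl⟩
    rw [← hW]
    have hsub : Set.range j ⊆ Set.range W.ι := by
      rw [Scheme.Opens.range_ι, hW]
      rintro _ ⟨x, rfl⟩
      exact hmem x
    obtain ⟨k, hk⟩ : ∃ k : V ⟶ (W : Scheme.{u}), k ≫ W.ι = j :=
      ⟨IsOpenImmersion.lift W.ι j hsub, IsOpenImmersion.lift_fac _ _ _⟩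
    obtain ⟨ρ, hρ⟩ : ∃ ρ : (W : Scheme.{u}) ⟶ (U : Scheme.{u}), ρ ≫ U.ι = W.ι ≫ π := by
      subst hW
      exact ⟨π ∣_ U, morphismRestrict_ι π U⟩
    haveI : IsSeparated ρ := by
      haveI : IsSeparated (ρ ≫ U.ι) := by
        rw [hρ]
        infer_instance
      exact IsSeparated.of_comp ρ U.ι
    have hkρ : k ≫ ρ = v := by
      rw [← cancel_mono U.ι, Category.assoc, hρ, ← Category.assoc, hk, hfac]
    haveI : IsProper (k ≫ ρ) := by
      rw [hkρ]
      infer_instance
    haveI : IsProper k := IsProper.of_comp k ρ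
    have hcl : IsClosed (Set.range k) := k.isClosedMap.isClosed_range
    have hdense : Dense (Set.range k) := by
      have hrk : Set.range k = W.ι ⁻¹' (Set.range j) := by
        ext y
        constructor
        · rintro ⟨x, rfl⟩
          exact ⟨x, by rw [← hk, Scheme.Hom.comp_apply]⟩
        · rintro ⟨x, hx⟩
          refine ⟨x, W.ι.isOpenEmbedding.injective ?_⟩
          rw [← Scheme.Hom.comp_apply, hk, hx]
      rw [hrk]
      exact hj.preimage W.ι.isOpenEmbedding.isOpenMap
    have huniv : Set.range k = Set.univ := by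
      rw [← hcl.closure_eq]
      exact hdense.closure_eq
    intro y hy
    rw [← Scheme.Opens.range_ι] at hy
    obtain ⟨y', rfl⟩ := hy
    obtain ⟨x, hx⟩ : y' ∈ Set.range k := by
      rw [huniv]
      trivial
    exact ⟨x, by rw [← hk, Scheme.Hom.comp_apply, hx]⟩

/-- **S1376** -/
theorem main1376 {S V : Scheme.{u}} [CompactSpace ↑S] [QuasiSeparatedSpace ↑S] (U : S.Opens)
    (hU : IsCompact (U : Set ↑S)) (v : V ⟶ (U : Scheme.{u})) [IsFinite v] [Surjective v] :
    ∃ (V' : Scheme.{u}) (π : V' ⟶ S) (i : V ⟶ V'), Surjective π ∧ IsFinite π ∧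
      IsPullback i v π U.ι := by
  haveI : CompactSpace ↥(U : Scheme.{u}) := isCompact_iff_compactSpace.mp hU
  haveI : QuasiCompact U.ι := quasiCompact_of_compactSpace U.ι
  haveI : LocallyQuasiFinite (v ≫ U.ι) := inferInstance
  obtain ⟨T, j, π, hj, hjqc, hπ, hfac⟩ := main0385 (v ≫ U.ι)
  haveI := hj
  haveI := hjqc
  haveI := hπ
  haveI : IsOpenImmersion j.toImage := inferInstance
  obtain ⟨π₂, hπ₂⟩ : ∃ π₂ : j.image ⟶ S, π₂ = j.imageι ≫ π := ⟨_, rfl⟩
  haveI : IsFinite π₂ := by
    rw [hπ₂]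
    infer_instance
  have hfac₂ : j.toImage ≫ π₂ = v ≫ U.ι := by
    rw [hπ₂, ← Category.assoc, j.toImage_imageι, hfac]
  have hdense : Dense (Set.range j.toImage) := j.toImage.denseRange
  have hrange := range_eq_preimage U v j.toImage hdense π₂ hfac₂
  obtain ⟨Zc, hZc⟩ : ∃ Zc : Closeds S, (Zc : Set S) = (U : Set S)ᶜ :=
    ⟨⟨(U : Set S)ᶜ, U.2.isClosed_compl⟩, rfl⟩
  obtain ⟨I, hI⟩ : ∃ I : S.IdealSheafData, I = Scheme.IdealSheafData.vanishingIdeal Zc :=
    ⟨_, rfl⟩
  have hIrange : Set.range I.subschemeι = (U : Set S)ᶜ := by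
    rw [Scheme.IdealSheafData.range_subschemeι, hI,
      Scheme.IdealSheafData.coe_support_vanishingIdeal, hZc]
  have hdesc_inl : ∀ t : j.image, (coprod.desc π₂ I.subschemeι)
      ((coprod.inl : j.image ⟶ j.image ⨿ I.subscheme) t) = π₂ t := by
    intro t
    rw [← Scheme.Hom.comp_apply, coprod.inl_desc]
  have hdesc_inr : ∀ z : I.subscheme, (coprod.desc π₂ I.subschemeι)
      ((coprod.inr : I.subscheme ⟶ j.image ⨿ I.subscheme) z) = I.subschemeι z := by
    intro z
    rw [← Scheme.Hom.comp_apply, coprod.inr_desc]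
  have hπ₂j : ∀ x : V, π₂ (j.toImage x) = U.ι (v x) := by
    intro x
    rw [← Scheme.Hom.comp_apply, ← Scheme.Hom.comp_apply, hfac₂]
  refine ⟨j.image ⨿ I.subscheme, coprod.desc π₂ I.subschemeι, j.toImage ≫ coprod.inl, ?_,
    inferInstance, ?_⟩
  · refine ⟨fun s => ?_⟩
    by_cases hs : s ∈ U
    · obtain ⟨x, hx⟩ := v.surjective ⟨s, hs⟩
      refine ⟨(coprod.inl : j.image ⟶ j.image ⨿ I.subscheme) (j.toImage x), ?_⟩
      rw [hdesc_inl, hπ₂j, hx]
      rfl
    · obtain ⟨z, hz⟩ : s ∈ Set.range I.subschemeι := by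
        rw [hIrange]
        exact hs
      exact ⟨(coprod.inr : I.subscheme ⟶ j.image ⨿ I.subscheme) z, by rw [hdesc_inr, hz]⟩
  · refine (IsOpenImmersion.isPullback v (j.toImage ≫ coprod.inl) U.ι
      (coprod.desc π₂ I.subschemeι) ?_ ?_).flip
    · rw [Category.assoc, coprod.inl_desc, hfac₂]
    · refine TopologicalSpace.Opens.ext ?_
      rw [Scheme.Opens.opensRange_ι]
      show (coprod.desc π₂ I.subschemeι) ⁻¹' (U : Set S) =
        Set.range (j.toImage ≫ (coprod.inl : j.image ⟶ j.image ⨿ I.subscheme))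
      ext y
      constructor
      · intro hy
        have hy' : (coprod.desc π₂ I.subschemeι) y ∈ U := hy
        have hcases : y ∈ Set.range (coprod.inl : j.image ⟶ j.image ⨿ I.subscheme) ∪
            Set.range (coprod.inr : I.subscheme ⟶ j.image ⨿ I.subscheme) := by
          have h0 := (isCompl_range_inl_inr j.image I.subscheme).sup_eq_top
          have h1 : y ∈ (⊤ : Set ↥(j.image ⨿ I.subscheme)) := trivial
          rw [← h0] at h1
          exact h1
        rcases hcases with ⟨t, rfl⟩ | ⟨z, rfl⟩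
        · rw [hdesc_inl] at hy'
          have ht : t ∈ Set.range j.toImage := by
            rw [hrange]
            exact hy'
          obtain ⟨x, rfl⟩ := ht
          exact ⟨x, by rw [Scheme.Hom.comp_apply]⟩
        · exfalso
          rw [hdesc_inr] at hy'
          have : I.subschemeι z ∈ (U : Set S)ᶜ := by
            rw [← hIrange]
            exact ⟨z, rfl⟩
          exact this hy'
      · rintro ⟨x, rfl⟩
        show (coprod.desc π₂ I.subschemeι) ((j.toImage ≫ coprod.inl) x) ∈ U
        rw [Scheme.Hom.comp_apply, hdesc_inl, hπ₂j]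
        exact (v x).2

end Groth.Agent.Lib.FinExtH7
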