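import Mathlib
import Groth.Prelude
import Groth.Agent.Lib.FinExt_helper7

/-!
# Extending finite morphisms from a quasi-compact open of an affine scheme (S16574)
-/

set_option backward.isDefEq.respectTransparency false
set_option autoImplicit false
set_option linter.style.haveILetI false
universe u
open CategoryTheory CategoryTheory.Limits AlgebraicGeometry TopologicalSpace Opposite

namespace Groth.Agent.Lib.FinExtH7
open Groth.Agent.Lib.ZMTFinH7

theorem main16574 (A : Type u) [CommRing A] (U : (Spec (CommRingCat.of A)).Opens)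
    (hU : IsCompact (U : Set (Spec (CommRingCat.of A)))) (U' : Scheme.{u})
    (g : U' ⟶ (U : Scheme.{u})) [IsFinite g] :
    ∃ (B : Type u) (_ : CommRing B) (_ : Algebra A B) (i : U' ⟶ Spec (CommRingCat.of B)),
      Module.Finite A B ∧
        IsPullback i g (Spec.map (CommRingCat.ofHom (algebraMap A B))) U.ι := by
  haveI : CompactSpace ↥(U : Scheme.{u}) := isCompact_iff_compactSpace.mp hU
  haveI : QuasiCompact U.ι := quasiCompact_of_compactSpace U.ι
  haveI : LocallyQuasiFinite (g ≫ U.ι) := inferInstance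
  obtain ⟨T, j, π, hj, hjqc, hπ, hfac⟩ := main0385 (g ≫ U.ι)
  haveI := hj
  haveI := hjqc
  haveI := hπ
  haveI : IsOpenImmersion j.toImage := inferInstance
  obtain ⟨π₂, hπ₂⟩ : ∃ π₂ : j.image ⟶ Spec (CommRingCat.of A), π₂ = j.imageι ≫ π := ⟨_, rfl⟩
  haveI : IsFinite π₂ := by
    rw [hπ₂]
    infer_instance
  have hfac₂ : j.toImage ≫ π₂ = g ≫ U.ι := by
    rw [hπ₂, ← Category.assoc, j.toImage_imageι, hfac]
  have hdense : Dense (Set.range j.toImage) := j.toImage.denseRange
  have hrange := range_eq_preimage U g j.toImage hdense π₂ hfac₂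
  have P0 : IsPullback j.toImage g π₂ U.ι := by
    refine (IsOpenImmersion.isPullback g j.toImage U.ι π₂ hfac₂ ?_).flip
    refine TopologicalSpace.Opens.ext ?_
    rw [Scheme.Opens.opensRange_ι]
    exact hrange.symm
  haveI : IsAffine j.image := isAffine_of_isAffineHom π₂
  obtain ⟨ψ, hψ⟩ : ∃ ψ : CommRingCat.of A ⟶ Γ(j.image, ⊤),
      Spec.map ψ = j.image.isoSpec.inv ≫ π₂ :=
    ⟨Spec.preimage (j.image.isoSpec.inv ≫ π₂), Spec.map_preimage _⟩
  have hfin : ψ.hom.Finite := by
    have : IsFinite (Spec.map ψ) := by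
      rw [hψ]
      infer_instance
    exact (IsFinite.SpecMap_iff ψ).mp this
  letI : Algebra A Γ(j.image, ⊤) := ψ.hom.toAlgebra
  refine ⟨Γ(j.image, ⊤), inferInstance, inferInstance, j.toImage ≫ j.image.isoSpec.hom, hfin, ?_⟩
  show IsPullback (j.toImage ≫ j.image.isoSpec.hom) g (Spec.map ψ) U.ι
  exact IsPullback.of_iso P0 (Iso.refl _) (j.image.isoSpec) (Iso.refl _) (Iso.refl _)
    (by simp) (by simp) (by simp [hψ]) (by simp)

end Groth.Agent.Lib.FinExtH7
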