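import Mathlib

/-!
# S1834 support, part 1: dimension one, lengths, and a homogeneous relation with a unit coefficient

For a Noetherian local ring `R` of dimension one and a nonzerodivisor `a` in the maximal ideal,
and any `b`, there is a homogeneous relation `∑ u i * a^i * b^(e-i) = 0` with some `u j` a unit.
-/

namespace Groth.Agent.Lib.FinExtPrinH1

open IsLocalRing

universe u

section dim

variable {R : Type u} [CommRing R] [IsNoetherianRing R]

theorem isArtinianRing_quot (hR : ringKrullDim R = 1) {d : R} (hd : d ∈ nonZeroDivisors R) :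
    IsArtinianRing (R ⧸ Ideal.span {d}) := by
  have h := ringKrullDim_quotient_succ_le_of_nonZeroDivisor hd
  rw [hR] at h
  have h0 : ringKrullDim (R ⧸ Ideal.span {d}) ≤ 0 := by
    generalize ringKrullDim (R ⧸ Ideal.span {d}) = x at h
    induction x using WithBot.recBotCoe with
    | bot => exact bot_le
    | coe x =>
      have h' : ((x + 1 : ℕ∞) : WithBot ℕ∞) ≤ ((1 : ℕ∞) : WithBot ℕ∞) := by exact_mod_cast h
      rw [WithBot.coe_le_coe] at h'
      have hx0 : x = 0 := by
        induction x using ENat.recTopCoe with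
        | top => simp at h'
        | coe n =>
          have : n + 1 ≤ 1 := by exact_mod_cast h'
          have : n = 0 := by omega
          subst this; rfl
      subst hx0
      exact le_rfl
  haveI : Ring.KrullDimLE 0 (R ⧸ Ideal.span {d}) := Ring.krullDimLE_iff.mpr (by exact_mod_cast h0)
  exact IsNoetherianRing.isArtinianRing_of_krullDimLE_zero

theorem length_quot_span_ne_top (hR : ringKrullDim R = 1) {d : R} (hd : d ∈ nonZeroDivisors R) :
    Module.length R (R ⧸ Ideal.span {d}) ≠ ⊤ := by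
  haveI := isArtinianRing_quot hR hd
  rw [Module.length_eq_of_surjective (S := R) (R := R ⧸ Ideal.span {d})
    (M := R ⧸ Ideal.span {d}) Ideal.Quotient.mk_surjective]
  exact Module.length_ne_top

theorem length_quot_anti {M : Type*} [AddCommGroup M] [Module R M] {K K' : Submodule R M}
    (h : K ≤ K') : Module.length R (M ⧸ K') ≤ Module.length R (M ⧸ K) := by
  rw [Module.length_quotient, Module.length_quotient]
  exact Order.coheight_anti h

theorem length_quot_add_one_le {M : Type*} [AddCommGroup M] [Module R M] {K K' : Submodule R M}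
    (h : K < K') : Module.length R (M ⧸ K') + 1 ≤ Module.length R (M ⧸ K) := by
  rw [Module.length_quotient, Module.length_quotient]
  exact Order.coheight_add_one_le h

theorem length_quot_ne_top_of_mem (hR : ringKrullDim R = 1) {d : R} (hd : d ∈ nonZeroDivisors R)
    (K : Ideal R) (hdK : d ∈ K) : Module.length R (R ⧸ K) ≠ ⊤ := by
  have hle : Ideal.span {d} ≤ K := (Ideal.span_singleton_le_iff_mem K).mpr hdK
  exact ne_top_of_le_ne_top (length_quot_span_ne_top hR hd) (length_quot_anti hle)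

theorem exists_pow_le_span [IsLocalRing R] (hR : ringKrullDim R = 1) {d : R}
    (hd : d ∈ nonZeroDivisors R) : ∃ n : ℕ, maximalIdeal R ^ n ≤ Ideal.span {d} := by
  haveI := isArtinianRing_quot hR hd
  obtain ⟨n, hn⟩ := IsArtinianRing.isNilpotent_jacobson_bot (R := R ⧸ Ideal.span {d})
  refine ⟨n, ?_⟩
  have hle : (maximalIdeal R).map (Ideal.Quotient.mk (Ideal.span {d})) ≤
      (⊥ : Ideal (R ⧸ Ideal.span {d})).jacobson := by
    rw [Ideal.jacobson]
    refine le_sInf ?_
    rintro J ⟨-, hJ⟩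
    rw [Ideal.map_le_iff_le_comap]
    haveI := hJ
    have hc : (J.comap (Ideal.Quotient.mk (Ideal.span {d}))).IsMaximal :=
      Ideal.comap_isMaximal_of_surjective _ Ideal.Quotient.mk_surjective
    rw [IsLocalRing.eq_maximalIdeal hc]
  have h2 : (maximalIdeal R ^ n).map (Ideal.Quotient.mk (Ideal.span {d})) ≤ ⊥ := by
    rw [Ideal.map_pow]
    calc _ ≤ (⊥ : Ideal (R ⧸ Ideal.span {d})).jacobson ^ n := Ideal.pow_right_mono hle n
      _ = ⊥ := hn
  rw [Ideal.map_le_iff_le_comap] at h2
  intro x hx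
  have := h2 hx
  rw [Ideal.mem_comap, Ideal.mem_bot, Ideal.Quotient.eq_zero_iff_mem] at this
  exact this

/-- `length (R/(aJ)) = length (R/J) + length (R/(a))` for a nonzerodivisor `a`. -/
theorem length_quot_mul (a : R) (ha : a ∈ nonZeroDivisors R) (J : Ideal R) :
    Module.length R (R ⧸ (Ideal.span {a} * J)) =
      Module.length R (R ⧸ J) + Module.length R (R ⧸ Ideal.span {a}) := by
  have hJker : J ≤ LinearMap.ker ((Submodule.mkQ (Ideal.span {a} * J)).comp
      (LinearMap.mulLeft R a)) := by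
    intro x hx
    rw [LinearMap.mem_ker, LinearMap.comp_apply, LinearMap.mulLeft_apply, Submodule.mkQ_apply,
      Submodule.Quotient.mk_eq_zero]
    exact Ideal.mul_mem_mul (Ideal.mem_span_singleton_self a) hx
  let f : (R ⧸ J) →ₗ[R] (R ⧸ (Ideal.span {a} * J)) :=
    Submodule.liftQ J ((Submodule.mkQ (Ideal.span {a} * J)).comp (LinearMap.mulLeft R a)) hJker
  have hle : Ideal.span {a} * J ≤ Submodule.comap (LinearMap.id : R →ₗ[R] R) (Ideal.span {a}) := by
    intro x hx
    exact Ideal.mul_le_left hx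
  let g : (R ⧸ (Ideal.span {a} * J)) →ₗ[R] (R ⧸ Ideal.span {a}) :=
    Submodule.mapQ (Ideal.span {a} * J) (Ideal.span {a}) LinearMap.id hle
  have hf : Function.Injective f := by
    rw [← LinearMap.ker_eq_bot]
    refine Submodule.ker_liftQ_eq_bot _ _ _ ?_
    intro x hx
    rw [LinearMap.mem_ker, LinearMap.comp_apply, LinearMap.mulLeft_apply, Submodule.mkQ_apply,
      Submodule.Quotient.mk_eq_zero] at hx
    obtain ⟨z, hz, hzx⟩ := Ideal.mem_span_singleton_mul.mp hx
    have : z = x := (mul_cancel_left_mem_nonZeroDivisors ha).mp hzx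
    rw [← this]; exact hz
  have hg : Function.Surjective g := by
    intro y
    obtain ⟨x, rfl⟩ := Submodule.Quotient.mk_surjective _ y
    exact ⟨Submodule.Quotient.mk x, by rw [Submodule.mapQ_apply]; rfl⟩
  have hex : Function.Exact f g := by
    intro y
    obtain ⟨r, rfl⟩ := Submodule.Quotient.mk_surjective _ y
    constructor
    · intro hy
      rw [Submodule.mapQ_apply, LinearMap.id_apply, Submodule.Quotient.mk_eq_zero] at hy
      obtain ⟨s, rfl⟩ := Ideal.mem_span_singleton'.mp hy
      refine ⟨Submodule.Quotient.mk s, ?_⟩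
      rw [Submodule.liftQ_apply, LinearMap.comp_apply, LinearMap.mulLeft_apply,
        Submodule.mkQ_apply]
      exact congrArg _ (mul_comm a s)
    · rintro ⟨z, hz⟩
      obtain ⟨s, rfl⟩ := Submodule.Quotient.mk_surjective _ z
      rw [← hz, Submodule.liftQ_apply, LinearMap.comp_apply, LinearMap.mulLeft_apply,
        Submodule.mkQ_apply, Submodule.mapQ_apply, LinearMap.id_apply,
        Submodule.Quotient.mk_eq_zero]
      exact Ideal.mul_mem_right _ _ (Ideal.mem_span_singleton_self a)
  exact Module.length_eq_add_of_exact f g hf hg hex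

end dim

section chain

variable {R : Type u} [CommRing R] [IsLocalRing R]

/-- the linear map `c ↦ ∑ c i * (a^i * b^(e-i))`. -/
noncomputable def F (a b : R) (e : ℕ) : (Fin (e + 1) → R) →ₗ[R] R where
  toFun c := ∑ i, c i * (a ^ (i : ℕ) * b ^ (e - i))
  map_add' c c' := by simp [add_mul, Finset.sum_add_distrib]
  map_smul' r c := by simp [Finset.mul_sum, mul_assoc]

/-- coefficient vectors whose entries of index `≥ j` lie in the maximal ideal. -/
def W (R : Type u) [CommRing R] [IsLocalRing R] (e j : ℕ) : Submodule R (Fin (e + 1) → R) where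
  carrier := {c | ∀ i : Fin (e + 1), j ≤ (i : ℕ) → c i ∈ maximalIdeal R}
  add_mem' := fun hc hc' i hi => Ideal.add_mem _ (hc i hi) (hc' i hi)
  zero_mem' := fun _ _ => Ideal.zero_mem _
  smul_mem' := fun r _ hc i hi => Ideal.mul_mem_left _ r (hc i hi)

/-- the chain of ideals between `m J` and `J`. -/
noncomputable def K (a b : R) (e j : ℕ) : Ideal R := (W R e j).map (F a b e)

theorem K_mono (a b : R) (e : ℕ) {j j' : ℕ} (h : j ≤ j') : K a b e j ≤ K a b e j' :=
  Submodule.map_mono (fun _ hc i hi => hc i (h.trans hi))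

theorem F_single (a b : R) (e : ℕ) (i : Fin (e + 1)) :
    F a b e (Pi.single i 1) = a ^ (i : ℕ) * b ^ (e - i) := by
  classical
  show ∑ k, (Pi.single i (1 : R) : Fin (e + 1) → R) k * (a ^ (k : ℕ) * b ^ (e - k)) = _
  rw [Finset.sum_eq_single i]
  · rw [Pi.single_eq_same, one_mul]
  · intro k _ hk
    rw [Pi.single_eq_of_ne hk, zero_mul]
  · intro h; exact absurd (Finset.mem_univ i) h

theorem pow_mem_K (a b : R) (e : ℕ) : a ^ e ∈ K a b e (e + 1) := by
  refine ⟨Pi.single (Fin.last e) 1, ?_, ?_⟩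
  · intro i hi
    exact absurd i.is_lt (by omega)
  · rw [F_single]; simp

theorem mul_K_le (a b : R) (e : ℕ) (ham : a ∈ maximalIdeal R) :
    Ideal.span {a} * K a b e (e + 1) ≤ K a b e 0 := by
  rw [Ideal.mul_le]
  intro r hr s hs
  obtain ⟨t, rfl⟩ := Ideal.mem_span_singleton'.mp hr
  obtain ⟨c, _, rfl⟩ := hs
  refine ⟨(t * a) • c, ?_, by rw [map_smul, smul_eq_mul]⟩
  intro i _
  show (t * a) * c i ∈ maximalIdeal R
  exact Ideal.mul_mem_right _ _ (Ideal.mul_mem_left _ _ ham)

theorem exists_of_le (a b : R) (e : ℕ) {j : ℕ} (hj : j ≤ e) (h : K a b e (j + 1) ≤ K a b e j) :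
    ∃ u : Fin (e + 1) → R, IsUnit (u ⟨j, Nat.lt_succ_of_le hj⟩) ∧ F a b e u = 0 := by
  classical
  have hs : Pi.single (⟨j, Nat.lt_succ_of_le hj⟩ : Fin (e + 1)) (1 : R) ∈ W R e (j + 1) := by
    intro i hi
    have hne : i ≠ ⟨j, Nat.lt_succ_of_le hj⟩ := by
      intro hij
      rw [hij] at hi
      simp at hi
    rw [Pi.single_eq_of_ne hne]
    exact Ideal.zero_mem _
  obtain ⟨c, hc, hFc⟩ := h (Submodule.mem_map_of_mem hs)
  refine ⟨Pi.single (⟨j, Nat.lt_succ_of_le hj⟩ : Fin (e + 1)) (1 : R) - c, ?_, ?_⟩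
  · rw [Pi.sub_apply, Pi.single_eq_same]
    exact isUnit_one_sub_self_of_mem_nonunits _ ((IsLocalRing.mem_maximalIdeal _).mp (hc _ le_rfl))
  · rw [map_sub, hFc, sub_self]

theorem exists_relation_fin [IsNoetherianRing R] (hR : ringKrullDim R = 1) (a b : R)
    (ha : a ∈ nonZeroDivisors R) (ham : a ∈ maximalIdeal R) :
    ∃ (e : ℕ) (u : Fin (e + 1) → R) (j : Fin (e + 1)), IsUnit (u j) ∧
      ∑ i, u i * (a ^ (i : ℕ) * b ^ (e - i)) = 0 := by
  have hL := length_quot_span_ne_top hR ha
  obtain ⟨e, heL⟩ : ∃ e : ℕ, (e : ℕ∞) = Module.length R (R ⧸ Ideal.span {a}) :=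
    ⟨_, ENat.natCast_toNat hL⟩
  by_contra hcon
  push_neg at hcon
  have hstrict : ∀ j, j ≤ e → K a b e j < K a b e (j + 1) := by
    intro j hj
    refine lt_of_le_not_ge (K_mono a b e (Nat.le_succ j)) (fun h => ?_)
    obtain ⟨u, hu, hFu⟩ := exists_of_le a b e hj h
    exact hcon e u _ hu hFu
  have hind : ∀ j, j ≤ e + 1 →
      Module.length R (R ⧸ K a b e j) + (j : ℕ∞) ≤ Module.length R (R ⧸ K a b e 0) := by
    intro j
    induction j with
    | zero => intro _; simp
    | succ j ih =>
      intro hj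
      have h1 := length_quot_add_one_le (hstrict j (by omega))
      have h2 := ih (by omega)
      calc Module.length R (R ⧸ K a b e (j + 1)) + ((j + 1 : ℕ) : ℕ∞)
          = (Module.length R (R ⧸ K a b e (j + 1)) + 1) + (j : ℕ∞) := by push_cast; ring
        _ ≤ Module.length R (R ⧸ K a b e j) + (j : ℕ∞) := by gcongr
        _ ≤ _ := h2
  have hfin : Module.length R (R ⧸ K a b e (e + 1)) ≠ ⊤ :=
    length_quot_ne_top_of_mem hR (pow_mem ha e) _ (pow_mem_K a b e)
  have h3 := hind (e + 1) le_rfl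
  have h4 : Module.length R (R ⧸ K a b e 0) ≤
      Module.length R (R ⧸ (Ideal.span {a} * K a b e (e + 1))) :=
    length_quot_anti (mul_K_le a b e ham)
  rw [length_quot_mul a ha] at h4
  have h5 := h3.trans h4
  rw [← heL] at h5
  generalize Module.length R (R ⧸ K a b e (e + 1)) = x at h5 hfin
  lift x to ℕ using hfin
  have : x + (e + 1) ≤ x + e := by exact_mod_cast h5
  omega

theorem exists_relation [IsNoetherianRing R] (hR : ringKrullDim R = 1) (a b : R)
    (ha : a ∈ nonZeroDivisors R) (ham : a ∈ maximalIdeal R) :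
    ∃ (e : ℕ) (u : ℕ → R) (j : ℕ), j ≤ e ∧ IsUnit (u j) ∧
      ∑ i ∈ Finset.range (e + 1), u i * (a ^ i * b ^ (e - i)) = 0 := by
  obtain ⟨e, u, j, hu, h⟩ := exists_relation_fin hR a b ha ham
  refine ⟨e, fun n => if h : n < e + 1 then u ⟨n, h⟩ else 0, j, Nat.lt_succ_iff.mp j.is_lt, ?_, ?_⟩
  · show IsUnit (if h : (j : ℕ) < e + 1 then u ⟨j, h⟩ else 0)
    rw [dif_pos j.is_lt]
    exact hu
  · rw [Finset.sum_range]
    refine Eq.trans ?_ h
    refine Finset.sum_congr rfl fun i _ => ?_
    show (if h : (i : ℕ) < e + 1 then u ⟨i, h⟩ else 0) * _ = _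
    rw [dif_pos i.is_lt]

end chain

end Groth.Agent.Lib.FinExtPrinH1
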