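import Mathlib

/-!
# S1834 support, part 2: the integrality lemma from Zariski's main theorem

If `∑_{i ≤ e} u_i c^i = 0` then all the partial sums `y_r = ∑_{i ≥ r} u_i c^(i-r)` are integral.
-/

namespace Groth.Agent.Lib.FinExtPrinH1

open Polynomial

section integral

variable {R S : Type*} [CommRing R] [CommRing S] [Algebra R S]

theorem isIntegral_mul_of_rel (c y : S) (hy : IsIntegral R y) (n : ℕ) (w : Fin (n + 1) → R)
    (h : c ^ (n + 1) * y + ∑ i : Fin (n + 1), algebraMap R S (w i) * c ^ (i : ℕ) = 0) :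
    IsIntegral R (c * y) := by
  have hy' : algebraMap (integralClosure R S) S ⟨y, hy⟩ = y := rfl
  have hmonic : (X ^ (n + 1) + ∑ i : Fin (n + 1),
      C (algebraMap R (integralClosure R S) (w i) * (⟨y, hy⟩ : integralClosure R S) ^ (n - i)) *
        X ^ (i : ℕ) : (integralClosure R S)[X]).Monic :=
    monic_X_pow_add (degree_sum_fin_lt _)
  have hterm : ∀ i : Fin (n + 1), aeval (c * y)
      (C (algebraMap R (integralClosure R S) (w i) * (⟨y, hy⟩ : integralClosure R S) ^ (n - i)) *
        X ^ (i : ℕ) : (integralClosure R S)[X]) = y ^ n * (algebraMap R S (w i) * c ^ (i : ℕ)) := by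
    intro i
    have hpow : y ^ n = y ^ (n - i) * y ^ (i : ℕ) := by
      rw [← pow_add, Nat.sub_add_cancel (Nat.lt_succ_iff.mp i.is_lt)]
    rw [map_mul, map_pow, aeval_X, aeval_C, map_mul, map_pow, hy',
      ← IsScalarTower.algebraMap_apply, hpow]
    ring
  have heval : aeval (c * y) (X ^ (n + 1) + ∑ i : Fin (n + 1),
      C (algebraMap R (integralClosure R S) (w i) * (⟨y, hy⟩ : integralClosure R S) ^ (n - i)) *
        X ^ (i : ℕ) : (integralClosure R S)[X]) = 0 := by
    rw [map_add, map_pow, aeval_X, map_sum]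
    simp_rw [hterm]
    rw [← Finset.mul_sum]
    have : (c * y) ^ (n + 1) = y ^ n * (c ^ (n + 1) * y) := by ring
    rw [this, ← mul_add, h, mul_zero]
  exact isIntegral_trans (A := integralClosure R S) _ ⟨_, hmonic, by rw [← aeval_def]; exact heval⟩

/-- `y_r = ∑_{i < e+1-r} u_{r+i} c^i`. -/
noncomputable def yv (u : ℕ → R) (c : S) (e r : ℕ) : S :=
  ∑ i ∈ Finset.range (e + 1 - r), algebraMap R S (u (r + i)) * c ^ i

theorem yv_rel (u : ℕ → R) (c : S) (e r : ℕ) (hr : r ≤ e + 1) :
    c ^ r * yv u c e r + ∑ i ∈ Finset.range r, algebraMap R S (u i) * c ^ i =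
      ∑ i ∈ Finset.range (e + 1), algebraMap R S (u i) * c ^ i := by
  have he : r + (e + 1 - r) = e + 1 := by omega
  have key : ∀ f : ℕ → S, ∑ i ∈ Finset.range (e + 1), f i =
      ∑ i ∈ Finset.range r, f i + ∑ i ∈ Finset.range (e + 1 - r), f (r + i) := by
    intro f
    rw [← Finset.sum_range_add, he]
  rw [key, add_comm]
  congr 1
  rw [yv, Finset.mul_sum]
  refine Finset.sum_congr rfl fun i _ => ?_
  rw [pow_add]; ring

theorem yv_step (u : ℕ → R) (c : S) (e r : ℕ) (hr : r ≤ e) :
    yv u c e r = c * yv u c e (r + 1) + algebraMap R S (u r) := by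
  have he : e + 1 - r = (e + 1 - (r + 1)) + 1 := by omega
  have h1 : yv u c e r = ∑ i ∈ Finset.range ((e + 1 - (r + 1)) + 1),
      algebraMap R S (u (r + i)) * c ^ i := by
    rw [yv, he]
  rw [h1, Finset.sum_range_succ', yv, Finset.mul_sum]
  simp only [add_zero, pow_zero, mul_one]
  congr 1
  refine Finset.sum_congr rfl fun i _ => ?_
  rw [show r + (i + 1) = r + 1 + i by omega, pow_succ]
  ring

theorem yv_zero (u : ℕ → R) (c : S) (e : ℕ)
    (h : ∑ i ∈ Finset.range (e + 1), algebraMap R S (u i) * c ^ i = 0) : yv u c e 0 = 0 := by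
  have := yv_rel u c e 0 (by omega)
  rw [h] at this
  simpa using this

theorem yv_isIntegral (u : ℕ → R) (c : S) (e : ℕ)
    (h : ∑ i ∈ Finset.range (e + 1), algebraMap R S (u i) * c ^ i = 0) :
    ∀ r, IsIntegral R (yv u c e r) := by
  have main : ∀ s r, r + s = e → IsIntegral R (yv u c e r) := by
    intro s
    induction s with
    | zero =>
      intro r hr
      have hre : r = e := by omega
      rw [hre, yv, show e + 1 - e = 1 by omega, Finset.sum_range_one]
      simp only [add_zero, pow_zero, mul_one]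
      exact isIntegral_algebraMap
    | succ s ih =>
      intro r hr
      have h1 := ih (r + 1) (by omega)
      rw [yv_step u c e r (by omega)]
      refine IsIntegral.add ?_ isIntegral_algebraMap
      refine isIntegral_mul_of_rel c _ h1 r (fun i => u i) ?_
      have := yv_rel u c e (r + 1) (by omega)
      rw [h, Finset.sum_range] at this
      exact this
  intro r
  by_cases hr : r ≤ e
  · exact main (e - r) r (by omega)
  · rw [yv, show e + 1 - r = 0 by omega, Finset.sum_range_zero]
    exact isIntegral_zero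

end integral

section data

theorem pow_aux {Q : Type*} [CommRing Q] (α β βi : Q) (hβ : β * βi = 1) {i e : ℕ} (hi : i ≤ e) :
    α ^ i * β ^ (e - i) * βi ^ e = (α * βi) ^ i := by
  obtain ⟨k, rfl⟩ := Nat.exists_eq_add_of_le hi
  rw [Nat.add_sub_cancel_left]
  calc α ^ i * β ^ k * βi ^ (i + k) = (α * βi) ^ i * (β * βi) ^ k := by
        rw [mul_pow, mul_pow, pow_add]; ring
    _ = (α * βi) ^ i := by rw [hβ, one_pow, mul_one]

theorem exists_integral_data {R Q : Type*} [CommRing R] [CommRing Q] [Algebra R Q]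
    (α β βi : Q) (hβ : β * βi = 1) (e : ℕ) (u : ℕ → R) (j : ℕ) (hj : j ≤ e)
    (hrel : ∑ i ∈ Finset.range (e + 1), algebraMap R Q (u i) * (α ^ i * β ^ (e - i)) = 0) :
    ∃ p q v w : Q, IsIntegral R p ∧ IsIntegral R q ∧ IsIntegral R v ∧ IsIntegral R w ∧
      v + w = - algebraMap R Q (u j) ∧ β * v = α * p ∧ α * w = β * q := by
  have hpc : ∑ i ∈ Finset.range (e + 1), algebraMap R Q (u i) * (α * βi) ^ i = 0 := by
    have : ∑ i ∈ Finset.range (e + 1), algebraMap R Q (u i) * (α * βi) ^ i =
        (∑ i ∈ Finset.range (e + 1), algebraMap R Q (u i) * (α ^ i * β ^ (e - i))) * βi ^ e := by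
      rw [Finset.sum_mul]
      refine Finset.sum_congr rfl fun i hi => ?_
      have hi' : i ≤ e := Nat.lt_succ_iff.mp (Finset.mem_range.mp hi)
      rw [mul_assoc, pow_aux α β βi hβ hi']
    rw [this, hrel, zero_mul]
  have hint := yv_isIntegral u (α * βi) e hpc
  have hstep := yv_step u (α * βi) e j hj
  have hv : α * βi * yv u (α * βi) e (j + 1) = yv u (α * βi) e j - algebraMap R Q (u j) := by
    rw [hstep]; ring
  refine ⟨yv u (α * βi) e (j + 1), α * βi * (- yv u (α * βi) e j),
    α * βi * yv u (α * βi) e (j + 1), - yv u (α * βi) e j, hint _, ?_, ?_, (hint j).neg, ?_, ?_, ?_⟩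
  · rcases j with _ | j'
    · rw [yv_zero u (α * βi) e hpc, neg_zero, mul_zero]
      exact isIntegral_zero
    · have h2 := yv_step u (α * βi) e j' (by omega)
      have : α * βi * (- yv u (α * βi) e (j' + 1)) =
          - (yv u (α * βi) e j' - algebraMap R Q (u j')) := by
        rw [h2]; ring
      rw [this]
      exact ((hint j').sub isIntegral_algebraMap).neg
  · rw [hv]
    exact (hint j).sub isIntegral_algebraMap
  · rw [hv]; ring
  · calc β * (α * βi * yv u (α * βi) e (j + 1))
        = α * yv u (α * βi) e (j + 1) * (β * βi) := by ring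
      _ = α * yv u (α * βi) e (j + 1) := by rw [hβ, mul_one]
  · calc α * (- yv u (α * βi) e j) = α * (- yv u (α * βi) e j) * (β * βi) := by rw [hβ, mul_one]
      _ = β * (α * βi * (- yv u (α * βi) e j)) := by ring

end data

end Groth.Agent.Lib.FinExtPrinH1
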