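import Mathlib
import Groth.Prelude.Def_CycAlg
import Groth.Agent.Lib.FinExtPrin1_helper1
import Groth.Agent.Lib.FinExtPrin2_helper1

/-!
# S1834: common factor of two nonzerodivisors after a finite birational extension
-/

namespace Groth.Agent.Lib.FinExtPrinH1

open IsLocalRing

universe u

/-- In a ring with finitely many maximal ideals, if `(a, b)` is "invertible" in the explicit form
`v + w` unit, `b v = a p`, `a w = b q`, then `a` and `b` are multiples of some `t = x a + y b`. -/
theorem exists_common_factor_of_semilocal {S : Type*} [CommRing S]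
    (hfin : {n : Ideal S | n.IsMaximal}.Finite)
    (a b p q v w : S) (hu : IsUnit (v + w)) (h1 : b * v = a * p) (h2 : a * w = b * q) :
    ∃ x y a' b' : S, a = (x * a + y * b) * a' ∧ b = (x * a + y * b) * b' := by
  classical
  haveI : Finite {n : Ideal S | n.IsMaximal} := hfin.to_subtype
  have hI : Pairwise (Function.onFun IsCoprime
      fun i : {n : Ideal S | n.IsMaximal} => (i : Ideal S)) := by
    intro i j hij
    show IsCoprime (i : Ideal S) (j : Ideal S)
    haveI : (i : Ideal S).IsMaximal := i.2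
    haveI : (j : Ideal S).IsMaximal := j.2
    exact Ideal.isCoprime_of_isMaximal (fun h => hij (Subtype.ext h))
  obtain ⟨x, hx⟩ := Ideal.exists_forall_sub_mem_ideal hI
    (fun n => if v ∈ (n : Ideal S) then 0 else 1)
  obtain ⟨y, hy⟩ := Ideal.exists_forall_sub_mem_ideal hI
    (fun n => if v ∈ (n : Ideal S) then 1 else 0)
  obtain ⟨t, ht⟩ : ∃ t, t = x * a + y * b := ⟨_, rfl⟩
  have key : ∀ M : Ideal S, M.IsMaximal →
      ∃ s, s ∉ M ∧ s * a ∈ Ideal.span {t} ∧ s * b ∈ Ideal.span {t} := by
    intro M hM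
    have hxM : x - (if v ∈ M then 0 else 1) ∈ M := hx ⟨M, hM⟩
    have hyM : y - (if v ∈ M then 1 else 0) ∈ M := hy ⟨M, hM⟩
    by_cases hv : v ∈ M
    · rw [if_pos hv] at hxM hyM
      rw [sub_zero] at hxM
      have hw : w ∉ M := fun hw =>
        hM.ne_top (Ideal.eq_top_of_isUnit_mem _ (M.add_mem hv hw) hu)
      have hwt : w * t = b * (x * q + y * w) := by rw [ht]; linear_combination x * h2
      refine ⟨(x * q + y * w) * w, ?_, ?_, ?_⟩
      · intro hmem
        rcases hM.isPrime.mem_or_mem hmem with h | h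
        · apply hw
          have : w = (x * q + y * w) - x * q - (y - 1) * w := by ring
          rw [this]
          exact M.sub_mem (M.sub_mem h (M.mul_mem_right _ hxM)) (M.mul_mem_right _ hyM)
        · exact hw h
      · rw [Ideal.mem_span_singleton']
        exact ⟨w * q, by linear_combination q * hwt - (x * q + y * w) * h2⟩
      · rw [Ideal.mem_span_singleton']
        exact ⟨w * w, by linear_combination w * hwt⟩
    · rw [if_neg hv] at hxM hyM
      rw [sub_zero] at hyM
      have hvt : v * t = a * (x * v + y * p) := by rw [ht]; linear_combination y * h1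
      refine ⟨(x * v + y * p) * v, ?_, ?_, ?_⟩
      · intro hmem
        rcases hM.isPrime.mem_or_mem hmem with h | h
        · apply hv
          have : v = (x * v + y * p) - (x - 1) * v - y * p := by ring
          rw [this]
          exact M.sub_mem (M.sub_mem h (M.mul_mem_right _ hxM)) (M.mul_mem_right _ hyM)
        · exact hv h
      · rw [Ideal.mem_span_singleton']
        exact ⟨v * v, by linear_combination v * hvt⟩
      · rw [Ideal.mem_span_singleton']
        exact ⟨v * p, by linear_combination p * hvt - (x * v + y * p) * h1⟩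
  let cc : Ideal S :=
    { carrier := {s | s * a ∈ Ideal.span {t} ∧ s * b ∈ Ideal.span {t}}
      add_mem' := fun h h' =>
        ⟨by rw [add_mul]; exact Ideal.add_mem _ h.1 h'.1,
         by rw [add_mul]; exact Ideal.add_mem _ h.2 h'.2⟩
      zero_mem' := ⟨by rw [zero_mul]; exact Ideal.zero_mem _,
        by rw [zero_mul]; exact Ideal.zero_mem _⟩
      smul_mem' := fun c s h =>
        ⟨by rw [smul_eq_mul, mul_assoc]; exact Ideal.mul_mem_left _ _ h.1,
         by rw [smul_eq_mul, mul_assoc]; exact Ideal.mul_mem_left _ _ h.2⟩ }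
  have htop : cc = ⊤ := by
    by_contra hne
    obtain ⟨M, hM, hle⟩ := Ideal.exists_le_maximal cc hne
    obtain ⟨s, hsM, hsa, hsb⟩ := key M hM
    exact hsM (hle ⟨hsa, hsb⟩)
  have h1cc : (1 : S) * a ∈ Ideal.span {t} ∧ (1 : S) * b ∈ Ideal.span {t} := by
    have : (1 : S) ∈ cc := by rw [htop]; exact Submodule.mem_top
    exact this
  obtain ⟨h1a, h1b⟩ := h1cc
  rw [one_mul, Ideal.mem_span_singleton'] at h1a h1b
  obtain ⟨a', ha'⟩ := h1a
  obtain ⟨b', hb'⟩ := h1b
  refine ⟨x, y, a', b', ?_, ?_⟩
  · rw [← ht]; linear_combination -ha'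
  · rw [← ht]; linear_combination -hb'

/-- A module-finite algebra over a local ring has finitely many maximal ideals. -/
theorem finite_isMaximal_of_finite (R S : Type*) [CommRing R] [IsLocalRing R] [CommRing S]
    [Algebra R S] [Module.Finite R S] : {n : Ideal S | n.IsMaximal}.Finite := by
  haveI : Algebra.IsIntegral R S := Algebra.IsIntegral.of_finite R S
  refine (Algebra.QuasiFinite.finite_primesOver (R := R) (S := S) (maximalIdeal R)).subset ?_
  intro n hn
  haveI : n.IsMaximal := hn
  refine ⟨hn.isPrime, ⟨?_⟩⟩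
  have : (n.comap (algebraMap R S)).IsMaximal :=
    Ideal.isMaximal_comap_of_isIntegral_of_isMaximal (R := R) n
  exact (IsLocalRing.eq_maximalIdeal this).symm

section frac

variable {R : Type u} [CommRing R] [IsNoetherianRing R] [IsLocalRing R]

theorem exists_pow_smul_mem (hR : ringKrullDim R = 1) (x : FractionRing R) :
    ∃ n : ℕ, ∀ r ∈ maximalIdeal R ^ n, r • x ∈ (algebraMap R (FractionRing R)).range := by
  obtain ⟨r', d, rfl⟩ := IsLocalization.exists_mk'_eq (nonZeroDivisors R) x
  obtain ⟨n, hn⟩ := exists_pow_le_span hR d.2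
  refine ⟨n, fun r hr => ?_⟩
  obtain ⟨s, rfl⟩ := Ideal.mem_span_singleton'.mp (hn hr)
  refine ⟨s * r', ?_⟩
  rw [Algebra.smul_def, map_mul, map_mul, mul_assoc, IsLocalization.mk'_spec']

theorem exists_pow_smul_mem_subalgebra (hR : ringKrullDim R = 1)
    (S : Subalgebra R (FractionRing R)) (hS : S.toSubmodule.FG) :
    ∃ n : ℕ, ∀ r ∈ maximalIdeal R ^ n, ∀ s : S, r • s ∈ (algebraMap R S).range := by
  classical
  obtain ⟨gens, hgens⟩ := hS
  choose n hn using exists_pow_smul_mem hR
  refine ⟨gens.sup n, fun r hr s => ?_⟩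
  have hmem : (s : FractionRing R) ∈ Submodule.span R (gens : Set (FractionRing R)) := by
    rw [hgens]; exact s.2
  have : r • (s : FractionRing R) ∈ (algebraMap R (FractionRing R)).range := by
    refine Submodule.span_induction
      (p := fun z _ => r • z ∈ (algebraMap R (FractionRing R)).range) ?_ ?_ ?_ ?_ hmem
    · intro z hz
      exact hn z r (Ideal.pow_le_pow_right (Finset.le_sup (Finset.mem_coe.mp hz)) hr)
    · rw [smul_zero]; exact Subring.zero_mem _
    · intro z z' _ _ hz hz'
      rw [smul_add]; exact Subring.add_mem _ hz hz'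
    · intro c z _ hz
      obtain ⟨y, hy⟩ := hz
      exact ⟨c * y, by rw [map_mul, hy, smul_comm r c z, Algebra.smul_def c (r • z)]⟩
  obtain ⟨y, hy⟩ := this
  exact ⟨y, Subtype.ext hy⟩

theorem isFinExt_self (R : Type u) [CommRing R] (I : Ideal R) : CycAlg.IsFinExt R R I :=
  ⟨fun _ _ h => h, inferInstance, 0, fun r _ b => ⟨r * b, rfl⟩⟩

theorem main_aux (hR : ringKrullDim R = 1)
    (a b : R) (ha : a ∈ nonZeroDivisors R) (hb : b ∈ nonZeroDivisors R)
    (S : Subalgebra R (FractionRing R)) [Module.Finite R S] (hSfg : S.toSubmodule.FG)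
    (p q v w : FractionRing R) (hpS : p ∈ S) (hqS : q ∈ S) (hvS : v ∈ S) (hwS : w ∈ S)
    (ε : R) (hε : IsUnit ε) (hvw : v + w = algebraMap R (FractionRing R) ε)
    (h1 : algebraMap R (FractionRing R) b * v = algebraMap R (FractionRing R) a * p)
    (h2 : algebraMap R (FractionRing R) a * w = algebraMap R (FractionRing R) b * q) :
    ∃ (R' : Type u) (_ : CommRing R') (_ : Algebra R R'),
      CycAlg.IsFinExt R R' (IsLocalRing.maximalIdeal R) ∧ ∃ t a' b' : R',
        t ∈ nonZeroDivisors R' ∧ a' ∈ nonZeroDivisors R' ∧ b' ∈ nonZeroDivisors R' ∧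
          algebraMap R R' a = t * a' ∧ algebraMap R R' b = t * b' ∧ Ideal.span {a', b'} = ⊤ := by
  have hinj : Function.Injective (algebraMap R S) := fun x y h =>
    IsFractionRing.injective R (FractionRing R) (congrArg Subtype.val h)
  obtain ⟨n, hn⟩ := exists_pow_smul_mem_subalgebra hR S hSfg
  have hmaxfin := finite_isMaximal_of_finite R S
  have huS : IsUnit ((⟨v, hvS⟩ : S) + ⟨w, hwS⟩) := by
    have : ((⟨v, hvS⟩ : S) + ⟨w, hwS⟩) = algebraMap R S ε := Subtype.ext hvw
    rw [this]; exact hε.map (algebraMap R S)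
  have h1S : algebraMap R S b * (⟨v, hvS⟩ : S) = algebraMap R S a * ⟨p, hpS⟩ := Subtype.ext h1
  have h2S : algebraMap R S a * (⟨w, hwS⟩ : S) = algebraMap R S b * ⟨q, hqS⟩ := Subtype.ext h2
  obtain ⟨x, y, a', b', hta, htb⟩ := exists_common_factor_of_semilocal hmaxfin
    (algebraMap R S a) (algebraMap R S b) ⟨p, hpS⟩ ⟨q, hqS⟩ ⟨v, hvS⟩ ⟨w, hwS⟩ huS h1S h2S
  have haS : algebraMap R S a ∈ nonZeroDivisors S := by
    refine mem_nonZeroDivisors_of_injective (f := S.val) Subtype.val_injective ?_
    exact IsUnit.mem_nonZeroDivisors (IsLocalization.map_units (FractionRing R) ⟨a, ha⟩)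
  have hbS : algebraMap R S b ∈ nonZeroDivisors S := by
    refine mem_nonZeroDivisors_of_injective (f := S.val) Subtype.val_injective ?_
    exact IsUnit.mem_nonZeroDivisors (IsLocalization.map_units (FractionRing R) ⟨b, hb⟩)
  obtain ⟨t, ht⟩ : ∃ t, t = x * algebraMap R S a + y * algebraMap R S b := ⟨_, rfl⟩
  rw [← ht] at hta htb
  have hmul_a : t * a' ∈ nonZeroDivisors S := by rw [← hta]; exact haS
  have hmul_b : t * b' ∈ nonZeroDivisors S := by rw [← htb]; exact hbS
  have htnzd := (mul_mem_nonZeroDivisors.mp hmul_a).1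
  refine ⟨S, inferInstance, inferInstance, ⟨hinj, inferInstance, n, hn⟩, t, a', b', htnzd,
    (mul_mem_nonZeroDivisors.mp hmul_a).2, (mul_mem_nonZeroDivisors.mp hmul_b).2, hta, htb, ?_⟩
  rw [Ideal.eq_top_iff_one, Ideal.mem_span_pair]
  refine ⟨x, y, ?_⟩
  have : t * (x * a' + y * b') = t * 1 := by
    rw [mul_one]
    calc t * (x * a' + y * b') = x * (t * a') + y * (t * b') := by ring
      _ = x * algebraMap R S a + y * algebraMap R S b := by rw [← hta, ← htb]
      _ = t := ht.symm
  exact (mul_cancel_left_mem_nonZeroDivisors htnzd).mp this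

theorem main (R : Type u) [CommRing R] [IsNoetherianRing R] [IsLocalRing R]
    (hR : ringKrullDim R = 1) (a b : R) (ha : a ∈ nonZeroDivisors R)
    (hb : b ∈ nonZeroDivisors R) :
    ∃ (R' : Type u) (_ : CommRing R') (_ : Algebra R R'),
      CycAlg.IsFinExt R R' (IsLocalRing.maximalIdeal R) ∧ ∃ t a' b' : R',
        t ∈ nonZeroDivisors R' ∧ a' ∈ nonZeroDivisors R' ∧ b' ∈ nonZeroDivisors R' ∧
          algebraMap R R' a = t * a' ∧ algebraMap R R' b = t * b' ∧ Ideal.span {a', b'} = ⊤ := by
  by_cases hau : IsUnit a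
  · refine ⟨R, inferInstance, Algebra.id R, isFinExt_self R _, 1, a, b, one_mem _, ha, hb,
      ?_, ?_, ?_⟩
    · rw [one_mul]; rfl
    · rw [one_mul]; rfl
    · exact Ideal.eq_top_of_isUnit_mem _ (Ideal.subset_span (Set.mem_insert _ _)) hau
  by_cases hbu : IsUnit b
  · refine ⟨R, inferInstance, Algebra.id R, isFinExt_self R _, 1, a, b, one_mem _, ha, hb,
      ?_, ?_, ?_⟩
    · rw [one_mul]; rfl
    · rw [one_mul]; rfl
    · exact Ideal.eq_top_of_isUnit_mem _
        (Ideal.subset_span (Set.mem_insert_of_mem _ rfl)) hbu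
  have ham : a ∈ maximalIdeal R := (IsLocalRing.mem_maximalIdeal a).mpr hau
  obtain ⟨e, u, j, hj, huj, hrel⟩ := exists_relation hR a b ha ham
  have hβu : IsUnit (algebraMap R (FractionRing R) b) :=
    IsLocalization.map_units (FractionRing R) ⟨b, hb⟩
  obtain ⟨βi, hβ⟩ := hβu.exists_right_inv
  have hrelQ : ∑ i ∈ Finset.range (e + 1), algebraMap R (FractionRing R) (u i) *
      ((algebraMap R (FractionRing R) a) ^ i * (algebraMap R (FractionRing R) b) ^ (e - i)) = 0 := by
    have := congrArg (algebraMap R (FractionRing R)) hrel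
    simpa only [map_sum, map_mul, map_pow, map_zero] using this
  obtain ⟨p, q, v, w, hp, hq, hv, hw, hvw, h1, h2⟩ :=
    exists_integral_data (R := R) _ _ βi hβ e u j hj hrelQ
  have hint : ∀ x ∈ ({p, q, v} : Set (FractionRing R)), IsIntegral R x := by
    intro x hx
    simp only [Set.mem_insert_iff, Set.mem_singleton_iff] at hx
    rcases hx with rfl | rfl | rfl <;> assumption
  haveI hSfin : Module.Finite R (Algebra.adjoin R ({p, q, v} : Set (FractionRing R))) :=
    Algebra.finite_adjoin_of_finite_of_isIntegral (Set.toFinite _) hint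
  have hSfg : (Algebra.adjoin R ({p, q, v} : Set (FractionRing R))).toSubmodule.FG :=
    fg_adjoin_of_finite (Set.toFinite _) hint
  have hpS : p ∈ Algebra.adjoin R ({p, q, v} : Set (FractionRing R)) :=
    Algebra.subset_adjoin (by simp)
  have hqS : q ∈ Algebra.adjoin R ({p, q, v} : Set (FractionRing R)) :=
    Algebra.subset_adjoin (by simp)
  have hvS : v ∈ Algebra.adjoin R ({p, q, v} : Set (FractionRing R)) :=
    Algebra.subset_adjoin (by simp)
  have hvw' : v + w = algebraMap R (FractionRing R) (- u j) := by rw [map_neg]; exact hvw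
  have hwS : w ∈ Algebra.adjoin R ({p, q, v} : Set (FractionRing R)) := by
    have : w = algebraMap R (FractionRing R) (- u j) - v := by rw [← hvw']; ring
    rw [this]
    exact Subalgebra.sub_mem _ (Subalgebra.algebraMap_mem _ _) hvS
  exact main_aux hR a b ha hb _ hSfg p q v w hpS hqS hvS hwS (- u j) huj.neg hvw' h1 h2

end frac

end Groth.Agent.Lib.FinExtPrinH1
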