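import Mathlib
import Groth.Agent.Lib.FinExtPrin3_helper1

/-!
# S1836 support, part 1: the principalization step inside the total fraction ring
-/

namespace Groth.Agent.Lib.FinExtPrinH1

open IsLocalRing

universe u

variable {R : Type u} [CommRing R] [IsNoetherianRing R] [IsLocalRing R]

theorem main_sub_aux
    (a b : R) (ha : a ∈ nonZeroDivisors R)
    (S : Subalgebra R (FractionRing R)) [Module.Finite R S]
    (p q v w : FractionRing R) (hpS : p ∈ S) (hqS : q ∈ S) (hvS : v ∈ S) (hwS : w ∈ S)
    (ε : R) (hε : IsUnit ε) (hvw : v + w = algebraMap R (FractionRing R) ε)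
    (h1 : algebraMap R (FractionRing R) b * v = algebraMap R (FractionRing R) a * p)
    (h2 : algebraMap R (FractionRing R) a * w = algebraMap R (FractionRing R) b * q) :
    ∃ t a' b' x y : FractionRing R, t ∈ S ∧ a' ∈ S ∧ b' ∈ S ∧ x ∈ S ∧ y ∈ S ∧
      algebraMap R (FractionRing R) a = t * a' ∧ algebraMap R (FractionRing R) b = t * b' ∧
        x * a' + y * b' = 1 := by
  have hmaxfin := finite_isMaximal_of_finite R S
  have huS : IsUnit ((⟨v, hvS⟩ : S) + ⟨w, hwS⟩) := by
    have : ((⟨v, hvS⟩ : S) + ⟨w, hwS⟩) = algebraMap R S ε := Subtype.ext hvw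
    rw [this]; exact hε.map (algebraMap R S)
  have h1S : algebraMap R S b * (⟨v, hvS⟩ : S) = algebraMap R S a * ⟨p, hpS⟩ := Subtype.ext h1
  have h2S : algebraMap R S a * (⟨w, hwS⟩ : S) = algebraMap R S b * ⟨q, hqS⟩ := Subtype.ext h2
  obtain ⟨x, y, a', b', hta, htb⟩ := exists_common_factor_of_semilocal hmaxfin
    (algebraMap R S a) (algebraMap R S b) ⟨p, hpS⟩ ⟨q, hqS⟩ ⟨v, hvS⟩ ⟨w, hwS⟩ huS h1S h2S
  have haS : algebraMap R S a ∈ nonZeroDivisors S := by
    refine mem_nonZeroDivisors_of_injective (f := S.val) Subtype.val_injective ?_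
    exact IsUnit.mem_nonZeroDivisors (IsLocalization.map_units (FractionRing R) ⟨a, ha⟩)
  obtain ⟨t, ht⟩ : ∃ t, t = x * algebraMap R S a + y * algebraMap R S b := ⟨_, rfl⟩
  rw [← ht] at hta htb
  have hmul_a : t * a' ∈ nonZeroDivisors S := by rw [← hta]; exact haS
  have htnzd := (mul_mem_nonZeroDivisors.mp hmul_a).1
  have hone : x * a' + y * b' = 1 := by
    have : t * (x * a' + y * b') = t * 1 := by
      rw [mul_one]
      calc t * (x * a' + y * b') = x * (t * a') + y * (t * b') := by ring
        _ = x * algebraMap R S a + y * algebraMap R S b := by rw [← hta, ← htb]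
        _ = t := ht.symm
    exact (mul_cancel_left_mem_nonZeroDivisors htnzd).mp this
  exact ⟨t, a', b', x, y, t.2, a'.2, b'.2, x.2, y.2, congrArg Subtype.val hta,
    congrArg Subtype.val htb, congrArg Subtype.val hone⟩

/-- `S1834` inside the total fraction ring. -/
theorem main_sub (hR : ringKrullDim R = 1) (a b : R) (ha : a ∈ nonZeroDivisors R)
    (hb : b ∈ nonZeroDivisors R) :
    ∃ S : Subalgebra R (FractionRing R), S.toSubmodule.FG ∧
      ∃ t a' b' x y : FractionRing R, t ∈ S ∧ a' ∈ S ∧ b' ∈ S ∧ x ∈ S ∧ y ∈ S ∧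
        algebraMap R (FractionRing R) a = t * a' ∧ algebraMap R (FractionRing R) b = t * b' ∧
          x * a' + y * b' = 1 := by
  by_cases hau : IsUnit a
  · refine ⟨⊥, Subalgebra.fg_bot_toSubmodule, 1, algebraMap R _ a, algebraMap R _ b,
      algebraMap R _ (↑hau.unit⁻¹ : R), 0, Subalgebra.one_mem _, Subalgebra.algebraMap_mem _ _,
      Subalgebra.algebraMap_mem _ _, Subalgebra.algebraMap_mem _ _, Subalgebra.zero_mem _,
      (one_mul _).symm, (one_mul _).symm, ?_⟩
    rw [zero_mul, add_zero, ← map_mul, IsUnit.val_inv_mul, map_one]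
  by_cases hbu : IsUnit b
  · refine ⟨⊥, Subalgebra.fg_bot_toSubmodule, 1, algebraMap R _ a, algebraMap R _ b,
      0, algebraMap R _ (↑hbu.unit⁻¹ : R), Subalgebra.one_mem _, Subalgebra.algebraMap_mem _ _,
      Subalgebra.algebraMap_mem _ _, Subalgebra.zero_mem _, Subalgebra.algebraMap_mem _ _,
      (one_mul _).symm, (one_mul _).symm, ?_⟩
    rw [zero_mul, zero_add, ← map_mul, IsUnit.val_inv_mul, map_one]
  have ham : a ∈ maximalIdeal R := (IsLocalRing.mem_maximalIdeal a).mpr hau
  obtain ⟨e, u, j, hj, huj, hrel⟩ := exists_relation hR a b ha ham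
  have hβu : IsUnit (algebraMap R (FractionRing R) b) :=
    IsLocalization.map_units (FractionRing R) ⟨b, hb⟩
  obtain ⟨βi, hβ⟩ := hβu.exists_right_inv
  have hrelQ : ∑ i ∈ Finset.range (e + 1), algebraMap R (FractionRing R) (u i) *
      ((algebraMap R (FractionRing R) a) ^ i * (algebraMap R (FractionRing R) b) ^ (e - i)) = 0 := by
    have := congrArg (algebraMap R (FractionRing R)) hrel
    simpa only [map_sum, map_mul, map_pow, map_zero] using this
  obtain ⟨p, q, v, w, hp, hq, hv, hw, hvw, h1, h2⟩ :=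
    exists_integral_data (R := R) _ _ βi hβ e u j hj hrelQ
  have hint : ∀ x ∈ ({p, q, v} : Set (FractionRing R)), IsIntegral R x := by
    intro x hx
    simp only [Set.mem_insert_iff, Set.mem_singleton_iff] at hx
    rcases hx with rfl | rfl | rfl <;> assumption
  haveI hSfin : Module.Finite R (Algebra.adjoin R ({p, q, v} : Set (FractionRing R))) :=
    Algebra.finite_adjoin_of_finite_of_isIntegral (Set.toFinite _) hint
  have hSfg : (Algebra.adjoin R ({p, q, v} : Set (FractionRing R))).toSubmodule.FG :=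
    fg_adjoin_of_finite (Set.toFinite _) hint
  have hpS : p ∈ Algebra.adjoin R ({p, q, v} : Set (FractionRing R)) :=
    Algebra.subset_adjoin (by simp)
  have hqS : q ∈ Algebra.adjoin R ({p, q, v} : Set (FractionRing R)) :=
    Algebra.subset_adjoin (by simp)
  have hvS : v ∈ Algebra.adjoin R ({p, q, v} : Set (FractionRing R)) :=
    Algebra.subset_adjoin (by simp)
  have hvw' : v + w = algebraMap R (FractionRing R) (- u j) := by rw [map_neg]; exact hvw
  have hwS : w ∈ Algebra.adjoin R ({p, q, v} : Set (FractionRing R)) := by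
    have : w = algebraMap R (FractionRing R) (- u j) - v := by rw [← hvw']; ring
    rw [this]
    exact Subalgebra.sub_mem _ (Subalgebra.algebraMap_mem _ _) hvS
  exact ⟨_, hSfg, main_sub_aux a b ha _ p q v w hpS hqS hvS hwS (- u j) huj.neg hvw' h1 h2⟩

theorem nzd_of_isUnit_algebraMap {r : R} (h : IsUnit (algebraMap R (FractionRing R) r)) :
    r ∈ nonZeroDivisors R :=
  mem_nonZeroDivisors_of_injective (f := algebraMap R (FractionRing R))
    (IsFractionRing.injective R (FractionRing R)) h.mem_nonZeroDivisors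

/-- The principalization step for a pair of elements of a finite subalgebra of the total fraction
ring. -/
theorem step (hR : ringKrullDim R = 1) (B : Subalgebra R (FractionRing R))
    (hB : B.toSubmodule.FG) (x y : FractionRing R) (hx : x ∈ B) (hy : y ∈ B)
    (hxu : IsUnit x) (hyu : IsUnit y) :
    ∃ B' : Subalgebra R (FractionRing R), B ≤ B' ∧ B'.toSubmodule.FG ∧
      ∃ t x' y' α β : FractionRing R, t ∈ B' ∧ x' ∈ B' ∧ y' ∈ B' ∧ α ∈ B' ∧ β ∈ B' ∧
        x = t * x' ∧ y = t * y' ∧ α * x' + β * y' = 1 := by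
  obtain ⟨r1, d1, hx1⟩ := IsLocalization.exists_mk'_eq (nonZeroDivisors R) x
  obtain ⟨r2, d2, hy1⟩ := IsLocalization.exists_mk'_eq (nonZeroDivisors R) y
  have hd1u : IsUnit (algebraMap R (FractionRing R) (d1 : R)) :=
    IsLocalization.map_units (FractionRing R) d1
  have hd2u : IsUnit (algebraMap R (FractionRing R) (d2 : R)) :=
    IsLocalization.map_units (FractionRing R) d2
  have hxs : algebraMap R (FractionRing R) (r1 * d2) =
      algebraMap R (FractionRing R) ((d1 : R) * d2) * x := by
    rw [← hx1, map_mul, map_mul, mul_right_comm, IsLocalization.mk'_spec']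
  have hys : algebraMap R (FractionRing R) (r2 * d1) =
      algebraMap R (FractionRing R) ((d1 : R) * d2) * y := by
    rw [← hy1, map_mul, map_mul, mul_assoc, IsLocalization.mk'_spec', mul_comm]
  have hsu : IsUnit (algebraMap R (FractionRing R) ((d1 : R) * d2)) := by
    rw [map_mul]; exact hd1u.mul hd2u
  have hx1nzd : r1 * d2 ∈ nonZeroDivisors R :=
    nzd_of_isUnit_algebraMap (by rw [hxs]; exact hsu.mul hxu)
  have hy1nzd : r2 * d1 ∈ nonZeroDivisors R :=
    nzd_of_isUnit_algebraMap (by rw [hys]; exact hsu.mul hyu)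
  obtain ⟨S, hS, t1, x', y', α, β, ht1, hx', hy', hα, hβ, hxt, hyt, hab⟩ :=
    main_sub hR (r1 * d2) (r2 * d1) hx1nzd hy1nzd
  obtain ⟨si, hsi⟩ := hsu.exists_right_inv
  have hBS : (B ⊔ S).toSubmodule.FG := by
    rw [← Subalgebra.mul_toSubmodule]; exact hB.mul hS
  have hxe : x = t1 * si * x' := by
    calc x = algebraMap R (FractionRing R) ((d1 : R) * d2) * si * x := by rw [hsi, one_mul]
      _ = si * (algebraMap R (FractionRing R) ((d1 : R) * d2) * x) := by ring
      _ = si * (t1 * x') := by rw [← hxs, hxt]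
      _ = t1 * si * x' := by ring
  have hye : y = t1 * si * y' := by
    calc y = algebraMap R (FractionRing R) ((d1 : R) * d2) * si * y := by rw [hsi, one_mul]
      _ = si * (algebraMap R (FractionRing R) ((d1 : R) * d2) * y) := by ring
      _ = si * (t1 * y') := by rw [← hys, hyt]
      _ = t1 * si * y' := by ring
  have hSle : S ≤ B ⊔ S := le_sup_right
  have hBle : B ≤ B ⊔ S := le_sup_left
  have htmem : t1 * si ∈ B ⊔ S := by
    have : t1 * si = α * x + β * y := by
      rw [hxe, hye]
      linear_combination (-(t1 * si)) * hab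
    rw [this]
    exact Subalgebra.add_mem _ (Subalgebra.mul_mem _ (hSle hα) (hBle hx))
      (Subalgebra.mul_mem _ (hSle hβ) (hBle hy))
  exact ⟨B ⊔ S, hBle, hBS, t1 * si, x', y', α, β, htmem, hSle hx', hSle hy', hSle hα, hSle hβ,
    hxe, hye, hab⟩

end Groth.Agent.Lib.FinExtPrinH1
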