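import Mathlib
import Groth.Agent.Lib.FinExtPrin1_helper1

/-!
# S1836 support, part 2: an `A`-length measure on units of the total fraction ring

For a finite subalgebra `B` of `Frac A` (`A` Noetherian local of dimension one) and `z ∈ B` a unit
of `Frac A`, the `A`-length of `B/zB` equals an intrinsic number `lam z` that does not depend on
`B`; it is additive and positive on nonunits of `B`.
-/

namespace Groth.Agent.Lib.FinExtPrinH1

open IsLocalRing

universe u

section general

variable {A : Type u} [CommRing A]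

theorem length_quot_range_comp {N₁ N₂ N₃ : Type*} [AddCommGroup N₁] [Module A N₁]
    [AddCommGroup N₂] [Module A N₂] [AddCommGroup N₃] [Module A N₃]
    (ψ : N₁ →ₗ[A] N₂) (φ : N₂ →ₗ[A] N₃) (hφ : Function.Injective φ) :
    Module.length A (N₃ ⧸ LinearMap.range (φ ∘ₗ ψ)) =
      Module.length A (N₂ ⧸ LinearMap.range ψ) + Module.length A (N₃ ⧸ LinearMap.range φ) := by
  have h1 : LinearMap.range ψ ≤ (LinearMap.range (φ ∘ₗ ψ)).comap φ := by
    rintro _ ⟨x, rfl⟩; exact ⟨x, rfl⟩
  have h2 : LinearMap.range (φ ∘ₗ ψ) ≤ (LinearMap.range φ).comap LinearMap.id := by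
    rintro _ ⟨x, rfl⟩; exact ⟨ψ x, rfl⟩
  have hf : Function.Injective
      (Submodule.mapQ (LinearMap.range ψ) (LinearMap.range (φ ∘ₗ ψ)) φ h1) := by
    rw [← LinearMap.ker_eq_bot, LinearMap.ker_eq_bot']
    intro y hy
    obtain ⟨x, rfl⟩ := Submodule.Quotient.mk_surjective _ y
    rw [Submodule.mapQ_apply, Submodule.Quotient.mk_eq_zero] at hy
    obtain ⟨z, hz⟩ := hy
    rw [Submodule.Quotient.mk_eq_zero]
    exact ⟨z, hφ hz⟩
  have hg : Function.Surjective
      (Submodule.mapQ (LinearMap.range (φ ∘ₗ ψ)) (LinearMap.range φ) LinearMap.id h2) := by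
    intro y
    obtain ⟨x, rfl⟩ := Submodule.Quotient.mk_surjective _ y
    exact ⟨Submodule.Quotient.mk x, by rw [Submodule.mapQ_apply]; rfl⟩
  have hex : Function.Exact
      (Submodule.mapQ (LinearMap.range ψ) (LinearMap.range (φ ∘ₗ ψ)) φ h1)
      (Submodule.mapQ (LinearMap.range (φ ∘ₗ ψ)) (LinearMap.range φ) LinearMap.id h2) := by
    intro y
    obtain ⟨x, rfl⟩ := Submodule.Quotient.mk_surjective _ y
    constructor
    · intro hy
      rw [Submodule.mapQ_apply, LinearMap.id_apply, Submodule.Quotient.mk_eq_zero] at hy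
      obtain ⟨z, rfl⟩ := hy
      exact ⟨Submodule.Quotient.mk z, by rw [Submodule.mapQ_apply]⟩
    · rintro ⟨z, hz⟩
      obtain ⟨w, rfl⟩ := Submodule.Quotient.mk_surjective _ z
      rw [← hz, Submodule.mapQ_apply, Submodule.mapQ_apply, LinearMap.id_apply,
        Submodule.Quotient.mk_eq_zero]
      exact ⟨w, rfl⟩
  exact Module.length_eq_add_of_exact _ _ hf hg hex

theorem length_eq_of_intertwine {M N : Type*} [AddCommGroup M] [Module A M] [AddCommGroup N]
    [Module A N] (δ : M →ₗ[A] N) (hδ : Function.Injective δ) (rM : M →ₗ[A] M) (rN : N →ₗ[A] N)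
    (hrN : Function.Injective rN) (hcomm : δ ∘ₗ rM = rN ∘ₗ δ)
    (hfin : Module.length A (N ⧸ LinearMap.range δ) ≠ ⊤) :
    Module.length A (M ⧸ LinearMap.range rM) = Module.length A (N ⧸ LinearMap.range rN) := by
  have e1 := length_quot_range_comp rM δ hδ
  have e2 := length_quot_range_comp δ rN hrN
  rw [hcomm] at e1
  rw [e1, add_comm (Module.length A (N ⧸ LinearMap.range δ))] at e2
  exact WithTop.add_right_cancel hfin e2

end general

section frac

variable {A : Type u} [CommRing A] [IsNoetherianRing A] [IsLocalRing A]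

/-- length of `A/rA`. -/
noncomputable def len0 (r : A) : ℕ∞ :=
  Module.length A (A ⧸ LinearMap.range (LinearMap.mulLeft A r))

/-- `A`-length of `B/zB`. -/
noncomputable def qlen (B : Subalgebra A (FractionRing A)) (z : B) : ℕ∞ :=
  Module.length A (B ⧸ LinearMap.range (LinearMap.mulLeft A z))

theorem len0_ne_top (hA : ringKrullDim A = 1) {r : A} (hr : r ∈ nonZeroDivisors A) :
    len0 r ≠ ⊤ :=
  length_quot_ne_top_of_mem hA hr (LinearMap.range (LinearMap.mulLeft A r)) ⟨1, mul_one r⟩

theorem exists_common_denom (B : Subalgebra A (FractionRing A)) (hB : B.toSubmodule.FG) :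
    ∃ d ∈ nonZeroDivisors A, ∀ b ∈ B, ∃ a : A,
      algebraMap A (FractionRing A) a = algebraMap A (FractionRing A) d * b := by
  obtain ⟨s, hs⟩ := hB
  obtain ⟨d, hd⟩ := IsLocalization.exist_integer_multiples_of_finset (nonZeroDivisors A) s
  refine ⟨d, d.2, fun b hb => ?_⟩
  have hb' : b ∈ Submodule.span A (s : Set (FractionRing A)) := by rw [hs]; exact hb
  refine Submodule.span_induction (p := fun z _ => ∃ a : A,
    algebraMap A (FractionRing A) a = algebraMap A (FractionRing A) d * z) ?_ ?_ ?_ ?_ hb'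
  · intro z hz
    obtain ⟨a, ha⟩ := hd z (Finset.mem_coe.mp hz)
    exact ⟨a, by rw [ha, Algebra.smul_def]⟩
  · exact ⟨0, by rw [map_zero, mul_zero]⟩
  · rintro z z' _ _ ⟨a, ha⟩ ⟨a', ha'⟩
    exact ⟨a + a', by rw [map_add, ha, ha', mul_add]⟩
  · rintro c z _ ⟨a, ha⟩
    exact ⟨c * a, by rw [map_mul, ha, Algebra.smul_def]; ring⟩

/-- multiplication by a common denominator, as a map `B → A`. -/
noncomputable def delta (B : Subalgebra A (FractionRing A)) (d : A)
    (h : ∀ b ∈ B, ∃ a : A,
      algebraMap A (FractionRing A) a = algebraMap A (FractionRing A) d * b) : B →ₗ[A] A where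
  toFun b := Classical.choose (h b b.2)
  map_add' b b' := by
    apply IsFractionRing.injective A (FractionRing A)
    have e1 := Classical.choose_spec (h (b + b' : B) (b + b').2)
    have e2 := Classical.choose_spec (h b b.2)
    have e3 := Classical.choose_spec (h b' b'.2)
    rw [map_add, e1, e2, e3, Subalgebra.coe_add, mul_add]
  map_smul' c b := by
    apply IsFractionRing.injective A (FractionRing A)
    have e1 := Classical.choose_spec (h (c • b : B) (c • b).2)
    have e2 := Classical.choose_spec (h b b.2)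
    rw [RingHom.id_apply, smul_eq_mul, map_mul, e1, e2, Subalgebra.coe_smul, Algebra.smul_def]
    ring

theorem delta_spec (B : Subalgebra A (FractionRing A)) (d : A)
    (h : ∀ b ∈ B, ∃ a : A,
      algebraMap A (FractionRing A) a = algebraMap A (FractionRing A) d * b) (b : B) :
    algebraMap A (FractionRing A) (delta B d h b) = algebraMap A (FractionRing A) d * b :=
  Classical.choose_spec (h b b.2)

theorem qlen_algebraMap (hA : ringKrullDim A = 1) (B : Subalgebra A (FractionRing A))
    (hB : B.toSubmodule.FG) (r : A) (hr : r ∈ nonZeroDivisors A) :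
    qlen B (algebraMap A B r) = len0 r := by
  obtain ⟨d, hd, h⟩ := exists_common_denom B hB
  have hdu : IsUnit (algebraMap A (FractionRing A) d) :=
    IsLocalization.map_units (FractionRing A) ⟨d, hd⟩
  have hinj : Function.Injective (delta B d h) := by
    intro b b' hbb
    have := congrArg (algebraMap A (FractionRing A)) hbb
    rw [delta_spec, delta_spec] at this
    exact Subtype.ext (hdu.mul_right_inj.mp this)
  have hone : delta B d h 1 = d := by
    apply IsFractionRing.injective A (FractionRing A)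
    rw [delta_spec, Subalgebra.coe_one, mul_one]
  have hrinj : Function.Injective (LinearMap.mulLeft A r) := by
    intro x y hxy
    exact (mul_cancel_left_mem_nonZeroDivisors hr).mp hxy
  have hcomm : delta B d h ∘ₗ LinearMap.mulLeft A (algebraMap A B r) =
      LinearMap.mulLeft A r ∘ₗ delta B d h := by
    ext b
    apply IsFractionRing.injective A (FractionRing A)
    rw [LinearMap.comp_apply, LinearMap.comp_apply, LinearMap.mulLeft_apply,
      LinearMap.mulLeft_apply, delta_spec, map_mul, delta_spec, Subalgebra.coe_mul]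
    show _ * (algebraMap A (FractionRing A) r * _) = _
    ring
  have hfin : Module.length A (A ⧸ LinearMap.range (delta B d h)) ≠ ⊤ :=
    length_quot_ne_top_of_mem hA hd (LinearMap.range (delta B d h)) ⟨1, hone⟩
  exact length_eq_of_intertwine (delta B d h) hinj _ _ hrinj hcomm hfin

theorem mulLeft_injective_of_isUnit (B : Subalgebra A (FractionRing A)) (z : B)
    (hz : IsUnit (z : FractionRing A)) : Function.Injective (LinearMap.mulLeft A z) := by
  intro x y hxy
  have := congrArg Subtype.val hxy
  rw [LinearMap.mulLeft_apply, LinearMap.mulLeft_apply, Subalgebra.coe_mul,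
    Subalgebra.coe_mul] at this
  exact Subtype.ext (hz.mul_right_inj.mp this)

theorem qlen_mul (B : Subalgebra A (FractionRing A)) (t z : B)
    (ht : IsUnit (t : FractionRing A)) :
    qlen B (t * z) = qlen B z + qlen B t := by
  have := length_quot_range_comp (LinearMap.mulLeft A z) (LinearMap.mulLeft A t)
    (mulLeft_injective_of_isUnit B t ht)
  rw [← LinearMap.mulLeft_mul] at this
  exact this

/-- the intrinsic measure. -/
noncomputable def lam (z : FractionRing A) : ℕ :=
  (len0 (IsLocalization.sec (nonZeroDivisors A) z).1).toNat -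
    (len0 ((IsLocalization.sec (nonZeroDivisors A) z).2 : A)).toNat

theorem qlen_eq_lam (hA : ringKrullDim A = 1) (B : Subalgebra A (FractionRing A))
    (hB : B.toSubmodule.FG) (z : FractionRing A) (hz : z ∈ B) (hzu : IsUnit z) :
    qlen B ⟨z, hz⟩ = (lam z : ℕ∞) := by
  have hspec := IsLocalization.sec_spec (nonZeroDivisors A) z
  have hsu : IsUnit (algebraMap A (FractionRing A)
      ((IsLocalization.sec (nonZeroDivisors A) z).2 : A)) :=
    IsLocalization.map_units (FractionRing A) _
  have hr : (IsLocalization.sec (nonZeroDivisors A) z).1 ∈ nonZeroDivisors A := by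
    refine mem_nonZeroDivisors_of_injective (f := algebraMap A (FractionRing A))
      (IsFractionRing.injective A (FractionRing A)) ?_
    rw [← hspec]
    exact (hzu.mul hsu).mem_nonZeroDivisors
  have hBeq : algebraMap A B ((IsLocalization.sec (nonZeroDivisors A) z).2 : A) * ⟨z, hz⟩ =
      algebraMap A B (IsLocalization.sec (nonZeroDivisors A) z).1 :=
    Subtype.ext (by rw [Subalgebra.coe_mul, mul_comm]; exact hspec)
  have hadd := qlen_mul B (algebraMap A B ((IsLocalization.sec (nonZeroDivisors A) z).2 : A))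
    ⟨z, hz⟩ hsu
  rw [hBeq, qlen_algebraMap hA B hB _ hr,
    qlen_algebraMap hA B hB _ (IsLocalization.sec (nonZeroDivisors A) z).2.2] at hadd
  have hR := len0_ne_top hA hr
  have hS := len0_ne_top hA (IsLocalization.sec (nonZeroDivisors A) z).2.2
  unfold lam
  generalize len0 (IsLocalization.sec (nonZeroDivisors A) z).1 = R at hadd hR ⊢
  generalize len0 ((IsLocalization.sec (nonZeroDivisors A) z).2 : A) = S at hadd hS ⊢
  generalize qlen B ⟨z, hz⟩ = q at hadd ⊢
  lift R to ℕ using hR
  lift S to ℕ using hS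
  have hq : q ≠ ⊤ := by
    rintro rfl
    simp at hadd
  lift q to ℕ using hq
  have : R = q + S := by exact_mod_cast hadd
  simp only [ENat.toNat_coe]
  norm_cast
  omega

theorem lam_mul (hA : ringKrullDim A = 1) (B : Subalgebra A (FractionRing A))
    (hB : B.toSubmodule.FG) (t z : FractionRing A) (ht : t ∈ B) (hz : z ∈ B)
    (htu : IsUnit t) (hzu : IsUnit z) : lam (t * z) = lam z + lam t := by
  have h := qlen_mul B ⟨t, ht⟩ ⟨z, hz⟩ htu
  have e : (⟨t, ht⟩ : B) * ⟨z, hz⟩ = ⟨t * z, B.mul_mem ht hz⟩ := rfl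
  rw [e, qlen_eq_lam hA B hB _ _ (htu.mul hzu), qlen_eq_lam hA B hB _ _ hzu,
    qlen_eq_lam hA B hB _ _ htu] at h
  exact_mod_cast h

theorem one_le_lam (hA : ringKrullDim A = 1) (B : Subalgebra A (FractionRing A))
    (hB : B.toSubmodule.FG) (t : FractionRing A) (ht : t ∈ B) (htu : IsUnit t)
    (hnu : ¬ ∃ w ∈ B, t * w = 1) : 1 ≤ lam t := by
  have hne : LinearMap.range (LinearMap.mulLeft A (⟨t, ht⟩ : B)) ≠ ⊤ := by
    intro htop
    have h1 : (1 : B) ∈ LinearMap.range (LinearMap.mulLeft A (⟨t, ht⟩ : B)) := by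
      rw [htop]; exact Submodule.mem_top
    obtain ⟨w, hw⟩ := h1
    exact hnu ⟨w, w.2, congrArg Subtype.val hw⟩
  haveI : Nontrivial (B ⧸ LinearMap.range (LinearMap.mulLeft A (⟨t, ht⟩ : B))) :=
    Submodule.Quotient.nontrivial_iff.mpr hne
  have hpos : 0 < qlen B ⟨t, ht⟩ := Module.length_pos_iff.mpr inferInstance
  rw [qlen_eq_lam hA B hB t ht htu] at hpos
  exact_mod_cast hpos

end frac

end Groth.Agent.Lib.FinExtPrinH1
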