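import Mathlib
import Groth.Prelude.Def_CycAlg
import Groth.Agent.Lib.FinExtPrin4_helper1
import Groth.Agent.Lib.FinExtPrin5_helper1

/-!
# S1836: local factorizations after a finite birational extension
-/

namespace Groth.Agent.Lib.FinExtPrinH1

open IsLocalRing

universe u

variable {A : Type u} [CommRing A] [IsNoetherianRing A] [IsLocalRing A]

/-- `x` and `y` generate the unit ideal of `B`. -/
def Comax (B : Subalgebra A (FractionRing A)) (x y : FractionRing A) : Prop :=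
  ∃ α β : FractionRing A, α ∈ B ∧ β ∈ B ∧ α * x + β * y = 1

omit [IsNoetherianRing A] [IsLocalRing A] in
theorem comax_descend (B B₁ : Subalgebra A (FractionRing A)) (hBB₁ : B ≤ B₁)
    (hB₁ : B₁.toSubmodule.FG) (x y : FractionRing A) (hx : x ∈ B) (hy : y ∈ B)
    (h : Comax B₁ x y) : Comax B x y := by
  by_contra hnc
  have hI : Ideal.span {(⟨x, hx⟩ : B), ⟨y, hy⟩} ≠ ⊤ := by
    intro htop
    rw [Ideal.eq_top_iff_one, Ideal.mem_span_pair] at htop
    obtain ⟨α, β, hαβ⟩ := htop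
    exact hnc ⟨α, β, α.2, β.2, congrArg Subtype.val hαβ⟩
  obtain ⟨n, hn, hle⟩ := Ideal.exists_le_maximal _ hI
  letI : Algebra B B₁ := (Subalgebra.inclusion hBB₁).toRingHom.toAlgebra
  haveI : IsScalarTower A B B₁ := IsScalarTower.of_algebraMap_eq (fun a => rfl)
  haveI : Module.Finite A B₁ := Module.Finite.of_fg hB₁
  haveI : Algebra.IsIntegral A B₁ := Algebra.IsIntegral.of_finite A B₁
  haveI : Algebra.IsIntegral B B₁ := Algebra.IsIntegral.tower_top A
  have hker : RingHom.ker (algebraMap B B₁) ≤ n := by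
    intro z hz
    rw [RingHom.mem_ker] at hz
    have : z = 0 := Subalgebra.inclusion_injective hBB₁ (by rw [map_zero]; exact hz)
    rw [this]; exact n.zero_mem
  obtain ⟨n₁, hn₁, hcomap⟩ := Ideal.exists_ideal_over_maximal_of_isIntegral n hker
  obtain ⟨α, β, hα, hβ, hαβ⟩ := h
  have hxn : (⟨x, hBB₁ hx⟩ : B₁) ∈ n₁ := by
    have : (⟨x, hx⟩ : B) ∈ n₁.comap (algebraMap B B₁) := by
      rw [hcomap]; exact hle (Ideal.subset_span (by simp))
    exact this
  have hyn : (⟨y, hBB₁ hy⟩ : B₁) ∈ n₁ := by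
    have : (⟨y, hy⟩ : B) ∈ n₁.comap (algebraMap B B₁) := by
      rw [hcomap]; exact hle (Ideal.subset_span (by simp))
    exact this
  have h1 : (1 : B₁) ∈ n₁ := by
    have e : (1 : B₁) = ⟨α, hα⟩ * ⟨x, hBB₁ hx⟩ + ⟨β, hβ⟩ * ⟨y, hBB₁ hy⟩ :=
      Subtype.ext hαβ.symm
    rw [e]
    exact n₁.add_mem (n₁.mul_mem_left _ hxn) (n₁.mul_mem_left _ hyn)
  exact hn₁.ne_top ((Ideal.eq_top_iff_one _).mpr h1)

theorem sum_insert_le' {ι : Type*} [DecidableEq ι] (f : ι → ℕ) (a : ι) (s : Finset ι) :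
    ∑ z ∈ insert a s, f z ≤ f a + ∑ z ∈ s, f z := by
  by_cases h : a ∈ s
  · rw [Finset.insert_eq_of_mem h]; exact Nat.le_add_left _ _
  · rw [Finset.sum_insert h]

theorem loop (hA : ringKrullDim A = 1) : ∀ (n : ℕ) (B : Subalgebra A (FractionRing A))
    (T : Finset (FractionRing A)), B.toSubmodule.FG → (∀ z ∈ T, z ∈ B) → (∀ z ∈ T, IsUnit z) →
    ∑ z ∈ T, lam z ≤ n →
    ∃ (B' : Subalgebra A (FractionRing A)) (T' : Finset (FractionRing A)), B ≤ B' ∧
      B'.toSubmodule.FG ∧ (∀ z ∈ T', z ∈ B') ∧ (∀ z ∈ T', IsUnit z) ∧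
      (∀ z ∈ T, z ∈ Submonoid.closure (T' : Set (FractionRing A))) ∧
      (∀ x ∈ T', ∀ y ∈ T', x ≠ y → Comax B' x y) := by
  classical
  intro n
  induction n using Nat.strong_induction_on with
  | _ n ih =>
  intro B T hB hmem hunit hμ
  by_cases hc : ∀ x ∈ T, ∀ y ∈ T, x ≠ y → Comax B x y
  · exact ⟨B, T, le_rfl, hB, hmem, hunit, fun z hz => Submonoid.subset_closure hz, hc⟩
  push_neg at hc
  obtain ⟨x, hx, y, hy, hxy, hnc⟩ := hc
  obtain ⟨B₁, hBB₁, hB₁, t, x', y', α, β, ht, hx', hy', hα, hβ, hxt, hyt, hab⟩ :=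
    step hA B hB x y (hmem x hx) (hmem y hy) (hunit x hx) (hunit y hy)
  have hxu := hunit x hx
  have hyu := hunit y hy
  have htu : IsUnit t := isUnit_of_mul_isUnit_left (by rw [← hxt]; exact hxu)
  have hx'u : IsUnit x' := isUnit_of_mul_isUnit_right (by rw [← hxt]; exact hxu)
  have hy'u : IsUnit y' := isUnit_of_mul_isUnit_right (by rw [← hyt]; exact hyu)
  have htnu : ¬ ∃ ti ∈ B₁, t * ti = 1 := by
    rintro ⟨ti, hti, h⟩
    have hc1 : Comax B₁ x y :=
      ⟨α * ti, β * ti, B₁.mul_mem hα hti, B₁.mul_mem hβ hti, by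
        rw [hxt, hyt]; linear_combination (α * x' + β * y') * h + hab⟩
    exact hnc (comax_descend B B₁ hBB₁ hB₁ x y (hmem x hx) (hmem y hy) hc1)
  obtain ⟨T₁, hT₁⟩ : ∃ T₁ : Finset (FractionRing A),
      T₁ = insert t (insert x' (insert y' ((T.erase x).erase y))) := ⟨_, rfl⟩
  have hmem₁ : ∀ z ∈ T₁, z ∈ B₁ := by
    intro z hz
    simp only [hT₁, Finset.mem_insert, Finset.mem_erase] at hz
    rcases hz with rfl | rfl | rfl | ⟨_, _, hz⟩
    · exact ht
    · exact hx'
    · exact hy'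
    · exact hBB₁ (hmem z hz)
  have hunit₁ : ∀ z ∈ T₁, IsUnit z := by
    intro z hz
    simp only [hT₁, Finset.mem_insert, Finset.mem_erase] at hz
    rcases hz with rfl | rfl | rfl | ⟨_, _, hz⟩
    · exact htu
    · exact hx'u
    · exact hy'u
    · exact hunit z hz
  have e1 : lam x = lam x' + lam t := by
    rw [hxt]; exact lam_mul hA B₁ hB₁ t x' ht hx' htu hx'u
  have e2 : lam y = lam y' + lam t := by
    rw [hyt]; exact lam_mul hA B₁ hB₁ t y' ht hy' htu hy'u
  have e3 : 1 ≤ lam t := one_le_lam hA B₁ hB₁ t ht htu htnu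
  have s1 := Finset.add_sum_erase T lam hx
  have s2 := Finset.add_sum_erase (T.erase x) lam (Finset.mem_erase.mpr ⟨hxy.symm, hy⟩)
  have i1 := sum_insert_le' lam t (insert x' (insert y' ((T.erase x).erase y)))
  have i2 := sum_insert_le' lam x' (insert y' ((T.erase x).erase y))
  have i3 := sum_insert_le' lam y' ((T.erase x).erase y)
  rw [← hT₁] at i1
  have hμ₁ : ∑ z ∈ T₁, lam z < n := by omega
  obtain ⟨B', T', hB₁B', hB', hmem', hunit', hcl, hcomax⟩ :=
    ih (∑ z ∈ T₁, lam z) hμ₁ B₁ T₁ hB₁ hmem₁ hunit₁ le_rfl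
  refine ⟨B', T', hBB₁.trans hB₁B', hB', hmem', hunit', ?_, hcomax⟩
  intro z hz
  have htT₁ : t ∈ T₁ := by rw [hT₁]; exact Finset.mem_insert_self _ _
  have hx'T₁ : x' ∈ T₁ := by
    rw [hT₁]; exact Finset.mem_insert_of_mem (Finset.mem_insert_self _ _)
  have hy'T₁ : y' ∈ T₁ := by
    rw [hT₁]
    exact Finset.mem_insert_of_mem (Finset.mem_insert_of_mem (Finset.mem_insert_self _ _))
  by_cases hzx : z = x
  · rw [hzx, hxt]; exact mul_mem (hcl t htT₁) (hcl x' hx'T₁)
  by_cases hzy : z = y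
  · rw [hzy, hyt]; exact mul_mem (hcl t htT₁) (hcl y' hy'T₁)
  · refine hcl z ?_
    rw [hT₁]
    exact Finset.mem_insert_of_mem (Finset.mem_insert_of_mem (Finset.mem_insert_of_mem
      (Finset.mem_erase.mpr ⟨hzy, Finset.mem_erase.mpr ⟨hzx, hz⟩⟩)))

omit [IsNoetherianRing A] [IsLocalRing A] in
theorem nzd_of_isUnit_coe (B : Subalgebra A (FractionRing A)) (z : B)
    (hz : IsUnit (z : FractionRing A)) : z ∈ nonZeroDivisors B :=
  mem_nonZeroDivisors_of_injective (f := B.val) Subtype.val_injective hz.mem_nonZeroDivisors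

omit [IsNoetherianRing A] [IsLocalRing A] in
theorem local_factor (B : Subalgebra A (FractionRing A)) (T : Finset (FractionRing A))
    (hmem : ∀ z ∈ T, z ∈ B) (hunit : ∀ z ∈ T, IsUnit z)
    (hcomax : ∀ x ∈ T, ∀ y ∈ T, x ≠ y → Comax B x y) (q : MaximalSpectrum B) :
    ∃ π : Localization.AtPrime q.asIdeal, π ∈ nonZeroDivisors (Localization.AtPrime q.asIdeal) ∧
      ∀ z (hz : z ∈ B), z ∈ Submonoid.closure (T : Set (FractionRing A)) →
        ∃ (v : (Localization.AtPrime q.asIdeal)ˣ) (e : ℕ),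
          algebraMap B (Localization.AtPrime q.asIdeal) ⟨z, hz⟩ = (v : Localization.AtPrime q.asIdeal) * π ^ e := by
  classical
  -- the key claim: a `π` working for the elements of `T`
  obtain ⟨π, hπ, hT⟩ : ∃ π : Localization.AtPrime q.asIdeal,
      π ∈ nonZeroDivisors (Localization.AtPrime q.asIdeal) ∧ ∀ z ∈ T, ∃ hz : z ∈ B,
        ∃ (v : (Localization.AtPrime q.asIdeal)ˣ) (e : ℕ),
          algebraMap B (Localization.AtPrime q.asIdeal) ⟨z, hz⟩ =
            (v : Localization.AtPrime q.asIdeal) * π ^ e := by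
    have hunit_out : ∀ z (hz : z ∈ B), (⟨z, hz⟩ : B) ∉ q.asIdeal →
        ∃ (v : (Localization.AtPrime q.asIdeal)ˣ) (e : ℕ),
          algebraMap B (Localization.AtPrime q.asIdeal) ⟨z, hz⟩ =
            (v : Localization.AtPrime q.asIdeal) * (1 : Localization.AtPrime q.asIdeal) ^ e := by
      intro z hz hzq
      have hu : IsUnit (algebraMap B (Localization.AtPrime q.asIdeal) ⟨z, hz⟩) :=
        IsLocalization.map_units (Localization.AtPrime q.asIdeal)
          (⟨⟨z, hz⟩, hzq⟩ : q.asIdeal.primeCompl)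
      exact ⟨hu.unit, 0, by rw [pow_zero, mul_one]; rfl⟩
    by_cases h : ∃ z₀, ∃ hz₀ : z₀ ∈ T, (⟨z₀, hmem z₀ hz₀⟩ : B) ∈ q.asIdeal
    · obtain ⟨z₀, hz₀, hz₀q⟩ := h
      refine ⟨algebraMap B (Localization.AtPrime q.asIdeal) ⟨z₀, hmem z₀ hz₀⟩, ?_, ?_⟩
      · exact IsLocalization.map_nonZeroDivisors_le q.asIdeal.primeCompl
          (Localization.AtPrime q.asIdeal)
          (Submonoid.mem_map_of_mem _ (nzd_of_isUnit_coe B _ (hunit z₀ hz₀)))
      · intro z hz
        refine ⟨hmem z hz, ?_⟩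
        by_cases hzz : z = z₀
        · subst hzz
          exact ⟨1, 1, by rw [Units.val_one, one_mul, pow_one]⟩
        · have hzq : (⟨z, hmem z hz⟩ : B) ∉ q.asIdeal := by
            intro hzq
            obtain ⟨α, β, hα, hβ, hαβ⟩ := hcomax z hz z₀ hz₀ hzz
            have e : (1 : B) = ⟨α, hα⟩ * ⟨z, hmem z hz⟩ + ⟨β, hβ⟩ * ⟨z₀, hmem z₀ hz₀⟩ :=
              Subtype.ext hαβ.symm
            have h1 : (1 : B) ∈ q.asIdeal := by
              rw [e]
              exact q.asIdeal.add_mem (q.asIdeal.mul_mem_left _ hzq)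
                (q.asIdeal.mul_mem_left _ hz₀q)
            exact q.isMaximal.ne_top ((Ideal.eq_top_iff_one _).mpr h1)
          have hu : IsUnit (algebraMap B (Localization.AtPrime q.asIdeal) ⟨z, hmem z hz⟩) :=
            IsLocalization.map_units (Localization.AtPrime q.asIdeal)
              (⟨⟨z, hmem z hz⟩, hzq⟩ : q.asIdeal.primeCompl)
          exact ⟨hu.unit, 0, by rw [pow_zero, mul_one]; rfl⟩
    · push_neg at h
      refine ⟨1, one_mem _, ?_⟩
      intro z hz
      exact ⟨hmem z hz, hunit_out z (hmem z hz) (h z hz)⟩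
  refine ⟨π, hπ, ?_⟩
  intro z hz hzcl
  have key : ∃ hz' : z ∈ B, ∃ (v : (Localization.AtPrime q.asIdeal)ˣ) (e : ℕ),
      algebraMap B (Localization.AtPrime q.asIdeal) ⟨z, hz'⟩ =
        (v : Localization.AtPrime q.asIdeal) * π ^ e := by
    refine Submonoid.closure_induction
      (motive := fun z _ => ∃ hz' : z ∈ B, ∃ (v : (Localization.AtPrime q.asIdeal)ˣ) (e : ℕ),
        algebraMap B (Localization.AtPrime q.asIdeal) ⟨z, hz'⟩ =
          (v : Localization.AtPrime q.asIdeal) * π ^ e) ?_ ?_ ?_ hzcl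
    · intro w hw
      exact hT w (Finset.mem_coe.mp hw)
    · exact ⟨B.one_mem, 1, 0, by
        rw [Units.val_one, one_mul, pow_zero]
        exact map_one (algebraMap B (Localization.AtPrime q.asIdeal))⟩
    · rintro w w' _ _ ⟨hw, v, e, h⟩ ⟨hw', v', e', h'⟩
      refine ⟨B.mul_mem hw hw', v * v', e + e', ?_⟩
      have : (⟨w * w', B.mul_mem hw hw'⟩ : B) = ⟨w, hw⟩ * ⟨w', hw'⟩ := rfl
      rw [this, map_mul, h, h', Units.val_mul, pow_add]
      ring
  obtain ⟨_, v, e, h⟩ := key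
  exact ⟨v, e, h⟩

theorem main1836 (A : Type u) [CommRing A] [IsNoetherianRing A] [IsLocalRing A]
    (hA : ringKrullDim A = 1) (r : ℕ) (a : Fin r → A) (ha : ∀ i, a i ∈ nonZeroDivisors A) :
    ∃ (B : Type u) (_ : CommRing B) (_ : Algebra A B),
      CycAlg.IsFinExt A B (IsLocalRing.maximalIdeal A) ∧ ∀ q : MaximalSpectrum B,
        ∃ π : Localization.AtPrime q.asIdeal,
          π ∈ nonZeroDivisors (Localization.AtPrime q.asIdeal) ∧
          ∀ i, ∃ (v : (Localization.AtPrime q.asIdeal)ˣ) (e : ℕ),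
            algebraMap A (Localization.AtPrime q.asIdeal) (a i) =
              (v : Localization.AtPrime q.asIdeal) * π ^ e := by
  classical
  obtain ⟨B', T', -, hB', hmem', hunit', hcl, hcomax⟩ :=
    loop hA _ (⊥ : Subalgebra A (FractionRing A))
      (Finset.univ.image fun i => algebraMap A (FractionRing A) (a i))
      Subalgebra.fg_bot_toSubmodule
      (by
        intro z hz
        obtain ⟨i, -, rfl⟩ := Finset.mem_image.mp hz
        exact Subalgebra.algebraMap_mem _ _)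
      (by
        intro z hz
        obtain ⟨i, -, rfl⟩ := Finset.mem_image.mp hz
        exact IsLocalization.map_units (FractionRing A) ⟨a i, ha i⟩)
      le_rfl
  haveI : Module.Finite A B' := Module.Finite.of_fg hB'
  have hinj : Function.Injective (algebraMap A B') := fun x y h =>
    IsFractionRing.injective A (FractionRing A) (congrArg Subtype.val h)
  obtain ⟨n, hn⟩ := exists_pow_smul_mem_subalgebra hA B' hB'
  refine ⟨B', inferInstance, inferInstance, ⟨hinj, inferInstance, n, hn⟩, ?_⟩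
  intro q
  obtain ⟨π, hπ, hfac⟩ := local_factor B' T' hmem' hunit' hcomax q
  refine ⟨π, hπ, fun i => ?_⟩
  have hcli := hcl (algebraMap A (FractionRing A) (a i))
    (Finset.mem_image.mpr ⟨i, Finset.mem_univ _, rfl⟩)
  obtain ⟨v, e, h⟩ := hfac _ (Subalgebra.algebraMap_mem B' (a i)) hcli
  exact ⟨v, e, h⟩

end Groth.Agent.Lib.FinExtPrinH1
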