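import Mathlib
import Groth.Prelude

/-!
# The stalk of `g_* O_Z` at `x` as a localization of `Γ(Z, g⁻¹U)` (helper4)
APPEND-ONLY once landed.
-/

set_option autoImplicit false
set_option linter.style.haveILetI false
universe u
open CategoryTheory AlgebraicGeometry TopologicalSpace Opposite

namespace Groth.Agent.Lib.FinFibH4

variable {Z X : Scheme.{u}} (g : Z ⟶ X)

/-- germ map of the pushforward presheaf, as a ring hom. -/
noncomputable def gam (U : X.Opens) (x : X) (hx : x ∈ U) :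
    Γ(Z, g ⁻¹ᵁ U) →+* ((g.base _* Z.presheaf).stalk x) :=
  ((g.base _* Z.presheaf).germ U x hx).hom

/-- restriction of sections of `O_Z` over preimages. -/
noncomputable def rZ {U V : X.Opens} (h : V ≤ U) : Γ(Z, g ⁻¹ᵁ U) →+* Γ(Z, g ⁻¹ᵁ V) :=
  (Z.presheaf.map (homOfLE (g.preimage_mono h)).op).hom

theorem gam_res {U V : X.Opens} (h : V ≤ U) (x : X) (hx : x ∈ V) (s : Γ(Z, g ⁻¹ᵁ U)) :
    gam g V x hx (rZ g h s) = gam g U x (h hx) s :=
  TopCat.Presheaf.germ_res_apply (g.base _* Z.presheaf) (homOfLE h) x hx s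

theorem rZ_rZ {U V W : X.Opens} (h : V ≤ U) (h' : W ≤ V) (s : Γ(Z, g ⁻¹ᵁ U)) :
    rZ g h' (rZ g h s) = rZ g (h'.trans h) s := by
  show (Z.presheaf.map _ ≫ Z.presheaf.map _).hom s = _
  rw [← Z.presheaf.map_comp]
  rfl

theorem rZ_app {U V : X.Opens} (h : V ≤ U) (b : Γ(X, U)) :
    rZ g h ((g.app U).hom b) = (g.app V).hom ((X.presheaf.map (homOfLE h).op).hom b) := by
  have := g.naturality (homOfLE h).op
  exact (congrArg (fun φ => φ.hom b) this).symm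

theorem isUnit_gam_app {U : X.Opens} (x : X) (hx : x ∈ U) (b : Γ(X, U))
    (hb : x ∈ X.basicOpen b) : IsUnit (gam g U x hx ((g.app U).hom b)) := by
  rw [← gam_res g (X.basicOpen_le b) x hb, rZ_app]
  have hu : IsUnit ((X.presheaf.map (homOfLE (X.basicOpen_le b)).op).hom b) :=
    RingedSpace.isUnit_res_basicOpen X.toRingedSpace b
  exact (hu.map (g.app (X.basicOpen b)).hom).map (gam g (X.basicOpen b) x hb)

variable [IsAffineHom g]

theorem gam_surj {U : X.Opens} (hU : IsAffineOpen U) (x : X) (hx : x ∈ U)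
    (t : (g.base _* Z.presheaf).stalk x) :
    ∃ (c : Γ(Z, g ⁻¹ᵁ U)) (b : Γ(X, U)), x ∈ X.basicOpen b ∧
      t * gam g U x hx ((g.app U).hom b) = gam g U x hx c := by
  obtain ⟨U', hxU', s, rfl⟩ := TopCat.Presheaf.exists_germ_eq (g.base _* Z.presheaf) t
  obtain ⟨b, hbU', hxb⟩ := hU.exists_basicOpen_le (V := U') ⟨x, hxU'⟩ hx
  have hW : IsAffineOpen (g ⁻¹ᵁ U) := hU.preimage g
  have hpre : g ⁻¹ᵁ X.basicOpen b = Z.basicOpen ((g.app U).hom b) := Scheme.preimage_basicOpen g b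
  letI : Algebra Γ(Z, g ⁻¹ᵁ U) Γ(Z, g ⁻¹ᵁ X.basicOpen b) :=
    (rZ g (X.basicOpen_le b)).toAlgebra
  haveI hloc : IsLocalization.Away ((g.app U).hom b) Γ(Z, g ⁻¹ᵁ X.basicOpen b) :=
    hW.isLocalization_of_eq_basicOpen ((g.app U).hom b)
      (homOfLE (g.preimage_mono (X.basicOpen_le b))) hpre
  obtain ⟨⟨c, m⟩, hcm⟩ := IsLocalization.surj (Submonoid.powers ((g.app U).hom b))
    (rZ g hbU' s)
  obtain ⟨n, hn⟩ := m.2
  have hcm' : rZ g hbU' s * rZ g (X.basicOpen_le b) (((g.app U).hom b) ^ n) =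
      rZ g (X.basicOpen_le b) c := by
    have hn' : ((g.app U).hom b) ^ n = ↑m := hn
    rw [hn']; exact hcm
  have h1 := congrArg (gam g (X.basicOpen b) x hxb) hcm'
  rw [map_mul, gam_res, gam_res, gam_res] at h1
  refine ⟨c, b ^ n, ?_, ?_⟩
  · rcases Nat.eq_zero_or_pos n with h0 | hpos
    · rw [h0, pow_zero, Scheme.basicOpen_one]; exact hx
    · rw [Scheme.basicOpen_pow X b hpos]; exact hxb
  · rw [map_pow]
    exact h1

theorem gam_eq {U : X.Opens} (hU : IsAffineOpen U) (x : X) (hx : x ∈ U)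
    (c₁ c₂ : Γ(Z, g ⁻¹ᵁ U)) (h : gam g U x hx c₁ = gam g U x hx c₂) :
    ∃ b : Γ(X, U), x ∈ X.basicOpen b ∧ (g.app U).hom b * c₁ = (g.app U).hom b * c₂ := by
  obtain ⟨W', hxW', iU, iV, hres⟩ :=
    TopCat.Presheaf.germ_eq (g.base _* Z.presheaf) x hx hx c₁ c₂ h
  obtain ⟨b, hbW', hxb⟩ := hU.exists_basicOpen_le (V := W') ⟨x, hxW'⟩ hx
  have hW : IsAffineOpen (g ⁻¹ᵁ U) := hU.preimage g
  have hpre : g ⁻¹ᵁ X.basicOpen b = Z.basicOpen ((g.app U).hom b) := Scheme.preimage_basicOpen g b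
  letI : Algebra Γ(Z, g ⁻¹ᵁ U) Γ(Z, g ⁻¹ᵁ X.basicOpen b) :=
    (rZ g (X.basicOpen_le b)).toAlgebra
  haveI hloc : IsLocalization.Away ((g.app U).hom b) Γ(Z, g ⁻¹ᵁ X.basicOpen b) :=
    hW.isLocalization_of_eq_basicOpen ((g.app U).hom b)
      (homOfLE (g.preimage_mono (X.basicOpen_le b))) hpre
  have hres' : rZ g iU.le c₁ = rZ g iU.le c₂ := hres
  have h2 : rZ g (X.basicOpen_le b) c₁ = rZ g (X.basicOpen_le b) c₂ := by
    rw [← rZ_rZ g iU.le hbW', ← rZ_rZ g iU.le hbW', hres']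
  obtain ⟨⟨m, n, hn⟩, hm⟩ := (IsLocalization.eq_iff_exists (Submonoid.powers ((g.app U).hom b))
    Γ(Z, g ⁻¹ᵁ X.basicOpen b)).mp h2
  refine ⟨b ^ n, ?_, ?_⟩
  · rcases Nat.eq_zero_or_pos n with h0 | hpos
    · rw [h0, pow_zero, Scheme.basicOpen_one]; exact hx
    · rw [Scheme.basicOpen_pow X b hpos]; exact hxb
  · have hn' : ((g.app U).hom b) ^ n = m := hn
    rw [map_pow, hn']
    exact hm

end Groth.Agent.Lib.FinFibH4
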