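import Mathlib
import Groth.Prelude
import Groth.Agent.Lib.FinFib1_helper4

/-!
# Fibres of a finite morphism and maximal ideals of the stalk of `g_* O_Z` (helper4): S15547
APPEND-ONLY once landed.
-/

set_option autoImplicit false
set_option linter.style.haveILetI false
universe u
open CategoryTheory AlgebraicGeometry TopologicalSpace Opposite

namespace Groth.Agent.Lib.FinFibH4

variable {Z X : Scheme.{u}}

/-- the prime of `Γ(X,U)` of sections vanishing at `x`. -/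
noncomputable def pt (X : Scheme.{u}) (U : X.Opens) (x : X) (hx : x ∈ U) : Ideal Γ(X, U) :=
  Ideal.comap (X.presheaf.germ U x hx).hom (IsLocalRing.maximalIdeal (X.presheaf.stalk x))

instance (U : X.Opens) (x : X) (hx : x ∈ U) : (pt X U x hx).IsPrime :=
  Ideal.comap_isPrime _ _

theorem mem_pt (U : X.Opens) (x : X) (hx : x ∈ U) (b : Γ(X, U)) :
    b ∈ pt X U x hx ↔ x ∉ X.basicOpen b := by
  rw [Scheme.mem_basicOpen X b x hx]
  show (X.presheaf.germ U x hx).hom b ∈ IsLocalRing.maximalIdeal _ ↔ _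
  rw [IsLocalRing.mem_maximalIdeal, mem_nonunits_iff]

theorem eq_of_forall_mem_basicOpen_iff {U : X.Opens} (hU : IsAffineOpen U) {x y : X}
    (hx : x ∈ U) (hy : y ∈ U)
    (h : ∀ b : Γ(X, U), x ∈ X.basicOpen b ↔ y ∈ X.basicOpen b) : x = y := by
  refine (inseparable_iff_forall_isOpen.mpr fun s hs => ?_).eq
  constructor
  · intro hxs
    obtain ⟨b, hb, hxb⟩ := hU.exists_basicOpen_le (V := ⟨s, hs⟩) ⟨x, hxs⟩ hx
    exact hb ((h b).mp hxb)
  · intro hys
    obtain ⟨b, hb, hyb⟩ := hU.exists_basicOpen_le (V := ⟨s, hs⟩) ⟨y, hys⟩ hy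
    exact hb ((h b).mpr hyb)

theorem exists_pt_eq {U : X.Opens} (hU : IsAffineOpen U) (q : Ideal Γ(X, U)) [hq : q.IsPrime] :
    ∃ (z : X) (hz : z ∈ U), pt X U z hz = q := by
  obtain ⟨z, hzdef⟩ : ∃ z : X, z = hU.fromSpec.base ⟨q, hq⟩ := ⟨_, rfl⟩
  have hz : z ∈ U := by
    have : z ∈ Set.range hU.fromSpec.base := ⟨_, hzdef.symm⟩
    rw [hU.range_fromSpec] at this
    exact this
  refine ⟨z, hz, ?_⟩
  ext b
  rw [mem_pt]
  have h1 : z ∈ X.basicOpen b ↔
      (⟨q, hq⟩ : PrimeSpectrum Γ(X, U)) ∈ hU.fromSpec ⁻¹ᵁ X.basicOpen b := by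
    rw [hzdef]; rfl
  rw [h1, hU.fromSpec_preimage_basicOpen]
  show ¬ (b ∉ q) ↔ b ∈ q
  exact not_not

/-- the canonical map `(g_* O_Z)_x → O_{Z,z}` for `g z = x`. -/
noncomputable def phi (g : Z ⟶ X) (x : X) (z : Z) (hz : g.base z = x) :
    ((g.base _* Z.presheaf).stalk x) →+* (Z.presheaf.stalk z) :=
  (((g.base _* Z.presheaf).stalkCongr (Inseparable.of_eq hz)).inv ≫
      TopCat.Presheaf.stalkPushforward CommRingCat g.base Z.presheaf z).hom

theorem phi_gam (g : Z ⟶ X) (x : X) (z : Z) (hz : g.base z = x) (U : X.Opens) (hx : x ∈ U)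
    (hzU : z ∈ g ⁻¹ᵁ U) (s : Γ(Z, g ⁻¹ᵁ U)) :
    phi g x z hz (gam g U x hx s) = (Z.presheaf.germ (g ⁻¹ᵁ U) z hzU).hom s := by
  subst hz
  have h1 : (g.base _* Z.presheaf).germ U (g.base z) hx ≫
      (((g.base _* Z.presheaf).stalkCongr (Inseparable.of_eq rfl)).inv ≫
        TopCat.Presheaf.stalkPushforward CommRingCat g.base Z.presheaf z) =
      Z.presheaf.germ (g ⁻¹ᵁ U) z hzU := by
    rw [← Category.assoc]
    have h2 : (g.base _* Z.presheaf).germ U (g.base z) hx ≫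
        ((g.base _* Z.presheaf).stalkCongr (Inseparable.of_eq (rfl : g.base z = g.base z))).inv =
        (g.base _* Z.presheaf).germ U (g.base z) hx :=
      TopCat.Presheaf.germ_stalkSpecializes (g.base _* Z.presheaf) hx (specializes_rfl)
    rw [h2]
    exact TopCat.Presheaf.stalkPushforward_germ CommRingCat g.base Z.presheaf U z hx
  exact congrArg (fun φ => φ.hom s) h1

theorem main15547 (g : Z ⟶ X) [IsFinite g] (x : X) :
    Set.BijOn (fun z : {z : Z // g.base z = x} =>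
        Ideal.comap (((g.base _* Z.presheaf).stalkCongr (Inseparable.of_eq z.2)).inv ≫
            TopCat.Presheaf.stalkPushforward CommRingCat g.base Z.presheaf z.1).hom
          (IsLocalRing.maximalIdeal (Z.presheaf.stalk z.1)))
      Set.univ {I : Ideal ((g.base _* Z.presheaf).stalk x) | I.IsMaximal} := by
  classical
  obtain ⟨U, hU, hx⟩ : ∃ U : X.Opens, IsAffineOpen U ∧ x ∈ U := by
    obtain ⟨_, ⟨V, hV, rfl⟩, hxV, -⟩ :=
      X.isBasis_affineOpens.exists_subset_of_mem_open (Set.mem_univ x) isOpen_univ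
    exact ⟨V, hV, hxV⟩
  have hW : IsAffineOpen (g ⁻¹ᵁ U) := hU.preimage g
  obtain ⟨γ, hγ⟩ : ∃ γ : Γ(Z, g ⁻¹ᵁ U) →+* ((g.base _* Z.presheaf).stalk x), γ = gam g U x hx :=
    ⟨_, rfl⟩
  obtain ⟨ψ, hψ⟩ : ∃ ψ : Γ(X, U) →+* Γ(Z, g ⁻¹ᵁ U), ψ = (g.app U).hom := ⟨_, rfl⟩
  letI : Algebra Γ(Z, g ⁻¹ᵁ U) ((g.base _* Z.presheaf).stalk x) := γ.toAlgebra
  letI : Algebra Γ(X, U) Γ(Z, g ⁻¹ᵁ U) := ψ.toAlgebra
  haveI : Algebra.IsIntegral Γ(X, U) Γ(Z, g ⁻¹ᵁ U) := by
    constructor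
    intro c
    have := g.isIntegral_app U hU c
    rw [← hψ] at this
    exact this
  let S : Submonoid Γ(X, U) :=
    { carrier := {b | x ∈ X.basicOpen b}
      one_mem' := by
        show x ∈ X.basicOpen (1 : Γ(X, U))
        rw [Scheme.basicOpen_one]; exact hx
      mul_mem' := by
        intro a b ha hb
        show x ∈ X.basicOpen (a * b)
        rw [Scheme.basicOpen_mul]
        exact ⟨ha, hb⟩ }
  let M : Submonoid Γ(Z, g ⁻¹ᵁ U) := S.map ψ
  haveI hloc : IsLocalization M ((g.base _* Z.presheaf).stalk x) := by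
    rw [isLocalization_iff]
    refine ⟨?_, ?_, ?_⟩
    · rintro ⟨_, b, hb, rfl⟩
      show IsUnit (γ (ψ b))
      rw [hγ, hψ]
      exact isUnit_gam_app g x hx b hb
    · intro t
      obtain ⟨c, b, hb, h⟩ := gam_surj g hU x hx t
      refine ⟨(c, ⟨ψ b, b, hb, rfl⟩), ?_⟩
      show t * γ (ψ b) = γ c
      rw [hγ, hψ]
      exact h
    · intro c₁ c₂ h
      have h' : gam g U x hx c₁ = gam g U x hx c₂ := by
        rw [← hγ]; exact h
      obtain ⟨b, hb, hb'⟩ := gam_eq g hU x hx c₁ c₂ h'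
      refine ⟨⟨ψ b, b, hb, rfl⟩, ?_⟩
      show ψ b * c₁ = ψ b * c₂
      rw [hψ]
      exact hb'
  -- ideals of the stalk are determined by their contraction
  have hD : ∀ I J : Ideal ((g.base _* Z.presheaf).stalk x),
      Ideal.comap γ I = Ideal.comap γ J → I = J := by
    intro I J h
    rw [← IsLocalization.map_under M _ I, ← IsLocalization.map_under M _ J]
    exact congrArg (Ideal.map (algebraMap Γ(Z, g ⁻¹ᵁ U) ((g.base _* Z.presheaf).stalk x))) h
  have hfib : ∀ z : Z, g.base z = x → z ∈ g ⁻¹ᵁ U := fun z hz => by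
    show g.base z ∈ U
    rw [hz]; exact hx
  -- (A)
  have hA : ∀ (z : Z) (hz : g.base z = x),
      Ideal.comap γ (Ideal.comap (phi g x z hz) (IsLocalRing.maximalIdeal (Z.presheaf.stalk z))) =
        pt Z (g ⁻¹ᵁ U) z (hfib z hz) := by
    intro z hz
    ext c
    rw [Ideal.mem_comap, Ideal.mem_comap, hγ, phi_gam g x z hz U hx (hfib z hz)]
    rfl
  -- basic opens and preimages
  have hbo : ∀ (z : Z) (b : Γ(X, U)), z ∈ Z.basicOpen (ψ b) ↔ g.base z ∈ X.basicOpen b := by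
    intro z b
    rw [hψ, ← Scheme.preimage_basicOpen g b]
    rfl
  -- (B)
  have hB : ∀ (z : Z) (hz : g.base z = x),
      Ideal.comap ψ (pt Z (g ⁻¹ᵁ U) z (hfib z hz)) = pt X U x hx := by
    intro z hz
    ext b
    rw [Ideal.mem_comap, mem_pt, mem_pt, hbo, hz]
  -- (C)
  have hC : ∀ I : Ideal ((g.base _* Z.presheaf).stalk x), I ≠ ⊤ →
      Ideal.comap ψ (Ideal.comap γ I) ≤ pt X U x hx := by
    intro I hI b hb
    rw [mem_pt]
    intro hxb
    apply hI
    have hu : IsUnit (γ (ψ b)) := by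
      rw [hγ, hψ]
      exact isUnit_gam_app g x hx b hxb
    exact Ideal.eq_top_of_isUnit_mem _ hb hu
  refine ⟨fun z _ => ?_, fun z _ z' _ h => ?_, fun I hI => ?_⟩
  · -- maximality
    show (Ideal.comap (phi g x z.1 z.2)
      (IsLocalRing.maximalIdeal (Z.presheaf.stalk z.1))).IsMaximal
    obtain ⟨Iz, hIz⟩ : ∃ Iz, Iz = Ideal.comap (phi g x z.1 z.2)
      (IsLocalRing.maximalIdeal (Z.presheaf.stalk z.1)) := ⟨_, rfl⟩
    rw [← hIz]
    haveI hprime : Iz.IsPrime := by rw [hIz]; exact Ideal.comap_isPrime _ _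
    obtain ⟨I', hI'max, hle⟩ := Ideal.exists_le_maximal Iz hprime.ne_top
    haveI := hI'max.isPrime
    have hq : Ideal.comap γ Iz = pt Z _ z.1 (hfib z.1 z.2) := by rw [hIz]; exact hA z.1 z.2
    have hle' : Ideal.comap γ Iz ≤ Ideal.comap γ I' := Ideal.comap_mono hle
    have hcm : Ideal.comap ψ (Ideal.comap γ I') = Ideal.comap ψ (Ideal.comap γ Iz) := by
      apply le_antisymm
      · rw [hq, hB z.1 z.2]
        exact hC I' hI'max.ne_top
      · exact Ideal.comap_mono hle'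
    have heq : Ideal.comap γ Iz = Ideal.comap γ I' := by
      by_contra hne
      have hlt : Ideal.comap γ Iz < Ideal.comap γ I' := lt_of_le_of_ne hle' hne
      haveI : (Ideal.comap γ Iz).IsPrime := Ideal.comap_isPrime _ _
      have hlt2 := Ideal.IsIntegral.comap_lt_comap (R := Γ(X, U)) hlt
      exact (ne_of_lt hlt2) hcm.symm
    rw [hD Iz I' heq]
    exact hI'max
  · -- injectivity
    have h' : Ideal.comap (phi g x z.1 z.2) (IsLocalRing.maximalIdeal (Z.presheaf.stalk z.1)) =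
        Ideal.comap (phi g x z'.1 z'.2) (IsLocalRing.maximalIdeal (Z.presheaf.stalk z'.1)) := h
    have hp : pt Z (g ⁻¹ᵁ U) z.1 (hfib z.1 z.2) = pt Z (g ⁻¹ᵁ U) z'.1 (hfib z'.1 z'.2) := by
      rw [← hA z.1 z.2, ← hA z'.1 z'.2, h']
    apply Subtype.ext
    refine eq_of_forall_mem_basicOpen_iff hW (hfib z.1 z.2) (hfib z'.1 z'.2) (fun c => ?_)
    have h1 := mem_pt (X := Z) (g ⁻¹ᵁ U) z.1 (hfib z.1 z.2) c
    have h2 := mem_pt (X := Z) (g ⁻¹ᵁ U) z'.1 (hfib z'.1 z'.2) c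
    rw [hp] at h1
    exact not_iff_not.mp (h1.symm.trans h2)
  · -- surjectivity
    have hImax : I.IsMaximal := hI
    haveI hIprime : I.IsPrime := hImax.isPrime
    obtain ⟨q, hq⟩ : ∃ q, q = Ideal.comap γ I := ⟨_, rfl⟩
    haveI hqprime : q.IsPrime := by rw [hq]; exact Ideal.comap_isPrime _ _
    have hqle : Ideal.comap (algebraMap Γ(X, U) Γ(Z, g ⁻¹ᵁ U)) q ≤ pt X U x hx := by
      rw [hq]; exact hC I hImax.ne_top
    obtain ⟨Q, hQq, hQprime, hQ⟩ :=
      Ideal.exists_ideal_over_prime_of_isIntegral_of_isPrime (pt X U x hx) q hqle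
    have hdisj : Disjoint (M : Set Γ(Z, g ⁻¹ᵁ U)) (Q : Set Γ(Z, g ⁻¹ᵁ U)) := by
      rw [Set.disjoint_left]
      rintro _ ⟨b, hb, rfl⟩ hbQ
      have hbp : b ∈ pt X U x hx := by
        rw [← hQ]; exact hbQ
      rw [mem_pt] at hbp
      exact hbp hb
    have hmapprime := IsLocalization.isPrime_of_isPrime_disjoint M
      ((g.base _* Z.presheaf).stalk x) Q hQprime hdisj
    have hIle : I ≤ Ideal.map (algebraMap Γ(Z, g ⁻¹ᵁ U) ((g.base _* Z.presheaf).stalk x)) Q := by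
      rw [← IsLocalization.map_under M _ I]
      apply Ideal.map_mono
      show Ideal.comap γ I ≤ Q
      rw [← hq]; exact hQq
    have hIeq := hImax.eq_of_le hmapprime.ne_top hIle
    have hQeq : Q = q := by
      have := IsLocalization.under_map_of_isPrime_disjoint M
        ((g.base _* Z.presheaf).stalk x) hQprime hdisj
      rw [← hIeq] at this
      rw [hq]
      exact this.symm
    rw [hQeq] at hQ
    obtain ⟨z, hzW, hzq⟩ := exists_pt_eq hW q
    have hgz : g.base z = x := by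
      refine eq_of_forall_mem_basicOpen_iff hU (show g.base z ∈ U from hzW) hx (fun b => ?_)
      rw [← hbo]
      have h1 : b ∈ pt X U x hx ↔ ψ b ∈ pt Z (g ⁻¹ᵁ U) z hzW := by
        rw [← hQ, hzq]; rfl
      rw [mem_pt, mem_pt] at h1
      exact (not_iff_not.mp h1).symm
    refine ⟨⟨z, hgz⟩, trivial, ?_⟩
    show Ideal.comap (phi g x z hgz) (IsLocalRing.maximalIdeal (Z.presheaf.stalk z)) = I
    apply hD
    rw [hA z hgz, ← hq]
    exact hzq

end Groth.Agent.Lib.FinFibH4
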