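import Mathlib

/-!
# A map onto a finite flat algebra with equal fibre ranks is bijective (helper3)
-/

open TensorProduct

namespace Groth.Agent.Lib.FinFlatBijH3

universe u

variable {R A B : Type u} [CommRing R] [CommRing A] [CommRing B] [Algebra R A] [Algebra R B]

theorem surjective_of_max [Module.Finite R A] (f : B →ₐ[R] A)
    (hmax : ∀ (m : Ideal R) [m.IsMaximal],
      Function.Surjective (LinearMap.lTensor m.ResidueField f.toLinearMap)) :
    Function.Surjective f := by
  let S : Submodule R A := LinearMap.range f.toLinearMap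
  let π : A →ₗ[R] A ⧸ S := S.mkQ
  have hπf : π ∘ₗ f.toLinearMap = 0 := by
    ext b
    show S.mkQ (f b) = 0
    rw [Submodule.mkQ_apply, Submodule.Quotient.mk_eq_zero]
    exact ⟨b, rfl⟩
  have hsub : Subsingleton (A ⧸ S) := by
    by_contra hN
    rw [not_subsingleton_iff_nontrivial] at hN
    obtain ⟨p, hp⟩ := Module.nonempty_support_of_nontrivial (R := R) (M := A ⧸ S)
    obtain ⟨m, hm, hpm⟩ := Ideal.exists_le_maximal p.asIdeal p.2.ne_top
    have hmem : (⟨m, hm.isPrime⟩ : PrimeSpectrum R) ∈ Module.support R (A ⧸ S) :=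
      Module.mem_support_mono (p := p) (q := ⟨m, hm.isPrime⟩) hpm hp
    rw [Module.mem_support_iff_nontrivial_residueField_tensorProduct] at hmem
    have h1 : Function.Surjective (π.lTensor m.ResidueField) :=
      LinearMap.lTensor_surjective _ (Submodule.mkQ_surjective S)
    have h0 : ∀ a : m.ResidueField ⊗[R] (A ⧸ S), a = 0 := by
      intro a
      obtain ⟨a', rfl⟩ := h1 a
      obtain ⟨a'', rfl⟩ := hmax m a'
      rw [← LinearMap.comp_apply, ← LinearMap.lTensor_comp, hπf, LinearMap.lTensor_zero,
        LinearMap.zero_apply]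
    obtain ⟨a, b, hab⟩ := hmem
    exact hab ((h0 a).trans (h0 b).symm)
  intro a
  have h2 : π a = 0 := Subsingleton.elim _ _
  rw [Submodule.mkQ_apply, Submodule.Quotient.mk_eq_zero] at h2
  obtain ⟨b, hb⟩ := h2
  exact ⟨b, hb⟩

/-- If `κ(p) ⊗ f` is injective for every prime `p`, the kernel of `f` is nil. -/
theorem isNilpotent_of_mem_ker (f : B →ₐ[R] A)
    (hinj : ∀ p : PrimeSpectrum R,
      Function.Injective (LinearMap.lTensor p.asIdeal.ResidueField f.toLinearMap))
    (x : B) (hx : f x = 0) : IsNilpotent x := by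
  rw [← mem_nilradical, nilradical_eq_sInf, Ideal.mem_sInf]
  intro q hq
  haveI : q.IsPrime := hq
  let p : PrimeSpectrum R := ⟨q.comap (algebraMap R B), inferInstance⟩
  let g : p.asIdeal.ResidueField ⊗[R] B →ₐ[R] q.ResidueField :=
    Algebra.TensorProduct.lift (Ideal.ResidueField.mapₐ _ _ (Algebra.ofId _ _) rfl)
      (IsScalarTower.toAlgHom _ _ _) (fun _ _ ↦ Commute.all ..)
  have h1 : (1 : p.asIdeal.ResidueField) ⊗ₜ[R] x = 0 := by
    apply hinj p
    rw [LinearMap.lTensor_tmul, map_zero]
    show (1 : p.asIdeal.ResidueField) ⊗ₜ[R] f x = 0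
    rw [hx, tmul_zero]
  have h2 : g ((1 : p.asIdeal.ResidueField) ⊗ₜ[R] x) = algebraMap B q.ResidueField x := by
    simp [g]
  rw [h1, map_zero] at h2
  exact Ideal.algebraMap_residueField_eq_zero.1 h2.symm

theorem finite_of_nil_ker [Module.Finite R A] [Algebra.FiniteType R B] (f : B →ₐ[R] A)
    (hnil : ∀ x : B, f x = 0 → IsNilpotent x) : Module.Finite R B := by
  haveI : Algebra.IsIntegral R B := by
    refine ⟨fun b => ?_⟩
    obtain ⟨P, hP, hPb⟩ := Algebra.IsIntegral.isIntegral (R := R) (f b)
    have h1 : f (Polynomial.aeval b P) = 0 := by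
      rw [← Polynomial.aeval_algHom_apply]
      exact hPb
    obtain ⟨n, hn⟩ := hnil _ h1
    refine ⟨P ^ n, hP.pow n, ?_⟩
    show Polynomial.aeval b (P ^ n) = 0
    rw [map_pow, hn]
  exact Algebra.IsIntegral.finite

theorem injective_of_max [Module.Finite R A] [Module.Flat R A] [Module.Finite R B]
    (f : B →ₐ[R] A)
    (hmax : ∀ (m : Ideal R) [m.IsMaximal],
      Function.Injective (LinearMap.lTensor m.ResidueField f.toLinearMap)) :
    Function.Injective f := by
  rw [injective_iff_map_eq_zero]
  intro x hx
  refine Module.eq_zero_of_localization_maximal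
    (fun P _ => Localization.AtPrime P ⊗[R] B)
    (fun P _ => TensorProduct.mk R (Localization.AtPrime P) B 1) x ?_
  intro P hP
  let Rp := Localization.AtPrime P
  let K := P.ResidueField
  let l : Rp ⊗[R] B →ₗ[Rp] Rp ⊗[R] A := f.toLinearMap.baseChange Rp
  haveI : Module.Free Rp (Rp ⊗[R] A) := Module.free_of_flat_of_isLocalRing
  let eA := AlgebraTensorModule.cancelBaseChange R Rp K K A
  let eB := AlgebraTensorModule.cancelBaseChange R Rp K K B
  have hnat : ∀ z, eA (l.lTensor K z) = (f.toLinearMap.lTensor K) (eB z) := by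
    intro z
    induction z using TensorProduct.induction_on with
    | zero => simp
    | add x y hx hy => simp only [map_add, hx, hy]
    | tmul k y =>
      induction y using TensorProduct.induction_on with
      | zero => simp
      | add x y hx hy => simp only [TensorProduct.tmul_add, map_add, hx, hy]
      | tmul r b => simp [l, eA, eB]
  have hinj' : Function.Injective (l.lTensor (IsLocalRing.ResidueField Rp)) := by
    rw [injective_iff_map_eq_zero]
    intro z hz
    have h1 := hnat z
    rw [hz, map_zero] at h1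
    have h2 : eB z = 0 := by
      apply hmax P
      rw [← h1, map_zero]
    exact (LinearEquiv.map_eq_zero_iff eB).1 h2
  obtain ⟨l', hl'⟩ :=
    (IsLocalRing.split_injective_iff_lTensor_residueField_injective l).2 hinj'
  have hlinj : Function.Injective l := by
    intro a b hab
    have := congrArg l' hab
    rwa [← LinearMap.comp_apply, ← LinearMap.comp_apply, hl'] at this
  apply hlinj
  show l ((1 : Rp) ⊗ₜ[R] x) = l 0
  rw [map_zero, LinearMap.baseChange_tmul]
  show (1 : Rp) ⊗ₜ[R] f x = 0
  rw [hx, tmul_zero]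

theorem main [Module.Finite R A] [Module.Flat R A] [Algebra.FiniteType R B]
    (f : B →ₐ[R] A)
    (hrank : ∀ p : PrimeSpectrum R,
      Module.rank p.asIdeal.ResidueField (p.asIdeal.ResidueField ⊗[R] B) =
        Module.rank p.asIdeal.ResidueField (p.asIdeal.ResidueField ⊗[R] A))
    (hmax : ∀ (m : Ideal R) [m.IsMaximal],
      Function.Bijective (LinearMap.lTensor m.ResidueField f.toLinearMap)) :
    Function.Bijective f := by
  have hsurj : Function.Surjective f := surjective_of_max f (fun m _ => (hmax m).2)
  have hinjp : ∀ p : PrimeSpectrum R,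
      Function.Injective (LinearMap.lTensor p.asIdeal.ResidueField f.toLinearMap) := by
    intro p
    let K := p.asIdeal.ResidueField
    let F : K ⊗[R] B →ₗ[K] K ⊗[R] A := f.toLinearMap.baseChange K
    have hF : (F : K ⊗[R] B → K ⊗[R] A) = f.toLinearMap.lTensor K :=
      LinearMap.baseChange_eq_ltensor ..
    have hFs : Function.Surjective F := by
      rw [hF]; exact LinearMap.lTensor_surjective _ hsurj
    haveI : Module.Finite K (K ⊗[R] A) := inferInstance
    haveI : Module.Finite K (K ⊗[R] B) := by
      rw [← Module.rank_lt_aleph0_iff, hrank p]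
      exact Module.rank_lt_aleph0 K (K ⊗[R] A)
    have hfr : Module.finrank K (K ⊗[R] B) = Module.finrank K (K ⊗[R] A) :=
      congrArg Cardinal.toNat (hrank p)
    have := (LinearMap.injective_iff_surjective_of_finrank_eq_finrank hfr (f := F)).2 hFs
    rw [hF] at this
    exact this
  have hnil := isNilpotent_of_mem_ker f hinjp
  haveI : Module.Finite R B := finite_of_nil_ker f hnil
  exact ⟨injective_of_max f (fun m _ => (hmax m).1), hsurj⟩

end Groth.Agent.Lib.FinFlatBijH3
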