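import Mathlib
import Groth.Prelude
import Groth.Agent.Lib.FinFlatExt_helper4
import Groth.Agent.Lib.SchDense_helper5
import Groth.Agent.Lib.SchDenseFlat_helper5

/-!
# Uniqueness of `S`-morphisms into an affine `S`-scheme agreeing over a schematically dense open
(helper4)
-/

set_option autoImplicit false
set_option linter.unusedVariables false
set_option linter.unusedTactic false
set_option linter.unreachableTactic false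
set_option linter.unusedSectionVars false
set_option linter.style.haveILetI false
set_option maxHeartbeats 800000
set_option backward.isDefEq.respectTransparency false

universe u

open CategoryTheory AlgebraicGeometry Limits

namespace Groth.Agent.Lib.FinFlatUniqH4

open Groth.Agent.Lib.FinFlatExtH4

theorem inj_of_eq {X : Scheme.{u}} (O : X.Opens) (hd : CInt.IsSchematicallyDense O)
    (A : X.Opens) (hA : A = ⊤ ⊓ O) (h : A ≤ ⊤) :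
    Function.Injective (X.presheaf.map (homOfLE h).op) := by
  subst hA
  exact hd ⊤

/-- two morphisms to an affine scheme agreeing on a schematically dense open are equal -/
theorem unique_aff {X : Scheme.{u}} (O : X.Opens) (hd : CInt.IsSchematicallyDense O)
    (Y : Scheme.{u}) [IsAffine Y] (g g' : X ⟶ Y) (h : O.ι ≫ g = O.ι ≫ g') : g = g' := by
  haveI : Mono O.ι.appTop := by
    rw [Scheme.Opens.ι_appTop]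
    exact ConcreteCategory.mono_of_injective _
      (inj_of_eq O hd _ (by rw [Scheme.Opens.ι_image_top, top_inf_eq]) _)
  apply ext_of_isAffine
  have h1 : (O.ι ≫ g).appTop = (O.ι ≫ g').appTop := by rw [h]
  rw [Scheme.Hom.comp_appTop, Scheme.Hom.comp_appTop] at h1
  exact (cancel_mono O.ι.appTop).mp h1

theorem uniq_local {S : Scheme.{u}} (U : S.Opens)
    {G₂ : Scheme.{u}} (f₂ : G₂ ⟶ S) [IsAffineHom f₂]
    {Z : Scheme.{u}} (q : Z ⟶ S) (hd : CInt.IsSchematicallyDense (q ⁻¹ᵁ U))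
    (W : S.Opens) (hW : IsAffineOpen W) (hq : ∀ z, q z ∈ W)
    (a b : Z ⟶ G₂) (ha : a ≫ f₂ = q) (hb : b ≫ f₂ = q)
    (hab : (q ⁻¹ᵁ U).ι ≫ a = (q ⁻¹ᵁ U).ι ≫ b) : a = b := by
  haveI : IsAffine ((f₂ ⁻¹ᵁ W : G₂.Opens) : Scheme.{u}) := hW.preimage f₂
  have hmemA : ∀ z : Z, a z ∈ f₂ ⁻¹ᵁ W := by
    intro z
    rw [Scheme.Hom.mem_preimage, ← Scheme.Hom.comp_apply, ha]
    exact hq z
  have hmemB : ∀ z : Z, b z ∈ f₂ ⁻¹ᵁ W := by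
    intro z
    rw [Scheme.Hom.mem_preimage, ← Scheme.Hom.comp_apply, hb]
    exact hq z
  have h1 : (q ⁻¹ᵁ U).ι ≫ liftOpen (f₂ ⁻¹ᵁ W) a hmemA =
      (q ⁻¹ᵁ U).ι ≫ liftOpen (f₂ ⁻¹ᵁ W) b hmemB := by
    apply (cancel_mono (f₂ ⁻¹ᵁ W).ι).mp
    rw [Category.assoc, Category.assoc, liftOpen_ι, liftOpen_ι]
    exact hab
  have h2 : liftOpen (f₂ ⁻¹ᵁ W) a hmemA = liftOpen (f₂ ⁻¹ᵁ W) b hmemB :=
    unique_aff (q ⁻¹ᵁ U) hd _ _ _ h1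
  calc a = liftOpen (f₂ ⁻¹ᵁ W) a hmemA ≫ (f₂ ⁻¹ᵁ W).ι := (liftOpen_ι _ _ _).symm
    _ = liftOpen (f₂ ⁻¹ᵁ W) b hmemB ≫ (f₂ ⁻¹ᵁ W).ι := by rw [h2]
    _ = b := liftOpen_ι _ _ _

theorem uniq {S : Scheme.{u}} [IsLocallyNoetherian S] (U : S.Opens)
    (hU : CInt.IsSchematicallyDense U)
    {G₂ : Scheme.{u}} (f₂ : G₂ ⟶ S) [IsAffineHom f₂]
    {Z : Scheme.{u}} (q : Z ⟶ S) [Flat q]
    (a b : Z ⟶ G₂) (ha : a ≫ f₂ = q) (hb : b ≫ f₂ = q)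
    (hab : (q ⁻¹ᵁ U).ι ≫ a = (q ⁻¹ᵁ U).ι ≫ b) : a = b := by
  refine (Z.openCoverOfIsOpenCover _ (cover_preimage q)).hom_ext a b (fun (W : S.affineOpens) => ?_)
  show (q ⁻¹ᵁ (W : S.Opens)).ι ≫ a = (q ⁻¹ᵁ (W : S.Opens)).ι ≫ b
  refine uniq_local U f₂ ((q ⁻¹ᵁ (W : S.Opens)).ι ≫ q)
    (Groth.Agent.SchDenseFlat.main ((q ⁻¹ᵁ (W : S.Opens)).ι ≫ q) U hU)
    (W : S.Opens) W.2 ?_ _ _ ?_ ?_ ?_
  · intro z
    rw [Scheme.Hom.comp_apply]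
    exact (Scheme.Hom.mem_preimage q).mp (ι_mem _ z)
  · rw [Category.assoc, ha]
  · rw [Category.assoc, hb]
  · have e := rr_ι (q ⁻¹ᵁ (W : S.Opens)).ι q _ rfl U
    calc (((q ⁻¹ᵁ (W : S.Opens)).ι ≫ q) ⁻¹ᵁ U).ι ≫ (q ⁻¹ᵁ (W : S.Opens)).ι ≫ a
        = ((((q ⁻¹ᵁ (W : S.Opens)).ι ≫ q) ⁻¹ᵁ U).ι ≫ (q ⁻¹ᵁ (W : S.Opens)).ι) ≫ a :=
          (Category.assoc _ _ _).symm
      _ = (rr (q ⁻¹ᵁ (W : S.Opens)).ι q _ rfl U ≫ (q ⁻¹ᵁ U).ι) ≫ a := by rw [e]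
      _ = rr (q ⁻¹ᵁ (W : S.Opens)).ι q _ rfl U ≫ (q ⁻¹ᵁ U).ι ≫ a := Category.assoc _ _ _
      _ = rr (q ⁻¹ᵁ (W : S.Opens)).ι q _ rfl U ≫ (q ⁻¹ᵁ U).ι ≫ b := by rw [hab]
      _ = (rr (q ⁻¹ᵁ (W : S.Opens)).ι q _ rfl U ≫ (q ⁻¹ᵁ U).ι) ≫ b := (Category.assoc _ _ _).symm
      _ = ((((q ⁻¹ᵁ (W : S.Opens)).ι ≫ q) ⁻¹ᵁ U).ι ≫ (q ⁻¹ᵁ (W : S.Opens)).ι) ≫ b := by rw [e]
      _ = (((q ⁻¹ᵁ (W : S.Opens)).ι ≫ q) ⁻¹ᵁ U).ι ≫ (q ⁻¹ᵁ (W : S.Opens)).ι ≫ b :=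
          Category.assoc _ _ _

theorem main (S G₁ G₂ : Scheme.{u}) [AlgebraicGeometry.IsNoetherian S] (f₁ : G₁ ⟶ S) (f₂ : G₂ ⟶ S)
    [AlgebraicGeometry.Flat f₁] [AlgebraicGeometry.IsFinite f₂]
    (U : S.Opens)
    (hU : ∀ s : S, IsLocalRing.maximalIdeal (S.presheaf.stalk s) ∈
        associatedPrimes (S.presheaf.stalk s) (S.presheaf.stalk s) → s ∈ U)
    (φ ψ : G₁ ⟶ G₂) (hφ : φ ≫ f₂ = f₁) (hψ : ψ ≫ f₂ = f₁)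
    (h : (f₁ ⁻¹ᵁ U).ι ≫ φ = (f₁ ⁻¹ᵁ U).ι ≫ ψ) : φ = ψ :=
  uniq U ((Groth.Agent.SchDense.main S U).mpr hU) f₂ f₁ φ ψ hφ hψ h

end Groth.Agent.Lib.FinFlatUniqH4
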