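import Mathlib
import Groth.Prelude
import Groth.Agent.Lib.PushforwardNormal_helper7

/-!
# Going down for finite morphisms onto normal schemes; components of fibres (S16551)
-/

set_option backward.isDefEq.respectTransparency false
set_option autoImplicit false
set_option linter.style.haveILetI false
universe u
open CategoryTheory CategoryTheory.Limits AlgebraicGeometry TopologicalSpace Opposite

namespace Groth.Agent.Lib.FinGDH7
open Groth.Agent.Lib.PushforwardNormalH7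

/-- Going down for a finite dominant morphism from an integral scheme to a normal integral
scheme. -/
theorem generalizingMap_of_finite_normal {W Z : Scheme.{u}} [IsIntegral W] [IsIntegral Z]
    (hZn : ∀ z : Z, IsIntegrallyClosed (Z.presheaf.stalk z)) (ψ : W ⟶ Z) [IsFinite ψ]
    [IsDominant ψ] : GeneralizingMap ψ.base := by
  intro w z' hz'
  obtain ⟨_, ⟨V, hV, rfl⟩, hzV, -⟩ := Z.isBasis_affineOpens.exists_subset_of_mem_open
    (Set.mem_univ (ψ.base w)) isOpen_univ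
  have hV : IsAffineOpen V := hV
  have hV' : IsAffineOpen (ψ ⁻¹ᵁ V) := hV.preimage ψ
  have hz'V : z' ∈ V := hz'.mem_open V.isOpen hzV
  have hwV' : w ∈ ψ ⁻¹ᵁ V := hzV
  haveI : Nonempty V := ⟨⟨_, hzV⟩⟩
  haveI : Nonempty (ψ ⁻¹ᵁ V) := ⟨⟨w, hwV'⟩⟩
  obtain ⟨φ, hφ⟩ : ∃ φ : Γ(Z, V) ⟶ Γ(W, ψ ⁻¹ᵁ V), φ = ψ.app V := ⟨_, rfl⟩
  have hsq : Spec.map φ ≫ hV.fromSpec = hV'.fromSpec ≫ ψ := by
    have := hV.SpecMap_appLE_fromSpec ψ hV' le_rfl
    rwa [← Scheme.Hom.app_eq_appLE, ← hφ] at this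
  letI : Algebra Γ(Z, V) Γ(W, ψ ⁻¹ᵁ V) := φ.hom.toAlgebra
  haveI : IsIntegrallyClosed Γ(Z, V) := isIntegrallyClosed_of_stalks hZn hV
  haveI : Algebra.IsIntegral Γ(Z, V) Γ(W, ψ ⁻¹ᵁ V) := by
    have hfin : φ.hom.Finite := hφ ▸ ψ.finite_app V hV
    haveI : Module.Finite Γ(Z, V) Γ(W, ψ ⁻¹ᵁ V) := hfin
    exact Algebra.IsIntegral.of_finite _ _
  haveI : FaithfulSMul Γ(Z, V) Γ(W, ψ ⁻¹ᵁ V) := by
    haveI : IsSchemeTheoreticallyDominant ψ := IsSchemeTheoreticallyDominant.of_isDominant ψ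
    rw [faithfulSMul_iff_algebraMap_injective]
    have := ψ.app_injective V
    rw [← hφ] at this
    exact this
  have hgd : GeneralizingMap (PrimeSpectrum.comap (algebraMap Γ(Z, V) Γ(W, ψ ⁻¹ᵁ V))) :=
    Algebra.HasGoingDown.iff_generalizingMap_primeSpectrumComap.mp inferInstance
  obtain ⟨P, hP⟩ : w ∈ Set.range hV'.fromSpec := by rw [hV'.range_fromSpec]; exact hwV'
  obtain ⟨p', hp'⟩ : z' ∈ Set.range hV.fromSpec := by rw [hV.range_fromSpec]; exact hz'V
  have hcomm : ∀ Q : Spec Γ(W, ψ ⁻¹ᵁ V),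
      hV.fromSpec ((Spec.map φ) Q) = ψ (hV'.fromSpec Q) := by
    intro Q
    rw [← Scheme.Hom.comp_apply, hsq, Scheme.Hom.comp_apply]
  have h2 : p' ⤳ (Spec.map φ) P := by
    apply hV.fromSpec.isOpenEmbedding.isInducing.specializes_iff.mp
    rw [hp', hcomm, hP]
    exact hz'
  obtain ⟨P', hP'P, hP'p'⟩ := hgd h2
  refine ⟨hV'.fromSpec P', ?_, ?_⟩
  · rw [← hP]
    exact hP'P.map hV'.fromSpec.continuous
  · have h3 := hcomm P'
    have h4 : (Spec.map φ) P' = p' := hP'p'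
    rw [h4, hp'] at h3
    exact h3.symm

/-- No specializations inside the fibres of a finite morphism. -/
theorem eq_of_specializes_of_finite {W Z : Scheme.{u}} (ψ : W ⟶ Z) [IsFinite ψ] {a b : W}
    (hab : a ⤳ b) (h : ψ.base a = ψ.base b) : a = b := by
  have hd := ψ.isDiscrete_preimage_singleton (ψ.base b)
  haveI := hd.to_subtype
  let a' : ψ ⁻¹' {ψ.base b} := ⟨a, h⟩
  let b' : ψ ⁻¹' {ψ.base b} := ⟨b, rfl⟩
  have h1 : a' ⤳ b' := (subtype_specializes_iff a' b').mpr hab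
  exact congrArg Subtype.val h1.eq

theorem main16551_aux {W Z : Scheme.{u}} [IsIntegral W] [IsIntegral Z]
    (hZn : ∀ z : Z, IsIntegrallyClosed (Z.presheaf.stalk z)) (ψ : W ⟶ Z) [IsFinite ψ]
    [Surjective ψ] (FZ : Set Z) (hFZ : IsClosed FZ) (w : W) (Δ : Set Z)
    (hΔ : Maximal (fun S : Set Z => IsIrreducible S ∧ S ⊆ FZ) Δ) (hzΔ : ψ.base w ∈ Δ) :
    ∃ Γ : Set W, Maximal (fun S : Set W => IsIrreducible S ∧ S ⊆ ψ.base ⁻¹' FZ) Γ ∧ w ∈ Γ ∧
      ψ.base '' Γ = Δ := by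
  have hΔirr : IsIrreducible Δ := hΔ.prop.1
  have hΔF : Δ ⊆ FZ := hΔ.prop.2
  have hΔcl : IsClosed Δ := by
    have h1 : closure Δ ⊆ Δ :=
      hΔ.le_of_ge ⟨hΔirr.closure, hFZ.closure_subset_iff.mpr hΔF⟩ subset_closure
    exact closure_subset_iff_isClosed.mp h1
  obtain ⟨δ, hδ⟩ := QuasiSober.sober hΔirr hΔcl
  have hδΔ : closure ({δ} : Set Z) = Δ := hδ
  have hδz : δ ⤳ ψ.base w := by
    rw [specializes_iff_mem_closure, hδΔ]
    exact hzΔ
  obtain ⟨γ, hγw, hγδ⟩ := generalizingMap_of_finite_normal hZn ψ hδz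
  have hFWcl : IsClosed (ψ.base ⁻¹' FZ) := hFZ.preimage ψ.continuous
  have hγF : γ ∈ ψ.base ⁻¹' FZ := by
    show ψ.base γ ∈ FZ
    rw [hγδ]
    exact hΔF (hδΔ ▸ subset_closure rfl)
  refine ⟨closure {γ}, ⟨⟨isIrreducible_singleton.closure, ?_⟩, ?_⟩, ?_, ?_⟩
  · exact hFWcl.closure_subset_iff.mpr (Set.singleton_subset_iff.mpr hγF)
  · rintro S ⟨hSirr, hSF⟩ hΓS
    have hS'irr : IsIrreducible (closure S) := hSirr.closure
    obtain ⟨σ, hσ⟩ := QuasiSober.sober hS'irr isClosed_closure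
    have hσS : closure ({σ} : Set W) = closure S := hσ
    have hσγ : σ ⤳ γ := by
      rw [specializes_iff_mem_closure, hσS]
      exact subset_closure (hΓS (subset_closure rfl))
    have hσF : ψ.base σ ∈ FZ := by
      have : σ ∈ closure S := hσS ▸ subset_closure rfl
      exact (hFWcl.closure_subset_iff.mpr hSF) this
    have h1 : ψ.base σ ⤳ δ := hγδ ▸ hσγ.map ψ.continuous
    have hT : closure ({ψ.base σ} : Set Z) ⊆ Δ := by
      refine hΔ.le_of_ge ⟨isIrreducible_singleton.closure,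
        hFZ.closure_subset_iff.mpr (Set.singleton_subset_iff.mpr hσF)⟩ ?_
      rw [← hδΔ]
      exact closure_minimal (Set.singleton_subset_iff.mpr (specializes_iff_mem_closure.mp h1))
        isClosed_closure
    have h2 : δ ⤳ ψ.base σ := by
      rw [specializes_iff_mem_closure, hδΔ]
      exact hT (subset_closure rfl)
    have h3 : ψ.base σ = ψ.base γ := by
      rw [hγδ]
      exact (h1.antisymm h2).eq
    have h4 : σ = γ := eq_of_specializes_of_finite ψ hσγ h3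
    calc S ⊆ closure S := subset_closure
      _ = closure {σ} := hσS.symm
      _ = closure {γ} := by rw [h4]
  · exact specializes_iff_mem_closure.mp hγw
  · rw [← ψ.isClosedMap.closure_image_eq_of_continuous ψ.continuous, Set.image_singleton, hγδ, hδΔ]

end Groth.Agent.Lib.FinGDH7
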