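import Mathlib

/-!
# Finitely generated categories receive final+initial functors from finite categories (helper8)
-/

universe v u

open CategoryTheory CategoryTheory.Limits

namespace Groth.Agent.Lib.FinGenCatH8

section Fin

/-- constructor index of a morphism in the walking multispan -/
def homCode {S : MultispanShape.{0, 0}} :
    ∀ {a b : WalkingMultispan S}, WalkingMultispan.Hom a b → Fin 3
  | _, _, WalkingMultispan.Hom.id _ => 0
  | _, _, WalkingMultispan.Hom.fst _ => 1
  | _, _, WalkingMultispan.Hom.snd _ => 2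

theorem homCode_heq {S : MultispanShape.{0, 0}} :
    ∀ {a b a' b' : WalkingMultispan S} (f : WalkingMultispan.Hom a b)
      (g : WalkingMultispan.Hom a' b'), a = a' → b = b' →
      homCode f = homCode g → HEq f g := by
  intro a b a' b' f g
  cases f <;> cases g <;> intro h1 h2 h3
  all_goals first
    | (cases h1; rfl)
    | (simp [homCode] at h3)

theorem finite_hom (S : MultispanShape.{0, 0}) (a b : WalkingMultispan S) : Finite (a ⟶ b) :=
  Finite.of_injective (α := WalkingMultispan.Hom a b) homCode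
    (fun f g h => eq_of_heq (homCode_heq f g rfl rfl h))

theorem finite_obj (S : MultispanShape.{0, 0}) [Finite S.L] [Finite S.R] :
    Finite (WalkingMultispan S) :=
  Finite.of_surjective (Sum.elim WalkingMultispan.left WalkingMultispan.right) (by
    rintro (l | r)
    · exact ⟨Sum.inl l, rfl⟩
    · exact ⟨Sum.inr r, rfl⟩)

noncomputable def finCat (S : MultispanShape.{0, 0}) [Finite S.L] [Finite S.R] :
    FinCategory (WalkingMultispan S) where
  fintypeObj := haveI := finite_obj S; Fintype.ofFinite _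
  fintypeHom a b := haveI := finite_hom S a b; Fintype.ofFinite _

end Fin

variable {I : Type u} [Category.{v} I] {n m : ℕ} (o : Fin n ≃ I)
  (γ : Fin m → Σ x y : I, x ⟶ y)

/-- The shape: generators on the left, objects on the right. -/
abbrev shape : MultispanShape.{0, 0} where
  L := Fin m
  R := Fin n
  fst l := o.symm (γ l).1
  snd l := o.symm (γ l).2.1


/-- The multispan index. -/
abbrev idx : MultispanIndex (shape o γ) I where
  left l := (γ l).1
  right k := o k
  fst l := eqToHom (o.apply_symm_apply _).symm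
  snd l := (γ l).2.2 ≫ eqToHom (o.apply_symm_apply _).symm

/-- The functor from the finite category. -/
abbrev F : WalkingMultispan (shape o γ) ⥤ I := (idx o γ).multispan

abbrev rObj (k : Fin n) : WalkingMultispan (shape o γ) :=
  WalkingMultispan.right (J := shape o γ) k

abbrev lObj (l : Fin m) : WalkingMultispan (shape o γ) :=
  WalkingMultispan.left (J := shape o γ) l

abbrev fstHom (l : Fin m) : lObj o γ l ⟶ rObj o γ (o.symm (γ l).1) :=
  WalkingMultispan.Hom.fst (J := shape o γ) l

abbrev sndHom (l : Fin m) : lObj o γ l ⟶ rObj o γ (o.symm (γ l).2.1) :=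
  WalkingMultispan.Hom.snd (J := shape o γ) l

theorem F_map_fstHom (l : Fin m) :
    (F o γ).map (fstHom o γ l) = eqToHom (o.apply_symm_apply _).symm := rfl

theorem F_map_sndHom (l : Fin m) :
    (F o γ).map (sndHom o γ l) = (γ l).2.2 ≫ eqToHom (o.apply_symm_apply _).symm := rfl

section Final

def Z (d : I) (k : Fin n) (h : d ⟶ o k) : StructuredArrow d (F o γ) :=
  StructuredArrow.mk (Y := rObj o γ k) h

def PF (d : I) : MorphismProperty I := fun a b g =>
  ∀ (k k' : Fin n) (hk : o k = a) (hk' : o k' = b) (h : d ⟶ o k),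
    Zigzag (Z o γ d k h) (Z o γ d k' (h ≫ eqToHom hk ≫ g ≫ eqToHom hk'.symm))

theorem PF_mult (d : I) : (PF o γ d).IsMultiplicative where
  id_mem a := by
    intro k k' hk hk' h
    subst hk
    obtain rfl : k' = k := o.injective hk'
    have e : h ≫ eqToHom rfl ≫ 𝟙 (o k') ≫ eqToHom rfl = h := by simp
    rw [e]
  comp_mem := by
    intro a b c g g' hg hg' k k'' hk hk'' h
    have z1 := hg k (o.symm b) hk (o.apply_symm_apply b) h
    have z2 := hg' (o.symm b) k'' (o.apply_symm_apply b) hk''
      (h ≫ eqToHom hk ≫ g ≫ eqToHom (o.apply_symm_apply b).symm)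
    have e : (h ≫ eqToHom hk ≫ g ≫ eqToHom (o.apply_symm_apply b).symm) ≫
        eqToHom (o.apply_symm_apply b) ≫ g' ≫ eqToHom hk''.symm =
        h ≫ eqToHom hk ≫ (g ≫ g') ≫ eqToHom hk''.symm := by simp
    rw [e] at z2
    exact z1.trans z2

theorem PF_gen (d : I) (l : Fin m) : PF o γ d (γ l).2.2 := by
  intro k k' hk hk' h
  obtain rfl : k = o.symm (γ l).1 := by rw [← hk]; simp
  obtain rfl : k' = o.symm (γ l).2.1 := by rw [← hk']; simp
  refine Zigzag.of_inv_hom
    (j₂ := StructuredArrow.mk (Y := lObj o γ l) (h ≫ eqToHom hk))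
    (StructuredArrow.homMk (fstHom o γ l) ?_)
    (StructuredArrow.homMk (sndHom o γ l) ?_)
  · simp [Z, F_map_fstHom, F_map_sndHom]
  · simp [Z, F_map_fstHom, F_map_sndHom]

theorem final_F
    (hgen : ∀ P : MorphismProperty I, P.IsMultiplicative → (∀ l, P (γ l).2.2) → P = ⊤) :
    (F o γ).Final := by
  refine ⟨fun d => ?_⟩
  have hP : PF o γ d = ⊤ := hgen _ (PF_mult o γ d) (PF_gen o γ d)
  let B : StructuredArrow d (F o γ) :=
    Z o γ d (o.symm d) (eqToHom (o.apply_symm_apply d).symm)
  have hR : ∀ (k : Fin n) (h : d ⟶ o k), Zigzag B (Z o γ d k h) := by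
    intro k h
    have hh : PF o γ d h := by rw [hP]; trivial
    have := hh (o.symm d) k (o.apply_symm_apply d) rfl (eqToHom (o.apply_symm_apply d).symm)
    have e : eqToHom (o.apply_symm_apply d).symm ≫ eqToHom (o.apply_symm_apply d) ≫ h ≫
        eqToHom rfl = h := by simp
    rw [e] at this
    exact this
  have hall : ∀ X : StructuredArrow d (F o γ), Zigzag B X := by
    intro X
    obtain ⟨j, h, rfl⟩ : ∃ (j : WalkingMultispan (shape o γ)) (h : d ⟶ (F o γ).obj j),
        X = StructuredArrow.mk h := ⟨X.right, X.hom, rfl⟩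
    rcases j with l | k
    · exact (hR _ (h ≫ (F o γ).map (fstHom o γ l))).trans
        (Zigzag.of_inv (StructuredArrow.homMk (fstHom o γ l) rfl))
    · exact hR k h
  haveI : Nonempty (StructuredArrow d (F o γ)) := ⟨B⟩
  exact zigzag_isConnected (fun X Y => (hall X).symm.trans (hall Y))

end Final

section Initial

def Z' (d : I) (k : Fin n) (h : o k ⟶ d) : CostructuredArrow (F o γ) d :=
  CostructuredArrow.mk (Y := rObj o γ k) h

def PI (d : I) : MorphismProperty I := fun a b g =>
  ∀ (k k' : Fin n) (hk : o k = a) (hk' : o k' = b) (h : o k' ⟶ d),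
    Zigzag (Z' o γ d k (eqToHom hk ≫ g ≫ eqToHom hk'.symm ≫ h)) (Z' o γ d k' h)

theorem PI_mult (d : I) : (PI o γ d).IsMultiplicative where
  id_mem a := by
    intro k k' hk hk' h
    subst hk
    obtain rfl : k' = k := o.injective hk'
    have e : eqToHom rfl ≫ 𝟙 (o k') ≫ eqToHom rfl ≫ h = h := by simp
    rw [e]
  comp_mem := by
    intro a b c g g' hg hg' k k'' hk hk'' h
    have z2 := hg' (o.symm b) k'' (o.apply_symm_apply b) hk'' h
    have z1 := hg k (o.symm b) hk (o.apply_symm_apply b)
      (eqToHom (o.apply_symm_apply b) ≫ g' ≫ eqToHom hk''.symm ≫ h)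
    have e : eqToHom hk ≫ g ≫ eqToHom (o.apply_symm_apply b).symm ≫
        eqToHom (o.apply_symm_apply b) ≫ g' ≫ eqToHom hk''.symm ≫ h =
        eqToHom hk ≫ (g ≫ g') ≫ eqToHom hk''.symm ≫ h := by simp
    rw [e] at z1
    exact z1.trans z2

theorem PI_gen (d : I) (l : Fin m) : PI o γ d (γ l).2.2 := by
  intro k k' hk hk' h
  obtain rfl : k = o.symm (γ l).1 := by rw [← hk]; simp
  obtain rfl : k' = o.symm (γ l).2.1 := by rw [← hk']; simp
  refine Zigzag.of_inv_hom
    (j₂ := CostructuredArrow.mk (Y := lObj o γ l)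
      ((γ l).2.2 ≫ eqToHom hk'.symm ≫ h))
    (CostructuredArrow.homMk (fstHom o γ l) ?_)
    (CostructuredArrow.homMk (sndHom o γ l) ?_)
  · simp [Z', F_map_fstHom, F_map_sndHom]
  · simp [Z', F_map_fstHom, F_map_sndHom]

theorem initial_F
    (hgen : ∀ P : MorphismProperty I, P.IsMultiplicative → (∀ l, P (γ l).2.2) → P = ⊤) :
    (F o γ).Initial := by
  refine ⟨fun d => ?_⟩
  have hP : PI o γ d = ⊤ := hgen _ (PI_mult o γ d) (PI_gen o γ d)
  let B : CostructuredArrow (F o γ) d :=
    Z' o γ d (o.symm d) (eqToHom (o.apply_symm_apply d))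
  have hR : ∀ (k : Fin n) (h : o k ⟶ d), Zigzag (Z' o γ d k h) B := by
    intro k h
    have hh : PI o γ d h := by rw [hP]; trivial
    have := hh k (o.symm d) rfl (o.apply_symm_apply d) (eqToHom (o.apply_symm_apply d))
    have e : eqToHom rfl ≫ h ≫ eqToHom (o.apply_symm_apply d).symm ≫
        eqToHom (o.apply_symm_apply d) = h := by simp
    rw [e] at this
    exact this
  have hall : ∀ X : CostructuredArrow (F o γ) d, Zigzag X B := by
    intro X
    obtain ⟨j, h, rfl⟩ : ∃ (j : WalkingMultispan (shape o γ)) (h : (F o γ).obj j ⟶ d),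
        X = CostructuredArrow.mk h := ⟨X.left, X.hom, rfl⟩
    rcases j with l | k
    · change (γ l).1 ⟶ d at h
      refine (Zigzag.of_hom (j₂ := Z' o γ d (o.symm (γ l).1)
        (eqToHom (o.apply_symm_apply _) ≫ h))
        (CostructuredArrow.homMk (fstHom o γ l) ?_)).trans (hR _ _)
      show eqToHom (o.apply_symm_apply (γ l).1).symm ≫ eqToHom (o.apply_symm_apply _) ≫ h = h
      rw [eqToHom_trans_assoc, eqToHom_refl, Category.id_comp]
    · exact hR k h
  haveI : Nonempty (CostructuredArrow (F o γ) d) := ⟨B⟩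
  exact zigzag_isConnected (fun X Y => (hall X).trans (hall Y).symm)

end Initial

theorem exists_finCategory_final_initial [Finite I] (gen : Finset (Σ x y : I, x ⟶ y))
    (hgen : ∀ P : MorphismProperty I, P.IsMultiplicative → (∀ a ∈ gen, P a.2.2) → P = ⊤) :
    ∃ (J : Type) (_ : SmallCategory J) (_ : FinCategory J) (F : J ⥤ I),
      F.Final ∧ F.Initial ∧ (IsConnected J ↔ IsConnected I) ∧ (Nonempty J ↔ Nonempty I) := by
  classical
  let o : Fin (Nat.card I) ≃ I := (Finite.equivFin I).symm
  let γ : Fin gen.card → Σ x y : I, x ⟶ y := fun l => (gen.equivFin.symm l).1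
  have hgen' : ∀ P : MorphismProperty I, P.IsMultiplicative → (∀ l, P (γ l).2.2) → P = ⊤ := by
    intro P hP h
    refine hgen P hP (fun a ha => ?_)
    obtain ⟨l, hl⟩ : ∃ l, γ l = a := ⟨gen.equivFin ⟨a, ha⟩, by simp [γ]⟩
    subst hl
    exact h l
  haveI := final_F o γ hgen'
  haveI := initial_F o γ hgen'
  refine ⟨WalkingMultispan (shape o γ), inferInstance, finCat _, F o γ, inferInstance,
    inferInstance, Functor.isConnected_iff_of_final (F o γ), ?_⟩
  exact ⟨fun ⟨j⟩ => ⟨(F o γ).obj j⟩, fun ⟨i⟩ => ⟨WalkingMultispan.right (o.symm i)⟩⟩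

end Groth.Agent.Lib.FinGenCatH8
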