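import Mathlib
import Groth.Prelude.Def_AlgSp
import Groth.Prelude.Def_Grpd
import Groth.Prelude.Def_Mor2
import Groth.Agent.Lib.QuotEff_lead
import Groth.Agent.Lib.AlgSpDescent2_helper7
set_option autoImplicit false
universe u

/-!
# Separation properties of a finite locally free quotient (helper6)

If `m : U ⟶ M` is an fppf covering over `S` (e.g. finite locally free and surjective), then the
diagonal of `M ⟶ S` is the descent of `U ×_M U ⟶ U ×_S U`; so (quasi-)separatedness of `U ⟶ S`
passes to `M ⟶ S` when `m` is finite.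
-/

open CategoryTheory CategoryTheory.Limits AlgebraicGeometry Opposite

namespace Groth.Agent.Lib.FinLocFreeQuotSepH6

open AlgSp Groth.Agent.Lib.AlgSpQuotEffH7 Groth.Agent.Lib.QuotEff
  Groth.Agent.Lib.AlgSpDescent2_helper7

section Surj

variable {S : Scheme.{u}}

set_option backward.isDefEq.respectTransparency false in
set_option backward.isDefEq.respectTransparency.types false in
set_option maxHeartbeats 800000 in
/-- A morphism exhibiting its target as the fppf quotient sheaf is surjective. -/
theorem surjective_of_isIso_quotDesc {R U Y : Over S} (s t : R ⟶ U) (q : U ⟶ Y)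
    (w : s ≫ q = t ≫ q) [IsIso (QuotSh.quotDesc Scheme.fppfPrecoverage q w)] :
    Surjective q.left := by
  have hθ := quotP_comp s t q w
  haveI : Epi (quotP s t) :=
    (Sheaf.isLocallySurjective_iff_epi _).1 (isLocallySurjective_quotP s t)
  haveI : Epi ((yon S).map q) := by
    rw [← hθ]
    infer_instance
  haveI hLS : Sheaf.IsLocallySurjective ((yon S).map q) :=
    (Sheaf.isLocallySurjective_iff_epi _).2 inferInstance
  have hmem := Presheaf.imageSieve_mem (J S) ((yon S).map q).hom (U := op Y)
    (ULift.up (𝟙 Y) : ULift.{u + 1} (Y ⟶ Y))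
  rw [GrothendieckTopology.mem_over_iff] at hmem
  haveI : Scheme.fppfPrecoverage.{u}.HasIsos := by
    have h1 : (@Flat ⊓ @LocallyOfFinitePresentation :
        MorphismProperty Scheme.{u}).ContainsIdentities :=
      ⟨fun X => ⟨inferInstance, inferInstance⟩⟩
    have h2 : (@Flat ⊓ @LocallyOfFinitePresentation : MorphismProperty Scheme.{u}).RespectsIso :=
      MorphismProperty.RespectsIso.inf _ _
    unfold Scheme.fppfPrecoverage
    infer_instance
  obtain ⟨Rc, hRc, hle⟩ :=
    Precoverage.mem_toGrothendieck_iff_of_isStableUnderComposition.1 hmem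
  have hRc' : Rc ∈ Scheme.precoverage (@Flat ⊓ @LocallyOfFinitePresentation) Y.left := hRc
  have hjs := (Presieve.mem_comap_jointlySurjectivePrecoverage_iff Scheme.forget).1 hRc'.1
  refine ⟨fun y => ?_⟩
  obtain ⟨V, f, hRf, v, hv⟩ := hjs y
  have hS : (Sieve.overEquiv Y (Presheaf.imageSieve ((yon S).map q).hom
      (ULift.up (𝟙 Y) : ULift.{u + 1} (Y ⟶ Y)))).arrows f := by
    apply hle
    exact hRf
  rw [Sieve.overEquiv_iff] at hS
  obtain ⟨tt, htt⟩ := hS
  let tt₀ : ULift.{u + 1} (Over.mk (f ≫ Y.hom) ⟶ U) := tt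
  have h1 : tt₀.down ≫ q = (Over.homMk f rfl : Over.mk (f ≫ Y.hom) ⟶ Y) ≫ 𝟙 Y :=
    congrArg (fun z : ULift.{u + 1} (Over.mk (f ≫ Y.hom) ⟶ Y) => z.down) htt
  have h2 : tt₀.down.left ≫ q.left = f := by
    have := congrArg (fun m => m.left) h1
    simpa using this
  refine ⟨tt₀.down.left v, ?_⟩
  rw [← Scheme.Hom.comp_apply, h2]
  exact hv

theorem surjective_of_isQuotient {R U Y : Over S} (s t : R ⟶ U) (q : U ⟶ Y)
    (hq : QuotSh.IsQuotient Scheme.fppfPrecoverage s t q) : Surjective q.left := by
  obtain ⟨w, hiso⟩ :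
      ∃ w : s ≫ q = t ≫ q, IsIso (QuotSh.quotDesc Scheme.fppfPrecoverage q w) := hq
  haveI := hiso
  exact surjective_of_isIso_quotDesc s t q w

end Surj

section Descent

variable {U M S : Scheme.{u}} (m : U ⟶ M) (h : M ⟶ S)

/-- `U ×_M U ⟶ U ×_S U` -/
noncomputable abbrev jmap : pullback m m ⟶ pullback (m ≫ h) (m ≫ h) :=
  pullback.map m m (m ≫ h) (m ≫ h) (𝟙 U) (𝟙 U) h (Category.id_comp _).symm
    (Category.id_comp _).symm

/-- `U ×_S U ⟶ M ×_S M` -/
noncomputable abbrev pimap : pullback (m ≫ h) (m ≫ h) ⟶ pullback h h :=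
  pullback.map (m ≫ h) (m ≫ h) h h m m (𝟙 S) (Category.comp_id _) (Category.comp_id _)

theorem pimap_prop (P : MorphismProperty Scheme.{u}) [P.IsStableUnderBaseChange]
    [P.IsStableUnderComposition] (hm : P m) : P (pimap m h) :=
  MorphismProperty.pullbackMap (P := P) hm hm rfl rfl

theorem sq_diag : IsPullback (pullback.fst m m ≫ m) (jmap m h) (pullback.diagonal h) (pimap m h) :=
  pullback_map_diagonal_isPullback m m h

theorem jmap_fst : jmap m h ≫ pullback.fst (m ≫ h) (m ≫ h) = pullback.fst m m := by
  rw [jmap, pullback.lift_fst, Category.comp_id]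

theorem jmap_snd : jmap m h ≫ pullback.snd (m ≫ h) (m ≫ h) = pullback.snd m m := by
  rw [jmap, pullback.lift_snd, Category.comp_id]

instance mono_jmap : Mono (jmap m h) := by
  constructor
  intro T a b hab
  apply pullback.hom_ext
  · rw [← jmap_fst m h, ← Category.assoc, hab, Category.assoc]
  · rw [← jmap_snd m h, ← Category.assoc, hab, Category.assoc]

theorem quasiCompact_jmap [QuasiCompact m] [QuasiSeparated (m ≫ h)] :
    QuasiCompact (jmap m h) := by
  haveI : QuasiCompact (jmap m h ≫ pullback.fst (m ≫ h) (m ≫ h)) := by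
    rw [jmap_fst]
    infer_instance
  exact QuasiCompact.of_comp _ (pullback.fst (m ≫ h) (m ≫ h))

theorem isClosedImmersion_jmap [IsFinite m] [IsSeparated (m ≫ h)] :
    IsClosedImmersion (jmap m h) := by
  haveI : IsProper (jmap m h ≫ pullback.fst (m ≫ h) (m ≫ h)) := by
    rw [jmap_fst]
    infer_instance
  haveI : IsProper (jmap m h) := IsProper.of_comp _ (pullback.fst (m ≫ h) (m ≫ h))
  exact (IsClosedImmersion.iff_isProper_and_mono _).2 ⟨inferInstance, inferInstance⟩

theorem quasiCompact_diagonal_of_cover [Surjective m] [Flat m] [LocallyOfFinitePresentation m]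
    (hj : QuasiCompact (jmap m h)) : QuasiCompact (pullback.diagonal h) := by
  haveI : Flat (pimap m h) := pimap_prop m h @Flat inferInstance
  haveI : LocallyOfFinitePresentation (pimap m h) :=
    pimap_prop m h @LocallyOfFinitePresentation inferInstance
  haveI : Surjective (pimap m h) := pimap_prop m h @Surjective inferInstance
  exact quasiCompact_of_isPullback_of_isOpenMap (sq_diag m h) (pimap m h).isOpenMap
    (pimap m h).surjective hj

theorem isClosedImmersion_diagonal_of_cover [Surjective m] [Flat m] [QuasiCompact m]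
    (hj : IsClosedImmersion (jmap m h)) : IsClosedImmersion (pullback.diagonal h) := by
  have hQ : (@Surjective ⊓ @Flat ⊓ @QuasiCompact : MorphismProperty Scheme.{u}) (pimap m h) :=
    ⟨⟨pimap_prop m h @Surjective inferInstance, pimap_prop m h @Flat inferInstance⟩,
      pimap_prop m h @QuasiCompact inferInstance⟩
  have sq := (sq_diag m h).flip
  haveI : (MorphismProperty.monomorphisms Scheme.{u}).DescendsAlong
      (@Surjective ⊓ @Flat ⊓ @QuasiCompact) := by
    rw [← MorphismProperty.diagonal_isomorphisms]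
    infer_instance
  have hm : Mono (pullback.diagonal h) := inferInstance
  have huc : UniversallyClosed (pullback.diagonal h) :=
    MorphismProperty.of_isPullback_of_descendsAlong (P := @UniversallyClosed)
      (Q := @Surjective ⊓ @Flat ⊓ @QuasiCompact) sq hQ inferInstance
  have hlft : LocallyOfFiniteType (pullback.diagonal h) :=
    MorphismProperty.of_isPullback_of_descendsAlong (P := @LocallyOfFiniteType)
      (Q := @Surjective ⊓ @Flat ⊓ @QuasiCompact) sq hQ inferInstance
  have : IsProper (pullback.diagonal h) := {}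
  exact (IsClosedImmersion.iff_isProper_and_mono _).2 ⟨this, hm⟩

theorem quasiSeparated_of_cover [Surjective m] [Flat m] [LocallyOfFinitePresentation m]
    [QuasiCompact m] (hU : QuasiSeparated (m ≫ h)) : QuasiSeparated h :=
  ⟨quasiCompact_diagonal_of_cover m h (quasiCompact_jmap m h)⟩

theorem isSeparated_of_cover [Surjective m] [Flat m] [IsFinite m]
    (hU : IsSeparated (m ≫ h)) : IsSeparated h :=
  ⟨isClosedImmersion_diagonal_of_cover m h (isClosedImmersion_jmap m h)⟩

end Descent

section Main

theorem main10236 {S : Scheme.{u}} (G : Grpd.GroupoidScheme S)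
    (M : Over S) (m : Over.mk G.pU ⟶ M) (hm : Mor2.IsFinLocFree m.left)
    (hq : QuotSh.IsQuotient Scheme.fppfPrecoverage
      (Over.homMk G.s G.s_over : Over.mk G.pR ⟶ Over.mk G.pU)
      (Over.homMk G.t G.t_over : Over.mk G.pR ⟶ Over.mk G.pU) m) :
    (QuasiSeparated G.pU → QuasiSeparated M.hom) ∧
      (QuasiSeparatedSpace ↥G.U → QuasiSeparatedSpace ↥M.left) ∧
      (IsSeparated G.pU → IsSeparated M.hom) ∧ (G.U.IsSeparated → M.left.IsSeparated) := by
  obtain ⟨hfin, hflat, hlfp⟩ := hm
  haveI := hfin
  haveI := hflat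
  haveI := hlfp
  haveI : Surjective m.left := surjective_of_isQuotient _ _ m hq
  have hw : m.left ≫ M.hom = G.pU := Over.w m
  have hw' : m.left ≫ terminal.from M.left = terminal.from G.U := terminal.comp_from _
  refine ⟨fun hU => ?_, fun hU => ?_, fun hU => ?_, fun hU => ?_⟩
  · exact quasiSeparated_of_cover m.left M.hom (by rw [hw]; exact hU)
  · rw [quasiSeparatedSpace_iff_quasiSeparated] at hU ⊢
    exact quasiSeparated_of_cover m.left (terminal.from M.left) (by rw [hw']; exact hU)
  · exact isSeparated_of_cover m.left M.hom (by rw [hw]; exact hU)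
  · have hU' : IsSeparated (terminal.from G.U) := hU.isSeparated_terminal_from
    exact ⟨isSeparated_of_cover m.left (terminal.from M.left) (by rw [hw']; exact hU')⟩

end Main

end Groth.Agent.Lib.FinLocFreeQuotSepH6
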