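import Mathlib
import Groth.Prelude.Def_Grpd
import Groth.Prelude.Def_AlgSp

/-!
# The groupoid scheme of an equivalence relation (helper7)

An equivalence relation `s, t : R ⟶ U` over `S` (`AlgSp.IsEqvRel`) carries a unique structure of
groupoid scheme: `Grpd.ofEqvRel`.
-/

set_option backward.isDefEq.respectTransparency false
set_option backward.isDefEq.respectTransparency.types false
set_option linter.style.haveILetI false
set_option linter.unusedSectionVars false
set_option linter.unusedVariables false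
set_option autoImplicit false
set_option maxHeartbeats 1600000

universe u

open CategoryTheory CategoryTheory.Limits AlgebraicGeometry Grpd

namespace Groth.Agent.Lib.GrpdOfEqvH7

variable {S U R : Scheme.{u}} (pU : U ⟶ S) (pR : R ⟶ S) (s t : R ⟶ U)
  (hs : s ≫ pU = pR) (ht : t ≫ pU = pR)
  (heq : AlgSp.IsEqvRel (Over.homMk s hs : Over.mk pR ⟶ Over.mk pU)
    (Over.homMk t ht : Over.mk pR ⟶ Over.mk pU))

include heq in
theorem inj {T : Scheme.{u}} (a b : T ⟶ R) (h1 : a ≫ t = b ≫ t) (h2 : a ≫ s = b ≫ s) :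
    a = b := by
  have hb : b ≫ pR = a ≫ pR := by
    rw [← ht, ← Category.assoc, ← h1, Category.assoc]
  have h := heq.injective (Over.mk (a ≫ pR)) (Over.homMk a rfl : Over.mk (a ≫ pR) ⟶ Over.mk pR)
    (Over.homMk b hb : Over.mk (a ≫ pR) ⟶ Over.mk pR) (by ext; exact h1) (by ext; exact h2)
  exact congrArg (fun k => k.left) h

include heq in
theorem refl' {T : Scheme.{u}} (a : T ⟶ U) : ∃ r : T ⟶ R, r ≫ t = a ∧ r ≫ s = a := by
  obtain ⟨r, h1, h2⟩ := (heq.equivalence (Over.mk (a ≫ pU))).refl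
    (Over.homMk a rfl : Over.mk (a ≫ pU) ⟶ Over.mk pU)
  exact ⟨r.left, congrArg (fun k => k.left) h1, congrArg (fun k => k.left) h2⟩

include heq in
theorem symm' {T : Scheme.{u}} (r : T ⟶ R) :
    ∃ r' : T ⟶ R, r' ≫ t = r ≫ s ∧ r' ≫ s = r ≫ t := by
  have wt : (r ≫ t) ≫ pU = r ≫ pR := by rw [Category.assoc, ht]
  have ws : (r ≫ s) ≫ pU = r ≫ pR := by rw [Category.assoc, hs]
  have h0 : ∃ r₀ : Over.mk (r ≫ pR) ⟶ Over.mk pR,
      r₀ ≫ (Over.homMk t ht : Over.mk pR ⟶ Over.mk pU) =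
        (Over.homMk (r ≫ t) wt : Over.mk (r ≫ pR) ⟶ Over.mk pU) ∧
      r₀ ≫ (Over.homMk s hs : Over.mk pR ⟶ Over.mk pU) =
        (Over.homMk (r ≫ s) ws : Over.mk (r ≫ pR) ⟶ Over.mk pU) :=
    ⟨Over.homMk r rfl, by ext; rfl, by ext; rfl⟩
  obtain ⟨r', h1, h2⟩ := (heq.equivalence (Over.mk (r ≫ pR))).symm h0
  exact ⟨r'.left, congrArg (fun k => k.left) h1, congrArg (fun k => k.left) h2⟩

include heq in
theorem trans' {T : Scheme.{u}} (r₁ r₂ : T ⟶ R) (h : r₁ ≫ s = r₂ ≫ t) :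
    ∃ r : T ⟶ R, r ≫ t = r₁ ≫ t ∧ r ≫ s = r₂ ≫ s := by
  have hp : r₂ ≫ pR = r₁ ≫ pR := by
    calc r₂ ≫ pR = (r₂ ≫ t) ≫ pU := by rw [Category.assoc, ht]
      _ = (r₁ ≫ s) ≫ pU := by rw [h]
      _ = r₁ ≫ pR := by rw [Category.assoc, hs]
  have wt : (r₁ ≫ t) ≫ pU = r₁ ≫ pR := by rw [Category.assoc, ht]
  have ws : (r₁ ≫ s) ≫ pU = r₁ ≫ pR := by rw [Category.assoc, hs]
  have ws2 : (r₂ ≫ s) ≫ pU = r₁ ≫ pR := by rw [Category.assoc, hs, hp]
  have h1 : ∃ r₀ : Over.mk (r₁ ≫ pR) ⟶ Over.mk pR,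
      r₀ ≫ (Over.homMk t ht : Over.mk pR ⟶ Over.mk pU) =
        (Over.homMk (r₁ ≫ t) wt : Over.mk (r₁ ≫ pR) ⟶ Over.mk pU) ∧
      r₀ ≫ (Over.homMk s hs : Over.mk pR ⟶ Over.mk pU) =
        (Over.homMk (r₁ ≫ s) ws : Over.mk (r₁ ≫ pR) ⟶ Over.mk pU) :=
    ⟨Over.homMk r₁ rfl, by ext; rfl, by ext; rfl⟩
  have h2 : ∃ r₀ : Over.mk (r₁ ≫ pR) ⟶ Over.mk pR,
      r₀ ≫ (Over.homMk t ht : Over.mk pR ⟶ Over.mk pU) =
        (Over.homMk (r₁ ≫ s) ws : Over.mk (r₁ ≫ pR) ⟶ Over.mk pU) ∧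
      r₀ ≫ (Over.homMk s hs : Over.mk pR ⟶ Over.mk pU) =
        (Over.homMk (r₂ ≫ s) ws2 : Over.mk (r₁ ≫ pR) ⟶ Over.mk pU) :=
    ⟨Over.homMk r₂ hp, by ext; exact h.symm, by ext; rfl⟩
  obtain ⟨r, e1, e2⟩ := (heq.equivalence (Over.mk (r₁ ≫ pR))).trans h1 h2
  exact ⟨r.left, congrArg (fun k => k.left) e1, congrArg (fun k => k.left) e2⟩

/-- The identity of the groupoid of an equivalence relation. -/
noncomputable def eE : U ⟶ R := (refl' pU pR s t hs ht heq (𝟙 U)).choose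

theorem eE_t : eE pU pR s t hs ht heq ≫ t = 𝟙 U := (refl' pU pR s t hs ht heq (𝟙 U)).choose_spec.1

theorem eE_s : eE pU pR s t hs ht heq ≫ s = 𝟙 U := (refl' pU pR s t hs ht heq (𝟙 U)).choose_spec.2

/-- The inverse of the groupoid of an equivalence relation. -/
noncomputable def iE : R ⟶ R := (symm' pU pR s t hs ht heq (𝟙 R)).choose

theorem iE_t : iE pU pR s t hs ht heq ≫ t = s := by
  exact (symm' pU pR s t hs ht heq (𝟙 R)).choose_spec.1.trans (Category.id_comp _)

theorem iE_s : iE pU pR s t hs ht heq ≫ s = t := by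
  exact (symm' pU pR s t hs ht heq (𝟙 R)).choose_spec.2.trans (Category.id_comp _)

/-- The composition of the groupoid of an equivalence relation. -/
noncomputable def cE : pullback s t ⟶ R :=
  (trans' pU pR s t hs ht heq (pullback.fst s t) (pullback.snd s t) pullback.condition).choose

theorem cE_t : cE pU pR s t hs ht heq ≫ t = pullback.fst s t ≫ t :=
  (trans' pU pR s t hs ht heq (pullback.fst s t) (pullback.snd s t) pullback.condition).choose_spec.1

theorem cE_s : cE pU pR s t hs ht heq ≫ s = pullback.snd s t ≫ s :=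
  (trans' pU pR s t hs ht heq (pullback.fst s t) (pullback.snd s t) pullback.condition).choose_spec.2

theorem lift_cE_t {T : Scheme.{u}} (α β : T ⟶ R) (h : α ≫ s = β ≫ t) :
    (pullback.lift α β h ≫ cE pU pR s t hs ht heq) ≫ t = α ≫ t := by
  rw [Category.assoc, cE_t, pullback.lift_fst_assoc]

theorem lift_cE_s {T : Scheme.{u}} (α β : T ⟶ R) (h : α ≫ s = β ≫ t) :
    (pullback.lift α β h ≫ cE pU pR s t hs ht heq) ≫ s = β ≫ s := by
  rw [Category.assoc, cE_s, pullback.lift_snd_assoc]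

/-- The groupoid scheme of an equivalence relation. -/
noncomputable def ofEqvRel : GroupoidScheme S where
  U := U
  R := R
  pU := pU
  pR := pR
  s := s
  t := t
  e := eE pU pR s t hs ht heq
  i := iE pU pR s t hs ht heq
  c := cE pU pR s t hs ht heq
  s_over := hs
  t_over := ht
  comp_s := fun α β h => lift_cE_s pU pR s t hs ht heq α β h
  comp_t := fun α β h => lift_cE_t pU pR s t hs ht heq α β h
  assoc := fun α β γ h₁ h₂ => by
    apply inj pU pR s t hs ht heq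
    · rw [lift_cE_t, lift_cE_t, lift_cE_t]
    · rw [lift_cE_s, lift_cE_s, lift_cE_s]
  e_s := eE_s pU pR s t hs ht heq
  e_t := eE_t pU pR s t hs ht heq
  comp_e := fun α => by
    apply inj pU pR s t hs ht heq
    · rw [lift_cE_t]
    · rw [lift_cE_s, Category.assoc, Category.assoc, eE_s, Category.comp_id]
  e_comp := fun α => by
    apply inj pU pR s t hs ht heq
    · rw [lift_cE_t, Category.assoc, Category.assoc, eE_t, Category.comp_id]
    · rw [lift_cE_s]
  i_s := iE_s pU pR s t hs ht heq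
  i_t := iE_t pU pR s t hs ht heq
  comp_i := fun α => by
    apply inj pU pR s t hs ht heq
    · rw [lift_cE_t, Category.assoc, Category.assoc, eE_t, Category.comp_id]
    · rw [lift_cE_s, Category.assoc, iE_s, Category.assoc, Category.assoc, eE_s, Category.comp_id]
  i_comp := fun α => by
    apply inj pU pR s t hs ht heq
    · rw [lift_cE_t, Category.assoc, iE_t, Category.assoc, Category.assoc, eE_t, Category.comp_id]
    · rw [lift_cE_s, Category.assoc, Category.assoc, eE_s, Category.comp_id]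

end Groth.Agent.Lib.GrpdOfEqvH7
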