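import Groth.Agent.Lib.GrpdRestr3_helper7
import Groth.Agent.Lib.GrpdOfEqv_helper7
import Groth.Agent.Lib.GrpShear_helper7
import Groth.Agent.Lib.FinLocFreeQuotSep_helper6
import Groth.Prelude.Def_NonAbH2

/-!
# Quotients of schemes by free actions of finite locally free group schemes (helper7)
-/

set_option backward.isDefEq.respectTransparency false
set_option backward.isDefEq.respectTransparency.types false
set_option linter.style.haveILetI false
set_option linter.unusedSectionVars false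
set_option linter.unusedVariables false
set_option autoImplicit false
set_option maxHeartbeats 1600000

universe u

open CategoryTheory CategoryTheory.Limits MonoidalCategory CartesianMonoidalCategory MonObj
  AlgebraicGeometry Grpd Opposite

namespace Groth.Agent.Lib.FinGrpQuotH7

open AlgSp Groth.Agent.Lib.GrpShearH7 Groth.Agent.Lib.GrpdOfEqvH7
  Groth.Agent.Lib.GrpdRestr2H7 Groth.Agent.Lib.GrpdRestr3H7

variable {S : Scheme.{u}} {G X : Over S} [GrpObj G] (a : AlgGrp.Action G X)

theorem eq_lift_fst_snd {T : Over S} (r : T ⟶ G ⊗ X) : r = lift (r ≫ fst G X) (r ≫ snd G X) := by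
  apply CartesianMonoidalCategory.hom_ext
  · rw [lift_fst]
  · rw [lift_snd]

/-- A free action gives an equivalence relation `(act, pr₂) : G × X ⟶ X × X`. -/
theorem isEqvRel_of_free
    (hfree : ∀ (T : Over S) (g : T ⟶ G) (x : T ⟶ X), lift g x ≫ a.act = x →
      g = toUnit T ≫ η[G]) :
    IsEqvRel (snd G X) a.act where
  injective T r r' h1 h2 := by
    obtain ⟨g, hg⟩ : ∃ g, g = r ≫ fst G X := ⟨_, rfl⟩
    obtain ⟨g', hg'⟩ : ∃ g', g' = r' ≫ fst G X := ⟨_, rfl⟩
    obtain ⟨x, hx⟩ : ∃ x, x = r ≫ snd G X := ⟨_, rfl⟩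
    have hr : r = lift g x := by rw [hg, hx]; exact eq_lift_fst_snd r
    have hr' : r' = lift g' x := by rw [hg', hx, h2]; exact eq_lift_fst_snd r'
    rw [hr, hr'] at h1
    have e1 : lift (g'⁻¹ * g) x ≫ a.act = x := by
      rw [act_mul a.act a.mul_act, h1]
      exact act_inv_act a.act a.one_act a.mul_act g' x
    have e2 : g'⁻¹ * g = 1 := by
      rw [hfree T _ x e1, Hom.one_def]
    have e3 : g = g' := (inv_mul_eq_one.1 e2).symm
    rw [hr, hr', e3]
  equivalence T := by
    refine ⟨fun x => ?_, fun {x y} => ?_, fun {x y z} => ?_⟩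
    · exact ⟨lift 1 x, act_one a.act a.one_act x, lift_snd _ _⟩
    · rintro ⟨r, h1, h2⟩
      obtain ⟨g, hg⟩ : ∃ g, g = r ≫ fst G X := ⟨_, rfl⟩
      have hr : r = lift g y := by rw [hg, ← h2]; exact eq_lift_fst_snd r
      rw [hr] at h1
      refine ⟨lift g⁻¹ x, ?_, lift_snd _ _⟩
      rw [← h1]
      exact act_inv_act a.act a.one_act a.mul_act g y
    · rintro ⟨r₁, h1, h2⟩ ⟨r₂, h3, h4⟩
      obtain ⟨g, hg⟩ : ∃ g, g = r₁ ≫ fst G X := ⟨_, rfl⟩
      obtain ⟨h, hh⟩ : ∃ h, h = r₂ ≫ fst G X := ⟨_, rfl⟩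
      have hr₁ : r₁ = lift g y := by rw [hg, ← h2]; exact eq_lift_fst_snd r₁
      have hr₂ : r₂ = lift h z := by rw [hh, ← h4]; exact eq_lift_fst_snd r₂
      rw [hr₁] at h1
      rw [hr₂] at h3
      refine ⟨lift (g * h) z, ?_, lift_snd _ _⟩
      rw [act_mul a.act a.mul_act, h3, h1]

section groupoid

variable (hfree : ∀ (T : Over S) (g : T ⟶ G) (x : T ⟶ X), lift g x ≫ a.act = x →
  g = toUnit T ≫ η[G])

/-- The action groupoid of a free action. -/
noncomputable def actGrpd : GroupoidScheme S :=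
  ofEqvRel X.hom (G ⊗ X).hom (snd G X).left a.act.left (Over.w (snd G X)) (Over.w a.act)
    (isEqvRel_of_free a hfree)

theorem isFinLocFree_snd (hG : Mor2.IsFinLocFree G.hom) : Mor2.IsFinLocFree (snd G X).left := by
  obtain ⟨h1, h2, h3⟩ := hG
  have e : (snd G X).left = pullback.snd G.hom X.hom := rfl
  rw [e]
  exact ⟨MorphismProperty.pullback_snd (P := @IsFinite) _ _ h1,
    MorphismProperty.pullback_snd (P := @Flat) _ _ h2,
    MorphismProperty.pullback_snd (P := @LocallyOfFinitePresentation) _ _ h3⟩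

theorem act_eq_shear_snd : a.act.left = (shear a.act).left ≫ (snd G X).left := by
  rw [← Over.comp_left, shear_snd]

theorem isFinLocFree_act (hG : Mor2.IsFinLocFree G.hom) : Mor2.IsFinLocFree a.act.left := by
  obtain ⟨h1, h2, h3⟩ := isFinLocFree_snd (X := X) hG
  haveI : IsIso (shear a.act) := isIso_shear a.act a.one_act a.mul_act
  haveI : IsIso (shear a.act).left := inferInstanceAs (IsIso ((Over.forget S).map (shear a.act)))
  rw [act_eq_shear_snd]
  exact ⟨(MorphismProperty.cancel_left_of_respectsIso @IsFinite _ _).2 h1,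
    (MorphismProperty.cancel_left_of_respectsIso @Flat _ _).2 h2,
    (MorphismProperty.cancel_left_of_respectsIso @LocallyOfFinitePresentation _ _).2 h3⟩

/-- Orbits of points lie in affine opens, case `X ⟶ S` affine. -/
theorem h3_of_isAffineHom [IsAffineHom X.hom] (u : X.left) :
    ∃ W : X.left.Opens, IsAffineOpen W ∧
      ∀ r : ↥(G ⊗ X).left, (snd G X).left r = u → a.act.left r ∈ W := by
  obtain ⟨_, ⟨V, hV, rfl⟩, huV, -⟩ := S.isBasis_affineOpens.exists_subset_of_mem_open
    (Set.mem_univ (X.hom u)) isOpen_univ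
  refine ⟨X.hom ⁻¹ᵁ V, hV.preimage X.hom, fun r hr => ?_⟩
  show X.hom (a.act.left r) ∈ V
  have e1 : X.hom (a.act.left r) = X.hom ((snd G X).left r) := by
    rw [← Scheme.Hom.comp_apply, ← Scheme.Hom.comp_apply, Over.w a.act, Over.w (snd G X)]
  rw [e1, hr]
  exact huV

/-- Orbits of points lie in affine opens, case `G ⟶ S` radicial. -/
theorem h3_of_universallyInjective [UniversallyInjective G.hom] (u : X.left) :
    ∃ W : X.left.Opens, IsAffineOpen W ∧
      ∀ r : ↥(G ⊗ X).left, (snd G X).left r = u → a.act.left r ∈ W := by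
  obtain ⟨_, ⟨W, hW, rfl⟩, huW, -⟩ := X.left.isBasis_affineOpens.exists_subset_of_mem_open
    (Set.mem_univ u) isOpen_univ
  refine ⟨W, hW, fun r hr => ?_⟩
  have e : (snd G X).left = pullback.snd G.hom X.hom := rfl
  haveI : UniversallyInjective (snd G X).left := by
    rw [e]
    exact MorphismProperty.pullback_snd (P := @UniversallyInjective) _ _ inferInstance
  have hinj : Function.Injective (snd G X).left := (snd G X).left.injective
  -- the identity point over `u`
  obtain ⟨r₀, hr₀⟩ : ∃ r₀ : X ⟶ G ⊗ X, r₀ = lift 1 (𝟙 X) := ⟨_, rfl⟩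
  have h1 : r₀ ≫ snd G X = 𝟙 X := by rw [hr₀, lift_snd]
  have h2 : r₀ ≫ a.act = 𝟙 X := by rw [hr₀]; exact act_one a.act a.one_act (𝟙 X)
  have h1' : (snd G X).left (r₀.left u) = u := by
    rw [← Scheme.Hom.comp_apply, ← Over.comp_left, h1]
    rfl
  have h2' : a.act.left (r₀.left u) = u := by
    rw [← Scheme.Hom.comp_apply, ← Over.comp_left, h2]
    rfl
  have hr' : r = r₀.left u := hinj (hr.trans h1'.symm)
  rw [hr', h2']
  exact huW

/-- Orbits of points lie in affine opens, case `X` open in an affine scheme. -/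
theorem h3_of_openImmersion (hG : Mor2.IsFinLocFree G.hom) {R : CommRingCat.{u}}
    (i : X.left ⟶ Spec R) [IsOpenImmersion i] (u : X.left) :
    ∃ W : X.left.Opens, IsAffineOpen W ∧
      ∀ r : ↥(G ⊗ X).left, (snd G X).left r = u → a.act.left r ∈ W := by
  haveI : IsFinite (snd G X).left := (isFinLocFree_snd (X := X) hG).1
  have hfin : (⇑a.act.left '' (⇑(snd G X).left ⁻¹' {u})).Finite :=
    ((snd G X).left.finite_preimage_singleton u).image _
  obtain ⟨f, hf1, hf2⟩ := Groth.Agent.Lib.GrpdInvOpenH6.exists_basicOpen_le_of_finite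
    (isAffineOpen_top (Spec R)) i.opensRange (⇑i '' (⇑a.act.left '' (⇑(snd G X).left ⁻¹' {u})))
    (hfin.image _) (by rintro _ ⟨y, -, rfl⟩; exact ⟨y, rfl⟩) (fun _ _ => trivial)
  refine ⟨i ⁻¹ᵁ ((Spec R).basicOpen f),
    ((isAffineOpen_top (Spec R)).basicOpen f).preimage_of_isOpenImmersion i hf1, fun r hr => ?_⟩
  show i (a.act.left r) ∈ (Spec R).basicOpen f
  exact hf2 ⟨_, ⟨r, hr, rfl⟩, rfl⟩

end groupoid

/-- **Quotient by a free action of a finite locally free group scheme.** -/
theorem main10245 (hG : Mor2.IsFinLocFree G.hom)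
    (hfree : ∀ (T : Over S) (g : T ⟶ G) (x : T ⟶ X), lift g x ≫ a.act = x →
      g = toUnit T ≫ η[G])
    (h3 : IsAffineHom X.hom ∨ (∃ (R : CommRingCat.{u}) (i : X.left ⟶ Spec R), IsOpenImmersion i) ∨
      UniversallyInjective G.hom) :
    ∃ (M : Over S) (q : X ⟶ M), QuotSh.IsQuotient Scheme.fppfPrecoverage (snd G X) a.act q ∧
      IsPullback a.act.left (snd G X).left q.left q.left ∧
      NonAbH1.IsLocallyTrivialFor Scheme.fppfPrecoverage (Over.mk q.left) := by
  have hs : Mor2.IsFinLocFree (actGrpd a hfree).s := isFinLocFree_snd (X := X) hG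
  have ht : Mor2.IsFinLocFree (actGrpd a hfree).t := isFinLocFree_act a hG
  have heq : IsEqvRel (sO (actGrpd a hfree)) (tO (actGrpd a hfree)) := isEqvRel_of_free a hfree
  have h3' : ∀ Z : Set ↥(actGrpd a hfree).U, IsClosed Z → Z.Nonempty →
      ∃ u ∈ Z, ∃ W : (actGrpd a hfree).U.Opens, IsAffineOpen W ∧
        ∀ r : ↥(actGrpd a hfree).R, (actGrpd a hfree).s r = u → (actGrpd a hfree).t r ∈ W := by
    rintro Z - ⟨u, hu⟩
    refine ⟨u, hu, ?_⟩
    rcases h3 with h | ⟨R, i, hi⟩ | h
    · haveI := h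
      exact h3_of_isAffineHom a u
    · haveI := hi
      exact h3_of_openImmersion a hG i u
    · haveI := h
      exact h3_of_universallyInjective a u
  obtain ⟨M, m, hm, sq, hq⟩ := main10235 (actGrpd a hfree) hs ht heq h3'
  refine ⟨M, m, hq, sq, ?_⟩
  obtain ⟨hm1, hm2, hm3⟩ := hm
  haveI := hm1
  haveI := hm2
  haveI := hm3
  haveI : Surjective m.left :=
    Groth.Agent.Lib.FinLocFreeQuotSepH6.surjective_of_isQuotient _ _ m hq
  refine ⟨Presieve.singleton m.left, Scheme.Hom.singleton_mem_fppfPrecoverage m.left, ?_⟩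
  rintro S' f ⟨⟩
  exact ⟨𝟙 _, Category.id_comp _⟩

end Groth.Agent.Lib.FinGrpQuotH7
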