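import Mathlib
import Groth.Agent.Lib.CommClosed_helper4

/-! # Generated subgroups with a closed subgroup of finite index in the rational points (helper4)

SGA3 VI_B: if `H ⊆ f(X)` is a closed subgroup and `H(k)` has finite index in the group of rational
points under words in `f`, then the generated subgroup `Γ` is a finite union of translates of `H`
and all of its points lie under words of one fixed length. -/

set_option autoImplicit false
set_option linter.unusedVariables false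
set_option linter.unusedTactic false
set_option linter.unreachableTactic false
set_option linter.unusedSectionVars false
set_option linter.style.haveILetI false
set_option linter.deprecated false
set_option maxHeartbeats 1600000

universe u

open CategoryTheory CategoryTheory.Limits MonoidalCategory CartesianMonoidalCategory MonObj GrpObj
  AlgebraicGeometry TensorProduct

namespace Groth.Agent.Lib.FinIdxH4

open Groth.Agent.Lib Groth.Agent.Lib.GenSubgrpH4 Groth.Agent.Lib.CommClosedH4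

variable {k : Type u} [Field k]

/-- Signed words in `f`. -/
noncomputable def wd {G X T : Over (Spec (CommRingCat.of k))} [GrpObj G] (f : X ⟶ G) {n : ℕ}
    (x : Fin n → (T ⟶ X)) (ε : Fin n → Bool) : T ⟶ G :=
  (List.ofFn fun j : Fin n => if ε j then x j ≫ f else (x j ≫ f)⁻¹).prod

theorem wd_zero {G X T : Over (Spec (CommRingCat.of k))} [GrpObj G] (f : X ⟶ G)
    (x : Fin 0 → (T ⟶ X)) (ε : Fin 0 → Bool) : wd f x ε = 1 := by
  unfold wd
  rw [List.ofFn_zero, List.prod_nil]

theorem wd_succ {G X T : Over (Spec (CommRingCat.of k))} [GrpObj G] (f : X ⟶ G) {n : ℕ}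
    (x : Fin (n + 1) → (T ⟶ X)) (ε : Fin (n + 1) → Bool) :
    wd f x ε = (if ε 0 then x 0 ≫ f else (x 0 ≫ f)⁻¹) *
      wd f (fun j => x j.succ) (fun j => ε j.succ) := by
  unfold wd
  rw [List.ofFn_succ, List.prod_cons]

theorem comp_wd {G X T T' : Over (Spec (CommRingCat.of k))} [GrpObj G] (f : X ⟶ G) (t : T' ⟶ T)
    {n : ℕ} (x : Fin n → (T ⟶ X)) (ε : Fin n → Bool) :
    t ≫ wd f x ε = wd f (fun j => t ≫ x j) ε :=
  Groth.Agent.Lib.WordPts.comp_word f t x ε

theorem wd_comp_hom {G Γ₁ X T : Over (Spec (CommRingCat.of k))} [GrpObj G] [GrpObj Γ₁]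
    (i : Γ₁ ⟶ G) [IsMonHom i] (f' : X ⟶ Γ₁) :
    ∀ {n : ℕ} (x : Fin n → (T ⟶ X)) (ε : Fin n → Bool), wd f' x ε ≫ i = wd (f' ≫ i) x ε := by
  intro n
  induction n with
  | zero =>
    intro x ε
    rw [wd_zero, wd_zero]
    exact MonObj.one_comp i
  | succ n ih =>
    intro x ε
    rw [wd_succ f' x ε, wd_succ (f' ≫ i) x ε, MonObj.mul_comp, ih]
    congr 1
    split_ifs
    · rw [Category.assoc]
    · rw [GrpObj.inv_comp, Category.assoc]

/-- A point lies under a word of length `n` in `f`. -/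
def Under {G X : Over (Spec (CommRingCat.of k))} [GrpObj G] (f : X ⟶ G) (n : ℕ) (g : G.left) :
    Prop :=
  ∃ (T : Over (Spec (CommRingCat.of k))) (p : T.left) (x : Fin n → (T ⟶ X)) (ε : Fin n → Bool),
    ((List.ofFn fun j : Fin n => if ε j then x j ≫ f else (x j ≫ f)⁻¹).prod : T ⟶ G).left.base p = g

theorem under_succ {G X : Over (Spec (CommRingCat.of k))} [GrpObj G] (f : X ⟶ G)
    (x₀ : 𝟙_ (Over (Spec (CommRingCat.of k))) ⟶ X) (hx₀ : x₀ ≫ f = 1) {n : ℕ} {g : G.left}
    (h : Under f n g) : Under f (n + 1) g := by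
  obtain ⟨T, p, x, ε, hw⟩ := h
  refine ⟨T, p, Fin.cons (toUnit T ≫ x₀) x, Fin.cons true ε, ?_⟩
  have e : wd f (Fin.cons (toUnit T ≫ x₀) x : Fin (n + 1) → (T ⟶ X))
      (Fin.cons true ε : Fin (n + 1) → Bool) = wd f x ε := by
    rw [wd_succ]
    simp only [Fin.cons_zero, Fin.cons_succ, if_true]
    rw [Category.assoc, hx₀, MonObj.comp_one, _root_.one_mul]
  show (wd f (Fin.cons (toUnit T ≫ x₀) x : Fin (n + 1) → (T ⟶ X))
      (Fin.cons true ε : Fin (n + 1) → Bool)).left.base p = g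
  rw [e]
  exact hw

theorem under_mono {G X : Over (Spec (CommRingCat.of k))} [GrpObj G] (f : X ⟶ G)
    (x₀ : 𝟙_ (Over (Spec (CommRingCat.of k))) ⟶ X) (hx₀ : x₀ ≫ f = 1) {n m : ℕ} {g : G.left}
    (h : Under f n g) (hnm : n ≤ m) : Under f m g := by
  induction m, hnm using Nat.le_induction with
  | base => exact h
  | succ m _ ih => exact under_succ f x₀ hx₀ ih

/-- A rational point whose underlying point lies under a word is a word in rational points. -/
theorem kword [IsAlgClosed k] {G X : Over (Spec (CommRingCat.of k))} [GrpObj G]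
    [LocallyOfFiniteType X.hom] (f : X ⟶ G) (g : 𝟙_ (Over (Spec (CommRingCat.of k))) ⟶ G) {n : ℕ}
    (T : Over (Spec (CommRingCat.of k))) (p : T.left)
    (p₀ : (𝟙_ (Over (Spec (CommRingCat.of k)))).left)
    (x : Fin n → (T ⟶ X)) (ε : Fin n → Bool)
    (hw : ((List.ofFn fun j : Fin n => if ε j then x j ≫ f else (x j ≫ f)⁻¹).prod :
      T ⟶ G).left.base p = g.left.base p₀) :
    ∃ c : Fin n → (𝟙_ (Over (Spec (CommRingCat.of k))) ⟶ X), wd f c ε = g := by
  obtain ⟨P, pr, hP, hu⟩ := Groth.Agent.Lib.WordPts.exists_pow X n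
  haveI := hP
  obtain ⟨t, ht⟩ := hu T x
  have htW : t ≫ wd f pr ε = wd f x ε := by
    rw [comp_wd]
    congr 1
    funext j
    exact ht j
  have h0 : (wd f pr ε).left.base (t.left.base p) = g.left.base p₀ := by
    have h1 : (t ≫ wd f pr ε).left.base p = g.left.base p₀ := by
      rw [htW]; exact hw
    exact h1
  obtain ⟨c, hc⟩ :=
    Groth.Agent.Lib.WordPts.exists_kpt_over (wd f pr ε) g (t.left.base p) p₀ h0
  exact ⟨fun j => c ≫ pr j, by rw [← hc, comp_wd]⟩

/-- Left translate of `f` by a word in rational points is a word on `X`. -/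
theorem transl {G X : Over (Spec (CommRingCat.of k))} [GrpObj G] (f : X ⟶ G) :
    ∀ {n : ℕ} (c : Fin n → (𝟙_ (Over (Spec (CommRingCat.of k))) ⟶ X)) (ε : Fin n → Bool),
      ∃ (x' : Fin (n + 1) → (X ⟶ X)) (ε' : Fin (n + 1) → Bool),
        wd f x' ε' = (toUnit X ≫ wd f c ε) * f := by
  intro n
  induction n with
  | zero =>
    intro c ε
    refine ⟨fun _ => 𝟙 X, fun _ => true, ?_⟩
    rw [wd_succ, wd_zero, wd_zero, MonObj.comp_one, _root_.one_mul, _root_.mul_one]
    simp only [if_true, Category.id_comp]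
  | succ n ih =>
    intro c ε
    obtain ⟨x'', ε'', h''⟩ := ih (fun j => c j.succ) (fun j => ε j.succ)
    refine ⟨Fin.cons (toUnit X ≫ c 0) x'', Fin.cons (ε 0) ε'', ?_⟩
    rw [wd_succ f (Fin.cons (toUnit X ≫ c 0) x'' : Fin (n + 1 + 1) → (X ⟶ X))
      (Fin.cons (ε 0) ε'' : Fin (n + 1 + 1) → Bool)]
    simp only [Fin.cons_zero, Fin.cons_succ]
    rw [h'', wd_succ f c ε, MonObj.comp_mul, _root_.mul_assoc]
    congr 1
    split_ifs
    · rw [Category.assoc]
    · rw [GrpObj.comp_inv, Category.assoc]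

/-! ### Left translations -/

/-- Left translation by a rational point. -/
noncomputable def La {G : Over (Spec (CommRingCat.of k))} [GrpObj G]
    (a : 𝟙_ (Over (Spec (CommRingCat.of k))) ⟶ G) : G ⟶ G := (toUnit G ≫ a) * 𝟙 G

theorem La_eq {G : Over (Spec (CommRingCat.of k))} [GrpObj G]
    (a : 𝟙_ (Over (Spec (CommRingCat.of k))) ⟶ G) :
    (λ_ G).inv ≫ (a ▷ G) ≫ μ[G] = La a := by
  unfold La
  rw [Hom.mul_def, ← Category.assoc]
  congr 1
  apply CartesianMonoidalCategory.hom_ext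
  · simp only [Category.assoc, whiskerRight_fst, leftUnitor_inv_fst_assoc, lift_fst]
  · simp only [Category.assoc, whiskerRight_snd, leftUnitor_inv_snd, lift_snd]

theorem pt_La {G T : Over (Spec (CommRingCat.of k))} [GrpObj G]
    (a : 𝟙_ (Over (Spec (CommRingCat.of k))) ⟶ G) (g : T ⟶ G) :
    g ≫ La a = (toUnit T ≫ a) * g := by
  unfold La
  rw [MonObj.comp_mul, Category.comp_id, ← Category.assoc, toUnit_unique (g ≫ toUnit G) (toUnit T)]

theorem La_comp {G : Over (Spec (CommRingCat.of k))} [GrpObj G]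
    (a b : 𝟙_ (Over (Spec (CommRingCat.of k))) ⟶ G) : La a ≫ La b = La (b * a) := by
  rw [pt_La]
  unfold La
  rw [MonObj.comp_mul, _root_.mul_assoc]

theorem La_one {G : Over (Spec (CommRingCat.of k))} [GrpObj G] :
    La (1 : 𝟙_ (Over (Spec (CommRingCat.of k))) ⟶ G) = 𝟙 G := by
  unfold La
  rw [MonObj.comp_one, _root_.one_mul]

theorem image_La_eq_preimage {G : Over (Spec (CommRingCat.of k))} [GrpObj G]
    (a : 𝟙_ (Over (Spec (CommRingCat.of k))) ⟶ G) (R : Set G.left) :
    (fun z => (La a).left.base z) '' R = (La a⁻¹).left.base ⁻¹' R := by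
  have h1 : ∀ z, (La a⁻¹).left.base ((La a).left.base z) = z := fun z => by
    have e : La a ≫ La a⁻¹ = 𝟙 G := by rw [La_comp, inv_mul_cancel, La_one]
    exact congrArg (fun w : G ⟶ G => w.left.base z) e
  have h2 : ∀ z, (La a).left.base ((La a⁻¹).left.base z) = z := fun z => by
    have e : La a⁻¹ ≫ La a = 𝟙 G := by rw [La_comp, mul_inv_cancel, La_one]
    exact congrArg (fun w : G ⟶ G => w.left.base z) e
  ext z
  constructor
  · rintro ⟨w, hw, rfl⟩
    show (La a⁻¹).left.base ((La a).left.base w) ∈ R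
    rw [h1]
    exact hw
  · intro hz
    exact ⟨(La a⁻¹).left.base z, hz, h2 z⟩

set_option maxHeartbeats 6400000 in
theorem main6077 (k : Type u) [Field k] [IsAlgClosed k]
    (G X H : Over (Spec (CommRingCat.of k))) [GrpObj G] [GrpObj H] [LocallyOfFiniteType G.hom]
    [LocallyOfFiniteType X.hom] [GeometricallyReduced X.hom] (f : X ⟶ G)
    (h : H ⟶ G) [IsMonHom h] [IsClosedImmersion h.left] (hH : Set.range h.left.base ⊆ Set.range f.left.base)
    (Γ₁ : Over (Spec (CommRingCat.of k))) [GrpObj Γ₁] (i : Γ₁ ⟶ G) [IsMonHom i] [IsClosedImmersion i.left]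
    (hf : ∃ f' : X ⟶ Γ₁, f' ≫ i = f)
    (hmin : ∀ (Γ₁' : Over (Spec (CommRingCat.of k))) (_ : GrpObj Γ₁') (i' : Γ₁' ⟶ G), IsMonHom i' → IsClosedImmersion i'.left →
        (∃ f'' : X ⟶ Γ₁', f'' ≫ i' = f) → ∃ j : Γ₁ ⟶ Γ₁', j ≫ i' = i)
    (hfin : ∃ F : Finset (𝟙_ (Over (Spec (CommRingCat.of k))) ⟶ G),
      (∀ a ∈ F, ∃ (n : ℕ) (T : Over (Spec (CommRingCat.of k))) (p : T.left) (p₀ : (𝟙_ (Over (Spec (CommRingCat.of k)))).left) (x : Fin n → (T ⟶ X)) (ε : Fin n → Bool),
        ((List.ofFn fun j : Fin n => if ε j then x j ≫ f else (x j ≫ f)⁻¹).prod : T ⟶ G).left.base p = a.left.base p₀) ∧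
      ∀ g : 𝟙_ (Over (Spec (CommRingCat.of k))) ⟶ G, (∃ (n : ℕ) (T : Over (Spec (CommRingCat.of k))) (p : T.left) (p₀ : (𝟙_ (Over (Spec (CommRingCat.of k)))).left) (x : Fin n → (T ⟶ X)) (ε : Fin n → Bool),
        ((List.ofFn fun j : Fin n => if ε j then x j ≫ f else (x j ≫ f)⁻¹).prod : T ⟶ G).left.base p = g.left.base p₀) →
        ∃ a ∈ F, ∃ y : 𝟙_ (Over (Spec (CommRingCat.of k))) ⟶ H, g = a * (y ≫ h)) :
    (∃ m : ℕ, Set.range i.left.base =
      {g : G.left | ∃ (T : Over (Spec (CommRingCat.of k))) (p : T.left) (x : Fin m → (T ⟶ X)) (ε : Fin m → Bool),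
        ((List.ofFn fun j : Fin m => if ε j then x j ≫ f else (x j ≫ f)⁻¹).prod : T ⟶ G).left.base p = g}) ∧
    ∃ F : Finset (𝟙_ (Over (Spec (CommRingCat.of k))) ⟶ G), Set.range i.left.base =
      ⋃ a ∈ F, (fun z => ((λ_ G).inv ≫ (a ▷ G) ≫ μ[G]).left.base z) '' Set.range h.left.base := by
  haveI hsub : Subsingleton ↥(Spec (CommRingCat.of k)) :=
    (inferInstance : Subsingleton (PrimeSpectrum k))
  obtain ⟨f', hf'⟩ := hf
  obtain ⟨F, hF1, hF2⟩ := hfin
  haveI hXred : AlgebraicGeometry.IsReduced X.left :=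
    self_of_isIntegral_of_geometrically
      (inferInstance : GeometricallyReduced X.hom).geometrically_isReduced
  have hηh : η[H] ≫ h = η[G] := IsMonHom.one_hom (f := h)
  obtain ⟨x₀, hx₀⟩ : ∃ x₀ : 𝟙_ (Over (Spec (CommRingCat.of k))) ⟶ X, x₀ ≫ f = 1 := by
    have h1 : (η[G]).left.base (IsLocalRing.closedPoint k) ∈ Set.range f.left.base := by
      apply hH
      refine ⟨(η[H]).left.base (IsLocalRing.closedPoint k), ?_⟩
      rw [← hηh]
      rfl
    obtain ⟨a₀, ha₀⟩ := h1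
    obtain ⟨c, hc⟩ := Groth.Agent.Lib.WordPts.exists_kpt_over f η[G] a₀
      (IsLocalRing.closedPoint k) ha₀
    exact ⟨c, hc.trans (one_eq_eta G).symm⟩
  obtain ⟨S₀, hS₀⟩ : ∃ S₀ : Subgroup (𝟙_ (Over (Spec (CommRingCat.of k))) ⟶ G),
      S₀ = Subgroup.closure {g : 𝟙_ (Over (Spec (CommRingCat.of k))) ⟶ G |
        ∃ p₀ : (𝟙_ (Over (Spec (CommRingCat.of k)))).left,
          g.left.base p₀ ∈ Set.range f.left.base} := ⟨_, rfl⟩
  have h6075 := Groth.Agent.Lib.WordPts.main6075 k G X f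
  rw [← hS₀] at h6075
  obtain ⟨D, grpD, iD, hmonD, hclD, hgrD, hrD⟩ :=
    Groth.Agent.Lib.ZarClosSubH4.exists_closure_of_subgroup k G S₀
  haveI := hclD
  have hpts : ∀ g : 𝟙_ (Over (Spec (CommRingCat.of k))) ⟶ G, g ∈ S₀ →
      g.left.base (IsLocalRing.closedPoint k) ∈ Set.range iD.left.base := by
    intro g hg
    rw [hrD]
    exact subset_closure ⟨g, hg, rfl⟩
  have hCD : IsClosed (Set.range iD.left.base) := iD.left.isClosedEmbedding.isClosed_range
  have hfD : Set.range f.left.base ⊆ Set.range iD.left.base := by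
    rintro _ ⟨x, rfl⟩
    by_contra hcon
    obtain ⟨y, hy⟩ := kpt_in_lc X (f.left.base ⁻¹' (Set.range iD.left.base)ᶜ)
      ((hCD.isOpen_compl.preimage f.left.continuous).isLocallyClosed) ⟨x, hcon⟩
    apply hy
    show (y ≫ f).left.base (IsLocalRing.closedPoint k) ∈ Set.range iD.left.base
    apply hpts
    rw [hS₀]
    exact Subgroup.subset_closure
      ⟨IsLocalRing.closedPoint k, y.left.base (IsLocalRing.closedPoint k), rfl⟩
  obtain ⟨fD, hfD'⟩ : ∃ fD : X.left ⟶ D.left, fD ≫ iD.left = f.left :=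
    ⟨IsClosedImmersion.lift iD.left f.left (ker_le_ker_of_range_subset iD.left f.left hfD),
      IsClosedImmersion.lift_fac _ _ _⟩
  have wfD : fD ≫ D.hom = X.hom := by
    rw [← Over.w iD, ← Category.assoc, hfD']
    exact Over.w f
  obtain ⟨j, hj⟩ := hmin D grpD iD hmonD hclD ⟨Over.homMk fD wfD, by ext1; exact hfD'⟩
  have hΓD : Set.range i.left.base ⊆ Set.range iD.left.base := by
    rintro _ ⟨z, rfl⟩
    exact ⟨j.left.base z, congrArg (fun w : Γ₁ ⟶ G => w.left.base z) hj⟩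
  obtain ⟨C, hC⟩ : ∃ C : Set G.left,
      C = ⋃ a ∈ F, (fun z => (La a).left.base z) '' Set.range h.left.base := ⟨_, rfl⟩
  have hCcl : IsClosed C := by
    rw [hC]
    refine isClosed_biUnion_finset (fun a _ => ?_)
    rw [image_La_eq_preimage]
    exact (h.left.isClosedEmbedding.isClosed_range).preimage (La a⁻¹).left.continuous
  have hD_C : Set.range iD.left.base ⊆ C := by
    rw [hrD]
    refine closure_minimal ?_ hCcl
    rintro _ ⟨g, hg, rfl⟩
    have hg' := (Set.ext_iff.mp h6075 g).mpr hg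
    obtain ⟨a, haF, y, hy⟩ := hF2 g hg'
    rw [hC]
    refine Set.mem_biUnion haF ⟨(y ≫ h).left.base (IsLocalRing.closedPoint k),
      ⟨y.left.base (IsLocalRing.closedPoint k), rfl⟩, ?_⟩
    show (La a).left.base ((y ≫ h).left.base (IsLocalRing.closedPoint k)) =
      g.left.base (IsLocalRing.closedPoint k)
    have e : (y ≫ h) ≫ La a = g := by
      rw [pt_La, hy]
      congr 1
    exact congrArg (fun w : 𝟙_ (Over (Spec (CommRingCat.of k))) ⟶ G =>
      w.left.base (IsLocalRing.closedPoint k)) e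
  have hC_Γ : C ⊆ Set.range i.left.base := by
    rw [hC]
    intro z hz
    obtain ⟨a, haF, w, ⟨u, rfl⟩, rfl⟩ := Set.mem_iUnion₂.mp hz
    obtain ⟨n, T, p, p₀, x, ε, hw⟩ := hF1 a haF
    obtain ⟨c, hc⟩ := kword f a T p p₀ x ε hw
    have ha' : (wd f' c ε) ≫ i = a := by
      rw [wd_comp_hom, hf']; exact hc
    obtain ⟨xu, hxu⟩ := hH ⟨u, rfl⟩
    have hγ : h.left.base u = i.left.base (f'.left.base xu) := by
      rw [← hxu]
      exact (congrArg (fun w : X ⟶ G => w.left.base xu) hf').symm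
    refine ⟨(La (wd f' c ε)).left.base (f'.left.base xu), ?_⟩
    have e : La (wd f' c ε) ≫ i = i ≫ La a := by
      rw [pt_La, ← ha']
      unfold La
      rw [MonObj.mul_comp, Category.id_comp, Category.assoc]
    show i.left.base ((La (wd f' c ε)).left.base (f'.left.base xu)) =
      (La a).left.base (h.left.base u)
    rw [hγ]
    exact congrArg (fun w : Γ₁ ⟶ G => w.left.base (f'.left.base xu)) e
  have hri : Set.range i.left.base = C := Set.Subset.antisymm (hΓD.trans hD_C) hC_Γ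
  refine ⟨?_, ⟨F, ?_⟩⟩
  swap
  · rw [hri, hC]
    simp only [La_eq]
  · obtain ⟨N, hN⟩ : ∃ N : (𝟙_ (Over (Spec (CommRingCat.of k))) ⟶ G) → ℕ, ∀ a ∈ F,
        ∃ (c : Fin (N a) → (𝟙_ (Over (Spec (CommRingCat.of k))) ⟶ X)) (ε : Fin (N a) → Bool),
          wd f c ε = a := by
      classical
      have hex : ∀ a : 𝟙_ (Over (Spec (CommRingCat.of k))) ⟶ G, ∃ n : ℕ, a ∈ F →
          ∃ (c : Fin n → (𝟙_ (Over (Spec (CommRingCat.of k))) ⟶ X)) (ε : Fin n → Bool),
            wd f c ε = a := by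
        intro a
        by_cases haF : a ∈ F
        · obtain ⟨n, T, p, p₀, x, ε, hw⟩ := hF1 a haF
          obtain ⟨c, hc⟩ := kword f a T p p₀ x ε hw
          exact ⟨n, fun _ => ⟨c, ε, hc⟩⟩
        · exact ⟨0, fun h => absurd h haF⟩
      choose N hN using hex
      exact ⟨N, hN⟩
    refine ⟨F.sup N + 1, ?_⟩
    ext g
    constructor
    · intro hg
      rw [hri, hC] at hg
      obtain ⟨a, haF, w, ⟨u, rfl⟩, rfl⟩ := Set.mem_iUnion₂.mp hg
      obtain ⟨c, ε, hc⟩ := hN a haF
      obtain ⟨xu, hxu⟩ := hH ⟨u, rfl⟩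
      obtain ⟨x', ε', hx'⟩ := transl f c ε
      have hU : Under f (N a + 1) ((La a).left.base (h.left.base u)) := by
        refine ⟨X, xu, x', ε', ?_⟩
        show (wd f x' ε').left.base xu = _
        rw [hx', hc, ← pt_La, ← hxu]
        rfl
      exact under_mono f x₀ hx₀ hU (Nat.succ_le_succ (Finset.le_sup haF))
    · rintro ⟨T, p, x, ε, rfl⟩
      refine ⟨(wd f' x ε).left.base p, ?_⟩
      have e : wd f' x ε ≫ i = wd f x ε := by rw [wd_comp_hom, hf']
      exact congrArg (fun w : T ⟶ G => w.left.base p) e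

end Groth.Agent.Lib.FinIdxH4
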