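import Mathlib

/-!
# Dimension count over a finite dimensional algebra: bounded fibres give a bounded total rank (helper6)
-/
set_option autoImplicit false
universe u
open TensorProduct

namespace Groth.Agent.Lib.UBFRingH6

variable {K : Type u} [Field K]

/-- exactness bound for finite dimensional vector spaces -/
theorem finite_and_finrank_le_of_exact {M₁ M₂ M₃ : Type u} [AddCommGroup M₁] [AddCommGroup M₂]
    [AddCommGroup M₃] [Module K M₁] [Module K M₂] [Module K M₃] (f : M₁ →ₗ[K] M₂) (g : M₂ →ₗ[K] M₃)
    (hfg : Function.Exact f g) [Module.Finite K M₁] [Module.Finite K M₃] :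
    Module.Finite K M₂ ∧ Module.finrank K M₂ ≤ Module.finrank K M₁ + Module.finrank K M₃ := by
  have hker : LinearMap.ker g = LinearMap.range f := (LinearMap.exact_iff.mp hfg)
  haveI : Module.Finite K (LinearMap.range f) := inferInstance
  haveI : Module.Finite K (LinearMap.ker g) := by rw [hker]; infer_instance
  haveI : Module.Finite K (LinearMap.range g) := inferInstance
  haveI hM₂ : Module.Finite K M₂ := by
    have e := g.quotKerEquivRange
    haveI : Module.Finite K (M₂ ⧸ LinearMap.ker g) := Module.Finite.equiv e.symm
    exact Module.Finite.of_submodule_quotient (LinearMap.ker g)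
  refine ⟨hM₂, ?_⟩
  have h1 := LinearMap.finrank_range_add_finrank_ker g
  have h2 : Module.finrank K (LinearMap.range g) ≤ Module.finrank K M₃ :=
    Submodule.finrank_le _
  have h3 : Module.finrank K (LinearMap.ker g) ≤ Module.finrank K M₁ := by
    rw [hker]; exact LinearMap.finrank_range_le f
  omega

end Groth.Agent.Lib.UBFRingH6

namespace Groth.Agent.Lib.UBFRingH6

variable {K A B : Type u} [Field K] [CommRing A] [Algebra K A] [CommRing B] [Algebra A B]

theorem finrank_tensor_le_aux (n : ℕ)
    (h : ∀ m : Ideal A, m.IsMaximal → Module.Finite K ((A ⧸ m) ⊗[A] B) ∧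
      Module.finrank K ((A ⧸ m) ⊗[A] B) ≤ n * Module.finrank K (A ⧸ m)) :
    ∀ (d : ℕ) (N : Type u) [AddCommGroup N] [Module A N] [Module K N] [IsScalarTower K A N]
      [Module.Finite K N], Module.finrank K N = d →
      Module.Finite K (N ⊗[A] B) ∧ Module.finrank K (N ⊗[A] B) ≤ n * Module.finrank K N := by
  intro d
  induction d using Nat.strong_induction_on with
  | _ d ih =>
    intro N _ _ _ _ _ hd
    rcases subsingleton_or_nontrivial N with hN | hN
    · haveI : Subsingleton (N ⊗[A] B) := inferInstance
      refine ⟨inferInstance, ?_⟩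
      rw [Module.finrank_zero_of_subsingleton]
      exact Nat.zero_le _
    · haveI : IsArtinian K N := inferInstance
      haveI : IsArtinian A N := isArtinian_of_tower K inferInstance
      haveI : IsAtomic (Submodule A N) := isAtomic_of_orderBot_wellFounded_lt wellFounded_lt
      obtain ⟨N', hatom⟩ := IsAtomic.exists_atom (Submodule A N)
      haveI hS : IsSimpleModule A N' := isSimpleModule_iff_isAtom.mpr hatom
      obtain ⟨m, hm, ⟨e⟩⟩ := isSimpleModule_iff_quot_maximal.mp hS
      -- the exact sequence
      have hex : Function.Exact N'.subtype N'.mkQ := LinearMap.exact_subtype_mkQ N'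
      have hsurj : Function.Surjective N'.mkQ := N'.mkQ_surjective
      -- K-linear versions
      let f : N' →ₗ[K] N := N'.subtype.restrictScalars K
      let g : N →ₗ[K] (N ⧸ N') := N'.mkQ.restrictScalars K
      haveI : Module.Finite K N' := Module.Finite.of_injective f N'.injective_subtype
      haveI : Module.Finite K (N ⧸ N') := Module.Finite.of_surjective g hsurj
      have hrank : Module.finrank K N = Module.finrank K N' + Module.finrank K (N ⧸ N') := by
        have h1 := LinearMap.finrank_range_add_finrank_ker g
        have hg : Function.Surjective g := hsurj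
        have hf : Function.Injective f := N'.injective_subtype
        have hex' : Function.Exact f g := hex
        have h2 : Module.finrank K (LinearMap.range g) = Module.finrank K (N ⧸ N') := by
          rw [LinearMap.range_eq_top.mpr hg, finrank_top]
        have h3 : Module.finrank K (LinearMap.ker g) = Module.finrank K N' := by
          have : LinearMap.ker g = LinearMap.range f := (LinearMap.exact_iff.mp hex')
          rw [this]
          exact LinearMap.finrank_range_of_inj hf
        omega
      have hpos : 0 < Module.finrank K N' := by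
        haveI : Nontrivial N' := IsSimpleModule.nontrivial A N'
        exact Module.finrank_pos
      -- the simple piece
      have hN'1 : Module.finrank K N' = Module.finrank K (A ⧸ m) :=
        LinearEquiv.finrank_eq (e.restrictScalars K)
      let eT : N' ⊗[A] B ≃ₗ[A] (A ⧸ m) ⊗[A] B := LinearEquiv.rTensor B e
      obtain ⟨hfin1, hle1⟩ := h m hm
      haveI : Module.Finite K (N' ⊗[A] B) := Module.Finite.equiv (eT.restrictScalars K).symm
      have hN'2 : Module.finrank K (N' ⊗[A] B) = Module.finrank K ((A ⧸ m) ⊗[A] B) :=
        LinearEquiv.finrank_eq (eT.restrictScalars K)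
      -- the quotient
      obtain ⟨hfin2, hle2⟩ := ih (Module.finrank K (N ⧸ N')) (by omega) (N ⧸ N') rfl
      -- tensor exactness
      have hexT : Function.Exact (LinearMap.rTensor B N'.subtype) (LinearMap.rTensor B N'.mkQ) :=
        rTensor_exact B hex hsurj
      have key := finite_and_finrank_le_of_exact
        ((LinearMap.rTensor B N'.subtype).restrictScalars K)
        ((LinearMap.rTensor B N'.mkQ).restrictScalars K) hexT
      refine ⟨key.1, key.2.trans ?_⟩
      rw [hrank, Nat.mul_add, hN'2, hN'1]
      exact Nat.add_le_add hle1 hle2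

theorem finrank_le_of_fibres (n : ℕ) [Algebra K B] [IsScalarTower K A B] [Module.Finite K A]
    (h : ∀ m : Ideal A, m.IsMaximal → Module.Finite K ((A ⧸ m) ⊗[A] B) ∧
      Module.finrank K ((A ⧸ m) ⊗[A] B) ≤ n * Module.finrank K (A ⧸ m)) :
    Module.Finite K B ∧ Module.finrank K B ≤ n * Module.finrank K A := by
  obtain ⟨h1, h2⟩ := finrank_tensor_le_aux n h _ A rfl
  let e : A ⊗[A] B ≃ₗ[A] B := TensorProduct.lid A B
  have e' : A ⊗[A] B ≃ₗ[K] B := e.restrictScalars K
  exact ⟨Module.Finite.equiv e', by rw [← LinearEquiv.finrank_eq e']; exact h2⟩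

end Groth.Agent.Lib.UBFRingH6
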