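import Groth.Agent.Lib.AlgSpUBF2_helper4
import Groth.Agent.Lib.UBFRing_helper6

/-!
# Finite schemes over a field: ranks of fibres (helper6)
-/

set_option autoImplicit false
universe u
open CategoryTheory CategoryTheory.Limits AlgebraicGeometry Opposite TensorProduct

namespace Groth.Agent.Lib.FinKSchH6

open Groth.Agent.Lib.AlgSpUBF2_helper4

/-- The fibre of a morphism of affine schemes over a field valued point, as the spectrum of a
tensor product. -/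
theorem isPullback_tensor {X Y : Scheme.{u}} [IsAffine X] [IsAffine Y] (f : X ⟶ Y)
    [Algebra Γ(Y, ⊤) Γ(X, ⊤)] (hf : algebraMap Γ(Y, ⊤) Γ(X, ⊤) = f.appTop.hom)
    {L : Type u} [Field L] [Algebra Γ(Y, ⊤) L] :
    IsPullback
      (Spec.map (CommRingCat.ofHom (Algebra.TensorProduct.includeRight (R := Γ(Y, ⊤)) (A := L)
        (B := Γ(X, ⊤))).toRingHom) ≫ X.isoSpec.inv)
      (Spec.map (CommRingCat.ofHom (algebraMap L (L ⊗[Γ(Y, ⊤)] Γ(X, ⊤)))))
      f (Spec.map (CommRingCat.ofHom (algebraMap Γ(Y, ⊤) L)) ≫ Y.isoSpec.inv) := by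
  have hpo := CommRingCat.isPushout_tensorProduct Γ(Y, ⊤) L Γ(X, ⊤)
  have hpb := isPullback_SpecMap_of_isPushout _ _ _ _ hpo
  refine hpb.flip.of_iso (Iso.refl _) X.isoSpec.symm (Iso.refl _) Y.isoSpec.symm ?_ ?_ ?_ ?_
  · simp
  · simp
  · rw [hf]
    exact Scheme.isoSpec_inv_naturality f
  · simp

variable {K : Type u} [Field K]

/-- Finiteness of the fibres of `d : T ⟶ T₀` over all field valued points of a scheme `T₀` finite
over a field gives finiteness of `T` over the field and a bound on its rank. -/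
theorem isFinite_comp_of_fibres {T T₀ : Scheme.{u}} (d : T ⟶ T₀)
    (c₀ : T₀ ⟶ Spec (CommRingCat.of K)) [IsFinite c₀] (n : ℕ)
    (h : ∀ (L : Type u) [Field L] (x : Spec (CommRingCat.of L) ⟶ T₀) (P : Scheme.{u}) (fst : P ⟶ T)
      (snd : P ⟶ Spec (CommRingCat.of L)), IsPullback fst snd d x →
        IsFinite snd ∧ ∀ s, snd.finrank s ≤ n)
    (s : ↥(Spec (CommRingCat.of K))) :
    IsFinite (d ≫ c₀) ∧ (d ≫ c₀).finrank s ≤ n * c₀.finrank s := by
  obtain ⟨hT₀f, hT₀d⟩ := finite_discrete_of_isFinite c₀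
  haveI : IsAffine T₀ := isAffine_of_isAffineHom c₀
  -- Step 1: `T` is finite and discrete
  have hfib : ∀ t₀ : ↥T₀, (d ⁻¹' {t₀}).Finite ∧ ∀ t ∈ d ⁻¹' {t₀}, IsClosed ({t} : Set ↥T) := by
    intro t₀
    obtain ⟨x, hx⟩ : ∃ x : Spec (CommRingCat.of ↥(T₀.residueField t₀)) ⟶ T₀,
        x = T₀.fromSpecResidueField t₀ := ⟨_, rfl⟩
    haveI : IsClosedImmersion x := by
      rw [hx]
      exact isClosed_singleton_iff_isClosedImmersion.mp (isClosed_discrete _)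
    obtain ⟨hfin, -⟩ := h _ x (pullback d x) (pullback.fst d x) (pullback.snd d x)
      (IsPullback.of_hasPullback d x)
    obtain ⟨hPf, hPd⟩ := finite_discrete_of_isFinite (pullback.snd d x)
    have hsub : d ⁻¹' {t₀} ⊆ Set.range (pullback.fst d x) := by
      intro t ht
      have hx0 : x (IsLocalRing.closedPoint _) = t₀ := by
        rw [hx]; exact Scheme.fromSpecResidueField_apply _ _
      obtain ⟨z, hz1, -⟩ := Scheme.Pullback.exists_preimage_pullback (f := d) (g := x) t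
        (IsLocalRing.closedPoint _) (by rw [hx0]; exact ht)
      exact ⟨z, hz1⟩
    refine ⟨(Set.finite_range _).subset hsub, fun t ht => ?_⟩
    obtain ⟨z, rfl⟩ := hsub ht
    haveI : IsClosedImmersion (pullback.fst d x) := inferInstance
    have e : ({(pullback.fst d x) z} : Set ↥T) = (pullback.fst d x) '' {z} := by simp
    rw [e]
    exact (pullback.fst d x).isClosedEmbedding.isClosedMap _ (isClosed_discrete _)
  have hTfin : Finite ↥T := by
    have e : (Set.univ : Set ↥T) = ⋃ t₀ : ↥T₀, d ⁻¹' {t₀} := by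
      ext t; simp
    have hf : (Set.univ : Set ↥T).Finite := by
      rw [e]; exact Set.finite_iUnion (fun t₀ => (hfib t₀).1)
    exact Set.finite_univ_iff.1 hf
  haveI : T1Space ↥T := ⟨fun t => (hfib (d t)).2 t rfl⟩
  haveI : DiscreteTopology ↥T := inferInstance
  haveI : IsAffine T := inferInstance
  -- Step 2: rings
  letI algKA : Algebra K Γ(T₀, ⊤) := (strHom c₀).toAlgebra
  letI algAB : Algebra Γ(T₀, ⊤) Γ(T, ⊤) := d.appTop.hom.toAlgebra
  letI algKB : Algebra K Γ(T, ⊤) := (strHom (d ≫ c₀)).toAlgebra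
  haveI : IsScalarTower K Γ(T₀, ⊤) Γ(T, ⊤) := IsScalarTower.of_algebraMap_eq (fun k => by
    change strHom (d ≫ c₀) k = d.appTop.hom (strHom c₀ k)
    rw [strHom_comp]; rfl)
  haveI hAfin : Module.Finite K Γ(T₀, ⊤) := ((isFinite_iff_strHom c₀).mp inferInstance).2
  have hR := Groth.Agent.Lib.UBFRingH6.finrank_le_of_fibres (K := K) (A := Γ(T₀, ⊤))
    (B := Γ(T, ⊤)) n ?_
  · obtain ⟨hBfin, hBle⟩ := hR
    have hfin : IsFinite (d ≫ c₀) := (isFinite_iff_strHom _).mpr ⟨inferInstance, hBfin⟩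
    refine ⟨hfin, ?_⟩
    rw [finrank_eq_finrank_strHom (d ≫ c₀) s, finrank_eq_finrank_strHom c₀ s]
    exact hBle
  · intro m hm
    letI : Field (Γ(T₀, ⊤) ⧸ m) := Ideal.Quotient.field m
    have sq := isPullback_tensor d (L := Γ(T₀, ⊤) ⧸ m) rfl
    obtain ⟨hfin, hrk⟩ := h (Γ(T₀, ⊤) ⧸ m) _ _ _ _ sq
    haveI hmodfin : Module.Finite (Γ(T₀, ⊤) ⧸ m) ((Γ(T₀, ⊤) ⧸ m) ⊗[Γ(T₀, ⊤)] Γ(T, ⊤)) := by
      have h1 := (IsFinite.SpecMap_iff _).1 hfin
      exact RingHom.finite_algebraMap.1 h1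
    have hrk' : Module.finrank (Γ(T₀, ⊤) ⧸ m) ((Γ(T₀, ⊤) ⧸ m) ⊗[Γ(T₀, ⊤)] Γ(T, ⊤)) ≤ n := by
      obtain ⟨s'⟩ : Nonempty ↥(Spec (CommRingCat.of (Γ(T₀, ⊤) ⧸ m))) :=
        inferInstanceAs (Nonempty (PrimeSpectrum (Γ(T₀, ⊤) ⧸ m)))
      have h2 := hrk s'
      rw [Scheme.Hom.finrank_SpecMap_algebraMap, Module.rankAtStalk_eq_finrank_of_free] at h2
      exact h2
    haveI : Module.Finite K (Γ(T₀, ⊤) ⧸ m) :=
      Module.Finite.of_surjective (Ideal.Quotient.mkₐ K m).toLinearMap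
        (Ideal.Quotient.mkₐ_surjective K m)
    refine ⟨Module.Finite.trans (Γ(T₀, ⊤) ⧸ m) _, ?_⟩
    rw [← Module.finrank_mul_finrank K (Γ(T₀, ⊤) ⧸ m)
      ((Γ(T₀, ⊤) ⧸ m) ⊗[Γ(T₀, ⊤)] Γ(T, ⊤)), Nat.mul_comm n]
    exact Nat.mul_le_mul_left _ hrk'

end Groth.Agent.Lib.FinKSchH6
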