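import Mathlib
import Groth.Prelude.Def_Wider
import Groth.Agent.Lib.Matlis3_helper5
import Groth.Agent.S6291

/-!
# An `A`-linear self-equivalence of the category of finite length modules over a noetherian local
ring is isomorphic to the identity (helper6, for S0362).
-/

set_option autoImplicit false
universe u
open CategoryTheory

namespace Groth.Agent.Lib.FinLenEquiv_helper6

variable {A : Type u} [CommRing A]

section Basic

/-- morphism of `FinLen` from a linear map -/
def mkHom {X Y : Dual.FinLen A} (φ : X.obj →ₗ[A] Y.obj) : X ⟶ Y :=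
  ObjectProperty.homMk (ModuleCat.ofHom φ)

/-- the underlying linear map -/
def lin {X Y : Dual.FinLen A} (f : X ⟶ Y) : X.obj →ₗ[A] Y.obj := f.hom.hom

@[simp] lemma lin_mkHom {X Y : Dual.FinLen A} (φ : X.obj →ₗ[A] Y.obj) : lin (mkHom φ) = φ := rfl

lemma lin_injective {X Y : Dual.FinLen A} : Function.Injective (lin : (X ⟶ Y) → _) := by
  intro f g h
  apply ObjectProperty.hom_ext
  apply ModuleCat.hom_ext
  exact h

@[simp] lemma lin_comp {X Y Z : Dual.FinLen A} (f : X ⟶ Y) (g : Y ⟶ Z) :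
    lin (f ≫ g) = lin g ∘ₗ lin f := rfl

@[simp] lemma lin_id (X : Dual.FinLen A) : lin (𝟙 X) = LinearMap.id := rfl

@[simp] lemma lin_add {X Y : Dual.FinLen A} (f g : X ⟶ Y) : lin (f + g) = lin f + lin g := rfl

@[simp] lemma lin_smul {X Y : Dual.FinLen A} (a : A) (f : X ⟶ Y) : lin (a • f) = a • lin f := rfl

@[simp] lemma lin_zero {X Y : Dual.FinLen A} : lin (0 : X ⟶ Y) = 0 := rfl

/-- the cyclic object `A/I` -/
def rc (I : Ideal A) (hI : IsFiniteLength A (A ⧸ I)) : Dual.FinLen A :=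
  ⟨ModuleCat.of A (A ⧸ I), hI⟩

/-- the class of `1` in `A/I` -/
def one (I : Ideal A) (hI : IsFiniteLength A (A ⧸ I)) : (rc I hI).obj :=
  (Submodule.Quotient.mk (p := I) (1 : A) : A ⧸ I)

lemma hom_ext_rc {I : Ideal A} {hI : IsFiniteLength A (A ⧸ I)} {X : Dual.FinLen A}
    {g g' : rc I hI ⟶ X} (h : lin g (one I hI) = lin g' (one I hI)) : g = g' := by
  apply lin_injective
  have h1 : ∀ φ ψ : (A ⧸ I) →ₗ[A] X.obj,
      φ (Submodule.Quotient.mk 1) = ψ (Submodule.Quotient.mk 1) → φ = ψ := by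
    intro φ ψ hφ
    apply Submodule.linearMap_qext
    apply LinearMap.ext_ring
    exact hφ
  exact h1 (lin g) (lin g') h

open Classical in
/-- the morphism `A/I → X` determined by `x` (zero when `I` does not kill `x`) -/
noncomputable def fromRC (I : Ideal A) (hI : IsFiniteLength A (A ⧸ I)) (X : Dual.FinLen A)
    (x : X.obj) : rc I hI ⟶ X :=
  if h : ∀ a ∈ I, a • x = 0 then
    mkHom (Submodule.liftQ I (LinearMap.toSpanSingleton A X.obj x) (by
      intro a ha
      rw [LinearMap.mem_ker, LinearMap.toSpanSingleton_apply]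
      exact h a ha))
  else 0

lemma lin_fromRC_one {I : Ideal A} {hI : IsFiniteLength A (A ⧸ I)} {X : Dual.FinLen A}
    {x : X.obj} (h : ∀ a ∈ I, a • x = 0) : lin (fromRC I hI X x) (one I hI) = x := by
  unfold fromRC
  rw [dif_pos h, lin_mkHom]
  show (Submodule.liftQ I (LinearMap.toSpanSingleton A X.obj x) _) (Submodule.Quotient.mk 1) = x
  rw [Submodule.liftQ_apply, LinearMap.toSpanSingleton_apply, one_smul]

/-- `I` kills the object `X` -/
def Kills (I : Ideal A) (X : Dual.FinLen A) : Prop := ∀ a ∈ I, ∀ x : X.obj, a • x = 0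

lemma Kills.mono {I J : Ideal A} {X : Dual.FinLen A} (h : Kills J X) (hIJ : I ≤ J) : Kills I X :=
  fun a ha x => h a (hIJ ha) x

lemma kills_iff_smul_id {I : Ideal A} {X : Dual.FinLen A} :
    Kills I X ↔ ∀ a ∈ I, a • 𝟙 X = 0 := by
  constructor
  · intro h a ha
    apply lin_injective
    ext x
    exact h a ha x
  · intro h a ha x
    have := congrArg (fun f => lin f x) (h a ha)
    exact this

lemma kills_rc (I : Ideal A) (hI : IsFiniteLength A (A ⧸ I)) : Kills I (rc I hI) := by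
  intro a ha y
  obtain ⟨b, rfl⟩ := Submodule.Quotient.mk_surjective I y
  show a • (Submodule.Quotient.mk b : A ⧸ I) = 0
  rw [← Submodule.Quotient.mk_smul, Submodule.Quotient.mk_eq_zero]
  exact I.mul_mem_right b ha

lemma smul_one_rc (I : Ideal A) (hI : IsFiniteLength A (A ⧸ I)) (a : A) :
    a • one I hI = (Submodule.Quotient.mk a : A ⧸ I) := by
  show a • (Submodule.Quotient.mk (1 : A) : A ⧸ I) = Submodule.Quotient.mk a
  rw [← Submodule.Quotient.mk_smul, smul_eq_mul, mul_one]

lemma fromRC_comp {I : Ideal A} {hI : IsFiniteLength A (A ⧸ I)} {X Y : Dual.FinLen A}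
    {x : X.obj} (h : ∀ a ∈ I, a • x = 0) (g : X ⟶ Y) :
    fromRC I hI X x ≫ g = fromRC I hI Y (lin g x) := by
  have h' : ∀ a ∈ I, a • lin g x = 0 := fun a ha => by rw [← map_smul, h a ha, map_zero]
  apply hom_ext_rc
  rw [lin_comp, LinearMap.comp_apply, lin_fromRC_one h, lin_fromRC_one h']

lemma eq_fromRC {I : Ideal A} {hI : IsFiniteLength A (A ⧸ I)} {X : Dual.FinLen A}
    (g : rc I hI ⟶ X) : g = fromRC I hI X (lin g (one I hI)) := by
  have h' : ∀ a ∈ I, a • lin g (one I hI) = 0 := fun a ha => by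
    rw [← map_smul, kills_rc I hI a ha, map_zero]
  apply hom_ext_rc
  rw [lin_fromRC_one h']

lemma fromRC_add {I : Ideal A} {hI : IsFiniteLength A (A ⧸ I)} {X : Dual.FinLen A}
    {x y : X.obj} (hx : ∀ a ∈ I, a • x = 0) (hy : ∀ a ∈ I, a • y = 0) :
    fromRC I hI X (x + y) = fromRC I hI X x + fromRC I hI X y := by
  have hxy : ∀ a ∈ I, a • (x + y) = 0 := fun a ha => by rw [smul_add, hx a ha, hy a ha, add_zero]
  apply hom_ext_rc
  rw [lin_add, LinearMap.add_apply, lin_fromRC_one hxy, lin_fromRC_one hx, lin_fromRC_one hy]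

lemma fromRC_smul {I : Ideal A} {hI : IsFiniteLength A (A ⧸ I)} {X : Dual.FinLen A}
    {x : X.obj} (hx : ∀ a ∈ I, a • x = 0) (b : A) :
    fromRC I hI X (b • x) = b • fromRC I hI X x := by
  have hbx : ∀ a ∈ I, a • (b • x) = 0 := fun a ha => by rw [smul_comm, hx a ha, smul_zero]
  apply hom_ext_rc
  rw [lin_smul, LinearMap.smul_apply, lin_fromRC_one hbx, lin_fromRC_one hx]

end Basic

section Functor

variable (Φ : Dual.FinLen A ⥤ Dual.FinLen A) [Φ.Additive] [Φ.Linear A]

lemma kills_map {I : Ideal A} {X : Dual.FinLen A} (h : Kills I X) : Kills I (Φ.obj X) := by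
  rw [kills_iff_smul_id] at h ⊢
  intro a ha
  rw [← CategoryTheory.Functor.map_id, ← Functor.map_smul, h a ha, Functor.map_zero]

end Functor

section Local

variable [IsLocalRing A] [IsNoetherianRing A]

lemma exists_surj_to_kappa (M : Type u) [AddCommGroup M] [Module A M] (hM : IsFiniteLength A M)
    [Nontrivial M] :
    ∃ q : M →ₗ[A] (A ⧸ IsLocalRing.maximalIdeal A), Function.Surjective q := by
  obtain ⟨hnoeth, -⟩ := isFiniteLength_iff_isNoetherian_isArtinian.1 hM
  haveI : Module.Finite A M := inferInstance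
  obtain ⟨N, hN⟩ : ∃ N : Submodule A M, IsCoatom N := by
    rcases eq_top_or_exists_le_coatom (⊥ : Submodule A M) with h | ⟨N, hN, -⟩
    · exact absurd h bot_ne_top
    · exact ⟨N, hN⟩
  haveI : IsSimpleModule A (M ⧸ N) := isSimpleModule_iff_isCoatom.2 hN
  obtain ⟨I, hI, ⟨e⟩⟩ :=
    isSimpleModule_iff_quot_maximal.1 (inferInstance : IsSimpleModule A (M ⧸ N))
  have hIm : I = IsLocalRing.maximalIdeal A := IsLocalRing.eq_maximalIdeal hI
  subst hIm
  exact ⟨e.toLinearMap ∘ₗ N.mkQ, e.surjective.comp (Submodule.mkQ_surjective N)⟩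

lemma isFiniteLength_quot_max : IsFiniteLength A (A ⧸ IsLocalRing.maximalIdeal A) :=
  Groth.Agent.Matlis.isFiniteLength_quotient_of_pow_le (IsLocalRing.maximalIdeal A) 1
    (by rw [pow_one])

/-- the residue field as an object of `FinLen` -/
noncomputable abbrev kap : Dual.FinLen A := rc (IsLocalRing.maximalIdeal A) isFiniteLength_quot_max

lemma one_kap_ne_zero : one (IsLocalRing.maximalIdeal A) isFiniteLength_quot_max ≠ 0 := by
  intro h
  have h1 : (Submodule.Quotient.mk (1 : A) : A ⧸ IsLocalRing.maximalIdeal A) = 0 := h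
  rw [Submodule.Quotient.mk_eq_zero] at h1
  exact (Ideal.ne_top_iff_one _).1 (IsLocalRing.maximalIdeal.isMaximal A).ne_top h1

lemma smul_kap_eq_zero_of_mem {a : A} (ha : a ∈ IsLocalRing.maximalIdeal A)
    (z : (kap (A := A)).obj) : a • z = 0 :=
  kills_rc _ _ a ha z

lemma end_kap_scalar (g : kap (A := A) ⟶ kap) : ∃ a : A, g = a • 𝟙 kap := by
  obtain ⟨a, ha⟩ := Submodule.Quotient.mk_surjective (IsLocalRing.maximalIdeal A)
    (lin g (one _ isFiniteLength_quot_max))
  refine ⟨a, hom_ext_rc ?_⟩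
  rw [lin_smul, LinearMap.smul_apply, lin_id, LinearMap.id_apply, smul_one_rc]
  exact ha.symm

variable (Φ : Dual.FinLen A ⥤ Dual.FinLen A) [Φ.Additive] [Φ.Linear A] [Φ.Full] [Φ.Faithful]

lemma end_map_kap_scalar (h : Φ.obj (kap (A := A)) ⟶ Φ.obj kap) :
    ∃ a : A, h = a • 𝟙 (Φ.obj kap) := by
  obtain ⟨g, rfl⟩ := Φ.map_surjective h
  obtain ⟨a, rfl⟩ := end_kap_scalar g
  exact ⟨a, by rw [Functor.map_smul, CategoryTheory.Functor.map_id]⟩

lemma nontrivial_map_kap : Nontrivial (Φ.obj (kap (A := A))).obj := by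
  by_contra hcon
  rw [not_nontrivial_iff_subsingleton] at hcon
  have h1 : 𝟙 (Φ.obj (kap (A := A))) = 0 := by
    apply lin_injective
    ext x
    exact Subsingleton.elim _ _
  have h2 : Φ.map (𝟙 (kap (A := A))) = Φ.map 0 := by
    rw [CategoryTheory.Functor.map_id, Functor.map_zero, h1]
  have h3 := Φ.map_injective h2
  have h4 := congrArg (fun f => lin f (one _ isFiniteLength_quot_max)) h3
  exact one_kap_ne_zero h4

/-- `Φ κ ≅ κ` -/
theorem nonempty_linearEquiv_map_kap :
    Nonempty ((Φ.obj (kap (A := A))).obj ≃ₗ[A] (A ⧸ IsLocalRing.maximalIdeal A)) := by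
  haveI := nontrivial_map_kap Φ
  have hS : IsFiniteLength A (Φ.obj (kap (A := A))).obj := (Φ.obj kap).property
  obtain ⟨q, hq⟩ := exists_surj_to_kappa _ hS
  obtain ⟨s, hs⟩ := exists_ne (0 : (Φ.obj (kap (A := A))).obj)
  have hkS : Kills (IsLocalRing.maximalIdeal A) (Φ.obj (kap (A := A))) :=
    kills_map Φ (kills_rc _ _)
  let i : (A ⧸ IsLocalRing.maximalIdeal A) →ₗ[A] (Φ.obj (kap (A := A))).obj :=
    Submodule.liftQ (IsLocalRing.maximalIdeal A)
      (LinearMap.toSpanSingleton A (Φ.obj (kap (A := A))).obj s) (by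
        intro a ha
        rw [LinearMap.mem_ker, LinearMap.toSpanSingleton_apply]
        exact hkS a ha s)
  have hi1 : i (Submodule.Quotient.mk 1) = s := by
    show (Submodule.liftQ _ (LinearMap.toSpanSingleton A _ s) _) (Submodule.Quotient.mk 1) = s
    rw [Submodule.liftQ_apply, LinearMap.toSpanSingleton_apply, one_smul]
  obtain ⟨a, ha⟩ := end_map_kap_scalar Φ (mkHom (i ∘ₗ q))
  have hval : ∀ y, i (q y) = a • y := by
    intro y
    have := congrArg (fun f => lin f y) ha
    exact this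
  have ham : a ∉ IsLocalRing.maximalIdeal A := by
    intro ham
    obtain ⟨y, hy⟩ := hq (Submodule.Quotient.mk 1)
    have h1 := hval y
    rw [hy, hi1, hkS a ham y] at h1
    exact hs h1
  have hunit : IsUnit a := IsLocalRing.notMem_maximalIdeal.1 ham
  have hinj : Function.Injective q := by
    rw [injective_iff_map_eq_zero]
    intro y hy
    have h1 := hval y
    rw [hy, map_zero] at h1
    exact (hunit.smul_eq_zero).1 h1.symm
  exact ⟨LinearEquiv.ofBijective q ⟨hinj, hq⟩⟩

section Cyclic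

variable (I : Ideal A) (hI : IsFiniteLength A (A ⧸ I)) (hIm : I ≤ IsLocalRing.maximalIdeal A)

/-- the projection `A/I → κ` -/
noncomputable def pK : rc I hI ⟶ kap (A := A) :=
  fromRC I hI kap (one _ isFiniteLength_quot_max)

include hIm in
lemma lin_pK_one : lin (pK I hI) (one I hI) = one _ isFiniteLength_quot_max :=
  lin_fromRC_one (fun a ha => smul_kap_eq_zero_of_mem (hIm ha) _)

/-- good generators of `Φ(A/I)` -/
def Good (t : (Φ.obj (rc I hI)).obj) : Prop := lin (Φ.map (pK I hI)) t ≠ 0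

include hIm in
lemma exists_good : ∃ t, Good Φ I hI t := by
  by_contra hcon
  push_neg at hcon
  have h0 : Φ.map (pK I hI) = Φ.map 0 := by
    rw [Functor.map_zero]
    apply lin_injective
    ext t
    have := hcon t
    unfold Good at this
    push_neg at this
    exact this
  have h1 := Φ.map_injective h0
  have h2 := congrArg (fun f => lin f (one I hI)) h1
  simp only [lin_zero, LinearMap.zero_apply] at h2
  rw [lin_pK_one I hI hIm] at h2
  exact one_kap_ne_zero h2

include hIm in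
lemma lin_eq_smul (θ : (Φ.obj (kap (A := A))).obj ≃ₗ[A] (A ⧸ IsLocalRing.maximalIdeal A))
    (r : (Φ.obj (rc I hI)).obj →ₗ[A] (A ⧸ IsLocalRing.maximalIdeal A)) :
    ∃ b : A, ∀ y, r y = b • θ (lin (Φ.map (pK I hI)) y) := by
  obtain ⟨g, hg⟩ := Φ.map_surjective (mkHom (θ.symm.toLinearMap ∘ₗ r) :
    Φ.obj (rc I hI) ⟶ Φ.obj kap)
  obtain ⟨b, hb⟩ := Submodule.Quotient.mk_surjective (IsLocalRing.maximalIdeal A)
    (lin g (one I hI))
  have hgb : g = b • pK I hI := by
    apply hom_ext_rc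
    rw [lin_smul, LinearMap.smul_apply, lin_pK_one I hI hIm, smul_one_rc]
    exact hb.symm
  refine ⟨b, fun y => ?_⟩
  have h1 : lin (Φ.map g) y = θ.symm (r y) := by
    rw [hg]
    rfl
  rw [hgb, Functor.map_smul, lin_smul, LinearMap.smul_apply] at h1
  have h2 := congrArg θ h1
  rw [LinearEquiv.apply_symm_apply, map_smul] at h2
  exact h2.symm

include hIm in
lemma span_eq_top_of_good (t : (Φ.obj (rc I hI)).obj) (ht : Good Φ I hI t) :
    (⊤ : Submodule A (Φ.obj (rc I hI)).obj) ≤ Submodule.span A {t} := by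
  obtain ⟨θ⟩ := nonempty_linearEquiv_map_kap (A := A) Φ
  have hN : IsFiniteLength A (Φ.obj (rc I hI)).obj := (Φ.obj (rc I hI)).property
  obtain ⟨hnoeth, -⟩ := isFiniteLength_iff_isNoetherian_isArtinian.1 hN
  haveI : Module.Finite A (Φ.obj (rc I hI)).obj := inferInstance
  have hP : Submodule.span A {t} ⊔ IsLocalRing.maximalIdeal A •
      (⊤ : Submodule A (Φ.obj (rc I hI)).obj) = ⊤ := by
    by_contra hne
    set P := Submodule.span A {t} ⊔ IsLocalRing.maximalIdeal A •
      (⊤ : Submodule A (Φ.obj (rc I hI)).obj) with hPdef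
    haveI : Nontrivial ((Φ.obj (rc I hI)).obj ⧸ P) := Submodule.Quotient.nontrivial_iff.2 hne
    have hfl : IsFiniteLength A ((Φ.obj (rc I hI)).obj ⧸ P) :=
      IsFiniteLength.of_surjective hN (Submodule.mkQ_surjective P)
    obtain ⟨q', hq'⟩ := exists_surj_to_kappa _ hfl
    obtain ⟨b, hb⟩ := lin_eq_smul Φ I hI hIm θ (q' ∘ₗ P.mkQ)
    have htP : t ∈ P := Submodule.mem_sup_left (Submodule.mem_span_singleton_self t)
    have hrt : (q' ∘ₗ P.mkQ) t = 0 := by
      rw [LinearMap.comp_apply, Submodule.mkQ_apply, (Submodule.Quotient.mk_eq_zero P).2 htP,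
        map_zero]
    have hbm : b ∉ IsLocalRing.maximalIdeal A := by
      intro hbm
      obtain ⟨y', hy'⟩ := hq' (Submodule.Quotient.mk 1)
      obtain ⟨y, rfl⟩ := Submodule.mkQ_surjective P y'
      have h1 := hb y
      rw [LinearMap.comp_apply, hy'] at h1
      have h2 : b • θ (lin (Φ.map (pK I hI)) y) = 0 :=
        kills_rc (IsLocalRing.maximalIdeal A) isFiniteLength_quot_max b hbm _
      rw [h2] at h1
      exact one_kap_ne_zero h1
    have hunit : IsUnit b := IsLocalRing.notMem_maximalIdeal.1 hbm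
    have h3 := hb t
    rw [hrt] at h3
    have h4 := (hunit.smul_eq_zero).1 h3.symm
    exact ht (θ.map_eq_zero_iff.1 h4)
  refine Submodule.le_of_le_smul_of_le_jacobson_bot Module.Finite.fg_top
    (IsLocalRing.maximalIdeal_le_jacobson ⊥) ?_
  rw [hP]

include hIm in
lemma mem_of_smul_good_eq_zero (t : (Φ.obj (rc I hI)).obj) (ht : Good Φ I hI t) (a : A)
    (h : a • t = 0) : a ∈ I := by
  have hspan := span_eq_top_of_good Φ I hI hIm t ht
  have h1 : ∀ y : (Φ.obj (rc I hI)).obj, a • y = 0 := by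
    intro y
    obtain ⟨b, rfl⟩ := Submodule.mem_span_singleton.1 (hspan (Submodule.mem_top : y ∈ ⊤))
    rw [smul_comm, h, smul_zero]
  have h2 : a • 𝟙 (Φ.obj (rc I hI)) = 0 := by
    apply lin_injective
    ext y
    exact h1 y
  have h3 : Φ.map (a • 𝟙 (rc I hI)) = Φ.map 0 := by
    rw [Functor.map_smul, CategoryTheory.Functor.map_id, Functor.map_zero, h2]
  have h4 := Φ.map_injective h3
  have h5 := congrArg (fun f => lin f (one I hI)) h4
  simp only [lin_smul, lin_id, LinearMap.smul_apply, LinearMap.id_apply, lin_zero,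
    LinearMap.zero_apply] at h5
  rw [smul_one_rc] at h5
  exact (Submodule.Quotient.mk_eq_zero I).1 h5

end Cyclic

section Lift

variable (I J : Ideal A) (hI : IsFiniteLength A (A ⧸ I)) (hJ : IsFiniteLength A (A ⧸ J))
  (hIJ : I ≤ J) (hJm : J ≤ IsLocalRing.maximalIdeal A)

/-- the projection `A/I → A/J` -/
noncomputable def proj : rc I hI ⟶ rc J hJ := fromRC I hI (rc J hJ) (one J hJ)

include hIJ in
lemma lin_proj_one : lin (proj I J hI hJ) (one I hI) = one J hJ :=
  lin_fromRC_one (fun a ha => kills_rc J hJ a (hIJ ha) _)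

include hIJ hJm in
lemma proj_comp_pK : proj I J hI hJ ≫ pK J hJ = pK I hI := by
  unfold proj
  rw [fromRC_comp (fun a ha => kills_rc J hJ a (hIJ ha) _), lin_pK_one J hJ hJm]
  rfl

include hIJ in
lemma proj_comp_fromRC {X : Dual.FinLen A} {x : X.obj} (hx : ∀ a ∈ J, a • x = 0) :
    proj I J hI hJ ≫ fromRC J hJ X x = fromRC I hI X x := by
  unfold proj
  rw [fromRC_comp (fun a ha => kills_rc J hJ a (hIJ ha) _), lin_fromRC_one hx]

include hIJ hJm in
lemma exists_good_lift (tJ : (Φ.obj (rc J hJ)).obj) (htJ : Good Φ J hJ tJ) :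
    ∃ tI : (Φ.obj (rc I hI)).obj, Good Φ I hI tI ∧ lin (Φ.map (proj I J hI hJ)) tI = tJ := by
  obtain ⟨t', ht'⟩ := exists_good Φ I hI (hIJ.trans hJm)
  have hcomp : ∀ y, lin (Φ.map (pK J hJ)) (lin (Φ.map (proj I J hI hJ)) y) =
      lin (Φ.map (pK I hI)) y := by
    intro y
    rw [← proj_comp_pK I J hI hJ hIJ hJm, Functor.map_comp, lin_comp, LinearMap.comp_apply]
  have hgood'' : Good Φ J hJ (lin (Φ.map (proj I J hI hJ)) t') := by
    unfold Good
    rw [hcomp]
    exact ht'
  have hspan := span_eq_top_of_good Φ J hJ hJm _ hgood''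
  obtain ⟨u, hu⟩ := Submodule.mem_span_singleton.1 (hspan (Submodule.mem_top : tJ ∈ ⊤))
  refine ⟨u • t', ?_, ?_⟩
  · unfold Good
    rw [← hcomp, map_smul, hu]
    exact htJ
  · rw [map_smul, hu]

end Lift

section Seq

/-- `A/m^(k+1)` has finite length -/
lemma hfl (k : ℕ) : IsFiniteLength A (A ⧸ IsLocalRing.maximalIdeal A ^ (k + 1)) :=
  Groth.Agent.Matlis.isFiniteLength_quotient_of_pow_le _ (k + 1) le_rfl

lemma hle (k : ℕ) : IsLocalRing.maximalIdeal A ^ (k + 1) ≤ IsLocalRing.maximalIdeal A :=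
  Ideal.pow_le_self (Nat.succ_ne_zero k)

lemma hmono {k k' : ℕ} (h : k ≤ k') :
    IsLocalRing.maximalIdeal A ^ (k' + 1) ≤ IsLocalRing.maximalIdeal A ^ (k + 1) :=
  Ideal.pow_le_pow_right (by omega)

/-- the objects `A/m^(k+1)` -/
noncomputable abbrev Rk (k : ℕ) : Dual.FinLen A := rc (IsLocalRing.maximalIdeal A ^ (k + 1)) (hfl k)

/-- transition maps -/
noncomputable abbrev pr (k' k : ℕ) : Rk (A := A) k' ⟶ Rk k :=
  proj (IsLocalRing.maximalIdeal A ^ (k' + 1)) (IsLocalRing.maximalIdeal A ^ (k + 1)) (hfl k') (hfl k)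

lemma exists_seq : ∃ t : ∀ k : ℕ, (Φ.obj (Rk (A := A) k)).obj,
    (∀ k, Good Φ _ (hfl k) (t k)) ∧ ∀ k, lin (Φ.map (pr (k + 1) k)) (t (k + 1)) = t k := by
  obtain ⟨t0, ht0⟩ := exists_good Φ _ (hfl (A := A) 0) (hle 0)
  let α : ℕ → Type u := fun k => {t : (Φ.obj (Rk (A := A) k)).obj // Good Φ _ (hfl k) t}
  have hstep : ∀ k (a : α k), ∃ b : α (k + 1), lin (Φ.map (pr (k + 1) k)) b.1 = a.1 := by
    intro k a
    obtain ⟨tI, h1, h2⟩ := exists_good_lift Φ _ _ (hfl (k + 1)) (hfl k) (hmono (Nat.le_succ k))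
      (hle k) a.1 a.2
    exact ⟨⟨tI, h1⟩, h2⟩
  let s : ∀ k, α k := fun k => Nat.rec (motive := α) ⟨t0, ht0⟩
    (fun k a => Classical.choose (hstep k a)) k
  refine ⟨fun k => (s k).1, fun k => (s k).2, fun k => ?_⟩
  exact Classical.choose_spec (hstep k (s k))

end Seq

section Eta

variable (t : ∀ k : ℕ, (Φ.obj (Rk (A := A) k)).obj)
  (hgood : ∀ k, Good Φ _ (hfl k) (t k))
  (hcompat : ∀ k, lin (Φ.map (pr (k + 1) k)) (t (k + 1)) = t k)

/-- the comparison map `X → Φ X` -/
noncomputable def etaFun (k : ℕ) (X : Dual.FinLen A) (x : X.obj) : (Φ.obj X).obj :=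
  lin (Φ.map (fromRC _ (hfl k) X x)) (t k)

/-- the comparison map, linearly -/
noncomputable def etaLin (k : ℕ) (X : Dual.FinLen A)
    (hX : Kills (IsLocalRing.maximalIdeal A ^ (k + 1)) X) : X.obj →ₗ[A] (Φ.obj X).obj where
  toFun := etaFun Φ t k X
  map_add' x y := by
    unfold etaFun
    rw [fromRC_add (fun a ha => hX a ha x) (fun a ha => hX a ha y), Functor.map_add, lin_add,
      LinearMap.add_apply]
  map_smul' b x := by
    unfold etaFun
    rw [fromRC_smul (fun a ha => hX a ha x), Functor.map_smul, lin_smul, LinearMap.smul_apply]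
    rfl

include hgood in
lemma etaFun_injective (k : ℕ) (X : Dual.FinLen A)
    (hX : Kills (IsLocalRing.maximalIdeal A ^ (k + 1)) X) :
    Function.Injective (etaFun Φ t k X) := by
  have hinj : Function.Injective (etaLin Φ t k X hX) := by
    rw [injective_iff_map_eq_zero]
    intro x hx
    have hx' : lin (Φ.map (fromRC _ (hfl k) X x)) (t k) = 0 := hx
    have hspan := span_eq_top_of_good Φ _ (hfl k) (hle k) (t k) (hgood k)
    have h0 : Φ.map (fromRC _ (hfl k) X x) = Φ.map 0 := by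
      rw [Functor.map_zero]
      apply lin_injective
      ext y
      obtain ⟨b, rfl⟩ := Submodule.mem_span_singleton.1 (hspan (Submodule.mem_top : y ∈ ⊤))
      rw [map_smul, hx', smul_zero]
      rfl
    have h1 := Φ.map_injective h0
    have h2 := congrArg (fun f => lin f (one _ (hfl k))) h1
    simp only [lin_zero, LinearMap.zero_apply] at h2
    rw [lin_fromRC_one (fun a ha => hX a ha x)] at h2
    exact h2
  exact hinj

include hgood in
lemma etaFun_surjective (k : ℕ) (X : Dual.FinLen A)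
    (hX : Kills (IsLocalRing.maximalIdeal A ^ (k + 1)) X) :
    Function.Surjective (etaFun Φ t k X) := by
  intro y
  have hspan := span_eq_top_of_good Φ _ (hfl k) (hle k) (t k) (hgood k)
  have hΦX : Kills (IsLocalRing.maximalIdeal A ^ (k + 1)) (Φ.obj X) := kills_map Φ hX
  have hΦR : Kills (IsLocalRing.maximalIdeal A ^ (k + 1)) (Φ.obj (Rk k)) :=
    kills_map Φ (kills_rc _ _)
  -- `ν : A/m^(k+1) ≃ Φ(A/m^(k+1))`, `1 ↦ t k`
  let ν₀ : (A ⧸ IsLocalRing.maximalIdeal A ^ (k + 1)) →ₗ[A] (Φ.obj (Rk (A := A) k)).obj :=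
    Submodule.liftQ _ (LinearMap.toSpanSingleton A _ (t k)) (by
      intro a ha
      rw [LinearMap.mem_ker, LinearMap.toSpanSingleton_apply]
      exact hΦR a ha (t k))
  have hν₀ : ∀ a : A, ν₀ (Submodule.Quotient.mk a) = a • t k := by
    intro a
    show (Submodule.liftQ _ (LinearMap.toSpanSingleton A _ (t k)) _) (Submodule.Quotient.mk a) = _
    rw [Submodule.liftQ_apply, LinearMap.toSpanSingleton_apply]
  have hν₀inj : Function.Injective ν₀ := by
    rw [injective_iff_map_eq_zero]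
    intro z hz
    obtain ⟨a, rfl⟩ := Submodule.Quotient.mk_surjective _ z
    rw [hν₀] at hz
    exact (Submodule.Quotient.mk_eq_zero _).2
      (mem_of_smul_good_eq_zero Φ _ (hfl k) (hle k) (t k) (hgood k) a hz)
  have hν₀surj : Function.Surjective ν₀ := by
    intro w
    obtain ⟨b, rfl⟩ := Submodule.mem_span_singleton.1 (hspan (Submodule.mem_top : w ∈ ⊤))
    exact ⟨Submodule.Quotient.mk b, hν₀ b⟩
  let ν := LinearEquiv.ofBijective ν₀ ⟨hν₀inj, hν₀surj⟩
  let h₀ : (A ⧸ IsLocalRing.maximalIdeal A ^ (k + 1)) →ₗ[A] (Φ.obj X).obj :=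
    Submodule.liftQ _ (LinearMap.toSpanSingleton A _ y) (by
      intro a ha
      rw [LinearMap.mem_ker, LinearMap.toSpanSingleton_apply]
      exact hΦX a ha y)
  have hh₀ : h₀ (Submodule.Quotient.mk 1) = y := by
    show (Submodule.liftQ _ (LinearMap.toSpanSingleton A _ y) _) (Submodule.Quotient.mk 1) = _
    rw [Submodule.liftQ_apply, LinearMap.toSpanSingleton_apply, one_smul]
  have hνt : ν.symm (t k) = Submodule.Quotient.mk 1 := by
    rw [LinearEquiv.symm_apply_eq]
    show t k = ν₀ (Submodule.Quotient.mk 1)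
    rw [hν₀, one_smul]
  obtain ⟨g, hg⟩ := Φ.map_surjective (mkHom (h₀ ∘ₗ ν.symm.toLinearMap) :
    Φ.obj (Rk k) ⟶ Φ.obj X)
  refine ⟨lin g (one _ (hfl k)), ?_⟩
  unfold etaFun
  rw [← eq_fromRC g, hg, lin_mkHom, LinearMap.comp_apply]
  show h₀ (ν.symm (t k)) = y
  rw [hνt, hh₀]

include hcompat in
lemma etaFun_succ (k : ℕ) (X : Dual.FinLen A)
    (hX : Kills (IsLocalRing.maximalIdeal A ^ (k + 1)) X) (x : X.obj) :
    etaFun Φ t (k + 1) X x = etaFun Φ t k X x := by
  unfold etaFun
  rw [← proj_comp_fromRC _ _ (hfl (k + 1)) (hfl k) (hmono (Nat.le_succ k))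
    (fun a ha => hX a ha x), Functor.map_comp, lin_comp, LinearMap.comp_apply]
  exact congrArg _ (hcompat k)

include hcompat in
lemma etaFun_le {k k' : ℕ} (h : k ≤ k') (X : Dual.FinLen A)
    (hX : Kills (IsLocalRing.maximalIdeal A ^ (k + 1)) X) (x : X.obj) :
    etaFun Φ t k' X x = etaFun Φ t k X x := by
  induction k', h using Nat.le_induction with
  | base => rfl
  | succ n hn ih =>
    rw [etaFun_succ Φ t hcompat n X (hX.mono (hmono hn)) x, ih]

lemma etaFun_natural (k : ℕ) {X Y : Dual.FinLen A}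
    (hX : Kills (IsLocalRing.maximalIdeal A ^ (k + 1)) X) (g : X ⟶ Y) (x : X.obj) :
    lin (Φ.map g) (etaFun Φ t k X x) = etaFun Φ t k Y (lin g x) := by
  unfold etaFun
  rw [← fromRC_comp (fun a ha => hX a ha x) g, Functor.map_comp, lin_comp, LinearMap.comp_apply]

end Eta

omit [IsNoetherianRing A] in
lemma exists_kills (X : Dual.FinLen A) :
    ∃ k : ℕ, Kills (IsLocalRing.maximalIdeal A ^ (k + 1)) X := by
  obtain ⟨n, hn⟩ := Groth.Agent.S6291.result (R := A) X.obj X.property
  refine ⟨n, fun a ha x => ?_⟩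
  have ha' : a ∈ IsLocalRing.maximalIdeal A ^ n := Ideal.pow_le_pow_right (Nat.le_succ n) ha
  have h1 : a • x ∈ IsLocalRing.maximalIdeal A ^ n • (⊤ : Submodule A X.obj) :=
    Submodule.smul_mem_smul ha' Submodule.mem_top
  rw [hn] at h1
  exact (Submodule.mem_bot A).1 h1

/-- **S0362.** -/
theorem nonempty_iso_id (F : Dual.FinLen A ≌ Dual.FinLen A) [F.functor.Additive]
    [F.functor.Linear A] : Nonempty (F.functor ≅ 𝟭 (Dual.FinLen A)) := by
  obtain ⟨t, hgood, hcompat⟩ := exists_seq (A := A) F.functor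
  choose kk hkk using (exists_kills (A := A))
  let e : ∀ X : Dual.FinLen A, X.obj ≃ₗ[A] (F.functor.obj X).obj := fun X =>
    LinearEquiv.ofBijective (etaLin F.functor t (kk X) X (hkk X))
      ⟨etaFun_injective F.functor t hgood (kk X) X (hkk X),
        etaFun_surjective F.functor t hgood (kk X) X (hkk X)⟩
  have he : ∀ (X : Dual.FinLen A) (x : X.obj), e X x = etaFun F.functor t (kk X) X x :=
    fun X x => rfl
  let ηX : ∀ X : Dual.FinLen A, (𝟭 (Dual.FinLen A)).obj X ≅ F.functor.obj X := fun X =>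
    { hom := mkHom (e X).toLinearMap
      inv := mkHom (e X).symm.toLinearMap
      hom_inv_id := by
        apply lin_injective
        ext x
        exact (e X).symm_apply_apply x
      inv_hom_id := by
        apply lin_injective
        ext x
        exact (e X).apply_symm_apply x }
  refine ⟨(NatIso.ofComponents ηX ?_).symm⟩
  intro X Y g
  apply lin_injective
  ext x
  show e Y (lin g x) = lin (F.functor.map g) (e X x)
  rw [he, he]
  have hk1 : kk X ≤ max (kk X) (kk Y) := le_max_left _ _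
  have hk2 : kk Y ≤ max (kk X) (kk Y) := le_max_right _ _
  rw [← etaFun_le F.functor t hcompat hk2 Y (hkk Y),
    ← etaFun_le F.functor t hcompat hk1 X (hkk X),
    etaFun_natural F.functor t _ ((hkk X).mono (hmono hk1)) g x]

end Local

end Groth.Agent.Lib.FinLenEquiv_helper6
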