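import Mathlib
import Groth.Agent.Lib.QCEt22_helper7

/-!
# Local freeness of finite flat finitely presented modules, in base change form (helper7)
-/

set_option backward.isDefEq.respectTransparency false
set_option backward.isDefEq.respectTransparency.types false
set_option linter.style.haveILetI false
set_option linter.unusedSectionVars false
set_option linter.unusedVariables false
set_option autoImplicit false
set_option maxHeartbeats 1600000
set_option maxSynthPendingDepth 3

universe u v

open TensorProduct

namespace Groth.Agent.Lib.QCEtH7

section Away

variable {A : Type*} [CommRing A] {P : Type*} [AddCommGroup P] [Module A P]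

/-- a finite flat finitely presented module is free after inverting an element outside a given
prime -/
theorem exists_free_away [Module.Finite A P] [Module.Flat A P] [Module.FinitePresentation A P]
    (p : Ideal A) [hp : p.IsPrime] :
    ∃ r : A, r ∉ p ∧ Module.Free (Localization (Submonoid.powers r))
      (LocalizedModule (Submonoid.powers r) P) := by
  have hx : (⟨p, hp⟩ : PrimeSpectrum A) ∈ Module.freeLocus A P := by
    rw [Module.freeLocus_eq_univ]
    trivial
  haveI : Module.Free (Localization.AtPrime p) (LocalizedModule p.primeCompl P) := hx
  obtain ⟨r, hr, hr', _⟩ := Module.FinitePresentation.exists_free_localizedModule_powers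
    p.primeCompl (LocalizedModule.mkLinearMap p.primeCompl P) (Localization.AtPrime p)
  exact ⟨r, hr, hr'⟩

end Away

section BaseChange

variable {A B : Type*} [CommRing A] [CommRing B] [Algebra A B]
  {P N : Type*} [AddCommGroup P] [Module A P] [AddCommGroup N] [Module A N] [Module B N]
  [IsScalarTower A B N]

/-- a base change to an algebra in which `r` is invertible of a module free away from `r` is
free -/
theorem free_of_isBaseChange_of_isUnit (ρ : P →ₗ[A] N) (hρ : IsBaseChange B ρ) (r : A)
    (hr : IsUnit (algebraMap A B r))
    (hfree : Module.Free (Localization (Submonoid.powers r))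
      (LocalizedModule (Submonoid.powers r) P)) : Module.Free B N := by
  obtain ⟨Ar, hAr⟩ : ∃ Ar : Type _, Ar = Localization (Submonoid.powers r) := ⟨_, rfl⟩
  subst hAr
  have hunits : ∀ y : Submonoid.powers r, IsUnit (algebraMap A B y) := by
    rintro ⟨_, n, rfl⟩
    rw [map_pow]
    exact hr.pow n
  letI algArB : Algebra (Localization (Submonoid.powers r)) B :=
    (IsLocalization.lift (M := Submonoid.powers r) (S := Localization (Submonoid.powers r))
      hunits).toAlgebra
  haveI tower : IsScalarTower A (Localization (Submonoid.powers r)) B :=
    IsScalarTower.of_algebraMap_eq (fun x => by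
      show algebraMap A B x = (IsLocalization.lift hunits) (algebraMap A _ x)
      rw [IsLocalization.lift_eq])
  -- `A_r ⊗ P` is free over `A_r`
  have e1 : Localization (Submonoid.powers r) ⊗[A] P ≃ₗ[Localization (Submonoid.powers r)]
      LocalizedModule (Submonoid.powers r) P :=
    (LocalizedModule.isBaseChange (Submonoid.powers r) P).equiv
  haveI hf1 : Module.Free (Localization (Submonoid.powers r))
      (Localization (Submonoid.powers r) ⊗[A] P) := Module.Free.of_equiv e1.symm
  -- base change to `B`
  haveI hf2 : Module.Free B (B ⊗[Localization (Submonoid.powers r)]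
      (Localization (Submonoid.powers r) ⊗[A] P)) := inferInstance
  have e2 : B ⊗[Localization (Submonoid.powers r)]
      (Localization (Submonoid.powers r) ⊗[A] P) ≃ₗ[B] B ⊗[A] P :=
    TensorProduct.AlgebraTensorModule.cancelBaseChange A
      (Localization (Submonoid.powers r)) B B P
  exact Module.Free.of_equiv (e2.trans hρ.equiv)

theorem finite_of_isBaseChange (ρ : P →ₗ[A] N) (hρ : IsBaseChange B ρ) [Module.Finite A P] :
    Module.Finite B N :=
  Module.Finite.equiv hρ.equiv

end BaseChange

section Along

variable {A B : Type*} [CommRing A] [CommRing B] (φ : A →+* B)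
  {N N' : Type*} [AddCommGroup N] [Module A N] [AddCommGroup N'] [Module B N']

theorem IsBCAlong.free_of_isUnit {ρ : N →+ N'} (h : IsBCAlong φ ρ) (r : A) (hr : IsUnit (φ r))
    (hfree : Module.Free (Localization (Submonoid.powers r))
      (LocalizedModule (Submonoid.powers r) N)) : Module.Free B N' := by
  obtain ⟨hsemi, hb⟩ := h
  letI := φ.toAlgebra
  letI := modAlong φ N'
  haveI := towerAlong φ N'
  have hb' : IsBaseChange B (linAlong φ ρ hsemi) := hb
  exact free_of_isBaseChange_of_isUnit (linAlong φ ρ hsemi) hb' r hr hfree

theorem IsBCAlong.finite {ρ : N →+ N'} (h : IsBCAlong φ ρ) [Module.Finite A N] :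
    Module.Finite B N' := by
  obtain ⟨hsemi, hb⟩ := h
  letI := φ.toAlgebra
  letI := modAlong φ N'
  haveI := towerAlong φ N'
  have hb' : IsBaseChange B (linAlong φ ρ hsemi) := hb
  exact finite_of_isBaseChange (linAlong φ ρ hsemi) hb'

/-- the image of a basis under a base change is linearly independent: a coefficient vector
killed by the images of the basis vanishes -/
theorem IsBCAlong.eq_zero_of_lc_eq_zero {ρ : N →+ N'} (h : IsBCAlong φ ρ) {I : Type*}
    (β : Module.Basis I A N) (x' : I →₀ B)
    (hx' : Finsupp.linearCombination B (fun i => ρ (β i)) x' = 0) : x' = 0 := by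
  have hs : Function.Surjective (Finsupp.linearCombination A (fun i => β i)) := by
    intro n
    exact ⟨β.repr n, β.linearCombination_repr n⟩
  have hT : Submodule.span A (∅ : Set (I →₀ A)) =
      LinearMap.ker (Finsupp.linearCombination A (fun i => β i)) := by
    rw [Submodule.span_empty]
    symm
    exact LinearMap.ker_eq_bot.2 β.linearIndependent
  have h1 := IsBCAlong.mem_span_of_lc_eq_zero φ h (fun i => β i) ∅ hs hT x' hx'
  rw [Set.image_empty, Submodule.span_empty] at h1
  exact (Submodule.mem_bot B).1 h1

end Along

end Groth.Agent.Lib.QCEtH7
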