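import Mathlib
import Groth.Agent.Lib.QCEt21_helper7

/-!
# Sections of a free sheaf of modules of finite rank (helper7)

For a finite index type `I`, the sections of `SheafOfModules.free I` over any object are the
free module on the tautological sections.
-/

set_option backward.isDefEq.respectTransparency false
set_option backward.isDefEq.respectTransparency.types false
set_option linter.style.haveILetI false
set_option linter.unusedSectionVars false
set_option linter.unusedVariables false
set_option autoImplicit false
set_option maxHeartbeats 1600000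
set_option maxSynthPendingDepth 3

universe u v

open CategoryTheory Limits Opposite

namespace Groth.Agent.Lib.QCEtH7

variable {C : Type (v + 1)} [Category.{v} C] {J : GrothendieckTopology C}
  {R : Sheaf J RingCat.{v + 1}}
  [HasSheafify J AddCommGrpCat.{v + 1}] [J.WEqualsLocallyBijective AddCommGrpCat.{v + 1}]

section FreeProj

variable (I : Type (v + 1)) [DecidableEq I]

/-- the coordinate projections of a free sheaf of modules -/
noncomputable def freeProj (j : I) :
    SheafOfModules.free (R := R) I ⟶ SheafOfModules.unit R :=
  Cofan.IsColimit.desc (SheafOfModules.isColimitFreeCofan I)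
    (fun i => if i = j then 𝟙 (SheafOfModules.unit R) else 0)

theorem ιFree_freeProj (i j : I) :
    SheafOfModules.ιFree (R := R) i ≫ freeProj I j =
      if i = j then 𝟙 (SheafOfModules.unit R) else 0 :=
  Cofan.IsColimit.fac (SheafOfModules.isColimitFreeCofan I) _ i

theorem sum_freeProj_ιFree [Fintype I] :
    ∑ j, freeProj (R := R) I j ≫ SheafOfModules.ιFree j =
      𝟙 (SheafOfModules.free (R := R) I) := by
  apply Cofan.IsColimit.hom_ext (SheafOfModules.isColimitFreeCofan I)
  intro i
  show SheafOfModules.ιFree i ≫ _ = SheafOfModules.ιFree i ≫ 𝟙 _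
  rw [Preadditive.comp_sum, Category.comp_id, Finset.sum_eq_single i]
  · rw [← Category.assoc, ιFree_freeProj, if_pos rfl, Category.id_comp]
  · intro j _ hj
    rw [← Category.assoc, ιFree_freeProj, if_neg (Ne.symm hj), zero_comp]
  · intro h
    exact absurd (Finset.mem_univ i) h

end FreeProj

section Elements

variable (I : Type (v + 1)) [DecidableEq I]

/-- evaluation of morphisms of sheaves of modules on sections, as an additive map -/
noncomputable def appHom (A B : SheafOfModules.{v + 1} R) (U : Cᵒᵖ) :
    (A ⟶ B) →+ (A.val.obj U →ₗ[R.obj.obj U] B.val.obj U) where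
  toFun φ := (φ.val.app U).hom
  map_zero' := rfl
  map_add' f g := rfl

theorem appHom_apply (A B : SheafOfModules.{v + 1} R) (U : Cᵒᵖ) (φ : A ⟶ B) :
    appHom A B U φ = (φ.val.app U).hom := rfl

theorem ιFree_app_apply (j : I) (U : Cᵒᵖ) (a : R.obj.obj U) :
    ((SheafOfModules.ιFree (R := R) j).val.app U).hom a =
      a • secAt (SheafOfModules.free (R := R) I) SheafOfModules.freeSection U j := by
  have h1 : secAt (SheafOfModules.free (R := R) I) SheafOfModules.freeSection U j =
      ((SheafOfModules.ιFree (R := R) j).val.app U).hom (1 : R.obj.obj U) := by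
    show ((SheafOfModules.ιFree (R := R) j ≫ 𝟙 _).val.app U).hom (1 : R.obj.obj U) = _
    rw [Category.comp_id]
  rw [h1]
  have h2 := (((SheafOfModules.ιFree (R := R) j).val.app U).hom).map_smul a (1 : R.obj.obj U)
  have h3 : a • (1 : R.obj.obj U) = a := mul_one a
  rw [← h2]
  exact congrArg _ h3.symm

/-- the coordinates of a section of a free sheaf of modules -/
noncomputable def freeCoord (j : I) (U : Cᵒᵖ)
    (y : (SheafOfModules.free (R := R) I).val.obj U) : R.obj.obj U :=
  ((freeProj (R := R) I j).val.app U).hom y

theorem freeCoord_lcOf (j : I) (U : Cᵒᵖ) (x : I →₀ R.obj.obj U) :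
    freeCoord I j U (lcOf (SheafOfModules.free (R := R) I) SheafOfModules.freeSection U x) =
      x j := by
  unfold freeCoord
  rw [app_lcOf]
  have h1 : ∀ i, (SheafOfModules.sectionsMap (freeProj (R := R) I j)
      (SheafOfModules.freeSection i)).val U = if i = j then (1 : R.obj.obj U) else 0 := by
    intro i
    show ((SheafOfModules.ιFree (R := R) i ≫ 𝟙 _ ≫ freeProj (R := R) I j).val.app U).hom
      (1 : R.obj.obj U) = _
    rw [Category.id_comp, ιFree_freeProj]
    by_cases hij : i = j
    · rw [if_pos hij, if_pos hij]
      rfl
    · rw [if_neg hij, if_neg hij]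
      rfl
  unfold lcOf
  rw [Finsupp.linearCombination_apply, Finsupp.sum]
  have h2 : ∀ i ∈ x.support, x i • secAt (SheafOfModules.unit R)
      (fun k => SheafOfModules.sectionsMap (freeProj (R := R) I j)
        (SheafOfModules.freeSection k)) U i = if i = j then x j else 0 := by
    intro i _
    have h1' : secAt (SheafOfModules.unit R)
        (fun k => SheafOfModules.sectionsMap (freeProj (R := R) I j)
          (SheafOfModules.freeSection k)) U i = if i = j then (1 : R.obj.obj U) else 0 := h1 i
    rw [h1']
    by_cases hij : i = j
    · rw [if_pos hij, if_pos hij, hij]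
      exact mul_one (x j : R.obj.obj U)
    · rw [if_neg hij, if_neg hij]
      exact mul_zero (x i : R.obj.obj U)
  rw [Finset.sum_congr rfl h2, Finset.sum_ite_eq']
  by_cases hj : j ∈ x.support
  · rw [if_pos hj]
  · rw [if_neg hj]
    exact (Finsupp.notMem_support_iff.1 hj).symm

theorem eq_sum_freeCoord [Fintype I] (U : Cᵒᵖ)
    (y : (SheafOfModules.free (R := R) I).val.obj U) :
    y = ∑ j, freeCoord I j U y •
      secAt (SheafOfModules.free (R := R) I) SheafOfModules.freeSection U j := by
  have h0 := congrArg (fun φ => appHom (SheafOfModules.free (R := R) I)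
    (SheafOfModules.free (R := R) I) U φ y) (sum_freeProj_ιFree (R := R) I)
  have h1 : appHom (SheafOfModules.free (R := R) I) (SheafOfModules.free (R := R) I) U
      (∑ j, freeProj (R := R) I j ≫ SheafOfModules.ιFree j) y = y := h0
  rw [map_sum, LinearMap.sum_apply] at h1
  refine h1.symm.trans ?_
  apply Finset.sum_congr rfl
  intro j _
  exact ιFree_app_apply I j U (freeCoord I j U y)

/-- **sections of a free sheaf of modules of finite rank** -/
theorem lcOf_free_bijective [Finite I] (U : Cᵒᵖ) :
    Function.Bijective
      (lcOf (SheafOfModules.free (R := R) I) SheafOfModules.freeSection U) := by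
  haveI := Fintype.ofFinite I
  constructor
  · intro x x' h
    ext j
    rw [← freeCoord_lcOf I j U x, ← freeCoord_lcOf I j U x', h]
  · intro y
    refine ⟨Finsupp.equivFunOnFinite.symm (fun j => freeCoord I j U y), ?_⟩
    unfold lcOf
    rw [Finsupp.linearCombination_apply, Finsupp.sum_fintype]
    · exact (eq_sum_freeCoord I U y).symm
    · intro i
      exact zero_smul _ _

end Elements

end Groth.Agent.Lib.QCEtH7
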