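import Mathlib
import Groth.Agent.Lib.QCEt30_helper7
import Groth.Agent.Lib.AlgSpSep_helper7
import Groth.Agent.Lib.AlgSpQC_helper7

/-!
# Direct images along quasi-compact quasi-separated representable morphisms, I (helper7)

Geometry of the base change of an affine object, finite affine covers of quasi-compact objects of
the small étale site, and the description of sections over a quasi-compact quasi-separated object
as an equalizer.
-/

set_option backward.isDefEq.respectTransparency false
set_option backward.isDefEq.respectTransparency.types false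
set_option linter.style.haveILetI false
set_option linter.unusedSectionVars false
set_option linter.unusedVariables false
set_option autoImplicit false
set_option maxHeartbeats 1600000
set_option maxSynthPendingDepth 3

universe u v

open CategoryTheory Limits Opposite AlgebraicGeometry AlgSp TensorProduct

namespace Groth.Agent.Lib.QCEtH7

open Groth.Agent.Lib.WeakAssEtH7 Groth.Agent.Lib.IdealEtBH7 Groth.Agent.Lib.EtPostcomp_helper7
  Groth.Agent.Lib.EtStalkPt_helper7 Groth.Agent.Lib.AlgSpSep_helper7
  Groth.Agent.Lib.AlgSpQC_helper7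

section Geometry

variable {S : Scheme.{u}} {X Y : Sp S} {f : X ⟶ Y} (hf : Representable f)

theorem quasiCompact_bcπ (hqc : IsQuasiCompactMor f) (E : EtOver Y) :
    QuasiCompact (EtOver.bcπ hf E).left := by
  have h1 := repWith_quasiCompact_of_isQuasiCompactMor f hf hqc
  exact h1.2 E.obj.hom (hf.fst E.obj.hom) (hf.snd E.obj.hom) (hf.isPullback E.obj.hom)

theorem quasiSeparated_bcπ (hqs : IsQuasiSeparatedMor f) (E : EtOver Y) :
    QuasiSeparated (EtOver.bcπ hf E).left := by
  have h1 := (isQuasiSeparatedMor_iff_of_representable f hf).1 hqs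
  exact h1.2 E.obj.hom (hf.fst E.obj.hom) (hf.snd E.obj.hom) (hf.isPullback E.obj.hom)

theorem compactSpace_bc (hqc : IsQuasiCompactMor f) (E : EtOver Y)
    [hE : IsAffine E.obj.left.left] :
    CompactSpace ((EtOver.bc hf).obj E).obj.left.left := by
  haveI := quasiCompact_bcπ hf hqc E
  exact QuasiCompact.compactSpace_of_compactSpace (EtOver.bcπ hf E).left

theorem quasiSeparatedSpace_bc (hqs : IsQuasiSeparatedMor f) (E : EtOver Y)
    [hE : IsAffine E.obj.left.left] :
    QuasiSeparatedSpace ((EtOver.bc hf).obj E).obj.left.left := by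
  haveI := quasiSeparated_bcπ hf hqs E
  exact quasiSeparatedSpace_of_quasiSeparated (EtOver.bcπ hf E).left

end Geometry

section Covers

variable {S : Scheme.{u}} {X : Sp S}

/-- a quasi-compact object of the small étale site has a finite cover by affine objects -/
theorem exists_finite_affine_cover (T : EtOver X) [hT : CompactSpace T.obj.left.left] :
    ∃ (n : ℕ) (W : Fin n → EtOver X) (g : ∀ k, W k ⟶ T),
      (∀ k, IsAffine (W k).obj.left.left) ∧
      ∀ x : T.obj.left.left, ∃ k, x ∈ Set.range (g k).hom.left.left := by
  choose W ι hW hι using fun x => exists_affine_piece T x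
  choose z hz using hι
  obtain ⟨O, hO⟩ : ∃ O : T.obj.left.left → Set T.obj.left.left,
      O = fun x => Set.range (ι x).hom.left.left := ⟨_, rfl⟩
  have hOopen : ∀ x, IsOpen (O x) := by
    intro x
    rw [hO]
    haveI : Etale (ι x).hom.left.left := EtOver.etale_left _
    exact (ι x).hom.left.left.isOpenMap.isOpen_range
  have hmem : ∀ x, x ∈ O x := by
    intro x
    rw [hO]
    exact ⟨z x, hz x⟩
  obtain ⟨t, ht⟩ := isCompact_univ.elim_finite_subcover O hOopen
    (fun x _ => Set.mem_iUnion.2 ⟨x, hmem x⟩)
  refine ⟨t.card, fun k => W (t.equivFin.symm k).1, fun k => ι _, fun k => hW _, ?_⟩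
  intro x
  have hx := ht (Set.mem_univ x)
  rw [Set.mem_iUnion₂] at hx
  obtain ⟨x0, hx0, hxO⟩ := hx
  refine ⟨t.equivFin ⟨x0, hx0⟩, ?_⟩
  rw [hO] at hxO
  have h1 : (t.equivFin.symm (t.equivFin ⟨x0, hx0⟩)) = ⟨x0, hx0⟩ := Equiv.symm_apply_apply _ _
  show x ∈ Set.range (ι (t.equivFin.symm (t.equivFin ⟨x0, hx0⟩)).1).hom.left.left
  rw [h1]
  exact hxO

/-- fibre products of quasi-compact objects over a quasi-separated object are quasi-compact -/
theorem compactSpace_pullbackObj {W W' P : EtOver X} (w : W ⟶ P) (w' : W' ⟶ P)
    [hW : CompactSpace W.obj.left.left] [hW' : CompactSpace W'.obj.left.left]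
    [hP : QuasiSeparatedSpace P.obj.left.left] :
    CompactSpace (EtOver.pullbackObj w w').obj.left.left := by
  have hpb := isPullback_scheme w w'
  haveI : QuasiCompact w.hom.left.left := quasiCompact_of_compactSpace _
  haveI : QuasiCompact (EtOver.pullbackSnd w w').hom.left.left :=
    MorphismProperty.of_isPullback (P := @QuasiCompact) hpb this
  exact QuasiCompact.compactSpace_of_compactSpace (EtOver.pullbackSnd w w').hom.left.left

end Covers

section Equalizer

variable {S : Scheme.{u}} {X : Sp S} (M : ModEt X) {P : EtOver X} {K : Type*}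
  (W : K → EtOver X) (w : ∀ k, W k ⟶ P)
  (hcov : ∀ x : P.obj.left.left, ∃ k, x ∈ Set.range (w k).hom.left.left)
  {m : K → K → Type*} (V : ∀ k k', m k k' → EtOver X)
  (c : ∀ k k' (i : m k k'), V k k' i ⟶ EtOver.pullbackObj (w k) (w k'))
  (hcovL : ∀ k k' (z : (EtOver.pullbackObj (w k) (w k')).obj.left.left),
    ∃ i, z ∈ Set.range (c k k' i).hom.left.left)

include hcov hcovL in
/-- gluing of sections along a cover, compatibility being tested on a cover of the overlaps -/
theorem exists_glue_of_overlap_cover (p : ∀ k, Sec M (W k))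
    (hp : ∀ k k' (i : m k k'),
      resAdd M (c k k' i ≫ EtOver.pullbackFst (w k) (w k')) (p k) =
        resAdd M (c k k' i ≫ EtOver.pullbackSnd (w k) (w k')) (p k')) :
    ∃ n : Sec M P, ∀ k, resAdd M (w k) n = p k := by
  apply exists_glue M W w hcov p
  intro k k'
  apply resAdd_injective_of_cover M (V k k') (c k k') (hcovL k k')
  intro i
  rw [← resAdd_comp, ← resAdd_comp]
  exact hp k k' i

end Equalizer

end Groth.Agent.Lib.QCEtH7
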