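import Mathlib
import Groth.Agent.Lib.PushQcqs1_helper7

/-!
# Direct images along quasi-compact quasi-separated representable morphisms, II (helper7)

Sections over objects lying over a base change `bc E`, as modules over the functions on `E`;
base change for an affine piece.
-/

set_option backward.isDefEq.respectTransparency false
set_option backward.isDefEq.respectTransparency.types false
set_option linter.style.haveILetI false
set_option linter.unusedSectionVars false
set_option linter.unusedVariables false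
set_option autoImplicit false
set_option maxHeartbeats 1600000
set_option maxSynthPendingDepth 3

universe u v

open CategoryTheory Limits Opposite AlgebraicGeometry AlgSp TensorProduct

namespace Groth.Agent.Lib.QCEtH7

open Groth.Agent.Lib.WeakAssEtH7 Groth.Agent.Lib.IdealEtBH7 Groth.Agent.Lib.EtPostcomp_helper7
  Groth.Agent.Lib.EtStalkPt_helper7 Groth.Agent.Lib.AlgSpSep_helper7
  Groth.Agent.Lib.AlgSpQC_helper7

section PbMap

variable {S : Scheme.{u}} {X : Sp S} {P P' : EtOver X} (G : P' ⟶ P)

/-- functoriality of the fibre product with `G` in the first variable -/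
noncomputable def pbMap {U₁ U₂ : EtOver X} (h : U₁ ⟶ U₂) (u₁ : U₁ ⟶ P) (u₂ : U₂ ⟶ P)
    (e : h ≫ u₂ = u₁) : EtOver.pullbackObj u₁ G ⟶ EtOver.pullbackObj u₂ G :=
  (EtOver.pullbackIsLimit u₂ G).lift
    (PullbackCone.mk (EtOver.pullbackFst u₁ G ≫ h) (EtOver.pullbackSnd u₁ G) (by
      rw [Category.assoc, e]
      exact EtOver.pullback_condition u₁ G))

theorem pbMap_fst {U₁ U₂ : EtOver X} (h : U₁ ⟶ U₂) (u₁ : U₁ ⟶ P) (u₂ : U₂ ⟶ P)
    (e : h ≫ u₂ = u₁) :
    pbMap G h u₁ u₂ e ≫ EtOver.pullbackFst u₂ G = EtOver.pullbackFst u₁ G ≫ h :=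
  (EtOver.pullbackIsLimit u₂ G).fac _ WalkingCospan.left

theorem pbMap_snd {U₁ U₂ : EtOver X} (h : U₁ ⟶ U₂) (u₁ : U₁ ⟶ P) (u₂ : U₂ ⟶ P)
    (e : h ≫ u₂ = u₁) :
    pbMap G h u₁ u₂ e ≫ EtOver.pullbackSnd u₂ G = EtOver.pullbackSnd u₁ G :=
  (EtOver.pullbackIsLimit u₂ G).fac _ WalkingCospan.right

/-- the base change of a jointly surjective family is jointly surjective -/
theorem cover_pullback_snd {K : Type*} (W : K → EtOver X) (w : ∀ k, W k ⟶ P)
    (hcov : ∀ x : P.obj.left.left, ∃ k, x ∈ Set.range (w k).hom.left.left)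
    (x' : P'.obj.left.left) :
    ∃ k, x' ∈ Set.range (EtOver.pullbackSnd (w k) G).hom.left.left := by
  obtain ⟨k, y, hy⟩ := hcov (G.hom.left.left x')
  obtain ⟨z, hz1, hz2⟩ := exists_point_pullbackObj (w k) G y x' hy
  exact ⟨k, z, hz2⟩

end PbMap

section Over

variable {S : Scheme.{u}} {X Y : Sp S} {f : X ⟶ Y} (hf : Representable f) (M : ModEt X)

/-- the ring map `Rg E → Rg U` for an object `U` over `bc E` -/
noncomputable def ringOver {E : EtOver Y} {U : EtOver X} (u : U ⟶ (EtOver.bc hf).obj E) :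
    Rg E →+* Rg U :=
  (resRing u).comp (bcRg hf E)

theorem ringOver_apply {E : EtOver Y} {U : EtOver X} (u : U ⟶ (EtOver.bc hf).obj E) (a : Rg E) :
    ringOver hf u a = resRing u (bcRg hf E a) := rfl

theorem ringOver_comp {E : EtOver Y} {U₁ U₂ : EtOver X} (h : U₁ ⟶ U₂)
    (u₂ : U₂ ⟶ (EtOver.bc hf).obj E) (a : Rg E) :
    ringOver hf (h ≫ u₂) a = resRing h (ringOver hf u₂ a) := by
  rw [ringOver_apply, ringOver_apply, resRing_comp_apply]

/-- sections of `M` over an object `U` over `bc E`, as a module over the functions on `E` -/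
def SecOver {E : EtOver Y} {U : EtOver X} (u : U ⟶ (EtOver.bc hf).obj E) : Type (u + 1) :=
  Sec M U

noncomputable instance secOverAddCommGroup {E : EtOver Y} {U : EtOver X}
    (u : U ⟶ (EtOver.bc hf).obj E) : AddCommGroup (SecOver hf M u) :=
  inferInstanceAs (AddCommGroup (Sec M U))

noncomputable instance secOverModule {E : EtOver Y} {U : EtOver X}
    (u : U ⟶ (EtOver.bc hf).obj E) : Module (Rg E) (SecOver hf M u) :=
  modAlong (ringOver hf u) (Sec M U)

/-- the underlying section -/
def SecOver.val {E : EtOver Y} {U : EtOver X} {u : U ⟶ (EtOver.bc hf).obj E}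
    (n : SecOver hf M u) : Sec M U := n

theorem secOver_smul {E : EtOver Y} {U : EtOver X} (u : U ⟶ (EtOver.bc hf).obj E) (a : Rg E)
    (n : SecOver hf M u) : (a • n).val = ringOver hf u a • n.val := rfl

/-- restriction from `bc E` to an object over it, linear over the functions on `E` -/
noncomputable def rOver {E : EtOver Y} {U : EtOver X} (u : U ⟶ (EtOver.bc hf).obj E) :
    Sec ((pushModEt hf).obj M) E →ₗ[Rg E] SecOver hf M u where
  toFun n := resAdd M u (ofPush hf M E n)
  map_add' a b := map_add (resAdd M u) (ofPush hf M E a) (ofPush hf M E b)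
  map_smul' a n := by
    show resAdd M u (ofPush hf M E (a • n)) = ringOver hf u a • resAdd M u (ofPush hf M E n)
    rw [smul_push]
    exact resAdd_semi M u _ _

theorem rOver_apply {E : EtOver Y} {U : EtOver X} (u : U ⟶ (EtOver.bc hf).obj E)
    (n : Sec ((pushModEt hf).obj M) E) :
    (rOver hf M u n).val = resAdd M u (ofPush hf M E n) := rfl

/-- restriction between objects over `bc E`, linear over the functions on `E` -/
noncomputable def resOver {E : EtOver Y} {U₁ U₂ : EtOver X} (h : U₁ ⟶ U₂)
    (u₁ : U₁ ⟶ (EtOver.bc hf).obj E) (u₂ : U₂ ⟶ (EtOver.bc hf).obj E) (e : h ≫ u₂ = u₁) :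
    SecOver hf M u₂ →ₗ[Rg E] SecOver hf M u₁ where
  toFun n := resAdd M h n.val
  map_add' a b := map_add (resAdd M h) a.val b.val
  map_smul' a n := by
    show resAdd M h (ringOver hf u₂ a • n.val) = ringOver hf u₁ a • resAdd M h n.val
    rw [resAdd_semi M h, ← e, ringOver_comp]

theorem resOver_apply {E : EtOver Y} {U₁ U₂ : EtOver X} (h : U₁ ⟶ U₂)
    (u₁ : U₁ ⟶ (EtOver.bc hf).obj E) (u₂ : U₂ ⟶ (EtOver.bc hf).obj E) (e : h ≫ u₂ = u₁)
    (n : SecOver hf M u₂) : (resOver hf M h u₁ u₂ e n).val = resAdd M h n.val := rfl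

/-- restriction along the first projection of a base change, as an additive map -/
noncomputable def bcAdd {E' E : EtOver Y} (g : E' ⟶ E) {U : EtOver X}
    (u : U ⟶ (EtOver.bc hf).obj E) :
    SecOver hf M u →+ SecOver hf M (EtOver.pullbackSnd u ((EtOver.bc hf).map g)) :=
  AddMonoidHom.mk' (fun n => resAdd M (EtOver.pullbackFst u ((EtOver.bc hf).map g)) n.val)
    (fun a b => map_add (resAdd M (EtOver.pullbackFst u ((EtOver.bc hf).map g))) a.val b.val)

theorem bcAdd_apply {E' E : EtOver Y} (g : E' ⟶ E) {U : EtOver X}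
    (u : U ⟶ (EtOver.bc hf).obj E) (n : SecOver hf M u) :
    (bcAdd hf M g u n).val = resAdd M (EtOver.pullbackFst u ((EtOver.bc hf).map g)) n.val := rfl

end Over

section Piece

variable {S : Scheme.{u}} {X Y : Sp S} {f : X ⟶ Y} (hf : Representable f) (M : ModEt X)
  {E' E : EtOver Y} (g : E' ⟶ E) {U : EtOver X} (u : U ⟶ (EtOver.bc hf).obj E)

theorem isPullback_piece :
    IsPullback ((EtOver.pullbackSnd u ((EtOver.bc hf).map g)).hom.left.left ≫
        (EtOver.bcπ hf E').left)
      (EtOver.pullbackFst u ((EtOver.bc hf).map g)).hom.left.left g.hom.left.left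
      (u.hom.left.left ≫ (EtOver.bcπ hf E).left) :=
  (isPullback_scheme u ((EtOver.bc hf).map g)).flip.paste_horiz
    (EtOver.isPullback_bcMap_left hf g).flip

theorem isAffine_piece [hE' : IsAffine E'.obj.left.left] [hE : IsAffine E.obj.left.left]
    [hU : IsAffine U.obj.left.left] :
    IsAffine (EtOver.pullbackObj u ((EtOver.bc hf).map g)).obj.left.left := by
  haveI : IsAffineHom g.hom.left.left := inferInstance
  exact IsAffine.of_isPullback (isPullback_piece hf g u).flip

theorem isPO_piece [hE' : IsAffine E'.obj.left.left] [hE : IsAffine E.obj.left.left]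
    [hU : IsAffine U.obj.left.left] :
    IsPO (resRing g) (ringOver hf u)
      (ringOver hf (EtOver.pullbackSnd u ((EtOver.bc hf).map g)))
      (resRing (EtOver.pullbackFst u ((EtOver.bc hf).map g))) := by
  exact isPO_of_isPullback (isPullback_piece hf g u) (resRing g) (fun x => rfl)
    (ringOver hf u) (fun x => rfl)
    (ringOver hf (EtOver.pullbackSnd u ((EtOver.bc hf).map g))) (fun x => rfl)
    (resRing (EtOver.pullbackFst u ((EtOver.bc hf).map g))) (fun x => rfl)

/-- **base change for an affine piece** -/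
theorem bc_piece (hM : HasBC M) [hE' : IsAffine E'.obj.left.left]
    [hE : IsAffine E.obj.left.left] [hU : IsAffine U.obj.left.left] :
    IsBCAlong (resRing g) (bcAdd hf M g u) := by
  haveI h1 := isAffine_piece hf g u
  have h3 := hM _ _ h1 hU (EtOver.pullbackFst u ((EtOver.bc hf).map g))
  exact IsBCAlong.pushout (isPO_piece hf g u)
    (resAdd M (EtOver.pullbackFst u ((EtOver.bc hf).map g))) h3

end Piece

end Groth.Agent.Lib.QCEtH7
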