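import Mathlib
import Groth.Agent.Lib.PushQcqs2_helper7

/-!
# Direct images along quasi-compact quasi-separated representable morphisms, III (helper7)

The direct image of a quasi-coherent module along a representable quasi-compact quasi-separated
morphism of algebraic spaces is quasi-coherent.
-/

set_option backward.isDefEq.respectTransparency false
set_option backward.isDefEq.respectTransparency.types false
set_option linter.style.haveILetI false
set_option linter.unusedSectionVars false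
set_option linter.unusedVariables false
set_option autoImplicit false
set_option maxHeartbeats 1600000
set_option maxSynthPendingDepth 3

universe u v

open CategoryTheory Limits Opposite AlgebraicGeometry AlgSp TensorProduct

namespace Groth.Agent.Lib.QCEtH7

open Groth.Agent.Lib.WeakAssEtH7 Groth.Agent.Lib.IdealEtBH7 Groth.Agent.Lib.EtPostcomp_helper7
  Groth.Agent.Lib.EtStalkPt_helper7 Groth.Agent.Lib.AlgSpSep_helper7
  Groth.Agent.Lib.AlgSpQC_helper7

section Assembly

variable {S : Scheme.{u}} {X Y : Sp S} {f : X ⟶ Y} (hf : Representable f) (M : ModEt X)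
  {E' E : EtOver Y} (g : E' ⟶ E)

/-- the first projection of a piece of an overlap -/
noncomputable def ovA {n : ℕ} {W : Fin n → EtOver X} (w : ∀ k, W k ⟶ (EtOver.bc hf).obj E)
    {m : Fin n → Fin n → ℕ} {V : ∀ k k', Fin (m k k') → EtOver X}
    (c : ∀ k k' (i : Fin (m k k')), V k k' i ⟶ EtOver.pullbackObj (w k) (w k'))
    (l : Σ (k : Fin n) (k' : Fin n), Fin (m k k')) : V l.1 l.2.1 l.2.2 ⟶ W l.1 :=
  c l.1 l.2.1 l.2.2 ≫ EtOver.pullbackFst (w l.1) (w l.2.1)

/-- the second projection of a piece of an overlap -/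
noncomputable def ovB {n : ℕ} {W : Fin n → EtOver X} (w : ∀ k, W k ⟶ (EtOver.bc hf).obj E)
    {m : Fin n → Fin n → ℕ} {V : ∀ k k', Fin (m k k') → EtOver X}
    (c : ∀ k k' (i : Fin (m k k')), V k k' i ⟶ EtOver.pullbackObj (w k) (w k'))
    (l : Σ (k : Fin n) (k' : Fin n), Fin (m k k')) : V l.1 l.2.1 l.2.2 ⟶ W l.2.1 :=
  c l.1 l.2.1 l.2.2 ≫ EtOver.pullbackSnd (w l.1) (w l.2.1)

theorem ovB_w {n : ℕ} {W : Fin n → EtOver X} (w : ∀ k, W k ⟶ (EtOver.bc hf).obj E)
    {m : Fin n → Fin n → ℕ} {V : ∀ k k', Fin (m k k') → EtOver X}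
    (c : ∀ k k' (i : Fin (m k k')), V k k' i ⟶ EtOver.pullbackObj (w k) (w k'))
    (l : Σ (k : Fin n) (k' : Fin n), Fin (m k k')) :
    ovB hf w c l ≫ w l.2.1 = ovA hf w c l ≫ w l.1 := by
  unfold ovA ovB
  rw [Category.assoc, Category.assoc, EtOver.pullback_condition]

theorem ovA_mk {n : ℕ} {W : Fin n → EtOver X} (w : ∀ k, W k ⟶ (EtOver.bc hf).obj E)
    {m : Fin n → Fin n → ℕ} {V : ∀ k k', Fin (m k k') → EtOver X}
    (c : ∀ k k' (i : Fin (m k k')), V k k' i ⟶ EtOver.pullbackObj (w k) (w k'))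
    (k k' : Fin n) (i : Fin (m k k')) :
    ovA hf w c ⟨k, k', i⟩ = c k k' i ≫ EtOver.pullbackFst (w k) (w k') := rfl

theorem ovB_mk {n : ℕ} {W : Fin n → EtOver X} (w : ∀ k, W k ⟶ (EtOver.bc hf).obj E)
    {m : Fin n → Fin n → ℕ} {V : ∀ k k', Fin (m k k') → EtOver X}
    (c : ∀ k k' (i : Fin (m k k')), V k k' i ⟶ EtOver.pullbackObj (w k) (w k'))
    (k k' : Fin n) (i : Fin (m k k')) :
    ovB hf w c ⟨k, k', i⟩ = c k k' i ≫ EtOver.pullbackSnd (w k) (w k') := rfl

/-- base change for the direct image, given a finite affine cover of `bc E` and finite affine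
covers of the overlaps -/
theorem bc_push_of_covers (hM : HasBC M) [hE' : IsAffine E'.obj.left.left]
    [hE : IsAffine E.obj.left.left] {n : ℕ} (W : Fin n → EtOver X)
    (w : ∀ k, W k ⟶ (EtOver.bc hf).obj E) (hW : ∀ k, IsAffine (W k).obj.left.left)
    (hcov : ∀ x : ((EtOver.bc hf).obj E).obj.left.left, ∃ k, x ∈ Set.range (w k).hom.left.left)
    (m : Fin n → Fin n → ℕ) (V : ∀ k k', Fin (m k k') → EtOver X)
    (c : ∀ k k' (i : Fin (m k k')), V k k' i ⟶ EtOver.pullbackObj (w k) (w k'))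
    (hV : ∀ k k' i, IsAffine (V k k' i).obj.left.left)
    (hcovL : ∀ k k' (z : (EtOver.pullbackObj (w k) (w k')).obj.left.left),
      ∃ i, z ∈ Set.range (c k k' i).hom.left.left) :
    BC ((pushModEt hf).obj M) g := by
  obtain ⟨al, hal⟩ : ∃ al, al = ovA hf w c := ⟨_, rfl⟩
  obtain ⟨bl, hbl⟩ : ∃ bl, bl = ovB hf w c := ⟨_, rfl⟩
  have hab : ∀ l, bl l ≫ w l.2.1 = al l ≫ w l.1 := by
    intro l
    rw [hal, hbl]
    exact ovB_w hf w c l
  haveI hWi : ∀ k, IsAffine (W k).obj.left.left := hW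
  haveI hVi : ∀ l : (Σ (k : Fin n) (k' : Fin n), Fin (m k k')),
      IsAffine (V l.1 l.2.1 l.2.2).obj.left.left := fun l => hV _ _ _
  have hinj : ∀ x x' : Sec ((pushModEt hf).obj M) E,
      (∀ k, rOver hf M (w k) x = rOver hf M (w k) x') → x = x' := by
    intro x x' h
    exact resAdd_injective_of_cover M W w hcov (ofPush hf M E x) (ofPush hf M E x')
      (fun k => h k)
  have hcomp : ∀ (l : Σ (k : Fin n) (k' : Fin n), Fin (m k k'))
      (x : Sec ((pushModEt hf).obj M) E),
      resOver hf M (al l) (al l ≫ w l.1) (w l.1) rfl (rOver hf M (w l.1) x) =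
        resOver hf M (bl l) (al l ≫ w l.1) (w l.2.1) (hab l) (rOver hf M (w l.2.1) x) := by
    intro l x
    show resAdd M (al l) (resAdd M (w l.1) (ofPush hf M E x)) =
      resAdd M (bl l) (resAdd M (w l.2.1) (ofPush hf M E x))
    rw [← resAdd_comp, ← resAdd_comp, hab l]
  have hglue : ∀ p : ∀ k, SecOver hf M (w k),
      (∀ l : Σ (k : Fin n) (k' : Fin n), Fin (m k k'),
        resOver hf M (al l) (al l ≫ w l.1) (w l.1) rfl (p l.1) =
          resOver hf M (bl l) (al l ≫ w l.1) (w l.2.1) (hab l) (p l.2.1)) →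
      ∃ x : Sec ((pushModEt hf).obj M) E, ∀ k, rOver hf M (w k) x = p k := by
    intro p hp
    obtain ⟨x, hx⟩ := exists_glue_of_overlap_cover M W w hcov V c hcovL
      (fun k => (p k).val) (fun k k' i => by
        have h := hp ⟨k, k', i⟩
        subst hal hbl
        exact h)
    exact ⟨x, fun k => hx k⟩
  have hinj' : ∀ x x' : Sec ((pushModEt hf).obj M) E',
      (∀ k, rOver hf M (EtOver.pullbackSnd (w k) ((EtOver.bc hf).map g)) x =
        rOver hf M (EtOver.pullbackSnd (w k) ((EtOver.bc hf).map g)) x') → x = x' := by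
    intro x x' h
    exact resAdd_injective_of_cover M
      (fun k => EtOver.pullbackObj (w k) ((EtOver.bc hf).map g))
      (fun k => EtOver.pullbackSnd (w k) ((EtOver.bc hf).map g))
      (cover_pullback_snd ((EtOver.bc hf).map g) W w hcov)
      (ofPush hf M E' x) (ofPush hf M E' x') (fun k => h k)
  have hcomp' : ∀ (l : Σ (k : Fin n) (k' : Fin n), Fin (m k k'))
      (x : Sec ((pushModEt hf).obj M) E'),
      resOver hf M (pbMap ((EtOver.bc hf).map g) (al l) (al l ≫ w l.1) (w l.1) rfl)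
        (EtOver.pullbackSnd (al l ≫ w l.1) ((EtOver.bc hf).map g))
        (EtOver.pullbackSnd (w l.1) ((EtOver.bc hf).map g))
        (pbMap_snd ((EtOver.bc hf).map g) (al l) (al l ≫ w l.1) (w l.1) rfl)
        (rOver hf M (EtOver.pullbackSnd (w l.1) ((EtOver.bc hf).map g)) x) =
      resOver hf M (pbMap ((EtOver.bc hf).map g) (bl l) (al l ≫ w l.1) (w l.2.1) (hab l))
        (EtOver.pullbackSnd (al l ≫ w l.1) ((EtOver.bc hf).map g))
        (EtOver.pullbackSnd (w l.2.1) ((EtOver.bc hf).map g))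
        (pbMap_snd ((EtOver.bc hf).map g) (bl l) (al l ≫ w l.1) (w l.2.1) (hab l))
        (rOver hf M (EtOver.pullbackSnd (w l.2.1) ((EtOver.bc hf).map g)) x) := by
    intro l x
    show resAdd M (pbMap ((EtOver.bc hf).map g) (al l) (al l ≫ w l.1) (w l.1) rfl)
        (resAdd M (EtOver.pullbackSnd (w l.1) ((EtOver.bc hf).map g)) (ofPush hf M E' x)) =
      resAdd M (pbMap ((EtOver.bc hf).map g) (bl l) (al l ≫ w l.1) (w l.2.1) (hab l))
        (resAdd M (EtOver.pullbackSnd (w l.2.1) ((EtOver.bc hf).map g)) (ofPush hf M E' x))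
    rw [← resAdd_comp, ← resAdd_comp, pbMap_snd, pbMap_snd]
  have h1 : ∀ (k : Fin n) (x : Sec ((pushModEt hf).obj M) E),
      rOver hf M (EtOver.pullbackSnd (w k) ((EtOver.bc hf).map g))
        (resAdd ((pushModEt hf).obj M) g x) = bcAdd hf M g (w k) (rOver hf M (w k) x) := by
    intro k x
    show resAdd M (EtOver.pullbackSnd (w k) ((EtOver.bc hf).map g))
        (resAdd M ((EtOver.bc hf).map g) (ofPush hf M E x)) =
      resAdd M (EtOver.pullbackFst (w k) ((EtOver.bc hf).map g))
        (resAdd M (w k) (ofPush hf M E x))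
    rw [← resAdd_comp, ← resAdd_comp, EtOver.pullback_condition]
  have h21 : ∀ (l : Σ (k : Fin n) (k' : Fin n), Fin (m k k')) (p : SecOver hf M (w l.1)),
      resOver hf M (pbMap ((EtOver.bc hf).map g) (al l) (al l ≫ w l.1) (w l.1) rfl)
        (EtOver.pullbackSnd (al l ≫ w l.1) ((EtOver.bc hf).map g))
        (EtOver.pullbackSnd (w l.1) ((EtOver.bc hf).map g))
        (pbMap_snd ((EtOver.bc hf).map g) (al l) (al l ≫ w l.1) (w l.1) rfl)
        (bcAdd hf M g (w l.1) p) =
      bcAdd hf M g (al l ≫ w l.1) (resOver hf M (al l) (al l ≫ w l.1) (w l.1) rfl p) := by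
    intro l p
    show resAdd M (pbMap ((EtOver.bc hf).map g) (al l) (al l ≫ w l.1) (w l.1) rfl)
        (resAdd M (EtOver.pullbackFst (w l.1) ((EtOver.bc hf).map g)) p.val) =
      resAdd M (EtOver.pullbackFst (al l ≫ w l.1) ((EtOver.bc hf).map g))
        (resAdd M (al l) p.val)
    rw [← resAdd_comp, ← resAdd_comp, pbMap_fst]
  have h22 : ∀ (l : Σ (k : Fin n) (k' : Fin n), Fin (m k k')) (p : SecOver hf M (w l.2.1)),
      resOver hf M (pbMap ((EtOver.bc hf).map g) (bl l) (al l ≫ w l.1) (w l.2.1) (hab l))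
        (EtOver.pullbackSnd (al l ≫ w l.1) ((EtOver.bc hf).map g))
        (EtOver.pullbackSnd (w l.2.1) ((EtOver.bc hf).map g))
        (pbMap_snd ((EtOver.bc hf).map g) (bl l) (al l ≫ w l.1) (w l.2.1) (hab l))
        (bcAdd hf M g (w l.2.1) p) =
      bcAdd hf M g (al l ≫ w l.1)
        (resOver hf M (bl l) (al l ≫ w l.1) (w l.2.1) (hab l) p) := by
    intro l p
    show resAdd M (pbMap ((EtOver.bc hf).map g) (bl l) (al l ≫ w l.1) (w l.2.1) (hab l))
        (resAdd M (EtOver.pullbackFst (w l.2.1) ((EtOver.bc hf).map g)) p.val) =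
      resAdd M (EtOver.pullbackFst (al l ≫ w l.1) ((EtOver.bc hf).map g))
        (resAdd M (bl l) p.val)
    rw [← resAdd_comp, ← resAdd_comp, pbMap_fst]
  have hbk : ∀ k, IsBCAlong (resRing g) (bcAdd hf M g (w k)) :=
    fun k => bc_piece hf M g (w k) hM
  have hbl' : ∀ l : Σ (k : Fin n) (k' : Fin n), Fin (m k k'),
      IsBCAlong (resRing g) (bcAdd hf M g (al l ≫ w l.1)) :=
    fun l => bc_piece hf M g (al l ≫ w l.1) hM
  exact IsBCAlong.of_cover (resRing g) (flat_resRing g)
    (K := Fin n) (L := Σ (k : Fin n) (k' : Fin n), Fin (m k k'))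
    (fun l => l.1) (fun l => l.2.1)
    (N := Sec ((pushModEt hf).obj M) E) (N' := Sec ((pushModEt hf).obj M) E')
    (Nk := fun k => SecOver hf M (w k))
    (N'k := fun k => SecOver hf M (EtOver.pullbackSnd (w k) ((EtOver.bc hf).map g)))
    (Nl := fun l => SecOver hf M (al l ≫ w l.1))
    (N'l := fun l => SecOver hf M (EtOver.pullbackSnd (al l ≫ w l.1) ((EtOver.bc hf).map g)))
    (fun k => rOver hf M (w k))
    (fun l => resOver hf M (al l) (al l ≫ w l.1) (w l.1) rfl)
    (fun l => resOver hf M (bl l) (al l ≫ w l.1) (w l.2.1) (hab l))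
    (fun k => rOver hf M (EtOver.pullbackSnd (w k) ((EtOver.bc hf).map g)))
    (fun l => resOver hf M (pbMap ((EtOver.bc hf).map g) (al l) (al l ≫ w l.1) (w l.1) rfl)
      (EtOver.pullbackSnd (al l ≫ w l.1) ((EtOver.bc hf).map g))
      (EtOver.pullbackSnd (w l.1) ((EtOver.bc hf).map g))
      (pbMap_snd ((EtOver.bc hf).map g) (al l) (al l ≫ w l.1) (w l.1) rfl))
    (fun l => resOver hf M (pbMap ((EtOver.bc hf).map g) (bl l) (al l ≫ w l.1) (w l.2.1) (hab l))
      (EtOver.pullbackSnd (al l ≫ w l.1) ((EtOver.bc hf).map g))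
      (EtOver.pullbackSnd (w l.2.1) ((EtOver.bc hf).map g))
      (pbMap_snd ((EtOver.bc hf).map g) (bl l) (al l ≫ w l.1) (w l.2.1) (hab l)))
    hinj hcomp hglue hinj' hcomp'
    (resAdd ((pushModEt hf).obj M) g) (resAdd_semi ((pushModEt hf).obj M) g)
    (fun k => bcAdd hf M g (w k))
    (fun l => bcAdd hf M g (al l ≫ w l.1))
    h1 h21 h22 hbk hbl'

end Assembly

section Main

variable {S : Scheme.{u}} {X Y : Sp S} {f : X ⟶ Y} (hf : Representable f)

/-- **base change for the direct image along a representable qcqs morphism** -/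
theorem hasBC_push_qcqs (hqc : IsQuasiCompactMor f) (hqs : IsQuasiSeparatedMor f) (M : ModEt X)
    (hM : HasBC M) : HasBC ((pushModEt hf).obj M) := by
  intro E' E hE' hE g
  haveI := hE'
  haveI := hE
  haveI hPc : CompactSpace ((EtOver.bc hf).obj E).obj.left.left := compactSpace_bc hf hqc E
  haveI hPq : QuasiSeparatedSpace ((EtOver.bc hf).obj E).obj.left.left :=
    quasiSeparatedSpace_bc hf hqs E
  obtain ⟨n, W, w, hW, hcov⟩ := exists_finite_affine_cover ((EtOver.bc hf).obj E)
  have hcompact : ∀ k k', CompactSpace (EtOver.pullbackObj (w k) (w k')).obj.left.left := by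
    intro k k'
    haveI := hW k
    haveI := hW k'
    exact compactSpace_pullbackObj (w k) (w k')
  choose m V c hV hcovL using fun k k' =>
    @exists_finite_affine_cover _ _ (EtOver.pullbackObj (w k) (w k')) (hcompact k k')
  exact bc_push_of_covers hf M g hM W w hW hcov m V c hV hcovL

/-- the direct image of a quasi-coherent module along a representable quasi-compact
quasi-separated morphism of algebraic spaces is quasi-coherent -/
theorem isQuasicoherent_push_of_qcqs (hqc : IsQuasiCompactMor f) (hqs : IsQuasiSeparatedMor f)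
    (hX : IsAlgSpace X) (M : ModEt X) [M.IsQuasicoherent] :
    ((pushModEt hf).obj M).IsQuasicoherent :=
  isQuasicoherent_of_hasBC _ (hasBC_push_qcqs hf hqc hqs M (hasBC_of_qc hX M))

/-- **S10002** -/
theorem main10002 {S' : Scheme.{u}} {X Y : AlgSp.Space S'} (f : X ⟶ Y)
    (hf : AlgSp.Representable f.hom) (hqc : AlgSp.IsQuasiCompactMor f.hom)
    (hqs : AlgSp.IsQuasiSeparatedMor f.hom) (F : AlgSp.ModEt X.obj) [F.IsQuasicoherent] :
    ((AlgSp.pushModEt hf).obj F).IsQuasicoherent :=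
  isQuasicoherent_push_of_qcqs hf hqc hqs X.property F

end Main

end Groth.Agent.Lib.QCEtH7
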