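import Mathlib
import Groth.Agent.Lib.PushQcqs3_helper7
import Groth.Agent.Lib.FreeSec_helper7
import Groth.Agent.Lib.FinLocFreeAlg_helper7

/-!
# Finite locally free morphisms and the direct image of the structure sheaf, I (helper7)

Sections of `f_* O_X` over an affine object, and the translation between module-theoretic
properties of these sections and properties of the base change of `f`.
-/

set_option backward.isDefEq.respectTransparency false
set_option backward.isDefEq.respectTransparency.types false
set_option linter.style.haveILetI false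
set_option linter.unusedSectionVars false
set_option linter.unusedVariables false
set_option autoImplicit false
set_option maxHeartbeats 1600000
set_option maxSynthPendingDepth 3

universe u v

open CategoryTheory Limits Opposite AlgebraicGeometry AlgSp TensorProduct

namespace Groth.Agent.Lib.QCEtH7

open Groth.Agent.Lib.WeakAssEtH7 Groth.Agent.Lib.IdealEtBH7 Groth.Agent.Lib.EtPostcomp_helper7
  Groth.Agent.Lib.EtStalkPt_helper7

section UnitSections

variable {S : Scheme.{u}} {X Y : Sp S} {f : X ⟶ Y} (hf : Representable f)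

/-- `f_* O_X` -/
noncomputable abbrev pushUnit : ModEt Y := (pushModEt hf).obj (unitModEt X)

/-- sections of `f_* O_X` over `E` are the functions on the base change of `E` -/
noncomputable def secPushUnitEquiv (E : EtOver Y) :
    @LinearEquiv (Rg E) (Rg E) _ _ (RingHom.id _) (RingHom.id _) _ _
      (Sec (pushUnit hf) E) (Rg ((EtOver.bc hf).obj E)) _ _ _
      (bcRg hf E).toAlgebra.toModule :=
  @LinearEquiv.mk (Rg E) (Rg E) _ _ (RingHom.id _) (RingHom.id _) _ _
      (Sec (pushUnit hf) E) (Rg ((EtOver.bc hf).obj E)) _ _ _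
      (bcRg hf E).toAlgebra.toModule
    (@LinearMap.mk (Rg E) (Rg E) _ _ (RingHom.id _)
      (Sec (pushUnit hf) E) (Rg ((EtOver.bc hf).obj E)) _ _ _
      (bcRg hf E).toAlgebra.toModule
      ⟨fun m => m, fun a b => rfl⟩ (fun a m => rfl))
    (fun m => m) (fun m => rfl) (fun m => rfl)

theorem hasBC_unit (X' : Sp S) : HasBC (unitModEt X') := by
  intro E' E hE' hE g
  refine ⟨resAdd_semi (unitModEt X') g, ?_⟩
  letI := (resRing g).toAlgebra
  exact IsBaseChange.linearMap (R := Rg E) (S := Rg E')

instance isQuasicoherent_unit (X' : Sp S) : (unitModEt X').IsQuasicoherent :=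
  isQuasicoherent_of_hasBC _ (hasBC_unit X')

end UnitSections

section RingSide

variable {S : Scheme.{u}} {X Y : Sp S} {f : X ⟶ Y} (hf : Representable f)

theorem bcRg_eq (E : EtOver Y) :
    bcRg hf E = ((ULift.ringEquiv.{u, u + 1}
      (R := Γ(((EtOver.bc hf).obj E).obj.left.left, ⊤))).symm.toRingHom.comp
        (EtOver.bcπ hf E).left.appTop.hom).comp
      (ULift.ringEquiv.{u, u + 1} (R := Γ(E.obj.left.left, ⊤))).toRingHom := by
  apply RingHom.ext
  intro x
  rfl

theorem appTop_eq (E : EtOver Y) :
    (EtOver.bcπ hf E).left.appTop.hom = ((ULift.ringEquiv.{u, u + 1}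
      (R := Γ(((EtOver.bc hf).obj E).obj.left.left, ⊤))).toRingHom.comp (bcRg hf E)).comp
      (ULift.ringEquiv.{u, u + 1} (R := Γ(E.obj.left.left, ⊤))).symm.toRingHom := by
  apply RingHom.ext
  intro x
  rfl

variable (haff : IsAffineMor f)

include haff in
/-- if the sections of `f_* O_X` over an affine object form a finite free module, the base change
of `f` to that object is finite locally free -/
theorem finLocFree_bcπ_of_free (E : EtOver Y) [hE : IsAffine E.obj.left.left]
    (hfree : Module.Free (Rg E) (Sec (pushUnit hf) E))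
    (hfin : Module.Finite (Rg E) (Sec (pushUnit hf) E)) :
    finLocFree (EtOver.bcπ hf E).left := by
  haveI hP := isAffine_bc hf haff E
  haveI hP' : IsAffine (EtOver.bcObj hf E).obj.left.left := hP
  letI alg : Algebra (Rg E) (Rg ((EtOver.bc hf).obj E)) := (bcRg hf E).toAlgebra
  haveI h1 : Module.Free (Rg E) (Rg ((EtOver.bc hf).obj E)) :=
    Module.Free.of_equiv (secPushUnitEquiv hf E)
  haveI h2 : Module.Finite (Rg E) (Rg ((EtOver.bc hf).obj E)) :=
    Module.Finite.equiv (secPushUnitEquiv hf E)
  have hFin : (bcRg hf E).Finite := h2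
  have hFlat : (bcRg hf E).Flat := (inferInstance : Module.Flat (Rg E) (Rg ((EtOver.bc hf).obj E)))
  have hFP : (bcRg hf E).FinitePresentation := by
    haveI : Module.FinitePresentation (Rg E) (Rg ((EtOver.bc hf).obj E)) :=
      Module.finitePresentation_of_projective _ _
    exact (inferInstance : Algebra.FinitePresentation (Rg E) (Rg ((EtOver.bc hf).obj E)))
  have hb1 := (ULift.ringEquiv.{u, u + 1}
    (R := Γ(((EtOver.bc hf).obj E).obj.left.left, ⊤))).bijective
  have hb2 := (ULift.ringEquiv.{u, u + 1} (R := Γ(E.obj.left.left, ⊤))).symm.bijective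
  have hFin' : (EtOver.bcπ hf E).left.appTop.hom.Finite := by
    rw [appTop_eq]
    exact ((RingHom.Finite.of_surjective _ hb1.2).comp hFin).comp
      (RingHom.Finite.of_surjective _ hb2.2)
  have hFlat' : (EtOver.bcπ hf E).left.appTop.hom.Flat := by
    rw [appTop_eq]
    apply RingHom.Flat.comp
    · exact RingHom.Flat.of_bijective (ULift.ringEquiv).symm.bijective
    · apply RingHom.Flat.comp hFlat
      exact RingHom.Flat.of_bijective (ULift.ringEquiv).bijective
  have hFP' : (EtOver.bcπ hf E).left.appTop.hom.FinitePresentation := by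
    rw [appTop_eq]
    exact ((RingHom.FinitePresentation.of_bijective hb1).comp hFP).comp
      (RingHom.FinitePresentation.of_bijective hb2)
  refine ⟨?_, ?_, ?_⟩
  · exact (HasAffineProperty.iff_of_isAffine (P := @IsFinite)).2 ⟨hP, hFin'⟩
  · exact (HasRingHomProperty.iff_of_isAffine (P := @Flat)).2 hFlat'
  · exact (HasRingHomProperty.iff_of_isAffine (P := @LocallyOfFinitePresentation)).2 hFP'

/-- module-theoretic consequences of finite local freeness of the base change -/
theorem finite_flat_fp_of_finLocFree (E : EtOver Y) [hE : IsAffine E.obj.left.left]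
    (h : finLocFree (EtOver.bcπ hf E).left) :
    Module.Finite (Rg E) (Sec (pushUnit hf) E) ∧ Module.Flat (Rg E) (Sec (pushUnit hf) E) ∧
      Module.FinitePresentation (Rg E) (Sec (pushUnit hf) E) := by
  obtain ⟨h1, h2, h3⟩ := h
  haveI : IsFinite (EtOver.bcπ hf E).left := h1
  haveI hP : IsAffine (EtOver.bcObj hf E).obj.left.left :=
    isAffine_of_isAffineHom (EtOver.bcπ hf E).left
  have hFin' := ((HasAffineProperty.iff_of_isAffine (P := @IsFinite)).1 h1).2
  have hFlat' := (HasRingHomProperty.iff_of_isAffine (P := @Flat)).1 h2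
  have hFP' := (HasRingHomProperty.iff_of_isAffine (P := @LocallyOfFinitePresentation)).1 h3
  have hb1 := (ULift.ringEquiv.{u, u + 1}
    (R := Γ(((EtOver.bc hf).obj E).obj.left.left, ⊤))).symm.bijective
  have hb2 := (ULift.ringEquiv.{u, u + 1} (R := Γ(E.obj.left.left, ⊤))).bijective
  have hFin : (bcRg hf E).Finite := by
    rw [bcRg_eq]
    exact ((RingHom.Finite.of_surjective _ hb1.2).comp hFin').comp
      (RingHom.Finite.of_surjective _ hb2.2)
  have hFlat : (bcRg hf E).Flat := by
    rw [bcRg_eq]
    apply RingHom.Flat.comp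
    · exact RingHom.Flat.of_bijective (ULift.ringEquiv).bijective
    · apply RingHom.Flat.comp hFlat'
      exact RingHom.Flat.of_bijective (ULift.ringEquiv).symm.bijective
  have hFP : (bcRg hf E).FinitePresentation := by
    rw [bcRg_eq]
    exact ((RingHom.FinitePresentation.of_bijective hb1).comp hFP').comp
      (RingHom.FinitePresentation.of_bijective hb2)
  letI alg : Algebra (Rg E) (Rg ((EtOver.bc hf).obj E)) := (bcRg hf E).toAlgebra
  haveI i1 : Module.Finite (Rg E) (Rg ((EtOver.bc hf).obj E)) := hFin
  haveI i2 : Module.Flat (Rg E) (Rg ((EtOver.bc hf).obj E)) := hFlat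
  haveI i3 : Algebra.FinitePresentation (Rg E) (Rg ((EtOver.bc hf).obj E)) := hFP
  haveI i4 : Module.FinitePresentation (Rg E) (Rg ((EtOver.bc hf).obj E)) :=
    Module.FinitePresentation.of_finite_of_finitePresentation _ _
  exact ⟨Module.Finite.equiv (secPushUnitEquiv hf E).symm,
    Module.Flat.of_linearEquiv (secPushUnitEquiv hf E),
    Module.FinitePresentation.of_equiv (secPushUnitEquiv hf E).symm⟩

/-- around every point of an affine object over which the base change of `f` is finite locally
free there is an affine open piece over which `f_* O_X` has a finite free module of sections -/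
theorem exists_free_nbhd (hbc : HasBC (pushUnit hf)) (E : EtOver Y)
    [hE : IsAffine E.obj.left.left] (h : finLocFree (EtOver.bcπ hf E).left)
    (e : E.obj.left.left) :
    ∃ (D : EtOver Y) (b : D ⟶ E), IsAffine D.obj.left.left ∧ e ∈ Set.range b.hom.left.left ∧
      Module.Free (Rg D) (Sec (pushUnit hf) D) ∧ Module.Finite (Rg D) (Sec (pushUnit hf) D) := by
  obtain ⟨i1, i2, i3⟩ := finite_flat_fp_of_finLocFree hf E h
  haveI := i1
  haveI := i2
  haveI := i3
  obtain ⟨r, hr, hfree⟩ := exists_free_away (A := Rg E) (P := Sec (pushUnit hf) E) (primeUp E e)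
  have he : e ∈ E.obj.left.left.basicOpen r.down := by
    by_contra hne
    exact hr ((mem_primeUp_iff E e r).2 ((mem_primeAtPt_iff _ e r.down).2 hne))
  obtain ⟨V, hV⟩ : ∃ V : E.obj.left.left.Opens, V = E.obj.left.left.basicOpen r.down := ⟨_, rfl⟩
  have hVaff : IsAffineOpen V := by
    rw [hV]
    exact (isAffineOpen_top E.obj.left.left).basicOpen r.down
  obtain ⟨D, hD⟩ : ∃ D : EtOver Y, D = chartOpen E.obj.hom E.property V := ⟨_, rfl⟩
  obtain ⟨b, hb⟩ : ∃ b : D ⟶ E, b.hom.left.left = (hD ▸ V.ι : D.obj.left.left ⟶ E.obj.left.left) := by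
    subst hD
    exact ⟨EtOver.homMk (openι E.obj.left V) rfl, rfl⟩
  have hDaff : IsAffine D.obj.left.left := by
    subst hD
    exact hVaff
  have hrange : Set.range b.hom.left.left = (V : Set E.obj.left.left) := by
    subst hD
    rw [hb]
    exact Scheme.Opens.range_ι V
  haveI := hDaff
  have hunit : IsUnit (resRing b r) := by
    apply Groth.Agent.Lib.EtLocRinged_helper7.isUnit_map_of_range_subset b r
    rw [hrange, hV]
  have hBC := hbc D E hDaff hE b
  refine ⟨D, b, hDaff, ?_, IsBCAlong.free_of_isUnit (resRing b) hBC r hunit hfree,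
    IsBCAlong.finite (resRing b) hBC⟩
  rw [hrange, hV]
  exact he

end RingSide

end Groth.Agent.Lib.QCEtH7
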