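import Mathlib
import Groth.Agent.Lib.FinLocFree1_helper7

/-!
# Finite locally free morphisms and the direct image of the structure sheaf, II (helper7)

If `f` is finite locally free then `f_* O_X` is a finite locally free `O_Y`-module.
-/

set_option backward.isDefEq.respectTransparency false
set_option backward.isDefEq.respectTransparency.types false
set_option linter.style.haveILetI false
set_option linter.unusedSectionVars false
set_option linter.unusedVariables false
set_option autoImplicit false
set_option maxHeartbeats 1600000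
set_option maxSynthPendingDepth 3

universe u v

open CategoryTheory Limits Opposite AlgebraicGeometry AlgSp TensorProduct

namespace Groth.Agent.Lib.QCEtH7

open Groth.Agent.Lib.WeakAssEtH7 Groth.Agent.Lib.IdealEtBH7 Groth.Agent.Lib.EtPostcomp_helper7
  Groth.Agent.Lib.EtStalkPt_helper7

section Basis

variable {S : Scheme.{u}} {X : Sp S} (M : ModEt X)

theorem isZero_free_pempty {C : Type (v + 1)} [Category.{v} C] {J : GrothendieckTopology C}
    {R : Sheaf J RingCat.{v + 1}}
    [HasSheafify J AddCommGrpCat.{v + 1}] [J.WEqualsLocallyBijective AddCommGrpCat.{v + 1}] :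
    IsZero (SheafOfModules.free (R := R) PEmpty.{v + 2}) := by
  rw [IsZero.iff_id_eq_zero]
  apply Cofan.IsColimit.hom_ext (SheafOfModules.isColimitFreeCofan PEmpty.{v + 2})
  intro i
  exact i.elim

/-- the morphism from a free module defined by a basis of the sections over an affine object of a
module with base change is a monomorphism -/
theorem mono_gsec_of_basis (hbc : HasBC M) (E : EtOver X) [hE : IsAffine E.obj.left.left]
    {I : Type (u + 1)} (β : Module.Basis I (Rg E) (Sec M E)) :
    Mono ((M.over E).freeHomEquiv.symm (fun i => gsec M E (β i))) := by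
  obtain ⟨r, hr⟩ : ∃ r : PEmpty.{u + 2} → (I →₀ Rg E), r = fun k => k.elim := ⟨_, rfl⟩
  obtain ⟨rs, hrs⟩ := exists_relSec' M E (fun i => β i) r (fun k => k.elim)
  have hrel : LocalRel M E (fun i => β i) r := by
    intro W hW b x hx pt
    refine ⟨W, 𝟙 W, hW, ⟨pt, rfl⟩, ?_⟩
    have hx0 : x = 0 := IsBCAlong.eq_zero_of_lc_eq_zero (resRing b) (hbc W E hW hE b) β x hx
    rw [hx0]
    have h0 : mapH (resRing (𝟙 W)) (0 : I →₀ Rg W) = 0 := by
      ext i
      rw [mapH_apply]
      exact map_zero _
    rw [h0]
    exact Submodule.zero_mem _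
  have hepi2 : Epi ((kernel ((M.over E).freeHomEquiv.symm
      (fun i => gsec M E (β i)))).freeHomEquiv.symm rs) :=
    epi_kernel_of_relSieve_mem (M.over E) (fun i => gsec M E (β i)) rs
      (fun U x hx => relSieve_mem_of_local M E (fun i => β i) r rs hrs hrel U x hx)
  have hk : IsZero (kernel ((M.over E).freeHomEquiv.symm (fun i => gsec M E (β i)))) :=
    @IsZero.of_epi _ _ _ _ _ ((kernel ((M.over E).freeHomEquiv.symm
      (fun i => gsec M E (β i)))).freeHomEquiv.symm rs) hepi2 isZero_free_pempty
  apply Preadditive.mono_of_kernel_zero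
  exact hk.eq_of_src _ _

/-- the morphism from a free module defined by a basis of the sections over an affine object of a
module with base change is an isomorphism -/
theorem isIso_gsec_of_basis (hbc : HasBC M) (E : EtOver X) [hE : IsAffine E.obj.left.left]
    {I : Type (u + 1)} (β : Module.Basis I (Rg E) (Sec M E)) :
    IsIso ((M.over E).freeHomEquiv.symm (fun i => gsec M E (β i))) := by
  haveI := mono_gsec_of_basis M hbc E β
  haveI : Epi ((M.over E).freeHomEquiv.symm (fun i => gsec M E (β i))) := by
    apply epi_gsec_of_span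
    intro W hW b
    have h1 := IsBCAlong.span_image_eq_top (resRing b) (hbc W E hW hE b) (Set.range β) β.span_eq
    rw [← Set.range_comp] at h1
    exact h1
  exact isIso_of_mono_of_epi _

end Basis

section Forward

variable {S : Scheme.{u}} {X Y : Sp S} {f : X ⟶ Y} (hf : Representable f)

/-- affine objects over which `f_* O_X` has a finite free module of sections -/
abbrev FreeIdx : Type (u + 1) :=
  {E : EtOver Y // IsAffine E.obj.left.left ∧ Module.Free (Rg E) (Sec (pushUnit hf) E) ∧
    Module.Finite (Rg E) (Sec (pushUnit hf) E)}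

theorem coversTop_freeIdx (hbc : HasBC (pushUnit hf)) (hfl : RepWith finLocFree f) :
    (etTop Y).CoversTop (fun i : FreeIdx hf => i.1) := by
  intro E₀
  apply sieve_mem_of_forall_exists
  intro x
  obtain ⟨W, ι, hW, w, hw⟩ := exists_affine_piece E₀ x
  haveI := hW
  have hP : finLocFree (EtOver.bcπ hf W).left :=
    hfl.2 W.obj.hom (hf.fst W.obj.hom) (hf.snd W.obj.hom) (hf.isPullback W.obj.hom)
  obtain ⟨D, b, hD, ⟨d, hd⟩, hfree, hfin⟩ := exists_free_nbhd hf hbc W hP w
  refine ⟨D, b ≫ ι, (Sieve.mem_ofObjects_iff _ _).2 ⟨⟨D, hD, hfree, hfin⟩, ⟨𝟙 D⟩⟩, d, ?_⟩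
  show ι.hom.left.left (b.hom.left.left d) = x
  rw [hd, hw]

/-- the generating sections given by a basis -/
noncomputable def freeGens (hbc : HasBC (pushUnit hf)) (i : FreeIdx hf) :
    ((pushUnit hf).over i.1).GeneratingSections :=
  haveI := i.2.1
  haveI := i.2.2.1
  haveI := isIso_gsec_of_basis (pushUnit hf) hbc i.1
    (Module.Free.chooseBasis (Rg i.1) (Sec (pushUnit hf) i.1))
  { I := Module.Free.ChooseBasisIndex (Rg i.1) (Sec (pushUnit hf) i.1)
    s := fun k => gsec (pushUnit hf) i.1
      (Module.Free.chooseBasis (Rg i.1) (Sec (pushUnit hf) i.1) k)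
    epi := inferInstance }

theorem isIso_freeGens_π (hbc : HasBC (pushUnit hf)) (i : FreeIdx hf) :
    IsIso (freeGens hf hbc i).π := by
  haveI := i.2.1
  haveI := i.2.2.1
  exact isIso_gsec_of_basis (pushUnit hf) hbc i.1
    (Module.Free.chooseBasis (Rg i.1) (Sec (pushUnit hf) i.1))

theorem finite_freeGens (hbc : HasBC (pushUnit hf)) (i : FreeIdx hf) :
    Finite (freeGens hf hbc i).I := by
  haveI := i.2.1
  haveI := i.2.2.1
  haveI := i.2.2.2
  exact (inferInstance : Finite (Module.Free.ChooseBasisIndex (Rg i.1) (Sec (pushUnit hf) i.1)))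

/-- local generators of `f_* O_X` for a finite locally free `f` -/
noncomputable def freeLGD (hbc : HasBC (pushUnit hf)) (hfl : RepWith finLocFree f) :
    SheafOfModules.LocalGeneratorsData.{u + 1} (pushUnit hf) where
  I := FreeIdx hf
  X := fun i => i.1
  coversTop := coversTop_freeIdx hf hbc hfl
  generators := fun i => freeGens hf hbc i

theorem freeLGD_isLocallyFreeData (hbc : HasBC (pushUnit hf)) (hfl : RepWith finLocFree f) :
    (freeLGD hf hbc hfl).IsLocallyFreeData := by
  constructor
  intro i
  exact isIso_freeGens_π hf hbc i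

theorem freeLGD_isFiniteType (hbc : HasBC (pushUnit hf)) (hfl : RepWith finLocFree f) :
    (freeLGD hf hbc hfl).IsFiniteType := by
  constructor
  intro i
  constructor
  exact finite_freeGens hf hbc i

/-- a finite locally free morphism is affine -/
theorem isAffineMor_of_finLocFree (hfl : RepWith finLocFree f) : IsAffineMor f := by
  intro Z hZ g
  obtain ⟨W, i, fst, sq⟩ := hfl.1 g
  have h := hfl.2 g fst i sq
  haveI : IsFinite i.left := h.1
  haveI := hZ
  exact ⟨W, i, fst, sq, isAffine_of_isAffineHom i.left⟩

/-- **forward direction** -/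
theorem forward (hX : IsAlgSpace X) (hfl : RepWith finLocFree f) :
    IsAffineMor f ∧
      ∃ q : SheafOfModules.LocalGeneratorsData.{u + 1} (pushUnit hf),
        q.IsLocallyFreeData ∧ q.IsFiniteType := by
  have haff := isAffineMor_of_finLocFree hfl
  have hbc : HasBC (pushUnit hf) := hasBC_push hf haff (unitModEt X) (hasBC_unit X)
  exact ⟨haff, freeLGD hf hbc hfl, freeLGD_isLocallyFreeData hf hbc hfl,
    freeLGD_isFiniteType hf hbc hfl⟩

end Forward

end Groth.Agent.Lib.QCEtH7
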