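import Mathlib
import Groth.Agent.Lib.FinLocFree2_helper7
import Groth.Agent.Lib.AlgSpDescent_helper7
import Groth.Agent.Lib.AlgSpLocP2_helper7
import Groth.Agent.Lib.AlgSpOnePt_helper6

/-!
# Finite locally free morphisms and the direct image of the structure sheaf, III (helper7)

If `f` is affine and `f_* O_X` is a finite locally free `O_Y`-module then `f` is finite locally
free.
-/

set_option backward.isDefEq.respectTransparency false
set_option backward.isDefEq.respectTransparency.types false
set_option linter.style.haveILetI false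
set_option linter.unusedSectionVars false
set_option linter.unusedVariables false
set_option autoImplicit false
set_option maxHeartbeats 1600000
set_option maxSynthPendingDepth 3

universe u v

open CategoryTheory Limits Opposite AlgebraicGeometry AlgSp TensorProduct

namespace Groth.Agent.Lib.QCEtH7

open Groth.Agent.Lib.WeakAssEtH7 Groth.Agent.Lib.IdealEtBH7 Groth.Agent.Lib.EtPostcomp_helper7
  Groth.Agent.Lib.EtStalkPt_helper7 Groth.Agent.Lib.AlgSpDescent_helper7

section Sections

variable {S : Scheme.{u}} {X : Sp S} (M : ModEt X)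

/-- over every object lying over `Y0`, the values of a finite family of sections trivializing
`M.over Y0` form a basis -/
theorem lc_bijective_of_isIso (Y0 : EtOver X) (G : (M.over Y0).GeneratingSections)
    (hfin : Finite G.I) (hiso : IsIso G.π) {E : EtOver X} (a : E ⟶ Y0) :
    Function.Bijective
      (Finsupp.linearCombination (Rg E) (fun i => secOver M Y0 (G.s i) a)) := by
  classical
  have h1 := lcOf_free_bijective (R := (OEtRing X).over Y0) G.I (op (Over.mk a))
  have h2 : Function.Bijective ((G.π.val.app (op (Over.mk a))).hom) := by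
    haveI : IsIso ((SheafOfModules.evaluation ((OEtRing X).over Y0) (op (Over.mk a))).map G.π) :=
      Functor.map_isIso _ _
    exact ConcreteCategory.bijective_of_isIso
      ((SheafOfModules.evaluation ((OEtRing X).over Y0) (op (Over.mk a))).map G.π)
  have h3 : ∀ x, lcOf (M.over Y0) G.s (op (Over.mk a)) x =
      (G.π.val.app (op (Over.mk a))).hom
        (lcOf (SheafOfModules.free (R := (OEtRing X).over Y0) G.I) SheafOfModules.freeSection
          (op (Over.mk a)) x) := fun x => (freeHom_lcOf (M.over Y0) G.s (op (Over.mk a)) x).symm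
  have h4 : Function.Bijective (lcOf (M.over Y0) G.s (op (Over.mk a))) := by
    have h5 : (lcOf (M.over Y0) G.s (op (Over.mk a)) : _ → _) =
        (G.π.val.app (op (Over.mk a))).hom ∘
          (lcOf (SheafOfModules.free (R := (OEtRing X).over Y0) G.I) SheafOfModules.freeSection
            (op (Over.mk a))) := funext h3
    rw [h5]
    exact h2.comp h1
  exact h4

theorem free_finite_of_isIso (Y0 : EtOver X) (G : (M.over Y0).GeneratingSections)
    (hfin : Finite G.I) (hiso : IsIso G.π) {E : EtOver X} (a : E ⟶ Y0) :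
    Module.Free (Rg E) (Sec M E) ∧ Module.Finite (Rg E) (Sec M E) := by
  have hb := lc_bijective_of_isIso M Y0 G hfin hiso a
  obtain ⟨β, hβ⟩ : ∃ β : Module.Basis G.I (Rg E) (Sec M E), True :=
    ⟨Module.Basis.ofRepr (LinearEquiv.ofBijective _ hb).symm, trivial⟩
  exact ⟨Module.Free.of_basis β, Module.Finite.of_basis β⟩

end Sections

section Descent

theorem finLocFree_eq : (finLocFree : MorphismProperty Scheme.{u}) =
    (@IsFinite ⊓ (@Flat ⊓ @LocallyOfFinitePresentation) : MorphismProperty Scheme.{u}) := by
  ext A B g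
  exact Iff.rfl

instance isZariskiLocalAtTarget_finLocFree : IsZariskiLocalAtTarget finLocFree.{u} := by
  rw [finLocFree_eq]
  infer_instance

theorem descendsEtale_finLocFree : DescendsEtale finLocFree.{u} := by
  intro A B B' A' g π fst g' sq hπ1 hπ2 h
  obtain ⟨h1, h2, h3⟩ := h
  exact ⟨Groth.Agent.Lib.AlgSpOnePtH6.descendsEtale_isFinite sq hπ1 hπ2 h1,
    Groth.Agent.Lib.AlgSpLocP2_helper7.descendsEtale_flat sq hπ1 hπ2 h2,
    descendsEtale_of_descendsAlong _ sq hπ1 hπ2 h3⟩

/-- descent along a jointly surjective étale family -/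
theorem descends_family (P : MorphismProperty Scheme.{u}) [P.IsStableUnderBaseChange]
    [IsZariskiLocalAtTarget P] (hP : DescendsEtale P) {Z T : Scheme.{u}} (h : Z ⟶ T)
    {J : Type u} (W : J → Scheme.{u}) (g : ∀ j, W j ⟶ T) (hg : ∀ j, Etale (g j))
    (hsurj : ∀ t : T, ∃ j, t ∈ Set.range (g j))
    (hPj : ∀ j, ∃ (Zj : Scheme.{u}) (fst : Zj ⟶ Z) (snd : Zj ⟶ W j),
      IsPullback fst snd h (g j) ∧ P snd) : P h := by
  haveI : P.RespectsIso := MorphismProperty.IsStableUnderBaseChange.respectsIso
  obtain ⟨σ, hσ⟩ : ∃ σ : ∐ W ⟶ T, σ = Sigma.desc g := ⟨_, rfl⟩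
  have hισ : ∀ j, Sigma.ι W j ≫ σ = g j := by
    intro j
    rw [hσ, Sigma.ι_desc]
  haveI : Etale σ := by
    rw [hσ]
    exact IsZariskiLocalAtSource.sigmaDesc hg
  haveI : Surjective σ := by
    refine ⟨fun t => ?_⟩
    obtain ⟨j, w, hw⟩ := hsurj t
    refine ⟨Sigma.ι W j w, ?_⟩
    rw [← Scheme.Hom.comp_apply, hισ]
    exact hw
  have h1 : P (pullback.snd h σ) := by
    apply IsZariskiLocalAtTarget.of_openCover (sigmaOpenCover W)
    intro j
    obtain ⟨Zj, fst, snd, sq, hsnd⟩ := hPj j
    have s1 := (IsPullback.of_hasPullback (pullback.snd h σ) (Sigma.ι W j)).flip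
    have t1 := (IsPullback.of_hasPullback h σ).flip
    have sq2 := (s1.paste_vert t1).flip
    rw [hισ] at sq2
    have hiso := sq2.isoIsPullback_hom_snd _ _ sq
    show P (pullback.snd (pullback.snd h σ) (Sigma.ι W j))
    rw [← hiso]
    exact (P.cancel_left_of_respectsIso _ _).2 hsnd
  exact hP (IsPullback.of_hasPullback h σ) inferInstance inferInstance h1

end Descent

section Backward

variable {S : Scheme.{u}} {X Y : Sp S} {f : X ⟶ Y} (hf : Representable f)

/-- the base change of `f` to every object of the small étale site of `Y` is finite locally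
free -/
theorem finLocFree_bcπ_all (hY : IsAlgSpace Y) (haff : IsAffineMor f)
    (q : SheafOfModules.LocalGeneratorsData.{u + 1} (pushUnit hf))
    (hq1 : q.IsLocallyFreeData) (hq2 : q.IsFiniteType) (A : EtOver Y) :
    finLocFree (EtOver.bcπ hf A).left := by
  have hcov := q.coversTop A
  have h := (mem_etTop_iff hY _).1 hcov
  choose E' g hg hx using h
  choose y hy using hx
  have hi : ∀ x, ∃ i, Nonempty (E' x ⟶ q.X i) :=
    fun x => (Sieve.mem_ofObjects_iff _ _).1 (hg x)
  choose i hi' using hi
  choose D d hD hd using fun x => exists_affine_piece (E' x) (y x)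
  choose z hz using hd
  apply descends_family finLocFree descendsEtale_finLocFree (EtOver.bcπ hf A).left
    (fun x => (D x).obj.left.left) (fun x => (d x ≫ g x).hom.left.left)
  · intro x
    exact EtOver.etale_left _
  · intro x
    refine ⟨x, z x, ?_⟩
    show (g x).hom.left.left ((d x).hom.left.left (z x)) = x
    rw [hz x, hy x]
  · intro x
    haveI := hD x
    obtain ⟨hfree, hfin⟩ := free_finite_of_isIso (pushUnit hf) (q.X (i x)) (q.generators (i x))
      ((hq2.isFiniteType (i x)).finite) (hq1.isIso (i x)) (d x ≫ (hi' x).some)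
    have hP := finLocFree_bcπ_of_free hf haff (D x) hfree hfin
    exact ⟨_, (EtOver.bcMap hf (d x ≫ g x)).hom.left.left, (EtOver.bcπ hf (D x)).left,
      EtOver.isPullback_bcMap_left hf (d x ≫ g x), hP⟩

/-- **backward direction** -/
theorem backward (hY : IsAlgSpace Y) (haff : IsAffineMor f)
    (q : SheafOfModules.LocalGeneratorsData.{u + 1} (pushUnit hf))
    (hq1 : q.IsLocallyFreeData) (hq2 : q.IsFiniteType) : RepWith finLocFree f := by
  obtain ⟨T₀, a, hae, has⟩ := hY.atlas
  have hA := finLocFree_bcπ_all hf hY haff q hq1 hq2 (EtOver.mk a hae)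
  exact repWith_of_chart finLocFree descendsEtale_finLocFree f hf a hae has (hf.fst a)
    (hf.snd a) (hf.isPullback a) hA

/-- **S10330** -/
theorem main10330 {S' : Scheme.{u}} {X Y : AlgSp.Space S'} (f : X ⟶ Y)
    (hf : AlgSp.Representable f.hom) :
    AlgSp.IsFinLocFreeMor f.hom ↔
      AlgSp.IsAffineMor f.hom ∧
        ∃ q : SheafOfModules.LocalGeneratorsData.{u + 1}
          ((AlgSp.pushModEt hf).obj (AlgSp.unitModEt X.obj)),
          q.IsLocallyFreeData ∧ q.IsFiniteType := by
  constructor
  · intro h
    exact forward hf X.property h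
  · rintro ⟨haff, q, hq1, hq2⟩
    exact backward hf Y.property haff q hq1 hq2

end Backward

end Groth.Agent.Lib.QCEtH7
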