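import Mathlib

set_option maxHeartbeats 400000
set_option autoImplicit false

open Module

namespace Groth.Agent.Lib.FinOrdLattice

universe u

theorem main
    (R : Type u) [CommRing R] [IsDomain R] [IsDiscreteValuationRing R]
    (K : Type u) [Field K] [Algebra R K] [IsFractionRing R K]
    (N : ℕ) (g : GL (Fin N) K) (hg : IsOfFinOrder g) :
    ∃ (R' : Type u) (_ : CommRing R') (_ : IsDomain R') (_ : IsDiscreteValuationRing R')
      (K' : Type u) (_ : Field K') (_ : Algebra R' K') (_ : IsFractionRing R' K')
      (_ : Algebra R R') (_ : Algebra K K') (_ : Algebra R K')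
      (_ : IsScalarTower R R' K') (_ : IsScalarTower R K K')
      (_ : Module.Finite K K') (_ : IsLocalHom (algebraMap R R'))
      (h : GL (Fin N) K') (g' : GL (Fin N) R'),
      h * Matrix.GeneralLinearGroup.map (algebraMap K K') g * h⁻¹ =
        Matrix.GeneralLinearGroup.map (algebraMap R' K') g' := by
  classical
  obtain ⟨m, hm, hgm⟩ := isOfFinOrder_iff_pow_eq_one.mp hg
  set G : Matrix (Fin N) (Fin N) K := g.1 with hG
  have hGm : G ^ m = 1 := by
    have := congrArg Units.val hgm
    simpa [G] using this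
  let φ : R →+* K := algebraMap R K
  have hφ : Function.Injective φ := IsFractionRing.injective R K
  let V := Fin N → K
  let HL : Matrix (Fin N) (Fin N) K → (V →ₗ[R] V) := fun H => (Matrix.mulVecLin H).restrictScalars R
  have hHL : ∀ H (x : V), HL H x = H.mulVec x := fun _ _ => rfl
  let L : Submodule R V := Submodule.span R
    (Set.range (fun p : Fin m × Fin N => (G ^ (p.1 : ℕ)).mulVec (Pi.single p.2 (1 : K))))
  have hstab : ∀ H : Matrix (Fin N) (Fin N) K,
      (∀ (i : Fin m) (j : Fin N), H.mulVec ((G ^ (i : ℕ)).mulVec (Pi.single j (1 : K))) ∈ L) →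
      ∀ x ∈ L, HL H x ∈ L := by
    intro H hH x hx
    have hle : L ≤ Submodule.comap (HL H) L := Submodule.span_le.mpr (by
      rintro _ ⟨p, rfl⟩
      exact hH p.1 p.2)
    exact hle hx
  have hpowstab : ∀ n : ℕ, ∀ x ∈ L, HL (G ^ n) x ∈ L := fun n => hstab (G ^ n) (fun i j => by
    rw [Matrix.mulVec_mulVec, ← pow_add, pow_eq_pow_mod (n + i) hGm]
    exact Submodule.subset_span ⟨(⟨(n + i) % m, Nat.mod_lt _ hm⟩, j), rfl⟩)
  let Tn : ℕ → (L →ₗ[R] L) := fun n => (HL (G ^ n)).restrict (hpowstab n)
  have hTn_coe : ∀ n (x : L), ((Tn n x : L) : V) = (G ^ n).mulVec (x : V) := fun n x => rfl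
  have hTn_mul : ∀ a b, Tn a * Tn b = Tn (a + b) := by
    intro a b
    apply LinearMap.ext; intro x; apply Subtype.ext
    rw [Module.End.mul_apply, hTn_coe, hTn_coe, hTn_coe, Matrix.mulVec_mulVec, ← pow_add]
  have hTn_m : Tn m = 1 := by
    apply LinearMap.ext; intro x; apply Subtype.ext
    rw [hTn_coe, hGm, Matrix.one_mulVec]; rfl
  haveI : Module.Finite R L := Module.Finite.iff_fg.mpr (Submodule.fg_span (Set.finite_range _))
  haveI : Module.IsTorsionFree R L := by
    refine Module.IsTorsionFree.of_smul_eq_zero fun r x hrx => ?_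
    by_cases hr : r = 0
    · exact Or.inl hr
    · right
      apply Subtype.ext; funext i
      have h1 : ((r • x : L) : V) i = 0 := by rw [hrx]; rfl
      have h2 : ((r • x : L) : V) i = φ r * (x : V) i := by
        show (r • (x : V)) i = φ r * (x : V) i
        rw [Pi.smul_apply, Algebra.smul_def]
      rw [h2] at h1
      rcases mul_eq_zero.mp h1 with h | h
      · exact absurd ((map_eq_zero_iff φ hφ).mp h) hr
      · rw [h]; rfl
  let b0 := Module.Free.chooseBasis R L
  let ι := Module.Free.ChooseBasisIndex R L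
  let v : ι → V := fun j => ((b0 j : L) : V)
  have hliR : LinearIndependent R v :=
    b0.linearIndependent.map' L.subtype (Submodule.ker_subtype L)
  have hliK : LinearIndependent K v := LinearIndependent.localization K (nonZeroDivisors R) hliR
  have hspanR : Submodule.span R (Set.range v) = L := by
    have h1 : Set.range v = L.subtype '' Set.range b0 := by
      rw [← Set.range_comp]; rfl
    rw [h1, ← Submodule.map_span, b0.span_eq, Submodule.map_subtype_top]
  have hspanK : ⊤ ≤ Submodule.span K (Set.range v) := by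
    rw [← (Pi.basisFun K (Fin N)).span_eq]
    apply Submodule.span_le.mpr
    rintro _ ⟨j, rfl⟩
    have hmem : (Pi.single j (1 : K) : V) ∈ L :=
      Submodule.subset_span ⟨(⟨0, hm⟩, j), by
        show (G ^ 0).mulVec (Pi.single j 1) = Pi.single j 1
        rw [pow_zero, Matrix.one_mulVec]⟩
    rw [← hspanR] at hmem
    rw [Pi.basisFun_apply]
    exact Submodule.span_subset_span R K _ hmem
  let bK : Basis ι K V := Basis.mk hliK hspanK
  have hcard : Fintype.card ι = N := by
    have := Module.finrank_eq_card_basis bK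
    rw [Module.finrank_fin_fun] at this
    exact this.symm
  let e : ι ≃ Fin N := Fintype.equivFinOfCardEq hcard
  let b' : Basis (Fin N) R L := b0.reindex e
  let bK' : Basis (Fin N) K V := bK.reindex e
  have hbK' : ∀ j, bK' j = ((b' j : L) : V) := by
    intro j
    simp [bK', b', bK, v]
  let P : Matrix (Fin N) (Fin N) K := (Pi.basisFun K (Fin N)).toMatrix bK'
  let Q : Matrix (Fin N) (Fin N) K := bK'.toMatrix (Pi.basisFun K (Fin N))
  have hQP : Q * P = 1 := Basis.toMatrix_mul_toMatrix_flip bK' (Pi.basisFun K (Fin N))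
  have hPQ : P * Q = 1 := Basis.toMatrix_mul_toMatrix_flip (Pi.basisFun K (Fin N)) bK'
  have hPij : ∀ i j, P i j = ((b' j : L) : V) i := by
    intro i j
    simp only [P, Basis.toMatrix_apply, Pi.basisFun_repr, hbK']
  let G' : Matrix (Fin N) (Fin N) R := LinearMap.toMatrixAlgEquiv b' (Tn 1)
  let G'' : Matrix (Fin N) (Fin N) R := LinearMap.toMatrixAlgEquiv b' (Tn (m - 1))
  have hG'G'' : G' * G'' = 1 := by
    simp only [G', G'']
    rw [← map_mul, hTn_mul, show 1 + (m - 1) = m by omega, hTn_m, map_one]
  have hG''G' : G'' * G' = 1 := by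
    simp only [G', G'']
    rw [← map_mul, hTn_mul, show (m - 1) + 1 = m by omega, hTn_m, map_one]
  have hkey : G * P = P * G'.map φ := by
    ext i j
    rw [Matrix.mul_apply, Matrix.mul_apply]
    have h1 : ((Tn 1 (b' j) : L) : V) = ∑ l, G' l j • ((b' l : L) : V) := by
      have hs := b'.sum_repr (Tn 1 (b' j))
      have hs' := congrArg (Subtype.val) hs
      rw [← hs']
      simp only [G', LinearMap.toMatrixAlgEquiv_apply]
      rw [Submodule.coe_sum]
      rfl
    have h2 : ((Tn 1 (b' j) : L) : V) = G.mulVec ((b' j : L) : V) := by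
      rw [hTn_coe, pow_one]
    have h3 := congrFun (h1.symm.trans h2) i
    rw [Finset.sum_apply] at h3
    simp only [Algebra.smul_def, Matrix.mulVec, dotProduct] at h3
    simp only [hPij, Matrix.map_apply]
    rw [← h3]
    exact Finset.sum_congr rfl (fun l _ => mul_comm _ _)
  have hmapg : (Matrix.GeneralLinearGroup.map (algebraMap K K) g).1 = G := by
    show (RingHom.mapMatrix (algebraMap K K)) g.1 = G
    ext i j; simp [G]
  refine ⟨R, inferInstance, inferInstance, inferInstance, K, inferInstance, inferInstance,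
    inferInstance, Algebra.id R, Algebra.id K, inferInstance, inferInstance, inferInstance,
    inferInstance, ⟨fun a ha => by simpa using ha⟩,
    ⟨Q, P, hQP, hPQ⟩, ⟨G', G'', hG'G'', hG''G'⟩, ?_⟩
  apply Units.ext
  show Q * (Matrix.GeneralLinearGroup.map (algebraMap K K) g).1 * P = G'.map φ
  rw [hmapg, Matrix.mul_assoc, hkey, ← Matrix.mul_assoc, hQP, Matrix.one_mul]

end Groth.Agent.Lib.FinOrdLattice
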