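import Mathlib
import Groth.Prelude

set_option autoImplicit false
set_option linter.style.haveILetI false
set_option linter.unusedVariables false

universe u

open CategoryTheory CategoryTheory.Limits AlgebraicGeometry TopologicalSpace Opposite

namespace Groth.Agent.Lib.FinPartH4

section uniq
variable (R : Type u) [CommRing R] [IsLocalRing R]

/-- One inclusion in the uniqueness of the finite part over a local ring. -/
theorem finPart_le {Z : Scheme.{u}} (g : Z ⟶ Spec (CommRingCat.of R)) (W W' : Z.Opens)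
    (hWf : IsFinite (W.ι ≫ g))
    (hW' : ∀ x : Z, g.base x = IsLocalRing.closedPoint R → x ∈ W') : W ≤ W' := by
  intro d hdW
  by_contra hdW'
  have hdr : d ∈ Set.range W.ι := by rw [Scheme.Opens.range_ι]; exact hdW
  obtain ⟨d₀, hd₀⟩ := hdr
  have hcl : IsClosed (W.ι ⁻¹' ((W' : Set Z)ᶜ)) :=
    (W'.isOpen.isClosed_compl).preimage W.ι.continuous
  have hcm : IsClosedMap (W.ι ≫ g) := (W.ι ≫ g).isClosedMap
  have hC := hcm _ hcl
  have hmem : (W.ι ≫ g) d₀ ∈ (W.ι ≫ g) '' (W.ι ⁻¹' ((W' : Set Z)ᶜ)) := by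
    refine ⟨d₀, ?_, rfl⟩
    show W.ι d₀ ∈ ((W' : Set Z)ᶜ)
    rw [hd₀]; exact hdW'
  have hsp : (W.ι ≫ g) d₀ ⤳ IsLocalRing.closedPoint R :=
    IsLocalRing.specializes_closedPoint _
  obtain ⟨e₀, he₀, he⟩ := hsp.mem_closed hC hmem
  exact he₀ (hW' (W.ι e₀) he)

end uniq

section prod
variable {X Y S : Scheme.{u}} (f : X ⟶ S) (f' : Y ⟶ S) (WX : X.Opens) (WY : Y.Opens)

noncomputable def mm :
    pullback (WX.ι ≫ f) (WY.ι ≫ f') ⟶ pullback f f' :=
  pullback.map (WX.ι ≫ f) (WY.ι ≫ f') f f' WX.ι WY.ι (𝟙 _) (by simp) (by simp)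

instance : IsOpenImmersion (mm f f' WX WY) := by
  unfold mm; infer_instance

theorem range_mm : Set.range (mm f f' WX WY) =
    pullback.fst f f' ⁻¹' (WX : Set X) ∩ pullback.snd f f' ⁻¹' (WY : Set Y) := by
  unfold mm
  rw [Scheme.Pullback.range_map, Scheme.Opens.range_ι, Scheme.Opens.range_ι]

theorem mm_comp : mm f f' WX WY ≫ (pullback.fst f f' ≫ f) =
    pullback.fst (WX.ι ≫ f) (WY.ι ≫ f') ≫ (WX.ι ≫ f) := by
  unfold mm pullback.map
  rw [pullback.lift_fst_assoc, Category.assoc]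

theorem finite_mm [IsFinite (WX.ι ≫ f)] [IsFinite (WY.ι ≫ f')] :
    IsFinite ((mm f f' WX WY).opensRange.ι ≫ (pullback.fst f f' ≫ f)) := by
  have h1 : (mm f f' WX WY).opensRange.ι = (mm f f' WX WY).isoOpensRange.inv ≫ mm f f' WX WY :=
    (Scheme.Hom.isoOpensRange_inv_comp (mm f f' WX WY)).symm
  rw [h1, Category.assoc, mm_comp]
  infer_instance

end prod

theorem main17462 (R : Type u) [CommRing R] [HenselianLocalRing R]
    {X Y : Scheme.{u}} (f : X ⟶ Spec (CommRingCat.of R)) (f' : Y ⟶ Spec (CommRingCat.of R))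
    [LocallyQuasiFinite f] [LocallyOfFiniteType f] [QuasiCompact f] [IsSeparated f]
    [LocallyQuasiFinite f'] [LocallyOfFiniteType f'] [QuasiCompact f'] [IsSeparated f']
    (WX : X.Opens) (hWX : (IsClosed (WX : Set ↥X) ∧ IsFinite (WX.ι ≫ f) ∧ ∀ x : ↥X, f.base x = IsLocalRing.closedPoint R → x ∈ WX))
    (WY : Y.Opens) (hWY : (IsClosed (WY : Set ↥Y) ∧ IsFinite (WY.ι ≫ f') ∧ ∀ x : ↥Y, f'.base x = IsLocalRing.closedPoint R → x ∈ WY))
    (W : (pullback f f').Opens)
    (hW : (IsClosed (W : Set ↥(pullback f f')) ∧ IsFinite (W.ι ≫ (pullback.fst f f' ≫ f)) ∧ ∀ x : ↥(pullback f f'), (pullback.fst f f' ≫ f).base x = IsLocalRing.closedPoint R → x ∈ W))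
    (z : ↥(pullback f f')) :
    z ∈ W ↔ ((pullback.fst f f').base z ∈ WX ∧ (pullback.snd f f').base z ∈ WY) := by
  haveI := hWX.2.1
  haveI := hWY.2.1
  have hfin := finite_mm f f' WX WY
  have hmem : ∀ x : ↥(pullback f f'), x ∈ (mm f f' WX WY).opensRange ↔
      ((pullback.fst f f').base x ∈ WX ∧ (pullback.snd f f').base x ∈ WY) := by
    intro x
    have h1 : x ∈ (mm f f' WX WY).opensRange ↔ x ∈ Set.range (mm f f' WX WY) := Iff.rfl
    rw [h1, range_mm]
    exact Iff.rfl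
  have hcont : ∀ x : ↥(pullback f f'),
      (pullback.fst f f' ≫ f).base x = IsLocalRing.closedPoint R →
      x ∈ (mm f f' WX WY).opensRange := by
    intro x hx
    rw [hmem]
    refine ⟨hWX.2.2 _ hx, hWY.2.2 _ ?_⟩
    have h2 : (pullback.snd f f' ≫ f').base x = IsLocalRing.closedPoint R := by
      rw [← pullback.condition]; exact hx
    exact h2
  have hle1 : W ≤ (mm f f' WX WY).opensRange := finPart_le R _ W _ hW.2.1 hcont
  have hle2 : (mm f f' WX WY).opensRange ≤ W := finPart_le R _ _ W hfin hW.2.2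
  rw [← hmem]
  exact ⟨fun h => hle1 h, fun h => hle2 h⟩

end Groth.Agent.Lib.FinPartH4
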