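import Mathlib
import Groth.Prelude
import Groth.Agent.Lib.QCPoly_helper5
import Groth.Agent.Lib.ProjSpace_helper3

/-!
# A finite morphism is projective  (helper5)
APPEND-ONLY once landed.
-/

set_option autoImplicit false
universe u
open CategoryTheory CategoryTheory.Limits AlgebraicGeometry TopologicalSpace Opposite

noncomputable section

namespace Groth.Agent.FinProj

open CohB1 Groth.Agent.QCPoly Groth.Agent.QCCons Groth.Agent.ProjBCn

variable {X Y : Scheme.{u}} (f : X ⟶ Y) [IsAffineHom f]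

/-- `f⁻¹U ≅ P⁰_{Γ(f⁻¹U)}`. -/
def chart (U : Y.AffineZariskiSite) :
    ((f ⁻¹ᵁ U.1 : X.Opens) : Scheme.{u}) ≅ Proj (polyGr 0 (pushDiag f) U) :=
  haveI := Groth.Agent.Lib.ProjSpace_helper3.toSpec_zero_isIso Γ(X, f ⁻¹ᵁ U.1)
  (U.2.preimage f).isoSpec ≪≫ (asIso (ProjSpace.toSpec 0 Γ(X, f ⁻¹ᵁ U.1))).symm

theorem chart_hom_toSpec (U : Y.AffineZariskiSite) :
    (chart f U).hom ≫ ProjSpace.toSpec 0 Γ(X, f ⁻¹ᵁ U.1) = (U.2.preimage f).isoSpec.hom := by
  haveI := Groth.Agent.Lib.ProjSpace_helper3.toSpec_zero_isIso Γ(X, f ⁻¹ᵁ U.1)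
  unfold chart
  rw [Iso.trans_hom, Iso.symm_hom, asIso_inv, Category.assoc]
  erw [IsIso.inv_hom_id]
  exact Category.comp_id _

theorem chart_over (U : Y.AffineZariskiSite) :
    (chart f U).hom ≫ Proj.toSpecZero (polyGr 0 (pushDiag f) U) ≫
      Spec.map (strZeroF (polyGr 0 (pushDiag f)) (polyGr_hstr 0 (pushDiag f) (pushNat f)) U) ≫
        U.2.fromSpec = (f ⁻¹ᵁ U.1).ι ≫ f := by
  have h1 := toSpecZero_strZeroF 0 (G := pushDiag f) (β := pushNat f) U
  have h2 := chart_hom_toSpec f U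
  have h3 : Spec.map (f.app U.1) ≫ U.2.fromSpec = (U.2.preimage f).fromSpec ≫ f := by
    rw [Scheme.Hom.app_eq_appLE]
    exact IsAffineOpen.SpecMap_appLE_fromSpec f U.2 (U.2.preimage f) le_rfl
  calc (chart f U).hom ≫ Proj.toSpecZero (polyGr 0 (pushDiag f) U) ≫
      Spec.map (strZeroF (polyGr 0 (pushDiag f)) (polyGr_hstr 0 (pushDiag f) (pushNat f)) U) ≫
        U.2.fromSpec
      = (chart f U).hom ≫ (Proj.toSpecZero (polyGr 0 (pushDiag f) U) ≫
          Spec.map (strZeroF (polyGr 0 (pushDiag f))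
            (polyGr_hstr 0 (pushDiag f) (pushNat f)) U)) ≫ U.2.fromSpec := by
        simp only [Category.assoc]
    _ = (chart f U).hom ≫ (ProjSpace.toSpec 0 Γ(X, f ⁻¹ᵁ U.1) ≫ Spec.map (f.app U.1)) ≫
          U.2.fromSpec := by rw [h1]; rfl
    _ = ((chart f U).hom ≫ ProjSpace.toSpec 0 Γ(X, f ⁻¹ᵁ U.1)) ≫ Spec.map (f.app U.1) ≫
          U.2.fromSpec := by simp only [Category.assoc]
    _ = (f ⁻¹ᵁ U.1).ι ≫ f := by
        rw [h2, h3, ← Category.assoc, IsAffineOpen.isoSpec_hom_fromSpec]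

theorem isoSpec_res {V' V : X.Opens} (hV' : IsAffineOpen V') (hV : IsAffineOpen V) (h : V' ≤ V) :
    X.homOfLE h ≫ hV.isoSpec.hom = hV'.isoSpec.hom ≫ Spec.map (X.presheaf.map (homOfLE h).op) := by
  rw [← cancel_mono hV.fromSpec, Category.assoc, Category.assoc, IsAffineOpen.isoSpec_hom_fromSpec,
    IsAffineOpen.map_fromSpec hV hV', IsAffineOpen.isoSpec_hom_fromSpec, Scheme.homOfLE_ι]

theorem chart_res (U : Y.AffineZariskiSite) (r : Γ(Y, U.1))
    (hmap : ∀ {U V : Y.AffineZariskiSite} (i : V ⟶ U) {d : ℕ}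
      {x : (pushDiag f ⋙ polyFunctor 0).obj (op U)},
      x ∈ polyGr 0 (pushDiag f) U d →
        ((pushDiag f ⋙ polyFunctor 0).map i.op).hom x ∈ polyGr 0 (pushDiag f) V d)
    (hirr : HomogeneousIdeal.irrelevant (polyGr 0 (pushDiag f) (U.basicOpen r)) ≤
      (HomogeneousIdeal.irrelevant (polyGr 0 (pushDiag f) U)).map
        (resF (polyGr 0 (pushDiag f)) hmap U r)) :
    X.homOfLE (f.preimage_mono (Y.basicOpen_le r)) ≫ (chart f U).hom =
      (chart f (U.basicOpen r)).hom ≫ Proj.map (resF (polyGr 0 (pushDiag f)) hmap U r) hirr := by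
  haveI := Groth.Agent.Lib.ProjSpace_helper3.toSpec_zero_isIso Γ(X, f ⁻¹ᵁ U.1)
  have h1 := projMap_resF_toSpec 0 (G := pushDiag f) U r hmap hirr
  have h2 := chart_hom_toSpec f U
  have h3 := chart_hom_toSpec f (U.basicOpen r)
  have h4 := isoSpec_res ((U.basicOpen r).2.preimage f) (U.2.preimage f)
    (f.preimage_mono (Y.basicOpen_le r))
  have e1 : (X.homOfLE (f.preimage_mono (Y.basicOpen_le r)) ≫ (chart f U).hom) ≫
      ProjSpace.toSpec 0 Γ(X, f ⁻¹ᵁ U.1) =
      ((U.basicOpen r).2.preimage f).isoSpec.hom ≫ Spec.map (X.presheaf.map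
        (homOfLE (f.preimage_mono (Y.basicOpen_le r))).op) :=
    (Category.assoc _ _ _).trans
      ((congrArg (fun q => X.homOfLE (f.preimage_mono (Y.basicOpen_le r)) ≫ q) h2).trans h4)
  have e2 : ((chart f (U.basicOpen r)).hom ≫
      Proj.map (resF (polyGr 0 (pushDiag f)) hmap U r) hirr) ≫
      ProjSpace.toSpec 0 Γ(X, f ⁻¹ᵁ U.1) =
      ((U.basicOpen r).2.preimage f).isoSpec.hom ≫ Spec.map (X.presheaf.map
        (homOfLE (f.preimage_mono (Y.basicOpen_le r))).op) :=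
    (Category.assoc _ _ _).trans
      ((congrArg (fun q => (chart f (U.basicOpen r)).hom ≫ q) h1).trans
        ((Category.assoc _ _ _).symm.trans
          (congrArg (fun q => q ≫ Spec.map (X.presheaf.map
            (homOfLE (f.preimage_mono (Y.basicOpen_le r))).op)) h3)))
  have key := e1.trans e2.symm
  exact (cancel_mono (ProjSpace.toSpec 0 Γ(X, f ⁻¹ᵁ U.1))).mp key

omit [IsAffineHom f] in
/-- **A finite morphism is projective.** -/
theorem isProjective_of_isFinite [IsFinite f] : RelProj.IsProjective f := by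
  have hβ := coequifibered_pushNat f
  exact ⟨polyAlg 0 hβ, X, f, _, Iso.refl X, polyAlg_gen 0 hβ,
    polyAlg_ft 0 hβ (fun U => IsFinite.finite_app f U.1 U.2),
    isRelProj_grAlg _ _ _ _ f (chart f) (chart_over f) (fun U r => chart_res f U r _ _),
    Category.id_comp _⟩

end Groth.Agent.FinProj
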