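import Groth.Agent.Lib.PiZero_helper1
import Mathlib

/-!
# A finite group scheme is free over its quotient by a subgroup scheme (helper1)

`A` finite-dimensional commutative Hopf algebra over an algebraically closed field, `I` a Hopf ideal,
`B = A^{co A/I}`: `A` is free over `B` of rank `dim (A/I)`.
-/

set_option autoImplicit false
set_option maxHeartbeats 1000000

open TensorProduct

namespace FinQuotFreeH1

open Groth.Agent.Lib.PiZeroH1

universe u v w

/-! ### Part 0: choosing vectors -/
section Select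

variable {k : Type u} [Field k] [Infinite k] {V : Type v} [AddCommGroup V] [Module k V]
  {H : Type w} [AddCommGroup H] [Module k H] [Module.Finite k H]
  {X : Type*} [Finite X]

theorem exists_family (f : X → V →ₗ[k] H) (hf : ∀ x, Function.Surjective (f x)) :
    ∀ j : ℕ, j ≤ Module.finrank k H →
      ∃ v : Fin j → V, ∀ x, LinearIndependent k (fun i => f x (v i)) := by
  classical
  cases nonempty_fintype X
  intro j
  induction j with
  | zero =>
    intro _
    exact ⟨Fin.elim0, fun x => linearIndependent_empty_type⟩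
  | succ j ih =>
    intro hj
    obtain ⟨v, hv⟩ := ih (Nat.le_of_succ_le hj)
    let U : X → Subspace k V := fun x =>
      (Submodule.span k (Set.range (fun i => f x (v i)))).comap (f x)
    let s : Finset (Subspace k V) := Finset.univ.image U
    have hs : ⊤ ∉ s := by
      intro h
      obtain ⟨x, -, hx⟩ := Finset.mem_image.mp h
      have htop : Submodule.span k (Set.range (fun i => f x (v i))) = ⊤ := by
        rw [eq_top_iff]
        intro h' _
        obtain ⟨w, rfl⟩ := hf x h'
        have hw : w ∈ U x := by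
          rw [hx]
          trivial
        exact hw
      have h1 := finrank_range_le_card (R := k) (fun i => f x (v i))
      rw [Set.finrank, htop, finrank_top, Fintype.card_fin] at h1
      omega
    have hne := Subspace.biUnion_ne_univ_of_top_notMem hs
    obtain ⟨a, ha⟩ := (Set.ne_univ_iff_exists_notMem _).mp hne
    refine ⟨Fin.cons a v, fun x => ?_⟩
    have e : (fun i => f x ((Fin.cons a v : Fin (j + 1) → V) i)) =
        Fin.cons (f x a) (fun i => f x (v i)) := by
      funext i
      refine Fin.cases ?_ (fun i' => ?_) i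
      · simp
      · simp
    rw [e, linearIndependent_finCons]
    refine ⟨hv x, fun hmem => ?_⟩
    apply ha
    simp only [Set.mem_iUnion]
    exact ⟨U x, Finset.mem_image.mpr ⟨x, Finset.mem_univ _, rfl⟩, Submodule.mem_comap.mpr hmem⟩

end Select

/-! ### Part 1: common eigenvectors -/
section Eigen

variable {k : Type u} [Field k] [IsAlgClosed k] {A : Type v} [CommRing A] [Algebra k A]
  {M : Type w} [AddCommGroup M] [Module k M] [Module A M] [IsScalarTower k A M] [Module.Finite k M]

theorem exists_common_eigen (N : Submodule A M) (hN : N ≠ ⊥) :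
    ∃ c ∈ N, c ≠ 0 ∧ ∃ x : A →ₐ[k] k, ∀ a : A, a • c = x a • c := by
  classical
  have hex : ∃ d, ∃ c ∈ N, c ≠ 0 ∧
      Module.finrank k ↥((Submodule.span A {c}).restrictScalars k) = d := by
    obtain ⟨c, hc, hc0⟩ := (Submodule.ne_bot_iff N).mp hN
    exact ⟨_, c, hc, hc0, rfl⟩
  obtain ⟨c, hcN, hc0, hcd⟩ := Nat.find_spec hex
  have hmin : ∀ c' ∈ N, c' ≠ 0 →
      Module.finrank k ↥((Submodule.span A {c}).restrictScalars k) ≤
        Module.finrank k ↥((Submodule.span A {c'}).restrictScalars k) := by
    intro c' hc' hc'0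
    rw [hcd]
    exact Nat.find_min' hex ⟨c', hc', hc'0, rfl⟩
  have key : ∀ a : A, ∃ l : k, a • c = l • c := by
    intro a
    have hcW : c ∈ (Submodule.span A {c}).restrictScalars k := Submodule.subset_span rfl
    have hW : ∀ w ∈ (Submodule.span A {c}).restrictScalars k,
        (Algebra.lsmul k k M a) w ∈ (Submodule.span A {c}).restrictScalars k :=
      fun w hw => (Submodule.span A {c}).smul_mem a hw
    haveI : Nontrivial ↥((Submodule.span A {c}).restrictScalars k) :=
      ⟨⟨⟨c, hcW⟩, 0, fun h => hc0 (congrArg Subtype.val h)⟩⟩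
    obtain ⟨l, hl⟩ := Module.End.exists_eigenvalue ((Algebra.lsmul k k M a).restrict hW)
    obtain ⟨w, hw⟩ := hl.exists_hasEigenvector
    have hw0 : (w : M) ≠ 0 := fun h => hw.2 (Subtype.ext h)
    have hwe : a • (w : M) = l • (w : M) := by
      have h := congrArg Subtype.val hw.apply_eq_smul
      simp only [LinearMap.restrict_coe_apply, Algebra.lsmul_coe, Submodule.coe_smul] at h
      exact h
    have hcN' : Submodule.span A {c} ≤ N := Submodule.span_le.mpr (Set.singleton_subset_iff.mpr hcN)
    have hwc : (w : M) ∈ Submodule.span A {c} := w.2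
    have hwN : (w : M) ∈ N := hcN' hwc
    have hle : (Submodule.span A {(w : M)}).restrictScalars k ≤
        (Submodule.span A {c}).restrictScalars k := by
      intro y hy
      have h' : Submodule.span A {(w : M)} ≤ Submodule.span A {c} :=
        Submodule.span_le.mpr (Set.singleton_subset_iff.mpr hwc)
      exact h' hy
    have heq := Submodule.eq_of_le_of_finrank_le hle (hmin _ hwN hw0)
    have hcw : c ∈ Submodule.span A {(w : M)} := by
      have : c ∈ (Submodule.span A {(w : M)}).restrictScalars k := by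
        rw [heq]
        exact hcW
      exact this
    obtain ⟨b, hb⟩ := Submodule.mem_span_singleton.mp hcw
    refine ⟨l, ?_⟩
    rw [← hb, smul_comm a b, hwe, smul_comm b l]
  choose x₀ hx₀ using key
  have huniq : ∀ l l' : k, l • c = l' • c → l = l' := fun l l' h => smul_left_injective k hc0 h
  refine ⟨c, hcN, hc0, ?_⟩
  refine ⟨{ toFun := x₀, map_one' := ?_, map_mul' := ?_, map_zero' := ?_, map_add' := ?_,
            commutes' := ?_ }, hx₀⟩
  · apply huniq
    rw [← hx₀, one_smul, one_smul]
  · intro a b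
    apply huniq
    rw [← hx₀ (a * b), mul_smul, hx₀ b, smul_comm a (x₀ b) c, hx₀ a, smul_smul, mul_comm]
  · apply huniq
    rw [← hx₀, zero_smul, zero_smul]
  · intro a b
    apply huniq
    rw [← hx₀ (a + b), add_smul, add_smul, hx₀, hx₀]
  · intro r
    apply huniq
    show x₀ (algebraMap k A r) • c = r • c
    rw [← hx₀, algebraMap_smul]

end Eigen


section Basic

variable (k : Type u) [Field k] {A : Type v} [CommRing A] [Algebra k A]
  {H : Type w} [CommRing H] [Algebra k H]

theorem lsmul_eq_mul (c : A) (w : A ⊗[k] H) : c • w = (c ⊗ₜ[k] (1 : H)) * w := by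
  induction w using TensorProduct.induction_on with
  | zero => simp
  | add x y hx hy => rw [smul_add, mul_add, hx, hy]
  | tmul a h =>
    rw [TensorProduct.smul_tmul', Algebra.TensorProduct.tmul_mul_tmul, one_mul, smul_eq_mul]

end Basic

/-! ### Part 2: the coaction and the translated maps -/
section Hopf

variable (k : Type u) [Field k] {A : Type v} [CommRing A] [HopfAlgebra k A]
  {H : Type w} [CommRing H] [HopfAlgebra k H] (π : A →ₐ[k] H)

/-- the coaction `a ↦ (id ⊗ π)(Δ a)` -/
noncomputable def rho : A →ₐ[k] A ⊗[k] H :=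
  (Algebra.TensorProduct.map (AlgHom.id k A) π).comp (Bialgebra.comulAlgHom k A)

theorem rho_def (a : A) :
    rho k π a = Algebra.TensorProduct.map (AlgHom.id k A) π (Coalgebra.comul a) := rfl

theorem map_id_eq_lTensor (z : A ⊗[k] A) :
    Algebra.TensorProduct.map (AlgHom.id k A) π z = π.toLinearMap.lTensor A z := by
  induction z using TensorProduct.induction_on with
  | zero => simp
  | add x y hx hy => simp only [map_add, hx, hy]
  | tmul a b => simp

theorem rho_apply (a : A) : rho k π a = π.toLinearMap.lTensor A (Coalgebra.comul a) := by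
  rw [rho_def, map_id_eq_lTensor]

/-- left translation by a functional -/
noncomputable def Lt (φ : A →ₗ[k] k) : A →ₗ[k] A :=
  (TensorProduct.lid k A).toLinearMap ∘ₗ φ.rTensor A ∘ₗ Coalgebra.comul

theorem Lt_apply (φ : A →ₗ[k] k) (a : A) :
    Lt k φ a = TensorProduct.lid k A (φ.rTensor A (Coalgebra.comul a)) := rfl

theorem comul_lid_rTensor (ψ : A →ₗ[k] k) (z : A ⊗[k] A) :
    Coalgebra.comul (R := k) (TensorProduct.lid k A (ψ.rTensor A z)) =
      TensorProduct.lid k (A ⊗[k] A)
        (ψ.rTensor (A ⊗[k] A) ((Coalgebra.comul (R := k) (A := A)).lTensor A z)) := by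
  induction z using TensorProduct.induction_on with
  | zero => simp
  | add x y hx hy => simp only [map_add, hx, hy]
  | tmul a b => simp

theorem step2 (φ ψ : A →ₗ[k] k) (w : (A ⊗[k] A) ⊗[k] A) :
    TensorProduct.lid k A (φ.rTensor A (TensorProduct.lid k (A ⊗[k] A)
        (ψ.rTensor (A ⊗[k] A) (TensorProduct.assoc k A A A w)))) =
      TensorProduct.lid k A ((LinearMap.mul' k k ∘ₗ TensorProduct.map ψ φ).rTensor A w) := by
  have h : (TensorProduct.lid k A).toLinearMap ∘ₗ φ.rTensor A ∘ₗ
        (TensorProduct.lid k (A ⊗[k] A)).toLinearMap ∘ₗ ψ.rTensor (A ⊗[k] A) ∘ₗ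
          (TensorProduct.assoc k A A A).toLinearMap =
      (TensorProduct.lid k A).toLinearMap ∘ₗ
        (LinearMap.mul' k k ∘ₗ TensorProduct.map ψ φ).rTensor A := by
    apply TensorProduct.ext_threefold
    intro p q r
    simp [smul_smul]
  exact LinearMap.congr_fun h w

theorem Lt_Lt (φ ψ : A →ₗ[k] k) (c : A) :
    Lt k φ (Lt k ψ c) =
      Lt k ((LinearMap.mul' k k ∘ₗ TensorProduct.map ψ φ) ∘ₗ Coalgebra.comul) c := by
  rw [Lt_apply, Lt_apply k ψ, comul_lid_rTensor, ← Coalgebra.coassoc_apply, step2, Lt_apply]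
  simp only [LinearMap.rTensor_comp_apply]

theorem conv_antipode (x : A →ₐ[k] k) (p : A) :
    (LinearMap.mul' k k ∘ₗ TensorProduct.map (x.toLinearMap ∘ₗ HopfAlgebra.antipode k)
        x.toLinearMap) (Coalgebra.comul p) = Coalgebra.counit p := by
  have h : ∀ z : A ⊗[k] A,
      (LinearMap.mul' k k ∘ₗ TensorProduct.map (x.toLinearMap ∘ₗ HopfAlgebra.antipode k)
        x.toLinearMap) z = x (LinearMap.mul' k A ((HopfAlgebra.antipode k).rTensor A z)) := by
    intro z
    induction z using TensorProduct.induction_on with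
    | zero => simp
    | add y y' hy hy' => simp only [map_add, hy, hy']
    | tmul a b => simp
  rw [h, HopfAlgebra.mul_antipode_rTensor_comul_apply]
  simp

theorem Lt_surjective (x : A →ₐ[k] k) : Function.Surjective (Lt k x.toLinearMap) := by
  intro c
  refine ⟨Lt k (x.toLinearMap ∘ₗ HopfAlgebra.antipode k) c, ?_⟩
  rw [Lt_Lt]
  have hconv : ((LinearMap.mul' k k ∘ₗ TensorProduct.map (x.toLinearMap ∘ₗ HopfAlgebra.antipode k)
      x.toLinearMap) ∘ₗ Coalgebra.comul) = Coalgebra.counit :=
    LinearMap.ext fun p => conv_antipode k x p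
  rw [hconv, Lt_apply, Coalgebra.rTensor_counit_comul]
  simp

/-- the maps `(x ⊗ id) ∘ ρ` -/
noncomputable def fx (x : A →ₐ[k] k) : A →ₗ[k] H :=
  (TensorProduct.lid k H).toLinearMap ∘ₗ x.toLinearMap.rTensor H ∘ₗ (rho k π).toLinearMap

theorem fx_apply (x : A →ₐ[k] k) (a : A) :
    fx k π x a = TensorProduct.lid k H (x.toLinearMap.rTensor H (rho k π a)) := rfl

theorem fx_eq (x : A →ₐ[k] k) (a : A) : fx k π x a = π (Lt k x.toLinearMap a) := by
  have h : ∀ z : A ⊗[k] A,
      TensorProduct.lid k H (x.toLinearMap.rTensor H (π.toLinearMap.lTensor A z)) =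
        π (TensorProduct.lid k A (x.toLinearMap.rTensor A z)) := by
    intro z
    induction z using TensorProduct.induction_on with
    | zero => simp
    | add y y' hy hy' => simp only [map_add, hy, hy']
    | tmul a b => simp
  rw [fx_apply, rho_apply, h, Lt_apply]

theorem fx_surjective (hπ : Function.Surjective π) (x : A →ₐ[k] k) :
    Function.Surjective (fx k π x) := by
  intro h
  obtain ⟨a, rfl⟩ := hπ h
  obtain ⟨c, rfl⟩ := Lt_surjective k x a
  exact ⟨c, fx_eq k π x c⟩

theorem eigen_smul (x : A →ₐ[k] k) (b : A) (hb : ∀ a : A, a * b = x a • b) (w : A ⊗[k] H) :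
    b • w = b ⊗ₜ[k] (TensorProduct.lid k H (x.toLinearMap.rTensor H w)) := by
  induction w using TensorProduct.induction_on with
  | zero => simp
  | add y y' hy hy' => rw [smul_add, hy, hy', map_add, map_add, TensorProduct.tmul_add]
  | tmul a h =>
    rw [TensorProduct.smul_tmul', smul_eq_mul, mul_comm, hb, LinearMap.rTensor_tmul,
      TensorProduct.lid_tmul, AlgHom.toLinearMap_apply, TensorProduct.smul_tmul]

variable {n : ℕ} (a' : Fin n → A)

/-- the `A`-linear map `c ↦ ∑ (cᵢ ⊗ 1) ρ(a'ᵢ)` -/
noncomputable def ThetaA : (Fin n → A) →ₗ[A] A ⊗[k] H :=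
  Fintype.linearCombination A (fun i => rho k π (a' i))

theorem ThetaA_apply (c : Fin n → A) : ThetaA k π a' c = ∑ i, c i • rho k π (a' i) := by
  rw [ThetaA, Fintype.linearCombination_apply]

theorem ThetaA_injective [IsAlgClosed k] [Module.Finite k A] [Module.Finite k H]
    (hn : Module.finrank k H = n)
    (hli : ∀ x : A →ₐ[k] k, LinearIndependent k (fun i => fx k π x (a' i))) :
    Function.Injective (ThetaA k π a') := by
  classical
  rw [← LinearMap.ker_eq_bot]
  by_contra hne
  obtain ⟨c, hcK, hc0, x, hx⟩ :=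
    exists_common_eigen (k := k) (LinearMap.ker (ThetaA k π a')) hne
  have hci : ∀ i (a : A), a * c i = x a • c i := by
    intro i a
    have := congrFun (hx a) i
    simpa using this
  have h0 : ∑ i, c i ⊗ₜ[k] fx k π x (a' i) = 0 := by
    have h1 : ThetaA k π a' c = 0 := LinearMap.mem_ker.mp hcK
    rw [ThetaA_apply] at h1
    rw [← h1]
    refine Finset.sum_congr rfl fun i _ => ?_
    rw [eigen_smul k x (c i) (hci i), fx_apply]
  let bs := basisOfLinearIndependentOfCardEqFinrank' (K := k) (fun i => fx k π x (a' i)) (hli x)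
    (by rw [Fintype.card_fin, hn])
  have hbs : ∀ i, bs i = fx k π x (a' i) := fun i => by
    simp [bs]
  apply hc0
  funext j
  have h2 := congrArg (sliceR (bs.coord j)) h0
  rw [map_sum, map_zero] at h2
  simp only [sliceR_tmul] at h2
  have h3 : ∀ i, (bs.coord j) (fx k π x (a' i)) = if i = j then 1 else 0 := by
    intro i
    rw [← hbs i, Module.Basis.coord_apply, Module.Basis.repr_self, Finsupp.single_apply]
  simp only [h3] at h2
  simpa using h2

theorem ThetaA_bijective [IsAlgClosed k] [Module.Finite k A] [Module.Finite k H]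
    (hn : Module.finrank k H = n)
    (hli : ∀ x : A →ₐ[k] k, LinearIndependent k (fun i => fx k π x (a' i))) :
    Function.Bijective (ThetaA k π a') := by
  have hinj := ThetaA_injective k π a' hn hli
  refine ⟨hinj, ?_⟩
  have hfr : Module.finrank k (Fin n → A) = Module.finrank k (A ⊗[k] H) := by
    rw [Module.finrank_pi_fintype, Module.finrank_tensorProduct, Finset.sum_const,
      Finset.card_univ, Fintype.card_fin, smul_eq_mul, hn, mul_comm]
  exact (LinearMap.injective_iff_surjective_of_finrank_eq_finrank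
    (f := (ThetaA k π a').restrictScalars k) hfr).mp hinj

end Hopf


/-! ### Part 3: the coefficients are invariant -/
section Galois

variable (k : Type u) [Field k] (A : Type v) [CommRing A] [Algebra k A]
  (H : Type w) [CommRing H] [HopfAlgebra k H]

/-- `h ↦ (1 ⊗ h) ⊗ 1` -/
noncomputable def al : H →ₐ[k] (A ⊗[k] H) ⊗[k] H :=
  (Algebra.TensorProduct.includeLeft : A ⊗[k] H →ₐ[k] (A ⊗[k] H) ⊗[k] H).comp
    (Algebra.TensorProduct.includeRight : H →ₐ[k] A ⊗[k] H)

/-- `h ↦ (1 ⊗ 1) ⊗ h` -/
noncomputable def be : H →ₐ[k] (A ⊗[k] H) ⊗[k] H := Algebra.TensorProduct.includeRight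

theorem id_antipode_cancel :
    WithConv.toConv (AlgHom.id k H) * WithConv.toConv (HopfAlgebra.antipodeAlgHom k H) = 1 := by
  apply WithConv.ofConv_injective
  apply AlgHom.toLinearMap_injective
  apply WithConv.toConv_injective
  rw [AlgHom.toLinearMap_convMul, AlgHom.toLinearMap_convOne]
  simp [LinearMap.id_mul_antipode]

theorem al_mul_inv :
    WithConv.toConv (al k A H) *
      WithConv.toConv ((al k A H).comp (HopfAlgebra.antipodeAlgHom k H)) = 1 := by
  have h1 := AlgHom.comp_convMul_distrib (R := k) (al k A H) (WithConv.toConv (AlgHom.id k H))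
    (WithConv.toConv (HopfAlgebra.antipodeAlgHom k H))
  rw [id_antipode_cancel] at h1
  simp only [WithConv.ofConv_toConv, AlgHom.comp_id] at h1
  apply WithConv.ofConv_injective
  rw [← h1]
  refine AlgHom.ext fun h => ?_
  show al k A H (algebraMap k H (Coalgebra.counit h)) = algebraMap k _ (Coalgebra.counit h)
  exact AlgHom.commutes _ _

/-- `h ↦ ∑ (1 ⊗ S h₁) ⊗ h₂` -/
noncomputable def ka : H →ₐ[k] (A ⊗[k] H) ⊗[k] H :=
  WithConv.ofConv (WithConv.toConv ((al k A H).comp (HopfAlgebra.antipodeAlgHom k H)) *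
    WithConv.toConv (be k A H))

theorem al_mul_ka :
    WithConv.toConv (al k A H) * WithConv.toConv (ka k A H) = WithConv.toConv (be k A H) := by
  show WithConv.toConv (al k A H) *
    (WithConv.toConv ((al k A H).comp (HopfAlgebra.antipodeAlgHom k H)) *
      WithConv.toConv (be k A H)) = _
  have h1 := mul_assoc (WithConv.toConv (al k A H))
    (WithConv.toConv ((al k A H).comp (HopfAlgebra.antipodeAlgHom k H)))
    (WithConv.toConv (be k A H))
  have h2 := congrArg (· * WithConv.toConv (be k A H)) (al_mul_inv k A H)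
  have h3 := one_mul (WithConv.toConv (be k A H))
  exact h1.symm.trans (h2.trans h3)

theorem lmul_al_ka (h : H) :
    Algebra.TensorProduct.lmul' k (Algebra.TensorProduct.map (al k A H) (ka k A H)
      (Coalgebra.comul h)) = be k A H h := by
  have := congrArg (fun f : WithConv (H →ₐ[k] (A ⊗[k] H) ⊗[k] H) => f.ofConv h)
    (al_mul_ka k A H)
  exact this

/-- `(a ⊗ h) ⊗ h' ↦ ∑ (a ⊗ h S(h'₁)) ⊗ h'₂` -/
noncomputable def T : (A ⊗[k] H) ⊗[k] H →ₐ[k] (A ⊗[k] H) ⊗[k] H :=
  Algebra.TensorProduct.lift
    (Algebra.TensorProduct.includeLeft : A ⊗[k] H →ₐ[k] (A ⊗[k] H) ⊗[k] H) (ka k A H)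
    (fun _ _ => Commute.all _ _)

theorem T_tmul (y : A ⊗[k] H) (h : H) :
    T k A H (y ⊗ₜ[k] h) = (y ⊗ₜ[k] (1 : H)) * ka k A H h := by
  simp [T]

/-- `a ⊗ h ↦ ∑ (a ⊗ h₁) ⊗ h₂` -/
noncomputable def de : A ⊗[k] H →ₐ[k] (A ⊗[k] H) ⊗[k] H :=
  Algebra.TensorProduct.lift
    ((Algebra.TensorProduct.includeLeft : A ⊗[k] H →ₐ[k] (A ⊗[k] H) ⊗[k] H).comp
      (Algebra.TensorProduct.includeLeft : A →ₐ[k] A ⊗[k] H))
    ((Algebra.TensorProduct.map (Algebra.TensorProduct.includeRight : H →ₐ[k] A ⊗[k] H)
      (AlgHom.id k H)).comp (Bialgebra.comulAlgHom k H))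
    (fun _ _ => Commute.all _ _)

theorem de_tmul (a : A) (h : H) :
    de k A H (a ⊗ₜ[k] h) = ((a ⊗ₜ[k] (1 : H)) ⊗ₜ[k] (1 : H)) *
      Algebra.TensorProduct.map (Algebra.TensorProduct.includeRight : H →ₐ[k] A ⊗[k] H)
        (AlgHom.id k H) (Coalgebra.comul h) := by
  simp [de]

/-- `a ⊗ h ↦ (a ⊗ 1) ⊗ h` -/
noncomputable def j13 : A ⊗[k] H →ₐ[k] (A ⊗[k] H) ⊗[k] H :=
  Algebra.TensorProduct.map (Algebra.TensorProduct.includeLeft : A →ₐ[k] A ⊗[k] H) (AlgHom.id k H)

theorem j13_tmul (a : A) (h : H) : j13 k A H (a ⊗ₜ[k] h) = (a ⊗ₜ[k] (1 : H)) ⊗ₜ[k] h := by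
  simp [j13]

theorem T_mapR (z : H ⊗[k] H) :
    T k A H (Algebra.TensorProduct.map (Algebra.TensorProduct.includeRight : H →ₐ[k] A ⊗[k] H)
      (AlgHom.id k H) z) =
      Algebra.TensorProduct.lmul' k (Algebra.TensorProduct.map (al k A H) (ka k A H) z) := by
  induction z using TensorProduct.induction_on with
  | zero => simp
  | add x y hx hy => simp only [map_add, hx, hy]
  | tmul h h' =>
    rw [Algebra.TensorProduct.map_tmul, T_tmul, Algebra.TensorProduct.map_tmul,
      Algebra.TensorProduct.lmul'_apply_tmul]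
    rfl

theorem T_de (w : A ⊗[k] H) : T k A H (de k A H w) = j13 k A H w := by
  induction w using TensorProduct.induction_on with
  | zero => simp
  | add x y hx hy => simp only [map_add, hx, hy]
  | tmul a h =>
    rw [de_tmul, map_mul, T_mapR, lmul_al_ka, T_tmul, j13_tmul, map_one, mul_one]
    show ((a ⊗ₜ[k] (1 : H)) ⊗ₜ[k] (1 : H)) * ((1 : A ⊗[k] H) ⊗ₜ[k] h) = _
    rw [Algebra.TensorProduct.tmul_mul_tmul, mul_one, one_mul]

variable {A H}

/-- `(a ⊗ h) ⊗ h' ↦ θ h • a ⊗ h'` -/
noncomputable def sth (θ : H →ₗ[k] k) : (A ⊗[k] H) ⊗[k] H →ₗ[k] A ⊗[k] H :=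
  TensorProduct.map (sliceR θ) LinearMap.id

theorem sth_mul (θ : H →ₗ[k] k) (y : A ⊗[k] H) (w : A ⊗[k] H) :
    sth k θ ((y ⊗ₜ[k] (1 : H)) * j13 k A H w) = (sliceR θ y ⊗ₜ[k] (1 : H)) * w := by
  induction w using TensorProduct.induction_on with
  | zero => simp
  | add x x' hx hx' => simp only [map_add, mul_add, hx, hx']
  | tmul b h' =>
    induction y using TensorProduct.induction_on with
    | zero => simp
    | add x x' hx hx' => simp only [TensorProduct.add_tmul, add_mul, map_add, hx, hx']
    | tmul a h =>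
      rw [j13_tmul, Algebra.TensorProduct.tmul_mul_tmul, Algebra.TensorProduct.tmul_mul_tmul,
        one_mul, mul_one, sth, TensorProduct.map_tmul]
      simp only [sliceR_tmul]
      rw [LinearMap.id_apply, Algebra.TensorProduct.tmul_mul_tmul, one_mul, smul_mul_assoc]

variable (ρ : A →ₐ[k] A ⊗[k] H)

theorem coeff_mem
    (hco : ∀ a, Algebra.TensorProduct.map ρ (AlgHom.id k H) (ρ a) = de k A H (ρ a))
    {n : ℕ} (a' : Fin n → A)
    (hinj : Function.Injective (Fintype.linearCombination A (fun i => ρ (a' i))))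
    (c : Fin n → A) (a : A)
    (hc : ∑ i, c i • ρ (a' i) = ρ a) : ∀ i, ρ (c i) = c i ⊗ₜ[k] (1 : H) := by
  have e1 : ∑ i, (ρ (c i) ⊗ₜ[k] (1 : H)) * de k A H (ρ (a' i)) = de k A H (ρ a) := by
    have := congrArg (Algebra.TensorProduct.map ρ (AlgHom.id k H)) hc
    rw [map_sum, hco] at this
    rw [← this]
    refine Finset.sum_congr rfl fun i _ => ?_
    rw [lsmul_eq_mul k, map_mul, hco, Algebra.TensorProduct.map_tmul, map_one]
  have e2 : ∑ i, ((c i ⊗ₜ[k] (1 : H)) ⊗ₜ[k] (1 : H)) * de k A H (ρ (a' i)) = de k A H (ρ a) := by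
    have := congrArg (de k A H) hc
    rw [map_sum] at this
    rw [← this]
    refine Finset.sum_congr rfl fun i _ => ?_
    rw [lsmul_eq_mul k, map_mul, de_tmul, Bialgebra.comul_one, map_one, mul_one]
  have e3 : ∑ i, (ρ (c i) ⊗ₜ[k] (1 : H)) * j13 k A H (ρ (a' i)) =
      ∑ i, ((c i ⊗ₜ[k] (1 : H)) ⊗ₜ[k] (1 : H)) * j13 k A H (ρ (a' i)) := by
    have := congrArg (T k A H) (e1.trans e2.symm)
    simpa only [map_sum, map_mul, T_de, T_tmul, map_one, mul_one] using this
  intro i
  rw [← sub_eq_zero]
  apply eq_zero_of_sliceR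
  intro θ
  rw [map_sub, sub_eq_zero]
  have e4 := congrArg (sth k θ) e3
  simp only [map_sum, sth_mul] at e4
  have e5 : Fintype.linearCombination A (fun i => ρ (a' i)) (fun i => sliceR θ (ρ (c i))) =
      Fintype.linearCombination A (fun i => ρ (a' i))
        (fun i => sliceR θ (c i ⊗ₜ[k] (1 : H))) := by
    simp only [Fintype.linearCombination_apply, lsmul_eq_mul k]
    exact e4
  exact congrFun (hinj e5) i

theorem free_of_bijective (hρ : Function.Injective ρ)
    (hco : ∀ a, Algebra.TensorProduct.map ρ (AlgHom.id k H) (ρ a) = de k A H (ρ a))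
    {n : ℕ} (a' : Fin n → A)
    (hbij : Function.Bijective (Fintype.linearCombination A (fun i => ρ (a' i)))) :
    Function.Bijective (Fintype.linearCombination
      ↥(AlgHom.equalizer ρ (Algebra.TensorProduct.includeLeft : A →ₐ[k] A ⊗[k] H)) a') := by
  have key : ∀ b : Fin n → ↥(AlgHom.equalizer ρ
        (Algebra.TensorProduct.includeLeft : A →ₐ[k] A ⊗[k] H)),
      ρ (Fintype.linearCombination ↥(AlgHom.equalizer ρ
        (Algebra.TensorProduct.includeLeft : A →ₐ[k] A ⊗[k] H)) a' b) =
        Fintype.linearCombination A (fun i => ρ (a' i)) (fun i => (b i : A)) := by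
    intro b
    rw [Fintype.linearCombination_apply, Fintype.linearCombination_apply, map_sum]
    refine Finset.sum_congr rfl fun i _ => ?_
    rw [Subalgebra.smul_def, smul_eq_mul, map_mul, lsmul_eq_mul k]
    congr 1
    exact (b i).2
  constructor
  · intro b b' hbb
    have h1 := congrArg ρ hbb
    rw [key, key] at h1
    have h2 := hbij.1 h1
    funext i
    exact Subtype.ext (congrFun h2 i)
  · intro a
    obtain ⟨c, hc⟩ := hbij.2 (ρ a)
    have hc' : ∑ i, c i • ρ (a' i) = ρ a := by rw [← hc, Fintype.linearCombination_apply]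
    have hmem := coeff_mem k ρ hco a' hbij.1 c a hc'
    refine ⟨fun i => ⟨c i, hmem i⟩, hρ ?_⟩
    rw [key]
    exact hc

end Galois


/-! ### Part 4: the coaction of a quotient Hopf algebra -/
section Specific

variable (k : Type u) [Field k] {A : Type v} [CommRing A] [HopfAlgebra k A]
  {H : Type w} [CommRing H] [HopfAlgebra k H] (π : A →ₐ[k] H)

/-- `(id ⊗ π) ⊗ π` -/
noncomputable def PP : (A ⊗[k] A) ⊗[k] A →ₐ[k] (A ⊗[k] H) ⊗[k] H :=
  Algebra.TensorProduct.map (Algebra.TensorProduct.map (AlgHom.id k A) π) π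

theorem coass1 (z : A ⊗[k] A) :
    Algebra.TensorProduct.map (rho k π) (AlgHom.id k H)
        (Algebra.TensorProduct.map (AlgHom.id k A) π z) =
      PP k π ((Coalgebra.comul (R := k) (A := A)).rTensor A z) := by
  induction z using TensorProduct.induction_on with
  | zero => simp
  | add x y hx hy => simp only [map_add, hx, hy]
  | tmul a b =>
    simp only [Algebra.TensorProduct.map_tmul, LinearMap.rTensor_tmul, PP, AlgHom.coe_id, id_eq]
    rfl

theorem coass2 (a : A) (y : A ⊗[k] A) :
    ((a ⊗ₜ[k] (1 : H)) ⊗ₜ[k] (1 : H)) *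
        Algebra.TensorProduct.map (Algebra.TensorProduct.includeRight : H →ₐ[k] A ⊗[k] H)
          (AlgHom.id k H) (Algebra.TensorProduct.map π π y) =
      PP k π ((TensorProduct.assoc k A A A).symm (a ⊗ₜ[k] y)) := by
  induction y using TensorProduct.induction_on with
  | zero => simp
  | add x y hx hy => simp only [map_add, mul_add, TensorProduct.tmul_add, hx, hy]
  | tmul b c => simp [PP]

theorem coass3
    (hπ : ∀ a, Coalgebra.comul (R := k) (π a) = Algebra.TensorProduct.map π π (Coalgebra.comul a))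
    (z : A ⊗[k] A) :
    de k A H (Algebra.TensorProduct.map (AlgHom.id k A) π z) =
      PP k π ((TensorProduct.assoc k A A A).symm
        ((Coalgebra.comul (R := k) (A := A)).lTensor A z)) := by
  induction z using TensorProduct.induction_on with
  | zero => simp
  | add x y hx hy => simp only [map_add, hx, hy]
  | tmul a b =>
    rw [Algebra.TensorProduct.map_tmul, de_tmul, hπ, LinearMap.lTensor_tmul]
    exact coass2 k π a _

theorem rho_coassoc
    (hπ : ∀ a, Coalgebra.comul (R := k) (π a) = Algebra.TensorProduct.map π π (Coalgebra.comul a))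
    (a : A) :
    Algebra.TensorProduct.map (rho k π) (AlgHom.id k H) (rho k π a) = de k A H (rho k π a) := by
  rw [rho_def, coass1, coass3 k π hπ, Coalgebra.coassoc_symm_apply]

theorem rho_injective (hε : ∀ a, Coalgebra.counit (R := k) (π a) = Coalgebra.counit a) :
    Function.Injective (rho k π) := by
  have h : ∀ z : A ⊗[k] A,
      TensorProduct.rid k A ((Coalgebra.counit (R := k) (A := H)).lTensor A
        (Algebra.TensorProduct.map (AlgHom.id k A) π z)) =
      TensorProduct.rid k A ((Coalgebra.counit (R := k) (A := A)).lTensor A z) := by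
    intro z
    induction z using TensorProduct.induction_on with
    | zero => simp
    | add x y hx hy => simp only [map_add, hx, hy]
    | tmul a b => simp [hε]
  have h2 : ∀ a, TensorProduct.rid k A ((Coalgebra.counit (R := k) (A := H)).lTensor A
      (rho k π a)) = a := by
    intro a
    rw [rho_def, h, Coalgebra.lTensor_counit_comul]
    simp
  intro a b hab
  rw [← h2 a, hab, h2 b]

end Specific

section Final

variable (k : Type u) [Field k] [IsAlgClosed k]
  (A : Type v) [CommRing A] [HopfAlgebra k A] [Module.Finite k A]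

omit [IsAlgClosed k] in
theorem finite_points : Finite (A →ₐ[k] k) :=
  (linearIndependent_toLinearMap k A k).finite_of_isNoetherian

theorem main_general {H : Type w} [CommRing H] [HopfAlgebra k H] (π : A →ₐ[k] H)
    (hsurj : Function.Surjective π)
    (hπ : ∀ a, Coalgebra.comul (R := k) (π a) = Algebra.TensorProduct.map π π (Coalgebra.comul a))
    (hε : ∀ a, Coalgebra.counit (R := k) (π a) = Coalgebra.counit a) :
    Module.Free
        ↥(AlgHom.equalizer (rho k π) (Algebra.TensorProduct.includeLeft : A →ₐ[k] A ⊗[k] H)) A ∧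
      Module.finrank
        ↥(AlgHom.equalizer (rho k π) (Algebra.TensorProduct.includeLeft : A →ₐ[k] A ⊗[k] H)) A =
        Module.finrank k H := by
  have : Module.Finite k H := Module.Finite.of_surjective π.toLinearMap hsurj
  have := finite_points k A
  obtain ⟨a', ha'⟩ := exists_family (k := k) (fun x : A →ₐ[k] k => fx k π x)
    (fun x => fx_surjective k π hsurj x) (Module.finrank k H) le_rfl
  have hbij := ThetaA_bijective k π a' rfl ha'
  have hB := free_of_bijective k (rho k π) (rho_injective k π hε) (rho_coassoc k π hπ) a' hbij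
  let e := LinearEquiv.ofBijective _ hB
  haveI : Nontrivial ↥(AlgHom.equalizer (rho k π)
      (Algebra.TensorProduct.includeLeft : A →ₐ[k] A ⊗[k] H)) := by
    refine ⟨⟨0, 1, fun h => ?_⟩⟩
    have h1 : (0 : A) = 1 := congrArg Subtype.val h
    have h2 := congrArg (Coalgebra.counit (R := k) (A := A)) h1
    rw [map_zero, Bialgebra.counit_one] at h2
    exact zero_ne_one h2
  refine ⟨Module.Free.of_equiv e, ?_⟩
  rw [← e.finrank_eq, Module.finrank_fin_fun]

theorem main (I : Ideal A) [I.IsHopfIdeal k] :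
    Module.Free
        ↥(AlgHom.equalizer
          ((Algebra.TensorProduct.map (AlgHom.id k A) (Ideal.Quotient.mkₐ k I)).comp
            (Bialgebra.comulAlgHom k A))
          (Algebra.TensorProduct.includeLeft : A →ₐ[k] A ⊗[k] (A ⧸ I))) A ∧
      Module.finrank
        ↥(AlgHom.equalizer
          ((Algebra.TensorProduct.map (AlgHom.id k A) (Ideal.Quotient.mkₐ k I)).comp
            (Bialgebra.comulAlgHom k A))
          (Algebra.TensorProduct.includeLeft : A →ₐ[k] A ⊗[k] (A ⧸ I))) A =
        Module.finrank k (A ⧸ I) :=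
  main_general k A (Ideal.Quotient.mkₐ k I) (Ideal.Quotient.mkₐ_surjective k I)
    (fun a => rfl) (fun a => rfl)

end Final

end FinQuotFreeH1
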