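import Groth.Agent.Lib.LqfDiscreteFibres_helper7
import Groth.Agent.Lib.AlgSpT0_helper6
import Groth.Agent.Lib.FieldQuot4_helper6
import Groth.Agent.Lib.Chev4_helper8

/-!
# Algebraic spaces locally of finite type over a field: isolated points and dimension zero (helper7)

S10391 (conditions at a point) and S10392 (global conditions).
-/

set_option autoImplicit false
set_option linter.style.haveILetI false
universe u
open CategoryTheory CategoryTheory.Limits AlgebraicGeometry Opposite MorphismProperty
open AlgSp Groth.Agent.Lib.AlgSpQC2_helper7 Groth.Agent.Lib.AlgSpPoints_helper7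
  Groth.Agent.Lib.AlgSpQC_helper7 Groth.Agent.Lib.AlgSpDiag_helper7 Groth.Agent.Lib.AlgSpTop_helper7
  Groth.Agent.Lib.AlgSpPullback_helper7 Groth.Agent.Lib.AlgSpSep_helper7
  Groth.Agent.Lib.AlgSpLocP_helper7 Groth.Agent.Lib.AlgSpUniv_helper7
  Groth.Agent.Lib.AlgSpFpqc_helper7 Groth.Agent.Lib.AlgSpFpqc2_helper7
  Groth.Agent.Lib.AlgSpDescent_helper7 Groth.Agent.Lib.AlgSpEtale_helper7
  Groth.Agent.Lib.AlgSpLocP2_helper7 Groth.Agent.Lib.AlgSpEpi_helper7
  Groth.Agent.Lib.SchSrcLocal_helper7 Groth.Agent.Lib.AlgSpLocP4_helper7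
  Groth.Agent.Lib.LqfDiscreteFibresH7

namespace Groth.Agent.Lib.LftFieldPtsH7

variable {S : Scheme.{u}}

/-! ## Topology -/

theorem topDim_nonneg (T : Type*) [TopologicalSpace T] [Nonempty T] :
    0 ≤ topologicalKrullDim T := by
  obtain ⟨t⟩ := ‹Nonempty T›
  haveI : Nonempty (TopologicalSpace.IrreducibleCloseds T) :=
    ⟨⟨closure {t}, isIrreducible_singleton.closure, isClosed_closure⟩⟩
  exact Order.krullDim_nonneg

theorem localDim_eq_zero_of_isOpen_singleton {T : Type*} [TopologicalSpace T] (t : T)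
    (h : IsOpen ({t} : Set T)) : FlatMor.localDim T t = 0 := by
  unfold FlatMor.localDim
  apply le_antisymm
  · let O : TopologicalSpace.Opens T := ⟨{t}, h⟩
    haveI : Subsingleton ↥(O : Set T) :=
      ⟨fun a b => Subtype.ext ((show a.1 = t from a.2).trans (show b.1 = t from b.2).symm)⟩
    exact iInf_le_of_le ⟨O, Set.mem_singleton t⟩ (topologicalKrullDim_zero_of_discreteTopology _)
  · refine le_iInf fun W => ?_
    haveI : Nonempty ↥(W.1 : Set T) := ⟨⟨t, W.2⟩⟩
    exact topDim_nonneg _

theorem eq_of_specializes_of_topDim_le_zero {T : Type*} [TopologicalSpace T] [T0Space T]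
    (h : topologicalKrullDim T ≤ 0) {x y : T} (hxy : y ⤳ x) : y = x := by
  let Zx : TopologicalSpace.IrreducibleCloseds T :=
    ⟨closure {x}, isIrreducible_singleton.closure, isClosed_closure⟩
  let Zy : TopologicalSpace.IrreducibleCloseds T :=
    ⟨closure {y}, isIrreducible_singleton.closure, isClosed_closure⟩
  have h1 : closure ({x} : Set T) ⊆ closure {y} := specializes_iff_closure_subset.mp hxy
  have hle : Zx ≤ Zy := fun a ha => h1 ha
  have hmax : IsMax Zx := Order.krullDim_nonpos_iff_forall_isMax.mp h Zx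
  have hle' : Zy ≤ Zx := hmax hle
  have h2 : closure ({y} : Set T) ⊆ closure {x} := fun a ha => hle' ha
  have hyx : x ⤳ y := specializes_iff_closure_subset.mpr h2
  exact (hxy.antisymm hyx).eq

theorem eq_of_specializes_of_mem_opens {T : Type*} [TopologicalSpace T] [T0Space T]
    (O : TopologicalSpace.Opens T) (h : topologicalKrullDim ↥(O : Set T) ≤ 0) {x y : T}
    (hx : x ∈ O) (hxy : y ⤳ x) : y = x := by
  have hy : y ∈ O := hxy.mem_open O.2 hx
  have h1 : (⟨y, hy⟩ : ↥(O : Set T)) ⤳ ⟨x, hx⟩ := (subtype_specializes_iff _ _).mpr hxy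
  exact congrArg Subtype.val (eq_of_specializes_of_topDim_le_zero h h1)

/-! ## Schemes -/

theorem isOpen_of_isLocallyClosed_of_stableUnderGeneralization {U : Scheme.{u}}
    [IsLocallyNoetherian U] {Z : Set U} (hZ : IsLocallyClosed Z)
    (hg : StableUnderGeneralization Z) : IsOpen Z := by
  rw [isOpen_iff_mem_nhds]
  intro z hz
  obtain ⟨O, C, hO, hC, rfl⟩ := hZ
  obtain ⟨N, hN, hzN, hNO⟩ := exists_isAffineOpen_mem_and_subset (U := ⟨O, hO⟩) (x := z) hz.1
  haveI : IsNoetherianRing Γ(U, N) := IsLocallyNoetherian.component_noetherian ⟨N, hN⟩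
  haveI : TopologicalSpace.NoetherianSpace ↥(Spec Γ(U, N)) :=
    inferInstanceAs (TopologicalSpace.NoetherianSpace (PrimeSpectrum Γ(U, N)))
  have hcl : IsClosed (hN.fromSpec ⁻¹' (O ∩ C)) := by
    have : hN.fromSpec ⁻¹' (O ∩ C) = hN.fromSpec ⁻¹' C := by
      ext w
      simp only [Set.mem_preimage, Set.mem_inter_iff, and_iff_right_iff_imp]
      intro _
      apply hNO
      have := Set.mem_range_self (f := hN.fromSpec) w
      rw [hN.range_fromSpec] at this
      exact this
    rw [this]
    exact hC.preimage hN.fromSpec.continuous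
  have hgs : StableUnderGeneralization (hN.fromSpec ⁻¹' (O ∩ C)) :=
    hg.preimage hN.fromSpec.continuous
  have hcons : Topology.IsConstructible (hN.fromSpec ⁻¹' (O ∩ C)) := by
    rw [← Topology.isConstructible_compl]
    refine IsRetrocompact.isConstructible hcl.isOpen_compl ?_
    intro V _ _
    exact TopologicalSpace.NoetherianSpace.isCompact _
  have hop : IsOpen (hN.fromSpec ⁻¹' (O ∩ C)) :=
    PrimeSpectrum.isOpen_of_stableUnderGeneralization_of_isConstructible (R := Γ(U, N)) hgs hcons
  have hop' : IsOpen (hN.fromSpec '' (hN.fromSpec ⁻¹' (O ∩ C))) :=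
    hN.fromSpec.isOpenEmbedding.isOpenMap _ hop
  refine Filter.mem_of_superset (hop'.mem_nhds ?_) (Set.image_preimage_subset _ _)
  rw [Set.image_preimage_eq_inter_range, hN.range_fromSpec]
  exact ⟨hz, hzN⟩

/-- A zero dimensional open of a locally noetherian scheme is discrete. -/
theorem isOpen_singleton_of_topDim_le_zero {U : Scheme.{u}} [IsLocallyNoetherian U]
    (O : U.Opens) (h : topologicalKrullDim ↥(O : Set U) ≤ 0) {u : U} (hu : u ∈ O) :
    IsOpen ({u} : Set U) := by
  haveI : IsLocallyNoetherian (O : Scheme) := isLocallyNoetherian_of_isOpenImmersion O.ι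
  haveI : IsLocallyArtinian (O : Scheme) := IsLocallyArtinian.of_topologicalKrullDim_le_zero h
  obtain ⟨w, hw⟩ : ∃ w : ↥(O : Scheme), O.ι w = u := by
    have : u ∈ Set.range O.ι := by rw [Scheme.Opens.range_ι]; exact hu
    exact this
  have := O.ι.isOpenEmbedding.isOpenMap _ (isOpen_discrete ({w} : Set ↥(O : Scheme)))
  rwa [Set.image_singleton, hw] at this

/-- Points of an open fibre of an étale chart (locally of finite type over a field) are closed. -/
theorem isClosed_of_mem_open_fibre {P : Sp S} {W : Over S} {k : Type u} [Field k]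
    (π : W.left ⟶ Spec (CommRingCat.of k)) [LocallyOfFiniteType π]
    (c : (yon S).obj W ⟶ P) (hce : RepWith @Etale c) (x : Points P)
    (hO : IsOpen (Points.ofPt c ⁻¹' {x})) (z : W.left) (hz : Points.ofPt c z = x) :
    IsClosed ({z} : Set W.left) := by
  haveI : JacobsonSpace W.left := LocallyOfFiniteType.jacobsonSpace π
  have sqR : IsPullback ((yon S).map (hce.rep.fst' c)) ((yon S).map (hce.rep.snd c)) c c :=
    hce.rep.isPullback' c
  haveI hg₂ : Etale (hce.rep.snd c).left := hce.property_snd c
  haveI hg₁ : Etale (hce.rep.fst' c).left := hce.property c _ _ sqR.flip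
  haveI : LocallyQuasiFinite (hce.rep.snd c).left :=
    locallyQuasiFinite_of_unramified (hce.rep.snd c).left
  obtain ⟨z₀, hz₀O, hz₀c⟩ :=
    nonempty_inter_closedPoints (X := W.left) (Z := Points.ofPt c ⁻¹' {x})
      ⟨z, hz⟩ hO.isLocallyClosed
  have hz₀O' : Points.ofPt c z₀ = x := hz₀O
  have hz₀c' : IsClosed ({z₀} : Set W.left) := hz₀c
  obtain ⟨r, hr1, hr2⟩ := exists_ofPt_eq_of_isPullback sqR z z₀ (hz.trans hz₀O'.symm)
  have hrc : IsClosed ({r} : Set (hce.rep.pullback c).left) :=
    isClosed_of_subset_discrete_closed (s := {r}) (t := (hce.rep.snd c).left ⁻¹' {z₀})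
      (Set.singleton_subset_iff.mpr hr2)
      ((hce.rep.snd c).left.isDiscrete_preimage_singleton z₀)
      (hz₀c'.preimage (hce.rep.snd c).left.continuous)
  have h3 := (hce.rep.fst' c).left.closePoints_subset_preimage_closedPoints
    (mem_closedPoints_iff.mpr hrc)
  have h4 : IsClosed ({(hce.rep.fst' c).left r} : Set W.left) := h3
  rwa [hr1] at h4

/-- Points of an open fibre of an étale chart (locally of finite type over a field) are open. -/
theorem isOpen_singleton_of_mem_open_fibre {P : Sp S} {W : Over S} {k : Type u} [Field k]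
    (π : W.left ⟶ Spec (CommRingCat.of k)) [LocallyOfFiniteType π]
    (c : (yon S).obj W ⟶ P) (hce : RepWith @Etale c) (x : Points P)
    (hO : IsOpen (Points.ofPt c ⁻¹' {x})) (z : W.left) (hz : Points.ofPt c z = x) :
    IsOpen ({z} : Set W.left) := by
  haveI : IsLocallyNoetherian W.left := LocallyOfFiniteType.isLocallyNoetherian π
  let O' : W.left.Opens := ⟨Points.ofPt c ⁻¹' {x}, hO⟩
  haveI : T1Space ↥(O' : Set W.left) := ⟨fun w => by
    have h1 : IsClosed ({w.1} : Set W.left) := isClosed_of_mem_open_fibre π c hce x hO w.1 w.2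
    have h2 : ({w} : Set ↥(O' : Set W.left)) = Subtype.val ⁻¹' {w.1} := by
      ext v
      constructor
      · intro hv
        rw [Set.mem_singleton_iff] at hv
        rw [hv]
        rfl
      · intro hv
        exact Subtype.ext hv
    rw [h2]
    exact h1.preimage continuous_subtype_val⟩
  haveI : QuasiSober ↥(O' : Set W.left) := O'.2.isOpenEmbedding_subtypeVal.quasiSober
  exact isOpen_singleton_of_topDim_le_zero O' (topologicalKrullDim_le_zero_of_t1 _) hz

/-! ## Algebraic spaces locally of finite type over a field -/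

section Field

variable {P : Sp S} {k : Type u} [Field k] {str : Spec (CommRingCat.of k) ⟶ S}
  (q : P ⟶ (yon S).obj (Over.mk str)) (hq : LocP @LocallyOfFiniteType q)
include hq

theorem exists_lft_chart {U : Over S} (a : (yon S).obj U ⟶ P) (hae : RepWith @Etale a) :
    ∃ π : U.left ⟶ Spec (CommRingCat.of k), LocallyOfFiniteType π := by
  obtain ⟨g, hg⟩ := (yon S).map_surjective (a ≫ q)
  exact ⟨g.left, hq a (𝟙 _) g hae (repWith_id _ (Over.mk str)) (by rw [hg, Category.comp_id])⟩

theorem isLocallyNoetherian_chart {U : Over S} (a : (yon S).obj U ⟶ P) (hae : RepWith @Etale a) :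
    IsLocallyNoetherian U.left := by
  obtain ⟨π, hπ⟩ := exists_lft_chart q hq a hae
  exact LocallyOfFiniteType.isLocallyNoetherian π

/-- A locally closed point without proper generizations is isolated. -/
theorem isOpen_singleton_of_isLocallyClosed (hP : IsAlgSpace P) (x : Points P)
    (hlc : IsLocallyClosed ({x} : Set (Points P))) (hgen : ∀ x' : Points P, x' ⤳ x → x' = x) :
    IsOpen ({x} : Set (Points P)) := by
  obtain ⟨U, c, hce, hcs⟩ := hP.atlas
  haveI := isLocallyNoetherian_chart q hq c hce
  have hZ : IsOpen (Points.ofPt c ⁻¹' {x}) := by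
    apply isOpen_of_isLocallyClosed_of_stableUnderGeneralization
      (hlc.preimage (Points.continuous_ofPt c))
    intro z z' hzz' hz
    have h1 := hzz'.map (Points.continuous_ofPt c)
    rw [show Points.ofPt c z = x from hz] at h1
    exact hgen _ h1
  have := isOpenMap_ofPt_of_etale c hce _ hZ
  rwa [Set.image_preimage_eq _ (ofPt_surjective c hcs)] at this

/-- An isolated point is closed. -/
theorem isClosed_singleton_of_isOpen (hP : IsAlgSpace P) (x : Points P)
    (hx : IsOpen ({x} : Set (Points P))) : IsClosed ({x} : Set (Points P)) := by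
  obtain ⟨U, c, hce, hcs⟩ := hP.atlas
  obtain ⟨π, hπ⟩ := exists_lft_chart q hq c hce
  haveI := hπ
  haveI : IsLocallyNoetherian U.left := LocallyOfFiniteType.isLocallyNoetherian π
  have hZ : IsOpen (Points.ofPt c ⁻¹' {x}) := hx.preimage (Points.continuous_ofPt c)
  have hcl : ∀ z, Points.ofPt c z = x → IsClosed ({z} : Set U.left) := fun z hz =>
    isClosed_of_mem_open_fibre π c hce x hZ z hz
  have hZc : IsOpen (Points.ofPt c ⁻¹' {x})ᶜ := by
    apply isOpen_of_isLocallyClosed_of_stableUnderGeneralization hZ.isClosed_compl.isLocallyClosed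
    intro z z' hzz' hz hz'
    have h1 : z ∈ closure ({z'} : Set U.left) := specializes_iff_mem_closure.mp hzz'
    rw [(hcl z' hz').closure_eq] at h1
    apply hz
    rw [Set.mem_singleton_iff.mp h1]
    exact hz'
  rw [← isOpen_compl_iff, isOpen_iff_of_atlas c hce hcs]
  exact hZc

theorem hasAt_localDim_zero_iff (hP : IsAlgSpace P) (x : Points P) :
    IsOpen ({x} : Set (Points P)) ↔
      HasAt (fun U u => FlatMor.localDim ↥U u = 0) P x := by
  constructor
  · intro hx
    obtain ⟨U, c, hce, hcs⟩ := hP.atlas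
    obtain ⟨u, hu⟩ := ofPt_surjective c hcs x
    obtain ⟨π, hπ⟩ := exists_lft_chart q hq c hce
    haveI := hπ
    have hZ : IsOpen (Points.ofPt c ⁻¹' {x}) := hx.preimage (Points.continuous_ofPt c)
    exact ⟨U, c, u, hce, hu, localDim_eq_zero_of_isOpen_singleton u
      (isOpen_singleton_of_mem_open_fibre π c hce x hZ u hu)⟩
  · rintro ⟨U, a, u, hae, hu, hdim⟩
    haveI := isLocallyNoetherian_chart q hq a hae
    obtain ⟨O, huO, hO⟩ := ChevH8.exists_opens_topDim_le_of_localDim_le u 0 hdim.le
    have h1 : IsOpen ({u} : Set U.left) := isOpen_singleton_of_topDim_le_zero O hO huO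
    have := isOpenMap_ofPt_of_etale a hae _ h1
    rwa [Set.image_singleton, hu] at this

theorem localDim_points_eq_zero_iff (hP : IsAlgSpace P) (hd : IsDecent P) (x : Points P) :
    FlatMor.localDim (Points P) x = 0 ↔ IsOpen ({x} : Set (Points P)) := by
  haveI := Groth.Agent.Lib.AlgSpT0_helper6.t0Space_points_of_isDecent hP hd
  constructor
  · intro hdim
    obtain ⟨O, hxO, hO⟩ := ChevH8.exists_opens_topDim_le_of_localDim_le x 0 hdim.le
    apply isOpen_singleton_of_isLocallyClosed q hq hP x
    · refine ⟨O, closure {x}, O.2, isClosed_closure, ?_⟩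
      ext y
      simp only [Set.mem_singleton_iff, Set.mem_inter_iff, SetLike.mem_coe]
      constructor
      · rintro rfl
        exact ⟨hxO, subset_closure (Set.mem_singleton _)⟩
      · rintro ⟨hyO, hyc⟩
        exact (eq_of_specializes_of_mem_opens O hO hyO (specializes_iff_mem_closure.mpr hyc)).symm
    · intro x' hx'
      exact eq_of_specializes_of_mem_opens O hO hxO hx'
  · exact localDim_eq_zero_of_isOpen_singleton x

theorem dim_le_zero_of_discrete [DiscreteTopology (Points P)] : AlgSp.dim P ≤ 0 := by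
  unfold AlgSp.dim
  refine iSup_le fun U => iSup_le fun a => iSup_le fun hae => ?_
  obtain ⟨π, hπ⟩ := exists_lft_chart q hq a hae
  haveI := hπ
  haveI : DiscreteTopology U.left := discrete_of_etale_to_discrete π a hae
  exact topologicalKrullDim_zero_of_discreteTopology _

theorem discrete_of_dim_le_zero (hP : IsAlgSpace P) (h : AlgSp.dim P ≤ 0) :
    DiscreteTopology (Points P) := by
  obtain ⟨U, c, hce, hcs⟩ := hP.atlas
  haveI := isLocallyNoetherian_chart q hq c hce
  have h1 : topologicalKrullDim ↥U.left ≤ 0 := by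
    refine le_trans ?_ h
    unfold AlgSp.dim
    exact le_iSup_of_le U (le_iSup_of_le c (le_iSup_of_le hce le_rfl))
  haveI : IsLocallyArtinian U.left := IsLocallyArtinian.of_topologicalKrullDim_le_zero h1
  rw [discreteTopology_iff_isOpen_singleton]
  intro p
  obtain ⟨x, rfl⟩ := ofPt_surjective c hcs p
  rw [← Set.image_singleton]
  exact isOpenMap_ofPt_of_etale c hce _ (isOpen_discrete {x})

theorem discrete_of_topDim_le_zero (hP : IsAlgSpace P) (hd : IsDecent P)
    (h : topologicalKrullDim (Points P) ≤ 0) : DiscreteTopology (Points P) := by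
  haveI := Groth.Agent.Lib.AlgSpT0_helper6.t0Space_points_of_isDecent hP hd
  rw [discreteTopology_iff_isOpen_singleton]
  intro x
  apply isOpen_singleton_of_isLocallyClosed q hq hP x
  · apply IsClosed.isLocallyClosed
    apply isClosed_of_closure_subset
    intro y hy
    have := eq_of_specializes_of_topDim_le_zero h (specializes_iff_mem_closure.mpr hy)
    exact this.symm
  · intro x' hx'
    exact eq_of_specializes_of_topDim_le_zero h hx'

theorem discrete_of_finite (hP : IsAlgSpace P) (hd : IsDecent P) [Finite (Points P)] :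
    DiscreteTopology (Points P) := by
  obtain ⟨U, c, hce, hcs⟩ := hP.atlas
  obtain ⟨π, hπ⟩ := exists_lft_chart q hq c hce
  haveI := hπ
  have hU : ∀ u : U.left, IsOpen ({u} : Set U.left) := by
    intro u
    obtain ⟨N, hN, huN, -⟩ :=
      exists_isAffineOpen_mem_and_subset (U := ⊤) (x := u) (TopologicalSpace.Opens.mem_top u)
    haveI : IsAffine (N : Scheme) := hN
    let W : Over S := Over.mk (N.ι ≫ U.hom)
    let j : W ⟶ U := Over.homMk N.ι rfl
    have hje : RepWith @Etale ((yon S).map j) :=
      (repWith_yon_map_iff @Etale j).2 (inferInstance : Etale N.ι)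
    have hc'e : RepWith @Etale ((yon S).map j ≫ c) := repWith_comp _ hje hce
    haveI : CompactSpace ↥W.left := (inferInstance : CompactSpace ↥(N : Scheme))
    have hfin : ∀ x : Points P, (Points.ofPt ((yon S).map j ≫ c) ⁻¹' {x}).Finite := fun x => by
      obtain ⟨p, hp, -, hqc⟩ := hd x
      rw [← hp]
      exact Groth.Agent.Lib.FieldQuot4H6.finite_fibre_of_qc p hqc _ hc'e
    haveI : Finite ↥(N : Scheme) := by
      have h1 : (Set.univ : Set ↥W.left) =
          ⋃ x : Points P, Points.ofPt ((yon S).map j ≫ c) ⁻¹' {x} := by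
        ext w
        simp
      have h2 : (Set.univ : Set ↥W.left).Finite := by
        rw [h1]
        exact Set.finite_iUnion hfin
      exact Set.finite_univ_iff.mp h2
    haveI : LocallyOfFiniteType (N.ι ≫ π) := inferInstance
    haveI : JacobsonSpace ↥(N : Scheme) := LocallyOfFiniteType.jacobsonSpace (N.ι ≫ π)
    haveI : DiscreteTopology ↥(N : Scheme) := inferInstance
    obtain ⟨w, hw⟩ : ∃ w : ↥(N : Scheme), N.ι w = u := by
      have : u ∈ Set.range N.ι := by rw [Scheme.Opens.range_ι]; exact huN
      exact this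
    have := N.ι.isOpenEmbedding.isOpenMap _ (isOpen_discrete ({w} : Set ↥(N : Scheme)))
    rwa [Set.image_singleton, hw] at this
  rw [discreteTopology_iff_isOpen_singleton]
  intro p
  obtain ⟨x, rfl⟩ := ofPt_surjective c hcs p
  rw [← Set.image_singleton]
  exact isOpenMap_ofPt_of_etale c hce _ (hU x)

end Field

theorem zero_le_dim {P : Sp S} (hP : IsAlgSpace P) [Nonempty (Points P)] : 0 ≤ AlgSp.dim P := by
  obtain ⟨x⟩ := ‹Nonempty (Points P)›
  obtain ⟨U, c, hce, hcs⟩ := hP.atlas
  obtain ⟨u, hu⟩ := ofPt_surjective c hcs x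
  haveI : Nonempty ↥U.left := ⟨u⟩
  unfold AlgSp.dim
  exact le_iSup_of_le U (le_iSup_of_le c (le_iSup_of_le hce (topDim_nonneg _)))

theorem main10391 (k : Type u) [Field k] (X : AlgSp.Space (Spec (CommRingCat.of k)))
    (p : X.obj ⟶ (AlgSp.yon (Spec (CommRingCat.of k))).obj (Over.mk (𝟙 _)))
    (hp : AlgSp.LocP @LocallyOfFiniteType p) (x : AlgSp.Points X.obj) :
    (IsOpen ({x} : Set (AlgSp.Points X.obj)) ↔
        (IsClosed ({x} : Set (AlgSp.Points X.obj)) ∧
          ∀ x' : AlgSp.Points X.obj, x' ⤳ x → x' = x)) ∧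
      (IsOpen ({x} : Set (AlgSp.Points X.obj)) ↔
        AlgSp.HasAt (fun U u => FlatMor.localDim ↥U u = 0) X.obj x) ∧
      (AlgSp.IsDecent X.obj →
        (FlatMor.localDim (AlgSp.Points X.obj) x = 0 ↔
          IsOpen ({x} : Set (AlgSp.Points X.obj)))) := by
  refine ⟨⟨fun h => ⟨isClosed_singleton_of_isOpen p hp X.property x h, fun x' hx' =>
      Set.mem_singleton_iff.mp (hx'.mem_open h (Set.mem_singleton x))⟩,
    fun h => isOpen_singleton_of_isLocallyClosed p hp X.property x h.1.isLocallyClosed h.2⟩,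
    hasAt_localDim_zero_iff p hp X.property x,
    fun hd => localDim_points_eq_zero_iff p hp X.property hd x⟩

theorem main10392 (k : Type u) [Field k] (X : AlgSp.Space (Spec (CommRingCat.of k)))
    (p : X.obj ⟶ (AlgSp.yon (Spec (CommRingCat.of k))).obj (Over.mk (𝟙 _)))
    (hp : AlgSp.LocP @LocallyOfFiniteType p) [Nonempty (AlgSp.Points X.obj)] :
    (DiscreteTopology (AlgSp.Points X.obj) ↔ AlgSp.dim X.obj = 0) ∧
      (DiscreteTopology (AlgSp.Points X.obj) → topologicalKrullDim (AlgSp.Points X.obj) = 0) ∧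
      (AlgSp.IsDecent X.obj → topologicalKrullDim (AlgSp.Points X.obj) = 0 →
        DiscreteTopology (AlgSp.Points X.obj)) ∧
      (AlgSp.IsDecent X.obj → Finite (AlgSp.Points X.obj) → AlgSp.dim X.obj = 0) := by
  refine ⟨⟨fun h => ?_, fun h => ?_⟩, fun h => ?_, fun hd h => ?_, fun hd h => ?_⟩
  · haveI := h
    exact le_antisymm (dim_le_zero_of_discrete p hp) (zero_le_dim X.property)
  · exact discrete_of_dim_le_zero p hp X.property h.le
  · haveI := h
    exact le_antisymm (topologicalKrullDim_zero_of_discreteTopology _) (topDim_nonneg _)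
  · exact discrete_of_topDim_le_zero p hp X.property hd h.le
  · haveI := h
    haveI := discrete_of_finite p hp X.property hd
    exact le_antisymm (dim_le_zero_of_discrete p hp) (zero_le_dim X.property)

end Groth.Agent.Lib.LftFieldPtsH7
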