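import Groth.Statements.S18486
import Groth.Agent.Lib.TorsorFF_helper7
import Groth.Agent.Lib.BalProdFix_lead

/-! # The Néron mapping property passes between a group and its smooth surjective pseudo-torsors (lead) -/

set_option backward.isDefEq.respectTransparency false
set_option backward.isDefEq.respectTransparency.types false
set_option linter.unusedSimpArgs false
set_option linter.unusedVariables false
set_option linter.unusedSectionVars false
set_option linter.style.longLine false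
set_option linter.style.haveILetI false
set_option maxHeartbeats 800000

universe u

open CategoryTheory CategoryTheory.Limits MonoidalCategory CartesianMonoidalCategory MonObj GrpObj
  AlgebraicGeometry Opposite Topology

namespace Groth.Agent.Lib.NeronTorsorGen

open Groth.Agent.Lib.AssocBundle Groth.Agent.Lib.GeomQuotSep Groth.Agent.Lib.BundleStages
  Groth.Agent.Lib.TorsorSeq SchFpqcCovH7

variable {S S₀ : Scheme.{u}} (j₀ : S₀ ⟶ S) [Mono j₀]

theorem isCov_of_fppf {X Y : Scheme.{u}} (f : X ⟶ Y) [Flat f] [Surjective f]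
    [LocallyOfFinitePresentation f] : IsCov f :=
  Precoverage.generate_mem_toGrothendieck
    (Scheme.fppfPrecoverage_le_fpqcPrecoverage _ f.singleton_mem_fppfPrecoverage)

instance smooth_tensor {A B : Over S} [Smooth A.hom] [Smooth B.hom] : Smooth (A ⊗ B).hom := by
  rw [Over.tensorObj_hom]
  infer_instance

/-- the restriction of `Z` to the open `S₀`, as an `S`-scheme -/
noncomputable def res (Z : Over S) : Over S := Over.mk (pullback.snd Z.hom j₀ ≫ j₀)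

noncomputable def eps (Z : Over S) : res j₀ Z ⟶ Z :=
  Over.homMk (pullback.fst Z.hom j₀) pullback.condition

instance mono_eps (Z : Over S) : Mono (eps j₀ Z) := by
  haveI : Mono (eps j₀ Z).left := by
    show Mono (pullback.fst Z.hom j₀)
    infer_instance
  exact Over.mono_of_mono_left _

def OverS₀ (W : Over S) : Prop := ∃ w₀ : W.left ⟶ S₀, w₀ ≫ j₀ = W.hom

theorem overS₀_res (Z : Over S) : OverS₀ j₀ (res j₀ Z) := ⟨pullback.snd _ _, rfl⟩

theorem OverS₀.of_hom {W W' : Over S} (h : OverS₀ j₀ W) (f : W' ⟶ W) : OverS₀ j₀ W' := by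
  obtain ⟨w₀, hw⟩ := h
  exact ⟨f.left ≫ w₀, by rw [Category.assoc, hw, Over.w f]⟩

theorem factor {W Z : Over S} (h : OverS₀ j₀ W) (f : W ⟶ Z) :
    ∃ f' : W ⟶ res j₀ Z, f' ≫ eps j₀ Z = f := by
  obtain ⟨w₀, hw⟩ := h
  have hc : f.left ≫ Z.hom = w₀ ≫ j₀ := by rw [Over.w f, hw]
  have hw' : pullback.lift f.left w₀ hc ≫ (res j₀ Z).hom = W.hom := by
    show pullback.lift f.left w₀ hc ≫ (pullback.snd Z.hom j₀ ≫ j₀) = W.hom
    rw [pullback.lift_snd_assoc, hw]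
  refine ⟨Over.homMk (pullback.lift f.left w₀ hc) hw', ?_⟩
  ext
  show pullback.lift f.left w₀ hc ≫ pullback.fst Z.hom j₀ = f.left
  exact pullback.lift_fst _ _ _

/-! ### Restriction functor versus the counit -/

noncomputable def fromR {Z Y : Over S}
    (g₀ : (Over.pullback j₀).obj Z ⟶ (Over.pullback j₀).obj Y) : res j₀ Z ⟶ Y :=
  Over.homMk (g₀.left ≫ pullback.fst Y.hom j₀) (by
    have h : g₀.left ≫ pullback.snd Y.hom j₀ = pullback.snd Z.hom j₀ := Over.w g₀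
    show (g₀.left ≫ pullback.fst Y.hom j₀) ≫ Y.hom = pullback.snd Z.hom j₀ ≫ j₀
    rw [Category.assoc, pullback.condition, ← Category.assoc, h])

noncomputable def toR {Z Y : Over S} (gam : res j₀ Z ⟶ Y) :
    (Over.pullback j₀).obj Z ⟶ (Over.pullback j₀).obj Y :=
  Over.homMk (pullback.lift gam.left (pullback.snd Z.hom j₀) (Over.w gam)) (by
    show pullback.lift gam.left (pullback.snd Z.hom j₀) (Over.w gam) ≫ pullback.snd Y.hom j₀
      = pullback.snd Z.hom j₀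
    exact pullback.lift_snd _ _ _)

theorem fromR_map {Z Y : Over S} (g : Z ⟶ Y) :
    fromR j₀ ((Over.pullback j₀).map g) = eps j₀ Z ≫ g := by
  ext
  show ((Over.pullback j₀).map g).left ≫ pullback.fst Y.hom j₀
    = pullback.fst Z.hom j₀ ≫ g.left
  exact pullback.lift_fst _ _ _

theorem fromR_bijective (Z Y : Over S) :
    Function.Bijective (fromR j₀ (Z := Z) (Y := Y)) := by
  constructor
  · intro g₀ g₀' h
    ext
    have h1 : g₀.left ≫ pullback.snd Y.hom j₀ = pullback.snd Z.hom j₀ := Over.w g₀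
    have h2 : g₀'.left ≫ pullback.snd Y.hom j₀ = pullback.snd Z.hom j₀ := Over.w g₀'
    have h3 : g₀.left ≫ pullback.fst Y.hom j₀ = g₀'.left ≫ pullback.fst Y.hom j₀ :=
      congrArg (fun k => k.left) h
    exact pullback.hom_ext h3 (h1.trans h2.symm)
  · intro gam
    refine ⟨toR j₀ gam, ?_⟩
    ext
    show pullback.lift gam.left (pullback.snd Z.hom j₀) (Over.w gam) ≫ pullback.fst Y.hom j₀
      = gam.left
    exact pullback.lift_fst _ _ _

theorem bij_iff (Z Y : Over S) :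
    Function.Bijective (fun g : Z ⟶ Y => (Over.pullback j₀).map g) ↔
      ∀ gam : res j₀ Z ⟶ Y, ∃! g : Z ⟶ Y, eps j₀ Z ≫ g = gam := by
  rw [← Function.bijective_iff_existsUnique (fun g : Z ⟶ Y => eps j₀ Z ≫ g)]
  have hcomp : (fun g : Z ⟶ Y => eps j₀ Z ≫ g)
      = fromR j₀ (Z := Z) (Y := Y) ∘ (fun g : Z ⟶ Y => (Over.pullback j₀).map g) :=
    funext (fun g => (fromR_map j₀ g).symm)
  rw [hcomp]
  exact (Function.Bijective.of_comp_iff' (fromR_bijective j₀ Z Y) _).symm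

/-! ### Descent along `Z × N → Z` -/

theorem desc_fst {Z N Y : Over S} (hcov : IsCov N.hom) (F : Z ⊗ N ⟶ Y)
    (h : lift (fst Z (N ⊗ N)) (snd Z (N ⊗ N) ≫ fst N N) ≫ F
      = lift (fst Z (N ⊗ N)) (snd Z (N ⊗ N) ≫ snd N N) ≫ F) :
    ∃ y : Z ⟶ Y, fst Z N ≫ y = F := by
  apply desc_of_isCov (fst Z N) (isCov_fst Z N hcov) F
  intro T a₁ a₂ ha
  have e1 : a₁ = lift (a₁ ≫ fst Z N) (lift (a₁ ≫ snd Z N) (a₂ ≫ snd Z N))
      ≫ lift (fst Z (N ⊗ N)) (snd Z (N ⊗ N) ≫ fst N N) := by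
    rw [comp_lift, lift_fst, lift_snd_assoc, lift_fst]
    exact lift_eta a₁
  have e2 : a₂ = lift (a₁ ≫ fst Z N) (lift (a₁ ≫ snd Z N) (a₂ ≫ snd Z N))
      ≫ lift (fst Z (N ⊗ N)) (snd Z (N ⊗ N) ≫ snd N N) := by
    rw [comp_lift, lift_fst, lift_snd_assoc, lift_snd, ha]
    exact lift_eta a₂
  rw [e1, Category.assoc, h, ← Category.assoc, ← e2]

theorem descend {Z N Y : Over S} (hcov : IsCov N.hom) (F : Z ⊗ N ⟶ Y) (θ : res j₀ Z ⟶ Y)
    (hF : ∀ (T : Over S), OverS₀ j₀ T → ∀ (ζ : T ⟶ res j₀ Z) (n : T ⟶ N),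
      lift (ζ ≫ eps j₀ Z) n ≫ F = ζ ≫ θ)
    (hinj : ∀ u v : Z ⊗ (N ⊗ N) ⟶ Y, eps j₀ _ ≫ u = eps j₀ _ ≫ v → u = v) :
    ∃ y : Z ⟶ Y, eps j₀ Z ≫ y = θ := by
  have h0 : lift (fst Z (N ⊗ N)) (snd Z (N ⊗ N) ≫ fst N N) ≫ F
      = lift (fst Z (N ⊗ N)) (snd Z (N ⊗ N) ≫ snd N N) ≫ F := by
    apply hinj
    obtain ⟨ζ, hζ⟩ := factor j₀ (overS₀_res j₀ (Z ⊗ (N ⊗ N)))
      (eps j₀ (Z ⊗ (N ⊗ N)) ≫ fst Z (N ⊗ N))
    have e1 := hF _ (overS₀_res j₀ (Z ⊗ (N ⊗ N))) ζ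
      (eps j₀ (Z ⊗ (N ⊗ N)) ≫ snd Z (N ⊗ N) ≫ fst N N)
    have e2 := hF _ (overS₀_res j₀ (Z ⊗ (N ⊗ N))) ζ
      (eps j₀ (Z ⊗ (N ⊗ N)) ≫ snd Z (N ⊗ N) ≫ snd N N)
    rw [hζ] at e1 e2
    rw [← Category.assoc, ← Category.assoc, comp_lift, comp_lift, e1, e2]
  obtain ⟨y, hy⟩ := desc_fst hcov F h0
  refine ⟨y, ?_⟩
  haveI : Epi (fst (res j₀ Z) N) := epi_of_isCov _ (isCov_fst (res j₀ Z) N hcov)
  rw [← cancel_epi (fst (res j₀ Z) N)]
  have hT : OverS₀ j₀ (res j₀ Z ⊗ N) := (overS₀_res j₀ Z).of_hom j₀ (fst (res j₀ Z) N)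
  have e3 := hF _ hT (fst (res j₀ Z) N) (snd (res j₀ Z) N)
  calc fst (res j₀ Z) N ≫ eps j₀ Z ≫ y
      = lift (fst (res j₀ Z) N ≫ eps j₀ Z) (snd (res j₀ Z) N) ≫ fst Z N ≫ y := by
        rw [lift_fst_assoc, Category.assoc]
    _ = lift (fst (res j₀ Z) N ≫ eps j₀ Z) (snd (res j₀ Z) N) ≫ F := by rw [hy]
    _ = fst (res j₀ Z) N ≫ θ := e3

/-! ### The two directions -/

section

variable {G N : Over S} [GrpObj G] (a : AlgGrp.Action G N) [IsIso (lift a.act (snd G N))]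

theorem dif_self {T : Over S} (p : T ⟶ N) : dif a.act p p = 1 :=
  (dif_unique a.act p p 1 (act_one' a p)).symm

theorem dif_act {T : Over S} (g : T ⟶ G) (p : T ⟶ N) : dif a.act (lift g p ≫ a.act) p = g :=
  (dif_unique a.act _ p g rfl).symm

include a in
theorem inj_N_of_inj_G {Z : Over S}
    (hG : ∀ u v : Z ⟶ G, eps j₀ Z ≫ u = eps j₀ Z ≫ v → u = v)
    (n n' : Z ⟶ N) (h : eps j₀ Z ≫ n = eps j₀ Z ≫ n') : n = n' := by
  have h1 : dif a.act n n' = 1 := by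
    apply hG
    rw [comp_dif, h, dif_self, MonObj.comp_one]
  calc n = lift (dif a.act n n') n' ≫ a.act := (dif_spec a.act n n').symm
    _ = n' := by rw [h1, act_one' a]

include a in
theorem inj_G_of_inj_N {Z : Over S} (hcov : IsCov N.hom)
    (hN : ∀ u v : Z ⊗ N ⟶ N, eps j₀ _ ≫ u = eps j₀ _ ≫ v → u = v)
    (u v : Z ⟶ G) (h : eps j₀ Z ≫ u = eps j₀ Z ≫ v) : u = v := by
  haveI : Epi (fst Z N) := epi_of_isCov _ (isCov_fst Z N hcov)
  rw [← cancel_epi (fst Z N)]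
  apply TorsorSeq.act_cancel a.act _ _ (snd Z N)
  apply hN
  obtain ⟨ζ, hζ⟩ := factor j₀ (overS₀_res j₀ (Z ⊗ N)) (eps j₀ (Z ⊗ N) ≫ fst Z N)
  rw [← Category.assoc, ← Category.assoc, comp_lift, comp_lift]
  congr 2
  rw [← Category.assoc, ← Category.assoc, ← hζ, Category.assoc, Category.assoc, h]

include a in
theorem surj_N {Z : Over S} (hcov : IsCov N.hom)
    (hGex : ∀ gam : res j₀ (Z ⊗ N) ⟶ G, ∃ d : Z ⊗ N ⟶ G, eps j₀ _ ≫ d = gam)
    (hinj : ∀ u v : Z ⊗ (N ⊗ N) ⟶ N, eps j₀ _ ≫ u = eps j₀ _ ≫ v → u = v)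
    (ν : res j₀ Z ⟶ N) : ∃ n : Z ⟶ N, eps j₀ Z ≫ n = ν := by
  obtain ⟨zt, hzt⟩ := factor j₀ (overS₀_res j₀ (Z ⊗ N)) (eps j₀ (Z ⊗ N) ≫ fst Z N)
  obtain ⟨d, hd⟩ := hGex (dif a.act (zt ≫ ν) (eps j₀ (Z ⊗ N) ≫ snd Z N))
  apply descend j₀ hcov (lift d (snd Z N) ≫ a.act) ν _ hinj
  intro T hT ζ n
  obtain ⟨w, hw⟩ := factor j₀ hT (lift (ζ ≫ eps j₀ Z) n)
  have hw2 : w ≫ eps j₀ (Z ⊗ N) ≫ snd Z N = n := by
    rw [← Category.assoc, hw, lift_snd]
  have hw1 : w ≫ zt = ζ := by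
    rw [← cancel_mono (eps j₀ Z), Category.assoc, hzt, ← Category.assoc, hw, lift_fst]
  have hd' : lift (ζ ≫ eps j₀ Z) n ≫ d = dif a.act (ζ ≫ ν) n := by
    rw [← hw, Category.assoc, hd, comp_dif, hw2, ← Category.assoc, hw1]
  rw [comp_lift_assoc, lift_snd, hd', dif_spec]

include a in
theorem surj_G {Z : Over S} (hcov : IsCov N.hom)
    (hNex : ∀ mu0 : res j₀ (Z ⊗ N) ⟶ N, ∃ e : Z ⊗ N ⟶ N, eps j₀ _ ≫ e = mu0)
    (hinj : ∀ u v : Z ⊗ (N ⊗ N) ⟶ G, eps j₀ _ ≫ u = eps j₀ _ ≫ v → u = v)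
    (gam : res j₀ Z ⟶ G) : ∃ g : Z ⟶ G, eps j₀ Z ≫ g = gam := by
  obtain ⟨zt, hzt⟩ := factor j₀ (overS₀_res j₀ (Z ⊗ N)) (eps j₀ (Z ⊗ N) ≫ fst Z N)
  obtain ⟨e, he⟩ := hNex (lift (zt ≫ gam) (eps j₀ (Z ⊗ N) ≫ snd Z N) ≫ a.act)
  apply descend j₀ hcov (dif a.act e (snd Z N)) gam _ hinj
  intro T hT ζ n
  obtain ⟨w, hw⟩ := factor j₀ hT (lift (ζ ≫ eps j₀ Z) n)
  have hw2 : w ≫ eps j₀ (Z ⊗ N) ≫ snd Z N = n := by
    rw [← Category.assoc, hw, lift_snd]
  have hw1 : w ≫ zt = ζ := by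
    rw [← cancel_mono (eps j₀ Z), Category.assoc, hzt, ← Category.assoc, hw, lift_fst]
  have he' : lift (ζ ≫ eps j₀ Z) n ≫ e = lift (ζ ≫ gam) n ≫ a.act := by
    rw [← hw, Category.assoc, he, comp_lift_assoc, hw2, ← Category.assoc, hw1]
  rw [comp_dif, lift_snd, he', dif_act]

end

theorem main_dir {S S₀ : Scheme.{u}} (j₀ : S₀ ⟶ S) [Mono j₀]
    (G : Over S) [GrpObj G]
    (N : Over S) [Smooth N.hom] [Surjective N.hom]
    (a : AlgGrp.Action G N) (ha : NonAbH1.IsPseudoTorsorSch a)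
    (hG : ∀ Z : Over S, Smooth Z.hom → Function.Bijective (fun g : Z ⟶ G => (Over.pullback j₀).map g)) :
    ∀ Z : Over S, Smooth Z.hom → Function.Bijective (fun g : Z ⟶ N => (Over.pullback j₀).map g) := by
  haveI : IsIso (lift a.act (snd G N)) := ha
  have hcov : IsCov N.hom := isCov_of_fppf N.hom
  intro Z hZ
  haveI := hZ
  have hG' : ∀ (Z' : Over S), Smooth Z'.hom →
      ∀ gam : res j₀ Z' ⟶ G, ∃! g : Z' ⟶ G, eps j₀ Z' ≫ g = gam :=
    fun Z' hZ' => (bij_iff j₀ Z' G).1 (hG Z' hZ')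
  have hGinj : ∀ (Z' : Over S), Smooth Z'.hom →
      ∀ u v : Z' ⟶ G, eps j₀ Z' ≫ u = eps j₀ Z' ≫ v → u = v :=
    fun Z' hZ' u v h => (hG' Z' hZ' (eps j₀ Z' ≫ v)).unique h rfl
  rw [bij_iff]
  intro ν
  obtain ⟨n, hn⟩ := surj_N j₀ a hcov (fun gam => (hG' (Z ⊗ N) inferInstance gam).exists)
    (fun u v h => inj_N_of_inj_G j₀ a (hGinj (Z ⊗ (N ⊗ N)) inferInstance) u v h) ν
  exact ⟨n, hn, fun n' hn' => inj_N_of_inj_G j₀ a (hGinj Z hZ) n' n (hn'.trans hn.symm)⟩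

open Groth.Agent.Lib.TorsorProp_helper7 Groth.Agent.Lib.TorsorFF_helper7 in
theorem neron_torsor (R : Type u) [CommRing R] [IsDomain R]
    (X : Over (Spec (CommRingCat.of R))) [GrpObj X]
    (hX : Neron.IsNeronModelOf R X ((Neron.genericFibre R).obj X) (Iso.refl _))
    (P : NonAbH1.TorsorSch X Scheme.fppfPrecoverage) :
    Neron.IsNeronModelOf R P.X ((Neron.genericFibre R).obj P.X) (Iso.refl _) := by
  obtain ⟨h1, h2, h3, h4, h5⟩ := hX
  have hT : NonAbH1.IsTorsorFor Scheme.fpqcPrecoverage P.act := by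
    obtain ⟨hp, R', hR', hs⟩ := P.isTorsor
    exact ⟨hp, R', Scheme.fppfPrecoverage_le_fpqcPrecoverage _ hR', hs⟩
  haveI := isSeparated_descends.{u}
  haveI := quasiCompact_descends.{u}
  haveI hsm : Smooth P.X.hom := prop_of_torsor @Smooth P.act hT h1
  haveI hsep : IsSeparated P.X.hom := prop_of_torsor @IsSeparated P.act hT h2
  haveI hlft : LocallyOfFiniteType P.X.hom := prop_of_torsor @LocallyOfFiniteType P.act hT h3
  haveI hqc : QuasiCompact P.X.hom := prop_of_torsor @QuasiCompact P.act hT h4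
  haveI hsurj : Surjective P.X.hom := prop_of_torsor @Surjective P.act hT (surjective_grp_hom X)
  haveI : Mono (Neron.genPt R) := by
    haveI : Epi (CommRingCat.ofHom (algebraMap R (FractionRing R))) :=
      IsLocalization.epi (nonZeroDivisors R) (FractionRing R)
    haveI : Mono (CommRingCat.ofHom (algebraMap R (FractionRing R))).op := inferInstance
    exact inferInstanceAs (Mono (Scheme.Spec.map (CommRingCat.ofHom (algebraMap R (FractionRing R))).op))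
  refine ⟨hsm, hsep, hlft, hqc, ?_⟩
  have h5' : ∀ Z : Over (Spec (CommRingCat.of R)), Smooth Z.hom →
      Function.Bijective (fun g : Z ⟶ X => (Over.pullback (Neron.genPt R)).map g) := by
    intro Z hZ
    have := h5 Z hZ
    simpa only [Iso.refl_hom, Category.comp_id] using this
  intro Y hY
  have := main_dir (Neron.genPt R) X P.X P.act hT.1 h5' Y hY
  simpa only [Iso.refl_hom, Category.comp_id] using this

end Groth.Agent.Lib.NeronTorsorGen
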