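import Groth.Statements.S15958
import Groth.Agent.Lib.NeronTorsorGen_lead
import Groth.Agent.Lib.TorsorGeomQuot_lead
import Groth.Agent.S4599

/-! # Extensions of Néron lft-models are Néron lft-models (lead) -/

set_option backward.isDefEq.respectTransparency false
set_option backward.isDefEq.respectTransparency.types false
set_option linter.unusedSimpArgs false
set_option linter.unusedVariables false
set_option linter.unusedSectionVars false
set_option linter.style.longLine false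
set_option linter.style.haveILetI false
set_option maxHeartbeats 800000

universe u

open CategoryTheory CategoryTheory.Limits MonoidalCategory CartesianMonoidalCategory MonObj GrpObj
  AlgebraicGeometry Opposite Topology

namespace Groth.Agent.Lib.NeronExt

open Groth.Agent.Lib.AssocBundle Groth.Agent.Lib.GeomQuotSep Groth.Agent.Lib.BundleStages
  Groth.Agent.Lib.TorsorSeq SchFpqcCovH7 Groth.Agent.Lib.NeronTorsorGen

variable {S : Scheme.{u}}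

section kernel

variable {G' G G'' : Over S} [GrpObj G'] [GrpObj G] [GrpObj G''] (i : G' ⟶ G) (q : G ⟶ G'')
  [IsMonHom i] [IsMonHom q] (hker : AlgGrp.IsKernel i q)

include hker in
theorem ker_comp {T : Over S} (n : T ⟶ G') : (n ≫ i) ≫ q = 1 := by
  rw [Category.assoc, hker.w, ← Category.assoc, Hom.one_def]
  congr 1
  exact toUnit_unique _ _

include hker in
theorem ker_lift {T : Over S} (g : T ⟶ G) (h : g ≫ q = 1) : ∃ n : T ⟶ G', n ≫ i = g := by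
  have hd : g ≫ q = toUnit T ≫ η[G''] := by rw [h, Hom.one_def]
  exact ⟨hker.lift g (toUnit T) hd, hker.lift_fst _ _ _⟩

include hker in
theorem ker_mono {T : Over S} (n₁ n₂ : T ⟶ G') (h : n₁ ≫ i = n₂ ≫ i) : n₁ = n₂ :=
  hker.hom_ext h (toUnit_unique _ _)

include hker in
theorem ker_diff_right {T : Over S} (g₁ g₂ : T ⟶ G) (h : g₁ ≫ q = g₂ ≫ q) :
    ∃ n : T ⟶ G', g₂ = g₁ * (n ≫ i) := by
  have hd : (g₁⁻¹ * g₂) ≫ q = 1 := by
    rw [MonObj.mul_comp, GrpObj.inv_comp, h, _root_.inv_mul_cancel]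
  obtain ⟨n, hn⟩ := ker_lift i q hker _ hd
  exact ⟨n, by rw [hn, _root_.mul_inv_cancel_left]⟩

include hker in
theorem ker_diff_left {T : Over S} (a b : T ⟶ G) (h : a ≫ q = b ≫ q) :
    ∃ n : T ⟶ G', a = (n ≫ i) * b := by
  have hd : (a * b⁻¹) ≫ q = 1 := by
    rw [MonObj.mul_comp, GrpObj.inv_comp, h, _root_.mul_inv_cancel]
  obtain ⟨n, hn⟩ := ker_lift i q hker _ hd
  exact ⟨n, by rw [hn, _root_.inv_mul_cancel_right]⟩

theorem act_pt {T : Over S} (n : T ⟶ G') (b : T ⟶ G) :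
    lift n b ≫ (i ▷ G) ≫ μ[G] = (n ≫ i) * b := by
  rw [lift_whiskerRight_assoc, Hom.mul_def]

include hker in
theorem cart_q : IsPullback ((i ▷ G) ≫ μ[G]) (snd G' G) q q := by
  apply isPullback_of_exists_unique
  · have e : (i ▷ G) ≫ μ[G] = lift (fst G' G) (snd G' G) ≫ (i ▷ G) ≫ μ[G] := by
      rw [lift_fst_snd, Category.id_comp]
    rw [e, act_pt, MonObj.mul_comp, ker_comp i q hker, _root_.one_mul]
  · intro T a b hab
    obtain ⟨n, hn⟩ := ker_diff_left i q hker a b hab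
    exact ⟨lift n b, by rw [act_pt, ← hn], lift_snd _ _⟩
  · intro T l l' h1 h2
    have e1 : l ≫ (i ▷ G) ≫ μ[G] = ((l ≫ fst G' G) ≫ i) * (l ≫ snd G' G) := by
      have := act_pt i (l ≫ fst G' G) (l ≫ snd G' G)
      rwa [← lift_eta l] at this
    have e2 : l' ≫ (i ▷ G) ≫ μ[G] = ((l' ≫ fst G' G) ≫ i) * (l' ≫ snd G' G) := by
      have := act_pt i (l' ≫ fst G' G) (l' ≫ snd G' G)
      rwa [← lift_eta l'] at this
    rw [e1, e2, h2] at h1
    have h3 : (l ≫ fst G' G) ≫ i = (l' ≫ fst G' G) ≫ i := _root_.mul_right_cancel h1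
    exact CartesianMonoidalCategory.hom_ext _ _ (ker_mono i q hker _ _ h3) h2

open Groth.Agent.Lib.TorsorGeomQuot in
include hker in
theorem smooth_q [Smooth G'.hom] [Smooth G.hom] [Smooth G''.hom] [Flat q.left]
    [Surjective q.left] : Smooth q.left := by
  haveI : LocallyOfFinitePresentation (q.left ≫ G''.hom) := by
    rw [Over.w q]; infer_instance
  haveI : LocallyOfFinitePresentation q.left := Groth.Agent.S4599.lfp_of_comp q.left G''.hom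
  refine prop_of_bundle @Smooth ((i ▷ G) ≫ μ[G]) q (cart_q i q hker) ?_ inferInstance
  refine ⟨Presieve.singleton q.left,
    Scheme.fppfPrecoverage_le_fpqcPrecoverage _ q.left.singleton_mem_fppfPrecoverage, ?_⟩
  rintro S' f ⟨⟩
  exact ⟨𝟙 _, Category.id_comp _⟩

include hker in
theorem inj_ext {S₀ : Scheme.{u}} (j₀ : S₀ ⟶ S) [Mono j₀] {Z : Over S}
    (h' : ∀ u v : Z ⟶ G', eps j₀ Z ≫ u = eps j₀ Z ≫ v → u = v)
    (h'' : ∀ u v : Z ⟶ G'', eps j₀ Z ≫ u = eps j₀ Z ≫ v → u = v)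
    (u v : Z ⟶ G) (h : eps j₀ Z ≫ u = eps j₀ Z ≫ v) : u = v := by
  have hq : u ≫ q = v ≫ q := by
    apply h''
    rw [← Category.assoc, h, Category.assoc]
  obtain ⟨n, hn⟩ := ker_diff_right i q hker u v hq
  have h1 : eps j₀ Z ≫ u = (eps j₀ Z ≫ u) * ((eps j₀ Z ≫ n) ≫ i) := by
    calc eps j₀ Z ≫ u = eps j₀ Z ≫ (u * (n ≫ i)) := by rw [← hn, h]
      _ = _ := by rw [MonObj.comp_mul, Category.assoc]
  have h2 : (eps j₀ Z ≫ n) ≫ i = 1 := left_eq_mul.1 h1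
  have h3 : eps j₀ Z ≫ n = 1 := by
    apply ker_mono i q hker
    rw [h2, MonObj.one_comp]
  have h4 : n = 1 := by
    apply h'
    rw [h3, MonObj.comp_one]
  rw [hn, h4, MonObj.one_comp, _root_.mul_one]

end kernel

theorem main {S₀ : Scheme.{u}} (j₀ : S₀ ⟶ S) [Mono j₀]
    {G' G G'' : Over S} [GrpObj G'] [GrpObj G] [GrpObj G'']
    [Smooth G'.hom] [Smooth G.hom] [Smooth G''.hom]
    (i : G' ⟶ G) (q : G ⟶ G'') [IsMonHom i] [IsMonHom q]
    (hker : AlgGrp.IsKernel i q) [Flat q.left] [Surjective q.left]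
    (hG' : ∀ Y : Over S, Smooth Y.hom →
        Function.Bijective (fun g : Y ⟶ G' => (Over.pullback j₀).map g))
    (hG'' : ∀ Y : Over S, Smooth Y.hom →
        Function.Bijective (fun g : Y ⟶ G'' => (Over.pullback j₀).map g)) :
    ∀ Y : Over S, Smooth Y.hom →
        Function.Bijective (fun g : Y ⟶ G => (Over.pullback j₀).map g) := by
  have h1 : ∀ (Z : Over S), Smooth Z.hom →
      ∀ gam : res j₀ Z ⟶ G', ∃! g : Z ⟶ G', eps j₀ Z ≫ g = gam :=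
    fun Z hZ => (bij_iff j₀ Z G').1 (hG' Z hZ)
  have h2 : ∀ (Z : Over S), Smooth Z.hom →
      ∀ gam : res j₀ Z ⟶ G'', ∃! g : Z ⟶ G'', eps j₀ Z ≫ g = gam :=
    fun Z hZ => (bij_iff j₀ Z G'').1 (hG'' Z hZ)
  have inj1 : ∀ (Z : Over S), Smooth Z.hom →
      ∀ u v : Z ⟶ G', eps j₀ Z ≫ u = eps j₀ Z ≫ v → u = v :=
    fun Z hZ u v h => (h1 Z hZ (eps j₀ Z ≫ v)).unique h rfl
  have inj2 : ∀ (Z : Over S), Smooth Z.hom →
      ∀ u v : Z ⟶ G'', eps j₀ Z ≫ u = eps j₀ Z ≫ v → u = v :=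
    fun Z hZ u v h => (h2 Z hZ (eps j₀ Z ≫ v)).unique h rfl
  have inj : ∀ (Z : Over S), Smooth Z.hom →
      ∀ u v : Z ⟶ G, eps j₀ Z ≫ u = eps j₀ Z ≫ v → u = v :=
    fun Z hZ => inj_ext i q hker j₀ (inj1 Z hZ) (inj2 Z hZ)
  haveI hsq : Smooth q.left := smooth_q i q hker
  intro Y hY
  haveI := hY
  rw [bij_iff]
  intro gam
  obtain ⟨ψ, hψ, -⟩ := h2 Y hY (gam ≫ q)
  obtain ⟨P, p₁, p₂, sqP⟩ : ∃ (P : Over S) (p₁ : P ⟶ Y) (p₂ : P ⟶ G), IsPullback p₁ p₂ ψ q :=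
    ⟨_, _, _, IsPullback.of_hasPullback ψ q⟩
  have sqPl : IsPullback p₁.left p₂.left ψ.left q.left := sqP.map (Over.forget S)
  haveI hp₁s : Smooth p₁.left := MorphismProperty.of_isPullback (P := @Smooth) sqPl.flip hsq
  haveI hp₁j : Surjective p₁.left :=
    MorphismProperty.of_isPullback (P := @Surjective) sqPl.flip inferInstance
  haveI hPs : Smooth P.hom := by rw [← Over.w p₁]; infer_instance
  have hcov : IsCov p₁.left := isCov_of_fppf p₁.left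
  obtain ⟨zt, hzt⟩ := factor j₀ (overS₀_res j₀ P) (eps j₀ P ≫ p₁)
  have hq1 : (eps j₀ P ≫ p₂) ≫ q = (zt ≫ gam) ≫ q := by
    calc (eps j₀ P ≫ p₂) ≫ q = eps j₀ P ≫ p₁ ≫ ψ := by rw [Category.assoc, sqP.w]
      _ = zt ≫ eps j₀ Y ≫ ψ := by rw [← Category.assoc, ← hzt, Category.assoc]
      _ = (zt ≫ gam) ≫ q := by rw [hψ, Category.assoc]
  obtain ⟨δ₀, hδ₀⟩ := ker_diff_right i q hker (eps j₀ P ≫ p₂) (zt ≫ gam) hq1
  obtain ⟨δ, hδ, -⟩ := h1 P hPs δ₀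
  obtain ⟨F, hFdef⟩ : ∃ F : P ⟶ G, F = p₂ * (δ ≫ i) := ⟨_, rfl⟩
  have hF : eps j₀ P ≫ F = zt ≫ gam := by
    rw [hFdef, MonObj.comp_mul, ← Category.assoc, hδ, hδ₀]
  -- descent along `p₁`
  obtain ⟨P₂, π₁, π₂, sq2⟩ : ∃ (P₂ : Over S) (π₁ π₂ : P₂ ⟶ P), IsPullback π₁ π₂ p₁ p₁ :=
    ⟨_, _, _, IsPullback.of_hasPullback p₁ p₁⟩
  have sq2l : IsPullback π₁.left π₂.left p₁.left p₁.left := sq2.map (Over.forget S)
  haveI : Smooth π₁.left := MorphismProperty.of_isPullback (P := @Smooth) sq2l.flip hp₁s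
  have hP₂s : Smooth P₂.hom := by rw [← Over.w π₁]; infer_instance
  have hdesc : π₁ ≫ F = π₂ ≫ F := by
    apply inj P₂ hP₂s
    obtain ⟨w₁, hw₁⟩ := factor j₀ (overS₀_res j₀ P₂) (eps j₀ P₂ ≫ π₁)
    obtain ⟨w₂, hw₂⟩ := factor j₀ (overS₀_res j₀ P₂) (eps j₀ P₂ ≫ π₂)
    have hw : w₁ ≫ zt = w₂ ≫ zt := by
      rw [← cancel_mono (eps j₀ Y), Category.assoc, Category.assoc, hzt, ← Category.assoc,
        ← Category.assoc, hw₁, hw₂, Category.assoc, Category.assoc, sq2.w]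
    calc eps j₀ P₂ ≫ π₁ ≫ F = w₁ ≫ eps j₀ P ≫ F := ((reassoc_of% hw₁) F).symm
      _ = w₁ ≫ zt ≫ gam := by rw [hF]
      _ = w₂ ≫ zt ≫ gam := (reassoc_of% hw) gam
      _ = w₂ ≫ eps j₀ P ≫ F := by rw [hF]
      _ = eps j₀ P₂ ≫ π₂ ≫ F := (reassoc_of% hw₂) F
  obtain ⟨g, hg⟩ := desc_of_isCov p₁ hcov F (by
    intro T a₁ a₂ ha
    calc a₁ ≫ F = (sq2.lift a₁ a₂ ha ≫ π₁) ≫ F := by rw [sq2.lift_fst]
      _ = (sq2.lift a₁ a₂ ha ≫ π₂) ≫ F := by simp only [Category.assoc, hdesc]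
      _ = a₂ ≫ F := by rw [sq2.lift_snd])
  -- the generic fibre
  obtain ⟨P', r₁, r₂, sq3⟩ : ∃ (P' : Over S) (r₁ : P' ⟶ res j₀ Y) (r₂ : P' ⟶ P),
      IsPullback r₁ r₂ (eps j₀ Y) p₁ := ⟨_, _, _, IsPullback.of_hasPullback (eps j₀ Y) p₁⟩
  have sq3l : IsPullback r₁.left r₂.left (eps j₀ Y).left p₁.left := sq3.map (Over.forget S)
  have hcov' : IsCov r₁.left := IsCov.of_isPullback sq3l.flip hcov
  haveI : Epi r₁ := epi_of_isCov r₁ hcov'
  obtain ⟨r₂', hr₂'⟩ := factor j₀ ((overS₀_res j₀ Y).of_hom j₀ r₁) r₂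
  have hr : r₂' ≫ zt = r₁ := by
    rw [← cancel_mono (eps j₀ Y), Category.assoc, hzt, ← Category.assoc, hr₂', sq3.w]
  have hfin : eps j₀ Y ≫ g = gam := by
    rw [← cancel_epi r₁]
    calc r₁ ≫ eps j₀ Y ≫ g = r₂ ≫ p₁ ≫ g := (reassoc_of% sq3.w) g
      _ = r₂ ≫ F := by rw [hg]
      _ = r₂' ≫ eps j₀ P ≫ F := by rw [← hr₂', Category.assoc]
      _ = r₂' ≫ zt ≫ gam := by rw [hF]
      _ = r₁ ≫ gam := by rw [← Category.assoc, hr]
  exact ⟨g, hfin, fun g' hg' => inj Y hY g' g (hg'.trans hfin.symm)⟩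

end Groth.Agent.Lib.NeronExt
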