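import Groth.Statements.S10927
import Groth.Agent.Lib.NeronExt_lead
import Groth.Agent.Lib.ClosedOrbit_lead
import Groth.Agent.Lib.SchImGrp_helper4
import Groth.Agent.Lib.CartierGrp_helper6

/-! # The orbit map of a homogeneous space in characteristic zero is smooth (lead) -/

set_option backward.isDefEq.respectTransparency false
set_option backward.isDefEq.respectTransparency.types false
set_option linter.unusedSimpArgs false
set_option linter.unusedVariables false
set_option linter.unusedSectionVars false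
set_option linter.style.longLine false
set_option linter.style.haveILetI false
set_option maxHeartbeats 800000

universe u

open CategoryTheory CategoryTheory.Limits MonoidalCategory CartesianMonoidalCategory MonObj GrpObj
  AlgebraicGeometry Opposite Topology TopologicalSpace

namespace Groth.Agent.Lib.OrbitSmooth

open Groth.Agent.Lib.AssocBundle Groth.Agent.Lib.TorsorSeq Groth.Agent.Lib.GenFlatHom
  Groth.Agent.Lib.ClosedOrbit Groth.Agent.Lib.TorsorGeomQuot

section stab

variable {S : Scheme.{u}} {G X : Over S} [GrpObj G] (a : AlgGrp.Action G X) (x : 𝟙_ (Over S) ⟶ X)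

theorem one_orbit {T : Over S} : (1 : T ⟶ G) ≫ a.orbitMap x = toUnit T ≫ x := by
  rw [orbit_pt, act_one']

theorem inv_orbit {T : Over S} (q : T ⟶ G) (hq : q ≫ a.orbitMap x = toUnit T ≫ x) :
    q⁻¹ ≫ a.orbitMap x = toUnit T ≫ x := by
  calc q⁻¹ ≫ a.orbitMap x = lift q⁻¹ (toUnit T ≫ x) ≫ a.act := orbit_pt a x _
    _ = lift q⁻¹ (q ≫ a.orbitMap x) ≫ a.act := by rw [hq]
    _ = (q⁻¹ * q) ≫ a.orbitMap x := (orbit_mul a x _ _).symm
    _ = toUnit T ≫ x := by rw [_root_.inv_mul_cancel, one_orbit]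

theorem mul_orbit {T : Over S} (g q : T ⟶ G) (hq : q ≫ a.orbitMap x = toUnit T ≫ x) :
    (g * q) ≫ a.orbitMap x = g ≫ a.orbitMap x := by
  rw [orbit_mul, hq, ← orbit_pt]

/-- the stabiliser of a section, as a representing object -/
theorem exists_stab :
    ∃ (St : Over S) (s : St ⟶ G), Mono s ∧ s ≫ a.orbitMap x = toUnit St ≫ x ∧
      (∀ (T : Over S) (g : T ⟶ G), g ≫ a.orbitMap x = toUnit T ≫ x → ∃ t : T ⟶ St, t ≫ s = g) ∧
      IsPullback s.left (toUnit St).left (a.orbitMap x).left x.left := by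
  haveI : Mono x := ⟨fun g h _ => toUnit_unique g h⟩
  refine ⟨pullback (a.orbitMap x) x, pullback.fst _ _, inferInstance, ?_, ?_, ?_⟩
  · rw [pullback.condition, toUnit_unique (pullback.snd (a.orbitMap x) x) (toUnit _)]
  · exact fun T g h => ⟨pullback.lift g (toUnit T) h, pullback.lift_fst _ _ _⟩
  · have h := (IsPullback.of_hasPullback (a.orbitMap x) x).map (Over.forget _)
    rw [toUnit_unique (pullback.snd (a.orbitMap x) x) (toUnit _)] at h
    exact h

variable {St : Over S} (s : St ⟶ G)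
  (hs : s ≫ a.orbitMap x = toUnit St ≫ x)
  (hlift : ∀ (T : Over S) (g : T ⟶ G), g ≫ a.orbitMap x = toUnit T ≫ x →
    ∃ t : T ⟶ St, t ≫ s = g)

include hs in
theorem stab_pt {T : Over S} (p : T ⟶ St) : (p ≫ s) ≫ a.orbitMap x = toUnit T ≫ x := by
  rw [Category.assoc, hs, ← Category.assoc, toUnit_unique (p ≫ toUnit St) (toUnit T)]

include hs hlift in
theorem exists_grpObj [Mono s] : ∃ (_ : GrpObj St), IsMonHom s := by
  have hη : (η[G] : 𝟙_ (Over S) ⟶ G) = 1 := by
    rw [Hom.one_def, toUnit_unique (toUnit _) (𝟙 _), Category.id_comp]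
  obtain ⟨e, he⟩ := hlift _ η[G] (by rw [hη]; exact one_orbit a x)
  have hten : (s ⊗ₘ s) ≫ μ[G] = (fst St St ≫ s) * (snd St St ≫ s) := by
    rw [Hom.mul_def]
    congr 1
  obtain ⟨m, hm⟩ := hlift _ ((s ⊗ₘ s) ≫ μ[G]) (by
    rw [hten, mul_orbit a x _ _ (stab_pt a x s hs _), stab_pt a x s hs])
  obtain ⟨iv, hiv⟩ := hlift _ (s ≫ ι[G]) (by
    rw [← Hom.inv_def]; exact inv_orbit a x s hs)
  letI grp : GrpObj St := SchImGrpH4.grpObjOfMono s e he m hm iv hiv
  exact ⟨grp, ⟨he, hm⟩⟩

include hs hlift in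
theorem cart_stab [Mono s] :
    IsPullback (lift (snd St G) (fst St G ≫ s) ≫ μ[G]) (snd St G) (a.orbitMap x)
      (a.orbitMap x) := by
  have e : ∀ {T : Over S} (m : T ⟶ St ⊗ G), m ≫ lift (snd St G) (fst St G ≫ s) ≫ μ[G] =
      (m ≫ snd St G) * ((m ≫ fst St G) ≫ s) := by
    intro T m; rw [comp_lift_assoc, ← Hom.mul_def, Category.assoc]
  apply isPullback_of_exists_unique
  · rw [← Hom.mul_def]
    exact mul_orbit a x _ _ (stab_pt a x s hs _)
  · intro T b c hbc
    have h0 : (c⁻¹ * b) ≫ a.orbitMap x = toUnit T ≫ x := by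
      rw [orbit_mul, hbc, ← orbit_mul, _root_.inv_mul_cancel, one_orbit]
    obtain ⟨p, hp⟩ := hlift T (c⁻¹ * b) h0
    refine ⟨lift p c, ?_, lift_snd _ _⟩
    rw [e, lift_snd, lift_fst, hp, _root_.mul_inv_cancel_left]
  · intro T l l' h1 h2
    rw [e, e, h2] at h1
    have h3 := _root_.mul_left_cancel h1
    apply CartesianMonoidalCategory.hom_ext
    · rw [← cancel_mono s]; exact h3
    · exact h2

end stab

section field

variable {k : Type u} [Field k]

theorem surj_orbit [IsAlgClosed k] (G X : Over (Spec (CommRingCat.of k))) [GrpObj G]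
    [LocallyOfFiniteType G.hom] [QuasiCompact G.hom] [LocallyOfFiniteType X.hom]
    [QuasiCompact X.hom] (a : AlgGrp.Action G X)
    (htrans : ∀ x x' : 𝟙_ (Over (Spec (CommRingCat.of k))) ⟶ X,
      ∃ σ : 𝟙_ (Over (Spec (CommRingCat.of k))) ⟶ G, lift σ x ≫ a.act = x')
    (x : 𝟙_ (Over (Spec (CommRingCat.of k))) ⟶ X) : Surjective (a.orbitMap x).left := by
  haveI : JacobsonSpace X.left :=
    LocallyOfFiniteType.jacobsonSpace (Y := Spec (CommRingCat.of k)) X.hom
  have hcp : ∀ y : X.left, IsClosed ({y} : Set X.left) →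
      y ∈ Set.range (a.orbitMap x).left := by
    intro y hy
    obtain ⟨x', hx'⟩ : ∃ x' : 𝟙_ (Over (Spec (CommRingCat.of k))) ⟶ X,
        ∀ t : (𝟙_ (Over (Spec (CommRingCat.of k)))).left, x'.left t = y :=
      ⟨Over.homMk (pointOfClosedPoint X.hom y hy)
        (by simpa using pointOfClosedPoint_comp X.hom y hy),
        fun t => pointOfClosedPoint_apply X.hom y hy t⟩
    obtain ⟨σ, hσ⟩ := htrans x x'
    obtain ⟨t⟩ : Nonempty ↥(Spec (CommRingCat.of k)) :=
      inferInstanceAs (Nonempty (PrimeSpectrum k))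
    refine ⟨σ.left t, ?_⟩
    have e : σ ≫ a.orbitMap x = x' := by
      rw [orbit_pt, toUnit_unique (toUnit _) (𝟙 _), Category.id_comp, hσ]
    rw [← comp_pt, e, hx']
  obtain ⟨U, Z, hU, hZ, hUZ⟩ := Groth.Agent.Lib.KPtsOrbit.main7984 k G X a x
  refine ⟨fun p => ?_⟩
  by_contra hp
  have hp' : p ∉ U ∩ Z := by rw [← hUZ]; exact hp
  have hsub : ∀ y, IsClosed ({y} : Set X.left) → y ∈ U ∩ Z :=
    fun y hy => by rw [← hUZ]; exact hcp y hy
  by_cases hpU : p ∈ U
  · have hpZ : p ∈ Zᶜ := fun h => hp' ⟨hpU, h⟩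
    obtain ⟨y, hyZ, hy⟩ :=
      nonempty_inter_closedPoints ⟨p, hpZ⟩ hZ.isOpen_compl.isLocallyClosed
    exact hyZ (hsub y (mem_closedPoints_iff.mp hy)).2
  · obtain ⟨y, hyU, hy⟩ :=
      nonempty_inter_closedPoints (Z := Uᶜ) ⟨p, hpU⟩ hU.isClosed_compl.isLocallyClosed
    exact hyU (hsub y (mem_closedPoints_iff.mp hy)).1

theorem main10927 [IsAlgClosed k] [CharZero k]
    (G X : Over (Spec (CommRingCat.of k))) [GrpObj G] (a : AlgGrp.Action G X)
    [LocallyOfFiniteType G.hom] [QuasiCompact G.hom]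
    [IsReduced X.left] [LocallyOfFiniteType X.hom] [QuasiCompact X.hom]
    (htrans : ∀ x x' : 𝟙_ (Over (Spec (CommRingCat.of k))) ⟶ X,
      ∃ σ : 𝟙_ (Over (Spec (CommRingCat.of k))) ⟶ G, lift σ x ≫ a.act = x')
    (x : 𝟙_ (Over (Spec (CommRingCat.of k))) ⟶ X) :
    Smooth (a.orbitMap x).left := by
  haveI := surj_orbit G X a htrans x
  haveI : Flat (a.orbitMap x).left := flat_orbit a x
  haveI : IsNoetherianRing (CommRingCat.of k) := inferInstanceAs (IsNoetherianRing k)
  haveI : IsLocallyNoetherian X.left := LocallyOfFiniteType.isLocallyNoetherian X.hom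
  haveI : LocallyOfFiniteType (a.orbitMap x).left := lft_hom _
  haveI : LocallyOfFinitePresentation (a.orbitMap x).left := inferInstance
  obtain ⟨St, s, hmono, hs, hlift, sq⟩ := exists_stab a x
  haveI := hmono
  obtain ⟨grp, -⟩ := exists_grpObj a x s hs hlift
  letI : GrpObj St := grp
  haveI : LocallyOfFiniteType x.left := by
    haveI : LocallyOfFiniteType (x.left ≫ X.hom) := by
      rw [Over.w x]
      show LocallyOfFiniteType (𝟙 _)
      infer_instance
    exact locallyOfFiniteType_of_comp x.left X.hom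
  haveI : LocallyOfFiniteType s.left :=
    MorphismProperty.of_isPullback (P := @LocallyOfFiniteType) sq.flip inferInstance
  haveI : LocallyOfFiniteType St.hom := by
    rw [← Over.w s]; infer_instance
  have hsm : Smooth St.hom := Groth.Agent.Lib.CartierGrpH6.main353 k St
  refine prop_of_bundle @Smooth (lift (snd St G) (fst St G ≫ s) ≫ μ[G]) (a.orbitMap x)
    (cart_stab a x s hs hlift) ?_ hsm
  refine ⟨Presieve.singleton (a.orbitMap x).left,
    Scheme.fppfPrecoverage_le_fpqcPrecoverage _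
      (a.orbitMap x).left.singleton_mem_fppfPrecoverage, ?_⟩
  rintro S' f ⟨⟩
  exact ⟨𝟙 _, Category.id_comp _⟩

end field

end Groth.Agent.Lib.OrbitSmooth
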