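import Groth.Statements.S16130
import Groth.Agent.Lib.OrbitQuot_lead
import Groth.Agent.Lib.OrbitSmooth_lead
import Groth.Agent.Lib.FibDimConst_lead
import Groth.Agent.Lib.GrpDim_helper8
import Groth.Agent.Lib.FibCoh7_helper8
import Groth.Agent.Lib.FieldBase_helper8
import Groth.Agent.Lib.EquidimAt2_helper8

/-! # dim G = dim (orbit) + dim (stabiliser) (lead) -/

set_option backward.isDefEq.respectTransparency false
set_option backward.isDefEq.respectTransparency.types false
set_option linter.unusedSimpArgs false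
set_option linter.unusedVariables false
set_option linter.unusedSectionVars false
set_option linter.style.longLine false
set_option linter.style.haveILetI false
set_option linter.unnecessarySimpa false
set_option maxHeartbeats 800000

universe u

open CategoryTheory CategoryTheory.Limits MonoidalCategory CartesianMonoidalCategory MonObj GrpObj
  AlgebraicGeometry Opposite Topology TopologicalSpace

namespace Groth.Agent.Lib.OrbitDim

open Groth.Agent.Lib.AssocBundle Groth.Agent.Lib.TorsorSeq Groth.Agent.Lib.GenFlatHom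
  Groth.Agent.Lib.ClosedOrbit

theorem isPullback_of_comp_mono {C : Type*} [Category C] {P A B Y X : C} {p : P ⟶ A} {q : P ⟶ B}
    {u : A ⟶ Y} {v : B ⟶ Y} (f : Y ⟶ X) [Mono f] (h : IsPullback p q (u ≫ f) (v ≫ f)) :
    IsPullback p q u v := by
  apply isPullback_of_exists_unique
  · rw [← cancel_mono f, Category.assoc, Category.assoc]; exact h.w
  · intro T a b hab
    exact ⟨h.lift a b (by rw [← Category.assoc, hab, Category.assoc]), h.lift_fst _ _ _,
      h.lift_snd _ _ _⟩
  · intro T l l' h1 h2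
    exact h.hom_ext h1 h2

section stab

variable {S : Scheme.{u}} {G X : Over S} [GrpObj G] (a : AlgGrp.Action G X) (x : 𝟙_ (Over S) ⟶ X)
  {St : Over S} (s : St ⟶ G)
  (hs : s ≫ a.orbitMap x = toUnit St ≫ x)
  (hlift : ∀ (T : Over S) (g : T ⟶ G), g ≫ a.orbitMap x = toUnit T ≫ x →
    ∃ t : T ⟶ St, t ≫ s = g)

include hs hlift in
theorem isPullback_stab [Mono s] : IsPullback s (toUnit St) (a.orbitMap x) x := by
  apply isPullback_of_exists_unique
  · exact hs
  · intro T g c hgc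
    rw [toUnit_unique c (toUnit T)] at hgc
    obtain ⟨t, ht⟩ := hlift T g hgc
    exact ⟨t, ht, toUnit_unique _ _⟩
  · intro T l l' h1 _
    exact (cancel_mono s).mp h1

end stab

variable {k : Type u} [Field k]

/-- the local fibre dimension of an equivariant map out of the group is constant -/
theorem fibreDimAt_const_equiv {G Y : Over (Spec (CommRingCat.of k))} [GrpObj G]
    (b : AlgGrp.Action G Y) (π : G ⟶ Y)
    (hπ : ∀ {T : Over (Spec (CommRingCat.of k))} (g h : T ⟶ G),
      (g * h) ≫ π = lift g (h ≫ π) ≫ b.act)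
    [LocallyOfFiniteType π.left] (x₁ x₂ : G.left) :
    FlatMor.fibreDimAt π.left x₁ = FlatMor.fibreDimAt π.left x₂ := by
  haveI hsub : Subsingleton ↥(Spec (CommRingCat.of k)) :=
    inferInstanceAs (Subsingleton (PrimeSpectrum k))
  obtain ⟨τX, hτX⟩ : ∃ τX : G ⊗ G ⟶ G ⊗ G, τX = lift (fst G G) (fst G G * snd G G) := ⟨_, rfl⟩
  obtain ⟨τX', hτX'⟩ : ∃ τX' : G ⊗ G ⟶ G ⊗ G, τX' = lift (fst G G) ((fst G G)⁻¹ * snd G G) :=
    ⟨_, rfl⟩
  obtain ⟨τY, hτY⟩ : ∃ τY : G ⊗ Y ⟶ G ⊗ Y, τY = lift (fst G Y) b.act := ⟨_, rfl⟩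
  obtain ⟨τY', hτY'⟩ : ∃ τY' : G ⊗ Y ⟶ G ⊗ Y,
      τY' = lift (fst G Y) (lift (fst G Y)⁻¹ (snd G Y) ≫ b.act) := ⟨_, rfl⟩
  have hW : G ◁ π = lift (fst G G) (snd G G ≫ π) := by
    apply CartesianMonoidalCategory.hom_ext <;> simp
  have h1 : τX ≫ τX' = 𝟙 _ := by
    rw [hτX', comp_lift, MonObj.comp_mul, GrpObj.comp_inv, hτX, lift_fst, lift_snd,
      _root_.inv_mul_cancel_left, lift_fst_snd]
  have h2 : τX' ≫ τX = 𝟙 _ := by
    rw [hτX, comp_lift, MonObj.comp_mul, hτX', lift_fst, lift_snd,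
      _root_.mul_inv_cancel_left, lift_fst_snd]
  have e1 : lift (fst G Y)⁻¹ b.act ≫ b.act = snd G Y := by
    have h := act_mul' b (fst G Y)⁻¹ (fst G Y) (snd G Y)
    rw [lift_fst_snd, Category.id_comp, _root_.inv_mul_cancel, act_one'] at h
    exact h.symm
  have h3 : τY ≫ τY' = 𝟙 _ := by
    rw [hτY', comp_lift, comp_lift_assoc, GrpObj.comp_inv, hτY, lift_fst, lift_snd, e1,
      lift_fst_snd]
  have h4 : τY' ≫ τY = 𝟙 _ := by
    rw [hτY, comp_lift, hτY', lift_fst, ← act_mul' b, _root_.mul_inv_cancel, act_one' b,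
      lift_fst_snd]
  have hcomm : τX ≫ (G ◁ π) = (G ◁ π) ≫ τY := by
    have hl : τX ≫ (G ◁ π) = lift (fst G G) ((fst G G * snd G G) ≫ π) := by
      rw [hW, comp_lift, ← Category.assoc, hτX, lift_fst, lift_snd]
    have hr : (G ◁ π) ≫ τY = lift (fst G G) (lift (fst G G) (snd G G ≫ π) ≫ b.act) := by
      rw [hτY, comp_lift, hW, lift_fst]
    rw [hl, hr, hπ]
  haveI : IsIso τX.left :=
    ⟨⟨τX'.left, by rw [← Over.comp_left, h1]; rfl, by rw [← Over.comp_left, h2]; rfl⟩⟩
  haveI : IsIso τY.left :=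
    ⟨⟨τY'.left, by rw [← Over.comp_left, h3]; rfl, by rw [← Over.comp_left, h4]; rfl⟩⟩
  have sqA : IsPullback τX.left (G ◁ π).left (G ◁ π).left τY.left :=
    IsPullback.of_horiz_isIso ⟨by rw [← Over.comp_left, ← Over.comp_left, hcomm]⟩
  have sqB : IsPullback (snd G G).left (G ◁ π).left π.left (snd G Y).left :=
    (Groth.Agent.Lib.FinGrpSplit.isPullback_whiskerLeft G π).flip
  haveI : LocallyOfFiniteType (G ◁ π).left :=
    MorphismProperty.of_isPullback (P := @LocallyOfFiniteType) sqB inferInstance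
  have eA : ∀ z : (G ⊗ G).left, FlatMor.fibreDimAt (G ◁ π).left z =
      FlatMor.fibreDimAt (G ◁ π).left (τX.left z) :=
    fun z => FieldExtH8.fibreDimAt_baseChange (G ◁ π).left τY.left τX.left (G ◁ π).left sqA z
  have eB : ∀ z : (G ⊗ G).left, FlatMor.fibreDimAt (G ◁ π).left z =
      FlatMor.fibreDimAt π.left ((snd G G).left z) :=
    fun z => FieldExtH8.fibreDimAt_baseChange π.left (snd G Y).left (snd G G).left (G ◁ π).left
      sqB z
  haveI hsub' : Subsingleton ↥(𝟙_ (Over (Spec (CommRingCat.of k)))).left :=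
    (inferInstance : Subsingleton (PrimeSpectrum k))
  have hpb : IsPullback (fst G G).left (snd G G).left (toUnit G).left (toUnit G).left :=
    (Groth.Agent.Lib.GenFlatHom.isPullback_fst_snd G G).map (Over.forget _)
  obtain ⟨w, hw1, hw2⟩ := Groth.Agent.Lib.ClosedOrbit.exists_of_isPullback hpb x₁ x₂
    (Subsingleton.elim _ _)
  obtain ⟨σ', hσ'⟩ : ∃ σ' : G ⊗ G ⟶ G ⊗ G,
      σ' = lift (snd G G * (fst G G)⁻¹) (fst G G) := ⟨_, rfl⟩
  have hs1 : σ' ≫ snd G G = fst G G := by rw [hσ', lift_snd]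
  have hs2 : σ' ≫ τX ≫ snd G G = snd G G := by
    rw [hτX, lift_snd, MonObj.comp_mul, hσ', lift_fst, lift_snd, _root_.inv_mul_cancel_right]
  have e1' : (snd G G).left (σ'.left w) = x₁ := by
    rw [← comp_pt, hs1]; exact hw1
  have e2' : (snd G G).left (τX.left (σ'.left w)) = x₂ := by
    rw [← comp_pt, ← comp_pt, hs2]; exact hw2
  rw [← e1', ← eB, eA, eB, e2']

theorem wb_arith (nG nS : ℕ) (ℓ : WithBot ℕ∞)
    (h : ((nG : ℕ∞) : WithBot ℕ∞) = ((nS : ℕ∞) : WithBot ℕ∞) + ℓ) :
    nS ≤ nG ∧ ℓ = ((nG - nS : ℕ) : WithBot ℕ∞) := by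
  induction ℓ using WithBot.recBotCoe with
  | bot => rw [WithBot.add_bot] at h; exact absurd h (by simp)
  | coe a =>
    induction a using ENat.recTopCoe with
    | top =>
      exfalso
      have h' : ((nG : ℕ∞) : WithBot ℕ∞) = ((((nS : ℕ∞) + ⊤ : ℕ∞)) : WithBot ℕ∞) := by
        rw [h, WithBot.coe_add]
      rw [add_top] at h'
      exact ENat.coe_ne_top nG (WithBot.coe_injective h')
    | coe m =>
      have h' : nG = nS + m := by exact_mod_cast h
      refine ⟨by omega, ?_⟩
      obtain rfl : m = nG - nS := by omega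
      rfl

theorem main16130 [IsAlgClosed k]
    (G X : Over (Spec (CommRingCat.of k))) [GrpObj G] [Smooth G.hom] [QuasiCompact G.hom]
    [LocallyOfFiniteType X.hom] [QuasiCompact X.hom]
    (a : AlgGrp.Action G X) (x : 𝟙_ (Over (Spec (CommRingCat.of k))) ⟶ X) :
    topologicalKrullDim ↥G.left =
      topologicalKrullDim ↥(Set.range (a.orbitMap x).left.base) +
        topologicalKrullDim ↥(Limits.pullback (a.orbitMap x).left x.left) := by
  haveI : LocallyOfFiniteType G.hom := inferInstance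
  haveI hsub : Subsingleton ↥(Spec (CommRingCat.of k)) :=
    inferInstanceAs (Subsingleton (PrimeSpectrum k))
  obtain ⟨St, s, hmono, hs, hlift, sqS⟩ := Groth.Agent.Lib.OrbitSmooth.exists_stab a x
  haveI := hmono
  obtain ⟨grp, hmon⟩ := Groth.Agent.Lib.OrbitSmooth.exists_grpObj a x s hs hlift
  letI : GrpObj St := grp
  haveI : IsMonHom s := hmon
  have hGo : IsPullback s (toUnit St) (a.orbitMap x) x := isPullback_stab a x s hs hlift
  obtain ⟨Y, b, y, f, ⟨hYlft, hflat, hsurj, hsq⟩, hequiv, hy, himm⟩ :=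
    Groth.Agent.Lib.OrbitQuot.main8022 k G X St a x s hGo
  obtain ⟨π', hπ'⟩ : ∃ π' : G ⟶ Y, π' = b.orbitMap y := ⟨_, rfl⟩
  rw [← hπ'] at hflat hsurj hsq
  haveI := hYlft
  haveI := hflat
  haveI := hsurj
  haveI := himm
  have hπmul : ∀ {T : Over (Spec (CommRingCat.of k))} (g h : T ⟶ G),
      (g * h) ≫ π' = lift g (h ≫ π') ≫ b.act := by
    intro T g h; rw [hπ']; exact orbit_mul b y g h
  have hπf : π' ≫ f = a.orbitMap x := by
    rw [hπ']
    unfold AlgGrp.Action.orbitMap
    rw [Category.assoc, ← hequiv, lift_whiskerLeft_assoc, Category.assoc, hy]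
  haveI : LocallyOfFiniteType π'.left := lft_hom π'
  haveI : LocallyOfFiniteType x.left := by
    haveI : LocallyOfFiniteType (x.left ≫ X.hom) := by
      rw [Over.w x]
      show LocallyOfFiniteType (𝟙 _)
      infer_instance
    exact locallyOfFiniteType_of_comp x.left X.hom
  haveI : LocallyOfFiniteType s.left :=
    MorphismProperty.of_isPullback (P := @LocallyOfFiniteType) sqS.flip inferInstance
  haveI : LocallyOfFiniteType St.hom := by
    rw [← Over.w s]; infer_instance
  obtain ⟨nG, hnG⟩ := Groth.Agent.Lib.AbSubvar.exists_nat_dim G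
  obtain ⟨nS, hnS⟩ := Groth.Agent.Lib.AbSubvar.exists_nat_dim St
  haveI : Mono f.left := inferInstance
  have sqS' : IsPullback s.left (toUnit St).left π'.left y.left := by
    apply isPullback_of_comp_mono f.left
    have e1 : π'.left ≫ f.left = (a.orbitMap x).left := by rw [← Over.comp_left, hπf]
    have e2 : y.left ≫ f.left = x.left := by rw [← Over.comp_left, hy]
    rw [e1, e2]; exact sqS
  obtain ⟨pt⟩ : Nonempty ↥(Spec (CommRingCat.of k)) :=
    inferInstanceAs (Nonempty (PrimeSpectrum k))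
  haveI hsub' : Subsingleton ↥(𝟙_ (Over (Spec (CommRingCat.of k)))).left := hsub
  obtain ⟨z₀, hz₀⟩ : ∃ z₀ : St.left, z₀ = (η[St]).left pt := ⟨_, rfl⟩
  have hc0 : FlatMor.fibreDimAt π'.left (s.left z₀) = ((nS : ℕ∞) : WithBot ℕ∞) := by
    rw [← FieldExtH8.fibreDimAt_baseChange π'.left y.left s.left (toUnit St).left sqS' z₀,
      FieldBaseH8.fibreDimAt_to_field, GrpDimH8.localDim_eq_dim k St z₀, hnS]
  have hc : ∀ g : G.left, FlatMor.fibreDimAt π'.left g = ((nS : ℕ∞) : WithBot ℕ∞) := by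
    intro g
    rw [← hc0]
    exact fibreDimAt_const_equiv b π' hπmul g _
  have hloc : ∀ g : G.left, ((nG : ℕ∞) : WithBot ℕ∞) =
      ((nS : ℕ∞) : WithBot ℕ∞) + FlatMor.localDim ↥Y.left (π'.left g) := by
    intro g
    have h1 := (FibCohH8.fibreDimAt_comp π'.left Y.hom g).2 (Flat.stalkMap π'.left g)
    rw [FieldBaseH8.fibreDimAt_to_field (π'.left ≫ Y.hom) g,
      FieldBaseH8.fibreDimAt_to_field Y.hom (π'.left g), hc g,
      GrpDimH8.localDim_eq_dim k G g, hnG] at h1
    exact h1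
  have hle : nS ≤ nG := (wb_arith nG nS _ (hloc ((η[G]).left pt))).1
  have hlocY : ∀ y' : Y.left, FlatMor.localDim ↥Y.left y' = ((nG - nS : ℕ) : WithBot ℕ∞) := by
    intro y'
    obtain ⟨g, rfl⟩ := π'.left.surjective y'
    exact (wb_arith nG nS _ (hloc g)).2
  haveI : Nonempty Y.left := ⟨y.left pt⟩
  have hdimY : topologicalKrullDim ↥Y.left = ((nG - nS : ℕ) : WithBot ℕ∞) :=
    Groth.Agent.Lib.EquidimAtH8.topDim_eq_of_localDim k Y.left Y.hom (nG - nS) hlocY
  have hr : Set.range f.left.base = Set.range (a.orbitMap x).left.base := by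
    ext t
    constructor
    · rintro ⟨u, rfl⟩
      obtain ⟨g, rfl⟩ := π'.left.surjective u
      exact ⟨g, by rw [← hπf]; rfl⟩
    · rintro ⟨g, rfl⟩
      exact ⟨π'.left g, by rw [← hπf]; rfl⟩
  have hdimO : topologicalKrullDim ↥(Set.range (a.orbitMap x).left.base) =
      topologicalKrullDim ↥Y.left :=
    (IsHomeomorph.topologicalKrullDim_eq _
      (f.left.isEmbedding.toHomeomorph.trans (Homeomorph.setCongr hr)).isHomeomorph).symm
  have hdimSt : topologicalKrullDim ↥St.left =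
      topologicalKrullDim ↥(Limits.pullback (a.orbitMap x).left x.left) :=
    IsHomeomorph.topologicalKrullDim_eq _ (Scheme.homeoOfIso sqS.isoPullback).isHomeomorph
  rw [hdimO, hdimY, ← hdimSt, hnS, hnG]
  have : nG = (nG - nS) + nS := by omega
  have e3 : ((nG - nS : ℕ) : WithBot ℕ∞) = (((nG - nS : ℕ) : ℕ∞) : WithBot ℕ∞) := rfl
  rw [e3, ← WithBot.coe_add]
  congr 1
  exact_mod_cast this

end Groth.Agent.Lib.OrbitDim
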