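import Groth.Statements.S14596
import Groth.Agent.Lib.OrbitDim_lead
import Groth.Agent.Lib.CoreKer_lead
import Groth.Agent.Lib.NoethConn_helper3
import Groth.Agent.Lib.LftFieldPts_helper7
import Groth.Agent.Lib.QSecA_helper8

/-! # G / (G⁰)_red is finite, and (G⁰)_red is the smallest subgroup with finite quotient (lead) -/

set_option backward.isDefEq.respectTransparency false
set_option backward.isDefEq.respectTransparency.types false
set_option linter.unusedSimpArgs false
set_option linter.unusedVariables false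
set_option linter.unusedSectionVars false
set_option linter.style.longLine false
set_option linter.style.haveILetI false
set_option linter.unnecessarySimpa false
set_option maxHeartbeats 800000

universe u

open CategoryTheory CategoryTheory.Limits MonoidalCategory CartesianMonoidalCategory MonObj GrpObj
  AlgebraicGeometry Opposite Topology TopologicalSpace

namespace Groth.Agent.Lib.FinQuotRed

open Groth.Agent.Lib.AssocBundle Groth.Agent.Lib.TorsorSeq Groth.Agent.Lib.GenFlatHom
  Groth.Agent.Lib.ClosedOrbit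

/-- the subgroup is the fibre of the orbit map of the quotient over the base point -/
theorem isPullback_fibre {S : Scheme.{u}} {G H X : Over S} [GrpObj G] [GrpObj H] (i : H ⟶ G) [Mono i]
    (a : AlgGrp.Action G X) (o : 𝟙_ (Over S) ⟶ X)
    (hpb : IsPullback (fst G H) ((G ◁ i) ≫ μ[G]) (a.orbitMap o) (a.orbitMap o)) :
    IsPullback i (toUnit H) (a.orbitMap o) o := by
  have hw : i ≫ a.orbitMap o = toUnit H ≫ o := by
    have h := Groth.Agent.Lib.CoreKer.mul_orbit i a o hpb (1 : H ⟶ G) (𝟙 H)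
    rw [Category.id_comp, _root_.one_mul, Groth.Agent.Lib.CoreKer.one_orbit] at h
    exact h
  refine isPullback_of_exists_unique _ _ _ _ hw ?_ ?_
  · intro T g u hgu
    have h1 : (1 : T ⟶ G) ≫ a.orbitMap o = g ≫ a.orbitMap o := by
      rw [Groth.Agent.Lib.CoreKer.one_orbit, hgu, toUnit_unique u (toUnit T)]
    obtain ⟨h', hh'⟩ := Groth.Agent.Lib.CoreKer.exists_of_eq_orbit i a o hpb 1 g h1
    refine ⟨h', ?_, toUnit_unique _ _⟩
    rw [hh', _root_.one_mul]
  · intro T l l' h1 _
    exact (cancel_mono i).mp h1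

variable (k : Type u) [Field k]

theorem finite_quot
    (G G₀ X : Over (Spec (CommRingCat.of k))) [GrpObj G] [GrpObj G₀]
    [LocallyOfFiniteType G.hom] [QuasiCompact G.hom] [LocallyOfFiniteType G₀.hom]
    (r₀ : G₀ ⟶ G) [IsMonHom r₀] [IsClosedImmersion r₀.left]
    (t : ↥((𝟙_ (Over (Spec (CommRingCat.of k)))).left))
    (hr₀ : Set.range ⇑r₀.left.base = connectedComponent ((η[G]).left.base t))
    (a : AlgGrp.Action G X) (o : 𝟙_ _ ⟶ X) (hX : AGF.IsQuotient r₀ X a o) : IsFinite X.hom := by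
  haveI hsub : Subsingleton ↥(Spec (CommRingCat.of k)) :=
    inferInstanceAs (Subsingleton (PrimeSpectrum k))
  obtain ⟨hXl, hflat, hsurj, hsq⟩ := hX
  haveI : Mono r₀.left := inferInstance
  haveI : Mono r₀ := Over.mono_of_mono_left r₀
  have sqO : IsPullback r₀ (toUnit G₀) (a.orbitMap o) o := isPullback_fibre r₀ a o hsq
  obtain ⟨π, hπ⟩ : ∃ π : G ⟶ X, π = a.orbitMap o := ⟨_, rfl⟩
  rw [← hπ] at hflat hsurj sqO
  haveI := hXl
  haveI := hflat
  haveI := hsurj
  have hπmul : ∀ {T : Over (Spec (CommRingCat.of k))} (g h : T ⟶ G),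
      (g * h) ≫ π = lift g (h ≫ π) ≫ a.act := by
    intro T g h; rw [hπ]; exact orbit_mul a o g h
  haveI : LocallyOfFiniteType π.left := lft_hom π
  haveI : LocallyOfFiniteType o.left := by
    haveI : LocallyOfFiniteType (o.left ≫ X.hom) := by
      rw [Over.w o]
      show LocallyOfFiniteType (𝟙 _)
      infer_instance
    exact locallyOfFiniteType_of_comp o.left X.hom
  have sqS' : IsPullback r₀.left (toUnit G₀).left π.left o.left := sqO.map (Over.forget _)
  obtain ⟨nG, hnG⟩ := Groth.Agent.Lib.AbSubvar.exists_nat_dim G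
  obtain ⟨nS, hnS⟩ := Groth.Agent.Lib.AbSubvar.exists_nat_dim G₀
  obtain ⟨pt⟩ : Nonempty ↥(Spec (CommRingCat.of k)) :=
    inferInstanceAs (Nonempty (PrimeSpectrum k))
  haveI hsub' : Subsingleton ↥(𝟙_ (Over (Spec (CommRingCat.of k)))).left := hsub
  obtain ⟨z₀, hz₀⟩ : ∃ z₀ : G₀.left, z₀ = (η[G₀]).left pt := ⟨_, rfl⟩
  have hc0 : FlatMor.fibreDimAt π.left (r₀.left z₀) = ((nS : ℕ∞) : WithBot ℕ∞) := by
    rw [← FieldExtH8.fibreDimAt_baseChange π.left o.left r₀.left (toUnit G₀).left sqS' z₀,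
      FieldBaseH8.fibreDimAt_to_field, GrpDimH8.localDim_eq_dim k G₀ z₀, hnS]
  have hc : ∀ g : G.left, FlatMor.fibreDimAt π.left g = ((nS : ℕ∞) : WithBot ℕ∞) := by
    intro g
    rw [← hc0]
    exact Groth.Agent.Lib.OrbitDim.fibreDimAt_const_equiv a π hπmul g _
  have hloc : ∀ g : G.left, ((nG : ℕ∞) : WithBot ℕ∞) =
      ((nS : ℕ∞) : WithBot ℕ∞) + FlatMor.localDim ↥X.left (π.left g) := by
    intro g
    have h1 := (FibCohH8.fibreDimAt_comp π.left X.hom g).2 (Flat.stalkMap π.left g)
    rw [FieldBaseH8.fibreDimAt_to_field (π.left ≫ X.hom) g,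
      FieldBaseH8.fibreDimAt_to_field X.hom (π.left g), hc g,
      GrpDimH8.localDim_eq_dim k G g, hnG] at h1
    exact h1
  have hlocY : ∀ y' : X.left, FlatMor.localDim ↥X.left y' = ((nG - nS : ℕ) : WithBot ℕ∞) := by
    intro y'
    obtain ⟨g, rfl⟩ := π.left.surjective y'
    exact (Groth.Agent.Lib.OrbitDim.wb_arith nG nS _ (hloc g)).2
  -- the base point is open
  haveI : IsNoetherianRing (CommRingCat.of k) := inferInstanceAs (IsNoetherianRing k)
  haveI : IsLocallyNoetherian G.left := LocallyOfFiniteType.isLocallyNoetherian G.hom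
  haveI : IsLocallyNoetherian X.left := LocallyOfFiniteType.isLocallyNoetherian X.hom
  haveI : CompactSpace G.left := QuasiCompact.compactSpace_of_compactSpace G.hom
  haveI : IsNoetherian G.left := {}
  haveI : NoetherianSpace G.left := inferInstance
  have hWo : IsOpen (Set.range r₀.left.base) := by
    rw [hr₀]
    exact Groth.Agent.Lib.NoethConn_helper3.isOpen_connectedComponent_of_noetherianSpace _
  haveI : LocallyOfFinitePresentation π.left := inferInstance
  haveI : UniversallyOpen π.left := inferInstance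
  have hconst : ∀ z : G₀.left, π.left (r₀.left z) = o.left pt := by
    intro z
    have h1 : (r₀.left ≫ π.left) z = ((toUnit G₀).left ≫ o.left) z := by rw [sqS'.w]
    calc π.left (r₀.left z) = ((toUnit G₀).left ≫ o.left) z := h1
      _ = o.left pt := by
        rw [Scheme.Hom.comp_apply]
        congr 1
        exact Subsingleton.elim _ _
  have himg : π.left.base '' (Set.range r₀.left.base) = {o.left pt} := by
    ext x
    constructor
    · rintro ⟨_, ⟨z, rfl⟩, rfl⟩
      exact hconst z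
    · intro hx
      rw [Set.mem_singleton_iff] at hx
      exact ⟨r₀.left z₀, ⟨z₀, rfl⟩, (hconst z₀).trans hx.symm⟩
  have hopt : IsOpen ({o.left pt} : Set X.left) := by
    rw [← himg]
    exact π.left.isOpenMap _ hWo
  have h0 : ((nG - nS : ℕ) : WithBot ℕ∞) = 0 := by
    rw [← hlocY (o.left pt)]
    exact Groth.Agent.Lib.LftFieldPtsH7.localDim_eq_zero_of_isOpen_singleton _ hopt
  haveI : LocallyQuasiFinite X.hom := by
    apply QSecH8.locallyQuasiFinite_of_fibreDimAt_le_zero
    intro x
    rw [FieldBaseH8.fibreDimAt_to_field X.hom x, hlocY x, h0]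
  haveI : CompactSpace X.left :=
    ⟨by rw [← Set.range_eq_univ.mpr π.left.surjective]; exact isCompact_range π.left.continuous⟩
  haveI : QuasiCompact X.hom := quasiCompact_of_compactSpace _
  haveI : IsLocallyArtinian (Spec (CommRingCat.of k)) :=
    Scheme.isLocallyArtinianScheme_Spec.mpr (inferInstanceAs (IsArtinianRing k))
  exact IsFinite.of_locallyQuasiFinite X.hom

theorem sub_of_finite
    (G G₀ H X : Over (Spec (CommRingCat.of k))) [GrpObj G] [GrpObj G₀] [GrpObj H]
    (r₀ : G₀ ⟶ G) [IsMonHom r₀] [IsClosedImmersion r₀.left] [IsReduced G₀.left]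
    (t : ↥((𝟙_ (Over (Spec (CommRingCat.of k)))).left))
    (hr₀ : Set.range ⇑r₀.left.base = connectedComponent ((η[G]).left.base t))
    (h : H ⟶ G)
    (a : AlgGrp.Action G X) (o : 𝟙_ _ ⟶ X) (hX : AGF.IsQuotient h X a o) [IsFinite X.hom] :
    ∃ g : G₀ ⟶ H, g ≫ h = r₀ := by
  haveI hsub : Subsingleton ↥(Spec (CommRingCat.of k)) :=
    inferInstanceAs (Subsingleton (PrimeSpectrum k))
  obtain ⟨hXl, hflat, hsurj, hsq⟩ := hX
  haveI : IsLocallyArtinian (Spec (CommRingCat.of k)) :=
    Scheme.isLocallyArtinianScheme_Spec.mpr (inferInstanceAs (IsArtinianRing k))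
  haveI : IsLocallyArtinian X.left := IsLocallyArtinian.of_locallyQuasiFinite X.hom
  haveI : DiscreteTopology X.left := inferInstance
  haveI : PreconnectedSpace G₀.left := by
    constructor
    have hpc : _root_.IsPreconnected (Set.range r₀.left.base) := by
      rw [hr₀]; exact isPreconnected_connectedComponent
    rw [← Set.image_univ] at hpc
    exact (r₀.left.isEmbedding.isInducing.isPreconnected_image).mp hpc
  obtain ⟨φ, hφ⟩ : ∃ φ : G₀ ⟶ X, φ = r₀ ≫ a.orbitMap o := ⟨_, rfl⟩
  obtain ⟨pt⟩ : Nonempty ↥(Spec (CommRingCat.of k)) :=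
    inferInstanceAs (Nonempty (PrimeSpectrum k))
  have he : φ.left (η[G₀].left pt) = o.left pt := by
    have e1 : η[G₀] ≫ φ = o := by
      rw [hφ, ← Category.assoc, IsMonHom.one_hom r₀]
      have h1 := Groth.Agent.Lib.CoreKer.one_orbit a o (T := 𝟙_ (Over (Spec (CommRingCat.of k))))
      rw [Hom.one_def, toUnit_unit, Category.id_comp, Category.id_comp] at h1
      exact h1
    rw [← e1]
    rfl
  have hconst : ∀ z : G₀.left, φ.left z = o.left pt := by
    intro z
    have hpre : _root_.IsPreconnected (Set.range φ.left.base) := isPreconnected_range φ.left.continuous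
    have h1 := hpre.subsingleton ⟨z, rfl⟩ ⟨η[G₀].left pt, rfl⟩
    exact h1.trans he
  haveI : IsSeparated X.hom := inferInstance
  haveI : IsClosedImmersion o.left := by
    haveI : IsClosedImmersion (o.left ≫ X.hom) := by
      rw [Over.w o]
      show IsClosedImmersion (𝟙 _)
      infer_instance
    exact IsClosedImmersion.of_comp o.left X.hom
  haveI : Surjective (pullback.fst φ.left o.left) := ⟨fun z => by
    obtain ⟨w, hw1, hw2⟩ := Scheme.Pullback.exists_preimage_pullback (f := φ.left) (g := o.left)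
      z pt (hconst z)
    exact ⟨w, hw1⟩⟩
  haveI : IsIso (pullback.fst φ.left o.left) := isIso_of_isClosedImmersion_of_surjective _
  obtain ⟨u, hu⟩ : ∃ u : G₀.left ⟶ (𝟙_ (Over (Spec (CommRingCat.of k)))).left,
      u = inv (pullback.fst φ.left o.left) ≫ pullback.snd φ.left o.left := ⟨_, rfl⟩
  have hfac : u ≫ o.left = φ.left := by
    rw [hu, Category.assoc, ← pullback.condition, IsIso.inv_hom_id_assoc]
  have hw : u ≫ (𝟙_ (Over (Spec (CommRingCat.of k)))).hom = G₀.hom := by
    have h1 : o.left ≫ X.hom = (𝟙_ (Over (Spec (CommRingCat.of k)))).hom := Over.w o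
    rw [← h1, ← Category.assoc, hfac, Over.w φ]
  have hφo : φ = toUnit G₀ ≫ o := by
    have e : Over.homMk u hw = toUnit G₀ := toUnit_unique _ _
    rw [← e]
    ext1
    exact hfac.symm
  have h1 : (1 : G₀ ⟶ G) ≫ a.orbitMap o = r₀ ≫ a.orbitMap o := by
    rw [Groth.Agent.Lib.CoreKer.one_orbit, ← hφ, hφo]
  obtain ⟨g, hg⟩ := Groth.Agent.Lib.CoreKer.exists_of_eq_orbit h a o hsq 1 r₀ h1
  exact ⟨g, by rw [hg, _root_.one_mul]⟩

theorem main14596 [PerfectField k]
    (G G₀ : Over (Spec (CommRingCat.of k))) [GrpObj G] [GrpObj G₀] [LocallyOfFiniteType G.hom] [QuasiCompact G.hom]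
    [LocallyOfFiniteType G₀.hom] [QuasiCompact G₀.hom]
    (r₀ : G₀ ⟶ G) [IsMonHom r₀] [IsClosedImmersion r₀.left] [IsReduced G₀.left] (t : ↥((𝟙_ (Over (Spec (CommRingCat.of k)))).left))
    (hr₀ : Set.range ⇑r₀.left.base = connectedComponent ((η[G]).left.base t)) :
    (∀ (X : Over (Spec (CommRingCat.of k))) (a : AlgGrp.Action G X) (o : 𝟙_ (Over (Spec (CommRingCat.of k))) ⟶ X), AGF.IsQuotient r₀ X a o → IsFinite X.hom) ∧
    ∀ (H : Over (Spec (CommRingCat.of k))) [GrpObj H] (h : H ⟶ G) [IsMonHom h] [IsClosedImmersion h.left]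
      (X : Over (Spec (CommRingCat.of k))) (a : AlgGrp.Action G X) (o : 𝟙_ (Over (Spec (CommRingCat.of k))) ⟶ X),
      AGF.IsQuotient h X a o → IsFinite X.hom → ∃ g : G₀ ⟶ H, g ≫ h = r₀ := by
  refine ⟨fun X a o hX => finite_quot k G G₀ X r₀ t hr₀ a o hX, ?_⟩
  intro H _ h _ _ X a o hX hfin
  haveI := hfin
  exact sub_of_finite k G G₀ H X r₀ t hr₀ h a o hX

end Groth.Agent.Lib.FinQuotRed
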