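import Mathlib
import Groth.Prelude.Def_GLin
import Groth.Prelude.Def_Hoch

/-!
# Total integrals and comodule retractions of the coaction (Doi)

For a commutative Hopf algebra `A` coacting on a commutative algebra `B` by an algebra map `ρ`, a total integral
`α : A → B` gives the comodule retraction `b ⊗ a ↦ Σ b₀ α(S(b₁) a)` of `ρ`, and conversely.
-/

set_option autoImplicit false
set_option maxHeartbeats 1000000
universe u v w
open TensorProduct

namespace TotIntH1

variable (k : Type u) [CommRing k] (A : Type v) [CommRing A] [HopfAlgebra k A]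
variable (B : Type w) [CommRing B] [Algebra k B] [HopfRep.Comod k A B] [GLin.IsCoactAlg k A B]

/-- the coaction as a linear map -/
noncomputable abbrev co : B →ₗ[k] B ⊗[k] A := HopfRep.Comod.coact (k := k) (A := A)

theorem co_one : co k A B 1 = 1 := GLin.IsCoactAlg.coact_one (k := k) (A := A) (R := B)

theorem co_mul (f g : B) : co k A B (f * g) = co k A B f * co k A B g :=
  GLin.IsCoactAlg.coact_mul (k := k) (A := A) f g

theorem rho_apply (b : B) : GLin.coactAlgHom k A B b = co k A B b := rfl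

@[simp] theorem antipodeAlgHom_apply' (a : A) :
    HopfAlgebra.antipodeAlgHom k A a = HopfAlgebraStruct.antipode k a := rfl

theorem coassoc_apply (b : B) :
    (co k A B).rTensor A (co k A B b) =
      (TensorProduct.assoc k B A A).symm
        ((CoalgebraStruct.comul (R := k) (A := A)).lTensor B (co k A B b)) := by
  have h := LinearMap.congr_fun (HopfRep.Comod.coassoc (k := k) (A := A) (V := B)) b
  simp only [LinearMap.comp_apply, LinearEquiv.coe_coe] at h
  rw [← h, LinearEquiv.symm_apply_apply]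

theorem counit_apply (b : B) :
    (CoalgebraStruct.counit (R := k) (A := A)).lTensor B (co k A B b) = b ⊗ₜ[k] (1 : k) := by
  have h := LinearMap.congr_fun (HopfRep.Comod.counit_comp (k := k) (A := A) (V := B)) b
  simpa using h

/-- `Θ (b ⊗ a) = ρ(b) (1 ⊗ a)` -/
noncomputable def Theta : B ⊗[k] A →ₐ[k] B ⊗[k] A :=
  Algebra.TensorProduct.lift (GLin.coactAlgHom k A B)
    (Algebra.TensorProduct.includeRight : A →ₐ[k] B ⊗[k] A) (fun _ _ => Commute.all _ _)

/-- `ξ b = Σ b₀ ⊗ S b₁` -/
noncomputable def xi : B →ₐ[k] B ⊗[k] A :=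
  (Algebra.TensorProduct.map (AlgHom.id k B) (HopfAlgebra.antipodeAlgHom k A)).comp
    (GLin.coactAlgHom k A B)

/-- `Ξ (b ⊗ a) = ξ(b) (1 ⊗ a)` -/
noncomputable def Xi : B ⊗[k] A →ₐ[k] B ⊗[k] A :=
  Algebra.TensorProduct.lift (xi k A B)
    (Algebra.TensorProduct.includeRight : A →ₐ[k] B ⊗[k] A) (fun _ _ => Commute.all _ _)

theorem Theta_tmul (b : B) (a : A) :
    Theta k A B (b ⊗ₜ[k] a) = co k A B b * ((1 : B) ⊗ₜ[k] a) := by
  simp [Theta, rho_apply]

theorem xi_apply (b : B) :
    xi k A B b =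
      Algebra.TensorProduct.map (AlgHom.id k B) (HopfAlgebra.antipodeAlgHom k A) (co k A B b) := rfl

theorem Xi_tmul (b : B) (a : A) :
    Xi k A B (b ⊗ₜ[k] a) =
      Algebra.TensorProduct.map (AlgHom.id k B) (HopfAlgebra.antipodeAlgHom k A) (co k A B b) *
        ((1 : B) ⊗ₜ[k] a) := by
  simp [Xi, xi_apply]

/-- `z ⊗ a ↦ (id ⊗ S)(z) (1 ⊗ a)` -/
noncomputable def GS : (B ⊗[k] A) ⊗[k] A →ₗ[k] B ⊗[k] A :=
  TensorProduct.lift
    (((LinearMap.mul k (B ⊗[k] A)).compl₂
        (Algebra.TensorProduct.includeRight : A →ₐ[k] B ⊗[k] A).toLinearMap) ∘ₗ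
      (Algebra.TensorProduct.map (AlgHom.id k B) (HopfAlgebra.antipodeAlgHom k A)).toLinearMap)

theorem GS_tmul (z : B ⊗[k] A) (a : A) :
    GS k A B (z ⊗ₜ[k] a) =
      Algebra.TensorProduct.map (AlgHom.id k B) (HopfAlgebra.antipodeAlgHom k A) z *
        ((1 : B) ⊗ₜ[k] a) := by
  simp only [GS, TensorProduct.lift.tmul, LinearMap.comp_apply, LinearMap.compl₂_apply,
    LinearMap.mul_apply', AlgHom.toLinearMap_apply, Algebra.TensorProduct.includeRight_apply]

/-- `z ⊗ a ↦ z (1 ⊗ a)` -/
noncomputable def GT : (B ⊗[k] A) ⊗[k] A →ₗ[k] B ⊗[k] A :=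
  TensorProduct.lift
    ((LinearMap.mul k (B ⊗[k] A)).compl₂
        (Algebra.TensorProduct.includeRight : A →ₐ[k] B ⊗[k] A).toLinearMap)

theorem GT_tmul (z : B ⊗[k] A) (a : A) :
    GT k A B (z ⊗ₜ[k] a) = z * ((1 : B) ⊗ₜ[k] a) := by
  simp [GT]

theorem Xi_eq (y : B ⊗[k] A) : Xi k A B y = GS k A B ((co k A B).rTensor A y) := by
  induction y using TensorProduct.induction_on with
  | zero => simp
  | add x y hx hy => simp only [map_add, hx, hy]
  | tmul b a => rw [Xi_tmul, LinearMap.rTensor_tmul, GS_tmul]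

theorem Theta_eq (y : B ⊗[k] A) : Theta k A B y = GT k A B ((co k A B).rTensor A y) := by
  induction y using TensorProduct.induction_on with
  | zero => simp
  | add x y hx hy => simp only [map_add, hx, hy]
  | tmul b a => rw [Theta_tmul, LinearMap.rTensor_tmul, GT_tmul]

theorem GS_assoc (b' : B) (t : A ⊗[k] A) :
    GS k A B ((TensorProduct.assoc k B A A).symm (b' ⊗ₜ[k] t)) =
      b' ⊗ₜ[k] (LinearMap.mul' k A ((HopfAlgebraStruct.antipode k (A := A)).rTensor A t)) := by
  induction t using TensorProduct.induction_on with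
  | zero => simp
  | add x y hx hy => simp only [map_add, TensorProduct.tmul_add, hx, hy]
  | tmul c c' =>
    rw [TensorProduct.assoc_symm_tmul, GS_tmul]
    simp

theorem GT_assoc (b' : B) (t : A ⊗[k] A) :
    GT k A B ((HopfAlgebraStruct.antipode k (A := A)).lTensor (B ⊗[k] A)
        ((TensorProduct.assoc k B A A).symm (b' ⊗ₜ[k] t))) =
      b' ⊗ₜ[k] (LinearMap.mul' k A ((HopfAlgebraStruct.antipode k (A := A)).lTensor A t)) := by
  induction t using TensorProduct.induction_on with
  | zero => simp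
  | add x y hx hy => simp only [map_add, TensorProduct.tmul_add, hx, hy]
  | tmul c c' =>
    rw [TensorProduct.assoc_symm_tmul, LinearMap.lTensor_tmul, GT_tmul]
    simp

theorem unit_counit_apply (b : B) :
    ((Algebra.linearMap k A) ∘ₗ (CoalgebraStruct.counit (R := k) (A := A))).lTensor B (co k A B b) =
      b ⊗ₜ[k] (1 : A) := by
  rw [LinearMap.lTensor_comp_apply, counit_apply, LinearMap.lTensor_tmul]
  simp

/-- `Ξ (ρ b) = b ⊗ 1` -/
theorem Xi_coact (b : B) : Xi k A B (co k A B b) = b ⊗ₜ[k] (1 : A) := by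
  rw [Xi_eq, coassoc_apply, ← unit_counit_apply]
  generalize co k A B b = x
  induction x using TensorProduct.induction_on with
  | zero => simp
  | add x y hx hy => simp only [map_add, hx, hy]
  | tmul b' c =>
    rw [LinearMap.lTensor_tmul, GS_assoc, HopfAlgebra.mul_antipode_rTensor_comul_apply,
      LinearMap.lTensor_tmul]
    rfl

theorem rTensor_map_antipode (x : B ⊗[k] A) :
    (co k A B).rTensor A
        (Algebra.TensorProduct.map (AlgHom.id k B) (HopfAlgebra.antipodeAlgHom k A) x) =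
      (HopfAlgebraStruct.antipode k (A := A)).lTensor (B ⊗[k] A) ((co k A B).rTensor A x) := by
  induction x using TensorProduct.induction_on with
  | zero => simp
  | add x y hx hy => simp only [map_add, hx, hy]
  | tmul b' c => simp

/-- `Θ (ξ b) = b ⊗ 1` -/
theorem Theta_xi (b : B) : Theta k A B (xi k A B b) = b ⊗ₜ[k] (1 : A) := by
  rw [xi_apply, Theta_eq, rTensor_map_antipode, coassoc_apply, ← unit_counit_apply]
  generalize co k A B b = x
  induction x using TensorProduct.induction_on with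
  | zero => simp
  | add x y hx hy => simp only [map_add, hx, hy]
  | tmul b' c =>
    rw [LinearMap.lTensor_tmul, GT_assoc, HopfAlgebra.mul_antipode_lTensor_comul_apply,
      LinearMap.lTensor_tmul]
    rfl

theorem Xi_comp_Theta : (Xi k A B).comp (Theta k A B) = AlgHom.id k (B ⊗[k] A) := by
  apply Algebra.TensorProduct.ext
  · ext b
    show Xi k A B (Theta k A B (b ⊗ₜ[k] (1 : A))) = b ⊗ₜ[k] (1 : A)
    rw [Theta_tmul, ← Algebra.TensorProduct.one_def, mul_one, Xi_coact]
  · ext a
    show Xi k A B (Theta k A B ((1 : B) ⊗ₜ[k] a)) = (1 : B) ⊗ₜ[k] a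
    rw [Theta_tmul, co_one, one_mul, Xi_tmul, co_one, map_one, one_mul]

theorem Theta_comp_Xi : (Theta k A B).comp (Xi k A B) = AlgHom.id k (B ⊗[k] A) := by
  apply Algebra.TensorProduct.ext
  · ext b
    show Theta k A B (Xi k A B (b ⊗ₜ[k] (1 : A))) = b ⊗ₜ[k] (1 : A)
    rw [Xi_tmul, ← Algebra.TensorProduct.one_def, mul_one, ← xi_apply, Theta_xi]
  · ext a
    show Theta k A B (Xi k A B ((1 : B) ⊗ₜ[k] a)) = (1 : B) ⊗ₜ[k] a
    rw [Xi_tmul, co_one, map_one, one_mul, Theta_tmul, co_one, one_mul]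

theorem Xi_Theta (y : B ⊗[k] A) : Xi k A B (Theta k A B y) = y :=
  AlgHom.congr_fun (Xi_comp_Theta k A B) y

theorem Theta_Xi (y : B ⊗[k] A) : Theta k A B (Xi k A B y) = y :=
  AlgHom.congr_fun (Theta_comp_Xi k A B) y

/-- the diagonal coaction on `B ⊗ A`: `b ⊗ a ↦ Σ (b₀ ⊗ a₁) ⊗ b₁ a₂` -/
noncomputable def delta : B ⊗[k] A →ₐ[k] (B ⊗[k] A) ⊗[k] A :=
  Algebra.TensorProduct.lift
    ((Algebra.TensorProduct.map (Algebra.TensorProduct.includeLeft : B →ₐ[k] B ⊗[k] A)
      (AlgHom.id k A)).comp (GLin.coactAlgHom k A B))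
    ((Algebra.TensorProduct.map (Algebra.TensorProduct.includeRight : A →ₐ[k] B ⊗[k] A)
      (AlgHom.id k A)).comp (Bialgebra.comulAlgHom k A))
    (fun _ _ => Commute.all _ _)

theorem delta_tmul (b : B) (a : A) :
    delta k A B (b ⊗ₜ[k] a) =
      Algebra.TensorProduct.map (Algebra.TensorProduct.includeLeft : B →ₐ[k] B ⊗[k] A)
          (AlgHom.id k A) (co k A B b) *
        Algebra.TensorProduct.map (Algebra.TensorProduct.includeRight : A →ₐ[k] B ⊗[k] A)
          (AlgHom.id k A) (CoalgebraStruct.comul (R := k) a) := by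
  simp [delta, rho_apply]

/-- the induced coaction `id ⊗ Δ` as an algebra map -/
noncomputable def cA : B ⊗[k] A →ₐ[k] (B ⊗[k] A) ⊗[k] A :=
  Algebra.TensorProduct.lift
    ((Algebra.TensorProduct.includeLeft : B ⊗[k] A →ₐ[k] (B ⊗[k] A) ⊗[k] A).comp
      (Algebra.TensorProduct.includeLeft : B →ₐ[k] B ⊗[k] A))
    ((Algebra.TensorProduct.map (Algebra.TensorProduct.includeRight : A →ₐ[k] B ⊗[k] A)
      (AlgHom.id k A)).comp (Bialgebra.comulAlgHom k A))
    (fun _ _ => Commute.all _ _)

theorem cA_tmul (b : B) (a : A) :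
    cA k A B (b ⊗ₜ[k] a) =
      ((b ⊗ₜ[k] (1 : A)) ⊗ₜ[k] (1 : A)) *
        Algebra.TensorProduct.map (Algebra.TensorProduct.includeRight : A →ₐ[k] B ⊗[k] A)
          (AlgHom.id k A) (CoalgebraStruct.comul (R := k) a) := by
  simp [cA]

theorem incR_assoc (b : B) (t : A ⊗[k] A) :
    ((b ⊗ₜ[k] (1 : A)) ⊗ₜ[k] (1 : A)) *
        Algebra.TensorProduct.map (Algebra.TensorProduct.includeRight : A →ₐ[k] B ⊗[k] A)
          (AlgHom.id k A) t =
      (TensorProduct.assoc k B A A).symm (b ⊗ₜ[k] t) := by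
  induction t using TensorProduct.induction_on with
  | zero => simp
  | add x y hx hy => simp only [map_add, mul_add, TensorProduct.tmul_add, hx, hy]
  | tmul c c' => simp

theorem cA_apply (y : B ⊗[k] A) : cA k A B y = Hoch.Ind.coactAux k A B y := by
  induction y using TensorProduct.induction_on with
  | zero => simp
  | add x y hx hy => simp only [map_add, hx, hy]
  | tmul b a => rw [cA_tmul, incR_assoc, Hoch.Ind.coactAux_tmul]

theorem mapTheta_incL (x : B ⊗[k] A) :
    Algebra.TensorProduct.map (Theta k A B) (AlgHom.id k A)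
        (Algebra.TensorProduct.map (Algebra.TensorProduct.includeLeft : B →ₐ[k] B ⊗[k] A)
          (AlgHom.id k A) x) = (co k A B).rTensor A x := by
  induction x using TensorProduct.induction_on with
  | zero => simp
  | add x y hx hy => simp only [map_add, hx, hy]
  | tmul b' c =>
    simp only [Algebra.TensorProduct.map_tmul, Algebra.TensorProduct.includeLeft_apply,
      AlgHom.coe_id, id_eq, LinearMap.rTensor_tmul, Theta_tmul]
    rw [← Algebra.TensorProduct.one_def, mul_one]

theorem mapTheta_incR (t : A ⊗[k] A) :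
    Algebra.TensorProduct.map (Theta k A B) (AlgHom.id k A)
        (Algebra.TensorProduct.map (Algebra.TensorProduct.includeRight : A →ₐ[k] B ⊗[k] A)
          (AlgHom.id k A) t) =
      Algebra.TensorProduct.map (Algebra.TensorProduct.includeRight : A →ₐ[k] B ⊗[k] A)
          (AlgHom.id k A) t := by
  induction t using TensorProduct.induction_on with
  | zero => simp
  | add x y hx hy => simp only [map_add, hx, hy]
  | tmul c c' =>
    simp only [Algebra.TensorProduct.map_tmul, Algebra.TensorProduct.includeRight_apply,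
      AlgHom.coe_id, id_eq, Theta_tmul, co_one, one_mul]

theorem comul_one' : CoalgebraStruct.comul (R := k) (1 : A) = 1 :=
  map_one (Bialgebra.comulAlgHom k A)

/-- `(Θ ⊗ id) ∘ δ = (id ⊗ Δ) ∘ Θ` -/
theorem mapTheta_delta :
    (Algebra.TensorProduct.map (Theta k A B) (AlgHom.id k A)).comp (delta k A B) =
      (cA k A B).comp (Theta k A B) := by
  apply Algebra.TensorProduct.ext
  · ext b
    show Algebra.TensorProduct.map (Theta k A B) (AlgHom.id k A) (delta k A B (b ⊗ₜ[k] (1 : A))) =
      cA k A B (Theta k A B (b ⊗ₜ[k] (1 : A)))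
    rw [delta_tmul, comul_one', map_one, mul_one, mapTheta_incL, Theta_tmul,
      ← Algebra.TensorProduct.one_def, mul_one, cA_apply, coassoc_apply]
    rfl
  · ext a
    show Algebra.TensorProduct.map (Theta k A B) (AlgHom.id k A) (delta k A B ((1 : B) ⊗ₜ[k] a)) =
      cA k A B (Theta k A B ((1 : B) ⊗ₜ[k] a))
    rw [delta_tmul, co_one, map_one, one_mul, mapTheta_incR, Theta_tmul, co_one, one_mul, cA_tmul,
      ← Algebra.TensorProduct.one_def, ← Algebra.TensorProduct.one_def, one_mul]

theorem mapXi_mapTheta (z : (B ⊗[k] A) ⊗[k] A) :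
    Algebra.TensorProduct.map (Xi k A B) (AlgHom.id k A)
      (Algebra.TensorProduct.map (Theta k A B) (AlgHom.id k A) z) = z := by
  induction z using TensorProduct.induction_on with
  | zero => simp
  | add x y hx hy => simp only [map_add, hx, hy]
  | tmul y c => simp [Xi_Theta]

/-- `δ ∘ Ξ = (Ξ ⊗ id) ∘ (id ⊗ Δ)` -/
theorem delta_Xi (y : B ⊗[k] A) :
    delta k A B (Xi k A B y) =
      Algebra.TensorProduct.map (Xi k A B) (AlgHom.id k A) (Hoch.Ind.coactAux k A B y) := by
  have h := AlgHom.congr_fun (mapTheta_delta k A B) (Xi k A B y)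
  simp only [AlgHom.comp_apply, Theta_Xi] at h
  rw [← cA_apply, ← h, mapXi_mapTheta]

theorem map_eq_rTensor (f : B ⊗[k] A →ₐ[k] B ⊗[k] A) (z : (B ⊗[k] A) ⊗[k] A) :
    Algebra.TensorProduct.map f (AlgHom.id k A) z = f.toLinearMap.rTensor A z := by
  induction z using TensorProduct.induction_on with
  | zero => simp
  | add x y hx hy => simp only [map_add, hx, hy]
  | tmul y c => simp

section alpha

variable (α : A →ₗ[k] B)

/-- `b ⊗ a ↦ b α(a)` -/
noncomputable def lam0 : B ⊗[k] A →ₗ[k] B := LinearMap.mul' k B ∘ₗ α.lTensor B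

theorem lam0_tmul (b : B) (a : A) : lam0 k A B α (b ⊗ₜ[k] a) = b * α a := by
  simp [lam0]

theorem lam0_aux (x : B ⊗[k] A) (t : A ⊗[k] A) :
    (lam0 k A B α).rTensor A
        (Algebra.TensorProduct.map (Algebra.TensorProduct.includeLeft : B →ₐ[k] B ⊗[k] A)
            (AlgHom.id k A) x *
          Algebra.TensorProduct.map (Algebra.TensorProduct.includeRight : A →ₐ[k] B ⊗[k] A)
            (AlgHom.id k A) t) = x * α.rTensor A t := by
  induction x using TensorProduct.induction_on with
  | zero => simp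
  | add x y hx hy => simp only [map_add, add_mul, hx, hy]
  | tmul b' c =>
    induction t using TensorProduct.induction_on with
    | zero => simp
    | add x y hx hy => simp only [map_add, mul_add, hx, hy]
    | tmul c₁ c₂ => simp [lam0_tmul]

/-- `ρ ∘ λ₀ = (λ₀ ⊗ id) ∘ δ` when `α` is a comodule map -/
theorem co_lam0 (hα : Hoch.IsComodHom A α) (y : B ⊗[k] A) :
    co k A B (lam0 k A B α y) = (lam0 k A B α).rTensor A (delta k A B y) := by
  induction y using TensorProduct.induction_on with
  | zero => simp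
  | add x y hx hy => simp only [map_add, hx, hy]
  | tmul b a =>
    have h := LinearMap.congr_fun hα a
    simp only [LinearMap.comp_apply] at h
    rw [lam0_tmul, co_mul, delta_tmul, lam0_aux]
    congr 1

/-- the retraction `b ⊗ a ↦ Σ b₀ α(S(b₁) a)` -/
noncomputable def lam : B ⊗[k] A →ₗ[k] B := lam0 k A B α ∘ₗ (Xi k A B).toLinearMap

theorem lam_coact (h1 : α 1 = 1) (b : B) : lam k A B α (co k A B b) = b := by
  show lam0 k A B α (Xi k A B (co k A B b)) = b
  rw [Xi_coact, lam0_tmul, h1, mul_one]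

theorem co_lam (hα : Hoch.IsComodHom A α) (y : B ⊗[k] A) :
    co k A B (lam k A B α y) = (lam k A B α).rTensor A (Hoch.Ind.coactAux k A B y) := by
  show co k A B (lam0 k A B α (Xi k A B y)) = _
  rw [co_lam0 k A B α hα, delta_Xi, map_eq_rTensor, lam, LinearMap.rTensor_comp_apply]

end alpha

theorem bwd (l : B ⊗[k] A →ₗ[k] B)
    (hl' : ∀ y : B ⊗[k] A, co k A B (l y) = l.rTensor A (Hoch.Ind.coactAux k A B y))
    (hid' : ∀ b : B, l (co k A B b) = b) :
    ∃ α : A →ₗ[k] B, Hoch.IsComodHom A α ∧ α 1 = 1 := by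
  refine ⟨l ∘ₗ (TensorProduct.mk k B A 1), ?_, ?_⟩
  · apply LinearMap.ext
    intro a
    show co k A B (l ((1 : B) ⊗ₜ[k] a)) =
      (l ∘ₗ (TensorProduct.mk k B A 1)).rTensor A (CoalgebraStruct.comul (R := k) a)
    rw [hl', Hoch.Ind.coactAux_tmul]
    generalize CoalgebraStruct.comul (R := k) a = t
    induction t using TensorProduct.induction_on with
    | zero => simp
    | add x y hx hy => simp only [map_add, TensorProduct.tmul_add, hx, hy]
    | tmul c c' => simp
  · show l ((1 : B) ⊗ₜ[k] (1 : A)) = 1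
    rw [← Algebra.TensorProduct.one_def, ← co_one k A B, hid']

theorem main :
    (∃ α : A →ₗ[k] B, Hoch.IsComodHom A α ∧ α 1 = 1) ↔
      ∃ lam : Hoch.Ind k A B →ₗ[k] B, Hoch.IsComodHom A lam ∧
        lam ∘ₗ Hoch.toInd k A B = LinearMap.id := by
  constructor
  · rintro ⟨α, hα, h1⟩
    refine ⟨lam k A B α, ?_, ?_⟩
    · apply LinearMap.ext
      intro y
      exact co_lam k A B α hα y
    · apply LinearMap.ext
      intro b
      exact lam_coact k A B α h1 b
  · rintro ⟨l, hl, hid⟩
    exact bwd k A B l (fun y => LinearMap.congr_fun hl y) (fun b => LinearMap.congr_fun hid b)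

end TotIntH1
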