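import Mathlib
import Groth.Agent.Lib.TotInt_helper1

/-!
# Quotient of an affine scheme by a finite group scheme: integrality over the invariants (helper1)

For a finite commutative Hopf algebra `A` over a field coacting on a commutative algebra `R` by an algebra map,
every `r : R` is a root of the characteristic polynomial of `ρ(r)` acting on the free `R`-module `R ⊗ A`, and the
coefficients of that polynomial are invariants.  Hence `R` is integral over `R^A`.
-/

set_option autoImplicit false
set_option maxHeartbeats 1000000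
universe u v w w'
open TensorProduct WithConv Coalgebra

namespace FinQuotH1

section shear

variable {K : Type u} [Field K] {B : Type v} [CommRing B] [HopfAlgebra K B]

/-- the shear map `x ⊗ y ↦ (x ⊗ 1) Δ(y)`, a `B`-algebra endomorphism of `B ⊗ B`. -/
noncomputable def shear : B ⊗[K] B →ₐ[B] B ⊗[K] B :=
  Algebra.TensorProduct.lift (Algebra.ofId B (B ⊗[K] B)) (Bialgebra.comulAlgHom K B)
    (fun _ _ => Commute.all _ _)

theorem shear_tmul (x y : B) :
    shear (K := K) (x ⊗ₜ[K] y) = (x ⊗ₜ[K] (1 : B)) * comul y := by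
  unfold shear
  rw [Algebra.TensorProduct.lift_tmul]
  rfl

theorem conv_incl :
    (toConv (Algebra.TensorProduct.includeLeft : B →ₐ[K] B ⊗[K] B).toLinearMap *
      toConv (Algebra.TensorProduct.includeRight : B →ₐ[K] B ⊗[K] B).toLinearMap :
        WithConv (B →ₗ[K] B ⊗[K] B)) = toConv (comul : B →ₗ[K] B ⊗[K] B) := by
  apply WithConv.ext; apply LinearMap.ext; intro b
  change LinearMap.mul' K (B ⊗[K] B) (TensorProduct.map _ _ (comul b)) = comul b
  generalize (comul b : B ⊗[K] B) = t
  induction t using TensorProduct.induction_on with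
  | zero => simp
  | tmul x y => simp
  | add t t' h h' => rw [map_add, map_add, h, h']

theorem shear_antipode (b : B) :
    shear (K := K) (TensorProduct.map (HopfAlgebra.antipode K (A := B)) LinearMap.id (comul b))
      = (1 : B) ⊗ₜ[K] b := by
  have h1 : shear (K := K)
      (TensorProduct.map (HopfAlgebra.antipode K (A := B)) LinearMap.id (comul b)) =
      (toConv ((Algebra.TensorProduct.includeLeft : B →ₐ[K] B ⊗[K] B).toLinearMap ∘ₗ
        HopfAlgebra.antipode K (A := B)) * toConv (comul : B →ₗ[K] B ⊗[K] B)).ofConv b := by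
    change _ = LinearMap.mul' K (B ⊗[K] B) (TensorProduct.map _ _ (comul b))
    generalize (comul b : B ⊗[K] B) = t
    induction t using TensorProduct.induction_on with
    | zero => simp
    | tmul x y =>
      rw [TensorProduct.map_tmul, shear_tmul, TensorProduct.map_tmul, LinearMap.mul'_apply]
      rfl
    | add t t' h h' => simp only [map_add, h, h']
  rw [h1, ← conv_incl, ← mul_assoc]
  have h2 := LinearMap.algHom_comp_convMul_distrib
    (Algebra.TensorProduct.includeLeft : B →ₐ[K] B ⊗[K] B)
    (toConv (HopfAlgebra.antipode K (A := B))) (toConv (LinearMap.id : B →ₗ[K] B))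
  rw [LinearMap.antipode_mul_id] at h2
  have h3 : (toConv ((Algebra.TensorProduct.includeLeft : B →ₐ[K] B ⊗[K] B).toLinearMap ∘ₗ
        HopfAlgebra.antipode K (A := B)) *
      toConv (Algebra.TensorProduct.includeLeft : B →ₐ[K] B ⊗[K] B).toLinearMap :
        WithConv (B →ₗ[K] B ⊗[K] B)) = 1 := by
    apply WithConv.ext
    refine Eq.trans h2.symm ?_
    apply LinearMap.ext; intro c
    simp [LinearMap.convOne_def]
  rw [h3, one_mul]
  rfl

end shear

section main

variable (k : Type u) [Field k] (A : Type v) [CommRing A] [HopfAlgebra k A] [Module.Finite k A]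

section chi

variable (R : Type w) [CommRing R] [Algebra k R]

/-- the characteristic polynomial of multiplication by `x` on the free `R`-module `R ⊗ A` -/
noncomputable def chi (x : R ⊗[k] A) : Polynomial R :=
  (Algebra.leftMulMatrix (Algebra.TensorProduct.basis R (Module.finBasis k A)) x).charpoly

theorem chi_monic (x : R ⊗[k] A) : (chi k A R x).Monic := Matrix.charpoly_monic _

theorem chi_aeval (x : R ⊗[k] A) : Polynomial.aeval x (chi k A R x) = 0 := by
  apply Algebra.leftMulMatrix_injective (Algebra.TensorProduct.basis R (Module.finBasis k A))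
  rw [map_zero, ← Polynomial.aeval_algHom_apply]
  exact Matrix.aeval_self_charpoly _

variable {R}

theorem chi_map {S : Type w'} [CommRing S] [Algebra k S] (φ : R →ₐ[k] S) (x : R ⊗[k] A) :
    chi k A S (Algebra.TensorProduct.map φ (AlgHom.id k A) x) =
      (chi k A R x).map (φ : R →+* S) := by
  unfold chi
  rw [← Matrix.charpoly_map]
  congr 1
  ext i j
  rw [Matrix.map_apply, Algebra.leftMulMatrix_eq_repr_mul, Algebra.leftMulMatrix_eq_repr_mul]
  induction x using TensorProduct.induction_on with
  | zero => simp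
  | add x y hx hy =>
    simp only [map_add, add_mul, Finsupp.add_apply, hx, hy]
  | tmul r a =>
    simp only [Algebra.TensorProduct.map_tmul, AlgHom.coe_id, id_eq,
      Algebra.TensorProduct.basis_apply, Algebra.TensorProduct.tmul_mul_tmul, mul_one, one_mul,
      Algebra.TensorProduct.basis_repr_tmul, Finsupp.smul_apply, Finsupp.mapRange_apply,
      smul_eq_mul, map_mul, RingHom.coe_coe, AlgHom.commutes]

theorem chi_algEquiv (Ψ : (R ⊗[k] A) ≃ₐ[R] (R ⊗[k] A)) (z : R ⊗[k] A) :
    chi k A R (Ψ z) = chi k A R z := by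
  unfold chi
  rw [Algebra.leftMulMatrix_apply, Algebra.leftMulMatrix_apply, LinearMap.charpoly_toMatrix,
    LinearMap.charpoly_toMatrix]
  have h : Algebra.lmul R (R ⊗[k] A) (Ψ z) =
      Ψ.toLinearEquiv.conj (Algebra.lmul R (R ⊗[k] A) z) := by
    apply LinearMap.ext
    intro y
    rw [LinearEquiv.conj_apply]
    simp
  rw [h, LinearEquiv.charpoly_conj]

end chi

section Psi

variable (R : Type w) [CommRing R] [Algebra k R]

/-- `Ψ (s ⊗ b) = (s ⊗ 1) · Σ (1 ⊗ b₁) ⊗ b₂` on `(R ⊗ A) ⊗ A` -/
noncomputable def Psi : (R ⊗[k] A) ⊗[k] A →ₐ[R ⊗[k] A] (R ⊗[k] A) ⊗[k] A :=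
  Algebra.TensorProduct.lift (Algebra.ofId (R ⊗[k] A) ((R ⊗[k] A) ⊗[k] A))
    ((Algebra.TensorProduct.map (Algebra.TensorProduct.includeRight : A →ₐ[k] R ⊗[k] A)
      (AlgHom.id k A)).comp (Bialgebra.comulAlgHom k A))
    (fun _ _ => Commute.all _ _)

theorem Psi_tmul (s : R ⊗[k] A) (b : A) :
    Psi k A R (s ⊗ₜ[k] b) = (s ⊗ₜ[k] (1 : A)) *
      Algebra.TensorProduct.map (Algebra.TensorProduct.includeRight : A →ₐ[k] R ⊗[k] A)
        (AlgHom.id k A) (comul b) := by
  unfold Psi
  rw [Algebra.TensorProduct.lift_tmul]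
  rfl

theorem Psi_incR (t : A ⊗[k] A) :
    Psi k A R (Algebra.TensorProduct.map (Algebra.TensorProduct.includeRight : A →ₐ[k] R ⊗[k] A)
        (AlgHom.id k A) t) =
      Algebra.TensorProduct.map (Algebra.TensorProduct.includeRight : A →ₐ[k] R ⊗[k] A)
        (AlgHom.id k A) (shear (K := k) t) := by
  induction t using TensorProduct.induction_on with
  | zero => simp
  | add x y hx hy => simp only [map_add, hx, hy]
  | tmul a b =>
    rw [Algebra.TensorProduct.map_tmul, Psi_tmul, shear_tmul, map_mul,
      Algebra.TensorProduct.map_tmul]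
    simp

theorem Psi_pre (b : A) :
    Psi k A R (Algebra.TensorProduct.map (Algebra.TensorProduct.includeRight : A →ₐ[k] R ⊗[k] A)
        (AlgHom.id k A)
        (TensorProduct.map (HopfAlgebra.antipode k (A := A)) LinearMap.id (comul b))) =
      (1 : R ⊗[k] A) ⊗ₜ[k] b := by
  rw [Psi_incR, shear_antipode, Algebra.TensorProduct.map_tmul, map_one]
  rfl

theorem Psi_surjective : Function.Surjective (Psi k A R) := by
  intro t
  induction t using TensorProduct.induction_on with
  | zero => exact ⟨0, map_zero _⟩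
  | tmul s b =>
    refine ⟨s • (Algebra.TensorProduct.map
      (Algebra.TensorProduct.includeRight : A →ₐ[k] R ⊗[k] A) (AlgHom.id k A)
      (TensorProduct.map (HopfAlgebra.antipode k (A := A)) LinearMap.id (comul b))), ?_⟩
    rw [map_smul, Psi_pre, TensorProduct.smul_tmul', smul_eq_mul, mul_one]
  | add t t' h h' =>
    obtain ⟨u, hu⟩ := h
    obtain ⟨u', hu'⟩ := h'
    exact ⟨u + u', by rw [map_add, hu, hu']⟩

theorem Psi_injective : Function.Injective (Psi k A R) :=
  OrzechProperty.injective_of_surjective_endomorphism (Psi k A R).toLinearMap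
    (Psi_surjective k A R)

/-- `Ψ` as an algebra automorphism -/
noncomputable def PsiEquiv : ((R ⊗[k] A) ⊗[k] A) ≃ₐ[R ⊗[k] A] ((R ⊗[k] A) ⊗[k] A) :=
  AlgEquiv.ofBijective (Psi k A R) ⟨Psi_injective k A R, Psi_surjective k A R⟩

theorem PsiEquiv_apply (z : (R ⊗[k] A) ⊗[k] A) : PsiEquiv k A R z = Psi k A R z := rfl

variable [HopfRep.Comod k A R] [GLin.IsCoactAlg k A R]

theorem Psi_iota (y : R ⊗[k] A) :
    Psi k A R (Algebra.TensorProduct.map (Algebra.TensorProduct.includeLeft : R →ₐ[k] R ⊗[k] A)
        (AlgHom.id k A) y) = TotIntH1.cA k A R y := by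
  induction y using TensorProduct.induction_on with
  | zero => simp
  | add x y hx hy => simp only [map_add, hx, hy]
  | tmul r a =>
    rw [Algebra.TensorProduct.map_tmul, Psi_tmul, TotIntH1.cA_tmul]
    rfl

theorem map_rho_eq (y : R ⊗[k] A) :
    Algebra.TensorProduct.map (GLin.coactAlgHom k A R) (AlgHom.id k A) y =
      (TotIntH1.co k A R).rTensor A y := by
  induction y using TensorProduct.induction_on with
  | zero => simp
  | add x y hx hy => simp only [map_add, hx, hy]
  | tmul r a => simp

theorem map_rho_co (r : R) :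
    Algebra.TensorProduct.map (GLin.coactAlgHom k A R) (AlgHom.id k A) (TotIntH1.co k A R r) =
      Psi k A R (Algebra.TensorProduct.map
        (Algebra.TensorProduct.includeLeft : R →ₐ[k] R ⊗[k] A) (AlgHom.id k A)
        (TotIntH1.co k A R r)) := by
  rw [Psi_iota, TotIntH1.cA_apply, map_rho_eq, TotIntH1.coassoc_apply]
  rfl

theorem chi_invariant (r : R) :
    (chi k A R (TotIntH1.co k A R r)).map ((GLin.coactAlgHom k A R : R →ₐ[k] R ⊗[k] A) : R →+* R ⊗[k] A) =
      (chi k A R (TotIntH1.co k A R r)).map
        ((Algebra.TensorProduct.includeLeft : R →ₐ[k] R ⊗[k] A) : R →+* R ⊗[k] A) := by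
  rw [← chi_map, ← chi_map, map_rho_co, ← PsiEquiv_apply]
  exact chi_algEquiv k A (PsiEquiv k A R) _

theorem coeff_mem (r : R) (n : ℕ) :
    (chi k A R (TotIntH1.co k A R r)).coeff n ∈ GLin.invariants k A R := by
  rw [GLin.mem_invariants_iff]
  have h := congrArg (fun p => p.coeff n) (chi_invariant k A R r)
  simp only [Polynomial.coeff_map] at h
  exact h

/-- `id ⊗ ε` as an `R`-algebra map `R ⊗ A → R` -/
noncomputable def epsR : R ⊗[k] A →ₐ[R] R :=
  Algebra.TensorProduct.lift (AlgHom.id R R)
    ((Algebra.ofId k R).comp (Bialgebra.counitAlgHom k A)) (fun _ _ => Commute.all _ _)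

theorem epsR_eq (y : R ⊗[k] A) :
    epsR k A R y =
      TensorProduct.rid k R ((CoalgebraStruct.counit (R := k) (A := A)).lTensor R y) := by
  induction y using TensorProduct.induction_on with
  | zero => simp
  | add x y hx hy => simp only [map_add, hx, hy]
  | tmul r a =>
    simp [epsR, Algebra.smul_def, mul_comm]

theorem epsR_co (r : R) : epsR k A R (TotIntH1.co k A R r) = r := by
  rw [epsR_eq, TotIntH1.counit_apply]
  simp

theorem root (r : R) : Polynomial.aeval r (chi k A R (TotIntH1.co k A R r)) = 0 := by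
  have h := congrArg (epsR k A R) (chi_aeval k A R (TotIntH1.co k A R r))
  rw [← Polynomial.aeval_algHom_apply, epsR_co, map_zero] at h
  exact h

theorem isIntegral (r : R) : IsIntegral (GLin.invariants k A R) r := by
  rcases subsingleton_or_nontrivial R with hR | hR
  · refine ⟨Polynomial.X, Polynomial.monic_X, ?_⟩
    exact Subsingleton.elim _ _
  have hl : chi k A R (TotIntH1.co k A R r) ∈
      Polynomial.lifts (algebraMap (GLin.invariants k A R) R) := by
    rw [Polynomial.lifts_iff_coeff_lifts]
    intro n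
    exact ⟨⟨_, coeff_mem k A R r n⟩, rfl⟩
  obtain ⟨q, hq, -, hqm⟩ := Polynomial.lifts_and_degree_eq_and_monic hl (chi_monic k A R _)
  refine ⟨q, hqm, ?_⟩
  rw [Polynomial.eval₂_eq_eval_map, hq]
  have h := root k A R r
  rwa [Polynomial.coe_aeval_eq_eval] at h

theorem main [Algebra.FiniteType k R] :
    Algebra.FiniteType k ↥(GLin.invariants k A R) ∧ Module.Finite ↥(GLin.invariants k A R) R := by
  have : Algebra.IsIntegral (GLin.invariants k A R) R := ⟨isIntegral k A R⟩
  have : Algebra.FiniteType (GLin.invariants k A R) R :=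
    Algebra.FiniteType.of_restrictScalars_finiteType k _ R
  have hfin : Module.Finite (GLin.invariants k A R) R := Algebra.IsIntegral.finite
  refine ⟨⟨?_⟩, hfin⟩
  exact fg_of_fg_of_fg k (GLin.invariants k A R) R (Algebra.FiniteType.out) hfin.1
    Subtype.val_injective

end Psi

end main

end FinQuotH1
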