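import Mathlib
import Groth.Prelude.Def_DRing2
import Groth.Prelude.Def_DDual2
import Groth.Prelude.Def_Wider
import Groth.Prelude.Def_DualSh
import Groth.Agent.Lib.FlatBC10_helper6
import Groth.Agent.Lib.FlatBC9_helper6

/-!
# `φ^!` for finite `φ` (helper6), part 1: composition of upper shrieks for arbitrary `K` when the
first map is perfect over its polynomial ring.
-/

set_option autoImplicit false
universe u
open CategoryTheory CategoryTheory.Limits DerivedCategory Pretriangulated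
open scoped TensorProduct
attribute [local instance] HasDerivedCategory.standard

namespace Groth.Agent.Lib.FinShriekH6

open DRing Groth.Agent.Lib.DMod_helper6 Groth.Agent.Lib.ShriekIndH6 Groth.Agent.Lib.FlatBCH6

attribute [local instance] MvPolynomial.algebraMvPolynomial

section Comp

/-- `(χ ∘ φ)^! ≅ χ^! ∘ φ^!` for every `K` when `B` is perfect over `A[x_1..x_n]`. -/
theorem shriekVia_comp_of_perf (A B C : Type u) [CommRing A] [CommRing B] [CommRing C]
    [IsNoetherianRing A]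
    [Algebra A B] [Algebra B C] [Algebra A C] [IsScalarTower A B C] (n : ℕ)
    (ψ : MvPolynomial (Fin n) A →ₐ[A] B) (hψ : Function.Surjective ψ)
    (hperf : resPerf ψ.toRingHom (Dual.inD B B))
    [DRing.HasLBaseChange (algebraMap A (MvPolynomial (Fin n) A))]
    (Rψ : Dual.D (MvPolynomial (Fin n) A) ⥤ Dual.D B) (adj : DRing.restrictD ψ.toRingHom ⊣ Rψ)
    (m : ℕ) (χ : MvPolynomial (Fin m) B →ₐ[B] C) (hχ : Function.Surjective χ)
    [DRing.HasLBaseChange (algebraMap B (MvPolynomial (Fin m) B))]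
    (Rχ : Dual.D (MvPolynomial (Fin m) B) ⥤ Dual.D C) (adjχ : DRing.restrictD χ.toRingHom ⊣ Rχ)
    (k : ℕ) (θ : MvPolynomial (Fin k) A →ₐ[A] C) (hθ : Function.Surjective θ)
    [DRing.HasLBaseChange (algebraMap A (MvPolynomial (Fin k) A))]
    (Rθ : Dual.D (MvPolynomial (Fin k) A) ⥤ Dual.D C) (adjθ : DRing.restrictD θ.toRingHom ⊣ Rθ)
    (K : Dual.D A) :
    Nonempty (Dual2.shriekVia k Rθ K ≅ Dual2.shriekVia m Rχ (Dual2.shriekVia n Rψ K)) := by
  let Pn := MvPolynomial (Fin n) A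
  let Qm := MvPolynomial (Fin m) B
  let PP := MvPolynomial (Fin m) Pn
  let Pmn := MvPolynomial (Fin (m + n)) A
  letI algPnB : Algebra Pn B := ψ.toRingHom.toAlgebra
  haveI t1 : IsScalarTower A Pn B :=
    IsScalarTower.of_algebraMap_eq (fun r => (ψ.commutes r).symm)
  haveI t2 : IsScalarTower A PP Qm := IsScalarTower.of_algebraMap_eq (fun a => by
    show MvPolynomial.C (algebraMap A B a) =
      MvPolynomial.map (algebraMap Pn B) (MvPolynomial.C (MvPolynomial.C a))
    rw [MvPolynomial.map_C]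
    congr 1
    exact (ψ.commutes a).symm)
  let θt : PP →+* C := χ.toRingHom.comp (algebraMap PP Qm)
  have hθt : Function.Surjective θt := by
    have h1 : Function.Surjective (algebraMap PP Qm) :=
      MvPolynomial.map_surjective (algebraMap Pn B) hψ
    exact hχ.comp h1
  let ε : Pmn ≃ₐ[A] PP :=
    (MvPolynomial.renameEquiv A finSumFinEquiv.symm).trans
      (MvPolynomial.sumAlgEquiv A (Fin m) (Fin n))
  have hcomm : ∀ a : A, θt (algebraMap A PP a) = algebraMap A C a := by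
    intro a
    show χ (algebraMap PP Qm (algebraMap A PP a)) = algebraMap A C a
    rw [← IsScalarTower.algebraMap_apply A PP Qm, IsScalarTower.algebraMap_apply A B Qm,
      χ.commutes, ← IsScalarTower.algebraMap_apply A B C]
  let θ'' : Pmn →ₐ[A] C :=
    { θt.comp ε.toAlgHom.toRingHom with
      commutes' := fun a => by
        show θt (ε (algebraMap A Pmn a)) = algebraMap A C a
        rw [ε.commutes, hcomm] }
  have hθ'' : Function.Surjective θ'' := hθt.comp ε.surjective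
  haveI hL'' : DRing.HasLBaseChange (algebraMap A Pmn) := hasLBaseChange_of_flat
  obtain ⟨adjL''⟩ := Groth.Agent.Lib.DerivedAdj.nonempty_adj (algebraMap A Pmn)
  obtain ⟨adjLι⟩ := Groth.Agent.Lib.DerivedAdj.nonempty_adj (algebraMap A Pn)
  obtain ⟨adjLα⟩ := Groth.Agent.Lib.DerivedAdj.nonempty_adj (algebraMap B Qm)
  obtain ⟨RΨ, ⟨adjΨ⟩⟩ :=
    Groth.Agent.Lib.RestrictRightAdj.exists_rightAdjoint_restrictD (algebraMap PP Qm)
  obtain ⟨Rθ'', ⟨adjθ''⟩⟩ :=
    Groth.Agent.Lib.RestrictRightAdj.exists_rightAdjoint_restrictD θ''.toRingHom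
  let adjθt : restrictD θt ⊣ RΨ ⋙ Rχ :=
    (adjχ.comp adjΨ).ofNatIsoLeft (restrictDComp (algebraMap PP Qm) χ.toRingHom).symm
  -- independence of the presentation
  obtain ⟨e₁⟩ := shriekVia_independent A C k θ hθ Rθ adjθ (m + n) θ'' hθ'' Rθ'' adjθ'' K
  have hφ' : algebraMap A Pmn = ε.toRingEquiv.symm.toRingHom.comp (algebraMap A PP) := by
    refine RingHom.ext (fun a => ?_)
    exact (ε.symm.commutes a).symm
  obtain ⟨e₂⟩ := step (good_ringEquiv ε.toRingEquiv) (φ := algebraMap A PP) (ψ := θt)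
    (φ' := algebraMap A Pmn) hφ' (θ := θ''.toRingHom) rfl
    (bcB A PP) (adjD A PP) (DRing.LBaseChange (algebraMap A Pmn)) adjL''
    (RΨ ⋙ Rχ) adjθt Rθ'' adjθ'' K (((m + n : ℕ) : ℤ)) (((m + n : ℕ) : ℤ)) (zero_add _).symm
  -- flat base change
  have hA : resPerf (algebraMap Pn B) (Dual.inD B B) := hperf
  let adjId : 𝟭 (Dual.D A) ⊣ restrictD (algebraMap A A) :=
    (Adjunction.id).ofNatIsoRight (restrictDId A).symm
  obtain ⟨e₃⟩ := flatBC_shriek_general_of_perf (R := A) (R' := A) (P := Pn) (P' := PP) (A := B)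
    (A' := Qm) hA (DRing.LBaseChange (algebraMap A Pn)) adjLι (bcB A PP) (adjD A PP)
    (𝟭 (Dual.D A)) adjId (DRing.LBaseChange (algebraMap B Qm)) adjLα Rψ adj RΨ adjΨ K (n : ℤ)
  letI := adjχ.rightAdjointCommShift ℤ
  let Y : Dual.D PP := (bcB A PP).obj K
  have hnm : (n : ℤ) + (m : ℤ) = ((m + n : ℕ) : ℤ) := by push_cast; ring
  let e₄ : Dual2.shriekVia m Rχ (Dual2.shriekVia n Rψ K) ≅
      ((RΨ ⋙ Rχ).obj Y)⟦((m + n : ℕ) : ℤ)⟧ :=
    (shiftFunctor (Dual.D C) (m : ℤ)).mapIso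
      (Rχ.mapIso e₃ ≪≫ (Rχ.commShiftIso (n : ℤ)).app (RΨ.obj Y)) ≪≫
    ((shiftFunctorAdd' (Dual.D C) (n : ℤ) (m : ℤ) _ hnm).app (Rχ.obj (RΨ.obj Y))).symm
  exact ⟨e₁ ≪≫ e₂ ≪≫ e₄.symm⟩

end Comp

end Groth.Agent.Lib.FinShriekH6
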