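import Mathlib
import Groth.Prelude.Def_DRing4
import Groth.Agent.Lib.HomCx2_helper2

/-!
# `φ^!(K) ≅ K ⊗ ω` (helper6), part 1: the canonical map
`can : X ⊗ Hom•(E, N) ⟶ Hom•(E, X ⊗ N)`, `x ⊗ z ↦ (e ↦ x ⊗ z(e))`, of complexes of modules.
-/

set_option autoImplicit false
universe u
open CategoryTheory Limits MonoidalCategory CochainComplex CochainComplex.HomComplex

namespace Groth.Agent.Lib.ShriekTenH6

open Groth.Agent.Lib.HomCx

variable {P : Type u} [CommRing P]

section Tmul

variable (X N : DRing.Cx P)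

/-- `y ↦ x ⊗ y` -/
noncomputable def tmulL (p q i : ℤ) (h : p + q = i) (x : X.X p) :
    N.X q ⟶ (X ⊗ N : DRing.Cx P).X i :=
  ModuleCat.ofHom ((HomologicalComplex.ιTensorObj X N p q i h).hom ∘ₗ
    TensorProduct.mk P (X.X p) (N.X q) x)

lemma tmulL_apply (p q i : ℤ) (h : p + q = i) (x : X.X p) (y : N.X q) :
    (tmulL X N p q i h x).hom y = ιt X N p q i h x y := rfl

lemma tmulL_add (p q i : ℤ) (h : p + q = i) (x x' : X.X p) :
    tmulL X N p q i h (x + x') = tmulL X N p q i h x + tmulL X N p q i h x' := by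
  refine ModuleCat.hom_ext (LinearMap.ext fun y => ?_)
  rw [ModuleCat.hom_add, LinearMap.add_apply, tmulL_apply, tmulL_apply, tmulL_apply,
    ιt_add_left]

lemma tmulL_smul (p q i : ℤ) (h : p + q = i) (r : P) (x : X.X p) :
    tmulL X N p q i h (r • x) = r • tmulL X N p q i h x := by
  refine ModuleCat.hom_ext (LinearMap.ext fun y => ?_)
  rw [ModuleCat.hom_smul, LinearMap.smul_apply, tmulL_apply, tmulL_apply]
  dsimp only [ιt]
  rw [← TensorProduct.smul_tmul', map_smul]

/-- the cochain `y ↦ x ⊗ y`, of degree `p` -/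
noncomputable def tmulCochain (p : ℤ) (x : X.X p) : Cochain N (X ⊗ N) p :=
  Cochain.mk (fun q i hq => tmulL X N p q i (by omega) x)

lemma tmulCochain_v (p : ℤ) (x : X.X p) (q i : ℤ) (hq : q + p = i) :
    (tmulCochain X N p x).v q i hq = tmulL X N p q i (by omega) x := by
  dsimp only [tmulCochain]
  rw [Cochain.mk_v]

lemma tmulCochain_add (p : ℤ) (x x' : X.X p) :
    tmulCochain X N p (x + x') = tmulCochain X N p x + tmulCochain X N p x' := by
  ext q i hq : 1
  rw [Cochain.add_v, tmulCochain_v, tmulCochain_v, tmulCochain_v, tmulL_add]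

lemma tmulCochain_smul (p : ℤ) (r : P) (x : X.X p) :
    tmulCochain X N p (r • x) = r • tmulCochain X N p x := by
  ext q i hq : 1
  rw [Cochain.smul_v, tmulCochain_v, tmulCochain_v, tmulL_smul]

lemma δ_tmulCochain (p p' : ℤ) (hp : p + 1 = p') (x : X.X p) :
    δ p p' (tmulCochain X N p x) = tmulCochain X N p' ((X.d p p').hom x) := by
  subst hp
  ext q i hq : 1
  refine ModuleCat.hom_ext (LinearMap.ext fun y => ?_)
  rw [δ_v p (p + 1) rfl _ q i hq (i - 1) (q + 1) (by omega) rfl]
  rw [ModuleCat.hom_add, LinearMap.add_apply, units_smul_hom_apply, ModuleCat.hom_comp,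
    ModuleCat.hom_comp, LinearMap.comp_apply, LinearMap.comp_apply, tmulCochain_v, tmulCochain_v,
    tmulCochain_v, tmulL_apply, tmulL_apply, tmulL_apply,
    d_ιt p q (i - 1) i (by omega) (by omega) x y]
  have hs : ((p + 1).negOnePow : ℤˣ) = -(p.negOnePow : ℤˣ) := by
    rw [Int.negOnePow_succ]
  rw [hs, Units.neg_smul]
  abel

end Tmul

section Can

variable (X E N : DRing.Cx P)

/-- the bilinear map `(x, z) ↦ (e ↦ x ⊗ z(e))` -/
noncomputable def canBil (p q n : ℤ) (h : p + q = n) :
    X.X p →ₗ[P] Cochain E N q →ₗ[P] Cochain E (X ⊗ N) n :=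
  LinearMap.mk₂ P (fun x z => z.comp (tmulCochain X N p x) (by omega))
    (fun x x' z => by rw [tmulCochain_add, Cochain.comp_add])
    (fun r x z => by rw [tmulCochain_smul, Cochain.comp_smul])
    (fun x z z' => by rw [Cochain.add_comp])
    (fun r x z => by rw [Cochain.smul_comp])

lemma canBil_apply (p q n : ℤ) (h : p + q = n) (x : X.X p) (z : Cochain E N q) :
    canBil X E N p q n h x z = z.comp (tmulCochain X N p x) (by omega) := rfl

/-- the components of `can` -/
noncomputable def canF (n : ℤ) :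
    (X ⊗ DRing.homCx E N : DRing.Cx P).X n ⟶ (DRing.homCx E (X ⊗ N)).X n :=
  HomologicalComplex.mapBifunctorDesc (fun p q hpq =>
    (ModuleCat.ofHom (TensorProduct.lift (canBil X E N p q n hpq)) :
      (X.X p ⊗ (DRing.homCx E N).X q : ModuleCat.{u} P) ⟶ (DRing.homCx E (X ⊗ N)).X n))

lemma canF_ιt (n p q : ℤ) (hpq : p + q = n) (x : X.X p) (z : Cochain E N q) :
    ((canF X E N n).hom (ιt X (DRing.homCx E N) p q n hpq x z) : Cochain E (X ⊗ N) n) =
      z.comp (tmulCochain X N p x) (by omega) := by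
  dsimp only [canF, ιt]
  have h := HomologicalComplex.ι_mapBifunctorDesc (K₁ := X) (K₂ := DRing.homCx E N)
    (F := curriedTensor _) (c := ComplexShape.up ℤ) (j := n) (fun p q hpq =>
    (ModuleCat.ofHom (TensorProduct.lift (canBil X E N p q n hpq)) :
      (X.X p ⊗ (DRing.homCx E N).X q : ModuleCat.{u} P) ⟶ (DRing.homCx E (X ⊗ N)).X n)) p q hpq
  have h2 := congrArg (fun f => f.hom (x ⊗ₜ[P] z)) h
  dsimp only at h2
  rw [ModuleCat.hom_comp, LinearMap.comp_apply] at h2
  exact h2

/-- **the canonical map `X ⊗ Hom•(E, N) ⟶ Hom•(E, X ⊗ N)`** -/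
noncomputable def can : (X ⊗ DRing.homCx E N : DRing.Cx P) ⟶ DRing.homCx E (X ⊗ N) where
  f n := canF X E N n
  comm' n n' hn := by
    have hn' : n + 1 = n' := hn
    subst hn'
    apply hom_ext_tensor
    intro p q hpq x z
    rw [ModuleCat.hom_comp, ModuleCat.hom_comp, LinearMap.comp_apply, LinearMap.comp_apply,
      d_ιt p q n (n + 1) hpq rfl x z, map_add]
    have e1 : (canF X E N (n + 1)).hom ((p.negOnePow : ℤˣ) •
        ιt X (DRing.homCx E N) p (q + 1) (n + 1) (by omega) x
          (((DRing.homCx E N).d q (q + 1)).hom z)) =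
        (p.negOnePow : ℤˣ) • (canF X E N (n + 1)).hom
          (ιt X (DRing.homCx E N) p (q + 1) (n + 1) (by omega) x
            (((DRing.homCx E N).d q (q + 1)).hom z)) := by
      rw [Units.smul_def, map_zsmul, ← Units.smul_def]
    rw [e1]
    erw [canF_ιt X E N (n + 1) (p + 1) q (by omega) ((X.d p (p + 1)).hom x) z,
      canF_ιt X E N (n + 1) p (q + 1) (by omega) x (δ q (q + 1) z),
      canF_ιt X E N n p q hpq x z]
    show δ n (n + 1) (z.comp (tmulCochain X N p x) (by omega)) = _
    rw [δ_comp z (tmulCochain X N p x) (show q + p = n by omega) (q + 1) (p + 1) (n + 1) rfl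
      rfl rfl, δ_tmulCochain X N p (p + 1) rfl x]
    rfl

lemma can_f_ιt (n p q : ℤ) (hpq : p + q = n) (x : X.X p) (z : Cochain E N q) :
    (((can X E N).f n).hom (ιt X (DRing.homCx E N) p q n hpq x z) : Cochain E (X ⊗ N) n) =
      z.comp (tmulCochain X N p x) (by omega) :=
  canF_ιt X E N n p q hpq x z

end Can

section Nat

variable (X E : DRing.Cx P) {N N' : DRing.Cx P} (g : N ⟶ N')

lemma ofHom_comp_tmulCochain (p : ℤ) (x : X.X p) :
    (Cochain.ofHom g).comp (tmulCochain X N' p x) (zero_add p) =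
      (tmulCochain X N p x).comp (Cochain.ofHom (X ◁ g)) (add_zero p) := by
  ext q i hq : 1
  refine ModuleCat.hom_ext (LinearMap.ext fun y => ?_)
  rw [Cochain.zero_cochain_comp_v, Cochain.comp_zero_cochain_v, Cochain.ofHom_v, Cochain.ofHom_v,
    tmulCochain_v, tmulCochain_v, ModuleCat.hom_comp, ModuleCat.hom_comp, LinearMap.comp_apply,
    LinearMap.comp_apply, tmulL_apply, tmulL_apply, whiskerLeft_ιt]

/-- naturality of `can` in the third variable -/
lemma can_naturality :
    (X ◁ DRing.homCxMap E g) ≫ can X E N' = can X E N ≫ DRing.homCxMap E (X ◁ g) := by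
  apply HomologicalComplex.hom_ext
  intro n
  apply hom_ext_tensor
  intro p q hpq x z
  rw [HomologicalComplex.comp_f, HomologicalComplex.comp_f, ModuleCat.hom_comp,
    ModuleCat.hom_comp, LinearMap.comp_apply, LinearMap.comp_apply,
    whiskerLeft_ιt X (DRing.homCxMap E g) p q n hpq x z]
  erw [can_f_ιt X E N' n p q hpq x, can_f_ιt X E N n p q hpq x z, homCxMap_f_apply,
    homCxMap_f_apply]
  rw [Cochain.comp_assoc_of_second_is_zero_cochain, ofHom_comp_tmulCochain,
    Cochain.comp_assoc_of_third_is_zero_cochain]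

end Nat

end Groth.Agent.Lib.ShriekTenH6
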