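import Mathlib
import Groth.Prelude.Def_DRing2
import Groth.Prelude.Def_DRing4
import Groth.Agent.Lib.ShriekTen1_helper6

/-!
# `φ^!(K) ≅ K ⊗ ω` (helper6), part 2: `can : X ⊗ Hom•(E, N) ⟶ Hom•(E, X ⊗ N)` is an isomorphism
of complexes when `E` is strictly perfect.
-/

set_option autoImplicit false
universe u
open CategoryTheory Limits MonoidalCategory CochainComplex CochainComplex.HomComplex

namespace Groth.Agent.Lib.ShriekTenH6

open Groth.Agent.Lib.HomCx

variable {P : Type u} [CommRing P]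

section DualBasis

/-- the dual basis lemma for finite projective modules -/
lemma exists_dualBasis (M : Type u) [AddCommGroup M] [Module P M] [Module.Finite P M]
    [Module.Projective P M] :
    ∃ (m : ℕ) (e : Fin m → M) (φ : Fin m → (M →ₗ[P] P)), ∀ x : M, x = ∑ i, φ i x • e i := by
  classical
  obtain ⟨m, f, g, -, -, h⟩ := Module.Finite.exists_comp_eq_id_of_projective P M
  refine ⟨m, fun i => f (fun j => if i = j then 1 else 0),
    fun i => LinearMap.proj i ∘ₗ g, fun x => ?_⟩
  have h1 : f (g x) = x := LinearMap.congr_fun h x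
  conv_lhs => rw [← h1, LinearMap.pi_apply_eq_sum_univ f (g x)]
  rfl

end DualBasis

section Single

variable {K L M : DRing.Cx P}

lemma single_add' {p q : ℤ} (f g : K.X p ⟶ L.X q) (n : ℤ) :
    Cochain.single (f + g) n = Cochain.single f n + Cochain.single g n := by
  ext p' q' hpq'
  rw [Cochain.add_v]
  by_cases hp : p' = p
  · subst hp
    by_cases hq : q' = q
    · subst hq
      rw [Cochain.single_v, Cochain.single_v, Cochain.single_v]
    · rw [Cochain.single_v_eq_zero' _ _ _ _ _ hq, Cochain.single_v_eq_zero' _ _ _ _ _ hq,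
        Cochain.single_v_eq_zero' _ _ _ _ _ hq, add_zero]
  · rw [Cochain.single_v_eq_zero _ _ _ _ _ hp, Cochain.single_v_eq_zero _ _ _ _ _ hp,
      Cochain.single_v_eq_zero _ _ _ _ _ hp, add_zero]

lemma single_smul' {p q : ℤ} (r : P) (f : K.X p ⟶ L.X q) (n : ℤ) :
    Cochain.single (r • f) n = r • Cochain.single f n := by
  ext p' q' hpq'
  rw [Cochain.smul_v]
  by_cases hp : p' = p
  · subst hp
    by_cases hq : q' = q
    · subst hq
      rw [Cochain.single_v, Cochain.single_v]
    · rw [Cochain.single_v_eq_zero' _ _ _ _ _ hq, Cochain.single_v_eq_zero' _ _ _ _ _ hq,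
        smul_zero]
  · rw [Cochain.single_v_eq_zero _ _ _ _ _ hp, Cochain.single_v_eq_zero _ _ _ _ _ hp, smul_zero]

lemma single_comp' {p q r : ℤ} (f : K.X p ⟶ L.X q) (d d' n : ℤ) (hd : p + d = q)
    (z : Cochain L M d') (hr : q + d' = r) (h : d + d' = n) :
    (Cochain.single f d).comp z h = Cochain.single (f ≫ z.v q r hr) n := by
  ext p' r' hpr'
  by_cases hp : p' = p
  · subst hp
    obtain rfl : r = r' := by omega
    rw [Cochain.comp_v _ _ h p' q r hd hr, Cochain.single_v, Cochain.single_v]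
  · rw [Cochain.comp_v _ _ h p' (p' + d) r' rfl (by omega),
      Cochain.single_v_eq_zero _ _ _ _ _ hp, Cochain.single_v_eq_zero _ _ _ _ _ hp, zero_comp]

end Single

section Kap

/-- the unit object of `ModuleCat P` -/
noncomputable abbrev PPm (P : Type u) [CommRing P] : ModuleCat.{u} P := ModuleCat.of P P

/-- `r ↦ r • y` -/
noncomputable def smulR {M : ModuleCat.{u} P} (y : M) : PPm P ⟶ M :=
  ModuleCat.ofHom (LinearMap.toSpanSingleton P M y)

lemma smulR_apply {M : ModuleCat.{u} P} (y : M) (r : P) : (smulR y).hom r = r • y := rfl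

lemma smulR_add {M : ModuleCat.{u} P} (y y' : M) : smulR (y + y') = smulR y + smulR y' := by
  refine ModuleCat.hom_ext (LinearMap.ext fun r => ?_)
  rw [ModuleCat.hom_add, LinearMap.add_apply, smulR_apply, smulR_apply, smulR_apply, smul_add]

lemma smulR_smul {M : ModuleCat.{u} P} (s : P) (y : M) : smulR (s • y) = s • smulR y := by
  refine ModuleCat.hom_ext (LinearMap.ext fun r => ?_)
  rw [ModuleCat.hom_smul, LinearMap.smul_apply, smulR_apply, smulR_apply, smul_comm]

lemma smulR_comp {M M' : ModuleCat.{u} P} (y : M) (g : M ⟶ M') :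
    smulR y ≫ g = smulR (g.hom y) := by
  refine ModuleCat.hom_ext (LinearMap.ext fun r => ?_)
  rw [ModuleCat.hom_comp, LinearMap.comp_apply, smulR_apply, smulR_apply, map_smul]

variable (E N : DRing.Cx P)

/-- the cochain `E ⟶ N` with the single component `e ↦ φ(e) • y` -/
noncomputable def kap (j q' d : ℤ) (φ : E.X j ⟶ PPm P) (y : N.X q') : Cochain E N d :=
  Cochain.single (φ ≫ smulR y) d

lemma kap_v (j q' d : ℤ) (hd : j + d = q') (φ : E.X j ⟶ PPm P) (y : N.X q') :
    (kap E N j q' d φ y).v j q' hd = φ ≫ smulR y :=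
  Cochain.single_v _ _ hd

lemma kap_v_ne (j q' d : ℤ) (φ : E.X j ⟶ PPm P) (y : N.X q') (a b : ℤ) (hab : a + d = b)
    (ha : a ≠ j) : (kap E N j q' d φ y).v a b hab = 0 :=
  Cochain.single_v_eq_zero _ _ _ _ _ ha

/-- `kap` as a linear map in `y` -/
noncomputable def kapLin (j q' d : ℤ) (φ : E.X j ⟶ PPm P) : N.X q' →ₗ[P] Cochain E N d where
  toFun y := kap E N j q' d φ y
  map_add' y y' := by
    dsimp only [kap]
    rw [smulR_add, Preadditive.comp_add, single_add']
  map_smul' r y := by
    dsimp only [kap]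
    rw [smulR_smul, Linear.comp_smul, single_smul']
    rfl

lemma kapLin_apply (j q' d : ℤ) (φ : E.X j ⟶ PPm P) (y : N.X q') :
    kapLin E N j q' d φ y = kap E N j q' d φ y := rfl

end Kap

section Phi

variable (X E N : DRing.Cx P)

/-- `x ⊗ y ↦ x ⊗ (e ↦ φ(e) • y)` -/
noncomputable def PhiF (j n m : ℤ) (hm : j + n = m) (φ : E.X j ⟶ PPm P) :
    (X ⊗ N : DRing.Cx P).X m ⟶ (X ⊗ DRing.homCx E N : DRing.Cx P).X n :=
  HomologicalComplex.mapBifunctorDesc (fun p q' hpq =>
    ((X.X p ◁ (ModuleCat.ofHom (kapLin E N j q' (q' - j) φ) :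
        N.X q' ⟶ (DRing.homCx E N).X (q' - j))) ≫
      HomologicalComplex.ιTensorObj X (DRing.homCx E N) p (q' - j) n (by
        have : p + q' = m := hpq
        omega) : (X.X p ⊗ N.X q' : ModuleCat.{u} P) ⟶ _))

lemma PhiF_ιt (j n m : ℤ) (hm : j + n = m) (φ : E.X j ⟶ PPm P) (p q' d : ℤ)
    (hpq : p + q' = m) (hd : j + d = q') (x : X.X p) (y : N.X q') :
    (PhiF X E N j n m hm φ).hom (ιt X N p q' m hpq x y) =
      ιt X (DRing.homCx E N) p d n (by omega) x (kap E N j q' d φ y) := by
  obtain rfl : d = q' - j := by omega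
  have h := HomologicalComplex.ι_mapBifunctorDesc (K₁ := X) (K₂ := N)
    (F := curriedTensor _) (c := ComplexShape.up ℤ) (j := m) (fun p q' hpq =>
    ((X.X p ◁ (ModuleCat.ofHom (kapLin E N j q' (q' - j) φ) :
        N.X q' ⟶ (DRing.homCx E N).X (q' - j))) ≫
      HomologicalComplex.ιTensorObj X (DRing.homCx E N) p (q' - j) n (by
        have : p + q' = m := hpq
        omega) : (X.X p ⊗ N.X q' : ModuleCat.{u} P) ⟶ _)) p q' hpq
  have h2 := congrArg (fun f => f.hom (x ⊗ₜ[P] y)) h
  exact h2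

lemma smulR_comp_tmulL (p q' m : ℤ) (hpq : p + q' = m) (x : X.X p) (y : N.X q') :
    smulR y ≫ tmulL X N p q' m hpq x = smulR (ιt X N p q' m hpq x y) := by
  rw [smulR_comp, tmulL_apply]

/-- `can ∘ Φ_φ = κ_φ` -/
lemma PhiF_comp_can (j n m : ℤ) (hm : j + n = m) (φ : E.X j ⟶ PPm P) :
    PhiF X E N j n m hm φ ≫ (can X E N).f n =
      (ModuleCat.ofHom (kapLin E (X ⊗ N) j m n φ) :
        (X ⊗ N : DRing.Cx P).X m ⟶ (DRing.homCx E (X ⊗ N)).X n) := by
  apply hom_ext_tensor
  intro p q' hpq x y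
  rw [ModuleCat.hom_comp, LinearMap.comp_apply, PhiF_ιt X E N j n m hm φ p q' (q' - j) hpq
    (by omega) x y]
  erw [can_f_ιt X E N n p (q' - j) (by omega) x (kap E N j q' (q' - j) φ y)]
  show _ = kap E (X ⊗ N) j m n φ (ιt X N p q' m hpq x y)
  dsimp only [kap]
  rw [single_comp' (φ ≫ smulR y) (q' - j) p n (by omega) (tmulCochain X N p x)
    (show q' + p = m by omega) (by omega), tmulCochain_v, Category.assoc, smulR_comp_tmulL]

end Phi

section Dec

variable (E M : DRing.Cx P) (a b : ℤ) (hE : DRing.VanishesOutside E a b)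
  (m : ℤ → ℕ) (e : ∀ j, Fin (m j) → E.X j) (φ : ∀ j, Fin (m j) → (E.X j →ₗ[P] P))
  (hφ : ∀ j (x : E.X j), x = ∑ i, φ j i x • e j i)

include hE hφ in
/-- decomposition of a cochain with respect to dual bases -/
lemma cochain_dec (d : ℤ) (z : Cochain E M d) :
    z = ∑ j ∈ Finset.Icc a b, ∑ i : Fin (m j),
      kap E M j (j + d) d (ModuleCat.ofHom (φ j i)) ((z.v j (j + d) rfl).hom (e j i)) := by
  ext a' b' hab : 1
  obtain rfl : b' = a' + d := by omega
  refine ModuleCat.hom_ext (LinearMap.ext fun e' => ?_)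
  change evL E M d a' (a' + d) rfl z e' = evL E M d a' (a' + d) rfl
    (∑ j ∈ Finset.Icc a b, ∑ i : Fin (m j),
      kap E M j (j + d) d (ModuleCat.ofHom (φ j i)) ((z.v j (j + d) rfl).hom (e j i))) e'
  have key : evL E M d a' (a' + d) rfl
      (∑ j ∈ Finset.Icc a b, ∑ i : Fin (m j),
        kap E M j (j + d) d (ModuleCat.ofHom (φ j i)) ((z.v j (j + d) rfl).hom (e j i))) e' =
      ∑ j ∈ Finset.Icc a b, ∑ i : Fin (m j), evL E M d a' (a' + d) rfl
        (kap E M j (j + d) d (ModuleCat.ofHom (φ j i)) ((z.v j (j + d) rfl).hom (e j i))) e' := by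
    rw [map_sum, LinearMap.sum_apply]
    refine Finset.sum_congr rfl (fun j _ => ?_)
    rw [map_sum, LinearMap.sum_apply]
  rw [key]
  by_cases ha : a' ∈ Finset.Icc a b
  · rw [Finset.sum_eq_single a' (fun j _ hj => by
      refine Finset.sum_eq_zero (fun i _ => ?_)
      rw [evL_apply, kap_v_ne E M j (j + d) d _ _ a' (a' + d) rfl (Ne.symm hj)]
      rfl) (fun h => (h ha).elim)]
    conv_lhs => rw [evL_apply, hφ a' e', map_sum]
    refine Finset.sum_congr rfl (fun i _ => ?_)
    rw [evL_apply, kap_v E M a' (a' + d) d rfl, ModuleCat.hom_comp, LinearMap.comp_apply, smulR_apply,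
      map_smul]
    rfl
  · have hz : IsZero (E.X a') := hE a' (by
      rw [Finset.mem_Icc, not_and_or, not_le, not_le] at ha
      exact ha)
    have : Subsingleton (E.X a') := ModuleCat.subsingleton_of_isZero hz
    rw [Subsingleton.elim e' 0, map_zero]
    refine (Finset.sum_eq_zero (fun j _ => Finset.sum_eq_zero (fun i _ => ?_))).symm
    rw [map_zero]

end Dec

section Iso

lemma hom_sum_apply {ι : Type*} (s : Finset ι) {M N : ModuleCat.{u} P} (f : ι → (M ⟶ N)) (w : M) :
    (∑ i ∈ s, f i).hom w = ∑ i ∈ s, (f i).hom w := by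
  rw [ModuleCat.hom_sum, LinearMap.sum_apply]

variable (X E N : DRing.Cx P) (a b : ℤ) (hE : DRing.VanishesOutside E a b)
  (hfp : DRing.TermwiseFiniteProjective E)

/-- the inverse of `can` in degree `n`, for given dual bases -/
noncomputable def canInvF (n : ℤ) (m : ℤ → ℕ) (e : ∀ j, Fin (m j) → E.X j)
    (φ : ∀ j, Fin (m j) → (E.X j →ₗ[P] P)) :
    (DRing.homCx E (X ⊗ N)).X n ⟶ (X ⊗ DRing.homCx E N : DRing.Cx P).X n :=
  ∑ j ∈ Finset.Icc a b, ∑ i : Fin (m j),
    (ModuleCat.ofHom ((evL E (X ⊗ N) n j (j + n) rfl).flip (e j i)) :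
      (DRing.homCx E (X ⊗ N)).X n ⟶ (X ⊗ N : DRing.Cx P).X (j + n)) ≫
    PhiF X E N j n (j + n) rfl (ModuleCat.ofHom (φ j i))

include hE hfp in
/-- **`can` is an isomorphism for `E` strictly perfect** -/
theorem isIso_can : IsIso (can X E N) := by
  classical
  have hdb : ∀ j : ℤ, ∃ (m : ℕ) (e : Fin m → E.X j) (φ : Fin m → (E.X j →ₗ[P] P)),
      ∀ x : E.X j, x = ∑ i, φ i x • e i := fun j => by
    haveI := (hfp j).1
    haveI := (hfp j).2
    exact exists_dualBasis (E.X j)
  choose m e φ hφ using hdb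
  haveI : ∀ n, IsIso ((can X E N).f n) := fun n => by
    refine ⟨canInvF X E N a b n m e φ, ?_, ?_⟩
    · -- `can ≫ L = 𝟙`
      apply hom_ext_tensor
      intro p q hpq x (z : Cochain E N q)
      rw [ModuleCat.hom_comp, LinearMap.comp_apply]
      erw [can_f_ιt X E N n p q hpq x z]
      rw [ModuleCat.hom_id, LinearMap.id_apply]
      dsimp only [canInvF]
      refine (hom_sum_apply _ _ _).trans ?_
      have h1 : ∀ j ∈ Finset.Icc a b,
          (∑ i : Fin (m j),
            (ModuleCat.ofHom ((evL E (X ⊗ N) n j (j + n) rfl).flip (e j i)) :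
              (DRing.homCx E (X ⊗ N)).X n ⟶ (X ⊗ N : DRing.Cx P).X (j + n)) ≫
            PhiF X E N j n (j + n) rfl (ModuleCat.ofHom (φ j i))).hom
              (z.comp (tmulCochain X N p x) (show q + p = n by omega)) =
          (tmulL X (DRing.homCx E N) p q n hpq x).hom
            (∑ i : Fin (m j), kap E N j (j + q) q (ModuleCat.ofHom (φ j i))
              ((z.v j (j + q) rfl).hom (e j i))) := by
        intro j _
        refine (hom_sum_apply _ _ _).trans ?_
        rw [map_sum]
        refine Finset.sum_congr rfl (fun i _ => ?_)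
        rw [ModuleCat.hom_comp, LinearMap.comp_apply]
        have h2 : (ModuleCat.ofHom ((evL E (X ⊗ N) n j (j + n) rfl).flip (e j i)) :
              (DRing.homCx E (X ⊗ N)).X n ⟶ (X ⊗ N : DRing.Cx P).X (j + n)).hom
              (z.comp (tmulCochain X N p x) (show q + p = n by omega)) =
            ιt X N p (j + q) (j + n) (by omega) x ((z.v j (j + q) rfl).hom (e j i)) := by
          show (((z.comp (tmulCochain X N p x) (show q + p = n by omega)).v j (j + n) rfl).hom
            (e j i)) = _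
          rw [Cochain.comp_v _ _ (show q + p = n by omega) j (j + q) (j + n) rfl (by omega),
            tmulCochain_v, ModuleCat.hom_comp, LinearMap.comp_apply, tmulL_apply]
        rw [h2]
        exact (PhiF_ιt X E N j n (j + n) rfl _ p (j + q) q (by omega) rfl x _).trans
          (tmulL_apply _ _ _ _ _ _ _ _).symm
      refine (Finset.sum_congr rfl h1).trans ?_
      rw [← map_sum]
      exact (congrArg (fun c => (tmulL X (DRing.homCx E N) p q n hpq x).hom c)
        (cochain_dec E N a b hE m e φ hφ q z).symm).trans (tmulL_apply _ _ _ _ _ _ _ _)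
    · -- `L ≫ can = 𝟙`
      dsimp only [canInvF]
      rw [Preadditive.sum_comp]
      have h1 : ∀ j ∈ Finset.Icc a b,
          (∑ i : Fin (m j),
            (ModuleCat.ofHom ((evL E (X ⊗ N) n j (j + n) rfl).flip (e j i)) :
              (DRing.homCx E (X ⊗ N)).X n ⟶ (X ⊗ N : DRing.Cx P).X (j + n)) ≫
            PhiF X E N j n (j + n) rfl (ModuleCat.ofHom (φ j i))) ≫ (can X E N).f n =
          ∑ i : Fin (m j),
            (ModuleCat.ofHom ((evL E (X ⊗ N) n j (j + n) rfl).flip (e j i)) :
              (DRing.homCx E (X ⊗ N)).X n ⟶ (X ⊗ N : DRing.Cx P).X (j + n)) ≫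
            (ModuleCat.ofHom (kapLin E (X ⊗ N) j (j + n) n (ModuleCat.ofHom (φ j i))) :
              (X ⊗ N : DRing.Cx P).X (j + n) ⟶ (DRing.homCx E (X ⊗ N)).X n) := by
        intro j _
        rw [Preadditive.sum_comp]
        refine Finset.sum_congr rfl (fun i _ => ?_)
        rw [Category.assoc]
        exact congrArg (fun t => _ ≫ t) (PhiF_comp_can X E N j n (j + n) rfl _)
      refine (Finset.sum_congr rfl h1).trans ?_
      refine ModuleCat.hom_ext (LinearMap.ext fun (w : Cochain E (X ⊗ N) n) => ?_)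
      show _ = w
      refine (hom_sum_apply _ _ _).trans ?_
      refine Eq.trans ?_ (cochain_dec E (X ⊗ N) a b hE m e φ hφ n w).symm
      refine Finset.sum_congr rfl (fun j _ => ?_)
      refine (hom_sum_apply _ _ _).trans ?_
      rfl
  exact HomologicalComplex.Hom.isIso_of_components _

end Iso

end Groth.Agent.Lib.ShriekTenH6
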