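import Mathlib
import Groth.Prelude.Def_DRing4
import Groth.Prelude.Def_DTen5
import Groth.Agent.Lib.ShriekTen2_helper6
import Groth.Agent.Lib.ExtKFlat_helper2
import Groth.Agent.Lib.TrivBC7_helper6

/-!
# `φ^!(K) ≅ K ⊗ ω` (helper6), part 3: the projection map
`σ : X ⊗_P W|_P ⟶ ((A ⊗_P X) ⊗_A W)|_P` is an isomorphism of complexes, compatible with the
curried action maps.
-/

set_option autoImplicit false
universe u
open CategoryTheory Limits MonoidalCategory CochainComplex CochainComplex.HomComplex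

namespace Groth.Agent.Lib.ShriekTenH6

open Groth.Agent.Lib.HomCx Groth.Agent.Lib.ExtKFlat Groth.Agent.Lib.TrivBCH6

set_option backward.isDefEq.respectTransparency false in
lemma fromSingleMk_comp {C : Type*} [Category C] [Preadditive C] [HasZeroObject C]
    {X : C} {K L : CochainComplex C ℤ} {p q : ℤ} (f : X ⟶ K.X q)
    {n : ℤ} (h : p + n = q) {m nm : ℤ} (γ : Cochain K L m) (hnm : n + m = nm) (q' : ℤ)
    (hq' : q + m = q') :
    (Cochain.fromSingleMk f h).comp γ hnm =
      Cochain.fromSingleMk (f ≫ γ.v q q' hq') (show p + nm = q' by omega) := by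
  apply (Cochain.fromSingleEquiv (show p + nm = q' by omega)).injective
  rw [Cochain.fromSingleEquiv_fromSingleMk]
  simp [Cochain.fromSingleEquiv, Cochain.comp_v _ _ hnm p q q' h hq']

variable {P A : Type u} [CommRing P] [CommRing A] [Algebra P A]

/-- module level: `M ⊗_P N|_P ⟶ ((A ⊗_P M) ⊗_A N)|_P`, `m ⊗ n ↦ (1 ⊗ m) ⊗ n` -/
noncomputable def sigM (M : ModuleCat.{u} P) (N : ModuleCat.{u} A) :
    (M ⊗ (res P A).obj N : ModuleCat.{u} P) ⟶ (res P A).obj ((ext P A).obj M ⊗ N) :=
  ((ModuleCat.extendRestrictScalarsAdj.{u, u, u} (algebraMap P A)).unit.app M ▷ _) ≫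
    DTen.resTen₀app (algebraMap P A) ((ext P A).obj M) N

variable (X : DRing.Cx P) (W : DRing.Cx A)

/-- `σ : X ⊗_P W|_P ⟶ ((A ⊗_P X) ⊗_A W)|_P`, `x ⊗ w ↦ (1 ⊗ x) ⊗ w` -/
noncomputable def sig :
    (X ⊗ (DTen.resCx (algebraMap P A)).obj W : DRing.Cx P) ⟶
      (DTen.resCx (algebraMap P A)).obj ((DTen.extCx (algebraMap P A)).obj X ⊗ W) :=
  ((DTen.unitCx (algebraMap P A)).app X ▷ _) ≫ DTen.resTenCx (algebraMap P A) _ W

/-- `1 ⊗ x` -/
noncomputable def oneT (p : ℤ) (x : X.X p) : ((DTen.extCx (algebraMap P A)).obj X).X p :=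
  ((ModuleCat.extendRestrictScalarsAdj.{u, u, u} (algebraMap P A)).unit.app (X.X p)).hom x

lemma sig_f_ιt (p q n : ℤ) (h : p + q = n) (x : X.X p)
    (w : ((DTen.resCx (algebraMap P A)).obj W).X q) :
    ((sig X W).f n).hom (ιt X ((DTen.resCx (algebraMap P A)).obj W) p q n h x w) =
      ιt ((DTen.extCx (algebraMap P A)).obj X) W p q n h (oneT X p x) (w : W.X q) := by
  have e1 : ((sig X W).f n).hom (ιt X ((DTen.resCx (algebraMap P A)).obj W) p q n h x w) =
      ((DTen.resTenCx (algebraMap P A) ((DTen.extCx (algebraMap P A)).obj X) W).f n).hom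
        ((((DTen.unitCx (algebraMap P A)).app X ▷ (DTen.resCx (algebraMap P A)).obj W).f n).hom
          (ιt X ((DTen.resCx (algebraMap P A)).obj W) p q n h x w)) := rfl
  refine e1.trans ?_
  refine (congrArg _ (whiskerRight_ιt ((DTen.unitCx (algebraMap P A)).app X)
    ((DTen.resCx (algebraMap P A)).obj W) p q n h x w)).trans ?_
  have h1 := DTen.ι_resTenCx (algebraMap P A) ((DTen.extCx (algebraMap P A)).obj X) W p q n h
  have h2 := congrArg (fun f => f.hom ((oneT X p x) ⊗ₜ[P] w)) h1
  exact h2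

lemma ι_sig_f (p q n : ℤ) (h : p + q = n) :
    HomologicalComplex.ιTensorObj X ((DTen.resCx (algebraMap P A)).obj W) p q n h ≫ (sig X W).f n =
      sigM (X.X p) (W.X q) ≫ (res P A).map
        (HomologicalComplex.ιTensorObj ((DTen.extCx (algebraMap P A)).obj X) W p q n h) := by
  apply ModuleCat.MonoidalCategory.tensor_ext
  intro x w
  exact sig_f_ιt X W p q n h x w

/-- a map between colimit cofans which is an isomorphism on each leg is an isomorphism -/
lemma isIso_of_cofans {C : Type*} [Category C] {J : Type*} {f₁ f₂ : J → C}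
    (c₁ : Cofan f₁) (hc₁ : IsColimit c₁) (c₂ : Cofan f₂) (hc₂ : IsColimit c₂)
    (g : c₁.pt ⟶ c₂.pt) (s : ∀ j, f₁ j ≅ f₂ j)
    (hg : ∀ j, c₁.inj j ≫ g = (s j).hom ≫ c₂.inj j) : IsIso g := by
  refine ⟨Cofan.IsColimit.desc hc₂ (fun j => (s j).inv ≫ c₁.inj j), ?_, ?_⟩
  · refine Cofan.IsColimit.hom_ext hc₁ _ _ (fun j => ?_)
    rw [reassoc_of% hg, Cofan.IsColimit.fac, Iso.hom_inv_id_assoc, Category.comp_id]
  · refine Cofan.IsColimit.hom_ext hc₂ _ _ (fun j => ?_)
    rw [Cofan.IsColimit.fac_assoc, Category.assoc, hg, Iso.inv_hom_id_assoc, Category.comp_id]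

lemma sigM_eq (M : ModuleCat.{u} P) (N : ModuleCat.{u} A) :
    sigM M N = (β_ M ((res P A).obj N)).hom ≫ (cbIso N M).inv ≫
      (res P A).map (β_ N ((ext P A).obj M)).hom := by
  apply ModuleCat.MonoidalCategory.tensor_ext
  intro m n
  rfl

instance isIso_sigM (M : ModuleCat.{u} P) (N : ModuleCat.{u} A) : IsIso (sigM M N) := by
  rw [sigM_eq]
  infer_instance

variable (X : DRing.Cx P) (W : DRing.Cx A)

instance isIso_sig : IsIso (sig X W) := by
  haveI : ∀ n, IsIso ((sig X W).f n) := fun n => by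
    let B₁ := (((curriedTensor (ModuleCat.{u} P)).mapBifunctorHomologicalComplex
      (ComplexShape.up ℤ) (ComplexShape.up ℤ)).obj X).obj ((DTen.resCx (algebraMap P A)).obj W)
    let B₂ := (((curriedTensor (ModuleCat.{u} A)).mapBifunctorHomologicalComplex
      (ComplexShape.up ℤ) (ComplexShape.up ℤ)).obj ((DTen.extCx (algebraMap P A)).obj X)).obj W
    have hc₁ := B₁.toGradedObject.isColimitCofanMapObj
      (ComplexShape.π (ComplexShape.up ℤ) (ComplexShape.up ℤ) (ComplexShape.up ℤ)) n
    have hc₂ := isColimitCofanMkObjOfIsColimit (res P A)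
      (B₂.toGradedObject.mapObjFun
        (ComplexShape.π (ComplexShape.up ℤ) (ComplexShape.up ℤ) (ComplexShape.up ℤ)) n)
      (P := B₂.toGradedObject.mapObj
        (ComplexShape.π (ComplexShape.up ℤ) (ComplexShape.up ℤ) (ComplexShape.up ℤ)) n)
      (fun j => B₂.toGradedObject.ιMapObj
        (ComplexShape.π (ComplexShape.up ℤ) (ComplexShape.up ℤ) (ComplexShape.up ℤ)) j.1 n j.2)
      (B₂.toGradedObject.isColimitCofanMapObj
        (ComplexShape.π (ComplexShape.up ℤ) (ComplexShape.up ℤ) (ComplexShape.up ℤ)) n)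
    exact isIso_of_cofans _ hc₁ _ hc₂ ((sig X W).f n)
      (fun j => @asIso _ _ _ _ (sigM (X.X j.1.1) (W.X j.1.2)) (isIso_sigM _ _))
      (fun j => ι_sig_f X W j.1.1 j.1.2 n j.2)
  exact HomologicalComplex.Hom.isIso_of_components _

variable (E : DRing.Cx P) (π : E ⟶ A0 P A)

lemma smul_ιt (Y W : DRing.Cx A) (p q n : ℤ) (h : p + q = n) (a : A) (y : Y.X p) (w : W.X q) :
    a • ιt Y W p q n h y w = ιt Y W p q n h y (a • w) := by
  dsimp only [ιt]
  rw [← map_smul, TensorProduct.smul_tmul', TensorProduct.smul_tmul, ]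

lemma sig_comp_actHat :
    sig X W ≫ (actHat E π).app ((DTen.extCx (algebraMap P A)).obj X ⊗ W) =
      (X ◁ (actHat E π).app W) ≫ can X E ((DTen.resCx (algebraMap P A)).obj W) ≫
        DRing.homCxMap E (sig X W) := by
  apply HomologicalComplex.hom_ext
  intro n
  apply hom_ext_tensor
  intro p q hpq x w
  have e1 : ((sig X W ≫ (actHat E π).app ((DTen.extCx (algebraMap P A)).obj X ⊗ W)).f n).hom
      (ιt X ((DTen.resCx (algebraMap P A)).obj W) p q n hpq x w) =
      actCochain E π ((DTen.extCx (algebraMap P A)).obj X ⊗ W) n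
        (((sig X W).f n).hom (ιt X ((DTen.resCx (algebraMap P A)).obj W) p q n hpq x w)) := rfl
  refine e1.trans ?_
  have e2 : (((X ◁ (actHat E π).app W) ≫ can X E ((DTen.resCx (algebraMap P A)).obj W) ≫
        DRing.homCxMap E (sig X W)).f n).hom
      (ιt X ((DTen.resCx (algebraMap P A)).obj W) p q n hpq x w) =
      ((DRing.homCxMap E (sig X W)).f n).hom
        (((can X E ((DTen.resCx (algebraMap P A)).obj W)).f n).hom
          (((X ◁ (actHat E π).app W).f n).hom
            (ιt X ((DTen.resCx (algebraMap P A)).obj W) p q n hpq x w))) := rfl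
  refine Eq.trans ?_ e2.symm
  have r1 : ((X ◁ (actHat E π).app W).f n).hom
      (ιt X ((DTen.resCx (algebraMap P A)).obj W) p q n hpq x w) =
      ιt X (DRing.homCx E ((DTen.resCx (algebraMap P A)).obj W)) p q n hpq x
        (actCochain E π W q w) :=
    whiskerLeft_ιt X ((actHat E π).app W) p q n hpq x w
  have r2 := can_f_ιt X E ((DTen.resCx (algebraMap P A)).obj W) n p q hpq x
    (actCochain E π W q w)
  have r3 : ((DRing.homCxMap E (sig X W)).f n).hom
        (((can X E ((DTen.resCx (algebraMap P A)).obj W)).f n).hom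
          (((X ◁ (actHat E π).app W).f n).hom
            (ιt X ((DTen.resCx (algebraMap P A)).obj W) p q n hpq x w))) =
      ((actCochain E π W q w).comp (tmulCochain X ((DTen.resCx (algebraMap P A)).obj W) p x)
        (show q + p = n by omega)).comp (Cochain.ofHom (sig X W)) (add_zero n) := by
    refine (congrArg (fun z => ((DRing.homCxMap E (sig X W)).f n).hom
      (((can X E ((DTen.resCx (algebraMap P A)).obj W)).f n).hom z)) r1).trans ?_
    refine (congrArg (fun z => ((DRing.homCxMap E (sig X W)).f n).hom z) r2).trans ?_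
    rfl
  refine Eq.trans ?_ r3.symm
  refine (congrArg (actCochain E π ((DTen.extCx (algebraMap P A)).obj X ⊗ W) n)
    (sig_f_ιt X W p q n hpq x w)).trans ?_
  unfold actCochain
  rw [Cochain.comp_assoc_of_first_is_zero_cochain, Cochain.comp_assoc_of_first_is_zero_cochain]
  refine congrArg (fun z => (Cochain.ofHom π).comp z (zero_add n)) ?_
  rw [fromSingleMk_comp _ _ (tmulCochain X ((DTen.resCx (algebraMap P A)).obj W) p x) _ n
    (show q + p = n by omega), ← Cochain.fromSingleMk_postcomp]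
  refine congrArg (fun f => Cochain.fromSingleMk f (zero_add n)) ?_
  refine ModuleCat.hom_ext (LinearMap.ext fun (a : A) => ?_)
  have l1 : (smulHomX ((DTen.extCx (algebraMap P A)).obj X ⊗ W) n
      (ιt ((DTen.extCx (algebraMap P A)).obj X) W p q n hpq (oneT X p x) w)).hom a =
      ιt ((DTen.extCx (algebraMap P A)).obj X) W p q n hpq (oneT X p x) (a • (show W.X q from w)) :=
    smul_ιt _ W p q n hpq a (oneT X p x) w
  refine l1.trans ?_
  have l2 : ((smulHomX W q w ≫ (tmulCochain X ((DTen.resCx (algebraMap P A)).obj W) p x).v q n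
      (by omega)) ≫ (sig X W).f n).hom a =
      ((sig X W).f n).hom (ιt X ((DTen.resCx (algebraMap P A)).obj W) p q n hpq x
        ((smulHomX W q w).hom a)) := by
    rw [tmulCochain_v]
    rfl
  refine Eq.trans ?_ l2.symm
  exact (sig_f_ιt X W p q n hpq x ((smulHomX W q w).hom a)).symm

end Groth.Agent.Lib.ShriekTenH6
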