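import Mathlib
import Groth.Prelude.Def_DRing4
import Groth.Prelude.Def_DTen5
import Groth.Agent.Lib.ShriekTen3_helper6
import Groth.Agent.Lib.DRingLT_helper2

/-!
# `φ^!(K) ≅ K ⊗ ω` (helper6), part 4: `(A ⊗_P X) ⊗_A Hom_P(A, I₀) ≅ RHom_P(A, X ⊗_P I₀)`
-/

set_option autoImplicit false
universe u
open CategoryTheory CategoryTheory.Limits MonoidalCategory DerivedCategory
open CochainComplex CochainComplex.HomComplex
attribute [local instance] HasDerivedCategory.standard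

namespace Groth.Agent.Lib.ShriekTenH6

open Groth.Agent.Lib.DMod_helper6 Groth.Agent.Lib.DerivedAdj Groth.Agent.Lib.KFlatMod
  Groth.Agent.Lib.BaseCmp Groth.Agent.Lib.FlatBCH6 Groth.Agent.Lib.HomCx Groth.Agent.Lib.RHomK
  Groth.Agent.Lib.TrivBCH6

section Psi

variable {P A : Type u} [CommRing P] [CommRing A] [Algebra P A]
variable (E : DRing.Cx P) (π : E ⟶ A0 P A)
variable (X : DRing.Cx P) (I₀ : DRing.Cx P)

/-- `ξ₀ : ((A ⊗_P X) ⊗_A Hom_P(A, I₀))|_P ⟶ X ⊗_P I₀` -/
noncomputable def xi0 :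
    (DTen.resCx (algebraMap P A)).obj
        ((DTen.extCx (algebraMap P A)).obj X ⊗ coextCx (algebraMap P A) I₀) ⟶
      (X ⊗ I₀ : DRing.Cx P) :=
  inv (sig X (coextCx (algebraMap P A) I₀)) ≫ X ◁ coextCounit (algebraMap P A) I₀

lemma sig_comp_act_xi0 :
    sig X (coextCx (algebraMap P A) I₀) ≫
        (actHat E π).app ((DTen.extCx (algebraMap P A)).obj X ⊗ coextCx (algebraMap P A) I₀) ≫
          (DRing.homCxFunctor E).map (xi0 X I₀) =
      (X ◁ (psi0 (A := A) I₀ ≫ homCxPre π I₀)) ≫ can X E I₀ := by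
  obtain ⟨W', hW'⟩ : ∃ W' : DRing.Cx A, W' = coextCx (algebraMap P A) I₀ := ⟨_, rfl⟩
  obtain ⟨c, hc⟩ : ∃ c : (DTen.resCx (algebraMap P A)).obj (coextCx (algebraMap P A) I₀) ⟶ I₀,
    c = coextCounit (algebraMap P A) I₀ := ⟨_, rfl⟩
  obtain ⟨a', ha'⟩ : ∃ a' : (DTen.resCx (algebraMap P A)).obj (coextCx (algebraMap P A) I₀) ⟶
      DRing.homCx E ((DTen.resCx (algebraMap P A)).obj (coextCx (algebraMap P A) I₀)),
    a' = (actHat E π).app (coextCx (algebraMap P A) I₀) := ⟨_, rfl⟩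
  obtain ⟨b, hb⟩ : ∃ b : (DTen.resCx (algebraMap P A)).obj
        ((DTen.extCx (algebraMap P A)).obj X ⊗ coextCx (algebraMap P A) I₀) ⟶
      DRing.homCx E ((DTen.resCx (algebraMap P A)).obj
        ((DTen.extCx (algebraMap P A)).obj X ⊗ coextCx (algebraMap P A) I₀)),
    b = (actHat E π).app ((DTen.extCx (algebraMap P A)).obj X ⊗ coextCx (algebraMap P A) I₀) :=
    ⟨_, rfl⟩
  obtain ⟨m, hm⟩ : ∃ m : DRing.homCx E ((DTen.resCx (algebraMap P A)).obj
        ((DTen.extCx (algebraMap P A)).obj X ⊗ coextCx (algebraMap P A) I₀)) ⟶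
      DRing.homCx E (X ⊗ I₀), m = DRing.homCxMap E (xi0 X I₀) := ⟨_, rfl⟩
  have s1 : sig X (coextCx (algebraMap P A) I₀) ≫ b =
      (X ◁ a') ≫ can X E ((DTen.resCx (algebraMap P A)).obj (coextCx (algebraMap P A) I₀)) ≫
        DRing.homCxMap E (sig X (coextCx (algebraMap P A) I₀)) := by
    rw [hb, ha']
    exact sig_comp_actHat X (coextCx (algebraMap P A) I₀) E π
  have s2 : DRing.homCxMap E (sig X (coextCx (algebraMap P A) I₀)) ≫ m =
      DRing.homCxMap E (X ◁ c) := by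
    rw [hm, hc]
    change (DRing.homCxFunctor E).map _ ≫ (DRing.homCxFunctor E).map _ =
      (DRing.homCxFunctor E).map _
    rw [← Functor.map_comp]
    unfold xi0
    rw [IsIso.hom_inv_id_assoc]
  have s3 : (X ◁ DRing.homCxMap E c) ≫ can X E I₀ =
      can X E ((DTen.resCx (algebraMap P A)).obj (coextCx (algebraMap P A) I₀)) ≫
        DRing.homCxMap E (X ◁ c) :=
    can_naturality X E c
  have s4 : a' ≫ DRing.homCxMap E c = psi0 (A := A) I₀ ≫ homCxPre π I₀ := by
    rw [ha', hc]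
    exact actHat_counit_eq E π I₀
  have goal : sig X (coextCx (algebraMap P A) I₀) ≫ b ≫ m =
      (X ◁ (psi0 (A := A) I₀ ≫ homCxPre π I₀)) ≫ can X E I₀ := by
    rw [← Category.assoc, s1, Category.assoc, Category.assoc, s2, ← s3, ← s4,
      MonoidalCategory.whiskerLeft_comp, Category.assoc]
  rw [hb, hm] at goal
  exact goal

/-- the composite `Z|_P ⟶ Hom•(E, Z|_P) ⟶ Hom•(E, X ⊗ I₀)` is a quasi-isomorphism -/
theorem quasiIso_act_xi0 (a b : ℤ) (hE : DRing.VanishesOutside E a b)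
    (hfp : DRing.TermwiseFiniteProjective E) [QuasiIso π] (hX : KF P X) [I₀.IsKInjective] :
    QuasiIso ((actHat E π).app
        ((DTen.extCx (algebraMap P A)).obj X ⊗ coextCx (algebraMap P A) I₀) ≫
      (DRing.homCxFunctor E).map (xi0 X I₀)) := by
  have : QuasiIso (homCxPre π I₀) := Groth.Agent.Lib.HomCxPreQis.quasiIso_homCxPre π I₀
  have : QuasiIso (psi0 (A := A) I₀ ≫ homCxPre π I₀) := inferInstance
  have : QuasiIso (X ◁ (psi0 (A := A) I₀ ≫ homCxPre π I₀)) :=
    Groth.Agent.Lib.DRingLT.quasiIso_whiskerLeft_of_kf X hX _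
  have : IsIso (can X E I₀) := isIso_can X E I₀ a b hE hfp
  have hq : QuasiIso ((X ◁ (psi0 (A := A) I₀ ≫ homCxPre π I₀)) ≫ can X E I₀) := inferInstance
  have : QuasiIso (sig X (coextCx (algebraMap P A) I₀) ≫
      (actHat E π).app ((DTen.extCx (algebraMap P A)).obj X ⊗ coextCx (algebraMap P A) I₀) ≫
        (DRing.homCxFunctor E).map (xi0 X I₀)) := by
    rw [sig_comp_act_xi0]
    exact hq
  exact quasiIso_of_comp_left (sig X (coextCx (algebraMap P A) I₀)) _

end Psi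

section Derived

variable {P A : Type u} [CommRing P] [CommRing A] [Algebra P A]
variable (E : DRing.Cx P) [E.IsKProjective] (π : E ⟶ A0 P A) [QuasiIso π]
variable {Rψ : Dual.D P ⥤ Dual.D A} (adj : DRing.restrictD (algebraMap P A) ⊣ Rψ)

include π adj in
/-- **`(A ⊗_P X) ⊗_A Hom_P(A, I₀) ≅ RHom_P(A, X ⊗_P I₀)`** for `X` K-flat, `I₀` K-injective and
`A` perfect over `P` -/
theorem nonempty_tensor_coext_iso (a b : ℤ) (hE : DRing.VanishesOutside E a b)
    (hfp : DRing.TermwiseFiniteProjective E) (X : DRing.Cx P) (hX : KF P X) (I₀ : DRing.Cx P)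
    [I₀.IsKInjective] :
    Nonempty ((Q.obj ((DTen.extCx (algebraMap P A)).obj X ⊗ coextCx (algebraMap P A) I₀) :
      Dual.D A) ≅ Rψ.obj (Q.obj (X ⊗ I₀ : DRing.Cx P))) := by
  obtain ⟨M, hM⟩ : ∃ M : DRing.Cx A,
    M = ((DTen.extCx (algebraMap P A)).obj X ⊗ coextCx (algebraMap P A) I₀) := ⟨_, rfl⟩
  obtain ⟨x0, hx0⟩ : ∃ x0 : (DTen.resCx (algebraMap P A)).obj M ⟶ (X ⊗ I₀ : DRing.Cx P),
      HEq x0 (xi0 (A := A) X I₀) := by
    subst hM
    exact ⟨_, HEq.rfl⟩
  have hq : QuasiIso ((actHat E π).app M ≫ (DRing.homCxFunctor E).map x0) := by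
    subst hM
    obtain rfl := eq_of_heq hx0
    exact quasiIso_act_xi0 E π X I₀ a b hE hfp hX
  rw [← hM]
  let ξ : (DRing.restrictD (algebraMap P A)).obj (Q.obj M) ⟶ Q.obj (X ⊗ I₀ : DRing.Cx P) :=
    (DTen.resFactors (algebraMap P A)).hom.app M ≫ Q.map x0
  have h : IsIso ((actHatD E π).app (Q.obj M) ≫ (homR E).map ξ) := by
    have hA := actHatD_app_Q E π M
    have hB : (homR E).map ((DTen.resFactors (algebraMap P A)).inv.app M) ≫ (homR E).map ξ =
        (homR E).map (Q.map x0) := by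
      rw [← Functor.map_comp]
      congr 1
      exact Iso.inv_hom_id_app_assoc _ _ _
    have h2 := (homRIso E).inv.naturality x0
    dsimp only [Functor.comp_obj, Functor.comp_map] at h2
    have key : (actHatD E π).app (Q.obj M) ≫ (homR E).map ξ =
        (DTen.resFactors (algebraMap P A)).hom.app M ≫
          Q.map ((actHat E π).app M ≫ (DRing.homCxFunctor E).map x0) ≫
            (homRIso E).inv.app (X ⊗ I₀ : DRing.Cx P) := by
      rw [hA]
      simp only [Category.assoc]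
      rw [hB, ← h2, Functor.map_comp]
      simp only [Category.assoc]
    rw [key]
    have : IsIso (Q.map ((actHat E π).app M ≫ (DRing.homCxFunctor E).map x0)) :=
      (isIso_Q_map_iff_quasiIso (C := ModuleCat.{u} P) _).2 hq
    have h3 : IsIso ((homRIso E).inv.app (X ⊗ I₀ : DRing.Cx P)) :=
      ⟨(homRIso E).hom.app _, (homRIso E).inv_hom_id_app _, (homRIso E).hom_inv_id_app _⟩
    have h5 : IsIso ((DTen.resFactors (algebraMap P A)).hom.app M) := inferInstance
    exact IsIso.comp_isIso' h5 (IsIso.comp_isIso' this h3)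
  have := isIso_homEquiv_of_isIso_act E π adj ξ h
  exact ⟨asIso (adj.homEquiv _ _ ξ)⟩

end Derived

end Groth.Agent.Lib.ShriekTenH6
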