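import Mathlib
import Groth.Prelude.Def_DRing4
import Groth.Prelude.Def_DTen5
import Groth.Prelude.Def_DualSh
import Groth.Agent.Lib.ShriekTen4_helper6
import Groth.Agent.Lib.TrivBC17_helper6
import Groth.Agent.Lib.TrivBC20_helper6
import Groth.Agent.Lib.GorFib1_helper6
import Groth.Agent.Lib.KProjRes_helper2
import Groth.Agent.Lib.KProjAdj_helper2

/-!
# `φ^!(K) ≅ K ⊗ ω` (helper6), part 5: assembly (S1820)
-/

set_option autoImplicit false
set_option linter.style.haveILetI false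
universe u
open CategoryTheory CategoryTheory.Limits MonoidalCategory DerivedCategory
open CochainComplex CochainComplex.HomComplex
attribute [local instance] HasDerivedCategory.standard

namespace Groth.Agent.Lib.ShriekTenH6

open DRing Groth.Agent.Lib.DMod_helper6 Groth.Agent.Lib.DerivedAdj Groth.Agent.Lib.KFlatMod
  Groth.Agent.Lib.BaseCmp Groth.Agent.Lib.FlatBCH6 Groth.Agent.Lib.HomCx Groth.Agent.Lib.RHomK
  Groth.Agent.Lib.TrivBCH6 Groth.Agent.Lib.ShriekIndH6 Groth.Agent.Lib.ShriekLowH6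

attribute [local instance] MvPolynomial.algebraMvPolynomial

/-- a strictly perfect K-projective resolution of `A` over `P` -/
theorem exists_perfect_resolution (P A : Type u) [CommRing P] [CommRing A] [Algebra P A]
    (hperf : resPerf (algebraMap P A) (Dual.inD A A)) :
    ∃ (E : DRing.Cx P) (a b : ℤ) (π : E ⟶ A0 P A), DRing.VanishesOutside E a b ∧
      DRing.TermwiseFiniteProjective E ∧ E.IsKProjective ∧ QuasiIso π := by
  obtain ⟨E, a, b, hE, hfp, ⟨e⟩⟩ := hperf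
  let e' : (Q.obj E : Dual.D P) ≅ Q.obj (A0 P A) := e ≪≫ restrictInDIso P A
  haveI : E.IsStrictlyLE b := by
    rw [CochainComplex.isStrictlyLE_iff]
    exact fun i hi => hE i (Or.inr hi)
  haveI : ∀ n, Projective (E.X n) := fun n => by
    haveI := (hfp n).2
    infer_instance
  haveI : E.IsKProjective := CochainComplex.isKProjective_of_projective E b
  obtain ⟨π, hπ, -⟩ := Groth.Agent.PerfectCx.exists_quasiIso_of_iso E (A0 P A) e'
  exact ⟨E, a, b, π, hE, hfp, inferInstance, hπ⟩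

section PLevel

variable (P A : Type u) [CommRing P] [CommRing A] [Algebra P A]

/-- **`RHom_P(A, X)[n] ≅ (A ⊗_P X) ⊗^L_A W`** for `X` K-projective and K-flat over `P`, `A` perfect
over `P`, and `W` representing `RHom_P(A, P)[n]` -/
theorem nonempty_rightAdj_iso_tensor (hperf : resPerf (algebraMap P A) (Dual.inD A A))
    (Rψ : Dual.D P ⥤ Dual.D A) (adj : DRing.restrictD (algebraMap P A) ⊣ Rψ)
    (X : DRing.Cx P) (hX : KF P X) (W : DRing.Cx A) (n : ℤ)
    (hW : Nonempty (DRing.toD W ≅ (Rψ.obj (Dual.inD P P))⟦n⟧)) [DRing.HasLTensorCx A W] :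
    Nonempty ((Rψ.obj (Q.obj X))⟦n⟧ ≅
      (DRing.LTensorCx A W).obj (Q.obj ((DTen.extCx (algebraMap P A)).obj X))) := by
  obtain ⟨E, a, b, π, hE, hfp, hEK, hπ⟩ := exists_perfect_resolution P A hperf
  obtain ⟨I₀, j₀, hI₀, hj₀⟩ := Groth.Agent.Lib.KInjRes.exists_kinj_resolution (U0 P)
  obtain ⟨e₆⟩ := nonempty_tensor_coext_iso E π adj a b hE hfp X hX I₀
  obtain ⟨eW⟩ := hW
  -- `Q(X ⊗ I₀) ≅ Q X`
  have hq1 : QuasiIso (X ◁ j₀) := Groth.Agent.Lib.DRingLT.quasiIso_whiskerLeft_of_kf X hX j₀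
  have hi1 : IsIso (Q.map (X ◁ j₀)) := (isIso_Q_map_iff_quasiIso (C := ModuleCat.{u} P) _).2 hq1
  let r : (X ⊗ U0 P : DRing.Cx P) ≅ X := ρ_ X
  let e₅ : (Q.obj (X ⊗ I₀ : DRing.Cx P) : Dual.D P) ≅ Q.obj X :=
    (asIso (Q.map (X ◁ j₀))).symm ≪≫ Q.mapIso r
  -- `Q(Hom_P(A, I₀)) ≅ RHom_P(A, P)`
  have hi2 : IsIso (Q.map j₀) := (isIso_Q_map_iff_quasiIso (C := ModuleCat.{u} P) _).2 hj₀
  let eI : DRing.toD I₀ ≅ Dual.inD P P :=
    (asIso (Q.map j₀)).symm ≪≫
      ((DerivedCategory.singleFunctorIsoCompQ (ModuleCat.{u} P) 0).app (ModuleCat.of P P)).symm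
  have hc : IsIso (coextToRight Rψ adj I₀ eI) := isIso_coextToRight Rψ adj I₀ eI
  let φ₂ : DRing.toD ((coextCx (algebraMap P A) I₀)⟦n⟧) ≅ DRing.toD W :=
    ((Q.commShiftIso n).app (coextCx (algebraMap P A) I₀)) ≪≫
      (CategoryTheory.shiftFunctor (Dual.D A) n).mapIso (asIso (coextToRight Rψ adj I₀ eI)) ≪≫ eW.symm
  have hkf : KF A ((DTen.extCx (algebraMap P A)).obj X) := Groth.Agent.Lib.ExtKFlat.kf_ext P A X hX
  obtain ⟨t⟩ := Groth.Agent.Lib.DRingLT.nonempty_LTensorCx_iso W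
    (Q.obj ((DTen.extCx (algebraMap P A)).obj X)) ((DTen.extCx (algebraMap P A)).obj X)
    ((coextCx (algebraMap P A) I₀)⟦n⟧) hkf (Iso.refl _) φ₂
  let s : ((DTen.extCx (algebraMap P A)).obj X ⊗ (coextCx (algebraMap P A) I₀)⟦n⟧ : DRing.Cx A) ≅
      ((DTen.extCx (algebraMap P A)).obj X ⊗ coextCx (algebraMap P A) I₀ : DRing.Cx A)⟦n⟧ :=
    CochainComplex.mapBifunctorShift₂Iso ((DTen.extCx (algebraMap P A)).obj X)
      (coextCx (algebraMap P A) I₀) (curriedTensor (ModuleCat.{u} A)) n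
  exact ⟨(CategoryTheory.shiftFunctor (Dual.D A) n).mapIso (Rψ.mapIso e₅.symm ≪≫ e₆.symm) ≪≫
    ((Q.commShiftIso n).app _).symm ≪≫ Q.mapIso s.symm ≪≫ t⟩

end PLevel

section Main

/-- **`φ^!(K) ≅ (K ⊗^L_R A) ⊗^L_A ω_{A/R}`** for `φ : R → A` flat of finite type -/
theorem main1820 (R A : Type u) [CommRing R] [CommRing A] [IsNoetherianRing R]
    [Algebra R A] [Module.Flat R A] (n : ℕ)
    (ψ : MvPolynomial (Fin n) R →ₐ[R] A) (hψ : Function.Surjective ψ)
    [DRing.HasLBaseChange (algebraMap R (MvPolynomial (Fin n) R))]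
    (Rψ : Dual.D (MvPolynomial (Fin n) R) ⥤ Dual.D A) (adj : DRing.restrictD ψ.toRingHom ⊣ Rψ)
    (W : DRing.Cx A)
    (hW : Nonempty (DRing.toD W ≅ Dual2.shriekVia n Rψ (Dual.inD R R)))
    [DRing.HasLBaseChange (algebraMap R A)] [DRing.HasLTensorCx A W] (K : Dual.D R) :
    Nonempty (Dual2.shriekVia n Rψ K ≅
      (DRing.LTensorCx A W).obj ((DRing.LBaseChange (algebraMap R A)).obj K)) := by
  let P := MvPolynomial (Fin n) R
  letI algPA : Algebra P A := ψ.toRingHom.toAlgebra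
  haveI t3 : IsScalarTower R P A := IsScalarTower.of_algebraMap_eq (fun r => (ψ.commutes r).symm)
  have hperf : resPerf (algebraMap P A) (Dual.inD A A) := resPerf_of_flat R A n ψ hψ
  haveI : DRing.HasLBaseChange (algebraMap P A) := hasLBaseChange_general _
  have hcomp : (algebraMap P A).comp (algebraMap R P) = algebraMap R A :=
    (IsScalarTower.algebraMap_eq R P A).symm
  -- a K-projective resolution of `K`
  obtain ⟨Kp, p, hp, hKp, hKF, -⟩ :=
    Groth.Agent.Lib.KProjRes.exists_kproj_resolution (Q.objPreimage K)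
  have hi0 : IsIso (Q.map p) := (isIso_Q_map_iff_quasiIso (C := ModuleCat.{u} R) _).2 hp
  let eK : K ≅ Q.obj Kp := (Q.objObjPreimageIso K).symm ≪≫ (asIso (Q.map p)).symm
  let X : DRing.Cx P := (DTen.extCx (algebraMap R P)).obj Kp
  haveI hXK : X.IsKProjective :=
    Groth.Agent.Lib.KProjAdj.isKProjective_extendScalars (algebraMap R P) Kp
  have hX : KF P X := Groth.Agent.Lib.ExtKFlat.kf_ext R P Kp hKF
  obtain ⟨b1⟩ := nonempty_lBaseChange_iso_of_isKProjective (algebraMap R P) Kp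
  let e₁ : (DRing.LBaseChange (algebraMap R P)).obj K ≅ Q.obj X :=
    (DRing.LBaseChange (algebraMap R P)).mapIso eK ≪≫ b1
  obtain ⟨b2⟩ := nonempty_lBaseChange_iso_of_isKProjective (algebraMap P A) X
  obtain ⟨cmp⟩ := Groth.Agent.Lib.GorFibH6.nonempty_lBaseChange_comp (algebraMap R P) (algebraMap P A) (algebraMap R A)
    hcomp
  let e₂ : (DRing.LBaseChange (algebraMap R A)).obj K ≅
      Q.obj ((DTen.extCx (algebraMap P A)).obj X) :=
    cmp.app K ≪≫ (DRing.LBaseChange (algebraMap P A)).mapIso e₁ ≪≫ b2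
  -- `W` represents `RHom_P(A, P)[n]`
  obtain ⟨eW⟩ := hW
  obtain ⟨e0⟩ := nonempty_lBaseChange_inD_self (R := R) (k := P)
  have hW' : Nonempty (DRing.toD W ≅ (Rψ.obj (Dual.inD P P))⟦(n : ℤ)⟧) :=
    ⟨eW ≪≫ (CategoryTheory.shiftFunctor (Dual.D A) (n : ℤ)).mapIso (Rψ.mapIso e0)⟩
  obtain ⟨m⟩ := nonempty_rightAdj_iso_tensor P A hperf Rψ adj X hX W (n : ℤ) hW'
  exact ⟨(CategoryTheory.shiftFunctor (Dual.D A) (n : ℤ)).mapIso (Rψ.mapIso e₁) ≪≫ m ≪≫
    (DRing.LTensorCx A W).mapIso e₂.symm⟩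

end Main

end Groth.Agent.Lib.ShriekTenH6
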