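import Groth.Agent.Lib.KFlatGen7_helper2

/-!
# K-flat complexes with respect to a bifunctor (helper2), part VIII:
`- ⊗^L E` is computed by a K-flat resolution `P → E` of the fixed complex, naturally
-/

set_option autoImplicit false
universe w v u
open CategoryTheory Limits

namespace Groth.Agent.Lib.KFlatGen

open Groth.Agent.Lib.BifCone

variable {𝒜 : Type u} [Category.{v} 𝒜] [Abelian 𝒜]
  (F : 𝒜 ⥤ 𝒜 ⥤ 𝒜) [F.Additive] [∀ X, (F.obj X).Additive]
  [∀ (K₁ K₂ : CochainComplex 𝒜 ℤ), CochainComplex.HasMapBifunctor K₁ K₂ F]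
variable [HasDerivedCategory.{w} 𝒜]

/-- `quotient ⋙ phiH F N ⋙ Qh` is `Tot F(-, N) ⋙ Q` -/
noncomputable def quotientPhiHIso (N : CochainComplex 𝒜 ℤ) :
    HomotopyCategory.quotient 𝒜 (ComplexShape.up ℤ) ⋙ (phiH F N ⋙ DerivedCategory.Qh) ≅
      F.map₂CochainComplex.flip.obj N ⋙ DerivedCategory.Q :=
  NatIso.ofComponents (fun _ => Iso.refl _) (by
    intro X Y f
    exact (Category.comp_id _).trans (Category.id_comp _).symm)

variable (σ : F ≅ F.flip) {Fl P : 𝒜 → Prop} (hFl : FlatClass F Fl) (hP : ResClass Fl P)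
  [HasCoproducts.{0} 𝒜]
  [∀ n : ℤ, HasExactColimitsOfShape (Discrete (BifSES.Idx n)) 𝒜]
  [HasColimitsOfShape ℕ 𝒜] [HasExactColimitsOfShape ℕ 𝒜]
  [∀ X : 𝒜, PreservesColimitsOfShape ℕ (F.obj X)]

include σ hFl hP in
/-- **`- ⊗^L E` is `- ⊗ P` for a K-flat resolution `P → E`, naturally** -/
theorem nonempty_natIso_of_kflat_resolution (E R : CochainComplex 𝒜 ℤ) (π : R ⟶ E) [QuasiIso π]
    (hR : IsKFlat F R) (LF : DerivedCategory 𝒜 ⥤ DerivedCategory 𝒜)
    (α : DerivedCategory.Q ⋙ LF ⟶ F.map₂CochainComplex.flip.obj E ⋙ DerivedCategory.Q)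
    [LF.IsLeftDerivedFunctor α (HomologicalComplex.quasiIso 𝒜 (ComplexShape.up ℤ))] :
    Nonempty (DerivedCategory.Q ⋙ LF ≅ F.map₂CochainComplex.flip.obj R ⋙ DerivedCategory.Q) := by
  obtain ⟨α', hα', -⟩ := isLeftDerivedFunctor_Qh_of_Q F E LF α
  haveI := hα'
  have hG := isInvertedBy_phiH F R hR
  let LG := Localization.lift (phiH F R ⋙ DerivedCategory.Qh) hG DerivedCategory.Qh
  let eG : DerivedCategory.Qh ⋙ LG ≅ phiH F R ⋙ DerivedCategory.Qh :=
    Localization.fac (phiH F R ⋙ DerivedCategory.Qh) hG DerivedCategory.Qh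
  have hdata : Groth.Agent.Lib.DerivedCmp.ResData
      (HomotopyCategory.quasiIso 𝒜 (ComplexShape.up ℤ))
      (Functor.whiskerRight (phiHMap F π) DerivedCategory.Qh)
      (fun Z => IsKFlat F Z.as) := by
    constructor
    · rintro ⟨Z⟩ hZ
      have hq : QuasiIso (HomologicalComplex.mapBifunctorMap (𝟙 Z) π F (ComplexShape.up ℤ)) :=
        quasiIso_mapBifunctorMap₂ F Z (acyclic_tensor_left_of_isKFlat σ Z hZ) π
      exact isIso_Qh_quotient_map _ hq
    · rintro ⟨Z⟩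
      obtain ⟨K, q, hK, -, hq, -⟩ := exists_kflat_resolution hFl hP Z
      exact ⟨(HomotopyCategory.quotient 𝒜 (ComplexShape.up ℤ)).obj K,
        (HomotopyCategory.quotient 𝒜 (ComplexShape.up ℤ)).map q,
        (HomotopyCategory.quotient_map_mem_quasiIso_iff q).2
          ((HomologicalComplex.mem_quasiIso_iff q).2 hq), hK⟩
  haveI := Groth.Agent.Lib.DerivedCmp.isLeftDerivedFunctor DerivedCategory.Qh
    (HomotopyCategory.quasiIso 𝒜 (ComplexShape.up ℤ)) hdata LG eG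
  let e : LF ≅ LG := Functor.leftDerivedNatIso LF LG α'
    (eG.hom ≫ Functor.whiskerRight (phiHMap F π) DerivedCategory.Qh)
    (HomotopyCategory.quasiIso 𝒜 (ComplexShape.up ℤ)) (Iso.refl _)
  let e₂ : DerivedCategory.Q ⋙ LG ≅
      HomotopyCategory.quotient 𝒜 (ComplexShape.up ℤ) ⋙ (DerivedCategory.Qh ⋙ LG) :=
    Functor.associator (HomotopyCategory.quotient 𝒜 (ComplexShape.up ℤ)) DerivedCategory.Qh LG
  exact ⟨Functor.isoWhiskerLeft DerivedCategory.Q e ≪≫ e₂ ≪≫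
    Functor.isoWhiskerLeft (HomotopyCategory.quotient 𝒜 (ComplexShape.up ℤ)) eG ≪≫
    quotientPhiHIso F R⟩

end Groth.Agent.Lib.KFlatGen
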