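import Mathlib
import Groth.Prelude.Def_DTen4
import Groth.Agent.Lib.LTen2_helper2
import Groth.Agent.Lib.BaseCmp_helper2

/-!
# `(E ⊗^L_R A) ⊗^L_A N ≅ E ⊗^L_R N` (helper2)

The canonical comparison `DTen.split φ` from derived base change followed by the derived tensor
product over `A` to the mixed derived tensor product is an isomorphism.
-/

set_option autoImplicit false
universe u
open CategoryTheory Limits MonoidalCategory

namespace Groth.Agent.Lib.SplitIso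

open DerivedCategory Groth.Agent.Lib.KFlatMod Groth.Agent.Lib.KFlatGen Groth.Agent.Lib.ProdLoc
  Groth.Agent.Lib.KProjInv Groth.Agent.Lib.LTen2 Groth.Agent.Lib.ExtKFlat

attribute [local instance] HasDerivedCategory.standard

variable {R A : Type u} [CommRing R] [CommRing A] (φ : R →+* A)

/-- extension of scalars on homotopy categories -/
noncomputable abbrev extH : KR R ⥤ KR A :=
  (ModuleCat.extendScalars.{u, u, u} φ).mapHomotopyCategory (ComplexShape.up ℤ)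

/-- `(X, Y) ↦ Qh ((X ⊗_R A) ⊗_A Y)` on homotopy categories -/
noncomputable abbrev mixH : KR R × KR A ⥤ DR A := ((extH φ).prod (𝟭 (KR A))) ⋙ tensorHQ A

/-- `mixH` is induced by `mix₂` -/
noncomputable def mixHIso :
    ππ (ComplexShape.up ℤ) (ComplexShape.up ℤ) ⋙ mixH φ ≅ DTen.mix₂ φ :=
  NatIso.ofComponents (fun X => (tensorHQIso A).app ((DTen.extCx φ).obj X.1, X.2)) (by
    rintro ⟨X₁, X₂⟩ ⟨Y₁, Y₂⟩ ⟨f, g⟩
    exact (tensorHQIso A).hom.naturality
      (((DTen.extCx φ).map f, g) : ((DTen.extCx φ).obj X₁, X₂) ⟶ ((DTen.extCx φ).obj Y₁, Y₂)))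

variable [DTen.HasLTen A] [DTen.HasLBase φ]

/-- derived base change followed by the derived tensor product, on the homotopy categories -/
noncomputable abbrev G₅ : KR R × KR A ⥤ DR A :=
  QhQh (ModuleCat.{u} R) (ModuleCat.{u} A) ⋙ DTen.LBaseTen φ

/-- `splitβ` with target rewritten through the homotopy categories -/
noncomputable def splitβ₀ :
    ππ (ComplexShape.up ℤ) (ComplexShape.up ℤ) ⋙ G₅ φ ⟶
      ππ (ComplexShape.up ℤ) (ComplexShape.up ℤ) ⋙ mixH φ :=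
  (show ππ (ComplexShape.up ℤ) (ComplexShape.up ℤ) ⋙ G₅ φ ⟶ DTen.mix₂ φ from DTen.splitβ φ) ≫
    (mixHIso φ).inv

lemma exists_τ₅ : ∃ τ₅ : G₅ φ ⟶ mixH φ,
    Functor.whiskerLeft (ππ (ComplexShape.up ℤ) (ComplexShape.up ℤ)) τ₅ = splitβ₀ φ :=
  (whiskerFF_ππ (ComplexShape.up ℤ) (ComplexShape.up ℤ) (DR A) (G₅ φ) (mixH φ)).2 (splitβ₀ φ)

/-- the descent of `splitβ` to the homotopy categories -/
noncomputable def τ₅ : G₅ φ ⟶ mixH φ := (exists_τ₅ φ).choose

lemma whiskerLeft_τ₅ :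
    Functor.whiskerLeft (ππ (ComplexShape.up ℤ) (ComplexShape.up ℤ)) (τ₅ φ) = splitβ₀ φ :=
  (exists_τ₅ φ).choose_spec

lemma τ₅_app (K : DRing.Cx R) (N : DRing.Cx A) :
    (τ₅ φ).app ((ππ (ComplexShape.up ℤ) (ComplexShape.up ℤ)).obj (K, N)) =
      (DTen.splitβ φ).app (K, N) ≫ (mixHIso φ).inv.app (K, N) :=
  congrArg (fun t => t.app (K, N)) (whiskerLeft_τ₅ φ)

lemma isIso_splitβ_app (K : DRing.Cx R) (N : DRing.Cx A) (hK : KF R K) :
    IsIso ((DTen.splitβ φ).app (K, N)) := by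
  letI : Algebra R A := φ.toAlgebra
  haveI : IsIso ((DTen.baseCmp φ).app K) := Groth.Agent.Lib.BaseCmp.isIso_baseCmp_of_kf φ K hK
  have hext : KF A ((DTen.extCx φ).obj K) := kf_ext (R := R) (R' := A) K hK
  haveI : IsIso ((DTen.ε A).app ((DTen.extCx φ).obj K, N)) :=
    isIso_ε_of_kf_left A _ N hext
  haveI : IsIso (Prod.mkHom ((DTen.baseCmp φ).app K) (𝟙 (DerivedCategory.Q.obj N))) :=
    (isIso_prod_iff (f := Prod.mkHom ((DTen.baseCmp φ).app K)
      (𝟙 (DerivedCategory.Q.obj N)))).2 ⟨inferInstance, inferInstanceAs (IsIso (𝟙 _))⟩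
  show IsIso ((DTen.LTen₂ A).map (Prod.mkHom ((DTen.baseCmp φ).app K)
    (𝟙 (DerivedCategory.Q.obj N))) ≫ (DTen.ε A).app ((DTen.extCx φ).obj K, N))
  infer_instance

lemma resData₅ : Groth.Agent.Lib.DerivedCmp.ResData
    (WK (ModuleCat.{u} R) (ModuleCat.{u} A)) (τ₅ φ) (fun X => KF R X.1.as) where
  iso X hX := by
    show IsIso ((τ₅ φ).app ((ππ (ComplexShape.up ℤ) (ComplexShape.up ℤ)).obj (X.1.as, X.2.as)))
    rw [τ₅_app]
    exact @IsIso.comp_isIso _ _ _ _ _ ((DTen.splitβ φ).app (X.1.as, X.2.as))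
      ((mixHIso φ).inv.app (X.1.as, X.2.as)) (isIso_splitβ_app φ X.1.as X.2.as hX) inferInstance
  res X := ⟨((ρ R).obj X.1, X.2), (((πρ R).app X.1, 𝟙 X.2) : ((ρ R).obj X.1, X.2) ⟶ X),
    ⟨mem_quasiIso_πρ X.1, MorphismProperty.id_mem _ _⟩, (ρ_prop R X.1).2⟩

/-- `LBaseTen` is a left derived functor of `mixH` -/
lemma isLeftDerivedFunctor_LBaseTen :
    (DTen.LBaseTen φ).IsLeftDerivedFunctor (τ₅ φ) (WK (ModuleCat.{u} R) (ModuleCat.{u} A)) := by
  have h2 := Groth.Agent.Lib.DerivedCmp.isLeftDerivedFunctor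
    (QhQh (ModuleCat.{u} R) (ModuleCat.{u} A)) (WK (ModuleCat.{u} R) (ModuleCat.{u} A))
    (resData₅ φ) (DTen.LBaseTen φ) (Iso.refl _)
  have h3 : (Iso.refl (QhQh (ModuleCat.{u} R) (ModuleCat.{u} A) ⋙ DTen.LBaseTen φ)).hom ≫ τ₅ φ =
      τ₅ φ := Category.id_comp _
  rwa [h3] at h2

variable [DTen.HasLTenMix φ]

/-- the counit of `LTenMix`, with target rewritten through the homotopy categories -/
noncomputable def εMix₀ : QQ (ModuleCat.{u} R) (ModuleCat.{u} A) ⋙ DTen.LTenMix φ ⟶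
    ππ (ComplexShape.up ℤ) (ComplexShape.up ℤ) ⋙ mixH φ :=
  DTen.εMix φ ≫ (mixHIso φ).inv

instance isLeftDerivedFunctor_εMix₀ :
    (DTen.LTenMix φ).IsLeftDerivedFunctor (εMix₀ φ)
      (WC (ModuleCat.{u} R) (ModuleCat.{u} A)) := by
  have h : (DTen.LTenMix φ).IsLeftDerivedFunctor (DTen.εMix φ) (DTen.qisMix R A) := inferInstance
  rw [Functor.isLeftDerivedFunctor_iff_isRightKanExtension] at h ⊢
  refine (Functor.isRightKanExtension_iff_of_iso₂ (DTen.εMix φ) (εMix₀ φ) (mixHIso φ).symm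
    (Iso.refl _) ?_).1 h
  ext X
  simp [εMix₀]

/-- **`split` is an isomorphism** -/
theorem isIso_split (X : DR R × DR A) : IsIso ((DTen.split φ).app X) := by
  obtain ⟨αM, hαM, happM⟩ :=
    isLeftDerivedFunctor_QhQh_of_QQ (mixH φ) (DTen.LTenMix φ) (εMix₀ φ)
  haveI := hαM
  haveI := isLeftDerivedFunctor_LBaseTen φ
  let W := WK (ModuleCat.{u} R) (ModuleCat.{u} A)
  let L := QhQh (ModuleCat.{u} R) (ModuleCat.{u} A)
  have ha : Functor.whiskerLeft L (DTen.split φ) ≫ αM = τ₅ φ := by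
    apply (whiskerFF_ππ (ComplexShape.up ℤ) (ComplexShape.up ℤ) (DR A) _ _).1
    ext ⟨K, N⟩
    show (DTen.split φ).app ((DTen.QMix R A).obj (K, N)) ≫
        αM.app ((ππ (ComplexShape.up ℤ) (ComplexShape.up ℤ)).obj (K, N)) =
      (τ₅ φ).app ((ππ (ComplexShape.up ℤ) (ComplexShape.up ℤ)).obj (K, N))
    rw [happM, τ₅_app, ← DTen.split_fac]
    show _ ≫ (DTen.εMix φ).app (K, N) ≫ (mixHIso φ).inv.app (K, N) = _
    rw [Category.assoc]
  let b : DTen.LTenMix φ ⟶ DTen.LBaseTen φ :=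
    (DTen.LBaseTen φ).leftDerivedLift (τ₅ φ) W (DTen.LTenMix φ) αM
  have hb : Functor.whiskerLeft L b ≫ τ₅ φ = αM :=
    (DTen.LBaseTen φ).leftDerived_fac (τ₅ φ) W (DTen.LTenMix φ) αM
  have hab : DTen.split φ ≫ b = 𝟙 _ := by
    apply (DTen.LBaseTen φ).leftDerived_ext (τ₅ φ) W
    rw [Functor.whiskerLeft_comp, Category.assoc, hb, ha, Functor.whiskerLeft_id',
      Category.id_comp]
  have hba : b ≫ DTen.split φ = 𝟙 _ := by
    apply (DTen.LTenMix φ).leftDerived_ext αM W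
    rw [Functor.whiskerLeft_comp, Category.assoc, ha, hb, Functor.whiskerLeft_id',
      Category.id_comp]
  exact ⟨b.app X, by rw [← NatTrans.comp_app, hab]; rfl, by rw [← NatTrans.comp_app, hba]; rfl⟩

end Groth.Agent.Lib.SplitIso
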