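import Mathlib
import Groth.Prelude.Def_DTen4
import Groth.Agent.Lib.SplitIso_helper2

/-!
# The mixed derived tensor product is computed by K-flat complexes (helper2)

`DTen.εMix φ : QK ⊗^L_R QN ⟶ Q((K ⊗_R A) ⊗_A N)` is an isomorphism as soon as `K` is K-flat over `R`.
-/

set_option autoImplicit false
universe u
open CategoryTheory Limits MonoidalCategory

namespace Groth.Agent.Lib.LTenMix

open DerivedCategory Groth.Agent.Lib.KFlatMod Groth.Agent.Lib.KFlatGen Groth.Agent.Lib.ProdLoc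
  Groth.Agent.Lib.KProjInv Groth.Agent.Lib.LTen2 Groth.Agent.Lib.ExtKFlat
  Groth.Agent.Lib.SplitIso

attribute [local instance] HasDerivedCategory.standard

variable {R A : Type u} [CommRing R] [CommRing A] (φ : R →+* A)

lemma mixH_map {X₁ Y₁ : DRing.Cx R} {X₂ Y₂ : DRing.Cx A} (f : X₁ ⟶ Y₁) (g : X₂ ⟶ Y₂) :
    (mixH φ).map ((ππ (ComplexShape.up ℤ) (ComplexShape.up ℤ)).map
        ((f, g) : (X₁, X₂) ⟶ (Y₁, Y₂))) =
      Qh.map ((HomotopyCategory.quotient _ _).map ((DTen.extCx φ).map f ⊗ₘ g)) := by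
  show Qh.map ((tensorH A).map ((ππ (ComplexShape.up ℤ) (ComplexShape.up ℤ)).map
    (((DTen.extCx φ).map f, g) :
      ((DTen.extCx φ).obj X₁, X₂) ⟶ ((DTen.extCx φ).obj Y₁, Y₂)))) = _
  exact congrArg Qh.map (tensorH_map A ((DTen.extCx φ).map f) g)

/-- the comparison functor: the mixed tensor product of the K-projective resolutions -/
noncomputable abbrev GfunM : KR R × KR A ⥤ DR A := ((ρ R).prod (ρ A)) ⋙ mixH φ

/-- the comparison map -/
noncomputable def τM : GfunM φ ⟶ mixH φ where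
  app X := (mixH φ).map
    (((πρ R).app X.1, (πρ A).app X.2) : ((ρ R).obj X.1, (ρ A).obj X.2) ⟶ X)
  naturality X Y f := by
    show (mixH φ).map (((ρ R).map f.1, (ρ A).map f.2) :
        ((ρ R).obj X.1, (ρ A).obj X.2) ⟶ ((ρ R).obj Y.1, (ρ A).obj Y.2)) ≫
        (mixH φ).map
          (((πρ R).app Y.1, (πρ A).app Y.2) : ((ρ R).obj Y.1, (ρ A).obj Y.2) ⟶ Y) =
      (mixH φ).map
          (((πρ R).app X.1, (πρ A).app X.2) : ((ρ R).obj X.1, (ρ A).obj X.2) ⟶ X) ≫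
        (mixH φ).map f
    rw [← Functor.map_comp, ← Functor.map_comp]
    congr 1
    exact Prod.ext ((πρ R).naturality f.1) ((πρ A).naturality f.2)

/-- the comparison map is an isomorphism when the first complex is K-flat -/
lemma isIso_τM (X : KR R × KR A) (hX : KF R X.1.as) : IsIso ((τM φ).app X) := by
  letI : Algebra R A := φ.toAlgebra
  show IsIso ((mixH φ).map
    (((πρ R).app X.1, (πρ A).app X.2) : ((ρ R).obj X.1, (ρ A).obj X.2) ⟶ X))
  rw [map_eq_ππ_map_out (ComplexShape.up ℤ) (ComplexShape.up ℤ)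
    (((πρ R).app X.1, (πρ A).app X.2) : ((ρ R).obj X.1, (ρ A).obj X.2) ⟶ X)]
  erw [mixH_map]
  haveI := quasiIso_out_πρ X.1
  haveI := quasiIso_out_πρ X.2
  haveI : QuasiIso ((DTen.extCx φ).map ((πρ R).app X.1).out) :=
    Groth.Agent.Lib.BaseCmp.quasiIso_ext_of_kf (A := A) (ρ_prop R X.1).2 hX _
  have hext : KF A ((DTen.extCx φ).obj X.1.as) := kf_ext (R := R) (R' := A) _ hX
  haveI : QuasiIso ((DTen.extCx φ).map ((πρ R).app X.1).out ⊗ₘ ((πρ A).app X.2).out) :=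
    quasiIso_tensorHom _ _ (ρ_prop A X.2).2 hext
  exact Groth.Agent.Lib.KFlatGen.isIso_Qh_quotient_map _ inferInstance

lemma isInvertedBy_GfunM :
    (WK (ModuleCat.{u} R) (ModuleCat.{u} A)).IsInvertedBy (GfunM φ) := by
  have h : (WK (ModuleCat.{u} R) (ModuleCat.{u} A)).IsInvertedBy
      (QhQh (ModuleCat.{u} R) (ModuleCat.{u} A) ⋙
        (((kprojInv R).prod (kprojInv A)) ⋙ mixH φ)) :=
    MorphismProperty.IsInvertedBy.of_comp _ _ (Localization.inverts _ _) _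
  exact h

lemma resDataM : Groth.Agent.Lib.DerivedCmp.ResData
    (WK (ModuleCat.{u} R) (ModuleCat.{u} A)) (τM φ) (fun X => KF R X.1.as) where
  iso X hX := isIso_τM φ X hX
  res X := ⟨((ρ R).obj X.1, X.2), (((πρ R).app X.1, 𝟙 X.2) : ((ρ R).obj X.1, X.2) ⟶ X),
    ⟨mem_quasiIso_πρ X.1, MorphismProperty.id_mem _ _⟩, (ρ_prop R X.1).2⟩

variable [DTen.HasLTenMix φ]

/-- the counit of `LTenMix`, with target rewritten through the homotopy categories -/
noncomputable def εM₀ : QQ (ModuleCat.{u} R) (ModuleCat.{u} A) ⋙ DTen.LTenMix φ ⟶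
    ππ (ComplexShape.up ℤ) (ComplexShape.up ℤ) ⋙ mixH φ :=
  DTen.εMix φ ≫ (mixHIso φ).inv

instance isLeftDerivedFunctor_εM₀ :
    (DTen.LTenMix φ).IsLeftDerivedFunctor (εM₀ φ)
      (WC (ModuleCat.{u} R) (ModuleCat.{u} A)) := by
  have h : (DTen.LTenMix φ).IsLeftDerivedFunctor (DTen.εMix φ) (DTen.qisMix R A) := inferInstance
  rw [Functor.isLeftDerivedFunctor_iff_isRightKanExtension] at h ⊢
  refine (Functor.isRightKanExtension_iff_of_iso₂ (DTen.εMix φ) (εM₀ φ) (mixHIso φ).symm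
    (Iso.refl _) ?_).1 h
  ext X
  simp [εM₀]

/-- **the counit `QK ⊗^L_R QN ⟶ Q((K ⊗_R A) ⊗_A N)` is an isomorphism if `K` is K-flat** -/
theorem isIso_εMix_of_kf (K : DRing.Cx R) (N : DRing.Cx A) (hK : KF R K) :
    IsIso ((DTen.εMix φ).app (K, N)) := by
  obtain ⟨α', hα', happ⟩ := isLeftDerivedFunctor_QhQh_of_QQ (mixH φ) (DTen.LTenMix φ) (εM₀ φ)
  haveI := hα'
  have h1 : IsIso (α'.app ((ππ (ComplexShape.up ℤ) (ComplexShape.up ℤ)).obj (K, N))) :=
    Groth.Agent.Lib.DerivedCmp.isIso_counit (QhQh (ModuleCat.{u} R) (ModuleCat.{u} A))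
      (WK (ModuleCat.{u} R) (ModuleCat.{u} A)) (resDataM φ) (isInvertedBy_GfunM φ)
      (DTen.LTenMix φ) α' ((ππ (ComplexShape.up ℤ) (ComplexShape.up ℤ)).obj (K, N)) hK
  rw [happ] at h1
  have h3 : (DTen.εMix φ).app (K, N) = (εM₀ φ).app (K, N) ≫ (mixHIso φ).hom.app (K, N) := by
    show _ = ((DTen.εMix φ).app (K, N) ≫ (mixHIso φ).inv.app (K, N)) ≫ _
    rw [Category.assoc, Iso.inv_hom_id_app]
    exact (Category.comp_id _).symm
  rw [h3]
  exact @IsIso.comp_isIso _ _ _ _ _ ((εM₀ φ).app (K, N)) ((mixHIso φ).hom.app (K, N)) h1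
    inferInstance

end Groth.Agent.Lib.LTenMix
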