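import Mathlib
import Groth.Prelude.Def_DRing4
import Groth.Prelude.Def_DTen5
import Groth.Agent.Lib.ShriekTen4_helper6

/-!
# `φ^!(K) ≅ K ⊗ ω` (helper6), part 6: naturality of `σ`, `ξ₀` and the comparison
`θ : (A ⊗_P X) ⊗_A Hom_P(A, I₀) ⟶ RHom_P(A, X ⊗_P I₀)` in `X`
-/

set_option autoImplicit false
set_option linter.style.haveILetI false
universe u
open CategoryTheory CategoryTheory.Limits MonoidalCategory DerivedCategory
open CochainComplex CochainComplex.HomComplex
attribute [local instance] HasDerivedCategory.standard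

namespace Groth.Agent.Lib.ShriekTenH6

open Groth.Agent.Lib.DMod_helper6 Groth.Agent.Lib.DerivedAdj Groth.Agent.Lib.KFlatMod
  Groth.Agent.Lib.BaseCmp Groth.Agent.Lib.FlatBCH6 Groth.Agent.Lib.HomCx Groth.Agent.Lib.RHomK
  Groth.Agent.Lib.TrivBCH6

section Nat

variable {P A : Type u} [CommRing P] [CommRing A] [Algebra P A]

lemma sig_naturality {X Y : DRing.Cx P} (f : X ⟶ Y) (W : DRing.Cx A) :
    (f ▷ (DTen.resCx (algebraMap P A)).obj W) ≫ sig Y W =
      sig X W ≫ (DTen.resCx (algebraMap P A)).map ((DTen.extCx (algebraMap P A)).map f ▷ W) := by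
  apply HomologicalComplex.hom_ext
  intro n
  apply hom_ext_tensor
  intro p q hpq x w
  have e1 : (((f ▷ (DTen.resCx (algebraMap P A)).obj W) ≫ sig Y W).f n).hom
      (ιt X ((DTen.resCx (algebraMap P A)).obj W) p q n hpq x w) =
      ((sig Y W).f n).hom (((f ▷ (DTen.resCx (algebraMap P A)).obj W).f n).hom
        (ιt X ((DTen.resCx (algebraMap P A)).obj W) p q n hpq x w)) := rfl
  refine e1.trans ?_
  refine (congrArg _ (whiskerRight_ιt f ((DTen.resCx (algebraMap P A)).obj W) p q n hpq x w)).trans ?_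
  refine (sig_f_ιt Y W p q n hpq ((f.f p).hom x) w).trans ?_
  have e2 : ((sig X W ≫ (DTen.resCx (algebraMap P A)).map
      ((DTen.extCx (algebraMap P A)).map f ▷ W)).f n).hom
      (ιt X ((DTen.resCx (algebraMap P A)).obj W) p q n hpq x w) =
      ((((DTen.extCx (algebraMap P A)).map f ▷ W).f n).hom
        (((sig X W).f n).hom (ιt X ((DTen.resCx (algebraMap P A)).obj W) p q n hpq x w))) := rfl
  refine Eq.trans ?_ e2.symm
  refine Eq.trans ?_ (congrArg _ (sig_f_ιt X W p q n hpq x w)).symm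
  refine Eq.trans ?_ (whiskerRight_ιt ((DTen.extCx (algebraMap P A)).map f) W p q n hpq
    (oneT X p x) w).symm
  rfl

lemma xi0_naturality {X Y : DRing.Cx P} (f : X ⟶ Y) (I₀ : DRing.Cx P) :
    (DTen.resCx (algebraMap P A)).map
        ((DTen.extCx (algebraMap P A)).map f ▷ coextCx (algebraMap P A) I₀) ≫ xi0 Y I₀ =
      xi0 (A := A) X I₀ ≫ (f ▷ I₀) := by
  unfold xi0
  have h1 := sig_naturality f (coextCx (algebraMap P A) I₀)
  have h2 : (DTen.resCx (algebraMap P A)).map
        ((DTen.extCx (algebraMap P A)).map f ▷ coextCx (algebraMap P A) I₀) ≫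
      inv (sig Y (coextCx (algebraMap P A) I₀)) =
      inv (sig X (coextCx (algebraMap P A) I₀)) ≫
        (f ▷ (DTen.resCx (algebraMap P A)).obj (coextCx (algebraMap P A) I₀)) := by
    rw [IsIso.eq_inv_comp, ← Category.assoc, ← h1, Category.assoc, IsIso.hom_inv_id,
      Category.comp_id]
  rw [← Category.assoc, h2, Category.assoc, Category.assoc, whisker_exchange]

end Nat

section Theta

variable {P A : Type u} [CommRing P] [CommRing A] [Algebra P A]
variable {Rψ : Dual.D P ⥤ Dual.D A} (adj : DRing.restrictD (algebraMap P A) ⊣ Rψ)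

/-- `ξ : ((A ⊗_P X) ⊗_A Hom_P(A, I₀))|_P ⟶ X ⊗_P I₀` in `D(P)` -/
noncomputable def xiD (X I₀ : DRing.Cx P) :
    (DRing.restrictD (algebraMap P A)).obj
        (Q.obj ((DTen.extCx (algebraMap P A)).obj X ⊗ coextCx (algebraMap P A) I₀)) ⟶
      Q.obj (X ⊗ I₀ : DRing.Cx P) :=
  (DTen.resFactors (algebraMap P A)).hom.app
      ((DTen.extCx (algebraMap P A)).obj X ⊗ coextCx (algebraMap P A) I₀) ≫
    Q.map (xi0 X I₀)

/-- `θ : (A ⊗_P X) ⊗_A Hom_P(A, I₀) ⟶ RHom_P(A, X ⊗_P I₀)` in `D(A)` -/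
noncomputable def theta (X I₀ : DRing.Cx P) :
    (Q.obj ((DTen.extCx (algebraMap P A)).obj X ⊗ coextCx (algebraMap P A) I₀) : Dual.D A) ⟶
      Rψ.obj (Q.obj (X ⊗ I₀ : DRing.Cx P)) :=
  adj.homEquiv _ _ (xiD X I₀)

lemma theta_naturality {X Y : DRing.Cx P} (f : X ⟶ Y) (I₀ : DRing.Cx P) :
    Q.map ((DTen.extCx (algebraMap P A)).map f ▷ coextCx (algebraMap P A) I₀) ≫
        theta adj Y I₀ =
      theta adj X I₀ ≫ Rψ.map (Q.map (f ▷ I₀)) := by
  unfold theta
  rw [← Adjunction.homEquiv_naturality_left, ← Adjunction.homEquiv_naturality_right]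
  congr 1
  unfold xiD
  have h1 := (DTen.resFactors (algebraMap P A)).hom.naturality
    ((DTen.extCx (algebraMap P A)).map f ▷ coextCx (algebraMap P A) I₀)
  dsimp only [Functor.comp_obj, Functor.comp_map] at h1
  rw [← Category.assoc, h1, Category.assoc, Category.assoc, ← Functor.map_comp,
    ← Functor.map_comp, xi0_naturality]

include adj in
/-- **`θ` is an isomorphism** for `X` K-flat, `I₀` K-injective and `A` perfect over `P` -/
theorem isIso_theta (E : DRing.Cx P) [E.IsKProjective] (π : E ⟶ A0 P A) [QuasiIso π]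
    (a b : ℤ) (hE : DRing.VanishesOutside E a b)
    (hfp : DRing.TermwiseFiniteProjective E) (X : DRing.Cx P) (hX : KF P X) (I₀ : DRing.Cx P)
    [I₀.IsKInjective] : IsIso (theta adj X I₀) := by
  unfold theta xiD
  obtain ⟨M, hM⟩ : ∃ M : DRing.Cx A,
    M = ((DTen.extCx (algebraMap P A)).obj X ⊗ coextCx (algebraMap P A) I₀) := ⟨_, rfl⟩
  obtain ⟨x0, hx0⟩ : ∃ x0 : (DTen.resCx (algebraMap P A)).obj M ⟶ (X ⊗ I₀ : DRing.Cx P),
      HEq x0 (xi0 (A := A) X I₀) := by
    subst hM
    exact ⟨_, HEq.rfl⟩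
  have hq : QuasiIso ((actHat E π).app M ≫ (DRing.homCxFunctor E).map x0) := by
    subst hM
    obtain rfl := eq_of_heq hx0
    exact quasiIso_act_xi0 E π X I₀ a b hE hfp hX
  suffices hs : IsIso (adj.homEquiv (Q.obj M) (Q.obj (X ⊗ I₀ : DRing.Cx P))
      ((DTen.resFactors (algebraMap P A)).hom.app M ≫ Q.map x0)) by
    subst hM
    obtain rfl := eq_of_heq hx0
    exact hs
  let ξ : (DRing.restrictD (algebraMap P A)).obj (Q.obj M) ⟶ Q.obj (X ⊗ I₀ : DRing.Cx P) :=
    (DTen.resFactors (algebraMap P A)).hom.app M ≫ Q.map x0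
  have h : IsIso ((actHatD E π).app (Q.obj M) ≫ (homR E).map ξ) := by
    have hA := actHatD_app_Q E π M
    have hB : (homR E).map ((DTen.resFactors (algebraMap P A)).inv.app M) ≫ (homR E).map ξ =
        (homR E).map (Q.map x0) := by
      rw [← Functor.map_comp]
      congr 1
      exact Iso.inv_hom_id_app_assoc _ _ _
    have h2 := (homRIso E).inv.naturality x0
    dsimp only [Functor.comp_obj, Functor.comp_map] at h2
    have key : (actHatD E π).app (Q.obj M) ≫ (homR E).map ξ =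
        (DTen.resFactors (algebraMap P A)).hom.app M ≫
          Q.map ((actHat E π).app M ≫ (DRing.homCxFunctor E).map x0) ≫
            (homRIso E).inv.app (X ⊗ I₀ : DRing.Cx P) := by
      rw [hA]
      simp only [Category.assoc]
      rw [hB, ← h2, Functor.map_comp]
      simp only [Category.assoc]
    rw [key]
    have : IsIso (Q.map ((actHat E π).app M ≫ (DRing.homCxFunctor E).map x0)) :=
      (isIso_Q_map_iff_quasiIso (C := ModuleCat.{u} P) _).2 hq
    have h3 : IsIso ((homRIso E).inv.app (X ⊗ I₀ : DRing.Cx P)) :=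
      ⟨(homRIso E).hom.app _, (homRIso E).inv_hom_id_app _, (homRIso E).hom_inv_id_app _⟩
    have h5 : IsIso ((DTen.resFactors (algebraMap P A)).hom.app M) := inferInstance
    exact IsIso.comp_isIso' h5 (IsIso.comp_isIso' this h3)
  exact isIso_homEquiv_of_isIso_act E π adj ξ h

end Theta

end Groth.Agent.Lib.ShriekTenH6
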