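import Mathlib
import Groth.Prelude.Def_DRing4
import Groth.Prelude.Def_DTen5
import Groth.Agent.Lib.ShriekTen6_helper6
import Groth.Agent.Lib.LTenMix_helper2
import Groth.Agent.Lib.KFlatGen8_helper2
import Groth.Agent.Lib.ShriekTen5_helper6

/-!
# `RHom(A, -) ≅ (- ⊗^L_R RHom(A, R))` as functors, for `A` perfect over `R` (helper6, S13895)
Both sides are left derived functors (along `Qh`) of `X ↦ RHom(A, X ⊗ I₀)`.
-/

set_option autoImplicit false
set_option linter.style.haveILetI false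
set_option linter.unusedSectionVars false
set_option linter.unusedVariables false
universe u
open CategoryTheory CategoryTheory.Limits MonoidalCategory DerivedCategory
open CochainComplex CochainComplex.HomComplex
attribute [local instance] HasDerivedCategory.standard

namespace Groth.Agent.Lib.ShriekTenH6

open Groth.Agent.Lib.DMod_helper6 Groth.Agent.Lib.DerivedAdj Groth.Agent.Lib.KFlatMod
  Groth.Agent.Lib.BaseCmp Groth.Agent.Lib.FlatBCH6 Groth.Agent.Lib.HomCx Groth.Agent.Lib.RHomK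
  Groth.Agent.Lib.TrivBCH6 Groth.Agent.Lib.KFlatGen

section Fun

variable {R A : Type u} [CommRing R] [CommRing A] [Algebra R A]
variable (Φ : Dual.D R ⥤ Dual.D A) (I₀ : DRing.Cx R) (j₀ : 𝟙_ (DRing.Cx R) ⟶ I₀)

/-- the comparison target `X ↦ Φ(Q(X ⊗ I₀))` on the homotopy category -/
noncomputable abbrev F0h : HomotopyCategory (ModuleCat.{u} R) (ComplexShape.up ℤ) ⥤ Dual.D A :=
  phiH (T R) I₀ ⋙ Qh ⋙ Φ

/-- `Φ(QX) ⟶ Φ(Q(X ⊗ I₀))` -/
noncomputable def tau1C :
    CategoryTheory.Quotient.functor (homotopic (ModuleCat.{u} R) (ComplexShape.up ℤ)) ⋙ (Qh ⋙ Φ) ⟶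
      CategoryTheory.Quotient.functor (homotopic (ModuleCat.{u} R) (ComplexShape.up ℤ)) ⋙
        F0h Φ I₀ where
  app X := Φ.map (Q.map ((ρ_ X).inv ≫ X ◁ j₀))
  naturality X Y f := by
    show Φ.map (Q.map f) ≫ Φ.map (Q.map ((ρ_ Y).inv ≫ Y ◁ j₀)) =
      Φ.map (Q.map ((ρ_ X).inv ≫ X ◁ j₀)) ≫ Φ.map (Q.map (f ▷ I₀))
    rw [← Functor.map_comp, ← Functor.map_comp, ← Functor.map_comp, ← Functor.map_comp]
    congr 2
    rw [Category.assoc, whisker_exchange, ← Category.assoc, ← Category.assoc,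
      rightUnitor_inv_naturality]

variable (adj : DRing.restrictD (algebraMap R A) ⊣ Φ) [DTen.HasLTenMix (algebraMap R A)]
  (M : Dual.D A) (eM : M ⟶ Q.obj (coextCx (algebraMap R A) I₀))

/-- `K ↦ K ⊗^L_R M` -/
noncomputable abbrev PsiF : Dual.D R ⥤ Dual.D A :=
  (Functor.curry.obj (DTen.LTenMix (algebraMap R A))).flip.obj M

/-- the component of `τ₂` -/
noncomputable def tau2App (X : DRing.Cx R) :
    (PsiF M).obj (Q.obj X) ⟶ Φ.obj (Q.obj (X ⊗ I₀ : DRing.Cx R)) :=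
  (DTen.LTenMix (algebraMap R A)).map
      ((𝟙 (Q.obj X), eM) : ((Q.obj X, M) : Dual.D R × Dual.D A) ⟶
        (Q.obj X, Q.obj (coextCx (algebraMap R A) I₀))) ≫
    (DTen.εMix (algebraMap R A)).app (X, coextCx (algebraMap R A) I₀) ≫
      theta adj X I₀

lemma tau2App_naturality {X Y : DRing.Cx R} (f : X ⟶ Y) :
    (PsiF M).map (Q.map f) ≫ tau2App Φ I₀ adj M eM Y =
      tau2App Φ I₀ adj M eM X ≫ Φ.map (Q.map (f ▷ I₀)) := by
  unfold tau2App
  have h1 : (PsiF M).map (Q.map f) ≫ (DTen.LTenMix (algebraMap R A)).map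
      ((𝟙 (Q.obj Y), eM) : ((Q.obj Y, M) : Dual.D R × Dual.D A) ⟶
        (Q.obj Y, Q.obj (coextCx (algebraMap R A) I₀))) =
      (DTen.LTenMix (algebraMap R A)).map
      ((𝟙 (Q.obj X), eM) : ((Q.obj X, M) : Dual.D R × Dual.D A) ⟶
        (Q.obj X, Q.obj (coextCx (algebraMap R A) I₀))) ≫
      (DTen.LTenMix (algebraMap R A)).map
        ((Q.map f, 𝟙 (Q.obj (coextCx (algebraMap R A) I₀))) :
          ((Q.obj X, Q.obj (coextCx (algebraMap R A) I₀)) : Dual.D R × Dual.D A) ⟶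
            (Q.obj Y, Q.obj (coextCx (algebraMap R A) I₀))) := by
    show (DTen.LTenMix (algebraMap R A)).map
      ((Q.map f, 𝟙 M) : ((Q.obj X, M) : Dual.D R × Dual.D A) ⟶ (Q.obj Y, M)) ≫ _ = _
    rw [← Functor.map_comp, ← Functor.map_comp]
    congr 1
    exact Prod.ext ((Category.comp_id _).trans (Category.id_comp _).symm)
      ((Category.id_comp _).trans (Category.comp_id _).symm)
  have h2 := (DTen.εMix (algebraMap R A)).naturality
    ((f, 𝟙 (coextCx (algebraMap R A) I₀)) :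
      ((X, coextCx (algebraMap R A) I₀) : DRing.Cx R × DRing.Cx A) ⟶
        (Y, coextCx (algebraMap R A) I₀))
  have h2' : (DTen.LTenMix (algebraMap R A)).map
        ((Q.map f, 𝟙 (Q.obj (coextCx (algebraMap R A) I₀))) :
          ((Q.obj X, Q.obj (coextCx (algebraMap R A) I₀)) : Dual.D R × Dual.D A) ⟶
            (Q.obj Y, Q.obj (coextCx (algebraMap R A) I₀))) ≫
      (DTen.εMix (algebraMap R A)).app (Y, coextCx (algebraMap R A) I₀) =
      (DTen.εMix (algebraMap R A)).app (X, coextCx (algebraMap R A) I₀) ≫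
        Q.map ((DTen.extCx (algebraMap R A)).map f ▷ coextCx (algebraMap R A) I₀) := by
    refine Eq.trans ?_ (h2.trans ?_)
    · congr 2
      exact Prod.ext rfl (Q.map_id _).symm
    · congr 1
      show Q.map _ = Q.map _
      congr 1
      simp
  have h3 := theta_naturality adj f I₀
  rw [← Category.assoc, h1, Category.assoc, reassoc_of% h2', h3]
  simp only [Category.assoc]

/-- `Ψ(QX) ⟶ Φ(Q(X ⊗ I₀))` -/
noncomputable def tau2C :
    CategoryTheory.Quotient.functor (homotopic (ModuleCat.{u} R) (ComplexShape.up ℤ)) ⋙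
        (Qh ⋙ PsiF M) ⟶
      CategoryTheory.Quotient.functor (homotopic (ModuleCat.{u} R) (ComplexShape.up ℤ)) ⋙
        F0h Φ I₀ where
  app X := tau2App Φ I₀ adj M eM X
  naturality X Y f := tau2App_naturality Φ I₀ adj M eM f

/-- `τ₁` on the homotopy category -/
noncomputable def tau1H : Qh ⋙ Φ ⟶ F0h Φ I₀ :=
  CategoryTheory.Quotient.natTransLift _ (tau1C Φ I₀ j₀)

/-- `τ₂` on the homotopy category -/
noncomputable def tau2H : Qh ⋙ PsiF M ⟶ F0h Φ I₀ :=
  CategoryTheory.Quotient.natTransLift _ (tau2C Φ I₀ adj M eM)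

lemma res_kf (Z : HomotopyCategory (ModuleCat.{u} R) (ComplexShape.up ℤ)) :
    ∃ (Z' : HomotopyCategory (ModuleCat.{u} R) (ComplexShape.up ℤ)) (s : Z' ⟶ Z),
      HomotopyCategory.quasiIso (ModuleCat.{u} R) (ComplexShape.up ℤ) s ∧ KF R Z'.as := by
  obtain ⟨Z⟩ := Z
  obtain ⟨K, q, hK, -, hq, -⟩ := exists_kf_resolution Z
  exact ⟨(HomotopyCategory.quotient _ (ComplexShape.up ℤ)).obj K,
    (HomotopyCategory.quotient _ (ComplexShape.up ℤ)).map q,
    (HomotopyCategory.quotient_map_mem_quasiIso_iff q).2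
      ((HomologicalComplex.mem_quasiIso_iff q).2 hq), hK⟩

lemma resData1 [QuasiIso j₀] : Groth.Agent.Lib.DerivedCmp.ResData
    (HomotopyCategory.quasiIso (ModuleCat.{u} R) (ComplexShape.up ℤ))
    (tau1H Φ I₀ j₀) (fun Z => KF R Z.as) where
  iso := by
    rintro ⟨X⟩ hX
    show IsIso (Φ.map (Q.map ((ρ_ X).inv ≫ X ◁ j₀)))
    have hq1 : QuasiIso (X ◁ j₀) := Groth.Agent.Lib.DRingLT.quasiIso_whiskerLeft_of_kf X hX j₀
    have : QuasiIso ((ρ_ X).inv ≫ X ◁ j₀) := inferInstance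
    have : IsIso (Q.map ((ρ_ X).inv ≫ X ◁ j₀)) :=
      (isIso_Q_map_iff_quasiIso (C := ModuleCat.{u} R) _).2 this
    infer_instance
  res := res_kf

lemma resData2 [IsIso eM] (E : DRing.Cx R) [E.IsKProjective] (π : E ⟶ A0 R A) [QuasiIso π]
    (a b : ℤ) (hE : DRing.VanishesOutside E a b) (hfp : DRing.TermwiseFiniteProjective E)
    [I₀.IsKInjective] : Groth.Agent.Lib.DerivedCmp.ResData
    (HomotopyCategory.quasiIso (ModuleCat.{u} R) (ComplexShape.up ℤ))
    (tau2H Φ I₀ adj M eM) (fun Z => KF R Z.as) where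
  iso := by
    rintro ⟨X⟩ hX
    show IsIso (tau2App Φ I₀ adj M eM X)
    unfold tau2App
    have h1 : IsIso ((DTen.LTenMix (algebraMap R A)).map
      ((𝟙 (Q.obj X), eM) : ((Q.obj X, M) : Dual.D R × Dual.D A) ⟶
        (Q.obj X, Q.obj (coextCx (algebraMap R A) I₀)))) := by
      let p : ((Q.obj X, M) : Dual.D R × Dual.D A) ⟶
        (Q.obj X, Q.obj (coextCx (algebraMap R A) I₀)) := (𝟙 (Q.obj X), eM)
      have hp : IsIso p := by
        rw [isIso_prod_iff]
        exact ⟨(inferInstance : IsIso (𝟙 (Q.obj X))), (inferInstance : IsIso eM)⟩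
      exact (inferInstance : IsIso ((DTen.LTenMix (algebraMap R A)).map p))
    have h2 : IsIso ((DTen.εMix (algebraMap R A)).app (X, coextCx (algebraMap R A) I₀)) :=
      Groth.Agent.Lib.LTenMix.isIso_εMix_of_kf (algebraMap R A) X _ hX
    have h3 : IsIso (theta adj X I₀) := isIso_theta adj E π a b hE hfp X hX I₀
    exact IsIso.comp_isIso' h1 (IsIso.comp_isIso' h2 h3)
  res := res_kf

include adj in
/-- **`Φ ≅ (- ⊗^L_R M)`** -/
theorem nonempty_rightAdj_iso_PsiF [QuasiIso j₀] [IsIso eM] (E : DRing.Cx R) [E.IsKProjective]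
    (π : E ⟶ A0 R A) [QuasiIso π]
    (a b : ℤ) (hE : DRing.VanishesOutside E a b) (hfp : DRing.TermwiseFiniteProjective E)
    [I₀.IsKInjective] : Nonempty (Φ ≅ PsiF M) := by
  have i1 := Groth.Agent.Lib.DerivedCmp.isLeftDerivedFunctor Qh
    (HomotopyCategory.quasiIso (ModuleCat.{u} R) (ComplexShape.up ℤ)) (resData1 Φ I₀ j₀)
    Φ (Iso.refl (Qh ⋙ Φ))
  have i2 := Groth.Agent.Lib.DerivedCmp.isLeftDerivedFunctor Qh
    (HomotopyCategory.quasiIso (ModuleCat.{u} R) (ComplexShape.up ℤ))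
    (resData2 Φ I₀ adj M eM E π a b hE hfp)
    (PsiF M) (Iso.refl (Qh ⋙ PsiF M))
  exact ⟨Functor.leftDerivedUnique (PsiF M) Φ ((Iso.refl (Qh ⋙ Φ)).hom ≫ tau1H Φ I₀ j₀)
    ((Iso.refl (Qh ⋙ PsiF M)).hom ≫ tau2H Φ I₀ adj M eM)
    (HomotopyCategory.quasiIso (ModuleCat.{u} R) (ComplexShape.up ℤ))⟩

end Fun

section Main

/-- `Q(𝟙) ≅ A[0]` -/
noncomputable def unitIsoInD (A : Type u) [CommRing A] : DTen.unit A ≅ Dual.inD A A :=
  Q.mapIso (Iso.refl _ : (𝟙_ (DRing.Cx A)) ≅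
      (CochainComplex.singleFunctor (ModuleCat.{u} A) 0).obj (ModuleCat.of A A)) ≪≫
    ((DerivedCategory.singleFunctorIsoCompQ (ModuleCat.{u} A) 0).app (ModuleCat.of A A)).symm

/-- **S13895** (algebra form): `RHom(A, -) ≅ (- ⊗^L_R RHom(A, R))` for `A` perfect over `R` -/
theorem main13895' (R A : Type u) [CommRing R] [CommRing A] [Algebra R A]
    [DTen.HasRHomRel (algebraMap R A)] [DTen.HasLTenMix (algebraMap R A)]
    (hA : DRing.IsPerfect R ((DRing.restrictD (algebraMap R A)).obj (DTen.unit A))) :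
    Nonempty (DTen.RHomRel (algebraMap R A) ≅
      (Functor.curry.obj (DTen.LTenMix (algebraMap R A))).flip.obj
        ((DTen.RHomRel (algebraMap R A)).obj (DTen.unit R))) := by
  have hperf : resPerf (algebraMap R A) (Dual.inD A A) := by
    obtain ⟨E, a, b, hE, hfp, ⟨e⟩⟩ := hA
    exact ⟨E, a, b, hE, hfp, ⟨e ≪≫ (DRing.restrictD (algebraMap R A)).mapIso (unitIsoInD A)⟩⟩
  obtain ⟨E, a, b, π, hE, hfp, hEK, hπ⟩ := exists_perfect_resolution R A hperf
  obtain ⟨I₀, j₀, hI₀, hj₀⟩ :=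
    Groth.Agent.Lib.KInjRes.exists_kinj_resolution (𝟙_ (DRing.Cx R))
  have hi2 : IsIso (Q.map j₀) := (isIso_Q_map_iff_quasiIso (C := ModuleCat.{u} R) _).2 hj₀
  let eI : DRing.toD I₀ ≅ DTen.unit R := (asIso (Q.map j₀)).symm
  have hc : IsIso (coextToRight (DTen.RHomRel (algebraMap R A)) (DTen.relAdj (algebraMap R A))
    I₀ eI) := isIso_coextToRight _ _ I₀ eI
  exact nonempty_rightAdj_iso_PsiF (DTen.RHomRel (algebraMap R A)) I₀ j₀
    (DTen.relAdj (algebraMap R A)) ((DTen.RHomRel (algebraMap R A)).obj (DTen.unit R))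
    (inv (coextToRight (DTen.RHomRel (algebraMap R A)) (DTen.relAdj (algebraMap R A)) I₀ eI))
    E π a b hE hfp

end Main

end Groth.Agent.Lib.ShriekTenH6
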