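import Mathlib
import Groth.Prelude.Def_DRing4
import Groth.Prelude.Def_DTen5
import Groth.Agent.Lib.ShriekTen7_helper6
import Groth.Agent.Lib.ExtInv3_helper6
import Groth.Agent.Lib.LocHom_helper2
import Groth.Agent.Lib.DMod5_helper6

/-!
# `RHom(A, -) ≅ (- ⊗^L_R N[-1])` for `A = R/I` with `I` an invertible module (helper6, S13896)
-/

set_option autoImplicit false
set_option linter.style.haveILetI false
set_option linter.unusedSectionVars false
set_option linter.unusedVariables false
universe u
open CategoryTheory CategoryTheory.Limits MonoidalCategory DerivedCategory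
open scoped TensorProduct
attribute [local instance] HasDerivedCategory.standard

namespace Groth.Agent.Lib.ShriekTenH6

open DRing Groth.Agent.Lib.DMod_helper6

section InvKer

variable (R A : Type u) [CommRing R] [CommRing A] [Algebra R A]
  (hφ : Function.Surjective (algebraMap R A))

/-- the inclusion of the kernel -/
noncomputable abbrev kerIncl :
    ModuleCat.of R (RingHom.ker (algebraMap R A)) ⟶ ModuleCat.of R R :=
  ModuleCat.ofHom (Submodule.subtype (RingHom.ker (algebraMap R A)))

/-- the quotient map -/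
noncomputable abbrev quotMap : ModuleCat.of R R ⟶ ModuleCat.of R A :=
  ModuleCat.ofHom (Algebra.linearMap R A)

lemma kerIncl_quotMap : kerIncl R A ≫ quotMap R A = 0 := by
  apply ModuleCat.hom_ext
  apply LinearMap.ext
  intro x
  exact x.2

include hφ in
lemma shortExact_ker : (ShortComplex.mk (kerIncl R A) (quotMap R A) (kerIncl_quotMap R A)).ShortExact := by
  refine ShortComplex.ShortExact.mk' ?_ ?_ ?_
  · rw [ShortComplex.moduleCat_exact_iff]
    intro (x : R) hx
    exact ⟨⟨x, hx⟩, rfl⟩
  · exact (ModuleCat.mono_iff_injective _).2 (Submodule.injective_subtype _)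
  · exact (ModuleCat.epi_iff_surjective _).2 hφ

omit [Algebra R A] in
lemma isPerfect_inD_of_finite_projective (M : ModuleCat.{u} R) [Module.Finite R M]
    [Projective M] : IsPerfect R ((DerivedCategory.singleFunctor (ModuleCat.{u} R) 0).obj M) := by
  refine isPerfect_of_projectiveResolution (ProjectiveResolution.self M) 0 (fun k hk => ?_)
    (fun k => ?_)
  · exact HomologicalComplex.isZero_single_obj_X (ComplexShape.down ℕ) 0 M k (by omega)
  · rcases k with _ | k
    · exact (inferInstance : Module.Finite R M)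
    · have hz : IsZero ((ProjectiveResolution.self M).complex.X (k + 1)) :=
        HomologicalComplex.isZero_single_obj_X (ComplexShape.down ℕ) 0 M (k + 1) (by omega)
      haveI := ModuleCat.subsingleton_of_isZero hz
      infer_instance

include hφ in
theorem isPerfect_restrict_unit [Module.Invertible R (RingHom.ker (algebraMap R A))] :
    IsPerfect R ((restrictD (algebraMap R A)).obj (DTen.unit A)) := by
  have hS := shortExact_ker R A hφ
  haveI : Projective (ModuleCat.of R (RingHom.ker (algebraMap R A))) :=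
    (IsProjective.iff_projective _).1 inferInstance
  haveI : Projective (ModuleCat.of R R) := (IsProjective.iff_projective _).1 inferInstance
  have h1 : perfProp R (Dual.inD R (RingHom.ker (algebraMap R A))) :=
    isPerfect_inD_of_finite_projective R (ModuleCat.of R (RingHom.ker (algebraMap R A)))
  have h2 : perfProp R (Dual.inD R R) :=
    isPerfect_inD_of_finite_projective R (ModuleCat.of R R)
  have h3 := (perfProp R).ext_of_isTriangulatedClosed₃ _ hS.singleTriangle_distinguished h1 h2
  exact (perfProp R).prop_of_iso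
    ((restrictD (algebraMap R A)).mapIso (unitIsoInD A) ≪≫
      Groth.Agent.Lib.LocHom.restrictInDIso).symm h3

section ExtComp

variable [Module.Invertible R (RingHom.ker (algebraMap R A))]

include hφ in
lemma subsingleton_ext_ge_two (k : ℕ) (hk : 2 ≤ k) :
    Subsingleton (Abelian.Ext (ModuleCat.of R A) (ModuleCat.of R R) k) := by
  obtain ⟨n, rfl⟩ : ∃ n, k = n + 1 + 1 := ⟨k - 2, by omega⟩
  have hS := shortExact_ker R A hφ
  haveI : Projective (ModuleCat.of R (RingHom.ker (algebraMap R A))) :=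
    (IsProjective.iff_projective _).1 inferInstance
  haveI : Projective (ModuleCat.of R R) := (IsProjective.iff_projective _).1 inferInstance
  refine subsingleton_of_forall_eq 0 (fun x₃ => ?_)
  have h0 : (Abelian.Ext.mk₀ (quotMap R A)).comp x₃ (zero_add (n + 1 + 1)) = 0 :=
    Abelian.Ext.eq_zero_of_projective _
  obtain ⟨x₁, hx₁⟩ := Abelian.Ext.contravariant_sequence_exact₃ hS (ModuleCat.of R R) x₃ h0
    (show 1 + (n + 1) = n + 1 + 1 by omega)
  rw [← hx₁, Abelian.Ext.eq_zero_of_projective x₁, Abelian.Ext.comp_zero]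

lemma subsingleton_hom_quot : Subsingleton (ModuleCat.of R A ⟶ ModuleCat.of R R) := by
  refine subsingleton_of_forall_eq 0 (fun f => ?_)
  apply ModuleCat.hom_ext
  apply LinearMap.ext
  intro (a : A)
  have h : ∀ m : RingHom.ker (algebraMap R A), (f.hom a : R) • m = (0 : R) • m := by
    intro m
    rw [zero_smul]
    apply Subtype.ext
    show (f.hom a : R) * (m : R) = 0
    have h1 : (m : R) • a = 0 := by
      rw [Algebra.smul_def, (RingHom.mem_ker).1 m.2, zero_mul]
    have h2 : f.hom ((m : R) • a) = (m : R) • f.hom a := map_smul f.hom _ _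
    rw [h1, map_zero, smul_eq_mul] at h2
    rw [mul_comm]
    exact h2.symm
  exact FaithfulSMul.eq_of_smul_eq_smul h

lemma subsingleton_ext_zero :
    Subsingleton (Abelian.Ext (ModuleCat.of R A) (ModuleCat.of R R) 0) := by
  haveI := subsingleton_hom_quot R A
  exact Abelian.Ext.addEquiv₀.toEquiv.subsingleton

/-- the connecting map `Hom(I, R) ⟶ Ext¹(A, R)` -/
noncomputable def deltaLin :
    (ModuleCat.of R (RingHom.ker (algebraMap R A)) ⟶ ModuleCat.of R R) →ₗ[R]
      Abelian.Ext (ModuleCat.of R A) (ModuleCat.of R R) 1 where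
  toFun φ := (shortExact_ker R A hφ).extClass.comp (Abelian.Ext.mk₀ φ) (add_zero 1)
  map_add' φ ψ := by rw [Abelian.Ext.mk₀_add, Abelian.Ext.comp_add]
  map_smul' r φ := by rw [Abelian.Ext.mk₀_smul, Abelian.Ext.comp_smul, RingHom.id_apply]

lemma deltaLin_surjective : Function.Surjective (deltaLin R A hφ) := by
  intro x₃
  have hS := shortExact_ker R A hφ
  haveI : Projective (ModuleCat.of R R) := (IsProjective.iff_projective _).1 inferInstance
  have h0 : (Abelian.Ext.mk₀ (quotMap R A)).comp x₃ (zero_add 1) = 0 :=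
    Abelian.Ext.eq_zero_of_projective (n := 0) _
  obtain ⟨x₁, hx₁⟩ := Abelian.Ext.contravariant_sequence_exact₃ hS (ModuleCat.of R R) x₃ h0
    (show 1 + 0 = 1 by omega)
  refine ⟨Abelian.Ext.addEquiv₀ x₁, ?_⟩
  show hS.extClass.comp (Abelian.Ext.mk₀ (Abelian.Ext.addEquiv₀ x₁)) (add_zero 1) = x₃
  rw [Abelian.Ext.mk₀_addEquiv₀_apply]
  exact hx₁

lemma deltaLin_eq_zero_iff (φ : ModuleCat.of R (RingHom.ker (algebraMap R A)) ⟶ ModuleCat.of R R) :
    deltaLin R A hφ φ = 0 ↔ ∃ ρ : ModuleCat.of R R ⟶ ModuleCat.of R R, φ = kerIncl R A ≫ ρ := by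
  have hS := shortExact_ker R A hφ
  constructor
  · intro h
    obtain ⟨x₂, hx₂⟩ := Abelian.Ext.contravariant_sequence_exact₁ hS (ModuleCat.of R R)
      (Abelian.Ext.mk₀ φ) (show 1 + 0 = 1 by omega) h
    refine ⟨Abelian.Ext.addEquiv₀ x₂, ?_⟩
    apply (Abelian.Ext.mk₀_bijective _ _).1
    rw [← Abelian.Ext.mk₀_comp_mk₀, Abelian.Ext.mk₀_addEquiv₀_apply]
    exact hx₂.symm
  · rintro ⟨ρ, rfl⟩
    show hS.extClass.comp (Abelian.Ext.mk₀ (kerIncl R A ≫ ρ)) (add_zero 1) = 0
    rw [← Abelian.Ext.mk₀_comp_mk₀]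
    exact hS.extClass_comp_assoc (Abelian.Ext.mk₀ ρ)

/-- composition with the quotient map `Hom(I, R) ⟶ Hom(I, A)` -/
noncomputable def qLin :
    (ModuleCat.of R (RingHom.ker (algebraMap R A)) ⟶ ModuleCat.of R R) →ₗ[R]
      (ModuleCat.of R (RingHom.ker (algebraMap R A)) ⟶ ModuleCat.of R A) where
  toFun φ := φ ≫ quotMap R A
  map_add' φ ψ := Preadditive.add_comp _ _ _ _ _ _
  map_smul' r φ := Linear.smul_comp _ _ _ _ _ _

include hφ in
lemma qLin_surjective : Function.Surjective (qLin R A) := by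
  intro ψ
  haveI : Projective (ModuleCat.of R (RingHom.ker (algebraMap R A))) :=
    (IsProjective.iff_projective _).1 inferInstance
  haveI : Epi (quotMap R A) := (ModuleCat.epi_iff_surjective _).2 hφ
  exact ⟨Projective.factorThru ψ (quotMap R A), Projective.factorThru_comp ψ (quotMap R A)⟩

lemma ker_deltaLin_eq : LinearMap.ker (deltaLin R A hφ) = LinearMap.ker (qLin R A) := by
  ext φ
  rw [LinearMap.mem_ker, LinearMap.mem_ker, deltaLin_eq_zero_iff]
  constructor
  · rintro ⟨ρ, rfl⟩
    show (kerIncl R A ≫ ρ) ≫ quotMap R A = 0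
    apply ModuleCat.hom_ext
    apply LinearMap.ext
    intro (i : RingHom.ker (algebraMap R A))
    show algebraMap R A (ρ.hom (i : R)) = 0
    have h1 : ρ.hom (i : R) = (i : R) • ρ.hom (1 : R) := by
      rw [← map_smul, smul_eq_mul, mul_one]
    rw [h1, smul_eq_mul, map_mul, (RingHom.mem_ker).1 i.2, zero_mul]
  · intro h
    have hmem : ∀ i : RingHom.ker (algebraMap R A),
        φ.hom i ∈ RingHom.ker (algebraMap R A) := by
      intro i
      have := congrArg (fun g => g.hom i) h
      exact this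
    let ψ : RingHom.ker (algebraMap R A) →ₗ[R] RingHom.ker (algebraMap R A) :=
      LinearMap.codRestrict (RingHom.ker (algebraMap R A)) φ.hom hmem
    obtain ⟨r, hr⟩ := (Module.Invertible.toModuleEnd_bijective R
      (RingHom.ker (algebraMap R A))).2 ψ
    refine ⟨ModuleCat.ofHom (r • LinearMap.id), ?_⟩
    apply ModuleCat.hom_ext
    apply LinearMap.ext
    intro (i : RingHom.ker (algebraMap R A))
    have h2 := congrArg (fun g => ((g i : RingHom.ker (algebraMap R A)) : R)) hr
    exact h2.symm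

/-- `Ext¹_R(A, R) ≃ Hom_R(I, A)` -/
noncomputable def ext1Equiv :
    Abelian.Ext (ModuleCat.of R A) (ModuleCat.of R R) 1 ≃ₗ[R]
      (RingHom.ker (algebraMap R A) →ₗ[R] A) :=
  ((deltaLin R A hφ).quotKerEquivOfSurjective (deltaLin_surjective R A hφ)).symm ≪≫ₗ
    Submodule.quotEquivOfEq _ _ (ker_deltaLin_eq R A hφ) ≪≫ₗ
    (qLin R A).quotKerEquivOfSurjective (qLin_surjective R A hφ) ≪≫ₗ ModuleCat.homLinearEquiv

/-- the two `R`-module structures on `Hom_R(I, A)` agree -/
noncomputable def homRestrictEquiv :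
    (RingHom.ker (algebraMap R A) →ₗ[R] A) ≃ₗ[R]
      RestrictScalars R A (RingHom.ker (algebraMap R A) →ₗ[R] A) where
  toFun f := (RestrictScalars.addEquiv R A _).symm f
  invFun f := RestrictScalars.addEquiv R A _ f
  map_add' f g := map_add _ f g
  map_smul' r f := by
    rw [RingHom.id_apply, RestrictScalars.smul_def, AddEquiv.apply_symm_apply]
    congr 1
    ext i
    show r • f i = algebraMap R A r • f i
    rw [Algebra.smul_def, smul_eq_mul]
  left_inv f := by simp
  right_inv f := by simp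

/-- an inverse of `A ⊗_R I` is `Hom_R(I, A)` -/
noncomputable def invEquiv (N : Type u) [AddCommGroup N] [Module A N]
    (e : (A ⊗[R] (RingHom.ker (algebraMap R A))) ⊗[A] N ≃ₗ[A] A) :
    N ≃ₗ[A] (RingHom.ker (algebraMap R A) →ₗ[R] A) :=
  Module.Invertible.linearEquivDual
      (TensorProduct.comm A N (A ⊗[R] (RingHom.ker (algebraMap R A))) ≪≫ₗ e) ≪≫ₗ
    (LinearMap.liftBaseChangeEquiv A).symm

include hφ in
/-- **S13896** (algebra form) -/
theorem main13896' (N : Type u) [AddCommGroup N] [Module A N]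
    (e : (A ⊗[R] (RingHom.ker (algebraMap R A))) ⊗[A] N ≃ₗ[A] A)
    [DTen.HasRHomRel (algebraMap R A)] [DTen.HasLTenMix (algebraMap R A)] :
    Nonempty (DTen.RHomRel (algebraMap R A) ≅
      (Functor.curry.obj (DTen.LTenMix (algebraMap R A))).flip.obj
        ((Dual.inD A N)⟦(-1 : ℤ)⟧)) := by
  have hA := isPerfect_restrict_unit R A hφ
  obtain ⟨i0⟩ := main13895' R A hA
  have hvan : ∀ i : ℤ, i ≠ 1 →
      Subsingleton (Dual.HD A ((DTen.RHomRel (algebraMap R A)).obj (Dual.inD R R)) i) := by
    intro i hi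
    rcases lt_or_ge i 0 with h0 | h0
    · exact Groth.Agent.Lib.ExtInvH6.subsingleton_HD_rightAdjoint_of_neg
        (DTen.RHomRel (algebraMap R A)) (DTen.relAdj (algebraMap R A)) R i h0
    · obtain ⟨k, rfl⟩ := Int.eq_ofNat_of_zero_le h0
      obtain ⟨E⟩ := Groth.Agent.Lib.ExtInvH6.nonempty_restrictScalars_HD_rightAdjoint_linearEquiv_ext
        (DTen.RHomRel (algebraMap R A)) (DTen.relAdj (algebraMap R A)) R k
      have hk : k ≠ 1 := fun h => hi (by rw [h]; rfl)
      haveI : Subsingleton (Abelian.Ext (ModuleCat.of R A) (ModuleCat.of R R) k) := by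
        rcases Nat.lt_or_ge k 2 with h2 | h2
        · have : k = 0 := by omega
          subst this
          exact subsingleton_ext_zero R A
        · exact subsingleton_ext_ge_two R A hφ k h2
      exact ((RestrictScalars.addEquiv R A _).symm.toEquiv.trans E.toEquiv).subsingleton
  obtain ⟨E1⟩ := Groth.Agent.Lib.ExtInvH6.nonempty_restrictScalars_HD_rightAdjoint_linearEquiv_ext
    (DTen.RHomRel (algebraMap R A)) (DTen.relAdj (algebraMap R A)) R 1
  let eH : Dual.HD A ((DTen.RHomRel (algebraMap R A)).obj (Dual.inD R R)) 1 ≃ₗ[A] N :=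
    Groth.Agent.Lib.ExtInvH6.linearEquivOfRestrictScalars hφ
      (E1 ≪≫ₗ ext1Equiv R A hφ ≪≫ₗ homRestrictEquiv R A) ≪≫ₗ (invEquiv R A N e).symm
  obtain ⟨i1⟩ := nonempty_iso_inD_shift_of_HD_single
    ((DTen.RHomRel (algebraMap R A)).obj (Dual.inD R R)) 1 (-1) (by omega) hvan N eH
  exact ⟨i0 ≪≫ (Functor.curry.obj (DTen.LTenMix (algebraMap R A))).flip.mapIso
    ((DTen.RHomRel (algebraMap R A)).mapIso (unitIsoInD R) ≪≫ i1)⟩

end ExtComp

end InvKer

end Groth.Agent.Lib.ShriekTenH6
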