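import Mathlib
import Groth.Prelude.Def_DRing4
import Groth.Prelude.Def_DTen5
import Groth.Prelude.Def_DualSh
import Groth.Agent.Lib.ShriekTen5_helper6
import Groth.Agent.Lib.ShriekTen8_helper6
import Groth.Agent.Lib.FinShriek1_helper6

/-!
# `φ^!` for finite `φ` (helper6), part 2: `RHom_P(A, K ⊗ P)[n] ≅ (K ⊗^L_R A) ⊗^L_A W` for `A` perfect
over `P` (general form), and `RHom_R(A, R) ≅ N[-1]` for `A = R/I`, `I` invertible.
-/

set_option autoImplicit false
set_option linter.style.haveILetI false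
set_option linter.unusedSectionVars false
set_option linter.unusedVariables false
universe u
open CategoryTheory CategoryTheory.Limits MonoidalCategory DerivedCategory
open scoped TensorProduct
attribute [local instance] HasDerivedCategory.standard

namespace Groth.Agent.Lib.FinShriekH6

open DRing Groth.Agent.Lib.DMod_helper6 Groth.Agent.Lib.DerivedAdj Groth.Agent.Lib.KFlatMod
  Groth.Agent.Lib.BaseCmp Groth.Agent.Lib.FlatBCH6 Groth.Agent.Lib.HomCx Groth.Agent.Lib.RHomK
  Groth.Agent.Lib.TrivBCH6 Groth.Agent.Lib.ShriekIndH6 Groth.Agent.Lib.ShriekLowH6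
  Groth.Agent.Lib.ShriekTenH6

section General

/-- **`RHom_P(A, K ⊗^L_R P)[n] ≅ (K ⊗^L_R A) ⊗^L_A W`** for `R → P → A` with `A` perfect over `P` and
`W` representing `RHom_P(A, P)[n]`, for arbitrary adjoint functors. -/
theorem shriek_iso_tensor_general (R P A : Type u) [CommRing R] [CommRing P] [CommRing A]
    [Algebra R P] [Algebra P A] [Algebra R A] [IsScalarTower R P A]
    (hperf : resPerf (algebraMap P A) (Dual.inD A A))
    (Lφ : Dual.D R ⥤ Dual.D P) (adjL : Lφ ⊣ restrictD (algebraMap R P))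
    (LA : Dual.D R ⥤ Dual.D A) (adjLA : LA ⊣ restrictD (algebraMap R A))
    (Rψ : Dual.D P ⥤ Dual.D A) (adj : restrictD (algebraMap P A) ⊣ Rψ)
    (W : DRing.Cx A) (n : ℤ)
    (hW : Nonempty (DRing.toD W ≅ (Rψ.obj (Dual.inD P P))⟦n⟧)) [DRing.HasLTensorCx A W]
    (K : Dual.D R) :
    Nonempty ((Rψ.obj (Lφ.obj K))⟦n⟧ ≅ (DRing.LTensorCx A W).obj (LA.obj K)) := by
  haveI : DRing.HasLBaseChange (algebraMap R P) := hasLBaseChange_general _
  haveI : DRing.HasLBaseChange (algebraMap P A) := hasLBaseChange_general _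
  haveI : DRing.HasLBaseChange (algebraMap R A) := hasLBaseChange_general _
  obtain ⟨adjL0⟩ := Groth.Agent.Lib.DerivedAdj.nonempty_adj (algebraMap R P)
  obtain ⟨adjLA0⟩ := Groth.Agent.Lib.DerivedAdj.nonempty_adj (algebraMap R A)
  let uL : Lφ ≅ DRing.LBaseChange (algebraMap R P) := adjL.leftAdjointUniq adjL0
  let uLA : LA ≅ DRing.LBaseChange (algebraMap R A) := adjLA.leftAdjointUniq adjLA0
  have hcomp : (algebraMap P A).comp (algebraMap R P) = algebraMap R A :=
    (IsScalarTower.algebraMap_eq R P A).symm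
  -- a K-projective resolution of `K`
  obtain ⟨Kp, p, hp, hKp, hKF, -⟩ :=
    Groth.Agent.Lib.KProjRes.exists_kproj_resolution (Q.objPreimage K)
  have hi0 : IsIso (Q.map p) := (isIso_Q_map_iff_quasiIso (C := ModuleCat.{u} R) _).2 hp
  let eK : K ≅ Q.obj Kp := (Q.objObjPreimageIso K).symm ≪≫ (asIso (Q.map p)).symm
  let X : DRing.Cx P := (DTen.extCx (algebraMap R P)).obj Kp
  haveI hXK : X.IsKProjective :=
    Groth.Agent.Lib.KProjAdj.isKProjective_extendScalars (algebraMap R P) Kp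
  have hX : KF P X := Groth.Agent.Lib.ExtKFlat.kf_ext R P Kp hKF
  obtain ⟨b1⟩ := nonempty_lBaseChange_iso_of_isKProjective (algebraMap R P) Kp
  let e₁ : (DRing.LBaseChange (algebraMap R P)).obj K ≅ Q.obj X :=
    (DRing.LBaseChange (algebraMap R P)).mapIso eK ≪≫ b1
  obtain ⟨b2⟩ := nonempty_lBaseChange_iso_of_isKProjective (algebraMap P A) X
  obtain ⟨cmp⟩ := Groth.Agent.Lib.GorFibH6.nonempty_lBaseChange_comp (algebraMap R P)
    (algebraMap P A) (algebraMap R A) hcomp
  let e₂ : (DRing.LBaseChange (algebraMap R A)).obj K ≅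
      Q.obj ((DTen.extCx (algebraMap P A)).obj X) :=
    cmp.app K ≪≫ (DRing.LBaseChange (algebraMap P A)).mapIso e₁ ≪≫ b2
  obtain ⟨m⟩ := nonempty_rightAdj_iso_tensor P A hperf Rψ adj X hX W n hW
  exact ⟨(CategoryTheory.shiftFunctor (Dual.D A) n).mapIso (Rψ.mapIso (uL.app K ≪≫ e₁)) ≪≫ m ≪≫
    (DRing.LTensorCx A W).mapIso (uLA.app K ≪≫ e₂).symm⟩

end General

section InvKer

variable (R A : Type u) [CommRing R] [CommRing A] [Algebra R A]
  (hφ : Function.Surjective (algebraMap R A))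
  [Module.Invertible R (RingHom.ker (algebraMap R A))]

include hφ in
/-- **`RHom_R(A, R) ≅ N[-1]`** for `A = R/I`, `I` invertible, `N` an inverse of `A ⊗_R I`, for an
arbitrary right adjoint of restriction of scalars. -/
theorem nonempty_rightAdj_self_iso (N : Type u) [AddCommGroup N] [Module A N]
    (e : (A ⊗[R] (RingHom.ker (algebraMap R A))) ⊗[A] N ≃ₗ[A] A)
    (Rψ : Dual.D R ⥤ Dual.D A) (adj : restrictD (algebraMap R A) ⊣ Rψ) :
    Nonempty (Rψ.obj (Dual.inD R R) ≅ (Dual.inD A N)⟦(-1 : ℤ)⟧) := by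
  have hvan : ∀ i : ℤ, i ≠ 1 → Subsingleton (Dual.HD A (Rψ.obj (Dual.inD R R)) i) := by
    intro i hi
    rcases lt_or_ge i 0 with h0 | h0
    · exact Groth.Agent.Lib.ExtInvH6.subsingleton_HD_rightAdjoint_of_neg Rψ adj R i h0
    · obtain ⟨k, rfl⟩ := Int.eq_ofNat_of_zero_le h0
      obtain ⟨E⟩ := Groth.Agent.Lib.ExtInvH6.nonempty_restrictScalars_HD_rightAdjoint_linearEquiv_ext
        Rψ adj R k
      have hk : k ≠ 1 := fun h => hi (by rw [h]; rfl)
      haveI : Subsingleton (Abelian.Ext (ModuleCat.of R A) (ModuleCat.of R R) k) := by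
        rcases Nat.lt_or_ge k 2 with h2 | h2
        · have : k = 0 := by omega
          subst this
          exact subsingleton_ext_zero R A
        · exact subsingleton_ext_ge_two R A hφ k h2
      exact ((RestrictScalars.addEquiv R A _).symm.toEquiv.trans E.toEquiv).subsingleton
  obtain ⟨E1⟩ := Groth.Agent.Lib.ExtInvH6.nonempty_restrictScalars_HD_rightAdjoint_linearEquiv_ext
    Rψ adj R 1
  let eH : Dual.HD A (Rψ.obj (Dual.inD R R)) 1 ≃ₗ[A] N :=
    Groth.Agent.Lib.ExtInvH6.linearEquivOfRestrictScalars hφ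
      (E1 ≪≫ₗ ext1Equiv R A hφ ≪≫ₗ homRestrictEquiv R A) ≪≫ₗ (invEquiv R A N e).symm
  exact nonempty_iso_inD_shift_of_HD_single (Rψ.obj (Dual.inD R R)) 1 (-1) (by omega) hvan N eH

end InvKer

end Groth.Agent.Lib.FinShriekH6
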