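import Mathlib
import Groth.Prelude.Def_DRing4
import Groth.Prelude.Def_DTen5
import Groth.Prelude.Def_DualSh
import Groth.Agent.Lib.FinShriek2_helper6

/-!
# `φ^!` for finite `φ` (helper6), part 3: `RHom_R(B, R) ≅ Hom_R(B, R)[0]` for `B` projective
over `R`.
-/

set_option autoImplicit false
set_option linter.style.haveILetI false
set_option linter.unusedSectionVars false
set_option linter.unusedVariables false
universe u
open CategoryTheory CategoryTheory.Limits MonoidalCategory DerivedCategory
open scoped TensorProduct
attribute [local instance] HasDerivedCategory.standard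

namespace Groth.Agent.Lib.FinShriekH6

open DRing Groth.Agent.Lib.DMod_helper6 Groth.Agent.Lib.TrivBCH6

section CoextExact

variable (R B : Type u) [CommRing R] [CommRing B] [Algebra R B] [Module.Projective R B]

lemma projective_restrictScalars_self :
    Module.Projective R ((ModuleCat.restrictScalars (algebraMap R B)).obj (ModuleCat.of B B)) :=
  Module.Projective.of_equiv (restrictScalarsSelfEquiv (A := R) (B := B)).symm

variable {R B}

lemma coext_map_surjective {M N : ModuleCat.{u} R} (f : M ⟶ N)
    (hf : Function.Surjective f.hom) :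
    Function.Surjective ((ModuleCat.coextendScalars (algebraMap R B)).map f).hom := by
  intro g
  haveI := projective_restrictScalars_self R B
  obtain ⟨h, hh⟩ := Module.projective_lifting_property f.hom
    (ModuleCat.CoextendScalars.equiv (algebraMap R B) N g) hf
  refine ⟨(ModuleCat.CoextendScalars.equiv (algebraMap R B) M).symm h, ?_⟩
  apply ModuleCat.CoextendScalars.ext
  exact hh

variable (R B)

instance preservesHomology_coext :
    (ModuleCat.coextendScalars (algebraMap R B) :
      ModuleCat.{u} R ⥤ ModuleCat.{u} B).PreservesHomology := by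
  let F : ModuleCat.{u} R ⥤ ModuleCat.{u} B := ModuleCat.coextendScalars (algebraMap R B)
  have hF : PreservesFiniteLimits F := by
    haveI := (rcAdj (algebraMap R B)).rightAdjoint_preservesLimits
    infer_instance
  have h1 : ∀ S : ShortComplex (ModuleCat.{u} R), S.ShortExact → (S.map F).ShortExact := by
    intro S hS
    have h := (Functor.preservesFiniteLimits_iff_forall_exact_map_and_mono F).1 hF S hS
    haveI : Mono (S.map F).f := h.2
    haveI : Epi (S.map F).g :=
      (ModuleCat.epi_iff_surjective _).2
        (coext_map_surjective S.g ((ModuleCat.epi_iff_surjective _).1 hS.epi_g))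
    exact ShortComplex.ShortExact.mk' h.1 inferInstance inferInstance
  have := (Functor.exact_tfae F).out 0 2
  exact this.1 h1

/-- **`RHom_R(B, R) ≅ Hom_R(B, R)[0]`** for `B` projective over `R` -/
theorem nonempty_rightAdj_self_iso_of_projective (R' : Dual.D R ⥤ Dual.D B)
    (adjR : restrictD (algebraMap R B) ⊣ R') :
    Nonempty (R'.obj (Dual.inD R R) ≅
      Dual.inD B ((ModuleCat.coextendScalars (algebraMap R B)).obj (ModuleCat.of R R))) := by
  let F : ModuleCat.{u} R ⥤ ModuleCat.{u} B := ModuleCat.coextendScalars (algebraMap R B)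
  obtain ⟨I₀, j₀, hI₀, hj₀⟩ := Groth.Agent.Lib.KInjRes.exists_kinj_resolution (U0 R)
  have hi2 : IsIso (Q.map j₀) := (isIso_Q_map_iff_quasiIso (C := ModuleCat.{u} R) _).2 hj₀
  let eI : DRing.toD I₀ ≅ Dual.inD R R :=
    (asIso (Q.map j₀)).symm ≪≫
      ((DerivedCategory.singleFunctorIsoCompQ (ModuleCat.{u} R) 0).app (ModuleCat.of R R)).symm
  have hc : IsIso (coextToRight R' adjR I₀ eI) := isIso_coextToRight R' adjR I₀ eI
  let q : coextCx (algebraMap R B) (U0 R) ⟶ coextCx (algebraMap R B) I₀ :=
    (F.mapHomologicalComplex (ComplexShape.up ℤ)).map j₀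
  haveI hq : QuasiIso q := HomologicalComplex.quasiIso_map_of_preservesHomology j₀ F
  have hi3 : IsIso (Q.map q) := (isIso_Q_map_iff_quasiIso (C := ModuleCat.{u} B) _).2 hq
  let s : coextCx (algebraMap R B) (U0 R) ≅
      (CochainComplex.singleFunctor (ModuleCat.{u} B) 0).obj (F.obj (ModuleCat.of R R)) :=
    (HomologicalComplex.singleMapHomologicalComplex F (ComplexShape.up ℤ) 0).app (ModuleCat.of R R)
  exact ⟨(asIso (coextToRight R' adjR I₀ eI)).symm ≪≫ (asIso (Q.map q)).symm ≪≫ Q.mapIso s ≪≫
    ((DerivedCategory.singleFunctorIsoCompQ (ModuleCat.{u} B) 0).app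
      (F.obj (ModuleCat.of R R))).symm⟩

end CoextExact

end Groth.Agent.Lib.FinShriekH6
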