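import Mathlib
import Groth.Prelude.Def_DRing4
import Groth.Prelude.Def_DTen5
import Groth.Prelude.Def_DualSh
import Groth.Agent.Lib.FinShriek3_helper6
import Groth.Agent.Lib.DerCompl8_helper2

/-!
# `φ^!` for finite `φ` (helper6), part 4: the Frobenius isomorphism `B ≅ Hom_R(B, R)` for
`B = R[X]/(g)`, `g` monic, and the base case `RHom_{R[X]}(B, K ⊗ R[X])[1] ≅ RHom_R(B, K)`.
-/

set_option autoImplicit false
set_option linter.style.haveILetI false
set_option linter.unusedSectionVars false
set_option linter.unusedVariables false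
universe u
open CategoryTheory CategoryTheory.Limits MonoidalCategory DerivedCategory Polynomial
open scoped TensorProduct
attribute [local instance] HasDerivedCategory.standard

namespace Groth.Agent.Lib.FinShriekH6

open DRing Groth.Agent.Lib.DMod_helper6 Groth.Agent.Lib.TrivBCH6 Groth.Agent.Lib.ShriekTenH6
  Groth.Agent.Lib.ShriekIndH6 Groth.Agent.Lib.FlatBCH6

section Frob

variable {R : Type u} [CommRing R] (g : R[X]) (hg : g.Monic)

/-- coefficient of `X^{d-1}` of the reduced representative -/
noncomputable def tauLin : AdjoinRoot g →ₗ[R] R :=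
  (Polynomial.lcoeff R (g.natDegree - 1)).comp (AdjoinRoot.modByMonicHom hg)

lemma tauLin_root_pow (k : ℕ) (hk : k < g.natDegree) :
    tauLin g hg (AdjoinRoot.root g ^ k) = if k = g.natDegree - 1 then 1 else 0 := by
  nontriviality R
  have h1 : AdjoinRoot.root g ^ k = AdjoinRoot.mk g (X ^ k) := by
    rw [map_pow, AdjoinRoot.mk_X]
  have h2 : (X ^ k : R[X]) %ₘ g = X ^ k := by
    rw [Polynomial.modByMonic_eq_self_iff hg, degree_X_pow,
      Polynomial.degree_eq_natDegree hg.ne_zero]
    exact_mod_cast hk
  show ((AdjoinRoot.modByMonicHom hg) (AdjoinRoot.root g ^ k)).coeff (g.natDegree - 1) = _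
  rw [h1, AdjoinRoot.modByMonicHom_mk, h2, coeff_X_pow]
  by_cases h : k = g.natDegree - 1
  · rw [if_pos h, if_pos h.symm]
  · rw [if_neg h, if_neg (fun h' => h h'.symm)]

/-- the pairing `y ↦ (x ↦ τ(y x))` -/
noncomputable def PhiR : AdjoinRoot g →ₗ[R] Module.Dual R (AdjoinRoot g) :=
  (LinearMap.mul R (AdjoinRoot g)).compr₂ (tauLin g hg)

lemma PhiR_apply (y x : AdjoinRoot g) : PhiR g hg y x = tauLin g hg (y * x) := rfl

theorem PhiR_bijective : Function.Bijective (PhiR g hg) := by
  let pb := AdjoinRoot.powerBasis' hg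
  have hd : pb.dim = g.natDegree := AdjoinRoot.powerBasis'_dim hg
  let v : Module.Basis (Fin pb.dim) R (AdjoinRoot g) := pb.basis
  have hv : ∀ i : Fin pb.dim, v i = AdjoinRoot.root g ^ (i : ℕ) := by
    intro i
    show pb.basis i = _
    rw [PowerBasis.basis_eq_pow]
    rfl
  let N := LinearMap.toMatrix v v.dualBasis (PhiR g hg)
  have hN : ∀ i j : Fin pb.dim,
      N i j = tauLin g hg (AdjoinRoot.root g ^ ((j : ℕ) + (i : ℕ))) := by
    intro i j
    show LinearMap.toMatrix v v.dualBasis (PhiR g hg) i j = _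
    rw [LinearMap.toMatrix_apply, Module.Basis.dualBasis_repr, PhiR_apply, hv, hv, pow_add]
  let N' := N.submatrix id (Fin.revPerm : Equiv.Perm (Fin pb.dim))
  have hdet' : N'.det = 1 := by
    rw [Matrix.det_of_isLowerTriangular]
    · apply Finset.prod_eq_one
      intro i _
      show N i (Fin.rev i) = 1
      rw [hN, tauLin_root_pow]
      · rw [if_pos]
        rw [Fin.val_rev]; omega
      · rw [Fin.val_rev]; omega
    · intro i j hij
      have hij' : i < j := hij
      show N i (Fin.rev j) = 0
      rw [hN, tauLin_root_pow]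
      · rw [if_neg]
        rw [Fin.val_rev]
        have : (i : ℕ) < j := hij'
        omega
      · rw [Fin.val_rev]
        have : (i : ℕ) < j := hij'
        omega
  have hdet : IsUnit N.det := by
    have h := Matrix.det_permute' (Fin.revPerm : Equiv.Perm (Fin pb.dim)) N
    have h2 : N'.det = _ := h
    rw [hdet'] at h2
    exact IsUnit.of_mul_eq_one_right _ h2.symm
  let E := LinearEquiv.ofIsUnitDet hdet
  have hE : (E : AdjoinRoot g → Module.Dual R (AdjoinRoot g)) = PhiR g hg := by
    ext x
    rfl
  rw [← hE]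
  exact E.bijective

/-- the element `τ` of `Hom_R(B, R)` -/
noncomputable def tauCoext :
    (ModuleCat.coextendScalars (algebraMap R (AdjoinRoot g))).obj (ModuleCat.of R R) :=
  (ModuleCat.CoextendScalars.equiv (algebraMap R (AdjoinRoot g)) (ModuleCat.of R R)).symm
    ((tauLin g hg).comp (restrictScalarsSelfEquiv (A := R) (B := AdjoinRoot g)).toLinearMap)

/-- `b ↦ b • τ` -/
noncomputable def PsiB : AdjoinRoot g →ₗ[AdjoinRoot g]
    (ModuleCat.coextendScalars (algebraMap R (AdjoinRoot g))).obj (ModuleCat.of R R) :=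
  LinearMap.toSpanSingleton _ _ (tauCoext g hg)

lemma PsiB_apply (b x : AdjoinRoot g) : (PsiB g hg b) x = tauLin g hg (x * b) := rfl

theorem PsiB_bijective : Function.Bijective (PsiB g hg) := by
  constructor
  · rw [injective_iff_map_eq_zero]
    intro b hb
    apply (PhiR_bijective g hg).1
    rw [map_zero]
    ext x
    rw [PhiR_apply, mul_comm, ← PsiB_apply, hb]
    rfl
  · intro h
    let l : Module.Dual R (AdjoinRoot g) :=
      (ModuleCat.CoextendScalars.equiv (algebraMap R (AdjoinRoot g)) (ModuleCat.of R R) h).comp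
        (restrictScalarsSelfEquiv (A := R) (B := AdjoinRoot g)).symm.toLinearMap
    obtain ⟨b, hb⟩ := (PhiR_bijective g hg).2 l
    refine ⟨b, ?_⟩
    apply ModuleCat.CoextendScalars.ext
    apply LinearMap.ext
    intro (x : AdjoinRoot g)
    have h1 := congrArg (fun f => f x) hb
    have h2 : PhiR g hg b x = l x := h1
    rw [PhiR_apply, mul_comm] at h2
    exact h2

/-- the Frobenius isomorphism `B ≅ Hom_R(B, R)` of `B`-modules, `B = R[X]/(g)`, `g` monic -/
noncomputable def frobIso : ModuleCat.of (AdjoinRoot g) (AdjoinRoot g) ≅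
    (ModuleCat.coextendScalars (algebraMap R (AdjoinRoot g))).obj (ModuleCat.of R R) :=
  (LinearEquiv.ofBijective (PsiB g hg) (PsiB_bijective g hg)).toModuleIso

end Frob

end Groth.Agent.Lib.FinShriekH6
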