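import Mathlib
import Groth.Prelude.Def_DRing4
import Groth.Prelude.Def_DTen5
import Groth.Prelude.Def_DualSh
import Groth.Agent.Lib.FinShriek4_helper6

/-!
# `φ^!` for finite `φ` (helper6), part 5: the base case
`RHom_{R[X]}(B, K ⊗ R[X])[1] ≅ RHom_R(B, K)`, `B = R[X]/(g)`, `g` monic.
-/

set_option autoImplicit false
set_option linter.style.haveILetI false
set_option linter.unusedSectionVars false
set_option linter.unusedVariables false
universe u
open CategoryTheory CategoryTheory.Limits MonoidalCategory DerivedCategory Polynomial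
open scoped TensorProduct
attribute [local instance] HasDerivedCategory.standard

namespace Groth.Agent.Lib.FinShriekH6

open DRing Groth.Agent.Lib.DMod_helper6 Groth.Agent.Lib.TrivBCH6 Groth.Agent.Lib.ShriekTenH6
  Groth.Agent.Lib.ShriekIndH6 Groth.Agent.Lib.FlatBCH6

section Base

variable {R : Type u} [CommRing R] (g : R[X]) (hg : g.Monic)

/-- the kernel of `R[X] → R[X]/(g)` is free of rank one -/
noncomputable def kerEquiv {B : Type u} [CommRing B] [Algebra R[X] B]
    (hker : ∀ p : R[X], algebraMap R[X] B p = 0 ↔ g ∣ p) :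
    R[X] ≃ₗ[R[X]] RingHom.ker (algebraMap R[X] B) :=
  LinearEquiv.ofBijective
    { toFun := fun t => ⟨t * g, (RingHom.mem_ker).2 ((hker _).2 (Dvd.intro_left t rfl))⟩
      map_add' := fun s t => Subtype.ext (add_mul s t g)
      map_smul' := fun s t => Subtype.ext (by
        show s • t * g = s • (t * g)
        rw [smul_eq_mul, smul_eq_mul, mul_assoc]) }
    ⟨fun s t hst => by
      have h : s * g = t * g := congrArg Subtype.val hst
      exact hg.isRegular.right h,
    fun ⟨p, hp⟩ => by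
      obtain ⟨t, ht⟩ := (hker p).1 ((RingHom.mem_ker).1 hp)
      exact ⟨t, Subtype.ext (by show t * g = p; rw [ht, mul_comm])⟩⟩

include hg in
/-- **base case**: `RHom_{R[X]}(B, K ⊗_R R[X])[1] ≅ RHom_R(B, K)` for `B = R[X]/(g)`, `g` monic. -/
theorem shriek_adjoinRoot
    (Lφ : Dual.D R ⥤ Dual.D R[X]) (adjL : Lφ ⊣ restrictD (algebraMap R R[X]))
    (Rψ : Dual.D R[X] ⥤ Dual.D (AdjoinRoot g)) (adj : restrictD (AdjoinRoot.mk g) ⊣ Rψ)
    (R' : Dual.D R ⥤ Dual.D (AdjoinRoot g))
    (adjR : restrictD (algebraMap R (AdjoinRoot g)) ⊣ R') (K : Dual.D R) :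
    Nonempty ((Rψ.obj (Lφ.obj K))⟦(1 : ℤ)⟧ ≅ R'.obj K) := by
  let B := AdjoinRoot g
  letI algTB : Algebra R[X] B := (AdjoinRoot.mk g).toAlgebra
  haveI tw : IsScalarTower R R[X] B := IsScalarTower.of_algebraMap_eq (fun r => rfl)
  have hφ : Function.Surjective (algebraMap R[X] B) := AdjoinRoot.mk_surjective
  have hker : ∀ p : R[X], algebraMap R[X] B p = 0 ↔ g ∣ p := fun p => AdjoinRoot.mk_eq_zero
  let eK := kerEquiv g hg hker
  haveI : Module.Invertible R[X] (RingHom.ker (algebraMap R[X] B)) := Module.Invertible.congr eK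
  -- the inverse of `B ⊗ I` is `B`
  let e : (B ⊗[R[X]] (RingHom.ker (algebraMap R[X] B))) ⊗[B] B ≃ₗ[B] B :=
    TensorProduct.rid B _ ≪≫ₗ
      TensorProduct.AlgebraTensorModule.congr (LinearEquiv.refl B B) eK.symm ≪≫ₗ
      TensorProduct.AlgebraTensorModule.rid R[X] B B
  obtain ⟨i1⟩ := nonempty_rightAdj_self_iso R[X] B hφ B e Rψ adj
  -- `B` is finite free over `R`
  haveI : Module.Finite R B := hg.finite_adjoinRoot
  haveI : Module.Free R B := hg.free_adjoinRoot
  obtain ⟨i2⟩ := nonempty_rightAdj_self_iso_of_projective R B R' adjR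
  let W : DRing.Cx B := Sx B 0
  let eW : DRing.toD W ≅ Dual.inD B B :=
    ((DerivedCategory.singleFunctorIsoCompQ (ModuleCat.{u} B) 0).app (ModuleCat.of B B)).symm
  haveI : DRing.HasLTensorCx B W :=
    Groth.Agent.Lib.DerCompl.hasLTensorCx_of_kf W (kf_Sx 0)
  have hW1 : Nonempty (DRing.toD W ≅ (Rψ.obj (Dual.inD R[X] R[X]))⟦(1 : ℤ)⟧) :=
    ⟨eW ≪≫ ((shiftEquiv (Dual.D B) (1 : ℤ)).counitIso.app (Dual.inD B B)).symm ≪≫
      (shiftFunctor (Dual.D B) (1 : ℤ)).mapIso i1.symm⟩
  have hW2 : Nonempty (DRing.toD W ≅ (R'.obj (Dual.inD R R))⟦(0 : ℤ)⟧) :=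
    ⟨eW ≪≫ (DerivedCategory.singleFunctor (ModuleCat.{u} B) 0).mapIso (frobIso g hg) ≪≫
      i2.symm ≪≫ ((shiftFunctorZero (Dual.D B) ℤ).app _).symm⟩
  -- perfectness
  have hperf1 : resPerf (algebraMap R[X] B) (Dual.inD B B) := by
    have h := isPerfect_restrict_unit R[X] B hφ
    exact (perfProp R[X]).prop_of_iso ((restrictD (algebraMap R[X] B)).mapIso (unitIsoInD B)) h
  have hperf2 : resPerf (algebraMap R B) (Dual.inD B B) := by
    haveI : Projective (ModuleCat.of R B) := (IsProjective.iff_projective _).1 inferInstance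
    have h := isPerfect_inD_of_finite_projective R (ModuleCat.of R B)
    exact (perfProp R).prop_of_iso (restrictDInDSelfIso (A := R) (B := B)).symm h
  haveI : DRing.HasLBaseChange (algebraMap R B) := Groth.Agent.Lib.TrivBCH6.hasLBaseChange_general _
  obtain ⟨adjLA⟩ := Groth.Agent.Lib.DerivedAdj.nonempty_adj (algebraMap R B)
  obtain ⟨a1⟩ := shriek_iso_tensor_general R R[X] B hperf1 Lφ adjL
    (DRing.LBaseChange (algebraMap R B)) adjLA Rψ adj W 1 hW1 K
  let adjId : 𝟭 (Dual.D R) ⊣ restrictD (algebraMap R R) :=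
    (Adjunction.id).ofNatIsoRight (restrictDId R).symm
  obtain ⟨a2⟩ := shriek_iso_tensor_general R R B hperf2 (𝟭 (Dual.D R)) adjId
    (DRing.LBaseChange (algebraMap R B)) adjLA R' adjR W 0 hW2 K
  exact ⟨a1 ≪≫ a2.symm ≪≫ (shiftFunctorZero (Dual.D B) ℤ).app _⟩

end Base

end Groth.Agent.Lib.FinShriekH6
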