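import Mathlib
import Groth.Prelude.Def_DRing4
import Groth.Prelude.Def_DTen5
import Groth.Prelude.Def_DualSh
import Groth.Agent.Lib.FinShriek5_helper6

/-!
# `φ^!` for finite `φ` (helper6), part 6: zero variables, one variable, and the induction (S1784).
-/

set_option autoImplicit false
set_option linter.style.haveILetI false
set_option linter.unusedSectionVars false
set_option linter.unusedVariables false
universe u
open CategoryTheory CategoryTheory.Limits MonoidalCategory DerivedCategory Polynomial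
open scoped TensorProduct
attribute [local instance] HasDerivedCategory.standard

namespace Groth.Agent.Lib.FinShriekH6

open DRing Groth.Agent.Lib.DMod_helper6 Groth.Agent.Lib.TrivBCH6 Groth.Agent.Lib.ShriekTenH6
  Groth.Agent.Lib.ShriekIndH6 Groth.Agent.Lib.FlatBCH6

attribute [local instance] MvPolynomial.algebraMvPolynomial

section Zero

/-- zero variables: `φ^! = RHom(A, -)` for `R → A` surjective presented by `R[∅] → A`. -/
theorem shriekVia_zero (R A : Type u) [CommRing R] [CommRing A] [Algebra R A]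
    (ψ : MvPolynomial (Fin 0) R →ₐ[R] A)
    [DRing.HasLBaseChange (algebraMap R (MvPolynomial (Fin 0) R))]
    (Rψ : Dual.D (MvPolynomial (Fin 0) R) ⥤ Dual.D A) (adj : DRing.restrictD ψ.toRingHom ⊣ Rψ)
    (R' : Dual.D R ⥤ Dual.D A) (adjR : DRing.restrictD (algebraMap R A) ⊣ R') (K : Dual.D R) :
    Nonempty (Dual2.shriekVia 0 Rψ K ≅ R'.obj K) := by
  let P0 := MvPolynomial (Fin 0) R
  let ε : P0 ≃ₐ[R] R := MvPolynomial.isEmptyAlgEquiv R (Fin 0)
  obtain ⟨adjL⟩ := Groth.Agent.Lib.DerivedAdj.nonempty_adj (algebraMap R P0)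
  let adjId : 𝟭 (Dual.D R) ⊣ restrictD (algebraMap R R) :=
    (Adjunction.id).ofNatIsoRight (restrictDId R).symm
  have hφ' : algebraMap R P0 = ε.toRingEquiv.symm.toRingHom.comp (algebraMap R R) := by
    refine RingHom.ext (fun a => ?_)
    exact (ε.symm.commutes a).symm
  have hθ : ψ.toRingHom = (algebraMap R A).comp ε.toRingEquiv.toRingHom := by
    refine RingHom.ext (fun p => ?_)
    obtain ⟨r, rfl⟩ := ε.symm.surjective p
    show ψ (ε.symm r) = algebraMap R A (ε (ε.symm r))
    rw [AlgEquiv.apply_symm_apply]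
    have : ε.symm r = algebraMap R P0 r := (ε.symm.commutes r).symm ▸ rfl
    rw [this, ψ.commutes]
  obtain ⟨e⟩ := step (good_ringEquiv ε.toRingEquiv) (φ := algebraMap R R) (ψ := algebraMap R A)
    (φ' := algebraMap R P0) hφ' (θ := ψ.toRingHom) hθ
    (𝟭 (Dual.D R)) adjId (DRing.LBaseChange (algebraMap R P0)) adjL
    R' adjR Rψ adj K (0 : ℤ) (0 : ℤ) (zero_add _).symm
  have e' : Dual2.shriekVia 0 Rψ K ≅ (R'.obj K)⟦(0 : ℤ)⟧ := e
  exact ⟨e' ≪≫ (shiftFunctorZero (Dual.D A) ℤ).app _⟩

end Zero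

section One

variable {R : Type u} [CommRing R] (g : R[X]) (hg : g.Monic)

/-- the presentation `R[x_0] → R[X]/(g)` -/
noncomputable def presOne : MvPolynomial (Fin 1) R →ₐ[R] AdjoinRoot g :=
  (AdjoinRoot.mkₐ g).comp (MvPolynomial.uniqueAlgEquiv R (Fin 1)).toAlgHom

lemma presOne_surjective : Function.Surjective (presOne g) :=
  AdjoinRoot.mk_surjective.comp (MvPolynomial.uniqueAlgEquiv R (Fin 1)).surjective

lemma presOne_X : presOne g (MvPolynomial.X 0) = AdjoinRoot.root g := by
  show AdjoinRoot.mk g (MvPolynomial.uniqueAlgEquiv R (Fin 1) (MvPolynomial.X 0)) = _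
  rw [MvPolynomial.uniqueAlgEquiv_apply, MvPolynomial.eval₂_X]
  rfl

include hg in
/-- one variable: `φ^! = RHom(B, -)` for `B = R[X]/(g)`, `g` monic. -/
theorem shriekVia_one
    [DRing.HasLBaseChange (algebraMap R (MvPolynomial (Fin 1) R))]
    (Rψ : Dual.D (MvPolynomial (Fin 1) R) ⥤ Dual.D (AdjoinRoot g))
    (adj : DRing.restrictD (presOne g).toRingHom ⊣ Rψ)
    (R' : Dual.D R ⥤ Dual.D (AdjoinRoot g))
    (adjR : DRing.restrictD (algebraMap R (AdjoinRoot g)) ⊣ R') (K : Dual.D R) :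
    Nonempty (Dual2.shriekVia 1 Rψ K ≅ R'.obj K) := by
  let P1 := MvPolynomial (Fin 1) R
  let ε : P1 ≃ₐ[R] R[X] := MvPolynomial.uniqueAlgEquiv R (Fin 1)
  obtain ⟨adjL⟩ := Groth.Agent.Lib.DerivedAdj.nonempty_adj (algebraMap R P1)
  haveI : DRing.HasLBaseChange (algebraMap R R[X]) := hasLBaseChange_general _
  obtain ⟨adjL0⟩ := Groth.Agent.Lib.DerivedAdj.nonempty_adj (algebraMap R R[X])
  obtain ⟨Rψ0, ⟨adj0⟩⟩ :=
    Groth.Agent.Lib.RestrictRightAdj.exists_rightAdjoint_restrictD (AdjoinRoot.mk g)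
  have hφ' : algebraMap R P1 = ε.toRingEquiv.symm.toRingHom.comp (algebraMap R R[X]) := by
    refine RingHom.ext (fun a => ?_)
    exact (ε.symm.commutes a).symm
  have hθ : (presOne g).toRingHom = (AdjoinRoot.mk g).comp ε.toRingEquiv.toRingHom := rfl
  obtain ⟨e⟩ := step (good_ringEquiv ε.toRingEquiv) (φ := algebraMap R R[X])
    (ψ := AdjoinRoot.mk g) (φ' := algebraMap R P1) hφ' (θ := (presOne g).toRingHom) hθ
    (DRing.LBaseChange (algebraMap R R[X])) adjL0 (DRing.LBaseChange (algebraMap R P1)) adjL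
    Rψ0 adj0 Rψ adj K (1 : ℤ) (1 : ℤ) (zero_add _).symm
  obtain ⟨b⟩ := shriek_adjoinRoot g hg (DRing.LBaseChange (algebraMap R R[X])) adjL0 Rψ0 adj0
    R' adjR K
  have e' : Dual2.shriekVia 1 Rψ K ≅
      (Rψ0.obj ((DRing.LBaseChange (algebraMap R R[X])).obj K))⟦(1 : ℤ)⟧ := e
  exact ⟨e' ≪≫ b⟩

/-- the kernel of `T → B` is free of rank one when generated by a regular element -/
noncomputable def kerEquiv' {T B : Type u} [CommRing T] [CommRing B] [Algebra T B] (t : T)
    (ht : IsRightRegular t) (hker : ∀ p : T, algebraMap T B p = 0 ↔ t ∣ p) :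
    T ≃ₗ[T] RingHom.ker (algebraMap T B) :=
  LinearEquiv.ofBijective
    { toFun := fun s => ⟨s * t, (RingHom.mem_ker).2 ((hker _).2 (Dvd.intro_left s rfl))⟩
      map_add' := fun s s' => Subtype.ext (add_mul s s' t)
      map_smul' := fun s s' => Subtype.ext (by
        show s • s' * t = s • (s' * t)
        rw [smul_eq_mul, smul_eq_mul, mul_assoc]) }
    ⟨fun s s' hst => by
      have h : s * t = s' * t := congrArg Subtype.val hst
      exact ht h,
    fun ⟨p, hp⟩ => by
      obtain ⟨s, hs⟩ := (hker p).1 ((RingHom.mem_ker).1 hp)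
      exact ⟨s, Subtype.ext (by show s * t = p; rw [hs, mul_comm])⟩⟩

include hg in
/-- `R[X]/(g)` is perfect over `R[x_0]` -/
theorem resPerf_presOne :
    resPerf (presOne g).toRingHom (Dual.inD (AdjoinRoot g) (AdjoinRoot g)) := by
  let P1 := MvPolynomial (Fin 1) R
  let B := AdjoinRoot g
  let ε : P1 ≃ₐ[R] R[X] := MvPolynomial.uniqueAlgEquiv R (Fin 1)
  letI algPB : Algebra P1 B := (presOne g).toRingHom.toAlgebra
  have hφ : Function.Surjective (algebraMap P1 B) := presOne_surjective g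
  have hmap : ∀ p : P1, algebraMap P1 B p = AdjoinRoot.mk g (ε p) := fun p => rfl
  have ht : IsRightRegular (ε.symm g) := by
    intro a b hab
    have h1 : a * ε.symm g = b * ε.symm g := hab
    have h2 := congrArg ε h1
    rw [map_mul, map_mul, AlgEquiv.apply_symm_apply] at h2
    exact ε.injective (hg.isRegular.right h2)
  have hker : ∀ p : P1, algebraMap P1 B p = 0 ↔ ε.symm g ∣ p := by
    intro p
    rw [hmap, AdjoinRoot.mk_eq_zero]
    constructor
    · rintro ⟨c, hc⟩
      refine ⟨ε.symm c, ?_⟩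
      rw [← map_mul, ← hc, AlgEquiv.symm_apply_apply]
    · rintro ⟨c, hc⟩
      refine ⟨ε c, ?_⟩
      rw [hc, map_mul, AlgEquiv.apply_symm_apply]
  haveI : Module.Invertible P1 (RingHom.ker (algebraMap P1 B)) :=
    Module.Invertible.congr (kerEquiv' (ε.symm g) ht hker)
  have h := isPerfect_restrict_unit P1 B hφ
  exact (perfProp P1).prop_of_iso ((restrictD (algebraMap P1 B)).mapIso (unitIsoInD B)) h

end One

end Groth.Agent.Lib.FinShriekH6
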