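import Mathlib
import Groth.Prelude.Def_DRing4
import Groth.Prelude.Def_DTen5
import Groth.Prelude.Def_DualSh
import Groth.Agent.Lib.FinShriek6_helper6

/-!
# `φ^!` for finite `φ` (helper6), part 7: the induction on the number of generators (S1784).
-/

set_option autoImplicit false
set_option linter.style.haveILetI false
set_option linter.unusedSectionVars false
set_option linter.unusedVariables false
universe u
open CategoryTheory CategoryTheory.Limits MonoidalCategory DerivedCategory Polynomial
open scoped TensorProduct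
attribute [local instance] HasDerivedCategory.standard

namespace Groth.Agent.Lib.FinShriekH6

open DRing Groth.Agent.Lib.DMod_helper6 Groth.Agent.Lib.TrivBCH6 Groth.Agent.Lib.ShriekTenH6
  Groth.Agent.Lib.ShriekIndH6 Groth.Agent.Lib.FlatBCH6

attribute [local instance] MvPolynomial.algebraMvPolynomial

/-- **S1784**: for `R → A` finite, `φ^!(K) ≅ RHom_R(A, K)`. -/
theorem shriekVia_finite : ∀ (n : ℕ) (R A : Type u) [CommRing R] [CommRing A] [IsNoetherianRing R]
    [Algebra R A] [Module.Finite R A]
    (ψ : MvPolynomial (Fin n) R →ₐ[R] A) (hψ : Function.Surjective ψ)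
    [DRing.HasLBaseChange (algebraMap R (MvPolynomial (Fin n) R))]
    (Rψ : Dual.D (MvPolynomial (Fin n) R) ⥤ Dual.D A) (adj : DRing.restrictD ψ.toRingHom ⊣ Rψ)
    (R' : Dual.D R ⥤ Dual.D A) (adjR : DRing.restrictD (algebraMap R A) ⊣ R') (K : Dual.D R),
    Nonempty (Dual2.shriekVia n Rψ K ≅ R'.obj K) := by
  intro n
  induction n with
  | zero =>
    intro R A _ _ _ _ _ ψ hψ _ Rψ adj R' adjR K
    exact shriekVia_zero R A ψ Rψ adj R' adjR K
  | succ n ih =>
    intro R A _ _ _ _ _ ψ hψ _ Rψ adj R' adjR K
    let a : A := ψ (MvPolynomial.X (Fin.last n))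
    obtain ⟨g, hg, hga⟩ := Algebra.IsIntegral.isIntegral (R := R) a
    let R1 := AdjoinRoot g
    let ι : R1 →ₐ[R] A := AdjoinRoot.liftAlgHom g (Algebra.ofId R A) a hga
    have hιroot : ι (AdjoinRoot.root g) = a := AdjoinRoot.liftAlgHom_root g (Algebra.ofId R A) a hga
    letI algR1A : Algebra R1 A := ι.toRingHom.toAlgebra
    haveI tw : IsScalarTower R R1 A :=
      IsScalarTower.of_algebraMap_eq (fun r => (ι.commutes r).symm)
    haveI : Module.Finite R1 A := Module.Finite.of_restrictScalars_finite R R1 A
    let χ : MvPolynomial (Fin n) R1 →ₐ[R1] A :=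
      MvPolynomial.aeval (fun i => ψ (MvPolynomial.X i.castSucc))
    have hχ : Function.Surjective χ := by
      have key : ∀ p : MvPolynomial (Fin (n + 1)) R, ψ p ∈ χ.range := by
        intro p
        induction p using MvPolynomial.induction_on with
        | C r =>
          have : ψ (MvPolynomial.C r) = algebraMap R1 A (algebraMap R R1 r) := by
            rw [← IsScalarTower.algebraMap_apply R R1 A]
            exact ψ.commutes r
          rw [this]
          exact χ.range.algebraMap_mem _
        | add p q hp hq =>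
          rw [map_add]
          exact χ.range.add_mem hp hq
        | mul_X p i hp =>
          rw [map_mul]
          refine χ.range.mul_mem hp ?_
          induction i using Fin.lastCases with
          | last =>
            have : ψ (MvPolynomial.X (Fin.last n)) = algebraMap R1 A (AdjoinRoot.root g) :=
              hιroot.symm
            rw [this]
            exact χ.range.algebraMap_mem _
          | cast j =>
            exact ⟨MvPolynomial.X j, MvPolynomial.aeval_X _ j⟩
      intro y
      obtain ⟨p, rfl⟩ := hψ y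
      exact key p
    -- the three presentations and adjoints
    haveI : DRing.HasLBaseChange (algebraMap R (MvPolynomial (Fin 1) R)) :=
      hasLBaseChange_general _
    haveI : DRing.HasLBaseChange (algebraMap R1 (MvPolynomial (Fin n) R1)) :=
      hasLBaseChange_general _
    obtain ⟨Rψ₁, ⟨adjψ₁⟩⟩ :=
      Groth.Agent.Lib.RestrictRightAdj.exists_rightAdjoint_restrictD (presOne g).toRingHom
    obtain ⟨Rχ, ⟨adjχ⟩⟩ :=
      Groth.Agent.Lib.RestrictRightAdj.exists_rightAdjoint_restrictD χ.toRingHom
    obtain ⟨R'₁, ⟨adjR'₁⟩⟩ :=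
      Groth.Agent.Lib.RestrictRightAdj.exists_rightAdjoint_restrictD (algebraMap R R1)
    obtain ⟨R'', ⟨adjR''⟩⟩ :=
      Groth.Agent.Lib.RestrictRightAdj.exists_rightAdjoint_restrictD (algebraMap R1 A)
    -- composition
    obtain ⟨c⟩ := shriekVia_comp_of_perf R R1 A 1 (presOne g) (presOne_surjective g)
      (resPerf_presOne g hg) Rψ₁ adjψ₁ n χ hχ Rχ adjχ (n + 1) ψ hψ Rψ adj K
    -- base case
    obtain ⟨b1⟩ := shriekVia_one g hg Rψ₁ adjψ₁ R'₁ adjR'₁ K
    -- induction hypothesis
    obtain ⟨b2⟩ := ih R1 A χ hχ Rχ adjχ R'' adjR'' (R'₁.obj K)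
    -- composition of right adjoints
    have hcomp : (algebraMap R1 A).comp (algebraMap R R1) = algebraMap R A :=
      (IsScalarTower.algebraMap_eq R R1 A).symm
    let adjC : restrictD (algebraMap R A) ⊣ R'₁ ⋙ R'' :=
      (adjR''.comp adjR'₁).ofNatIsoLeft
        (restrictDComp' (algebraMap R R1) (algebraMap R1 A) (algebraMap R A) hcomp).symm
    let eR : R' ≅ R'₁ ⋙ R'' := adjR.rightAdjointUniq adjC
    let b1' : Dual2.shriekVia n Rχ (Dual2.shriekVia 1 Rψ₁ K) ≅ Dual2.shriekVia n Rχ (R'₁.obj K) :=
      (shiftFunctor (Dual.D A) (n : ℤ)).mapIso (Rχ.mapIso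
        ((DRing.LBaseChange (algebraMap R1 (MvPolynomial (Fin n) R1))).mapIso b1))
    exact ⟨c ≪≫ b1' ≪≫ b2 ≪≫ (eR.app K).symm⟩

end Groth.Agent.Lib.FinShriekH6
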