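import Mathlib
import Groth.Prelude
import Groth.Agent.Lib.SubIdGen2_helper8
import Groth.Agent.Lib.FLF5_helper8
import Groth.Agent.Lib.QCohCrit_helper9
import Groth.Agent.Lib.SubExt_helper9
import Groth.Agent.Lib.FormalFn3_helper2
import Groth.Agent.Lib.VAPnTens1_helper5
import Groth.Agent.Lib.QCohExact_helper9

/-!
# Finite surjective morphisms of integral Noetherian schemes: a generically free direct image (helper8)
APPEND-ONLY once landed.
-/

set_option autoImplicit false

namespace Groth.Agent.Lib.FinSurjH8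

open AlgebraicGeometry CategoryTheory CategoryTheory.Limits TopologicalSpace Opposite
open QcqsLoc QCohExtn SerreCrit FLFH8 SDivGenH8 Groth.Agent.Lib.SubIdGenH8

theorem exists_generic_basis {B A : Type*} [CommRing B] [CommRing A] [IsDomain A] [Algebra B A]
    [Module.Finite B A] (hinj : Function.Injective (algebraMap B A)) :
    ∃ (r : ℕ) (x : Fin r → A), 0 < r ∧ LinearIndependent B x ∧
      ∀ a : A, ∃ b : B, b ≠ 0 ∧ b • a ∈ Submodule.span B (Set.range x) := by
  classical
  haveI : Nontrivial B := ⟨⟨0, 1, fun h => by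
    have := congrArg (algebraMap B A) h
    rw [map_zero, map_one] at this
    exact zero_ne_one this⟩⟩
  let P : ℕ → Prop := fun n => ∃ x : Fin n → A, LinearIndependent B x
  have hbound : ∀ n, P n → n ≤ Module.finrank B A := by
    rintro n ⟨x, hx⟩
    simpa using hx.fintype_card_le_finrank
  have h1 : P 1 := by
    refine ⟨fun _ => 1, ?_⟩
    rw [Fintype.linearIndependent_iff]
    intro g hg i
    rw [Fin.sum_univ_one, Algebra.smul_def, mul_one] at hg
    have : g 0 = 0 := hinj (by rw [hg, map_zero])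
    have hi : i = 0 := Subsingleton.elim _ _
    rw [hi, this]
  let r := Nat.findGreatest P (Module.finrank B A)
  have hr : P r := Nat.findGreatest_spec (hbound 1 h1) h1
  have hr1 : 1 ≤ r := Nat.le_findGreatest (hbound 1 h1) h1
  obtain ⟨x, hx⟩ := hr
  refine ⟨r, x, hr1, hx, fun a => ?_⟩
  by_contra hcon
  push Not at hcon
  have hli : LinearIndependent B (Fin.cons a x : Fin (r + 1) → A) := by
    apply hx.finCons'
    intro c y hy hc
    by_contra hc0
    apply hcon c hc0
    have : c • a = -y := eq_neg_of_add_eq_zero_left hc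
    rw [this]
    exact Submodule.neg_mem _ hy
  have h2 : r + 1 ≤ r := Nat.le_findGreatest (hbound _ ⟨_, hli⟩) ⟨_, hli⟩
  omega


universe u
variable {X : Scheme.{u}} (W : X.Opens)

/-- `j_* O_W` -/
noncomputable def KW : X.Modules := (Scheme.Modules.pushforward W.ι).obj (OO (W : Scheme.{u}))

/-- the open `W ∩ O` written as image-preimage -/
abbrev wo (O : X.Opens) : X.Opens := W.ι ''ᵁ (W.ι ⁻¹ᵁ O)

theorem wo_le (O : X.Opens) : wo W O ≤ O := Set.image_preimage_subset _ _

theorem wo_le_W (O : X.Opens) : wo W O ≤ W := by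
  rintro _ ⟨y, -, rfl⟩
  exact y.2

theorem le_wo {O : X.Opens} (h : O ≤ W) : O ≤ wo W O := by
  intro x hx
  exact ⟨⟨x, h hx⟩, hx, rfl⟩

theorem wo_mono {O' O : X.Opens} (h : O' ≤ O) : wo W O' ≤ wo W O := by
  rintro _ ⟨y, hy, rfl⟩
  exact ⟨y, h hy, rfl⟩

/-- sections of `j_*O_W` as functions -/
def kfn {O : X.Opens} (s : Γ(KW W, O)) : Γ(X, wo W O) := s

/-- functions as sections of `j_*O_W` -/
def kof {O : X.Opens} (a : Γ(X, wo W O)) : Γ(KW W, O) := a

theorem kfn_kof {O : X.Opens} (a : Γ(X, wo W O)) : kfn W (kof W a) = a := rfl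

theorem kfn_smul {O : X.Opens} (c : Γ(X, O)) (s : Γ(KW W, O)) :
    kfn W (c • s) = rX (wo_le W O) c * kfn W s := rfl

theorem kfn_rF {O' O : X.Opens} (h : O' ≤ O) (s : Γ(KW W, O)) :
    kfn W (rF (KW W) h s) = rX (wo_mono W h) (kfn W s) := rfl

theorem kfn_add {O : X.Opens} (s s' : Γ(KW W, O)) : kfn W (s + s') = kfn W s + kfn W s' := rfl

theorem kfn_injective {O : X.Opens} : Function.Injective (kfn W (O := O)) := fun _ _ h => h

/-- evaluation on opens inside `W` -/
noncomputable def kap {O : X.Opens} (h : O ≤ W) (s : Γ(KW W, O)) : Γ(X, O) :=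
  rX (le_wo W h) (kfn W s)

theorem kap_smul {O : X.Opens} (h : O ≤ W) (c : Γ(X, O)) (s : Γ(KW W, O)) :
    kap W h (c • s) = c * kap W h s := by
  unfold kap
  rw [kfn_smul, map_mul, rX_rX, rX_refl']

theorem kap_add {O : X.Opens} (h : O ≤ W) (s s' : Γ(KW W, O)) :
    kap W h (s + s') = kap W h s + kap W h s' := by
  unfold kap
  rw [kfn_add, map_add]

theorem kap_rF {O' O : X.Opens} (h' : O' ≤ O) (h : O ≤ W) (s : Γ(KW W, O)) :
    kap W (h'.trans h) (rF (KW W) h' s) = rX h' (kap W h s) := by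
  unfold kap
  rw [kfn_rF, rX_rX, rX_rX]

theorem kap_injective {O : X.Opens} (h : O ≤ W) : Function.Injective (kap W h) := by
  intro s s' hs
  apply kfn_injective W
  have h1 := congrArg (rX (wo_le W O)) hs
  unfold kap at h1
  rwa [rX_rX, rX_rX, rX_refl', rX_refl'] at h1

/-- the global section of `j_*O_W` attached to a function on `W` -/
noncomputable def tW (x : Γ(X, W)) : Γ(KW W, ⊤) := kof W (rX (wo_le_W W ⊤) x)

theorem kap_tW {O : X.Opens} (h : O ≤ W) (x : Γ(X, W)) :
    kap W h (rF (KW W) le_top (tW W x)) = rX h x := by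
  unfold kap tW
  rw [kfn_rF, kfn_kof, rX_rX, rX_rX]

section Image

variable [IsNoetherian X] {r : ℕ} (x : Fin r → Γ(X, W))

instance isQuasicoherent_KW : (KW W).IsQuasicoherent := by
  haveI : QuasiCompact W.ι := inferInstance
  exact isQuasicoherent_pushforward_qcqs W.ι (OO (W : Scheme.{u}))

/-- the map `O_X^r ⟶ j_*O_W` given by functions on `W` -/
noncomputable def βW : FlatMod.freeMod X r ⟶ KW W := freeHom (KW W) (fun i => tW W (x i))

/-- its image -/
noncomputable def MW : X.Modules := Abelian.image (βW W x)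

noncomputable def ιM : MW W x ⟶ KW W := Abelian.image.ι (βW W x)

noncomputable def πM : FlatMod.freeMod X r ⟶ MW W x := Abelian.factorThruImage (βW W x)

instance : Epi (πM W x) := inferInstanceAs (Epi (Abelian.factorThruImage (βW W x)))

theorem πM_ιM : πM W x ≫ ιM W x = βW W x := Abelian.image.fac _

instance : Mono (ιM W x) := inferInstanceAs (Mono (Abelian.image.ι (βW W x)))

/-- the global sections of `M` attached to the functions `x i` -/
noncomputable def xt (i : Fin r) : Γ(MW W x, ⊤) :=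
  ap (πM W x) ⊤ (stdSec r ⊤ i)

theorem ιM_xt (i : Fin r) : ap (ιM W x) ⊤ (xt W x i) = tW W (x i) := by
  unfold xt
  have h2 : ap (ιM W x) ⊤ (ap (πM W x) ⊤ (stdSec r ⊤ i)) =
      ap (βW W x) ⊤ (stdSec r ⊤ i) := by
    rw [← πM_ιM W x]
    rfl
  rw [h2]
  have h3 := freeHom_app_smul_stdSec (KW W) (fun i => tW W (x i)) ⊤ i (1 : Γ(X, ⊤))
  rw [one_smul, one_smul] at h3
  refine h3.trans ?_
  exact SubExt.rF_self (KW W) _ _

theorem isCoh_MW : Coh.IsCoh (MW W x) := by
  haveI := SDivGenH8.isQuasicoherent_freeMod (Y := X) r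
  haveI h1 : (Abelian.coimage (βW W x)).IsQuasicoherent := SubExt.isQuasicoherent_coimage (βW W x)
  haveI hq : (MW W x).IsQuasicoherent :=
    (SheafOfModules.isQuasicoherent X.ringCatSheaf).prop_of_iso (Abelian.coimageIsoImage (βW W x)) h1
  haveI : SheafOfModules.IsFiniteType (R := X.ringCatSheaf) (FlatMod.freeMod X r) :=
    Groth.Agent.PnVA.isFiniteType_freeMod X r
  exact ⟨hq, Groth.Agent.Lib.FormalFnH2.isFiniteType_of_epi (πM W x)⟩

/-- evaluation of sections of `M` over opens inside `W` -/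
noncomputable def ev {O : X.Opens} (h : O ≤ W) (m : Γ(MW W x, O)) : Γ(X, O) :=
  kap W h (ap (ιM W x) O m)

theorem ev_smul {O : X.Opens} (h : O ≤ W) (c : Γ(X, O)) (m : Γ(MW W x, O)) :
    ev W x h (c • m) = c * ev W x h m := by
  unfold ev
  rw [ap_smul, kap_smul]

theorem ev_add {O : X.Opens} (h : O ≤ W) (m m' : Γ(MW W x, O)) :
    ev W x h (m + m') = ev W x h m + ev W x h m' := by
  unfold ev
  rw [map_add, kap_add]

theorem ev_zero {O : X.Opens} (h : O ≤ W) : ev W x h (0 : Γ(MW W x, O)) = 0 := by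
  have := ev_smul W x h (0 : Γ(X, O)) (0 : Γ(MW W x, O))
  rwa [zero_smul, zero_mul] at this

theorem ev_rF {O' O : X.Opens} (h' : O' ≤ O) (h : O ≤ W) (m : Γ(MW W x, O)) :
    ev W x (h'.trans h) (rF (MW W x) h' m) = rX h' (ev W x h m) := by
  unfold ev
  rw [ap_rF, kap_rF]

theorem ev_injective {O : X.Opens} (h : O ≤ W) : Function.Injective (ev W x h) := by
  intro m m' hm
  exact QCohExact.app_injective_of_mono (ιM W x) O (kap_injective W h hm)

theorem ev_xt {O : X.Opens} (h : O ≤ W) (i : Fin r) :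
    ev W x h (rF (MW W x) le_top (xt W x i)) = rX h (x i) := by
  unfold ev
  rw [ap_rF, ιM_xt, kap_tW]

end Image

end Groth.Agent.Lib.FinSurjH8
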