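import Mathlib
import Groth.Prelude
import Groth.Agent.Lib.FinSurj1_helper8

/-!
# Finite surjective morphisms of integral Noetherian schemes: the generic isomorphism (helper8)
APPEND-ONLY once landed.
-/

set_option autoImplicit false

namespace Groth.Agent.Lib.FinSurjH8

open AlgebraicGeometry CategoryTheory CategoryTheory.Limits TopologicalSpace Opposite
open QcqsLoc QCohExtn SerreCrit FLFH8 SDivGenH8 SDivFreeH8 Groth.Agent.Lib.SubIdGenH8

universe u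

theorem isIso_stalkFunctor_map_of_local {T : TopCat.{u}}
    {P Q : TopCat.Presheaf AddCommGrpCat.{u} T} (ψ : P ⟶ Q) (x : T)
    (hinj : ∀ (V₁ : Opens T) (_ : x ∈ V₁) (y : P.obj (op V₁)), ψ.app (op V₁) y = 0 →
      ∃ (V₃ : Opens T) (h : V₃ ≤ V₁), x ∈ V₃ ∧ P.map (homOfLE h).op y = 0)
    (hsurj : ∀ (V₁ : Opens T) (_ : x ∈ V₁) (m : Q.obj (op V₁)),
      ∃ (V₂ : Opens T) (h : V₂ ≤ V₁), x ∈ V₂ ∧ ∃ y : P.obj (op V₂),
        ψ.app (op V₂) y = Q.map (homOfLE h).op m) :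
    IsIso ((TopCat.Presheaf.stalkFunctor AddCommGrpCat.{u} x).map ψ) := by
  rw [ConcreteCategory.isIso_iff_bijective]
  constructor
  · rw [injective_iff_map_eq_zero]
    intro z hz
    obtain ⟨V₁, hx, y, rfl⟩ := TopCat.Presheaf.exists_germ_eq P (x := x) z
    rw [TopCat.Presheaf.stalkFunctor_map_germ_apply] at hz
    have hz' : Q.germ V₁ x hx (ψ.app (op V₁) y) = Q.germ V₁ x hx 0 :=
      hz.trans (map_zero _).symm
    obtain ⟨V₂, hx₂, i₁, i₂, he⟩ := TopCat.Presheaf.germ_eq Q x hx hx _ _ hz'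
    rw [map_zero] at he
    have hnat : ψ.app (op V₂) (P.map i₁.op y) = Q.map i₁.op (ψ.app (op V₁) y) :=
      ConcreteCategory.congr_hom (ψ.naturality i₁.op) y
    obtain ⟨V₃, h₃, hx₃, hy₃⟩ := hinj V₂ hx₂ (P.map i₁.op y) (hnat.trans he)
    have h1 : P.germ V₁ x hx y = P.germ V₃ x hx₃ (P.map (homOfLE h₃).op (P.map i₁.op y)) := by
      rw [TopCat.Presheaf.germ_res_apply, TopCat.Presheaf.germ_res_apply]
    rw [h1, hy₃]
    exact map_zero _
  · intro z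
    obtain ⟨V₁, hx, m, rfl⟩ := TopCat.Presheaf.exists_germ_eq Q (x := x) z
    obtain ⟨V₂, h₂, hx₂, y, hy⟩ := hsurj V₁ hx m
    refine ⟨P.germ V₂ x hx₂ y, ?_⟩
    rw [TopCat.Presheaf.stalkFunctor_map_germ_apply, hy, TopCat.Presheaf.germ_res_apply]

section Core

variable {X Y : Scheme.{u}} (f : X ⟶ Y)

theorem app_rX {D V : Y.Opens} (hD : D ≤ V) (b : Γ(Y, V)) :
    (f.app D).hom (rX hD b) = rX (f.preimage_mono hD) ((f.app V).hom b) := by
  have h := ConcreteCategory.congr_hom (f.naturality (homOfLE hD).op) b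
  exact h

variable [IsNoetherian X] (V : Y.Opens) {r : ℕ} (x : Fin r → Γ(X, f ⁻¹ᵁ V))

/-- `ev` bundled as an additive map -/
noncomputable def evH {O : X.Opens} (h : O ≤ f ⁻¹ᵁ V) :
    Γ(MW (f ⁻¹ᵁ V) x, O) →+ Γ(X, O) :=
  AddMonoidHom.mk' (ev (f ⁻¹ᵁ V) x h) (ev_add (f ⁻¹ᵁ V) x h)

/-- the direct image `f_* M` -/
noncomputable abbrev NV : Y.Modules := (Scheme.Modules.pushforward f).obj (MW (f ⁻¹ᵁ V) x)

/-- the global sections of `f_* M` -/
noncomputable def xN (i : Fin r) : Γ(NV f V x, ⊤) :=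
  rF (MW (f ⁻¹ᵁ V) x) (le_top : f ⁻¹ᵁ ⊤ ≤ ⊤) (xt (f ⁻¹ᵁ V) x i)

/-- the comparison map `O_Y^r ⟶ f_* M` -/
noncomputable def αN : FlatMod.freeMod Y r ⟶ NV f V x := freeHom (NV f V x) (xN f V x)

theorem evH_smul_xN {D : Y.Opens} (hD : D ≤ V) (c : Γ(Y, D)) (i : Fin r) :
    evH f V x (f.preimage_mono hD) (c • rF (NV f V x) (le_top : D ≤ ⊤) (xN f V x i)) =
      (f.app D).hom c * rX (f.preimage_mono hD) (x i) := by
  have h1 : (c • rF (NV f V x) (le_top : D ≤ ⊤) (xN f V x i) : Γ(NV f V x, D)) =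
      ((f.app D).hom c • rF (MW (f ⁻¹ᵁ V) x) (le_top : f ⁻¹ᵁ D ≤ ⊤) (xt (f ⁻¹ᵁ V) x i) :
        Γ(MW (f ⁻¹ᵁ V) x, f ⁻¹ᵁ D)) := by
    have h2 : rF (NV f V x) (le_top : D ≤ ⊤) (xN f V x i) =
        rF (MW (f ⁻¹ᵁ V) x) (le_top : f ⁻¹ᵁ D ≤ ⊤) (xt (f ⁻¹ᵁ V) x i) := by
      unfold xN
      exact rF_rF (MW (f ⁻¹ᵁ V) x) (f.preimage_mono (le_top : D ≤ ⊤)) le_top _
    rw [h2]
    rfl
  show ev (f ⁻¹ᵁ V) x (f.preimage_mono hD) _ = _
  rw [h1, ev_smul, ev_xt]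

theorem evH_αN {D : Y.Opens} (hD : D ≤ V) (c : Fin r → Γ(Y, D)) :
    evH f V x (f.preimage_mono hD) (ap (αN f V x) D (∑ i, c i • stdSec r D i)) =
      ∑ i, (f.app D).hom (c i) * rX (f.preimage_mono hD) (x i) := by
  have h1 : ap (αN f V x) D (∑ i, c i • stdSec r D i) =
      ∑ i, c i • rF (NV f V x) (le_top : D ≤ ⊤) (xN f V x i) := by
    rw [map_sum]
    apply Finset.sum_congr rfl
    intro i _
    unfold αN
    rw [freeHom_app_smul_stdSec]
  rw [h1]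
  have h2 := map_sum (evH f V x (f.preimage_mono hD))
    (fun i => (c i • rF (NV f V x) (le_top : D ≤ ⊤) (xN f V x i) : Γ(NV f V x, D))) Finset.univ
  exact h2.trans (Finset.sum_congr rfl (fun i _ => evH_smul_xN f V x hD (c i) i))

end Core

section Generic

variable {X Y : Scheme.{u}} (f : X ⟶ Y) [IsNoetherian X] [IsIntegral X] [IsIntegral Y]
  [Surjective f] (V : Y.Opens) {r : ℕ} (x : Fin r → Γ(X, f ⁻¹ᵁ V))

include f in
theorem nonempty_preimage {D : Y.Opens} (hη : genericPoint Y ∈ D) : Nonempty ↥(f ⁻¹ᵁ D) := by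
  obtain ⟨p, hp⟩ := f.surjective (genericPoint Y)
  exact ⟨⟨p, by show f.base p ∈ D; rw [hp]; exact hη⟩⟩

theorem inj_core (hV : IsAffineOpen V) (hηV : genericPoint Y ∈ V)
    (hli : ∀ c : Fin r → Γ(Y, V), ∑ i, (f.app V).hom (c i) * x i = 0 → ∀ i, c i = 0)
    (V₁ : Y.Opens) (hη : genericPoint Y ∈ V₁) (y : Γ(FlatMod.freeMod Y r, V₁))
    (hy : ap (αN f V x) V₁ y = 0) :
    ∃ (V₃ : Y.Opens) (h : V₃ ≤ V₁), genericPoint Y ∈ V₃ ∧
      rF (FlatMod.freeMod Y r) h y = 0 := by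
  classical
  obtain ⟨b, hbD, hηb⟩ := hV.exists_basicOpen_le (V := V₁ ⊓ V) ⟨genericPoint Y, ⟨hη, hηV⟩⟩ hηV
  have hD1 : Y.basicOpen b ≤ V₁ := hbD.trans inf_le_left
  have hDV : Y.basicOpen b ≤ V := Y.basicOpen_le b
  refine ⟨Y.basicOpen b, hD1, hηb, ?_⟩
  set y' := rF (FlatMod.freeMod Y r) hD1 y with hy'
  set c : Fin r → Γ(Y, Y.basicOpen b) := fun i => ofM ((projM i).app (Y.basicOpen b) y') with hc
  have hsum : y' = ∑ i, c i • stdSec r (Y.basicOpen b) i := section_eq_sum_stdSec r _ y'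
  have h0 : ap (αN f V x) (Y.basicOpen b) y' = 0 := by
    rw [hy', ap_rF, hy, map_zero]
  have h1 : ∑ i, (f.app (Y.basicOpen b)).hom (c i) * rX (f.preimage_mono hDV) (x i) = 0 := by
    rw [← evH_αN f V x hDV c, ← hsum, h0]
    exact map_zero (evH f V x (f.preimage_mono hDV))
  haveI := hV.isLocalization_basicOpen b
  obtain ⟨⟨s, ⟨n, hn⟩⟩, hs⟩ := IsLocalization.exist_integer_multiples (Submonoid.powers b)
    Finset.univ c
  have hs' : ∀ i, ∃ c' : Γ(Y, V), rX hDV c' = rX hDV (b ^ n) * c i := by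
    intro i
    obtain ⟨c', hc'⟩ := hs i (Finset.mem_univ i)
    refine ⟨c', ?_⟩
    rw [Algebra.smul_def] at hc'
    have e : s = b ^ n := hn.symm
    subst e
    exact hc'
  choose c' hc' using hs'
  have h2 : rX (f.preimage_mono hDV) (∑ i, (f.app V).hom (c' i) * x i) = 0 := by
    rw [map_sum]
    have h3 : ∀ i, rX (f.preimage_mono hDV) ((f.app V).hom (c' i) * x i) =
        (f.app (Y.basicOpen b)).hom (rX hDV (b ^ n)) *
          ((f.app (Y.basicOpen b)).hom (c i) * rX (f.preimage_mono hDV) (x i)) := by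
      intro i
      rw [map_mul, ← app_rX f hDV (c' i), hc' i, map_mul, mul_assoc]
    rw [Finset.sum_congr rfl (fun i _ => h3 i), ← Finset.mul_sum, h1, mul_zero]
  have h4 : ∑ i, (f.app V).hom (c' i) * x i = 0 := by
    apply map_injective_of_isIntegral X (homOfLE (f.preimage_mono hDV))
      (H := nonempty_preimage f hηb)
    exact h2.trans (map_zero _).symm
  have h5 := hli c' h4
  have hu : IsUnit (rX hDV (b ^ n)) := by
    rw [map_pow]
    exact (Y.toRingedSpace.isUnit_res_basicOpen b).pow n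
  have h6 : ∀ i, c i = 0 := by
    intro i
    have := hc' i
    rw [h5 i, map_zero] at this
    exact (hu.mul_right_eq_zero).mp this.symm
  rw [hsum]
  apply Finset.sum_eq_zero
  intro i _
  rw [h6 i, zero_smul]

end Generic

theorem exists_pow_mul_eq_res {Z : Scheme.{u}} {W : Z.Opens} (hW : IsAffineOpen W) (g : Γ(Z, W))
    (O : Z.Opens) (hO : O = Z.basicOpen g) (hOW : O ≤ W) (a₀ : Γ(Z, O)) :
    ∃ (n : ℕ) (a : Γ(Z, W)), a₀ * rX hOW g ^ n = rX hOW a := by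
  subst hO
  haveI := hW.isLocalization_basicOpen g
  obtain ⟨⟨a, ⟨s, ⟨n, hn⟩⟩⟩, h⟩ := IsLocalization.surj (Submonoid.powers g) a₀
  refine ⟨n, a, ?_⟩
  have e : s = g ^ n := hn.symm
  subst e
  rw [← map_pow]
  exact h

section Generic2

variable {X Y : Scheme.{u}} (f : X ⟶ Y) [IsNoetherian X] [IsIntegral X] [IsIntegral Y]
  [Surjective f] [IsAffineHom f] (V : Y.Opens) {r : ℕ} (x : Fin r → Γ(X, f ⁻¹ᵁ V))

theorem surj_core (hV : IsAffineOpen V) (hηV : genericPoint Y ∈ V)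
    (hspan : ∀ a : Γ(X, f ⁻¹ᵁ V), ∃ b : Γ(Y, V), b ≠ 0 ∧ ∃ c : Fin r → Γ(Y, V),
      (f.app V).hom b * a = ∑ i, (f.app V).hom (c i) * x i)
    (V₁ : Y.Opens) (hη : genericPoint Y ∈ V₁) (m : Γ(NV f V x, V₁)) :
    ∃ (V₂ : Y.Opens) (h : V₂ ≤ V₁), genericPoint Y ∈ V₂ ∧
      ∃ y : Γ(FlatMod.freeMod Y r, V₂), ap (αN f V x) V₂ y = rF (NV f V x) h m := by
  classical
  obtain ⟨b₀, hb₀D, hηb₀⟩ :=
    hV.exists_basicOpen_le (V := V₁ ⊓ V) ⟨genericPoint Y, ⟨hη, hηV⟩⟩ hηV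
  have hD01 : Y.basicOpen b₀ ≤ V₁ := hb₀D.trans inf_le_left
  have hD0V : Y.basicOpen b₀ ≤ V := Y.basicOpen_le b₀
  have hW : IsAffineOpen (f ⁻¹ᵁ V) := hV.preimage f
  -- the section over `D₀` and its value
  set m₀ : Γ(NV f V x, Y.basicOpen b₀) := rF (NV f V x) hD01 m with hm₀
  set a₀ : Γ(X, f ⁻¹ᵁ Y.basicOpen b₀) := evH f V x (f.preimage_mono hD0V) m₀ with ha₀
  obtain ⟨n, a, hna⟩ := exists_pow_mul_eq_res hW ((f.app V).hom b₀) (f ⁻¹ᵁ Y.basicOpen b₀)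
    (Scheme.preimage_basicOpen f b₀) (f.preimage_mono hD0V) a₀
  obtain ⟨b, hb, c, hbc⟩ := hspan a
  -- the smaller basic open
  haveI : IsDomain Γ(Y, V) := @IsIntegral.component_integral Y _ V ⟨⟨genericPoint Y, hηV⟩⟩
  have hb₀ : b₀ ≠ 0 := by
    rintro rfl
    rw [Scheme.basicOpen_zero] at hηb₀
    exact hηb₀
  have hg : b₀ * b ≠ 0 := mul_ne_zero hb₀ hb
  have hD2 : Y.basicOpen (b₀ * b) ≤ Y.basicOpen b₀ := by
    rw [Scheme.basicOpen_mul]
    exact inf_le_left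
  have hD2V : Y.basicOpen (b₀ * b) ≤ V := Y.basicOpen_le _
  have hη2 : genericPoint Y ∈ Y.basicOpen (b₀ * b) := by
    have hne : (Y.basicOpen (b₀ * b) : Set Y).Nonempty := by
      rw [Set.nonempty_iff_ne_empty]
      intro he
      apply hg
      rw [← basicOpen_eq_bot_iff]
      exact SetLike.coe_injective he
    exact ((genericPoint_spec Y).mem_open_set_iff (Y.basicOpen (b₀ * b)).isOpen).mpr
      (by simpa using hne)
  refine ⟨Y.basicOpen (b₀ * b), hD2.trans hD01, hη2, ?_⟩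
  -- coefficients
  have hug : IsUnit (rX hD2V (b₀ * b)) := Y.toRingedSpace.isUnit_res_basicOpen (b₀ * b)
  set u := hug.unit with hu
  set d : Fin r → Γ(Y, Y.basicOpen (b₀ * b)) :=
    fun i => ((u⁻¹ ^ (n + 1) : (Γ(Y, Y.basicOpen (b₀ * b)))ˣ) : Γ(Y, Y.basicOpen (b₀ * b))) *
      rX hD2V (c i * b₀ * b ^ n) with hd
  have hdu : ∀ i, rX hD2V (b₀ * b) ^ (n + 1) * d i = rX hD2V (c i * b₀ * b ^ n) := by
    intro i
    have h1 : rX hD2V (b₀ * b) = (u : Γ(Y, Y.basicOpen (b₀ * b))) := hug.unit_spec.symm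
    rw [hd, h1, ← Units.val_pow_eq_pow_val, ← mul_assoc, ← Units.val_mul, ← mul_pow,
      mul_inv_cancel, one_pow, Units.val_one, one_mul]
  refine ⟨∑ i, d i • stdSec r _ i, ?_⟩
  apply ev_injective (f ⁻¹ᵁ V) x (f.preimage_mono hD2V)
  show evH f V x (f.preimage_mono hD2V) _ = evH f V x (f.preimage_mono hD2V) _
  rw [evH_αN f V x hD2V d]
  -- the right hand side
  have hR : evH f V x (f.preimage_mono hD2V) (rF (NV f V x) (hD2.trans hD01) m) =
      rX (f.preimage_mono hD2) a₀ := by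
    have h1 : rF (NV f V x) (hD2.trans hD01) m = rF (NV f V x) hD2 m₀ :=
      (rF_rF (NV f V x) hD2 hD01 m).symm
    rw [h1, ha₀]
    exact ev_rF (f ⁻¹ᵁ V) x (f.preimage_mono hD2) (f.preimage_mono hD0V) m₀
  rw [hR]
  -- cancel the unit
  have hG : IsUnit ((f.app (Y.basicOpen (b₀ * b))).hom (rX hD2V (b₀ * b)) ^ (n + 1)) :=
    (hug.map (f.app (Y.basicOpen (b₀ * b))).hom).pow (n + 1)
  apply hG.mul_left_cancel
  rw [Finset.mul_sum]
  have h3 : ∀ i, (f.app (Y.basicOpen (b₀ * b))).hom (rX hD2V (b₀ * b)) ^ (n + 1) *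
      ((f.app (Y.basicOpen (b₀ * b))).hom (d i) * rX (f.preimage_mono hD2V) (x i)) =
      rX (f.preimage_mono hD2V) ((f.app V).hom (b₀ * b ^ n) * ((f.app V).hom (c i) * x i)) := by
    intro i
    have e1 : (f.app V).hom (c i * b₀ * b ^ n) * x i =
        (f.app V).hom (b₀ * b ^ n) * ((f.app V).hom (c i) * x i) := by
      simp only [map_mul]
      ring
    rw [← mul_assoc, ← map_pow, ← map_mul, hdu i, app_rX f hD2V, ← map_mul, e1]
  rw [Finset.sum_congr rfl (fun i _ => h3 i), ← map_sum, ← Finset.mul_sum, ← hbc]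
  -- now compare
  have h4 : rX (f.preimage_mono hD2) a₀ * rX (f.preimage_mono hD2V) ((f.app V).hom b₀) ^ n =
      rX (f.preimage_mono hD2V) a := by
    have := congrArg (rX (f.preimage_mono hD2)) hna
    rw [map_mul, map_pow, rX_rX, rX_rX] at this
    exact this
  rw [app_rX f hD2V]
  simp only [map_mul, map_pow]
  rw [← h4]
  ring

end Generic2

section Main

variable {X Y : Scheme.{u}} [IsIntegral X] [IsNoetherian X] [IsIntegral Y] [IsNoetherian Y]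
  (f : X ⟶ Y) [IsFinite f] [Surjective f]

/-- the free module of Mathlib on `ULift (Fin r)` versus `O_Y^r` -/
noncomputable def freeIso (r : ℕ) :
    (SheafOfModules.free (ULift.{u} (Fin r)) : Y.Modules) ≅ FlatMod.freeMod Y r :=
  (Sigma.whiskerEquiv (f := fun _ : Fin r => Coh.structureModule Y)
    (g := fun _ : ULift.{u} (Fin r) => SheafOfModules.unit Y.ringCatSheaf)
    (Equiv.ulift.symm) (fun _ => Iso.refl _)).symm

theorem isIso_stalk_αN (V : Y.Opens) (hV : IsAffineOpen V) (hηV : genericPoint Y ∈ V) {r : ℕ}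
    (x : Fin r → Γ(X, f ⁻¹ᵁ V))
    (hli : ∀ c : Fin r → Γ(Y, V), ∑ i, (f.app V).hom (c i) * x i = 0 → ∀ i, c i = 0)
    (hspan : ∀ a : Γ(X, f ⁻¹ᵁ V), ∃ b : Γ(Y, V), b ≠ 0 ∧ ∃ c : Fin r → Γ(Y, V),
      (f.app V).hom b * a = ∑ i, (f.app V).hom (c i) * x i) :
    IsIso ((TopCat.Presheaf.stalkFunctor AddCommGrpCat.{u} (genericPoint ↥Y)).map
      ((SheafOfModules.toSheaf Y.ringCatSheaf).map (αN f V x)).hom) := by
  apply isIso_stalkFunctor_map_of_local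
  · intro V₁ hη y hy
    exact inj_core f V x hV hηV hli V₁ hη y hy
  · intro V₁ hη m
    exact surj_core f V x hV hηV hspan V₁ hη m

theorem main10948 :
    ∃ (r : ℕ) (M : X.Modules) (α : (SheafOfModules.free (ULift.{u} (Fin r)) : Y.Modules) ⟶
        (Scheme.Modules.pushforward f).obj M),
      0 < r ∧ Coh.IsCoh M ∧
      IsIso ((TopCat.Presheaf.stalkFunctor AddCommGrpCat.{u} (genericPoint ↥Y)).map
        ((SheafOfModules.toSheaf Y.ringCatSheaf).map α).hom) := by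
  classical
  obtain ⟨V, hV, hηV, -⟩ :=
    exists_isAffineOpen_mem_and_subset (X := Y) (x := genericPoint Y) (U := ⊤) trivial
  letI : Algebra Γ(Y, V) Γ(X, f ⁻¹ᵁ V) := (f.app V).hom.toAlgebra
  haveI : IsDomain Γ(X, f ⁻¹ᵁ V) :=
    @IsIntegral.component_integral X _ (f ⁻¹ᵁ V) (nonempty_preimage f hηV)
  haveI : Module.Finite Γ(Y, V) Γ(X, f ⁻¹ᵁ V) := IsFinite.finite_app f V hV
  haveI : IsSchemeTheoreticallyDominant f := IsSchemeTheoreticallyDominant.of_isDominant f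
  have hinj : Function.Injective (algebraMap Γ(Y, V) Γ(X, f ⁻¹ᵁ V)) := f.app_injective V
  obtain ⟨r, x, hr, hli, hspan⟩ := exists_generic_basis hinj
  have hli' : ∀ c : Fin r → Γ(Y, V), ∑ i, (f.app V).hom (c i) * x i = 0 → ∀ i, c i = 0 := by
    intro c hc
    exact Fintype.linearIndependent_iff.mp hli c hc
  have hspan' : ∀ a : Γ(X, f ⁻¹ᵁ V), ∃ b : Γ(Y, V), b ≠ 0 ∧ ∃ c : Fin r → Γ(Y, V),
      (f.app V).hom b * a = ∑ i, (f.app V).hom (c i) * x i := by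
    intro a
    obtain ⟨b, hb, hmem⟩ := hspan a
    obtain ⟨c, hc⟩ := (Submodule.mem_span_range_iff_exists_fun _).mp hmem
    exact ⟨b, hb, c, hc.symm⟩
  refine ⟨r, MW (f ⁻¹ᵁ V) x, (freeIso r).hom ≫ αN f V x, hr, isCoh_MW _ x, ?_⟩
  haveI := isIso_stalk_αN f V hV hηV x hli' hspan'
  rw [Functor.map_comp]
  show IsIso ((TopCat.Presheaf.stalkFunctor AddCommGrpCat.{u} (genericPoint ↥Y)).map
    (((SheafOfModules.toSheaf Y.ringCatSheaf).map (freeIso r).hom).hom ≫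
      ((SheafOfModules.toSheaf Y.ringCatSheaf).map (αN f V x)).hom))
  rw [Functor.map_comp]
  haveI : IsIso ((TopCat.Presheaf.stalkFunctor AddCommGrpCat.{u} (genericPoint ↥Y)).map
      ((SheafOfModules.toSheaf Y.ringCatSheaf).map (freeIso r).hom).hom) :=
    inferInstanceAs (IsIso ((SheafOfModules.toSheaf Y.ringCatSheaf ⋙
      sheafToPresheaf _ _ ⋙ TopCat.Presheaf.stalkFunctor AddCommGrpCat.{u}
        (genericPoint ↥Y)).map (freeIso r).hom))
  infer_instance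

end Main

end Groth.Agent.Lib.FinSurjH8
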