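import Mathlib
import Groth.Agent.Lib.Algz3_helper5

set_option autoImplicit false
set_option linter.style.haveILetI false
set_option linter.unusedVariables false
set_option linter.deprecated false
set_option maxHeartbeats 1600000

/-!
# Finite type neighbourhoods forcing agreement modulo a power of the maximal ideal (helper5)
Algebra for Stacks 0CAT: `fintype_approx_alg` (the explicit algebra
`C[t_ij]/(d_i c_i - r_i - ∑_j t_ij φ_j)`), `sub_mem_of_isLocalization`.
-/

universe u

open IsLocalRing

namespace Groth.Agent.Lib.FinTypeApxH5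

open Groth.Agent.Lib.ArtinApxH5 Groth.Agent.Lib.AlgzH5

/-- two ring homs out of a localization which agree modulo an ideal on the base ring agree modulo the
ideal -/
theorem sub_mem_of_isLocalization {B OY L : Type*} [CommRing B] [CommRing OY] [CommRing L]
    [Algebra B OY] (M : Submonoid B) [IsLocalization M OY] (σ σ' : OY →+* L) (J : Ideal L)
    (h : ∀ β : B, σ (algebraMap B OY β) - σ' (algebraMap B OY β) ∈ J) (b : OY) :
    σ b - σ' b ∈ J := by
  obtain ⟨β, s, rfl⟩ := IsLocalization.exists_mk'_eq M b
  have hspec : IsLocalization.mk' OY β s * algebraMap B OY s = algebraMap B OY β :=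
    IsLocalization.mk'_spec OY β s
  have hu : IsUnit (σ (algebraMap B OY (s : B))) := (IsLocalization.map_units OY s).map σ
  have e1 : σ (IsLocalization.mk' OY β s) * σ (algebraMap B OY s) = σ (algebraMap B OY β) := by
    rw [← map_mul, hspec]
  have e2 : σ' (IsLocalization.mk' OY β s) * σ' (algebraMap B OY s) = σ' (algebraMap B OY β) := by
    rw [← map_mul, hspec]
  have e3 : (σ (IsLocalization.mk' OY β s) - σ' (IsLocalization.mk' OY β s)) *
      σ (algebraMap B OY s) = (σ (algebraMap B OY β) - σ' (algebraMap B OY β)) -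
        σ' (IsLocalization.mk' OY β s) * (σ (algebraMap B OY s) - σ' (algebraMap B OY s)) := by
    rw [sub_mul, e1, mul_sub, e2]
    ring
  rw [← Ideal.mul_unit_mem_iff_mem J hu, e3]
  exact J.sub_mem (h β) (J.mul_mem_left _ (h s))

/-- **A finite type algebra forcing agreement modulo a power of the maximal ideal.** -/
theorem fintype_approx_alg {R C O : Type u} [CommRing R] [IsNoetherianRing R] [CommRing C]
    [Algebra R C] [Algebra.FiniteType R C] [CommRing O] [Algebra R O] (𝔭 : Ideal R) [𝔭.IsPrime]
    [IsLocalization.AtPrime O 𝔭] [IsLocalRing O] [IsNoetherianRing O]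
    (σC : C →+* AdicCompletion (maximalIdeal O) O)
    (hσC : ∀ r : R, σC (algebraMap R C r) =
      algebraMap O (AdicCompletion (maximalIdeal O) O) (algebraMap R O r)) (N : ℕ) :
    ∃ (C' : Type u) (_ : CommRing C') (_ : Algebra C C'), Algebra.FiniteType C C' ∧
      ∃ ρ : C' →+* AdicCompletion (maximalIdeal O) O,
        (∀ c : C, ρ (algebraMap C C' c) = σC c) ∧
        ∀ ρ' : C' →+* AdicCompletion (maximalIdeal O) O,
          (∀ r : R, ρ' (algebraMap C C' (algebraMap R C r)) =
            algebraMap O (AdicCompletion (maximalIdeal O) O) (algebraMap R O r)) →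
          ∀ c : C, σC c - ρ' (algebraMap C C' c) ∈ (maximalIdeal O ^ N).map
            (algebraMap O (AdicCompletion (maximalIdeal O) O)) := by
  classical
  obtain ⟨n, f, hf⟩ := Algebra.FiniteType.iff_quotient_mvPolynomial''.mp
    (inferInstance : Algebra.FiniteType R C)
  obtain ⟨k, φ, hφ⟩ := (Submodule.fg_iff_exists_fin_generating_family).mp
    (IsNoetherian.noetherian (𝔭 ^ N))
  let can : R →+* AdicCompletion (maximalIdeal O) O :=
    (algebraMap O (AdicCompletion (maximalIdeal O) O)).comp (algebraMap R O)
  obtain ⟨J, hJ⟩ : ∃ J : Ideal (AdicCompletion (maximalIdeal O) O),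
      J = (maximalIdeal O ^ N).map (algebraMap O (AdicCompletion (maximalIdeal O) O)) := ⟨_, rfl⟩
  have hJspan : J = Ideal.span (Set.range fun j => can (φ j)) := by
    have h1 : maximalIdeal O ^ N = (𝔭 ^ N).map (algebraMap R O) := by
      rw [Ideal.map_pow, IsLocalization.AtPrime.map_eq_maximalIdeal 𝔭 O]
    rw [hJ, h1, Ideal.map_map]
    have : (𝔭 ^ N) = Ideal.span (Set.range φ) := hφ.symm
    rw [this, Ideal.map_span, ← Set.range_comp]
    rfl
  -- approximations of the generators
  have hgen : ∀ i : Fin n, ∃ (d : R) (r : R) (a : Fin k → AdicCompletion (maximalIdeal O) O),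
      d ∉ 𝔭 ∧ can d * σC (f (MvPolynomial.X i)) - can r = ∑ j, a j * can (φ j) := by
    intro i
    obtain ⟨ρi, hρi⟩ := exists_of_sub_mem (maximalIdeal O) (σC (f (MvPolynomial.X i))) N
    obtain ⟨r, d, rfl⟩ := IsLocalization.exists_mk'_eq 𝔭.primeCompl ρi
    have hspec : IsLocalization.mk' O r d * algebraMap R O d = algebraMap R O r :=
      IsLocalization.mk'_spec O r d
    have hmem : can d * σC (f (MvPolynomial.X i)) - can r ∈ J := by
      have e : can d * σC (f (MvPolynomial.X i)) - can r = can d *
          (σC (f (MvPolynomial.X i)) - algebraMap O (AdicCompletion (maximalIdeal O) O)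
            (IsLocalization.mk' O r d)) := by
        have : can r = algebraMap O (AdicCompletion (maximalIdeal O) O)
            (IsLocalization.mk' O r d) * can d := by
          show algebraMap O _ (algebraMap R O r) = _ * algebraMap O _ (algebraMap R O d)
          rw [← map_mul, hspec]
        rw [this]
        ring
      rw [e, hJ]
      exact Ideal.mul_mem_left _ _ hρi
    rw [hJspan, Ideal.mem_span_range_iff_exists_fun] at hmem
    obtain ⟨a, ha⟩ := hmem
    exact ⟨d, r, a, d.2, ha.symm⟩
  choose d r a hd hrel using hgen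
  have hdu : ∀ i, IsUnit (can (d i)) := fun i =>
    (IsLocalization.map_units O (⟨d i, hd i⟩ : 𝔭.primeCompl)).map
      (algebraMap O (AdicCompletion (maximalIdeal O) O))
  -- the algebra
  let rel : Fin n → MvPolynomial (Fin n × Fin k) C := fun i =>
    MvPolynomial.C (algebraMap R C (d i) * f (MvPolynomial.X i) - algebraMap R C (r i)) -
      ∑ j, MvPolynomial.X (i, j) * MvPolynomial.C (algebraMap R C (φ j))
  let I : Ideal (MvPolynomial (Fin n × Fin k) C) := Ideal.span (Set.range rel)
  let ev : MvPolynomial (Fin n × Fin k) C →+* AdicCompletion (maximalIdeal O) O :=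
    MvPolynomial.eval₂Hom σC (fun ij => a ij.1 ij.2)
  have hev : ∀ x ∈ I, ev x = 0 := by
    intro x hx
    have hle : I ≤ RingHom.ker ev := by
      rw [Ideal.span_le]
      rintro _ ⟨i, rfl⟩
      show ev (rel i) = 0
      simp only [rel, ev, map_sub, map_sum, map_mul, MvPolynomial.eval₂Hom_C,
        MvPolynomial.eval₂Hom_X', hσC]
      have := hrel i
      simp only [can, RingHom.comp_apply] at this
      rw [this, sub_self]
    exact hle hx
  refine ⟨MvPolynomial (Fin n × Fin k) C ⧸ I, inferInstance, inferInstance, inferInstance,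
    Ideal.Quotient.lift I ev hev, fun c => ?_, fun ρ' hρ' => ?_⟩
  · show Ideal.Quotient.lift I ev hev (Ideal.Quotient.mk I (MvPolynomial.C c)) = _
    rw [Ideal.Quotient.lift_mk]
    exact MvPolynomial.eval₂Hom_C _ _ c
  · -- agreement on generators
    have halg : ∀ c : C, algebraMap C (MvPolynomial (Fin n × Fin k) C ⧸ I) c =
        Ideal.Quotient.mk I (MvPolynomial.C c) := fun c => rfl
    have hgenJ : ∀ i, σC (f (MvPolynomial.X i)) - ρ' (algebraMap C _ (f (MvPolynomial.X i))) ∈ J := by
      intro i
      have h0 : Ideal.Quotient.mk I (rel i) = 0 :=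
        Ideal.Quotient.eq_zero_iff_mem.mpr (Ideal.subset_span ⟨i, rfl⟩)
      have h1 : ρ' (Ideal.Quotient.mk I (rel i)) = 0 := by rw [h0, map_zero]
      simp only [rel, map_sub, map_sum, map_mul, ← halg, hρ'] at h1
      have h2 : can (d i) * ρ' (algebraMap C _ (f (MvPolynomial.X i))) - can (r i) ∈ J := by
        rw [hJspan, Ideal.mem_span_range_iff_exists_fun]
        refine ⟨fun j => ρ' (Ideal.Quotient.mk I (MvPolynomial.X (i, j))), ?_⟩
        rw [sub_eq_zero] at h1
        exact h1.symm
      have h3 : can (d i) * σC (f (MvPolynomial.X i)) - can (r i) ∈ J := by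
        rw [hJspan, Ideal.mem_span_range_iff_exists_fun]
        exact ⟨a i, (hrel i).symm⟩
      have h4 : can (d i) * (σC (f (MvPolynomial.X i)) -
          ρ' (algebraMap C _ (f (MvPolynomial.X i)))) ∈ J := by
        have : can (d i) * (σC (f (MvPolynomial.X i)) -
            ρ' (algebraMap C _ (f (MvPolynomial.X i)))) =
            (can (d i) * σC (f (MvPolynomial.X i)) - can (r i)) -
              (can (d i) * ρ' (algebraMap C _ (f (MvPolynomial.X i))) - can (r i)) := by ring
        rw [this]
        exact J.sub_mem h3 h2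
      rw [mul_comm] at h4
      exact (Ideal.mul_unit_mem_iff_mem J (hdu i)).mp h4
    have heq : (Ideal.Quotient.mk J).comp (σC.comp f.toRingHom) =
        (Ideal.Quotient.mk J).comp ((ρ'.comp (algebraMap C _)).comp f.toRingHom) := by
      apply MvPolynomial.ringHom_ext
      · intro l
        show Ideal.Quotient.mk J (σC (f (MvPolynomial.C l))) =
          Ideal.Quotient.mk J (ρ' (algebraMap C _ (f (MvPolynomial.C l))))
        have : f (MvPolynomial.C l) = algebraMap R C l := by
          rw [← MvPolynomial.algebraMap_eq, AlgHom.commutes]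
        rw [this, hσC, hρ']
      · intro i
        exact Ideal.Quotient.eq.mpr (hgenJ i)
    intro c
    obtain ⟨P, rfl⟩ := hf c
    rw [← hJ]
    exact Ideal.Quotient.eq.mp (RingHom.congr_fun heq P)

end Groth.Agent.Lib.FinTypeApxH5
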