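import Mathlib
import Groth.Agent.Lib.EtApxSch2_helper5
import Groth.Agent.Lib.FinTypeApx_helper5

set_option autoImplicit false
set_option linter.style.haveILetI false
set_option linter.unusedVariables false
set_option linter.deprecated false
set_option maxHeartbeats 1600000

/-!
# Finite type neighbourhoods forcing agreement modulo a power of the maximal ideal, part 2 (helper5)
`main7201`: the scheme-level statement (Stacks 0CAT).
-/

universe u

open AlgebraicGeometry CategoryTheory Limits IsLocalRing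

namespace Groth.Agent.Lib.FinTypeApxH5

open Groth.Agent.Lib.EtApxSchH5

/-- **A finite type neighbourhood through which a map to the completion factors, forcing agreement
modulo `m^N`** (form of S7201). -/
theorem main7201 {T S : Scheme.{u}} [IsNoetherian T] [IsNoetherian S]
    (h : T ⟶ S) [LocallyOfFiniteType h] [QuasiCompact h] (t : T)
    (σ : ↑(T.presheaf.stalk t) →+* (AdicCompletion (IsLocalRing.maximalIdeal ↑(S.presheaf.stalk (h t))) ↑(S.presheaf.stalk (h t))))
    (hσ : σ.comp (h.stalkMap t).hom = algebraMap ↑(S.presheaf.stalk (h t)) (AdicCompletion (IsLocalRing.maximalIdeal ↑(S.presheaf.stalk (h t))) ↑(S.presheaf.stalk (h t))))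
    (hloc : ∀ a ∈ IsLocalRing.maximalIdeal ↑(T.presheaf.stalk t),
      σ a ∈ (IsLocalRing.maximalIdeal ↑(S.presheaf.stalk (h t))).map (algebraMap ↑(S.presheaf.stalk (h t)) (AdicCompletion (IsLocalRing.maximalIdeal ↑(S.presheaf.stalk (h t))) ↑(S.presheaf.stalk (h t)))))
    (N : ℕ) (hN : 1 ≤ N) :
    ∃ (T' : Scheme.{u}) (g : T' ⟶ T) (t' : T') (hg : g t' = t) (τ : ↑(T'.presheaf.stalk t') →+* (AdicCompletion (IsLocalRing.maximalIdeal ↑(S.presheaf.stalk (h t))) ↑(S.presheaf.stalk (h t)))),
      LocallyOfFiniteType g ∧ QuasiCompact g ∧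
      τ.comp ((g.stalkMap t').hom.comp (T.presheaf.stalkCongr (Inseparable.of_eq hg)).inv.hom) = σ ∧
      ∀ (σ' : ↑(T.presheaf.stalk t) →+* (AdicCompletion (IsLocalRing.maximalIdeal ↑(S.presheaf.stalk (h t))) ↑(S.presheaf.stalk (h t)))),
        σ'.comp (h.stalkMap t).hom = algebraMap ↑(S.presheaf.stalk (h t)) (AdicCompletion (IsLocalRing.maximalIdeal ↑(S.presheaf.stalk (h t))) ↑(S.presheaf.stalk (h t))) →
        (∀ a ∈ IsLocalRing.maximalIdeal ↑(T.presheaf.stalk t),
          σ' a ∈ (IsLocalRing.maximalIdeal ↑(S.presheaf.stalk (h t))).map (algebraMap ↑(S.presheaf.stalk (h t)) (AdicCompletion (IsLocalRing.maximalIdeal ↑(S.presheaf.stalk (h t))) ↑(S.presheaf.stalk (h t)))))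
 →
        (∃ τ' : ↑(T'.presheaf.stalk t') →+* (AdicCompletion (IsLocalRing.maximalIdeal ↑(S.presheaf.stalk (h t))) ↑(S.presheaf.stalk (h t))),
          τ'.comp ((g.stalkMap t').hom.comp (T.presheaf.stalkCongr (Inseparable.of_eq hg)).inv.hom) = σ') →
        ∀ a : ↑(T.presheaf.stalk t), σ a - σ' a ∈ (IsLocalRing.maximalIdeal ↑(S.presheaf.stalk (h t)) ^ N).map (algebraMap ↑(S.presheaf.stalk (h t)) (AdicCompletion (IsLocalRing.maximalIdeal ↑(S.presheaf.stalk (h t))) ↑(S.presheaf.stalk (h t)))) := by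
  classical
  -- affine opens
  obtain ⟨W, hW, hsW, -⟩ := exists_isAffineOpen_mem_and_subset (x := h t) (U := ⊤) trivial
  have htW : t ∈ h ⁻¹ᵁ W := hsW
  obtain ⟨V, hV, htV, hVW⟩ := exists_isAffineOpen_mem_and_subset htW
  -- rings
  letI algRC : Algebra Γ(S, W) Γ(T, V) := (h.appLE W V hVW).hom.toAlgebra
  haveI : IsNoetherianRing Γ(S, W) := IsLocallyNoetherian.component_noetherian ⟨W, hW⟩
  haveI ftC : Algebra.FiniteType Γ(S, W) Γ(T, V) :=
    LocallyOfFiniteType.finiteType_appLE h hW hV hVW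
  haveI : IsNoetherianRing Γ(T, V) := Algebra.FiniteType.isNoetherianRing Γ(S, W) Γ(T, V)
  -- stalks
  letI algRO : Algebra Γ(S, W) (S.presheaf.stalk (h t)) :=
    TopCat.Presheaf.algebra_section_stalk S.presheaf ⟨h t, hsW⟩
  haveI locO : IsLocalization.AtPrime (S.presheaf.stalk (h t))
      (hW.primeIdealOf ⟨h t, hsW⟩).asIdeal := hW.isLocalization_stalk ⟨h t, hsW⟩
  letI algCT : Algebra Γ(T, V) (T.presheaf.stalk t) :=
    TopCat.Presheaf.algebra_section_stalk T.presheaf ⟨t, htV⟩
  haveI locT : IsLocalization.AtPrime (T.presheaf.stalk t) (hV.primeIdealOf ⟨t, htV⟩).asIdeal :=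
    hV.isLocalization_stalk ⟨t, htV⟩
  have halgRO : ∀ r : Γ(S, W), algebraMap Γ(S, W) (S.presheaf.stalk (h t)) r =
      S.presheaf.germ W (h t) hsW r := fun r => rfl
  have halgCT : ∀ r : Γ(T, V), algebraMap Γ(T, V) (T.presheaf.stalk t) r =
      T.presheaf.germ V t htV r := fun r => rfl
  haveI : IsNoetherianRing (S.presheaf.stalk (h t)) :=
    IsLocalization.isNoetherianRing (hW.primeIdealOf ⟨h t, hsW⟩).asIdeal.primeCompl _ inferInstance
  have hmax : maximalIdeal (AdicCompletion (maximalIdeal (S.presheaf.stalk (h t)))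
      (S.presheaf.stalk (h t))) = (maximalIdeal (S.presheaf.stalk (h t))).map
        (algebraMap (S.presheaf.stalk (h t))
          (AdicCompletion (maximalIdeal (S.presheaf.stalk (h t))) (S.presheaf.stalk (h t)))) :=
    AdicCompletion.maximalIdeal_eq_map
  -- compatibility with the base for any map
  have hbase : ∀ σ' : T.presheaf.stalk t →+* AdicCompletion (maximalIdeal (S.presheaf.stalk (h t)))
      (S.presheaf.stalk (h t)), σ'.comp (h.stalkMap t).hom = algebraMap (S.presheaf.stalk (h t))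
        (AdicCompletion (maximalIdeal (S.presheaf.stalk (h t))) (S.presheaf.stalk (h t))) →
      ∀ r : Γ(S, W), σ' (algebraMap Γ(T, V) (T.presheaf.stalk t) (algebraMap Γ(S, W) Γ(T, V) r)) =
        algebraMap (S.presheaf.stalk (h t))
          (AdicCompletion (maximalIdeal (S.presheaf.stalk (h t))) (S.presheaf.stalk (h t)))
          (algebraMap Γ(S, W) (S.presheaf.stalk (h t)) r) := by
    intro σ' hσ' r
    show σ' (T.presheaf.germ V t htV ((h.appLE W V hVW).hom r)) = _
    rw [germ_appLE]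
    exact RingHom.congr_fun hσ' (S.presheaf.germ W (h t) hsW r)
  let σC : Γ(T, V) →+* AdicCompletion (maximalIdeal (S.presheaf.stalk (h t)))
      (S.presheaf.stalk (h t)) := σ.comp (algebraMap Γ(T, V) (T.presheaf.stalk t))
  obtain ⟨C', iC1, iC2, hft, ρ, hρ, huniv⟩ := fintype_approx_alg
    (hW.primeIdealOf ⟨h t, hsW⟩).asIdeal σC (hbase σ hσ) N
  -- the point
  haveI hp' : ((maximalIdeal (AdicCompletion (maximalIdeal (S.presheaf.stalk (h t)))
      (S.presheaf.stalk (h t)))).comap ρ).IsPrime := Ideal.comap_isPrime _ _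
  let θ : Γ(T, V) ⟶ CommRingCat.of C' := CommRingCat.ofHom (algebraMap Γ(T, V) C')
  let t' : Spec (CommRingCat.of C') := ⟨(maximalIdeal (AdicCompletion
    (maximalIdeal (S.presheaf.stalk (h t))) (S.presheaf.stalk (h t)))).comap ρ, hp'⟩
  have hg : specTo hV θ t' = t := by
    refine specTo_apply_eq hV θ t htV t' ?_
    ext c
    show ρ (algebraMap Γ(T, V) C' c) ∈ maximalIdeal _ ↔ c ∈ (hV.primeIdealOf ⟨t, htV⟩).asIdeal
    rw [hρ, ← IsLocalization.AtPrime.to_map_mem_maximal_iff (T.presheaf.stalk t)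
      (hV.primeIdealOf ⟨t, htV⟩).asIdeal c]
    constructor
    · intro h1
      by_contra h2
      have hu : IsUnit (algebraMap Γ(T, V) (T.presheaf.stalk t) c) := by
        by_contra h'
        exact h2 h'
      exact h1 (hu.map σ)
    · intro h1
      rw [hmax]
      exact hloc _ h1
  -- the local ring of the neighbourhood
  letI algCU : Algebra C' ((Spec (CommRingCat.of C')).presheaf.stalk t') :=
    StructureSheaf.stalkAlgebra (CommRingCat.of C') t'
  haveI locU : IsLocalization.AtPrime ((Spec (CommRingCat.of C')).presheaf.stalk t') t'.asIdeal :=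
    StructureSheaf.IsLocalization.to_stalk (CommRingCat.of C') t'
  have halgCU : ∀ r : C', algebraMap C' ((Spec (CommRingCat.of C')).presheaf.stalk t') r =
      (Spec (CommRingCat.of C')).presheaf.germ ⊤ t' trivial
        ((Scheme.ΓSpecIso (CommRingCat.of C')).inv.hom r) := fun r => rfl
  let ι : T.presheaf.stalk t →+* (Spec (CommRingCat.of C')).presheaf.stalk t' :=
    ((specTo hV θ).stalkMap t').hom.comp (T.presheaf.stalkCongr (Inseparable.of_eq hg)).inv.hom
  have hι : ∀ c : Γ(T, V), ι (algebraMap Γ(T, V) (T.presheaf.stalk t) c) =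
      algebraMap C' ((Spec (CommRingCat.of C')).presheaf.stalk t') (algebraMap Γ(T, V) C' c) := by
    intro c
    rw [halgCU, halgCT]
    show ((specTo hV θ).stalkMap t').hom
      ((T.presheaf.stalkCongr (Inseparable.of_eq hg)).inv.hom (T.presheaf.germ V t htV c)) = _
    have h1 : (T.presheaf.stalkCongr (Inseparable.of_eq hg)).inv.hom
        (T.presheaf.germ V t htV c) =
        T.presheaf.germ V (specTo hV θ t') (specTo_mem hV θ t') c :=
      TopCat.Presheaf.germ_stalkSpecializes_apply T.presheaf htV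
        (Inseparable.of_eq hg).le c
    rw [h1, specTo_stalkMap_germ]
    rfl
  have hunit : ∀ s : t'.asIdeal.primeCompl, IsUnit (ρ s) := by
    intro s
    by_contra h'
    exact s.2 h'
  let τ : (Spec (CommRingCat.of C')).presheaf.stalk t' →+* AdicCompletion
      (maximalIdeal (S.presheaf.stalk (h t))) (S.presheaf.stalk (h t)) :=
    IsLocalization.lift (M := t'.asIdeal.primeCompl) hunit
  have hτ : ∀ r : C', τ (algebraMap C' _ r) = ρ r := fun r => IsLocalization.lift_eq _ r
  -- finite type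
  haveI : IsNoetherianRing C' := Algebra.FiniteType.isNoetherianRing Γ(T, V) C'
  haveI : LocallyOfFiniteType (Spec.map θ) :=
    HasRingHomProperty.Spec_iff.mpr (RingHom.finiteType_algebraMap.mpr hft)
  have hlft : LocallyOfFiniteType (specTo hV θ) := by
    unfold specTo
    infer_instance
  refine ⟨Spec (CommRingCat.of C'), specTo hV θ, t', hg, τ, hlft, inferInstance, ?_, ?_⟩
  · apply IsLocalization.ringHom_ext (hV.primeIdealOf ⟨t, htV⟩).asIdeal.primeCompl
    refine RingHom.ext fun c => ?_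
    show τ (ι (algebraMap Γ(T, V) (T.presheaf.stalk t) c)) = σ (algebraMap Γ(T, V) _ c)
    rw [hι, hτ, hρ]
    rfl
  · intro σ' hσ' hloc' hτ' a
    obtain ⟨τ', hτ'⟩ := hτ'
    have hτ'' : ∀ b, τ' (ι b) = σ' b := fun b => RingHom.congr_fun hτ' b
    have hkey := huniv (τ'.comp (algebraMap C' _)) (fun r => by
      show τ' (algebraMap C' _ (algebraMap Γ(T, V) C' (algebraMap Γ(S, W) Γ(T, V) r))) = _
      rw [← hι, hτ'']
      exact hbase σ' hσ' r)
    refine sub_mem_of_isLocalization (hV.primeIdealOf ⟨t, htV⟩).asIdeal.primeCompl σ σ' _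
      (fun c => ?_) a
    have := hkey c
    show σ (algebraMap Γ(T, V) _ c) - σ' (algebraMap Γ(T, V) _ c) ∈ _
    rw [← hτ'', hι]
    exact this

end Groth.Agent.Lib.FinTypeApxH5
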