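import Mathlib.AlgebraicGeometry.Morphisms.Finite
import Mathlib.AlgebraicGeometry.ResidueField
import Mathlib.AlgebraicGeometry.Stalk
import Mathlib.RingTheory.Jacobson.Ring
import Mathlib.RingTheory.Algebraic.Integral
import Mathlib.RingTheory.Localization.FractionRing
import Mathlib.RingTheory.IntegralClosure.IsIntegralClosure.Basic

/-!
# Finite type points of schemes (helper6)

* `finiteType_fractionField_of_finiteType_field`: if a field `L` containing the fraction field `K`
  of a domain `D` is a finitely generated `D`-algebra, then `K` is a finitely generated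
  `D`-algebra (`D` is a Goldman domain).
* `finiteType_of_fraction`: ring hom version.
* `locallyOfFiniteType_fromSpecResidueField`: if `Spec L ⟶ U` is locally of finite type (`L` a
  field, `U` affine) with image `u`, then `Spec κ(u) ⟶ U` is locally of finite type.
-/

set_option autoImplicit false
universe u
open CategoryTheory CategoryTheory.Limits AlgebraicGeometry

namespace Groth.Agent.Lib.FinTypePtH6

theorem finiteType_fractionField_of_finiteType_field (D K L : Type u) [CommRing D] [IsDomain D]
    [Field K] [Field L] [Algebra D K] [IsFractionRing D K] [Algebra K L] [Algebra D L]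
    [IsScalarTower D K L] [Algebra.FiniteType D L] : Algebra.FiniteType D K := by
  haveI : Algebra.FiniteType K L := Algebra.FiniteType.of_restrictScalars_finiteType D K L
  haveI : Module.Finite K L := finite_of_finite_type_of_isJacobsonRing K L
  haveI : Algebra.IsAlgebraic K L := Algebra.IsAlgebraic.of_finite K L
  haveI : Algebra.IsAlgebraic D K := IsLocalization.isAlgebraic K (nonZeroDivisors D)
  haveI : Algebra.IsAlgebraic D L := Algebra.IsAlgebraic.trans D K L
  obtain ⟨t, ht⟩ := (inferInstance : Algebra.FiniteType D L).out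
  obtain ⟨y, hy0, hy⟩ := Algebra.IsAlgebraic.exists_integral_multiples D t
  have hyK : algebraMap D K y ≠ 0 := by
    rwa [Ne, map_eq_zero_iff _ (IsFractionRing.injective D K)]
  let D' : Subalgebra D K := Algebra.adjoin D {(algebraMap D K y)⁻¹}
  have hyD' : (algebraMap D K y)⁻¹ ∈ D' := Algebra.subset_adjoin rfl
  have hint : Algebra.IsIntegral D' L := by
    have hle : Algebra.adjoin D (t : Set L) ≤ (integralClosure D' L).restrictScalars D := by
      apply Algebra.adjoin_le
      intro x hx
      show IsIntegral D' x
      have h1 : IsIntegral D' (y • x) := (hy x hx).tower_top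
      have h2 : IsIntegral D' (algebraMap D' L ⟨(algebraMap D K y)⁻¹, hyD'⟩) :=
        isIntegral_algebraMap
      have h3 : algebraMap D' L ⟨(algebraMap D K y)⁻¹, hyD'⟩ * (y • x) = x := by
        rw [Algebra.smul_def, IsScalarTower.algebraMap_apply D K L, ← mul_assoc]
        change algebraMap K L (algebraMap D K y)⁻¹ * algebraMap K L (algebraMap D K y) * x = x
        rw [← map_mul, inv_mul_cancel₀ hyK, map_one, one_mul]
      rw [← h3]
      exact h2.mul h1
    rw [ht] at hle
    exact ⟨fun x => hle Algebra.mem_top⟩
  have hinj : Function.Injective (algebraMap D' L) := by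
    intro a b hab
    apply Subtype.ext
    exact (algebraMap K L).injective hab
  have hfield : IsField D' := isField_of_isIntegral_of_isField hinj (Field.toIsField L)
  have htop : D' = ⊤ := by
    rw [eq_top_iff]
    intro z _
    obtain ⟨a, b, hb, rfl⟩ := IsFractionRing.div_surjective (A := D) z
    have hbK : algebraMap D K b ≠ 0 := by
      rw [Ne, map_eq_zero_iff _ (IsFractionRing.injective D K)]
      exact nonZeroDivisors.ne_zero hb
    have hbD' : algebraMap D K b ∈ D' := D'.algebraMap_mem b
    obtain ⟨c, hc⟩ := hfield.mul_inv_cancel (a := ⟨_, hbD'⟩)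
      (fun h => hbK (congrArg Subtype.val h))
    have hc' : algebraMap D K b * c.val = 1 := congrArg Subtype.val hc
    have hinv : (algebraMap D K b)⁻¹ = c.val := (eq_inv_of_mul_eq_one_right hc').symm
    rw [div_eq_mul_inv, hinv]
    exact D'.mul_mem (D'.algebraMap_mem a) c.2
  exact ⟨⟨{(algebraMap D K y)⁻¹}, by rw [Finset.coe_singleton]; exact htop⟩⟩

theorem finiteType_of_fraction {A K L : Type u} [CommRing A] [Field K] [Field L] (α : A →+* K)
    (β : K →+* L) (hfrac : ∀ y : K, ∃ b s : A, α s ≠ 0 ∧ y * α s = α b)
    (hft : (β.comp α).FiniteType) : α.FiniteType := by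
  let D : Subring K := α.range
  letI : Algebra K L := β.toAlgebra
  haveI : IsFractionRing D K := by
    apply IsFractionRing.of_field
    intro z
    obtain ⟨b, s, hs, h⟩ := hfrac z
    refine ⟨⟨α b, b, rfl⟩, ⟨α s, s, rfl⟩, ?_⟩
    change z = α b / α s
    rw [eq_div_iff hs, h]
  have h1 : (algebraMap D L).FiniteType := by
    apply RingHom.FiniteType.of_comp_finiteType (f := α.rangeRestrict)
    exact hft
  haveI : Algebra.FiniteType D L := RingHom.finiteType_algebraMap.1 h1
  have h2 : Algebra.FiniteType D K := finiteType_fractionField_of_finiteType_field D K L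
  have h3 : (algebraMap D K).FiniteType := RingHom.finiteType_algebraMap.2 h2
  have hα : α = (algebraMap D K).comp α.rangeRestrict := by ext; rfl
  rw [hα]
  exact h3.comp (RingHom.FiniteType.of_surjective _ α.rangeRestrict_surjective)

set_option backward.isDefEq.respectTransparency.types false in
theorem locallyOfFiniteType_fromSpecResidueField {U : Scheme.{u}} [IsAffine U] {L : Type u}
    [Field L] (g : Spec (CommRingCat.of L) ⟶ U) [LocallyOfFiniteType g] :
    LocallyOfFiniteType (U.fromSpecResidueField (g (IsLocalRing.closedPoint L))) := by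
  obtain ⟨u, hu⟩ : ∃ u, u = g (IsLocalRing.closedPoint L) := ⟨_, rfl⟩
  have hU : IsAffineOpen (⊤ : U.Opens) := isAffineOpen_top U
  obtain ⟨φ, hg⟩ : ∃ φ : U.residueField u ⟶ CommRingCat.of L,
      Spec.map φ ≫ U.fromSpecResidueField u = g := by
    subst hu
    exact ⟨_, Scheme.descResidueField_stalkClosedPointTo_fromSpecResidueField L U g⟩
  rw [← hu]
  let ψ : Γ(U, ⊤) ⟶ U.residueField u := U.presheaf.germ ⊤ u trivial ≫ U.residue u
  have hj : U.fromSpecResidueField u = Spec.map ψ ≫ hU.fromSpec := by
    rw [Scheme.fromSpecResidueField, ← hU.fromSpecStalk_eq_fromSpecStalk (x := u) trivial,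
      IsAffineOpen.fromSpecStalk, Spec.map_comp, Category.assoc]
  have h1 : LocallyOfFiniteType (Spec.map (ψ ≫ φ) ≫ hU.fromSpec) := by
    rw [Spec.map_comp, Category.assoc, ← hj, hg]; infer_instance
  have h2 : LocallyOfFiniteType (Spec.map (ψ ≫ φ)) :=
    locallyOfFiniteType_of_comp _ hU.fromSpec
  have h3 : (ψ ≫ φ).hom.FiniteType :=
    (HasRingHomProperty.Spec_iff (P := @LocallyOfFiniteType)).1 h2
  have hfrac : ∀ y : U.residueField u, ∃ b s : Γ(U, ⊤), ψ.hom s ≠ 0 ∧ y * ψ.hom s = ψ.hom b := by
    intro y
    obtain ⟨z, rfl⟩ := U.residue_surjective u y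
    letI := U.presheaf.algebra_section_stalk (U := ⊤) ⟨u, trivial⟩
    haveI := hU.isLocalization_stalk ⟨u, trivial⟩
    obtain ⟨⟨b, s⟩, h⟩ := IsLocalization.surj (hU.primeIdealOf ⟨u, trivial⟩).asIdeal.primeCompl z
    have hunit : IsUnit (algebraMap Γ(U, ⊤) (U.presheaf.stalk u) s) :=
      IsLocalization.map_units _ s
    refine ⟨b, s, ?_, ?_⟩
    · exact ((hunit.map (U.residue u).hom)).ne_zero
    · change (U.residue u).hom z * (U.residue u).hom (algebraMap _ _ (s : Γ(U, ⊤))) =
        (U.residue u).hom (algebraMap _ _ b)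
      rw [← map_mul, h]
  have h4 : ψ.hom.FiniteType := finiteType_of_fraction ψ.hom φ.hom hfrac h3
  rw [hj]
  haveI : LocallyOfFiniteType (Spec.map ψ) :=
    (HasRingHomProperty.Spec_iff (P := @LocallyOfFiniteType)).2 h4
  infer_instance

end Groth.Agent.Lib.FinTypePtH6
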