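import Mathlib
import Groth.Prelude
import Groth.Agent.Lib.GeomLsc_helper4
import Groth.Agent.Lib.DegStrat2_helper4
import Groth.Agent.Lib.FinSplit2_helper4

/-!
# The number of geometric points of the fibres of an étale separated morphism (EGA IV 18.2.8/9)

For `f` étale, separated, of finite type: the number of geometric points of the fibres is lower
semicontinuous; it is locally constant near `y` iff `f` is finite over a neighbourhood of `y`.
-/

set_option autoImplicit false
set_option linter.style.haveILetI false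
set_option linter.unusedVariables false
universe u
open CategoryTheory CategoryTheory.Limits AlgebraicGeometry TopologicalSpace Opposite Topology

namespace Groth.Agent.Lib.GeomCardEtH4

open Groth.Agent.Lib.GeomCountH4 Groth.Agent.Lib.GeomLscH4 Groth.Agent.Lib.GeomFibBCH4 IsLocalRing

/-- A finite étale algebra over a separably closed field has as many primes as its dimension. -/
theorem natCard_primeSpectrum_eq_finrank (K A : Type u) [Field K] [IsSepClosed K] [CommRing A]
    [Algebra K A] [Algebra.Etale K A] :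
    Finite (PrimeSpectrum A) ∧ Nat.card (PrimeSpectrum A) = Module.finrank K A := by
  classical
  obtain ⟨I, hI, Ai, hF, hA, e, hsep⟩ :=
    (Algebra.Etale.iff_exists_algEquiv_prod K A).mp inferInstance
  haveI := hI
  letI := hF
  letI := hA
  haveI := Fintype.ofFinite I
  haveI hfin : ∀ i, Module.Finite K (Ai i) := fun i => (hsep i).1
  haveI hs : ∀ i, Algebra.IsSeparable K (Ai i) := fun i => (hsep i).2
  have hone : ∀ i, Module.finrank K (Ai i) = 1 := by
    intro i
    have hbij : Function.Bijective (Algebra.linearMap K (Ai i)) :=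
      ⟨(algebraMap K (Ai i)).injective, IsSepClosed.algebraMap_surjective K (Ai i)⟩
    exact (LinearEquiv.ofBijective (Algebra.linearMap K (Ai i)) hbij).finrank_eq.symm.trans
      (Module.finrank_self K)
  have h1 : Module.finrank K A = Fintype.card I := by
    rw [e.toLinearEquiv.finrank_eq, Module.finrank_pi_fintype K]
    simp only [hone, Finset.sum_const, Finset.card_univ, smul_eq_mul, mul_one]
  haveI : ∀ i, Unique (PrimeSpectrum (Ai i)) := fun i => inferInstance
  let eq1 : PrimeSpectrum A ≃ PrimeSpectrum (Π i, Ai i) :=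
    (PrimeSpectrum.comapEquiv e.toRingEquiv).toEquiv
  let eq2 : (Σ i, PrimeSpectrum (Ai i)) ≃ PrimeSpectrum (Π i, Ai i) :=
    Equiv.ofBijective _ (PrimeSpectrum.sigmaToPi_bijective Ai)
  let eq3 : (Σ i, PrimeSpectrum (Ai i)) ≃ I :=
    Equiv.sigmaUnique I (fun i => PrimeSpectrum (Ai i))
  let eqv : PrimeSpectrum A ≃ I := eq1.trans (eq2.symm.trans eq3)
  refine ⟨Finite.of_equiv I eqv.symm, ?_⟩
  rw [Nat.card_congr eqv, Nat.card_eq_fintype_card, h1]

/-- A finite étale scheme over a separably closed field has as many points as its rank. -/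
theorem card_eq_finrank_of_finite_etale {G : Scheme.{u}} (Ω : Type u) [Field Ω] [IsSepClosed Ω]
    (π : G ⟶ Spec (CommRingCat.of Ω)) [IsFinite π] [Etale π]
    (pt : ↥(Spec (CommRingCat.of Ω))) :
    ENat.card ↥G = ((π.finrank pt : ℕ) : ℕ∞) := by
  haveI : IsAffine G := isAffine_of_isAffineHom π
  obtain ⟨φ, hφ⟩ : ∃ φ : CommRingCat.of Ω ⟶ Γ(G, ⊤),
      φ = (Scheme.ΓSpecIso (CommRingCat.of Ω)).inv ≫ π.appTop := ⟨_, rfl⟩
  have hπ : π = G.toSpecΓ ≫ Spec.map φ := by
    rw [hφ, Spec.map_comp, ← Scheme.toSpecΓ_naturality_assoc,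
      toSpecΓ_SpecMap_ΓSpecIso_inv, Category.comp_id]
  have hφ2 : Spec.map φ = inv G.toSpecΓ ≫ π := by rw [hπ, IsIso.inv_hom_id_assoc]
  haveI : Etale (Spec.map φ) := by rw [hφ2]; infer_instance
  have hetφ : φ.hom.Etale := (HasRingHomProperty.Spec_iff (P := @Etale)).mp inferInstance
  have hrank := Groth.Agent.Lib.DegStratH4.rank_eq_finrank_of_isFinite Ω π pt φ hφ
  letI := φ.hom.toAlgebra
  haveI : Algebra.Etale Ω (Γ(G, ⊤) : Type u) := hetφ
  obtain ⟨hfin, hcard⟩ := natCard_primeSpectrum_eq_finrank Ω (Γ(G, ⊤) : Type u)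
  haveI := hfin
  have h1 : Module.finrank Ω (Γ(G, ⊤) : Type u) = π.finrank pt :=
    Module.finrank_eq_of_rank_eq hrank
  have h2 : ENat.card ↥G = ENat.card (PrimeSpectrum (Γ(G, ⊤) : Type u)) :=
    ENat.card_congr (Scheme.homeoOfIso G.isoSpec).toEquiv
  rw [h2, ENat.card_eq_coe_natCard, hcard, h1]

theorem card_eq_finrank_of_isPullback {X Y G : Scheme.{u}} (f : X ⟶ Y) [IsFinite f] [Etale f]
    (Ω : Type u) [Field Ω] [IsSepClosed Ω] (a : G ⟶ X) (π : G ⟶ Spec (CommRingCat.of Ω))
    (g : Spec (CommRingCat.of Ω) ⟶ Y) (hpb : IsPullback a π f g)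
    (pt : ↥(Spec (CommRingCat.of Ω))) :
    ENat.card ↥G = ((f.finrank (g pt) : ℕ) : ℕ∞) := by
  haveI : IsFinite π := MorphismProperty.of_isPullback (P := @IsFinite) hpb inferInstance
  haveI : Etale π := MorphismProperty.of_isPullback (P := @Etale) hpb inferInstance
  rw [← Scheme.Hom.finrank_of_isPullback a π f g hpb pt]
  exact card_eq_finrank_of_finite_etale Ω π pt

/-- For a finite étale morphism the number of geometric points of a fibre is the rank. -/
theorem card_geomFiber_eq_finrank {X Y : Scheme.{u}} (f : X ⟶ Y) [IsFinite f] [Etale f] (y : Y) :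
    ENat.card ↥(MoreMor.geomFiber f y) = ((f.finrank y : ℕ) : ℕ∞) := by
  have h := card_eq_finrank_of_isPullback f (SeparableClosure (Y.residueField y)) _ _ _
    (geomFiber_isPullback f y) (closedPoint (SeparableClosure (Y.residueField y)))
  have h3 : (Spec.map (CommRingCat.ofHom (algebraMap (Y.residueField y)
      (SeparableClosure (Y.residueField y)))) ≫ Y.fromSpecResidueField y)
      (closedPoint (SeparableClosure (Y.residueField y))) = y := by
    show (Y.fromSpecResidueField y) ((Spec.map (CommRingCat.ofHom (algebraMap (Y.residueField y)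
      (SeparableClosure (Y.residueField y))))) (closedPoint (SeparableClosure (Y.residueField y))))
      = y
    exact Scheme.fromSpecResidueField_apply y _
  rw [h3] at h
  exact h

theorem card_eq_nGeomConnComp {X Y : Scheme.{u}} (f : X ⟶ Y) [LocallyQuasiFinite f] (y : Y) :
    ENat.card ↥(MoreMor.geomFiber f y) = MoreMor.nGeomConnComp f y := by
  haveI := discreteTopology_geomFiber f y
  unfold MoreMor.nGeomConnComp
  rw [card_connectedComponents_of_discrete]

theorem card_geomFiber_restrict {X Y : Scheme.{u}} (f : X ⟶ Y) [LocallyQuasiFinite f]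
    (U : Y.Opens) (w : ↥(U.toScheme)) :
    ENat.card ↥(MoreMor.geomFiber (f ∣_ U) w) = ENat.card ↥(MoreMor.geomFiber f (U.ι w)) := by
  rw [card_eq_nGeomConnComp (f ∣_ U) w, card_eq_nGeomConnComp f (U.ι w)]
  exact main1335 f (f ∣_ U) (f ⁻¹ᵁ U).ι U.ι (isPullback_morphismRestrict f U).flip w

theorem main5051 {X Y : Scheme.{u}} (f : X ⟶ Y) [Etale f] [IsSeparated f]
    [LocallyOfFiniteType f] [QuasiCompact f] :
    LowerSemicontinuous (fun y : Y => ENat.card ↥(MoreMor.geomFiber f y)) := by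
  haveI : LocallyQuasiFinite f := Groth.Agent.Lib.FinSplit2H4.locallyQuasiFinite_of_etale f
  have heq : (fun y : Y => ENat.card ↥(MoreMor.geomFiber f y)) =
      fun z : Y => MoreMor.nGeomConnComp f z :=
    funext fun y => card_eq_nGeomConnComp f y
  rw [heq]
  exact (main3418 f).1

theorem main5052 {X Y : Scheme.{u}} (f : X ⟶ Y) [Etale f] [IsSeparated f]
    [LocallyOfFiniteType f] [QuasiCompact f] (y : Y) :
    (∃ U : Y.Opens, y ∈ U ∧ ∀ y' : Y, y' ∈ U →
        ENat.card ↥(MoreMor.geomFiber f y') = ENat.card ↥(MoreMor.geomFiber f y)) ↔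
      ∃ U : Y.Opens, y ∈ U ∧ IsFinite (f ∣_ U) := by
  haveI : LocallyQuasiFinite f := Groth.Agent.Lib.FinSplit2H4.locallyQuasiFinite_of_etale f
  constructor
  · rintro ⟨U, hyU, hU⟩
    obtain ⟨W, hyW, hW⟩ := (main3418 f).2 y ⟨(U : Set Y), U.2.mem_nhds hyU, fun z hz =>
      (card_eq_nGeomConnComp f z).symm.trans ((hU z hz).trans (card_eq_nGeomConnComp f y))⟩
    haveI := hW
    exact ⟨W, hyW, IsFinite.of_isProper_of_locallyQuasiFinite (f ∣_ W)⟩
  · rintro ⟨U, hyU, hfin⟩
    haveI := hfin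
    obtain ⟨w0, rfl⟩ : ∃ w0 : ↥(U.toScheme), U.ι w0 = y := by
      have hmem : y ∈ Set.range U.ι := by rw [Scheme.Opens.range_ι]; exact hyU
      exact hmem
    obtain ⟨W, hWo, hw0W, hW⟩ := (IsLocallyConstant.iff_exists_open _).mp
      (Scheme.Hom.isLocallyConstant_finrank (f ∣_ U)) w0
    obtain ⟨W', hW'⟩ : ∃ W' : Y.Opens, (W' : Set Y) = U.ι '' W :=
      ⟨⟨U.ι '' W, U.ι.isOpenEmbedding.isOpenMap W hWo⟩, rfl⟩
    refine ⟨W', ?_, ?_⟩
    · show U.ι w0 ∈ (W' : Set Y)
      rw [hW']
      exact ⟨w0, hw0W, rfl⟩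
    · intro y' hy'
      have hy'' : y' ∈ (W' : Set Y) := hy'
      rw [hW'] at hy''
      obtain ⟨w, hw, rfl⟩ := hy''
      rw [← card_geomFiber_restrict f U w, ← card_geomFiber_restrict f U w0,
        card_geomFiber_eq_finrank (f ∣_ U) w, card_geomFiber_eq_finrank (f ∣_ U) w0, hW w hw]

set_option backward.isDefEq.respectTransparency.types false in
theorem main5053 {X Y : Scheme.{u}} [ConnectedSpace ↥Y] (f : X ⟶ Y)
    [Etale f] [IsSeparated f] [LocallyOfFiniteType f] [QuasiCompact f] :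
    IsFinite f ↔ ∃ n : ℕ∞, ∀ y : Y, ENat.card ↥(MoreMor.geomFiber f y) = n := by
  constructor
  · intro hfin
    haveI := hfin
    obtain ⟨y₀⟩ : Nonempty ↥Y := inferInstance
    refine ⟨((f.finrank y₀ : ℕ) : ℕ∞), fun y => ?_⟩
    rw [card_geomFiber_eq_finrank f y,
      (Scheme.Hom.isLocallyConstant_finrank f).apply_eq_of_preconnectedSpace y y₀]
  · rintro ⟨n, hn⟩
    have h : ∀ y : Y, ∃ U : Y.Opens, y ∈ U ∧ IsFinite (f ∣_ U) := fun y =>
      (main5052 f y).mp ⟨⊤, trivial, fun y' _ => (hn y').trans (hn y).symm⟩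
    choose U hyU hU using h
    exact IsZariskiLocalAtTarget.of_iSup_eq_top (P := @IsFinite) U
      (eq_top_iff.mpr fun y _ => TopologicalSpace.Opens.mem_iSup.mpr ⟨y, hyU y⟩) hU

end Groth.Agent.Lib.GeomCardEtH4
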