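import Mathlib
import Groth.Prelude
import Groth.Agent.Lib.FiniteRegFree_helper3
import Groth.Agent.Lib.GeomCardEt_helper4

/-!
# Fibres of finite unramified maps between regular domains (helper3)
APPEND-ONLY once landed.
-/

set_option autoImplicit false

universe u

open TensorProduct

namespace Groth.Agent.Lib.FinUnramDegH3

/-- Let `A ⊆ B` be a finite, formally unramified extension of domains, `m` a maximal ideal of `A`
with separably closed residue field such that `A_m` is regular and all localizations of `B` are
regular.  Then the number of primes of `B` over `m` is the generic rank of `B` over `A`. -/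
theorem card_fiber_eq_finrank (A B : Type u) [CommRing A] [CommRing B] [IsDomain A] [IsDomain B]
    [Algebra A B] [Module.Finite A B] (hinj : Function.Injective (algebraMap A B))
    [Algebra.FormallyUnramified A B] (m : Ideal A) [hm : m.IsMaximal]
    [IsRegularLocalRing (Localization.AtPrime m)]
    (hB : ∀ (n : Ideal B) [n.IsPrime], IsRegularLocalRing (Localization.AtPrime n))
    [IsSepClosed m.ResidueField] :
    Nat.card (PrimeSpectrum.comap (algebraMap A B) ⁻¹' {(⟨m, hm.isPrime⟩ : PrimeSpectrum A)}) =
      Module.finrank A B := by
  classical
  set M := Algebra.algebraMapSubmonoid B m.primeCompl with hM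
  have hM0 : M ≤ nonZeroDivisors B := by
    rintro _ ⟨a, ha, rfl⟩
    apply mem_nonZeroDivisors_of_ne_zero
    intro h0
    have h1 : a = 0 := hinj (h0.trans (map_zero _).symm)
    exact ha (h1 ▸ m.zero_mem)
  haveI : IsDomain (Localization M) := IsLocalization.isDomain_localization hM0
  have hinj' : Function.Injective (algebraMap (Localization.AtPrime m) (Localization M)) :=
    localizationAlgebra_injective (Localization.AtPrime m) (Localization M) hinj
  have hCM : ∀ (q : Ideal (Localization M)) [q.IsMaximal],
      LocCoh.IsCohenMacaulayLocalRing (Localization.AtPrime q) := by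
    intro q hq
    haveI : q.IsPrime := hq.isPrime
    let e := IsLocalization.localizationLocalizationAtPrimeIsoLocalization M q
    haveI := hB (q.comap (algebraMap B (Localization M)))
    haveI : IsRegularLocalRing (Localization.AtPrime q) :=
      IsRegularLocalRing.of_ringEquiv e.toRingEquiv
    exact Groth.Agent.Lib.FiniteRegFreeH3.isCMLocalRing_of_regular _
  haveI : Module.Flat (Localization.AtPrime m) (Localization M) :=
    Groth.Agent.FiniteCMFlat.flat_of_finite_isCM (Localization.AtPrime m) (Localization M)
      hinj' hCM
  haveI : Module.Free (Localization.AtPrime m) (Localization M) :=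
    Module.free_of_flat_of_isLocalRing
  -- generic rank
  have hloc : IsLocalizedModule m.primeCompl
      (IsScalarTower.toAlgHom A B (Localization M)).toLinearMap :=
    isLocalizedModule_iff_isLocalization.mpr inferInstance
  have bc : IsBaseChange (Localization.AtPrime m)
      (IsScalarTower.toAlgHom A B (Localization M)).toLinearMap :=
    (isLocalizedModule_iff_isBaseChange m.primeCompl (Localization.AtPrime m) _).mp hloc
  haveI : FaithfulSMul A (Localization.AtPrime m) :=
    (faithfulSMul_iff_algebraMap_injective _ _).mpr
      (IsLocalization.injective _ m.primeCompl_le_nonZeroDivisors)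
  have h6 : Module.finrank (Localization.AtPrime m) (Localization M) = Module.finrank A B :=
    bc.finrank_eq
  -- the fibre
  let e1 : m.ResidueField ⊗[Localization.AtPrime m] (Localization M) ≃ₗ[m.ResidueField]
      m.ResidueField ⊗[A] B :=
    (AlgebraTensorModule.congr (LinearEquiv.refl m.ResidueField m.ResidueField) bc.equiv.symm) ≪≫ₗ
      AlgebraTensorModule.cancelBaseChange A (Localization.AtPrime m) m.ResidueField
        m.ResidueField B
  have h7 : Module.finrank m.ResidueField (m.ResidueField ⊗[A] B) = Module.finrank A B := by
    rw [← e1.finrank_eq, Module.finrank_baseChange, h6]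
  haveI : Algebra.FormallyEtale m.ResidueField (m.ResidueField ⊗[A] B) :=
    Algebra.FormallyEtale.of_formallyUnramified_of_field _ _
  haveI : Algebra.FinitePresentation m.ResidueField (m.ResidueField ⊗[A] B) :=
    Algebra.FinitePresentation.of_finiteType.mp inferInstance
  haveI : Algebra.Etale m.ResidueField (m.ResidueField ⊗[A] B) := ⟨inferInstance, inferInstance⟩
  have h9 := (Groth.Agent.Lib.GeomCardEtH4.natCard_primeSpectrum_eq_finrank m.ResidueField
    (m.ResidueField ⊗[A] B)).2
  rw [Nat.card_congr (PrimeSpectrum.preimageEquivFiber A B ⟨m, hm.isPrime⟩)]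
  exact h9.trans h7

end Groth.Agent.Lib.FinUnramDegH3
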