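import Mathlib
import Groth.Prelude
import Groth.Agent.Lib.FinUnramDeg1_helper3
import Groth.Agent.Lib.SchFT_helper8

/-!
# Fibres of finite unramified morphisms of regular varieties (helper3)
APPEND-ONLY once landed.
-/

set_option autoImplicit false

universe u

open CategoryTheory CategoryTheory.Limits AlgebraicGeometry Opposite TopologicalSpace TensorProduct

namespace Groth.Agent.Lib.FinUnramDegH3

theorem primeIdealOf_fromSpec {X : Scheme.{u}} {U : X.Opens} (hU : IsAffineOpen U)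
    (z : Spec Γ(X, U)) (hz : hU.fromSpec z ∈ U) :
    hU.primeIdealOf ⟨hU.fromSpec z, hz⟩ = z := by
  apply hU.fromSpec.isOpenEmbedding.injective
  exact hU.fromSpec_primeIdealOf ⟨_, hz⟩

theorem fromSpec_mem {X : Scheme.{u}} {U : X.Opens} (hU : IsAffineOpen U)
    (z : Spec Γ(X, U)) : hU.fromSpec z ∈ U := by
  have h : hU.fromSpec z ∈ Set.range hU.fromSpec := ⟨z, rfl⟩
  rw [hU.range_fromSpec] at h
  exact h

/-- A maximal ideal of a finitely generated algebra over an algebraically closed field has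
separably closed residue field. -/
theorem isSepClosed_residueField (k A : Type u) [Field k] [IsAlgClosed k] [CommRing A]
    [Algebra k A] [Algebra.FiniteType k A] (m : Ideal A) [hm : m.IsMaximal] :
    IsSepClosed m.ResidueField := by
  letI : Field (A ⧸ m) := Ideal.Quotient.field m
  haveI : Module.Finite k (A ⧸ m) := finite_of_finite_type_of_isJacobsonRing k (A ⧸ m)
  have hbij : Function.Bijective (algebraMap k (A ⧸ m)) :=
    IsAlgClosed.algebraMap_bijective_of_isIntegral
  let φ : k →+* m.ResidueField := (algebraMap A m.ResidueField).comp (algebraMap k A)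
  have hsurj : Function.Surjective φ := by
    intro x
    obtain ⟨a, rfl⟩ := Ideal.algebraMap_residueField_surjective m x
    obtain ⟨c, hc⟩ := hbij.2 (Ideal.Quotient.mk m a)
    refine ⟨c, ?_⟩
    have h1 : algebraMap k A c - a ∈ m := by
      rw [← Ideal.Quotient.eq]
      exact hc
    have h2 : algebraMap A m.ResidueField (algebraMap k A c - a) = 0 :=
      (Ideal.algebraMap_residueField_eq_zero).mpr h1
    rw [map_sub, sub_eq_zero] at h2
    exact h2
  let e : k ≃+* m.ResidueField := RingEquiv.ofBijective φ ⟨φ.injective, hsurj⟩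
  haveI : IsAlgClosed m.ResidueField := IsAlgClosed.of_ringEquiv k _ e
  infer_instance

section Main

theorem main15003 (k : Type u) [Field k] [IsAlgClosed k]
    (X Y : Scheme.{u}) [X.Over (Spec (CommRingCat.of k))]
    [IsIntegral X] [IsIntegral Y]
    [LocallyOfFiniteType (X ↘ (Spec (CommRingCat.of k)))]
    (hregX : ∀ x : X, IsRegularLocalRing (X.presheaf.stalk x))
    (hregY : ∀ y : Y, IsRegularLocalRing (Y.presheaf.stalk y))
    (π : Y ⟶ X) [IsFinite π] [FormallyUnramified π]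
    (e : π.base (genericPoint Y) = genericPoint X) (p : X) (hp : IsClosed ({p} : Set X)) :
    Nat.card {q : Y // π.base q = p} =
      Models.homDegree
        (X.presheaf.stalkSpecializes (specializes_of_eq e) ≫ π.stalkMap (genericPoint Y)).hom := by
  classical
  obtain ⟨_, ⟨U, hU : IsAffineOpen U, rfl⟩, hpU, -⟩ :=
    (X.isBasis_affineOpens).exists_subset_of_mem_open (Set.mem_univ p) isOpen_univ
  have hV : IsAffineOpen (π ⁻¹ᵁ U) := hU.preimage π
  haveI : Nonempty U := ⟨⟨p, hpU⟩⟩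
  have hηU : genericPoint X ∈ U :=
    ((genericPoint_spec X).mem_open_set_iff U.isOpen).mpr ⟨p, Set.mem_univ _, hpU⟩
  have hηV : genericPoint Y ∈ π ⁻¹ᵁ U := by
    show π.base (genericPoint Y) ∈ U
    rw [e]
    exact hηU
  haveI : Nonempty (π ⁻¹ᵁ U : Y.Opens) := ⟨⟨genericPoint Y, hηV⟩⟩
  letI : Algebra Γ(X, U) Γ(Y, π ⁻¹ᵁ U) := (π.app U).hom.toAlgebra
  haveI : Module.Finite Γ(X, U) Γ(Y, π ⁻¹ᵁ U) := π.finite_app U hU
  haveI : Algebra.FormallyUnramified Γ(X, U) Γ(Y, π ⁻¹ᵁ U) := by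
    have h1 : (π.appLE U (π ⁻¹ᵁ U) le_rfl).hom.FormallyUnramified :=
      π.formallyUnramified_appLE hU hV le_rfl
    rw [Scheme.Hom.appLE_eq_app] at h1
    exact h1
  -- function fields
  set ψ := X.presheaf.stalkSpecializes (specializes_of_eq e) ≫ π.stalkMap (genericPoint Y) with hψ
  letI : Algebra X.functionField Y.functionField := ψ.hom.toAlgebra
  letI : Algebra Γ(X, U) Y.functionField :=
    ((algebraMap Γ(Y, π ⁻¹ᵁ U) Y.functionField).comp
      (algebraMap Γ(X, U) Γ(Y, π ⁻¹ᵁ U))).toAlgebra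
  haveI : IsScalarTower Γ(X, U) Γ(Y, π ⁻¹ᵁ U) Y.functionField :=
    IsScalarTower.of_algebraMap_eq (fun a => rfl)
  have hsq : X.presheaf.germ U (genericPoint X) hηU ≫ ψ =
      π.app U ≫ Y.presheaf.germ (π ⁻¹ᵁ U) (genericPoint Y) hηV := by
    rw [hψ, ← Category.assoc, TopCat.Presheaf.germ_stalkSpecializes]
    exact π.germ_stalkMap U (genericPoint Y) _
  haveI : IsScalarTower Γ(X, U) X.functionField Y.functionField :=
    IsScalarTower.of_algebraMap_eq (fun a => by
      have := congrArg (fun φ => φ.hom a) hsq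
      exact this.symm)
  haveI : IsFractionRing Γ(X, U) X.functionField :=
    functionField_isFractionRing_of_isAffineOpen X U hU
  haveI : IsFractionRing Γ(Y, π ⁻¹ᵁ U) Y.functionField :=
    functionField_isFractionRing_of_isAffineOpen Y (π ⁻¹ᵁ U) hV
  have hdeg : Models.homDegree ψ.hom = Module.finrank Γ(X, U) Γ(Y, π ⁻¹ᵁ U) :=
    IsFractionRing.finrank_eq Γ(X, U) X.functionField Γ(Y, π ⁻¹ᵁ U) Y.functionField
  have hinj : Function.Injective (algebraMap Γ(X, U) Γ(Y, π ⁻¹ᵁ U)) := by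
    intro a b hab
    apply X.germToFunctionField_injective U
    apply ψ.hom.injective
    have h1 := congrArg (fun φ => φ.hom a) hsq
    have h2 := congrArg (fun φ => φ.hom b) hsq
    simp only [CommRingCat.hom_comp, RingHom.comp_apply] at h1 h2
    show ψ.hom ((X.presheaf.germ U (genericPoint X) hηU).hom a) =
      ψ.hom ((X.presheaf.germ U (genericPoint X) hηU).hom b)
    rw [h1, h2]
    exact congrArg _ hab
  -- the maximal ideal
  set m : Ideal Γ(X, U) := (hU.primeIdealOf ⟨p, hpU⟩).asIdeal with hm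
  haveI hmmax : m.IsMaximal := hU.primeIdealOf_isMaximal_of_isClosed ⟨p, hpU⟩ hp
  haveI : IsRegularLocalRing (Localization.AtPrime m) := by
    letI := TopCat.Presheaf.algebra_section_stalk X.presheaf (⟨p, hpU⟩ : U)
    have hloc : IsLocalization.AtPrime (X.presheaf.stalk p) m := hU.isLocalization_stalk ⟨p, hpU⟩
    haveI := hloc
    haveI := hregX p
    exact IsRegularLocalRing.of_ringEquiv
      (IsLocalization.algEquiv m.primeCompl (X.presheaf.stalk p) (Localization.AtPrime m)).toRingEquiv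
  have hB : ∀ (n : Ideal Γ(Y, π ⁻¹ᵁ U)) [n.IsPrime],
      IsRegularLocalRing (Localization.AtPrime n) := by
    intro n hn
    have hz := fromSpec_mem hV (⟨n, hn⟩ : PrimeSpectrum Γ(Y, π ⁻¹ᵁ U))
    letI := TopCat.Presheaf.algebra_section_stalk Y.presheaf
      ⟨hV.fromSpec (⟨n, hn⟩ : PrimeSpectrum Γ(Y, π ⁻¹ᵁ U)), hz⟩
    have hloc : IsLocalization.AtPrime
        (Y.presheaf.stalk (hV.fromSpec (⟨n, hn⟩ : PrimeSpectrum Γ(Y, π ⁻¹ᵁ U)))) n :=
      hV.isLocalization_stalk' (⟨n, hn⟩ : PrimeSpectrum Γ(Y, π ⁻¹ᵁ U)) hz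
    haveI := hloc
    haveI := hregY (hV.fromSpec (⟨n, hn⟩ : PrimeSpectrum Γ(Y, π ⁻¹ᵁ U)))
    exact IsRegularLocalRing.of_ringEquiv
      (IsLocalization.algEquiv n.primeCompl
        (Y.presheaf.stalk (hV.fromSpec (⟨n, hn⟩ : PrimeSpectrum Γ(Y, π ⁻¹ᵁ U))))
        (Localization.AtPrime n)).toRingEquiv
  haveI : IsSepClosed m.ResidueField := by
    letI := Groth.Agent.SchFTH8.secAlgebra k X U
    haveI := Groth.Agent.SchFTH8.finiteType_sec k X U hU
    exact isSepClosed_residueField k Γ(X, U) m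
  have hcore := card_fiber_eq_finrank Γ(X, U) Γ(Y, π ⁻¹ᵁ U) hinj m hB
  rw [hdeg, ← hcore]
  -- the bijection
  have hmem : ∀ q : Y, π.base q = p → q ∈ π ⁻¹ᵁ U := by
    intro q hq
    show π.base q ∈ U
    rw [hq]
    exact hpU
  let F : {q : Y // π.base q = p} →
      ↥(PrimeSpectrum.comap (algebraMap Γ(X, U) Γ(Y, π ⁻¹ᵁ U)) ⁻¹'
        {(⟨m, hmmax.isPrime⟩ : PrimeSpectrum Γ(X, U))}) := fun q =>
    ⟨hV.primeIdealOf ⟨q.1, hmem q.1 q.2⟩, by
      have h1 := IsAffineOpen.comap_primeIdealOf_appLE (f := π) (x := q.1) U hU (π ⁻¹ᵁ U) hV le_rfl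
        (hmem q.1 q.2)
      rw [Set.mem_preimage, Set.mem_singleton_iff]
      have h2 : (π.appLE U (π ⁻¹ᵁ U) le_rfl).hom = algebraMap Γ(X, U) Γ(Y, π ⁻¹ᵁ U) := by
        rw [Scheme.Hom.appLE_eq_app]
        rfl
      rw [h2] at h1
      rw [h1]
      exact congrArg hU.primeIdealOf (Subtype.ext q.2 : (⟨π.base q.1, _⟩ : U) = ⟨p, hpU⟩)⟩
  have hFbij : Function.Bijective F := by
    constructor
    · intro q q' hqq'
      have h1 : hV.primeIdealOf ⟨q.1, hmem q.1 q.2⟩ = hV.primeIdealOf ⟨q'.1, hmem q'.1 q'.2⟩ :=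
        congrArg Subtype.val hqq'
      have h2 := congrArg hV.fromSpec.base h1
      rw [hV.fromSpec_primeIdealOf, hV.fromSpec_primeIdealOf] at h2
      exact Subtype.ext h2
    · rintro ⟨n, hn⟩
      have hz := fromSpec_mem hV n
      have hπ : π.base (hV.fromSpec.base n) = p := by
        have h1 := congrArg (fun φ => φ.base n)
          (IsAffineOpen.SpecMap_appLE_fromSpec π hU hV le_rfl)
        simp only [Scheme.Hom.comp_base, TopCat.comp_app] at h1
        rw [← h1]
        have h2 : (Spec.map (π.appLE U (π ⁻¹ᵁ U) le_rfl)).base n =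
            hU.primeIdealOf ⟨p, hpU⟩ := by
          rw [Set.mem_preimage, Set.mem_singleton_iff] at hn
          rw [Scheme.Hom.appLE_eq_app]
          exact hn
        rw [h2]
        exact hU.fromSpec_primeIdealOf ⟨p, hpU⟩
      refine ⟨⟨hV.fromSpec.base n, hπ⟩, ?_⟩
      apply Subtype.ext
      exact primeIdealOf_fromSpec hV n _
  exact Nat.card_eq_of_bijective F hFbij

end Main

end Groth.Agent.Lib.FinUnramDegH3
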