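import Mathlib

/-!
# A local form of "finite epimorphisms are surjective" (helper6)

`exists_smul_eq_algebraMap`: for a finite commutative `A`-algebra `S` and a prime `p` of `A`,
if every `b ⊗ 1 - 1 ⊗ b` is killed by an element outside `p`, then every element of `S` is,
up to multiplication by an element outside `p`, in the image of `A`.
-/

namespace Groth.Agent.Lib.FiniteEpiLocal

open TensorProduct

universe u v

theorem exists_smul_eq_algebraMap {A : Type u} {S : Type v} [CommRing A] [CommRing S] [Algebra A S]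
    [Module.Finite A S] (p : Ideal A) [p.IsPrime]
    (h : ∀ b : S, ∃ t : A, t ∉ p ∧ t • (b ⊗ₜ[A] (1 : S) - (1 : S) ⊗ₜ[A] b) = 0) :
    ∀ b : S, ∃ t : A, t ∉ p ∧ ∃ a : A, t • b = algebraMap A S a := by
  let Ap := Localization.AtPrime p
  let Sp := Localization (Algebra.algebraMapSubmonoid S p.primeCompl)
  let ι : S →ₐ[A] Sp := IsScalarTower.toAlgHom A S Sp
  let Φ : S ⊗[A] S →ₐ[A] Sp ⊗[Ap] Sp :=
    ((Algebra.TensorProduct.mapOfCompatibleSMul Ap A A Sp Sp)).comp (Algebra.TensorProduct.map ι ι)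
  have hΦ : ∀ x y : S, Φ (x ⊗ₜ[A] y) = (ι x) ⊗ₜ[Ap] (ι y) := fun x y => rfl
  -- `ι b ⊗ 1 = 1 ⊗ ι b`
  have h1 : ∀ b : S, (ι b) ⊗ₜ[Ap] (1 : Sp) = (1 : Sp) ⊗ₜ[Ap] (ι b) := by
    intro b
    obtain ⟨t, htp, ht⟩ := h b
    have h2 := congrArg Φ ht
    rw [map_smul, map_sub, hΦ, hΦ, map_one, map_zero] at h2
    have hu : IsUnit (algebraMap A Ap t) :=
      IsLocalization.map_units Ap (⟨t, htp⟩ : p.primeCompl)
    have h3 : (algebraMap A Ap t) • ((ι b) ⊗ₜ[Ap] (1 : Sp) - (1 : Sp) ⊗ₜ[Ap] (ι b)) = 0 := by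
      rw [algebraMap_smul]; exact h2
    have h4 := (hu.smul_eq_zero).1 h3
    exact sub_eq_zero.1 h4
  haveI : Algebra.IsEpi Ap Sp := by
    rw [Algebra.isEpi_iff_forall_one_tmul_eq]
    intro z
    obtain ⟨⟨b, s⟩, hz⟩ := IsLocalization.surj (Algebra.algebraMapSubmonoid S p.primeCompl) z
    obtain ⟨s0, hs0, hs0'⟩ := s.2
    simp only at hz
    have hu : IsUnit (algebraMap A Ap s0) :=
      IsLocalization.map_units Ap (⟨s0, hs0⟩ : p.primeCompl)
    obtain ⟨u, hu'⟩ := hu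
    have hz' : z = (↑u⁻¹ : Ap) • ι b := by
      have e1 : (algebraMap S Sp) (s : S) = algebraMap Ap Sp (algebraMap A Ap s0) := by
        rw [← hs0', ← IsScalarTower.algebraMap_apply, ← IsScalarTower.algebraMap_apply]
      have e2 : ι b = algebraMap S Sp b := rfl
      rw [e2, ← hz, e1, ← hu', Algebra.smul_def, mul_comm z, ← mul_assoc, ← map_mul,
        Units.inv_mul, map_one, one_mul]
    rw [hz', TensorProduct.tmul_smul, ← h1 b, TensorProduct.smul_tmul']
  have hsurj : Function.Surjective (algebraMap Ap Sp) :=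
    Algebra.isEpi_iff_surjective_algebraMap_of_finite.mp inferInstance
  intro b
  obtain ⟨y, hy⟩ := hsurj (ι b)
  obtain ⟨⟨a, s⟩, hys⟩ := IsLocalization.surj p.primeCompl y
  simp only at hys
  -- `ι (s • b) = ι (algebraMap a)`
  have e1 : algebraMap S Sp ((s : A) • b) = algebraMap S Sp (algebraMap A S a) := by
    have e2 : ι b = algebraMap S Sp b := rfl
    rw [Algebra.smul_def, map_mul, ← e2, ← hy, ← IsScalarTower.algebraMap_apply A S Sp,
      IsScalarTower.algebraMap_apply A Ap Sp, ← map_mul, mul_comm, hys,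
      ← IsScalarTower.algebraMap_apply A Ap Sp, ← IsScalarTower.algebraMap_apply A S Sp]
  obtain ⟨c, hc⟩ := (IsLocalization.eq_iff_exists (Algebra.algebraMapSubmonoid S p.primeCompl) Sp).1 e1
  obtain ⟨c0, hc0, hc0'⟩ := c.2
  refine ⟨c0 * s, ?_, c0 * a, ?_⟩
  · exact (Ideal.IsPrime.mul_mem_iff_mem_or_mem ‹_›).not.2 (not_or.2 ⟨hc0, s.2⟩)
  · rw [mul_smul, Algebra.smul_def c0, hc0', hc, map_mul, hc0']
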