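import Mathlib

/-!
# A finite algebra is a quotient of a finite, finitely presented algebra (helper3)
-/

set_option autoImplicit false
universe u

open Polynomial

namespace Groth.Agent.Lib.FiniteFPColimH3

variable (A A' : Type u) [CommRing A] [CommRing A'] [Algebra A A']

/-- Finitely many integral elements lie in the image of a finite, finitely presented algebra. -/
theorem exists_finite_fp_range [Algebra.IsIntegral A A'] (l : List A') :
    ∃ (C : Type u) (_ : CommRing C) (_ : Algebra A C) (f : C →ₐ[A] A'),
      Module.Finite A C ∧ Algebra.FinitePresentation A C ∧ ∀ x ∈ l, x ∈ f.range := by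
  induction l with
  | nil =>
    exact ⟨A, inferInstance, inferInstance, Algebra.ofId A A', inferInstance, inferInstance,
      by simp⟩
  | cons x l ih =>
    obtain ⟨C, _, _, f, hfin, hfp, hrange⟩ := ih
    obtain ⟨p, hp, hp0⟩ := Algebra.IsIntegral.isIntegral (R := A) x
    let F : C[X] := p.map (algebraMap A C)
    have hF : F.Monic := hp.map _
    have hF0 : F.eval₂ (f : C →+* A') x = 0 := by
      show (p.map (algebraMap A C)).eval₂ (f : C →+* A') x = 0
      rw [Polynomial.eval₂_map]
      have : (f : C →+* A').comp (algebraMap A C) = algebraMap A A' := f.comp_algebraMap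
      rw [this]
      exact hp0
    let f' : AdjoinRoot F →ₐ[A] A' := AdjoinRoot.liftAlgHom F f x hF0
    haveI : Module.Finite C (AdjoinRoot F) := hF.finite_adjoinRoot
    refine ⟨AdjoinRoot F, inferInstance, inferInstance, f', Module.Finite.trans C (AdjoinRoot F),
      inferInstance, ?_⟩
    intro y hy
    rcases List.mem_cons.mp hy with rfl | hy
    · exact ⟨AdjoinRoot.root F, AdjoinRoot.liftAlgHom_root F f _ hF0⟩
    · obtain ⟨c, hc⟩ := hrange y hy
      exact ⟨AdjoinRoot.of F c, by rw [← hc]; exact AdjoinRoot.liftAlgHom_of F f _ hF0 c⟩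

/-- A finite algebra is a quotient of a finite, finitely presented algebra. -/
theorem exists_finite_fp_surjective [Module.Finite A A'] :
    ∃ (C : Type u) (_ : CommRing C) (_ : Algebra A C) (f : C →ₐ[A] A'),
      Module.Finite A C ∧ Algebra.FinitePresentation A C ∧ Function.Surjective f := by
  classical
  haveI : Algebra.IsIntegral A A' := Algebra.IsIntegral.of_finite A A'
  obtain ⟨s, hs⟩ := (Module.Finite.fg_top : (⊤ : Submodule A A').FG)
  obtain ⟨C, _, _, f, hfin, hfp, hrange⟩ := exists_finite_fp_range A A' s.toList
  refine ⟨C, inferInstance, inferInstance, f, hfin, hfp, ?_⟩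
  have h1 : (⊤ : Submodule A A') ≤ Subalgebra.toSubmodule f.range := by
    rw [← hs]
    exact Submodule.span_le.mpr fun x hx => hrange x (Finset.mem_toList.mpr hx)
  intro y
  exact h1 (Submodule.mem_top (x := y))

end Groth.Agent.Lib.FiniteFPColimH3
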