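import Mathlib

/-!
# Finite free extensions realizing a finite residue field extension  (helper3)
-/

universe u

open Polynomial

namespace Groth.Agent.Lib.FiniteFreeResH3

theorem irreducible_scaleRoots {K : Type*} [Field K] (m : K[X]) (hm : Irreducible m) (u : K)
    (hu : u ≠ 0) : Irreducible (scaleRoots m u) := by
  refine ⟨?_, ?_⟩
  · intro h
    have h1 := natDegree_eq_zero_of_isUnit h
    rw [natDegree_scaleRoots] at h1
    exact hm.natDegree_pos.ne' h1
  · intro a b hab
    have h1 : m = scaleRoots a u⁻¹ * scaleRoots b u⁻¹ := by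
      rw [← mul_scaleRoots_of_noZeroDivisors, ← hab, ← scaleRoots_mul, mul_inv_cancel₀ hu,
        scaleRoots_one]
    have hne : scaleRoots m u ≠ 0 := scaleRoots_ne_zero hm.ne_zero u
    have key : ∀ c : K[X], c ≠ 0 → IsUnit (scaleRoots c u⁻¹) → IsUnit c := by
      intro c hc0 h
      have hd : c.natDegree = 0 := by
        have := natDegree_eq_zero_of_isUnit h
        rwa [natDegree_scaleRoots] at this
      rw [eq_C_of_natDegree_eq_zero hd]
      refine isUnit_C.2 (isUnit_iff_ne_zero.2 ?_)
      intro hc
      apply hc0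
      rw [eq_C_of_natDegree_eq_zero hd, hc, C_0]
    rcases hm.isUnit_or_isUnit h1 with h | h
    · left
      refine key a ?_ h
      rintro rfl
      rw [zero_mul] at hab
      exact hne hab
    · right
      refine key b ?_ h
      rintro rfl
      rw [mul_zero] at hab
      exact hne hab

section StepA

variable (R : Type u) [CommRing R] (p : Ideal R) [p.IsPrime] (P : R[X])

/-- The map `R[X]/(P) → κ(p)[X]/(P̄)`. -/
noncomputable def psi :
    AdjoinRoot P →+* AdjoinRoot (P.map (algebraMap R p.ResidueField)) :=
  AdjoinRoot.map (algebraMap R p.ResidueField) P _ dvd_rfl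

theorem psi_of (r : R) : psi R p P (AdjoinRoot.of P r) =
    AdjoinRoot.of _ (algebraMap R p.ResidueField r) := by
  simp [psi]

theorem psi_root : psi R p P (AdjoinRoot.root P) = AdjoinRoot.root _ := by
  simp [psi]

theorem psi_mk (g : R[X]) : psi R p P (AdjoinRoot.mk P g) =
    AdjoinRoot.mk _ (g.map (algebraMap R p.ResidueField)) := by
  have : (psi R p P).comp (AdjoinRoot.mk P) =
      (AdjoinRoot.mk _).comp (Polynomial.mapRingHom (algebraMap R p.ResidueField)) := by
    apply Polynomial.ringHom_ext
    · intro a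
      simp only [RingHom.comp_apply, AdjoinRoot.mk_C, coe_mapRingHom, map_C]
      exact psi_of R p P a
    · simp only [RingHom.comp_apply, AdjoinRoot.mk_X, coe_mapRingHom, map_X]
      exact psi_root R p P
  exact RingHom.congr_fun this g

theorem ker_psi (hP : P.Monic) :
    RingHom.ker (psi R p P) = p.map (algebraMap R (AdjoinRoot P)) := by
  haveI : Nontrivial R := nontrivial_of_ne (0 : R) 1
    (fun h => (inferInstance : p.IsPrime).ne_top ((Ideal.eq_top_iff_one _).2 (h ▸ p.zero_mem)))
  apply le_antisymm
  · intro x hx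
    rw [RingHom.mem_ker] at hx
    obtain ⟨g₀, rfl⟩ := AdjoinRoot.mk_surjective x
    have hmod : AdjoinRoot.mk P g₀ = AdjoinRoot.mk P (g₀ %ₘ P) := by
      rw [AdjoinRoot.mk_eq_mk]
      refine ⟨g₀ /ₘ P, ?_⟩
      have := modByMonic_add_div g₀ P
      linear_combination (-1 : R[X]) * this
    rw [hmod] at hx ⊢
    obtain ⟨g, hg⟩ : ∃ g, g = g₀ %ₘ P := ⟨_, rfl⟩
    rw [← hg] at hx ⊢
    have hdeg : g.degree < P.degree := hg ▸ degree_modByMonic_lt _ hP
    rw [psi_mk, AdjoinRoot.mk_eq_zero] at hx
    have hdeg' : (g.map (algebraMap R p.ResidueField)).degree <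
        (P.map (algebraMap R p.ResidueField)).degree := by
      rw [hP.degree_map (algebraMap R p.ResidueField)]
      exact lt_of_le_of_lt degree_map_le hdeg
    have hzero : g.map (algebraMap R p.ResidueField) = 0 :=
      eq_zero_of_dvd_of_degree_lt hx hdeg'
    have hcoeff : ∀ n, g.coeff n ∈ p := fun n => by
      have := congrArg (fun q => q.coeff n) hzero
      simp only [coeff_map, coeff_zero] at this
      exact Ideal.algebraMap_residueField_eq_zero.1 this
    have hgC : g ∈ Ideal.map C p := Ideal.mem_map_C_iff.2 hcoeff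
    have h1 : AdjoinRoot.mk P g ∈ (Ideal.map C p).map (AdjoinRoot.mk P) :=
      Ideal.mem_map_of_mem _ hgC
    rw [Ideal.map_map] at h1
    exact h1
  · rw [Ideal.map_le_iff_le_comap]
    intro r hr
    rw [Ideal.mem_comap, RingHom.mem_ker, AdjoinRoot.algebraMap_eq, psi_of,
      Ideal.algebraMap_residueField_eq_zero.2 hr, map_zero]

theorem stepA (hP : P.Monic) [Fact (Irreducible (P.map (algebraMap R p.ResidueField)))] :
    ∃ (q : Ideal (AdjoinRoot P)) (_ : q.IsPrime), q = p.map (algebraMap R (AdjoinRoot P)) ∧
      ∃ e : q.ResidueField ≃+* AdjoinRoot (P.map (algebraMap R p.ResidueField)),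
        ∀ r : R, e (algebraMap R q.ResidueField r) =
          AdjoinRoot.of _ (algebraMap R p.ResidueField r) := by
  haveI hprime : (RingHom.ker (psi R p P)).IsPrime := RingHom.ker_isPrime _
  refine ⟨RingHom.ker (psi R p P), hprime, ker_psi R p P hP, ?_⟩
  let q := RingHom.ker (psi R p P)
  let φ : q.ResidueField →+* AdjoinRoot (P.map (algebraMap R p.ResidueField)) :=
    Ideal.ResidueField.lift q (psi R p P) le_rfl (by
      intro x hx
      show IsUnit (psi R p P x)
      rw [isUnit_iff_ne_zero]
      intro h0
      exact hx (RingHom.mem_ker.2 h0))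
  have hφ : ∀ x, φ (algebraMap (AdjoinRoot P) q.ResidueField x) = psi R p P x := fun x =>
    Ideal.ResidueField.lift_algebraMap _ _ _ _ x
  have hφR : ∀ r : R, φ (algebraMap R q.ResidueField r) =
      AdjoinRoot.of _ (algebraMap R p.ResidueField r) := by
    intro r
    rw [IsScalarTower.algebraMap_apply R (AdjoinRoot P) q.ResidueField, hφ,
      AdjoinRoot.algebraMap_eq, psi_of]
  have hcomap : p = q.comap (algebraMap R (AdjoinRoot P)) := by
    ext r
    rw [Ideal.mem_comap, RingHom.mem_ker, AdjoinRoot.algebraMap_eq, psi_of]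
    constructor
    · intro hr
      rw [Ideal.algebraMap_residueField_eq_zero.2 hr, map_zero]
    · intro h
      exact Ideal.algebraMap_residueField_eq_zero.1 ((map_eq_zero (AdjoinRoot.of _)).1 h)
  have hcomp : φ.comp (Ideal.ResidueField.map p q (algebraMap R (AdjoinRoot P)) hcomap) =
      AdjoinRoot.of _ := by
    apply Ideal.ResidueField.ringHom_ext
    ext r
    simp only [RingHom.comp_apply, Ideal.ResidueField.map_algebraMap]
    rw [hφ, AdjoinRoot.algebraMap_eq, psi_of]
  have hsurj : Function.Surjective φ := by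
    let A' : Subalgebra p.ResidueField (AdjoinRoot (P.map (algebraMap R p.ResidueField))) :=
      { toSubsemiring := φ.rangeS
        algebraMap_mem' := fun c => by
          refine ⟨Ideal.ResidueField.map p q (algebraMap R (AdjoinRoot P)) hcomap c, ?_⟩
          exact RingHom.congr_fun hcomp c }
    have hroot : AdjoinRoot.root (P.map (algebraMap R p.ResidueField)) ∈ A' :=
      ⟨algebraMap (AdjoinRoot P) q.ResidueField (AdjoinRoot.root P), by rw [hφ, psi_root]⟩
    have hle : Algebra.adjoin p.ResidueField
        ({AdjoinRoot.root (P.map (algebraMap R p.ResidueField))} : Set _) ≤ A' :=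
      Algebra.adjoin_le (by
        rintro _ rfl
        exact hroot)
    rw [AdjoinRoot.adjoinRoot_eq_top] at hle
    intro z
    obtain ⟨y, hy⟩ := hle (Algebra.mem_top (x := z))
    exact ⟨y, hy⟩
  refine ⟨RingEquiv.ofBijective φ ⟨φ.injective, hsurj⟩, fun r => ?_⟩
  exact hφR r

end StepA

section StepB

variable (R : Type u) [CommRing R] (p : Ideal R) [p.IsPrime]

theorem exists_monic_lift (L : Type u) [Field L] [Algebra p.ResidueField L]
    [FiniteDimensional p.ResidueField L] (α : L)
    (hα : α ∉ Set.range (algebraMap p.ResidueField L)) :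
    ∃ (P : R[X]) (β : L), P.Monic ∧ Irreducible (P.map (algebraMap R p.ResidueField)) ∧
      2 ≤ P.natDegree ∧ aeval β (P.map (algebraMap R p.ResidueField)) = 0 := by
  have hint : IsIntegral p.ResidueField α := Algebra.IsIntegral.isIntegral α
  set m := minpoly p.ResidueField α with hm
  have hmmonic : m.Monic := minpoly.monic hint
  have hmirr : Irreducible m := minpoly.irreducible hint
  have hmdeg : 2 ≤ m.natDegree := (minpoly.two_le_natDegree_iff hint).2 (fun h => hα h)
  obtain ⟨b, hb⟩ := IsLocalization.exist_integer_multiples_of_finset (nonZeroDivisors (R ⧸ p))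
    m.coeffs
  obtain ⟨s₀, hs₀⟩ := Ideal.Quotient.mk_surjective (b : R ⧸ p)
  set u : p.ResidueField := algebraMap (R ⧸ p) p.ResidueField (b : R ⧸ p) with hu
  have hu0 : u ≠ 0 := by
    rw [hu]
    exact IsLocalization.to_map_ne_zero_of_mem_nonZeroDivisors _ le_rfl b.2
  have hrange : ∀ x : R ⧸ p, algebraMap (R ⧸ p) p.ResidueField x ∈
      (algebraMap R p.ResidueField).range := by
    intro x
    obtain ⟨r, rfl⟩ := Ideal.Quotient.mk_surjective x
    exact ⟨r, rfl⟩
  have hurange : u ∈ (algebraMap R p.ResidueField).range := hrange _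
  have hlifts : scaleRoots m u ∈ lifts (algebraMap R p.ResidueField) := by
    rw [lifts_iff_coeff_lifts]
    intro i
    rw [coeff_scaleRoots]
    by_cases hc : m.coeff i = 0
    · rw [hc, zero_mul]
      exact ⟨0, map_zero _⟩
    have hi : i ≤ m.natDegree := le_natDegree_of_ne_zero hc
    rcases hi.eq_or_lt with hi | hi
    · rw [hi, Nat.sub_self, pow_zero, mul_one, hmmonic.coeff_natDegree]
      exact ⟨1, map_one _⟩
    · have h1 : m.coeff i * u ^ (m.natDegree - i) =
          (u * m.coeff i) * u ^ (m.natDegree - i - 1) := by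
        have : m.natDegree - i = (m.natDegree - i - 1) + 1 := by omega
        rw [this, pow_succ]
        simp only [Nat.add_sub_cancel]
        ring
      rw [h1]
      have h2 : u * m.coeff i ∈ (algebraMap R p.ResidueField).range := by
        obtain ⟨x, hx⟩ := hb _ (coeff_mem_coeffs hc)
        rw [Algebra.smul_def] at hx
        rw [hu, ← hx]
        exact hrange x
      exact mul_mem h2 (pow_mem hurange _)
  obtain ⟨P, hPmap, hPdeg, hPmonic⟩ :=
    lifts_and_natDegree_eq_and_monic hlifts ((monic_scaleRoots_iff u).2 hmmonic)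
  refine ⟨P, algebraMap p.ResidueField L u * α, hPmonic, ?_, ?_, ?_⟩
  · rw [hPmap]
    exact irreducible_scaleRoots m hmirr u hu0
  · rw [hPdeg, natDegree_scaleRoots]
    exact hmdeg
  · rw [hPmap]
    exact scaleRoots_aeval_eq_zero (minpoly.aeval _ _)

end StepB


theorem main_aux : ∀ (n : ℕ) (R : Type u) [CommRing R] (p : Ideal R) [p.IsPrime] (L : Type u)
    [Field L] [Algebra p.ResidueField L] [FiniteDimensional p.ResidueField L],
    Module.finrank p.ResidueField L = n →
    ∃ (S : Type u) (_ : CommRing S) (_ : Algebra R S) (_ : Module.Finite R S)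
      (_ : Module.Free R S) (q : Ideal S) (_ : q.IsPrime), q = p.map (algebraMap R S) ∧
      ∃ e : q.ResidueField ≃+* L, ∀ r : R, e (algebraMap R q.ResidueField r) =
        algebraMap p.ResidueField L (algebraMap R p.ResidueField r) := by
  intro n
  induction n using Nat.strong_induction_on with
  | _ n ih =>
  intro R _ p _ L _ _ _ hn
  by_cases hsurj : Function.Surjective (algebraMap p.ResidueField L)
  · refine ⟨R, inferInstance, inferInstance, inferInstance, inferInstance, p, inferInstance,
      ?_, ?_⟩
    · rw [Algebra.algebraMap_self, Ideal.map_id]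
    · exact ⟨RingEquiv.ofBijective (algebraMap p.ResidueField L)
        ⟨(algebraMap p.ResidueField L).injective, hsurj⟩, fun r => rfl⟩
  · obtain ⟨α, hα⟩ : ∃ α : L, α ∉ Set.range (algebraMap p.ResidueField L) := by
      by_contra h
      push Not at h
      exact hsurj h
    obtain ⟨P, β, hPm, hPirr, hPdeg, hβ⟩ := exists_monic_lift R p L α hα
    haveI : Fact (Irreducible (P.map (algebraMap R p.ResidueField))) := ⟨hPirr⟩
    obtain ⟨q₁, hq₁prime, hq₁, e₁, he₁⟩ := stepA R p P hPm
    haveI := hq₁prime
    haveI : Module.Finite R (AdjoinRoot P) := hPm.finite_adjoinRoot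
    haveI : Module.Free R (AdjoinRoot P) := hPm.free_adjoinRoot
    let j : AdjoinRoot (P.map (algebraMap R p.ResidueField)) →ₐ[p.ResidueField] L :=
      AdjoinRoot.liftAlgHom _ (Algebra.ofId _ _) β (by
        rw [aeval_def] at hβ
        exact hβ)
    letI algκ : Algebra p.ResidueField q₁.ResidueField :=
      (e₁.symm.toRingHom.comp (AdjoinRoot.of _)).toAlgebra
    letI algL : Algebra q₁.ResidueField L := (j.toRingHom.comp e₁.toRingHom).toAlgebra
    have halgL : ∀ x : q₁.ResidueField, algebraMap q₁.ResidueField L x = j (e₁ x) := fun _ => rfl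
    have halgκ : ∀ c : p.ResidueField, algebraMap p.ResidueField q₁.ResidueField c =
        e₁.symm (AdjoinRoot.of _ c) := fun _ => rfl
    haveI : IsScalarTower p.ResidueField q₁.ResidueField L :=
      IsScalarTower.of_algebraMap_eq (fun c => by
        rw [halgL, halgκ, e₁.apply_symm_apply, ← AdjoinRoot.algebraMap_eq, j.commutes])
    have hfr₁ : Module.finrank p.ResidueField q₁.ResidueField = P.natDegree := by
      let e₁' : q₁.ResidueField ≃ₗ[p.ResidueField]
          AdjoinRoot (P.map (algebraMap R p.ResidueField)) :=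
        { e₁.toAddEquiv with
          map_smul' := fun c x => by
            simp only [AddEquiv.toFun_eq_coe, RingEquiv.toAddEquiv_eq_coe, RingHom.id_apply]
            show e₁ (c • x) = c • e₁ x
            rw [Algebra.smul_def, Algebra.smul_def, map_mul, halgκ, e₁.apply_symm_apply,
              AdjoinRoot.algebraMap_eq] }
      rw [e₁'.finrank_eq, (AdjoinRoot.powerBasis hPirr.ne_zero).finrank,
        AdjoinRoot.powerBasis_dim, hPm.natDegree_map]
    haveI : FiniteDimensional q₁.ResidueField L :=
      Module.Finite.of_restrictScalars_finite p.ResidueField q₁.ResidueField L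
    have hmul := Module.finrank_mul_finrank p.ResidueField q₁.ResidueField L
    have hlt : Module.finrank q₁.ResidueField L < n := by
      have hpos : 0 < Module.finrank q₁.ResidueField L := Module.finrank_pos
      rw [hfr₁, hn] at hmul
      nlinarith
    obtain ⟨S₂, _, _, _, _, q₂, _, hq₂, e₂, he₂⟩ := ih _ hlt (AdjoinRoot P) q₁ L rfl
    letI : Algebra R S₂ :=
      ((algebraMap (AdjoinRoot P) S₂).comp (algebraMap R (AdjoinRoot P))).toAlgebra
    haveI : IsScalarTower R (AdjoinRoot P) S₂ := IsScalarTower.of_algebraMap_eq (fun _ => rfl)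
    refine ⟨S₂, inferInstance, inferInstance, Module.Finite.trans (AdjoinRoot P) S₂,
      Module.Free.trans (S := AdjoinRoot P), q₂, inferInstance, ?_, e₂, ?_⟩
    · rw [hq₂, hq₁, Ideal.map_map]
      rfl
    · intro r
      have h1 : algebraMap R q₂.ResidueField r =
          algebraMap (AdjoinRoot P) q₂.ResidueField (algebraMap R (AdjoinRoot P) r) := by
        rw [IsScalarTower.algebraMap_apply R S₂ q₂.ResidueField,
          IsScalarTower.algebraMap_apply (AdjoinRoot P) S₂ q₂.ResidueField]
        rfl
      rw [h1, he₂, halgL, ← IsScalarTower.algebraMap_apply R (AdjoinRoot P) q₁.ResidueField,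
        he₁, ← AdjoinRoot.algebraMap_eq, j.commutes]

theorem main (R : Type u) [CommRing R] (p : Ideal R) [p.IsPrime]
    (L : Type u) [Field L] [Algebra p.ResidueField L] [FiniteDimensional p.ResidueField L]
    [Algebra R L] [IsScalarTower R p.ResidueField L] :
    ∃ (S : Type u) (_ : CommRing S) (_ : Algebra R S) (_ : Module.Finite R S) (_ : Module.Free R S)
      (_ : (p.map (algebraMap R S)).IsPrime)
      (e : (p.map (algebraMap R S)).ResidueField ≃+* L),
      ∀ r : R, e (algebraMap R (p.map (algebraMap R S)).ResidueField r) = algebraMap R L r := by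
  obtain ⟨S, i1, i2, i3, i4, q, hq, hqeq, e, he⟩ := main_aux _ R p L rfl
  subst hqeq
  refine ⟨S, i1, i2, i3, i4, hq, e, fun r => ?_⟩
  rw [he, ← IsScalarTower.algebraMap_apply]

end Groth.Agent.Lib.FiniteFreeResH3
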