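import Mathlib
import Groth.Agent.Lib.FiniteNbhd_lead

/-!
# Final assembly for finite parts over étale neighbourhoods (lead)
-/

set_option autoImplicit false
universe u

namespace Groth.Agent.Lib.FiniteNbhd

open Groth.Agent.Lib Groth.Agent.Lib.EtaleNbhd TensorProduct Polynomial

theorem final_assembly {A : Type u} [CommRing A] (I : Ideal A) (B : Type u) [CommRing B]
    [Algebra A B] [Algebra.FiniteType A B]
    (s : Finset B) (hs : Algebra.adjoin A (s : Set B) = ⊤)
    (A₁ : Type u) [CommRing A₁] [Algebra A A₁] [Algebra.Etale A A₁]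
    (hS₁ : SurjMod I A₁) (hI₁ : InjMod I A₁)
    (i₁ : A₁) (hi₁ : i₁ ∈ I.map (algebraMap A A₁))
    (y ι : A₁ ⊗[A] B) (h1ι : 1 - ι = algebraMap A₁ (A₁ ⊗[A] B) (1 - i₁) * y)
    (hι : ι ∈ I.map (algebraMap A (A₁ ⊗[A] B)))
    (P' : B → A₁[X]) (hP' : ∀ b ∈ s, (P' b).Monic) (M : B → ℕ)
    (hkill : ∀ b ∈ s, (1 - i₁) • (y ^ M b *
      Polynomial.eval₂ (algebraMap A₁ (A₁ ⊗[A] B)) ((1 : A₁) ⊗ₜ[A] b) (P' b)) = 0)
    (P0' : A₁[X]) (hP0' : P0'.Monic) (M0 : ℕ)
    (hkill0 : (1 - i₁) • (y ^ M0 *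
      Polynomial.eval₂ (algebraMap A₁ (A₁ ⊗[A] B)) y P0'.reverse) = 0)
    (π₁ : A₁ ⊗[A] B →ₐ[A] B ⧸ I.map (algebraMap A B))
    (hπ₁ : ∀ β : B, π₁ ((1 : A₁) ⊗ₜ[A] β) = Ideal.Quotient.mk _ β)
    (A' : Type u) [CommRing A'] [Algebra A₁ A'] [Algebra A A'] [IsScalarTower A A₁ A']
    [IsLocalization.Away (1 - i₁) A']
    (C : Type u) [CommRing C] [Algebra (A₁ ⊗[A] B) C] [Algebra A₁ C] [Algebra A C]
    [IsScalarTower A₁ (A₁ ⊗[A] B) C] [IsScalarTower A (A₁ ⊗[A] B) C]
    [IsLocalization.Away (1 - ι) C] :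
    ∃ (_ : Algebra.Etale A A') (_ : Algebra A' C) (_ : Algebra B C) (_ : IsScalarTower A A' C)
      (_ : IsScalarTower A B C),
      Function.Surjective ((Ideal.Quotient.mk (Ideal.map (algebraMap A A') I)).comp
        (algebraMap A A')) ∧
      RingHom.ker ((Ideal.Quotient.mk (Ideal.map (algebraMap A A') I)).comp
        (algebraMap A A')) = I ∧
      Algebra.Etale B C ∧ Module.Finite A' C ∧
      Function.Surjective ((Ideal.Quotient.mk (Ideal.map (algebraMap A C) I)).comp
        (algebraMap B C)) ∧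
      RingHom.ker ((Ideal.Quotient.mk (Ideal.map (algebraMap A C) I)).comp (algebraMap B C)) =
        Ideal.map (algebraMap A B) I := by
  classical
  have hUC : IsUnit (algebraMap (A₁ ⊗[A] B) C (1 - ι)) :=
    IsLocalization.Away.algebraMap_isUnit (1 - ι)
  rw [h1ι, map_mul] at hUC
  have hUσ : IsUnit (algebraMap (A₁ ⊗[A] B) C (algebraMap A₁ (A₁ ⊗[A] B) (1 - i₁))) :=
    (IsUnit.mul_iff.1 hUC).1
  have hUy : IsUnit (algebraMap (A₁ ⊗[A] B) C y) := (IsUnit.mul_iff.1 hUC).2
  have hUσ' : IsUnit (algebraMap A₁ C (1 - i₁)) := by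
    rw [IsScalarTower.algebraMap_apply A₁ (A₁ ⊗[A] B) C]; exact hUσ
  haveI hEt₁ : Algebra.Etale A₁ A' := Algebra.Etale.of_isLocalizationAway (1 - i₁)
  have hEt : Algebra.Etale A A' := Algebra.Etale.comp A A₁ A'
  letI algA'C : Algebra A' C := (IsLocalization.Away.lift (1 - i₁) hUσ').toAlgebra
  haveI tw₁ : IsScalarTower A₁ A' C := by
    refine IsScalarTower.of_algebraMap_eq (R := A₁) (S := A') (A := C) (fun r => ?_)
    exact (IsLocalization.Away.lift_eq (1 - i₁) hUσ' r).symm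
  haveI twA₁C : IsScalarTower A A₁ C := by
    refine IsScalarTower.of_algebraMap_eq (R := A) (S := A₁) (A := C) (fun a => ?_)
    rw [IsScalarTower.algebraMap_apply A (A₁ ⊗[A] B) C,
      IsScalarTower.algebraMap_apply A A₁ (A₁ ⊗[A] B),
      ← IsScalarTower.algebraMap_apply A₁ (A₁ ⊗[A] B) C]
  haveI tw₂ : IsScalarTower A A' C := by
    refine IsScalarTower.of_algebraMap_eq (R := A) (S := A') (A := C) (fun a => ?_)
    rw [IsScalarTower.algebraMap_apply A A₁ A', ← IsScalarTower.algebraMap_apply A₁ A' C,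
      ← IsScalarTower.algebraMap_apply A A₁ C]
  letI algBT : Algebra B (A₁ ⊗[A] B) :=
    (Algebra.TensorProduct.includeRight : B →ₐ[A] A₁ ⊗[A] B).toRingHom.toAlgebra
  letI algBC : Algebra B C :=
    ((algebraMap (A₁ ⊗[A] B) C).comp (algebraMap B (A₁ ⊗[A] B))).toAlgebra
  haveI twB : IsScalarTower B (A₁ ⊗[A] B) C := IsScalarTower.of_algebraMap_eq (fun _ => rfl)
  have hBC : ∀ b : B, algebraMap B C b = algebraMap (A₁ ⊗[A] B) C ((1 : A₁) ⊗ₜ[A] b) :=
    fun _ => rfl
  haveI twAB : IsScalarTower A B C := by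
    refine IsScalarTower.of_algebraMap_eq (R := A) (S := B) (A := C) (fun a => ?_)
    rw [hBC, IsScalarTower.algebraMap_apply A (A₁ ⊗[A] B) C]
    congr 1
    exact ((Algebra.TensorProduct.includeRight : B →ₐ[A] A₁ ⊗[A] B).commutes a).symm
  haveI hEtBT : Algebra.Etale B (A₁ ⊗[A] B) := by
    let e : (B ⊗[A] A₁) ≃ₐ[B] (A₁ ⊗[A] B) :=
      AlgEquiv.ofRingEquiv (f := (Algebra.TensorProduct.comm A B A₁).toRingEquiv) (fun b => by
        show Algebra.TensorProduct.comm A B A₁ (algebraMap B (B ⊗[A] A₁) b)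
          = (1 : A₁) ⊗ₜ[A] b
        rw [Algebra.TensorProduct.algebraMap_apply]
        exact Algebra.TensorProduct.comm_tmul A _ _)
    exact Algebra.Etale.of_equiv e
  haveI hEtTC : Algebra.Etale (A₁ ⊗[A] B) C := Algebra.Etale.of_isLocalizationAway (1 - ι)
  have hEtBC : Algebra.Etale B C := Algebra.Etale.comp B (A₁ ⊗[A] B) C
  -- finiteness
  haveI ftT : Algebra.FiniteType A₁ (A₁ ⊗[A] B) := inferInstance
  haveI fpC : Algebra.FinitePresentation (A₁ ⊗[A] B) C :=
    IsLocalization.Away.finitePresentation (1 - ι)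
  haveI ftC₁ : Algebra.FiniteType A₁ C := Algebra.FiniteType.trans ftT inferInstance
  haveI ftC : Algebra.FiniteType A' C := Algebra.FiniteType.of_restrictScalars_finiteType A₁ A' C
  have hintC : ∀ c : C, IsIntegral A' c := by
    obtain ⟨w, hw⟩ := hUy.exists_right_inv
    have hz : ∀ t : A₁ ⊗[A] B, (1 - i₁) • t = 0 → algebraMap (A₁ ⊗[A] B) C t = 0 := by
      intro t ht
      have h1 : algebraMap (A₁ ⊗[A] B) C (algebraMap A₁ (A₁ ⊗[A] B) (1 - i₁))
          * algebraMap (A₁ ⊗[A] B) C t = 0 := by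
        rw [← map_mul, ← Algebra.smul_def, ht, map_zero]
      exact (hUσ.mul_right_eq_zero).1 h1
    have hevalC : ∀ (t : A₁ ⊗[A] B) (Q : A₁[X]),
        algebraMap (A₁ ⊗[A] B) C (Polynomial.eval₂ (algebraMap A₁ (A₁ ⊗[A] B)) t Q)
          = Polynomial.eval₂ (algebraMap A₁ C) (algebraMap (A₁ ⊗[A] B) C t) Q := by
      intro t Q
      rw [Polynomial.hom_eval₂, ← IsScalarTower.algebraMap_eq]
    have hint_b : ∀ b ∈ s, IsIntegral A₁ (algebraMap (A₁ ⊗[A] B) C ((1 : A₁) ⊗ₜ[A] b)) := by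
      intro b hb
      refine ⟨P' b, hP' b hb, ?_⟩
      have h1 := hz _ (hkill b hb)
      rw [map_mul, map_pow, hevalC] at h1
      exact ((hUy.pow (M b)).mul_right_eq_zero).1 h1
    have hint_w : IsIntegral A₁ w := by
      refine ⟨P0', hP0', ?_⟩
      have h1 := hz _ hkill0
      rw [map_mul, map_pow, hevalC] at h1
      have h2 : Polynomial.eval₂ (algebraMap A₁ C) (algebraMap (A₁ ⊗[A] B) C y) P0'.reverse
          = 0 := ((hUy.pow M0).mul_right_eq_zero).1 h1
      exact (eval₂_reverse_eq_zero (algebraMap A₁ C) hw P0').1 h2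
    have hmemB : ∀ b : B, IsIntegral A' (algebraMap B C b) := by
      intro b
      have hb : b ∈ Algebra.adjoin A (s : Set B) := by rw [hs]; exact Algebra.mem_top
      induction hb using Algebra.adjoin_induction with
      | mem x hx => exact (hint_b x (Finset.mem_coe.1 hx)).tower_top
      | algebraMap r =>
        rw [← IsScalarTower.algebraMap_apply A B C, IsScalarTower.algebraMap_apply A A' C]
        exact isIntegral_algebraMap
      | add x₁ x₂ _ _ h₁ h₂ => rw [map_add]; exact h₁.add h₂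
      | mul x₁ x₂ _ _ h₁ h₂ => rw [map_mul]; exact h₁.mul h₂
    have hmemT : ∀ t : A₁ ⊗[A] B, IsIntegral A' (algebraMap (A₁ ⊗[A] B) C t) := by
      intro t
      induction t using TensorProduct.induction_on with
      | zero => rw [map_zero]; exact isIntegral_zero
      | tmul x b =>
        have h1 : x ⊗ₜ[A] b = algebraMap A₁ (A₁ ⊗[A] B) x * ((1 : A₁) ⊗ₜ[A] b) := by
          rw [Algebra.TensorProduct.algebraMap_apply, Algebra.TensorProduct.tmul_mul_tmul,
            mul_one, one_mul, Algebra.algebraMap_self_apply]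
        rw [h1, map_mul, ← IsScalarTower.algebraMap_apply A₁ (A₁ ⊗[A] B) C,
          IsScalarTower.algebraMap_apply A₁ A' C]
        exact isIntegral_algebraMap.mul (hmemB b)
      | add t₁ t₂ h₁ h₂ => rw [map_add]; exact h₁.add h₂
    have hint_w' : IsIntegral A' w := hint_w.tower_top
    have hσinv : algebraMap A₁ C (1 - i₁)
        * algebraMap A' C (IsLocalization.Away.invSelf (1 - i₁)) = 1 := by
      rw [IsScalarTower.algebraMap_apply A₁ A' C, ← map_mul, IsLocalization.Away.mul_invSelf,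
        map_one]
    have hinv : algebraMap (A₁ ⊗[A] B) C (1 - ι)
        * (algebraMap A' C (IsLocalization.Away.invSelf (1 - i₁)) * w) = 1 := by
      rw [h1ι, map_mul, ← IsScalarTower.algebraMap_apply A₁ (A₁ ⊗[A] B) C]
      calc algebraMap A₁ C (1 - i₁) * algebraMap (A₁ ⊗[A] B) C y
            * (algebraMap A' C (IsLocalization.Away.invSelf (1 - i₁)) * w)
          = (algebraMap A₁ C (1 - i₁) * algebraMap A' C (IsLocalization.Away.invSelf (1 - i₁)))
            * (algebraMap (A₁ ⊗[A] B) C y * w) := by ring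
        _ = 1 := by rw [hσinv, hw, one_mul]
    intro c
    obtain ⟨n, t, hc⟩ := IsLocalization.Away.surj (1 - ι) c
    have h3 : c = algebraMap (A₁ ⊗[A] B) C t
        * (algebraMap A' C (IsLocalization.Away.invSelf (1 - i₁)) * w) ^ n := by
      rw [← hc, mul_assoc, ← mul_pow, hinv, one_pow, mul_one]
    rw [h3]
    exact (hmemT t).mul ((isIntegral_algebraMap.mul hint_w').pow n)
  haveI : Algebra.IsIntegral A' C := ⟨hintC⟩
  have hfinC : Module.Finite A' C := Algebra.IsIntegral.finite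
  -- quotient statements for `A'`
  have hJ₁ : (I.map (algebraMap A A₁)).map (algebraMap A₁ A') = I.map (algebraMap A A') := by
    rw [Ideal.map_map, ← IsScalarTower.algebraMap_eq]
  obtain ⟨hS', hI'⟩ := away_one_sub_bijective' (I.map (algebraMap A A₁)) i₁ hi₁ A'
  have hSA' : SurjMod I A' := surj_trans I hS₁ (fun d => hS' d)
  have hIA' : ∀ a : A, algebraMap A A' a ∈ I.map (algebraMap A A') ↔ a ∈ I := by
    intro a
    constructor
    · intro ha
      rw [← hJ₁, IsScalarTower.algebraMap_apply A A₁ A'] at ha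
      exact hI₁ a (hI' _ ha)
    · intro ha
      exact Ideal.mem_map_of_mem _ ha
  obtain ⟨hP1, hP2⟩ := surj_ker_of' (algebraMap A A') (I.map (algebraMap A A')) I
    (fun y => hSA' y) hIA'
  -- quotient statements for `B → C`
  obtain ⟨hSC, hIC⟩ := away_one_sub_bijective' (I.map (algebraMap A (A₁ ⊗[A] B))) ι hι C
  have hJC : (I.map (algebraMap A (A₁ ⊗[A] B))).map (algebraMap (A₁ ⊗[A] B) C)
      = I.map (algebraMap A C) := by
    rw [Ideal.map_map, ← IsScalarTower.algebraMap_eq]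
  have hSBC : ∀ c : C, ∃ β : B, c - algebraMap B C β ∈ I.map (algebraMap A C) := by
    intro c
    obtain ⟨t, ht⟩ := hSC c
    obtain ⟨β, hβ⟩ := tensor_right_surj I A₁ hS₁ B t
    refine ⟨β, ?_⟩
    have h1 : c - algebraMap B C β = (c - algebraMap (A₁ ⊗[A] B) C t)
        + algebraMap (A₁ ⊗[A] B) C (t - (1 : A₁) ⊗ₜ[A] β) := by
      rw [map_sub, hBC]; ring
    rw [h1, ← hJC]
    exact Ideal.add_mem _ ht (Ideal.mem_map_of_mem _ hβ)
  have hπι : π₁ ι = 0 := ringHom_quot_eq_zero I π₁.toRingHom (fun a => by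
      show π₁ (algebraMap A _ a) = _
      rw [π₁.commutes, ← Ideal.Quotient.mk_algebraMap]) hι
  have hUπ : IsUnit (π₁.toRingHom (1 - ι)) := by
    have h : π₁.toRingHom (1 - ι) = 1 := by
      show π₁ (1 - ι) = 1
      rw [map_sub, map_one, hπι, sub_zero]
    rw [h]; exact isUnit_one
  let πC : C →+* B ⧸ I.map (algebraMap A B) := IsLocalization.Away.lift (1 - ι) hUπ
  have hπC : ∀ t, πC (algebraMap (A₁ ⊗[A] B) C t) = π₁ t := fun t =>
    IsLocalization.Away.lift_eq (1 - ι) hUπ t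
  have hIBC : ∀ β : B, algebraMap B C β ∈ I.map (algebraMap A C) ↔
      β ∈ I.map (algebraMap A B) := by
    intro β
    constructor
    · intro hβ
      have h1 : πC (algebraMap B C β) = 0 := ringHom_quot_eq_zero I πC (fun a => by
        rw [IsScalarTower.algebraMap_apply A (A₁ ⊗[A] B) C, hπC, π₁.commutes,
          ← Ideal.Quotient.mk_algebraMap]) hβ
      rw [hBC, hπC, hπ₁] at h1
      exact Ideal.Quotient.eq_zero_iff_mem.1 h1
    · intro hβ
      have h1 : (I.map (algebraMap A B)).map (algebraMap B C) = I.map (algebraMap A C) := by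
        rw [Ideal.map_map, ← IsScalarTower.algebraMap_eq]
      rw [← h1]
      exact Ideal.mem_map_of_mem _ hβ
  obtain ⟨hP5, hP6⟩ := surj_ker_of' (algebraMap B C) (I.map (algebraMap A C))
    (I.map (algebraMap A B)) hSBC hIBC
  exact ⟨hEt, algA'C, algBC, tw₂, twAB, hP1, hP2, hEtBC, hfinC, hP5, hP6⟩

end Groth.Agent.Lib.FiniteNbhd
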