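import Mathlib
import Groth.Prelude
import Groth.Agent.Lib.FiniteCMFlat_helper9
import Groth.Agent.Lib.FlatCM2_helper9
import Groth.Agent.Lib.RegQuot_helper5

set_option autoImplicit false
set_option linter.style.haveILetI false
set_option linter.unusedVariables false
universe u
open CategoryTheory CategoryTheory.Limits AlgebraicGeometry TopologicalSpace Opposite

namespace Groth.Agent.Lib.FiniteRegFlatH4

/-- A ring map between localizations of `R` at primes, compatible with the structure maps, is
injective when the source is a domain. -/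
theorem injective_of_isLocalization_atPrime {R A A' : Type*} [CommRing R] [CommRing A]
    [CommRing A'] [Algebra R A] [Algebra R A'] [IsDomain A] [Nontrivial A'] (p p' : Ideal R)
    [p.IsPrime] [p'.IsPrime] [IsLocalization.AtPrime A p] [IsLocalization.AtPrime A' p']
    (ψ : A →+* A') (hψ : ∀ r : R, ψ (algebraMap R A r) = algebraMap R A' r) :
    Function.Injective ψ := by
  rw [injective_iff_map_eq_zero]
  intro s hs
  obtain ⟨⟨a, u⟩, hau⟩ := IsLocalization.surj p.primeCompl s
  have h1 : algebraMap R A' a = 0 := by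
    rw [← hψ, ← hau, map_mul, hs, zero_mul]
  obtain ⟨g, hg⟩ := (IsLocalization.map_eq_zero_iff p'.primeCompl A' a).mp h1
  have h2 : algebraMap R A (g : R) * algebraMap R A a = 0 := by
    rw [← map_mul, hg, map_zero]
  rcases mul_eq_zero.mp h2 with h3 | h3
  · exfalso
    have h4 : algebraMap R A' (g : R) = 0 := by rw [← hψ, h3, map_zero]
    have h5 : IsUnit (algebraMap R A' (g : R)) := IsLocalization.map_units A' g
    rw [h4] at h5
    exact not_isUnit_zero h5
  · have h6 : s * algebraMap R A (u : R) = 0 := by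
      have := hau
      simp only at this
      rw [this, h3]
    have h7 : IsUnit (algebraMap R A (u : R)) := IsLocalization.map_units A u
    exact (h7.mul_left_eq_zero).mp h6

/-- Miracle flatness on a chart: a local map of regular local rings, injective, where the target
is a localization of an integral algebra over a ring mapping to the source. -/
theorem flat_of_regular_of_integral_chart (A₀ B₀ A B : Type u) [CommRing A₀] [CommRing B₀]
    [CommRing A] [CommRing B] [IsRegularLocalRing A] [IsRegularLocalRing B] [Algebra A B]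
    [IsLocalHom (algebraMap A B)] [Algebra A₀ B₀] [Algebra A₀ A] [Algebra B₀ B] [Algebra A₀ B]
    [IsScalarTower A₀ A B] [IsScalarTower A₀ B₀ B] [Algebra.IsIntegral A₀ B₀]
    (q : Ideal B₀) [q.IsPrime] [IsLocalization.AtPrime B q]
    (hinj : Function.Injective (algebraMap A B)) : Module.Flat A B := by
  haveI : IsDomain B := Groth.Agent.RegularLib.isDomain B
  haveI : IsDomain A := Groth.Agent.RegularLib.isDomain A
  haveI : IsIntegrallyClosed A :=
    Groth.Agent.Lib.NormalLiftH4.isIntegrallyClosed_of_isRegularLocalRing A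
  obtain ⟨S', hS'⟩ : ∃ S' : Subalgebra A B,
      S' = Algebra.adjoin A (Set.range (algebraMap B₀ B)) := ⟨_, rfl⟩
  have hmemS : ∀ b₀ : B₀, algebraMap B₀ B b₀ ∈ S' := fun b₀ => by
    rw [hS']; exact Algebra.subset_adjoin ⟨b₀, rfl⟩
  haveI : Algebra.IsIntegral A S' := by
    rw [hS']
    apply Algebra.IsIntegral.adjoin
    rintro _ ⟨b₀, rfl⟩
    have h1 : IsIntegral A₀ b₀ := Algebra.IsIntegral.isIntegral b₀
    have h2 : IsIntegral A₀ (algebraMap B₀ B b₀) := h1.algebraMap
    exact h2.tower_top
  haveI : FaithfulSMul A S' := by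
    rw [faithfulSMul_iff_algebraMap_injective]
    intro a a' haa'
    apply hinj
    have := congrArg (S'.val) haa'
    exact this
  obtain ⟨q'', hq''⟩ : ∃ q'' : Ideal S',
      q'' = (IsLocalRing.maximalIdeal B).comap (algebraMap S' B) := ⟨_, rfl⟩
  haveI hq''p : q''.IsPrime := by rw [hq'']; exact Ideal.comap_isPrime _ _
  have hcomap : q''.comap (algebraMap A S') = IsLocalRing.maximalIdeal A := by
    ext a
    rw [Ideal.mem_comap, hq'', Ideal.mem_comap, IsLocalRing.mem_maximalIdeal,
      IsLocalRing.mem_maximalIdeal, mem_nonunits_iff, mem_nonunits_iff]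
    have e : algebraMap S' B (algebraMap A S' a) = algebraMap A B a := rfl
    rw [e, isUnit_map_iff]
  haveI hq''m : q''.IsMaximal := by
    apply Ideal.isMaximal_of_isIntegral_of_isMaximal_comap (R := A) q''
    rw [hcomap]
    exact IsLocalRing.maximalIdeal.isMaximal A
  haveI hloc : IsLocalization.AtPrime B q'' := by
    refine (isLocalization_iff q''.primeCompl B).mpr ⟨?_, ?_, ?_⟩
    · rintro ⟨s, hs⟩
      have h1 : algebraMap S' B s ∉ IsLocalRing.maximalIdeal B := fun hmem =>
        (Ideal.mem_primeCompl_iff.mp hs) (by rw [hq'']; exact hmem)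
      exact IsLocalRing.notMem_maximalIdeal.mp h1
    · intro b
      obtain ⟨⟨b₀, t₀⟩, hbt⟩ := IsLocalization.surj q.primeCompl b
      have ht : (⟨algebraMap B₀ B (t₀ : B₀), hmemS t₀⟩ : S') ∈ q''.primeCompl := by
        rw [Ideal.mem_primeCompl_iff, hq'']
        intro hmem
        have h5 : IsUnit (algebraMap B₀ B (t₀ : B₀)) := IsLocalization.map_units B t₀
        exact (IsLocalRing.mem_maximalIdeal _).mp hmem h5
      exact ⟨(⟨algebraMap B₀ B b₀, hmemS b₀⟩, ⟨⟨algebraMap B₀ B (t₀ : B₀), hmemS t₀⟩, ht⟩), hbt⟩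
    · intro x y hxy
      refine ⟨1, ?_⟩
      have : x = y := Subtype.ext hxy
      rw [this]
  haveI hLH := Groth.Agent.FiniteCMFlat.isLocalHom_localization A S' q''
  haveI : LocCoh.IsCohenMacaulayLocalRing B := ⟨Groth.Agent.RegQuot.isCM_of_regular B⟩
  have e : Localization.AtPrime q'' ≃ₐ[S'] B := IsLocalization.algEquiv q''.primeCompl _ _
  haveI : LocCoh.IsCohenMacaulayLocalRing (Localization.AtPrime q'') :=
    Groth.Agent.FlatCM.isCMLocalRing_of_ringEquiv e.symm.toRingEquiv
  have hflat : Module.Flat A (Localization.AtPrime q'') := by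
    apply Groth.Agent.MiracleFlat.flat_of_isCMRing
    rw [Groth.Agent.FiniteCMFlat.ringKrullDim_fibre_eq_zero A S' q'', add_zero]
    exact Groth.Agent.FiniteCMFlat.ringKrullDim_localization_eq A S' q''
  exact Module.Flat.of_linearEquiv (e.symm.toLinearEquiv.restrictScalars A)

theorem stalkSpecializes_injective_of_isDomain {Y : Scheme.{u}} {y η : Y} (h : η ⤳ y)
    (hd : IsDomain (Y.presheaf.stalk y)) :
    Function.Injective (Y.presheaf.stalkSpecializes h).hom := by
  haveI := hd
  obtain ⟨_, ⟨V, hV, rfl⟩, hyV, -⟩ :=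
    Y.isBasis_affineOpens.exists_subset_of_mem_open (Set.mem_univ y) isOpen_univ
  have hηV : η ∈ V := h.mem_open V.2 hyV
  letI : Algebra Γ(Y, V) (Y.presheaf.stalk y) :=
    TopCat.Presheaf.algebra_section_stalk Y.presheaf ⟨y, hyV⟩
  letI : Algebra Γ(Y, V) (Y.presheaf.stalk η) :=
    TopCat.Presheaf.algebra_section_stalk Y.presheaf ⟨η, hηV⟩
  haveI : IsLocalization.AtPrime (Y.presheaf.stalk y) (hV.primeIdealOf ⟨y, hyV⟩).asIdeal :=
    hV.isLocalization_stalk ⟨y, hyV⟩
  haveI : IsLocalization.AtPrime (Y.presheaf.stalk η) (hV.primeIdealOf ⟨η, hηV⟩).asIdeal :=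
    hV.isLocalization_stalk ⟨η, hηV⟩
  refine injective_of_isLocalization_atPrime (hV.primeIdealOf ⟨y, hyV⟩).asIdeal
    (hV.primeIdealOf ⟨η, hηV⟩).asIdeal (Y.presheaf.stalkSpecializes h).hom ?_
  intro r
  have := TopCat.Presheaf.germ_stalkSpecializes Y.presheaf hyV h
  exact congrArg (fun m => m.hom r) this

theorem stalkMap_injective {X Y : Scheme.{u}} (f : X ⟶ Y)
    (hdomX : ∀ x : X, IsDomain (X.presheaf.stalk x))
    (hdomY : ∀ y : Y, IsDomain (Y.presheaf.stalk y))
    (hdom : ∀ Z ∈ irreducibleComponents (X : Type u),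
      closure (f.base '' Z) ∈ irreducibleComponents (Y : Type u))
    (x : X) : Function.Injective (f.stalkMap x).hom := by
  haveI : ∀ y : Y, _root_.IsReduced (Y.presheaf.stalk y) := fun y => by
    haveI := hdomY y; infer_instance
  haveI : IsReduced Y := isReduced_of_isReduced_stalk Y
  have hZirr : IsIrreducible (irreducibleComponent x) := isIrreducible_irreducibleComponent
  have hZcl : IsClosed (irreducibleComponent x) := isClosed_irreducibleComponent
  obtain ⟨ξ, hξ⟩ : ∃ ξ : X, IsGenericPoint ξ (irreducibleComponent x) :=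
    ⟨_, hZirr.isGenericPoint_genericPoint hZcl⟩
  have hξx : ξ ⤳ x := hξ.specializes mem_irreducibleComponent
  have key : closure (f.base '' irreducibleComponent x) = closure {f.base ξ} := by
    have e1 : closure (f.base '' closure {ξ}) = closure (f.base '' {ξ}) :=
      closure_image_closure f.base.hom.continuous
    rw [hξ.def, Set.image_singleton] at e1
    exact e1
  have hcl : closure {f.base ξ} ∈ irreducibleComponents (Y : Type u) := by
    rw [← key]
    exact hdom _ (irreducibleComponent_mem_irreducibleComponents x)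
  have hF : IsField (Y.presheaf.stalk (f.base ξ)) :=
    isField_stalk_of_closure_mem_irreducibleComponents Y (f.base ξ) hcl
  have hηy : f.base ξ ⤳ f.base x := f.base.hom.map_specializes hξx
  have hspY := stalkSpecializes_injective_of_isDomain hηy (hdomY _)
  have hφξ : Function.Injective (f.stalkMap ξ).hom := by
    refine (injective_iff_map_eq_zero (f.stalkMap ξ).hom).mpr ?_
    intro a ha
    by_contra hne
    obtain ⟨a', ha'⟩ := hF.mul_inv_cancel hne
    have h1 := congrArg (f.stalkMap ξ).hom ha'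
    rw [map_mul, ha, zero_mul, map_one] at h1
    exact zero_ne_one h1
  intro a a' haa'
  apply hspY
  apply hφξ
  have n1 := Scheme.Hom.stalkSpecializes_stalkMap_apply f ξ x hξx a
  have n2 := Scheme.Hom.stalkSpecializes_stalkMap_apply f ξ x hξx a'
  exact n1.trans ((congrArg (X.presheaf.stalkSpecializes hξx).hom haa').trans n2.symm)

theorem main10881 {X Y : Scheme.{u}} (f : X ⟶ Y) [IsFinite f]
    [IsLocallyNoetherian X] [IsLocallyNoetherian Y]
    (hX : ∀ x : X, IsRegularLocalRing (X.presheaf.stalk x))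
    (hY : ∀ y : Y, IsRegularLocalRing (Y.presheaf.stalk y))
    (hdom : ∀ Z ∈ irreducibleComponents (X : Type u),
      closure (f.base '' Z) ∈ irreducibleComponents (Y : Type u)) :
    Flat f := by
  rw [Flat.iff_flat_stalkMap]
  intro x
  haveI := hX x
  haveI := hY (f x)
  have hdomY : ∀ y : Y, IsDomain (Y.presheaf.stalk y) := fun y => by
    haveI := hY y; exact Groth.Agent.RegularLib.isDomain _
  have hdomX : ∀ x : X, IsDomain (X.presheaf.stalk x) := fun x => by
    haveI := hX x; exact Groth.Agent.RegularLib.isDomain _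
  have hinj : Function.Injective (f.stalkMap x).hom := stalkMap_injective f hdomX hdomY hdom x
  obtain ⟨_, ⟨V, hV, rfl⟩, hyV, -⟩ :=
    Y.isBasis_affineOpens.exists_subset_of_mem_open (Set.mem_univ (f x)) isOpen_univ
  have hU : IsAffineOpen (f ⁻¹ᵁ V) := hV.preimage f
  have hxU : x ∈ f ⁻¹ᵁ V := hyV
  letI : Algebra Γ(Y, V) Γ(X, f ⁻¹ᵁ V) := (f.app V).hom.toAlgebra
  letI : Algebra Γ(Y, V) (Y.presheaf.stalk (f x)) :=
    TopCat.Presheaf.algebra_section_stalk Y.presheaf ⟨f x, hyV⟩
  letI : Algebra Γ(X, f ⁻¹ᵁ V) (X.presheaf.stalk x) :=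
    TopCat.Presheaf.algebra_section_stalk X.presheaf ⟨x, hxU⟩
  letI : Algebra (Y.presheaf.stalk (f x)) (X.presheaf.stalk x) := (f.stalkMap x).hom.toAlgebra
  letI : Algebra Γ(Y, V) (X.presheaf.stalk x) :=
    ((f.stalkMap x).hom.comp (Y.presheaf.germ V (f x) hyV).hom).toAlgebra
  haveI : IsScalarTower Γ(Y, V) (Y.presheaf.stalk (f x)) (X.presheaf.stalk x) :=
    IsScalarTower.of_algebraMap_eq' rfl
  haveI : IsScalarTower Γ(Y, V) Γ(X, f ⁻¹ᵁ V) (X.presheaf.stalk x) :=
    IsScalarTower.of_algebraMap_eq (fun a => Scheme.Hom.germ_stalkMap_apply f V x hyV a)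
  haveI : Algebra.IsIntegral Γ(Y, V) Γ(X, f ⁻¹ᵁ V) :=
    ⟨fun b => IsIntegralHom.isIntegral_app f V hV b⟩
  haveI : IsLocalization.AtPrime (X.presheaf.stalk x) (hU.primeIdealOf ⟨x, hxU⟩).asIdeal :=
    hU.isLocalization_stalk ⟨x, hxU⟩
  haveI : IsLocalHom (algebraMap (Y.presheaf.stalk (f x)) (X.presheaf.stalk x)) :=
    inferInstanceAs (IsLocalHom (f.stalkMap x).hom)
  exact flat_of_regular_of_integral_chart Γ(Y, V) Γ(X, f ⁻¹ᵁ V) (Y.presheaf.stalk (f x))
    (X.presheaf.stalk x) (hU.primeIdealOf ⟨x, hxU⟩).asIdeal hinj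

end Groth.Agent.Lib.FiniteRegFlatH4
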