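import Mathlib
import Groth.Prelude.Def_CAlg
import Groth.Agent.Lib.FiniteRestrict_helper6
import Groth.Agent.Lib.DepthRingChange_helper5
import Groth.Agent.Lib.DepthLoc_helper5
import Groth.Agent.Lib.SupportLoc_helper5

/-!
# Corollaries of the dimension/depth formulas under finite restriction of scalars (helper6)

* `supportDim_atMaximal`, `depth_atMaximal`: over a local ring, localizing at the maximal ideal
  changes neither the dimension nor the depth;
* `hasSk_B_of_A`, `hasSk_A_of_B`: `(S_k)` under restriction of scalars;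
* `cm_iff`: Cohen–Macaulayness under restriction of scalars.
-/

set_option autoImplicit false
universe u

namespace Groth.Agent.Lib.FiniteRestrictCor_helper6

open Groth.Agent.DepthLib Groth.Agent.Lib.FiniteRestrict_helper6

section AtMax

variable (A : Type u) [CommRing A] [IsLocalRing A] (M : Type u) [AddCommGroup M] [Module A M]

theorem maximalIdeal_mem_support [Nontrivial M] :
    (⟨IsLocalRing.maximalIdeal A, inferInstance⟩ : PrimeSpectrum A) ∈ Module.support A M := by
  obtain ⟨m, hm⟩ := exists_ne (0 : M)
  rw [Module.mem_support_iff_exists_annihilator]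
  refine ⟨m, IsLocalRing.le_maximalIdeal ?_⟩
  intro htop
  apply hm
  have h1 : (1 : A) ∈ (Submodule.span A {m}).annihilator := by
    rw [htop]; exact Submodule.mem_top
  rw [Submodule.mem_annihilator_span_singleton] at h1
  rwa [one_smul] at h1

theorem supportDim_atMaximal [Nontrivial M] :
    Module.supportDim (Localization.AtPrime (IsLocalRing.maximalIdeal A))
      (LocalizedModule (IsLocalRing.maximalIdeal A).primeCompl M) = Module.supportDim A M := by
  have hmem := maximalIdeal_mem_support A M
  rw [supportDim_localizedModule M (IsLocalRing.maximalIdeal A) hmem]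
  unfold Module.supportDim
  rw [Order.krullDim_eq_iSup_height]
  apply le_antisymm
  · exact le_iSup (fun a : Module.support A M => ((Order.height a : ℕ∞) : WithBot ℕ∞)) ⟨_, hmem⟩
  · refine iSup_le (fun a => ?_)
    rw [WithBot.coe_le_coe]
    apply Order.height_mono
    show a.1.asIdeal ≤ IsLocalRing.maximalIdeal A
    exact IsLocalRing.le_maximalIdeal a.1.isPrime.ne_top

theorem depth_atMaximal [IsNoetherianRing A] [Module.Finite A M] :
    LocCoh.depth (Localization.AtPrime (IsLocalRing.maximalIdeal A))
      (LocalizedModule (IsLocalRing.maximalIdeal A).primeCompl M) = LocCoh.depth A M := by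
  haveI : IsNoetherianRing (Localization.AtPrime (IsLocalRing.maximalIdeal A)) :=
    IsLocalization.isNoetherianRing (IsLocalRing.maximalIdeal A).primeCompl _ inferInstance
  haveI : IsLocalHom (algebraMap A (Localization.AtPrime (IsLocalRing.maximalIdeal A))) := by
    refine ⟨fun a ha => ?_⟩
    rw [IsLocalization.AtPrime.isUnit_to_map_iff
      (Localization.AtPrime (IsLocalRing.maximalIdeal A)) (IsLocalRing.maximalIdeal A)] at ha
    exact IsLocalRing.notMem_maximalIdeal.1 ha
  haveI : IsLocalization (IsLocalRing.maximalIdeal A).primeCompl A :=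
    IsLocalization.of_le_isUnit (fun s hs => IsLocalRing.notMem_maximalIdeal.1 hs)
  haveI : IsLocalizedModule (IsLocalRing.maximalIdeal A).primeCompl (LinearMap.id : M →ₗ[A] M) :=
    isLocalizedModule_id (IsLocalRing.maximalIdeal A).primeCompl M A
  let e : M ≃ₗ[A] LocalizedModule (IsLocalRing.maximalIdeal A).primeCompl M :=
    IsLocalizedModule.linearEquiv (IsLocalRing.maximalIdeal A).primeCompl
      (LinearMap.id : M →ₗ[A] M)
      (LocalizedModule.mkLinearMap (IsLocalRing.maximalIdeal A).primeCompl M)
  haveI : Module.Finite A (LocalizedModule (IsLocalRing.maximalIdeal A).primeCompl M) :=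
    Module.Finite.equiv e
  rw [← depth_eq_of_isLocalHom A (Localization.AtPrime (IsLocalRing.maximalIdeal A))
    (LocalizedModule (IsLocalRing.maximalIdeal A).primeCompl M)]
  unfold LocCoh.depth
  exact (idealDepth_congr _ _ e).symm

end AtMax

section Abstract

theorem le_coe_iInf₂ {ι : Type*} (S : Set ι) (f : ι → ℕ∞) (x : WithBot ℕ∞)
    (h : ∀ i ∈ S, x ≤ ((f i : ℕ∞) : WithBot ℕ∞)) :
    x ≤ (((⨅ i ∈ S, f i : ℕ∞)) : WithBot ℕ∞) := by
  induction x using WithBot.recBotCoe with
  | bot => exact bot_le
  | coe a => exact WithBot.coe_le_coe.2 (le_iInf₂ fun i hi => WithBot.coe_le_coe.1 (h i hi))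

theorem cm_abstract {ι : Type*} (S : Set ι) (dim : ι → WithBot ℕ∞) (dep : ι → ℕ∞)
    (D : WithBot ℕ∞) (d : ℕ∞)
    (hD : D = ⨆ i ∈ S, dim i) (hd : d = ⨅ i ∈ S, dep i)
    (hle : ∀ i ∈ S, ((dep i : ℕ∞) : WithBot ℕ∞) ≤ dim i) (hne : D ≠ ⊥) :
    D = ((d : ℕ∞) : WithBot ℕ∞) ↔
      (∀ i ∈ S, dim i = ((dep i : ℕ∞) : WithBot ℕ∞)) ∧ (∀ i ∈ S, ∀ j ∈ S, dim i = dim j) := by
  have hdimq : ∀ i ∈ S, dim i ≤ D := fun i hi =>
    le_trans (le_iSup₂ (f := fun i _ => dim i) i hi) (le_of_eq hD.symm)
  have hdepq : ∀ i ∈ S, d ≤ dep i := fun i hi =>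
    le_trans (le_of_eq hd) (iInf₂_le (f := fun i _ => dep i) i hi)
  constructor
  · intro hCM
    have hall : ∀ i ∈ S, dim i = D ∧ dim i = ((dep i : ℕ∞) : WithBot ℕ∞) := by
      intro i hi
      have h1 := hdimq i hi
      have h2 : ((d : ℕ∞) : WithBot ℕ∞) ≤ ((dep i : ℕ∞) : WithBot ℕ∞) :=
        WithBot.coe_le_coe.2 (hdepq i hi)
      have h3 := hle i hi
      have h4 : D ≤ dim i := le_trans (le_of_eq hCM) (le_trans h2 h3)
      exact ⟨le_antisymm h1 h4, le_antisymm (le_trans h1 (le_trans (le_of_eq hCM) h2)) h3⟩
    exact ⟨fun i hi => (hall i hi).2, fun i hi j hj => (hall i hi).1.trans (hall j hj).1.symm⟩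
  · rintro ⟨hCM, heq⟩
    obtain ⟨i0, hi0⟩ : S.Nonempty := by
      by_contra hemp
      rw [Set.not_nonempty_iff_eq_empty] at hemp
      apply hne
      rw [hD, hemp]
      simp
    have h1 : D = dim i0 := by
      apply le_antisymm _ (hdimq i0 hi0)
      rw [hD]
      exact iSup₂_le (fun i hi => le_of_eq (heq i hi i0 hi0))
    have h2 : d = dep i0 := by
      apply le_antisymm (hdepq i0 hi0)
      rw [hd]
      refine le_iInf₂ (fun i hi => ?_)
      have h3 : ((dep i0 : ℕ∞) : WithBot ℕ∞) = ((dep i : ℕ∞) : WithBot ℕ∞) := by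
        rw [← hCM i0 hi0, ← hCM i hi]; exact heq i0 hi0 i hi
      exact le_of_eq (WithBot.coe_injective h3)
    rw [h1, h2]
    exact hCM i0 hi0

end Abstract

section Sk

variable (k : ℕ) (A B : Type u) [CommRing A] [CommRing B] [IsNoetherianRing A]
    [IsNoetherianRing B] [Algebra A B] (M : Type u) [AddCommGroup M] [Module B M] [Module A M]
    [IsScalarTower A B M] [Module.Finite A M]

theorem hasSk_B_of_A (hA : LocCoh.HasSk k A M) : LocCoh.HasSk k B M := by
  intro q hq
  by_cases hsupp : (⟨q, hq⟩ : PrimeSpectrum B) ∈ Module.support B M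
  · have hS : (⟨q, hq⟩ : PrimeSpectrum B) ∈ {q' : PrimeSpectrum B |
        q'.asIdeal.comap (algebraMap A B) = q.comap (algebraMap A B) ∧
          q' ∈ Module.support B M} := ⟨rfl, hsupp⟩
    have hdim := supportDim_eq_iSup (B := B) M (q.comap (algebraMap A B))
    have hdep := depth_eq_iInf (B := B) M (q.comap (algebraMap A B))
    have h1 : Module.supportDim (Localization.AtPrime q) (LocalizedModule q.primeCompl M) ≤
        Module.supportDim (Localization.AtPrime (q.comap (algebraMap A B)))
          (LocalizedModule (q.comap (algebraMap A B)).primeCompl M) :=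
      le_trans (le_iSup₂ (f := fun (q' : PrimeSpectrum B) _ =>
        Module.supportDim (Localization.AtPrime q'.asIdeal)
          (LocalizedModule q'.asIdeal.primeCompl M)) ⟨q, hq⟩ hS) (le_of_eq hdim.symm)
    have h2 : LocCoh.depth (Localization.AtPrime (q.comap (algebraMap A B)))
          (LocalizedModule (q.comap (algebraMap A B)).primeCompl M) ≤
        LocCoh.depth (Localization.AtPrime q) (LocalizedModule q.primeCompl M) :=
      le_trans (le_of_eq hdep) (iInf₂_le (f := fun (q' : PrimeSpectrum B) _ =>
        LocCoh.depth (Localization.AtPrime q'.asIdeal)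
          (LocalizedModule q'.asIdeal.primeCompl M)) ⟨q, hq⟩ hS)
    exact le_trans (min_le_min le_rfl h1)
      (le_trans (hA (q.comap (algebraMap A B))) (WithBot.coe_le_coe.2 h2))
  · have hsub : Subsingleton (LocalizedModule q.primeCompl M) := by
      rw [Module.mem_support_iff] at hsupp
      exact not_nontrivial_iff_subsingleton.1 hsupp
    rw [depth_eq_top_of_subsingleton, WithBot.coe_top]
    exact le_top

theorem hasSk_A_of_B
    (heq : ∀ q ∈ Module.support B M, ∀ q' ∈ Module.support B M,
      q.asIdeal.comap (algebraMap A B) = q'.asIdeal.comap (algebraMap A B) →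
        Module.supportDim (Localization.AtPrime q.asIdeal)
            (LocalizedModule q.asIdeal.primeCompl M) =
          Module.supportDim (Localization.AtPrime q'.asIdeal)
            (LocalizedModule q'.asIdeal.primeCompl M))
    (hB : LocCoh.HasSk k B M) : LocCoh.HasSk k A M := by
  intro p hp
  rw [depth_eq_iInf (B := B) M p]
  refine le_coe_iInf₂ {q : PrimeSpectrum B | q.asIdeal.comap (algebraMap A B) = p ∧
      q ∈ Module.support B M}
    (fun q => LocCoh.depth (Localization.AtPrime q.asIdeal)
      (LocalizedModule q.asIdeal.primeCompl M)) _ ?_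
  intro q hq
  obtain ⟨hqp, hqs⟩ := hq
  have hdim : Module.supportDim (Localization.AtPrime p) (LocalizedModule p.primeCompl M) ≤
      Module.supportDim (Localization.AtPrime q.asIdeal)
        (LocalizedModule q.asIdeal.primeCompl M) := by
    rw [supportDim_eq_iSup (B := B) M p]
    refine iSup₂_le (fun q' hq' => ?_)
    exact le_of_eq (heq q' hq'.2 q hqs (hq'.1.trans hqp.symm))
  exact le_trans (min_le_min le_rfl hdim) (hB q.asIdeal)

end Sk

section CM

variable (A B : Type u) [CommRing A] [CommRing B]
    [IsNoetherianRing A] [IsLocalRing A] [IsNoetherianRing B] [Algebra A B]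
    (M : Type u) [AddCommGroup M] [Module B M] [Module A M] [IsScalarTower A B M]
    [Module.Finite A M] [Nontrivial M]

theorem cm_iff :
    LocCoh.IsCohenMacaulayModule A M ↔
      (∀ q ∈ {q : PrimeSpectrum B | q.asIdeal.comap (algebraMap A B) = IsLocalRing.maximalIdeal A ∧
          q ∈ Module.support B M},
        LocCoh.IsCohenMacaulayModule (Localization.AtPrime q.asIdeal)
          (LocalizedModule q.asIdeal.primeCompl M)) ∧
      (∀ q ∈ {q : PrimeSpectrum B | q.asIdeal.comap (algebraMap A B) = IsLocalRing.maximalIdeal A ∧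
          q ∈ Module.support B M},
        ∀ q' ∈ {q : PrimeSpectrum B | q.asIdeal.comap (algebraMap A B) =
            IsLocalRing.maximalIdeal A ∧ q ∈ Module.support B M},
          Module.supportDim (Localization.AtPrime q.asIdeal)
              (LocalizedModule q.asIdeal.primeCompl M) =
            Module.supportDim (Localization.AtPrime q'.asIdeal)
              (LocalizedModule q'.asIdeal.primeCompl M)) := by
  have hdimA := supportDim_atMaximal A M
  have hdepA := depth_atMaximal A M
  have hdim := supportDim_eq_iSup (B := B) M (IsLocalRing.maximalIdeal A)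
  have hdep := depth_eq_iInf (B := B) M (IsLocalRing.maximalIdeal A)
  have hne : Module.supportDim (Localization.AtPrime (IsLocalRing.maximalIdeal A))
      (LocalizedModule (IsLocalRing.maximalIdeal A).primeCompl M) ≠ ⊥ := by
    rw [hdimA]; exact Module.supportDim_ne_bot_of_nontrivial A M
  have hle : ∀ q ∈ {q : PrimeSpectrum B | q.asIdeal.comap (algebraMap A B) =
        IsLocalRing.maximalIdeal A ∧ q ∈ Module.support B M},
      ((LocCoh.depth (Localization.AtPrime q.asIdeal)
        (LocalizedModule q.asIdeal.primeCompl M) : ℕ∞) : WithBot ℕ∞) ≤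
      Module.supportDim (Localization.AtPrime q.asIdeal)
        (LocalizedModule q.asIdeal.primeCompl M) := by
    intro q hq
    haveI : Nontrivial (LocalizedModule q.asIdeal.primeCompl M) := Module.mem_support_iff.1 hq.2
    haveI : IsNoetherianRing (Localization.AtPrime q.asIdeal) :=
      IsLocalization.isNoetherianRing q.asIdeal.primeCompl _ inferInstance
    haveI : Module.Finite B M := Module.Finite.of_restrictScalars_finite A B M
    haveI : Module.Finite (Localization.AtPrime q.asIdeal)
        (LocalizedModule q.asIdeal.primeCompl M) :=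
      Module.Finite.of_isLocalizedModule q.asIdeal.primeCompl
        (LocalizedModule.mkLinearMap q.asIdeal.primeCompl M)
    exact depth_le_supportDim _ _
  have key := cm_abstract {q : PrimeSpectrum B | q.asIdeal.comap (algebraMap A B) =
        IsLocalRing.maximalIdeal A ∧ q ∈ Module.support B M}
    (fun q => Module.supportDim (Localization.AtPrime q.asIdeal)
      (LocalizedModule q.asIdeal.primeCompl M))
    (fun q => LocCoh.depth (Localization.AtPrime q.asIdeal)
      (LocalizedModule q.asIdeal.primeCompl M)) _ _ hdim hdep hle hne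
  unfold LocCoh.IsCohenMacaulayModule
  rw [← hdimA, ← hdepA]
  exact key

end CM

end Groth.Agent.Lib.FiniteRestrictCor_helper6
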