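import Mathlib
import Groth.Agent.Lib.AcycComp_helper7

/-!
# The first non-vanishing derived functor of a composite (helper7)

`Φ : A ⥤ B`, `Ψ : B ⥤ C` additive functors between abelian categories with enough injectives, `Ψ` left
exact, `Φ` sending injectives to `Ψ`-acyclic objects.  If `RⁱΦ(X) = 0` for all `i < d`, then
`Rᵈ(Φ ⋙ Ψ)(X) ≅ Ψ(RᵈΦ(X))` (existence of an isomorphism).  This is the edge isomorphism of the
Grothendieck spectral sequence, proved directly by dimension shifting.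
-/

set_option autoImplicit false
set_option linter.style.haveILetI false
set_option linter.unusedSectionVars false

namespace Groth.Agent.Lib.FirstDerivedH7

open CategoryTheory CategoryTheory.Limits
open Groth.Agent.Lib.FAcyc (acyc)

universe v₁ v₂ v₃ u₁ u₂ u₃

section One

variable {B : Type u₂} [Category.{v₂} B] [Abelian B] [HasInjectiveResolutions B]
  {C : Type u₃} [Category.{v₃} C] [Abelian C]
  (Ψ : B ⥤ C) [Ψ.Additive] [PreservesFiniteLimits Ψ]

omit [PreservesFiniteLimits Ψ] in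
lemma acyc_of_iso {X Y : B} (e : X ≅ Y) (h : acyc Ψ X) : acyc Ψ Y :=
  fun i hi => IsZero.of_iso (h i hi) ((Ψ.rightDerived i).mapIso e.symm)

omit [PreservesFiniteLimits Ψ] in
lemma acyc_of_isZero {X : B} (h : IsZero X) : acyc Ψ X := by
  haveI : Injective X := Injective.of_iso (h.isoZero).symm inferInstance
  exact FAcyc.acyc_of_injective Ψ X

omit [PreservesFiniteLimits Ψ] in
/-- an epimorphism from an acyclic object with acyclic kernel has acyclic target -/
lemma acyc_of_epi {X Z : B} (f : X ⟶ Z) [Epi f] (hX : acyc Ψ X) (hK : acyc Ψ (kernel f)) :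
    acyc Ψ Z := by
  let S : ShortComplex B := ShortComplex.mk (kernel.ι f) f (kernel.condition f)
  have hS : S.ShortExact :=
    { exact := ShortComplex.exact_of_f_is_kernel _ (kernelIsKernel f)
      mono_f := by dsimp only [S]; infer_instance
      epi_g := by dsimp only [S]; infer_instance }
  exact (FAcyc.h2 Ψ S hS hK).1 hX

omit [PreservesFiniteLimits Ψ] in
lemma acyc_kernel_of_comp_mono {X Y Z : B} (f : X ⟶ Y) (g : Y ⟶ Z) [Mono g] (φ : X ⟶ Z)
    (hφ : f ≫ g = φ) (h : acyc Ψ (kernel φ)) : acyc Ψ (kernel f) := by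
  subst hφ
  exact acyc_of_iso Ψ (kernelCompMono f g) h

omit [PreservesFiniteLimits Ψ] in
lemma acyc_kernel_of_eq_zero {X Z : B} (φ : X ⟶ Z) (hφ : φ = 0) (hX : acyc Ψ X) :
    acyc Ψ (kernel φ) := by
  subst hφ
  exact acyc_of_iso Ψ (kernelZeroIsoSource (X := X) (Y := Z)).symm hX

/-- `Ψ` preserves the cokernel of a map with acyclic source and acyclic kernel -/
theorem map_exact_of_acyc {X Z Q : B} (f : X ⟶ Z) (π : Z ⟶ Q) (w : f ≫ π = 0)
    (hc : IsColimit (CokernelCofork.ofπ π w)) (hX : acyc Ψ X) (hk : acyc Ψ (kernel f)) :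
    (ShortComplex.mk (Ψ.map f) (Ψ.map π) (by rw [← Ψ.map_comp, w, Ψ.map_zero])).Exact ∧
      Epi (Ψ.map π) := by
  haveI : Epi π := epi_of_isColimit_cofork hc
  -- the image
  let e : X ⟶ kernel π := kernel.lift π f w
  have he : e ≫ kernel.ι π = f := kernel.lift_ι _ _ _
  have hex : (ShortComplex.mk f π w).Exact := ShortComplex.exact_of_g_is_cokernel _ hc
  haveI : Epi e := (ShortComplex.exact_iff_epi_kernel_lift (ShortComplex.mk f π w)).1 hex
  have hke : acyc Ψ (kernel e) := acyc_kernel_of_comp_mono Ψ e (kernel.ι π) f he hk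
  have hI : acyc Ψ (kernel π) := acyc_of_epi Ψ e hX hke
  -- the two short exact sequences
  let T1 : ShortComplex B := ShortComplex.mk (kernel.ι π) π (kernel.condition π)
  have hT1 : T1.ShortExact :=
    { exact := ShortComplex.exact_of_f_is_kernel _ (kernelIsKernel π)
      mono_f := by dsimp only [T1]; infer_instance
      epi_g := by dsimp only [T1]; infer_instance }
  have hT1' : (T1.map Ψ).ShortExact :=
    AcycCompH7.shortExact_map Ψ T1 hT1 (hI 1 Nat.one_pos)
  let T2 : ShortComplex B := ShortComplex.mk (kernel.ι e) e (kernel.condition e)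
  have hT2 : T2.ShortExact :=
    { exact := ShortComplex.exact_of_f_is_kernel _ (kernelIsKernel e)
      mono_f := by dsimp only [T2]; infer_instance
      epi_g := by dsimp only [T2]; infer_instance }
  have hT2' : (T2.map Ψ).ShortExact :=
    AcycCompH7.shortExact_map Ψ T2 hT2 (hke 1 Nat.one_pos)
  haveI hepi1 : Epi (Ψ.map π) := hT1'.epi_g
  haveI hepi2 : Epi (Ψ.map e) := hT2'.epi_g
  refine ⟨?_, hepi1⟩
  let φ : ShortComplex.mk (Ψ.map f) (Ψ.map π) (by rw [← Ψ.map_comp, w, Ψ.map_zero]) ⟶ T1.map Ψ :=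
    { τ₁ := Ψ.map e
      τ₂ := 𝟙 _
      τ₃ := 𝟙 _
      comm₁₂ := by
        show Ψ.map e ≫ Ψ.map (kernel.ι π) = Ψ.map f ≫ 𝟙 (Ψ.obj Z)
        rw [Category.comp_id, ← Ψ.map_comp, he]
      comm₂₃ := by
        show 𝟙 (Ψ.obj Z) ≫ Ψ.map π = Ψ.map π ≫ 𝟙 (Ψ.obj Q)
        rw [Category.comp_id, Category.id_comp] }
  haveI : Epi φ.τ₁ := hepi2
  haveI : IsIso φ.τ₂ := (inferInstance : IsIso (𝟙 (Ψ.obj Z)))
  haveI : Mono φ.τ₃ := (inferInstance : Mono (𝟙 (Ψ.obj Q)))
  exact (ShortComplex.exact_iff_of_epi_of_isIso_of_mono φ).2 hT1'.exact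

/-- `Ψ` commutes with the homology of a short complex whose first object and whose kernel of the
first map are acyclic -/
theorem nonempty_homology_iso (S : ShortComplex B) (hX : acyc Ψ S.X₁)
    (hk : acyc Ψ (kernel S.f)) :
    Nonempty ((S.map Ψ).homology ≅ Ψ.obj S.homology) := by
  let h := S.leftHomologyData
  have hk' : acyc Ψ (kernel h.f') := acyc_kernel_of_comp_mono Ψ h.f' h.i S.f h.f'_i hk
  obtain ⟨hex, hepi⟩ := map_exact_of_acyc Ψ h.f' h.π h.f'_π h.hπ' hX hk'
  haveI := hepi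
  have hcol : IsColimit (CokernelCofork.ofπ (Ψ.map h.π)
      (by rw [← Ψ.map_comp, h.f'_π, Ψ.map_zero] : Ψ.map h.f' ≫ Ψ.map h.π = 0)) :=
    hex.gIsCokernel
  haveI : PreservesColimit (parallelPair h.f' 0) Ψ :=
    preservesColimit_of_preserves_colimit_cocone h.hπ'
      ((isColimitMapCoconeCoforkEquiv' Ψ h.f'_π).symm hcol)
  haveI : h.IsPreservedBy Ψ := ⟨inferInstance, inferInstance⟩
  exact ⟨(h.map Ψ).homologyIso ≪≫ Ψ.mapIso h.homologyIso.symm⟩

/-- `Ψ` commutes with the first possibly non-zero cohomology of a complex of acyclic objects -/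
theorem nonempty_homology_iso_complex (K : CochainComplex B ℕ) (hK : ∀ j, acyc Ψ (K.X j))
    (d : ℕ) (hex : ∀ j, j < d → K.ExactAt j) :
    Nonempty (((Ψ.mapHomologicalComplex (ComplexShape.up ℕ)).obj K).homology d ≅
      Ψ.obj (K.homology d)) := by
  have hZ : ∀ j, j < d → acyc Ψ (kernel (K.d j (j + 1))) := by
    intro j
    induction j with
    | zero =>
      intro h0
      have h1 := (K.exactAt_iff' 0 0 1 (by simp) (by simp)).1 (hex 0 h0)
      haveI : Mono (K.d 0 1) := h1.mono_g (K.shape 0 0 (by simp))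
      exact acyc_of_isZero Ψ (isZero_kernel_of_mono (K.d 0 1))
    | succ j ih =>
      intro hj
      have h1 := (K.exactAt_iff' j (j + 1) (j + 2) (by simp)
        (by simp only [CochainComplex.next]; rfl)).1 (hex (j + 1) hj)
      have h2 := (ShortComplex.exact_iff_epi_kernel_lift (K.sc' j (j + 1) (j + 2))).1 h1
      let l : K.X j ⟶ kernel (K.d (j + 1) (j + 2)) :=
        kernel.lift (K.d (j + 1) (j + 2)) (K.d j (j + 1)) (K.d_comp_d j (j + 1) (j + 2))
      haveI : Epi l := h2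
      have hl : l ≫ kernel.ι (K.d (j + 1) (j + 2)) = K.d j (j + 1) := kernel.lift_ι _ _ _
      have hkl : acyc Ψ (kernel l) :=
        acyc_kernel_of_comp_mono Ψ l (kernel.ι _) (K.d j (j + 1)) hl (ih (by omega))
      exact acyc_of_epi Ψ l (hK j) hkl
  cases d with
  | zero =>
    obtain ⟨e⟩ := nonempty_homology_iso Ψ (K.sc' 0 0 1) (hK 0)
      (acyc_kernel_of_eq_zero Ψ (K.d 0 0) (K.shape 0 0 (by simp)) (hK 0))
    exact ⟨((Ψ.mapHomologicalComplex (ComplexShape.up ℕ)).obj K).homologyIsoSc' 0 0 1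
      (by simp) (by simp) ≪≫ e ≪≫ Ψ.mapIso (K.homologyIsoSc' 0 0 1 (by simp) (by simp)).symm⟩
  | succ e' =>
    obtain ⟨e⟩ := nonempty_homology_iso Ψ (K.sc' e' (e' + 1) (e' + 2)) (hK e')
      (hZ e' (by omega))
    exact ⟨((Ψ.mapHomologicalComplex (ComplexShape.up ℕ)).obj K).homologyIsoSc' e' (e' + 1) (e' + 2)
      (by simp) (by simp only [CochainComplex.next]; rfl) ≪≫ e ≪≫
        Ψ.mapIso (K.homologyIsoSc' e' (e' + 1) (e' + 2) (by simp)
          (by simp only [CochainComplex.next]; rfl)).symm⟩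

end One

section Two

variable {A : Type u₁} [Category.{v₁} A] [Abelian A] [HasInjectiveResolutions A]
  {B : Type u₂} [Category.{v₂} B] [Abelian B] [HasInjectiveResolutions B]
  {C : Type u₃} [Category.{v₃} C] [Abelian C]
  (Φ : A ⥤ B) [Φ.Additive]
  (Ψ : B ⥤ C) [Ψ.Additive] [PreservesFiniteLimits Ψ]

/-- **First non-vanishing derived functor of a composite.** -/
theorem main (hinj : ∀ I : A, Injective I → acyc Ψ (Φ.obj I)) (X : A) (d : ℕ)
    (hX : ∀ i, i < d → IsZero ((Φ.rightDerived i).obj X)) :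
    Nonempty (((Φ ⋙ Ψ).rightDerived d).obj X ≅ Ψ.obj ((Φ.rightDerived d).obj X)) := by
  let R : InjectiveResolution X := injectiveResolution X
  let K : CochainComplex B ℕ := (Φ.mapHomologicalComplex (ComplexShape.up ℕ)).obj R.cocomplex
  have hK : ∀ j, acyc Ψ (K.X j) := fun j => hinj _ (R.injective j)
  have e1 : ∀ i, (Φ.rightDerived i).obj X ≅ K.homology i := fun i => R.isoRightDerivedObj Φ i
  have hex : ∀ j, j < d → K.ExactAt j := by
    intro j hj
    rw [HomologicalComplex.exactAt_iff_isZero_homology]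
    exact IsZero.of_iso (hX j hj) (e1 j).symm
  obtain ⟨e2⟩ := nonempty_homology_iso_complex Ψ K hK d hex
  have e3 : ((Φ ⋙ Ψ).rightDerived d).obj X ≅
      ((Ψ.mapHomologicalComplex (ComplexShape.up ℕ)).obj K).homology d :=
    R.isoRightDerivedObj (Φ ⋙ Ψ) d
  exact ⟨e3 ≪≫ e2 ≪≫ Ψ.mapIso (e1 d).symm⟩

end Two

end Groth.Agent.Lib.FirstDerivedH7
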