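import Mathlib
import Groth.Prelude.Def_Fitting
import Groth.Agent.Lib.Fitt3_helper8
import Groth.Agent.Lib.Fitt4_helper8
import Groth.Agent.Lib.Fitt5_helper8
import Groth.Agent.Lib.Fitt6_helper8
import Groth.Agent.Lib.Fitt7_helper8
import Groth.Agent.Lib.Fitt12_helper8

/-!
# Fitting ideals of finite ring maps (helper7)

Ring-level lemmas on the Fitting ideals of the target of a finite ring homomorphism, regarded as a
module over the source: base change along pushout squares, local freeness criteria.
-/

set_option backward.isDefEq.respectTransparency false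
set_option backward.isDefEq.respectTransparency.types false
set_option linter.style.haveILetI false
set_option linter.unusedSectionVars false
set_option linter.unusedVariables false
set_option autoImplicit false
set_option maxHeartbeats 1600000

universe u

open CategoryTheory CategoryTheory.Limits TensorProduct

namespace Groth.Agent.Lib.FitStratH7

/-- The `k`-th Fitting ideal of the target of a ring map, as a module over the source. -/
noncomputable def fittHom {A B : Type u} [CommRing A] [CommRing B] (f : A →+* B) (k : ℕ) : Ideal A :=
  letI := f.toAlgebra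
  Fitt.ideal A B k

variable {A B : Type u} [CommRing A] [CommRing B]

theorem fittHom_mono (f : A →+* B) {j k : ℕ} (h : j ≤ k) : fittHom f j ≤ fittHom f k := by
  letI := f.toAlgebra
  exact FittH8.fitt_mono (R := A) (M := B) h

theorem exists_fittHom_eq_top (f : A →+* B) (hf : f.Finite) :
    ∃ n : ℕ, ∀ k, n ≤ k → fittHom f k = ⊤ := by
  letI := f.toAlgebra
  haveI : Module.Finite A B := hf
  obtain ⟨n, x, hx⟩ := Module.Finite.exists_fin (R := A) (M := B)
  exact ⟨n, fun k hk => FittH8.fitt_eq_top_of_span x hx k hk⟩

theorem fittHom_eq_top_of_forall_prime (f : A →+* B) (k : ℕ)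
    (h : ∀ (q : Ideal A), q.IsPrime → ¬ fittHom f k ≤ q) : fittHom f k = ⊤ := by
  by_contra hne
  obtain ⟨m, hm, hle⟩ := Ideal.exists_le_maximal _ hne
  exact h m hm.isPrime hle

theorem fittHom_fg (f : A →+* B) (hfin : f.Finite) (hfp : f.FinitePresentation) (k : ℕ) :
    (fittHom f k).FG := by
  letI := f.toAlgebra
  haveI : Module.Finite A B := hfin
  haveI : Algebra.FinitePresentation A B := hfp
  haveI : Module.FinitePresentation A B :=
    Module.FinitePresentation.of_finite_of_finitePresentation A B
  exact FittH8.fitt_fg (R := A) (M := B) k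

/-- Base change of Fitting ideals along a pushout square of commutative rings. -/
theorem fittHom_of_isPushout {A B C D : CommRingCat.{u}} {a : A ⟶ B} {c : A ⟶ C} {b : B ⟶ D}
    {d : C ⟶ D} (h : IsPushout a c b d) (hfin : a.hom.Finite) (k : ℕ) :
    fittHom d.hom k = (fittHom a.hom k).map c.hom := by
  letI iAB : Algebra A B := a.hom.toAlgebra
  letI iAC : Algebra A C := c.hom.toAlgebra
  letI iCD : Algebra C D := d.hom.toAlgebra
  letI iBD : Algebra B D := b.hom.toAlgebra
  letI iAD : Algebra A D := (c ≫ d).hom.toAlgebra
  haveI : IsScalarTower A C D := IsScalarTower.of_algebraMap_eq' rfl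
  haveI : IsScalarTower A B D := IsScalarTower.of_algebraMap_eq' (by
    show (c ≫ d).hom = (b.hom).comp (a.hom)
    rw [← h.w]; rfl)
  haveI : Module.Finite A B := hfin
  have hp : IsPushout (CommRingCat.ofHom (algebraMap A C)) (CommRingCat.ofHom (algebraMap A B))
      (CommRingCat.ofHom (algebraMap C D)) (CommRingCat.ofHom (algebraMap B D)) := h.flip
  have hP : Algebra.IsPushout A C B D := CommRingCat.isPushout_iff_isPushout.mp hp
  have hbc : IsBaseChange C (IsScalarTower.toAlgHom A B D).toLinearMap := hP.out
  have h1 : Fitt.ideal C (C ⊗[A] B) k = Fitt.ideal C D k :=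
    FittH8.fitt_eq_of_linearEquiv hbc.equiv k
  have h2 : Fitt.ideal C (C ⊗[A] B) k = (Fitt.ideal A B k).map (algebraMap A C) :=
    FittH8.fitt_baseChange (R := A) (M := B) C k
  show Fitt.ideal C D k = (Fitt.ideal A B k).map (algebraMap A C)
  rw [← h1, h2]

/-- Fitting ideals detect local freeness of rank `r`: flatness and finite presentation. -/
theorem flat_fp_of_fittHom (f : A →+* B) (hf : f.Finite) (r : ℕ)
    (h1 : ∀ k, k < r → fittHom f k = ⊥) (h2 : ∀ k, r ≤ k → fittHom f k = ⊤) :
    f.Flat ∧ f.FinitePresentation := by
  letI := f.toAlgebra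
  haveI : Module.Finite A B := hf
  have hloc := (FittH8.locally_free_iff_fitt (R := A) (M := B) r).mpr ⟨h1, h2⟩
  obtain ⟨s, hsdef⟩ : ∃ s : Set A, s = {g : A |
      Module.Free (Localization.Away g) (LocalizedModule (Submonoid.powers g) B)} := ⟨_, rfl⟩
  have hs : Ideal.span s = ⊤ := by
    by_contra hne
    obtain ⟨m, hm, hle⟩ := Ideal.exists_le_maximal _ hne
    haveI := hm.isPrime
    obtain ⟨g, hg, hfree, -⟩ := hloc m
    have : g ∈ s := by rw [hsdef]; exact hfree
    exact hg (hle (Ideal.subset_span this))
  subst hsdef
  have hfree : ∀ g : {g : A |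
      Module.Free (Localization.Away g) (LocalizedModule (Submonoid.powers g) B)},
      Module.Free (Localization.Away g.1) (LocalizedModule (Submonoid.powers g.1) B) := by
    intro g
    exact g.2
  have hflat : Module.Flat A B := by
    apply Module.flat_of_localized_span A B _ hs
    intro g
    haveI := hfree g
    haveI : Module.Flat (Localization.Away g.1) (LocalizedModule (Submonoid.powers g.1) B) :=
      inferInstance
    exact Module.Flat.trans A (Localization.Away g.1) (LocalizedModule (Submonoid.powers g.1) B)
  have hfp : Module.FinitePresentation A B := by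
    apply Module.FinitePresentation.of_localizationSpan _ hs
    intro g
    haveI := hfree g
    haveI : Module.Finite (Localization.Away g.1) (LocalizedModule (Submonoid.powers g.1) B) :=
      inferInstanceAs (Module.Finite (Localization (Submonoid.powers g.1))
        (LocalizedModule (Submonoid.powers g.1) B))
    exact Module.finitePresentation_of_projective _ _
  refine ⟨hflat, ?_⟩
  haveI := hfp
  exact (inferInstance : Algebra.FinitePresentation A B)

/-- For a finite flat ring map whose Fitting ideals have the prime-wise behaviour of rank `r`, the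
Fitting ideals below `r` vanish. -/
theorem fittHom_eq_bot_of_flat (f : A →+* B) (hf : f.Finite) (hfl : f.Flat) (r : ℕ)
    (h : ∀ (q : Ideal A), q.IsPrime → ∀ k, (¬ fittHom f k ≤ q ↔ r ≤ k)) :
    ∀ j, j < r → fittHom f j = ⊥ := by
  letI := f.toAlgebra
  haveI : Module.Finite A B := hf
  haveI : Module.Flat A B := hfl
  intro j hj
  apply FittH8.fitt_eq_bot_of_stalks_free (R := A) (M := B) j r hj
  intro p hp
  haveI := hp.isPrime
  haveI : Module.Finite (Localization.AtPrime p) (LocalizedModule p.primeCompl B) :=
    inferInstanceAs (Module.Finite (Localization p.primeCompl) (LocalizedModule p.primeCompl B))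
  haveI : Module.Flat (Localization.AtPrime p) (LocalizedModule p.primeCompl B) := inferInstance
  haveI hfree : Module.Free (Localization.AtPrime p) (LocalizedModule p.primeCompl B) :=
    Module.free_of_flat_of_isLocalRing
  refine ⟨hfree, ?_⟩
  obtain ⟨n, hn⟩ : ∃ n, n = Module.finrank (Localization.AtPrime p)
      (LocalizedModule p.primeCompl B) := ⟨_, rfl⟩
  rw [← hn]
  have b : Module.Basis (Fin n) (Localization.AtPrime p) (LocalizedModule p.primeCompl B) := by
    rw [hn]; exact Module.finBasis _ _
  have hloc : ∀ k, Fitt.ideal (Localization.AtPrime p) (LocalizedModule p.primeCompl B) k =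
      (Fitt.ideal A B k).map (algebraMap A (Localization.AtPrime p)) := fun k =>
    FittH8.fitt_localization p.primeCompl (Localization.AtPrime p) _
      (LocalizedModule.mkLinearMap p.primeCompl B) k
  have hdisj : Disjoint (p.primeCompl : Set A) (p : Set A) := by
    rw [Set.disjoint_left]
    intro x hx hx'
    exact hx hx'
  -- `r ≤ n`
  have h1 : r ≤ n := by
    have ht : Fitt.ideal (Localization.AtPrime p) (LocalizedModule p.primeCompl B) n = ⊤ :=
      FittH8.fitt_of_basis_of_le b n le_rfl
    rw [hloc n] at ht
    have hnle : ¬ fittHom f n ≤ p := by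
      intro hle
      have h3 : (Fitt.ideal A B n).map (algebraMap A (Localization.AtPrime p)) ≤
          p.map (algebraMap A (Localization.AtPrime p)) := Ideal.map_mono hle
      rw [ht, top_le_iff] at h3
      exact (IsLocalization.map_algebraMap_ne_top_iff_disjoint p.primeCompl
        (Localization.AtPrime p) p).mpr hdisj h3
    exact (h p hp.isPrime n).mp hnle
  -- `n ≤ r`
  have h2 : n ≤ r := by
    by_contra hlt
    push Not at hlt
    have hb : Fitt.ideal (Localization.AtPrime p) (LocalizedModule p.primeCompl B) r = ⊥ :=
      FittH8.fitt_of_basis_of_lt b r hlt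
    rw [hloc r] at hb
    have hnle : ¬ fittHom f r ≤ p := (h p hp.isPrime r).mpr le_rfl
    apply hnle
    intro a ha
    have ha0 : algebraMap A (Localization.AtPrime p) a = 0 := by
      have : algebraMap A (Localization.AtPrime p) a ∈
          (Fitt.ideal A B r).map (algebraMap A (Localization.AtPrime p)) :=
        Ideal.mem_map_of_mem _ ha
      rw [hb] at this
      exact this
    obtain ⟨c, hc⟩ := (IsLocalization.map_eq_zero_iff p.primeCompl
      (Localization.AtPrime p) a).mp ha0
    have hmem : (c : A) * a ∈ p := by rw [hc]; exact p.zero_mem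
    rcases (Ideal.IsPrime.mem_or_mem inferInstance hmem) with hc' | ha'
    · exact absurd hc' c.2
    · exact ha'
  exact le_antisymm h2 h1

end Groth.Agent.Lib.FitStratH7
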