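import Mathlib
import Groth.Agent.Lib.FitStrat1_helper7

/-!
# The Fitting ideal sheaves of a finite morphism (helper7)

For a finite morphism `φ : Y ⟶ X` the Fitting ideals of `Γ(Y, φ⁻¹V)` over `Γ(X, V)` form
quasi-coherent ideal sheaves `fitI φ k`.  Their supports are compatible with arbitrary base change;
the rank function `rk φ x` is the least `k` with `x ∉ V(fitI φ k)`.
-/

set_option backward.isDefEq.respectTransparency false
set_option backward.isDefEq.respectTransparency.types false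
set_option linter.style.haveILetI false
set_option linter.unusedSectionVars false
set_option linter.unusedVariables false
set_option autoImplicit false
set_option maxHeartbeats 1600000

universe u

open CategoryTheory CategoryTheory.Limits AlgebraicGeometry TopologicalSpace

namespace Groth.Agent.Lib.FitStratH7

variable {X Y : Scheme.{u}} (φ : Y ⟶ X) [IsFinite φ]

/-- Base change of Fitting ideals of sections along a pullback square. -/
theorem fittHom_app_of_isPullback {P T : Scheme.{u}} {fst : P ⟶ Y} {snd : P ⟶ T} {g : T ⟶ X}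
    (H : IsPullback fst snd φ g) {V : X.Opens} (hV : IsAffineOpen V) {T₁ : T.Opens}
    (hT₁ : IsAffineOpen T₁) (h : T₁ ≤ g ⁻¹ᵁ V) (k : ℕ) :
    fittHom (snd.app T₁).hom k = (fittHom (φ.app V).hom k).map (g.appLE V T₁ h).hom := by
  have hle : snd ⁻¹ᵁ T₁ ≤ fst ⁻¹ᵁ (φ ⁻¹ᵁ V) := by
    intro p hp
    show φ (fst p) ∈ V
    have e : φ (fst p) = g (snd p) := by
      rw [← Scheme.Hom.comp_apply, ← Scheme.Hom.comp_apply, H.w]
    rw [e]
    exact h hp
  have hUY : snd ⁻¹ᵁ T₁ = fst ⁻¹ᵁ (φ ⁻¹ᵁ V) ⊓ snd ⁻¹ᵁ T₁ :=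
    le_antisymm (le_inf hle le_rfl) inf_le_right
  haveI := isIso_pushoutSection_of_isAffineOpen H h (le_refl (φ ⁻¹ᵁ V)) hUY hV hT₁ (hV.preimage φ)
  have hpo := (isIso_pushoutSection_iff H h (le_refl (φ ⁻¹ᵁ V)) hUY).mp inferInstance
  have hfin : (φ.appLE V (φ ⁻¹ᵁ V) (le_refl _)).hom.Finite := by
    rw [← Scheme.Hom.app_eq_appLE]
    exact IsFinite.finite_app φ V hV
  have key := fittHom_of_isPushout hpo hfin k
  have e1 : snd.appLE T₁ (snd ⁻¹ᵁ T₁) (le_refl _) = snd.app T₁ :=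
    (Scheme.Hom.app_eq_appLE (f := snd) (U := T₁)).symm
  have e2 : φ.appLE V (φ ⁻¹ᵁ V) (le_refl _) = φ.app V :=
    (Scheme.Hom.app_eq_appLE (f := φ) (U := V)).symm
  rw [e2] at key
  rw [← e1]
  exact key

/-- The `k`-th Fitting ideal sheaf of a finite morphism. -/
noncomputable def fitI (k : ℕ) : X.IdealSheafData where
  ideal V := fittHom (φ.app V.1).hom k
  map_ideal_basicOpen V f := by
    have H : IsPullback (𝟙 Y) φ φ (𝟙 X) := IsPullback.of_id_fst
    have hle : X.basicOpen f ≤ (𝟙 X) ⁻¹ᵁ V.1 := X.basicOpen_le f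
    have key := fittHom_app_of_isPullback φ H V.2 (V.2.basicOpen f) hle k
    have e : (𝟙 X : X ⟶ X).appLE V.1 (X.basicOpen f) hle =
        X.presheaf.map (homOfLE (X.basicOpen_le f)).op := by
      simp [Scheme.Hom.appLE]
    rw [e] at key
    exact key.symm

theorem fitI_ideal (k : ℕ) (V : X.affineOpens) :
    (fitI φ k).ideal V = fittHom (φ.app V.1).hom k := rfl

theorem fitI_mono {j k : ℕ} (h : j ≤ k) : fitI φ j ≤ fitI φ k := fun V =>
  fittHom_mono _ h

theorem support_fitI_antitone {j k : ℕ} (h : j ≤ k) :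
    (fitI φ k).support ≤ (fitI φ j).support :=
  Scheme.IdealSheafData.support_antitone (fitI_mono φ h)

theorem mem_support_fitI_iff {k : ℕ} {x : X} {V : X.Opens} (hV : IsAffineOpen V) (hx : x ∈ V) :
    x ∈ (fitI φ k).support ↔
      x ∈ X.zeroLocus (U := V) (fittHom (φ.app V).hom k : Set Γ(X, V)) :=
  Scheme.IdealSheafData.mem_support_iff_of_mem (I := fitI φ k) (U := ⟨V, hV⟩) hx

/-- Points of the zero locus of an ideal of sections over an affine open, via prime ideals. -/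
theorem mem_zeroLocus_iff_le_primeIdealOf {V : X.Opens} (hV : IsAffineOpen V)
    (I : Ideal Γ(X, V)) {x : X} (hx : x ∈ V) :
    x ∈ X.zeroLocus (U := V) (I : Set Γ(X, V)) ↔ I ≤ (hV.primeIdealOf ⟨x, hx⟩).asIdeal := by
  have hb : ∀ f : Γ(X, V), x ∈ X.basicOpen f ↔ f ∉ (hV.primeIdealOf ⟨x, hx⟩).asIdeal := by
    intro f
    have h1 : hV.fromSpec (hV.primeIdealOf ⟨x, hx⟩) = x := hV.fromSpec_primeIdealOf ⟨x, hx⟩
    have h2 : hV.fromSpec ⁻¹ᵁ X.basicOpen f = PrimeSpectrum.basicOpen f :=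
      hV.fromSpec_preimage_basicOpen f
    constructor
    · intro hxf
      have : hV.primeIdealOf ⟨x, hx⟩ ∈ hV.fromSpec ⁻¹ᵁ X.basicOpen f := by
        show hV.fromSpec (hV.primeIdealOf ⟨x, hx⟩) ∈ X.basicOpen f
        rw [h1]; exact hxf
      rw [h2] at this
      exact this
    · intro hf
      have : hV.primeIdealOf ⟨x, hx⟩ ∈ hV.fromSpec ⁻¹ᵁ X.basicOpen f := by
        rw [h2]; exact hf
      have h3 : hV.fromSpec (hV.primeIdealOf ⟨x, hx⟩) ∈ X.basicOpen f := this
      rw [h1] at h3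
      exact h3
  rw [Scheme.mem_zeroLocus_iff]
  constructor
  · intro h f hf
    by_contra hnot
    exact h f hf ((hb f).mpr hnot)
  · intro h f hf hxf
    exact (hb f).mp hxf (h hf)

/-- Every prime of the sections over an affine open comes from a point. -/
theorem primeIdealOf_fromSpec {V : X.Opens} (hV : IsAffineOpen V) (q : PrimeSpectrum Γ(X, V)) :
    ∃ (x : X) (hx : x ∈ V), hV.primeIdealOf ⟨x, hx⟩ = q := by
  have hmem : hV.fromSpec q ∈ V := by
    have h : hV.fromSpec q ∈ Set.range hV.fromSpec := Set.mem_range_self q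
    rw [hV.range_fromSpec] at h
    exact h
  exact ⟨hV.fromSpec q, hmem,
    hV.fromSpec.isOpenEmbedding.injective (hV.fromSpec_primeIdealOf _)⟩

/-- Supports of Fitting ideal sheaves are compatible with base change. -/
theorem mem_support_fitI_of_isPullback {P T : Scheme.{u}} {fst : P ⟶ Y} {snd : P ⟶ T}
    {g : T ⟶ X} (H : IsPullback fst snd φ g) [IsFinite snd] (k : ℕ) (t : T) :
    t ∈ (fitI snd k).support ↔ g t ∈ (fitI φ k).support := by
  obtain ⟨_, ⟨V, hV : IsAffineOpen V, rfl⟩, hxV, -⟩ :=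
    X.isBasis_affineOpens.exists_subset_of_mem_open (Set.mem_univ (g t)) isOpen_univ
  have hxV' : g t ∈ V := hxV
  have htV : t ∈ g ⁻¹ᵁ V := hxV'
  obtain ⟨_, ⟨T₁, hT₁ : IsAffineOpen T₁, rfl⟩, htT₁, hle⟩ :=
    T.isBasis_affineOpens.exists_subset_of_mem_open htV (g ⁻¹ᵁ V).isOpen
  have htT₁' : t ∈ T₁ := htT₁
  have hle' : T₁ ≤ g ⁻¹ᵁ V := hle
  rw [mem_support_fitI_iff snd hT₁ htT₁', mem_support_fitI_iff φ hV hxV',
    fittHom_app_of_isPullback φ H hV hT₁ hle' k]
  obtain ⟨I, hI⟩ : ∃ I : Ideal Γ(X, V), I = fittHom (φ.app V).hom k := ⟨_, rfl⟩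
  rw [← hI]
  have hmap : (I.map (g.appLE V T₁ hle').hom : Set Γ(T, T₁)) =
      (Ideal.span ((g.appLE V T₁ hle').hom '' (I : Set Γ(X, V))) : Set Γ(T, T₁)) := rfl
  rw [hmap, Scheme.zeroLocus_span, Scheme.mem_zeroLocus_iff, Scheme.mem_zeroLocus_iff]
  constructor
  · intro h a ha hxa
    apply h _ ⟨a, ha, rfl⟩
    show t ∈ T.basicOpen ((g.appLE V T₁ hle') a)
    rw [Scheme.basicOpen_appLE]
    exact ⟨htT₁', hxa⟩
  · rintro h _ ⟨a, ha, rfl⟩ hta
    have hta' : t ∈ T.basicOpen ((g.appLE V T₁ hle') a) := hta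
    rw [Scheme.basicOpen_appLE] at hta'
    exact h a ha hta'.2

theorem exists_notMem_support_fitI (x : X) : ∃ k, x ∉ (fitI φ k).support := by
  obtain ⟨_, ⟨V, hV : IsAffineOpen V, rfl⟩, hxV, -⟩ :=
    X.isBasis_affineOpens.exists_subset_of_mem_open (Set.mem_univ x) isOpen_univ
  have hxV' : x ∈ V := hxV
  obtain ⟨n, hn⟩ := exists_fittHom_eq_top (φ.app V).hom (IsFinite.finite_app φ V hV)
  refine ⟨n, ?_⟩
  rw [mem_support_fitI_iff φ hV hxV', hn n le_rfl, Scheme.mem_zeroLocus_iff]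
  intro h
  apply h 1 (by trivial)
  rw [Scheme.basicOpen_of_isUnit _ isUnit_one]
  exact hxV'

/-- The rank function of a finite morphism: the least `k` such that `x ∉ V(Fit_k)`. -/
noncomputable def rk (x : X) : ℕ := by
  classical
  exact Nat.find (exists_notMem_support_fitI φ x)

theorem rk_le_iff (x : X) (k : ℕ) : rk φ x ≤ k ↔ x ∉ (fitI φ k).support := by
  classical
  constructor
  · intro h hx
    have h1 : x ∉ (fitI φ (rk φ x)).support := Nat.find_spec (exists_notMem_support_fitI φ x)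
    exact h1 (support_fitI_antitone φ h hx)
  · intro h
    exact Nat.find_min' (exists_notMem_support_fitI φ x) h

theorem rk_of_isPullback {P T : Scheme.{u}} {fst : P ⟶ Y} {snd : P ⟶ T}
    {g : T ⟶ X} (H : IsPullback fst snd φ g) [IsFinite snd] (t : T) :
    rk snd t = rk φ (g t) := by
  apply le_antisymm
  · rw [rk_le_iff, mem_support_fitI_of_isPullback φ H, ← rk_le_iff]
  · rw [rk_le_iff, ← mem_support_fitI_of_isPullback φ H, ← rk_le_iff]

theorem isOpen_rk_le (k : ℕ) : IsOpen {x : X | rk φ x ≤ k} := by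
  have : {x : X | rk φ x ≤ k} = ((fitI φ k).support : Set X)ᶜ := by
    ext x
    exact rk_le_iff φ x k
  rw [this]
  exact (fitI φ k).support.isClosed.isOpen_compl

/-- The locus where the rank function is locally constant. -/
def lcLocus : Set X := {x | ∃ N : Set X, IsOpen N ∧ x ∈ N ∧ ∀ y ∈ N, rk φ y = rk φ x}

theorem isOpen_lcLocus : IsOpen (lcLocus φ) := by
  rw [isOpen_iff_forall_mem_open]
  rintro x ⟨N, hN, hxN, hc⟩
  refine ⟨N, ?_, hN, hxN⟩
  intro y hy
  exact ⟨N, hN, hy, fun z hz => by rw [hc z hz, hc y hy]⟩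

/-- An open set on which the rank is constant lies in the locally constant locus. -/
theorem subset_lcLocus {N : Set X} (hN : IsOpen N) {r : ℕ} (h : ∀ y ∈ N, rk φ y = r) :
    N ⊆ lcLocus φ := fun x hx => ⟨N, hN, hx, fun y hy => by rw [h y hy, h x hx]⟩

end Groth.Agent.Lib.FitStratH7
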