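import Mathlib
import Groth.Agent.Lib.FitStrat2_helper7
import Groth.Agent.Lib.SchemeIdem_helper3

/-!
# The flattening ideal sheaf of a finite morphism with locally constant rank (helper7)

For a finite morphism `φ : Y ⟶ X` whose rank function is locally constant, the ideal sheaf
`flatI φ` is, on the clopen set where the rank is `r + 1`, the `r`-th Fitting ideal sheaf (and zero
where the rank is zero).
-/

set_option backward.isDefEq.respectTransparency false
set_option backward.isDefEq.respectTransparency.types false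
set_option linter.style.haveILetI false
set_option linter.unusedSectionVars false
set_option linter.unusedVariables false
set_option autoImplicit false
set_option maxHeartbeats 1600000

universe u

open CategoryTheory CategoryTheory.Limits AlgebraicGeometry TopologicalSpace

namespace Groth.Agent.Lib.FitStratH7

section Idem

variable {X : Scheme.{u}}

theorem res_eq_one_of_le {e : Γ(X, ⊤)} (he : IsIdempotentElem e) {V : X.Opens}
    (h : V ≤ X.basicOpen e) : X.presheaf.map (homOfLE (le_top : V ≤ ⊤)).op e = 1 := by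
  have h1 := Groth.Agent.Lib.SchemeIdemH3.res_basicOpen_eq_one X he
  have h2 : X.presheaf.map (homOfLE (le_top : V ≤ ⊤)).op e =
      X.presheaf.map (homOfLE h).op
        (X.presheaf.map (homOfLE (le_top : X.basicOpen e ≤ ⊤)).op e) := by
    rw [← CommRingCat.comp_apply, ← Functor.map_comp]
    rfl
  rw [h2, h1, map_one]

theorem res_eq_zero_of_disjoint {e : Γ(X, ⊤)} (he : IsIdempotentElem e) {V : X.Opens}
    (h : ∀ x ∈ V, x ∉ X.basicOpen e) : X.presheaf.map (homOfLE (le_top : V ≤ ⊤)).op e = 0 := by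
  have hle : V ≤ X.basicOpen (1 - e) := by
    intro x hx
    have hx' : x ∈ X.basicOpen e ⊔ X.basicOpen (1 - e) := by
      rw [Groth.Agent.Lib.SchemeIdemH3.basicOpen_sup_eq_top]; trivial
    rcases hx' with h' | h'
    · exact absurd h' (h x hx)
    · exact h'
  have h1 := res_eq_one_of_le he.one_sub hle
  rw [map_sub, map_one] at h1
  exact sub_eq_self.mp h1

end Idem

variable {X Y : Scheme.{u}} (φ : Y ⟶ X) [IsFinite φ]

theorem isClopen_rk_eq (hlc : ∀ x, x ∈ lcLocus φ) (r : ℕ) : IsClopen {x : X | rk φ x = r} := by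
  have hopen : ∀ r : ℕ, IsOpen {x : X | rk φ x = r} := by
    intro r
    rw [isOpen_iff_forall_mem_open]
    intro x hx
    obtain ⟨N, hN, hxN, hc⟩ := hlc x
    exact ⟨N, fun y hy => by show rk φ y = r; rw [hc y hy]; exact hx, hN, hxN⟩
  refine ⟨?_, hopen r⟩
  have : {x : X | rk φ x = r}ᶜ = ⋃ r' ∈ {r' : ℕ | r' ≠ r}, {x : X | rk φ x = r'} := by
    ext x
    simp only [Set.mem_compl_iff, Set.mem_iUnion, exists_prop]
    constructor
    · intro h; exact ⟨rk φ x, h, rfl⟩
    · rintro ⟨r', hr', hx⟩ hx2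
      have h1 : rk φ x = r' := hx
      have h2 : rk φ x = r := hx2
      exact hr' (h1.symm.trans h2)
  rw [← isOpen_compl_iff, this]
  exact isOpen_biUnion fun r' _ => hopen r'

/-- The idempotent cutting out the clopen set where the rank is `r`. -/
noncomputable def rkIdem (hlc : ∀ x, x ∈ lcLocus φ) (r : ℕ) : Γ(X, ⊤) :=
  (Groth.Agent.Lib.SchemeIdemH3.exists_idem_of_isClopen X _ (isClopen_rk_eq φ hlc r)).choose

theorem rkIdem_idem (hlc : ∀ x, x ∈ lcLocus φ) (r : ℕ) : IsIdempotentElem (rkIdem φ hlc r) :=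
  (Groth.Agent.Lib.SchemeIdemH3.exists_idem_of_isClopen X _ (isClopen_rk_eq φ hlc r)).choose_spec.1

theorem mem_basicOpen_rkIdem (hlc : ∀ x, x ∈ lcLocus φ) (r : ℕ) (x : X) :
    x ∈ X.basicOpen (rkIdem φ hlc r) ↔ rk φ x = r := by
  have := (Groth.Agent.Lib.SchemeIdemH3.exists_idem_of_isClopen X _
    (isClopen_rk_eq φ hlc r)).choose_spec.2
  have h2 : x ∈ (X.basicOpen (rkIdem φ hlc r) : Set X) ↔ x ∈ {x : X | rk φ x = r} := by
    rw [← this]; rfl
  exact h2

/-- The flattening ideal sheaf. -/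
noncomputable def flatI (hlc : ∀ x, x ∈ lcLocus φ) : X.IdealSheafData :=
  ⨆ r : ℕ, fitI φ r ⊓ Scheme.IdealSheafData.ofIdealTop (Ideal.span {rkIdem φ hlc (r + 1)})

theorem flatI_ideal (hlc : ∀ x, x ∈ lcLocus φ) (V : X.affineOpens) :
    (flatI φ hlc).ideal V = ⨆ r : ℕ, fittHom (φ.app V.1).hom r ⊓
      Ideal.span {X.presheaf.map (homOfLE (le_top : V.1 ≤ ⊤)).op (rkIdem φ hlc (r + 1))} := by
  unfold flatI
  rw [Scheme.IdealSheafData.ideal_iSup, iSup_apply]
  congr 1
  funext r
  rw [Scheme.IdealSheafData.ideal_inf]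
  show (fitI φ r).ideal V ⊓ (Scheme.IdealSheafData.ofIdealTop _).ideal V = _
  rw [Scheme.IdealSheafData.ofIdealTop_ideal, Ideal.map_span, Set.image_singleton]
  rfl

theorem flatI_ideal_of_rk_zero (hlc : ∀ x, x ∈ lcLocus φ) (V : X.affineOpens)
    (hV : ∀ x ∈ V.1, rk φ x = 0) : (flatI φ hlc).ideal V = ⊥ := by
  rw [flatI_ideal, eq_bot_iff]
  apply iSup_le
  intro r
  have : X.presheaf.map (homOfLE (le_top : V.1 ≤ ⊤)).op (rkIdem φ hlc (r + 1)) = 0 := by
    apply res_eq_zero_of_disjoint (rkIdem_idem φ hlc (r + 1))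
    intro x hx hx'
    rw [mem_basicOpen_rkIdem, hV x hx] at hx'
    omega
  rw [this]
  intro a ha
  have := ha.2
  simpa using this

theorem flatI_ideal_of_rk_succ (hlc : ∀ x, x ∈ lcLocus φ) (V : X.affineOpens) (r : ℕ)
    (hV : ∀ x ∈ V.1, rk φ x = r + 1) :
    (flatI φ hlc).ideal V = fittHom (φ.app V.1).hom r := by
  rw [flatI_ideal]
  apply le_antisymm
  · apply iSup_le
    intro r'
    by_cases hr : r' = r
    · subst hr
      exact inf_le_left
    · have : X.presheaf.map (homOfLE (le_top : V.1 ≤ ⊤)).op (rkIdem φ hlc (r' + 1)) = 0 := by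
        apply res_eq_zero_of_disjoint (rkIdem_idem φ hlc (r' + 1))
        intro x hx hx'
        rw [mem_basicOpen_rkIdem, hV x hx] at hx'
        omega
      rw [this]
      intro a ha
      have h0 := ha.2
      have h1 : a = 0 := by simpa using h0
      rw [h1]
      exact Ideal.zero_mem _
  · refine le_trans ?_ (le_iSup _ r)
    have : X.presheaf.map (homOfLE (le_top : V.1 ≤ ⊤)).op (rkIdem φ hlc (r + 1)) = 1 := by
      apply res_eq_one_of_le (rkIdem_idem φ hlc (r + 1))
      intro x hx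
      rw [mem_basicOpen_rkIdem]
      exact hV x hx
    rw [this, Ideal.span_singleton_one, inf_top_eq]

/-- Around every point there are arbitrarily small affine opens on which the rank is constant. -/
theorem exists_affine_rk_const (hlc : ∀ x, x ∈ lcLocus φ) (x : X) (O : X.Opens) (hxO : x ∈ O) :
    ∃ V : X.Opens, IsAffineOpen V ∧ x ∈ V ∧ V ≤ O ∧ ∀ y ∈ V, rk φ y = rk φ x := by
  obtain ⟨N, hN, hxN, hc⟩ := hlc x
  have hopen : IsOpen (N ∩ (O : Set X)) := hN.inter O.isOpen
  obtain ⟨_, ⟨V, hV : IsAffineOpen V, rfl⟩, hxV, hVN⟩ :=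
    X.isBasis_affineOpens.exists_subset_of_mem_open (⟨hxN, hxO⟩ : x ∈ N ∩ (O : Set X)) hopen
  exact ⟨V, hV, hxV, fun y hy => (hVN hy).2, fun y hy => hc y (hVN hy).1⟩

theorem support_flatI (hlc : ∀ x, x ∈ lcLocus φ) : (flatI φ hlc).support = ⊤ := by
  rw [eq_top_iff]
  intro x _
  obtain ⟨V, hV, hxV, -, hc⟩ := exists_affine_rk_const φ hlc x ⊤ trivial
  rw [Scheme.IdealSheafData.mem_support_iff_of_mem (U := ⟨V, hV⟩) hxV]
  rcases Nat.eq_zero_or_eq_succ_pred (rk φ x) with h0 | h1
  · rw [flatI_ideal_of_rk_zero φ hlc ⟨V, hV⟩ (fun y hy => by rw [hc y hy, h0]),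
      Scheme.mem_zeroLocus_iff]
    intro f hf
    have hf0 : f = 0 := hf
    rw [hf0, Scheme.basicOpen_zero]
    exact fun h => h
  · rw [flatI_ideal_of_rk_succ φ hlc ⟨V, hV⟩ (rk φ x - 1) (fun y hy => by rw [hc y hy]; exact h1),
      ← mem_support_fitI_iff φ hV hxV, ← not_not (a := x ∈ (fitI φ (rk φ x - 1)).support),
      ← rk_le_iff]
    omega

end Groth.Agent.Lib.FitStratH7
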