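import Mathlib
import Groth.Prelude.Def_Mor2
import Groth.Agent.Lib.FitStrat3_helper7

/-!
# Universal property of the flattening subscheme (helper7)

For a finite morphism `φ : Y ⟶ X` with locally constant rank, a morphism `g : T ⟶ X` factors through
the closed subscheme cut out by `flatI φ` if and only if the base change of `φ` along `g` is finite
locally free.
-/

set_option backward.isDefEq.respectTransparency false
set_option backward.isDefEq.respectTransparency.types false
set_option linter.style.haveILetI false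
set_option linter.unusedSectionVars false
set_option linter.unusedVariables false
set_option autoImplicit false
set_option maxHeartbeats 1600000

universe u

open CategoryTheory CategoryTheory.Limits AlgebraicGeometry TopologicalSpace

namespace Groth.Agent.Lib.FitStratH7

variable {X Y : Scheme.{u}} (φ : Y ⟶ X) [IsFinite φ]

/-- On an affine open where the rank is at most `k`, the `k`-th Fitting ideal is the unit ideal. -/
theorem fittHom_app_eq_top {V : X.Opens} (hV : IsAffineOpen V) (k : ℕ)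
    (h : ∀ y ∈ V, rk φ y ≤ k) : fittHom (φ.app V).hom k = ⊤ := by
  apply fittHom_eq_top_of_forall_prime
  intro q hq hle
  obtain ⟨x', hx', hq'⟩ := primeIdealOf_fromSpec hV ⟨q, hq⟩
  have h1 : x' ∈ X.zeroLocus (U := V) (fittHom (φ.app V).hom k : Set Γ(X, V)) := by
    rw [mem_zeroLocus_iff_le_primeIdealOf hV _ hx', hq']
    exact hle
  rw [← mem_support_fitI_iff φ hV hx'] at h1
  exact (rk_le_iff φ x' k).mp (h x' hx') h1

/-- Prime-wise behaviour of the Fitting ideals over an affine open with constant rank. -/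
theorem not_fittHom_le_iff {V : X.Opens} (hV : IsAffineOpen V) (r : ℕ)
    (h : ∀ y ∈ V, rk φ y = r) (q : Ideal Γ(X, V)) (hq : q.IsPrime) (k : ℕ) :
    ¬ fittHom (φ.app V).hom k ≤ q ↔ r ≤ k := by
  obtain ⟨x', hx', hq'⟩ := primeIdealOf_fromSpec hV ⟨q, hq⟩
  have hq'' : (hV.primeIdealOf ⟨x', hx'⟩).asIdeal = q := by rw [hq']
  rw [← hq'', ← mem_zeroLocus_iff_le_primeIdealOf hV _ hx', ← mem_support_fitI_iff φ hV hx',
    ← rk_le_iff, h x' hx']

theorem isFinLocFree_snd_subschemeι (hlc : ∀ x, x ∈ lcLocus φ) {P : Scheme.{u}} {fst : P ⟶ Y}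
    {snd : P ⟶ (flatI φ hlc).subscheme}
    (H : IsPullback fst snd φ (flatI φ hlc).subschemeι) : Mor2.IsFinLocFree snd := by
  haveI hfin : IsFinite snd := MorphismProperty.of_isPullback (P := @IsFinite) H inferInstance
  obtain ⟨ι, hι⟩ : ∃ ι : (flatI φ hlc).subscheme ⟶ X, ι = (flatI φ hlc).subschemeι := ⟨_, rfl⟩
  have key : ∀ z : (flatI φ hlc).subscheme, ∃ O : (flatI φ hlc).subscheme.Opens,
      IsAffineOpen O ∧ z ∈ O ∧ (snd.app O).hom.Flat ∧ (snd.app O).hom.FinitePresentation := by
    intro z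
    obtain ⟨V, hV, hxV, -, hc⟩ :=
      exists_affine_rk_const φ hlc ((flatI φ hlc).subschemeι z) ⊤ trivial
    have hO : IsAffineOpen ((flatI φ hlc).subschemeι ⁻¹ᵁ V) := hV.preimage _
    refine ⟨(flatI φ hlc).subschemeι ⁻¹ᵁ V, hO, hxV, ?_⟩
    have hfit : ∀ k, fittHom (snd.app ((flatI φ hlc).subschemeι ⁻¹ᵁ V)).hom k =
        (fittHom (φ.app V).hom k).map ((flatI φ hlc).subschemeι.app V).hom := by
      intro k
      have h1 := fittHom_app_of_isPullback φ H hV hO (le_refl _) k
      rw [← Scheme.Hom.app_eq_appLE] at h1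
      exact h1
    have hker : RingHom.ker ((flatI φ hlc).subschemeι.app V).hom =
        (flatI φ hlc).ideal ⟨V, hV⟩ := (flatI φ hlc).ker_subschemeι_app ⟨V, hV⟩
    obtain ⟨r₀, hr₀⟩ : ∃ r₀, r₀ = rk φ ((flatI φ hlc).subschemeι z) := ⟨_, rfl⟩
    have hc' : ∀ y ∈ V, rk φ y = r₀ := fun y hy => by rw [hc y hy, hr₀]
    apply flat_fp_of_fittHom (snd.app ((flatI φ hlc).subschemeι ⁻¹ᵁ V)).hom
      (IsFinite.finite_app snd _ hO) r₀
    · intro k hk
      rw [hfit k, Ideal.map_eq_bot_iff_le_ker, hker]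
      obtain ⟨r, hr⟩ : ∃ r, r₀ = r + 1 := ⟨r₀ - 1, by omega⟩
      rw [flatI_ideal_of_rk_succ φ hlc ⟨V, hV⟩ r (fun y hy => by rw [hc' y hy, hr])]
      exact fittHom_mono _ (by omega)
    · intro k hk
      rw [hfit k, fittHom_app_eq_top φ hV k (fun y hy => by rw [hc' y hy]; exact hk),
        Ideal.map_top]
  refine ⟨hfin, ?_, ?_⟩
  · rw [HasRingHomProperty.iff_exists_appLE (P := @Flat)
      (RingHom.Flat.stableUnderComposition.stableUnderCompositionWithLocalizationAway
        RingHom.Flat.holdsForLocalizationAway).left]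
    intro p
    obtain ⟨O, hO, hzO, h1, -⟩ := key (snd p)
    refine ⟨⟨O, hO⟩, ⟨snd ⁻¹ᵁ O, hO.preimage snd⟩, hzO, le_rfl, ?_⟩
    rw [← Scheme.Hom.app_eq_appLE]
    exact h1
  · rw [HasRingHomProperty.iff_exists_appLE (P := @LocallyOfFinitePresentation)
      (RingHom.finitePresentation_stableUnderComposition.stableUnderCompositionWithLocalizationAway
        RingHom.finitePresentation_holdsForLocalizationAway).left]
    intro p
    obtain ⟨O, hO, hzO, -, h2⟩ := key (snd p)
    refine ⟨⟨O, hO⟩, ⟨snd ⁻¹ᵁ O, hO.preimage snd⟩, hzO, le_rfl, ?_⟩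
    rw [← Scheme.Hom.app_eq_appLE]
    exact h2

/-- If `g` factors through the flattening subscheme then the base change of `φ` along `g` is
finite locally free. -/
theorem isFinLocFree_of_factors (hlc : ∀ x, x ∈ lcLocus φ) {P T : Scheme.{u}} {fst : P ⟶ Y}
    {snd : P ⟶ T} {g : T ⟶ X} (H : IsPullback fst snd φ g)
    (l : T ⟶ (flatI φ hlc).subscheme) (hl : l ≫ (flatI φ hlc).subschemeι = g) :
    Mor2.IsFinLocFree snd := by
  subst hl
  have H₀ := IsPullback.of_hasPullback φ (flatI φ hlc).subschemeι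
  have h0 := isFinLocFree_snd_subschemeι φ hlc H₀
  have hsq : IsPullback (pullback.lift fst (snd ≫ l) (by rw [H.w, Category.assoc])) snd
      (pullback.snd φ (flatI φ hlc).subschemeι) l := by
    apply IsPullback.of_right (t := H₀)
    · rw [pullback.lift_fst]
      exact H
    · rw [pullback.lift_snd]
  obtain ⟨h1, h2, h3⟩ := h0
  haveI := h1
  haveI := h2
  haveI := h3
  exact ⟨MorphismProperty.of_isPullback (P := @IsFinite) hsq inferInstance,
    MorphismProperty.of_isPullback (P := @Flat) hsq inferInstance,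
    MorphismProperty.of_isPullback (P := @LocallyOfFinitePresentation) hsq inferInstance⟩

/-- If the base change of `φ` along `g` is finite and flat then `g` factors through the flattening
subscheme. -/
theorem exists_lift_of_flat (hlc : ∀ x, x ∈ lcLocus φ) {P T : Scheme.{u}} {fst : P ⟶ Y}
    {snd : P ⟶ T} {g : T ⟶ X} (H : IsPullback fst snd φ g) [IsFinite snd] [Flat snd] :
    ∃ l : T ⟶ (flatI φ hlc).subscheme, l ≫ (flatI φ hlc).subschemeι = g := by
  have hle : flatI φ hlc ≤ g.ker := by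
    unfold Scheme.Hom.ker
    rw [Scheme.IdealSheafData.le_ofIdeals_iff]
    intro V a ha
    rw [RingHom.mem_ker]
    apply T.IsSheaf.section_ext
    intro t ht
    have ht' : g t ∈ V.1 := ht
    obtain ⟨V', hV', hxV', hV'V, hc⟩ := exists_affine_rk_const φ hlc (g t) V.1 ht'
    have htV' : t ∈ g ⁻¹ᵁ V' := hxV'
    obtain ⟨_, ⟨T₁, hT₁ : IsAffineOpen T₁, rfl⟩, htT₁, hle⟩ :=
      T.isBasis_affineOpens.exists_subset_of_mem_open htV' (g ⁻¹ᵁ V').isOpen
    have htT₁' : t ∈ T₁ := htT₁
    have hle' : T₁ ≤ g ⁻¹ᵁ V' := hle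
    have hleV : T₁ ≤ g ⁻¹ᵁ V.1 := fun y hy => hV'V (hle' hy)
    refine ⟨T₁, hleV, htT₁', ?_⟩
    rw [map_zero]
    -- the restriction of `a` to `V'`
    obtain ⟨a', ha'⟩ : ∃ a' : Γ(X, V'), a' = X.presheaf.map (homOfLE hV'V).op a := ⟨_, rfl⟩
    have e1 : T.presheaf.map (homOfLE hleV).op ((g.app V.1) a) = (g.appLE V' T₁ hle') a' := by
      have h1 : X.presheaf.map (homOfLE hV'V).op ≫ g.appLE V' T₁ hle' = g.appLE V.1 T₁ hleV :=
        Scheme.Hom.map_appLE g hle' (homOfLE hV'V).op
      have h2 : (g.appLE V.1 T₁ hleV) a = (g.appLE V' T₁ hle') a' := by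
        rw [← h1, ha']
        rfl
      rw [← h2]
      rfl
    rw [e1]
    have ha'mem : a' ∈ (flatI φ hlc).ideal ⟨V', hV'⟩ := by
      have := (flatI φ hlc).ideal_le_comap_ideal (U := ⟨V', hV'⟩) (V := V) hV'V ha
      rw [ha']
      exact this
    rcases Nat.eq_zero_or_eq_succ_pred (rk φ (g t)) with h0 | h1
    · rw [flatI_ideal_of_rk_zero φ hlc ⟨V', hV'⟩ (fun y hy => by rw [hc y hy, h0])] at ha'mem
      have : a' = 0 := ha'mem
      rw [this, map_zero]
    · obtain ⟨r, hr⟩ : ∃ r, r = rk φ (g t) - 1 := ⟨_, rfl⟩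
      have hr1 : rk φ (g t) = r + 1 := by rw [hr]; exact h1
      rw [flatI_ideal_of_rk_succ φ hlc ⟨V', hV'⟩ r (fun y hy => by rw [hc y hy, hr1])] at ha'mem
      have hmem : (g.appLE V' T₁ hle') a' ∈
          (fittHom (φ.app V').hom r).map (g.appLE V' T₁ hle').hom :=
        Ideal.mem_map_of_mem _ ha'mem
      rw [← fittHom_app_of_isPullback φ H hV' hT₁ hle' r] at hmem
      have hflat : (snd.app T₁).hom.Flat := by
        have := Scheme.Hom.flat_appLE snd hT₁ (hT₁.preimage snd) (le_refl _)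
        rw [← Scheme.Hom.app_eq_appLE] at this
        exact this
      have hbot : fittHom (snd.app T₁).hom r = ⊥ := by
        apply fittHom_eq_bot_of_flat (snd.app T₁).hom (IsFinite.finite_app snd _ hT₁) hflat (r + 1)
        · intro q hq k
          exact not_fittHom_le_iff snd hT₁ (r + 1) (fun y hy => by
            rw [rk_of_isPullback φ H y, hc (g y) (hle' hy), hr1]) q hq k
        · omega
      rw [hbot] at hmem
      exact hmem
  have hle2 : (flatI φ hlc).subschemeι.ker ≤ g.ker := by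
    rw [Scheme.IdealSheafData.ker_subschemeι]
    exact hle
  exact ⟨IsClosedImmersion.lift (flatI φ hlc).subschemeι g hle2,
    IsClosedImmersion.lift_fac _ _ _⟩

end Groth.Agent.Lib.FitStratH7
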