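import Mathlib
import Groth.Prelude.Def_Grpd

/-!
# Point calculus in groupoid schemes (helper6)
-/

set_option autoImplicit false

namespace Groth.Agent.Lib.GrpdCalc

open CategoryTheory CategoryTheory.Limits AlgebraicGeometry Grpd

universe u

variable {S : Scheme.{u}} (G : GroupoidScheme S)

/-- composition of `T`-points -/
noncomputable def comp {T : Scheme.{u}} (a b : T ⟶ G.R) (h : a ≫ G.s = b ≫ G.t) : T ⟶ G.R :=
  pullback.lift a b h ≫ G.c

theorem comp_congr {T : Scheme.{u}} {a a' b b' : T ⟶ G.R} (ha : a = a') (hb : b = b')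
    (h : a ≫ G.s = b ≫ G.t) (h' : a' ≫ G.s = b' ≫ G.t) :
    comp G a b h = comp G a' b' h' := by
  subst ha; subst hb; rfl

theorem precomp_comp {T T' : Scheme.{u}} (g : T' ⟶ T) (a b : T ⟶ G.R) (h : a ≫ G.s = b ≫ G.t)
    (h' : (g ≫ a) ≫ G.s = (g ≫ b) ≫ G.t) :
    g ≫ comp G a b h = comp G (g ≫ a) (g ≫ b) h' := by
  unfold comp
  rw [← Category.assoc]
  congr 1
  apply pullback.hom_ext
  · rw [Category.assoc, pullback.lift_fst, pullback.lift_fst]
  · rw [Category.assoc, pullback.lift_snd, pullback.lift_snd]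

theorem z_cond {T : Scheme.{u}} (z : T ⟶ pullback G.s G.t) :
    (z ≫ pullback.fst G.s G.t) ≫ G.s = (z ≫ pullback.snd G.s G.t) ≫ G.t := by
  rw [Category.assoc, Category.assoc, pullback.condition]

theorem c_eq : G.c = comp G (pullback.fst G.s G.t) (pullback.snd G.s G.t) pullback.condition := by
  unfold comp
  have hid : pullback.lift (pullback.fst G.s G.t) (pullback.snd G.s G.t) pullback.condition =
      𝟙 _ := by
    apply pullback.hom_ext <;> simp
  rw [hid, Category.id_comp]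

theorem comp_c {T : Scheme.{u}} (z : T ⟶ pullback G.s G.t) :
    z ≫ G.c = comp G (z ≫ pullback.fst G.s G.t) (z ≫ pullback.snd G.s G.t) (z_cond G z) := by
  conv_lhs => rw [c_eq G]
  exact precomp_comp G z _ _ _ (z_cond G z)

theorem c_s : G.c ≫ G.s = pullback.snd G.s G.t ≫ G.s := by
  conv_lhs => rw [c_eq G]
  exact G.comp_s _ _ _

theorem c_t : G.c ≫ G.t = pullback.fst G.s G.t ≫ G.t := by
  conv_lhs => rw [c_eq G]
  exact G.comp_t _ _ _

theorem comp_s' {T : Scheme.{u}} (a b : T ⟶ G.R) (h : a ≫ G.s = b ≫ G.t) :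
    comp G a b h ≫ G.s = b ≫ G.s := G.comp_s a b h

theorem comp_t' {T : Scheme.{u}} (a b : T ⟶ G.R) (h : a ≫ G.s = b ≫ G.t) :
    comp G a b h ≫ G.t = a ≫ G.t := G.comp_t a b h

theorem comp_assoc {T : Scheme.{u}} (a b γ : T ⟶ G.R) (h₁ : a ≫ G.s = b ≫ G.t)
    (h₂ : b ≫ G.s = γ ≫ G.t) (h₃ : comp G a b h₁ ≫ G.s = γ ≫ G.t)
    (h₄ : a ≫ G.s = comp G b γ h₂ ≫ G.t) :
    comp G (comp G a b h₁) γ h₃ = comp G a (comp G b γ h₂) h₄ := G.assoc a b γ h₁ h₂

theorem comp_e' {T : Scheme.{u}} (a : T ⟶ G.R) (h : a ≫ G.s = (a ≫ G.s ≫ G.e) ≫ G.t) :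
    comp G a (a ≫ G.s ≫ G.e) h = a := G.comp_e a

theorem e_comp' {T : Scheme.{u}} (a : T ⟶ G.R) (h : (a ≫ G.t ≫ G.e) ≫ G.s = a ≫ G.t) :
    comp G (a ≫ G.t ≫ G.e) a h = a := G.e_comp a

theorem comp_i' {T : Scheme.{u}} (a : T ⟶ G.R) (h : a ≫ G.s = (a ≫ G.i) ≫ G.t) :
    comp G a (a ≫ G.i) h = a ≫ G.t ≫ G.e := G.comp_i a

theorem i_comp' {T : Scheme.{u}} (a : T ⟶ G.R) (h : (a ≫ G.i) ≫ G.s = a ≫ G.t) :
    comp G (a ≫ G.i) a h = a ≫ G.s ≫ G.e := G.i_comp a

/-- key cancellation: `a⁻¹ ∘ (a ∘ b) = b`-type identity, in the form `x ∘ (y⁻¹ ∘ y) = x`. -/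
theorem comp_comp_inv {T : Scheme.{u}} (x y : T ⟶ G.R) (hxy : x ≫ G.s = y ≫ G.s)
    (h₁ : x ≫ G.s = (y ≫ G.i) ≫ G.t) (h₂ : comp G x (y ≫ G.i) h₁ ≫ G.s = y ≫ G.t) :
    comp G (comp G x (y ≫ G.i) h₁) y h₂ = x := by
  have hA : (y ≫ G.i) ≫ G.s = y ≫ G.t := by rw [Category.assoc, G.i_s]
  have hB : x ≫ G.s = comp G (y ≫ G.i) y hA ≫ G.t := by
    rw [comp_t', Category.assoc, G.i_t]; exact hxy
  have hC : x ≫ G.s = (y ≫ G.s ≫ G.e) ≫ G.t := by
    rw [Category.assoc, Category.assoc, G.e_t, Category.comp_id]; exact hxy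
  have hD : x ≫ G.s = (x ≫ G.s ≫ G.e) ≫ G.t := by
    rw [Category.assoc, Category.assoc, G.e_t, Category.comp_id]
  calc comp G (comp G x (y ≫ G.i) h₁) y h₂
      = comp G x (comp G (y ≫ G.i) y hA) hB := comp_assoc G x (y ≫ G.i) y h₁ hA h₂ hB
    _ = comp G x (y ≫ G.s ≫ G.e) hC := comp_congr G rfl (i_comp' G y hA) _ _
    _ = comp G x (x ≫ G.s ≫ G.e) hD :=
        comp_congr G rfl (by rw [← Category.assoc, ← hxy, Category.assoc]) _ _
    _ = x := comp_e' G x hD

/-- `(a ∘ y) ∘ y⁻¹ = a` -/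
theorem comp_inv_comp {T : Scheme.{u}} (a y : T ⟶ G.R) (hay : a ≫ G.s = y ≫ G.t)
    (h₁ : comp G a y hay ≫ G.s = (y ≫ G.i) ≫ G.t) :
    comp G (comp G a y hay) (y ≫ G.i) h₁ = a := by
  have hA : y ≫ G.s = (y ≫ G.i) ≫ G.t := by rw [Category.assoc, G.i_t]
  have hB : a ≫ G.s = comp G y (y ≫ G.i) hA ≫ G.t := by rw [comp_t']; exact hay
  have hC : a ≫ G.s = (y ≫ G.t ≫ G.e) ≫ G.t := by
    rw [Category.assoc, Category.assoc, G.e_t, Category.comp_id]; exact hay
  have hD : a ≫ G.s = (a ≫ G.s ≫ G.e) ≫ G.t := by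
    rw [Category.assoc, Category.assoc, G.e_t, Category.comp_id]
  calc comp G (comp G a y hay) (y ≫ G.i) h₁
      = comp G a (comp G y (y ≫ G.i) hA) hB := comp_assoc G a y (y ≫ G.i) hay hA h₁ hB
    _ = comp G a (y ≫ G.t ≫ G.e) hC := comp_congr G rfl (comp_i' G y hA) _ _
    _ = comp G a (a ≫ G.s ≫ G.e) hD :=
        comp_congr G rfl (by rw [← Category.assoc, ← hay, Category.assoc]) _ _
    _ = a := comp_e' G a hD

/-- `a ∘ (a⁻¹ ∘ b) = b` when `t a = t b` -/
theorem comp_inv_comp_left {T : Scheme.{u}} (a b : T ⟶ G.R) (hab : a ≫ G.t = b ≫ G.t)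
    (h₁ : (a ≫ G.i) ≫ G.s = b ≫ G.t) (h₂ : a ≫ G.s = comp G (a ≫ G.i) b h₁ ≫ G.t) :
    comp G a (comp G (a ≫ G.i) b h₁) h₂ = b := by
  have hA : a ≫ G.s = (a ≫ G.i) ≫ G.t := by rw [Category.assoc, G.i_t]
  have hB : comp G a (a ≫ G.i) hA ≫ G.s = b ≫ G.t := by rw [comp_s']; exact h₁
  have hC : (a ≫ G.t ≫ G.e) ≫ G.s = b ≫ G.t := by
    rw [Category.assoc, Category.assoc, G.e_s, Category.comp_id]; exact hab
  have hD : (b ≫ G.t ≫ G.e) ≫ G.s = b ≫ G.t := by
    rw [Category.assoc, Category.assoc, G.e_s, Category.comp_id]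
  calc comp G a (comp G (a ≫ G.i) b h₁) h₂
      = comp G (comp G a (a ≫ G.i) hA) b hB := (comp_assoc G a (a ≫ G.i) b hA h₁ hB h₂).symm
    _ = comp G (a ≫ G.t ≫ G.e) b hC := comp_congr G (comp_i' G a hA) rfl _ _
    _ = comp G (b ≫ G.t ≫ G.e) b hD :=
        comp_congr G (by rw [← Category.assoc, hab, Category.assoc]) rfl _ _
    _ = b := e_comp' G b hD

/-- `a⁻¹ ∘ (a ∘ b) = b` when `s a = t b` -/
theorem inv_comp_comp_left {T : Scheme.{u}} (a b : T ⟶ G.R) (hab : a ≫ G.s = b ≫ G.t)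
    (h₁ : (a ≫ G.i) ≫ G.s = comp G a b hab ≫ G.t) :
    comp G (a ≫ G.i) (comp G a b hab) h₁ = b := by
  have hA : (a ≫ G.i) ≫ G.s = a ≫ G.t := by rw [Category.assoc, G.i_s]
  have hB : comp G (a ≫ G.i) a hA ≫ G.s = b ≫ G.t := by rw [comp_s']; exact hab
  have hC : (a ≫ G.s ≫ G.e) ≫ G.s = b ≫ G.t := by
    rw [Category.assoc, Category.assoc, G.e_s, Category.comp_id]; exact hab
  have hD : (b ≫ G.t ≫ G.e) ≫ G.s = b ≫ G.t := by
    rw [Category.assoc, Category.assoc, G.e_s, Category.comp_id]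
  calc comp G (a ≫ G.i) (comp G a b hab) h₁
      = comp G (comp G (a ≫ G.i) a hA) b hB := (comp_assoc G (a ≫ G.i) a b hA hab hB h₁).symm
    _ = comp G (a ≫ G.s ≫ G.e) b hC := comp_congr G (i_comp' G a hA) rfl _ _
    _ = comp G (b ≫ G.t ≫ G.e) b hD :=
        comp_congr G (by rw [← Category.assoc, hab, Category.assoc]) rfl _ _
    _ = b := e_comp' G b hD

theorem phi_iso (φ : pullback G.t G.t ⟶ pullback G.s G.t)
    (h1 : φ ≫ pullback.fst G.s G.t = pullback.fst G.t G.t)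
    (hA : (pullback.fst G.t G.t ≫ G.i) ≫ G.s = pullback.snd G.t G.t ≫ G.t)
    (h2 : φ ≫ pullback.snd G.s G.t =
      comp G (pullback.fst G.t G.t ≫ G.i) (pullback.snd G.t G.t) hA) :
    IsIso φ ∧ φ ≫ G.c = pullback.snd G.t G.t := by
  have hφc : φ ≫ G.c = pullback.snd G.t G.t := by
    have h0 := z_cond G φ
    have hC : pullback.fst G.t G.t ≫ G.s =
        comp G (pullback.fst G.t G.t ≫ G.i) (pullback.snd G.t G.t) hA ≫ G.t := by
      rw [comp_t', Category.assoc, G.i_t]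
    rw [comp_c G φ]
    calc comp G (φ ≫ pullback.fst G.s G.t) (φ ≫ pullback.snd G.s G.t) h0
        = comp G (pullback.fst G.t G.t)
            (comp G (pullback.fst G.t G.t ≫ G.i) (pullback.snd G.t G.t) hA) hC :=
          comp_congr G h1 h2 _ _
      _ = pullback.snd G.t G.t :=
          comp_inv_comp_left G _ _ pullback.condition hA hC
  refine ⟨?_, hφc⟩
  refine ⟨⟨pullback.lift (pullback.fst G.s G.t) G.c (c_t G).symm, ?_, ?_⟩⟩
  · apply pullback.hom_ext
    · rw [Category.assoc, pullback.lift_fst, h1, Category.id_comp]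
    · rw [Category.assoc, pullback.lift_snd, hφc, Category.id_comp]
  · apply pullback.hom_ext
    · rw [Category.assoc, h1, pullback.lift_fst, Category.id_comp]
    · rw [Category.assoc, h2, Category.id_comp]
      have h0 : (pullback.lift (pullback.fst G.s G.t) G.c (c_t G).symm ≫
          pullback.fst G.t G.t ≫ G.i) ≫ G.s =
          (pullback.lift (pullback.fst G.s G.t) G.c (c_t G).symm ≫ pullback.snd G.t G.t) ≫ G.t := by
        rw [Category.assoc, Category.assoc, Category.assoc, G.i_s, ← pullback.condition]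
      rw [precomp_comp G _ _ _ hA h0]
      have hB : (pullback.fst G.s G.t ≫ G.i) ≫ G.s =
          comp G (pullback.fst G.s G.t) (pullback.snd G.s G.t) pullback.condition ≫ G.t := by
        rw [comp_t', Category.assoc, G.i_s]
      calc comp G _ _ h0
          = comp G (pullback.fst G.s G.t ≫ G.i)
              (comp G (pullback.fst G.s G.t) (pullback.snd G.s G.t) pullback.condition) hB :=
            comp_congr G (by rw [← Category.assoc, pullback.lift_fst])
              (by rw [pullback.lift_snd]; exact c_eq G) _ _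
        _ = pullback.snd G.s G.t := inv_comp_comp_left G _ _ pullback.condition hB

theorem isPullback_c : IsPullback G.c (pullback.snd G.s G.t) G.s G.s := by
  refine ⟨⟨c_s G⟩, ⟨PullbackCone.IsLimit.mk _
    (fun cone => pullback.lift
      (comp G cone.fst (cone.snd ≫ G.i)
        (by rw [Category.assoc, G.i_t]; exact cone.condition)) cone.snd
      (by rw [comp_s', Category.assoc, G.i_s])) ?_ ?_ ?_⟩⟩
  · intro cone
    rw [comp_c G _]
    have h1 : cone.fst ≫ G.s = (cone.snd ≫ G.i) ≫ G.t := by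
      rw [Category.assoc, G.i_t]; exact cone.condition
    have h2 : comp G cone.fst (cone.snd ≫ G.i) h1 ≫ G.s = cone.snd ≫ G.t := by
      rw [comp_s', Category.assoc, G.i_s]
    calc comp G _ _ (z_cond G _) = comp G (comp G cone.fst (cone.snd ≫ G.i) h1) cone.snd h2 :=
          comp_congr G (pullback.lift_fst _ _ _) (pullback.lift_snd _ _ _) _ _
      _ = cone.fst := comp_comp_inv G _ _ cone.condition h1 h2
  · intro cone
    exact pullback.lift_snd _ _ _
  · intro cone m hm1 hm2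
    apply pullback.hom_ext
    · rw [pullback.lift_fst]
      have h0 := z_cond G m
      have h0' : (m ≫ pullback.fst G.s G.t) ≫ G.s = cone.snd ≫ G.t := by
        rw [h0, hm2]
      have hx : comp G (m ≫ pullback.fst G.s G.t) cone.snd h0' = cone.fst := by
        rw [← hm1, comp_c G m]
        exact comp_congr G rfl hm2.symm _ _
      have h3 : comp G (m ≫ pullback.fst G.s G.t) cone.snd h0' ≫ G.s = (cone.snd ≫ G.i) ≫ G.t := by
        rw [comp_s', Category.assoc, G.i_t]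
      have h4 := comp_inv_comp G (m ≫ pullback.fst G.s G.t) cone.snd h0' h3
      rw [← h4]
      exact comp_congr G hx rfl _ _
    · rw [pullback.lift_snd]
      exact hm2

end Groth.Agent.Lib.GrpdCalc
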