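import Mathlib
import Groth.Prelude.Def_Grpd
import Groth.Agent.Lib.GrpdCalc_helper6

/-!
# The largest invariant subset of a set of objects of a groupoid scheme (helper6)

`orbIn G W = {x | every arrow with source x has target in W}`.
-/

set_option autoImplicit false
universe u

open CategoryTheory CategoryTheory.Limits AlgebraicGeometry Grpd
open Groth.Agent.Lib.GrpdCalc

namespace Groth.Agent.Lib.GrpdInvOpenH6

variable {S : Scheme.{u}} (G : GroupoidScheme S)

lemma s_e (x : G.U) : G.s (G.e x) = x := by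
  rw [← Scheme.Hom.comp_apply, G.e_s]; rfl

lemma t_e (x : G.U) : G.t (G.e x) = x := by
  rw [← Scheme.Hom.comp_apply, G.e_t]; rfl

lemma s_i (r : G.R) : G.s (G.i r) = G.t r := by
  rw [← Scheme.Hom.comp_apply, G.i_s]

lemma t_i (r : G.R) : G.t (G.i r) = G.s r := by
  rw [← Scheme.Hom.comp_apply, G.i_t]

/-- Composition on points. -/
lemma exists_comp (a b : G.R) (hab : G.s a = G.t b) :
    ∃ r : G.R, G.s r = G.s b ∧ G.t r = G.t a := by
  obtain ⟨z, hz1, hz2⟩ := Scheme.Pullback.exists_preimage_pullback (f := G.s) (g := G.t) a b hab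
  refine ⟨G.c z, ?_, ?_⟩
  · rw [← Scheme.Hom.comp_apply, c_s G, Scheme.Hom.comp_apply, hz2]
  · rw [← Scheme.Hom.comp_apply, c_t G, Scheme.Hom.comp_apply, hz1]

/-- The set of points all of whose translates lie in `W`. -/
def orbIn (W : Set G.U) : Set G.U := {x | ∀ r : G.R, G.s r = x → G.t r ∈ W}

lemma orbIn_subset (W : Set G.U) : orbIn G W ⊆ W := fun x hx => by
  have := hx (G.e x) (s_e G x)
  rwa [t_e] at this

lemma orbIn_mono {W W' : Set G.U} (h : W ⊆ W') : orbIn G W ⊆ orbIn G W' :=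
  fun _ hx r hr => h (hx r hr)

/-- `orbIn W` is invariant. -/
lemma mem_orbIn_iff (W : Set G.U) (r : G.R) : G.s r ∈ orbIn G W ↔ G.t r ∈ orbIn G W := by
  constructor
  · intro h r' hr'
    -- r' : t r → y ; r : s r → t r ; composite r' ∘ r : s r → y
    obtain ⟨r'', h1, h2⟩ := exists_comp G r' r hr'
    rw [← h2]
    exact h r'' h1
  · intro h r' hr'
    -- r' : s r → y ; i r : t r → s r ; composite r' ∘ i r : t r → y
    obtain ⟨r'', h1, h2⟩ := exists_comp G r' (G.i r) (by rw [hr', t_i])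
    rw [← h2]
    exact h r'' (by rw [h1, s_i])

lemma preimage_orbIn (W : Set G.U) : ⇑G.s ⁻¹' orbIn G W = ⇑G.t ⁻¹' orbIn G W := by
  ext r
  exact mem_orbIn_iff G W r

lemma compl_orbIn (W : Set G.U) : (orbIn G W)ᶜ = ⇑G.s '' (⇑G.t ⁻¹' Wᶜ) := by
  ext x
  simp only [orbIn, Set.mem_compl_iff, Set.mem_setOf_eq, not_forall, Set.mem_image,
    Set.mem_preimage]
  constructor
  · rintro ⟨r, hr, hW⟩
    exact ⟨r, hW, hr⟩
  · rintro ⟨r, hW, hr⟩
    exact ⟨r, hr, hW⟩

lemma isOpen_orbIn [IsFinite G.s] {W : Set G.U} (hW : IsOpen W) : IsOpen (orbIn G W) := by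
  rw [← isClosed_compl_iff, compl_orbIn]
  exact G.s.isClosedMap _ ((isClosed_compl_iff.mpr hW).preimage G.t.continuous)

/-- The orbit of a point whose translates lie in `W` lies in `orbIn W`. -/
lemma mem_orbIn_of_source {W : Set G.U} {u : G.U} (hu : u ∈ orbIn G W) (r : G.R)
    (hr : G.s r = u) : G.t r ∈ orbIn G W := by
  rw [← mem_orbIn_iff, hr]; exact hu

end Groth.Agent.Lib.GrpdInvOpenH6
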