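import Mathlib
import Groth.Prelude.Def_Grpd
import Groth.Prelude.Def_Mor2
import Groth.Agent.Lib.GrpdCalc_helper6

set_option autoImplicit false
set_option linter.style.haveILetI false

universe u

open CategoryTheory CategoryTheory.Limits AlgebraicGeometry Grpd
open Groth.Agent.Lib.GrpdCalc

namespace Groth.Agent.Lib.GrpdRankH4

variable {S : Scheme.{u}} (G : GroupoidScheme S)

lemma i_i : G.i ≫ G.i = 𝟙 G.R := by
  have h1 : (G.i ≫ G.i) ≫ G.s = (G.s ≫ G.e) ≫ G.t := by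
    rw [Category.assoc, G.i_s, G.i_t, Category.assoc, G.e_t, Category.comp_id]
  have h2 : (G.i ≫ G.i) ≫ G.s = ((G.i ≫ G.i) ≫ G.s ≫ G.e) ≫ G.t := by
    simp only [Category.assoc, G.e_t, Category.comp_id]
  have hb : G.s ≫ G.e = (G.i ≫ G.i) ≫ G.s ≫ G.e := by
    rw [Category.assoc, reassoc_of% G.i_s, reassoc_of% G.i_t]
  have hA : comp G (G.i ≫ G.i) (G.s ≫ G.e) h1 = G.i ≫ G.i :=
    (comp_congr G rfl hb h1 h2).trans (comp_e' G (G.i ≫ G.i) h2)
  have hab : G.i ≫ G.s = 𝟙 G.R ≫ G.t := by rw [G.i_s, Category.id_comp]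
  have hab' : (𝟙 G.R ≫ G.i) ≫ G.s = 𝟙 G.R ≫ G.t := by rw [Category.id_comp]; exact hab
  have e1 : comp G G.i (𝟙 G.R) hab = G.s ≫ G.e :=
    (comp_congr G (Category.id_comp _).symm rfl hab hab').trans
      ((i_comp' G (𝟙 G.R) hab').trans (Category.id_comp _))
  have h3 : (G.i ≫ G.i) ≫ G.s = comp G G.i (𝟙 G.R) hab ≫ G.t := by rw [e1]; exact h1
  have hB : comp G (G.i ≫ G.i) (comp G G.i (𝟙 G.R) hab) h3 = 𝟙 G.R :=
    inv_comp_comp_left G G.i (𝟙 G.R) hab h3
  have hC : comp G (G.i ≫ G.i) (comp G G.i (𝟙 G.R) hab) h3 =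
      comp G (G.i ≫ G.i) (G.s ≫ G.e) h1 := comp_congr G rfl e1 h3 h1
  exact hA.symm.trans (hC.symm.trans hB)

lemma isIso_i : IsIso G.i := ⟨⟨G.i, i_i G, i_i G⟩⟩

theorem main7461 (S : Scheme.{u}) (G : Grpd.GroupoidScheme S) [IsFinite G.s] [Flat G.s]
    [LocallyOfFinitePresentation G.s] [IsFinite G.t] [Flat G.t]
    [LocallyOfFinitePresentation G.t] :
    ∃ V : ℕ → G.U.Opens, V 0 = ⊥ ∧ (∀ r r', r ≠ r' → Disjoint (V r) (V r')) ∧
      (⨆ r, V r) = ⊤ ∧
      ∀ r, G.s ⁻¹ᵁ V r = G.t ⁻¹ᵁ V r ∧ Mor2.IsFinLocFreeOfDeg r (G.s ∣_ V r) ∧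
        Mor2.IsFinLocFreeOfDeg r (G.t ∣_ V r) := by
  have hlc : IsLocallyConstant G.s.finrank := Scheme.Hom.isLocallyConstant_finrank G.s
  haveI : IsIso G.i := isIso_i G
  have hst : G.t.finrank = G.s.finrank := by
    rw [← Scheme.Hom.finrank_comp_left_of_isIso G.i G.t, G.i_t]
  have hinv : ∀ x : G.R, G.s.finrank (G.s x) = G.s.finrank (G.t x) := by
    intro x
    rw [← Scheme.Hom.finrank_of_isPullback G.c (pullback.snd G.s G.t) G.s G.s (isPullback_c G) x,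
      Scheme.Hom.finrank_of_isPullback (pullback.fst G.s G.t) (pullback.snd G.s G.t) G.s G.t
        (IsPullback.of_hasPullback _ _) x]
  let V : ℕ → G.U.Opens := fun r => ⟨{u | G.s.finrank u = r}, hlc.isOpen_fiber r⟩
  refine ⟨V, ?_, ?_, ?_, ?_⟩
  · apply le_antisymm _ bot_le
    intro u hu
    exfalso
    have h1 : 1 ≤ G.s.finrank (G.s (G.e u)) := Scheme.Hom.one_le_finrank_map G.s (G.e u)
    have hu' : G.s (G.e u) = u := by
      rw [← Scheme.Hom.comp_apply, G.e_s]; rfl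
    rw [hu'] at h1
    have h0 : G.s.finrank u = 0 := hu
    omega
  · intro r r' hne
    rw [disjoint_iff_inf_le]
    intro u hu
    rcases hu with ⟨h1, h2⟩
    exact hne ((show G.s.finrank u = r from h1).symm.trans h2)
  · apply le_antisymm le_top
    intro u _
    exact TopologicalSpace.Opens.mem_iSup.2 ⟨G.s.finrank u, rfl⟩
  · intro r
    have hpre : G.s ⁻¹ᵁ V r = G.t ⁻¹ᵁ V r := by
      ext x
      show G.s.finrank (G.s x) = r ↔ G.s.finrank (G.t x) = r
      rw [hinv x]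
    refine ⟨hpre, ⟨⟨inferInstance, inferInstance, inferInstance⟩, ?_⟩,
      ⟨⟨inferInstance, inferInstance, inferInstance⟩, ?_⟩⟩
    · intro y
      rw [Scheme.Hom.finrank_of_isPullback _ _ _ _
        (isPullback_morphismRestrict G.s (V r)).flip y]
      exact y.2
    · intro y
      rw [Scheme.Hom.finrank_of_isPullback _ _ _ _
        (isPullback_morphismRestrict G.t (V r)).flip y, hst]
      exact y.2

end Groth.Agent.Lib.GrpdRankH4
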