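import Mathlib
import Groth.Prelude.Def_Grpd
import Groth.Agent.Lib.FitStrat4_helper7
import Groth.Agent.Lib.GrpdInvOpen1_helper6
import Groth.Agent.Lib.GrpdRank_helper4

/-!
# Invariant thickenings of finite groupoid schemes on which the groupoid is finite locally free
(helper7)
-/

set_option backward.isDefEq.respectTransparency false
set_option backward.isDefEq.respectTransparency.types false
set_option linter.style.haveILetI false
set_option linter.unusedSectionVars false
set_option linter.unusedVariables false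
set_option autoImplicit false
set_option maxHeartbeats 1600000

universe u

open CategoryTheory CategoryTheory.Limits AlgebraicGeometry TopologicalSpace

namespace Groth.Agent.Lib.FitStratH7

section Restrict

variable {X Y : Scheme.{u}} (φ : Y ⟶ X) [IsFinite φ] (W : X.Opens)

instance isFinite_morphismRestrict : IsFinite (φ ∣_ W) :=
  MorphismProperty.of_isPullback (P := @IsFinite) (isPullback_morphismRestrict φ W).flip
    inferInstance

theorem rk_morphismRestrict (w : W.toScheme) : rk (φ ∣_ W) w = rk φ (W.ι w) :=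
  rk_of_isPullback φ (isPullback_morphismRestrict φ W).flip w

theorem lcLocus_morphismRestrict (hW : (W : Set X) ⊆ lcLocus φ) (w : W.toScheme) :
    w ∈ lcLocus (φ ∣_ W) := by
  obtain ⟨N, hN, hxN, hc⟩ := hW w.2
  refine ⟨W.ι ⁻¹' N, hN.preimage W.ι.continuous, hxN, ?_⟩
  intro y hy
  rw [rk_morphismRestrict, rk_morphismRestrict]
  exact hc _ hy

theorem exists_restrict_sq {P T : Scheme.{u}} {fst : P ⟶ Y} {snd : P ⟶ T} {g : T ⟶ X}
    (H : IsPullback fst snd φ g) (g' : T ⟶ W.toScheme) (hg' : g' ≫ W.ι = g) :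
    ∃ fst' : P ⟶ (φ ⁻¹ᵁ W).toScheme, IsPullback fst' snd (φ ∣_ W) g' := by
  have t := (isPullback_morphismRestrict φ W).flip
  have hw : fst ≫ φ = (snd ≫ g') ≫ W.ι := by rw [H.w, Category.assoc, hg']
  refine ⟨t.lift fst (snd ≫ g') hw, ?_⟩
  apply IsPullback.of_right (t := t)
  · rw [t.lift_fst, hg']
    exact H
  · exact t.lift_snd _ _ _

variable (hlcW : ∀ w : W.toScheme, w ∈ lcLocus (φ ∣_ W))

theorem isFinLocFree_of_factors_open {P T : Scheme.{u}} {fst : P ⟶ Y} {snd : P ⟶ T} {g : T ⟶ X}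
    (H : IsPullback fst snd φ g) (l : T ⟶ (flatI (φ ∣_ W) hlcW).subscheme)
    (hl : l ≫ (flatI (φ ∣_ W) hlcW).subschemeι ≫ W.ι = g) : Mor2.IsFinLocFree snd := by
  obtain ⟨fst', H'⟩ := exists_restrict_sq φ W H (l ≫ (flatI (φ ∣_ W) hlcW).subschemeι)
    (by rw [Category.assoc]; exact hl)
  exact isFinLocFree_of_factors (φ ∣_ W) hlcW H' l rfl

theorem exists_lift_of_flat_open {P T : Scheme.{u}} {fst : P ⟶ Y} {snd : P ⟶ T} {g : T ⟶ X}
    (H : IsPullback fst snd φ g) [IsFinite snd] [Flat snd] (hr : ∀ t : T, g t ∈ W) :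
    ∃ l : T ⟶ (flatI (φ ∣_ W) hlcW).subscheme,
      l ≫ (flatI (φ ∣_ W) hlcW).subschemeι ≫ W.ι = g := by
  have hrange : Set.range g ⊆ Set.range W.ι := by
    rw [Scheme.Opens.range_ι]
    rintro _ ⟨t, rfl⟩
    exact hr t
  obtain ⟨fst', H'⟩ := exists_restrict_sq φ W H (IsOpenImmersion.lift W.ι g hrange)
    (IsOpenImmersion.lift_fac _ _ _)
  obtain ⟨l, hl⟩ := exists_lift_of_flat (φ ∣_ W) hlcW H'
  refine ⟨l, ?_⟩
  rw [← Category.assoc, hl]
  exact IsOpenImmersion.lift_fac _ _ _

end Restrict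

section Groupoid

open Groth.Agent.Lib.GrpdInvOpenH6

variable {S : Scheme.{u}} (G : Grpd.GroupoidScheme S) [IsFinite G.s]

theorem rk_s_eq_rk_t (r : G.R) : rk G.s (G.s r) = rk G.s (G.t r) := by
  have h1 := rk_of_isPullback G.s (IsPullback.of_hasPullback G.s G.t) r
  have h2 := rk_of_isPullback G.s (Groth.Agent.Lib.GrpdCalc.isPullback_c G) r
  rw [← h2, h1]

/-- The largest invariant open on which the rank of the source map is locally constant. -/
noncomputable def invW : G.U.Opens :=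
  ⟨orbIn G (lcLocus G.s), isOpen_orbIn G (isOpen_lcLocus G.s)⟩

theorem invW_subset : (invW G : Set G.U) ⊆ lcLocus G.s := orbIn_subset G _

theorem invW_invariant : G.s ⁻¹ᵁ invW G = G.t ⁻¹ᵁ invW G := by
  apply Opens.ext
  exact preimage_orbIn G _

theorem lc_invW (w : (invW G).toScheme) : w ∈ lcLocus (G.s ∣_ invW G) :=
  lcLocus_morphismRestrict G.s (invW G) (invW_subset G) w

/-- The flattening ideal sheaf on `invW`. -/
noncomputable def invW' : (invW G).toScheme.IdealSheafData :=
  flatI (G.s ∣_ invW G) (lc_invW G)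

/-- The inclusion of the invariant thickening. -/
noncomputable def invι : (invW' G).subscheme ⟶ G.U := (invW' G).subschemeι ≫ (invW G).ι

theorem support_invW' : (invW' G).support = ⊤ := support_flatI _ _

theorem invι_mem (z : (invW' G).subscheme) : invι G z ∈ invW G := by
  show (invW G).ι ((invW' G).subschemeι z) ∈ invW G
  exact ((invW' G).subschemeι z).2

instance : Mono (invι G) := by
  unfold invι
  infer_instance

theorem isFinLocFree_of_factors_invι {P T : Scheme.{u}} {fst : P ⟶ G.R} {snd : P ⟶ T}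
    {g : T ⟶ G.U} (H : IsPullback fst snd G.s g) (l : T ⟶ (invW' G).subscheme)
    (hl : l ≫ invι G = g) : Mor2.IsFinLocFree snd :=
  isFinLocFree_of_factors_open G.s (invW G) (lc_invW G) H l hl

theorem exists_lift_invι {P T : Scheme.{u}} {fst : P ⟶ G.R} {snd : P ⟶ T}
    {g : T ⟶ G.U} (H : IsPullback fst snd G.s g) (hsnd : Mor2.IsFinLocFree snd)
    (hr : ∀ t : T, g t ∈ invW G) : ∃ l : T ⟶ (invW' G).subscheme, l ≫ invι G = g := by
  haveI := hsnd.1
  haveI := hsnd.2.1
  exact exists_lift_of_flat_open G.s (invW G) (lc_invW G) H hr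

/-- Factoring through the invariant thickening is an invariant condition. -/
theorem factors_s_iff_factors_t {T : Scheme.{u}} (a : T ⟶ G.R) :
    (∃ l : T ⟶ (invW' G).subscheme, l ≫ invι G = a ≫ G.s) ↔
      (∃ l : T ⟶ (invW' G).subscheme, l ≫ invι G = a ≫ G.t) := by
  have HQ := IsPullback.of_hasPullback (pullback.snd G.s G.t) a
  have HA : IsPullback (pullback.fst (pullback.snd G.s G.t) a ≫ G.c)
      (pullback.snd (pullback.snd G.s G.t) a) G.s (a ≫ G.s) :=
    HQ.paste_horiz (Groth.Agent.Lib.GrpdCalc.isPullback_c G)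
  have HB : IsPullback (pullback.fst (pullback.snd G.s G.t) a ≫ pullback.fst G.s G.t)
      (pullback.snd (pullback.snd G.s G.t) a) G.s (a ≫ G.t) :=
    HQ.paste_horiz (IsPullback.of_hasPullback G.s G.t)
  have hmem : ∀ t : T, (a ≫ G.s) t ∈ invW G ↔ (a ≫ G.t) t ∈ invW G := by
    intro t
    have := mem_orbIn_iff G (lcLocus G.s) (a t)
    exact this
  constructor
  · rintro ⟨l, hl⟩
    have h1 := isFinLocFree_of_factors_invι G HA l hl
    refine exists_lift_invι G HB h1 (fun t => (hmem t).mp ?_)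
    rw [← hl]
    exact invι_mem G (l t)
  · rintro ⟨l, hl⟩
    have h1 := isFinLocFree_of_factors_invι G HB l hl
    refine exists_lift_invι G HA h1 (fun t => (hmem t).mpr ?_)
    rw [← hl]
    exact invι_mem G (l t)

/-- The invariant thickening is invariant. -/
theorem exists_iso_pullback_invι :
    ∃ φ : pullback G.s (invι G) ≅ pullback G.t (invι G),
      φ.hom ≫ pullback.fst G.t (invι G) = pullback.fst G.s (invι G) := by
  obtain ⟨c₁, hc₁⟩ := (factors_s_iff_factors_t G (pullback.fst G.s (invι G))).mp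
    ⟨pullback.snd G.s (invι G), pullback.condition.symm⟩
  obtain ⟨c₂, hc₂⟩ := (factors_s_iff_factors_t G (pullback.fst G.t (invι G))).mpr
    ⟨pullback.snd G.t (invι G), pullback.condition.symm⟩
  refine ⟨⟨pullback.lift (pullback.fst G.s (invι G)) c₁ hc₁.symm,
    pullback.lift (pullback.fst G.t (invι G)) c₂ hc₂.symm, ?_, ?_⟩, ?_⟩
  · rw [← cancel_mono (pullback.fst G.s (invι G)), Category.assoc, pullback.lift_fst,
      pullback.lift_fst, Category.id_comp]
  · rw [← cancel_mono (pullback.fst G.t (invι G)), Category.assoc, pullback.lift_fst,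
      pullback.lift_fst, Category.id_comp]
  · exact pullback.lift_fst _ _ _

theorem isFinLocFree_snd_s : Mor2.IsFinLocFree (pullback.snd G.s (invι G)) :=
  isFinLocFree_of_factors_invι G (IsPullback.of_hasPullback G.s (invι G)) (𝟙 _)
    (Category.id_comp _)

theorem isFinLocFree_snd_t : Mor2.IsFinLocFree (pullback.snd G.t (invι G)) := by
  haveI := Groth.Agent.Lib.GrpdRankH4.isIso_i G
  have H := IsPullback.of_hasPullback G.t (invι G)
  have H' : IsPullback (pullback.fst G.t (invι G) ≫ G.i) (pullback.snd G.t (invι G)) G.s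
      (invι G) :=
    H.of_iso (Iso.refl _) (asIso G.i) (Iso.refl _) (Iso.refl _)
      (by simp) (by simp) (by simp [G.i_s]) (by simp)
  exact isFinLocFree_of_factors_invι G H' (𝟙 _) (Category.id_comp _)

/-- Every orbit meets the closure of `invW`. -/
theorem exists_mem_closure_invW (u : G.U) :
    ∃ r : G.R, G.t r = u ∧ G.s r ∈ closure (invW G : Set G.U) := by
  classical
  by_contra hcon
  push Not at hcon
  -- the invariant open `N` around `u` missing `invW`
  obtain ⟨Ω, hΩ⟩ : ∃ Ω : Set G.U, Ω = (closure (invW G : Set G.U))ᶜ := ⟨_, rfl⟩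
  have hΩo : IsOpen Ω := by rw [hΩ]; exact isClosed_closure.isOpen_compl
  have huN : u ∈ orbIn G Ω := by
    intro r hr
    have h1 := hcon (G.i r) (by rw [t_i, hr])
    rw [s_i] at h1
    rw [hΩ]
    exact h1
  have hNo : IsOpen (orbIn G Ω) := isOpen_orbIn G hΩo
  have hNW : ∀ x ∈ orbIn G Ω, x ∉ (invW G : Set G.U) := by
    intro x hx hxW
    have h1 : x ∈ Ω := orbIn_subset G _ hx
    rw [hΩ] at h1
    exact h1 (subset_closure hxW)
  -- the minimal rank on `N`
  have hex : ∃ k, ∃ x ∈ orbIn G Ω, rk G.s x = k := ⟨_, u, huN, rfl⟩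
  obtain ⟨r₀, hr₀⟩ : ∃ r₀, r₀ = Nat.find hex := ⟨_, rfl⟩
  obtain ⟨x₀, hx₀N, hx₀⟩ : ∃ x ∈ orbIn G Ω, rk G.s x = r₀ := by
    rw [hr₀]; exact Nat.find_spec hex
  have hmin : ∀ x ∈ orbIn G Ω, r₀ ≤ rk G.s x := by
    intro x hx
    rw [hr₀]
    exact Nat.find_min' hex ⟨x, hx, rfl⟩
  obtain ⟨M, hM⟩ : ∃ M : Set G.U, M = orbIn G Ω ∩ {x | rk G.s x ≤ r₀} := ⟨_, rfl⟩
  have hMo : IsOpen M := by rw [hM]; exact hNo.inter (isOpen_rk_le G.s r₀)
  have hMrk : ∀ x ∈ M, rk G.s x = r₀ := by
    intro x hx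
    rw [hM] at hx
    exact le_antisymm hx.2 (hmin x hx.1)
  have hMlc : M ⊆ lcLocus G.s := subset_lcLocus G.s hMo hMrk
  have hx₀M : x₀ ∈ M := by
    rw [hM]; exact ⟨hx₀N, le_of_eq hx₀⟩
  -- `M` is invariant, hence contained in `invW`
  have hx₀W : x₀ ∈ (invW G : Set G.U) := by
    intro r hr
    apply hMlc
    rw [hM]
    refine ⟨mem_orbIn_of_source G hx₀N r hr, ?_⟩
    show rk G.s (G.t r) ≤ r₀
    rw [← rk_s_eq_rk_t, hr, hx₀]
  exact hNW x₀ hx₀N hx₀W

end Groupoid

end Groth.Agent.Lib.FitStratH7
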