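import Mathlib
import Groth.Agent.Lib.FitStrat5_helper7

/-!
# Finite presentation of the invariant thickening; maximal points (helper7)
-/

set_option backward.isDefEq.respectTransparency false
set_option backward.isDefEq.respectTransparency.types false
set_option linter.style.haveILetI false
set_option linter.unusedSectionVars false
set_option linter.unusedVariables false
set_option autoImplicit false
set_option maxHeartbeats 1600000

universe u

open CategoryTheory CategoryTheory.Limits AlgebraicGeometry TopologicalSpace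

namespace Groth.Agent.Lib.FitStratH7

/-- A finitely generated ideal contained in a minimal prime `p` is contained in every prime of a
basic open neighbourhood of `p`. -/
theorem exists_notMem_forall_le_of_minimal {A : Type u} [CommRing A] (p : Ideal A) [hp : p.IsPrime]
    (hmin : ∀ q : Ideal A, q.IsPrime → q ≤ p → q = p) (I : Ideal A) (hI : I.FG) (hIp : I ≤ p) :
    ∃ g : A, g ∉ p ∧ ∀ q : Ideal A, q.IsPrime → g ∉ q → I ≤ q := by
  classical
  have hpm : p ∈ (⊥ : Ideal A).minimalPrimes := by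
    refine ⟨⟨hp, bot_le⟩, ?_⟩
    rintro q ⟨hq, -⟩ hqp
    exact le_of_eq (hmin q hq hqp).symm
  have hrad := IsLocalization.AtPrime.radical_map_of_mem_minimalPrimes
    (Localization.AtPrime p) p ⊥ hpm
  have hnil : ∀ a ∈ p, ∃ s : A, s ∉ p ∧ ∃ n : ℕ, s * a ^ n = 0 := by
    intro a ha
    have h1 : algebraMap A (Localization.AtPrime p) a ∈
        ((⊥ : Ideal A).map (algebraMap A (Localization.AtPrime p))).radical := by
      rw [hrad]; exact Ideal.mem_map_of_mem _ ha
    obtain ⟨n, hn⟩ := h1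
    rw [Ideal.map_bot, Ideal.mem_bot, ← map_pow] at hn
    obtain ⟨c, hc⟩ := (IsLocalization.map_eq_zero_iff p.primeCompl
      (Localization.AtPrime p) (a ^ n)).mp hn
    exact ⟨c.1, c.2, n, hc⟩
  obtain ⟨F, hF⟩ := hI
  have hFp : ∀ a ∈ F, a ∈ p := fun a ha => hIp (hF ▸ Ideal.subset_span ha)
  choose! s hs using hnil
  refine ⟨∏ a ∈ F, s a, ?_, ?_⟩
  · intro hmem
    obtain ⟨a, haF, ha⟩ := (Ideal.IsPrime.prod_mem_iff).mp hmem
    exact (hs a (hFp a haF)).1 ha
  · intro q hq hg
    rw [← hF, Ideal.span_le]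
    intro a haF
    obtain ⟨n, hn⟩ := (hs a (hFp a haF)).2
    have hsa : s a ∉ q := by
      intro hsq
      apply hg
      obtain ⟨c, hc⟩ := Finset.dvd_prod_of_mem s haF
      rw [hc]
      exact q.mul_mem_right _ hsq
    have : s a * a ^ n ∈ q := by rw [hn]; exact q.zero_mem
    rcases hq.mem_or_mem this with h | h
    · exact absurd h hsa
    · exact hq.mem_of_pow_mem n h

variable {X Y : Scheme.{u}} (φ : Y ⟶ X) [IsFinite φ]

theorem mem_basicOpen_iff_notMem_primeIdealOf {V : X.Opens} (hV : IsAffineOpen V) {x : X}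
    (hx : x ∈ V) (f : Γ(X, V)) :
    x ∈ X.basicOpen f ↔ f ∉ (hV.primeIdealOf ⟨x, hx⟩).asIdeal := by
  have h := mem_zeroLocus_iff_le_primeIdealOf hV (Ideal.span {f}) hx
  rw [Ideal.span_singleton_le_iff_mem, Scheme.zeroLocus_span, Scheme.zeroLocus_singleton] at h
  constructor
  · intro hxf hf
    exact (h.mpr hf) hxf
  · intro hf
    by_contra hxf
    exact hf (h.mp hxf)

/-- Maximal points lie in the locus where the rank of a finite, finitely presented morphism is
locally constant. -/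
theorem mem_lcLocus_of_maximal [LocallyOfFinitePresentation φ] (x : X)
    (hx : ∀ y : X, y ⤳ x → y = x) : x ∈ lcLocus φ := by
  obtain ⟨_, ⟨V, hV : IsAffineOpen V, rfl⟩, hxV, -⟩ :=
    X.isBasis_affineOpens.exists_subset_of_mem_open (Set.mem_univ x) isOpen_univ
  have hxV' : x ∈ V := hxV
  rcases Nat.eq_zero_or_eq_succ_pred (rk φ x) with h0 | h1
  · refine ⟨{y | rk φ y ≤ 0}, isOpen_rk_le φ 0, by show rk φ x ≤ 0; omega, ?_⟩
    intro y hy
    have : rk φ y ≤ 0 := hy
    omega
  · obtain ⟨k, hk⟩ : ∃ k, k = rk φ x - 1 := ⟨_, rfl⟩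
    have hrk : rk φ x = k + 1 := by rw [hk]; exact h1
    obtain ⟨p, hp⟩ : ∃ p, p = hV.primeIdealOf ⟨x, hxV'⟩ := ⟨_, rfl⟩
    have hfin : (φ.app V).hom.Finite := IsFinite.finite_app φ V hV
    have hfp : (φ.app V).hom.FinitePresentation := by
      have := Scheme.Hom.finitePresentation_appLE φ hV (hV.preimage φ) (le_refl _)
      rw [← Scheme.Hom.app_eq_appLE] at this
      exact this
    have hIfg := fittHom_fg (φ.app V).hom hfin hfp k
    have hIp : fittHom (φ.app V).hom k ≤ p.asIdeal := by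
      rw [hp, ← mem_zeroLocus_iff_le_primeIdealOf hV _ hxV', ← mem_support_fitI_iff φ hV hxV',
        ← not_not (a := x ∈ (fitI φ k).support), ← rk_le_iff]
      omega
    have hmin : ∀ q : Ideal Γ(X, V), q.IsPrime → q ≤ p.asIdeal → q = p.asIdeal := by
      intro q hq hqp
      obtain ⟨y, hy, hqy⟩ := primeIdealOf_fromSpec hV ⟨q, hq⟩
      have hspec : (⟨q, hq⟩ : PrimeSpectrum Γ(X, V)) ⤳ p :=
        (PrimeSpectrum.le_iff_specializes _ _).mp hqp
      have h2 : hV.fromSpec (⟨q, hq⟩ : PrimeSpectrum Γ(X, V)) ⤳ hV.fromSpec p :=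
        hspec.map hV.fromSpec.continuous
      have e1 : hV.fromSpec (⟨q, hq⟩ : PrimeSpectrum Γ(X, V)) = y := by
        rw [← hqy]; exact hV.fromSpec_primeIdealOf ⟨y, hy⟩
      have e2 : hV.fromSpec p = x := by
        rw [hp]; exact hV.fromSpec_primeIdealOf ⟨x, hxV'⟩
      rw [e1, e2] at h2
      have hyx : y = x := hx y h2
      subst hyx
      have : (⟨q, hq⟩ : PrimeSpectrum Γ(X, V)) = p := by rw [← hqy, hp]
      exact congrArg PrimeSpectrum.asIdeal this
    obtain ⟨g, hgp, hg⟩ := exists_notMem_forall_le_of_minimal p.asIdeal hmin _ hIfg hIp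
    refine ⟨(X.basicOpen g : Set X) ∩ {y | rk φ y ≤ k + 1},
      (X.basicOpen g).isOpen.inter (isOpen_rk_le φ (k + 1)), ⟨?_, le_of_eq hrk⟩, ?_⟩
    · rw [SetLike.mem_coe, mem_basicOpen_iff_notMem_primeIdealOf hV hxV', ← hp]
      exact hgp
    · rintro y ⟨hyg, hyr⟩
      have hyV : y ∈ V := X.basicOpen_le g hyg
      have hyr' : rk φ y ≤ k + 1 := hyr
      have h3 : fittHom (φ.app V).hom k ≤ (hV.primeIdealOf ⟨y, hyV⟩).asIdeal :=
        hg _ (hV.primeIdealOf ⟨y, hyV⟩).isPrime
          ((mem_basicOpen_iff_notMem_primeIdealOf hV hyV g).mp hyg)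
      rw [← mem_zeroLocus_iff_le_primeIdealOf hV _ hyV, ← mem_support_fitI_iff φ hV hyV,
        ← not_not (a := y ∈ (fitI φ k).support), ← rk_le_iff] at h3
      omega

theorem lfp_subschemeι_flatI [LocallyOfFinitePresentation φ] (hlc : ∀ x, x ∈ lcLocus φ) :
    LocallyOfFinitePresentation (flatI φ hlc).subschemeι := by
  rw [HasRingHomProperty.iff_exists_appLE (P := @LocallyOfFinitePresentation)
    (RingHom.finitePresentation_stableUnderComposition.stableUnderCompositionWithLocalizationAway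
      RingHom.finitePresentation_holdsForLocalizationAway).left]
  intro z
  obtain ⟨V, hV, hxV, -, hc⟩ :=
    exists_affine_rk_const φ hlc ((flatI φ hlc).subschemeι z) ⊤ trivial
  refine ⟨⟨V, hV⟩, ⟨(flatI φ hlc).subschemeι ⁻¹ᵁ V, hV.preimage _⟩, hxV, le_rfl, ?_⟩
  rw [← Scheme.Hom.app_eq_appLE]
  apply RingHom.FinitePresentation.of_surjective _ ((flatI φ hlc).subschemeι_app_surjective ⟨V, hV⟩)
  rw [(flatI φ hlc).ker_subschemeι_app ⟨V, hV⟩]
  rcases Nat.eq_zero_or_eq_succ_pred (rk φ ((flatI φ hlc).subschemeι z)) with h0 | h1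
  · rw [flatI_ideal_of_rk_zero φ hlc ⟨V, hV⟩ (fun y hy => by rw [hc y hy, h0])]
    exact Submodule.fg_bot
  · rw [flatI_ideal_of_rk_succ φ hlc ⟨V, hV⟩ (rk φ ((flatI φ hlc).subschemeι z) - 1)
      (fun y hy => by rw [hc y hy]; exact h1)]
    apply fittHom_fg _ (IsFinite.finite_app φ V hV)
    have := Scheme.Hom.finitePresentation_appLE φ hV (hV.preimage φ) (le_refl _)
    rw [← Scheme.Hom.app_eq_appLE] at this
    exact this

section Groupoid

open Groth.Agent.Lib.GrpdInvOpenH6

variable {S : Scheme.{u}} (G : Grpd.GroupoidScheme S) [IsFinite G.s]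
  [LocallyOfFinitePresentation G.s]

theorem lfp_subschemeι_invW' : LocallyOfFinitePresentation (invW' G).subschemeι := by
  haveI : LocallyOfFinitePresentation (G.s ∣_ invW G) :=
    MorphismProperty.of_isPullback (P := @LocallyOfFinitePresentation)
      (isPullback_morphismRestrict G.s (invW G)).flip inferInstance
  exact lfp_subschemeι_flatI (G.s ∣_ invW G) (lc_invW G)

theorem mem_invW_of_orbit_maximal (u : G.U)
    (hu : ∀ r : G.R, G.s r = u → ∀ x : G.U, x ⤳ G.t r → x = G.t r) : u ∈ invW G := by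
  intro r hr
  exact mem_lcLocus_of_maximal G.s (G.t r) (hu r hr)

end Groupoid

end Groth.Agent.Lib.FitStratH7
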