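import Mathlib
import Groth.Prelude.Def_Fitting
import Groth.Agent.Lib.Fitt7_helper8
import Groth.Agent.Lib.GenFreeE_helper8

/-!
# Stratification by the ranks of retracts of a finite module over a finite type algebra (helper5)

* `exists_ideal_of_specialization`: closedness criterion by Noetherian induction;
* `proj_rank_iff_fitt`: finite projective of constant rank `r` in terms of Fitting ideals;
* `exists_proj_of_retract`: generic projectivity of retracts (from helper8's generic freeness);
* `exists_spread`: spreading out non-vanishing of Fitting ideals of retracts along `V(p) ∩ D(f)`.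
-/

set_option autoImplicit false
set_option linter.style.haveILetI false
universe u
open TensorProduct

namespace Groth.Agent.Lib.GrStrat

open FittH8


section closed

variable {A : Type u} [CommRing A] [IsNoetherianRing A]

/-- **Closedness criterion** (Noetherian induction): a set `C` of primes of a Noetherian ring which
is stable under specialization, and such that every prime `p ∉ C` has a principal open
neighbourhood `D(f)` in `V(p)` missing `C`, is the set of primes containing an ideal. -/
theorem exists_ideal_of_specialization (C : Ideal A → Prop)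
    (hspec : ∀ p q : Ideal A, p.IsPrime → q.IsPrime → p ≤ q → C p → C q)
    (hopen : ∀ p : Ideal A, p.IsPrime → ¬ C p → ∃ f : A, f ∉ p ∧
      ∀ q : Ideal A, q.IsPrime → p ≤ q → f ∉ q → ¬ C q) :
    ∃ c : Ideal A, ∀ q : Ideal A, q.IsPrime → (C q ↔ c ≤ q) := by
  suffices h : ∀ I : Ideal A, ∃ c : Ideal A, ∀ q : Ideal A, q.IsPrime → I ≤ q → (C q ↔ c ≤ q) by
    obtain ⟨c, hc⟩ := h ⊥
    exact ⟨c, fun q hq => hc q hq bot_le⟩
  intro I
  refine IsNoetherian.induction (P := fun I : Ideal A => ∃ c : Ideal A, ∀ q : Ideal A, q.IsPrime →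
    I ≤ q → (C q ↔ c ≤ q)) (fun I IH => ?_) I
  by_cases htop : I = ⊤
  · refine ⟨⊤, fun q hq hIq => ?_⟩
    exact absurd (top_le_iff.mp (htop ▸ hIq)) hq.ne_top
  by_cases hprime : Ideal.IsPrime I
  · by_cases hCI : C I
    · refine ⟨I, fun q hq hIq => ⟨fun _ => hIq, fun _ => hspec I q hprime hq hIq hCI⟩⟩
    · obtain ⟨f, hfI, hf⟩ := hopen I hprime hCI
      have hlt : I < I ⊔ Ideal.span {f} := by
        refine lt_of_le_of_ne le_sup_left (fun h => hfI ?_)
        rw [h]
        exact Ideal.mem_sup_right (Ideal.subset_span rfl)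
      obtain ⟨c', hc'⟩ := IH _ hlt
      refine ⟨c' ⊔ (I ⊔ Ideal.span {f}), fun q hq hIq => ⟨fun hCq => ?_, fun hle => ?_⟩⟩
      · have hfq : f ∈ q := by
          by_contra hfq
          exact hf q hq hIq hfq hCq
        have hI'q : I ⊔ Ideal.span {f} ≤ q :=
          sup_le hIq ((Ideal.span_singleton_le_iff_mem q).mpr hfq)
        exact sup_le ((hc' q hq hI'q).mp hCq) hI'q
      · have hI'q : I ⊔ Ideal.span {f} ≤ q := le_trans le_sup_right hle
        exact (hc' q hq hI'q).mpr (le_trans le_sup_left hle)
  · -- `I` is neither prime nor the unit ideal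
    rw [Ideal.isPrime_iff] at hprime
    push Not at hprime
    obtain ⟨x, y, hxy, hx, hy⟩ := hprime htop
    have hlt₁ : I < I ⊔ Ideal.span {x} := by
      refine lt_of_le_of_ne le_sup_left (fun h => hx ?_)
      rw [h]
      exact Ideal.mem_sup_right (Ideal.subset_span rfl)
    have hlt₂ : I < I ⊔ Ideal.span {y} := by
      refine lt_of_le_of_ne le_sup_left (fun h => hy ?_)
      rw [h]
      exact Ideal.mem_sup_right (Ideal.subset_span rfl)
    obtain ⟨c₁, hc₁⟩ := IH _ hlt₁
    obtain ⟨c₂, hc₂⟩ := IH _ hlt₂
    refine ⟨(c₁ ⊔ (I ⊔ Ideal.span {x})) ⊓ (c₂ ⊔ (I ⊔ Ideal.span {y})),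
      fun q hq hIq => ⟨fun hCq => ?_, fun hle => ?_⟩⟩
    · rcases hq.mem_or_mem (hIq hxy) with hxq | hyq
      · have h1 : I ⊔ Ideal.span {x} ≤ q :=
          sup_le hIq ((Ideal.span_singleton_le_iff_mem q).mpr hxq)
        exact le_trans inf_le_left (sup_le ((hc₁ q hq h1).mp hCq) h1)
      · have h1 : I ⊔ Ideal.span {y} ≤ q :=
          sup_le hIq ((Ideal.span_singleton_le_iff_mem q).mpr hyq)
        exact le_trans inf_le_right (sup_le ((hc₂ q hq h1).mp hCq) h1)
    · rcases hq.inf_le.mp hle with h | h
      · exact (hc₁ q hq (le_trans le_sup_right h)).mpr (le_trans le_sup_left h)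
      · exact (hc₂ q hq (le_trans le_sup_right h)).mpr (le_trans le_sup_left h)

end closed




section fitt

variable {B : Type u} [CommRing B] (N : Type u) [AddCommGroup N] [Module B N]

/-- the top Fitting ideal of a finite projective module of constant rank `r` -/
theorem fitt_eq_top_of_projective [Module.Finite B N] [Module.Projective B N] (r : ℕ)
    (h : ∀ p : PrimeSpectrum B, Module.rankAtStalk N p = r) : Fitt.ideal B N r = ⊤ := by
  by_contra hne
  obtain ⟨m, hm, hle⟩ := Ideal.exists_le_maximal _ hne
  haveI := hm.isPrime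
  haveI : Module.Free (Localization.AtPrime m) (LocalizedModule m.primeCompl N) :=
    Module.free_of_flat_of_isLocalRing
  have hr : Module.finrank (Localization.AtPrime m) (LocalizedModule m.primeCompl N) = r :=
    h ⟨m, hm.isPrime⟩
  let b := Module.finBasis (Localization.AtPrime m) (LocalizedModule m.primeCompl N)
  let b' := b.reindex (finCongr hr)
  refine fitt_not_le_of_span r m m.primeCompl ?_ (Localization.AtPrime m)
    (LocalizedModule m.primeCompl N) (LocalizedModule.mkLinearMap m.primeCompl N) b'
    b'.span_eq hle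
  rw [Set.disjoint_left]
  intro x hx hx'
  exact hx hx'

/-- finite projective of constant rank `r`, in terms of Fitting ideals -/
theorem proj_rank_iff_fitt [Module.FinitePresentation B N] (r : ℕ) :
    (Module.Projective B N ∧ ∀ p : PrimeSpectrum B, Module.rankAtStalk N p = r) ↔
      ((∀ k, k < r → Fitt.ideal B N k = ⊥) ∧ Fitt.ideal B N r = ⊤) := by
  constructor
  · rintro ⟨hproj, hrank⟩
    exact ⟨fun k hk => fitt_eq_bot_of_projective k r hk hrank,
      fitt_eq_top_of_projective N r hrank⟩
  · rintro ⟨h1, h2⟩
    have hloc : ∀ (p : Ideal B) [p.IsPrime], ∃ f : B, f ∉ p ∧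
        Module.Free (Localization.Away f) (LocalizedModule (Submonoid.powers f) N) ∧
        Module.finrank (Localization.Away f) (LocalizedModule (Submonoid.powers f) N) = r := by
      intro p hp
      refine exists_free_of_fitt r p h1 ?_
      rw [h2]
      exact fun hle => hp.ne_top (top_le_iff.mp hle)
    have hproj : Module.Projective B N := by
      rw [← Module.freeLocus_eq_univ_iff, Set.eq_univ_iff_forall]
      intro p
      obtain ⟨f, hf, hfree, -⟩ := hloc p.asIdeal
      haveI := hfree
      have hsub : (PrimeSpectrum.basicOpen f : Set (PrimeSpectrum B)) ⊆ Module.freeLocus B N :=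
        Module.basicOpen_subset_freeLocus_iff.mpr inferInstance
      exact hsub hf
    refine ⟨hproj, ?_⟩
    · intro p
      obtain ⟨f, hf, hfree, hr⟩ := hloc p.asIdeal
      haveI := hfree
      have hp : p ∈ (PrimeSpectrum.basicOpen f : Set (PrimeSpectrum B)) := hf
      rw [← PrimeSpectrum.localization_away_comap_range (Localization.Away f) f] at hp
      obtain ⟨p', rfl⟩ := hp
      have hbc := IsLocalizedModule.isBaseChange (Submonoid.powers f) (Localization.Away f)
        (LocalizedModule.mkLinearMap (Submonoid.powers f) N)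
      rw [← Module.rankAtStalk_isBaseChange hbc p', Module.rankAtStalk_eq_finrank_of_free]
      exact hr

end fitt




section retract

attribute [local instance] Algebra.TensorProduct.rightAlgebra

/-- **Generic projectivity for retracts**: over a domain `A'` over `A`, after inverting one nonzero
element, the base changes of all `A`-linear retracts of a finite module over a finite type
`A`-algebra become projective. -/
theorem exists_proj_of_retract {A : Type u} [CommRing A] (R : Type u) [CommRing R] [Algebra A R]
    [Algebra.FiniteType A R] (M : Type u) [AddCommGroup M] [Module A M] [Module R M]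
    [IsScalarTower A R M] [Module.Finite R M] {ι : Type*} (X : ι → Type u)
    [∀ v, AddCommGroup (X v)] [∀ v, Module A (X v)] (i : ∀ v, X v →ₗ[A] M)
    (π : ∀ v, M →ₗ[A] X v) (hπi : ∀ v x, π v (i v x) = x)
    (A' : Type u) [CommRing A'] [IsDomain A'] [Algebra A A'] :
    ∃ a : A', a ≠ 0 ∧ ∀ (C : Type u) [CommRing C] [Algebra A' C] [IsLocalization.Away a C]
      (v : ι), Module.Projective C (C ⊗[A'] (A' ⊗[A] X v)) := by
  obtain ⟨a, ha, hG, -⟩ := GenFreeH8.main (R := A') (S := A' ⊗[A] R) ((A' ⊗[A] R) ⊗[R] M)
  refine ⟨a, ha, ?_⟩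
  intro C _ _ _ v
  have e : ((A' ⊗[A] R) ⊗[R] M) ≃ₗ[A'] A' ⊗[A] M :=
    Algebra.IsPushout.cancelBaseChange A A' R (A' ⊗[A] R) M
  have hG' : GenFreeH8.GFW A' (A' ⊗[A] M) a := hG.of_equiv e
  haveI : Module.Free C (C ⊗[A'] (A' ⊗[A] M)) := hG'.free (TensorProduct.mk A' C (A' ⊗[A] M) 1)
  have h2 : (((π v).baseChange A').baseChange C) ∘ₗ (((i v).baseChange A').baseChange C) =
      LinearMap.id := by
    rw [← LinearMap.baseChange_comp, ← LinearMap.baseChange_comp]
    have : π v ∘ₗ i v = LinearMap.id := LinearMap.ext (hπi v)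
    rw [this, LinearMap.baseChange_id, LinearMap.baseChange_id]
  exact Module.Projective.of_split _ _ h2

end retract


section const

variable {C : Type u} [CommRing C] (N : Type u) [AddCommGroup N] [Module C N]

/-- Fitting ideals of a finite projective module of constant rank `r`, in degrees `≥ r`. -/
theorem fitt_eq_top_of_projective_of_le [Module.Finite C N] [Module.Projective C N] (r k : ℕ)
    (hk : r ≤ k) (h : ∀ p : PrimeSpectrum C, Module.rankAtStalk N p = r) :
    Fitt.ideal C N k = ⊤ := by
  by_contra hne
  obtain ⟨m, hm, hle⟩ := Ideal.exists_le_maximal _ hne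
  haveI := hm.isPrime
  haveI : Module.Free (Localization.AtPrime m) (LocalizedModule m.primeCompl N) :=
    Module.free_of_flat_of_isLocalRing
  have hr : Module.finrank (Localization.AtPrime m) (LocalizedModule m.primeCompl N) = r :=
    h ⟨m, hm.isPrime⟩
  let b := Module.finBasis (Localization.AtPrime m) (LocalizedModule m.primeCompl N)
  let b' := b.reindex (finCongr hr)
  have h1 : Fitt.ideal (Localization.AtPrime m) (LocalizedModule m.primeCompl N) k = ⊤ :=
    fitt_eq_top_of_span b' b'.span_eq k hk
  rw [fitt_localization m.primeCompl (Localization.AtPrime m) _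
    (LocalizedModule.mkLinearMap m.primeCompl N)] at h1
  have h3 : (Fitt.ideal C N k).map (algebraMap C (Localization.AtPrime m)) ≤
      m.map (algebraMap C (Localization.AtPrime m)) := Ideal.map_mono hle
  rw [h1, top_le_iff] at h3
  refine (IsLocalization.map_algebraMap_ne_top_iff_disjoint m.primeCompl
    (Localization.AtPrime m) m).mpr ?_ h3
  rw [Set.disjoint_left]
  intro x hx hx'
  exact hx hx'

/-- a finite projective module over a domain has constant rank -/
theorem exists_rank_of_isDomain [IsDomain C] [Module.Finite C N] [Module.Projective C N] :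
    ∃ r : ℕ, ∀ p : PrimeSpectrum C, Module.rankAtStalk N p = r := by
  haveI : Module.FinitePresentation C N := Module.finitePresentation_of_projective C N
  have hlc := Module.isLocallyConstant_rankAtStalk (R := C) (M := N)
  refine ⟨Module.rankAtStalk N (⊥ : PrimeSpectrum C), fun p => ?_⟩
  exact hlc.apply_eq_of_preconnectedSpace p ⊥

end const


section spread

/-- **Spreading out the non-vanishing of Fitting ideals**: for `A`-linear retracts `X v` of a finite
module over a finite type `A`-algebra and a prime `p` of `A`, there is `f ∉ p` such that for every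
prime `q ⊇ p` not containing `f`, every Fitting ideal of some `X v` which is not contained in `p` is
not contained in `q`. -/
theorem exists_spread {A : Type u} [CommRing A] (R : Type u) [CommRing R] [Algebra A R]
    [Algebra.FiniteType A R] (M : Type u) [AddCommGroup M] [Module A M] [Module R M]
    [IsScalarTower A R M] [Module.Finite R M] {ι : Type*} (X : ι → Type u)
    [∀ v, AddCommGroup (X v)] [∀ v, Module A (X v)] [∀ v, Module.Finite A (X v)]
    (i : ∀ v, X v →ₗ[A] M) (π : ∀ v, M →ₗ[A] X v) (hπi : ∀ v x, π v (i v x) = x)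
    (p : Ideal A) [hp : p.IsPrime] :
    ∃ f : A, f ∉ p ∧ ∀ (v : ι) (r : ℕ) (q : Ideal A), q.IsPrime → p ≤ q → f ∉ q →
      ¬ Fitt.ideal A (X v) r ≤ p → ¬ Fitt.ideal A (X v) r ≤ q := by
  obtain ⟨a, ha, H⟩ := exists_proj_of_retract R M X i π hπi (A ⧸ p)
  obtain ⟨f, rfl⟩ := Ideal.Quotient.mk_surjective a
  have hfp : f ∉ p := fun h => ha (Ideal.Quotient.eq_zero_iff_mem.mpr h)
  refine ⟨f, hfp, ?_⟩
  intro v r q hq hpq hfq hnp hle
  let a : A ⧸ p := Ideal.Quotient.mk p f
  have hpow : Submonoid.powers a ≤ nonZeroDivisors (A ⧸ p) :=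
    powers_le_nonZeroDivisors_of_noZeroDivisors ha
  haveI : IsDomain (Localization.Away a) := IsLocalization.isDomain_localization hpow
  haveI := H (Localization.Away a) v
  obtain ⟨r', hr'⟩ := exists_rank_of_isDomain (C := Localization.Away a)
    ((Localization.Away a) ⊗[A ⧸ p] ((A ⧸ p) ⊗[A] X v))
  have hfitt : Fitt.ideal (Localization.Away a)
      ((Localization.Away a) ⊗[A ⧸ p] ((A ⧸ p) ⊗[A] X v)) r =
      ((Fitt.ideal A (X v) r).map (algebraMap A (A ⧸ p))).map
        (algebraMap (A ⧸ p) (Localization.Away a)) := by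
    rw [fitt_baseChange, fitt_baseChange]
  -- the Fitting ideal is nonzero
  obtain ⟨x, hx, hxp⟩ := SetLike.not_le_iff_exists.mp hnp
  have hne : Fitt.ideal (Localization.Away a)
      ((Localization.Away a) ⊗[A ⧸ p] ((A ⧸ p) ⊗[A] X v)) r ≠ ⊥ := by
    intro h0
    have hmem : algebraMap (A ⧸ p) (Localization.Away a) (algebraMap A (A ⧸ p) x) ∈
        Fitt.ideal (Localization.Away a)
          ((Localization.Away a) ⊗[A ⧸ p] ((A ⧸ p) ⊗[A] X v)) r := by
      rw [hfitt]
      exact Ideal.mem_map_of_mem _ (Ideal.mem_map_of_mem _ hx)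
    rw [h0, Ideal.mem_bot] at hmem
    have hinj := IsLocalization.injective (Localization.Away a) hpow
    have h1 : algebraMap A (A ⧸ p) x = 0 := hinj (hmem.trans (map_zero _).symm)
    exact hxp (Ideal.Quotient.eq_zero_iff_mem.mp h1)
  have hle' : r' ≤ r := by
    by_contra hlt
    exact hne (fitt_eq_bot_of_projective r r' (by omega) hr')
  have htop := fitt_eq_top_of_projective_of_le (C := Localization.Away a)
    ((Localization.Away a) ⊗[A ⧸ p] ((A ⧸ p) ⊗[A] X v)) r' r hle' hr'
  rw [hfitt] at htop
  -- the prime `q` survives in the localization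
  have hq' : (q.map (Ideal.Quotient.mk p)).IsPrime :=
    Ideal.map_isPrime_of_surjective Ideal.Quotient.mk_surjective (by rwa [Ideal.mk_ker])
  have haq : a ∉ q.map (Ideal.Quotient.mk p) := by
    intro h
    obtain ⟨y, hy, hyf⟩ := (Ideal.mem_map_iff_of_surjective _ Ideal.Quotient.mk_surjective).mp h
    have h2 : y - f ∈ p := Ideal.Quotient.eq.mp hyf
    have h3 : f = y - (y - f) := by ring
    rw [h3] at hfq
    exact hfq (q.sub_mem hy (hpq h2))
  have hdisj : Disjoint (Submonoid.powers a : Set (A ⧸ p))
      (q.map (Ideal.Quotient.mk p) : Set (A ⧸ p)) := by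
    rw [Set.disjoint_left]
    rintro _ ⟨n, rfl⟩ hn
    exact haq (hq'.mem_of_pow_mem n hn)
  have hQ := (IsLocalization.map_algebraMap_ne_top_iff_disjoint (Submonoid.powers a)
    (Localization.Away a) (q.map (Ideal.Quotient.mk p))).mpr hdisj
  apply hQ
  rw [eq_top_iff, ← htop]
  exact Ideal.map_mono (Ideal.map_mono hle)

end spread

end Groth.Agent.Lib.GrStrat
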