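import Mathlib
import Groth.Prelude.Def_Grpd
import Groth.Agent.Lib.FitStrat6_helper7
import Groth.Agent.Lib.CAlgMisc8_helper1
import Groth.Agent.Lib.GrStrat1_helper5

/-!
# Fitting ideal sheaves of finite morphisms: factorisation criterion and strata (helper7)

* `fitI_zero_eq_bot`: the zeroth Fitting ideal sheaf of a finite morphism with a section vanishes;
* `fitI_eq_bot_of_factors` / `exists_lift_of_fitI_eq_bot`: `g` factors through `V(Fit_k φ)` iff the
  `k`-th Fitting ideal sheaf of the base change of `φ` along `g` vanishes;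
* `isFinLocFreeOfDeg_of_fittHom`: finite locally free of degree `d` from Fitting ideals.
-/

set_option backward.isDefEq.respectTransparency false
set_option backward.isDefEq.respectTransparency.types false
set_option linter.style.haveILetI false
set_option linter.unusedSectionVars false
set_option linter.unusedVariables false
set_option autoImplicit false
set_option maxHeartbeats 1600000

universe u

open CategoryTheory CategoryTheory.Limits AlgebraicGeometry TopologicalSpace

namespace Groth.Agent.Lib.FitStratH7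

section Algebra

variable {A B : Type u} [CommRing A] [CommRing B]

theorem fittHom_zero_eq_bot (f : A →+* B) (hf : Function.Injective f) : fittHom f 0 = ⊥ := by
  letI := f.toAlgebra
  rw [eq_bot_iff]
  intro a ha
  have ha' : a ∈ Fitt.ideal A B 0 := ha
  have h1 : a ∈ Module.annihilator A B :=
    Groth.Agent.CAlgMisc8H1.fitt_zero_le_ann (R := A) B ha'
  rw [Module.mem_annihilator] at h1
  have h2 : a • (1 : B) = 0 := h1 1
  have h3 : f a = 0 := by
    have e : a • (1 : B) = f a * 1 := rfl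
    rw [e, mul_one] at h2
    exact h2
  exact (Ideal.mem_bot).mpr (hf (h3.trans (map_zero f).symm))

/-- The rank of a finite ring map read off from its Fitting ideals. -/
theorem finrank_eq_of_fittHom (f : A →+* B) (hf : f.Finite) (r : ℕ)
    (h1 : ∀ k, k < r → fittHom f k = ⊥) (h2 : ∀ k, r ≤ k → fittHom f k = ⊤)
    (p : PrimeSpectrum A) : f.finrank p = r := by
  obtain ⟨hflat, hfp⟩ := flat_fp_of_fittHom f hf r h1 h2
  letI := f.toAlgebra
  haveI : Module.Finite A B := hf
  haveI : Algebra.FinitePresentation A B := hfp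
  haveI : Module.FinitePresentation A B :=
    Module.FinitePresentation.of_finite_of_finitePresentation A B
  have h3 : ∀ k, k < r → Fitt.ideal A B k = ⊥ := fun k hk => h1 k hk
  have h4 : Fitt.ideal A B r = ⊤ := h2 r le_rfl
  have h5 := (Groth.Agent.Lib.GrStrat.proj_rank_iff_fitt (B := A) B r).mpr ⟨h3, h4⟩
  exact h5.2 p

end Algebra

variable {X Y : Scheme.{u}} (φ : Y ⟶ X) [IsFinite φ]

/-- The zeroth Fitting ideal sheaf of a finite morphism admitting a section is zero. -/
theorem fitI_zero_eq_bot (e : X ⟶ Y) (he : e ≫ φ = 𝟙 X) : fitI φ 0 = ⊥ := by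
  rw [eq_bot_iff]
  intro V
  show fittHom (φ.app V.1).hom 0 ≤ ⊥
  rw [fittHom_zero_eq_bot]
  haveI : IsIso (φ.app V.1 ≫ e.app (φ ⁻¹ᵁ V.1)) := by
    rw [← Scheme.Hom.comp_app, Scheme.Hom.congr_app he V.1]
    infer_instance
  have h1 : Function.Injective (φ.app V.1 ≫ e.app (φ ⁻¹ᵁ V.1)).hom :=
    (ConcreteCategory.bijective_of_isIso (φ.app V.1 ≫ e.app (φ ⁻¹ᵁ V.1))).1
  rw [CommRingCat.hom_comp, RingHom.coe_comp] at h1
  exact Function.Injective.of_comp h1

variable {P T : Scheme.{u}} {fst : P ⟶ Y} {snd : P ⟶ T} {g : T ⟶ X}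

/-- If `g` factors through `V(Fit_k φ)` then the `k`-th Fitting ideal sheaf of the base change
vanishes. -/
theorem fitI_eq_bot_of_le_ker (H : IsPullback fst snd φ g) [IsFinite snd] (k : ℕ)
    (hle : fitI φ k ≤ g.ker) : fitI snd k = ⊥ := by
  rw [eq_bot_iff]
  apply Scheme.IdealSheafData.le_of_iSup_eq_top
    (ι := {W : T.affineOpens // ∃ V : X.affineOpens, W.1 ≤ g ⁻¹ᵁ V.1}) (fun W => W.1)
  · rw [eq_top_iff]
    intro t _
    obtain ⟨_, ⟨V, hV : IsAffineOpen V, rfl⟩, hxV, -⟩ :=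
      X.isBasis_affineOpens.exists_subset_of_mem_open (Set.mem_univ (g t)) isOpen_univ
    have htV : t ∈ g ⁻¹ᵁ V := hxV
    obtain ⟨_, ⟨T₁, hT₁ : IsAffineOpen T₁, rfl⟩, htT₁, hle'⟩ :=
      T.isBasis_affineOpens.exists_subset_of_mem_open htV (g ⁻¹ᵁ V).isOpen
    rw [Opens.mem_iSup]
    exact ⟨⟨⟨T₁, hT₁⟩, ⟨V, hV⟩, hle'⟩, htT₁⟩
  · rintro ⟨W, V, hWV⟩
    show fittHom (snd.app W.1).hom k ≤ ⊥
    rw [fittHom_app_of_isPullback φ H V.2 W.2 hWV k, le_bot_iff, Ideal.map_eq_bot_iff_le_ker]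
    have h1 : fittHom (φ.app V.1).hom k ≤ RingHom.ker (g.app V.1).hom :=
      (hle V).trans (Scheme.Hom.ideal_ker_le g V)
    refine h1.trans ?_
    intro a ha
    rw [RingHom.mem_ker] at ha ⊢
    have e1 : (g.appLE V.1 W.1 hWV).hom a =
        (T.presheaf.map (homOfLE hWV).op).hom ((g.app V.1).hom a) := rfl
    rw [e1, ha, map_zero]

theorem fitI_eq_bot_of_factors (H : IsPullback fst snd φ g) [IsFinite snd] (k : ℕ)
    (l : T ⟶ (fitI φ k).subscheme) (hl : l ≫ (fitI φ k).subschemeι = g) : fitI snd k = ⊥ := by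
  apply fitI_eq_bot_of_le_ker φ H k
  have h1 := Scheme.Hom.le_ker_comp l (fitI φ k).subschemeι
  rw [Scheme.IdealSheafData.ker_subschemeι, hl] at h1
  exact h1

/-- If the `k`-th Fitting ideal sheaf of the base change vanishes then `g` factors through
`V(Fit_k φ)`. -/
theorem exists_lift_of_fitI_eq_bot (H : IsPullback fst snd φ g) [IsFinite snd] (k : ℕ)
    (h : fitI snd k = ⊥) :
    ∃ l : T ⟶ (fitI φ k).subscheme, l ≫ (fitI φ k).subschemeι = g := by
  have hle : fitI φ k ≤ g.ker := by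
    unfold Scheme.Hom.ker
    rw [Scheme.IdealSheafData.le_ofIdeals_iff]
    intro V a ha
    rw [RingHom.mem_ker]
    apply T.IsSheaf.section_ext
    intro t ht
    have ht' : t ∈ g ⁻¹ᵁ V.1 := ht
    obtain ⟨_, ⟨T₁, hT₁ : IsAffineOpen T₁, rfl⟩, htT₁, hle⟩ :=
      T.isBasis_affineOpens.exists_subset_of_mem_open ht' (g ⁻¹ᵁ V.1).isOpen
    have htT₁' : t ∈ T₁ := htT₁
    have hleV : T₁ ≤ g ⁻¹ᵁ V.1 := hle
    refine ⟨T₁, hleV, htT₁', ?_⟩
    rw [map_zero]
    have e1 : T.presheaf.map (homOfLE hleV).op ((g.app V.1) a) = (g.appLE V.1 T₁ hleV) a := rfl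
    rw [e1]
    have ha' : a ∈ fittHom (φ.app V.1).hom k := ha
    have hmem : (g.appLE V.1 T₁ hleV) a ∈
        (fittHom (φ.app V.1).hom k).map (g.appLE V.1 T₁ hleV).hom :=
      Ideal.mem_map_of_mem _ ha'
    rw [← fittHom_app_of_isPullback φ H V.2 hT₁ hleV k] at hmem
    have hbot : fittHom (snd.app T₁).hom k = ⊥ := by
      have h1 : (fitI snd k).ideal ⟨T₁, hT₁⟩ = (⊥ : T.IdealSheafData).ideal ⟨T₁, hT₁⟩ := by
        rw [h]
      exact h1
    rw [hbot] at hmem
    exact hmem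
  have hle2 : (fitI φ k).subschemeι.ker ≤ g.ker := by
    rw [Scheme.IdealSheafData.ker_subschemeι]
    exact hle
  exact ⟨IsClosedImmersion.lift (fitI φ k).subschemeι g hle2,
    IsClosedImmersion.lift_fac _ _ _⟩

/-- The rank of a finite flat morphism, computed over an affine open (copied from helper9's
`FEtEuler9.finrank_eq_ringHom_finrank` to keep the import closure small). -/
theorem finrank_eq_ringHom_finrank' {X Y : Scheme.{u}} (f : X ⟶ Y) [IsFinite f] [Flat f]
    {V : Y.Opens} (hV : IsAffineOpen V) (y : Y) (hy : y ∈ V) :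
    f.finrank y = (f.app V).hom.finrank (hV.primeIdealOf ⟨y, hy⟩) := by
  have hU : IsAffineOpen (f ⁻¹ᵁ V) := hV.preimage f
  have hcomm : hU.fromSpec ≫ f = Spec.map (f.app V) ≫ hV.fromSpec := by
    rw [Scheme.Hom.app_eq_appLE]
    exact (IsAffineOpen.SpecMap_appLE_fromSpec f hV hU le_rfl).symm
  have hsq : IsPullback (Spec.map (f.app V)) hU.fromSpec hV.fromSpec f :=
    IsOpenImmersion.isPullback _ _ _ _ hcomm
      (by rw [hV.opensRange_fromSpec, hU.opensRange_fromSpec])
  have h1 : Scheme.Hom.finrank (Spec.map (f.app V)) (hV.primeIdealOf ⟨y, hy⟩) = f.finrank y := by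
    have h0 := Scheme.Hom.finrank_of_isPullback hU.fromSpec (Spec.map (f.app V)) f hV.fromSpec
      hsq.flip (hV.primeIdealOf ⟨y, hy⟩)
    rw [hV.fromSpec_primeIdealOf ⟨y, hy⟩] at h0
    exact h0
  have hfin : (f.app V).hom.Finite := f.finite_app V hV
  have hflat : (f.app V).hom.Flat := by
    rw [Scheme.Hom.app_eq_appLE]
    exact HasRingHomProperty.appLE (P := @Flat) f inferInstance ⟨V, hV⟩ ⟨_, hU⟩ le_rfl
  rw [Scheme.Hom.finrank_SpecMap_eq_finrank hfin hflat] at h1
  exact h1.symm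

/-- Finite locally free of degree `d` in terms of Fitting ideals of sections. -/
theorem isFinLocFreeOfDeg_of_fittHom {P T : Scheme.{u}} (ψ : P ⟶ T) [IsFinite ψ] (d : ℕ)
    (h : ∀ (W : T.Opens), IsAffineOpen W →
      (∀ k, k < d → fittHom (ψ.app W).hom k = ⊥) ∧ (∀ k, d ≤ k → fittHom (ψ.app W).hom k = ⊤)) :
    Mor2.IsFinLocFreeOfDeg d ψ := by
  have key : ∀ (W : T.Opens) (hW : IsAffineOpen W),
      (ψ.app W).hom.Flat ∧ (ψ.app W).hom.FinitePresentation := by
    intro W hW
    exact flat_fp_of_fittHom (ψ.app W).hom (IsFinite.finite_app ψ _ hW) d (h W hW).1 (h W hW).2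
  have hflat : Flat ψ := by
    rw [HasRingHomProperty.iff_exists_appLE (P := @Flat)
      (RingHom.Flat.stableUnderComposition.stableUnderCompositionWithLocalizationAway
        RingHom.Flat.holdsForLocalizationAway).left]
    intro p
    obtain ⟨_, ⟨O, hO : IsAffineOpen O, rfl⟩, hzO, -⟩ :=
      T.isBasis_affineOpens.exists_subset_of_mem_open (Set.mem_univ (ψ p)) isOpen_univ
    refine ⟨⟨O, hO⟩, ⟨ψ ⁻¹ᵁ O, hO.preimage ψ⟩, hzO, le_rfl, ?_⟩
    rw [← Scheme.Hom.app_eq_appLE]
    exact (key O hO).1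
  have hlfp : LocallyOfFinitePresentation ψ := by
    rw [HasRingHomProperty.iff_exists_appLE (P := @LocallyOfFinitePresentation)
      (RingHom.finitePresentation_stableUnderComposition.stableUnderCompositionWithLocalizationAway
        RingHom.finitePresentation_holdsForLocalizationAway).left]
    intro p
    obtain ⟨_, ⟨O, hO : IsAffineOpen O, rfl⟩, hzO, -⟩ :=
      T.isBasis_affineOpens.exists_subset_of_mem_open (Set.mem_univ (ψ p)) isOpen_univ
    refine ⟨⟨O, hO⟩, ⟨ψ ⁻¹ᵁ O, hO.preimage ψ⟩, hzO, le_rfl, ?_⟩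
    rw [← Scheme.Hom.app_eq_appLE]
    exact (key O hO).2
  refine ⟨⟨inferInstance, hflat, hlfp⟩, ?_⟩
  intro y
  haveI := hflat
  obtain ⟨_, ⟨O, hO : IsAffineOpen O, rfl⟩, hyO, -⟩ :=
    T.isBasis_affineOpens.exists_subset_of_mem_open (Set.mem_univ y) isOpen_univ
  have hyO' : y ∈ O := hyO
  rw [finrank_eq_ringHom_finrank' ψ hO y hyO']
  exact finrank_eq_of_fittHom (ψ.app O).hom (IsFinite.finite_app ψ _ hO) d (h O hO).1 (h O hO).2 _

/-- Finite locally free of degree `d` in terms of Fitting ideal sheaves and ranks. -/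
theorem isFinLocFreeOfDeg_of_fitI {P T : Scheme.{u}} (ψ : P ⟶ T) [IsFinite ψ] (d : ℕ)
    (h1 : ∀ k, k < d → fitI ψ k = ⊥) (h2 : ∀ t : T, rk ψ t ≤ d) :
    Mor2.IsFinLocFreeOfDeg d ψ := by
  apply isFinLocFreeOfDeg_of_fittHom ψ d
  intro W hW
  constructor
  · intro k hk
    have h3 : (fitI ψ k).ideal ⟨W, hW⟩ = (⊥ : T.IdealSheafData).ideal ⟨W, hW⟩ := by
      rw [h1 k hk]
    exact h3
  · intro k hk
    exact fittHom_app_eq_top ψ hW k (fun y _ => (h2 y).trans hk)

end Groth.Agent.Lib.FitStratH7
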