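import Mathlib
import Groth.Prelude.Def_Grpd
import Groth.Agent.Lib.FitStrat7_helper7

/-!
# The invariant Fitting stratification of a finite groupoid scheme (helper7)
-/

set_option backward.isDefEq.respectTransparency false
set_option backward.isDefEq.respectTransparency.types false
set_option linter.style.haveILetI false
set_option linter.unusedSectionVars false
set_option linter.unusedVariables false
set_option autoImplicit false
set_option maxHeartbeats 1600000

universe u

open CategoryTheory CategoryTheory.Limits AlgebraicGeometry TopologicalSpace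

namespace Groth.Agent.Lib.FitStratH7

variable {S : Scheme.{u}} (G : Grpd.GroupoidScheme S) [IsFinite G.s]

/-- Factoring through `V(Fit_k)` is an invariant condition. -/
theorem fitI_factors_s_iff_factors_t (k : ℕ) {T : Scheme.{u}} (a : T ⟶ G.R) :
    (∃ l : T ⟶ (fitI G.s k).subscheme, l ≫ (fitI G.s k).subschemeι = a ≫ G.s) ↔
      (∃ l : T ⟶ (fitI G.s k).subscheme, l ≫ (fitI G.s k).subschemeι = a ≫ G.t) := by
  have HQ := IsPullback.of_hasPullback (pullback.snd G.s G.t) a
  have HA : IsPullback (pullback.fst (pullback.snd G.s G.t) a ≫ G.c)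
      (pullback.snd (pullback.snd G.s G.t) a) G.s (a ≫ G.s) :=
    HQ.paste_horiz (Groth.Agent.Lib.GrpdCalc.isPullback_c G)
  have HB : IsPullback (pullback.fst (pullback.snd G.s G.t) a ≫ pullback.fst G.s G.t)
      (pullback.snd (pullback.snd G.s G.t) a) G.s (a ≫ G.t) :=
    HQ.paste_horiz (IsPullback.of_hasPullback G.s G.t)
  haveI : IsFinite (pullback.snd (pullback.snd G.s G.t) a) :=
    MorphismProperty.of_isPullback (P := @IsFinite) HA inferInstance
  constructor
  · rintro ⟨l, hl⟩
    exact exists_lift_of_fitI_eq_bot G.s HB k (fitI_eq_bot_of_factors G.s HA k l hl)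
  · rintro ⟨l, hl⟩
    exact exists_lift_of_fitI_eq_bot G.s HA k (fitI_eq_bot_of_factors G.s HB k l hl)

/-- The closed subscheme `V(Fit_k)` is invariant. -/
theorem exists_iso_pullback_fitI (k : ℕ) :
    ∃ φ : pullback G.s (fitI G.s k).subschemeι ≅ pullback G.t (fitI G.s k).subschemeι,
      φ.hom ≫ pullback.fst G.t (fitI G.s k).subschemeι =
        pullback.fst G.s (fitI G.s k).subschemeι := by
  obtain ⟨ι, hι⟩ : ∃ ι : (fitI G.s k).subscheme ⟶ G.U, ι = (fitI G.s k).subschemeι := ⟨_, rfl⟩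
  haveI : Mono ι := by rw [hι]; infer_instance
  rw [← hι]
  obtain ⟨c₁, hc₁⟩ : ∃ l : pullback G.s ι ⟶ (fitI G.s k).subscheme,
      l ≫ ι = pullback.fst G.s ι ≫ G.t := by
    rw [hι]
    exact (fitI_factors_s_iff_factors_t G k (pullback.fst G.s (fitI G.s k).subschemeι)).mp
      ⟨pullback.snd G.s (fitI G.s k).subschemeι, pullback.condition.symm⟩
  obtain ⟨c₂, hc₂⟩ : ∃ l : pullback G.t ι ⟶ (fitI G.s k).subscheme,
      l ≫ ι = pullback.fst G.t ι ≫ G.s := by
    rw [hι]
    exact (fitI_factors_s_iff_factors_t G k (pullback.fst G.t (fitI G.s k).subschemeι)).mpr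
      ⟨pullback.snd G.t (fitI G.s k).subschemeι, pullback.condition.symm⟩
  refine ⟨⟨pullback.lift (pullback.fst G.s ι) c₁ hc₁.symm,
    pullback.lift (pullback.fst G.t ι) c₂ hc₂.symm, ?_, ?_⟩, ?_⟩
  · rw [← cancel_mono (pullback.fst G.s ι), Category.assoc, pullback.lift_fst,
      pullback.lift_fst, Category.id_comp]
  · rw [← cancel_mono (pullback.fst G.t ι), Category.assoc, pullback.lift_fst,
      pullback.lift_fst, Category.id_comp]
  · exact pullback.lift_fst _ _ _

/-- The restriction of the source map to the stratum `V(Fit_r) \ V(Fit_{r+1})` is finite locally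
free of degree `r + 1`. -/
theorem isFinLocFreeOfDeg_stratum (r : ℕ) :
    Mor2.IsFinLocFreeOfDeg (r + 1)
      (pullback.snd G.s ((((fitI G.s r).subschemeι ⁻¹ᵁ (fitI G.s (r + 1)).support.compl).ι ≫
        (fitI G.s r).subschemeι))) := by
  obtain ⟨O, hO⟩ : ∃ O : (fitI G.s r).subscheme.Opens,
      O = (fitI G.s r).subschemeι ⁻¹ᵁ (fitI G.s (r + 1)).support.compl := ⟨_, rfl⟩
  rw [← hO]
  obtain ⟨g, hg⟩ : ∃ g : O.toScheme ⟶ G.U, g = O.ι ≫ (fitI G.s r).subschemeι := ⟨_, rfl⟩
  rw [← hg]
  have H := IsPullback.of_hasPullback G.s g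
  haveI : IsFinite (pullback.snd G.s g) :=
    MorphismProperty.of_isPullback (P := @IsFinite) H inferInstance
  have hbot : fitI (pullback.snd G.s g) r = ⊥ := fitI_eq_bot_of_factors G.s H r O.ι hg.symm
  apply isFinLocFreeOfDeg_of_fitI
  · intro k hk
    rw [eq_bot_iff, ← hbot]
    exact fitI_mono _ (by omega)
  · intro t
    rw [rk_of_isPullback G.s H t, rk_le_iff]
    obtain ⟨x₀, hx₀⟩ : ∃ x₀ : (fitI G.s r).subscheme, x₀ = O.ι t := ⟨_, rfl⟩
    have h1 : x₀ ∈ O := by
      rw [hx₀]
      exact t.2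
    rw [hO] at h1
    have h2 : (fitI G.s r).subschemeι x₀ ∈ (fitI G.s (r + 1)).support.compl := h1
    have h3 : g t = (fitI G.s r).subschemeι x₀ := by
      rw [hg, Scheme.Hom.comp_apply, hx₀]
    rw [h3]
    exact h2

/-- Stacks 0AB9: the invariant Fitting stratification. -/
theorem main7513 : ∃ Z : ℕ → G.U.IdealSheafData, Z 0 = ⊥ ∧ Monotone Z ∧
    (⋂ r, ((Z r).support : Set G.U)) = ∅ ∧
    (∀ r, ∃ φ : pullback G.s (Z r).subschemeι ≅ pullback G.t (Z r).subschemeι,
      φ.hom ≫ pullback.fst G.t (Z r).subschemeι = pullback.fst G.s (Z r).subschemeι) ∧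
    ∀ r, Mor2.IsFinLocFreeOfDeg (r + 1)
      (pullback.snd G.s (((Z r).subschemeι ⁻¹ᵁ (Z (r + 1)).support.compl).ι ≫
        (Z r).subschemeι)) := by
  refine ⟨fun r => fitI G.s r, fitI_zero_eq_bot G.s G.e G.e_s, ?_, ?_, ?_, ?_⟩
  · intro j k hjk
    exact fitI_mono G.s hjk
  · rw [Set.eq_empty_iff_forall_notMem]
    intro x hx
    obtain ⟨k, hk⟩ := exists_notMem_support_fitI G.s x
    exact hk (Set.mem_iInter.mp hx k)
  · intro r
    exact exists_iso_pullback_fitI G r
  · intro r
    exact isFinLocFreeOfDeg_stratum G r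

end Groth.Agent.Lib.FitStratH7
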