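import Mathlib
import Groth.Prelude.Def_Fitting
import Groth.Agent.Lib.Fitt12_helper8

/-!
# Fitting ideals: structure of modules with `Fit_k = (f)`, `Fit_{k-1} = 0` (helper8)
APPEND-ONLY once landed.
-/

set_option autoImplicit false

namespace FittH8

open Matrix CategoryTheory

universe u

theorem fitt_principal_structure {R : Type u} [CommRing R] (M : Type u)
    [AddCommGroup M] [Module R M] [Module.FinitePresentation R M] (k : ℕ) (f : R)
    (hf0 : f ∈ nonZeroDivisors R)
    (hf : Fitt.ideal R M k = Ideal.span {f}) (hk : k = 0 ∨ Fitt.ideal R M (k - 1) = ⊥) :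
    HasProjectiveDimensionLT (ModuleCat.of R M) 2 ∧
    (∀ x : M, (∃ n : ℕ, f ^ n • x = 0) ↔ f • x = 0) ∧
    HasProjectiveDimensionLT (ModuleCat.of R ↥(LinearMap.ker (f • (LinearMap.id : M →ₗ[R] M)))) 2 ∧
    (∀ (p : Ideal R) [p.IsPrime], ∃ g : R, g ∉ p ∧
      Module.Free (Localization.Away g)
          (LocalizedModule (Submonoid.powers g) (M ⧸ LinearMap.ker (f • (LinearMap.id : M →ₗ[R] M)))) ∧
        Module.finrank (Localization.Away g)
          (LocalizedModule (Submonoid.powers g) (M ⧸ LinearMap.ker (f • (LinearMap.id : M →ₗ[R] M)))) = k) ∧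
    Nonempty (M ≃ₗ[R] (M ⧸ LinearMap.ker (f • (LinearMap.id : M →ₗ[R] M))) ×
      ↥(LinearMap.ker (f • (LinearMap.id : M →ₗ[R] M)))) := by
  classical
  obtain ⟨M', hM'def⟩ : ∃ M' : Submodule R M, M' = LinearMap.ker (f • (LinearMap.id : M →ₗ[R] M)) :=
    ⟨_, rfl⟩
  rw [← hM'def]
  have hM' : ∀ x, x ∈ M' ↔ f • x = 0 := by
    intro x
    rw [hM'def]
    simp
  have hQtop : Fitt.ideal R (M ⧸ M') k = ⊤ :=
    fitt_quotient_torsion_eq_top k f hf0 hf M' (fun x hx => (hM' x).2 hx)
  have hQbot : ∀ j, j < k → Fitt.ideal R (M ⧸ M') j = ⊥ := by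
    intro j hj
    have hk1 : Fitt.ideal R M (k - 1) = ⊥ := hk.resolve_left (by omega)
    have hle : M' ≤ FlatCA.powTorsion R f M := by
      intro x hx
      rw [mem_powTorsion_iff]
      exact ⟨1, by rw [pow_one]; exact (hM' x).1 hx⟩
    have h1 := fitt_le_of_surjective (Submodule.factor hle) (Submodule.factor_surjective hle) (k - 1)
    rw [fitt_quotient_powTorsion_eq_bot (k - 1) f hf0 hk1] at h1
    rw [eq_bot_iff]
    exact (fitt_mono (show j ≤ k - 1 by omega)).trans h1
  have h4 : ∀ (p : Ideal R) [p.IsPrime], ∃ g : R, g ∉ p ∧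
      Module.Free (Localization.Away g) (LocalizedModule (Submonoid.powers g) (M ⧸ M')) ∧
        Module.finrank (Localization.Away g)
          (LocalizedModule (Submonoid.powers g) (M ⧸ M')) = k := by
    intro p _
    apply exists_free_of_fitt k p hQbot
    rw [hQtop]
    exact fun h => (Ideal.IsPrime.ne_top ‹_›) (top_le_iff.mp h)
  -- `Q` is projective
  let s : Set R := {g | Module.Free (Localization.Away g)
    (LocalizedModule (Submonoid.powers g) (M ⧸ M'))}
  have hs : Ideal.span s = ⊤ := by
    by_contra h
    obtain ⟨p, hp, hle⟩ := Ideal.exists_le_maximal _ h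
    haveI := hp.isPrime
    obtain ⟨g, hgp, hfree, _⟩ := h4 p
    exact hgp (hle (Ideal.subset_span hfree))
  haveI hfp : Module.FinitePresentation R (M ⧸ M') :=
    Module.FinitePresentation.of_localizationSpan s hs (fun g => by
      haveI : Module.Free (Localization.Away g.1)
        (LocalizedModule (Submonoid.powers g.1) (M ⧸ M')) := g.2
      exact Module.finitePresentation_of_projective _ _)
  haveI hflat : Module.Flat R (M ⧸ M') :=
    Module.flat_of_localized_span R (M ⧸ M') s hs (fun g => by
      haveI : Module.Free (Localization.Away g.1)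
        (LocalizedModule (Submonoid.powers g.1) (M ⧸ M')) := g.2
      haveI : Module.Flat R (Localization.Away g.1) := IsLocalization.flat _ (Submonoid.powers g.1)
      exact Module.Flat.trans R (Localization.Away g.1) _)
  haveI hproj : Module.Projective R (M ⧸ M') := Module.Flat.projective_of_finitePresentation
  -- section and projection
  obtain ⟨σ, hσ⟩ := Module.projective_lifting_property M'.mkQ LinearMap.id
    (Submodule.mkQ_surjective M')
  have hσ' : ∀ q, Submodule.Quotient.mk (σ q) = q := fun q => by
    have := congrArg (fun φ => φ q) hσ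
    simpa using this
  let pr : M →ₗ[R] M' := (LinearMap.id - σ ∘ₗ M'.mkQ).codRestrict M' (fun x => by
    rw [← Submodule.Quotient.mk_eq_zero M']
    simp [hσ'])
  have hpr : ∀ x, ((pr x : M') : M) = x - σ (Submodule.Quotient.mk x) := fun x => rfl
  have hpr' : ∀ x : M', pr x = x := by
    intro x
    apply Subtype.ext
    rw [hpr, (Submodule.Quotient.mk_eq_zero M').mpr x.2, map_zero, sub_zero]
  let E : M ≃ₗ[R] (M ⧸ M') × M' := LinearEquiv.ofBijective (LinearMap.prod M'.mkQ pr) (by
    constructor
    · rw [← LinearMap.ker_eq_bot, LinearMap.ker_eq_bot']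
      intro x hx
      have hx' : (M'.mkQ x, pr x) = 0 := hx
      rw [Prod.mk_eq_zero] at hx'
      obtain ⟨h1, h2⟩ := hx'
      have h3 := congrArg (Subtype.val) h2
      rw [hpr] at h3
      rw [Submodule.mkQ_apply] at h1
      rw [h1, map_zero, sub_zero] at h3
      exact h3
    · rintro ⟨q, m⟩
      refine ⟨σ q + m, ?_⟩
      change (M'.mkQ (σ q + m), pr (σ q + m)) = (q, m)
      apply Prod.ext
      · simp [hσ']
      · simp only [map_add, hpr']
        have : pr (σ q) = 0 := by
          apply Subtype.ext
          rw [hpr, hσ', sub_self]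
          rfl
        rw [this, zero_add])
  -- pd of M
  have hpdM : HasProjectiveDimensionLT (ModuleCat.of R M) 2 := by
    obtain ⟨N, x, hx⟩ := Module.Finite.exists_fin (R := R) (M := M)
    have hsurj : Function.Surjective (Fintype.linearCombination R x) := by
      rw [← LinearMap.range_eq_top, Fintype.range_linearCombination, hx]
    have hS := LinearMap.shortExact_shortComplexKer hsurj
    haveI hKp : Module.Projective R (LinearMap.ker (Fintype.linearCombination R x)) :=
      ker_projective x hx k f hf0 hf hk
    have h1 : HasProjectiveDimensionLT (Fintype.linearCombination R x).shortComplexKer.X₁ 1 := by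
      haveI : Projective (ModuleCat.of R (LinearMap.ker (Fintype.linearCombination R x))) :=
        (IsProjective.iff_projective _).mp hKp
      change HasProjectiveDimensionLT
        (ModuleCat.of R (LinearMap.ker (Fintype.linearCombination R x))) 1
      infer_instance
    have h2 : HasProjectiveDimensionLT (Fintype.linearCombination R x).shortComplexKer.X₂ 2 := by
      haveI : Projective (ModuleCat.of R (Fin N → R)) :=
        (IsProjective.iff_projective _).mp inferInstance
      change HasProjectiveDimensionLT (ModuleCat.of R (Fin N → R)) 2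
      exact hasProjectiveDimensionLT_of_ge _ 1 2 (by omega)
    exact hS.hasProjectiveDimensionLT_X₃ 1 h1 h2
  refine ⟨hpdM, ?_, ?_, h4, ⟨E⟩⟩
  · intro x
    constructor
    · rintro ⟨n, hn⟩
      rw [← hM', ← Submodule.Quotient.mk_eq_zero M']
      have hreg : IsSMulRegular (M ⧸ M') (f ^ n) :=
        Module.Flat.isSMulRegular_of_nonZeroDivisors (pow_mem hf0 n)
      apply hreg
      change f ^ n • (Submodule.Quotient.mk x : M ⧸ M') = f ^ n • 0
      rw [smul_zero, ← Submodule.Quotient.mk_smul, hn, Submodule.Quotient.mk_zero]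
    · intro h
      exact ⟨1, by rw [pow_one]; exact h⟩
  · have hr : Retract (ModuleCat.of R M') (ModuleCat.of R M) :=
      { i := ModuleCat.ofHom M'.subtype
        r := ModuleCat.ofHom pr
        retract := by
          ext x
          exact congrArg Subtype.val (hpr' x) }
    exact hr.hasProjectiveDimensionLT 2

end FittH8
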