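import Mathlib
import Groth.Prelude.Def_Fitting
import Groth.Agent.Lib.Fitt14_helper8

/-!
# Fitting ideals of a direct sum (helper3)

`Fit_l(M × M') = ∑_{k ≤ l} Fit_k(M) · Fit_{l-k}(M')`, via minors of a block-diagonal
relation matrix.
-/

set_option autoImplicit false

namespace Groth.Agent.Lib.FittProdH3

open FittH8 Matrix

universe u

section Block

variable {R : Type u} [CommRing R] {ι₁ ι₂ κ₁ κ₂ : Type*} (c₁ : ι₁ → κ₁ → R) (c₂ : ι₂ → κ₂ → R)

/-- The block-diagonal "matrix" built from `c₁` and `c₂`. -/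
def blk : ι₁ ⊕ ι₂ → κ₁ ⊕ κ₂ → R :=
  Sum.elim (fun i => Sum.elim (c₁ i) (fun _ => 0)) (fun i => Sum.elim (fun _ => 0) (c₂ i))

theorem blk_eq_zero {x : ι₁ ⊕ ι₂} {y : κ₁ ⊕ κ₂} (h : x.isLeft ≠ y.isLeft) :
    blk c₁ c₂ x y = 0 := by
  cases x <;> cases y <;> simp_all [blk]

theorem blk_left {x : ι₁ ⊕ ι₂} {y : κ₁ ⊕ κ₂} (hx : x.isLeft = true) (hy : y.isLeft = true) :
    blk c₁ c₂ x y = c₁ (x.getLeft hx) (y.getLeft hy) := by
  rcases x with x | x
  · rcases y with y | y
    · rfl
    · exact absurd hy (by simp)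
  · exact absurd hx (by simp)

theorem blk_right {x : ι₁ ⊕ ι₂} {y : κ₁ ⊕ κ₂} (hx : x.isRight = true) (hy : y.isRight = true) :
    blk c₁ c₂ x y = c₂ (x.getRight hx) (y.getRight hy) := by
  rcases x with x | x
  · exact absurd hx (by simp)
  · rcases y with y | y
    · exact absurd hy (by simp)
    · rfl

theorem isRight_of_not {α β : Type*} {x : α ⊕ β} (h : ¬ x.isLeft = true) : x.isRight = true := by
  cases x <;> simp_all

theorem det_eq_zero_of_card_ne {r : ℕ} (t : Fin r → ι₁ ⊕ ι₂) (e : Fin r → κ₁ ⊕ κ₂)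
    (h : (Finset.univ.filter fun b => (t b).isLeft = true).card ≠
      (Finset.univ.filter fun a => (e a).isLeft = true).card) :
    (Matrix.of fun a b => blk c₁ c₂ (t b) (e a)).det = 0 := by
  classical
  rw [Matrix.det_apply]
  apply Finset.sum_eq_zero
  intro σ _
  have hex : ∃ i, (t i).isLeft ≠ (e (σ i)).isLeft := by
    by_contra hcon
    push_neg at hcon
    apply h
    apply Finset.card_bij (fun b _ => σ b)
    · intro b hb
      rw [Finset.mem_filter] at hb ⊢
      exact ⟨Finset.mem_univ _, by rw [← hcon b]; exact hb.2⟩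
    · intro b₁ _ b₂ _ hσ
      exact σ.injective hσ
    · intro a ha
      rw [Finset.mem_filter] at ha
      refine ⟨σ.symm a, ?_, by simp⟩
      rw [Finset.mem_filter]
      refine ⟨Finset.mem_univ _, ?_⟩
      rw [hcon (σ.symm a)]
      simpa using ha.2
  obtain ⟨i, hi⟩ := hex
  rw [Finset.prod_eq_zero (Finset.mem_univ i), smul_zero]
  show blk c₁ c₂ (t i) (e (σ i)) = 0
  exact blk_eq_zero c₁ c₂ hi

theorem block_minor {r : ℕ} (t : Fin r → ι₁ ⊕ ι₂) (e : Fin r → κ₁ ⊕ κ₂) :
    ∃ p q, p + q = r ∧
      (Matrix.of fun a b => blk c₁ c₂ (t b) (e a)).det ∈ minorsIdeal c₁ p * minorsIdeal c₂ q := by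
  classical
  by_cases h : (Finset.univ.filter fun b => (t b).isLeft = true).card =
      (Finset.univ.filter fun a => (e a).isLeft = true).card
  swap
  · refine ⟨r, 0, by omega, ?_⟩
    rw [det_eq_zero_of_card_ne c₁ c₂ t e h]
    exact Ideal.zero_mem _
  set N : Matrix (Fin r) (Fin r) R := Matrix.of fun a b => blk c₁ c₂ (t b) (e a) with hN
  let PT : Fin r → Prop := fun b => (t b).isLeft = true
  let PE : Fin r → Prop := fun a => (e a).isLeft = true
  have hcT : Fintype.card {b // PT b} =
      (Finset.univ.filter fun b => (t b).isLeft = true).card := Fintype.card_subtype _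
  have hcE : Fintype.card {a // PE a} =
      (Finset.univ.filter fun a => (e a).isLeft = true).card := Fintype.card_subtype _
  have hc1 : Fintype.card {b // PT b} = Fintype.card {a // PE a} := by rw [hcT, hcE, h]
  have hc2 : Fintype.card {b // ¬ PT b} = Fintype.card {a // ¬ PE a} := by
    rw [Fintype.card_subtype_compl, Fintype.card_subtype_compl, hc1]
  let g₁ : {b // PT b} ≃ {a // PE a} := Fintype.equivOfCardEq hc1
  let g₂ : {b // ¬ PT b} ≃ {a // ¬ PE a} := Fintype.equivOfCardEq hc2
  let τ : {b // PT b} ⊕ {b // ¬ PT b} ≃ Fin r := Equiv.sumCompl PT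
  let σ : {b // PT b} ⊕ {b // ¬ PT b} ≃ Fin r :=
    (Equiv.sumCongr g₁ g₂).trans (Equiv.sumCompl PE)
  let A : Matrix {b // PT b} {b // PT b} R :=
    Matrix.of fun a b => c₁ ((t b.1).getLeft b.2) ((e (g₁ a).1).getLeft (g₁ a).2)
  let D : Matrix {b // ¬ PT b} {b // ¬ PT b} R :=
    Matrix.of fun a b => c₂ ((t b.1).getRight (isRight_of_not b.2))
      ((e (g₂ a).1).getRight (isRight_of_not (g₂ a).2))
  have hN' : N.submatrix σ τ = Matrix.fromBlocks A 0 0 D := by
    ext (a | a) (b | b)
    · show blk c₁ c₂ (t b.1) (e (g₁ a).1) = _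
      exact blk_left c₁ c₂ b.2 (g₁ a).2
    · show blk c₁ c₂ (t b.1) (e (g₁ a).1) = 0
      apply blk_eq_zero
      intro h'
      have h2 : (e (g₁ a).1).isLeft = true := (g₁ a).2
      rw [← h'] at h2
      exact b.2 h2
    · show blk c₁ c₂ (t b.1) (e (g₂ a).1) = 0
      apply blk_eq_zero
      intro h'
      have h2 : (t b.1).isLeft = true := b.2
      rw [h'] at h2
      exact (g₂ a).2 h2
    · show blk c₁ c₂ (t b.1) (e (g₂ a).1) = _
      exact blk_right c₁ c₂ (isRight_of_not b.2) (isRight_of_not (g₂ a).2)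
  have hdet' : (N.submatrix σ τ).det = A.det * D.det := by
    rw [hN', Matrix.det_fromBlocks_zero₁₂]
  let π : Equiv.Perm (Fin r) := τ.symm.trans σ
  have hsub : N.submatrix σ τ = (N.submatrix π id).submatrix τ τ := by
    ext a b
    simp [π]
  have hdet2 : (N.submatrix σ τ).det = (Equiv.Perm.sign π : ℤˣ) * N.det := by
    rw [hsub, Matrix.det_submatrix_equiv_self, Matrix.det_permute]
  have hdet3 : N.det = (Equiv.Perm.sign π : ℤˣ) * (A.det * D.det) := by
    rw [← hdet', hdet2, ← mul_assoc]
    have : (((Equiv.Perm.sign π : ℤˣ) : ℤ) : R) * (((Equiv.Perm.sign π : ℤˣ) : ℤ) : R) = 1 := by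
      rw [← Int.cast_mul, Int.units_coe_mul_self, Int.cast_one]
    rw [this, one_mul]
  -- the two blocks are minors
  have hA : A.det ∈ minorsIdeal c₁ (Fintype.card {b // PT b}) := by
    let f : Fin (Fintype.card {b // PT b}) ≃ {b // PT b} := (Fintype.equivFin _).symm
    rw [← Matrix.det_submatrix_equiv_self f A]
    apply Ideal.subset_span
    exact ⟨fun b => (t (f b).1).getLeft (f b).2,
      fun a => (e (g₁ (f a)).1).getLeft (g₁ (f a)).2, rfl⟩
  have hD : D.det ∈ minorsIdeal c₂ (Fintype.card {b // ¬ PT b}) := by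
    let f : Fin (Fintype.card {b // ¬ PT b}) ≃ {b // ¬ PT b} := (Fintype.equivFin _).symm
    rw [← Matrix.det_submatrix_equiv_self f D]
    apply Ideal.subset_span
    exact ⟨fun b => (t (f b).1).getRight (isRight_of_not (f b).2),
      fun a => (e (g₂ (f a)).1).getRight (isRight_of_not (g₂ (f a)).2), rfl⟩
  refine ⟨Fintype.card {b // PT b}, Fintype.card {b // ¬ PT b}, ?_, ?_⟩
  · rw [Fintype.card_subtype_compl, Fintype.card_fin]
    have : Fintype.card {b // PT b} ≤ r := by
      have := Fintype.card_subtype_le PT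
      rwa [Fintype.card_fin] at this
    omega
  · rw [hdet3]
    exact Ideal.mul_mem_left _ _ (Ideal.mul_mem_mul hA hD)

end Block

section Main

variable (R : Type u) [CommRing R] (M M' : Type u) [AddCommGroup M] [Module R M]
    [AddCommGroup M'] [Module R M'] [Module.Finite R M] [Module.Finite R M']

theorem main (l : ℕ) :
    Fitt.ideal R (M × M') l =
      ∑ k ∈ Finset.range (l + 1), Fitt.ideal R M k * Fitt.ideal R M' (l - k) := by
  classical
  obtain ⟨n, x, hx⟩ := Module.Finite.exists_fin (R := R) (M := M)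
  obtain ⟨n', x', hx'⟩ := Module.Finite.exists_fin (R := R) (M := M')
  let y₀ : Fin n ⊕ Fin n' → M × M' := Sum.elim (fun i => (x i, 0)) (fun j => (0, x' j))
  let y : Fin (n + n') → M × M' := y₀ ∘ finSumFinEquiv.symm
  have hsum : ∀ z : Fin n ⊕ Fin n' → R, ∑ j, z j • y₀ j =
      (∑ i, z (Sum.inl i) • x i, ∑ j, z (Sum.inr j) • x' j) := by
    intro z
    rw [Fintype.sum_sum_type]
    simp only [y₀, Sum.elim_inl, Sum.elim_inr]
    ext
    · simp [Prod.fst_sum]
    · simp [Prod.snd_sum]
  have hy₀ : Submodule.span R (Set.range y₀) = ⊤ := by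
    rw [eq_top_iff]
    rintro ⟨m, m'⟩ -
    have hm : m ∈ Submodule.span R (Set.range x) := hx ▸ Submodule.mem_top
    have hm' : m' ∈ Submodule.span R (Set.range x') := hx' ▸ Submodule.mem_top
    have h1 : (m, (0 : M')) ∈ Submodule.span R (Set.range y₀) := by
      have hle : Submodule.map (LinearMap.inl R M M') (Submodule.span R (Set.range x)) ≤
          Submodule.span R (Set.range y₀) := by
        rw [Submodule.map_span, Submodule.span_le]
        rintro _ ⟨_, ⟨i, rfl⟩, rfl⟩
        exact Submodule.subset_span ⟨Sum.inl i, rfl⟩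
      exact hle ⟨m, hm, rfl⟩
    have h2 : ((0 : M), m') ∈ Submodule.span R (Set.range y₀) := by
      have hle : Submodule.map (LinearMap.inr R M M') (Submodule.span R (Set.range x')) ≤
          Submodule.span R (Set.range y₀) := by
        rw [Submodule.map_span, Submodule.span_le]
        rintro _ ⟨_, ⟨i, rfl⟩, rfl⟩
        exact Submodule.subset_span ⟨Sum.inr i, rfl⟩
      exact hle ⟨m', hm', rfl⟩
    have h3 : (m, m') = (m, 0) + (0, m') := by simp
    rw [h3]
    exact Submodule.add_mem _ h1 h2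
  have hy : Submodule.span R (Set.range y) = ⊤ := by
    rw [show Set.range y = Set.range y₀ from finSumFinEquiv.symm.surjective.range_comp y₀]
    exact hy₀
  have hfit_det : Fitt.ideal R (M × M') l = detIdeal y₀ l := by
    rw [fitt_eq_detIdeal y hy l]
    exact detIdeal_comp finSumFinEquiv.symm y₀ l
  apply le_antisymm
  swap
  · rw [Ideal.sum_eq_sup]
    apply Finset.sup_le
    intro k hk
    rw [Finset.mem_range] at hk
    rw [fitt_eq_detIdeal x hx k, fitt_eq_detIdeal x' hx' (l - k), hfit_det]
    unfold detIdeal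
    rw [Ideal.span_mul_span']
    apply Ideal.span_le.2
    rintro _ ⟨d, ⟨a, s, hs, hrel, rfl⟩, d', ⟨a', s', hs', hrel', rfl⟩, rfl⟩
    apply Ideal.subset_span
    refine ⟨Matrix.fromBlocks a 0 0 a', s.disjSum s', ?_, ?_, ?_⟩
    · rw [Fintype.card_sum, Fintype.card_fin, Fintype.card_fin, Finset.card_disjSum]
      rw [Fintype.card_fin] at hs hs'
      omega
    · intro i hi
      rw [Finset.mem_disjSum] at hi
      rw [hsum]
      rcases hi with ⟨i₀, hi₀, rfl⟩ | ⟨i₀, hi₀, rfl⟩
      · simp only [Matrix.fromBlocks_apply₁₁, Matrix.fromBlocks_apply₁₂, Matrix.zero_apply,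
          zero_smul, Finset.sum_const_zero]
        rw [hrel i₀ hi₀]
        rfl
      · simp only [Matrix.fromBlocks_apply₂₁, Matrix.fromBlocks_apply₂₂, Matrix.zero_apply,
          zero_smul, Finset.sum_const_zero]
        rw [hrel' i₀ hi₀]
        rfl
    · exact (Matrix.det_fromBlocks_zero₁₂ a 0 a').symm
  · let K₁ := LinearMap.ker (Fintype.linearCombination R x)
    let K₂ := LinearMap.ker (Fintype.linearCombination R x')
    let c₁ : K₁ → Fin n → R := fun z => z.1
    let c₂ : K₂ → Fin n' → R := fun z => z.1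
    let c : K₁ ⊕ K₂ → Fin (n + n') → R := fun i j => blk c₁ c₂ i (finSumFinEquiv.symm j)
    have hK₁ : ∀ z : K₁, ∑ i, z.1 i • x i = 0 := by
      intro z
      have := z.2
      rwa [LinearMap.mem_ker, Fintype.linearCombination_apply] at this
    have hK₂ : ∀ z : K₂, ∑ i, z.1 i • x' i = 0 := by
      intro z
      have := z.2
      rwa [LinearMap.mem_ker, Fintype.linearCombination_apply] at this
    have hc : Submodule.span R (Set.range c) =
        LinearMap.ker (Fintype.linearCombination R y) := by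
      apply le_antisymm
      · rw [Submodule.span_le]
        rintro _ ⟨i, rfl⟩
        rw [SetLike.mem_coe, LinearMap.mem_ker, Fintype.linearCombination_apply]
        have h1 : ∑ j, c i j • y j = ∑ j', blk c₁ c₂ i j' • y₀ j' := by
          apply Fintype.sum_equiv finSumFinEquiv.symm
          intro j
          rfl
        rw [h1, hsum]
        rcases i with z | z
        · simp only [blk, Sum.elim_inl, Sum.elim_inr, zero_smul, Finset.sum_const_zero]
          rw [hK₁ z]
          rfl
        · simp only [blk, Sum.elim_inl, Sum.elim_inr, zero_smul, Finset.sum_const_zero]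
          rw [hK₂ z]
          rfl
      · intro z hz
        rw [LinearMap.mem_ker, Fintype.linearCombination_apply] at hz
        have hz' : ∑ j', z (finSumFinEquiv j') • y₀ j' = 0 := by
          rw [← hz]
          apply Fintype.sum_equiv finSumFinEquiv
          intro j
          simp [y]
        rw [hsum, Prod.mk_eq_zero] at hz'
        obtain ⟨h1, h2⟩ := hz'
        let z₁ : K₁ := ⟨fun i => z (finSumFinEquiv (Sum.inl i)), by
          rw [LinearMap.mem_ker, Fintype.linearCombination_apply]; exact h1⟩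
        let z₂ : K₂ := ⟨fun j => z (finSumFinEquiv (Sum.inr j)), by
          rw [LinearMap.mem_ker, Fintype.linearCombination_apply]; exact h2⟩
        have h3 : z = c (Sum.inl z₁) + c (Sum.inr z₂) := by
          funext j
          obtain ⟨j', rfl⟩ := finSumFinEquiv.surjective j
          rcases j' with i | i <;> simp [c, blk, c₁, c₂, z₁, z₂]
        rw [h3]
        exact Submodule.add_mem _ (Submodule.subset_span ⟨_, rfl⟩)
          (Submodule.subset_span ⟨_, rfl⟩)
    rw [fitt_eq_minorsIdeal y hy c hc l]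
    apply Ideal.span_le.2
    rintro _ ⟨t, e, rfl⟩
    obtain ⟨p, q, hpq, hmem⟩ := block_minor c₁ c₂ t (fun a => finSumFinEquiv.symm (e a))
    have hmem' : (Matrix.of fun a b => c (t b) (e a)).det ∈
        minorsIdeal c₁ p * minorsIdeal c₂ q := hmem
    suffices hle : minorsIdeal c₁ p * minorsIdeal c₂ q ≤
        ∑ k ∈ Finset.range (l + 1), Fitt.ideal R M k * Fitt.ideal R M' (l - k) from hle hmem'
    by_cases hp : n < p
    · have h0 : minorsIdeal c₁ p = ⊥ := by
        rw [← minorsIdeal_transpose]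
        exact minorsIdeal_eq_bot _ p (by simpa using hp)
      rw [h0, Ideal.bot_mul]
      exact bot_le
    by_cases hq : n' < q
    · have h0 : minorsIdeal c₂ q = ⊥ := by
        rw [← minorsIdeal_transpose]
        exact minorsIdeal_eq_bot _ q (by simpa using hq)
      rw [h0, Ideal.mul_bot]
      exact bot_le
    push_neg at hp hq
    have hk : n - p ≤ l := by omega
    have h1 : minorsIdeal c₁ p ≤ Fitt.ideal R M (n - p) := by
      apply Ideal.span_le.2
      rintro _ ⟨t₁, e₁, rfl⟩
      exact minor_mem_fitt x hx (n - p) p (by omega) (fun b => c₁ (t₁ b))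
        (fun b => hK₁ (t₁ b)) e₁
    have h2 : minorsIdeal c₂ q ≤ Fitt.ideal R M' (l - (n - p)) := by
      apply Ideal.span_le.2
      rintro _ ⟨t₂, e₂, rfl⟩
      exact minor_mem_fitt x' hx' (l - (n - p)) q (by omega) (fun b => c₂ (t₂ b))
        (fun b => hK₂ (t₂ b)) e₂
    rw [Ideal.sum_eq_sup]
    exact le_trans (Ideal.mul_mono h1 h2)
      (Finset.le_sup (f := fun k => Fitt.ideal R M k * Fitt.ideal R M' (l - k))
        (Finset.mem_range.2 (by omega)))

end Main

end Groth.Agent.Lib.FittProdH3
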