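import Mathlib
import Groth.Prelude.Def_FlatCA
import Groth.Prelude.Def_Fitting
import Groth.Agent.Lib.Fitt4_helper8
import Groth.Agent.Lib.FittProd_helper3

/-!
# FittEtale1 (helper6): for `A → C` finite, `h ∈ C` with `C_h` unramified over `A` and `J ⊆ C`,
`Fit₀_A(C/J) · C_h = J C_h · J'`.
-/

set_option autoImplicit false
open TensorProduct
universe u

namespace Groth.Agent.Lib.FittEtaleH6

section PartA

theorem fittingZero_eq (R : Type u) [CommRing R] (M : Type u) [AddCommGroup M] [Module R M] :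
    FlatCA.fittingZero R M = Fitt.ideal R M 0 := by
  unfold FlatCA.fittingZero Fitt.ideal
  congr 1
  ext d
  constructor
  · rintro ⟨n, x, a, hx, hrel, rfl⟩
    exact ⟨n, x, a, hx, fun i _ => hrel i, rfl⟩
  · rintro ⟨n, x, a, hx, hrel, rfl⟩
    exact ⟨n, x, a, hx, fun i => hrel i (by have := i.2; omega), rfl⟩

theorem fitt_zero_quotient {S : Type u} [CommRing S] (I : Ideal S) :
    Fitt.ideal S (S ⧸ I) 0 = I := by
  have hx : Submodule.span S (Set.range fun _ : Fin 1 => (1 : S ⧸ I)) = ⊤ := by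
    rw [eq_top_iff]
    rintro y -
    obtain ⟨s, rfl⟩ := Ideal.Quotient.mk_surjective y
    have : (Ideal.Quotient.mk I s) = s • (1 : S ⧸ I) := by
      rw [Algebra.smul_def, mul_one]; rfl
    rw [this]
    exact Submodule.smul_mem _ _ (Submodule.subset_span ⟨0, rfl⟩)
  rw [FittH8.fitt_eq_minorIdeal _ hx 0]
  unfold FittH8.minorIdeal
  apply le_antisymm
  · rw [Ideal.span_le]
    rintro d ⟨z, e, hz, rfl⟩
    have h0 := hz 0
    rw [Fin.sum_univ_one] at h0
    have h1 : z 0 0 ∈ I := by
      rw [← Ideal.Quotient.eq_zero_iff_mem]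
      rw [Algebra.smul_def, mul_one] at h0
      exact h0
    have he : e 0 = 0 := Subsingleton.elim _ _
    have : (Matrix.of fun a b => z b (e a) : Matrix (Fin (1 - 0)) (Fin (1 - 0)) S).det = z 0 0 := by
      rw [Matrix.det_fin_one]
      simp [he]
    rw [this]
    exact h1
  · intro s hs
    apply Ideal.subset_span
    refine ⟨fun _ _ => s, fun _ => 0, ?_, ?_⟩
    · intro j
      rw [Fin.sum_univ_one, Algebra.smul_def, mul_one]
      exact Ideal.Quotient.eq_zero_iff_mem.mpr hs
    · rw [Matrix.det_fin_one]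
      rfl

theorem fitt_zero_prod (R : Type u) [CommRing R] (M M' : Type u) [AddCommGroup M] [Module R M]
    [AddCommGroup M'] [Module R M'] [Module.Finite R M] [Module.Finite R M'] :
    Fitt.ideal R (M × M') 0 = Fitt.ideal R M 0 * Fitt.ideal R M' 0 := by
  rw [Groth.Agent.Lib.FittProdH3.main R M M' 0]
  simp

end PartA


section PartB

variable {A C S : Type u} [CommRing A] [CommRing C] [CommRing S] [Algebra A C] [Algebra C S]
  [Algebra A S] [IsScalarTower A C S]

/-- the ring map `C ⊗ S → S ⊗ S` -/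
noncomputable def Lam : C ⊗[A] S →ₐ[A] S ⊗[A] S :=
  Algebra.TensorProduct.map (IsScalarTower.toAlgHom A C S) (AlgHom.id A S)

/-- multiplication `C ⊗ S → S` -/
noncomputable def mu2 : C ⊗[A] S →ₐ[A] S :=
  (Algebra.TensorProduct.lmul' A).comp (Lam (A := A) (C := C) (S := S))

theorem Lam_tmul (c : C) (s : S) : Lam (A := A) (c ⊗ₜ[A] s) = algebraMap C S c ⊗ₜ[A] s := by
  simp [Lam]

theorem mu2_tmul (c : C) (s : S) : mu2 (A := A) (c ⊗ₜ[A] s) = algebraMap C S c * s := by
  simp [mu2, Lam_tmul]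

theorem rTensor_eq_Lam (x : C ⊗[A] S) :
    AlgebraTensorModule.rTensor A S (Algebra.linearMap C S) x = Lam (A := A) x := by
  induction x using TensorProduct.induction_on with
  | zero => simp
  | tmul c s => simp [Lam_tmul]
  | add x y hx hy => rw [map_add, map_add, hx, hy]

omit [Algebra C S] [IsScalarTower A C S] in
theorem smul_eq_mul_left (c : C) (x : C ⊗[A] S) : c • x = (c ⊗ₜ[A] (1 : S)) * x := by
  induction x using TensorProduct.induction_on with
  | zero => simp
  | tmul c' s => simp [TensorProduct.smul_tmul']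
  | add x y hx hy => rw [smul_add, mul_add, hx, hy]

theorem smul_eq_mul_left' (c : C) (y : S ⊗[A] S) :
    c • y = (algebraMap C S c ⊗ₜ[A] (1 : S)) * y := by
  induction y using TensorProduct.induction_on with
  | zero => simp
  | tmul s s' => simp [Algebra.smul_def]
  | add x y hx hy => rw [smul_add, mul_add, hx, hy]

/-- the `A`-linear map `c ↦ c ⊗ 1 - 1 ⊗ c` -/
noncomputable def Dmap : C →ₗ[A] C ⊗[A] S where
  toFun c := c ⊗ₜ[A] (1 : S) - (1 : C) ⊗ₜ[A] algebraMap C S c
  map_add' x y := by rw [TensorProduct.add_tmul, map_add, TensorProduct.tmul_add]; abel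
  map_smul' a x := by
    rw [RingHom.id_apply, smul_sub, TensorProduct.smul_tmul', ← TensorProduct.tmul_smul,
      ← algebraMap_smul C a x, Algebra.smul_def, Algebra.smul_def, map_mul,
      ← IsScalarTower.algebraMap_apply, ← IsScalarTower.algebraMap_apply]

theorem Dmap_apply (c : C) :
    Dmap (A := A) (S := S) c = c ⊗ₜ[A] (1 : S) - (1 : C) ⊗ₜ[A] algebraMap C S c := rfl

theorem Lam_Dmap (c : C) : Lam (A := A) (Dmap (A := A) (S := S) c) =
    algebraMap C S c ⊗ₜ[A] (1 : S) - (1 : S) ⊗ₜ[A] algebraMap C S c := by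
  rw [Dmap_apply, map_sub, Lam_tmul, Lam_tmul, map_one]

theorem exists_sep_elem (h : C) [IsLocalization.Away h S] [Module.Finite A C]
    [Algebra.FormallyUnramified A S] [Algebra.EssFiniteType A S] :
    ∃ u : C ⊗[A] S, mu2 (A := A) u = 1 ∧ ∀ c : C, u * Dmap (A := A) (S := S) c = 0 := by
  classical
  set t := Algebra.FormallyUnramified.elem A S with ht
  have ht1 : ∀ s : S, (s ⊗ₜ[A] (1 : S) - (1 : S) ⊗ₜ[A] s) * t = 0 := by
    intro s
    have := Algebra.FormallyUnramified.one_tmul_sub_tmul_one_mul_elem (R := A) (S := S) s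
    rw [← neg_sub, neg_mul, neg_eq_zero]
    exact this
  have ht2 : Algebra.TensorProduct.lmul' A t = 1 := Algebra.FormallyUnramified.lmul_elem
  obtain ⟨⟨w, ⟨_, n, rfl⟩⟩, hw⟩ := IsLocalizedModule.surj (Submonoid.powers h)
    (AlgebraTensorModule.rTensor A S (Algebra.linearMap C S)) t
  have hw' : (algebraMap C S (h ^ n) ⊗ₜ[A] (1 : S)) * t = Lam (A := A) w := by
    rw [← rTensor_eq_Lam, ← smul_eq_mul_left']
    exact hw
  -- each `w * D c` is killed by a power of `h`
  have hkill : ∀ c : C, ∃ m : ℕ, ((h ^ m) ⊗ₜ[A] (1 : S)) * (w * Dmap (A := A) (S := S) c) = 0 := by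
    intro c
    have h0 : AlgebraTensorModule.rTensor A S (Algebra.linearMap C S)
        (w * Dmap (A := A) (S := S) c) = 0 := by
      rw [rTensor_eq_Lam, map_mul, ← hw', Lam_Dmap, mul_assoc, mul_comm t, ht1, mul_zero]
    obtain ⟨⟨_, m, rfl⟩, hm⟩ := (IsLocalizedModule.eq_zero_iff (Submonoid.powers h) _).mp h0
    refine ⟨m, ?_⟩
    rw [← smul_eq_mul_left]
    exact hm
  choose mfun hmfun using hkill
  obtain ⟨G, hG⟩ := (Module.finite_def.mp (inferInstance : Module.Finite A C))
  set m := G.sup mfun with hm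
  set w' := ((h ^ m) ⊗ₜ[A] (1 : S)) * w with hw'def
  have hG' : ∀ g ∈ G, w' * Dmap (A := A) (S := S) g = 0 := by
    intro g hg
    have hle : mfun g ≤ m := Finset.le_sup hg
    have : (h ^ m) ⊗ₜ[A] (1 : S) = ((h ^ (m - mfun g)) ⊗ₜ[A] (1 : S)) * ((h ^ mfun g) ⊗ₜ[A] (1 : S)) := by
      rw [Algebra.TensorProduct.tmul_mul_tmul, ← pow_add, mul_one, Nat.sub_add_cancel hle]
    rw [hw'def, this, mul_assoc, mul_assoc, hmfun g, mul_zero]
  have hall : ∀ c : C, w' * Dmap (A := A) (S := S) c = 0 := by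
    intro c
    have hc : c ∈ Submodule.span A (G : Set C) := by rw [hG]; trivial
    have : Submodule.span A (G : Set C) ≤
        LinearMap.ker ((LinearMap.mulLeft A w').comp (Dmap (A := A) (S := S))) := by
      rw [Submodule.span_le]
      intro g hg
      exact hG' g hg
    exact this hc
  have hmu_w : mu2 (A := A) w = algebraMap C S (h ^ n) := by
    change Algebra.TensorProduct.lmul' A (Lam (A := A) w) = _
    rw [← hw', map_mul, ht2, mul_one, Algebra.TensorProduct.lmul'_apply_tmul, mul_one]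
  have hmu_w' : mu2 (A := A) w' = algebraMap C S (h ^ (m + n)) := by
    rw [hw'def, map_mul, mu2_tmul, mul_one, hmu_w, ← map_mul, ← pow_add]
  have hunit : IsUnit (algebraMap C S (h ^ (m + n))) := by
    rw [map_pow]
    exact (IsLocalization.Away.algebraMap_isUnit h).pow _
  obtain ⟨v, hv⟩ := hunit.exists_left_inv
  refine ⟨((1 : C) ⊗ₜ[A] v) * w', ?_, ?_⟩
  · rw [map_mul, mu2_tmul, map_one, one_mul, hmu_w', hv]
  · intro c
    rw [mul_assoc, hall c, mul_zero]




variable (J : Ideal C)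

noncomputable def psi : C ⊗[A] S →ₗ[A] S ⊗[A] (C ⧸ J) :=
  (LinearMap.lTensor S (Ideal.Quotient.mkₐ A J).toLinearMap).comp
    (TensorProduct.comm A C S).toLinearMap

omit [Algebra C S] [IsScalarTower A C S] in
theorem psi_tmul (c : C) (s : S) :
    psi (A := A) J (c ⊗ₜ[A] s) = s ⊗ₜ[A] (Ideal.Quotient.mk J c) := by
  simp [psi]

noncomputable def rho : C ⧸ J →ₐ[A] S ⧸ J.map (algebraMap C S) :=
  Ideal.quotientMapₐ (J.map (algebraMap C S)) (IsScalarTower.toAlgHom A C S)
    (fun _ hx => Ideal.mem_comap.mpr (Ideal.mem_map_of_mem (algebraMap C S) hx))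

theorem rho_mk (c : C) : rho (A := A) (S := S) J (Ideal.Quotient.mk J c) =
    Ideal.Quotient.mk (J.map (algebraMap C S)) (algebraMap C S c) := by
  rw [rho, Ideal.quotient_map_mkₐ]
  rfl

noncomputable def phi : S ⊗[A] (C ⧸ J) →ₗ[S] S ⧸ J.map (algebraMap C S) :=
  TensorProduct.AlgebraTensorModule.lift
    (LinearMap.toSpanSingleton S ((C ⧸ J) →ₗ[A] S ⧸ J.map (algebraMap C S))
      (rho (A := A) (S := S) J).toLinearMap)

theorem phi_tmul (s : S) (c : C) :
    phi (A := A) J (s ⊗ₜ[A] (Ideal.Quotient.mk J c)) =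
      Ideal.Quotient.mk (J.map (algebraMap C S)) (s * algebraMap C S c) := by
  simp [phi, rho_mk, Algebra.smul_def]



theorem phi_psi (x : C ⊗[A] S) :
    phi (A := A) J (psi (A := A) J x) =
      Ideal.Quotient.mk (J.map (algebraMap C S)) (mu2 (A := A) x) := by
  induction x using TensorProduct.induction_on with
  | zero => simp
  | tmul c s => rw [psi_tmul, phi_tmul, mu2_tmul, mul_comm]
  | add x y hx hy => rw [map_add, map_add, hx, hy, map_add, map_add]

omit [Algebra C S] [IsScalarTower A C S] in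
theorem psi_one_tmul_mul (s : S) (x : C ⊗[A] S) :
    psi (A := A) J (((1 : C) ⊗ₜ[A] s) * x) = s • psi (A := A) J x := by
  induction x using TensorProduct.induction_on with
  | zero => simp
  | tmul c s' =>
    rw [Algebra.TensorProduct.tmul_mul_tmul, one_mul, psi_tmul, psi_tmul,
      TensorProduct.smul_tmul', smul_eq_mul]
  | add x y hx hy => rw [mul_add, map_add, hx, hy, map_add, smul_add]

omit [Algebra C S] [IsScalarTower A C S] in
theorem psi_tmul_one_mul {j : C} (hj : j ∈ J) (x : C ⊗[A] S) :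
    psi (A := A) J ((j ⊗ₜ[A] (1 : S)) * x) = 0 := by
  induction x using TensorProduct.induction_on with
  | zero => simp
  | tmul c s' =>
    rw [Algebra.TensorProduct.tmul_mul_tmul, one_mul, psi_tmul,
      Ideal.Quotient.eq_zero_iff_mem.mpr (J.mul_mem_right c hj), TensorProduct.tmul_zero]
  | add x y hx hy => rw [mul_add, map_add, hx, hy, add_zero]

/-- the key element is killed by `J` -/
theorem smul_psi_eq_zero {u : C ⊗[A] S} (hu : ∀ c : C, u * Dmap (A := A) (S := S) c = 0)
    {j : C} (hj : j ∈ J) : algebraMap C S j • psi (A := A) J u = 0 := by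
  rw [← psi_one_tmul_mul]
  have : ((1 : C) ⊗ₜ[A] algebraMap C S j) * u =
      (j ⊗ₜ[A] (1 : S)) * u - u * Dmap (A := A) (S := S) j := by
    rw [Dmap_apply]; ring
  rw [this, hu j, sub_zero, psi_tmul_one_mul J hj]

/-- the section of `φ` -/
noncomputable def sec {u : C ⊗[A] S} (hu : ∀ c : C, u * Dmap (A := A) (S := S) c = 0) :
    (S ⧸ J.map (algebraMap C S)) →ₗ[S] S ⊗[A] (C ⧸ J) :=
  Submodule.liftQ (J.map (algebraMap C S)) (LinearMap.toSpanSingleton S _ (psi (A := A) J u)) (by
    change Ideal.span _ ≤ _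
    rw [Ideal.span_le]
    rintro _ ⟨j, hj, rfl⟩
    rw [SetLike.mem_coe, LinearMap.mem_ker, LinearMap.toSpanSingleton_apply]
    exact smul_psi_eq_zero J hu hj)

theorem sec_mk {u : C ⊗[A] S} (hu : ∀ c : C, u * Dmap (A := A) (S := S) c = 0) (s : S) :
    sec J hu (Ideal.Quotient.mk _ s) = s • psi (A := A) J u := by
  change sec J hu (Submodule.Quotient.mk s) = _
  rw [sec, Submodule.liftQ_apply, LinearMap.toSpanSingleton_apply]

theorem phi_sec {u : C ⊗[A] S} (hu : ∀ c : C, u * Dmap (A := A) (S := S) c = 0)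
    (hu1 : mu2 (A := A) u = 1) (y : S ⧸ J.map (algebraMap C S)) :
    phi (A := A) J (sec J hu y) = y := by
  obtain ⟨s, rfl⟩ := Ideal.Quotient.mk_surjective y
  rw [sec_mk, map_smul, phi_psi, hu1, map_one, Algebra.smul_def, mul_one]
  rfl

/-- the splitting -/
noncomputable def splitEquiv {u : C ⊗[A] S} (hu : ∀ c : C, u * Dmap (A := A) (S := S) c = 0)
    (hu1 : mu2 (A := A) u = 1) :
    (S ⊗[A] (C ⧸ J)) ≃ₗ[S] (S ⧸ J.map (algebraMap C S)) × LinearMap.ker (phi (A := A) (S := S) J) where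
  toFun n := (phi (A := A) J n, ⟨n - sec J hu (phi (A := A) J n), by
    rw [LinearMap.mem_ker, map_sub, phi_sec J hu hu1, sub_self]⟩)
  map_add' x y := by
    ext
    · simp
    · simp only [map_add, Prod.snd_add, Submodule.coe_add]; abel
  map_smul' r x := by
    ext
    · simp
    · simp only [map_smul, RingHom.id_apply, Prod.smul_snd, Submodule.coe_smul, smul_sub]
  invFun p := sec J hu p.1 + p.2
  left_inv n := by simp
  right_inv p := by
    have hk : phi (A := A) J (p.2 : S ⊗[A] (C ⧸ J)) = 0 := p.2.2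
    ext
    · simp [map_add, phi_sec J hu hu1, hk]
    · simp [map_add, phi_sec J hu hu1, hk]

end PartB


end Groth.Agent.Lib.FittEtaleH6
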