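import Mathlib
import Groth.Agent.Lib.FittEtale1_helper6

/-!
# FittEtale2 (helper6): main theorem `Fit₀_A(C/J) · C_h = J C_h · J'`.
-/

set_option autoImplicit false
open TensorProduct
universe u

namespace Groth.Agent.Lib.FittEtaleH6

section Abstract

variable {S : Type u} [CommRing S] {N X K : Type u} [AddCommGroup N] [Module S N]
  [AddCommGroup X] [Module S X] [AddCommGroup K] [Module S K]

theorem finite_snd_of_equiv [Module.Finite S N] (e : N ≃ₗ[S] X × K) : Module.Finite S K := by
  have : Module.Finite S (X × K) := Module.Finite.equiv e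
  exact Module.Finite.of_surjective (LinearMap.snd S X K) LinearMap.snd_surjective

theorem finite_fst_of_equiv [Module.Finite S N] (e : N ≃ₗ[S] X × K) : Module.Finite S X := by
  have : Module.Finite S (X × K) := Module.Finite.equiv e
  exact Module.Finite.of_surjective (LinearMap.fst S X K) LinearMap.fst_surjective

theorem fp_snd_of_equiv [Module.FinitePresentation S N] (e : N ≃ₗ[S] X × K) :
    Module.FinitePresentation S K := by
  have : Module.FinitePresentation S (X × K) := Module.FinitePresentation.of_equiv e
  have : Module.Finite S X := finite_fst_of_equiv e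
  have hsurj : Function.Surjective (LinearMap.snd S X K) := LinearMap.snd_surjective
  have hkerfg : (LinearMap.ker (LinearMap.snd S X K)).FG := by
    rw [LinearMap.ker_snd, LinearMap.range_eq_map]
    exact (Module.Finite.fg_top).map _
  exact Module.finitePresentation_of_surjective _ hsurj hkerfg

theorem fitt_of_split [Module.Finite S N] (I : Ideal S) (e : N ≃ₗ[S] (S ⧸ I) × K) :
    Fitt.ideal S N 0 = I * Fitt.ideal S K 0 := by
  have : Module.Finite S K := finite_snd_of_equiv e
  rw [FittH8.fitt_eq_of_linearEquiv e 0, fitt_zero_prod, fitt_zero_quotient]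

end Abstract

variable {A C S : Type u} [CommRing A] [CommRing C] [CommRing S] [Algebra A C] [Algebra C S]
  [Algebra A S] [IsScalarTower A C S]

theorem main_generic (h : C) [IsLocalization.Away h S] [Module.Finite A C] [Module.Projective A C]
    [Algebra.FormallyUnramified A S] [Algebra.EssFiniteType A S] (J : Ideal C) :
    ∃ J' : Ideal S,
      (Fitt.ideal A (C ⧸ J) 0).map (algebraMap A S) = J.map (algebraMap C S) * J' ∧
      (J.FG → (Fitt.ideal A (C ⧸ J) 0).FG ∧ J'.FG) := by
  obtain ⟨u, hu1, hu⟩ := exists_sep_elem (A := A) (C := C) (S := S) h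
  let e := splitEquiv (A := A) (S := S) J hu hu1
  have : Module.Finite A (C ⧸ J) :=
    Module.Finite.of_surjective (Ideal.Quotient.mkₐ A J).toLinearMap
      (Ideal.Quotient.mkₐ_surjective A J)
  have : Module.Finite S (S ⊗[A] (C ⧸ J)) := inferInstance
  refine ⟨Fitt.ideal S (LinearMap.ker (phi (A := A) (S := S) J)) 0, ?_, ?_⟩
  · rw [← FittH8.fitt_baseChange S (M := C ⧸ J) 0]
    exact fitt_of_split _ e
  · intro hJ
    have : Module.FinitePresentation A C := Module.finitePresentation_of_projective A C
    have hfpq : Module.FinitePresentation A (C ⧸ J) := by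
      refine Module.finitePresentation_of_surjective (Ideal.Quotient.mkₐ A J).toLinearMap
        (Ideal.Quotient.mkₐ_surjective A J) ?_
      have hker : LinearMap.ker (Ideal.Quotient.mkₐ A J).toLinearMap = J.restrictScalars A := by
        ext x
        simp [Ideal.Quotient.eq_zero_iff_mem]
      rw [hker]
      have : Module.Finite C J := Module.Finite.iff_fg.mpr hJ
      have : Module.Finite A J := Module.Finite.trans C J
      have := (Module.Finite.iff_fg (R := A) (N := J.restrictScalars A)).mp
        (inferInstanceAs (Module.Finite A J))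
      exact this
    refine ⟨FittH8.fitt_fg 0, ?_⟩
    have : Module.FinitePresentation S (S ⊗[A] (C ⧸ J)) := inferInstance
    have hfpK := fp_snd_of_equiv (N := S ⊗[A] (C ⧸ J)) (X := S ⧸ J.map (algebraMap C S))
      (K := LinearMap.ker (phi (A := A) (S := S) J)) e
    exact FittH8.fitt_fg 0

/-- the statement in the form of milestone S1291 -/
theorem main_1291 {A C : Type u} [CommRing A] [CommRing C] [Algebra A C] [Module.Finite A C]
    [Module.Projective A C] (h : C) [Algebra.Etale A (Localization.Away h)] (J : Ideal C) :
    ∃ J' : Ideal (Localization.Away h),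
      (FlatCA.fittingZero A (C ⧸ J)).map (algebraMap A (Localization.Away h)) =
        J.map (algebraMap C (Localization.Away h)) * J' ∧
      (J.FG → (FlatCA.fittingZero A (C ⧸ J)).FG ∧ J'.FG) := by
  rw [fittingZero_eq]
  exact main_generic (S := Localization.Away h) h J

end Groth.Agent.Lib.FittEtaleH6
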