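import Mathlib
import Groth.Agent.Lib.FittEtale2_helper6

/-!
# FittEtale3 (helper6): étale-local factorisation `I B_g = J B_g · J'` (Stacks 0811-type lemma).
-/

set_option autoImplicit false
open TensorProduct Polynomial
universe u

namespace Groth.Agent.Lib.FittEtaleH6

/-- power of an annihilating element lies in `Fit₀` -/
theorem pow_mem_fitt_zero {R : Type u} [CommRing R] {M : Type u} [AddCommGroup M] [Module R M]
    {n : ℕ} (x : Fin n → M) (hx : Submodule.span R (Set.range x) = ⊤) (r : R)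
    (hr : ∀ i, r • x i = 0) : r ^ n ∈ Fitt.ideal R M 0 := by
  classical
  unfold Fitt.ideal
  apply Ideal.subset_span
  refine ⟨n, x, r • (1 : Matrix (Fin n) (Fin n) R), hx, ?_, ?_⟩
  · intro i _
    rw [Finset.sum_eq_single i]
    · simp [hr i]
    · intro j _ hji
      simp [Matrix.one_apply_ne hji.symm]
    · intro h; exact absurd (Finset.mem_univ i) h
  · rw [Matrix.det_smul, Matrix.det_one, mul_one, Fintype.card_fin]

/-- transport of the factorisation along an algebra isomorphism -/
theorem transport {A B₁ S : Type u} [CommRing A] [CommRing B₁] [CommRing S] [Algebra A B₁]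
    [Algebra A S] (ε : B₁ ≃ₐ[A] S) (I : Ideal A) (J₁ : Ideal B₁) (J'S : Ideal S)
    (h : I.map (algebraMap A S) = J₁.map (ε : B₁ →+* S) * J'S) :
    I.map (algebraMap A B₁) = J₁ * J'S.map (ε.symm : S →+* B₁) := by
  have h1 := congrArg (Ideal.map (ε.symm : S →+* B₁)) h
  rw [Ideal.map_mul, Ideal.map_map, Ideal.map_map] at h1
  have e1 : (ε.symm : S →+* B₁).comp (algebraMap A S) = algebraMap A B₁ := by
    ext x; simp
  have e2 : (ε.symm : S →+* B₁).comp (ε : B₁ →+* S) = RingHom.id B₁ := by
    ext x; simp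
  rw [e1, e2, Ideal.map_id] at h1
  exact h1

theorem exists_fg_map_eq {C S : Type u} [CommRing C] [CommRing S] [Algebra C S] (h : C)
    [IsLocalization.Away h S] (K : Ideal S) (hK : K.FG) :
    ∃ K₀ : Ideal C, K₀.FG ∧ K₀.map (algebraMap C S) = K := by
  classical
  obtain ⟨T, rfl⟩ := hK
  have hsurj : ∀ t : S, ∃ (c : C) (n : ℕ), t * algebraMap C S h ^ n = algebraMap C S c := by
    intro t
    obtain ⟨n, c, hc⟩ := IsLocalization.Away.surj h t
    exact ⟨c, n, hc⟩
  choose c n hc using hsurj
  have hu : ∀ k : ℕ, IsUnit (algebraMap C S h ^ k) :=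
    fun k => (IsLocalization.Away.algebraMap_isUnit h).pow k
  refine ⟨Ideal.span ((T.image c : Finset C) : Set C), ⟨_, rfl⟩, ?_⟩
  rw [Ideal.map_span]
  apply le_antisymm
  · rw [Ideal.span_le]
    rintro _ ⟨x, hx, rfl⟩
    rw [Finset.mem_coe, Finset.mem_image] at hx
    obtain ⟨t, ht, rfl⟩ := hx
    rw [← hc t]
    exact Ideal.mul_mem_right _ _ (Ideal.subset_span ht)
  · rw [Ideal.span_le]
    intro t ht
    obtain ⟨v, hv⟩ := (hu (n t)).exists_right_inv
    have : t = algebraMap C S (c t) * v := by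
      rw [← hc t, mul_assoc, hv, mul_one]
    rw [SetLike.mem_coe, this]
    refine Ideal.mul_mem_right _ _ (Ideal.subset_span ⟨c t, ?_, rfl⟩)
    rw [Finset.mem_coe, Finset.mem_image]
    exact ⟨t, ht, rfl⟩

/-- the finite free case: `C` finite projective over `A`, `S = C_h` étale over `A`, `K ⊆ S` f.g.
containing a power of `a` -/
theorem main_finite {A C S : Type u} [CommRing A] [CommRing C] [CommRing S] [Algebra A C]
    [Algebra C S] [Algebra A S] [IsScalarTower A C S] (h : C) [IsLocalization.Away h S]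
    [Module.Finite A C] [Module.Projective A C] [Algebra.FormallyUnramified A S]
    [Algebra.EssFiniteType A S] (a : A) (K : Ideal S) (hK : K.FG) (m : ℕ)
    (ham : algebraMap A S (a ^ m) ∈ K) :
    ∃ (I : Ideal A) (J' : Ideal S), I.FG ∧ a ∈ I.radical ∧ J'.FG ∧
      I.map (algebraMap A S) = K * J' := by
  obtain ⟨K₀, hK₀fg, hK₀⟩ := exists_fg_map_eq h K hK
  set JC : Ideal C := K₀ ⊔ Ideal.span {algebraMap A C (a ^ m)} with hJC
  have hJCfg : JC.FG := Submodule.FG.sup hK₀fg ⟨{algebraMap A C (a ^ m)}, by simp⟩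
  have hJCmap : JC.map (algebraMap C S) = K := by
    rw [hJC, Ideal.map_sup, hK₀, Ideal.map_span, Set.image_singleton,
      ← IsScalarTower.algebraMap_apply]
    exact sup_eq_left.mpr ((Ideal.span_singleton_le_iff_mem _).mpr ham)
  obtain ⟨J', hJ', hfg⟩ := main_generic (A := A) (S := S) h JC
  obtain ⟨hIfg, hJ'fg⟩ := hfg hJCfg
  refine ⟨Fitt.ideal A (C ⧸ JC) 0, J', hIfg, ?_, hJ'fg, by rw [hJ', hJCmap]⟩
  -- `a ∈ rad I`
  obtain ⟨n, x, hx⟩ := Module.Finite.exists_fin (R := A) (M := C)
  have hx' : Submodule.span A (Set.range fun i => (Ideal.Quotient.mkₐ A JC) (x i)) = ⊤ := by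
    have := congrArg (Submodule.map (Ideal.Quotient.mkₐ A JC).toLinearMap) hx
    rw [Submodule.map_span, Submodule.map_top, LinearMap.range_eq_top.mpr
      (Ideal.Quotient.mkₐ_surjective A JC), ← Set.range_comp] at this
    exact this
  refine ⟨m * n, ?_⟩
  rw [pow_mul]
  refine pow_mem_fitt_zero _ hx' (a ^ m) ?_
  intro i
  rw [← map_smul, Ideal.Quotient.mkₐ_eq_mk, Ideal.Quotient.eq_zero_iff_mem, Algebra.smul_def]
  exact Ideal.mul_mem_right _ _ (Ideal.mem_sup_right (Ideal.mem_span_singleton_self _))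

/-- the statement in the form of milestone S1271 -/
theorem main_1271 {A B : Type u} [CommRing A] [CommRing B] [Algebra A B] [Algebra.Etale A B]
    (a : A) (J : Ideal B) (hJ : J.FG) (hJa : algebraMap A B a ∈ J.radical)
    (q : Ideal B) [q.IsPrime] :
    ∃ (I : Ideal A) (g : B) (J' : Ideal (Localization.Away g)), I.FG ∧ a ∈ I.radical ∧ g ∉ q ∧
      J'.FG ∧ I.map (algebraMap A (Localization.Away g)) =
        J.map (algebraMap B (Localization.Away g)) * J' := by
  obtain ⟨g, hgq, hstd⟩ := Algebra.IsEtaleAt.exists_isStandardEtale (R := A) q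
  let Pres : StandardEtalePresentation A (Localization.Away g) :=
    hstd.nonempty_standardEtalePresentation.some
  let P : StandardEtalePair A := Pres.P
  let ε : Localization.Away g ≃ₐ[A] Localization.Away (AdjoinRoot.mk P.f P.g) :=
    Pres.equivRing.trans P.equivAwayAdjoinRoot
  have : Module.Finite A (AdjoinRoot P.f) := P.monic_f.finite_adjoinRoot
  have : Module.Free A (AdjoinRoot P.f) := P.monic_f.free_adjoinRoot
  have : Algebra.Etale A (Localization.Away (AdjoinRoot.mk P.f P.g)) :=
    Algebra.Etale.of_equiv P.equivAwayAdjoinRoot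
  obtain ⟨m, hm⟩ := hJa
  set J₁ : Ideal (Localization.Away g) := J.map (algebraMap B (Localization.Away g)) with hJ₁
  have hJ₁fg : J₁.FG := hJ.map _
  set K : Ideal (Localization.Away (AdjoinRoot.mk P.f P.g)) :=
    J₁.map (ε : Localization.Away g →+* Localization.Away (AdjoinRoot.mk P.f P.g)) with hKdef
  have hKfg : K.FG := hJ₁fg.map _
  have ham : algebraMap A (Localization.Away (AdjoinRoot.mk P.f P.g)) (a ^ m) ∈ K := by
    have h1 : algebraMap B (Localization.Away g) (algebraMap A B a ^ m) ∈ J₁ :=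
      Ideal.mem_map_of_mem _ hm
    have h2 := Ideal.mem_map_of_mem
      (ε : Localization.Away g →+* Localization.Away (AdjoinRoot.mk P.f P.g)) h1
    have h3 : (ε : Localization.Away g →+* Localization.Away (AdjoinRoot.mk P.f P.g))
        (algebraMap B (Localization.Away g) (algebraMap A B a ^ m)) =
        algebraMap A (Localization.Away (AdjoinRoot.mk P.f P.g)) (a ^ m) := by
      rw [← map_pow, ← IsScalarTower.algebraMap_apply]
      exact ε.commutes _
    rw [h3] at h2
    exact h2
  obtain ⟨I, J'S, hIfg, haI, hJ'fg, hmap⟩ := main_finite (A := A) (C := AdjoinRoot P.f)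
    (S := Localization.Away (AdjoinRoot.mk P.f P.g)) (AdjoinRoot.mk P.f P.g) a K hKfg m ham
  refine ⟨I, g, J'S.map (ε.symm : Localization.Away (AdjoinRoot.mk P.f P.g) →+* Localization.Away g),
    hIfg, haI, hgq, hJ'fg.map _, ?_⟩
  exact transport ε I J₁ J'S hmap

end Groth.Agent.Lib.FittEtaleH6
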