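import Mathlib
import Groth.Prelude
import Groth.Agent.Lib.JacDim_helper3
import Groth.Agent.Lib.KaehlerGens_helper3

/-!
# Fibre rank of `Ω[B/A]` at a prime via the fibre ring; Jacobian criterion as an iff (helper3)

APPEND-ONLY once landed.
-/

set_option autoImplicit false
universe u

open TensorProduct KaehlerDifferential

namespace Groth.Agent.Lib.FittFibreH3

attribute [local instance] Algebra.TensorProduct.rightAlgebra

variable (A B : Type u) [CommRing A] [CommRing B] [Algebra A B]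

/-- `dim κ(q) ⊗ Ω[B/A]` is computed in the fibre ring `κ(p) ⊗ B`. -/
theorem finrank_kaehler_fiber (p : Ideal A) [p.IsPrime] (Q : Ideal (p.Fiber B)) [Q.IsPrime]
    (q : Ideal B) [q.IsPrime] (hq : Q.comap (algebraMap B (p.Fiber B)) = q) :
    Module.finrank q.ResidueField (q.ResidueField ⊗[B] Ω[B⁄A]) =
      Module.finrank Q.ResidueField
        (Q.ResidueField ⊗[p.Fiber B] Ω[p.Fiber B⁄p.ResidueField]) := by
  have hker : RingHom.ker (algebraMap B Q.ResidueField) = q := by
    rw [IsScalarTower.algebraMap_eq B (p.Fiber B) Q.ResidueField, ← RingHom.comap_ker,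
      Ideal.ker_algebraMap_residueField, hq]
  rw [← Groth.Agent.Lib.KaehlerGensH3.finrank_tensor_field_eq q Q.ResidueField hker Ω[B⁄A]]
  let e1 : Q.ResidueField ⊗[p.Fiber B] (p.Fiber B ⊗[B] Ω[B⁄A]) ≃ₗ[Q.ResidueField]
      Q.ResidueField ⊗[B] Ω[B⁄A] :=
    AlgebraTensorModule.cancelBaseChange B (p.Fiber B) Q.ResidueField Q.ResidueField Ω[B⁄A]
  let e2 : Q.ResidueField ⊗[p.Fiber B] (p.Fiber B ⊗[B] Ω[B⁄A]) ≃ₗ[Q.ResidueField]
      Q.ResidueField ⊗[p.Fiber B] Ω[p.Fiber B⁄p.ResidueField] :=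
    AlgebraTensorModule.congr (LinearEquiv.refl Q.ResidueField Q.ResidueField)
      (KaehlerDifferential.tensorKaehlerEquiv A p.ResidueField B (p.Fiber B))
  exact (e1.symm.trans e2).finrank_eq

/-- Jacobian criterion as an iff. -/
theorem isSmoothAt_iff_finrank_le {k S : Type u} [Field k] [CommRing S] [Algebra k S]
    [Algebra.FiniteType k S] (q : Ideal S) [q.IsPrime] :
    Algebra.IsSmoothAt k q ↔
      ((Module.finrank q.ResidueField (q.ResidueField ⊗[S] Ω[S⁄k]) : ℕ∞) : WithBot ℕ∞) ≤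
        FlatMor.localDim (PrimeSpectrum S) ⟨q, inferInstance⟩ :=
  ⟨fun h => haveI := h; (Groth.Agent.Lib.JacDimH3.finrank_eq_of_isSmoothAt q).le,
    Groth.Agent.Lib.JacDimH3.isSmoothAt_of_finrank_le q⟩

end Groth.Agent.Lib.FittFibreH3
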