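import Mathlib
import Groth.Prelude
import Groth.Agent.Lib.FittFibre1_helper3
import Groth.Agent.Lib.FittFibre2_helper3
import Groth.Agent.Lib.OmegaFitt_helper4
import Groth.Agent.Lib.SmoothFib_helper4
import Groth.Agent.Lib.AffDim5_helper8
import Groth.Agent.Lib.LocDimEt_helper8
import Groth.Agent.Lib.SDivFitt_helper8
import Groth.Agent.Lib.WeakAssSch_helper4

/-!
# S8916: `V(Fit_d Ω_{X/S})` is the non-smooth locus for flat lfp morphisms with equidimensional
fibres (helper3)

APPEND-ONLY once landed.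
-/

set_option autoImplicit false
set_option linter.style.haveILetI false
universe u

open CategoryTheory CategoryTheory.Limits AlgebraicGeometry TensorProduct

namespace Groth.Agent.Lib.FittFibreH3

open Groth.Agent.Lib.UnramLocH4 Groth.Agent.Lib.WeakAssSch_helper4

attribute [local instance] Algebra.TensorProduct.rightAlgebra

/-- membership in the support of a Fitting ideal sheaf, on an affine chart. -/
theorem mem_support_sheafIdeal_iff {X : Scheme.{u}} (F : X.Modules) [F.IsQuasicoherent]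
    [SheafOfModules.IsFiniteType (R := X.ringCatSheaf) F] (r : ℕ) {U : X.Opens}
    (hU : IsAffineOpen U) {x : X} (hx : x ∈ U) :
    x ∈ (Fitt.sheafIdeal F r).support ↔
      Fitt.ideal Γ(X, U) Γ(F, U) r ≤ (hU.primeIdealOf ⟨x, hx⟩).asIdeal := by
  rw [Scheme.IdealSheafData.mem_support_iff_of_mem (U := ⟨U, hU⟩) hx,
    SDivFittH8.sheafIdeal_ideal, Scheme.mem_zeroLocus_iff]
  constructor
  · intro h a ha
    by_contra hq
    exact h a ha ((notMem_primeIdealOf_iff hU hx a).1 hq)
  · intro h a ha hxa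
    exact (notMem_primeIdealOf_iff hU hx a).2 hxa (h ha)

/-- ring-level core: smoothness of the fibre ring at `Q` iff the fibre rank of `Ω[B/A]` at `q` is
at most the local dimension. -/
theorem smoothLocus_fiber_iff (A B : Type u) [CommRing A] [CommRing B] [Algebra A B]
    [Algebra.FiniteType A B] (p : PrimeSpectrum A) (Q : PrimeSpectrum (p.asIdeal.Fiber B))
    (q : Ideal B) [q.IsPrime] (hq : Q.asIdeal.comap (algebraMap B (p.asIdeal.Fiber B)) = q)
    (d : ℕ) (hd : FlatMor.localDim (PrimeSpectrum (p.asIdeal.Fiber B)) Q = (d : WithBot ℕ∞)) :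
    Q ∈ Algebra.smoothLocus p.asIdeal.ResidueField (p.asIdeal.Fiber B) ↔
      Module.finrank q.ResidueField (q.ResidueField ⊗[B] Ω[B⁄A]) ≤ d := by
  have h1 : Q ∈ Algebra.smoothLocus p.asIdeal.ResidueField (p.asIdeal.Fiber B) ↔
      Algebra.IsSmoothAt p.asIdeal.ResidueField Q.asIdeal := Iff.rfl
  rw [h1, isSmoothAt_iff_finrank_le Q.asIdeal, finrank_kaehler_fiber A B p.asIdeal Q.asIdeal q hq]
  have h2 : FlatMor.localDim (PrimeSpectrum (p.asIdeal.Fiber B)) ⟨Q.asIdeal, inferInstance⟩ =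
      (d : WithBot ℕ∞) := hd
  rw [h2]
  exact_mod_cast Iff.rfl

section Main

variable {X S : Scheme.{u}} (f : X ⟶ S) [LocallyOfFinitePresentation f] [QuasiSeparated f]

set_option maxHeartbeats 1600000 in
/-- chart form: smoothness of the fibre at a point `z` lying in a chart. -/
theorem fiber_smooth_iff_chart (d : ℕ) {V : S.Opens} (hV : IsAffineOpen V) {U : X.Opens}
    (hU : IsAffineOpen U) (e : U ≤ f ⁻¹ᵁ V) (y : Spec Γ(S, V))
    [LocallyOfFinitePresentation (f.fiberToSpecResidueField (hV.fromSpec y))]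
    (hdim : ∀ T ∈ irreducibleComponents ↥(f.fiber (hV.fromSpec y)),
      topologicalKrullDim ↥T = d)
    (z : ↥(f.fiber (hV.fromSpec y))) (hz : (f.fiberι (hV.fromSpec y)) z ∈ U) :
    z ∈ (f.fiberToSpecResidueField (hV.fromSpec y)).smoothLocus ↔
      (f.fiberι (hV.fromSpec y)) z ∉ (Fitt.sheafIdeal (Omega.sheaf f) d).support := by
  haveI := Groth.Agent.Lib.OmegaFittH4.isQuasicoherent_omega f
  haveI := Groth.Agent.Lib.OmegaFittH4.isFiniteType_omega f
  letI algAB : Algebra Γ(S, V) Γ(X, U) := (f.appLE V U e).hom.toAlgebra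
  haveI : Algebra.FinitePresentation Γ(S, V) Γ(X, U) := f.finitePresentation_appLE hV hU e
  haveI : Algebra.FiniteType Γ(S, V) Γ(X, U) := inferInstance
  set x := (f.fiberι (hV.fromSpec y)) z with hxdef
  -- the chart maps
  have e₁ : Spec.map (f.appLE V U e) ≫ hV.fromSpec = hU.fromSpec ≫ f :=
    IsAffineOpen.SpecMap_appLE_fromSpec f hV hU e
  have comm2 : (Spec Γ(S, V)).fromSpecResidueField y ≫ hV.fromSpec =
      Spec.map (hV.fromSpec.residueFieldMap y) ≫ S.fromSpecResidueField (hV.fromSpec y) :=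
    (hV.fromSpec.SpecMap_residueFieldMap_fromSpecResidueField y).symm
  let f₀ : Spec Γ(X, U) ⟶ Spec Γ(S, V) := Spec.map (f.appLE V U e)
  let G : f₀.fiber y ⟶ f.fiber (hV.fromSpec y) :=
    pullback.map f₀ ((Spec Γ(S, V)).fromSpecResidueField y) f
      (S.fromSpecResidueField (hV.fromSpec y)) hU.fromSpec
      (Spec.map (hV.fromSpec.residueFieldMap y)) hV.fromSpec e₁ comm2
  haveI : IsOpenImmersion G := Scheme.pullback_map_isOpenImmersion ..
  have hG1 : G ≫ f.fiberι (hV.fromSpec y) = f₀.fiberι y ≫ hU.fromSpec := pullback.lift_fst _ _ _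
  have hG2 : G ≫ f.fiberToSpecResidueField (hV.fromSpec y) =
      f₀.fiberToSpecResidueField y ≫ Spec.map (hV.fromSpec.residueFieldMap y) :=
    pullback.lift_snd _ _ _
  have hrange : z ∈ Set.range G.base := by
    have hR := Scheme.Pullback.range_map (f := f₀) (g := (Spec Γ(S, V)).fromSpecResidueField y) f
      (S.fromSpecResidueField (hV.fromSpec y)) hU.fromSpec
      (Spec.map (hV.fromSpec.residueFieldMap y)) hV.fromSpec e₁ comm2
    refine (Set.ext_iff.mp hR z).mpr ⟨?_, ?_⟩
    · show x ∈ Set.range hU.fromSpec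
      rw [hU.range_fromSpec]; exact hz
    · obtain ⟨t, ht⟩ := (Scheme.Hom.homeomorph (Spec.map (hV.fromSpec.residueFieldMap y))).surjective
        ((pullback.snd f (S.fromSpecResidueField (hV.fromSpec y))).base z)
      exact ⟨t, ht⟩
  obtain ⟨z₀, hz₀⟩ := hrange
  -- identification of the chart fibre with `Spec` of the fibre ring
  let E := Spec.fiberToSpecResidueFieldIso Γ(S, V) Γ(X, U) y
  have hw : E.hom.left ≫ Spec.map (CommRingCat.ofHom
      (algebraMap y.asIdeal.ResidueField (y.asIdeal.Fiber Γ(X, U)))) =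
      (Spec.map (CommRingCat.ofHom (algebraMap Γ(S, V) Γ(X, U)))).fiberToSpecResidueField y ≫
        E.hom.right := E.hom.w
  have hC1 := fiberIso_left_comp Γ(S, V) Γ(X, U) y
  let Q : PrimeSpectrum (y.asIdeal.Fiber Γ(X, U)) := E.hom.left.base z₀
  -- (1) smoothness transfers
  have hsm : z ∈ (f.fiberToSpecResidueField (hV.fromSpec y)).smoothLocus ↔
      Q ∈ Algebra.smoothLocus y.asIdeal.ResidueField (y.asIdeal.Fiber Γ(X, U)) := by
    rw [← hz₀]
    have h1 : G.base z₀ ∈ (f.fiberToSpecResidueField (hV.fromSpec y)).smoothLocus ↔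
        ((f₀.fiberToSpecResidueField y).stalkMap z₀).hom.FormallySmooth :=
      (stalk_transfer RingHom.FormallySmooth.respectsIso G
        (f.fiberToSpecResidueField (hV.fromSpec y))
        (f₀.fiberToSpecResidueField y) (Spec.map (hV.fromSpec.residueFieldMap y)) hG2 z₀).symm
    rw [h1, ← specSmooth]
    exact (stalk_transfer RingHom.FormallySmooth.respectsIso E.hom.left _
      ((Spec.map (CommRingCat.ofHom (algebraMap Γ(S, V) Γ(X, U)))).fiberToSpecResidueField y)
      E.hom.right hw z₀)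
  -- (2) local dimension
  haveI : LocallyOfFiniteType (f.fiberToSpecResidueField (hV.fromSpec y)) :=
    MorphismProperty.pullback_snd (P := @LocallyOfFiniteType) _ _ inferInstance
  have hd1 : FlatMor.localDim ↥(f.fiber (hV.fromSpec y)) z = (d : WithBot ℕ∞) :=
    Groth.Agent.Lib.AffDimH8.localDim_eq_of_equidim (S.residueField (hV.fromSpec y))
      (f.fiber (hV.fromSpec y)) (f.fiberToSpecResidueField (hV.fromSpec y)) _ hdim z
  haveI : IsIso E.hom.left := inferInstance
  have hd2 : FlatMor.localDim (PrimeSpectrum (y.asIdeal.Fiber Γ(X, U))) Q = (d : WithBot ℕ∞) := by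
    rw [← hd1, ← hz₀, ← LocDimEtH8.localDim_etale G z₀]
    exact (LocDimEtH8.localDim_etale E.hom.left z₀).symm
  -- (3) the prime of `x`
  have hq : Q.asIdeal.comap (algebraMap Γ(X, U) (y.asIdeal.Fiber Γ(X, U))) =
      (hU.primeIdealOf ⟨x, hz⟩).asIdeal := by
    have h1 : hU.fromSpec ((Spec.map (CommRingCat.ofHom
        (Algebra.TensorProduct.includeRight :
          Γ(X, U) →ₐ[Γ(S, V)] y.asIdeal.Fiber Γ(X, U)).toRingHom)) Q) = x := by
      have h2 : (Spec.map (CommRingCat.ofHom
          (Algebra.TensorProduct.includeRight :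
            Γ(X, U) →ₐ[Γ(S, V)] y.asIdeal.Fiber Γ(X, U)).toRingHom)) Q =
          (f₀.fiberι y) z₀ := by
        rw [← Scheme.Hom.comp_apply, hC1]
        rfl
      rw [h2, ← Scheme.Hom.comp_apply, ← hG1, Scheme.Hom.comp_apply, hz₀]
    have h3 : (Spec.map (CommRingCat.ofHom
        (Algebra.TensorProduct.includeRight :
          Γ(X, U) →ₐ[Γ(S, V)] y.asIdeal.Fiber Γ(X, U)).toRingHom)) Q =
        hU.primeIdealOf ⟨x, hz⟩ :=
      hU.fromSpec.isOpenEmbedding.injective (h1.trans (hU.fromSpec_primeIdealOf ⟨x, hz⟩).symm)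
    exact congrArg PrimeSpectrum.asIdeal h3
  rw [hsm, smoothLocus_fiber_iff Γ(S, V) Γ(X, U) y Q _ hq d hd2,
    mem_support_sheafIdeal_iff (Omega.sheaf f) d hU hz]
  obtain ⟨L⟩ := Groth.Agent.Lib.OmegaSecH4.omegaSections f hU hV e
  haveI : Module.Finite Γ(X, U) Γ(Omega.sheaf f, U) := Module.Finite.equiv L.symm
  rw [FittH8.fitt_eq_of_linearEquiv L d, fitt_le_iff_lt_finrank, not_lt]

/-- smoothness of the fibre at a point iff the point is outside `V(Fit_d Ω)`. -/
theorem fiber_smooth_iff (d : ℕ) (s : S)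
    [LocallyOfFinitePresentation (f.fiberToSpecResidueField s)]
    (hdim : ∀ T ∈ irreducibleComponents ↥(f.fiber s), topologicalKrullDim ↥T = d)
    (z : ↥(f.fiber s)) :
    z ∈ (f.fiberToSpecResidueField s).smoothLocus ↔
      (f.fiberι s) z ∉ (Fitt.sheafIdeal (Omega.sheaf f) d).support := by
  have hfx : f.base ((f.fiberι s).base z) = s := (f.range_fiberι s).le ⟨z, rfl⟩
  obtain ⟨_, ⟨V, hV, rfl⟩, hsV, -⟩ :=
    S.isBasis_affineOpens.exists_subset_of_mem_open (Set.mem_univ s) isOpen_univ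
  obtain ⟨y, rfl⟩ : s ∈ Set.range hV.fromSpec.base := by rw [hV.range_fromSpec]; exact hsV
  have hyV : f.base ((f.fiberι (hV.fromSpec.base y)).base z) ∈ (V : Set S) := by
    rw [hfx]; exact hsV
  obtain ⟨_, ⟨U, hU, rfl⟩, hxU, hUV⟩ :=
    X.isBasis_affineOpens.exists_subset_of_mem_open hyV (V.2.preimage f.continuous)
  exact fiber_smooth_iff_chart f d hV hU hUV y hdim z hxU

/-- **S8916.** -/
theorem main8916 [Flat f] (d : ℕ)
    (hdim : ∀ s : ↥S, ∀ T ∈ irreducibleComponents ↥(f.fiber s), topologicalKrullDim ↥T = d)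
    (x : ↥X) :
    x ∈ (Fitt.sheafIdeal (Omega.sheaf f) d).support ↔
      ¬ ∃ U : X.Opens, x ∈ U ∧ Smooth (U.ι ≫ f) := by
  haveI : LocallyOfFinitePresentation (f.fiberToSpecResidueField (f.base x)) :=
    MorphismProperty.pullback_snd (P := @LocallyOfFinitePresentation) _ _ inferInstance
  have ha : (∃ U : X.Opens, x ∈ U ∧ Smooth (U.ι ≫ f)) ↔ x ∈ f.smoothLocus := by
    constructor
    · rintro ⟨U, hxU, hU⟩
      exact stalk_smooth_of_nhd f x U hxU hU
    · intro h
      exact ⟨f.smoothLocus, h, smooth_smoothLocus f⟩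
  have hb : x ∈ f.smoothLocus ↔
      f.asFiber x ∈ (f.fiberToSpecResidueField (f.base x)).smoothLocus := by
    rw [main2156 f x]
    exact ⟨fun h => h.2, fun h => ⟨Flat.stalkMap f x, h⟩⟩
  have hc := fiber_smooth_iff f d (f.base x) (hdim (f.base x)) (f.asFiber x)
  rw [f.fiberι_asFiber x] at hc
  rw [ha, hb, hc, not_not]

end Main

end Groth.Agent.Lib.FittFibreH3
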