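import Mathlib
import Groth.Prelude
import Groth.Agent.Lib.HypIdeal2_helper9
import Groth.Agent.Lib.CMMul1_helper9
import Groth.Agent.Lib.CurveTens1_helper9
import Groth.Agent.Lib.SDivFitt_helper8
import Groth.Agent.Lib.FittEtale1_helper6
import Groth.Agent.Lib.Fitt3_helper8
import Groth.Agent.Lib.InvTensP2_helper5
import Groth.Agent.Lib.TensInv2_helper9
import Groth.Agent.Lib.QCohExact_helper9
import Groth.Agent.Lib.CohKer_helper8
import Groth.Agent.Lib.ProperFin9_helper9

/-!
# The cokernel of a monomorphism of invertible modules and its zeroth Fitting ideal (helper9)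

For a monomorphism `φ : N ⟶ L` of invertible modules, `N ≅ L ⊗ I` where `I` is the zeroth Fitting
ideal sheaf of `coker φ`.
APPEND-ONLY once landed.
-/

set_option autoImplicit false
set_option linter.style.haveILetI false
universe u
open CategoryTheory CategoryTheory.Limits AlgebraicGeometry Opposite TopologicalSpace

namespace FittInv

open QcqsLoc QCohExtn SerreCrit GenLocH8 TensH8 Groth.Agent.TensInv CohB1

variable {X : Scheme.{u}}

section Local

variable {N L L' : X.Modules} (φ : N ⟶ L) (ε : tensorMod L L' ≅ OO X)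

/-- the map `N ⊗ L' ⟶ O` induced by `φ` and the trivialization `ε` -/
noncomputable def iMap : tensorMod N L' ⟶ OO X := (tR L').map φ ≫ ε.hom

variable {W : X.Opens} {n : Γ(N, W)} {e : Γ(L, W)} {e' : Γ(L', W)}
  (hn : IsGen N W n) (he : IsGen L W e) (he' : IsGen L' W e')

/-- the unit `ε(e ⊗ e')` -/
noncomputable def uu (e : Γ(L, W)) (e' : Γ(L', W)) : Γ(X, W) :=
  toFn (ap ε.hom W (SecTwist.tmul L L' W e e'))

include he he' in
theorem isUnit_uu : IsUnit (uu ε e e') := by
  obtain ⟨t, ht⟩ := tmulGen_surjective L L' he' le_rfl (ap ε.inv W (ofFn (1 : Γ(X, W))))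
  rw [SubExt.rF_self] at ht
  obtain ⟨c, hc⟩ := (he W le_rfl).1 t
  rw [SubExt.rF_self] at hc
  have h1 : ap ε.hom W (SecTwist.tmul L L' W t e') = ofFn (1 : Γ(X, W)) := by
    rw [ht, TensH8.ap_hom_inv]
  rw [hc, tmul_smul_left, ap_smul] at h1
  have h2 : c * uu ε e e' = 1 := congrArg toFn h1
  exact IsUnit.of_mul_eq_one_right c h2

include hn he he' in
theorem imgIdeal_iMap (b : Γ(X, W)) (hb : ap φ W n = b • e) :
    imgIdeal (iMap φ ε) W = Ideal.span {b} := by
  have key : ∀ c : Γ(X, W), toFn (ap (iMap φ ε) W (SecTwist.tmul N L' W (c • n) e')) =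
      c * (b * uu ε e e') := by
    intro c
    have h1 : ap (iMap φ ε) W (SecTwist.tmul N L' W (c • n) e') =
        ap ε.hom W (ap ((tR L').map φ) W (SecTwist.tmul N L' W (c • n) e')) := rfl
    rw [h1, Groth.Agent.CMMul.ap_tR_map_tmul, ap_smul, hb, tmul_smul_left, tmul_smul_left,
      ap_smul, ap_smul]
    rfl
  apply le_antisymm
  · rintro a ⟨g, rfl⟩
    obtain ⟨t, ht⟩ := tmulGen_surjective N L' he' le_rfl g
    rw [SubExt.rF_self] at ht
    obtain ⟨c, hc⟩ := (hn W le_rfl).1 t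
    rw [SubExt.rF_self] at hc
    rw [← ht, hc, key]
    rw [Ideal.mem_span_singleton']
    exact ⟨c * uu ε e e', by ring⟩
  · rw [Ideal.span_le, Set.singleton_subset_iff]
    obtain ⟨v, hv⟩ := (isUnit_uu ε he he').exists_right_inv
    refine ⟨SecTwist.tmul N L' W (v • n) e', ?_⟩
    rw [key]
    calc v * (b * uu ε e e') = b * (uu ε e e' * v) := by ring
      _ = b := by rw [hv, mul_one]

end Local

section Coker

variable {N L : X.Modules} (φ : N ⟶ L) [Mono φ]
  {W : X.Opens} {n : Γ(N, W)} {e : Γ(L, W)}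

/-- the map `a ↦ π(a • e)` onto the sections of the cokernel -/
noncomputable def psi (e : Γ(L, W)) : Γ(X, W) →ₗ[Γ(X, W)] Γ(cokernel φ, W) where
  toFun a := ap (cokernel.π φ) W (a • e)
  map_add' a a' := by rw [add_smul, map_add]
  map_smul' r a := by
    rw [RingHom.id_apply, smul_eq_mul, mul_smul, ap_smul]

theorem psi_apply (e : Γ(L, W)) (a : Γ(X, W)) :
    psi φ e a = ap (cokernel.π φ) W (a • e) := rfl

variable (hW : IsAffineOpen W) (hn : IsGen N W n) (he : IsGen L W e)

include hW he in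
theorem psi_surjective [L.IsQuasicoherent] [(cokernel φ).IsQuasicoherent] :
    Function.Surjective (psi φ e) := by
  intro q
  obtain ⟨l, hl⟩ := _root_.QCohExact.app_surjective_of_epi (cokernel.π φ) hW q
  obtain ⟨c, hc⟩ := (he W le_rfl).1 l
  rw [SubExt.rF_self] at hc
  refine ⟨c, ?_⟩
  rw [psi_apply, ← hc]
  exact hl

include hn he in
theorem ker_psi (b : Γ(X, W)) (hb : ap φ W n = b • e) :
    LinearMap.ker (psi φ e) = Ideal.span {b} := by
  have hex : (ShortComplex.mk φ (cokernel.π φ) (cokernel.condition φ)).Exact :=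
    ShortComplex.exact_cokernel φ
  ext a
  rw [LinearMap.mem_ker, psi_apply, Ideal.mem_span_singleton']
  constructor
  · intro h
    obtain ⟨m, hm⟩ := _root_.QCohExact.app_exact
      (ShortComplex.mk φ (cokernel.π φ) (cokernel.condition φ)) hex W (a • e) h
    obtain ⟨c, hc⟩ := (hn W le_rfl).1 m
    rw [SubExt.rF_self] at hc
    refine ⟨c, ?_⟩
    have h1 : ap φ W m = a • e := hm
    rw [hc, ap_smul, hb, ← mul_smul] at h1
    have h2 : (c * b - a) • e = 0 := by rw [sub_smul, h1, sub_self]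
    have h3 := (he W le_rfl).2 (c * b - a) (by rw [SubExt.rF_self]; exact h2)
    exact sub_eq_zero.mp h3
  · rintro ⟨c, rfl⟩
    have h1 : (c * b) • e = ap φ W (c • n) := by rw [ap_smul, hb, mul_smul]
    rw [h1]
    have h2 := congrArg (fun ψ : N ⟶ cokernel φ => ap ψ W (c • n)) (cokernel.condition φ)
    exact h2

include hW hn he in
/-- the zeroth Fitting ideal of the sections of the cokernel -/
theorem fitt_coker [L.IsQuasicoherent] [(cokernel φ).IsQuasicoherent]
    (b : Γ(X, W)) (hb : ap φ W n = b • e) :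
    Fitt.ideal Γ(X, W) Γ(cokernel φ, W) 0 = Ideal.span {b} := by
  have e1 := LinearMap.quotKerEquivOfSurjective (psi φ e) (psi_surjective φ hW he)
  haveI : Module.Finite Γ(X, W) (Γ(X, W) ⧸ LinearMap.ker (psi φ e)) :=
    Module.Finite.quotient _ _
  rw [← FittH8.fitt_eq_of_linearEquiv e1 0, ker_psi φ hn he b hb]
  exact Groth.Agent.Lib.FittEtaleH6.fitt_zero_quotient _

end Coker

section Global

variable {N L : X.Modules}

/-- around every point there is an affine open on which three invertible modules are generated -/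
theorem exists_common_gen {N L L' : X.Modules} (hN : PicF.IsInvertible N)
    (hL : PicF.IsInvertible L) (hL' : PicF.IsInvertible L') (x : X) :
    ∃ W : X.Opens, IsAffineOpen W ∧ x ∈ W ∧ (∃ n : Γ(N, W), IsGen N W n) ∧
      (∃ e : Γ(L, W), IsGen L W e) ∧ ∃ e' : Γ(L', W), IsGen L' W e' := by
  obtain ⟨W₁, -, hx₁, n₁, hn₁⟩ := exists_isGen hN x
  obtain ⟨W₂, -, hx₂, e₂, he₂⟩ := exists_isGen hL x
  obtain ⟨W₃, -, hx₃, e₃, he₃⟩ := exists_isGen hL' x
  obtain ⟨W, hW, hxW, hle⟩ := (Opens.isBasis_iff_nbhd.mp X.isBasis_affineOpens)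
    (show x ∈ W₁ ⊓ W₂ ⊓ W₃ from ⟨⟨hx₁, hx₂⟩, hx₃⟩)
  have h1 : W ≤ W₁ := hle.trans (inf_le_left.trans inf_le_left)
  have h2 : W ≤ W₂ := hle.trans (inf_le_left.trans inf_le_right)
  have h3 : W ≤ W₃ := hle.trans inf_le_right
  exact ⟨W, hW, hxW, ⟨_, hn₁.res h1⟩, ⟨_, he₂.res h2⟩, ⟨_, he₃.res h3⟩⟩

/-- **the source of a monomorphism of invertible modules is the target twisted by the zeroth
Fitting ideal of the cokernel** -/
theorem main (hN : PicF.IsInvertible N) (hL : PicF.IsInvertible L) (φ : N ⟶ L) [Mono φ] :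
    Nonempty (tensorMod L (ClSub.idealMod (Fitt.sheafIdeal (cokernel φ) 0)) ≅ N) := by
  obtain ⟨L', hL', ⟨ε⟩⟩ := Groth.Agent.InvTensP.exists_inverse L hL
  have hNc := ProperFinH9.isCoh_of_isInvertible hN
  have hLc := ProperFinH9.isCoh_of_isInvertible hL
  have hQc := CohKerH8.isCoh_cokernel hNc hLc φ
  haveI : N.IsQuasicoherent := hNc.1
  haveI : L.IsQuasicoherent := hLc.1
  haveI : (cokernel φ).IsQuasicoherent := hQc.1
  haveI : SheafOfModules.IsFiniteType (R := X.ringCatSheaf) (cokernel φ) := hQc.2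
  haveI : (tensorMod N L').IsQuasicoherent :=
    TensH8.isQuasicoherent_of_isInvertible (TensH8.isInvertible_tensorMod hN hL')
  have hm1 : Mono ((tR L').map φ) := CurveTens.mono_tR hL' φ
  haveI : Mono (iMap φ ε) := by
    unfold iMap
    exact @mono_comp _ _ _ _ _ _ hm1 _ inferInstance
  obtain ⟨e₁⟩ := Groth.Agent.HypIdeal.nonempty_iso_idealMod (iMap φ ε)
  have hJ : TensH8.idealOfSub (iMap φ ε) = Fitt.sheafIdeal (cokernel φ) 0 := by
    choose W hW hxW hn he he' using exists_common_gen hN hL hL'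
    let U : X → X.affineOpens := fun x => ⟨W x, hW x⟩
    refine Scheme.IdealSheafData.ext_of_iSup_eq_top U ?_ ?_
    · rw [eq_top_iff]
      intro x _
      exact Opens.mem_iSup.mpr ⟨x, hxW x⟩
    · intro x
      obtain ⟨n, hn⟩ := hn x
      obtain ⟨e, he⟩ := he x
      obtain ⟨e', he'⟩ := he' x
      obtain ⟨b, hb⟩ := (he (W x) le_rfl).1 (ap φ (W x) n)
      rw [SubExt.rF_self] at hb
      rw [TensH8.idealOfSub_ideal, @SDivFittH8.sheafIdeal_ideal X (cokernel φ) hQc.1 hQc.2 0 (U x)]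
      show imgIdeal (iMap φ ε) (W x) = Fitt.ideal Γ(X, W x) Γ(cokernel φ, W x) 0
      rw [imgIdeal_iMap φ ε hn he he' b hb, fitt_coker φ (hW x) hn he b hb]
  rw [← hJ]
  obtain ⟨ε'⟩ := swap ⟨ε⟩
  exact ⟨mapL L e₁.symm ≪≫ comm _ _ ≪≫ assoc N L' L ≪≫ mapL N ε' ≪≫ rightUnit N⟩

end Global

end FittInv
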