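import Mathlib
import Groth.Prelude
import Groth.Agent.Lib.HomLin4_helper8
import Groth.Agent.Lib.ModHomBasis_helper5
import Groth.Agent.Lib.TFFree_helper8

/-!
# Morphisms on an open neighbourhood with prescribed stalk map (helper4)

* `resEv`, `exists_hom_restrict_of_sec` : a section of the sheaf Hom `RefHull.homSh A B` over `U`
  defines a morphism `A|_U ⟶ B|_U` (for `Scheme.Modules.restrictFunctor U.ι`);
* `main9526` : for `G` of finite presentation, every linear map `G_x → F_x` is the stalk map of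
  a morphism `G|_U ⟶ F|_U` on an open neighbourhood `U` of `x`.

APPEND-ONLY once landed.
-/

set_option autoImplicit false
universe u
open CategoryTheory Limits Opposite AlgebraicGeometry TopologicalSpace
open HomLinH8 RefHullH8 QcqsLoc

namespace Groth.Agent.Lib.LocHomStalkH4

variable {X : Scheme.{u}}

section
variable (A B : X.Modules) (U : X.Opens) (g : Γ(RefHull.homSh A B, U))

/-- evaluation of a section of the sheaf Hom over `U` on sections of the restriction to `U` -/
noncomputable def resEv (O : (↑U : Scheme.{u}).Opens)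
    (s : Γ((Scheme.Modules.restrictFunctor U.ι).obj A, O)) :
    Γ((Scheme.Modules.restrictFunctor U.ι).obj B, O) :=
  evSec (X := X) (A := A) (B := B) (O := U.ι ''ᵁ O) (rF (RefHull.homSh A B) (U.ι_image_le O) g) s

theorem resEv_add (O : (↑U : Scheme.{u}).Opens)
    (x y : Γ((Scheme.Modules.restrictFunctor U.ι).obj A, O)) :
    resEv A B U g O (x + y) = resEv A B U g O x + resEv A B U g O y :=
  evSec_add_right (X := X) (A := A) (B := B) (O := U.ι ''ᵁ O)
    (rF (RefHull.homSh A B) (U.ι_image_le O) g) x y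

theorem resEv_smul (O : (↑U : Scheme.{u}).Opens) (r : Γ((↑U : Scheme.{u}), O))
    (x : Γ((Scheme.Modules.restrictFunctor U.ι).obj A, O)) :
    resEv A B U g O (r • x) = r • resEv A B U g O x :=
  evSec_smul_right (X := X) (A := A) (B := B) (O := U.ι ''ᵁ O)
    (rF (RefHull.homSh A B) (U.ι_image_le O) g) ((U.ι.appIso O).inv r) x

theorem resEv_nat (O O' : (↑U : Scheme.{u}).Opens) (h : O' ≤ O)
    (x : Γ((Scheme.Modules.restrictFunctor U.ι).obj A, O)) :
    resEv A B U g O' (rF ((Scheme.Modules.restrictFunctor U.ι).obj A) h x) =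
      rF ((Scheme.Modules.restrictFunctor U.ι).obj B) h (resEv A B U g O x) := by
  have h' : U.ι ''ᵁ O' ≤ U.ι ''ᵁ O := U.ι.image_mono h
  have e1 := rF_evSec (X := X) (A := A) (B := B) h'
    (rF (RefHull.homSh A B) (U.ι_image_le O) g) x
  rw [rF_rF] at e1
  exact e1.symm

end

/-- A section of the sheaf Hom over `U` defines a morphism between the restrictions to `U`. -/
theorem exists_hom_restrict_of_sec (A B : X.Modules) (U : X.Opens) (g : Γ(RefHull.homSh A B, U)) :
    ∃ φ : (Scheme.Modules.restrictFunctor U.ι).obj A ⟶ (Scheme.Modules.restrictFunctor U.ι).obj B,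
      ∀ (O : (↑U : Scheme.{u}).Opens) (s : Γ((Scheme.Modules.restrictFunctor U.ι).obj A, O)),
        φ.app O s = resEv A B U g O s := by
  have hBasis : Opens.IsBasis (Set.range (fun O : (↑U : Scheme.{u}).Opens => O)) := by
    rw [Opens.isBasis_iff_nbhd]
    intro O x hx
    exact ⟨O, ⟨O, rfl⟩, hx, le_rfl⟩
  exact Groth.Agent.ModHomBasis.exists_hom_of_basis _ _
    (fun O : (↑U : Scheme.{u}).Opens => O) hBasis (resEv A B U g) (resEv_add A B U g)
    (resEv_smul A B U g) (resEv_nat A B U g)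

/-- S9526: a linear map between stalks of coherent modules is induced by a morphism on an open
neighbourhood (only the source needs to be of finite presentation). -/
theorem main9526 (F G : X.Modules) (hG : CohB1.IsFP G) (x : X)
    (ψ : ↑(G.presheaf.stalk x) →ₗ[X.presheaf.stalk x] ↑(F.presheaf.stalk x)) :
    ∃ (U : X.Opens) (hx : x ∈ U)
      (φ : (Scheme.Modules.restrictFunctor U.ι).obj G ⟶ (Scheme.Modules.restrictFunctor U.ι).obj F),
      (Scheme.Modules.restrictStalkNatIso U.ι (⟨x, hx⟩ : U)).inv.app G ≫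
          (TopCat.Presheaf.stalkFunctor _ (⟨x, hx⟩ : U)).map φ.mapPresheaf ≫
            (Scheme.Modules.restrictStalkNatIso U.ι (⟨x, hx⟩ : U)).hom.app F =
        AddCommGrpCat.ofHom ψ.toAddMonoidHom := by
  obtain ⟨l, hl⟩ := evalStalk_surjective G F hG x ψ
  obtain ⟨(U : X.Opens), hx, g, rfl⟩ :=
    TopCat.Presheaf.exists_germ_eq (RefHull.homSh G F).presheaf l
  have hg : g.1 ⟨x, hx⟩ = ψ := by
    rw [← RefHull.evalStalk_germ G F x hx g]; exact hl
  obtain ⟨φ, hφ⟩ := exists_hom_restrict_of_sec G F U g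
  refine ⟨U, hx, φ, ?_⟩
  have key : (TopCat.Presheaf.stalkFunctor _ (⟨x, hx⟩ : U)).map φ.mapPresheaf ≫
      (Scheme.Modules.restrictStalkNatIso U.ι (⟨x, hx⟩ : U)).hom.app F =
      (Scheme.Modules.restrictStalkNatIso U.ι (⟨x, hx⟩ : U)).hom.app G ≫
        AddCommGrpCat.ofHom ψ.toAddMonoidHom := by
    refine TopCat.Presheaf.stalk_hom_ext _ (fun O hxO => ?_)
    ext s
    have hxO' : x ∈ U.ι ''ᵁ O := ⟨⟨x, hx⟩, hxO, rfl⟩
    have h1 := TopCat.Presheaf.stalkFunctor_map_germ_apply O (⟨x, hx⟩ : U) hxO φ.mapPresheaf s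
    have h2 : ∀ t, ((Scheme.Modules.restrictStalkNatIso U.ι (⟨x, hx⟩ : U)).hom.app F).hom
        (((Scheme.Modules.restrictFunctor U.ι).obj F).presheaf.germ O (⟨x, hx⟩ : U) hxO t) =
        F.presheaf.germ (U.ι ''ᵁ O) x hxO' t := fun t =>
      ConcreteCategory.congr_hom
        (Scheme.Modules.germ_restrictStalkNatIso_hom_app U.ι (⟨x, hx⟩ : U) F hxO) t
    have h3 : ∀ t, ((Scheme.Modules.restrictStalkNatIso U.ι (⟨x, hx⟩ : U)).hom.app G).hom
        (((Scheme.Modules.restrictFunctor U.ι).obj G).presheaf.germ O (⟨x, hx⟩ : U) hxO t) =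
        G.presheaf.germ (U.ι ''ᵁ O) x hxO' t := fun t =>
      ConcreteCategory.congr_hom
        (Scheme.Modules.germ_restrictStalkNatIso_hom_app U.ι (⟨x, hx⟩ : U) G hxO) t
    have h4 : F.presheaf.germ (U.ι ''ᵁ O) x hxO' (φ.app O s) =
        ψ (G.presheaf.germ (U.ι ''ᵁ O) x hxO' s) := by
      rw [hφ O s]
      unfold resEv
      rw [germ_evSec _ _ x hxO']
      have e1 : (rF (RefHull.homSh G F) (U.ι_image_le O) g).1 ⟨x, hxO'⟩ = g.1 ⟨x, hx⟩ := rfl
      rw [e1, hg]
    change ((Scheme.Modules.restrictStalkNatIso U.ι (⟨x, hx⟩ : U)).hom.app F).hom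
      (((TopCat.Presheaf.stalkFunctor _ (⟨x, hx⟩ : U)).map φ.mapPresheaf).hom
        (((Scheme.Modules.restrictFunctor U.ι).obj G).presheaf.germ O (⟨x, hx⟩ : U) hxO s)) =
      ψ (((Scheme.Modules.restrictStalkNatIso U.ι (⟨x, hx⟩ : U)).hom.app G).hom
        (((Scheme.Modules.restrictFunctor U.ι).obj G).presheaf.germ O (⟨x, hx⟩ : U) hxO s))
    refine (congrArg _ h1).trans ?_
    refine (h2 _).trans ?_
    refine h4.trans ?_
    exact congrArg ψ (h3 s).symm
  refine (congrArg (fun m => (Scheme.Modules.restrictStalkNatIso U.ι (⟨x, hx⟩ : U)).inv.app G ≫ m)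
    key).trans ?_
  exact Iso.inv_hom_id_app_assoc _ _ _

end Groth.Agent.Lib.LocHomStalkH4
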