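import Mathlib
import Groth.Prelude
import Groth.Agent.Lib.PullDual2_helper2

/-!
# Perfect pairings of `O`-modules and their pullbacks, III (helper2)

For `f : X ⟶ Y`, a pairing `ε : E ⊗ D ⟶ O_Y` and a module `G` on `Y`:

* `xi f ε G : f^*(G ⊗ D) ⟶ 𝓗om(f^*E, f^*G)`, an isomorphism when `ε` is perfect and `E` finite locally
  free (`isIso_xi`);
* `xi_cUV_val`: the section `xi (f^* t)` is the pullback (`StalkFam.pbSec`) of the family of stalk
  maps `cMapP ε G t`: **pullback commutes with the sheaf Hom out of a finite locally free module**.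
APPEND-ONLY once landed.
-/

set_option autoImplicit false
set_option maxHeartbeats 1600000
set_option linter.style.haveILetI false
universe u
open CategoryTheory CategoryTheory.Limits AlgebraicGeometry TopologicalSpace Opposite TensorProduct

namespace Groth.Agent.Lib.PullDualH2

open QcqsLoc SecOrdH8 FLFH8 QCohExtn RefHullH8 HomLinH8 Groth.Agent.Lib.StalkTensH3
  Groth.Agent.Lib.HomShAdjH2 Groth.Agent.Lib.PullTensIsoH3 PBH8 PullTensH9
  Groth.Agent.Lib.StalkFam

noncomputable section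

variable {X Y : Scheme.{u}} (f : X ⟶ Y) {E D : Y.Modules}
  (ε : CohB1.tensorMod E D ⟶ Coh.structureModule Y) (G : Y.Modules)

/-- `f^*(G ⊗ D) ⟶ 𝓗om(f^*E, f^*G)` -/
def xi : (Scheme.Modules.pullback f).obj (CohB1.tensorMod G D) ⟶
    RefHull.homSh ((Scheme.Modules.pullback f).obj E) ((Scheme.Modules.pullback f).obj G) :=
  ptHom f G D ≫ cMapP (pullPair f ε) ((Scheme.Modules.pullback f).obj G)

theorem isIso_xi (hE : FlatMod.IsFinLocFree E) [D.IsQuasicoherent] (h : IsPerfect ε) :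
    IsIso (xi f ε G) :=
  IsIso.comp_isIso' (isIso_ptHom f G D)
    (isIso_cMapP _ _ (PBH8.isFinLocFree_pullback f hE) (isPerfect_pullPair f ε hE h))

lemma xi_cUV_tm (V : Y.Opens) (g : Γ(G, V)) (d : Γ(D, V)) :
    (xi f ε G).app (f ⁻¹ᵁ V) (cUV f (CohB1.tensorMod G D) le_rfl (tm G D V g d)) =
      scal ((Scheme.Modules.pullback f).obj E) ((Scheme.Modules.pullback f).obj G) (f ⁻¹ᵁ V)
        (cUV f G le_rfl g) ((curry (pullPair f ε)).app (f ⁻¹ᵁ V) (cUV f D le_rfl d)) := by
  show (cMapP (pullPair f ε) ((Scheme.Modules.pullback f).obj G)).app (f ⁻¹ᵁ V)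
    ((ptHom f G D).app (f ⁻¹ᵁ V) (cUV f (CohB1.tensorMod G D) le_rfl (tm G D V g d))) = _
  have h1 : (ptHom f G D).app (f ⁻¹ᵁ V) (cUV f (CohB1.tensorMod G D) le_rfl (tm G D V g d)) =
      tm ((Scheme.Modules.pullback f).obj G) ((Scheme.Modules.pullback f).obj D) (f ⁻¹ᵁ V)
        (cUV f G le_rfl g) (cUV f D le_rfl d) := ptHom_cUV' f G D V g d
  rw [h1, cMapP_tm]

/-- the stalk comparison on germs of pure tensors -/
lemma xi_stalk_pure (x : X) (W : Y.Opens) (hy : f x ∈ W) (g : Γ(G, W)) (d : Γ(D, W))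
    (m : Γ(E, W)) :
    (RefHull.evalStalk ((Scheme.Modules.pullback f).obj E) ((Scheme.Modules.pullback f).obj G) x
        (RefHull.stalkMapₗ (xi f ε G) x (PBH8.cStalkHom f (CohB1.tensorMod G D) x
          ((CohB1.tensorMod G D).presheaf.germ W (f x) hy (tm G D W g d)))))
        (PBH8.cStalkHom f E x (E.presheaf.germ W (f x) hy m)) =
      PBH8.cStalkHom f G x ((RefHull.evalStalk E G (f x)
        (RefHull.stalkMapₗ (cMapP ε G) (f x)
          ((CohB1.tensorMod G D).presheaf.germ W (f x) hy (tm G D W g d))))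
        (E.presheaf.germ W (f x) hy m)) := by
  have hx' : x ∈ f ⁻¹ᵁ W := hy
  -- the left hand side
  have hL : (RefHull.evalStalk ((Scheme.Modules.pullback f).obj E)
        ((Scheme.Modules.pullback f).obj G) x
        (RefHull.stalkMapₗ (xi f ε G) x (PBH8.cStalkHom f (CohB1.tensorMod G D) x
          ((CohB1.tensorMod G D).presheaf.germ W (f x) hy (tm G D W g d)))))
        (PBH8.cStalkHom f E x (E.presheaf.germ W (f x) hy m)) =
      toO x (curryAtL (pullPair f ε) x
          (PBH8.cStalkHom f D x (D.presheaf.germ W (f x) hy d))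
          (PBH8.cStalkHom f E x (E.presheaf.germ W (f x) hy m))) •
        PBH8.cStalkHom f G x (G.presheaf.germ W (f x) hy g) := by
    rw [PBH8.cStalkHom_germ_cUV f (CohB1.tensorMod G D) (le_rfl : f ⁻¹ᵁ W ≤ f ⁻¹ᵁ W) hx'
        (tm G D W g d), RefHull.stalkMapₗ_germ, xi_cUV_tm,
      PBH8.cStalkHom_germ_cUV f E (le_rfl : f ⁻¹ᵁ W ≤ f ⁻¹ᵁ W) hx' m,
      PBH8.cStalkHom_germ_cUV f D (le_rfl : f ⁻¹ᵁ W ≤ f ⁻¹ᵁ W) hx' d,
      PBH8.cStalkHom_germ_cUV f G (le_rfl : f ⁻¹ᵁ W ≤ f ⁻¹ᵁ W) hx' g,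
      RefHull.evalStalk_germ, scal_apply, scalHom_apply]
    rfl
  -- the right hand side
  have hR : PBH8.cStalkHom f G x ((RefHull.evalStalk E G (f x)
        (RefHull.stalkMapₗ (cMapP ε G) (f x)
          ((CohB1.tensorMod G D).presheaf.germ W (f x) hy (tm G D W g d))))
        (E.presheaf.germ W (f x) hy m)) =
      (f.stalkMap x).hom (toO (f x) (curryAtL ε (f x) (D.presheaf.germ W (f x) hy d)
          (E.presheaf.germ W (f x) hy m))) •
        PBH8.cStalkHom f G x (G.presheaf.germ W (f x) hy g) := by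
    rw [RefHull.stalkMapₗ_germ, cMapP_tm, ← PBH8.cStalkHom_smul, RefHull.evalStalk_germ,
      scal_apply, scalHom_apply]
    rfl
  rw [hL, hR, curryAtL_pullPair_germ]

/-- additive maps out of a stalk of a tensor product are determined on germs of pure tensors -/
lemma addHom_ext_stalk_tensor (y : Y) (G D : Y.Modules) {Q : Type*} [AddCommGroup Q]
    (L₁ L₂ : (CohB1.tensorMod G D).presheaf.stalk y →+ Q)
    (h : ∀ (W : Y.Opens) (hy : y ∈ W) (g : Γ(G, W)) (d : Γ(D, W)),
      L₁ ((CohB1.tensorMod G D).presheaf.germ W y hy (tm G D W g d)) =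
        L₂ ((CohB1.tensorMod G D).presheaf.germ W y hy (tm G D W g d))) : L₁ = L₂ := by
  let θ' : ↑((stk y).obj G) ⊗[Y.presheaf.stalk y] ↑((stk y).obj D) →+
      (CohB1.tensorMod G D).presheaf.stalk y := (theta y G D).hom.toAddMonoidHom
  have hθ : ∀ w, θ' w = (theta y G D).hom w := fun w => rfl
  have hcomp : ∀ w, L₁ (θ' w) = L₂ (θ' w) := by
    intro w
    induction w using TensorProduct.induction_on with
    | zero => rw [map_zero, map_zero, map_zero]
    | tmul b δ =>
      obtain ⟨U₁, h₁, g, rfl⟩ := exists_gmM y G b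
      obtain ⟨U₂, h₂, d, rfl⟩ := exists_gmM y D δ
      have e : θ' (gmM y G U₁ h₁ g ⊗ₜ gmM y D U₂ h₂ d) =
          (CohB1.tensorMod G D).presheaf.germ (U₁ ⊓ U₂) y ⟨h₁, h₂⟩
            (tm G D (U₁ ⊓ U₂) (rF G inf_le_left g) (rF D inf_le_right d)) := by
        rw [hθ, theta_tmul]
        rfl
      rw [e]
      exact h _ _ _ _
    | add w w' hw hw' => rw [map_add, map_add, map_add, hw, hw']
  ext τ
  have hτ : τ = θ' ((rho y G D).hom τ) :=
    (congrArg (fun ψ => ψ.hom τ) (theta_rho y G D)).symm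
  rw [hτ]
  exact hcomp _

/-- the stalk comparison -/
lemma xi_stalk_eq (x : X) (a : E.presheaf.stalk (f x))
    (τ : (CohB1.tensorMod G D).presheaf.stalk (f x)) :
    (RefHull.evalStalk ((Scheme.Modules.pullback f).obj E) ((Scheme.Modules.pullback f).obj G) x
        (RefHull.stalkMapₗ (xi f ε G) x (PBH8.cStalkHom f (CohB1.tensorMod G D) x τ)))
        (PBH8.cStalkHom f E x a) =
      PBH8.cStalkHom f G x ((RefHull.evalStalk E G (f x)
        (RefHull.stalkMapₗ (cMapP ε G) (f x) τ)) a) := by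
  obtain ⟨U₃, h₃, m, rfl⟩ := TopCat.Presheaf.exists_germ_eq (F := E.presheaf) a
  let L₁ : (CohB1.tensorMod G D).presheaf.stalk (f x) →+
      ((Scheme.Modules.pullback f).obj G).presheaf.stalk x :=
    (LinearMap.applyₗ (PBH8.cStalkHom f E x (E.presheaf.germ U₃ (f x) h₃ m))).toAddMonoidHom.comp
      ((RefHull.evalStalk ((Scheme.Modules.pullback f).obj E)
        ((Scheme.Modules.pullback f).obj G) x).toAddMonoidHom.comp
        ((RefHull.stalkMapₗ (xi f ε G) x).toAddMonoidHom.comp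
          (PBH8.cStalkHom f (CohB1.tensorMod G D) x).hom))
  let L₂ : (CohB1.tensorMod G D).presheaf.stalk (f x) →+
      ((Scheme.Modules.pullback f).obj G).presheaf.stalk x :=
    (PBH8.cStalkHom f G x).hom.comp
      ((LinearMap.applyₗ (E.presheaf.germ U₃ (f x) h₃ m)).toAddMonoidHom.comp
        ((RefHull.evalStalk E G (f x)).toAddMonoidHom.comp
          (RefHull.stalkMapₗ (cMapP ε G) (f x)).toAddMonoidHom))
  have hL : L₁ = L₂ := by
    apply addHom_ext_stalk_tensor
    intro W hy g d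
    have hW : f x ∈ W ⊓ U₃ := ⟨hy, h₃⟩
    have e1 : (CohB1.tensorMod G D).presheaf.germ W (f x) hy (tm G D W g d) =
        (CohB1.tensorMod G D).presheaf.germ (W ⊓ U₃) (f x) hW
          (tm G D (W ⊓ U₃) (rF G inf_le_left g) (rF D inf_le_left d)) := by
      rw [← rF_tm, germ_rF]
    have e3 : E.presheaf.germ U₃ (f x) h₃ m =
        E.presheaf.germ (W ⊓ U₃) (f x) hW (rF E inf_le_right m) :=
      (germ_rF E inf_le_right (f x) hW m).symm
    rw [e1]
    show (RefHull.evalStalk ((Scheme.Modules.pullback f).obj E)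
        ((Scheme.Modules.pullback f).obj G) x
        (RefHull.stalkMapₗ (xi f ε G) x (PBH8.cStalkHom f (CohB1.tensorMod G D) x _)))
        (PBH8.cStalkHom f E x (E.presheaf.germ U₃ (f x) h₃ m)) =
      PBH8.cStalkHom f G x ((RefHull.evalStalk E G (f x)
        (RefHull.stalkMapₗ (cMapP ε G) (f x) _)) (E.presheaf.germ U₃ (f x) h₃ m))
    rw [e3]
    exact xi_stalk_pure f ε G x (W ⊓ U₃) hW _ _ _
  exact DFunLike.congr_fun hL τ

/-- **pullback commutes with the sheaf Hom out of a finite locally free module**: the section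
`xi (f^* t)` of `𝓗om(f^*E, f^*G)` is the pullback of the section `cMapP ε G t` of `𝓗om(E, G)` -/
theorem xi_cUV_val [E.IsQuasicoherent] (V : Y.Opens) (t : Γ(CohB1.tensorMod G D, V)) (x : X)
    (hx : f x ∈ V) :
    ((xi f ε G).app (f ⁻¹ᵁ V) (cUV f (CohB1.tensorMod G D) le_rfl t)).1 ⟨x, hx⟩ =
      (pbSec f ((cMapP ε G).app V t)).1 ⟨x, hx⟩ := by
  have hx' : x ∈ f ⁻¹ᵁ V := hx
  apply pbStalk_ext f E x
  intro a
  rw [pbSec_apply]
  have h1 : ((xi f ε G).app (f ⁻¹ᵁ V) (cUV f (CohB1.tensorMod G D) le_rfl t)).1 ⟨x, hx⟩ =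
      RefHull.evalStalk ((Scheme.Modules.pullback f).obj E) ((Scheme.Modules.pullback f).obj G) x
        (RefHull.stalkMapₗ (xi f ε G) x (PBH8.cStalkHom f (CohB1.tensorMod G D) x
          ((CohB1.tensorMod G D).presheaf.germ V (f x) hx t))) := by
    rw [PBH8.cStalkHom_germ_cUV f (CohB1.tensorMod G D) (le_rfl : f ⁻¹ᵁ V ≤ f ⁻¹ᵁ V) hx' t,
      RefHull.stalkMapₗ_germ, RefHull.evalStalk_germ]
  have h2 : ((cMapP ε G).app V t).1 ⟨f x, hx⟩ =
      RefHull.evalStalk E G (f x)
        (RefHull.stalkMapₗ (cMapP ε G) (f x)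
          ((CohB1.tensorMod G D).presheaf.germ V (f x) hx t)) := by
    rw [RefHull.stalkMapₗ_germ, RefHull.evalStalk_germ]
  rw [h1, h2]
  exact xi_stalk_eq f ε G x a _

end

end Groth.Agent.Lib.PullDualH2
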