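import Mathlib
import Groth.Prelude
import Groth.Agent.Lib.PullDual3_helper2
import Groth.Agent.Lib.GlueTwo_helper2
import Groth.Agent.Lib.LocHomStalk_helper4

/-!
# Isomorphisms near a fibre, I: local algebra, openness of the bijectivity locus (helper2)

* `bijective_of_isBaseChange`: a map of finite free modules whose base change along a local
  homomorphism is bijective is bijective.
* `isOpen_bijective_locus`: the locus where a section of `𝓗om(A, B)` (`A`, `B` of finite
  presentation) has bijective stalk maps is open.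
* `nonempty_iso_restrict_of_bijective`: a section of `𝓗om(A, B)` over `U` with bijective stalk maps
  gives `A|_U ≅ B|_U`.
APPEND-ONLY once landed.
-/

set_option autoImplicit false
set_option maxHeartbeats 1600000
set_option linter.style.haveILetI false
universe u
open CategoryTheory CategoryTheory.Limits AlgebraicGeometry TopologicalSpace Opposite TensorProduct

namespace Groth.Agent.Lib.NbhdIsoH2

section Alg

variable {R S : Type*} [CommRing R] [CommRing S] [Algebra R S] [Nontrivial S]
  [IsLocalHom (algebraMap R S)]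
  {M N M' N' : Type*} [AddCommGroup M] [Module R M] [AddCommGroup N] [Module R N]
  [Module.Free R M] [Module.Finite R M] [Module.Free R N] [Module.Finite R N]
  [AddCommGroup M'] [Module R M'] [Module S M'] [IsScalarTower R S M']
  [AddCommGroup N'] [Module R N'] [Module S N'] [IsScalarTower R S N']

/-- a map of finite free modules whose base change along a local homomorphism is bijective is
bijective -/
theorem bijective_of_isBaseChange {jM : M →ₗ[R] M'} {jN : N →ₗ[R] N'}
    (hM : IsBaseChange S jM) (hN : IsBaseChange S jN)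
    (l : M →ₗ[R] N) (l' : M' →ₗ[S] N') (hc : ∀ m, l' (jM m) = jN (l m))
    (hl' : Function.Bijective l') : Function.Bijective l := by
  haveI : Nontrivial R := (algebraMap R S).domain_nontrivial
  -- the base change of `l` is bijective
  have hsq : hN.equiv.toLinearMap ∘ₗ (l.baseChange S) = l' ∘ₗ hM.equiv.toLinearMap := by
    apply TensorProduct.AlgebraTensorModule.ext
    intro s m
    show hN.equiv ((l.baseChange S) (s ⊗ₜ m)) = l' (hM.equiv (s ⊗ₜ m))
    rw [LinearMap.baseChange_tmul, IsBaseChange.equiv_tmul, IsBaseChange.equiv_tmul, map_smul, hc]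
  have h1 : Function.Bijective (l.baseChange S) := by
    have h2 : Function.Bijective (hN.equiv.toLinearMap ∘ₗ (l.baseChange S)) := by
      rw [hsq]
      exact hl'.comp hM.equiv.bijective
    have h3 : (l.baseChange S : S ⊗[R] M → S ⊗[R] N) =
        hN.equiv.symm ∘ (hN.equiv.toLinearMap ∘ₗ (l.baseChange S)) := by
      funext w
      exact (hN.equiv.symm_apply_apply _).symm
    rw [h3]
    exact hN.equiv.symm.bijective.comp h2
  -- equality of ranks
  have hr : Module.finrank R M = Module.finrank R N := by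
    have e := (LinearEquiv.ofBijective (l.baseChange S) h1).finrank_eq
    rwa [Module.finrank_baseChange, Module.finrank_baseChange] at e
  let e0 : N ≃ₗ[R] M := (LinearEquiv.ofFinrankEq M N hr).symm
  let g : M →ₗ[R] M := e0.toLinearMap ∘ₗ l
  have hg : Function.Bijective (g.baseChange S) := by
    have : g.baseChange S = (e0.toLinearMap.baseChange S) ∘ₗ (l.baseChange S) :=
      LinearMap.baseChange_comp _ _
    rw [this]
    have he0 : Function.Bijective (e0.toLinearMap.baseChange S) :=
      (e0.baseChange R S _ _).bijective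
    exact he0.comp h1
  have hdet : IsUnit (LinearMap.det (g.baseChange S)) :=
    LinearEquiv.isUnit_det' (LinearEquiv.ofBijective (g.baseChange S) hg)
  rw [LinearMap.det_baseChange] at hdet
  have hdet' : IsUnit (LinearMap.det g) := isUnit_of_map_unit (algebraMap R S) _ hdet
  have hgb : Function.Bijective g := by
    have := (LinearMap.equivOfIsUnitDet hdet').bijective
    have e : (LinearMap.equivOfIsUnitDet hdet' : M → M) = g :=
      funext (LinearMap.equivOfIsUnitDet_apply hdet')
    rwa [e] at this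
  have hl : (l : M → N) = e0.symm ∘ g := by
    funext m
    exact (e0.symm_apply_apply (l m)).symm
  rw [hl]
  exact e0.symm.bijective.comp hgb

end Alg

open HomLinH8 RefHullH8 QcqsLoc SecOrdH8 QCohExtn Groth.Agent.Lib.StalkFam

section Open

variable {X : Scheme.{u}} {A B : X.Modules}

/-- the locus where a section of the sheaf Hom has bijective stalk maps is open -/
theorem isOpen_bijective_locus (hA : CohB1.IsFP A) (hB : CohB1.IsFP B) {W : X.Opens}
    (l : Γ(RefHull.homSh A B, W)) :
    IsOpen {x : X | ∃ hx : x ∈ W, Function.Bijective (l.1 ⟨x, hx⟩)} := by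
  rw [isOpen_iff_forall_mem_open]
  rintro x₀ ⟨hx₀, hbij⟩
  -- the inverse stalk map extends to a neighbourhood
  let h : RefHull.StalkHom B A x₀ :=
    ((LinearEquiv.ofBijective (l.1 ⟨x₀, hx₀⟩) hbij).symm : _ →ₗ[X.presheaf.stalk x₀] _)
  obtain ⟨γ, hγ⟩ := evalStalk_surjective B A hB x₀ h
  obtain ⟨V, hxV, l', rfl⟩ := TopCat.Presheaf.exists_germ_eq (F := (RefHull.homSh B A).presheaf) γ
  rw [RefHull.evalStalk_germ] at hγ
  have hN : x₀ ∈ W ⊓ V := ⟨hx₀, hxV⟩
  let lN : Γ(RefHull.homSh A B, W ⊓ V) := resSec inf_le_left l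
  let lN' : Γ(RefHull.homSh B A, W ⊓ V) := resSec inf_le_right l'
  -- `l' ∘ l = id` near `x₀`
  have hc1 : (RefHull.homSh A A).presheaf.germ (W ⊓ V) x₀ hN (compSec lN lN') =
      (RefHull.homSh A A).presheaf.germ (W ⊓ V) x₀ hN (idSec A (W ⊓ V)) := by
    apply evalStalk_injective A A inferInstance x₀
    rw [RefHull.evalStalk_germ, RefHull.evalStalk_germ, compSec_apply, idSec_apply]
    show (l'.1 ⟨x₀, hxV⟩).comp (l.1 ⟨x₀, hx₀⟩) = LinearMap.id
    rw [hγ]
    exact LinearMap.ext fun a => (LinearEquiv.ofBijective (l.1 ⟨x₀, hx₀⟩) hbij).symm_apply_apply a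
  have hc2 : (RefHull.homSh B B).presheaf.germ (W ⊓ V) x₀ hN (compSec lN' lN) =
      (RefHull.homSh B B).presheaf.germ (W ⊓ V) x₀ hN (idSec B (W ⊓ V)) := by
    apply evalStalk_injective B B inferInstance x₀
    rw [RefHull.evalStalk_germ, RefHull.evalStalk_germ, compSec_apply, idSec_apply]
    show (l.1 ⟨x₀, hx₀⟩).comp (l'.1 ⟨x₀, hxV⟩) = LinearMap.id
    rw [hγ]
    exact LinearMap.ext fun b => (LinearEquiv.ofBijective (l.1 ⟨x₀, hx₀⟩) hbij).apply_symm_apply b
  obtain ⟨N₁, hN₁, hx₁, e₁⟩ := (germ_eq_iff _ x₀ hN _ _).mp hc1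
  obtain ⟨N₂, hN₂, hx₂, e₂⟩ := (germ_eq_iff _ x₀ hN _ _).mp hc2
  refine ⟨(N₁ ⊓ N₂ : X.Opens), ?_, (N₁ ⊓ N₂).isOpen, ⟨hx₁, hx₂⟩⟩
  intro x hx
  have hxW : x ∈ W := (hN₁ hx.1).1
  have hxV' : x ∈ V := (hN₁ hx.1).2
  refine ⟨hxW, ?_⟩
  have k1 : (l'.1 ⟨x, hxV'⟩).comp (l.1 ⟨x, hxW⟩) = LinearMap.id := by
    have := congrArg (fun s : Γ(RefHull.homSh A A, N₁) => s.1 ⟨x, hx.1⟩) e₁
    exact this
  have k2 : (l.1 ⟨x, hxW⟩).comp (l'.1 ⟨x, hxV'⟩) = LinearMap.id := by
    have := congrArg (fun s : Γ(RefHull.homSh B B, N₂) => s.1 ⟨x, hx.2⟩) e₂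
    exact this
  exact Function.bijective_iff_has_inverse.mpr
    ⟨l'.1 ⟨x, hxV'⟩, fun a => LinearMap.congr_fun k1 a, fun b => LinearMap.congr_fun k2 b⟩

end Open

section Restrict

variable {X : Scheme.{u}} (A B : X.Modules)

open Groth.Agent.Lib.LocHomStalkH4 Groth.Agent.Lib.GlueTwo

/-- a section of the sheaf Hom over `U` with bijective stalk maps gives an isomorphism of the
restrictions to `U` -/
theorem nonempty_iso_restrict_of_bijective (U : X.Opens) (l : Γ(RefHull.homSh A B, U))
    (hl : ∀ y, Function.Bijective (l.1 y)) :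
    Nonempty ((Scheme.Modules.restrictFunctor U.ι).obj A ≅
      (Scheme.Modules.restrictFunctor U.ι).obj B) := by
  obtain ⟨φ, hφ⟩ := exists_hom_restrict_of_sec A B U l
  obtain ⟨ψ, hψ⟩ := exists_hom_restrict_of_sec B A U (invSec l hl)
  refine ⟨⟨φ, ψ, ?_, ?_⟩⟩
  · apply Scheme.Modules.hom_ext
    intro O
    ext s
    show ψ.app O (φ.app O s) = s
    rw [hφ, hψ]
    exact evSec_res_inv (U.ι_image_le O) l hl s
  · apply Scheme.Modules.hom_ext
    intro O
    ext s
    show φ.app O (ψ.app O s) = s
    rw [hφ, hψ]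
    exact evSec_res_inv' (U.ι_image_le O) l hl s

end Restrict

end Groth.Agent.Lib.NbhdIsoH2
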