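import Mathlib
import Groth.Prelude
import Groth.Agent.Lib.NbhdIso1_helper2
import Groth.Agent.Lib.CBCAsm5_helper2
import Groth.Agent.Lib.StalkFam2_helper2
import Groth.Agent.Lib.LimHomGlue_helper2

/-!
# Isomorphisms near a fibre, II: auxiliary lemmas (helper2)

* `exists_frac_evalRes`: every element of `κ(s)` is a fraction of values of sections over an affine
  open.
* `exists_denominator_of_isBC`: clearing denominators in a base change to such a field.
* `equiv₀_smul`: the identification `H^0 = Γ` is linear over the global functions.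
* `stalkMapₗ_bijective_of_iso`, `bijective_of_pbSec_bijective`, `fibModIsoRes_cUV`.
APPEND-ONLY once landed.
-/

set_option autoImplicit false
set_option maxHeartbeats 1600000
set_option linter.style.haveILetI false
universe u
open CategoryTheory CategoryTheory.Limits AlgebraicGeometry TopologicalSpace Opposite TensorProduct

namespace Groth.Agent.Lib.NbhdIsoH2

open Groth.Agent.Lib.FlatBCH2 Groth.Agent.Lib.CBCH2 Groth.Agent.Lib.BCLocH2
  Groth.Agent.Lib.PullFnH2 QcqsLoc SecOrdH8 FLFH8 QCohExtn RefHullH8 HomLinH8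
  Groth.Agent.Lib.StalkFam

section Frac

variable {S : Scheme.{u}} {T : S.Opens}

/-- every element of the residue field at a point of an affine open is a fraction of values of
sections -/
theorem exists_frac_evalRes (hT : IsAffineOpen T) (s : S) (hs : s ∈ T) (k : S.residueField s) :
    ∃ a b : Γ(S, T), evalRes T s hs b ≠ 0 ∧ evalRes T s hs b * k = evalRes T s hs a := by
  letI := S.presheaf.algebra_section_stalk ⟨s, hs⟩
  haveI := hT.isLocalization_stalk ⟨s, hs⟩
  obtain ⟨q, rfl⟩ := S.residue_surjective s k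
  obtain ⟨⟨a, b⟩, h⟩ := IsLocalization.surj (hT.primeIdealOf ⟨s, hs⟩).asIdeal.primeCompl q
  have hu : IsUnit (algebraMap Γ(S, T) (S.presheaf.stalk s) b) :=
    IsLocalization.map_units (S.presheaf.stalk s) b
  have e1 : ∀ c : Γ(S, T), evalRes T s hs c =
      (S.residue s).hom (algebraMap Γ(S, T) (S.presheaf.stalk s) c) := fun c => rfl
  refine ⟨a, b, ?_, ?_⟩
  · rw [e1]
    exact (hu.map (S.residue s).hom).ne_zero
  · rw [e1, e1, ← h, map_mul, mul_comm]

end Frac

section Den

variable {A K : Type*} [CommRing A] [Field K] [Algebra A K] {P P' : Type*} [AddCommGroup P]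
  [AddCommGroup P'] [Module A P] [Module K P']

/-- clearing denominators in a base change to a field of fractions of a quotient -/
theorem exists_denominator_of_isBC {t : P →+ P'} (h : IsBC A K t)
    (hK : ∀ k : K, ∃ a b : A, algebraMap A K b ≠ 0 ∧ algebraMap A K b * k = algebraMap A K a)
    (ζ : P') : ∃ b : A, algebraMap A K b ≠ 0 ∧ ∃ x : P, t x = algebraMap A K b • ζ := by
  have hζ : ζ ∈ Submodule.span K (Set.range t) := by
    rw [IsBC.span_eq_top h]
    trivial
  induction hζ using Submodule.span_induction with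
  | mem v hv =>
    obtain ⟨x, rfl⟩ := hv
    exact ⟨1, by rw [map_one]; exact one_ne_zero, x, by rw [map_one, one_smul]⟩
  | zero => exact ⟨1, by rw [map_one]; exact one_ne_zero, 0, by rw [map_zero, smul_zero]⟩
  | add v w _ _ hv hw =>
    obtain ⟨b₁, hb₁, x₁, h₁⟩ := hv
    obtain ⟨b₂, hb₂, x₂, h₂⟩ := hw
    refine ⟨b₁ * b₂, by rw [map_mul]; exact mul_ne_zero hb₁ hb₂, b₂ • x₁ + b₁ • x₂, ?_⟩
    rw [map_add, h.semilinear, h.semilinear, h₁, h₂, smul_smul, smul_smul, map_mul, smul_add,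
      mul_comm (algebraMap A K b₂) (algebraMap A K b₁)]
  | smul k v _ hv =>
    obtain ⟨b, hb, x, hx⟩ := hv
    obtain ⟨a, b', hb', hab⟩ := hK k
    refine ⟨b' * b, by rw [map_mul]; exact mul_ne_zero hb' hb, a • x, ?_⟩
    rw [h.semilinear, hx, smul_smul, smul_smul, map_mul, ← hab]
    congr 1
    ring

end Den

section Smul

variable {Z : Scheme.{u}}

lemma resTop_top (r : Coh.Γtop Z) : Coh.resTop Z (op ⊤) r = r := by
  show (Z.ringCatSheaf.obj.map (homOfLE (le_top (a := (⊤ : Z.Opens)))).op).hom r = r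
  have h : (homOfLE (le_top (a := (⊤ : Z.Opens)))) = 𝟙 _ := Subsingleton.elim _ _
  rw [h, op_id, CategoryTheory.Functor.map_id]
  rfl

/-- the identification of `H^0` with the global sections is linear over the global functions -/
lemma equiv₀_smul (N : Z.Modules) (r : Coh.Γtop Z) (ζ : Coh.HH Z N 0) :
    Sheaf.H.equiv₀ (Coh.toAb N) (isTerminalTop : IsTerminal (⊤ : Z.Opens)) (r • ζ) =
      @HSMul.hSMul (Z.ringCatSheaf.obj.obj (op ⊤)) (N.val.obj (op ⊤)) (N.val.obj (op ⊤)) _ r
        (Sheaf.H.equiv₀ (Coh.toAb N) (isTerminalTop : IsTerminal (⊤ : Z.Opens)) ζ) := by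
  have h1 := (Sheaf.H.equiv₀_naturality (hT := (isTerminalTop : IsTerminal (⊤ : Z.Opens)))
    (Coh.smulAb N r) ζ).symm
  refine h1.trans ?_
  rw [Coh.smulAb_app, resTop_top]

end Smul

section StalkIso

variable {X : Scheme.{u}}

lemma stalkMapₗ_inv_hom {A B : X.Modules} (e : A ≅ B) (x : X) (a : A.presheaf.stalk x) :
    RefHull.stalkMapₗ e.inv x (RefHull.stalkMapₗ e.hom x a) = a := by
  obtain ⟨U, hx, m, rfl⟩ := TopCat.Presheaf.exists_germ_eq (F := A.presheaf) a
  rw [RefHull.stalkMapₗ_germ, RefHull.stalkMapₗ_germ, ← comp_app', e.hom_inv_id]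
  rfl

theorem stalkMapₗ_bijective_of_iso {A B : X.Modules} (e : A ≅ B) (x : X) :
    Function.Bijective (RefHull.stalkMapₗ e.hom x) :=
  Function.bijective_iff_has_inverse.mpr
    ⟨RefHull.stalkMapₗ e.inv x, fun a => stalkMapₗ_inv_hom e x a,
      fun b => stalkMapₗ_inv_hom e.symm x b⟩

end StalkIso

section PbBij

variable {X Y : Scheme.{u}} (f : X ⟶ Y)

/-- if the pullback of a family of stalk maps between finite locally free modules is bijective at
`x`, the family is bijective at `f x` -/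
theorem bijective_of_pbSec_bijective {A B : Y.Modules} [A.IsQuasicoherent] [B.IsQuasicoherent]
    (hA : FlatMod.IsFinLocFree A) (hB : FlatMod.IsFinLocFree B) {Q : Y.Opens}
    (l : Γ(RefHull.homSh A B, Q)) (x : (f ⁻¹ᵁ Q : X.Opens))
    (h : Function.Bijective ((pbSec f l).1 x)) :
    Function.Bijective (l.1 ⟨f x.1, x.2⟩) := by
  haveI hfpA := isFinitePresentation_of_finLocFree A hA
  haveI hfpB := isFinitePresentation_of_finLocFree B hB
  haveI : Module.Free (Y.presheaf.stalk (f x.1)) (A.presheaf.stalk (f x.1)) :=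
    free_stalk_of_finLocFree A hA (f x.1)
  haveI : Module.Finite (Y.presheaf.stalk (f x.1)) (A.presheaf.stalk (f x.1)) :=
    SuppStalkH8.finite_stalk A (f x.1)
  haveI : Module.Free (Y.presheaf.stalk (f x.1)) (B.presheaf.stalk (f x.1)) :=
    free_stalk_of_finLocFree B hB (f x.1)
  haveI : Module.Finite (Y.presheaf.stalk (f x.1)) (B.presheaf.stalk (f x.1)) :=
    SuppStalkH8.finite_stalk B (f x.1)
  letI alg : Algebra (Y.presheaf.stalk (f x.1)) (X.presheaf.stalk x.1) :=
    (f.stalkMap x.1).hom.toAlgebra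
  letI mA : Module (Y.presheaf.stalk (f x.1))
      (((Scheme.Modules.pullback f).obj A).presheaf.stalk x.1) :=
    Module.compHom _ (f.stalkMap x.1).hom
  haveI tA : IsScalarTower (Y.presheaf.stalk (f x.1)) (X.presheaf.stalk x.1)
      (((Scheme.Modules.pullback f).obj A).presheaf.stalk x.1) :=
    IsScalarTower.of_algebraMap_smul fun _ _ => rfl
  letI mB : Module (Y.presheaf.stalk (f x.1))
      (((Scheme.Modules.pullback f).obj B).presheaf.stalk x.1) :=
    Module.compHom _ (f.stalkMap x.1).hom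
  haveI tB : IsScalarTower (Y.presheaf.stalk (f x.1)) (X.presheaf.stalk x.1)
      (((Scheme.Modules.pullback f).obj B).presheaf.stalk x.1) :=
    IsScalarTower.of_algebraMap_smul fun _ _ => rfl
  haveI : IsLocalHom (algebraMap (Y.presheaf.stalk (f x.1)) (X.presheaf.stalk x.1)) := by
    show IsLocalHom (f.stalkMap x.1).hom
    infer_instance
  have ibcA := PBH8.isBaseChange_cStalk f A x.1
  have ibcB := PBH8.isBaseChange_cStalk f B x.1
  exact bijective_of_isBaseChange ibcA ibcB (l.1 ⟨f x.1, x.2⟩) ((pbSec f l).1 x)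
    (fun a => pbSec_apply f l x a) h

end PbBij

section FibIso

variable {X S : Scheme.{u}} (f : X ⟶ S) (T : S.Opens) (s : S) (hs : s ∈ T)

/-- the identification of the two restrictions to the fibre, on canonical sections -/
theorem fibModIsoRes_cUV [IsAffine (T : Scheme.{u})] (M : X.Modules) (t' : Γ(M, f ⁻¹ᵁ T))
    (hle : (f ⁻¹ᵁ T).ι ''ᵁ ⊤ ≤ f ⁻¹ᵁ T)
    (h₂ : (⊤ : (f.fiber s).Opens) ≤ (f.fiberι s) ⁻¹ᵁ (f ⁻¹ᵁ T)) :
    (fibModIsoRes f T s hs M).hom.app ⊤
      (PBH8.cUV (gy f T s hs) (M.restrict (f ⁻¹ᵁ T).ι) (U := ⊤) (V := ⊤) le_top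
        (show Γ(M.restrict (f ⁻¹ᵁ T).ι, ⊤) from M.presheaf.map (homOfLE hle).op t')) =
      PBH8.cUV (f.fiberι s) M h₂ t' := by
  have h₁ : (⊤ : (f ⁻¹ᵁ T).toScheme.Opens) ≤ (f ⁻¹ᵁ T).ι ⁻¹ᵁ (f ⁻¹ᵁ T) := fun x _ => x.2
  have h₀ : (⊤ : (f.fiber s).Opens) ≤ (gy f T s hs) ⁻¹ᵁ ⊤ := le_top
  have hb : ((Scheme.Modules.restrictFunctorIsoPullback (f ⁻¹ᵁ T).ι).hom.app M).app ⊤
      (show Γ(M.restrict (f ⁻¹ᵁ T).ι, ⊤) from M.presheaf.map (homOfLE hle).op t') =
        PBH8.cUV (f ⁻¹ᵁ T).ι M h₁ t' := by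
    rw [cUV_openImm_eq]
  show (fibModIso f T s hs M).hom.app ⊤
    (((Scheme.Modules.pullback (gy f T s hs)).map
      ((Scheme.Modules.restrictFunctorIsoPullback (f ⁻¹ᵁ T).ι).hom.app M)).app ⊤
      (PBH8.cUV (gy f T s hs) (M.restrict (f ⁻¹ᵁ T).ι) h₀
        (show Γ(M.restrict (f ⁻¹ᵁ T).ι, ⊤) from M.presheaf.map (homOfLE hle).op t'))) = _
  rw [PBH8.cUV_naturality, hb]
  have := Groth.Agent.Lib.LimMod.pbIso_cUV (gy f T s hs) (f ⁻¹ᵁ T).ι (f.fiberι s)
    (gy_ι f T s hs) M h₀ h₁ h₂ t'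
  simpa [DescH8.pbIso, fibModIso] using this

end FibIso

end Groth.Agent.Lib.NbhdIsoH2
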