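import Mathlib
import Groth.Prelude
import Groth.Agent.Lib.OmegaFitt_helper4

/-!
# The stalk of `Ω_{X/S}` at a point vanishes iff `f` is unramified at the point (helper4).
APPEND-ONLY once landed.
-/

set_option autoImplicit false
set_option linter.style.haveILetI false

universe u

open CategoryTheory CategoryTheory.Limits AlgebraicGeometry Opposite TopologicalSpace TensorProduct
open AlgebraicGeometry.Scheme.Modules

namespace Groth.Agent.Lib.OmegaStalkH4

open Groth.Agent.Lib.OmegaAffH4 Groth.Agent.Lib.OmegaSecH4 Groth.Agent.Lib.QCohLoc_helper4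
open Groth.Agent.Lib.OmegaFittH4 Groth.Agent.Lib.WeakAssSch_helper4

variable {X S : Scheme.{u}} (f : X ⟶ S)

theorem germ_comp {W : X.Opens} {V : S.Opens} (e : W ≤ f ⁻¹ᵁ V) {x : X} (hx : x ∈ W) :
    f.appLE V W e ≫ X.presheaf.germ W x hx =
      S.presheaf.germ V (f x) (e hx) ≫ f.stalkMap x := by
  rw [Scheme.Hom.germ_stalkMap, Scheme.Hom.appLE, Category.assoc, TopCat.Presheaf.germ_res]

set_option maxHeartbeats 1600000 in
/-- The stalk of `Ω_{X/S}` at `x` vanishes iff the stalk map at `x` is formally unramified. -/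
theorem stalk_iff_fu [QuasiSeparated f] {W : X.Opens} (hW : IsAffineOpen W) {V : S.Opens}
    (hV : IsAffineOpen V) (e : W ≤ f ⁻¹ᵁ V) {x : X} (hx : x ∈ W) :
    letI := (f.stalkMap x).hom.toAlgebra
    Subsingleton ((Omega.sheaf f).presheaf.stalk x) ↔
      Algebra.FormallyUnramified (S.presheaf.stalk (f x)) (X.presheaf.stalk x) := by
  haveI := isQuasicoherent_omega f
  letI algAB : Algebra Γ(S, V) Γ(X, W) := (f.appLE V W e).hom.toAlgebra
  letI algBO : Algebra Γ(X, W) (X.presheaf.stalk x) := X.presheaf.algebra_section_stalk ⟨x, hx⟩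
  letI algAO : Algebra Γ(S, V) (X.presheaf.stalk x) :=
    (f.appLE V W e ≫ X.presheaf.germ W x hx).hom.toAlgebra
  haveI towABO : IsScalarTower Γ(S, V) Γ(X, W) (X.presheaf.stalk x) :=
    IsScalarTower.of_algebraMap_eq' rfl
  letI algAOs : Algebra Γ(S, V) (S.presheaf.stalk (f x)) :=
    S.presheaf.algebra_section_stalk ⟨f x, e hx⟩
  letI algOsO : Algebra (S.presheaf.stalk (f x)) (X.presheaf.stalk x) :=
    (f.stalkMap x).hom.toAlgebra
  haveI towAOsO : IsScalarTower Γ(S, V) (S.presheaf.stalk (f x)) (X.presheaf.stalk x) :=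
    IsScalarTower.of_algebraMap_eq' (congrArg CommRingCat.Hom.hom (germ_comp f e hx))
  haveI locO : IsLocalization.AtPrime (X.presheaf.stalk x) (hW.primeIdealOf ⟨x, hx⟩).asIdeal :=
    hW.isLocalization_stalk ⟨x, hx⟩
  haveI locOs : IsLocalization.AtPrime (S.presheaf.stalk (f x))
      (hV.primeIdealOf ⟨f x, e hx⟩).asIdeal := hV.isLocalization_stalk ⟨f x, e hx⟩
  haveI locM : IsLocalizedModule (hW.primeIdealOf ⟨x, hx⟩).asIdeal.primeCompl
      (KaehlerDifferential.map Γ(S, V) Γ(S, V) Γ(X, W) (X.presheaf.stalk x)) :=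
    KaehlerDifferential.isLocalizedModule_map Γ(S, V) Γ(X, W) (X.presheaf.stalk x)
      (hW.primeIdealOf ⟨x, hx⟩).asIdeal.primeCompl
  obtain ⟨L⟩ := omegaSections f hW hV e
  have hloc := locOn_of_isQuasicoherent (Omega.sheaf f) hW
  -- step 1: stalk zero iff Ω[O/A] zero
  have step1 : Subsingleton ((Omega.sheaf f).presheaf.stalk x) ↔
      Subsingleton (Ω[(X.presheaf.stalk x)⁄Γ(S, V)]) := by
    constructor
    · intro hs
      have key : ∀ y : Ω[(X.presheaf.stalk x)⁄Γ(S, V)], y = 0 := by
        intro y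
        obtain ⟨⟨ω, s⟩, hy⟩ := IsLocalizedModule.surj
          (hW.primeIdealOf ⟨x, hx⟩).asIdeal.primeCompl
          (KaehlerDifferential.map Γ(S, V) Γ(S, V) Γ(X, W) (X.presheaf.stalk x)) y
        have hω : KaehlerDifferential.map Γ(S, V) Γ(S, V) Γ(X, W) (X.presheaf.stalk x) ω = 0 := by
          refine (IsLocalizedModule.eq_zero_iff (hW.primeIdealOf ⟨x, hx⟩).asIdeal.primeCompl
            (KaehlerDifferential.map Γ(S, V) Γ(S, V) Γ(X, W) (X.presheaf.stalk x))).mpr ?_
          have hgerm : (Omega.sheaf f).presheaf.germ W x hx (L.symm ω) = 0 :=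
            Subsingleton.elim _ _
          obtain ⟨g, hxg, hg⟩ := hloc.exists_smul_eq_zero_of_germ_eq_zero hW hx (L.symm ω) hgerm
          refine ⟨⟨g, (notMem_primeIdealOf_iff hW hx g).mpr hxg⟩, ?_⟩
          show g • ω = 0
          have h1 : L (g • L.symm ω) = g • ω := by
            rw [_root_.map_smul, L.apply_symm_apply]
          rw [← h1, hg, map_zero]
        exact IsLocalizedModule.smul_injective
          (KaehlerDifferential.map Γ(S, V) Γ(S, V) Γ(X, W) (X.presheaf.stalk x)) s
          ((hy.trans hω).trans (smul_zero s).symm)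
      exact ⟨fun y₁ y₂ => (key y₁).trans (key y₂).symm⟩
    · intro hs
      have key : ∀ z : (Omega.sheaf f).presheaf.stalk x, z = 0 := by
        intro z
        obtain ⟨g, t, hxg, ht⟩ := hloc.exists_germ_eq_smul hW hx z
        have hmap : KaehlerDifferential.map Γ(S, V) Γ(S, V) Γ(X, W) (X.presheaf.stalk x) (L t) = 0 :=
          Subsingleton.elim _ _
        obtain ⟨⟨c, hc⟩, hcω⟩ := (IsLocalizedModule.eq_zero_iff
          (hW.primeIdealOf ⟨x, hx⟩).asIdeal.primeCompl
          (KaehlerDifferential.map Γ(S, V) Γ(S, V) Γ(X, W) (X.presheaf.stalk x))).mp hmap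
        have hcω' : c • L t = 0 := hcω
        have hct : c • t = 0 := L.injective (by rw [_root_.map_smul, map_zero]; exact hcω')
        have hxc : x ∈ X.basicOpen c := (notMem_primeIdealOf_iff hW hx c).mp hc
        have h1 : X.presheaf.germ W x hx c • (Omega.sheaf f).presheaf.germ W x hx t = 0 := by
          rw [← germ_smul, hct, map_zero]
        have huc : IsUnit (X.presheaf.germ W x hx c) := (Scheme.mem_basicOpen _ _ _ hx).mp hxc
        have h2 : (Omega.sheaf f).presheaf.germ W x hx t = 0 := huc.smul_eq_zero.mp h1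
        have hug : IsUnit (X.presheaf.germ W x hx g) := (Scheme.mem_basicOpen _ _ _ hx).mp hxg
        exact hug.smul_eq_zero.mp (ht.symm.trans h2)
      exact ⟨fun z₁ z₂ => (key z₁).trans (key z₂).symm⟩
  refine step1.trans ?_
  constructor
  · intro h
    haveI : Algebra.FormallyUnramified Γ(S, V) (X.presheaf.stalk x) := ⟨h⟩
    exact Algebra.FormallyUnramified.of_restrictScalars Γ(S, V) (S.presheaf.stalk (f x))
      (X.presheaf.stalk x)
  · intro h
    haveI := h
    haveI : Algebra.FormallyUnramified Γ(S, V) (S.presheaf.stalk (f x)) :=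
      Algebra.FormallyUnramified.of_isLocalization
        (hV.primeIdealOf ⟨f x, e hx⟩).asIdeal.primeCompl
    haveI : Algebra.FormallyUnramified Γ(S, V) (X.presheaf.stalk x) :=
      Algebra.FormallyUnramified.comp Γ(S, V) (S.presheaf.stalk (f x)) (X.presheaf.stalk x)
    exact Algebra.FormallyUnramified.subsingleton_kaehlerDifferential

set_option maxHeartbeats 1600000 in
theorem fu_stalk_iff [LocallyOfFiniteType f] (x : X) :
    letI := (f.stalkMap x).hom.toAlgebra
    Algebra.FormallyUnramified (S.presheaf.stalk (f x)) (X.presheaf.stalk x) ↔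
      ((IsLocalRing.maximalIdeal (S.presheaf.stalk (f.base x))).map (f.stalkMap x).hom =
          IsLocalRing.maximalIdeal (X.presheaf.stalk x) ∧
        (f.residueFieldMap x).hom.Finite ∧
        @Algebra.IsSeparable (S.residueField (f.base x)) (X.residueField x) _ _
          (f.residueFieldMap x).hom.toAlgebra) := by
  letI alg : Algebra (S.presheaf.stalk (f x)) (X.presheaf.stalk x) :=
    (f.stalkMap x).hom.toAlgebra
  haveI : IsLocalHom (algebraMap (S.presheaf.stalk (f x)) (X.presheaf.stalk x)) :=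
    inferInstanceAs (IsLocalHom (f.stalkMap x).hom)
  haveI : Algebra.EssFiniteType (S.presheaf.stalk (f x)) (X.presheaf.stalk x) :=
    LocallyOfFiniteType.stalkMap f x
  have hEq : (f.residueFieldMap x).hom.toAlgebra =
      (inferInstance : Algebra (IsLocalRing.ResidueField (S.presheaf.stalk (f x)))
        (IsLocalRing.ResidueField (X.presheaf.stalk x))) :=
    Algebra.algebra_ext _ _ fun r => by
      obtain ⟨r, rfl⟩ := IsLocalRing.residue_surjective r
      rfl
  have hSep : @Algebra.IsSeparable (S.residueField (f.base x)) (X.residueField x) _ _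
        (f.residueFieldMap x).hom.toAlgebra ↔
      Algebra.IsSeparable (IsLocalRing.ResidueField (S.presheaf.stalk (f x)))
        (IsLocalRing.ResidueField (X.presheaf.stalk x)) := by
    rw [hEq]
    exact Iff.rfl
  have hFin : (f.residueFieldMap x).hom.Finite ↔
      Module.Finite (IsLocalRing.ResidueField (S.presheaf.stalk (f x)))
        (IsLocalRing.ResidueField (X.presheaf.stalk x)) := by
    unfold RingHom.Finite
    rw [hEq]
    exact Iff.rfl
  rw [Algebra.FormallyUnramified.iff_map_maximalIdeal_eq]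
  constructor
  · rintro ⟨hsep, hmap⟩
    haveI : Algebra.FormallyUnramified (S.presheaf.stalk (f x)) (X.presheaf.stalk x) :=
      Algebra.FormallyUnramified.iff_map_maximalIdeal_eq.mpr ⟨hsep, hmap⟩
    exact ⟨hmap, hFin.mpr inferInstance, hSep.mpr hsep⟩
  · rintro ⟨hmap, -, hsep⟩
    exact ⟨hSep.mp hsep, hmap⟩

theorem main2158 [LocallyOfFiniteType f] [QuasiSeparated f] (x : X) :
    Subsingleton ((Omega.sheaf f).presheaf.stalk x) ↔
      ((IsLocalRing.maximalIdeal (S.presheaf.stalk (f.base x))).map (f.stalkMap x).hom =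
          IsLocalRing.maximalIdeal (X.presheaf.stalk x) ∧
        (f.residueFieldMap x).hom.Finite ∧
        @Algebra.IsSeparable (S.residueField (f.base x)) (X.residueField x) _ _
          (f.residueFieldMap x).hom.toAlgebra) := by
  obtain ⟨V, hV, hfxV, -⟩ := (Opens.isBasis_iff_nbhd.mp S.isBasis_affineOpens)
    (show f x ∈ (⊤ : S.Opens) from trivial)
  obtain ⟨W, hW, hxW, hWV⟩ := (Opens.isBasis_iff_nbhd.mp X.isBasis_affineOpens)
    (show x ∈ f ⁻¹ᵁ V from hfxV)
  exact (stalk_iff_fu f hW hV hWV hxW).trans (fu_stalk_iff f x)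

end Groth.Agent.Lib.OmegaStalkH4
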