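import Mathlib
import Groth.Prelude
import Groth.Agent.Lib.DiffSeq_helper7
import Groth.Agent.Lib.OmegaStalk_helper4
import Groth.Agent.Lib.OmegaFunct_helper4
import Groth.Agent.Lib.OmegaUniv2_helper4
import Groth.Agent.Lib.DegPull3_helper9
import Groth.Agent.Lib.OmDualF_helper9
import Groth.Agent.Lib.DefTrivArt5_helper3
import Groth.Agent.Lib.CurveDeg1_helper9
import Groth.Agent.Lib.NbhdIso2_helper2

/-!
# The Hurwitz formula for a finite separable morphism of regular proper curves (helper9)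

Statement of S11332.  APPEND-ONLY once landed.
-/

set_option autoImplicit false
set_option linter.style.haveILetI false
universe u
open CategoryTheory CategoryTheory.Limits AlgebraicGeometry Opposite TopologicalSpace

namespace Hurwitz

section Generic

variable {X Y : Scheme.{u}} [IsIntegral X] [IsIntegral Y] (f : X ⟶ Y)

/-- if the function field extension is separable, the stalk of `Ω_{X/Y}` at the generic point
vanishes -/
theorem subsingleton_stalk_generic [LocallyOfFiniteType f] [QuasiSeparated f]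
    (e : f (genericPoint X) = genericPoint Y)
    (hsep : letI := ((Y.presheaf.stalkSpecializes (specializes_of_eq e) ≫
        f.stalkMap (genericPoint X)).hom).toAlgebra
      Algebra.IsSeparable Y.functionField X.functionField) :
    Subsingleton ((Omega.sheaf f).presheaf.stalk (genericPoint X)) := by
  obtain ⟨V, hV, hfxV, -⟩ := (Opens.isBasis_iff_nbhd.mp Y.isBasis_affineOpens)
    (show f (genericPoint X) ∈ (⊤ : Y.Opens) from trivial)
  obtain ⟨W, hW, hxW, hWV⟩ := (Opens.isBasis_iff_nbhd.mp X.isBasis_affineOpens)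
    (show genericPoint X ∈ f ⁻¹ᵁ V from hfxV)
  refine (Groth.Agent.Lib.OmegaStalkH4.stalk_iff_fu f hW hV hWV hxW).mpr ?_
  letI a1 : Algebra Y.functionField (Y.presheaf.stalk (f (genericPoint X))) :=
    (Y.presheaf.stalkSpecializes (specializes_of_eq e)).hom.toAlgebra
  letI a2 : Algebra (Y.presheaf.stalk (f (genericPoint X))) (X.presheaf.stalk (genericPoint X)) :=
    (f.stalkMap (genericPoint X)).hom.toAlgebra
  letI a3 : Algebra Y.functionField (X.presheaf.stalk (genericPoint X)) :=
    ((Y.presheaf.stalkSpecializes (specializes_of_eq e) ≫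
        f.stalkMap (genericPoint X)).hom).toAlgebra
  haveI : IsScalarTower Y.functionField (Y.presheaf.stalk (f (genericPoint X)))
      (X.presheaf.stalk (genericPoint X)) := IsScalarTower.of_algebraMap_eq' rfl
  haveI hs : Algebra.IsSeparable Y.functionField (X.presheaf.stalk (genericPoint X)) := hsep
  letI : Field (X.presheaf.stalk (genericPoint X)) := inferInstanceAs (Field X.functionField)
  haveI : Algebra.FormallyUnramified Y.functionField (X.presheaf.stalk (genericPoint X)) :=
    Algebra.FormallyUnramified.of_isSeparable _ _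
  exact Algebra.FormallyUnramified.of_restrictScalars Y.functionField
    (Y.presheaf.stalk (f (genericPoint X))) (X.presheaf.stalk (genericPoint X))

end Generic

section Seq

variable {X Y S : Scheme.{u}} (f : X ⟶ Y) (g : Y ⟶ S)

/-- the first fundamental sequence `f^*Ω_{Y/S} → Ω_{X/S} → Ω_{X/Y} → 0` for the frozen sheaves of
differentials: a map `c₁ : f^*Ω_{Y/S} ⟶ Ω_{X/S}` whose cokernel is `Ω_{X/Y}`; if `c₁ = 0` then
`Ω_{X/S} ≅ Ω_{X/Y}` -/
theorem exists_seq [QuasiSeparated f] [QuasiSeparated g] :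
    ∃ c₁ : (Scheme.Modules.pullback f).obj (Omega.sheaf g) ⟶ Omega.sheaf (f ≫ g),
      Nonempty (cokernel c₁ ≅ Omega.sheaf f) ∧
        (c₁ = 0 → Nonempty (Omega.sheaf (f ≫ g) ≅ Omega.sheaf f)) := by
  have hY := Groth.Agent.Lib.OmegaUniv2H4.main5005 g
  have hX := Groth.Agent.Lib.OmegaUniv2H4.main5005 (f ≫ g)
  have hXY := Groth.Agent.Lib.OmegaUniv2H4.main5005 f
  obtain ⟨c₁, hc₁, -⟩ := Groth.Agent.Lib.OmegaFunctH4.main9370 g (f ≫ g) f (𝟙 S)
    (by rw [Category.comp_id]) _ (OmegaSh.dOmega g) hY _ (OmegaSh.dOmega (f ≫ g))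
  obtain ⟨c₂, hc₂, -⟩ := Groth.Agent.Lib.OmegaFunctH4.main9370 (f ≫ g) f (𝟙 X) g
    (by rw [Category.id_comp]) _ (OmegaSh.dOmega (f ≫ g)) hX _ (OmegaSh.dOmega f)
  obtain ⟨hepi, him⟩ := Groth.Agent.Lib.DiffSeqH7.main5975 g f _ (OmegaSh.dOmega g) hY _
    (OmegaSh.dOmega (f ≫ g)) hX _ (OmegaSh.dOmega f) hXY c₁ hc₁ c₂ hc₂
  haveI := hepi
  set c₂' := (Scheme.Modules.pullbackId X).inv.app (Omega.sheaf (f ≫ g)) ≫ c₂ with hc₂'
  haveI : Epi c₂' := epi_comp _ _
  have w : c₁ ≫ c₂' = 0 := by
    have h1 : (imageSubobject c₁).arrow ≫ c₂' = 0 := by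
      rw [← Subobject.ofLE_arrow him.le, Category.assoc, kernelSubobject_arrow_comp, comp_zero]
    rw [← imageSubobject_arrow_comp c₁, Category.assoc, h1, comp_zero]
  have hex : (ShortComplex.mk c₁ c₂' w).Exact :=
    (ShortComplex.exact_iff_image_eq_kernel _).mpr him
  refine ⟨c₁, ⟨IsColimit.coconePointUniqueUpToIso (colimit.isColimit _) hex.gIsCokernel⟩,
    fun h0 => ?_⟩
  haveI : Mono c₂' := (ShortComplex.exact_iff_mono _ h0).mp hex
  haveI : IsIso c₂' := isIso_of_mono_of_epi c₂'
  exact ⟨asIso c₂'⟩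

theorem exists_seq' [QuasiSeparated f] [QuasiSeparated g] (p : X ⟶ S) (hp : f ≫ g = p) :
    ∃ c₁ : (Scheme.Modules.pullback f).obj (Omega.sheaf g) ⟶ Omega.sheaf p,
      Nonempty (cokernel c₁ ≅ Omega.sheaf f) ∧
        (c₁ = 0 → Nonempty (Omega.sheaf p ≅ Omega.sheaf f)) := by
  subst hp
  exact exists_seq f g

end Seq

section Main

variable (k : Type u) [Field k] [IsAlgClosed k] (X : Scheme.{u}) [X.Over (Spec (CommRingCat.of k))]
  [IsIntegral X] [IsProper (X ↘ Spec (CommRingCat.of k))]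
  (Y : Scheme.{u}) [Y.Over (Spec (CommRingCat.of k))]
  [IsIntegral Y] [IsProper (Y ↘ Spec (CommRingCat.of k))]

/-- **the Hurwitz formula** (statement of S11332) -/
theorem main11332 (hdimX : topologicalKrullDim X = 1)
    (hregX : ∀ x : X, IsRegularLocalRing (X.presheaf.stalk x))
    (hdimY : topologicalKrullDim Y = 1)
    (hregY : ∀ x : Y, IsRegularLocalRing (Y.presheaf.stalk x))
    (f : X ⟶ Y) [IsFinite f]
    (hf : f ≫ (Y ↘ Spec (CommRingCat.of k)) = X ↘ Spec (CommRingCat.of k))
    (e : f (genericPoint X) = genericPoint Y)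
    (hsep : letI := ((Y.presheaf.stalkSpecializes (specializes_of_eq e) ≫
        f.stalkMap (genericPoint X)).hom).toAlgebra
      Algebra.IsSeparable Y.functionField X.functionField) :
    2 * (Curv2.genus k X : ℤ) - 2 =
      (f.residueDegree (genericPoint X) : ℤ) * (2 * (Curv2.genus k Y : ℤ) - 2) +
        (Module.finrank k (Coh.HH X (Omega.sheaf f) 0) : ℤ) := by
  haveI : Smooth (X ↘ Spec (CommRingCat.of k)) :=
    Groth.Agent.Lib.DefTrivArtH3.smooth_of_regular k X _ hregX
  haveI : Smooth (Y ↘ Spec (CommRingCat.of k)) :=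
    Groth.Agent.Lib.DefTrivArtH3.smooth_of_regular k Y _ hregY
  have hΩY := OmDual.isInvertible_Omega k Y hdimY
  have hΩX := OmDual.isInvertible_Omega k X hdimX
  have hdegY := OmDual.deg_Omega k Y hdimY
  have hdegX := OmDual.deg_Omega k X hdimX
  obtain ⟨c₁, ⟨ι⟩, h0⟩ := exists_seq' f (Y ↘ Spec (CommRingCat.of k)) _ hf
  -- `c₁ ≠ 0`
  have hc₁ : c₁ ≠ 0 := by
    intro h
    obtain ⟨ε⟩ := h0 h
    haveI := subsingleton_stalk_generic f e hsep
    have hbij := Groth.Agent.Lib.NbhdIsoH2.stalkMapₗ_bijective_of_iso ε (genericPoint X)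
    haveI : Subsingleton ((Omega.sheaf (X ↘ Spec (CommRingCat.of k))).presheaf.stalk
        (genericPoint X)) := hbij.injective.subsingleton
    have h1 := (FLFH8.free_stalk_of_finLocFreeOfRank _
      (FLFH8.finLocFreeOfRank_one_of_isInvertible hΩX) (genericPoint X)).2
    rw [Module.finrank_zero_of_subsingleton] at h1
    exact zero_ne_one h1
  have hpull := TensH8.isInvertible_pullback f hΩY
  have h1 := CurveDeg.euler_eq_add k X hdimX.le hpull hΩX c₁ hc₁
  have h2 := DegPull.deg_pullback k hdimX hdimY f hf e 1 _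
    (FLFH8.finLocFreeOfRank_one_of_isInvertible hΩY)
  have h3 : Module.finrank k (Coh.HH X (cokernel c₁) 0) =
      Module.finrank k (Coh.HH X (Omega.sheaf f) 0) :=
    (Groth.Agent.HypConn.hhEquivOfIso (A := k) ι 0).finrank_eq
  rw [hdegY] at h2
  unfold Curv2.deg at hdegX h2
  rw [h3] at h1
  linarith

end Main

end Hurwitz
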