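import Mathlib
import Groth.Prelude
import Groth.Agent.Lib.FittInv_helper9
import Groth.Agent.Lib.Hurwitz_helper9

/-!
# `K_X ~ f^* K_Y + R` for a finite separable morphism of regular proper curves (helper9)

Statement of S11357.  APPEND-ONLY once landed.
-/

set_option autoImplicit false
set_option linter.style.haveILetI false
universe u
open CategoryTheory CategoryTheory.Limits AlgebraicGeometry Opposite TopologicalSpace

namespace FittInv

open QcqsLoc QCohExtn SerreCrit GenLocH8 TensH8 Groth.Agent.TensInv CohB1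

section Iso

variable {X : Scheme.{u}}

/-- the linear equivalence on sections induced by an isomorphism of modules -/
noncomputable def secEquiv {F F' : X.Modules} (ι : F ≅ F') (U : X.Opens) :
    Γ(F, U) ≃ₗ[Γ(X, U)] Γ(F', U) where
  toFun := ap ι.hom U
  invFun := ap ι.inv U
  map_add' := map_add _
  map_smul' r m := ap_smul ι.hom r m
  left_inv m := TensH8.ap_inv_hom ι U m
  right_inv m := TensH8.ap_hom_inv ι U m

/-- Fitting ideal sheaves of isomorphic coherent modules agree -/
theorem sheafIdeal_of_iso {F F' : X.Modules} (ι : F ≅ F') (hF : Coh.IsCoh F) (r : ℕ) :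
    Fitt.sheafIdeal F r = Fitt.sheafIdeal F' r := by
  haveI : F.IsQuasicoherent := hF.1
  haveI : SheafOfModules.IsFiniteType (R := X.ringCatSheaf) F := hF.2
  unfold Fitt.sheafIdeal
  congr 1
  funext U
  haveI : Module.Finite Γ(X, U.1) Γ(F, U.1) := QCohFT.finite_of_isFiniteType F U.2
  exact FittH8.fitt_eq_of_linearEquiv (secEquiv ι U.1) r

end Iso

section Main

variable (k : Type u) [Field k] [IsAlgClosed k] (X : Scheme.{u}) [X.Over (Spec (CommRingCat.of k))]
  [IsIntegral X] [IsProper (X ↘ Spec (CommRingCat.of k))]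
  (Y : Scheme.{u}) [Y.Over (Spec (CommRingCat.of k))]
  [IsIntegral Y] [IsProper (Y ↘ Spec (CommRingCat.of k))]

/-- **statement of S11357** -/
theorem main11357 (hdimX : topologicalKrullDim X = 1)
    (hregX : ∀ x : X, IsRegularLocalRing (X.presheaf.stalk x))
    (hdimY : topologicalKrullDim Y = 1)
    (hregY : ∀ x : Y, IsRegularLocalRing (Y.presheaf.stalk x))
    (f : X ⟶ Y) [IsFinite f]
    (hf : f ≫ (Y ↘ Spec (CommRingCat.of k)) = X ↘ Spec (CommRingCat.of k))
    (e : f (genericPoint X) = genericPoint Y)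
    (hsep : letI := ((Y.presheaf.stalkSpecializes (specializes_of_eq e) ≫
        f.stalkMap (genericPoint X)).hom).toAlgebra
      Algebra.IsSeparable Y.functionField X.functionField) :
    Nonempty (CohB1.tensorMod (Omega.sheaf (X ↘ (Spec (CommRingCat.of k))))
        (ClSub.idealMod (Fitt.sheafIdeal (Omega.sheaf f) 0)) ≅
      (Scheme.Modules.pullback f).obj (Omega.sheaf (Y ↘ (Spec (CommRingCat.of k))))) := by
  haveI : Smooth (X ↘ Spec (CommRingCat.of k)) :=
    Groth.Agent.Lib.DefTrivArtH3.smooth_of_regular k X _ hregX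
  haveI : Smooth (Y ↘ Spec (CommRingCat.of k)) :=
    Groth.Agent.Lib.DefTrivArtH3.smooth_of_regular k Y _ hregY
  have hΩY := OmDual.isInvertible_Omega k Y hdimY
  have hΩX := OmDual.isInvertible_Omega k X hdimX
  obtain ⟨c₁, ⟨ι⟩, h0⟩ := Hurwitz.exists_seq' f (Y ↘ Spec (CommRingCat.of k)) _ hf
  have hc₁ : c₁ ≠ 0 := by
    intro h
    obtain ⟨ε⟩ := h0 h
    haveI := Hurwitz.subsingleton_stalk_generic f e hsep
    have hbij := Groth.Agent.Lib.NbhdIsoH2.stalkMapₗ_bijective_of_iso ε (genericPoint X)
    haveI : Subsingleton ((Omega.sheaf (X ↘ Spec (CommRingCat.of k))).presheaf.stalk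
        (genericPoint X)) := hbij.injective.subsingleton
    have h1 := (FLFH8.free_stalk_of_finLocFreeOfRank _
      (FLFH8.finLocFreeOfRank_one_of_isInvertible hΩX) (genericPoint X)).2
    rw [Module.finrank_zero_of_subsingleton] at h1
    exact zero_ne_one h1
  have hpull := TensH8.isInvertible_pullback f hΩY
  haveI : Mono c₁ := CurveDeg.mono_of_ne_zero hpull hΩX c₁ hc₁
  have hQc := CohKerH8.isCoh_cokernel (ProperFinH9.isCoh_of_isInvertible hpull)
    (ProperFinH9.isCoh_of_isInvertible hΩX) c₁
  rw [← sheafIdeal_of_iso ι hQc 0]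
  exact main hpull hΩX c₁

end Main

end FittInv
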