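import Mathlib
import Groth.Prelude
import Groth.Agent.Lib.JacLocus3_helper3
import Groth.Agent.Lib.ExtBC_helper5
import Groth.Agent.Lib.KoszulTop_helper7

/-!
# `Fitt_d Ω = Fitt_0 T¹` for reduced complete intersections over an algebraically closed field
(helper3)
APPEND-ONLY once landed.
-/

set_option autoImplicit false

universe u

open TensorProduct KaehlerDifferential FittH8 CategoryTheory

namespace Groth.Agent.Lib.FittT1H3

section Present

variable {A : Type u} [CommRing A] {n : ℕ} {ι : Type*} (f : ι → MvPolynomial (Fin n) A)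
  {B : Type u} [CommRing B] [Algebra A B] [Algebra (MvPolynomial (Fin n) A) B]
  [IsScalarTower A (MvPolynomial (Fin n) A) B]

/-- The Jacobian presentation of `Ω_{B/A}` for `B = A[x_1..x_n]/(f_j)`. -/
theorem kaehler_presentation
    (hsurj : Function.Surjective (algebraMap (MvPolynomial (Fin n) A) B))
    (hker : RingHom.ker (algebraMap (MvPolynomial (Fin n) A) B) = Ideal.span (Set.range f)) :
    Submodule.span B (Set.range fun i : Fin n =>
      D A B (algebraMap (MvPolynomial (Fin n) A) B (MvPolynomial.X i))) = ⊤ ∧
    Submodule.span B (Set.range fun (j : ι) (i : Fin n) =>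
      algebraMap (MvPolynomial (Fin n) A) B (MvPolynomial.pderiv i (f j))) =
      LinearMap.ker (Fintype.linearCombination B fun i : Fin n =>
        D A B (algebraMap (MvPolynomial (Fin n) A) B (MvPolynomial.X i))) := by
  classical
  let x : Fin n → Ω[B⁄A] := fun i => D A B (algebraMap (MvPolynomial (Fin n) A) B (MvPolynomial.X i))
  let Ψ := (kBasis A n B).equivFun
  have hπ : ∀ z : Fin n → B, Fintype.linearCombination B x z =
      KaehlerDifferential.mapBaseChange A (MvPolynomial (Fin n) A) B (Ψ.symm z) := by
    intro z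
    rw [Fintype.linearCombination_apply, Module.Basis.equivFun_symm_apply, map_sum]
    apply Finset.sum_congr rfl
    intro i _
    rw [map_smul, mapBaseChange_kBasis]
  have hx : Submodule.span B (Set.range x) = ⊤ := by
    rw [← Fintype.range_linearCombination, LinearMap.range_eq_top]
    intro ω
    obtain ⟨y, rfl⟩ := KaehlerDifferential.mapBaseChange_surjective A (MvPolynomial (Fin n) A) B
      hsurj ω
    refine ⟨Ψ y, ?_⟩
    rw [hπ, LinearEquiv.symm_apply_apply]
  let c : ι → Fin n → B := fun j i =>
    algebraMap (MvPolynomial (Fin n) A) B (MvPolynomial.pderiv i (f j))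
  have hS : Submodule.map Ψ.toLinearMap (Submodule.span B (Set.range fun j => ((1 : B)
        ⊗ₜ[MvPolynomial (Fin n) A] D A (MvPolynomial (Fin n) A) (f j)))) =
      Submodule.span B (Set.range c) := by
    rw [Submodule.map_span, ← Set.range_comp]
    congr 2
    funext j
    exact kBasis_equivFun_tmul A n B (f j)
  have hc : Submodule.span B (Set.range c) = LinearMap.ker (Fintype.linearCombination B x) := by
    ext z
    rw [LinearMap.mem_ker, hπ, ← LinearMap.mem_ker,
      Groth.Agent.Lib.JacLocusH3.ker_mapBaseChange_eq f hsurj hker, ← hS]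
    constructor
    · rintro ⟨y, hy, rfl⟩
      rw [LinearEquiv.coe_coe, LinearEquiv.symm_apply_apply]
      exact hy
    · intro hz
      exact ⟨Ψ.symm z, hz, by rw [LinearEquiv.coe_coe, LinearEquiv.apply_symm_apply]⟩
  exact ⟨hx, hc⟩

end Present

section Lift

variable {A' A : Type u} [CommRing A'] [CommRing A] [Algebra A' A]

/-- The residue field of the contraction of `q` receives `A`. -/
theorem exists_residue_lift (hsurj : Function.Surjective (algebraMap A' A)) (q : Ideal A)
    [q.IsPrime] :
    ∃ θ : A →+* (q.comap (algebraMap A' A)).ResidueField,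
      (∀ x, θ (algebraMap A' A x) = algebraMap A' (q.comap (algebraMap A' A)).ResidueField x) ∧
        RingHom.ker θ = q := by
  set q' : Ideal A' := q.comap (algebraMap A' A) with hq'
  have hle : RingHom.ker (algebraMap A' A) ≤ RingHom.ker (algebraMap A' q'.ResidueField) := by
    intro x hx
    rw [RingHom.mem_ker, Ideal.algebraMap_residueField_eq_zero]
    show algebraMap A' A x ∈ q
    rw [RingHom.mem_ker.mp hx]
    exact q.zero_mem
  let θ : A →+* q'.ResidueField :=
    RingHom.liftOfSurjective (algebraMap A' A) hsurj ⟨algebraMap A' q'.ResidueField, hle⟩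
  have hθ : ∀ x, θ (algebraMap A' A x) = algebraMap A' q'.ResidueField x :=
    fun x => RingHom.liftOfRightInverse_comp_apply _ _ _ _ x
  refine ⟨θ, hθ, ?_⟩
  ext y
  obtain ⟨x, rfl⟩ := hsurj y
  rw [RingHom.mem_ker, hθ, Ideal.algebraMap_residueField_eq_zero]
  rfl

end Lift

section Main

open MvPolynomial

variable (k : Type u) [Field k] [IsAlgClosed k] (r c : ℕ)
  (B : Type u) [CommRing B] [Algebra k B] [IsReduced B]
  (φ : MvPolynomial (Fin r) k →ₐ[k] B) (hφ : Function.Surjective φ)
  (a : Fin c → MvPolynomial (Fin r) k)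
  (ha : RingTheory.Sequence.IsRegular (MvPolynomial (Fin r) k) (List.ofFn a))
  (hker : RingHom.ker φ.toRingHom = Ideal.span (Set.range a))

include hφ ha hker in
theorem main16187 :
    Fitt.ideal B (KaehlerDifferential k B) (r - c) =
      Fitt.ideal B (Abelian.Ext.{u} (ModuleCat.of B (KaehlerDifferential k B))
        (ModuleCat.of B B) 1) 0 := by
  classical
  letI : Algebra (MvPolynomial (Fin r) k) B := φ.toRingHom.toAlgebra
  haveI : IsScalarTower k (MvPolynomial (Fin r) k) B :=
    IsScalarTower.of_algebraMap_eq' φ.comp_algebraMap.symm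
  have hsurj : Function.Surjective (algebraMap (MvPolynomial (Fin r) k) B) := hφ
  have hker' : RingHom.ker (algebraMap (MvPolynomial (Fin r) k) B) = Ideal.span (Set.range a) :=
    hker
  obtain ⟨hx, hc⟩ := kaehler_presentation a hsurj hker'
  let x : Fin r → Ω[B⁄k] := fun i => D k B (algebraMap (MvPolynomial (Fin r) k) B (X i))
  let cmat : Fin c → Fin r → B := fun j i =>
    algebraMap (MvPolynomial (Fin r) k) B (pderiv i (a j))
  let σ : (Fin c → B) →ₗ[B] (Fin r → B) := Fintype.linearCombination B cmat
  let p : (Fin r → B) →ₗ[B] Ω[B⁄k] := Fintype.linearCombination B x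
  have hp : Function.Surjective p := by
    rw [← LinearMap.range_eq_top, Fintype.range_linearCombination]
    exact hx
  have hrk : LinearMap.range σ = LinearMap.ker p := by
    rw [Fintype.range_linearCombination]
    exact hc
  have hexact : Function.Exact σ p := by
    intro z
    rw [← LinearMap.mem_ker, ← hrk]
    rfl
  -- injectivity of `σ`
  have hreg : LCI.IsKoszulRegularSeq (MvPolynomial (Fin r) k) (List.ofFn a) :=
    (Groth.Agent.Lib.KoszulTopH7.koszulRegular (List.ofFn a) ha.toIsWeaklyRegular).1
  haveI : Algebra.FiniteType k B :=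
    Algebra.FiniteType.of_surjective φ hφ
  haveI : Algebra.Smooth k (MvPolynomial (Fin r) k) := ⟨inferInstance, inferInstance⟩
  have hmin : ∀ (𝔭 : Ideal B), 𝔭 ∈ minimalPrimes B → ∀ v : Fin c → B, σ v = 0 → ∀ j, v j ∈ 𝔭 := by
    intro 𝔭 h𝔭 v hv j
    haveI : 𝔭.IsPrime := h𝔭.1.1
    haveI : Ring.KrullDimLE 0 (Localization.AtPrime 𝔭) := .of_isLocalization 𝔭 h𝔭 _
    haveI : IsReduced (Localization.AtPrime 𝔭) := inferInstance
    have hfield : IsField (Localization.AtPrime 𝔭) := Ring.KrullDimLE.isField_of_isReduced
    have hsm : Algebra.IsSmoothAt k 𝔭 := by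
      letI : Field (Localization.AtPrime 𝔭) := hfield.toField
      exact Algebra.FormallySmooth.of_perfectField
    have hli := (Groth.Agent.Lib.JacLocusH3.isSmoothAt_iff_li hsurj 𝔭 a hker' hreg).mp hsm
    set q' : Ideal (MvPolynomial (Fin r) k) :=
      𝔭.comap (algebraMap (MvPolynomial (Fin r) k) B) with hq'
    obtain ⟨θ, hθ, hkθ⟩ := exists_residue_lift hsurj 𝔭
    let M : Fin c → Fin r → q'.ResidueField := fun j i =>
      algebraMap (MvPolynomial (Fin r) k) q'.ResidueField (pderiv i (a j))
    have hrow : LinearIndependent q'.ResidueField M := by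
      have h4 := hli.map'
        ((mvPolynomialBasis k (Fin r)).baseChange q'.ResidueField).equivFun.toLinearMap
        (LinearEquiv.ker _)
      have h5 : (⇑((mvPolynomialBasis k (Fin r)).baseChange
          q'.ResidueField).equivFun.toLinearMap ∘ fun j =>
          (1 : q'.ResidueField) ⊗ₜ[MvPolynomial (Fin r) k]
            D k (MvPolynomial (Fin r) k) (a j)) = M := by
        funext j
        funext i
        rw [Function.comp_apply, LinearEquiv.coe_coe, Module.Basis.equivFun_apply,
          Module.Basis.baseChange_repr_tmul, mvPolynomialBasis_repr_apply, Algebra.smul_def,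
          mul_one]
      rw [h5] at h4
      exact h4
    have hzero : ∑ j, θ (v j) • M j = 0 := by
      funext i
      rw [Finset.sum_apply, Pi.zero_apply]
      have h6 : (σ v) i = 0 := by rw [hv]; rfl
      have h7 : (σ v) i = ∑ j, v j * cmat j i := by
        show (Fintype.linearCombination B cmat v) i = _
        rw [Fintype.linearCombination_apply, Finset.sum_apply]
        rfl
      rw [h7] at h6
      have h8 := congrArg θ h6
      rw [map_sum, map_zero] at h8
      rw [← h8]
      apply Finset.sum_congr rfl
      intro j _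
      rw [Pi.smul_apply, smul_eq_mul, map_mul]
      congr 1
      exact (hθ _).symm
    have h9 := Fintype.linearIndependent_iff.mp hrow (fun j => θ (v j)) hzero j
    rw [← hkθ, RingHom.mem_ker]
    exact h9
  have hσ : Function.Injective σ := by
    rw [injective_iff_map_eq_zero]
    intro v hv
    funext j
    have h1 : v j ∈ sInf (minimalPrimes B) := by
      rw [Ideal.mem_sInf]
      intro 𝔭 h𝔭
      exact hmin 𝔭 h𝔭 v hv j
    have h2 : sInf (minimalPrimes B) = (⊥ : Ideal B) := by
      rw [minimalPrimes, Ideal.sInf_minimalPrimes]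
      exact nilradical_eq_zero B
    rw [h2] at h1
    exact h1
  -- Fitting ideals
  let e1 : ((Fin r → B) ⧸ LinearMap.range σ) ≃ₗ[B] Ω[B⁄k] :=
    (Submodule.quotEquivOfEq _ _ hrk).trans (p.quotKerEquivOfSurjective hp)
  obtain ⟨e2⟩ := Groth.Agent.ExtBC.ext1 (R := B) σ p hσ hexact hp B
  have hdual : LinearMap.range σ.dualMap = LinearMap.range (LinearMap.lcomp B B σ) := rfl
  have h1 := FittH8.fitt_eq_of_linearEquiv e1 (r - c)
  have h2 := (FittH8.fitt_coker_dual_shift (R := B) c r σ hσ).1 0
  rw [Nat.add_zero] at h2
  have h3 := FittH8.fitt_eq_of_linearEquiv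
    ((Submodule.quotEquivOfEq _ _ hdual).trans e2.symm) 0
  rw [← h1, h2, h3]

end Main

end Groth.Agent.Lib.FittT1H3
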