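import Mathlib

namespace Groth.Agent.Lib.FivePts

open Polynomial

universe u

variable {K : Type u} [Field K]

/-- the 3×3 minors -/
noncomputable def mnr (b : Fin 5 → (Fin 3 → K)) (j : Fin 5) (i : Fin 4) : K :=
  Matrix.det (Matrix.of fun l : Fin 3 => b (j.succAbove (i.succAbove l)))

theorem mnr_ne_zero (b : Fin 5 → (Fin 3 → K))
    (h3 : ∀ i j l : Fin 5, i ≠ j → j ≠ l → i ≠ l → LinearIndependent K ![b i, b j, b l])
    (j : Fin 5) (i : Fin 4) : mnr b j i ≠ 0 := by
  unfold mnr
  have hinj : ∀ a c : Fin 3,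
      j.succAbove (i.succAbove a) = j.succAbove (i.succAbove c) → a = c :=
    fun a c h => Fin.succAbove_right_inj.mp (Fin.succAbove_right_inj.mp h)
  have h01 : j.succAbove (i.succAbove 0) ≠ j.succAbove (i.succAbove 1) :=
    fun h => absurd (hinj 0 1 h) (by decide)
  have h12 : j.succAbove (i.succAbove 1) ≠ j.succAbove (i.succAbove 2) :=
    fun h => absurd (hinj 1 2 h) (by decide)
  have h02 : j.succAbove (i.succAbove 0) ≠ j.succAbove (i.succAbove 2) :=
    fun h => absurd (hinj 0 2 h) (by decide)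
  have hli := h3 _ _ _ h01 h12 h02
  have heq : (fun l : Fin 3 => b (j.succAbove (i.succAbove l))) =
      ![b (j.succAbove (i.succAbove 0)), b (j.succAbove (i.succAbove 1)),
        b (j.succAbove (i.succAbove 2))] := by
    funext l; fin_cases l <;> rfl
  have hrows : LinearIndependent K
      (Matrix.of fun l : Fin 3 => b (j.succAbove (i.succAbove l))).row := by
    show LinearIndependent K (fun l : Fin 3 => b (j.succAbove (i.succAbove l)))
    rw [heq]; exact hli
  exact ((Matrix.isUnit_iff_isUnit_det _).mp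
    (Matrix.linearIndependent_rows_iff_isUnit.mp hrows)).ne_zero

/-- the points -/
def pt (b : Fin 5 → (Fin 3 → K)) (x : K) (j : Fin 5) : Fin 4 → K :=
  Fin.cons (x ^ (j : ℕ)) (b j)

theorem det_eq (b : Fin 5 → (Fin 3 → K)) (x : K) (j : Fin 5) :
    Matrix.det (Matrix.of fun i : Fin 4 => pt b x (j.succAbove i)) =
      ∑ i : Fin 4, (-1) ^ (i : ℕ) * x ^ ((j.succAbove i : Fin 5) : ℕ) * mnr b j i := by
  rw [Matrix.det_succ_column_zero]
  apply Finset.sum_congr rfl
  intro i _
  have e1 : (Matrix.of fun i : Fin 4 => pt b x (j.succAbove i)) i 0 =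
      x ^ ((j.succAbove i : Fin 5) : ℕ) := by
    simp [pt]
  have e2 : (Matrix.of fun i : Fin 4 => pt b x (j.succAbove i)).submatrix i.succAbove Fin.succ
      = Matrix.of fun l : Fin 3 => b (j.succAbove (i.succAbove l)) := by
    ext l c
    simp [pt]
  rw [e1, e2]; rfl

noncomputable def P (b : Fin 5 → (Fin 3 → K)) (j : Fin 5) : K[X] :=
  ∑ i : Fin 4, C ((-1) ^ (i : ℕ) * mnr b j i) * X ^ ((j.succAbove i : Fin 5) : ℕ)

theorem eval_P (b : Fin 5 → (Fin 3 → K)) (x : K) (j : Fin 5) :
    (P b j).eval x = Matrix.det (Matrix.of fun i : Fin 4 => pt b x (j.succAbove i)) := by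
  rw [det_eq, P, Polynomial.eval_finset_sum]
  apply Finset.sum_congr rfl
  intro i _
  rw [eval_mul, eval_C, eval_pow, eval_X]
  ring

theorem P_ne_zero (b : Fin 5 → (Fin 3 → K))
    (h3 : ∀ i j l : Fin 5, i ≠ j → j ≠ l → i ≠ l → LinearIndependent K ![b i, b j, b l])
    (j : Fin 5) : P b j ≠ 0 := by
  intro h
  have hc : (P b j).coeff ((j.succAbove 0 : Fin 5) : ℕ) = mnr b j 0 := by
    rw [P, Polynomial.finset_sum_coeff]
    rw [Finset.sum_eq_single (0 : Fin 4)]
    · rw [coeff_C_mul, coeff_X_pow, if_pos rfl]; simp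
    · intro i _ hi
      rw [coeff_C_mul, coeff_X_pow, if_neg, mul_zero]
      intro heq
      apply hi
      have h1 : j.succAbove 0 = j.succAbove i := Fin.ext heq
      exact (Fin.succAbove_right_inj.mp h1).symm
    · intro h0; exact absurd (Finset.mem_univ _) h0
  rw [h, coeff_zero] at hc
  exact mnr_ne_zero b h3 j 0 hc.symm

theorem main (K : Type u) [Field K] [CharZero K]
    (G : MvPolynomial (Fin 3) K) (F : MvPolynomial (Fin 4) K)
    (hF : F = MvPolynomial.rename Fin.succ G)
    (b : Fin 5 → (Fin 3 → K)) (hb : ∀ j : Fin 5, MvPolynomial.eval (b j) G = 0)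
    (h3 : ∀ i j l : Fin 5, i ≠ j → j ≠ l → i ≠ l → LinearIndependent K ![b i, b j, b l]) :
    ∃ p : Fin 5 → (Fin 4 → K), (∀ j : Fin 5, MvPolynomial.eval (p j) F = 0) ∧
      ∀ j : Fin 5, LinearIndependent K (fun i : Fin 4 => p (j.succAbove i)) := by
  haveI : Infinite K := Infinite.of_injective (Nat.cast : ℕ → K) Nat.cast_injective
  have hQ : (∏ j : Fin 5, P b j) ≠ 0 :=
    Finset.prod_ne_zero_iff.mpr (fun j _ => P_ne_zero b h3 j)
  obtain ⟨x, hx⟩ : ∃ x : K, (∏ j : Fin 5, P b j).eval x ≠ 0 := by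
    by_contra hcon
    push_neg at hcon
    apply hQ
    apply Polynomial.eq_zero_of_infinite_isRoot
    have hset : {x | IsRoot (∏ j : Fin 5, P b j) x} = Set.univ := by
      ext x; simp [IsRoot, hcon x]
    rw [hset]; exact Set.infinite_univ
  refine ⟨pt b x, ?_, ?_⟩
  · intro j
    rw [hF, MvPolynomial.eval_rename]
    have hcomp : pt b x j ∘ Fin.succ = b j := by
      funext c; simp [pt]
    rw [hcomp]; exact hb j
  · intro j
    have hdet : Matrix.det (Matrix.of fun i : Fin 4 => pt b x (j.succAbove i)) ≠ 0 := by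
      rw [← eval_P]
      intro h0
      apply hx
      rw [Polynomial.eval_prod]
      exact Finset.prod_eq_zero (Finset.mem_univ j) h0
    exact Matrix.linearIndependent_rows_of_det_ne_zero hdet

end Groth.Agent.Lib.FivePts
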