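import Mathlib
import Groth.Agent.Lib.AffLift_helper7

/-!
# Averaging lifts over a finite group of invertible order (helper7)

* `avg_ringHom`: ring homomorphisms `φ g : A → C` that agree modulo an ideal `J` with `J * J = 0`
  average to a ring homomorphism when `|G|` is invertible in `C`.
* `avg_lift`: the scheme version: lifts `F g : T ⟶ U` of `a : T₀ ⟶ U` along a square zero
  thickening `T₀ ⟶ T` of affine schemes average to a `G`-fixed lift.
-/

set_option autoImplicit false
universe u v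
open CategoryTheory CategoryTheory.Limits AlgebraicGeometry

namespace Groth.Agent.Lib.FixSmH7

open Groth.Agent.Lib.AffLiftH7 Groth.Agent.Lib.WeilSchH7

lemma avg_aux {C : Type*} [CommRing C] {G : Type*} [Fintype G] (x y : G → C) (u : C)
    (hu : u * ((Fintype.card G : ℕ) : C) = 1)
    (h : ∀ k, ((u * ∑ g, x g) - x k) * ((u * ∑ g, y g) - y k) = 0) :
    u * ∑ g, x g * y g = (u * ∑ g, x g) * (u * ∑ g, y g) := by
  have hsum : ∑ k, ((u * ∑ g, x g) - x k) * ((u * ∑ g, y g) - y k) = 0 :=
    Finset.sum_eq_zero (fun k _ => h k)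
  have hexp : ∑ k, ((u * ∑ g, x g) - x k) * ((u * ∑ g, y g) - y k)
      = ((Fintype.card G : ℕ) : C) * ((u * ∑ g, x g) * (u * ∑ g, y g))
        - (u * ∑ g, x g) * ∑ k, y k - (∑ k, x k) * (u * ∑ g, y g) + ∑ k, x k * y k := by
    have hk : ∀ k, ((u * ∑ g, x g) - x k) * ((u * ∑ g, y g) - y k)
        = (u * ∑ g, x g) * (u * ∑ g, y g) - (u * ∑ g, x g) * y k - x k * (u * ∑ g, y g)
          + x k * y k := fun k => by ring
    rw [Finset.sum_congr rfl (fun k _ => hk k), Finset.sum_add_distrib, Finset.sum_sub_distrib,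
      Finset.sum_sub_distrib, Finset.sum_const, Finset.card_univ, nsmul_eq_mul,
      ← Finset.mul_sum, ← Finset.sum_mul]
  rw [hexp] at hsum
  linear_combination u * hsum - (u * ∑ g, x g) * (u * ∑ g, y g) * hu

theorem avg_ringHom {A C : Type*} [CommRing A] [CommRing C] {G : Type*} [Fintype G]
    (φ : G → (A →+* C)) (J : Ideal C) (hJ : ∀ x ∈ J, ∀ y ∈ J, x * y = 0)
    (hφ : ∀ g h a, φ g a - φ h a ∈ J) (u : C) (hu : u * ((Fintype.card G : ℕ) : C) = 1) :
    ∃ ψ : A →+* C, ∀ a, ψ a = u * ∑ g, φ g a := by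
  have hmem : ∀ a k, (u * ∑ g, φ g a) - φ k a ∈ J := by
    intro a k
    have h1 : (u * ∑ g, φ g a) - φ k a = u * ∑ g, (φ g a - φ k a) := by
      rw [Finset.sum_sub_distrib, Finset.sum_const, Finset.card_univ, nsmul_eq_mul]
      linear_combination (φ k a) * hu
    rw [h1]
    exact J.mul_mem_left u (J.sum_mem (fun g _ => hφ g k a))
  refine ⟨{ toFun := fun a => u * ∑ g, φ g a
            map_one' := ?_
            map_mul' := ?_
            map_zero' := ?_
            map_add' := ?_ }, fun a => rfl⟩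
  · simp only [map_one, Finset.sum_const, Finset.card_univ, nsmul_eq_mul, mul_one]
    exact hu
  · intro a b
    simp only [map_mul]
    exact avg_aux (fun g => φ g a) (fun g => φ g b) u hu
      (fun k => hJ _ (hmem a k) _ (hmem b k))
  · simp only [map_zero, Finset.sum_const_zero, mul_zero]
  · intro a b
    simp only [map_add, Finset.sum_add_distrib, mul_add]

/-- Averaging lifts along a square-zero thickening of affine schemes. -/
theorem avg_lift {T₀ T U V : Scheme.{u}} [IsAffine U] [IsAffine V] (ι : T₀ ⟶ T) (hι : IsThick ι)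
    {G : Type v} [Group G] [Fintype G]
    (F : G → (T ⟶ U)) (a : T₀ ⟶ U) (ha : ∀ g, ι ≫ F g = a)
    (f : U ⟶ V) (b : T ⟶ V) (hb : ∀ g, F g ≫ f = b)
    (τ : G → (U ⟶ U)) (hτ : ∀ g h, F g ≫ τ h = F (h * g))
    (w : Γ(T, ⊤)) (hw : w * ((Fintype.card G : ℕ) : Γ(T, ⊤)) = 1) :
    ∃ c' : T ⟶ U, ι ≫ c' = a ∧ c' ≫ f = b ∧ ∀ h, c' ≫ τ h = c' := by
  have hιF : ∀ g x, ι.appTop.hom ((F g).appTop.hom x) = a.appTop.hom x := fun g x => by
    rw [← appTop_comp_apply, ha g]
  obtain ⟨ψ, hψ⟩ := avg_ringHom (fun g => (F g).appTop.hom) (RingHom.ker ι.appTop.hom)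
    (fun x hx y hy => hι.2 x y ((RingHom.mem_ker).mp hx) ((RingHom.mem_ker).mp hy))
    (fun g h x => by rw [RingHom.mem_ker, map_sub, hιF, hιF, sub_self]) w hw
  obtain ⟨c', hc'⟩ := exists_hom_appTop (Y := T) (T := U) (CommRingCat.ofHom ψ)
  have hc'app : ∀ x, c'.appTop.hom x = w * ∑ g, (F g).appTop.hom x := fun x => by
    rw [hc']; exact hψ x
  refine ⟨c', ?_, ?_, ?_⟩
  · apply ext_of_isAffine
    apply CommRingCat.hom_ext
    apply RingHom.ext
    intro x
    have key : ι.appTop.hom w * ((Fintype.card G : ℕ) : Γ(T₀, ⊤)) = 1 := by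
      rw [← map_natCast ι.appTop.hom, ← map_mul, hw, map_one]
    rw [appTop_comp_apply, hc'app, map_mul, map_sum]
    simp only [hιF]
    rw [Finset.sum_const, Finset.card_univ, nsmul_eq_mul, ← mul_assoc, key, one_mul]
  · apply ext_of_isAffine
    apply CommRingCat.hom_ext
    apply RingHom.ext
    intro r
    rw [appTop_comp_apply, hc'app]
    have h1 : ∀ g, (F g).appTop.hom (f.appTop.hom r) = b.appTop.hom r := fun g => by
      rw [← appTop_comp_apply, hb g]
    simp only [h1]
    rw [Finset.sum_const, Finset.card_univ, nsmul_eq_mul, ← mul_assoc, hw, one_mul]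
  · intro h
    apply ext_of_isAffine
    apply CommRingCat.hom_ext
    apply RingHom.ext
    intro x
    rw [appTop_comp_apply, hc'app, hc'app]
    have h1 : ∀ g, (F g).appTop.hom ((τ h).appTop.hom x) = (F (h * g)).appTop.hom x :=
      fun g => by rw [← appTop_comp_apply, hτ g h]
    simp only [h1]
    congr 1
    exact Equiv.sum_comp (Equiv.mulLeft h) (fun g => (F g).appTop.hom x)

end Groth.Agent.Lib.FixSmH7
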