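import Mathlib
import Groth.Agent.Lib.LimDiag_helper7

/-!
# The fixed locus of a finite group acting on a separated scheme is closed (helper7)

* `eq_iff`: the equalizer of `𝟙` and an `S`-endomorphism `σ` of a separated `S`-scheme as a
  closed subscheme.
* `exists_fixed_closed`: the common fixed locus of finitely many `S`-endomorphisms.
* `closed_lfp`: a fixed point scheme (in the sense of the universal property over `S`) of a finite
  group acting on a separated `S`-scheme locally of finite type is a closed subscheme, locally of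
  finite presentation over the scheme.
-/

set_option autoImplicit false
universe u v
open CategoryTheory CategoryTheory.Limits AlgebraicGeometry

namespace Groth.Agent.Lib.FixSmH7

open Groth.Agent.Lib.LimDiagH7

section Eq

variable {X S : Scheme.{u}} (p : X ⟶ S) (σ : X ⟶ X) (hσ : σ ≫ p = p)

/-- The graph of an `S`-endomorphism. -/
noncomputable def graph : X ⟶ pullback p p :=
  pullback.lift (𝟙 X) σ (by rw [Category.id_comp, hσ])

@[reassoc]
lemma graph_fst : graph p σ hσ ≫ pullback.fst p p = 𝟙 X := pullback.lift_fst _ _ _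

@[reassoc]
lemma graph_snd : graph p σ hσ ≫ pullback.snd p p = σ := pullback.lift_snd _ _ _

lemma eqIncl_comp :
    pullback.snd (pullback.diagonal p) (graph p σ hσ) ≫ σ =
      pullback.snd (pullback.diagonal p) (graph p σ hσ) := by
  have h := pullback.condition (f := pullback.diagonal p) (g := graph p σ hσ)
  have h1 : pullback.fst (pullback.diagonal p) (graph p σ hσ) =
      pullback.snd (pullback.diagonal p) (graph p σ hσ) := by
    have := congrArg (fun k => k ≫ pullback.fst p p) h
    simp only [Category.assoc, pullback.diagonal_fst, Category.comp_id, graph_fst] at this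
    exact this
  have h2 : pullback.fst (pullback.diagonal p) (graph p σ hσ) =
      pullback.snd (pullback.diagonal p) (graph p σ hσ) ≫ σ := by
    have := congrArg (fun k => k ≫ pullback.snd p p) h
    simp only [Category.assoc, pullback.diagonal_snd, Category.comp_id, graph_snd] at this
    exact this
  rw [← h2, h1]

lemma eq_iff {T : Scheme.{u}} (t : T ⟶ X) :
    t ≫ σ = t ↔ ∃ l : T ⟶ pullback (pullback.diagonal p) (graph p σ hσ),
      l ≫ pullback.snd (pullback.diagonal p) (graph p σ hσ) = t := by
  constructor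
  · intro h
    refine ⟨pullback.lift t t ?_, pullback.lift_snd _ _ _⟩
    apply pullback.hom_ext
    · rw [Category.assoc, Category.assoc, pullback.diagonal_fst, graph_fst]
    · rw [Category.assoc, Category.assoc, pullback.diagonal_snd, graph_snd, Category.comp_id, h]
  · rintro ⟨l, rfl⟩
    rw [Category.assoc, eqIncl_comp]

end Eq

theorem exists_fixed_closed {X S : Scheme.{u}} (p : X ⟶ S) [IsSeparated p]
    [LocallyOfFiniteType p] {G : Type v} (σ : G → (X ⟶ X)) (hσ : ∀ g, σ g ≫ p = p)
    (s : Finset G) :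
    ∃ (V : Scheme.{u}) (j : V ⟶ X), IsClosedImmersion j ∧ LocallyOfFinitePresentation j ∧
      ∀ (T : Scheme.{u}) (t : T ⟶ X), (∀ g ∈ s, t ≫ σ g = t) ↔ ∃ l : T ⟶ V, l ≫ j = t := by
  classical
  induction s using Finset.induction_on with
  | empty =>
    exact ⟨X, 𝟙 X, inferInstance, inferInstance, fun T t =>
      ⟨fun _ => ⟨t, Category.comp_id t⟩, fun _ g hg => absurd hg (Finset.notMem_empty g)⟩⟩
  | insert g s hgs ih =>
    obtain ⟨V, j, hj1, hj2, hj3⟩ := ih
    have he1 : IsClosedImmersion
        (pullback.snd (pullback.diagonal p) (graph p (σ g) (hσ g))) := inferInstance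
    have he2 : LocallyOfFinitePresentation
        (pullback.snd (pullback.diagonal p) (graph p (σ g) (hσ g))) :=
      MorphismProperty.pullback_snd _ _ (lfp_diagonal p)
    refine ⟨pullback j (pullback.snd (pullback.diagonal p) (graph p (σ g) (hσ g))),
      pullback.fst _ _ ≫ j, inferInstance, inferInstance, ?_⟩
    intro T t
    constructor
    · intro h
      obtain ⟨l1, h1⟩ := (eq_iff p (σ g) (hσ g) t).mp (h g (Finset.mem_insert_self g s))
      obtain ⟨l2, h2⟩ := (hj3 T t).mp (fun g' hg' => h g' (Finset.mem_insert_of_mem hg'))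
      exact ⟨pullback.lift l2 l1 (by rw [h1, h2]), by rw [pullback.lift_fst_assoc, h2]⟩
    · rintro ⟨l, hl⟩ g' hg'
      rcases Finset.mem_insert.mp hg' with rfl | hg'
      · exact (eq_iff p (σ g') (hσ g') t).mpr ⟨l ≫ pullback.snd _ _, by
          rw [Category.assoc, ← pullback.condition]; exact hl⟩
      · exact (hj3 T t).mpr ⟨l ≫ pullback.fst _ _, by rw [Category.assoc]; exact hl⟩ g' hg'

theorem closed_lfp {S : Scheme.{u}} (X : Over S) [LocallyOfFiniteType X.hom]
    [IsSeparated X.hom] (G : Type v) [Group G] [Finite G] (ρ : G →* Aut X)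
    (Z : Over S) (ι : Z ⟶ X) (hι : ∀ g : G, ι ≫ (ρ g).hom = ι)
    (hZ : ∀ (T : Over S) (t : T ⟶ X),
      (∀ g : G, t ≫ (ρ g).hom = t) ↔ ∃! t' : T ⟶ Z, t' ≫ ι = t) :
    IsClosedImmersion ι.left ∧ LocallyOfFinitePresentation ι.left := by
  classical
  have := Fintype.ofFinite G
  obtain ⟨V, j, hj1, hj2, hj3⟩ := exists_fixed_closed X.hom
    (fun g : G => (ρ g).hom.left) (fun g => Over.w (ρ g).hom) Finset.univ
  have hj3' : ∀ (T : Scheme.{u}) (t : T ⟶ X.left),
      (∀ g : G, t ≫ (ρ g).hom.left = t) ↔ ∃ l : T ⟶ V, l ≫ j = t := by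
    intro T t
    rw [← hj3 T t]
    exact ⟨fun h g _ => h g, fun h g => h g (Finset.mem_univ g)⟩
  let VS : Over S := Over.mk (j ≫ X.hom)
  let jS : VS ⟶ X := Over.homMk j rfl
  have hjS : ∀ g, jS ≫ (ρ g).hom = jS := by
    intro g
    apply Over.OverMorphism.ext
    exact (hj3' V j).mpr ⟨𝟙 V, Category.id_comp j⟩ g
  obtain ⟨u, hu, -⟩ := (hZ VS jS).mp hjS
  obtain ⟨w, hw⟩ := (hj3' Z.left ι.left).mp (fun g => congrArg CommaMorphism.left (hι g))
  have hwS : w ≫ VS.hom = Z.hom := by
    show w ≫ j ≫ X.hom = Z.hom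
    rw [← Category.assoc, hw, Over.w ι]
  let wS : Z ⟶ VS := Over.homMk w hwS
  have h1 : wS ≫ u = 𝟙 Z := by
    obtain ⟨z, _, hz⟩ := (hZ Z ι).mp hι
    have e1 : (wS ≫ u) ≫ ι = ι := by
      rw [Category.assoc, hu]
      apply Over.OverMorphism.ext
      exact hw
    rw [hz (wS ≫ u) e1, hz (𝟙 Z) (Category.id_comp ι)]
  have hmono : Mono j := inferInstance
  have h2 : u.left ≫ w = 𝟙 V := by
    apply (cancel_mono j).mp
    rw [Category.assoc, hw]
    exact (congrArg CommaMorphism.left hu).trans (Category.id_comp j).symm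
  have hwiso : IsIso w := ⟨u.left, congrArg CommaMorphism.left h1, h2⟩
  rw [← hw]
  exact ⟨inferInstance, inferInstance⟩

end Groth.Agent.Lib.FixSmH7
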