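import Mathlib
import Groth.Agent.Lib.FSmoothIff_helper7
import Groth.Agent.Lib.FixSmAlg_helper7
import Groth.Agent.Lib.FixSmGeom1_helper7

/-!
# Fixed points of a finite group of invertible order on a smooth scheme are smooth (helper7)

* `local_lift`: `G`-invariant local lifts along first order thickenings for a smooth separated
  morphism with a `G`-action, `|G|` invertible on the base.
* `main`: the fixed point scheme is a closed subscheme, smooth and of finite presentation.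
-/

set_option autoImplicit false
universe u v
open CategoryTheory CategoryTheory.Limits AlgebraicGeometry

namespace Groth.Agent.Lib.FixSmH7

open Groth.Agent.Lib.FormalEtale_helper7 Groth.Agent.Lib.Thickening_helper7
open Groth.Agent.Lib.UnivThickSch1_helper7 Groth.Agent.Lib.AffLiftH7

theorem local_lift {S Xl : Scheme.{u}} (f : Xl ⟶ S) [Smooth f] [IsSeparated f]
    {G : Type v} [Group G] [Fintype G]
    (σ : G → (Xl ⟶ Xl)) (hσiso : ∀ g, IsIso (σ g)) (hσf : ∀ g, σ g ≫ f = f)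
    (hσmul : ∀ g h, σ g ≫ σ h = σ (h * g))
    (hG : IsUnit ((Fintype.card G : ℕ) : Γ(S, ⊤)))
    {T T₀ : Scheme.{u}} (i : T₀ ⟶ T) (hi : MoreMor.IsFirstOrderThickening i)
    (b : T ⟶ S) (aX : T₀ ⟶ Xl) (haσ : ∀ g, aX ≫ σ g = aX) (comm : aX ≫ f = i ≫ b) (t : T) :
    ∃ (D : T.Opens) (bD : D.toScheme ⟶ Xl), t ∈ D ∧ bD ≫ f = D.ι ≫ b ∧
      (i ∣_ D) ≫ bD = (i ⁻¹ᵁ D).ι ≫ aX ∧ ∀ g, bD ≫ σ g = bD := by
  classical
  have hci : IsClosedImmersion i := hi.1.1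
  have hsurj : Surjective i := hi.1.2
  obtain ⟨t₀, rfl⟩ := i.surjective t
  have hbt : b (i t₀) = f (aX t₀) := by
    have := congrArg (fun g : T₀ ⟶ S => g t₀) comm
    simpa using this.symm
  have haσpt : ∀ g, σ g (aX t₀) = aX t₀ := by
    intro g
    have := congrArg (fun k : T₀ ⟶ Xl => k t₀) (haσ g)
    simpa using this
  obtain ⟨_, ⟨(V : S.Opens), hV, rfl⟩, hxV, -⟩ :=
    S.isBasis_affineOpens.exists_subset_of_mem_open (Set.mem_univ (f (aX t₀))) isOpen_univ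
  obtain ⟨_, ⟨(U₁ : Xl.Opens), hU₁, rfl⟩, hxU₁, hU₁V : U₁ ≤ f ⁻¹ᵁ V⟩ :=
    Xl.isBasis_affineOpens.exists_subset_of_mem_open hxV (f ⁻¹ᵁ V).isOpen
  -- a `G`-stable affine neighbourhood
  have hmemU : ∀ x : Xl, x ∈ (⨅ g : G, σ g ⁻¹ᵁ U₁ : Xl.Opens) ↔ ∀ g, σ g x ∈ U₁ := by
    intro x
    rw [← SetLike.mem_coe, TopologicalSpace.Opens.coe_iInf, Set.mem_iInter]
    exact Iff.rfl
  have hσV : ∀ g (x : Xl), f (σ g x) = f x := by
    intro g x
    have := congrArg (fun k : Xl ⟶ S => k x) (hσf g)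
    simpa using this
  have hpreV : ∀ g, σ g ⁻¹ᵁ U₁ ≤ f ⁻¹ᵁ V := by
    intro g x hx
    have h2 : f (σ g x) ∈ V := hU₁V hx
    show f x ∈ V
    rw [← hσV g x]; exact h2
  have hUV : (⨅ g : G, σ g ⁻¹ᵁ U₁ : Xl.Opens) ≤ f ⁻¹ᵁ V := (iInf_le _ 1).trans (hpreV 1)
  have hUaff : IsAffineOpen (⨅ g : G, σ g ⁻¹ᵁ U₁ : Xl.Opens) := by
    have hdiag : IsAffineHom (pullback.diagonal f) := inferInstance
    have hinf : InfClosed {O : Xl.Opens | IsAffineOpen O ∧ O ≤ f ⁻¹ᵁ V} := by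
      intro O₁ h₁ O₂ h₂
      exact ⟨isAffineHom_diagonal_iff.mp hdiag V hV O₁ h₁.2 O₂ h₂.2 h₁.1 h₂.1,
        inf_le_left.trans h₁.2⟩
    have hmem : ∀ g : G, σ g ⁻¹ᵁ U₁ ∈ {O : Xl.Opens | IsAffineOpen O ∧ O ≤ f ⁻¹ᵁ V} := by
      intro g
      have := hσiso g
      exact ⟨hU₁.preimage (σ g), hpreV g⟩
    exact (hinf.iInf_mem_of_nonempty hmem).1
  have hstab : ∀ g, (⨅ g : G, σ g ⁻¹ᵁ U₁ : Xl.Opens) ≤ σ g ⁻¹ᵁ (⨅ g : G, σ g ⁻¹ᵁ U₁ : Xl.Opens) := by
    intro g x hx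
    show σ g x ∈ (⨅ g : G, σ g ⁻¹ᵁ U₁ : Xl.Opens)
    rw [hmemU]
    intro h
    have h3 : σ h (σ g x) = σ (h * g) x := by
      rw [← hσmul g h, Scheme.Hom.comp_apply]
    rw [h3]
    exact (hmemU x).mp hx (h * g)
  have hxU : aX t₀ ∈ (⨅ g : G, σ g ⁻¹ᵁ U₁ : Xl.Opens) :=
    (hmemU _).mpr (fun g => by rw [haσpt g]; exact hxU₁)
  generalize (⨅ g : G, σ g ⁻¹ᵁ U₁ : Xl.Opens) = U at hUV hUaff hstab hxU
  obtain ⟨W, hW⟩ := exists_opens_preimage_eq i hi (aX ⁻¹ᵁ U)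
  have htW : i t₀ ∈ W := by
    have h1 : t₀ ∈ i ⁻¹ᵁ W := by rw [hW]; exact hxU
    exact h1
  have htV : i t₀ ∈ b ⁻¹ᵁ V := by
    show b (i t₀) ∈ V
    rw [hbt]; exact hxV
  have htWV : i t₀ ∈ W ⊓ b ⁻¹ᵁ V := ⟨htW, htV⟩
  obtain ⟨_, ⟨(D : T.Opens), hD, rfl⟩, htD, hDW : D ≤ W ⊓ b ⁻¹ᵁ V⟩ :=
    T.isBasis_affineOpens.exists_subset_of_mem_open htWV (W ⊓ b ⁻¹ᵁ V).isOpen
  have hDW1 : D ≤ W := hDW.trans inf_le_left
  have hDV : D ≤ b ⁻¹ᵁ V := hDW.trans inf_le_right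
  have e' : i ⁻¹ᵁ D ≤ aX ⁻¹ᵁ U := by
    rw [← hW]
    exact fun y hy => hDW1 hy
  have : IsAffine D.toScheme := hD
  have : IsAffine (i ⁻¹ᵁ D).toScheme := hD.preimage i
  have : IsAffine U.toScheme := hUaff
  have : IsAffine V.toScheme := hV
  have hfot := fot_morphismRestrict i hi D
  have : IsClosedImmersion (i ∣_ D) := hfot.1.1
  have hthick : IsThick (i ∣_ D) := by
    refine ⟨(IsClosedImmersion.isAffine_surjective_of_isAffine (i ∣_ D)).2, fun x y hx hy => ?_⟩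
    have hk : RingHom.ker ((i ∣_ D).app ⊤).hom ^ 2 = ⊥ :=
      Groth.Agent.Lib.Thickening4_helper7.ker_app_pow_eq_bot (i ∣_ D)
        (by rw [pow_two]; exact hfot.2) ⊤
    have hx' : x ∈ RingHom.ker ((i ∣_ D).app ⊤).hom := (RingHom.mem_ker).mpr hx
    have hy' : y ∈ RingHom.ker ((i ∣_ D).app ⊤).hom := (RingHom.mem_ker).mpr hy
    have hxy : x * y ∈ RingHom.ker ((i ∣_ D).app ⊤).hom ^ 2 := by
      rw [pow_two]
      exact Ideal.mul_mem_mul hx' hy'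
    rw [hk] at hxy
    exact (Ideal.mem_bot).mp hxy
  obtain ⟨c, hc1, hc2⟩ := hasLift_of_smooth (f.resLE V U hUV) _ _ inferInstance inferInstance
    (i ∣_ D) hthick (aX.resLE U (i ⁻¹ᵁ D) e') (b.resLE V D hDV) (by
      rw [← cancel_mono V.ι, Category.assoc, Category.assoc, Scheme.Hom.resLE_comp_ι f hUV,
        Scheme.Hom.resLE_comp_ι b hDV, Scheme.Hom.resLE_comp_ι_assoc aX e', comm,
        morphismRestrict_ι_assoc])
  -- the restricted action
  obtain ⟨τ, hτι⟩ : ∃ τ : G → (U.toScheme ⟶ U.toScheme), ∀ g, τ g ≫ U.ι = U.ι ≫ σ g :=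
    ⟨fun g => (σ g).resLE U U (hstab g), fun g => Scheme.Hom.resLE_comp_ι (σ g) (hstab g)⟩
  have hττ : ∀ g h, τ g ≫ τ h = τ (h * g) := by
    intro g h
    rw [← cancel_mono U.ι, Category.assoc, hτι h, ← Category.assoc, hτι g, Category.assoc,
      hσmul g h, hτι (h * g)]
  have hτf : ∀ g, τ g ≫ f.resLE V U hUV = f.resLE V U hUV := by
    intro g
    rw [← cancel_mono V.ι, Category.assoc, Scheme.Hom.resLE_comp_ι f hUV, ← Category.assoc,
      hτι g, Category.assoc, hσf g]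
  have haτ : ∀ g, aX.resLE U (i ⁻¹ᵁ D) e' ≫ τ g = aX.resLE U (i ⁻¹ᵁ D) e' := by
    intro g
    rw [← cancel_mono U.ι, Category.assoc, hτι g, Scheme.Hom.resLE_comp_ι_assoc aX e',
      Scheme.Hom.resLE_comp_ι aX e', haσ g]
  -- the inverse of `|G|` on `D`
  obtain ⟨w, hw⟩ : ∃ w : Γ(D.toScheme, ⊤), w * ((Fintype.card G : ℕ) : Γ(D.toScheme, ⊤)) = 1 := by
    have h1 := hG.map (D.ι ≫ b).appTop.hom
    rw [map_natCast] at h1
    exact h1.exists_left_inv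
  obtain ⟨c', hc'1, hc'2, hc'3⟩ := avg_lift (i ∣_ D) hthick (fun g => c ≫ τ g)
    (aX.resLE U (i ⁻¹ᵁ D) e') (fun g => by rw [← Category.assoc, hc1, haτ g])
    (f.resLE V U hUV) (b.resLE V D hDV) (fun g => by rw [Category.assoc, hτf g, hc2])
    τ (fun g h => by rw [Category.assoc, hττ g h]) w hw
  refine ⟨D, c' ≫ U.ι, htD, ?_, ?_, ?_⟩
  · rw [Category.assoc, ← Scheme.Hom.resLE_comp_ι f hUV, ← Category.assoc, hc'2,
      Scheme.Hom.resLE_comp_ι b hDV]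
  · rw [← Category.assoc, hc'1, Scheme.Hom.resLE_comp_ι aX e']
  · intro g
    rw [Category.assoc, ← hτι g, ← Category.assoc, hc'3 g]

theorem main (S : Scheme.{u})
    (X : Over S) [Smooth X.hom] [QuasiCompact X.hom] [IsSeparated X.hom]
    (G : Type v) [Group G] [Finite G] (ρ : G →* Aut X)
    (hG : IsUnit (Nat.card G : Γ(S, ⊤)))
    (Z : Over S) (ι : Z ⟶ X) (hι : ∀ g : G, ι ≫ (ρ g).hom = ι)
    (hZ : ∀ (T : Over S) (t : T ⟶ X),
      (∀ g : G, t ≫ (ρ g).hom = t) ↔ ∃! t' : T ⟶ Z, t' ≫ ι = t) :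
    IsClosedImmersion ι.left ∧ Smooth Z.hom ∧ QuasiCompact Z.hom ∧ QuasiSeparated Z.hom := by
  classical
  have hfin := Fintype.ofFinite G
  have hlft : LocallyOfFiniteType X.hom := inferInstance
  obtain ⟨hcl, hlfp⟩ := closed_lfp X G ρ Z ι hι hZ
  have hZhom : ι.left ≫ X.hom = Z.hom := Over.w ι
  have hlfpZ : LocallyOfFinitePresentation Z.hom := by rw [← hZhom]; infer_instance
  have hqc : QuasiCompact Z.hom := by rw [← hZhom]; infer_instance
  have hsep : IsSeparated Z.hom := by rw [← hZhom]; infer_instance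
  have hG' : IsUnit ((Fintype.card G : ℕ) : Γ(S, ⊤)) := by
    rw [← Nat.card_eq_fintype_card]; exact hG
  have hσiso : ∀ g : G, IsIso (ρ g).hom.left := fun g =>
    inferInstanceAs (IsIso ((Over.forget S).map (ρ g).hom))
  have hσmul : ∀ g h : G, (ρ g).hom.left ≫ (ρ h).hom.left = (ρ (h * g)).hom.left := by
    intro g h
    rw [map_mul]
    rfl
  have hmono : Mono ι.left := inferInstance
  refine ⟨hcl, ?_, hqc, inferInstance⟩
  apply Groth.Agent.Lib.FSmoothIffH7.smooth_of_lfp_fs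
  intro A _ I hI a b comm
  have hi := fot_thk I hI
  have haσ : ∀ g : G, (a ≫ ι.left) ≫ (ρ g).hom.left = a ≫ ι.left := by
    intro g
    rw [Category.assoc]
    congr 1
    exact congrArg CommaMorphism.left (hι g)
  have comm' : (a ≫ ι.left) ≫ X.hom = thk I ≫ b := by
    rw [Category.assoc, hZhom]
    exact comm.symm
  obtain ⟨l, h1, h2⟩ := Groth.Agent.Lib.GLiftMainH7.exists_lift Z.hom (thk I) hi b a comm.symm
    (fun t => by
      obtain ⟨D, bD, htD, hb1, hb2, hb3⟩ := local_lift X.hom (fun g : G => (ρ g).hom.left) hσiso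
        (fun g => Over.w (ρ g).hom) hσmul hG' (thk I) hi b (a ≫ ι.left) haσ comm' t
      let TD : Over S := Over.mk (D.ι ≫ b)
      let tD : TD ⟶ X := Over.homMk bD hb1
      have htD' : ∀ g, tD ≫ (ρ g).hom = tD := fun g => Over.OverMorphism.ext (hb3 g)
      obtain ⟨z, hz, -⟩ := (hZ TD tD).mp htD'
      refine ⟨D, z.left, htD, Over.w z, ?_⟩
      have hz' : z.left ≫ ι.left = bD := congrArg CommaMorphism.left hz
      rw [← cancel_mono ι.left, Category.assoc, Category.assoc, hz', hb2])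
  exact ⟨l, h2, h1⟩

end Groth.Agent.Lib.FixSmH7
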