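import Mathlib
import Groth.Agent.Lib.WeilRes_helper4

/-!
# Fixed loci when every open is stable (helper4)

If `f g : P ⟶ X` are morphisms of schemes with `g ⁻¹ U ≤ f ⁻¹ U` for every open `U` of `X`, then
the equalizer of `f` and `g` is a closed subscheme of `P` (no separatedness of `X` needed).
Consequently the fixed locus of `a : Y ⊗ X ⟶ X` is closed when all opens of `X` are `a`-stable.
-/

set_option autoImplicit false
set_option linter.style.haveILetI false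
set_option linter.unusedVariables false

universe u

open CategoryTheory CategoryTheory.Limits AlgebraicGeometry MonoidalCategory CartesianMonoidalCategory
open TopologicalSpace

namespace Groth.Agent.Lib.FixedLocusStableH4

open Groth.Agent.Lib.WeilResH4

theorem mem_of_ι {X : Scheme.{u}} (V : X.Opens) (v : V.toScheme) : V.ι v ∈ V := by
  have hv : V.ι v ∈ Set.range V.ι := ⟨v, rfl⟩
  rw [Scheme.Opens.range_ι] at hv
  exact hv

theorem exists_of_mem {X : Scheme.{u}} (V : X.Opens) (p : X) (hp : p ∈ V) :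
    ∃ v : V.toScheme, V.ι v = p := by
  have : p ∈ Set.range V.ι := by rw [Scheme.Opens.range_ι]; exact hp
  exact this

/-- The equalizer of two morphisms is closed as soon as every open of the target is stable. -/
theorem isClosedImmersion_equalizer_of_stable {P X : Scheme.{u}} (f g : P ⟶ X)
    (hst : ∀ U : X.Opens, g ⁻¹ᵁ U ≤ f ⁻¹ᵁ U) : IsClosedImmersion (equalizer.ι f g) := by
  refine IsClosedImmersion.of_isPreimmersion _ ?_
  rw [← isOpen_compl_iff, isOpen_iff_forall_mem_open]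
  intro p hp
  obtain ⟨U, hU, hpU⟩ : ∃ U : X.Opens, IsAffineOpen U ∧ g p ∈ U := by
    obtain ⟨W, hW⟩ := exists_affine_mem X (g p)
    exact ⟨W.1, W.2, hW⟩
  obtain ⟨V, hV⟩ : ∃ V : P.Opens, V = g ⁻¹ᵁ U := ⟨_, rfl⟩
  have hpV : p ∈ V := by rw [hV]; exact hpU
  have hVf : V ≤ f ⁻¹ᵁ U := by rw [hV]; exact hst U
  have hVg : V ≤ g ⁻¹ᵁ U := by rw [hV]
  have hrf : Set.range (V.ι ≫ f) ⊆ Set.range U.ι := by
    rintro _ ⟨v, rfl⟩
    rw [Scheme.Opens.range_ι]
    exact hVf (mem_of_ι V v)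
  have hrg : Set.range (V.ι ≫ g) ⊆ Set.range U.ι := by
    rintro _ ⟨v, rfl⟩
    rw [Scheme.Opens.range_ι]
    exact hVg (mem_of_ι V v)
  obtain ⟨f', hf'⟩ : ∃ f' : V.toScheme ⟶ U.toScheme, f' ≫ U.ι = V.ι ≫ f :=
    ⟨IsOpenImmersion.lift U.ι (V.ι ≫ f) hrf, IsOpenImmersion.lift_fac _ _ _⟩
  obtain ⟨g', hg'⟩ : ∃ g' : V.toScheme ⟶ U.toScheme, g' ≫ U.ι = V.ι ≫ g :=
    ⟨IsOpenImmersion.lift U.ι (V.ι ≫ g) hrg, IsOpenImmersion.lift_fac _ _ _⟩
  haveI : IsAffine U.toScheme := hU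
  haveI : U.toScheme.IsSeparated := inferInstance
  haveI : IsClosedImmersion (equalizer.ι f' g') := inferInstance
  have key : ∀ v : V.toScheme, V.ι v ∈ Set.range (equalizer.ι f g) ↔
      v ∈ Set.range (equalizer.ι f' g') := by
    intro v
    constructor
    · rintro ⟨e, he⟩
      obtain ⟨W, hW⟩ : ∃ W : (equalizer f g).Opens, W = (equalizer.ι f g) ⁻¹ᵁ V := ⟨_, rfl⟩
      have heW : e ∈ W := by
        rw [hW]
        show (equalizer.ι f g) e ∈ V
        rw [he]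
        exact mem_of_ι V v
      have hrW : Set.range (W.ι ≫ equalizer.ι f g) ⊆ Set.range V.ι := by
        rintro _ ⟨w, rfl⟩
        rw [Scheme.Opens.range_ι]
        have hw : W.ι w ∈ W := mem_of_ι W w
        exact hW.le hw
      obtain ⟨t, ht⟩ : ∃ t : W.toScheme ⟶ V.toScheme, t ≫ V.ι = W.ι ≫ equalizer.ι f g :=
        ⟨IsOpenImmersion.lift V.ι _ hrW, IsOpenImmersion.lift_fac _ _ _⟩
      have hteq : t ≫ f' = t ≫ g' := by
        have h1 : (t ≫ f') ≫ U.ι = (t ≫ g') ≫ U.ι := by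
          calc (t ≫ f') ≫ U.ι = t ≫ (V.ι ≫ f) := by rw [Category.assoc, hf']
            _ = (W.ι ≫ equalizer.ι f g) ≫ f := by rw [← Category.assoc, ht]
            _ = (W.ι ≫ equalizer.ι f g) ≫ g := by
                rw [Category.assoc, equalizer.condition, ← Category.assoc]
            _ = t ≫ (V.ι ≫ g) := by rw [← ht, Category.assoc]
            _ = (t ≫ g') ≫ U.ι := by rw [Category.assoc, hg']
        exact (cancel_mono U.ι).mp h1
      obtain ⟨e₀, he₀⟩ := exists_of_mem W e heW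
      refine ⟨(equalizer.lift t hteq) e₀, ?_⟩
      have h1 : (equalizer.lift t hteq ≫ equalizer.ι f' g') e₀ = t e₀ := by
        rw [equalizer.lift_ι]
      have h2 : V.ι (t e₀) = V.ι v := by
        have h3 : (t ≫ V.ι) e₀ = (W.ι ≫ equalizer.ι f g) e₀ := by rw [ht]
        calc V.ι (t e₀) = (W.ι ≫ equalizer.ι f g) e₀ := h3
          _ = equalizer.ι f g (W.ι e₀) := rfl
          _ = V.ι v := by rw [he₀, he]
      have hinj : Function.Injective V.ι := V.ι.isOpenEmbedding.injective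
      exact h1.trans (hinj h2)
    · rintro ⟨e', rfl⟩
      have hcond : (equalizer.ι f' g' ≫ V.ι) ≫ f = (equalizer.ι f' g' ≫ V.ι) ≫ g := by
        calc (equalizer.ι f' g' ≫ V.ι) ≫ f = equalizer.ι f' g' ≫ (f' ≫ U.ι) := by
              rw [Category.assoc, hf']
          _ = equalizer.ι f' g' ≫ (g' ≫ U.ι) := by
              rw [← Category.assoc, equalizer.condition, Category.assoc]
          _ = (equalizer.ι f' g' ≫ V.ι) ≫ g := by rw [Category.assoc, hg']
      refine ⟨(equalizer.lift (equalizer.ι f' g' ≫ V.ι) hcond) e', ?_⟩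
      have h1 : (equalizer.lift (equalizer.ι f' g' ≫ V.ι) hcond ≫ equalizer.ι f g) e' =
          (equalizer.ι f' g' ≫ V.ι) e' := by rw [equalizer.lift_ι]
      exact h1
  refine ⟨V.ι '' (Set.range (equalizer.ι f' g'))ᶜ, ?_, ?_, ?_⟩
  · rintro _ ⟨v, hv, rfl⟩ hmem
    exact hv ((key v).mp hmem)
  · exact V.ι.isOpenEmbedding.isOpenMap _
      (equalizer.ι f' g').isClosedEmbedding.isClosed_range.isOpen_compl
  · obtain ⟨v, rfl⟩ := exists_of_mem V p hpV
    exact ⟨v, fun hv => hp ((key v).mpr hv), rfl⟩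

section Apps

variable {k : Type u} [Field k]

theorem fixed_closed' (X Y : Over (Spec (CommRingCat.of k))) (a : Y ⊗ X ⟶ X)
    (hstab : ∀ U : X.left.Opens, (snd Y X).left ⁻¹ᵁ U ≤ a.left ⁻¹ᵁ U) :
    ∃ (Z : Over (Spec (CommRingCat.of k))) (j : Z ⟶ X), IsClosedImmersion j.left ∧
      ∀ (T : Over (Spec (CommRingCat.of k))) (x : T ⟶ X),
        (∃ z : T ⟶ Z, z ≫ j = x) ↔ (Y ◁ x) ≫ a = snd Y T ≫ x := by
  have hst : ∀ U : X.left.Opens,
      (fst X Y).left ⁻¹ᵁ U ≤ (lift (snd X Y) (fst X Y) ≫ a).left ⁻¹ᵁ U := by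
    intro U p hp
    have h1 : (snd Y X).left ((lift (snd X Y) (fst X Y)).left p) = (fst X Y).left p :=
      congrArg (fun t => t.left p) (lift_snd (snd X Y) (fst X Y))
    have h2 : (lift (snd X Y) (fst X Y)).left p ∈ (snd Y X).left ⁻¹ᵁ U := by
      show (snd Y X).left ((lift (snd X Y) (fst X Y)).left p) ∈ U
      rw [h1]
      exact hp
    exact hstab U h2
  haveI hcl : IsClosedImmersion
      (equalizer.ι (lift (snd X Y) (fst X Y) ≫ a).left (fst X Y).left) :=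
    isClosedImmersion_equalizer_of_stable _ _ hst
  obtain ⟨ι₀, hι₀⟩ : ∃ ι₀ : equalizer (lift (snd X Y) (fst X Y) ≫ a).left (fst X Y).left ⟶
      (X ⊗ Y).left, ι₀ = equalizer.ι (lift (snd X Y) (fst X Y) ≫ a).left (fst X Y).left :=
    ⟨_, rfl⟩
  haveI : IsClosedImmersion ι₀ := by rw [hι₀]; exact hcl
  have hcond : ι₀ ≫ (lift (snd X Y) (fst X Y) ≫ a).left = ι₀ ≫ (fst X Y).left := by
    rw [hι₀]; exact equalizer.condition _ _
  obtain ⟨j, hj⟩ : ∃ j : Over.mk (ι₀ ≫ (X ⊗ Y).hom) ⟶ X ⊗ Y, j = Over.homMk ι₀ rfl := ⟨_, rfl⟩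
  have hjl : j.left = ι₀ := by rw [hj]; rfl
  haveI : IsClosedImmersion j.left := by rw [hjl]; infer_instance
  have hjeq : j ≫ (lift (snd X Y) (fst X Y) ≫ a) = j ≫ fst X Y := by
    apply Over.OverMorphism.ext
    show j.left ≫ (lift (snd X Y) (fst X Y) ≫ a).left = j.left ≫ (fst X Y).left
    rw [hjl]
    exact hcond
  obtain ⟨F, i, hi, h⟩ := exists_closed X Y (Over.mk (ι₀ ≫ (X ⊗ Y).hom)) j
  have huniv : ∀ (T : Over (Spec (CommRingCat.of k))) (z : T ⟶ X),
      (∃ l : T ⊗ Y ⟶ Over.mk (ι₀ ≫ (X ⊗ Y).hom), l ≫ j = z ▷ Y) ↔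
        (z ▷ Y) ≫ (lift (snd X Y) (fst X Y) ≫ a) = (z ▷ Y) ≫ fst X Y := by
    intro T z
    constructor
    · rintro ⟨l, hl⟩
      rw [← hl, Category.assoc, Category.assoc, hjeq]
    · intro e
      have e' : (z ▷ Y).left ≫ (lift (snd X Y) (fst X Y) ≫ a).left =
          (z ▷ Y).left ≫ (fst X Y).left := congrArg (fun t => t.left) e
      obtain ⟨l₀, hl₀⟩ : ∃ l₀ : (T ⊗ Y).left ⟶
          equalizer (lift (snd X Y) (fst X Y) ≫ a).left (fst X Y).left,
          l₀ ≫ ι₀ = (z ▷ Y).left := by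
        refine ⟨equalizer.lift (z ▷ Y).left e', ?_⟩
        rw [hι₀]
        exact equalizer.lift_ι _ _
      refine ⟨Over.homMk l₀ ?_, ?_⟩
      · show l₀ ≫ ι₀ ≫ (X ⊗ Y).hom = (T ⊗ Y).hom
        rw [← Category.assoc, hl₀]
        exact Over.w (z ▷ Y)
      · apply Over.OverMorphism.ext
        show l₀ ≫ j.left = (z ▷ Y).left
        rw [hjl]
        exact hl₀
  refine ⟨F, i, hi, fun T x => ((h T x).trans (huniv T x)).trans ?_⟩
  have e1 : (x ▷ Y) ≫ lift (snd X Y) (fst X Y) = lift (snd T Y) (fst T Y) ≫ (Y ◁ x) := by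
    ext <;> simp
  have σσ : lift (snd Y T) (fst Y T) ≫ lift (snd T Y) (fst T Y) = 𝟙 (Y ⊗ T) := by
    ext <;> simp
  constructor
  · intro e
    calc (Y ◁ x) ≫ a
        = (lift (snd Y T) (fst Y T) ≫ lift (snd T Y) (fst T Y)) ≫ (Y ◁ x) ≫ a := by
          rw [σσ, Category.id_comp]
      _ = lift (snd Y T) (fst Y T) ≫ ((x ▷ Y) ≫ lift (snd X Y) (fst X Y)) ≫ a := by
          rw [e1]; simp only [Category.assoc]
      _ = lift (snd Y T) (fst Y T) ≫ (x ▷ Y) ≫ fst X Y := by rw [Category.assoc, e]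
      _ = snd Y T ≫ x := by rw [whiskerRight_fst, lift_fst_assoc]
  · intro e
    calc (x ▷ Y) ≫ lift (snd X Y) (fst X Y) ≫ a
        = (lift (snd T Y) (fst T Y) ≫ (Y ◁ x)) ≫ a := by rw [← e1, Category.assoc]
      _ = lift (snd T Y) (fst T Y) ≫ snd Y T ≫ x := by rw [Category.assoc, e]
      _ = (x ▷ Y) ≫ fst X Y := by rw [lift_snd_assoc, whiskerRight_fst]

theorem main19969 (X Y : Over (Spec (CommRingCat.of k))) (a : Y ⊗ X ⟶ X)
    (hstab : ∀ U : X.left.Opens, (snd Y X).left ⁻¹ᵁ U ≤ a.left ⁻¹ᵁ U) :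
    ∃ (Z : Over (Spec (CommRingCat.of k))) (j : Z ⟶ X), IsClosedImmersion j.left ∧
      (Y ◁ j) ≫ a = snd Y Z ≫ j ∧
      ∀ (T : Over (Spec (CommRingCat.of k))) (x : T ⟶ X),
        (Y ◁ x) ≫ a = snd Y T ≫ x → ∃ z : T ⟶ Z, z ≫ j = x := by
  obtain ⟨Z, j, hj, h⟩ := fixed_closed' X Y a hstab
  exact ⟨Z, j, hj, (h Z j).mp ⟨𝟙 Z, Category.id_comp j⟩, fun T x e => (h T x).mpr e⟩

end Apps

end Groth.Agent.Lib.FixedLocusStableH4
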