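import Mathlib

/-!
# Fixed subalgebras of a normal domain under families of endomorphisms are normal (helper3)
-/

set_option autoImplicit false
universe u v w

namespace Groth.Agent.Lib.FixedNormalH3

/-- A subalgebra of a normal domain which is the common fixed set of a family of ring
endomorphisms is integrally closed. -/
theorem isIntegrallyClosed_of_fixed {k : Type u} {A : Type v} [CommRing k] [CommRing A]
    [IsDomain A] [IsIntegrallyClosed A] [Algebra k A] (S : Subalgebra k A) {ι : Type w}
    (σ : ι → A →+* A) (hS : ∀ x : A, x ∈ S ↔ ∀ i, σ i x = x) :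
    IsIntegrallyClosed S := by
  have hfa : FaithfulSMul S (FractionRing A) := by
    rw [faithfulSMul_iff_algebraMap_injective,
      IsScalarTower.algebraMap_eq S A (FractionRing A)]
    exact (FaithfulSMul.algebraMap_injective A (FractionRing A)).comp Subtype.val_injective
  letI : Algebra (FractionRing S) (FractionRing A) :=
    FractionRing.liftAlgebra S (FractionRing A)
  haveI : IsScalarTower S (FractionRing S) (FractionRing A) :=
    FractionRing.isScalarTower_liftAlgebra S (FractionRing A)
  refine (isIntegrallyClosed_iff (FractionRing S)).2 fun {x} hx => ?_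
  obtain ⟨b₁, b₂, hb₂, rfl⟩ := IsFractionRing.div_surjective (A := S) x
  have hb₂0 : b₂ ≠ 0 := nonZeroDivisors.ne_zero hb₂
  have hb₂A : (b₂ : A) ≠ 0 := fun h => hb₂0 (Subtype.ext h)
  have hb₂K : algebraMap S (FractionRing S) b₂ ≠ 0 := by
    rw [Ne, map_eq_zero_iff _ (IsFractionRing.injective _ _)]
    exact hb₂0
  have hb₂L : algebraMap A (FractionRing A) (b₂ : A) ≠ 0 := by
    rw [Ne, map_eq_zero_iff _ (IsFractionRing.injective _ _)]
    exact hb₂A
  have hy : IsIntegral A (algebraMap (FractionRing S) (FractionRing A)
      (algebraMap _ _ b₁ / algebraMap _ _ b₂)) :=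
    (hx.map (IsScalarTower.toAlgHom S (FractionRing S) (FractionRing A))).tower_top
  obtain ⟨a, ha⟩ := IsIntegrallyClosed.algebraMap_eq_of_integral hy
  have hrel : a * (b₂ : A) = (b₁ : A) := by
    apply IsFractionRing.injective A (FractionRing A)
    rw [map_mul, ha, map_div₀,
      ← IsScalarTower.algebraMap_apply S (FractionRing S) (FractionRing A),
      ← IsScalarTower.algebraMap_apply S (FractionRing S) (FractionRing A),
      IsScalarTower.algebraMap_apply S A (FractionRing A) b₁,
      IsScalarTower.algebraMap_apply S A (FractionRing A) b₂]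
    exact div_mul_cancel₀ _ hb₂L
  have hainv : ∀ i, σ i a = a := by
    intro i
    have h1 : σ i a * (b₂ : A) = a * (b₂ : A) := by
      have h2 := congrArg (σ i) hrel
      rw [map_mul, (hS _).1 b₂.2 i, (hS _).1 b₁.2 i] at h2
      rw [h2, hrel]
    exact mul_right_cancel₀ hb₂A h1
  refine ⟨⟨a, (hS a).2 hainv⟩, ?_⟩
  rw [eq_div_iff hb₂K, ← map_mul]
  congr 1
  exact Subtype.ext hrel

end Groth.Agent.Lib.FixedNormalH3
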