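import Groth.Agent.Lib.SchImage_helper7
import Groth.Agent.Lib.AlgSpPullback_helper7

/-!
# Fixed points of a finite group acting on a separated algebraic space (helper7)
-/

set_option autoImplicit false
set_option linter.style.haveILetI false
set_option backward.isDefEq.respectTransparency false
set_option backward.isDefEq.respectTransparency.types false
universe u
open CategoryTheory CategoryTheory.Limits AlgebraicGeometry Opposite MorphismProperty
open AlgSp Groth.Agent.Lib.AlgSpPullback_helper7 Groth.Agent.Lib.SchImageH7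

namespace Groth.Agent.Lib.FixedPtsH7

variable {S : Scheme.{u}}

/-- The equalizer of two points of a separated sheaf is a closed subscheme. -/
theorem exists_equalizer_closed {F : Sp S} (hsep : IsSeparatedSp F) {T : Over S}
    (a b : (yon S).obj T ⟶ F) :
    ∃ (E : Over S) (j : E ⟶ T), IsClosedImmersion j.left ∧
      ∀ (T' : Over S) (t : T' ⟶ T), (∃ t' : T' ⟶ E, t' ≫ j = t) ↔
        (yon S).map t ≫ a = (yon S).map t ≫ b := by
  have h : RepWith @IsClosedImmersion (Limits.diag F) := hsep
  obtain ⟨c, hc⟩ : ∃ c : (yon S).obj T ⟶ F ⨯ F, c = prod.lift a b := ⟨_, rfl⟩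
  have sq := h.rep.isPullback c
  have w1 : h.rep.fst c = (yon S).map (h.rep.snd c) ≫ a := by
    have := sq.w =≫ (prod.fst : F ⨯ F ⟶ F)
    simpa [hc, Limits.diag] using this
  have w2 : h.rep.fst c = (yon S).map (h.rep.snd c) ≫ b := by
    have := sq.w =≫ (prod.snd : F ⨯ F ⟶ F)
    simpa [hc, Limits.diag] using this
  refine ⟨h.rep.pullback c, h.rep.snd c, h.property_snd c, fun T' t => ⟨?_, ?_⟩⟩
  · rintro ⟨t', rfl⟩
    rw [Functor.map_comp, Category.assoc, Category.assoc, ← w1, ← w2]
  · intro heq
    have wl : ((yon S).map t ≫ a) ≫ Limits.diag F = (yon S).map t ≫ c := by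
      rw [hc]
      apply Limits.prod.hom_ext
      · simp [Limits.diag]
      · simp [Limits.diag, heq]
    obtain ⟨t', ht'⟩ := (yon S).map_surjective (sq.lift _ _ wl)
    refine ⟨t', (yon S).map_injective ?_⟩
    rw [Functor.map_comp, ht', sq.lift_snd]

theorem main13210 (F : Sp S) (hF : IsAlgSpace F) (hsep : IsSeparatedSp F)
    (G : Type u) [Group G] [Finite G] (ρ : G →* Aut F)
    (Z : Sp S) (i : Z ⟶ F) (hi : ∀ g : G, i ≫ (ρ g).hom = i)
    (huniv : ∀ (W : Sp S) (x : W ⟶ F), (∀ g : G, x ≫ (ρ g).hom = x) →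
      ∃! z : W ⟶ Z, z ≫ i = x) :
    IsAlgSpace Z ∧ RepWith @IsClosedImmersion i := by
  classical
  cases nonempty_fintype G
  have key : ∀ (T : Over S) (a : (yon S).obj T ⟶ F) (s : Finset G),
      ∃ (E : Over S) (j : E ⟶ T), IsClosedImmersion j.left ∧
        ∀ (T' : Over S) (t : T' ⟶ T), (∃ t' : T' ⟶ E, t' ≫ j = t) ↔
          ∀ g ∈ s, (yon S).map t ≫ a ≫ (ρ g).hom = (yon S).map t ≫ a := by
    intro T a s
    induction s using Finset.induction_on with
    | empty =>
      refine ⟨T, 𝟙 T, ?_, fun T' t => ⟨fun _ g hg => absurd hg (Finset.notMem_empty g),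
        fun _ => ⟨t, Category.comp_id t⟩⟩⟩
      show IsClosedImmersion (𝟙 T.left)
      infer_instance
    | insert g s hg ih =>
      obtain ⟨E, j, hj, hE⟩ := ih
      obtain ⟨E', j', hj', hE'⟩ := exists_equalizer_closed hsep (a ≫ (ρ g).hom) a
      have sqO := IsPullback.of_hasPullback j j'
      have sqL : IsPullback (pullback.fst j j').left (pullback.snd j j').left j.left j'.left :=
        sqO.map (Over.forget S)
      have h1 : IsClosedImmersion (pullback.fst j j').left :=
        MorphismProperty.of_isPullback (P := @IsClosedImmersion) sqL.flip hj'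
      refine ⟨pullback j j', pullback.fst j j' ≫ j, ?_, fun T' t => ⟨?_, ?_⟩⟩
      · show IsClosedImmersion ((pullback.fst j j').left ≫ j.left)
        infer_instance
      · rintro ⟨t', rfl⟩ g' hg'
        rcases Finset.mem_insert.1 hg' with rfl | hg'
        · exact (hE' T' _).1 ⟨t' ≫ pullback.snd j j', by
            rw [Category.assoc, ← pullback.condition]⟩
        · exact (hE T' _).1 ⟨t' ≫ pullback.fst j j', by rw [Category.assoc]⟩ g' hg'
      · intro h
        obtain ⟨t₁, ht₁⟩ := (hE T' t).2 (fun g' hg' => h g' (Finset.mem_insert_of_mem hg'))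
        obtain ⟨t₂, ht₂⟩ := (hE' T' t).2 (h g (Finset.mem_insert_self g s))
        exact ⟨pullback.lift t₁ t₂ (by rw [ht₁, ht₂]), by
          rw [← Category.assoc, pullback.lift_fst, ht₁]⟩
  have hmono : ∀ {W : Sp S} (x y : W ⟶ Z), x ≫ i = y ≫ i → x = y := by
    intro W x y hxy
    obtain ⟨z', _, hz'⟩ := huniv W (x ≫ i) (fun g => by rw [Category.assoc, hi])
    rw [hz' x rfl, hz' y hxy.symm]
  have hrep : RepWith @IsClosedImmersion i := by
    refine MorphismProperty.relative.of_exists (fun T a => ?_)
    obtain ⟨E, j, hj, hE⟩ := key T a Finset.univ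
    have hinv : ∀ g : G, ((yon S).map j ≫ a) ≫ (ρ g).hom = (yon S).map j ≫ a := fun g => by
      rw [Category.assoc]
      exact (hE E j).1 ⟨𝟙 E, Category.id_comp j⟩ g (Finset.mem_univ g)
    obtain ⟨z, hz, -⟩ := huniv ((yon S).obj E) ((yon S).map j ≫ a) hinv
    haveI : Mono j.left := by
      haveI := hj
      infer_instance
    refine ⟨E, z, j, isPullback_of_forall_yon hz (fun T' x y hxy => ?_), hj⟩
    obtain ⟨t, rfl⟩ := (yon S).map_surjective y
    obtain ⟨t', ht'⟩ := (hE T' t).2 (fun g _ => by
      rw [← Category.assoc, ← hxy, Category.assoc, hi])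
    refine ⟨(yon S).map t', ⟨hmono _ _ ?_, ?_⟩, ?_⟩
    · rw [Category.assoc, hz, ← Category.assoc, ← Functor.map_comp, ht', hxy]
    · rw [← Functor.map_comp, ht']
    · rintro p ⟨-, hp⟩
      obtain ⟨t'', rfl⟩ := (yon S).map_surjective p
      have e1 : t'' ≫ j = t' ≫ j := by
        rw [ht']
        apply (yon S).map_injective
        rw [Functor.map_comp]
        exact hp
      have e2 : t'' = t' := by
        apply Over.OverMorphism.ext
        have e3 := congrArg (fun k : T' ⟶ T => k.left) e1
        exact (cancel_mono j.left).1 e3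
      rw [e2]
  haveI : Mono i := mono_of_closedImmersion i hrep
  exact ⟨isAlgSpace_of_representable_mono i hrep.rep hF, hrep⟩

end Groth.Agent.Lib.FixedPtsH7
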