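import Mathlib
import Groth.Prelude.Def_CohTop
import Groth.Agent.Lib.FiltColimSheaf_helper7

set_option autoImplicit false

/-! Directed colimits of flasque abelian sheaves on a Noetherian space are flasque. -/

namespace Groth.Agent.Lib.FlasqueColim_helper7
open CategoryTheory TopologicalSpace Opposite Limits
universe u

lemma isQCSite_of_noetherian {X : TopCat.{u}} [NoetherianSpace X] (U : Opens X) :
    ToposFin.IsQCSite (Opens.grothendieckTopology X) U := by
  intro S hS
  have hS' : ∀ x : U, ∃ (V : Opens X) (f : V ⟶ U), S f ∧ (x : X) ∈ V := fun x => hS x.1 x.2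
  choose V f hf hx using hS'
  have hcomp : IsCompact (U : Set X) := NoetherianSpace.isCompact _
  obtain ⟨t, ht⟩ := hcomp.elim_finite_subcover (fun x : U => (V x : Set X)) (fun x => (V x).2)
    (fun y hy => Set.mem_iUnion.2 ⟨⟨y, hy⟩, hx ⟨y, hy⟩⟩)
  refine ⟨t.card, fun k => V (t.equivFin.symm k).1, fun k => f (t.equivFin.symm k).1,
    fun k => hf _, ?_⟩
  intro y hy
  obtain ⟨x, hxt, hyx⟩ := Set.mem_iUnion₂.1 (ht hy)
  obtain ⟨k, hk⟩ := t.equivFin.symm.surjective ⟨x, hxt⟩
  refine ⟨V (t.equivFin.symm k).1, f (t.equivFin.symm k).1,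
    Sieve.ofArrows_mk (fun k => V (t.equivFin.symm k).1) (fun k => f (t.equivFin.symm k).1) k, ?_⟩
  rw [hk]
  exact hyx

theorem main {X : TopCat.{u}} [NoetherianSpace X]
    (ι : Type u) [Preorder ι] [IsDirected ι (· ≤ ·)] [Nonempty ι]
    (D : ι ⥤ CohTop.Ab X)
    (hD : ∀ i : ι, TopCat.Sheaf.IsFlasque (D.obj i)) :
    TopCat.Sheaf.IsFlasque (colimit D : CohTop.Ab X) := by
  let J := Opens.grothendieckTopology X
  let s2p := sheafToPresheaf J AddCommGrpCat.{u}
  let W := (Functor.whiskeringRight (Opens X)ᵒᵖ AddCommGrpCat.{u} (Type u)).obj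
    (forget AddCommGrpCat.{u})
  haveI : PreservesColimitsOfShape ι (forget AddCommGrpCat.{u}) :=
    PreservesFilteredColimitsOfSize.preserves_filtered_colimits ι
  have hc0 := colimit.isColimit (D ⋙ s2p)
  have hcW : IsColimit (W.mapCocone (colimit.cocone (D ⋙ s2p))) := isColimitOfPreserves W hc0
  have hT : Presieve.IsSheaf J (W.mapCocone (colimit.cocone (D ⋙ s2p))).pt :=
    Groth.Agent.Lib.FiltColimSheaf_helper7.isSheaf_pt J ((D ⋙ s2p) ⋙ W) _ hcW
      (fun U => isQCSite_of_noetherian U)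
      (fun i => (isSheaf_iff_isSheaf_of_type _ _).1
        ((Presheaf.isSheaf_iff_isSheaf_forget J _ (forget AddCommGrpCat.{u})).1
          (D.obj i).property))
  have hP : Presheaf.IsSheaf J (colimit.cocone (D ⋙ s2p)).pt :=
    (Presheaf.isSheaf_iff_isSheaf_forget J _ (forget AddCommGrpCat.{u})).2
      ((isSheaf_iff_isSheaf_of_type _ _).2 hT)
  haveI : CreatesColimit D s2p := createsColimitFullSubcategoryInclusion' D hc0 hP
  haveI : PreservesColimit D s2p := preservesColimit_of_createsColimit_and_hasColimit D _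
  have hc1 : IsColimit (s2p.mapCocone (colimit.cocone D)) :=
    isColimitOfPreserves s2p (colimit.isColimit D)
  refine ⟨fun {U V} i => ?_⟩
  rw [AddCommGrpCat.epi_iff_surjective]
  intro x
  have hcV : IsColimit (((evaluation (Opens X)ᵒᵖ AddCommGrpCat.{u}).obj V).mapCocone
      (s2p.mapCocone (colimit.cocone D))) := isColimitOfPreserves _ hc1
  obtain ⟨j, y, hy⟩ := Concrete.isColimit_exists_rep _ hcV x
  haveI := (hD j).epi i
  obtain ⟨y', hy'⟩ := (AddCommGrpCat.epi_iff_surjective _).1 this y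
  refine ⟨((colimit.ι D j).hom.app U) y', ?_⟩
  have nat := NatTrans.naturality_apply (colimit.ι D j).hom i y'
  have hy2 : (colimit.ι D j).hom.app V y = x := hy
  rw [← hy2, ← hy']
  exact nat.symm

end Groth.Agent.Lib.FlasqueColim_helper7
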