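import Mathlib

/-!
# Flasque sheaves of (not necessarily commutative) groups
-/

set_option autoImplicit false
universe u
open CategoryTheory TopologicalSpace Opposite

namespace Groth.Agent.Lib.FlasqueGrp

variable {X : TopCat.{u}}

/-- restriction of sections of a presheaf of groups -/
def rs (P : TopCat.Presheaf GrpCat.{u} X) {V W : Opens X} (h : V ≤ W) :
    P.obj (op W) →* P.obj (op V) := (P.map (homOfLE h).op).hom

lemma rs_rs (P : TopCat.Presheaf GrpCat.{u} X) {A B C : Opens X} (h₁ : A ≤ B) (h₂ : B ≤ C)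
    (x : P.obj (op C)) : rs P h₁ (rs P h₂ x) = rs P (h₁.trans h₂) x := by
  show (P.map (homOfLE h₂).op ≫ P.map (homOfLE h₁).op).hom x = _
  rw [← P.map_comp]
  rfl

lemma rs_self (P : TopCat.Presheaf GrpCat.{u} X) {A : Opens X} (h : A ≤ A) (x : P.obj (op A)) :
    rs P h x = x := by
  have e : (homOfLE h).op = 𝟙 (op A) := rfl
  show (P.map (homOfLE h).op).hom x = x
  rw [e, P.map_id]
  rfl

lemma rs_app {P Q : TopCat.Presheaf GrpCat.{u} X} (φ : P ⟶ Q) {V W : Opens X} (h : V ≤ W)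
    (x : P.obj (op W)) : (φ.app (op V)).hom (rs P h x) = rs Q h ((φ.app (op W)).hom x) := by
  have hn := φ.naturality (homOfLE h).op
  show (P.map (homOfLE h).op ≫ φ.app (op V)).hom x = (φ.app (op W) ≫ Q.map (homOfLE h).op).hom x
  rw [hn]

theorem glue (G : TopCat.Presheaf GrpCat.{u} X) (hG : G.IsSheaf) {κ : Type*} (W : κ → Opens X)
    (V : Opens X) (hW : ∀ k, W k ≤ V) (hV : V ≤ iSup W) (s : ∀ k, G.obj (op (W k)))
    (hs : ∀ k l, rs G (inf_le_left : W k ⊓ W l ≤ W k) (s k) =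
      rs G (inf_le_right : W k ⊓ W l ≤ W l) (s l)) :
    ∃ t : G.obj (op V), ∀ k, rs G (hW k) t = s k := by
  obtain ⟨t, ht, -⟩ := TopCat.Sheaf.existsUnique_gluing' (F := ⟨G, hG⟩) W V
    (fun k => homOfLE (hW k)) hV s (fun k l => hs k l)
  exact ⟨t, ht⟩

theorem ext_of_cover (G : TopCat.Presheaf GrpCat.{u} X) (hG : G.IsSheaf) {κ : Type*}
    (W : κ → Opens X) (V : Opens X) (hW : ∀ k, W k ≤ V) (hV : V ≤ iSup W) (s t : G.obj (op V))
    (h : ∀ k, rs G (hW k) s = rs G (hW k) t) : s = t :=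
  TopCat.Sheaf.eq_of_locally_eq' (F := ⟨G, hG⟩) W V (fun k => homOfLE (hW k)) hV s t h

section Main

variable (F G H : TopCat.Presheaf GrpCat.{u} X) (hG : G.IsSheaf) (hH : H.IsSheaf)
  (α : F ⟶ G) (β : G ⟶ H)
  (hex : ∀ (U : Opens X) (g : G.obj (op U)),
    (β.app (op U)).hom g = 1 ↔ g ∈ Set.range (α.app (op U)).hom)
  (hβ : ∀ (U : Opens X) (s : H.obj (op U)) (x : X), x ∈ U →
    ∃ (V : Opens X) (hV : V ≤ U), x ∈ V ∧ ∃ g : G.obj (op V), (β.app (op V)).hom g = rs H hV s)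
  (hfl : ∀ (U V : Opens X) (hUV : V ≤ U), Function.Surjective (rs F hUV))

/-- partial lifts of a section -/
structure PL (U : Opens X) (s : H.obj (op U)) where
  /-- the open -/
  V : Opens X
  hV : V ≤ U
  /-- the lift -/
  g : G.obj (op V)
  hg : (β.app (op V)).hom g = rs H hV s

variable {G H β}

/-- the extension order -/
def PL.le {U : Opens X} {s : H.obj (op U)} (a b : PL G H β U s) : Prop :=
  ∃ h : a.V ≤ b.V, rs G h b.g = a.g

lemma PL.le_trans {U : Opens X} {s : H.obj (op U)} {a b c : PL G H β U s}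
    (h1 : PL.le a b) (h2 : PL.le b c) : PL.le a c := by
  obtain ⟨s1, e1⟩ := h1
  obtain ⟨s2, e2⟩ := h2
  refine ⟨s1.trans s2, ?_⟩
  rw [← e1, ← e2, rs_rs]

include hG hH in
lemma chain_bound {U : Opens X} {s : H.obj (op U)} (c : Set (PL G H β U s))
    (hc : IsChain PL.le c) : ∃ ub, ∀ a ∈ c, PL.le a ub := by
  classical
  let Vs : Opens X := ⨆ a : c, a.1.V
  have hle : ∀ a : c, a.1.V ≤ Vs := fun a => le_iSup (fun a : c => a.1.V) a
  have hVsU : Vs ≤ U := iSup_le fun a => a.1.hV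
  obtain ⟨g, hg⟩ := glue G hG (fun a : c => a.1.V) Vs hle le_rfl (fun a => a.1.g) (by
    intro a b
    by_cases hab : a.1 = b.1
    · have : a = b := Subtype.ext hab
      subst this
      rfl
    · rcases hc a.2 b.2 hab with h | h
      · obtain ⟨s1, e1⟩ := h
        rw [← e1, rs_rs]
      · obtain ⟨s1, e1⟩ := h
        rw [← e1, rs_rs])
  have hβg : (β.app (op Vs)).hom g = rs H hVsU s := by
    apply ext_of_cover H hH (fun a : c => a.1.V) Vs hle le_rfl
    intro a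
    rw [← rs_app, hg a, a.1.hg, rs_rs]
  exact ⟨⟨Vs, hVsU, g, hβg⟩, fun a ha => ⟨hle ⟨a, ha⟩, hg ⟨a, ha⟩⟩⟩

include hG hH hex hβ hfl in
theorem surjective (U : Opens X) : Function.Surjective (β.app (op U)).hom := by
  intro s
  obtain ⟨m, hm⟩ := exists_maximal_of_chains_bounded
    (chain_bound (G := G) (H := H) (β := β) hG hH (U := U) (s := s))
    (fun h1 h2 => PL.le_trans h1 h2)
  have hβα : ∀ (V : Opens X) (f : F.obj (op V)),
      (β.app (op V)).hom ((α.app (op V)).hom f) = 1 := fun V f => (hex V _).2 ⟨f, rfl⟩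
  have hUV : U ≤ m.V := by
    intro x hx
    obtain ⟨W, hWU, hxW, g₁, hg₁⟩ := hβ U s x hx
    -- the difference on the overlap
    have h1 : (β.app (op (m.V ⊓ W))).hom ((rs G inf_le_right g₁)⁻¹ * rs G inf_le_left m.g) = 1 := by
      rw [map_mul, map_inv, rs_app, rs_app, hg₁, m.hg, rs_rs, rs_rs, inv_mul_cancel]
    obtain ⟨f, hf⟩ := (hex _ _).1 h1
    obtain ⟨f', hf'⟩ := hfl W (m.V ⊓ W) inf_le_right f
    let g₂ : G.obj (op W) := g₁ * (α.app (op W)).hom f'
    have hg₂ : (β.app (op W)).hom g₂ = rs H hWU s := by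
      show (β.app (op W)).hom (g₁ * (α.app (op W)).hom f') = _
      rw [map_mul, hβα, mul_one, hg₁]
    have hcompat : rs G (inf_le_left : m.V ⊓ W ≤ m.V) m.g =
        rs G (inf_le_right : m.V ⊓ W ≤ W) g₂ := by
      show _ = rs G _ (g₁ * (α.app (op W)).hom f')
      rw [map_mul, ← rs_app, hf', hf, mul_inv_cancel_left]
    -- glue
    let Wc : Bool → Opens X := fun b => cond b m.V W
    have hWc : ∀ b, Wc b ≤ m.V ⊔ W := fun b => by
      cases b
      · exact le_sup_right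
      · exact le_sup_left
    have hcov : m.V ⊔ W ≤ iSup Wc := sup_le (le_iSup Wc true) (le_iSup Wc false)
    let sf : ∀ b : Bool, G.obj (op (Wc b)) := fun b =>
      match b with
      | true => m.g
      | false => g₂
    have hsf : ∀ b b', rs G (inf_le_left : Wc b ⊓ Wc b' ≤ Wc b) (sf b) =
        rs G (inf_le_right : Wc b ⊓ Wc b' ≤ Wc b') (sf b') := by
      rintro (_ | _) (_ | _)
      · rfl
      · have h2 := congrArg (rs G (le_of_eq (inf_comm _ _) : W ⊓ m.V ≤ m.V ⊓ W)) hcompat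
        rw [rs_rs, rs_rs] at h2
        exact h2.symm
      · exact hcompat
      · rfl
    obtain ⟨g₃, hg₃⟩ := glue G hG Wc (m.V ⊔ W) hWc hcov sf hsf
    have hVWU : m.V ⊔ W ≤ U := sup_le m.hV hWU
    have hβg₃ : (β.app (op (m.V ⊔ W))).hom g₃ = rs H hVWU s := by
      apply ext_of_cover H hH Wc (m.V ⊔ W) hWc hcov
      rintro (_ | _)
      · rw [← rs_app, hg₃ false, rs_rs]
        exact hg₂
      · rw [← rs_app, hg₃ true, rs_rs]
        exact m.hg
    have hle : PL.le m ⟨m.V ⊔ W, hVWU, g₃, hβg₃⟩ := ⟨le_sup_left, hg₃ true⟩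
    obtain ⟨h3, -⟩ := hm _ hle
    exact h3 (Or.inr hxW)
  refine ⟨rs G hUV m.g, ?_⟩
  rw [rs_app, m.hg, rs_rs, rs_self]

end Main

end Groth.Agent.Lib.FlasqueGrp
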