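import Mathlib
import Groth.Agent.Lib.FlatLocFP1_helper6

/-!
# Pointwise descent of flatness along a flat local base change

* `flat_of_faithfullyFlat_tensor`: if `B → B'` is faithfully flat, `N` a `B`-module and `B' ⊗[B] N`
  is flat over `R`, then `N` is flat over `R`.
* `flat_of_flat_atPrime`: a flat `R'`-module on which `R' ∖ p'` acts bijectively is flat over `R`
  as soon as `R'_{p'}` is flat over `R`.
* `exists_prime_pushout`: primes of a pushout over a compatible pair of primes.
* `flatAt_descent_point`: the pointwise descent statement.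
-/

set_option autoImplicit false
open TensorProduct

namespace Groth.Agent.Lib.FlatAtDescentH3

universe u

section D

variable {R B B' : Type u} [CommRing R] [CommRing B] [CommRing B'] [Algebra R B] [Algebra B B']
  [Algebra R B'] [IsScalarTower R B B']
  (N : Type u) [AddCommGroup N] [Module B N] [Module R N] [IsScalarTower R B N]

theorem flat_of_faithfullyFlat_tensor [Module.FaithfullyFlat B B']
    (h : Module.Flat R (B' ⊗[B] N)) : Module.Flat R N := by
  rw [Module.Flat.iff_lTensor_injective'] at h ⊢
  intro 𝔞
  have hcomm : ∀ x : (B' ⊗[B] N) ⊗[R] 𝔞,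
      (AlgebraTensorModule.assoc R B B' B' N R) ((𝔞.subtype.lTensor (B' ⊗[B] N)) x) =
        (LinearMap.lTensor B' (AlgebraTensorModule.lTensor B N 𝔞.subtype))
          ((AlgebraTensorModule.assoc R B B' B' N 𝔞) x) := by
    intro x
    induction x using TensorProduct.induction_on with
    | zero => simp
    | tmul y a =>
      induction y using TensorProduct.induction_on with
      | zero => simp
      | tmul b n => simp
      | add y1 y2 h1 h2 => simp only [TensorProduct.add_tmul, map_add, h1, h2]
    | add x1 x2 h1 h2 => simp only [map_add, h1, h2]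
  have key : Function.Injective
      (LinearMap.lTensor B' (AlgebraTensorModule.lTensor B N 𝔞.subtype)) := by
    intro x y hxy
    obtain ⟨x', rfl⟩ := (AlgebraTensorModule.assoc R B B' B' N 𝔞).surjective x
    obtain ⟨y', rfl⟩ := (AlgebraTensorModule.assoc R B B' B' N 𝔞).surjective y
    rw [← hcomm, ← hcomm] at hxy
    rw [h 𝔞 ((AlgebraTensorModule.assoc R B B' B' N R).injective hxy)]
  have := (Module.FaithfullyFlat.lTensor_injective_iff_injective B B'
    (AlgebraTensorModule.lTensor B N 𝔞.subtype)).mp key
  exact this

end D

section A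

variable {R R' : Type u} [CommRing R] [CommRing R'] [Algebra R R'] (p' : Ideal R') [p'.IsPrime]
  (N : Type u) [AddCommGroup N] [Module R' N] [Module R N] [IsScalarTower R R' N]

theorem flat_of_flat_atPrime (hflat : Module.Flat R (Localization.AtPrime p'))
    [Module.Flat R' N]
    (hunit : ∀ t ∈ p'.primeCompl, Function.Bijective (fun n : N => t • n)) :
    Module.Flat R N := by
  haveI : IsLocalizedModule p'.primeCompl (LinearMap.id : N →ₗ[R'] N) := by
    refine ⟨?_, ?_, ?_⟩
    · intro x
      rw [Module.End.isUnit_iff]
      exact hunit x.1 x.2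
    · intro y
      exact ⟨(y, 1), by simp⟩
    · intro x y h
      exact ⟨1, by simpa using h⟩
  have e : LocalizedModule p'.primeCompl N ≃ₗ[R'] N :=
    IsLocalizedModule.iso p'.primeCompl LinearMap.id
  haveI : Module.Flat (Localization.AtPrime p') (LocalizedModule p'.primeCompl N) :=
    inferInstance
  haveI : Module.Flat R (LocalizedModule p'.primeCompl N) :=
    Module.Flat.trans R (Localization.AtPrime p') _
  exact Module.Flat.of_linearEquiv (e.restrictScalars R).symm

end A

section P

variable {R S R' S' : Type u} [CommRing R] [CommRing S] [CommRing R'] [CommRing S']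
  [Algebra R S] [Algebra R R'] [Algebra S S'] [Algebra R' S'] [Algebra R S'] [IsScalarTower R S S']
  [IsScalarTower R R' S'] [Algebra.IsPushout R S R' S']

theorem exists_prime_tensor' {R A B : Type u} [CommRing R] [CommRing A] [CommRing B] [Algebra R A]
    [Algebra R B] (P : PrimeSpectrum A) (Q : PrimeSpectrum B)
    (h : PrimeSpectrum.comap (algebraMap R A) P = PrimeSpectrum.comap (algebraMap R B) Q) :
    ∃ r : PrimeSpectrum (A ⊗[R] B),
      PrimeSpectrum.comap (Algebra.TensorProduct.includeLeftRingHom) r = P ∧
      PrimeSpectrum.comap (Algebra.TensorProduct.includeRight.toRingHom) r = Q := by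
  have hpb := AlgebraicGeometry.isPullback_SpecMap_of_isPushout _ _ _ _
    (CommRingCat.isPushout_tensorProduct R A B)
  obtain ⟨p, hp1, hp2⟩ :=
    AlgebraicGeometry.Scheme.exists_preimage_of_isPullback hpb P Q h
  exact ⟨p, hp1, hp2⟩

theorem exists_prime_pushout (q : Ideal S) [q.IsPrime] (p' : Ideal R') [p'.IsPrime]
    (hqp : q.comap (algebraMap R S) = p'.comap (algebraMap R R')) :
    ∃ (q' : Ideal S') (_ : q'.IsPrime), q'.comap (algebraMap S S') = q ∧
      q'.comap (algebraMap R' S') = p' := by
  obtain ⟨r, hr1, hr2⟩ := exists_prime_tensor' (R := R) (A := S) (B := R') ⟨q, inferInstance⟩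
    ⟨p', inferInstance⟩ (PrimeSpectrum.ext hqp)
  refine ⟨r.asIdeal.comap (Algebra.IsPushout.equiv R S R' S').symm.toAlgHom.toRingHom,
    Ideal.comap_isPrime _ _, ?_, ?_⟩
  · have := congrArg PrimeSpectrum.asIdeal hr1
    simp only [PrimeSpectrum.comap_asIdeal] at this
    rw [← this, Ideal.comap_comap]
    congr 1
    ext s
    simp [Algebra.IsPushout.equiv_symm_algebraMap_left]
  · have := congrArg PrimeSpectrum.asIdeal hr2
    simp only [PrimeSpectrum.comap_asIdeal] at this
    rw [← this, Ideal.comap_comap]
    congr 1
    ext s
    simp [Algebra.IsPushout.equiv_symm_algebraMap_right]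

end P

section Main

variable {R S R' S' : Type u} [CommRing R] [CommRing S] [CommRing R'] [CommRing S']
  [Algebra R S] [Algebra R R'] [Algebra S S'] [Algebra R' S'] [Algebra R S'] [IsScalarTower R S S']
  [IsScalarTower R R' S'] [Algebra.IsPushout R S R' S']
  (M : Type u) [AddCommGroup M] [Module S M] [Module R M] [IsScalarTower R S M]

/-- Flatness of `S → S'_{q'}` when `R'_{p'}` is flat over `R`. -/
theorem flat_localization_pushout (q' : Ideal S') [q'.IsPrime]
    (hflat : Module.Flat R (Localization.AtPrime (q'.comap (algebraMap R' S')))) :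
    Module.Flat S (Localization.AtPrime q') := by
  have h0 : Module.Flat R
      (LocalizedModule (q'.comap (algebraMap R' S')).primeCompl R') :=
    (Groth.Agent.Lib.FlatLocFP1H6.flat_iff_of_isLocalizedModule (A := R)
      (q'.comap (algebraMap R' S')).primeCompl
      (Algebra.linearMap R' (Localization.AtPrime (q'.comap (algebraMap R' S'))))).mp hflat
  have h1 := Groth.Agent.Lib.FlatLocFP1H6.flat_baseChange_localized (A₁ := R) (R := S)
    (P₁ := R') (P := S') R' q' h0
  have h2 : Module.Flat S (LocalizedModule q'.primeCompl S') :=
    Groth.Agent.Lib.FlatLocFP1H6.flat_localizedModule_of_linearEquiv (A := S) q'.primeCompl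
      (AlgebraTensorModule.rid R' S' S') h1
  exact (Groth.Agent.Lib.FlatLocFP1H6.flat_iff_of_isLocalizedModule (A := S) q'.primeCompl
    (Algebra.linearMap S' (Localization.AtPrime q'))).mpr h2

theorem flatAt_descent_point (q' : Ideal S') [q'.IsPrime]
    (hflat : Module.Flat R (Localization.AtPrime (q'.comap (algebraMap R' S'))))
    (h : Module.Flat R' (LocalizedModule q'.primeCompl (S' ⊗[S] M))) :
    Module.Flat R (LocalizedModule (q'.comap (algebraMap S S')).primeCompl M) := by
  -- Step A: `M'_{q'}` is flat over `R`
  have hA : Module.Flat R (LocalizedModule q'.primeCompl (S' ⊗[S] M)) := by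
    haveI := h
    refine flat_of_flat_atPrime (R := R) (R' := R') (q'.comap (algebraMap R' S'))
      (LocalizedModule q'.primeCompl (S' ⊗[S] M)) hflat ?_
    intro t ht
    have ht' : algebraMap R' S' t ∈ q'.primeCompl := ht
    have hu := IsLocalizedModule.map_units (S := q'.primeCompl)
      (LocalizedModule.mkLinearMap q'.primeCompl (S' ⊗[S] M)) ⟨algebraMap R' S' t, ht'⟩
    rw [Module.End.isUnit_iff] at hu
    convert hu using 1
    ext n
    simp only [Module.algebraMap_end_apply]
    rw [algebraMap_smul]
  -- the local rings
  haveI hlo : q'.LiesOver (q'.comap (algebraMap S S')) := ⟨rfl⟩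
  letI := Localization.AtPrime.algebraOfLiesOver (q'.comap (algebraMap S S')) q'
  haveI hSfl : Module.Flat S (Localization.AtPrime q') := flat_localization_pushout q' hflat
  haveI hfl : Module.Flat (Localization.AtPrime (q'.comap (algebraMap S S')))
      (Localization.AtPrime q') := by
    rw [Module.flat_iff_of_isLocalization (Localization.AtPrime (q'.comap (algebraMap S S')))
      (q'.comap (algebraMap S S')).primeCompl]
    exact hSfl
  haveI : IsLocalHom (algebraMap (Localization.AtPrime (q'.comap (algebraMap S S')))
      (Localization.AtPrime q')) := by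
    rw [Localization.AtPrime.IsLiesOverAlgebra.algebraMap_eq]
    exact Localization.isLocalHom_localRingHom _ _ _ _
  haveI hff : Module.FaithfullyFlat (Localization.AtPrime (q'.comap (algebraMap S S')))
      (Localization.AtPrime q') := Module.FaithfullyFlat.of_flat_of_isLocalHom
  -- the comparison isomorphism
  let e1 := (IsLocalizedModule.isBaseChange q'.primeCompl (Localization.AtPrime q')
    (LocalizedModule.mkLinearMap q'.primeCompl (S' ⊗[S] M))).equiv
  let e2 := AlgebraTensorModule.cancelBaseChange S S' (Localization.AtPrime q')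
    (Localization.AtPrime q') M
  let e3 := AlgebraTensorModule.cancelBaseChange S
    (Localization.AtPrime (q'.comap (algebraMap S S'))) (Localization.AtPrime q')
    (Localization.AtPrime q') M
  let e4 := (IsLocalizedModule.isBaseChange (q'.comap (algebraMap S S')).primeCompl
    (Localization.AtPrime (q'.comap (algebraMap S S')))
    (LocalizedModule.mkLinearMap (q'.comap (algebraMap S S')).primeCompl M)).equiv
  let e5 := AlgebraTensorModule.congr
    (LinearEquiv.refl (Localization.AtPrime q') (Localization.AtPrime q')) e4
  let e := e1.symm ≪≫ₗ e2 ≪≫ₗ e3.symm ≪≫ₗ e5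
  have hD : Module.Flat R ((Localization.AtPrime q') ⊗[Localization.AtPrime
      (q'.comap (algebraMap S S'))] (LocalizedModule (q'.comap (algebraMap S S')).primeCompl M)) :=
    Module.Flat.of_linearEquiv (e.restrictScalars R).symm
  exact flat_of_faithfullyFlat_tensor (R := R)
    (B := Localization.AtPrime (q'.comap (algebraMap S S'))) (B' := Localization.AtPrime q') _ hD

end Main

end Groth.Agent.Lib.FlatAtDescentH3
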