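import Mathlib
import Groth.Prelude.Def_FlatCA
import Groth.Agent.Lib.FlatLocFP1_helper6
import Groth.Agent.Lib.FlatAtDescent_helper3
import Groth.Agent.Lib.Dev12231_lead

/-!
# Flatness above the closed points and flat local homomorphisms (lead)

For a flat ring map `B' → C'` and a `B'`-module `M'` (with compatible `A'`-structure), flatness over
`A'` of `C' ⊗[B'] M'` at a prime `Q` of `C'` is equivalent to flatness over `A'` of `M'` at the
contraction of `Q`.  `main1277` is the statement of S1277.
-/

set_option autoImplicit false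
set_option linter.unusedSimpArgs false
set_option linter.unusedVariables false
set_option linter.unusedSectionVars false
set_option linter.style.longLine false
set_option linter.style.haveILetI false
set_option linter.unnecessarySimpa false
set_option maxHeartbeats 1600000

namespace Groth.Agent.Lib.Flat1277

open TensorProduct IsLocalRing

universe u

section tensor

variable {A' B' C' : Type u} [CommRing A'] [CommRing B'] [CommRing C'] [Algebra A' B']
  [Algebra B' C'] [Algebra A' C'] [IsScalarTower A' B' C']
  (M' : Type u) [AddCommGroup M'] [Module B' M'] [Module A' M'] [IsScalarTower A' B' M']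

theorem assoc_nat (I : Ideal A') (η : (C' ⊗[B'] M') ⊗[A'] I) :
    (AlgebraTensorModule.lTensor C' C' (AlgebraTensorModule.lTensor B' M' I.subtype))
      (AlgebraTensorModule.assoc A' B' C' C' M' I η) =
    AlgebraTensorModule.assoc A' B' C' C' M' A' ((I.subtype.lTensor (C' ⊗[B'] M')) η) := by
  induction η using TensorProduct.induction_on with
  | zero => simp
  | add x y hx hy => simp only [map_add, hx, hy]
  | tmul p i =>
    induction p using TensorProduct.induction_on with
    | zero => simp
    | add x y hx hy => simp only [TensorProduct.add_tmul, map_add, hx, hy]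
    | tmul c m => simp

variable [Module.Flat B' C']

theorem flatAt_tensor_of_flatAt (Q : Ideal C') [Q.IsPrime]
    (h : FlatCA.FlatAt A' (Q.comap (algebraMap B' C')) M') :
    FlatCA.FlatAt A' Q (C' ⊗[B'] M') := by
  unfold FlatCA.FlatAt at h ⊢
  rw [Groth.Agent.Lib.FlatLocFP1H6.flat_localizedModule_iff] at h ⊢
  intro I η hη
  have hζ : AlgebraTensorModule.assoc A' B' C' C' M' I η ∈
      LinearMap.ker (AlgebraTensorModule.lTensor C' C'
        (AlgebraTensorModule.lTensor B' M' I.subtype)) := by
    rw [LinearMap.mem_ker, assoc_nat, hη, map_zero]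
  rw [Module.Flat.ker_lTensor_eq] at hζ
  obtain ⟨z, hz⟩ := hζ
  have key : ∀ z : C' ⊗[B'] (LinearMap.ker (AlgebraTensorModule.lTensor B' M' I.subtype)),
      ∃ t ∈ (Q.comap (algebraMap B' C')).primeCompl, t • z = 0 := by
    intro z
    induction z using TensorProduct.induction_on with
    | zero => exact ⟨1, Submonoid.one_mem _, by simp⟩
    | tmul c k =>
      have hk : (I.subtype.lTensor M') k.1 = 0 := LinearMap.mem_ker.mp k.2
      obtain ⟨t, ht, htk⟩ := h I k.1 hk
      refine ⟨t, ht, ?_⟩
      have h0 : t • k = 0 := Subtype.ext htk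
      rw [TensorProduct.smul_tmul', TensorProduct.smul_tmul, h0, TensorProduct.tmul_zero]
    | add x y hx hy =>
      obtain ⟨t1, ht1, h1⟩ := hx
      obtain ⟨t2, ht2, h2⟩ := hy
      refine ⟨t1 * t2, Submonoid.mul_mem _ ht1 ht2, ?_⟩
      have e1 : (t1 * t2) • x = 0 := by rw [mul_comm, mul_smul, h1, smul_zero]
      have e2 : (t1 * t2) • y = 0 := by rw [mul_smul, h2, smul_zero]
      rw [smul_add, e1, e2, add_zero]
  obtain ⟨t, ht, htz⟩ := key z
  refine ⟨algebraMap B' C' t, fun hmem => ht (Ideal.mem_comap.mpr hmem), ?_⟩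
  apply (AlgebraTensorModule.assoc A' B' C' C' M' I).injective
  rw [map_smul, map_zero, ← hz, ← map_smul, algebraMap_smul, htz, map_zero]

theorem flatAt_of_flatAt_tensor (Q : Ideal C') [Q.IsPrime]
    (h : FlatCA.FlatAt A' Q (C' ⊗[B'] M')) :
    FlatCA.FlatAt A' (Q.comap (algebraMap B' C')) M' := by
  unfold FlatCA.FlatAt at h ⊢
  rw [Groth.Agent.Lib.FlatLocFP1H6.flat_localizedModule_iff] at h ⊢
  intro I ξ hξ
  have hξ' : (AlgebraTensorModule.lTensor B' M' I.subtype) ξ = 0 := hξ
  have hη : (I.subtype.lTensor (C' ⊗[B'] M'))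
      ((AlgebraTensorModule.assoc A' B' C' C' M' I).symm ((1 : C') ⊗ₜ[B'] ξ)) = 0 := by
    apply (AlgebraTensorModule.assoc A' B' C' C' M' A').injective
    rw [← assoc_nat, LinearEquiv.apply_symm_apply, AlgebraTensorModule.lTensor_tmul, map_zero,
      hξ', TensorProduct.tmul_zero]
  obtain ⟨t, ht, htη⟩ := h I _ hη
  have h1 : t ⊗ₜ[B'] ξ = (0 : C' ⊗[B'] (M' ⊗[A'] I)) := by
    have h0 := congrArg (AlgebraTensorModule.assoc A' B' C' C' M' I) htη
    rw [map_smul, map_zero, LinearEquiv.apply_symm_apply, TensorProduct.smul_tmul', smul_eq_mul,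
      mul_one] at h0
    exact h0
  have h2 : (t ⊗ₜ[B'] (1 : B')) ∈ LinearMap.ker (AlgebraTensorModule.lTensor C' C'
      (LinearMap.toSpanSingleton B' (M' ⊗[A'] I) ξ)) := by
    rw [LinearMap.mem_ker, AlgebraTensorModule.lTensor_tmul, LinearMap.toSpanSingleton_apply,
      one_smul]
    exact h1
  rw [Module.Flat.ker_lTensor_eq] at h2
  obtain ⟨z, hz⟩ := h2
  have key : ∀ z : C' ⊗[B'] (LinearMap.ker (LinearMap.toSpanSingleton B' (M' ⊗[A'] I) ξ)),
      TensorProduct.rid B' C' (AlgebraTensorModule.lTensor C' C'
        (LinearMap.ker (LinearMap.toSpanSingleton B' (M' ⊗[A'] I) ξ)).subtype z) ∈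
      Ideal.map (algebraMap B' C')
        (LinearMap.ker (LinearMap.toSpanSingleton B' (M' ⊗[A'] I) ξ) : Ideal B') := by
    intro z
    induction z using TensorProduct.induction_on with
    | zero => simp
    | tmul c k =>
      rw [AlgebraTensorModule.lTensor_tmul, TensorProduct.rid_tmul, Submodule.subtype_apply,
        Algebra.smul_def]
      exact Ideal.mul_mem_right _ _ (Ideal.mem_map_of_mem _ k.2)
    | add x y hx hy =>
      rw [map_add, map_add]
      exact Ideal.add_mem _ hx hy
  have h3 : t ∈ Ideal.map (algebraMap B' C')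
      (LinearMap.ker (LinearMap.toSpanSingleton B' (M' ⊗[A'] I) ξ) : Ideal B') := by
    have h0 := key z
    rw [hz, TensorProduct.rid_tmul, one_smul] at h0
    exact h0
  by_contra hcon
  push_neg at hcon
  have h4 : (LinearMap.ker (LinearMap.toSpanSingleton B' (M' ⊗[A'] I) ξ) : Ideal B') ≤
      Q.comap (algebraMap B' C') := by
    intro b hb
    by_contra hbq
    refine hcon b hbq ?_
    rw [LinearMap.mem_ker, LinearMap.toSpanSingleton_apply] at hb
    exact hb
  exact ht (Ideal.map_le_iff_le_comap.mpr h4 h3)

end tensor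

theorem aux1277 {A B C : Type u} [CommRing A] [CommRing B] [IsLocalRing B]
    [CommRing C] [IsLocalRing C]
    [Algebra A B] [Algebra B C] [IsLocalHom (algebraMap B C)]
    [Algebra A C] [IsScalarTower A B C] [Module.Flat B C]
    (M : Type u) [AddCommGroup M] [Module B M] (N : Type u) [AddCommGroup N] [Module C N] [Module B N] [IsScalarTower B C N]
    (g : M →ₗ[B] N) (hg : IsBaseChange C g)
    (A' : Type u) [CommRing A'] [IsLocalRing A'] [Algebra A A']
    (B' M' : Type u) [CommRing B'] [Algebra B B'] [Algebra A' B'] [Algebra A B'] [IsScalarTower A B B'] [IsScalarTower A A' B']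
        [Algebra.IsPushout A B A' B']
        [AddCommGroup M'] [Module B' M'] [Module B M'] [IsScalarTower B B' M'] [Module A' M'] [IsScalarTower A' B' M']
        (fB : M →ₗ[B] M') (hfB : IsBaseChange B' fB)
    (C' N' : Type u) [CommRing C'] [Algebra C C'] [Algebra A' C'] [Algebra A C'] [IsScalarTower A C C'] [IsScalarTower A A' C']
        [Algebra.IsPushout A C A' C']
        [AddCommGroup N'] [Module C' N'] [Module C N'] [IsScalarTower C C' N'] [Module A' N'] [IsScalarTower A' C' N']
        (fC : N →ₗ[C] N') (hfC : IsBaseChange C' fC)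
    [Algebra B' C'] [IsScalarTower A' B' C'] [Algebra B C'] [IsScalarTower B B' C']
    [IsScalarTower B C C'] [Module B' N'] [IsScalarTower B' C' N']
    [Module B N'] [IsScalarTower B C N'] [IsScalarTower B C' N'] [IsScalarTower B B' N'] :
    FlatCA.FlatAboveClosedPoints B A' B' M' ↔ FlatCA.FlatAboveClosedPoints C A' C' N' := by
  haveI : Algebra.IsPushout A A' B B' := Algebra.IsPushout.symm inferInstance
  haveI : Algebra.IsPushout A A' C C' := Algebra.IsPushout.symm inferInstance
  haveI hpo : Algebra.IsPushout B B' C C' :=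
    Groth.Agent.Lib.Dev12231.isPushout_right A B A' B' C C'
  haveI hpo' : Algebra.IsPushout B C B' C' := Algebra.IsPushout.symm hpo
  haveI : Module.Flat B' C' := Module.Flat.isBaseChange (R := B) (M := C) (S := B') C' hpo.out
  have hk : IsBaseChange C' ((fC.restrictScalars B).comp g) := IsBaseChange.comp hg hfC
  let h : M' →ₗ[B'] N' := hfB.lift ((fC.restrictScalars B).comp g)
  have hh : IsBaseChange C' h := IsBaseChange.of_comp hfB (by rw [hfB.lift_comp]; exact hk)
  let e : C' ⊗[B'] M' ≃ₗ[C'] N' := hh.equiv
  unfold FlatCA.FlatAboveClosedPoints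
  constructor
  · intro H Q _ hQ
    have hmap : ((maximalIdeal A').map (algebraMap A' B') ⊔
        (maximalIdeal B).map (algebraMap B B')).map (algebraMap B' C') ≤
        (maximalIdeal A').map (algebraMap A' C') ⊔ (maximalIdeal C).map (algebraMap C C') := by
      rw [Ideal.map_sup, Ideal.map_map, Ideal.map_map, ← IsScalarTower.algebraMap_eq,
        ← IsScalarTower.algebraMap_eq, IsScalarTower.algebraMap_eq B C C', ← Ideal.map_map]
      exact sup_le_sup le_rfl (Ideal.map_mono (IsLocalRing.map_maximalIdeal_le (algebraMap B C)))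
    have hq := Ideal.map_le_iff_le_comap.mp (hmap.trans hQ)
    have h1 := flatAt_tensor_of_flatAt (A' := A') M' Q (H _ hq)
    unfold FlatCA.FlatAt at h1 ⊢
    exact Groth.Agent.Lib.FlatLocFP1H6.flat_localizedModule_of_linearEquiv (A := A')
      Q.primeCompl e h1
  · intro H q _ hq
    have hB : (maximalIdeal B).map (algebraMap B B') ≤ q := le_sup_right.trans hq
    have hA' : (maximalIdeal A').map (algebraMap A' B') ≤ q := le_sup_left.trans hq
    have hqpr : (q.comap (algebraMap B B')).IsPrime := inferInstance
    have hqB : q.comap (algebraMap B B') = maximalIdeal B :=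
      le_antisymm (IsLocalRing.le_maximalIdeal hqpr.ne_top) (Ideal.map_le_iff_le_comap.mp hB)
    obtain ⟨Q, hQp, hQC, hQq⟩ := Groth.Agent.Lib.FlatAtDescentH3.exists_prime_pushout
      (R := B) (S := C) (R' := B') (S' := C') (maximalIdeal C) q
      (by rw [IsLocalRing.maximalIdeal_comap, hqB])
    haveI := hQp
    subst hQq
    have hJC : (maximalIdeal A').map (algebraMap A' C') ⊔
        (maximalIdeal C).map (algebraMap C C') ≤ Q := by
      refine sup_le ?_ (Ideal.map_le_iff_le_comap.mpr hQC.ge)
      rw [IsScalarTower.algebraMap_eq A' B' C', ← Ideal.map_map]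
      exact Ideal.map_le_iff_le_comap.mpr hA'
    have h2 := H Q hJC
    have h3 : FlatCA.FlatAt A' Q (C' ⊗[B'] M') := by
      unfold FlatCA.FlatAt at h2 ⊢
      exact Groth.Agent.Lib.FlatLocFP1H6.flat_localizedModule_of_linearEquiv (A := A')
        Q.primeCompl e.symm h2
    exact flatAt_of_flatAt_tensor (A' := A') M' Q h3

theorem main1277 {A B C : Type u} [CommRing A] [IsLocalRing A] [CommRing B] [IsLocalRing B] [CommRing C] [IsLocalRing C]
    [Algebra A B] [IsLocalHom (algebraMap A B)] [Algebra B C] [IsLocalHom (algebraMap B C)] [Algebra A C] [IsScalarTower A B C] [Module.Flat B C]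
    (M : Type u) [AddCommGroup M] [Module B M] (N : Type u) [AddCommGroup N] [Module C N] [Module B N] [IsScalarTower B C N]
    (g : M →ₗ[B] N) (hg : IsBaseChange C g)
    (A' : Type u) [CommRing A'] [IsLocalRing A'] [Algebra A A'] [IsLocalHom (algebraMap A A')]
    (B' M' : Type u) [CommRing B'] [Algebra B B'] [Algebra A' B'] [Algebra A B'] [IsScalarTower A B B'] [IsScalarTower A A' B']
        [Algebra.IsPushout A B A' B']
        [AddCommGroup M'] [Module B' M'] [Module B M'] [IsScalarTower B B' M'] [Module A' M'] [IsScalarTower A' B' M']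
        (fB : M →ₗ[B] M') (hfB : IsBaseChange B' fB)
    (C' N' : Type u) [CommRing C'] [Algebra C C'] [Algebra A' C'] [Algebra A C'] [IsScalarTower A C C'] [IsScalarTower A A' C']
        [Algebra.IsPushout A C A' C']
        [AddCommGroup N'] [Module C' N'] [Module C N'] [IsScalarTower C C' N'] [Module A' N'] [IsScalarTower A' C' N']
        (fC : N →ₗ[C] N') (hfC : IsBaseChange C' fC) :
    FlatCA.FlatAboveClosedPoints B A' B' M' ↔ FlatCA.FlatAboveClosedPoints C A' C' N' := by
  letI algBC' : Algebra B C' := ((algebraMap C C').comp (algebraMap B C)).toAlgebra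
  haveI : IsScalarTower B C C' := IsScalarTower.of_algebraMap_eq fun x => rfl
  let f : B →ₐ[A] C' := (IsScalarTower.toAlgHom A C C').comp (IsScalarTower.toAlgHom A B C)
  let g' : A' →ₐ[A] C' := IsScalarTower.toAlgHom A A' C'
  let φ : B' →ₐ[A] C' := Algebra.pushoutDesc B' f g' (fun _ _ => mul_comm _ _)
  letI algB'C' : Algebra B' C' := φ.toRingHom.toAlgebra
  haveI : IsScalarTower A' B' C' := IsScalarTower.of_algebraMap_eq fun x => by
    show algebraMap A' C' x = φ (algebraMap A' B' x)
    rw [Algebra.pushoutDesc_right]; rfl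
  haveI : IsScalarTower B B' C' := IsScalarTower.of_algebraMap_eq fun x => by
    show algebraMap C C' (algebraMap B C x) = φ (algebraMap B B' x)
    rw [Algebra.pushoutDesc_left]; rfl
  letI : Module B' N' := Module.compHom N' (algebraMap B' C')
  haveI : IsScalarTower B' C' N' := ⟨fun b c n => by
    show (b • c) • n = algebraMap B' C' b • c • n
    rw [Algebra.smul_def, mul_smul]⟩
  letI : Module B N' := Module.compHom N' (algebraMap B C)
  haveI : IsScalarTower B C N' := ⟨fun b c n => by
    show (b • c) • n = algebraMap B C b • c • n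
    rw [Algebra.smul_def, mul_smul]⟩
  haveI : IsScalarTower B C' N' := IsScalarTower.of_algebraMap_smul fun b n => by
    show algebraMap C C' (algebraMap B C b) • n = algebraMap B C b • n
    rw [algebraMap_smul]
  haveI : IsScalarTower B B' N' := IsScalarTower.of_algebraMap_smul fun b n => by
    show algebraMap B' C' (algebraMap B B' b) • n = algebraMap B C b • n
    rw [← IsScalarTower.algebraMap_apply B B' C']
    exact algebraMap_smul C' (algebraMap B C b) n
  exact aux1277 (A := A) M N g hg A' B' M' fB hfB C' N' fC hfC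

end Groth.Agent.Lib.Flat1277
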