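import Mathlib
import Groth.Prelude.Def_FlatCA
import Groth.Agent.Lib.Flat1277_lead

/-!
# Flatness and elementary dévissages (lead)

Transfer of flatness of localized modules along a flat base change (`flat_loc_tensor_of_flat_loc`),
along an unramified essentially-finite-type base (`flat_of_flat_of_unramified`), along cofinal
multiplicative sets (`flat_loc_of_map`, `flat_loc_of_dvd`), and along a finite map with a unique
prime over a given one (`exists_mul_eq_algebraMap`).  `main1250` is the statement of S1250.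
-/

set_option autoImplicit false
set_option linter.unusedSimpArgs false
set_option linter.unusedVariables false
set_option linter.unusedSectionVars false
set_option linter.style.longLine false
set_option linter.style.haveILetI false
set_option linter.unnecessarySimpa false
set_option maxHeartbeats 1600000

namespace Groth.Agent.Lib.Flat1250

open TensorProduct

universe u

section tensor

variable {A' B' C' : Type u} [CommRing A'] [CommRing B'] [CommRing C'] [Algebra A' B']
  [Algebra B' C'] [Algebra A' C'] [IsScalarTower A' B' C']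
  (M' : Type u) [AddCommGroup M'] [Module B' M'] [Module A' M'] [IsScalarTower A' B' M']

variable [Module.Flat B' C']

theorem flat_loc_tensor_of_flat_loc (T : Submonoid B') (T' : Submonoid C')
    (hT : ∀ t ∈ T, algebraMap B' C' t ∈ T')
    (h : Module.Flat A' (LocalizedModule T M')) :
    Module.Flat A' (LocalizedModule T' (C' ⊗[B'] M')) := by
  rw [Groth.Agent.Lib.FlatLocFP1H6.flat_localizedModule_iff] at h ⊢
  intro I η hη
  have hζ : AlgebraTensorModule.assoc A' B' C' C' M' I η ∈
      LinearMap.ker (AlgebraTensorModule.lTensor C' C'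
        (AlgebraTensorModule.lTensor B' M' I.subtype)) := by
    rw [LinearMap.mem_ker, Groth.Agent.Lib.Flat1277.assoc_nat, hη, map_zero]
  rw [Module.Flat.ker_lTensor_eq] at hζ
  obtain ⟨z, hz⟩ := hζ
  have key : ∀ z : C' ⊗[B'] (LinearMap.ker (AlgebraTensorModule.lTensor B' M' I.subtype)),
      ∃ t ∈ T, t • z = 0 := by
    intro z
    induction z using TensorProduct.induction_on with
    | zero => exact ⟨1, Submonoid.one_mem _, by simp⟩
    | tmul c k =>
      have hk : (I.subtype.lTensor M') k.1 = 0 := LinearMap.mem_ker.mp k.2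
      obtain ⟨t, ht, htk⟩ := h I k.1 hk
      refine ⟨t, ht, ?_⟩
      have h0 : t • k = 0 := Subtype.ext htk
      rw [TensorProduct.smul_tmul', TensorProduct.smul_tmul, h0, TensorProduct.tmul_zero]
    | add x y hx hy =>
      obtain ⟨t1, ht1, h1⟩ := hx
      obtain ⟨t2, ht2, h2⟩ := hy
      refine ⟨t1 * t2, Submonoid.mul_mem _ ht1 ht2, ?_⟩
      have e1 : (t1 * t2) • x = 0 := by rw [mul_comm, mul_smul, h1, smul_zero]
      have e2 : (t1 * t2) • y = 0 := by rw [mul_smul, h2, smul_zero]
      rw [smul_add, e1, e2, add_zero]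
  obtain ⟨t, ht, htz⟩ := key z
  refine ⟨algebraMap B' C' t, hT t ht, ?_⟩
  apply (AlgebraTensorModule.assoc A' B' C' C' M' I).injective
  rw [map_smul, map_zero, ← hz, ← map_smul, algebraMap_smul, htz, map_zero]

theorem lTensor_assoc_symm_one_tmul (I : Ideal A') (ξ : M' ⊗[A'] I)
    (hξ : (I.subtype.lTensor M') ξ = 0) :
    (I.subtype.lTensor (C' ⊗[B'] M'))
      ((AlgebraTensorModule.assoc A' B' C' C' M' I).symm ((1 : C') ⊗ₜ[B'] ξ)) = 0 := by
  have hξ' : (AlgebraTensorModule.lTensor B' M' I.subtype) ξ = 0 := hξ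
  apply (AlgebraTensorModule.assoc A' B' C' C' M' A').injective
  rw [← Groth.Agent.Lib.Flat1277.assoc_nat, LinearEquiv.apply_symm_apply,
    AlgebraTensorModule.lTensor_tmul, map_zero, hξ', TensorProduct.tmul_zero]

theorem mem_map_ann_of_smul_eq_zero (I : Ideal A') (ξ : M' ⊗[A'] I) (t : C')
    (htη : t • ((AlgebraTensorModule.assoc A' B' C' C' M' I).symm ((1 : C') ⊗ₜ[B'] ξ)) = 0) :
    t ∈ Ideal.map (algebraMap B' C')
        (LinearMap.ker (LinearMap.toSpanSingleton B' (M' ⊗[A'] I) ξ) : Ideal B') := by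
  have h1 : t ⊗ₜ[B'] ξ = (0 : C' ⊗[B'] (M' ⊗[A'] I)) := by
    have h0 := congrArg (AlgebraTensorModule.assoc A' B' C' C' M' I) htη
    rw [map_smul, map_zero, LinearEquiv.apply_symm_apply, TensorProduct.smul_tmul', smul_eq_mul,
      mul_one] at h0
    exact h0
  have h2 : (t ⊗ₜ[B'] (1 : B')) ∈ LinearMap.ker (AlgebraTensorModule.lTensor C' C'
      (LinearMap.toSpanSingleton B' (M' ⊗[A'] I) ξ)) := by
    rw [LinearMap.mem_ker, AlgebraTensorModule.lTensor_tmul, LinearMap.toSpanSingleton_apply,
      one_smul]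
    exact h1
  rw [Module.Flat.ker_lTensor_eq] at h2
  obtain ⟨z, hz⟩ := h2
  have key : ∀ z : C' ⊗[B'] (LinearMap.ker (LinearMap.toSpanSingleton B' (M' ⊗[A'] I) ξ)),
      TensorProduct.rid B' C' (AlgebraTensorModule.lTensor C' C'
        (LinearMap.ker (LinearMap.toSpanSingleton B' (M' ⊗[A'] I) ξ)).subtype z) ∈
      Ideal.map (algebraMap B' C')
        (LinearMap.ker (LinearMap.toSpanSingleton B' (M' ⊗[A'] I) ξ) : Ideal B') := by
    intro z
    induction z using TensorProduct.induction_on with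
    | zero => simp
    | tmul c k =>
      rw [AlgebraTensorModule.lTensor_tmul, TensorProduct.rid_tmul, Submodule.subtype_apply,
        Algebra.smul_def]
      exact Ideal.mul_mem_right _ _ (Ideal.mem_map_of_mem _ k.2)
    | add x y hx hy =>
      rw [map_add, map_add]
      exact Ideal.add_mem _ hx hy
  have h0 := key z
  rw [hz, TensorProduct.rid_tmul, one_smul] at h0
  exact h0

end tensor

section unram

variable {A B : Type u} [CommRing A] [CommRing B] [Algebra A B]
  (M : Type u) [AddCommGroup M] [Module A M] [Module B M] [IsScalarTower A B M]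

/-- `(a ⊗ b) ⊗ m ↦ a ⊗ (b • m)`. -/
noncomputable def psi : (B ⊗[A] B) ⊗[A] M →ₗ[A] B ⊗[A] M :=
  ((((LinearMap.id : M →ₗ[A] M).liftBaseChange B).restrictScalars A).lTensor B) ∘ₗ
    (TensorProduct.assoc A B B M).toLinearMap

theorem psi_tmul (a b : B) (m : M) : psi M ((a ⊗ₜ[A] b) ⊗ₜ[A] m) = a ⊗ₜ[A] (b • m) := by
  simp [psi]

theorem psi_one_tmul_mul (s : B) (x : B ⊗[A] B) (m : M) :
    psi M ((((1 : B) ⊗ₜ[A] s) * x) ⊗ₜ[A] m) = psi M (x ⊗ₜ[A] (s • m)) := by
  induction x using TensorProduct.induction_on with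
  | zero => simp
  | tmul a b =>
    rw [Algebra.TensorProduct.tmul_mul_tmul, psi_tmul, psi_tmul, one_mul, mul_comm s b, mul_smul]
  | add x y hx hy => simp only [mul_add, TensorProduct.add_tmul, map_add, hx, hy]

theorem psi_tmul_one_mul (s : B) (x : B ⊗[A] B) (m : M) :
    psi M (((s ⊗ₜ[A] (1 : B)) * x) ⊗ₜ[A] m) = s • psi M (x ⊗ₜ[A] m) := by
  induction x using TensorProduct.induction_on with
  | zero => simp
  | tmul a b =>
    rw [Algebra.TensorProduct.tmul_mul_tmul, psi_tmul, psi_tmul, one_mul,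
      TensorProduct.smul_tmul', smul_eq_mul]
  | add x y hx hy => simp only [mul_add, TensorProduct.add_tmul, map_add, smul_add, hx, hy]

theorem lift_psi (x : B ⊗[A] B) (m : M) :
    ((LinearMap.id : M →ₗ[A] M).liftBaseChange B) (psi M (x ⊗ₜ[A] m)) =
      (Algebra.TensorProduct.lmul' A x) • m := by
  induction x using TensorProduct.induction_on with
  | zero => simp
  | tmul a b =>
    rw [psi_tmul, LinearMap.liftBaseChange_tmul, LinearMap.id_apply,
      Algebra.TensorProduct.lmul'_apply_tmul, mul_smul]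
  | add x y hx hy => simp only [TensorProduct.add_tmul, map_add, add_smul, hx, hy]

/-- An `A`-flat module over a formally unramified, essentially finite type `A`-algebra `B` is
`B`-flat: it is a retract of its base change. -/
theorem flat_of_flat_of_unramified [Algebra.FormallyUnramified A B] [Algebra.EssFiniteType A B]
    [Module.Flat A M] : Module.Flat B M := by
  let σ : M →ₗ[B] B ⊗[A] M :=
    { toFun := fun m => psi M ((Algebra.FormallyUnramified.elem A B) ⊗ₜ[A] m)
      map_add' := fun m n => by rw [TensorProduct.tmul_add, map_add]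
      map_smul' := fun s m => by
        rw [RingHom.id_apply, ← psi_one_tmul_mul, Algebra.FormallyUnramified.one_tmul_mul_elem,
          psi_tmul_one_mul] }
  refine Module.Flat.of_retract (R := B) (M := B ⊗[A] M) σ
    ((LinearMap.id : M →ₗ[A] M).liftBaseChange B) ?_
  refine LinearMap.ext fun m => ?_
  show ((LinearMap.id : M →ₗ[A] M).liftBaseChange B)
    (psi M ((Algebra.FormallyUnramified.elem A B) ⊗ₜ[A] m)) = m
  rw [lift_psi, Algebra.FormallyUnramified.lmul_elem, one_smul]

end unram

section cofinal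

variable {R' D C : Type u} [CommRing R'] [CommRing D] [CommRing C] [Algebra R' D] [Algebra D C]
  [Algebra R' C] [IsScalarTower R' D C]
  (G : Type u) [AddCommGroup G] [Module C G] [Module D G] [IsScalarTower D C G] [Module R' G]
  [IsScalarTower R' C G] [IsScalarTower R' D G]

theorem flat_loc_of_map (TD : Submonoid D) (TC : Submonoid C)
    (h1 : ∀ d ∈ TD, algebraMap D C d ∈ TC)
    (h : Module.Flat R' (LocalizedModule TD G)) : Module.Flat R' (LocalizedModule TC G) := by
  rw [Groth.Agent.Lib.FlatLocFP1H6.flat_localizedModule_iff] at h ⊢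
  intro I ξ hξ
  obtain ⟨d, hd, h0⟩ := h I ξ hξ
  refine ⟨algebraMap D C d, h1 d hd, ?_⟩
  rw [algebraMap_smul]
  exact h0

theorem flat_loc_of_dvd (TD : Submonoid D) (TC : Submonoid C)
    (h2 : ∀ t ∈ TC, ∃ (c : C) (d : D), d ∈ TD ∧ c * t = algebraMap D C d)
    (h : Module.Flat R' (LocalizedModule TC G)) : Module.Flat R' (LocalizedModule TD G) := by
  rw [Groth.Agent.Lib.FlatLocFP1H6.flat_localizedModule_iff] at h ⊢
  intro I ξ hξ
  obtain ⟨t, ht, h0⟩ := h I ξ hξ
  obtain ⟨c, d, hd, hcd⟩ := h2 t ht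
  refine ⟨d, hd, ?_⟩
  rw [← algebraMap_smul C d ξ, ← hcd, mul_smul c t ξ, h0, smul_zero]

end cofinal

section key

variable {D C : Type u} [CommRing D] [CommRing C] [Algebra D C] [Algebra.IsIntegral D C]

theorem exists_mul_eq_algebraMap (y : Ideal D) [y.IsPrime] (z : Ideal C) [z.IsPrime]
    (uniq : ∀ (z₁ : Ideal C) [z₁.IsPrime], z₁.LiesOver y → z₁ = z) (t : C) (ht : t ∉ z) :
    ∃ (c : C) (d : D), d ∉ y ∧ c * t = algebraMap D C d := by
  by_contra hcon
  have hcon' : ∀ (c : C) (d : D), d ∉ y → c * t ≠ algebraMap D C d := by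
    intro c d hd heq
    exact hcon ⟨c, d, hd, heq⟩
  have hdisj : Disjoint ((Ideal.span {t} : Ideal C) : Set C)
      (Algebra.algebraMapSubmonoid C y.primeCompl : Set C) := by
    rw [Set.disjoint_left]
    rintro x hx ⟨d, hd, rfl⟩
    obtain ⟨c, hc⟩ := Ideal.mem_span_singleton'.1 hx
    exact hcon' c d hd hc
  obtain ⟨P, hP, hJP, hPT⟩ := Ideal.exists_le_prime_disjoint (I := Ideal.span {t})
    (Algebra.algebraMapSubmonoid C y.primeCompl) hdisj
  have hle : P.comap (algebraMap D C) ≤ y := by
    intro d hd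
    by_contra hdy
    exact Set.disjoint_left.1 hPT hd ⟨d, hdy, rfl⟩
  obtain ⟨Q, hPQ, hQ, hQy⟩ := Ideal.exists_ideal_over_prime_of_isIntegral y P hle
  haveI := hQ
  have hQz : Q = z := uniq Q ⟨hQy.symm⟩
  exact ht (hQz ▸ hPQ (hJP (Ideal.mem_span_singleton_self t)))

end key

theorem isScalarTower_localizedModule {A B P : Type u} [CommRing A] [CommRing B] [CommRing P]
    [Algebra A B] [Algebra B P] [Algebra A P] [IsScalarTower A B P]
    (T : Submonoid P) (M : Type u) [AddCommGroup M] [Module P M] [Module A M] [Module B M]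
    [IsScalarTower A P M] [IsScalarTower B P M] [IsScalarTower A B M] :
    IsScalarTower A B (LocalizedModule T M) := by
  refine ⟨fun a b x => ?_⟩
  induction x using LocalizedModule.induction_on with
  | h m s =>
    rw [LocalizedModule.smul'_mk, LocalizedModule.smul'_mk, LocalizedModule.smul'_mk, smul_assoc]

theorem flatAt_congr {R S : Type u} [CommRing R] [CommRing S] [Algebra R S] (N : Type u)
    [AddCommGroup N] [Module S N] [Module R N] [IsScalarTower R S N]
    {q1 q2 : Ideal S} [h1 : q1.IsPrime] [h2 : q2.IsPrime] (h : q1 = q2) :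
    FlatCA.FlatAt R q1 N ↔ FlatCA.FlatAt R q2 N := by
  subst h
  exact Iff.rfl

theorem exists_basicOpen_flat {R S S' : Type u} [CommRing R] [CommRing S] [CommRing S']
    [Algebra R S] [Algebra S S'] [Algebra R S'] [IsScalarTower R S S']
    [Module.Flat S S'] [Algebra.FinitePresentation S S']
    (N : Type u) [AddCommGroup N] [Module S N] [Module R N] [IsScalarTower R S N]
    (q : Ideal S) [q.IsPrime] (q' : Ideal S') [q'.IsPrime]
    (hq : q'.comap (algebraMap S S') = q) (g₁ : S') (hg₁ : g₁ ∉ q')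
    (h : Module.Flat R (LocalizedModule (Submonoid.powers g₁) (S' ⊗[S] N))) :
    ∃ g : S, g ∉ q ∧ Module.Flat R (LocalizedModule (Submonoid.powers g) N) := by
  have hopen : IsOpen ((PrimeSpectrum.comap (algebraMap S S')) ''
      (PrimeSpectrum.basicOpen g₁ : Set (PrimeSpectrum S'))) :=
    PrimeSpectrum.isOpenMap_comap_of_hasGoingDown_of_finitePresentation _
      (PrimeSpectrum.basicOpen g₁).2
  have hqU : (⟨q, inferInstance⟩ : PrimeSpectrum S) ∈ (PrimeSpectrum.comap (algebraMap S S')) ''
      (PrimeSpectrum.basicOpen g₁ : Set (PrimeSpectrum S')) := by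
    refine ⟨⟨q', inferInstance⟩, hg₁, ?_⟩
    exact PrimeSpectrum.ext hq
  obtain ⟨_, ⟨g, rfl⟩, hqg, hgU⟩ :=
    PrimeSpectrum.isTopologicalBasis_basic_opens.exists_subset_of_mem_open hqU hopen
  have hgq : g ∉ q := hqg
  refine ⟨g, hgq, ?_⟩
  rw [Groth.Agent.Lib.FlatLocFP1H6.flat_localizedModule_iff] at h ⊢
  intro I ξ hξ
  obtain ⟨t, ht, htη⟩ := h I _ (lTensor_assoc_symm_one_tmul N I ξ hξ)
  obtain ⟨k, rfl⟩ := (Submonoid.mem_powers_iff _ _).1 ht
  have h3 := mem_map_ann_of_smul_eq_zero N I ξ (g₁ ^ k) htη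
  have hrad : g ∈ Ideal.radical (LinearMap.ker (LinearMap.toSpanSingleton S (N ⊗[R] I) ξ) : Ideal S) := by
    rw [Ideal.radical_eq_sInf, Ideal.mem_sInf]
    rintro P ⟨hJP, hP⟩
    by_contra hgP
    have hPU : (⟨P, hP⟩ : PrimeSpectrum S) ∈ (PrimeSpectrum.comap (algebraMap S S')) ''
        (PrimeSpectrum.basicOpen g₁ : Set (PrimeSpectrum S')) :=
      hgU (show (⟨P, hP⟩ : PrimeSpectrum S) ∈ (PrimeSpectrum.basicOpen g : Set _) from hgP)
    obtain ⟨P', hP'g, hP'⟩ := hPU
    have hcomap : P'.asIdeal.comap (algebraMap S S') = P := congrArg PrimeSpectrum.asIdeal hP'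
    have hle : Ideal.map (algebraMap S S')
        (LinearMap.ker (LinearMap.toSpanSingleton S (N ⊗[R] I) ξ) : Ideal S) ≤ P'.asIdeal := by
      rw [Ideal.map_le_iff_le_comap, hcomap]
      exact hJP
    exact (PrimeSpectrum.mem_basicOpen g₁ P').1 hP'g (P'.isPrime.mem_of_pow_mem k (hle h3))
  obtain ⟨m, hm⟩ := Ideal.mem_radical_iff.1 hrad
  refine ⟨g ^ m, (Submonoid.mem_powers_iff _ _).2 ⟨m, rfl⟩, ?_⟩
  rw [LinearMap.mem_ker, LinearMap.toSpanSingleton_apply] at hm
  exact hm

theorem core {R S R' S' C D : Type u} [CommRing R] [CommRing S] [CommRing R'] [CommRing S']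
    [CommRing C] [CommRing D]
    [Algebra R S] [Algebra R R'] [Algebra S S'] [Algebra R' S'] [Algebra R S']
    [IsScalarTower R R' S'] [IsScalarTower R S S']
    [Algebra S' C] [Algebra D C] [Algebra R' D] [Algebra R' C] [IsScalarTower R' D C]
    [IsScalarTower R' S' C]
    [Algebra.Etale R R'] [Algebra.Etale S S'] [Module.Finite D C]
    (N N' G : Type u) [AddCommGroup N] [Module S N] [Module R N] [IsScalarTower R S N]
    [AddCommGroup N'] [Module S' N'] [Module S N'] [IsScalarTower S S' N']
    [Module R' N'] [IsScalarTower R' S' N'] [Module R N'] [IsScalarTower R S' N']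
    [IsScalarTower R R' N']
    [AddCommGroup G] [Module C G] [Module S' G] [IsScalarTower S' C G] [Module D G]
    [IsScalarTower D C G] [Module R' G] [IsScalarTower R' C G] [IsScalarTower R' D G]
    [IsScalarTower R' S' G]
    (q : Ideal S) [q.IsPrime] (q' : Ideal S') [q'.IsPrime] [q'.LiesOver q]
    (z : Ideal C) [z.IsPrime] [z.LiesOver q'] (y : Ideal D) [y.IsPrime] [z.LiesOver y]
    (f : N →ₗ[S] N') (hf : IsBaseChange S' f) (hsurj : Function.Surjective (algebraMap S' C))
    (iso : N' ≃ₗ[S'] G)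
    (uniq : ∀ (z₁ : Ideal C) [z₁.IsPrime], z₁.LiesOver y → z₁ = z) :
    [FlatCA.FlatAt R q N, FlatCA.FlatAt R' z G, FlatCA.FlatAt R' y G].TFAE ∧
    [∃ g : S, g ∉ q ∧ Module.Flat R (LocalizedModule (Submonoid.powers g) N),
     ∃ g : C, g ∉ z ∧ Module.Flat R' (LocalizedModule (Submonoid.powers g) G),
     ∃ g : D, g ∉ y ∧ Module.Flat R' (LocalizedModule (Submonoid.powers g) G)].TFAE := by
  haveI : Module.Flat R R' := inferInstance
  haveI : Module.Flat S S' := inferInstance
  haveI : Algebra.IsIntegral D C := inferInstance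
  let e₁ : S' ⊗[S] N ≃ₗ[S'] N' := hf.equiv
  have hq : q'.comap (algebraMap S S') = q := (Ideal.over_def q' q).symm
  have hzq : z.comap (algebraMap S' C) = q' := (Ideal.over_def z q').symm
  have hzy : z.comap (algebraMap D C) = y := (Ideal.over_def z y).symm
  have up : ∀ (T : Submonoid S) (T₁ : Submonoid S') (T₂ : Submonoid C),
      (∀ t ∈ T, algebraMap S S' t ∈ T₁) → (∀ t ∈ T₁, algebraMap S' C t ∈ T₂) →
      Module.Flat R (LocalizedModule T N) → Module.Flat R' (LocalizedModule T₂ G) := by
    intro T T₁ T₂ h1 h2 h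
    have ha := flat_loc_tensor_of_flat_loc N T T₁ h1 h
    have hb : Module.Flat R (LocalizedModule T₁ N') :=
      Groth.Agent.Lib.FlatLocFP1H6.flat_localizedModule_of_linearEquiv (A := R) T₁ e₁ ha
    haveI := hb
    haveI : IsScalarTower R R' (LocalizedModule T₁ N') :=
      isScalarTower_localizedModule (A := R) (B := R') T₁ N'
    have hc : Module.Flat R' (LocalizedModule T₁ N') :=
      flat_of_flat_of_unramified (A := R) (B := R') (LocalizedModule T₁ N')
    have hd : Module.Flat R' (LocalizedModule T₁ G) :=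
      Groth.Agent.Lib.FlatLocFP1H6.flat_localizedModule_of_linearEquiv (A := R') T₁ iso hc
    exact flat_loc_of_map (R' := R') (D := S') (C := C) G T₁ T₂ h2 hd
  have down : ∀ (T₁ : Submonoid S') (T₂ : Submonoid C),
      (∀ t ∈ T₂, ∃ (c : C) (d : S'), d ∈ T₁ ∧ c * t = algebraMap S' C d) →
      Module.Flat R' (LocalizedModule T₂ G) →
      Module.Flat R (LocalizedModule T₁ (S' ⊗[S] N)) := by
    intro T₁ T₂ h2 h
    have hd : Module.Flat R' (LocalizedModule T₁ G) :=
      flat_loc_of_dvd (R' := R') (D := S') (C := C) G T₁ T₂ h2 h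
    have hc : Module.Flat R' (LocalizedModule T₁ N') :=
      Groth.Agent.Lib.FlatLocFP1H6.flat_localizedModule_of_linearEquiv (A := R') T₁ iso.symm hd
    haveI := hc
    haveI : IsScalarTower R R' (LocalizedModule T₁ N') :=
      isScalarTower_localizedModule (A := R) (B := R') T₁ N'
    have hb : Module.Flat R (LocalizedModule T₁ N') := Module.Flat.trans R R' _
    exact Groth.Agent.Lib.FlatLocFP1H6.flat_localizedModule_of_linearEquiv (A := R) T₁
      e₁.symm hb
  constructor
  · tfae_have 1 ↔ 2 := by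
      constructor
      · intro h
        exact up q.primeCompl q'.primeCompl z.primeCompl
          (fun t ht hmem => ht (by rw [← hq]; exact hmem))
          (fun t ht hmem => ht (by rw [← hzq]; exact hmem)) h
      · intro h
        have h' := down q'.primeCompl z.primeCompl (by
            intro t ht
            obtain ⟨s, rfl⟩ := hsurj t
            exact ⟨1, s, fun hs => ht (by rw [← hzq] at hs; exact hs), one_mul _⟩) h
        have h'' := Groth.Agent.Lib.Flat1277.flatAt_of_flatAt_tensor N q' h'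
        exact (flatAt_congr N hq).1 h''
    tfae_have 2 ↔ 3 := by
      constructor
      · exact flat_loc_of_dvd G y.primeCompl z.primeCompl
          (fun t ht => exists_mul_eq_algebraMap y z uniq t ht)
      · exact flat_loc_of_map G y.primeCompl z.primeCompl
          (fun d hd hmem => hd (by rw [← hzy]; exact hmem))
    tfae_finish
  · tfae_have 1 → 2 := by
      rintro ⟨g, hg, h⟩
      refine ⟨algebraMap S' C (algebraMap S S' g), ?_, ?_⟩
      · intro hmem
        have h1 : algebraMap S S' g ∈ q' := by rw [← hzq]; exact hmem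
        exact hg (by rw [← hq]; exact h1)
      · refine up (Submonoid.powers g) (Submonoid.powers (algebraMap S S' g))
          (Submonoid.powers (algebraMap S' C (algebraMap S S' g))) ?_ ?_ h
        · intro t ht
          obtain ⟨k, rfl⟩ := (Submonoid.mem_powers_iff _ _).1 ht
          exact (Submonoid.mem_powers_iff _ _).2 ⟨k, by rw [map_pow]⟩
        · intro t ht
          obtain ⟨k, rfl⟩ := (Submonoid.mem_powers_iff _ _).1 ht
          exact (Submonoid.mem_powers_iff _ _).2 ⟨k, by rw [map_pow]⟩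
    tfae_have 2 → 1 := by
      rintro ⟨g₂, hg₂, h⟩
      obtain ⟨g₁, rfl⟩ := hsurj g₂
      have hg₁ : g₁ ∉ q' := fun hmem => hg₂ (by rw [← hzq] at hmem; exact hmem)
      have h' := down (Submonoid.powers g₁) (Submonoid.powers (algebraMap S' C g₁)) (by
          intro t ht
          obtain ⟨k, rfl⟩ := (Submonoid.mem_powers_iff _ _).1 ht
          exact ⟨1, g₁ ^ k, (Submonoid.mem_powers_iff _ _).2 ⟨k, rfl⟩,
            by rw [one_mul, map_pow]⟩) h
      exact exists_basicOpen_flat N q q' hq g₁ hg₁ h'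
    tfae_have 2 → 3 := by
      rintro ⟨g, hg, h⟩
      obtain ⟨c, d, hd, hcd⟩ := exists_mul_eq_algebraMap y z uniq g hg
      refine ⟨d, hd, flat_loc_of_dvd G (Submonoid.powers d) (Submonoid.powers g) ?_ h⟩
      intro t ht
      obtain ⟨k, rfl⟩ := (Submonoid.mem_powers_iff _ _).1 ht
      exact ⟨c ^ k, d ^ k, (Submonoid.mem_powers_iff _ _).2 ⟨k, rfl⟩,
        by rw [← mul_pow, hcd, map_pow]⟩
    tfae_have 3 → 2 := by
      rintro ⟨g, hg, h⟩
      refine ⟨algebraMap D C g, fun hmem => hg (by rw [← hzy]; exact hmem), ?_⟩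
      refine flat_loc_of_map G (Submonoid.powers g) (Submonoid.powers (algebraMap D C g)) ?_ h
      intro t ht
      obtain ⟨k, rfl⟩ := (Submonoid.mem_powers_iff _ _).1 ht
      exact (Submonoid.mem_powers_iff _ _).2 ⟨k, by rw [map_pow]⟩
    tfae_finish

theorem main1250 {R S : Type u} [CommRing R] [CommRing S] [Algebra R S] [Algebra.FiniteType R S]
    (N : Type u) [AddCommGroup N] [Module S N] [Module R N] [IsScalarTower R S N] [Module.Finite S N]
    (p : Ideal R) [p.IsPrime] (q : Ideal S) [q.IsPrime] [q.LiesOver p] (n : ℕ) (E : FlatCA.ElemDevissage R S N p q n) :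
    [FlatCA.FlatAt R q N, FlatCA.FlatAt E.R' E.z E.G, FlatCA.FlatAt E.R' E.y E.G].TFAE ∧
    [∃ g : S, g ∉ q ∧ Module.Flat R (LocalizedModule (Submonoid.powers g) N),
     ∃ g : E.C, g ∉ E.z ∧ Module.Flat E.R' (LocalizedModule (Submonoid.powers g) E.G),
     ∃ g : E.D, g ∉ E.y ∧ Module.Flat E.R' (LocalizedModule (Submonoid.powers g) E.G)].TFAE := by
  obtain ⟨hetR, hpo, -⟩ := E.etaleR
  obtain ⟨hetS, hqo, -⟩ := E.etaleS
  haveI := hetR
  haveI := hetS
  haveI := hqo
  haveI : Module.Finite E.D E.C := E.finiteDC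
  letI mR'N' : Module E.R' E.N' := Module.compHom E.N' (algebraMap E.R' E.S')
  haveI tR'S'N' : IsScalarTower E.R' E.S' E.N' :=
    IsScalarTower.of_algebraMap_smul (fun r x => rfl)
  letI mRN' : Module R E.N' := Module.compHom E.N' (algebraMap R E.S')
  haveI tRS'N' : IsScalarTower R E.S' E.N' :=
    IsScalarTower.of_algebraMap_smul (fun r x => rfl)
  haveI tRR'N' : IsScalarTower R E.R' E.N' :=
    IsScalarTower.of_algebraMap_smul (fun r x => by
      show (algebraMap E.R' E.S' (algebraMap R E.R' r)) • x = (algebraMap R E.S' r) • x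
      rw [← IsScalarTower.algebraMap_apply R E.R' E.S'])
  haveI tR'S'G : IsScalarTower E.R' E.S' E.G :=
    IsScalarTower.of_algebraMap_smul (fun r x => by
      rw [← algebraMap_smul E.C (algebraMap E.R' E.S' r) x,
        ← IsScalarTower.algebraMap_apply E.R' E.S' E.C, algebraMap_smul])
  exact core N E.N' E.G q E.q' E.z E.y E.f E.isBaseChange E.surjC E.iso E.uniq

end Groth.Agent.Lib.Flat1250
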