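import Mathlib
import Groth.Prelude.Def_FlatCA
import Groth.Agent.Lib.FlatLocFP1_helper6
import Groth.Agent.Lib.Dev12231_lead

/-!
# Flatness above the closed points and finite local homomorphisms (lead)

`flatAt_transfer`: abstract transfer of "flat over `A'` at all primes containing an ideal" along
an integral ring map `B' → C'` and a `B'`-linear isomorphism `M' ≃ N'`.

`main1278`: the statement of S1278.
-/

set_option autoImplicit false
set_option linter.unusedSimpArgs false
set_option linter.unusedVariables false
set_option linter.unusedSectionVars false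
set_option linter.style.longLine false
set_option linter.style.haveILetI false
set_option linter.unnecessarySimpa false
set_option maxHeartbeats 1600000

namespace Groth.Agent.Lib.Flat1278

open TensorProduct IsLocalRing

universe u

/-- For an integral local homomorphism `B → C` of local rings, the maximal ideal of `C` is the
radical of `𝔪_B C`. -/
theorem mem_radical_map_maximalIdeal {B C : Type u} [CommRing B] [IsLocalRing B] [CommRing C]
    [IsLocalRing C] [Algebra B C] [Algebra.IsIntegral B C] (c : C) (hc : c ∈ maximalIdeal C) :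
    c ∈ ((maximalIdeal B).map (algebraMap B C)).radical := by
  rw [Ideal.radical_eq_sInf, Ideal.mem_sInf]
  rintro P ⟨hP, hPprime⟩
  haveI := hPprime
  have h1 : maximalIdeal B ≤ P.comap (algebraMap B C) := Ideal.map_le_iff_le_comap.mp hP
  have hpr : (P.comap (algebraMap B C)).IsPrime := inferInstance
  have h2 : P.comap (algebraMap B C) = maximalIdeal B :=
    le_antisymm (IsLocalRing.le_maximalIdeal hpr.ne_top) h1
  have h3 : (P.comap (algebraMap B C)).IsMaximal := by rw [h2]; infer_instance
  have h4 : P.IsMaximal := Ideal.isMaximal_of_isIntegral_of_isMaximal_comap P h3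
  rw [IsLocalRing.eq_maximalIdeal h4]; exact hc

section transfer

variable {A' B' C' : Type u} [CommRing A'] [CommRing B'] [CommRing C'] [Algebra A' B']
  [Algebra B' C'] [Algebra A' C'] [IsScalarTower A' B' C']
  {M' N' : Type u} [AddCommGroup M'] [Module B' M'] [Module A' M'] [IsScalarTower A' B' M']
  [AddCommGroup N'] [Module C' N'] [Module B' N'] [Module A' N'] [IsScalarTower A' C' N']
  [IsScalarTower B' C' N'] [IsScalarTower A' B' N']

theorem lTensor_congr (e : M' ≃ₗ[B'] N') (I : Ideal A') (ξ : M' ⊗[A'] I) :
    (I.subtype.lTensor N') (AlgebraTensorModule.congr e (LinearEquiv.refl A' I) ξ) =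
      AlgebraTensorModule.congr e (LinearEquiv.refl A' A') ((I.subtype.lTensor M') ξ) := by
  induction ξ using TensorProduct.induction_on with
  | zero => simp
  | tmul m i => simp
  | add x y hx hy => simp only [map_add, hx, hy]

theorem flatAt_transfer [Algebra.IsIntegral B' C'] (e : M' ≃ₗ[B'] N') (JB : Ideal B')
    (JC : Ideal C') (h1 : JB.map (algebraMap B' C') ≤ JC)
    (h2 : ∀ (Q : Ideal C') [Q.IsPrime], JB ≤ Q.comap (algebraMap B' C') → JC ≤ Q) :
    (∀ (q : Ideal B') [q.IsPrime], JB ≤ q → FlatCA.FlatAt A' q M') ↔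
      (∀ (Q : Ideal C') [Q.IsPrime], JC ≤ Q → FlatCA.FlatAt A' Q N') := by
  constructor
  · intro H Q _ hQ
    have hq : JB ≤ Q.comap (algebraMap B' C') := Ideal.map_le_iff_le_comap.mp (h1.trans hQ)
    have hflat := H (Q.comap (algebraMap B' C')) hq
    unfold FlatCA.FlatAt at hflat ⊢
    rw [Groth.Agent.Lib.FlatLocFP1H6.flat_localizedModule_iff] at hflat ⊢
    intro I η hη
    have hξ : (I.subtype.lTensor M')
        ((AlgebraTensorModule.congr e (LinearEquiv.refl A' I)).symm η) = 0 := by
      apply (AlgebraTensorModule.congr e (LinearEquiv.refl A' A')).injective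
      rw [← lTensor_congr, LinearEquiv.apply_symm_apply, hη, map_zero]
    obtain ⟨t, ht, htξ⟩ := hflat I _ hξ
    refine ⟨algebraMap B' C' t, fun h => ht (Ideal.mem_comap.mpr h), ?_⟩
    rw [algebraMap_smul]
    have h3 : t • η = (AlgebraTensorModule.congr e (LinearEquiv.refl A' I))
        (t • (AlgebraTensorModule.congr e (LinearEquiv.refl A' I)).symm η) := by
      rw [map_smul, LinearEquiv.apply_symm_apply]
    rw [h3, htξ, map_zero]
  · intro H q _ hq
    unfold FlatCA.FlatAt
    rw [Groth.Agent.Lib.FlatLocFP1H6.flat_localizedModule_iff]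
    intro I ξ hξ
    by_contra hcon
    push_neg at hcon
    have hη : (I.subtype.lTensor N')
        (AlgebraTensorModule.congr e (LinearEquiv.refl A' I) ξ) = 0 := by
      rw [lTensor_congr, hξ, map_zero]
    have h𝔞 : Ideal.comap (algebraMap B' C') (LinearMap.ker (LinearMap.toSpanSingleton C' _
        (AlgebraTensorModule.congr e (LinearEquiv.refl A' I) ξ)) : Ideal C') ≤ q := by
      intro s hs
      by_contra hsq
      apply hcon s hsq
      have h4 : algebraMap B' C' s • (AlgebraTensorModule.congr e (LinearEquiv.refl A' I) ξ) = 0 := by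
        rw [Ideal.mem_comap, LinearMap.mem_ker, LinearMap.toSpanSingleton_apply] at hs
        exact hs
      rw [algebraMap_smul] at h4
      apply (AlgebraTensorModule.congr e (LinearEquiv.refl A' I)).injective
      rw [map_smul, map_zero]
      exact h4
    obtain ⟨Q, hQ𝔞, hQp, hQq⟩ := Ideal.exists_ideal_over_prime_of_isIntegral q _ h𝔞
    haveI := hQp
    have hJC : JC ≤ Q := h2 Q (by rw [hQq]; exact hq)
    have hflat := H Q hJC
    unfold FlatCA.FlatAt at hflat
    rw [Groth.Agent.Lib.FlatLocFP1H6.flat_localizedModule_iff] at hflat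
    obtain ⟨t, ht, htη⟩ := hflat I _ hη
    refine ht (hQ𝔞 ?_)
    rw [LinearMap.mem_ker, LinearMap.toSpanSingleton_apply]
    exact htη

end transfer

theorem aux1278 {A B C : Type u} [CommRing A] [CommRing B] [IsLocalRing B]
    [CommRing C] [IsLocalRing C]
    [Algebra A B] [Algebra B C] [IsLocalHom (algebraMap B C)]
    [Algebra A C] [IsScalarTower A B C] [Module.Finite B C]
    (N : Type u) [AddCommGroup N] [Module C N] [Module B N] [IsScalarTower B C N]
    (A' : Type u) [CommRing A'] [IsLocalRing A'] [Algebra A A']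
    (B' M' : Type u) [CommRing B'] [Algebra B B'] [Algebra A' B'] [Algebra A B'] [IsScalarTower A B B'] [IsScalarTower A A' B']
        [Algebra.IsPushout A B A' B']
        [AddCommGroup M'] [Module B' M'] [Module B M'] [IsScalarTower B B' M'] [Module A' M'] [IsScalarTower A' B' M']
        (fB : N →ₗ[B] M') (hfB : IsBaseChange B' fB)
    (C' N' : Type u) [CommRing C'] [Algebra C C'] [Algebra A' C'] [Algebra A C'] [IsScalarTower A C C'] [IsScalarTower A A' C']
        [Algebra.IsPushout A C A' C']
        [AddCommGroup N'] [Module C' N'] [Module C N'] [IsScalarTower C C' N'] [Module A' N'] [IsScalarTower A' C' N']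
        (fC : N →ₗ[C] N') (hfC : IsBaseChange C' fC)
    [Algebra B' C'] [IsScalarTower A' B' C'] [Algebra B C'] [IsScalarTower B B' C']
    [IsScalarTower B C C'] [Module B' N'] [IsScalarTower B' C' N'] :
    FlatCA.FlatAboveClosedPoints B A' B' M' ↔ FlatCA.FlatAboveClosedPoints C A' C' N' := by
  haveI : Algebra.IsPushout A A' B B' := Algebra.IsPushout.symm inferInstance
  haveI : Algebra.IsPushout A A' C C' := Algebra.IsPushout.symm inferInstance
  haveI hpo : Algebra.IsPushout B B' C C' :=
    Groth.Agent.Lib.Dev12231.isPushout_right A B A' B' C C'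
  haveI hpo' : Algebra.IsPushout B C B' C' := Algebra.IsPushout.symm hpo
  haveI : Algebra.IsIntegral B' C' :=
    ⟨RingHom.isIntegral_isStableUnderBaseChange B C B' C'
      (fun x => Algebra.IsIntegral.isIntegral x)⟩
  haveI : IsScalarTower A' B' N' := IsScalarTower.of_algebraMap_smul fun a n => by
    rw [← algebraMap_smul C' (algebraMap A' B' a) n, ← IsScalarTower.algebraMap_apply,
      algebraMap_smul]
  let e : M' ≃ₗ[B'] N' := hfB.equiv.symm ≪≫ₗ
    (Algebra.IsPushout.cancelBaseChange B B' C C' N).symm ≪≫ₗ (hfC.equiv.restrictScalars B')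
  unfold FlatCA.FlatAboveClosedPoints
  refine flatAt_transfer (A' := A') e _ _ ?_ ?_
  · rw [Ideal.map_sup, Ideal.map_map, Ideal.map_map, ← IsScalarTower.algebraMap_eq,
      ← IsScalarTower.algebraMap_eq, IsScalarTower.algebraMap_eq B C C', ← Ideal.map_map]
    exact sup_le_sup le_rfl (Ideal.map_mono (IsLocalRing.map_maximalIdeal_le (algebraMap B C)))
  · intro Q _ hQ
    have hA' : (maximalIdeal A').map (algebraMap A' B') ≤ Q.comap (algebraMap B' C') :=
      le_sup_left.trans hQ
    have hB : (maximalIdeal B).map (algebraMap B B') ≤ Q.comap (algebraMap B' C') :=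
      le_sup_right.trans hQ
    refine sup_le ?_ ?_
    · rw [IsScalarTower.algebraMap_eq A' B' C', ← Ideal.map_map]
      exact Ideal.map_le_iff_le_comap.mpr hA'
    · have hBC' : ((maximalIdeal B).map (algebraMap B C)).map (algebraMap C C') ≤ Q := by
        rw [Ideal.map_map, ← IsScalarTower.algebraMap_eq, IsScalarTower.algebraMap_eq B B' C',
          ← Ideal.map_map]
        exact Ideal.map_le_iff_le_comap.mpr hB
      rw [Ideal.map_le_iff_le_comap]
      intro c hc
      obtain ⟨k, hk⟩ := mem_radical_map_maximalIdeal (B := B) c hc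
      rw [Ideal.mem_comap]
      have h5 : algebraMap C C' (c ^ k) ∈ Q := hBC' (Ideal.mem_map_of_mem _ hk)
      rw [map_pow] at h5
      exact Ideal.IsPrime.mem_of_pow_mem inferInstance k h5

theorem main1278 {A B C : Type u} [CommRing A] [IsLocalRing A] [CommRing B] [IsLocalRing B] [CommRing C] [IsLocalRing C]
    [Algebra A B] [IsLocalHom (algebraMap A B)] [Algebra B C] [IsLocalHom (algebraMap B C)] [Algebra A C] [IsScalarTower A B C] [Module.Finite B C]
    (N : Type u) [AddCommGroup N] [Module C N] [Module B N] [IsScalarTower B C N]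
    (A' : Type u) [CommRing A'] [IsLocalRing A'] [Algebra A A'] [IsLocalHom (algebraMap A A')]
    (B' M' : Type u) [CommRing B'] [Algebra B B'] [Algebra A' B'] [Algebra A B'] [IsScalarTower A B B'] [IsScalarTower A A' B']
        [Algebra.IsPushout A B A' B']
        [AddCommGroup M'] [Module B' M'] [Module B M'] [IsScalarTower B B' M'] [Module A' M'] [IsScalarTower A' B' M']
        (fB : N →ₗ[B] M') (hfB : IsBaseChange B' fB)
    (C' N' : Type u) [CommRing C'] [Algebra C C'] [Algebra A' C'] [Algebra A C'] [IsScalarTower A C C'] [IsScalarTower A A' C']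
        [Algebra.IsPushout A C A' C']
        [AddCommGroup N'] [Module C' N'] [Module C N'] [IsScalarTower C C' N'] [Module A' N'] [IsScalarTower A' C' N']
        (fC : N →ₗ[C] N') (hfC : IsBaseChange C' fC) :
    FlatCA.FlatAboveClosedPoints B A' B' M' ↔ FlatCA.FlatAboveClosedPoints C A' C' N' := by
  letI algBC' : Algebra B C' := ((algebraMap C C').comp (algebraMap B C)).toAlgebra
  haveI : IsScalarTower B C C' := IsScalarTower.of_algebraMap_eq fun x => rfl
  let f : B →ₐ[A] C' := (IsScalarTower.toAlgHom A C C').comp (IsScalarTower.toAlgHom A B C)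
  let g : A' →ₐ[A] C' := IsScalarTower.toAlgHom A A' C'
  let φ : B' →ₐ[A] C' := Algebra.pushoutDesc B' f g (fun _ _ => mul_comm _ _)
  letI algB'C' : Algebra B' C' := φ.toRingHom.toAlgebra
  haveI : IsScalarTower A' B' C' := IsScalarTower.of_algebraMap_eq fun x => by
    show algebraMap A' C' x = φ (algebraMap A' B' x)
    rw [Algebra.pushoutDesc_right]; rfl
  haveI : IsScalarTower B B' C' := IsScalarTower.of_algebraMap_eq fun x => by
    show algebraMap C C' (algebraMap B C x) = φ (algebraMap B B' x)
    rw [Algebra.pushoutDesc_left]; rfl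
  letI : Module B' N' := Module.compHom N' (algebraMap B' C')
  haveI : IsScalarTower B' C' N' := ⟨fun b c n => by
    show (b • c) • n = algebraMap B' C' b • c • n
    rw [Algebra.smul_def, mul_smul]⟩
  exact aux1278 (A := A) N A' B' M' fB hfB C' N' fC hfC

end Groth.Agent.Lib.Flat1278
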