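import Mathlib

/-!
# Flatness in short exact sequences with flat cokernel (helper8).  APPEND-ONLY once landed.
-/

set_option autoImplicit false

open TensorProduct

namespace Flat23H8

universe u v

variable {R : Type u} [CommRing R] {M' M M'' : Type v} [AddCommGroup M'] [AddCommGroup M]
  [AddCommGroup M''] [Module R M'] [Module R M] [Module R M'']
  (i : M' →ₗ[R] M) (p : M →ₗ[R] M'')

/-- Auxiliary form with a chosen flat cover `π : F → N`. -/
theorem lTensor_injective_aux (hi : Function.Injective i)
    (hp : Function.Surjective p) (hex : Function.Exact i p) [Module.Flat R M'']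
    {N F : Type*} [AddCommGroup N] [Module R N] [AddCommGroup F] [Module R F] [Module.Flat R F]
    (π : F →ₗ[R] N) (hπ : Function.Surjective π) : Function.Injective (i.lTensor N) := by
  rw [injective_iff_map_eq_zero]
  intro z hz
  have hκπ : Function.Exact (LinearMap.ker π).subtype π := LinearMap.exact_subtype_ker_map π
  have h2 := rTensor_exact M hκπ hπ
  have h3 := lTensor_exact (LinearMap.ker π) hex hp
  have h4 : Function.Injective ((LinearMap.ker π).subtype.rTensor M'') :=
    Module.Flat.rTensor_preserves_injective_linearMap _ (LinearMap.ker π).injective_subtype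
  have h5 : Function.Injective (i.lTensor F) :=
    Module.Flat.lTensor_preserves_injective_linearMap i hi
  have h6 := rTensor_exact M' hκπ hπ
  obtain ⟨y, rfl⟩ := LinearMap.rTensor_surjective M' hπ z
  have e1 : (π.rTensor M) ((i.lTensor F) y) = 0 := by
    have : (π.rTensor M) ((i.lTensor F) y) = (i.lTensor N) ((π.rTensor M') y) := by
      rw [← LinearMap.comp_apply, ← LinearMap.comp_apply, LinearMap.rTensor_comp_lTensor,
        LinearMap.lTensor_comp_rTensor]
    rw [this, hz]
  obtain ⟨k, hk⟩ := (h2 _).mp e1
  have e2 : ((LinearMap.ker π).subtype.rTensor M'') ((p.lTensor (LinearMap.ker π)) k) = 0 := by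
    have : ((LinearMap.ker π).subtype.rTensor M'') ((p.lTensor (LinearMap.ker π)) k) =
        (p.lTensor F) (((LinearMap.ker π).subtype.rTensor M) k) := by
      rw [← LinearMap.comp_apply, ← LinearMap.comp_apply, LinearMap.rTensor_comp_lTensor,
        LinearMap.lTensor_comp_rTensor]
    rw [this, hk, ← LinearMap.comp_apply, ← LinearMap.lTensor_comp]
    have hpi : p ∘ₗ i = 0 := by
      ext m; exact hex.apply_apply_eq_zero m
    rw [hpi, LinearMap.lTensor_zero, LinearMap.zero_apply]
  have e3 : (p.lTensor (LinearMap.ker π)) k = 0 := by
    apply h4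
    rw [e2, map_zero]
  obtain ⟨k', hk'⟩ := (h3 k).mp e3
  have e4 : ((LinearMap.ker π).subtype.rTensor M') k' = y := by
    apply h5
    have : (i.lTensor F) (((LinearMap.ker π).subtype.rTensor M') k') =
        ((LinearMap.ker π).subtype.rTensor M) ((i.lTensor (LinearMap.ker π)) k') := by
      rw [← LinearMap.comp_apply, ← LinearMap.comp_apply, LinearMap.rTensor_comp_lTensor,
        LinearMap.lTensor_comp_rTensor]
    rw [this, hk', hk]
  rw [← e4]
  exact h6.apply_apply_eq_zero k'

/-- If `0 → M' → M → M'' → 0` is exact with `M''` flat, then `N ⊗ M' → N ⊗ M` is injective for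
every module `N`. -/
theorem lTensor_injective_of_flat_cokernel (hi : Function.Injective i)
    (hp : Function.Surjective p) (hex : Function.Exact i p) [Module.Flat R M'']
    (N : Type*) [AddCommGroup N] [Module R N] : Function.Injective (i.lTensor N) :=
  lTensor_injective_aux i p hi hp hex (F := N →₀ R) (Finsupp.linearCombination R id)
    (Finsupp.linearCombination_id_surjective R N)

/-- Two-out-of-three for flatness when the cokernel is flat. -/
theorem flat_iff_of_exact_of_flat (hi : Function.Injective i) (hp : Function.Surjective p)
    (hex : Function.Exact i p) [Module.Flat R M''] : Module.Flat R M ↔ Module.Flat R M' := by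
  constructor
  · intro hM
    rw [Module.Flat.iff_lTensor_preserves_injective_linearMap]
    intro N₁ N₂ _ _ _ _ f hf
    -- `M' ⊗ N₁ → M' ⊗ N₂`; compare with `M ⊗ N₁ → M ⊗ N₂`
    have h1 : Function.Injective (i.rTensor N₁) := by
      have := lTensor_injective_of_flat_cokernel i p hi hp hex N₁
      rwa [LinearMap.lTensor_inj_iff_rTensor_inj] at this
    have h2 : Function.Injective (f.lTensor M) :=
      Module.Flat.lTensor_preserves_injective_linearMap f hf
    have hcomm : (i.rTensor N₂) ∘ₗ (f.lTensor M') = (f.lTensor M) ∘ₗ (i.rTensor N₁) := by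
      rw [LinearMap.rTensor_comp_lTensor, LinearMap.lTensor_comp_rTensor]
    have h3 : Function.Injective ((i.rTensor N₂) ∘ₗ (f.lTensor M')) := by
      rw [hcomm]; exact h2.comp h1
    exact Function.Injective.of_comp h3
  · intro hM'
    rw [Module.Flat.iff_lTensor_preserves_injective_linearMap]
    intro N₁ N₂ _ _ _ _ f hf
    rw [injective_iff_map_eq_zero]
    intro z hz
    have hexN₁ : Function.Exact (i.rTensor N₁) (p.rTensor N₁) := rTensor_exact N₁ hex hp
    have h1 : (p.rTensor N₁) z = 0 := by
      have hinj : Function.Injective (f.lTensor M'') :=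
        Module.Flat.lTensor_preserves_injective_linearMap f hf
      apply hinj
      have : (f.lTensor M'') ((p.rTensor N₁) z) = (p.rTensor N₂) ((f.lTensor M) z) := by
        rw [← LinearMap.comp_apply, ← LinearMap.comp_apply, LinearMap.rTensor_comp_lTensor,
          LinearMap.lTensor_comp_rTensor]
      rw [this, hz, map_zero, map_zero]
    obtain ⟨z', rfl⟩ := (hexN₁ z).mp h1
    have h2 : Function.Injective (i.rTensor N₂) := by
      have := lTensor_injective_of_flat_cokernel i p hi hp hex N₂
      rwa [LinearMap.lTensor_inj_iff_rTensor_inj] at this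
    have h3 : (f.lTensor M') z' = 0 := by
      apply h2
      have : (i.rTensor N₂) ((f.lTensor M') z') = (f.lTensor M) ((i.rTensor N₁) z') := by
        rw [← LinearMap.comp_apply, ← LinearMap.comp_apply, LinearMap.rTensor_comp_lTensor,
          LinearMap.lTensor_comp_rTensor]
      rw [this, hz, map_zero]
    have h4 : z' = 0 := by
      have hinj : Function.Injective (f.lTensor M') :=
        Module.Flat.lTensor_preserves_injective_linearMap f hf
      apply hinj
      rw [h3, map_zero]
    rw [h4, map_zero]

end Flat23H8
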