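import Mathlib

/-!
# Flattening ideals over local rings, Artinian step (helper3)

For a local ring `R`, an `R`-module `N` and `n : ℕ` there is an ideal `flatIdeal N n ⊇ 𝔪ⁿ` such that
for every local `R`-algebra `R''` (local homomorphism) killed by `𝔪ⁿ`:
`R'' ⊗ N` is flat over `R''` iff `flatIdeal N n` maps to zero in `R''`.
-/

set_option autoImplicit false
universe u

namespace Groth.Agent.Lib.FlatteningH3

open TensorProduct IsLocalRing

section General

variable {R : Type u} [CommRing R] (N : Type u) [AddCommGroup N] [Module R N]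

/-- base change of flatness from `R/J` to any `R`-algebra killed by `J` -/
theorem flat_of_le_ker (J : Ideal R) (R'' : Type u) [CommRing R''] [Algebra R R'']
    (h : J ≤ RingHom.ker (algebraMap R R''))
    [Module.Flat (R ⧸ J) ((R ⧸ J) ⊗[R] N)] : Module.Flat R'' (R'' ⊗[R] N) := by
  letI : Algebra (R ⧸ J) R'' :=
    (Ideal.Quotient.lift J (algebraMap R R'') (fun a ha => h ha)).toAlgebra
  haveI : IsScalarTower R (R ⧸ J) R'' := IsScalarTower.of_algebraMap_eq (fun a => by
    show algebraMap R R'' a = Ideal.Quotient.lift J (algebraMap R R'') _ (Ideal.Quotient.mk J a)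
    rw [Ideal.Quotient.lift_mk])
  haveI : Module.Flat R'' (R'' ⊗[R ⧸ J] ((R ⧸ J) ⊗[R] N)) := inferInstance
  exact Module.Flat.of_linearEquiv
    (AlgebraTensorModule.cancelBaseChange R (R ⧸ J) R'' R'' N).symm

variable {N}

theorem tmul_eq_zero_of_mem (J : Ideal R) (R'' : Type u) [CommRing R''] [Algebra R R'']
    (h : J ≤ RingHom.ker (algebraMap R R'')) {z : N} (hz : z ∈ (J • ⊤ : Submodule R N)) :
    (1 : R'') ⊗ₜ[R] z = 0 := by
  refine Submodule.smul_induction_on hz ?_ ?_
  · intro r hr y _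
    rw [← TensorProduct.smul_tmul, Algebra.smul_def, mul_one, (RingHom.mem_ker).1 (h hr),
      TensorProduct.zero_tmul]
  · intro x y hx hy
    rw [TensorProduct.tmul_add, hx, hy, add_zero]

theorem coeff_mem_of_mem_smul_top {ι : Type*} (J : Ideal R) {κ : ι →₀ R}
    (hκ : κ ∈ (J • ⊤ : Submodule R (ι →₀ R))) (α : ι) : κ α ∈ J := by
  refine Submodule.smul_induction_on hκ ?_ ?_
  · intro r hr f _
    rw [Finsupp.smul_apply, smul_eq_mul]
    exact J.mul_mem_right _ hr
  · intro x y hx hy
    rw [Finsupp.add_apply]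
    exact J.add_mem hx hy

theorem mem_smul_top_of_coeff {ι : Type*} (J : Ideal R) {κ : ι →₀ R} (h : ∀ α, κ α ∈ J) :
    κ ∈ (J • ⊤ : Submodule R (ι →₀ R)) := by
  rw [← Finsupp.sum_single κ, Finsupp.sum]
  refine Submodule.sum_mem _ fun α _ => ?_
  rw [← Finsupp.smul_single_one]
  exact Submodule.smul_mem_smul (h α) Submodule.mem_top

end General

section Local

variable (R : Type u) [CommRing R] [IsLocalRing R] (N : Type u) [AddCommGroup N] [Module R N]

/-- index set of a basis of `k ⊗ N` -/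
abbrev idx : Type u :=
  Module.Free.ChooseBasisIndex (ResidueField R) (ResidueField R ⊗[R] N)

/-- a basis of `k ⊗ N` -/
noncomputable def bas : Module.Basis (idx R N) (ResidueField R) (ResidueField R ⊗[R] N) :=
  Module.Free.chooseBasis _ _

theorem exists_lift : ∃ x : idx R N → N, ∀ α, (1 : ResidueField R) ⊗ₜ[R] x α = bas R N α := by
  have hs := TensorProduct.mk_surjective R N (ResidueField R)
    (Ideal.Quotient.mk_surjective (I := maximalIdeal R))
  choose x hx using fun α => hs (bas R N α)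
  exact ⟨x, hx⟩

/-- lifts of the basis to `N` -/
noncomputable def lift : idx R N → N := (exists_lift R N).choose

theorem lift_spec (α : idx R N) : (1 : ResidueField R) ⊗ₜ[R] lift R N α = bas R N α :=
  (exists_lift R N).choose_spec α

/-- the presentation `R^(idx) → N` -/
noncomputable def pres : (idx R N →₀ R) →ₗ[R] N := Finsupp.linearCombination R (lift R N)

theorem lc_mapRange (R'' : Type u) [CommRing R''] [Algebra R R''] (κ : idx R N →₀ R) :
    Finsupp.linearCombination R'' (fun α => (1 : R'') ⊗ₜ[R] lift R N α)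
      (κ.mapRange (algebraMap R R'') (map_zero _)) = (1 : R'') ⊗ₜ[R] pres R N κ := by
  induction κ using Finsupp.induction_linear with
  | zero => simp
  | add f g hf hg =>
    rw [Finsupp.mapRange_add (fun x y => map_add (algebraMap R R'') x y), map_add, map_add,
      TensorProduct.tmul_add, hf, hg]
  | single a r =>
    rw [Finsupp.mapRange_single, Finsupp.linearCombination_single, pres,
      Finsupp.linearCombination_single, TensorProduct.tmul_smul, algebraMap_smul]

theorem exists_sub_mem (y : N) :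
    ∃ c : idx R N →₀ R, y - pres R N c ∈ (maximalIdeal R • ⊤ : Submodule R N) := by
  obtain ⟨c, hc⟩ := Finsupp.mapRange_surjective (residue R) (map_zero _) residue_surjective
    ((bas R N).repr ((1 : ResidueField R) ⊗ₜ[R] y))
  refine ⟨c, ?_⟩
  have h1 := lc_mapRange R N (ResidueField R) c
  have h2 : (fun α => (1 : ResidueField R) ⊗ₜ[R] lift R N α) = bas R N :=
    funext fun α => lift_spec R N α
  have h3 : c.mapRange (algebraMap R (ResidueField R)) (map_zero _) =
      (bas R N).repr ((1 : ResidueField R) ⊗ₜ[R] y) := hc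
  rw [h2, h3, Module.Basis.linearCombination_repr] at h1
  have h4 : y - pres R N c ∈ LinearMap.ker (TensorProduct.mk R (R ⧸ maximalIdeal R) N 1) := by
    rw [LinearMap.mem_ker, map_sub]
    show (1 : ResidueField R) ⊗ₜ[R] y - (1 : ResidueField R) ⊗ₜ[R] pres R N c = 0
    rw [h1, sub_self]
  rw [LinearMap.ker_tensorProductMk] at h4
  exact h4

theorem exists_sub_mem_pow (n : ℕ) (y : N) :
    ∃ c : idx R N →₀ R, y - pres R N c ∈ (maximalIdeal R ^ n • ⊤ : Submodule R N) := by
  induction n generalizing y with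
  | zero => exact ⟨0, by rw [pow_zero, Ideal.one_eq_top, Submodule.top_smul]; trivial⟩
  | succ j ih =>
    obtain ⟨c, hc⟩ := ih y
    -- `m^j • ⊤ ≤ range ⊔ m^(j+1) • ⊤`
    have key : ∀ w ∈ (maximalIdeal R ^ j • ⊤ : Submodule R N),
        ∃ c' : idx R N →₀ R,
          w - pres R N c' ∈ (maximalIdeal R ^ (j + 1) • ⊤ : Submodule R N) := by
      intro w hw
      refine Submodule.smul_induction_on hw ?_ ?_
      · intro r hr y' _
        obtain ⟨c', hc'⟩ := exists_sub_mem R N y'
        refine ⟨r • c', ?_⟩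
        rw [map_smul, ← smul_sub, pow_succ, Submodule.mul_smul]
        exact Submodule.smul_mem_smul hr hc'
      · rintro x₁ x₂ ⟨c₁, h₁⟩ ⟨c₂, h₂⟩
        refine ⟨c₁ + c₂, ?_⟩
        rw [map_add, add_sub_add_comm]
        exact add_mem h₁ h₂
    obtain ⟨c', hc'⟩ := key _ hc
    refine ⟨c + c', ?_⟩
    rw [map_add, ← sub_sub]
    exact hc'

/-- the ideal of coefficients of relations modulo `𝔪ⁿ`, together with `𝔪ⁿ` -/
noncomputable def flatIdeal (n : ℕ) : Ideal R :=
  maximalIdeal R ^ n ⊔ Ideal.span {r | ∃ κ : idx R N →₀ R,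
    pres R N κ ∈ (maximalIdeal R ^ n • ⊤ : Submodule R N) ∧ ∃ α, κ α = r}

theorem pow_le_flatIdeal (n : ℕ) : maximalIdeal R ^ n ≤ flatIdeal R N n := le_sup_left

theorem coeff_mem_flatIdeal (n : ℕ) {κ : idx R N →₀ R}
    (hκ : pres R N κ ∈ (maximalIdeal R ^ n • ⊤ : Submodule R N)) (α : idx R N) :
    κ α ∈ flatIdeal R N n :=
  (le_sup_right : _ ≤ flatIdeal R N n) (Ideal.subset_span ⟨κ, hκ, α, rfl⟩)

theorem flat_quot_flatIdeal (n : ℕ) :
    Module.Flat (R ⧸ flatIdeal R N n) ((R ⧸ flatIdeal R N n) ⊗[R] N) := by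
  set I := flatIdeal R N n with hI
  have hker : ∀ J : Ideal R, J ≤ RingHom.ker (algebraMap R (R ⧸ J)) := fun J => by
    rw [Ideal.Quotient.algebraMap_eq, Ideal.mk_ker]
  have hsurj : Function.Surjective ((pres R N).baseChange (R ⧸ I)) := by
    intro z
    obtain ⟨y, rfl⟩ := TensorProduct.mk_surjective R N (R ⧸ I) Ideal.Quotient.mk_surjective z
    obtain ⟨c, hc⟩ := exists_sub_mem_pow R N n y
    refine ⟨1 ⊗ₜ c, ?_⟩
    rw [LinearMap.baseChange_tmul]
    have h0 := tmul_eq_zero_of_mem (maximalIdeal R ^ n) (R ⧸ I)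
      ((pow_le_flatIdeal R N n).trans (hker I)) hc
    rw [TensorProduct.tmul_sub, sub_eq_zero] at h0
    exact h0.symm
  have hinj : Function.Injective ((pres R N).baseChange (R ⧸ I)) := by
    rw [injective_iff_map_eq_zero]
    intro z hz
    obtain ⟨κ, rfl⟩ := TensorProduct.mk_surjective R (idx R N →₀ R) (R ⧸ I)
      Ideal.Quotient.mk_surjective z
    rw [TensorProduct.mk_apply, LinearMap.baseChange_tmul] at hz
    have h1 : pres R N κ ∈ LinearMap.ker (TensorProduct.mk R (R ⧸ I) N 1) := hz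
    rw [LinearMap.ker_tensorProductMk] at h1
    -- `I • ⊤ ≤ pres (I • ⊤) + m^n • ⊤`
    have key : ∀ w ∈ (I • ⊤ : Submodule R N), ∃ κ' ∈ (I • ⊤ : Submodule R (idx R N →₀ R)),
        w - pres R N κ' ∈ (maximalIdeal R ^ n • ⊤ : Submodule R N) := by
      intro w hw
      refine Submodule.smul_induction_on hw ?_ ?_
      · intro r hr y _
        obtain ⟨c, hc⟩ := exists_sub_mem_pow R N n y
        refine ⟨r • c, Submodule.smul_mem_smul hr Submodule.mem_top, ?_⟩
        rw [map_smul, ← smul_sub]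
        exact Submodule.smul_mem _ _ hc
      · rintro x₁ x₂ ⟨c₁, hc₁, h₁⟩ ⟨c₂, hc₂, h₂⟩
        refine ⟨c₁ + c₂, add_mem hc₁ hc₂, ?_⟩
        rw [map_add, add_sub_add_comm]
        exact add_mem h₁ h₂
    obtain ⟨κ', hκ', hsub⟩ := key _ h1
    rw [← map_sub] at hsub
    have hcoef : ∀ α, κ α ∈ I := fun α => by
      have h2 := coeff_mem_flatIdeal R N n hsub α
      have h3 := coeff_mem_of_mem_smul_top I hκ' α
      have : κ α = (κ - κ') α + κ' α := by rw [Finsupp.sub_apply]; ring
      rw [this]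
      exact I.add_mem h2 h3
    exact tmul_eq_zero_of_mem I (R ⧸ I) (hker I) (mem_smul_top_of_coeff I hcoef)
  let e : (R ⧸ I) ⊗[R] (idx R N →₀ R) ≃ₗ[R ⧸ I] (R ⧸ I) ⊗[R] N :=
    LinearEquiv.ofBijective ((pres R N).baseChange (R ⧸ I)) ⟨hinj, hsurj⟩
  exact Module.Flat.of_linearEquiv e.symm

variable (R'' : Type u) [CommRing R''] [Algebra R R'']

theorem flat_of_flatIdeal_le (n : ℕ) (h : flatIdeal R N n ≤ RingHom.ker (algebraMap R R'')) :
    Module.Flat R'' (R'' ⊗[R] N) := by
  haveI := flat_quot_flatIdeal R N n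
  exact flat_of_le_ker N (flatIdeal R N n) R'' h

variable [IsLocalRing R''] [IsLocalHom (algebraMap R R'')]

theorem linearIndependent_tmul :
    LinearIndependent (ResidueField R'')
      (TensorProduct.mk R'' (ResidueField R'') (R'' ⊗[R] N) 1 ∘
        fun α => (1 : R'') ⊗ₜ[R] lift R N α) := by
  let b'' := (bas R N).baseChange (ResidueField R'')
  let e : ResidueField R'' ⊗[ResidueField R] (ResidueField R ⊗[R] N) ≃ₗ[ResidueField R'']
      ResidueField R'' ⊗[R''] (R'' ⊗[R] N) :=
    (AlgebraTensorModule.cancelBaseChange R (ResidueField R) (ResidueField R'')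
      (ResidueField R'') N) ≪≫ₗ
    (AlgebraTensorModule.cancelBaseChange R R'' (ResidueField R'') (ResidueField R'') N).symm
  have h1 := b''.linearIndependent.map' e.toLinearMap (LinearEquiv.ker e)
  have h2 : (TensorProduct.mk R'' (ResidueField R'') (R'' ⊗[R] N) 1 ∘
      fun α => (1 : R'') ⊗ₜ[R] lift R N α) = e.toLinearMap ∘ b'' := by
    funext α
    show (1 : ResidueField R'') ⊗ₜ[R''] ((1 : R'') ⊗ₜ[R] lift R N α) = e (b'' α)
    rw [Module.Basis.baseChange_apply, ← lift_spec R N]
    show _ = (AlgebraTensorModule.cancelBaseChange R R'' (ResidueField R'')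
      (ResidueField R'') N).symm
      ((AlgebraTensorModule.cancelBaseChange R (ResidueField R) (ResidueField R'')
        (ResidueField R'') N) ((1 : ResidueField R'') ⊗ₜ ((1 : ResidueField R) ⊗ₜ[R] lift R N α)))
    rw [AlgebraTensorModule.cancelBaseChange_tmul, one_smul, LinearEquiv.eq_symm_apply,
      AlgebraTensorModule.cancelBaseChange_tmul, one_smul]
  rw [h2]
  exact h1

theorem flatIdeal_le_of_flat (n : ℕ)
    (hn : maximalIdeal R ^ n ≤ RingHom.ker (algebraMap R R''))
    [Module.Flat R'' (R'' ⊗[R] N)] : flatIdeal R N n ≤ RingHom.ker (algebraMap R R'') := by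
  have hLI : LinearIndependent R'' (fun α => (1 : R'') ⊗ₜ[R] lift R N α) :=
    Module.IsLocalRing.linearIndependent_of_flat _ (linearIndependent_tmul R N R'')
  refine sup_le hn (Ideal.span_le.2 ?_)
  rintro r ⟨κ, hκ, α, rfl⟩
  have h0 := tmul_eq_zero_of_mem (maximalIdeal R ^ n) R'' hn hκ
  have h1 := (lc_mapRange R N R'' κ).trans h0
  have h2 := linearIndependent_iff.1 hLI _ h1
  have h3 := DFunLike.congr_fun h2 α
  rw [Finsupp.mapRange_apply, Finsupp.zero_apply] at h3
  exact (RingHom.mem_ker).2 h3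

theorem flat_iff_flatIdeal_le (n : ℕ)
    (hn : maximalIdeal R ^ n ≤ RingHom.ker (algebraMap R R'')) :
    Module.Flat R'' (R'' ⊗[R] N) ↔ flatIdeal R N n ≤ RingHom.ker (algebraMap R R'') :=
  ⟨fun h => flatIdeal_le_of_flat R N R'' n hn, flat_of_flatIdeal_le R N R'' n⟩

end Local

section Quot

variable (R : Type u) [CommRing R] [IsLocalRing R] (N : Type u) [AddCommGroup N] [Module R N]

theorem flat_quot_iff (n : ℕ) (J : Ideal R) (hJ : maximalIdeal R ^ n ≤ J) :
    Module.Flat (R ⧸ J) ((R ⧸ J) ⊗[R] N) ↔ flatIdeal R N n ≤ J := by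
  have hker : RingHom.ker (algebraMap R (R ⧸ J)) = J := by
    rw [Ideal.Quotient.algebraMap_eq, Ideal.mk_ker]
  by_cases htop : J = ⊤
  · subst htop
    haveI : Subsingleton (R ⧸ (⊤ : Ideal R)) := Ideal.Quotient.subsingleton_iff.2 rfl
    haveI : Subsingleton ((R ⧸ (⊤ : Ideal R)) ⊗[R] N) :=
      Module.subsingleton (R ⧸ (⊤ : Ideal R)) _
    exact ⟨fun _ => le_top, fun _ => inferInstance⟩
  · haveI : Nontrivial (R ⧸ J) := Ideal.Quotient.nontrivial_iff.2 htop
    haveI : IsLocalRing (R ⧸ J) :=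
      IsLocalRing.of_surjective' (Ideal.Quotient.mk J) Ideal.Quotient.mk_surjective
    haveI : IsLocalHom (algebraMap R (R ⧸ J)) :=
      IsLocalHom.of_surjective (algebraMap R (R ⧸ J)) Ideal.Quotient.mk_surjective
    have := flat_iff_flatIdeal_le R N (R ⧸ J) n (by rw [hker]; exact hJ)
    rw [hker] at this
    exact this

end Quot

end Groth.Agent.Lib.FlatteningH3
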