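import Mathlib
import Groth.Prelude.Def_FlatCA
import Groth.Agent.Lib.Flattening1_helper3
import Groth.Agent.Lib.LocalCrit7_helper9
import Groth.Agent.Lib.FlatLocFP1_helper6

/-!
# Universal property of the flattening ideal for local base changes (helper3)

`main6926`: for a local homomorphism `R → R'` of Noetherian local rings, `M'` is flat over `R'` at all
primes over `𝔪'` iff the flattening ideal `I` of `M` dies in `R'`.
-/

set_option autoImplicit false
universe u

namespace Groth.Agent.Lib.FlatteningH3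

open TensorProduct IsLocalRing

section Glue

variable {A C : Type u} [CommRing A] [CommRing C] [Algebra A C]
  (M : Type u) [AddCommGroup M] [Module C M] [Module A M] [IsScalarTower A C M]

/-- If `T⁻¹M` is `A`-flat, every element of the kernel of `M ⊗ N → M ⊗ P` (for `N → P` injective)
is killed by an element of `T`. -/
theorem exists_smul_eq_zero_of_flat (T : Submonoid C) [Module.Flat A (LocalizedModule T M)]
    {N P : Type u} [AddCommGroup N] [Module A N] [AddCommGroup P] [Module A P] (g : N →ₗ[A] P)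
    (hg : Function.Injective g) (ξ : M ⊗[A] N) (hξ : (g.lTensor M) ξ = 0) :
    ∃ t ∈ T, t • ξ = 0 := by
  have hmap : IsLocalizedModule.map T
      (AlgebraTensorModule.rTensor A N (LocalizedModule.mkLinearMap T M))
      (AlgebraTensorModule.rTensor A P (LocalizedModule.mkLinearMap T M))
      (AlgebraTensorModule.lTensor C M g) =
      AlgebraTensorModule.lTensor C (LocalizedModule T M) g := by
    rw [IsLocalizedModule.map_lTensor]
  refine Groth.Agent.Lib.FlatDescAH6.exists_smul_of_map_injective (B := C) T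
    (X := M ⊗[A] N) (Y := M ⊗[A] P)
    (X' := (LocalizedModule T M) ⊗[A] N) (Y' := (LocalizedModule T M) ⊗[A] P)
    (AlgebraTensorModule.rTensor A N (LocalizedModule.mkLinearMap T M))
    (AlgebraTensorModule.rTensor A P (LocalizedModule.mkLinearMap T M))
    (AlgebraTensorModule.lTensor C M g) ?_ ξ hξ
  rw [hmap]
  exact Module.Flat.lTensor_preserves_injective_linearMap g hg

/-- Pointwise flatness at the maximal ideals containing `𝔫 C` gives flatness modulo `𝔫`. -/
theorem flat_quot_of_forall_flat (𝔫 : Ideal A)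
    (h : ∀ (𝔭 : Ideal C) [𝔭.IsPrime], 𝔫.map (algebraMap A C) ≤ 𝔭 →
      Module.Flat A (LocalizedModule 𝔭.primeCompl M)) :
    Module.Flat (A ⧸ 𝔫) ((A ⧸ 𝔫) ⊗[A] M) := by
  rw [Groth.Agent.Lib.LocalCrit7.flat_baseChange_iff_forall_ideal]
  intro 𝔞
  rw [injective_iff_map_eq_zero]
  intro ξ hξ
  by_contra hne
  -- the annihilator of `ξ` in `C`
  let ann : Ideal C :=
    { carrier := {c | c • ξ = 0}
      add_mem' := fun {a b} ha hb => by
        show (a + b) • ξ = 0
        rw [add_smul, ha, hb, add_zero]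
      zero_mem' := zero_smul _ _
      smul_mem' := fun c {a} ha => by
        show (c • a) • ξ = 0
        rw [smul_assoc, ha, smul_zero] }
  have hann : ann ≠ ⊤ := fun htop => hne (by
    have h1 : (1 : C) ∈ ann := by rw [htop]; trivial
    have h2 : (1 : C) • ξ = 0 := h1
    rwa [one_smul] at h2)
  obtain ⟨𝔭, h𝔭, hle⟩ := Ideal.exists_le_maximal ann hann
  haveI := h𝔭.isPrime
  have h𝔫 : 𝔫.map (algebraMap A C) ≤ 𝔭 := by
    refine le_trans ?_ hle
    rw [Ideal.map_le_iff_le_comap]
    intro r hr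
    show (algebraMap A C r) • ξ = 0
    rw [algebraMap_smul]
    have hkill : ∀ ζ : M ⊗[A] 𝔞, r • ζ = 0 := by
      intro ζ
      induction ζ using TensorProduct.induction_on with
      | zero => rw [smul_zero]
      | tmul x a =>
        rw [TensorProduct.smul_tmul', TensorProduct.smul_tmul]
        have : r • a = 0 := by
          apply Subtype.ext
          show r • (a : A ⧸ 𝔫) = 0
          rw [Algebra.smul_def, Ideal.Quotient.algebraMap_eq,
            Ideal.Quotient.eq_zero_iff_mem.2 hr, zero_mul]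
        rw [this, TensorProduct.tmul_zero]
      | add x y hx hy => rw [smul_add, hx, hy, add_zero]
    exact hkill ξ
  haveI := h 𝔭 h𝔫
  obtain ⟨t, ht, htξ⟩ := exists_smul_eq_zero_of_flat M 𝔭.primeCompl
    (𝔞.subtype.restrictScalars A) Subtype.val_injective ξ hξ
  exact ht (hle htξ)

end Glue

section BaseChange

variable {R S R' S' : Type u} [CommRing R] [CommRing S] [CommRing R'] [CommRing S']
  [Algebra R S] [Algebra R R'] [Algebra S S'] [Algebra R' S'] [Algebra R S']
  [IsScalarTower R S S'] [IsScalarTower R R' S'] [Algebra.IsPushout R S R' S']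
  {M M' : Type u} [AddCommGroup M] [Module S M] [Module R M] [IsScalarTower R S M]
  [AddCommGroup M'] [Module S' M'] [Module R' M'] [IsScalarTower R' S' M'] [Module S M']
  [IsScalarTower S S' M']
  (f : M →ₗ[S] M') (hf : IsBaseChange S' f)

include hf in
/-- `M' ≃ R' ⊗[R] M` as `R'`-modules. -/
theorem nonempty_equiv_tensor : Nonempty (M' ≃ₗ[R'] R' ⊗[R] M) := by
  haveI : Algebra.IsPushout R R' S S' := Algebra.IsPushout.symm inferInstance
  exact ⟨(hf.equiv.symm.restrictScalars R') ≪≫ₗ Algebra.IsPushout.cancelBaseChange R R' S S' M⟩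

include hf in
/-- flatness of `R' ⊗ M_q` gives flatness of `M'` at `q'` -/
theorem flatAt_of_flat_tensor (q' : Ideal S') [q'.IsPrime]
    (h : Module.Flat R' (R' ⊗[R] LocalizedModule (q'.comap (algebraMap S S')).primeCompl M)) :
    Module.Flat R' (LocalizedModule q'.primeCompl M') := by
  haveI : Algebra.IsPushout R R' S S' := Algebra.IsPushout.symm inferInstance
  haveI : Module.Flat R' (S' ⊗[S] LocalizedModule (q'.comap (algebraMap S S')).primeCompl M) :=
    Module.Flat.of_linearEquiv (Algebra.IsPushout.cancelBaseChange R R' S S'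
      (LocalizedModule (q'.comap (algebraMap S S')).primeCompl M))
  haveI hloc := Groth.Agent.Lib.FlatDescAH6.isLocalizedModule_lTensor_algebra
    (q'.comap (algebraMap S S')).primeCompl
    (LocalizedModule.mkLinearMap (q'.comap (algebraMap S S')).primeCompl M) S'
  have hle : Algebra.algebraMapSubmonoid S' (q'.comap (algebraMap S S')).primeCompl ≤
      q'.primeCompl := by
    rintro _ ⟨x, hx, rfl⟩
    exact hx
  have h1 : Module.Flat R' (LocalizedModule q'.primeCompl (S' ⊗[S] M)) :=
    GenFreeH8.flat_of_isLocalizedModule_algebra (R := R') (B := S') q'.primeCompl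
      (N := S' ⊗[S] LocalizedModule (q'.comap (algebraMap S S')).primeCompl M)
      (N' := LocalizedModule q'.primeCompl (S' ⊗[S] M))
      (IsLocalizedModule.liftOfLE _ _ hle
        (AlgebraTensorModule.lTensor S' S'
          (LocalizedModule.mkLinearMap (q'.comap (algebraMap S S')).primeCompl M))
        (LocalizedModule.mkLinearMap q'.primeCompl (S' ⊗[S] M)))
  exact Groth.Agent.Lib.FlatLocFP1H6.flat_localizedModule_of_linearEquiv (A := R') q'.primeCompl
    hf.equiv h1

end BaseChange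

section Main

variable {R S R' S' : Type u} [CommRing R] [IsLocalRing R] [CommRing S]
  [CommRing R'] [IsLocalRing R'] [IsNoetherianRing R'] [CommRing S']
  [Algebra R S] [Algebra R R'] [IsLocalHom (algebraMap R R')] [Algebra S S'] [Algebra R' S']
  [Algebra R S'] [IsScalarTower R S S'] [IsScalarTower R R' S'] [Algebra.IsPushout R S R' S']
  {M M' : Type u} [AddCommGroup M] [Module S M] [Module R M] [IsScalarTower R S M]
  [AddCommGroup M'] [Module S' M'] [Module R' M'] [IsScalarTower R' S' M'] [Module S M']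
  [IsScalarTower S S' M']
  (f : M →ₗ[S] M') (hf : IsBaseChange S' f)

omit [IsNoetherianRing R'] in
theorem comap_comap_eq (q' : Ideal S') [q'.IsPrime]
    (hq' : q'.comap (algebraMap R' S') = maximalIdeal R') :
    (q'.comap (algebraMap S S')).comap (algebraMap R S) = maximalIdeal R := by
  rw [Ideal.comap_comap, ← IsScalarTower.algebraMap_eq R S S',
    IsScalarTower.algebraMap_eq R R' S', ← Ideal.comap_comap, hq',
    IsLocalRing.maximalIdeal_comap]

include hf in
omit [IsNoetherianRing R'] in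
/-- pointwise flatness of `M'` over `R'` above `𝔪'` gives flatness of `(R/Jₙ) ⊗ M_q` for
`Jₙ = ker (R → R'/𝔪'ⁿ⁺¹)` -/
theorem flat_quot_ker_of_flatAt
    (h : ∀ (q' : Ideal S') [q'.IsPrime], q'.comap (algebraMap R' S') = maximalIdeal R' →
      Module.Flat R' (LocalizedModule q'.primeCompl M'))
    (n : ℕ) (q : Ideal S) [q.IsPrime] :
    Module.Flat (R ⧸ RingHom.ker (algebraMap R (R' ⧸ maximalIdeal R' ^ (n + 1))))
      ((R ⧸ RingHom.ker (algebraMap R (R' ⧸ maximalIdeal R' ^ (n + 1)))) ⊗[R]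
        LocalizedModule q.primeCompl M) := by
  obtain ⟨𝔫, h𝔫⟩ : ∃ 𝔫 : Ideal R', 𝔫 = maximalIdeal R' ^ (n + 1) := ⟨_, rfl⟩
  rw [← h𝔫]
  have h𝔫le : 𝔫 ≤ maximalIdeal R' := by
    rw [h𝔫]; exact Ideal.pow_le_self (Nat.succ_ne_zero n)
  -- step 1: `(R'/𝔫) ⊗ M'` is flat over `R'/𝔫`
  have h1 : Module.Flat (R' ⧸ 𝔫) ((R' ⧸ 𝔫) ⊗[R'] M') := by
    refine flat_quot_of_forall_flat (A := R') (C := S') M' 𝔫 (fun 𝔭 _ h𝔭 => h 𝔭 ?_)
    have hmax : (maximalIdeal R').map (algebraMap R' S') ≤ 𝔭 := by
      rw [Ideal.map_le_iff_le_comap]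
      intro x hx
      rw [Ideal.mem_comap]
      have hpow : (algebraMap R' S' x) ^ (n + 1) ∈ 𝔭 := by
        rw [← map_pow]
        exact h𝔭 (Ideal.mem_map_of_mem _ (by rw [h𝔫]; exact Ideal.pow_mem_pow hx _))
      exact Ideal.IsPrime.mem_of_pow_mem inferInstance _ hpow
    refine ((IsLocalRing.maximalIdeal.isMaximal R').eq_of_le ?_
      (Ideal.map_le_iff_le_comap.1 hmax)).symm
    exact Ideal.IsPrime.ne_top (Ideal.comap_isPrime _ _)
  -- step 2: `(R'/𝔫) ⊗[R] M` is flat over `R'/𝔫`
  obtain ⟨e₀⟩ := nonempty_equiv_tensor (R := R) (S := S) (R' := R') (S' := S') f hf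
  have h2 : Module.Flat (R' ⧸ 𝔫) ((R' ⧸ 𝔫) ⊗[R] M) := by
    haveI := h1
    refine Module.Flat.of_linearEquiv (M := (R' ⧸ 𝔫) ⊗[R'] M') ?_
    exact (AlgebraTensorModule.cancelBaseChange R R' (R' ⧸ 𝔫) (R' ⧸ 𝔫) M).symm ≪≫ₗ
      (AlgebraTensorModule.congr (LinearEquiv.refl (R' ⧸ 𝔫) (R' ⧸ 𝔫)) e₀.symm)
  -- step 3: Lemma A
  haveI : Nontrivial (R' ⧸ 𝔫) := Ideal.Quotient.nontrivial_iff.2
    (fun htop => (IsLocalRing.maximalIdeal.isMaximal R').ne_top (top_le_iff.1 (htop ▸ h𝔫le)))
  haveI : IsLocalRing (R' ⧸ 𝔫) :=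
    IsLocalRing.of_surjective' (Ideal.Quotient.mk 𝔫) Ideal.Quotient.mk_surjective
  haveI : IsLocalHom (Ideal.Quotient.mk 𝔫) :=
    IsLocalHom.of_surjective _ Ideal.Quotient.mk_surjective
  haveI : IsLocalHom (algebraMap R (R' ⧸ 𝔫)) := by
    have : algebraMap R (R' ⧸ 𝔫) = (Ideal.Quotient.mk 𝔫).comp (algebraMap R R') := rfl
    rw [this]
    exact RingHom.isLocalHom_comp _ _
  have hpow : maximalIdeal R ^ (n + 1) ≤ RingHom.ker (algebraMap R (R' ⧸ 𝔫)) := by
    intro x hx
    rw [RingHom.mem_ker]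
    show Ideal.Quotient.mk 𝔫 (algebraMap R R' x) = 0
    rw [Ideal.Quotient.eq_zero_iff_mem, h𝔫]
    have h3 : (maximalIdeal R).map (algebraMap R R') ≤ maximalIdeal R' :=
      IsLocalRing.map_maximalIdeal_le (algebraMap R R')
    have h4 := Ideal.mem_map_of_mem (algebraMap R R') hx
    rw [Ideal.map_pow] at h4
    exact Ideal.pow_right_mono h3 _ h4
  have h3 : flatIdeal R M (n + 1) ≤ RingHom.ker (algebraMap R (R' ⧸ 𝔫)) := by
    haveI := h2
    exact flatIdeal_le_of_flat R M (R' ⧸ 𝔫) (n + 1) hpow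
  have h4 : Module.Flat (R ⧸ RingHom.ker (algebraMap R (R' ⧸ 𝔫)))
      ((R ⧸ RingHom.ker (algebraMap R (R' ⧸ 𝔫))) ⊗[R] M) :=
    (flat_quot_iff R M (n + 1) _ hpow).2 h3
  -- step 4: localize
  rw [Groth.Agent.Lib.LocalCrit7.flat_baseChange_iff_forall_ideal] at h4 ⊢
  intro 𝔞
  exact Groth.Agent.Lib.LocalCrit7.lTensor_localizedModule_injective q.primeCompl M _ (h4 𝔞)

include hf in
theorem main6926 (I : Ideal R)
    (hI : ∀ (q : Ideal S) [q.IsPrime], q.comap (algebraMap R S) = maximalIdeal R →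
      Module.Flat (R ⧸ I) ((R ⧸ I) ⊗[R] LocalizedModule q.primeCompl M))
    (hmin : ∀ J : Ideal R, (∀ (q : Ideal S) [q.IsPrime],
      q.comap (algebraMap R S) = maximalIdeal R →
      Module.Flat (R ⧸ J) ((R ⧸ J) ⊗[R] LocalizedModule q.primeCompl M)) → I ≤ J) :
    (∀ (q' : Ideal S') [q'.IsPrime], q'.comap (algebraMap R' S') = maximalIdeal R' →
      FlatCA.FlatAt R' q' M') ↔ I ≤ RingHom.ker (algebraMap R R') := by
  constructor
  · intro h x hx
    rw [RingHom.mem_ker]
    have hmem : algebraMap R R' x ∈ ⨅ n : ℕ, maximalIdeal R' ^ n := by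
      rw [Ideal.mem_iInf]
      intro n
      have h1 := hmin _ (fun q _ _ => flat_quot_ker_of_flatAt f hf h n q) hx
      rw [RingHom.mem_ker] at h1
      have h2 : Ideal.Quotient.mk (maximalIdeal R' ^ (n + 1)) (algebraMap R R' x) = 0 := h1
      rw [Ideal.Quotient.eq_zero_iff_mem] at h2
      exact Ideal.pow_le_pow_right (Nat.le_succ n) h2
    rw [Ideal.iInf_pow_eq_bot_of_isLocalRing _
      (IsLocalRing.maximalIdeal.isMaximal R').ne_top] at hmem
    exact hmem
  · intro hle q' _ hq'
    have hq := comap_comap_eq (R := R) (S := S) q' hq'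
    haveI := hI _ hq
    have h1 : Module.Flat R'
        (R' ⊗[R] LocalizedModule (q'.comap (algebraMap S S')).primeCompl M) :=
      flat_of_le_ker _ I R' hle
    exact flatAt_of_flat_tensor f hf q' h1

end Main

end Groth.Agent.Lib.FlatteningH3
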