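import Mathlib
import Groth.Prelude.Def_FlatCA
import Groth.Agent.S0387
import Groth.Agent.Lib.Flattening4_helper3
import Groth.Agent.Lib.FlatDesc8_helper8
import Groth.Agent.Lib.FlatLocFP1_helper6

/-!
# Universal property of the flattening ideal for arbitrary local base changes (lead)

`main6927`: the statement of `main6926` (helper3) without the Noetherian hypothesis on `R'`.
The new direction is obtained by a limit argument: openness of the flat locus gives an element
`j ≡ 1` modulo `𝔪' S'` with `M'_j` flat over `R'`; this descends to a Noetherian local ring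
`R_λ` between `R` and `R'`, where `main6926` applies.
-/

set_option autoImplicit false
set_option linter.unusedSimpArgs false
set_option linter.unusedVariables false
set_option linter.unusedSectionVars false
set_option linter.style.longLine false
set_option linter.style.haveILetI false
set_option linter.unnecessarySimpa false
set_option maxHeartbeats 1600000

namespace Groth.Agent.Lib.Flat6927

open TensorProduct IsLocalRing

universe u

section AB

variable {A C : Type u} [CommRing A] [CommRing C] [Algebra A C]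
  (N : Type u) [AddCommGroup N] [Module C N] [Module A N] [IsScalarTower A C N]

/-- flatness of `N_j` gives flatness of `N_q` for every prime `q` not containing `j` -/
theorem flat_atPrime_of_flat_powers (j : C) (q : Ideal C) [q.IsPrime] (hj : j ∉ q)
    (h : Module.Flat A (LocalizedModule (Submonoid.powers j) N)) :
    Module.Flat A (LocalizedModule q.primeCompl N) := by
  rw [Groth.Agent.Lib.FlatLocFP1H6.flat_localizedModule_iff] at h ⊢
  intro I ξ hξ
  obtain ⟨t, ht', ht⟩ := h I ξ hξ
  obtain ⟨n, hn⟩ := (Submonoid.mem_powers_iff _ _).1 ht'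
  refine ⟨t, ?_, ht⟩
  rw [← hn]
  exact Ideal.mem_primeCompl_iff.mpr
    (fun hmem => hj (Ideal.IsPrime.mem_of_pow_mem inferInstance n hmem))

/-- **Lemma A**: if `N` is flat over the local ring `A` at all primes of `C` above the maximal
ideal, then `N_j` is `A`-flat for some `j ≡ 1` modulo `𝔪 C`. -/
theorem exists_away_flat [IsLocalRing A] [Algebra.FinitePresentation A C]
    [Module.FinitePresentation C N]
    (H : ∀ (q : Ideal C) [q.IsPrime], q.comap (algebraMap A C) = maximalIdeal A →
      Module.Flat A (LocalizedModule q.primeCompl N)) :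
    ∃ j : C, j - 1 ∈ (maximalIdeal A).map (algebraMap A C) ∧
      Module.Flat A (LocalizedModule (Submonoid.powers j) N) := by
  have hopen : IsOpen {q : PrimeSpectrum C |
      Module.Flat A (LocalizedModule q.asIdeal.primeCompl N)} :=
    Groth.Agent.S0387.result
  obtain ⟨𝔠, h𝔠⟩ := (PrimeSpectrum.isClosed_iff_zeroLocus_ideal _).1 hopen.isClosed_compl
  have hflat_of : ∀ (q : Ideal C) [q.IsPrime], ¬ (𝔠 ≤ q) →
      Module.Flat A (LocalizedModule q.primeCompl N) := by
    intro q _ hq
    by_contra hnf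
    have hmem : (⟨q, inferInstance⟩ : PrimeSpectrum C) ∈ {q : PrimeSpectrum C |
        Module.Flat A (LocalizedModule q.asIdeal.primeCompl N)}ᶜ := hnf
    rw [h𝔠, PrimeSpectrum.mem_zeroLocus] at hmem
    exact hq hmem
  have htop : 𝔠 ⊔ (maximalIdeal A).map (algebraMap A C) = ⊤ := by
    by_contra hne
    obtain ⟨𝔫, h𝔫max, hle⟩ := Ideal.exists_le_maximal _ hne
    haveI := h𝔫max.isPrime
    have h1 : 𝔫.comap (algebraMap A C) = maximalIdeal A := by
      refine ((IsLocalRing.maximalIdeal.isMaximal A).eq_of_le ?_ ?_).symm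
      · exact Ideal.IsPrime.ne_top (Ideal.comap_isPrime _ _)
      · rw [← Ideal.map_le_iff_le_comap]
        exact le_trans le_sup_right hle
    have h2 := H 𝔫 h1
    have hmem : (⟨𝔫, inferInstance⟩ : PrimeSpectrum C) ∈
        PrimeSpectrum.zeroLocus (𝔠 : Set C) := by
      rw [PrimeSpectrum.mem_zeroLocus]
      exact fun x hx => hle (Submodule.mem_sup_left hx)
    rw [← h𝔠] at hmem
    exact hmem h2
  have hone : (1 : C) ∈ 𝔠 ⊔ (maximalIdeal A).map (algebraMap A C) := by
    rw [htop]; exact Submodule.mem_top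
  obtain ⟨c, hc, m, hm, hcm⟩ := Submodule.mem_sup.1 hone
  refine ⟨c, ?_, ?_⟩
  · have : c - 1 = -m := by rw [← hcm]; ring
    rw [this]
    exact neg_mem hm
  · rw [Groth.Agent.Lib.FlatLocFP1H6.flat_localizedModule_iff]
    intro I ξ hξ
    have hrad : c ∈ (Ideal.torsionOf C (N ⊗[A] I) ξ).radical := by
      rw [Ideal.radical_eq_sInf, Ideal.mem_sInf]
      rintro q ⟨hle, hqprime⟩
      haveI := hqprime
      by_contra hcq
      have hnle : ¬ 𝔠 ≤ q := fun h => hcq (h hc)
      have hfl := hflat_of q hnle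
      rw [Groth.Agent.Lib.FlatLocFP1H6.flat_localizedModule_iff] at hfl
      obtain ⟨t, ht, htξ⟩ := hfl I ξ hξ
      exact ht (hle ((Ideal.mem_torsionOf_iff ξ t).2 htξ))
    obtain ⟨n, hn⟩ := hrad
    exact ⟨c ^ n, ⟨n, rfl⟩, (Ideal.mem_torsionOf_iff ξ (c ^ n)).1 hn⟩

end AB

section E

variable {A₁ T P₁ PT : Type u} [CommRing A₁] [CommRing T] [CommRing P₁] [CommRing PT]
  [Algebra A₁ T] [Algebra A₁ P₁] [Algebra T PT] [Algebra P₁ PT] [Algebra A₁ PT]
  [IsScalarTower A₁ T PT] [IsScalarTower A₁ P₁ PT] [Algebra.IsPushout A₁ T P₁ PT]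
  (N₁ : Type u) [AddCommGroup N₁] [Module P₁ N₁] [Module A₁ N₁] [IsScalarTower A₁ P₁ N₁]

/-- **Lemma E (abstract form)**: base change of the localization `(N₁)_{j₁}` along `A₁ → T` is the
localization of the base change at the image of `j₁`, as far as `T`-flatness is concerned. -/
theorem flat_tensor_localized_iff (j₁ : P₁) {MT : Type u} [AddCommGroup MT] [Module PT MT]
    [Module T MT] [IsScalarTower T PT MT] [Module P₁ MT] [IsScalarTower P₁ PT MT]
    (g : N₁ →ₗ[P₁] MT) (hg : IsBaseChange PT g) :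
    Module.Flat T (T ⊗[A₁] LocalizedModule (Submonoid.powers j₁) N₁) ↔
      Module.Flat T (LocalizedModule (Submonoid.powers (algebraMap P₁ PT j₁)) MT) := by
  have e1 := Algebra.IsPushout.cancelBaseChange A₁ T P₁ PT
    (LocalizedModule (Submonoid.powers j₁) N₁)
  refine (Module.Flat.equiv_iff e1).symm.trans ?_
  have hloc := Groth.Agent.Lib.FlatDescAH6.isLocalizedModule_lTensor_algebra
    (Submonoid.powers j₁) (LocalizedModule.mkLinearMap (Submonoid.powers j₁) N₁) PT
  have hsub : Algebra.algebraMapSubmonoid PT (Submonoid.powers j₁) =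
      Submonoid.powers (algebraMap P₁ PT j₁) := by
    show Submonoid.map (algebraMap P₁ PT) (Submonoid.powers j₁) = _
    rw [Submonoid.map_powers]
  rw [hsub] at hloc
  haveI := hloc
  refine (Groth.Agent.Lib.FlatLocFP1H6.flat_iff_of_isLocalizedModule (A := T) (C := PT)
    (Submonoid.powers (algebraMap P₁ PT j₁))
    (AlgebraTensorModule.lTensor PT PT
      (LocalizedModule.mkLinearMap (Submonoid.powers j₁) N₁))).trans ?_
  constructor
  · exact Groth.Agent.Lib.FlatLocFP1H6.flat_localizedModule_of_linearEquiv (A := T) _ hg.equiv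
  · exact Groth.Agent.Lib.FlatLocFP1H6.flat_localizedModule_of_linearEquiv (A := T) _
      hg.equiv.symm

end E

section Repr

/-- elements of `𝔞 S'` are finite sums `∑ aᵢ sᵢ` with `aᵢ ∈ 𝔞`, `sᵢ ∈ S`. -/
theorem exists_repr {R S R' S' : Type u} [CommRing R] [CommRing S] [CommRing R'] [CommRing S']
    [Algebra R S] [Algebra R R'] [Algebra S S'] [Algebra R' S'] [Algebra R S']
    [IsScalarTower R S S'] [IsScalarTower R R' S'] [Algebra.IsPushout R S R' S']
    (𝔞 : Ideal R') (x : S') (hx : x ∈ 𝔞.map (algebraMap R' S')) :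
    ∃ (ι : Type u) (_ : Fintype ι) (a : ι → R') (s : ι → S), (∀ i, a i ∈ 𝔞) ∧
      x = ∑ i, algebraMap R' S' (a i) * algebraMap S S' (s i) := by
  classical
  haveI hsymm : Algebra.IsPushout R R' S S' := Algebra.IsPushout.symm inferInstance
  have hbc : IsBaseChange R' (IsScalarTower.toAlgHom R S S').toLinearMap := hsymm.out
  have hspan : Submodule.span R' (Set.range (fun t : S => algebraMap S S' t)) = ⊤ := by
    rw [eq_top_iff]
    intro y _
    refine hbc.inductionOn y
      (fun y => y ∈ Submodule.span R' (Set.range (fun t : S => algebraMap S S' t)))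
      (Submodule.zero_mem _) (fun m => Submodule.subset_span ⟨m, rfl⟩)
      (fun r n hn => Submodule.smul_mem _ r hn) (fun n₁ n₂ h₁ h₂ => Submodule.add_mem _ h₁ h₂)
  have hx' : x ∈ 𝔞 • (⊤ : Submodule R' S') := by
    rw [Ideal.smul_top_eq_map]
    exact hx
  rw [← hspan] at hx'
  obtain ⟨c, hc, hsum⟩ :=
    (Submodule.mem_ideal_smul_span_iff_exists_sum 𝔞 (fun t : S => algebraMap S S' t) x).1 hx'
  refine ⟨↥c.support, inferInstance, fun i => c i.1, fun i => i.1, fun i => hc i.1, ?_⟩
  rw [← hsum, Finsupp.sum, ← Finset.sum_coe_sort c.support]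
  refine Finset.sum_congr rfl (fun i _ => ?_)
  rw [Algebra.smul_def]

end Repr

section F

/-- descent of flatness to a Noetherian local ring mapping to `R'` -/
theorem exists_noeth_local {A₁ : Type u} [CommRing A₁] [IsNoetherianRing A₁]
    {B₁ : Type u} [CommRing B₁] [Algebra A₁ B₁] [Algebra.FiniteType A₁ B₁]
    (L : Type u) [AddCommGroup L] [Module B₁ L] [Module A₁ L] [IsScalarTower A₁ B₁ L]
    [Module.Finite B₁ L]
    (R' : Type u) [CommRing R'] [IsLocalRing R'] [Algebra A₁ R']
    (hfl : Module.Flat R' (R' ⊗[A₁] L)) :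
    ∃ (Rl : Type u) (_ : CommRing Rl) (_ : IsLocalRing Rl) (_ : IsNoetherianRing Rl)
      (_ : Algebra A₁ Rl) (ψ : Rl →+* R'),
      (∀ x, ψ (algebraMap A₁ Rl x) = algebraMap A₁ R' x) ∧ Module.Flat Rl (Rl ⊗[A₁] L) := by
  haveI := hfl
  obtain ⟨A', hfg, hflat⟩ :=
    Groth.Agent.Lib.FlatDescH8.exists_fg_subalgebra_flat' (A₁ := A₁) (B₁ := B₁) L R'
  haveI : Algebra.FiniteType A₁ A' := (Subalgebra.fg_iff_finiteType A').mp hfg
  haveI : IsNoetherianRing A' := Algebra.FiniteType.isNoetherianRing A₁ A'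
  obtain ⟨𝔭, h𝔭⟩ : ∃ 𝔭 : Ideal A', 𝔭 = (maximalIdeal R').comap (algebraMap A' R') := ⟨_, rfl⟩
  have hmem𝔭 : ∀ z : A', z ∈ 𝔭 ↔ algebraMap A' R' z ∈ maximalIdeal R' := by
    intro z
    rw [h𝔭, Ideal.mem_comap]
  haveI : 𝔭.IsPrime := by rw [h𝔭]; exact Ideal.comap_isPrime _ _
  have hunit : ∀ y : 𝔭.primeCompl, IsUnit (algebraMap A' R' y) := by
    intro y
    have hy : (y : A') ∉ 𝔭 := y.2
    by_contra hnu
    exact hy ((hmem𝔭 _).2 ((IsLocalRing.mem_maximalIdeal _).2 hnu))
  let ψ : Localization.AtPrime 𝔭 →+* R' :=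
    IsLocalization.lift (M := 𝔭.primeCompl) (g := algebraMap A' R') hunit
  have hψ : ∀ y : A', ψ (algebraMap A' (Localization.AtPrime 𝔭) y) = algebraMap A' R' y :=
    fun y => IsLocalization.lift_eq hunit y
  haveI := hflat
  haveI : Module.Flat (Localization.AtPrime 𝔭)
      (Localization.AtPrime 𝔭 ⊗[A'] (A' ⊗[A₁] L)) := inferInstance
  have hfl2 : Module.Flat (Localization.AtPrime 𝔭) (Localization.AtPrime 𝔭 ⊗[A₁] L) :=
    Module.Flat.of_linearEquiv (AlgebraTensorModule.cancelBaseChange A₁ A'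
      (Localization.AtPrime 𝔭) (Localization.AtPrime 𝔭) L).symm
  refine ⟨Localization.AtPrime 𝔭, inferInstance, inferInstance, inferInstance, inferInstance, ψ,
    ?_, hfl2⟩
  intro x
  rw [IsScalarTower.algebraMap_apply A₁ A' (Localization.AtPrime 𝔭), hψ]
  exact (IsScalarTower.algebraMap_apply A₁ A' R' x).symm

end F

section Model

attribute [local instance] Algebra.TensorProduct.rightAlgebra

variable {R S : Type u} [CommRing R] [CommRing S] [Algebra R S]
  {M : Type u} [AddCommGroup M] [Module S M]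
  {A₁ P₁ : Type u} [CommRing A₁] [CommRing P₁] [Algebra R A₁] [Algebra A₁ P₁] [Algebra S P₁]
  [Algebra R P₁] [IsScalarTower R A₁ P₁] [IsScalarTower R S P₁] [Algebra.IsPushout R A₁ S P₁]
  {N₁ : Type u} [AddCommGroup N₁] [Module P₁ N₁] [Module A₁ N₁] [IsScalarTower A₁ P₁ N₁]
  [Module S N₁] [IsScalarTower S P₁ N₁]
  {ι : Type u} [Fintype ι]

/-- **Lemma E (model form)**. -/
theorem flat_model_iff (g₀ : M →ₗ[S] N₁) (hg₀ : IsBaseChange P₁ g₀) (X : ι → A₁) (s : ι → S)
    {T ST : Type u} [CommRing T] [CommRing ST] [Algebra R T] [Algebra A₁ T]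
    [IsScalarTower R A₁ T]
    [Algebra R ST] [Algebra S ST] [Algebra T ST] [IsScalarTower R S ST] [IsScalarTower R T ST]
    [Algebra.IsPushout R S T ST]
    {MT : Type u} [AddCommGroup MT] [Module ST MT] [Module T MT] [IsScalarTower T ST MT]
    [Module S MT] [IsScalarTower S ST MT] (fT : M →ₗ[S] MT) (hfT : IsBaseChange ST fT) :
    Module.Flat T (T ⊗[A₁] LocalizedModule (Submonoid.powers
      (1 - ∑ i, algebraMap A₁ P₁ (X i) * algebraMap S P₁ (s i))) N₁) ↔
    Module.Flat T (LocalizedModule (Submonoid.powers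
      (1 - ∑ i, algebraMap T ST (algebraMap A₁ T (X i)) * algebraMap S ST (s i))) MT) := by
  classical
  obtain ⟨φ, hφl, hφr⟩ : ∃ φ : P₁ →ₐ[R] ST,
      (∀ x, φ (algebraMap A₁ P₁ x) = algebraMap T ST (algebraMap A₁ T x)) ∧
      (∀ y, φ (algebraMap S P₁ y) = algebraMap S ST y) :=
    ⟨Algebra.pushoutDesc P₁
      ((IsScalarTower.toAlgHom R T ST).comp (IsScalarTower.toAlgHom R A₁ T))
      (IsScalarTower.toAlgHom R S ST) (fun _ _ => mul_comm _ _),
     fun x => by rw [Algebra.pushoutDesc_left]; rfl,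
     fun y => by rw [Algebra.pushoutDesc_right]; rfl⟩
  letI algP : Algebra P₁ ST := φ.toRingHom.toAlgebra
  letI algA : Algebra A₁ ST := ((algebraMap T ST).comp (algebraMap A₁ T)).toAlgebra
  have halgP : ∀ p, algebraMap P₁ ST p = φ p := fun p => rfl
  haveI t1 : IsScalarTower A₁ T ST := IsScalarTower.of_algebraMap_eq (fun _ => rfl)
  haveI t2 : IsScalarTower S P₁ ST := IsScalarTower.of_algebraMap_eq (fun t => by
    rw [halgP, hφr])
  haveI t3 : IsScalarTower A₁ P₁ ST := IsScalarTower.of_algebraMap_eq (fun p => by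
    rw [halgP, hφl]; rfl)
  haveI t4 : IsScalarTower R P₁ ST := IsScalarTower.of_algebraMap_eq (fun r => by
    rw [halgP, φ.commutes])
  haveI push1 : Algebra.IsPushout R T S ST := Algebra.IsPushout.symm inferInstance
  haveI push2 : Algebra.IsPushout A₁ T P₁ ST :=
    (Algebra.IsPushout.comp_iff R A₁ S (S' := P₁) (T := T) (T' := ST)).mp push1
  letI modP : Module P₁ MT := Module.compHom MT (algebraMap P₁ ST)
  haveI t5 : IsScalarTower P₁ ST MT := IsScalarTower.of_algebraMap_smul (fun _ _ => rfl)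
  haveI t6 : IsScalarTower S P₁ MT :=
    IsScalarTower.of_algebraMap_smul (fun t m => by
      show algebraMap P₁ ST (algebraMap S P₁ t) • m = t • m
      rw [← IsScalarTower.algebraMap_apply S P₁ ST, algebraMap_smul])
  obtain ⟨g, hg⟩ : ∃ g : N₁ →ₗ[P₁] MT, (g.restrictScalars S).comp g₀ = fT :=
    ⟨hg₀.lift fT, hg₀.lift_comp fT⟩
  have hbc : IsBaseChange ST g := by
    refine IsBaseChange.of_comp hg₀ ?_
    rw [hg]
    exact hfT
  have key := flat_tensor_localized_iff (A₁ := A₁) (T := T) (P₁ := P₁) (PT := ST) N₁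
    (1 - ∑ i, algebraMap A₁ P₁ (X i) * algebraMap S P₁ (s i)) g hbc
  have hj : algebraMap P₁ ST (1 - ∑ i, algebraMap A₁ P₁ (X i) * algebraMap S P₁ (s i)) =
      1 - ∑ i, algebraMap T ST (algebraMap A₁ T (X i)) * algebraMap S ST (s i) := by
    rw [halgP]
    simp only [map_sub, map_one, map_sum, map_mul, hφl, hφr]
  rw [hj] at key
  exact key

/-- the final step over a Noetherian local ring `Rl`. -/
theorem le_ker_of_flat_model (g₀ : M →ₗ[S] N₁) (hg₀ : IsBaseChange P₁ g₀)
    [IsLocalRing R] [Module R M] [IsScalarTower R S M]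
    (X : ι → A₁) (s : ι → S)
    {Rl : Type u} [CommRing Rl] [IsLocalRing Rl] [IsNoetherianRing Rl] [Algebra R Rl]
    [IsLocalHom (algebraMap R Rl)] [Algebra A₁ Rl] [IsScalarTower R A₁ Rl]
    (hX : ∀ i, algebraMap A₁ Rl (X i) ∈ maximalIdeal Rl)
    (hfl : Module.Flat Rl (Rl ⊗[A₁] LocalizedModule (Submonoid.powers
      (1 - ∑ i, algebraMap A₁ P₁ (X i) * algebraMap S P₁ (s i))) N₁))
    (I : Ideal R)
    (hI : ∀ (q : Ideal S) [q.IsPrime], q.comap (algebraMap R S) = maximalIdeal R →
      Module.Flat (R ⧸ I) ((R ⧸ I) ⊗[R] LocalizedModule q.primeCompl M))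
    (hmin : ∀ J : Ideal R, (∀ (q : Ideal S) [q.IsPrime],
      q.comap (algebraMap R S) = maximalIdeal R →
      Module.Flat (R ⧸ J) ((R ⧸ J) ⊗[R] LocalizedModule q.primeCompl M)) → I ≤ J) :
    I ≤ RingHom.ker (algebraMap R Rl) := by
  classical
  have hfl2 := (flat_model_iff (R := R) (S := S) (M := M) g₀ hg₀ X s
    (T := Rl) (ST := Rl ⊗[R] S) (MT := (Rl ⊗[R] S) ⊗[S] M)
    (TensorProduct.mk S (Rl ⊗[R] S) M 1) (TensorProduct.isBaseChange S M (Rl ⊗[R] S))).mp hfl
  refine (Groth.Agent.Lib.FlatteningH3.main6926 (R := R) (S := S) (R' := Rl) (S' := Rl ⊗[R] S)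
    (M := M) (M' := (Rl ⊗[R] S) ⊗[S] M)
    (TensorProduct.mk S (Rl ⊗[R] S) M 1) (TensorProduct.isBaseChange S M (Rl ⊗[R] S))
    I hI hmin).mp ?_
  intro q' _ hq'
  refine flat_atPrime_of_flat_powers _ _ q' ?_ hfl2
  intro hmem
  apply Ideal.IsPrime.ne_top (inferInstance : q'.IsPrime)
  rw [Ideal.eq_top_iff_one]
  have hsum : ∑ i, algebraMap Rl (Rl ⊗[R] S) (algebraMap A₁ Rl (X i)) *
        algebraMap S (Rl ⊗[R] S) (s i) ∈ q' := by
    refine Ideal.sum_mem _ (fun i _ => Ideal.mul_mem_right _ _ ?_)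
    have : algebraMap A₁ Rl (X i) ∈ q'.comap (algebraMap Rl (Rl ⊗[R] S)) := by
      rw [hq']; exact hX i
    exact this
  have := Ideal.add_mem _ hmem hsum
  rwa [sub_add_cancel] at this

end Model

section Poly

attribute [local instance] MvPolynomial.algebraMvPolynomial

/-- the polynomial model, packaged abstractly -/
theorem exists_poly_model (R S : Type u) [CommRing R] [CommRing S] [Algebra R S]
    [IsNoetherianRing R] [Algebra.FiniteType R S] (ι : Type u) [Finite ι] :
    ∃ (A₁ P₁ : Type u) (_ : CommRing A₁) (_ : CommRing P₁) (_ : Algebra R A₁)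
      (_ : Algebra A₁ P₁) (_ : Algebra S P₁) (_ : Algebra R P₁)
      (_ : IsScalarTower R A₁ P₁) (_ : IsScalarTower R S P₁) (_ : Algebra.IsPushout R A₁ S P₁)
      (_ : IsNoetherianRing A₁) (_ : Algebra.FiniteType A₁ P₁) (X : ι → A₁),
      ∀ (T : Type u) [CommRing T] [Algebra R T] (a : ι → T),
        ∃ (_ : Algebra A₁ T), IsScalarTower R A₁ T ∧ ∀ i, algebraMap A₁ T (X i) = a i := by
  refine ⟨MvPolynomial ι R, MvPolynomial ι S, inferInstance, inferInstance, inferInstance,
    MvPolynomial.algebraMvPolynomial, inferInstance, inferInstance, inferInstance, inferInstance,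
    inferInstance, inferInstance, Algebra.FiniteType.of_restrictScalars_finiteType R _ _,
    MvPolynomial.X, ?_⟩
  intro T _ _ a
  refine ⟨(MvPolynomial.aeval (R := R) a).toRingHom.toAlgebra, ?_, ?_⟩
  · letI : Algebra (MvPolynomial ι R) T := (MvPolynomial.aeval (R := R) a).toRingHom.toAlgebra
    exact IsScalarTower.of_algebraMap_eq
      (fun r => ((MvPolynomial.aeval (R := R) a).commutes r).symm)
  · intro i
    exact MvPolynomial.aeval_X (R := R) a i

end Poly

section Main

theorem main6927 {R S R' S' : Type u} [CommRing R] [IsLocalRing R]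
    [IsNoetherianRing R] [CommRing S]
    [CommRing R'] [IsLocalRing R'] [CommRing S']
    [Algebra R S] [Algebra.FiniteType R S] [Algebra R R'] [IsLocalHom (algebraMap R R')]
    [Algebra S S'] [Algebra R' S']
    [Algebra R S'] [IsScalarTower R S S'] [IsScalarTower R R' S'] [Algebra.IsPushout R S R' S']
    {M M' : Type u} [AddCommGroup M] [Module S M] [Module R M] [IsScalarTower R S M]
    [Module.Finite S M]
    [AddCommGroup M'] [Module S' M'] [Module R' M'] [IsScalarTower R' S' M'] [Module S M']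
    [IsScalarTower S S' M']
    (f : M →ₗ[S] M') (hf : IsBaseChange S' f) (I : Ideal R)
    (hI : (∀ (q : Ideal S) [q.IsPrime], q.comap (algebraMap R S) = IsLocalRing.maximalIdeal R →
        Module.Flat (R ⧸ I) ((R ⧸ I) ⊗[R] LocalizedModule q.primeCompl M)))
    (hmin : ∀ J : Ideal R, (∀ (q : Ideal S) [q.IsPrime],
        q.comap (algebraMap R S) = IsLocalRing.maximalIdeal R →
        Module.Flat (R ⧸ J) ((R ⧸ J) ⊗[R] LocalizedModule q.primeCompl M)) → I ≤ J) :
    (∀ (q' : Ideal S') [q'.IsPrime],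
      q'.comap (algebraMap R' S') = IsLocalRing.maximalIdeal R' → FlatCA.FlatAt R' q' M') ↔
      I ≤ RingHom.ker (algebraMap R R') := by
  classical
  constructor
  · intro H
    haveI : Algebra.FinitePresentation R S :=
      Algebra.FinitePresentation.of_finiteType.mp inferInstance
    haveI : IsNoetherianRing S := Algebra.FiniteType.isNoetherianRing R S
    haveI : Module.FinitePresentation S M := Module.finitePresentation_of_finite S M
    haveI hsymm : Algebra.IsPushout R R' S S' := Algebra.IsPushout.symm inferInstance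
    haveI : Algebra.FinitePresentation R' S' :=
      Algebra.FinitePresentation.equiv (Algebra.IsPushout.equiv R R' S S')
    haveI : Module.FinitePresentation S' M' := FinitePresentation.of_isBaseChange f hf
    obtain ⟨j, hj1, hjflat⟩ := exists_away_flat (A := R') (C := S') M'
      (fun q' _ hq' => H q' hq')
    have hj2 : 1 - j ∈ (maximalIdeal R').map (algebraMap R' S') := by
      have := neg_mem hj1
      rwa [neg_sub] at this
    obtain ⟨ι, instF, a, s, ha, hrepr⟩ :=
      exists_repr (R := R) (S := S) (maximalIdeal R') (1 - j) hj2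
    obtain ⟨A₁, P₁, iA, iP, iRA, iAP, iSP, iRP, iT1, iT2, iPush, iNoeth, iFT, X, hUP⟩ :=
      exists_poly_model R S ι
    obtain ⟨iAR', iT3, hXa⟩ := hUP R' a
    haveI : SMulCommClass S A₁ P₁ := ⟨fun t x p => by
      simp only [Algebra.smul_def]; ring⟩
    obtain ⟨j₁, hj₁⟩ : ∃ j₁ : P₁,
        j₁ = 1 - ∑ i, algebraMap A₁ P₁ (X i) * algebraMap S P₁ (s i) := ⟨_, rfl⟩
    have hflR' : Module.Flat R' (R' ⊗[A₁] LocalizedModule (Submonoid.powers j₁) (P₁ ⊗[S] M)) := by
      rw [hj₁]
      refine (flat_model_iff (R := R) (S := S) (M := M) (TensorProduct.mk S P₁ M 1)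
        (TensorProduct.isBaseChange S M P₁) X s f hf).mpr ?_
      have hjj : (1 - ∑ i, algebraMap R' S' (algebraMap A₁ R' (X i)) * algebraMap S S' (s i)) =
          j := by
        simp only [hXa]
        rw [← hrepr]
        ring
      rw [hjj]
      exact hjflat
    haveI : Algebra.FiniteType P₁ (Localization (Submonoid.powers j₁)) := by
      haveI : Algebra.FinitePresentation P₁ (Localization.Away j₁) :=
        IsLocalization.Away.finitePresentation j₁
      exact (inferInstance : Algebra.FiniteType P₁ (Localization.Away j₁))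
    haveI : Algebra.FiniteType A₁ (Localization (Submonoid.powers j₁)) :=
      Algebra.FiniteType.trans (S := P₁) inferInstance inferInstance
    obtain ⟨Rl, iCR, iLR, iNR, iAlg, ψ, hψ, hflRl⟩ :=
      exists_noeth_local (A₁ := A₁) (B₁ := Localization (Submonoid.powers j₁))
        (LocalizedModule (Submonoid.powers j₁) (P₁ ⊗[S] M)) R' hflR'
    letI algRRl : Algebra R Rl := ((algebraMap A₁ Rl).comp (algebraMap R A₁)).toAlgebra
    haveI : IsScalarTower R A₁ Rl := IsScalarTower.of_algebraMap_eq (fun _ => rfl)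
    have hψR : ∀ x : R, ψ (algebraMap R Rl x) = algebraMap R R' x := fun x => by
      show ψ (algebraMap A₁ Rl (algebraMap R A₁ x)) = _
      rw [hψ, ← IsScalarTower.algebraMap_apply R A₁ R']
    haveI : IsLocalHom (algebraMap R Rl) := ⟨fun x hx => by
      have h1 : IsUnit (ψ (algebraMap R Rl x)) := hx.map ψ
      rw [hψR] at h1
      exact IsLocalHom.map_nonunit x h1⟩
    have hX : ∀ i, algebraMap A₁ Rl (X i) ∈ maximalIdeal Rl := by
      intro i
      rw [IsLocalRing.mem_maximalIdeal, mem_nonunits_iff]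
      intro hu
      have h1 : IsUnit (ψ (algebraMap A₁ Rl (X i))) := hu.map ψ
      rw [hψ, hXa] at h1
      exact (IsLocalRing.mem_maximalIdeal _).1 (ha i) h1
    subst hj₁
    have hle := le_ker_of_flat_model (R := R) (S := S) (M := M)
      (TensorProduct.mk S P₁ M 1) (TensorProduct.isBaseChange S M P₁) X s hX hflRl I hI hmin
    intro x hx
    have h1 := hle hx
    rw [RingHom.mem_ker] at h1 ⊢
    rw [← hψR, h1, map_zero]
  · intro hle q' _ hq'
    have hq := Groth.Agent.Lib.FlatteningH3.comap_comap_eq (R := R) (S := S) q' hq'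
    haveI := hI _ hq
    have h1 : Module.Flat R'
        (R' ⊗[R] LocalizedModule (q'.comap (algebraMap S S')).primeCompl M) :=
      Groth.Agent.Lib.FlatteningH3.flat_of_le_ker _ I R' hle
    exact Groth.Agent.Lib.FlatteningH3.flatAt_of_flat_tensor f hf q' h1

end Main

end Groth.Agent.Lib.Flat6927
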