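import Mathlib
import Groth.Agent.Lib.LocalCrit2_helper9

/-!
# Flatness via a nilpotent ideal and the associated primes (helper4)

`A` Noetherian, `J` nilpotent, `M/JM` flat over `A/J`, `M_p` flat over `A_p` for `p ∈ Ass A`
⇒ `M` flat.
-/

namespace Groth.Agent.Lib.FlatAssH4

open TensorProduct

universe u

variable {A : Type u} [CommRing A]

/-- local step: an element of the kernel of `M ⊗ F → M ⊗ A` is killed by some `s ∉ p` when
`M_p` is flat. -/
theorem exists_smul_eq_zero_of_flat_localized (p : Ideal A) [p.IsPrime] (M : Type u)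
    [AddCommGroup M] [Module A M]
    [Module.Flat (Localization.AtPrime p) (LocalizedModule p.primeCompl M)]
    (F : Ideal A) (ζ : M ⊗[A] F) (hζ : (F.subtype.lTensor M) ζ = 0) :
    ∃ s : A, s ∉ p ∧ s • ζ = 0 := by
  haveI : Module.Flat A (LocalizedModule p.primeCompl M) :=
    Module.Flat.trans A (Localization.AtPrime p) (LocalizedModule p.primeCompl M)
  obtain ⟨ℓ, hℓ⟩ : ∃ ℓ : M →ₗ[A] LocalizedModule p.primeCompl M,
      ℓ = LocalizedModule.mkLinearMap p.primeCompl M := ⟨_, rfl⟩
  haveI : IsLocalizedModule p.primeCompl ℓ := by rw [hℓ]; infer_instance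
  have hinj : Function.Injective (F.subtype.lTensor (LocalizedModule p.primeCompl M)) :=
    Module.Flat.lTensor_preserves_injective_linearMap
      (M := LocalizedModule p.primeCompl M) _ Subtype.val_injective
  have hloc : IsLocalizedModule p.primeCompl
      (TensorProduct.AlgebraTensorModule.rTensor A F ℓ) := inferInstance
  have hsq : (F.subtype.lTensor (LocalizedModule p.primeCompl M)) (ℓ.rTensor F ζ) =
      (ℓ.rTensor A) (F.subtype.lTensor M ζ) := by
    rw [← LinearMap.comp_apply, ← LinearMap.comp_apply, LinearMap.lTensor_comp_rTensor,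
      LinearMap.rTensor_comp_lTensor]
  have h0 : ℓ.rTensor F ζ = 0 := by
    apply hinj
    rw [hsq, hζ, map_zero, map_zero]
  have h1 : (TensorProduct.AlgebraTensorModule.rTensor A F ℓ) ζ = 0 := h0
  obtain ⟨⟨s, hs⟩, hsζ⟩ := (IsLocalizedModule.eq_zero_iff p.primeCompl _).mp h1
  exact ⟨s, hs, hsζ⟩

/-- global step: an element of the kernel of `M ⊗ F → M ⊗ A` is killed by a regular element. -/
theorem exists_regular_smul_eq_zero [IsNoetherianRing A] (M : Type u) [AddCommGroup M]
    [Module A M]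
    (hM : ∀ p : associatedPrimes A A,
          haveI : p.1.IsPrime := IsAssociatedPrime.isPrime p.2
          Module.Flat (Localization.AtPrime p.1) (LocalizedModule p.1.primeCompl M))
    (F : Ideal A) (ζ : M ⊗[A] F) (hζ : (F.subtype.lTensor M) ζ = 0) :
    ∃ s ∈ nonZeroDivisors A, s • ζ = 0 := by
  classical
  obtain ⟨I, hI⟩ : ∃ I : Ideal A, ∀ a, a ∈ I ↔ a • ζ = 0 :=
    ⟨LinearMap.ker (LinearMap.toSpanSingleton A (M ⊗[A] F) ζ), fun a => by
      rw [LinearMap.mem_ker, LinearMap.toSpanSingleton_apply]⟩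
  have hfin : (associatedPrimes A A).Finite := associatedPrimes.finite A A
  by_contra hcon
  push_neg at hcon
  have hsub : (I : Set A) ⊆ ⋃ p ∈ (hfin.toFinset : Set (Ideal A)), (p : Set A) := by
    intro a ha
    have h1 : a ∉ nonZeroDivisors A := fun h => hcon a h ((hI a).mp ha)
    have h2 : a ∈ (nonZeroDivisors A : Set A)ᶜ := h1
    rw [← biUnion_associatedPrimes_eq_compl_nonZeroDivisors] at h2
    simp only [Set.mem_iUnion, exists_prop] at h2
    obtain ⟨p, hp, hap⟩ := h2
    simp only [Set.mem_iUnion, exists_prop]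
    exact ⟨p, by simpa using hp, hap⟩
  obtain ⟨p, hp, hIp⟩ := (Ideal.subset_union_prime (s := hfin.toFinset)
    (f := fun Q : Ideal A => Q) ⊥ ⊥
    (fun Q hQ _ _ => IsAssociatedPrime.isPrime ((Set.Finite.mem_toFinset hfin).mp hQ))).mp hsub
  have hpA : p ∈ associatedPrimes A A := (Set.Finite.mem_toFinset hfin).mp hp
  haveI : p.IsPrime := IsAssociatedPrime.isPrime hpA
  haveI := hM ⟨p, hpA⟩
  obtain ⟨s, hsp, hsζ⟩ := exists_smul_eq_zero_of_flat_localized p M F ζ hζ
  exact hsp (hIp ((hI s).mpr hsζ))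

/-- the filtration `F_k = {a ∈ J | ∃ s regular, s a ∈ J^k}`. -/
def Fil (J : Ideal A) (k : ℕ) : Ideal A where
  carrier := {a | a ∈ J ∧ ∃ s ∈ nonZeroDivisors A, s * a ∈ J ^ k}
  add_mem' := by
    rintro a b ⟨ha, s, hs, hsa⟩ ⟨hb, t, ht, htb⟩
    refine ⟨J.add_mem ha hb, s * t, mul_mem hs ht, ?_⟩
    have h1 : s * t * (a + b) = t * (s * a) + s * (t * b) := by ring
    rw [h1]
    exact (J ^ k).add_mem ((J ^ k).mul_mem_left _ hsa) ((J ^ k).mul_mem_left _ htb)
  zero_mem' := ⟨J.zero_mem, 1, one_mem _, by simp⟩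
  smul_mem' := by
    rintro c a ⟨ha, s, hs, hsa⟩
    refine ⟨J.mul_mem_left _ ha, s, hs, ?_⟩
    have h1 : s * (c • a) = c * (s * a) := by rw [smul_eq_mul]; ring
    rw [h1]
    exact (J ^ k).mul_mem_left _ hsa

theorem mem_Fil {J : Ideal A} {k : ℕ} {a : A} :
    a ∈ Fil J k ↔ a ∈ J ∧ ∃ s ∈ nonZeroDivisors A, s * a ∈ J ^ k := Iff.rfl

theorem Fil_one (J : Ideal A) : Fil J 1 = J := by
  ext a
  rw [mem_Fil]
  constructor
  · exact fun h => h.1
  · intro h
    exact ⟨h, 1, one_mem _, by rw [one_mul, pow_one]; exact h⟩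

theorem Fil_eq_bot {J : Ideal A} {n : ℕ} (hn : J ^ n = ⊥) : Fil J n = ⊥ := by
  rw [eq_bot_iff]
  intro a ha
  obtain ⟨-, s, hs, hsa⟩ := mem_Fil.mp ha
  rw [hn, Ideal.mem_bot] at hsa
  rw [Ideal.mem_bot]
  rw [mul_comm] at hsa
  exact (mem_nonZeroDivisors_iff_right.mp hs) a hsa

theorem Fil_succ_le (J : Ideal A) (k : ℕ) : Fil J (k + 1) ≤ Fil J k := by
  intro a ha
  obtain ⟨haJ, s, hs, hsa⟩ := mem_Fil.mp ha
  exact mem_Fil.mpr ⟨haJ, s, hs, Ideal.pow_le_pow_right (Nat.le_succ k) hsa⟩

theorem mul_mem_Fil_succ {J : Ideal A} {k : ℕ} {j a : A} (hj : j ∈ J) (ha : a ∈ Fil J k) :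
    j * a ∈ Fil J (k + 1) := by
  obtain ⟨haJ, s, hs, hsa⟩ := mem_Fil.mp ha
  refine mem_Fil.mpr ⟨J.mul_mem_left _ haJ, s, hs, ?_⟩
  have h1 : s * (j * a) = j * (s * a) := by ring
  rw [h1, pow_succ']
  exact Ideal.mul_mem_mul hj hsa

theorem Fil_regular {J : Ideal A} {k : ℕ} {s a : A} (hs : s ∈ nonZeroDivisors A)
    (ha : a ∈ Fil J k) (hsa : s * a ∈ Fil J (k + 1)) : a ∈ Fil J (k + 1) := by
  obtain ⟨-, t, ht, hta⟩ := mem_Fil.mp hsa
  refine mem_Fil.mpr ⟨(mem_Fil.mp ha).1, t * s, mul_mem ht hs, ?_⟩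
  rw [mul_assoc]
  exact hta

/-- tensoring a module killed by `J` with `M` preserves regularity of `s`, if `M/JM` is flat. -/
theorem smul_regular_tensor (J : Ideal A) (M : Type u) [AddCommGroup M] [Module A M]
    [Module.Flat (A ⧸ J) ((A ⧸ J) ⊗[A] M)]
    (G : Type u) [AddCommGroup G] [Module A G] (hJG : ∀ a ∈ J, ∀ g : G, a • g = 0)
    (s : A) (hs : ∀ g : G, s • g = 0 → g = 0) (ζ : M ⊗[A] G) (hζ : s • ζ = 0) : ζ = 0 := by
  have htors : Module.IsTorsionBySet A G (J : Set A) := by
    intro g a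
    exact hJG a.1 a.2 g
  letI : Module (A ⧸ J) G := htors.module
  haveI : IsScalarTower A (A ⧸ J) G :=
    IsScalarTower.of_algebraMap_smul (fun r x => htors.mk_smul r x)
  obtain ⟨g, hg⟩ : ∃ g : G →ₗ[A ⧸ J] G, ∀ x, g x = s • x :=
    ⟨(algebraMap A (A ⧸ J) s) • LinearMap.id, fun x => by
      rw [LinearMap.smul_apply, LinearMap.id_apply, algebraMap_smul]⟩
  have hginj : Function.Injective g := by
    rw [injective_iff_map_eq_zero]
    intro x hx
    rw [hg] at hx
    exact hs x hx
  have h1 := Groth.Agent.Lib.LocalCrit2.lTensor_injective_of_flat_baseChange (R := A)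
    (A ⧸ J) g hginj M
  apply h1
  rw [map_zero]
  have h2 : (g.restrictScalars A).lTensor M = s • LinearMap.id := by
    apply TensorProduct.ext'
    intro m x
    rw [LinearMap.lTensor_tmul, LinearMap.smul_apply, LinearMap.id_apply,
      LinearMap.restrictScalars_apply, hg, TensorProduct.tmul_smul]
  rw [h2, LinearMap.smul_apply, LinearMap.id_apply]
  exact hζ

theorem lTensor_Fil_injective [IsNoetherianRing A] (J : Ideal A) (M : Type u) [AddCommGroup M]
    [Module A M] [Module.Flat (A ⧸ J) ((A ⧸ J) ⊗[A] M)]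
    (hM : ∀ p : associatedPrimes A A,
          haveI : p.1.IsPrime := IsAssociatedPrime.isPrime p.2
          Module.Flat (Localization.AtPrime p.1) (LocalizedModule p.1.primeCompl M))
    (n : ℕ) (hn : J ^ n = ⊥) :
    ∀ d k : ℕ, k + d = n → Function.Injective ((Fil J k).subtype.lTensor M) := by
  intro d
  induction d with
  | zero =>
    intro k hk
    have hkn : k = n := by omega
    have h1 : Fil J k = ⊥ := by rw [hkn]; exact Fil_eq_bot hn
    haveI : Subsingleton (Fil J k) := by
      rw [h1]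
      infer_instance
    haveI : Subsingleton (M ⊗[A] (Fil J k)) := inferInstance
    exact Function.injective_of_subsingleton _
  | succ d ih =>
    intro k hk
    have ih' := ih (k + 1) (by omega)
    rw [injective_iff_map_eq_zero]
    intro ξ hξ
    obtain ⟨s, hs, hsξ⟩ := exists_regular_smul_eq_zero M hM (Fil J k) ξ hξ
    obtain ⟨ι, hι⟩ : ∃ ι : Fil J (k + 1) →ₗ[A] Fil J k, ∀ x, (ι x : A) = x :=
      ⟨Submodule.inclusion (Fil_succ_le J k), fun x => rfl⟩
    obtain ⟨N, hN⟩ : ∃ N : Submodule A (Fil J k), N = LinearMap.range ι := ⟨_, rfl⟩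
    have hmemN : ∀ f : Fil J k, f ∈ N ↔ (f : A) ∈ Fil J (k + 1) := by
      intro f
      rw [hN, LinearMap.mem_range]
      constructor
      · rintro ⟨y, rfl⟩
        rw [hι]
        exact y.2
      · intro hf
        exact ⟨⟨f.1, hf⟩, Subtype.ext (hι _)⟩
    have hex : Function.Exact ι N.mkQ := by
      rw [hN]
      exact LinearMap.exact_map_mkQ_range ι
    have hex' : Function.Exact (ι.lTensor M) (N.mkQ.lTensor M) :=
      lTensor_exact M hex (Submodule.mkQ_surjective N)
    have hπξ : N.mkQ.lTensor M ξ = 0 := by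
      refine smul_regular_tensor J M (Fil J k ⧸ N) ?_ s ?_ _ ?_
      · intro a ha g
        obtain ⟨f, rfl⟩ := N.mkQ_surjective g
        rw [← map_smul, Submodule.mkQ_apply, Submodule.Quotient.mk_eq_zero, hmemN]
        exact mul_mem_Fil_succ ha f.2
      · intro g hg
        obtain ⟨f, rfl⟩ := N.mkQ_surjective g
        rw [← map_smul, Submodule.mkQ_apply, Submodule.Quotient.mk_eq_zero, hmemN] at hg
        rw [Submodule.mkQ_apply, Submodule.Quotient.mk_eq_zero, hmemN]
        exact Fil_regular hs f.2 hg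
      · rw [← map_smul, hsξ, map_zero]
    obtain ⟨η, hη⟩ := (hex' ξ).mp hπξ
    have hη0 : (Fil J (k + 1)).subtype.lTensor M η = 0 := by
      have hcomp : (Fil J k).subtype ∘ₗ ι = (Fil J (k + 1)).subtype := by
        ext x
        exact hι x
      rw [← hcomp, LinearMap.lTensor_comp, LinearMap.comp_apply, hη, hξ]
    rw [← hη, ih' (hη0.trans (map_zero _).symm), map_zero]

theorem transfer_inj (M : Type u) [AddCommGroup M] [Module A M] (F J : Ideal A) (h : F = J)
    (hF : Function.Injective (F.subtype.lTensor M)) :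
    Function.Injective (J.subtype.lTensor M) := by
  subst h
  exact hF

theorem flat_of_ass [IsNoetherianRing A] (J : Ideal A) (hJ : IsNilpotent J) (M : Type u)
    [AddCommGroup M] [Module A M] [Module.Flat (A ⧸ J) ((A ⧸ J) ⊗[A] M)]
    (hM : ∀ p : associatedPrimes A A,
          haveI : p.1.IsPrime := IsAssociatedPrime.isPrime p.2
          Module.Flat (Localization.AtPrime p.1) (LocalizedModule p.1.primeCompl M)) :
    Module.Flat A M := by
  obtain ⟨n, hn⟩ := hJ
  have hinj : Function.Injective (J.subtype.lTensor M) := by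
    rcases Nat.eq_zero_or_pos n with h0 | hpos
    · rw [h0, pow_zero, Ideal.one_eq_top] at hn
      haveI : Subsingleton A := by
        have h1 : (1 : A) ∈ (⊥ : Ideal A) := by
          have h2 : (1 : A) ∈ (⊤ : Ideal A) := Submodule.mem_top
          change (⊤ : Ideal A) = ⊥ at hn
          rw [hn] at h2
          exact h2
        rw [Ideal.mem_bot] at h1
        exact subsingleton_of_zero_eq_one h1.symm
      haveI : Subsingleton (M ⊗[A] J) := Module.subsingleton A _
      exact Function.injective_of_subsingleton _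
    · have h1 := lTensor_Fil_injective J M hM n hn (n - 1) 1 (by omega)
      exact transfer_inj M (Fil J 1) J (Fil_one J) h1
  refine Groth.Agent.Lib.LocalCrit2.flat_of_nilpotent J ⟨n, hn⟩ M ?_
  rw [← LinearMap.lTensor_inj_iff_rTensor_inj]
  exact hinj

theorem main [IsNoetherianRing A] (J : Ideal A) (hJ : IsNilpotent J) (M : Type u)
    [AddCommGroup M] [Module A M] :
    Module.Flat A M ↔
      Module.Flat (A ⧸ J) ((A ⧸ J) ⊗[A] M) ∧
        ∀ p : associatedPrimes A A,
          haveI : p.1.IsPrime := IsAssociatedPrime.isPrime p.2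
          Module.Flat (Localization.AtPrime p.1) (LocalizedModule p.1.primeCompl M) := by
  constructor
  · intro hflat
    refine ⟨inferInstance, ?_⟩
    intro p
    haveI : p.1.IsPrime := IsAssociatedPrime.isPrime p.2
    infer_instance
  · rintro ⟨h1, h2⟩
    exact flat_of_ass J hJ M h2

end Groth.Agent.Lib.FlatAssH4
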