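import Mathlib
import Groth.Agent.Lib.FlatAss_helper4
import Groth.Agent.Lib.LocalCrit13_helper9

/-!
# Flatness for ideally separated modules with flat associated graded ring (helper4)
-/

namespace Groth.Agent.Lib.FlatAss2H4

open TensorProduct

universe u

variable {A : Type u} [CommRing A]

/-- general prime-avoidance version of `FlatAssH4.exists_regular_smul_eq_zero`. -/
theorem exists_avoid_smul_eq_zero (M : Type u) [AddCommGroup M] [Module A M]
    (P : Set (Ideal A)) (hfin : P.Finite) (hprime : ∀ p ∈ P, p.IsPrime)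
    (hM : ∀ p ∈ P, ∀ [hp : p.IsPrime],
      Module.Flat (Localization.AtPrime p) (LocalizedModule p.primeCompl M))
    (F : Ideal A) (ζ : M ⊗[A] F) (hζ : (F.subtype.lTensor M) ζ = 0) :
    ∃ s : A, (∀ p ∈ P, s ∉ p) ∧ s • ζ = 0 := by
  classical
  obtain ⟨I, hI⟩ : ∃ I : Ideal A, ∀ a, a ∈ I ↔ a • ζ = 0 :=
    ⟨LinearMap.ker (LinearMap.toSpanSingleton A (M ⊗[A] F) ζ), fun a => by
      rw [LinearMap.mem_ker, LinearMap.toSpanSingleton_apply]⟩
  by_contra hcon
  have hcon' : ∀ s : A, (∀ p ∈ P, s ∉ p) → s • ζ ≠ 0 := by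
    intro s hs hsζ
    exact hcon ⟨s, hs, hsζ⟩
  have hsub : (I : Set A) ⊆ ⋃ p ∈ (hfin.toFinset : Set (Ideal A)), (p : Set A) := by
    intro a ha
    have h1 : ¬ (∀ p ∈ P, a ∉ p) := fun h => hcon' a h ((hI a).mp ha)
    have h2 : ∃ p ∈ P, a ∈ p := by
      by_contra h3
      apply h1
      intro p hp hap
      exact h3 ⟨p, hp, hap⟩
    obtain ⟨p, hp, hap⟩ := h2
    simp only [Set.mem_iUnion, exists_prop]
    exact ⟨p, by simpa using hp, hap⟩
  obtain ⟨p, hp, hIp⟩ := (Ideal.subset_union_prime (s := hfin.toFinset)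
    (f := fun Q : Ideal A => Q) ⊥ ⊥
    (fun Q hQ _ _ => hprime Q ((Set.Finite.mem_toFinset hfin).mp hQ))).mp hsub
  have hpP : p ∈ P := (Set.Finite.mem_toFinset hfin).mp hp
  haveI : p.IsPrime := hprime p hpP
  haveI := hM p hpP
  obtain ⟨s, hsp, hsζ⟩ :=
    Groth.Agent.Lib.FlatAssH4.exists_smul_eq_zero_of_flat_localized p M F ζ hζ
  exact hsp (hIp ((hI s).mpr hsζ))

/-- `rTensor` version. -/
theorem exists_avoid_smul_eq_zero_r (M : Type u) [AddCommGroup M] [Module A M]
    (P : Set (Ideal A)) (hfin : P.Finite) (hprime : ∀ p ∈ P, p.IsPrime)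
    (hM : ∀ p ∈ P, ∀ [hp : p.IsPrime],
      Module.Flat (Localization.AtPrime p) (LocalizedModule p.primeCompl M))
    (F : Ideal A) (ξ : F ⊗[A] M) (hξ : (F.subtype.rTensor M) ξ = 0) :
    ∃ s : A, (∀ p ∈ P, s ∉ p) ∧ s • ξ = 0 := by
  have hcomm : ∀ ξ : F ⊗[A] M, (F.subtype.lTensor M) (TensorProduct.comm A F M ξ) =
      TensorProduct.comm A A M ((F.subtype.rTensor M) ξ) := by
    intro ξ
    induction ξ using TensorProduct.induction_on with
    | zero => simp
    | tmul x m => simp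
    | add x y hx hy => simp only [map_add, hx, hy]
  obtain ⟨s, hs, hsζ⟩ := exists_avoid_smul_eq_zero M P hfin hprime hM F
    (TensorProduct.comm A F M ξ) (by rw [hcomm, hξ, map_zero])
  refine ⟨s, hs, ?_⟩
  apply (TensorProduct.comm A F M).injective
  rw [map_smul, hsζ, map_zero]

/-- tensoring a module killed by `J` with `M` preserves regularity of `s`, if `M/JM` is flat
(`rTensor` form). -/
theorem smul_regular_tensor_r (J : Ideal A) (M : Type u) [AddCommGroup M] [Module A M]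
    [Module.Flat (A ⧸ J) ((A ⧸ J) ⊗[A] M)]
    (G : Type u) [AddCommGroup G] [Module A G] (hJG : ∀ a ∈ J, ∀ g : G, a • g = 0)
    (s : A) (hs : ∀ g : G, s • g = 0 → g = 0) (ζ : G ⊗[A] M) (hζ : s • ζ = 0) : ζ = 0 := by
  have htors : Module.IsTorsionBySet A G (J : Set A) := by
    intro g a
    exact hJG a.1 a.2 g
  letI : Module (A ⧸ J) G := htors.module
  haveI : IsScalarTower A (A ⧸ J) G :=
    IsScalarTower.of_algebraMap_smul (fun r x => htors.mk_smul r x)
  obtain ⟨g, hg⟩ : ∃ g : G →ₗ[A ⧸ J] G, ∀ x, g x = s • x :=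
    ⟨(algebraMap A (A ⧸ J) s) • LinearMap.id, fun x => by
      rw [LinearMap.smul_apply, LinearMap.id_apply, algebraMap_smul]⟩
  have hginj : Function.Injective g := by
    rw [injective_iff_map_eq_zero]
    intro x hx
    rw [hg] at hx
    exact hs x hx
  have h1 := Groth.Agent.Lib.LocalCrit2.rTensor_injective_of_flat_baseChange (R := A)
    (A ⧸ J) g hginj M
  apply h1
  rw [map_zero]
  have h2 : (g.restrictScalars A).rTensor M = s • LinearMap.id := by
    apply TensorProduct.ext'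
    intro x m
    rw [LinearMap.rTensor_tmul, LinearMap.smul_apply, LinearMap.id_apply,
      LinearMap.restrictScalars_apply, hg, TensorProduct.smul_tmul']
  rw [h2, LinearMap.smul_apply, LinearMap.id_apply]
  exact hζ

/-- exactness of `J^(k+1) → J^k → (A/J) ⊗ J^k`. -/
theorem exact_pow (J : Ideal A) (k : ℕ) (ι : ↥(J ^ (k + 1)) →ₗ[A] ↥(J ^ k))
    (hι : ∀ x, (ι x : A) = x) :
    Function.Exact ι (TensorProduct.mk A (A ⧸ J) ↥(J ^ k) 1) := by
  intro y
  constructor
  · intro hy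
    have h1 : (TensorProduct.quotTensorEquivQuotSMul ↥(J ^ k) J)
        ((Ideal.Quotient.mk J 1) ⊗ₜ[A] y) = 0 := by
      have h0 : (TensorProduct.mk A (A ⧸ J) ↥(J ^ k) 1) y =
          (Ideal.Quotient.mk J 1) ⊗ₜ[A] y := rfl
      rw [← h0, hy, map_zero]
    rw [TensorProduct.quotTensorEquivQuotSMul_mk_tmul, one_smul,
      Submodule.Quotient.mk_eq_zero] at h1
    have h3 : ∀ z ∈ (J • (⊤ : Submodule A ↥(J ^ k))), (z : A) ∈ J ^ (k + 1) := by
      intro z hz
      refine Submodule.smul_induction_on hz ?_ ?_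
      · intro j hj n _
        rw [pow_succ']
        exact Ideal.mul_mem_mul hj n.2
      · intro a b ha hb
        exact (J ^ (k + 1)).add_mem ha hb
    exact ⟨⟨y.1, h3 y h1⟩, Subtype.ext (hι _)⟩
  · rintro ⟨x, rfl⟩
    have key : ∀ r ∈ J * J ^ k, ∀ hr : r ∈ J ^ k,
        (1 : A ⧸ J) ⊗ₜ[A] (⟨r, hr⟩ : ↥(J ^ k)) = 0 := by
      intro r hr
      refine Submodule.mul_induction_on'
        (C := fun r _ => ∀ hr : r ∈ J ^ k, (1 : A ⧸ J) ⊗ₜ[A] (⟨r, hr⟩ : ↥(J ^ k)) = 0)
        ?_ ?_ hr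
      · intro a ha b hb hab
        have h1 : (⟨a * b, hab⟩ : ↥(J ^ k)) = a • (⟨b, hb⟩ : ↥(J ^ k)) :=
          Subtype.ext (by simp [smul_eq_mul])
        have h2 : a • (1 : A ⧸ J) = 0 := by
          rw [Algebra.smul_def, mul_one]
          exact Ideal.Quotient.eq_zero_iff_mem.mpr ha
        rw [h1, TensorProduct.tmul_smul, TensorProduct.smul_tmul', h2, TensorProduct.zero_tmul]
      · intro x hx y hy cx cy hxy
        have hxJ : x ∈ J ^ k := Ideal.mul_le_right hx
        have hyJ : y ∈ J ^ k := Ideal.mul_le_right hy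
        have h1 : (⟨x + y, hxy⟩ : ↥(J ^ k)) = ⟨x, hxJ⟩ + ⟨y, hyJ⟩ := rfl
        rw [h1, TensorProduct.tmul_add, cx hxJ, cy hyJ, add_zero]
    have hx : (x : A) ∈ J * J ^ k := by
      rw [← pow_succ']
      exact x.2
    have h4 := key (ι x).1 (by rw [hι]; exact hx) (ι x).2
    exact h4

theorem mk_one_surjective (J : Ideal A) (N : Type u) [AddCommGroup N] [Module A N] :
    Function.Surjective (TensorProduct.mk A (A ⧸ J) N 1) := by
  intro z
  induction z using TensorProduct.induction_on with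
  | zero => exact ⟨0, map_zero _⟩
  | tmul x y =>
    obtain ⟨a, rfl⟩ := Ideal.Quotient.mk_surjective x
    refine ⟨a • y, ?_⟩
    rw [TensorProduct.mk_apply, TensorProduct.tmul_smul, TensorProduct.smul_tmul',
      Algebra.smul_def, mul_one]
    rfl
  | add x y hx hy =>
    obtain ⟨a, rfl⟩ := hx
    obtain ⟨b, rfl⟩ := hy
    exact ⟨a + b, map_add _ _ _⟩

theorem rTensor_injective_of_gr_flat [IsNoetherianRing A] (J : Ideal A) (M : Type u)
    [AddCommGroup M] [Module A M]
    (hsep : IsHausdorff J (↥J ⊗[A] M))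
    (hgr : ∀ k : ℕ, Module.Flat (A ⧸ J) ((A ⧸ J) ⊗[A] ↥(J ^ k)))
    [Module.Flat (A ⧸ J) ((A ⧸ J) ⊗[A] M)]
    (hM : ∀ q : associatedPrimes A (A ⧸ J),
          haveI : q.1.IsPrime := IsAssociatedPrime.isPrime q.2
          Module.Flat (Localization.AtPrime q.1) (LocalizedModule q.1.primeCompl M)) :
    Function.Injective (J.subtype.rTensor M) := by
  classical
  rw [injective_iff_map_eq_zero]
  intro ξ hξ
  have hfin : (associatedPrimes A (A ⧸ J)).Finite := associatedPrimes.finite A (A ⧸ J)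
  have KL : ∀ (F : Ideal A) (ζ : ↥F ⊗[A] M), (F.subtype.rTensor M) ζ = 0 →
      ∃ s : A, (∀ x : A ⧸ J, s • x = 0 → x = 0) ∧ s • ζ = 0 := by
    intro F ζ hζ
    obtain ⟨s, hs, hsζ⟩ := exists_avoid_smul_eq_zero_r M (associatedPrimes A (A ⧸ J)) hfin
      (fun p hp => IsAssociatedPrime.isPrime hp) (fun p hp _ => hM ⟨p, hp⟩) F ζ hζ
    refine ⟨s, ?_, hsζ⟩
    intro x hx
    by_contra hx0
    have h1 : s ∈ {r : A | ∃ x : A ⧸ J, x ≠ 0 ∧ r • x = 0} := ⟨x, hx0, hx⟩
    rw [← biUnion_associatedPrimes_eq_zero_divisors] at h1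
    simp only [Set.mem_iUnion, exists_prop] at h1
    obtain ⟨p, hp, hsp⟩ := h1
    exact hs p hp hsp
  have step : ∀ k : ℕ, ∀ η : ↥(J ^ k) ⊗[A] M, ((J ^ k).subtype.rTensor M) η = 0 →
      ∃ η' : ↥(J ^ (k + 1)) ⊗[A] M, ((J ^ (k + 1)).subtype.rTensor M) η' = 0 ∧
        ((Submodule.inclusion (Ideal.pow_le_pow_right (Nat.le_succ k)) :
          ↥(J ^ (k + 1)) →ₗ[A] ↥(J ^ k)).rTensor M) η' = η := by
    intro k η hη
    obtain ⟨s, hs, hsη⟩ := KL (J ^ k) η hη
    obtain ⟨ι, hι⟩ : ∃ ι : ↥(J ^ (k + 1)) →ₗ[A] ↥(J ^ k),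
        ι = Submodule.inclusion (Ideal.pow_le_pow_right (Nat.le_succ k)) := ⟨_, rfl⟩
    have hιv : ∀ x, (ι x : A) = x := fun x => by rw [hι]; rfl
    have hex := exact_pow J k ι hιv
    have hex' := rTensor_exact M hex (mk_one_surjective J ↥(J ^ k))
    have hπ : ((TensorProduct.mk A (A ⧸ J) ↥(J ^ k) 1).rTensor M) η = 0 := by
      haveI := hgr k
      refine smul_regular_tensor_r J M ((A ⧸ J) ⊗[A] ↥(J ^ k)) ?_ s ?_ _ ?_
      · intro a ha g
        induction g using TensorProduct.induction_on with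
        | zero => rw [smul_zero]
        | tmul x y =>
          have h2 : a • x = 0 := by
            rw [Algebra.smul_def]
            have : algebraMap A (A ⧸ J) a = 0 := Ideal.Quotient.eq_zero_iff_mem.mpr ha
            rw [this, zero_mul]
          rw [TensorProduct.smul_tmul', h2, TensorProduct.zero_tmul]
        | add x y hx hy => rw [smul_add, hx, hy, add_zero]
      · intro g hg
        have hnzd : algebraMap A (A ⧸ J) s ∈ nonZeroDivisors (A ⧸ J) := by
          rw [mem_nonZeroDivisors_iff_right]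
          intro x hx
          apply hs x
          rw [Algebra.smul_def, mul_comm]
          exact hx
        have hreg := Module.Flat.isSMulRegular_of_nonZeroDivisors
          (M := (A ⧸ J) ⊗[A] ↥(J ^ k)) hnzd
        apply hreg
        show algebraMap A (A ⧸ J) s • g = algebraMap A (A ⧸ J) s • 0
        rw [smul_zero, algebraMap_smul]
        exact hg
      · rw [← map_smul, hsη, map_zero]
    obtain ⟨η', hη'⟩ := (hex' η).mp hπ
    refine ⟨η', ?_, by rw [← hι]; exact hη'⟩
    have hcomp : (J ^ k).subtype ∘ₗ ι = (J ^ (k + 1)).subtype := by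
      ext x
      exact hιv x
    rw [← hcomp, LinearMap.rTensor_comp, LinearMap.comp_apply, hη', hη]
  -- iterate
  have Q : ∀ n : ℕ, ∃ (h : J ^ (n + 1) ≤ J) (η : ↥(J ^ (n + 1)) ⊗[A] M),
      ((J ^ (n + 1)).subtype.rTensor M) η = 0 ∧ ((Submodule.inclusion h).rTensor M) η = ξ := by
    intro n
    induction n with
    | zero =>
      have h01 : J ≤ J ^ (0 + 1) := by rw [zero_add, pow_one]
      have h10 : J ^ (0 + 1) ≤ J := by rw [zero_add, pow_one]
      refine ⟨h10, ((Submodule.inclusion h01).rTensor M) ξ, ?_, ?_⟩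
      · rw [← LinearMap.comp_apply, ← LinearMap.rTensor_comp]
        have hcomp : (J ^ (0 + 1)).subtype ∘ₗ Submodule.inclusion h01 = J.subtype := by
          ext x
          rfl
        rw [hcomp, hξ]
      · rw [← LinearMap.comp_apply, ← LinearMap.rTensor_comp]
        have hcomp : Submodule.inclusion h10 ∘ₗ Submodule.inclusion h01 = LinearMap.id := by
          ext x
          rfl
        rw [hcomp, LinearMap.rTensor_id, LinearMap.id_apply]
    | succ n ih =>
      obtain ⟨h, η, hη0, hηξ⟩ := ih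
      obtain ⟨η', hη'0, hη'η⟩ := step (n + 1) η hη0
      have h' : J ^ (n + 1 + 1) ≤ J := (Ideal.pow_le_pow_right (Nat.le_succ (n + 1))).trans h
      refine ⟨h', η', hη'0, ?_⟩
      have hcomp : Submodule.inclusion h' = Submodule.inclusion h ∘ₗ
          (Submodule.inclusion (Ideal.pow_le_pow_right (Nat.le_succ (n + 1))) :
            ↥(J ^ (n + 1 + 1)) →ₗ[A] ↥(J ^ (n + 1))) := by
        ext x
        rfl
      rw [hcomp, LinearMap.rTensor_comp, LinearMap.comp_apply, hη'η, hηξ]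
  apply hsep.haus' ξ
  intro n
  rw [SModEq.zero]
  obtain ⟨h, η, -, hηξ⟩ := Q n
  rw [← hηξ]
  clear hηξ
  induction η using TensorProduct.induction_on with
  | zero => rw [map_zero]; exact Submodule.zero_mem _
  | tmul y m =>
    rw [LinearMap.rTensor_tmul]
    have hy : (y : A) ∈ J ^ n * J := by
      rw [← pow_succ]
      exact y.2
    exact Groth.Agent.Lib.LocalCrit13.tmul_mem_of_mem_mul J J n M m y.1 hy (h y.2)
  | add u w hu hw =>
    rw [map_add]
    exact add_mem hu hw

theorem main [IsNoetherianRing A] (J : Ideal A) (M : Type u) [AddCommGroup M] [Module A M]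
    (hsep : ∀ a : Ideal A, IsHausdorff J (↥a ⊗[A] M))
    (hgr : ∀ k : ℕ, Module.Flat (A ⧸ J) ((A ⧸ J) ⊗[A] ↥(J ^ k))) :
    Module.Flat A M ↔
      Module.Flat (A ⧸ J) ((A ⧸ J) ⊗[A] M) ∧
        ∀ q : associatedPrimes A (A ⧸ J),
          haveI : q.1.IsPrime := IsAssociatedPrime.isPrime q.2
          Module.Flat (Localization.AtPrime q.1) (LocalizedModule q.1.primeCompl M) := by
  constructor
  · intro hflat
    refine ⟨inferInstance, ?_⟩
    intro q
    haveI : q.1.IsPrime := IsAssociatedPrime.isPrime q.2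
    infer_instance
  · rintro ⟨h1, h2⟩
    haveI := h1
    have htor := rTensor_injective_of_gr_flat J M (hsep J) hgr h2
    refine Groth.Agent.Lib.LocalCrit13.flat_of_forall_flat_quot_pow_of_hausdorff J M hsep
      (fun n => ?_)
    exact Groth.Agent.Lib.LocalCrit2.flat_quot_pow J M htor (n + 1)

end Groth.Agent.Lib.FlatAss2H4
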