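import Mathlib
import Groth.Prelude.Def_DRing2
import Groth.Prelude.Def_DDual2
import Groth.Prelude.Def_Wider
import Groth.Prelude.Def_DualSh
import Groth.Agent.Lib.FlatBC12_helper6

/-!
# Flat base change for `φ^!` (helper6), part 13: `φ^!` for an open immersion (S8943).
-/

set_option autoImplicit false
universe u
open CategoryTheory CategoryTheory.Limits DerivedCategory Pretriangulated AlgebraicGeometry
open scoped TensorProduct
attribute [local instance] HasDerivedCategory.standard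

namespace Groth.Agent.Lib.FlatBCH6

open DRing Groth.Agent.Lib.DMod_helper6 Groth.Agent.Lib.ShriekIndH6

/-- `φ^!` for a flat epimorphism of finite type with Noetherian source is derived base change -/
theorem shriekVia_flat_epi (R R' : Type u) [CommRing R] [CommRing R'] [IsNoetherianRing R]
    [Algebra R R'] [Module.Flat R R'] [Algebra.IsEpi R R'] (n : ℕ)
    (ψ : MvPolynomial (Fin n) R →ₐ[R] R') (hψ : Function.Surjective ψ)
    [DRing.HasLBaseChange (algebraMap R (MvPolynomial (Fin n) R))]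
    (Rψ : Dual.D (MvPolynomial (Fin n) R) ⥤ Dual.D R') (adj : DRing.restrictD ψ.toRingHom ⊣ Rψ)
    [DRing.HasLBaseChange (algebraMap R R')] (K : Dual.D R) :
    Nonempty (Dual2.shriekVia n Rψ K ≅ (DRing.LBaseChange (algebraMap R R')).obj K) := by
  let P := MvPolynomial (Fin n) R
  let P'' := MvPolynomial (Fin n) R'
  let A' := R' ⊗[R] R'
  let ψ'' : P'' →ₐ[R'] A' := presBC (R' := R') ψ
  let μ : A' ≃+* R' := mulEquivOfEpi R R'
  let α : R' →+* A' := (Algebra.TensorProduct.includeRight : R' →ₐ[R] R' ⊗[R] R').toRingHom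
  let σ : P'' →+* R' := μ.toRingHom.comp ψ''.toRingHom
  have hσ : ∀ t : R', σ (algebraMap R' P'' t) = t := by
    intro t
    show μ (ψ'' (algebraMap R' P'' t)) = t
    have h1 : ψ'' (algebraMap R' P'' t) = algebraMap R' A' t := ψ''.commutes t
    rw [h1, Algebra.TensorProduct.algebraMap_apply, Algebra.algebraMap_self, RingHom.id_apply]
    show mulEquivOfEpi R R' (t ⊗ₜ[R] (1 : R')) = t
    rw [mulEquivOfEpi_tmul, mul_one]
  have hperf := resPerf_of_flat R R' n ψ hψ
  obtain ⟨adjLι⟩ := Groth.Agent.Lib.DerivedAdj.nonempty_adj (algebraMap R P)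
  haveI hL'' : DRing.HasLBaseChange (algebraMap R' P'') := hasLBaseChange_of_flat
  obtain ⟨adjLι''⟩ := Groth.Agent.Lib.DerivedAdj.nonempty_adj (algebraMap R' P'')
  obtain ⟨adjLρ⟩ := Groth.Agent.Lib.DerivedAdj.nonempty_adj (algebraMap R R')
  obtain ⟨Rψ'', ⟨adj''⟩⟩ :=
    Groth.Agent.Lib.RestrictRightAdj.exists_rightAdjoint_restrictD ψ''.toRingHom
  obtain ⟨Rσ, ⟨adjσ⟩⟩ := Groth.Agent.Lib.RestrictRightAdj.exists_rightAdjoint_restrictD σ
  let Lα : Dual.D R' ⥤ Dual.D A' := restrictD μ.toRingHom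
  let adjLα : Lα ⊣ restrictD α := (restrictDEquivalence μ).toAdjunction
  let M : Dual.D R' := (DRing.LBaseChange (algebraMap R R')).obj K
  let S : Dual.D R' := Dual2.shriekVia n Rψ K
  obtain ⟨e1⟩ := shriek_flatBC_perf R R' R' n ψ hperf Rψ adj Rψ'' adj''
    (DRing.LBaseChange (algebraMap R P)) adjLι
    (DRing.LBaseChange (algebraMap R' P'')) adjLι''
    (DRing.LBaseChange (algebraMap R R')) adjLρ Lα adjLα K (n : ℤ)
  obtain ⟨e2⟩ := nonempty_restrict_leftAdj_iso μ α rfl Lα adjLα S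
  obtain ⟨e3⟩ := nonempty_rightAdj_targetIso ψ''.toRingHom μ σ rfl α rfl Rψ'' adj'' Rσ adjσ
    ((DRing.LBaseChange (algebraMap R' P'')).obj M)
  obtain ⟨e4⟩ := (good_mvPolynomial R' n σ hσ).2 (DRing.LBaseChange (algebraMap R' P''))
    adjLι'' Rσ adjσ M
  exact ⟨e2.symm ≪≫ (restrictD α).mapIso e1 ≪≫ ((restrictD α).commShiftIso (n : ℤ)).app _ ≪≫
    (shiftFunctor (Dual.D R') (n : ℤ)).mapIso e3 ≪≫ e4⟩

/-- **S8943** -/
theorem main8943 (R R' : Type u) [CommRing R] [CommRing R'] [IsNoetherianRing R]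
    [Algebra R R'] (hopen : IsOpenImmersion (Spec.map (CommRingCat.ofHom (algebraMap R R'))))
    (n : ℕ) (ψ : MvPolynomial (Fin n) R →ₐ[R] R') (hψ : Function.Surjective ψ)
    [DRing.HasLBaseChange (algebraMap R (MvPolynomial (Fin n) R))]
    (Rψ : Dual.D (MvPolynomial (Fin n) R) ⥤ Dual.D R') (adj : DRing.restrictD ψ.toRingHom ⊣ Rψ)
    [DRing.HasLBaseChange (algebraMap R R')] (K : Dual.D R) :
    Nonempty (Dual2.shriekVia n Rψ K ≅ (DRing.LBaseChange (algebraMap R R')).obj K) := by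
  haveI := Groth.Agent.Lib.FinSubOIH4.flat_of_oi R R' hopen
  haveI := Groth.Agent.Lib.FinSubOIH4.isEpi_of_oi R R' hopen
  exact shriekVia_flat_epi R R' n ψ hψ Rψ adj K

end Groth.Agent.Lib.FlatBCH6
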