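import Mathlib
import Groth.Agent.Lib.CurveFlat_helper7
import Groth.Agent.Lib.NormalBirat_helper7
import Groth.Agent.Lib.BiratMor2_helper7
import Groth.Agent.Lib.LocOpenImm_helper7
import Groth.Agent.Lib.BiratQF_helper7

set_option autoImplicit false
universe u
open CategoryTheory CategoryTheory.Limits AlgebraicGeometry

namespace Groth.Agent.Lib.FlatBiratH7

/-- Elements of the function field are fractions of elements of any local ring. -/
theorem exists_frac {Y : Scheme.{u}} [IsIntegral Y] (y₀ y : Y) (h₀ : y₀ = genericPoint Y)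
    (sp : y₀ ⤳ y) (k : Y.presheaf.stalk y₀) :
    ∃ a₁ a₂ : Y.presheaf.stalk y, a₂ ≠ 0 ∧
      (Y.presheaf.stalkSpecializes sp).hom a₂ * k = (Y.presheaf.stalkSpecializes sp).hom a₁ := by
  subst h₀
  obtain ⟨a₁, a₂, ha₂, h⟩ := IsFractionRing.div_surjective (A := Y.presheaf.stalk y)
    (K := Y.functionField) k
  refine ⟨a₁, a₂, nonZeroDivisors.ne_zero ha₂, ?_⟩
  have hne : algebraMap (Y.presheaf.stalk y) Y.functionField a₂ ≠ 0 :=
    IsFractionRing.to_map_ne_zero_of_mem_nonZeroDivisors ha₂
  change algebraMap _ Y.functionField a₂ * k = algebraMap _ Y.functionField a₁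
  rw [← h]
  field_simp

/-- A flat birational morphism of integral schemes induces isomorphisms on all local rings. -/
theorem isIso_stalkMap_of_flat_of_birational {X Y : Scheme.{u}} [IsIntegral X] [IsIntegral Y]
    (f : X ⟶ Y) [Flat f] (hgen : f (genericPoint X) = genericPoint Y)
    (hbir : IsIso (f.stalkMap (genericPoint X))) (x : X) : IsIso (f.stalkMap x) := by
  rw [ConcreteCategory.isIso_iff_bijective]
  have hinj : Function.Injective (f.stalkMap x).hom :=
    Groth.Agent.Lib.CurveFlatH7.stalkMap_injective_of_dominant f hgen x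
  refine ⟨hinj, ?_⟩
  have hflat : (f.stalkMap x).hom.Flat := (Flat.iff_flat_stalkMap f).mp inferInstance x
  have spX : genericPoint X ⤳ x := genericPoint_specializes x
  have spY : f (genericPoint X) ⤳ f x := spX.map f.continuous
  have hcomm : Y.presheaf.stalkSpecializes spY ≫ f.stalkMap (genericPoint X) =
      f.stalkMap x ≫ X.presheaf.stalkSpecializes spX :=
    Scheme.Hom.stalkSpecializes_stalkMap f (genericPoint X) x spX
  have hσ : Function.Bijective (f.stalkMap (genericPoint X)).hom :=
    ConcreteCategory.bijective_of_isIso _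
  have hιB : Function.Injective (X.presheaf.stalkSpecializes spX).hom :=
    Groth.Agent.Lib.NormalBiratH7.stalkSpecializes_injective _ _ rfl spX
  intro b
  obtain ⟨k, hk⟩ := hσ.2 ((X.presheaf.stalkSpecializes spX).hom b)
  obtain ⟨a₁, a₂, ha₂, hfrac⟩ := exists_frac (f (genericPoint X)) (f x) hgen spY k
  have e1 : ∀ a, (X.presheaf.stalkSpecializes spX).hom ((f.stalkMap x).hom a) =
      (f.stalkMap (genericPoint X)).hom ((Y.presheaf.stalkSpecializes spY).hom a) := fun a =>
    (congrArg (fun m => m.hom a) hcomm).symm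
  have h1 : (f.stalkMap x).hom a₂ * b = (f.stalkMap x).hom a₁ := by
    apply hιB
    rw [map_mul, e1, e1, ← hk, ← map_mul, hfrac]
  letI := (f.stalkMap x).hom.toAlgebra
  haveI : Module.Flat (Y.presheaf.stalk (f x)) (X.presheaf.stalk x) := hflat
  haveI : IsLocalHom (algebraMap (Y.presheaf.stalk (f x)) (X.presheaf.stalk x)) :=
    inferInstanceAs (IsLocalHom (f.stalkMap x).hom)
  haveI : Module.FaithfullyFlat (Y.presheaf.stalk (f x)) (X.presheaf.stalk x) :=
    Module.FaithfullyFlat.of_flat_of_isLocalHom
  have h3 : a₁ ∈ ((Ideal.span {a₂}).map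
      (algebraMap (Y.presheaf.stalk (f x)) (X.presheaf.stalk x))).comap
      (algebraMap (Y.presheaf.stalk (f x)) (X.presheaf.stalk x)) := by
    rw [Ideal.mem_comap, Ideal.map_span, Set.image_singleton, Ideal.mem_span_singleton']
    exact ⟨b, by rw [mul_comm]; exact h1⟩
  rw [Ideal.comap_map_eq_self_of_faithfullyFlat] at h3
  obtain ⟨c, hc⟩ := Ideal.mem_span_singleton'.mp h3
  refine ⟨c, ?_⟩
  have hne : (f.stalkMap x).hom a₂ ≠ 0 := fun h0 => ha₂ (hinj (h0.trans (map_zero _).symm))
  apply mul_left_cancel₀ hne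
  rw [h1, ← hc, map_mul, mul_comm]

/-- A flat separated birational morphism locally of finite type between integral schemes is an
open immersion. -/
theorem isOpenImmersion_of_flat_of_birational {X Y : Scheme.{u}} [IsIntegral X] [IsIntegral Y]
    (f : X ⟶ Y) [Flat f] [LocallyOfFiniteType f] [IsSeparated f]
    (hgen : f (genericPoint X) = genericPoint Y)
    (hbir : IsIso (f.stalkMap (genericPoint X))) : IsOpenImmersion f := by
  apply Groth.Agent.Lib.LocOpenImmH7.isOpenImmersion_of_separated_locally f
  · intro x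
    haveI := isIso_stalkMap_of_flat_of_birational f hgen hbir x
    exact Groth.Agent.Lib.BiratMor2H7.exists_local_iso f x
      (Groth.Agent.Lib.BiratMor2H7.hasLocalSection_of_germInj f x)
  · intro ξ ξ' hξ hξ' _
    rw [Groth.Agent.Lib.BiratQFH7.eq_genericPoint_of_mem_irreducibleComponents ξ hξ,
      Groth.Agent.Lib.BiratQFH7.eq_genericPoint_of_mem_irreducibleComponents ξ' hξ']

end Groth.Agent.Lib.FlatBiratH7
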