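import Mathlib
import Groth.Prelude.Def_Grpd
import Groth.Agent.Lib.GrpdCalc_helper6
import Groth.Agent.Lib.GrpLocClosed_helper4

set_option autoImplicit false
set_option linter.style.haveILetI false

universe u

open CategoryTheory CategoryTheory.Limits AlgebraicGeometry Grpd
open Groth.Agent.Lib.GrpdCalc

namespace Groth.Agent.Lib.GrpdClosedH4

variable {S : Scheme.{u}}

/-- An idempotent arrow is an identity. -/
theorem eq_e_of_idem (G : GroupoidScheme S) {T : Scheme.{u}} (ε : T ⟶ G.R)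
    (hst : ε ≫ G.s = ε ≫ G.t) (hidem : comp G ε ε hst = ε) : ε = ε ≫ G.t ≫ G.e := by
  have hA : ε ≫ G.s = (ε ≫ G.i) ≫ G.t := by rw [Category.assoc, G.i_t]
  have hB : comp G ε ε hst ≫ G.s = (ε ≫ G.i) ≫ G.t := by rw [comp_s']; exact hA
  have hC : ε ≫ G.s = comp G ε (ε ≫ G.i) hA ≫ G.t := by rw [comp_t']; exact hst
  have hD : ε ≫ G.s = (ε ≫ G.s ≫ G.e) ≫ G.t := by
    rw [Category.assoc, Category.assoc, G.e_t, Category.comp_id]
  calc ε = comp G ε (ε ≫ G.s ≫ G.e) hD := (comp_e' G ε hD).symm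
    _ = comp G ε (comp G ε (ε ≫ G.i) hA) hC :=
        comp_congr G rfl (by rw [comp_i' G ε hA, ← Category.assoc, hst, Category.assoc]) _ _
    _ = comp G (comp G ε ε hst) (ε ≫ G.i) hB :=
        (comp_assoc G ε ε (ε ≫ G.i) hst hA hB hC).symm
    _ = comp G ε (ε ≫ G.i) hA := comp_congr G hidem rfl _ _
    _ = ε ≫ G.t ≫ G.e := comp_i' G ε hA

/-- Uniqueness of inverses. -/
theorem eq_inv_of_comp_eq (G : GroupoidScheme S) {T : Scheme.{u}} (x' x y : T ⟶ G.R)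
    (hy : y = x ≫ G.i)
    (h : x' ≫ G.s = x ≫ G.t) (hc : comp G x' x h = x ≫ G.s ≫ G.e) : x' = y := by
  have hys : y ≫ G.s = x ≫ G.t := by rw [hy, Category.assoc, G.i_s]
  have hyt : y ≫ G.t = x ≫ G.s := by rw [hy, Category.assoc, G.i_t]
  have hA : x ≫ G.s = y ≫ G.t := hyt.symm
  have hB : comp G x' x h ≫ G.s = y ≫ G.t := by rw [comp_s']; exact hA
  have hC : x' ≫ G.s = comp G x y hA ≫ G.t := by rw [comp_t']; exact h
  have hD : x' ≫ G.s = (x' ≫ G.s ≫ G.e) ≫ G.t := by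
    rw [Category.assoc, Category.assoc, G.e_t, Category.comp_id]
  have hE : (x ≫ G.s ≫ G.e) ≫ G.s = y ≫ G.t := by
    rw [Category.assoc, Category.assoc, G.e_s, Category.comp_id]; exact hA
  have hF : (y ≫ G.t ≫ G.e) ≫ G.s = y ≫ G.t := by
    rw [Category.assoc, Category.assoc, G.e_s, Category.comp_id]
  have hxy : comp G x y hA = x ≫ G.t ≫ G.e := by
    have hA' : x ≫ G.s = (x ≫ G.i) ≫ G.t := by rw [Category.assoc, G.i_t]
    calc comp G x y hA = comp G x (x ≫ G.i) hA' := comp_congr G rfl hy _ _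
      _ = x ≫ G.t ≫ G.e := comp_i' G x hA'
  calc x' = comp G x' (x' ≫ G.s ≫ G.e) hD := (comp_e' G x' hD).symm
    _ = comp G x' (comp G x y hA) hC :=
        comp_congr G rfl (by rw [hxy, ← Category.assoc, h, Category.assoc]) _ _
    _ = comp G (comp G x' x h) y hB := (comp_assoc G x' x y h hA hB hC).symm
    _ = comp G (x ≫ G.s ≫ G.e) y hE := comp_congr G hc rfl _ _
    _ = comp G (y ≫ G.t ≫ G.e) y hF :=
        comp_congr G (by rw [← Category.assoc, ← Category.assoc, hyt]) rfl _ _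
    _ = y := e_comp' G y hF

section hom

variable {G₁ G₂ : GroupoidScheme S} (f : GroupoidScheme.Hom G₁ G₂)

lemma hom_comp {T : Scheme.{u}} (α β : T ⟶ G₁.R) (h : α ≫ G₁.s = β ≫ G₁.t)
    (h' : (α ≫ f.fR) ≫ G₂.s = (β ≫ f.fR) ≫ G₂.t) :
    comp G₁ α β h ≫ f.fR = comp G₂ (α ≫ f.fR) (β ≫ f.fR) h' := f.comm_c α β h

theorem hom_e : G₁.e ≫ f.fR = f.fU ≫ G₂.e := by
  have hs : (G₁.e ≫ f.fR) ≫ G₂.s = f.fU := by
    rw [Category.assoc, f.comm_s, ← Category.assoc, G₁.e_s, Category.id_comp]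
  have ht : (G₁.e ≫ f.fR) ≫ G₂.t = f.fU := by
    rw [Category.assoc, f.comm_t, ← Category.assoc, G₁.e_t, Category.id_comp]
  have h11 : G₁.e ≫ G₁.s = G₁.e ≫ G₁.t := by rw [G₁.e_s, G₁.e_t]
  have hidem1 : comp G₁ G₁.e G₁.e h11 = G₁.e := by
    have hx : G₁.e ≫ G₁.s = (G₁.e ≫ G₁.s ≫ G₁.e) ≫ G₁.t := by
      rw [Category.assoc, Category.assoc, G₁.e_t, Category.comp_id]
    have h0 : G₁.e ≫ G₁.s ≫ G₁.e = G₁.e := by rw [← Category.assoc, G₁.e_s, Category.id_comp]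
    calc comp G₁ G₁.e G₁.e h11 = comp G₁ G₁.e (G₁.e ≫ G₁.s ≫ G₁.e) hx :=
          comp_congr G₁ rfl h0.symm _ _
      _ = G₁.e := comp_e' G₁ G₁.e hx
  have hidem : comp G₂ (G₁.e ≫ f.fR) (G₁.e ≫ f.fR) (hs.trans ht.symm) = G₁.e ≫ f.fR := by
    rw [← hom_comp f G₁.e G₁.e h11 (hs.trans ht.symm), hidem1]
  have h2 := eq_e_of_idem G₂ _ (hs.trans ht.symm) hidem
  exact h2.trans (by rw [← Category.assoc, ht])

theorem hom_i : G₁.i ≫ f.fR = f.fR ≫ G₂.i := by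
  have h : (G₁.i ≫ f.fR) ≫ G₂.s = f.fR ≫ G₂.t := by
    rw [Category.assoc, f.comm_s, ← Category.assoc, G₁.i_s, f.comm_t]
  refine eq_inv_of_comp_eq G₂ (G₁.i ≫ f.fR) f.fR _ rfl h ?_
  have h1 : G₁.i ≫ G₁.s = 𝟙 G₁.R ≫ G₁.t := by rw [G₁.i_s, Category.id_comp]
  have h1' : (𝟙 G₁.R ≫ G₁.i) ≫ G₁.s = 𝟙 G₁.R ≫ G₁.t := by
    rw [Category.id_comp, G₁.i_s, Category.id_comp]
  have h2 : (G₁.i ≫ f.fR) ≫ G₂.s = (𝟙 G₁.R ≫ f.fR) ≫ G₂.t := by
    rw [Category.id_comp]; exact h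
  have e1 : comp G₁ G₁.i (𝟙 G₁.R) h1 = G₁.s ≫ G₁.e := by
    calc comp G₁ G₁.i (𝟙 G₁.R) h1 = comp G₁ (𝟙 G₁.R ≫ G₁.i) (𝟙 G₁.R) h1' :=
          comp_congr G₁ (Category.id_comp _).symm rfl _ _
      _ = 𝟙 G₁.R ≫ G₁.s ≫ G₁.e := i_comp' G₁ (𝟙 G₁.R) h1'
      _ = G₁.s ≫ G₁.e := Category.id_comp _
  calc comp G₂ (G₁.i ≫ f.fR) f.fR h = comp G₂ (G₁.i ≫ f.fR) (𝟙 G₁.R ≫ f.fR) h2 :=
        comp_congr G₂ rfl (Category.id_comp _).symm _ _
    _ = comp G₁ G₁.i (𝟙 G₁.R) h1 ≫ f.fR := (hom_comp f G₁.i (𝟙 G₁.R) h1 h2).symm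
    _ = (G₁.s ≫ G₁.e) ≫ f.fR := by rw [e1]
    _ = f.fR ≫ G₂.s ≫ G₂.e := by
        rw [Category.assoc, hom_e f, ← Category.assoc, ← f.comm_s, Category.assoc]

lemma c_map : pullback.map G₁.s G₁.t G₂.s G₂.t f.fR f.fR f.fU f.comm_s.symm f.comm_t.symm ≫ G₂.c =
    G₁.c ≫ f.fR := by
  have h' : (pullback.fst G₁.s G₁.t ≫ f.fR) ≫ G₂.s = (pullback.snd G₁.s G₁.t ≫ f.fR) ≫ G₂.t := by
    rw [Category.assoc, Category.assoc, f.comm_s, f.comm_t, ← Category.assoc, ← Category.assoc,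
      pullback.condition]
  have := hom_comp f (pullback.fst G₁.s G₁.t) (pullback.snd G₁.s G₁.t) pullback.condition h'
  rw [c_eq G₁, this]
  rfl

lemma mul_mem_range [IsIso f.fU] (z : ↑(pullback G₂.s G₂.t))
    (h1 : pullback.fst G₂.s G₂.t z ∈ Set.range f.fR)
    (h2 : pullback.snd G₂.s G₂.t z ∈ Set.range f.fR) : G₂.c z ∈ Set.range f.fR := by
  have hrange := Scheme.Pullback.range_map (f := G₁.s) (g := G₁.t) G₂.s G₂.t f.fR f.fR f.fU
    f.comm_s.symm f.comm_t.symm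
  have hz : z ∈ Set.range
      (pullback.map G₁.s G₁.t G₂.s G₂.t f.fR f.fR f.fU f.comm_s.symm f.comm_t.symm) := by
    rw [hrange]; exact ⟨h1, h2⟩
  obtain ⟨w, rfl⟩ := hz
  refine ⟨G₁.c w, ?_⟩
  rw [← Scheme.Hom.comp_apply, ← Scheme.Hom.comp_apply, c_map f]

lemma inv_mem_range (x : G₂.R) (h : x ∈ Set.range f.fR) : G₂.i x ∈ Set.range f.fR := by
  obtain ⟨w, rfl⟩ := h
  refine ⟨G₁.i w, ?_⟩
  rw [← Scheme.Hom.comp_apply, ← Scheme.Hom.comp_apply, hom_i f]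

lemma e_mem_range [IsIso f.fU] (u : G₂.U) : G₂.e u ∈ Set.range f.fR := by
  obtain ⟨u', rfl⟩ := f.fU.homeomorph.surjective u
  refine ⟨G₁.e u', ?_⟩
  rw [← Scheme.Hom.comp_apply, hom_e f, Scheme.Hom.comp_apply]
  rfl

/-- `c` maps `Z × Z` into `Z`, for `Z` the closure of the image. -/
theorem c_mem_closure [IsIntegral G₂.U] [Subsingleton G₂.U] [IsIso f.fU]
    (z : ↑(pullback G₂.s G₂.t))
    (hz1 : pullback.fst G₂.s G₂.t z ∈ closure (Set.range f.fR))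
    (hz2 : pullback.snd G₂.s G₂.t z ∈ closure (Set.range f.fR)) :
    G₂.c z ∈ closure (Set.range f.fR) := by
  have := Groth.Agent.Lib.GrpLocClosedH4.prod_closure (S := G₂.U) (Over.mk G₂.s) (Over.mk G₂.t)
    (Set.range f.fR) (Set.range f.fR) ⟨hz1, hz2⟩
  refine map_mem_closure G₂.c.continuous this ?_
  rintro z' ⟨h1', h2'⟩
  exact mul_mem_range f z' h1' h2'

set_option maxHeartbeats 1600000 in
theorem isClosed_range_of_isLocallyClosed [IsIntegral G₂.U] [Subsingleton G₂.U] [IsIso f.fU]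
    (h : IsLocallyClosed (Set.range f.fR)) : IsClosed (Set.range f.fR) := by
  set O : Set G₂.R := Set.range f.fR with hO
  obtain ⟨W, F, hWo, hFc, hWF⟩ := h
  have hZF : closure O ⊆ F := closure_minimal (by rw [hWF]; exact Set.inter_subset_right) hFc
  have hOW : O ⊆ W := by rw [hWF]; exact Set.inter_subset_left
  have hZW : closure O ∩ W ⊆ O := by
    rintro x ⟨hx1, hx2⟩
    rw [hWF]; exact ⟨hx2, hZF hx1⟩
  have hA : ∀ z : ↑(pullback G₂.s G₂.t), pullback.fst G₂.s G₂.t z ∈ closure O →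
      pullback.snd G₂.s G₂.t z ∈ closure O → G₂.c z ∈ closure O :=
    fun z hz1 hz2 => c_mem_closure f z hz1 hz2
  have hB : ∀ x : G₂.R, x ∈ closure O → G₂.i x ∈ closure O := fun x hx =>
    map_mem_closure G₂.i.continuous hx (fun y hy => inv_mem_range f y hy)
  rw [← closure_subset_iff_isClosed]
  intro g hg
  let gt : Spec (G₂.R.residueField g) ⟶ G₂.R := G₂.R.fromSpecResidueField g
  let T : Scheme.{u} := pullback (gt ≫ G₂.t) G₂.t
  let q : T ⟶ Spec (G₂.R.residueField g) := pullback.fst (gt ≫ G₂.t) G₂.t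
  let p : T ⟶ G₂.R := pullback.snd (gt ≫ G₂.t) G₂.t
  have hcond : q ≫ gt ≫ G₂.t = p ≫ G₂.t := pullback.condition
  let g' : T ⟶ G₂.R := q ≫ gt
  have hg't : g' ≫ G₂.t = p ≫ G₂.t := by
    show (q ≫ gt) ≫ G₂.t = _
    rw [Category.assoc]; exact hcond
  have hθ0 : (g' ≫ G₂.i) ≫ G₂.s = p ≫ G₂.t := by rw [Category.assoc, G₂.i_s]; exact hg't
  let θ : T ⟶ G₂.R := comp G₂ (g' ≫ G₂.i) p hθ0
  have hg'pt : ∀ w : T, g' w = g := by
    intro w
    show (q ≫ gt) w = g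
    rw [Scheme.Hom.comp_apply]
    exact Scheme.fromSpecResidueField_apply _ _
  have hp_open : IsOpenMap p := by
    haveI : UniversallyOpen (gt ≫ G₂.t) := inferInstance
    haveI : UniversallyOpen p :=
      (inferInstance : UniversallyOpen (pullback.snd (gt ≫ G₂.t) G₂.t))
    exact p.isOpenMap
  have hC1 : ∀ w : T, p w ∈ closure O → θ w ∈ closure O := by
    intro w hw
    have := hA ((pullback.lift (g' ≫ G₂.i) p hθ0) w)
      (by rw [← Scheme.Hom.comp_apply, pullback.lift_fst, Scheme.Hom.comp_apply, hg'pt]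
          exact hB g hg)
      (by rw [← Scheme.Hom.comp_apply, pullback.lift_snd]; exact hw)
    rw [← Scheme.Hom.comp_apply] at this
    exact this
  let pt : Spec (G₂.R.residueField g) := IsLocalRing.closedPoint (G₂.R.residueField g)
  have hσ : 𝟙 (Spec (G₂.R.residueField g)) ≫ gt ≫ G₂.t = gt ≫ G₂.t := Category.id_comp _
  let σ : Spec (G₂.R.residueField g) ⟶ T := pullback.lift (𝟙 _) gt hσ
  have hσq : σ ≫ q = 𝟙 _ := pullback.lift_fst _ _ _
  have hσp : σ ≫ p = gt := pullback.lift_snd _ _ _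
  let t₀ : T := σ pt
  have hpt₀ : p t₀ = g := by
    show p (σ pt) = g
    rw [← Scheme.Hom.comp_apply, hσp]
    exact Scheme.fromSpecResidueField_apply _ _
  have hσg' : σ ≫ g' = gt := by
    show σ ≫ q ≫ gt = gt
    rw [← Category.assoc, hσq, Category.id_comp]
  have hθt₀ : θ t₀ ∈ O := by
    have hx : (gt ≫ G₂.i) ≫ G₂.s = gt ≫ G₂.t := by rw [Category.assoc, G₂.i_s]
    have hx' : (σ ≫ g' ≫ G₂.i) ≫ G₂.s = (σ ≫ p) ≫ G₂.t := by
      simpa only [Category.assoc] using congrArg (fun x => σ ≫ x) hθ0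
    have e : σ ≫ θ = gt ≫ G₂.s ≫ G₂.e := by
      calc σ ≫ θ = comp G₂ (σ ≫ g' ≫ G₂.i) (σ ≫ p) hx' := precomp_comp G₂ σ _ _ hθ0 hx'
        _ = comp G₂ (gt ≫ G₂.i) gt hx :=
            comp_congr G₂ (by rw [← Category.assoc, hσg']) hσp _ _
        _ = gt ≫ G₂.s ≫ G₂.e := i_comp' G₂ gt hx
    show θ (σ pt) ∈ O
    rw [← Scheme.Hom.comp_apply, e, Scheme.Hom.comp_apply, Scheme.Hom.comp_apply]
    exact e_mem_range f _
  have hC2 : t₀ ∈ closure (p ⁻¹' O) := by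
    rw [← hp_open.preimage_closure_eq_closure_preimage p.continuous]
    show p t₀ ∈ closure O
    rw [hpt₀]; exact hg
  have hBo : IsOpen (θ ⁻¹' W) := hWo.preimage θ.continuous
  obtain ⟨w, hw1, hw2⟩ := mem_closure_iff.mp hC2 _ hBo (hOW hθt₀)
  have hw1' : θ w ∈ W := hw1
  have hw2' : p w ∈ O := hw2
  have hθw : θ w ∈ O := hZW ⟨hC1 w (subset_closure hw2'), hw1'⟩
  have hgen : ∀ (a : T ⟶ G₂.R), (a ≫ G₂.i) ≫ G₂.t = a ≫ G₂.s := fun a => by
    rw [Category.assoc, G₂.i_t]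
  have h1 : g' ≫ G₂.s = θ ≫ G₂.t := by
    show g' ≫ G₂.s = comp G₂ (g' ≫ G₂.i) p hθ0 ≫ G₂.t
    rw [comp_t']
    exact (hgen g').symm
  have hT1 : comp G₂ g' θ h1 = p := comp_inv_comp_left G₂ g' p hg't hθ0 h1
  have h2 : p ≫ G₂.s = (θ ≫ G₂.i) ≫ G₂.t := by
    rw [Category.assoc, G₂.i_t]
    show p ≫ G₂.s = comp G₂ (g' ≫ G₂.i) p hθ0 ≫ G₂.s
    rw [comp_s']
  have hT2 : comp G₂ p (θ ≫ G₂.i) h2 = g' := by
    have h3 : comp G₂ g' θ h1 ≫ G₂.s = (θ ≫ G₂.i) ≫ G₂.t := by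
      rw [comp_s', Category.assoc, G₂.i_t]
    calc comp G₂ p (θ ≫ G₂.i) h2 = comp G₂ (comp G₂ g' θ h1) (θ ≫ G₂.i) h3 :=
          comp_congr G₂ hT1.symm rfl _ _
      _ = g' := comp_inv_comp G₂ g' θ h1 h3
  have hfin := mul_mem_range f ((pullback.lift p (θ ≫ G₂.i) h2) w)
    (by rw [← Scheme.Hom.comp_apply, pullback.lift_fst]; exact hw2')
    (by rw [← Scheme.Hom.comp_apply, pullback.lift_snd, Scheme.Hom.comp_apply]
        exact inv_mem_range f _ hθw)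
  rw [← Scheme.Hom.comp_apply] at hfin
  have e4 : pullback.lift p (θ ≫ G₂.i) h2 ≫ G₂.c = g' := hT2
  rw [e4, hg'pt] at hfin
  exact hfin

end hom

section mains

lemma instances_of_iso {U : Scheme.{u}} (k : Type u) [Field k]
    (eU : U ≅ Spec (CommRingCat.of k)) : IsIntegral U ∧ Subsingleton U := by
  haveI : Subsingleton ↥(Spec (CommRingCat.of k)) :=
    inferInstanceAs (Subsingleton (PrimeSpectrum k))
  haveI : Nonempty ↥(Spec (CommRingCat.of k)) :=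
    inferInstanceAs (Nonempty (PrimeSpectrum k))
  haveI : Subsingleton U := eU.hom.homeomorph.subsingleton
  haveI : Nonempty U := ⟨eU.inv (Classical.arbitrary _)⟩
  exact ⟨isIntegral_of_isOpenImmersion eU.hom, inferInstance⟩

theorem main1892 (S : Scheme.{u}) (G₁ G₂ : Grpd.GroupoidScheme S) (k : Type u) [Field k]
    (eU : G₂.U ≅ Spec (CommRingCat.of k)) (a : Grpd.GroupoidScheme.Hom G₁ G₂) [IsIso a.fU]
    (hlc : IsLocallyClosed (Set.range ⇑a.fR)) : IsClosed (Set.range ⇑a.fR) := by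
  obtain ⟨h1, h2⟩ := instances_of_iso k eU
  exact isClosed_range_of_isLocallyClosed a hlc

theorem main1891 (S : Scheme.{u}) (G₁ G₂ : Grpd.GroupoidScheme S) (k : Type u) [Field k]
    (eU : G₂.U ≅ Spec (CommRingCat.of k)) (a : Grpd.GroupoidScheme.Hom G₁ G₂) [IsIso a.fU]
    (hopen : IsOpen (Set.range ⇑a.fR)) : IsClosed (Set.range ⇑a.fR) :=
  main1892 S G₁ G₂ k eU a hopen.isLocallyClosed

theorem main7462 (S : Scheme.{u}) (G₁ G₂ : Grpd.GroupoidScheme S)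
    (f : Grpd.GroupoidScheme.Hom G₁ G₂) [IsIso f.fU] (k : Type u) [Field k]
    (eU : G₂.U ≅ Spec (CommRingCat.of k)) (p : ↑(pullback G₂.s G₂.t))
    (h₁ : pullback.fst G₂.s G₂.t p ∈ closure (Set.range ⇑f.fR))
    (h₂ : pullback.snd G₂.s G₂.t p ∈ closure (Set.range ⇑f.fR)) :
    G₂.c p ∈ closure (Set.range ⇑f.fR) := by
  obtain ⟨h1, h2⟩ := instances_of_iso k eU
  exact c_mem_closure f p h₁ h₂

set_option maxHeartbeats 800000 in
theorem main7463 (S : Scheme.{u}) (G : Grpd.GroupoidScheme S) (k : Type u) [Field k]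
    (eU : G.U ≅ Spec (CommRingCat.of k))
    (pr02 : pullback (pullback.snd G.pU G.pU) (pullback.fst G.pU G.pU) ⟶ pullback G.pU G.pU)
    (h0 : pr02 ≫ pullback.fst G.pU G.pU =
      pullback.fst (pullback.snd G.pU G.pU) (pullback.fst G.pU G.pU) ≫ pullback.fst G.pU G.pU)
    (h1 : pr02 ≫ pullback.snd G.pU G.pU =
      pullback.snd (pullback.snd G.pU G.pU) (pullback.fst G.pU G.pU) ≫ pullback.snd G.pU G.pU)
    (p : ↑(pullback (pullback.snd G.pU G.pU) (pullback.fst G.pU G.pU)))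
    (h₁ : pullback.fst (pullback.snd G.pU G.pU) (pullback.fst G.pU G.pU) p ∈
      closure (Set.range ⇑G.j))
    (h₂ : pullback.snd (pullback.snd G.pU G.pU) (pullback.fst G.pU G.pU) p ∈
      closure (Set.range ⇑G.j)) : pr02 p ∈ closure (Set.range ⇑G.j) := by
  obtain ⟨hi1, hi2⟩ := instances_of_iso k eU
  have hj1 : G.j ≫ pullback.fst G.pU G.pU = G.t := pullback.lift_fst _ _ _
  have hj2 : G.j ≫ pullback.snd G.pU G.pU = G.s := pullback.lift_snd _ _ _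
  have e₁ : G.s ≫ 𝟙 G.U = G.j ≫ pullback.snd G.pU G.pU := by rw [hj2, Category.comp_id]
  have e₂ : G.t ≫ 𝟙 G.U = G.j ≫ pullback.fst G.pU G.pU := by rw [hj1, Category.comp_id]
  have := Groth.Agent.Lib.GrpLocClosedH4.prod_closure (S := G.U)
    (Over.mk (pullback.snd G.pU G.pU)) (Over.mk (pullback.fst G.pU G.pU))
    (Set.range G.j) (Set.range G.j) ⟨h₁, h₂⟩
  refine map_mem_closure pr02.continuous this ?_
  rintro z' ⟨h1', h2'⟩
  have hrange := Scheme.Pullback.range_map (f := G.s) (g := G.t) (pullback.snd G.pU G.pU)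
    (pullback.fst G.pU G.pU) G.j G.j (𝟙 G.U) e₁ e₂
  have hz : z' ∈ Set.range (pullback.map G.s G.t (pullback.snd G.pU G.pU)
      (pullback.fst G.pU G.pU) G.j G.j (𝟙 G.U) e₁ e₂) := by
    rw [hrange]; exact ⟨h1', h2'⟩
  obtain ⟨w, rfl⟩ := hz
  have key : pullback.map G.s G.t (pullback.snd G.pU G.pU) (pullback.fst G.pU G.pU) G.j G.j
      (𝟙 G.U) e₁ e₂ ≫ pr02 = G.c ≫ G.j := by
    apply pullback.hom_ext
    · rw [Category.assoc, h0, pullback.lift_fst_assoc, Category.assoc, hj1, Category.assoc, hj1,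
        c_t]
    · rw [Category.assoc, h1, pullback.lift_snd_assoc, Category.assoc, hj2, Category.assoc, hj2,
        c_s]
  refine ⟨G.c w, ?_⟩
  rw [← Scheme.Hom.comp_apply, ← Scheme.Hom.comp_apply, key]

end mains

end Groth.Agent.Lib.GrpdClosedH4
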