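import Mathlib
import Groth.Prelude.Def_Grpd
import Groth.Agent.Lib.GrpdCalc_helper6

set_option autoImplicit false
set_option linter.style.haveILetI false

universe u

open CategoryTheory CategoryTheory.Limits AlgebraicGeometry Grpd
open Groth.Agent.Lib.GrpdCalc

namespace Groth.Agent.Lib.GrpdMaxInvH4

lemma iff_of_isPullback_singleton {K : Precoverage Scheme.{u}} {P : MorphismProperty Scheme.{u}}
    [P.IsLocalAtTarget K] {X Y U X' : Scheme.{u}} {f : X ⟶ Y} {g : U ⟶ Y}
    (hg : Presieve.singleton g ∈ K Y) {fst : X' ⟶ X} {snd : X' ⟶ U}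
    (h : IsPullback fst snd f g) : P f ↔ P snd := by
  haveI := h.hasPullback
  constructor
  · intro hf
    rw [← P.cancel_left_of_respectsIso h.isoPullback.inv, h.isoPullback_inv_snd]
    exact MorphismProperty.IsLocalAtTarget.pullbackSnd hg (Presieve.singleton_self g) hf
  · intro hs
    apply MorphismProperty.IsLocalAtTarget.of_forall_pullbackSnd (K := K) hg
    intro U' g' _ hg'
    cases hg'
    rw [← h.isoPullback_inv_snd, P.cancel_left_of_respectsIso]
    exact hs

variable {S : Scheme.{u}}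

/-- Generic engine: `F : Y → U` a morphism, `(X, σ)` a scheme over `R` which is simultaneously the
pullback of `F` along `s` and along `t`.  Then the largest open of `U` over which `F` has `P`
is invariant. -/
theorem invariant_of_max_gen (G : GroupoidScheme S) (Q P : MorphismProperty Scheme.{u})
    [Q.IsStableUnderBaseChange] [Q.IsStableUnderComposition]
    (hb : ∀ {X Y : Scheme.{u}} (f : X ⟶ Y) [IsOpenImmersion f], Q f)
    (hc : ∀ {X Y : Scheme.{u}} (f : X ⟶ Y), Q f → IsOpenMap f)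
    [P.IsLocalAtTarget (Scheme.precoverage Q)]
    (hs : Q G.s) (ht : Q G.t) {Y X : Scheme.{u}} (F : Y ⟶ G.U) (σ : X ⟶ G.R) (α β : X ⟶ Y)
    (hA : IsPullback α σ F G.s) (hB : IsPullback β σ F G.t)
    (W : G.U.Opens) (hW : P (F ∣_ W))
    (hmax : ∀ W' : G.U.Opens, P (F ∣_ W') → W' ≤ W) : G.s ⁻¹ᵁ W = G.t ⁻¹ᵁ W := by
  have hs_surj : Function.Surjective G.s := fun x =>
    ⟨G.e x, by rw [← Scheme.Hom.comp_apply, G.e_s]; rfl⟩
  obtain ⟨O, hO⟩ : ∃ O : G.R.Opens, O = G.s ⁻¹ᵁ W := ⟨_, rfl⟩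
  let W' : G.U.Opens := ⟨G.t '' (O : Set G.R), hc G.t ht _ O.2⟩
  have hrange : Set.range (O.ι ≫ G.t) ⊆ Set.range W'.ι := by
    rw [Scheme.Opens.range_ι, Scheme.Hom.comp_base, TopCat.coe_comp, Set.range_comp,
      Scheme.Opens.range_ι]
    exact subset_rfl
  obtain ⟨t', ht'⟩ : ∃ t' : O.toScheme ⟶ W'.toScheme, t' ≫ W'.ι = O.ι ≫ G.t :=
    ⟨IsOpenImmersion.lift W'.ι (O.ι ≫ G.t) hrange, IsOpenImmersion.lift_fac _ _ _⟩
  have hQt' : Q t' := by
    apply MorphismProperty.of_postcomp Q (W' := @IsOpenImmersion) t' W'.ι inferInstance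
    rw [ht']
    exact Q.comp_mem _ _ (hb O.ι) ht
  have ht'_surj : Function.Surjective t' := by
    intro w
    obtain ⟨r, hr, hrw⟩ : W'.ι w ∈ G.t '' (O : Set G.R) := by
      have h0 : W'.ι w ∈ Set.range W'.ι := Set.mem_range_self w
      rw [Scheme.Opens.range_ι] at h0
      exact h0
    refine ⟨⟨r, hr⟩, ?_⟩
    apply W'.ι.isOpenEmbedding.injective
    rw [← Scheme.Hom.comp_apply, ht', Scheme.Hom.comp_apply]
    exact hrw
  have hcov_t' : Presieve.singleton t' ∈ Scheme.precoverage Q W'.toScheme :=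
    (Scheme.singleton_mem_precoverage_iff Q t').mpr ⟨ht'_surj, hQt'⟩
  -- the cover `s ∣_ W`
  obtain ⟨sW, hsW⟩ : ∃ sW : O.toScheme ⟶ W.toScheme, sW ≫ W.ι = O.ι ≫ G.s := by
    subst hO
    exact ⟨G.s ∣_ W, morphismRestrict_ι G.s W⟩
  have sqW : IsPullback O.ι sW G.s W.ι := by
    subst hO
    have e : sW = G.s ∣_ W := by
      rw [← cancel_mono W.ι, hsW, morphismRestrict_ι]
    rw [e]
    exact (isPullback_morphismRestrict G.s W).flip
  have hQsW : Q sW := Q.of_isPullback sqW hs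
  have hsW_surj : Function.Surjective sW := by
    intro w
    obtain ⟨r, hr⟩ := hs_surj (W.ι w)
    have hrO : r ∈ O := by
      rw [hO]
      show G.s r ∈ W
      rw [hr]
      have h0 : W.ι w ∈ Set.range W.ι := Set.mem_range_self w
      rw [Scheme.Opens.range_ι] at h0
      exact h0
    refine ⟨⟨r, hrO⟩, ?_⟩
    apply W.ι.isOpenEmbedding.injective
    rw [← Scheme.Hom.comp_apply, hsW, Scheme.Hom.comp_apply]
    exact hr
  have hcov_sW : Presieve.singleton sW ∈ Scheme.precoverage Q W.toScheme :=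
    (Scheme.singleton_mem_precoverage_iff Q sW).mpr ⟨hsW_surj, hQsW⟩
  -- squares
  have sqR : IsPullback (σ ⁻¹ᵁ O).ι (σ ∣_ O) σ O.ι := (isPullback_morphismRestrict _ O).flip
  have sq1 : IsPullback ((σ ⁻¹ᵁ O).ι ≫ α) (σ ∣_ O) F (O.ι ≫ G.s) := sqR.paste_horiz hA
  have sq2 : IsPullback ((σ ⁻¹ᵁ O).ι ≫ β) (σ ∣_ O) F (O.ι ≫ G.t) := sqR.paste_horiz hB
  have sq1' : IsPullback ((σ ⁻¹ᵁ O).ι ≫ α) (σ ∣_ O) F (sW ≫ W.ι) := by rw [hsW]; exact sq1
  have sq1'' := IsPullback.of_right' sq1' (isPullback_morphismRestrict F W).flip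
  have hPσ : P (σ ∣_ O) := (iff_of_isPullback_singleton hcov_sW sq1'').mp hW
  have sq2' : IsPullback ((σ ⁻¹ᵁ O).ι ≫ β) (σ ∣_ O) F (t' ≫ W'.ι) := by rw [ht']; exact sq2
  have sq2'' := IsPullback.of_right' sq2' (isPullback_morphismRestrict F W').flip
  have hPW' : P (F ∣_ W') := (iff_of_isPullback_singleton hcov_t' sq2'').mpr hPσ
  have hle : W' ≤ W := hmax W' hPW'
  have h1 : ∀ r : G.R, G.s r ∈ W → G.t r ∈ W := fun r hr =>
    hle ⟨r, by rw [hO]; exact hr, rfl⟩
  ext r
  constructor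
  · exact h1 r
  · intro hr
    have h2 : G.s (G.i r) ∈ W := by
      rw [← Scheme.Hom.comp_apply, G.i_s]; exact hr
    have h3 := h1 (G.i r) h2
    rwa [← Scheme.Hom.comp_apply, G.i_t] at h3

theorem invariant_of_max (G : GroupoidScheme S) (Q P : MorphismProperty Scheme.{u})
    [Q.IsStableUnderBaseChange] [Q.IsStableUnderComposition]
    (hb : ∀ {X Y : Scheme.{u}} (f : X ⟶ Y) [IsOpenImmersion f], Q f)
    (hc : ∀ {X Y : Scheme.{u}} (f : X ⟶ Y), Q f → IsOpenMap f)
    [P.IsLocalAtTarget (Scheme.precoverage Q)]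
    (hs : Q G.s) (ht : Q G.t) (W : G.U.Opens) (hW : P (G.s ∣_ W))
    (hmax : ∀ W' : G.U.Opens, P (G.s ∣_ W') → W' ≤ W) : G.s ⁻¹ᵁ W = G.t ⁻¹ᵁ W :=
  invariant_of_max_gen G Q P hb hc hs ht G.s (pullback.snd G.s G.t) G.c (pullback.fst G.s G.t)
    (isPullback_c G) (IsPullback.of_hasPullback G.s G.t) W hW hmax

theorem main7504 (S : Scheme.{u}) (G : Grpd.GroupoidScheme S) (K : Precoverage Scheme.{u})
    (hK : K = Scheme.zariskiPrecoverage ∨ K = Scheme.etalePrecoverage ∨
      K = Scheme.precoverage @Smooth ∨ K = Scheme.fppfPrecoverage)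
    (P : MorphismProperty Scheme.{u}) [P.IsLocalAtTarget K]
    (hs : Presieve.singleton G.s ∈ K G.U) (ht : Presieve.singleton G.t ∈ K G.U)
    (W : G.U.Opens) (hW : P (G.s ∣_ W)) (hmax : ∀ W' : G.U.Opens, P (G.s ∣_ W') → W' ≤ W) :
    G.s ⁻¹ᵁ W = G.t ⁻¹ᵁ W := by
  rcases hK with rfl | rfl | rfl | rfl
  · exact invariant_of_max G @IsOpenImmersion P (fun f _ => inferInstance)
      (fun f hf => f.isOpenEmbedding.isOpenMap)
      ((Scheme.singleton_mem_precoverage_iff _ _).mp hs).2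
      ((Scheme.singleton_mem_precoverage_iff _ _).mp ht).2 W hW hmax
  · haveI : P.IsLocalAtTarget (Scheme.precoverage @Etale) :=
      ‹P.IsLocalAtTarget Scheme.etalePrecoverage›
    exact invariant_of_max G @Etale P (fun f _ => inferInstance)
      (fun f hf => by haveI : Etale f := hf; exact f.isOpenMap)
      ((Scheme.singleton_mem_precoverage_iff _ _).mp hs).2
      ((Scheme.singleton_mem_precoverage_iff _ _).mp ht).2 W hW hmax
  · exact invariant_of_max G @Smooth P (fun f _ => inferInstance)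
      (fun f hf => by haveI : Smooth f := hf; exact f.isOpenMap)
      ((Scheme.singleton_mem_precoverage_iff _ _).mp hs).2
      ((Scheme.singleton_mem_precoverage_iff _ _).mp ht).2 W hW hmax
  · haveI : P.IsLocalAtTarget (Scheme.precoverage (@Flat ⊓ @LocallyOfFinitePresentation)) :=
      ‹P.IsLocalAtTarget Scheme.fppfPrecoverage›
    exact invariant_of_max G (@Flat ⊓ @LocallyOfFinitePresentation) P
      (fun f _ => ⟨inferInstance, inferInstance⟩)
      (fun f hf => by
        haveI : Flat f := hf.1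
        haveI : LocallyOfFinitePresentation f := hf.2
        exact f.isOpenMap)
      ((Scheme.singleton_mem_precoverage_iff _ _).mp hs).2
      ((Scheme.singleton_mem_precoverage_iff _ _).mp ht).2 W hW hmax

end Groth.Agent.Lib.GrpdMaxInvH4
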