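import Mathlib
import Groth.Prelude.Def_Grpd
import Groth.Agent.Lib.GrpdCalc_helper6
import Groth.Agent.Lib.GrpdMaxInv_helper4

set_option autoImplicit false
set_option linter.style.haveILetI false

universe u

open CategoryTheory CategoryTheory.Limits AlgebraicGeometry Grpd
open Groth.Agent.Lib.GrpdCalc

namespace Groth.Agent.Lib.GrpdStabConjH4

variable {S : Scheme.{u}} (G : GroupoidScheme S)

/-- `r ∘ ((r⁻¹ ∘ (g' ∘ r)) ∘ r⁻¹) = g'` -/
lemma cj_bj {T : Scheme.{u}} (g' r : T ⟶ G.R) (k₁ : g' ≫ G.s = r ≫ G.t)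
    (k₀ : g' ≫ G.t = r ≫ G.t)
    (k₂ : (r ≫ G.i) ≫ G.s = comp G g' r k₁ ≫ G.t)
    (k₃ : comp G (r ≫ G.i) (comp G g' r k₁) k₂ ≫ G.s = (r ≫ G.i) ≫ G.t)
    (k₄ : r ≫ G.s = comp G (comp G (r ≫ G.i) (comp G g' r k₁) k₂) (r ≫ G.i) k₃ ≫ G.t) :
    comp G r (comp G (comp G (r ≫ G.i) (comp G g' r k₁) k₂) (r ≫ G.i) k₃) k₄ = g' := by
  have q₁ : comp G g' r k₁ ≫ G.s = (r ≫ G.i) ≫ G.t := by rw [comp_s', Category.assoc, G.i_t]
  have q₂ : (r ≫ G.i) ≫ G.s = comp G (comp G g' r k₁) (r ≫ G.i) q₁ ≫ G.t := by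
    rw [comp_t']; exact k₂
  have e1 : comp G (comp G (r ≫ G.i) (comp G g' r k₁) k₂) (r ≫ G.i) k₃ =
      comp G (r ≫ G.i) (comp G (comp G g' r k₁) (r ≫ G.i) q₁) q₂ :=
    comp_assoc G _ _ _ k₂ q₁ k₃ q₂
  have e2 : comp G (comp G g' r k₁) (r ≫ G.i) q₁ = g' := comp_inv_comp G g' r k₁ q₁
  have q₃ : (r ≫ G.i) ≫ G.s = g' ≫ G.t := by rw [Category.assoc, G.i_s]; exact k₀.symm
  have e3 : comp G (r ≫ G.i) (comp G (comp G g' r k₁) (r ≫ G.i) q₁) q₂ =
      comp G (r ≫ G.i) g' q₃ := comp_congr G rfl e2 _ _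
  have q₄ : r ≫ G.s = comp G (r ≫ G.i) g' q₃ ≫ G.t := by rw [comp_t', Category.assoc, G.i_t]
  rw [comp_congr G rfl (e1.trans e3) k₄ q₄]
  exact comp_inv_comp_left G r g' k₀.symm q₃ q₄

/-- `r⁻¹ ∘ ((r ∘ (g ∘ r⁻¹)) ∘ r) = g` -/
lemma bj_cj {T : Scheme.{u}} (g r : T ⟶ G.R) (h₀ : g ≫ G.s = r ≫ G.s)
    (h₀' : g ≫ G.t = r ≫ G.s)
    (h₁ : g ≫ G.s = (r ≫ G.i) ≫ G.t)
    (h₂ : r ≫ G.s = comp G g (r ≫ G.i) h₁ ≫ G.t)
    (h₃ : comp G r (comp G g (r ≫ G.i) h₁) h₂ ≫ G.s = r ≫ G.t)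
    (h₄ : (r ≫ G.i) ≫ G.s = comp G (comp G r (comp G g (r ≫ G.i) h₁) h₂) r h₃ ≫ G.t) :
    comp G (r ≫ G.i) (comp G (comp G r (comp G g (r ≫ G.i) h₁) h₂) r h₃) h₄ = g := by
  have q₁ : comp G g (r ≫ G.i) h₁ ≫ G.s = r ≫ G.t := by rw [comp_s', Category.assoc, G.i_s]
  have q₂ : r ≫ G.s = comp G (comp G g (r ≫ G.i) h₁) r q₁ ≫ G.t := by
    rw [comp_t']; exact h₂
  have e1 : comp G (comp G r (comp G g (r ≫ G.i) h₁) h₂) r h₃ =
      comp G r (comp G (comp G g (r ≫ G.i) h₁) r q₁) q₂ := comp_assoc G _ _ _ h₂ q₁ h₃ q₂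
  have e2 : comp G (comp G g (r ≫ G.i) h₁) r q₁ = g := comp_comp_inv G g r h₀ h₁ q₁
  have q₃ : r ≫ G.s = g ≫ G.t := h₀'.symm
  have e3 : comp G r (comp G (comp G g (r ≫ G.i) h₁) r q₁) q₂ = comp G r g q₃ :=
    comp_congr G rfl e2 _ _
  have q₄ : (r ≫ G.i) ≫ G.s = comp G r g q₃ ≫ G.t := by rw [comp_t', Category.assoc, G.i_s]
  rw [comp_congr G rfl (e1.trans e3) h₄ q₄]
  exact inv_comp_comp_left G r g q₃ q₄

/-- The arrow underlying a point of the stabilizer. -/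
noncomputable def gam : G.stabilizer ⟶ G.R := pullback.fst G.j G.diag

lemma gam_t : gam G ≫ G.t = G.stabilizerToU := by
  have h := pullback.condition (f := G.j) (g := G.diag)
  have h2 := congrArg (fun k => k ≫ pullback.fst G.pU G.pU) h
  simp only [Category.assoc, GroupoidScheme.j, GroupoidScheme.diag, pullback.lift_fst,
    Category.comp_id] at h2
  exact h2

lemma gam_s : gam G ≫ G.s = G.stabilizerToU := by
  have h := pullback.condition (f := G.j) (g := G.diag)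
  have h2 := congrArg (fun k => k ≫ pullback.snd G.pU G.pU) h
  simp only [Category.assoc, GroupoidScheme.j, GroupoidScheme.diag, pullback.lift_snd,
    Category.comp_id] at h2
  exact h2

lemma stabMk_cond {T : Scheme.{u}} (g : T ⟶ G.R) (x : T ⟶ G.U) (ht : g ≫ G.t = x)
    (hs : g ≫ G.s = x) : g ≫ G.j = x ≫ G.diag := by
  apply pullback.hom_ext
  · simp only [Category.assoc, GroupoidScheme.j, GroupoidScheme.diag, pullback.lift_fst,
      Category.comp_id]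
    exact ht
  · simp only [Category.assoc, GroupoidScheme.j, GroupoidScheme.diag, pullback.lift_snd,
      Category.comp_id]
    exact hs

noncomputable def stabMk {T : Scheme.{u}} (g : T ⟶ G.R) (x : T ⟶ G.U) (ht : g ≫ G.t = x)
    (hs : g ≫ G.s = x) : T ⟶ G.stabilizer :=
  pullback.lift g x (stabMk_cond G g x ht hs)

lemma stabMk_gam {T : Scheme.{u}} (g : T ⟶ G.R) (x : T ⟶ G.U) (ht : g ≫ G.t = x)
    (hs : g ≫ G.s = x) : stabMk G g x ht hs ≫ gam G = g := pullback.lift_fst _ _ _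

lemma stabMk_F {T : Scheme.{u}} (g : T ⟶ G.R) (x : T ⟶ G.U) (ht : g ≫ G.t = x)
    (hs : g ≫ G.s = x) : stabMk G g x ht hs ≫ G.stabilizerToU = x := pullback.lift_snd _ _ _

lemma stab_ext {T : Scheme.{u}} (a b : T ⟶ G.stabilizer) (h : a ≫ gam G = b ≫ gam G) :
    a = b := by
  refine pullback.hom_ext (f := G.j) (g := G.diag) h ?_
  have h2 : a ≫ G.stabilizerToU = b ≫ G.stabilizerToU := by
    rw [← gam_t, ← Category.assoc, h, Category.assoc]
  exact h2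

/-- the arrow part of a point of `s^* Stab` -/
noncomputable def g0 : pullback G.stabilizerToU G.s ⟶ G.R :=
  pullback.fst G.stabilizerToU G.s ≫ gam G

lemma g0_s : g0 G ≫ G.s = pullback.snd G.stabilizerToU G.s ≫ G.s := by
  unfold g0; rw [Category.assoc, gam_s, pullback.condition]

lemma g0_t : g0 G ≫ G.t = pullback.snd G.stabilizerToU G.s ≫ G.s := by
  unfold g0; rw [Category.assoc, gam_t, pullback.condition]

lemma rho_h1 : g0 G ≫ G.s = (pullback.snd G.stabilizerToU G.s ≫ G.i) ≫ G.t := by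
  rw [g0_s, Category.assoc, G.i_t]

lemma rho_h2 : pullback.snd G.stabilizerToU G.s ≫ G.s =
    comp G (g0 G) (pullback.snd G.stabilizerToU G.s ≫ G.i) (rho_h1 G) ≫ G.t := by
  rw [comp_t', g0_t]

/-- `(g, r) ↦ r ∘ g ∘ r⁻¹` -/
noncomputable def rho : pullback G.stabilizerToU G.s ⟶ G.R :=
  comp G (pullback.snd G.stabilizerToU G.s)
    (comp G (g0 G) (pullback.snd G.stabilizerToU G.s ≫ G.i) (rho_h1 G)) (rho_h2 G)

lemma rho_t : rho G ≫ G.t = pullback.snd G.stabilizerToU G.s ≫ G.t := comp_t' G _ _ _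

lemma rho_s : rho G ≫ G.s = pullback.snd G.stabilizerToU G.s ≫ G.t := by
  unfold rho; rw [comp_s', comp_s', Category.assoc, G.i_s]

noncomputable def beta : pullback G.stabilizerToU G.s ⟶ G.stabilizer :=
  stabMk G (rho G) (pullback.snd G.stabilizerToU G.s ≫ G.t) (rho_t G) (rho_s G)

lemma beta_F : beta G ≫ G.stabilizerToU = pullback.snd G.stabilizerToU G.s ≫ G.t :=
  stabMk_F G _ _ _ _

lemma beta_gam : beta G ≫ gam G = rho G := stabMk_gam G _ _ _ _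

lemma precomp_rho {T : Scheme.{u}} (m : T ⟶ pullback G.stabilizerToU G.s) (g r : T ⟶ G.R)
    (hg : m ≫ g0 G = g) (hr : m ≫ pullback.snd G.stabilizerToU G.s = r)
    (h₁ : g ≫ G.s = (r ≫ G.i) ≫ G.t) (h₂ : r ≫ G.s = comp G g (r ≫ G.i) h₁ ≫ G.t) :
    m ≫ rho G = comp G r (comp G g (r ≫ G.i) h₁) h₂ := by
  subst hg; subst hr
  have a1 : (m ≫ pullback.snd G.stabilizerToU G.s) ≫ G.s =
      (m ≫ comp G (g0 G) (pullback.snd G.stabilizerToU G.s ≫ G.i) (rho_h1 G)) ≫ G.t := by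
    rw [Category.assoc, Category.assoc, comp_t', g0_t]
  have a2 : (m ≫ g0 G) ≫ G.s = (m ≫ pullback.snd G.stabilizerToU G.s ≫ G.i) ≫ G.t := by
    rw [Category.assoc, Category.assoc, Category.assoc, g0_s, G.i_t]
  unfold rho
  rw [precomp_comp G m _ _ _ a1]
  exact comp_congr G rfl ((precomp_comp G m _ _ _ a2).trans
    (comp_congr G rfl (Category.assoc _ _ _).symm _ _)) _ _

section lift

variable {T : Scheme.{u}} (x₁ : T ⟶ G.stabilizer) (r₁ : T ⟶ G.R)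
  (hc : x₁ ≫ G.stabilizerToU = r₁ ≫ G.t)

include hc in
lemma lk1 : (x₁ ≫ gam G) ≫ G.s = r₁ ≫ G.t := by rw [Category.assoc, gam_s]; exact hc

include hc in
lemma lk0 : (x₁ ≫ gam G) ≫ G.t = r₁ ≫ G.t := by rw [Category.assoc, gam_t]; exact hc

lemma lk2 : (r₁ ≫ G.i) ≫ G.s = comp G (x₁ ≫ gam G) r₁ (lk1 G x₁ r₁ hc) ≫ G.t := by
  rw [comp_t', lk0 G x₁ r₁ hc, Category.assoc, G.i_s]

/-- `r⁻¹ ∘ (g' ∘ r)` -/
noncomputable def bjR : T ⟶ G.R :=
  comp G (r₁ ≫ G.i) (comp G (x₁ ≫ gam G) r₁ (lk1 G x₁ r₁ hc)) (lk2 G x₁ r₁ hc)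

lemma bjR_t : bjR G x₁ r₁ hc ≫ G.t = r₁ ≫ G.s := by
  unfold bjR; rw [comp_t', Category.assoc, G.i_t]

lemma bjR_s : bjR G x₁ r₁ hc ≫ G.s = r₁ ≫ G.s := by
  unfold bjR; rw [comp_s', comp_s']

noncomputable def liftX : T ⟶ pullback G.stabilizerToU G.s :=
  pullback.lift (stabMk G (bjR G x₁ r₁ hc) (r₁ ≫ G.s) (bjR_t G x₁ r₁ hc) (bjR_s G x₁ r₁ hc)) r₁
    (stabMk_F G _ _ _ _)

lemma liftX_snd : liftX G x₁ r₁ hc ≫ pullback.snd G.stabilizerToU G.s = r₁ :=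
  pullback.lift_snd _ _ _

lemma liftX_g0 : liftX G x₁ r₁ hc ≫ g0 G = bjR G x₁ r₁ hc := by
  unfold liftX g0
  rw [pullback.lift_fst_assoc, stabMk_gam]

lemma liftX_beta : liftX G x₁ r₁ hc ≫ beta G = x₁ := by
  apply stab_ext
  rw [Category.assoc, beta_gam]
  have k₃ : bjR G x₁ r₁ hc ≫ G.s = (r₁ ≫ G.i) ≫ G.t := by
    rw [bjR_s, Category.assoc, G.i_t]
  have k₄ : r₁ ≫ G.s = comp G (bjR G x₁ r₁ hc) (r₁ ≫ G.i) k₃ ≫ G.t := by
    rw [comp_t', bjR_t]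
  rw [precomp_rho G (liftX G x₁ r₁ hc) (bjR G x₁ r₁ hc) r₁ (liftX_g0 G x₁ r₁ hc)
    (liftX_snd G x₁ r₁ hc) k₃ k₄]
  exact cj_bj G (x₁ ≫ gam G) r₁ (lk1 G x₁ r₁ hc) (lk0 G x₁ r₁ hc) (lk2 G x₁ r₁ hc) k₃ k₄

lemma liftX_uniq (m : T ⟶ pullback G.stabilizerToU G.s) (hm1 : m ≫ beta G = x₁)
    (hm2 : m ≫ pullback.snd G.stabilizerToU G.s = r₁) : m = liftX G x₁ r₁ hc := by
  apply pullback.hom_ext
  · apply stab_ext
    have e0 : (m ≫ pullback.fst G.stabilizerToU G.s) ≫ gam G = m ≫ g0 G := by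
      unfold g0; rw [Category.assoc]
    have e0' : (liftX G x₁ r₁ hc ≫ pullback.fst G.stabilizerToU G.s) ≫ gam G =
        bjR G x₁ r₁ hc := by
      rw [Category.assoc]; exact liftX_g0 G x₁ r₁ hc
    rw [e0, e0']
    have h₀ : (m ≫ g0 G) ≫ G.s = r₁ ≫ G.s := by rw [Category.assoc, g0_s, ← Category.assoc, hm2]
    have h₀' : (m ≫ g0 G) ≫ G.t = r₁ ≫ G.s := by
      rw [Category.assoc, g0_t, ← Category.assoc, hm2]
    have h₁ : (m ≫ g0 G) ≫ G.s = (r₁ ≫ G.i) ≫ G.t := by rw [h₀, Category.assoc, G.i_t]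
    have h₂ : r₁ ≫ G.s = comp G (m ≫ g0 G) (r₁ ≫ G.i) h₁ ≫ G.t := by rw [comp_t', h₀']
    have e1 : x₁ ≫ gam G = comp G r₁ (comp G (m ≫ g0 G) (r₁ ≫ G.i) h₁) h₂ := by
      rw [← hm1, Category.assoc, beta_gam]
      exact precomp_rho G m (m ≫ g0 G) r₁ rfl hm2 h₁ h₂
    have h₃ : comp G r₁ (comp G (m ≫ g0 G) (r₁ ≫ G.i) h₁) h₂ ≫ G.s = r₁ ≫ G.t := by
      rw [← e1]; exact lk1 G x₁ r₁ hc
    have h₄ : (r₁ ≫ G.i) ≫ G.s =
        comp G (comp G r₁ (comp G (m ≫ g0 G) (r₁ ≫ G.i) h₁) h₂) r₁ h₃ ≫ G.t := by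
      rw [comp_t', comp_t', Category.assoc, G.i_s]
    have e2 : bjR G x₁ r₁ hc =
        comp G (r₁ ≫ G.i) (comp G (comp G r₁ (comp G (m ≫ g0 G) (r₁ ≫ G.i) h₁) h₂) r₁ h₃) h₄ := by
      unfold bjR
      exact comp_congr G rfl (comp_congr G e1 rfl _ _) _ _
    rw [e2]
    exact (bj_cj G (m ≫ g0 G) r₁ h₀ h₀' h₁ h₂ h₃ h₄).symm
  · rw [hm2, liftX_snd]

end lift

theorem isPullback_beta :
    IsPullback (beta G) (pullback.snd G.stabilizerToU G.s) G.stabilizerToU G.t := by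
  refine ⟨⟨beta_F G⟩, ⟨PullbackCone.IsLimit.mk _
    (fun c => liftX G c.fst c.snd c.condition) ?_ ?_ ?_⟩⟩
  · intro c
    exact liftX_beta G c.fst c.snd c.condition
  · intro c
    exact liftX_snd G c.fst c.snd c.condition
  · intro c m h1 h2
    exact liftX_uniq G c.fst c.snd c.condition m h1 h2

open Groth.Agent.Lib.GrpdMaxInvH4 in
theorem main7505 (S : Scheme.{u}) (G : Grpd.GroupoidScheme S) (K : Precoverage Scheme.{u})
    (hK : K = Scheme.etalePrecoverage ∨ K = Scheme.precoverage @Smooth ∨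
      K = Scheme.fppfPrecoverage)
    (P : MorphismProperty Scheme.{u}) [P.IsLocalAtTarget K]
    (hs : Presieve.singleton G.s ∈ K G.U) (ht : Presieve.singleton G.t ∈ K G.U)
    (W : G.U.Opens) (hW : P (G.stabilizerToU ∣_ W))
    (hmax : ∀ W' : G.U.Opens, P (G.stabilizerToU ∣_ W') → W' ≤ W) :
    G.s ⁻¹ᵁ W = G.t ⁻¹ᵁ W := by
  rcases hK with rfl | rfl | rfl
  · haveI : P.IsLocalAtTarget (Scheme.precoverage @Etale) :=
      ‹P.IsLocalAtTarget Scheme.etalePrecoverage›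
    exact invariant_of_max_gen G @Etale P (fun f _ => inferInstance)
      (fun f hf => by haveI : Etale f := hf; exact f.isOpenMap)
      ((Scheme.singleton_mem_precoverage_iff _ _).mp hs).2
      ((Scheme.singleton_mem_precoverage_iff _ _).mp ht).2 G.stabilizerToU
      (pullback.snd G.stabilizerToU G.s) (pullback.fst G.stabilizerToU G.s) (beta G)
      (IsPullback.of_hasPullback _ _) (isPullback_beta G) W hW hmax
  · exact invariant_of_max_gen G @Smooth P (fun f _ => inferInstance)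
      (fun f hf => by haveI : Smooth f := hf; exact f.isOpenMap)
      ((Scheme.singleton_mem_precoverage_iff _ _).mp hs).2
      ((Scheme.singleton_mem_precoverage_iff _ _).mp ht).2 G.stabilizerToU
      (pullback.snd G.stabilizerToU G.s) (pullback.fst G.stabilizerToU G.s) (beta G)
      (IsPullback.of_hasPullback _ _) (isPullback_beta G) W hW hmax
  · haveI : P.IsLocalAtTarget (Scheme.precoverage (@Flat ⊓ @LocallyOfFinitePresentation)) :=
      ‹P.IsLocalAtTarget Scheme.fppfPrecoverage›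
    exact invariant_of_max_gen G (@Flat ⊓ @LocallyOfFinitePresentation) P
      (fun f _ => ⟨inferInstance, inferInstance⟩)
      (fun f hf => by
        haveI : Flat f := hf.1
        haveI : LocallyOfFinitePresentation f := hf.2
        exact f.isOpenMap)
      ((Scheme.singleton_mem_precoverage_iff _ _).mp hs).2
      ((Scheme.singleton_mem_precoverage_iff _ _).mp ht).2 G.stabilizerToU
      (pullback.snd G.stabilizerToU G.s) (pullback.fst G.stabilizerToU G.s) (beta G)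
      (IsPullback.of_hasPullback _ _) (isPullback_beta G) W hW hmax

end Groth.Agent.Lib.GrpdStabConjH4
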