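import Mathlib
import Groth.Prelude.Def_Grpd
import Groth.Agent.Lib.SchImGrp_helper4
import Groth.Agent.Lib.GrpdClosed_helper4
import Groth.Agent.Lib.GrpdCalc_helper6
set_option autoImplicit false
set_option linter.style.haveILetI false

universe v u

open CategoryTheory CategoryTheory.Limits AlgebraicGeometry

namespace Groth.Agent.Lib.SchImGrpdH4

section abstract

variable {C : Type u} [Category.{v} C] [HasPullbacks C]

lemma isPullback_map_fst {R Z R₂ U : C} (π : R ⟶ Z) (s' : Z ⟶ U) (s : R ⟶ U) (t : R₂ ⟶ U)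
    (h1 : s ≫ 𝟙 U = π ≫ s') (h2 : t ≫ 𝟙 U = 𝟙 R₂ ≫ t) :
    IsPullback (pullback.map s t s' t π (𝟙 R₂) (𝟙 U) h1 h2)
      (pullback.fst s t) (pullback.fst s' t) π := by
  have hs : s = π ≫ s' := by rw [← h1, Category.comp_id]
  subst hs
  have hρ : pullback.map (π ≫ s') t s' t π (𝟙 R₂) (𝟙 U) h1 h2 ≫ pullback.snd s' t =
      pullback.snd (π ≫ s') t := (pullback.lift_snd _ _ _).trans (Category.comp_id _)
  refine IsPullback.of_right (h₁₂ := pullback.snd s' t) (h₂₂ := s') (v₁₃ := t) ?_ ?_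
    (IsPullback.of_hasPullback s' t).flip
  · rw [hρ]
    exact (IsPullback.of_hasPullback (π ≫ s') t).flip
  · exact pullback.lift_fst _ _ _

lemma isPullback_map_snd {R Z Z₀ U : C} (π : R ⟶ Z) (t' : Z ⟶ U) (t : R ⟶ U) (s₀ : Z₀ ⟶ U)
    (h1 : s₀ ≫ 𝟙 U = 𝟙 Z₀ ≫ s₀) (h2 : t ≫ 𝟙 U = π ≫ t') :
    IsPullback (pullback.map s₀ t s₀ t' (𝟙 Z₀) π (𝟙 U) h1 h2)
      (pullback.snd s₀ t) (pullback.snd s₀ t') π := by
  have ht : t = π ≫ t' := by rw [← h2, Category.comp_id]
  subst ht
  have hρ : pullback.map s₀ (π ≫ t') s₀ t' (𝟙 Z₀) π (𝟙 U) h1 h2 ≫ pullback.fst s₀ t' =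
      pullback.fst s₀ (π ≫ t') := (pullback.lift_fst _ _ _).trans (Category.comp_id _)
  refine IsPullback.of_right (h₁₂ := pullback.fst s₀ t') (h₂₂ := t') (v₁₃ := s₀) ?_ ?_
    (IsPullback.of_hasPullback s₀ t')
  · rw [hρ]
    exact IsPullback.of_hasPullback s₀ (π ≫ t')
  · exact pullback.lift_snd _ _ _

end abstract

section scheme

lemma exists_rho {R Z U : Scheme.{u}} (π : R ⟶ Z) (s t : R ⟶ U) (s' t' : Z ⟶ U)
    (hs : π ≫ s' = s) (ht : π ≫ t' = t) [QuasiCompact π] [IsSchemeTheoreticallyDominant π]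
    [Flat t] [Flat s'] :
    ∃ ρ : pullback s t ⟶ pullback s' t', IsSchemeTheoreticallyDominant ρ ∧
      ρ ≫ pullback.fst s' t' = pullback.fst s t ≫ π ∧
      ρ ≫ pullback.snd s' t' = pullback.snd s t ≫ π := by
  have h1 : s ≫ 𝟙 U = π ≫ s' := by rw [Category.comp_id, hs]
  have h2 : t ≫ 𝟙 U = 𝟙 R ≫ t := by rw [Category.comp_id, Category.id_comp]
  have h3 : s' ≫ 𝟙 U = 𝟙 Z ≫ s' := by rw [Category.comp_id, Category.id_comp]
  have h4 : t ≫ 𝟙 U = π ≫ t' := by rw [Category.comp_id, ht]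
  haveI hd1 : IsSchemeTheoreticallyDominant (pullback.map s t s' t π (𝟙 R) (𝟙 U) h1 h2) :=
    IsSchemeTheoreticallyDominant.of_isPullback (f := π) (g := pullback.fst s' t)
      (isPullback_map_fst π s' s t h1 h2).flip
  haveI hd2 : IsSchemeTheoreticallyDominant (pullback.map s' t s' t' (𝟙 Z) π (𝟙 U) h3 h4) :=
    IsSchemeTheoreticallyDominant.of_isPullback (f := π) (g := pullback.snd s' t')
      (isPullback_map_snd π t' t s' h3 h4).flip
  refine ⟨pullback.map s t s' t π (𝟙 R) (𝟙 U) h1 h2 ≫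
    pullback.map s' t s' t' (𝟙 Z) π (𝟙 U) h3 h4, inferInstance, ?_, ?_⟩
  · have e2 : pullback.map s' t s' t' (𝟙 Z) π (𝟙 U) h3 h4 ≫ pullback.fst s' t' =
        pullback.fst s' t := (pullback.lift_fst _ _ _).trans (Category.comp_id _)
    rw [Category.assoc, e2]
    exact pullback.lift_fst _ _ _
  · have e2 : pullback.map s' t s' t' (𝟙 Z) π (𝟙 U) h3 h4 ≫ pullback.snd s' t' =
        pullback.snd s' t ≫ π := pullback.lift_snd _ _ _
    have e1 : pullback.map s t s' t π (𝟙 R) (𝟙 U) h1 h2 ≫ pullback.snd s' t =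
        pullback.snd s t := (pullback.lift_snd _ _ _).trans (Category.comp_id _)
    rw [Category.assoc, e2, reassoc_of% e1]

lemma isSeparated_of_subsingleton {U S : Scheme.{u}} [IsAffine U] [Subsingleton U]
    [Nonempty U] (p : U ⟶ S) : IsSeparated p := by
  obtain ⟨x⟩ := ‹Nonempty U›
  obtain ⟨_, ⟨V, hV, rfl⟩, hxV, -⟩ :=
    S.isBasis_affineOpens.exists_subset_of_mem_open (Set.mem_univ (p x)) isOpen_univ
  obtain ⟨W, hW⟩ : ∃ W : S.Opens, W = V := ⟨V, rfl⟩
  subst hW
  have hV' : IsAffineOpen W := hV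
  haveI : IsAffine W.toScheme := hV'
  have hrange : Set.range ⇑p ⊆ Set.range ⇑W.ι := by
    rintro _ ⟨y, rfl⟩
    rw [Subsingleton.elim y x, Scheme.Opens.range_ι]
    exact hxV
  rw [← IsOpenImmersion.lift_fac W.ι p hrange]
  infer_instance

variable {S : Scheme.{u}}

/-- A groupoid scheme from a "relation": a scheme `Z` with jointly monic `(t', s') : Z → U × U`
carrying identity, inverse and composition maps with the right sources and targets. -/
noncomputable def relGroupoid {U Z : Scheme.{u}} (pU : U ⟶ S) (s' t' : Z ⟶ U)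
    (hover : s' ≫ pU = t' ≫ pU)
    (hext : ∀ {T : Scheme.{u}} (a b : T ⟶ Z), a ≫ t' = b ≫ t' → a ≫ s' = b ≫ s' → a = b)
    (e' : U ⟶ Z) (he's : e' ≫ s' = 𝟙 U) (he't : e' ≫ t' = 𝟙 U)
    (i' : Z ⟶ Z) (hi's : i' ≫ s' = t') (hi't : i' ≫ t' = s')
    (c' : pullback s' t' ⟶ Z) (hc's : c' ≫ s' = pullback.snd s' t' ≫ s')
    (hc't : c' ≫ t' = pullback.fst s' t' ≫ t') : Grpd.GroupoidScheme S where
  U := U
  R := Z
  pU := pU
  pR := s' ≫ pU
  s := s'
  t := t'
  e := e'
  i := i'
  c := c'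
  s_over := rfl
  t_over := hover.symm
  comp_s := fun α β h => by
    simp only [Category.assoc, hc's, pullback.lift_snd_assoc]
  comp_t := fun α β h => by
    simp only [Category.assoc, hc't, pullback.lift_fst_assoc]
  assoc := fun α β γ h₁ h₂ => hext _ _
    (by simp only [Category.assoc, hc't, pullback.lift_fst_assoc])
    (by simp only [Category.assoc, hc's, pullback.lift_snd_assoc])
  e_s := he's
  e_t := he't
  comp_e := fun α => hext _ _
    (by simp only [Category.assoc, hc't, pullback.lift_fst_assoc])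
    (by simp only [Category.assoc, hc's, pullback.lift_snd_assoc, he's, Category.comp_id])
  e_comp := fun α => hext _ _
    (by simp only [Category.assoc, hc't, pullback.lift_fst_assoc, he't, Category.comp_id])
    (by simp only [Category.assoc, hc's, pullback.lift_snd_assoc])
  i_s := hi's
  i_t := hi't
  comp_i := fun α => hext _ _
    (by simp only [Category.assoc, hc't, pullback.lift_fst_assoc, he't, Category.comp_id])
    (by simp only [Category.assoc, hc's, pullback.lift_snd_assoc, hi's, he's, Category.comp_id])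
  i_comp := fun α => hext _ _
    (by simp only [Category.assoc, hc't, pullback.lift_fst_assoc, hi't, he't, Category.comp_id])
    (by simp only [Category.assoc, hc's, pullback.lift_snd_assoc, he's, Category.comp_id])

set_option maxHeartbeats 1600000 in
theorem main_abstract (G : Grpd.GroupoidScheme S) {Z : Scheme.{u}}
    (ι : Z ⟶ pullback G.pU G.pU) (π : G.R ⟶ Z) (s' t' : Z ⟶ G.U)
    (hs' : ι ≫ pullback.snd G.pU G.pU = s') (ht' : ι ≫ pullback.fst G.pU G.pU = t')
    (hπι : π ≫ ι = G.j) [IsClosedImmersion ι] [QuasiCompact π]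
    [IsSchemeTheoreticallyDominant π] [Flat G.t] [Flat s'] :
    ∃ (G' : Grpd.GroupoidScheme S) (φ : Grpd.GroupoidScheme.Hom G G'), IsIso φ.fU ∧
      IsClosedImmersion G'.j ∧
      G'.j.ker = (G.j ≫ pullback.map G.pU G.pU G'.pU G'.pU φ.fU φ.fU (𝟙 S)
        ((Category.comp_id _).trans φ.fU_over.symm)
        ((Category.comp_id _).trans φ.fU_over.symm)).ker := by
  haveI : Mono ι := inferInstance
  have hjfst : G.j ≫ pullback.fst G.pU G.pU = G.t := pullback.lift_fst _ _ _
  have hjsnd : G.j ≫ pullback.snd G.pU G.pU = G.s := pullback.lift_snd _ _ _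
  have hπs : π ≫ s' = G.s := by
    rw [← hs', reassoc_of% hπι]
    exact hjsnd
  have hπt : π ≫ t' = G.t := by
    rw [← ht', reassoc_of% hπι]
    exact hjfst
  have hover : s' ≫ G.pU = t' ≫ G.pU := by
    rw [← hs', ← ht', Category.assoc, Category.assoc, pullback.condition]
  have hext : ∀ {T : Scheme.{u}} (a b : T ⟶ Z), a ≫ t' = b ≫ t' → a ≫ s' = b ≫ s' → a = b := by
    intro T a b h1 h2
    rw [← cancel_mono ι]
    apply pullback.hom_ext
    · rw [Category.assoc, Category.assoc, ht']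
      exact h1
    · rw [Category.assoc, Category.assoc, hs']
      exact h2
  have hkerι : ι.ker = G.j.ker := by
    rw [← hπι, Scheme.Hom.ker_comp, Scheme.Hom.ker_eq_bot π, Scheme.IdealSheafData.map_bot]
  -- composition
  obtain ⟨ρ, hρd, hρfst, hρsnd⟩ := exists_rho π G.s G.t s' t' hπs hπt
  have hcond : pullback.fst s' t' ≫ s' = pullback.snd s' t' ≫ t' := pullback.condition
  have hm : (pullback.fst s' t' ≫ t') ≫ G.pU = (pullback.snd s' t' ≫ s') ≫ G.pU := by
    rw [Category.assoc, Category.assoc, ← hover, reassoc_of% hcond, hover]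
  have hkey : ρ ≫ pullback.lift (pullback.fst s' t' ≫ t') (pullback.snd s' t' ≫ s') hm =
      G.c ≫ G.j := by
    apply pullback.hom_ext
    · simp only [Category.assoc, pullback.lift_fst]
      rw [reassoc_of% hρfst, hπt, hjfst, Groth.Agent.Lib.GrpdCalc.c_t]
    · simp only [Category.assoc, pullback.lift_snd]
      rw [reassoc_of% hρsnd, hπs, hjsnd, Groth.Agent.Lib.GrpdCalc.c_s]
  have hker_m : ι.ker ≤
      (pullback.lift (pullback.fst s' t' ≫ t') (pullback.snd s' t' ≫ s') hm).ker := by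
    calc ι.ker = G.j.ker := hkerι
      _ ≤ (G.c ≫ G.j).ker := Scheme.Hom.le_ker_comp _ _
      _ = (ρ ≫ pullback.lift (pullback.fst s' t' ≫ t') (pullback.snd s' t' ≫ s') hm).ker := by
          rw [hkey]
      _ = (pullback.lift (pullback.fst s' t' ≫ t') (pullback.snd s' t' ≫ s') hm).ker := by
          rw [Scheme.Hom.ker_comp, Scheme.Hom.ker_eq_bot, Scheme.IdealSheafData.map_bot]
  obtain ⟨c', hc'⟩ : ∃ c' : pullback s' t' ⟶ Z, c' ≫ ι =
      pullback.lift (pullback.fst s' t' ≫ t') (pullback.snd s' t' ≫ s') hm :=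
    ⟨IsClosedImmersion.lift ι _ hker_m, IsClosedImmersion.lift_fac _ _ _⟩
  have hc's : c' ≫ s' = pullback.snd s' t' ≫ s' := by
    calc c' ≫ s' = c' ≫ ι ≫ pullback.snd G.pU G.pU := by rw [hs']
      _ = pullback.snd s' t' ≫ s' := by rw [reassoc_of% hc', pullback.lift_snd]
  have hc't : c' ≫ t' = pullback.fst s' t' ≫ t' := by
    calc c' ≫ t' = c' ≫ ι ≫ pullback.fst G.pU G.pU := by rw [ht']
      _ = pullback.fst s' t' ≫ t' := by rw [reassoc_of% hc', pullback.lift_fst]
  -- inverse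
  have hswap : G.i ≫ G.j = G.j ≫ pullback.lift (pullback.snd G.pU G.pU) (pullback.fst G.pU G.pU)
      pullback.condition.symm := by
    apply pullback.hom_ext
    · simp only [Category.assoc, pullback.lift_fst]
      rw [hjfst, G.i_t, hjsnd]
    · simp only [Category.assoc, pullback.lift_snd]
      rw [hjsnd, G.i_s, hjfst]
  have hker_i : ι.ker ≤ (ι ≫ pullback.lift (pullback.snd G.pU G.pU) (pullback.fst G.pU G.pU)
      pullback.condition.symm).ker := by
    calc ι.ker = G.j.ker := hkerι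
      _ ≤ (G.i ≫ G.j).ker := Scheme.Hom.le_ker_comp _ _
      _ = (π ≫ ι ≫ pullback.lift (pullback.snd G.pU G.pU) (pullback.fst G.pU G.pU)
            pullback.condition.symm).ker := by
          rw [hswap, ← hπι, Category.assoc]
      _ = _ := by
          rw [Scheme.Hom.ker_comp, Scheme.Hom.ker_eq_bot, Scheme.IdealSheafData.map_bot]
  obtain ⟨i', hi'⟩ : ∃ i' : Z ⟶ Z, i' ≫ ι = ι ≫ pullback.lift (pullback.snd G.pU G.pU)
      (pullback.fst G.pU G.pU) pullback.condition.symm :=
    ⟨IsClosedImmersion.lift ι _ hker_i, IsClosedImmersion.lift_fac _ _ _⟩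
  have hi's : i' ≫ s' = t' := by
    calc i' ≫ s' = i' ≫ ι ≫ pullback.snd G.pU G.pU := by rw [hs']
      _ = t' := by rw [reassoc_of% hi', pullback.lift_snd, ht']
  have hi't : i' ≫ t' = s' := by
    calc i' ≫ t' = i' ≫ ι ≫ pullback.fst G.pU G.pU := by rw [ht']
      _ = s' := by rw [reassoc_of% hi', pullback.lift_fst, hs']
  -- identity
  have he's : (G.e ≫ π) ≫ s' = 𝟙 G.U := by rw [Category.assoc, hπs, G.e_s]
  have he't : (G.e ≫ π) ≫ t' = 𝟙 G.U := by rw [Category.assoc, hπt, G.e_t]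
  let G' : Grpd.GroupoidScheme S :=
    relGroupoid G.pU s' t' hover hext (G.e ≫ π) he's he't i' hi's hi't c' hc's hc't
  let φ : Grpd.GroupoidScheme.Hom G G' :=
    { fU := 𝟙 G.U
      fR := π
      fU_over := Category.id_comp _
      comm_s := hπs.trans (Category.comp_id _).symm
      comm_t := hπt.trans (Category.comp_id _).symm
      comm_c := fun α β h => by
        show (pullback.lift α β h ≫ G.c) ≫ π = pullback.lift (α ≫ π) (β ≫ π) _ ≫ c'
        refine hext _ _ ?_ ?_
        · simp only [Category.assoc, hc't, pullback.lift_fst_assoc, hπt,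
            Groth.Agent.Lib.GrpdCalc.c_t]
        · simp only [Category.assoc, hc's, pullback.lift_snd_assoc, hπs,
            Groth.Agent.Lib.GrpdCalc.c_s] }
  have hj' : G'.j = ι := by
    apply pullback.hom_ext
    · exact (pullback.lift_fst _ _ _).trans ht'.symm
    · exact (pullback.lift_snd _ _ _).trans hs'.symm
  have hmap : ∀ (h1 : G.pU ≫ 𝟙 S = 𝟙 G.U ≫ G.pU) (h2 : G.pU ≫ 𝟙 S = 𝟙 G.U ≫ G.pU),
      pullback.map G.pU G.pU G.pU G.pU (𝟙 G.U) (𝟙 G.U) (𝟙 S) h1 h2 = 𝟙 _ := by
    intro h1 h2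
    exact pullback.map_id
  refine ⟨G', φ, ?_, ?_, ?_⟩
  · show IsIso (𝟙 G.U)
    infer_instance
  · have hci : IsClosedImmersion ι := inferInstance
    rw [hj']
    exact hci
  · have hmap' : pullback.map G.pU G.pU G'.pU G'.pU φ.fU φ.fU (𝟙 S)
        ((Category.comp_id _).trans φ.fU_over.symm)
        ((Category.comp_id _).trans φ.fU_over.symm) = 𝟙 (pullback G.pU G.pU) := hmap _ _
    calc G'.j.ker = ι.ker := congrArg Scheme.Hom.ker hj'
      _ = G.j.ker := hkerι
      _ = _ := congrArg Scheme.Hom.ker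
          ((Category.comp_id G.j).symm.trans (congrArg (fun m => G.j ≫ m) hmap'.symm))

theorem main7509 (S : Scheme.{u}) (G : Grpd.GroupoidScheme S) (k : Type u) [Field k]
    (eU : G.U ≅ Spec (CommRingCat.of k)) [CompactSpace G.R] :
    ∃ (G' : Grpd.GroupoidScheme S) (φ : Grpd.GroupoidScheme.Hom G G'), IsIso φ.fU ∧
      IsClosedImmersion G'.j ∧
      G'.j.ker = (G.j ≫ pullback.map G.pU G.pU G'.pU G'.pU φ.fU φ.fU (𝟙 S)
        ((Category.comp_id _).trans φ.fU_over.symm)
        ((Category.comp_id _).trans φ.fU_over.symm)).ker := by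
  obtain ⟨hint, hsub⟩ := Groth.Agent.Lib.GrpdClosedH4.instances_of_iso k eU
  haveI := hint
  haveI := hsub
  haveI : IsAffine G.U := IsAffine.of_isIso eU.hom
  haveI : IsSeparated G.pU := isSeparated_of_subsingleton G.pU
  haveI : QuasiSeparatedSpace ↥(pullback G.pU G.pU) :=
    quasiSeparatedSpace_of_quasiSeparated (pullback.fst G.pU G.pU)
  haveI : QuasiCompact G.j := inferInstance
  haveI : IsSchemeTheoreticallyDominant G.j.toImage :=
    ⟨SchImGrpH4.ker_toImage_eq_bot G.j⟩
  exact main_abstract G G.j.imageι G.j.toImage _ _ rfl rfl G.j.toImage_imageι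

end scheme

end Groth.Agent.Lib.SchImGrpdH4
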