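import Mathlib
import Groth.Agent.Lib.GrpdSepField_helper4

set_option autoImplicit false
universe u
set_option linter.style.haveILetI false

open CategoryTheory AlgebraicGeometry

namespace Groth.Agent.Lib.FlatClImmH4

/-- A surjective flat ring map from a local ring to a nontrivial ring is injective. -/
lemma injective_of_surjective_flat {R B : Type u} [CommRing R] [IsLocalRing R] [CommRing B]
    [Nontrivial B] (φ : R →+* B) (hs : Function.Surjective φ) (hf : φ.Flat) :
    Function.Injective φ := by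
  algebraize [φ]
  haveI : Module.Finite R B := Module.Finite.of_surjective (Algebra.linearMap R B) hs
  haveI : Module.Free R B := Module.free_of_flat_of_isLocalRing
  rw [injective_iff_map_eq_zero]
  intro a ha
  let b := Module.Free.chooseBasis R B
  haveI : Nonempty (Module.Free.ChooseBasisIndex R B) := b.index_nonempty
  obtain ⟨i⟩ := ‹Nonempty (Module.Free.ChooseBasisIndex R B)›
  have h0 : a • b i = 0 := by
    rw [Algebra.smul_def]
    change φ a * b i = 0
    rw [ha, zero_mul]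
  have h1 := congrArg b.repr h0
  rw [map_smul, b.repr_self, Finsupp.smul_single, smul_eq_mul, mul_one, map_zero] at h1
  exact Finsupp.single_eq_zero.mp h1

lemma exists_mul_eq_zero_of_fg {A S : Type u} [CommRing A] [CommRing S] [Algebra A S]
    (M : Submonoid A) [IsLocalization M S]
    (I : Ideal A) (hI : I.FG) (h : ∀ a ∈ I, algebraMap A S a = 0) :
    ∃ s ∈ M, ∀ a ∈ I, s * a = 0 := by
  revert h
  refine Submodule.fg_induction (motive := fun J _ => (∀ a ∈ J, algebraMap A S a = 0) →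
    ∃ s ∈ M, ∀ a ∈ J, s * a = 0) ?_ ?_ I hI
  · intro x hx
    obtain ⟨m, hm⟩ := (IsLocalization.map_eq_zero_iff M S x).mp
      (hx x (Submodule.mem_span_singleton_self x))
    refine ⟨m, m.2, fun a ha => ?_⟩
    obtain ⟨c, rfl⟩ := Submodule.mem_span_singleton.mp ha
    rw [smul_eq_mul, mul_left_comm, hm, mul_zero]
  · intro J₁ J₂ _ _ h₁ h₂ h
    obtain ⟨s₁, hs₁, k₁⟩ := h₁ (fun a ha => h a (Submodule.mem_sup_left ha))
    obtain ⟨s₂, hs₂, k₂⟩ := h₂ (fun a ha => h a (Submodule.mem_sup_right ha))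
    refine ⟨s₁ * s₂, M.mul_mem hs₁ hs₂, fun a ha => ?_⟩
    obtain ⟨a₁, ha₁, a₂, ha₂, rfl⟩ := Submodule.mem_sup.mp ha
    have e1 : s₁ * s₂ * a₁ = s₂ * (s₁ * a₁) := by ring
    have e2 : s₁ * s₂ * a₂ = s₁ * (s₂ * a₂) := by ring
    rw [mul_add, e1, e2, k₁ a₁ ha₁, k₂ a₂ ha₂, mul_zero, mul_zero, add_zero]

theorem main10895 {X Y : Scheme.{u}} (f : X ⟶ Y) [IsClosedImmersion f]
    [LocallyOfFinitePresentation f] (x : X) (hflat : (f.stalkMap x).hom.Flat) :
    ∃ V : Y.Opens, f.base x ∈ V ∧ IsIso (f ∣_ V) := by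
  obtain ⟨V, hV, hyV⟩ := Groth.Agent.Lib.GrpdSepFieldH4.exists_affine_nhd (f x)
  have hinj : Function.Injective (f.stalkMap x).hom :=
    injective_of_surjective_flat _ (f.stalkMap_surjective x) hflat
  obtain ⟨I, hIdef⟩ : ∃ I : Ideal Γ(Y, V), I = RingHom.ker (f.app V).hom := ⟨_, rfl⟩
  have hIfg : I.FG := by
    have hU : IsAffineOpen (f ⁻¹ᵁ V) := hV.preimage f
    have hfp : (f.app V).hom.FinitePresentation := by
      have := HasRingHomProperty.appLE (P := @LocallyOfFinitePresentation) f inferInstance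
        ⟨V, hV⟩ ⟨f ⁻¹ᵁ V, hU⟩ le_rfl
      rwa [← Scheme.Hom.app_eq_appLE] at this
    have hsurj : Function.Surjective (f.app V).hom := f.app_surjective V hV
    algebraize [(f.app V).hom]
    have := Algebra.FinitePresentation.ker_fG_of_surjective
      (Algebra.ofId Γ(Y, V) Γ(X, f ⁻¹ᵁ V)) hsurj
    rw [hIdef]
    exact this
  have hgerm : ∀ a ∈ I, (Y.presheaf.germ V (f x) hyV).hom a = 0 := by
    intro a ha
    apply hinj
    rw [map_zero]
    have h1 : (f.stalkMap x).hom ((Y.presheaf.germ V (f x) hyV).hom a) =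
        (X.presheaf.germ (f ⁻¹ᵁ V) x hyV).hom ((f.app V).hom a) :=
      f.germ_stalkMap_apply V x hyV a
    rw [hIdef] at ha
    rw [h1, RingHom.mem_ker.mp ha, map_zero]
  letI : Algebra Γ(Y, V) (Y.presheaf.stalk (f x)) :=
    TopCat.Presheaf.algebra_section_stalk Y.presheaf ⟨f x, hyV⟩
  haveI := hV.isLocalization_stalk ⟨f x, hyV⟩
  obtain ⟨s, hs, hsI⟩ := exists_mul_eq_zero_of_fg (S := Y.presheaf.stalk (f x))
    (hV.primeIdealOf ⟨f x, hyV⟩).asIdeal.primeCompl I hIfg hgerm
  have hys : f x ∈ Y.basicOpen s := by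
    rw [Y.mem_basicOpen s (f x) hyV]
    exact IsLocalization.map_units (Y.presheaf.stalk (f x))
      (⟨s, hs⟩ : (hV.primeIdealOf ⟨f x, hyV⟩).asIdeal.primeCompl)
  -- restriction kills I
  have hres : ∀ a ∈ I, (Y.presheaf.map (homOfLE (Y.basicOpen_le s)).op).hom a = 0 := by
    intro a ha
    have hu := Y.toRingedSpace.isUnit_res_basicOpen s
    have h0 : (Y.presheaf.map (homOfLE (Y.basicOpen_le s)).op).hom s *
        (Y.presheaf.map (homOfLE (Y.basicOpen_le s)).op).hom a = 0 := by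
      rw [← map_mul, hsI a ha, map_zero]
    exact (hu.mul_right_eq_zero).mp h0
  have hkerV : f.ker.ideal ⟨V, hV⟩ = I := by
    rw [hIdef]; exact Scheme.Hom.ker_apply f ⟨V, hV⟩
  have hbot : f.ker.ideal (Y.affineBasicOpen (U := ⟨V, hV⟩) s) = ⊥ := by
    have h1 := f.ker.map_ideal_basicOpen ⟨V, hV⟩ s
    rw [← h1]
    refine (Ideal.map_eq_bot_iff_le_ker _).mpr ?_
    rw [hkerV]
    intro a ha
    exact RingHom.mem_ker.mpr (hres a ha)
  have hbotW : ∀ W : Y.affineOpens, W ≤ Y.affineBasicOpen (U := ⟨V, hV⟩) s → f.ker.ideal W = ⊥ := by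
    intro W hW
    rw [← f.ker.map_ideal hW, hbot, Ideal.map_bot]
  refine ⟨Y.basicOpen s, hys, ?_⟩
  have hker : (f ∣_ Y.basicOpen s).ker = ⊥ := by
    refine Scheme.IdealSheafData.ext (funext fun W => ?_)
    rw [Scheme.ker_morphismRestrict_ideal, hbotW _ (Scheme.Opens.ι_image_le _ _)]
    rfl
  exact IsClosedImmersion.isIso_of_ker_eq (f ∣_ Y.basicOpen s) (𝟙 _) (f ∣_ Y.basicOpen s)
    (Category.comp_id _) (hker.trans (Scheme.Hom.ker_eq_bot_of_isIso (𝟙 _)).symm)

end Groth.Agent.Lib.FlatClImmH4
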