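import Mathlib

/-!
# Flatness of the cokernel of a complex that stays exact modulo every ideal (helper5)
-/

set_option autoImplicit false
universe u

open CategoryTheory MonoidalCategory
open scoped TensorProduct

namespace Groth.Agent.Lib.FlatCplx

/-- If `P` is flat, `π : P → M` is surjective and `ker π ∩ I P ⊆ I ker π` for all ideals `I`,
then `M` is flat. -/
theorem flat_of_ker_inter_le {R : Type u} [CommRing R] {P M : Type u} [AddCommGroup P] [Module R P]
    [AddCommGroup M] [Module R M] [Module.Flat R P] (π : P →ₗ[R] M) (hπ : Function.Surjective π)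
    (h : ∀ (I : Ideal R) (z : P), π z = 0 → z ∈ I • (⊤ : Submodule R P) →
      z ∈ I • LinearMap.ker π) : Module.Flat R M := by
  rw [Module.Flat.iff_rTensor_injective']
  intro I
  rw [injective_iff_map_eq_zero]
  intro t ht
  obtain ⟨s, rfl⟩ := LinearMap.lTensor_surjective I hπ t
  set ι : I ⊗[R] P →ₗ[R] P := (TensorProduct.lid R P).toLinearMap ∘ₗ LinearMap.rTensor P I.subtype
    with hι
  have hιinj : Function.Injective ι := by
    rw [hι, LinearMap.coe_comp]
    exact (TensorProduct.lid R P).injective.comp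
      (Module.Flat.rTensor_preserves_injective_linearMap _ I.subtype_injective)
  -- the square commutes
  have hsq : ∀ s : I ⊗[R] P,
      (TensorProduct.lid R M) (LinearMap.rTensor M I.subtype (LinearMap.lTensor I π s)) =
        π (ι s) := by
    intro s
    induction s using TensorProduct.induction_on with
    | zero => simp
    | tmul a x => simp [hι]
    | add x y hx hy => simp only [map_add, hx, hy]
  have hmem : ∀ s : I ⊗[R] P, ι s ∈ I • (⊤ : Submodule R P) := by
    intro s
    induction s using TensorProduct.induction_on with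
    | zero => simp
    | tmul a x =>
      have : ι (a ⊗ₜ x) = (a : R) • x := by simp [hι]
      rw [this]
      exact Submodule.smul_mem_smul a.2 trivial
    | add x y hx hy => rw [map_add]; exact add_mem hx hy
  have hker : π (ι s) = 0 := by rw [← hsq, ht, map_zero]
  have hIz := h I (ι s) hker (hmem s)
  -- produce s' with the same image and vanishing in I ⊗ M
  have key : ∀ p ∈ I • LinearMap.ker π, ∃ s' : I ⊗[R] P, ι s' = p ∧ LinearMap.lTensor I π s' = 0 := by
    intro p hp
    induction hp using Submodule.smul_induction_on' with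
    | smul a ha z hz =>
      refine ⟨(⟨a, ha⟩ : I) ⊗ₜ z, by simp [hι], ?_⟩
      rw [LinearMap.lTensor_tmul, LinearMap.mem_ker.mp hz, TensorProduct.tmul_zero]
    | add x _ y _ hx hy =>
      obtain ⟨sx, hsx, hsx'⟩ := hx
      obtain ⟨sy, hsy, hsy'⟩ := hy
      exact ⟨sx + sy, by rw [map_add, hsx, hsy], by rw [map_add, hsx', hsy', add_zero]⟩
  obtain ⟨s', hs', hs'0⟩ := key _ hIz
  have : s = s' := hιinj hs'.symm
  rw [this, hs'0]

/-- every element of `(R/I) ⊗ N` is of the form `1 ⊗ n`. -/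
theorem exists_one_tmul {R : Type u} [CommRing R] (I : Ideal R) {N : Type u} [AddCommGroup N]
    [Module R N] (w : (R ⧸ I) ⊗[R] N) : ∃ n : N, w = (1 : R ⧸ I) ⊗ₜ[R] n := by
  obtain ⟨n, hn⟩ := Submodule.Quotient.mk_surjective _ (TensorProduct.quotTensorEquivQuotSMul N I w)
  refine ⟨n, ?_⟩
  apply (TensorProduct.quotTensorEquivQuotSMul N I).injective
  rw [TensorProduct.quotTensorEquivQuotSMul_mk_one_tmul, hn]

theorem one_tmul_eq_zero_iff {R : Type u} [CommRing R] (I : Ideal R) {N : Type u} [AddCommGroup N]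
    [Module R N] (n : N) : (1 : R ⧸ I) ⊗ₜ[R] n = 0 ↔ n ∈ I • (⊤ : Submodule R N) := by
  rw [← (TensorProduct.quotTensorEquivQuotSMul N I).map_eq_zero_iff,
    TensorProduct.quotTensorEquivQuotSMul_mk_one_tmul, Submodule.Quotient.mk_eq_zero]

/-- Exactness of a chain complex of modules in degree `n+1`, in terms of elements. -/
theorem exists_of_exactAt_succ {R : Type u} [CommRing R] (K : ChainComplex (ModuleCat.{u} R) ℕ)
    (n : ℕ) (h : K.ExactAt (n + 1)) (x : K.X (n + 1)) (hx : (K.d (n + 1) n).hom x = 0) :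
    ∃ y : K.X (n + 2), (K.d (n + 2) (n + 1)).hom y = x := by
  have h1 := (K.exactAt_iff' (n + 2) (n + 1) n (by simp) (by simp)).mp h
  exact (ShortComplex.moduleCat_exact_iff _).mp h1 x hx

theorem surjective_of_exactAt_zero {R : Type u} [CommRing R] (K : ChainComplex (ModuleCat.{u} R) ℕ)
    (h : K.ExactAt 0) : Function.Surjective (K.d 1 0).hom := by
  intro x
  have h1 := (K.exactAt_iff' 1 0 0 (by simp) (by simp)).mp h
  refine (ShortComplex.moduleCat_exact_iff _).mp h1 x ?_
  show (K.d 0 0).hom x = 0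
  rw [K.shape 0 0 (by simp)]
  rfl

theorem main (R : Type u) [CommRing R] (K : ChainComplex (ModuleCat.{u} R) ℕ)
    (hflat : Module.Flat R (K.X 1))
    (hK : K.Acyclic)
    (hbc : ∀ I : Ideal R,
      (((tensorLeft (ModuleCat.of R (R ⧸ I))).mapHomologicalComplex (ComplexShape.down ℕ)).obj K).Acyclic) :
    Module.Flat R (K.X 0) := by
  refine flat_of_ker_inter_le (K.d 1 0).hom (surjective_of_exactAt_zero K (hK 0)) ?_
  intro I z hz hzI
  obtain ⟨y, rfl⟩ := exists_of_exactAt_succ K 0 (hK 1) z hz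
  -- the tensored complex
  set L := ((tensorLeft (ModuleCat.of R (R ⧸ I))).mapHomologicalComplex (ComplexShape.down ℕ)).obj K
    with hL
  have hLd : ∀ (i j : ℕ) (a : R ⧸ I) (x : K.X i),
      (L.d i j).hom ((a ⊗ₜ[R] x : (R ⧸ I) ⊗[R] (K.X i))) = (a ⊗ₜ[R] ((K.d i j).hom x) : (R ⧸ I) ⊗[R] (K.X j)) := by
    intro i j a x
    rfl
  have h0 : (L.d 2 1).hom (((1 : R ⧸ I) ⊗ₜ[R] y : (R ⧸ I) ⊗[R] (K.X 2))) = 0 := by
    rw [hLd]
    exact (one_tmul_eq_zero_iff I _).mpr hzI
  obtain ⟨w, hw⟩ := exists_of_exactAt_succ L 1 (hbc I 2) _ h0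
  obtain ⟨w', rfl⟩ := exists_one_tmul I (N := K.X 3) w
  rw [hLd] at hw
  have h1 : y - (K.d 3 2).hom w' ∈ I • (⊤ : Submodule R (K.X 2)) := by
    rw [← one_tmul_eq_zero_iff, TensorProduct.tmul_sub, sub_eq_zero]
    exact hw.symm
  have hdd : (K.d 2 1).hom ((K.d 3 2).hom w') = 0 := by
    have h4 : (K.d 3 2 ≫ K.d 2 1).hom w' = 0 := by rw [K.d_comp_d]; rfl
    exact h4
  have h2 : (K.d 2 1).hom y = (K.d 2 1).hom (y - (K.d 3 2).hom w') := by
    rw [map_sub, hdd, sub_zero]
  rw [h2]
  have h3 : (K.d 2 1).hom (y - (K.d 3 2).hom w') ∈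
      Submodule.map (K.d 2 1).hom (I • (⊤ : Submodule R (K.X 2))) :=
    Submodule.mem_map_of_mem h1
  rw [Submodule.map_smul''] at h3
  refine Submodule.smul_mono le_rfl ?_ h3
  rintro _ ⟨v, -, rfl⟩
  rw [LinearMap.mem_ker]
  have h5 : (K.d 2 1 ≫ K.d 1 0).hom v = 0 := by rw [K.d_comp_d]; rfl
  exact h5

end Groth.Agent.Lib.FlatCplx
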