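import Mathlib
import Groth.Agent.Lib.FlatFibre_helper9

/-!
# Exactness and flat cokernel for a complex exact modulo the maximal ideal (helper4)

Uses helper9's `FlatFibre` (injective mod `𝔪` ⇒ injective with flat cokernel).
-/

set_option autoImplicit false
universe u

namespace Groth.Agent.Lib.FlatCxH4

open CategoryTheory TensorProduct

section FlatR

variable (R : Type u) (S : Type u) [CommRing R] [CommRing S] [Algebra R S]

/-- Flatness over `R` of an `S`-module through restriction of scalars. -/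
def FlatR (X : Type u) [AddCommGroup X] [Module S X] : Prop :=
  @Module.Flat R X _ _ (Module.compHom X (algebraMap R S))

theorem flatR_of_equiv {X Y : Type u} [AddCommGroup X] [Module S X] [AddCommGroup Y] [Module S Y]
    (e : X ≃ₗ[S] Y) (h : FlatR R S Y) : FlatR R S X := by
  letI : Module R X := Module.compHom X (algebraMap R S)
  letI : Module R Y := Module.compHom Y (algebraMap R S)
  haveI : IsScalarTower R S X := IsScalarTower.of_algebraMap_smul fun _ _ => rfl
  haveI : IsScalarTower R S Y := IsScalarTower.of_algebraMap_smul fun _ _ => rfl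
  haveI : Module.Flat R Y := h
  show Module.Flat R X
  exact Module.Flat.of_linearEquiv (e.restrictScalars R)

theorem step [IsLocalRing R] [IsLocalRing S] [IsNoetherianRing S] [IsLocalHom (algebraMap R S)]
    {N M : Type u} [AddCommGroup N] [Module S N] [Module.Finite S N] [AddCommGroup M] [Module S M]
    (hM : FlatR R S M) (v : N →ₗ[S] M)
    (hv : ∀ x : N, v x ∈ (IsLocalRing.maximalIdeal R).map (algebraMap R S) • (⊤ : Submodule S M) →
      x ∈ (IsLocalRing.maximalIdeal R).map (algebraMap R S) • (⊤ : Submodule S N)) :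
    Function.Injective v ∧ FlatR R S (M ⧸ LinearMap.range v) := by
  letI : Module R N := Module.compHom N (algebraMap R S)
  letI : Module R M := Module.compHom M (algebraMap R S)
  haveI : IsScalarTower R S N := IsScalarTower.of_algebraMap_smul fun _ _ => rfl
  haveI : IsScalarTower R S M := IsScalarTower.of_algebraMap_smul fun _ _ => rfl
  haveI : Module.Flat R M := hM
  have hinj : Function.Injective
      ((v.restrictScalars R).lTensor (R ⧸ IsLocalRing.maximalIdeal R)) := by
    rw [Groth.Agent.Lib.FlatFibre.lTensor_quot_injective_iff]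
    intro x hx
    exact Groth.Agent.Lib.FlatFibre.map_smul_top_le_smul_top _ x
      (hv x (Groth.Agent.Lib.FlatFibre.smul_top_le_map_smul_top _ (v x) hx))
  refine ⟨Groth.Agent.Lib.FlatFibre.injective_of_injective_mod S (v.restrictScalars R) hinj, ?_⟩
  have hflat := Groth.Agent.Lib.FlatFibre.flat_coker_of_injective_mod S (v.restrictScalars R) hinj
  letI : Module R (M ⧸ LinearMap.range v) := Module.compHom _ (algebraMap R S)
  let g : M →ₗ[R] (M ⧸ LinearMap.range v) :=
    { toFun := (LinearMap.range v).mkQ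
      map_add' := fun a b => map_add _ a b
      map_smul' := fun r a => map_smul (LinearMap.range v).mkQ (algebraMap R S r) a }
  have hg : Function.Surjective g := (LinearMap.range v).mkQ_surjective
  have hker : LinearMap.ker g = LinearMap.range (v.restrictScalars R) := by
    ext a
    rw [LinearMap.mem_ker]
    show (LinearMap.range v).mkQ a = 0 ↔ _
    rw [Submodule.mkQ_apply, Submodule.Quotient.mk_eq_zero]
    rfl
  show Module.Flat R (M ⧸ LinearMap.range v)
  exact Module.Flat.of_linearEquiv
    ((g.quotKerEquivOfSurjective hg).symm.trans (Submodule.quotEquivOfEq _ _ hker))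

end FlatR

section Tensor

variable {S : Type u} [CommRing S]

lemma one_tmul_eq_zero_iff (I : Ideal S) {X : Type u} [AddCommGroup X] [Module S X] (x : X) :
    ((1 : S ⧸ I) ⊗ₜ[S] x = 0) ↔ x ∈ I • (⊤ : Submodule S X) := by
  rw [← (TensorProduct.quotTensorEquivQuotSMul X I).map_eq_zero_iff,
    TensorProduct.quotTensorEquivQuotSMul_mk_one_tmul, Submodule.Quotient.mk_eq_zero]

lemma exists_one_tmul (I : Ideal S) {X : Type u} [AddCommGroup X] [Module S X]
    (w : (S ⧸ I) ⊗[S] X) : ∃ x : X, w = (1 : S ⧸ I) ⊗ₜ[S] x := by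
  obtain ⟨x, hx⟩ := Submodule.Quotient.mk_surjective _
    (TensorProduct.quotTensorEquivQuotSMul X I w)
  refine ⟨x, (TensorProduct.quotTensorEquivQuotSMul X I).injective ?_⟩
  rw [TensorProduct.quotTensorEquivQuotSMul_mk_one_tmul, hx]

lemma exact_mod (C : ChainComplex (ModuleCat.{u} S) ℕ) (I : Ideal S) (k : ℕ)
    (h : (((MonoidalCategory.tensorLeft (ModuleCat.of S (S ⧸ I))).mapHomologicalComplex
      (ComplexShape.down ℕ)).obj C).ExactAt (k + 1))
    (y : C.X (k + 1)) (hy : (C.d (k + 1) k).hom y ∈ I • (⊤ : Submodule S (C.X k))) :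
    ∃ z : C.X (k + 2),
      y - (C.d (k + 2) (k + 1)).hom z ∈ I • (⊤ : Submodule S (C.X (k + 1))) := by
  rw [HomologicalComplex.exactAt_iff' _ (k + 2) (k + 1) k (by simp) (by simp),
    ShortComplex.moduleCat_exact_iff] at h
  have h1 : ((1 : S ⧸ I) ⊗ₜ[S] ((C.d (k + 1) k).hom y) : (S ⧸ I) ⊗[S] (C.X k)) = 0 :=
    (one_tmul_eq_zero_iff I _).mpr hy
  obtain ⟨w, hw⟩ := h ((1 : S ⧸ I) ⊗ₜ[S] y) h1
  obtain ⟨z, rfl⟩ := exists_one_tmul I w
  refine ⟨z, ?_⟩
  rw [← one_tmul_eq_zero_iff I, TensorProduct.tmul_sub, sub_eq_zero]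
  exact hw.symm

end Tensor

section Main

variable {R S : Type u} [CommRing R] [CommRing S] [IsLocalRing R] [IsLocalRing S]
  [IsNoetherianRing R] [IsNoetherianRing S] [Algebra R S] [IsLocalHom (algebraMap R S)]

theorem main (C : ChainComplex (ModuleCat.{u} S) ℕ) (e : ℕ)
    (hzero : ∀ j, e < j → Limits.IsZero (C.X j)) (hfin : ∀ j, Module.Finite S (C.X j))
    (hflat : ∀ j, Module.Flat R ((ModuleCat.restrictScalars (algebraMap R S)).obj (C.X j)))
    (hex : ∀ j, 1 ≤ j → j ≤ e →
      (((MonoidalCategory.tensorLeft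
          (ModuleCat.of S (S ⧸ (IsLocalRing.maximalIdeal R).map (algebraMap R S)))).mapHomologicalComplex
          (ComplexShape.down ℕ)).obj C).ExactAt j) :
    (∀ j, 1 ≤ j → j ≤ e → C.ExactAt j) ∧
      Module.Flat R ((ModuleCat.restrictScalars (algebraMap R S)).obj (C.homology 0)) := by
  have key : ∀ k, k + 1 ≤ e → C.ExactAt (k + 1) ∧
      FlatR R S (C.X k ⧸ LinearMap.range (C.d (k + 1) k).hom) := by
    intro k hk
    have hle : LinearMap.range (C.d (k + 2) (k + 1)).hom ≤ LinearMap.ker (C.d (k + 1) k).hom := by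
      rintro _ ⟨z, rfl⟩
      rw [LinearMap.mem_ker]
      have := C.d_comp_d (k + 2) (k + 1) k
      exact congrArg (fun f => f.hom z) this
    haveI := hfin (k + 1)
    have hv : ∀ x : C.X (k + 1) ⧸ LinearMap.range (C.d (k + 2) (k + 1)).hom,
        ((LinearMap.range (C.d (k + 2) (k + 1)).hom).liftQ (C.d (k + 1) k).hom hle) x ∈
          (IsLocalRing.maximalIdeal R).map (algebraMap R S) • (⊤ : Submodule S (C.X k)) →
        x ∈ (IsLocalRing.maximalIdeal R).map (algebraMap R S) •
          (⊤ : Submodule S (C.X (k + 1) ⧸ LinearMap.range (C.d (k + 2) (k + 1)).hom)) := by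
      intro x hx
      obtain ⟨y, rfl⟩ := (LinearMap.range (C.d (k + 2) (k + 1)).hom).mkQ_surjective x
      obtain ⟨z, hz⟩ := exact_mod C _ k (hex (k + 1) (by omega) hk) y hx
      have h2 : (LinearMap.range (C.d (k + 2) (k + 1)).hom).mkQ y =
          (LinearMap.range (C.d (k + 2) (k + 1)).hom).mkQ (y - (C.d (k + 2) (k + 1)).hom z) := by
        rw [map_sub, Submodule.mkQ_apply _ ((C.d (k + 2) (k + 1)).hom z),
          (Submodule.Quotient.mk_eq_zero (LinearMap.range (C.d (k + 2) (k + 1)).hom)).mpr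
            (LinearMap.mem_range_self _ z), sub_zero]
      rw [h2]
      exact Submodule.smul_top_le_comap_smul_top _ _ hz
    obtain ⟨hinj, hfl⟩ := step R S (N := C.X (k + 1) ⧸ LinearMap.range (C.d (k + 2) (k + 1)).hom)
      (M := C.X k) (hflat k)
      ((LinearMap.range (C.d (k + 2) (k + 1)).hom).liftQ (C.d (k + 1) k).hom hle) hv
    refine ⟨?_, ?_⟩
    · rw [HomologicalComplex.exactAt_iff' _ (k + 2) (k + 1) k (by simp) (by simp),
        ShortComplex.moduleCat_exact_iff_ker_sub_range]
      intro y hy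
      have h0 : (LinearMap.range (C.d (k + 2) (k + 1)).hom).mkQ y = 0 := by
        apply hinj
        rw [map_zero]
        exact hy
      exact (Submodule.Quotient.mk_eq_zero _).mp h0
    · rw [Submodule.range_liftQ] at hfl
      exact hfl
  have hbot : ∀ k, Limits.IsZero (C.X (k + 1)) →
      FlatR R S (C.X k ⧸ LinearMap.range (C.d (k + 1) k).hom) := by
    intro k hz
    have hr : LinearMap.range (C.d (k + 1) k).hom = ⊥ := by
      have h0 : C.d (k + 1) k = 0 := hz.eq_of_src _ _
      rw [h0, ModuleCat.hom_zero, LinearMap.range_zero]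
    rw [hr]
    exact flatR_of_equiv R S (Submodule.quotEquivOfEqBot ⊥ rfl) (hflat k)
  refine ⟨fun j hj1 hje => ?_, ?_⟩
  · obtain ⟨k, rfl⟩ : ∃ k, j = k + 1 := ⟨j - 1, by omega⟩
    exact (key k hje).1
  · have hQ : FlatR R S (C.X 0 ⧸ LinearMap.range (C.d 1 0).hom) := by
      rcases Nat.eq_zero_or_pos e with he | he
      · exact hbot 0 (hzero 1 (by omega))
      · exact (key 0 (by omega)).2
    exact flatR_of_equiv R S
      ((C.isoHomologyι 0 0 (by simp) (C.shape 0 0 (by simp)) ≪≫
        C.opcyclesIsoSc' 1 0 0 (by simp) (by simp) ≪≫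
        (C.sc' 1 0 0).moduleCatOpcyclesIso).toLinearEquiv) hQ

end Main

end Groth.Agent.Lib.FlatCxH4
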