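import Mathlib
import Groth.Agent.Lib.FibPD_helper7

set_option autoImplicit false
universe u
open CategoryTheory CategoryTheory.Limits

namespace Groth.Agent.Lib.FlatCyclesH7

set_option backward.isDefEq.respectTransparency false in
theorem main (A : Type u) [CommRing A]
    (F : CochainComplex (ModuleCat.{u} A) ℤ) (hF : ∀ i, Module.Flat A (F.X i))
    (hb : ∃ b : ℤ, ∀ i, b < i → IsZero (F.X i)) (d : ℤ)
    (hac : ∀ p, d < p → IsZero (F.homology p)) :
    Module.Flat A (F.cycles d) := by
  obtain ⟨b, hb⟩ := hb
  have key : ∀ k : ℕ, ∀ i : ℤ, d ≤ i → b < i + k →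
      Module.Flat A (LinearMap.ker (F.d i (i + 1)).hom) := by
    intro k
    induction k with
    | zero =>
      intro i _ hi
      haveI : Subsingleton (F.X i) := ModuleCat.subsingleton_of_isZero (hb i (by simpa using hi))
      haveI : Subsingleton (LinearMap.ker (F.d i (i + 1)).hom) := inferInstance
      infer_instance
    | succ k ih =>
      intro i hdi hi
      haveI := ih (i + 1) (by lia) (by push_cast at hi ⊢; lia)
      haveI := hF i
      have hex : (F.sc' i (i + 1) (i + 1 + 1)).Exact := by
        rw [← F.exactAt_iff' i (i + 1) (i + 1 + 1) (by simp) (by simp),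
          HomologicalComplex.exactAt_iff_isZero_homology]
        exact hac (i + 1) (by lia)
      have hrk : LinearMap.range (F.d i (i + 1)).hom =
          LinearMap.ker (F.d (i + 1) (i + 1 + 1)).hom :=
        (ShortComplex.moduleCat_exact_iff_range_eq_ker _).mp hex
      let f : F.X i →ₗ[A] LinearMap.ker (F.d (i + 1) (i + 1 + 1)).hom :=
        (F.d i (i + 1)).hom.codRestrict _
          (fun x => by rw [← hrk]; exact LinearMap.mem_range_self _ x)
      have hf : Function.Surjective f := by
        rw [← LinearMap.range_eq_top, LinearMap.range_codRestrict, hrk,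
          Submodule.comap_subtype_self]
      have hker : LinearMap.ker f = LinearMap.ker (F.d i (i + 1)).hom :=
        LinearMap.ker_codRestrict _ _ _
      have hex2 : Function.Exact (LinearMap.ker (F.d i (i + 1)).hom).subtype f := by
        rw [LinearMap.exact_iff, hker, Submodule.range_subtype]
      exact Groth.Agent.Lib.FibPDH7.flat_of_exact (LinearMap.ker (F.d i (i + 1)).hom).subtype f
        (Submodule.injective_subtype _) hf hex2
  have hflat := key ((b - d).toNat + 1) d le_rfl (by
    have := Int.self_le_toNat (b - d)
    push_cast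
    lia)
  let e : F.cycles d ≅ ModuleCat.of A (LinearMap.ker (F.d d (d + 1)).hom) :=
    F.cyclesIsoSc' (d - 1) d (d + 1) (by simp) (by simp) ≪≫
      (F.sc' (d - 1) d (d + 1)).moduleCatCyclesIso
  exact Module.Flat.of_linearEquiv e.toLinearEquiv

end Groth.Agent.Lib.FlatCyclesH7
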