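import Mathlib
import Groth.Agent.Lib.DomDimOne3_helper6

/-!
# Flatness over a reduced Noetherian ring can be tested on discrete valuation rings (helper6)

* `linearIndependent_baseChange_of_basis`
* `free_of_forall_dvr_flat`: local case.
-/

set_option autoImplicit false
universe u

namespace Groth.Agent.Lib.FlatDVR

open IsLocalRing TensorProduct

theorem linearIndependent_baseChange_of_basis {A B : Type u} [CommRing A] [IsLocalRing A]
    [CommRing B] [IsLocalRing B] [Algebra A B] [IsLocalHom (algebraMap A B)]
    {M : Type u} [AddCommGroup M] [Module A M] {ι : Type*} (v : ι → M)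
    (w : Module.Basis ι (ResidueField A) (ResidueField A ⊗[A] M))
    (hv : ∀ i, (1 : ResidueField A) ⊗ₜ[A] v i = w i) :
    LinearIndependent (ResidueField B)
      (TensorProduct.mk B (ResidueField B) (B ⊗[A] M) 1 ∘ fun i => (1 : B) ⊗ₜ[A] v i) := by
  let e₁ : ResidueField B ⊗[B] (B ⊗[A] M) ≃ₗ[ResidueField B] ResidueField B ⊗[A] M :=
    TensorProduct.AlgebraTensorModule.cancelBaseChange A B (ResidueField B) (ResidueField B) M
  let e₂ : ResidueField B ⊗[ResidueField A] (ResidueField A ⊗[A] M) ≃ₗ[ResidueField B]
      ResidueField B ⊗[A] M :=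
    TensorProduct.AlgebraTensorModule.cancelBaseChange A (ResidueField A) (ResidueField B)
      (ResidueField B) M
  let E := e₁.trans e₂.symm
  apply LinearIndependent.of_comp E.toLinearMap
  have hE : (E.toLinearMap ∘ (TensorProduct.mk B (ResidueField B) (B ⊗[A] M) 1 ∘
      fun i => (1 : B) ⊗ₜ[A] v i)) = Algebra.TensorProduct.basis (ResidueField B) w := by
    funext i
    simp only [Function.comp_apply, TensorProduct.mk_apply, LinearEquiv.coe_coe, E,
      LinearEquiv.trans_apply, e₁, e₂,
      TensorProduct.AlgebraTensorModule.cancelBaseChange_tmul, one_smul,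
      TensorProduct.AlgebraTensorModule.cancelBaseChange_symm_tmul,
      Algebra.TensorProduct.basis_apply, hv]
  rw [hE]
  exact (Algebra.TensorProduct.basis (ResidueField B) w).linearIndependent

end Groth.Agent.Lib.FlatDVR
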