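import Mathlib
import Groth.Prelude
import Groth.Agent.Lib.FlatDedekind_helper4

set_option autoImplicit false
set_option linter.style.haveILetI false
set_option linter.unusedVariables false

universe u

open CategoryTheory CategoryTheory.Limits AlgebraicGeometry TopologicalSpace Opposite

namespace Groth.Agent.Lib.FlatDedekind2H4

open Groth.Agent.Lib.FlatDedekindH4

section ring

/-- Flatness criterion over a PID via minimal primes, for a reduced target. -/
theorem flat_of_minimal {A B : Type*} [CommRing A] [IsDomain A] [IsPrincipalIdealRing A]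
    [CommRing B] [IsReduced B] (φ : A →+* B)
    (h : ∀ p ∈ minimalPrimes B, ∀ a : A, φ a ∈ p → a = 0) : φ.Flat := by
  letI : Algebra A B := φ.toAlgebra
  change Module.Flat A B
  rw [Module.Flat.flat_iff_torsion_eq_bot_of_isBezout, eq_bot_iff]
  rintro m ⟨⟨a, ha⟩, hm⟩
  have ha0 : a ≠ 0 := nonZeroDivisors.ne_zero ha
  have h' : φ a * m = 0 := hm
  rw [Submodule.mem_bot]
  have hmem : m ∈ sInf (⊥ : Ideal B).minimalPrimes := by
    rw [Ideal.mem_sInf]
    intro p hp
    have hpp : Ideal.IsPrime p := hp.1.1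
    have h1 : φ a * m ∈ p := by rw [h']; exact Ideal.zero_mem p
    rcases Ideal.IsPrime.mem_or_mem hpp h1 with h2 | h2
    · exact absurd (h p hp a h2) ha0
    · exact h2
  rw [Ideal.sInf_minimalPrimes] at hmem
  have hrad : (⊥ : Ideal B).radical = ⊥ := nilradical_eq_zero B
  rw [hrad] at hmem
  exact (Submodule.mem_bot B).mp hmem

/-- Flat local hom from a domain to a local ring with zero maximal ideal: source is a field. -/
theorem maxIdeal_eq_bot_of_flat {A K : Type*} [CommRing A] [IsDomain A] [IsLocalRing A]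
    [CommRing K] [IsLocalRing K] (φ : A →+* K) [IsLocalHom φ] (hφ : φ.Flat)
    (hK : IsLocalRing.maximalIdeal K = ⊥) : IsLocalRing.maximalIdeal A = ⊥ := by
  letI : Algebra A K := φ.toAlgebra
  haveI : Module.Flat A K := hφ
  rw [eq_bot_iff]
  intro a ha
  rw [Submodule.mem_bot]
  by_contra ha0
  have hreg : a ∈ nonZeroDivisors A := mem_nonZeroDivisors_of_ne_zero ha0
  have hsm : IsSMulRegular K a := Module.Flat.isSMulRegular_of_nonZeroDivisors hreg
  have h1 : φ a ∈ IsLocalRing.maximalIdeal K :=
    (IsLocalRing.map_maximalIdeal_le φ) (Ideal.mem_map_of_mem φ ha)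
  rw [hK, Submodule.mem_bot] at h1
  have h2 : a • (1 : K) = a • (0 : K) := by
    rw [smul_zero]
    have h3 : a • (1 : K) = φ a * 1 := rfl
    rw [h3, h1, zero_mul]
  exact one_ne_zero (hsm h2)

end ring

section scheme
variable {X Y : Scheme.{u}}

theorem exists_generization_of_prime (x : X)
    (p : Ideal (X.presheaf.stalk x)) [hpprime : p.IsPrime] :
    ∃ (x' : X) (h : x' ⤳ x),
      Ideal.comap (X.presheaf.stalkSpecializes h).hom
        (IsLocalRing.maximalIdeal (X.presheaf.stalk x')) = p := by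
  obtain ⟨_, ⟨U, hU, rfl⟩, hxU, -⟩ :=
    X.isBasis_affineOpens.exists_subset_of_mem_open (Set.mem_univ x) isOpen_univ
  have hxU : x ∈ U := hxU
  have hU : IsAffineOpen U := hU
  letI := TopCat.Presheaf.algebra_section_stalk X.presheaf (⟨x, hxU⟩ : U)
  haveI : IsLocalization.AtPrime (X.presheaf.stalk x) (hU.primeIdealOf ⟨x, hxU⟩).asIdeal :=
    hU.isLocalization_stalk ⟨x, hxU⟩
  have hex : ∃ P₀ : Spec Γ(X, U), P₀.asIdeal =
      Ideal.comap (algebraMap Γ(X, U) (X.presheaf.stalk x)) p :=
    ⟨(⟨Ideal.comap (algebraMap Γ(X, U) (X.presheaf.stalk x)) p, inferInstance⟩ :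
      PrimeSpectrum Γ(X, U)), rfl⟩
  obtain ⟨P₀, hP₀⟩ := hex
  have hx'U : hU.fromSpec P₀ ∈ U := AssPtH8.fromSpec_mem hU P₀
  have hprim : hU.primeIdealOf ⟨hU.fromSpec P₀, hx'U⟩ = P₀ :=
    AssPtH8.primeIdealOf_fromSpec hU P₀ hx'U
  have hc : Ideal.comap (algebraMap Γ(X, U) (X.presheaf.stalk x))
      (IsLocalRing.maximalIdeal (X.presheaf.stalk x)) = (hU.primeIdealOf ⟨x, hxU⟩).asIdeal :=
    comap_germ_maximalIdeal hU hxU
  have hle : P₀.asIdeal ≤ (hU.primeIdealOf ⟨x, hxU⟩).asIdeal := by
    rw [← hc, hP₀]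
    exact Ideal.comap_mono (IsLocalRing.le_maximalIdeal hpprime.ne_top)
  have hsp : hU.fromSpec P₀ ⤳ x := by
    have h1 : P₀ ⤳ hU.primeIdealOf ⟨x, hxU⟩ :=
      (PrimeSpectrum.le_iff_specializes P₀ _).mp hle
    have h2 := h1.map hU.fromSpec.continuous
    rwa [hU.fromSpec_primeIdealOf ⟨x, hxU⟩] at h2
  refine ⟨hU.fromSpec P₀, hsp, ?_⟩
  have hc' : Ideal.comap (X.presheaf.germ U (hU.fromSpec P₀) hx'U).hom
      (IsLocalRing.maximalIdeal (X.presheaf.stalk (hU.fromSpec P₀))) = P₀.asIdeal := by
    rw [comap_germ_maximalIdeal hU hx'U, hprim]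
  have hcomp : (X.presheaf.stalkSpecializes hsp).hom.comp
      (algebraMap Γ(X, U) (X.presheaf.stalk x)) =
      (X.presheaf.germ U (hU.fromSpec P₀) hx'U).hom := by
    have h6 := TopCat.Presheaf.germ_stalkSpecializes X.presheaf hxU hsp
    exact congrArg CommRingCat.Hom.hom h6
  have e1 : Ideal.comap (algebraMap Γ(X, U) (X.presheaf.stalk x))
      (Ideal.comap (X.presheaf.stalkSpecializes hsp).hom
        (IsLocalRing.maximalIdeal (X.presheaf.stalk (hU.fromSpec P₀)))) =
      Ideal.comap (algebraMap Γ(X, U) (X.presheaf.stalk x)) p := by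
    rw [Ideal.comap_comap, hcomp, hc', hP₀]
  calc Ideal.comap (X.presheaf.stalkSpecializes hsp).hom
        (IsLocalRing.maximalIdeal (X.presheaf.stalk (hU.fromSpec P₀)))
      = Ideal.map (algebraMap Γ(X, U) (X.presheaf.stalk x))
          (Ideal.comap (algebraMap Γ(X, U) (X.presheaf.stalk x))
            (Ideal.comap (X.presheaf.stalkSpecializes hsp).hom
              (IsLocalRing.maximalIdeal (X.presheaf.stalk (hU.fromSpec P₀))))) :=
        (IsLocalization.map_under (hU.primeIdealOf ⟨x, hxU⟩).asIdeal.primeCompl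
          (X.presheaf.stalk x) _).symm
    _ = Ideal.map (algebraMap Γ(X, U) (X.presheaf.stalk x))
          (Ideal.comap (algebraMap Γ(X, U) (X.presheaf.stalk x)) p) := by rw [e1]
    _ = p := IsLocalization.map_under (hU.primeIdealOf ⟨x, hxU⟩).asIdeal.primeCompl
          (X.presheaf.stalk x) p

theorem generization_unique (x x' x'' : X) (h' : x' ⤳ x) (h'' : x'' ⤳ x)
    (e : Ideal.comap (X.presheaf.stalkSpecializes h').hom
        (IsLocalRing.maximalIdeal (X.presheaf.stalk x')) =
      Ideal.comap (X.presheaf.stalkSpecializes h'').hom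
        (IsLocalRing.maximalIdeal (X.presheaf.stalk x''))) : x' = x'' := by
  obtain ⟨_, ⟨U, hU, rfl⟩, hxU, -⟩ :=
    X.isBasis_affineOpens.exists_subset_of_mem_open (Set.mem_univ x) isOpen_univ
  have hxU : x ∈ U := hxU
  have hU : IsAffineOpen U := hU
  have hx'U : x' ∈ U := h'.mem_open U.isOpen hxU
  have hx''U : x'' ∈ U := h''.mem_open U.isOpen hxU
  have key : ∀ (z : X) (hz : z ⤳ x) (hzU : z ∈ U),
      Ideal.comap (X.presheaf.germ U x hxU).hom
        (Ideal.comap (X.presheaf.stalkSpecializes hz).hom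
          (IsLocalRing.maximalIdeal (X.presheaf.stalk z))) =
      (hU.primeIdealOf ⟨z, hzU⟩).asIdeal := by
    intro z hz hzU
    have hcomp : (X.presheaf.stalkSpecializes hz).hom.comp (X.presheaf.germ U x hxU).hom =
        (X.presheaf.germ U z hzU).hom := by
      have h6 := TopCat.Presheaf.germ_stalkSpecializes X.presheaf hxU hz
      exact congrArg CommRingCat.Hom.hom h6
    rw [Ideal.comap_comap, hcomp, comap_germ_maximalIdeal hU hzU]
  have e2 : (hU.primeIdealOf ⟨x', hx'U⟩).asIdeal = (hU.primeIdealOf ⟨x'', hx''U⟩).asIdeal := by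
    rw [← key x' h' hx'U, ← key x'' h'' hx''U, e]
  have e3 : hU.primeIdealOf ⟨x', hx'U⟩ = hU.primeIdealOf ⟨x'', hx''U⟩ := PrimeSpectrum.ext e2
  have e4 := congrArg (fun P => (hU.fromSpec P : X)) e3
  simp only [hU.fromSpec_primeIdealOf] at e4
  exact e4

theorem isMax_of_minimal (x : X) (p : Ideal (X.presheaf.stalk x))
    (hp : p ∈ minimalPrimes (X.presheaf.stalk x)) (x' : X) (h : x' ⤳ x)
    (hc : Ideal.comap (X.presheaf.stalkSpecializes h).hom
      (IsLocalRing.maximalIdeal (X.presheaf.stalk x')) = p) :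
    ∀ x'' : X, x'' ⤳ x' → x'' = x' := by
  intro x'' hx''
  have h'' : x'' ⤳ x := hx''.trans h
  have hcomp : X.presheaf.stalkSpecializes h'' =
      X.presheaf.stalkSpecializes h ≫ X.presheaf.stalkSpecializes hx'' :=
    (TopCat.Presheaf.stalkSpecializes_comp X.presheaf hx'' h).symm
  have hle : Ideal.comap (X.presheaf.stalkSpecializes h'').hom
      (IsLocalRing.maximalIdeal (X.presheaf.stalk x'')) ≤ p := by
    rw [← hc, hcomp, CommRingCat.hom_comp, ← Ideal.comap_comap]
    refine Ideal.comap_mono ?_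
    exact IsLocalRing.le_maximalIdeal (Ideal.IsPrime.ne_top (Ideal.comap_isPrime _ _))
  have hge : p ≤ Ideal.comap (X.presheaf.stalkSpecializes h'').hom
      (IsLocalRing.maximalIdeal (X.presheaf.stalk x'')) :=
    hp.2 ⟨Ideal.comap_isPrime _ _, bot_le⟩ hle
  have e : Ideal.comap (X.presheaf.stalkSpecializes h).hom
      (IsLocalRing.maximalIdeal (X.presheaf.stalk x')) =
      Ideal.comap (X.presheaf.stalkSpecializes h'').hom
        (IsLocalRing.maximalIdeal (X.presheaf.stalk x'')) := by
    rw [hc]; exact le_antisymm hge hle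
  exact (generization_unique x x' x'' h h'' e).symm

theorem eq_zero_of_mem [IsIntegral Y] (f : X ⟶ Y) (x x' : X) (hsp : x' ⤳ x)
    (hgen : f.base x' = genericPoint Y) (a : Y.presheaf.stalk (f x))
    (hmem : (X.presheaf.stalkSpecializes hsp).hom ((f.stalkMap x).hom a) ∈
      IsLocalRing.maximalIdeal (X.presheaf.stalk x')) : a = 0 := by
  have hnat := Scheme.Hom.stalkSpecializes_stalkMap_apply f x' x hsp a
  have hnu : ¬ IsUnit ((Y.presheaf.stalkSpecializes (f.base.hom.map_specializes hsp)).hom a) := by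
    intro hu
    have hu' : IsUnit ((f.stalkMap x').hom
        ((Y.presheaf.stalkSpecializes (f.base.hom.map_specializes hsp)).hom a)) :=
      hu.map (f.stalkMap x').hom
    have hmem' : (f.stalkMap x').hom
        ((Y.presheaf.stalkSpecializes (f.base.hom.map_specializes hsp)).hom a) ∈
        IsLocalRing.maximalIdeal (X.presheaf.stalk x') := by
      rw [show (f.stalkMap x').hom
        ((Y.presheaf.stalkSpecializes (f.base.hom.map_specializes hsp)).hom a) =
        (X.presheaf.stalkSpecializes hsp).hom ((f.stalkMap x).hom a) from hnat]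
      exact hmem
    exact (IsLocalRing.mem_maximalIdeal _).mp hmem' hu'
  have hz : (Y.presheaf.stalkSpecializes (f.base.hom.map_specializes hsp)).hom a = 0 :=
    eq_zero_of_not_isUnit_generic (f.base x') hgen _ hnu
  exact (NormalBiratH7.stalkSpecializes_injective (f.base x') (f.base x) hgen
    (f.base.hom.map_specializes hsp)) (hz.trans (map_zero _).symm)

theorem flat_of_components [IsIntegral Y]
    (hreg : ∀ y : Y, IsRegularLocalRing (Y.presheaf.stalk y))
    (hdim : topologicalKrullDim Y ≤ 1) [IsReduced X] (f : X ⟶ Y)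
    (h : ∀ x' : X, (∀ x'' : X, x'' ⤳ x' → x'' = x') → f.base x' = genericPoint Y) :
    Flat f := by
  rw [Flat.iff_flat_stalkMap]
  intro x
  haveI := hreg (f x)
  haveI : IsPrincipalIdealRing (Y.presheaf.stalk (f x)) := pid_of_regular _
    ((StalkDimH7.ringKrullDim_stalk_le_topologicalKrullDim Y (f x)).trans hdim)
  refine flat_of_minimal (f.stalkMap x).hom ?_
  intro p hp a hap
  haveI : p.IsPrime := hp.1.1
  obtain ⟨x', hsp, hcomap⟩ := exists_generization_of_prime x p
  have hmax := isMax_of_minimal x p hp x' hsp hcomap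
  have hgen : f.base x' = genericPoint Y := h x' hmax
  refine eq_zero_of_mem f x x' hsp hgen a ?_
  have h8 : (f.stalkMap x).hom a ∈ Ideal.comap (X.presheaf.stalkSpecializes hsp).hom
      (IsLocalRing.maximalIdeal (X.presheaf.stalk x')) := by rw [hcomap]; exact hap
  exact h8

theorem closure_mem_irreducibleComponents (x' : X) (hmax : ∀ x'' : X, x'' ⤳ x' → x'' = x') :
    closure {x'} ∈ irreducibleComponents (X : Type u) := by
  refine ⟨isIrreducible_singleton.closure, ?_⟩
  intro S hS hle
  obtain ⟨s, hs⟩ := QuasiSober.sober hS.closure isClosed_closure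
  have h1 : x' ∈ closure ({s} : Set X) := by
    rw [hs.def]
    exact subset_closure (hle (subset_closure (Set.mem_singleton x')))
  have h2 : s ⤳ x' := specializes_iff_mem_closure.mpr h1
  have h3 : s = x' := hmax s h2
  intro z hz
  have h4 : z ∈ closure ({s} : Set X) := by rw [hs.def]; exact subset_closure hz
  rw [h3] at h4
  exact h4

theorem eq_generic_of_dense [IsIntegral Y] (f : X ⟶ Y) (x' : X)
    (hd : Dense (f.base '' closure {x'})) : f.base x' = genericPoint Y := by
  have h1 : f.base '' closure {x'} ⊆ closure {f.base x'} := by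
    have := image_closure_subset_closure_image (s := ({x'} : Set X)) f.continuous
    rwa [Set.image_singleton] at this
  have h2 : closure (f.base '' closure {x'}) ⊆ closure {f.base x'} :=
    closure_minimal h1 isClosed_closure
  rw [dense_iff_closure_eq.mp hd] at h2
  have h3 : f.base x' ⤳ genericPoint Y :=
    specializes_iff_mem_closure.mpr (h2 (Set.mem_univ _))
  exact (h3.antisymm (genericPoint_specializes _)).eq

theorem generic_of_flat_of_isMax [IsIntegral Y] [IsReduced X] (f : X ⟶ Y) (hf : Flat f) (ξ : X)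
    (hmax : ∀ x'' : X, x'' ⤳ ξ → x'' = ξ) : f.base ξ = genericPoint Y := by
  have hM : IsMax ξ := by
    intro b hb
    have : b ⤳ ξ := hb
    exact le_of_eq (hmax b this)
  have hco : Order.coheight ξ ≤ ((0 : ℕ) : ℕ∞) := by
    rw [Order.coheight_eq_zero.mpr hM]; exact le_refl _
  haveI : Ring.KrullDimLE 0 (X.presheaf.stalk ξ) := krullDimLE_of_coheight_le hco
  have hfield : IsField (X.presheaf.stalk ξ) := Ring.KrullDimLE.isField_of_isReduced
  have hK : IsLocalRing.maximalIdeal (X.presheaf.stalk ξ) = ⊥ :=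
    IsLocalRing.isField_iff_maximalIdeal_eq.mp hfield
  have hfl : (f.stalkMap ξ).hom.Flat := ((Flat.iff_flat_stalkMap f).mp hf) ξ
  exact eq_genericPoint_of_maxIdeal_eq_bot (f ξ)
    (maxIdeal_eq_bot_of_flat (f.stalkMap ξ).hom hfl hK)

theorem main {X Y : Scheme.{u}} [IsIntegral Y]
    [IsNoetherian Y] (hreg : ∀ y : Y, IsRegularLocalRing (Y.presheaf.stalk y)) (hdim : topologicalKrullDim Y ≤ 1)
    (f : X ⟶ Y) [IsReduced X] :
    Flat f ↔ ∀ Z ∈ irreducibleComponents (X : Type u), Dense (f.base '' Z) := by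
  constructor
  · intro hf Z hZ
    have hZirr : IsIrreducible Z := hZ.1
    have hZcl : IsClosed Z := isClosed_of_mem_irreducibleComponents Z hZ
    obtain ⟨ξ, hξ⟩ := QuasiSober.sober hZirr hZcl
    have hmax : ∀ x'' : X, x'' ⤳ ξ → x'' = ξ := by
      intro x'' hx''
      have h1 : Z ≤ closure {x''} := by
        rw [← hξ.def]; exact specializes_iff_closure_subset.mp hx''
      have h2 : closure {x''} ≤ Z := hZ.2 isIrreducible_singleton.closure h1
      have h3 : ξ ⤳ x'' := by
        rw [specializes_iff_closure_subset, hξ.def]; exact h2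
      exact (hx''.antisymm h3).eq
    have hg := generic_of_flat_of_isMax f hf ξ hmax
    have hmem : genericPoint Y ∈ f.base '' Z := ⟨ξ, hξ.mem, hg⟩
    rw [dense_iff_closure_eq]
    refine Set.eq_univ_of_univ_subset ?_
    rw [← (genericPoint_spec (α := Y)).def]
    exact closure_mono (Set.singleton_subset_iff.mpr hmem)
  · intro h
    refine flat_of_components hreg hdim f ?_
    intro x' hmax
    exact eq_generic_of_dense f x' (h _ (closure_mem_irreducibleComponents x' hmax))

end scheme

end Groth.Agent.Lib.FlatDedekind2H4
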