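import Mathlib
import Groth.Prelude
import Groth.Agent.Lib.FlatDedekind2_helper4
import Groth.Agent.Lib.Regular_helper5
import Groth.Agent.Lib.FLF8_helper8

set_option autoImplicit false
set_option linter.style.haveILetI false
set_option linter.unusedVariables false

universe u

open CategoryTheory CategoryTheory.Limits AlgebraicGeometry TopologicalSpace Opposite

namespace Groth.Agent.Lib.FlatDedekind3H4

open Groth.Agent.Lib.FlatDedekindH4 Groth.Agent.Lib.FlatDedekind2H4

section scheme
variable {X Y : Scheme.{u}}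

theorem maxIdeal_eq_bot_of_dim_zero (y : Y) [IsDomain (Y.presheaf.stalk y)]
    (h0 : ringKrullDim (Y.presheaf.stalk y) = 0) :
    IsLocalRing.maximalIdeal (Y.presheaf.stalk y) = ⊥ := by
  haveI : Ring.KrullDimLE 0 (Y.presheaf.stalk y) := by
    rw [Ring.krullDimLE_iff, h0]; exact le_refl _
  exact IsLocalRing.isField_iff_maximalIdeal_eq.mp Ring.KrullDimLE.isField_of_isDomain

theorem eq_zero_of_mem' (hreg : ∀ y : Y, IsRegularLocalRing (Y.presheaf.stalk y))
    (hdim : ∀ y : Y, ringKrullDim (Y.presheaf.stalk y) ≤ 1)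
    (f : X ⟶ Y) (x x' : X) (hsp : x' ⤳ x)
    (h0 : ringKrullDim (Y.presheaf.stalk (f.base x')) = 0) (a : Y.presheaf.stalk (f x))
    (hmem : (X.presheaf.stalkSpecializes hsp).hom ((f.stalkMap x).hom a) ∈
      IsLocalRing.maximalIdeal (X.presheaf.stalk x')) : a = 0 := by
  haveI := hreg (f x)
  haveI : IsDomain (Y.presheaf.stalk (f x)) := Groth.Agent.RegularLib.isDomain _
  haveI : IsPrincipalIdealRing (Y.presheaf.stalk (f x)) := pid_of_regular _ (hdim (f x))
  haveI := hreg (f.base x')
  haveI : IsDomain (Y.presheaf.stalk (f.base x')) := Groth.Agent.RegularLib.isDomain _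
  have hm0 : IsLocalRing.maximalIdeal (Y.presheaf.stalk (f.base x')) = ⊥ :=
    maxIdeal_eq_bot_of_dim_zero (f.base x') h0
  have hnat := Scheme.Hom.stalkSpecializes_stalkMap_apply f x' x hsp a
  have hnu : ¬ IsUnit ((Y.presheaf.stalkSpecializes (f.base.hom.map_specializes hsp)).hom a) := by
    intro hu
    have hu' : IsUnit ((f.stalkMap x').hom
        ((Y.presheaf.stalkSpecializes (f.base.hom.map_specializes hsp)).hom a)) :=
      hu.map (f.stalkMap x').hom
    have hmem' : (f.stalkMap x').hom
        ((Y.presheaf.stalkSpecializes (f.base.hom.map_specializes hsp)).hom a) ∈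
        IsLocalRing.maximalIdeal (X.presheaf.stalk x') := by
      rw [show (f.stalkMap x').hom
        ((Y.presheaf.stalkSpecializes (f.base.hom.map_specializes hsp)).hom a) =
        (X.presheaf.stalkSpecializes hsp).hom ((f.stalkMap x).hom a) from hnat]
      exact hmem
    exact (IsLocalRing.mem_maximalIdeal _).mp hmem' hu'
  have haq : a ∈ Ideal.comap (Y.presheaf.stalkSpecializes (f.base.hom.map_specializes hsp)).hom
      (IsLocalRing.maximalIdeal (Y.presheaf.stalk (f.base x'))) :=
    (IsLocalRing.mem_maximalIdeal _).mpr hnu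
  have hqprime : (Ideal.comap (Y.presheaf.stalkSpecializes (f.base.hom.map_specializes hsp)).hom
      (IsLocalRing.maximalIdeal (Y.presheaf.stalk (f.base x')))).IsPrime :=
    Ideal.comap_isPrime _ _
  have hq : Ideal.comap (Y.presheaf.stalkSpecializes (f.base.hom.map_specializes hsp)).hom
      (IsLocalRing.maximalIdeal (Y.presheaf.stalk (f.base x'))) = ⊥ := by
    by_contra hne
    have hqmax := Ideal.IsPrime.isMaximal hqprime hne
    have hqm : Ideal.comap (Y.presheaf.stalkSpecializes (f.base.hom.map_specializes hsp)).hom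
        (IsLocalRing.maximalIdeal (Y.presheaf.stalk (f.base x'))) =
        IsLocalRing.maximalIdeal (Y.presheaf.stalk (f.base x)) :=
      IsLocalRing.eq_maximalIdeal hqmax
    have hrefl : Ideal.comap (Y.presheaf.stalkSpecializes (specializes_refl (f.base x))).hom
        (IsLocalRing.maximalIdeal (Y.presheaf.stalk (f.base x))) =
        IsLocalRing.maximalIdeal (Y.presheaf.stalk (f.base x)) := by
      rw [TopCat.Presheaf.stalkSpecializes_refl]
      exact Ideal.comap_id _
    have heq : f.base x' = f.base x :=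
      generization_unique (f.base x) (f.base x') (f.base x) (f.base.hom.map_specializes hsp)
        (specializes_refl _) (hqm.trans hrefl.symm)
    have h0' : ringKrullDim (Y.presheaf.stalk (f.base x)) = 0 := heq ▸ h0
    have hm0' : IsLocalRing.maximalIdeal (Y.presheaf.stalk (f.base x)) = ⊥ :=
      maxIdeal_eq_bot_of_dim_zero (f.base x) h0'
    exact hne (hqm.trans hm0')
  rw [hq] at haq
  exact (Submodule.mem_bot _).mp haq

theorem flat_of_ass_dimZero [IsLocallyNoetherian X]
    (hreg : ∀ y : Y, IsRegularLocalRing (Y.presheaf.stalk y))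
    (hdim : ∀ y : Y, ringKrullDim (Y.presheaf.stalk y) ≤ 1) (f : X ⟶ Y)
    (h : ∀ x : X, IsAssociatedPrime (IsLocalRing.maximalIdeal (X.presheaf.stalk x))
      (X.presheaf.stalk x) → ringKrullDim (Y.presheaf.stalk (f.base x)) = 0) :
    Flat f := by
  rw [Flat.iff_flat_stalkMap]
  intro x
  haveI := hreg (f x)
  haveI : IsDomain (Y.presheaf.stalk (f x)) := Groth.Agent.RegularLib.isDomain _
  haveI : IsPrincipalIdealRing (Y.presheaf.stalk (f x)) := pid_of_regular _ (hdim (f x))
  refine flat_of_ass (f.stalkMap x).hom ?_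
  intro p hp a hap
  obtain ⟨x', hsp, hass, hcomap⟩ := exists_assPoint_of_mem_ass x p hp
  refine eq_zero_of_mem' hreg hdim f x x' hsp (h x' hass) a ?_
  have h8 : (f.stalkMap x).hom a ∈ Ideal.comap (X.presheaf.stalkSpecializes hsp).hom
      (IsLocalRing.maximalIdeal (X.presheaf.stalk x')) := by rw [hcomap]; exact hap
  exact h8

theorem main14415
    (C C' : Scheme.{u}) (f : C ⟶ C') [IsFinite f] [IsLocallyNoetherian C']
    (hreg : ∀ y : C', IsRegularLocalRing (C'.presheaf.stalk y))
    (hdim : ∀ y : C', ringKrullDim (C'.presheaf.stalk y) ≤ 1)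
    (hass : ∀ x : C, Curv2.IsAssPoint (Coh.structureModule C) x →
      ringKrullDim (C'.presheaf.stalk (f.base x)) = 0) :
    FlatMod.IsFinLocFree ((Coh.push f).obj (Coh.structureModule C)) := by
  haveI : IsLocallyNoetherian C := LocallyOfFiniteType.isLocallyNoetherian f
  have hfl : Flat f := flat_of_ass_dimZero hreg hdim f
    (fun x hx => hass x ((AssPtH8.isAssPoint_structureModule_iff x).mpr hx))
  have h3 : Mor2.IsFinLocFree f := ⟨inferInstance, hfl, inferInstance⟩
  exact ((FLFH8.isFinLocFree_iff f).mpr h3).2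

end scheme

end Groth.Agent.Lib.FlatDedekind3H4
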