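import Mathlib
import Groth.Agent.Lib.FlatDesc11_helper8
import Groth.Agent.Lib.LocalCrit2_helper9

/-!
# Flatness descent, part 22: fibrewise criterion of flatness modulo a locally nilpotent ideal
-/

namespace Groth.Agent.Lib.FlatDescH8

open TensorProduct

universe u

/-- **Fibrewise criterion of flatness modulo a locally nilpotent ideal.** -/
theorem flat_of_flat_of_locally_nilpotent {R S S' M : Type u} [CommRing R] [CommRing S]
    [CommRing S'] [Algebra R S] [Algebra S S'] [Algebra R S'] [IsScalarTower R S S']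
    [Algebra.FiniteType R S] [Algebra.FinitePresentation R S'] (I : Ideal R)
    (hI : ∀ a ∈ I, IsNilpotent a)
    [AddCommGroup M] [Module S' M] [Module S M] [Module R M] [IsScalarTower S S' M]
    [IsScalarTower R S M] [Module.FinitePresentation S' M] [Module.Flat R M]
    (h : Module.Flat (S ⧸ I.map (algebraMap R S)) ((S ⧸ I.map (algebraMap R S)) ⊗[S] M)) :
    Module.Flat S M := by
  classical
  haveI : Algebra.FinitePresentation S S' :=
    Algebra.FinitePresentation.of_restrict_scalars_finitePresentation R S S'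
  let ι := {I' : Ideal R // I'.FG ∧ I' ≤ I}
  haveI : Nonempty ι := ⟨⟨⊥, Submodule.fg_bot, bot_le⟩⟩
  haveI : IsDirected ι (· ≤ ·) :=
    ⟨fun a b => ⟨⟨a.1 ⊔ b.1, Submodule.FG.sup a.2.1 b.2.1, sup_le a.2.2 b.2.2⟩,
      (le_sup_left : a.1 ≤ a.1 ⊔ b.1), (le_sup_right : b.1 ≤ a.1 ⊔ b.1)⟩⟩
  let G : ι → Type u := fun i => S ⧸ i.1.map (algebraMap R S)
  letI : ∀ i, CommRing (G i) := fun i => inferInstanceAs (CommRing (S ⧸ i.1.map (algebraMap R S)))
  letI : ∀ i, Algebra S (G i) := fun i =>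
    inferInstanceAs (Algebra S (S ⧸ i.1.map (algebraMap R S)))
  have hmono : ∀ i j : ι, i ≤ j → i.1.map (algebraMap R S) ≤ j.1.map (algebraMap R S) :=
    fun i j hij => Ideal.map_mono hij
  let g : ∀ i j : ι, i ≤ j → G i →ₐ[S] G j := fun i j hij =>
    Ideal.Quotient.factorₐ S (hmono i j hij)
  letI : ∀ i : ι, Algebra (G i) (S ⧸ I.map (algebraMap R S)) := fun i =>
    (Ideal.Quotient.factor (Ideal.map_mono i.2.2 :
      i.1.map (algebraMap R S) ≤ I.map (algebraMap R S))).toAlgebra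
  haveI : ∀ i : ι, IsScalarTower S (G i) (S ⧸ I.map (algebraMap R S)) := fun i =>
    IsScalarTower.of_algebraMap_eq (fun x => rfl)
  obtain ⟨i, hi⟩ := exists_stage_flat (A₀ := S) G g (S ⧸ I.map (algebraMap R S))
    (fun i j k hij hjk => by
      ext x
      rfl)
    (fun i j hij => by
      ext x
      rfl)
    (fun a => by
      obtain ⟨s, rfl⟩ := Ideal.Quotient.mk_surjective a
      exact ⟨⟨⊥, Submodule.fg_bot, bot_le⟩, Ideal.Quotient.mk _ s, rfl⟩)
    (fun i x hx => by
      obtain ⟨s, rfl⟩ := Ideal.Quotient.mk_surjective x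
      have hs : s ∈ I.map (algebraMap R S) := by
        rw [← Ideal.Quotient.eq_zero_iff_mem]
        exact hx
      have key : ∀ s ∈ I.map (algebraMap R S), ∃ I' : Ideal R, I'.FG ∧ I' ≤ I ∧
          s ∈ I'.map (algebraMap R S) := by
        intro s hs
        refine Submodule.span_induction (p := fun s _ => ∃ I' : Ideal R, I'.FG ∧ I' ≤ I ∧
          s ∈ I'.map (algebraMap R S)) ?_ ?_ ?_ ?_ hs
        · rintro _ ⟨a, ha, rfl⟩
          refine ⟨Ideal.span {a}, ⟨{a}, by simp⟩, ?_, ?_⟩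
          · rw [Ideal.span_le]
            simpa using ha
          · exact Ideal.mem_map_of_mem _ (Ideal.subset_span (Set.mem_singleton a))
        · exact ⟨⊥, Submodule.fg_bot, bot_le, Submodule.zero_mem _⟩
        · rintro x y _ _ ⟨I₁, h1, h1', hx⟩ ⟨I₂, h2, h2', hy⟩
          refine ⟨I₁ ⊔ I₂, Submodule.FG.sup h1 h2, sup_le h1' h2', ?_⟩
          exact Ideal.add_mem _ (Ideal.map_mono le_sup_left hx) (Ideal.map_mono le_sup_right hy)
        · rintro c x _ ⟨I₁, h1, h1', hx⟩
          exact ⟨I₁, h1, h1', Ideal.mul_mem_left _ c hx⟩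
      obtain ⟨I', hfg, hle, hmem⟩ := key s hs
      refine ⟨⟨i.1 ⊔ I', Submodule.FG.sup i.2.1 hfg, sup_le i.2.2 hle⟩,
        (le_sup_left : i.1 ≤ i.1 ⊔ I'), ?_⟩
      show Ideal.Quotient.mk _ s = 0
      rw [Ideal.Quotient.eq_zero_iff_mem]
      exact Ideal.map_mono le_sup_right hmem)
    (B₀ := S') M
  have hnil : IsNilpotent i.1 := by
    rw [Ideal.FG.isNilpotent_iff_le_nilradical i.2.1]
    intro a ha
    exact mem_nilradical.mpr (hI a (i.2.2 ha))
  exact Groth.Agent.Lib.LocalCrit2.flat_of_flat_of_nilpotent i.1 hnil hi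

end Groth.Agent.Lib.FlatDescH8
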