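import Mathlib
import Groth.Prelude.Def_FlatMod2
import Groth.Agent.S7126
import Groth.Agent.Lib.WeaklyEtaleAff_lead

open AlgebraicGeometry CategoryTheory Limits TensorProduct

namespace Groth.Agent.Lib.FlatDiagMod

universe u

theorem flatVia_comp {R A B N : Type*} [CommRing R] [CommRing A] [CommRing B] [AddCommGroup N]
    [Module B N] (ρ : A →+* B) (g : R →+* A) (hg : g.Flat)
    (h : letI := Module.compHom N ρ; Module.Flat A N) :
    letI := Module.compHom N (ρ.comp g); Module.Flat R N := by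
  letI := g.toAlgebra
  letI : Module A N := Module.compHom N ρ
  letI : Module R N := Module.compHom N (ρ.comp g)
  haveI : IsScalarTower R A N := IsScalarTower.of_algebraMap_smul fun r n => rfl
  haveI : Module.Flat R A := hg
  haveI : Module.Flat A N := h
  exact Module.Flat.trans R A N

theorem diag_flat {X Y : Scheme.{u}} (f : X ⟶ Y) [Flat (pullback.diagonal f)] {U : X.Opens}
    {V : Y.Opens} (hU : IsAffineOpen U) (hV : IsAffineOpen V) (e : U ≤ f ⁻¹ᵁ V) :
    (letI := (f.appLE V U e).hom.toAlgebra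
     (Algebra.TensorProduct.lmul' Γ(Y, V) (S := Γ(X, U))).toRingHom.Flat) := by
  have h0 : (MorphismProperty.diagonal @Flat) f := ‹Flat (pullback.diagonal f)›
  have h1 : (MorphismProperty.diagonal @Flat) (f.resLE V U e) :=
    IsZariskiLocalAtSource.resLE e h0
  rw [WeaklyEtaleAff.resLE_eq f hU hV e,
    MorphismProperty.cancel_left_of_respectsIso (MorphismProperty.diagonal @Flat),
    MorphismProperty.cancel_right_of_respectsIso (MorphismProperty.diagonal @Flat)] at h1
  letI := (f.appLE V U e).hom.toAlgebra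
  change Flat (pullback.diagonal (Spec.map (f.appLE V U e))) at h1
  rw [show f.appLE V U e = CommRingCat.ofHom (algebraMap Γ(Y, V) Γ(X, U)) from rfl,
    diagonal_SpecMap Γ(Y, V) Γ(X, U),
    MorphismProperty.cancel_right_of_respectsIso @Flat,
    HasRingHomProperty.Spec_iff (P := @Flat), CommRingCat.hom_ofHom] at h1
  exact h1

theorem main {X Y : Scheme.{u}} (f : X ⟶ Y) [Flat (pullback.diagonal f)] (F : X.Modules)
    (hF : FlatMod.IsFlatOver f F) : FlatMod.IsFlat F := by
  intro x
  obtain ⟨_, ⟨V, hV, rfl⟩, hxV, -⟩ :=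
    Y.isBasis_affineOpens.exists_subset_of_mem_open (Set.mem_univ (f x)) isOpen_univ
  obtain ⟨_, ⟨U, hU, rfl⟩, hxU, hUV : U ≤ f ⁻¹ᵁ V⟩ :=
    X.isBasis_affineOpens.exists_subset_of_mem_open
      (show x ∈ ((f ⁻¹ᵁ V : X.Opens) : Set X) from hxV) (f ⁻¹ᵁ V).isOpen
  have hmul := diag_flat f hU hV hUV
  have hcat : Y.presheaf.germ V (f x) hxV ≫ f.stalkMap x =
      f.appLE V U hUV ≫ X.presheaf.germ U x hxU := by
    rw [Scheme.Hom.germ_stalkMap, Scheme.Hom.appLE, Category.assoc, TopCat.Presheaf.germ_res]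
  have hcomp : (f.stalkMap x).hom.comp (Y.presheaf.germ V (f x) hxV).hom =
      (X.presheaf.germ U x hxU).hom.comp (f.appLE V U hUV).hom := by
    rw [← CommRingCat.hom_comp, ← CommRingCat.hom_comp, hcat]
  have h1 : (letI := Module.compHom (F.presheaf.stalk x) (f.stalkMap x).hom
      Module.Flat (Y.presheaf.stalk (f x)) (F.presheaf.stalk x)) := hF x
  have hgermR : (Y.presheaf.germ V (f x) hxV).hom.Flat := by
    letI := Y.presheaf.algebra_section_stalk ⟨f x, hxV⟩
    haveI := hV.isLocalization_stalk ⟨f x, hxV⟩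
    exact IsLocalization.flat (Y.presheaf.stalk (f x))
      (hV.primeIdealOf ⟨f x, hxV⟩).asIdeal.primeCompl
  have h2 := flatVia_comp (N := F.presheaf.stalk x) (f.stalkMap x).hom
    (Y.presheaf.germ V (f x) hxV).hom hgermR h1
  rw [hcomp] at h2
  letI := (f.appLE V U hUV).hom.toAlgebra
  letI : Module Γ(X, U) (F.presheaf.stalk x) :=
    Module.compHom (F.presheaf.stalk x) (X.presheaf.germ U x hxU).hom
  letI : Module Γ(Y, V) (F.presheaf.stalk x) :=
    Module.compHom (F.presheaf.stalk x)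
      ((X.presheaf.germ U x hxU).hom.comp (f.appLE V U hUV).hom)
  haveI : IsScalarTower Γ(Y, V) Γ(X, U) (F.presheaf.stalk x) :=
    IsScalarTower.of_algebraMap_smul fun r n => rfl
  haveI : Module.Flat Γ(Y, V) (F.presheaf.stalk x) := h2
  have h3 : Module.Flat Γ(X, U) (F.presheaf.stalk x) :=
    Groth.Agent.S7126.result Γ(Y, V) Γ(X, U) hmul (F.presheaf.stalk x)
  letI := X.presheaf.algebra_section_stalk ⟨x, hxU⟩
  haveI := hU.isLocalization_stalk ⟨x, hxU⟩
  haveI : IsScalarTower Γ(X, U) (X.presheaf.stalk x) (F.presheaf.stalk x) :=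
    IsScalarTower.of_algebraMap_smul fun r n => rfl
  exact (Module.flat_iff_of_isLocalization (X.presheaf.stalk x)
    (hU.primeIdealOf ⟨x, hxU⟩).asIdeal.primeCompl (F.presheaf.stalk x)).mpr h3

end Groth.Agent.Lib.FlatDiagMod
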