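import Groth.Agent.Lib.SchFpqcCov_helper7
import Groth.Agent.Lib.GrpShear_helper7
import Groth.Prelude.Def_NonAbH2
import Mathlib.AlgebraicGeometry.Morphisms.Affine
import Mathlib.AlgebraicGeometry.Sites.Fpqc

/-! # Exactness of the cohomology sequence of an fpqc-exact sequence of group schemes at `H¹`
(torsor level, lead) -/

set_option linter.unusedSimpArgs false
set_option linter.unusedVariables false
set_option linter.unusedSectionVars false
set_option linter.style.longLine false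
set_option maxHeartbeats 800000

universe u

open CategoryTheory CategoryTheory.Limits MonoidalCategory CartesianMonoidalCategory MonObj GrpObj
  AlgebraicGeometry Opposite

namespace Groth.Agent.Lib.TorsorSeq

open SchFpqcCovH7 Groth.Agent.Lib.GrpShearH7

section general

variable {C : Type*} [Category C]

/-- A morphism which is bijective on points is an isomorphism. -/
theorem isIso_of_points {A B : C} (f : A ⟶ B)
    (h : ∀ (T : C) (b : T ⟶ B), ∃ a : T ⟶ A, a ≫ f = b ∧ ∀ a' : T ⟶ A, a' ≫ f = b → a' = a) :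
    IsIso f := by
  obtain ⟨a0, ha0, _⟩ := h B (𝟙 B)
  obtain ⟨a1, _, huniq⟩ := h A f
  refine ⟨⟨a0, ?_, ha0⟩⟩
  have h1 : (f ≫ a0) ≫ f = f := by rw [Category.assoc, ha0, Category.comp_id]
  exact (huniq _ h1).trans (huniq _ (Category.id_comp f)).symm

/-- A commutative square which is cartesian on points is cartesian. -/
theorem isPullback_of_points {P A B D : C} (p₁ : P ⟶ A) (p₂ : P ⟶ B) (f : A ⟶ D) (g : B ⟶ D)
    (w : p₁ ≫ f = p₂ ≫ g)
    (hex : ∀ (T : C) (a : T ⟶ A) (b : T ⟶ B), a ≫ f = b ≫ g →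
      ∃ p : T ⟶ P, p ≫ p₁ = a ∧ p ≫ p₂ = b)
    (huniq : ∀ (T : C) (p p' : T ⟶ P), p ≫ p₁ = p' ≫ p₁ → p ≫ p₂ = p' ≫ p₂ → p = p') :
    IsPullback p₁ p₂ f g := by
  refine ⟨⟨w⟩, ⟨PullbackCone.IsLimit.mk w
    (fun s => Classical.choose (hex s.pt s.fst s.snd s.condition))
    (fun s => (Classical.choose_spec (hex s.pt s.fst s.snd s.condition)).1)
    (fun s => (Classical.choose_spec (hex s.pt s.fst s.snd s.condition)).2)
    (fun s m hm₁ hm₂ => ?_)⟩⟩
  have hz := Classical.choose_spec (hex s.pt s.fst s.snd s.condition)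
  exact huniq _ _ _ (hm₁.trans hz.1.symm) (hm₂.trans hz.2.symm)

variable [CartesianMonoidalCategory C]

section dif

variable {G X : C} (act : G ⊗ X ⟶ X) [IsIso (lift act (snd G X))]

/-- For a pseudo-torsor: the unique `g` with `g • p₂ = p₁`. -/
noncomputable def dif {T : C} (p₁ p₂ : T ⟶ X) : T ⟶ G :=
  lift p₁ p₂ ≫ inv (lift act (snd G X)) ≫ fst G X

theorem dif_spec {T : C} (p₁ p₂ : T ⟶ X) : lift (dif act p₁ p₂) p₂ ≫ act = p₁ := by
  have hm : (lift p₁ p₂ ≫ inv (lift act (snd G X))) ≫ lift act (snd G X) = lift p₁ p₂ := by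
    rw [Category.assoc, IsIso.inv_hom_id, Category.comp_id]
  have h1 : (lift p₁ p₂ ≫ inv (lift act (snd G X))) ≫ act = p₁ := by
    have := congrArg (fun k => k ≫ fst X X) hm
    simpa only [Category.assoc, lift_fst] using this
  have h2 : (lift p₁ p₂ ≫ inv (lift act (snd G X))) ≫ snd G X = p₂ := by
    have := congrArg (fun k => k ≫ snd X X) hm
    simpa only [Category.assoc, lift_snd] using this
  have h3 : lift (dif act p₁ p₂) p₂ = lift p₁ p₂ ≫ inv (lift act (snd G X)) := by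
    apply CartesianMonoidalCategory.hom_ext
    · rw [lift_fst]
      unfold dif
      rw [Category.assoc]
    · rw [lift_snd, h2]
  rw [h3, h1]

theorem dif_unique {T : C} (p₁ p₂ : T ⟶ X) (g : T ⟶ G) (hg : lift g p₂ ≫ act = p₁) :
    g = dif act p₁ p₂ := by
  unfold dif
  have h : lift g p₂ ≫ lift act (snd G X) = lift p₁ p₂ := by
    apply CartesianMonoidalCategory.hom_ext
    · rw [Category.assoc, lift_fst, lift_fst, hg]
    · rw [Category.assoc, lift_snd, lift_snd, lift_snd]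
  rw [← h, Category.assoc, IsIso.hom_inv_id_assoc, lift_fst]

theorem comp_dif {T T' : C} (τ : T' ⟶ T) (p₁ p₂ : T ⟶ X) :
    τ ≫ dif act p₁ p₂ = dif act (τ ≫ p₁) (τ ≫ p₂) := by
  unfold dif
  rw [← Category.assoc, comp_lift]

theorem act_cancel {T : C} (g g' : T ⟶ G) (p : T ⟶ X)
    (h : lift g p ≫ act = lift g' p ≫ act) : g = g' :=
  (dif_unique act _ p g h).trans (dif_unique act _ p g' rfl).symm

end dif

section exact

variable {G G' G'' : C} [GrpObj G] [GrpObj G'] [GrpObj G''] (u : G' ⟶ G) (v : G ⟶ G'')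

theorem key_mul {T : C} (m : T ⟶ G ⊗ G') :
    m ≫ (G ◁ u) ≫ μ[G] = (m ≫ fst G G') * (m ≫ snd G G' ≫ u) := by
  rw [Hom.mul_def, ← Category.assoc]
  congr 1
  apply CartesianMonoidalCategory.hom_ext <;> simp

variable (hpb : IsPullback (fst G G') ((G ◁ u) ≫ μ[G]) v v)
include hpb

theorem exists_of_eq_v {T : C} (g₁ g₂ : T ⟶ G) (h : g₁ ≫ v = g₂ ≫ v) :
    ∃ g' : T ⟶ G', g₂ = g₁ * (g' ≫ u) := by
  refine ⟨hpb.lift g₁ g₂ h ≫ snd G G', ?_⟩
  have h1 := hpb.lift_fst g₁ g₂ h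
  have h2 := hpb.lift_snd g₁ g₂ h
  rw [key_mul, h1] at h2
  rw [Category.assoc]
  exact h2.symm

theorem u_cancel {T : C} (a b : T ⟶ G') (h : a ≫ u = b ≫ u) : a = b := by
  have e : lift (1 : T ⟶ G) a = lift 1 b := by
    apply hpb.hom_ext
    · rw [lift_fst, lift_fst]
    · rw [key_mul, key_mul, lift_fst, lift_fst, lift_snd_assoc, lift_snd_assoc, h]
  have := congrArg (fun k => k ≫ snd G G') e
  simpa only [lift_snd] using this

end exact

end general

variable {S : Scheme.{u}}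

theorem act_mul' {G X : Over S} [GrpObj G] (a : AlgGrp.Action G X) {T : Over S} (g h : T ⟶ G)
    (x : T ⟶ X) : lift (g * h) x ≫ a.act = lift g (lift h x ≫ a.act) ≫ a.act :=
  act_mul a.act a.mul_act g h x

theorem act_one' {G X : Over S} [GrpObj G] (a : AlgGrp.Action G X) {T : Over S} (x : T ⟶ X) :
    lift (1 : T ⟶ G) x ≫ a.act = x :=
  act_one a.act a.one_act x

theorem dif_act_left {G X : Over S} [GrpObj G] (a : AlgGrp.Action G X)
    [IsIso (lift a.act (snd G X))] {T : Over S} (g : T ⟶ G) (p p0 : T ⟶ X) :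
    dif a.act (lift g p ≫ a.act) p0 = g * dif a.act p p0 := by
  symm
  apply dif_unique
  rw [act_mul' a, dif_spec]

/-- An action from its pointwise axioms. -/
noncomputable def actionOfPointwise {G X : Over S} [GrpObj G] (act : G ⊗ X ⟶ X)
    (h1 : ∀ (T : Over S) (x : T ⟶ X), lift (1 : T ⟶ G) x ≫ act = x)
    (h2 : ∀ (T : Over S) (g h : T ⟶ G) (x : T ⟶ X),
      lift (g * h) x ≫ act = lift g (lift h x ≫ act) ≫ act) : AlgGrp.Action G X where
  act := act
  one_act := by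
    have e : η[G] ▷ X = lift (1 : 𝟙_ (Over S) ⊗ X ⟶ G) (snd _ X) := by
      apply CartesianMonoidalCategory.hom_ext
      · rw [lift_fst, whiskerRight_fst]
        have e' : fst (𝟙_ (Over S)) X = toUnit _ := toUnit_unique _ _
        rw [e', Hom.one_def]
      · rw [lift_snd, whiskerRight_snd]
    rw [e, h1, leftUnitor_hom]
  mul_act := by
    have e : μ[G] ▷ X =
        lift ((fst (G ⊗ G) X ≫ fst G G) * (fst (G ⊗ G) X ≫ snd G G)) (snd _ X) := by
      apply CartesianMonoidalCategory.hom_ext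
      · rw [lift_fst, whiskerRight_fst, Hom.mul_def, ← comp_lift, lift_fst_snd, Category.comp_id]
      · rw [lift_snd, whiskerRight_snd]
    have e3 : (α_ G G X).hom ≫ snd G (G ⊗ X) = lift (fst (G ⊗ G) X ≫ snd G G) (snd _ X) := by
      apply CartesianMonoidalCategory.hom_ext
      · rw [Category.assoc, associator_hom_snd_fst, lift_fst]
      · rw [Category.assoc, associator_hom_snd_snd, lift_snd]
    have e2 : (α_ G G X).hom ≫ (G ◁ act) =
        lift (fst (G ⊗ G) X ≫ fst G G) (lift (fst (G ⊗ G) X ≫ snd G G) (snd _ X) ≫ act) := by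
      apply CartesianMonoidalCategory.hom_ext
      · rw [Category.assoc, whiskerLeft_fst, associator_hom_fst, lift_fst]
      · rw [Category.assoc, whiskerLeft_snd, ← Category.assoc, e3, lift_snd]
    rw [e, h2, ← Category.assoc, e2]

theorem isCov_of_locallyTrivial (X : Over S)
    (h : NonAbH1.IsLocallyTrivialFor Scheme.fpqcPrecoverage X) : IsCov X.hom := by
  obtain ⟨R, hR, hs⟩ := h
  unfold IsCov
  have h1 : Sieve.generate R ∈ Scheme.fpqcTopology S :=
    Precoverage.generate_mem_toGrothendieck hR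
  apply GrothendieckTopology.superset_covering _ _ h1
  rw [Sieve.generate_le_iff]
  intro S' f hf
  obtain ⟨s, hs'⟩ := hs f hf
  exact ⟨X.left, s, X.hom, Presieve.singleton.mk, hs'⟩

theorem isCov_snd (A T : Over S) (hA : IsCov A.hom) : IsCov (snd A T).left :=
  IsCov.of_isPullback (IsPullback.of_hasPullback A.hom T.hom) hA

theorem isCov_fst (A B : Over S) (hB : IsCov B.hom) : IsCov (fst A B).left :=
  IsCov.of_isPullback (IsPullback.of_hasPullback A.hom B.hom).flip hB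

theorem hasSectionOver_of_hom (X : Over S) {S' : Scheme.{u}} (f : S' ⟶ S) (q : Over.mk f ⟶ X) :
    NonAbH1.HasSectionOver X f := ⟨q.left, Over.w q⟩

/-- Exactness at `H¹(S, G')`. -/
theorem torsor_boundary {G G' G'' : Over S} [GrpObj G] [GrpObj G'] [GrpObj G'']
    (u : G' ⟶ G) (v : G ⟶ G'') (hex : NonAbH1.IsExactSeq Scheme.fpqcPrecoverage u v)
    (Q : NonAbH1.TorsorSch G' Scheme.fpqcPrecoverage) :
    NonAbH1.IsPushforwardAlongSch u Q.act (NonAbH1.trivialAction G) ↔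
      ∃ (f : 𝟙_ (Over S) ⟶ G'') (i : Q.X ⟶ G), NonAbH1.IsPullbackTorsor u v f i Q.act := by
  obtain ⟨hu, hv, huv, hpb, hloc⟩ := hex
  haveI := hu
  haveI := hv
  obtain ⟨hps, hQloc⟩ := Q.isTorsor
  haveI : IsIso (lift Q.act.act (snd G' Q.X)) := hps
  constructor
  · rintro ⟨j, hj⟩
    have hjp : ∀ {T : Over S} (g' : T ⟶ G') (q : T ⟶ Q.X),
        (lift g' q ≫ Q.act.act) ≫ j = (g' ≫ u) * (q ≫ j) := by
      intro T g' q
      rw [Category.assoc, hj]
      show lift g' q ≫ lift (fst G' Q.X ≫ u) (snd G' Q.X ≫ j) ≫ μ[G] = _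
      rw [← Category.assoc, comp_lift, lift_fst_assoc, lift_snd_assoc, ← Hom.mul_def]
    have hip : ∀ {T : Over S} (g' : T ⟶ G') (q : T ⟶ Q.X),
        (lift g' q ≫ Q.act.act) ≫ j⁻¹ = (q ≫ j⁻¹) * (g' ≫ u)⁻¹ := by
      intro T g' q
      rw [GrpObj.comp_inv, GrpObj.comp_inv, hjp, _root_.mul_inv_rev]
    have hQcov : IsCov Q.X.hom := isCov_of_locallyTrivial _ hQloc
    -- the section `f`
    obtain ⟨f, hf⟩ := desc_of_isCov (toUnit Q.X) hQcov (j⁻¹ ≫ v) (by
      intro T q₁ q₂ _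
      have h1 := dif_spec Q.act.act q₁ q₂
      have h2 : q₁ ≫ j⁻¹ = (q₂ ≫ j⁻¹) * (dif Q.act.act q₁ q₂ ≫ u)⁻¹ :=
        (congrArg (fun k => k ≫ j⁻¹) h1).symm.trans (hip _ _)
      have h3 : (dif Q.act.act q₁ q₂ ≫ u)⁻¹ ≫ v = 1 := by
        rw [GrpObj.inv_comp, Category.assoc, huv, MonObj.comp_one, inv_one]
      calc q₁ ≫ j⁻¹ ≫ v = (q₁ ≫ j⁻¹) ≫ v := (Category.assoc _ _ _).symm
        _ = ((q₂ ≫ j⁻¹) * (dif Q.act.act q₁ q₂ ≫ u)⁻¹) ≫ v := by rw [h2]
        _ = ((q₂ ≫ j⁻¹) ≫ v) * ((dif Q.act.act q₁ q₂ ≫ u)⁻¹ ≫ v) := MonObj.mul_comp _ _ _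
        _ = (q₂ ≫ j⁻¹) ≫ v := by rw [h3, _root_.mul_one]
        _ = q₂ ≫ j⁻¹ ≫ v := Category.assoc _ _ _)
    have huniq : ∀ {T : Over S} (q q' : T ⟶ Q.X), q ≫ j⁻¹ = q' ≫ j⁻¹ → q = q' := by
      intro T q q' h
      have h1 := dif_spec Q.act.act q' q
      have h2 : q' ≫ j⁻¹ = (q ≫ j⁻¹) * (dif Q.act.act q' q ≫ u)⁻¹ :=
        (congrArg (fun k => k ≫ j⁻¹) h1).symm.trans (hip _ _)
      rw [← h] at h2
      have h4 : (q ≫ j⁻¹) * 1 = (q ≫ j⁻¹) * (dif Q.act.act q' q ≫ u)⁻¹ := by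
        rw [_root_.mul_one]
        exact h2
      have h3 : (dif Q.act.act q' q ≫ u)⁻¹ = 1 := (mul_left_cancel h4).symm
      have h5 : dif Q.act.act q' q = 1 :=
        u_cancel u v hpb _ _ (by rw [inv_eq_one.mp h3, MonObj.one_comp])
      rw [h5, act_one' Q.act] at h1
      exact h1
    have hexi : ∀ {T : Over S} (g : T ⟶ G), g ≫ v = toUnit T ≫ f →
        ∃ q : T ⟶ Q.X, q ≫ j⁻¹ = g := by
      intro T g hg
      have hc : IsCov (snd Q.X T).left := isCov_snd Q.X T hQcov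
      have e1 : (snd Q.X T ≫ g) ≫ v = (fst Q.X T ≫ j⁻¹) ≫ v := by
        calc (snd Q.X T ≫ g) ≫ v = snd Q.X T ≫ toUnit T ≫ f := by rw [Category.assoc, hg]
          _ = toUnit (Q.X ⊗ T) ≫ f := by
            rw [← Category.assoc]
            exact congrArg (fun k => k ≫ f) (toUnit_unique _ _)
          _ = fst Q.X T ≫ toUnit Q.X ≫ f := by
            rw [← Category.assoc]
            exact congrArg (fun k => k ≫ f) (toUnit_unique _ _)
          _ = (fst Q.X T ≫ j⁻¹) ≫ v := by rw [hf, Category.assoc]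
      obtain ⟨g', hg'⟩ := exists_of_eq_v u v hpb (snd Q.X T ≫ g) (fst Q.X T ≫ j⁻¹) e1
      have e2 : (lift g' (fst Q.X T) ≫ Q.act.act) ≫ j⁻¹ = snd Q.X T ≫ g := by
        rw [hip, hg', mul_inv_cancel_right]
      have e3 : ∀ {T' : Over S} (a : T' ⟶ Q.X ⊗ T),
          (a ≫ lift g' (fst Q.X T) ≫ Q.act.act) ≫ j⁻¹ = a ≫ snd Q.X T ≫ g := fun a =>
        (Category.assoc a (lift g' (fst Q.X T) ≫ Q.act.act) j⁻¹).trans
          (congrArg (fun k => a ≫ k) e2)
      obtain ⟨q, hq⟩ := desc_of_isCov (snd Q.X T) hc (lift g' (fst Q.X T) ≫ Q.act.act) (by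
        intro T' a₁ a₂ ha
        apply huniq
        rw [e3 a₁, e3 a₂, ← Category.assoc, ha, Category.assoc])
      refine ⟨q, ?_⟩
      haveI := epi_of_isCov (snd Q.X T) hc
      rw [← cancel_epi (snd Q.X T), ← Category.assoc, hq, e2]
    refine ⟨f, j⁻¹, hu, hv, ?_, fun T g' p => ?_⟩
    · refine isPullback_of_points _ _ _ _ hf.symm ?_ ?_
      · intro T a b hab
        obtain ⟨q, hq⟩ := hexi a
          (hab.trans (congrArg (fun k => k ≫ f) (toUnit_unique b (toUnit T))))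
        exact ⟨q, hq, toUnit_unique _ _⟩
      · intro T p p' h _
        exact huniq p p' h
    · rw [← Category.assoc]
      exact hip g' p
  · rintro ⟨f, i, _, _, hpbi, hi⟩
    refine ⟨i⁻¹, ?_⟩
    show Q.act.act ≫ i⁻¹ = lift (fst G' Q.X ≫ u) (snd G' Q.X ≫ i⁻¹) ≫ μ[G]
    have h1 := hi (G' ⊗ Q.X) (fst G' Q.X) (snd G' Q.X)
    rw [lift_fst_snd, Category.id_comp] at h1
    rw [← Hom.mul_def, GrpObj.comp_inv, h1, _root_.mul_inv_rev, _root_.inv_inv, GrpObj.comp_inv]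

/-- The sub-torsor `φ⁻¹(1)` of a `G`-torsor with a `v`-equivariant map to `G''`. -/
theorem exists_sub_torsor {G G' G'' : Over S} [GrpObj G] [GrpObj G'] [GrpObj G'']
    (u : G' ⟶ G) (v : G ⟶ G'') [IsMonHom u] [IsMonHom v] (huv : u ≫ v = 1)
    (hpb : IsPullback (fst G G') ((G ◁ u) ≫ μ[G]) v v)
    (hloc : NonAbH1.IsLocallyTrivialFor Scheme.fpqcPrecoverage (Over.mk v.left : Over G''.left))
    (P : NonAbH1.TorsorSch G Scheme.fpqcPrecoverage) (φ : P.X ⟶ G'')
    (hφ : P.act.act ≫ φ =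
      lift (fst G P.X ≫ v) (snd G P.X ≫ φ) ≫ (NonAbH1.trivialAction G'').act) :
    ∃ Q : NonAbH1.TorsorSch G' Scheme.fpqcPrecoverage,
      NonAbH1.IsPushforwardAlongSch u Q.act P.act := by
  obtain ⟨hps, hPloc⟩ := P.isTorsor
  haveI : IsIso (lift P.act.act (snd G P.X)) := hps
  have hφp : ∀ {T : Over S} (g : T ⟶ G) (p : T ⟶ P.X),
      (lift g p ≫ P.act.act) ≫ φ = (g ≫ v) * (p ≫ φ) := by
    intro T g p
    rw [Category.assoc, hφ]
    show lift g p ≫ lift (fst G P.X ≫ v) (snd G P.X ≫ φ) ≫ μ[G''] = _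
    rw [← Category.assoc, comp_lift, lift_fst_assoc, lift_snd_assoc, ← Hom.mul_def]
  obtain ⟨K, h, hcond, K_ext, K_lift⟩ : ∃ (K : Over S) (h : K ⟶ P.X), h ≫ φ = 1 ∧
      (∀ (T : Over S) (q q' : T ⟶ K), q ≫ h = q' ≫ h → q = q') ∧
      (∀ (T : Over S) (p : T ⟶ P.X), p ≫ φ = 1 → ∃ q : T ⟶ K, q ≫ h = p) := by
    refine ⟨pullback φ η[G''], pullback.fst φ η[G''], ?_, ?_, ?_⟩
    · rw [Hom.one_def]
      refine (pullback.condition (f := φ) (g := η[G''])).trans ?_
      congr 1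
      exact toUnit_unique _ _
    · intro T q q' hq
      exact pullback.hom_ext hq (toUnit_unique _ _)
    · intro T p hp
      exact ⟨pullback.lift p (toUnit T) (by rw [hp, Hom.one_def]), pullback.lift_fst _ _ _⟩
  have hqφ : ∀ {T : Over S} (q : T ⟶ K), (q ≫ h) ≫ φ = 1 := by
    intro T q
    rw [Category.assoc, hcond, MonObj.comp_one]
  obtain ⟨actK, hact⟩ := K_lift (G' ⊗ K) (lift (fst G' K ≫ u) (snd G' K ≫ h) ≫ P.act.act) (by
    rw [hφp, Category.assoc, huv, MonObj.comp_one, hqφ, _root_.mul_one])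
  have hactp : ∀ {T : Over S} (g' : T ⟶ G') (q : T ⟶ K),
      (lift g' q ≫ actK) ≫ h = lift (g' ≫ u) (q ≫ h) ≫ P.act.act := by
    intro T g' q
    rw [Category.assoc, hact, ← Category.assoc, comp_lift, lift_fst_assoc, lift_snd_assoc]
  obtain ⟨aK, haK⟩ : ∃ aK : AlgGrp.Action G' K, aK.act = actK :=
    ⟨actionOfPointwise actK
      (by
        intro T x
        apply K_ext
        rw [hactp, MonObj.one_comp, act_one' P.act])
      (by
        intro T g g₂ x
        apply K_ext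
        rw [hactp, MonObj.mul_comp, act_mul' P.act, hactp, hactp]), rfl⟩
  have hpsK : NonAbH1.IsPseudoTorsorSch aK := by
    unfold NonAbH1.IsPseudoTorsorSch
    rw [haK]
    apply isIso_of_points
    intro T b
    have hg : dif P.act.act ((b ≫ fst K K) ≫ h) ((b ≫ snd K K) ≫ h) ≫ v = 1 := by
      have h1 := dif_spec P.act.act ((b ≫ fst K K) ≫ h) ((b ≫ snd K K) ≫ h)
      have h2 : (lift (dif P.act.act ((b ≫ fst K K) ≫ h) ((b ≫ snd K K) ≫ h))
          ((b ≫ snd K K) ≫ h) ≫ P.act.act) ≫ φ = ((b ≫ fst K K) ≫ h) ≫ φ := by rw [h1]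
      rw [hφp, hqφ, hqφ, _root_.mul_one] at h2
      exact h2
    obtain ⟨g', hg'⟩ := exists_of_eq_v u v hpb 1
      (dif P.act.act ((b ≫ fst K K) ≫ h) ((b ≫ snd K K) ≫ h))
      (by rw [MonObj.one_comp, hg])
    rw [_root_.one_mul] at hg'
    have hq1 : lift g' (b ≫ snd K K) ≫ actK = b ≫ fst K K := by
      apply K_ext
      rw [hactp, ← hg', dif_spec]
    refine ⟨lift g' (b ≫ snd K K), ?_, ?_⟩
    · rw [comp_lift, hq1, lift_snd, lift_comp_fst_snd]
    · intro a' ha'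
      have h1 : a' ≫ snd G' K = b ≫ snd K K := by
        have := congrArg (fun k => k ≫ snd K K) ha'
        simpa only [Category.assoc, lift_snd] using this
      have h2 : a' ≫ actK = b ≫ fst K K := by
        have := congrArg (fun k => k ≫ fst K K) ha'
        simpa only [Category.assoc, lift_fst] using this
      have h3 : a' = lift (a' ≫ fst G' K) (b ≫ snd K K) := by
        rw [← h1, lift_comp_fst_snd]
      have h4 : (a' ≫ fst G' K) ≫ u = g' ≫ u := by
        apply act_cancel P.act.act _ _ ((b ≫ snd K K) ≫ h)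
        rw [← hactp, ← hactp, hq1, ← h3, h2]
      rw [h3, u_cancel u v hpb _ _ h4]
  have hKloc : NonAbH1.IsLocallyTrivialFor Scheme.fpqcPrecoverage K := by
    obtain ⟨RP, hRP, hsP⟩ := hPloc
    obtain ⟨Rv, hRv, hsv⟩ := hloc
    obtain ⟨I₀, Z, fα, rfl⟩ := RP.exists_eq_ofArrows
    obtain ⟨κ, W, w, rfl⟩ := Rv.exists_eq_ofArrows
    have hsP' : ∀ i : I₀, ∃ s : Z i ⟶ P.X.left, s ≫ P.X.hom = fα i := fun i => hsP (fα i) ⟨i⟩
    choose pα hpα using hsP'
    have hsv' : ∀ k : κ, ∃ s : W k ⟶ G.left, s ≫ v.left = w k := fun k => hsv (w k) ⟨k⟩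
    choose sw hsw using hsv'
    refine ⟨Presieve.ofArrows (fun p : Σ _ : I₀, κ => pullback (w p.2) (pα p.1 ≫ φ.left))
      (fun p => pullback.snd (w p.2) (pα p.1 ≫ φ.left) ≫ fα p.1), ?_, ?_⟩
    · exact Precoverage.comp_mem_coverings (J := Scheme.fpqcPrecoverage) fα hRP
        (σ := fun _ => κ) (Y := fun i k => pullback (w k) (pα i ≫ φ.left))
        (fun i k => pullback.snd (w k) (pα i ≫ φ.left))
        (fun i => Precoverage.mem_coverings_of_isPullback w hRv (pα i ≫ φ.left)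
          (fun k => pullback.snd (w k) (pα i ≫ φ.left))
          (fun k => pullback.fst (w k) (pα i ≫ φ.left))
          (fun k => (IsPullback.of_hasPullback (w k) (pα i ≫ φ.left)).flip))
    · rintro S' f ⟨⟨i, k⟩⟩
      have hcond' : pullback.fst (w k) (pα i ≫ φ.left) ≫ w k =
          pullback.snd (w k) (pα i ≫ φ.left) ≫ pα i ≫ φ.left := pullback.condition
      have hp : (pullback.snd (w k) (pα i ≫ φ.left) ≫ pα i) ≫ P.X.hom =
          pullback.snd (w k) (pα i ≫ φ.left) ≫ fα i := by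
        rw [Category.assoc, hpα]
      have hgw : (pullback.fst (w k) (pα i ≫ φ.left) ≫ sw k) ≫ G.hom =
          pullback.snd (w k) (pα i ≫ φ.left) ≫ fα i := by
        rw [← Over.w v, Category.assoc, ← Category.assoc (sw k), hsw, ← Category.assoc, hcond',
          Category.assoc, Category.assoc, Over.w φ, hpα]
      let TY : Over S := Over.mk (pullback.snd (w k) (pα i ≫ φ.left) ≫ fα i)
      let p : TY ⟶ P.X := Over.homMk (pullback.snd (w k) (pα i ≫ φ.left) ≫ pα i) hp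
      let g : TY ⟶ G := Over.homMk (pullback.fst (w k) (pα i ≫ φ.left) ≫ sw k) hgw
      have hgv : g ≫ v = p ≫ φ := by
        apply Over.OverMorphism.ext
        show (pullback.fst (w k) (pα i ≫ φ.left) ≫ sw k) ≫ v.left =
          (pullback.snd (w k) (pα i ≫ φ.left) ≫ pα i) ≫ φ.left
        rw [Category.assoc, hsw, hcond', Category.assoc]
      obtain ⟨q, _⟩ := K_lift TY (lift g⁻¹ p ≫ P.act.act) (by
        rw [hφp, GrpObj.inv_comp, hgv, inv_mul_cancel])
      exact hasSectionOver_of_hom K _ q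
  refine ⟨⟨K, aK, hpsK, hKloc⟩, h, ?_⟩
  show aK.act ≫ h = lift (fst G' K ≫ u) (snd G' K ≫ h) ≫ P.act.act
  rw [haK]
  exact hact

/-- Exactness at `H¹(S, G)`. -/
theorem torsor_from_sub {G G' G'' : Over S} [GrpObj G] [GrpObj G'] [GrpObj G'']
    (u : G' ⟶ G) (v : G ⟶ G'') (hex : NonAbH1.IsExactSeq Scheme.fpqcPrecoverage u v)
    (P : NonAbH1.TorsorSch G Scheme.fpqcPrecoverage) :
    NonAbH1.IsPushforwardAlongSch v P.act (NonAbH1.trivialAction G'') ↔
      ∃ Q : NonAbH1.TorsorSch G' Scheme.fpqcPrecoverage,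
        NonAbH1.IsPushforwardAlongSch u Q.act P.act := by
  obtain ⟨hu, hv, huv, hpb, hloc⟩ := hex
  haveI := hu
  haveI := hv
  obtain ⟨hps, hPloc⟩ := P.isTorsor
  haveI : IsIso (lift P.act.act (snd G P.X)) := hps
  constructor
  · rintro ⟨φ, hφ⟩
    exact exists_sub_torsor u v huv hpb hloc P φ hφ
  · rintro ⟨Q, h, hh⟩
    obtain ⟨hpsQ, hQloc⟩ := Q.isTorsor
    haveI : IsIso (lift Q.act.act (snd G' Q.X)) := hpsQ
    have hQcov : IsCov Q.X.hom := isCov_of_locallyTrivial _ hQloc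
    have hhp : ∀ {T : Over S} (g' : T ⟶ G') (q : T ⟶ Q.X),
        (lift g' q ≫ Q.act.act) ≫ h = lift (g' ≫ u) (q ≫ h) ≫ P.act.act := by
      intro T g' q
      rw [Category.assoc, hh, ← Category.assoc, comp_lift, lift_fst_assoc, lift_snd_assoc]
    have hchange : ∀ {T : Over S} (p : T ⟶ P.X) (q₁ q₂ : T ⟶ Q.X),
        dif P.act.act p (q₂ ≫ h) = dif P.act.act p (q₁ ≫ h) * (dif Q.act.act q₁ q₂ ≫ u) := by
      intro T p q₁ q₂
      symm
      apply dif_unique
      rw [act_mul' P.act, ← hhp, dif_spec, dif_spec]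
    have hc : IsCov (fst P.X Q.X).left := isCov_fst P.X Q.X hQcov
    have hpt : ∀ {T : Over S} (a : T ⟶ P.X ⊗ Q.X),
        a ≫ dif P.act.act (fst P.X Q.X) (snd P.X Q.X ≫ h) ≫ v =
          dif P.act.act (a ≫ fst P.X Q.X) ((a ≫ snd P.X Q.X) ≫ h) ≫ v := by
      intro T a
      rw [← Category.assoc, comp_dif, Category.assoc]
    obtain ⟨φ, hφ⟩ := desc_of_isCov (fst P.X Q.X) hc
      (dif P.act.act (fst P.X Q.X) (snd P.X Q.X ≫ h) ≫ v) (by
        intro T a₁ a₂ ha
        rw [hpt, hpt, ← ha,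
          hchange (a₁ ≫ fst P.X Q.X) (a₁ ≫ snd P.X Q.X) (a₂ ≫ snd P.X Q.X),
          MonObj.mul_comp, Category.assoc (dif Q.act.act _ _) u v, huv, MonObj.comp_one,
          _root_.mul_one])
    have hφp : ∀ {T : Over S} (p : T ⟶ P.X) (q : T ⟶ Q.X),
        p ≫ φ = dif P.act.act p (q ≫ h) ≫ v := by
      intro T p q
      have h1 : lift p q ≫ fst P.X Q.X ≫ φ =
          lift p q ≫ dif P.act.act (fst P.X Q.X) (snd P.X Q.X ≫ h) ≫ v := by rw [hφ]
      rw [lift_fst_assoc, hpt, lift_fst, lift_snd] at h1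
      exact h1
    refine ⟨φ, ?_⟩
    show P.act.act ≫ φ = lift (fst G P.X ≫ v) (snd G P.X ≫ φ) ≫ μ[G'']
    have hc2 : IsCov (G ◁ fst P.X Q.X).left := isCov_whiskerLeft G (fst P.X Q.X) hc
    haveI := epi_of_isCov _ hc2
    rw [← cancel_epi (G ◁ fst P.X Q.X)]
    have e0 : G ◁ fst P.X Q.X =
        lift (fst G (P.X ⊗ Q.X)) (snd G (P.X ⊗ Q.X) ≫ fst P.X Q.X) := by
      apply CartesianMonoidalCategory.hom_ext
      · rw [whiskerLeft_fst, lift_fst]
      · rw [whiskerLeft_snd, lift_snd]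
    rw [e0, ← Category.assoc, hφp _ (snd G (P.X ⊗ Q.X) ≫ snd P.X Q.X), dif_act_left P.act,
      MonObj.mul_comp, ← hφp, ← Category.assoc, comp_lift, lift_fst_assoc, lift_snd_assoc,
      ← Hom.mul_def]

end Groth.Agent.Lib.TorsorSeq
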