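import Groth.Agent.Lib.QuotEff_lead
import Groth.Agent.Lib.TorsorSeq_lead
import Groth.Prelude.Def_AlgSt5
import Groth.Prelude.Def_AlgGrp

/-! # Faithfully flat homomorphisms = fppf-epimorphisms with flat kernel (lead) -/

set_option backward.isDefEq.respectTransparency false
set_option backward.isDefEq.respectTransparency.types false
set_option linter.unusedSimpArgs false
set_option linter.unusedVariables false
set_option linter.unusedSectionVars false
set_option linter.style.longLine false
set_option maxHeartbeats 800000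

universe u

open CategoryTheory CategoryTheory.Limits MonoidalCategory CartesianMonoidalCategory MonObj GrpObj
  AlgebraicGeometry Opposite

namespace Groth.Agent.Lib.FlatEpi

open AlgSp Groth.Agent.Lib.AlgSpQuotEffH7 Groth.Agent.Lib.QuotSec Groth.Agent.Lib.QuotEff

variable {S : Scheme.{u}}

theorem locallyOfFinitePresentation_of_comp {X Y Z : Scheme.{u}} (f : X ⟶ Y) (g : Y ⟶ Z)
    [LocallyOfFinitePresentation (f ≫ g)] [LocallyOfFiniteType g] :
    LocallyOfFinitePresentation f := by
  rw [HasRingHomProperty.iff_exists_appLE (P := @LocallyOfFinitePresentation)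
    (RingHom.finitePresentation_stableUnderComposition.stableUnderCompositionWithLocalizationAway
      RingHom.finitePresentation_holdsForLocalizationAway).left]
  intro x
  obtain ⟨W, hW, hw, -⟩ := TopologicalSpace.Opens.isBasis_iff_nbhd.mp Z.isBasis_affineOpens
    (TopologicalSpace.Opens.mem_top (g (f x)))
  obtain ⟨V, hV, hv, eV⟩ := TopologicalSpace.Opens.isBasis_iff_nbhd.mp Y.isBasis_affineOpens
    (show f x ∈ g ⁻¹ᵁ W from hw)
  obtain ⟨U, hU, hu, eU⟩ := TopologicalSpace.Opens.isBasis_iff_nbhd.mp X.isBasis_affineOpens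
    (show x ∈ f ⁻¹ᵁ V from hv)
  replace hW : IsAffineOpen W := hW
  replace hV : IsAffineOpen V := hV
  replace hU : IsAffineOpen U := hU
  refine ⟨⟨V, hV⟩, ⟨U, hU⟩, hu, eU, ?_⟩
  have h1 : (g.appLE W V eV ≫ f.appLE V U eU).hom.FinitePresentation := by
    rw [Scheme.Hom.appLE_comp_appLE]
    exact HasRingHomProperty.appLE (P := @LocallyOfFinitePresentation) (f ≫ g) inferInstance
      ⟨W, hW⟩ ⟨U, hU⟩ _
  have h2 : (g.appLE W V eV).hom.FiniteType :=
    HasRingHomProperty.appLE (P := @LocallyOfFiniteType) g inferInstance ⟨W, hW⟩ ⟨V, hV⟩ eV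
  exact RingHom.FinitePresentation.of_comp_finiteType _ h1 h2


theorem exists_cover_of_epi {U Y : Over S} (q : U ⟶ Y) [Epi ((yon S).map q)] :
    ∃ (Y' : Scheme.{u}) (F : Y' ⟶ Y.left) (L : Y' ⟶ U.left), Flat F ∧ Surjective F ∧
      LocallyOfFinitePresentation F ∧ L ≫ q.left = F := by
  haveI hLS : Sheaf.IsLocallySurjective ((yon S).map q) :=
    (Sheaf.isLocallySurjective_iff_epi _).2 inferInstance
  have hmem := Presheaf.imageSieve_mem (J S) ((yon S).map q).hom (U := op Y)
    (ULift.up (𝟙 Y) : ULift.{u + 1} (Y ⟶ Y))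
  rw [GrothendieckTopology.mem_over_iff] at hmem
  haveI : Scheme.fppfPrecoverage.{u}.HasIsos := by
    have h1 : (@Flat ⊓ @LocallyOfFinitePresentation :
        MorphismProperty Scheme.{u}).ContainsIdentities :=
      ⟨fun X => ⟨inferInstance, inferInstance⟩⟩
    have h2 : (@Flat ⊓ @LocallyOfFinitePresentation : MorphismProperty Scheme.{u}).RespectsIso :=
      MorphismProperty.RespectsIso.inf _ _
    unfold Scheme.fppfPrecoverage
    infer_instance
  obtain ⟨Rc, hRc, hle⟩ :=
    Precoverage.mem_toGrothendieck_iff_of_isStableUnderComposition.1 hmem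
  have hRc' : Rc ∈ Scheme.precoverage (@Flat ⊓ @LocallyOfFinitePresentation) Y.left := hRc
  have hjs := (Presieve.mem_comap_jointlySurjectivePrecoverage_iff Scheme.forget).1 hRc'.1
  have hex : ∀ y : Y.left, ∃ (V : Scheme.{u}) (f : V ⟶ Y.left) (l : V ⟶ U.left) (v : V),
      Flat f ∧ LocallyOfFinitePresentation f ∧ l ≫ q.left = f ∧ f v = y := by
    intro y
    obtain ⟨V, f, hRf, v, hv⟩ := hjs y
    have hP := hRc'.2 hRf
    have hS : (Sieve.overEquiv Y (Presheaf.imageSieve ((yon S).map q).hom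
        (ULift.up (𝟙 Y) : ULift.{u + 1} (Y ⟶ Y)))).arrows f := by
      apply hle
      exact hRf
    rw [Sieve.overEquiv_iff] at hS
    obtain ⟨tt, htt⟩ := hS
    let tt₀ : ULift.{u + 1} (Over.mk (f ≫ Y.hom) ⟶ U) := tt
    have h1 : tt₀.down ≫ q = (Over.homMk f rfl : Over.mk (f ≫ Y.hom) ⟶ Y) ≫ 𝟙 Y :=
      congrArg (fun z : ULift.{u + 1} (Over.mk (f ≫ Y.hom) ⟶ Y) => z.down) htt
    refine ⟨V, f, tt₀.down.left, v, hP.1, hP.2, ?_, hv⟩
    have := congrArg (fun m => m.left) h1
    simpa using this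
  choose V f l v hfl hlfp hlq hfv using hex
  let F : (∐ V) ⟶ Y.left := Sigma.desc f
  let L : (∐ V) ⟶ U.left := Sigma.desc l
  have hιF : ∀ y, Sigma.ι V y ≫ F = f y := fun y => Sigma.ι_desc f y
  have hιL : ∀ y, Sigma.ι V y ≫ L = l y := fun y => Sigma.ι_desc l y
  have hLq : L ≫ q.left = F := by
    apply Sigma.hom_ext
    intro y
    rw [← Category.assoc, hιL, hιF, hlq]
  haveI : Flat F := IsZariskiLocalAtSource.sigmaDesc (P := @Flat) hfl
  haveI : LocallyOfFinitePresentation F :=
    IsZariskiLocalAtSource.sigmaDesc (P := @LocallyOfFinitePresentation) hlfp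
  haveI : Surjective F := ⟨fun y => ⟨(Sigma.ι V y) (v y), by
    rw [← Scheme.Hom.comp_apply, hιF]
    exact hfv y⟩⟩
  exact ⟨∐ V, F, L, inferInstance, inferInstance, inferInstance, hLq⟩

theorem epi_yon_of_epi_repMap {U Y : Over S} (q : U ⟶ Y)
    [Epi (QuotSh.repMap Scheme.fppfPrecoverage q)] : Epi ((yon S).map q) := by
  have h : (yon S).map q = (QuotSh.repIsoUliftYoneda Scheme.fppfPrecoverage U).inv ≫
      QuotSh.repMap Scheme.fppfPrecoverage q ≫
        (QuotSh.repIsoUliftYoneda Scheme.fppfPrecoverage Y).hom := by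
    rw [repMap_comp_repIso_hom, Iso.inv_hom_id_assoc]
  rw [h]
  infer_instance

theorem epi_repMap_of_cover (K : Precoverage Scheme.{u}) {U Y : Over S} (q : U ⟶ Y)
    (hq : Presieve.singleton q.left ∈ K Y.left) : Epi (QuotSh.repMap K q) := by
  constructor
  intro F σ₁ σ₂ h
  obtain ⟨σ₀, -, huniq⟩ := descend K q hq F (QuotSh.repMap K q ≫ σ₁) (fun T' z₁ z₂ hz => by
    rw [← Category.assoc, ← Category.assoc, ← repMap_comp, ← repMap_comp, hz])
  rw [huniq σ₁ rfl, huniq σ₂ h.symm]

theorem key_mul' {G N : Over S} [GrpObj G] (i : N ⟶ G) {T : Over S} (m : T ⟶ G ⊗ N) :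
    m ≫ (G ◁ i) ≫ μ[G] = (m ≫ fst G N) * (m ≫ snd G N ≫ i) := by
  rw [Hom.mul_def, ← Category.assoc]
  congr 1
  apply CartesianMonoidalCategory.hom_ext <;> simp

theorem isPullback_shear {G H N : Over S} [GrpObj G] [GrpObj H] (f : G ⟶ H) [IsMonHom f]
    (i : N ⟶ G) (hi : AlgGrp.IsKernel i f) :
    IsPullback (fst G N) ((G ◁ i) ≫ μ[G]) f f := by
  have hif : ∀ {T : Over S} (ν : T ⟶ N), (ν ≫ i) ≫ f = 1 := by
    intro T ν
    rw [Category.assoc, hi.w, ← Category.assoc, Hom.one_def]
    congr 1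
    exact toUnit_unique _ _
  apply Groth.Agent.Lib.TorsorSeq.isPullback_of_points
  · have h := key_mul' i (𝟙 (G ⊗ N))
    simp only [Category.id_comp] at h
    rw [h, MonObj.mul_comp (fst G N) (snd G N ≫ i) f, hif, _root_.mul_one]
  · intro T a b hab
    have h1 : (a⁻¹ * b) ≫ f = toUnit T ≫ η[H] := by
      rw [MonObj.mul_comp (a⁻¹) b f, GrpObj.inv_comp, hab, _root_.inv_mul_cancel, Hom.one_def]
    refine ⟨lift a (hi.lift (a⁻¹ * b) (toUnit T) h1), lift_fst _ _, ?_⟩
    rw [key_mul', lift_fst, lift_snd_assoc, hi.lift_fst,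
      _root_.mul_inv_cancel_left]
  · intro T p p' h1 h2
    rw [key_mul', key_mul', h1] at h2
    have h3 : (p ≫ snd G N) ≫ i = (p' ≫ snd G N) ≫ i := by
      simpa only [Category.assoc] using mul_left_cancel h2
    have h4 : p ≫ snd G N = p' ≫ snd G N := hi.hom_ext h3 (toUnit_unique _ _)
    exact CartesianMonoidalCategory.hom_ext _ _ h1 h4

theorem main {G H N : Over S} [GrpObj G] [GrpObj H] (f : G ⟶ H) [IsMonHom f]
    [LocallyOfFinitePresentation G.hom] [LocallyOfFinitePresentation H.hom]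
    (i : N ⟶ G) (hi : AlgGrp.IsKernel i f) :
    (Flat f.left ∧ Surjective f.left) ↔
      (Epi (QuotSh.repMap Scheme.fppfPrecoverage f) ∧ Flat N.hom) := by
  have hkS : IsPullback i.left N.hom f.left (η[H]).left := hi.map (Over.forget S)
  constructor
  · rintro ⟨h1, h2⟩
    haveI := h1
    haveI := h2
    haveI : LocallyOfFinitePresentation (f.left ≫ H.hom) := by
      rw [Over.w]
      infer_instance
    haveI : LocallyOfFinitePresentation f.left :=
      locallyOfFinitePresentation_of_comp f.left H.hom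
    refine ⟨epi_repMap_of_cover _ f (Scheme.Hom.singleton_mem_fppfPrecoverage f.left), ?_⟩
    exact MorphismProperty.of_isPullback (P := @Flat) hkS h1
  · rintro ⟨h1, h2⟩
    haveI := h1
    haveI : Epi ((yon S).map f) := epi_yon_of_epi_repMap f
    obtain ⟨Y', F, L, hF1, hF2, hF3, hLf⟩ := exists_cover_of_epi f
    have hsurj : Surjective f.left := ⟨fun y => by
      obtain ⟨y', hy'⟩ := hF2.surj y
      exact ⟨L y', by rw [← Scheme.Hom.comp_apply, hLf]; exact hy'⟩⟩
    refine ⟨?_, hsurj⟩
    have hsh : IsPullback (fst G N).left ((G ◁ i) ≫ μ[G]).left f.left f.left :=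
      (isPullback_shear f i hi).map (Over.forget S)
    have hprod : IsPullback (fst G N).left (snd G N).left G.hom N.hom :=
      (AlgSt.isPullback_fst_snd G N).map (Over.forget S)
    have hfstflat : Flat (fst G N).left := MorphismProperty.of_isPullback (P := @Flat) hprod.flip h2
    have sq1 : IsPullback (pullback.snd L (fst G N).left) (pullback.fst L (fst G N).left)
        (fst G N).left L := (IsPullback.of_hasPullback L (fst G N).left).flip
    have sq : IsPullback (pullback.fst L (fst G N).left)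
        (pullback.snd L (fst G N).left ≫ ((G ◁ i) ≫ μ[G]).left) F f.left := by
      have := (sq1.paste_horiz hsh.flip).flip
      rwa [hLf] at this
    have hQ : (@Surjective ⊓ @Flat ⊓ @LocallyOfFinitePresentation :
        MorphismProperty Scheme.{u}) F := ⟨⟨hF2, hF1⟩, hF3⟩
    haveI := flat_descendsAlong'.{u}
    exact MorphismProperty.of_isPullback_of_descendsAlong (P := @Flat)
      (Q := @Surjective ⊓ @Flat ⊓ @LocallyOfFinitePresentation) sq hQ
      (MorphismProperty.pullback_fst (P := @Flat) _ _ hfstflat)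

end Groth.Agent.Lib.FlatEpi
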