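import Mathlib

set_option backward.isDefEq.respectTransparency false
set_option autoImplicit false
universe u
open CategoryTheory Limits AlgebraicGeometry

namespace Groth.Agent.Lib.FlatEqRelH7

/-- A closed immersion through which a scheme-theoretically dominant morphism factors is an iso. -/
theorem isIso_of_factor {Z W V : Scheme.{u}} (i : Z ⟶ W) [IsClosedImmersion i] (g : V ⟶ W)
    [IsSchemeTheoreticallyDominant g] (h : V ⟶ Z) (hg : h ≫ i = g) : IsIso i := by
  rw [IsClosedImmersion.isIso_iff_ker_eq_bot, ← le_bot_iff]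
  have := h.le_ker_comp i
  rw [hg, g.ker_eq_bot] at this
  exact this

section
variable (R K : Type u) [CommRing R] [IsDomain R] [Field K] [Algebra R K] [IsFractionRing R K]

/-- The generic point inclusion. -/
noncomputable abbrev j : Spec (CommRingCat.of K) ⟶ Spec (CommRingCat.of R) :=
  Spec.map (CommRingCat.ofHom (algebraMap R K))

instance isDominant_j : IsDominant (j R K) := by
  rw [isDominant_iff]
  have : DenseRange (PrimeSpectrum.comap (algebraMap R K)) := by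
    rw [PrimeSpectrum.denseRange_comap_iff_ker_le_nilRadical,
      (RingHom.injective_iff_ker_eq_bot _).mp (IsFractionRing.injective R K)]
    exact bot_le
  exact this

instance isSTD_j : IsSchemeTheoreticallyDominant (j R K) :=
  IsSchemeTheoreticallyDominant.of_isDominant _

variable {R K}

/-- Key extension lemma: `W` flat over `Spec R`, `δ : Γ ⟶ P` a closed immersion, `u : W ⟶ P`.
If the generic fibre of `W` maps into `Γ` compatibly then so does `W`. -/
theorem exists_lift {W Γ P : Scheme.{u}} (w : W ⟶ Spec (CommRingCat.of R)) [Flat w]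
    (δ : Γ ⟶ P) [IsClosedImmersion δ] (u : W ⟶ P)
    (c : pullback w (j R K) ⟶ Γ) (hc : c ≫ δ = pullback.fst w (j R K) ≫ u) :
    ∃ m : W ⟶ Γ, m ≫ δ = u := by
  have : IsSchemeTheoreticallyDominant (pullback.fst w (j R K)) := inferInstance
  have hiso : IsIso (pullback.fst u δ) :=
    isIso_of_factor (pullback.fst u δ) (pullback.fst w (j R K))
      (pullback.lift (pullback.fst w (j R K)) c hc.symm) (pullback.lift_fst _ _ _)
  exact ⟨inv (pullback.fst u δ) ≫ pullback.snd u δ, by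
    rw [Category.assoc, ← pullback.condition, IsIso.inv_hom_id_assoc]⟩

theorem main13044
    (Y Γ : Scheme.{u}) (f : Y ⟶ Spec (CommRingCat.of R)) [Flat f]
    (p₁ p₂ : Γ ⟶ Y) (h : p₁ ≫ f = p₂ ≫ f)
    (hΓ : IsClosedImmersion (pullback.lift p₁ p₂ h))
    [Flat (p₁ ≫ f)] [Flat p₁] [Flat p₂]
    (hK : ∀ (T : Scheme.{u}) (t : T ⟶ Spec (CommRingCat.of R)),
      (∃ s : T ⟶ Spec (CommRingCat.of K), t = s ≫ Spec.map (CommRingCat.ofHom (algebraMap R K))) →
      _root_.Equivalence fun a b : {a : T ⟶ Y // a ≫ f = t} =>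
        ∃ c : T ⟶ Γ, c ≫ p₁ = a.1 ∧ c ≫ p₂ = b.1) :
    ∀ (T : Scheme.{u}) (t : T ⟶ Spec (CommRingCat.of R)),
      _root_.Equivalence fun a b : {a : T ⟶ Y // a ≫ f = t} =>
        ∃ c : T ⟶ Γ, c ≫ p₁ = a.1 ∧ c ≫ p₂ = b.1 := by
  haveI := hΓ
  set δ := pullback.lift p₁ p₂ h with hδ
  have hδ1 : δ ≫ pullback.fst f f = p₁ := pullback.lift_fst _ _ _
  have hδ2 : δ ≫ pullback.snd f f = p₂ := pullback.lift_snd _ _ _
  -- reflexivity
  obtain ⟨r, hr1, hr2⟩ : ∃ r : Y ⟶ Γ, r ≫ p₁ = 𝟙 Y ∧ r ≫ p₂ = 𝟙 Y := by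
    obtain ⟨c, hc1, hc2⟩ := (hK _ (pullback.fst f (j R K) ≫ f)
      ⟨pullback.snd _ _, pullback.condition⟩).refl ⟨pullback.fst f (j R K), rfl⟩
    obtain ⟨r, hr⟩ := exists_lift (K := K) f δ (pullback.lift (𝟙 Y) (𝟙 Y) rfl) c (by
      apply pullback.hom_ext
      · rw [Category.assoc, hδ1, Category.assoc, pullback.lift_fst, Category.comp_id]; exact hc1
      · rw [Category.assoc, hδ2, Category.assoc, pullback.lift_snd, Category.comp_id]; exact hc2)
    refine ⟨r, ?_, ?_⟩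
    · rw [← hδ1, ← Category.assoc, hr, pullback.lift_fst]
    · rw [← hδ2, ← Category.assoc, hr, pullback.lift_snd]
  -- symmetry
  obtain ⟨s, hs1, hs2⟩ : ∃ s : Γ ⟶ Γ, s ≫ p₁ = p₂ ∧ s ≫ p₂ = p₁ := by
    set g := pullback.fst (p₁ ≫ f) (j R K) with hg
    obtain ⟨c, hc1, hc2⟩ := (hK _ (g ≫ (p₁ ≫ f))
      ⟨pullback.snd _ _, pullback.condition⟩).symm
        (x := ⟨g ≫ p₁, by rw [Category.assoc]⟩) (y := ⟨g ≫ p₂, by rw [Category.assoc, ← h]⟩)
        ⟨g, rfl, rfl⟩
    obtain ⟨s, hs⟩ := exists_lift (K := K) (p₁ ≫ f) δ (pullback.lift p₂ p₁ h.symm) c (by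
      apply pullback.hom_ext
      · rw [Category.assoc, hδ1, Category.assoc, pullback.lift_fst]; exact hc1
      · rw [Category.assoc, hδ2, Category.assoc, pullback.lift_snd]; exact hc2)
    refine ⟨s, ?_, ?_⟩
    · rw [← hδ1, ← Category.assoc, hs, pullback.lift_fst]
    · rw [← hδ2, ← Category.assoc, hs, pullback.lift_snd]
  -- transitivity
  obtain ⟨m, hm1, hm2⟩ : ∃ m : pullback p₂ p₁ ⟶ Γ,
      m ≫ p₁ = pullback.fst p₂ p₁ ≫ p₁ ∧ m ≫ p₂ = pullback.snd p₂ p₁ ≫ p₂ := by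
    set q₁ := pullback.fst p₂ p₁ with hq₁
    set q₂ := pullback.snd p₂ p₁ with hq₂
    have hq : q₁ ≫ p₂ = q₂ ≫ p₁ := pullback.condition
    have hu : (q₁ ≫ p₁) ≫ f = (q₂ ≫ p₂) ≫ f := by
      rw [Category.assoc, h, ← Category.assoc, hq, Category.assoc, h, Category.assoc]
    haveI : Flat (q₁ ≫ p₁ ≫ f) := inferInstance
    set g := pullback.fst (q₁ ≫ p₁ ≫ f) (j R K) with hg
    have E := hK _ (g ≫ (q₁ ≫ p₁ ≫ f)) ⟨pullback.snd _ _, pullback.condition⟩
    obtain ⟨c, hc1, hc2⟩ := E.trans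
        (x := ⟨g ≫ q₁ ≫ p₁, by simp only [Category.assoc]⟩)
        (y := ⟨g ≫ q₁ ≫ p₂, by simp only [Category.assoc, h]⟩)
        (z := ⟨g ≫ q₂ ≫ p₂, by
          simp only [Category.assoc]
          rw [← h, ← Category.assoc q₂, ← hq, Category.assoc, ← h]⟩)
        ⟨g ≫ q₁, by simp only [Category.assoc], by simp only [Category.assoc]⟩
        ⟨g ≫ q₂, by simp only [Category.assoc, hq], by simp only [Category.assoc]⟩
    obtain ⟨m, hm⟩ := exists_lift (K := K) (q₁ ≫ p₁ ≫ f) δ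
      (pullback.lift (q₁ ≫ p₁) (q₂ ≫ p₂) hu) c (by
      apply pullback.hom_ext
      · rw [Category.assoc, hδ1, Category.assoc, pullback.lift_fst]; exact hc1
      · rw [Category.assoc, hδ2, Category.assoc, pullback.lift_snd]; exact hc2)
    refine ⟨m, ?_, ?_⟩
    · have := congrArg (· ≫ pullback.fst f f) hm
      simpa only [Category.assoc, hδ1, pullback.lift_fst] using this
    · have := congrArg (· ≫ pullback.snd f f) hm
      simpa only [Category.assoc, hδ2, pullback.lift_snd] using this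
  intro T t
  refine ⟨fun a => ⟨a.1 ≫ r, by rw [Category.assoc, hr1, Category.comp_id],
    by rw [Category.assoc, hr2, Category.comp_id]⟩, ?_, ?_⟩
  · rintro a b ⟨c, h1, h2⟩
    exact ⟨c ≫ s, by rw [Category.assoc, hs1, h2], by rw [Category.assoc, hs2, h1]⟩
  · rintro a b d ⟨c1, h1, h2⟩ ⟨c2, h3, h4⟩
    refine ⟨pullback.lift c1 c2 (h2.trans h3.symm) ≫ m, ?_, ?_⟩
    · rw [Category.assoc, hm1, pullback.lift_fst_assoc, h1]
    · rw [Category.assoc, hm2, pullback.lift_snd_assoc, h4]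

end

end Groth.Agent.Lib.FlatEqRelH7
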