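import Mathlib
import Groth.Agent.Lib.FlatLocFP2_helper6

/-!
# Flat + finite type + locally finitely presented ⇒ finitely presented (helper1)
(Stacks, More on Algebra 15.25.1 / 15.25.2.)  APPEND-ONLY once landed.
-/

set_option autoImplicit false
open TensorProduct

namespace Groth.Agent.Lib.FlatFPH1

universe u

section Gen

/-- If every localisation of `M` at primes of `C` not containing `h` is `A`-flat, then `M_h` is
`A`-flat. -/
theorem flat_away_of_forall {A C : Type u} [CommRing A] [CommRing C] [Algebra A C]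
    (M : Type u) [AddCommGroup M] [Module C M] [Module A M] [IsScalarTower A C M] (h : C)
    (H : ∀ q : PrimeSpectrum C, h ∉ q.asIdeal →
      Module.Flat A (LocalizedModule q.asIdeal.primeCompl M)) :
    Module.Flat A (LocalizedModule (Submonoid.powers h) M) := by
  rw [Groth.Agent.Lib.FlatLocFP1H6.flat_localizedModule_iff]
  intro I ξ hξ
  have hJ : ∀ t : C, t ∈ (Submodule.span C {ξ}).annihilator ↔ t • ξ = 0 := fun t =>
    Submodule.mem_annihilator_span_singleton ξ t
  have hrad : h ∈ ((Submodule.span C {ξ}).annihilator : Ideal C).radical := by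
    rw [Ideal.radical_eq_sInf, Ideal.mem_sInf]
    rintro q ⟨hJq, hq⟩
    by_contra hh
    have h1 := H ⟨q, hq⟩ hh
    rw [Groth.Agent.Lib.FlatLocFP1H6.flat_localizedModule_iff] at h1
    obtain ⟨t, ht, ht0⟩ := h1 I ξ hξ
    exact ht (hJq ((hJ t).mpr ht0))
  obtain ⟨j, hj⟩ := hrad
  exact ⟨h ^ j, ⟨j, rfl⟩, (hJ _).mp hj⟩

/-- An element of a flat module killed, for each of finitely many primes `p` with
`R ↪ ∏ R_p`, by an element outside `p`, is zero. -/
theorem eq_zero_of_flat_of_forall_smul {R : Type u} [CommRing R] (N : Type u) [AddCommGroup N]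
    [Module R N] [Module.Flat R N] (s : Finset (PrimeSpectrum R))
    (hs : Function.Injective fun r : R => fun p : s =>
      algebraMap R (Localization.AtPrime p.1.asIdeal) r)
    (x : N) (hx : ∀ p ∈ s, ∃ r : R, r ∉ (p : PrimeSpectrum R).asIdeal ∧ r • x = 0) : x = 0 := by
  classical
  let ι : R →ₗ[R] (∀ p : s, Localization.AtPrime p.1.asIdeal) :=
    LinearMap.pi fun p => Algebra.linearMap R (Localization.AtPrime p.1.asIdeal)
  have hι : Function.Injective ι := hs
  have hinj : Function.Injective (ι.lTensor N) :=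
    Module.Flat.lTensor_preserves_injective_linearMap ι hι
  have h1 : ι.lTensor N (x ⊗ₜ[R] (1 : R)) = 0 := by
    rw [LinearMap.lTensor_tmul]
    have e1 : ι 1 = ∑ p : s, Pi.single p (1 : Localization.AtPrime p.1.asIdeal) := by
      rw [Finset.univ_sum_single (fun p : s => (1 : Localization.AtPrime p.1.asIdeal))]
      funext p
      show algebraMap R (Localization.AtPrime p.1.asIdeal) 1 = 1
      rw [map_one]
    rw [e1, TensorProduct.tmul_sum]
    refine Finset.sum_eq_zero fun p _ => ?_
    obtain ⟨r, hr, hr0⟩ := hx p.1 p.2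
    have hu : IsUnit (algebraMap R (Localization.AtPrime p.1.asIdeal) r) :=
      IsLocalization.map_units (Localization.AtPrime p.1.asIdeal)
        (⟨r, hr⟩ : p.1.asIdeal.primeCompl)
    obtain ⟨u, hu⟩ := hu
    have e : (Pi.single p (1 : Localization.AtPrime p.1.asIdeal) :
        ∀ p : s, Localization.AtPrime p.1.asIdeal) =
        r • Pi.single p ((u⁻¹ : (Localization.AtPrime p.1.asIdeal)ˣ) :
          Localization.AtPrime p.1.asIdeal) := by
      rw [← Pi.single_smul]
      congr 1
      rw [Algebra.smul_def, ← hu, Units.mul_inv]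
    rw [e, TensorProduct.tmul_smul, TensorProduct.smul_tmul', hr0, TensorProduct.zero_tmul]
  have h2 : (x ⊗ₜ[R] (1 : R)) = 0 := hinj (h1.trans (map_zero _).symm)
  have h3 := congrArg (TensorProduct.rid R N) h2
  rw [TensorProduct.rid_tmul, one_smul, map_zero] at h3
  exact h3

/-- Transfer of flatness of localisations along a surjection whose kernel dies in the
localisation. -/
theorem flat_localized_of_surjective {A C : Type u} [CommRing A] [CommRing C] [Algebra A C]
    (T : Submonoid C)
    {X Y : Type u} [AddCommGroup X] [Module C X] [Module A X] [IsScalarTower A C X]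
    [AddCommGroup Y] [Module C Y] [Module A Y] [IsScalarTower A C Y]
    (φ : X →ₗ[C] Y) (hφ : Function.Surjective φ) (hker : ∀ x, φ x = 0 → ∃ t ∈ T, t • x = 0)
    (hY : Module.Flat A (LocalizedModule T Y)) : Module.Flat A (LocalizedModule T X) := by
  let Φ : LocalizedModule T X →ₗ[C] LocalizedModule T Y :=
    IsLocalizedModule.map T (LocalizedModule.mkLinearMap T X) (LocalizedModule.mkLinearMap T Y) φ
  have hsurj : Function.Surjective Φ := IsLocalizedModule.map_surjective T _ _ φ hφ
  have hinj : Function.Injective Φ := by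
    rw [injective_iff_map_eq_zero]
    intro z hz
    obtain ⟨⟨x, t⟩, rfl⟩ := IsLocalizedModule.mk'_surjective T (LocalizedModule.mkLinearMap T X) z
    simp only [Function.uncurry_apply_pair] at hz ⊢
    rw [IsLocalizedModule.map_mk', IsLocalizedModule.mk'_eq_zero,
      IsLocalizedModule.eq_zero_iff T] at hz
    obtain ⟨c, hc⟩ := hz
    have hc' : φ ((c : C) • x) = 0 := by
      rw [map_smul]
      exact hc
    obtain ⟨t', ht', ht0⟩ := hker _ hc'
    rw [IsLocalizedModule.mk'_eq_zero, IsLocalizedModule.eq_zero_iff T]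
    refine ⟨⟨t', ht'⟩ * c, ?_⟩
    show ((t' * (c : C)) : C) • x = 0
    rw [mul_smul]
    exact ht0
  let e : LocalizedModule T X ≃ₗ[C] LocalizedModule T Y := LinearEquiv.ofBijective Φ ⟨hinj, hsurj⟩
  exact Module.Flat.of_linearEquiv (e.restrictScalars A)

/-- finitely many elements of `ker π` generate the localised kernel. -/
theorem exists_finset_of_fp {C : Type u} [CommRing C] (T : Submonoid C) {F M : Type u}
    [AddCommGroup F] [Module C F] [Module.Finite C F] [AddCommGroup M] [Module C M]
    (π : F →ₗ[C] M) (hπ : Function.Surjective π)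
    [Module.FinitePresentation (Localization T) (LocalizedModule T M)] :
    ∃ G : Finset F, (↑G : Set F) ⊆ LinearMap.ker π ∧
      ∀ k ∈ LinearMap.ker π, ∃ t ∈ T, t • k ∈ Submodule.span C (↑G : Set F) := by
  classical
  let ιF := LocalizedModule.mkLinearMap T F
  let ιM := LocalizedModule.mkLinearMap T M
  let πT : LocalizedModule T F →ₗ[Localization T] LocalizedModule T M :=
    (IsLocalizedModule.map T ιF ιM π).extendScalarsOfIsLocalization T (Localization T)
  have hsurj : Function.Surjective πT := IsLocalizedModule.map_surjective T ιF ιM π hπ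
  haveI : Module.Finite (Localization T) (LocalizedModule T F) :=
    Module.Finite.of_isLocalizedModule T ιF
  have hfg : (LinearMap.ker πT).FG := Module.FinitePresentation.fg_ker πT hsurj
  rw [← LinearMap.localized'_ker_eq_ker_localizedMap (Localization T) T ιF ιM π] at hfg
  have hspan : (LinearMap.ker π).localized' (Localization T) T ιF =
      Submodule.span (Localization T) (ιF '' (LinearMap.ker π : Set F)) := by
    conv_lhs => rw [← Submodule.span_eq (LinearMap.ker π)]
    exact Submodule.localized'_span (Localization T) T ιF _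
  rw [hspan] at hfg
  obtain ⟨s', hs', hs'eq⟩ := (Submodule.fg_span_iff_fg_span_finset_subset _).mp hfg
  obtain ⟨G, hGK, hGs'⟩ := Finset.subset_set_image_iff.mp hs'
  refine ⟨G, hGK, fun k hk => ?_⟩
  have hk1 : ιF k ∈ Submodule.span (Localization T) (ιF '' (LinearMap.ker π : Set F)) :=
    Submodule.subset_span ⟨k, hk, rfl⟩
  rw [hs'eq, ← hGs', Finset.coe_image, ← Submodule.localized'_span (Localization T) T ιF] at hk1
  obtain ⟨m, hm, t, hmt⟩ := (Submodule.mem_localized' (Localization T) T ιF _ _).mp hk1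
  have h1 : ιF m = (t : C) • ιF k := by
    rw [← hmt]
    exact (IsLocalizedModule.mk'_cancel' ιF m t).symm
  have h2 : ιF ((t : C) • k - m) = 0 := by
    rw [map_sub, map_smul, h1, sub_self]
  obtain ⟨u, hu⟩ := (IsLocalizedModule.eq_zero_iff T ιF).mp h2
  refine ⟨u * t, (u * t).2, ?_⟩
  have hu' : (u : C) • ((t : C) • k - m) = 0 := hu
  have h3 : ((u : C) * (t : C)) • k = (u : C) • m := by
    rw [mul_smul]
    rw [smul_sub, sub_eq_zero] at hu'
    exact hu'
  show ((u : C) * (t : C)) • k ∈ _
  rw [h3]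
  exact Submodule.smul_mem _ _ hm

end Gen

section Main

variable {R : Type u} [CommRing R] (σ : Type) [Finite σ]

theorem step {b : ℕ} (M : Type u) [AddCommGroup M] [Module (MvPolynomial σ R) M] [Module R M]
    [IsScalarTower R (MvPolynomial σ R) M] [Module.Flat R M]
    (π : (Fin b → MvPolynomial σ R) →ₗ[MvPolynomial σ R] M) (hπ : Function.Surjective π)
    (s : Finset (PrimeSpectrum R))
    (hs : Function.Injective fun r : R => fun p : s =>
      algebraMap R (Localization.AtPrime p.1.asIdeal) r)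
    (K'' : Submodule (MvPolynomial σ R) (Fin b → MvPolynomial σ R)) (hfg : K''.FG)
    (hle : K'' ≤ LinearMap.ker π) (q : PrimeSpectrum (MvPolynomial σ R))
    (hq : ∀ k ∈ LinearMap.ker π, ∃ t : MvPolynomial σ R, t ∉ q.asIdeal ∧ t • k ∈ K'')
    (hsK : ∀ p ∈ s, ∀ k ∈ LinearMap.ker π, ∃ r : R, r ∉ (p : PrimeSpectrum R).asIdeal ∧
      algebraMap R (MvPolynomial σ R) r • k ∈ K'') :
    ∃ h : MvPolynomial σ R, h ∉ q.asIdeal ∧ ∀ k ∈ LinearMap.ker π, ∃ j : ℕ, h ^ j • k ∈ K'' := by
  haveI : Module.FinitePresentation (MvPolynomial σ R) ((Fin b → MvPolynomial σ R) ⧸ K'') :=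
    Module.finitePresentation_of_free_of_surjective K''.mkQ (Submodule.mkQ_surjective _)
      (by rw [Submodule.ker_mkQ]; exact hfg)
  let ρ : ((Fin b → MvPolynomial σ R) ⧸ K'') →ₗ[MvPolynomial σ R] M := K''.liftQ π hle
  have hρ : Function.Surjective ρ := by
    intro m
    obtain ⟨f, rfl⟩ := hπ m
    exact ⟨Submodule.Quotient.mk f, rfl⟩
  have hρker : ∀ x, ρ x = 0 → ∃ t ∈ q.asIdeal.primeCompl, t • x = 0 := by
    intro x hx
    obtain ⟨f, rfl⟩ := Submodule.Quotient.mk_surjective _ x
    have hf : f ∈ LinearMap.ker π := hx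
    obtain ⟨t, ht, htf⟩ := hq f hf
    refine ⟨t, ht, ?_⟩
    rw [← Submodule.Quotient.mk_smul, Submodule.Quotient.mk_eq_zero]
    exact htf
  haveI hMq : Module.Flat R (LocalizedModule q.asIdeal.primeCompl M) :=
    GenFreeH8.flat_of_isLocalizedModule_algebra q.asIdeal.primeCompl
      (LocalizedModule.mkLinearMap q.asIdeal.primeCompl M)
  have hQq : Module.Flat R (LocalizedModule q.asIdeal.primeCompl
      ((Fin b → MvPolynomial σ R) ⧸ K'')) :=
    flat_localized_of_surjective q.asIdeal.primeCompl ρ hρ hρker hMq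
  have hopen := Groth.Agent.Lib.FlatLocFP2H6.isOpen_flatLocus_mvPolynomial (R := R) σ
    ((Fin b → MvPolynomial σ R) ⧸ K'')
  obtain ⟨_, ⟨h, rfl⟩, hqh, hsub⟩ :=
    PrimeSpectrum.isTopologicalBasis_basic_opens.exists_subset_of_mem_open
      (show q ∈ {q : PrimeSpectrum (MvPolynomial σ R) | Module.Flat R
        (LocalizedModule q.asIdeal.primeCompl ((Fin b → MvPolynomial σ R) ⧸ K''))} from hQq) hopen
  have hflat : Module.Flat R (LocalizedModule (Submonoid.powers h)
      ((Fin b → MvPolynomial σ R) ⧸ K'')) :=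
    flat_away_of_forall _ h (fun q' hq' => hsub hq')
  refine ⟨h, hqh, fun k hk => ?_⟩
  have hx : LocalizedModule.mkLinearMap (Submonoid.powers h) ((Fin b → MvPolynomial σ R) ⧸ K'')
      (Submodule.Quotient.mk k) = 0 := by
    refine eq_zero_of_flat_of_forall_smul _ s hs _ (fun p hp => ?_)
    obtain ⟨r, hr, hrk⟩ := hsK p hp k hk
    refine ⟨r, hr, ?_⟩
    rw [← algebraMap_smul (MvPolynomial σ R) r, ← map_smul, ← Submodule.Quotient.mk_smul,
      (Submodule.Quotient.mk_eq_zero _).mpr hrk, map_zero]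
  obtain ⟨⟨_, ⟨j, rfl⟩⟩, hj⟩ := (IsLocalizedModule.eq_zero_iff (Submonoid.powers h)
    (LocalizedModule.mkLinearMap (Submonoid.powers h) ((Fin b → MvPolynomial σ R) ⧸ K''))).mp hx
  refine ⟨j, ?_⟩
  have hj' : h ^ j • (Submodule.Quotient.mk k : (Fin b → MvPolynomial σ R) ⧸ K'') = 0 := hj
  rw [← Submodule.Quotient.mk_smul, Submodule.Quotient.mk_eq_zero] at hj'
  exact hj'

theorem fg_ker_of_flat {b : ℕ} (M : Type u) [AddCommGroup M] [Module (MvPolynomial σ R) M]
    [Module R M] [IsScalarTower R (MvPolynomial σ R) M] [Module.Flat R M]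
    (π : (Fin b → MvPolynomial σ R) →ₗ[MvPolynomial σ R] M) (hπ : Function.Surjective π)
    (s : Finset (PrimeSpectrum R))
    (hs : Function.Injective fun r : R => fun p : s =>
      algebraMap R (Localization.AtPrime p.1.asIdeal) r)
    (hloc : ∀ p : PrimeSpectrum R, ∃ G : Finset (Fin b → MvPolynomial σ R),
      (↑G : Set (Fin b → MvPolynomial σ R)) ⊆ LinearMap.ker π ∧
      ∀ k ∈ LinearMap.ker π, ∃ r : R, r ∉ p.asIdeal ∧
        algebraMap R (MvPolynomial σ R) r • k ∈
          Submodule.span (MvPolynomial σ R) (↑G : Set (Fin b → MvPolynomial σ R))) :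
    (LinearMap.ker π).FG := by
  classical
  choose G hGK hG using hloc
  let K' : Submodule (MvPolynomial σ R) (Fin b → MvPolynomial σ R) :=
    Submodule.span _ (↑(s.biUnion G) : Set (Fin b → MvPolynomial σ R))
  have hK'fg : K'.FG := Submodule.fg_span (Finset.finite_toSet _)
  have hK'le : K' ≤ LinearMap.ker π := Submodule.span_le.mpr (by
    intro x hx
    rw [Finset.mem_coe, Finset.mem_biUnion] at hx
    obtain ⟨p, _, hxp⟩ := hx
    exact hGK p hxp)
  have hK's : ∀ p ∈ s, ∀ k ∈ LinearMap.ker π, ∃ r : R, r ∉ (p : PrimeSpectrum R).asIdeal ∧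
      algebraMap R (MvPolynomial σ R) r • k ∈ K' := by
    intro p hp k hk
    obtain ⟨r, hr, hrk⟩ := hG p k hk
    refine ⟨r, hr, Submodule.span_mono ?_ hrk⟩
    intro x hx
    rw [Finset.mem_coe, Finset.mem_biUnion]
    exact ⟨p, hp, hx⟩
  have key : ∀ q : PrimeSpectrum (MvPolynomial σ R), ∃ h : MvPolynomial σ R, h ∉ q.asIdeal ∧
      ∃ K'' : Submodule (MvPolynomial σ R) (Fin b → MvPolynomial σ R), K''.FG ∧
        K'' ≤ LinearMap.ker π ∧ ∀ k ∈ LinearMap.ker π, ∃ j : ℕ, h ^ j • k ∈ K'' := by
    intro q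
    let p : PrimeSpectrum R := PrimeSpectrum.comap (algebraMap R (MvPolynomial σ R)) q
    let K'' := K' ⊔ Submodule.span (MvPolynomial σ R) (↑(G p) : Set (Fin b → MvPolynomial σ R))
    have hK''fg : K''.FG := hK'fg.sup (Submodule.fg_span (Finset.finite_toSet _))
    have hK''le : K'' ≤ LinearMap.ker π := sup_le hK'le (Submodule.span_le.mpr (hGK p))
    obtain ⟨h, hh, hpow⟩ := step σ M π hπ s hs K'' hK''fg hK''le q
      (fun k hk => by
        obtain ⟨r, hr, hrk⟩ := hG p k hk
        exact ⟨algebraMap R (MvPolynomial σ R) r, hr, le_sup_right (a := K') hrk⟩)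
      (fun p' hp' k hk => by
        obtain ⟨r, hr, hrk⟩ := hK's p' hp' k hk
        exact ⟨r, hr, le_sup_left (b := Submodule.span (MvPolynomial σ R)
          (↑(G p) : Set (Fin b → MvPolynomial σ R))) hrk⟩)
    exact ⟨h, hh, K'', hK''fg, hK''le, hpow⟩
  choose hq hqn Kq hKqfg hKqle hKqpow using key
  have htop : Ideal.span (Set.range hq) = ⊤ := by
    by_contra hne
    obtain ⟨m, hm, hle⟩ := Ideal.exists_le_maximal _ hne
    exact hqn ⟨m, hm.isPrime⟩ (hle (Ideal.subset_span ⟨_, rfl⟩))
  obtain ⟨s', hs', hs'top⟩ := (Ideal.span_eq_top_iff_finite _).mp htop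
  have hex : ∀ h : s', ∃ q, hq q = h.1 := fun h => hs' h.2
  choose qf hqf using hex
  let Kt : Submodule (MvPolynomial σ R) (Fin b → MvPolynomial σ R) := ⨆ h : s', Kq (qf h)
  have hKtfg : Kt.FG := Submodule.fg_iSup _ (fun h => hKqfg _)
  have hKtle : Kt ≤ LinearMap.ker π := iSup_le fun h => hKqle _
  have hKle : LinearMap.ker π ≤ Kt := by
    intro k hk
    have hc : Kt.colon {k} = ⊤ := by
      by_contra hne
      obtain ⟨m, hm, hle⟩ := Ideal.exists_le_maximal _ hne
      have hsub : Ideal.span (↑s' : Set (MvPolynomial σ R)) ≤ m := by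
        refine Ideal.span_le.mpr fun h hh => ?_
        obtain ⟨j, hj⟩ := hKqpow (qf ⟨h, hh⟩) k hk
        have h1 : hq (qf ⟨h, hh⟩) ^ j ∈ Kt.colon {k} :=
          Submodule.mem_colon_singleton.mpr
            (le_iSup (fun h : s' => Kq (qf h)) ⟨h, hh⟩ hj)
        rw [hqf ⟨h, hh⟩] at h1
        exact hm.isPrime.mem_of_pow_mem j (hle h1)
      rw [hs'top] at hsub
      exact hm.ne_top (top_le_iff.mp hsub)
    have h1 : (1 : MvPolynomial σ R) ∈ Kt.colon {k} := by rw [hc]; trivial
    have h2 := Submodule.mem_colon_singleton.mp h1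
    rwa [one_smul] at h2
  rw [le_antisymm hKle hKtle]
  exact hKtfg

end Main

theorem main2050 {R : Type u} [CommRing R] (n : ℕ)
    {M : Type u} [AddCommGroup M] [Module (MvPolynomial (Fin n) R) M] [Module R M]
    [IsScalarTower R (MvPolynomial (Fin n) R) M] [Module.Finite (MvPolynomial (Fin n) R) M]
    [Module.Flat R M]
    (s : Finset (PrimeSpectrum R))
    (hs : Function.Injective fun r : R => fun p : s =>
      algebraMap R (Localization.AtPrime p.1.asIdeal) r)
    (hloc : ∀ (p : Ideal R) [p.IsPrime],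
      Module.FinitePresentation
        (Localization (Algebra.algebraMapSubmonoid (MvPolynomial (Fin n) R) p.primeCompl))
        (LocalizedModule (Algebra.algebraMapSubmonoid (MvPolynomial (Fin n) R) p.primeCompl) M)) :
    Module.FinitePresentation (MvPolynomial (Fin n) R) M := by
  obtain ⟨b, π, hπ⟩ := Module.Finite.exists_fin' (MvPolynomial (Fin n) R) M
  have hK := fg_ker_of_flat (Fin n) M π hπ s hs (fun p => by
    haveI := hloc p.asIdeal
    obtain ⟨G, hGK, hG⟩ := exists_finset_of_fp
      (Algebra.algebraMapSubmonoid (MvPolynomial (Fin n) R) p.asIdeal.primeCompl) π hπ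
    refine ⟨G, hGK, fun k hk => ?_⟩
    obtain ⟨t, ht, htk⟩ := hG k hk
    obtain ⟨r, hr, rfl⟩ := ht
    exact ⟨r, hr, htk⟩)
  exact Module.finitePresentation_of_free_of_surjective π hπ hK

end Groth.Agent.Lib.FlatFPH1
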