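import Mathlib
import Groth.Agent.Lib.FlatFP_helper1

/-!
# Flat + finite type + locally finitely presented algebra ⇒ finitely presented (helper1)
(Stacks, More on Algebra 15.25.3, algebra version.)  APPEND-ONLY once landed.
-/

set_option autoImplicit false
open TensorProduct

namespace Groth.Agent.Lib.FlatFPAlgH1

universe u

/-- localisation of a finitely presented algebra is finitely presented over the localised base. -/
theorem fp_localization {R P : Type u} [CommRing R] [CommRing P] [Algebra R P]
    [Algebra.FinitePresentation R P] (M : Submonoid R) :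
    Algebra.FinitePresentation (Localization M)
      (Localization (Algebra.algebraMapSubmonoid P M)) := by
  haveI h1 : Algebra.IsPushout R P (Localization M)
      (Localization (Algebra.algebraMapSubmonoid P M)) :=
    Algebra.isPushout_of_isLocalization M (Localization M) P
      (Localization (Algebra.algebraMapSubmonoid P M))
  haveI h2 : Algebra.IsPushout R (Localization M) P
      (Localization (Algebra.algebraMapSubmonoid P M)) := Algebra.IsPushout.symm h1
  exact Algebra.FinitePresentation.equiv
    (Algebra.IsPushout.equiv R (Localization M) P (Localization (Algebra.algebraMapSubmonoid P M)))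

/-- generic form: `S` a quotient of `P`; if the localisations of `P` and `S` are finitely
presented algebras over the localised base, then the localised module `S_T` is finitely presented
over `P_T`. -/
theorem fp_module_of_isLocalization {R P S : Type u} [CommRing R] [CommRing P] [CommRing S]
    [Algebra R P] [Algebra R S] [Algebra P S] [IsScalarTower R P S]
    (hsurj : Function.Surjective (algebraMap P S)) (M : Submonoid R)
    (Rₚ Aₚ Bₚ : Type u) [CommRing Rₚ] [CommRing Aₚ] [CommRing Bₚ] [Algebra R Rₚ]
    [IsLocalization M Rₚ]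
    [Algebra R Aₚ] [Algebra P Aₚ] [IsScalarTower R P Aₚ]
    [IsLocalization (Algebra.algebraMapSubmonoid P M) Aₚ]
    [Algebra R Bₚ] [Algebra S Bₚ] [IsScalarTower R S Bₚ]
    [IsLocalization (Algebra.algebraMapSubmonoid S M) Bₚ]
    [Algebra Rₚ Aₚ] [Algebra Rₚ Bₚ] [IsScalarTower R Rₚ Aₚ] [IsScalarTower R Rₚ Bₚ]
    [Algebra.FinitePresentation Rₚ Aₚ] [Algebra.FinitePresentation Rₚ Bₚ]
    {N : Type u} [AddCommGroup N] [Module P N] [Module Aₚ N] [IsScalarTower P Aₚ N]
    (φ : S →ₗ[P] N) [IsLocalizedModule (Algebra.algebraMapSubmonoid P M) φ] :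
    Module.FinitePresentation Aₚ N := by
  obtain ⟨fp, hfp_def⟩ : ∃ fp : Aₚ →ₐ[Rₚ] Bₚ,
      fp = IsLocalization.mapₐ M Rₚ Aₚ Bₚ (IsScalarTower.toAlgHom R P S) := ⟨_, rfl⟩
  have hfp : Function.Surjective fp := by
    rw [hfp_def]
    exact IsLocalization.mapₐ_surjective_of_surjective M Rₚ Aₚ Bₚ _ hsurj
  have hker : (RingHom.ker fp.toRingHom).FG :=
    Algebra.FinitePresentation.ker_fG_of_surjective fp hfp
  letI : Algebra Aₚ Bₚ := fp.toRingHom.toAlgebra
  letI : Algebra P Bₚ := ((algebraMap S Bₚ).comp (algebraMap P S)).toAlgebra
  haveI : IsScalarTower P S Bₚ := IsScalarTower.of_algebraMap_eq (fun _ => rfl)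
  haveI : IsScalarTower P Aₚ Bₚ := IsScalarTower.of_algebraMap_eq (fun x => by
    show algebraMap S Bₚ (algebraMap P S x) = fp (algebraMap P Aₚ x)
    rw [hfp_def, IsLocalization.mapₐ_coe, IsLocalization.map_eq]
    rfl)
  haveI : Module.FinitePresentation Aₚ Bₚ :=
    Module.finitePresentation_of_surjective (Algebra.linearMap Aₚ Bₚ) hfp (by
      have : LinearMap.ker (Algebra.linearMap Aₚ Bₚ) = RingHom.ker fp.toRingHom := by
        ext x
        rfl
      rw [this]
      exact hker)
  haveI : IsLocalization (Algebra.algebraMapSubmonoid S (Algebra.algebraMapSubmonoid P M)) Bₚ := by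
    have : Algebra.algebraMapSubmonoid S (Algebra.algebraMapSubmonoid P M) =
        Algebra.algebraMapSubmonoid S M := by
      show Submonoid.map (algebraMap P S) (Submonoid.map (algebraMap R P) M) =
        Submonoid.map (algebraMap R S) M
      rw [IsScalarTower.algebraMap_eq R P S]
      exact Submonoid.map_map _ _ _
    rw [this]
    infer_instance
  haveI : IsLocalizedModule (Algebra.algebraMapSubmonoid P M)
      (IsScalarTower.toAlgHom P S Bₚ).toLinearMap := inferInstance
  obtain ⟨e⟩ : Nonempty (N ≃ₗ[P] Bₚ) :=
    ⟨IsLocalizedModule.linearEquiv (Algebra.algebraMapSubmonoid P M) φ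
      (IsScalarTower.toAlgHom P S Bₚ).toLinearMap⟩
  exact Module.FinitePresentation.of_equiv
    (e.extendScalarsOfIsLocalization (Algebra.algebraMapSubmonoid P M) Aₚ).symm

theorem main6932 {R S : Type u} [CommRing R] [CommRing S]
    [Algebra R S] [Algebra.FiniteType R S] [Module.Flat R S] (s : Finset (PrimeSpectrum R))
    (hs : Function.Injective fun r : R => fun p : s =>
      algebraMap R (Localization.AtPrime p.1.asIdeal) r)
    (hloc : ∀ (p : Ideal R) [p.IsPrime],
      Algebra.FinitePresentation (Localization.AtPrime p)
        (Localization (Algebra.algebraMapSubmonoid S p.primeCompl))) :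
    Algebra.FinitePresentation R S := by
  obtain ⟨n, f, hf⟩ := Algebra.FiniteType.iff_quotient_mvPolynomial''.mp
    (inferInstance : Algebra.FiniteType R S)
  letI : Algebra (MvPolynomial (Fin n) R) S := f.toRingHom.toAlgebra
  haveI : IsScalarTower R (MvPolynomial (Fin n) R) S :=
    IsScalarTower.of_algebraMap_eq (fun r => (f.commutes r).symm)
  have hsurj : Function.Surjective (algebraMap (MvPolynomial (Fin n) R) S) := hf
  haveI : Module.Finite (MvPolynomial (Fin n) R) S :=
    Module.Finite.of_surjective (Algebra.linearMap (MvPolynomial (Fin n) R) S) hsurj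
  have key : Module.FinitePresentation (MvPolynomial (Fin n) R) S :=
    FlatFPH1.main2050 n s hs (fun p _ => by
      haveI := hloc p
      haveI := fp_localization (R := R) (P := MvPolynomial (Fin n) R) p.primeCompl
      exact fp_module_of_isLocalization hsurj p.primeCompl (Localization.AtPrime p)
        (Localization (Algebra.algebraMapSubmonoid (MvPolynomial (Fin n) R) p.primeCompl))
        (Localization (Algebra.algebraMapSubmonoid S p.primeCompl))
        (LocalizedModule.mkLinearMap
          (Algebra.algebraMapSubmonoid (MvPolynomial (Fin n) R) p.primeCompl) S))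
  have hfg : (LinearMap.ker (Algebra.linearMap (MvPolynomial (Fin n) R) S)).FG :=
    Module.FinitePresentation.fg_ker _ hsurj
  refine ⟨n, f, hf, ?_⟩
  have : LinearMap.ker (Algebra.linearMap (MvPolynomial (Fin n) R) S) =
      RingHom.ker f.toRingHom := by
    ext x
    rfl
  rw [← this]
  exact hfg

end Groth.Agent.Lib.FlatFPAlgH1
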