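import Mathlib

/-!
# Flat finitely presented algebras over a ring with finitely many irreducible components
-/

universe u

namespace Groth.Agent.Lib.FlatFPComponents

open TensorProduct

lemma finite_minimalPrimes_iff (R : Type u) [CommRing R] :
    (irreducibleComponents (PrimeSpectrum R)).Finite ↔ (minimalPrimes R).Finite := by
  rw [← Set.finite_coe_iff, ← Set.finite_coe_iff]
  constructor
  · intro h
    haveI := h
    exact Finite.of_equiv _
      ((minimalPrimes.equivIrreducibleComponents R).toEquiv.trans OrderDual.ofDual).symm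
  · intro h
    haveI := h
    exact Finite.of_equiv _
      ((minimalPrimes.equivIrreducibleComponents R).toEquiv.trans OrderDual.ofDual)

lemma symm_coe (A B : Type u) [CommRing A] [CommRing B] [Algebra A B] (p : Ideal A) [p.IsPrime]
    (y : PrimeSpectrum (p.Fiber B)) :
    ((PrimeSpectrum.primesOverOrderIsoFiber A B p).symm y : Ideal B) =
      y.asIdeal.comap (Algebra.TensorProduct.includeRight : B →ₐ[A] p.Fiber B).toRingHom := rfl

theorem main (A B : Type u) [CommRing A] [CommRing B] [Algebra A B]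
    [Module.Flat A B] [Algebra.FinitePresentation A B]
    (h : (irreducibleComponents (PrimeSpectrum A)).Finite) :
    (irreducibleComponents (PrimeSpectrum B)).Finite := by
  rw [finite_minimalPrimes_iff] at h ⊢
  have hcover : minimalPrimes B ⊆
      ⋃ p ∈ minimalPrimes A, {Q | Q ∈ minimalPrimes B ∧ Q.under A = p} := by
    intro Q hQ
    haveI hQp : Q.IsPrime := hQ.1.1
    haveI : (Q.under A).IsPrime := Ideal.comap_isPrime (algebraMap A B) Q
    simp only [Set.mem_iUnion, Set.mem_setOf_eq, exists_prop]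
    refine ⟨Q.under A, ?_, hQ, rfl⟩
    refine ⟨⟨inferInstance, bot_le⟩, ?_⟩
    rintro p' ⟨hp', -⟩ hle
    haveI := hp'
    obtain ⟨P, hPQ, hP, hPo⟩ :=
      Ideal.exists_ideal_le_liesOver_of_le (p := p') (q := Q.under A) Q hle
    have hQP : Q ≤ P := hQ.2 ⟨hP, bot_le⟩ hPQ
    have hPQ' : P = Q := le_antisymm hPQ hQP
    rw [hPo.over, hPQ']
  refine Set.Finite.subset (Set.Finite.biUnion h fun p hp => ?_) hcover
  haveI hpp : p.IsPrime := hp.1.1
  haveI : Algebra.FiniteType p.ResidueField (p.Fiber B) := inferInstance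
  haveI : IsNoetherianRing (p.Fiber B) := Algebra.FiniteType.isNoetherianRing p.ResidueField _
  refine Set.Finite.subset ((minimalPrimes.finite_of_isNoetherianRing (R := p.Fiber B)).image
    (fun q' => q'.comap (Algebra.TensorProduct.includeRight : B →ₐ[A] p.Fiber B).toRingHom)) ?_
  rintro Q ⟨hQ, hQp⟩
  have hQprime : Q.IsPrime := hQ.1.1
  have hQmem : Q ∈ p.primesOver B := ⟨hQprime, ⟨hQp.symm⟩⟩
  refine ⟨((PrimeSpectrum.primesOverOrderIsoFiber A B p) ⟨Q, hQmem⟩).asIdeal, ?_, ?_⟩
  · refine ⟨⟨((PrimeSpectrum.primesOverOrderIsoFiber A B p) ⟨Q, hQmem⟩).2, bot_le⟩, ?_⟩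
    rintro r ⟨hr, -⟩ hle
    have h1 : (PrimeSpectrum.primesOverOrderIsoFiber A B p).symm ⟨r, hr⟩ ≤ ⟨Q, hQmem⟩ := by
      rw [OrderIso.symm_apply_le]
      exact hle
    have h2 : Q ≤ ((PrimeSpectrum.primesOverOrderIsoFiber A B p).symm ⟨r, hr⟩).1 :=
      hQ.2 ⟨((PrimeSpectrum.primesOverOrderIsoFiber A B p).symm ⟨r, hr⟩).2.1, bot_le⟩ h1
    have h3 : (⟨Q, hQmem⟩ : p.primesOver B) ≤
        (PrimeSpectrum.primesOverOrderIsoFiber A B p).symm ⟨r, hr⟩ := h2
    exact (OrderIso.le_symm_apply _).mp h3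
  · show Ideal.comap _ ((PrimeSpectrum.primesOverOrderIsoFiber A B p) ⟨Q, hQmem⟩).asIdeal = Q
    rw [← symm_coe, OrderIso.symm_apply_apply]

end Groth.Agent.Lib.FlatFPComponents
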