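import Mathlib
import Groth.Agent.Lib.LocalCrit12_helper9
import Groth.Agent.Lib.LocalCrit13_helper9

/-!
# Flatness descends along finite injective maps of Noetherian rings

`T A` : for every finite injective `A → S` and `A`-module `M`, `S ⊗ M` flat over `S` implies
`M` flat over `A`.  We prove `T A` for every Noetherian ring `A` by Noetherian induction
(nilradical case, reduced non-domain case, domain case).
-/

namespace Groth.Agent.Lib.FlatFinInjH4

open TensorProduct Groth.Agent.Lib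

universe u

/-- The descent property for a base ring `A`. -/
def T (A : Type u) [CommRing A] : Prop :=
  ∀ (S : Type u) [CommRing S] [Algebra A S] [Module.Finite A S],
    Function.Injective (algebraMap A S) →
    ∀ (M : Type u) [AddCommGroup M] [Module A M], Module.Flat S (S ⊗[A] M) → Module.Flat A M

theorem flat_quotient_of_T {A : Type u} [CommRing A] (S : Type u) [CommRing S] [Algebra A S]
    [Module.Finite A S] (M : Type u) [AddCommGroup M] [Module A M] [Module.Flat S (S ⊗[A] M)]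
    (𝔟 : Ideal S) (hT : T (A ⧸ 𝔟.comap (algebraMap A S))) :
    Module.Flat (A ⧸ 𝔟.comap (algebraMap A S)) ((A ⧸ 𝔟.comap (algebraMap A S)) ⊗[A] M) := by
  haveI : Module.Flat (S ⧸ 𝔟) ((S ⧸ 𝔟) ⊗[A] M) :=
    LocalCrit8.flat_baseChange_of_algebra A S (S ⧸ 𝔟) M
  haveI : Module.Flat (S ⧸ 𝔟)
      ((S ⧸ 𝔟) ⊗[A ⧸ 𝔟.comap (algebraMap A S)] ((A ⧸ 𝔟.comap (algebraMap A S)) ⊗[A] M)) :=
    LocalCrit8.flat_baseChange_baseChange A (A ⧸ 𝔟.comap (algebraMap A S)) (S ⧸ 𝔟) M
  haveI : Module.Finite (A ⧸ 𝔟.comap (algebraMap A S)) (S ⧸ 𝔟) :=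
    Module.Finite.of_restrictScalars_finite A _ _
  exact hT (S ⧸ 𝔟) Ideal.algebraMap_quotient_injective _ inferInstance

theorem flat_of_flat_quot_bot {A : Type u} [CommRing A] (M : Type u) [AddCommGroup M]
    [Module A M] (J : Ideal A) (hJ : J = ⊥) [Module.Flat (A ⧸ J) ((A ⧸ J) ⊗[A] M)] :
    Module.Flat A M := by
  subst hJ
  refine LocalCrit2.flat_of_nilpotent (⊥ : Ideal A) ⟨1, pow_one _⟩ M ?_
  haveI : Subsingleton ((⊥ : Ideal A) ⊗[A] M) := inferInstance
  exact Function.injective_of_subsingleton _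

/-! ### Case (a): non-trivial nilradical -/

theorem T_of_nilradical (A : Type u) [CommRing A] [IsNoetherianRing A]
    (hT : ∀ 𝔞 : Ideal A, 𝔞 ≠ ⊥ → T (A ⧸ 𝔞)) (hnil : nilradical A ≠ ⊥) : T A := by
  intro S _ _ _ hinj M _ _ hfl
  haveI := hfl
  have hc : (nilradical S).comap (algebraMap A S) = nilradical A := by
    ext x
    rw [Ideal.mem_comap, mem_nilradical, mem_nilradical, IsNilpotent.map_iff hinj]
  have hT' : T (A ⧸ (nilradical S).comap (algebraMap A S)) := by
    rw [hc]; exact hT _ hnil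
  haveI : Module.Flat (A ⧸ (nilradical S).comap (algebraMap A S))
      ((A ⧸ (nilradical S).comap (algebraMap A S)) ⊗[A] M) :=
    flat_quotient_of_T S M (nilradical S) hT'
  have hnilp : IsNilpotent ((nilradical S).comap (algebraMap A S)) := by
    rw [hc]; exact IsNoetherianRing.isNilpotent_nilradical A
  exact LocalCrit8.flat_of_nilpotent_of_injective A S hinj _ hnilp M

/-! ### Case (b): reduced, not a domain -/

theorem T_of_reduced (A : Type u) [CommRing A] [IsNoetherianRing A]
    (hT : ∀ 𝔞 : Ideal A, 𝔞 ≠ ⊥ → T (A ⧸ 𝔞)) (hnil : nilradical A = ⊥)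
    (hprime : ¬ (⊥ : Ideal A).IsPrime) : T A := by
  intro S _ _ _ hinj M _ _ hfl
  haveI := hfl
  have hmin : ∀ p ∈ minimalPrimes A, Module.Flat (A ⧸ p) ((A ⧸ p) ⊗[A] M) := by
    intro p hp
    haveI hpp : p.IsPrime := hp.1.1
    have hpne : p ≠ ⊥ := by
      intro h
      rw [h] at hpp
      exact hprime hpp
    obtain ⟨Q, -, hQ, hQp⟩ := Ideal.exists_ideal_over_prime_of_isIntegral p (⊥ : Ideal S) (by
      intro x hx
      rw [Ideal.mem_comap, Ideal.mem_bot] at hx
      have : x = 0 := hinj (hx.trans (map_zero _).symm)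
      rw [this]; exact p.zero_mem)
    subst hQp
    exact flat_quotient_of_T S M Q (hT _ hpne)
  classical
  haveI : Fintype (minimalPrimes A) := (minimalPrimes.finite_of_isNoetherianRing A).fintype
  obtain ⟨e⟩ : Nonempty (minimalPrimes A ≃ Fin (Fintype.card (minimalPrimes A))) :=
    ⟨Fintype.equivFin _⟩
  obtain ⟨K, hK⟩ : ∃ K : Fin (Fintype.card (minimalPrimes A)) → Ideal A,
      K = fun i => ((e.symm i : minimalPrimes A) : Ideal A) := ⟨_, rfl⟩
  haveI := LocalCrit13.flat_mod_iInf M _ K (fun i => by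
    rw [hK]; exact hmin _ (e.symm i).2)
  refine flat_of_flat_quot_bot M (⨅ i, K i) ?_
  rw [eq_bot_iff]
  have h1 : sInf (minimalPrimes A) = (⊥ : Ideal A).radical := Ideal.sInf_minimalPrimes
  have h2 : (⊥ : Ideal A).radical = ⊥ := hnil
  have hle : (⨅ i, K i) ≤ sInf (minimalPrimes A) := by
    refine le_sInf fun p hp => ?_
    have hKp : K (e ⟨p, hp⟩) = p := by
      rw [hK]
      show ((e.symm (e ⟨p, hp⟩) : minimalPrimes A) : Ideal A) = p
      rw [Equiv.symm_apply_apply]
    exact (iInf_le K (e ⟨p, hp⟩)).trans (le_of_eq hKp)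
  exact le_of_le_of_eq hle (h1.trans h2)

/-! ### Case (c): domains -/

theorem exists_retraction (A : Type u) [CommRing A] [IsDomain A] (S : Type u) [CommRing S]
    [Algebra A S] [Module.Finite A S] (hinj : Function.Injective (algebraMap A S)) :
    ∃ g : A, g ≠ 0 ∧ ∃ π : S →ₗ[A] A, ∀ a : A, π (algebraMap A S a) = g * a := by
  classical
  obtain ⟨ι, hιdef⟩ : ∃ ι : A →ₗ[A] S, ι = Algebra.linearMap A S := ⟨_, rfl⟩
  have hι : Function.Injective ι := by rw [hιdef]; exact hinj
  have hιK : Function.Injective (ι.baseChange (FractionRing A)) := by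
    have h := Module.Flat.lTensor_preserves_injective_linearMap (M := FractionRing A) ι hι
    rwa [← LinearMap.baseChange_eq_ltensor] at h
  obtain ⟨φ, hφ⟩ := LinearMap.exists_leftInverse_of_injective (ι.baseChange (FractionRing A))
    (LinearMap.ker_eq_bot.mpr hιK)
  obtain ⟨ρ, hρdef⟩ : ∃ ρ : S →ₗ[A] FractionRing A,
      ρ = (TensorProduct.rid A (FractionRing A)).toLinearMap ∘ₗ (φ.restrictScalars A) ∘ₗ
        (TensorProduct.mk A (FractionRing A) S 1) := ⟨_, rfl⟩
  have hρ : ∀ a : A, ρ (algebraMap A S a) = algebraMap A (FractionRing A) a := by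
    intro a
    have h1 : (ι.baseChange (FractionRing A)) ((1 : FractionRing A) ⊗ₜ[A] a) =
        (1 : FractionRing A) ⊗ₜ[A] (algebraMap A S a) := by
      rw [LinearMap.baseChange_tmul, hιdef]; rfl
    have h2 : φ ((1 : FractionRing A) ⊗ₜ[A] (algebraMap A S a)) =
        (1 : FractionRing A) ⊗ₜ[A] a := by
      rw [← h1]; exact LinearMap.congr_fun hφ _
    rw [hρdef]
    show (TensorProduct.rid A (FractionRing A))
      (φ ((1 : FractionRing A) ⊗ₜ[A] (algebraMap A S a))) = _
    rw [h2, TensorProduct.rid_tmul, Algebra.algebraMap_eq_smul_one]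
  obtain ⟨s, hs⟩ := (Module.Finite.fg_top : (⊤ : Submodule A S).FG)
  obtain ⟨b, hb⟩ := IsLocalization.exist_integer_multiples_of_finset (nonZeroDivisors A)
    (s.image ρ)
  have hall : ∀ x : S, ∃ a : A, algebraMap A (FractionRing A) a = (b : A) • ρ x := by
    intro x
    have hx : x ∈ Submodule.span A (s : Set S) := by rw [hs]; trivial
    induction hx using Submodule.span_induction with
    | mem x hx =>
      obtain ⟨a, ha⟩ := hb (ρ x) (Finset.mem_image_of_mem ρ hx)
      exact ⟨a, ha⟩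
    | zero => exact ⟨0, by simp⟩
    | add x y _ _ hx hy =>
      obtain ⟨a, ha⟩ := hx
      obtain ⟨a', ha'⟩ := hy
      exact ⟨a + a', by rw [map_add, ha, ha', map_add, smul_add]⟩
    | smul r x _ hx =>
      obtain ⟨a, ha⟩ := hx
      refine ⟨r * a, ?_⟩
      rw [map_mul, ha, LinearMap.map_smul, smul_comm (b : A) r, Algebra.smul_def r]
  choose π hπ using hall
  have hinjK : Function.Injective (algebraMap A (FractionRing A)) :=
    IsFractionRing.injective A (FractionRing A)
  refine ⟨b, nonZeroDivisors.coe_ne_zero b,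
    { toFun := π, map_add' := ?_, map_smul' := ?_ }, ?_⟩
  · intro x y
    apply hinjK
    rw [map_add, hπ, hπ, hπ, map_add, smul_add]
  · intro r x
    apply hinjK
    rw [hπ, RingHom.id_apply, smul_eq_mul, map_mul, hπ, LinearMap.map_smul,
      smul_comm (b : A) r, Algebra.smul_def r]
  · intro a
    apply hinjK
    show algebraMap A (FractionRing A) (π (algebraMap A S a)) = _
    rw [hπ, hρ, map_mul, Algebra.smul_def]

theorem smul_ker_eq_zero {A : Type u} [CommRing A] (S : Type u) [CommRing S] [Algebra A S]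
    (M : Type u) [AddCommGroup M] [Module A M] [Module.Flat S (S ⊗[A] M)]
    (g : A) (π' : S →ₗ[A] A) (hπ' : ∀ a, π' (algebraMap A S a) = g * a)
    (I : Ideal A) (ξ : I ⊗[A] M) (hξ : I.subtype.rTensor M ξ = 0) : g • ξ = 0 := by
  obtain ⟨IS, hIS⟩ : ∃ IS : Ideal S, IS = I.map (algebraMap A S) := ⟨_, rfl⟩
  have hmem : ∀ x ∈ IS, ∀ s' : S, π' (s' * x) ∈ I := by
    intro x hx
    rw [hIS] at hx
    have hx' : x ∈ Submodule.span S (algebraMap A S '' (I : Set A)) := hx
    clear hx
    induction hx' using Submodule.span_induction with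
    | mem x hx =>
      obtain ⟨a, ha, rfl⟩ := hx
      intro s'
      have : s' * algebraMap A S a = a • s' := by rw [Algebra.smul_def, mul_comm]
      rw [this, map_smul, smul_eq_mul]
      exact I.mul_mem_right _ ha
    | zero => intro s'; rw [mul_zero, map_zero]; exact I.zero_mem
    | add x y _ _ hx hy => intro s'; rw [mul_add, map_add]; exact I.add_mem (hx s') (hy s')
    | smul c x _ hx =>
      intro s'
      rw [smul_eq_mul, ← mul_assoc]; exact hx (s' * c)
  let j : I →ₗ[A] IS :=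
    { toFun := fun a => ⟨algebraMap A S a, by rw [hIS]; exact Ideal.mem_map_of_mem _ a.2⟩
      map_add' := fun a b => Subtype.ext (by simp)
      map_smul' := fun r a => Subtype.ext (by simp [Algebra.smul_def]) }
  let πI : IS →ₗ[A] I :=
    { toFun := fun x => ⟨π' x, by have := hmem x x.2 1; rwa [one_mul] at this⟩
      map_add' := fun a b => Subtype.ext (by simp)
      map_smul' := fun r a => Subtype.ext (by simp) }
  have hcomp : πI ∘ₗ j = g • LinearMap.id := by
    refine LinearMap.ext fun a => Subtype.ext ?_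
    show π' (algebraMap A S a) = g * (a : A)
    exact hπ' a
  have hsq : (IS.subtype.restrictScalars A) ∘ₗ j = (Algebra.linearMap A S) ∘ₗ I.subtype :=
    LinearMap.ext fun a => rfl
  have hinj : Function.Injective ((IS.subtype.restrictScalars A).rTensor M) :=
    LocalCrit2.rTensor_subtype_injective S IS M
  have h1 : (IS.subtype.restrictScalars A).rTensor M (j.rTensor M ξ) = 0 := by
    rw [← LinearMap.comp_apply, ← LinearMap.rTensor_comp, hsq, LinearMap.rTensor_comp,
      LinearMap.comp_apply, hξ, map_zero]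
  have h2 : j.rTensor M ξ = 0 := hinj (h1.trans (map_zero _).symm)
  have h3 : (πI ∘ₗ j).rTensor M ξ = 0 := by
    rw [LinearMap.rTensor_comp, LinearMap.comp_apply, h2, map_zero]
  rw [hcomp, LinearMap.rTensor_smul, LinearMap.rTensor_id] at h3
  exact h3

theorem torsion_killed {A : Type u} [CommRing A] [IsDomain A] (S : Type u) [CommRing S]
    [Algebra A S] (M : Type u) [AddCommGroup M] [Module A M] [Module.Flat S (S ⊗[A] M)]
    (g : A) (π' : S →ₗ[A] A) (hπ' : ∀ a, π' (algebraMap A S a) = g * a)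
    (h : A) (hh : h ≠ 0) (μ : A ⊗[A] M) (hμ : h • μ = 0) : g • μ = 0 := by
  obtain ⟨J, hJ⟩ : ∃ J : Ideal A, J = Ideal.span {h} := ⟨_, rfl⟩
  let τ : A →ₗ[A] J :=
    { toFun := fun a => ⟨a * h, by rw [hJ]; exact Ideal.mem_span_singleton'.mpr ⟨a, rfl⟩⟩
      map_add' := fun a b => Subtype.ext (by simp [add_mul])
      map_smul' := fun r a => Subtype.ext (by simp [mul_assoc]) }
  have hτbij : Function.Bijective τ := by
    constructor
    · intro a b hab
      have : a * h = b * h := congrArg Subtype.val hab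
      exact mul_right_cancel₀ hh this
    · rintro ⟨x, hx⟩
      rw [hJ, Ideal.mem_span_singleton'] at hx
      obtain ⟨a, rfl⟩ := hx
      exact ⟨a, rfl⟩
  obtain ⟨e, he⟩ : ∃ e : A ≃ₗ[A] J, e = LinearEquiv.ofBijective τ hτbij := ⟨_, rfl⟩
  have hcomp : J.subtype ∘ₗ e.toLinearMap = h • LinearMap.id := by
    refine LinearMap.ext fun a => ?_
    rw [he]
    show a * h = h • a
    rw [smul_eq_mul, mul_comm]
  have hτinj : Function.Injective (e.toLinearMap.rTensor M) := by
    have hli : ∀ x, (e.symm.toLinearMap.rTensor M) (e.toLinearMap.rTensor M x) = x := by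
      intro x
      rw [← LinearMap.comp_apply, ← LinearMap.rTensor_comp]
      have : e.symm.toLinearMap ∘ₗ e.toLinearMap = LinearMap.id := by
        ext; simp
      rw [this, LinearMap.rTensor_id, LinearMap.id_apply]
    exact Function.LeftInverse.injective hli
  have h1 : J.subtype.rTensor M (e.toLinearMap.rTensor M μ) = 0 := by
    rw [← LinearMap.comp_apply, ← LinearMap.rTensor_comp, hcomp, LinearMap.rTensor_smul,
      LinearMap.rTensor_id]
    exact hμ
  have h2 : g • (e.toLinearMap.rTensor M μ) = 0 :=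
    smul_ker_eq_zero S M g π' hπ' J _ h1
  apply hτinj
  rw [map_smul, h2, map_zero]

theorem exists_eq_smul_smul {A : Type u} [CommRing A] [IsDomain A] [IsNoetherianRing A]
    (hT : ∀ 𝔞 : Ideal A, 𝔞 ≠ ⊥ → T (A ⧸ 𝔞))
    (S : Type u) [CommRing S] [Algebra A S] [Module.Finite A S]
    (hinj : Function.Injective (algebraMap A S))
    (M : Type u) [AddCommGroup M] [Module A M] [Module.Flat S (S ⊗[A] M)]
    (g : A) (hg : g ≠ 0) (I : Ideal A) (ξ : I ⊗[A] M) (hξ : I.subtype.rTensor M ξ = 0) :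
    ∃ ζ : I ⊗[A] M, ξ = g • g • ζ := by
  obtain ⟨k, hk⟩ := Ideal.exists_pow_inf_eq_pow_smul (Ideal.span {g})
    (Submodule.map (Algebra.linearMap A S) I)
  obtain ⟨𝔟, h𝔟⟩ : ∃ 𝔟 : Ideal S, 𝔟 = Ideal.span {algebraMap A S g ^ (k + 2)} := ⟨_, rfl⟩
  have hcont : ∀ i : A, i ∈ I → algebraMap A S i ∈ 𝔟 → ∃ i' ∈ I, i = g * g * i' := by
    intro i hiI hib
    rw [h𝔟, Ideal.mem_span_singleton'] at hib
    obtain ⟨s, hs⟩ := hib
    have h1 : algebraMap A S i ∈ (Ideal.span {g}) ^ (k + 2) • (⊤ : Submodule A S) ⊓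
        Submodule.map (Algebra.linearMap A S) I := by
      refine ⟨?_, ⟨i, hiI, rfl⟩⟩
      rw [Ideal.span_singleton_pow, ← hs]
      have : s * algebraMap A S g ^ (k + 2) = (g ^ (k + 2)) • s := by
        rw [Algebra.smul_def, map_pow, mul_comm]
      rw [this]
      exact Submodule.smul_mem_smul (Ideal.mem_span_singleton_self _) Submodule.mem_top
    rw [hk (k + 2) (Nat.le_add_right k 2), Nat.add_sub_cancel_left] at h1
    have h2 : algebraMap A S i ∈
        (Ideal.span {g}) ^ 2 • Submodule.map (Algebra.linearMap A S) I :=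
      Submodule.smul_mono le_rfl inf_le_right h1
    rw [Ideal.span_singleton_pow, Submodule.ideal_span_singleton_smul,
      Submodule.mem_smul_pointwise_iff_exists] at h2
    obtain ⟨y, ⟨i', hi', rfl⟩, hy⟩ := h2
    refine ⟨i', hi', hinj ?_⟩
    have : algebraMap A S (g * g * i') = g ^ 2 • Algebra.linearMap A S i' := by
      rw [Algebra.smul_def, Algebra.linearMap_apply, map_mul, pow_two]
    rw [this, hy]
  have hne : 𝔟.comap (algebraMap A S) ≠ ⊥ := by
    intro h
    have hmem : g ^ (k + 2) ∈ 𝔟.comap (algebraMap A S) := by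
      rw [Ideal.mem_comap, h𝔟, map_pow]
      exact Ideal.mem_span_singleton_self _
    rw [h, Ideal.mem_bot] at hmem
    exact pow_ne_zero _ hg hmem
  have hfl : Module.Flat (A ⧸ 𝔟.comap (algebraMap A S))
      ((A ⧸ 𝔟.comap (algebraMap A S)) ⊗[A] M) :=
    flat_quotient_of_T S M 𝔟 (hT _ hne)
  obtain ⟨𝔠, h𝔠⟩ : ∃ 𝔠 : Ideal A, 𝔠 = 𝔟.comap (algebraMap A S) := ⟨_, rfl⟩
  rw [← h𝔠] at hfl
  haveI := hfl
  obtain ⟨Q, hQ⟩ : ∃ Q : Ideal (A ⧸ 𝔠), Q = I.map (Ideal.Quotient.mk 𝔠) := ⟨_, rfl⟩
  let q' : I →ₗ[A] Q :=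
    { toFun := fun j => ⟨Ideal.Quotient.mk _ (j : A), by
        rw [hQ]; exact Ideal.mem_map_of_mem _ j.2⟩
      map_add' := fun a b => Subtype.ext (by simp)
      map_smul' := fun r a => Subtype.ext (by simp [Algebra.smul_def]) }
  have hq'surj : Function.Surjective q' := by
    rintro ⟨y, hy⟩
    rw [hQ, Ideal.mem_map_iff_of_surjective _ Ideal.Quotient.mk_surjective] at hy
    obtain ⟨j, hj, rfl⟩ := hy
    exact ⟨⟨j, hj⟩, rfl⟩
  have hex := rTensor_exact M (LinearMap.exact_subtype_ker_map q') hq'surj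
  have hinjQ : Function.Injective ((Q.subtype.restrictScalars A).rTensor M) :=
    LocalCrit2.rTensor_subtype_injective (A ⧸ 𝔠) Q M
  have hcomp : (Q.subtype.restrictScalars A) ∘ₗ q' =
      (Algebra.linearMap A (A ⧸ 𝔠)) ∘ₗ I.subtype := LinearMap.ext fun j => rfl
  have h1 : (Q.subtype.restrictScalars A).rTensor M (q'.rTensor M ξ) = 0 := by
    rw [← LinearMap.comp_apply, ← LinearMap.rTensor_comp, hcomp, LinearMap.rTensor_comp,
      LinearMap.comp_apply, hξ, map_zero]
  have h2 : q'.rTensor M ξ = 0 := hinjQ (h1.trans (map_zero _).symm)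
  obtain ⟨y, rfl⟩ := (hex ξ).mp h2
  clear h2 h1 hξ
  induction y using TensorProduct.induction_on with
  | zero => exact ⟨0, by simp⟩
  | tmul j' mm =>
    rw [LinearMap.rTensor_tmul]
    obtain ⟨⟨j, hjJ⟩, hj'⟩ := j'
    have hjc : j ∈ 𝔠 := by
      have : q' ⟨j, hjJ⟩ = 0 := hj'
      have := congrArg Subtype.val this
      exact Ideal.Quotient.eq_zero_iff_mem.mp this
    rw [h𝔠, Ideal.mem_comap] at hjc
    obtain ⟨i', hi', hji'⟩ := hcont j hjJ hjc
    refine ⟨(⟨i', hi'⟩ : I) ⊗ₜ[A] mm, ?_⟩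
    have hj_eq : (⟨j, hjJ⟩ : I) = g • g • (⟨i', hi'⟩ : I) :=
      Subtype.ext (by simp [hji', mul_assoc])
    show ((⟨j, hjJ⟩ : I) ⊗ₜ[A] mm) = _
    rw [TensorProduct.smul_tmul', TensorProduct.smul_tmul', ← hj_eq]
  | add u w hu hw =>
    obtain ⟨a, ha⟩ := hu
    obtain ⟨b, hb⟩ := hw
    exact ⟨a + b, by rw [map_add, ha, hb, smul_add, smul_add]⟩

theorem T_of_domain {A : Type u} [CommRing A] [IsDomain A] [IsNoetherianRing A]
    (hT : ∀ 𝔞 : Ideal A, 𝔞 ≠ ⊥ → T (A ⧸ 𝔞)) : T A := by
  intro S _ _ _ hinj M _ _ hfl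
  haveI := hfl
  obtain ⟨g, hg, π', hπ'⟩ := exists_retraction A S hinj
  rw [Module.Flat.iff_rTensor_injective']
  intro I
  rw [injective_iff_map_eq_zero]
  intro ξ hξ
  obtain ⟨ζ, rfl⟩ := exists_eq_smul_smul hT S hinj M g hg I ξ hξ
  have hμ : (g * g) • (I.subtype.rTensor M ζ) = 0 := by
    rw [mul_smul, ← map_smul, ← map_smul]; exact hξ
  have hμ1 : g • (I.subtype.rTensor M ζ) = 0 :=
    torsion_killed S M g π' hπ' (g * g) (mul_ne_zero hg hg) _ hμ
  have h3 : I.subtype.rTensor M (g • ζ) = 0 := by rw [map_smul]; exact hμ1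
  exact smul_ker_eq_zero S M g π' hπ' I (g • ζ) h3

/-! ### Noetherian induction -/

theorem step (A : Type u) [CommRing A] [IsNoetherianRing A]
    (hT : ∀ 𝔞 : Ideal A, 𝔞 ≠ ⊥ → T (A ⧸ 𝔞)) : T A := by
  by_cases hnil : nilradical A = ⊥
  · by_cases hprime : (⊥ : Ideal A).IsPrime
    · haveI := hprime
      haveI : IsDomain A := IsDomain.of_bot_isPrime A
      exact T_of_domain hT
    · exact T_of_reduced A hT hnil hprime
  · exact T_of_nilradical A hT hnil

theorem T_all (R : Type u) [CommRing R] [IsNoetherianRing R] : T R := by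
  have key : ∀ I : Ideal R, ∀ (A : Type u) [CommRing A] (f : R →+* A),
      Function.Surjective f → RingHom.ker f = I → T A := by
    intro I
    refine IsNoetherian.induction (P := fun I : Ideal R => ∀ (A : Type u) [CommRing A]
      (f : R →+* A), Function.Surjective f → RingHom.ker f = I → T A) ?_ I
    intro I ih A _ f hf hker
    haveI : IsNoetherianRing A := isNoetherianRing_of_surjective R A f hf
    refine step A ?_
    intro 𝔞 h𝔞
    refine ih (𝔞.comap f) ?_ (A ⧸ 𝔞) ((Ideal.Quotient.mk 𝔞).comp f) ?_ ?_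
    · rw [← hker]
      refine lt_of_le_of_ne ?_ ?_
      · intro x hx
        rw [Ideal.mem_comap, RingHom.mem_ker.mp hx]
        exact 𝔞.zero_mem
      · intro h
        apply h𝔞
        rw [eq_bot_iff]
        intro a ha
        obtain ⟨r, rfl⟩ := hf a
        have : r ∈ RingHom.ker f := by rw [h]; exact ha
        rw [Ideal.mem_bot]
        exact this
    · exact (Ideal.Quotient.mk_surjective).comp hf
    · ext x
      rw [RingHom.mem_ker, RingHom.comp_apply, Ideal.Quotient.eq_zero_iff_mem, Ideal.mem_comap]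
  exact key ⊥ R (RingHom.id R) Function.surjective_id (by ext x; simp [RingHom.mem_ker])

end Groth.Agent.Lib.FlatFinInjH4
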