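import Mathlib
import Groth.Prelude.Def_DRing2
import Groth.Prelude.Def_DDual2
import Groth.Agent.Lib.DMod49_helper6
import Groth.Agent.Lib.ShriekRange3_helper6

/-!
# Glueing flatness along `R → R_f × R/f` (helper6, S12899), part 1: the complex `F ⊗_R L` for an
`R'`-module `L` is `(F ⊗_R R') ⊗_{R'} L`.
-/

set_option autoImplicit false
set_option linter.style.haveILetI false
set_option linter.unusedSectionVars false
set_option linter.unusedVariables false
universe u
open CategoryTheory CategoryTheory.Limits DerivedCategory MonoidalCategory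
open scoped TensorProduct ChangeOfRings
attribute [local instance] HasDerivedCategory.standard

namespace Groth.Agent.Lib.FlatGlueH6

open DRing Groth.Agent.Lib.DMod_helper6 Groth.Agent.ExtendScalarsLib

section Bridge

variable {A B : Type u} [CommRing A] [CommRing B] [Algebra A B]
  (L : Type u) [AddCommGroup L] [Module A L] [Module B L] [IsScalarTower A B L]

/-- `(B ⊗_A X) ⊗_B L ≃ X ⊗_A L` -/
noncomputable def bridge (X : ModuleCat.{u} A) :
    (((ES A B).obj X : ModuleCat.{u} B) ⊗[B] L) ≃+ ((X : Type u) ⊗[A] L) :=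
  ((TensorProduct.congr (extendScalarsEquivTensor (S := B) X) (LinearEquiv.refl B L)).toAddEquiv).trans
    ((TensorProduct.comm B (B ⊗[A] X) L).toAddEquiv.trans
      ((TensorProduct.AlgebraTensorModule.cancelBaseChange A B B L X).toAddEquiv.trans
        (TensorProduct.comm A L X).toAddEquiv))

lemma bridge_tmul (X : ModuleCat.{u} A) (b : B) (x : X) (l : L) :
    bridge L X ((b ⊗ₜ[A,algebraMap A B] x) ⊗ₜ[B] l) = x ⊗ₜ[A] (b • l) := rfl

lemma bridge_naturality {X Y : ModuleCat.{u} A} (g : X ⟶ Y)
    (t : ((ES A B).obj X : ModuleCat.{u} B) ⊗[B] L) :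
    bridge L Y ((((ES A B).map g).hom.rTensor L) t) = (g.hom.rTensor L) (bridge L X t) := by
  induction t using TensorProduct.induction_on with
  | zero => simp
  | tmul y l =>
    obtain ⟨z, rfl⟩ := (extendScalarsEquivTensor (S := B) X).symm.surjective y
    induction z using TensorProduct.induction_on with
    | zero => simp
    | tmul b x =>
      have h1 : ((ES A B).map g).hom (b ⊗ₜ[A,algebraMap A B] x) =
          b ⊗ₜ[A,algebraMap A B] g.hom x :=
        ModuleCat.ExtendScalars.map_tmul (algebraMap A B) g b x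
      show bridge L Y ((((ES A B).map g).hom.rTensor L)
          ((b ⊗ₜ[A,algebraMap A B] x) ⊗ₜ[B] l)) =
        (g.hom.rTensor L) (bridge L X ((b ⊗ₜ[A,algebraMap A B] x) ⊗ₜ[B] l))
      rw [LinearMap.rTensor_tmul, h1, bridge_tmul, LinearMap.rTensor_tmul]
      exact bridge_tmul L Y b (g.hom x) l
    | add z₁ z₂ h₁ h₂ =>
      rw [map_add, TensorProduct.add_tmul, map_add, map_add, map_add, map_add, h₁, h₂]
  | add t₁ t₂ h₁ h₂ => rw [map_add, map_add, map_add, map_add, h₁, h₂]

/-- exactness of `F ⊗_A L` is exactness of `(F ⊗_A B) ⊗_B L` -/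
theorem exactAt_TN_iff_exactAt_TN_ESc (F : Cx A) (i : ℤ) :
    ((TN (ModuleCat.of A L)).obj F).ExactAt i ↔
      ((TN (ModuleCat.of B L)).obj
        (((ES A B).mapHomologicalComplex (ComplexShape.up ℤ)).obj F)).ExactAt i := by
  have key : Function.Exact
      ((((ES A B).map (F.d (i - 1) i)).hom.rTensor L))
      ((((ES A B).map (F.d i (i + 1))).hom.rTensor L)) ↔
      Function.Exact ((F.d (i - 1) i).hom.rTensor L) ((F.d i (i + 1)).hom.rTensor L) :=
    function_exact_iff_of_equiv (bridge L (F.X (i - 1))).toEquiv (bridge L (F.X i)).toEquiv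
      (bridge L (F.X (i + 1))).toEquiv (bridge L (F.X (i + 1))).map_zero _ _ _ _
      (fun t => bridge_naturality L _ t) (fun t => bridge_naturality L _ t)
  constructor
  · intro h
    refine exactAt_of_function_exact _ (i - 1) i (i + 1) (by omega) rfl ?_
    exact key.2 (function_exact_of_exactAt _ (i - 1) i (i + 1) (by omega) rfl h)
  · intro h
    refine exactAt_of_function_exact _ (i - 1) i (i + 1) (by omega) rfl ?_
    exact key.1 (function_exact_of_exactAt _ (i - 1) i (i + 1) (by omega) rfl h)

end Bridge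

end Groth.Agent.Lib.FlatGlueH6
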