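import Mathlib
import Groth.Agent.Lib.LocFib4_helper2
import Groth.Agent.Lib.DerivedAdj_helper2
import Groth.Agent.Lib.ExtendScalars_helper2
import Groth.Agent.Lib.FlatGlue1_helper2
import Groth.Agent.Lib.DMod9_helper6

/-!
# Flat maps inducing an isomorphism modulo an ideal, II: derived categories (helper2)

For `A → B` flat with `A/I ≅ B/IB`, `I = (f₁, …, f_r)`, and `L ∈ D(A)` with `I`-power torsion cohomology:
`Hom_{D(A)}(L, K) → Hom_{D(A)}(L, (B ⊗_A K)|_A)` is bijective for every `K ∈ D(A)`.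
-/

set_option autoImplicit false
universe u
open CategoryTheory CategoryTheory.Limits CategoryTheory.Pretriangulated DerivedCategory
open scoped TensorProduct

attribute [local instance] HasDerivedCategory.standard

namespace Groth.Agent.Lib.FlatGlue

open Groth.Agent.Lib.LocFib Groth.Agent.Lib.DerCompl

variable {A : Type u} [CommRing A]

section Abstract

variable (Φ : Dual.D A ⥤ Dual.D A) [Φ.CommShift ℤ] [Φ.IsTriangulated]
  (hΦ : ∀ (f : A) (Z : DRing.Cx A), ActsBij f Z →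
    ∃ Z' : DRing.Cx A, ActsBij f Z' ∧ Nonempty (Φ.obj (Q.obj Z) ≅ Q.obj Z'))

include hΦ in
theorem fib_bijective_postcomp_map (f : A) {F F' : Dual.D A} {q : F ⟶ F'} (h : Fib f q)
    (L : Dual.D A) (hL : Tors f L) :
    Function.Bijective (fun a : L ⟶ Φ.obj F => a ≫ Φ.map q) := by
  obtain ⟨Y, e, w, hT⟩ := h
  obtain ⟨Z', hZ', ⟨eZ⟩⟩ := hΦ f (Lf f Y) (actsBij_locCx f Y)
  have hT' := Φ.map_distinguished _ hT
  have h0 : ∀ a : L ⟶ Φ.obj (Q.obj (Lf f Y)), a = 0 := fun a =>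
    hom_eq_zero_of_tors f L hL Z' hZ' _ eZ a
  have h1 : ∀ a : L ⟶ (Φ.obj (Q.obj (Lf f Y)))⟦(-1 : ℤ)⟧, a = 0 := fun a =>
    hom_eq_zero_of_tors f L hL (Z'⟦(-1 : ℤ)⟧) (actsBij_shift f _ hZ' (-1)) _
      ((shiftFunctor (Dual.D A) (-1 : ℤ)).mapIso eZ ≪≫
        ((Q.commShiftIso (-1 : ℤ)).app Z').symm) a
  have hb := bijective_postcomp_of_distinguished _ hT' L h0 h1
  have hb' : Function.Bijective (fun a : L ⟶ Φ.obj F => a ≫ Φ.map (q ≫ e.hom)) := hb
  constructor
  · intro a a' haa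
    apply hb'.1
    show a ≫ Φ.map (q ≫ e.hom) = a' ≫ Φ.map (q ≫ e.hom)
    rw [Φ.map_comp, ← Category.assoc, ← Category.assoc]
    exact congrArg (· ≫ Φ.map e.hom) haa
  · intro b
    obtain ⟨a, ha⟩ := hb'.2 (b ≫ Φ.map e.hom)
    refine ⟨a, ?_⟩
    have ha' : a ≫ Φ.map (q ≫ e.hom) = b ≫ Φ.map e.hom := ha
    rw [Φ.map_comp, ← Category.assoc] at ha'
    exact (cancel_mono (Φ.map e.hom)).1 ha'

include hΦ in
theorem iterFib_bijective_postcomp_map : ∀ (fs : List A) {F K : Dual.D A} (p : F ⟶ K),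
    IterFib fs F K p → ∀ (L : Dual.D A), (∀ f ∈ fs, Tors f L) →
    Function.Bijective (fun a : L ⟶ Φ.obj F => a ≫ Φ.map p)
  | [], F, K, p, h, L, _ => by
    haveI : IsIso p := h
    constructor
    · intro a a' haa
      exact (cancel_mono (Φ.map p)).1 haa
    · intro b
      exact ⟨b ≫ inv (Φ.map p), by simp⟩
  | f :: fs, F, K, p, h, L, hL => by
    obtain ⟨F', q, p', h', hq, rfl⟩ := h
    have hb1 := fib_bijective_postcomp_map Φ hΦ f hq L (hL f (List.mem_cons_self))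
    have hb2 := iterFib_bijective_postcomp_map fs p' h' L
      (fun g hg => hL g (List.mem_cons_of_mem _ hg))
    have : (fun a : L ⟶ Φ.obj F => a ≫ Φ.map (q ≫ p')) =
        (fun b : L ⟶ Φ.obj F' => b ≫ Φ.map p') ∘ (fun a : L ⟶ Φ.obj F => a ≫ Φ.map q) := by
      funext a
      simp
    rw [this]
    exact hb2.comp hb1

include hΦ in
theorem bijective_postcomp_unit_aux (u : 𝟭 (Dual.D A) ⟶ Φ) (fs : List A) {F K : Dual.D A}
    (p : F ⟶ K) (hp0 : IterFib fs F K p) (hFiso : IsIso (u.app F)) (L : Dual.D A)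
    (hL : ∀ f ∈ fs, Tors f L) : Function.Bijective (fun a : L ⟶ K => a ≫ u.app K) := by
  have hb1 := IterFib.bijective_postcomp fs p hp0 L hL
  have hb2 := iterFib_bijective_postcomp_map Φ hΦ fs p hp0 L hL
  haveI := hFiso
  have hnat : p ≫ u.app K = u.app F ≫ Φ.map p := u.naturality p
  constructor
  · intro a a' haa
    obtain ⟨b, hb⟩ := hb1.2 a
    obtain ⟨b', hb'⟩ := hb1.2 a'
    have hb0 : b ≫ p = a := hb
    have hb0' : b' ≫ p = a' := hb'
    subst hb0 hb0'
    have haa' : (b ≫ p) ≫ u.app K = (b' ≫ p) ≫ u.app K := haa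
    have h2 : (b ≫ u.app F) ≫ Φ.map p = (b' ≫ u.app F) ≫ Φ.map p := by
      rw [Category.assoc, Category.assoc, ← hnat, ← Category.assoc, ← Category.assoc]
      exact haa'
    have h3 : b ≫ u.app F = b' ≫ u.app F := hb2.1 h2
    have h4 : b = b' := (cancel_mono (u.app F)).1 h3
    rw [h4]
  · intro c
    obtain ⟨d, hd⟩ := hb2.2 c
    have hd' : d ≫ Φ.map p = c := hd
    refine ⟨(d ≫ inv (u.app F)) ≫ p, ?_⟩
    show ((d ≫ inv (u.app F)) ≫ p) ≫ u.app K = c
    rw [Category.assoc, Category.assoc, hnat, IsIso.inv_hom_id_assoc]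
    exact hd'

include hΦ in
/-- if `u : 𝟭 ⟶ Φ` is an isomorphism on torsion objects, then it induces a bijection on maps from torsion
objects -/
theorem bijective_postcomp_unit (u : 𝟭 (Dual.D A) ⟶ Φ) (fs : List A)
    (hu : ∀ T : Dual.D A, (∀ f ∈ fs, Tors f T) → IsIso (u.app T)) (L K : Dual.D A)
    (hL : ∀ f ∈ fs, Tors f L) : Function.Bijective (fun a : L ⟶ K => a ≫ u.app K) := by
  let X := Q.objPreimage K
  let eK : Q.obj X ≅ K := Q.objObjPreimageIso K
  have hp0 := IterFib.of_iso fs (Q.map (cechP X fs)) (Iso.refl _) eK (iterFib_cech X fs)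
  exact bijective_postcomp_unit_aux Φ hΦ u fs _ hp0 (hu _ (IterFib.tors fs _ hp0)) L hL

end Abstract

end Groth.Agent.Lib.FlatGlue
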