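import Mathlib
import Groth.Prelude.Def_DRing2
import Groth.Prelude.Def_DDual2
import Groth.Agent.Lib.FlatGlue1_helper6

/-!
# Glueing flatness along `R → R_f × R/f` (helper6, S12899), part 2: dévissage in the module
variable for the vanishing of `H^i(F ⊗ N)`.
-/

set_option autoImplicit false
set_option linter.style.haveILetI false
set_option linter.unusedSectionVars false
set_option linter.unusedVariables false
universe u
open CategoryTheory CategoryTheory.Limits DerivedCategory MonoidalCategory
open scoped TensorProduct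
attribute [local instance] HasDerivedCategory.standard

namespace Groth.Agent.Lib.FlatGlueH6

open DRing Groth.Agent.Lib.DMod_helper6

section SES

variable {R : Type u} [CommRing R]

/-- the map `F ⊗ N₁ ⟶ F ⊗ N₂` induced by a map of modules -/
noncomputable def tnMap {N₁ N₂ : ModuleCat.{u} R} (h : N₁ ⟶ N₂) (F : Cx R) :
    (TN N₁).obj F ⟶ (TN N₂).obj F :=
  (NatTrans.mapHomologicalComplex ((MonoidalCategory.tensoringRight (ModuleCat.{u} R)).map h)
    (ComplexShape.up ℤ)).app F

lemma tnMap_f {N₁ N₂ : ModuleCat.{u} R} (h : N₁ ⟶ N₂) (F : Cx R) (j : ℤ) :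
    (tnMap h F).f j = (F.X j) ◁ h := rfl

lemma tnMap_f_hom {N₁ N₂ : ModuleCat.{u} R} (h : N₁ ⟶ N₂) (F : Cx R) (j : ℤ) :
    ((tnMap h F).f j).hom = h.hom.lTensor (F.X j) := rfl

variable {N' N N'' : Type u} [AddCommGroup N'] [AddCommGroup N] [AddCommGroup N'']
  [Module R N'] [Module R N] [Module R N'']
  (g : N' →ₗ[R] N) (p : N →ₗ[R] N'') (hg : Function.Injective g) (hgp : Function.Exact g p)
  (hp : Function.Surjective p) (F : Cx R) (hF : TermwiseFlat F)

/-- the short complex `F ⊗ N' ⟶ F ⊗ N ⟶ F ⊗ N''` -/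
noncomputable def tnSC (hgp : Function.Exact g p) : ShortComplex (Cx R) :=
  ShortComplex.mk (tnMap (ModuleCat.ofHom g) F) (tnMap (ModuleCat.ofHom p) F) (by
    ext j : 1
    apply ModuleCat.hom_ext
    show (p.lTensor (F.X j)).comp (g.lTensor (F.X j)) = 0
    rw [← LinearMap.lTensor_comp, hgp.linearMap_comp_eq_zero, LinearMap.lTensor_zero])

include hg hp hF in
lemma tnSC_shortExact : (tnSC g p F hgp).ShortExact := by
  refine HomologicalComplex.shortExact_of_degreewise_shortExact _ (fun j => ?_)
  haveI := hF j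
  refine { exact := ?_, mono_f := ?_, epi_g := ?_ }
  · rw [ShortComplex.ShortExact.moduleCat_exact_iff_function_exact]
    exact lTensor_exact (F.X j) hgp hp
  · exact (ModuleCat.mono_iff_injective _).2
      (Module.Flat.lTensor_preserves_injective_linearMap (M := F.X j) g hg)
  · exact (ModuleCat.epi_iff_surjective _).2 (LinearMap.lTensor_surjective (F.X j) hp)

include hg hp hF hgp in
/-- two out of three, middle term -/
lemma exactAt_TN_mid (i : ℤ) (h1 : ((TN (ModuleCat.of R N')).obj F).ExactAt i)
    (h3 : ((TN (ModuleCat.of R N'')).obj F).ExactAt i) :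
    ((TN (ModuleCat.of R N)).obj F).ExactAt i := by
  have hS := tnSC_shortExact g p hg hgp hp F hF
  rw [HomologicalComplex.exactAt_iff_isZero_homology] at h1 h3 ⊢
  exact (hS.homology_exact₂ i).isZero_of_both_zeros (h1.eq_of_src _ _) (h3.eq_of_tgt _ _)

include hg hp hF hgp in
/-- two out of three, left term -/
lemma exactAt_TN_left (i : ℤ) (h2 : ((TN (ModuleCat.of R N)).obj F).ExactAt i)
    (h3 : ((TN (ModuleCat.of R N'')).obj F).ExactAt (i - 1)) :
    ((TN (ModuleCat.of R N')).obj F).ExactAt i := by
  have hS := tnSC_shortExact g p hg hgp hp F hF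
  rw [HomologicalComplex.exactAt_iff_isZero_homology] at h2 h3 ⊢
  exact (hS.homology_exact₁ (i - 1) i (by simp)).isZero_of_both_zeros (h3.eq_of_src _ _)
    (h2.eq_of_tgt _ _)

end SES

end Groth.Agent.Lib.FlatGlueH6
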