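import Mathlib
import Groth.Agent.Lib.FlatGlue2_helper2

/-!
# Flat maps inducing an isomorphism modulo an ideal, III: the base change functor (helper2)
-/

set_option autoImplicit false
universe u
open CategoryTheory CategoryTheory.Limits CategoryTheory.Pretriangulated DerivedCategory
open scoped TensorProduct

attribute [local instance] HasDerivedCategory.standard

namespace Groth.Agent.Lib.FlatGlue

open Groth.Agent.Lib.LocFib Groth.Agent.Lib.DerCompl Groth.Agent.ExtendScalarsLib

variable (A B : Type u) [CommRing A] [CommRing B] [Algebra A B]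

/-- extension of scalars -/
noncomputable abbrev E : ModuleCat.{u} A ⥤ ModuleCat.{u} B :=
  ModuleCat.extendScalars.{u, u, u} (algebraMap A B)

/-- restriction of scalars -/
noncomputable abbrev Rs : ModuleCat.{u} B ⥤ ModuleCat.{u} A :=
  ModuleCat.restrictScalars.{u} (algebraMap A B)

/-- the adjunction -/
noncomputable abbrev adj0 : E A B ⊣ Rs A B :=
  ModuleCat.extendRestrictScalarsAdj.{u} (algebraMap A B)

instance : (E A B).Additive := (adj0 A B).left_adjoint_additive

variable {A B}

/-- the unit `M ⟶ (B ⊗ M)|_A` is an isomorphism on power torsion modules -/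
lemma isIso_unit_app [Module.Flat A B] (I : Ideal A)
    (hs : Function.Surjective
      ((Ideal.Quotient.mk (I.map (algebraMap A B))).comp (algebraMap A B)))
    (hk : RingHom.ker ((Ideal.Quotient.mk (I.map (algebraMap A B))).comp (algebraMap A B)) = I)
    (M : ModuleCat.{u} A) (hM : LocCoh.IsPowerTorsion I M) :
    IsIso ((adj0 A B).unit.app M) := by
  apply (ConcreteCategory.isIso_iff_bijective _).2
  have h := bijective_mk_of_isPowerTorsion I hs hk M hM
  have key : ∀ m : M, extendScalarsEquivTensor (S := B) M (((adj0 A B).unit.app M) m) =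
      TensorProduct.mk A B M 1 m := fun m => rfl
  have h2 : Function.Bijective ((extendScalarsEquivTensor (S := B) M) ∘
      (fun m : M => ((adj0 A B).unit.app M) m)) := by
    have : ((extendScalarsEquivTensor (S := B) M) ∘
      (fun m : M => ((adj0 A B).unit.app M) m)) = TensorProduct.mk A B M 1 := funext key
    rw [this]
    exact h
  exact (Function.Bijective.of_comp_iff' (extendScalarsEquivTensor (S := B) M).bijective _).1 h2

open ChangeOfRings in
set_option backward.isDefEq.respectTransparency false in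
lemma smul_eq_map (f : A) (M : ModuleCat.{u} A) (g : M ⟶ M) (hg : ∀ m : M, g m = f • m)
    (y : ((E A B).obj M : ModuleCat.{u} B)) :
    (algebraMap A B f) • y = ((E A B).map g) y := by
  induction y using TensorProduct.induction_on with
  | zero => exact (smul_zero _).trans (map_zero _).symm
  | tmul b m =>
    have aux : ∀ (b : B) (m : M), (algebraMap A B f) • (b ⊗ₜ[A, algebraMap A B] m : (E A B).obj M) =
        ((E A B).map g) (b ⊗ₜ[A, algebraMap A B] m) := by
      intro b m
      have h1 : (algebraMap A B f) • (b ⊗ₜ[A, algebraMap A B] m : (E A B).obj M) =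
          (algebraMap A B f * b) ⊗ₜ[A, algebraMap A B] m := rfl
      have h2 : (E A B).map g (b ⊗ₜ[A, algebraMap A B] m) = b ⊗ₜ[A, algebraMap A B] g m := rfl
      have h3 : (algebraMap A B f * b) ⊗ₜ[A, algebraMap A B] m =
          b ⊗ₜ[A, algebraMap A B] g m := by
        rw [hg]
        letI : Module A B := Module.compHom B (algebraMap A B)
        exact TensorProduct.smul_tmul f b m
      exact h1.trans (h3.trans h2.symm)
    exact aux b m
  | add x y hx hy =>
    exact (smul_add _ _ _).trans ((congrArg₂ (· + ·) hx hy).trans (map_add _ _ _).symm)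

/-- `f` acts bijectively on `(B ⊗ M)|_A` if it does on `M` -/
lemma actsBij_ER (f : A) (M : ModuleCat.{u} A) (h : Function.Bijective (fun y : M => f • y)) :
    Function.Bijective (fun y : ((Rs A B).obj ((E A B).obj M) : ModuleCat.{u} A) => f • y) := by
  let g : M ≅ M := smulIso f M h
  have hg : Function.Bijective ((E A B).map g.hom) :=
    (ConcreteCategory.isIso_iff_bijective ((E A B).map g.hom)).1 inferInstance
  have hfun : (fun y : ((Rs A B).obj ((E A B).obj M) : ModuleCat.{u} A) => f • y) =
      fun y => ((E A B).map g.hom) y := by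
    funext y
    exact smul_eq_map f M g.hom (fun m => rfl) y
  rw [hfun]
  exact hg

section Derived

lemma isPowerTorsion_of_forall_mem (fs : List A) (H : Type u) [AddCommGroup H] [Module A H]
    (h : ∀ g ∈ fs, ∀ x : H, ∃ k : ℕ, g ^ k • x = 0) :
    LocCoh.IsPowerTorsion (Ideal.span {x : A | x ∈ fs}) H := by
  intro x
  have hle : Ideal.span {x : A | x ∈ fs} ≤ (Ideal.torsionOf A H x).radical := by
    rw [Ideal.span_le]
    intro g hg
    obtain ⟨k, hk⟩ := h g hg x
    exact ⟨k, (Ideal.mem_torsionOf_iff x _).2 hk⟩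
  have hfg : (Ideal.span {x : A | x ∈ fs}).FG := Submodule.fg_span (List.finite_toSet fs)
  obtain ⟨n, hn⟩ := Ideal.exists_pow_le_of_le_radical_of_fg hle hfg
  exact ⟨n, fun a ha => (Ideal.mem_torsionOf_iff x a).1 (hn ha)⟩

lemma isPowerTorsion_HD_inD (I : Ideal A) (M : Type u) [AddCommGroup M] [Module A M]
    (hM : LocCoh.IsPowerTorsion I M) (i : ℤ) :
    LocCoh.IsPowerTorsion I (Dual.HD A (Dual.inD A M) i) := by
  intro x
  by_cases hi : i = 0
  · subst hi
    let e : Dual.HD A (Dual.inD A M) 0 ≃ₗ[A] M :=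
      (Groth.Agent.Lib.DMod_helper6.HDinDIso (ModuleCat.of A M)).toLinearEquiv
    obtain ⟨n, hn⟩ := hM (e x)
    refine ⟨n, fun a ha => ?_⟩
    apply e.injective
    rw [map_smul, map_zero]
    exact hn a ha
  · haveI : Subsingleton (Dual.HD A (Dual.inD A M) i) :=
      ModuleCat.subsingleton_of_isZero (Groth.Agent.Lib.DMod_helper6.isZero_HD_inD _ i hi)
    exact ⟨0, fun a _ => Subsingleton.elim _ _⟩

/-- conjugation by isomorphisms, additively -/
def homAddEquivOfIsos {C : Type*} [Category C] [Preadditive C] {X X' Y Y' : C} (eX : X ≅ X')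
    (eY : Y ≅ Y') : (X ⟶ Y) ≃+ (X' ⟶ Y') where
  toFun g := eX.inv ≫ g ≫ eY.hom
  invFun h := eX.hom ≫ h ≫ eY.inv
  left_inv g := by simp
  right_inv h := by simp
  map_add' g g' := by simp [Preadditive.add_comp, Preadditive.comp_add]

variable (A B) [Module.Flat A B]

instance : PreservesFiniteLimits (E A B) :=
  ModuleCat.preservesFiniteLimits_extendScalars_of_flat
    (RingHom.flat_algebraMap_iff.2 inferInstance)

/-- derived extension of scalars along the flat map -/
noncomputable abbrev E' : Dual.D A ⥤ Dual.D B := (E A B).mapDerivedCategory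

/-- derived restriction of scalars -/
noncomputable abbrev Rs' : Dual.D B ⥤ Dual.D A := (Rs A B).mapDerivedCategory

/-- extension of scalars on complexes -/
noncomputable abbrev EC : DRing.Cx A ⥤ DRing.Cx B :=
  (E A B).mapHomologicalComplex (ComplexShape.up ℤ)

/-- restriction of scalars on complexes -/
noncomputable abbrev RsC : DRing.Cx B ⥤ DRing.Cx A :=
  (Rs A B).mapHomologicalComplex (ComplexShape.up ℤ)

noncomputable instance : CatCommSq (EC A B) Q Q (E' A B) :=
  ⟨(E A B).mapDerivedCategoryFactors.symm⟩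

noncomputable instance : CatCommSq (RsC A B) Q Q (Rs' A B) :=
  ⟨(Rs A B).mapDerivedCategoryFactors.symm⟩

/-- the adjunction on complexes -/
noncomputable def adjC0 : EC A B ⊣ RsC A B :=
  Groth.Agent.Lib.DerivedAdj.adjC (adj0 A B) (ComplexShape.up ℤ)

/-- the adjunction on derived categories -/
noncomputable def adj' : E' A B ⊣ Rs' A B :=
  (adjC0 A B).localization Q (HomologicalComplex.quasiIso (ModuleCat.{u} A) (ComplexShape.up ℤ)) Q
    (HomologicalComplex.quasiIso (ModuleCat.{u} B) (ComplexShape.up ℤ)) (E' A B) (Rs' A B)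

variable {A B}

theorem quasiIso_unitC (X : DRing.Cx A)
    (hX : ∀ n : ℤ, IsIso ((adj0 A B).unit.app (X.homology n))) :
    QuasiIso ((adjC0 A B).unit.app X) := by
  rw [quasiIso_iff]
  intro n
  rw [quasiIsoAt_iff_isIso_homologyMap]
  let S := X.sc n
  have h := NatTrans.app_homology (adj0 A B).unit S
  haveI : IsIso ((adj0 A B).unit.app S.homology) := hX n
  have h2 : IsIso (ShortComplex.homologyMap (S.mapNatTrans (adj0 A B).unit)) := by
    have h' : ShortComplex.homologyMap (S.mapNatTrans (adj0 A B).unit) =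
        (S.mapHomologyIso (𝟭 _)).hom ≫ (adj0 A B).unit.app S.homology ≫
          (S.mapHomologyIso (E A B ⋙ Rs A B)).inv := by
      rw [h]
      simp
    rw [h']
    infer_instance
  exact h2

theorem hΦ_ER : ∀ (f : A) (Z : DRing.Cx A), ActsBij f Z →
    ∃ Z' : DRing.Cx A, ActsBij f Z' ∧
      Nonempty ((E' A B ⋙ Rs' A B).obj (Q.obj Z) ≅ Q.obj Z') := by
  intro f Z hZ
  refine ⟨(RsC A B).obj ((EC A B).obj Z), fun p => actsBij_ER f (Z.X p) (hZ p), ⟨?_⟩⟩
  exact (Rs' A B).mapIso ((E A B).mapDerivedCategoryFactors.app Z) ≪≫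
    (Rs A B).mapDerivedCategoryFactors.app ((EC A B).obj Z)

theorem isIso_adj'_unit_app (fs : List A)
    (hs : Function.Surjective ((Ideal.Quotient.mk ((Ideal.span {x : A | x ∈ fs}).map
      (algebraMap A B))).comp (algebraMap A B)))
    (hk : RingHom.ker ((Ideal.Quotient.mk ((Ideal.span {x : A | x ∈ fs}).map
      (algebraMap A B))).comp (algebraMap A B)) = Ideal.span {x : A | x ∈ fs})
    (T : Dual.D A) (hT : ∀ f ∈ fs, Tors f T) : IsIso ((adj' A B).unit.app T) := by
  let X := Q.objPreimage T
  let eT : Q.obj X ≅ T := Q.objObjPreimageIso T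
  have hX : ∀ f ∈ fs, TorsCx f X := fun f hf => (tors_Q_iff f X).1 ((hT f hf).of_iso eT.symm)
  have hH : ∀ n : ℤ, IsIso ((adj0 A B).unit.app (X.homology n)) := fun n =>
    isIso_unit_app _ hs hk _ (isPowerTorsion_of_forall_mem fs _ (fun g hg x => hX g hg n x))
  haveI := quasiIso_unitC X hH
  have h1 : IsIso ((adj' A B).unit.app (Q.obj X)) := by
    have := Adjunction.localization_unit_app (adjC0 A B) Q
      (HomologicalComplex.quasiIso (ModuleCat.{u} A) (ComplexShape.up ℤ)) Q
      (HomologicalComplex.quasiIso (ModuleCat.{u} B) (ComplexShape.up ℤ)) (E' A B) (Rs' A B) X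
    rw [show (adj' A B).unit.app (Q.obj X) = _ from this]
    haveI : IsIso (Q.map ((adjC0 A B).unit.app X)) := by
      rw [isIso_Q_map_iff_quasiIso]
      infer_instance
    infer_instance
  have hnat := (adj' A B).unit.naturality eT.hom
  have h3 : (adj' A B).unit.app T =
      eT.inv ≫ (adj' A B).unit.app (Q.obj X) ≫ (E' A B ⋙ Rs' A B).map eT.hom := by
    rw [← hnat]
    simp
  rw [h3]
  infer_instance

theorem bijective_postcomp_adj'_unit (fs : List A)
    (hs : Function.Surjective ((Ideal.Quotient.mk ((Ideal.span {x : A | x ∈ fs}).map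
      (algebraMap A B))).comp (algebraMap A B)))
    (hk : RingHom.ker ((Ideal.Quotient.mk ((Ideal.span {x : A | x ∈ fs}).map
      (algebraMap A B))).comp (algebraMap A B)) = Ideal.span {x : A | x ∈ fs})
    (L K : Dual.D A) (hL : ∀ f ∈ fs, Tors f L) :
    Function.Bijective (fun a : L ⟶ K => a ≫ (adj' A B).unit.app K) :=
  bijective_postcomp_unit (E' A B ⋙ Rs' A B) hΦ_ER (adj' A B).unit fs
    (fun T hT => isIso_adj'_unit_app fs hs hk T hT) L K hL

/-- `B ⊗_A M[0]` -/
noncomputable def eSingle (M : Type u) [AddCommGroup M] [Module A M] :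
    (E' A B).obj (Dual.inD A M) ≅ Dual.inD B (B ⊗[A] M) :=
  ((E A B).mapDerivedCategorySingleFunctor 0).app (ModuleCat.of A M) ≪≫
    (DerivedCategory.singleFunctor (ModuleCat.{u} B) 0).mapIso
      ((extendScalarsEquivTensor (S := B) (ModuleCat.of A M)).toModuleIso)

theorem main (I : Ideal A) (hI : I.FG)
    (hs : Function.Surjective
      ((Ideal.Quotient.mk (I.map (algebraMap A B))).comp (algebraMap A B)))
    (hk : RingHom.ker ((Ideal.Quotient.mk (I.map (algebraMap A B))).comp (algebraMap A B)) = I)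
    (M N : Type u) [AddCommGroup M] [Module A M] [AddCommGroup N] [Module A N]
    (hM : LocCoh.IsPowerTorsion I M) (i : ℤ) :
    Nonempty ((Dual.inD A M ⟶ (Dual.inD A N)⟦i⟧) ≃+
      (Dual.inD B (B ⊗[A] M) ⟶ (Dual.inD B (B ⊗[A] N))⟦i⟧)) := by
  obtain ⟨s, hs'⟩ := hI
  have hfs : Ideal.span {x : A | x ∈ s.toList} = I := by
    rw [← hs']
    congr 1
    ext x
    simp
  subst hfs
  have hL : ∀ f ∈ s.toList, Tors f (Dual.inD A M) := fun f hf =>
    tors_of_isPowerTorsion (isPowerTorsion_HD_inD _ M hM) (Ideal.subset_span hf)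
  have hb := bijective_postcomp_adj'_unit (B := B) s.toList hs hk (Dual.inD A M)
    ((Dual.inD A N)⟦i⟧) hL
  let e1 : (Dual.inD A M ⟶ (Dual.inD A N)⟦i⟧) ≃+
      (Dual.inD A M ⟶ (Rs' A B).obj ((E' A B).obj ((Dual.inD A N)⟦i⟧))) :=
    AddEquiv.ofBijective (Preadditive.rightComp (Dual.inD A M)
      ((adj' A B).unit.app ((Dual.inD A N)⟦i⟧))) hb
  haveI : (E' A B).Additive := (adj' A B).left_adjoint_additive
  let e2 := ((adj' A B).homAddEquiv (Dual.inD A M) ((E' A B).obj ((Dual.inD A N)⟦i⟧))).symm
  let eN : (E' A B).obj ((Dual.inD A N)⟦i⟧) ≅ (Dual.inD B (B ⊗[A] N))⟦i⟧ :=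
    ((E' A B).commShiftIso i).app (Dual.inD A N) ≪≫
      (shiftFunctor (Dual.D B) i).mapIso (eSingle N)
  exact ⟨e1.trans (e2.trans (homAddEquivOfIsos (eSingle M) eN))⟩

end Derived

end Groth.Agent.Lib.FlatGlue
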