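import Mathlib
import Groth.Prelude.Def_DRing2
import Groth.Prelude.Def_DDual2
import Groth.Agent.Lib.FlatGlue2_helper6

/-!
# Glueing flatness along `R → R_f × R/f` (helper6, S12899), part 3: from modules killed by `f` and
`R_f`-modules to all modules.
-/

set_option autoImplicit false
set_option linter.style.haveILetI false
set_option linter.unusedSectionVars false
set_option linter.unusedVariables false
universe u
open CategoryTheory CategoryTheory.Limits DerivedCategory MonoidalCategory
open scoped TensorProduct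
attribute [local instance] HasDerivedCategory.standard

namespace Groth.Agent.Lib.FlatGlueH6

open DRing Groth.Agent.Lib.DMod_helper6

section Union

variable {R : Type u} [CommRing R]

/-- every element of `C ⊗ T` comes from `C ⊗ T_n` for some member of an exhaustive increasing
family of submodules -/
lemma exists_lTensor_subtype_eq {C T : Type u} [AddCommGroup C] [AddCommGroup T] [Module R C]
    [Module R T] (Tn : ℕ → Submodule R T) (hmono : Monotone Tn) (hcov : ∀ x, ∃ n, x ∈ Tn n)
    (z : C ⊗[R] T) : ∃ (n : ℕ) (w : C ⊗[R] (Tn n)), ((Tn n).subtype.lTensor C) w = z := by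
  induction z using TensorProduct.induction_on with
  | zero => exact ⟨0, 0, map_zero _⟩
  | tmul x t =>
    obtain ⟨n, hn⟩ := hcov t
    exact ⟨n, x ⊗ₜ ⟨t, hn⟩, rfl⟩
  | add z₁ z₂ h₁ h₂ =>
    obtain ⟨n₁, w₁, rfl⟩ := h₁
    obtain ⟨n₂, w₂, rfl⟩ := h₂
    have l₁ : Tn n₁ ≤ Tn (max n₁ n₂) := hmono (le_max_left _ _)
    have l₂ : Tn n₂ ≤ Tn (max n₁ n₂) := hmono (le_max_right _ _)
    refine ⟨max n₁ n₂, ((Submodule.inclusion l₁).lTensor C) w₁ +
      ((Submodule.inclusion l₂).lTensor C) w₂, ?_⟩
    rw [map_add, ← LinearMap.comp_apply, ← LinearMap.comp_apply, ← LinearMap.lTensor_comp,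
      ← LinearMap.lTensor_comp, Submodule.subtype_comp_inclusion, Submodule.subtype_comp_inclusion]

/-- exactness of `C₀ ⊗ T → C₁ ⊗ T → C₂ ⊗ T` from exactness for an exhaustive increasing family of
submodules of `T` -/
theorem exact_rTensor_of_union {C₀ C₁ C₂ T : Type u} [AddCommGroup C₀] [AddCommGroup C₁]
    [AddCommGroup C₂] [AddCommGroup T] [Module R C₀] [Module R C₁] [Module R C₂] [Module R T]
    (d₀ : C₀ →ₗ[R] C₁) (d₁ : C₁ →ₗ[R] C₂) (hd : d₁.comp d₀ = 0) [Module.Flat R C₂]
    (Tn : ℕ → Submodule R T) (hmono : Monotone Tn) (hcov : ∀ x, ∃ n, x ∈ Tn n)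
    (hex : ∀ n, Function.Exact (d₀.rTensor (Tn n)) (d₁.rTensor (Tn n))) :
    Function.Exact (d₀.rTensor T) (d₁.rTensor T) := by
  intro z
  constructor
  · intro hz
    obtain ⟨n, w, rfl⟩ := exists_lTensor_subtype_eq Tn hmono hcov z
    have h1 : ((Tn n).subtype.lTensor C₂) ((d₁.rTensor (Tn n)) w) = 0 := by
      rw [← hz, ← LinearMap.comp_apply, ← LinearMap.comp_apply, LinearMap.lTensor_comp_rTensor,
        LinearMap.rTensor_comp_lTensor]
    have hinj : Function.Injective ((Tn n).subtype.lTensor C₂) :=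
      Module.Flat.lTensor_preserves_injective_linearMap (M := C₂) _ (Submodule.injective_subtype _)
    have h2 : (d₁.rTensor (Tn n)) w = 0 := hinj (by rw [h1, map_zero])
    obtain ⟨v, rfl⟩ := (hex n w).1 h2
    refine ⟨((Tn n).subtype.lTensor C₀) v, ?_⟩
    rw [← LinearMap.comp_apply, ← LinearMap.comp_apply, LinearMap.lTensor_comp_rTensor,
      LinearMap.rTensor_comp_lTensor]
  · rintro ⟨v, rfl⟩
    rw [← LinearMap.comp_apply, ← LinearMap.rTensor_comp, hd, LinearMap.rTensor_zero,
      LinearMap.zero_apply]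

end Union

section Good

variable {R : Type u} [CommRing R] (F : Cx R) (c : ℤ)

/-- `H^i(F ⊗ N) = 0` for `i < c` -/
def Good (N : Type u) [AddCommGroup N] [Module R N] : Prop :=
  ∀ i : ℤ, i < c → ((TN (ModuleCat.of R N)).obj F).ExactAt i

lemma good_of_subsingleton (N : Type u) [AddCommGroup N] [Module R N] [Subsingleton N] :
    Good F c N := by
  intro i _
  refine exactAt_of_isZero_X _ i ?_
  haveI : Subsingleton ((F.X i : Type u) ⊗[R] N) := by
    refine subsingleton_of_forall_eq 0 (fun z => ?_)
    induction z using TensorProduct.induction_on with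
    | zero => rfl
    | tmul x t => rw [Subsingleton.elim t 0, TensorProduct.tmul_zero]
    | add z₁ z₂ h₁ h₂ => rw [h₁, h₂, add_zero]
  exact ModuleCat.isZero_of_subsingleton (ModuleCat.of R ((F.X i : Type u) ⊗[R] N))

variable {F c} (hF : TermwiseFlat F)

include hF in
lemma good_mid {N' N N'' : Type u} [AddCommGroup N'] [AddCommGroup N] [AddCommGroup N'']
    [Module R N'] [Module R N] [Module R N'']
    (g : N' →ₗ[R] N) (p : N →ₗ[R] N'') (hg : Function.Injective g) (hgp : Function.Exact g p)
    (hp : Function.Surjective p) (h1 : Good F c N') (h3 : Good F c N'') : Good F c N :=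
  fun i hi => exactAt_TN_mid g p hg hgp hp F hF i (h1 i hi) (h3 i hi)

include hF in
lemma good_left {N' N N'' : Type u} [AddCommGroup N'] [AddCommGroup N] [AddCommGroup N'']
    [Module R N'] [Module R N] [Module R N'']
    (g : N' →ₗ[R] N) (p : N →ₗ[R] N'') (hg : Function.Injective g) (hgp : Function.Exact g p)
    (hp : Function.Surjective p) (h2 : Good F c N) (h3 : Good F c N'') : Good F c N' :=
  fun i hi => exactAt_TN_left g p hg hgp hp F hF i (h2 i hi) (h3 (i - 1) (by omega))

include hF in
/-- a submodule and the quotient by it are good, then so is the module -/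
lemma good_of_submodule {N : Type u} [AddCommGroup N] [Module R N] (S : Submodule R N)
    (h1 : Good F c S) (h3 : Good F c (N ⧸ S)) : Good F c N :=
  good_mid hF S.subtype S.mkQ (Submodule.injective_subtype S) (LinearMap.exact_subtype_mkQ S)
    (Submodule.mkQ_surjective S) h1 h3

variable (f : R)

include hF in
/-- modules killed by a power of `f` -/
lemma good_of_pow_torsion
    (hq : ∀ (N : Type u) [AddCommGroup N] [Module R N], (∀ x : N, f • x = 0) → Good F c N) :
    ∀ (n : ℕ) (N : Type u) [AddCommGroup N] [Module R N], (∀ x : N, f ^ n • x = 0) →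
      Good F c N := by
  intro n
  induction n with
  | zero =>
    intro N _ _ h
    haveI : Subsingleton N := subsingleton_of_forall_eq 0 (fun x => by
      have := h x
      rwa [pow_zero, one_smul] at this)
    exact good_of_subsingleton F c N
  | succ n ih =>
    intro N _ _ h
    let S : Submodule R N := LinearMap.range (LinearMap.lsmul R N f)
    refine good_of_submodule hF S ?_ ?_
    · refine ih S (fun x => ?_)
      obtain ⟨y, ⟨z, rfl⟩⟩ := x
      ext
      show f ^ n • (f • z) = 0
      rw [smul_smul, ← pow_succ]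
      exact h z
    · refine hq (N ⧸ S) (fun x => ?_)
      obtain ⟨y, rfl⟩ := Submodule.mkQ_surjective S x
      show S.mkQ (f • y) = 0
      exact (Submodule.Quotient.mk_eq_zero S).2 ⟨y, rfl⟩

include hF in
/-- `f`-power torsion modules -/
lemma good_of_powerTorsion
    (hq : ∀ (N : Type u) [AddCommGroup N] [Module R N], (∀ x : N, f • x = 0) → Good F c N)
    (T : Type u) [AddCommGroup T] [Module R T] (hT : ∀ x : T, ∃ n : ℕ, f ^ n • x = 0) :
    Good F c T := by
  let Tn : ℕ → Submodule R T := fun n => Submodule.torsionBy R T (f ^ n)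
  have hmono : Monotone Tn := by
    intro n m hnm x hx
    rw [Submodule.mem_torsionBy_iff] at hx ⊢
    obtain ⟨k, rfl⟩ := Nat.exists_eq_add_of_le hnm
    rw [pow_add, mul_comm, mul_smul, hx, smul_zero]
  have hcov : ∀ x, ∃ n, x ∈ Tn n := fun x => by
    obtain ⟨n, hn⟩ := hT x
    exact ⟨n, (Submodule.mem_torsionBy_iff _ _).2 hn⟩
  have hTn : ∀ n, Good F c (Tn n) := fun n =>
    good_of_pow_torsion hF f hq n (Tn n) (fun x => by
      ext
      exact (Submodule.mem_torsionBy_iff _ _).1 x.2)
  intro i hi
  refine exactAt_of_function_exact _ (i - 1) i (i + 1) (by omega) rfl ?_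
  rw [TN_d_hom, TN_d_hom]
  haveI := hF (i + 1)
  refine exact_rTensor_of_union (F.d (i - 1) i).hom (F.d i (i + 1)).hom ?_ Tn hmono hcov
    (fun n => ?_)
  · rw [← ModuleCat.hom_comp, F.d_comp_d, ModuleCat.hom_zero]
  · exact function_exact_of_exactAt ((TN (ModuleCat.of R (Tn n))).obj F) (i - 1) i (i + 1)
      (by omega) rfl (hTn n i hi)

include hF in
/-- **dévissage**: vanishing for modules killed by `f` and for localized modules implies vanishing
for all modules -/
theorem good_all
    (hq : ∀ (N : Type u) [AddCommGroup N] [Module R N], (∀ x : N, f • x = 0) → Good F c N)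
    (hl : ∀ (N : Type u) [AddCommGroup N] [Module R N],
      Good F c (LocalizedModule (Submonoid.powers f) N))
    (N : Type u) [AddCommGroup N] [Module R N] : Good F c N := by
  let S := Submonoid.powers f
  let T : Submodule R N := Submodule.torsion' R N S
  have hTgood : Good F c T := by
    refine good_of_powerTorsion hF f hq T (fun x => ?_)
    obtain ⟨⟨a, n, rfl⟩, ha⟩ := (Submodule.mem_torsion'_iff (↥S) (x : N)).1 x.2
    refine ⟨n, ?_⟩
    ext
    exact ha
  refine good_of_submodule hF T hTgood ?_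
  -- the torsion free quotient
  let Nb := N ⧸ T
  let ι : Nb →ₗ[R] LocalizedModule S Nb := LocalizedModule.mkLinearMap S Nb
  have hι : Function.Injective ι := by
    rw [injective_iff_map_eq_zero]
    intro x hx
    obtain ⟨⟨a, n, rfl⟩, ha⟩ := (IsLocalizedModule.eq_zero_iff S ι).1 hx
    obtain ⟨y, rfl⟩ := Submodule.mkQ_surjective T x
    have h1 : f ^ n • y ∈ T := (Submodule.Quotient.mk_eq_zero T).1 ha
    obtain ⟨⟨b, m, rfl⟩, hb⟩ := (Submodule.mem_torsion'_iff (↥S) _).1 h1
    refine (Submodule.Quotient.mk_eq_zero T).2 ((Submodule.mem_torsion'_iff (↥S) _).2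
      ⟨⟨f ^ (m + n), m + n, rfl⟩, ?_⟩)
    show f ^ (m + n) • y = 0
    rw [pow_add, mul_smul]
    exact hb
  let C := LocalizedModule S Nb ⧸ LinearMap.range ι
  have hC : Good F c C := by
    refine good_of_powerTorsion hF f hq C (fun x => ?_)
    obtain ⟨y, rfl⟩ := Submodule.mkQ_surjective (LinearMap.range ι) x
    obtain ⟨⟨m, ⟨a, n, rfl⟩⟩, hm⟩ := IsLocalizedModule.surj S ι y
    refine ⟨n, ?_⟩
    show (LinearMap.range ι).mkQ (f ^ n • y) = 0
    exact (Submodule.Quotient.mk_eq_zero _).2 ⟨m, hm.symm⟩
  exact good_left hF ι (LinearMap.range ι).mkQ hι (LinearMap.exact_map_mkQ_range ι)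
    (Submodule.mkQ_surjective _) (hl Nb) hC

end Good

end Groth.Agent.Lib.FlatGlueH6
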