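import Mathlib
import Groth.Prelude.Def_DRing2
import Groth.Prelude.Def_DDual2
import Groth.Agent.Lib.FlatGlue3_helper6
import Groth.Agent.Lib.DMod50_helper6
import Groth.Agent.Lib.DMod48_helper6
import Groth.Agent.Lib.DMod43_helper6

/-!
# Glueing flatness along `R → R_f × R/f` (helper6, S12899), part 4: the theorem.
-/

set_option autoImplicit false
set_option linter.style.haveILetI false
set_option linter.unusedSectionVars false
set_option linter.unusedVariables false
universe u
open CategoryTheory CategoryTheory.Limits DerivedCategory MonoidalCategory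
open scoped TensorProduct
attribute [local instance] HasDerivedCategory.standard

namespace Groth.Agent.Lib.FlatGlueH6

open DRing Groth.Agent.Lib.DMod_helper6 Groth.Agent.Lib.ShriekRangeH6

section Main

variable {R : Type u} [CommRing R]

/-- if the derived base change of `toD F` to `B` is a flat module in degree `0`, then
`H^i(F ⊗_R L) = 0` for `i < 0` and every `B`-module `L` -/
theorem good_of_lBaseChange_flat (B : Type u) [CommRing B] [Algebra R B]
    [DRing.HasLBaseChange (algebraMap R B)] (F : Cx R) (hFb : VanishesAbove F 0)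
    (hFf : TermwiseFlat F) (N₀ : Type u) [AddCommGroup N₀] [Module B N₀] [Module.Flat B N₀]
    (e : (DRing.LBaseChange (algebraMap R B)).obj (toD F) ≅ Dual.inD B N₀)
    (L : Type u) [AddCommGroup L] [Module R L] [Module B L] [IsScalarTower R B L] :
    Good F 0 L := by
  obtain ⟨eL⟩ := nonempty_lBaseChange_iso_of_flat (algebraMap R B) F 0 hFb hFf
  have h0 : HasTorAmplitudeIn B 0 0 (Dual.inD B N₀) :=
    (hasTorAmplitudeIn_zero_zero_iff_flat N₀).2 inferInstance
  have h1 : HasTorAmplitudeIn B 0 0
      (toD (((ES R B).mapHomologicalComplex (ComplexShape.up ℤ)).obj F)) :=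
    hasTorAmplitudeIn_of_iso (e.symm ≪≫ eL) 0 0 h0
  intro i hi
  rw [exactAt_TN_iff_exactAt_TN_ESc (B := B) L F i]
  exact exactAt_TN_of_hasTorAmplitudeIn _ 0
    (fun j hj => (ES R B).map_isZero (hFb j hj))
    (fun j => flat_ES (B := B) (F.X j) (hFf j)) 0 0 h1 (ModuleCat.of B L) i hi

/-- **S12899** -/
theorem main12899 (f : R) (M : Dual.D R)
    [DRing.HasLBaseChange (algebraMap R (Localization.Away f))]
    [DRing.HasLBaseChange (Ideal.Quotient.mk (Ideal.span ({f} : Set R)))]
    (h1 : ∀ i : ℤ, 0 < i → Subsingleton (Dual.HD R M i))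
    (h2 : ∃ (N : Type u) (_ : AddCommGroup N) (_ : Module (Localization.Away f) N),
      Module.Flat (Localization.Away f) N ∧
        Nonempty ((DRing.LBaseChange (algebraMap R (Localization.Away f))).obj M ≅
          Dual.inD (Localization.Away f) N))
    (h3 : ∃ (N : Type u) (_ : AddCommGroup N) (_ : Module (R ⧸ Ideal.span ({f} : Set R)) N),
      Module.Flat (R ⧸ Ideal.span ({f} : Set R)) N ∧
        Nonempty ((DRing.LBaseChange (Ideal.Quotient.mk (Ideal.span ({f} : Set R)))).obj M ≅
          Dual.inD (R ⧸ Ideal.span ({f} : Set R)) N)) :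
    ∃ (N : Type u) (_ : AddCommGroup N) (_ : Module R N),
      Module.Flat R N ∧ Nonempty (M ≅ Dual.inD R N) := by
  haveI : DerivedCategory.IsLE M 0 := isLE_of_subsingleton_HD M 0 h1
  obtain ⟨F, hFfree, hFb, ⟨e⟩⟩ := exists_free_resolution M 0
  have hFf : TermwiseFlat F := fun j => by haveI := hFfree j; exact Module.Flat.of_free
  obtain ⟨N₂, _, _, hN₂, ⟨e₂⟩⟩ := h2
  obtain ⟨N₃, _, _, hN₃, ⟨e₃⟩⟩ := h3
  haveI hL3 : DRing.HasLBaseChange (algebraMap R (R ⧸ Ideal.span ({f} : Set R))) :=
    ‹DRing.HasLBaseChange (Ideal.Quotient.mk (Ideal.span ({f} : Set R)))›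
  have e₃' : (DRing.LBaseChange (algebraMap R (R ⧸ Ideal.span ({f} : Set R)))).obj M ≅
      Dual.inD (R ⧸ Ideal.span ({f} : Set R)) N₃ := e₃
  -- modules killed by `f`
  have hq : ∀ (N : Type u) [AddCommGroup N] [Module R N], (∀ x : N, f • x = 0) →
      Good F 0 N := by
    intro N _ _ hN
    have hT : Module.IsTorsionBy R N f := hN
    letI := hT.module
    exact good_of_lBaseChange_flat (R ⧸ Ideal.span ({f} : Set R)) F hFb hFf N₃
      ((DRing.LBaseChange (algebraMap R (R ⧸ Ideal.span ({f} : Set R)))).mapIso e ≪≫ e₃') N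
  -- localized modules
  have hl : ∀ (N : Type u) [AddCommGroup N] [Module R N],
      Good F 0 (LocalizedModule (Submonoid.powers f) N) := by
    intro N _ _
    exact good_of_lBaseChange_flat (Localization.Away f) F hFb hFf N₂
      ((DRing.LBaseChange (algebraMap R (Localization.Away f))).mapIso e ≪≫ e₂)
      (LocalizedModule (Submonoid.powers f) N)
  have hall := fun (N : Type u) [AddCommGroup N] [Module R N] => good_all hFf f hq hl N
  -- tor amplitude `[0, 0]`
  have hamp : HasTorAmplitudeIn R 0 0 (toD F) := by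
    refine hasTorAmplitudeIn_of_TN_exact' F 0 0 hFb hFf ?_ ?_
    · intro i hi
      exact exactAt_of_iso (tnUnit F) i (hall R i hi)
    · intro N
      exact hall N (0 - 1) (by norm_num)
  have hampM : HasTorAmplitudeIn R 0 0 M := hasTorAmplitudeIn_of_iso e 0 0 hamp
  haveI : DerivedCategory.IsGE M 0 := isGE_of_subsingleton_HD M 0 (fun i hi =>
    subsingleton_HD_of_hasTorAmplitudeIn M 0 0 hampM i (Or.inl hi))
  obtain ⟨Y, ⟨eY⟩⟩ := DerivedCategory.exists_iso_singleFunctor_obj_of_isGE_of_isLE M 0
  have eY' : M ≅ Dual.inD R Y := eY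
  refine ⟨Y, inferInstance, inferInstance, ?_, ⟨eY'⟩⟩
  exact (hasTorAmplitudeIn_zero_zero_iff_flat Y).1 (hasTorAmplitudeIn_of_iso eY' 0 0 hampM)

end Main

end Groth.Agent.Lib.FlatGlueH6
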