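import Mathlib

/-!
# Flat modules inherit the Hartogs property of the ring (helper4)

For a flat module `M` over a Noetherian ring `R` and an ideal `J`:
* `eq_zero_of_forall_smul_eq_zero`: if `J` has zero annihilator in `R`, it has zero annihilator in
  `M`;
* `exists_smul_eq`: if every `R`-linear map `J → R` is a multiplication, so is every `R`-linear map
  `J → M`.
Both use the equational criterion for flatness.
APPEND-ONLY once landed.
-/

set_option autoImplicit false
universe u

namespace Groth.Agent.Lib.FlatHartAlgH4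

variable {R : Type u} [CommRing R] [IsNoetherianRing R] {M : Type u} [AddCommGroup M] [Module R M]
  [Module.Flat R M]

theorem eq_zero_of_forall_smul_eq_zero (J : Ideal R)
    (h0 : ∀ r : R, (∀ y ∈ J, y * r = 0) → r = 0)
    (m : M) (hm : ∀ y ∈ J, y • m = 0) : m = 0 := by
  haveI : Module.Finite R J := Module.Finite.iff_fg.mpr (IsNoetherian.noetherian J)
  have hx : (LinearMap.toSpanSingleton R M m) ∘ₗ (Submodule.subtype J) = 0 := by
    ext y
    show LinearMap.toSpanSingleton R M m (y : R) = 0
    rw [LinearMap.toSpanSingleton_apply]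
    exact hm y y.2
  obtain ⟨k, a, y, hxy, haf⟩ := Module.Flat.exists_factorization_of_comp_eq_zero_of_free hx
  have hv : a 1 = 0 := by
    ext c
    apply h0
    intro z hz
    have h1 : a (z : R) = 0 := LinearMap.congr_fun haf ⟨z, hz⟩
    have h2 : z • a 1 = a z := by rw [← map_smul, smul_eq_mul, mul_one]
    have h3 : (z • a 1) c = 0 := by rw [h2, h1]; rfl
    rw [Finsupp.smul_apply, smul_eq_mul] at h3
    exact h3
  have h4 : m = LinearMap.toSpanSingleton R M m 1 := by
    rw [LinearMap.toSpanSingleton_apply, one_smul]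
  rw [h4, hxy, LinearMap.comp_apply, hv, map_zero]

theorem exists_smul_eq (J : Ideal R)
    (h1 : ∀ φ : J →ₗ[R] R, ∃ u : R, ∀ y : J, φ y = (y : R) * u)
    (ψ : J →ₗ[R] M) : ∃ n : M, ∀ y : J, ψ y = (y : R) • n := by
  haveI : Module.Finite R J := Module.Finite.iff_fg.mpr (IsNoetherian.noetherian J)
  haveI : Module.FinitePresentation R J := Module.finitePresentation_of_finite R J
  obtain ⟨k, h₂, h₃, h⟩ := Module.Flat.exists_factorization_of_finitePresentation ψ
  choose u hu using fun c : Fin k => h1 ((Finsupp.lapply c) ∘ₗ h₂)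
  let U : Fin k →₀ R := Finsupp.equivFunOnFinite.symm u
  have hU : ∀ y : J, h₂ y = (y : R) • U := by
    intro y
    ext c
    have := hu c y
    rw [LinearMap.comp_apply, Finsupp.lapply_apply] at this
    rw [this, Finsupp.smul_apply, smul_eq_mul]
    rfl
  refine ⟨h₃ U, fun y => ?_⟩
  rw [h, LinearMap.comp_apply, hU y, map_smul]

end Groth.Agent.Lib.FlatHartAlgH4
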