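import Mathlib

/-!
# Extending maps into the `a`-power-torsion of an injective module (helper4)

Pure algebra: over a Noetherian ring `A`, for an injective module `E`, ideals `a b`, and a linear
map `φ : b → E` whose values are killed by powers of `a`, there is `e : E` killed by a power of
`a` with `x • e = φ x` on `b` (Hartshorne III.3.2: `Γ_a(E)` is injective; Artin–Rees + Baer).
APPEND-ONLY once landed.
-/

set_option autoImplicit false
universe u

namespace Groth.Agent.Lib.GammaZInjH4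

variable {A : Type u} [CommRing A] [IsNoetherianRing A] {E : Type u} [AddCommGroup E] [Module A E]

theorem exists_uniform_pow (a b : Ideal A) (φ : b →ₗ[A] E)
    (hφ : ∀ x : b, ∃ n : ℕ, ∀ y ∈ a ^ n, y • φ x = 0) :
    ∃ k : ℕ, ∀ x : b, ∀ y ∈ a ^ k, y • φ x = 0 := by
  classical
  obtain ⟨S, hS⟩ := (Module.Finite.fg_top : (⊤ : Submodule A ↥b).FG)
  choose n hn using hφ
  refine ⟨S.sup n, fun x => ?_⟩
  have hx : x ∈ Submodule.span A (S : Set ↥b) := by rw [hS]; trivial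
  induction hx using Submodule.span_induction with
  | mem s hs =>
    intro y hy
    exact hn s y (Ideal.pow_le_pow_right (Finset.le_sup (f := n) hs) hy)
  | zero =>
    intro y _
    rw [map_zero, smul_zero]
  | add u v _ _ hu hv =>
    intro y hy
    rw [map_add, smul_add, hu y hy, hv y hy, add_zero]
  | smul c u _ hu =>
    intro y hy
    rw [map_smul, smul_comm, hu y hy, smul_zero]

theorem exists_extension_killed [Module.Injective A E] (a b : Ideal A) (φ : b →ₗ[A] E)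
    (hφ : ∀ x : b, ∃ n : ℕ, ∀ y ∈ a ^ n, y • φ x = 0) :
    ∃ (e : E) (N : ℕ), (∀ y ∈ a ^ N, y • e = 0) ∧ ∀ x : b, (x : A) • e = φ x := by
  obtain ⟨k, hk⟩ := exists_uniform_pow a b φ hφ
  obtain ⟨c, hc⟩ := Ideal.exists_pow_inf_eq_pow_smul a (M := A) (b : Submodule A A)
  -- `φ` vanishes on `a^(k+c) ⊓ b`
  have hvan : ∀ z (hz : z ∈ b), z ∈ a ^ (k + c) → φ ⟨z, hz⟩ = 0 := by
    intro z hz hza
    have htop : a ^ (k + c) • (⊤ : Submodule A A) = a ^ (k + c) := by
      rw [Ideal.smul_eq_mul, Ideal.mul_top]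
    have h1 : z ∈ (a ^ (k + c) • (⊤ : Submodule A A) ⊓ (b : Submodule A A)) := by
      refine ⟨?_, hz⟩
      rw [htop]
      exact hza
    rw [hc (k + c) (Nat.le_add_left c k), Nat.add_sub_cancel] at h1
    have h2 : ∀ w ∈ (a ^ k • (a ^ c • (⊤ : Submodule A A) ⊓ (b : Submodule A A))),
        ∃ hw : w ∈ b, φ ⟨w, hw⟩ = 0 := by
      intro w hw
      refine Submodule.smul_induction_on hw ?_ ?_
      · intro r hr m hm
        have hmb : m ∈ b := hm.2
        refine ⟨b.smul_mem r hmb, ?_⟩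
        have : (⟨r • m, b.smul_mem r hmb⟩ : b) = r • (⟨m, hmb⟩ : b) := rfl
        rw [this, map_smul]
        exact hk ⟨m, hmb⟩ r hr
      · rintro u v ⟨hu, hu'⟩ ⟨hv, hv'⟩
        refine ⟨b.add_mem hu hv, ?_⟩
        have : (⟨u + v, b.add_mem hu hv⟩ : b) = ⟨u, hu⟩ + ⟨v, hv⟩ := rfl
        rw [this, map_add, hu', hv', add_zero]
    obtain ⟨_, h3⟩ := h2 z h1
    exact h3
  obtain ⟨N, hN⟩ : ∃ N, N = k + c := ⟨_, rfl⟩
  rw [← hN] at hvan
  let σ : (↥b × ↥(a ^ N)) →ₗ[A] A := (Submodule.subtype b).coprod (Submodule.subtype (a ^ N))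
  let Φ : (↥b × ↥(a ^ N)) →ₗ[A] E := φ.comp (LinearMap.fst A ↥b ↥(a ^ N))
  have hker : LinearMap.ker σ ≤ LinearMap.ker Φ := by
    rintro ⟨x, y⟩ h
    rw [LinearMap.mem_ker] at h ⊢
    have hxy : (x : A) + (y : A) = 0 := by simpa [σ] using h
    have hx : (x : A) ∈ a ^ N := by
      have : (x : A) = -(y : A) := eq_neg_of_add_eq_zero_left hxy
      rw [this]
      exact (a ^ N).neg_mem y.2
    show φ x = 0
    exact hvan x x.2 hx
  obtain ⟨h, hh⟩ := Module.Injective.out (Q := E) ((LinearMap.ker σ).liftQ σ le_rfl)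
    (LinearMap.ker_eq_bot.mp (Submodule.ker_liftQ_eq_bot _ _ _ le_rfl))
    ((LinearMap.ker σ).liftQ Φ hker)
  refine ⟨h 1, N, ?_, ?_⟩
  · intro y hy
    have h1 := hh (Submodule.Quotient.mk ((0 : ↥b), (⟨y, hy⟩ : ↥(a ^ N))))
    rw [Submodule.liftQ_apply, Submodule.liftQ_apply] at h1
    have h2 : σ ((0 : ↥b), (⟨y, hy⟩ : ↥(a ^ N))) = y := by simp [σ]
    have h3 : Φ ((0 : ↥b), (⟨y, hy⟩ : ↥(a ^ N))) = 0 := by simp [Φ]
    rw [h2, h3] at h1
    rw [← map_smul, smul_eq_mul, mul_one]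
    exact h1
  · intro x
    have h1 := hh (Submodule.Quotient.mk (x, (0 : ↥(a ^ N))))
    rw [Submodule.liftQ_apply, Submodule.liftQ_apply] at h1
    have h2 : σ (x, (0 : ↥(a ^ N))) = x := by simp [σ]
    have h3 : Φ (x, (0 : ↥(a ^ N))) = φ x := by simp [Φ]
    rw [h2, h3] at h1
    rw [← map_smul, smul_eq_mul, mul_one]
    exact h1

end Groth.Agent.Lib.GammaZInjH4
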