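import Mathlib
import Groth.Prelude
import Groth.Agent.Lib.GammaZInj1_helper4
import Groth.Agent.Lib.InjTilde3_helper2
import Groth.Agent.Lib.FinCov5_helper8
import Groth.Agent.Lib.QCohLoc_helper4
import Groth.Agent.Lib.ARSheaf2_helper4

/-!
# `Γ_Z` of an injective quasi-coherent module on a Noetherian scheme is injective (helper4): S17641
APPEND-ONLY once landed.
-/

set_option autoImplicit false
set_option linter.style.haveILetI false
universe u
open CategoryTheory CategoryTheory.Limits AlgebraicGeometry TopologicalSpace Opposite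

namespace Groth.Agent.Lib.GammaZInjH4

open QcqsLoc QCohExtn

variable {X : Scheme.{u}}

/-- functions on `V` whose basic open lies in `W`. -/
def idealOf (V W : X.Opens) : Ideal Γ(X, V) where
  carrier := {f | X.basicOpen f ≤ W}
  zero_mem' := by
    show X.basicOpen (0 : Γ(X, V)) ≤ W
    rw [Scheme.basicOpen_zero]; exact bot_le
  add_mem' := by
    intro f g hf hg
    exact (X.basicOpen_add_le f g).trans (sup_le hf hg)
  smul_mem' := by
    intro c f hf
    show X.basicOpen (c • f) ≤ W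
    rw [smul_eq_mul, Scheme.basicOpen_mul]
    exact inf_le_right.trans hf

theorem mem_idealOf {V W : X.Opens} (f : Γ(X, V)) : f ∈ idealOf V W ↔ X.basicOpen f ≤ W := Iff.rfl

/-- (P1) a section over an affine `V` vanishing on `W ≤ V` is killed by a power of `idealOf V W`. -/
theorem exists_pow_kill [IsLocallyNoetherian X] (F : X.Modules) [F.IsQuasicoherent]
    {V W : X.Opens} (hV : IsAffineOpen V) (hWV : W ≤ V) (m : Γ(F, V)) (hm : rF F hWV m = 0) :
    ∃ n : ℕ, ∀ y ∈ idealOf V W ^ n, y • m = 0 := by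
  haveI : IsNoetherianRing Γ(X, V) := IsLocallyNoetherian.component_noetherian ⟨V, hV⟩
  obtain ⟨T, hT⟩ : ∃ T : Ideal Γ(X, V), ∀ y, y ∈ T ↔ y • m = 0 :=
    ⟨LinearMap.ker (LinearMap.toSpanSingleton Γ(X, V) Γ(F, V) m), fun y => by
      rw [LinearMap.mem_ker, LinearMap.toSpanSingleton_apply]⟩
  have hle : idealOf V W ≤ T.radical := by
    intro f hf
    have h0 : F.presheaf.map (homOfLE (X.basicOpen_le f)).op m = 0 := by
      have h1 : rF F (X.basicOpen_le f) m = rF F hf (rF F hWV m) := (rF_rF F hf hWV m).symm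
      rw [hm, map_zero] at h1
      exact h1
    obtain ⟨n, hn⟩ := Groth.Agent.Lib.QCohLoc_helper4.exists_pow_smul_eq_zero F hV f m h0
    exact ⟨n, (hT _).mpr hn⟩
  obtain ⟨n, hn⟩ := Ideal.exists_pow_le_of_le_radical_of_fg hle
    (IsNoetherian.noetherian (idealOf V W))
  exact ⟨n, fun y hy => (hT y).mp (hn hy)⟩

/-- (P2) a section over an affine `V` killed by a power of `idealOf V W` vanishes on `W ≤ V`. -/
theorem rF_eq_zero_of_pow_kill (F : X.Modules) {V W : X.Opens} (hV : IsAffineOpen V) (hWV : W ≤ V)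
    (m : Γ(F, V)) (n : ℕ) (hm : ∀ y ∈ idealOf V W ^ n, y • m = 0) : rF F hWV m = 0 := by
  refine FLFH8.section_ext_cover F _ _ (fun x hx => ?_)
  obtain ⟨f, hfW, hxf⟩ := hV.exists_basicOpen_le (V := W) ⟨x, hx⟩ (hWV hx)
  refine ⟨X.basicOpen f, hfW, hxf, ?_⟩
  rw [rF_rF, map_zero]
  have hfn : f ^ n ∈ idealOf V W ^ n := Ideal.pow_mem_pow ((mem_idealOf f).mpr hfW) n
  have h1 : rF F (hfW.trans hWV) (f ^ n • m) = 0 := by rw [hm _ hfn, map_zero]
  rw [rF_smul, map_pow] at h1
  have hu : IsUnit (rX (hfW.trans hWV) f) := RingedSpace.isUnit_res_basicOpen X.toRingedSpace f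
  have hu' : IsUnit (rX (hfW.trans hWV) f ^ n) := hu.pow n
  obtain ⟨v, hv⟩ := hu'
  have h2 : (↑v⁻¹ : Γ(X, X.basicOpen f)) • ((v : Γ(X, X.basicOpen f)) •
      rF F (hfW.trans hWV) m) = 0 := by rw [hv, h1, smul_zero]
  rw [smul_smul, Units.inv_mul, one_smul] at h2
  exact h2

theorem main17641 {U X : Scheme.{u}} [IsNoetherian X]
    (j : U ⟶ X) [IsOpenImmersion j] (I : X.Modules) (hI : Coh.IsQCoh I) [Injective I] :
    Injective ((DCoh.gammaZ j).obj I) := by
  haveI : I.IsQuasicoherent := hI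
  obtain ⟨u, hu⟩ : ∃ u : I ⟶ (Scheme.Modules.restrictFunctor j ⋙
      Scheme.Modules.pushforward j).obj I, u = (Scheme.Modules.restrictAdjunction j).unit.app I :=
    ⟨_, rfl⟩
  have hG : (DCoh.gammaZ j).obj I = kernel u := by rw [hu]; rfl
  rw [hG]
  haveI : ((Scheme.Modules.restrictFunctor j).obj I).IsQuasicoherent := inferInstance
  haveI : ((Scheme.Modules.restrictFunctor j ⋙
      Scheme.Modules.pushforward j).obj I).IsQuasicoherent :=
    QcqsLoc.isQuasicoherent_pushforward_qcqs j _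
  haveI hGq : (kernel u).IsQuasicoherent := SubExt.isQuasicoherent_kernel u
  apply Groth.Agent.Lib.LocInjH4.injective_of_locally_injective
  intro x
  obtain ⟨V, hV, hxV, -⟩ :=
    exists_isAffineOpen_mem_and_subset (X := X) (x := x) (U := ⊤) trivial
  refine ⟨V, hxV,
    Groth.Agent.Lib.InjTildeH2.injective_restrict_of_injective_sections (kernel u) hV ?_⟩
  haveI : IsNoetherianRing Γ(X, V) := IsLocallyNoetherian.component_noetherian ⟨V, hV⟩
  haveI hE : Module.Injective Γ(X, V) Γ(I, V) :=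
    Groth.Agent.Lib.StalkInjH4.injective_sections hV I
  apply Module.Baer.injective
  intro b φ
  have hW₀ : j ''ᵁ (j ⁻¹ᵁ V) ≤ V := j.image_preimage_le V
  have hu_app : ∀ m : Γ(I, V), ap u V m = rF I hW₀ m := by
    intro m
    rw [hu]
    rfl
  have hι_inj : Function.Injective (ap (kernel.ι u) V) :=
    QCohExact.app_injective_of_mono (kernel.ι u) V
  let ψ : b →ₗ[Γ(X, V)] Γ(I, V) :=
    { toFun := fun x => ap (kernel.ι u) V (φ x)
      map_add' := fun x y => by rw [map_add, map_add]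
      map_smul' := fun r x => by
        rw [map_smul, ap_smul]
        rfl }
  have hψ : ∀ x : b, ∃ n : ℕ, ∀ y ∈ idealOf V (j ''ᵁ (j ⁻¹ᵁ V)) ^ n, y • ψ x = 0 := by
    intro x
    apply exists_pow_kill I hV hW₀
    rw [← hu_app]
    have := congrArg (fun χ => ap χ V (φ x)) (kernel.condition u)
    exact this
  obtain ⟨e, N, he, hex⟩ := exists_extension_killed (idealOf V (j ''ᵁ (j ⁻¹ᵁ V))) b ψ hψ
  have he0 : ap u V e = 0 := by
    rw [hu_app]
    exact rF_eq_zero_of_pow_kill I hV hW₀ e N he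
  obtain ⟨e', he'⟩ := FLFH8.exists_kernel_section u V e he0
  refine ⟨LinearMap.toSpanSingleton Γ(X, V) _ e', fun x hx => ?_⟩
  apply hι_inj
  rw [LinearMap.toSpanSingleton_apply, ap_smul, he']
  exact hex ⟨x, hx⟩

end Groth.Agent.Lib.GammaZInjH4
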