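import Mathlib
import Groth.Prelude
import Groth.Agent.Lib.ArtNormHartogs_helper4
import Groth.Agent.Lib.ARSheaf2_helper4
import Groth.Agent.Lib.BasisHom_helper7

/-!
# Restricting homomorphisms `M~ → O` to an open subscheme (helper4)

* `restrict_map_injective`: if sections of `O'` over `X` restrict injectively to `U`, then
  `Hom(T, O') → Hom(T|_U, O'|_U)` is injective for quasi-coherent `T` on an affine `X`;
* `restrict_map_bijective`: if `O'(V) → O'(V ∩ U)` is bijective for all `V`, the restriction map on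
  `Hom(T, O')` is bijective (any `T`);
* `main17476`.
APPEND-ONLY once landed.
-/

set_option autoImplicit false
set_option linter.style.haveILetI false
universe u
open CategoryTheory CategoryTheory.Limits AlgebraicGeometry TopologicalSpace Opposite

namespace Groth.Agent.Lib.HomTildeResH4

open QcqsLoc QCohExtn Groth.Agent.Lib.ARSheafH4

variable {X : Scheme.{u}}

theorem rF_self0 (F : X.Modules) {W : X.Opens} (h : W ≤ W) (s : Γ(F, W)) : rF F h s = s := by
  show (F.presheaf.map (homOfLE h).op).hom s = s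
  have e : (homOfLE h).op = 𝟙 _ := Subsingleton.elim _ _
  rw [e, F.presheaf.map_id]
  rfl

theorem rF_injective_of_eq (F : X.Modules) {V W : X.Opens} (h : V ≤ W) (h' : W ≤ V) :
    Function.Bijective (rF F h) := by
  have h1 : ∀ s : Γ(F, W), rF F h' (rF F h s) = s := fun s => by rw [rF_rF, rF_self0]
  have h2 : ∀ s : Γ(F, V), rF F h (rF F h' s) = s := fun s => by rw [rF_rF, rF_self0]
  exact ⟨Function.LeftInverse.injective h1, Function.RightInverse.surjective h2⟩

theorem restrict_map_app {T O' : X.Modules} (U : X.Opens) (φ : T ⟶ O')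
    (V : (U : Scheme.{u}).Opens) (s : Γ(T, U.ι ''ᵁ V)) :
    ap ((Scheme.Modules.restrictFunctor U.ι).map φ) V s = ap φ (U.ι ''ᵁ V) s := rfl

theorem ap_sub_hom {A B : X.Modules} (φ ψ : A ⟶ B) (V : X.Opens) (s : Γ(A, V)) :
    ap (φ - ψ) V s = ap φ V s - ap ψ V s := rfl

/-- (1) injectivity of restriction of homomorphisms. -/
theorem restrict_map_injective [IsAffine X] (T O' : X.Modules) [T.IsQuasicoherent] (U : X.Opens)
    (hinj : Function.Injective (rF O' (le_top : U ≤ ⊤))) :
    Function.Injective (fun φ : T ⟶ O' => (Scheme.Modules.restrictFunctor U.ι).map φ) := by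
  intro φ ψ h
  have h' : (Scheme.Modules.restrictFunctor U.ι).map φ =
      (Scheme.Modules.restrictFunctor U.ι).map ψ := h
  have hle : U.ι ''ᵁ ⊤ ≤ U := U.ι_image_top.le
  have hge : U ≤ U.ι ''ᵁ ⊤ := U.ι_image_top.ge
  have key : ∀ m : Γ(T, ⊤), ap φ ⊤ m = ap ψ ⊤ m := by
    intro m
    apply hinj
    apply (rF_injective_of_eq O' hle hge).1
    rw [rF_rF, rF_rF, ← ap_rF, ← ap_rF]
    have := congrArg (fun χ => ap χ (⊤ : (U : Scheme.{u}).Opens)
      (rF T (le_top : U.ι ''ᵁ ⊤ ≤ ⊤) m)) h'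
    exact this
  have h0 : φ - ψ = 0 := by
    refine eq_zero_of_affine_cover (φ - ψ) (fun _ : Unit => (⊤ : X.Opens))
      (fun _ => isAffineOpen_top X) (fun x => ⟨(), trivial⟩) (fun _ s => ?_)
    rw [ap_sub_hom, key s, sub_self]
  exact sub_eq_zero.mp h0

/-- the unit `O' → j_* j^* O'` is an isomorphism when sections extend uniquely from `V ∩ U`. -/
theorem isIso_unit (O' : X.Modules) (U : X.Opens)
    (h : ∀ V : X.Opens, Function.Bijective (rF O' (inf_le_left : V ⊓ U ≤ V))) :
    IsIso ((Scheme.Modules.restrictAdjunction U.ι).unit.app O') := by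
  refine Groth.Agent.Lib.BasisHomH7.isIso_of_bijective_basis (B := Set.univ)
    (Opens.isBasis_iff_nbhd.mpr (fun {V x} hx => ⟨V, trivial, hx, le_rfl⟩)) _ (fun V _ => ?_)
  have hW : U.ι ''ᵁ (U.ι ⁻¹ᵁ V) ≤ V := U.ι.image_preimage_le V
  have hWU : U.ι ''ᵁ (U.ι ⁻¹ᵁ V) ≤ V ⊓ U := by
    refine le_inf hW ?_
    rintro _ ⟨y, -, rfl⟩
    exact y.2
  have hUW : V ⊓ U ≤ U.ι ''ᵁ (U.ι ⁻¹ᵁ V) := by
    rintro x ⟨hxV, hxU⟩
    exact ⟨⟨x, hxU⟩, hxV, rfl⟩
  have e : ap ((Scheme.Modules.restrictAdjunction U.ι).unit.app O') V = rF O' hW := rfl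
  rw [e]
  have e2 : ∀ s, rF O' hW s = rF O' hWU (rF O' (inf_le_left : V ⊓ U ≤ V) s) := fun s => by
    rw [rF_rF]
  have hb := (rF_injective_of_eq O' hWU hUW).comp (h V)
  refine ⟨fun a b hab => hb.1 ?_, fun t => ?_⟩
  · show rF O' hWU (rF O' _ a) = rF O' hWU (rF O' _ b)
    rw [← e2, ← e2]
    exact hab
  · obtain ⟨s, hs⟩ := hb.2 t
    exact ⟨s, (e2 s).trans hs⟩

/-- (2) bijectivity of restriction of homomorphisms. -/
theorem restrict_map_bijective (T O' : X.Modules) (U : X.Opens)
    (h : ∀ V : X.Opens, Function.Bijective (rF O' (inf_le_left : V ⊓ U ≤ V))) :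
    Function.Bijective (fun φ : T ⟶ O' => (Scheme.Modules.restrictFunctor U.ι).map φ) := by
  haveI := isIso_unit O' U h
  let adj := Scheme.Modules.restrictAdjunction U.ι
  have hfun : (fun φ : T ⟶ O' => (Scheme.Modules.restrictFunctor U.ι).map φ) =
      fun φ => (adj.homEquiv T _).symm (φ ≫ adj.unit.app O') := by
    funext φ
    apply (adj.homEquiv T _).injective
    rw [Equiv.apply_symm_apply, Adjunction.homEquiv_unit]
    exact (adj.unit.naturality φ).symm
  rw [hfun]
  refine (adj.homEquiv T _).symm.bijective.comp ?_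
  constructor
  · intro φ ψ hφψ
    exact (cancel_mono (adj.unit.app O')).mp hφψ
  · intro χ
    refine ⟨χ ≫ inv (adj.unit.app O'), ?_⟩
    show (χ ≫ inv (adj.unit.app O')) ≫ adj.unit.app O' = χ
    rw [Category.assoc, IsIso.inv_hom_id, Category.comp_id]

end Groth.Agent.Lib.HomTildeResH4
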