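import Mathlib
import Groth.Prelude
import Groth.Agent.Lib.FlatHart1_helper4
import Groth.Agent.Lib.GammaZInj2_helper4
import Groth.Agent.Lib.HomTildeRes1_helper4
import Groth.Agent.Lib.AffStrat2_helper4

/-!
# Hartogs for the ring of an affine open, in ideal form (helper4)
APPEND-ONLY once landed.
-/

set_option autoImplicit false
set_option linter.style.haveILetI false
universe u
open CategoryTheory CategoryTheory.Limits AlgebraicGeometry TopologicalSpace Opposite

namespace Groth.Agent.Lib.FlatHartH4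

open QcqsLoc QCohExtn Groth.Agent.Lib.GammaZInjH4

variable {X : Scheme.{u}}

theorem ring_eq_of_cover {ι : Type*} (V : X.Opens) (D : ι → X.Opens) (hD : ∀ i, D i ≤ V)
    (hcov : V ≤ iSup D) (s t : Γ(X, V)) (h : ∀ i, rX (hD i) s = rX (hD i) t) : s = t :=
  X.sheaf.eq_of_locally_eq' D V (fun i => homOfLE (hD i)) hcov s t h

theorem ring_exists_glue {ι : Type*} (V : X.Opens) (D : ι → X.Opens) (hD : ∀ i, D i ≤ V)
    (hcov : V ≤ iSup D) (sf : ∀ i, Γ(X, D i))
    (hsf : ∀ i j, rX (inf_le_left : D i ⊓ D j ≤ D i) (sf i) =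
      rX (inf_le_right : D i ⊓ D j ≤ D j) (sf j)) :
    ∃ s : Γ(X, V), ∀ i, rX (hD i) s = sf i := by
  obtain ⟨s, hs, -⟩ := X.sheaf.existsUnique_gluing' D V (fun i => homOfLE (hD i)) hcov sf
    (fun i j => hsf i j)
  exact ⟨s, hs⟩

/-- zero annihilator of powers of the ideal of `W ⊓ U` -/
theorem ring_h0 {W U : X.Opens} (hW : IsAffineOpen W)
    (hinj : Function.Injective (rX (inf_le_left : W ⊓ U ≤ W)))
    (n : ℕ) (r : Γ(X, W)) (hr : ∀ y ∈ idealOf W (W ⊓ U) ^ n, y * r = 0) : r = 0 := by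
  apply hinj
  rw [map_zero]
  apply ring_eq_of_cover (W ⊓ U)
    (fun f : {f : Γ(X, W) // X.basicOpen f ≤ W ⊓ U} => X.basicOpen f.1) (fun f => f.2)
  · intro x hx
    obtain ⟨f, hf, hxf⟩ := hW.exists_basicOpen_le (V := W ⊓ U) ⟨x, hx⟩ hx.1
    exact Opens.mem_iSup.mpr ⟨⟨f, hf⟩, hxf⟩
  · intro f
    show rX f.2 (rX _ r) = rX f.2 0
    rw [map_zero, rX_rX]
    have hu : IsUnit (rX (X.basicOpen_le f.1) f.1 ^ n) :=
      (RingedSpace.isUnit_res_basicOpen X.toRingedSpace f.1).pow n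
    apply hu.mul_left_cancel
    rw [mul_zero, ← map_pow, ← map_mul,
      hr _ (Ideal.pow_mem_pow ((mem_idealOf f.1).mpr f.2) n), map_zero]

/-- every linear form on a power of the ideal of `W ⊓ U` is a multiplication -/
theorem ring_h1 {W U : X.Opens} (hW : IsAffineOpen W)
    (hinj : Function.Injective (rX (inf_le_left : W ⊓ U ≤ W)))
    (hsurj : Function.Surjective (rX (inf_le_left : W ⊓ U ≤ W)))
    (n : ℕ) (φ : ↥(idealOf W (W ⊓ U) ^ n) →ₗ[Γ(X, W)] Γ(X, W)) :
    ∃ u : Γ(X, W), ∀ y : ↥(idealOf W (W ⊓ U) ^ n), φ y = (y : Γ(X, W)) * u := by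
  classical
  let ι := {f : Γ(X, W) // X.basicOpen f ≤ W ⊓ U}
  have hmem : ∀ f : ι, f.1 ^ n ∈ idealOf W (W ⊓ U) ^ n := fun f =>
    Ideal.pow_mem_pow ((mem_idealOf f.1).mpr f.2) n
  let pw : ι → ↥(idealOf W (W ⊓ U) ^ n) := fun f => ⟨f.1 ^ n, hmem f⟩
  let D : ι → X.Opens := fun f => X.basicOpen f.1
  have hDW : ∀ f : ι, D f ≤ W := fun f => X.basicOpen_le f.1
  have hDU : ∀ f : ι, D f ≤ W ⊓ U := fun f => f.2
  have hunit : ∀ f : ι, IsUnit (rX (hDW f) f.1 ^ n) := fun f =>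
    (RingedSpace.isUnit_res_basicOpen X.toRingedSpace f.1).pow n
  have hex : ∀ f : ι, ∃ s : Γ(X, D f),
      rX (hDW f) f.1 ^ n * s = rX (hDW f) (φ (pw f)) := fun f => by
    obtain ⟨v, hv⟩ := hunit f
    refine ⟨↑v⁻¹ * rX (hDW f) (φ (pw f)), ?_⟩
    rw [← hv, ← mul_assoc, Units.mul_inv, one_mul]
  choose s hs using hex
  have hrel : ∀ f g : ι, f.1 ^ n * φ (pw g) = g.1 ^ n * φ (pw f) := by
    intro f g
    have h1 : f.1 ^ n • pw g = g.1 ^ n • pw f := by
      apply Subtype.ext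
      show f.1 ^ n * g.1 ^ n = g.1 ^ n * f.1 ^ n
      exact mul_comm _ _
    have h2 := congrArg φ h1
    rw [map_smul, map_smul, smul_eq_mul, smul_eq_mul] at h2
    exact h2
  have hcov : W ⊓ U ≤ ⨆ f, D f := by
    intro x hx
    obtain ⟨f, hf, hxf⟩ := hW.exists_basicOpen_le (V := W ⊓ U) ⟨x, hx⟩ hx.1
    exact Opens.mem_iSup.mpr ⟨⟨f, hf⟩, hxf⟩
  have hcompat : ∀ f g : ι, rX (inf_le_left : D f ⊓ D g ≤ D f) (s f) =
      rX (inf_le_right : D f ⊓ D g ≤ D g) (s g) := by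
    intro f g
    have hfg : D f ⊓ D g ≤ W := inf_le_left.trans (hDW f)
    have e1 : rX hfg f.1 ^ n * rX inf_le_left (s f) = rX hfg (φ (pw f)) := by
      have := congrArg (rX (inf_le_left : D f ⊓ D g ≤ D f)) (hs f)
      rw [map_mul, map_pow, rX_rX, rX_rX] at this
      exact this
    have e2 : rX hfg g.1 ^ n * rX inf_le_right (s g) = rX hfg (φ (pw g)) := by
      have := congrArg (rX (inf_le_right : D f ⊓ D g ≤ D g)) (hs g)
      rw [map_mul, map_pow, rX_rX, rX_rX] at this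
      exact this
    have e3 : rX hfg f.1 ^ n * rX hfg (φ (pw g)) = rX hfg g.1 ^ n * rX hfg (φ (pw f)) := by
      have := congrArg (rX hfg) (hrel f g)
      rw [map_mul, map_mul, map_pow, map_pow] at this
      exact this
    have huf : IsUnit (rX hfg f.1 ^ n) := by
      have := (hunit f).map (rX (inf_le_left : D f ⊓ D g ≤ D f))
      rw [map_pow, rX_rX] at this
      exact this
    have hug : IsUnit (rX hfg g.1 ^ n) := by
      have := (hunit g).map (rX (inf_le_right : D f ⊓ D g ≤ D g))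
      rw [map_pow, rX_rX] at this
      exact this
    apply (huf.mul hug).mul_left_cancel
    calc rX hfg f.1 ^ n * rX hfg g.1 ^ n * rX inf_le_left (s f)
        = rX hfg g.1 ^ n * (rX hfg f.1 ^ n * rX inf_le_left (s f)) := by ring
      _ = rX hfg g.1 ^ n * rX hfg (φ (pw f)) := by rw [e1]
      _ = rX hfg f.1 ^ n * rX hfg (φ (pw g)) := e3.symm
      _ = rX hfg f.1 ^ n * (rX hfg g.1 ^ n * rX inf_le_right (s g)) := by rw [e2]
      _ = rX hfg f.1 ^ n * rX hfg g.1 ^ n * rX inf_le_right (s g) := by ring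
  obtain ⟨t, ht⟩ := ring_exists_glue (W ⊓ U) D hDU hcov s hcompat
  obtain ⟨u, hu⟩ := hsurj t
  refine ⟨u, fun y => ?_⟩
  have hd : rX (inf_le_left : W ⊓ U ≤ W) (φ y - (y : Γ(X, W)) * u) = 0 := by
    apply ring_eq_of_cover (W ⊓ U) D hDU hcov
    intro f
    show rX (hDU f) (rX _ (φ y - (y : Γ(X, W)) * u)) = rX (hDU f) 0
    rw [map_zero, rX_rX]
    apply (hunit f).mul_left_cancel
    rw [mul_zero]
    have h1 : f.1 ^ n * φ y = (y : Γ(X, W)) * φ (pw f) := by
      have h1 : f.1 ^ n • y = (y : Γ(X, W)) • pw f := by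
        apply Subtype.ext
        show f.1 ^ n * (y : Γ(X, W)) = (y : Γ(X, W)) * f.1 ^ n
        exact mul_comm _ _
      have h2 := congrArg φ h1
      rw [map_smul, map_smul, smul_eq_mul, smul_eq_mul] at h2
      exact h2
    have h2 : rX (hDW f) u = s f := by
      have h3 : rX (hDU f) (rX inf_le_left u) = s f := by rw [hu]; exact ht f
      rw [rX_rX] at h3
      exact h3
    have h3 : rX (hDW f) f.1 ^ n * rX (hDW f) (φ y) =
        rX (hDW f) (y : Γ(X, W)) * rX (hDW f) (φ (pw f)) := by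
      have := congrArg (rX (hDW f)) h1
      rw [map_mul, map_mul, map_pow] at this
      exact this
    rw [map_sub, map_mul, mul_sub, h2, h3, ← hs f]
    ring
  have h5 := hinj (hd.trans (map_zero _).symm)
  exact sub_eq_zero.mp h5

end Groth.Agent.Lib.FlatHartH4
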