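import Mathlib
import Groth.Prelude
import Groth.Agent.Lib.FlatHart2_helper4
import Groth.Agent.Lib.Hartogs_helper5

/-!
# Hartogs for flat quasi-coherent modules on affine opens (helper4)
APPEND-ONLY once landed.
-/

set_option autoImplicit false
set_option linter.style.haveILetI false
universe u
open CategoryTheory CategoryTheory.Limits AlgebraicGeometry TopologicalSpace Opposite

namespace Groth.Agent.Lib.FlatHartH4

open QcqsLoc QCohExtn Groth.Agent.Lib.GammaZInjH4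

variable {X : Scheme.{u}} [IsLocallyNoetherian X] (F : X.Modules) [F.IsQuasicoherent]

/-- injectivity of restriction on an affine open -/
theorem inj_affine {W U : X.Opens} (hW : IsAffineOpen W)
    (hflat : Module.Flat Γ(X, W) Γ(F, W))
    (hinj : Function.Injective (rX (inf_le_left : W ⊓ U ≤ W)))
    (m : Γ(F, W)) (hm : rF F (inf_le_left : W ⊓ U ≤ W) m = 0) : m = 0 := by
  haveI : IsNoetherianRing Γ(X, W) := IsLocallyNoetherian.component_noetherian ⟨W, hW⟩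
  obtain ⟨n, hn⟩ := exists_pow_kill F hW (inf_le_left : W ⊓ U ≤ W) m hm
  exact Groth.Agent.Lib.FlatHartAlgH4.eq_zero_of_forall_smul_eq_zero (idealOf W (W ⊓ U) ^ n)
    (fun r hr => ring_h0 hW hinj n r hr) m hn

omit [IsLocallyNoetherian X] [F.IsQuasicoherent] in
/-- a section over `W ⊓ U` killed by a power of the ideal vanishes -/
theorem eq_zero_of_pow_kill' {W U : X.Opens} (hW : IsAffineOpen W) (n : ℕ) (σ : Γ(F, W ⊓ U))
    (h : ∀ y ∈ idealOf W (W ⊓ U) ^ n, rX (inf_le_left : W ⊓ U ≤ W) y • σ = 0) : σ = 0 := by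
  refine FLFH8.section_ext_cover F _ _ (fun x hx => ?_)
  obtain ⟨f, hfW, hxf⟩ := hW.exists_basicOpen_le (V := W ⊓ U) ⟨x, hx⟩ hx.1
  refine ⟨X.basicOpen f, hfW, hxf, ?_⟩
  rw [map_zero]
  have hfn : f ^ n ∈ idealOf W (W ⊓ U) ^ n := Ideal.pow_mem_pow ((mem_idealOf f).mpr hfW) n
  have h1 : rF F hfW (rX (inf_le_left : W ⊓ U ≤ W) (f ^ n) • σ) = 0 := by
    rw [h _ hfn, map_zero]
  rw [rF_smul, rX_rX, map_pow] at h1
  have hu' : IsUnit (rX (hfW.trans inf_le_left) f ^ n) :=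
    (RingedSpace.isUnit_res_basicOpen X.toRingedSpace f).pow n
  obtain ⟨v, hv⟩ := hu'
  have h2 : (↑v⁻¹ : Γ(X, X.basicOpen f)) • ((v : Γ(X, X.basicOpen f)) • rF F hfW σ) = 0 := by
    rw [hv, h1, smul_zero]
  rw [smul_smul, Units.inv_mul, one_smul] at h2
  exact h2

/-- a power of every function of the ideal multiplies `τ` into the image of restriction -/
theorem exists_pow_smul_mem_range {W U : X.Opens} (hW : IsAffineOpen W) (τ : Γ(F, W ⊓ U))
    (f : Γ(X, W)) (hf : X.basicOpen f ≤ W ⊓ U) :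
    ∃ (k : ℕ) (m : Γ(F, W)), rF F (inf_le_left : W ⊓ U ≤ W) m =
      rX (inf_le_left : W ⊓ U ≤ W) (f ^ k) • τ := by
  classical
  have hWU : W ⊓ U ≤ W := inf_le_left
  obtain ⟨k0, m0, hm0⟩ :=
    Groth.Agent.Lib.QCohLoc_helper4.exists_res_eq_pow_smul F hW f (rF F hf τ)
  have hm0' : rF F (X.basicOpen_le f) m0 = rX (X.basicOpen_le f) f ^ k0 • rF F hf τ := hm0
  obtain ⟨σ, hσ⟩ : ∃ σ : Γ(F, W ⊓ U), σ = rF F hWU m0 - rX hWU (f ^ k0) • τ := ⟨_, rfl⟩
  have hσf : rF F hf σ = 0 := by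
    rw [hσ, map_sub, rF_rF, rF_smul, rX_rX, map_pow, hm0', sub_self]
  obtain ⟨t, ht⟩ := Groth.Agent.Lib.AffStratH4.exists_finset_basicOpen X W (W ⊓ U) hW hWU
    (Groth.Agent.Hartogs.isCompact_inf hW U)
  have hgle : ∀ g : ↥t, X.basicOpen g.1 ≤ W ⊓ U := fun g x hx => (ht x).mpr ⟨g.1, g.2, hx⟩
  have hk : ∀ g : ↥t, ∃ k : ℕ,
      rX (X.basicOpen_le g.1) f ^ k • rF F (hgle g) σ = 0 := by
    intro g
    have hle_f : X.basicOpen (rX (X.basicOpen_le g.1) f) ≤ X.basicOpen f := by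
      rw [Scheme.basicOpen_res]
      exact inf_le_right
    have h0 : F.presheaf.map (homOfLE (X.basicOpen_le (rX (X.basicOpen_le g.1) f))).op
        (rF F (hgle g) σ) = 0 := by
      have h1 : rF F (X.basicOpen_le (rX (X.basicOpen_le g.1) f)) (rF F (hgle g) σ) =
          rF F hle_f (rF F hf σ) := by rw [rF_rF, rF_rF]
      rw [hσf, map_zero] at h1
      exact h1
    exact Groth.Agent.Lib.QCohLoc_helper4.exists_pow_smul_eq_zero F (hW.basicOpen g.1)
      (rX (X.basicOpen_le g.1) f) (rF F (hgle g) σ) h0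
  choose k hk using hk
  have hkK : ∀ g : ↥t, k g ≤ ∑ g : ↥t, k g := fun g =>
    Finset.single_le_sum (fun _ _ => Nat.zero_le _) (Finset.mem_univ g)
  have hKσ : rX hWU (f ^ (∑ g : ↥t, k g)) • σ = 0 := by
    refine FLFH8.section_ext_cover F _ _ (fun x hx => ?_)
    obtain ⟨g, hg, hxg⟩ := (ht x).mp hx
    refine ⟨X.basicOpen g, hgle ⟨g, hg⟩, hxg, ?_⟩
    rw [map_zero, rF_smul, rX_rX, map_pow]
    obtain ⟨d, hd⟩ := Nat.exists_eq_add_of_le (hkK ⟨g, hg⟩)
    rw [hd, add_comm, pow_add, mul_smul]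
    have := hk ⟨g, hg⟩
    rw [this, smul_zero]
  refine ⟨k0 + ∑ g : ↥t, k g, (f ^ (∑ g : ↥t, k g)) • m0, ?_⟩
  have h1 : rF F hWU m0 = σ + rX hWU (f ^ k0) • τ := by rw [hσ]; abel
  rw [rF_smul, h1, smul_add, hKσ, zero_add, smul_smul, ← map_mul, ← pow_add, add_comm]

/-- a power of the ideal multiplies `τ` into the image of restriction -/
theorem exists_pow_smul_mem_range' {W U : X.Opens} (hW : IsAffineOpen W) (τ : Γ(F, W ⊓ U)) :
    ∃ n : ℕ, ∀ y ∈ idealOf W (W ⊓ U) ^ n, ∃ m : Γ(F, W),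
      rF F (inf_le_left : W ⊓ U ≤ W) m = rX (inf_le_left : W ⊓ U ≤ W) y • τ := by
  haveI : IsNoetherianRing Γ(X, W) := IsLocallyNoetherian.component_noetherian ⟨W, hW⟩
  have hWU : W ⊓ U ≤ W := inf_le_left
  let T : Ideal Γ(X, W) :=
    { carrier := {y | ∃ m : Γ(F, W), rF F hWU m = rX hWU y • τ}
      zero_mem' := ⟨0, by rw [map_zero, map_zero, zero_smul]⟩
      add_mem' := by
        rintro a b ⟨ma, ha⟩ ⟨mb, hb⟩
        exact ⟨ma + mb, by rw [map_add, map_add, add_smul, ha, hb]⟩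
      smul_mem' := by
        rintro c a ⟨ma, ha⟩
        exact ⟨c • ma, by rw [rF_smul, ha, smul_eq_mul, map_mul, mul_smul]⟩ }
  have hle : idealOf W (W ⊓ U) ≤ T.radical := by
    intro f hf
    obtain ⟨k, m, hm⟩ := exists_pow_smul_mem_range F hW τ f ((mem_idealOf f).mp hf)
    exact ⟨k, m, hm⟩
  obtain ⟨n, hn⟩ := Ideal.exists_pow_le_of_le_radical_of_fg hle
    (IsNoetherian.noetherian (idealOf W (W ⊓ U)))
  exact ⟨n, fun y hy => hn hy⟩

/-- surjectivity of restriction on an affine open -/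
theorem surj_affine {W U : X.Opens} (hW : IsAffineOpen W)
    (hflat : Module.Flat Γ(X, W) Γ(F, W))
    (hinj : Function.Injective (rX (inf_le_left : W ⊓ U ≤ W)))
    (hsurj : Function.Surjective (rX (inf_le_left : W ⊓ U ≤ W)))
    (τ : Γ(F, W ⊓ U)) : ∃ m : Γ(F, W), rF F (inf_le_left : W ⊓ U ≤ W) m = τ := by
  haveI : IsNoetherianRing Γ(X, W) := IsLocallyNoetherian.component_noetherian ⟨W, hW⟩
  have hWU : W ⊓ U ≤ W := inf_le_left
  obtain ⟨n, hn⟩ := exists_pow_smul_mem_range' F hW τ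
  have hρinj : ∀ a b : Γ(F, W), rF F hWU a = rF F hWU b → a = b := by
    intro a b hab
    have h0 : a - b = 0 := inj_affine F hW hflat hinj (a - b) (by rw [map_sub, hab, sub_self])
    exact sub_eq_zero.mp h0
  choose ψ0 hψ0 using fun y : ↥(idealOf W (W ⊓ U) ^ n) => hn y.1 y.2
  let ψ : ↥(idealOf W (W ⊓ U) ^ n) →ₗ[Γ(X, W)] Γ(F, W) :=
    { toFun := ψ0
      map_add' := fun a b => hρinj _ _ (by
        rw [map_add, hψ0, hψ0, hψ0, Submodule.coe_add, map_add, add_smul])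
      map_smul' := fun c a => hρinj _ _ (by
        rw [RingHom.id_apply, rF_smul, hψ0, hψ0, Submodule.coe_smul, smul_eq_mul, map_mul,
          mul_smul]) }
  obtain ⟨m, hm⟩ := Groth.Agent.Lib.FlatHartAlgH4.exists_smul_eq (idealOf W (W ⊓ U) ^ n)
    (fun φ => ring_h1 hW hinj hsurj n φ) ψ
  refine ⟨m, ?_⟩
  have h0 : rF F hWU m - τ = 0 := by
    apply eq_zero_of_pow_kill' F hW n
    intro y hy
    have h1 : ψ0 ⟨y, hy⟩ = y • m := hm ⟨y, hy⟩
    rw [smul_sub, ← rF_smul, ← h1, hψ0, sub_self]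
  exact sub_eq_zero.mp h0

end Groth.Agent.Lib.FlatHartH4
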