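import Mathlib
import Groth.Prelude
import Groth.Agent.Lib.FlatHart3_helper4
import Groth.Agent.Lib.HartogsRing_helper5
import Groth.Agent.Lib.ParaUfd1_helper5
import Groth.Agent.Lib.FLF3_helper8

/-!
# A flat quasi-coherent module on a normal Noetherian scheme is the direct image of its restriction
to any open containing the points of codimension at most one (helper4): S16496
APPEND-ONLY once landed.
-/

set_option autoImplicit false
set_option linter.style.haveILetI false
universe u
open CategoryTheory CategoryTheory.Limits AlgebraicGeometry TopologicalSpace Opposite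

namespace Groth.Agent.Lib.FlatHartH4

open QcqsLoc QCohExtn

variable {X : Scheme.{u}}

/-- the unit `O' → j_* j^* O'` is an isomorphism when sections over affine opens `V` extend uniquely
from `V ∩ U`. -/
theorem isIso_unit_of_affine (O' : X.Modules) (U : X.Opens)
    (h : ∀ V : X.Opens, IsAffineOpen V →
      Function.Bijective (rF O' (inf_le_left : V ⊓ U ≤ V))) :
    IsIso ((Scheme.Modules.restrictAdjunction U.ι).unit.app O') := by
  refine Groth.Agent.Lib.BasisHomH7.isIso_of_bijective_basis (B := X.affineOpens)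
    X.isBasis_affineOpens _ (fun V hV => ?_)
  have hW : U.ι ''ᵁ (U.ι ⁻¹ᵁ V) ≤ V := U.ι.image_preimage_le V
  have hWU : U.ι ''ᵁ (U.ι ⁻¹ᵁ V) ≤ V ⊓ U := by
    refine le_inf hW ?_
    rintro _ ⟨y, -, rfl⟩
    exact y.2
  have hUW : V ⊓ U ≤ U.ι ''ᵁ (U.ι ⁻¹ᵁ V) := by
    rintro x ⟨hxV, hxU⟩
    exact ⟨⟨x, hxU⟩, hxV, rfl⟩
  have e : ap ((Scheme.Modules.restrictAdjunction U.ι).unit.app O') V = rF O' hW := rfl
  rw [e]
  have e2 : ∀ s, rF O' hW s = rF O' hWU (rF O' (inf_le_left : V ⊓ U ≤ V) s) := fun s => by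
    rw [rF_rF]
  have hb := (Groth.Agent.Lib.HomTildeResH4.rF_injective_of_eq O' hWU hUW).comp (h V hV)
  refine ⟨fun a b hab => hb.1 ?_, fun t => ?_⟩
  · show rF O' hWU (rF O' _ a) = rF O' hWU (rF O' _ b)
    rw [← e2, ← e2]
    exact hab
  · obtain ⟨s, hs⟩ := hb.2 t
    exact ⟨s, (e2 s).trans hs⟩

theorem le_one_of_not_two_le (d : WithBot ℕ∞) (h : ¬ (2 : WithBot ℕ∞) ≤ d) : d ≤ 1 := by
  have h2 : d < 2 := not_le.mp h
  induction d with
  | bot => exact bot_le
  | coe e =>
    have h2' : ((e : ℕ∞) : WithBot ℕ∞) < ((2 : ℕ∞) : WithBot ℕ∞) := h2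
    have h3 : e < 2 := WithBot.coe_lt_coe.mp h2'
    have h4 : e ≤ 1 := by
      induction e with
      | top => exact absurd h3 (by simp)
      | coe n =>
        have h5 : n < 2 := by exact_mod_cast h3
        have h6 : n ≤ 1 := by omega
        exact_mod_cast h6
    have h7 : ((e : ℕ∞) : WithBot ℕ∞) ≤ ((1 : ℕ∞) : WithBot ℕ∞) := WithBot.coe_le_coe.mpr h4
    exact h7

theorem main16496 (S : Scheme.{u}) [IsNoetherian S]
    (hS : Pi1.IsNormalScheme S) (A : S.Modules) (hA : Coh.IsQCoh A) (hAfl : FlatMod.IsFlat A)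
    (U : S.Opens) (hU : ∀ s : S, ringKrullDim (S.presheaf.stalk s) ≤ 1 → s ∈ U) :
    IsIso ((Scheme.Modules.restrictAdjunction U.ι).unit.app A) := by
  haveI : A.IsQuasicoherent := hA
  haveI : (Coh.structureModule S).IsQuasicoherent := SerreCrit.isQuasicoherent_OO
  haveI := Groth.Agent.HartogsRing.isFiniteType_structureModule (X := S)
  have hd : ∀ x : S, x ∉ U → (2 : ℕ∞) ≤
      LocCoh.depth (S.presheaf.stalk x) ((Coh.structureModule S).presheaf.stalk x) := by
    intro x hx
    rw [Groth.Agent.HartogsRing.depth_structureModule_stalk]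
    haveI : IsDomain (S.presheaf.stalk x) := (hS x).1
    haveI : IsIntegrallyClosed (S.presheaf.stalk x) := (hS x).2
    apply Groth.Agent.ParaUfd.two_le_depth_of_normal
    by_contra hlt
    exact hx (hU x (le_one_of_not_two_le _ hlt))
  have hres : ∀ {P Q : S.Opens} (h : P ≤ Q) (a : Γ(S, Q)),
      rF (Coh.structureModule S) h (a : Γ(Coh.structureModule S, Q)) = rX h a := fun _ _ => rfl
  have hOinj : ∀ V : S.Opens, Function.Injective (rX (inf_le_left : V ⊓ U ≤ V)) := by
    intro V a b hab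
    have h0 : rF (Coh.structureModule S) (inf_le_left : V ⊓ U ≤ V)
        ((a - b : Γ(S, V)) : Γ(Coh.structureModule S, V)) = 0 := by
      rw [hres, map_sub, hab, sub_self]
      rfl
    have := Groth.Agent.Hartogs.inj (Coh.structureModule S) U hd V _ h0
    exact sub_eq_zero.mp this
  have hOsurj : ∀ V : S.Opens, Function.Surjective (rX (inf_le_left : V ⊓ U ≤ V)) := by
    intro V b
    obtain ⟨a, ha⟩ := Groth.Agent.Hartogs.surj (Coh.structureModule S) U hd V
      (b : Γ(Coh.structureModule S, V ⊓ U))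
    exact ⟨(a : Γ(S, V)), ha⟩
  apply isIso_unit_of_affine A U
  intro V hV
  have hflat : Module.Flat Γ(S, V) Γ(A, V) :=
    FLFH8.flat_sections_of_flat_stalks A hV (fun x _ => hAfl x)
  constructor
  · intro a b hab
    have h0 : a - b = 0 := inj_affine A hV hflat (hOinj V) (a - b) (by
      rw [map_sub, hab, sub_self])
    exact sub_eq_zero.mp h0
  · intro τ
    exact surj_affine A hV hflat (hOinj V) (hOsurj V) τ

end Groth.Agent.Lib.FlatHartH4
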