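import Mathlib
import Groth.Agent.Lib.GenFreeE_helper8

/-!
# Universal flattening for modules which are free modulo a nilpotent ideal (helper2)

* `eq_top_of_sup_smul_top`: Nakayama for nilpotent ideals.
* `flat_baseChange_iff`: if `π : R^(ι) → P` is surjective and all coordinates of all elements of
  its kernel lie in a nilpotent ideal, then for every `R`-algebra `A'` the base change `A' ⊗ P` is
  flat over `A'` iff all these coordinates vanish in `A'`.
* `exists_family`: generic freeness modulo the nilradical, in elementary form.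
APPEND-ONLY once landed.
-/

set_option autoImplicit false
set_option maxHeartbeats 1000000
set_option linter.style.haveILetI false
set_option linter.unusedSectionVars false
set_option linter.unusedVariables false
universe u

open TensorProduct

namespace Groth.Agent.Lib.FlatIdealH2

section Nak

/-- Nakayama's lemma for nilpotent ideals. -/
theorem eq_top_of_sup_smul_top {R : Type*} [CommRing R] {M : Type*} [AddCommGroup M] [Module R M]
    (I : Ideal R) (hI : IsNilpotent I) (Q : Submodule R M)
    (h : Q ⊔ I • (⊤ : Submodule R M) = ⊤) : Q = ⊤ := by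
  obtain ⟨k, hk⟩ := hI
  have key : ∀ n : ℕ, (⊤ : Submodule R M) ≤ Q ⊔ I ^ n • (⊤ : Submodule R M) := by
    intro n
    induction n with
    | zero =>
      rw [pow_zero, Ideal.one_eq_top, Submodule.top_smul]
      exact le_sup_right
    | succ n ih =>
      have h2 : I ^ n • (⊤ : Submodule R M) ≤ Q ⊔ I ^ (n + 1) • (⊤ : Submodule R M) := by
        calc I ^ n • (⊤ : Submodule R M) = I ^ n • (Q ⊔ I • (⊤ : Submodule R M)) := by rw [h]
          _ = I ^ n • Q ⊔ I ^ n • (I • (⊤ : Submodule R M)) := Submodule.smul_sup _ _ _
          _ ≤ Q ⊔ I ^ (n + 1) • (⊤ : Submodule R M) := by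
              refine sup_le_sup Submodule.smul_le_right ?_
              rw [← Submodule.mul_smul, ← pow_succ]
      exact le_trans ih (sup_le le_sup_left h2)
  have h1 := key k
  rw [hk, Ideal.zero_eq_bot, Submodule.bot_smul, sup_bot_eq] at h1
  exact top_le_iff.mp h1

theorem subsingleton_of_top_le_smul_top {R : Type*} [CommRing R] {M : Type*} [AddCommGroup M]
    [Module R M] (I : Ideal R) (hI : IsNilpotent I)
    (h : (⊤ : Submodule R M) ≤ I • (⊤ : Submodule R M)) : ∀ x : M, x = 0 := by
  have h1 : (⊥ : Submodule R M) = ⊤ := by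
    apply eq_top_of_sup_smul_top I hI
    rw [bot_sup_eq]
    exact le_antisymm le_top h
  intro x
  have : x ∈ (⊥ : Submodule R M) := by rw [h1]; trivial
  exact (Submodule.mem_bot R).mp this

end Nak

section LemmaF

variable {R : Type u} [CommRing R]

/-- Right exactness of the tensor product, for the kernel of a surjection. -/
theorem exact_lTensor_ker {L P : Type u} [AddCommGroup L] [Module R L] [AddCommGroup P]
    [Module R P] (A : Type u) [AddCommGroup A] [Module R A] (π : L →ₗ[R] P)
    (hπ : Function.Surjective π) :
    Function.Exact ((LinearMap.ker π).subtype.lTensor A) (π.lTensor A) :=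
  lTensor_exact A (f := (LinearMap.ker π).subtype) (g := π)
    (LinearMap.exact_subtype_ker_map π) hπ

/-- Tensoring the inclusion of the kernel of a surjection onto a flat module is injective. -/
theorem lTensor_ker_subtype_injective {L P : Type u} [AddCommGroup L] [Module R L]
    [AddCommGroup P] [Module R P] [Module.Flat R P] (f : L →ₗ[R] P)
    (hf : Function.Surjective f) (Q : Type u) [AddCommGroup Q] [Module R Q] :
    Function.Injective ((LinearMap.ker f).subtype.lTensor Q) :=
  LinearMap.lTensor_injective_of_exact_of_flat f hf _ (LinearMap.ker f).subtype_injective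
    (LinearMap.exact_subtype_ker_map f) Q

/-- **Universal flattening** for a module which is free modulo a nilpotent ideal. -/
theorem flat_baseChange_iff (N : Ideal R) (hN : IsNilpotent N)
    {P : Type u} [AddCommGroup P] [Module R P] {ι : Type u} (π : (ι →₀ R) →ₗ[R] P)
    (hπ : Function.Surjective π) (hker : ∀ c ∈ LinearMap.ker π, ∀ i, c i ∈ N)
    (A' : Type u) [CommRing A'] [Algebra R A'] :
    Module.Flat A' (A' ⊗[R] P) ↔
      ∀ c ∈ LinearMap.ker π, ∀ i, algebraMap R A' (c i) = 0 := by
  classical
  have hsurj : Function.Surjective (π.baseChange A') := by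
    rw [LinearMap.baseChange_eq_ltensor]
    exact LinearMap.lTensor_surjective A' hπ
  have hexact : Function.Exact ((LinearMap.ker π).subtype.lTensor A') (π.lTensor A') :=
    exact_lTensor_ker A' π hπ
  -- expansion of a pure tensor in coordinates
  have hexp : ∀ (a' : A') (c : ι →₀ R), a' ⊗ₜ[R] c =
      c.sum (fun i r => (algebraMap R A' r * a') ⊗ₜ[R] (Finsupp.single i (1 : R))) := by
    intro a' c
    conv_lhs => rw [← Finsupp.sum_single c]
    rw [Finsupp.sum, tmul_sum, Finsupp.sum]
    refine Finset.sum_congr rfl (fun i _ => ?_)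
    rw [← Finsupp.smul_single_one i (c i), tmul_smul, smul_tmul', Algebra.smul_def]
  constructor
  · intro hflat c hc i
    set N' := N.map (algebraMap R A') with hN'
    have hN'nil : IsNilpotent N' := by
      obtain ⟨k, hk⟩ := hN
      refine ⟨k, ?_⟩
      rw [hN', ← Ideal.map_pow, hk, Ideal.zero_eq_bot, Ideal.map_bot]
      rfl
    set K' := LinearMap.ker (π.baseChange A') with hK'
    -- the kernel lies in `N' • ⊤`
    have hKN : ∀ z ∈ K', z ∈ N' • (⊤ : Submodule A' (A' ⊗[R] (ι →₀ R))) := by
      intro z hz
      have hz' : π.lTensor A' z = 0 := by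
        have := LinearMap.mem_ker.mp hz
        rwa [LinearMap.baseChange_eq_ltensor] at this
      obtain ⟨w, rfl⟩ := (hexact z).mp hz'
      clear hz hz'
      induction w with
      | zero => rw [map_zero]; exact Submodule.zero_mem _
      | tmul a' c =>
        rw [LinearMap.lTensor_tmul]
        show a' ⊗ₜ[R] (c : ι →₀ R) ∈ _
        rw [hexp]
        refine Submodule.sum_mem _ (fun j _ => ?_)
        show (algebraMap R A' ((c : ι →₀ R) j) * a') ⊗ₜ[R] (Finsupp.single j (1 : R)) ∈ _
        have e1 : (algebraMap R A' ((c : ι →₀ R) j) * a') ⊗ₜ[R] (Finsupp.single j (1 : R)) =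
            algebraMap R A' ((c : ι →₀ R) j) • (a' ⊗ₜ[R] (Finsupp.single j (1 : R))) := by
          rw [smul_tmul', smul_eq_mul]
        rw [e1]
        exact Submodule.smul_mem_smul (Ideal.mem_map_of_mem _ (hker c c.2 j)) trivial
      | add x y hx hy => rw [map_add]; exact Submodule.add_mem _ hx hy
    -- the kernel vanishes
    have hinjT : Function.Injective (K'.subtype.lTensor (A' ⧸ N')) :=
      lTensor_ker_subtype_injective (π.baseChange A') hsurj (A' ⧸ N')
    have hK0 : ∀ x : K', x = 0 := by
      refine subsingleton_of_top_le_smul_top (R := A') (M := K') N' hN'nil ?_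
      intro x _
      have h1 : K'.subtype.lTensor (A' ⧸ N') ((1 : A' ⧸ N') ⊗ₜ[A'] x) = 0 := by
        rw [LinearMap.lTensor_tmul]
        show (1 : A' ⧸ N') ⊗ₜ[A'] (x : A' ⊗[R] (ι →₀ R)) = 0
        have hx := hKN x x.2
        refine Submodule.smul_induction_on hx ?_ ?_
        · intro n hn l _
          rw [← smul_tmul, Algebra.smul_def, mul_one]
          have : algebraMap A' (A' ⧸ N') n = 0 := Ideal.Quotient.eq_zero_iff_mem.mpr hn
          rw [this, zero_tmul]
        · intro a b ha hb
          rw [tmul_add, ha, hb, add_zero]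
      have h2 : (1 : A' ⧸ N') ⊗ₜ[A'] x = 0 := hinjT (h1.trans (map_zero _).symm)
      have h3 := congrArg (TensorProduct.quotTensorEquivQuotSMul K' N') h2
      rw [map_zero] at h3
      have h4 : TensorProduct.quotTensorEquivQuotSMul K' N' ((1 : A' ⧸ N') ⊗ₜ[A'] x) =
          Submodule.Quotient.mk ((1 : A') • x) :=
        TensorProduct.quotTensorEquivQuotSMul_mk_tmul N' 1 x
      rw [h4, one_smul, Submodule.Quotient.mk_eq_zero] at h3
      exact h3
    -- conclusion
    have hmem : (1 : A') ⊗ₜ[R] c ∈ K' := by
      rw [hK', LinearMap.mem_ker, LinearMap.baseChange_tmul, LinearMap.mem_ker.mp hc, tmul_zero]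
    have h0 : (1 : A') ⊗ₜ[R] c = 0 := congrArg Subtype.val (hK0 ⟨_, hmem⟩)
    have h5 := congrArg (fun z => TensorProduct.rid R A' ((Finsupp.lapply i).lTensor A' z)) h0
    simp only [LinearMap.lTensor_tmul, Finsupp.lapply_apply, TensorProduct.rid_tmul, map_zero] at h5
    rw [Algebra.algebraMap_eq_smul_one]
    exact h5
  · intro h0
    have hinj : Function.Injective (π.baseChange A') := by
      rw [injective_iff_map_eq_zero]
      intro z hz
      have hz' : π.lTensor A' z = 0 := by
        rwa [LinearMap.baseChange_eq_ltensor] at hz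
      obtain ⟨w, rfl⟩ := (hexact z).mp hz'
      clear hz hz'
      induction w with
      | zero => rw [map_zero]
      | tmul a' c =>
        rw [LinearMap.lTensor_tmul]
        show a' ⊗ₜ[R] (c : ι →₀ R) = 0
        rw [hexp]
        refine Finset.sum_eq_zero (fun j _ => ?_)
        show (algebraMap R A' ((c : ι →₀ R) j) * a') ⊗ₜ[R] (Finsupp.single j (1 : R)) = 0
        rw [h0 c c.2 j, zero_mul, zero_tmul]
      | add x y hx hy => rw [map_add, hx, hy, add_zero]
    exact Module.Flat.of_linearEquiv
      (LinearEquiv.ofBijective (π.baseChange A') ⟨hinj, hsurj⟩).symm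

end LemmaF

end Groth.Agent.Lib.FlatIdealH2
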