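import Groth.Agent.Lib.FlatIdeal1_helper2

/-!
# Generic freeness modulo the nilradical, elementary form (helper2)

* `exists_family`: `A` with prime nilradical `N`, `B` a finite type `A`-algebra, `M` a finite
  `B`-module: there are `h ∉ N` and a family `v` in `M` which is a basis of `M/NM` over `A/N` after
  inverting `h`, in elementary terms.
APPEND-ONLY once landed.
-/

set_option autoImplicit false
set_option maxHeartbeats 1000000
set_option linter.style.haveILetI false
set_option linter.unusedSectionVars false
set_option linter.unusedVariables false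
universe u

open TensorProduct

namespace Groth.Agent.Lib.FlatIdealH2

section Interface

variable {A : Type u} [CommRing A] {B : Type u} [CommRing B] [Algebra A B]
  {M : Type u} [AddCommGroup M] [Module B M] [Module A M] [IsScalarTower A B M]

theorem mem_smul_top_of_mem_map_smul_top (I : Ideal A) {x : M}
    (hx : x ∈ (I.map (algebraMap A B)) • (⊤ : Submodule B M)) :
    x ∈ I • (⊤ : Submodule A M) := by
  have key : ∀ b ∈ I.map (algebraMap A B), ∀ m : M, b • m ∈ I • (⊤ : Submodule A M) := by
    intro b hb
    refine Submodule.span_induction (p := fun b _ => ∀ m : M, b • m ∈ I • (⊤ : Submodule A M))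
      ?_ ?_ ?_ ?_ hb
    · rintro _ ⟨r, hr, rfl⟩ m
      rw [algebraMap_smul]
      exact Submodule.smul_mem_smul hr trivial
    · intro m
      rw [zero_smul]
      exact Submodule.zero_mem _
    · intro a b _ _ ha hb m
      rw [add_smul]
      exact Submodule.add_mem _ (ha m) (hb m)
    · intro a b _ hb m
      rw [smul_eq_mul, mul_comm, mul_smul]
      exact hb (a • m)
  refine Submodule.smul_induction_on hx ?_ ?_
  · intro b hb m _
    exact key b hb m
  · intro a b ha hb
    exact Submodule.add_mem _ ha hb

theorem mem_map_smul_top_of_mem_smul_top (I : Ideal A) {x : M}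
    (hx : x ∈ I • (⊤ : Submodule A M)) :
    x ∈ (I.map (algebraMap A B)) • (⊤ : Submodule B M) := by
  refine Submodule.smul_induction_on hx ?_ ?_
  · intro r hr m _
    rw [← algebraMap_smul B r m]
    exact Submodule.smul_mem_smul (Ideal.mem_map_of_mem _ hr) trivial
  · intro a b ha hb
    exact Submodule.add_mem _ ha hb

/-- **Generic freeness modulo a prime ideal** (to be used with the nilradical), in elementary
form. -/
theorem exists_family [Algebra.FiniteType A B] [Module.Finite B M] (N : Ideal A) [N.IsPrime] :
    ∃ (h : A) (_ : h ∉ N) (ι : Type u) (v : ι → M),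
      (∀ x : M, ∃ (k : ℕ) (c : ι →₀ A),
        h ^ k • x - Finsupp.linearCombination A v c ∈ N • (⊤ : Submodule A M)) ∧
      (∀ c : ι →₀ A, Finsupp.linearCombination A v c ∈ N • (⊤ : Submodule A M) →
        ∀ i, c i ∈ N) := by
  classical
  -- the quotient objects
  letI mD : Module (A ⧸ N) (M ⧸ (N.map (algebraMap A B) • (⊤ : Submodule B M))) :=
    Module.compHom _ (algebraMap (A ⧸ N) (B ⧸ N.map (algebraMap A B)))
  haveI : IsScalarTower (A ⧸ N) (B ⧸ N.map (algebraMap A B))
      (M ⧸ (N.map (algebraMap A B) • (⊤ : Submodule B M))) :=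
    IsScalarTower.of_algebraMap_smul fun _ _ => rfl
  haveI : Algebra.FiniteType A (B ⧸ N.map (algebraMap A B)) :=
    Algebra.FiniteType.of_surjective (Ideal.Quotient.mkₐ A (N.map (algebraMap A B)))
      (Ideal.Quotient.mkₐ_surjective A _)
  haveI : Algebra.FiniteType (A ⧸ N) (B ⧸ N.map (algebraMap A B)) :=
    Algebra.FiniteType.of_restrictScalars_finiteType A (A ⧸ N) (B ⧸ N.map (algebraMap A B))
  haveI : Module.Finite B (M ⧸ (N.map (algebraMap A B) • (⊤ : Submodule B M))) := inferInstance
  haveI : IsScalarTower B (B ⧸ N.map (algebraMap A B))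
      (M ⧸ (N.map (algebraMap A B) • (⊤ : Submodule B M))) := by
    refine ⟨fun b s m => ?_⟩
    obtain ⟨b', rfl⟩ := Ideal.Quotient.mk_surjective s
    obtain ⟨m', rfl⟩ := Submodule.Quotient.mk_surjective _ m
    have e1 : b • (Ideal.Quotient.mk (N.map (algebraMap A B)) b') =
        Ideal.Quotient.mk (N.map (algebraMap A B)) (b * b') := by
      rw [Algebra.smul_def, Ideal.Quotient.algebraMap_eq, ← map_mul]
    rw [e1, Module.Quotient.mk_smul_mk, Module.Quotient.mk_smul_mk, ← Submodule.Quotient.mk_smul,
      mul_smul]
  haveI : Module.Finite (B ⧸ N.map (algebraMap A B))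
      (M ⧸ (N.map (algebraMap A B) • (⊤ : Submodule B M))) :=
    Module.Finite.of_restrictScalars_finite B _ _
  obtain ⟨a, ha, hG, -⟩ := GenFreeH8.main (R := A ⧸ N) (S := B ⧸ N.map (algebraMap A B))
    (M ⧸ (N.map (algebraMap A B) • (⊤ : Submodule B M)))
  obtain ⟨h, rfl⟩ := Ideal.Quotient.mk_surjective a
  have hh : h ∉ N := fun hmem => ha (Ideal.Quotient.eq_zero_iff_mem.mpr hmem)
  obtain ⟨s, hs, hsp⟩ := hG
  have hsurj := Submodule.mkQ_surjective (N.map (algebraMap A B) • (⊤ : Submodule B M))
  choose lift hlift using hsurj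
  -- the action of `A ⧸ N` on the quotient module
  have hsmul : ∀ (r : A) (m : M), (Ideal.Quotient.mk N r : A ⧸ N) •
      (Submodule.Quotient.mk m : M ⧸ (N.map (algebraMap A B) • (⊤ : Submodule B M))) =
      Submodule.Quotient.mk (r • m) := by
    intro r m
    show (algebraMap (A ⧸ N) (B ⧸ N.map (algebraMap A B)) (Ideal.Quotient.mk N r)) •
      (Submodule.Quotient.mk m : M ⧸ (N.map (algebraMap A B) • (⊤ : Submodule B M))) = _
    rw [Ideal.Quotient.algebraMap_quotient_map_quotient, Module.Quotient.mk_smul_mk,
      algebraMap_smul]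
  have hlc : ∀ c : s →₀ A,
      (Submodule.Quotient.mk (Finsupp.linearCombination A (fun e : s => lift e.1) c) :
        M ⧸ (N.map (algebraMap A B) • (⊤ : Submodule B M))) =
      Finsupp.linearCombination (A ⧸ N)
        ((↑) : s → M ⧸ (N.map (algebraMap A B) • (⊤ : Submodule B M)))
        (c.mapRange (Ideal.Quotient.mk N) (map_zero _)) := by
    intro c
    induction c using Finsupp.induction_linear with
    | zero =>
      rw [map_zero, Finsupp.mapRange_zero, map_zero]
      rfl
    | add x y hx hy =>
      rw [map_add, Submodule.Quotient.mk_add, hx, hy,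
        Finsupp.mapRange_add (fun a b => map_add (Ideal.Quotient.mk N) a b), map_add]
    | single e r =>
      rw [Finsupp.linearCombination_single, Finsupp.mapRange_single,
        Finsupp.linearCombination_single, ← hsmul]
      congr 1
      exact hlift e.1
  refine ⟨h, hh, s, fun e => lift e.1, ?_, ?_⟩
  · intro x
    obtain ⟨k, hk⟩ := hsp (Submodule.Quotient.mk x)
    obtain ⟨l, hl⟩ := (Finsupp.mem_span_iff_linearCombination (A ⧸ N) s _).mp hk
    -- lift the coefficients
    obtain ⟨sec, hsec0, hsec⟩ : ∃ sec : A ⧸ N → A, sec 0 = 0 ∧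
        ∀ d, Ideal.Quotient.mk N (sec d) = d := by
      refine ⟨fun d => if d = 0 then 0 else (Ideal.Quotient.mk_surjective d).choose, if_pos rfl,
        fun d => ?_⟩
      by_cases hd : d = 0
      · simp only [hd, if_true, map_zero]
      · simp only [hd, if_false]
        exact (Ideal.Quotient.mk_surjective d).choose_spec
    refine ⟨k, l.mapRange sec hsec0, ?_⟩
    apply mem_smul_top_of_mem_map_smul_top (B := B)
    rw [← Submodule.Quotient.mk_eq_zero, Submodule.Quotient.mk_sub, hlc, ← hsmul, map_pow]
    have e1 : (l.mapRange sec hsec0).mapRange (Ideal.Quotient.mk N) (map_zero _) = l := by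
      ext e
      rw [Finsupp.mapRange_apply, Finsupp.mapRange_apply, hsec]
    rw [e1, hl, sub_self]
  · intro c hc e
    have h1 := mem_map_smul_top_of_mem_smul_top (B := B) N hc
    rw [← Submodule.Quotient.mk_eq_zero, hlc] at h1
    have h2 := (linearIndependent_iff.mp hs) _ h1
    have h3 := DFunLike.congr_fun h2 e
    rw [Finsupp.mapRange_apply, Finsupp.zero_apply] at h3
    exact Ideal.Quotient.eq_zero_iff_mem.mp h3

end Interface

end Groth.Agent.Lib.FlatIdealH2
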