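import Groth.Agent.Lib.FlatIdeal2_helper2

/-!
# Generic flattening elements, algebra (helper2)

* `piR`, `piR_surjective`, `piR_ker`: the presentation of `A_h ⊗ M` obtained from `exists_family`.
* `exists_flattening_elements`: `A` Noetherian with prime nilradical, `B` of finite type, `M` a
  finite `B`-module: there are a non-nilpotent `h` and a finite set `T` with `h t` nilpotent for
  `t ∈ T` such that for every `A`-algebra `A'` in which `h` is invertible,
  `A' ⊗ M` is flat over `A'` iff `T` maps to zero in `A'`.
APPEND-ONLY once landed.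
-/

set_option autoImplicit false
set_option maxHeartbeats 1000000
set_option linter.style.haveILetI false
set_option linter.unusedSectionVars false
set_option linter.unusedVariables false
universe u

open TensorProduct

namespace Groth.Agent.Lib.FlatIdealH2

section Loc

variable {A : Type u} [CommRing A] {M : Type u} [AddCommGroup M] [Module A M]
  (h : A) {ι : Type u} (v : ι → M)

/-- The presentation map over the localization. -/
noncomputable def piR : (ι →₀ Localization.Away h) →ₗ[Localization.Away h]
    (Localization.Away h ⊗[A] M) :=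
  Finsupp.linearCombination (Localization.Away h) (fun i => (1 : Localization.Away h) ⊗ₜ[A] v i)

theorem one_tmul_lc (c : ι →₀ A) :
    (1 : Localization.Away h) ⊗ₜ[A] (Finsupp.linearCombination A v c) =
      piR h v (c.mapRange (algebraMap A (Localization.Away h)) (map_zero _)) := by
  induction c using Finsupp.induction_linear with
  | zero => rw [map_zero, tmul_zero, Finsupp.mapRange_zero, map_zero]
  | add x y hx hy =>
    rw [map_add, tmul_add, hx, hy,
      Finsupp.mapRange_add (fun a b => map_add (algebraMap A (Localization.Away h)) a b), map_add]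
  | single i r =>
    rw [Finsupp.linearCombination_single, Finsupp.mapRange_single, piR,
      Finsupp.linearCombination_single, tmul_smul, algebraMap_smul]

theorem one_tmul_mem_smul_top (N : Ideal A) {x : M} (hx : x ∈ N • (⊤ : Submodule A M)) :
    (1 : Localization.Away h) ⊗ₜ[A] x ∈
      (N.map (algebraMap A (Localization.Away h))) •
        (⊤ : Submodule (Localization.Away h) (Localization.Away h ⊗[A] M)) := by
  refine Submodule.smul_induction_on hx ?_ ?_
  · intro r hr m _
    rw [tmul_smul, ← algebraMap_smul (Localization.Away h) r]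
    exact Submodule.smul_mem_smul (Ideal.mem_map_of_mem _ hr) trivial
  · intro a b ha hb
    rw [tmul_add]
    exact Submodule.add_mem _ ha hb

theorem piR_surjective (N : Ideal A) (hN : IsNilpotent N)
    (hgen : ∀ x : M, ∃ (k : ℕ) (c : ι →₀ A),
        h ^ k • x - Finsupp.linearCombination A v c ∈ N • (⊤ : Submodule A M)) :
    Function.Surjective (piR h v) := by
  set R := Localization.Away h with hR
  set NR := N.map (algebraMap A R) with hNR
  have hNRnil : IsNilpotent NR := by
    obtain ⟨k, hk⟩ := hN
    refine ⟨k, ?_⟩
    rw [hNR, ← Ideal.map_pow, hk, Ideal.zero_eq_bot, Ideal.map_bot]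
    rfl
  have hunit : IsUnit (algebraMap A R h) := IsLocalization.Away.algebraMap_isUnit h
  have htop : LinearMap.range (piR h v) ⊔ NR • (⊤ : Submodule R (R ⊗[A] M)) = ⊤ := by
    rw [eq_top_iff]
    rintro z -
    induction z with
    | zero => exact Submodule.zero_mem _
    | add x y hx hy => exact Submodule.add_mem _ hx hy
    | tmul r x =>
      have e1 : r ⊗ₜ[A] x = r • ((1 : R) ⊗ₜ[A] x) := by
        rw [smul_tmul', smul_eq_mul, mul_one]
      rw [e1]
      refine Submodule.smul_mem _ r ?_
      obtain ⟨k, c, hkc⟩ := hgen x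
      have h1 := one_tmul_mem_smul_top h N hkc
      rw [tmul_sub, one_tmul_lc, tmul_smul, ← algebraMap_smul R (h ^ k)] at h1
      have h2 : algebraMap A R (h ^ k) • ((1 : R) ⊗ₜ[A] x) ∈
          LinearMap.range (piR h v) ⊔ NR • (⊤ : Submodule R (R ⊗[A] M)) := by
        have := Submodule.add_mem_sup (LinearMap.mem_range_self (piR h v)
          (c.mapRange (algebraMap A (Localization.Away h)) (map_zero _))) h1
        rwa [add_sub_cancel] at this
      have hu : IsUnit (algebraMap A R (h ^ k)) := by
        rw [map_pow]; exact hunit.pow k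
      obtain ⟨u, hu'⟩ := hu
      have := Submodule.smul_mem _ (↑u⁻¹ : R) h2
      rwa [← hu', smul_smul, Units.inv_mul, one_smul] at this
  have := eq_top_of_sup_smul_top NR hNRnil _ htop
  exact LinearMap.range_eq_top.mp this

theorem piR_ker (N : Ideal A) [N.IsPrime] (hh : h ∉ N)
    (hind : ∀ c : ι →₀ A, Finsupp.linearCombination A v c ∈ N • (⊤ : Submodule A M) →
      ∀ i, c i ∈ N)
    (c : ι →₀ Localization.Away h) (hc : c ∈ LinearMap.ker (piR h v)) (i : ι) :
    c i ∈ N.map (algebraMap A (Localization.Away h)) := by
  classical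
  set R := Localization.Away h with hR
  obtain ⟨b, hb⟩ := IsLocalization.exist_integer_multiples (Submonoid.powers h) c.support c
  have hb' : ∀ j, ∃ a : A, algebraMap A R a = (b : A) • c j := by
    intro j
    by_cases hj : j ∈ c.support
    · exact hb j hj
    · refine ⟨0, ?_⟩
      rw [Finsupp.notMem_support_iff.mp hj, smul_zero, map_zero]
  choose a ha using hb'
  let ct : ι →₀ A := Finsupp.onFinset c.support (fun j => if j ∈ c.support then a j else 0) (by
    intro j hj
    by_contra hj'
    exact hj (if_neg hj'))
  have hct : ∀ j, algebraMap A R (ct j) = (b : A) • c j := by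
    intro j
    show algebraMap A R (if j ∈ c.support then a j else 0) = _
    by_cases hj : j ∈ c.support
    · rw [if_pos hj, ha]
    · rw [if_neg hj, map_zero, Finsupp.notMem_support_iff.mp hj, smul_zero]
  have hmr : ct.mapRange (algebraMap A R) (map_zero _) = algebraMap A R (b : A) • c := by
    ext j
    rw [Finsupp.mapRange_apply, hct, Finsupp.smul_apply, Algebra.smul_def, smul_eq_mul]
  have h0 : TensorProduct.mk A R M 1 (Finsupp.linearCombination A v ct) = 0 := by
    show (1 : R) ⊗ₜ[A] (Finsupp.linearCombination A v ct) = 0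
    rw [one_tmul_lc, hmr, map_smul, LinearMap.mem_ker.mp hc, smul_zero]
  haveI : IsLocalizedModule (Submonoid.powers h) (TensorProduct.mk A R M 1) :=
    (isLocalizedModule_iff_isBaseChange (Submonoid.powers h) R _).mpr
      (TensorProduct.isBaseChange A M R)
  obtain ⟨s', hs'⟩ := (IsLocalizedModule.eq_zero_iff (Submonoid.powers h)
    (TensorProduct.mk A R M 1)).mp h0
  have h1 : Finsupp.linearCombination A v ((s' : A) • ct) ∈ N • (⊤ : Submodule A M) := by
    rw [map_smul]
    have : (s' : A) • Finsupp.linearCombination A v ct = 0 := hs'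
    rw [this]
    exact Submodule.zero_mem _
  have h2 := hind _ h1 i
  rw [Finsupp.smul_apply, smul_eq_mul] at h2
  have hs'N : (s' : A) ∉ N := by
    obtain ⟨m, hm⟩ := s'.2
    intro hmem
    rw [← hm] at hmem
    exact hh (Ideal.IsPrime.mem_of_pow_mem inferInstance m hmem)
  have h3 : ct i ∈ N := (Ideal.IsPrime.mem_or_mem inferInstance h2).resolve_left hs'N
  have h4 : algebraMap A R (b : A) * c i ∈ N.map (algebraMap A R) := by
    rw [← Algebra.smul_def, ← hct]
    exact Ideal.mem_map_of_mem _ h3
  exact (Ideal.unit_mul_mem_iff_mem _ (IsLocalization.map_units R b)).mp h4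

end Loc

section Main

/-- **Generic flattening elements**. -/
theorem exists_flattening_elements {A : Type u} [CommRing A] [IsNoetherianRing A]
    (hprime : (nilradical A).IsPrime)
    (B : Type u) [CommRing B] [Algebra A B] [Algebra.FiniteType A B]
    (M : Type u) [AddCommGroup M] [Module B M] [Module A M] [IsScalarTower A B M]
    [Module.Finite B M] :
    ∃ (h : A) (_ : ¬ IsNilpotent h) (T : Finset A), (∀ t ∈ T, IsNilpotent (h * t)) ∧
      ∀ (A' : Type u) [CommRing A'] [Algebra A A'], IsUnit (algebraMap A A' h) →
        (Module.Flat A' (A' ⊗[A] M) ↔ ∀ t ∈ T, algebraMap A A' t = 0) := by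
  classical
  haveI := hprime
  obtain ⟨h, hh, ι, v, hgen, hind⟩ := exists_family (A := A) (B := B) (M := M) (nilradical A)
  have hNnil : IsNilpotent (nilradical A) := IsNoetherianRing.isNilpotent_nilradical A
  set R := Localization.Away h with hR
  set NR := (nilradical A).map (algebraMap A R) with hNR
  have hNRnil : IsNilpotent NR := by
    obtain ⟨k, hk⟩ := hNnil
    refine ⟨k, ?_⟩
    rw [hNR, ← Ideal.map_pow, hk, Ideal.zero_eq_bot, Ideal.map_bot]
    rfl
  have hsurj := piR_surjective h v (nilradical A) hNnil hgen
  have hker := piR_ker h v (nilradical A) hh hind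
  obtain ⟨J, hJ⟩ : ∃ J : Ideal R,
      J = Ideal.span {r | ∃ c ∈ LinearMap.ker (piR h v), ∃ i, r = c i} := ⟨_, rfl⟩
  haveI : IsNoetherianRing R :=
    IsLocalization.isNoetherianRing (Submonoid.powers h) R inferInstance
  obtain ⟨G, hG⟩ : J.FG := IsNoetherian.noetherian J
  have hJN : J ≤ NR := by
    rw [hJ]
    refine Ideal.span_le.mpr ?_
    rintro _ ⟨c, hc, i, rfl⟩
    exact hker c hc i
  have hnum : ∀ r : R, ∃ (a : A) (n : ℕ), r * algebraMap A R (h ^ n) = algebraMap A R a := by
    intro r
    obtain ⟨⟨a, s⟩, hs⟩ := IsLocalization.surj (Submonoid.powers h) r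
    obtain ⟨n, hn⟩ := s.2
    have hn' : h ^ n = (s : A) := hn
    refine ⟨a, n, ?_⟩
    rw [hn']
    exact hs
  choose num den hnd using hnum
  refine ⟨h, hh, G.image num, ?_, ?_⟩
  · intro t ht
    obtain ⟨r, hr, rfl⟩ := Finset.mem_image.mp ht
    have hrJ : r ∈ J := by rw [← hG]; exact Ideal.subset_span hr
    have hrN : IsNilpotent r := by
      have hmem : r ∈ NR := hJN hrJ
      obtain ⟨k, hk⟩ := hNRnil
      refine ⟨k, ?_⟩
      have := Ideal.pow_mem_pow hmem k
      rw [hk] at this
      exact this
    have h1 : IsNilpotent (algebraMap A R (num r)) := by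
      rw [← hnd]
      exact Commute.isNilpotent_mul_right (Commute.all _ _) hrN
    obtain ⟨k, hk⟩ := h1
    rw [← map_pow, IsLocalization.map_eq_zero_iff (Submonoid.powers h) R] at hk
    obtain ⟨m, hm⟩ := hk
    obtain ⟨n, hn⟩ := m.2
    refine ⟨n + k, ?_⟩
    have hn' : h ^ n = (m : A) := hn
    have hz : h ^ n * num r ^ k = 0 := by rw [hn']; exact hm
    calc (h * num r) ^ (n + k) = (h ^ k * num r ^ n) * (h ^ n * num r ^ k) := by ring
      _ = 0 := by rw [hz, mul_zero]
  · intro A' _ _ hunit
    letI algR : Algebra R A' := (IsLocalization.Away.lift h hunit).toAlgebra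
    haveI : IsScalarTower A R A' := IsScalarTower.of_algebraMap_eq (fun a => by
      show algebraMap A A' a = IsLocalization.Away.lift h hunit (algebraMap A R a)
      rw [IsLocalization.Away.lift_eq])
    have e := TensorProduct.AlgebraTensorModule.cancelBaseChange A R A' A' M
    rw [← Module.Flat.equiv_iff e, flat_baseChange_iff NR hNRnil (piR h v) hsurj hker A']
    have hJker : (∀ c ∈ LinearMap.ker (piR h v), ∀ i, algebraMap R A' (c i) = 0) ↔
        ∀ r ∈ G, algebraMap R A' r = 0 := by
      have e1 : (∀ c ∈ LinearMap.ker (piR h v), ∀ i, algebraMap R A' (c i) = 0) ↔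
          J ≤ RingHom.ker (algebraMap R A') := by
        rw [hJ, Ideal.span_le]
        constructor
        · rintro H _ ⟨c, hc, i, rfl⟩
          exact RingHom.mem_ker.mpr (H c hc i)
        · intro H c hc i
          exact RingHom.mem_ker.mp (H ⟨c, hc, i, rfl⟩)
      have e2 : J ≤ RingHom.ker (algebraMap R A') ↔ ∀ r ∈ G, algebraMap R A' r = 0 := by
        rw [← hG, Ideal.span_le]
        constructor
        · intro H r hr
          exact RingHom.mem_ker.mp (H (Finset.mem_coe.mpr hr))
        · intro H r hr
          exact RingHom.mem_ker.mpr (H r (Finset.mem_coe.mp hr))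
      exact e1.trans e2
    rw [hJker]
    constructor
    · intro H t ht
      obtain ⟨r, hr, rfl⟩ := Finset.mem_image.mp ht
      rw [IsScalarTower.algebraMap_apply A R A', ← hnd, map_mul, H r hr, zero_mul]
    · intro H r hr
      have h1 := H (num r) (Finset.mem_image_of_mem num hr)
      rw [IsScalarTower.algebraMap_apply A R A', ← hnd, map_mul] at h1
      have hu : IsUnit (algebraMap R A' (algebraMap A R (h ^ den r))) := by
        rw [← IsScalarTower.algebraMap_apply A R A', map_pow]
        exact hunit.pow _
      exact (hu.mul_left_eq_zero).mp h1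

end Main

end Groth.Agent.Lib.FlatIdealH2
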