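import Groth.Agent.Lib.LimFlatMain_helper2
import Groth.Agent.Lib.Fpqc1_helper8
import Groth.Agent.S4863

/-!
# Pointwise descent of flatness over a limit of schemes (EGA IV 11.2.6 (i), pointwise) (helper2)

* `chart_flat'`: chart version of the descent of flatness, assuming flatness only on the chart.
* `exists_stage_flatOverAt`: if the base change of `F₀` to the limit is flat over the limit at `x`,
  then its base change to some stage is flat over the stage at the image of `x`.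
* `main4900`.
APPEND-ONLY once landed.
-/

set_option autoImplicit false
set_option maxHeartbeats 1000000
set_option linter.style.haveILetI false
set_option linter.unusedSectionVars false
set_option linter.unusedVariables false
universe u

open CategoryTheory CategoryTheory.Limits AlgebraicGeometry TopologicalSpace Opposite TensorProduct

namespace Groth.Agent.Lib.LimMod

section Lim

variable {I : Type u} [SmallCategory I] [IsCofiltered I] (D : I ⥤ Scheme.{u}) (c : Cone D)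
  (hc : IsLimit c) [∀ (i j : I) (f : i ⟶ j), IsAffineHom (D.map f)] (i₀ : I)

attribute [local instance] algR algRinf

include hc in
/-- Chart version of the descent of flatness over the base, assuming flatness on the chart only. -/
theorem chart_flat' {W₀ : (D.obj i₀).Opens} (hW₀ : IsAffineOpen W₀) {X₀ : Scheme.{u}}
    (f₀ : X₀ ⟶ D.obj i₀) [LocallyOfFinitePresentation f₀] (F₀ : X₀.Modules) [F₀.IsQuasicoherent]
    [SheafOfModules.IsFinitePresentation (R := X₀.ringCatSheaf) F₀]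
    {U₀ : X₀.Opens} (hU₀ : IsAffineOpen U₀) (e : U₀ ≤ f₀ ⁻¹ᵁ W₀)
    {X : Scheme.{u}} (qX : X ⟶ X₀) (f : X ⟶ c.pt) (hX : IsPullback qX f f₀ (c.π.app i₀))
    (hfl : ∀ y ∈ qX ⁻¹ᵁ U₀ ⊓ f ⁻¹ᵁ Uinf D c i₀ W₀,
      FlatMod.IsFlatOverAt f ((Scheme.Modules.pullback qX).obj F₀) y) :
    ∃ k : Over i₀, ∀ (k' : Over i₀) (g : k' ⟶ k) {Xk : Scheme.{u}} (p : Xk ⟶ X₀)
      (fk : Xk ⟶ D.obj k'.left) (hk : IsPullback p fk f₀ (D.map k'.hom)),
      @Module.Flat Γ(D.obj k'.left, Uj D i₀ W₀ k')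
        Γ((Scheme.Modules.pullback p).obj F₀, p ⁻¹ᵁ U₀ ⊓ fk ⁻¹ᵁ Uj D i₀ W₀ k') _ _
        (Module.compHom _ (fk.appLE (Uj D i₀ W₀ k') (p ⁻¹ᵁ U₀ ⊓ fk ⁻¹ᵁ Uj D i₀ W₀ k')
          inf_le_right).hom) := by
  haveI hA' : ∀ {i j : I} (f : i ⟶ j), IsAffineHom (D.map f) := fun f => inferInstance
  haveI := isAffineHom_π_app D c hc i₀
  have hWinf : IsAffineOpen (Uinf D c i₀ W₀) := hW₀.preimage (c.π.app i₀)
  have hsys := isColimSys D c i₀ W₀ hc hW₀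
  letI algC : Algebra Γ(D.obj i₀, W₀) Γ(X₀, U₀) := (f₀.appLE W₀ U₀ e).hom.toAlgebra
  letI modM : Module Γ(D.obj i₀, W₀) Γ(F₀, U₀) := Module.compHom _ (f₀.appLE W₀ U₀ e).hom
  haveI : IsScalarTower Γ(D.obj i₀, W₀) Γ(X₀, U₀) Γ(F₀, U₀) :=
    IsScalarTower.of_algebraMap_smul fun _ _ => rfl
  haveI : Algebra.FinitePresentation Γ(D.obj i₀, W₀) Γ(X₀, U₀) :=
    Scheme.Hom.finitePresentation_appLE f₀ hW₀ hU₀ e
  haveI : Module.FinitePresentation Γ(X₀, U₀) Γ(F₀, U₀) :=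
    QCohFP2.finitePresentation_of_isFinitePresentation F₀ hU₀
  obtain ⟨hUaff, -⟩ := FlatBC2H8.affine_pushout hX hW₀ hU₀ hWinf e le_rfl
  have h1 := FlatSecH8.flat_sections_of_flat_stalks f ((Scheme.Modules.pullback qX).obj F₀)
    hUaff (inf_le_right : qX ⁻¹ᵁ U₀ ⊓ f ⁻¹ᵁ Uinf D c i₀ W₀ ≤ f ⁻¹ᵁ Uinf D c i₀ W₀)
    (fun x hxU => (FlatSecH8.isFlatOverAt_iff_flat_stalk f _ hWinf inf_le_right hxU).mp
      (hfl x hxU))
  have h2 := (flat_sections_pullback_iff hX F₀ hW₀ hU₀ hWinf e le_rfl).mp h1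
  obtain ⟨k, hk⟩ := exists_stage_flat_sys hsys (C₀ := Γ(X₀, U₀)) Γ(F₀, U₀) h2
  refine ⟨k, fun k' g Xk p fk hk' => ?_⟩
  exact (flat_sections_pullback_iff hk' F₀ hW₀ hU₀ (hW₀.preimage (D.map k'.hom)) e le_rfl).mpr
    (hk k' g)

open Groth.Agent.Lib.LimBaseChangeH7 in
include hc in
/-- **EGA IV 11.2.6, pointwise**: if the base change of `F₀` to the limit is flat over the limit
at `x`, then the base change to a stage is flat over the stage at the image of `x`. -/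
theorem exists_stage_flatOverAt {X₀ : Scheme.{u}} (f₀ : X₀ ⟶ D.obj i₀)
    [LocallyOfFinitePresentation f₀] (F₀ : X₀.Modules) [F₀.IsQuasicoherent]
    [SheafOfModules.IsFinitePresentation (R := X₀.ringCatSheaf) F₀]
    {X : Scheme.{u}} (qX : X ⟶ X₀) (f : X ⟶ c.pt) (hX : IsPullback qX f f₀ (c.π.app i₀)) (x : X)
    (hfl : FlatMod.IsFlatOverAt f ((Scheme.Modules.pullback qX).obj F₀) x) :
    ∃ κ : Over i₀, FlatMod.IsFlatOverAt (pullback.snd f₀ (D.map κ.hom))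
      ((Scheme.Modules.pullback (pullback.fst f₀ (D.map κ.hom))).obj F₀)
      ((bcCone c hX).π.app κ x) := by
  classical
  haveI hA' : ∀ {i j : I} (f : i ⟶ j), IsAffineHom (D.map f) := fun f => inferInstance
  haveI : LocallyOfFinitePresentation f :=
    MorphismProperty.of_isPullback (P := @LocallyOfFinitePresentation) hX inferInstance
  have hFfp : CohB1.IsFP ((Scheme.Modules.pullback qX).obj F₀) := FpqcH8.isFP_pullback qX F₀
  haveI : Coh.IsQCoh ((Scheme.Modules.pullback qX).obj F₀) :=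
    PBH8.isQuasicoherent_pullback qX F₀
  have hopen : IsOpen {y : X | FlatMod.IsFlatOverAt f ((Scheme.Modules.pullback qX).obj F₀) y} :=
    Groth.Agent.S4863.result f _ hFfp
  -- an affine open of the base stage around the image of `x`
  obtain ⟨_, ⟨W₀, hW₀ : IsAffineOpen W₀, rfl⟩, hxW₀, -⟩ :=
    (D.obj i₀).isBasis_affineOpens.exists_subset_of_mem_open
      (Set.mem_univ (c.π.app i₀ (f x))) isOpen_univ
  obtain ⟨U', hU'def⟩ : ∃ U' : X.Opens, U' = (⟨_, hopen⟩ : X.Opens) ⊓ f ⁻¹ᵁ Uinf D c i₀ W₀ :=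
    ⟨_, rfl⟩
  have hxU' : x ∈ U' := by
    rw [hU'def]
    exact ⟨hfl, hxW₀⟩
  -- `X` is the limit of the base-changed system
  haveI : ∀ {j k : Over i₀} (g : j ⟶ k), IsAffineHom ((bcDiagram D i₀ f₀).map g) :=
    fun g => inferInstance
  obtain ⟨_, ⟨j, V, hV, rfl⟩, hxV, hVU'⟩ := Opens.isBasis_iff_nbhd.mp
    (isBasis_preimage_isAffineOpen (bcDiagram D i₀ f₀) (bcCone c hX) (isLimitBcCone c hX hc)) hxU'
  -- notation for the stage `j`
  obtain ⟨f₁, hf₁⟩ : ∃ f₁ : (bcDiagram D i₀ f₀).obj j ⟶ D.obj j.left,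
      f₁ = pullback.snd f₀ (D.map j.hom) := ⟨_, rfl⟩
  obtain ⟨p₁, hp₁⟩ : ∃ p₁ : (bcDiagram D i₀ f₀).obj j ⟶ X₀,
      p₁ = pullback.fst f₀ (D.map j.hom) := ⟨_, rfl⟩
  obtain ⟨q₁, hq₁⟩ : ∃ q₁ : X ⟶ (bcDiagram D i₀ f₀).obj j, q₁ = (bcCone c hX).π.app j :=
    ⟨_, rfl⟩
  have hq₁p₁ : q₁ ≫ p₁ = qX := by rw [hq₁, hp₁]; exact bcCone_π_fst c hX j
  have hq₁f₁ : q₁ ≫ f₁ = f ≫ c.π.app j.left := by rw [hq₁, hf₁]; exact bcCone_π_snd c hX j
  have hX₁ : IsPullback q₁ f f₁ (c.π.app j.left) := by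
    rw [hq₁, hf₁]; exact isPullback_bcCone_π c hX j
  haveI : LocallyOfFinitePresentation f₁ := by
    rw [hf₁]; exact MorphismProperty.pullback_snd _ _ inferInstance
  have hW₁ : IsAffineOpen (Uj D i₀ W₀ j) := hW₀.preimage (D.map j.hom)
  -- the point `q₁ x` lies over `W₁`
  have hxW₁ : q₁ x ∈ f₁ ⁻¹ᵁ Uj D i₀ W₀ j := by
    show (D.map j.hom) (f₁ (q₁ x)) ∈ W₀
    have e1 : (D.map j.hom) (f₁ (q₁ x)) = c.π.app i₀ (f x) := by
      rw [← Scheme.Hom.comp_apply, ← Scheme.Hom.comp_apply, reassoc_of% hq₁f₁, c.w]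
      rfl
    rw [e1]
    exact hxW₀
  have hxV' : q₁ x ∈ V := by rw [hq₁]; exact hxV
  obtain ⟨_, ⟨V₁, hV₁ : IsAffineOpen V₁, rfl⟩, hxV₁, hV₁le⟩ :=
    ((bcDiagram D i₀ f₀).obj j).isBasis_affineOpens.exists_subset_of_mem_open
      (show q₁ x ∈ V ⊓ f₁ ⁻¹ᵁ Uj D i₀ W₀ j from ⟨hxV', hxW₁⟩) (V ⊓ f₁ ⁻¹ᵁ Uj D i₀ W₀ j).isOpen
  have hV₁V : V₁ ≤ V := fun z hz => (hV₁le hz).1
  have e₁ : V₁ ≤ f₁ ⁻¹ᵁ Uj D i₀ W₀ j := fun z hz => (hV₁le hz).2
  -- the module at stage `j`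
  obtain ⟨F₁, hF₁⟩ : ∃ F₁ : ((bcDiagram D i₀ f₀).obj j).Modules,
      F₁ = (Scheme.Modules.pullback p₁).obj F₀ := ⟨_, rfl⟩
  haveI : F₁.IsQuasicoherent := by rw [hF₁]; exact PBH8.isQuasicoherent_pullback p₁ F₀
  haveI : SheafOfModules.IsFinitePresentation
      (R := ((bcDiagram D i₀ f₀).obj j).ringCatSheaf) F₁ := by
    rw [hF₁]; exact FpqcH8.isFP_pullback p₁ F₀
  obtain ⟨ε⟩ : Nonempty ((Scheme.Modules.pullback q₁).obj F₁ ≅
      (Scheme.Modules.pullback qX).obj F₀) := by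
    rw [hF₁]
    exact ⟨(DescH8.pbIso q₁ p₁ qX hq₁p₁).app F₀⟩
  have hfl₁ : ∀ y ∈ q₁ ⁻¹ᵁ V₁ ⊓ f ⁻¹ᵁ Uinf D c j.left (Uj D i₀ W₀ j),
      FlatMod.IsFlatOverAt f ((Scheme.Modules.pullback q₁).obj F₁) y := by
    intro y hy
    have hyU' : y ∈ U' := hVU' (by rw [← hq₁]; exact hV₁V hy.1)
    rw [hU'def] at hyU'
    exact DescH8.isFlatOverAt_of_iso f ε.symm y hyU'.1
  obtain ⟨k, hk⟩ := chart_flat' D c hc j.left hW₁ f₁ F₁ hV₁ e₁ q₁ f hX₁ hfl₁
  -- the stage `κ` over `i₀`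
  refine ⟨Over.mk (k.hom ≫ j.hom), ?_⟩
  obtain ⟨a, ha⟩ : ∃ a : Over.mk (k.hom ≫ j.hom) ⟶ j, a.left = k.hom :=
    ⟨Over.homMk k.hom rfl, rfl⟩
  obtain ⟨p, hp⟩ : ∃ p : (bcDiagram D i₀ f₀).obj (Over.mk (k.hom ≫ j.hom)) ⟶
      (bcDiagram D i₀ f₀).obj j, p = (bcDiagram D i₀ f₀).map a := ⟨_, rfl⟩
  obtain ⟨fk, hfk⟩ : ∃ fk : (bcDiagram D i₀ f₀).obj (Over.mk (k.hom ≫ j.hom)) ⟶ D.obj k.left,
      fk = pullback.snd f₀ (D.map (k.hom ≫ j.hom)) := ⟨_, rfl⟩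
  have hkpb : IsPullback p fk f₁ (D.map k.hom) := by
    have := isPullback_map D i₀ f₀ a
    rw [ha] at this
    rw [hp, hfk, hf₁]
    exact this
  have hflat := hk k (𝟙 k) p fk hkpb
  have hWk : IsAffineOpen (Uj D j.left (Uj D i₀ W₀ j) k) := hW₁.preimage (D.map k.hom)
  obtain ⟨hUaff, -⟩ := FlatBC2H8.affine_pushout hkpb hW₁ hV₁ hWk e₁ le_rfl
  obtain ⟨xk, hxk⟩ : ∃ xk : ((bcDiagram D i₀ f₀).obj (Over.mk (k.hom ≫ j.hom)) : Scheme.{u}),
      xk = (bcCone c hX).π.app (Over.mk (k.hom ≫ j.hom)) x := ⟨_, rfl⟩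
  have hw : (bcCone c hX).π.app (Over.mk (k.hom ≫ j.hom)) ≫ (bcDiagram D i₀ f₀).map a =
      (bcCone c hX).π.app j := (bcCone c hX).w a
  have hpxk : p xk = q₁ x := by
    rw [hxk, hp, hq₁, ← Scheme.Hom.comp_apply]
    exact congrArg (fun φ : X ⟶ (bcDiagram D i₀ f₀).obj j => φ x) hw
  have hxU : xk ∈ p ⁻¹ᵁ V₁ ⊓ fk ⁻¹ᵁ Uj D j.left (Uj D i₀ W₀ j) k := by
    refine ⟨?_, ?_⟩
    · show p xk ∈ V₁
      rw [hpxk]
      exact hxV₁
    · show (D.map k.hom) (fk xk) ∈ Uj D i₀ W₀ j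
      have e1 : (D.map k.hom) (fk xk) = f₁ (p xk) := by
        rw [← Scheme.Hom.comp_apply, ← Scheme.Hom.comp_apply, hkpb.w]
      rw [e1, hpxk]
      exact e₁ hxV₁
  have hflk : FlatMod.IsFlatOverAt fk ((Scheme.Modules.pullback p).obj F₁) xk := by
    rw [FlatSecH8.isFlatOverAt_iff_flat_stalk fk _ hWk inf_le_right hxU]
    exact FlatSecH8.flat_stalk_of_flat_sections fk _ hUaff inf_le_right hxU hflat
  have hpp₁ : p ≫ p₁ = pullback.fst f₀ (D.map (k.hom ≫ j.hom)) := by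
    rw [hp, hp₁]
    exact bcDiagram_map_fst D i₀ f₀ a
  obtain ⟨ε'⟩ : Nonempty ((Scheme.Modules.pullback p).obj F₁ ≅
      (Scheme.Modules.pullback (pullback.fst f₀ (D.map (k.hom ≫ j.hom)))).obj F₀) := by
    rw [hF₁]
    exact ⟨(DescH8.pbIso p p₁ _ hpp₁).app F₀⟩
  have := DescH8.isFlatOverAt_of_iso fk ε' xk hflk
  rw [hxk, hfk] at this
  exact this

end Lim

open Groth.Agent.Lib.LimBaseChangeH7 in
/-- **S4900** -/
theorem main4900 {I : Type u} [SmallCategory I] [IsCofiltered I]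
    (D : I ⥤ Scheme.{u}) (c : Limits.Cone D) (hc : Limits.IsLimit c)
    [∀ (i j : I) (φ : i ⟶ j), IsAffineHom (D.map φ)] (i₀ : I) [CompactSpace (D.obj i₀)]
    {X₀ Y₀ : Scheme.{u}} (f₀ : X₀ ⟶ Y₀) (g₀ : Y₀ ⟶ D.obj i₀)
    [LocallyOfFinitePresentation g₀] [QuasiCompact g₀] [QuasiSeparated g₀]
    [LocallyOfFinitePresentation (f₀ ≫ g₀)] [QuasiCompact (f₀ ≫ g₀)] [QuasiSeparated (f₀ ≫ g₀)]
    (F₀ : X₀.Modules) [Coh.IsQCoh F₀] (hF₀ : CohB1.IsFP F₀)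
    {X Y : Scheme.{u}} (f : X ⟶ Y) (g : Y ⟶ c.pt) (qY : Y ⟶ Y₀) (qX : X ⟶ X₀)
    (hY : IsPullback qY g g₀ (c.π.app i₀)) (hX : IsPullback qX f f₀ qY) (x : X) :
    FlatMod.IsFlatOverAt f ((Scheme.Modules.pullback qX).obj F₀) x ↔
      ∃ (i : I) (φ : i ⟶ i₀) (Xi Yi : Scheme.{u}) (fi : Xi ⟶ Yi) (gi : Yi ⟶ D.obj i)
        (pY : Yi ⟶ Y₀) (pX : Xi ⟶ X₀) (vY : Y ⟶ Yi) (vX : X ⟶ Xi),
        IsPullback pY gi g₀ (D.map φ) ∧ IsPullback pX fi f₀ pY ∧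
          vY ≫ pY = qY ∧ vY ≫ gi = g ≫ c.π.app i ∧ vX ≫ pX = qX ∧ vX ≫ fi = f ≫ vY ∧
          FlatMod.IsFlatOverAt fi ((Scheme.Modules.pullback pX).obj F₀) (vX x) := by
  haveI := hF₀
  haveI : F₀.IsQuasicoherent := ‹Coh.IsQCoh F₀›
  constructor
  · intro hfl
    haveI : LocallyOfFinitePresentation f₀ :=
      Groth.Agent.Lib.AlgSpLocP9_helper7.locallyOfFinitePresentation_of_comp f₀ g₀
    -- the base-changed system
    obtain ⟨j₀, hj₀⟩ : ∃ j₀ : Over i₀, j₀ = Over.mk (𝟙 i₀) := ⟨_, rfl⟩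
    haveI : IsIso (D.map j₀.hom) := by
      rw [hj₀]
      change IsIso (D.map (𝟙 i₀))
      infer_instance
    obtain ⟨e₀, he₀⟩ : ∃ e₀ : (bcDiagram D i₀ g₀).obj j₀ ⟶ Y₀,
        e₀ = pullback.fst g₀ (D.map j₀.hom) := ⟨_, rfl⟩
    haveI he : IsIso e₀ := by
      rw [he₀]
      exact MorphismProperty.pullback_fst (P := MorphismProperty.isomorphisms Scheme.{u}) g₀
        (D.map j₀.hom) ((MorphismProperty.isomorphisms.iff _).mpr inferInstance)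
    have hcone0 : (bcCone c hY).π.app j₀ ≫ e₀ = qY := by
      rw [he₀]
      exact bcCone_π_fst c hY j₀
    have hX' : IsPullback qX f (f₀ ≫ inv e₀) ((bcCone c hY).π.app j₀) := by
      refine IsPullback.of_iso hX (Iso.refl _) (Iso.refl _) (Iso.refl _)
        (asIso e₀).symm ?_ ?_ ?_ ?_
      · simp
      · simp
      · simp
      · simpa using hcone0.symm
    obtain ⟨κ, hκ⟩ := exists_stage_flatOverAt (bcDiagram D i₀ g₀) (bcCone c hY)
      (isLimitBcCone c hY hc) j₀ (f₀ ≫ inv e₀) F₀ qX f hX' x hfl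
    have hmap : (bcDiagram D i₀ g₀).map κ.hom ≫ e₀ = pullback.fst g₀ (D.map κ.left.hom) := by
      rw [he₀]
      exact bcDiagram_map_fst D i₀ g₀ κ.hom
    refine ⟨κ.left.left, κ.left.hom, pullback (f₀ ≫ inv e₀) ((bcDiagram D i₀ g₀).map κ.hom),
      pullback g₀ (D.map κ.left.hom), pullback.snd _ _, pullback.snd g₀ (D.map κ.left.hom),
      pullback.fst g₀ (D.map κ.left.hom), pullback.fst _ _, (bcCone c hY).π.app κ.left,
      (bcCone (bcCone c hY) hX').π.app κ, IsPullback.of_hasPullback _ _, ?_,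
      bcCone_π_fst c hY κ.left, bcCone_π_snd c hY κ.left,
      bcCone_π_fst (bcCone c hY) hX' κ, bcCone_π_snd (bcCone c hY) hX' κ, hκ⟩
    refine IsPullback.of_iso (IsPullback.of_hasPullback
      (f₀ ≫ inv e₀) ((bcDiagram D i₀ g₀).map κ.hom))
      (Iso.refl _) (Iso.refl _) (Iso.refl _) (asIso e₀) ?_ ?_ ?_ ?_
    · simp
    · simp
    · simp
    · simpa using hmap
  · rintro ⟨i, φ, Xi, Yi, fi, gi, pY, pX, vY, vX, hYi, hXi, hv1, hv2, hw1, hw2, hfli⟩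
    have hsq : IsPullback vX f fi vY := by
      refine IsPullback.of_right ?_ hw2 hXi
      rw [hw1, hv1]
      exact hX
    have h1 := FlatBC2H8.isFlatOverAt_pullback hsq ((Scheme.Modules.pullback pX).obj F₀) x hfli
    have e : (Scheme.Modules.pullback vX).obj ((Scheme.Modules.pullback pX).obj F₀) ≅
        (Scheme.Modules.pullback qX).obj F₀ :=
      (Scheme.Modules.pullbackComp vX pX).app F₀ ≪≫
        (Scheme.Modules.pullbackCongr hw1).app F₀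
    exact DescH8.isFlatOverAt_of_iso f e x h1

end Groth.Agent.Lib.LimMod
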