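import Groth.Agent.Lib.FlatIdeal3_helper2
import Groth.Agent.Lib.LimFlatPt_helper2

/-!
# Generic flattening elements over a Noetherian affine base (helper2)

* `flatOver_chart_iff`: affine bases, pullback square: the pulled-back module is flat over the new
  base at all points over an affine open `U` iff `Γ(S') ⊗_{Γ(S)} Γ(F, U)` is flat over `Γ(S')`.
* `core`: the Noetherian case of the generic flattening stratification, in ring hom form.
APPEND-ONLY once landed.
-/

set_option autoImplicit false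
set_option maxHeartbeats 1000000
set_option linter.style.haveILetI false
set_option linter.unusedSectionVars false
set_option linter.unusedVariables false
universe u

open CategoryTheory CategoryTheory.Limits AlgebraicGeometry TopologicalSpace Opposite TensorProduct

namespace Groth.Agent.Lib.FlatIdealH2

section Dict

variable {X S X' S' : Scheme.{u}} {f : X ⟶ S} {f' : X' ⟶ S'} {g' : X' ⟶ X} {g : S' ⟶ S}
  (hc : IsPullback g' f' f g)

include hc in
/-- Flatness of the pulled back module at the points over an affine open `U` of `X`, for affine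
bases. -/
theorem flatOver_chart_iff [IsAffine S] [IsAffine S'] (F : X.Modules) [F.IsQuasicoherent]
    {U : X.Opens} (hU : IsAffineOpen U) :
    letI := (g.appLE ⊤ ⊤ le_top).hom.toAlgebra
    letI : Module Γ(S, ⊤) Γ(F, U) := Module.compHom _ (f.appLE ⊤ U le_top).hom
    (∀ x : X', g' x ∈ U → FlatMod.IsFlatOverAt f' ((Scheme.Modules.pullback g').obj F) x) ↔
      Module.Flat Γ(S', ⊤) (Γ(S', ⊤) ⊗[Γ(S, ⊤)] Γ(F, U)) := by
  have hW : IsAffineOpen (⊤ : S.Opens) := isAffineOpen_top S
  have hW' : IsAffineOpen (⊤ : S'.Opens) := isAffineOpen_top S'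
  obtain ⟨hU', -⟩ := FlatBC2H8.affine_pushout hc hW hU hW' le_top le_top
  refine Iff.trans ?_ (LimMod.flat_sections_pullback_iff hc F hW hU hW' le_top le_top)
  constructor
  · intro H
    exact FlatSecH8.flat_sections_of_flat_stalks f' _ hU' inf_le_right
      (fun x hxU =>
        (FlatSecH8.isFlatOverAt_iff_flat_stalk f' _ hW' inf_le_right hxU).mp (H x hxU.1))
  · intro H x hx
    have hxU : x ∈ g' ⁻¹ᵁ U ⊓ f' ⁻¹ᵁ ⊤ := ⟨hx, trivial⟩
    rw [FlatSecH8.isFlatOverAt_iff_flat_stalk f' _ hW' inf_le_right hxU]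
    exact FlatSecH8.flat_stalk_of_flat_sections f' _ hU' inf_le_right hxU H

end Dict

section Core

/-- The comparison of the algebra map on global sections with the ring map. -/
theorem ΓSpec_appLE_top {A A' : Type u} [CommRing A] [CommRing A'] (ψ : A →+* A')
    (a : Γ(Spec (CommRingCat.of A), ⊤)) :
    (Scheme.ΓSpecIso (CommRingCat.of A')).hom.hom
      (((Spec.map (CommRingCat.ofHom ψ)).appLE ⊤ ⊤ le_top).hom a) =
      ψ ((Scheme.ΓSpecIso (CommRingCat.of A)).hom.hom a) := by
  have h1 : (Spec.map (CommRingCat.ofHom ψ)).appLE ⊤ ⊤ le_top =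
      (Spec.map (CommRingCat.ofHom ψ)).appTop :=
    ((Spec.map (CommRingCat.ofHom ψ)).app_eq_appLE (U := ⊤)).symm
  rw [h1]
  have h2 := congrArg (fun φ => φ.hom a) (Scheme.ΓSpecIso_naturality (CommRingCat.ofHom ψ))
  simpa only [CommRingCat.hom_comp, RingHom.comp_apply, CommRingCat.hom_ofHom] using h2

/-- **Generic flattening, Noetherian affine base, ring hom form.** -/
theorem core {A : Type u} [CommRing A] [IsNoetherianRing A] (hprime : (nilradical A).IsPrime)
    {X : Scheme.{u}} (f : X ⟶ Spec (CommRingCat.of A)) [LocallyOfFiniteType f] [QuasiCompact f]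
    (F : X.Modules) [F.IsQuasicoherent]
    [SheafOfModules.IsFinitePresentation (R := X.ringCatSheaf) F] :
    ∃ (h : A) (_ : ¬ IsNilpotent h) (T : Finset A), (∀ t ∈ T, IsNilpotent (h * t)) ∧
      ∀ (A' : Type u) [CommRing A'] (ψ : A →+* A'), IsUnit (ψ h) →
        ∀ {X' : Scheme.{u}} (g' : X' ⟶ X) (f' : X' ⟶ Spec (CommRingCat.of A')),
          IsPullback g' f' f (Spec.map (CommRingCat.ofHom ψ)) →
          (FlatMod.IsFlatOver f' ((Scheme.Modules.pullback g').obj F) ↔ ∀ t ∈ T, ψ t = 0) := by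
  classical
  obtain ⟨S, hS⟩ : ∃ S : Scheme.{u}, S = Spec (CommRingCat.of A) := ⟨_, rfl⟩
  let eΓ : Γ(Spec (CommRingCat.of A), ⊤) ≃+* A :=
    (Scheme.ΓSpecIso (CommRingCat.of A)).commRingCatIsoToRingEquiv
  have heΓ : ∀ a, eΓ a = (Scheme.ΓSpecIso (CommRingCat.of A)).hom.hom a := fun _ => rfl
  haveI : IsNoetherianRing Γ(Spec (CommRingCat.of A), ⊤) :=
    isNoetherianRing_of_ringEquiv A eΓ.symm
  have hprimeΓ : (nilradical Γ(Spec (CommRingCat.of A), ⊤)).IsPrime := by
    have e1 : nilradical Γ(Spec (CommRingCat.of A), ⊤) = (nilradical A).comap eΓ.toRingHom := by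
      ext x
      rw [Ideal.mem_comap, mem_nilradical, mem_nilradical]
      exact (IsNilpotent.map_iff eΓ.injective).symm
    rw [e1]
    haveI := hprime
    exact Ideal.comap_isPrime _ _
  haveI : CompactSpace X := QuasiCompact.compactSpace_of_compactSpace f
  obtain ⟨Us, hUsB, hUsfin, hUs⟩ :=
    X.isBasis_affineOpens.exists_finite_of_isCompact (U := (⊤ : X.Opens)) isCompact_univ
  have hP : ∀ U : X.Opens, U ∈ Us →
      ∃ (h : Γ(Spec (CommRingCat.of A), ⊤)) (_ : ¬ IsNilpotent h)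
        (T : Finset Γ(Spec (CommRingCat.of A), ⊤)), (∀ t ∈ T, IsNilpotent (h * t)) ∧
      ∀ (A'' : Type u) [CommRing A''] [Algebra Γ(Spec (CommRingCat.of A), ⊤) A''],
        IsUnit (algebraMap Γ(Spec (CommRingCat.of A), ⊤) A'' h) →
        (letI : Module Γ(Spec (CommRingCat.of A), ⊤) Γ(F, U) :=
          Module.compHom _ (f.appLE ⊤ U le_top).hom
         Module.Flat A'' (A'' ⊗[Γ(Spec (CommRingCat.of A), ⊤)] Γ(F, U)) ↔
          ∀ t ∈ T, algebraMap Γ(Spec (CommRingCat.of A), ⊤) A'' t = 0) := by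
    intro U hU
    have hUaff : IsAffineOpen U := hUsB hU
    letI algB : Algebra Γ(Spec (CommRingCat.of A), ⊤) Γ(X, U) :=
      (f.appLE ⊤ U le_top).hom.toAlgebra
    letI modM : Module Γ(Spec (CommRingCat.of A), ⊤) Γ(F, U) :=
      Module.compHom _ (f.appLE ⊤ U le_top).hom
    haveI : IsScalarTower Γ(Spec (CommRingCat.of A), ⊤) Γ(X, U) Γ(F, U) :=
      IsScalarTower.of_algebraMap_smul fun _ _ => rfl
    haveI : Algebra.FiniteType Γ(Spec (CommRingCat.of A), ⊤) Γ(X, U) :=
      f.finiteType_appLE (isAffineOpen_top _) hUaff le_top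
    haveI : Module.FinitePresentation Γ(X, U) Γ(F, U) :=
      QCohFP2.finitePresentation_of_isFinitePresentation F hUaff
    exact exists_flattening_elements hprimeΓ Γ(X, U) Γ(F, U)
  choose! hU hUnn TU hTUnil hTU using hP
  set hΓ : Γ(Spec (CommRingCat.of A), ⊤) := ∏ U ∈ hUsfin.toFinset, hU U with hhΓ
  set TΓ : Finset Γ(Spec (CommRingCat.of A), ⊤) := hUsfin.toFinset.biUnion TU with hTΓ
  have hΓnn : ¬ IsNilpotent hΓ := by
    intro hnil
    have hmem : hΓ ∈ nilradical Γ(Spec (CommRingCat.of A), ⊤) := mem_nilradical.mpr hnil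
    haveI := hprimeΓ
    obtain ⟨U, hUmem, hUn⟩ := Ideal.IsPrime.prod_mem_iff.mp hmem
    exact hUnn U (hUsfin.mem_toFinset.mp hUmem) (mem_nilradical.mp hUn)
  refine ⟨eΓ hΓ, fun hn => hΓnn ((IsNilpotent.map_iff eΓ.injective).mp hn), TΓ.image eΓ, ?_, ?_⟩
  · intro t ht
    obtain ⟨t', ht', rfl⟩ := Finset.mem_image.mp ht
    obtain ⟨U, hUmem, htU⟩ := Finset.mem_biUnion.mp ht'
    rw [← map_mul]
    refine IsNilpotent.map ?_ eΓ
    have e1 : hΓ = hU U * ∏ V ∈ hUsfin.toFinset.erase U, hU V :=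
      (Finset.mul_prod_erase _ _ hUmem).symm
    rw [e1, mul_comm (hU U), mul_assoc]
    exact Commute.isNilpotent_mul_left (Commute.all _ _)
      (hTUnil U (hUsfin.mem_toFinset.mp hUmem) t' htU)
  · intro A' _ ψ hunit X' g' f' hc
    let eΓ' : Γ(Spec (CommRingCat.of A'), ⊤) ≃+* A' :=
      (Scheme.ΓSpecIso (CommRingCat.of A')).commRingCatIsoToRingEquiv
    letI algΓ : Algebra Γ(Spec (CommRingCat.of A), ⊤) Γ(Spec (CommRingCat.of A'), ⊤) :=
      ((Spec.map (CommRingCat.ofHom ψ)).appLE ⊤ ⊤ le_top).hom.toAlgebra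
    have hkey : ∀ a : Γ(Spec (CommRingCat.of A), ⊤),
        eΓ' (algebraMap Γ(Spec (CommRingCat.of A), ⊤) Γ(Spec (CommRingCat.of A'), ⊤) a) =
          ψ (eΓ a) := fun a => ΓSpec_appLE_top ψ a
    have hunitΓ : IsUnit (algebraMap Γ(Spec (CommRingCat.of A), ⊤)
        Γ(Spec (CommRingCat.of A'), ⊤) hΓ) := by
      rw [← isUnit_map_iff eΓ', hkey]
      exact hunit
    have hzero : ∀ a : Γ(Spec (CommRingCat.of A), ⊤),
        algebraMap Γ(Spec (CommRingCat.of A), ⊤) Γ(Spec (CommRingCat.of A'), ⊤) a = 0 ↔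
          ψ (eΓ a) = 0 := by
      intro a
      rw [← hkey]
      exact (EmbeddingLike.map_eq_zero_iff (f := eΓ')).symm
    -- the cover
    have hcover : FlatMod.IsFlatOver f' ((Scheme.Modules.pullback g').obj F) ↔
        ∀ U ∈ Us, ∀ x : X', g' x ∈ U →
          FlatMod.IsFlatOverAt f' ((Scheme.Modules.pullback g').obj F) x := by
      constructor
      · intro H U _ x _
        exact H x
      · intro H x
        have hx : g' x ∈ (⊤ : X.Opens) := trivial
        rw [hUs] at hx
        obtain ⟨U, hUmem, hxU⟩ := Opens.mem_sSup.mp hx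
        exact H U hUmem x hxU
    rw [hcover]
    constructor
    · intro H t ht
      obtain ⟨t', ht', rfl⟩ := Finset.mem_image.mp ht
      obtain ⟨U, hUmem, htU⟩ := Finset.mem_biUnion.mp ht'
      have hUs' : U ∈ Us := hUsfin.mem_toFinset.mp hUmem
      rw [← hzero]
      have hunitU : IsUnit (algebraMap Γ(Spec (CommRingCat.of A), ⊤)
          Γ(Spec (CommRingCat.of A'), ⊤) (hU U)) :=
        isUnit_of_dvd_unit (map_dvd _ (Finset.dvd_prod_of_mem hU hUmem)) hunitΓ
      have h1 := (flatOver_chart_iff hc F (hUsB hUs')).mp (H U hUs')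
      exact (hTU U hUs' Γ(Spec (CommRingCat.of A'), ⊤) hunitU).mp h1 t' htU
    · intro H U hUs'
      have hUmem : U ∈ hUsfin.toFinset := hUsfin.mem_toFinset.mpr hUs'
      have hunitU : IsUnit (algebraMap Γ(Spec (CommRingCat.of A), ⊤)
          Γ(Spec (CommRingCat.of A'), ⊤) (hU U)) :=
        isUnit_of_dvd_unit (map_dvd _ (Finset.dvd_prod_of_mem hU hUmem)) hunitΓ
      refine (flatOver_chart_iff hc F (hUsB hUs')).mpr ?_
      refine (hTU U hUs' Γ(Spec (CommRingCat.of A'), ⊤) hunitU).mpr ?_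
      intro t htU
      rw [hzero]
      exact H (eΓ t) (Finset.mem_image_of_mem _ (Finset.mem_biUnion.mpr ⟨U, hUmem, htU⟩))

end Core

end Groth.Agent.Lib.FlatIdealH2
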