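import Groth.Agent.Lib.LimFlatPt_helper2
import Groth.Agent.Lib.ConsMod1_helper2

/-!
# Noetherian models of flat finitely presented modules (EGA IV 11.2.7) (helper2)

* `model_of_stage_mod`: from a model over a finite type `ℤ`-algebra mapping to `A` to a model over
  its image, a finitely generated subalgebra of `A`, with module and flatness.
* `main4867`.
APPEND-ONLY once landed.
-/

set_option autoImplicit false
set_option maxHeartbeats 1000000
set_option linter.style.haveILetI false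
set_option linter.unusedSectionVars false
set_option linter.unusedVariables false
universe u

open CategoryTheory CategoryTheory.Limits AlgebraicGeometry TopologicalSpace Opposite TensorProduct

namespace Groth.Agent.Lib.NoethFlatModel

open Groth.Agent.Lib.LimBaseChangeH7 Groth.Agent.Lib.LimDescFPH7 Groth.Agent.Lib.LimMod

/-- Transfer of a model with module from a finite type `ℤ`-algebra `B ⟶ A` to the subalgebra
`range (B ⟶ A)` of `A`. -/
theorem model_of_stage_mod (A : Type u) [CommRing A] (B : CommRingCat.{u})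
    (ι : B ⟶ CommRingCat.of A) (hft : Algebra.FiniteType ℤ B) {X Xj : Scheme.{u}}
    (f : X ⟶ Spec (CommRingCat.of A)) (fj : Xj ⟶ Spec B) (q : X ⟶ Xj)
    [LocallyOfFinitePresentation fj] [QuasiCompact fj]
    (hpb : IsPullback q f fj (Spec.map ι)) (Fj : Xj.Modules) [Fj.IsQuasicoherent]
    [SheafOfModules.IsFinitePresentation (R := Xj.ringCatSheaf) Fj] :
    ∃ (A₀ : Subalgebra ℤ A) (_ : A₀.FG) (X₀ : Scheme.{u})
      (f₀ : X₀ ⟶ Spec (CommRingCat.of ↥A₀)) (_ : LocallyOfFiniteType f₀) (_ : QuasiCompact f₀)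
      (F₀ : X₀.Modules) (_ : Coh.IsCoh F₀) (q₀ : X ⟶ X₀)
      (_ : IsPullback q₀ f f₀ (Spec.map (CommRingCat.ofHom A₀.val.toRingHom)))
      (_ : (Scheme.Modules.pullback q₀).obj F₀ ≅ (Scheme.Modules.pullback q).obj Fj)
      (r : X₀ ⟶ Xj), q₀ ≫ r = q ∧
        ∀ x₀ : X₀, FlatMod.IsFlatOverAt fj Fj (r x₀) → FlatMod.IsFlatOverAt f₀ F₀ x₀ := by
  let φ' : B →ₐ[ℤ] A := ι.hom.toIntAlgHom
  have hfg : φ'.range.FG := by
    have h1 : (⊤ : Subalgebra ℤ B).FG := hft.out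
    have h2 := h1.map φ'
    rwa [Algebra.map_top] at h2
  let ψc : B ⟶ CommRingCat.of φ'.range := CommRingCat.ofHom φ'.rangeRestrict.toRingHom
  have hψ : ψc ≫ CommRingCat.ofHom φ'.range.val.toRingHom = ι := by
    ext x
    rfl
  have hw : q ≫ fj = (f ≫ Spec.map (CommRingCat.ofHom φ'.range.val.toRingHom)) ≫
      Spec.map ψc := by
    rw [Category.assoc, ← Spec.map_comp, hψ]
    exact hpb.w
  have hsq := IsPullback.of_hasPullback fj (Spec.map ψc)
  haveI : LocallyOfFinitePresentation (pullback.snd fj (Spec.map ψc)) :=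
    MorphismProperty.pullback_snd _ _ inferInstance
  have hF₀ : Coh.IsCoh ((Scheme.Modules.pullback (pullback.fst fj (Spec.map ψc))).obj Fj) := by
    haveI := FpqcH8.isFP_pullback (pullback.fst fj (Spec.map ψc)) Fj
    exact ⟨PBH8.isQuasicoherent_pullback _ Fj, inferInstance⟩
  refine ⟨φ'.range, hfg, pullback fj (Spec.map ψc), pullback.snd _ _, inferInstance,
    MorphismProperty.pullback_snd _ _ inferInstance,
    (Scheme.Modules.pullback (pullback.fst fj (Spec.map ψc))).obj Fj, hF₀,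
    pullback.lift q (f ≫ Spec.map (CommRingCat.ofHom φ'.range.val.toRingHom)) hw, ?_,
    (DescH8.pbIso _ (pullback.fst fj (Spec.map ψc)) q (pullback.lift_fst _ _ _)).app Fj,
    pullback.fst _ _, pullback.lift_fst _ _ _, ?_⟩
  · refine IsPullback.of_right ?_ (pullback.lift_snd _ _ _) (IsPullback.of_hasPullback fj _)
    rw [pullback.lift_fst, ← Spec.map_comp, hψ]
    exact hpb
  · intro x₀ h
    exact FlatBC2H8.isFlatOverAt_pullback hsq Fj x₀ h

/-- Finite type over `ℤ` of the stages of the system of finitely presented algebras. -/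
theorem finiteType_stage (A : Type u) [CommRing A] [Algebra (ULift.{u} ℤ) A]
    (j : (AlgColim2H7.Idx (ULift.{u} ℤ) A)ᵒᵖ) :
    Algebra.FiniteType ℤ ((DR (ULift.{u} ℤ) A).obj j.unop) := by
  have hfp : (((AlgColim2H7.D (R := ULift.{u} ℤ) (A := A)).obj j.unop).hom.hom).FinitePresentation :=
    AlgColim2H7.D_fp j.unop
  have h1 := RingHom.FiniteType.of_finitePresentation hfp
  have h2 : ((ULift.ringEquiv : ULift.{u} ℤ ≃+* ℤ).symm.toRingHom).FiniteType :=
    RingHom.FiniteType.of_surjective _ (ULift.ringEquiv : ULift.{u} ℤ ≃+* ℤ).symm.surjective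
  have h3 := h1.comp h2
  have h4 : algebraMap ℤ ((DR (ULift.{u} ℤ) A).obj j.unop) =
      (((AlgColim2H7.D (R := ULift.{u} ℤ) (A := A)).obj j.unop).hom.hom).comp
        (ULift.ringEquiv : ULift.{u} ℤ ≃+* ℤ).symm.toRingHom := Subsingleton.elim _ _
  rw [← h4] at h3
  exact RingHom.finiteType_algebraMap.mp h3

/-- **S4867** -/
theorem main4867 {A : Type u} [CommRing A] {X : Scheme.{u}}
    (f : X ⟶ Spec (CommRingCat.of A)) [LocallyOfFinitePresentation f] [QuasiCompact f]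
    [QuasiSeparated f] (F : X.Modules) [Coh.IsQCoh F] (hF : CohB1.IsFP F) (x : X) :
    (FlatMod.IsFlatOverAt f F x →
      ∃ (A₀ : Subalgebra ℤ A) (_ : A₀.FG) (X₀ : Scheme.{u})
        (f₀ : X₀ ⟶ Spec (CommRingCat.of ↥A₀))
        (_ : LocallyOfFiniteType f₀) (_ : QuasiCompact f₀) (F₀ : X₀.Modules) (_ : Coh.IsCoh F₀)
        (q : X ⟶ X₀)
        (_ : IsPullback q f f₀ (Spec.map (CommRingCat.ofHom A₀.val.toRingHom)))
        (_ : (Scheme.Modules.pullback q).obj F₀ ≅ F),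
        FlatMod.IsFlatOverAt f₀ F₀ (q x)) ∧
    (FlatMod.IsFlatOver f F →
      ∃ (A₀ : Subalgebra ℤ A) (_ : A₀.FG) (X₀ : Scheme.{u})
        (f₀ : X₀ ⟶ Spec (CommRingCat.of ↥A₀))
        (_ : LocallyOfFiniteType f₀) (_ : QuasiCompact f₀) (F₀ : X₀.Modules) (_ : Coh.IsCoh F₀)
        (q : X ⟶ X₀)
        (_ : IsPullback q f f₀ (Spec.map (CommRingCat.ofHom A₀.val.toRingHom)))
        (_ : (Scheme.Modules.pullback q).obj F₀ ≅ F),
        FlatMod.IsFlatOver f₀ F₀) := by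
  letI : Algebra (ULift.{u} ℤ) A := ULift.algebra' ℤ A
  haveI : ∀ i, CompactSpace ((DS (ULift.{u} ℤ) A).obj i) := fun i => inferInstance
  haveI : ∀ i, QuasiSeparatedSpace ((DS (ULift.{u} ℤ) A).obj i) := fun i => inferInstance
  let f' : X ⟶ (coneS (ULift.{u} ℤ) A).pt := f
  haveI : LocallyOfFinitePresentation f' := ‹LocallyOfFinitePresentation f›
  haveI : QuasiCompact f' := ‹QuasiCompact f›
  haveI : QuasiSeparated f' := ‹QuasiSeparated f›
  obtain ⟨i, Xi, ui, q, Fi, h1, h2, h3, h4, h5, h6, ⟨ε⟩⟩ :=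
    Groth.Agent.Lib.ConsModH2.exists_descend_mod (DS (ULift.{u} ℤ) A) (coneS (ULift.{u} ℤ) A)
      (isLimitConeS (ULift.{u} ℤ) A) f' F hF
  haveI := h1
  haveI := h2
  haveI : Fi.IsQuasicoherent := h5
  haveI : SheafOfModules.IsFinitePresentation (R := Xi.ringCatSheaf) Fi := h6
  -- the model at a later stage `κ`
  have key : ∀ κ : Over i,
      ∃ (A₀ : Subalgebra ℤ A) (_ : A₀.FG) (X₀ : Scheme.{u})
        (f₀ : X₀ ⟶ Spec (CommRingCat.of ↥A₀))
        (_ : LocallyOfFiniteType f₀) (_ : QuasiCompact f₀) (F₀ : X₀.Modules) (_ : Coh.IsCoh F₀)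
        (q₀ : X ⟶ X₀)
        (_ : IsPullback q₀ f f₀ (Spec.map (CommRingCat.ofHom A₀.val.toRingHom)))
        (_ : (Scheme.Modules.pullback q₀).obj F₀ ≅ F)
        (r : X₀ ⟶ pullback ui ((DS (ULift.{u} ℤ) A).map κ.hom)),
        q₀ ≫ r = (bcCone (coneS (ULift.{u} ℤ) A) h4).π.app κ ∧
        ∀ x₀ : X₀, FlatMod.IsFlatOverAt (pullback.snd ui ((DS (ULift.{u} ℤ) A).map κ.hom))
            ((Scheme.Modules.pullback
              (pullback.fst ui ((DS (ULift.{u} ℤ) A).map κ.hom))).obj Fi) (r x₀) →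
          FlatMod.IsFlatOverAt f₀ F₀ x₀ := by
    intro κ
    obtain ⟨fκ, hfκ⟩ : ∃ fκ : pullback ui ((DS (ULift.{u} ℤ) A).map κ.hom) ⟶
        Spec ((DR (ULift.{u} ℤ) A).obj κ.left.unop),
        fκ = pullback.snd ui ((DS (ULift.{u} ℤ) A).map κ.hom) := ⟨_, rfl⟩
    obtain ⟨qκ, hqκ⟩ : ∃ qκ : X ⟶ pullback ui ((DS (ULift.{u} ℤ) A).map κ.hom),
        qκ = (bcCone (coneS (ULift.{u} ℤ) A) h4).π.app κ := ⟨_, rfl⟩
    have hpbκ : IsPullback qκ f fκ (Spec.map (((Under.forget _).mapCocone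
        (AlgColim2H7.cocone (R := ULift.{u} ℤ) (A := A))).ι.app κ.left.unop)) := by
      rw [hqκ, hfκ]
      exact isPullback_bcCone_π (coneS (ULift.{u} ℤ) A) h4 κ
    haveI : LocallyOfFinitePresentation fκ := by
      rw [hfκ]; exact MorphismProperty.pullback_snd _ _ inferInstance
    haveI : QuasiCompact fκ := by
      rw [hfκ]; exact MorphismProperty.pullback_snd _ _ inferInstance
    obtain ⟨Fκ, hFκ⟩ : ∃ Fκ : (pullback ui ((DS (ULift.{u} ℤ) A).map κ.hom)).Modules,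
        Fκ = (Scheme.Modules.pullback
          (pullback.fst ui ((DS (ULift.{u} ℤ) A).map κ.hom))).obj Fi := ⟨_, rfl⟩
    haveI : Fκ.IsQuasicoherent := by rw [hFκ]; exact PBH8.isQuasicoherent_pullback _ Fi
    haveI : SheafOfModules.IsFinitePresentation
        (R := (pullback ui ((DS (ULift.{u} ℤ) A).map κ.hom)).ringCatSheaf) Fκ := by
      rw [hFκ]; exact FpqcH8.isFP_pullback _ Fi
    obtain ⟨A₀, hA₀, X₀, f₀, hl, hqc, F₀, hcoh, q₀, hpb₀, ε₀, r, hr, hflat⟩ :=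
      model_of_stage_mod A _ _ (finiteType_stage A κ.left) f fκ qκ hpbκ Fκ
    have hqκfst : qκ ≫ pullback.fst ui ((DS (ULift.{u} ℤ) A).map κ.hom) = q := by
      rw [hqκ]; exact bcCone_π_fst (coneS (ULift.{u} ℤ) A) h4 κ
    obtain ⟨ε₁⟩ : Nonempty ((Scheme.Modules.pullback qκ).obj Fκ ≅
        (Scheme.Modules.pullback q).obj Fi) := by
      rw [hFκ]
      exact ⟨(DescH8.pbIso qκ _ q hqκfst).app Fi⟩
    refine ⟨A₀, hA₀, X₀, f₀, hl, hqc, F₀, hcoh, q₀, hpb₀, ε₀ ≪≫ ε₁ ≪≫ ε, r, ?_, ?_⟩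
    · rw [hr, hqκ]
    · intro x₀ h
      apply hflat x₀
      rw [hfκ, hFκ]
      exact h
  constructor
  · intro hfl
    have hfl' : FlatMod.IsFlatOverAt f' ((Scheme.Modules.pullback q).obj Fi) x :=
      DescH8.isFlatOverAt_of_iso f ε.symm x hfl
    obtain ⟨κ, hκ⟩ := exists_stage_flatOverAt (DS (ULift.{u} ℤ) A) (coneS (ULift.{u} ℤ) A)
      (isLimitConeS (ULift.{u} ℤ) A) i ui Fi q f' h4 x hfl'
    obtain ⟨A₀, hA₀, X₀, f₀, hl, hqc, F₀, hcoh, q₀, hpb₀, ε₀, r, hr, hflat⟩ := key κ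
    refine ⟨A₀, hA₀, X₀, f₀, hl, hqc, F₀, hcoh, q₀, hpb₀, ε₀, hflat _ ?_⟩
    have e1 : r (q₀ x) = (bcCone (coneS (ULift.{u} ℤ) A) h4).π.app κ x := by
      rw [← Scheme.Hom.comp_apply]
      exact congrArg (fun φ : X ⟶ pullback ui ((DS (ULift.{u} ℤ) A).map κ.hom) => φ x) hr
    rw [e1]
    exact hκ
  · intro hfl
    have hfl' : FlatMod.IsFlatOver f' ((Scheme.Modules.pullback q).obj Fi) :=
      fun y => DescH8.isFlatOverAt_of_iso f ε.symm y (hfl y)
    obtain ⟨k, hk⟩ := exists_stage_flatOver (DS (ULift.{u} ℤ) A) (coneS (ULift.{u} ℤ) A)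
      (isLimitConeS (ULift.{u} ℤ) A) i ui Fi q f' h4 hfl'
    have hk1 := hk k (𝟙 k) (pullback.fst _ _) (pullback.snd _ _)
      (IsPullback.of_hasPullback ui ((DS (ULift.{u} ℤ) A).map k.hom))
    obtain ⟨A₀, hA₀, X₀, f₀, hl, hqc, F₀, hcoh, q₀, hpb₀, ε₀, r, hr, hflat⟩ := key k
    exact ⟨A₀, hA₀, X₀, f₀, hl, hqc, F₀, hcoh, q₀, hpb₀, ε₀, fun x₀ => hflat x₀ (hk1 (r x₀))⟩

end Groth.Agent.Lib.NoethFlatModel
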