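import Groth.Agent.Lib.FlatIdeal4_helper2
import Groth.Agent.Lib.NoethFlatModel_helper2

/-!
# Generic flattening ideal over an irreducible affine base (EGA IV 11.3.?, S4898) (helper2)

* `model_of_stage_fp`, `exists_model_fp`: Noetherian model (over a finitely generated subring) of a
  finitely presented morphism with finitely presented module, keeping finite presentation.
* `main4898`.
APPEND-ONLY once landed.
-/

set_option autoImplicit false
set_option maxHeartbeats 1000000
set_option linter.style.haveILetI false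
set_option linter.unusedSectionVars false
set_option linter.unusedVariables false
universe u

open CategoryTheory CategoryTheory.Limits AlgebraicGeometry TopologicalSpace Opposite TensorProduct

namespace Groth.Agent.Lib.FlatIdealH2

open Groth.Agent.Lib.LimBaseChangeH7 Groth.Agent.Lib.LimDescFPH7 Groth.Agent.Lib.LimMod

/-- Transfer of a model with module from a finite type `ℤ`-algebra `B ⟶ A` to the subalgebra
`range (B ⟶ A)` of `A`, keeping finite presentation. -/
theorem model_of_stage_fp (A : Type u) [CommRing A] (B : CommRingCat.{u})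
    (ι : B ⟶ CommRingCat.of A) (hft : Algebra.FiniteType ℤ B) {X Xj : Scheme.{u}}
    (f : X ⟶ Spec (CommRingCat.of A)) (fj : Xj ⟶ Spec B) (q : X ⟶ Xj)
    [LocallyOfFinitePresentation fj] [QuasiCompact fj]
    (hpb : IsPullback q f fj (Spec.map ι)) (Fj : Xj.Modules) [Fj.IsQuasicoherent]
    [SheafOfModules.IsFinitePresentation (R := Xj.ringCatSheaf) Fj] :
    ∃ (A₀ : Subalgebra ℤ A) (_ : A₀.FG) (X₀ : Scheme.{u})
      (f₀ : X₀ ⟶ Spec (CommRingCat.of ↥A₀)) (_ : LocallyOfFinitePresentation f₀)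
      (_ : QuasiCompact f₀) (F₀ : X₀.Modules) (_ : F₀.IsQuasicoherent)
      (_ : SheafOfModules.IsFinitePresentation (R := X₀.ringCatSheaf) F₀) (q₀ : X ⟶ X₀)
      (_ : IsPullback q₀ f f₀ (Spec.map (CommRingCat.ofHom A₀.val.toRingHom))),
      Nonempty ((Scheme.Modules.pullback q₀).obj F₀ ≅ (Scheme.Modules.pullback q).obj Fj) := by
  let φ' : B →ₐ[ℤ] A := ι.hom.toIntAlgHom
  have hfg : φ'.range.FG := by
    have h1 : (⊤ : Subalgebra ℤ B).FG := hft.out
    have h2 := h1.map φ'
    rwa [Algebra.map_top] at h2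
  let ψc : B ⟶ CommRingCat.of φ'.range := CommRingCat.ofHom φ'.rangeRestrict.toRingHom
  have hψ : ψc ≫ CommRingCat.ofHom φ'.range.val.toRingHom = ι := by
    ext x
    rfl
  have hw : q ≫ fj = (f ≫ Spec.map (CommRingCat.ofHom φ'.range.val.toRingHom)) ≫
      Spec.map ψc := by
    rw [Category.assoc, ← Spec.map_comp, hψ]
    exact hpb.w
  refine ⟨φ'.range, hfg, pullback fj (Spec.map ψc), pullback.snd _ _,
    MorphismProperty.pullback_snd _ _ inferInstance,
    MorphismProperty.pullback_snd _ _ inferInstance,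
    (Scheme.Modules.pullback (pullback.fst fj (Spec.map ψc))).obj Fj,
    PBH8.isQuasicoherent_pullback _ Fj, FpqcH8.isFP_pullback (pullback.fst fj (Spec.map ψc)) Fj,
    pullback.lift q (f ≫ Spec.map (CommRingCat.ofHom φ'.range.val.toRingHom)) hw, ?_,
    ⟨(DescH8.pbIso _ (pullback.fst fj (Spec.map ψc)) q (pullback.lift_fst _ _ _)).app Fj⟩⟩
  refine IsPullback.of_right ?_ (pullback.lift_snd _ _ _) (IsPullback.of_hasPullback fj _)
  rw [pullback.lift_fst, ← Spec.map_comp, hψ]
  exact hpb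

/-- A finitely presented morphism to `Spec A` with a finitely presented quasi-coherent module has
a model over a finitely generated subring of `A`. -/
theorem exists_model_fp {A : Type u} [CommRing A] {X : Scheme.{u}}
    (f : X ⟶ Spec (CommRingCat.of A)) [LocallyOfFinitePresentation f] [QuasiCompact f]
    [QuasiSeparated f] (F : X.Modules) [Coh.IsQCoh F] (hF : CohB1.IsFP F) :
    ∃ (A₀ : Subalgebra ℤ A) (_ : A₀.FG) (X₀ : Scheme.{u})
      (f₀ : X₀ ⟶ Spec (CommRingCat.of ↥A₀)) (_ : LocallyOfFinitePresentation f₀)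
      (_ : QuasiCompact f₀) (F₀ : X₀.Modules) (_ : F₀.IsQuasicoherent)
      (_ : SheafOfModules.IsFinitePresentation (R := X₀.ringCatSheaf) F₀) (q₀ : X ⟶ X₀)
      (_ : IsPullback q₀ f f₀ (Spec.map (CommRingCat.ofHom A₀.val.toRingHom))),
      Nonempty ((Scheme.Modules.pullback q₀).obj F₀ ≅ F) := by
  letI : Algebra (ULift.{u} ℤ) A := ULift.algebra' ℤ A
  haveI : ∀ i, CompactSpace ((DS (ULift.{u} ℤ) A).obj i) := fun i => inferInstance
  haveI : ∀ i, QuasiSeparatedSpace ((DS (ULift.{u} ℤ) A).obj i) := fun i => inferInstance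
  let f' : X ⟶ (coneS (ULift.{u} ℤ) A).pt := f
  haveI : LocallyOfFinitePresentation f' := ‹LocallyOfFinitePresentation f›
  haveI : QuasiCompact f' := ‹QuasiCompact f›
  haveI : QuasiSeparated f' := ‹QuasiSeparated f›
  obtain ⟨i, Xi, ui, q, Fi, h1, h2, h3, h4, h5, h6, ⟨ε⟩⟩ :=
    Groth.Agent.Lib.ConsModH2.exists_descend_mod (DS (ULift.{u} ℤ) A) (coneS (ULift.{u} ℤ) A)
      (isLimitConeS (ULift.{u} ℤ) A) f' F hF
  haveI := h1
  haveI := h2
  haveI : Fi.IsQuasicoherent := h5
  haveI : SheafOfModules.IsFinitePresentation (R := Xi.ringCatSheaf) Fi := h6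
  obtain ⟨ui', hui'⟩ : ∃ ui' : Xi ⟶ Spec ((DR (ULift.{u} ℤ) A).obj i.unop), ui' = ui := ⟨_, rfl⟩
  have hpb : IsPullback q f ui' (Spec.map (((Under.forget _).mapCocone
      (AlgColim2H7.cocone (R := ULift.{u} ℤ) (A := A))).ι.app i.unop)) := by
    rw [hui']
    exact h4
  haveI : LocallyOfFinitePresentation ui' := by rw [hui']; exact h1
  haveI : QuasiCompact ui' := by rw [hui']; exact h2
  obtain ⟨A₀, hA₀, X₀, f₀, hl, hqc, F₀, hqcoh, hfp, q₀, hpb₀, ⟨ε₀⟩⟩ :=
    model_of_stage_fp A _ _ (NoethFlatModel.finiteType_stage A i) f ui' q hpb Fi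
  exact ⟨A₀, hA₀, X₀, f₀, hl, hqc, F₀, hqcoh, hfp, q₀, hpb₀, ⟨ε₀ ≪≫ ε⟩⟩

/-- **S4898** -/
theorem main4898 {A : Type u} [CommRing A] [IrreducibleSpace (PrimeSpectrum A)]
    {X : Scheme.{u}} (f : X ⟶ Spec (CommRingCat.of A))
    [LocallyOfFinitePresentation f] [QuasiCompact f] [QuasiSeparated f]
    (F : X.Modules) [Coh.IsQCoh F] (hF : CohB1.IsFP F) :
    ∃ (h : A) (_ : ¬ IsNilpotent h) (J : Ideal (Localization.Away h)) (_ : J.FG)
      (_ : J ≤ nilradical (Localization.Away h)),
      ∀ (A' : Type u) [CommRing A'] [Algebra (Localization.Away h) A'],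
        letI g : Spec (CommRingCat.of A') ⟶ Spec (CommRingCat.of A) :=
          Spec.map (CommRingCat.ofHom ((algebraMap (Localization.Away h) A').comp
            (algebraMap A (Localization.Away h))))
        (FlatMod.IsFlatOver (pullback.snd f g)
            ((Scheme.Modules.pullback (pullback.fst f g)).obj F) ↔
          Ideal.map (algebraMap (Localization.Away h) A') J = ⊥) := by
  classical
  obtain ⟨A₀, hA₀, X₀, f₀, hl, hqc, F₀, hqcoh, hfp, q₀, hpb₀, ⟨ε⟩⟩ := exists_model_fp f F hF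
  haveI := hl
  haveI := hqc
  haveI := hqcoh
  haveI := hfp
  haveI : Algebra.FiniteType ℤ A₀ := (Subalgebra.fg_iff_finiteType A₀).mp hA₀
  haveI : IsNoetherianRing A₀ := Algebra.FiniteType.isNoetherianRing ℤ A₀
  have hprimeA : (nilradical A).IsPrime := by
    have h1 := IrreducibleSpace.isIrreducible_univ (PrimeSpectrum A)
    rw [← PrimeSpectrum.zeroLocus_bot, PrimeSpectrum.isIrreducible_zeroLocus_iff] at h1
    exact h1
  have hinj : Function.Injective A₀.val.toRingHom := Subtype.val_injective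
  have hprime₀ : (nilradical A₀).IsPrime := by
    have e1 : nilradical A₀ = (nilradical A).comap A₀.val.toRingHom := by
      ext x
      rw [Ideal.mem_comap, mem_nilradical, mem_nilradical]
      exact (IsNilpotent.map_iff hinj).symm
    rw [e1]
    haveI := hprimeA
    exact Ideal.comap_isPrime _ _
  obtain ⟨h₀, hh₀, T₀, hT₀, hcore⟩ := core hprime₀ f₀ F₀
  obtain ⟨h, hh⟩ : ∃ h : A, h = A₀.val.toRingHom h₀ := ⟨_, rfl⟩
  have hhn : ¬ IsNilpotent h := by
    rw [hh]
    exact fun hn => hh₀ ((IsNilpotent.map_iff hinj).mp hn)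
  obtain ⟨G, hG⟩ : ∃ G : Finset (Localization.Away h),
      G = T₀.image (fun t => algebraMap A (Localization.Away h) (A₀.val.toRingHom t)) := ⟨_, rfl⟩
  refine ⟨h, hhn, Ideal.span (G : Set (Localization.Away h)), ⟨G, rfl⟩, ?_, ?_⟩
  · refine Ideal.span_le.mpr ?_
    intro r hr
    rw [hG] at hr
    obtain ⟨t, ht, rfl⟩ := Finset.mem_image.mp (Finset.mem_coe.mp hr)
    rw [SetLike.mem_coe, mem_nilradical]
    obtain ⟨k, hk⟩ := hT₀ t ht
    refine ⟨k, ?_⟩
    have hk' : (h * A₀.val.toRingHom t) ^ k = 0 := by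
      rw [hh, ← map_mul, ← map_pow, hk, map_zero]
    have hu : IsUnit (algebraMap A (Localization.Away h) h ^ k) :=
      (IsLocalization.Away.algebraMap_isUnit h).pow k
    have h3 : algebraMap A (Localization.Away h) h ^ k *
        algebraMap A (Localization.Away h) (A₀.val.toRingHom t) ^ k = 0 := by
      rw [← mul_pow, ← map_mul, ← map_pow, hk', map_zero]
    exact (hu.mul_right_eq_zero).mp h3
  · intro A' _ _
    obtain ⟨ψ', hψ'⟩ : ∃ ψ' : A →+* A', ψ' = (algebraMap (Localization.Away h) A').comp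
      (algebraMap A (Localization.Away h)) := ⟨_, rfl⟩
    obtain ⟨ψ₀, hψ₀⟩ : ∃ ψ₀ : A₀ →+* A', ψ₀ = ψ'.comp A₀.val.toRingHom := ⟨_, rfl⟩
    have hunit : IsUnit (ψ₀ h₀) := by
      rw [hψ₀, hψ', RingHom.comp_apply, RingHom.comp_apply, ← hh]
      exact (IsLocalization.Away.algebraMap_isUnit h).map _
    rw [← hψ']
    obtain ⟨g, hg⟩ : ∃ g : Spec (CommRingCat.of A') ⟶ Spec (CommRingCat.of A),
      g = Spec.map (CommRingCat.ofHom ψ') := ⟨_, rfl⟩
    rw [← hg]
    have hsq : IsPullback (pullback.fst f g ≫ q₀) (pullback.snd f g) f₀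
        (Spec.map (CommRingCat.ofHom ψ₀)) := by
      have h1 := IsPullback.paste_horiz (IsPullback.of_hasPullback f g) hpb₀
      have h2 : g ≫ Spec.map (CommRingCat.ofHom A₀.val.toRingHom) =
          Spec.map (CommRingCat.ofHom ψ₀) := by
        rw [hg, ← Spec.map_comp, hψ₀]
        rfl
      rwa [h2] at h1
    have hiff := hcore A' ψ₀ hunit (pullback.fst f g ≫ q₀) (pullback.snd f g) hsq
    have eiso : (Scheme.Modules.pullback (pullback.fst f g ≫ q₀)).obj F₀ ≅
        (Scheme.Modules.pullback (pullback.fst f g)).obj F :=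
      ((DescH8.pbIso (pullback.fst f g) q₀ (pullback.fst f g ≫ q₀) rfl).app F₀).symm ≪≫
        (Scheme.Modules.pullback (pullback.fst f g)).mapIso ε
    have hflat : FlatMod.IsFlatOver (pullback.snd f g)
        ((Scheme.Modules.pullback (pullback.fst f g)).obj F) ↔
        FlatMod.IsFlatOver (pullback.snd f g)
          ((Scheme.Modules.pullback (pullback.fst f g ≫ q₀)).obj F₀) :=
      ⟨fun H x => DescH8.isFlatOverAt_of_iso _ eiso.symm x (H x),
        fun H x => DescH8.isFlatOverAt_of_iso _ eiso x (H x)⟩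
    show FlatMod.IsFlatOver (pullback.snd f g)
      ((Scheme.Modules.pullback (pullback.fst f g)).obj F) ↔ _
    rw [hflat, hiff, Ideal.map_span, Ideal.span_eq_bot]
    constructor
    · rintro H _ ⟨r, hr, rfl⟩
      rw [hG] at hr
      obtain ⟨t, ht, rfl⟩ := Finset.mem_image.mp (Finset.mem_coe.mp hr)
      have := H t ht
      rwa [hψ₀, hψ'] at this
    · intro H t ht
      have := H _ ⟨algebraMap A (Localization.Away h) (A₀.val.toRingHom t), by
        rw [hG]; exact Finset.mem_coe.mpr (Finset.mem_image_of_mem _ ht), rfl⟩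
      rw [hψ₀, hψ']
      exact this

end Groth.Agent.Lib.FlatIdealH2
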