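import Mathlib
import Groth.Prelude
import Groth.Agent.Lib.NilpFlat_helper4

set_option autoImplicit false
set_option linter.style.haveILetI false

universe u

open TensorProduct
open Groth.Agent.TorLES Groth.Agent.TorBal

namespace Groth.Agent.Lib.FlatIdealsH4

variable {A : Type u} [CommRing A]

/-- If all f.g. ideals are flat, submodules of flat modules are flat. -/
theorem sub_flat (hb : ∀ I : Ideal A, I.FG → Module.Flat A I)
    (M : Type u) [AddCommGroup M] [Module A M] [Module.Flat A M] (N : Submodule A M) :
    Module.Flat A N := by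
  rw [Module.Flat.iff_rTensor_injective]
  intro J hJ
  haveI : Module.Flat A J := hb J hJ
  have h4 : TorZero A 1 J (M ⧸ N) := torZero_succ_of_flat_left (M ⧸ N) J 0
  have h3' : TorZero A 2 (A ⧸ J) (M ⧸ N) :=
    (torZero_shift (Submodule.subtype J) (Submodule.mkQ J) (M ⧸ N)
      (Submodule.injective_subtype _) (LinearMap.exact_subtype_mkQ J)
      (Submodule.mkQ_surjective J) 0).mpr h4
  have h3 : TorZero A 2 (M ⧸ N) (A ⧸ J) := (torZero_symm 2 _ _).mp h3'
  have h2 : TorZero A 1 M (A ⧸ J) := torZero_succ_of_flat_left (A ⧸ J) M 0
  have h1 : TorZero A 1 N (A ⧸ J) :=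
    torZero_left N.subtype N.mkQ (A ⧸ J) (Submodule.injective_subtype _)
      (LinearMap.exact_subtype_mkQ N) (Submodule.mkQ_surjective N) 1 h3 h2
  exact (torZero_one_iff_left (Submodule.subtype J) (Submodule.mkQ J) N
      (Submodule.injective_subtype _) (LinearMap.exact_subtype_mkQ J)
      (Submodule.mkQ_surjective J)).mp ((torZero_symm 1 _ _).mp h1)

/-- Equational criterion for a flat principal ideal. -/
theorem exists_idem_like (a b : A) [Module.Flat A (Ideal.span {a} : Ideal A)] (hab : a * b = 0) :
    ∃ e : A, a * (1 - e) = 0 ∧ b * e = 0 := by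
  have ha : a ∈ (Ideal.span {a} : Ideal A) := Ideal.subset_span (Set.mem_singleton a)
  have hrel : ∑ i : Fin 1, (fun _ : Fin 1 => b) i •
      (fun _ : Fin 1 => (⟨a, ha⟩ : (Ideal.span {a} : Ideal A))) i = 0 := by
    rw [Fin.sum_univ_one]
    apply Subtype.ext
    show b * a = 0
    rw [mul_comm]; exact hab
  obtain ⟨k, c, y, hx, hc⟩ := Module.Flat.isTrivialRelation_of_sum_smul_eq_zero hrel
  have hy : ∀ j, ∃ u : A, u * a = (y j : A) := fun j => Ideal.mem_span_singleton'.mp (y j).2
  choose u hu using hy
  have h0 : a = ∑ j, c 0 j * (y j : A) := by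
    have h := hx 0
    rw [Subtype.ext_iff] at h
    simpa only [Submodule.coe_sum, Submodule.coe_smul, smul_eq_mul] using h
  have h1 : (∑ j, c 0 j * u j) * a = a := by
    calc (∑ j, c 0 j * u j) * a = ∑ j, c 0 j * (u j * a) := by
          rw [Finset.sum_mul]; exact Finset.sum_congr rfl (fun j _ => mul_assoc _ _ _)
      _ = ∑ j, c 0 j * (y j : A) := Finset.sum_congr rfl (fun j _ => by rw [hu j])
      _ = a := h0.symm
  refine ⟨∑ j, c 0 j * u j, ?_, ?_⟩
  · calc a * (1 - ∑ j, c 0 j * u j) = a - (∑ j, c 0 j * u j) * a := by ring
      _ = 0 := by rw [h1, sub_self]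
  · rw [Finset.mul_sum]
    apply Finset.sum_eq_zero
    intro j _
    have h := hc j
    rw [Fin.sum_univ_one] at h
    have h' : b * c 0 j = 0 := h
    rw [← mul_assoc, h', zero_mul]

/-- Equational criterion for a flat ideal generated by two elements. -/
theorem exists_pair_rel (a b : A) [Module.Flat A (Ideal.span {a, b} : Ideal A)] :
    ∃ α β γ : A, a * (1 - α) = β * b ∧ b * α = a * γ := by
  have ha : a ∈ (Ideal.span {a, b} : Ideal A) := Ideal.subset_span (Set.mem_insert a _)
  have hb : b ∈ (Ideal.span {a, b} : Ideal A) :=
    Ideal.subset_span (Set.mem_insert_of_mem a (Set.mem_singleton b))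
  have hrel : ∑ i : Fin 2, (![b, -a] : Fin 2 → A) i •
      (![⟨a, ha⟩, ⟨b, hb⟩] : Fin 2 → (Ideal.span {a, b} : Ideal A)) i = 0 := by
    rw [Fin.sum_univ_two]
    apply Subtype.ext
    show b * a + (-a) * b = 0
    ring
  obtain ⟨k, c, y, hx, hc⟩ := Module.Flat.isTrivialRelation_of_sum_smul_eq_zero hrel
  have hy : ∀ j, ∃ u v : A, u * a + v * b = (y j : A) :=
    fun j => Ideal.mem_span_pair.mp (y j).2
  choose u v huv using hy
  have h0 : a = ∑ j, c 0 j * (y j : A) := by
    have h := hx 0
    rw [Subtype.ext_iff] at h
    simpa only [Submodule.coe_sum, Submodule.coe_smul, smul_eq_mul, Matrix.cons_val_zero] using h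
  have hcj : ∀ j, b * c 0 j = a * c 1 j := by
    intro j
    have h := hc j
    rw [Fin.sum_univ_two] at h
    have h' : b * c 0 j + (-a) * c 1 j = 0 := h
    linear_combination h'
  refine ⟨∑ j, c 0 j * u j, ∑ j, c 0 j * v j, ∑ j, c 1 j * u j, ?_, ?_⟩
  · have h1 : a = (∑ j, c 0 j * u j) * a + (∑ j, c 0 j * v j) * b := by
      calc a = ∑ j, c 0 j * (y j : A) := h0
        _ = ∑ j, (c 0 j * u j * a + c 0 j * v j * b) :=
            Finset.sum_congr rfl (fun j _ => by rw [← huv j]; ring)
        _ = _ := by rw [Finset.sum_add_distrib, Finset.sum_mul, Finset.sum_mul]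
    linear_combination h1
  · rw [Finset.mul_sum, Finset.mul_sum]
    refine Finset.sum_congr rfl (fun j _ => ?_)
    rw [← mul_assoc, hcj j, mul_assoc]

section loc

variable (hb : ∀ I : Ideal A, I.FG → Module.Flat A I) (p : Ideal A) [p.IsPrime]

include hb in
theorem isDomain_loc : IsDomain (Localization.AtPrime p) := by
  haveI : NoZeroDivisors (Localization.AtPrime p) := by
    refine ⟨fun {x y} hxy => ?_⟩
    obtain ⟨⟨a, s⟩, hx⟩ := IsLocalization.surj p.primeCompl x
    obtain ⟨⟨b, t⟩, hy⟩ := IsLocalization.surj p.primeCompl y
    have hx' : x * algebraMap A (Localization.AtPrime p) (s : A)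
        = algebraMap A (Localization.AtPrime p) a := hx
    have hy' : y * algebraMap A (Localization.AtPrime p) (t : A)
        = algebraMap A (Localization.AtPrime p) b := hy
    have hab : algebraMap A (Localization.AtPrime p) (a * b) = 0 := by
      rw [map_mul, ← hx', ← hy']
      calc x * algebraMap A (Localization.AtPrime p) (s : A)
            * (y * algebraMap A (Localization.AtPrime p) (t : A))
          = (x * y) * (algebraMap A (Localization.AtPrime p) (s : A)
            * algebraMap A (Localization.AtPrime p) (t : A)) := by ring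
        _ = 0 := by rw [hxy, zero_mul]
    obtain ⟨m, hm⟩ := (IsLocalization.map_eq_zero_iff p.primeCompl
      (Localization.AtPrime p) (a * b)).mp hab
    haveI : Module.Flat A (Ideal.span {(m : A) * a} : Ideal A) :=
      hb _ (Submodule.fg_span (Set.toFinite _))
    obtain ⟨e, he1, he2⟩ := exists_idem_like ((m : A) * a) b (by rw [mul_assoc]; exact hm)
    have hus : IsUnit (algebraMap A (Localization.AtPrime p) (s : A)) :=
      IsLocalization.map_units (Localization.AtPrime p) s
    have hut : IsUnit (algebraMap A (Localization.AtPrime p) (t : A)) :=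
      IsLocalization.map_units (Localization.AtPrime p) t
    have hum : IsUnit (algebraMap A (Localization.AtPrime p) (m : A)) :=
      IsLocalization.map_units (Localization.AtPrime p) m
    rcases IsLocalRing.isUnit_or_isUnit_one_sub_self
      (algebraMap A (Localization.AtPrime p) e) with h | h
    · right
      have h1 : algebraMap A (Localization.AtPrime p) b
          * algebraMap A (Localization.AtPrime p) e = 0 := by
        rw [← map_mul, he2, map_zero]
      have h2 : algebraMap A (Localization.AtPrime p) b = 0 := (h.mul_left_eq_zero).mp h1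
      rw [h2] at hy'
      exact (hut.mul_left_eq_zero).mp hy'
    · left
      have h1 : algebraMap A (Localization.AtPrime p) ((m : A) * a)
          * (1 - algebraMap A (Localization.AtPrime p) e) = 0 := by
        rw [← map_one (algebraMap A (Localization.AtPrime p)), ← map_sub, ← map_mul, he1,
          map_zero]
      have h2 : algebraMap A (Localization.AtPrime p) ((m : A) * a) = 0 :=
        (h.mul_left_eq_zero).mp h1
      rw [map_mul] at h2
      have h3 : algebraMap A (Localization.AtPrime p) a = 0 := (hum.mul_right_eq_zero).mp h2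
      rw [h3] at hx'
      exact (hus.mul_left_eq_zero).mp hx'
  exact NoZeroDivisors.to_isDomain _

include hb in
theorem valuationRing_loc [IsDomain (Localization.AtPrime p)] :
    ValuationRing (Localization.AtPrime p) := by
  rw [ValuationRing.iff_dvd_total]
  refine ⟨fun x y => ?_⟩
  obtain ⟨⟨a, s⟩, hx⟩ := IsLocalization.surj p.primeCompl x
  obtain ⟨⟨b, t⟩, hy⟩ := IsLocalization.surj p.primeCompl y
  have hx' : x * algebraMap A (Localization.AtPrime p) (s : A)
      = algebraMap A (Localization.AtPrime p) a := hx
  have hy' : y * algebraMap A (Localization.AtPrime p) (t : A)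
      = algebraMap A (Localization.AtPrime p) b := hy
  have hus : IsUnit (algebraMap A (Localization.AtPrime p) (s : A)) :=
    IsLocalization.map_units (Localization.AtPrime p) s
  have hut : IsUnit (algebraMap A (Localization.AtPrime p) (t : A)) :=
    IsLocalization.map_units (Localization.AtPrime p) t
  haveI : Module.Flat A (Ideal.span {a, b} : Ideal A) :=
    hb _ (Submodule.fg_span (Set.toFinite _))
  obtain ⟨α, β, γ, h1, h2⟩ := exists_pair_rel a b
  have key : algebraMap A (Localization.AtPrime p) a ∣ algebraMap A (Localization.AtPrime p) b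
      ∨ algebraMap A (Localization.AtPrime p) b ∣ algebraMap A (Localization.AtPrime p) a := by
    rcases IsLocalRing.isUnit_or_isUnit_one_sub_self
      (algebraMap A (Localization.AtPrime p) α) with h | h
    · left
      have h2' : algebraMap A (Localization.AtPrime p) b * algebraMap A (Localization.AtPrime p) α
          = algebraMap A (Localization.AtPrime p) a * algebraMap A (Localization.AtPrime p) γ := by
        rw [← map_mul, ← map_mul, h2]
      exact (h.dvd_mul_right).mp ⟨algebraMap A (Localization.AtPrime p) γ, h2'⟩
    · right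
      have h1' : algebraMap A (Localization.AtPrime p) a
          * (1 - algebraMap A (Localization.AtPrime p) α)
          = algebraMap A (Localization.AtPrime p) b * algebraMap A (Localization.AtPrime p) β := by
        rw [← map_one (algebraMap A (Localization.AtPrime p)), ← map_sub, ← map_mul, ← map_mul,
          h1, mul_comm]
      exact (h.dvd_mul_right).mp ⟨algebraMap A (Localization.AtPrime p) β, h1'⟩
  rcases key with h | h
  · left
    have h3 : x * algebraMap A (Localization.AtPrime p) (s : A)
        ∣ y * algebraMap A (Localization.AtPrime p) (t : A) := by rw [hx', hy']; exact h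
    exact (hut.dvd_mul_right).mp ((hus.mul_right_dvd).mp h3)
  · right
    have h3 : y * algebraMap A (Localization.AtPrime p) (t : A)
        ∣ x * algebraMap A (Localization.AtPrime p) (s : A) := by rw [hx', hy']; exact h
    exact (hus.dvd_mul_right).mp ((hut.mul_right_dvd).mp h3)

end loc

/-- If all localizations at primes are valuation domains, all ideals are flat. -/
theorem ideal_flat_of_loc
    (hd : ∀ (p : Ideal A) [p.IsPrime], ∃ _ : IsDomain (Localization.AtPrime p),
      ValuationRing (Localization.AtPrime p)) (I : Ideal A) : Module.Flat A I := by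
  apply Module.flat_of_localized_maximal
  intro P hP
  obtain ⟨hdom, hval⟩ := hd P
  haveI := hdom
  haveI := hval
  rw [← Module.flat_iff_of_isLocalization (Localization.AtPrime P) P.primeCompl,
    Module.Flat.flat_iff_torsion_eq_bot_of_isBezout, ← Submodule.isTorsionFree_iff_torsion_eq_bot]
  let φ : LocalizedModule P.primeCompl I →ₗ[A] Localization.AtPrime P :=
    IsLocalizedModule.map P.primeCompl (LocalizedModule.mkLinearMap P.primeCompl I)
      (Algebra.linearMap A (Localization.AtPrime P)) I.subtype
  have hφ : Function.Injective φ :=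
    IsLocalizedModule.map_injective P.primeCompl (LocalizedModule.mkLinearMap P.primeCompl I)
      (Algebra.linearMap A (Localization.AtPrime P)) I.subtype (Submodule.injective_subtype I)
  exact Function.Injective.moduleIsTorsionFree (fun z => φ z) hφ
    (fun r m => (φ.extendScalarsOfIsLocalization P.primeCompl (Localization.AtPrime P)).map_smul r m)

theorem main1969 (A : Type u) [CommRing A] :
    List.TFAE [∀ I : Ideal A, Module.Flat A I,
      ∀ I : Ideal A, I.FG → Module.Flat A I,
      ∀ (M : Type u) [AddCommGroup M] [Module A M], Module.Flat A M →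
        ∀ N : Submodule A M, Module.Flat A N,
      ∀ (p : Ideal A) [p.IsPrime], ∃ _ : IsDomain (Localization.AtPrime p),
        ValuationRing (Localization.AtPrime p)] := by
  tfae_have 1 → 2 := fun h I _ => h I
  tfae_have 2 → 3 := fun h M _ _ hM N => sub_flat h M N
  tfae_have 3 → 1 := fun h I => h A inferInstance I
  tfae_have 2 → 4 := fun h p _ =>
    ⟨isDomain_loc h p, @valuationRing_loc A _ h p _ (isDomain_loc h p)⟩
  tfae_have 4 → 1 := fun h I => ideal_flat_of_loc h I
  tfae_finish

end Groth.Agent.Lib.FlatIdealsH4
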