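import Mathlib
import Groth.Agent.Lib.LocalCrit13_helper9
import Groth.Agent.Lib.FlatLocFP1_helper6

/-!
# Flatness modulo the kernel of `I → Γ(U, I/I²)` (helper3)
-/

set_option autoImplicit false
universe u

namespace Groth.Agent.Lib.FlatModI2H3

open TensorProduct

variable {A : Type u} [CommRing A]

/-- If an ideal is contained in no prime of `D(f)`, then a power of `f` lies in it. -/
theorem exists_pow_mem (c : Ideal A) (f : A)
    (h : ∀ P : Ideal A, P.IsPrime → f ∉ P → ¬ c ≤ P) : ∃ n : ℕ, f ^ n ∈ c := by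
  have hf : f ∈ c.radical := by
    rw [Ideal.radical_eq_sInf, Ideal.mem_sInf]
    rintro P ⟨hcP, hP⟩
    by_contra hfP
    exact h P hP hfP hcP
  exact hf

/-- `(A/I) ⊗ M ≃ M/IM` over `A/I`. -/
noncomputable def quotTensorEquiv (I : Ideal A) (M : Type u) [AddCommGroup M] [Module A M] :
    ((A ⧸ I) ⊗[A] M) ≃ₗ[A ⧸ I] (M ⧸ (I • ⊤ : Submodule A M)) :=
  LinearEquiv.extendScalarsOfSurjective Ideal.Quotient.mk_surjective
    (TensorProduct.quotTensorEquivQuotSMul M I)

variable (M : Type u) [AddCommGroup M] [Module A M]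

/-- Flatness over a basic open from flatness at its primes. -/
theorem flat_away (f : A)
    (h : ∀ p : PrimeSpectrum A, f ∉ p.asIdeal →
      Module.Flat A (LocalizedModule p.asIdeal.primeCompl M)) :
    Module.Flat (Localization.Away f) ((Localization.Away f) ⊗[A] M) := by
  have h1 : Module.Flat A (LocalizedModule (Submonoid.powers f) M) := by
    rw [Groth.Agent.Lib.FlatLocFP1H6.flat_localizedModule_iff]
    intro 𝔞 ξ hξ
    obtain ⟨n, hn⟩ := exists_pow_mem ((Submodule.span A {ξ}).annihilator) f (by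
      intro P hP hf hcP
      obtain ⟨t, ht, htξ⟩ := (Groth.Agent.Lib.FlatLocFP1H6.flat_localizedModule_iff
        (T := P.primeCompl) M).mp (h ⟨P, hP⟩ hf) 𝔞 ξ hξ
      exact ht (hcP ((Submodule.mem_annihilator_span_singleton _ _).mpr htξ)))
    exact ⟨f ^ n, ⟨n, rfl⟩, (Submodule.mem_annihilator_span_singleton _ _).mp hn⟩
  have h2 : Module.Flat (Localization.Away f) (LocalizedModule (Submonoid.powers f) M) :=
    (Module.flat_iff_of_isLocalization (Localization.Away f) (Submonoid.powers f) _).mpr h1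
  exact Module.Flat.of_linearEquiv
    (IsLocalizedModule.isBaseChange (Submonoid.powers f) (Localization.Away f)
      (LocalizedModule.mkLinearMap (Submonoid.powers f) M)).equiv

theorem main (I : Ideal A) (U : Set (PrimeSpectrum A)) (hU : IsOpen U) (hUc : IsCompact U)
    [Module.Flat (A ⧸ I) (M ⧸ (I • ⊤ : Submodule A M))]
    (hflat : ∀ p ∈ U, Module.Flat A (LocalizedModule p.asIdeal.primeCompl M))
    (I₂ : Ideal A)
    (hI₂ : ∀ x : A, x ∈ I₂ ↔ x ∈ I ∧ ∀ p ∈ U, ∃ s : A, s ∉ p.asIdeal ∧ s * x ∈ I ^ 2) :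
    Module.Flat (A ⧸ I₂) (M ⧸ (I₂ • ⊤ : Submodule A M)) := by
  classical
  obtain ⟨t, ht⟩ := PrimeSpectrum.isCompact_isOpen_iff.mp ⟨hUc, hU⟩
  let e : Fin t.card ≃ t := (t.equivFin).symm
  let f : Fin t.card → A := fun i => (e i : A)
  have hfU : ∀ i, ∀ p : PrimeSpectrum A, f i ∉ p.asIdeal → p ∈ U := by
    intro i p hp
    rw [← ht]
    intro hpz
    exact hp (hpz (e i).2)
  have hUf : ∀ p ∈ U, ∃ i, f i ∉ p.asIdeal := by
    intro p hp
    rw [← ht] at hp
    have hnot : ¬ ((t : Set A) ⊆ p.asIdeal) := hp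
    obtain ⟨g, hg, hgp⟩ := Set.not_subset.mp hnot
    refine ⟨e.symm ⟨g, hg⟩, ?_⟩
    show ((e (e.symm ⟨g, hg⟩) : t) : A) ∉ p.asIdeal
    rw [Equiv.apply_symm_apply]
    exact hgp
  let K : Fin t.card → Ideal A := fun i =>
    ((I ^ 2).map (algebraMap A (Localization.Away (f i)))).comap
      (algebraMap A (Localization.Away (f i)))
  haveI hI : Module.Flat (A ⧸ I) ((A ⧸ I) ⊗[A] M) :=
    Module.Flat.of_linearEquiv (quotTensorEquiv I M)
  have hK : ∀ i, Module.Flat (A ⧸ K i) ((A ⧸ K i) ⊗[A] M) := by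
    intro j
    haveI := flat_away M (f j) (fun p hp => hflat p (hfU j p hp))
    exact Groth.Agent.Lib.LocalCrit8.flat_mod_comap_sq A (Localization.Away (f j)) I M
  haveI hflatK := Groth.Agent.Lib.LocalCrit13.flat_mod_iInf M t.card K hK
  have hflat2 := Groth.Agent.Lib.LocalCrit12.flat_mod_inf M I (⨅ i, K i)
  have hKeq : (I ⊓ ⨅ i, K i) = I₂ := by
    ext x
    rw [Ideal.mem_inf, Ideal.mem_iInf, hI₂]
    constructor
    · rintro ⟨hxI, hx⟩
      refine ⟨hxI, fun p hp => ?_⟩
      obtain ⟨i, hi⟩ := hUf p hp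
      have h1 : algebraMap A (Localization.Away (f i)) x ∈
          (I ^ 2).map (algebraMap A (Localization.Away (f i))) := hx i
      rw [IsLocalization.algebraMap_mem_map_algebraMap_iff (Submonoid.powers (f i))] at h1
      obtain ⟨m, ⟨n, rfl⟩, hm⟩ := h1
      exact ⟨f i ^ n, fun hmem => hi (p.isPrime.mem_of_pow_mem n hmem), hm⟩
    · rintro ⟨hxI, hxU⟩
      refine ⟨hxI, fun j => ?_⟩
      show algebraMap A (Localization.Away (f j)) x ∈
          (I ^ 2).map (algebraMap A (Localization.Away (f j)))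
      rw [IsLocalization.algebraMap_mem_map_algebraMap_iff (Submonoid.powers (f j))]
      obtain ⟨n, hn⟩ := exists_pow_mem ((I ^ 2 : Ideal A).colon {x}) (f j) (by
        intro P hP hf hcP
        obtain ⟨s, hs, hsx⟩ := hxU ⟨P, hP⟩ (hfU j ⟨P, hP⟩ hf)
        exact hs (hcP (Submodule.mem_colon_singleton.mpr (by simpa using hsx))))
      exact ⟨f j ^ n, ⟨n, rfl⟩, by simpa [Submodule.mem_colon_singleton] using hn⟩
  subst hKeq
  exact Module.Flat.of_linearEquiv (quotTensorEquiv (I ⊓ ⨅ i, K i) M).symm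

end Groth.Agent.Lib.FlatModI2H3
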