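import Mathlib
import Groth.Agent.Lib.DiagNil6_helper4

/-!
# Flat modules modulo a nilpotent ideal: lifting bases (helper4)
APPEND-ONLY once landed.

* `eq_top_of_sup_smul`: nilpotent Nakayama (`N ⊔ K • ⊤ = ⊤`, `K ^ n = ⊥` ⇒ `N = ⊤`).
* `linearIndependent_of_mod`: a family of a flat module that is linearly independent modulo a
  nilpotent ideal and spans modulo it, is linearly independent (equational criterion).
* `exists_basis_of_mod`: a family lifting a basis of `(T ⧸ K) ⊗ C` is a basis of `C`.
* bookkeeping lemmas for the filtration `K ^ k • ⊤`.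
-/

set_option backward.isDefEq.respectTransparency.types false
set_option autoImplicit false
set_option linter.unusedVariables false
set_option linter.unusedTactic false
set_option linter.unreachableTactic false
set_option linter.unusedSectionVars false
set_option linter.style.haveILetI false
set_option linter.deprecated false
set_option linter.unusedSimpArgs false
set_option linter.style.longLine false
set_option maxHeartbeats 3200000

universe u

open TensorProduct

noncomputable section

namespace Groth.Agent.Lib.FlatNilH4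

open Groth.Agent.Lib.DiagNilH4

section Filtration

variable {T : Type*} [CommRing T] {X Y : Type*} [AddCommGroup X] [Module T X]
  [AddCommGroup Y] [Module T Y]

theorem le_sup_pow_smul (K : Ideal T) (N : Submodule T X)
    (h : N ⊔ K • (⊤ : Submodule T X) = ⊤) (k : ℕ) :
    (⊤ : Submodule T X) ≤ N ⊔ (K ^ k) • (⊤ : Submodule T X) := by
  induction k with
  | zero =>
    rw [pow_zero, Ideal.one_eq_top, Submodule.top_smul]
    exact le_sup_right
  | succ k ih =>
    calc (⊤ : Submodule T X) = N ⊔ K • (⊤ : Submodule T X) := h.symm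
      _ ≤ N ⊔ K • (N ⊔ (K ^ k) • (⊤ : Submodule T X)) :=
          sup_le_sup_left (Submodule.smul_mono le_rfl ih) _
      _ = N ⊔ (K • N ⊔ K • (K ^ k) • (⊤ : Submodule T X)) := by rw [Submodule.smul_sup]
      _ ≤ N ⊔ (K ^ (k + 1)) • (⊤ : Submodule T X) := by
          rw [← Submodule.mul_smul, ← pow_succ']
          exact sup_le le_sup_left
            (sup_le (le_sup_of_le_left Submodule.smul_le_right) le_sup_right)

theorem eq_top_of_sup_smul (K : Ideal T) {n : ℕ} (hK : K ^ n = ⊥) (N : Submodule T X)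
    (h : N ⊔ K • (⊤ : Submodule T X) = ⊤) : N = ⊤ := by
  have h1 := le_sup_pow_smul K N h n
  rw [hK, Submodule.bot_smul, sup_bot_eq] at h1
  exact eq_top_iff.mpr h1

theorem pow_smul_le (K : Ideal T) {j k : ℕ} (h : j ≤ k) :
    (K ^ k) • (⊤ : Submodule T X) ≤ (K ^ j) • (⊤ : Submodule T X) :=
  Submodule.smul_mono_left (Ideal.pow_le_pow_right h)

theorem mem_smul_of_pow (K : Ideal T) {k : ℕ} (hk : 1 ≤ k) {x : X}
    (hx : x ∈ (K ^ k) • (⊤ : Submodule T X)) : x ∈ K • (⊤ : Submodule T X) := by
  have h := pow_smul_le (X := X) K hk hx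
  rwa [pow_one] at h

theorem smul_mem_succ (K : Ideal T) {k : ℕ} {r : T} (hr : r ∈ K) {x : X}
    (hx : x ∈ (K ^ k) • (⊤ : Submodule T X)) : r • x ∈ (K ^ (k + 1)) • (⊤ : Submodule T X) := by
  rw [pow_succ', Submodule.mul_smul]
  exact Submodule.smul_mem_smul hr hx

theorem smul_mem_succ' (K : Ideal T) {k : ℕ} {r : T} (hr : r ∈ K ^ k) {x : X}
    (hx : x ∈ K • (⊤ : Submodule T X)) : r • x ∈ (K ^ (k + 1)) • (⊤ : Submodule T X) := by
  rw [pow_succ, Submodule.mul_smul]
  exact Submodule.smul_mem_smul hr hx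

theorem map_mem_pow (K : Ideal T) (f : X →ₗ[T] Y) {k : ℕ} {x : X}
    (hx : x ∈ (K ^ k) • (⊤ : Submodule T X)) : f x ∈ (K ^ k) • (⊤ : Submodule T Y) :=
  map_mem_smul_top (K ^ k) f hx

theorem map_mem_succ (K : Ideal T) (f : X →ₗ[T] Y)
    (hf : ∀ x, f x ∈ K • (⊤ : Submodule T Y)) {k : ℕ} {x : X}
    (hx : x ∈ (K ^ k) • (⊤ : Submodule T X)) : f x ∈ (K ^ (k + 1)) • (⊤ : Submodule T Y) := by
  refine Submodule.smul_induction_on hx ?_ ?_
  · intro r hr n _
    rw [map_smul]
    exact smul_mem_succ' K hr (hf n)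
  · intro x y hx hy
    rw [map_add]
    exact add_mem hx hy

theorem tmul_mem_left (K : Ideal T) (J : Ideal T) {x : X} (hx : x ∈ J • (⊤ : Submodule T X))
    (y : Y) : x ⊗ₜ[T] y ∈ J • (⊤ : Submodule T (X ⊗[T] Y)) := by
  have h := map_mem_smul_top J ((TensorProduct.mk T X Y).flip y) hx
  exact h

theorem tmul_mem_right (J : Ideal T) (x : X) {y : Y} (hy : y ∈ J • (⊤ : Submodule T Y)) :
    x ⊗ₜ[T] y ∈ J • (⊤ : Submodule T (X ⊗[T] Y)) := by
  have h := map_mem_smul_top J (TensorProduct.mk T X Y x) hy
  exact h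

theorem tmul_mem_succ (K : Ideal T) {k : ℕ} {x : X} (hx : x ∈ (K ^ k) • (⊤ : Submodule T X))
    {y : Y} (hy : y ∈ K • (⊤ : Submodule T Y)) :
    x ⊗ₜ[T] y ∈ (K ^ (k + 1)) • (⊤ : Submodule T (X ⊗[T] Y)) := by
  have h := map_mem_succ K ((TensorProduct.mk T X Y).flip y)
    (fun x => tmul_mem_right K x hy) hx
  exact h

theorem functional_mem_pow (K : Ideal T) (f : X →ₗ[T] T) {k : ℕ} {x : X}
    (hx : x ∈ (K ^ k) • (⊤ : Submodule T X)) : f x ∈ K ^ k :=
  functional_mem (K ^ k) f hx

end Filtration

section LinInd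

variable {T : Type u} [CommRing T] {C : Type u} [AddCommGroup C] [Module T C]

theorem linearIndependent_of_mod (K : Ideal T) {n : ℕ} (hK : K ^ n = ⊥) [Module.Flat T C]
    {ι : Type*} (c : ι → C)
    (hli : ∀ v : ι →₀ T, Finsupp.linearCombination T c v ∈ K • (⊤ : Submodule T C) →
      ∀ p, v p ∈ K)
    (hsp : Submodule.span T (Set.range c) ⊔ K • (⊤ : Submodule T C) = ⊤) :
    LinearIndependent T c := by
  classical
  rw [linearIndependent_iff']
  intro s a h
  have key : ∀ k : ℕ, ∀ i ∈ s, a i ∈ K ^ k := by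
    intro k
    induction k with
    | zero =>
      intro i _
      rw [pow_zero, Ideal.one_eq_top]
      trivial
    | succ k ih =>
      have h' : ∑ i : s, a i • c i = 0 := by
        rw [← h]
        exact Finset.sum_coe_sort s (fun i => a i • c i)
      obtain ⟨l, A, y, hy, hA⟩ := Module.Flat.isTrivialRelation_of_sum_smul_eq_zero
        (f := fun i : s => a i) (x := fun i : s => c i) h'
      have hyj : ∀ j, ∃ β : ι →₀ T,
          y j - Finsupp.linearCombination T c β ∈ K • (⊤ : Submodule T C) := by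
        intro j
        have hmem : y j ∈ Submodule.span T (Set.range c) ⊔ K • (⊤ : Submodule T C) := by
          rw [hsp]
          trivial
        obtain ⟨u, hu, w, hw, huw⟩ := Submodule.mem_sup.mp hmem
        rw [← Finsupp.range_linearCombination] at hu
        obtain ⟨β, rfl⟩ := hu
        refine ⟨β, ?_⟩
        rw [← huw, add_sub_cancel_left]
        exact hw
      choose β hβ using hyj
      -- the finsupp `v i = single i 1 - ∑ j, A i j • β j`
      let v : s → (ι →₀ T) := fun i => Finsupp.single (i : ι) 1 - ∑ j, A i j • β j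
      have hv : ∀ i : s, Finsupp.linearCombination T c (v i) ∈ K • (⊤ : Submodule T C) := by
        intro i
        have h1 : Finsupp.linearCombination T c (v i) =
            ∑ j, A i j • (y j - Finsupp.linearCombination T c (β j)) := by
          show Finsupp.linearCombination T c (Finsupp.single (i : ι) 1 - ∑ j, A i j • β j) = _
          rw [map_sub, Finsupp.linearCombination_single, one_smul, map_sum]
          simp only [map_smul, smul_sub]
          rw [Finset.sum_sub_distrib, ← hy i]
        rw [h1]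
        exact Submodule.sum_mem _ (fun j _ => Submodule.smul_mem _ _ (hβ j))
      intro p hp
      have hexp : a p = ∑ i : s, a i * v i p := by
        have h2 : ∀ i : s, a i * v i p =
            a i * (if (i : ι) = p then 1 else 0) - ∑ j, (a i * A i j) * β j p := by
          intro i
          show a i * ((Finsupp.single (i : ι) (1 : T) - ∑ j, A i j • β j : ι →₀ T) p) = _
          rw [Finsupp.sub_apply, Finsupp.single_apply, Finsupp.finset_sum_apply, mul_sub,
            Finset.mul_sum]
          congr 1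
          apply Finset.sum_congr rfl
          intro j _
          rw [Finsupp.smul_apply, smul_eq_mul, mul_assoc]
        rw [Finset.sum_congr rfl (fun i _ => h2 i), Finset.sum_sub_distrib]
        have h3 : ∑ i : s, ∑ j, (a i * A i j) * β j p = 0 := by
          rw [Finset.sum_comm]
          apply Finset.sum_eq_zero
          intro j _
          rw [← Finset.sum_mul, hA j, zero_mul]
        rw [h3, sub_zero]
        rw [Finset.sum_eq_single (⟨p, hp⟩ : s)]
        · rw [if_pos rfl, mul_one]
        · intro i _ hi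
          have : ¬ (i : ι) = p := fun h => hi (Subtype.ext h)
          rw [if_neg this, mul_zero]
        · intro h
          exact absurd (Finset.mem_univ _) h
      rw [hexp]
      apply Ideal.sum_mem
      intro i _
      rw [pow_succ]
      exact Ideal.mul_mem_mul (ih i i.2) (hli (v i) (hv i) p)
  intro i hi
  have := key n i hi
  rwa [hK, Ideal.mem_bot] at this

end LinInd

section Basis

variable {T : Type u} [CommRing T] {C : Type u} [AddCommGroup C] [Module T C]

theorem sub_mem_of_one_tmul_eq (K : Ideal T) {x y : C}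
    (h : (1 : T ⧸ K) ⊗ₜ[T] x = (1 : T ⧸ K) ⊗ₜ[T] y) : x - y ∈ K • (⊤ : Submodule T C) := by
  apply mem_of_one_tmul_eq_zero
  rw [TensorProduct.tmul_sub, h, sub_self]

theorem one_tmul_eq_of_sub_mem (K : Ideal T) {x y : C}
    (h : x - y ∈ K • (⊤ : Submodule T C)) : (1 : T ⧸ K) ⊗ₜ[T] x = (1 : T ⧸ K) ⊗ₜ[T] y := by
  have h1 := one_tmul_eq_zero_of_mem K h
  rwa [TensorProduct.tmul_sub, sub_eq_zero] at h1

theorem exists_basis_of_mod (K : Ideal T) (hK : IsNilpotent K) [Module.Flat T C] {ι : Type u}
    (c : ι → C) (b₀ : Module.Basis ι (T ⧸ K) ((T ⧸ K) ⊗[T] C))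
    (hc : ∀ i, (1 : T ⧸ K) ⊗ₜ[T] c i = b₀ i) :
    ∃ b : Module.Basis ι T C, ∀ i, b i = c i := by
  classical
  obtain ⟨n, hn⟩ := hK
  rw [Ideal.zero_eq_bot] at hn
  -- span modulo K
  have hsp : Submodule.span T (Set.range c) ⊔ K • (⊤ : Submodule T C) = ⊤ := by
    rw [eq_top_iff]
    intro x _
    have hP : ∀ z : (T ⧸ K) ⊗[T] C, z ∈ Submodule.span (T ⧸ K) (Set.range b₀) →
        ∃ y ∈ Submodule.span T (Set.range c), (1 : T ⧸ K) ⊗ₜ[T] y = z := by
      intro z hz
      induction hz using Submodule.span_induction with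
      | mem z hz =>
        obtain ⟨i, rfl⟩ := hz
        exact ⟨c i, Submodule.subset_span (Set.mem_range_self i), hc i⟩
      | zero => exact ⟨0, Submodule.zero_mem _, TensorProduct.tmul_zero _ _⟩
      | add z z' _ _ hz hz' =>
        obtain ⟨y, hy, rfl⟩ := hz
        obtain ⟨y', hy', rfl⟩ := hz'
        exact ⟨y + y', Submodule.add_mem _ hy hy', TensorProduct.tmul_add _ _ _⟩
      | smul t z _ hz =>
        obtain ⟨y, hy, rfl⟩ := hz
        obtain ⟨t, rfl⟩ := Ideal.Quotient.mk_surjective t
        refine ⟨t • y, Submodule.smul_mem _ _ hy, ?_⟩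
        rw [TensorProduct.tmul_smul, ← algebraMap_smul (T ⧸ K) t ((1 : T ⧸ K) ⊗ₜ[T] y)]
        rfl
    obtain ⟨y, hy, hyx⟩ := hP ((1 : T ⧸ K) ⊗ₜ[T] x) (by rw [b₀.span_eq]; trivial)
    have h1 : x - y ∈ K • (⊤ : Submodule T C) := sub_mem_of_one_tmul_eq K hyx.symm
    have h2 : x = y + (x - y) := by abel
    rw [h2]
    exact Submodule.add_mem _ (Submodule.mem_sup_left hy) (Submodule.mem_sup_right h1)
  -- independence modulo K
  have hli : ∀ v : ι →₀ T, Finsupp.linearCombination T c v ∈ K • (⊤ : Submodule T C) →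
      ∀ p, v p ∈ K := by
    intro v hv p
    let φ : C →ₗ[T] (T ⧸ K) :=
      ((b₀.coord p).restrictScalars T) ∘ₗ (TensorProduct.mk T (T ⧸ K) C 1)
    have hφc : ∀ q, φ (c q) = if q = p then 1 else 0 := by
      intro q
      show b₀.coord p ((1 : T ⧸ K) ⊗ₜ[T] c q) = _
      rw [hc q, Module.Basis.coord_apply, Module.Basis.repr_self, Finsupp.single_apply]
    have hφ0 : φ (Finsupp.linearCombination T c v) = 0 := by
      show b₀.coord p ((1 : T ⧸ K) ⊗ₜ[T] Finsupp.linearCombination T c v) = 0
      rw [one_tmul_eq_zero_of_mem K hv, map_zero]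
    rw [Finsupp.linearCombination_apply, Finsupp.sum, map_sum] at hφ0
    simp only [map_smul, hφc] at hφ0
    rw [← Ideal.Quotient.eq_zero_iff_mem]
    by_cases hp : p ∈ v.support
    · rw [Finset.sum_eq_single p] at hφ0
      · rw [if_pos rfl] at hφ0
        rw [← hφ0]
        rw [Algebra.smul_def, mul_one]
        rfl
      · intro q _ hq
        rw [if_neg hq, smul_zero]
      · intro h
        exact absurd hp h
    · rw [Finsupp.notMem_support_iff.mp hp, map_zero]
  have hLI := linearIndependent_of_mod K hn c hli hsp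
  have hSP := eq_top_of_sup_smul K hn _ hsp
  exact ⟨Module.Basis.mk hLI hSP.ge, fun i => Module.Basis.mk_apply hLI hSP.ge i⟩

end Basis

end Groth.Agent.Lib.FlatNilH4
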