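import Mathlib
import Groth.Agent.Lib.FlatNil1_helper4

/-!
# Lifting group-like elements through a nilpotent ideal by averaging (helper4)
APPEND-ONLY once landed.

`C` a coalgebra over `T`, `K` an ideal of `T`, `μ : C → T` a functional that is "`a`-semi-invariant
modulo `K`": `(id ⊗ μ)(Δ y) ≡ μ y • a` modulo `K C`, with `μ a ≡ 1`.
* `improve`: if `Δ a ≡ a ⊗ a` modulo `K ^ k`, then `a + b` is group-like modulo `K ^ (k+1)` for
  `b = (id ⊗ μ)(Δ a - a ⊗ a)`.
* `unique_step`: two group-like elements congruent to `a` modulo `K` and to each other modulo `K ^ k`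
  are congruent modulo `K ^ (k+1)`.
-/

set_option backward.isDefEq.respectTransparency.types false
set_option autoImplicit false
set_option linter.unusedVariables false
set_option linter.unusedTactic false
set_option linter.unreachableTactic false
set_option linter.unusedSectionVars false
set_option linter.style.haveILetI false
set_option linter.deprecated false
set_option linter.unusedSimpArgs false
set_option linter.style.longLine false
set_option maxHeartbeats 3200000

universe u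

open TensorProduct Coalgebra

noncomputable section

namespace Groth.Agent.Lib.FlatNilH4

open Groth.Agent.Lib.DiagNilH4

section Avg

variable {T : Type u} [CommRing T] {C : Type u} [AddCommGroup C] [Module T C] [Coalgebra T C]

/-- `id ⊗ μ : C ⊗ C → C` -/
def Lam (μ : C →ₗ[T] T) : C ⊗[T] C →ₗ[T] C :=
  (TensorProduct.rid T C).toLinearMap ∘ₗ LinearMap.lTensor C μ

@[simp] theorem Lam_tmul (μ : C →ₗ[T] T) (x y : C) : Lam μ (x ⊗ₜ[T] y) = μ y • x := by
  simp [Lam]

/-- `id ⊗ id ⊗ μ : (C ⊗ C) ⊗ C → C ⊗ C` -/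
def Lam3 (μ : C →ₗ[T] T) : (C ⊗[T] C) ⊗[T] C →ₗ[T] C ⊗[T] C :=
  (TensorProduct.rid T (C ⊗[T] C)).toLinearMap ∘ₗ LinearMap.lTensor (C ⊗[T] C) μ

@[simp] theorem Lam3_tmul (μ : C →ₗ[T] T) (w : C ⊗[T] C) (z : C) :
    Lam3 μ (w ⊗ₜ[T] z) = μ z • w := by
  simp [Lam3]

theorem Lam3_rTensor (μ : C →ₗ[T] T) (w : C ⊗[T] C) :
    Lam3 μ (LinearMap.rTensor C (comul : C →ₗ[T] C ⊗[T] C) w) = comul (R := T) (Lam μ w) := by
  induction w using TensorProduct.induction_on with
  | zero => simp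
  | tmul x y => simp
  | add x y hx hy => rw [map_add, map_add, hx, hy, map_add, map_add]

theorem Lam3_assoc_symm (μ : C →ₗ[T] T) (w : C ⊗[T] (C ⊗[T] C)) :
    Lam3 μ ((TensorProduct.assoc T C C C).symm w) = LinearMap.lTensor C (Lam μ) w := by
  induction w using TensorProduct.induction_on with
  | zero => simp
  | tmul x v =>
    induction v using TensorProduct.induction_on with
    | zero => simp
    | tmul y z => simp [TensorProduct.tmul_smul, TensorProduct.smul_tmul']
    | add v v' hv hv' =>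
      rw [TensorProduct.tmul_add, map_add, map_add, hv, hv', map_add]
  | add x y hx hy => rw [map_add, map_add, hx, hy, map_add]

theorem lTensor_smulRight (μ : C →ₗ[T] T) (a : C) (w : C ⊗[T] C) :
    LinearMap.lTensor C (LinearMap.smulRight μ a) w = (Lam μ w) ⊗ₜ[T] a := by
  induction w using TensorProduct.induction_on with
  | zero => simp
  | tmul x y => simp [TensorProduct.tmul_smul, TensorProduct.smul_tmul']
  | add x y hx hy => rw [map_add, hx, hy, map_add, TensorProduct.add_tmul]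

/-- the defect of semi-invariance -/
def nu (μ : C →ₗ[T] T) (a : C) : C →ₗ[T] C :=
  Lam μ ∘ₗ (comul : C →ₗ[T] C ⊗[T] C) - LinearMap.smulRight μ a

theorem nu_apply (μ : C →ₗ[T] T) (a y : C) :
    nu μ a y = Lam μ (comul (R := T) y) - μ y • a := by
  simp [nu]

theorem lTensor_nu_mem (K : Ideal T) (μ : C →ₗ[T] T) (a : C)
    (hμ : ∀ y, Lam μ (comul (R := T) y) - μ y • a ∈ K • (⊤ : Submodule T C))
    (w : C ⊗[T] C) : LinearMap.lTensor C (nu μ a) w ∈ K • (⊤ : Submodule T (C ⊗[T] C)) := by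
  induction w using TensorProduct.induction_on with
  | zero => rw [map_zero]; exact Submodule.zero_mem _
  | tmul x y =>
    rw [LinearMap.lTensor_tmul, nu_apply]
    exact tmul_mem_right K x (hμ y)
  | add x y hx hy => rw [map_add]; exact Submodule.add_mem _ hx hy

/-- The key identity: coassociativity at `a`, averaged with `μ`. -/
theorem comul_Lam_eq (μ : C →ₗ[T] T) (a : C) :
    comul (R := T) (Lam μ (comul (R := T) a - a ⊗ₜ[T] a)) =
      a ⊗ₜ[T] (Lam μ (comul (R := T) a - a ⊗ₜ[T] a)) +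
        (Lam μ (comul (R := T) a - a ⊗ₜ[T] a)) ⊗ₜ[T] a +
        LinearMap.lTensor C (nu μ a) (comul (R := T) a - a ⊗ₜ[T] a) -
        μ a • (comul (R := T) a - a ⊗ₜ[T] a) := by
  set d := comul (R := T) a - a ⊗ₜ[T] a with hd
  have hΔ : comul (R := T) a = a ⊗ₜ[T] a + d := by rw [hd]; abel
  have h0 := Coalgebra.coassoc_symm_apply (R := T) a
  have h1 := congrArg (Lam3 μ) h0
  rw [Lam3_assoc_symm, Lam3_rTensor] at h1
  -- left side: lTensor (Lam μ) (lTensor comul (comul a))
  have hL : LinearMap.lTensor C (Lam μ) (LinearMap.lTensor C (comul : C →ₗ[T] C ⊗[T] C)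
      (comul (R := T) a)) =
      a ⊗ₜ[T] (μ a • a + Lam μ d) + ((Lam μ d) ⊗ₜ[T] a + LinearMap.lTensor C (nu μ a) d) := by
    have hcomp : ∀ w : C ⊗[T] C, LinearMap.lTensor C (Lam μ) (LinearMap.lTensor C
        (comul : C →ₗ[T] C ⊗[T] C) w) =
        LinearMap.lTensor C (LinearMap.smulRight μ a) w + LinearMap.lTensor C (nu μ a) w := by
      intro w
      rw [← LinearMap.comp_apply, ← LinearMap.lTensor_comp, ← LinearMap.add_apply,
        ← LinearMap.lTensor_add]
      congr 2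
      simp [nu]
    conv_lhs => rw [hΔ]
    rw [map_add, map_add, LinearMap.lTensor_tmul, LinearMap.lTensor_tmul, hΔ, map_add, Lam_tmul,
      hcomp d, lTensor_smulRight]
  -- right side: comul (Lam μ (comul a))
  have hR : comul (R := T) (Lam μ (comul (R := T) a)) =
      μ a • (a ⊗ₜ[T] a + d) + comul (R := T) (Lam μ d) := by
    conv_lhs => rw [hΔ]
    rw [map_add, Lam_tmul, map_add, map_smul, hΔ]
  rw [hL, hR] at h1
  -- solve for comul (Lam μ d)
  have h2 : comul (R := T) (Lam μ d) =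
      a ⊗ₜ[T] (μ a • a + Lam μ d) + ((Lam μ d) ⊗ₜ[T] a + LinearMap.lTensor C (nu μ a) d) -
        μ a • (a ⊗ₜ[T] a + d) := by
    rw [h1]; abel
  rw [h2, TensorProduct.tmul_add, TensorProduct.tmul_smul, smul_add]
  abel

theorem improve (K : Ideal T) (μ : C →ₗ[T] T) (a : C) (h1 : μ a - 1 ∈ K)
    (hμ : ∀ y, Lam μ (comul (R := T) y) - μ y • a ∈ K • (⊤ : Submodule T C))
    (k : ℕ) (hk : 1 ≤ k)
    (hd : comul (R := T) a - a ⊗ₜ[T] a ∈ (K ^ k) • (⊤ : Submodule T (C ⊗[T] C))) :
    ∃ b : C, b ∈ (K ^ k) • (⊤ : Submodule T C) ∧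
      comul (R := T) (a + b) - (a + b) ⊗ₜ[T] (a + b) ∈
        (K ^ (k + 1)) • (⊤ : Submodule T (C ⊗[T] C)) := by
  set d := comul (R := T) a - a ⊗ₜ[T] a with hdd
  have hb : Lam μ d ∈ (K ^ k) • (⊤ : Submodule T C) := map_mem_pow K (Lam μ) hd
  refine ⟨Lam μ d, hb, ?_⟩
  have hkey := comul_Lam_eq μ a
  rw [← hdd] at hkey
  have hcalc : comul (R := T) (a + Lam μ d) - (a + Lam μ d) ⊗ₜ[T] (a + Lam μ d) =
      (1 - μ a) • d + LinearMap.lTensor C (nu μ a) d - (Lam μ d) ⊗ₜ[T] (Lam μ d) := by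
    rw [map_add, hkey, TensorProduct.add_tmul, TensorProduct.tmul_add, TensorProduct.tmul_add,
      sub_smul, one_smul, hdd]
    abel
  rw [hcalc]
  refine Submodule.sub_mem _ (Submodule.add_mem _ ?_ ?_) ?_
  · apply smul_mem_succ K _ hd
    have := K.neg_mem h1
    rwa [neg_sub] at this
  · exact map_mem_succ K _ (lTensor_nu_mem K μ a hμ) hd
  · exact tmul_mem_succ K hb (mem_smul_of_pow K hk hb)

theorem unique_step (K : Ideal T) (μ : C →ₗ[T] T) (a : C) (h1 : μ a - 1 ∈ K)
    (hμ : ∀ y, Lam μ (comul (R := T) y) - μ y • a ∈ K • (⊤ : Submodule T C))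
    (k : ℕ) (hk : 1 ≤ k) (g g' : C) (hg : comul (R := T) g = g ⊗ₜ[T] g)
    (hg' : comul (R := T) g' = g' ⊗ₜ[T] g')
    (hga : g - a ∈ K • (⊤ : Submodule T C))
    (hgg : g' - g ∈ (K ^ k) • (⊤ : Submodule T C)) :
    g' - g ∈ (K ^ (k + 1)) • (⊤ : Submodule T C) := by
  obtain ⟨b, hb⟩ : ∃ b, b = g' - g := ⟨_, rfl⟩
  rw [← hb] at hgg ⊢
  have hg'b : g' = g + b := by rw [hb]; abel
  have hΔb : comul (R := T) b = g ⊗ₜ[T] b + b ⊗ₜ[T] g + b ⊗ₜ[T] b := by
    rw [hb, map_sub, hg', hg, hg'b, TensorProduct.add_tmul, TensorProduct.tmul_add,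
      TensorProduct.tmul_add]
    abel
  have hν : nu μ a b = Lam μ (comul (R := T) b) - μ b • a := nu_apply μ a b
  rw [hΔb, map_add, map_add, Lam_tmul, Lam_tmul, Lam_tmul] at hν
  -- μ g • b = ν b + μ b • (a - g) - μ b • b
  have h2 : b = nu μ a b + μ b • (a - g) - μ b • b + (1 - μ g) • b := by
    rw [hν, smul_sub (μ b) a g, sub_smul 1 (μ g) b, one_smul]
    abel
  have hμb : μ b ∈ K ^ k := functional_mem_pow K μ hgg
  have hμg : 1 - μ g ∈ K := by
    have h3 : 1 - μ g = -(μ a - 1) - μ (g - a) := by rw [map_sub]; ring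
    rw [h3]
    exact K.sub_mem (K.neg_mem h1) (functional_mem K μ hga)
  rw [h2]
  refine Submodule.add_mem _ (Submodule.sub_mem _ (Submodule.add_mem _ ?_ ?_) ?_) ?_
  · refine map_mem_succ K (nu μ a) (fun y => ?_) hgg
    rw [nu_apply]
    exact hμ y
  · apply smul_mem_succ' K hμb
    have := Submodule.neg_mem _ hga
    rwa [neg_sub] at this
  · exact smul_mem_succ' K hμb (mem_smul_of_pow K hk hgg)
  · exact smul_mem_succ K hμg hgg

end Avg

end Groth.Agent.Lib.FlatNilH4
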