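import Mathlib
import Groth.Prelude.Def_SGA3b
import Groth.Agent.Lib.FlatNil2_helper4
import Groth.Agent.Lib.DiagBC1_helper4

/-!
# A flat deformation of a diagonalisable group over a nilpotent ideal is diagonalisable (helper4)
APPEND-ONLY once landed.

`isDiag_of_flat_nilpotent`: `T` a ring, `K` a nilpotent ideal, `C` a flat Hopf algebra over `T` with
`(T ⧸ K) ⊗ C` diagonalisable; then `C` is diagonalisable (SGA3 IX 3.x via the vanishing of Hochschild
cohomology of diagonalisable groups, here by explicit averaging).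
-/

set_option backward.isDefEq.respectTransparency.types false
set_option autoImplicit false
set_option linter.unusedVariables false
set_option linter.unusedTactic false
set_option linter.unreachableTactic false
set_option linter.unusedSectionVars false
set_option linter.style.haveILetI false
set_option linter.deprecated false
set_option linter.unusedSimpArgs false
set_option linter.style.longLine false
set_option maxHeartbeats 3200000

universe u

open TensorProduct Coalgebra

noncomputable section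

namespace Groth.Agent.Lib.FlatNilH4

open SGA3b Groth.Agent.Lib.DiagNilH4 Groth.Agent.Lib.DiagBCH4

section Lift

variable {T : Type u} [CommRing T] {C : Type u} [AddCommGroup C] [Module T C] [Coalgebra T C]

theorem exists_groupLike_lift (K : Ideal T) (hK : IsNilpotent K) (μ : C →ₗ[T] T) (c : C)
    (h1 : μ c - 1 ∈ K)
    (hμ : ∀ y, Lam μ (comul (R := T) y) - μ y • c ∈ K • (⊤ : Submodule T C))
    (hd : comul (R := T) c - c ⊗ₜ[T] c ∈ K • (⊤ : Submodule T (C ⊗[T] C))) :
    ∃ g : C, IsGroupLikeElem T g ∧ g - c ∈ K • (⊤ : Submodule T C) := by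
  obtain ⟨n, hn⟩ := hK
  rw [Ideal.zero_eq_bot] at hn
  have key : ∀ k : ℕ, ∃ a : C, a - c ∈ K • (⊤ : Submodule T C) ∧
      comul (R := T) a - a ⊗ₜ[T] a ∈ (K ^ (k + 1)) • (⊤ : Submodule T (C ⊗[T] C)) := by
    intro k
    induction k with
    | zero =>
      refine ⟨c, ?_, ?_⟩
      · rw [sub_self]; exact Submodule.zero_mem _
      · rwa [zero_add, pow_one]
    | succ k ih =>
      obtain ⟨a, hac, had⟩ := ih
      have h1a : μ a - 1 ∈ K := by
        have : μ a - 1 = μ (a - c) + (μ c - 1) := by rw [map_sub]; ring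
        rw [this]
        exact K.add_mem (functional_mem K μ hac) h1
      have hμa : ∀ y, Lam μ (comul (R := T) y) - μ y • a ∈ K • (⊤ : Submodule T C) := by
        intro y
        have : Lam μ (comul (R := T) y) - μ y • a =
            (Lam μ (comul (R := T) y) - μ y • c) - μ y • (a - c) := by
          rw [smul_sub]; abel
        rw [this]
        exact Submodule.sub_mem _ (hμ y) (Submodule.smul_mem _ _ hac)
      obtain ⟨b, hb, hab⟩ := improve K μ a h1a hμa (k + 1) (Nat.succ_le_succ (Nat.zero_le k)) had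
      refine ⟨a + b, ?_, hab⟩
      have : a + b - c = (a - c) + b := by abel
      rw [this]
      exact Submodule.add_mem _ hac (mem_smul_of_pow K (Nat.succ_le_succ (Nat.zero_le k)) hb)
  obtain ⟨g, hgc, hgd⟩ := key n
  rw [pow_succ, hn, Ideal.bot_mul, Submodule.bot_smul, Submodule.mem_bot, sub_eq_zero] at hgd
  refine ⟨g, ⟨?_, hgd⟩, hgc⟩
  -- the counit
  have h2 := Coalgebra.rTensor_counit_comul (R := T) g
  rw [hgd, LinearMap.rTensor_tmul] at h2
  have h3 := congrArg (TensorProduct.lid T C) h2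
  rw [TensorProduct.lid_tmul, TensorProduct.lid_tmul, one_smul] at h3
  have h4 := congrArg μ h3
  rw [map_smul, smul_eq_mul] at h4
  have hμg : μ g - 1 ∈ K := by
    have : μ g - 1 = μ (g - c) + (μ c - 1) := by rw [map_sub]; ring
    rw [this]
    exact K.add_mem (functional_mem K μ hgc) h1
  have hnil : IsNilpotent (μ g - 1) := by
    refine ⟨n, ?_⟩
    have := Ideal.pow_mem_pow hμg n
    rwa [hn, Ideal.mem_bot] at this
  have hu : IsUnit (μ g) := by
    have := hnil.isUnit_add_one
    rwa [sub_add_cancel] at this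
  have h5 : (counit (R := T) g - 1) * μ g = 0 := by rw [sub_mul, one_mul, h4, sub_self]
  exact sub_eq_zero.mp (hu.mul_left_eq_zero.mp h5)

theorem groupLike_unique (K : Ideal T) (hK : IsNilpotent K) (μ : C →ₗ[T] T) (c : C)
    (h1 : μ c - 1 ∈ K)
    (hμ : ∀ y, Lam μ (comul (R := T) y) - μ y • c ∈ K • (⊤ : Submodule T C))
    (g g' : C) (hg : comul (R := T) g = g ⊗ₜ[T] g) (hg' : comul (R := T) g' = g' ⊗ₜ[T] g')
    (hgc : g - c ∈ K • (⊤ : Submodule T C)) (hg'c : g' - c ∈ K • (⊤ : Submodule T C)) :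
    g = g' := by
  obtain ⟨n, hn⟩ := hK
  rw [Ideal.zero_eq_bot] at hn
  have key : ∀ k : ℕ, g' - g ∈ (K ^ (k + 1)) • (⊤ : Submodule T C) := by
    intro k
    induction k with
    | zero =>
      rw [zero_add, pow_one]
      have : g' - g = (g' - c) - (g - c) := by abel
      rw [this]
      exact Submodule.sub_mem _ hg'c hgc
    | succ k ih =>
      exact unique_step K μ c h1 hμ (k + 1) (Nat.succ_le_succ (Nat.zero_le k)) g g' hg hg' hgc ih
  have h := key n
  rw [pow_succ, hn, Ideal.bot_mul, Submodule.bot_smul, Submodule.mem_bot, sub_eq_zero] at h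
  exact h.symm

end Lift

section Core

theorem isDiag_of_flat_nilpotent (T : Type u) [CommRing T] (C : Type u) [CommRing C]
    [HopfAlgebra T C] [Module.Flat T C] (K : Ideal T) (hK : IsNilpotent K)
    (h0 : IsDiag (T ⧸ K) ((T ⧸ K) ⊗[T] C)) : IsDiag T C := by
  classical
  obtain ⟨M, _, ⟨e⟩⟩ := h0
  let b₀ : Module.Basis M (T ⧸ K) ((T ⧸ K) ⊗[T] C) :=
    (MonoidAlgebra.basis M (T ⧸ K)).map e.symm.toAlgEquiv.toLinearEquiv
  have hb₀ : ∀ m, b₀ m = e.symm (MonoidAlgebra.single m 1) := fun m => by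
    rw [Module.Basis.map_apply, MonoidAlgebra.basis_apply]
    rfl
  have hgl₀ : ∀ m, IsGroupLikeElem (T ⧸ K) (b₀ m) := fun m => by
    rw [hb₀]
    exact (isGroupLikeElem_map_equiv e.symm).mpr
      (MonoidAlgebra.isGroupLikeElem_single_one (R := T ⧸ K) (A := T ⧸ K) m)
  choose c hc using fun m => exists_one_tmul_eq K (b₀ m)
  obtain ⟨b, hb⟩ := exists_basis_of_mod K hK c b₀ hc
  have hd : ∀ m, comul (R := T) (c m) - c m ⊗ₜ[T] c m ∈
      K • (⊤ : Submodule T (C ⊗[T] C)) := fun m =>
    mem_of_one_tmul_eq_zero K (gl_descend (T ⧸ K) (by rw [hc m]; exact hgl₀ m)).2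
  have hcoord : ∀ m n, b.coord m (c n) = if n = m then 1 else 0 := by
    intro m n
    rw [← hb n, Module.Basis.coord_apply, Module.Basis.repr_self, Finsupp.single_apply]
  have hμ : ∀ m y, Lam (b.coord m) (comul (R := T) y) - b.coord m y • c m ∈
      K • (⊤ : Submodule T C) := by
    intro m y
    rw [← nu_apply]
    have hle : Submodule.span T (Set.range b) ≤
        (K • (⊤ : Submodule T C)).comap (nu (b.coord m) (c m)) := by
      rw [Submodule.span_le]
      rintro _ ⟨n, rfl⟩
      rw [SetLike.mem_coe, Submodule.mem_comap, nu_apply, hb n]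
      have h2 : comul (R := T) (c n) =
          c n ⊗ₜ[T] c n + (comul (R := T) (c n) - c n ⊗ₜ[T] c n) := by abel
      rw [h2, map_add, Lam_tmul, hcoord]
      by_cases hnm : n = m
      · subst hnm
        rw [if_pos rfl, add_sub_cancel_left]
        exact map_mem_smul_top K _ (hd n)
      · simp only [if_neg hnm, zero_smul, zero_add, sub_zero]
        exact map_mem_smul_top K _ (hd n)
    have hy : y ∈ Submodule.span T (Set.range b) := by rw [b.span_eq]; trivial
    exact hle hy
  have h1 : ∀ m, b.coord m (c m) - 1 ∈ K := fun m => by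
    rw [hcoord, if_pos rfl, sub_self]
    exact K.zero_mem
  have hex : ∀ m, ∃ g : C, IsGroupLikeElem T g ∧ g - c m ∈ K • (⊤ : Submodule T C) := fun m =>
    exists_groupLike_lift K hK (b.coord m) (c m) (h1 m) (hμ m) (hd m)
  choose γ hγ hγc using hex
  have huniq : ∀ m (g : C), comul (R := T) g = g ⊗ₜ[T] g →
      (1 : T ⧸ K) ⊗ₜ[T] g = b₀ m → g = γ m := by
    intro m g hg hgm
    refine groupLike_unique K hK (b.coord m) (c m) (h1 m) (hμ m) g (γ m) hg
      (hγ m).comul_eq_tmul_self ?_ (hγc m)
    exact sub_mem_of_one_tmul_eq K (hgm.trans (hc m).symm)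
  have hγ₀ : ∀ m, (1 : T ⧸ K) ⊗ₜ[T] γ m = b₀ m := fun m =>
    (one_tmul_eq_of_sub_mem K (hγc m)).trans (hc m)
  obtain ⟨b', hb'⟩ := exists_basis_of_mod K hK γ b₀ hγ₀
  have hfun : ⇑b' = γ := funext hb'
  refine isDiag_of_li_sp γ hγ ?_ ?_ ?_ ?_
  · -- γ 1 = 1
    symm
    apply huniq 1 1 (Bialgebra.comul_one)
    rw [hb₀, ← MonoidAlgebra.one_def, map_one]
    rfl
  · -- multiplicativity
    intro m n
    symm
    apply huniq (m * n) (γ m * γ n)
    · rw [Bialgebra.comul_mul, (hγ m).comul_eq_tmul_self, (hγ n).comul_eq_tmul_self,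
        Algebra.TensorProduct.tmul_mul_tmul]
    · have h2 : (1 : T ⧸ K) ⊗ₜ[T] (γ m * γ n) =
          ((1 : T ⧸ K) ⊗ₜ[T] γ m) * ((1 : T ⧸ K) ⊗ₜ[T] γ n) := by
        rw [Algebra.TensorProduct.tmul_mul_tmul, mul_one]
      rw [h2, hγ₀, hγ₀, hb₀, hb₀, hb₀, ← map_mul, MonoidAlgebra.single_mul_single, mul_one]
  · -- linear independence
    have hli := b'.linearIndependent
    rw [hfun, linearIndependent_iff'] at hli
    exact hli
  · rw [← hfun, b'.span_eq]

end Core

end Groth.Agent.Lib.FlatNilH4
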