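import Mathlib
import Groth.Prelude.Def_SGA3b
import Groth.Agent.Lib.FlatNil3_helper4
import Groth.Agent.Lib.DiagBC2_helper4

/-!
# Quasi-isotriviality of a flat group that is quasi-isotrivial of multiplicative type modulo a
nilpotent ideal (helper4)
APPEND-ONLY once landed.
-/

set_option backward.isDefEq.respectTransparency.types false
set_option autoImplicit false
set_option linter.unusedVariables false
set_option linter.unusedTactic false
set_option linter.unreachableTactic false
set_option linter.unusedSectionVars false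
set_option linter.style.haveILetI false
set_option linter.deprecated false
set_option linter.unusedSimpArgs false
set_option linter.style.longLine false
set_option maxHeartbeats 3200000

universe u

open TensorProduct Coalgebra

noncomputable section

namespace Groth.Agent.Lib.FlatNilH4

open Groth.Agent.Lib.DiagNilH4 Groth.Agent.Lib.DiagBCH4 SGA3b

section Lift

variable {R : Type u} [CommRing R] {A : Type u} [CommRing A] [HopfAlgebra R A]

/-- the core transfer, flat version: diagonalisable after an `R`-algebra map `T₀ → T / I T` -/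
theorem diag_of_lift_flat (I : Ideal R) (hI : IsNilpotent I) [Module.Flat R A]
    (T₀ : Type u) [CommRing T₀] [Algebra R T₀] (hP : IsDiag T₀ (T₀ ⊗[R] A))
    (T : Type u) [CommRing T] [Algebra R T]
    (ψ : T₀ →ₐ[R] T ⧸ I.map (algebraMap R T)) : IsDiag T (T ⊗[R] A) := by
  have hnil : IsNilpotent (I.map (algebraMap R T)) := by
    obtain ⟨n, hn⟩ := hI
    refine ⟨n, ?_⟩
    rw [← Ideal.map_pow, hn, Ideal.zero_eq_bot, Ideal.map_bot]
    rfl
  apply isDiag_of_flat_nilpotent T (T ⊗[R] A) (I.map (algebraMap R T)) hnil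
  exact (isDiag_tower (R := R) (A := A) (S := T) (T := T ⧸ I.map (algebraMap R T))).mpr
    (isDiag_of_algHom ψ hP)

end Lift

section Main

theorem main2987 (R : Type u) [CommRing R] (A : Type u) [CommRing A] [HopfAlgebra R A]
    [Module.Flat R A] (I : Ideal R) (hI' : IsNilpotent I)
    (h0 : IsQuasiIsotrivial (R ⧸ I) ((R ⧸ I) ⊗[R] A)) : IsQuasiIsotrivial R A := by
  have hI : ∀ x ∈ I, IsNilpotent x := by
    intro x hx
    obtain ⟨n, hn⟩ := hI'
    refine ⟨n, ?_⟩
    have h1 := Ideal.pow_mem_pow hx n
    rwa [hn, Ideal.zero_eq_bot, Ideal.mem_bot] at h1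
  obtain ⟨sb, hsb, hlocb⟩ := h0
  refine ⟨{f : R | Ideal.Quotient.mk I f ∈ sb}, span_preimage_eq_top I hI sb hsb, ?_⟩
  intro f hf
  obtain ⟨Rb, _, _, hét, hff, hd⟩ := hlocb _ hf
  haveI := hét
  haveI := hff
  letI : Algebra (R ⧸ I) Rb :=
    ((algebraMap (Localization.Away (Ideal.Quotient.mk I f)) Rb).comp
      (algebraMap (R ⧸ I) (Localization.Away (Ideal.Quotient.mk I f)))).toAlgebra
  haveI : IsScalarTower (R ⧸ I) (Localization.Away (Ideal.Quotient.mk I f)) Rb :=
    IsScalarTower.of_algebraMap_eq' rfl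
  letI : Algebra R Rb := ((algebraMap (R ⧸ I) Rb).comp (algebraMap R (R ⧸ I))).toAlgebra
  haveI : IsScalarTower R (R ⧸ I) Rb := IsScalarTower.of_algebraMap_eq' rfl
  haveI : IsScalarTower R (Localization.Away (Ideal.Quotient.mk I f)) Rb := by
    apply IsScalarTower.of_algebraMap_eq
    intro r
    rw [IsScalarTower.algebraMap_apply R (R ⧸ I) Rb,
      IsScalarTower.algebraMap_apply (R ⧸ I) (Localization.Away (Ideal.Quotient.mk I f)) Rb,
      ← IsScalarTower.algebraMap_apply R (R ⧸ I) (Localization.Away (Ideal.Quotient.mk I f))]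
  have hP1 : IsDiag Rb (Rb ⊗[R ⧸ I] ((R ⧸ I) ⊗[R] A)) :=
    (isDiag_tower (R := R ⧸ I) (A := (R ⧸ I) ⊗[R] A)
      (S := Localization.Away (Ideal.Quotient.mk I f)) (T := Rb)).mp hd
  have hP : IsDiag Rb (Rb ⊗[R] A) :=
    (isDiag_tower (R := R) (A := A) (S := R ⧸ I) (T := Rb)).mp hP1
  haveI : Algebra.Etale (R ⧸ I) (Localization.Away (Ideal.Quotient.mk I f)) :=
    Algebra.Etale.of_isLocalizationAway (Ideal.Quotient.mk I f)
  haveI : Algebra.Etale (R ⧸ I) Rb :=
    Algebra.Etale.comp (R ⧸ I) (Localization.Away (Ideal.Quotient.mk I f)) Rb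
  obtain ⟨R', _, _, hét', ⟨σ⟩⟩ := Groth.Agent.Lib.EtLiftGlobal.exists_etale_lift R I Rb
  haveI := hét'
  let ω : (R' ⧸ I.map (algebraMap R R')) ≃ₐ[R ⧸ I] Rb :=
    (Algebra.TensorProduct.quotIdealMapEquivQuotTensor R' I).trans σ
  have hdiag : IsDiag R' (R' ⊗[R] A) :=
    diag_of_lift_flat I hI' Rb hP R' (ω.symm.toAlgHom.restrictScalars R)
  let χ : R' →ₐ[R] Rb :=
    (ω.toAlgHom.restrictScalars R).comp (Ideal.Quotient.mkₐ R (I.map (algebraMap R R')))
  -- `f` is a unit of `R'`
  have hfb : IsUnit (algebraMap R Rb f) := by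
    rw [IsScalarTower.algebraMap_apply R (Localization.Away (Ideal.Quotient.mk I f)) Rb,
      IsScalarTower.algebraMap_apply R (R ⧸ I) (Localization.Away (Ideal.Quotient.mk I f))]
    exact (IsLocalization.Away.algebraMap_isUnit (Ideal.Quotient.mk I f)).map
      (algebraMap (Localization.Away (Ideal.Quotient.mk I f)) Rb)
  have hu : IsUnit (algebraMap R R' f) := by
    apply isUnit_of_isUnit_mk (I.map (algebraMap R R')) (nil_map _ I hI)
    have h3 : Ideal.Quotient.mk (I.map (algebraMap R R')) (algebraMap R R' f) =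
        ω.symm (algebraMap R Rb f) := by
      rw [← χ.commutes f]
      exact (ω.symm_apply_apply _).symm
    rw [h3]
    exact hfb.map ω.symm
  letI : Algebra (Localization.Away f) R' := (IsLocalization.Away.lift f hu).toAlgebra
  haveI : IsScalarTower R (Localization.Away f) R' :=
    IsScalarTower.of_algebraMap_eq (fun r => (IsLocalization.Away.lift_eq f hu r).symm)
  haveI : Algebra.Etale R (Localization.Away f) := Algebra.Etale.of_isLocalizationAway f
  haveI : Algebra.Etale (Localization.Away f) R' :=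
    Algebra.Etale.of_restrictScalars (R := R) (A := Localization.Away f) (B := R')
  haveI : Module.FaithfullyFlat (Localization.Away f) R' := by
    refine ⟨fun m hm => ?_⟩
    rw [Ideal.smul_top_eq_map]
    refine (Submodule.restrictScalars_eq_top_iff _ _ _).ne.mpr ?_
    have hm' : m = (m.under R).map (algebraMap R (Localization.Away f)) :=
      (IsLocalization.map_under (Submonoid.powers f) _ m).symm
    rw [hm', Ideal.map_map, ← IsScalarTower.algebraMap_eq]
    apply map_ne_top_of_ff (Q₀ := Localization.Away (Ideal.Quotient.mk I f)) χ (m.under R)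
    rw [IsScalarTower.algebraMap_eq R (R ⧸ I) (Localization.Away (Ideal.Quotient.mk I f)),
      ← Ideal.map_map,
      IsLocalization.map_algebraMap_ne_top_iff_disjoint
        (Submonoid.powers (Ideal.Quotient.mk I f)) (Localization.Away (Ideal.Quotient.mk I f)),
      Set.disjoint_left]
    rintro x ⟨n, rfl⟩ hx
    have hpr : (m.under R).IsPrime := hm.isPrime.under R
    have hIp : I ≤ m.under R := by
      intro y hy
      obtain ⟨k, hk⟩ := hI y hy
      exact hpr.mem_of_pow_mem k (by rw [hk]; exact (m.under R).zero_mem)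
    obtain ⟨a, ha, ha1⟩ := (Ideal.mem_map_iff_of_surjective _ Ideal.Quotient.mk_surjective).mp hx
    have h2 : a - f ^ n ∈ I := by
      rw [← Ideal.Quotient.eq_zero_iff_mem, map_sub, ha1, map_pow, sub_self]
    have h3 : f ^ n ∈ m.under R := by
      have h4 := (m.under R).sub_mem ha (hIp h2)
      rwa [sub_sub_cancel] at h4
    have h5 : f ∈ m.under R := hpr.mem_of_pow_mem n h3
    apply hm.ne_top
    exact Ideal.eq_top_of_isUnit_mem _ h5 (IsLocalization.Away.algebraMap_isUnit f)
  refine ⟨R', inferInstance, inferInstance, inferInstance, inferInstance, ?_⟩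
  exact (isDiag_tower (R := R) (A := A) (S := Localization.Away f) (T := R')).mpr hdiag

end Main

end Groth.Agent.Lib.FlatNilH4
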