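import Mathlib
import Groth.Prelude.Def_SGA3b
import Groth.Agent.Lib.FlatNil4_helper4
import Groth.Agent.Lib.SepSplit2_helper1

/-!
# Flat groups over an Artinian local ring with closed fibre of multiplicative type (helper4)
APPEND-ONLY once landed.
-/

set_option backward.isDefEq.respectTransparency.types false
set_option autoImplicit false
set_option linter.unusedVariables false
set_option linter.unusedTactic false
set_option linter.unreachableTactic false
set_option linter.unusedSectionVars false
set_option linter.style.haveILetI false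
set_option linter.deprecated false
set_option linter.unusedSimpArgs false
set_option linter.style.longLine false
set_option maxHeartbeats 3200000

universe u

open TensorProduct Coalgebra

noncomputable section

namespace Groth.Agent.Lib.FlatNilH4

open Groth.Agent.Lib.DiagNilH4 Groth.Agent.Lib.DiagBCH4 SGA3b

section Iso

theorem isIsotrivial_of_flat_nilpotent (R : Type u) [CommRing R] (A : Type u) [CommRing A]
    [HopfAlgebra R A] [Module.Flat R A] (I : Ideal R) (hI' : IsNilpotent I)
    (h0 : IsIsotrivial (R ⧸ I) ((R ⧸ I) ⊗[R] A)) : IsIsotrivial R A := by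
  have hI : ∀ x ∈ I, IsNilpotent x := by
    intro x hx
    obtain ⟨n, hn⟩ := hI'
    refine ⟨n, ?_⟩
    have h1 := Ideal.pow_mem_pow hx n
    rwa [hn, Ideal.zero_eq_bot, Ideal.mem_bot] at h1
  obtain ⟨Rb, _, _, hét, hfin, hff, hd⟩ := h0
  haveI := hét
  haveI := hfin
  haveI := hff
  letI : Algebra R Rb := ((algebraMap (R ⧸ I) Rb).comp (algebraMap R (R ⧸ I))).toAlgebra
  haveI : IsScalarTower R (R ⧸ I) Rb := IsScalarTower.of_algebraMap_eq' rfl
  have hP : IsDiag Rb (Rb ⊗[R] A) :=
    (isDiag_tower (R := R) (A := A) (S := R ⧸ I) (T := Rb)).mp hd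
  obtain ⟨R', _, _, hét', ⟨σ⟩⟩ := Groth.Agent.Lib.EtLiftGlobal.exists_etale_lift R I Rb
  haveI := hét'
  let ω : (R' ⧸ I.map (algebraMap R R')) ≃ₐ[R ⧸ I] Rb :=
    (Algebra.TensorProduct.quotIdealMapEquivQuotTensor R' I).trans σ
  have hdiag : IsDiag R' (R' ⊗[R] A) :=
    diag_of_lift_flat I hI' Rb hP R' (ω.symm.toAlgHom.restrictScalars R)
  let χ : R' →ₐ[R] Rb :=
    (ω.toAlgHom.restrictScalars R).comp (Ideal.Quotient.mkₐ R (I.map (algebraMap R R')))
  refine ⟨R', inferInstance, inferInstance, hét', ?_, ?_, hdiag⟩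
  · -- finite
    haveI : Module.Finite (R ⧸ I) (R' ⧸ I.map (algebraMap R R')) :=
      Module.Finite.equiv ω.symm.toLinearEquiv
    haveI : Module.Finite R (R' ⧸ I.map (algebraMap R R')) :=
      Module.Finite.trans (R ⧸ I) (R' ⧸ I.map (algebraMap R R'))
    exact finite_of_quot (I.map (algebraMap R R')) (nil_map _ I hI)
  · -- faithfully flat
    refine ⟨fun m hm => ?_⟩
    rw [Ideal.smul_top_eq_map]
    refine (Submodule.restrictScalars_eq_top_iff _ _ _).ne.mpr ?_
    apply map_ne_top_of_ff (Q₀ := R ⧸ I) χ m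
    intro htop
    apply hm.ne_top
    have hIm : I ≤ m := by
      intro x hx
      obtain ⟨n, hn⟩ := hI x hx
      exact hm.isPrime.mem_of_pow_mem n (by rw [hn]; exact m.zero_mem)
    have h1 := Ideal.comap_map_of_surjective (Ideal.Quotient.mk I) Ideal.Quotient.mk_surjective m
    rw [show Ideal.map (Ideal.Quotient.mk I) m = ⊤ from htop, Ideal.comap_top] at h1
    rw [h1]
    apply le_antisymm
    · exact le_sup_left
    · apply sup_le le_rfl
      intro x hx
      rw [Ideal.mem_comap, Ideal.mem_bot, Ideal.Quotient.eq_zero_iff_mem] at hx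
      exact hIm hx

theorem isMultType_of_isIsotrivial (R : Type u) [CommRing R] (A : Type u) [CommRing A]
    [HopfAlgebra R A] (h : IsIsotrivial R A) : IsMultType R A := by
  obtain ⟨R', _, _, hét, hfin, hff, hd⟩ := h
  haveI := hff
  refine ⟨{1}, by rw [Ideal.span_singleton_one], ?_⟩
  intro f hf
  rw [Set.mem_singleton_iff] at hf
  subst hf
  refine ⟨Localization.Away (1 : R) ⊗[R] R', inferInstance, inferInstance, inferInstance, ?_⟩
  have h2 : IsDiag (Localization.Away (1 : R) ⊗[R] R')
      ((Localization.Away (1 : R) ⊗[R] R') ⊗[R] A) :=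
    isDiag_of_algHom (Algebra.TensorProduct.includeRight :
      R' →ₐ[R] Localization.Away (1 : R) ⊗[R] R') hd
  exact (isDiag_tower (R := R) (A := A) (S := Localization.Away (1 : R))
    (T := Localization.Away (1 : R) ⊗[R] R')).mpr h2

theorem main5252 (A : Type u) [CommRing A] [IsArtinianRing A] [IsLocalRing A]
    (C : Type u) [CommRing C] [HopfAlgebra A C] [Module.Flat A C] (hft : Algebra.FiniteType A C)
    (h0 : IsMultType (IsLocalRing.ResidueField A) (IsLocalRing.ResidueField A ⊗[A] C)) :
    IsMultType A C ∧ IsIsotrivial A C := by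
  have hnil : IsNilpotent (IsLocalRing.maximalIdeal A) := by
    rw [← IsLocalRing.jacobson_eq_maximalIdeal ⊥ bot_ne_top]
    exact IsArtinianRing.isNilpotent_jacobson_bot
  haveI := hft
  have hft₀ : Algebra.FiniteType (IsLocalRing.ResidueField A)
      (IsLocalRing.ResidueField A ⊗[A] C) := inferInstance
  obtain ⟨k', _, _, hfin, hsep, hD⟩ := SepSplit2H1.s2969 (IsLocalRing.ResidueField A)
    (IsLocalRing.ResidueField A ⊗[A] C) hft₀ h0
  haveI := hfin
  haveI := hsep
  have hiso₀ : IsIsotrivial (IsLocalRing.ResidueField A) (IsLocalRing.ResidueField A ⊗[A] C) := by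
    obtain ⟨M, _, _, ⟨e⟩⟩ := hD
    haveI : Algebra.FormallyEtale (IsLocalRing.ResidueField A) k' :=
      Algebra.FormallyEtale.of_isSeparable _ _
    haveI : Algebra.FinitePresentation (IsLocalRing.ResidueField A) k' :=
      Algebra.FinitePresentation.of_finiteType.mp inferInstance
    exact ⟨k', inferInstance, inferInstance, ⟨inferInstance, inferInstance⟩, hfin, inferInstance, ⟨M, inferInstance, ⟨e⟩⟩⟩
  have hiso : IsIsotrivial A C :=
    isIsotrivial_of_flat_nilpotent A C (IsLocalRing.maximalIdeal A) hnil hiso₀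
  exact ⟨isMultType_of_isIsotrivial A C hiso, hiso⟩

end Iso

end Groth.Agent.Lib.FlatNilH4
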