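import Mathlib

/-! Flatness from flatness modulo a nonzerodivisor and after inverting it. -/

namespace FlatNzdH8

open Module

/-- simultaneous trivialisation of finitely many relations on a flat module -/
theorem simul {R M : Type*} [CommRing R] [AddCommGroup M] [Module R M] [Module.Flat R M] :
    ∀ (l : ℕ) {k : ℕ} (a : Fin l → Fin k → R) (y : Fin k → M),
      (∀ i, ∑ j, a i j • y j = 0) →
      ∃ (k₂ : ℕ) (b : Fin k → Fin k₂ → R) (z : Fin k₂ → M),
        (∀ j, y j = ∑ m, b j m • z m) ∧ ∀ i m, ∑ j, a i j * b j m = 0 := by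
  intro l
  induction l with
  | zero =>
    intro k a y _
    refine ⟨k, fun j m => if j = m then 1 else 0, y, ?_, fun i => i.elim0⟩
    intro j
    simp
  | succ l ih =>
    intro k a y h
    obtain ⟨k₂, b, z, hyz, hab⟩ := ih (fun i => a i.castSucc) y (fun i => h i.castSucc)
    -- the last relation
    have hlast : ∑ m, (∑ j, a (Fin.last l) j * b j m) • z m = 0 := by
      have := h (Fin.last l)
      rw [← this]
      simp_rw [Finset.sum_smul]
      rw [Finset.sum_comm]
      refine Finset.sum_congr rfl fun j _ => ?_
      rw [hyz j, Finset.smul_sum]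
      refine Finset.sum_congr rfl fun m _ => ?_
      rw [mul_smul]
    obtain ⟨k₃, c, w, hzw, hgc⟩ := Module.Flat.isTrivialRelation_of_sum_smul_eq_zero hlast
    refine ⟨k₃, fun j n => ∑ m, b j m * c m n, w, ?_, ?_⟩
    · intro j
      rw [hyz j]
      simp_rw [Finset.sum_smul]
      rw [Finset.sum_comm]
      refine Finset.sum_congr rfl fun m _ => ?_
      rw [hzw m, Finset.smul_sum]
      refine Finset.sum_congr rfl fun n _ => ?_
      rw [mul_smul]
    · intro i n
      have key : ∑ j, a i j * ∑ m, b j m * c m n = ∑ m, (∑ j, a i j * b j m) * c m n := by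
        simp_rw [Finset.mul_sum, Finset.sum_mul]
        rw [Finset.sum_comm]
        refine Finset.sum_congr rfl fun m _ => Finset.sum_congr rfl fun j _ => ?_
        ring
      rw [key]
      refine Fin.lastCases ?_ (fun i' => ?_) i
      · exact hgc n
      · have : ∀ m, ∑ j, a i'.castSucc j * b j m = 0 := fun m => hab i' m
        simp [this]


/-- one step: a relation that is trivial after multiplying `x` by `π` is trivial -/
theorem step {A M : Type*} [CommRing A] [AddCommGroup M] [Module A M] (π : A)
    (hA : ∀ a : A, π * a = 0 → a = 0) (hM : ∀ m : M, π • m = 0 → m = 0)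
    [Module.Flat (A ⧸ Ideal.span {π}) (M ⧸ (Ideal.span {π} • (⊤ : Submodule A M)))]
    {l : ℕ} (f : Fin l → A) (x : Fin l → M)
    (h : Module.IsTrivialRelation f (fun i => π • x i)) : Module.IsTrivialRelation f x := by
  obtain ⟨k, a, y, hxy, hfa⟩ := h
  set J : Ideal A := Ideal.span {π} with hJ
  set N : Submodule A M := J • (⊤ : Submodule A M) with hN
  -- reduce mod π
  have hrel : ∀ i, ∑ j, (Ideal.Quotient.mk J (a i j)) • (N.mkQ (y j)) = 0 := by
    intro i
    have h1 : ∑ j, (Ideal.Quotient.mk J (a i j)) • (N.mkQ (y j)) = N.mkQ (∑ j, a i j • y j) := by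
      rw [map_sum]
      refine Finset.sum_congr rfl fun j _ => ?_
      rw [LinearMap.map_smul]
      rfl
    rw [h1, ← hxy i]
    simp only [Submodule.mkQ_apply, Submodule.Quotient.mk_eq_zero]
    exact Submodule.smul_mem_smul (Ideal.mem_span_singleton_self π) Submodule.mem_top
  obtain ⟨k₂, bbar, zbar, hyz, hab⟩ := simul (R := A ⧸ J) (M := M ⧸ N) l
    (fun i j => Ideal.Quotient.mk J (a i j)) (fun j => N.mkQ (y j)) hrel
  -- lift
  choose b hb using fun j m => Ideal.Quotient.mk_surjective (bbar j m)
  choose z hz using fun m => N.mkQ_surjective (zbar m)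
  have hmemN : ∀ n : M, n ∈ N → ∃ w : M, n = π • w := by
    intro n hn
    rw [hN, hJ, Submodule.ideal_span_singleton_smul] at hn
    obtain ⟨w, -, hw⟩ := (Submodule.mem_smul_pointwise_iff_exists _ _ _).mp hn
    exact ⟨w, hw.symm⟩
  have hw : ∀ j, ∃ w : M, y j - ∑ m, b j m • z m = π • w := by
    intro j
    apply hmemN
    rw [← Submodule.Quotient.mk_eq_zero, ← Submodule.mkQ_apply, map_sub, sub_eq_zero, hyz j, map_sum]
    refine Finset.sum_congr rfl fun m _ => ?_
    rw [← hb j m, ← hz m, LinearMap.map_smul]
    rfl
  choose w hw using hw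
  have hc : ∀ i m, ∃ c : A, ∑ j, a i j * b j m = π * c := by
    intro i m
    have : ∑ j, a i j * b j m ∈ J := by
      rw [← Ideal.Quotient.eq_zero_iff_mem, map_sum, ← hab i m]
      refine Finset.sum_congr rfl fun j _ => ?_
      rw [map_mul, hb j m]
    obtain ⟨c, hc⟩ := Ideal.mem_span_singleton'.mp this
    exact ⟨c, by rw [← hc, mul_comm]⟩
  choose c hc using hc
  refine ⟨k₂ + k, fun i => Fin.append (c i) (a i), Fin.append z w, ?_, ?_⟩
  · intro i
    have hy : ∀ j, y j = ∑ m, b j m • z m + π • w j := fun j => by
      rw [← hw j]; abel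
    have key : π • x i = π • (∑ m, c i m • z m + ∑ j, a i j • w j) := by
      have h0 : π • x i = ∑ j, a i j • y j := hxy i
      rw [h0]
      have h1 : ∑ j, a i j • y j = ∑ m, (∑ j, a i j * b j m) • z m + π • ∑ j, a i j • w j := by
        have : ∀ j, a i j • y j = ∑ m, (a i j * b j m) • z m + π • (a i j • w j) := by
          intro j
          rw [hy j, smul_add, Finset.smul_sum, smul_comm (a i j) π]
          congr 1
          refine Finset.sum_congr rfl fun m _ => ?_
          rw [mul_smul]
        simp_rw [this, Finset.sum_add_distrib, Finset.sum_smul, Finset.smul_sum]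
        congr 1
        rw [Finset.sum_comm]
      have h2 : ∑ m, (∑ j, a i j * b j m) • z m = π • ∑ m, c i m • z m := by
        rw [Finset.smul_sum]
        refine Finset.sum_congr rfl fun m _ => ?_
        rw [hc i m, mul_smul]
      rw [h1, h2, smul_add]
    have hx : x i = ∑ m, c i m • z m + ∑ j, a i j • w j := by
      have h0 : π • (x i - (∑ m, c i m • z m + ∑ j, a i j • w j)) = 0 := by
        rw [smul_sub, key, sub_self]
      exact sub_eq_zero.mp (hM _ h0)
    rw [hx, Fin.sum_univ_add]
    simp only [Fin.append_left, Fin.append_right]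
  · intro t
    refine Fin.addCases (fun m => ?_) (fun j => ?_) t
    · simp only [Fin.append_left]
      apply hA
      rw [Finset.mul_sum]
      have : ∀ i, π * (f i * c i m) = ∑ j, f i * a i j * b j m := by
        intro i
        rw [mul_left_comm, ← hc i m, Finset.mul_sum]
        refine Finset.sum_congr rfl fun j _ => ?_
        ring
      simp_rw [this]
      rw [Finset.sum_comm]
      refine Finset.sum_eq_zero fun j _ => ?_
      rw [← Finset.sum_mul, hfa j, zero_mul]
    · simp only [Fin.append_right]
      exact hfa j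

theorem pow_smul_eq_zero {A M : Type*} [CommRing A] [AddCommGroup M] [Module A M] (π : A)
    (hM : ∀ m : M, π • m = 0 → m = 0) : ∀ (n : ℕ) (m : M), π ^ n • m = 0 → m = 0 := by
  intro n
  induction n with
  | zero => intro m h; simpa using h
  | succ n ih =>
    intro m h
    rw [pow_succ, mul_smul] at h
    exact hM m (ih _ h)

/-- the relation becomes trivial after multiplying by a power of `π` -/
theorem loc_trivial {A M : Type*} [CommRing A] [AddCommGroup M] [Module A M] (π : A)
    (hA : ∀ a : A, π * a = 0 → a = 0) (hM : ∀ m : M, π • m = 0 → m = 0)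
    [Module.Flat (Localization.Away π) (LocalizedModule (Submonoid.powers π) M)]
    {l : ℕ} (f : Fin l → A) (x : Fin l → M) (hfx : ∑ i, f i • x i = 0) :
    ∃ N : ℕ, Module.IsTrivialRelation f (fun i => π ^ N • x i) := by
  set S : Submonoid A := Submonoid.powers π with hS
  set g : M →ₗ[A] LocalizedModule S M := LocalizedModule.mkLinearMap S M with hg
  have ginj : ∀ m : M, g m = 0 → m = 0 := by
    intro m hm
    obtain ⟨⟨c, n, rfl⟩, hc⟩ := (IsLocalizedModule.eq_zero_iff S g).mp hm
    exact pow_smul_eq_zero π hM n m hc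
  have ainj : ∀ a : A, algebraMap A (Localization.Away π) a = 0 → a = 0 := by
    intro a ha
    obtain ⟨⟨c, n, rfl⟩, hc⟩ := (IsLocalization.map_eq_zero_iff S (Localization.Away π) a).mp ha
    exact pow_smul_eq_zero (M := A) π hA n a hc
  have hrel : ∑ i, (algebraMap A (Localization.Away π) (f i)) • g (x i) = 0 := by
    have : ∀ i, (algebraMap A (Localization.Away π) (f i)) • g (x i) = g (f i • x i) := by
      intro i
      rw [algebraMap_smul, map_smul]
    simp_rw [this]
    rw [← map_sum, hfx, map_zero]
  obtain ⟨k, a', y', hxy, hfa⟩ := Module.Flat.isTrivialRelation_of_sum_smul_eq_zero hrel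
  obtain ⟨⟨s1, n1, rfl⟩, h1⟩ := IsLocalization.exist_integer_multiples_of_finite S
    (fun ij : Fin l × Fin k => a' ij.1 ij.2)
  obtain ⟨⟨s2, n2, rfl⟩, h2⟩ := IsLocalizedModule.exist_integer_multiples_of_finite S g y'
  choose α hα using fun i j => h1 (i, j)
  choose η hη using h2
  simp only at hα hη
  refine ⟨n1 + n2, k, α, η, ?_, ?_⟩
  · intro i
    have h0 : g (π ^ (n1 + n2) • x i - ∑ j, α i j • η j) = 0 := by
      have hxy' : g (x i) = ∑ j, a' i j • y' j := hxy i
      rw [map_sub, map_smul, hxy', map_sum, sub_eq_zero, Finset.smul_sum]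
      refine Finset.sum_congr rfl fun j _ => ?_
      rw [map_smul, hη j, ← algebraMap_smul (Localization.Away π) (α i j), hα i j, pow_add,
        mul_smul, smul_assoc, smul_comm (a' i j) (π ^ n2)]
    exact sub_eq_zero.mp (ginj _ h0)
  · intro j
    apply ainj
    rw [map_sum]
    have : ∀ i, algebraMap A (Localization.Away π) (f i * α i j)
        = π ^ n1 • (algebraMap A (Localization.Away π) (f i) * a' i j) := by
      intro i
      rw [map_mul, hα i j, mul_smul_comm]
    simp_rw [this]
    have hfa' : ∑ i, algebraMap A (Localization.Away π) (f i) * a' i j = 0 := hfa j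
    rw [← Finset.smul_sum, hfa', smul_zero]

/-- **Flatness from flatness modulo a nonzerodivisor and after inverting it.** -/
theorem flat_of_nzd {A M : Type*} [CommRing A] [AddCommGroup M] [Module A M] (π : A)
    (hA : ∀ a : A, π * a = 0 → a = 0) (hM : ∀ m : M, π • m = 0 → m = 0)
    [Module.Flat (A ⧸ Ideal.span {π}) (M ⧸ (Ideal.span {π} • (⊤ : Submodule A M)))]
    [Module.Flat (Localization.Away π) (LocalizedModule (Submonoid.powers π) M)] :
    Module.Flat A M := by
  apply Module.Flat.of_forall_isTrivialRelation
  intro l f x hfx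
  obtain ⟨N, hN⟩ := loc_trivial π hA hM f x hfx
  have key : ∀ (N : ℕ) (x : Fin l → M), Module.IsTrivialRelation f (fun i => π ^ N • x i) →
      Module.IsTrivialRelation f x := by
    intro N
    induction N with
    | zero => intro x h; simpa using h
    | succ N ih =>
      intro x h
      apply ih
      apply step π hA hM
      convert h using 2
      rw [pow_succ', mul_smul]
  exact key N x hN
end FlatNzdH8
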