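import Mathlib
import Groth.Prelude.Def_FlatCA
import Groth.Prelude.Def_Found

set_option autoImplicit false
universe u

namespace Groth.Agent.Lib.FlatProjH5

open TensorProduct

section ML

variable {R : Type u} [CommRing R] {M M' : Type u} [AddCommGroup M] [Module R M]
  [AddCommGroup M'] [Module R M']

/-- a universally injective submodule of a Mittag-Leffler module is Mittag-Leffler. -/
theorem isMittagLeffler_of_univInj (f : M →ₗ[R] M') (hf : FlatCA.UnivInj R f)
    (hM' : CAlg.IsMittagLeffler R M') : CAlg.IsMittagLeffler R M := by
  intro ι Q _ _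
  have hr : Function.Injective (f.rTensor (∀ i, Q i)) := by
    rw [← LinearMap.comm_comp_lTensor_comp_comm_eq]
    exact (TensorProduct.comm R _ _).injective.comp
      ((hf (∀ i, Q i)).comp (TensorProduct.comm R _ _).injective)
  have hcomm : ∀ x : M ⊗[R] (∀ i, Q i),
      TensorProduct.piRightHom R R M' Q (f.rTensor (∀ i, Q i) x) =
        fun i => (f.rTensor (Q i)) (TensorProduct.piRightHom R R M Q x i) := by
    intro x
    induction x using TensorProduct.induction_on with
    | zero => simp only [map_zero]; rfl
    | add x y hx hy =>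
      rw [map_add, map_add, hx, hy, map_add]
      funext i
      simp only [Pi.add_apply, map_add]
    | tmul m q =>
      rw [LinearMap.rTensor_tmul, TensorProduct.piRightHom_tmul, TensorProduct.piRightHom_tmul]
      rfl
  intro x y hxy
  apply hr
  apply hM' ι Q
  rw [hcomm, hcomm, hxy]

end ML

section Countable

variable {R S : Type u} [CommRing R] [CommRing S] [Algebra R S]

theorem isCountablyGenerated_mvPolynomial (n : ℕ) :
    CAlg.IsCountablyGenerated R (MvPolynomial (Fin n) R) := by
  refine ⟨Set.range (MvPolynomial.basisMonomials (Fin n) R), Set.countable_range _, ?_⟩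
  exact (MvPolynomial.basisMonomials (Fin n) R).span_eq

theorem isCountablyGenerated_of_finiteType [Algebra.FiniteType R S] :
    CAlg.IsCountablyGenerated R S := by
  obtain ⟨n, f, hf⟩ := Algebra.FiniteType.iff_quotient_mvPolynomial''.1
    (inferInstance : Algebra.FiniteType R S)
  obtain ⟨s, hs, hspan⟩ := isCountablyGenerated_mvPolynomial (R := R) n
  refine ⟨f '' s, hs.image _, ?_⟩
  have h1 : Submodule.span R (f '' s) = (Submodule.span R s).map f.toLinearMap := by
    rw [Submodule.map_span]; rfl
  rw [h1, hspan, Submodule.map_top, LinearMap.range_eq_top]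
  exact hf

theorem isCountablyGenerated_of_finite (hS : CAlg.IsCountablyGenerated R S)
    (N : Type u) [AddCommGroup N] [Module S N] [Module R N] [IsScalarTower R S N]
    [Module.Finite S N] : CAlg.IsCountablyGenerated R N := by
  obtain ⟨T, hT, hTspan⟩ := hS
  obtain ⟨G, hG⟩ := (Module.finite_def.1 (inferInstance : Module.Finite S N))
  let W : Submodule R N := Submodule.span R ((fun p : S × N => p.1 • p.2) '' (T ×ˢ (G : Set N)))
  refine ⟨(fun p : S × N => p.1 • p.2) '' (T ×ˢ (G : Set N)),
    (hT.prod G.countable_toSet).image _, ?_⟩
  rw [eq_top_iff]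
  have h1 : ∀ g ∈ (G : Set N), ∀ s : S, s • g ∈ W := by
    intro g hg s
    have hs : s ∈ Submodule.span R T := by rw [hTspan]; trivial
    induction hs using Submodule.span_induction with
    | mem t ht => exact Submodule.subset_span ⟨(t, g), ⟨ht, hg⟩, rfl⟩
    | zero => rw [zero_smul]; exact W.zero_mem
    | add a b _ _ ha hb => rw [add_smul]; exact W.add_mem ha hb
    | smul r a _ ha => rw [smul_assoc]; exact W.smul_mem r ha
  have h2 : ∀ x : N, ∀ s : S, s • x ∈ W := by
    intro x
    have hx : x ∈ Submodule.span S (G : Set N) := by rw [hG]; trivial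
    induction hx using Submodule.span_induction with
    | mem g hg => exact h1 g hg
    | zero => intro s; rw [smul_zero]; exact W.zero_mem
    | add a b _ _ ha hb => intro s; rw [smul_add]; exact W.add_mem (ha s) (hb s)
    | smul c a _ ha => intro s; rw [← mul_smul]; exact ha _
  intro x _
  have := h2 x 1
  rwa [one_smul] at this

end Countable

end Groth.Agent.Lib.FlatProjH5
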