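import Mathlib
import Groth.Agent.Lib.FlatCycles_helper7

set_option autoImplicit false
universe u
open CategoryTheory CategoryTheory.Limits CochainComplex
open scoped TensorProduct

namespace Groth.Agent.Lib.FlatQIsoH7

section linalg

variable {A : Type u} [CommRing A]

lemma flat_of_split {X M1 M2 : Type u} [AddCommGroup X] [Module A X] [AddCommGroup M1]
    [Module A M1] [AddCommGroup M2] [Module A M2] [Module.Flat A M1] [Module.Flat A M2]
    (p1 : X →ₗ[A] M1) (p2 : X →ₗ[A] M2) (i1 : M1 →ₗ[A] X) (i2 : M2 →ₗ[A] X)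
    (hid : i1 ∘ₗ p1 + i2 ∘ₗ p2 = LinearMap.id) : Module.Flat A X := by
  rw [Module.Flat.iff_rTensor_preserves_injective_linearMap]
  intro P Q _ _ _ _ j hj
  rw [injective_iff_map_eq_zero]
  intro z hz
  have h1 : (p1.lTensor P) z = 0 := by
    have hinj := Module.Flat.rTensor_preserves_injective_linearMap (M := M1) j hj
    apply hinj
    rw [map_zero]
    have hc : (j.rTensor M1) ∘ₗ (p1.lTensor P) = (p1.lTensor Q) ∘ₗ (j.rTensor X) := by
      apply TensorProduct.ext'
      intro p x
      simp
    have := LinearMap.congr_fun hc z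
    simp only [LinearMap.comp_apply] at this
    rw [this, hz, map_zero]
  have h2 : (p2.lTensor P) z = 0 := by
    have hinj := Module.Flat.rTensor_preserves_injective_linearMap (M := M2) j hj
    apply hinj
    rw [map_zero]
    have hc : (j.rTensor M2) ∘ₗ (p2.lTensor P) = (p2.lTensor Q) ∘ₗ (j.rTensor X) := by
      apply TensorProduct.ext'
      intro p x
      simp
    have := LinearMap.congr_fun hc z
    simp only [LinearMap.comp_apply] at this
    rw [this, hz, map_zero]
  have hz' : z = (i1.lTensor P) ((p1.lTensor P) z) + (i2.lTensor P) ((p2.lTensor P) z) := by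
    rw [← LinearMap.comp_apply, ← LinearMap.comp_apply, ← LinearMap.lTensor_comp,
      ← LinearMap.lTensor_comp, ← LinearMap.add_apply, ← LinearMap.lTensor_add, hid,
      LinearMap.lTensor_id, LinearMap.id_apply]
  rw [hz', h1, h2, map_zero, map_zero, add_zero]

lemma range_rTensor_eq_ker {X Y W : Type u} [AddCommGroup X] [Module A X] [AddCommGroup Y]
    [Module A Y] [AddCommGroup W] [Module A W] (M : Type u) [AddCommGroup M] [Module A M]
    (g : X →ₗ[A] Y) (f : Y →ₗ[A] W) (hgf : LinearMap.range g = LinearMap.ker f)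
    (Z : Submodule A W) (hZ : LinearMap.range f = Z)
    (hι : Function.Injective (Z.subtype.rTensor M)) :
    LinearMap.range (g.rTensor M) = LinearMap.ker (f.rTensor M) := by
  subst hZ
  have hcomp : (LinearMap.range f).subtype ∘ₗ f.rangeRestrict = f := LinearMap.ext fun y => rfl
  have hex : Function.Exact g f.rangeRestrict := by
    rw [LinearMap.exact_iff, LinearMap.ker_rangeRestrict, hgf]
  have hsurj : Function.Surjective f.rangeRestrict := LinearMap.surjective_rangeRestrict f
  have hex' := rTensor_exact M hex hsurj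
  rw [LinearMap.exact_iff] at hex'
  have h2 : f.rTensor M =
      ((LinearMap.range f).subtype.rTensor M) ∘ₗ (f.rangeRestrict.rTensor M) := by
    rw [← LinearMap.rTensor_comp, hcomp]
  rw [← hex', h2, LinearMap.ker_comp_of_ker_eq_bot _ (LinearMap.ker_eq_bot.mpr hι)]

end linalg

section complexes

variable {A : Type u} [CommRing A]

lemma range_eq_ker (F : CochainComplex (ModuleCat.{u} A) ℤ) (hac : ∀ p, IsZero (F.homology p))
    (i j k : ℤ) (hij : i + 1 = j) (hjk : j + 1 = k) :
    LinearMap.range (F.d i j).hom = LinearMap.ker (F.d j k).hom := by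
  subst hij hjk
  have hex : (F.sc' i (i + 1) (i + 1 + 1)).Exact := by
    rw [← F.exactAt_iff' i (i + 1) (i + 1 + 1) (by simp) (by simp),
      HomologicalComplex.exactAt_iff_isZero_homology]
    exact hac (i + 1)
  exact (ShortComplex.moduleCat_exact_iff_range_eq_ker _).mp hex

set_option backward.isDefEq.respectTransparency false in
lemma flat_ker (F : CochainComplex (ModuleCat.{u} A) ℤ) (hF : ∀ i, Module.Flat A (F.X i))
    (hb : ∃ b : ℤ, ∀ i, b < i → IsZero (F.X i)) (hac : ∀ p, IsZero (F.homology p)) (i : ℤ) :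
    Module.Flat A (LinearMap.ker (F.d i (i + 1)).hom) := by
  haveI := Groth.Agent.Lib.FlatCyclesH7.main A F hF hb i (fun p _ => hac p)
  let e : F.cycles i ≅ ModuleCat.of A (LinearMap.ker (F.d i (i + 1)).hom) :=
    F.cyclesIsoSc' (i - 1) i (i + 1) (by simp) (by simp) ≪≫
      (F.sc' (i - 1) i (i + 1)).moduleCatCyclesIso
  exact Module.Flat.of_linearEquiv e.symm.toLinearEquiv

theorem acyclic_tensor (F : CochainComplex (ModuleCat.{u} A) ℤ)
    (hF : ∀ i, Module.Flat A (F.X i)) (hb : ∃ b : ℤ, ∀ i, b < i → IsZero (F.X i))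
    (hac : ∀ p, IsZero (F.homology p)) (M : ModuleCat.{u} A) (i : ℤ) :
    IsZero ((((MonoidalCategory.tensorRight M).mapHomologicalComplex
      (ComplexShape.up ℤ)).obj F).homology i) := by
  rw [← HomologicalComplex.exactAt_iff_isZero_homology,
    HomologicalComplex.exactAt_iff' _ (i - 1) i (i + 1) (by simp) (by simp),
    ShortComplex.moduleCat_exact_iff_range_eq_ker]
  show LinearMap.range ((F.d (i - 1) i).hom.rTensor M) =
    LinearMap.ker ((F.d i (i + 1)).hom.rTensor M)
  apply range_rTensor_eq_ker M _ _ (range_eq_ker F hac (i - 1) i (i + 1) (by lia) rfl)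
    (LinearMap.ker (F.d (i + 1) (i + 1 + 1)).hom) (range_eq_ker F hac i (i + 1) (i + 1 + 1) rfl rfl)
  rw [← LinearMap.lTensor_inj_iff_rTensor_inj]
  haveI := flat_ker F hF hb hac (i + 1 + 1)
  have hrk := range_eq_ker F hac (i + 1) (i + 1 + 1) (i + 1 + 1 + 1) rfl rfl
  let fbar : F.X (i + 1) →ₗ[A] LinearMap.ker (F.d (i + 1 + 1) (i + 1 + 1 + 1)).hom :=
    (F.d (i + 1) (i + 1 + 1)).hom.codRestrict _
      (fun x => by rw [← hrk]; exact LinearMap.mem_range_self _ x)
  have hsurj : Function.Surjective fbar := by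
    rw [← LinearMap.range_eq_top, LinearMap.range_codRestrict, hrk,
      Submodule.comap_subtype_self]
  have hker : LinearMap.ker fbar = LinearMap.ker (F.d (i + 1) (i + 1 + 1)).hom :=
    LinearMap.ker_codRestrict _ _ _
  have hex2 : Function.Exact (LinearMap.ker (F.d (i + 1) (i + 1 + 1)).hom).subtype fbar := by
    rw [LinearMap.exact_iff, hker, Submodule.range_subtype]
  exact LinearMap.lTensor_injective_of_exact_of_flat fbar hsurj
    (LinearMap.ker (F.d (i + 1) (i + 1 + 1)).hom).subtype (Submodule.injective_subtype _) hex2 M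

theorem acyclic_cone_of_quasiIso {K L : CochainComplex (ModuleCat.{u} A) ℤ} (φ : K ⟶ L)
    [QuasiIso φ] (n : ℤ) : IsZero ((mappingCone φ).homology n) := by
  letI : HasDerivedCategory (ModuleCat.{u} A) := HasDerivedCategory.standard _
  have hT := DerivedCategory.mappingCone_triangle_distinguished φ
  have e3 := CochainComplex.homologyMap_exact₃_of_distTriang (mappingCone.triangle φ) hT n (n + 1) rfl
  have h0 := CochainComplex.homologyMap_comp_eq_zero_of_distTriang (mappingCone.triangle φ) hT n
  have h0' := CochainComplex.homologyδOfTriangle_homologyMap (mappingCone.triangle φ) hT n (n + 1) rfl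
  have hf0 : HomologicalComplex.homologyMap (mappingCone.inr φ) n = 0 :=
    (cancel_epi (HomologicalComplex.homologyMap φ n)).mp (by refine Eq.trans h0 ?_; exact comp_zero.symm)
  have hg0 : CochainComplex.homologyδOfTriangle (mappingCone.triangle φ) n (n + 1) rfl = 0 :=
    (cancel_mono (HomologicalComplex.homologyMap φ (n + 1))).mp (by refine Eq.trans h0' ?_; exact zero_comp.symm)
  exact e3.isZero_of_both_zeros hf0 hg0

theorem quasiIso_of_acyclic_cone {K L : CochainComplex (ModuleCat.{u} A) ℤ} (φ : K ⟶ L)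
    (h : ∀ n, IsZero ((mappingCone φ).homology n)) : QuasiIso φ := by
  letI : HasDerivedCategory (ModuleCat.{u} A) := HasDerivedCategory.standard _
  have hT := DerivedCategory.mappingCone_triangle_distinguished φ
  refine ⟨fun n => ?_⟩
  rw [quasiIsoAt_iff_isIso_homologyMap]
  have e1 := CochainComplex.homologyMap_exact₁_of_distTriang (mappingCone.triangle φ) hT (n - 1) n (by lia)
  have e2 := CochainComplex.homologyMap_exact₂_of_distTriang (mappingCone.triangle φ) hT n
  haveI : Mono (HomologicalComplex.homologyMap φ n) := e1.mono_g ((h (n - 1)).eq_of_src _ _)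
  haveI : Epi (HomologicalComplex.homologyMap φ n) := e2.epi_f ((h n).eq_of_tgt _ _)
  exact isIso_of_mono_of_epi _

theorem main (C D : CochainComplex (ModuleCat.{u} A) ℤ)
    (hC : ∀ i, Module.Flat A (C.X i)) (hD : ∀ i, Module.Flat A (D.X i))
    (bC : ∃ b : ℤ, ∀ i, b < i → IsZero (C.X i)) (bD : ∃ b : ℤ, ∀ i, b < i → IsZero (D.X i))
    (φ : C ⟶ D) [QuasiIso φ] (M : ModuleCat.{u} A) :
    QuasiIso (((MonoidalCategory.tensorRight M).mapHomologicalComplex
      (ComplexShape.up ℤ)).map φ) := by
  have h1 : ∀ n, IsZero ((mappingCone φ).homology n) := acyclic_cone_of_quasiIso φ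
  have hflat : ∀ i, Module.Flat A ((mappingCone φ).X i) := by
    intro i
    haveI := hC (i + 1)
    haveI := hD i
    refine flat_of_split ((mappingCone.fst φ).1.v i (i + 1) rfl).hom
      ((mappingCone.snd φ).v i i (add_zero i)).hom
      ((mappingCone.inl φ).v (i + 1) i (by lia)).hom ((mappingCone.inr φ).f i).hom ?_
    have h := congrArg ModuleCat.Hom.hom (mappingCone.id_X φ i (i + 1) rfl)
    rw [ModuleCat.hom_add, ModuleCat.hom_comp, ModuleCat.hom_comp, ModuleCat.hom_id] at h
    exact h
  have hbdd : ∃ b : ℤ, ∀ i, b < i → IsZero ((mappingCone φ).X i) := by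
    obtain ⟨b1, hb1⟩ := bC
    obtain ⟨b2, hb2⟩ := bD
    refine ⟨max b1 b2, fun i hi => (mappingCone.isZero_X_iff φ i).mpr ⟨hb1 (i + 1) ?_, hb2 i ?_⟩⟩
    · have := lt_of_le_of_lt (le_max_left b1 b2) hi
      lia
    · exact lt_of_le_of_lt (le_max_right b1 b2) hi
  have h2 := fun n => acyclic_tensor (mappingCone φ) hflat hbdd h1 M n
  have h3 : ∀ n, IsZero ((mappingCone (((MonoidalCategory.tensorRight M).mapHomologicalComplex
      (ComplexShape.up ℤ)).map φ)).homology n) := fun n =>
    IsZero.of_iso (h2 n) ((HomologicalComplex.homologyFunctor _ _ n).mapIso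
      (mappingCone.mapHomologicalComplexIso φ (MonoidalCategory.tensorRight M)).symm)
  exact quasiIso_of_acyclic_cone _ h3

end complexes

end Groth.Agent.Lib.FlatQIsoH7
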