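import Mathlib

open TensorProduct

namespace Groth.Agent.Lib.FlatRegular2

universe u v w

variable {A : Type u} [CommRing A] (f : A)

section quot
variable (X : Type w) [AddCommGroup X] [Module A X]

lemma q1 (z : (A ⧸ Ideal.span {f}) ⊗[A] X) : ∃ x : X, z = (1 : A ⧸ Ideal.span {f}) ⊗ₜ[A] x := by
  obtain ⟨x, hx⟩ := Submodule.Quotient.mk_surjective _
    (TensorProduct.quotTensorEquivQuotSMul X (Ideal.span {f}) z)
  refine ⟨x, ?_⟩
  apply (TensorProduct.quotTensorEquivQuotSMul X (Ideal.span {f})).injective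
  rw [TensorProduct.quotTensorEquivQuotSMul_mk_one_tmul, hx]

lemma q2 (x : X) : ((1 : A ⧸ Ideal.span {f}) ⊗ₜ[A] x = 0) ↔ ∃ x' : X, x = f • x' := by
  rw [← (TensorProduct.quotTensorEquivQuotSMul X (Ideal.span {f})).map_eq_zero_iff,
    TensorProduct.quotTensorEquivQuotSMul_mk_one_tmul, Submodule.Quotient.mk_eq_zero,
    Submodule.ideal_span_singleton_smul, Submodule.mem_smul_pointwise_iff_exists]
  constructor
  · rintro ⟨b, -, hb⟩; exact ⟨b, hb.symm⟩
  · rintro ⟨b, hb⟩; exact ⟨b, Submodule.mem_top, hb.symm⟩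

end quot

variable (M : Type v) [AddCommGroup M] [Module A M]

/-- naturality of `distribBaseChange` in the second variable -/
lemma distrib_nat (Q : Type u) [CommRing Q] [Algebra A Q] {K L : Type u} [AddCommGroup K]
    [Module A K] [AddCommGroup L] [Module A L] (i : K →ₗ[A] L) (z : Q ⊗[A] (M ⊗[A] K)) :
    (TensorProduct.AlgebraTensorModule.distribBaseChange A Q M L) (((i.lTensor M).lTensor Q) z) =
      ((i.baseChange Q).lTensor (Q ⊗[A] M))
        ((TensorProduct.AlgebraTensorModule.distribBaseChange A Q M K) z) := by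
  induction z using TensorProduct.induction_on with
  | zero => simp
  | add x y hx hy => rw [map_add, map_add, map_add, map_add, hx, hy]
  | tmul a x =>
    induction x using TensorProduct.induction_on with
    | zero => simp
    | add x y hx hy =>
      rw [TensorProduct.tmul_add, map_add, map_add, map_add, map_add, hx, hy]
    | tmul m q =>
      simp

section claim1
variable (N : Type u) [AddCommGroup N] [Module A N]

lemma hc_lemma (hM : IsSMulRegular M f) (y : M ⊗[A] (N →₀ A)) (hy : f • y = 0) : y = 0 := by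
  have hinj : Function.Injective ((LinearMap.lsmul A M f).rTensor (N →₀ A)) :=
    Module.Flat.rTensor_preserves_injective_linearMap _ hM
  have h1 : ∀ y : M ⊗[A] (N →₀ A), (LinearMap.lsmul A M f).rTensor (N →₀ A) y = f • y := by
    intro y
    induction y using TensorProduct.induction_on with
    | zero => simp
    | add a b ha hb => rw [map_add, ha, hb, smul_add]
    | tmul m l => rw [LinearMap.rTensor_tmul, LinearMap.lsmul_apply, TensorProduct.smul_tmul']
  apply hinj
  rw [h1, hy, map_zero]

lemma ha_lemma {K L : Type u} [AddCommGroup K] [Module A K] [AddCommGroup L] [Module A L]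
    (i : K →ₗ[A] L) (π : L →ₗ[A] N) (hi : Function.Injective i) (hex : Function.Exact i π)
    (hN : ∀ n : N, f • n = 0 → n = 0) :
    Function.Injective (i.baseChange (A ⧸ Ideal.span {f})) := by
  rw [injective_iff_map_eq_zero]
  intro z hz
  obtain ⟨k, rfl⟩ := q1 f _ z
  rw [LinearMap.baseChange_tmul] at hz
  obtain ⟨l, hl⟩ := (q2 f _ (i k)).mp hz
  have h1 : f • π l = 0 := by
    rw [← map_smul, ← hl]; exact (hex (i k)).mpr ⟨k, rfl⟩
  have h2 : π l = 0 := hN _ h1
  obtain ⟨k', hk'⟩ := (hex l).mp h2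
  have h3 : k = f • k' := by
    apply hi
    rw [map_smul, hk', hl]
  exact (q2 f _ k).mpr ⟨k', h3⟩

lemma hb_lemma [Module.Flat (A ⧸ Ideal.span {f}) ((A ⧸ Ideal.span {f}) ⊗[A] M)]
    {K L : Type u} [AddCommGroup K] [Module A K] [AddCommGroup L] [Module A L]
    (i : K →ₗ[A] L) (ha : Function.Injective (i.baseChange (A ⧸ Ideal.span {f}))) :
    Function.Injective ((i.lTensor M).lTensor (A ⧸ Ideal.span {f})) := by
  have h1 : Function.Injective ((i.baseChange (A ⧸ Ideal.span {f})).lTensor
      ((A ⧸ Ideal.span {f}) ⊗[A] M)) :=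
    Module.Flat.lTensor_preserves_injective_linearMap _ ha
  intro z w hzw
  apply (TensorProduct.AlgebraTensorModule.distribBaseChange A (A ⧸ Ideal.span {f}) M K).injective
  apply h1
  rw [← distrib_nat, ← distrib_nat, hzw]

/-- abstract chase -/
lemma chase {K L : Type u} [AddCommGroup K] [Module A K] [AddCommGroup L] [Module A L]
    (i : K →ₗ[A] L) (π : L →ₗ[A] N)
    (hexT : Function.Exact (i.lTensor M) (π.lTensor M))
    (hπT : Function.Surjective (π.lTensor M))
    (hc : ∀ y : M ⊗[A] L, f • y = 0 → y = 0)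
    (hb : Function.Injective ((i.lTensor M).lTensor (A ⧸ Ideal.span {f})))
    (x : M ⊗[A] N) (hx : f • x = 0) : x = 0 := by
  obtain ⟨y, rfl⟩ := hπT x
  have h1 : (π.lTensor M) (f • y) = 0 := by rw [map_smul, hx]
  obtain ⟨w, hw⟩ := (hexT (f • y)).mp h1
  have h2 : ((i.lTensor M).lTensor (A ⧸ Ideal.span {f})) ((1 : A ⧸ Ideal.span {f}) ⊗ₜ[A] w) = 0 := by
    rw [LinearMap.lTensor_tmul, hw]
    exact (q2 f _ (f • y)).mpr ⟨y, rfl⟩
  have h3 : (1 : A ⧸ Ideal.span {f}) ⊗ₜ[A] w = 0 := hb (by rw [h2, map_zero])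
  obtain ⟨w', hw'⟩ := (q2 f _ w).mp h3
  have h4 : f • (y - (i.lTensor M) w') = 0 := by
    rw [smul_sub, ← map_smul, ← hw', hw, sub_self]
  have h5 : y = (i.lTensor M) w' := sub_eq_zero.mp (hc _ h4)
  rw [h5]
  exact (hexT _).mpr ⟨w', rfl⟩

/-- Claim 1 (abstract presentation). -/
theorem torsionFree_tensor_aux (hM : IsSMulRegular M f)
    [Module.Flat (A ⧸ Ideal.span {f}) ((A ⧸ Ideal.span {f}) ⊗[A] M)]
    (hN : ∀ n : N, f • n = 0 → n = 0)
    {K : Type u} [AddCommGroup K] [Module A K]
    (i : K →ₗ[A] (N →₀ A)) (π : (N →₀ A) →ₗ[A] N)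
    (hi : Function.Injective i) (hex : Function.Exact i π) (hπ : Function.Surjective π)
    (x : M ⊗[A] N) (hx : f • x = 0) : x = 0 := by
  have hexT : Function.Exact (i.lTensor M) (π.lTensor M) := lTensor_exact M hex hπ
  have hπT : Function.Surjective (π.lTensor M) := LinearMap.lTensor_surjective M hπ
  have ha := ha_lemma f N i π hi hex hN
  have hb := hb_lemma f M i ha
  exact chase f M N i π hexT hπT (hc_lemma f M N hM) hb x hx

/-- Claim 1: `M ⊗ N` is `f`-torsion-free if `N` and `M` are, and `M/fM` is flat over `A/f`. -/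
theorem torsionFree_tensor (hM : IsSMulRegular M f)
    [Module.Flat (A ⧸ Ideal.span {f}) ((A ⧸ Ideal.span {f}) ⊗[A] M)]
    (hN : ∀ n : N, f • n = 0 → n = 0)
    (x : M ⊗[A] N) (hx : f • x = 0) : x = 0 := by
  obtain ⟨π, hπ⟩ : ∃ π : (N →₀ A) →ₗ[A] N, Function.Surjective π :=
    ⟨_, Finsupp.linearCombination_id_surjective A N⟩
  have hi : Function.Injective (LinearMap.ker π).subtype := Subtype.val_injective
  have hex : Function.Exact (LinearMap.ker π).subtype π := by
    intro v
    constructor
    · intro hv; exact ⟨⟨v, hv⟩, rfl⟩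
    · rintro ⟨k, rfl⟩; exact k.2
  exact torsionFree_tensor_aux f M N hM hN (K := ↥(LinearMap.ker π))
    (i := (LinearMap.ker π).subtype) (π := π) hi hex hπ x hx

end claim1

/-- Claim 2 -/
theorem exists_pow_smul_eq_zero
    {M' : Type w} [AddCommGroup M'] [Module A M'] (g : M →ₗ[A] M')
    [IsLocalizedModule (Submonoid.powers f) g] [Module.Flat A M']
    {N' N : Type u} [AddCommGroup N'] [Module A N'] [AddCommGroup N] [Module A N]
    (j : N' →ₗ[A] N) (hj : Function.Injective j) (z : M ⊗[A] N') (hz : (j.lTensor M) z = 0) :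
    ∃ k : ℕ, f ^ k • z = 0 := by
  have hinj : Function.Injective (j.lTensor M') :=
    Module.Flat.lTensor_preserves_injective_linearMap _ hj
  have h1 : (j.lTensor M') ((g.rTensor N') z) =
      (g.rTensor N) ((j.lTensor M) z) := by
    rw [← LinearMap.comp_apply, ← LinearMap.comp_apply, LinearMap.lTensor_comp_rTensor,
      LinearMap.rTensor_comp_lTensor]
  have h2 : (g.rTensor N') z = 0 := by
    apply hinj
    rw [h1, hz, map_zero, map_zero]
  have h3 : (TensorProduct.AlgebraTensorModule.rTensor A N' g) z = 0 := h2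
  obtain ⟨s, hs⟩ := (IsLocalizedModule.eq_zero_iff (Submonoid.powers f)
    (TensorProduct.AlgebraTensorModule.rTensor A N' g)).mp h3
  obtain ⟨s, k, rfl⟩ := s
  exact ⟨k, hs⟩

theorem main (hA : f ∈ nonZeroDivisors A) (hM : IsSMulRegular M f)
    {M' : Type w} [AddCommGroup M'] [Module A M'] (g : M →ₗ[A] M')
    [IsLocalizedModule (Submonoid.powers f) g] [Module.Flat A M']
    [Module.Flat (A ⧸ Ideal.span {f}) ((A ⧸ Ideal.span {f}) ⊗[A] M)] : Module.Flat A M := by
  rw [Module.Flat.iff_lTensor_injective']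
  intro I
  rw [injective_iff_map_eq_zero]
  intro z hz
  obtain ⟨k, hk⟩ := exists_pow_smul_eq_zero f M g I.subtype Subtype.val_injective z hz
  have hI : ∀ n : I, f • n = 0 → n = 0 := by
    intro n hn
    have h1 : f * (n : A) = 0 := by
      have := congrArg Subtype.val hn
      simpa using this
    exact Subtype.ext ((mul_left_mem_nonZeroDivisors_eq_zero_iff hA).mp h1)
  induction k with
  | zero => simpa using hk
  | succ k ih =>
    apply ih
    apply torsionFree_tensor f M I hM hI
    rw [← mul_smul, ← pow_succ']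
    exact hk

theorem iff_main (hA : f ∈ nonZeroDivisors A) :
    Module.Flat A M ↔
      (∀ (x : M) (n : ℕ), f ^ n • x = 0 → x = 0) ∧
        Module.Flat (A ⧸ Ideal.span {f}) ((A ⧸ Ideal.span {f}) ⊗[A] M) ∧
        Module.Flat (Localization.Away f) ((Localization.Away f) ⊗[A] M) := by
  constructor
  · intro hflat
    refine ⟨?_, inferInstance, inferInstance⟩
    intro x n hx
    have h1 : IsSMulRegular M (f ^ n) :=
      Module.Flat.isSMulRegular_of_nonZeroDivisors (pow_mem hA n)
    apply h1
    show f ^ n • x = f ^ n • (0 : M)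
    rw [hx, smul_zero]
  · rintro ⟨h1, h2, h3⟩
    have hM : IsSMulRegular M f := by
      intro x y hxy
      have : f ^ 1 • (x - y) = 0 := by
        rw [pow_one, smul_sub]; exact sub_eq_zero.mpr hxy
      exact sub_eq_zero.mp (h1 _ 1 this)
    haveI : Module.Flat A ((Localization.Away f) ⊗[A] M) :=
      Module.Flat.trans A (Localization.Away f) _
    haveI : IsLocalizedModule (Submonoid.powers f)
        (TensorProduct.mk A (Localization.Away f) M 1) :=
      (isLocalizedModule_iff_isBaseChange (Submonoid.powers f) (Localization.Away f) _).mpr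
        (TensorProduct.isBaseChange A M (Localization.Away f))
    exact main f M hA hM (TensorProduct.mk A (Localization.Away f) M 1)

end Groth.Agent.Lib.FlatRegular2
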