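import Mathlib
import Groth.Agent.Lib.LocalCrit3_helper9

/-!
# Flatness in a square of local rings (helper4)

* `lTensor_tensor_injective`: if `M` is an `S`-module flat over `R` and `P` is a flat `S`-module,
  then `(P ⊗[S] M) ⊗[R] -` preserves injections.
* `flat_square`: `R → R'`, `S → S'`, `m_R R' = m_{R'}`, `S'` flat over `S`, `M` finite over `S` and
  flat over `R` ⇒ `S' ⊗[S] M` flat over `R'` (local criterion via helper9's `LocalCrit3`).
-/

set_option autoImplicit false

namespace Groth.Agent.Lib.FlatSqH4

open TensorProduct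

universe u

section general

variable {R S : Type*} [CommRing R] [CommRing S] [Algebra R S]
  (P : Type*) [AddCommGroup P] [Module S P] [Module R P] [IsScalarTower R S P] [Module.Flat S P]
  (M : Type*) [AddCommGroup M] [Module S M] [Module R M] [IsScalarTower R S M] [Module.Flat R M]

theorem lTensor_tensor_injective {N₁ N₂ : Type*} [AddCommGroup N₁] [Module R N₁]
    [AddCommGroup N₂] [Module R N₂] (i : N₁ →ₗ[R] N₂) (hi : Function.Injective i) :
    Function.Injective (i.lTensor (P ⊗[S] M)) := by
  have h1 : Function.Injective (AlgebraTensorModule.lTensor S M i) := by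
    rw [AlgebraTensorModule.coe_lTensor]
    exact Module.Flat.lTensor_preserves_injective_linearMap i hi
  have h2 := Module.Flat.lTensor_preserves_injective_linearMap (M := P)
    (AlgebraTensorModule.lTensor S M i) h1
  have nat : ∀ x, AlgebraTensorModule.assoc R S S P M N₂ (i.lTensor (P ⊗[S] M) x) =
      (AlgebraTensorModule.lTensor S M i).lTensor P
        (AlgebraTensorModule.assoc R S S P M N₁ x) := by
    intro x
    induction x using TensorProduct.induction_on with
    | zero => simp
    | tmul y n =>
      induction y using TensorProduct.induction_on with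
      | zero => simp
      | tmul p m => simp
      | add y z hy hz => simp only [add_tmul, map_add, hy, hz]
    | add x y hx hy => simp only [map_add, hx, hy]
  intro x y hxy
  apply (AlgebraTensorModule.assoc R S S P M N₁).injective
  apply h2
  rw [← nat, ← nat, hxy]

theorem rTensor_tensor_injective {N₁ N₂ : Type*} [AddCommGroup N₁] [Module R N₁]
    [AddCommGroup N₂] [Module R N₂] (i : N₁ →ₗ[R] N₂) (hi : Function.Injective i) :
    Function.Injective (i.rTensor (P ⊗[S] M)) := by
  rw [← LinearMap.lTensor_inj_iff_rTensor_inj]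
  exact lTensor_tensor_injective P M i hi

end general

section square

variable {R R' : Type*} [CommRing R] [CommRing R'] [Algebra R R']
  (m : Ideal R) (m' : Ideal R') (hm : m.map (algebraMap R R') = m')
  (T : Type*) [AddCommGroup T] [Module R T] [Module R' T] [IsScalarTower R R' T]

include hm in
/-- If `m' = m R'` and `m ⊗[R] T → R ⊗[R] T` is injective, then so is `m' ⊗[R'] T → R' ⊗[R'] T`. -/
theorem rTensor_subtype_injective_of_map_eq
    (h : Function.Injective (m.subtype.rTensor T)) :
    Function.Injective (m'.subtype.rTensor T) := by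
  classical
  have hmem : ∀ a : m, algebraMap R R' a ∈ m' := fun a => by
    rw [← hm]; exact Ideal.mem_map_of_mem _ a.2
  let ι : m →+ m' :=
    { toFun := fun a => ⟨algebraMap R R' a, hmem a⟩
      map_zero' := Subtype.ext (by simp)
      map_add' := fun a b => Subtype.ext (by simp) }
  have hι : ∀ (r : R) (a : m), ι (r • a) = (algebraMap R R' r) • ι a := fun r a =>
    Subtype.ext (by simp [ι, Algebra.smul_def])
  let f : m →+ T →+ (m' ⊗[R'] T) :=
    { toFun := fun a => ((TensorProduct.mk R' m' T) (ι a)).toAddMonoidHom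
      map_zero' := by
        ext t
        simp
      map_add' := fun a b => by
        ext t
        simp [add_tmul] }
  have hf : ∀ (r : R) (a : m) (t : T), f (r • a) t = f a (r • t) := by
    intro r a t
    show (ι (r • a)) ⊗ₜ[R'] t = (ι a) ⊗ₜ[R'] (r • t)
    rw [hι, TensorProduct.smul_tmul, algebraMap_smul]
  let ψ : m ⊗[R] T →+ m' ⊗[R'] T := TensorProduct.liftAddHom f hf
  have hψ : ∀ (a : m) (t : T), ψ (a ⊗ₜ[R] t) = (ι a) ⊗ₜ[R'] t := fun a t => rfl
  -- compatibility with `lid`
  have compat : ∀ w : m ⊗[R] T,
      TensorProduct.lid R' T (m'.subtype.rTensor T (ψ w)) =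
        TensorProduct.lid R T (m.subtype.rTensor T w) := by
    intro w
    induction w using TensorProduct.induction_on with
    | zero => simp
    | tmul a t =>
      rw [hψ, LinearMap.rTensor_tmul, LinearMap.rTensor_tmul, TensorProduct.lid_tmul,
        TensorProduct.lid_tmul]
      show (algebraMap R R' a) • t = (a : R) • t
      rw [algebraMap_smul]
    | add x y hx hy => simp only [map_add, hx, hy]
  -- surjectivity of ψ
  have surj_aux : ∀ (x : R') (_ : x ∈ Submodule.span R' ((algebraMap R R') '' (m : Set R)))
      (hx' : x ∈ m') (t : T), ∃ w, ψ w = (⟨x, hx'⟩ : m') ⊗ₜ[R'] t := by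
    intro x hx
    induction hx using Submodule.span_induction with
    | mem x hxs =>
      intro hx' t
      obtain ⟨a, ha, rfl⟩ := hxs
      exact ⟨(⟨a, ha⟩ : m) ⊗ₜ[R] t, rfl⟩
    | zero =>
      intro hx' t
      refine ⟨0, ?_⟩
      have : (⟨0, hx'⟩ : m') = 0 := rfl
      rw [this, zero_tmul, map_zero]
    | add x y hx hy ihx ihy =>
      intro hx' t
      have hxm : x ∈ m' := by rw [← hm]; exact hx
      have hym : y ∈ m' := by rw [← hm]; exact hy
      obtain ⟨w1, h1⟩ := ihx hxm t
      obtain ⟨w2, h2⟩ := ihy hym t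
      refine ⟨w1 + w2, ?_⟩
      have : (⟨x + y, hx'⟩ : m') = ⟨x, hxm⟩ + ⟨y, hym⟩ := rfl
      rw [map_add, h1, h2, this, add_tmul]
    | smul r x hx ihx =>
      intro hx' t
      have hxm : x ∈ m' := by rw [← hm]; exact hx
      obtain ⟨w, hw⟩ := ihx hxm (r • t)
      refine ⟨w, ?_⟩
      have : (⟨r • x, hx'⟩ : m') = r • ⟨x, hxm⟩ := rfl
      rw [hw, this, TensorProduct.smul_tmul]
  have surj : ∀ z : m' ⊗[R'] T, ∃ w, ψ w = z := by
    intro z
    induction z using TensorProduct.induction_on with
    | zero => exact ⟨0, map_zero _⟩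
    | tmul b t =>
      obtain ⟨b, hb⟩ := b
      have hb' : b ∈ Submodule.span R' ((algebraMap R R') '' (m : Set R)) := by
        have := hb
        rw [← hm] at this
        exact this
      exact surj_aux b hb' hb t
    | add x y hx hy =>
      obtain ⟨w1, h1⟩ := hx
      obtain ⟨w2, h2⟩ := hy
      exact ⟨w1 + w2, by rw [map_add, h1, h2]⟩
  rw [injective_iff_map_eq_zero]
  intro z hz
  obtain ⟨w, rfl⟩ := surj z
  have h1 := compat w
  rw [hz, map_zero] at h1
  have h2 : m.subtype.rTensor T w = 0 :=
    (TensorProduct.lid R T).injective (h1.symm.trans (map_zero _).symm)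
  have h3 : w = 0 := h (h2.trans (map_zero _).symm)
  rw [h3, map_zero]

end square

section main

variable {R S R' S' : Type u} [CommRing R] [CommRing S] [CommRing R'] [CommRing S']
  [IsLocalRing R] [IsLocalRing R'] [IsLocalRing S']
  [Algebra R S] [Algebra R R'] [Algebra S S'] [Algebra R' S'] [Algebra R S']
  [IsScalarTower R S S'] [IsScalarTower R R' S'] [SMulCommClass R' S S']
  [IsLocalHom (algebraMap R' S')] [Module.Flat S S']
  [IsNoetherianRing R'] [IsNoetherianRing S']

theorem flat_square
    (hm : (IsLocalRing.maximalIdeal R).map (algebraMap R R') = IsLocalRing.maximalIdeal R')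
    (M : Type u) [AddCommGroup M] [Module S M] [Module R M] [IsScalarTower R S M]
    [Module.Finite S M] [Module.Flat R M] :
    Module.Flat R' (S' ⊗[S] M) := by
  have hI : (IsLocalRing.maximalIdeal R').map (algebraMap R' S') ≤ Ideal.jacobson ⊥ := by
    rw [IsLocalRing.jacobson_eq_maximalIdeal ⊥ bot_ne_top]
    exact ((IsLocalRing.local_hom_TFAE (algebraMap R' S')).out 0 2).mp ‹IsLocalHom (algebraMap R' S')›
  letI : Field (R' ⧸ IsLocalRing.maximalIdeal R') :=
    Ideal.Quotient.field (IsLocalRing.maximalIdeal R')
  haveI : Module.Flat (R' ⧸ IsLocalRing.maximalIdeal R')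
      ((R' ⧸ IsLocalRing.maximalIdeal R') ⊗[R'] (S' ⊗[S] M)) := inferInstance
  have h0 : Function.Injective ((IsLocalRing.maximalIdeal R).subtype.rTensor (S' ⊗[S] M)) :=
    rTensor_tensor_injective S' M _ (Submodule.injective_subtype _)
  have htor : Function.Injective
      ((IsLocalRing.maximalIdeal R').subtype.rTensor (S' ⊗[S] M)) :=
    rTensor_subtype_injective_of_map_eq _ _ hm (S' ⊗[S] M) h0
  exact Groth.Agent.Lib.LocalCrit3.flat_of_tor_of_flat_quot (IsLocalRing.maximalIdeal R') hI
    (S' ⊗[S] M) htor

end main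

end Groth.Agent.Lib.FlatSqH4
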