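import Mathlib
import Groth.Agent.Lib.FlatStageA_helper8

/-!
# Pushout juggling for stage descent
-/

set_option autoImplicit false
open TensorProduct

namespace Groth.Agent.Lib.FlatStageH8

universe u

section PJ

attribute [local instance] Algebra.TensorProduct.rightAlgebra

variable (R A k k' : Type u) [CommRing R] [CommRing A] [CommRing k] [CommRing k']
  [Algebra R A] [Algebra R k] [Algebra R k'] [Algebra k k'] [IsScalarTower R k k']

/-- the transition map `k ⊗ A → k' ⊗ A`. -/
noncomputable def trans : k ⊗[R] A →ₐ[R] k' ⊗[R] A :=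
  Algebra.TensorProduct.map (IsScalarTower.toAlgHom R k k') (AlgHom.id R A)

@[simp] lemma trans_tmul (x : k) (b : A) : trans R A k k' (x ⊗ₜ b) = algebraMap k k' x ⊗ₜ b := rfl

/-- the algebra structure given by the transition map. -/
@[reducible] noncomputable def transAlgebra : Algebra (k ⊗[R] A) (k' ⊗[R] A) :=
  (trans R A k k').toRingHom.toAlgebra

attribute [local instance] transAlgebra

lemma transAlgebra_algebraMap (x : k ⊗[R] A) :
    algebraMap (k ⊗[R] A) (k' ⊗[R] A) x = trans R A k k' x := rfl

theorem tower_k : IsScalarTower k (k ⊗[R] A) (k' ⊗[R] A) :=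
  IsScalarTower.of_algebraMap_eq (fun x => by
    rw [transAlgebra_algebraMap, Algebra.TensorProduct.algebraMap_apply,
      Algebra.TensorProduct.algebraMap_apply, trans_tmul, Algebra.algebraMap_self,
      RingHom.id_apply])

theorem tower_A : IsScalarTower A (k ⊗[R] A) (k' ⊗[R] A) :=
  IsScalarTower.of_algebraMap_eq (fun x => by
    rw [transAlgebra_algebraMap]
    show (1 : k') ⊗ₜ[R] x = trans R A k k' ((1 : k) ⊗ₜ[R] x)
    rw [trans_tmul, map_one])

theorem tower_R : IsScalarTower R (k ⊗[R] A) (k' ⊗[R] A) :=
  IsScalarTower.of_algebraMap_eq (fun x => by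
    rw [transAlgebra_algebraMap, AlgHom.commutes])

attribute [local instance] tower_k tower_A tower_R

/-- `k' ⊗ A` is the pushout of `k ⊗ A` along `k → k'`. -/
theorem isPushout_trans : Algebra.IsPushout k k' (k ⊗[R] A) (k' ⊗[R] A) :=
  (Algebra.IsPushout.comp_iff R k A (k ⊗[R] A) (T := k') (T' := k' ⊗[R] A)).mp inferInstance

end PJ

end Groth.Agent.Lib.FlatStageH8

namespace Groth.Agent.Lib.FlatStageH8

universe u

section PO

variable {k k' Ak Ak' : Type u} [CommRing k] [CommRing k'] [CommRing Ak] [CommRing Ak']
  [Algebra k k'] [Algebra k Ak] [Algebra k' Ak'] [Algebra Ak Ak'] [Algebra k Ak']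
  [IsScalarTower k k' Ak'] [IsScalarTower k Ak Ak']
  (a : Ak)

lemma isUnit_away_map :
    IsUnit (algebraMap Ak (Localization.Away (algebraMap Ak Ak' a)) a) := by
  rw [IsScalarTower.algebraMap_apply Ak Ak' (Localization.Away (algebraMap Ak Ak' a))]
  exact IsLocalization.Away.algebraMap_isUnit (algebraMap Ak Ak' a)

/-- the induced map `(A_k)_a → (A_k')_{a'}`. -/
@[reducible] noncomputable def awayAlgebra :
    Algebra (Localization.Away a) (Localization.Away (algebraMap Ak Ak' a)) :=
  (IsLocalization.Away.lift a (isUnit_away_map a)).toAlgebra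

attribute [local instance] awayAlgebra

theorem away_tower_Ak :
    IsScalarTower Ak (Localization.Away a) (Localization.Away (algebraMap Ak Ak' a)) :=
  IsScalarTower.of_algebraMap_eq (fun x =>
    (IsLocalization.Away.lift_eq a (isUnit_away_map a) x).symm)

attribute [local instance] away_tower_Ak

theorem away_tower_k (B : Type u) [CommRing B] [Algebra B Ak] [Algebra B Ak']
    [IsScalarTower B Ak Ak'] :
    IsScalarTower B (Localization.Away a) (Localization.Away (algebraMap Ak Ak' a)) :=
  IsScalarTower.of_algebraMap_eq (fun x => by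
    rw [IsScalarTower.algebraMap_apply B Ak (Localization.Away a),
      ← IsScalarTower.algebraMap_apply Ak (Localization.Away a)
        (Localization.Away (algebraMap Ak Ak' a)),
      IsScalarTower.algebraMap_apply Ak Ak' (Localization.Away (algebraMap Ak Ak' a)),
      ← IsScalarTower.algebraMap_apply B Ak Ak',
      ← IsScalarTower.algebraMap_apply B Ak' (Localization.Away (algebraMap Ak Ak' a))])

attribute [local instance] away_tower_k

theorem isPushout_away [Algebra.IsPushout k k' Ak Ak'] :
    Algebra.IsPushout k k' (Localization.Away a) (Localization.Away (algebraMap Ak Ak' a)) := by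
  haveI : Algebra.IsPushout k Ak k' Ak' := Algebra.IsPushout.symm inferInstance
  have hloc : IsLocalization (Algebra.algebraMapSubmonoid Ak' (Submonoid.powers a))
      (Localization.Away (algebraMap Ak Ak' a)) := by
    have : Algebra.algebraMapSubmonoid Ak' (Submonoid.powers a) =
        Submonoid.powers (algebraMap Ak Ak' a) := by
      rw [Algebra.algebraMapSubmonoid, Submonoid.map_powers]
    rw [this]
    infer_instance
  have h1 : Algebra.IsPushout Ak Ak' (Localization.Away a)
      (Localization.Away (algebraMap Ak Ak' a)) :=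
    (Algebra.isLocalization_iff_isPushout (Submonoid.powers a) (Localization.Away a)).mp hloc
  have h2 : Algebra.IsPushout k (Localization.Away a) k'
      (Localization.Away (algebraMap Ak Ak' a)) :=
    (Algebra.IsPushout.comp_iff k Ak k' Ak' (T := Localization.Away a)
      (T' := Localization.Away (algebraMap Ak Ak' a))).mpr h1.symm
  exact h2.symm

section CMP

variable [Algebra.IsPushout k k' Ak Ak']
  {A : Type u} [CommRing A] [Algebra A Ak] [Algebra A Ak'] [IsScalarTower A Ak Ak']
  (N : Type u) [AddCommGroup N] [Module A N]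

/-- comparison of the localized modules at two levels. -/
theorem flat_stage_iff :
    Module.Flat k' (k' ⊗[k] (Localization.Away a ⊗[A] N)) ↔
      Module.Flat k' (LocalizedModule (Submonoid.powers (algebraMap Ak Ak' a)) (Ak' ⊗[A] N)) := by
  haveI := isPushout_away (k := k) (k' := k') (Ak' := Ak') a
  have e1 : Localization.Away (algebraMap Ak Ak' a) ⊗[Localization.Away a]
      (Localization.Away a ⊗[A] N) ≃ₗ[k'] k' ⊗[k] (Localization.Away a ⊗[A] N) :=
    Algebra.IsPushout.cancelBaseChange k k' (Localization.Away a)
      (Localization.Away (algebraMap Ak Ak' a)) (Localization.Away a ⊗[A] N)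
  have e2 : Localization.Away (algebraMap Ak Ak' a) ⊗[Localization.Away a]
      (Localization.Away a ⊗[A] N) ≃ₗ[k'] Localization.Away (algebraMap Ak Ak' a) ⊗[A] N :=
    (AlgebraTensorModule.cancelBaseChange A (Localization.Away a)
      (Localization.Away (algebraMap Ak Ak' a)) (Localization.Away (algebraMap Ak Ak' a))
      N).restrictScalars k'
  have e3 : Localization.Away (algebraMap Ak Ak' a) ⊗[Ak'] (Ak' ⊗[A] N) ≃ₗ[k']
      Localization.Away (algebraMap Ak Ak' a) ⊗[A] N :=
    (AlgebraTensorModule.cancelBaseChange A Ak'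
      (Localization.Away (algebraMap Ak Ak' a)) (Localization.Away (algebraMap Ak Ak' a))
      N).restrictScalars k'
  have h4 := Groth.Agent.Lib.FlatLocFP1H6.flat_iff_of_isLocalizedModule (A := k') (C := Ak')
    (Submonoid.powers (algebraMap Ak Ak' a))
    (TensorProduct.mk Ak' (Localization.Away (algebraMap Ak Ak' a)) (Ak' ⊗[A] N) 1)
  rw [← h4]
  exact Module.Flat.equiv_iff (e1.symm ≪≫ₗ e2 ≪≫ₗ e3.symm)

end CMP

end PO

end Groth.Agent.Lib.FlatStageH8
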