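import Mathlib
import Groth.Agent.Lib.FlatStageB_helper8

/-!
# The level lemma: flatness at primes of a pushout of a localization
-/

set_option autoImplicit false
open TensorProduct

namespace Groth.Agent.Lib.FlatStageH8

universe u

section Level

attribute [local instance] Algebra.TensorProduct.rightAlgebra

variable {R A S : Type u} [CommRing R] [CommRing A] [CommRing S] [Algebra R A] [Algebra A S]
  [Algebra R S] [IsScalarTower R A S]
  {k Sk : Type u} [CommRing k] [CommRing Sk] [Algebra R k] [Algebra S Sk] [Algebra k Sk]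
  [Algebra R Sk] [IsScalarTower R S Sk] [IsScalarTower R k Sk]

variable (R A S k Sk) in
/-- the canonical map `k ⊗ A → S_k`. -/
noncomputable def levelMap : k ⊗[R] A →ₐ[k] Sk :=
  Algebra.TensorProduct.lift (Algebra.ofId k Sk)
    ((IsScalarTower.toAlgHom R S Sk).comp (IsScalarTower.toAlgHom R A S))
    (fun _ _ => Commute.all _ _)

lemma levelMap_tmul (x : k) (b : A) :
    levelMap R A S k Sk (x ⊗ₜ b) = algebraMap k Sk x * algebraMap S Sk (algebraMap A S b) := rfl

variable (T : Submonoid A) [IsLocalization T S] [Algebra.IsPushout R S k Sk]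
  {N M Mk : Type u} [AddCommGroup N] [Module A N] [AddCommGroup M] [Module S M] [Module A M]
  [IsScalarTower A S M] (fN : N →ₗ[A] M) (hfN : IsBaseChange S fN)
  [AddCommGroup Mk] [Module Sk Mk] [Module k Mk] [IsScalarTower k Sk Mk] [Module S Mk]
  [IsScalarTower S Sk Mk] (fk : M →ₗ[S] Mk) (hfk : IsBaseChange Sk fk)

include hfN hfk in
theorem level_main :
    (∀ (q : Ideal Sk) [q.IsPrime], Module.Flat k (LocalizedModule q.primeCompl Mk) ↔
      Module.Flat k (LocalizedModule (q.comap (levelMap R A S k Sk).toRingHom).primeCompl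
        ((k ⊗[R] A) ⊗[A] N))) ∧
    (∀ (Q : Ideal (k ⊗[R] A)) [Q.IsPrime],
      Disjoint ((T.map (algebraMap A (k ⊗[R] A)) : Submonoid (k ⊗[R] A)) : Set (k ⊗[R] A))
        (Q : Set (k ⊗[R] A)) →
      (Q.map (levelMap R A S k Sk).toRingHom).IsPrime ∧
        (Q.map (levelMap R A S k Sk).toRingHom).comap (levelMap R A S k Sk).toRingHom = Q) := by
  letI algAS : Algebra (k ⊗[R] A) Sk := (levelMap R A S k Sk).toRingHom.toAlgebra
  have halg : ∀ x, algebraMap (k ⊗[R] A) Sk x = levelMap R A S k Sk x := fun _ => rfl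
  letI algA : Algebra A Sk := ((algebraMap S Sk).comp (algebraMap A S)).toAlgebra
  haveI t1 : IsScalarTower A S Sk := IsScalarTower.of_algebraMap_eq (fun _ => rfl)
  haveI t2 : IsScalarTower A (k ⊗[R] A) Sk := IsScalarTower.of_algebraMap_eq (fun x => by
    rw [halg]
    show algebraMap S Sk (algebraMap A S x) = levelMap R A S k Sk ((1 : k) ⊗ₜ x)
    rw [levelMap_tmul, map_one, one_mul])
  haveI t3 : IsScalarTower k (k ⊗[R] A) Sk := IsScalarTower.of_algebraMap_eq (fun x => by
    rw [halg]
    exact ((levelMap R A S k Sk).commutes x).symm)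
  haveI t4 : IsScalarTower R (k ⊗[R] A) Sk := IsScalarTower.of_algebraMap_eq (fun x => by
    rw [halg, IsScalarTower.algebraMap_apply R k (k ⊗[R] A), ← halg,
      ← IsScalarTower.algebraMap_apply k (k ⊗[R] A) Sk, ← IsScalarTower.algebraMap_apply R k Sk])
  have hpush : Algebra.IsPushout A S (k ⊗[R] A) Sk :=
    (Algebra.IsPushout.comp_iff R A k (k ⊗[R] A) (T := S) (T' := Sk)).mp inferInstance
  haveI hloc : IsLocalization (Algebra.algebraMapSubmonoid (k ⊗[R] A) T) Sk :=
    (Algebra.isLocalization_iff_isPushout T S).mpr hpush.symm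
  letI modAk : Module (k ⊗[R] A) Mk := Module.compHom Mk (algebraMap (k ⊗[R] A) Sk)
  haveI t5 : IsScalarTower (k ⊗[R] A) Sk Mk :=
    ⟨fun x y z => by
      show (algebraMap (k ⊗[R] A) Sk x * y) • z = algebraMap (k ⊗[R] A) Sk x • (y • z)
      rw [mul_smul]⟩
  letI modA : Module A Mk := Module.compHom Mk (algebraMap A S)
  haveI t6 : IsScalarTower A S Mk :=
    ⟨fun x y z => by
      rw [Algebra.smul_def, mul_smul]
      rfl⟩
  haveI t7 : IsScalarTower A Sk Mk :=
    ⟨fun x y z => by
      show (algebraMap A Sk x * y) • z = algebraMap A S x • (y • z)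
      rw [mul_smul, ← algebraMap_smul Sk (algebraMap A S x) (y • z)]
      rfl⟩
  haveI t8 : IsScalarTower A (k ⊗[R] A) Mk :=
    ⟨fun x y z => by
      show algebraMap (k ⊗[R] A) Sk (x • y) • z = x • (algebraMap (k ⊗[R] A) Sk y • z)
      rw [Algebra.smul_def, map_mul, mul_smul,
        ← IsScalarTower.algebraMap_apply A (k ⊗[R] A) Sk, algebraMap_smul]⟩
  obtain ⟨f, hf⟩ : ∃ f : (k ⊗[R] A) ⊗[A] N →ₗ[k ⊗[R] A] Mk,
      (f.restrictScalars A).comp (TensorProduct.mk A (k ⊗[R] A) N 1) =
        (fk.restrictScalars A).comp fN :=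
    ⟨(TensorProduct.isBaseChange A N (k ⊗[R] A)).lift ((fk.restrictScalars A).comp fN),
      (TensorProduct.isBaseChange A N (k ⊗[R] A)).lift_comp _⟩
  have hbc : IsBaseChange Sk f := by
    refine IsBaseChange.of_comp (TensorProduct.isBaseChange A N (k ⊗[R] A)) ?_
    rw [hf]
    exact IsBaseChange.comp hfN hfk
  refine ⟨?_, ?_⟩
  · intro q _
    exact flat_localized_iff_of_isLocalization (k := k) (C := k ⊗[R] A) (E := Sk)
      (Algebra.algebraMapSubmonoid (k ⊗[R] A) T) f hbc q
  · intro Q hQ hdisj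
    exact ⟨IsLocalization.isPrime_of_isPrime_disjoint
        (Algebra.algebraMapSubmonoid (k ⊗[R] A) T) Sk Q hQ hdisj,
      IsLocalization.under_map_of_isPrime_disjoint
        (Algebra.algebraMapSubmonoid (k ⊗[R] A) T) Sk hQ hdisj⟩

end Level

end Groth.Agent.Lib.FlatStageH8
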