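import Mathlib
import Groth.Agent.Lib.FlatStageC_helper8

/-!
# Lifting elements along a directed colimit of base rings
-/

set_option autoImplicit false
open TensorProduct

namespace Groth.Agent.Lib.FlatStageH8

universe u

section Colim

attribute [local instance] Algebra.TensorProduct.rightAlgebra

variable {R A : Type u} [CommRing R] [CommRing A] [Algebra R A]
  {ι : Type u} [Preorder ι] [IsDirected ι (· ≤ ·)] [Nonempty ι]
  (G : ι → Type u) [∀ i, CommRing (G i)] [∀ i, Algebra R (G i)]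
  (g : ∀ i j, i ≤ j → G i →+* G j)
  (hgR : ∀ i j (h : i ≤ j), (g i j h).comp (algebraMap R (G i)) = algebraMap R (G j))
  (R' : Type u) [CommRing R'] [Algebra R R'] [∀ i, Algebra (G i) R']
  [∀ i, IsScalarTower R (G i) R']
  (hcompat : ∀ i j (h : i ≤ j), (algebraMap (G j) R').comp (g i j h) = algebraMap (G i) R')
  (hsurj : ∀ a : R', ∃ i, ∃ x : G i, algebraMap (G i) R' x = a)

/-- the transition maps as `R`-algebra maps. -/
def gAlg (i j : ι) (h : i ≤ j) : G i →ₐ[R] G j :=
  { toRingHom := g i j h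
    commutes' := fun r => RingHom.congr_fun (hgR i j h) r }

omit [IsDirected ι (· ≤ ·)] [Nonempty ι] in
@[simp] lemma gAlg_apply (i j : ι) (h : i ≤ j) (x : G i) : gAlg G g hgR i j h x = g i j h x := rfl

variable (A) in
/-- transition maps on `G i ⊗ A`. -/
noncomputable def τ (i j : ι) (h : i ≤ j) : G i ⊗[R] A →ₐ[R] G j ⊗[R] A :=
  Algebra.TensorProduct.map (gAlg G g hgR i j h) (AlgHom.id R A)

omit [IsDirected ι (· ≤ ·)] [Nonempty ι] in
@[simp] lemma τ_tmul (i j : ι) (h : i ≤ j) (x : G i) (b : A) :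
    τ A G g hgR i j h (x ⊗ₜ b) = g i j h x ⊗ₜ b := rfl

include hcompat in
omit [IsDirected ι (· ≤ ·)] [Nonempty ι] in
lemma trans_τ (i j : ι) (h : i ≤ j) (x : G i ⊗[R] A) :
    trans R A (G j) R' (τ A G g hgR i j h x) = trans R A (G i) R' x := by
  have : (trans R A (G j) R').comp (τ A G g hgR i j h) = trans R A (G i) R' := by
    apply Algebra.TensorProduct.ext'
    intro a b
    simp only [AlgHom.comp_apply, τ_tmul, trans_tmul]
    congr 1
    exact congrArg (fun φ => φ a) (hcompat i j h)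
  exact congrArg (fun φ => φ x) this

include hgR hcompat hsurj in
/-- every element of `R' ⊗ A` comes from a stage. -/
theorem exists_lift (y : R' ⊗[R] A) : ∃ i, ∃ yi : G i ⊗[R] A, trans R A (G i) R' yi = y := by
  induction y using TensorProduct.induction_on with
  | zero => exact ⟨Classical.arbitrary ι, 0, map_zero _⟩
  | tmul r b =>
    obtain ⟨i, x, rfl⟩ := hsurj r
    exact ⟨i, x ⊗ₜ b, rfl⟩
  | add y1 y2 h1 h2 =>
    obtain ⟨i, z1, rfl⟩ := h1
    obtain ⟨j, z2, rfl⟩ := h2
    obtain ⟨l, hil, hjl⟩ := exists_ge_ge i j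
    refine ⟨l, τ A G g hgR i l hil z1 + τ A G g hgR j l hjl z2, ?_⟩
    rw [map_add, trans_τ G g hgR R' hcompat, trans_τ G g hgR R' hcompat]

variable (Il : ∀ i, Ideal (G i)) (hIl : ∀ i j (h : i ≤ j), (Il i).map (g i j h) ≤ Il j)
  (JA : Ideal A)

/-- the ideal `I_i A_i + J A_i`. -/
noncomputable def cI (i : ι) : Ideal (G i ⊗[R] A) :=
  (Il i).map (algebraMap (G i) (G i ⊗[R] A)) ⊔ JA.map (algebraMap A (G i ⊗[R] A))

include hIl in
omit [IsDirected ι (· ≤ ·)] [Nonempty ι] in
lemma τ_mem_cI (i j : ι) (h : i ≤ j) {c : G i ⊗[R] A} (hc : c ∈ cI G Il JA i) :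
    τ A G g hgR i j h c ∈ cI G Il JA j := by
  have hle : cI G Il JA i ≤ (cI G Il JA j).comap (τ A G g hgR i j h).toRingHom := by
    unfold cI
    refine sup_le ?_ ?_
    · rw [Ideal.map_le_iff_le_comap]
      intro x hx
      rw [Ideal.mem_comap, Ideal.mem_comap]
      show τ A G g hgR i j h (algebraMap (G i) (G i ⊗[R] A) x) ∈ _
      rw [Algebra.TensorProduct.algebraMap_apply, Algebra.algebraMap_self, RingHom.id_apply,
        τ_tmul]
      refine Ideal.mem_sup_left ?_
      have : g i j h x ∈ Il j := hIl i j h (Ideal.mem_map_of_mem _ hx)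
      exact Ideal.mem_map_of_mem (algebraMap (G j) (G j ⊗[R] A)) this
    · rw [Ideal.map_le_iff_le_comap]
      intro b hb
      rw [Ideal.mem_comap, Ideal.mem_comap]
      show τ A G g hgR i j h ((1 : G i) ⊗ₜ[R] b) ∈ _
      rw [τ_tmul, map_one]
      exact Ideal.mem_sup_right (Ideal.mem_map_of_mem (algebraMap A (G j ⊗[R] A)) hb)
  exact hle hc

/-- the ideal `I' A' + J A'`. -/
noncomputable def cI' : Ideal (R' ⊗[R] A) :=
  (⨆ i, (Il i).map (algebraMap (G i) R')).map (algebraMap R' (R' ⊗[R] A)) ⊔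
    JA.map (algebraMap A (R' ⊗[R] A))

include hgR hcompat hsurj hIl in
/-- elements of `I' A' + J A'` lift to elements of `I_i A_i + J A_i`. -/
theorem exists_lift_cI {c' : R' ⊗[R] A} (hc' : c' ∈ cI' G R' Il JA) :
    ∃ i, ∃ ci ∈ cI G Il JA i, trans R A (G i) R' ci = c' := by
  let 𝒮 : Ideal (R' ⊗[R] A) :=
    { carrier := {c' | ∃ i, ∃ ci ∈ cI G Il JA i, trans R A (G i) R' ci = c'}
      zero_mem' := ⟨Classical.arbitrary ι, 0, zero_mem _, map_zero _⟩
      add_mem' := by
        rintro _ _ ⟨i, c1, hc1, rfl⟩ ⟨j, c2, hc2, rfl⟩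
        obtain ⟨l, hil, hjl⟩ := exists_ge_ge i j
        refine ⟨l, τ A G g hgR i l hil c1 + τ A G g hgR j l hjl c2,
          add_mem (τ_mem_cI G g hgR Il hIl JA i l hil hc1) (τ_mem_cI G g hgR Il hIl JA j l hjl hc2),
          ?_⟩
        rw [map_add, trans_τ G g hgR R' hcompat, trans_τ G g hgR R' hcompat]
      smul_mem' := by
        rintro y _ ⟨i, c1, hc1, rfl⟩
        obtain ⟨j, yj, rfl⟩ := exists_lift G g hgR R' hcompat hsurj y
        obtain ⟨l, hil, hjl⟩ := exists_ge_ge i j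
        refine ⟨l, τ A G g hgR j l hjl yj * τ A G g hgR i l hil c1,
          Ideal.mul_mem_left _ _ (τ_mem_cI G g hgR Il hIl JA i l hil hc1), ?_⟩
        rw [map_mul, trans_τ G g hgR R' hcompat, trans_τ G g hgR R' hcompat, smul_eq_mul] }
  have hle : cI' G R' Il JA ≤ 𝒮 := by
    unfold cI'
    refine sup_le ?_ ?_
    · rw [Ideal.map_le_iff_le_comap]
      refine iSup_le fun i => ?_
      rw [Ideal.map_le_iff_le_comap]
      intro x hx
      rw [Ideal.mem_comap, Ideal.mem_comap]
      refine ⟨i, algebraMap (G i) (G i ⊗[R] A) x,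
        Ideal.mem_sup_left (Ideal.mem_map_of_mem _ hx), ?_⟩
      rw [Algebra.TensorProduct.algebraMap_apply, Algebra.TensorProduct.algebraMap_apply,
        Algebra.algebraMap_self, RingHom.id_apply, Algebra.algebraMap_self, RingHom.id_apply,
        trans_tmul]
    · rw [Ideal.map_le_iff_le_comap]
      intro b hb
      rw [Ideal.mem_comap]
      refine ⟨Classical.arbitrary ι, algebraMap A (_ ⊗[R] A) b,
        Ideal.mem_sup_right (Ideal.mem_map_of_mem _ hb), ?_⟩
      show trans R A (G _) R' ((1 : G _) ⊗ₜ[R] b) = (1 : R') ⊗ₜ[R] b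
      rw [trans_tmul, map_one]
  exact hle hc'

end Colim

end Groth.Agent.Lib.FlatStageH8
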