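import Mathlib
import Groth.Agent.Lib.FlatStageD_helper8
import Groth.Agent.Lib.FlatDesc11_helper8
import Groth.Agent.S0387

/-!
# Flatness along a closed subset descends to a stage of a directed colimit
-/

set_option autoImplicit false
open TensorProduct

namespace Groth.Agent.Lib.FlatStageH8

universe u

section Main

attribute [local instance] Algebra.TensorProduct.rightAlgebra
attribute [local instance] transAlgebra tower_k tower_A tower_R

variable {R A S : Type u} [CommRing R] [CommRing A] [CommRing S] [Algebra R A] [Algebra A S]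
  [Algebra R S] [IsScalarTower R A S] [Algebra.FinitePresentation R A]
  (T : Submonoid A) [IsLocalization T S]
  {N M : Type u} [AddCommGroup N] [Module A N] [Module.FinitePresentation A N]
  [AddCommGroup M] [Module S M] [Module A M] [IsScalarTower A S M]
  (fN : N →ₗ[A] M) (hfN : IsBaseChange S fN)
  {ι : Type u} [Preorder ι] [IsDirected ι (· ≤ ·)] [Nonempty ι]
  (G : ι → Type u) [∀ i, CommRing (G i)] [∀ i, Algebra R (G i)]
  (g : ∀ i j, i ≤ j → G i →+* G j)
  (hgR : ∀ i j (h : i ≤ j), (g i j h).comp (algebraMap R (G i)) = algebraMap R (G j))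
  (R' : Type u) [CommRing R'] [Algebra R R'] [∀ i, Algebra (G i) R']
  [∀ i, IsScalarTower R (G i) R']
  (hcomp : ∀ i j l (hij : i ≤ j) (hjl : j ≤ l), (g j l hjl).comp (g i j hij) = g i l (hij.trans hjl))
  (hcompat : ∀ i j (h : i ≤ j), (algebraMap (G j) R').comp (g i j h) = algebraMap (G i) R')
  (hsurj : ∀ a : R', ∃ i, ∃ x : G i, algebraMap (G i) R' x = a)
  (hker : ∀ i (x : G i), algebraMap (G i) R' x = 0 → ∃ j, ∃ h : i ≤ j, g i j h x = 0)
  (Il : ∀ i, Ideal (G i)) (hIl : ∀ i j (h : i ≤ j), (Il i).map (g i j h) ≤ Il j)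

omit [Algebra.FinitePresentation R A] [IsDirected ι (· ≤ ·)] [Nonempty ι] in
/-- the image of `I_k A_k + J A_k` in a pushout `S_k`. -/
lemma levelMap_cI_le {k Sk : Type u} [CommRing k] [CommRing Sk] [Algebra R k] [Algebra S Sk]
    [Algebra k Sk] [Algebra R Sk] [IsScalarTower R S Sk] [IsScalarTower R k Sk]
    (I : Ideal k) (J : Ideal S) {c : k ⊗[R] A}
    (hc : c ∈ I.map (algebraMap k (k ⊗[R] A)) ⊔
      (J.comap (algebraMap A S)).map (algebraMap A (k ⊗[R] A))) :
    levelMap R A S k Sk c ∈ I.map (algebraMap k Sk) ⊔ J.map (algebraMap S Sk) := by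
  have hle : I.map (algebraMap k (k ⊗[R] A)) ⊔
      (J.comap (algebraMap A S)).map (algebraMap A (k ⊗[R] A)) ≤
      (I.map (algebraMap k Sk) ⊔ J.map (algebraMap S Sk)).comap (levelMap R A S k Sk).toRingHom := by
    refine sup_le ?_ ?_
    · rw [Ideal.map_le_iff_le_comap]
      intro x hx
      rw [Ideal.mem_comap, Ideal.mem_comap]
      show levelMap R A S k Sk (algebraMap k (k ⊗[R] A) x) ∈ _
      rw [AlgHom.commutes]
      exact Ideal.mem_sup_left (Ideal.mem_map_of_mem _ hx)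
    · rw [Ideal.map_le_iff_le_comap]
      intro b hb
      rw [Ideal.mem_comap, Ideal.mem_comap]
      show levelMap R A S k Sk ((1 : k) ⊗ₜ[R] b) ∈ _
      rw [levelMap_tmul, map_one, one_mul]
      exact Ideal.mem_sup_right (Ideal.mem_map_of_mem _ hb)
  exact hle hc

include hfN hgR hcompat hsurj hIl in
omit [IsDirected ι (· ≤ ·)] in
/-- Step 1: an element `a₀ = t - c₀` at some stage whose image cuts out a flat principal open. -/
theorem exists_stage_element [IsDirected ι (· ≤ ·)]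
    {S' : Type u} [CommRing S'] [Algebra S S'] [Algebra R' S'] [Algebra R S']
    [IsScalarTower R S S'] [IsScalarTower R R' S'] [Algebra.IsPushout R S R' S']
    {M' : Type u} [AddCommGroup M'] [Module S' M'] [Module R' M'] [IsScalarTower R' S' M']
    [Module S M'] [IsScalarTower S S' M'] (f : M →ₗ[S] M') (hf : IsBaseChange S' f) (J : Ideal S)
    (h : ∀ (q' : Ideal S') [q'.IsPrime],
      (⨆ i, (Il i).map (algebraMap (G i) R')).map (algebraMap R' S') ⊔
        J.map (algebraMap S S') ≤ q' →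
        Module.Flat R' (LocalizedModule q'.primeCompl M')) :
    ∃ (i₀ : ι) (t : A) (_ : t ∈ T) (c₀ : G i₀ ⊗[R] A),
      c₀ ∈ cI G Il (J.comap (algebraMap A S)) i₀ ∧
      Module.Flat R' (LocalizedModule (Submonoid.powers
        (trans R A (G i₀) R' (algebraMap A (G i₀ ⊗[R] A) t - c₀))) ((R' ⊗[R] A) ⊗[A] N)) := by
  have hopen := Groth.Agent.S0387.result (R := R') (S := R' ⊗[R] A) (M := (R' ⊗[R] A) ⊗[A] N)
  have hZc : IsClosed ({Q : PrimeSpectrum (R' ⊗[R] A) |
      Module.Flat R' (LocalizedModule Q.asIdeal.primeCompl ((R' ⊗[R] A) ⊗[A] N))}ᶜ) :=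
    hopen.isClosed_compl
  have hZeq : PrimeSpectrum.zeroLocus ((PrimeSpectrum.vanishingIdeal
      ({Q : PrimeSpectrum (R' ⊗[R] A) |
        Module.Flat R' (LocalizedModule Q.asIdeal.primeCompl ((R' ⊗[R] A) ⊗[A] N))}ᶜ) :
        Ideal (R' ⊗[R] A)) : Set (R' ⊗[R] A)) =
      {Q : PrimeSpectrum (R' ⊗[R] A) |
        Module.Flat R' (LocalizedModule Q.asIdeal.primeCompl ((R' ⊗[R] A) ⊗[A] N))}ᶜ := by
    rw [PrimeSpectrum.zeroLocus_vanishingIdeal_eq_closure, hZc.closure_eq]
  have hflatQ : ∀ (Q : Ideal (R' ⊗[R] A)) [Q.IsPrime],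
      ((PrimeSpectrum.vanishingIdeal
      ({Q : PrimeSpectrum (R' ⊗[R] A) |
        Module.Flat R' (LocalizedModule Q.asIdeal.primeCompl ((R' ⊗[R] A) ⊗[A] N))}ᶜ) :
        Ideal (R' ⊗[R] A)) ≤ Q ↔
      ¬ Module.Flat R' (LocalizedModule Q.primeCompl ((R' ⊗[R] A) ⊗[A] N))) := by
    intro Q hQ
    have : (⟨Q, hQ⟩ : PrimeSpectrum (R' ⊗[R] A)) ∈ PrimeSpectrum.zeroLocus
        ((PrimeSpectrum.vanishingIdeal
      ({Q : PrimeSpectrum (R' ⊗[R] A) |
        Module.Flat R' (LocalizedModule Q.asIdeal.primeCompl ((R' ⊗[R] A) ⊗[A] N))}ᶜ) :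
        Ideal (R' ⊗[R] A)) : Set (R' ⊗[R] A)) ↔ (⟨Q, hQ⟩ : PrimeSpectrum (R' ⊗[R] A)) ∈
        {Q : PrimeSpectrum (R' ⊗[R] A) |
        Module.Flat R' (LocalizedModule Q.asIdeal.primeCompl ((R' ⊗[R] A) ⊗[A] N))}ᶜ := by
      rw [hZeq]
    exact this
  generalize (PrimeSpectrum.vanishingIdeal
      ({Q : PrimeSpectrum (R' ⊗[R] A) |
        Module.Flat R' (LocalizedModule Q.asIdeal.primeCompl ((R' ⊗[R] A) ⊗[A] N))}ᶜ) :
        Ideal (R' ⊗[R] A)) = 𝔞 at hflatQ
  clear hZeq hZc hopen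
  obtain ⟨lvl1, lvl2⟩ := level_main (R := R) (A := A) (S := S) (k := R') (Sk := S') T fN hfN f hf
  -- Step C
  have hnd : ¬ Disjoint ((𝔞 ⊔ cI' G R' Il (J.comap (algebraMap A S)) : Ideal (R' ⊗[R] A)) :
      Set (R' ⊗[R] A)) ((T.map (algebraMap A (R' ⊗[R] A)) : Submonoid (R' ⊗[R] A)) :
      Set (R' ⊗[R] A)) := by
    intro hdis
    obtain ⟨Q, hQprime, hle, hQdis⟩ := Ideal.exists_le_prime_disjoint _ _ hdis
    obtain ⟨hq'prime, hq'comap⟩ := lvl2 Q hQdis.symm
    have hq'le : (⨆ i, (Il i).map (algebraMap (G i) R')).map (algebraMap R' S') ⊔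
        J.map (algebraMap S S') ≤ Q.map (levelMap R A S R' S').toRingHom := by
      refine sup_le ?_ ?_
      · have h1 : algebraMap R' S' = (levelMap R A S R' S').toRingHom.comp
            (algebraMap R' (R' ⊗[R] A)) := by
          ext x
          exact ((levelMap R A S R' S').commutes x).symm
        rw [h1, ← Ideal.map_map]
        refine Ideal.map_mono ?_
        exact (le_sup_left.trans le_sup_right).trans hle
      · rw [Ideal.map_le_iff_le_comap]
        intro j hj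
        rw [Ideal.mem_comap]
        obtain ⟨⟨b, t⟩, hbt⟩ := IsLocalization.surj T j
        have hbJ : b ∈ J.comap (algebraMap A S) := by
          rw [Ideal.mem_comap, ← hbt]
          exact Ideal.mul_mem_right _ _ hj
        have h2 : algebraMap S S' j * algebraMap S S' (algebraMap A S t) ∈
            Q.map (levelMap R A S R' S').toRingHom := by
          rw [← map_mul, hbt]
          have h3 : levelMap R A S R' S' ((1 : R') ⊗ₜ[R] b) = algebraMap S S' (algebraMap A S b) := by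
            rw [levelMap_tmul, map_one, one_mul]
          rw [← h3]
          refine Ideal.mem_map_of_mem _ (hle (Ideal.mem_sup_right (Ideal.mem_sup_right ?_)))
          exact Ideal.mem_map_of_mem (algebraMap A (R' ⊗[R] A)) hbJ
        rcases Ideal.IsPrime.mem_or_mem hq'prime h2 with h4 | h4
        · exact h4
        · exact absurd (Ideal.eq_top_of_isUnit_mem _ h4
            ((IsLocalization.map_units S t).map (algebraMap S S'))) hq'prime.ne_top
    haveI := hq'prime
    have hfl := h (Q.map (levelMap R A S R' S').toRingHom) hq'le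
    have hfl2 := (lvl1 (Q.map (levelMap R A S R' S').toRingHom)).mp hfl
    have hfl3 : Module.Flat R' (LocalizedModule Q.primeCompl ((R' ⊗[R] A) ⊗[A] N)) := by
      refine flat_localizedModule_mono ((R' ⊗[R] A) ⊗[A] N) ?_ hfl2
      intro x hx
      show x ∉ Q
      rw [← hq'comap]
      exact hx
    exact (hflatQ Q).mp (le_sup_left.trans hle) hfl3
  -- Step D
  obtain ⟨x, hx1, hx2⟩ := Set.not_disjoint_iff.mp hnd
  obtain ⟨t, ht, rfl⟩ := hx2
  obtain ⟨α, hα, c', hc', hsum⟩ := Submodule.mem_sup.mp hx1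
  obtain ⟨i₀, c₀, hc₀, hc₀'⟩ := exists_lift_cI G g hgR R' hcompat hsurj Il hIl
    (J.comap (algebraMap A S)) hc'
  refine ⟨i₀, t, ht, c₀, hc₀, ?_⟩
  have hα' : trans R A (G i₀) R' (algebraMap A (G i₀ ⊗[R] A) t - c₀) = α := by
    rw [map_sub, hc₀']
    have : trans R A (G i₀) R' (algebraMap A (G i₀ ⊗[R] A) t) = algebraMap A (R' ⊗[R] A) t := by
      show trans R A (G i₀) R' ((1 : G i₀) ⊗ₜ[R] t) = (1 : R') ⊗ₜ[R] t
      rw [trans_tmul, map_one]
    rw [this, ← hsum]
    ring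
  rw [hα']
  refine flat_localizedModule_powers_of_forall_prime ((R' ⊗[R] A) ⊗[A] N) α ?_
  intro Q hQ hαQ
  by_contra hnf
  exact hαQ ((hflatQ Q).mpr hnf hα)

include hcomp hcompat hsurj hker in
omit [Nonempty ι] in
/-- Step 2: flatness of the principal localization descends to a stage. -/
theorem exists_stage_flat_away (i₀ : ι) (a₀ : G i₀ ⊗[R] A)
    (hfl : Module.Flat R' (LocalizedModule (Submonoid.powers (trans R A (G i₀) R' a₀))
      ((R' ⊗[R] A) ⊗[A] N))) :
    ∃ (j : ι) (hj : i₀ ≤ j), Module.Flat (G j)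
      (LocalizedModule (Submonoid.powers (τ A G g hgR i₀ j hj a₀)) ((G j ⊗[R] A) ⊗[A] N)) := by
  -- Step G
  haveI hpo : Algebra.IsPushout (G i₀) R' (G i₀ ⊗[R] A) (R' ⊗[R] A) :=
    isPushout_trans R A (G i₀) R'
  haveI hflat0 : Module.Flat R' (R' ⊗[G i₀] (Localization.Away a₀ ⊗[A] N)) :=
    (flat_stage_iff (k := G i₀) (k' := R') (Ak := G i₀ ⊗[R] A) (Ak' := R' ⊗[R] A) (A := A)
      a₀ N).mpr hfl
  -- Step H : the directed system above `i₀`
  haveI hdir' : IsDirected {j : ι // i₀ ≤ j} (· ≤ ·) :=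
    ⟨fun a b => by
      obtain ⟨c, hac, hbc⟩ := exists_ge_ge a.1 b.1
      exact ⟨⟨c, a.2.trans hac⟩, hac, hbc⟩⟩
  haveI hne' : Nonempty {j : ι // i₀ ≤ j} := ⟨⟨i₀, le_rfl⟩⟩
  letI algs : ∀ j : {j : ι // i₀ ≤ j}, Algebra (G i₀) (G j.1) :=
    fun j => (g i₀ j.1 j.2).toAlgebra
  haveI tows : ∀ j : {j : ι // i₀ ≤ j}, IsScalarTower (G i₀) (G j.1) R' :=
    fun j => IsScalarTower.of_algebraMap_eq
      (fun x => (RingHom.congr_fun (hcompat i₀ j.1 j.2) x).symm)
  haveI hfpA : Algebra.FinitePresentation (G i₀ ⊗[R] A) (Localization.Away a₀) :=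
    IsLocalization.Away.finitePresentation a₀
  haveI hfp : Algebra.FinitePresentation (G i₀) (Localization.Away a₀) :=
    Algebra.FinitePresentation.trans (G i₀) (G i₀ ⊗[R] A) (Localization.Away a₀)
  obtain ⟨j, hjflat⟩ := Groth.Agent.Lib.FlatDescH8.exists_stage_flat (A₀ := G i₀)
    (fun j : {j : ι // i₀ ≤ j} => G j.1)
    (fun j1 j2 h =>
      ({ toRingHom := g j1.1 j2.1 h
         commutes' := fun r => RingHom.congr_fun (hcomp i₀ j1.1 j2.1 j1.2 h) r } :
        G j1.1 →ₐ[G i₀] G j2.1))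
    R'
    (fun j1 j2 j3 h12 h23 => hcomp j1.1 j2.1 j3.1 h12 h23)
    (fun j1 j2 h => hcompat j1.1 j2.1 h)
    (fun a => by
      obtain ⟨i, x, hx⟩ := hsurj a
      obtain ⟨l, hil, h0l⟩ := exists_ge_ge i i₀
      refine ⟨⟨l, h0l⟩, g i l hil x, ?_⟩
      rw [← hx]
      exact RingHom.congr_fun (hcompat i l hil) x)
    (fun j x hx => by
      obtain ⟨l, hjl, h0⟩ := hker j.1 x hx
      exact ⟨⟨l, j.2.trans hjl⟩, hjl, h0⟩)
    (B₀ := Localization.Away a₀) (Localization.Away a₀ ⊗[A] N)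
  refine ⟨j.1, j.2, ?_⟩
  -- Step I
  letI algj : Algebra (G i₀) (G j.1) := (g i₀ j.1 j.2).toAlgebra
  haveI towj : IsScalarTower R (G i₀) (G j.1) := IsScalarTower.of_algebraMap_eq
    (fun x => (RingHom.congr_fun (hgR i₀ j.1 j.2) x).symm)
  haveI hpoj : Algebra.IsPushout (G i₀) (G j.1) (G i₀ ⊗[R] A) (G j.1 ⊗[R] A) :=
    isPushout_trans R A (G i₀) (G j.1)
  have h1 := (flat_stage_iff (k := G i₀) (k' := G j.1) (Ak := G i₀ ⊗[R] A)
    (Ak' := G j.1 ⊗[R] A) (A := A) a₀ N).mp hjflat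
  have h2 : algebraMap (G i₀ ⊗[R] A) (G j.1 ⊗[R] A) a₀ = τ A G g hgR i₀ j.1 j.2 a₀ := by
    have : trans R A (G i₀) (G j.1) = τ A G g hgR i₀ j.1 j.2 := by
      apply Algebra.TensorProduct.ext'
      intro a b
      rfl
    rw [← this]
    rfl
  rw [h2] at h1
  exact h1

include T hfN hgR hcomp hcompat hsurj hker hIl in
/-- **Main theorem** (algebra-level form). -/
theorem main_stage
    {S' : Type u} [CommRing S'] [Algebra S S'] [Algebra R' S'] [Algebra R S']
    [IsScalarTower R S S'] [IsScalarTower R R' S'] [Algebra.IsPushout R S R' S']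
    {M' : Type u} [AddCommGroup M'] [Module S' M'] [Module R' M'] [IsScalarTower R' S' M']
    [Module S M'] [IsScalarTower S S' M'] (f : M →ₗ[S] M') (hf : IsBaseChange S' f) (J : Ideal S)
    (h : ∀ (q' : Ideal S') [q'.IsPrime],
      (⨆ i, (Il i).map (algebraMap (G i) R')).map (algebraMap R' S') ⊔
        J.map (algebraMap S S') ≤ q' →
        Module.Flat R' (LocalizedModule q'.primeCompl M')) :
    ∃ i : ι, ∀ (Si Mi : Type u) [CommRing Si] [Algebra S Si] [Algebra (G i) Si] [Algebra R Si]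
      [IsScalarTower R S Si] [IsScalarTower R (G i) Si] [Algebra.IsPushout R S (G i) Si]
      [AddCommGroup Mi] [Module Si Mi] [Module (G i) Mi] [IsScalarTower (G i) Si Mi] [Module S Mi]
      [IsScalarTower S Si Mi] (fi : M →ₗ[S] Mi), IsBaseChange Si fi →
      ∀ (q : Ideal Si) [q.IsPrime],
        (Il i).map (algebraMap (G i) Si) ⊔ J.map (algebraMap S Si) ≤ q →
        Module.Flat (G i) (LocalizedModule q.primeCompl Mi) := by
  obtain ⟨i₀, t, ht, c₀, hc₀, hfl⟩ := exists_stage_element T fN hfN G g hgR R' hcompat hsurj Il hIl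
    f hf J h
  obtain ⟨j, hj, hflj⟩ := exists_stage_flat_away (N := N) G g hgR R' hcomp hcompat hsurj hker i₀ _
    hfl
  refine ⟨j, ?_⟩
  intro Si Mi _ _ _ _ _ _ _ _ _ _ _ _ _ fi hfi q hqprime hq
  obtain ⟨lvl1, -⟩ := level_main (R := R) (A := A) (S := S) (k := G j) (Sk := Si) T fN hfN fi hfi
  refine (lvl1 q).mpr (flat_localizedModule_mono _ ?_ hflj)
  rw [Submonoid.powers_le]
  intro hmem
  have hmem' : levelMap R A S (G j) Si
      (τ A G g hgR i₀ j hj (algebraMap A (G i₀ ⊗[R] A) t - c₀)) ∈ q := hmem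
  have h1 : levelMap R A S (G j) Si (τ A G g hgR i₀ j hj c₀) ∈ q := by
    have := τ_mem_cI G g hgR Il hIl (J.comap (algebraMap A S)) i₀ j hj hc₀
    unfold cI at this
    exact hq (levelMap_cI_le (Il j) J this)
  have h2 : levelMap R A S (G j) Si (τ A G g hgR i₀ j hj (algebraMap A (G i₀ ⊗[R] A) t)) =
      algebraMap S Si (algebraMap A S t) := by
    show levelMap R A S (G j) Si (τ A G g hgR i₀ j hj ((1 : G i₀) ⊗ₜ[R] t)) = _
    rw [τ_tmul, map_one, levelMap_tmul, map_one, one_mul]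
  have h3 : algebraMap S Si (algebraMap A S t) ∈ q := by
    rw [← h2]
    have := add_mem hmem' h1
    rwa [← map_add, ← map_add, sub_add_cancel] at this
  exact hqprime.ne_top (Ideal.eq_top_of_isUnit_mem _ h3
    ((IsLocalization.map_units S ⟨t, ht⟩).map (algebraMap S Si)))

end Main

end Groth.Agent.Lib.FlatStageH8
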