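import Mathlib
import Groth.Agent.Lib.FlatStageE_helper8
import Groth.Agent.Lib.FlatDesc9_helper8

/-!
# Descent of a finitely presented module from a localization
-/

set_option autoImplicit false
open TensorProduct

namespace Groth.Agent.Lib.FlatStageH8

universe u

theorem exists_fp_model_of_isLocalization {A S : Type u} [CommRing A] [CommRing S] [Algebra A S]
    (T : Submonoid A) [IsLocalization T S]
    (M : Type u) [AddCommGroup M] [Module S M] [Module A M] [IsScalarTower A S M]
    [Module.FinitePresentation S M] :
    ∃ (N : Type u) (_ : AddCommGroup N) (_ : Module A N) (_ : Module.FinitePresentation A N)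
      (fN : N →ₗ[A] M), IsBaseChange S fN := by
  classical
  obtain ⟨b, c, π, γ, hπ, hex⟩ := Module.FinitePresentation.exists_fin' S M
  have hv : Submodule.span S (Set.range fun k : Fin c => γ (Pi.single k 1)) = LinearMap.ker π := by
    rw [LinearMap.exact_iff.mp hex]
    apply le_antisymm
    · rw [Submodule.span_le]
      rintro _ ⟨k, rfl⟩
      exact LinearMap.mem_range_self _ _
    · rintro _ ⟨x, rfl⟩
      rw [LinearMap.pi_apply_eq_sum_univ γ x]
      refine Submodule.sum_mem _ fun k _ => Submodule.smul_mem _ _ (Submodule.subset_span ⟨k, ?_⟩)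
      show γ (Pi.single k 1) = γ (fun j => if k = j then 1 else 0)
      congr 1
      funext j
      rw [Pi.single_apply]
      simp [eq_comm]
  obtain ⟨t, ht⟩ := IsLocalization.exist_integer_multiples_of_finite T
    (fun p : Fin c × Fin b => γ (Pi.single p.1 1) p.2)
  choose w hw using ht
  have hspan : Submodule.span S (Set.range fun (k : Fin c) (j : Fin b) =>
      algebraMap A S (w (k, j))) = LinearMap.ker π := by
    rw [← hv]
    have hfun : (fun (k : Fin c) (j : Fin b) => algebraMap A S (w (k, j))) =
        fun k => (algebraMap A S t) • γ (Pi.single k 1) := by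
      funext k j
      rw [hw]
      simp [Algebra.smul_def]
    rw [hfun]
    obtain ⟨u, hu'⟩ := IsLocalization.map_units S t
    apply le_antisymm
    · rw [Submodule.span_le]
      rintro _ ⟨k, rfl⟩
      exact Submodule.smul_mem _ _ (Submodule.subset_span ⟨k, rfl⟩)
    · rw [Submodule.span_le]
      rintro _ ⟨k, rfl⟩
      have : γ (Pi.single k 1) = (↑u⁻¹ : S) • ((algebraMap A S t) • γ (Pi.single k 1)) := by
        rw [← hu', smul_smul, Units.inv_mul, one_smul]
      show γ (Pi.single k 1) ∈ _
      rw [this]
      exact Submodule.smul_mem _ _ (Submodule.subset_span ⟨k, rfl⟩)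
  obtain ⟨f, hf⟩ := Groth.Agent.Lib.FlatDescH8.exists_module_model M π hπ (fun k j => w (k, j)) hspan
  refine ⟨_, inferInstance, inferInstance, ?_, f, hf⟩
  refine Module.finitePresentation_of_surjective (Submodule.mkQ _) (Submodule.mkQ_surjective _) ?_
  rw [Submodule.ker_mkQ, LinearMap.range_eq_map]
  exact Module.Finite.fg_top.map _

end Groth.Agent.Lib.FlatStageH8
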