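import Mathlib
import Groth.Agent.Lib.SDivFree_helper8
import Groth.Agent.Lib.ComapId2_helper8
import Groth.Agent.Lib.BlowIso1_helper8
import Groth.Agent.Lib.Cart2_helper8
set_option autoImplicit false
open AlgebraicGeometry CategoryTheory CategoryTheory.Limits TopologicalSpace Opposite
universe u
namespace FlatStratH8

theorem fitt_ideal_mono (R : Type u) [CommRing R] (M : Type u) [AddCommGroup M] [Module R M]
    {r r' : ℕ} (h : r ≤ r') : Fitt.ideal R M r ≤ Fitt.ideal R M r' := by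
  apply Ideal.span_mono
  rintro d ⟨n, x, a, hx, ha, hd⟩
  exact ⟨n, x, a, hx, fun i hi => ha i (lt_of_lt_of_le hi (Nat.sub_le_sub_left h n)), hd⟩

theorem sheafIdeal_mono {X : Scheme.{u}} (F : X.Modules) {r r' : ℕ} (h : r ≤ r') :
    Fitt.sheafIdeal F r ≤ Fitt.sheafIdeal F r' := by
  apply Scheme.IdealSheafData.ofIdeals_mono
  intro U
  exact fitt_ideal_mono _ _ h

theorem comap_eq_top_iff {X T : Scheme.{u}} (I : X.IdealSheafData) (f : T ⟶ X) :
    I.comap f = ⊤ ↔ ∀ t : T, f t ∉ I.support := by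
  constructor
  · intro h t ht
    have h1 : t ∈ (I.comap f).support := (CartH8.mem_support_comap_iff f I t).mpr ht
    rw [h, Scheme.IdealSheafData.support_top] at h1
    exact h1
  · exact BlowIsoH8.comap_eq_top I f

theorem comap_subschemeι_eq_bot {X : Scheme.{u}} (I : X.IdealSheafData) :
    I.comap I.subschemeι = ⊥ := by
  rw [eq_bot_iff]
  apply Scheme.IdealSheafData.le_map_iff_comap_le.mp
  rw [Scheme.IdealSheafData.map_bot, Scheme.IdealSheafData.ker_subschemeι]

/-- Factoring through the locally closed subscheme `V(I) ∖ V(J)`. -/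
theorem factors_iff {X T : Scheme.{u}} (I J : X.IdealSheafData) (f : T ⟶ X) :
    (∃ g : T ⟶ ((I.subschemeι ⁻¹ᵁ J.support.compl : I.subscheme.Opens) : Scheme.{u}),
      g ≫ (I.subschemeι ⁻¹ᵁ J.support.compl).ι ≫ I.subschemeι = f) ↔
      I.comap f = ⊥ ∧ J.comap f = ⊤ := by
  constructor
  · rintro ⟨g, rfl⟩
    constructor
    · rw [Scheme.IdealSheafData.comap_comp, Scheme.IdealSheafData.comap_comp,
        comap_subschemeι_eq_bot, Scheme.IdealSheafData.comap_bot,
        Scheme.IdealSheafData.comap_bot]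
    · rw [comap_eq_top_iff]
      intro t
      exact (g t).2
  · rintro ⟨h1, h2⟩
    have h3 : I.subschemeι.ker ≤ f.ker := by
      rw [Scheme.IdealSheafData.ker_subschemeι, ← Scheme.IdealSheafData.map_bot]
      exact Scheme.IdealSheafData.le_map_iff_comap_le.mpr (le_of_eq h1)
    obtain ⟨g₀, hg₀⟩ : ∃ g₀ : T ⟶ I.subscheme, g₀ ≫ I.subschemeι = f :=
      ⟨IsClosedImmersion.lift I.subschemeι f h3, IsClosedImmersion.lift_fac _ _ _⟩
    rw [comap_eq_top_iff] at h2
    have hrange : Set.range g₀ ⊆ Set.range (I.subschemeι ⁻¹ᵁ J.support.compl).ι := by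
      rintro _ ⟨t, rfl⟩
      rw [Scheme.Opens.range_ι]
      show I.subschemeι (g₀ t) ∉ J.support
      rw [← Scheme.Hom.comp_apply, hg₀]
      exact h2 t
    refine ⟨IsOpenImmersion.lift (I.subschemeι ⁻¹ᵁ J.support.compl).ι g₀ hrange, ?_⟩
    rw [← Category.assoc, IsOpenImmersion.lift_fac, hg₀]

theorem finLocFree_pullback_iff {X T : Scheme.{u}} (F : X.Modules) [F.IsQuasicoherent]
    [SheafOfModules.IsFiniteType (R := X.ringCatSheaf) F] (r : ℕ) (f : T ⟶ X) :
    FlatMod.IsFinLocFreeOfRank r ((Scheme.Modules.pullback f).obj F) ↔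
      (∀ k, k < r → (Fitt.sheafIdeal F k).comap f = ⊥) ∧ (Fitt.sheafIdeal F r).comap f = ⊤ := by
  have := PBH8.isQuasicoherent_pullback f F
  have := FpqcH8.isFiniteType_pullback f F
  rw [SDivFreeH8.finLocFree_iff]
  constructor
  · rintro ⟨h1, h2⟩
    refine ⟨fun k hk => ?_, ?_⟩
    · rw [ComapIdH8.fitt_comap]
      exact h1 k hk
    · rw [ComapIdH8.fitt_comap]
      exact h2 r le_rfl
  · rintro ⟨h1, h2⟩
    refine ⟨fun k hk => ?_, fun k hk => ?_⟩
    · rw [← ComapIdH8.fitt_comap]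
      exact h1 k hk
    · rw [← ComapIdH8.fitt_comap, eq_top_iff, ← h2]
      exact Scheme.IdealSheafData.comap_mono f (sheafIdeal_mono F hk)

theorem exists_stratum {X : Scheme.{u}} (F : X.Modules) [F.IsQuasicoherent]
    [SheafOfModules.IsFiniteType (R := X.ringCatSheaf) F] (r : ℕ) :
    ∃ (Z : Scheme.{u}) (i : Z ⟶ X), IsImmersion i ∧ ∀ (T : Scheme.{u}) (f : T ⟶ X),
      (∃ g : T ⟶ Z, g ≫ i = f) ↔
        FlatMod.IsFinLocFreeOfRank r ((Scheme.Modules.pullback f).obj F) := by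
  obtain ⟨I, hI⟩ : ∃ I : X.IdealSheafData, ∀ (T : Scheme.{u}) (f : T ⟶ X),
      I.comap f = ⊥ ↔ ∀ k, k < r → (Fitt.sheafIdeal F k).comap f = ⊥ := by
    rcases Nat.eq_zero_or_pos r with h0 | hpos
    · refine ⟨⊥, fun T f => ?_⟩
      rw [Scheme.IdealSheafData.comap_bot]
      refine ⟨fun _ k hk => ?_, fun _ => rfl⟩
      omega
    · refine ⟨Fitt.sheafIdeal F (r - 1), fun T f => ⟨fun h k hk => ?_, fun h => h _ (by omega)⟩⟩
      rw [eq_bot_iff, ← h]
      exact Scheme.IdealSheafData.comap_mono f (sheafIdeal_mono F (by omega))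
  refine ⟨_, (I.subschemeι ⁻¹ᵁ (Fitt.sheafIdeal F r).support.compl).ι ≫ I.subschemeι,
    inferInstance, fun T f => ?_⟩
  rw [factors_iff, finLocFree_pullback_iff, hI]

end FlatStratH8
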