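import Mathlib
import Groth.Agent.Lib.FlatStrat1_helper8
set_option autoImplicit false
open AlgebraicGeometry CategoryTheory CategoryTheory.Limits TopologicalSpace Opposite
universe u
namespace FlatStratH8

theorem isClosedImmersion_of_support_eq_bot {X : Scheme.{u}} (I J : X.IdealSheafData)
    (hJ : ∀ x : X, x ∉ J.support) :
    IsClosedImmersion ((I.subschemeι ⁻¹ᵁ J.support.compl).ι ≫ I.subschemeι) := by
  apply IsClosedImmersion.of_isPreimmersion
  have h1 : Set.range ((I.subschemeι ⁻¹ᵁ J.support.compl).ι ≫ I.subschemeι) =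
      Set.range I.subschemeι := by
    apply Set.Subset.antisymm
    · rintro _ ⟨z, rfl⟩
      exact ⟨_, rfl⟩
    · rintro _ ⟨z, rfl⟩
      exact ⟨⟨z, hJ _⟩, rfl⟩
  rw [h1]
  exact I.subschemeι.isClosedEmbedding.isClosed_range

theorem exists_stratum' {X : Scheme.{u}} (F : X.Modules) [F.IsQuasicoherent]
    [SheafOfModules.IsFiniteType (R := X.ringCatSheaf) F] (r : ℕ) :
    ∃ (Z : Scheme.{u}) (i : Z ⟶ X), IsImmersion i ∧ (∀ (T : Scheme.{u}) (f : T ⟶ X),
      (∃ g : T ⟶ Z, g ≫ i = f) ↔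
        FlatMod.IsFinLocFreeOfRank r ((Scheme.Modules.pullback f).obj F)) ∧
      ((∀ x : X, x ∉ (Fitt.sheafIdeal F r).support) → IsClosedImmersion i) := by
  obtain ⟨I, hI⟩ : ∃ I : X.IdealSheafData, ∀ (T : Scheme.{u}) (f : T ⟶ X),
      I.comap f = ⊥ ↔ ∀ k, k < r → (Fitt.sheafIdeal F k).comap f = ⊥ := by
    rcases Nat.eq_zero_or_pos r with h0 | hpos
    · refine ⟨⊥, fun T f => ?_⟩
      rw [Scheme.IdealSheafData.comap_bot]
      refine ⟨fun _ k hk => ?_, fun _ => rfl⟩
      omega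
    · refine ⟨Fitt.sheafIdeal F (r - 1), fun T f => ⟨fun h k hk => ?_, fun h => h _ (by omega)⟩⟩
      rw [eq_bot_iff, ← h]
      exact Scheme.IdealSheafData.comap_mono f (sheafIdeal_mono F (by omega))
  refine ⟨_, (I.subschemeι ⁻¹ᵁ (Fitt.sheafIdeal F r).support.compl).ι ≫ I.subschemeι,
    inferInstance, fun T f => ?_, fun h => isClosedImmersion_of_support_eq_bot I _ h⟩
  rw [factors_iff, finLocFree_pullback_iff, hI]

end FlatStratH8
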