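import Mathlib

/-!
# Flat subalgebras of bounded cardinality (helper9)
-/

open Cardinal

namespace FlatSub9

universe u
variable {A B : Type u} [CommRing A] [CommRing B] [Algebra A B] [Module.Flat A B]

/-- data of a relation with coefficients in `A` and elements of `C`. -/
abbrev Data (C : Subalgebra A B) := Σ n : ℕ, (Fin n → A × C)

lemma exists_wit (C : Subalgebra A B) (d : Data C) :
    ∃ s : Set B, s.Countable ∧ (∑ i, (d.2 i).1 • ((d.2 i).2 : B) = 0 →
      ∃ (k : ℕ) (a : Fin d.1 → Fin k → A) (y : Fin k → B), (∀ j, y j ∈ s) ∧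
        (∀ i, ((d.2 i).2 : B) = ∑ j, a i j • y j) ∧ ∀ j, ∑ i, (d.2 i).1 * a i j = 0) := by
  by_cases h : ∑ i, (d.2 i).1 • ((d.2 i).2 : B) = 0
  · obtain ⟨k, a, y, h1, h2⟩ := Module.Flat.isTrivialRelation_of_sum_smul_eq_zero
      (R := A) (M := B) (f := fun i => (d.2 i).1) (x := fun i => ((d.2 i).2 : B)) h
    exact ⟨Set.range y, Set.countable_range y, fun _ => ⟨k, a, y, fun j => ⟨j, rfl⟩, h1, h2⟩⟩
  · exact ⟨∅, Set.countable_empty, fun h' => absurd h' h⟩

/-- the witnesses -/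
noncomputable def W (C : Subalgebra A B) (d : Data C) : Set B := (exists_wit C d).choose

/-- one step of the construction -/
noncomputable def next (C : Subalgebra A B) : Subalgebra A B :=
  Algebra.adjoin A ((C : Set B) ∪ ⋃ d, W C d)

lemma le_next (C : Subalgebra A B) : C ≤ next C :=
  fun _ hx => Algebra.subset_adjoin (Or.inl hx)

lemma next_spec (C : Subalgebra A B) (n : ℕ) (f : Fin n → A) (x : Fin n → B)
    (hx : ∀ i, x i ∈ C) (h : ∑ i, f i • x i = 0) :
    ∃ (k : ℕ) (a : Fin n → Fin k → A) (y : Fin k → B), (∀ j, y j ∈ next C) ∧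
      (∀ i, x i = ∑ j, a i j • y j) ∧ ∀ j, ∑ i, f i * a i j = 0 := by
  let d : Data C := ⟨n, fun i => (f i, ⟨x i, hx i⟩)⟩
  obtain ⟨k, a, y, hy, h1, h2⟩ := (exists_wit C d).choose_spec.2 h
  exact ⟨k, a, y, fun j => Algebra.subset_adjoin (Or.inr (Set.mem_iUnion.mpr ⟨d, hy j⟩)), h1, h2⟩

omit [CommRing A] in
lemma kappa_mul_self : max #A ℵ₀ * max #A ℵ₀ = max #A ℵ₀ :=
  Cardinal.mul_eq_self (le_max_right _ _)

lemma card_data (C : Subalgebra A B) (hC : #C ≤ max #A ℵ₀) : #(Data C) ≤ max #A ℵ₀ := by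
  have h1 : #(Data C) = #(List (A × C)) := Cardinal.mk_congr List.equivSigmaTuple.symm
  rw [h1]
  refine (Cardinal.mk_list_le_max _).trans (max_le (le_max_right _ _) ?_)
  rw [Cardinal.mk_prod, Cardinal.lift_id, Cardinal.lift_id]
  calc #A * #C ≤ max #A ℵ₀ * max #A ℵ₀ := mul_le_mul' (le_max_left _ _) hC
    _ = max #A ℵ₀ := kappa_mul_self

lemma card_next (C : Subalgebra A B) (hC : #C ≤ max #A ℵ₀) : #(next C) ≤ max #A ℵ₀ := by
  have hW : #(⋃ d, W C d) ≤ max #A ℵ₀ := by
    refine (Cardinal.mk_iUnion_le _).trans ?_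
    have h1 : ⨆ d, #(W C d) ≤ ℵ₀ := ciSup_le' fun d => (exists_wit C d).choose_spec.1.le_aleph0
    calc #(Data C) * ⨆ d, #(W C d) ≤ max #A ℵ₀ * max #A ℵ₀ :=
          mul_le_mul' (card_data C hC) (h1.trans (le_max_right _ _))
      _ = max #A ℵ₀ := kappa_mul_self
  have hU : #((C : Set B) ∪ ⋃ d, W C d : Set B) ≤ max #A ℵ₀ := by
    refine (Cardinal.mk_union_le _ _).trans ?_
    calc #(C : Set B) + #(⋃ d, W C d) ≤ max #A ℵ₀ + max #A ℵ₀ := add_le_add hC hW
      _ = max #A ℵ₀ := Cardinal.add_eq_self (le_max_right _ _)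
  refine (Algebra.cardinalMk_adjoin_le A _).trans ?_
  exact sup_le (sup_le (le_max_left _ _) hU) (le_max_right _ _)

/-- the chain -/
noncomputable def chain (E : Subalgebra A B) : ℕ → Subalgebra A B
  | 0 => E
  | m + 1 => next (chain E m)

lemma chain_mono (E : Subalgebra A B) : Monotone (chain E) :=
  monotone_nat_of_le_succ fun m => le_next (chain E m)

lemma card_chain (E : Subalgebra A B) (hE : #E ≤ max #A ℵ₀) :
    ∀ m, #(chain E m) ≤ max #A ℵ₀
  | 0 => hE
  | m + 1 => card_next _ (card_chain E hE m)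

theorem main (E : Subalgebra A B) (hE : #E ≤ max #A ℵ₀) :
    ∃ B' : Subalgebra A B, E ≤ B' ∧ Module.Flat A B' ∧ #B' ≤ max #A ℵ₀ := by
  refine ⟨⨆ m, chain E m, (le_iSup (chain E) 0 : chain E 0 ≤ _), ?_, ?_⟩
  · rw [Module.Flat.iff_forall_isTrivialRelation]
    intro l f x h
    have hcoe' : ((⨆ m, chain E m : Subalgebra A B) : Set B) = ⋃ m, (chain E m : Set B) :=
      Subalgebra.coe_iSup_of_directed (chain_mono E).directed_le
    have hmem : ∀ i, ∃ m, (x i : B) ∈ chain E m := fun i => by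
      have h0 : (x i : B) ∈ ((⨆ m, chain E m : Subalgebra A B) : Set B) := (x i).2
      rw [hcoe', Set.mem_iUnion] at h0
      exact h0
    choose m hm using hmem
    have hm0 : ∀ i, (x i : B) ∈ chain E (Finset.univ.sup m) := fun i =>
      chain_mono E (Finset.le_sup (Finset.mem_univ i)) (hm i)
    have hrel : ∑ i, f i • (x i : B) = 0 := by
      have := congrArg Subtype.val h
      simpa using this
    obtain ⟨k, a, y, hy, h1, h2⟩ :=
      next_spec (chain E (Finset.univ.sup m)) l f (fun i => (x i : B)) hm0 hrel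
    have hy' : ∀ j, y j ∈ ⨆ m, chain E m := fun j =>
      le_iSup (chain E) (Finset.univ.sup m + 1) (hy j)
    refine ⟨k, a, fun j => ⟨y j, hy' j⟩, fun i => Subtype.ext ?_, h2⟩
    rw [h1 i]
    simp
  · have hcoe : ((⨆ m, chain E m : Subalgebra A B) : Set B) = ⋃ m, (chain E m : Set B) :=
      Subalgebra.coe_iSup_of_directed (chain_mono E).directed_le
    have h1 : #(⨆ m, chain E m : Subalgebra A B) = #(⋃ m, (chain E m : Set B)) := by
      rw [← hcoe]; rfl
    rw [h1]
    have h2 := Cardinal.mk_iUnion_le_lift (fun m => (chain E m : Set B))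
    simp only [Cardinal.lift_id, Cardinal.mk_eq_aleph0, Cardinal.lift_aleph0,
      Cardinal.lift_id'] at h2
    refine h2.trans ?_
    have h3 : ⨆ m, #(chain E m : Set B) ≤ max #A ℵ₀ := ciSup_le' fun m => card_chain E hE m
    calc ℵ₀ * ⨆ m, #(chain E m : Set B) ≤ max #A ℵ₀ * max #A ℵ₀ :=
          mul_le_mul' (le_max_right _ _) h3
      _ = max #A ℵ₀ := kappa_mul_self

end FlatSub9
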