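import Mathlib
import Groth.Agent.Lib.LocalCrit5_helper9

/-! Flatness + faithful flatness modulo an ideal. -/

namespace Groth.Agent.Lib.FlatTFAE

open TensorProduct

universe u

variable (R S : Type u) [CommRing R] [CommRing S] [Algebra R S] (I : Ideal R)

lemma flat_quot [Module.Flat R S] : Module.Flat (R ⧸ I) (S ⧸ I.map (algebraMap R S)) :=
  (Groth.Agent.Lib.LocalCrit5.flat_tensor_iff_flat_quot I).mp inferInstance

lemma one_to_two (h : Module.FaithfullyFlat (R ⧸ I) (S ⧸ I.map (algebraMap R S))) :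
    Function.Surjective (PrimeSpectrum.comap (Ideal.quotientMap (I.map (algebraMap R S))
      (algebraMap R S) Ideal.le_comap_map)) :=
  PrimeSpectrum.comap_surjective_of_faithfullyFlat (A := R ⧸ I) (B := S ⧸ I.map (algebraMap R S))

/-- a proper ideal containing `I` extends to a proper ideal of `S`. -/
lemma map_ne_top (h2 : Function.Surjective (PrimeSpectrum.comap (Ideal.quotientMap
      (I.map (algebraMap R S)) (algebraMap R S) Ideal.le_comap_map)))
    (J : Ideal R) (hIJ : I ≤ J) (hJ : J ≠ ⊤) : J.map (algebraMap R S) ≠ ⊤ := by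
  obtain ⟨𝔪, h𝔪, hJ𝔪⟩ := Ideal.exists_le_maximal J hJ
  have hker : RingHom.ker (Ideal.Quotient.mk I) ≤ 𝔪 := by
    rw [Ideal.mk_ker]; exact hIJ.trans hJ𝔪
  haveI : (𝔪.map (Ideal.Quotient.mk I)).IsPrime :=
    Ideal.map_isPrime_of_surjective Ideal.Quotient.mk_surjective hker
  obtain ⟨Q, hQ⟩ := h2 ⟨𝔪.map (Ideal.Quotient.mk I), inferInstance⟩
  have hQ' : Q.asIdeal.comap (Ideal.quotientMap (I.map (algebraMap R S)) (algebraMap R S)
      Ideal.le_comap_map) = 𝔪.map (Ideal.Quotient.mk I) := by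
    have := congrArg PrimeSpectrum.asIdeal hQ
    exact this
  have hle : J.map (algebraMap R S) ≤ Q.asIdeal.comap (Ideal.Quotient.mk _) := by
    rw [Ideal.map_le_iff_le_comap]
    intro r hr
    rw [Ideal.mem_comap, Ideal.mem_comap]
    have h1 : Ideal.Quotient.mk I r ∈ 𝔪.map (Ideal.Quotient.mk I) :=
      Ideal.mem_map_of_mem _ (hJ𝔪 hr)
    rw [← hQ', Ideal.mem_comap, Ideal.quotientMap_mk] at h1
    exact h1
  intro htop
  rw [htop, top_le_iff] at hle
  exact (Ideal.IsPrime.comap (Ideal.Quotient.mk _) (K := Q.asIdeal)).ne_top hle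

lemma two_to_three [Module.Flat R S]
    (h2 : Function.Surjective (PrimeSpectrum.comap (Ideal.quotientMap
      (I.map (algebraMap R S)) (algebraMap R S) Ideal.le_comap_map)))
    (M : Type u) [AddCommGroup M] [Module R M] (hM : ∀ (a : R) (m : M), a ∈ I → a • m = 0)
    [Nontrivial M] : Nontrivial (S ⊗[R] M) := by
  obtain ⟨m, hm⟩ := exists_ne (0 : M)
  set J : Ideal R := LinearMap.ker (LinearMap.toSpanSingleton R M m) with hJ
  have hIJ : I ≤ J := by
    intro a ha
    rw [hJ, LinearMap.mem_ker, LinearMap.toSpanSingleton_apply]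
    exact hM a m ha
  have hJtop : J ≠ ⊤ := by
    intro h
    have : (1 : R) ∈ J := by rw [h]; trivial
    rw [hJ, LinearMap.mem_ker, LinearMap.toSpanSingleton_apply, one_smul] at this
    exact hm this
  have hne := map_ne_top R S I h2 J hIJ hJtop
  let f : R ⧸ J →ₗ[R] M := Submodule.liftQ J (LinearMap.toSpanSingleton R M m) le_rfl
  have hf : Function.Injective f := by
    rw [← LinearMap.ker_eq_bot, Submodule.ker_liftQ_eq_bot]
    exact le_rfl
  have hf2 := Module.Flat.lTensor_preserves_injective_linearMap (M := S) f hf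
  have h1 : (1 : S) ⊗ₜ[R] (Ideal.Quotient.mk J 1) ≠ 0 := by
    intro h0
    have := congrArg (TensorProduct.tensorQuotEquivQuotSMul S J) h0
    rw [TensorProduct.tensorQuotEquivQuotSMul_tmul_mk, map_zero, one_smul,
      Submodule.Quotient.mk_eq_zero, Ideal.smul_top_eq_map] at this
    apply hne
    rw [Ideal.eq_top_iff_one]
    exact this
  refine ⟨⟨f.lTensor S ((1 : S) ⊗ₜ[R] (Ideal.Quotient.mk J 1)), 0, ?_⟩⟩
  intro h0
  exact h1 (hf2 (h0.trans (map_zero _).symm))

lemma three_to_four [Module.Flat R S]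
    (h3 : ∀ (M : Type u) [AddCommGroup M] [Module R M],
      (∀ (a : R) (m : M), a ∈ I → a • m = 0) → Nontrivial M → Nontrivial (S ⊗[R] M))
    (M : Type u) [AddCommGroup M] [Module R M]
    (hM : ∀ m : M, ∃ n : ℕ, ∀ a ∈ I ^ n, a • m = 0) [Nontrivial M] : Nontrivial (S ⊗[R] M) := by
  classical
  obtain ⟨m, hm⟩ := exists_ne (0 : M)
  -- the submodule killed by `I`
  let T : Submodule R M :=
    { carrier := {x | ∀ a ∈ I, a • x = 0}
      add_mem' := fun {x y} hx hy a ha => by rw [smul_add, hx a ha, hy a ha, add_zero]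
      zero_mem' := fun a _ => smul_zero a
      smul_mem' := fun c x hx a ha => by rw [smul_comm, hx a ha, smul_zero] }
  -- `T` is nontrivial
  have hT : Nontrivial T := by
    have hex : ∃ n, ∀ a ∈ I ^ n, a • m = 0 := hM m
    have hn0 : Nat.find hex ≠ 0 := by
      intro h0
      have := Nat.find_spec hex 1 (by rw [h0, pow_zero, Ideal.one_eq_top]; exact Submodule.mem_top)
      rw [one_smul] at this
      exact hm this
    obtain ⟨k, hk⟩ := Nat.exists_eq_succ_of_ne_zero hn0
    have hk' : ¬ ∀ a ∈ I ^ k, a • m = 0 := Nat.find_min hex (by omega)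
    push Not at hk'
    obtain ⟨a, ha, ham⟩ := hk'
    refine ⟨⟨⟨a • m, ?_⟩, 0, ?_⟩⟩
    · intro b hb
      rw [smul_smul]
      apply Nat.find_spec hex
      rw [hk, pow_succ']
      exact Ideal.mul_mem_mul hb ha
    · intro h0
      exact ham (congrArg Subtype.val h0)
  have h4 := h3 T (fun a x ha => Subtype.ext (x.2 a ha)) hT
  have hinj := Module.Flat.lTensor_preserves_injective_linearMap (M := S) T.subtype
    T.injective_subtype
  exact hinj.nontrivial

lemma three_to_one [Module.Flat R S]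
    (h3 : ∀ (M : Type u) [AddCommGroup M] [Module R M],
      (∀ (a : R) (m : M), a ∈ I → a • m = 0) → Nontrivial M → Nontrivial (S ⊗[R] M)) :
    Module.FaithfullyFlat (R ⧸ I) (S ⧸ I.map (algebraMap R S)) := by
  haveI := flat_quot R S I
  refine ⟨fun 𝔪b h𝔪b htop => ?_⟩
  set 𝔪 : Ideal R := 𝔪b.comap (Ideal.Quotient.mk I) with h𝔪
  haveI : 𝔪.IsMaximal := Ideal.comap_isMaximal_of_surjective _ Ideal.Quotient.mk_surjective
  have hI𝔪 : I ≤ 𝔪 := by
    intro a ha
    rw [h𝔪, Ideal.mem_comap, Ideal.Quotient.eq_zero_iff_mem.mpr ha]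
    exact zero_mem _
  have hnt : Nontrivial (R ⧸ 𝔪) := Ideal.Quotient.nontrivial_iff.mpr (Ideal.IsMaximal.ne_top ‹_›)
  have h4 := h3 (R ⧸ 𝔪) (fun a x ha => by
    obtain ⟨x, rfl⟩ := Ideal.Quotient.mk_surjective x
    rw [Algebra.smul_def, Ideal.Quotient.algebraMap_eq, ← map_mul,
      Ideal.Quotient.eq_zero_iff_mem]
    exact Ideal.mul_mem_right _ _ (hI𝔪 ha)) hnt
  have h5 : 𝔪.map (algebraMap R S) ≠ ⊤ := by
    intro h
    have e := TensorProduct.tensorQuotEquivQuotSMul S 𝔪
    have hsub : Subsingleton (S ⧸ (𝔪 • ⊤ : Submodule R S)) := by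
      rw [Submodule.Quotient.subsingleton_iff, Ideal.smul_top_eq_map, h]
      rfl
    exact not_subsingleton _ (e.toEquiv.subsingleton)
  apply h5
  -- `1 ∈ 𝔪b • ⊤` gives `1 ∈ 𝔪 S`
  have h6 : ∀ y ∈ (𝔪b • ⊤ : Submodule (R ⧸ I) (S ⧸ I.map (algebraMap R S))),
      ∃ z ∈ 𝔪.map (algebraMap R S), Ideal.Quotient.mk _ z = y := by
    intro y hy
    refine Submodule.smul_induction_on hy ?_ ?_
    · intro r hr x _
      obtain ⟨r, rfl⟩ := Ideal.Quotient.mk_surjective r
      obtain ⟨x, rfl⟩ := Ideal.Quotient.mk_surjective x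
      refine ⟨algebraMap R S r * x, Ideal.mul_mem_right _ _ (Ideal.mem_map_of_mem _ hr), ?_⟩
      rw [Ideal.Quotient.mk_smul_mk_quotient_map_quotient]
    · intro x y hx hy
      obtain ⟨z1, hz1, rfl⟩ := hx
      obtain ⟨z2, hz2, rfl⟩ := hy
      exact ⟨z1 + z2, add_mem hz1 hz2, map_add _ _ _⟩
  obtain ⟨z, hz, hz1⟩ := h6 1 (by rw [htop]; trivial)
  rw [Ideal.eq_top_iff_one]
  have h7 : (1 : S) - z ∈ I.map (algebraMap R S) := by
    rw [← Ideal.Quotient.eq_zero_iff_mem, map_sub, hz1, map_one, sub_self]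
  have h8 : (1 : S) = z + (1 - z) := by ring
  rw [h8]
  exact add_mem hz (Ideal.map_mono hI𝔪 h7)

end Groth.Agent.Lib.FlatTFAE
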