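import Mathlib
import Groth.Prelude.Def_PolLaw2
import Groth.Prelude.Def_SymTen
import Groth.Agent.Lib.FlatTS_helper1

/-!
# Flatness of `Γ^d_A(B)` for flat `B` (helper1)

`TS^d(L)` is a retract of `T^d(L)` for `L` finite free; for flat `B`, every relation in `TS^d(B)`
comes from a relation in some `TS^d(L)` by the factorisation lemma of `FlatTS_helper1`.
-/

set_option autoImplicit false
universe u
open scoped TensorProduct
open Module

namespace Groth.Agent.Lib.FlatTSH1

open Groth.Agent.Lib.GammaSpanH1 Groth.Agent.Lib.FreeCoefH1 Groth.Agent.Lib.FreeFactH1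
open Groth.Agent.Lib.SymNormH1 Groth.Agent.Lib.PolarH1
open Classical

section flatTS

variable {A : Type u} [CommRing A] {d : ℕ}

theorem flat_TS_free {κ : Type} [Fintype κ] [DecidableEq κ] :
    Module.Flat A (SymTen.TS A (κ → A) d) := by
  have e : Basis (ULift.{u} κ) A (κ → A) := (Pi.basisFun A κ).reindex Equiv.ulift.symm
  obtain ⟨ρ, hρ⟩ : ∃ ρ : (⨂[A] _ : Fin d, (κ → A)) →ₗ[A] SymTen.TS A (κ → A) d,
      PolLaw.postcomp ρ (SymTen.tpowLaw A (κ → A) d).law = (tauTS A (κ → A) d).law :=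
    ⟨ftil (d := d) e (tauTS A (κ → A) d).law, postcomp_ftil e _ (tauTS A (κ → A) d).homog⟩
  have hid : ρ ∘ₗ (SymTen.TS A (κ → A) d).val.toLinearMap = LinearMap.id := by
    apply LinearMap.ext_on (span_coeff_of_flat (B := κ → A) (d := d))
    rintro c ⟨S, _, _, z, ℓ, -, rfl⟩
    rw [LinearMap.comp_apply, LinearMap.id_apply]
    have h1 : (SymTen.TS A (κ → A) d).val.toLinearMap
        (ev _ ℓ ((tauTS A (κ → A) d).law.toFun' S z)) =
        ev _ ℓ ((SymTen.tpowLaw A (κ → A) d).law.toFun' S z) := coeff_tauTS S z ℓ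
    rw [h1, ← ev_lTensor]
    congr 1
    exact congrArg (fun L : (κ → A) →ₚₗ[A] SymTen.TS A (κ → A) d => L.toFun' S z) hρ
  haveI : Module.Free A (⨂[A] _ : Fin d, (κ → A)) := Module.Free.of_basis (eT (d := d) e)
  exact Module.Flat.of_retract _ _ hid

theorem flat_TS {B : Type u} [CommRing B] [Algebra A B] [Module.Flat A B] :
    Module.Flat A (SymTen.TS A B d) := by
  apply Module.Flat.of_forall_isTrivialRelation
  intro l f x hfx
  obtain ⟨κ, _, _, y, x', hx', hyx⟩ := exists_sym_lift_family l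
    (fun i => ((x i : SymTen.TS A B d) : ⨂[A] _ : Fin d, B)) (fun i => (x i).2)
  have hr : PiTensorProduct.map (fun _ => y) (∑ i, f i • x' i) = 0 := by
    show lmap y _ = 0
    rw [map_sum]
    simp only [map_smul, hyx]
    have := congrArg Subtype.val hfx
    simpa using this
  obtain ⟨κ₂, _, _, a, y₂, hu, hk⟩ := plist_all (A := A) (M := B) d κ y [∑ i, f i • x' i] (by
    intro w hw
    rw [List.mem_singleton] at hw
    rw [hw]
    exact hr)
  have hk' : ∑ i, f i • lmap a (x' i) = 0 := by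
    have h' : lmap a (∑ i, f i • x' i) = 0 := hk _ (List.mem_singleton_self _)
    rw [map_sum] at h'
    simpa only [map_smul] using h'
  have hmem : ∀ i, lmap a (x' i) ∈ SymTen.TS A (κ₂ → A) d := fun i => lmap_mem_TS a _ (hx' i)
  haveI : Module.Flat A (SymTen.TS A (κ₂ → A) d) := flat_TS_free
  have hrel : ∑ i, f i • (⟨lmap a (x' i), hmem i⟩ : SymTen.TS A (κ₂ → A) d) = 0 := by
    apply Subtype.ext
    simpa using hk'
  obtain ⟨k, c, y', h1, h2⟩ := Module.Flat.isTrivialRelation_of_sum_smul_eq_zero hrel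
  refine ⟨k, c, fun j => ⟨lmap y₂ (y' j).1, lmap_mem_TS y₂ _ (y' j).2⟩, fun i => Subtype.ext ?_, h2⟩
  have h3 := congrArg (fun t : SymTen.TS A (κ₂ → A) d =>
    lmap y₂ (t : ⨂[A] _ : Fin d, (κ₂ → A))) (h1 i)
  simp only at h3
  rw [← LinearMap.comp_apply, ← lmap_comp, ← hu, hyx] at h3
  rw [h3]
  simp [map_sum]

end flatTS

section main

variable {A : Type u} [CommRing A] {B : Type u} [CommRing B] [Algebra A B] {C : Type u} [CommRing C]
  [Algebra A C] {d : ℕ}

theorem postcomp_comp {M N N' N'' : Type u} [AddCommGroup M] [Module A M] [AddCommGroup N]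
    [Module A N] [AddCommGroup N'] [Module A N'] [AddCommGroup N''] [Module A N'']
    (g : N' →ₗ[A] N'') (f : N →ₗ[A] N') (F : M →ₚₗ[A] N) :
    PolLaw.postcomp (g ∘ₗ f) F = PolLaw.postcomp g (PolLaw.postcomp f F) := by
  apply PolynomialLaw.ext
  funext S _ _ x
  show (g ∘ₗ f).lTensor S (F.toFun' S x) = g.lTensor S (f.lTensor S (F.toFun' S x))
  rw [LinearMap.lTensor_comp, LinearMap.comp_apply]

theorem postcomp_id {M N : Type u} [AddCommGroup M] [Module A M] [AddCommGroup N]
    [Module A N] (F : M →ₚₗ[A] N) : PolLaw.postcomp LinearMap.id F = F := by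
  apply PolynomialLaw.ext
  funext S _ _ x
  show (LinearMap.id : N →ₗ[A] N).lTensor S (F.toFun' S x) = F.toFun' S x
  rw [LinearMap.lTensor_id, LinearMap.id_apply]

theorem main13729 (γ : PolLaw.MulLaw A B C d) (hγ : PolLaw.IsGammaD γ) [Module.Flat A B] :
    Module.Flat A C := by
  have hτ := isGammaD_tauTS (A := A) (B := B) d (Or.inl inferInstance)
  obtain ⟨φ, hφ, -⟩ := hγ _ (tauTS A B d)
  obtain ⟨ψ, hψ, -⟩ := hτ _ γ
  obtain ⟨i0, -, huniq⟩ := hγ _ γ
  have h1 : ψ.comp φ = i0 := huniq _ (by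
    show PolLaw.postcomp (ψ.comp φ).toLinearMap γ.law = γ.law
    rw [AlgHom.comp_toLinearMap, postcomp_comp]
    exact (congrArg (PolLaw.postcomp ψ.toLinearMap) hφ).trans hψ)
  have h2 : AlgHom.id A C = i0 := huniq _ (by
    show PolLaw.postcomp (AlgHom.id A C).toLinearMap γ.law = γ.law
    exact postcomp_id γ.law)
  haveI := flat_TS (A := A) (B := B) (d := d)
  refine Module.Flat.of_retract φ.toLinearMap ψ.toLinearMap ?_
  have h3 : ψ.comp φ = AlgHom.id A C := h1.trans h2.symm
  ext c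
  exact congrArg (fun t : C →ₐ[A] C => t c) h3

end main

end Groth.Agent.Lib.FlatTSH1
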