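import Mathlib

/-!
# Flatness of `P ⊗_C N` over `A` (helper8).  APPEND-ONLY once landed.
-/

set_option autoImplicit false
set_option linter.all false
set_option maxHeartbeats 1600000

open TensorProduct

universe u

namespace Groth.Agent.Lib.FlatTensH8

variable {A C : Type u} [CommRing A] [CommRing C] [Algebra A C]
variable {P N : Type u} [AddCommGroup P] [Module C P] [Module A P] [IsScalarTower A C P]
  [AddCommGroup N] [Module C N] [Module A N] [IsScalarTower A C N]

/-- If `P` is flat over `C` and the `C`-module `N` is flat over `A`, then `P ⊗_C N` is flat over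
`A`. -/
theorem flat_tensor [Module.Flat C P] [Module.Flat A N] : Module.Flat A (P ⊗[C] N) := by
  rw [Module.Flat.iff_lTensor_preserves_injective_linearMap]
  intro L L' _ _ _ _ f hf
  let eL := TensorProduct.AlgebraTensorModule.assoc A C C P N L
  let eL' := TensorProduct.AlgebraTensorModule.assoc A C C P N L'
  let g : N ⊗[A] L →ₗ[C] N ⊗[A] L' := TensorProduct.AlgebraTensorModule.lTensor C N f
  have hg : Function.Injective g := Module.Flat.lTensor_preserves_injective_linearMap f hf
  let k : P ⊗[C] (N ⊗[A] L) →ₗ[C] P ⊗[C] (N ⊗[A] L') := g.lTensor P
  have hk : Function.Injective k := Module.Flat.lTensor_preserves_injective_linearMap g hg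
  have hnat : ∀ z : (P ⊗[C] N) ⊗[A] L, eL' (f.lTensor (P ⊗[C] N) z) = k (eL z) := by
    intro z
    induction z using TensorProduct.induction_on with
    | zero => simp
    | tmul w l =>
      induction w using TensorProduct.induction_on with
      | zero => simp
      | tmul p n => rfl
      | add a b ha hb =>
        rw [TensorProduct.add_tmul, map_add, map_add, map_add, map_add, ha, hb]
    | add a b ha hb => rw [map_add, map_add, map_add, map_add, ha, hb]
  intro a b hab
  apply eL.injective
  apply hk
  rw [← hnat, ← hnat, hab]

end Groth.Agent.Lib.FlatTensH8
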