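import Mathlib
import Groth.Prelude
import Groth.Agent.Lib.FlatTens1_helper8
import Groth.Agent.Lib.ExtTens5_helper8

/-!
# Flatness of `p^*F ⊗ q^*G'` over a third scheme (helper8).  APPEND-ONLY once landed.
-/

set_option autoImplicit false
set_option linter.all false
set_option maxHeartbeats 1600000
set_option backward.isDefEq.respectTransparency false
set_option backward.isDefEq.respectTransparency.types false
set_option backward.defeqAttrib.useBackward true

universe u

open CategoryTheory AlgebraicGeometry TopologicalSpace Opposite TensorProduct IsLocalRing Limits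

namespace Groth.Agent.Lib.FlatTensH8

open Groth.Agent.Lib.AssTensH8

section S

variable {X Y Y' Z : Scheme.{u}} (f : X ⟶ Y) (g : Y' ⟶ Y) (h : Y' ⟶ Z)
  (F : X.Modules) [F.IsQuasicoherent] (G' : Y'.Modules) [G'.IsQuasicoherent]

/-- the stalk of `p^*F ⊗ q^*G'` at `x'` is `(p^*F)_{x'} ⊗_{O_{Y',q x'}} G'_{q x'}`. -/
theorem exists_stalkEquiv' (x' : ↥(pullback f g)) :
    letI := ((pullback.snd f g).stalkMap x').hom.toAlgebra
    letI := FlatMod.moduleStalkOver (pullback.snd f g)
      ((Scheme.Modules.pullback (pullback.fst f g)).obj F) x'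
    haveI : IsScalarTower (Y'.presheaf.stalk ((pullback.snd f g) x'))
        ((pullback f g).presheaf.stalk x')
        (((Scheme.Modules.pullback (pullback.fst f g)).obj F).presheaf.stalk x') :=
      IsScalarTower.of_algebraMap_smul fun _ _ => rfl
    Nonempty ((CohB1.tensorMod ((Scheme.Modules.pullback (pullback.fst f g)).obj F)
        ((Scheme.Modules.pullback (pullback.snd f g)).obj G')).presheaf.stalk x'
      ≃ₗ[(pullback f g).presheaf.stalk x']
      (((Scheme.Modules.pullback (pullback.fst f g)).obj F).presheaf.stalk x')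
        ⊗[Y'.presheaf.stalk ((pullback.snd f g) x')] (G'.presheaf.stalk ((pullback.snd f g) x'))) := by
  set q := pullback.snd f g with hq
  set P := (Scheme.Modules.pullback (pullback.fst f g)).obj F with hP
  letI := (q.stalkMap x').hom.toAlgebra
  letI := FlatMod.moduleStalkOver q P x'
  haveI : IsScalarTower (Y'.presheaf.stalk (q x')) ((pullback f g).presheaf.stalk x')
      (P.presheaf.stalk x') :=
    IsScalarTower.of_algebraMap_smul fun _ _ => rfl
  letI : Module (Y'.presheaf.stalk (q x'))
      (((Scheme.Modules.pullback q).obj G').presheaf.stalk x') :=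
    Module.compHom _ (q.stalkMap x').hom
  haveI : IsScalarTower (Y'.presheaf.stalk (q x')) ((pullback f g).presheaf.stalk x')
      (((Scheme.Modules.pullback q).obj G').presheaf.stalk x') :=
    IsScalarTower.of_algebraMap_smul fun _ _ => rfl
  have hb := PBH8.isBaseChange_cStalk q G' x'
  let e1 : (CohB1.tensorMod P ((Scheme.Modules.pullback q).obj G')).presheaf.stalk x'
      ≃ₗ[(pullback f g).presheaf.stalk x']
      (P.presheaf.stalk x') ⊗[(pullback f g).presheaf.stalk x']
        (((Scheme.Modules.pullback q).obj G').presheaf.stalk x') :=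
    (Groth.Agent.Lib.StalkTensH3.stalkTensorIso x' P
      ((Scheme.Modules.pullback q).obj G')).toLinearEquiv
  exact ⟨e1.trans ((TensorProduct.comm _ _ _).trans (tensEquiv (PBH8.cStalkLin q G' x') hb))⟩

theorem main4678 (x' : ↥(pullback f g))
    (hFx : FlatMod.IsFlatOverAt f F (pullback.fst f g x'))
    (hGy : FlatMod.IsFlatOverAt h G' (pullback.snd f g x')) :
    FlatMod.IsFlatOverAt (pullback.snd f g ≫ h)
      (CohB1.tensorMod ((Scheme.Modules.pullback (pullback.fst f g)).obj F)
        ((Scheme.Modules.pullback (pullback.snd f g)).obj G')) x' := by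
  have hc : IsPullback (pullback.fst f g) (pullback.snd f g) f g := IsPullback.of_hasPullback f g
  have hPfl : FlatMod.IsFlatOverAt (pullback.snd f g)
      ((Scheme.Modules.pullback (pullback.fst f g)).obj F) x' :=
    FlatBC2H8.isFlatOverAt_pullback hc F x' hFx
  set q := pullback.snd f g with hq
  set P := (Scheme.Modules.pullback (pullback.fst f g)).obj F with hP
  letI algCD : Algebra (Y'.presheaf.stalk (q x')) ((pullback f g).presheaf.stalk x') :=
    (q.stalkMap x').hom.toAlgebra
  letI algAC : Algebra (Z.presheaf.stalk (h (q x'))) (Y'.presheaf.stalk (q x')) :=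
    (h.stalkMap (q x')).hom.toAlgebra
  letI algAD : Algebra (Z.presheaf.stalk (h (q x'))) ((pullback f g).presheaf.stalk x') :=
    ((q ≫ h).stalkMap x').hom.toAlgebra
  haveI : IsScalarTower (Z.presheaf.stalk (h (q x'))) (Y'.presheaf.stalk (q x'))
      ((pullback f g).presheaf.stalk x') :=
    IsScalarTower.of_algebraMap_eq (fun a => by
      show ((q ≫ h).stalkMap x').hom a = (q.stalkMap x').hom ((h.stalkMap (q x')).hom a)
      rw [Scheme.Hom.stalkMap_comp]
      rfl)
  letI modCP := FlatMod.moduleStalkOver q P x'
  letI modAP : Module (Z.presheaf.stalk (h (q x'))) (P.presheaf.stalk x') :=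
    Module.compHom _ ((q ≫ h).stalkMap x').hom
  haveI : IsScalarTower (Y'.presheaf.stalk (q x')) ((pullback f g).presheaf.stalk x')
      (P.presheaf.stalk x') :=
    IsScalarTower.of_algebraMap_smul fun _ _ => rfl
  haveI : IsScalarTower (Z.presheaf.stalk (h (q x'))) ((pullback f g).presheaf.stalk x')
      (P.presheaf.stalk x') :=
    IsScalarTower.of_algebraMap_smul fun _ _ => rfl
  haveI : IsScalarTower (Z.presheaf.stalk (h (q x'))) (Y'.presheaf.stalk (q x'))
      (P.presheaf.stalk x') :=
    IsScalarTower.of_algebraMap_smul (fun a m => by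
      show (q.stalkMap x').hom ((h.stalkMap (q x')).hom a) • m = ((q ≫ h).stalkMap x').hom a • m
      rw [Scheme.Hom.stalkMap_comp]
      rfl)
  letI modAN := FlatMod.moduleStalkOver h G' (q x')
  haveI : IsScalarTower (Z.presheaf.stalk (h (q x'))) (Y'.presheaf.stalk (q x'))
      (G'.presheaf.stalk (q x')) :=
    IsScalarTower.of_algebraMap_smul fun _ _ => rfl
  haveI : Module.Flat (Y'.presheaf.stalk (q x')) (P.presheaf.stalk x') := hPfl
  haveI : Module.Flat (Z.presheaf.stalk (h (q x'))) (G'.presheaf.stalk (q x')) := hGy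
  have hflat : Module.Flat (Z.presheaf.stalk (h (q x')))
      ((P.presheaf.stalk x') ⊗[Y'.presheaf.stalk (q x')] (G'.presheaf.stalk (q x'))) :=
    flat_tensor
  obtain ⟨e⟩ := exists_stalkEquiv' f g F G' x'
  unfold FlatMod.IsFlatOverAt
  letI modAH : Module (Z.presheaf.stalk (h (q x')))
      ((CohB1.tensorMod P ((Scheme.Modules.pullback q).obj G')).presheaf.stalk x') :=
    Module.compHom _ ((q ≫ h).stalkMap x').hom
  haveI : IsScalarTower (Z.presheaf.stalk (h (q x'))) ((pullback f g).presheaf.stalk x')
      ((CohB1.tensorMod P ((Scheme.Modules.pullback q).obj G')).presheaf.stalk x') :=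
    IsScalarTower.of_algebraMap_smul fun _ _ => rfl
  show @Module.Flat (Z.presheaf.stalk (h (q x')))
    ((CohB1.tensorMod P ((Scheme.Modules.pullback q).obj G')).presheaf.stalk x') _ _ modAH
  exact Module.Flat.of_linearEquiv (e.restrictScalars (Z.presheaf.stalk (h (q x'))))

end S

end Groth.Agent.Lib.FlatTensH8
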