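import Mathlib
import Groth.Prelude
import Groth.Agent.Lib.FlatTens2_helper8

/-!
# Faithful flatness relative to the base is stable under base change (helper8).
APPEND-ONLY once landed.
-/

set_option autoImplicit false
set_option linter.all false
set_option maxHeartbeats 1600000
set_option backward.isDefEq.respectTransparency false
set_option backward.isDefEq.respectTransparency.types false
set_option backward.defeqAttrib.useBackward true

universe u

open CategoryTheory AlgebraicGeometry TopologicalSpace Opposite TensorProduct IsLocalRing Limits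

namespace Groth.Agent.Lib.FlatTensH8

open Groth.Agent.Lib.AssTensH8 Groth.Agent.Lib.ExtTensH8

section fib

variable {X Y Y' : Scheme.{u}} (f : X ⟶ Y) (g : Y' ⟶ Y) (y' : Y')

/-- the map from the fibre of `X ×_Y Y' → Y'` over `y'` to the fibre of `f` over `g y'`. -/
noncomputable def fibMapS : (pullback.snd f g).fiber y' ⟶ f.fiber (g y') :=
  pullback.map _ _ _ _ (pullback.fst f g) (Spec.map (g.residueFieldMap y')) g
    (IsPullback.of_hasPullback f g).w.symm (by simp)

theorem isPullback_fibMapS :
    IsPullback (fibMapS f g y') ((pullback.snd f g).fiberToSpecResidueField y')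
      (f.fiberToSpecResidueField (g y')) (Spec.map (g.residueFieldMap y')) :=
  isPullback_fiberToSpecResidueField_of_isPullback (IsPullback.of_hasPullback f g) y'

theorem fibMapS_fiberι :
    fibMapS f g y' ≫ f.fiberι (g y') = (pullback.snd f g).fiberι y' ≫ pullback.fst f g := by
  simp [fibMapS, Scheme.Hom.fiberι]

theorem flat_specMap_residueFieldMap : Flat (Spec.map (g.residueFieldMap y')) := by
  rw [Flat.SpecMap_iff]
  letI := (g.residueFieldMap y').hom.toAlgebra
  show Module.Flat _ _
  infer_instance

theorem surjective_specMap_residueFieldMap : Surjective (Spec.map (g.residueFieldMap y')) := by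
  refine ⟨fun a => ?_⟩
  obtain ⟨b⟩ : Nonempty ↥(Spec (Y'.residueField y')) := inferInstance
  exact ⟨b, Subsingleton.elim _ _⟩

instance flat_fibMapS : Flat (fibMapS f g y') :=
  MorphismProperty.of_isPullback (P := @Flat) (isPullback_fibMapS f g y').flip
    (flat_specMap_residueFieldMap g y')

instance surjective_fibMapS : Surjective (fibMapS f g y') :=
  MorphismProperty.of_isPullback (P := @Surjective) (isPullback_fibMapS f g y').flip
    (surjective_specMap_residueFieldMap g y')

/-- `(p^*F)|_{q⁻¹(y')} ≅ ρ^*(F|_{f⁻¹(g y')})`. -/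
noncomputable def fibModIsoS (F : X.Modules) :
    (Scheme.Modules.pullback ((pullback.snd f g).fiberι y')).obj
        ((Scheme.Modules.pullback (pullback.fst f g)).obj F) ≅
      (Scheme.Modules.pullback (fibMapS f g y')).obj
        ((Scheme.Modules.pullback (f.fiberι (g y'))).obj F) :=
  (Scheme.Modules.pullbackComp _ _).app F ≪≫
    (Scheme.Modules.pullbackCongr (fibMapS_fiberι f g y').symm).app F ≪≫
      ((Scheme.Modules.pullbackComp _ _).app F).symm

end fib

section ringlem

variable {R S : Type u} [CommRing R] [CommRing S] [Algebra R S]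
variable {N : Type u} [AddCommGroup N] [Module S N] [Module R N] [IsScalarTower R S N]

theorem length_quot_ne_zero_iff (I : Ideal R) :
    Module.length S (N ⧸ I.map (algebraMap R S) • (⊤ : Submodule S N)) ≠ 0 ↔
      I • (⊤ : Submodule R N) ≠ ⊤ := by
  rw [Ne, Module.length_eq_zero_iff, not_subsingleton_iff_nontrivial,
    Submodule.Quotient.nontrivial_iff]
  refine not_congr ?_
  rw [eq_top_iff, eq_top_iff]
  constructor
  · intro h m _
    exact (Groth.Agent.Lib.RelAssAlg.mem_map_smul_top_iff R I m).1 (h trivial)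
  · intro h m _
    exact (Groth.Agent.Lib.RelAssAlg.mem_map_smul_top_iff R I m).2 (h trivial)

end ringlem

section pt

theorem fibLen_ne_zero_iff {X Y : Scheme.{u}} (f : X ⟶ Y) (F : X.Modules) (x : X) :
    fibLen f F x ≠ 0 ↔
      (letI := FlatMod.moduleStalkOver f F x
      IsLocalRing.maximalIdeal (Y.presheaf.stalk (f x)) •
        (⊤ : Submodule (Y.presheaf.stalk (f x)) (F.presheaf.stalk x)) ≠ ⊤) := by
  letI := (f.stalkMap x).hom.toAlgebra
  letI := FlatMod.moduleStalkOver f F x
  haveI : IsScalarTower (Y.presheaf.stalk (f x)) (X.presheaf.stalk x) (F.presheaf.stalk x) :=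
    IsScalarTower.of_algebraMap_smul fun _ _ => rfl
  exact length_quot_ne_zero_iff (S := X.presheaf.stalk x) (N := F.presheaf.stalk x)
    (IsLocalRing.maximalIdeal (Y.presheaf.stalk (f x)))

theorem fibLen_congr {X Y : Scheme.{u}} (f : X ⟶ Y) (F : X.Modules) {x₁ x₂ : X} (h : x₁ = x₂) :
    fibLen f F x₁ = fibLen f F x₂ := by subst h; rfl

theorem nontrivial_stalk_of_iso {X : Scheme.{u}} {M N : X.Modules} (e : M ≅ N) (x : X)
    [Nontrivial (M.presheaf.stalk x)] : Nontrivial (N.presheaf.stalk x) := by
  have e' : M.presheaf.stalk x ≃ₗ[X.presheaf.stalk x] N.presheaf.stalk x :=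
    ((DerSch.stalkFunctor X x).mapIso e).toLinearEquiv
  exact e'.symm.toEquiv.nontrivial

theorem nontrivial_stalk_pullback_of_flat {V W : Scheme.{u}} (r : V ⟶ W) (E : W.Modules)
    [E.IsQuasicoherent] (v : V) (hfl : (r.stalkMap v).hom.Flat)
    (hnt : Nontrivial (E.presheaf.stalk (r v))) :
    Nontrivial (((Scheme.Modules.pullback r).obj E).presheaf.stalk v) := by
  letI := (r.stalkMap v).hom.toAlgebra
  letI : Module (W.presheaf.stalk (r v))
      (((Scheme.Modules.pullback r).obj E).presheaf.stalk v) :=
    Module.compHom _ (r.stalkMap v).hom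
  haveI : IsScalarTower (W.presheaf.stalk (r v)) (V.presheaf.stalk v)
      (((Scheme.Modules.pullback r).obj E).presheaf.stalk v) :=
    IsScalarTower.of_algebraMap_smul fun _ _ => rfl
  have hb := PBH8.isBaseChange_cStalk r E v
  haveI : Module.Flat (W.presheaf.stalk (r v)) (V.presheaf.stalk v) := hfl
  haveI : IsLocalHom (algebraMap (W.presheaf.stalk (r v)) (V.presheaf.stalk v)) :=
    (inferInstance : IsLocalHom (r.stalkMap v).hom)
  haveI : Module.FaithfullyFlat (W.presheaf.stalk (r v)) (V.presheaf.stalk v) :=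
    Module.FaithfullyFlat.of_flat_of_isLocalHom
  haveI : Nontrivial ((V.presheaf.stalk v) ⊗[W.presheaf.stalk (r v)] (E.presheaf.stalk (r v))) :=
    inferInstance
  exact hb.equiv.symm.toEquiv.nontrivial

theorem nontrivial_stalk_congr {W : Scheme.{u}} (E : W.Modules) {w₁ w₂ : W} (h : w₁ = w₂)
    (hnt : Nontrivial (E.presheaf.stalk w₁)) : Nontrivial (E.presheaf.stalk w₂) := h ▸ hnt

end pt

section main

variable {X Y Y' : Scheme.{u}} (f : X ⟶ Y) (g : Y' ⟶ Y) (F : X.Modules) [F.IsQuasicoherent]

theorem exists_point_of_fibLen (y' : Y') (x : X) (hx : f x = g y') (hne : fibLen f F x ≠ 0) :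
    ∃ x' : ↥(pullback f g), (pullback.snd f g) x' = y' ∧ (pullback.fst f g) x' = x ∧
      fibLen (pullback.snd f g) ((Scheme.Modules.pullback (pullback.fst f g)).obj F) x' ≠ 0 := by
  obtain ⟨xt, hxt⟩ : ∃ xt : ↥(f.fiber (g y')), (f.fiberι (g y')) xt = x := by
    have h2 : x ∈ Set.range (f.fiberι (g y')) := by
      rw [f.range_fiberι]
      exact hx
    exact h2
  have h1 : Module.length ((f.fiber (g y')).presheaf.stalk xt)
      (((Scheme.Modules.pullback (f.fiberι (g y'))).obj F).presheaf.stalk xt) ≠ 0 := by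
    rw [length_fiber f F (g y') xt, fibLen_congr f F hxt]
    exact hne
  have hnt1 : Nontrivial (((Scheme.Modules.pullback (f.fiberι (g y'))).obj F).presheaf.stalk xt) := by
    rw [Ne, Module.length_eq_zero_iff, not_subsingleton_iff_nontrivial] at h1
    exact h1
  obtain ⟨xt', hxt'⟩ := (fibMapS f g y').surjective xt
  have hnt2 := nontrivial_stalk_pullback_of_flat (fibMapS f g y')
    ((Scheme.Modules.pullback (f.fiberι (g y'))).obj F) xt' (Flat.stalkMap (fibMapS f g y') xt')
    (nontrivial_stalk_congr _ hxt'.symm hnt1)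
  haveI := hnt2
  have hnt3 := nontrivial_stalk_of_iso (fibModIsoS f g y' F).symm xt'
  refine ⟨((pullback.snd f g).fiberι y') xt', fiberι_mem _ _ _, ?_, ?_⟩
  · have h3 := congrArg (fun m => m.base xt') (fibMapS_fiberι f g y')
    have h3' : (f.fiberι (g y')) ((fibMapS f g y') xt') =
        (pullback.fst f g) (((pullback.snd f g).fiberι y') xt') := h3
    rw [← h3', hxt', hxt]
  · haveI : ((Scheme.Modules.pullback (pullback.fst f g)).obj F).IsQuasicoherent :=
      PBH8.isQuasicoherent_pullback _ _
    rw [← length_fiber (pullback.snd f g) _ y' xt', Ne, Module.length_eq_zero_iff,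
      not_subsingleton_iff_nontrivial]
    exact hnt3

theorem main4680 (hFfl : FlatMod.IsFlatOver f F)
    (hFff : (∀ y : ↥Y, ∃ x : ↥X, f x = y ∧
      letI := FlatMod.moduleStalkOver f F x
      IsLocalRing.maximalIdeal (Y.presheaf.stalk (f x)) •
        (⊤ : Submodule (Y.presheaf.stalk (f x)) (F.presheaf.stalk x)) ≠ ⊤)) :
    FlatMod.IsFlatOver (pullback.snd f g) ((Scheme.Modules.pullback (pullback.fst f g)).obj F) ∧
      (∀ y' : ↥Y', ∃ x' : ↥(pullback f g), (pullback.snd f g) x' = y' ∧
      letI := FlatMod.moduleStalkOver (pullback.snd f g)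
        ((Scheme.Modules.pullback (pullback.fst f g)).obj F) x'
      IsLocalRing.maximalIdeal (Y'.presheaf.stalk ((pullback.snd f g) x')) •
        (⊤ : Submodule (Y'.presheaf.stalk ((pullback.snd f g) x'))
          (((Scheme.Modules.pullback (pullback.fst f g)).obj F).presheaf.stalk x')) ≠ ⊤) := by
  refine ⟨fun x' => FlatBC2H8.isFlatOverAt_pullback (IsPullback.of_hasPullback f g) F x' (hFfl _),
    ?_⟩
  intro y'
  obtain ⟨x, hx, hne⟩ := hFff (g y')
  obtain ⟨x', h1, -, h3⟩ := exists_point_of_fibLen f g F y' x hx ((fibLen_ne_zero_iff f F x).2 hne)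
  exact ⟨x', h1, (fibLen_ne_zero_iff _ _ x').1 h3⟩

end main

end Groth.Agent.Lib.FlatTensH8
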