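import Mathlib
import Groth.Agent.Lib.FlatTens1_helper8
import Groth.Agent.Lib.RelAssAlg1_helper2

/-!
# Descent of flatness along `P ⊗_C -` for `P` faithfully flat (helper8).  APPEND-ONLY once landed.
-/

set_option autoImplicit false
set_option linter.all false
set_option maxHeartbeats 1600000

open TensorProduct

universe u

namespace Groth.Agent.Lib.FlatTensH8

variable {A C : Type u} [CommRing A] [CommRing C] [Algebra A C]
variable {P N : Type u} [AddCommGroup P] [Module C P] [Module A P] [IsScalarTower A C P]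
  [AddCommGroup N] [Module C N] [Module A N] [IsScalarTower A C N]

/-- If `P` is faithfully flat over `C` and `P ⊗_C N` is flat over `A`, then `N` is flat over `A`. -/
theorem flat_of_flat_tensor [Module.FaithfullyFlat C P] (h : Module.Flat A (P ⊗[C] N)) :
    Module.Flat A N := by
  rw [Module.Flat.iff_lTensor_preserves_injective_linearMap]
  intro L L' _ _ _ _ f hf
  let eL := TensorProduct.AlgebraTensorModule.assoc A C C P N L
  let eL' := TensorProduct.AlgebraTensorModule.assoc A C C P N L'
  let g : N ⊗[A] L →ₗ[C] N ⊗[A] L' := TensorProduct.AlgebraTensorModule.lTensor C N f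
  let k : P ⊗[C] (N ⊗[A] L) →ₗ[C] P ⊗[C] (N ⊗[A] L') := g.lTensor P
  have hnat : ∀ z : (P ⊗[C] N) ⊗[A] L, eL' (f.lTensor (P ⊗[C] N) z) = k (eL z) := by
    intro z
    induction z using TensorProduct.induction_on with
    | zero => simp
    | tmul w l =>
      induction w using TensorProduct.induction_on with
      | zero => simp
      | tmul p n => rfl
      | add a b ha hb =>
        rw [TensorProduct.add_tmul, map_add, map_add, map_add, map_add, ha, hb]
    | add a b ha hb => rw [map_add, map_add, map_add, map_add, ha, hb]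
  have hinj : Function.Injective (f.lTensor (P ⊗[C] N)) :=
    Module.Flat.lTensor_preserves_injective_linearMap f hf
  have hk : Function.Injective k := by
    intro a b hab
    obtain ⟨a', rfl⟩ := eL.surjective a
    obtain ⟨b', rfl⟩ := eL.surjective b
    rw [← hnat, ← hnat] at hab
    rw [hinj (eL'.injective hab)]
  have hg : Function.Injective g :=
    (Module.FaithfullyFlat.lTensor_injective_iff_injective C P g).1 hk
  exact hg

theorem smul_tmul_eq (a : A) (p : P) (n : N) : a • (p ⊗ₜ[C] n) = p ⊗ₜ[C] (a • n) := by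
  rw [← algebraMap_smul C a n, TensorProduct.tmul_smul, algebraMap_smul]

theorem tmul_mem_smul_top (I : Ideal A) (h : I • (⊤ : Submodule A N) = ⊤) (p : P) (n : N) :
    p ⊗ₜ[C] n ∈ I • (⊤ : Submodule A (P ⊗[C] N)) := by
  have hn : n ∈ I • (⊤ : Submodule A N) := by rw [h]; trivial
  refine Submodule.smul_induction_on (p := fun n => p ⊗ₜ[C] n ∈ I • (⊤ : Submodule A (P ⊗[C] N)))
    hn ?_ ?_
  · intro a ha n' _
    rw [← smul_tmul_eq]
    exact Submodule.smul_mem_smul ha trivial
  · intro x y hx hy
    rw [TensorProduct.tmul_add]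
    exact Submodule.add_mem _ hx hy

theorem smul_top_tensor_eq_top (I : Ideal A) (h : I • (⊤ : Submodule A N) = ⊤) :
    I • (⊤ : Submodule A (P ⊗[C] N)) = ⊤ := by
  have key : ∀ w : P ⊗[C] N, w ∈ I • (⊤ : Submodule A (P ⊗[C] N)) := by
    intro w
    induction w using TensorProduct.induction_on with
    | zero => exact Submodule.zero_mem _
    | tmul p n => exact tmul_mem_smul_top I h p n
    | add x y hx hy => exact Submodule.add_mem _ hx hy
  rw [eq_top_iff]
  intro w _
  exact key w

theorem lTensor_mkQ_smul_eq_zero (I : Ideal A) (a : A) (ha : a ∈ I) (w : P ⊗[C] N) :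
    (((I.map (algebraMap A C)) • (⊤ : Submodule C N)).mkQ.lTensor P) (a • w) = 0 := by
  induction w using TensorProduct.induction_on with
  | zero => simp
  | tmul p n =>
    rw [smul_tmul_eq, LinearMap.lTensor_tmul]
    have hmem : a • n ∈ (I.map (algebraMap A C)) • (⊤ : Submodule C N) := by
      rw [← algebraMap_smul C a n]
      exact Submodule.smul_mem_smul (Ideal.mem_map_of_mem _ ha) trivial
    rw [Submodule.mkQ_apply, (Submodule.Quotient.mk_eq_zero _).2 hmem, TensorProduct.tmul_zero]
  | add x y hx hy => rw [smul_add, map_add, hx, hy, add_zero]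

theorem smul_top_eq_top_of_tensor [Module.FaithfullyFlat C P] (I : Ideal A)
    (h : I • (⊤ : Submodule A (P ⊗[C] N)) = ⊤) : I • (⊤ : Submodule A N) = ⊤ := by
  set Q : Submodule C N := (I.map (algebraMap A C)) • (⊤ : Submodule C N) with hQ
  have hsub : Subsingleton (P ⊗[C] (N ⧸ Q)) := by
    have hzero : ∀ w : P ⊗[C] N, (Q.mkQ.lTensor P) w = 0 := by
      intro w
      have hw : w ∈ I • (⊤ : Submodule A (P ⊗[C] N)) := by rw [h]; trivial
      refine Submodule.smul_induction_on (p := fun w => (Q.mkQ.lTensor P) w = 0) hw ?_ ?_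
      · intro a ha w' _
        exact lTensor_mkQ_smul_eq_zero I a ha w'
      · intro x y hx hy
        rw [map_add, hx, hy, add_zero]
    have hsurj : Function.Surjective (Q.mkQ.lTensor P) :=
      LinearMap.lTensor_surjective P (Submodule.mkQ_surjective Q)
    refine ⟨fun a b => ?_⟩
    obtain ⟨a', rfl⟩ := hsurj a
    obtain ⟨b', rfl⟩ := hsurj b
    rw [hzero, hzero]
  haveI := hsub
  haveI : Subsingleton (N ⧸ Q) := Module.FaithfullyFlat.lTensor_reflects_triviality C P _
  have hQtop : Q = ⊤ := Submodule.Quotient.subsingleton_iff.1 inferInstance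
  rw [eq_top_iff]
  intro n _
  have hn : n ∈ Q := by rw [hQtop]; trivial
  exact (Groth.Agent.Lib.RelAssAlg.mem_map_smul_top_iff A I n).1 hn

theorem smul_top_eq_top_equiv {M M' : Type*} [AddCommGroup M] [Module A M] [AddCommGroup M']
    [Module A M'] (e : M ≃ₗ[A] M') (I : Ideal A) (h : I • (⊤ : Submodule A M) = ⊤) :
    I • (⊤ : Submodule A M') = ⊤ := by
  rw [eq_top_iff]
  intro m' _
  have hm : e.symm m' ∈ I • (⊤ : Submodule A M) := by rw [h]; trivial
  have h2 : e (e.symm m') ∈ Submodule.map e.toLinearMap (I • (⊤ : Submodule A M)) :=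
    Submodule.mem_map_of_mem hm
  rw [Submodule.map_smul'', e.apply_symm_apply] at h2
  exact Submodule.smul_mono (le_refl I) le_top h2

end Groth.Agent.Lib.FlatTensH8
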