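import Mathlib
import Groth.Prelude
import Groth.Agent.Lib.FlatTens3_helper8
import Groth.Agent.Lib.FlatTens4_helper8

/-!
# Faithful flatness of `p^*F ⊗ q^*G'` relative to a third scheme (helper8).
APPEND-ONLY once landed.
-/

set_option autoImplicit false
set_option linter.all false
set_option maxHeartbeats 1600000
set_option backward.isDefEq.respectTransparency false
set_option backward.isDefEq.respectTransparency.types false
set_option backward.defeqAttrib.useBackward true

universe u

open CategoryTheory AlgebraicGeometry TopologicalSpace Opposite TensorProduct IsLocalRing Limits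

namespace Groth.Agent.Lib.FlatTensH8

open Groth.Agent.Lib.AssTensH8 Groth.Agent.Lib.ExtTensH8

/-- `M_u ≠ m_{t u} M_u`. -/
def NonDeg {T B : Scheme.{u}} (t : T ⟶ B) (M : T.Modules) (u : T) : Prop :=
  letI := FlatMod.moduleStalkOver t M u
  IsLocalRing.maximalIdeal (B.presheaf.stalk (t u)) •
    (⊤ : Submodule (B.presheaf.stalk (t u)) (M.presheaf.stalk u)) ≠ ⊤

theorem nonDeg_congr {T B : Scheme.{u}} (t : T ⟶ B) (M : T.Modules) {u₁ u₂ : T} (h : u₁ = u₂)
    (hu : NonDeg t M u₁) : NonDeg t M u₂ := h ▸ hu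

theorem isFlatOverAt_congr {T B : Scheme.{u}} (t : T ⟶ B) (M : T.Modules) {u₁ u₂ : T}
    (h : u₁ = u₂) (hu : FlatMod.IsFlatOverAt t M u₁) : FlatMod.IsFlatOverAt t M u₂ := h ▸ hu

section S

variable {X Y Y' Z : Scheme.{u}} (f : X ⟶ Y) (g : Y' ⟶ Y) (h : Y' ⟶ Z)
  (F : X.Modules) [F.IsQuasicoherent] (G' : Y'.Modules) [G'.IsQuasicoherent]

theorem local_package (x' : ↥(pullback f g))
    (hPfl : FlatMod.IsFlatOverAt (pullback.snd f g)
      ((Scheme.Modules.pullback (pullback.fst f g)).obj F) x') :
    (NonDeg (pullback.snd f g) ((Scheme.Modules.pullback (pullback.fst f g)).obj F) x' →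
      FlatMod.IsFlatOverAt (pullback.snd f g ≫ h)
        (CohB1.tensorMod ((Scheme.Modules.pullback (pullback.fst f g)).obj F)
          ((Scheme.Modules.pullback (pullback.snd f g)).obj G')) x' →
      FlatMod.IsFlatOverAt h G' ((pullback.snd f g) x')) ∧
    (NonDeg (pullback.snd f g) ((Scheme.Modules.pullback (pullback.fst f g)).obj F) x' →
      NonDeg h G' ((pullback.snd f g) x') →
      NonDeg (pullback.snd f g ≫ h)
        (CohB1.tensorMod ((Scheme.Modules.pullback (pullback.fst f g)).obj F)
          ((Scheme.Modules.pullback (pullback.snd f g)).obj G')) x') ∧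
    (NonDeg (pullback.snd f g ≫ h)
        (CohB1.tensorMod ((Scheme.Modules.pullback (pullback.fst f g)).obj F)
          ((Scheme.Modules.pullback (pullback.snd f g)).obj G')) x' →
      NonDeg h G' ((pullback.snd f g) x')) := by
  set q := pullback.snd f g with hq
  set P := (Scheme.Modules.pullback (pullback.fst f g)).obj F with hP
  letI algCD : Algebra (Y'.presheaf.stalk (q x')) ((pullback f g).presheaf.stalk x') :=
    (q.stalkMap x').hom.toAlgebra
  letI algAC : Algebra (Z.presheaf.stalk (h (q x'))) (Y'.presheaf.stalk (q x')) :=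
    (h.stalkMap (q x')).hom.toAlgebra
  letI algAD : Algebra (Z.presheaf.stalk (h (q x'))) ((pullback f g).presheaf.stalk x') :=
    ((q ≫ h).stalkMap x').hom.toAlgebra
  haveI : IsScalarTower (Z.presheaf.stalk (h (q x'))) (Y'.presheaf.stalk (q x'))
      ((pullback f g).presheaf.stalk x') :=
    IsScalarTower.of_algebraMap_eq (fun a => by
      show ((q ≫ h).stalkMap x').hom a = (q.stalkMap x').hom ((h.stalkMap (q x')).hom a)
      rw [Scheme.Hom.stalkMap_comp]
      rfl)
  letI modCP := FlatMod.moduleStalkOver q P x'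
  letI modAP : Module (Z.presheaf.stalk (h (q x'))) (P.presheaf.stalk x') :=
    Module.compHom _ ((q ≫ h).stalkMap x').hom
  haveI : IsScalarTower (Y'.presheaf.stalk (q x')) ((pullback f g).presheaf.stalk x')
      (P.presheaf.stalk x') :=
    IsScalarTower.of_algebraMap_smul fun _ _ => rfl
  haveI : IsScalarTower (Z.presheaf.stalk (h (q x'))) ((pullback f g).presheaf.stalk x')
      (P.presheaf.stalk x') :=
    IsScalarTower.of_algebraMap_smul fun _ _ => rfl
  haveI : IsScalarTower (Z.presheaf.stalk (h (q x'))) (Y'.presheaf.stalk (q x'))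
      (P.presheaf.stalk x') :=
    IsScalarTower.of_algebraMap_smul (fun a m => by
      show (q.stalkMap x').hom ((h.stalkMap (q x')).hom a) • m = ((q ≫ h).stalkMap x').hom a • m
      rw [Scheme.Hom.stalkMap_comp]
      rfl)
  letI modAN := FlatMod.moduleStalkOver h G' (q x')
  haveI : IsScalarTower (Z.presheaf.stalk (h (q x'))) (Y'.presheaf.stalk (q x'))
      (G'.presheaf.stalk (q x')) :=
    IsScalarTower.of_algebraMap_smul fun _ _ => rfl
  haveI : Module.Flat (Y'.presheaf.stalk (q x')) (P.presheaf.stalk x') := hPfl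
  obtain ⟨e⟩ := exists_stalkEquiv' f g F G' x'
  letI modAH : Module (Z.presheaf.stalk (h (q x')))
      ((CohB1.tensorMod P ((Scheme.Modules.pullback q).obj G')).presheaf.stalk x') :=
    Module.compHom _ ((q ≫ h).stalkMap x').hom
  haveI : IsScalarTower (Z.presheaf.stalk (h (q x'))) ((pullback f g).presheaf.stalk x')
      ((CohB1.tensorMod P ((Scheme.Modules.pullback q).obj G')).presheaf.stalk x') :=
    IsScalarTower.of_algebraMap_smul fun _ _ => rfl
  let eA : (CohB1.tensorMod P ((Scheme.Modules.pullback q).obj G')).presheaf.stalk x'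
      ≃ₗ[Z.presheaf.stalk (h (q x'))]
      (P.presheaf.stalk x') ⊗[Y'.presheaf.stalk (q x')] (G'.presheaf.stalk (q x')) :=
    e.restrictScalars (Z.presheaf.stalk (h (q x')))
  have hff : NonDeg q P x' →
      Module.FaithfullyFlat (Y'.presheaf.stalk (q x')) (P.presheaf.stalk x') := by
    intro hnd
    exact ⟨fun m hm => by rw [IsLocalRing.eq_maximalIdeal hm]; exact hnd⟩
  refine ⟨?_, ?_, ?_⟩
  · intro hnd hH
    haveI := hff hnd
    have hH' : @Module.Flat (Z.presheaf.stalk (h (q x')))
        ((CohB1.tensorMod P ((Scheme.Modules.pullback q).obj G')).presheaf.stalk x') _ _ modAH := hH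
    have h1 : Module.Flat (Z.presheaf.stalk (h (q x')))
        ((P.presheaf.stalk x') ⊗[Y'.presheaf.stalk (q x')] (G'.presheaf.stalk (q x'))) :=
      Module.Flat.of_linearEquiv eA.symm
    exact flat_of_flat_tensor h1
  · intro hnd hN hH
    haveI := hff hnd
    apply hN
    have hH' : IsLocalRing.maximalIdeal (Z.presheaf.stalk (h (q x'))) •
        (⊤ : Submodule (Z.presheaf.stalk (h (q x')))
          ((CohB1.tensorMod P ((Scheme.Modules.pullback q).obj G')).presheaf.stalk x')) = ⊤ := hH
    exact smul_top_eq_top_of_tensor _ (smul_top_eq_top_equiv eA _ hH')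
  · intro hH hN
    apply hH
    have h1 := smul_top_tensor_eq_top (P := P.presheaf.stalk x')
      (C := Y'.presheaf.stalk (q x')) _ hN
    exact smul_top_eq_top_equiv eA.symm _ h1

theorem main4679 (hFfl : FlatMod.IsFlatOver f F)
    (hFff : ∀ y : ↥Y, ∃ x : ↥X, f x = y ∧ NonDeg f F x) :
    (FlatMod.IsFlatOver h G' ↔ FlatMod.IsFlatOver (pullback.snd f g ≫ h)
      (CohB1.tensorMod ((Scheme.Modules.pullback (pullback.fst f g)).obj F)
        ((Scheme.Modules.pullback (pullback.snd f g)).obj G'))) ∧
    ((FlatMod.IsFlatOver h G' ∧ ∀ z : ↥Z, ∃ y' : ↥Y', h y' = z ∧ NonDeg h G' y') ↔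
      (FlatMod.IsFlatOver (pullback.snd f g ≫ h)
        (CohB1.tensorMod ((Scheme.Modules.pullback (pullback.fst f g)).obj F)
          ((Scheme.Modules.pullback (pullback.snd f g)).obj G')) ∧
        ∀ z : ↥Z, ∃ x' : ↥(pullback f g), (pullback.snd f g ≫ h) x' = z ∧
          NonDeg (pullback.snd f g ≫ h)
            (CohB1.tensorMod ((Scheme.Modules.pullback (pullback.fst f g)).obj F)
              ((Scheme.Modules.pullback (pullback.snd f g)).obj G')) x')) := by
  obtain ⟨hPfl, hPff⟩ := main4680 f g F hFfl hFff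
  have hA : FlatMod.IsFlatOver h G' ↔ FlatMod.IsFlatOver (pullback.snd f g ≫ h)
      (CohB1.tensorMod ((Scheme.Modules.pullback (pullback.fst f g)).obj F)
        ((Scheme.Modules.pullback (pullback.snd f g)).obj G')) := by
    constructor
    · intro hG x'
      exact main4678 f g h F G' x' (hFfl _) (hG _)
    · intro hH y'
      obtain ⟨x', hx', hnd⟩ := hPff y'
      exact isFlatOverAt_congr h G' hx'
        ((local_package f g h F G' x' (hPfl x')).1 hnd (hH x'))
  refine ⟨hA, ?_⟩
  constructor
  · rintro ⟨hG, hGff⟩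
    refine ⟨hA.1 hG, ?_⟩
    intro z
    obtain ⟨y', hy', hndG⟩ := hGff z
    obtain ⟨x', hx', hnd⟩ := hPff y'
    refine ⟨x', ?_, ?_⟩
    · show h ((pullback.snd f g) x') = z
      rw [hx', hy']
    · exact (local_package f g h F G' x' (hPfl x')).2.1 hnd (nonDeg_congr h G' hx'.symm hndG)
  · rintro ⟨hH, hHff⟩
    refine ⟨hA.2 hH, ?_⟩
    intro z
    obtain ⟨x', hx', hnd⟩ := hHff z
    exact ⟨(pullback.snd f g) x', hx', (local_package f g h F G' x' (hPfl x')).2.2 hnd⟩

end S

end Groth.Agent.Lib.FlatTensH8
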