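import Mathlib

/-!
# Flat base change `R → S` with `R/I ≅ S/IS` and `I`-power torsion modules (helper7, S2055)
-/

open TensorProduct

namespace Groth.Agent.Lib.FlatTorsBCH7

universe u

variable (R S : Type u) [CommRing R] [CommRing S] [Algebra R S]

/-- the canonical map `M → S ⊗ M` -/
noncomputable abbrev ι (M : Type*) [AddCommGroup M] [Module R M] : M →ₗ[R] S ⊗[R] M :=
  (TensorProduct.mk R S M) 1

variable {R S} (I : Ideal R)

lemma ι_apply {M : Type*} [AddCommGroup M] [Module R M] (m : M) :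
    ι R S M m = (1 : S) ⊗ₜ[R] m := rfl

/-- the power torsion submodule -/
def Γ (X : Type*) [AddCommGroup X] [Module R X] : Submodule R X where
  carrier := {x | ∃ n : ℕ, ∀ a ∈ I ^ n, a • x = 0}
  zero_mem' := ⟨0, fun a _ => smul_zero a⟩
  add_mem' := by
    rintro x y ⟨n, hn⟩ ⟨k, hk⟩
    refine ⟨max n k, fun a ha => ?_⟩
    rw [smul_add, hn a (Ideal.pow_le_pow_right (le_max_left n k) ha),
      hk a (Ideal.pow_le_pow_right (le_max_right n k) ha), add_zero]
  smul_mem' := by
    rintro c x ⟨n, hn⟩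
    exact ⟨n, fun a ha => by rw [smul_comm, hn a ha, smul_zero]⟩

lemma tmul_eq_zero_of_mem {M : Type*} [AddCommGroup M] [Module R M]
    (hM : ∀ a ∈ I, ∀ m : M, a • m = 0) {t : S} (ht : t ∈ I.map (algebraMap R S)) (m : M) :
    t ⊗ₜ[R] m = 0 := by
  unfold Ideal.map at ht
  induction ht using Submodule.span_induction with
  | mem t ht =>
    obtain ⟨a, ha, rfl⟩ := ht
    rw [Algebra.algebraMap_eq_smul_one, TensorProduct.smul_tmul, hM a ha, tmul_zero]
  | zero => exact zero_tmul _ _
  | add x y _ _ hx hy => rw [add_tmul, hx, hy, add_zero]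
  | smul c x _ hx => rw [← TensorProduct.smul_tmul', hx, smul_zero]

section hyp

variable (hq : Function.Bijective (algebraMap (R ⧸ I) (S ⧸ I.map (algebraMap R S))))

include hq in
lemma exists_sub_mem (s : S) : ∃ r : R, s - algebraMap R S r ∈ I.map (algebraMap R S) := by
  obtain ⟨x, hx⟩ := hq.2 (Ideal.Quotient.mk _ s)
  obtain ⟨r, rfl⟩ := Ideal.Quotient.mk_surjective x
  refine ⟨r, ?_⟩
  rw [Ideal.Quotient.algebraMap_quotient_map_quotient] at hx
  rw [← Ideal.Quotient.eq]
  exact hx.symm

include hq in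
lemma bij_of_killed {M : Type*} [AddCommGroup M] [Module R M]
    (hM : ∀ a ∈ I, ∀ m : M, a • m = 0) : Function.Bijective (ι R S M) := by
  constructor
  · let e := RingEquiv.ofBijective (algebraMap (R ⧸ I) (S ⧸ I.map (algebraMap R S))) hq
    let f : S →ₗ[R] (R ⧸ I) :=
      { toFun := fun s => e.symm (Ideal.Quotient.mk _ s)
        map_add' := fun s t => by rw [map_add, map_add]
        map_smul' := fun r s => by
          rw [RingHom.id_apply, Algebra.smul_def, map_mul, map_mul, Algebra.smul_def]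
          congr 1
          rw [← Ideal.Quotient.algebraMap_quotient_map_quotient]
          exact e.symm_apply_apply (Ideal.Quotient.mk I r) }
    have hbot : (I • ⊤ : Submodule R M) = ⊥ :=
      eq_bot_iff.2 (Submodule.smul_le.2 fun a ha m _ => by
        rw [hM a ha m]
        exact zero_mem _)
    let ρ : S ⊗[R] M →ₗ[R] M :=
      (Submodule.quotEquivOfEqBot _ hbot).toLinearMap ∘ₗ
        (quotTensorEquivQuotSMul M I).toLinearMap ∘ₗ (f.rTensor M)
    have hρ : ∀ m : M, ρ (ι R S M m) = m := by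
      intro m
      have h1 : f 1 = Ideal.Quotient.mk I 1 := by
        show e.symm (Ideal.Quotient.mk _ 1) = _
        rw [map_one, map_one, map_one]
      simp only [ρ, LinearMap.comp_apply, ι_apply, LinearMap.rTensor_tmul, h1, LinearEquiv.coe_coe,
        quotTensorEquivQuotSMul_mk_tmul, Submodule.quotEquivOfEqBot_apply_mk, one_smul]
    exact Function.LeftInverse.injective hρ
  · intro y
    induction y using TensorProduct.induction_on with
    | zero => exact ⟨0, map_zero _⟩
    | tmul s m =>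
      obtain ⟨r, hr⟩ := exists_sub_mem I hq s
      refine ⟨r • m, ?_⟩
      have h0 := tmul_eq_zero_of_mem I hM hr m
      rw [sub_tmul, sub_eq_zero] at h0
      rw [h0, ι_apply, ← TensorProduct.smul_tmul, Algebra.smul_def, mul_one]
    | add y₁ y₂ h₁ h₂ =>
      obtain ⟨m₁, rfl⟩ := h₁
      obtain ⟨m₂, rfl⟩ := h₂
      exact ⟨m₁ + m₂, map_add _ _ _⟩

lemma bij_of_exact [Module.Flat R S] {M' M M'' : Type*} [AddCommGroup M'] [Module R M']
    [AddCommGroup M] [Module R M] [AddCommGroup M''] [Module R M'']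
    (j : M' →ₗ[R] M) (π : M →ₗ[R] M'')
    (hj : Function.Injective j) (hπ : Function.Surjective π) (hex : Function.Exact j π)
    (h' : Function.Bijective (ι R S M')) (h'' : Function.Bijective (ι R S M'')) :
    Function.Bijective (ι R S M) := by
  have hjS : Function.Injective (j.lTensor S) :=
    Module.Flat.lTensor_preserves_injective_linearMap j hj
  have hexS : Function.Exact (j.lTensor S) (π.lTensor S) := lTensor_exact S hex hπ
  have nat_j : ∀ m', j.lTensor S (ι R S M' m') = ι R S M (j m') := fun m' => by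
    rw [ι_apply, ι_apply, LinearMap.lTensor_tmul]
  have nat_π : ∀ m, π.lTensor S (ι R S M m) = ι R S M'' (π m) := fun m => by
    rw [ι_apply, ι_apply, LinearMap.lTensor_tmul]
  constructor
  · rw [injective_iff_map_eq_zero]
    intro m hm
    have h1 : ι R S M'' (π m) = 0 := by rw [← nat_π, hm, map_zero]
    have h2 : π m = 0 := (injective_iff_map_eq_zero _).1 h''.1 _ h1
    obtain ⟨m', rfl⟩ := (hex m).1 h2
    have h3 : j.lTensor S (ι R S M' m') = 0 := by rw [nat_j, hm]
    have h4 : ι R S M' m' = 0 := (injective_iff_map_eq_zero _).1 hjS _ h3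
    rw [(injective_iff_map_eq_zero _).1 h'.1 _ h4, map_zero]
  · intro y
    obtain ⟨m'', hm''⟩ := h''.2 (π.lTensor S y)
    obtain ⟨m, rfl⟩ := hπ m''
    have h1 : π.lTensor S (y - ι R S M m) = 0 := by rw [map_sub, nat_π, hm'', sub_self]
    obtain ⟨z, hz⟩ := (hexS _).1 h1
    obtain ⟨m', rfl⟩ := h'.2 z
    refine ⟨m + j m', ?_⟩
    rw [map_add, ← nat_j, hz]
    abel

include hq in
lemma bij_of_killed_pow [Module.Flat R S] (n : ℕ) :
    ∀ {M : Type u} [AddCommGroup M] [Module R M],
      (∀ a ∈ I ^ n, ∀ m : M, a • m = 0) → Function.Bijective (ι R S M) := by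
  induction n with
  | zero =>
    intro M _ _ hM
    exact bij_of_killed I hq (fun a _ m => hM a (by rw [pow_zero, Ideal.one_eq_top]; trivial) m)
  | succ n ih =>
    intro M _ _ hM
    let M' : Submodule R M := I • ⊤
    refine bij_of_exact M'.subtype M'.mkQ M'.injective_subtype M'.mkQ_surjective
      (LinearMap.exact_subtype_mkQ M') (ih ?_) (bij_of_killed I hq ?_)
    · intro a ha m'
      apply Subtype.ext
      rw [Submodule.coe_smul, Submodule.coe_zero]
      have key : ∀ x ∈ (I • ⊤ : Submodule R M), a • x = 0 := by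
        intro x hx
        refine Submodule.smul_induction_on hx (fun b hb y _ => ?_) (fun x y hx hy => ?_)
        · rw [← mul_smul]
          exact hM _ (by rw [pow_succ]; exact Ideal.mul_mem_mul ha hb) y
        · rw [smul_add, hx, hy, add_zero]
      exact key _ m'.2
    · intro a ha y
      obtain ⟨m, rfl⟩ := Submodule.Quotient.mk_surjective _ y
      rw [← Submodule.Quotient.mk_smul, Submodule.Quotient.mk_eq_zero]
      exact Submodule.smul_mem_smul ha Submodule.mem_top

include hq in
theorem bij_of_powerTorsion [Module.Flat R S] {M : Type u} [AddCommGroup M] [Module R M]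
    (hM : ∀ x : M, ∃ n : ℕ, ∀ a ∈ I ^ n, a • x = 0) : Function.Bijective (ι R S M) := by
  let T : ℕ → Submodule R M := fun n => Submodule.torsionBySet R M ((I ^ n : Ideal R) : Set R)
  have hT : ∀ n, Function.Bijective (ι R S (T n)) := fun n =>
    bij_of_killed_pow I hq n (fun a ha m => Subtype.ext (by
      have := (Submodule.mem_torsionBySet_iff _ _).1 m.2 ⟨a, ha⟩
      simpa using this))
  have hjS : ∀ n, Function.Injective ((T n).subtype.lTensor S) := fun n =>
    Module.Flat.lTensor_preserves_injective_linearMap _ (T n).injective_subtype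
  have hmem : ∀ x : M, ∃ n, x ∈ T n := fun x => by
    obtain ⟨n, hn⟩ := hM x
    exact ⟨n, (Submodule.mem_torsionBySet_iff _ _).2 (fun a => hn a.1 a.2)⟩
  constructor
  · rw [injective_iff_map_eq_zero]
    intro m hm
    obtain ⟨n, hn⟩ := hmem m
    have h1 : (T n).subtype.lTensor S (ι R S (T n) ⟨m, hn⟩) = 0 := by
      rw [ι_apply, LinearMap.lTensor_tmul]
      exact hm
    have h2 := (injective_iff_map_eq_zero _).1 (hjS n) _ h1
    have h3 := (injective_iff_map_eq_zero _).1 (hT n).1 _ h2
    exact congrArg Subtype.val h3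
  · intro y
    induction y using TensorProduct.induction_on with
    | zero => exact ⟨0, map_zero _⟩
    | tmul s m =>
      obtain ⟨n, hn⟩ := hmem m
      obtain ⟨m', hm'⟩ := (hT n).2 (s ⊗ₜ[R] (⟨m, hn⟩ : T n))
      refine ⟨(m' : M), ?_⟩
      have h1 := congrArg ((T n).subtype.lTensor S) hm'
      rw [ι_apply, LinearMap.lTensor_tmul, LinearMap.lTensor_tmul] at h1
      exact h1
    | add y₁ y₂ h₁ h₂ =>
      obtain ⟨m₁, rfl⟩ := h₁
      obtain ⟨m₂, rfl⟩ := h₂
      exact ⟨m₁ + m₂, map_add _ _ _⟩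

include hq in
theorem bijective_of_right [Module.Flat R S] {M N : Type u} [AddCommGroup M] [Module R M]
    [AddCommGroup N] [Module R N] (hN : ∀ y : N, ∃ n : ℕ, ∀ a ∈ I ^ n, a • y = 0) :
    Function.Bijective (fun f : M →ₗ[R] N => LinearMap.baseChange S f) := by
  have hιN := bij_of_powerTorsion I hq hN
  constructor
  · intro f g hfg
    ext m
    apply hιN.1
    have := congrArg (fun F : S ⊗[R] M →ₗ[S] S ⊗[R] N => F ((1 : S) ⊗ₜ[R] m)) hfg
    simp only [LinearMap.baseChange_tmul] at this
    exact this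
  · intro g
    let ε := LinearEquiv.ofBijective (ι R S N) hιN
    let f : M →ₗ[R] N := ε.symm.toLinearMap ∘ₗ (g.restrictScalars R) ∘ₗ ι R S M
    refine ⟨f, ?_⟩
    apply TensorProduct.AlgebraTensorModule.ext
    intro s m
    have h1 : (1 : S) ⊗ₜ[R] f m = g ((1 : S) ⊗ₜ[R] m) := ε.apply_symm_apply (g (1 ⊗ₜ m))
    have h2 : s ⊗ₜ[R] m = s • ((1 : S) ⊗ₜ[R] m) := by
      rw [TensorProduct.smul_tmul', smul_eq_mul, mul_one]
    show LinearMap.baseChange S f (s ⊗ₜ[R] m) = g (s ⊗ₜ[R] m)
    rw [LinearMap.baseChange_tmul, h2, map_smul, ← h1, TensorProduct.smul_tmul', smul_eq_mul,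
      mul_one]

include hq in
lemma exists_of_mem_Γ [Module.Flat R S] (hI : I.FG) {N : Type u} [AddCommGroup N] [Module R N]
    (y : S ⊗[R] N) (hy : y ∈ Γ I (S ⊗[R] N)) : ∃ x ∈ Γ I N, ι R S N x = y := by
  obtain ⟨n, hn⟩ := hy
  obtain ⟨k, a, ha⟩ := Submodule.fg_iff_exists_fin_generating_family.1 (Ideal.FG.pow (n := n) hI)
  have haI : ∀ j, a j ∈ I ^ n := fun j => ha ▸ Submodule.subset_span ⟨j, rfl⟩
  let T : Submodule R N := Submodule.torsionBySet R N ((I ^ n : Ideal R) : Set R)
  let φ : N →ₗ[R] (Fin k → N) := LinearMap.pi (fun j => a j • LinearMap.id)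
  have hφ : ∀ x j, φ x j = a j • x := fun x j => rfl
  have hex : Function.Exact T.subtype φ := by
    intro x
    constructor
    · intro hx
      refine ⟨⟨x, (Submodule.mem_torsionBySet_iff _ _).2 ?_⟩, rfl⟩
      rintro ⟨b, hb⟩
      show b • x = 0
      have hb' : b ∈ Submodule.span R (Set.range a) := ha ▸ hb
      clear hb
      induction hb' using Submodule.span_induction with
      | mem b hb =>
        obtain ⟨j, rfl⟩ := hb
        exact congrFun hx j
      | zero => exact zero_smul _ _
      | add b c _ _ hb hc => rw [add_smul, hb, hc, add_zero]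
      | smul c b _ hb => rw [smul_eq_mul, mul_smul, hb, smul_zero]
    · rintro ⟨x', rfl⟩
      ext j
      rw [hφ]
      exact (Submodule.mem_torsionBySet_iff _ _).1 x'.2 ⟨a j, haI j⟩
  have hexS := Module.Flat.lTensor_exact S hex
  have hkey : ∀ w : S ⊗[R] N,
      TensorProduct.piRightHom R S S (fun _ : Fin k => N) (φ.lTensor S w) = fun j => a j • w := by
    intro w
    induction w using TensorProduct.induction_on with
    | zero =>
      rw [map_zero, map_zero]
      ext j
      rw [smul_zero]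
      rfl
    | tmul s x =>
      rw [LinearMap.lTensor_tmul, TensorProduct.piRightHom_tmul]
      ext j
      rw [hφ, TensorProduct.tmul_smul]
    | add w₁ w₂ h₁ h₂ =>
      rw [map_add, map_add, h₁, h₂]
      ext j
      rw [Pi.add_apply, smul_add]
  have h0 : φ.lTensor S y = 0 := by
    apply (TensorProduct.piRight R S S (fun _ : Fin k => N)).injective
    rw [TensorProduct.piRight_apply, hkey, map_zero]
    ext j
    exact hn _ (haI j)
  obtain ⟨z, hz⟩ := (hexS y).1 h0
  have hTb : Function.Bijective (ι R S T) :=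
    bij_of_killed_pow I hq n (fun b hb m => Subtype.ext (by
      have := (Submodule.mem_torsionBySet_iff _ _).1 m.2 ⟨b, hb⟩
      simpa using this))
  obtain ⟨x', rfl⟩ := hTb.2 z
  refine ⟨x'.1, ⟨n, fun b hb => (Submodule.mem_torsionBySet_iff _ _).1 x'.2 ⟨b, hb⟩⟩, ?_⟩
  rw [← hz, ι_apply, ι_apply, LinearMap.lTensor_tmul]
  rfl

include hq in
theorem bijective_of_left [Module.Flat R S] (hI : I.FG) {M N : Type u} [AddCommGroup M]
    [Module R M] [AddCommGroup N] [Module R N]
    (hM : ∀ x : M, ∃ n : ℕ, ∀ a ∈ I ^ n, a • x = 0) :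
    Function.Bijective (fun f : M →ₗ[R] N => LinearMap.baseChange S f) := by
  have hΓinj : ∀ x ∈ Γ I N, ι R S N x = 0 → x = 0 := by
    intro x hx h0
    have hb := bij_of_powerTorsion I hq (M := Γ I N) (fun x' => by
      obtain ⟨n, hn⟩ := x'.2
      exact ⟨n, fun a ha => Subtype.ext (by simpa using hn a ha)⟩)
    have hj := Module.Flat.lTensor_preserves_injective_linearMap (M := S) (Γ I N).subtype
      (Γ I N).injective_subtype
    have h1 : (Γ I N).subtype.lTensor S (ι R S (Γ I N) ⟨x, hx⟩) = 0 := by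
      rw [ι_apply, LinearMap.lTensor_tmul]
      exact h0
    have h2 := (injective_iff_map_eq_zero _).1 hj _ h1
    have h3 := (injective_iff_map_eq_zero _).1 hb.1 _ h2
    exact congrArg Subtype.val h3
  have hfm : ∀ (f : M →ₗ[R] N) (m : M), f m ∈ Γ I N := fun f m => by
    obtain ⟨n, hn⟩ := hM m
    exact ⟨n, fun a ha => by rw [← map_smul, hn a ha, map_zero]⟩
  constructor
  · intro f g hfg
    ext m
    have h1 : ι R S N (f m - g m) = 0 := by
      have := congrArg (fun F : S ⊗[R] M →ₗ[S] S ⊗[R] N => F ((1 : S) ⊗ₜ[R] m)) hfg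
      simp only [LinearMap.baseChange_tmul] at this
      rw [map_sub, sub_eq_zero]
      exact this
    exact sub_eq_zero.1 (hΓinj _ (Submodule.sub_mem _ (hfm f m) (hfm g m)) h1)
  · intro g
    have hgm : ∀ m : M, g ((1 : S) ⊗ₜ[R] m) ∈ Γ I (S ⊗[R] N) := fun m => by
      obtain ⟨n, hn⟩ := hM m
      refine ⟨n, fun a ha => ?_⟩
      have h1 : a • g ((1 : S) ⊗ₜ[R] m) = g ((1 : S) ⊗ₜ[R] (a • m)) := by
        rw [TensorProduct.tmul_smul, LinearMap.map_smul_of_tower]
      rw [h1, hn a ha, tmul_zero, map_zero]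
    choose f₀ hf₀ using fun m => exists_of_mem_Γ I hq hI _ (hgm m)
    let f : M →ₗ[R] N :=
      { toFun := f₀
        map_add' := fun m₁ m₂ => by
          have h1 : ι R S N (f₀ (m₁ + m₂) - (f₀ m₁ + f₀ m₂)) = 0 := by
            rw [map_sub, map_add, (hf₀ _).2, (hf₀ _).2, (hf₀ _).2, tmul_add, map_add, sub_self]
          exact sub_eq_zero.1 (hΓinj _ (Submodule.sub_mem _ (hf₀ _).1
            (Submodule.add_mem _ (hf₀ _).1 (hf₀ _).1)) h1)
        map_smul' := fun r m => by
          rw [RingHom.id_apply]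
          have h1 : ι R S N (f₀ (r • m) - r • f₀ m) = 0 := by
            rw [map_sub, map_smul, (hf₀ _).2, (hf₀ _).2, TensorProduct.tmul_smul,
              LinearMap.map_smul_of_tower, sub_self]
          exact sub_eq_zero.1 (hΓinj _ (Submodule.sub_mem _ (hf₀ _).1
            (Submodule.smul_mem _ _ (hf₀ _).1)) h1) }
    refine ⟨f, ?_⟩
    apply TensorProduct.AlgebraTensorModule.ext
    intro s m
    have h1 : (1 : S) ⊗ₜ[R] f m = g ((1 : S) ⊗ₜ[R] m) := (hf₀ m).2
    have h2 : s ⊗ₜ[R] m = s • ((1 : S) ⊗ₜ[R] m) := by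
      rw [TensorProduct.smul_tmul', smul_eq_mul, mul_one]
    show LinearMap.baseChange S f (s ⊗ₜ[R] m) = g (s ⊗ₜ[R] m)
    rw [LinearMap.baseChange_tmul, h2, map_smul, ← h1, TensorProduct.smul_tmul', smul_eq_mul,
      mul_one]

include hq in
theorem main [Module.Flat R S] (hI : I.FG) {M N : Type u} [AddCommGroup M]
    [Module R M] [AddCommGroup N] [Module R N]
    (hMN : (∀ x : M, ∃ n : ℕ, ∀ a ∈ I ^ n, a • x = 0) ∨
      (∀ y : N, ∃ n : ℕ, ∀ a ∈ I ^ n, a • y = 0)) :
    Function.Bijective (fun f : M →ₗ[R] N => LinearMap.baseChange S f) := by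
  rcases hMN with hM | hN
  · exact bijective_of_left I hq hI hM
  · exact bijective_of_right I hq hN

end hyp

end Groth.Agent.Lib.FlatTorsBCH7
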