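import Groth.Agent.Lib.FormalEtale_helper7
import Mathlib.RingTheory.Unramified.LocalStructure
import Mathlib.RingTheory.Unramified.Finite

/-!
# Flat + unramified ⇒ formally étale, without finite presentation (helper7)
-/

set_option autoImplicit false
universe u
open CategoryTheory CategoryTheory.Limits AlgebraicGeometry Opposite TensorProduct
open Groth.Agent.Lib.FormalEtale_helper7

namespace Groth.Agent.Lib.FlatUnram_helper7

section Ring

/-- If `A` is an unramified `R`-algebra (essentially of finite type) and `A ⧸ I` is flat over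
`R`, then `I` is idempotent. -/
theorem le_sq_of_flat_quotient {R A : Type u} [CommRing R] [CommRing A] [Algebra R A]
    [Algebra.EssFiniteType R A] [Algebra.FormallyUnramified R A] (I : Ideal A)
    [Module.Flat R (A ⧸ I)] : I ≤ I ^ 2 := by
  intro x hx
  let I' : Submodule R A := I.restrictScalars R
  let ι : I' →ₗ[R] A := I'.subtype
  let π : A →ₗ[R] (A ⧸ I) := (Ideal.Quotient.mkₐ R I).toLinearMap
  have hπ : Function.Surjective π := Ideal.Quotient.mkₐ_surjective R I
  have hex : Function.Exact ι π := by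
    intro a
    constructor
    · intro ha
      exact ⟨⟨a, Ideal.Quotient.eq_zero_iff_mem.1 ha⟩, rfl⟩
    · rintro ⟨y, rfl⟩
      exact Ideal.Quotient.eq_zero_iff_mem.2 y.2
  let t : A ⊗[R] A := Algebra.FormallyUnramified.elem R A
  let mx : A →ₗ[R] I' := (LinearMap.mulLeft R x).codRestrict I' (fun a => I.mul_mem_right a hx)
  let ξ : A ⊗[R] I' := LinearMap.lTensor A mx t
  have h0 : LinearMap.rTensor I' π ξ = 0 := by
    apply Module.Flat.lTensor_preserves_injective_linearMap (M := A ⧸ I) ι Subtype.val_injective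
    rw [map_zero]
    have e1 : (LinearMap.lTensor (A ⧸ I) ι ∘ₗ LinearMap.rTensor I' π ∘ₗ LinearMap.lTensor A mx) =
        TensorProduct.map π LinearMap.id ∘ₗ LinearMap.mulLeft R ((1 : A) ⊗ₜ[R] x) := by
      apply TensorProduct.ext'
      intro a c
      simp [mx, ι, Algebra.TensorProduct.tmul_mul_tmul]
    have e2 : (TensorProduct.map π LinearMap.id ∘ₗ LinearMap.mulLeft R (x ⊗ₜ[R] (1 : A))) = 0 := by
      apply TensorProduct.ext'
      intro a c
      have : π (x * a) = 0 := Ideal.Quotient.eq_zero_iff_mem.2 (I.mul_mem_right a hx)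
      simp [Algebra.TensorProduct.tmul_mul_tmul, this]
    have s1 := LinearMap.congr_fun e1 t
    have s2 := LinearMap.congr_fun e2 t
    simp only [LinearMap.comp_apply, LinearMap.mulLeft_apply, LinearMap.zero_apply] at s1 s2
    rw [show LinearMap.lTensor (A ⧸ I) ι (LinearMap.rTensor I' π ξ) =
      LinearMap.lTensor (A ⧸ I) ι (LinearMap.rTensor I' π (LinearMap.lTensor A mx t)) from rfl, s1,
      Algebra.FormallyUnramified.one_tmul_mul_elem, s2]
  obtain ⟨w, hw⟩ := (rTensor_exact I' hex hπ ξ).1 h0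
  let ν : A ⊗[R] I' →ₗ[R] A :=
    (Algebra.TensorProduct.lmul' R (S := A)).toLinearMap ∘ₗ LinearMap.lTensor A ι
  have hν1 : ν ξ = x := by
    have e3 : ν ∘ₗ LinearMap.lTensor A mx =
        (LinearMap.mulLeft R x) ∘ₗ (Algebra.TensorProduct.lmul' R (S := A)).toLinearMap := by
      apply TensorProduct.ext'
      intro a c
      simp [ν, mx, ι]
      ring
    have s3 := LinearMap.congr_fun e3 t
    simp only [LinearMap.comp_apply, LinearMap.mulLeft_apply] at s3
    rw [show ν ξ = ν (LinearMap.lTensor A mx t) from rfl, s3]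
    have : (Algebra.TensorProduct.lmul' R (S := A)).toLinearMap t = 1 :=
      Algebra.FormallyUnramified.lmul_elem (R := R) (S := A)
    rw [this, mul_one]
  have hν2 : ∀ w : I' ⊗[R] I', ν (LinearMap.rTensor I' ι w) ∈ I ^ 2 := by
    intro w
    induction w using TensorProduct.induction_on with
    | zero => simp
    | tmul y y' =>
      have : ν (LinearMap.rTensor I' ι (y ⊗ₜ[R] y')) = (y : A) * (y' : A) := by
        simp [ν, ι]
      rw [this, pow_two]
      exact Ideal.mul_mem_mul y.2 y'.2
    | add a b ha hb =>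
      rw [map_add, map_add]
      exact Ideal.add_mem _ ha hb
  rw [← hν1, ← hw]
  exact hν2 w

/-- The quotient by an idempotent ideal is formally étale. -/
theorem formallyEtale_quotient_of_le_sq {A : Type u} [CommRing A] (I : Ideal A) (h : I ≤ I ^ 2) :
    Algebra.FormallyEtale A (A ⧸ I) := by
  haveI : Algebra.FormallyUnramified A (A ⧸ I) :=
    Algebra.FormallyUnramified.of_surjective (Algebra.ofId A (A ⧸ I)) Ideal.Quotient.mk_surjective
  haveI : Algebra.FormallySmooth A (A ⧸ I) := by
    refine Algebra.FormallySmooth.of_comp_surjective ?_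
    intro C _ _ N hN g
    have hN' : ∀ a ∈ I, algebraMap A C a ∈ N := by
      intro a ha
      have e : Ideal.Quotient.mk N (algebraMap A C a) = g (Ideal.Quotient.mk I a) :=
        (g.commutes a).symm
      rw [← Ideal.Quotient.eq_zero_iff_mem, e, Ideal.Quotient.eq_zero_iff_mem.2 ha, map_zero]
    have hk : ∀ a ∈ I, (Algebra.ofId A C) a = 0 := by
      intro a ha
      have h1 : a ∈ I * I := by
        have := h ha
        rwa [pow_two] at this
      have h2 : algebraMap A C a ∈ N ^ 2 := by
        rw [pow_two]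
        refine Submodule.mul_induction_on h1 (fun y hy z hz => ?_) (fun y z hy hz => ?_)
        · rw [map_mul]
          exact Ideal.mul_mem_mul (hN' y hy) (hN' z hz)
        · rw [map_add]
          exact Ideal.add_mem _ hy hz
      rw [hN] at h2
      exact h2
    refine ⟨Ideal.Quotient.liftₐ I (Algebra.ofId A C) hk, ?_⟩
    apply AlgHom.ext
    intro b
    obtain ⟨a, rfl⟩ := Ideal.Quotient.mk_surjective b
    have e1 : g (Ideal.Quotient.mk I a) = Ideal.Quotient.mk N (algebraMap A C a) := g.commutes a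
    rw [e1]
    rfl
  exact Algebra.FormallyEtale.of_formallyUnramified_and_formallySmooth

/-- Local structure: a flat, finite type, formally unramified algebra is formally étale near
every prime. -/
theorem exists_formallyEtale_away {R S : Type u} [CommRing R] [CommRing S] [Algebra R S]
    [Module.Flat R S] [Algebra.FiniteType R S] [Algebra.FormallyUnramified R S]
    (Q : Ideal S) [Q.IsPrime] : ∃ f ∉ Q, Algebra.FormallyEtale R (Localization.Away f) := by
  haveI : Algebra.IsUnramifiedAt R Q :=
    Algebra.formallyUnramified_iff_forall.1 inferInstance ⟨Q, inferInstance⟩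
  obtain ⟨f, hf, P, φ, hφ⟩ :=
    Algebra.IsUnramifiedAt.exists_hasStandardEtaleSurjectionOn (R := R) Q
  refine ⟨f, hf, ?_⟩
  let I : Ideal P.Ring := RingHom.ker φ
  let e : (P.Ring ⧸ I) ≃ₐ[R] Localization.Away f := Ideal.quotientKerAlgEquivOfSurjective hφ
  haveI : Module.Flat R (P.Ring ⧸ I) := Module.Flat.of_linearEquiv e.toLinearEquiv
  have hI : I ≤ I ^ 2 := le_sq_of_flat_quotient (R := R) I
  haveI : Algebra.FormallyEtale P.Ring (P.Ring ⧸ I) := formallyEtale_quotient_of_le_sq I hI
  haveI : Algebra.FormallyEtale R (P.Ring ⧸ I) :=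
    Algebra.FormallyEtale.comp R P.Ring (P.Ring ⧸ I)
  exact Algebra.FormallyEtale.of_equiv e

end Ring

section Sch

variable {X Y : Scheme.{u}}

/-- S9771: flat, locally of finite type and formally unramified implies formally étale
(lifting sense). -/
theorem fe_of_flat_unramified (f : X ⟶ Y) [Flat f] [FormallyUnramified f]
    [LocallyOfFiniteType f] : FE f := by
  refine fe_of_local f fun x => ?_
  obtain ⟨_, ⟨V, hV, rfl⟩, hxV, -⟩ :=
    Y.isBasis_affineOpens.exists_subset_of_mem_open (Set.mem_univ (f x)) isOpen_univ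
  obtain ⟨_, ⟨U, hU, rfl⟩, hxU, hUV : U ≤ f ⁻¹ᵁ V⟩ :=
    X.isBasis_affineOpens.exists_subset_of_mem_open hxV (f ⁻¹ᵁ V).isOpen
  letI algVU : Algebra Γ(Y, V) Γ(X, U) := (f.appLE V U hUV).hom.toAlgebra
  haveI h1 : Module.Flat Γ(Y, V) Γ(X, U) := f.flat_appLE hV hU hUV
  haveI h2 : Algebra.FiniteType Γ(Y, V) Γ(X, U) :=
    LocallyOfFiniteType.finiteType_appLE (f := f) hV hU hUV
  haveI h3 : Algebra.FormallyUnramified Γ(Y, V) Γ(X, U) :=
    FormallyUnramified.formallyUnramified_appLE (f := f) hV hU hUV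
  obtain ⟨g, hgQ, hg⟩ := exists_formallyEtale_away (R := Γ(Y, V)) (S := Γ(X, U))
    (hU.primeIdealOf ⟨x, hxU⟩).asIdeal
  let U' : X.Opens := X.basicOpen g
  have hU' : IsAffineOpen U' := hU.basicOpen g
  have hU'U : U' ≤ U := X.basicOpen_le g
  have hxU' : x ∈ U' := by
    have e1 : hU.fromSpec (hU.primeIdealOf ⟨x, hxU⟩) = x := hU.fromSpec_primeIdealOf ⟨x, hxU⟩
    have e2 : hU.primeIdealOf ⟨x, hxU⟩ ∈ (hU.fromSpec ⁻¹ᵁ X.basicOpen g) := by
      rw [hU.fromSpec_preimage_basicOpen g]
      exact hgQ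
    rw [← e1]
    exact e2
  have hU'V : U' ≤ f ⁻¹ᵁ V := hU'U.trans hUV
  refine ⟨U', hxU', ?_⟩
  rw [← hU'.isoSpec_hom_fromSpec, Category.assoc, ← hV.SpecMap_appLE_fromSpec f hU' hU'V]
  refine fe_comp (fe_of_isIso _) (fe_comp (fe_specMap_of _ ?_) (fe_of_isOpenImmersion _))
  haveI loc : IsLocalization.Away g Γ(X, U') := hU.isLocalization_basicOpen g
  let e : Localization.Away g ≃ₐ[Γ(X, U)] Γ(X, U') :=
    IsLocalization.algEquiv (Submonoid.powers g) _ _
  letI algVU' : Algebra Γ(Y, V) Γ(X, U') := (f.appLE V U' hU'V).hom.toAlgebra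
  haveI : IsScalarTower Γ(Y, V) Γ(X, U) Γ(X, U') := IsScalarTower.of_algebraMap_eq' (by
    have := f.appLE_map (U := V) (V := U) hUV (homOfLE hU'U).op
    exact congrArg (fun k => k.hom) this.symm)
  have : Algebra.FormallyEtale Γ(Y, V) Γ(X, U') :=
    Algebra.FormallyEtale.of_equiv (e.restrictScalars Γ(Y, V))
  exact this

end Sch

end Groth.Agent.Lib.FlatUnram_helper7
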