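import Mathlib

set_option autoImplicit false
set_option backward.isDefEq.respectTransparency false
set_option linter.unusedSimpArgs false
set_option linter.unusedVariables false
set_option linter.unusedSectionVars false
set_option linter.style.longLine false
set_option linter.style.haveILetI false
set_option linter.unnecessarySimpa false
set_option maxHeartbeats 1600000

/-!
# A finite injective algebra over a Noetherian local ring induces the adic topology

For `O` Noetherian local and `A'` a finite `O`-algebra with injective structure map, the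
localisations of `A'` at its maximal ideals satisfy the topological condition of EGA IV 11.5.
-/

namespace Groth.Agent.Lib.Flatif

open IsLocalRing

universe u

/-- In an Artinian ring, an element lying in a large power of every maximal ideal is zero. -/
lemma exists_pow_iInf_eq_bot (R : Type u) [CommRing R] [IsArtinianRing R] :
    ∃ k : ℕ, ∀ b : R, (∀ n : MaximalSpectrum R, b ∈ n.asIdeal ^ k) → b = 0 := by
  classical
  haveI : Fintype (MaximalSpectrum R) := Fintype.ofFinite _
  obtain ⟨k, hk⟩ := IsArtinianRing.isNilpotent_jacobson_bot (R := R)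
  refine ⟨k, fun b hb => ?_⟩
  have h1 : b ∈ ⨅ n ∈ (Finset.univ : Finset (MaximalSpectrum R)), n.asIdeal ^ k := by
    simp only [Ideal.mem_iInf]
    intro n _
    exact hb n
  rw [← Ideal.prod_eq_iInf_of_pairwise_isCoprime, Finset.prod_pow] at h1
  · have h2 : (∏ n : MaximalSpectrum R, n.asIdeal) ≤ Ideal.jacobson ⊥ := by
      refine le_trans Ideal.prod_le_inf ?_
      refine le_sInf ?_
      rintro J ⟨-, hJ⟩
      exact Finset.inf_le (f := fun n : MaximalSpectrum R => n.asIdeal)
        (Finset.mem_univ (⟨J, hJ⟩ : MaximalSpectrum R))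
    have h3 := Ideal.pow_right_mono h2 k h1
    rw [hk, Ideal.zero_eq_bot] at h3
    exact Ideal.mem_bot.mp h3
  · intro n _ n' _ hne
    show IsCoprime (n.asIdeal ^ k) (n'.asIdeal ^ k)
    exact (Ideal.isCoprime_of_isMaximal (fun h => hne (MaximalSpectrum.ext h))).pow

section FiniteInj

variable (O A' : Type u) [CommRing O] [CommRing A'] [IsLocalRing O] [IsNoetherianRing O]
  [Algebra O A'] [Module.Finite O A']

lemma isArtinianRing_quot (K : ℕ) :
    IsArtinianRing (A' ⧸ (maximalIdeal O ^ K).map (algebraMap O A')) := by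
  haveI : IsNoetherianRing A' := IsNoetherianRing.of_finite O A'
  haveI : Algebra.IsIntegral O A' := Algebra.IsIntegral.of_finite O A'
  rw [isArtinianRing_iff_krullDimLE_zero]
  refine Ring.krullDimLE_zero_iff.mpr fun P hP => ?_
  haveI : (P.comap (Ideal.Quotient.mk ((maximalIdeal O ^ K).map (algebraMap O A')))).IsPrime :=
    Ideal.comap_isPrime _ _
  have hI : (maximalIdeal O ^ K).map (algebraMap O A') ≤
      P.comap (Ideal.Quotient.mk ((maximalIdeal O ^ K).map (algebraMap O A'))) := by
    intro a ha
    rw [Ideal.mem_comap, Ideal.Quotient.eq_zero_iff_mem.mpr ha]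
    exact zero_mem _
  have h1 : maximalIdeal O ^ K ≤
      (P.comap (Ideal.Quotient.mk ((maximalIdeal O ^ K).map (algebraMap O A')))).comap
        (algebraMap O A') := Ideal.map_le_iff_le_comap.mp hI
  have h2 : maximalIdeal O ≤
      (P.comap (Ideal.Quotient.mk ((maximalIdeal O ^ K).map (algebraMap O A')))).comap
        (algebraMap O A') := Ideal.IsPrime.le_of_pow_le h1
  have hm : (P.comap (Ideal.Quotient.mk ((maximalIdeal O ^ K).map (algebraMap O A')))).comap
      (algebraMap O A') = maximalIdeal O :=
    ((maximalIdeal.isMaximal O).eq_of_le (Ideal.IsPrime.ne_top inferInstance) h2).symm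
  have hmax : (P.comap (Ideal.Quotient.mk
      ((maximalIdeal O ^ K).map (algebraMap O A')))).IsMaximal :=
    Ideal.isMaximal_of_isIntegral_of_isMaximal_comap (R := O) _
      (hm.symm ▸ maximalIdeal.isMaximal O)
  have hP' : (P.comap (Ideal.Quotient.mk ((maximalIdeal O ^ K).map (algebraMap O A')))).map
      (Ideal.Quotient.mk ((maximalIdeal O ^ K).map (algebraMap O A'))) = P :=
    Ideal.map_comap_of_surjective _ Ideal.Quotient.mk_surjective P
  rcases Ideal.map_eq_top_or_isMaximal_of_surjective
    (Ideal.Quotient.mk ((maximalIdeal O ^ K).map (algebraMap O A')))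
    Ideal.Quotient.mk_surjective hmax with h | h
  · exfalso
    rw [hP'] at h
    exact hP.ne_top h
  · rwa [hP'] at h

theorem exists_pow_of_finite_injective (hinj : Function.Injective (algebraMap O A')) (N : ℕ) :
    ∃ (k : ℕ) (s : Finset (MaximalSpectrum A')), ∀ a : O,
      (∀ n ∈ s, algebraMap O A' a ∈ n.asIdeal ^ k) → a ∈ maximalIdeal O ^ N := by
  classical
  obtain ⟨c, hc⟩ := Ideal.exists_pow_inf_eq_pow_smul (maximalIdeal O)
    (LinearMap.range (Algebra.linearMap O A'))
  haveI := isArtinianRing_quot O A' (N + c)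
  obtain ⟨k, hk⟩ := exists_pow_iInf_eq_bot
    (A' ⧸ (maximalIdeal O ^ (N + c)).map (algebraMap O A'))
  haveI : Fintype (MaximalSpectrum (A' ⧸ (maximalIdeal O ^ (N + c)).map (algebraMap O A'))) :=
    Fintype.ofFinite _
  let pb : MaximalSpectrum (A' ⧸ (maximalIdeal O ^ (N + c)).map (algebraMap O A')) →
      MaximalSpectrum A' := fun n =>
    ⟨n.asIdeal.comap (Ideal.Quotient.mk ((maximalIdeal O ^ (N + c)).map (algebraMap O A'))),
      Ideal.comap_isMaximal_of_surjective _ Ideal.Quotient.mk_surjective⟩
  refine ⟨k, Finset.univ.image pb, fun a ha => ?_⟩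
  have h1 : Ideal.Quotient.mk ((maximalIdeal O ^ (N + c)).map (algebraMap O A'))
      (algebraMap O A' a) = 0 := by
    apply hk
    intro n
    have h2 := ha (pb n) (Finset.mem_image_of_mem pb (Finset.mem_univ n))
    have h3 := Ideal.mem_map_of_mem
      (Ideal.Quotient.mk ((maximalIdeal O ^ (N + c)).map (algebraMap O A'))) h2
    rw [Ideal.map_pow (f := Ideal.Quotient.mk ((maximalIdeal O ^ (N + c)).map (algebraMap O A')))
      (I := (pb n).asIdeal) k] at h3
    have h4 : (pb n).asIdeal.map
        (Ideal.Quotient.mk ((maximalIdeal O ^ (N + c)).map (algebraMap O A'))) = n.asIdeal :=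
      Ideal.map_comap_of_surjective _ Ideal.Quotient.mk_surjective n.asIdeal
    rwa [h4] at h3
  have h5 : algebraMap O A' a ∈ (maximalIdeal O ^ (N + c)).map (algebraMap O A') :=
    Ideal.Quotient.eq_zero_iff_mem.mp h1
  have h6 : algebraMap O A' a ∈ (maximalIdeal O ^ (N + c) • (⊤ : Submodule O A')) ⊓
      LinearMap.range (Algebra.linearMap O A') := by
    refine ⟨?_, ⟨a, rfl⟩⟩
    rw [Ideal.smul_top_eq_map]
    exact h5
  rw [hc (N + c) (Nat.le_add_left c N), Nat.add_sub_cancel] at h6
  have h7 : maximalIdeal O ^ N • ((maximalIdeal O ^ c • (⊤ : Submodule O A')) ⊓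
      LinearMap.range (Algebra.linearMap O A')) ≤
      Submodule.map (Algebra.linearMap O A') (maximalIdeal O ^ N : Ideal O) := by
    refine le_trans (Submodule.smul_mono le_rfl inf_le_right) ?_
    rw [LinearMap.range_eq_map, ← Submodule.map_smul'']
    refine Submodule.map_mono ?_
    intro z hz
    have : maximalIdeal O ^ N • (⊤ : Submodule O O) = maximalIdeal O ^ N := by
      rw [smul_eq_mul, Ideal.mul_top]
    rw [this] at hz
    exact hz
  obtain ⟨a', ha', hφ⟩ := Submodule.mem_map.mp (h7 h6)
  have : a' = a := hinj hφ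
  rw [← this]
  exact ha'

theorem htop_of_finite_injective (hinj : Function.Injective (algebraMap O A')) (N : ℕ) :
    ∃ s : Finset (MaximalSpectrum A' × ℕ),
      ⨅ p ∈ s, Ideal.comap ((algebraMap A' (Localization.AtPrime p.1.asIdeal)).comp
          (algebraMap O A'))
        (maximalIdeal (Localization.AtPrime p.1.asIdeal) ^ p.2) ≤ maximalIdeal O ^ N := by
  classical
  obtain ⟨k, s₀, h⟩ := exists_pow_of_finite_injective O A' hinj N
  refine ⟨s₀.image (fun n => (n, k)), fun a ha => h a fun n hn => ?_⟩
  simp only [Ideal.mem_iInf] at ha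
  have h1 := ha (n, k) (Finset.mem_image_of_mem _ hn)
  rw [Ideal.mem_comap, RingHom.comp_apply] at h1
  have h2 : algebraMap O A' a ∈
      (maximalIdeal (Localization.AtPrime n.asIdeal) ^ k).under A' := Ideal.mem_comap.mpr h1
  rwa [IsLocalization.AtPrime.under_maximalIdeal_pow n.asIdeal
    (Localization.AtPrime n.asIdeal)] at h2

end FiniteInj

end Groth.Agent.Lib.Flatif
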