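import Mathlib
import Groth.Agent.Lib.ArtinFlat_lead

set_option autoImplicit false
set_option backward.isDefEq.respectTransparency false
set_option linter.unusedSimpArgs false
set_option linter.unusedVariables false
set_option linter.unusedSectionVars false
set_option linter.style.longLine false
set_option linter.style.haveILetI false
set_option linter.unnecessarySimpa false
set_option maxHeartbeats 1600000

/-!
# Flatness over an Artinian base tested on a family of local base changes, part 1

* `mem_colon_smul_top`: the colon property `(I M : t) = (I : t) M` of flat modules;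
* `FCAt`: the colon property of the localisation of a module at a prime, stated upstairs;
* `fcAt_of_flat_localized`: it holds when the localisation is flat;
* `joint`: joint linear independence modulo the maximal ideal plus the colon property at
  sufficiently many primes forces relations to be trivial.
-/

namespace Groth.Agent.Lib.Flatif

open TensorProduct IsLocalRing

section FC

variable {A : Type*} [CommRing A] {M : Type*} [AddCommGroup M] [Module A M]

lemma lid_rTensor_mem (J : Ideal A) (z : J ⊗[A] M) :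
    (TensorProduct.lid A M) (J.subtype.rTensor M z) ∈ J • (⊤ : Submodule A M) := by
  induction z using TensorProduct.induction_on with
  | zero => simp
  | tmul j x =>
    simp only [LinearMap.rTensor_tmul, Submodule.coe_subtype, TensorProduct.lid_tmul]
    exact Submodule.smul_mem_smul j.2 trivial
  | add x y hx hy =>
    simp only [map_add]
    exact add_mem hx hy

/-- `(I M : t) ⊆ (I : t) M` for flat `M`. -/
lemma mem_colon_smul_top [Module.Flat A M] (I J : Ideal A) (t : A)
    (hJ : ∀ a : A, a * t ∈ I → a ∈ J) (x : M) (h : t • x ∈ I • (⊤ : Submodule A M)) :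
    x ∈ J • (⊤ : Submodule A M) := by
  set ψ : A →ₗ[A] A ⧸ I := I.mkQ ∘ₗ LinearMap.toSpanSingleton A A t with hψ
  have hex : Function.Exact (LinearMap.ker ψ).subtype ψ := LinearMap.exact_subtype_ker_map ψ
  have hex2 := Module.Flat.rTensor_exact M hex
  have h1 : ψ.rTensor M ((1 : A) ⊗ₜ[A] x) = 0 := by
    rw [LinearMap.rTensor_tmul, hψ, LinearMap.comp_apply, LinearMap.toSpanSingleton_apply,
      Submodule.mkQ_apply, one_smul]
    have : (Submodule.Quotient.mk t : A ⧸ I) = t • (1 : A ⧸ I) := by
      change Ideal.Quotient.mk I t = t • (1 : A ⧸ I)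
      rw [Algebra.smul_def, mul_one]; rfl
    rw [this, TensorProduct.smul_tmul]
    exact (Groth.Agent.Lib.ArtinFlat.one_tmul_eq_zero_iff I (t • x)).mpr h
  obtain ⟨z, hz⟩ := (hex2 _).mp h1
  have h2 := lid_rTensor_mem (LinearMap.ker ψ) z
  rw [hz, TensorProduct.lid_tmul, one_smul] at h2
  refine Submodule.smul_mono_left ?_ h2
  intro a ha
  apply hJ
  have h3 : ψ a = 0 := ha
  rw [hψ, LinearMap.comp_apply, LinearMap.toSpanSingleton_apply, Submodule.mkQ_apply,
    Submodule.Quotient.mk_eq_zero] at h3
  simpa [smul_eq_mul] using h3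

end FC

section Bridge

variable {A' B' : Type*} [CommRing A'] [CommRing B'] [Algebra A' B']
  {M' : Type*} [AddCommGroup M'] [Module B' M'] [Module A' M'] [IsScalarTower A' B' M']

lemma smul_mem_smul_top (I : Ideal A') (b : B') {y : M'}
    (hy : y ∈ I • (⊤ : Submodule A' M')) : b • y ∈ I • (⊤ : Submodule A' M') := by
  refine Submodule.smul_induction_on hy (fun a ha m _ => ?_) (fun x y hx hy => ?_)
  · rw [smul_comm]
    exact Submodule.smul_mem_smul ha trivial
  · rw [smul_add]
    exact add_mem hx hy

variable {L' : Type*} [AddCommGroup L'] [Module B' L'] [Module A' L'] [IsScalarTower A' B' L']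

lemma map_smul_base (ℓ' : M' →ₗ[B'] L') (a : A') (m : M') : ℓ' (a • m) = a • ℓ' m := by
  rw [← algebraMap_smul B' a m, map_smul, algebraMap_smul]

lemma map_mem_smul_top (ℓ' : M' →ₗ[B'] L') (I : Ideal A') {y : M'}
    (hy : y ∈ I • (⊤ : Submodule A' M')) : ℓ' y ∈ I • (⊤ : Submodule A' L') := by
  refine Submodule.smul_induction_on hy (fun a ha m _ => ?_) (fun x y hx hy => ?_)
  · rw [map_smul_base]
    exact Submodule.smul_mem_smul ha trivial
  · rw [map_add]
    exact add_mem hx hy

/-- Membership of the image in `I L'` descends to `I M'` after multiplying by a denominator. -/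
lemma exists_smul_mem_of_map_mem (S : Submonoid B') (ℓ' : M' →ₗ[B'] L') [IsLocalizedModule S ℓ']
    (I : Ideal A') (y : M') (h : ℓ' y ∈ I • (⊤ : Submodule A' L')) :
    ∃ t ∈ S, t • y ∈ I • (⊤ : Submodule A' M') := by
  have key : ∀ l ∈ I • (⊤ : Submodule A' L'), ∃ m'' ∈ I • (⊤ : Submodule A' M'), ∃ s ∈ S,
      s • l = ℓ' m'' := by
    intro l hl
    refine Submodule.smul_induction_on hl (fun a ha l _ => ?_) (fun l₁ l₂ h₁ h₂ => ?_)
    · obtain ⟨⟨m, s⟩, hms⟩ := IsLocalizedModule.surj S ℓ' l
      refine ⟨a • m, Submodule.smul_mem_smul ha trivial, s.1, s.2, ?_⟩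
      have hms' : (s : B') • l = ℓ' m := hms
      rw [smul_comm, hms', map_smul_base]
    · obtain ⟨m₁, hm₁, s₁, hs₁, e₁⟩ := h₁
      obtain ⟨m₂, hm₂, s₂, hs₂, e₂⟩ := h₂
      refine ⟨s₂ • m₁ + s₁ • m₂, add_mem (smul_mem_smul_top I s₂ hm₁) (smul_mem_smul_top I s₁ hm₂),
        s₁ * s₂, S.mul_mem hs₁ hs₂, ?_⟩
      rw [smul_add, map_add, map_smul, map_smul, ← e₁, ← e₂, smul_smul, smul_smul, mul_comm s₂ s₁]
  obtain ⟨m'', hm'', s, hs, e⟩ := key _ h
  have e' : ℓ' (s • y) = ℓ' m'' := by rw [map_smul, e]
  obtain ⟨c, hc⟩ := IsLocalizedModule.exists_of_eq (S := S) e'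
  have hc' : (c : B') • s • y = (c : B') • m'' := hc
  refine ⟨(c : B') * s, S.mul_mem c.2 hs, ?_⟩
  rw [mul_smul, hc']
  exact smul_mem_smul_top I _ hm''

variable (A' M')

/-- The colon property of the localisation of `M'` at the prime `q'`, stated upstairs. -/
def FCAt (q' : Ideal B') : Prop :=
  ∀ (I J : Ideal A') (t : A'), (∀ a : A', a * t ∈ I → a ∈ J) → ∀ (y : M') (s : B'), s ∉ q' →
    s • t • y ∈ I • (⊤ : Submodule A' M') → ∃ s' : B', s' ∉ q' ∧ s' • y ∈ J • (⊤ : Submodule A' M')

variable {A' M'}

theorem fcAt_of_flat_localized (q' : Ideal B') [q'.IsPrime] (ℓ' : M' →ₗ[B'] L')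
    [IsLocalizedModule q'.primeCompl ℓ'] [Module.Flat A' L'] : FCAt A' M' q' := by
  intro I J t hJ y s hs h
  have h1 : t • ℓ' (s • y) ∈ I • (⊤ : Submodule A' L') := by
    rw [← map_smul_base, smul_comm]
    exact map_mem_smul_top ℓ' I h
  have h2 := mem_colon_smul_top I J t hJ (ℓ' (s • y)) h1
  obtain ⟨u, hu, hmem⟩ := exists_smul_mem_of_map_mem q'.primeCompl ℓ' J (s • y) h2
  refine ⟨u * s, q'.primeCompl.mul_mem hu hs, ?_⟩
  rw [mul_smul]
  exact hmem

/-- Joint independence modulo the maximal ideal plus the colon property at the primes of `Q`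
forces every relation modulo `𝔡` to have coefficients in `𝔡`. -/
theorem joint [IsLocalRing A'] (Q : Set (Ideal B')) (hQ : ∀ q' ∈ Q, FCAt A' M' q')
    (hQ1 : ∀ q' ∈ Q, (1 : B') ∉ q') (𝔡 : Ideal A') :
    ∀ (r : ℕ) (v : Fin r → M') (f : Fin r → A'),
      (∀ a : Fin r → A', (∀ q' ∈ Q, ∃ s : B', s ∉ q' ∧
        s • ∑ i, a i • v i ∈ maximalIdeal A' • (⊤ : Submodule A' M')) →
          ∀ i, a i ∈ maximalIdeal A') →
      (∑ i, f i • v i ∈ 𝔡 • (⊤ : Submodule A' M')) → ∀ i, f i ∈ 𝔡 := by
  intro r
  induction r with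
  | zero => intro v f _ _ i; exact i.elim0
  | succ r ih =>
    intro v f hj hrel
    -- a prime at which the last vector is nonzero modulo the maximal ideal
    have h1 : ∃ q' ∈ Q, ∀ s : B', s ∉ q' →
        s • v (Fin.last r) ∉ maximalIdeal A' • (⊤ : Submodule A' M') := by
      by_contra hcon
      push_neg at hcon
      have h2 := hj (Pi.single (Fin.last r) 1) (fun q' hq' => by
        obtain ⟨s, hs, hmem⟩ := hcon q' hq'
        refine ⟨s, hs, ?_⟩
        have : ∑ i, (Pi.single (Fin.last r) (1 : A') : Fin (r + 1) → A') i • v i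
            = v (Fin.last r) := by
          rw [Finset.sum_eq_single (Fin.last r)]
          · rw [Pi.single_eq_same, one_smul]
          · intro b _ hb
            rw [Pi.single_eq_of_ne hb, zero_smul]
          · intro h; exact absurd (Finset.mem_univ _) h
        rw [this]
        exact hmem) (Fin.last r)
      rw [Pi.single_eq_same] at h2
      exact (Ideal.ne_top_iff_one _).mp (maximalIdeal.isMaximal A').ne_top h2
    obtain ⟨q', hq'Q, hq'⟩ := h1
    set I : Ideal A' := 𝔡 ⊔ Ideal.span (Set.range (fun i : Fin r => f i.castSucc)) with hI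
    have hsplit : ∑ i, f i • v i = (∑ i : Fin r, f i.castSucc • v i.castSucc) +
        f (Fin.last r) • v (Fin.last r) := Fin.sum_univ_castSucc _
    have h2 : f (Fin.last r) • v (Fin.last r) ∈ I • (⊤ : Submodule A' M') := by
      have e : f (Fin.last r) • v (Fin.last r) = (∑ i, f i • v i) -
          ∑ i : Fin r, f i.castSucc • v i.castSucc := by rw [hsplit]; abel
      rw [e]
      refine sub_mem (Submodule.smul_mono_left le_sup_left hrel) (sum_mem fun i _ => ?_)
      exact Submodule.smul_mem_smul
        ((le_sup_right : _ ≤ I) (Ideal.subset_span ⟨i, rfl⟩)) trivial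
    have hfI : f (Fin.last r) ∈ I := by
      by_contra hfI
      have hJ : ∀ a : A', a * f (Fin.last r) ∈ I → a ∈ maximalIdeal A' := by
        intro a ha
        by_contra hau
        have hu : IsUnit a := by
          by_contra hnu
          exact hau ((mem_maximalIdeal a).mpr hnu)
        obtain ⟨u, rfl⟩ := hu
        apply hfI
        have := I.mul_mem_left (↑u⁻¹ : A') ha
        rwa [← mul_assoc, Units.inv_mul, one_mul] at this
      obtain ⟨s', hs', hmem⟩ := hQ q' hq'Q I (maximalIdeal A') (f (Fin.last r)) hJ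
        (v (Fin.last r)) 1 (hQ1 q' hq'Q) (by rw [one_smul]; exact h2)
      exact hq' s' hs' hmem
    obtain ⟨d, hd, e, he, hde⟩ := Submodule.mem_sup.mp hfI
    obtain ⟨c, hc⟩ := Ideal.mem_span_range_iff_exists_fun.mp he
    -- the new family
    have hcomp : ∀ a : Fin r → A', ∑ i, a i • (v i.castSucc + c i • v (Fin.last r)) =
        (∑ i : Fin r, a i • v i.castSucc) + (∑ i, a i * c i) • v (Fin.last r) := by
      intro a
      simp only [smul_add, Finset.sum_add_distrib, smul_smul, ← Finset.sum_smul]
    have hres := ih (fun i => v i.castSucc + c i • v (Fin.last r)) (fun i => f i.castSucc) ?_ ?_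
    · intro i
      refine Fin.lastCases ?_ (fun j => hres j) i
      rw [← hde]
      refine 𝔡.add_mem hd ?_
      rw [← hc]
      exact 𝔡.sum_mem fun j _ => 𝔡.mul_mem_left _ (hres j)
    · -- joint independence of the new family
      intro a ha j
      have h3 := hj (Fin.snoc (α := fun _ => A') a (∑ i, a i * c i)) (fun q'' hq'' => by
        obtain ⟨s, hs, hmem⟩ := ha q'' hq''
        refine ⟨s, hs, ?_⟩
        have : ∑ i : Fin (r + 1), (Fin.snoc (α := fun _ => A') a (∑ i, a i * c i) :
            Fin (r + 1) → A') i • v i = ∑ i, a i • (v i.castSucc + c i • v (Fin.last r)) := by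
          rw [Fin.sum_univ_castSucc, hcomp]
          simp only [Fin.snoc_castSucc, Fin.snoc_last]
        rw [this]
        exact hmem) j.castSucc
      simpa only [Fin.snoc_castSucc] using h3
    · -- the relation for the new family
      rw [hcomp]
      have e1 : ∑ i, f i.castSucc * c i = e := by
        rw [← hc]
        exact Finset.sum_congr rfl fun i _ => mul_comm _ _
      have e2 : (∑ i : Fin r, f i.castSucc • v i.castSucc) + (∑ i, f i.castSucc * c i) •
          v (Fin.last r) = (∑ i, f i • v i) - d • v (Fin.last r) := by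
        rw [hsplit, e1, ← hde, add_smul]
        abel
      rw [e2]
      exact sub_mem hrel (Submodule.smul_mem_smul hd trivial)

end Bridge

end Groth.Agent.Lib.Flatif
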