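import Mathlib
import Groth.Agent.Lib.Flatif1_lead

set_option autoImplicit false
set_option backward.isDefEq.respectTransparency false
set_option linter.unusedSimpArgs false
set_option linter.unusedVariables false
set_option linter.unusedSectionVars false
set_option linter.style.longLine false
set_option linter.style.haveILetI false
set_option linter.unnecessarySimpa false
set_option maxHeartbeats 1600000

/-!
# Flatness over an Artinian base tested on a family of local base changes, part 2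

Independence upstairs: `li_core` and `li_field`.
-/

namespace Groth.Agent.Lib.Flatif

open TensorProduct IsLocalRing

universe u

section Core

variable {A B A' B' : Type u} [CommRing A] [CommRing B] [CommRing A'] [CommRing B']
  [IsLocalRing A] [IsLocalRing A']
  [Algebra A B] [Algebra A A'] [Algebra A' B'] [Algebra B B'] [Algebra A B']
  [IsScalarTower A A' B'] [IsScalarTower A B B'] [Algebra.IsPushout A B A' B']
  (p : Ideal B) [p.IsPrime]
  {M M' G : Type u} [AddCommGroup M] [AddCommGroup M'] [AddCommGroup G]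
  [Module B M] [Module A M] [IsScalarTower A B M]
  [Module B' M'] [Module B M'] [Module A' M'] [IsScalarTower B B' M'] [IsScalarTower A' B' M']
  [Module B G] [Module A G] [IsScalarTower A B G]
  (ι : M →ₗ[B] M') (hι : IsBaseChange B' ι) (gbar : M →ₗ[B] G)

local notation "κ'" => A' ⧸ maximalIdeal A'
local notation "k" => A ⧸ maximalIdeal A

include hι in
theorem li_core
    (hloc : ∀ a ∈ maximalIdeal A, algebraMap A A' a ∈ maximalIdeal A')
    (hm : ∀ a ∈ maximalIdeal A, ∀ g : G, a • g = 0)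
    (hn : ∃ n : ℕ, ∀ t ∈ p, ∀ g : G, t ^ n • g = 0)
    (hs : ∀ s : B, s ∉ p → Function.Bijective (fun g : G => s • g))
    {r : ℕ} (x : Fin r → M)
    (hind : ∀ a : Fin r → A, ∑ i, a i • gbar (x i) = 0 → ∀ i, a i ∈ maximalIdeal A)
    (a' : Fin r → A')
    (hyp : ∀ q' : Ideal B', q'.IsPrime → q'.comap (algebraMap B B') = p →
      q'.comap (algebraMap A' B') = maximalIdeal A' → ∃ s : B', s ∉ q' ∧
        s • ∑ i, a' i • ι (x i) ∈ maximalIdeal A' • (⊤ : Submodule A' M')) :
    ∀ i, a' i ∈ maximalIdeal A' := by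
  classical
  by_contra hcon
  push_neg at hcon
  obtain ⟨i₀, hi₀⟩ := hcon
  -- the two actions on `F = κ' ⊗ G`
  let fB : B →ₐ[A] Module.End κ' (κ' ⊗[A] G) :=
    (Module.End.baseChangeHom A κ' G).comp (Algebra.lsmul A A G)
  let gA : A' →ₐ[A] Module.End κ' (κ' ⊗[A] G) :=
    ((Algebra.ofId κ' (Module.End κ' (κ' ⊗[A] G))).restrictScalars A).comp
      (IsScalarTower.toAlgHom A A' κ')
  have hfB : ∀ (b : B) (c : κ') (g : G), fB b (c ⊗ₜ[A] g) = c ⊗ₜ[A] (b • g) := fun b c g => by
    first
      | rfl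
      | (simp [fB]; rfl)
  have hgA : ∀ (a : A') (w : κ' ⊗[A] G), gA a w = (Ideal.Quotient.mk (maximalIdeal A') a) • w :=
    fun a w => by
      simp [gA, Algebra.ofId_apply, Module.algebraMap_end_apply]
  have hcomm : ∀ (b : B) (a : A'), fB b * gA a = gA a * fB b := by
    intro b a
    refine LinearMap.ext fun w => ?_
    rw [Module.End.mul_apply, Module.End.mul_apply, hgA, hgA, map_smul]
  let ρ : B' →ₐ[A] Module.End κ' (κ' ⊗[A] G) := Algebra.pushoutDesc B' fB gA hcomm
  have hρB : ∀ b : B, ρ (algebraMap B B' b) = fB b :=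
    fun b => Algebra.pushoutDesc_left B' fB gA hcomm b
  have hρA : ∀ a : A', ρ (algebraMap A' B' a) = gA a :=
    fun a => Algebra.pushoutDesc_right B' fB gA hcomm a
  letI mB'F : Module B' (κ' ⊗[A] G) :=
    Module.compHom (κ' ⊗[A] G) (ρ : B' →+* Module.End κ' (κ' ⊗[A] G))
  letI mBF : Module B (κ' ⊗[A] G) :=
    Module.compHom (κ' ⊗[A] G) ((ρ : B' →+* Module.End κ' (κ' ⊗[A] G)).comp (algebraMap B B'))
  haveI : IsScalarTower B B' (κ' ⊗[A] G) := IsScalarTower.of_algebraMap_smul fun _ _ => rfl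
  have hsmulB : ∀ (b : B) (w : κ' ⊗[A] G), b • w = fB b w := fun b w => by
    show ρ (algebraMap B B' b) w = fB b w
    rw [hρB]
  let θ₀ : M →ₗ[B] (κ' ⊗[A] G) :=
    { toFun := fun y => (1 : κ') ⊗ₜ[A] gbar y
      map_add' := fun y₁ y₂ => by rw [map_add, TensorProduct.tmul_add]
      map_smul' := fun b y => by
        rw [RingHom.id_apply, hsmulB, hfB, map_smul] }
  let Θ : M' →ₗ[B'] (κ' ⊗[A] G) := hι.lift θ₀
  have hΘι : ∀ y : M, Θ (ι y) = (1 : κ') ⊗ₜ[A] gbar y := fun y => hι.lift_eq θ₀ y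
  have hΘB : ∀ (b' : B') (w : M'), Θ (b' • w) = ρ b' (Θ w) := fun b' w => by
    rw [map_smul]
    rfl
  have hΘA : ∀ (a : A') (w : M'),
      Θ (a • w) = Ideal.Quotient.mk (maximalIdeal A') a • Θ w := fun a w => by
    rw [← algebraMap_smul B' a w, hΘB, hρA, hgA]
  have hΘm : ∀ w ∈ maximalIdeal A' • (⊤ : Submodule A' M'), Θ w = 0 := by
    intro w hw
    refine Submodule.smul_induction_on hw (fun a ha m _ => ?_) (fun x y hx hy => ?_)
    · rw [hΘA, Ideal.Quotient.eq_zero_iff_mem.mpr ha, zero_smul]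
    · rw [map_add, hx, hy, add_zero]
  have hzval : Θ (∑ i, a' i • ι (x i)) =
      ∑ i, (Ideal.Quotient.mk (maximalIdeal A') (a' i)) ⊗ₜ[A] gbar (x i) := by
    rw [map_sum]
    refine Finset.sum_congr rfl fun i _ => ?_
    rw [hΘA, hΘι, TensorProduct.smul_tmul', smul_eq_mul, mul_one]
  -- Step Z : the image is nonzero
  have hz0 : Θ (∑ i, a' i • ι (x i)) ≠ 0 := by
    letI : Field k := Ideal.Quotient.field (maximalIdeal A)
    have hbot : ∀ g ∈ maximalIdeal A • (⊤ : Submodule A G), g = 0 := by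
      intro g hg
      refine Submodule.smul_induction_on hg (fun a ha g _ => hm a ha g) (fun x y hx hy => ?_)
      rw [hx, hy, add_zero]
    have hli : LinearIndependent k (fun j : Fin r => ((1 : k) ⊗ₜ[A] gbar (x j) : k ⊗[A] G)) := by
      rw [Fintype.linearIndependent_iff]
      intro c hc j
      choose a ha using fun j => Ideal.Quotient.mk_surjective (I := maximalIdeal A) (c j)
      have h1 : ∑ j, c j • ((1 : k) ⊗ₜ[A] gbar (x j) : k ⊗[A] G) =
          (1 : k) ⊗ₜ[A] (∑ j, a j • gbar (x j)) := by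
        rw [TensorProduct.tmul_sum]
        refine Finset.sum_congr rfl fun j _ => ?_
        rw [TensorProduct.smul_tmul', smul_eq_mul, mul_one, ← ha j, TensorProduct.tmul_smul,
          TensorProduct.smul_tmul']
        congr 1
        rw [Algebra.smul_def, mul_one]
        rfl
      rw [h1, Groth.Agent.Lib.ArtinFlat.one_tmul_eq_zero_iff] at hc
      have h2 := hind a (hbot _ hc) j
      rw [← ha j]
      exact Ideal.Quotient.eq_zero_iff_mem.mpr h2
    let f : (Fin r → k) →ₗ[k] (k ⊗[A] G) :=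
      Fintype.linearCombination k (fun j : Fin r => ((1 : k) ⊗ₜ[A] gbar (x j) : k ⊗[A] G))
    have hker : LinearMap.ker f = ⊥ := by
      refine LinearMap.ker_eq_bot'.mpr fun c hc => funext fun j => ?_
      exact (Fintype.linearIndependent_iff.mp hli) c
        (by rw [← Fintype.linearCombination_apply]; exact hc) j
    obtain ⟨gl, hgl⟩ := f.exists_leftInverse_of_injective hker
    let φ : (k ⊗[A] G) →ₗ[k] k := (LinearMap.proj i₀).comp gl
    have hφ : ∀ j : Fin r, φ ((1 : k) ⊗ₜ[A] gbar (x j)) = if j = i₀ then 1 else 0 := by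
      intro j
      have e1 : f (Pi.single j 1) = (1 : k) ⊗ₜ[A] gbar (x j) := by
        rw [Fintype.linearCombination_apply_single, one_smul]
      have e2 : gl (f (Pi.single j 1)) = Pi.single j 1 := LinearMap.congr_fun hgl _
      show (gl ((1 : k) ⊗ₜ[A] gbar (x j))) i₀ = _
      rw [← e1, e2, Pi.single_apply]
      by_cases h : j = i₀
      · rw [if_pos h, if_pos h.symm]
      · rw [if_neg h, if_neg (Ne.symm h)]
    have hle : maximalIdeal A ≤ LinearMap.ker (Algebra.linearMap A κ') := by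
      intro a ha
      rw [LinearMap.mem_ker, Algebra.linearMap_apply,
        IsScalarTower.algebraMap_apply A A' κ']
      exact Ideal.Quotient.eq_zero_iff_mem.mpr (hloc a ha)
    let kκ : k →ₗ[A] κ' := Submodule.liftQ (maximalIdeal A) (Algebra.linearMap A κ') hle
    have hkκ1 : kκ 1 = 1 := by
      show kκ (Submodule.Quotient.mk 1) = 1
      rw [Submodule.liftQ_apply, Algebra.linearMap_apply, map_one]
    let ψ : G →ₗ[A] κ' := kκ ∘ₗ (φ.restrictScalars A) ∘ₗ (TensorProduct.mk A k G 1)
    have hψ : ∀ j : Fin r, ψ (gbar (x j)) = if j = i₀ then 1 else 0 := by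
      intro j
      show kκ (φ ((1 : k) ⊗ₜ[A] gbar (x j))) = _
      rw [hφ]
      by_cases h : j = i₀
      · rw [if_pos h, if_pos h, hkκ1]
      · rw [if_neg h, if_neg h, map_zero]
    let Ψ : (κ' ⊗[A] G) →ₗ[A] κ' := (LinearMap.mul' A κ') ∘ₗ (LinearMap.lTensor κ' ψ)
    have hΨ : ∀ (c : κ') (g : G), Ψ (c ⊗ₜ[A] g) = c * ψ g := fun c g => by
      show LinearMap.mul' A κ' (LinearMap.lTensor κ' ψ (c ⊗ₜ[A] g)) = _
      rw [LinearMap.lTensor_tmul, LinearMap.mul'_apply]
    intro hzero
    have h3 : Ψ (Θ (∑ i, a' i • ι (x i))) = Ideal.Quotient.mk (maximalIdeal A') (a' i₀) := by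
      rw [hzval, map_sum]
      rw [Finset.sum_eq_single i₀]
      · rw [hΨ, hψ, if_pos rfl, mul_one]
      · intro j _ hj
        rw [hΨ, hψ, if_neg hj, mul_zero]
      · intro h
        exact absurd (Finset.mem_univ _) h
    rw [hzero, map_zero] at h3
    exact hi₀ (Ideal.Quotient.eq_zero_iff_mem.mp h3.symm)
  set z : κ' ⊗[A] G := Θ (∑ i, a' i • ι (x i)) with hz
  -- the annihilator-type ideal
  let 𝔄 : Ideal B' :=
    { carrier := {t | ρ t z = 0}
      add_mem' := fun {s t} hs ht => by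
        show ρ (s + t) z = 0
        have hs' : ρ s z = 0 := hs
        have ht' : ρ t z = 0 := ht
        rw [map_add, LinearMap.add_apply, hs', ht', add_zero]
      zero_mem' := by
        show ρ 0 z = 0
        rw [map_zero, LinearMap.zero_apply]
      smul_mem' := fun c t ht => by
        show ρ (c • t) z = 0
        have ht' : ρ t z = 0 := ht
        rw [smul_eq_mul, map_mul, Module.End.mul_apply, ht', map_zero] }
  have hρm : ∀ μ ∈ (maximalIdeal A').map (algebraMap A' B'), ρ μ = 0 := by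
    intro μ hμ
    refine Submodule.span_induction (p := fun μ _ => ρ μ = 0) ?_ ?_ ?_ ?_ hμ
    · rintro _ ⟨a, ha, rfl⟩
      refine LinearMap.ext fun w => ?_
      rw [hρA, hgA, Ideal.Quotient.eq_zero_iff_mem.mpr ha, zero_smul, LinearMap.zero_apply]
    · exact map_zero ρ
    · intro μ₁ μ₂ _ _ h₁ h₂
      rw [map_add, h₁, h₂, add_zero]
    · intro c μ _ h
      rw [smul_eq_mul, map_mul, h, mul_zero]
  have hinj : ∀ s : B, s ∉ p → Function.Injective (fB s) := by
    intro s hsp
    let σ : G ≃ₗ[A] G := LinearEquiv.ofBijective (Algebra.lsmul A A G s) (hs s hsp)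
    have hσ : ∀ w : κ' ⊗[A] G, ((σ.symm : G →ₗ[A] G).baseChange κ') (fB s w) = w := by
      intro w
      induction w using TensorProduct.induction_on with
      | zero => simp
      | tmul c g =>
        rw [hfB, LinearMap.baseChange_tmul]
        congr 1
        exact σ.symm_apply_apply g
      | add w₁ w₂ h₁ h₂ => rw [map_add, map_add, h₁, h₂]
    exact Function.LeftInverse.injective hσ
  have hdisj : Disjoint ((𝔄 ⊔ (maximalIdeal A').map (algebraMap A' B') : Ideal B') : Set B')
      (Algebra.algebraMapSubmonoid B' p.primeCompl : Set B') := by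
    rw [Set.disjoint_left]
    rintro e he ⟨s, hs', rfl⟩
    obtain ⟨α, hα, μ, hμ, hαμ⟩ := Submodule.mem_sup.mp he
    have hα' : ρ α z = 0 := hα
    have h1 : ρ (algebraMap B B' s) z = 0 := by
      rw [← hαμ, map_add, LinearMap.add_apply, hρm μ hμ, LinearMap.zero_apply, add_zero]
      exact hα'
    rw [hρB] at h1
    exact hz0 (hinj s hs' (by rw [h1, map_zero]))
  obtain ⟨q', hq'prime, hq'le, hq'disj⟩ := Ideal.exists_le_prime_disjoint _ _ hdisj
  haveI := hq'prime
  have hq'p : q'.comap (algebraMap B B') = p := by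
    ext b
    constructor
    · intro hb
      by_contra hbp
      exact (Set.disjoint_left.mp hq'disj) hb ⟨b, hbp, rfl⟩
    · intro hb
      obtain ⟨n, hn⟩ := hn
      have hzero : fB (b ^ n) = 0 := by
        refine LinearMap.ext fun w => ?_
        induction w using TensorProduct.induction_on with
        | zero => simp
        | tmul c g => rw [hfB, hn b hb g, TensorProduct.tmul_zero, LinearMap.zero_apply]
        | add w₁ w₂ h₁ h₂ => simp only [map_add, h₁, h₂, LinearMap.zero_apply, add_zero]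
      have h1 : (algebraMap B B' b) ^ n ∈ q' := by
        apply hq'le
        apply Ideal.mem_sup_left
        show ρ ((algebraMap B B' b) ^ n) z = 0
        rw [← map_pow, hρB, hzero, LinearMap.zero_apply]
      exact hq'prime.mem_of_pow_mem n h1
  have hq'm : q'.comap (algebraMap A' B') = maximalIdeal A' := by
    have hle : maximalIdeal A' ≤ q'.comap (algebraMap A' B') := by
      rw [← Ideal.map_le_iff_le_comap]
      exact le_trans le_sup_right hq'le
    have hne : q'.comap (algebraMap A' B') ≠ ⊤ :=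
      (Ideal.comap_isPrime (algebraMap A' B') q').ne_top
    exact ((maximalIdeal.isMaximal A').eq_of_le hne hle).symm
  obtain ⟨s, hsq, hmem⟩ := hyp q' hq'prime hq'p hq'm
  have h1 : ρ s z = 0 := by
    rw [hz, ← hΘB]
    exact hΘm _ hmem
  exact hsq (hq'le (Ideal.mem_sup_left h1))

end Core

section Field

variable {A B Bx A' B' : Type u} [CommRing A] [CommRing B] [CommRing Bx] [CommRing A']
  [CommRing B'] [IsLocalRing A] [IsArtinianRing A] [IsLocalRing A']
  [Algebra A B] [Algebra B Bx] [Algebra A Bx] [IsScalarTower A B Bx]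
  [Algebra A A'] [Algebra A' B'] [Algebra B B'] [Algebra A B']
  [IsScalarTower A A' B'] [IsScalarTower A B B'] [Algebra.IsPushout A B A' B']
  (p : Ideal B) [p.IsPrime] [IsLocalization.AtPrime Bx p] [IsNoetherianRing Bx]
  {M Mx M' : Type u} [AddCommGroup M] [AddCommGroup Mx] [AddCommGroup M']
  [Module B M] [Module A M] [IsScalarTower A B M]
  [Module Bx Mx] [Module B Mx] [Module A Mx] [IsScalarTower B Bx Mx] [IsScalarTower A B Mx]
  [IsScalarTower A Bx Mx] [Module.Finite Bx Mx]
  [Module B' M'] [Module B M'] [Module A' M'] [IsScalarTower B B' M'] [IsScalarTower A' B' M']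
  (ι : M →ₗ[B] M') (hι : IsBaseChange B' ι) (ℓ : M →ₗ[B] Mx)

variable (Bx) in
include hι Bx in
theorem li_field
    (hloc : ∀ a ∈ maximalIdeal A, algebraMap A A' a ∈ maximalIdeal A')
    {r : ℕ} (x : Fin r → M)
    (hind : ∀ a : Fin r → A, ∑ i, a i • ℓ (x i) ∈ maximalIdeal A • (⊤ : Submodule A Mx) →
      ∀ i, a i ∈ maximalIdeal A)
    (a' : Fin r → A')
    (hyp : ∀ q' : Ideal B', q'.IsPrime → q'.comap (algebraMap B B') = p →
      q'.comap (algebraMap A' B') = maximalIdeal A' → ∃ s : B', s ∉ q' ∧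
        s • ∑ i, a' i • ι (x i) ∈ maximalIdeal A' • (⊤ : Submodule A' M')) :
    ∀ i, a' i ∈ maximalIdeal A' := by
  classical
  haveI : IsLocalRing Bx := IsLocalization.AtPrime.isLocalRing Bx p
  let 𝔪B : Ideal Bx := (maximalIdeal A).map (algebraMap A Bx)
  let P : ℕ → Submodule Bx Mx := fun n => (𝔪B ⊔ maximalIdeal Bx ^ n) • ⊤
  have hA0 : ∀ b ∈ 𝔪B, ∀ m : Mx, b • m ∈ maximalIdeal A • (⊤ : Submodule A Mx) := by
    intro b hb
    refine Submodule.span_induction
      (p := fun b _ => ∀ m : Mx, b • m ∈ maximalIdeal A • (⊤ : Submodule A Mx)) ?_ ?_ ?_ ?_ hb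
    · rintro _ ⟨a, ha, rfl⟩ m
      rw [algebraMap_smul]
      exact Submodule.smul_mem_smul ha trivial
    · intro m
      rw [zero_smul]
      exact zero_mem _
    · intro b₁ b₂ _ _ h₁ h₂ m
      rw [add_smul]
      exact add_mem (h₁ m) (h₂ m)
    · intro c b _ hb m
      rw [smul_eq_mul, mul_comm, mul_smul]
      exact hb (c • m)
  have hA : ∀ y ∈ (𝔪B • ⊤ : Submodule Bx Mx), y ∈ maximalIdeal A • (⊤ : Submodule A Mx) := by
    intro y hy
    refine Submodule.smul_induction_on hy (fun b hb m _ => hA0 b hb m)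
      (fun y₁ y₂ h₁ h₂ => add_mem h₁ h₂)
  -- Krull
  have hK : ∀ y : Mx, (∀ n, y ∈ P n) → y ∈ (𝔪B • ⊤ : Submodule Bx Mx) := by
    intro y hy
    have hkr : (⨅ i : ℕ, maximalIdeal Bx ^ i • ⊤ :
        Submodule Bx (Mx ⧸ (𝔪B • ⊤ : Submodule Bx Mx))) = ⊥ :=
      Ideal.iInf_pow_smul_eq_bot_of_isLocalRing (maximalIdeal Bx)
        (maximalIdeal.isMaximal Bx).ne_top
    have hmem : (𝔪B • ⊤ : Submodule Bx Mx).mkQ y ∈ (⨅ i : ℕ, maximalIdeal Bx ^ i • ⊤ :
        Submodule Bx (Mx ⧸ (𝔪B • ⊤ : Submodule Bx Mx))) := by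
      rw [Submodule.mem_iInf]
      intro n
      have hyn : y ∈ (𝔪B • ⊤ : Submodule Bx Mx) ⊔ maximalIdeal Bx ^ n • ⊤ := by
        have := hy n
        rwa [show P n = 𝔪B • ⊤ ⊔ maximalIdeal Bx ^ n • ⊤ from Submodule.sup_smul _ _ _] at this
      obtain ⟨y₁, hy₁, y₂, hy₂, rfl⟩ := Submodule.mem_sup.mp hyn
      have e1 : (𝔪B • ⊤ : Submodule Bx Mx).mkQ y₁ = 0 := by
        rw [Submodule.mkQ_apply]
        exact (Submodule.Quotient.mk_eq_zero _).mpr hy₁
      rw [map_add, e1, zero_add]
      have h2 := Submodule.mem_map_of_mem (f := (𝔪B • ⊤ : Submodule Bx Mx).mkQ) hy₂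
      rw [Submodule.map_smul''] at h2
      exact Submodule.smul_mono le_rfl le_top h2
    rw [hkr, Submodule.mem_bot, Submodule.mkQ_apply] at hmem
    exact (Submodule.Quotient.mk_eq_zero _).mp hmem
  -- stabilisation
  let Φ : (Fin r → A) →ₗ[A] Mx := Fintype.linearCombination A (fun i => ℓ (x i))
  have hΦ : ∀ a, Φ a = ∑ i, a i • ℓ (x i) := fun a => Fintype.linearCombination_apply A _ a
  let K : ℕ → Submodule A (Fin r → A) := fun n => ((P n).restrictScalars A).comap Φ
  have hPanti : Antitone P := by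
    refine antitone_nat_of_succ_le fun n => ?_
    exact Submodule.smul_mono_left (sup_le_sup_left (Ideal.pow_le_pow_right (Nat.le_succ n)) _)
  have hKanti : Antitone K := fun m n hmn a ha => hPanti hmn ha
  obtain ⟨n₀, hn₀⟩ := IsArtinian.monotone_stabilizes (R := A) (M := Fin r → A)
    ⟨fun n => OrderDual.toDual (K n), fun m n hmn => hKanti hmn⟩
  have hindn : ∀ a : Fin r → A, ∑ i, a i • ℓ (x i) ∈ P n₀ → ∀ i, a i ∈ maximalIdeal A := by
    intro a ha
    apply hind a
    apply hA
    apply hK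
    intro n
    rcases le_total n n₀ with h | h
    · exact hPanti h ha
    · have e : K n₀ = K n := congrArg OrderDual.ofDual (hn₀ n h)
      have ha' : a ∈ K n₀ := by
        show Φ a ∈ P n₀
        rw [hΦ]
        exact ha
      rw [e] at ha'
      have h3 : Φ a ∈ P n := ha'
      rwa [hΦ] at h3
  -- the finite-length quotient
  haveI : IsScalarTower A B (Mx ⧸ P n₀) := ⟨fun a b g => by
    obtain ⟨y, rfl⟩ := Submodule.Quotient.mk_surjective _ g
    rw [← Submodule.Quotient.mk_smul, ← Submodule.Quotient.mk_smul, ← Submodule.Quotient.mk_smul,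
      smul_assoc]⟩
  refine li_core p ι hι (((P n₀).mkQ.restrictScalars B).comp ℓ) hloc ?_ ?_ ?_ x ?_ a' hyp
  · intro a ha g
    obtain ⟨y, rfl⟩ := Submodule.Quotient.mk_surjective _ g
    rw [← Submodule.Quotient.mk_smul, Submodule.Quotient.mk_eq_zero, ← algebraMap_smul Bx a y]
    exact Submodule.smul_mem_smul (Ideal.mem_sup_left (Ideal.mem_map_of_mem _ ha)) trivial
  · refine ⟨n₀, fun t ht g => ?_⟩
    obtain ⟨y, rfl⟩ := Submodule.Quotient.mk_surjective _ g
    have ht' : algebraMap B Bx t ∈ maximalIdeal Bx :=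
      (IsLocalization.AtPrime.to_map_mem_maximal_iff Bx p t).mpr ht
    rw [← Submodule.Quotient.mk_smul, Submodule.Quotient.mk_eq_zero,
      ← algebraMap_smul Bx (t ^ n₀) y, map_pow]
    exact Submodule.smul_mem_smul (Ideal.mem_sup_right (Ideal.pow_mem_pow ht' n₀)) trivial
  · intro s hs
    obtain ⟨u, hu⟩ := IsLocalization.map_units Bx (⟨s, hs⟩ : p.primeCompl)
    have hsg : ∀ g : Mx ⧸ P n₀, s • g = (u : Bx) • g := by
      intro g
      obtain ⟨y, rfl⟩ := Submodule.Quotient.mk_surjective _ g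
      rw [← Submodule.Quotient.mk_smul, ← Submodule.Quotient.mk_smul, hu, algebraMap_smul]
    refine Function.bijective_iff_has_inverse.mpr ⟨fun g => (↑u⁻¹ : Bx) • g, fun g => ?_, fun g => ?_⟩
    · show (↑u⁻¹ : Bx) • s • g = g
      rw [hsg, smul_smul, Units.inv_mul, one_smul]
    · show s • (↑u⁻¹ : Bx) • g = g
      rw [hsg, smul_smul, Units.mul_inv, one_smul]
  · intro a ha
    have e : ∑ i, a i • (((P n₀).mkQ.restrictScalars B).comp ℓ) (x i) =
        (P n₀).mkQ (∑ i, a i • ℓ (x i)) := by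
      rw [map_sum]
      refine Finset.sum_congr rfl fun i _ => ?_
      exact (Submodule.Quotient.mk_smul _ _ _).symm
    rw [e, Submodule.mkQ_apply] at ha
    exact hindn a ((Submodule.Quotient.mk_eq_zero _).mp ha)

end Field

end Groth.Agent.Lib.Flatif
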