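import Mathlib
import Groth.Agent.Lib.Flatif2_lead

set_option autoImplicit false
set_option backward.isDefEq.respectTransparency false
set_option linter.unusedSimpArgs false
set_option linter.unusedVariables false
set_option linter.unusedSectionVars false
set_option linter.style.longLine false
set_option linter.style.haveILetI false
set_option linter.unnecessarySimpa false
set_option maxHeartbeats 1600000

/-!
# Flatness over an Artinian base tested on a family of local base changes, part 3

The algebraic core: `rt_single` (a relation downstairs has coefficients killed by the base change)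
and `flat_of_rt` (a stalk all of whose "independent" relations are trivial is free).
-/

namespace Groth.Agent.Lib.Flatif

open TensorProduct IsLocalRing

universe u

lemma exists_pow_max_eq_bot (A : Type*) [CommRing A] [IsLocalRing A] [IsArtinianRing A] :
    ∃ n : ℕ, maximalIdeal A ^ n = ⊥ := by
  have h := IsArtinianRing.isNilpotent_jacobson_bot (R := A)
  rw [IsLocalRing.jacobson_eq_maximalIdeal ⊥ bot_ne_top] at h
  obtain ⟨n, hn⟩ := h
  exact ⟨n, by rw [hn, Ideal.zero_eq_bot]⟩

lemma hloc_of_artinian {A A' : Type*} [CommRing A] [CommRing A'] [IsLocalRing A]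
    [IsArtinianRing A] [IsLocalRing A'] (φ : A →+* A') :
    ∀ a ∈ maximalIdeal A, φ a ∈ maximalIdeal A' := by
  intro a ha
  obtain ⟨n, hn⟩ := exists_pow_max_eq_bot A
  have h1 : a ^ n = 0 := by
    have := Ideal.pow_mem_pow ha n
    rw [hn] at this
    exact Ideal.mem_bot.mp this
  have h2 : φ a ^ n ∈ maximalIdeal A' := by
    rw [← map_pow, h1, map_zero]
    exact zero_mem _
  exact (maximalIdeal.isMaximal A').isPrime.mem_of_pow_mem n h2

section RT

variable {A B Bx A' B' : Type u} [CommRing A] [CommRing B] [CommRing Bx] [CommRing A']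
  [CommRing B'] [IsLocalRing A] [IsArtinianRing A] [IsLocalRing A']
  [Algebra A B] [Algebra B Bx] [Algebra A Bx] [IsScalarTower A B Bx]
  [Algebra A A'] [Algebra A' B'] [Algebra B B'] [Algebra A B']
  [IsScalarTower A A' B'] [IsScalarTower A B B'] [Algebra.IsPushout A B A' B']
  (p : Ideal B) [p.IsPrime] [IsLocalization.AtPrime Bx p] [IsNoetherianRing Bx]
  {M Mx M' : Type u} [AddCommGroup M] [AddCommGroup Mx] [AddCommGroup M']
  [Module B M] [Module A M] [IsScalarTower A B M]
  [Module Bx Mx] [Module B Mx] [Module A Mx] [IsScalarTower B Bx Mx] [IsScalarTower A B Mx]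
  [IsScalarTower A Bx Mx] [Module.Finite Bx Mx]
  [Module B' M'] [Module B M'] [Module A' M'] [IsScalarTower B B' M'] [IsScalarTower A' B' M']
  (ι : M →ₗ[B] M') (hι : IsBaseChange B' ι) (ℓ : M →ₗ[B] Mx)

variable (B') in
include B' in
lemma map_base_smul (c : A) (m : M) : algebraMap A A' c • ι m = ι (c • m) := by
  have e1 : algebraMap A' B' (algebraMap A A' c) = algebraMap B B' (algebraMap A B c) := by
    rw [← IsScalarTower.algebraMap_apply A A' B', ← IsScalarTower.algebraMap_apply A B B']
  calc algebraMap A A' c • ι m = algebraMap A' B' (algebraMap A A' c) • ι m :=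
        (algebraMap_smul B' _ _).symm
    _ = algebraMap B B' (algebraMap A B c) • ι m := by rw [e1]
    _ = algebraMap A B c • ι m := algebraMap_smul B' _ _
    _ = ι (algebraMap A B c • m) := (map_smul ι _ _).symm
    _ = ι (c • m) := by rw [algebraMap_smul]

variable (Bx) in
include hι Bx in
/-- A relation downstairs among elements whose germs are independent modulo the maximal ideal
has coefficients killed by `A → A'`, as soon as the base-changed module satisfies the colon
property at all primes over `p` and the maximal ideal of `A'`. -/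
theorem rt_single
    (hFC : ∀ q' : Ideal B', q'.IsPrime → q'.comap (algebraMap B B') = p →
      q'.comap (algebraMap A' B') = maximalIdeal A' → FCAt A' M' q')
    {r : ℕ} (x : Fin r → M) (c : Fin r → A)
    (hind : ∀ a : Fin r → A, ∑ i, a i • ℓ (x i) ∈ maximalIdeal A • (⊤ : Submodule A Mx) →
      ∀ i, a i ∈ maximalIdeal A)
    (hrel : ∑ i, c i • x i = 0) : ∀ i, algebraMap A A' (c i) = 0 := by
  have hloc := hloc_of_artinian (algebraMap A A')
  let Q : Set (Ideal B') := {q' | q'.IsPrime ∧ q'.comap (algebraMap B B') = p ∧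
    q'.comap (algebraMap A' B') = maximalIdeal A'}
  have hsum : ∑ i, algebraMap A A' (c i) • ι (x i) = 0 := by
    have : ∀ i, algebraMap A A' (c i) • ι (x i) = ι (c i • x i) := fun i => map_base_smul B' ι _ _
    simp only [this]
    rw [← map_sum, hrel, map_zero]
  have h := joint (A' := A') (M' := M') Q (fun q' hq' => hFC q' hq'.1 hq'.2.1 hq'.2.2)
    (fun q' hq' => (Ideal.ne_top_iff_one q').mp hq'.1.ne_top) ⊥ r (fun i => ι (x i))
    (fun i => algebraMap A A' (c i))
    (fun a ha => li_field Bx p ι hι ℓ hloc x hind a (fun q' h1 h2 h3 => ha q' ⟨h1, h2, h3⟩))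
    (by rw [hsum]; exact zero_mem _)
  intro i
  exact Ideal.mem_bot.mp (h i)

local notation "𝔑" => (maximalIdeal A • (⊤ : Submodule A Mx))

variable (Bx) in
include Bx in
/-- If every relation among elements of `M` whose germs are independent modulo the maximal ideal
is trivial, then the localisation `Mx` is a free, hence flat, `A`-module. -/
theorem flat_of_rt [IsLocalizedModule p.primeCompl ℓ]
    (H : ∀ (r : ℕ) (x : Fin r → M) (c : Fin r → A),
      (∀ a : Fin r → A, ∑ i, a i • ℓ (x i) ∈ maximalIdeal A • (⊤ : Submodule A Mx) →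
        ∀ i, a i ∈ maximalIdeal A) →
      ∑ i, c i • x i = 0 → ∀ i, c i = 0) :
    Module.Flat A Mx := by
  classical
  obtain ⟨n, hn⟩ := exists_pow_max_eq_bot A
  letI : Field (A ⧸ maximalIdeal A) := Ideal.Quotient.field _
  let Λ : Type u := ↥(Module.Basis.ofVectorSpaceIndex (A ⧸ maximalIdeal A) (Mx ⧸ 𝔑))
  let b : Module.Basis Λ (A ⧸ maximalIdeal A) (Mx ⧸ 𝔑) := Module.Basis.ofVectorSpace _ _
  have hex : ∀ l : Λ, ∃ y : Mx, (Submodule.Quotient.mk y : Mx ⧸ 𝔑) = b l :=
    fun l => Submodule.Quotient.mk_surjective _ _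
  choose e he using hex
  -- cancellation of elements outside `p`
  have hcancel : ∀ s : B, s ∉ p → ∀ y : Mx, s • y ∈ 𝔑 → y ∈ 𝔑 := by
    intro s hs y hy
    obtain ⟨w, hw⟩ := IsLocalization.map_units Bx (⟨s, hs⟩ : p.primeCompl)
    have e1 : (↑w⁻¹ : Bx) • (s • y) = y := by
      rw [← algebraMap_smul Bx s y, show algebraMap B Bx s = (w : Bx) from hw.symm, smul_smul,
        Units.inv_mul, one_smul]
    have h2 := smul_mem_smul_top (maximalIdeal A) (↑w⁻¹ : Bx) hy
    rwa [e1] at h2
  -- independence modulo the maximal ideal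
  have hindep : ∀ (r : ℕ) (σ : Fin r → Λ), Function.Injective σ → ∀ a : Fin r → A,
      ∑ i, a i • e (σ i) ∈ 𝔑 → ∀ i, a i ∈ maximalIdeal A := by
    intro r σ hσ a ha i
    have h1 : ∑ j, (Ideal.Quotient.mk (maximalIdeal A) (a j)) • (b ∘ σ) j = 0 := by
      have h2 : (Submodule.Quotient.mk (∑ j, a j • e (σ j)) : Mx ⧸ 𝔑) = 0 :=
        (Submodule.Quotient.mk_eq_zero _).mpr ha
      rw [← h2, ← Submodule.mkQ_apply, map_sum]
      refine Finset.sum_congr rfl fun j _ => ?_
      rw [Function.comp_apply, ← he]
      rfl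
    have h3 := Fintype.linearIndependent_iff.mp (b.linearIndependent.comp σ hσ)
      (fun j => Ideal.Quotient.mk (maximalIdeal A) (a j)) h1 i
    exact Ideal.Quotient.eq_zero_iff_mem.mp h3
  -- linear independence
  have hli : LinearIndependent A e := by
    rw [linearIndependent_iff']
    intro s g hg l hl
    let τ : Fin s.card ≃ s := s.equivFin.symm
    let σ : Fin s.card → Λ := fun j => (τ j : Λ)
    have hσ : Function.Injective σ := fun j₁ j₂ h => τ.injective (Subtype.ext h)
    have hsum : ∀ φ : Λ → Mx, ∑ i ∈ s, φ i = ∑ j : Fin s.card, φ (σ j) := by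
      intro φ
      rw [← Finset.sum_coe_sort s φ]
      exact (Equiv.sum_comp τ (fun i : s => φ i)).symm
    have hsurj : ∀ j : Fin s.card, ∃ xs : M × p.primeCompl, xs.2 • e (σ j) = ℓ xs.1 :=
      fun j => IsLocalizedModule.surj p.primeCompl ℓ (e (σ j))
    choose xs hxs using hsurj
    let t : B := ∏ j, ((xs j).2 : B)
    have ht : t ∈ p.primeCompl := Submonoid.prod_mem p.primeCompl (fun j _ => (xs j).2.2)
    let y : Fin s.card → M := fun j => (∏ i ∈ Finset.univ.erase j, ((xs i).2 : B)) • (xs j).1
    have hy : ∀ j, ℓ (y j) = t • e (σ j) := by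
      intro j
      show ℓ ((∏ i ∈ Finset.univ.erase j, ((xs i).2 : B)) • (xs j).1) = _
      rw [map_smul, ← hxs j, Submonoid.smul_def, smul_smul,
        Finset.prod_erase_mul _ _ (Finset.mem_univ j)]
    have hrel0 : ℓ (∑ j, g (σ j) • y j) = ℓ 0 := by
      rw [map_sum, map_zero]
      have h5 : ∀ j, ℓ (g (σ j) • y j) = t • (g (σ j) • e (σ j)) := by
        intro j
        rw [map_smul_base, hy, smul_comm]
      simp only [h5]
      rw [← Finset.smul_sum, ← hsum (fun i => g i • e i), hg, smul_zero]
    obtain ⟨s'', hs''⟩ := IsLocalizedModule.exists_of_eq (S := p.primeCompl) (f := ℓ) hrel0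
    let z : Fin s.card → M := fun j => (s'' : B) • y j
    have hrelz : ∑ j, g (σ j) • z j = 0 := by
      have h6 : ∑ j, g (σ j) • z j = (s'' : B) • ∑ j, g (σ j) • y j := by
        rw [Finset.smul_sum]
        refine Finset.sum_congr rfl fun j _ => ?_
        exact smul_comm _ _ _
      rw [h6, ← Submonoid.smul_def, hs'', smul_zero]
    have hindz : ∀ a : Fin s.card → A, ∑ j, a j • ℓ (z j) ∈ 𝔑 →
        ∀ j, a j ∈ maximalIdeal A := by
      intro a ha
      apply hindep s.card σ hσ a
      have e2 : ∑ j, a j • ℓ (z j) = ((s'' : B) * t) • ∑ j, a j • e (σ j) := by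
        rw [Finset.smul_sum]
        refine Finset.sum_congr rfl fun j _ => ?_
        show a j • ℓ ((s'' : B) • y j) = _
        rw [map_smul, hy, smul_smul, smul_comm]
      rw [e2] at ha
      exact hcancel _ (p.primeCompl.mul_mem s''.2 ht) _ ha
    have hc := H s.card z (fun j => g (σ j)) hindz hrelz (τ.symm ⟨l, hl⟩)
    have e3 : σ (τ.symm ⟨l, hl⟩) = l := congrArg Subtype.val (τ.apply_symm_apply ⟨l, hl⟩)
    rwa [e3] at hc
  -- spanning
  have hspan : Function.Surjective (Finsupp.linearCombination A e) := by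
    apply Groth.Agent.Lib.ArtinFlat.surjective_of_mod (maximalIdeal A) n hn
    intro y
    have key : ∀ ψ : Λ →₀ (A ⧸ maximalIdeal A), ∃ φ : Λ →₀ A,
        (Submodule.Quotient.mk (Finsupp.linearCombination A e φ) : Mx ⧸ 𝔑) =
          Finsupp.linearCombination (A ⧸ maximalIdeal A) b ψ := by
      intro ψ
      induction ψ using Finsupp.induction_linear with
      | zero => exact ⟨0, by simp⟩
      | add ψ₁ ψ₂ h₁ h₂ =>
        obtain ⟨φ₁, h₁⟩ := h₁
        obtain ⟨φ₂, h₂⟩ := h₂
        exact ⟨φ₁ + φ₂, by rw [map_add, Submodule.Quotient.mk_add, h₁, h₂, map_add]⟩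
      | single l c =>
        obtain ⟨a, rfl⟩ := Ideal.Quotient.mk_surjective c
        refine ⟨Finsupp.single l a, ?_⟩
        rw [Finsupp.linearCombination_single, Finsupp.linearCombination_single, ← he]
        rfl
    obtain ⟨φ, hφ⟩ := key (b.repr (Submodule.Quotient.mk y))
    rw [b.linearCombination_repr] at hφ
    exact ⟨φ, (Submodule.Quotient.eq _).mp hφ.symm⟩
  have hsp : ⊤ ≤ Submodule.span A (Set.range e) := by
    rw [← Finsupp.range_linearCombination, LinearMap.range_eq_top.mpr hspan]
  haveI : Module.Free A Mx := Module.Free.of_basis (Module.Basis.mk hli hsp)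
  infer_instance

end RT

end Groth.Agent.Lib.Flatif
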