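import Mathlib

set_option autoImplicit false
set_option backward.isDefEq.respectTransparency false
set_option linter.unusedSimpArgs false
set_option linter.unusedVariables false
set_option linter.unusedSectionVars false
set_option linter.style.longLine false
set_option linter.style.haveILetI false
set_option linter.unnecessarySimpa false
set_option maxHeartbeats 1600000

universe u

open CategoryTheory CategoryTheory.Limits AlgebraicGeometry TopologicalSpace Opposite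

namespace Groth.Agent.Lib.LimClosed

/-- The affine open `g'⁻¹U ∩ f'⁻¹W'` of a fibre product and the pushout property of its ring of
sections (copied from helper8's `FlatBC2H8.affine_pushout`). -/
theorem affine_pushout {X S X' S' : Scheme.{u}} {f : X ⟶ S} {f' : X' ⟶ S'} {g' : X' ⟶ X}
    {g : S' ⟶ S} (hc : IsPullback g' f' f g)
    {W : S.Opens} {U : X.Opens} {W' : S'.Opens} (hW : IsAffineOpen W)
    (hU : IsAffineOpen U) (hW' : IsAffineOpen W') (hUW : U ≤ f ⁻¹ᵁ W) (hW'W : W' ≤ g ⁻¹ᵁ W) :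
    IsAffineOpen (g' ⁻¹ᵁ U ⊓ f' ⁻¹ᵁ W') ∧
    IsPushout (f.appLE W U hUW) (g.appLE W W' hW'W)
      (g'.appLE U (g' ⁻¹ᵁ U ⊓ f' ⁻¹ᵁ W') inf_le_left)
      (f'.appLE W' (g' ⁻¹ᵁ U ⊓ f' ⁻¹ᵁ W') inf_le_right) := by
  have : IsAffine _ := hW
  have : IsAffine _ := hW'
  have : IsAffine _ := hU
  refine ⟨.of_isIso (Scheme.Hom.isPullback_resLE hc hW'W hUW rfl).isoPullback.hom, ?_⟩
  have := isIso_pushoutSection_of_isAffineOpen hc hW'W hUW rfl hW hW' hU
  exact (isIso_pushoutSection_iff hc hW'W hUW rfl).mp this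

/-- Induction principle for a pushout of commutative rings. -/
theorem pushout_ind {A B C D : CommRingCat.{u}} {α : A ⟶ B} {γ : A ⟶ C} {β : B ⟶ D}
    {δ : C ⟶ D} (h : IsPushout α γ β δ) (P : D → Prop) (h0 : P 0)
    (hβ : ∀ x : B, P (β.hom x)) (hmul : ∀ (c' : C) (d : D), P d → P (δ.hom c' * d))
    (hadd : ∀ d d', P d → P d' → P (d + d')) : ∀ d, P d := by
  have h' := h.flip
  algebraize [γ.hom, α.hom, δ.hom, β.hom, δ.hom.comp γ.hom]
  haveI : IsScalarTower A B D := .of_algebraMap_eq' <| congr($(h'.1.1).hom)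
  have hP : Algebra.IsPushout A C B D := CommRingCat.isPushout_iff_isPushout.mp h'
  have hBC : IsBaseChange C (IsScalarTower.toAlgHom A B D).toLinearMap := hP.out
  have hsm : ∀ (c' : C) (d : D), c' • d = δ.hom c' * d := fun c' d => Algebra.smul_def c' d
  intro d
  refine hBC.inductionOn d P h0 (fun x => hβ x) (fun s n hn => ?_) hadd
  rw [hsm]
  exact hmul s n hn

/-- Every element of a pushout of commutative rings is a finite sum of products. -/
theorem exists_expansion {A B C D : CommRingCat.{u}} {α : A ⟶ B} {γ : A ⟶ C} {β : B ⟶ D}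
    {δ : C ⟶ D} (h : IsPushout α γ β δ) (d : D) :
    ∃ (k : ℕ) (b : Fin k → B) (c : Fin k → C), d = ∑ i, β.hom (b i) * δ.hom (c i) := by
  refine pushout_ind h (fun d => ∃ (k : ℕ) (b : Fin k → B) (c : Fin k → C),
    d = ∑ i, β.hom (b i) * δ.hom (c i)) ?_ ?_ ?_ ?_ d
  · exact ⟨0, fun i => i.elim0, fun i => i.elim0, by simp⟩
  · intro x
    exact ⟨1, fun _ => x, fun _ => 1, by simp⟩
  · rintro c' d ⟨k, b, c, rfl⟩
    refine ⟨k, b, fun i => c' * c i, ?_⟩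
    rw [Finset.mul_sum]
    refine Finset.sum_congr rfl fun i _ => ?_
    rw [map_mul]
    ring
  · rintro d d' ⟨k, b, c, rfl⟩ ⟨k', b', c', rfl⟩
    refine ⟨k + k', Fin.append b b', Fin.append c c', ?_⟩
    rw [Fin.sum_univ_add]
    simp [Fin.append_left, Fin.append_right]

theorem appLE_eq {X Y : Scheme.{u}} {f g : X ⟶ Y} (hfg : f = g) (U : Y.Opens) (V : X.Opens)
    (e : V ≤ f ⁻¹ᵁ U) : f.appLE U V e = g.appLE U V (hfg ▸ e) := by
  subst hfg
  rfl

/-- Preimage of a basic open, in `appLE` form. -/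
theorem preimage_basicOpen_appLE {P P' : Scheme.{u}} (m : P ⟶ P') (W'' : P'.Opens)
    (W' : P.Opens) (e : W' ≤ m ⁻¹ᵁ W'') (e' : m ⁻¹ᵁ W'' ≤ W') (r : Γ(P', W'')) :
    m ⁻¹ᵁ (P'.basicOpen r) = P.basicOpen ((m.appLE W'' W' e).hom r) := by
  have h1 : P.basicOpen ((m.appLE W'' W' e).hom r) = W' ⊓ P.basicOpen ((m.app W'').hom r) :=
    Scheme.basicOpen_res _ ((m.app W'').hom r) (homOfLE e).op
  have h2 : m ⁻¹ᵁ (P'.basicOpen r) = P.basicOpen ((m.app W'').hom r) :=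
    Scheme.preimage_basicOpen m r
  rw [h1, ← h2]
  refine (inf_eq_right.mpr ?_).symm
  refine le_trans ?_ e'
  intro w hw
  exact (P'.basicOpen_le r) hw

section Sum

variable {X S Y : Scheme.{u}}

/-- The open `pr₁⁻¹ U ∩ pr₂⁻¹ ⊤` of `X ×_S Y`. -/
noncomputable def W1 (f : X ⟶ S) (h : Y ⟶ S) (U : X.Opens) : (pullback f h).Opens :=
  pullback.fst f h ⁻¹ᵁ U ⊓ pullback.snd f h ⁻¹ᵁ ⊤

/-- The section `Σ pr₁^*(b_i) pr₂^*(c_i)` over `pr₁⁻¹ U`. -/
noncomputable def zsum (f : X ⟶ S) (h : Y ⟶ S) (U : X.Opens) {k : ℕ} (bb : Fin k → Γ(X, U))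
    (cc : Fin k → Γ(Y, ⊤)) : Γ(pullback f h, W1 f h U) :=
  ∑ i, ((pullback.fst f h).appLE U (W1 f h U) inf_le_left).hom (bb i) *
    ((pullback.snd f h).appLE ⊤ (W1 f h U) inf_le_right).hom (cc i)

theorem appLE_top_top {Y Y' : Scheme.{u}} (a : Y ⟶ Y') (e : (⊤ : Y.Opens) ≤ a ⁻¹ᵁ ⊤) :
    a.appLE ⊤ ⊤ e = a.appTop := by
  have h1 : Y.presheaf.map (homOfLE e).op = 𝟙 _ := by
    have h2 : (homOfLE e).op = 𝟙 (op (⊤ : Y.Opens)) := Subsingleton.elim _ _
    rw [h2]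
    exact Y.presheaf.map_id _
  rw [Scheme.Hom.appLE, h1]
  exact Category.comp_id _

theorem key {Y' : Scheme.{u}} (f : X ⟶ S) (h : Y ⟶ S) (b : Y' ⟶ S) (a : Y ⟶ Y')
    (m : pullback f h ⟶ pullback f b)
    (hm1 : m ≫ pullback.fst f b = pullback.fst f h)
    (hm2 : m ≫ pullback.snd f b = pullback.snd f h ≫ a)
    (U : X.Opens) {k : ℕ} (bb : Fin k → Γ(X, U)) (cc' : Fin k → Γ(Y', ⊤)) :
    m ⁻¹ᵁ ((pullback f b).basicOpen (zsum f b U bb cc')) =
      (pullback f h).basicOpen (zsum f h U bb (fun i => a.appTop.hom (cc' i))) := by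
  have hpt1 : ∀ w : ↥(pullback f h), (pullback.fst f b) (m w) = (pullback.fst f h) w := fun w => by
    rw [← Scheme.Hom.comp_apply, hm1]
  have e : W1 f h U ≤ m ⁻¹ᵁ (W1 f b U) := by
    intro w hw
    refine ⟨?_, trivial⟩
    show (pullback.fst f b) (m w) ∈ U
    rw [hpt1]
    exact hw.1
  have e' : m ⁻¹ᵁ (W1 f b U) ≤ W1 f h U := by
    intro w hw
    refine ⟨?_, trivial⟩
    have := hw.1
    change (pullback.fst f b) (m w) ∈ U at this
    rw [hpt1] at this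
    exact this
  rw [preimage_basicOpen_appLE m (W1 f b U) (W1 f h U) e e']
  congr 1
  unfold zsum
  rw [map_sum]
  refine Finset.sum_congr rfl fun i _ => ?_
  rw [map_mul]
  congr 1
  · have e1 := Scheme.Hom.appLE_comp_appLE m (pullback.fst f b) U (W1 f b U) (W1 f h U)
      inf_le_left e
    have e2 := appLE_eq hm1 U (W1 f h U)
      (e.trans ((Opens.map m.base).map (homOfLE (inf_le_left : W1 f b U ≤ _))).le)
    exact congr($(e1.trans e2).hom (bb i))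
  · have e1 := Scheme.Hom.appLE_comp_appLE m (pullback.snd f b) ⊤ (W1 f b U) (W1 f h U)
      inf_le_right e
    have e2 := appLE_eq hm2 ⊤ (W1 f h U)
      (e.trans ((Opens.map m.base).map (homOfLE (inf_le_right : W1 f b U ≤ _))).le)
    have e3 := Scheme.Hom.appLE_comp_appLE (pullback.snd f h) a ⊤ ⊤ (W1 f h U) le_top
      inf_le_right
    have e4 := appLE_top_top a le_top
    have e5 : (pullback.snd f b).appLE ⊤ (W1 f b U) inf_le_right ≫ m.appLE (W1 f b U) (W1 f h U) e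
        = a.appTop ≫ (pullback.snd f h).appLE ⊤ (W1 f h U) inf_le_right := by
      rw [e1, e2, ← e3, e4]
    exact congr($(e5).hom (cc' i))

end Sum

theorem toSpecΓ_map_appTop {R' : CommRingCat.{u}} {Y : Scheme.{u}} (θ : R' ⟶ Γ(Y, ⊤)) (x : R') :
    (Y.toSpecΓ ≫ Spec.map θ).appTop.hom ((Scheme.ΓSpecIso R').inv.hom x) = θ.hom x := by
  have e1 : (Spec.map θ).appTop.hom ((Scheme.ΓSpecIso R').inv.hom x) =
      (Scheme.ΓSpecIso Γ(Y, ⊤)).inv.hom (θ.hom x) := by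
    have := Scheme.ΓSpecIso_inv_naturality θ
    exact (congr($(this).hom x)).symm
  rw [Scheme.Hom.comp_appTop]
  show Y.toSpecΓ.appTop.hom ((Spec.map θ).appTop.hom ((Scheme.ΓSpecIso R').inv.hom x)) = θ.hom x
  rw [e1, Scheme.toSpecΓ_appTop]
  exact (Scheme.ΓSpecIso Γ(Y, ⊤)).inv_hom_id_apply (θ.hom x)

theorem main9224 {X S T : Scheme.{u}} (f : X ⟶ S) [QuasiCompact f] (g : T ⟶ S) (t : T)
    (Z : Set ↥(pullback f g)) (hZ : IsClosed Z) (hZt : ∀ z ∈ Z, (pullback.snd f g).base z ≠ t) :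
    ∃ (V : T.Opens) (ht : t ∈ V) (T' : Scheme.{u}) (b : T' ⟶ S) (a : (V : Scheme.{u}) ⟶ T')
      (n : pullback f (V.ι ≫ g) ⟶ pullback f g) (m : pullback f (V.ι ≫ g) ⟶ pullback f b)
      (Z' : Set ↥(pullback f b)),
      IsAffineOpen V ∧ IsAffine T' ∧ LocallyOfFinitePresentation b ∧ a ≫ b = V.ι ≫ g ∧
      n ≫ pullback.fst f g = pullback.fst f (V.ι ≫ g) ∧ n ≫ pullback.snd f g = pullback.snd f (V.ι ≫ g) ≫ V.ι ∧
      m ≫ pullback.fst f b = pullback.fst f (V.ι ≫ g) ∧ m ≫ pullback.snd f b = pullback.snd f (V.ι ≫ g) ≫ a ∧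
      IsClosed Z' ∧ (∀ z' ∈ Z', (pullback.snd f b).base z' ≠ a.base ⟨t, ht⟩) ∧
      ∀ z : ↥(pullback f (V.ι ≫ g)), n.base z ∈ Z → m.base z ∈ Z' := by
  classical
  obtain ⟨_, ⟨S₀, hS₀ : IsAffineOpen S₀, rfl⟩, hsS₀, -⟩ :=
    (S.isBasis_affineOpens).exists_subset_of_mem_open (Set.mem_univ (g t)) isOpen_univ
  have hexV : ∃ V : T.Opens, IsAffineOpen V ∧ t ∈ V ∧ V ≤ g ⁻¹ᵁ S₀ := by
    obtain ⟨_, ⟨V, hV : IsAffineOpen V, rfl⟩, htV, hVS₀⟩ :=
      (T.isBasis_affineOpens).exists_subset_of_mem_open (show t ∈ g ⁻¹ᵁ S₀ from hsS₀)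
        (g ⁻¹ᵁ S₀).isOpen
    exact ⟨V, hV, htV, hVS₀⟩
  obtain ⟨V, hV, htV, hVS₀'⟩ := hexV
  haveI : IsAffine (V : Scheme.{u}) := hV
  have hc : IsPullback (pullback.fst f (V.ι ≫ g)) (pullback.snd f (V.ι ≫ g)) f (V.ι ≫ g) :=
    IsPullback.of_hasPullback f (V.ι ≫ g)
  have htop : (⊤ : (V : Scheme.{u}).Opens) ≤ (V.ι ≫ g) ⁻¹ᵁ S₀ := by
    intro v _
    show g (V.ι v) ∈ S₀
    exact hVS₀' v.2
  let tV : ↥(V : Scheme.{u}) := ⟨t, htV⟩
  -- the morphism `n`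
  let n : pullback f (V.ι ≫ g) ⟶ pullback f g :=
    pullback.lift (pullback.fst f (V.ι ≫ g)) (pullback.snd f (V.ι ≫ g) ≫ V.ι)
      (by rw [Category.assoc]; exact hc.w)
  have hn1 : n ≫ pullback.fst f g = pullback.fst f (V.ι ≫ g) := pullback.lift_fst _ _ _
  have hn2 : n ≫ pullback.snd f g = pullback.snd f (V.ι ≫ g) ≫ V.ι := pullback.lift_snd _ _ _
  -- the open complement of `n⁻¹ Z`
  let O : (pullback f (V.ι ≫ g)).Opens := ⟨(n ⁻¹' Z)ᶜ, (hZ.preimage n.continuous).isOpen_compl⟩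
  let Ft : Set ↥(pullback f (V.ι ≫ g)) := (pullback.snd f (V.ι ≫ g)) ⁻¹' {tV}
  have hFtO : ∀ w ∈ Ft, w ∈ O := by
    intro w hw hnw
    have hw' : (pullback.snd f (V.ι ≫ g)) w = tV := hw
    refine hZt (n w) hnw ?_
    show (pullback.snd f g) (n w) = t
    rw [← Scheme.Hom.comp_apply, hn2, Scheme.Hom.comp_apply, hw']
    rfl
  have hFt : IsCompact Ft := Scheme.Hom.isCompact_preimage_singleton (pullback.snd f (V.ι ≫ g)) tV
  -- local data at each point of the fibre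
  have hloc : ∀ (y : ↥(pullback f (V.ι ≫ g))) (hy : y ∈ Ft),
      ∃ (U : X.Opens) (k : ℕ) (bb : Fin k → Γ(X, U)) (cc : Fin k → Γ((V : Scheme.{u}), ⊤)),
        y ∈ (pullback f (V.ι ≫ g)).basicOpen (zsum f (V.ι ≫ g) U bb cc) ∧
        (pullback f (V.ι ≫ g)).basicOpen (zsum f (V.ι ≫ g) U bb cc) ≤ O := by
    intro y hy
    have hx : (pullback.fst f (V.ι ≫ g)) y ∈ f ⁻¹ᵁ S₀ := by
      show f ((pullback.fst f (V.ι ≫ g)) y) ∈ S₀
      rw [← Scheme.Hom.comp_apply, hc.w, Scheme.Hom.comp_apply]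
      exact htop (Set.mem_univ _)
    have hexU : ∃ U : X.Opens, IsAffineOpen U ∧ (pullback.fst f (V.ι ≫ g)) y ∈ U ∧
        U ≤ f ⁻¹ᵁ S₀ := by
      obtain ⟨_, ⟨U, hU : IsAffineOpen U, rfl⟩, hxU, hUS⟩ :=
        (X.isBasis_affineOpens).exists_subset_of_mem_open hx (f ⁻¹ᵁ S₀).isOpen
      exact ⟨U, hU, hxU, hUS⟩
    obtain ⟨U, hU, hxU, hUS'⟩ := hexU
    obtain ⟨haff, hpo⟩ := affine_pushout hc hS₀ hU (isAffineOpen_top (V : Scheme.{u})) hUS' htop
    have hyW : y ∈ W1 f (V.ι ≫ g) U := ⟨hxU, trivial⟩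
    obtain ⟨z, hzO, hyz⟩ := haff.exists_basicOpen_le (⟨y, hFtO y hy⟩ : O) hyW
    obtain ⟨k, bb, cc, hz⟩ := exists_expansion hpo z
    refine ⟨U, k, bb, cc, ?_, ?_⟩
    · have : zsum f (V.ι ≫ g) U bb cc = z := hz.symm
      rw [this]
      exact hyz
    · have : zsum f (V.ι ≫ g) U bb cc = z := hz.symm
      rw [this]
      exact hzO
  choose U k bb cc h1 h2 using hloc
  obtain ⟨Y₀, hY₀⟩ := hFt.elim_nhds_subcover'
    (fun y hy => ((pullback f (V.ι ≫ g)).basicOpen (zsum f (V.ι ≫ g) (U y hy) (bb y hy) (cc y hy)) :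
      Set ↥(pullback f (V.ι ≫ g))))
    (fun y hy => ((pullback f (V.ι ≫ g)).basicOpen _).isOpen.mem_nhds (h1 y hy))
  -- the finitely presented base
  let ι₀ := {y : ↥Ft // y ∈ Y₀}
  let σ := Σ i : ι₀, Fin (k i.1.1 i.1.2)
  let R₀ : CommRingCat.{u} := Γ(S, S₀)
  let AV : CommRingCat.{u} := Γ((V : Scheme.{u}), ⊤)
  let γ : R₀ ⟶ AV := (V.ι ≫ g).appLE S₀ ⊤ htop
  let R' : CommRingCat.{u} := CommRingCat.of (MvPolynomial σ R₀)
  let C₀ : R₀ ⟶ R' := CommRingCat.ofHom (MvPolynomial.C)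
  let cs : σ → AV := fun s => cc s.1.1.1 s.1.1.2 s.2
  let θ : R' ⟶ AV := CommRingCat.ofHom (MvPolynomial.eval₂Hom γ.hom cs)
  have hCθ : C₀ ≫ θ = γ := by
    ext r
    simp [C₀, θ]
    exact MvPolynomial.eval₂Hom_C _ _ _
  have hθX : ∀ s : σ, θ.hom (MvPolynomial.X s) = cs s := fun s => by
    simp [θ]
    exact MvPolynomial.eval₂Hom_X' _ _ _
  let b : Spec R' ⟶ S := Spec.map C₀ ≫ hS₀.fromSpec
  let a : (V : Scheme.{u}) ⟶ Spec R' := (V : Scheme.{u}).toSpecΓ ≫ Spec.map θ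
  have hab : a ≫ b = V.ι ≫ g := by
    calc a ≫ b = (V : Scheme.{u}).toSpecΓ ≫ Spec.map (C₀ ≫ θ) ≫ hS₀.fromSpec := by
          simp only [a, b, Category.assoc, Spec.map_comp]
      _ = (V : Scheme.{u}).toSpecΓ ≫ (isAffineOpen_top (V : Scheme.{u})).fromSpec ≫ (V.ι ≫ g) := by
          rw [hCθ, IsAffineOpen.SpecMap_appLE_fromSpec (V.ι ≫ g) hS₀
            (isAffineOpen_top (V : Scheme.{u})) htop]
      _ = V.ι ≫ g := by
          rw [IsAffineOpen.fromSpec_top, Scheme.toSpecΓ_isoSpec_inv_assoc]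
  haveI : LocallyOfFinitePresentation (Spec.map C₀) := by
    rw [HasRingHomProperty.Spec_iff (P := @LocallyOfFinitePresentation)]
    show (algebraMap R₀ (MvPolynomial σ R₀)).FinitePresentation
    rw [RingHom.finitePresentation_algebraMap]
    infer_instance
  haveI : LocallyOfFinitePresentation b := inferInstance
  let m : pullback f (V.ι ≫ g) ⟶ pullback f b :=
    pullback.lift (pullback.fst f (V.ι ≫ g)) (pullback.snd f (V.ι ≫ g) ≫ a)
      (by rw [Category.assoc, hab]; exact hc.w)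
  have hm1 : m ≫ pullback.fst f b = pullback.fst f (V.ι ≫ g) := pullback.lift_fst _ _ _
  have hm2 : m ≫ pullback.snd f b = pullback.snd f (V.ι ≫ g) ≫ a := pullback.lift_snd _ _ _
  -- the sections on `X ×_S T'`
  let cc' : ∀ i : ι₀, Fin (k i.1.1 i.1.2) → Γ(Spec R', ⊤) := fun i j =>
    (Scheme.ΓSpecIso R').inv.hom (MvPolynomial.X (⟨i, j⟩ : σ))
  let r' : ∀ i : ι₀, Γ(pullback f b, W1 f b (U i.1.1 i.1.2)) := fun i =>
    zsum f b (U i.1.1 i.1.2) (bb i.1.1 i.1.2) (cc' i)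
  have hkey : ∀ i : ι₀, m ⁻¹ᵁ ((pullback f b).basicOpen (r' i)) =
      (pullback f (V.ι ≫ g)).basicOpen
        (zsum f (V.ι ≫ g) (U i.1.1 i.1.2) (bb i.1.1 i.1.2) (cc i.1.1 i.1.2)) := by
    intro i
    have := key f (V.ι ≫ g) b a m hm1 hm2 (U i.1.1 i.1.2) (bb i.1.1 i.1.2) (cc' i)
    rw [this]
    congr 2
    funext j
    show a.appTop.hom ((Scheme.ΓSpecIso R').inv.hom (MvPolynomial.X (⟨i, j⟩ : σ))) = _
    rw [toSpecΓ_map_appTop θ, hθX]
  let Z' : Set ↥(pullback f b) := (⋃ i : ι₀, ((pullback f b).basicOpen (r' i) : Set ↥(pullback f b)))ᶜ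
  have hZ'cl : IsClosed Z' :=
    isClosed_compl_iff.mpr (isOpen_iUnion fun i => ((pullback f b).basicOpen (r' i)).isOpen)
  -- the square `P → P'` over `V → T'` is cartesian
  have houter : IsPullback (m ≫ pullback.fst f b) (pullback.snd f (V.ι ≫ g)) f (a ≫ b) := by
    rw [hm1, hab]
    exact hc
  have hsq : IsPullback m (pullback.snd f (V.ι ≫ g)) (pullback.snd f b) a :=
    IsPullback.of_right houter hm2 (IsPullback.of_hasPullback f b)
  refine ⟨V, htV, Spec R', b, a, n, m, Z', hV, inferInstance, inferInstance, hab, hn1, hn2, hm1, hm2,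
    hZ'cl, ?_, ?_⟩
  · -- `Z'` avoids the fibre over `a t`
    intro z' hz' heq
    have heq' : (pullback.snd f b) z' = a tV := heq
    obtain ⟨w₀, hw1, hw2⟩ := Scheme.Pullback.exists_preimage_pullback
      (f := pullback.snd f b) (g := a) z' tV heq'
    let w : ↥(pullback f (V.ι ≫ g)) := hsq.isoPullback.inv w₀
    have hmw : m w = z' := by
      show m (hsq.isoPullback.inv w₀) = z'
      rw [← Scheme.Hom.comp_apply, hsq.isoPullback_inv_fst]
      exact hw1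
    have hpw : (pullback.snd f (V.ι ≫ g)) w = tV := by
      show (pullback.snd f (V.ι ≫ g)) (hsq.isoPullback.inv w₀) = tV
      rw [← Scheme.Hom.comp_apply, hsq.isoPullback_inv_snd]
      exact hw2
    have hwFt : w ∈ Ft := hpw
    have := hY₀ hwFt
    simp only [Set.mem_iUnion] at this
    obtain ⟨y, hyY₀, hwy⟩ := this
    apply hz'
    refine Set.mem_iUnion.mpr ⟨⟨y, hyY₀⟩, ?_⟩
    have hw' : w ∈ m ⁻¹ᵁ ((pullback f b).basicOpen (r' ⟨y, hyY₀⟩)) := by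
      rw [hkey ⟨y, hyY₀⟩]
      exact hwy
    rw [← hmw]
    exact hw'
  · -- points over `Z` go to `Z'`
    intro z hz hcon
    obtain ⟨i, hi⟩ := Set.mem_iUnion.mp hcon
    have hz' : z ∈ m ⁻¹ᵁ ((pullback f b).basicOpen (r' i)) := hi
    rw [hkey i] at hz'
    exact (h2 i.1.1 i.1.2 hz') hz

end Groth.Agent.Lib.LimClosed
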