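import Mathlib
import Groth.Prelude
import Groth.Agent.Lib.Flatif3_lead
import Groth.Agent.Lib.FlatSec_helper8
import Groth.Agent.Lib.PB10_helper8
import Groth.Agent.Lib.LimClosed_lead

set_option autoImplicit false
set_option backward.isDefEq.respectTransparency false
set_option linter.unusedSimpArgs false
set_option linter.unusedVariables false
set_option linter.unusedSectionVars false
set_option linter.style.longLine false
set_option linter.style.haveILetI false
set_option linter.unnecessarySimpa false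
set_option maxHeartbeats 1600000

/-!
# Flatness over an Artinian base tested on a family of local base changes, part 4

The scheme-level statement (EGA IV 11.4.x / 11.5.x, Artinian local base).
-/

namespace Groth.Agent.Lib.Flatif

open CategoryTheory CategoryTheory.Limits AlgebraicGeometry TopologicalSpace Opposite IsLocalRing

universe u

lemma isLocalRing_Γ (R : Type u) [CommRing R] [IsLocalRing R] :
    IsLocalRing Γ(Spec (CommRingCat.of R), ⊤) :=
  (Scheme.ΓSpecIso (CommRingCat.of R)).commRingCatIsoToRingEquiv.symm.isLocalRing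

lemma isArtinianRing_Γ (R : Type u) [CommRing R] [IsArtinianRing R] :
    IsArtinianRing Γ(Spec (CommRingCat.of R), ⊤) :=
  Function.Surjective.isArtinianRing
    (f := (Scheme.ΓSpecIso (CommRingCat.of R)).commRingCatIsoToRingEquiv.symm)
    (RingEquiv.surjective _)

lemma eq_closedPoint_of_primeIdealOf {R : Type u} [CommRing R] [IsLocalRing R]
    [IsLocalRing Γ(Spec (CommRingCat.of R), ⊤)] (y : Spec (CommRingCat.of R))
    (h : ((isAffineOpen_top (Spec (CommRingCat.of R))).primeIdealOf ⟨y, trivial⟩).asIdeal =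
      maximalIdeal Γ(Spec (CommRingCat.of R), ⊤)) : y = closedPoint R := by
  have h1 : (isAffineOpen_top (Spec (CommRingCat.of R))).primeIdealOf ⟨y, trivial⟩ =
      closedPoint Γ(Spec (CommRingCat.of R), ⊤) := PrimeSpectrum.ext h
  have h2 := (isAffineOpen_top (Spec (CommRingCat.of R))).fromSpec_primeIdealOf ⟨y, trivial⟩
  rw [h1, IsAffineOpen.fromSpec_top, Scheme.isoSpec_Spec_inv] at h2
  haveI : IsLocalHom (Scheme.ΓSpecIso (CommRingCat.of R)).inv.hom := isLocalHom_of_isIso _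
  have h3 := IsLocalRing.comap_closedPoint (Scheme.ΓSpecIso (CommRingCat.of R)).inv.hom
  exact h2.symm.trans h3

/-- **EGA IV 11.4/11.5, Artinian local base, general cartesian squares.** -/
theorem main_general {A : Type u} [CommRing A] [IsArtinianRing A] [IsLocalRing A]
    {X : Scheme.{u}} (f : X ⟶ Spec (CommRingCat.of A)) [LocallyOfFiniteType f]
    (F : X.Modules) (hF : Coh.IsCoh F) (x : X)
    {ι : Type*} (A' : ι → Type u) [∀ i, CommRing (A' i)] [∀ i, IsLocalRing (A' i)]
    (u : ∀ i, A →+* A' i) (hu : ∀ a : A, (∀ i, u i a = 0) → a = 0)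
    (X' : ι → Scheme.{u}) (g' : ∀ i, X' i ⟶ X)
    (f' : ∀ i, X' i ⟶ Spec (CommRingCat.of (A' i)))
    (hc : ∀ i, IsPullback (g' i) (f' i) f (Spec.map (CommRingCat.ofHom (u i))))
    (hflat : ∀ (i : ι) (x' : X' i), g' i x' = x → f' i x' = IsLocalRing.closedPoint (A' i) →
      FlatMod.IsFlatOverAt (f' i) ((Scheme.Modules.pullback (g' i)).obj F) x') :
    FlatMod.IsFlatOverAt f F x := by
  classical
  haveI : F.IsQuasicoherent := hF.1
  haveI : SheafOfModules.IsFiniteType (R := X.ringCatSheaf) F := hF.2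
  have hW : IsAffineOpen (⊤ : (Spec (CommRingCat.of A)).Opens) := isAffineOpen_top _
  obtain ⟨_, ⟨U, hU : IsAffineOpen U, rfl⟩, hxU, -⟩ :=
    (X.isBasis_affineOpens).exists_subset_of_mem_open (Set.mem_univ x) isOpen_univ
  have hUW : U ≤ f ⁻¹ᵁ (⊤ : (Spec (CommRingCat.of A)).Opens) := fun _ _ => trivial
  rw [FlatSecH8.isFlatOverAt_iff_flat_stalk f F hW hUW hxU]
  -- base ring instances
  haveI : IsLocalRing Γ(Spec (CommRingCat.of A), ⊤) := isLocalRing_Γ A
  haveI : IsArtinianRing Γ(Spec (CommRingCat.of A), ⊤) := isArtinianRing_Γ A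
  -- algebra instances downstairs
  letI algAB : Algebra Γ(Spec (CommRingCat.of A), ⊤) Γ(X, U) := (f.appLE ⊤ U hUW).hom.toAlgebra
  letI algBBx : Algebra Γ(X, U) (X.presheaf.stalk x) :=
    TopCat.Presheaf.algebra_section_stalk X.presheaf (⟨x, hxU⟩ : U)
  letI algABx : Algebra Γ(Spec (CommRingCat.of A), ⊤) (X.presheaf.stalk x) :=
    ((X.presheaf.germ U x hxU).hom.comp (f.appLE ⊤ U hUW).hom).toAlgebra
  haveI : IsScalarTower Γ(Spec (CommRingCat.of A), ⊤) Γ(X, U) (X.presheaf.stalk x) :=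
    IsScalarTower.of_algebraMap_eq' rfl
  haveI hpprime : (hU.primeIdealOf ⟨x, hxU⟩).asIdeal.IsPrime := (hU.primeIdealOf ⟨x, hxU⟩).isPrime
  haveI : IsLocalization.AtPrime (X.presheaf.stalk x) (hU.primeIdealOf ⟨x, hxU⟩).asIdeal :=
    hU.isLocalization_stalk ⟨x, hxU⟩
  -- noetherian
  have hft : (f.appLE ⊤ U hUW).hom.FiniteType :=
    HasRingHomProperty.appLE @LocallyOfFiniteType f inferInstance ⟨⊤, hW⟩ ⟨U, hU⟩ _
  haveI : Algebra.FiniteType Γ(Spec (CommRingCat.of A), ⊤) Γ(X, U) := hft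
  haveI : IsNoetherianRing Γ(Spec (CommRingCat.of A), ⊤) := inferInstance
  haveI : IsNoetherianRing Γ(X, U) :=
    Algebra.FiniteType.isNoetherianRing Γ(Spec (CommRingCat.of A), ⊤) Γ(X, U)
  haveI : IsNoetherianRing (X.presheaf.stalk x) :=
    IsLocalization.isNoetherianRing (hU.primeIdealOf ⟨x, hxU⟩).asIdeal.primeCompl _ inferInstance
  -- modules downstairs
  letI mAM : Module Γ(Spec (CommRingCat.of A), ⊤) Γ(F, U) :=
    Module.compHom _ (f.appLE ⊤ U hUW).hom
  haveI : IsScalarTower Γ(Spec (CommRingCat.of A), ⊤) Γ(X, U) Γ(F, U) :=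
    IsScalarTower.of_algebraMap_smul fun _ _ => rfl
  letI mBL : Module Γ(X, U) (F.presheaf.stalk x) := StalkLocH8.modSec F hxU
  letI mAL : Module Γ(Spec (CommRingCat.of A), ⊤) (F.presheaf.stalk x) :=
    Module.compHom _ ((X.presheaf.germ U x hxU).hom.comp (f.appLE ⊤ U hUW).hom)
  haveI : IsScalarTower Γ(Spec (CommRingCat.of A), ⊤) Γ(X, U) (F.presheaf.stalk x) :=
    IsScalarTower.of_algebraMap_smul fun _ _ => rfl
  haveI : IsScalarTower Γ(X, U) (X.presheaf.stalk x) (F.presheaf.stalk x) :=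
    IsScalarTower.of_algebraMap_smul fun _ _ => rfl
  haveI : IsScalarTower Γ(Spec (CommRingCat.of A), ⊤) (X.presheaf.stalk x) (F.presheaf.stalk x) :=
    IsScalarTower.of_algebraMap_smul fun _ _ => rfl
  haveI hlocℓ := StalkLocH8.isLocalizedModule_germLin F hU hxU
  haveI : Module.Finite Γ(X, U) Γ(F, U) := QCohFT.finite_of_isFiniteType F hU
  haveI : Module.Finite (X.presheaf.stalk x) (F.presheaf.stalk x) :=
    Module.Finite.of_isLocalizedModule (Rₚ := X.presheaf.stalk x)
      (hU.primeIdealOf ⟨x, hxU⟩).asIdeal.primeCompl (StalkLocH8.germLin F hxU)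
  refine flat_of_rt (X.presheaf.stalk x) (hU.primeIdealOf ⟨x, hxU⟩).asIdeal
    (StalkLocH8.germLin F hxU) ?_
  intro r xs c hind hrel j
  have hinj : Function.Injective (Scheme.ΓSpecIso (CommRingCat.of A)).hom.hom :=
    (Scheme.ΓSpecIso (CommRingCat.of A)).commRingCatIsoToRingEquiv.injective
  refine hinj ((hu _ fun i => ?_).trans (map_zero _).symm)
  -- the `i`-th member of the family
  have hW' : IsAffineOpen (⊤ : (Spec (CommRingCat.of (A' i))).Opens) := isAffineOpen_top _
  have hW'W : (⊤ : (Spec (CommRingCat.of (A' i))).Opens) ≤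
      (Spec.map (CommRingCat.ofHom (u i))) ⁻¹ᵁ ⊤ := fun _ _ => trivial
  obtain ⟨hU', hpo⟩ := Groth.Agent.Lib.LimClosed.affine_pushout (hc i) hW hU hW' hUW hW'W
  set U' : (X' i).Opens := (g' i) ⁻¹ᵁ U ⊓ (f' i) ⁻¹ᵁ ⊤ with hU'def
  have hU'U : U' ≤ (g' i) ⁻¹ᵁ U := inf_le_left
  have hU'W' : U' ≤ (f' i) ⁻¹ᵁ ⊤ := inf_le_right
  haveI : IsLocalRing Γ(Spec (CommRingCat.of (A' i)), ⊤) := isLocalRing_Γ (A' i)
  letI algAA' : Algebra Γ(Spec (CommRingCat.of A), ⊤) Γ(Spec (CommRingCat.of (A' i)), ⊤) :=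
    ((Spec.map (CommRingCat.ofHom (u i))).appLE ⊤ ⊤ hW'W).hom.toAlgebra
  letI algBB' : Algebra Γ(X, U) Γ(X' i, U') := ((g' i).appLE U U' hU'U).hom.toAlgebra
  letI algA'B' : Algebra Γ(Spec (CommRingCat.of (A' i)), ⊤) Γ(X' i, U') :=
    ((f' i).appLE ⊤ U' hU'W').hom.toAlgebra
  letI algAB' : Algebra Γ(Spec (CommRingCat.of A), ⊤) Γ(X' i, U') :=
    (((g' i).appLE U U' hU'U).hom.comp (f.appLE ⊤ U hUW).hom).toAlgebra
  haveI : IsScalarTower Γ(Spec (CommRingCat.of A), ⊤) Γ(X, U) Γ(X' i, U') :=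
    IsScalarTower.of_algebraMap_eq' rfl
  haveI : IsScalarTower Γ(Spec (CommRingCat.of A), ⊤) Γ(Spec (CommRingCat.of (A' i)), ⊤)
      Γ(X' i, U') := by
    refine IsScalarTower.of_algebraMap_eq' ?_
    change ((g' i).appLE U U' hU'U).hom.comp (f.appLE ⊤ U hUW).hom =
      ((f' i).appLE ⊤ U' hU'W').hom.comp
        ((Spec.map (CommRingCat.ofHom (u i))).appLE ⊤ ⊤ hW'W).hom
    rw [← CommRingCat.hom_comp, ← CommRingCat.hom_comp]
    congr 1
    exact hpo.w
  haveI : Algebra.IsPushout Γ(Spec (CommRingCat.of A), ⊤) Γ(X, U)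
      Γ(Spec (CommRingCat.of (A' i)), ⊤) Γ(X' i, U') :=
    CommRingCat.isPushout_iff_isPushout.mp hpo
  set F' := (Scheme.Modules.pullback (g' i)).obj F with hF'
  letI mBM' : Module Γ(X, U) Γ(F', U') := Module.compHom _ ((g' i).appLE U U' hU'U).hom
  haveI : IsScalarTower Γ(X, U) Γ(X' i, U') Γ(F', U') :=
    IsScalarTower.of_algebraMap_smul fun _ _ => rfl
  letI mA'M' : Module Γ(Spec (CommRingCat.of (A' i)), ⊤) Γ(F', U') :=
    Module.compHom _ ((f' i).appLE ⊤ U' hU'W').hom
  haveI : IsScalarTower Γ(Spec (CommRingCat.of (A' i)), ⊤) Γ(X' i, U') Γ(F', U') :=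
    IsScalarTower.of_algebraMap_smul fun _ _ => rfl
  have bc := PBH8.isBaseChange_cUV (g' i) F hU'U hU' hU
  have h0 : algebraMap Γ(Spec (CommRingCat.of A), ⊤) Γ(Spec (CommRingCat.of (A' i)), ⊤) (c j)
      = 0 := by
    refine rt_single (X.presheaf.stalk x) (hU.primeIdealOf ⟨x, hxU⟩).asIdeal
      (PBH8.cUVLin (g' i) F hU'U) bc (StalkLocH8.germLin F hxU) ?_ xs c hind hrel j
    intro q' hq'prime hq'p hq'm
    -- the point of `U'` corresponding to `q'`
    set 𝔮 : PrimeSpectrum Γ(X' i, U') := ⟨q', hq'prime⟩ with h𝔮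
    set x' : X' i := hU'.fromSpec 𝔮 with hx'
    have hx'U' : x' ∈ U' := by
      have : x' ∈ hU'.fromSpec.opensRange := ⟨𝔮, rfl⟩
      rwa [hU'.opensRange_fromSpec] at this
    have hprime : hU'.primeIdealOf ⟨x', hx'U'⟩ = 𝔮 := by
      apply hU'.fromSpec.isOpenEmbedding.injective
      rw [hU'.fromSpec_primeIdealOf]
    have hgx : g' i x' = x := by
      have h1 := IsAffineOpen.comap_primeIdealOf_appLE (f := g' i) U hU U' hU' hU'U hx'U'
      rw [hprime] at h1
      have h2 : hU.primeIdealOf ⟨g' i x', hU'U hx'U'⟩ = hU.primeIdealOf ⟨x, hxU⟩ := by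
        rw [← h1]
        exact PrimeSpectrum.ext hq'p
      have h3 := congrArg (fun z => hU.fromSpec z) h2
      simp only [hU.fromSpec_primeIdealOf] at h3
      exact h3
    have hfx : f' i x' = closedPoint (A' i) := by
      have h1 := IsAffineOpen.comap_primeIdealOf_appLE (f := f' i) ⊤ hW' U' hU' hU'W' hx'U'
      rw [hprime] at h1
      exact eq_closedPoint_of_primeIdealOf _
        ((congrArg PrimeSpectrum.asIdeal h1).symm.trans hq'm)
    have hfl := hflat i x' hgx hfx
    rw [FlatSecH8.isFlatOverAt_iff_flat_stalk (f' i) F' hW' hU'W' hx'U'] at hfl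
    letI mB'L' : Module Γ(X' i, U') (F'.presheaf.stalk x') := StalkLocH8.modSec F' hx'U'
    letI mA'L' : Module Γ(Spec (CommRingCat.of (A' i)), ⊤) (F'.presheaf.stalk x') :=
      Module.compHom _ (((X' i).presheaf.germ U' x' hx'U').hom.comp
        ((f' i).appLE ⊤ U' hU'W').hom)
    haveI : IsScalarTower Γ(Spec (CommRingCat.of (A' i)), ⊤) Γ(X' i, U')
        (F'.presheaf.stalk x') := IsScalarTower.of_algebraMap_smul fun _ _ => rfl
    have hl' := StalkLocH8.isLocalizedModule_germLin F' hU' hx'U'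
    rw [hprime] at hl'
    haveI : IsLocalizedModule q'.primeCompl (StalkLocH8.germLin F' hx'U') := hl'
    haveI : Module.Flat Γ(Spec (CommRingCat.of (A' i)), ⊤) (F'.presheaf.stalk x') := hfl
    exact fcAt_of_flat_localized q' (StalkLocH8.germLin F' hx'U')
  -- back to `A`
  have h1 : ((Spec.map (CommRingCat.ofHom (u i))).appLE ⊤ ⊤ hW'W).hom (c j) = 0 := h0
  rw [Groth.Agent.Lib.LimClosed.appLE_top_top] at h1
  have hnat := Scheme.ΓSpecIso_naturality (CommRingCat.ofHom (u i))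
  have h2 := congrArg (fun φ => φ.hom (c j)) hnat
  simp only [CommRingCat.hom_comp, RingHom.comp_apply, CommRingCat.hom_ofHom] at h2
  rw [h1, map_zero] at h2
  exact h2.symm

/-- **S4856.** -/
theorem main4856 {A : Type u} [CommRing A] [IsArtinianRing A] [IsLocalRing A]
    {X : Scheme.{u}} (f : X ⟶ Spec (CommRingCat.of A)) [LocallyOfFiniteType f]
    (F : X.Modules) (hF : Coh.IsCoh F) (x : X)
    {ι : Type u} (A' : ι → Type u) [∀ i, CommRing (A' i)] [∀ i, IsLocalRing (A' i)]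
    (u : ∀ i, A →+* A' i) (hu : ∀ a : A, (∀ i, u i a = 0) → a = 0)
    (hflat : ∀ (i : ι) (x' : ↥(pullback f (Spec.map (CommRingCat.ofHom (u i))))),
      pullback.fst f (Spec.map (CommRingCat.ofHom (u i))) x' = x →
      pullback.snd f (Spec.map (CommRingCat.ofHom (u i))) x' = IsLocalRing.closedPoint (A' i) →
      FlatMod.IsFlatOverAt (pullback.snd f (Spec.map (CommRingCat.ofHom (u i))))
        ((Scheme.Modules.pullback (pullback.fst f (Spec.map (CommRingCat.ofHom (u i))))).obj F)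
          x') :
    FlatMod.IsFlatOverAt f F x :=
  main_general f F hF x A' u hu (fun i => pullback f (Spec.map (CommRingCat.ofHom (u i))))
    (fun i => pullback.fst _ _) (fun i => pullback.snd _ _)
    (fun i => IsPullback.of_hasPullback _ _) hflat

end Groth.Agent.Lib.Flatif
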