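import Mathlib
import Groth.Agent.Lib.Flatif3_lead

set_option autoImplicit false
set_option backward.isDefEq.respectTransparency false
set_option linter.unusedSimpArgs false
set_option linter.unusedVariables false
set_option linter.unusedSectionVars false
set_option linter.style.longLine false
set_option linter.style.haveILetI false
set_option linter.unnecessarySimpa false
set_option maxHeartbeats 1600000

/-!
# Flatness over a Noetherian local base tested on a family of local base changes, part 1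

`li_field'`: the joint independence upstairs, without the Artinian hypothesis on the base.
-/

namespace Groth.Agent.Lib.Flatif

open TensorProduct IsLocalRing

universe u

section Field

variable {A B Bx A' B' : Type u} [CommRing A] [CommRing B] [CommRing Bx] [CommRing A']
  [CommRing B'] [IsLocalRing A] [IsLocalRing A']
  [Algebra A B] [Algebra B Bx] [Algebra A Bx] [IsScalarTower A B Bx]
  [Algebra A A'] [Algebra A' B'] [Algebra B B'] [Algebra A B']
  [IsScalarTower A A' B'] [IsScalarTower A B B'] [Algebra.IsPushout A B A' B']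
  (p : Ideal B) [p.IsPrime] [IsLocalization.AtPrime Bx p] [IsNoetherianRing Bx]
  {M Mx M' : Type u} [AddCommGroup M] [AddCommGroup Mx] [AddCommGroup M']
  [Module B M] [Module A M] [IsScalarTower A B M]
  [Module Bx Mx] [Module B Mx] [Module A Mx] [IsScalarTower B Bx Mx] [IsScalarTower A B Mx]
  [IsScalarTower A Bx Mx] [Module.Finite Bx Mx]
  [Module B' M'] [Module B M'] [Module A' M'] [IsScalarTower B B' M'] [IsScalarTower A' B' M']
  (ι : M →ₗ[B] M') (hι : IsBaseChange B' ι) (ℓ : M →ₗ[B] Mx)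

variable (Bx) in
include hι Bx in
theorem li_field'
    (hloc : ∀ a ∈ maximalIdeal A, algebraMap A A' a ∈ maximalIdeal A')
    {r : ℕ} (x : Fin r → M)
    (hind : ∀ a : Fin r → A, ∑ i, a i • ℓ (x i) ∈ maximalIdeal A • (⊤ : Submodule A Mx) →
      ∀ i, a i ∈ maximalIdeal A)
    (a' : Fin r → A')
    (hyp : ∀ q' : Ideal B', q'.IsPrime → q'.comap (algebraMap B B') = p →
      q'.comap (algebraMap A' B') = maximalIdeal A' → ∃ s : B', s ∉ q' ∧
        s • ∑ i, a' i • ι (x i) ∈ maximalIdeal A' • (⊤ : Submodule A' M')) :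
    ∀ i, a' i ∈ maximalIdeal A' := by
  classical
  haveI : IsLocalRing Bx := IsLocalization.AtPrime.isLocalRing Bx p
  let 𝔪B : Ideal Bx := (maximalIdeal A).map (algebraMap A Bx)
  let P : ℕ → Submodule Bx Mx := fun n => (𝔪B ⊔ maximalIdeal Bx ^ n) • ⊤
  have hA0 : ∀ b ∈ 𝔪B, ∀ m : Mx, b • m ∈ maximalIdeal A • (⊤ : Submodule A Mx) := by
    intro b hb
    refine Submodule.span_induction
      (p := fun b _ => ∀ m : Mx, b • m ∈ maximalIdeal A • (⊤ : Submodule A Mx)) ?_ ?_ ?_ ?_ hb
    · rintro _ ⟨a, ha, rfl⟩ m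
      rw [algebraMap_smul]
      exact Submodule.smul_mem_smul ha trivial
    · intro m
      rw [zero_smul]
      exact zero_mem _
    · intro b₁ b₂ _ _ h₁ h₂ m
      rw [add_smul]
      exact add_mem (h₁ m) (h₂ m)
    · intro c b _ hb m
      rw [smul_eq_mul, mul_comm, mul_smul]
      exact hb (c • m)
  have hA : ∀ y ∈ (𝔪B • ⊤ : Submodule Bx Mx), y ∈ maximalIdeal A • (⊤ : Submodule A Mx) := by
    intro y hy
    refine Submodule.smul_induction_on hy (fun b hb m _ => hA0 b hb m)
      (fun y₁ y₂ h₁ h₂ => add_mem h₁ h₂)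
  -- Krull
  have hK : ∀ y : Mx, (∀ n, y ∈ P n) → y ∈ (𝔪B • ⊤ : Submodule Bx Mx) := by
    intro y hy
    have hkr : (⨅ i : ℕ, maximalIdeal Bx ^ i • ⊤ :
        Submodule Bx (Mx ⧸ (𝔪B • ⊤ : Submodule Bx Mx))) = ⊥ :=
      Ideal.iInf_pow_smul_eq_bot_of_isLocalRing (maximalIdeal Bx)
        (maximalIdeal.isMaximal Bx).ne_top
    have hmem : (𝔪B • ⊤ : Submodule Bx Mx).mkQ y ∈ (⨅ i : ℕ, maximalIdeal Bx ^ i • ⊤ :
        Submodule Bx (Mx ⧸ (𝔪B • ⊤ : Submodule Bx Mx))) := by
      rw [Submodule.mem_iInf]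
      intro n
      have hyn : y ∈ (𝔪B • ⊤ : Submodule Bx Mx) ⊔ maximalIdeal Bx ^ n • ⊤ := by
        have := hy n
        rwa [show P n = 𝔪B • ⊤ ⊔ maximalIdeal Bx ^ n • ⊤ from Submodule.sup_smul _ _ _] at this
      obtain ⟨y₁, hy₁, y₂, hy₂, rfl⟩ := Submodule.mem_sup.mp hyn
      have e1 : (𝔪B • ⊤ : Submodule Bx Mx).mkQ y₁ = 0 := by
        rw [Submodule.mkQ_apply]
        exact (Submodule.Quotient.mk_eq_zero _).mpr hy₁
      rw [map_add, e1, zero_add]
      have h2 := Submodule.mem_map_of_mem (f := (𝔪B • ⊤ : Submodule Bx Mx).mkQ) hy₂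
      rw [Submodule.map_smul''] at h2
      exact Submodule.smul_mono le_rfl le_top h2
    rw [hkr, Submodule.mem_bot, Submodule.mkQ_apply] at hmem
    exact (Submodule.Quotient.mk_eq_zero _).mp hmem
  -- stabilisation
  let Φ : (Fin r → A) →ₗ[A] Mx := Fintype.linearCombination A (fun i => ℓ (x i))
  have hΦ : ∀ a, Φ a = ∑ i, a i • ℓ (x i) := fun a => Fintype.linearCombination_apply A _ a
  let K : ℕ → Submodule A (Fin r → A) := fun n => ((P n).restrictScalars A).comap Φ
  have hPanti : Antitone P := by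
    refine antitone_nat_of_succ_le fun n => ?_
    exact Submodule.smul_mono_left (sup_le_sup_left (Ideal.pow_le_pow_right (Nat.le_succ n)) _)
  have hKanti : Antitone K := fun m n hmn a ha => hPanti hmn ha
  haveI : IsSimpleModule A (A ⧸ maximalIdeal A) :=
    isSimpleModule_iff_isCoatom.mpr (Ideal.isMaximal_def.mp (maximalIdeal.isMaximal A))
  haveI : IsArtinian A (A ⧸ maximalIdeal A) := inferInstance
  let π : (Fin r → A) →ₗ[A] (Fin r → A ⧸ maximalIdeal A) :=
    (Submodule.mkQ (maximalIdeal A)).compLeft (Fin r)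
  have hπ : ∀ a i, π a i = Ideal.Quotient.mk (maximalIdeal A) (a i) := fun a i => rfl
  let K' : ℕ → Submodule A (Fin r → A ⧸ maximalIdeal A) := fun n => (K n).map π
  have hK'anti : Antitone K' := fun m n hmn => Submodule.map_mono (hKanti hmn)
  obtain ⟨n₀, hn₀⟩ := IsArtinian.monotone_stabilizes (R := A) (M := Fin r → A ⧸ maximalIdeal A)
    ⟨fun n => OrderDual.toDual (K' n), fun m n hmn => hK'anti hmn⟩
  have hker : ∀ n, ∀ a : Fin r → A, (∀ i, a i ∈ maximalIdeal A) → a ∈ K n := by
    intro n a ha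
    show Φ a ∈ P n
    rw [hΦ]
    refine sum_mem fun i _ => ?_
    rw [← algebraMap_smul Bx (a i) (ℓ (x i))]
    exact Submodule.smul_mem_smul (Ideal.mem_sup_left (Ideal.mem_map_of_mem _ (ha i))) trivial
  have hKeq : ∀ n, n₀ ≤ n → K n₀ ≤ K n := by
    intro n h a ha
    have e : K' n₀ = K' n := congrArg OrderDual.ofDual (hn₀ n h)
    have h1 : π a ∈ K' n := by
      rw [← e]
      exact Submodule.mem_map_of_mem ha
    obtain ⟨b, hb, hba⟩ := h1
    have h2 : a - b ∈ K n := hker n _ (fun i => by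
      have h3 := congrFun hba i
      rw [hπ, hπ] at h3
      rw [Pi.sub_apply]
      exact Ideal.Quotient.eq.mp h3.symm)
    have h4 : a = (a - b) + b := by abel
    rw [h4]
    exact add_mem h2 hb
  have hindn : ∀ a : Fin r → A, ∑ i, a i • ℓ (x i) ∈ P n₀ → ∀ i, a i ∈ maximalIdeal A := by
    intro a ha
    apply hind a
    apply hA
    apply hK
    intro n
    rcases le_total n n₀ with h | h
    · exact hPanti h ha
    · have ha' : a ∈ K n₀ := by
        show Φ a ∈ P n₀
        rw [hΦ]
        exact ha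
      have h3 : Φ a ∈ P n := hKeq n h ha'
      rwa [hΦ] at h3
  -- the finite-length quotient
  haveI : IsScalarTower A B (Mx ⧸ P n₀) := ⟨fun a b g => by
    obtain ⟨y, rfl⟩ := Submodule.Quotient.mk_surjective _ g
    rw [← Submodule.Quotient.mk_smul, ← Submodule.Quotient.mk_smul, ← Submodule.Quotient.mk_smul,
      smul_assoc]⟩
  refine li_core p ι hι (((P n₀).mkQ.restrictScalars B).comp ℓ) hloc ?_ ?_ ?_ x ?_ a' hyp
  · intro a ha g
    obtain ⟨y, rfl⟩ := Submodule.Quotient.mk_surjective _ g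
    rw [← Submodule.Quotient.mk_smul, Submodule.Quotient.mk_eq_zero, ← algebraMap_smul Bx a y]
    exact Submodule.smul_mem_smul (Ideal.mem_sup_left (Ideal.mem_map_of_mem _ ha)) trivial
  · refine ⟨n₀, fun t ht g => ?_⟩
    obtain ⟨y, rfl⟩ := Submodule.Quotient.mk_surjective _ g
    have ht' : algebraMap B Bx t ∈ maximalIdeal Bx :=
      (IsLocalization.AtPrime.to_map_mem_maximal_iff Bx p t).mpr ht
    rw [← Submodule.Quotient.mk_smul, Submodule.Quotient.mk_eq_zero,
      ← algebraMap_smul Bx (t ^ n₀) y, map_pow]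
    exact Submodule.smul_mem_smul (Ideal.mem_sup_right (Ideal.pow_mem_pow ht' n₀)) trivial
  · intro s hs
    obtain ⟨u, hu⟩ := IsLocalization.map_units Bx (⟨s, hs⟩ : p.primeCompl)
    have hsg : ∀ g : Mx ⧸ P n₀, s • g = (u : Bx) • g := by
      intro g
      obtain ⟨y, rfl⟩ := Submodule.Quotient.mk_surjective _ g
      rw [← Submodule.Quotient.mk_smul, ← Submodule.Quotient.mk_smul, hu, algebraMap_smul]
    refine Function.bijective_iff_has_inverse.mpr ⟨fun g => (↑u⁻¹ : Bx) • g, fun g => ?_, fun g => ?_⟩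
    · show (↑u⁻¹ : Bx) • s • g = g
      rw [hsg, smul_smul, Units.inv_mul, one_smul]
    · show s • (↑u⁻¹ : Bx) • g = g
      rw [hsg, smul_smul, Units.mul_inv, one_smul]
  · intro a ha
    have e : ∑ i, a i • (((P n₀).mkQ.restrictScalars B).comp ℓ) (x i) =
        (P n₀).mkQ (∑ i, a i • ℓ (x i)) := by
      rw [map_sum]
      refine Finset.sum_congr rfl fun i _ => ?_
      exact (Submodule.Quotient.mk_smul _ _ _).symm
    rw [e, Submodule.mkQ_apply] at ha
    exact hindn a ((Submodule.Quotient.mk_eq_zero _).mp ha)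

end Field

end Groth.Agent.Lib.Flatif
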