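import Mathlib
import Groth.Agent.Lib.Flatif6_lead
import Groth.Agent.Lib.LocalCrit3_helper9

set_option autoImplicit false
set_option backward.isDefEq.respectTransparency false
set_option linter.unusedSimpArgs false
set_option linter.unusedVariables false
set_option linter.unusedSectionVars false
set_option linter.style.longLine false
set_option linter.style.haveILetI false
set_option linter.unnecessarySimpa false
set_option maxHeartbeats 1600000

/-!
# Flatness over a Noetherian local base tested on a family of local base changes, part 2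

`rt_single'` (relations modulo an ideal) and `flat_of_rt_noeth` (local criterion).
-/

namespace Groth.Agent.Lib.Flatif

open TensorProduct IsLocalRing

universe u

lemma top_le_sup_pow_smul {A M : Type*} [CommRing A] [AddCommGroup M] [Module A M]
    (J : Ideal A) (R' : Submodule A M) (h : ⊤ ≤ R' ⊔ J • (⊤ : Submodule A M)) (n : ℕ) :
    ⊤ ≤ R' ⊔ J ^ n • (⊤ : Submodule A M) := by
  induction n with
  | zero => simp
  | succ n ih =>
    calc ⊤ ≤ R' ⊔ J ^ n • (⊤ : Submodule A M) := ih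
      _ ≤ R' ⊔ J ^ n • (R' ⊔ J • (⊤ : Submodule A M)) :=
          sup_le_sup_left (Submodule.smul_mono le_rfl h) _
      _ = R' ⊔ (J ^ n • R' ⊔ J ^ n • J • (⊤ : Submodule A M)) := by rw [Submodule.smul_sup]
      _ ≤ R' ⊔ J ^ (n + 1) • (⊤ : Submodule A M) := by
          rw [← Submodule.mul_smul, ← pow_succ]
          exact sup_le le_sup_left
            (sup_le (le_sup_of_le_left Submodule.smul_le_right) le_sup_right)

/-- A family which is independent modulo `I` (in the relative sense) and spans modulo `I` gives a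
basis of the reduction modulo `I`. -/
theorem free_quot_tensor {A : Type u} [CommRing A] (I : Ideal A) {Mx : Type u} [AddCommGroup Mx]
    [Module A Mx] {Λ : Type u} (e : Λ → Mx)
    (hII : ∀ ψ : Λ →₀ A, Finsupp.linearCombination A e ψ ∈ I • (⊤ : Submodule A Mx) →
      ∀ l, ψ l ∈ I)
    (hsp : ∀ y : Mx, ∃ φ : Λ →₀ A,
      y - Finsupp.linearCombination A e φ ∈ I • (⊤ : Submodule A Mx)) :
    Module.Free (A ⧸ I) ((A ⧸ I) ⊗[A] Mx) := by
  classical
  let v : Λ → (A ⧸ I) ⊗[A] Mx := fun l => (1 : A ⧸ I) ⊗ₜ[A] e l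
  have hmk : ∀ (c : A) (y : Mx), (Ideal.Quotient.mk I c) • ((1 : A ⧸ I) ⊗ₜ[A] y) =
      (1 : A ⧸ I) ⊗ₜ[A] (c • y) := by
    intro c y
    have h1 : (Ideal.Quotient.mk I c : A ⧸ I) = c • (1 : A ⧸ I) := by
      rw [Algebra.smul_def, mul_one]
      rfl
    rw [TensorProduct.smul_tmul', smul_eq_mul, mul_one, TensorProduct.tmul_smul,
      TensorProduct.smul_tmul', h1]
  have hlcv : ∀ ψ : Λ →₀ A, Finsupp.linearCombination (A ⧸ I) v
      (ψ.mapRange (Ideal.Quotient.mk I) (map_zero _)) =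
        (1 : A ⧸ I) ⊗ₜ[A] (Finsupp.linearCombination A e ψ) := by
    intro ψ
    induction ψ using Finsupp.induction_linear with
    | zero => simp
    | add ψ₁ ψ₂ h₁ h₂ =>
      rw [Finsupp.mapRange_add', map_add, h₁, h₂, map_add, TensorProduct.tmul_add]
    | single l c =>
      rw [Finsupp.mapRange_single, Finsupp.linearCombination_single,
        Finsupp.linearCombination_single, hmk]
  have hvli : LinearIndependent (A ⧸ I) v := by
    rw [linearIndependent_iff]
    intro Ψ hΨ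
    obtain ⟨ψ, rfl⟩ := Finsupp.mapRange_surjective (Ideal.Quotient.mk I) (map_zero _)
      Ideal.Quotient.mk_surjective Ψ
    rw [hlcv, Groth.Agent.Lib.ArtinFlat.one_tmul_eq_zero_iff] at hΨ
    have h1 := hII ψ hΨ
    ext l
    rw [Finsupp.mapRange_apply, Finsupp.zero_apply]
    exact Ideal.Quotient.eq_zero_iff_mem.mpr (h1 l)
  have hvsp : ⊤ ≤ Submodule.span (A ⧸ I) (Set.range v) := by
    intro ξ _
    obtain ⟨y, rfl⟩ := Groth.Agent.Lib.ArtinFlat.exists_one_tmul I ξ
    obtain ⟨φ, hφ⟩ := hsp y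
    have h1 : (1 : A ⧸ I) ⊗ₜ[A] y = (1 : A ⧸ I) ⊗ₜ[A] (Finsupp.linearCombination A e φ) := by
      have h2 := (Groth.Agent.Lib.ArtinFlat.one_tmul_eq_zero_iff I _).mpr hφ
      rw [TensorProduct.tmul_sub, sub_eq_zero] at h2
      exact h2
    rw [h1, ← hlcv, ← Finsupp.range_linearCombination]
    exact ⟨_, rfl⟩
  exact Module.Free.of_basis (Module.Basis.mk hvli hvsp)

section RTN

variable {A B Bx A' B' : Type u} [CommRing A] [CommRing B] [CommRing Bx] [CommRing A']
  [CommRing B'] [IsLocalRing A] [IsLocalRing A']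
  [Algebra A B] [Algebra B Bx] [Algebra A Bx] [IsScalarTower A B Bx]
  [Algebra A A'] [Algebra A' B'] [Algebra B B'] [Algebra A B']
  [IsScalarTower A A' B'] [IsScalarTower A B B'] [Algebra.IsPushout A B A' B']
  (p : Ideal B) [p.IsPrime] [IsLocalization.AtPrime Bx p] [IsNoetherianRing Bx]
  {M Mx M' : Type u} [AddCommGroup M] [AddCommGroup Mx] [AddCommGroup M']
  [Module B M] [Module A M] [IsScalarTower A B M]
  [Module Bx Mx] [Module B Mx] [Module A Mx] [IsScalarTower B Bx Mx] [IsScalarTower A B Mx]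
  [IsScalarTower A Bx Mx] [Module.Finite Bx Mx]
  [Module B' M'] [Module B M'] [Module A' M'] [IsScalarTower B B' M'] [IsScalarTower A' B' M']
  (ι : M →ₗ[B] M') (hι : IsBaseChange B' ι) (ℓ : M →ₗ[B] Mx)

variable (B') in
include B' in
lemma map_base_smul' (c : A) (m : M) : algebraMap A A' c • ι m = ι (c • m) := by
  have e1 : algebraMap A' B' (algebraMap A A' c) = algebraMap B B' (algebraMap A B c) := by
    rw [← IsScalarTower.algebraMap_apply A A' B', ← IsScalarTower.algebraMap_apply A B B']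
  calc algebraMap A A' c • ι m = algebraMap A' B' (algebraMap A A' c) • ι m :=
        (algebraMap_smul B' _ _).symm
    _ = algebraMap B B' (algebraMap A B c) • ι m := by rw [e1]
    _ = algebraMap A B c • ι m := algebraMap_smul B' _ _
    _ = ι (algebraMap A B c • m) := (map_smul ι _ _).symm
    _ = ι (c • m) := by rw [algebraMap_smul]

variable (Bx) in
include hι Bx in
/-- A relation downstairs modulo `𝔡` among elements whose germs are independent modulo the
maximal ideal has coefficients mapped into `𝔡'`. -/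
theorem rt_single'
    (hloc : ∀ a ∈ maximalIdeal A, algebraMap A A' a ∈ maximalIdeal A')
    (hFC : ∀ q' : Ideal B', q'.IsPrime → q'.comap (algebraMap B B') = p →
      q'.comap (algebraMap A' B') = maximalIdeal A' → FCAt A' M' q')
    (𝔡 : Ideal A) (𝔡' : Ideal A') (h𝔡 : ∀ a ∈ 𝔡, algebraMap A A' a ∈ 𝔡')
    {r : ℕ} (x : Fin r → M) (c : Fin r → A)
    (hind : ∀ a : Fin r → A, ∑ i, a i • ℓ (x i) ∈ maximalIdeal A • (⊤ : Submodule A Mx) →
      ∀ i, a i ∈ maximalIdeal A)
    (hrel : ∑ i, c i • x i ∈ 𝔡 • (⊤ : Submodule A M)) : ∀ i, algebraMap A A' (c i) ∈ 𝔡' := by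
  let Q : Set (Ideal B') := {q' | q'.IsPrime ∧ q'.comap (algebraMap B B') = p ∧
    q'.comap (algebraMap A' B') = maximalIdeal A'}
  have hmap : ∀ w ∈ 𝔡 • (⊤ : Submodule A M), ι w ∈ 𝔡' • (⊤ : Submodule A' M') := by
    intro w hw
    refine Submodule.smul_induction_on hw (fun a ha m _ => ?_) (fun w₁ w₂ h₁ h₂ => ?_)
    · rw [← map_base_smul' (A' := A') B' ι a m]
      exact Submodule.smul_mem_smul (h𝔡 a ha) trivial
    · rw [map_add]
      exact add_mem h₁ h₂
  have hsum : ∑ i, algebraMap A A' (c i) • ι (x i) = ι (∑ i, c i • x i) := by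
    rw [map_sum]
    exact Finset.sum_congr rfl fun i _ => map_base_smul' B' ι _ _
  exact joint (A' := A') (M' := M') Q (fun q' hq' => hFC q' hq'.1 hq'.2.1 hq'.2.2)
    (fun q' hq' => (Ideal.ne_top_iff_one q').mp hq'.1.ne_top) 𝔡' r (fun i => ι (x i))
    (fun i => algebraMap A A' (c i))
    (fun a ha => li_field' Bx p ι hι ℓ hloc x hind a (fun q' h1 h2 h3 => ha q' ⟨h1, h2, h3⟩))
    (by rw [hsum]; exact hmap _ hrel)

local notation "𝔑" => (maximalIdeal A • (⊤ : Submodule A Mx))

variable (Bx) in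
include Bx in
/-- The local criterion: if for every `N` relations modulo a suitable `𝔡 ≤ 𝔪^N` (containing a power
of `𝔪`) among elements with independent germs have coefficients in `𝔡`, then `Mx` is `A`-flat. -/
theorem flat_of_rt_noeth [IsNoetherianRing A] [IsLocalizedModule p.primeCompl ℓ]
    (hAB : (maximalIdeal A).map (algebraMap A Bx) ≤ Ideal.jacobson ⊥)
    (H : ∀ N : ℕ, ∃ 𝔡 : Ideal A, 𝔡 ≤ maximalIdeal A ^ N ∧ (∃ n, maximalIdeal A ^ n ≤ 𝔡) ∧
      ∀ (r : ℕ) (x : Fin r → M) (c : Fin r → A),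
        (∀ a : Fin r → A, ∑ i, a i • ℓ (x i) ∈ maximalIdeal A • (⊤ : Submodule A Mx) →
          ∀ i, a i ∈ maximalIdeal A) →
        ∑ i, c i • x i ∈ 𝔡 • (⊤ : Submodule A M) → ∀ i, c i ∈ 𝔡) :
    Module.Flat A Mx := by
  classical
  refine Groth.Agent.Lib.LocalCrit3.flat_of_forall_flat_quot_pow (maximalIdeal A) hAB Mx ?_
  intro n
  obtain ⟨𝔡, h𝔡N, ⟨n', hn'⟩, HRT⟩ := H (n + 1)
  letI : Field (A ⧸ maximalIdeal A) := Ideal.Quotient.field _
  let Λ : Type u := ↥(Module.Basis.ofVectorSpaceIndex (A ⧸ maximalIdeal A) (Mx ⧸ 𝔑))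
  let b : Module.Basis Λ (A ⧸ maximalIdeal A) (Mx ⧸ 𝔑) := Module.Basis.ofVectorSpace _ _
  have hex : ∀ l : Λ, ∃ y : Mx, (Submodule.Quotient.mk y : Mx ⧸ 𝔑) = b l :=
    fun l => Submodule.Quotient.mk_surjective _ _
  choose e he using hex
  -- cancellation of elements outside `p`
  have hcancel : ∀ s : B, s ∉ p → ∀ y : Mx, s • y ∈ 𝔑 → y ∈ 𝔑 := by
    intro s hs y hy
    obtain ⟨w, hw⟩ := IsLocalization.map_units Bx (⟨s, hs⟩ : p.primeCompl)
    have e1 : (↑w⁻¹ : Bx) • (s • y) = y := by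
      rw [← algebraMap_smul Bx s y, show algebraMap B Bx s = (w : Bx) from hw.symm, smul_smul,
        Units.inv_mul, one_smul]
    have h2 := smul_mem_smul_top (maximalIdeal A) (↑w⁻¹ : Bx) hy
    rwa [e1] at h2
  -- independence modulo the maximal ideal
  have hindep : ∀ (r : ℕ) (σ : Fin r → Λ), Function.Injective σ → ∀ a : Fin r → A,
      ∑ i, a i • e (σ i) ∈ 𝔑 → ∀ i, a i ∈ maximalIdeal A := by
    intro r σ hσ a ha i
    have h1 : ∑ j, (Ideal.Quotient.mk (maximalIdeal A) (a j)) • (b ∘ σ) j = 0 := by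
      have h2 : (Submodule.Quotient.mk (∑ j, a j • e (σ j)) : Mx ⧸ 𝔑) = 0 :=
        (Submodule.Quotient.mk_eq_zero _).mpr ha
      rw [← h2, ← Submodule.mkQ_apply, map_sum]
      refine Finset.sum_congr rfl fun j _ => ?_
      rw [Function.comp_apply, ← he]
      rfl
    have h3 := Fintype.linearIndependent_iff.mp (b.linearIndependent.comp σ hσ)
      (fun j => Ideal.Quotient.mk (maximalIdeal A) (a j)) h1 i
    exact Ideal.Quotient.eq_zero_iff_mem.mp h3
  -- from families indexed by `Fin r` to finitely supported functions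
  have hconv : ∀ (P : Ideal A) (Z : Submodule A Mx),
      (∀ (r : ℕ) (σ : Fin r → Λ), Function.Injective σ → ∀ c : Fin r → A,
        ∑ j, c j • e (σ j) ∈ Z → ∀ j, c j ∈ P) →
      ∀ ψ : Λ →₀ A, Finsupp.linearCombination A e ψ ∈ Z → ∀ l, ψ l ∈ P := by
    intro P Z hP ψ hψ l
    by_cases hl : l ∈ ψ.support
    · let τ : Fin ψ.support.card ≃ ψ.support := ψ.support.equivFin.symm
      let σ : Fin ψ.support.card → Λ := fun j => (τ j : Λ)
      have hσ : Function.Injective σ := fun j₁ j₂ h => τ.injective (Subtype.ext h)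
      have hsum : Finsupp.linearCombination A e ψ =
          ∑ j : Fin ψ.support.card, ψ (σ j) • e (σ j) := by
        rw [Finsupp.linearCombination_apply, Finsupp.sum,
          ← Finset.sum_coe_sort ψ.support (fun i => ψ i • e i)]
        exact (Equiv.sum_comp τ (fun i : ψ.support => ψ i • e i)).symm
      rw [hsum] at hψ
      have h1 := hP ψ.support.card σ hσ (fun j => ψ (σ j)) hψ (τ.symm ⟨l, hl⟩)
      have e3 : σ (τ.symm ⟨l, hl⟩) = l := congrArg Subtype.val (τ.apply_symm_apply ⟨l, hl⟩)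
      rwa [e3] at h1
    · have h0 : ψ l = 0 := by simpa using hl
      rw [h0]
      exact zero_mem _
  -- Step I: relative independence modulo `𝔡`
  have hstepI : ∀ (r : ℕ) (σ : Fin r → Λ), Function.Injective σ → ∀ c : Fin r → A,
      ∑ j, c j • e (σ j) ∈ 𝔡 • (⊤ : Submodule A Mx) → ∀ j, c j ∈ 𝔡 := by
    intro r σ hσ c hc
    have hsurj : ∀ j : Fin r, ∃ xs : M × p.primeCompl, xs.2 • e (σ j) = ℓ xs.1 :=
      fun j => IsLocalizedModule.surj p.primeCompl ℓ (e (σ j))
    choose xs hxs using hsurj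
    let t : B := ∏ j, ((xs j).2 : B)
    have ht : t ∈ p.primeCompl := Submonoid.prod_mem p.primeCompl (fun j _ => (xs j).2.2)
    let y : Fin r → M := fun j => (∏ i ∈ Finset.univ.erase j, ((xs i).2 : B)) • (xs j).1
    have hy : ∀ j, ℓ (y j) = t • e (σ j) := by
      intro j
      show ℓ ((∏ i ∈ Finset.univ.erase j, ((xs i).2 : B)) • (xs j).1) = _
      rw [map_smul, ← hxs j, Submonoid.smul_def, smul_smul,
        Finset.prod_erase_mul _ _ (Finset.mem_univ j)]
    have hrel0 : ℓ (∑ j, c j • y j) ∈ 𝔡 • (⊤ : Submodule A Mx) := by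
      have h5 : ℓ (∑ j, c j • y j) = t • ∑ j, c j • e (σ j) := by
        rw [map_sum, Finset.smul_sum]
        refine Finset.sum_congr rfl fun j _ => ?_
        rw [map_smul_base, hy, smul_comm]
      rw [h5]
      exact smul_mem_smul_top 𝔡 t hc
    obtain ⟨s'', hs''S, hs''⟩ := exists_smul_mem_of_map_mem p.primeCompl ℓ 𝔡 _ hrel0
    let z : Fin r → M := fun j => s'' • y j
    have hrelz : ∑ j, c j • z j ∈ 𝔡 • (⊤ : Submodule A M) := by
      have h6 : ∑ j, c j • z j = s'' • ∑ j, c j • y j := by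
        rw [Finset.smul_sum]
        exact Finset.sum_congr rfl fun j _ => smul_comm _ _ _
      rw [h6]
      exact hs''
    have hindz : ∀ a : Fin r → A, ∑ j, a j • ℓ (z j) ∈ 𝔑 → ∀ j, a j ∈ maximalIdeal A := by
      intro a ha
      apply hindep r σ hσ a
      have e2 : ∑ j, a j • ℓ (z j) = (s'' * t) • ∑ j, a j • e (σ j) := by
        rw [Finset.smul_sum]
        refine Finset.sum_congr rfl fun j _ => ?_
        show a j • ℓ (s'' • y j) = _
        rw [map_smul, hy, smul_smul, smul_comm]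
      rw [e2] at ha
      exact hcancel _ (p.primeCompl.mul_mem hs''S ht) _ ha
    exact HRT r z c hindz hrelz
  have hI := hconv 𝔡 (𝔡 • ⊤) hstepI
  -- spanning
  have hspan1 : ⊤ ≤ LinearMap.range (Finsupp.linearCombination A e) ⊔
      maximalIdeal A • (⊤ : Submodule A Mx) := by
    intro y _
    have key : ∀ ψ : Λ →₀ (A ⧸ maximalIdeal A), ∃ φ : Λ →₀ A,
        (Submodule.Quotient.mk (Finsupp.linearCombination A e φ) : Mx ⧸ 𝔑) =
          Finsupp.linearCombination (A ⧸ maximalIdeal A) b ψ := by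
      intro ψ
      induction ψ using Finsupp.induction_linear with
      | zero => exact ⟨0, by simp⟩
      | add ψ₁ ψ₂ h₁ h₂ =>
        obtain ⟨φ₁, h₁⟩ := h₁
        obtain ⟨φ₂, h₂⟩ := h₂
        exact ⟨φ₁ + φ₂, by rw [map_add, Submodule.Quotient.mk_add, h₁, h₂, map_add]⟩
      | single l c =>
        obtain ⟨a, rfl⟩ := Ideal.Quotient.mk_surjective c
        refine ⟨Finsupp.single l a, ?_⟩
        rw [Finsupp.linearCombination_single, Finsupp.linearCombination_single, ← he]
        rfl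
    obtain ⟨φ, hφ⟩ := key (b.repr (Submodule.Quotient.mk y))
    rw [b.linearCombination_repr] at hφ
    have h1 : y - Finsupp.linearCombination A e φ ∈ 𝔑 := (Submodule.Quotient.eq _).mp hφ.symm
    have h2 : y = Finsupp.linearCombination A e φ + (y - Finsupp.linearCombination A e φ) := by
      abel
    rw [h2]
    exact Submodule.add_mem_sup ⟨φ, rfl⟩ h1
  have hspanK : ∀ (k : ℕ) (y : Mx), ∃ φ : Λ →₀ A,
      y - Finsupp.linearCombination A e φ ∈ maximalIdeal A ^ k • (⊤ : Submodule A Mx) := by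
    intro k y
    have h1 := top_le_sup_pow_smul (maximalIdeal A) _ hspan1 k (Submodule.mem_top : y ∈ ⊤)
    obtain ⟨y₁, ⟨φ, rfl⟩, y₂, hy₂, rfl⟩ := Submodule.mem_sup.mp h1
    exact ⟨φ, by rw [add_sub_cancel_left]; exact hy₂⟩
  have hspan𝔡 : ∀ y : Mx, ∃ φ : Λ →₀ A,
      y - Finsupp.linearCombination A e φ ∈ 𝔡 • (⊤ : Submodule A Mx) := by
    intro y
    obtain ⟨φ, hφ⟩ := hspanK n' y
    exact ⟨φ, Submodule.smul_mono_left hn' hφ⟩
  -- Step II: relative independence modulo `𝔪^(n+1)`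
  have hstepII : ∀ ψ : Λ →₀ A, Finsupp.linearCombination A e ψ ∈
      maximalIdeal A ^ (n + 1) • (⊤ : Submodule A Mx) → ∀ l, ψ l ∈ maximalIdeal A ^ (n + 1) := by
    intro ψ hψ
    have hdecomp : ∀ z ∈ maximalIdeal A ^ (n + 1) • (⊤ : Submodule A Mx), ∃ φ : Λ →₀ A,
        (∀ l, φ l ∈ maximalIdeal A ^ (n + 1)) ∧
          z - Finsupp.linearCombination A e φ ∈ 𝔡 • (⊤ : Submodule A Mx) := by
      intro z hz
      refine Submodule.smul_induction_on hz (fun a ha y _ => ?_) (fun z₁ z₂ h₁ h₂ => ?_)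
      · obtain ⟨φ, hφ⟩ := hspan𝔡 y
        refine ⟨a • φ, fun l => ?_, ?_⟩
        · rw [Finsupp.smul_apply, smul_eq_mul]
          exact Ideal.mul_mem_right _ _ ha
        · rw [map_smul, ← smul_sub]
          exact Submodule.smul_mem _ a hφ
      · obtain ⟨φ₁, h₁, h₁'⟩ := h₁
        obtain ⟨φ₂, h₂, h₂'⟩ := h₂
        refine ⟨φ₁ + φ₂, fun l => ?_, ?_⟩
        · rw [Finsupp.add_apply]
          exact add_mem (h₁ l) (h₂ l)
        · rw [map_add, add_sub_add_comm]
          exact add_mem h₁' h₂'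
    obtain ⟨φ, hφN, hφ𝔡⟩ := hdecomp _ hψ
    intro l
    have h1 : (ψ - φ) l ∈ 𝔡 := hI (ψ - φ) (by rw [map_sub]; exact hφ𝔡) l
    have h2 : ψ l = (ψ - φ) l + φ l := by
      rw [Finsupp.sub_apply]
      ring
    rw [h2]
    exact add_mem (h𝔡N h1) (hφN l)
  haveI := free_quot_tensor (maximalIdeal A ^ (n + 1)) e hstepII (hspanK (n + 1))
  infer_instance

end RTN

end Groth.Agent.Lib.Flatif
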