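import Mathlib
import Groth.Prelude
import Groth.Agent.Lib.Flatif4_lead
import Groth.Agent.Lib.Flatif7_lead

set_option autoImplicit false
set_option backward.isDefEq.respectTransparency false
set_option linter.unusedSimpArgs false
set_option linter.unusedVariables false
set_option linter.unusedSectionVars false
set_option linter.style.longLine false
set_option linter.style.haveILetI false
set_option linter.unnecessarySimpa false
set_option maxHeartbeats 1600000

/-!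
# Flatness over a Noetherian local base tested on a family of local base changes, part 3

The scheme-level statement over `Spec A`, `A` Noetherian local (EGA IV 11.5.x).
-/

namespace Groth.Agent.Lib.Flatif

open CategoryTheory CategoryTheory.Limits AlgebraicGeometry TopologicalSpace Opposite IsLocalRing

universe u

lemma isNoetherianRing_Γ (R : Type u) [CommRing R] [IsNoetherianRing R] :
    IsNoetherianRing Γ(Spec (CommRingCat.of R), ⊤) :=
  isNoetherianRing_of_ringEquiv R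
    (Scheme.ΓSpecIso (CommRingCat.of R)).commRingCatIsoToRingEquiv.symm

lemma fromSpec_top_closedPoint {R : Type u} [CommRing R] [IsLocalRing R]
    [IsLocalRing Γ(Spec (CommRingCat.of R), ⊤)] :
    (isAffineOpen_top (Spec (CommRingCat.of R))).fromSpec
      (closedPoint Γ(Spec (CommRingCat.of R), ⊤)) = closedPoint R := by
  rw [IsAffineOpen.fromSpec_top, Scheme.isoSpec_Spec_inv]
  haveI : IsLocalHom (Scheme.ΓSpecIso (CommRingCat.of R)).inv.hom := isLocalHom_of_isIso _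
  exact IsLocalRing.comap_closedPoint (Scheme.ΓSpecIso (CommRingCat.of R)).inv.hom

lemma primeIdealOf_closedPoint {R : Type u} [CommRing R] [IsLocalRing R]
    [IsLocalRing Γ(Spec (CommRingCat.of R), ⊤)] (y : Spec (CommRingCat.of R))
    (hy : y = closedPoint R) :
    ((isAffineOpen_top (Spec (CommRingCat.of R))).primeIdealOf ⟨y, trivial⟩).asIdeal =
      maximalIdeal Γ(Spec (CommRingCat.of R), ⊤) := by
  have h1 : (isAffineOpen_top (Spec (CommRingCat.of R))).primeIdealOf ⟨y, trivial⟩ =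
      closedPoint Γ(Spec (CommRingCat.of R), ⊤) := by
    apply (isAffineOpen_top (Spec (CommRingCat.of R))).fromSpec.isOpenEmbedding.injective
    rw [IsAffineOpen.fromSpec_primeIdealOf, fromSpec_top_closedPoint, hy]
  rw [h1]
  rfl

lemma mem_maxPow_iff (R : Type u) [CommRing R] [IsLocalRing R]
    [IsLocalRing Γ(Spec (CommRingCat.of R), ⊤)] (n : ℕ) (a₀ : Γ(Spec (CommRingCat.of R), ⊤)) :
    a₀ ∈ maximalIdeal Γ(Spec (CommRingCat.of R), ⊤) ^ n ↔
      (Scheme.ΓSpecIso (CommRingCat.of R)).hom.hom a₀ ∈ maximalIdeal R ^ n := by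
  let E : Γ(Spec (CommRingCat.of R), ⊤) ≃+* R :=
    (Scheme.ΓSpecIso (CommRingCat.of R)).commRingCatIsoToRingEquiv
  have h1 : maximalIdeal Γ(Spec (CommRingCat.of R), ⊤) = Ideal.comap E (maximalIdeal R) := by
    ext a
    rw [Ideal.mem_comap, mem_maximalIdeal, mem_maximalIdeal, mem_nonunits_iff, mem_nonunits_iff,
      isUnit_map_iff]
  have h2 : Ideal.comap E (maximalIdeal R ^ n) = (Ideal.comap E (maximalIdeal R)) ^ n := by
    rw [← Ideal.map_symm, ← Ideal.map_symm, Ideal.map_pow]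
  rw [h1, ← h2, Ideal.mem_comap]
  rfl

lemma mem_max_iff (R : Type u) [CommRing R] [IsLocalRing R]
    [IsLocalRing Γ(Spec (CommRingCat.of R), ⊤)] (a₀ : Γ(Spec (CommRingCat.of R), ⊤)) :
    a₀ ∈ maximalIdeal Γ(Spec (CommRingCat.of R), ⊤) ↔
      (Scheme.ΓSpecIso (CommRingCat.of R)).hom.hom a₀ ∈ maximalIdeal R := by
  have := mem_maxPow_iff R 1 a₀
  rwa [pow_one, pow_one] at this

lemma ΓSpecIso_nat_apply {R S : Type u} [CommRing R] [CommRing S] (φ : R →+* S)
    (a₀ : Γ(Spec (CommRingCat.of R), ⊤)) :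
    (Scheme.ΓSpecIso (CommRingCat.of S)).hom.hom
      ((Spec.map (CommRingCat.ofHom φ)).appTop.hom a₀) =
        φ ((Scheme.ΓSpecIso (CommRingCat.of R)).hom.hom a₀) := by
  have hnat := Scheme.ΓSpecIso_naturality (CommRingCat.ofHom φ)
  have h2 := congrArg (fun ψ => ψ.hom a₀) hnat
  simp only [CommRingCat.hom_comp, RingHom.comp_apply, CommRingCat.hom_ofHom] at h2
  exact h2

/-- **EGA IV 11.5.x, Noetherian local base, general cartesian squares.** -/
theorem main_noeth {A : Type u} [CommRing A] [IsNoetherianRing A] [IsLocalRing A]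
    {X : Scheme.{u}} (f : X ⟶ Spec (CommRingCat.of A)) [LocallyOfFiniteType f]
    (F : X.Modules) (hF : Coh.IsCoh F) (x : X) (hx : f x = closedPoint A)
    {ι : Type*} (A' : ι → Type u) [∀ i, CommRing (A' i)] [∀ i, IsLocalRing (A' i)]
    (u : ∀ i, A →+* A' i)
    (hloc : ∀ i, ∀ a ∈ maximalIdeal A, u i a ∈ maximalIdeal (A' i))
    (htop : ∀ N : ℕ, ∃ s : Finset (ι × ℕ),
      ⨅ p ∈ s, Ideal.comap (u p.1) (maximalIdeal (A' p.1) ^ p.2) ≤ maximalIdeal A ^ N)
    (X' : ι → Scheme.{u}) (g' : ∀ i, X' i ⟶ X)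
    (f' : ∀ i, X' i ⟶ Spec (CommRingCat.of (A' i)))
    (hc : ∀ i, IsPullback (g' i) (f' i) f (Spec.map (CommRingCat.ofHom (u i))))
    (hflat : ∀ (i : ι) (x' : X' i), g' i x' = x → f' i x' = IsLocalRing.closedPoint (A' i) →
      FlatMod.IsFlatOverAt (f' i) ((Scheme.Modules.pullback (g' i)).obj F) x') :
    FlatMod.IsFlatOverAt f F x := by
  classical
  haveI : F.IsQuasicoherent := hF.1
  haveI : SheafOfModules.IsFiniteType (R := X.ringCatSheaf) F := hF.2
  have hW : IsAffineOpen (⊤ : (Spec (CommRingCat.of A)).Opens) := isAffineOpen_top _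
  obtain ⟨_, ⟨U, hU : IsAffineOpen U, rfl⟩, hxU, -⟩ :=
    (X.isBasis_affineOpens).exists_subset_of_mem_open (Set.mem_univ x) isOpen_univ
  have hUW : U ≤ f ⁻¹ᵁ (⊤ : (Spec (CommRingCat.of A)).Opens) := fun _ _ => trivial
  rw [FlatSecH8.isFlatOverAt_iff_flat_stalk f F hW hUW hxU]
  -- base ring instances
  haveI : IsLocalRing Γ(Spec (CommRingCat.of A), ⊤) := isLocalRing_Γ A
  haveI : IsNoetherianRing Γ(Spec (CommRingCat.of A), ⊤) := isNoetherianRing_Γ A
  -- algebra instances downstairs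
  letI algAB : Algebra Γ(Spec (CommRingCat.of A), ⊤) Γ(X, U) := (f.appLE ⊤ U hUW).hom.toAlgebra
  letI algBBx : Algebra Γ(X, U) (X.presheaf.stalk x) :=
    TopCat.Presheaf.algebra_section_stalk X.presheaf (⟨x, hxU⟩ : U)
  letI algABx : Algebra Γ(Spec (CommRingCat.of A), ⊤) (X.presheaf.stalk x) :=
    ((X.presheaf.germ U x hxU).hom.comp (f.appLE ⊤ U hUW).hom).toAlgebra
  haveI : IsScalarTower Γ(Spec (CommRingCat.of A), ⊤) Γ(X, U) (X.presheaf.stalk x) :=
    IsScalarTower.of_algebraMap_eq' rfl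
  haveI hpprime : (hU.primeIdealOf ⟨x, hxU⟩).asIdeal.IsPrime := (hU.primeIdealOf ⟨x, hxU⟩).isPrime
  haveI : IsLocalization.AtPrime (X.presheaf.stalk x) (hU.primeIdealOf ⟨x, hxU⟩).asIdeal :=
    hU.isLocalization_stalk ⟨x, hxU⟩
  -- noetherian
  have hft : (f.appLE ⊤ U hUW).hom.FiniteType :=
    HasRingHomProperty.appLE @LocallyOfFiniteType f inferInstance ⟨⊤, hW⟩ ⟨U, hU⟩ _
  haveI : Algebra.FiniteType Γ(Spec (CommRingCat.of A), ⊤) Γ(X, U) := hft
  haveI : IsNoetherianRing Γ(X, U) :=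
    Algebra.FiniteType.isNoetherianRing Γ(Spec (CommRingCat.of A), ⊤) Γ(X, U)
  haveI : IsNoetherianRing (X.presheaf.stalk x) :=
    IsLocalization.isNoetherianRing (hU.primeIdealOf ⟨x, hxU⟩).asIdeal.primeCompl _ inferInstance
  -- modules downstairs
  letI mAM : Module Γ(Spec (CommRingCat.of A), ⊤) Γ(F, U) :=
    Module.compHom _ (f.appLE ⊤ U hUW).hom
  haveI : IsScalarTower Γ(Spec (CommRingCat.of A), ⊤) Γ(X, U) Γ(F, U) :=
    IsScalarTower.of_algebraMap_smul fun _ _ => rfl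
  letI mBL : Module Γ(X, U) (F.presheaf.stalk x) := StalkLocH8.modSec F hxU
  letI mAL : Module Γ(Spec (CommRingCat.of A), ⊤) (F.presheaf.stalk x) :=
    Module.compHom _ ((X.presheaf.germ U x hxU).hom.comp (f.appLE ⊤ U hUW).hom)
  haveI : IsScalarTower Γ(Spec (CommRingCat.of A), ⊤) Γ(X, U) (F.presheaf.stalk x) :=
    IsScalarTower.of_algebraMap_smul fun _ _ => rfl
  haveI : IsScalarTower Γ(X, U) (X.presheaf.stalk x) (F.presheaf.stalk x) :=
    IsScalarTower.of_algebraMap_smul fun _ _ => rfl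
  haveI : IsScalarTower Γ(Spec (CommRingCat.of A), ⊤) (X.presheaf.stalk x) (F.presheaf.stalk x) :=
    IsScalarTower.of_algebraMap_smul fun _ _ => rfl
  haveI hlocℓ := StalkLocH8.isLocalizedModule_germLin F hU hxU
  haveI : Module.Finite Γ(X, U) Γ(F, U) := QCohFT.finite_of_isFiniteType F hU
  haveI : Module.Finite (X.presheaf.stalk x) (F.presheaf.stalk x) :=
    Module.Finite.of_isLocalizedModule (Rₚ := X.presheaf.stalk x)
      (hU.primeIdealOf ⟨x, hxU⟩).asIdeal.primeCompl (StalkLocH8.germLin F hxU)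
  -- the structure map to the local ring of `x` is local
  have hAB : (maximalIdeal Γ(Spec (CommRingCat.of A), ⊤)).map
      (algebraMap Γ(Spec (CommRingCat.of A), ⊤) (X.presheaf.stalk x)) ≤ Ideal.jacobson ⊥ := by
    rw [IsLocalRing.jacobson_eq_maximalIdeal ⊥ bot_ne_top, Ideal.map_le_iff_le_comap]
    intro a ha
    have h1 := IsAffineOpen.comap_primeIdealOf_appLE (f := f) ⊤ hW U hU hUW hxU
    have h2 := primeIdealOf_closedPoint (f x) hx
    have h3 : a ∈ ((hU.primeIdealOf ⟨x, hxU⟩).comap (f.appLE ⊤ U hUW).hom).asIdeal := by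
      rw [h1, h2]
      exact ha
    have h4 : (f.appLE ⊤ U hUW).hom a ∈ (hU.primeIdealOf ⟨x, hxU⟩).asIdeal := h3
    rw [hU.primeIdealOf_eq_map_closedPoint] at h4
    exact h4
  refine flat_of_rt_noeth (X.presheaf.stalk x) (hU.primeIdealOf ⟨x, hxU⟩).asIdeal
    (StalkLocH8.germLin F hxU) hAB ?_
  intro N
  obtain ⟨s, hs⟩ := htop N
  refine ⟨Ideal.comap (Scheme.ΓSpecIso (CommRingCat.of A)).hom.hom
    (⨅ p ∈ s, Ideal.comap (u p.1) (maximalIdeal (A' p.1) ^ p.2)), ?_, ⟨s.sup Prod.snd, ?_⟩, ?_⟩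
  · intro a₀ ha₀
    rw [mem_maxPow_iff]
    exact hs (Ideal.mem_comap.mp ha₀)
  · intro a₀ ha₀
    rw [mem_maxPow_iff] at ha₀
    rw [Ideal.mem_comap]
    simp only [Ideal.mem_iInf]
    intro p hp
    have hk : maximalIdeal A ^ p.2 ≤ Ideal.comap (u p.1) (maximalIdeal (A' p.1) ^ p.2) := by
      rw [← Ideal.map_le_iff_le_comap, Ideal.map_pow]
      have hm : Ideal.map (u p.1) (maximalIdeal A) ≤ maximalIdeal (A' p.1) :=
        Ideal.map_le_iff_le_comap.mpr (fun a ha => Ideal.mem_comap.mpr (hloc p.1 a ha))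
      exact Ideal.pow_right_mono hm _
    exact hk (Ideal.pow_le_pow_right (Finset.le_sup (f := Prod.snd) hp) ha₀)
  intro r xs c hind hrel j
  rw [Ideal.mem_comap]
  simp only [Ideal.mem_iInf]
  intro pn hpn
  rw [Ideal.mem_comap, ← ΓSpecIso_nat_apply]
  -- the `i`-th member of the family
  have hW' : IsAffineOpen (⊤ : (Spec (CommRingCat.of (A' pn.1))).Opens) := isAffineOpen_top _
  have hW'W : (⊤ : (Spec (CommRingCat.of (A' pn.1))).Opens) ≤
      (Spec.map (CommRingCat.ofHom (u pn.1))) ⁻¹ᵁ ⊤ := fun _ _ => trivial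
  obtain ⟨hU', hpo⟩ := Groth.Agent.Lib.LimClosed.affine_pushout (hc pn.1) hW hU hW' hUW hW'W
  set U' : (X' pn.1).Opens := (g' pn.1) ⁻¹ᵁ U ⊓ (f' pn.1) ⁻¹ᵁ ⊤ with hU'def
  have hU'U : U' ≤ (g' pn.1) ⁻¹ᵁ U := inf_le_left
  have hU'W' : U' ≤ (f' pn.1) ⁻¹ᵁ ⊤ := inf_le_right
  haveI : IsLocalRing Γ(Spec (CommRingCat.of (A' pn.1)), ⊤) := isLocalRing_Γ (A' pn.1)
  rw [← mem_maxPow_iff]
  letI algAA' : Algebra Γ(Spec (CommRingCat.of A), ⊤) Γ(Spec (CommRingCat.of (A' pn.1)), ⊤) :=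
    ((Spec.map (CommRingCat.ofHom (u pn.1))).appLE ⊤ ⊤ hW'W).hom.toAlgebra
  letI algBB' : Algebra Γ(X, U) Γ(X' pn.1, U') := ((g' pn.1).appLE U U' hU'U).hom.toAlgebra
  letI algA'B' : Algebra Γ(Spec (CommRingCat.of (A' pn.1)), ⊤) Γ(X' pn.1, U') :=
    ((f' pn.1).appLE ⊤ U' hU'W').hom.toAlgebra
  letI algAB' : Algebra Γ(Spec (CommRingCat.of A), ⊤) Γ(X' pn.1, U') :=
    (((g' pn.1).appLE U U' hU'U).hom.comp (f.appLE ⊤ U hUW).hom).toAlgebra
  haveI : IsScalarTower Γ(Spec (CommRingCat.of A), ⊤) Γ(X, U) Γ(X' pn.1, U') :=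
    IsScalarTower.of_algebraMap_eq' rfl
  haveI : IsScalarTower Γ(Spec (CommRingCat.of A), ⊤) Γ(Spec (CommRingCat.of (A' pn.1)), ⊤)
      Γ(X' pn.1, U') := by
    refine IsScalarTower.of_algebraMap_eq' ?_
    change ((g' pn.1).appLE U U' hU'U).hom.comp (f.appLE ⊤ U hUW).hom =
      ((f' pn.1).appLE ⊤ U' hU'W').hom.comp
        ((Spec.map (CommRingCat.ofHom (u pn.1))).appLE ⊤ ⊤ hW'W).hom
    rw [← CommRingCat.hom_comp, ← CommRingCat.hom_comp]
    congr 1
    exact hpo.w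
  haveI : Algebra.IsPushout Γ(Spec (CommRingCat.of A), ⊤) Γ(X, U)
      Γ(Spec (CommRingCat.of (A' pn.1)), ⊤) Γ(X' pn.1, U') :=
    CommRingCat.isPushout_iff_isPushout.mp hpo
  set F' := (Scheme.Modules.pullback (g' pn.1)).obj F with hF'
  letI mBM' : Module Γ(X, U) Γ(F', U') := Module.compHom _ ((g' pn.1).appLE U U' hU'U).hom
  haveI : IsScalarTower Γ(X, U) Γ(X' pn.1, U') Γ(F', U') :=
    IsScalarTower.of_algebraMap_smul fun _ _ => rfl
  letI mA'M' : Module Γ(Spec (CommRingCat.of (A' pn.1)), ⊤) Γ(F', U') :=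
    Module.compHom _ ((f' pn.1).appLE ⊤ U' hU'W').hom
  haveI : IsScalarTower Γ(Spec (CommRingCat.of (A' pn.1)), ⊤) Γ(X' pn.1, U') Γ(F', U') :=
    IsScalarTower.of_algebraMap_smul fun _ _ => rfl
  have bc := PBH8.isBaseChange_cUV (g' pn.1) F hU'U hU' hU
  have halg : ∀ a₀ : Γ(Spec (CommRingCat.of A), ⊤),
      algebraMap Γ(Spec (CommRingCat.of A), ⊤) Γ(Spec (CommRingCat.of (A' pn.1)), ⊤) a₀ =
        (Spec.map (CommRingCat.ofHom (u pn.1))).appTop.hom a₀ := by
    intro a₀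
    show ((Spec.map (CommRingCat.ofHom (u pn.1))).appLE ⊤ ⊤ hW'W).hom a₀ = _
    rw [Groth.Agent.Lib.LimClosed.appLE_top_top]
  have h0 : algebraMap Γ(Spec (CommRingCat.of A), ⊤) Γ(Spec (CommRingCat.of (A' pn.1)), ⊤) (c j)
      ∈ maximalIdeal Γ(Spec (CommRingCat.of (A' pn.1)), ⊤) ^ pn.2 := by
    refine rt_single' (X.presheaf.stalk x) (hU.primeIdealOf ⟨x, hxU⟩).asIdeal
      (PBH8.cUVLin (g' pn.1) F hU'U) bc (StalkLocH8.germLin F hxU) ?_ ?_
      (Ideal.comap (Scheme.ΓSpecIso (CommRingCat.of A)).hom.hom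
        (⨅ p ∈ s, Ideal.comap (u p.1) (maximalIdeal (A' p.1) ^ p.2)))
      (maximalIdeal Γ(Spec (CommRingCat.of (A' pn.1)), ⊤) ^ pn.2) ?_ xs c hind hrel j
    · intro a₀ ha₀
      rw [halg, mem_max_iff, ΓSpecIso_nat_apply]
      exact hloc pn.1 _ ((mem_max_iff A a₀).mp ha₀)
    · intro q' hq'prime hq'p hq'm
      -- the point of `U'` corresponding to `q'`
      set 𝔮 : PrimeSpectrum Γ(X' pn.1, U') := ⟨q', hq'prime⟩ with h𝔮
      set x' : X' pn.1 := hU'.fromSpec 𝔮 with hx'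
      have hx'U' : x' ∈ U' := by
        have : x' ∈ hU'.fromSpec.opensRange := ⟨𝔮, rfl⟩
        rwa [hU'.opensRange_fromSpec] at this
      have hprime : hU'.primeIdealOf ⟨x', hx'U'⟩ = 𝔮 := by
        apply hU'.fromSpec.isOpenEmbedding.injective
        rw [hU'.fromSpec_primeIdealOf]
      have hgx : g' pn.1 x' = x := by
        have h1 := IsAffineOpen.comap_primeIdealOf_appLE (f := g' pn.1) U hU U' hU' hU'U hx'U'
        rw [hprime] at h1
        have h2 : hU.primeIdealOf ⟨g' pn.1 x', hU'U hx'U'⟩ = hU.primeIdealOf ⟨x, hxU⟩ := by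
          rw [← h1]
          exact PrimeSpectrum.ext hq'p
        have h3 := congrArg (fun z => hU.fromSpec z) h2
        simp only [hU.fromSpec_primeIdealOf] at h3
        exact h3
      have hfx : f' pn.1 x' = closedPoint (A' pn.1) := by
        have h1 := IsAffineOpen.comap_primeIdealOf_appLE (f := f' pn.1) ⊤ hW' U' hU' hU'W' hx'U'
        rw [hprime] at h1
        exact eq_closedPoint_of_primeIdealOf _
          ((congrArg PrimeSpectrum.asIdeal h1).symm.trans hq'm)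
      have hfl := hflat pn.1 x' hgx hfx
      rw [FlatSecH8.isFlatOverAt_iff_flat_stalk (f' pn.1) F' hW' hU'W' hx'U'] at hfl
      letI mB'L' : Module Γ(X' pn.1, U') (F'.presheaf.stalk x') := StalkLocH8.modSec F' hx'U'
      letI mA'L' : Module Γ(Spec (CommRingCat.of (A' pn.1)), ⊤) (F'.presheaf.stalk x') :=
        Module.compHom _ (((X' pn.1).presheaf.germ U' x' hx'U').hom.comp
          ((f' pn.1).appLE ⊤ U' hU'W').hom)
      haveI : IsScalarTower Γ(Spec (CommRingCat.of (A' pn.1)), ⊤) Γ(X' pn.1, U')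
          (F'.presheaf.stalk x') := IsScalarTower.of_algebraMap_smul fun _ _ => rfl
      have hl' := StalkLocH8.isLocalizedModule_germLin F' hU' hx'U'
      rw [hprime] at hl'
      haveI : IsLocalizedModule q'.primeCompl (StalkLocH8.germLin F' hx'U') := hl'
      haveI : Module.Flat Γ(Spec (CommRingCat.of (A' pn.1)), ⊤) (F'.presheaf.stalk x') := hfl
      exact fcAt_of_flat_localized q' (StalkLocH8.germLin F' hx'U')
    · intro a₀ ha₀
      rw [halg, mem_maxPow_iff, ΓSpecIso_nat_apply]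
      have h1 : (Scheme.ΓSpecIso (CommRingCat.of A)).hom.hom a₀ ∈
          ⨅ p ∈ s, Ideal.comap (u p.1) (maximalIdeal (A' p.1) ^ p.2) := ha₀
      simp only [Ideal.mem_iInf] at h1
      exact Ideal.mem_comap.mp (h1 pn hpn)
  rw [halg] at h0
  exact h0

end Groth.Agent.Lib.Flatif
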