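import Mathlib
import Groth.Prelude
import Groth.Agent.Lib.Flatif8_lead
import Groth.Agent.Lib.Desc5_helper8
import Groth.Agent.Lib.Fpqc1_helper8

set_option autoImplicit false
set_option backward.isDefEq.respectTransparency false
set_option linter.unusedSimpArgs false
set_option linter.unusedVariables false
set_option linter.unusedSectionVars false
set_option linter.style.longLine false
set_option linter.style.haveILetI false
set_option linter.unnecessarySimpa false
set_option maxHeartbeats 1600000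

/-!
# Flatness tested on a family of local base changes of the local ring of the base (S4857)
-/

namespace Groth.Agent.Lib.Flatif

open CategoryTheory CategoryTheory.Limits AlgebraicGeometry TopologicalSpace Opposite IsLocalRing
open TensorProduct

universe u

lemma flat_fromSpecStalk' (X : Scheme.{u}) (x : X) : Flat (X.fromSpecStalk x) := by
  obtain ⟨_, ⟨U, hU, rfl⟩, hxU, -⟩ := X.isBasis_affineOpens.exists_subset_of_mem_open
    (Set.mem_univ x) isOpen_univ
  rw [← IsAffineOpen.fromSpecStalk_eq_fromSpecStalk hU hxU, IsAffineOpen.fromSpecStalk]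
  haveI : Flat (Spec.map (X.presheaf.germ U x hxU)) := by
    rw [Flat.SpecMap_iff]
    letI := TopCat.Presheaf.algebra_section_stalk X.presheaf (⟨x, hxU⟩ : U)
    haveI := hU.isLocalization_stalk ⟨x, hxU⟩
    have hfl : Module.Flat Γ(X, U) (X.presheaf.stalk x) :=
      IsLocalization.flat _ (hU.primeIdealOf ⟨x, hxU⟩).asIdeal.primeCompl
    exact RingHom.flat_algebraMap_iff.mpr hfl
  infer_instance

/-- Base change along a bijective algebra map is bijective. -/
lemma bijective_of_isBaseChange {R S M N : Type*} [CommRing R] [CommRing S] [Algebra R S]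
    [AddCommGroup M] [AddCommGroup N] [Module R M] [Module R N] [Module S N]
    [IsScalarTower R S N] {f : M →ₗ[R] N} (h : IsBaseChange S f)
    (hb : Function.Bijective (algebraMap R S)) : Function.Bijective f := by
  let Φ : M ≃ₗ[R] S ⊗[R] M := (TensorProduct.lid R M).symm ≪≫ₗ
    TensorProduct.congr (LinearEquiv.ofBijective (Algebra.linearMap R S) hb) (LinearEquiv.refl R M)
  have hΦ : ∀ m, f m = h.equiv (Φ m) := by
    intro m
    show f m = h.equiv (TensorProduct.congr (LinearEquiv.ofBijective (Algebra.linearMap R S) hb)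
      (LinearEquiv.refl R M) ((TensorProduct.lid R M).symm m))
    rw [TensorProduct.lid_symm_apply, TensorProduct.congr_tmul, h.equiv_tmul]
    simp
  have h2 : (f : M → N) = h.equiv ∘ Φ := funext hΦ
  rw [h2]
  exact h.equiv.bijective.comp Φ.bijective

/-- Flatness over the base at a point can be tested after base change to the local ring of the
base. -/
theorem isFlatOverAt_of_fromSpecStalk {X Y : Scheme.{u}} (f : X ⟶ Y) (F : X.Modules)
    [F.IsQuasicoherent] (y : Y) {X₀ : Scheme.{u}} (g' : X₀ ⟶ X)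
    (f' : X₀ ⟶ Spec (Y.presheaf.stalk y)) (hc : IsPullback g' f' f (Y.fromSpecStalk y)) (xt : X₀)
    (h : FlatMod.IsFlatOverAt f' ((Scheme.Modules.pullback g').obj F) xt) :
    FlatMod.IsFlatOverAt f F (g' xt) := by
  haveI : Flat (Y.fromSpecStalk y) := flat_fromSpecStalk' Y y
  haveI : Flat g' := MorphismProperty.of_isPullback (P := @Flat) hc.flip inferInstance
  haveI : IsPreimmersion g' :=
    MorphismProperty.of_isPullback (P := @IsPreimmersion) hc.flip inferInstance
  obtain ⟨_, ⟨V, hV : IsAffineOpen V, rfl⟩, hyV, -⟩ :=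
    (Y.isBasis_affineOpens).exists_subset_of_mem_open (Set.mem_univ y) isOpen_univ
  have hjV : ∀ z : Spec (Y.presheaf.stalk y), Y.fromSpecStalk y z ∈ V := by
    intro z
    have hz : Y.fromSpecStalk y z ⤳ y := by
      have h1 : Y.fromSpecStalk y z ∈ Set.range (Y.fromSpecStalk y) := ⟨z, rfl⟩
      rw [Scheme.range_fromSpecStalk] at h1
      exact h1
    exact hz.mem_open V.2 hyV
  have hfx : f (g' xt) ∈ V := by
    have h1 : f (g' xt) = Y.fromSpecStalk y (f' xt) := by
      rw [← Scheme.Hom.comp_apply, ← Scheme.Hom.comp_apply, hc.w]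
    rw [h1]
    exact hjV _
  obtain ⟨_, ⟨U, hU : IsAffineOpen U, rfl⟩, hxU, hUV⟩ :=
    (X.isBasis_affineOpens).exists_subset_of_mem_open (show g' xt ∈ f ⁻¹ᵁ V from hfx)
      (f ⁻¹ᵁ V).isOpen
  have hW' : IsAffineOpen (⊤ : (Spec (Y.presheaf.stalk y)).Opens) := isAffineOpen_top _
  have hW'V : (⊤ : (Spec (Y.presheaf.stalk y)).Opens) ≤ (Y.fromSpecStalk y) ⁻¹ᵁ V :=
    fun z _ => hjV z
  obtain ⟨hU', hpo⟩ := Groth.Agent.Lib.LimClosed.affine_pushout hc hV hU hW' hUV hW'V
  set U' : X₀.Opens := g' ⁻¹ᵁ U ⊓ f' ⁻¹ᵁ ⊤ with hU'def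
  have hx'U' : xt ∈ U' := ⟨hxU, trivial⟩
  have hU'U : U' ≤ g' ⁻¹ᵁ U := inf_le_left
  have hU'W' : U' ≤ f' ⁻¹ᵁ ⊤ := inf_le_right
  rw [FlatSecH8.isFlatOverAt_iff_flat_stalk f' _ hW' hU'W' hx'U'] at h
  rw [FlatSecH8.isFlatOverAt_iff_flat_stalk f F hV hUV hxU]
  set F' := (Scheme.Modules.pullback g').obj F with hF'
  letI algAA' : Algebra Γ(Y, V) Γ(Spec (Y.presheaf.stalk y), ⊤) :=
    ((Y.fromSpecStalk y).appLE V ⊤ hW'V).hom.toAlgebra
  haveI : Module.Flat Γ(Y, V) Γ(Spec (Y.presheaf.stalk y), ⊤) := by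
    have hfl : ((Y.fromSpecStalk y).appLE V ⊤ hW'V).hom.Flat :=
      HasRingHomProperty.appLE @Flat (Y.fromSpecStalk y) inferInstance ⟨V, hV⟩ ⟨⊤, hW'⟩ _
    exact hfl
  letI mA'L' : Module Γ(Spec (Y.presheaf.stalk y), ⊤) (F'.presheaf.stalk xt) :=
    Module.compHom _ ((X₀.presheaf.germ U' xt hx'U').hom.comp (f'.appLE ⊤ U' hU'W').hom)
  haveI : Module.Flat Γ(Spec (Y.presheaf.stalk y), ⊤) (F'.presheaf.stalk xt) := h
  letI mAL' : Module Γ(Y, V) (F'.presheaf.stalk xt) :=
    Module.compHom _ (algebraMap Γ(Y, V) Γ(Spec (Y.presheaf.stalk y), ⊤))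
  haveI : IsScalarTower Γ(Y, V) Γ(Spec (Y.presheaf.stalk y), ⊤) (F'.presheaf.stalk xt) :=
    IsScalarTower.of_algebraMap_smul fun _ _ => rfl
  haveI hflatA : Module.Flat Γ(Y, V) (F'.presheaf.stalk xt) :=
    Module.Flat.trans Γ(Y, V) Γ(Spec (Y.presheaf.stalk y), ⊤) _
  letI mAL : Module Γ(Y, V) (F.presheaf.stalk (g' xt)) :=
    Module.compHom _ ((X.presheaf.germ U (g' xt) hxU).hom.comp (f.appLE V U hUV).hom)
  have hsm : ∀ (a : Γ(Y, V)) (m : F.presheaf.stalk (g' xt)),
      PBH8.cStalkHom g' F xt (a • m) = a • PBH8.cStalkHom g' F xt m := by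
    intro a m
    have e1 : PBH8.cStalkHom g' F xt
        (((X.presheaf.germ U (g' xt) hxU).hom ((f.appLE V U hUV).hom a)) • m) =
        (g'.stalkMap xt).hom ((X.presheaf.germ U (g' xt) hxU).hom ((f.appLE V U hUV).hom a)) •
          PBH8.cStalkHom g' F xt m := PBH8.cStalkHom_smul g' F xt _ m
    have e2 : (g'.stalkMap xt).hom ((X.presheaf.germ U (g' xt) hxU).hom
        ((f.appLE V U hUV).hom a)) =
        (X₀.presheaf.germ U' xt hx'U').hom ((g'.appLE U U' hU'U).hom ((f.appLE V U hUV).hom a)) :=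
      GenFlatSchH8.stalkMap_germ_appLE g' hU'U hx'U' _
    have e3 : (g'.appLE U U' hU'U).hom ((f.appLE V U hUV).hom a) =
        (f'.appLE ⊤ U' hU'W').hom (((Y.fromSpecStalk y).appLE V ⊤ hW'V).hom a) := by
      have h1 := congrArg (fun ψ => ψ.hom a) hpo.w
      simpa only [CommRingCat.hom_comp, RingHom.comp_apply] using h1
    refine e1.trans ?_
    rw [e2, e3]
    rfl
  have hbij : Function.Bijective (PBH8.cStalkHom g' F xt) := by
    letI := (g'.stalkMap xt).hom.toAlgebra
    letI : Module (X.presheaf.stalk (g' xt)) (F'.presheaf.stalk xt) :=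
      Module.compHom _ (g'.stalkMap xt).hom
    haveI : IsScalarTower (X.presheaf.stalk (g' xt)) (X₀.presheaf.stalk xt)
        (F'.presheaf.stalk xt) := IsScalarTower.of_algebraMap_smul fun _ _ => rfl
    have hbc := PBH8.isBaseChange_cStalk g' F xt
    have hflat : (g'.stalkMap xt).hom.Flat := Flat.stalkMap g' xt
    haveI : Module.Flat (X.presheaf.stalk (g' xt)) (X₀.presheaf.stalk xt) := hflat
    haveI : IsLocalHom (algebraMap (X.presheaf.stalk (g' xt)) (X₀.presheaf.stalk xt)) :=
      inferInstanceAs (IsLocalHom (g'.stalkMap xt).hom)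
    haveI := Module.FaithfullyFlat.of_flat_of_isLocalHom (A := X.presheaf.stalk (g' xt))
      (B := X₀.presheaf.stalk xt)
    have hinj : Function.Injective
        (algebraMap (X.presheaf.stalk (g' xt)) (X₀.presheaf.stalk xt)) :=
      FaithfulSMul.algebraMap_injective _ _
    have hsurj : Function.Surjective
        (algebraMap (X.presheaf.stalk (g' xt)) (X₀.presheaf.stalk xt)) :=
      g'.stalkMap_surjective xt
    exact bijective_of_isBaseChange hbc ⟨hinj, hsurj⟩
  let L : F.presheaf.stalk (g' xt) →ₗ[Γ(Y, V)] F'.presheaf.stalk xt :=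
    { toFun := PBH8.cStalkHom g' F xt
      map_add' := fun a b => map_add _ a b
      map_smul' := hsm }
  exact Module.Flat.of_linearEquiv (LinearEquiv.ofBijective L hbij)

/-- **S4857.** -/
theorem main4857 {X Y : Scheme.{u}} [IsLocallyNoetherian Y]
    (f : X ⟶ Y) [LocallyOfFiniteType f] (F : X.Modules) (hF : Coh.IsCoh F) (x : X)
    {ι : Type u} (A : ι → Type u) [∀ i, CommRing (A i)] [∀ i, IsLocalRing (A i)]
    (φ : ∀ i, (Y.presheaf.stalk (f x) : Type u) →+* A i) [∀ i, IsLocalHom (φ i)]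
    (htop : ∀ N : ℕ, ∃ s : Finset (ι × ℕ),
      ⨅ p ∈ s, Ideal.comap (φ p.1) (IsLocalRing.maximalIdeal (A p.1) ^ p.2) ≤
        IsLocalRing.maximalIdeal ↑(Y.presheaf.stalk (f x)) ^ N)
    (hflat : ∀ (i : ι) (x' : ↥(pullback f (Spec.map (CommRingCat.ofHom (φ i)) ≫
        Y.fromSpecStalk (f x)))),
      pullback.fst f (Spec.map (CommRingCat.ofHom (φ i)) ≫ Y.fromSpecStalk (f x)) x' = x →
      pullback.snd f (Spec.map (CommRingCat.ofHom (φ i)) ≫ Y.fromSpecStalk (f x)) x' =
        IsLocalRing.closedPoint (A i) →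
      FlatMod.IsFlatOverAt
        (pullback.snd f (Spec.map (CommRingCat.ofHom (φ i)) ≫ Y.fromSpecStalk (f x)))
        ((Scheme.Modules.pullback
          (pullback.fst f (Spec.map (CommRingCat.ofHom (φ i)) ≫ Y.fromSpecStalk (f x)))).obj F)
        x') :
    FlatMod.IsFlatOverAt f F x := by
  haveI : F.IsQuasicoherent := hF.1
  haveI : SheafOfModules.IsFiniteType (R := X.ringCatSheaf) F := hF.2
  obtain ⟨xt, hxt1, hxt2⟩ := Scheme.Pullback.exists_preimage_pullback (f := f)
    (g := Y.fromSpecStalk (f x)) x (closedPoint (Y.presheaf.stalk (f x)))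
    (Scheme.fromSpecStalk_closedPoint).symm
  have key : FlatMod.IsFlatOverAt f F (pullback.fst f (Y.fromSpecStalk (f x)) xt) := by
    refine isFlatOverAt_of_fromSpecStalk f F (f x) (pullback.fst f (Y.fromSpecStalk (f x)))
      (pullback.snd f (Y.fromSpecStalk (f x))) (IsPullback.of_hasPullback _ _) xt ?_
    have hF₀ : Coh.IsCoh ((Scheme.Modules.pullback
        (pullback.fst f (Y.fromSpecStalk (f x)))).obj F) :=
      ⟨PBH8.isQuasicoherent_pullback _ F, FpqcH8.isFiniteType_pullback _ F⟩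
    have hloc : ∀ i, ∀ a ∈ maximalIdeal ↑(Y.presheaf.stalk (f x)),
        φ i a ∈ maximalIdeal (A i) := by
      intro i a ha
      rw [mem_maximalIdeal, mem_nonunits_iff] at ha ⊢
      exact fun hu => ha (IsLocalHom.map_nonunit a hu)
    refine main_noeth (A := ↑(Y.presheaf.stalk (f x)))
      (pullback.snd f (Y.fromSpecStalk (f x))) _ hF₀ xt hxt2 A φ hloc htop
      (fun i => pullback f (Spec.map (CommRingCat.ofHom (φ i)) ≫ Y.fromSpecStalk (f x)))
      (fun i => pullback.lift
        (pullback.fst f (Spec.map (CommRingCat.ofHom (φ i)) ≫ Y.fromSpecStalk (f x)))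
        (pullback.snd f (Spec.map (CommRingCat.ofHom (φ i)) ≫ Y.fromSpecStalk (f x)) ≫
          Spec.map (CommRingCat.ofHom (φ i)))
        (by rw [Category.assoc]; exact pullback.condition))
      (fun i => pullback.snd f (Spec.map (CommRingCat.ofHom (φ i)) ≫ Y.fromSpecStalk (f x)))
      ?_ ?_
    · intro i
      refine IsPullback.of_right ?_ (pullback.lift_snd _ _ _)
        (IsPullback.of_hasPullback f (Y.fromSpecStalk (f x)))
      rw [pullback.lift_fst]
      exact IsPullback.of_hasPullback f _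
    · intro i x' hx'1 hx'2
      have hfst : pullback.lift
          (pullback.fst f (Spec.map (CommRingCat.ofHom (φ i)) ≫ Y.fromSpecStalk (f x)))
          (pullback.snd f (Spec.map (CommRingCat.ofHom (φ i)) ≫ Y.fromSpecStalk (f x)) ≫
            Spec.map (CommRingCat.ofHom (φ i)))
          (by rw [Category.assoc]; exact pullback.condition) ≫
            pullback.fst f (Y.fromSpecStalk (f x)) =
          pullback.fst f (Spec.map (CommRingCat.ofHom (φ i)) ≫ Y.fromSpecStalk (f x)) :=
        pullback.lift_fst _ _ _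
      have h1 : pullback.fst f (Spec.map (CommRingCat.ofHom (φ i)) ≫ Y.fromSpecStalk (f x)) x' =
          x := by
        rw [← hfst, Scheme.Hom.comp_apply, hx'1, hxt1]
      have h2 := hflat i x' h1 hx'2
      exact DescH8.isFlatOverAt_of_iso _
        ((Scheme.Modules.pullbackComp _ (pullback.fst f (Y.fromSpecStalk (f x)))).app F ≪≫
          (Scheme.Modules.pullbackCongr hfst).app F).symm x' h2
  rwa [hxt1] at key

end Groth.Agent.Lib.Flatif
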