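import Mathlib
import Groth.Prelude
import Groth.Agent.Lib.Flatif9_lead
import Groth.Agent.Lib.Flatif10_lead

set_option autoImplicit false
set_option backward.isDefEq.respectTransparency false
set_option linter.unusedSimpArgs false
set_option linter.unusedVariables false
set_option linter.unusedSectionVars false
set_option linter.style.longLine false
set_option linter.style.haveILetI false
set_option linter.unnecessarySimpa false
set_option maxHeartbeats 1600000

/-!
# Flatness tested after a finite injective extension of the local ring of the base (S5915)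
-/

namespace Groth.Agent.Lib.Flatif

open CategoryTheory CategoryTheory.Limits AlgebraicGeometry TopologicalSpace Opposite IsLocalRing

universe u

/-- **S5915.** -/
theorem main5915 {X Y : Scheme.{u}} [IsLocallyNoetherian Y]
    (f : X ⟶ Y) [LocallyOfFiniteType f] (F : X.Modules) (hF : Coh.IsCoh F) (x : X)
    (A' : CommRingCat.{u}) (φ : Y.presheaf.stalk (f.base x) ⟶ A') (hfin : φ.hom.Finite)
    (hinj : Function.Injective φ.hom) :
    FlatMod.IsFlatOverAt f F x ↔
      ∀ x' : ↥(pullback f (Spec.map φ ≫ Y.fromSpecStalk (f.base x))),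
        pullback.fst f (Spec.map φ ≫ Y.fromSpecStalk (f.base x)) x' = x →
        IsClosed ({pullback.snd f (Spec.map φ ≫ Y.fromSpecStalk (f.base x)) x'} :
          Set ↥(Spec A')) →
          FlatMod.IsFlatOverAt (pullback.snd f (Spec.map φ ≫ Y.fromSpecStalk (f.base x)))
            ((Scheme.Modules.pullback
              (pullback.fst f (Spec.map φ ≫ Y.fromSpecStalk (f.base x)))).obj F) x' := by
  haveI : F.IsQuasicoherent := hF.1
  constructor
  · intro h x' hx' _
    exact FlatBC2H8.isFlatOverAt_pullback (IsPullback.of_hasPullback f _) F x'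
      (by rw [hx']; exact h)
  · intro H
    letI algOA : Algebra ↑(Y.presheaf.stalk (f.base x)) ↑A' := φ.hom.toAlgebra
    haveI : Module.Finite ↑(Y.presheaf.stalk (f.base x)) ↑A' := hfin
    haveI : Algebra.IsIntegral ↑(Y.presheaf.stalk (f.base x)) ↑A' :=
      Algebra.IsIntegral.of_finite _ _
    let φn : ∀ n : MaximalSpectrum ↑A',
        ↑(Y.presheaf.stalk (f.base x)) →+* Localization.AtPrime n.asIdeal :=
      fun n => (algebraMap ↑A' (Localization.AtPrime n.asIdeal)).comp φ.hom
    haveI hlocn : ∀ n, IsLocalHom (φn n) := by
      intro n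
      constructor
      intro a ha
      have h1 : φ.hom a ∈ n.asIdeal.primeCompl :=
        (IsLocalization.AtPrime.isUnit_to_map_iff (Localization.AtPrime n.asIdeal) n.asIdeal
          (φ.hom a)).mp ha
      by_contra hna
      have h2 : a ∈ maximalIdeal ↑(Y.presheaf.stalk (f.base x)) :=
        (mem_maximalIdeal a).mpr (mem_nonunits_iff.mpr hna)
      haveI := Ideal.isMaximal_comap_of_isIntegral_of_isMaximal
        (R := ↑(Y.presheaf.stalk (f.base x))) n.asIdeal
      have h3 : n.asIdeal.comap (algebraMap ↑(Y.presheaf.stalk (f.base x)) ↑A') =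
          maximalIdeal ↑(Y.presheaf.stalk (f.base x)) := IsLocalRing.eq_maximalIdeal this
      rw [← h3] at h2
      exact h1 h2
    refine main4857 f F hF x (fun n : MaximalSpectrum ↑A' => Localization.AtPrime n.asIdeal) φn
      (fun N => htop_of_finite_injective ↑(Y.presheaf.stalk (f.base x)) ↑A' hinj N) ?_
    intro n x'' hx''1 hx''2
    -- the localisation map on spectra
    have heq : Spec.map (CommRingCat.ofHom (φn n)) ≫ Y.fromSpecStalk (f.base x) =
        Spec.map (CommRingCat.ofHom (algebraMap ↑A' (Localization.AtPrime n.asIdeal))) ≫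
          (Spec.map φ ≫ Y.fromSpecStalk (f.base x)) := by
      have h1 : CommRingCat.ofHom (φn n) =
          φ ≫ CommRingCat.ofHom (algebraMap ↑A' (Localization.AtPrime n.asIdeal)) := rfl
      rw [h1, Spec.map_comp, Category.assoc]
    have hcond : pullback.fst f (Spec.map (CommRingCat.ofHom (φn n)) ≫
        Y.fromSpecStalk (f.base x)) ≫ f =
        (pullback.snd f (Spec.map (CommRingCat.ofHom (φn n)) ≫ Y.fromSpecStalk (f.base x)) ≫
          Spec.map (CommRingCat.ofHom (algebraMap ↑A' (Localization.AtPrime n.asIdeal)))) ≫
          (Spec.map φ ≫ Y.fromSpecStalk (f.base x)) := by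
      rw [Category.assoc, ← heq]
      exact pullback.condition
    have hsq : IsPullback
        (pullback.lift _ _ hcond)
        (pullback.snd f (Spec.map (CommRingCat.ofHom (φn n)) ≫ Y.fromSpecStalk (f.base x)))
        (pullback.snd f (Spec.map φ ≫ Y.fromSpecStalk (f.base x)))
        (Spec.map (CommRingCat.ofHom (algebraMap ↑A' (Localization.AtPrime n.asIdeal)))) := by
      refine IsPullback.of_right ?_ (pullback.lift_snd _ _ hcond)
        (IsPullback.of_hasPullback f (Spec.map φ ≫ Y.fromSpecStalk (f.base x)))
      rw [pullback.lift_fst, ← heq]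
      exact IsPullback.of_hasPullback f _
    have hfst : pullback.lift _ _ hcond ≫
        pullback.fst f (Spec.map φ ≫ Y.fromSpecStalk (f.base x)) =
        pullback.fst f (Spec.map (CommRingCat.ofHom (φn n)) ≫ Y.fromSpecStalk (f.base x)) :=
      pullback.lift_fst _ _ hcond
    have h1 : pullback.fst f (Spec.map φ ≫ Y.fromSpecStalk (f.base x))
        (pullback.lift _ _ hcond x'') = x := by
      rw [← Scheme.Hom.comp_apply, hfst]
      exact hx''1
    have hcl : IsClosed ({pullback.snd f (Spec.map φ ≫ Y.fromSpecStalk (f.base x))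
        (pullback.lift _ _ hcond x'')} : Set ↥(Spec A')) := by
      have h2 : pullback.snd f (Spec.map φ ≫ Y.fromSpecStalk (f.base x))
          (pullback.lift _ _ hcond x'') =
          Spec.map (CommRingCat.ofHom (algebraMap ↑A' (Localization.AtPrime n.asIdeal)))
            (closedPoint (Localization.AtPrime n.asIdeal)) := by
        rw [← hx''2, ← Scheme.Hom.comp_apply, ← Scheme.Hom.comp_apply, pullback.lift_snd]
        rfl
      have h3 : Spec.map (CommRingCat.ofHom (algebraMap ↑A' (Localization.AtPrime n.asIdeal)))
            (closedPoint (Localization.AtPrime n.asIdeal)) =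
          (⟨n.asIdeal, inferInstance⟩ : PrimeSpectrum ↑A') := by
        apply PrimeSpectrum.ext
        exact IsLocalization.AtPrime.under_maximalIdeal (Localization.AtPrime n.asIdeal)
          n.asIdeal
      rw [h2, h3]
      exact (PrimeSpectrum.isClosed_singleton_iff_isMaximal _).mpr n.isMaximal
    have h4 := H _ h1 hcl
    have h5 := FlatBC2H8.isFlatOverAt_pullback hsq
      ((Scheme.Modules.pullback
        (pullback.fst f (Spec.map φ ≫ Y.fromSpecStalk (f.base x)))).obj F) x'' h4
    exact DescH8.isFlatOverAt_of_iso _
      ((Scheme.Modules.pullbackComp _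
        (pullback.fst f (Spec.map φ ≫ Y.fromSpecStalk (f.base x)))).app F ≪≫
        (Scheme.Modules.pullbackCongr hfst).app F) x'' h5

end Groth.Agent.Lib.Flatif
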