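import Mathlib
import Groth.Prelude
import Groth.Agent.Lib.Flatif4_lead
import Groth.Agent.Lib.Desc5_helper8

set_option autoImplicit false
set_option backward.isDefEq.respectTransparency false
set_option linter.unusedSimpArgs false
set_option linter.unusedVariables false
set_option linter.unusedSectionVars false
set_option linter.style.longLine false
set_option linter.style.haveILetI false
set_option linter.unnecessarySimpa false
set_option maxHeartbeats 1600000

/-!
# Flatness over an Artinian base tested on a family of schemes over the base (S5918)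
-/

namespace Groth.Agent.Lib.Flatif

open CategoryTheory CategoryTheory.Limits AlgebraicGeometry TopologicalSpace Opposite IsLocalRing

universe u

lemma germ_eq_zero_of_preimage {A : Type u} [CommRing A] {Y : Scheme.{u}}
    (g : Y ⟶ Spec (CommRingCat.of A)) (y : Y) (a : A)
    (h : (Spec.preimage (Y.fromSpecStalk y ≫ g)).hom a = 0) :
    (Y.presheaf.germ ⊤ y trivial).hom
      (g.appTop.hom ((Scheme.ΓSpecIso (CommRingCat.of A)).inv.hom a)) = 0 := by
  set c := (Scheme.ΓSpecIso (CommRingCat.of A)).inv.hom a with hc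
  have hca : (Scheme.ΓSpecIso (CommRingCat.of A)).hom.hom c = a :=
    (Scheme.ΓSpecIso (CommRingCat.of A)).commRingCatIsoToRingEquiv.apply_symm_apply a
  have hnat := Scheme.ΓSpecIso_naturality (Spec.preimage (Y.fromSpecStalk y ≫ g))
  rw [Spec.map_preimage, Scheme.Hom.comp_appTop] at hnat
  have h1 := congrArg (fun ψ => ψ.hom c) hnat
  simp only [CommRingCat.hom_comp, RingHom.comp_apply] at h1
  rw [hca, h, ] at h1
  have hinj1 : Function.Injective (Scheme.ΓSpecIso (Y.presheaf.stalk y)).hom.hom :=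
    (Scheme.ΓSpecIso (Y.presheaf.stalk y)).commRingCatIsoToRingEquiv.injective
  have h2 : (Y.fromSpecStalk y).appTop.hom (g.appTop.hom c) = 0 :=
    hinj1 (h1.trans (map_zero _).symm)
  rw [Scheme.fromSpecStalk_appTop] at h2
  simp only [CommRingCat.hom_comp, RingHom.comp_apply] at h2
  -- injectivity of the restriction map between equal opens
  have h3 : (⊤ : (Spec (Y.presheaf.stalk y)).Opens) ≤ (Y.fromSpecStalk y) ⁻¹ᵁ ⊤ :=
    fun _ _ => trivial
  have hcomp : (Spec (Y.presheaf.stalk y)).presheaf.map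
      (homOfLE (le_top : (Y.fromSpecStalk y) ⁻¹ᵁ ⊤ ≤ ⊤)).op ≫
      (Spec (Y.presheaf.stalk y)).presheaf.map (homOfLE h3).op = 𝟙 _ := by
    rw [← CategoryTheory.Functor.map_comp, ← op_comp]
    have : homOfLE h3 ≫ homOfLE (le_top : (Y.fromSpecStalk y) ⁻¹ᵁ ⊤ ≤ ⊤) = 𝟙 _ :=
      Subsingleton.elim _ _
    rw [this, op_id, CategoryTheory.Functor.map_id]
  have h4 := congrArg (fun z => ((Spec (Y.presheaf.stalk y)).presheaf.map (homOfLE h3).op).hom z) h2
  simp only [map_zero] at h4
  have h5 := congrArg (fun ψ => ψ.hom ((Scheme.ΓSpecIso (Y.presheaf.stalk y)).inv.hom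
    ((Y.presheaf.germ ⊤ y trivial).hom (g.appTop.hom c)))) hcomp
  simp only [CommRingCat.hom_comp, RingHom.comp_apply, CommRingCat.hom_id, RingHom.id_apply] at h5
  have h6 : (Scheme.ΓSpecIso (Y.presheaf.stalk y)).inv.hom
      ((Y.presheaf.germ ⊤ y trivial).hom (g.appTop.hom c)) = 0 := h5.symm.trans h4
  have hinj2 : Function.Injective (Scheme.ΓSpecIso (Y.presheaf.stalk y)).inv.hom :=
    (Scheme.ΓSpecIso (Y.presheaf.stalk y)).commRingCatIsoToRingEquiv.symm.injective
  exact hinj2 (h6.trans (map_zero _).symm)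

/-- **S5918.** -/
theorem main5918 {A : Type u} [CommRing A] [IsArtinianRing A] [IsLocalRing A] {X : Scheme.{u}}
    (f : X ⟶ Spec (CommRingCat.of A)) [LocallyOfFiniteType f] (F : X.Modules)
    (hF : Coh.IsCoh F) (x : X)
    {ι : Type u} (Y : ι → Scheme.{u}) (g : ∀ i, Y i ⟶ Spec (CommRingCat.of A))
    (hg : ∀ a : A,
      (∀ i, (g i).appTop ((Scheme.ΓSpecIso (CommRingCat.of A)).inv a) = 0) → a = 0)
    (hflat : ∀ (i : ι) (x' : ↥(pullback f (g i))), pullback.fst f (g i) x' = x →
      FlatMod.IsFlatOverAt (pullback.snd f (g i))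
        ((Scheme.Modules.pullback (pullback.fst f (g i))).obj F) x') :
    FlatMod.IsFlatOverAt f F x := by
  haveI : F.IsQuasicoherent := hF.1
  let φ : ∀ iy : (Σ i, Y i), CommRingCat.of A ⟶ (Y iy.1).presheaf.stalk iy.2 :=
    fun iy => Spec.preimage ((Y iy.1).fromSpecStalk iy.2 ≫ g iy.1)
  have hφ : ∀ iy, Spec.map (φ iy) = (Y iy.1).fromSpecStalk iy.2 ≫ g iy.1 :=
    fun iy => Spec.map_preimage _
  refine main_general f F hF x (ι := Σ i, Y i)
    (fun iy => ((Y iy.1).presheaf.stalk iy.2 : Type u))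
    (fun iy => (φ iy).hom) ?_
    (fun iy => pullback (pullback.snd f (g iy.1)) ((Y iy.1).fromSpecStalk iy.2))
    (fun iy => pullback.fst (pullback.snd f (g iy.1)) ((Y iy.1).fromSpecStalk iy.2) ≫
      pullback.fst f (g iy.1))
    (fun iy => pullback.snd (pullback.snd f (g iy.1)) ((Y iy.1).fromSpecStalk iy.2)) ?_ ?_
  · intro a ha
    apply hg a
    intro i
    apply TopCat.Presheaf.section_ext (Y i).sheaf ⊤
    intro y hy
    rw [map_zero]
    exact germ_eq_zero_of_preimage (g i) y a (ha ⟨i, y⟩)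
  · intro iy
    have h1 := (IsPullback.of_hasPullback (pullback.snd f (g iy.1))
      ((Y iy.1).fromSpecStalk iy.2)).paste_horiz (IsPullback.of_hasPullback f (g iy.1))
    rw [← hφ iy] at h1
    exact h1
  · intro iy x' hx'x hx'cl
    have hz : pullback.fst f (g iy.1)
        (pullback.fst (pullback.snd f (g iy.1)) ((Y iy.1).fromSpecStalk iy.2) x') = x := by
      rw [← Scheme.Hom.comp_apply]
      exact hx'x
    have h1 := hflat iy.1 _ hz
    have h2 := FlatBC2H8.isFlatOverAt_pullback
      (IsPullback.of_hasPullback (pullback.snd f (g iy.1)) ((Y iy.1).fromSpecStalk iy.2))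
      ((Scheme.Modules.pullback (pullback.fst f (g iy.1))).obj F) x' h1
    exact DescH8.isFlatOverAt_of_iso _
      ((Scheme.Modules.pullbackComp
        (pullback.fst (pullback.snd f (g iy.1)) ((Y iy.1).fromSpecStalk iy.2))
        (pullback.fst f (g iy.1))).app F) x' h2

end Groth.Agent.Lib.Flatif
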