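import Mathlib
import Groth.Agent.Lib.Flattening1_helper3
import Groth.Agent.Lib.LocalCrit13_helper9

/-!
# Flattening ideals over complete local rings (helper3)

* `localCrit`: local criterion of flatness for `(R/J) ⊗ X`, `X` a finite module over a Noetherian
  `R`-algebra `B` with `𝔪B` in the radical;
* `closure_step`: an antitone sequence of open ideals `𝔞ₙ ⊇ 𝔪ⁿ` with `𝔞ₙ ≤ 𝔞ₙ₊₁ + 𝔪ⁿ` satisfies
  `𝔞ₙ = ⋂ 𝔞ⱼ + 𝔪ⁿ` in a complete ring;
* `exists_smallest`: the smallest flattening ideal for a family of modules satisfying the local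
  criterion over a complete Noetherian local ring.
-/

set_option autoImplicit false
universe u

namespace Groth.Agent.Lib.FlatteningH3

open TensorProduct IsLocalRing

section Finite

theorem finite_tensor (R B X P : Type*) [CommRing R] [CommRing B] [Algebra R B] [AddCommGroup X]
    [Module B X] [Module R X] [IsScalarTower R B X] [AddCommGroup P] [Module R P]
    [Module.Finite B X] [Module.Finite R P] : Module.Finite B (X ⊗[R] P) := by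
  obtain ⟨n, f, hf⟩ := Module.Finite.exists_fin' R P
  let g : (Fin n → X) →ₗ[B] X ⊗[R] P :=
    (AlgebraTensorModule.lTensor B X f) ∘ₗ (TensorProduct.piScalarRight R B X (Fin n)).symm.toLinearMap
  refine Module.Finite.of_surjective g ?_
  intro z
  obtain ⟨w, rfl⟩ := LinearMap.lTensor_surjective X hf z
  refine ⟨TensorProduct.piScalarRight R B X (Fin n) w, ?_⟩
  show (AlgebraTensorModule.lTensor B X f) ((TensorProduct.piScalarRight R B X (Fin n)).symm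
    (TensorProduct.piScalarRight R B X (Fin n) w)) = _
  rw [LinearEquiv.symm_apply_apply]
  rfl

end Finite

section Krull

theorem mem_of_forall_mem_sup_pow {B : Type*} [CommRing B] [IsNoetherianRing B] (J : Ideal B)
    (hJ : J ≤ Ideal.jacobson ⊥) (K : Ideal B) (x : B) (h : ∀ N : ℕ, x ∈ K ⊔ J ^ N) : x ∈ K := by
  have hkrull : (⨅ i : ℕ, J ^ i • ⊤ : Submodule B (B ⧸ K)) = ⊥ :=
    Ideal.iInf_pow_smul_eq_bot_of_le_jacobson _ hJ
  have hmem : (Submodule.Quotient.mk x : B ⧸ K) ∈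
      (⨅ i : ℕ, J ^ i • ⊤ : Submodule B (B ⧸ K)) := by
    rw [Submodule.mem_iInf]
    intro N
    obtain ⟨a, ha, j, hj, rfl⟩ := Submodule.mem_sup.mp (h N)
    have h1 : (Submodule.Quotient.mk (a + j) : B ⧸ K) =
        j • (Submodule.Quotient.mk 1 : B ⧸ K) := by
      rw [← Submodule.Quotient.mk_smul, smul_eq_mul, mul_one, Submodule.Quotient.mk_add]
      have h2 : (Submodule.Quotient.mk a : B ⧸ K) = 0 := (Submodule.Quotient.mk_eq_zero _).mpr ha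
      rw [h2, zero_add]
    rw [h1]
    exact Submodule.smul_mem_smul hj Submodule.mem_top
  rw [hkrull, Submodule.mem_bot, Submodule.Quotient.mk_eq_zero] at hmem
  exact hmem

end Krull

section LocalCrit

variable {R B : Type u} [CommRing R] [IsNoetherianRing R] [CommRing B] [IsNoetherianRing B]
  [Algebra R B] (𝔪 : Ideal R) (h𝔪 : 𝔪.map (algebraMap R B) ≤ Ideal.jacobson ⊥)
  (X : Type u) [AddCommGroup X] [Module B X] [Module R X] [IsScalarTower R B X]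
  [Module.Finite B X] (J : Ideal R)

include h𝔪 in
theorem hausdorff_tensor (𝔞 : Ideal (R ⧸ J)) :
    IsHausdorff (𝔪.map (Ideal.Quotient.mk J)) (↥𝔞 ⊗[R ⧸ J] ((R ⧸ J) ⊗[R] X)) := by
  haveI : Module.Finite R (R ⧸ J) := Module.Finite.of_surjective (Algebra.linearMap R (R ⧸ J))
    Ideal.Quotient.mk_surjective
  haveI : Module.Finite (R ⧸ J) 𝔞 := Module.IsNoetherian.finite _ _
  haveI : Module.Finite R 𝔞 := Module.Finite.trans (R ⧸ J) 𝔞
  haveI : Module.Finite B (X ⊗[R] 𝔞) := finite_tensor R B X 𝔞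
  have hkrull : (⨅ i : ℕ, (𝔪.map (algebraMap R B)) ^ i • ⊤ : Submodule B (X ⊗[R] 𝔞)) = ⊥ :=
    Ideal.iInf_pow_smul_eq_bot_of_le_jacobson _ h𝔪
  let e₁ : ↥𝔞 ⊗[R ⧸ J] ((R ⧸ J) ⊗[R] X) ≃ₗ[R ⧸ J] ↥𝔞 ⊗[R] X :=
    AlgebraTensorModule.cancelBaseChange R (R ⧸ J) (R ⧸ J) 𝔞 X
  let φ : ↥𝔞 ⊗[R ⧸ J] ((R ⧸ J) ⊗[R] X) →ₗ[R] X ⊗[R] 𝔞 :=
    (TensorProduct.comm R 𝔞 X).toLinearMap ∘ₗ (e₁.restrictScalars R).toLinearMap
  have hφinj : Function.Injective φ := by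
    intro a b hab
    have := (TensorProduct.comm R 𝔞 X).injective hab
    exact e₁.injective this
  have key : ∀ (n : ℕ) (x : ↥𝔞 ⊗[R ⧸ J] ((R ⧸ J) ⊗[R] X)),
      x ∈ ((𝔪.map (Ideal.Quotient.mk J)) ^ n • ⊤ :
        Submodule (R ⧸ J) (↥𝔞 ⊗[R ⧸ J] ((R ⧸ J) ⊗[R] X))) →
      φ x ∈ ((𝔪.map (algebraMap R B)) ^ n • ⊤ : Submodule B (X ⊗[R] 𝔞)) := by
    intro n x hx
    refine Submodule.smul_induction_on hx ?_ ?_
    · intro i hi y _
      rw [← Ideal.map_pow] at hi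
      obtain ⟨r, hr, rfl⟩ := (Ideal.mem_map_iff_of_surjective _ Ideal.Quotient.mk_surjective).1 hi
      have h1 : (Ideal.Quotient.mk J r) • y = r • y := by
        rw [← Ideal.Quotient.algebraMap_eq, algebraMap_smul]
      rw [h1, map_smul, ← algebraMap_smul B r (φ y), ← Ideal.map_pow]
      exact Submodule.smul_mem_smul (Ideal.mem_map_of_mem _ hr) Submodule.mem_top
    · intro a b ha hb
      rw [map_add]
      exact add_mem ha hb
  refine ⟨fun x hx => ?_⟩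
  apply hφinj
  rw [map_zero]
  have hmem : φ x ∈ (⨅ i : ℕ, (𝔪.map (algebraMap R B)) ^ i • ⊤ : Submodule B (X ⊗[R] 𝔞)) := by
    rw [Submodule.mem_iInf]
    intro n
    exact key n x (SModEq.zero.1 (hx n))
  rw [hkrull, Submodule.mem_bot] at hmem
  exact hmem

include h𝔪 in
/-- local criterion for the base change to `R/J` -/
theorem localCrit
    (h : ∀ n : ℕ, Module.Flat (R ⧸ (J ⊔ 𝔪 ^ n)) ((R ⧸ (J ⊔ 𝔪 ^ n)) ⊗[R] X)) :
    Module.Flat (R ⧸ J) ((R ⧸ J) ⊗[R] X) := by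
  refine Groth.Agent.Lib.LocalCrit13.flat_of_forall_flat_quot_pow_of_hausdorff
    (A := R ⧸ J) (𝔪.map (Ideal.Quotient.mk J)) ((R ⧸ J) ⊗[R] X)
    (fun 𝔞 => hausdorff_tensor 𝔪 h𝔪 X J 𝔞) (fun n => ?_)
  obtain ⟨I, hI⟩ : ∃ I : Ideal (R ⧸ J), I = (𝔪.map (Ideal.Quotient.mk J)) ^ (n + 1) := ⟨_, rfl⟩
  rw [← hI]
  have hle : J ⊔ 𝔪 ^ (n + 1) ≤ RingHom.ker (algebraMap R ((R ⧸ J) ⧸ I)) := by
    refine sup_le ?_ ?_
    · intro a ha
      rw [RingHom.mem_ker, IsScalarTower.algebraMap_apply R (R ⧸ J) ((R ⧸ J) ⧸ I),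
        Ideal.Quotient.algebraMap_eq, Ideal.Quotient.algebraMap_eq,
        Ideal.Quotient.eq_zero_iff_mem.2 ha, map_zero]
    · intro a ha
      rw [RingHom.mem_ker, IsScalarTower.algebraMap_apply R (R ⧸ J) ((R ⧸ J) ⧸ I),
        Ideal.Quotient.algebraMap_eq, Ideal.Quotient.algebraMap_eq,
        Ideal.Quotient.eq_zero_iff_mem, hI, ← Ideal.map_pow]
      exact Ideal.mem_map_of_mem _ ha
  haveI := h (n + 1)
  haveI : Module.Flat ((R ⧸ J) ⧸ I) (((R ⧸ J) ⧸ I) ⊗[R] X) :=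
    flat_of_le_ker X (J ⊔ 𝔪 ^ (n + 1)) ((R ⧸ J) ⧸ I) hle
  exact Module.Flat.of_linearEquiv
    (AlgebraTensorModule.cancelBaseChange R (R ⧸ J) ((R ⧸ J) ⧸ I) ((R ⧸ J) ⧸ I) X)

end LocalCrit

section Closure

variable {R : Type u} [CommRing R] (𝔪 : Ideal R) [IsPrecomplete 𝔪 R]

/-- In a complete ring, an antitone sequence of ideals `𝔞ₙ ⊇ 𝔪ⁿ` with `𝔞ₙ ≤ 𝔞ₙ₊₁ + 𝔪ⁿ` satisfies
`𝔞ₙ ≤ ⋂ⱼ 𝔞ⱼ + 𝔪ⁿ`. -/
theorem closure_step (𝔞 : ℕ → Ideal R) (hanti : Antitone 𝔞) (hpow : ∀ n, 𝔪 ^ n ≤ 𝔞 n)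
    (hstep : ∀ n, 𝔞 n ≤ 𝔞 (n + 1) ⊔ 𝔪 ^ n) (n : ℕ) : 𝔞 n ≤ (⨅ j, 𝔞 j) ⊔ 𝔪 ^ n := by
  intro x hx
  -- build the sequence
  have hex : ∀ (k : ℕ) (y : 𝔞 (n + k)), ∃ y' : 𝔞 (n + (k + 1)), (y : R) - y' ∈ 𝔪 ^ (n + k) := by
    intro k y
    obtain ⟨a, ha, b, hb, hab⟩ := Submodule.mem_sup.1 (hstep (n + k) y.2)
    exact ⟨⟨a, ha⟩, by rw [← hab]; simpa using hb⟩
  choose nxt hnxt using hex
  let s : (k : ℕ) → 𝔞 (n + k) := fun k =>
    @Nat.rec (fun k => 𝔞 (n + k)) (⟨x, hx⟩ : 𝔞 (n + 0)) (fun k y => nxt k y) k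
  have hs0 : ((s 0 : 𝔞 (n + 0)) : R) = x := rfl
  have hsucc : ∀ k, (s k : R) - s (k + 1) ∈ 𝔪 ^ (n + k) := fun k => hnxt k (s k)
  have hdiff : ∀ a b : ℕ, a ≤ b → (s a : R) - s b ∈ 𝔪 ^ (n + a) := by
    intro a b hab
    induction b, hab using Nat.le_induction with
    | base => rw [sub_self]; exact Ideal.zero_mem _
    | succ b hab ih =>
      have : (s a : R) - s (b + 1) = ((s a : R) - s b) + ((s b : R) - s (b + 1)) := by ring
      rw [this]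
      exact Ideal.add_mem _ ih (Ideal.pow_le_pow_right (by omega) (hsucc b))
  obtain ⟨L, hL⟩ := IsPrecomplete.prec (I := 𝔪) (M := R) (inferInstance) (f := fun k => (s k : R))
    (fun {a b} hab => by
      rw [SModEq.sub_mem, smul_eq_mul, Ideal.mul_top]
      exact Ideal.pow_le_pow_right (Nat.le_add_left a n) (hdiff a b hab))
  have hL' : ∀ k, (s k : R) - L ∈ 𝔪 ^ k := fun k => by
    have := hL k
    rw [SModEq.sub_mem, smul_eq_mul, Ideal.mul_top] at this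
    exact this
  have hLmem : L ∈ ⨅ j, 𝔞 j := by
    rw [Ideal.mem_iInf]
    intro j
    have h1 : (s j : R) ∈ 𝔞 j := hanti (Nat.le_add_left j n) (s j).2
    have h2 : (s j : R) - L ∈ 𝔞 j := hpow j (hL' j)
    have : L = (s j : R) - ((s j : R) - L) := by ring
    rw [this]
    exact Ideal.sub_mem _ h1 h2
  have hxL : x - L ∈ 𝔪 ^ n := by
    have h1 : (s 0 : R) - s n ∈ 𝔪 ^ (n + 0) := hdiff 0 n (Nat.zero_le n)
    have h2 := hL' n
    have : x - L = ((s 0 : R) - s n) + ((s n : R) - L) := by rw [hs0]; ring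
    rw [this]
    exact Ideal.add_mem _ h1 h2
  have : x = L + (x - L) := by ring
  rw [this]
  exact Ideal.add_mem _ (Ideal.mem_sup_left hLmem) (Ideal.mem_sup_right hxL)

end Closure

section Assembly

variable (R : Type u) [CommRing R] [IsLocalRing R] [IsNoetherianRing R]
  [IsAdicComplete (maximalIdeal R) R]
  {ι : Type u} (𝓝 : ι → Type u) [∀ i, AddCommGroup (𝓝 i)] [∀ i, Module R (𝓝 i)]

/-- the flattening ideal of a family modulo `𝔪ⁿ` -/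
noncomputable def famIdeal (n : ℕ) : Ideal R :=
  maximalIdeal R ^ n ⊔ ⨆ i, flatIdeal R (𝓝 i) n

theorem pow_le_famIdeal (n : ℕ) : maximalIdeal R ^ n ≤ famIdeal R 𝓝 n := le_sup_left

theorem forall_flat_iff (n : ℕ) (J : Ideal R) (hJ : maximalIdeal R ^ n ≤ J) :
    (∀ i, Module.Flat (R ⧸ J) ((R ⧸ J) ⊗[R] 𝓝 i)) ↔ famIdeal R 𝓝 n ≤ J := by
  rw [famIdeal, sup_le_iff, iSup_le_iff]
  constructor
  · intro h
    exact ⟨hJ, fun i => (flat_quot_iff R (𝓝 i) n J hJ).1 (h i)⟩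
  · intro h i
    exact (flat_quot_iff R (𝓝 i) n J hJ).2 (h.2 i)

theorem forall_flat_mono {J J' : Ideal R} (hJJ' : J ≤ J')
    (h : ∀ i, Module.Flat (R ⧸ J) ((R ⧸ J) ⊗[R] 𝓝 i)) :
    ∀ i, Module.Flat (R ⧸ J') ((R ⧸ J') ⊗[R] 𝓝 i) := by
  intro i
  haveI := h i
  refine flat_of_le_ker (𝓝 i) J (R ⧸ J') ?_
  rw [Ideal.Quotient.algebraMap_eq, Ideal.mk_ker]
  exact hJJ'

theorem famIdeal_antitone : Antitone (famIdeal R 𝓝) := by
  refine antitone_nat_of_succ_le fun n => ?_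
  have h1 : ∀ i, Module.Flat (R ⧸ famIdeal R 𝓝 n) ((R ⧸ famIdeal R 𝓝 n) ⊗[R] 𝓝 i) :=
    (forall_flat_iff R 𝓝 n _ (pow_le_famIdeal R 𝓝 n)).2 le_rfl
  exact (forall_flat_iff R 𝓝 (n + 1) _
    ((Ideal.pow_le_pow_right (Nat.le_succ n)).trans (pow_le_famIdeal R 𝓝 n))).1 h1

theorem famIdeal_step (n : ℕ) :
    famIdeal R 𝓝 n ≤ famIdeal R 𝓝 (n + 1) ⊔ maximalIdeal R ^ n := by
  have h1 : ∀ i, Module.Flat (R ⧸ famIdeal R 𝓝 (n + 1))
      ((R ⧸ famIdeal R 𝓝 (n + 1)) ⊗[R] 𝓝 i) :=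
    (forall_flat_iff R 𝓝 (n + 1) _ (pow_le_famIdeal R 𝓝 (n + 1))).2 le_rfl
  have h2 := forall_flat_mono R 𝓝 (le_sup_left : _ ≤ famIdeal R 𝓝 (n + 1) ⊔ maximalIdeal R ^ n) h1
  exact (forall_flat_iff R 𝓝 n _ le_sup_right).1 h2

/-- the smallest flattening ideal of a family satisfying the local criterion -/
theorem exists_smallest
    (hLC : ∀ J : Ideal R, J ≤ maximalIdeal R →
      (∀ n : ℕ, ∀ i, Module.Flat (R ⧸ (J ⊔ maximalIdeal R ^ n))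
        ((R ⧸ (J ⊔ maximalIdeal R ^ n)) ⊗[R] 𝓝 i)) →
      ∀ i, Module.Flat (R ⧸ J) ((R ⧸ J) ⊗[R] 𝓝 i)) :
    ∃ I : Ideal R, I ≤ maximalIdeal R ∧ (∀ i, Module.Flat (R ⧸ I) ((R ⧸ I) ⊗[R] 𝓝 i)) ∧
      ∀ J : Ideal R, (∀ i, Module.Flat (R ⧸ J) ((R ⧸ J) ⊗[R] 𝓝 i)) → I ≤ J := by
  have hjac : maximalIdeal R ≤ Ideal.jacobson ⊥ := by
    rw [IsLocalRing.jacobson_eq_maximalIdeal ⊥ bot_ne_top]
  have hfam : ∀ n, famIdeal R 𝓝 n = (⨅ j, famIdeal R 𝓝 j) ⊔ maximalIdeal R ^ n := by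
    intro n
    refine le_antisymm ?_ (sup_le (iInf_le _ n) (pow_le_famIdeal R 𝓝 n))
    exact closure_step (maximalIdeal R) (famIdeal R 𝓝) (famIdeal_antitone R 𝓝)
      (pow_le_famIdeal R 𝓝) (famIdeal_step R 𝓝) n
  have hIm : (⨅ j, famIdeal R 𝓝 j) ≤ maximalIdeal R := by
    refine (iInf_le _ 1).trans ?_
    refine (forall_flat_iff R 𝓝 1 (maximalIdeal R) (by rw [pow_one])).1 (fun i => ?_)
    letI : Field (R ⧸ maximalIdeal R) := Ideal.Quotient.field _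
    infer_instance
  refine ⟨⨅ j, famIdeal R 𝓝 j, hIm, ?_, ?_⟩
  · refine hLC _ hIm (fun n => ?_)
    rw [← hfam n]
    exact (forall_flat_iff R 𝓝 n _ (pow_le_famIdeal R 𝓝 n)).2 le_rfl
  · intro J hJ
    intro x hx
    refine mem_of_forall_mem_sup_pow (maximalIdeal R) hjac J x (fun n => ?_)
    have h2 := forall_flat_mono R 𝓝 (le_sup_left : J ≤ J ⊔ maximalIdeal R ^ n) hJ
    have h3 := (forall_flat_iff R 𝓝 n _ le_sup_right).1 h2
    have h4 : (⨅ j, famIdeal R 𝓝 j) ≤ famIdeal R 𝓝 n := iInf_le _ n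
    exact h3 (h4 hx)

end Assembly

end Groth.Agent.Lib.FlatteningH3
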