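import Mathlib
import Groth.Agent.Lib.Flattening2_helper3

/-!
# The smallest flattening ideal over a complete Noetherian local ring (helper3)
-/

set_option autoImplicit false
universe u

namespace Groth.Agent.Lib.FlatteningH3

open TensorProduct IsLocalRing

section Main

variable (R S : Type u) [CommRing R] [IsLocalRing R] [IsNoetherianRing R]
  [CommRing S] [Algebra R S] [IsNoetherianRing S]
  (M : Type u) [AddCommGroup M] [Module S M] [Module R M] [IsScalarTower R S M]
  [Module.Finite S M]

theorem map_maximalIdeal_le_jacobson (q : Ideal S) [q.IsPrime]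
    (hq : q.comap (algebraMap R S) = maximalIdeal R) :
    (maximalIdeal R).map (algebraMap R (Localization.AtPrime q)) ≤ Ideal.jacobson ⊥ := by
  rw [IsLocalRing.jacobson_eq_maximalIdeal ⊥ bot_ne_top, Ideal.map_le_iff_le_comap]
  intro r hr
  rw [Ideal.mem_comap, IsScalarTower.algebraMap_apply R S (Localization.AtPrime q),
    IsLocalization.AtPrime.to_map_mem_maximal_iff (Localization.AtPrime q) q]
  rw [← hq] at hr
  exact hr

theorem localCrit_prime (q : Ideal S) [q.IsPrime]
    (hq : q.comap (algebraMap R S) = maximalIdeal R) (J : Ideal R)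
    (h : ∀ n : ℕ, Module.Flat (R ⧸ (J ⊔ maximalIdeal R ^ n))
      ((R ⧸ (J ⊔ maximalIdeal R ^ n)) ⊗[R] LocalizedModule q.primeCompl M)) :
    Module.Flat (R ⧸ J) ((R ⧸ J) ⊗[R] LocalizedModule q.primeCompl M) :=
  localCrit (B := Localization.AtPrime q) (maximalIdeal R)
    (map_maximalIdeal_le_jacobson R S q hq) (LocalizedModule q.primeCompl M) J h

variable [IsAdicComplete (maximalIdeal R) R]

theorem main6925 :
    ∃ I : Ideal R, I ≤ maximalIdeal R ∧
      (∀ (q : Ideal S) [q.IsPrime], q.comap (algebraMap R S) = maximalIdeal R →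
        Module.Flat (R ⧸ I) ((R ⧸ I) ⊗[R] LocalizedModule q.primeCompl M)) ∧
      ∀ J : Ideal R, (∀ (q : Ideal S) [q.IsPrime],
        q.comap (algebraMap R S) = maximalIdeal R →
        Module.Flat (R ⧸ J) ((R ⧸ J) ⊗[R] LocalizedModule q.primeCompl M)) → I ≤ J := by
  obtain ⟨I, hIm, hI, hmin⟩ := exists_smallest R
    (ι := {q : Ideal S // q.IsPrime ∧ q.comap (algebraMap R S) = maximalIdeal R})
    (fun q => LocalizedModule (@Ideal.primeCompl S _ q.1 q.2.1) M)
    (fun J _ h i => by
      haveI := i.2.1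
      exact localCrit_prime R S M i.1 i.2.2 J (fun n => h n i))
  refine ⟨I, hIm, fun q _ hq => hI ⟨q, ‹_›, hq⟩, fun J hJ => hmin J (fun i => ?_)⟩
  haveI := i.2.1
  exact hJ i.1 i.2.2

end Main

end Groth.Agent.Lib.FlatteningH3
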