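import Mathlib

/-!
# Étale schemes over a normal integral scheme with separably closed function field (helper4)

Over an integral normal scheme whose function field is separably closed, every étale morphism is
locally on the source an open immersion; a separated étale scheme is a disjoint union of opens.
-/

open AlgebraicGeometry CategoryTheory Limits Polynomial

universe u

set_option linter.style.haveILetI false

namespace Groth.Agent.Lib.NormSepClH4

section Ring

variable {A : Type u} [CommRing A]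

/-- Over an integrally closed domain with separably closed fraction field, at every prime of a
standard étale algebra `(A[X]/f)[1/g]` the polynomial `f` has a root `a ∈ A` with
`(f / (X - a))(x)` invertible at that prime. -/
theorem exists_root_of_standardEtale [IsDomain A] [IsIntegrallyClosed A] (K : Type u) [Field K]
    [Algebra A K] [IsFractionRing A K] [IsSepClosed K]
    (P : StandardEtalePair A) (q : Ideal P.Ring) [q.IsPrime] :
    ∃ (a : A) (Q : A[X]), P.f = (X - C a) * Q ∧ aeval P.X Q ∉ q := by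
  classical
  haveI : Module.Flat A P.Ring := inferInstance
  haveI : (⊥ : Ideal A).IsPrime := Ideal.bot_prime
  obtain ⟨q₀, hq₀le, hq₀p, hq₀o⟩ :=
    Ideal.exists_ideal_le_liesOver_of_le (p := (⊥ : Ideal A)) (q := q.under A) q bot_le
  haveI := hq₀p
  have hq₀bot : q₀.under A = ⊥ := hq₀o.over.symm
  let φ : P.Ring →ₐ[A] FractionRing (P.Ring ⧸ q₀) :=
    (IsScalarTower.toAlgHom A (P.Ring ⧸ q₀) (FractionRing (P.Ring ⧸ q₀))).comp
      (Ideal.Quotient.mkₐ A q₀)
  have hφker : ∀ b : P.Ring, φ b = 0 ↔ b ∈ q₀ := by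
    intro b
    change algebraMap (P.Ring ⧸ q₀) (FractionRing (P.Ring ⧸ q₀)) (Ideal.Quotient.mk q₀ b) = 0 ↔ _
    rw [map_eq_zero_iff _ (IsFractionRing.injective (P.Ring ⧸ q₀) (FractionRing (P.Ring ⧸ q₀))),
      Ideal.Quotient.eq_zero_iff_mem]
  have hinj : Function.Injective (algebraMap A (FractionRing (P.Ring ⧸ q₀))) := by
    rw [injective_iff_map_eq_zero]
    intro r hr
    have h1 : φ (algebraMap A P.Ring r) = 0 := by rw [AlgHom.commutes]; exact hr
    have h2 : r ∈ q₀.under A := (hφker _).mp h1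
    rw [hq₀bot] at h2
    exact h2
  letI algKL : Algebra K (FractionRing (P.Ring ⧸ q₀)) := (IsFractionRing.lift hinj).toAlgebra
  haveI : IsScalarTower A K (FractionRing (P.Ring ⧸ q₀)) :=
    IsScalarTower.of_algebraMap_eq fun r => (IsFractionRing.lift_algebraMap hinj r).symm
  set xb : FractionRing (P.Ring ⧸ q₀) := φ P.X with hxb
  have hmapL : P.HasMap xb := P.hasMap_X.map φ
  have h0 : aeval xb (P.f.map (algebraMap A K)) = 0 := by
    rw [aeval_map_algebraMap]; exact hmapL.1
  have hd0 : aeval xb (derivative (P.f.map (algebraMap A K))) ≠ 0 := by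
    rw [derivative_map, aeval_map_algebraMap]
    exact hmapL.isUnit_derivative_f.ne_zero
  have hint : IsIntegral K xb := ⟨P.f.map (algebraMap A K), P.monic_f.map _, h0⟩
  obtain ⟨r, hr⟩ := minpoly.dvd K xb h0
  have hdm : derivative (minpoly K xb) ≠ 0 := by
    intro hz
    apply hd0
    rw [hr, derivative_mul, hz, zero_mul, zero_add, map_mul, minpoly.aeval, zero_mul]
  have hirr := minpoly.irreducible hint
  have hsep : (minpoly K xb).Separable := (separable_iff_derivative_ne_zero hirr).mpr hdm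
  have hdeg : (minpoly K xb).degree = 1 :=
    IsSepClosed.degree_eq_one_of_irreducible K hirr hsep
  obtain ⟨α, hα⟩ := minpoly.mem_range_of_degree_eq_one K xb hdeg
  have hfα : eval α (P.f.map (algebraMap A K)) = 0 := by
    apply (algebraMap K (FractionRing (P.Ring ⧸ q₀))).injective
    rw [map_zero, ← aeval_algebraMap_apply_eq_algebraMap_eval, hα]
    exact h0
  have hαint : IsIntegral A α := ⟨P.f, P.monic_f, by rw [← Polynomial.eval_map]; exact hfα⟩
  obtain ⟨a, ha⟩ := IsIntegrallyClosed.isIntegral_iff.mp hαint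
  have hroot : IsRoot P.f a := by
    rw [IsRoot.def]
    apply IsFractionRing.injective A K
    rw [map_zero, ← eval₂_at_apply, ha, ← Polynomial.eval_map]
    exact hfα
  obtain ⟨Q, hQ⟩ : ∃ Q, P.f = (X - C a) * Q :=
    ⟨_, (mul_divByMonic_eq_iff_isRoot.mpr hroot).symm⟩
  refine ⟨a, Q, hQ, ?_⟩
  have hxa : P.X - algebraMap A P.Ring a ∈ q₀ := by
    rw [← hφker, map_sub, AlgHom.commutes, ← hxb, ← hα, ← ha, ← IsScalarTower.algebraMap_apply,
      sub_self]
  intro hmem
  have hder : aeval P.X (derivative P.f) =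
      aeval P.X Q + (P.X - algebraMap A P.Ring a) * aeval P.X (derivative Q) := by
    rw [hQ, derivative_mul, derivative_sub, derivative_X, derivative_C, sub_zero, one_mul,
      map_add, map_mul, map_sub, aeval_X, aeval_C]
  have hu : IsUnit (aeval P.X (derivative P.f)) := P.hasMap_X.isUnit_derivative_f
  have hmem' : aeval P.X (derivative P.f) ∈ q := by
    rw [hder]
    exact q.add_mem hmem (q.mul_mem_right _ (hq₀le hxa))
  exact ‹q.IsPrime›.ne_top (Ideal.eq_top_of_isUnit_mem _ hmem' hu)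

/-- If `f = (X - a) Q` then `A → P.Ring[1/Q(x)]` is an epimorphism of rings. -/
theorem ringHom_ext_away_of_root (P : StandardEtalePair A) (a : A) (Q : A[X])
    (hQ : P.f = (X - C a) * Q) (w : P.Ring) (hw : w = aeval P.X Q) {C' : Type u} [CommRing C']
    (φ₁ φ₂ : Localization.Away w →+* C')
    (h : φ₁.comp (algebraMap A _) = φ₂.comp (algebraMap A _)) : φ₁ = φ₂ := by
  have h0 : (P.X - algebraMap A P.Ring a) * w = 0 := by
    have := P.hasMap_X.1
    rw [hQ, map_mul, map_sub, aeval_X, aeval_C] at this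
    rw [hw]
    exact this
  have key : algebraMap P.Ring (Localization.Away w) P.X =
      algebraMap A (Localization.Away w) a := by
    have h1 := congrArg (algebraMap P.Ring (Localization.Away w)) h0
    rw [map_mul, map_zero, map_sub] at h1
    have hu : IsUnit (algebraMap P.Ring (Localization.Away w) w) :=
      IsLocalization.Away.algebraMap_isUnit w
    have h2 := (hu.mul_left_eq_zero).mp h1
    rw [sub_eq_zero] at h2
    rw [h2, ← IsScalarTower.algebraMap_apply]
  letI : Algebra A C' := (φ₁.comp (algebraMap A (Localization.Away w))).toAlgebra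
  let ψ₁ : P.Ring →ₐ[A] C' :=
    { toRingHom := φ₁.comp (algebraMap P.Ring (Localization.Away w))
      commutes' := fun r => by
        change φ₁ (algebraMap P.Ring (Localization.Away w) (algebraMap A P.Ring r)) = _
        rw [← IsScalarTower.algebraMap_apply]
        rfl }
  let ψ₂ : P.Ring →ₐ[A] C' :=
    { toRingHom := φ₂.comp (algebraMap P.Ring (Localization.Away w))
      commutes' := fun r => by
        change φ₂ (algebraMap P.Ring (Localization.Away w) (algebraMap A P.Ring r)) = _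
        rw [← IsScalarTower.algebraMap_apply]
        exact (RingHom.congr_fun h r).symm }
  have hψ : ψ₁ = ψ₂ := by
    apply P.hom_ext
    change φ₁ (algebraMap P.Ring (Localization.Away w) P.X) =
      φ₂ (algebraMap P.Ring (Localization.Away w) P.X)
    rw [key]
    exact RingHom.congr_fun h a
  apply IsLocalization.ringHom_ext (Submonoid.powers w)
  exact congrArg (fun ψ : P.Ring →ₐ[A] C' => ψ.toRingHom) hψ

end Ring

section Scheme

variable {U X : Scheme.{u}}

/-- Sections over a nonempty affine open of an integral scheme with integrally closed stalks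
form an integrally closed domain. -/
theorem isIntegrallyClosed_of_stalks [IsIntegral X]
    (hN : ∀ x : X, IsIntegrallyClosed (X.presheaf.stalk x))
    {X₀ : X.Opens} (hX₀ : IsAffineOpen X₀) [Nonempty X₀] : IsIntegrallyClosed Γ(X, X₀) := by
  apply IsIntegrallyClosed.of_localization_maximal
  intro p _ hp
  let y : PrimeSpectrum Γ(X, X₀) := ⟨p, hp.isPrime⟩
  have hy : hX₀.fromSpec y ∈ X₀ := by
    have : hX₀.fromSpec y ∈ Set.range hX₀.fromSpec := ⟨y, rfl⟩
    rwa [hX₀.range_fromSpec] at this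
  letI := TopCat.Presheaf.algebra_section_stalk X.presheaf (⟨hX₀.fromSpec y, hy⟩ : ↥X₀)
  haveI : IsLocalization.AtPrime (X.presheaf.stalk (hX₀.fromSpec y)) p :=
    hX₀.isLocalization_stalk' y hy
  haveI := hN (hX₀.fromSpec y)
  exact IsIntegrallyClosed.of_equiv (IsLocalization.algEquiv p.primeCompl
    (X.presheaf.stalk (hX₀.fromSpec y)) (Localization.AtPrime p)).toRingEquiv

set_option maxHeartbeats 800000 in
/-- A standard étale chart of an étale morphism around a point. -/
theorem exists_standardEtale_chart (g : U ⟶ X) [Etale g] (u : U)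
    {X₀ : X.Opens} (hX₀ : IsAffineOpen X₀) (hu : g u ∈ X₀) :
    ∃ (P : StandardEtalePair Γ(X, X₀)) (c : Spec (CommRingCat.of P.Ring) ⟶ U),
      IsOpenImmersion c ∧
      c ≫ g = Spec.map (CommRingCat.ofHom (algebraMap Γ(X, X₀) P.Ring)) ≫ hX₀.fromSpec ∧
      u ∈ Set.range c := by
  obtain ⟨_, ⟨U₀, hU₀, rfl⟩, huU₀, e⟩ :=
    U.isBasis_affineOpens.exists_subset_of_mem_open
      (show u ∈ (g ⁻¹ᵁ X₀ : Set U) from hu) (g ⁻¹ᵁ X₀).2
  replace huU₀ : u ∈ U₀ := huU₀
  replace e : U₀ ≤ g ⁻¹ᵁ X₀ := e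
  let ψ : Γ(X, X₀) ⟶ Γ(U, U₀) := g.appLE X₀ U₀ e
  letI : Algebra Γ(X, X₀) Γ(U, U₀) := ψ.hom.toAlgebra
  have hψ : ψ.hom.Etale := g.etale_appLE hX₀ hU₀ e
  haveI : Algebra.Etale Γ(X, X₀) Γ(U, U₀) := RingHom.etale_algebraMap.mp hψ
  haveI : Algebra.FormallyEtale Γ(U, U₀)
      (Localization.AtPrime (hU₀.primeIdealOf ⟨u, huU₀⟩).asIdeal) :=
    Algebra.FormallyEtale.of_isLocalization (hU₀.primeIdealOf ⟨u, huU₀⟩).asIdeal.primeCompl
  haveI : Algebra.IsEtaleAt Γ(X, X₀) (hU₀.primeIdealOf ⟨u, huU₀⟩).asIdeal :=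
    Algebra.FormallyEtale.comp Γ(X, X₀) Γ(U, U₀) _
  obtain ⟨g₁, hgq, hg⟩ := Algebra.IsEtaleAt.exists_isStandardEtale (R := Γ(X, X₀))
    (hU₀.primeIdealOf ⟨u, huU₀⟩).asIdeal
  haveI := hg
  obtain ⟨Q⟩ := Algebra.IsStandardEtale.nonempty_standardEtalePresentation
    (R := Γ(X, X₀)) (S := Localization.Away g₁)
  let γD : Γ(U, U₀) ⟶ CommRingCat.of (Localization.Away g₁) :=
    CommRingCat.ofHom (algebraMap Γ(U, U₀) (Localization.Away g₁))
  let εD : CommRingCat.of (Localization.Away g₁) ≅ CommRingCat.of Q.P.Ring :=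
    Q.equivRing.toRingEquiv.toCommRingCatIso
  haveI : IsOpenImmersion (Spec.map γD) := inferInstance
  haveI : IsIso (Spec.map εD.hom) := inferInstance
  have hUw : Spec.map ψ ≫ hX₀.fromSpec = hU₀.fromSpec ≫ g :=
    IsAffineOpen.SpecMap_appLE_fromSpec g hX₀ hU₀ e
  have hcomp : ψ ≫ γD ≫ εD.hom = CommRingCat.ofHom (algebraMap Γ(X, X₀) Q.P.Ring) := by
    ext a
    change Q.equivRing (algebraMap Γ(U, U₀) (Localization.Away g₁)
      (algebraMap Γ(X, X₀) Γ(U, U₀) a)) = _
    rw [← IsScalarTower.algebraMap_apply, AlgEquiv.commutes]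
    rfl
  refine ⟨Q.P, Spec.map εD.hom ≫ Spec.map γD ≫ hU₀.fromSpec, inferInstance, ?_, ?_⟩
  · rw [Category.assoc, Category.assoc, ← hUw, ← hcomp, Spec.map_comp, Spec.map_comp,
      Category.assoc, Category.assoc]
  · have hq : hU₀.primeIdealOf ⟨u, huU₀⟩ ∈ Set.range (Spec.map γD) := by
      have hr := PrimeSpectrum.localization_away_comap_range (Localization.Away g₁) g₁
      change _ ∈ Set.range (PrimeSpectrum.comap (algebraMap Γ(U, U₀) (Localization.Away g₁)))
      rw [hr]
      exact hgq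
    obtain ⟨w, hw'⟩ := hq
    refine ⟨(inv (Spec.map εD.hom)) w, ?_⟩
    change (inv (Spec.map εD.hom) ≫ Spec.map εD.hom ≫ Spec.map γD ≫ hU₀.fromSpec) w = u
    rw [IsIso.inv_hom_id_assoc]
    change hU₀.fromSpec ((Spec.map γD) w) = u
    rw [hw']
    exact hU₀.fromSpec_primeIdealOf ⟨u, huU₀⟩

set_option maxHeartbeats 800000 in
/-- Over an integral normal scheme with separably closed function field, an étale morphism is
locally on the source an open immersion. -/
theorem exists_open_nhd_isOpenImmersion [IsIntegral X]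
    (hN : ∀ x : X, IsIntegrallyClosed (X.presheaf.stalk x)) [IsSepClosed X.functionField]
    (g : U ⟶ X) [Etale g] (u : U) :
    ∃ W : U.Opens, u ∈ W ∧ IsOpenImmersion (W.ι ≫ g) := by
  obtain ⟨_, ⟨X₀, hX₀, rfl⟩, hu, -⟩ :=
    X.isBasis_affineOpens.exists_subset_of_mem_open (Set.mem_univ (g u)) isOpen_univ
  replace hu : g u ∈ X₀ := hu
  haveI : Nonempty X₀ := ⟨⟨g u, hu⟩⟩
  haveI : IsIntegrallyClosed Γ(X, X₀) := isIntegrallyClosed_of_stalks hN hX₀
  haveI : IsFractionRing Γ(X, X₀) X.functionField :=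
    functionField_isFractionRing_of_isAffineOpen X X₀ hX₀
  obtain ⟨P, c, hc, hcg, ⟨v, hv⟩⟩ := exists_standardEtale_chart g u hX₀ hu
  haveI := hc
  haveI : v.asIdeal.IsPrime := v.2
  obtain ⟨a, Q, hQ, hw⟩ := exists_root_of_standardEtale (K := X.functionField) P v.asIdeal
  let w : P.Ring := aeval P.X Q
  let μ : CommRingCat.of P.Ring ⟶ CommRingCat.of (Localization.Away w) :=
    CommRingCat.ofHom (algebraMap P.Ring (Localization.Away w))
  let ι₀ : Γ(X, X₀) ⟶ CommRingCat.of (Localization.Away w) :=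
    CommRingCat.ofHom (algebraMap Γ(X, X₀) (Localization.Away w))
  have hιμ : CommRingCat.ofHom (algebraMap Γ(X, X₀) P.Ring) ≫ μ = ι₀ := by
    ext r
    exact (IsScalarTower.algebraMap_apply Γ(X, X₀) P.Ring (Localization.Away w) r).symm
  haveI : IsOpenImmersion (Spec.map μ) := inferInstance
  -- `Spec.map ι₀` is an open immersion
  haveI : Algebra.Etale Γ(X, X₀) (Localization.Away w) :=
    Algebra.Etale.comp Γ(X, X₀) P.Ring (Localization.Away w)
  haveI : Etale (Spec.map ι₀) :=
    HasRingHomProperty.Spec_iff.mpr (RingHom.etale_algebraMap.mpr inferInstance)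
  haveI : Epi ι₀ := ⟨fun g₁ g₂ h12 => by
    ext1
    exact ringHom_ext_away_of_root P a Q hQ w rfl g₁.hom g₂.hom
      (congrArg CommRingCat.Hom.hom h12)⟩
  haveI : Mono (Spec.map ι₀) := by
    haveI : Mono ι₀.op := inferInstance
    exact inferInstanceAs (Mono (Scheme.Spec.map ι₀.op))
  haveI : IsOpenImmersion (Spec.map ι₀) := IsOpenImmersion.of_flat_of_mono _
  let j : Spec (CommRingCat.of (Localization.Away w)) ⟶ U := Spec.map μ ≫ c
  have hjg : j ≫ g = Spec.map ι₀ ≫ hX₀.fromSpec := by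
    change (Spec.map μ ≫ c) ≫ g = _
    rw [Category.assoc, hcg, ← Category.assoc, ← Spec.map_comp, hιμ]
  have hvr : v ∈ Set.range (Spec.map μ) := by
    have hr := PrimeSpectrum.localization_away_comap_range (Localization.Away w) w
    change _ ∈ Set.range (PrimeSpectrum.comap (algebraMap P.Ring (Localization.Away w)))
    rw [hr]
    exact hw
  obtain ⟨v', hv'⟩ := hvr
  refine ⟨j.opensRange, ⟨v', ?_⟩, ?_⟩
  · change c ((Spec.map μ) v') = u
    rw [hv', hv]
  · have hrange : Set.range j.opensRange.ι = Set.range j := by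
      rw [Scheme.Opens.range_ι]
      rfl
    have hfac : j.opensRange.ι ≫ g =
        (IsOpenImmersion.isoOfRangeEq j.opensRange.ι j hrange).hom ≫ Spec.map ι₀ ≫
          hX₀.fromSpec := by
      rw [← hjg, ← Category.assoc, IsOpenImmersion.isoOfRangeEq_hom_fac]
    rw [hfac]
    infer_instance

end Scheme

section Assembly

variable {U X : Scheme.{u}}

/-- If `g` is locally on the source an open immersion, all its stalk maps are isomorphisms. -/
theorem isIso_stalkMap_of_local (g : U ⟶ X)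
    (h : ∀ u : U, ∃ W : U.Opens, u ∈ W ∧ IsOpenImmersion (W.ι ≫ g)) (u : U) :
    IsIso (g.stalkMap u) := by
  obtain ⟨W, huW, hW⟩ := h u
  have key : ∀ u' : (W : Scheme.{u}), IsIso (g.stalkMap (W.ι u')) := fun u' => by
    have h1 : IsIso ((W.ι ≫ g).stalkMap u') := inferInstance
    rw [Scheme.Hom.stalkMap_comp] at h1
    exact @IsIso.of_isIso_comp_right _ _ _ _ _ (g.stalkMap (W.ι u')) (W.ι.stalkMap u')
      inferInstance h1
  exact key ⟨u, huW⟩

/-- An étale morphism with bijective stalk maps is an open immersion on every open on which it is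
injective. -/
theorem isOpenImmersion_of_injOn (g : U ⟶ X) [Etale g] (hst : ∀ u, IsIso (g.stalkMap u))
    (T : U.Opens) (hT : Set.InjOn g (T : Set U)) : IsOpenImmersion (T.ι ≫ g) := by
  haveI : ∀ t, IsIso ((T.ι ≫ g).stalkMap t) := fun t => by
    rw [Scheme.Hom.stalkMap_comp]
    exact @IsIso.comp_isIso _ _ _ _ _ (g.stalkMap (T.ι t)) (T.ι.stalkMap t) (hst _) inferInstance
  apply IsOpenImmersion.of_isIso_stalkMap
  refine .of_continuous_injective_isOpenMap (T.ι ≫ g).continuous ?_ ?_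
  · intro a b hab
    apply T.ι.isOpenEmbedding.injective
    exact hT a.2 b.2 hab
  · exact g.isOpenMap.comp T.ι.isOpenEmbedding.isOpenMap

set_option maxHeartbeats 800000 in
/-- Two opens mapping isomorphically onto opens of the integral base and meeting each other:
`g` is injective on their union (uses separatedness). -/
theorem eq_of_mem_of_mem (g : U ⟶ X) [IsIntegral X] [Etale g] [IsSeparated g] (W₁ W₂ : U.Opens)
    [IsOpenImmersion (W₁.ι ≫ g)] [IsOpenImmersion (W₂.ι ≫ g)] (c : U) (hc₁ : c ∈ W₁)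
    (hc₂ : c ∈ W₂) (a b : U) (ha : a ∈ W₁) (hb : b ∈ W₂) (hab : g a = g b) : a = b := by
  let f₁ : (W₁ : Scheme.{u}) ⟶ X := W₁.ι ≫ g
  let f₂ : (W₂ : Scheme.{u}) ⟶ X := W₂.ι ≫ g
  haveI : IsOpenImmersion f₁ := ‹_›
  haveI : IsOpenImmersion f₂ := ‹_›
  let π₁ : pullback f₁ f₂ ⟶ W₁ := pullback.fst f₁ f₂
  let π₂ : pullback f₁ f₂ ⟶ W₂ := pullback.snd f₁ f₂
  haveI : IsOpenImmersion (π₁ ≫ f₁) := inferInstance
  haveI : PreirreducibleSpace ↥(pullback f₁ f₂) := by
    constructor
    have := (PreirreducibleSpace.isPreirreducible_univ (X := X)).preimage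
      (π₁ ≫ f₁).isOpenEmbedding
    simpa using this
  let α : pullback f₁ f₂ ⟶ U := π₁ ≫ W₁.ι
  let β : pullback f₁ f₂ ⟶ U := π₂ ≫ W₂.ι
  have hαβ : α ≫ g = β ≫ g := by
    change (π₁ ≫ W₁.ι) ≫ g = (π₂ ≫ W₂.ι) ≫ g
    rw [Category.assoc, Category.assoc]
    exact pullback.condition
  let δ : pullback f₁ f₂ ⟶ pullback g g := pullback.lift α β hαβ
  let Δ : U ⟶ pullback g g := pullback.diagonal g
  have hclopen : IsClopen (δ ⁻¹' Set.range Δ) :=
    ⟨(Δ.isClosedEmbedding.isClosed_range).preimage δ.continuous,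
      (Δ.isOpenEmbedding.isOpen_range).preimage δ.continuous⟩
  let lam : ((W₁ ⊓ W₂ : U.Opens) : Scheme.{u}) ⟶ pullback f₁ f₂ :=
    pullback.lift (U.homOfLE inf_le_left) (U.homOfLE inf_le_right) (by
      change U.homOfLE _ ≫ W₁.ι ≫ g = U.homOfLE _ ≫ W₂.ι ≫ g
      rw [← Category.assoc, ← Category.assoc, Scheme.homOfLE_ι, Scheme.homOfLE_ι])
  have hlam : lam ≫ δ = (W₁ ⊓ W₂).ι ≫ Δ := by
    apply pullback.hom_ext
    · rw [Category.assoc, pullback.lift_fst, Category.assoc, pullback.diagonal_fst,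
        Category.comp_id]
      change lam ≫ π₁ ≫ W₁.ι = _
      rw [← Category.assoc, pullback.lift_fst, Scheme.homOfLE_ι]
    · rw [Category.assoc, pullback.lift_snd, Category.assoc, pullback.diagonal_snd,
        Category.comp_id]
      change lam ≫ π₂ ≫ W₂.ι = _
      rw [← Category.assoc, pullback.lift_snd, Scheme.homOfLE_ι]
  have hne : (δ ⁻¹' Set.range Δ).Nonempty := by
    refine ⟨lam ⟨c, hc₁, hc₂⟩, (W₁ ⊓ W₂).ι ⟨c, hc₁, hc₂⟩, ?_⟩
    change ((W₁ ⊓ W₂).ι ≫ Δ) _ = (lam ≫ δ) _
    rw [hlam]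
  have huniv := hclopen.eq_univ hne
  obtain ⟨z, hz1, hz2⟩ :=
    Scheme.Pullback.exists_preimage_pullback (f := f₁) (g := f₂) ⟨a, ha⟩ ⟨b, hb⟩ hab
  have hz : δ z ∈ Set.range Δ := by
    have : z ∈ δ ⁻¹' Set.range Δ := by rw [huniv]; trivial
    exact this
  obtain ⟨c', hc'⟩ := hz
  have h1 : c' = a := by
    have h := congrArg (fun t => (pullback.fst g g) t) hc'
    change (Δ ≫ pullback.fst g g) c' = (δ ≫ pullback.fst g g) z at h
    rw [pullback.diagonal_fst, pullback.lift_fst] at h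
    change c' = W₁.ι (π₁ z) at h
    rw [h]
    change W₁.ι (pullback.fst f₁ f₂ z) = a
    rw [hz1]
    rfl
  have h2 : c' = b := by
    have h := congrArg (fun t => (pullback.snd g g) t) hc'
    change (Δ ≫ pullback.snd g g) c' = (δ ≫ pullback.snd g g) z at h
    rw [pullback.diagonal_snd, pullback.lift_snd] at h
    change c' = W₂.ι (π₂ z) at h
    rw [h]
    change W₂.ι (pullback.snd f₁ f₂ z) = b
    rw [hz2]
    rfl
  rw [← h1, ← h2]

set_option maxHeartbeats 1600000 in
/-- The decomposition of a separated étale scheme into opens of the base, as explicit data. -/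
theorem exists_decomposition [IsIntegral X]
    (hN : ∀ x : X, IsIntegrallyClosed (X.presheaf.stalk x))
    [IsSepClosed X.functionField] (g : U ⟶ X) [Etale g] [IsSeparated g] :
    ∃ (ι : Type u) (V : ι → X.Opens) (ψ : ∀ i, (V i : Scheme.{u}) ⟶ U),
      (∀ i, IsOpenImmersion (ψ i)) ∧ (∀ i, ψ i ≫ g = (V i).ι) ∧
      Pairwise (Function.onFun Disjoint (fun i => Set.range (ψ i))) ∧
      (∀ u : U, ∃ i, u ∈ Set.range (ψ i)) ∧ (∀ i, (Set.range (ψ i)).Nonempty) := by
  have hloc := exists_open_nhd_isOpenImmersion hN g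
  have hst := isIso_stalkMap_of_local g hloc
  let Good : U.Opens → Prop := fun W => IsOpenImmersion (W.ι ≫ g)
  let T : U → U.Opens := fun u => ⨆ W : {W : U.Opens // Good W ∧ u ∈ W}, W.1
  have hT_mem : ∀ u, u ∈ T u := fun u => by
    obtain ⟨W, huW, hW⟩ := hloc u
    exact TopologicalSpace.Opens.mem_iSup.mpr ⟨⟨W, hW, huW⟩, huW⟩
  have hT_inj : ∀ u, Set.InjOn g (T u : Set U) := fun u a ha b hb hab => by
    obtain ⟨⟨W₁, hW₁, hu₁⟩, ha₁⟩ := TopologicalSpace.Opens.mem_iSup.mp ha
    obtain ⟨⟨W₂, hW₂, hu₂⟩, hb₂⟩ := TopologicalSpace.Opens.mem_iSup.mp hb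
    haveI : IsOpenImmersion (W₁.ι ≫ g) := hW₁
    haveI : IsOpenImmersion (W₂.ι ≫ g) := hW₂
    exact eq_of_mem_of_mem g W₁ W₂ u hu₁ hu₂ a b ha₁ hb₂ hab
  have hT_good : ∀ u, Good (T u) := fun u => isOpenImmersion_of_injOn g hst (T u) (hT_inj u)
  have hT_max : ∀ u W, Good W → u ∈ W → W ≤ T u := fun u W hW huW =>
    le_iSup (fun W : {W : U.Opens // Good W ∧ u ∈ W} => W.1) ⟨W, hW, huW⟩
  have hT_eq : ∀ u u' c, c ∈ T u → c ∈ T u' → T u = T u' := by
    intro u u' c hc hc'
    haveI : IsOpenImmersion ((T u).ι ≫ g) := hT_good u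
    haveI : IsOpenImmersion ((T u').ι ≫ g) := hT_good u'
    have hsup : Good (T u ⊔ T u') := by
      apply isOpenImmersion_of_injOn g hst
      intro a ha b hb hab
      rcases ha with ha | ha <;> rcases hb with hb | hb
      · exact hT_inj u ha hb hab
      · exact eq_of_mem_of_mem g (T u) (T u') c hc hc' a b ha hb hab
      · exact (eq_of_mem_of_mem g (T u) (T u') c hc hc' b a hb ha hab.symm).symm
      · exact hT_inj u' ha hb hab
    apply le_antisymm
    · exact le_sup_left.trans (hT_max u' _ hsup (Or.inr (hT_mem u')))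
    · exact le_sup_right.trans (hT_max u _ hsup (Or.inl (hT_mem u)))
  let ι := {T' : U.Opens // ∃ u, T u = T'}
  have hι_good : ∀ i : ι, Good i.1 := fun i => by
    obtain ⟨u, hu⟩ := i.2
    rw [← hu]
    exact hT_good u
  let V : ι → X.Opens := fun i => ⟨g '' (i.1 : Set U), g.isOpenMap _ i.1.2⟩
  haveI : ∀ i : ι, IsOpenImmersion (i.1.ι ≫ g) := hι_good
  have hrange : ∀ i : ι, Set.range (V i).ι = Set.range (i.1.ι ≫ g) := fun i => by
    rw [Scheme.Opens.range_ι]
    change g '' (i.1 : Set U) = Set.range (g ∘ i.1.ι)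
    rw [Set.range_comp, Scheme.Opens.range_ι]
  let φ : ∀ i : ι, (V i : Scheme.{u}) ≅ (i.1 : Scheme.{u}) := fun i =>
    IsOpenImmersion.isoOfRangeEq (V i).ι (i.1.ι ≫ g) (hrange i)
  let ψ : ∀ i : ι, (V i : Scheme.{u}) ⟶ U := fun i => (φ i).hom ≫ i.1.ι
  have hψg : ∀ i, ψ i ≫ g = (V i).ι := fun i => by
    change ((φ i).hom ≫ i.1.ι) ≫ g = _
    rw [Category.assoc]
    exact IsOpenImmersion.isoOfRangeEq_hom_fac _ _ _
  have hψrange : ∀ i, Set.range (ψ i) = (i.1 : Set U) := fun i => by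
    have hs : Function.Surjective (φ i).hom := (φ i).hom.surjective
    change Set.range (i.1.ι ∘ (φ i).hom) = _
    rw [hs.range_comp, Scheme.Opens.range_ι]
  have hdisj : Pairwise (Function.onFun Disjoint (fun i => Set.range (ψ i))) := by
    intro i j hij
    change Disjoint (Set.range (ψ i)) (Set.range (ψ j))
    rw [hψrange, hψrange, Set.disjoint_iff]
    rintro c ⟨hci, hcj⟩
    apply hij
    obtain ⟨u, hu⟩ := i.2
    obtain ⟨u', hu'⟩ := j.2
    apply Subtype.ext
    rw [← hu, ← hu']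
    apply hT_eq u u' c
    · rw [hu]; exact hci
    · rw [hu']; exact hcj
  refine ⟨ι, V, ψ, fun i => inferInstance, hψg, hdisj, fun u => ?_, fun i => ?_⟩
  · refine ⟨⟨T u, u, rfl⟩, ?_⟩
    rw [hψrange]
    exact hT_mem u
  · obtain ⟨u, hu⟩ := i.2
    rw [hψrange]
    exact ⟨u, by rw [← hu]; exact hT_mem u⟩

theorem main0089 [IsIntegral X] (hN : ∀ x : X, IsIntegrallyClosed (X.presheaf.stalk x))
    [IsSepClosed X.functionField] (g : U ⟶ X) [Etale g] [IsSeparated g] :
    ∃ (ι : Type u) (V : ι → X.Opens) (e : (∐ fun i => (V i : Scheme.{u})) ≅ U),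
      ∀ i, Sigma.ι (fun i => (V i : Scheme.{u})) i ≫ e.hom ≫ g = (V i).ι := by
  obtain ⟨ι, V, ψ, hψ, hψg, hdisj, hcov, -⟩ := exists_decomposition hN g
  haveI := hψ
  haveI : IsOpenImmersion (Sigma.desc ψ) := isOpenImmersion_sigmaDesc _ ψ hdisj
  haveI : Surjective (Sigma.desc ψ) := ⟨fun u => by
    obtain ⟨i, y, hy⟩ := hcov u
    refine ⟨(Sigma.ι (fun i => (V i : Scheme.{u})) i) y, ?_⟩
    rw [← Scheme.Hom.comp_apply, Sigma.ι_desc]
    exact hy⟩
  haveI : IsIso (Sigma.desc ψ) :=
    (isIso_iff_isOpenImmersion_and_surjective _).mpr ⟨inferInstance, inferInstance⟩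
  refine ⟨ι, V, asIso (Sigma.desc ψ), fun i => ?_⟩
  rw [asIso_hom, Sigma.ι_desc_assoc]
  exact hψg i

end Assembly

end Groth.Agent.Lib.NormSepClH4
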