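import Mathlib
import Groth.Prelude.Def_Fitting
import Groth.Prelude.Def_Pi1
import Groth.Agent.Lib.NormSepCl_helper4

set_option autoImplicit false
set_option linter.unusedVariables false
set_option linter.unusedTactic false
set_option linter.unreachableTactic false
set_option linter.unusedSectionVars false
set_option linter.style.haveILetI false
set_option linter.deprecated false
set_option maxHeartbeats 1600000

universe u

namespace Groth.Agent.Lib.FldNormH4

open CategoryTheory AlgebraicGeometry TopologicalSpace Opposite IntermediateField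

section Alg

/-- An element divides the constant coefficient of its minimal polynomial. -/
lemma dvd_coeff_zero_minpoly {A B : Type*} [CommRing A] [CommRing B] [Algebra A B] (s : B) :
    s ∣ algebraMap A B ((minpoly A s).coeff 0) := by
  have h1 : Polynomial.aeval s (minpoly A s) = 0 := minpoly.aeval A s
  have h2 : Polynomial.X * (minpoly A s).divX + Polynomial.C ((minpoly A s).coeff 0)
      = minpoly A s := Polynomial.X_mul_divX_add _
  have h3 := congrArg (Polynomial.aeval s) h2
  rw [h1, map_add, map_mul, Polynomial.aeval_X, Polynomial.aeval_C] at h3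
  exact ⟨- Polynomial.aeval s (minpoly A s).divX, by linear_combination h3⟩

/-- The fraction field of a finite extension domain is finite over the base field. -/
lemma finite_of_isFractionRing {A B K L : Type*} [CommRing A] [CommRing B] [Field K] [Field L]
    [Algebra A B] [Algebra A K] [Algebra B L] [Algebra K L] [Algebra A L]
    [IsScalarTower A B L] [IsScalarTower A K L] [IsFractionRing B L] [Module.Finite A B] :
    Module.Finite K L := by
  classical
  obtain ⟨T, hT⟩ := Module.finite_def.mp (inferInstance : Module.Finite A B)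
  set S : Set L := (algebraMap B L) '' (T : Set B) with hS
  have hSfin : S.Finite := (T.finite_toSet).image _
  have hint : ∀ x ∈ S, IsIntegral K x := by
    rintro _ ⟨b, -, rfl⟩
    have hb : IsIntegral A b := IsIntegral.of_finite A b
    have hb' : IsIntegral A (algebraMap B L b) := hb.map (IsScalarTower.toAlgHom A B L)
    exact hb'.tower_top
  set F : IntermediateField K L := IntermediateField.adjoin K S with hF
  have hBF : ∀ b : B, algebraMap B L b ∈ F := by
    intro b
    have hb : b ∈ Submodule.span A (T : Set B) := by rw [hT]; trivial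
    refine Submodule.span_induction (p := fun b _ => algebraMap B L b ∈ F) ?_ ?_ ?_ ?_ hb
    · intro t ht
      exact IntermediateField.subset_adjoin K S ⟨t, ht, rfl⟩
    · rw [map_zero]; exact F.zero_mem
    · intro x y _ _ hx hy
      rw [map_add]; exact F.add_mem hx hy
    · intro a x _ hx
      rw [Algebra.smul_def, map_mul, ← IsScalarTower.algebraMap_apply A B L,
        IsScalarTower.algebraMap_apply A K L]
      exact F.mul_mem (F.algebraMap_mem _) hx
  have htop : F = ⊤ := by
    rw [eq_top_iff]
    rintro x -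
    obtain ⟨b, s, rfl⟩ := IsLocalization.exists_mk'_eq (nonZeroDivisors B) x
    rw [IsFractionRing.mk'_eq_div]
    exact F.div_mem (hBF b) (hBF s)
  haveI : Finite S := hSfin.to_subtype
  haveI hfd : FiniteDimensional K F := IntermediateField.finiteDimensional_adjoin hint
  have hfd' : FiniteDimensional K (⊤ : IntermediateField K L) := htop ▸ hfd
  exact Module.Finite.equiv (IntermediateField.topEquiv (F := K) (E := L)).toLinearEquiv

/-- Norms of integral elements over an integrally closed domain: the norm lies in the base ring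
and is divisible by the element. -/
theorem exists_norm_eq {A B K L : Type*} [CommRing A] [IsDomain A] [IsIntegrallyClosed A]
    [CommRing B] [Field K] [Field L] [Algebra A K] [IsFractionRing A K] [Algebra A B]
    [Algebra B L] [Algebra K L] [Algebra A L] [IsScalarTower A K L] [IsScalarTower A B L]
    [FiniteDimensional K L]
    (hinj : Function.Injective (algebraMap B L)) (s : B) (hs : IsIntegral A s) :
    ∃ a : A, algebraMap A K a = Algebra.norm K (algebraMap B L s) ∧ s ∣ algebraMap A B a := by
  set x : L := algebraMap B L s with hx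
  have hxint : IsIntegral A x := hs.map (IsScalarTower.toAlgHom A B L)
  have hxK : IsIntegral K x := hxint.tower_top
  have hmin : minpoly A x = minpoly A s :=
    minpoly.algHom_eq (IsScalarTower.toAlgHom A B L) hinj s
  have hminK : minpoly K x = (minpoly A x).map (algebraMap A K) :=
    minpoly.isIntegrallyClosed_eq_field_fractions' K hxint
  set c : A := (minpoly A s).coeff 0 with hc
  set m : ℕ := (minpoly K x).natDegree with hm
  set e : ℕ := Module.finrank K⟮x⟯ L with he
  have hepos : 0 < e := Module.finrank_pos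
  have hgen : Algebra.norm K (AdjoinSimple.gen K x) = (-1) ^ m * (minpoly K x).coeff 0 := by
    have h := Algebra.PowerBasis.norm_gen_eq_coeff_zero_minpoly
      (IntermediateField.adjoin.powerBasis hxK)
    rw [IntermediateField.adjoin.powerBasis_gen, IntermediateField.adjoin.powerBasis_dim,
      IntermediateField.minpoly_gen] at h
    exact h
  have hcoeff : (minpoly K x).coeff 0 = algebraMap A K c := by
    rw [hminK, hmin, Polynomial.coeff_map]
  have hnorm : Algebra.norm K x = ((-1) ^ m * algebraMap A K c) ^ e := by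
    rw [Algebra.norm_eq_norm_adjoin K x, hgen, hcoeff]
  refine ⟨((-1) ^ m * c) ^ e, ?_, ?_⟩
  · rw [hnorm, map_pow, map_mul, map_pow, map_neg, map_one]
  · have h1 : s ∣ algebraMap A B c := dvd_coeff_zero_minpoly s
    rw [map_pow, map_mul]
    exact dvd_pow (Dvd.dvd.mul_left h1 _) hepos.ne'

end Alg

section Glue

/-- On an integral scheme, a rational function which is locally (on an open cover of `U` by opens
containing the generic point) the germ of a section is the germ of a section over `U`. -/
lemma exists_section_of_local {Y : Scheme.{u}} [IsIntegral Y] (U : Y.Opens)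
    (hU : genericPoint Y ∈ U) (f : Y.functionField)
    (h : ∀ y ∈ U, ∃ (V : Y.Opens) (hV : genericPoint Y ∈ V), y ∈ V ∧ V ≤ U ∧
      ∃ a : Γ(Y, V), (Y.presheaf.germ V (genericPoint Y) hV).hom a = f) :
    ∃ t : Γ(Y, U), (Y.presheaf.germ U (genericPoint Y) hU).hom t = f := by
  let ι : Type u := {V : Y.Opens // V ≤ U ∧ ∃ (hV : genericPoint Y ∈ V) (a : Γ(Y, V)),
    (Y.presheaf.germ V (genericPoint Y) hV).hom a = f}
  have key : ∀ i : ι, ∃ (a : Γ(Y, i.1)) (hV : genericPoint Y ∈ i.1),
      (Y.presheaf.germ i.1 (genericPoint Y) hV).hom a = f :=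
    fun i => let ⟨hV, a, ha⟩ := i.2.2; ⟨a, hV, ha⟩
  choose sf hsfV hsf using key
  have hcompat : TopCat.Presheaf.IsCompatible Y.presheaf (fun i : ι => i.1) sf := by
    intro i j
    have hmem : genericPoint Y ∈ i.1 ⊓ j.1 := ⟨hsfV i, hsfV j⟩
    apply germ_injective_of_isIntegral Y (genericPoint Y) hmem
    have e1 := Y.presheaf.germ_res_apply (Opens.infLELeft i.1 j.1) (genericPoint Y) hmem (sf i)
    have e2 := Y.presheaf.germ_res_apply (Opens.infLERight i.1 j.1) (genericPoint Y) hmem (sf j)
    exact e1.trans ((hsf i).trans ((hsf j).symm.trans e2.symm))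
  have hcover : U ≤ iSup (fun i : ι => i.1) := by
    intro y hy
    obtain ⟨V, hV, hyV, hVU, a, ha⟩ := h y hy
    exact Opens.mem_iSup.mpr ⟨⟨V, hVU, hV, a, ha⟩, hyV⟩
  obtain ⟨t, ht, -⟩ := TopCat.Sheaf.existsUnique_gluing' Y.sheaf (fun i : ι => i.1) U
    (fun i => homOfLE i.2.1) hcover sf hcompat
  refine ⟨t, ?_⟩
  obtain ⟨V, hV, hyV, hVU, a, ha⟩ := h _ hU
  let i₀ : ι := ⟨V, hVU, hV, a, ha⟩
  have e := Y.presheaf.germ_res_apply (homOfLE i₀.2.1) (genericPoint Y) (hsfV i₀) t
  have e' := congrArg (fun z => (Y.presheaf.germ i₀.1 (genericPoint Y) (hsfV i₀)).hom z) (ht i₀)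
  exact e.symm.trans (e'.trans (hsf i₀))

end Glue

section Sch

/-- A surjective morphism of irreducible schemes maps the generic point to the generic point. -/
lemma map_genericPoint {X Y : Scheme.{u}} (π : X ⟶ Y) [Surjective π] [IrreducibleSpace X]
    [IrreducibleSpace Y] : π (genericPoint X) = genericPoint Y := by
  have h := (genericPoint_spec X).image π.continuous
  have h2 : closure (π '' (Set.univ : Set X)) = (⊤ : Set Y) := by
    rw [Set.image_univ, π.surjective.range_eq, closure_univ]
    rfl
  rw [h2] at h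
  exact ((genericPoint_spec Y).eq h).symm

variable {X Y : Scheme.{u}} (π : X ⟶ Y) [IsIntegral X] [IsIntegral Y]
  (hη : π (genericPoint X) = genericPoint Y)

/-- the induced map on function fields -/
noncomputable def ffMap : Y.functionField ⟶ X.functionField :=
  Y.presheaf.stalkSpecializes (specializes_of_eq hη) ≫ π.stalkMap (genericPoint X)

include hη in
lemma mem_pre {U : Y.Opens} (hU : genericPoint Y ∈ U) : genericPoint X ∈ π ⁻¹ᵁ U := by
  show π (genericPoint X) ∈ U
  rw [hη]; exact hU

lemma ffMap_germ (U : Y.Opens) (hU : genericPoint Y ∈ U) (g : Γ(Y, U)) :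
    (ffMap π hη).hom ((Y.presheaf.germ U (genericPoint Y) hU).hom g) =
      (X.presheaf.germ (π ⁻¹ᵁ U) (genericPoint X) (mem_pre π hη hU)).hom ((π.app U).hom g) := by
  have h1 : Y.presheaf.germ U (genericPoint Y) hU ≫ ffMap π hη =
      π.app U ≫ X.presheaf.germ (π ⁻¹ᵁ U) (genericPoint X) (mem_pre π hη hU) := by
    unfold ffMap
    rw [← Category.assoc, TopCat.Presheaf.germ_stalkSpecializes, Scheme.Hom.germ_stalkMap]
  exact congrArg (fun φ => φ.hom g) h1

/-- algebra structure of `K(X)` over `K(Y)` -/
@[reducible] noncomputable def ffAlgebra : Algebra Y.functionField X.functionField :=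
  (ffMap π hη).hom.toAlgebra

/-- the field norm `K(X) → K(Y)` -/
noncomputable def nrm : X.functionField → Y.functionField :=
  letI := ffAlgebra π hη
  fun x => Algebra.norm Y.functionField x

/-- the degree `[K(X) : K(Y)]` -/
noncomputable def deg : ℕ :=
  letI := ffAlgebra π hη
  Module.finrank Y.functionField X.functionField

lemma nrm_one : nrm π hη 1 = 1 := by
  letI := ffAlgebra π hη
  exact map_one (Algebra.norm Y.functionField)

lemma nrm_mul (x y : X.functionField) : nrm π hη (x * y) = nrm π hη x * nrm π hη y := by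
  letI := ffAlgebra π hη
  exact map_mul (Algebra.norm Y.functionField) x y

lemma nrm_ffMap (a : Y.functionField) : nrm π hη ((ffMap π hη).hom a) = a ^ deg π hη := by
  letI := ffAlgebra π hη
  exact Algebra.norm_algebraMap a

lemma deg_pos (hfin : letI := ffAlgebra π hη; FiniteDimensional Y.functionField X.functionField) :
    0 < deg π hη := by
  letI := ffAlgebra π hη
  haveI : FiniteDimensional Y.functionField X.functionField := hfin
  exact Module.finrank_pos

theorem finiteDimensional_ff [IsFinite π] :
    letI := ffAlgebra π hη; FiniteDimensional Y.functionField X.functionField := by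
  letI := ffAlgebra π hη
  obtain ⟨V, hV, hVη, -⟩ :=
    exists_isAffineOpen_mem_and_subset (x := genericPoint Y) (U := ⊤) trivial
  haveI : Nonempty V := ⟨⟨_, hVη⟩⟩
  haveI : Nonempty (π ⁻¹ᵁ V) := ⟨⟨_, mem_pre π hη hVη⟩⟩
  have hVaff : IsAffineOpen (π ⁻¹ᵁ V) := hV.preimage π
  haveI : IsFractionRing Γ(X, π ⁻¹ᵁ V) X.functionField :=
    functionField_isFractionRing_of_isAffineOpen X _ hVaff
  letI algAB : Algebra Γ(Y, V) Γ(X, π ⁻¹ᵁ V) := (π.app V).hom.toAlgebra
  letI algAL : Algebra Γ(Y, V) X.functionField :=
    ((algebraMap Y.functionField X.functionField).comp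
      (algebraMap Γ(Y, V) Y.functionField)).toAlgebra
  haveI : IsScalarTower Γ(Y, V) Y.functionField X.functionField :=
    IsScalarTower.of_algebraMap_eq (fun _ => rfl)
  haveI : IsScalarTower Γ(Y, V) Γ(X, π ⁻¹ᵁ V) X.functionField :=
    IsScalarTower.of_algebraMap_eq (fun g => ffMap_germ π hη V hVη g)
  haveI : Module.Finite Γ(Y, V) Γ(X, π ⁻¹ᵁ V) := IsFinite.finite_app π V hV
  exact finite_of_isFractionRing (A := Γ(Y, V)) (B := Γ(X, π ⁻¹ᵁ V))
    (K := Y.functionField) (L := X.functionField)

theorem exists_affine [IsFinite π] (hN : ∀ y : Y, IsIntegrallyClosed (Y.presheaf.stalk y))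
    (hfin : letI := ffAlgebra π hη; FiniteDimensional Y.functionField X.functionField)
    (V : Y.Opens) (hV : IsAffineOpen V) (hVη : genericPoint Y ∈ V) (s : Γ(X, π ⁻¹ᵁ V)) :
    ∃ a : Γ(Y, V), (Y.presheaf.germ V (genericPoint Y) hVη).hom a
        = nrm π hη ((X.presheaf.germ (π ⁻¹ᵁ V) (genericPoint X) (mem_pre π hη hVη)).hom s)
      ∧ s ∣ (π.app V).hom a := by
  haveI : Nonempty V := ⟨⟨genericPoint Y, hVη⟩⟩
  haveI : Nonempty (π ⁻¹ᵁ V) := ⟨⟨genericPoint X, mem_pre π hη hVη⟩⟩
  haveI : IsIntegrallyClosed Γ(Y, V) := NormSepClH4.isIntegrallyClosed_of_stalks hN hV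
  haveI : IsFractionRing Γ(Y, V) Y.functionField :=
    functionField_isFractionRing_of_isAffineOpen Y V hV
  letI algKL := ffAlgebra π hη
  haveI : FiniteDimensional Y.functionField X.functionField := hfin
  letI algAB : Algebra Γ(Y, V) Γ(X, π ⁻¹ᵁ V) := (π.app V).hom.toAlgebra
  letI algAL : Algebra Γ(Y, V) X.functionField :=
    ((algebraMap Y.functionField X.functionField).comp
      (algebraMap Γ(Y, V) Y.functionField)).toAlgebra
  haveI : IsScalarTower Γ(Y, V) Y.functionField X.functionField :=
    IsScalarTower.of_algebraMap_eq (fun _ => rfl)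
  haveI : IsScalarTower Γ(Y, V) Γ(X, π ⁻¹ᵁ V) X.functionField :=
    IsScalarTower.of_algebraMap_eq (fun g => ffMap_germ π hη V hVη g)
  have hinj : Function.Injective (algebraMap Γ(X, π ⁻¹ᵁ V) X.functionField) :=
    X.germToFunctionField_injective (π ⁻¹ᵁ V)
  have hs : IsIntegral Γ(Y, V) s := IsIntegralHom.isIntegral_app π V hV s
  obtain ⟨a, ha, hdvd⟩ := exists_norm_eq (A := Γ(Y, V)) (B := Γ(X, π ⁻¹ᵁ V))
    (K := Y.functionField) (L := X.functionField) hinj s hs
  exact ⟨a, ha, hdvd⟩

include hη in
lemma generic_mem_of_mem {V : Y.Opens} {y : Y} (hy : y ∈ V) : genericPoint Y ∈ V :=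
  ((genericPoint_spec Y).mem_open_set_iff V.isOpen).mpr ⟨y, trivial, hy⟩

theorem exists_section [IsFinite π] (hN : ∀ y : Y, IsIntegrallyClosed (Y.presheaf.stalk y))
    (hfin : letI := ffAlgebra π hη; FiniteDimensional Y.functionField X.functionField)
    (U : Y.Opens) (hUη : genericPoint Y ∈ U) (s : Γ(X, π ⁻¹ᵁ U)) :
    ∃ t : Γ(Y, U), (Y.presheaf.germ U (genericPoint Y) hUη).hom t
        = nrm π hη ((X.presheaf.germ (π ⁻¹ᵁ U) (genericPoint X) (mem_pre π hη hUη)).hom s) := by
  refine exists_section_of_local U hUη _ (fun y hy => ?_)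
  obtain ⟨V, hV, hyV, hVU⟩ := exists_isAffineOpen_mem_and_subset (x := y) (U := U) hy
  have hVη : genericPoint Y ∈ V := generic_mem_of_mem π hη hyV
  have hVU' : V ≤ U := hVU
  let i : V ⟶ U := homOfLE hVU'
  obtain ⟨a, ha, -⟩ := exists_affine π hη hN hfin V hV hVη
    ((X.presheaf.map ((Opens.map π.base).map i).op).hom s)
  refine ⟨V, hVη, hyV, hVU', a, ha.trans (congrArg (nrm π hη) ?_)⟩
  exact X.presheaf.germ_res_apply ((Opens.map π.base).map i) (genericPoint X)
    (mem_pre π hη hVη) s

end Sch

theorem main8881 {X Y : Scheme.{u}} (π : X ⟶ Y) [IsFinite π] [Surjective π]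
    [IsIntegral X] [IsIntegral Y] (hY : Pi1.IsNormalScheme Y) : ∃ d : ℕ, Nrm.HasNorm π d := by
  classical
  have hη : π (genericPoint X) = genericPoint Y := map_genericPoint π
  have hN : ∀ y : Y, IsIntegrallyClosed (Y.presheaf.stalk y) := fun y => (hY y).2
  have hfin := finiteDimensional_ff π hη
  refine ⟨deg π hη, ?_⟩
  have hex : ∀ (U : Y.Opens) (s : Γ(X, π ⁻¹ᵁ U)), ∃ t : Γ(Y, U),
      ∀ hUη : genericPoint Y ∈ U, (Y.presheaf.germ U (genericPoint Y) hUη).hom t
        = nrm π hη ((X.presheaf.germ (π ⁻¹ᵁ U) (genericPoint X) (mem_pre π hη hUη)).hom s) := by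
    intro U s
    by_cases hUη : genericPoint Y ∈ U
    · obtain ⟨t, ht⟩ := exists_section π hη hN hfin U hUη s
      exact ⟨t, fun _ => ht⟩
    · exact ⟨0, fun h => absurd h hUη⟩
  choose N hNspec using hex
  have huniq : ∀ (U : Y.Opens) (t t' : Γ(Y, U)),
      (∀ hUη : genericPoint Y ∈ U, (Y.presheaf.germ U (genericPoint Y) hUη).hom t
        = (Y.presheaf.germ U (genericPoint Y) hUη).hom t') → t = t' := by
    intro U t t' h
    by_cases hUη : genericPoint Y ∈ U
    · exact germ_injective_of_isIntegral Y (genericPoint Y) hUη (h hUη)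
    · have hUe : U = ⊥ := by
        rw [eq_bot_iff]
        intro y hy
        exact absurd (generic_mem_of_mem π hη hy) hUη
      subst hUe
      exact Subsingleton.elim _ _
  have hres : ∀ {U V : Y.Opens} (i : V ⟶ U) (s : Γ(X, π ⁻¹ᵁ U)),
      (Y.presheaf.map i.op).hom (N U s)
        = N V ((X.presheaf.map ((Opens.map π.base).map i).op).hom s) := by
    intro U V i s
    refine huniq V _ _ (fun hVη => ?_)
    have hUη : genericPoint Y ∈ U := i.le hVη
    have e1 := Y.presheaf.germ_res_apply i (genericPoint Y) hVη (N U s)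
    have e2 := hNspec U s hUη
    have e3 := hNspec V ((X.presheaf.map ((Opens.map π.base).map i).op).hom s) hVη
    have e4 := X.presheaf.germ_res_apply ((Opens.map π.base).map i) (genericPoint X)
      (mem_pre π hη hVη) s
    exact e1.trans (e2.trans ((congrArg (nrm π hη) e4).symm.trans e3.symm))
  refine ⟨{ one_le := deg_pos π hη hfin
            norm := fun U =>
              { toFun := N U
                map_one' := huniq U _ _ (fun h => by
                  have e1 := hNspec U 1 h
                  rw [map_one, nrm_one] at e1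
                  rw [e1, map_one])
                map_mul' := fun s s' => huniq U _ _ (fun h => by
                  have e1 := hNspec U (s * s') h
                  have e2 := hNspec U s h
                  have e3 := hNspec U s' h
                  rw [map_mul, nrm_mul, ← e2, ← e3] at e1
                  rw [e1, map_mul]) }
            norm_res := ?_
            norm_app := ?_
            norm_mem := ?_ }⟩
  · intro U V i s
    exact hres i s
  · intro U g
    refine huniq U _ _ (fun h => ?_)
    have e1 := hNspec U ((π.app U).hom g) h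
    have e2 := ffMap_germ π hη U h g
    have e3 := nrm_ffMap π hη ((Y.presheaf.germ U (genericPoint Y) h).hom g)
    rw [e2] at e3
    exact e1.trans (e3.trans (map_pow _ _ _).symm)
  · intro U s x hx hs
    obtain ⟨V, hV, hyV, hVU⟩ := exists_isAffineOpen_mem_and_subset (x := π x) (U := U) hx
    have hVη : genericPoint Y ∈ V := generic_mem_of_mem π hη hyV
    have hVU' : V ≤ U := hVU
    let i : V ⟶ U := homOfLE hVU'
    obtain ⟨a, ha, ⟨b, hb⟩⟩ := exists_affine π hη hN hfin V hV hVη
      ((X.presheaf.map ((Opens.map π.base).map i).op).hom s)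
    have h1 : (Y.presheaf.map i.op).hom (N U s) = a := by
      rw [hres i s]
      exact huniq V _ _ (fun h => (hNspec V _ h).trans ha.symm)
    have h2 : (Y.presheaf.germ U (π x) hx).hom (N U s) = (Y.presheaf.germ V (π x) hyV).hom a := by
      rw [← h1]
      exact (Y.presheaf.germ_res_apply i (π x) hyV (N U s)).symm
    show (Y.presheaf.germ U (π x) hx).hom (N U s) ∈ IsLocalRing.maximalIdeal _
    rw [h2, IsLocalRing.mem_maximalIdeal, mem_nonunits_iff]
    intro hu
    have h3 : IsUnit ((π.stalkMap x).hom ((Y.presheaf.germ V (π x) hyV).hom a)) := hu.map _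
    have h3' : IsUnit ((X.presheaf.germ (π ⁻¹ᵁ V) x hyV).hom ((π.app V).hom a)) :=
      (congrArg IsUnit (Scheme.Hom.germ_stalkMap_apply π V x hyV a)).mp h3
    rw [hb, map_mul] at h3'
    have h4 : (X.presheaf.germ (π ⁻¹ᵁ V) x hyV).hom
        ((X.presheaf.map ((Opens.map π.base).map i).op).hom s)
          ∈ IsLocalRing.maximalIdeal (X.presheaf.stalk x) := by
      have e := X.presheaf.germ_res_apply ((Opens.map π.base).map i) x hyV s
      exact (congrArg (fun z => z ∈ IsLocalRing.maximalIdeal (X.presheaf.stalk x)) e).mpr hs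
    exact (IsLocalRing.mem_maximalIdeal _).mp (Ideal.mul_mem_right _ _ h4) h3'

end Groth.Agent.Lib.FldNormH4
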