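import Mathlib

/-!
# Fontaine–Laffaille: injectivity and direct summand property (helper1)

Generic version over a commutative local PID `W` with an automorphism `σ` fixing an
irreducible element `π`.
-/

set_option autoImplicit false
universe u v

namespace Groth.Agent.Lib.FonLafH1

open Function

section Gen

variable {W : Type u} [CommRing W]

theorem length_eq_of_semilinear_bijective {σ : W →+* W} (hσ : Function.Surjective σ)
    {M : Type*} {M₂ : Type*} [AddCommGroup M] [Module W M] [AddCommGroup M₂] [Module W M₂]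
    (f : M →ₛₗ[σ] M₂) (hf : Function.Bijective f) :
    Module.length W M = Module.length W M₂ := by
  haveI : RingHomSurjective σ := ⟨hσ⟩
  rw [Module.length, Module.length, WithBot.unbot_inj,
    Order.krullDim_eq_of_orderIso (Submodule.orderIsoMapComapOfBijective f hf)]

theorem exists_pow_smul_eq_zero [IsLocalRing W] {π : W} (hπ : ¬ IsUnit π)
    {M : Type*} [AddCommGroup M] [Module W M] (hM : IsFiniteLength W M) :
    ∃ n : ℕ, ∀ x : M, π ^ n • x = 0 := by
  obtain ⟨hN, hA⟩ := isFiniteLength_iff_isNoetherian_isArtinian.mp hM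
  obtain ⟨I, hIdef⟩ : ∃ I : Ideal W, I = Ideal.span {π} := ⟨_, rfl⟩
  have hI : I ≤ Ideal.jacobson ⊥ := by
    rw [IsLocalRing.jacobson_eq_maximalIdeal ⊥ bot_ne_top, hIdef]
    exact (Ideal.span_singleton_le_iff_mem _).mpr ((IsLocalRing.mem_maximalIdeal π).mpr hπ)
  let f : ℕ →o (Submodule W M)ᵒᵈ :=
    ⟨fun n => OrderDual.toDual (I ^ n • (⊤ : Submodule W M)), fun a b hab =>
      OrderDual.toDual_le_toDual.mpr (Submodule.smul_mono (Ideal.pow_le_pow_right hab) le_rfl)⟩
  obtain ⟨n, hn⟩ := IsArtinian.monotone_stabilizes f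
  have h1 : I ^ n • (⊤ : Submodule W M) = I ^ (n + 1) • (⊤ : Submodule W M) :=
    OrderDual.toDual.injective (hn (n + 1) (Nat.le_succ n))
  have h2 : I ^ n • (⊤ : Submodule W M) = ⊥ := by
    apply Submodule.eq_bot_of_le_smul_of_le_jacobson_bot I _ (IsNoetherian.noetherian _) _ hI
    conv_lhs => rw [h1]
    rw [pow_succ', Submodule.mul_smul]
  refine ⟨n, fun x => ?_⟩
  have hmem : π ^ n • x ∈ I ^ n • (⊤ : Submodule W M) :=
    Submodule.smul_mem_smul
      (Ideal.pow_mem_pow (by rw [hIdef]; exact Ideal.mem_span_singleton_self π) n)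
      Submodule.mem_top
  rw [h2] at hmem
  exact (Submodule.mem_bot W).mp hmem

theorem exists_last_pow {π : W} {M : Type*} [AddCommGroup M] [Module W M] {x : M}
    (h : ∃ n : ℕ, π ^ n • x = 0) (hx : x ≠ 0) :
    ∃ e : ℕ, π ^ e • x ≠ 0 ∧ π ^ (e + 1) • x = 0 := by
  classical
  have hm := Nat.find_spec h
  have hmin := fun k => Nat.find_min h (m := k)
  cases hk : Nat.find h with
  | zero => rw [hk, pow_zero, one_smul] at hm; exact absurd hm hx
  | succ e => exact ⟨e, hmin e (by omega), by rw [← hk]; exact hm⟩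

/-- A pure map into a finitely generated `π`-power torsion module over a PID has a
complemented range. -/
theorem exists_isCompl_of_pure [IsDomain W] [IsPrincipalIdealRing W] {π : W}
    (hπ : Irreducible π)
    {A : Type*} {B : Type v} [AddCommGroup A] [Module W A] [AddCommGroup B] [Module W B]
    [Module.Finite W B] (htors : ∀ x : B, ∃ n : ℕ, π ^ n • x = 0)
    (f : A →ₗ[W] B)
    (hpure : ∀ (n : ℕ) (x : A), (∃ y : B, π ^ n • y = f x) → ∃ x' : A, π ^ n • x' = x) :
    ∃ Q : Submodule W B, IsCompl (LinearMap.range f) Q := by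
  classical
  have htC : Module.IsTorsion' (B ⧸ LinearMap.range f) (Submonoid.powers π) := by
    intro c
    obtain ⟨b, rfl⟩ := Submodule.Quotient.mk_surjective (LinearMap.range f) c
    obtain ⟨n, hn⟩ := htors b
    refine ⟨⟨π ^ n, n, rfl⟩, ?_⟩
    show π ^ n • Submodule.Quotient.mk b = (0 : B ⧸ LinearMap.range f)
    rw [← Submodule.Quotient.mk_smul, hn, Submodule.Quotient.mk_zero]
  obtain ⟨d, k, ⟨e⟩⟩ := Module.torsion_by_prime_power_decomposition hπ htC
  have hlift : ∀ j : Fin d, ∃ z : B, π ^ k j • z = 0 ∧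
      (LinearMap.range f).mkQ z =
        e.symm (DirectSum.lof W (Fin d) (fun j => W ⧸ Submodule.span W {π ^ k j}) j
          (Submodule.Quotient.mk 1)) := by
    intro j
    obtain ⟨c, hc⟩ : ∃ c : B ⧸ LinearMap.range f, c =
        e.symm (DirectSum.lof W (Fin d) (fun j => W ⧸ Submodule.span W {π ^ k j}) j
          (Submodule.Quotient.mk 1)) := ⟨_, rfl⟩
    rw [← hc]
    have hc0 : π ^ k j • c = 0 := by
      rw [hc, ← map_smul, ← map_smul, ← Submodule.Quotient.mk_smul, smul_eq_mul, mul_one,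
        (Submodule.Quotient.mk_eq_zero _).mpr (Submodule.mem_span_singleton_self _), map_zero,
        map_zero]
    obtain ⟨w, hw⟩ := Submodule.mkQ_surjective (LinearMap.range f) c
    have hwR : π ^ k j • w ∈ LinearMap.range f := by
      rw [← Submodule.Quotient.mk_eq_zero, Submodule.Quotient.mk_smul]
      rw [← Submodule.mkQ_apply, hw, hc0]
    obtain ⟨a, ha⟩ := LinearMap.mem_range.mp hwR
    obtain ⟨a', ha'⟩ := hpure (k j) a ⟨w, ha.symm⟩
    refine ⟨w - f a', ?_, ?_⟩
    · rw [smul_sub, ← map_smul, ha', ha, sub_self]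
    · rw [map_sub, hw, sub_eq_self]
      exact (Submodule.Quotient.mk_eq_zero _).mpr (LinearMap.mem_range.mpr ⟨a', rfl⟩)
  choose z hz0 hzq using hlift
  obtain ⟨s, hs⟩ : ∃ s : (DirectSum (Fin d) fun j => W ⧸ Submodule.span W {π ^ k j}) →ₗ[W] B,
      s = DirectSum.toModule W (Fin d) B fun j =>
        Submodule.liftQSpanSingleton (π ^ k j) (LinearMap.toSpanSingleton W B (z j)) (hz0 j) :=
    ⟨_, rfl⟩
  have hqs : (LinearMap.range f).mkQ.comp s = e.symm.toLinearMap := by
    apply DirectSum.linearMap_ext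
    intro j
    apply Submodule.linearMap_qext
    apply LinearMap.ext_ring
    rw [hs]
    simp only [LinearMap.comp_apply, DirectSum.toModule_lof, Submodule.mkQ_apply,
      LinearEquiv.coe_coe]
    erw [Submodule.liftQSpanSingleton_apply]
    rw [LinearMap.toSpanSingleton_apply, one_smul]
    exact hzq j
  have hqs' : ∀ t, (LinearMap.range f).mkQ (s t) = e.symm t := fun t => LinearMap.congr_fun hqs t
  refine ⟨LinearMap.range (s.comp e.toLinearMap), ?_⟩
  constructor
  · rw [Submodule.disjoint_def]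
    intro x hxR hxQ
    obtain ⟨c, rfl⟩ := LinearMap.mem_range.mp hxQ
    have h1 : (LinearMap.range f).mkQ (s (e c)) = 0 :=
      (Submodule.Quotient.mk_eq_zero _).mpr hxR
    have h2 : (LinearMap.range f).mkQ (s (e c)) = c := (hqs' (e c)).trans (e.symm_apply_apply c)
    rw [h2] at h1
    rw [h1]
    simp
  · rw [Submodule.codisjoint_iff_exists_add_eq]
    intro b
    refine ⟨b - s (e ((LinearMap.range f).mkQ b)), s (e ((LinearMap.range f).mkQ b)), ?_,
      LinearMap.mem_range.mpr ⟨(LinearMap.range f).mkQ b, rfl⟩, sub_add_cancel _ _⟩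
    have h3 : (LinearMap.range f).mkQ (b - s (e ((LinearMap.range f).mkQ b))) = 0 := by
      rw [map_sub, hqs', e.symm_apply_apply, sub_self]
    exact (Submodule.Quotient.mk_eq_zero _).mp h3

end Gen

section Sys

variable {W : Type u} [CommRing W] (σ : W →+* W) (π : W) (r : ℕ)
  (N : ℕ → Type v) [∀ i, AddCommGroup (N i)] [∀ i, Module W (N i)]
  (α : ∀ i, N (i + 1) →ₗ[W] N i) (φ : ∀ i, N i →ₛₗ[σ] N 0)

/-- extension by zero of a family indexed by `Fin r`. -/
def ext1 : ((j : Fin r) → N (j + 1)) →ₗ[W] ((i : ℕ) → N (i + 1)) :=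
  LinearMap.pi fun i => if h : i < r then LinearMap.proj (⟨i, h⟩ : Fin r) else 0

def res1 : ((i : ℕ) → N (i + 1)) →ₗ[W] ((j : Fin r) → N (j + 1)) :=
  LinearMap.pi fun j => LinearMap.proj (j : ℕ)

def res0 : ((i : ℕ) → N i) →ₗ[W] ((j : Fin (r + 1)) → N j) :=
  LinearMap.pi fun j => LinearMap.proj (j : ℕ)

def ext0 (Y : (j : Fin (r + 1)) → N j) : (i : ℕ) → N i :=
  fun i => if h : i < r + 1 then Y ⟨i, h⟩ else 0

def yComp : (i : ℕ) → (((i : ℕ) → N (i + 1)) →ₗ[W] N i)
  | 0 => (α 0).comp (LinearMap.proj 0)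
  | (i + 1) => (α (i + 1)).comp (LinearMap.proj (i + 1)) - π • LinearMap.proj i

def yOf : ((i : ℕ) → N (i + 1)) →ₗ[W] ((i : ℕ) → N i) := LinearMap.pi (yComp π N α)

def iota : ((j : Fin r) → N (j + 1)) →ₗ[W] ((j : Fin (r + 1)) → N j) :=
  (res0 (W := W) r N).comp ((yOf π N α).comp (ext1 (W := W) r N))

def Phi : ((j : Fin (r + 1)) → N j) →ₛₗ[σ] N 0 :=
  ∑ j : Fin (r + 1), (φ j).comp (LinearMap.proj j : ((j : Fin (r + 1)) → N j) →ₗ[W] N j)

theorem ext1_res1 (z : (i : ℕ) → N (i + 1)) (hz : ∀ i, r ≤ i → z i = 0) :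
    ext1 (W := W) r N (res1 (W := W) r N z) = z := by
  funext i
  by_cases h : i < r
  · simp [ext1, res1, h]
  · simp [ext1, h, hz i (not_lt.mp h)]

theorem yOf_zero (z : (i : ℕ) → N (i + 1)) : yOf π N α z 0 = α 0 (z 0) := rfl

theorem yOf_succ (z : (i : ℕ) → N (i + 1)) (i : ℕ) :
    yOf π N α z (i + 1) = α (i + 1) (z (i + 1)) - π • z i := rfl

theorem ext0_apply (Y : (j : Fin (r + 1)) → N j) (j : Fin (r + 1)) :
    ext0 r N Y j = Y j := by
  unfold ext0
  rw [dif_pos j.2]

theorem ext0_zero (Y : (j : Fin (r + 1)) → N j) (i : ℕ) (h : r < i) : ext0 r N Y i = 0 := by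
  unfold ext0
  rw [dif_neg (by omega)]

theorem Phi_apply (Y : (j : Fin (r + 1)) → N j) :
    Phi σ r N φ Y = ∑ j : Fin (r + 1), φ j (Y j) := by
  simp [Phi, LinearMap.sum_apply]

theorem iota_injective (hσ : Function.Bijective σ)
    (hfl : ∀ i, IsFiniteLength W (N i))
    (hsurj : ∀ m : N 0, ∃ y : (i : ℕ) → N i, (∀ i, r < i → y i = 0) ∧
      (Finset.range (r + 1)).sum (fun i => φ i (y i)) = m)
    (hker : ∀ y : (i : ℕ) → N i, (∀ i, r < i → y i = 0) →
      (Finset.range (r + 1)).sum (fun i => φ i (y i)) = 0 →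
        ∃ z : (i : ℕ) → N (i + 1), (∀ i, r ≤ i → z i = 0) ∧
          y 0 = α 0 (z 0) ∧ ∀ i, y (i + 1) = α (i + 1) (z (i + 1)) - π • z i) :
    Function.Injective (iota π r N α) := by
  haveI : ∀ i, IsNoetherian W (N i) := fun i =>
    (isFiniteLength_iff_isNoetherian_isArtinian.mp (hfl i)).1
  haveI : ∀ i, IsArtinian W (N i) := fun i =>
    (isFiniteLength_iff_isNoetherian_isArtinian.mp (hfl i)).2
  have hΦsurj : Function.Surjective (Phi σ r N φ) := by
    intro m
    obtain ⟨y, -, hy⟩ := hsurj m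
    refine ⟨res0 (W := W) r N y, ?_⟩
    rw [Phi_apply, ← hy, Finset.sum_range]
    rfl
  have hker' : LinearMap.ker (Phi σ r N φ) ≤ LinearMap.range (iota π r N α) := by
    intro Y hY
    rw [LinearMap.mem_ker, Phi_apply] at hY
    obtain ⟨z, hz0, hz1, hz2⟩ := hker (ext0 r N Y) (ext0_zero r N Y) (by
      rw [Finset.sum_range]
      simpa only [ext0_apply] using hY)
    refine LinearMap.mem_range.mpr ⟨res1 (W := W) r N z, ?_⟩
    funext j
    show yOf π N α (ext1 (W := W) r N (res1 (W := W) r N z)) j = Y j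
    rw [ext1_res1 (W := W) r N z hz0, ← ext0_apply r N Y j]
    obtain ⟨jv, hj⟩ := j
    cases jv with
    | zero => exact hz1.symm
    | succ i => exact (hz2 i).symm
  have e1 := Module.length_eq_add_of_exact (LinearMap.ker (Phi σ r N φ)).subtype
    (LinearMap.ker (Phi σ r N φ)).mkQ (Submodule.injective_subtype _)
    (Submodule.mkQ_surjective _) (LinearMap.exact_subtype_mkQ _)
  have e2 : Module.length W (((j : Fin (r + 1)) → N j) ⧸ LinearMap.ker (Phi σ r N φ))
      = Module.length W (N 0) := by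
    refine length_eq_of_semilinear_bijective hσ.surjective
      ((LinearMap.ker (Phi σ r N φ)).liftQ (Phi σ r N φ) le_rfl) ⟨?_, ?_⟩
    · rw [← LinearMap.ker_eq_bot]
      exact Submodule.ker_liftQ_eq_bot _ _ _ le_rfl
    · intro m
      obtain ⟨Y, hY⟩ := hΦsurj m
      exact ⟨(LinearMap.ker (Phi σ r N φ)).mkQ Y, hY⟩
  have e3 := Module.length_eq_add_of_exact (LinearMap.ker (iota π r N α)).subtype
    (iota π r N α).rangeRestrict (Submodule.injective_subtype _)
    (LinearMap.surjective_rangeRestrict _)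
    (LinearMap.exact_iff.mpr (by rw [LinearMap.ker_rangeRestrict, Submodule.range_subtype]))
  have e4 : Module.length W (LinearMap.ker (Phi σ r N φ))
      ≤ Module.length W (LinearMap.range (iota π r N α)) :=
    Module.length_le_of_injective (Submodule.inclusion hker')
      (Submodule.inclusion_injective hker')
  have e5 : Module.length W ((j : Fin (r + 1)) → N j)
      = ∑ j : Fin (r + 1), Module.length W (N j) :=
    Module.length_pi_of_fintype W (fun j : Fin (r + 1) => N j)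
  have e6 : Module.length W ((j : Fin r) → N (j + 1))
      = ∑ j : Fin r, Module.length W (N (j + 1)) :=
    Module.length_pi_of_fintype W (fun j : Fin r => N (j + 1))
  have e7 : ∑ j : Fin (r + 1), Module.length W (N j)
      = Module.length W (N 0) + ∑ j : Fin r, Module.length W (N (j + 1)) :=
    Fin.sum_univ_succ (fun j : Fin (r + 1) => Module.length W (N j))
  have f0 : Module.length W (N 0) ≠ ⊤ := Module.length_ne_top
  have f2 : Module.length W (LinearMap.range (iota π r N α)) ≠ ⊤ := Module.length_ne_top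
  have f3 : Module.length W (LinearMap.ker (iota π r N α)) ≠ ⊤ := Module.length_ne_top
  have f4 : Module.length W (LinearMap.ker (Phi σ r N φ)) ≠ ⊤ := Module.length_ne_top
  have hc : Module.length W (LinearMap.ker (iota π r N α)) = 0 := by
    rw [e5, e7, ← e6, e2, e3] at e1
    obtain ⟨a, ha⟩ := ENat.ne_top_iff_exists.mp f0
    obtain ⟨c, hc⟩ := ENat.ne_top_iff_exists.mp f3
    obtain ⟨d, hd⟩ := ENat.ne_top_iff_exists.mp f2
    obtain ⟨kk, hkk⟩ := ENat.ne_top_iff_exists.mp f4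
    rw [← ha, ← hc, ← hd, ← hkk] at e1
    rw [← hd, ← hkk] at e4
    rw [← hc]
    norm_cast at e1 e4 ⊢
    omega
  have hsub : Subsingleton (LinearMap.ker (iota π r N α)) := Module.length_eq_zero_iff.mp hc
  exact LinearMap.ker_eq_bot.mp (Submodule.subsingleton_iff_eq_bot.mp hsub)

theorem alpha_injective_of_iota (hι : Function.Injective (iota π r N α))
    (htors : ∀ (i : ℕ) (x : N i), ∃ n : ℕ, π ^ n • x = 0) (i : ℕ) (hi : i < r) :
    Function.Injective (α i) := by
  classical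
  rw [injective_iff_map_eq_zero]
  intro x hx
  by_contra hne
  obtain ⟨e, he1, he2⟩ := exists_last_pow (htors (i + 1) x) hne
  obtain ⟨x', hx'⟩ : ∃ x' : N (i + 1), x' = π ^ e • x := ⟨_, rfl⟩
  have h1 : α i x' = 0 := by rw [hx', map_smul, hx, smul_zero]
  have h2 : π • x' = 0 := by rw [hx', smul_smul, ← pow_succ']; exact he2
  obtain ⟨z, hzdef⟩ : ∃ z : (j : ℕ) → N (j + 1), z = Pi.single i x' := ⟨_, rfl⟩
  have hzi : z i = x' := by rw [hzdef]; exact Pi.single_eq_same (M := fun j => N (j + 1)) i x'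
  have hzne : ∀ j, j ≠ i → z j = 0 := fun j hj => by
    rw [hzdef]; exact Pi.single_eq_of_ne (M := fun j => N (j + 1)) hj x'
  have hzα : ∀ j, α j (z j) = 0 := by
    intro j
    by_cases hj : j = i
    · subst hj; rw [hzi, h1]
    · rw [hzne j hj, map_zero]
  have hzπ : ∀ j, π • z j = 0 := by
    intro j
    by_cases hj : j = i
    · subst hj; rw [hzi, h2]
    · rw [hzne j hj, smul_zero]
  have hz0 : ∀ j, r ≤ j → z j = 0 := fun j hj => hzne j (by omega)
  have hy : yOf π N α z = 0 := by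
    funext j
    cases j with
    | zero => exact hzα 0
    | succ j =>
      show α (j + 1) (z (j + 1)) - π • z j = 0
      rw [hzα, hzπ, sub_zero]
  have h3 : iota π r N α (res1 (W := W) r N z) = 0 := by
    show res0 (W := W) r N (yOf π N α (ext1 (W := W) r N (res1 (W := W) r N z))) = 0
    rw [ext1_res1 (W := W) r N z hz0, hy, map_zero]
  have h4 : res1 (W := W) r N z = 0 := hι (h3.trans (map_zero _).symm)
  have h5 : z i = 0 := congrFun h4 ⟨i, hi⟩
  rw [hzi, hx'] at h5
  exact he1 h5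

theorem alpha_injective [IsLocalRing W] (hσ : Function.Bijective σ) (hπ : ¬ IsUnit π)
    (hfl : ∀ i, IsFiniteLength W (N i))
    (hsurj : ∀ m : N 0, ∃ y : (i : ℕ) → N i, (∀ i, r < i → y i = 0) ∧
      (Finset.range (r + 1)).sum (fun i => φ i (y i)) = m)
    (hker : ∀ y : (i : ℕ) → N i, (∀ i, r < i → y i = 0) →
      (Finset.range (r + 1)).sum (fun i => φ i (y i)) = 0 →
        ∃ z : (i : ℕ) → N (i + 1), (∀ i, r ≤ i → z i = 0) ∧
          y 0 = α 0 (z 0) ∧ ∀ i, y (i + 1) = α (i + 1) (z (i + 1)) - π • z i)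
    (i : ℕ) (hi : i < r) : Function.Injective (α i) :=
  alpha_injective_of_iota π r N α (iota_injective σ π r N α φ hσ hfl hsurj hker)
    (fun j x => by
      obtain ⟨n, hn⟩ := exists_pow_smul_eq_zero hπ (hfl j)
      exact ⟨n, hn x⟩) i hi

section Quot

variable (n : ℕ)

/-- the submodule `π^n N_i`. -/
def P (i : ℕ) : Submodule W (N i) := LinearMap.range (LinearMap.lsmul W (N i) (π ^ n))

theorem mem_P {i : ℕ} {x : N i} : x ∈ P π N n i ↔ ∃ y : N i, π ^ n • y = x := Iff.rfl

/-- the quotient `N_i / π^n N_i`. -/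
abbrev Qn (i : ℕ) : Type v := N i ⧸ P π N n i

def αbar (i : ℕ) : Qn π N n (i + 1) →ₗ[W] Qn π N n i :=
  Submodule.mapQ _ _ (α i) (by
    intro x hx
    obtain ⟨y, rfl⟩ := (mem_P π N n).mp hx
    show α i (π ^ n • y) ∈ P π N n i
    exact (mem_P π N n).mpr ⟨α i y, (map_smul _ _ _).symm⟩)

def φbar (hσπ : σ π = π) (i : ℕ) : Qn π N n i →ₛₗ[σ] Qn π N n 0 :=
  Submodule.mapQ _ _ (φ i) (by
    intro x hx
    obtain ⟨y, rfl⟩ := (mem_P π N n).mp hx
    show φ i (π ^ n • y) ∈ P π N n 0
    refine (mem_P π N n).mpr ⟨φ i y, ?_⟩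
    rw [(φ i).map_smulₛₗ, map_pow, hσπ])

theorem αbar_mk (i : ℕ) (x : N (i + 1)) :
    αbar π N α n i (Submodule.Quotient.mk x) = Submodule.Quotient.mk (α i x) := rfl

theorem φbar_mk (hσπ : σ π = π) (i : ℕ) (x : N i) :
    φbar σ π N φ n hσπ i (Submodule.Quotient.mk x) = Submodule.Quotient.mk (φ i x) := rfl

theorem mk_pow_smul (i : ℕ) (w : N i) :
    (Submodule.Quotient.mk (π ^ n • w) : Qn π N n i) = 0 :=
  (Submodule.Quotient.mk_eq_zero _).mpr ((mem_P π N n).mpr ⟨w, rfl⟩)

theorem quot_hsurj (hσπ : σ π = π)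
    (hsurj : ∀ m : N 0, ∃ y : (i : ℕ) → N i, (∀ i, r < i → y i = 0) ∧
      (Finset.range (r + 1)).sum (fun i => φ i (y i)) = m) :
    ∀ m : Qn π N n 0, ∃ y : (i : ℕ) → Qn π N n i, (∀ i, r < i → y i = 0) ∧
      (Finset.range (r + 1)).sum (fun i => φbar σ π N φ n hσπ i (y i)) = m := by
  intro m
  obtain ⟨m, rfl⟩ := Submodule.Quotient.mk_surjective _ m
  obtain ⟨y, hy0, hy⟩ := hsurj m
  refine ⟨fun i => Submodule.Quotient.mk (y i), fun i hi => ?_, ?_⟩
  · show (Submodule.Quotient.mk (y i) : Qn π N n i) = 0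
    rw [hy0 i hi]; rfl
  · rw [← hy]
    simp only [φbar_mk]
    exact (map_sum (Submodule.mkQ (P π N n 0)) (fun i => φ i (y i))
      (Finset.range (r + 1))).symm

theorem quot_hker (hσπ : σ π = π)
    (hsurj : ∀ m : N 0, ∃ y : (i : ℕ) → N i, (∀ i, r < i → y i = 0) ∧
      (Finset.range (r + 1)).sum (fun i => φ i (y i)) = m)
    (hker : ∀ y : (i : ℕ) → N i, (∀ i, r < i → y i = 0) →
      (Finset.range (r + 1)).sum (fun i => φ i (y i)) = 0 →
        ∃ z : (i : ℕ) → N (i + 1), (∀ i, r ≤ i → z i = 0) ∧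
          y 0 = α 0 (z 0) ∧ ∀ i, y (i + 1) = α (i + 1) (z (i + 1)) - π • z i) :
    ∀ y : (i : ℕ) → Qn π N n i, (∀ i, r < i → y i = 0) →
      (Finset.range (r + 1)).sum (fun i => φbar σ π N φ n hσπ i (y i)) = 0 →
        ∃ z : (i : ℕ) → Qn π N n (i + 1), (∀ i, r ≤ i → z i = 0) ∧
          y 0 = αbar π N α n 0 (z 0) ∧
            ∀ i, y (i + 1) = αbar π N α n (i + 1) (z (i + 1)) - π • z i := by
  intro ybar hy0 hysum
  classical
  choose y1 hy1 using fun i => Submodule.Quotient.mk_surjective (P π N n i) (ybar i)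
  obtain ⟨y, hydef⟩ : ∃ y : (i : ℕ) → N i, y = fun i => if i ≤ r then y1 i else 0 := ⟨_, rfl⟩
  have hyz : ∀ i, r < i → y i = 0 := fun i hi => by
    rw [hydef]; exact if_neg (by omega)
  have hyle : ∀ i, i ≤ r → y i = y1 i := fun i hi => by
    rw [hydef]; exact if_pos hi
  have hymk : ∀ i, (Submodule.Quotient.mk (y i) : Qn π N n i) = ybar i := by
    intro i
    by_cases hi : i ≤ r
    · rw [hyle i hi]; exact hy1 i
    · rw [hyz i (by omega), hy0 i (by omega)]; rfl
  have hsum : (Finset.range (r + 1)).sum (fun i => φ i (y i)) ∈ P π N n 0 := by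
    rw [← Submodule.Quotient.mk_eq_zero, ← hysum, ← Submodule.mkQ_apply, map_sum]
    refine Finset.sum_congr rfl fun i _ => ?_
    rw [← hymk i]; rfl
  obtain ⟨m, hm⟩ := (mem_P π N n).mp hsum
  obtain ⟨y', hy'0, hy'⟩ := hsurj m
  have key : ∀ i, φ i (y i - π ^ n • y' i) = φ i (y i) - π ^ n • φ i (y' i) := fun i => by
    rw [map_sub, (φ i).map_smulₛₗ, map_pow, hσπ]
  obtain ⟨z, hz0, hz1, hz2⟩ := hker (fun i => y i - π ^ n • y' i)
    (fun i hi => by
      show y i - π ^ n • y' i = 0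
      rw [hyz i hi, hy'0 i hi, smul_zero, sub_zero])
    (by
      show (Finset.range (r + 1)).sum (fun i => φ i (y i - π ^ n • y' i)) = 0
      simp only [key]
      rw [Finset.sum_sub_distrib, ← Finset.smul_sum, hy', hm, sub_self])
  have hmk : ∀ i, (Submodule.Quotient.mk (y i - π ^ n • y' i) : Qn π N n i) = ybar i :=
    fun i => by
      rw [Submodule.Quotient.mk_sub, mk_pow_smul, sub_zero, hymk]
  refine ⟨fun i => Submodule.Quotient.mk (z i), fun i hi => ?_, ?_, fun i => ?_⟩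
  · show (Submodule.Quotient.mk (z i) : Qn π N n (i + 1)) = 0
    rw [hz0 i hi]; rfl
  · exact (hmk 0).symm.trans (congrArg (Submodule.Quotient.mk (p := P π N n 0)) hz1)
  · exact (hmk (i + 1)).symm.trans
      (congrArg (Submodule.Quotient.mk (p := P π N n (i + 1))) (hz2 i))

end Quot

theorem main18418 [IsDomain W] [IsPrincipalIdealRing W] [IsLocalRing W]
    (hσ : Function.Bijective σ) (hπ : Irreducible π) (hσπ : σ π = π)
    (hfl : ∀ i, IsFiniteLength W (N i))
    (hsurj : ∀ m : N 0, ∃ y : (i : ℕ) → N i, (∀ i, r < i → y i = 0) ∧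
      (Finset.range (r + 1)).sum (fun i => φ i (y i)) = m)
    (hker : ∀ y : (i : ℕ) → N i, (∀ i, r < i → y i = 0) →
      (Finset.range (r + 1)).sum (fun i => φ i (y i)) = 0 →
        ∃ z : (i : ℕ) → N (i + 1), (∀ i, r ≤ i → z i = 0) ∧
          y 0 = α 0 (z 0) ∧ ∀ i, y (i + 1) = α (i + 1) (z (i + 1)) - π • z i)
    (i : ℕ) (hi : i < r) :
    Function.Injective (α i) ∧
      ∃ Q : Submodule W (N i), IsCompl (LinearMap.range (α i)) Q := by
  have hinj := alpha_injective σ π r N α φ hσ hπ.not_isUnit hfl hsurj hker i hi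
  refine ⟨hinj, ?_⟩
  haveI : IsNoetherian W (N i) := (isFiniteLength_iff_isNoetherian_isArtinian.mp (hfl i)).1
  have htors : ∀ x : N i, ∃ n : ℕ, π ^ n • x = 0 := fun x => by
    obtain ⟨n, hn⟩ := exists_pow_smul_eq_zero hπ.not_isUnit (hfl i)
    exact ⟨n, hn x⟩
  apply exists_isCompl_of_pure hπ htors (α i)
  rintro n x ⟨y, hy⟩
  have hq := alpha_injective σ π r (Qn π N n) (αbar π N α n) (φbar σ π N φ n hσπ) hσ
    hπ.not_isUnit
    (fun j => (hfl j).of_surjective (f := (P π N n j).mkQ) (Submodule.mkQ_surjective _))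
    (quot_hsurj σ π r N φ n hσπ hsurj) (quot_hker σ π r N α φ n hσπ hsurj hker) i hi
  have h0 : αbar π N α n i (Submodule.Quotient.mk x) = 0 :=
    (Submodule.Quotient.mk_eq_zero _).mpr ((mem_P π N n).mpr ⟨y, hy⟩)
  have h1 : (Submodule.Quotient.mk x : Qn π N n (i + 1)) = 0 :=
    hq (h0.trans (map_zero _).symm)
  exact (mem_P π N n).mp ((Submodule.Quotient.mk_eq_zero _).mp h1)

end Sys

end Groth.Agent.Lib.FonLafH1
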