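import Mathlib
import Groth.Prelude.Def_CAlgX
import Groth.Prelude.Def_EGA41

/-!
# EGA 0_IV 19.7.1: formal smoothness of a formally projective adic algebra is detected modulo `𝔞`
(helper3)

`B` a formally projective topological `A`-module (`A` `𝔞`-adic, `B` `𝔟`-adic).  Then `B` is
formally smooth over `A` iff `B/𝔞B` is formally smooth over `A/𝔞`.
APPEND-ONLY once landed.
-/

set_option autoImplicit false

namespace Groth.Agent.Lib.FormProjFSH3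

universe u

section General

theorem exists_linear_lift {A M₁ M₂ M₃ : Type*} [CommRing A] [AddCommGroup M₁] [AddCommGroup M₂]
    [AddCommGroup M₃] [Module A M₁] [Module A M₂] [Module A M₃]
    (g : M₁ →ₗ[A] M₂) (hg : Function.Surjective g) (w : M₁ →ₗ[A] M₃)
    (h : ∀ x, g x = 0 → w x = 0) :
    ∃ w' : M₂ →ₗ[A] M₃, ∀ x, w' (g x) = w x := by
  have hle : LinearMap.ker g ≤ LinearMap.ker w :=
    fun x hx => LinearMap.mem_ker.2 (h x (LinearMap.mem_ker.1 hx))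
  refine ⟨(Submodule.liftQ (LinearMap.ker g) w hle) ∘ₗ
    (g.quotKerEquivOfSurjective hg).symm.toLinearMap, fun x => ?_⟩
  have h1 : (g.quotKerEquivOfSurjective hg).symm (g x) = Submodule.Quotient.mk x := by
    rw [LinearEquiv.symm_apply_eq]
    rfl
  rw [LinearMap.comp_apply, LinearEquiv.coe_coe, h1, Submodule.liftQ_apply]

end General

variable {A B : Type u} [CommRing A] [CommRing B] [Algebra A B] (𝔞 : Ideal A) (𝔟 : Ideal B)

/-- formal projectivity of the topological `A`-module `B` -/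
def FormProj : Prop :=
  ∀ (n : ℕ) (P Q : Type u) [AddCommGroup P] [Module A P] [AddCommGroup Q] [Module A Q],
    (∀ a ∈ 𝔞 ^ n, ∀ y : P, a • y = 0) → (∀ a ∈ 𝔞 ^ n, ∀ y : Q, a • y = 0) →
    ∀ f : P →ₗ[A] Q, Function.Surjective f → ∀ v : B →ₗ[A] Q, (∃ m : ℕ, ∀ x ∈ 𝔟 ^ m, v x = 0) →
      ∃ w : B →ₗ[A] P, (∃ m : ℕ, ∀ x ∈ 𝔟 ^ m, w x = 0) ∧ f ∘ₗ w = v

/-- the easy direction: reduction modulo `𝔞` -/
theorem quot_of_adic (h : EGA41.IsFormallySmoothAdic A 𝔞 B 𝔟) :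
    EGA41.IsFormallySmoothAdic (A ⧸ 𝔞) ⊥ (B ⧸ 𝔞.map (algebraMap A B))
      (𝔟.map (Ideal.Quotient.mk (𝔞.map (algebraMap A B)))) := by
  intro C _ _ J hJ _ u₀ ⟨k, hk⟩
  letI algAC : Algebra A C := ((algebraMap (A ⧸ 𝔞) C).comp (Ideal.Quotient.mk 𝔞)).toAlgebra
  haveI : IsScalarTower A (A ⧸ 𝔞) C := IsScalarTower.of_algebraMap_eq (fun _ => rfl)
  have h0 : ∀ a ∈ 𝔞, algebraMap A C a = 0 := by
    intro a ha
    show algebraMap (A ⧸ 𝔞) C (Ideal.Quotient.mk 𝔞 a) = 0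
    rw [Ideal.Quotient.eq_zero_iff_mem.2 ha, map_zero]
  have h1 : (𝔞 ^ 1).map (algebraMap A C) = ⊥ := by
    rw [pow_one, eq_bot_iff, Ideal.map_le_iff_le_comap]
    intro a ha
    rw [Ideal.mem_comap, h0 a ha]
    exact zero_mem _
  let u : B →ₐ[A] C ⧸ J :=
    (u₀.restrictScalars A).comp (Ideal.Quotient.mkₐ A (𝔞.map (algebraMap A B)))
  have hu : ∀ x ∈ 𝔟 ^ k, u x = 0 := by
    intro x hx
    show u₀ (Ideal.Quotient.mk _ x) = 0
    apply hk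
    rw [← Ideal.map_pow]
    exact Ideal.mem_map_of_mem _ hx
  obtain ⟨v, hv⟩ := h C J hJ ⟨1, h1⟩ u ⟨k, hu⟩
  have hv0 : ∀ b ∈ 𝔞.map (algebraMap A B), v b = 0 := by
    have hle : 𝔞.map (algebraMap A B) ≤ RingHom.ker v.toRingHom := by
      rw [Ideal.map_le_iff_le_comap]
      intro a ha
      show v (algebraMap A B a) = 0
      rw [v.commutes, h0 a ha]
    exact fun b hb => hle hb
  let v₀ : (B ⧸ 𝔞.map (algebraMap A B)) →ₐ[A] C := Ideal.Quotient.liftₐ _ v hv0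
  refine ⟨AlgHom.extendScalarsOfSurjective (Ideal.Quotient.mk_surjective (I := 𝔞)) v₀, ?_⟩
  refine AlgHom.ext fun x => ?_
  obtain ⟨b, rfl⟩ := Ideal.Quotient.mk_surjective x
  exact AlgHom.congr_fun hv b

variable {𝔞 𝔟}

/-- The core case, with an abstract fibre product `D = (B/𝔟^M) ×_{S/N} S`. -/
theorem core_aux
    (H₀ : EGA41.IsFormallySmoothAdic (A ⧸ 𝔞) ⊥ (B ⧸ 𝔞.map (algebraMap A B))
      (𝔟.map (Ideal.Quotient.mk (𝔞.map (algebraMap A B)))))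
    (S : Type u) [CommRing S] [Algebra A S] (N : Ideal S)
    (hN2 : N * N = ⊥) (hNa : N * 𝔞.map (algebraMap A S) = ⊥)
    (u : B →ₐ[A] S ⧸ N) (M : ℕ) (u' : (B ⧸ 𝔟 ^ M) →ₐ[A] S ⧸ N)
    (hu' : ∀ b, u' (Ideal.Quotient.mk (𝔟 ^ M) b) = u b)
    (w : B →ₗ[A] S) (hwu : ∀ b, Ideal.Quotient.mk N (w b) = u b)
    (w' : (B ⧸ 𝔟 ^ M) →ₗ[A] S) (hw' : ∀ b, w' (Ideal.Quotient.mk (𝔟 ^ M) b) = w b)
    (D : Type u) [CommRing D] [Algebra A D] (pr₁ : D →ₐ[A] B ⧸ 𝔟 ^ M) (pr₂ : D →ₐ[A] S)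
    (hD : ∀ d : D, u' (pr₁ d) = Ideal.Quotient.mk N (pr₂ d))
    (hext : ∀ d₁ d₂ : D, pr₁ d₁ = pr₁ d₂ → pr₂ d₁ = pr₂ d₂ → d₁ = d₂)
    (hpr₁ : Function.Surjective pr₁) :
    ∃ v : B →ₐ[A] S, (Ideal.Quotient.mkₐ A N).comp v = u := by
  classical
  have hpr₂N : ∀ d : D, pr₁ d = 0 → pr₂ d ∈ N := by
    intro d hd
    rw [← Ideal.Quotient.eq_zero_iff_mem, ← hD d, hd, map_zero]
  -- Step 3: `N_D ∩ 𝔞D = 0`
  let ρ : D →ₗ[A] S := pr₂.toLinearMap - w' ∘ₗ pr₁.toLinearMap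
  have hρ : ∀ d, ρ d = pr₂ d - w' (pr₁ d) := fun d => rfl
  have hρN : ∀ d, ρ d ∈ N := by
    intro d
    obtain ⟨b, hb⟩ := Ideal.Quotient.mk_surjective (pr₁ d)
    rw [hρ, ← Ideal.Quotient.eq_zero_iff_mem, map_sub, ← hD d, ← hb, hw', hwu, hu', sub_self]
  have hρa : ∀ d ∈ 𝔞.map (algebraMap A D), ρ d = 0 := by
    intro d hd
    have hd' : d ∈ (𝔞 • ⊤ : Submodule A D) := by
      rw [Ideal.smul_top_eq_map]
      exact hd
    refine Submodule.smul_induction_on hd' ?_ ?_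
    · intro a ha x _
      rw [map_smul, Algebra.smul_def, mul_comm]
      have h1 : ρ x * algebraMap A S a ∈ N * 𝔞.map (algebraMap A S) :=
        Ideal.mul_mem_mul (hρN x) (Ideal.mem_map_of_mem _ ha)
      rw [hNa] at h1
      exact (Submodule.mem_bot _).1 h1
    · intro x y hx hy
      rw [map_add, hx, hy, add_zero]
  have h4 : ∀ d : D, pr₁ d = 0 → d ∈ 𝔞.map (algebraMap A D) → d = 0 := by
    intro d h1 h2
    have h3 := hρa d h2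
    rw [hρ, h1, map_zero, sub_zero] at h3
    refine hext d 0 ?_ ?_
    · rw [h1, map_zero]
    · rw [h3, map_zero]
  -- Step 4: `D₀ = D/𝔞D`
  obtain ⟨𝔞D, h𝔞D⟩ : ∃ 𝔞D : Ideal D, 𝔞D = 𝔞.map (algebraMap A D) := ⟨_, rfl⟩
  obtain ⟨N₀, hN₀⟩ : ∃ N₀ : Ideal (D ⧸ 𝔞.map (algebraMap A D)),
      N₀ = (RingHom.ker pr₁.toRingHom).map (Ideal.Quotient.mk (𝔞.map (algebraMap A D))) := ⟨_, rfl⟩
  have hker2 : RingHom.ker pr₁.toRingHom * RingHom.ker pr₁.toRingHom = ⊥ := by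
    rw [eq_bot_iff, Ideal.mul_le]
    intro x hx y hy
    have hx1 : pr₁ x = 0 := hx
    have hy1 : pr₁ y = 0 := hy
    rw [Submodule.mem_bot]
    refine hext _ 0 ?_ ?_
    · rw [map_mul, hx1, zero_mul, map_zero]
    · rw [map_mul, map_zero]
      have h1 : pr₂ x * pr₂ y ∈ N * N := Ideal.mul_mem_mul (hpr₂N x hx1) (hpr₂N y hy1)
      rw [hN2] at h1
      exact (Submodule.mem_bot _).1 h1
  have hN₀2 : N₀ ^ 2 = ⊥ := by
    rw [hN₀, pow_two, ← Ideal.map_mul, hker2, Ideal.map_bot]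
  let q : D →+* (D ⧸ 𝔞.map (algebraMap A D)) ⧸ N₀ :=
    (Ideal.Quotient.mk N₀).comp (Ideal.Quotient.mk (𝔞.map (algebraMap A D)))
  have hq : RingHom.ker pr₁.toRingHom ≤ RingHom.ker q := by
    intro d hd
    rw [RingHom.mem_ker]
    show Ideal.Quotient.mk N₀ (Ideal.Quotient.mk (𝔞.map (algebraMap A D)) d) = 0
    rw [Ideal.Quotient.eq_zero_iff_mem, hN₀]
    exact Ideal.mem_map_of_mem _ hd
  let θ : (B ⧸ 𝔟 ^ M) →+* (D ⧸ 𝔞.map (algebraMap A D)) ⧸ N₀ :=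
    RingHom.liftOfRightInverse pr₁.toRingHom (Function.surjInv hpr₁)
      (Function.rightInverse_surjInv hpr₁) ⟨q, hq⟩
  have hθ : ∀ d : D, θ (pr₁ d) =
      Ideal.Quotient.mk N₀ (Ideal.Quotient.mk (𝔞.map (algebraMap A D)) d) :=
    fun d => RingHom.liftOfRightInverse_comp_apply _ _ _ ⟨q, hq⟩ d
  let ũ : B →ₐ[A] (D ⧸ 𝔞.map (algebraMap A D)) ⧸ N₀ :=
    { toRingHom := θ.comp (Ideal.Quotient.mk (𝔟 ^ M))
      commutes' := fun a => by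
        show θ (Ideal.Quotient.mk (𝔟 ^ M) (algebraMap A B a)) = _
        have h1 : Ideal.Quotient.mk (𝔟 ^ M) (algebraMap A B a) = pr₁ (algebraMap A D a) := by
          rw [pr₁.commutes]
          rfl
        rw [h1, hθ]
        rfl }
  have hũ : ∀ b, ũ b = θ (Ideal.Quotient.mk (𝔟 ^ M) b) := fun b => rfl
  have hũ0 : ∀ b ∈ 𝔞.map (algebraMap A B), ũ b = 0 := by
    have hle : 𝔞.map (algebraMap A B) ≤ RingHom.ker ũ.toRingHom := by
      rw [Ideal.map_le_iff_le_comap]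
      intro a ha
      show ũ (algebraMap A B a) = 0
      rw [ũ.commutes]
      show Ideal.Quotient.mk N₀ (Ideal.Quotient.mk (𝔞.map (algebraMap A D)) (algebraMap A D a)) = 0
      rw [Ideal.Quotient.eq_zero_iff_mem.2 (Ideal.mem_map_of_mem _ ha), map_zero]
    exact fun b hb => hle hb
  let u₀A : (B ⧸ 𝔞.map (algebraMap A B)) →ₐ[A] (D ⧸ 𝔞.map (algebraMap A D)) ⧸ N₀ :=
    Ideal.Quotient.liftₐ _ ũ hũ0
  let u₀ : (B ⧸ 𝔞.map (algebraMap A B)) →ₐ[A ⧸ 𝔞] (D ⧸ 𝔞.map (algebraMap A D)) ⧸ N₀ :=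
    AlgHom.extendScalarsOfSurjective (Ideal.Quotient.mk_surjective (I := 𝔞)) u₀A
  have hu₀ : ∀ b, u₀ (Ideal.Quotient.mk _ b) = θ (Ideal.Quotient.mk (𝔟 ^ M) b) := fun b => rfl
  have hu₀c : ∀ x ∈ (𝔟.map (Ideal.Quotient.mk (𝔞.map (algebraMap A B)))) ^ M, u₀ x = 0 := by
    intro x hx
    rw [← Ideal.map_pow] at hx
    obtain ⟨b, hb, rfl⟩ := (Ideal.mem_map_iff_of_surjective _ Ideal.Quotient.mk_surjective).1 hx
    rw [hu₀, Ideal.Quotient.eq_zero_iff_mem.2 hb, map_zero]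
  obtain ⟨s₀, hs₀⟩ := H₀ (D ⧸ 𝔞.map (algebraMap A D)) N₀ ⟨2, hN₀2⟩
    ⟨1, by rw [pow_one, Ideal.map_bot]⟩ u₀ ⟨M, hu₀c⟩
  have hσ : ∀ b : B, Ideal.Quotient.mk N₀ (s₀ (Ideal.Quotient.mk _ b)) =
      θ (Ideal.Quotient.mk (𝔟 ^ M) b) := by
    intro b
    have h1 := AlgHom.congr_fun hs₀ (Ideal.Quotient.mk _ b)
    rw [hu₀] at h1
    exact h1
  -- Step 5: the map `χ : B → D`
  have hex : ∀ b : B, ∃ d : D, pr₁ d = Ideal.Quotient.mk (𝔟 ^ M) b ∧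
      Ideal.Quotient.mk (𝔞.map (algebraMap A D)) d = s₀ (Ideal.Quotient.mk _ b) := by
    intro b
    obtain ⟨d', hd'⟩ := hpr₁ (Ideal.Quotient.mk (𝔟 ^ M) b)
    have h1 : s₀ (Ideal.Quotient.mk _ b) - Ideal.Quotient.mk (𝔞.map (algebraMap A D)) d' ∈ N₀ := by
      rw [← Ideal.Quotient.eq_zero_iff_mem, map_sub, hσ, ← hθ, hd', sub_self]
    rw [hN₀] at h1
    obtain ⟨n, hn, hn'⟩ := (Ideal.mem_map_iff_of_surjective _ Ideal.Quotient.mk_surjective).1 h1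
    have hn1 : pr₁ n = 0 := hn
    refine ⟨d' + n, ?_, ?_⟩
    · rw [map_add, hd', hn1, add_zero]
    · rw [map_add, hn']
      ring
  have huniq : ∀ d₁ d₂ : D, pr₁ d₁ = pr₁ d₂ →
      Ideal.Quotient.mk (𝔞.map (algebraMap A D)) d₁ =
        Ideal.Quotient.mk (𝔞.map (algebraMap A D)) d₂ → d₁ = d₂ := by
    intro d₁ d₂ h1 h2
    have h3 : d₁ - d₂ = 0 := by
      apply h4
      · rw [map_sub, h1, sub_self]
      · rw [← Ideal.Quotient.eq_zero_iff_mem, map_sub, h2, sub_self]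
    exact sub_eq_zero.1 h3
  choose χ hχ1 hχ2 using hex
  have χ_one : χ 1 = 1 := by
    apply huniq
    · rw [hχ1, map_one, map_one]
    · rw [hχ2, map_one, map_one, map_one]
  have χ_mul : ∀ a b, χ (a * b) = χ a * χ b := by
    intro a b
    apply huniq
    · rw [hχ1, map_mul, map_mul, hχ1, hχ1]
    · rw [hχ2, map_mul, map_mul, map_mul, hχ2, hχ2]
  have χ_zero : χ 0 = 0 := by
    apply huniq
    · rw [hχ1, map_zero, map_zero]
    · rw [hχ2, map_zero, map_zero, map_zero]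
  have χ_add : ∀ a b, χ (a + b) = χ a + χ b := by
    intro a b
    apply huniq
    · rw [hχ1, map_add, map_add, hχ1, hχ1]
    · rw [hχ2, map_add, map_add, map_add, hχ2, hχ2]
  have χ_alg : ∀ a : A, χ (algebraMap A B a) = algebraMap A D a := by
    intro a
    apply huniq
    · rw [hχ1, pr₁.commutes]
      rfl
    · rw [hχ2]
      have h1 : Ideal.Quotient.mk (𝔞.map (algebraMap A B)) (algebraMap A B a) =
          algebraMap (A ⧸ 𝔞) (B ⧸ 𝔞.map (algebraMap A B)) (Ideal.Quotient.mk 𝔞 a) := rfl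
      rw [h1, s₀.commutes]
      rfl
  let v : B →ₐ[A] S :=
    { toFun := fun b => pr₂ (χ b)
      map_one' := by rw [χ_one, map_one]
      map_mul' := fun a b => by rw [χ_mul, map_mul]
      map_zero' := by rw [χ_zero, map_zero]
      map_add' := fun a b => by rw [χ_add, map_add]
      commutes' := fun a => by
        show pr₂ (χ (algebraMap A B a)) = algebraMap A S a
        rw [χ_alg, pr₂.commutes] }
  refine ⟨v, AlgHom.ext fun b => ?_⟩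
  show Ideal.Quotient.mk N (pr₂ (χ b)) = u b
  rw [← hD, hχ1, hu']



/-- The core case: square-zero kernel killed by `𝔞`. -/
theorem core (hproj : FormProj 𝔞 𝔟)
    (H₀ : EGA41.IsFormallySmoothAdic (A ⧸ 𝔞) ⊥ (B ⧸ 𝔞.map (algebraMap A B))
      (𝔟.map (Ideal.Quotient.mk (𝔞.map (algebraMap A B)))))
    (S : Type u) [CommRing S] [Algebra A S] (N : Ideal S) (k : ℕ)
    (hk : (𝔞 ^ k).map (algebraMap A S) = ⊥)
    (hN : N * (N ⊔ 𝔞.map (algebraMap A S)) = ⊥)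
    (u : B →ₐ[A] S ⧸ N) (hu : ∃ m : ℕ, ∀ x ∈ 𝔟 ^ m, u x = 0) :
    ∃ v : B →ₐ[A] S, (Ideal.Quotient.mkₐ A N).comp v = u := by
  classical
  obtain ⟨m, hm⟩ := hu
  have hN2 : N * N = ⊥ := le_bot_iff.1 (hN ▸ Ideal.mul_mono_right le_sup_left)
  have hNa : N * 𝔞.map (algebraMap A S) = ⊥ := le_bot_iff.1 (hN ▸ Ideal.mul_mono_right le_sup_right)
  -- Step 1: an `A`-linear lift
  have hS : ∀ a ∈ 𝔞 ^ k, ∀ y : S, a • y = 0 := by
    intro a ha y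
    have h1 : algebraMap A S a ∈ (𝔞 ^ k).map (algebraMap A S) := Ideal.mem_map_of_mem _ ha
    rw [hk] at h1
    rw [Algebra.smul_def, (Submodule.mem_bot _).1 h1, zero_mul]
  have hSN : ∀ a ∈ 𝔞 ^ k, ∀ y : S ⧸ N, a • y = 0 := by
    intro a ha y
    obtain ⟨s, rfl⟩ := Ideal.Quotient.mk_surjective y
    show a • (Ideal.Quotient.mkₐ A N s) = 0
    rw [← map_smul, hS a ha, map_zero]
  obtain ⟨w, ⟨m', hm'⟩, hw⟩ := hproj k S (S ⧸ N) hS hSN (Ideal.Quotient.mkₐ A N).toLinearMap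
    Ideal.Quotient.mk_surjective u.toLinearMap ⟨m, hm⟩
  obtain ⟨M, hM⟩ : ∃ M : ℕ, M = max m m' := ⟨_, rfl⟩
  have hmM : ∀ x ∈ 𝔟 ^ M, u x = 0 := fun x hx =>
    hm x (Ideal.pow_le_pow_right (hM ▸ le_max_left _ _) hx)
  have hwM : ∀ x ∈ 𝔟 ^ M, w x = 0 := fun x hx =>
    hm' x (Ideal.pow_le_pow_right (hM ▸ le_max_right _ _) hx)
  have hwu : ∀ b, Ideal.Quotient.mk N (w b) = u b := fun b => LinearMap.congr_fun hw b
  -- Step 2: the quotient `B/𝔟^M` and the induced maps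
  let u' : (B ⧸ 𝔟 ^ M) →ₐ[A] S ⧸ N := Ideal.Quotient.liftₐ (𝔟 ^ M) u hmM
  have hu' : ∀ b, u' (Ideal.Quotient.mk (𝔟 ^ M) b) = u b := fun b => rfl
  obtain ⟨w', hw'⟩ : ∃ w' : (B ⧸ 𝔟 ^ M) →ₗ[A] S, ∀ b, w' (Ideal.Quotient.mk (𝔟 ^ M) b) = w b :=
    exists_linear_lift (Ideal.Quotient.mkₐ A (𝔟 ^ M)).toLinearMap Ideal.Quotient.mk_surjective w
      (fun x hx => hwM x (Ideal.Quotient.eq_zero_iff_mem.1 hx))
  -- the fibre product
  let D : Subalgebra A ((B ⧸ 𝔟 ^ M) × S) :=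
    AlgHom.equalizer (u'.comp (AlgHom.fst A (B ⧸ 𝔟 ^ M) S))
      ((Ideal.Quotient.mkₐ A N).comp (AlgHom.snd A (B ⧸ 𝔟 ^ M) S))
  let pr₁ : D →ₐ[A] B ⧸ 𝔟 ^ M := (AlgHom.fst A (B ⧸ 𝔟 ^ M) S).comp D.val
  let pr₂ : D →ₐ[A] S := (AlgHom.snd A (B ⧸ 𝔟 ^ M) S).comp D.val
  have hD : ∀ d : D, u' (pr₁ d) = Ideal.Quotient.mk N (pr₂ d) := fun d => d.2
  have hext : ∀ d₁ d₂ : D, pr₁ d₁ = pr₁ d₂ → pr₂ d₁ = pr₂ d₂ → d₁ = d₂ := by
    intro d₁ d₂ h1 h2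
    exact Subtype.ext (Prod.ext h1 h2)
  have hpr₁ : Function.Surjective pr₁ := by
    intro β
    obtain ⟨s, hs⟩ := Ideal.Quotient.mk_surjective (u' β)
    exact ⟨⟨(β, s), hs.symm⟩, rfl⟩
  exact core_aux H₀ S N hN2 hNa u M u' hu' w hwu w' hw' D pr₁ pr₂ hD hext hpr₁

end Groth.Agent.Lib.FormProjFSH3
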