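import Mathlib
import Groth.Agent.Lib.FormProjFS_helper3

/-!
# EGA 0_IV 19.7.1 (continued): the induction on the nilpotent kernel and the main theorem (helper3)
APPEND-ONLY once landed.
-/

set_option autoImplicit false

namespace Groth.Agent.Lib.FormProjFSH3

universe u

variable {A B : Type u} [CommRing A] [CommRing B] [Algebra A B] {𝔞 : Ideal A} {𝔟 : Ideal B}

/-- Induction: lifting along `C → C/J'` for every ideal `J' ≤ 𝔠` with `𝔠^d J' = 0`, where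
`𝔠 = J + 𝔞C`. -/
theorem lift_of_pow_mul (hproj : FormProj 𝔞 𝔟)
    (H₀ : EGA41.IsFormallySmoothAdic (A ⧸ 𝔞) ⊥ (B ⧸ 𝔞.map (algebraMap A B))
      (𝔟.map (Ideal.Quotient.mk (𝔞.map (algebraMap A B)))))
    (C : Type u) [CommRing C] [Algebra A C] (k : ℕ)
    (hk : (𝔞 ^ k).map (algebraMap A C) = ⊥) (𝔠 : Ideal C) (h𝔠 : 𝔞.map (algebraMap A C) ≤ 𝔠) :
    ∀ (d : ℕ) (J' : Ideal C), J' ≤ 𝔠 → 𝔠 ^ d * J' = ⊥ →
      ∀ u : B →ₐ[A] C ⧸ J', (∃ m : ℕ, ∀ x ∈ 𝔟 ^ m, u x = 0) →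
        ∃ v : B →ₐ[A] C, (Ideal.Quotient.mkₐ A J').comp v = u := by
  intro d
  induction d with
  | zero =>
    intro J' _ h0 u hu
    rw [pow_zero, Ideal.one_eq_top, Ideal.top_mul] at h0
    refine core hproj H₀ C J' k hk ?_ u hu
    rw [h0, Ideal.bot_mul]
  | succ d ih =>
    intro J' hJ' h0 u hu
    obtain ⟨I, hI⟩ : ∃ I : Ideal C, I = 𝔠 * J' := ⟨_, rfl⟩
    have hIJ : I ≤ J' := hI ▸ Ideal.mul_le_right
    have hI𝔠 : I ≤ 𝔠 := hIJ.trans hJ'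
    have hI0 : 𝔠 ^ d * I = ⊥ := by
      rw [hI, ← mul_assoc, ← pow_succ, h0]
    -- first lift to `C/I`
    let e : ((C ⧸ I) ⧸ J'.map (Ideal.Quotient.mk I)) ≃ₐ[A] C ⧸ J' :=
      { (DoubleQuot.quotQuotEquivQuotSup I J').trans
          (Ideal.quotEquivOfEq (sup_eq_right.mpr hIJ)) with
        commutes' := fun x => rfl }
    have hkI : (𝔞 ^ k).map (algebraMap A (C ⧸ I)) = ⊥ := by
      have h1 : algebraMap A (C ⧸ I) = (Ideal.Quotient.mk I).comp (algebraMap A C) := rfl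
      rw [h1, ← Ideal.map_map, hk, Ideal.map_bot]
    have hNI : J'.map (Ideal.Quotient.mk I) *
        (J'.map (Ideal.Quotient.mk I) ⊔ 𝔞.map (algebraMap A (C ⧸ I))) = ⊥ := by
      have h1 : algebraMap A (C ⧸ I) = (Ideal.Quotient.mk I).comp (algebraMap A C) := rfl
      rw [h1, ← Ideal.map_map, ← Ideal.map_sup, ← Ideal.map_mul, Ideal.map_eq_bot_iff_le_ker,
        Ideal.mk_ker, hI, mul_comm]
      exact Ideal.mul_mono_left (sup_le hJ' h𝔠)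
    obtain ⟨m, hm⟩ := hu
    obtain ⟨g', hg'⟩ := core hproj H₀ (C ⧸ I) (J'.map (Ideal.Quotient.mk I)) k hkI hNI
      (e.symm.toAlgHom.comp u) ⟨m, fun x hx => by
        show e.symm (u x) = 0
        rw [hm x hx, map_zero]⟩
    have hN2 : J'.map (Ideal.Quotient.mk I) ^ 2 = ⊥ := by
      rw [eq_bot_iff, pow_two, ← hNI]
      exact Ideal.mul_mono_right le_sup_left
    have hg'J : Ideal.map (g' : B →+* C ⧸ I) (𝔟 ^ m) ≤ J'.map (Ideal.Quotient.mk I) := by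
      rw [Ideal.map_le_iff_le_comap]
      intro x hx
      rw [Ideal.mem_comap, ← Ideal.Quotient.eq_zero_iff_mem]
      have h2 : Ideal.Quotient.mk (J'.map (Ideal.Quotient.mk I)) (g' x) = e.symm (u x) :=
        AlgHom.congr_fun hg' x
      show Ideal.Quotient.mk (J'.map (Ideal.Quotient.mk I)) (g' x) = 0
      rw [h2, hm x hx, map_zero]
    have hg'c : ∃ k' : ℕ, ∀ x ∈ 𝔟 ^ k', g' x = 0 := by
      refine ⟨m * 2, fun x hx => ?_⟩
      rw [pow_mul] at hx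
      have h1 : (g' : B →+* C ⧸ I) x ∈ Ideal.map (g' : B →+* C ⧸ I) ((𝔟 ^ m) ^ 2) :=
        Ideal.mem_map_of_mem _ hx
      rw [Ideal.map_pow] at h1
      have h2 := Ideal.pow_right_mono hg'J 2 h1
      rw [hN2] at h2
      exact h2
    obtain ⟨v, hv⟩ := ih I hI𝔠 hI0 g' hg'c
    refine ⟨v, ?_⟩
    apply AlgHom.ext
    intro b
    have h1 : Ideal.Quotient.mk I (v b) = g' b := AlgHom.congr_fun hv b
    have h2 : Ideal.Quotient.mk (J'.map (Ideal.Quotient.mk I)) (g' b) = e.symm (u b) :=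
      AlgHom.congr_fun hg' b
    have h3 : e (Ideal.Quotient.mk (J'.map (Ideal.Quotient.mk I)) (Ideal.Quotient.mk I (v b))) =
        Ideal.Quotient.mk J' (v b) := rfl
    show Ideal.Quotient.mk J' (v b) = u b
    rw [← h3, h1, h2, AlgEquiv.apply_symm_apply]

/-- **EGA 0_IV 19.7.1**, the nontrivial direction. -/
theorem adic_of_quot (hproj : FormProj 𝔞 𝔟)
    (H₀ : EGA41.IsFormallySmoothAdic (A ⧸ 𝔞) ⊥ (B ⧸ 𝔞.map (algebraMap A B))
      (𝔟.map (Ideal.Quotient.mk (𝔞.map (algebraMap A B))))) :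
    EGA41.IsFormallySmoothAdic A 𝔞 B 𝔟 := by
  intro C _ _ J hJ ⟨k, hk⟩ u hu
  obtain ⟨n, hn⟩ := hJ
  rw [Ideal.zero_eq_bot] at hn
  obtain ⟨𝔠, h𝔠⟩ : ∃ 𝔠 : Ideal C, 𝔠 = J ⊔ 𝔞.map (algebraMap A C) := ⟨_, rfl⟩
  have h1 : 𝔠 ^ (n + k) = ⊥ := by
    rw [eq_bot_iff, h𝔠]
    refine Ideal.sup_pow_add_le_pow_sup_pow.trans ?_
    rw [hn, ← Ideal.map_pow, hk, sup_bot_eq]
  refine lift_of_pow_mul hproj H₀ C k hk 𝔠 (h𝔠 ▸ le_sup_right) (n + k) J (h𝔠 ▸ le_sup_left) ?_ u hu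
  rw [h1, Ideal.bot_mul]

theorem main4553 (hproj : FormProj 𝔞 𝔟) :
    EGA41.IsFormallySmoothAdic A 𝔞 B 𝔟 ↔
      EGA41.IsFormallySmoothAdic (A ⧸ 𝔞) ⊥ (B ⧸ 𝔞.map (algebraMap A B))
        (𝔟.map (Ideal.Quotient.mk (𝔞.map (algebraMap A B)))) :=
  ⟨quot_of_adic 𝔞 𝔟, adic_of_quot hproj⟩

end Groth.Agent.Lib.FormProjFSH3
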