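import Mathlib
import Groth.Prelude
import Groth.Agent.Lib.FormalAR4_helper2

/-!
# Change of the adic ideal for coherent formal modules, I (helper2)

`X` Noetherian over `Spec A`, `I`, `J` ideals of `A` such that every point of `X` over `V(I)` lies over
`V(J)`.  Then a power of `J` kills every quasi-coherent module killed by `I`
(`exists_killedBy_pow`), and the levelwise quotient functor `Φ`.
APPEND-ONLY once landed.
-/

set_option autoImplicit false
set_option backward.isDefEq.respectTransparency false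
set_option linter.style.haveILetI false
universe u
open CategoryTheory CategoryTheory.Limits AlgebraicGeometry TopologicalSpace Opposite

namespace Groth.Agent.Lib.FormalChgH2

open Formal Groth.Agent.Lib.FormalModPowH4 Groth.Agent.Lib.FormalFnH2 Groth.Agent.Lib.FibAmpH2
  Groth.Agent.Lib.FlatBCH2 Groth.Agent.Lib.FibVanH2 Groth.Agent.Lib.FormalQuotH2 QcqsLoc

section Top

variable {A : Type u} [CommRing A] {X : Scheme.{u}} [X.Over (Spec (CommRingCat.of A))]

/-- the point of `Spec A` under a point of an affine open -/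
theorem over_fromSpec {U : X.Opens} (hU : IsAffineOpen U) (q : Spec Γ(X, U)) :
    (X ↘ Spec (CommRingCat.of A)) (hU.fromSpec q) =
      PrimeSpectrum.comap (rUHom (A := A) U) q := by
  have hle : U ≤ (X ↘ Spec (CommRingCat.of A)) ⁻¹ᵁ ⊤ := le_top
  have h1 := IsAffineOpen.SpecMap_appLE_fromSpec (X ↘ Spec (CommRingCat.of A))
    (isAffineOpen_top (Spec (CommRingCat.of A))) hU hle
  rw [IsAffineOpen.fromSpec_top, Scheme.isoSpec_Spec_inv, ← Spec.map_comp,
    ← ofHom_rUHom U hle] at h1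
  have h2 := congrArg (fun f => f q) h1
  simp only [Scheme.Hom.comp_apply] at h2
  rw [← h2, Spec.map_apply]
  rfl

variable (I J : Ideal A)

/-- if every point over `V(I)` lies over `V(J)`, then `J Γ(U) ⊆ rad (I Γ(U))` on affine opens -/
theorem map_le_radical_map
    (hV : (fun x : X => (X ↘ Spec (CommRingCat.of A)) x) ⁻¹' PrimeSpectrum.zeroLocus (I : Set A) ⊆
      (fun x : X => (X ↘ Spec (CommRingCat.of A)) x) ⁻¹' PrimeSpectrum.zeroLocus (J : Set A))
    {U : X.Opens} (hU : IsAffineOpen U) :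
    Ideal.map (rUHom (A := A) U) J ≤ (Ideal.map (rUHom (A := A) U) I).radical := by
  rw [Ideal.map_le_iff_le_comap]
  intro b hb
  show rUHom (A := A) U b ∈ (Ideal.map (rUHom (A := A) U) I).radical
  rw [Ideal.radical_eq_sInf, Submodule.mem_sInf]
  rintro 𝔮 ⟨hle, hprime⟩
  let q : Spec Γ(X, U) := ⟨𝔮, hprime⟩
  have hx : hU.fromSpec q ∈
      (fun x : X => (X ↘ Spec (CommRingCat.of A)) x) ⁻¹' PrimeSpectrum.zeroLocus (I : Set A) := by
    show (X ↘ Spec (CommRingCat.of A)) (hU.fromSpec q) ∈ PrimeSpectrum.zeroLocus (I : Set A)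
    rw [over_fromSpec, PrimeSpectrum.mem_zeroLocus]
    intro a ha
    show rUHom (A := A) U a ∈ 𝔮
    exact hle (Ideal.mem_map_of_mem _ ha)
  have hx' := hV hx
  have hx'' : (X ↘ Spec (CommRingCat.of A)) (hU.fromSpec q) ∈
      PrimeSpectrum.zeroLocus (J : Set A) := hx'
  rw [over_fromSpec, PrimeSpectrum.mem_zeroLocus] at hx''
  exact hx'' hb

variable [AlgebraicGeometry.IsNoetherian X]

/-- a uniform power of `J` lies in `I` on the members of a finite affine cover -/
theorem exists_pow_map_le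
    (hV : (fun x : X => (X ↘ Spec (CommRingCat.of A)) x) ⁻¹' PrimeSpectrum.zeroLocus (I : Set A) ⊆
      (fun x : X => (X ↘ Spec (CommRingCat.of A)) x) ⁻¹' PrimeSpectrum.zeroLocus (J : Set A)) :
    ∃ (S : Set X.Opens) (d : ℕ), 1 ≤ d ∧ (∀ U ∈ S, IsAffineOpen U) ∧
      (∀ x : X, ∃ U ∈ S, x ∈ U) ∧
      ∀ U ∈ S, (Ideal.map (rUHom (A := A) U) J) ^ d ≤ Ideal.map (rUHom (A := A) U) I := by
  classical
  obtain ⟨s, hsfin, hs⟩ := (isCompact_iff_finite_and_eq_biUnion_affineOpens
    (X := X) (U := ⊤)).mp (by simpa using isCompact_univ)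
  have hN : ∀ V : X.affineOpens, ∃ d : ℕ,
      (Ideal.map (rUHom (A := A) V.1) J) ^ d ≤ Ideal.map (rUHom (A := A) V.1) I := by
    intro V
    haveI : IsNoetherianRing Γ(X, V.1) := IsLocallyNoetherian.component_noetherian V
    exact Ideal.exists_pow_le_of_le_radical_of_fg (map_le_radical_map I J hV V.2)
      (IsNoetherian.noetherian _)
  choose Nf hNf using hN
  refine ⟨(fun V : X.affineOpens => V.1) '' s, hsfin.toFinset.sup Nf + 1, by omega, ?_, ?_, ?_⟩
  · rintro _ ⟨V, _, rfl⟩
    exact V.2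
  · intro x
    have hx : x ∈ (⊤ : X.Opens) := trivial
    rw [hs] at hx
    simp only [Opens.mem_iSup] at hx
    obtain ⟨V, hV', hxV⟩ := hx
    exact ⟨V.1, ⟨V, hV', rfl⟩, hxV⟩
  · rintro _ ⟨V, hV', rfl⟩
    have hle : Nf V ≤ hsfin.toFinset.sup Nf + 1 :=
      (Finset.le_sup (hsfin.mem_toFinset.mpr hV')).trans (Nat.le_succ _)
    exact (Ideal.pow_le_pow_right hle).trans (hNf V)

/-- a power of `J` kills every quasi-coherent module killed by a power of `I` -/
theorem exists_killedBy_pow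
    (hV : (fun x : X => (X ↘ Spec (CommRingCat.of A)) x) ⁻¹' PrimeSpectrum.zeroLocus (I : Set A) ⊆
      (fun x : X => (X ↘ Spec (CommRingCat.of A)) x) ⁻¹' PrimeSpectrum.zeroLocus (J : Set A)) :
    ∃ d : ℕ, 1 ≤ d ∧ ∀ (M : X.Modules) [M.IsQuasicoherent] (n : ℕ),
      Formal.KilledBy (I ^ n) M → Formal.KilledBy (J ^ (d * n)) M := by
  obtain ⟨S, d, hd, hS, hcov, hle⟩ := exists_pow_map_le I J hV
  refine ⟨d, hd, fun M _ n hM b hb => ?_⟩
  refine hom_eq_zero_of_affine_cover _ S hS hcov (fun U hU y => ?_)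
  rw [smulMod_app]
  refine smul_eq_zero_of_mem_JU A M (I ^ n) U y (fun a ha => ?_) (rU b U) ?_
  · rw [← smulMod_app, hM a ha, zero_app']
  · rw [← rUHom_apply]
    have h1 : rUHom (A := A) U b ∈ Ideal.map (rUHom (A := A) U) (J ^ (d * n)) :=
      Ideal.mem_map_of_mem _ hb
    rw [Ideal.map_pow, pow_mul] at h1
    rw [Ideal.map_pow]
    exact Ideal.pow_right_mono (hle U hU) n h1

end Top

end Groth.Agent.Lib.FormalChgH2
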