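import Mathlib
import Groth.Prelude
import Groth.Agent.Lib.FormalChg1_helper2

/-!
# Change of the adic ideal for coherent formal modules, II (helper2)

The levelwise quotient functor `Φ : Coh(X, I) ⥤ Coh(X, J)` for `I ≤ J`, `(F_n) ↦ (F_n / J^{n+1} F_n)`.
APPEND-ONLY once landed.
-/

set_option autoImplicit false
set_option backward.isDefEq.respectTransparency false
set_option linter.style.haveILetI false
universe u
open CategoryTheory CategoryTheory.Limits AlgebraicGeometry TopologicalSpace Opposite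

namespace Groth.Agent.Lib.FormalChgH2

open Formal Groth.Agent.Lib.FormalModPowH4 Groth.Agent.Lib.FormalFnH2 Groth.Agent.Lib.FibAmpH2
  Groth.Agent.Lib.FlatBCH2 Groth.Agent.Lib.FibVanH2 Groth.Agent.Lib.FormalQuotH2 QcqsLoc

section Phi

variable {A : Type u} [CommRing A] {X : Scheme.{u}} [X.Over (Spec (CommRingCat.of A))]
  (J : Ideal A)

/-- levelwise quotient terms -/
noncomputable abbrev Qn (F : ℕᵒᵖ ⥤ X.Modules) (n : ℕ) : X.Modules :=
  Formal.modPow J (n + 1) (Gn F n)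

/-- the projections -/
noncomputable abbrev qn (F : ℕᵒᵖ ⥤ X.Modules) (n : ℕ) : Gn F n ⟶ Qn J F n :=
  Formal.modPowπ J (n + 1) (Gn F n)

theorem isQuot_qn (F : ℕᵒᵖ ⥤ X.Modules) (n : ℕ) : IsQuot (J ^ (n + 1)) (qn J F n) :=
  isQuot_modPowπ J (n + 1) (Gn F n)

/-- a map to a module killed by `J^{n+1}` factors through the projection -/
theorem exists_fac_qn (F : ℕᵒᵖ ⥤ X.Modules) (n : ℕ) {Z : X.Modules} (g : Gn F n ⟶ Z)
    (hZ : Formal.KilledBy (J ^ (n + 1)) Z) : ∃ g' : Qn J F n ⟶ Z, qn J F n ≫ g' = g :=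
  (isQuot_qn J F n).2.2 Z g (fun a ha => by rw [smulMod_naturality, hZ a ha, comp_zero])

theorem killedBy_Qn (F : ℕᵒᵖ ⥤ X.Modules) (n : ℕ) : Formal.KilledBy (J ^ (n + 1)) (Qn J F n) :=
  fun _ ha => smulMod_modPow_eq_zero _ J (n + 1) ha

/-- the transition maps -/
noncomputable def tQ (F : ℕᵒᵖ ⥤ X.Modules) (n : ℕ) : Qn J F (n + 1) ⟶ Qn J F n :=
  cokernel.desc _ (tG F n ≫ qn J F n) (smulFamily_comp_eq_zero _ _ (fun a ha => by
    rw [← Category.assoc, smulMod_naturality, Category.assoc,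
      smulMod_modPowπ _ J (n + 1) (Ideal.pow_le_pow_right (Nat.le_succ _) ha), comp_zero]))

theorem qn_tQ (F : ℕᵒᵖ ⥤ X.Modules) (n : ℕ) :
    qn J F (n + 1) ≫ tQ J F n = tG F n ≫ qn J F n :=
  cokernel.π_desc _ _ _

/-- the levelwise quotient system -/
noncomputable def PhiObj (F : ℕᵒᵖ ⥤ X.Modules) : ℕᵒᵖ ⥤ X.Modules :=
  Functor.ofOpSequence (X := fun n => Qn J F n) (fun n => tQ J F n)

theorem tG_PhiObj (F : ℕᵒᵖ ⥤ X.Modules) (n : ℕ) : tG (PhiObj J F) n = tQ J F n :=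
  Functor.ofOpSequence_map_homOfLE_succ _ n

/-- the projection `F_n → Φ(F)_n` -/
noncomputable def qP (F : ℕᵒᵖ ⥤ X.Modules) (n : ℕ) : Gn F n ⟶ Gn (PhiObj J F) n := qn J F n

instance epi_qP (F : ℕᵒᵖ ⥤ X.Modules) (n : ℕ) : Epi (qP J F n) :=
  inferInstanceAs (Epi (Formal.modPowπ J (n + 1) (Gn F n)))

theorem isQuot_qP (F : ℕᵒᵖ ⥤ X.Modules) (n : ℕ) : IsQuot (J ^ (n + 1)) (qP J F n) :=
  isQuot_qn J F n

theorem killedBy_PhiObj (F : ℕᵒᵖ ⥤ X.Modules) (n : ℕ) :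
    Formal.KilledBy (J ^ (n + 1)) (Gn (PhiObj J F) n) :=
  killedBy_Qn J F n

theorem isCoh_PhiObj {F : ℕᵒᵖ ⥤ X.Modules} (n : ℕ) (hF : Coh.IsCoh (Gn F n)) :
    Coh.IsCoh (Gn (PhiObj J F) n) :=
  isCoh_modPow J hF (n + 1)

/-- a map to a module killed by `J^{n+1}` factors through the projection -/
theorem exists_fac_qP (F : ℕᵒᵖ ⥤ X.Modules) (n : ℕ) {Z : X.Modules} (g : Gn F n ⟶ Z)
    (hZ : Formal.KilledBy (J ^ (n + 1)) Z) : ∃ g' : Gn (PhiObj J F) n ⟶ Z, qP J F n ≫ g' = g :=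
  exists_fac_qn J F n g hZ

theorem qP_tG (F : ℕᵒᵖ ⥤ X.Modules) (n : ℕ) :
    qP J F (n + 1) ≫ tG (PhiObj J F) n = tG F n ≫ qP J F n := by
  have e : tG (PhiObj J F) n = tQ J F n := tG_PhiObj J F n
  rw [e]
  exact qn_tQ J F n

theorem qP_gm (F : ℕᵒᵖ ⥤ X.Modules) {n m : ℕ} (h : n ≤ m) :
    qP J F m ≫ gm (PhiObj J F) h = gm F h ≫ qP J F n := by
  induction m, h using Nat.le_induction with
  | base => rw [gm_refl, gm_refl, Category.comp_id, Category.id_comp]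
  | succ m h ih =>
    have e : gm (PhiObj J F) (h.trans (Nat.le_succ m)) = tG (PhiObj J F) m ≫ gm (PhiObj J F) h :=
      (gm_trans h (Nat.le_succ m)).symm
    have e' : gm F (h.trans (Nat.le_succ m)) = tG F m ≫ gm F h :=
      (gm_trans h (Nat.le_succ m)).symm
    rw [e, e', ← Category.assoc, qP_tG, Category.assoc, ih, Category.assoc]

/-- the induced maps on quotients -/
noncomputable def mQ {F F' : ℕᵒᵖ ⥤ X.Modules} (φ : F ⟶ F') (n : ℕ) : Qn J F n ⟶ Qn J F' n :=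
  cokernel.desc _ (φ.app (op n) ≫ qn J F' n) (smulFamily_comp_eq_zero _ _ (fun a ha => by
    rw [← Category.assoc, smulMod_naturality, Category.assoc,
      smulMod_modPowπ _ J (n + 1) ha, comp_zero]))

theorem qn_mQ {F F' : ℕᵒᵖ ⥤ X.Modules} (φ : F ⟶ F') (n : ℕ) :
    qn J F n ≫ mQ J φ n = φ.app (op n) ≫ qn J F' n :=
  cokernel.π_desc _ _ _

theorem tQ_mQ {F F' : ℕᵒᵖ ⥤ X.Modules} (φ : F ⟶ F') (n : ℕ) :
    tQ J F n ≫ mQ J φ n = mQ J φ (n + 1) ≫ tQ J F' n := by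
  rw [← cancel_epi (qn J F (n + 1)), ← Category.assoc, qn_tQ, Category.assoc, qn_mQ,
    ← Category.assoc (qn J F (n + 1)), qn_mQ, Category.assoc, qn_tQ]
  have h1 : tG F n ≫ φ.app (op n) = φ.app (op (n + 1)) ≫ tG F' n :=
    φ.naturality (homOfLE (Nat.le_succ n)).op
  rw [← Category.assoc, h1, Category.assoc]

/-- the functor on morphisms -/
noncomputable def PhiMap {F F' : ℕᵒᵖ ⥤ X.Modules} (φ : F ⟶ F') : PhiObj J F ⟶ PhiObj J F' :=
  NatTrans.ofOpSequence (fun n => mQ J φ n) (fun n => by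
    have h1 : (PhiObj J F).map (homOfLE (n.le_add_right 1)).op = tQ J F n := tG_PhiObj J F n
    have h2 : (PhiObj J F').map (homOfLE (n.le_add_right 1)).op = tQ J F' n := tG_PhiObj J F' n
    rw [h1, h2]
    exact tQ_mQ J φ n)

theorem qP_PhiMap {F F' : ℕᵒᵖ ⥤ X.Modules} (φ : F ⟶ F') (n : ℕ) :
    qP J F n ≫ (PhiMap J φ).app (op n) = φ.app (op n) ≫ qP J F' n :=
  qn_mQ J φ n

theorem PhiObj_hom_ext {F F' : ℕᵒᵖ ⥤ X.Modules} (ψ ψ' : PhiObj J F ⟶ F')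
    (h : ∀ n, qP J F n ≫ ψ.app (op n) = qP J F n ≫ ψ'.app (op n)) : ψ = ψ' := by
  apply NatTrans.ext
  funext j
  obtain ⟨n⟩ := j
  exact (cancel_epi (qP J F n)).mp (h n)

theorem PhiMap_id (F : ℕᵒᵖ ⥤ X.Modules) : PhiMap J (𝟙 F) = 𝟙 (PhiObj J F) := by
  apply PhiObj_hom_ext
  intro n
  rw [qP_PhiMap, NatTrans.id_app, NatTrans.id_app, Category.id_comp, Category.comp_id]

theorem PhiMap_comp {F F' F'' : ℕᵒᵖ ⥤ X.Modules} (φ : F ⟶ F') (ψ : F' ⟶ F'') :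
    PhiMap J (φ ≫ ψ) = PhiMap J φ ≫ PhiMap J ψ := by
  apply PhiObj_hom_ext
  intro n
  rw [qP_PhiMap, NatTrans.comp_app, NatTrans.comp_app, ← Category.assoc (qP J F n),
    qP_PhiMap, Category.assoc, Category.assoc, qP_PhiMap]

variable {J} {I : Ideal A}

/-- `Φ` of a coherent formal module for `I ≤ J` is a coherent formal module for `J` -/
theorem isCohFormal_PhiObj (hIJ : I ≤ J) {F : ℕᵒᵖ ⥤ X.Modules} (hF : Formal.IsCohFormal I F) :
    Formal.IsCohFormal J (PhiObj J F) := by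
  refine ⟨fun n => isCoh_PhiObj J n (hF.1 n), fun n => killedBy_PhiObj J F n, fun n => ?_⟩
  have h1 : IsQuot (J ^ (n + 1)) (tG F n ≫ qP J F n) :=
    IsQuot.comp (Ideal.pow_right_mono hIJ (n + 1)) (isQuot_tG hF n) (isQuot_qP J F n)
  rw [← qP_tG] at h1
  exact (IsQuot.of_comp (isQuot_qP J F (n + 1)) h1).cond

end Phi

end Groth.Agent.Lib.FormalChgH2
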