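import Mathlib
import Groth.Prelude
import Groth.Agent.Lib.FormalChg2_helper2

/-!
# Change of the adic ideal for coherent formal modules, III (helper2)

`Φ : Coh(X, I) ⥤ Coh(X, J)` is faithful and full when a power of `J` kills whatever `I` kills.
APPEND-ONLY once landed.
-/

set_option autoImplicit false
set_option backward.isDefEq.respectTransparency false
set_option linter.style.haveILetI false
universe u
open CategoryTheory CategoryTheory.Limits AlgebraicGeometry TopologicalSpace Opposite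

namespace Groth.Agent.Lib.FormalChgH2

open Formal Groth.Agent.Lib.FormalModPowH4 Groth.Agent.Lib.FormalFnH2 Groth.Agent.Lib.FibAmpH2
  Groth.Agent.Lib.FlatBCH2 Groth.Agent.Lib.FibVanH2 Groth.Agent.Lib.FormalQuotH2 QcqsLoc

section FF

variable {A : Type u} [CommRing A] {X : Scheme.{u}} [X.Over (Spec (CommRingCat.of A))]
  {I J : Ideal A} {d : ℕ}

/-- the hypothesis: `J^{dn}` kills whatever `I^n` kills -/
def Transfer (I J : Ideal A) (X : Scheme.{u}) [X.Over (Spec (CommRingCat.of A))] (d : ℕ) : Prop :=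
  ∀ (M : X.Modules) [M.IsQuasicoherent] (n : ℕ),
    Formal.KilledBy (I ^ n) M → Formal.KilledBy (J ^ (d * n)) M

theorem le_mul_succ (h1d : 1 ≤ d) (n : ℕ) : n ≤ d * (n + 1) :=
  (Nat.le_succ n).trans (Nat.le_mul_of_pos_left (n + 1) h1d)

/-- the retraction `Φ(F')_N → F'_n` for `N` large -/
theorem exists_rr (hd : Transfer I J X d) {F' : ℕᵒᵖ ⥤ X.Modules}
    (hF' : Formal.IsCohFormal I F') {n N : ℕ} (h : n ≤ N) (hN : d * (n + 1) ≤ N + 1) :
    ∃ r : Gn (PhiObj J F') N ⟶ Gn F' n, qP J F' N ≫ r = gm F' h := by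
  haveI : (Gn F' n).IsQuasicoherent := (hF'.1 n).1
  exact exists_fac_qP J F' N (gm F' h)
    (killedBy_mono (Ideal.pow_le_pow_right hN) (hd (Gn F' n) (n + 1) (hF'.2.1 n)))

theorem Phi_faithful_aux (hd : Transfer I J X d) (h1d : 1 ≤ d) {F F' : ℕᵒᵖ ⥤ X.Modules}
    (hF : Formal.IsCohFormal I F) (hF' : Formal.IsCohFormal I F') (φ φ' : F ⟶ F')
    (h : PhiMap J φ = PhiMap J φ') : φ = φ' := by
  apply NatTrans.ext
  funext j
  obtain ⟨n⟩ := j
  have hnN : n ≤ d * (n + 1) := le_mul_succ h1d n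
  obtain ⟨r, hr⟩ := exists_rr hd hF' hnN (Nat.le_succ _)
  haveI : Epi (gm F hnN) := (isQuot_gm hF hnN).2.1
  rw [← cancel_epi (gm F hnN)]
  have key : ∀ χ : F ⟶ F', gm F hnN ≫ χ.app (op n) =
      qP J F (d * (n + 1)) ≫ (PhiMap J χ).app (op (d * (n + 1))) ≫ r := by
    intro χ
    rw [← Category.assoc, qP_PhiMap, Category.assoc, hr]
    exact χ.naturality (homOfLE hnN).op
  rw [key φ, key φ', h]

theorem Phi_full_aux (hd : Transfer I J X d) (h1d : 1 ≤ d) {F F' : ℕᵒᵖ ⥤ X.Modules}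
    (hF : Formal.IsCohFormal I F) (hF' : Formal.IsCohFormal I F')
    (ψ : PhiObj J F ⟶ PhiObj J F') : ∃ φ : F ⟶ F', PhiMap J φ = ψ := by
  have hnN : ∀ n, n ≤ d * (n + 1) := le_mul_succ h1d
  have hNN : ∀ n, d * (n + 1) ≤ d * (n + 1 + 1) := fun n =>
    Nat.mul_le_mul_left d (Nat.le_succ _)
  have hr : ∀ n, ∃ r : Gn (PhiObj J F') (d * (n + 1)) ⟶ Gn F' n,
      qP J F' (d * (n + 1)) ≫ r = gm F' (hnN n) := fun n =>
    exists_rr hd hF' (hnN n) (Nat.le_succ _)
  choose r hr using hr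
  have hφ : ∀ n, ∃ φn : Gn F n ⟶ Gn F' n, gm F (hnN n) ≫ φn =
      qP J F (d * (n + 1)) ≫ ψ.app (op (d * (n + 1))) ≫ r n := fun n =>
    (isQuot_gm hF (hnN n)).2.2 _ _ (fun a ha => by
      rw [smulMod_naturality, hF'.2.1 n a ha, comp_zero])
  choose φn hφn using hφ
  -- compatibility of the retractions
  have hrr : ∀ n, gm (PhiObj J F') (hNN n) ≫ r n = r (n + 1) ≫ tG F' n := by
    intro n
    rw [← cancel_epi (qP J F' (d * (n + 1 + 1))), ← Category.assoc, qP_gm, Category.assoc, hr,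
      ← Category.assoc, hr, gm_trans]
    exact (gm_trans (G := F') (Nat.le_succ n) (hnN (n + 1))).symm
  have hrq : ∀ n, r n ≫ qP J F' n = gm (PhiObj J F') (hnN n) := by
    intro n
    rw [← cancel_epi (qP J F' (d * (n + 1))), ← Category.assoc, hr, qP_gm]
  have hnat : ∀ n, tG F n ≫ φn n = φn (n + 1) ≫ tG F' n := by
    intro n
    haveI : Epi (gm F (hnN (n + 1))) := (isQuot_gm hF (hnN (n + 1))).2.1
    rw [← cancel_epi (gm F (hnN (n + 1)))]
    have e1 : gm F (hnN (n + 1)) ≫ tG F n = gm F (hNN n) ≫ gm F (hnN n) := by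
      have h1 : gm F (hnN (n + 1)) ≫ tG F n = gm F ((Nat.le_succ n).trans (hnN (n + 1))) :=
        gm_trans (G := F) (Nat.le_succ n) (hnN (n + 1))
      rw [h1, gm_trans]
    have e2 : gm (PhiObj J F) (hNN n) ≫ ψ.app (op (d * (n + 1))) =
        ψ.app (op (d * (n + 1 + 1))) ≫ gm (PhiObj J F') (hNN n) :=
      ψ.naturality (homOfLE (hNN n)).op
    calc gm F (hnN (n + 1)) ≫ tG F n ≫ φn n
        = (gm F (hNN n) ≫ gm F (hnN n)) ≫ φn n := by rw [← Category.assoc, e1]
      _ = gm F (hNN n) ≫ qP J F (d * (n + 1)) ≫ ψ.app (op (d * (n + 1))) ≫ r n := by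
          rw [Category.assoc, hφn]
      _ = qP J F (d * (n + 1 + 1)) ≫ (gm (PhiObj J F) (hNN n) ≫ ψ.app (op (d * (n + 1)))) ≫
            r n := by
          rw [← Category.assoc, ← qP_gm, Category.assoc, Category.assoc]
      _ = qP J F (d * (n + 1 + 1)) ≫ ψ.app (op (d * (n + 1 + 1))) ≫ r (n + 1) ≫ tG F' n := by
          rw [e2, Category.assoc, hrr]
      _ = gm F (hnN (n + 1)) ≫ φn (n + 1) ≫ tG F' n := by
          rw [← Category.assoc (gm F (hnN (n + 1))), hφn, Category.assoc, Category.assoc]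
  refine ⟨NatTrans.ofOpSequence φn hnat, ?_⟩
  apply PhiObj_hom_ext
  intro n
  rw [qP_PhiMap]
  have h0 : (NatTrans.ofOpSequence φn hnat).app (op n) = φn n := rfl
  rw [h0]
  haveI : Epi (gm F (hnN n)) := (isQuot_gm hF (hnN n)).2.1
  rw [← cancel_epi (gm F (hnN n)), ← Category.assoc, hφn, Category.assoc, Category.assoc, hrq,
    ← Category.assoc (gm F (hnN n)), ← qP_gm, Category.assoc]
  have e2 : gm (PhiObj J F) (hnN n) ≫ ψ.app (op n) =
      ψ.app (op (d * (n + 1))) ≫ gm (PhiObj J F') (hnN n) :=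
    ψ.naturality (homOfLE (hnN n)).op
  rw [e2]

end FF

end Groth.Agent.Lib.FormalChgH2
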