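import Mathlib
import Groth.Prelude
import Groth.Agent.Lib.FormalChg3_helper2

/-!
# Change of the adic ideal for coherent formal modules, IV (helper2)

Essential surjectivity of `Φ`, the equivalence, and `main9528` (S9528).
APPEND-ONLY once landed.
-/

set_option autoImplicit false
set_option backward.isDefEq.respectTransparency false
set_option linter.style.haveILetI false
universe u
open CategoryTheory CategoryTheory.Limits AlgebraicGeometry TopologicalSpace Opposite

namespace Groth.Agent.Lib.FormalChgH2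

open Formal Groth.Agent.Lib.FormalModPowH4 Groth.Agent.Lib.FormalFnH2 Groth.Agent.Lib.FibAmpH2
  Groth.Agent.Lib.FlatBCH2 Groth.Agent.Lib.FibVanH2 Groth.Agent.Lib.FormalQuotH2 QcqsLoc

section Quot

variable {A : Type u} [CommRing A] {X : Scheme.{u}} [X.Over (Spec (CommRingCat.of A))]

/-- composition of quotients when the first ideal is "contained in the second on `M`" -/
theorem IsQuot.comp_of_transfer {J J' : Ideal A} {M N P : X.Modules} {t : M ⟶ N} {s : N ⟶ P}
    (ht : IsQuot J' t) (hs : IsQuot J s)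
    (htr : ∀ (Z : X.Modules) (g : M ⟶ Z), (∀ a ∈ J, Formal.smulMod A M a ≫ g = 0) →
      ∀ b ∈ J', Formal.smulMod A M b ≫ g = 0) : IsQuot J (t ≫ s) := by
  haveI := ht.2.1
  haveI := hs.2.1
  refine ⟨fun a ha => ?_, epi_comp t s, fun Z g hg => ?_⟩
  · rw [← Category.assoc, smulMod_naturality, Category.assoc, hs.1 a ha, comp_zero]
  · obtain ⟨g', hg'⟩ := ht.2.2 Z g (htr Z g hg)
    obtain ⟨g'', hg''⟩ := hs.2.2 Z g' (fun a ha => by
      rw [← cancel_epi t, comp_zero, ← Category.assoc, ← smulMod_naturality, Category.assoc, hg',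
        hg a ha])
    exact ⟨g'', by rw [Category.assoc, hg'', hg']⟩

variable {I J : Ideal A} {d : ℕ}

/-- a map killing `I^n` kills `J^k` for `k ≥ dn` -/
theorem transfer_hom (hd : Transfer I J X d) (M : X.Modules) [M.IsQuasicoherent] (n k : ℕ)
    (hk : d * n ≤ k) (Z : X.Modules) (g : M ⟶ Z)
    (hg : ∀ a ∈ I ^ n, Formal.smulMod A M a ≫ g = 0) :
    ∀ b ∈ J ^ k, Formal.smulMod A M b ≫ g = 0 := by
  intro b hb
  obtain ⟨g', hg'⟩ := (isQuot_modPowπ I n M).2.2 Z g hg
  have h1 : Formal.KilledBy (J ^ (d * n)) (Formal.modPow I n M) :=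
    hd _ n (fun a ha => smulMod_modPow_eq_zero M I n ha)
  rw [← hg', ← Category.assoc, smulMod_naturality, Category.assoc,
    h1 b (Ideal.pow_le_pow_right hk hb), zero_comp, comp_zero]

end Quot

section Psi

variable {A : Type u} [CommRing A] {X : Scheme.{u}} [X.Over (Spec (CommRingCat.of A))]
  (I : Ideal A) (d : ℕ) (G : ℕᵒᵖ ⥤ X.Modules)

theorem mm_le_succ (n : ℕ) : d * (n + 1) ≤ d * (n + 1 + 1) :=
  Nat.mul_le_mul_left d (Nat.le_succ _)

/-- the terms `G_{d(n+1)} / I^{n+1}` -/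
noncomputable abbrev Rn (n : ℕ) : X.Modules := Formal.modPow I (n + 1) (Gn G (d * (n + 1)))

/-- the projections -/
noncomputable abbrev pn (n : ℕ) : Gn G (d * (n + 1)) ⟶ Rn I d G n :=
  Formal.modPowπ I (n + 1) (Gn G (d * (n + 1)))

/-- the transition maps -/
noncomputable def tR (n : ℕ) : Rn I d G (n + 1) ⟶ Rn I d G n :=
  cokernel.desc _ (gm G (mm_le_succ d n) ≫ pn I d G n) (smulFamily_comp_eq_zero _ _ (fun a ha => by
    rw [← Category.assoc, smulMod_naturality, Category.assoc,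
      smulMod_modPowπ _ I (n + 1) (Ideal.pow_le_pow_right (Nat.le_succ _) ha), comp_zero]))

theorem pn_tR (n : ℕ) : pn I d G (n + 1) ≫ tR I d G n = gm G (mm_le_succ d n) ≫ pn I d G n :=
  cokernel.π_desc _ _ _

/-- the system `(G_{d(n+1)} / I^{n+1})` -/
noncomputable def PsiObj : ℕᵒᵖ ⥤ X.Modules :=
  Functor.ofOpSequence (X := fun n => Rn I d G n) (fun n => tR I d G n)

theorem tG_PsiObj (n : ℕ) : tG (PsiObj I d G) n = tR I d G n :=
  Functor.ofOpSequence_map_homOfLE_succ _ n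

/-- the projection `G_{d(n+1)} → Ψ(G)_n` -/
noncomputable def pP (n : ℕ) : Gn G (d * (n + 1)) ⟶ Gn (PsiObj I d G) n := pn I d G n

instance epi_pP (n : ℕ) : Epi (pP I d G n) :=
  inferInstanceAs (Epi (Formal.modPowπ I (n + 1) (Gn G (d * (n + 1)))))

theorem isQuot_pP (n : ℕ) : IsQuot (I ^ (n + 1)) (pP I d G n) :=
  isQuot_modPowπ I (n + 1) (Gn G (d * (n + 1)))

theorem killedBy_PsiObj (n : ℕ) : Formal.KilledBy (I ^ (n + 1)) (Gn (PsiObj I d G) n) :=
  fun _ ha => smulMod_modPow_eq_zero _ I (n + 1) ha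

theorem isCoh_PsiObj (n : ℕ) (hG : Coh.IsCoh (Gn G (d * (n + 1)))) :
    Coh.IsCoh (Gn (PsiObj I d G) n) :=
  isCoh_modPow I hG (n + 1)

theorem pP_tG (n : ℕ) :
    pP I d G (n + 1) ≫ tG (PsiObj I d G) n = gm G (mm_le_succ d n) ≫ pP I d G n := by
  have e : tG (PsiObj I d G) n = tR I d G n := tG_PsiObj I d G n
  rw [e]
  exact pn_tR I d G n

variable {I d G} {J : Ideal A}

theorem isCohFormal_PsiObj (hd : Transfer I J X d) (hG : Formal.IsCohFormal J G) :
    Formal.IsCohFormal I (PsiObj I d G) := by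
  refine ⟨fun n => isCoh_PsiObj I d G n (hG.1 _), fun n => killedBy_PsiObj I d G n, fun n => ?_⟩
  haveI : (Gn G (d * (n + 1 + 1))).IsQuasicoherent := (hG.1 _).1
  have h1 : IsQuot (I ^ (n + 1)) (gm G (mm_le_succ d n) ≫ pP I d G n) :=
    IsQuot.comp_of_transfer (isQuot_gm hG (mm_le_succ d n)) (isQuot_pP I d G n)
      (fun Z g hg => transfer_hom hd _ (n + 1) (d * (n + 1) + 1) (Nat.le_succ _) Z g hg)
  rw [← pP_tG] at h1
  exact (IsQuot.of_comp (isQuot_pP I d G (n + 1)) h1).cond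

/-- `Φ(Ψ(G)) ≅ G` -/
theorem nonempty_Phi_Psi_iso (hIJ : I ≤ J) (h1d : 1 ≤ d) (hG : Formal.IsCohFormal J G) :
    Nonempty (PhiObj J (PsiObj I d G) ≅ G) := by
  have hnm : ∀ n, n ≤ d * (n + 1) := le_mul_succ h1d
  have hq : ∀ n, IsQuot (J ^ (n + 1)) (pP I d G n ≫ qP J (PsiObj I d G) n) := fun n =>
    IsQuot.comp (Ideal.pow_right_mono hIJ (n + 1)) (isQuot_pP I d G n)
      (isQuot_qP J (PsiObj I d G) n)
  have he : ∀ n, ∃ e : Gn (PhiObj J (PsiObj I d G)) n ≅ Gn G n,
      (pP I d G n ≫ qP J (PsiObj I d G) n) ≫ e.hom = gm G (hnm n) := fun n =>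
    (hq n).exists_iso (isQuot_gm hG (hnm n))
  choose e he using he
  have hnat : ∀ n, tG (PhiObj J (PsiObj I d G)) n ≫ (e n).hom = (e (n + 1)).hom ≫ tG G n := by
    intro n
    haveI : Epi (pP I d G (n + 1) ≫ qP J (PsiObj I d G) (n + 1)) := (hq (n + 1)).2.1
    rw [← cancel_epi (pP I d G (n + 1) ≫ qP J (PsiObj I d G) (n + 1))]
    have h1 : (pP I d G (n + 1) ≫ qP J (PsiObj I d G) (n + 1)) ≫ (e (n + 1)).hom ≫ tG G n =
        gm G ((Nat.le_succ n).trans (hnm (n + 1))) := by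
      rw [← Category.assoc, he]
      exact gm_trans (G := G) (Nat.le_succ n) (hnm (n + 1))
    have h2 : (pP I d G (n + 1) ≫ qP J (PsiObj I d G) (n + 1)) ≫
        tG (PhiObj J (PsiObj I d G)) n ≫ (e n).hom =
        gm G ((hnm n).trans (mm_le_succ d n)) := by
      rw [Category.assoc, ← Category.assoc (qP J (PsiObj I d G) (n + 1)), qP_tG, Category.assoc,
        ← Category.assoc (pP I d G (n + 1)), pP_tG, Category.assoc]
      have h3 : pP I d G n ≫ qP J (PsiObj I d G) n ≫ (e n).hom = gm G (hnm n) := by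
        rw [← Category.assoc]
        exact he n
      rw [h3]
      exact gm_trans (G := G) (hnm n) (mm_le_succ d n)
    rw [h1, h2]
  let α : PhiObj J (PsiObj I d G) ⟶ G := NatTrans.ofOpSequence (fun n => (e n).hom) hnat
  haveI : ∀ j, IsIso (α.app j) := fun j => by
    show IsIso (e j.unop).hom
    infer_instance
  haveI : IsIso α := NatIso.isIso_of_isIso_app α
  exact ⟨asIso α⟩

end Psi

section Equiv

variable {A : Type u} [CommRing A] {X : Scheme.{u}} [X.Over (Spec (CommRingCat.of A))]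
  {I J : Ideal A}

/-- the functor `Φ` on coherent formal modules -/
noncomputable def Phi (hIJ : I ≤ J) : Formal2.CohFormalCat I X ⥤ Formal2.CohFormalCat J X where
  obj F := ⟨PhiObj J F.obj, isCohFormal_PhiObj hIJ F.property⟩
  map f := ObjectProperty.homMk (PhiMap J f.hom)
  map_id F := by
    apply ObjectProperty.hom_ext
    exact PhiMap_id J F.obj
  map_comp f g := by
    apply ObjectProperty.hom_ext
    exact PhiMap_comp J f.hom g.hom

theorem nonempty_equiv_of_transfer (hIJ : I ≤ J) {d : ℕ} (h1d : 1 ≤ d)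
    (hd : Transfer I J X d) :
    Nonempty (Formal2.CohFormalCat I X ≌ Formal2.CohFormalCat J X) := by
  haveI : (Phi (X := X) hIJ).Faithful := ⟨fun {F F'} f g h => by
    apply ObjectProperty.hom_ext
    have h0 : ((Phi (X := X) hIJ).map f).hom = ((Phi (X := X) hIJ).map g).hom := by rw [h]
    have h1 : PhiMap J f.hom = PhiMap J g.hom := h0
    exact Phi_faithful_aux hd h1d F.property F'.property f.hom g.hom h1⟩
  haveI : (Phi (X := X) hIJ).Full := ⟨fun {F F'} ψ => by
    obtain ⟨φ, hφ⟩ := Phi_full_aux hd h1d F.property F'.property ψ.hom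
    refine ⟨ObjectProperty.homMk φ, ?_⟩
    apply ObjectProperty.hom_ext
    exact hφ⟩
  haveI : (Phi (X := X) hIJ).EssSurj := ⟨fun G => by
    obtain ⟨e⟩ := nonempty_Phi_Psi_iso (I := I) (d := d) hIJ h1d G.property
    exact ⟨⟨PsiObj I d G.obj, isCohFormal_PsiObj hd G.property⟩, ⟨ObjectProperty.isoMk _ e⟩⟩⟩
  haveI : (Phi (X := X) hIJ).IsEquivalence := {}
  exact ⟨(Phi (X := X) hIJ).asEquivalence⟩

variable [AlgebraicGeometry.IsNoetherian X]

theorem nonempty_equiv_of_le (hIJ : I ≤ J)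
    (hV : (fun x : X => (X ↘ Spec (CommRingCat.of A)) x) ⁻¹' PrimeSpectrum.zeroLocus (I : Set A) ⊆
      (fun x : X => (X ↘ Spec (CommRingCat.of A)) x) ⁻¹' PrimeSpectrum.zeroLocus (J : Set A)) :
    Nonempty (Formal2.CohFormalCat I X ≌ Formal2.CohFormalCat J X) := by
  obtain ⟨d, h1d, hd⟩ := exists_killedBy_pow I J hV
  exact nonempty_equiv_of_transfer hIJ h1d (fun M _ n h => hd M n h)

/-- **S9528**. -/
theorem main9528 (A : Type u) [CommRing A] (I J : Ideal A)
    (X : Scheme.{u}) [X.Over (Spec (CommRingCat.of A))] [AlgebraicGeometry.IsNoetherian X]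
    (hV : (fun x : X => (X ↘ Spec (CommRingCat.of A)) x) ⁻¹' PrimeSpectrum.zeroLocus (I : Set A) =
      (fun x : X => (X ↘ Spec (CommRingCat.of A)) x) ⁻¹' PrimeSpectrum.zeroLocus (J : Set A)) :
    Nonempty (Formal2.CohFormalCat I X ≌ Formal2.CohFormalCat J X) := by
  have hsup : ∀ p : PrimeSpectrum A, p ∈ PrimeSpectrum.zeroLocus ((I ⊔ J : Ideal A) : Set A) ↔
      p ∈ PrimeSpectrum.zeroLocus (I : Set A) ∧ p ∈ PrimeSpectrum.zeroLocus (J : Set A) := by
    intro p
    rw [PrimeSpectrum.mem_zeroLocus, PrimeSpectrum.mem_zeroLocus, PrimeSpectrum.mem_zeroLocus,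
      SetLike.coe_subset_coe, SetLike.coe_subset_coe, SetLike.coe_subset_coe, sup_le_iff]
  have h1 : Nonempty (Formal2.CohFormalCat I X ≌ Formal2.CohFormalCat (I ⊔ J) X) := by
    refine nonempty_equiv_of_le le_sup_left (fun x hx => ?_)
    have hx' : x ∈ (fun x : X => (X ↘ Spec (CommRingCat.of A)) x) ⁻¹'
        PrimeSpectrum.zeroLocus (J : Set A) := by
      rw [← hV]
      exact hx
    exact (hsup _).mpr ⟨hx, hx'⟩
  have h2 : Nonempty (Formal2.CohFormalCat J X ≌ Formal2.CohFormalCat (I ⊔ J) X) := by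
    refine nonempty_equiv_of_le le_sup_right (fun x hx => ?_)
    have hx' : x ∈ (fun x : X => (X ↘ Spec (CommRingCat.of A)) x) ⁻¹'
        PrimeSpectrum.zeroLocus (I : Set A) := by
      rw [hV]
      exact hx
    exact (hsup _).mpr ⟨hx', hx⟩
  obtain ⟨e1⟩ := h1
  obtain ⟨e2⟩ := h2
  exact ⟨e1.trans e2.symm⟩

end Equiv

end Groth.Agent.Lib.FormalChgH2
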