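import Mathlib
import Groth.Prelude
import Groth.Agent.Lib.SteinFin_helper3

/-!
# Formal functions along a connected closed subscheme of a proper scheme over an algebraically
closed field form a local ring (helper9)

Statement of S11393.
APPEND-ONLY once landed.
-/

set_option autoImplicit false
universe u
open CategoryTheory CategoryTheory.Limits AlgebraicGeometry Opposite TopologicalSpace

namespace FormalConn

section Alg

variable {k R : Type u} [Field k] [CommRing R] [Algebra k R]

/-- a finite algebra with only trivial idempotents is local -/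
theorem isLocalRing_of_idem [Module.Finite k R] [Nontrivial R]
    (hidem : ∀ e : R, IsIdempotentElem e → e = 0 ∨ e = 1) : IsLocalRing R := by
  haveI : IsArtinianRing R := IsArtinianRing.of_finite k R
  haveI : PreconnectedSpace (PrimeSpectrum R) := by
    rw [preconnectedSpace_iff_clopen]
    intro s hs
    obtain ⟨e, he, rfl⟩ := PrimeSpectrum.isClopen_iff.mp hs
    rcases hidem _ he with h | h
    · left
      rw [h]; simp
    · right
      rw [h]; simp
  haveI : Subsingleton (PrimeSpectrum R) := PreconnectedSpace.trivial_of_discrete
  obtain ⟨m, hm⟩ := Ideal.exists_maximal R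
  refine IsLocalRing.of_unique_max_ideal ⟨m, hm, fun m' hm' => ?_⟩
  have h := Subsingleton.elim (⟨m', hm'.isPrime⟩ : PrimeSpectrum R) ⟨m, hm.isPrime⟩
  exact congrArg PrimeSpectrum.asIdeal h

/-- over an algebraically closed field, every element of a finite algebra with only trivial
idempotents is a constant plus a nilpotent -/
theorem exists_sub_nilpotent [IsAlgClosed k] [Module.Finite k R] [Nontrivial R]
    (hidem : ∀ e : R, IsIdempotentElem e → e = 0 ∨ e = 1) (r : R) :
    ∃ c : k, IsNilpotent (r - algebraMap k R c) := by
  haveI : IsArtinianRing R := IsArtinianRing.of_finite k R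
  haveI := isLocalRing_of_idem (k := k) hidem
  haveI : Algebra.IsIntegral k (IsLocalRing.ResidueField R) := Algebra.IsIntegral.of_finite k _
  obtain ⟨c, hc⟩ := (IsAlgClosed.algebraMap_bijective_of_isIntegral
    (k := k) (K := IsLocalRing.ResidueField R)).2 (IsLocalRing.residue R r)
  refine ⟨c, ?_⟩
  have hmem : r - algebraMap k R c ∈ IsLocalRing.maximalIdeal R := by
    rw [← IsLocalRing.residue_eq_zero_iff, map_sub, ← hc]
    exact sub_self _
  have hj : Ideal.jacobson (⊥ : Ideal R) = IsLocalRing.maximalIdeal R :=
    IsLocalRing.jacobson_eq_maximalIdeal ⊥ bot_ne_top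
  obtain ⟨n, hn⟩ := IsArtinianRing.isNilpotent_jacobson_bot (R := R)
  rw [hj] at hn
  refine ⟨n, ?_⟩
  have := Ideal.pow_mem_pow hmem n
  rw [hn] at this
  exact this

/-- uniqueness of the constant -/
theorem const_unique [Nontrivial R] {r : R} {c c' : k}
    (h : IsNilpotent (r - algebraMap k R c)) (h' : IsNilpotent (r - algebraMap k R c')) :
    c = c' := by
  by_contra hne
  have h1 : IsNilpotent (algebraMap k R (c' - c)) := by
    have := (Commute.all _ _).isNilpotent_sub h h'
    have h2 : r - algebraMap k R c - (r - algebraMap k R c') = algebraMap k R (c' - c) := by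
      rw [map_sub]; ring
    rwa [h2] at this
  have h3 : IsUnit (algebraMap k R (c' - c)) :=
    (IsUnit.mk0 _ (sub_ne_zero.mpr (Ne.symm hne))).map _
  obtain ⟨n, hn⟩ := h1
  have h4 : IsUnit ((algebraMap k R (c' - c)) ^ n) := h3.pow n
  rw [hn] at h4
  exact not_isUnit_zero h4

end Alg

end FormalConn
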