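import Mathlib
import Groth.Prelude
import Groth.Agent.Lib.FormalConn1_helper9

/-!
# Limits of towers of "constant plus nilpotent" algebras are local (helper9)

APPEND-ONLY once landed.
-/

set_option autoImplicit false
universe u
open CategoryTheory CategoryTheory.Limits Opposite

namespace FormalConn

section Tower

variable {k : Type u} [Field k] (R : ℕ → CommRingCat.{u}) (t : ∀ m, R (m + 1) ⟶ R m)
  (σ : ∀ m, k →+* R m) (hσ : ∀ m c, (t m).hom (σ (m + 1) c) = σ m c)
  (hnt : ∀ m, Nontrivial (R m))
  (hex : ∀ m (r : R m), ∃ c : k, IsNilpotent (r - σ m c))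

/-- the tower as a functor -/
noncomputable abbrev tower : ℕᵒᵖ ⥤ CommRingCat.{u} := Functor.ofOpSequence (X := R) t

/-- the projections -/
noncomputable abbrev proj (m : ℕ) : ↑(limit (tower R t)) →+* R m :=
  (limit.π (tower R t) (op m)).hom

theorem proj_succ (m : ℕ) (a : ↑(limit (tower R t))) :
    (t m).hom (proj R t (m + 1) a) = proj R t m a := by
  have h := limit.w (tower R t) (homOfLE (Nat.le_add_right m 1)).op
  rw [Functor.ofOpSequence_map_homOfLE_succ] at h
  have := congrArg (fun φ => φ.hom a) h
  exact this

include hnt in
/-- uniqueness of constants with a ring hom -/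
theorem const_unique' (m : ℕ) {r : R m} {c c' : k}
    (h : IsNilpotent (r - σ m c)) (h' : IsNilpotent (r - σ m c')) : c = c' := by
  haveI := hnt m
  letI := (σ m).toAlgebra
  exact const_unique (k := k) (R := R m) h h'

include hσ hnt hex in
/-- every element of the limit is a constant plus a levelwise nilpotent -/
theorem exists_const (a : ↑(limit (tower R t))) :
    ∃ c : k, ∀ m, IsNilpotent (proj R t m a - σ m c) := by
  choose c hc using fun m => hex m (proj R t m a)
  have hstep : ∀ m, c (m + 1) = c m := by
    intro m
    have h1 := (hc (m + 1)).map (t m).hom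
    rw [map_sub, proj_succ, hσ] at h1
    exact const_unique' R σ hnt m h1 (hc m)
  have hall : ∀ m, c m = c 0 := by
    intro m
    induction m with
    | zero => rfl
    | succ m ih => rw [hstep, ih]
  exact ⟨c 0, fun m => by rw [← hall m]; exact hc m⟩

/-- an element of the limit which is a unit on each level is a unit -/
theorem isUnit_of_forall_isUnit (a : ↑(limit (tower R t)))
    (hu : ∀ m, IsUnit (proj R t m a)) : IsUnit a := by
  let A := limit (tower R t)
  let B : CommRingCat.{u} := CommRingCat.of (Localization.Away a)
  let β : ∀ m, B ⟶ R m := fun m =>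
    CommRingCat.ofHom (IsLocalization.Away.lift (S := Localization.Away a) a (hu m))
  have hβ : ∀ m, (β m).hom.comp (algebraMap A (Localization.Away a)) = proj R t m := by
    intro m
    exact IsLocalization.Away.lift_comp (S := Localization.Away a) a (hu m)
  have hcompat : ∀ m, β (m + 1) ≫ t m = β m := by
    intro m
    ext1
    apply IsLocalization.ringHom_ext (Submonoid.powers a)
    rw [CommRingCat.hom_comp, RingHom.comp_assoc, hβ, hβ]
    ext x
    exact proj_succ R t m x
  let cone : Cone (tower R t) :=
    { pt := B
      π := NatTrans.ofOpSequence (F := (Functor.const ℕᵒᵖ).obj B) (G := tower R t)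
        (fun m => β m) (fun m => by
          rw [Functor.ofOpSequence_map_homOfLE_succ]
          simp only [Functor.const_obj_obj, Functor.const_obj_map, Category.id_comp]
          exact (hcompat m).symm) }
  let ψ : B ⟶ A := limit.lift (tower R t) cone
  have hψ : CommRingCat.ofHom (algebraMap A (Localization.Away a)) ≫ ψ = 𝟙 A := by
    apply limit.hom_ext
    intro j
    obtain ⟨m⟩ := j
    rw [Category.assoc, limit.lift_π]
    refine Eq.trans ?_ (Category.id_comp _).symm
    ext1
    exact hβ m
  have h1 : ψ.hom (algebraMap A (Localization.Away a) a) = a := by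
    have := congrArg (fun φ => φ.hom a) hψ
    exact this
  rw [← h1]
  exact (IsLocalization.Away.algebraMap_isUnit (S := Localization.Away a) a).map ψ.hom

include hσ hnt hex in
/-- the limit is a local ring -/
theorem isLocalRing_limit : IsLocalRing ↑(limit (tower R t)) := by
  haveI := hnt 0
  -- characterisation of units
  have hN : ∀ a : ↑(limit (tower R t)), ¬ IsUnit a ↔ ∀ m, IsNilpotent (proj R t m a) := by
    intro a
    constructor
    · intro hna
      obtain ⟨c, hc⟩ := exists_const R t σ hσ hnt hex a
      by_cases hc0 : c = 0
      · intro m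
        have := hc m
        rwa [hc0, map_zero, sub_zero] at this
      · exfalso
        apply hna
        apply isUnit_of_forall_isUnit R t a
        intro m
        have h1 : IsUnit (σ m c) := (IsUnit.mk0 c hc0).map (σ m)
        have h2 : proj R t m a = σ m c + (proj R t m a - σ m c) := by ring
        rw [h2]
        exact (hc m).isUnit_add_left_of_commute h1 (Commute.all _ _)
    · intro hn hu
      have h0 := hn 0
      have hu0 : IsUnit (proj R t 0 a) := hu.map _
      obtain ⟨n, hn0⟩ := h0
      have := hu0.pow n
      rw [hn0] at this
      exact not_isUnit_zero this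
  haveI : Nontrivial ↑(limit (tower R t)) := by
    refine ⟨⟨0, 1, fun h => ?_⟩⟩
    have := congrArg (proj R t 0) h
    rw [map_zero, map_one] at this
    exact zero_ne_one this
  refine IsLocalRing.of_nonunits_add (fun a b ha hb => ?_)
  have ha' := (hN a).mp ha
  have hb' := (hN b).mp hb
  refine (hN (a + b)).mpr (fun m => ?_)
  rw [map_add]
  exact (Commute.all _ _).isNilpotent_add (ha' m) (hb' m)

end Tower

end FormalConn
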