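import Mathlib
import Groth.Prelude
import Groth.Agent.Lib.FormalConn2_helper9

/-!
# Formal functions along a connected closed subscheme: the scheme part (helper9)

APPEND-ONLY once landed.
-/

set_option autoImplicit false
universe u
open CategoryTheory CategoryTheory.Limits AlgebraicGeometry Opposite TopologicalSpace

namespace FormalConn

/-- global idempotents on a connected quasi-compact scheme are trivial -/
theorem idempotent_trivial (X : Scheme.{u}) [ConnectedSpace ↥X] [CompactSpace X] (e : Γ(X, ⊤))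
    (he : IsIdempotentElem e) : e = 0 ∨ e = 1 := by
  have key : ∀ e : Γ(X, ⊤), IsIdempotentElem e → X.basicOpen e = ⊥ → e = 0 := by
    intro e he h
    obtain ⟨n, hn⟩ := (Scheme.isNilpotent_iff_basicOpen_eq_bot e).mpr h
    cases n with
    | zero =>
      rw [pow_zero] at hn
      rw [← mul_one e, hn, mul_zero]
    | succ n => rwa [he.pow_succ_eq] at hn
  have hdisj : X.basicOpen e ⊓ X.basicOpen (1 - e) = ⊥ := by
    rw [← Scheme.basicOpen_mul]
    have h0 : e * (1 - e) = 0 := by rw [mul_sub, mul_one, he.eq, sub_self]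
    rw [h0, Scheme.basicOpen_zero]
  have hcov : ∀ x : ↥X, x ∈ X.basicOpen e ∨ x ∈ X.basicOpen (1 - e) := by
    intro x
    have h1 : IsUnit (X.presheaf.germ ⊤ x trivial e + X.presheaf.germ ⊤ x trivial (1 - e)) := by
      rw [← map_add, add_sub_cancel, map_one]; exact isUnit_one
    rcases IsLocalRing.isUnit_or_isUnit_of_isUnit_add h1 with h | h
    · exact Or.inl ((X.mem_basicOpen_top e x).mpr h)
    · exact Or.inr ((X.mem_basicOpen_top (1 - e) x).mpr h)
  have hUV : (X.basicOpen e : Set ↥X) = ((X.basicOpen (1 - e) : Set ↥X))ᶜ := by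
    apply Set.Subset.antisymm
    · intro x hx hxV
      have hmem : x ∈ (X.basicOpen e ⊓ X.basicOpen (1 - e) : X.Opens) := ⟨hx, hxV⟩
      rw [hdisj] at hmem
      exact hmem
    · intro x hxV
      exact (hcov x).resolve_right hxV
  have hclopen : IsClopen (X.basicOpen e : Set ↥X) := by
    refine ⟨?_, (X.basicOpen e).2⟩
    rw [hUV]; exact (X.basicOpen (1 - e)).2.isClosed_compl
  rcases isClopen_iff.mp hclopen with h | h
  · left
    exact key e he (TopologicalSpace.Opens.ext (h.trans TopologicalSpace.Opens.coe_bot.symm))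
  · right
    have h2 : X.basicOpen (1 - e) = ⊥ := by
      refine TopologicalSpace.Opens.ext (Set.eq_empty_of_forall_notMem fun x hxV => ?_)
      have hx : x ∈ (X.basicOpen e : Set ↥X) := h ▸ Set.mem_univ x
      rw [hUV] at hx
      exact hx hxV
    have h3 := key (1 - e) he.one_sub h2
    exact (sub_eq_zero.mp h3).symm

section Main

variable (k : Type u) [Field k] [IsAlgClosed k] (X : Scheme.{u})
  [X.Over (Spec (CommRingCat.of k))] [IsProper (X ↘ (Spec (CommRingCat.of k)))]

/-- the structure map of a closed subscheme on global sections -/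
noncomputable abbrev strMap (J : X.IdealSheafData) : k →+* Γ(J.subscheme, ⊤) :=
  ((J.subschemeι ≫ (X ↘ Spec (CommRingCat.of k))).appTop.hom).comp
    (Scheme.ΓSpecIso (CommRingCat.of k)).inv.hom

/-- on a connected closed subscheme, global functions are constants plus nilpotents -/
theorem exists_sub_nilpotent_subscheme (J : X.IdealSheafData)
    (hJ : _root_.IsConnected (J.support : Set X)) (r : Γ(J.subscheme, ⊤)) :
    Nontrivial Γ(J.subscheme, ⊤) ∧ ∃ c : k, IsNilpotent (r - strMap k X J c) := by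
  set i := J.subschemeι with hi
  haveI : IsProper (i ≫ (X ↘ Spec (CommRingCat.of k))) := inferInstance
  haveI : CompactSpace J.subscheme :=
    QuasiCompact.compactSpace_of_compactSpace (i ≫ (X ↘ Spec (CommRingCat.of k)))
  have hrange : Set.range i = (J.support : Set X) := by
    rw [hi, Scheme.IdealSheafData.range_subschemeι]
  haveI : ConnectedSpace (Set.range i) := by
    rw [hrange]
    exact isConnected_iff_connectedSpace.mp hJ
  haveI : ConnectedSpace J.subscheme :=
    i.isClosedEmbedding.isEmbedding.toHomeomorph.connectedSpace_iff.mpr inferInstance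
  obtain ⟨x0⟩ : Nonempty J.subscheme := inferInstance
  haveI : Nonempty (⊤ : J.subscheme.Opens) := ⟨⟨x0, trivial⟩⟩
  haveI hnt : Nontrivial Γ(J.subscheme, ⊤) := Scheme.component_nontrivial _ ⊤
  refine ⟨hnt, ?_⟩
  have hfin := SteinFinH3.finite_comp_of_isProper k (i ≫ (X ↘ Spec (CommRingCat.of k)))
  letI := (strMap k X J).toAlgebra
  haveI : Module.Finite k Γ(J.subscheme, ⊤) := hfin
  exact exists_sub_nilpotent (k := k) (R := Γ(J.subscheme, ⊤)) (idempotent_trivial _) r

/-- **S11393** -/
theorem main (𝓘 : X.IdealSheafData) (hY : _root_.IsConnected (𝓘.support : Set X)) :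
    IsLocalRing ↑(limit (Functor.ofOpSequence
        (X := fun m : ℕ => Γ((𝓘 ^ (m + 1)).subscheme, ⊤))
        (fun m : ℕ => (Scheme.IdealSheafData.inclusion (Lef.pow_succ_le 𝓘 m)).appTop))) ∧
      ∀ a : ↑(limit (Functor.ofOpSequence
        (X := fun m : ℕ => Γ((𝓘 ^ (m + 1)).subscheme, ⊤))
        (fun m : ℕ => (Scheme.IdealSheafData.inclusion (Lef.pow_succ_le 𝓘 m)).appTop))),
        ∃ c : k, ∀ m : ℕ, IsNilpotent (Sub.sub (α := ↑Γ((𝓘 ^ (m + 1)).subscheme, ⊤))
          ((limit.π (Functor.ofOpSequence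
              (X := fun m : ℕ => Γ((𝓘 ^ (m + 1)).subscheme, ⊤))
              (fun m : ℕ => (Scheme.IdealSheafData.inclusion (Lef.pow_succ_le 𝓘 m)).appTop))
                (Opposite.op m)).hom a)
          (((𝓘 ^ (m + 1)).subschemeι ≫ (X ↘ Spec (CommRingCat.of k))).appTop.hom
            ((Scheme.ΓSpecIso (CommRingCat.of k)).inv.hom c))) := by
  have hconn : ∀ m : ℕ, _root_.IsConnected ((𝓘 ^ (m + 1)).support : Set X) := fun m => by
    rw [Scheme.IdealSheafData.support_pow_succ]; exact hY
  have hσ : ∀ (m : ℕ) (c : k),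
      ((Scheme.IdealSheafData.inclusion (Lef.pow_succ_le 𝓘 m)).appTop).hom
        (strMap k X (𝓘 ^ (m + 1 + 1)) c) = strMap k X (𝓘 ^ (m + 1)) c := by
    intro m c
    have h1 : Scheme.IdealSheafData.inclusion (Lef.pow_succ_le 𝓘 m) ≫
        ((𝓘 ^ (m + 1 + 1)).subschemeι ≫ (X ↘ Spec (CommRingCat.of k))) =
          (𝓘 ^ (m + 1)).subschemeι ≫ (X ↘ Spec (CommRingCat.of k)) := by
      rw [← Category.assoc, Scheme.IdealSheafData.inclusion_subschemeι]
    have h2 := congrArg Scheme.Hom.appTop h1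
    rw [Scheme.Hom.comp_appTop] at h2
    have h3 := congrArg (fun φ => φ.hom ((Scheme.ΓSpecIso (CommRingCat.of k)).inv.hom c)) h2
    exact h3
  have hnt : ∀ m : ℕ, Nontrivial Γ((𝓘 ^ (m + 1)).subscheme, ⊤) := fun m =>
    (exists_sub_nilpotent_subscheme k X _ (hconn m) 0).1
  have hex : ∀ (m : ℕ) (r : Γ((𝓘 ^ (m + 1)).subscheme, ⊤)),
      ∃ c : k, IsNilpotent (r - strMap k X (𝓘 ^ (m + 1)) c) := fun m r =>
    (exists_sub_nilpotent_subscheme k X _ (hconn m) r).2
  refine ⟨?_, ?_⟩
  · exact isLocalRing_limit (k := k) (fun m : ℕ => Γ((𝓘 ^ (m + 1)).subscheme, ⊤))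
      (fun m : ℕ => (Scheme.IdealSheafData.inclusion (Lef.pow_succ_le 𝓘 m)).appTop)
      (fun m => strMap k X (𝓘 ^ (m + 1))) hσ hnt hex
  · intro a
    exact exists_const (k := k) (fun m : ℕ => Γ((𝓘 ^ (m + 1)).subscheme, ⊤))
      (fun m : ℕ => (Scheme.IdealSheafData.inclusion (Lef.pow_succ_le 𝓘 m)).appTop)
      (fun m => strMap k X (𝓘 ^ (m + 1))) hσ hnt hex a

end Main

end FormalConn
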