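import Mathlib

/-!
# Sections over the formal disc are corepresentable (helper3)

For a `k[[z]]`-algebra `R`, the functor `Q ↦ Hom_{k[[z]]}(R, Q[[z]])` on `k`-algebras is
corepresented by `P = k[x_{r,α}] / J`, where `x_{r,α}` is the universal `α`-th coefficient of the
image of `r` and `J` forces `r ↦ Σ_α x_{r,α} z^α` to be a `k[[z]]`-algebra homomorphism.
-/

set_option autoImplicit false
open MvPowerSeries

namespace Groth.Agent.Lib.FormalDiscCorepH3

universe u

section
variable (k : Type u) [Field k] (n : ℕ) (R : Type u) [CommRing R]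
  [Algebra (MvPowerSeries (Fin n) k) R]

/-- the polynomial ring on the universal coefficients -/
abbrev T := MvPolynomial (R × (Fin n →₀ ℕ)) k

/-- the universal series -/
noncomputable def U (r : R) : MvPowerSeries (Fin n) (T k n R) := fun α => MvPolynomial.X (r, α)

lemma coeff_U (r : R) (α : Fin n →₀ ℕ) : coeff α (U k n R r) = MvPolynomial.X (r, α) := rfl

/-- the relations -/
def Rel : Set (T k n R) :=
  {p | ∃ (r s : R) (α : Fin n →₀ ℕ),
      p = MvPolynomial.X (r + s, α) - MvPolynomial.X (r, α) - MvPolynomial.X (s, α)} ∪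
  {p | ∃ (r s : R) (α : Fin n →₀ ℕ),
      p = MvPolynomial.X (r * s, α) - coeff α (U k n R r * U k n R s)} ∪
  {p | ∃ (a : MvPowerSeries (Fin n) k) (α : Fin n →₀ ℕ),
      p = MvPolynomial.X (algebraMap _ R a, α) - MvPolynomial.C (coeff α a)}

/-- the ideal of relations -/
noncomputable def J : Ideal (T k n R) := Ideal.span (Rel k n R)

/-- the corepresenting algebra -/
abbrev P := T k n R ⧸ J k n R

/-- class of the universal coefficient -/
noncomputable def xc (r : R) (α : Fin n →₀ ℕ) : P k n R :=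
  Ideal.Quotient.mk (J k n R) (MvPolynomial.X (r, α))

/-- the universal homomorphism, as a function -/
noncomputable def uF (r : R) : MvPowerSeries (Fin n) (P k n R) :=
  MvPowerSeries.map (Ideal.Quotient.mk (J k n R)) (U k n R r)

lemma coeff_uF (r : R) (α : Fin n →₀ ℕ) : coeff α (uF k n R r) = xc k n R r α := by
  rw [uF, coeff_map, coeff_U]; rfl

lemma xc_add (r s : R) (α : Fin n →₀ ℕ) : xc k n R (r + s) α = xc k n R r α + xc k n R s α := by
  unfold xc
  rw [← map_add, Ideal.Quotient.eq]
  have : (MvPolynomial.X (r + s, α) - (MvPolynomial.X (r, α) + MvPolynomial.X (s, α)) : T k n R)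
      = MvPolynomial.X (r + s, α) - MvPolynomial.X (r, α) - MvPolynomial.X (s, α) := by ring
  rw [this]
  exact Ideal.subset_span (Or.inl (Or.inl ⟨r, s, α, rfl⟩))

lemma xc_mul (r s : R) (α : Fin n →₀ ℕ) :
    xc k n R (r * s) α = coeff α (uF k n R r * uF k n R s) := by
  unfold xc uF
  rw [← map_mul, coeff_map, Ideal.Quotient.eq]
  exact Ideal.subset_span (Or.inl (Or.inr ⟨r, s, α, rfl⟩))

lemma xc_algebraMap (a : MvPowerSeries (Fin n) k) (α : Fin n →₀ ℕ) :
    xc k n R (algebraMap _ R a) α = algebraMap k (P k n R) (coeff α a) := by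
  unfold xc
  have : algebraMap k (P k n R) (coeff α a) =
      Ideal.Quotient.mk (J k n R) (MvPolynomial.C (coeff α a)) := rfl
  rw [this, Ideal.Quotient.eq]
  exact Ideal.subset_span (Or.inr ⟨a, α, rfl⟩)

lemma uF_add (r s : R) : uF k n R (r + s) = uF k n R r + uF k n R s := by
  ext α
  rw [map_add, coeff_uF, coeff_uF, coeff_uF, xc_add]

lemma uF_mul (r s : R) : uF k n R (r * s) = uF k n R r * uF k n R s := by
  ext α
  rw [coeff_uF, xc_mul]

lemma uF_algebraMap (a : MvPowerSeries (Fin n) k) :
    uF k n R (algebraMap _ R a) = algebraMap _ _ a := by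
  ext α
  rw [coeff_uF, xc_algebraMap, MvPowerSeries.algebraMap_apply'', coeff_map]

/-- the universal homomorphism -/
noncomputable def u : R →ₐ[MvPowerSeries (Fin n) k] MvPowerSeries (Fin n) (P k n R) where
  toFun := uF k n R
  map_one' := by
    have := uF_algebraMap k n R 1
    rwa [map_one, map_one] at this
  map_mul' := uF_mul k n R
  map_zero' := by
    have := uF_add k n R 0 0
    rw [add_zero] at this
    exact left_eq_add.mp this
  map_add' := uF_add k n R
  commutes' := uF_algebraMap k n R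

lemma coeff_u (r : R) (α : Fin n →₀ ℕ) : coeff α (u k n R r) = xc k n R r α := coeff_uF k n R r α

section Univ
variable {k n R}
variable {Q : Type u} [CommRing Q] [Algebra k Q]
  (f : R →ₐ[MvPowerSeries (Fin n) k] MvPowerSeries (Fin n) Q)

/-- the map on the polynomial ring -/
noncomputable def g₀ : T k n R →ₐ[k] Q :=
  MvPolynomial.aeval (fun i : R × (Fin n →₀ ℕ) => coeff i.2 (f i.1))

lemma g₀_X (r : R) (α : Fin n →₀ ℕ) : g₀ f (MvPolynomial.X (r, α)) = coeff α (f r) := by
  simp [g₀]

lemma map_g₀_U (r : R) : MvPowerSeries.map (g₀ f : T k n R →+* Q) (U k n R r) = f r := by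
  ext α
  rw [coeff_map, coeff_U]
  exact g₀_X f r α

lemma g₀_rel (p : T k n R) (hp : p ∈ Rel k n R) : g₀ f p = 0 := by
  rcases hp with (⟨r, s, α, rfl⟩ | ⟨r, s, α, rfl⟩) | ⟨a, α, rfl⟩
  · rw [map_sub, map_sub, g₀_X, g₀_X, g₀_X, map_add, map_add]; ring
  · rw [map_sub, g₀_X]
    have h1 : g₀ f (coeff α (U k n R r * U k n R s)) =
        coeff α (MvPowerSeries.map (g₀ f : T k n R →+* Q) (U k n R r * U k n R s)) := by
      rw [coeff_map]; rfl
    have h2 : MvPowerSeries.map (g₀ f : T k n R →+* Q) (U k n R r * U k n R s) = f r * f s := by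
      rw [map_mul, map_g₀_U, map_g₀_U]
    rw [h1, h2, map_mul, sub_self]
  · rw [map_sub, g₀_X, AlgHom.commutes]
    have : g₀ f (MvPolynomial.C (coeff α a)) = algebraMap k Q (coeff α a) := by
      simp [g₀]
    rw [this, MvPowerSeries.algebraMap_apply'', coeff_map, sub_self]

/-- the induced map on the corepresenting algebra -/
noncomputable def g : P k n R →ₐ[k] Q :=
  Ideal.Quotient.liftₐ (J k n R) (g₀ f) (fun a ha => by
    have hle : J k n R ≤ RingHom.ker (g₀ f : T k n R →+* Q) :=
      Ideal.span_le.mpr (fun p hp => g₀_rel f p hp)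
    exact hle ha)

lemma g_xc (r : R) (α : Fin n →₀ ℕ) : g f (xc k n R r α) = coeff α (f r) := by
  unfold g xc
  rw [Ideal.Quotient.liftₐ_apply, Ideal.Quotient.lift_mk]
  exact g₀_X f r α

lemma map_g_u : (MvPowerSeries.map (σ := Fin n) (g f : P k n R →+* Q)).comp
    (u k n R : R →+* MvPowerSeries (Fin n) (P k n R)) = (f : R →+* MvPowerSeries (Fin n) Q) := by
  ext r α
  simp only [RingHom.coe_comp, Function.comp_apply, RingHom.coe_coe]
  rw [coeff_map, coeff_u]
  exact g_xc f r α

lemma g_unique (g' : P k n R →ₐ[k] Q)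
    (h : (MvPowerSeries.map (σ := Fin n) (g' : P k n R →+* Q)).comp
      (u k n R : R →+* MvPowerSeries (Fin n) (P k n R)) = (f : R →+* MvPowerSeries (Fin n) Q)) :
    g' = g f := by
  apply Ideal.Quotient.algHom_ext
  apply MvPolynomial.algHom_ext
  rintro ⟨r, α⟩
  have h1 := congrArg (fun φ => coeff α (φ r)) h
  simp only [RingHom.coe_comp, Function.comp_apply, RingHom.coe_coe] at h1
  rw [coeff_map, coeff_u] at h1
  change g' (xc k n R r α) = g f (xc k n R r α)
  rw [g_xc]
  exact h1

end Univ

section Countable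
variable {k n R}

lemma mem_adjoin_of_forall_xc (A : Subalgebra k (P k n R))
    (h : ∀ (r : R) (α : Fin n →₀ ℕ), xc k n R r α ∈ A) : A = ⊤ := by
  rw [eq_top_iff]
  rintro p -
  obtain ⟨q, rfl⟩ := Ideal.Quotient.mk_surjective p
  induction q using MvPolynomial.induction_on with
  | C a => exact A.algebraMap_mem a
  | add p q hp hq => rw [map_add]; exact add_mem hp hq
  | mul_X p i hp =>
    rw [map_mul]
    exact mul_mem hp (h i.1 i.2)

/-- the elements of `R` all of whose universal coefficients lie in a given subalgebra -/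
noncomputable def subR (A : Subalgebra k (P k n R)) : Subalgebra (MvPowerSeries (Fin n) k) R where
  carrier := {r | ∀ α : Fin n →₀ ℕ, xc k n R r α ∈ A}
  mul_mem' {r s} hr hs α := by
    rw [xc_mul, MvPowerSeries.coeff_mul]
    refine sum_mem (fun p _ => ?_)
    rw [coeff_uF, coeff_uF]
    exact mul_mem (hr _) (hs _)
  add_mem' {r s} hr hs α := by
    rw [xc_add]; exact add_mem (hr α) (hs α)
  algebraMap_mem' a α := by
    rw [xc_algebraMap]; exact A.algebraMap_mem _

theorem countable_gen (s : Set R) (hs : s.Countable)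
    (hgen : Algebra.adjoin (MvPowerSeries (Fin n) k) s = ⊤) :
    ∃ t : Set (P k n R), t.Countable ∧ Algebra.adjoin k t = ⊤ := by
  refine ⟨(fun i : R × (Fin n →₀ ℕ) => xc k n R i.1 i.2) '' (s ×ˢ Set.univ),
    (hs.prod Set.countable_univ).image _, ?_⟩
  apply mem_adjoin_of_forall_xc
  set A := Algebra.adjoin k
    ((fun i : R × (Fin n →₀ ℕ) => xc k n R i.1 i.2) '' (s ×ˢ (Set.univ : Set (Fin n →₀ ℕ))))
  have hsub : s ⊆ (subR A : Set R) := by
    intro r hr α
    exact Algebra.subset_adjoin ⟨(r, α), ⟨hr, Set.mem_univ _⟩, rfl⟩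
  have htop : subR A = ⊤ := by
    rw [eq_top_iff, ← hgen]
    exact Algebra.adjoin_le hsub
  intro r α
  have : r ∈ subR A := by rw [htop]; trivial
  exact this α

end Countable

end

end Groth.Agent.Lib.FormalDiscCorepH3
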