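import Mathlib
import Groth.Prelude.Def_FSch4
import Groth.Prelude.Def_FEt
import Groth.Agent.Lib.TopInv_helper4
import Groth.Agent.Lib.EtLift4_helper7

/-!
# Étale covers of a formal scheme and of its smallest level (helper5)
APPEND-ONLY once landed.

For a system of thickenings `𝔛`, restriction to level `0` is an equivalence from étale covers of `𝔛`
(adic systems of finite étale covers) to finite étale covers of `X 0` (EGA IV 18.3.4 / SGA 1 I 8.4),
by topological invariance of the étale site (helper4 `TopInvH4`, helper7 `EtLiftH7.main238`).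
-/

set_option autoImplicit false
set_option linter.style.haveILetI false
universe u

open CategoryTheory CategoryTheory.Limits AlgebraicGeometry

namespace Groth.Agent.FormalEtCov

variable (𝔛 : FSch.Sys.{u})

section Basic

variable {𝔛} (R : FSch.EtCov 𝔛)

/-- the structure morphism of an étale cover, as a morphism of systems. -/
abbrev str : FSch.Hom R.obj.left 𝔛 := R.obj.hom

theorem isPullback (n : ℕ) :
    IsPullback (R.obj.left.ι n) ((str R).app n) ((str R).app (n + 1)) (𝔛.ι n) :=
  R.property.1 n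

theorem etale_level (n : ℕ) : Etale ((str R).app n) := (R.property.2 n).2

theorem isFinite_level (n : ℕ) : IsFinite ((str R).app n) := (R.property.2 n).1

theorem ι_isClosedImmersion (hF : 𝔛.IsFormal) (n : ℕ) : IsClosedImmersion (R.obj.left.ι n) :=
  MorphismProperty.of_isPullback (P := @IsClosedImmersion) (isPullback R n).flip (hF n).1

theorem ι_surjective (hF : 𝔛.IsFormal) (n : ℕ) : Surjective (R.obj.left.ι n) :=
  MorphismProperty.of_isPullback (P := @Surjective) (isPullback R n).flip ⟨(hF n).2⟩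

theorem hom_w {R R' : FSch.EtCov 𝔛} (φ : R ⟶ R') (n : ℕ) :
    (φ.hom.left : FSch.Hom _ _).app n ≫ (str R').app n = (str R).app n := by
  have h := Over.w φ.hom
  exact congrArg (fun t : FSch.Hom R.obj.left 𝔛 => t.app n) h

end Basic

section Faithful

variable (hF : 𝔛.IsFormal)
include hF

theorem level_faithful : (FSch.EtCov.level 𝔛 0).Faithful := by
  refine ⟨fun {R R'} φ ψ h => ?_⟩
  have key : ∀ n, (φ.hom.left : FSch.Hom _ _).app n = (ψ.hom.left : FSch.Hom _ _).app n := by
    intro n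
    induction n with
    | zero =>
      have h' := congrArg (fun t => t.left) h
      exact h'
    | succ n ih =>
      haveI := etale_level R' (n + 1)
      haveI := ι_surjective R hF n
      refine Groth.Agent.Lib.TopInvH4.unique_lift ((str R').app (n + 1)) ((str R).app (n + 1))
        (R.obj.left.ι n) _ _ (hom_w φ (n + 1)) (hom_w ψ (n + 1)) ?_
      rw [← (φ.hom.left : FSch.Hom _ _).comm n, ← (ψ.hom.left : FSch.Hom _ _).comm n, ih]
  apply ObjectProperty.hom_ext
  apply Over.OverMorphism.ext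
  exact FSch.Hom.ext (funext key)

end Faithful

section Full

variable (hF : 𝔛.IsFormal)
include hF

/-- one lifting step. -/
theorem exists_step (R R' : FSch.EtCov 𝔛) (n : ℕ) (a : R.obj.left.X n ⟶ R'.obj.left.X n)
    (ha : a ≫ (str R').app n = (str R).app n) :
    ∃ b : R.obj.left.X (n + 1) ⟶ R'.obj.left.X (n + 1),
      b ≫ (str R').app (n + 1) = (str R).app (n + 1) ∧
        R.obj.left.ι n ≫ b = a ≫ R'.obj.left.ι n := by
  haveI := etale_level R' (n + 1)
  haveI := ι_surjective R hF n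
  haveI := ι_isClosedImmersion R hF n
  refine Groth.Agent.Lib.TopInvH4.exists_lift ((str R').app (n + 1)) ((str R).app (n + 1))
    (R.obj.left.ι n) (a ≫ R'.obj.left.ι n) ?_
  rw [Category.assoc, ← (str R').comm n, ← Category.assoc, ha, (str R).comm n]

theorem level_full : (FSch.EtCov.level 𝔛 0).Full := by
  refine ⟨fun {R R'} g => ?_⟩
  have hg : g.left ≫ (str R').app 0 = (str R).app 0 := MorphismProperty.Over.w g
  choose b hb1 hb2 using exists_step 𝔛 hF R R'
  let seq : ∀ n, {a : R.obj.left.X n ⟶ R'.obj.left.X n // a ≫ (str R').app n = (str R).app n} :=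
    fun n => Nat.rec (motive := fun n =>
        {a : R.obj.left.X n ⟶ R'.obj.left.X n // a ≫ (str R').app n = (str R).app n})
      ⟨g.left, hg⟩ (fun n a => ⟨b n a.1 a.2, hb1 n a.1 a.2⟩) n
  have hseq : ∀ n, (seq (n + 1)).1 = b n (seq n).1 (seq n).2 := fun n => rfl
  let Φ : FSch.Hom R.obj.left R'.obj.left :=
    ⟨fun n => (seq n).1, fun n => by
      rw [hseq n]
      exact (hb2 n (seq n).1 (seq n).2).symm⟩
  have hΦ : (Φ : R.obj.left ⟶ R'.obj.left) ≫ R'.obj.hom = R.obj.hom :=
    FSch.Hom.ext (funext fun n => (seq n).2)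
  refine ⟨ObjectProperty.homMk (Over.homMk (Φ : R.obj.left ⟶ R'.obj.left) hΦ), ?_⟩
  apply MorphismProperty.Over.Hom.ext
  rfl

end Full

section EssSurj

/-- an object of `FEt.Cat X` isomorphic to the restriction of `A` sits in a cartesian square. -/
theorem exists_isPullback_of_iso {X Y : Scheme.{u}} (f : X ⟶ Y) (A : FEt.Cat Y) (B : FEt.Cat X)
    (e : (FEt.restrict f).obj A ≅ B) :
    ∃ t : B.left ⟶ A.left, IsPullback t B.hom A.hom f := by
  let a : B.left ⟶ pullback A.hom f := e.inv.left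
  let a' : pullback A.hom f ⟶ B.left := e.hom.left
  have h1 : a ≫ a' = 𝟙 _ := congrArg (fun t => t.left) e.inv_hom_id
  have h2 : a' ≫ a = 𝟙 _ := congrArg (fun t => t.left) e.hom_inv_id
  have hw : a ≫ pullback.snd A.hom f = B.hom := MorphismProperty.Over.w e.inv
  refine ⟨a ≫ pullback.fst A.hom f, ?_⟩
  exact IsPullback.of_iso_pullback
    ⟨by rw [Category.assoc, pullback.condition, ← Category.assoc, hw]⟩ ⟨a, a', h1, h2⟩ rfl hw

variable (hF : 𝔛.IsFormal)
include hF

theorem level_essSurj : (FSch.EtCov.level 𝔛 0).EssSurj := by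
  refine ⟨fun Y₀ => ?_⟩
  haveI : ∀ n, (FEt.restrict (𝔛.ι n)).EssSurj := fun n => by
    haveI := (hF n).1
    haveI : Surjective (𝔛.ι n) := ⟨(hF n).2⟩
    haveI := Groth.Agent.Lib.EtLiftH7.main238 (𝔛.ι n)
    infer_instance
  -- the levels
  let Rn : ∀ n, FEt.Cat (𝔛.X n) := fun n =>
    Nat.rec (motive := fun n => FEt.Cat (𝔛.X n)) Y₀
      (fun n r => (FEt.restrict (𝔛.ι n)).objPreimage r) n
  have hex : ∀ n, ∃ t : (Rn n).left ⟶ (Rn (n + 1)).left,
      IsPullback t (Rn n).hom (Rn (n + 1)).hom (𝔛.ι n) := fun n =>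
    exists_isPullback_of_iso (𝔛.ι n) (Rn (n + 1)) (Rn n)
      ((FEt.restrict (𝔛.ι n)).objObjPreimageIso (Rn n))
  choose t ht using hex
  -- the system
  let ℜ : FSch.Sys.{u} :=
    { X := fun n => (Rn n).left
      ι := t }
  let π : FSch.Hom ℜ 𝔛 := ⟨fun n => (Rn n).hom, fun n => (ht n).w.symm⟩
  have hadic : FSch.IsAdicHom (π : ℜ ⟶ 𝔛) := fun n => ht n
  have hcov : FSch.IsEtaleCover (π : ℜ ⟶ 𝔛) :=
    ⟨hadic, fun n => ⟨(Rn n).prop.1, (Rn n).prop.2⟩⟩
  let R : FSch.EtCov 𝔛 := ⟨Over.mk (π : ℜ ⟶ 𝔛), hcov⟩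
  exact ⟨R, ⟨Iso.refl _⟩⟩

end EssSurj

/-- **Étale covers of a formal scheme are étale covers of its smallest level.** -/
theorem main (h𝔛 : 𝔛.IsLocNoethFormal) : (FSch.EtCov.level 𝔛 0).IsEquivalence :=
  { faithful := level_faithful 𝔛 h𝔛.1
    full := level_full 𝔛 h𝔛.1
    essSurj := level_essSurj 𝔛 h𝔛.1 }

end Groth.Agent.FormalEtCov
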