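import Mathlib

/-!
# Lifting a left inverse through a nilpotent thickening (helper3)

If `𝔏 ^ n ≤ J ≤ 𝔏`, `N/JN` is projective over `A/J`, and `u : M → N` admits a left inverse modulo `𝔏`
(`w : N → M/𝔏M` with `w ∘ u = mk`), then it admits a left inverse modulo `J`.
-/

set_option autoImplicit false
universe u v w

namespace Groth.Agent.Lib.FormalLeftInvH3

open Function

section Lift

variable {A : Type u} [CommRing A] (J : Ideal A)

/-- Lifting property for `A`-linear maps between `J`-torsion modules out of an `A/J`-projective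
module. -/
theorem lift_of_projective {P : Type w} {X Y : Type v} [AddCommGroup P] [Module A P]
    [AddCommGroup X] [Module A X] [AddCommGroup Y] [Module A Y]
    (hP : Module.IsTorsionBySet A P J) (hX : Module.IsTorsionBySet A X J)
    (hY : Module.IsTorsionBySet A Y J)
    (hproj : @Module.Projective (A ⧸ J) _ P _ hP.module)
    (f : X →ₗ[A] Y) (hf : Surjective f) (g : P →ₗ[A] Y) :
    ∃ h : P →ₗ[A] X, f ∘ₗ h = g := by
  letI := hP.module
  letI := hX.module
  letI := hY.module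
  haveI : IsScalarTower A (A ⧸ J) P := hP.isScalarTower
  haveI : IsScalarTower A (A ⧸ J) X := hX.isScalarTower
  haveI : IsScalarTower A (A ⧸ J) Y := hY.isScalarTower
  have hs : Surjective (algebraMap A (A ⧸ J)) := Ideal.Quotient.mk_surjective
  obtain ⟨h, hh⟩ := Module.projective_lifting_property (f.extendScalarsOfSurjective hs)
    (g.extendScalarsOfSurjective hs) hf
  refine ⟨h.restrictScalars A, ?_⟩
  ext p
  exact LinearMap.congr_fun hh p

end Lift

section Core

variable {A : Type u} {M : Type v} {N : Type w} [CommRing A] [AddCommGroup M] [Module A M]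
  [AddCommGroup N] [Module A N]

theorem smul_top_eq_bot_of_torsion {X : Type v} [AddCommGroup X] [Module A X] (J : Ideal A)
    (hX : Module.IsTorsionBySet A X J) : (J • ⊤ : Submodule A X) = ⊥ := by
  rw [eq_bot_iff]
  intro y hy
  refine Submodule.smul_induction_on hy ?_ ?_
  · intro a ha z _
    rw [Submodule.mem_bot]
    exact hX (x := z) (a := ⟨a, ha⟩)
  · intro a b ha hb
    exact Submodule.add_mem _ ha hb

theorem pow_apply_mem {X : Type v} [AddCommGroup X] [Module A X] (𝔏 : Ideal A)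
    (δ : Module.End A X) (hδ : ∀ x, δ x ∈ (𝔏 • ⊤ : Submodule A X)) (k : ℕ) (x : X) :
    (δ ^ k) x ∈ (𝔏 ^ k • ⊤ : Submodule A X) := by
  induction k generalizing x with
  | zero =>
    rw [pow_zero, Ideal.one_eq_top, Submodule.top_smul]
    exact Submodule.mem_top
  | succ k ih =>
    rw [pow_succ' δ k, Module.End.mul_apply]
    have h1 := ih x
    have hle : (𝔏 ^ k • ⊤ : Submodule A X) ≤ (𝔏 ^ (k + 1) • ⊤ : Submodule A X).comap δ := by
      rw [Submodule.smul_le]
      intro a ha z _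
      rw [Submodule.mem_comap, map_smul, pow_succ 𝔏 k, Submodule.mul_smul]
      exact Submodule.smul_mem_smul ha (hδ z)
    exact hle h1

theorem core (𝔏 J : Ideal A) (n : ℕ) (hn : 𝔏 ^ n ≤ J) (hJ𝔏 : J ≤ 𝔏)
    (hproj : Module.Projective (A ⧸ J) (N ⧸ (J • ⊤ : Submodule A N)))
    (u : M →ₗ[A] N) (w : N →ₗ[A] M ⧸ (𝔏 • ⊤ : Submodule A M))
    (hw : ∀ x, w (u x) = Submodule.Quotient.mk x) :
    ∃ w' : N →ₗ[A] M ⧸ (J • ⊤ : Submodule A M), ∀ x, w' (u x) = Submodule.Quotient.mk x := by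
  have hle : (J • ⊤ : Submodule A M) ≤ 𝔏 • ⊤ := Submodule.smul_mono_left hJ𝔏
  have hX : Module.IsTorsionBySet A (M ⧸ (J • ⊤ : Submodule A M)) J :=
    Module.isTorsionBySet_quotient_ideal_smul M J
  have hY : Module.IsTorsionBySet A (M ⧸ (𝔏 • ⊤ : Submodule A M)) J := by
    intro x a
    exact Module.isTorsionBySet_quotient_ideal_smul M 𝔏 (x := x) (a := ⟨a, hJ𝔏 a.2⟩)
  have hP : Module.IsTorsionBySet A (N ⧸ (J • ⊤ : Submodule A N)) J :=
    Module.isTorsionBySet_quotient_ideal_smul N J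
  let f : M ⧸ (J • ⊤ : Submodule A M) →ₗ[A] M ⧸ (𝔏 • ⊤ : Submodule A M) := Submodule.factor hle
  have hf : Surjective f := by
    intro y
    obtain ⟨m, rfl⟩ := Submodule.Quotient.mk_surjective _ y
    exact ⟨Submodule.Quotient.mk m, rfl⟩
  have hwker : (J • ⊤ : Submodule A N) ≤ LinearMap.ker w := by
    rw [Submodule.smul_le]
    intro a ha z _
    rw [LinearMap.mem_ker, map_smul]
    exact hY (x := w z) (a := ⟨a, ha⟩)
  let g : N ⧸ (J • ⊤ : Submodule A N) →ₗ[A] M ⧸ (𝔏 • ⊤ : Submodule A M) :=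
    (J • ⊤ : Submodule A N).liftQ w hwker
  obtain ⟨h, hh⟩ := lift_of_projective J hP hX hY hproj f hf g
  let ubar : M ⧸ (J • ⊤ : Submodule A M) →ₗ[A] N ⧸ (J • ⊤ : Submodule A N) :=
    Submodule.mapQ _ _ u (Submodule.smul_top_le_comap_smul_top J u)
  let φ : Module.End A (M ⧸ (J • ⊤ : Submodule A M)) := h ∘ₗ ubar
  have hfφ : ∀ x, f (φ x) = f x := by
    intro x
    obtain ⟨m, rfl⟩ := Submodule.Quotient.mk_surjective _ x
    have h1 : f (h (ubar (Submodule.Quotient.mk m))) = g (ubar (Submodule.Quotient.mk m)) :=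
      LinearMap.congr_fun hh _
    have h2 : ubar (Submodule.Quotient.mk m) = Submodule.Quotient.mk (u m) := rfl
    show f (h (ubar (Submodule.Quotient.mk m))) = _
    rw [h1, h2]
    show w (u m) = _
    rw [hw]
    rfl
  have hkerf : ∀ z, f z = 0 → z ∈ (𝔏 • ⊤ : Submodule A (M ⧸ (J • ⊤ : Submodule A M))) := by
    intro z hz
    obtain ⟨m, rfl⟩ := Submodule.Quotient.mk_surjective _ z
    have hm : m ∈ (𝔏 • ⊤ : Submodule A M) := by
      have : (Submodule.Quotient.mk m : M ⧸ (𝔏 • ⊤ : Submodule A M)) = 0 := hz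
      exact (Submodule.Quotient.mk_eq_zero _).mp this
    have h1 : (J • ⊤ : Submodule A M).mkQ m ∈
        ((𝔏 • ⊤ : Submodule A M)).map (J • ⊤ : Submodule A M).mkQ := Submodule.mem_map_of_mem hm
    rw [Submodule.map_smul''] at h1
    exact Submodule.smul_mono le_rfl le_top h1
  let δ : Module.End A (M ⧸ (J • ⊤ : Submodule A M)) := 1 - φ
  have hδ : ∀ x, δ x ∈ (𝔏 • ⊤ : Submodule A (M ⧸ (J • ⊤ : Submodule A M))) := by
    intro x
    apply hkerf
    show f (x - φ x) = 0
    rw [map_sub, hfφ, sub_self]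
  have hδn : δ ^ n = 0 := by
    refine LinearMap.ext fun x => ?_
    have h1 := pow_apply_mem 𝔏 δ hδ n x
    have h2 : (𝔏 ^ n • ⊤ : Submodule A (M ⧸ (J • ⊤ : Submodule A M))) ≤ ⊥ := by
      rw [← smul_top_eq_bot_of_torsion J hX]
      exact Submodule.smul_mono_left hn
    have h3 := h2 h1
    rw [Submodule.mem_bot] at h3
    simpa using h3
  let ψ : Module.End A (M ⧸ (J • ⊤ : Submodule A M)) := ∑ i ∈ Finset.range n, δ ^ i
  have hψφ : ψ * φ = 1 := by
    have h1 : ψ * (1 - δ) = 1 - δ ^ n := geom_sum_mul_neg δ n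
    have h2 : (1 : Module.End A (M ⧸ (J • ⊤ : Submodule A M))) - δ = φ := sub_sub_cancel 1 φ
    rw [h2, hδn, sub_zero] at h1
    exact h1
  refine ⟨(ψ ∘ₗ h) ∘ₗ (J • ⊤ : Submodule A N).mkQ, fun x => ?_⟩
  have h1 : ψ (φ (Submodule.Quotient.mk x)) = (Submodule.Quotient.mk x : M ⧸ (J • ⊤ : Submodule A M)) := by
    rw [← Module.End.mul_apply, hψφ, Module.End.one_apply]
  exact h1

end Core

end Groth.Agent.Lib.FormalLeftInvH3
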