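import Mathlib

/-!
# Completion of a quotient of a first-countable linearly topologized module: surjectivity, openness
-/

namespace Groth.Agent.Lib.LinTopMod

open UniformSpace Topology Filter

/-- telescoping Cauchy criterion. -/
theorem cauchySeq_of_sub_mem {G : Type*} [AddCommGroup G] [UniformSpace G] [IsUniformAddGroup G]
    (U : ℕ → AddSubgroup G) (hU : Antitone U)
    (hbasis : ∀ W ∈ 𝓝 (0 : G), ∃ k, (U k : Set G) ⊆ W)
    (m : ℕ → G) (hm : ∀ k, m (k + 1) - m k ∈ U k) : CauchySeq m := by
  have h1 : ∀ k i, k ≤ i → m i - m k ∈ U k := by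
    intro k i hki
    induction i, hki using Nat.le_induction with
    | base => rw [sub_self]; exact (U k).zero_mem
    | succ i hki ih =>
      have : m (i + 1) - m k = (m (i + 1) - m i) + (m i - m k) := by abel
      rw [this]
      exact (U k).add_mem (hU hki (hm i)) ih
  rw [cauchySeq_iff_tendsto, uniformity_eq_comap_nhds_zero G, tendsto_comap_iff]
  intro W hW
  obtain ⟨k, hk⟩ := hbasis W hW
  rw [Filter.mem_map, Filter.mem_atTop_sets]
  refine ⟨(k, k), ?_⟩
  rintro ⟨i, j⟩ ⟨hi, hj⟩
  show m j - m i ∈ W
  refine hk ?_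
  have : m j - m i = (m j - m k) - (m i - m k) := by abel
  rw [this]
  exact (U k).sub_mem (h1 k j hj) (h1 k i hi)

section
variable {R : Type*} [Ring R] {M : Type*} [AddCommGroup M] [Module R M] [UniformSpace M]
    [IsUniformAddGroup M] [IsLinearTopology R M]
    {G : Type*} [AddCommGroup G] [UniformSpace G] [IsUniformAddGroup G]
    (π : M →+ G) (hπc : Continuous π) (hπo : IsOpenMap π)

include hπo in
/-- an element of `G` whose image in the completion lies in the closure of the image of an open
submodule lies in the image of that submodule. -/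
theorem mem_image_of_coe_mem_closure (U : Submodule R M) (hUo : IsOpen (U : Set M)) (g : G)
    (hg : (g : Completion G) ∈ closure (((↑) : G → Completion G) '' (π '' (U : Set M)))) :
    g ∈ π '' (U : Set M) := by
  obtain ⟨Ug', hUg'coe⟩ : ∃ Ug' : AddSubgroup G, (Ug' : Set G) = π '' (U : Set M) :=
    ⟨AddSubgroup.map π U.toAddSubgroup, by rw [AddSubgroup.coe_map]; rfl⟩
  have hUg'open : IsOpen (Ug' : Set G) := by rw [hUg'coe]; exact hπo _ hUo
  have hUg'cl : IsClosed (Ug' : Set G) := AddSubgroup.isClosed_of_isOpen Ug' hUg'open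
  have h2 : g ∈ closure (Ug' : Set G) := by
    rw [Completion.isDenseInducing_coe.isInducing.closure_eq_preimage_closure_image,
      Set.mem_preimage, hUg'coe]
    exact hg
  rw [hUg'cl.closure_eq, hUg'coe] at h2
  exact h2

include hπc hπo in
theorem exists_mem_closure_map_eq (hc : (𝓝 (0 : M)).IsCountablyGenerated)
    (U : Submodule R M) (hUo : IsOpen (U : Set M)) (y : Completion G)
    (hy : y ∈ closure (((↑) : G → Completion G) '' (π '' (U : Set M)))) :
    ∃ x ∈ closure (((↑) : M → Completion M) '' (U : Set M)), Completion.map π x = y := by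
  have hπuc : UniformContinuous π := uniformContinuous_addMonoidHom_of_continuous hπc
  obtain ⟨P, hP⟩ : ∃ P : Completion M →+ Completion G, ∀ y, P y = Completion.map π y :=
    ⟨AddMonoidHom.completion π hπc, fun y => rfl⟩
  have hPc : Continuous P := by
    have : (P : Completion M → _) = Completion.map π := funext hP
    rw [this]; exact Completion.continuous_map
  have hPcoe : ∀ m : M, P (m : Completion M) = ((π m : G) : Completion G) := fun m => by
    rw [hP]; exact Completion.map_coe hπuc m
  -- antitone basis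
  haveI := hc
  obtain ⟨X, hXo, hXb⟩ := (IsLinearTopology.hasBasis_open_submodule R (M := M)).exists_antitone_subbasis
  have hUk_open : ∀ k, IsOpen ((U ⊓ X k : Submodule R M) : Set M) := fun k => by
    rw [Submodule.coe_inf]; exact hUo.inter (hXo k)
  have hUk_anti : ∀ i j, i ≤ j → (U ⊓ X j : Submodule R M) ≤ U ⊓ X i := fun i j hij =>
    inf_le_inf_left U (SetLike.coe_subset_coe.mp (hXb.antitone hij))
  have hUk_basis : ∀ W ∈ 𝓝 (0 : M), ∃ k, ((U ⊓ X k : Submodule R M) : Set M) ⊆ W := by
    intro W hW
    obtain ⟨k, -, hk⟩ := hXb.toHasBasis.mem_iff.mp hW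
    exact ⟨k, fun z hz => hk hz.2⟩
  -- subgroups in the completion of G
  obtain ⟨V, hV⟩ : ∃ V : Submodule R M → AddSubgroup (Completion G), ∀ U' : Submodule R M,
      (V U' : Set (Completion G)) = closure (((↑) : G → Completion G) '' (π '' (U' : Set M))) :=
    ⟨fun U' => (AddSubgroup.map (Completion.toCompl : G →+ Completion G)
      (AddSubgroup.map π U'.toAddSubgroup)).topologicalClosure, fun U' => by
        rw [AddSubgroup.topologicalClosure_coe, AddSubgroup.coe_map, AddSubgroup.coe_map]; rfl⟩
  have hVmono : ∀ U₁ U₂ : Submodule R M, U₁ ≤ U₂ → V U₁ ≤ V U₂ := by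
    intro U₁ U₂ h z hz
    have hz' : z ∈ (V U₁ : Set (Completion G)) := hz
    rw [hV] at hz'
    have : z ∈ (V U₂ : Set (Completion G)) := by
      rw [hV]
      exact closure_mono (Set.image_mono (Set.image_mono h)) hz'
    exact this
  have hVnhds : ∀ U' : Submodule R M, IsOpen (U' : Set M) →
      (V U' : Set (Completion G)) ∈ 𝓝 (0 : Completion G) := by
    intro U' hU'
    rw [hV, ← Completion.coe_zero]
    apply Completion.isDenseInducing_coe.closure_image_mem_nhds
    exact (hπo _ hU').mem_nhds ⟨0, U'.zero_mem, map_zero π⟩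
  have hVbasis : ∀ W ∈ 𝓝 (0 : Completion G), ∃ k, (V (U ⊓ X k) : Set (Completion G)) ⊆ W := by
    intro W hW
    obtain ⟨C, hC0, hCcl, hCW⟩ := exists_mem_nhds_isClosed_subset hW
    have h1 : (fun m : M => ((π m : G) : Completion G)) ⁻¹' C ∈ 𝓝 (0 : M) := by
      have hcont : Continuous (fun m : M => ((π m : G) : Completion G)) :=
        (Completion.continuous_coe G).comp hπc
      have : Tendsto (fun m : M => ((π m : G) : Completion G)) (𝓝 0)
          (𝓝 (((π 0 : G)) : Completion G)) := hcont.tendsto 0
      rw [map_zero, Completion.coe_zero] at this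
      exact this hC0
    obtain ⟨k, hk⟩ := hUk_basis _ h1
    refine ⟨k, ?_⟩
    rw [hV]
    refine (closure_minimal ?_ hCcl).trans hCW
    rintro _ ⟨_, ⟨u, hu, rfl⟩, rfl⟩
    exact hk hu
  -- the approximating sequence in G
  have hq : ∀ k, ∃ q : G, y - (q : Completion G) ∈ V (U ⊓ X k) := by
    intro k
    have hn : (fun z => y - z) ⁻¹' (V (U ⊓ X k) : Set (Completion G)) ∈ 𝓝 y := by
      have : Tendsto (fun z => y - z) (𝓝 y) (𝓝 (y - y)) := (continuous_sub_left y).tendsto y
      rw [sub_self] at this
      exact this (hVnhds _ (hUk_open k))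
    obtain ⟨q, hq⟩ := Completion.denseRange_coe.mem_nhds hn
    exact ⟨q, hq⟩
  choose q hq using hq
  have hyV : y ∈ V U := by
    have : y ∈ (V U : Set (Completion G)) := by rw [hV]; exact hy
    exact this
  have hq0 : q 0 ∈ π '' (U : Set M) := by
    apply mem_image_of_coe_mem_closure π hπo U hUo
    have h1 : ((q 0 : G) : Completion G) ∈ V U := by
      have : ((q 0 : G) : Completion G) = y - (y - (q 0 : Completion G)) := by abel
      rw [this]
      exact (V U).sub_mem hyV (hVmono _ _ inf_le_left (hq 0))
    have h2 : ((q 0 : G) : Completion G) ∈ (V U : Set (Completion G)) := h1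
    rw [hV] at h2
    exact h2
  have hqk : ∀ k, q (k + 1) - q k ∈ π '' ((U ⊓ X k : Submodule R M) : Set M) := by
    intro k
    apply mem_image_of_coe_mem_closure π hπo _ (hUk_open k)
    have h1 : ((q (k + 1) - q k : G) : Completion G) ∈ V (U ⊓ X k) := by
      have : ((q (k + 1) - q k : G) : Completion G) =
          (y - (q k : Completion G)) - (y - (q (k + 1) : Completion G)) := by
        rw [Completion.coe_sub]; abel
      rw [this]
      exact (V _).sub_mem (hq k) (hVmono _ _ (hUk_anti k (k + 1) (Nat.le_succ k)) (hq (k + 1)))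
    have h2 : ((q (k + 1) - q k : G) : Completion G) ∈ (V (U ⊓ X k) : Set (Completion G)) := h1
    rw [hV] at h2
    exact h2
  obtain ⟨m0, hm0U, hm0⟩ := hq0
  choose u huU hu using hqk
  obtain ⟨m, hmdef⟩ : ∃ m : ℕ → M, ∀ k, m k = m0 + ∑ i ∈ Finset.range k, u i := ⟨_, fun _ => rfl⟩
  have hmU : ∀ k, m k ∈ U := by
    intro k
    rw [hmdef]
    exact U.add_mem hm0U (U.sum_mem fun i _ => (huU i).1)
  have hmπ : ∀ k, π (m k) = q k := by
    intro k
    rw [hmdef, map_add, map_sum, hm0]
    simp only [hu]
    rw [Finset.sum_range_sub]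
    abel
  have hmsucc : ∀ k, m (k + 1) - m k ∈ (U ⊓ X k : Submodule R M).toAddSubgroup := by
    intro k
    rw [hmdef, hmdef, Finset.sum_range_succ]
    have : m0 + (∑ i ∈ Finset.range k, u i + u k) - (m0 + ∑ i ∈ Finset.range k, u i) = u k := by
      abel
    rw [this]
    exact huU k
  have hcs : CauchySeq m :=
    cauchySeq_of_sub_mem (fun k => (U ⊓ X k : Submodule R M).toAddSubgroup)
      (fun i j hij => hUk_anti i j hij) (fun W hW => hUk_basis W hW) m hmsucc
  have hcs' : CauchySeq (fun k => ((m k : M) : Completion M)) :=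
    (Completion.uniformContinuous_coe M).comp_cauchySeq hcs
  obtain ⟨x, hx⟩ := cauchySeq_tendsto_of_complete hcs'
  refine ⟨x, ?_, ?_⟩
  · exact mem_closure_of_tendsto hx (Filter.Eventually.of_forall fun k => ⟨m k, hmU k, rfl⟩)
  · rw [← hP]
    have ht1 : Tendsto (fun k => P ((m k : M) : Completion M)) atTop (𝓝 (P x)) :=
      (hPc.tendsto x).comp hx
    have ht2 : Tendsto (fun k => P ((m k : M) : Completion M)) atTop (𝓝 y) := by
      rw [Filter.tendsto_atTop']
      intro W hW
      have hW' : (fun v => y - v) ⁻¹' W ∈ 𝓝 (0 : Completion G) := by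
        have : Tendsto (fun v => y - v) (𝓝 0) (𝓝 (y - 0)) := (continuous_sub_left y).tendsto 0
        rw [sub_zero] at this
        exact this hW
      obtain ⟨k0, hk0⟩ := hVbasis _ hW'
      refine ⟨k0, fun k hk => ?_⟩
      rw [hPcoe, hmπ]
      have h1 : y - (q k : Completion G) ∈ V (U ⊓ X k0) :=
        hVmono _ _ (hUk_anti k0 k hk) (hq k)
      have h2 : y - (y - (q k : Completion G)) ∈ W := hk0 h1
      have h3 : y - (y - (q k : Completion G)) = (q k : Completion G) := by abel
      rw [h3] at h2
      exact h2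
    exact tendsto_nhds_unique ht1 ht2

end

theorem completion_map_surjective_isOpenMap (R : Type*) [Ring R] {M : Type*} [AddCommGroup M]
    [Module R M] [UniformSpace M] [IsUniformAddGroup M] [IsLinearTopology R M]
    {G : Type*} [AddCommGroup G] [UniformSpace G] [IsUniformAddGroup G]
    (π : M →+ G) (hπc : Continuous π) (hπo : IsOpenMap π) (hπs : Function.Surjective π)
    (hc : (𝓝 (0 : M)).IsCountablyGenerated) :
    Function.Surjective (Completion.map π) ∧ IsOpenMap (Completion.map π) := by
  have hπuc : UniformContinuous π := uniformContinuous_addMonoidHom_of_continuous hπc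
  obtain ⟨P, hP⟩ : ∃ P : Completion M →+ Completion G, ∀ y, P y = Completion.map π y :=
    ⟨AddMonoidHom.completion π hπc, fun y => rfl⟩
  have hPeq : (P : Completion M → _) = Completion.map π := funext hP
  rw [← hPeq]
  constructor
  · intro y
    have hy : y ∈ closure (((↑) : G → Completion G) '' (π '' ((⊤ : Submodule R M) : Set M))) := by
      have h1 : π '' ((⊤ : Submodule R M) : Set M) = Set.univ := by
        rw [Submodule.top_coe, Set.image_univ]; exact hπs.range_eq
      rw [h1, Set.image_univ]
      exact Completion.denseRange_coe y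
    obtain ⟨x, -, hx⟩ := exists_mem_closure_map_eq (R := R) π hπc hπo hc ⊤ (by
      rw [Submodule.top_coe]; exact isOpen_univ) y hy
    exact ⟨x, by rw [hP]; exact hx⟩
  · rw [isOpenMap_iff_nhds_le]
    intro x S hS
    have hS' : P ⁻¹' S ∈ 𝓝 x := hS
    have hT : (fun z => x + z) ⁻¹' (P ⁻¹' S) ∈ 𝓝 (0 : Completion M) := by
      have : Tendsto (fun z => x + z) (𝓝 0) (𝓝 (x + 0)) := (continuous_const_add x).tendsto 0
      rw [add_zero] at this
      exact this hS'
    obtain ⟨C, hC0, hCcl, hCT⟩ := exists_mem_nhds_isClosed_subset hT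
    have hιC : ((↑) : M → Completion M) ⁻¹' C ∈ 𝓝 (0 : M) := by
      have : Tendsto ((↑) : M → Completion M) (𝓝 0) (𝓝 ((0 : M) : Completion M)) :=
        (Completion.continuous_coe M).tendsto 0
      rw [Completion.coe_zero] at this
      exact this hC0
    obtain ⟨U, hUo, hUC⟩ := (IsLinearTopology.hasBasis_open_submodule R).mem_iff.mp hιC
    have hDT : closure (((↑) : M → Completion M) '' (U : Set M)) ⊆
        (fun z => x + z) ⁻¹' (P ⁻¹' S) :=
      (closure_minimal (Set.image_subset_iff.mpr hUC) hCcl).trans hCT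
    have hVn : closure (((↑) : G → Completion G) '' (π '' (U : Set M))) ∈
        𝓝 (0 : Completion G) := by
      rw [← Completion.coe_zero]
      apply Completion.isDenseInducing_coe.closure_image_mem_nhds
      exact (hπo _ hUo).mem_nhds ⟨0, U.zero_mem, map_zero π⟩
    have hsub : (fun z => z - P x) ⁻¹'
        closure (((↑) : G → Completion G) '' (π '' (U : Set M))) ⊆ S := by
      intro z hz
      obtain ⟨d, hd, hdz⟩ := exists_mem_closure_map_eq (R := R) π hπc hπo hc U hUo _ hz
      have h1 : x + d ∈ P ⁻¹' S := hDT hd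
      have hdz' : Completion.map π d = z - P x := hdz
      have h2 : P (x + d) = z := by
        rw [map_add, hP d, hdz']; abel
      rw [← h2]
      exact h1
    have hn : (fun z => z - P x) ⁻¹'
        closure (((↑) : G → Completion G) '' (π '' (U : Set M))) ∈ 𝓝 (P x) := by
      have : Tendsto (fun z => z - P x) (𝓝 (P x)) (𝓝 (P x - P x)) :=
        (continuous_sub_right (P x)).tendsto (P x)
      rw [sub_self] at this
      exact this hVn
    exact Filter.mem_of_superset hn hsub

end Groth.Agent.Lib.LinTopMod
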