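import Mathlib
import Groth.Prelude.Def_TopMod
import Groth.Agent.Lib.FormalLeftInv_helper3
import Groth.Agent.Lib.LinTopMod2_lead

/-!
# From left inverses modulo open ideals to a linear left inverse (helper3)

`M` complete Hausdorff with the topology deduced from a ring `A` having a countable fundamental
system of open ideals `𝔍 n`: a compatible system of left inverses `N → M/𝔍_n M` of `u : M → N`
is built step by step (using projectivity of the cokernel modulo `𝔍_n`) and passes to the limit.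
-/

set_option autoImplicit false
universe u v w

namespace Groth.Agent.Lib.FormalLeftInv2H3

open Function Filter Groth.Agent.Lib.FormalLeftInvH3

section Limit

variable {A : Type u} {M : Type v} [CommRing A] [TopologicalSpace A] [AddCommGroup M] [Module A M]
  [UniformSpace M] [IsUniformAddGroup M] [CompleteSpace M] [T2Space M]
  (𝔍 : ℕ → Ideal A) (h𝔍open : ∀ n, IsOpen (𝔍 n : Set A)) (h𝔍anti : Antitone 𝔍)
  (h𝔍basis : (nhds (0 : A)).HasBasis (fun _ : ℕ => True) (fun n => (𝔍 n : Set A)))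
  (hM : TopMod.IsDeduced A M)

include h𝔍basis hM in
omit [IsUniformAddGroup M] [CompleteSpace M] [T2Space M] in
lemma basis_M (W : Set M) (hW : W ∈ nhds (0 : M)) :
    ∃ k, ((𝔍 k • ⊤ : Submodule A M) : Set M) ⊆ W := by
  obtain ⟨J, hJ, hJW⟩ := hM.2.mem_iff.mp hW
  obtain ⟨k, -, hk⟩ := h𝔍basis.mem_iff.mp (hJ.mem_nhds J.zero_mem)
  refine ⟨k, subset_trans ?_ hJW⟩
  have hle : 𝔍 k ≤ J := hk
  exact SetLike.coe_subset_coe.mpr (Submodule.smul_mono_left hle)

include h𝔍open hM in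
omit [CompleteSpace M] [T2Space M] in
lemma isClosed_smul_top (k : ℕ) : IsClosed ((𝔍 k • ⊤ : Submodule A M) : Set M) := by
  have hnhds : ((𝔍 k • ⊤ : Submodule A M) : Set M) ∈ nhds (0 : M) :=
    hM.2.mem_of_mem (h𝔍open k)
  have hopen : IsOpen (((𝔍 k • ⊤ : Submodule A M).toAddSubgroup : AddSubgroup M) : Set M) :=
    AddSubgroup.isOpen_of_mem_nhds _ hnhds
  exact AddSubgroup.isClosed_of_isOpen _ hopen

include h𝔍basis hM in
omit [IsUniformAddGroup M] [CompleteSpace M] in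
lemma eq_of_forall_sub_mem (m m' : M) (h : ∀ k, m - m' ∈ (𝔍 k • ⊤ : Submodule A M)) :
    m = m' := by
  rw [← sub_eq_zero]
  by_contra hne
  have h1 : ({m - m'}ᶜ : Set M) ∈ nhds (0 : M) :=
    isOpen_compl_singleton.mem_nhds (by
      rw [Set.mem_compl_iff, Set.mem_singleton_iff]
      exact fun h0 => hne h0.symm)
  obtain ⟨k, hk⟩ := basis_M 𝔍 h𝔍basis hM _ h1
  exact hk (h k) rfl

include h𝔍open h𝔍basis hM in
lemma exists_limit (c : ∀ n, M ⧸ (𝔍 n • ⊤ : Submodule A M))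
    (hc : ∀ n, Submodule.factor (Submodule.smul_mono_left (h𝔍anti (Nat.le_succ n)))
      (c (n + 1)) = c n) :
    ∃ m : M, ∀ n, (Submodule.Quotient.mk m : M ⧸ (𝔍 n • ⊤ : Submodule A M)) = c n := by
  choose m hm using fun n => Submodule.Quotient.mk_surjective _ (c n)
  have hstep : ∀ k, m (k + 1) - m k ∈ (𝔍 k • ⊤ : Submodule A M) := by
    intro k
    rw [← Submodule.Quotient.eq]
    have := hc k
    rw [← hm (k + 1), ← hm k] at this
    exact this
  have h1 : ∀ k i, k ≤ i → m i - m k ∈ (𝔍 k • ⊤ : Submodule A M) := by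
    intro k i hki
    induction i, hki using Nat.le_induction with
    | base => rw [sub_self]; exact Submodule.zero_mem _
    | succ i hki ih =>
      have : m (i + 1) - m k = (m (i + 1) - m i) + (m i - m k) := by abel
      rw [this]
      exact Submodule.add_mem _ (Submodule.smul_mono_left (h𝔍anti hki) (hstep i)) ih
  have hcauchy : CauchySeq m :=
    Groth.Agent.Lib.LinTopMod.cauchySeq_of_sub_mem
      (fun k => (𝔍 k • ⊤ : Submodule A M).toAddSubgroup)
      (fun i j hij x hx => Submodule.smul_mono_left (h𝔍anti hij) hx)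
      (fun W hW => basis_M 𝔍 h𝔍basis hM W hW) m hstep
  obtain ⟨a, ha⟩ := cauchySeq_tendsto_of_complete hcauchy
  refine ⟨a, fun k => ?_⟩
  rw [← hm k, Submodule.Quotient.eq]
  have hlim : Tendsto (fun i => m i - m k) atTop (nhds (a - m k)) := ha.sub_const _
  exact (isClosed_smul_top 𝔍 h𝔍open hM k).mem_of_tendsto hlim
    (Filter.eventually_atTop.mpr ⟨k, fun i hi => h1 k i hi⟩)

include h𝔍open h𝔍basis hM in
lemma exists_limit_map {N : Type w} [AddCommGroup N] [Module A N]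
    (wn : ∀ n, N →ₗ[A] M ⧸ (𝔍 n • ⊤ : Submodule A M))
    (hcompat : ∀ n y, Submodule.factor (Submodule.smul_mono_left (h𝔍anti (Nat.le_succ n)))
      (wn (n + 1) y) = wn n y) :
    ∃ w : N →ₗ[A] M, ∀ n y,
      (Submodule.Quotient.mk (w y) : M ⧸ (𝔍 n • ⊤ : Submodule A M)) = wn n y := by
  choose f hf using fun y => exists_limit 𝔍 h𝔍open h𝔍anti h𝔍basis hM (fun n => wn n y)
    (fun n => hcompat n y)
  have huniq : ∀ m m' : M, (∀ n, (Submodule.Quotient.mk m : M ⧸ (𝔍 n • ⊤ : Submodule A M)) =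
      Submodule.Quotient.mk m') → m = m' := fun m m' h =>
    eq_of_forall_sub_mem 𝔍 h𝔍basis hM m m' (fun k => (Submodule.Quotient.eq _).mp (h k))
  refine ⟨{ toFun := f, map_add' := ?_, map_smul' := ?_ }, fun n y => hf y n⟩
  · intro y y'
    apply huniq
    intro n
    rw [Submodule.Quotient.mk_add, hf, hf, hf, map_add]
  · intro a y
    apply huniq
    intro n
    rw [RingHom.id_apply, Submodule.Quotient.mk_smul, hf, hf, map_smul]

end Limit

section Step

variable {A : Type u} {M : Type v} {N : Type w} [CommRing A] [AddCommGroup M] [Module A M]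
  [AddCommGroup N] [Module A N] (u : M →ₗ[A] N)

lemma step (J J₀ : Ideal A) (hJ : J ≤ J₀)
    (hcokerJ : Module.Projective (A ⧸ J)
      ((N ⧸ LinearMap.range u) ⧸ (J • ⊤ : Submodule A (N ⧸ LinearMap.range u))))
    (w : N →ₗ[A] M ⧸ (J₀ • ⊤ : Submodule A M))
    (hw : ∀ x, w (u x) = Submodule.Quotient.mk x)
    (w' : N →ₗ[A] M ⧸ (J • ⊤ : Submodule A M))
    (hw' : ∀ x, w' (u x) = Submodule.Quotient.mk x) :
    ∃ w'' : N →ₗ[A] M ⧸ (J • ⊤ : Submodule A M),
      (∀ x, w'' (u x) = Submodule.Quotient.mk x) ∧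
      ∀ y, Submodule.factor (Submodule.smul_mono_left hJ) (w'' y) = w y := by
  set fac : M ⧸ (J • ⊤ : Submodule A M) →ₗ[A] M ⧸ (J₀ • ⊤ : Submodule A M) :=
    Submodule.factor (Submodule.smul_mono_left hJ) with hfac
  have hfacsurj : Surjective fac := by
    intro y
    obtain ⟨m, rfl⟩ := Submodule.Quotient.mk_surjective _ y
    exact ⟨Submodule.Quotient.mk m, rfl⟩
  let δ : N →ₗ[A] M ⧸ (J₀ • ⊤ : Submodule A M) := w - fac ∘ₗ w'
  have hδu : ∀ x, δ (u x) = 0 := by
    intro x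
    show w (u x) - fac (w' (u x)) = 0
    rw [hw, hw', sub_eq_zero]
    rfl
  have hX : Module.IsTorsionBySet A (M ⧸ (J • ⊤ : Submodule A M)) J :=
    Module.isTorsionBySet_quotient_ideal_smul M J
  have hY : Module.IsTorsionBySet A (M ⧸ (J₀ • ⊤ : Submodule A M)) J := by
    intro x a
    exact Module.isTorsionBySet_quotient_ideal_smul M J₀ (x := x) (a := ⟨a, hJ a.2⟩)
  have hP : Module.IsTorsionBySet A
      ((N ⧸ LinearMap.range u) ⧸ (J • ⊤ : Submodule A (N ⧸ LinearMap.range u))) J :=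
    Module.isTorsionBySet_quotient_ideal_smul _ J
  let δC : (N ⧸ LinearMap.range u) →ₗ[A] M ⧸ (J₀ • ⊤ : Submodule A M) :=
    (LinearMap.range u).liftQ δ (by
      rintro _ ⟨x, rfl⟩
      exact LinearMap.mem_ker.mpr (hδu x))
  let δCJ : ((N ⧸ LinearMap.range u) ⧸ (J • ⊤ : Submodule A (N ⧸ LinearMap.range u))) →ₗ[A]
      M ⧸ (J₀ • ⊤ : Submodule A M) :=
    (J • ⊤ : Submodule A (N ⧸ LinearMap.range u)).liftQ δC (by
      rw [Submodule.smul_le]
      intro a ha z _
      rw [LinearMap.mem_ker, map_smul]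
      exact hY (x := δC z) (a := ⟨a, ha⟩))
  obtain ⟨h, hh⟩ := lift_of_projective J hP hX hY hcokerJ fac hfacsurj δCJ
  let θ : N →ₗ[A] M ⧸ (J • ⊤ : Submodule A M) :=
    h ∘ₗ (J • ⊤ : Submodule A (N ⧸ LinearMap.range u)).mkQ ∘ₗ (LinearMap.range u).mkQ
  refine ⟨w' + θ, ?_, ?_⟩
  · intro x
    have h0 : (LinearMap.range u).mkQ (u x) = 0 := by
      rw [Submodule.mkQ_apply, Submodule.Quotient.mk_eq_zero]
      exact ⟨x, rfl⟩
    show w' (u x) + h ((J • ⊤ : Submodule A (N ⧸ LinearMap.range u)).mkQ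
      ((LinearMap.range u).mkQ (u x))) = _
    rw [h0, map_zero, map_zero, add_zero, hw']
  · intro y
    have h1 : fac (h ((J • ⊤ : Submodule A (N ⧸ LinearMap.range u)).mkQ
        ((LinearMap.range u).mkQ y))) = δ y := by
      have := LinearMap.congr_fun hh ((J • ⊤ : Submodule A (N ⧸ LinearMap.range u)).mkQ
        ((LinearMap.range u).mkQ y))
      rw [LinearMap.comp_apply] at this
      rw [this]
      rfl
    show fac (w' y + h ((J • ⊤ : Submodule A (N ⧸ LinearMap.range u)).mkQ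
      ((LinearMap.range u).mkQ y))) = w y
    rw [map_add, h1]
    show fac (w' y) + (w y - fac (w' y)) = w y
    abel

/-- The cokernel of `u` modulo `J` is a retract of `N/JN` when `u` has a left inverse mod `J`. -/
lemma coker_projective (J : Ideal A)
    (hproj : Module.Projective (A ⧸ J) (N ⧸ (J • ⊤ : Submodule A N)))
    (w' : N →ₗ[A] M ⧸ (J • ⊤ : Submodule A M))
    (hw' : ∀ x, w' (u x) = Submodule.Quotient.mk x) :
    Module.Projective (A ⧸ J)
      ((N ⧸ LinearMap.range u) ⧸ (J • ⊤ : Submodule A (N ⧸ LinearMap.range u))) := by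
  have hNbar : Module.IsTorsionBySet A (N ⧸ (J • ⊤ : Submodule A N)) J :=
    Module.isTorsionBySet_quotient_ideal_smul N J
  have hCbar : Module.IsTorsionBySet A
      ((N ⧸ LinearMap.range u) ⧸ (J • ⊤ : Submodule A (N ⧸ LinearMap.range u))) J :=
    Module.isTorsionBySet_quotient_ideal_smul _ J
  haveI : IsScalarTower A (A ⧸ J) (N ⧸ (J • ⊤ : Submodule A N)) := hNbar.isScalarTower
  haveI : IsScalarTower A (A ⧸ J)
      ((N ⧸ LinearMap.range u) ⧸ (J • ⊤ : Submodule A (N ⧸ LinearMap.range u))) :=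
    hCbar.isScalarTower
  let ubar : M ⧸ (J • ⊤ : Submodule A M) →ₗ[A] N ⧸ (J • ⊤ : Submodule A N) :=
    Submodule.mapQ _ _ u (Submodule.smul_top_le_comap_smul_top J u)
  let q : N ⧸ (J • ⊤ : Submodule A N) →ₗ[A]
      ((N ⧸ LinearMap.range u) ⧸ (J • ⊤ : Submodule A (N ⧸ LinearMap.range u))) :=
    Submodule.mapQ _ _ (LinearMap.range u).mkQ
      (Submodule.smul_top_le_comap_smul_top J (LinearMap.range u).mkQ)
  let P' : N →ₗ[A] N ⧸ (J • ⊤ : Submodule A N) :=
    (J • ⊤ : Submodule A N).mkQ - ubar ∘ₗ w'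
  have hP'u : ∀ x, P' (u x) = 0 := by
    intro x
    show (J • ⊤ : Submodule A N).mkQ (u x) - ubar (w' (u x)) = 0
    rw [hw', sub_eq_zero]
    rfl
  let σC : (N ⧸ LinearMap.range u) →ₗ[A] N ⧸ (J • ⊤ : Submodule A N) :=
    (LinearMap.range u).liftQ P' (by
      rintro _ ⟨x, rfl⟩
      exact LinearMap.mem_ker.mpr (hP'u x))
  let σ : ((N ⧸ LinearMap.range u) ⧸ (J • ⊤ : Submodule A (N ⧸ LinearMap.range u))) →ₗ[A]
      N ⧸ (J • ⊤ : Submodule A N) :=
    (J • ⊤ : Submodule A (N ⧸ LinearMap.range u)).liftQ σC (by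
      rw [Submodule.smul_le]
      intro a ha z _
      rw [LinearMap.mem_ker, map_smul]
      exact hNbar (x := σC z) (a := ⟨a, ha⟩))
  have hqu : ∀ m : M ⧸ (J • ⊤ : Submodule A M), q (ubar m) = 0 := by
    intro m
    obtain ⟨x, rfl⟩ := Submodule.Quotient.mk_surjective _ m
    show (Submodule.Quotient.mk ((LinearMap.range u).mkQ (u x)) :
      (N ⧸ LinearMap.range u) ⧸ (J • ⊤ : Submodule A (N ⧸ LinearMap.range u))) = 0
    have h0 : (LinearMap.range u).mkQ (u x) = 0 := by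
      rw [Submodule.mkQ_apply, Submodule.Quotient.mk_eq_zero]
      exact ⟨x, rfl⟩
    rw [h0, Submodule.Quotient.mk_zero]
  have hqσ : ∀ z, q (σ z) = z := by
    intro z
    obtain ⟨c, rfl⟩ := Submodule.Quotient.mk_surjective _ z
    obtain ⟨y, rfl⟩ := Submodule.Quotient.mk_surjective _ c
    show q ((J • ⊤ : Submodule A N).mkQ y - ubar (w' y)) = _
    rw [map_sub, hqu, sub_zero]
    rfl
  have hs : Surjective (algebraMap A (A ⧸ J)) := Ideal.Quotient.mk_surjective
  haveI := hproj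
  refine Module.Projective.of_split (σ.extendScalarsOfSurjective hs)
    (q.extendScalarsOfSurjective hs) ?_
  refine LinearMap.ext fun z => ?_
  exact hqσ z

end Step

section Main

variable {A : Type u} {M : Type v} {N : Type w} [CommRing A] [TopologicalSpace A]
  [AddCommGroup M] [Module A M] [UniformSpace M] [IsUniformAddGroup M] [CompleteSpace M]
  [T2Space M] [AddCommGroup N] [Module A N]
  (𝔍 : ℕ → Ideal A) (h𝔍open : ∀ n, IsOpen (𝔍 n : Set A)) (h𝔍anti : Antitone 𝔍)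
  (h𝔍basis : (nhds (0 : A)).HasBasis (fun _ : ℕ => True) (fun n => (𝔍 n : Set A)))
  (hM : TopMod.IsDeduced A M) (u : M →ₗ[A] N)

include h𝔍open h𝔍anti h𝔍basis hM in
theorem exists_linear_leftInverse
    (hcoker : ∀ n, Module.Projective (A ⧸ 𝔍 n)
      ((N ⧸ LinearMap.range u) ⧸ (𝔍 n • (⊤ : Submodule A (N ⧸ LinearMap.range u)))))
    (hloc : ∀ n, ∃ w : N →ₗ[A] M ⧸ (𝔍 n • ⊤ : Submodule A M),
      ∀ x, w (u x) = Submodule.Quotient.mk x) :
    ∃ w : N →ₗ[A] M, ∀ x, w (u x) = x := by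
  have hstep : ∀ n (w : {w : N →ₗ[A] M ⧸ (𝔍 n • ⊤ : Submodule A M) //
      ∀ x, w (u x) = Submodule.Quotient.mk x}),
      ∃ w' : {w : N →ₗ[A] M ⧸ (𝔍 (n + 1) • ⊤ : Submodule A M) //
        ∀ x, w (u x) = Submodule.Quotient.mk x},
        ∀ y, Submodule.factor (Submodule.smul_mono_left (h𝔍anti (Nat.le_succ n))) (w'.1 y) =
          w.1 y := by
    intro n w
    obtain ⟨w', hw'⟩ := hloc (n + 1)
    obtain ⟨w'', h1, h2⟩ := step u (𝔍 (n + 1)) (𝔍 n) (h𝔍anti (Nat.le_succ n)) (hcoker (n + 1))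
      w.1 w.2 w' hw'
    exact ⟨⟨w'', h1⟩, h2⟩
  choose nxt hnxt using hstep
  obtain ⟨w0, hw0⟩ := hloc 0
  let seq : ∀ n, {w : N →ₗ[A] M ⧸ (𝔍 n • ⊤ : Submodule A M) //
      ∀ x, w (u x) = Submodule.Quotient.mk x} := fun n =>
    Nat.rec (motive := fun n => {w : N →ₗ[A] M ⧸ (𝔍 n • ⊤ : Submodule A M) //
      ∀ x, w (u x) = Submodule.Quotient.mk x}) ⟨w0, hw0⟩ (fun n w => nxt n w) n
  have hseq : ∀ n y, Submodule.factor (Submodule.smul_mono_left (h𝔍anti (Nat.le_succ n)))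
      ((seq (n + 1)).1 y) = (seq n).1 y := fun n y => hnxt n (seq n) y
  obtain ⟨w, hw⟩ := exists_limit_map 𝔍 h𝔍open h𝔍anti h𝔍basis hM (fun n => (seq n).1) hseq
  refine ⟨w, fun x => ?_⟩
  apply eq_of_forall_sub_mem 𝔍 h𝔍basis hM
  intro k
  rw [← Submodule.Quotient.eq, hw, (seq k).2]

end Main

end Groth.Agent.Lib.FormalLeftInv2H3
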