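import Mathlib

/-!
# Lifting through opens along square-zero thickenings of affine schemes (helper5)
-/

namespace Groth.Agent.Lib.FormalLift_helper5

open AlgebraicGeometry CategoryTheory

universe u

/-- `Spec (A ⧸ I) → Spec A` is surjective on points when `I ^ 2 = ⊥`. -/
lemma specQuot_surjective (A : Type u) [CommRing A] (I : Ideal A) (hI : I ^ 2 = ⊥) :
    Function.Surjective (Spec.map (CommRingCat.ofHom (Ideal.Quotient.mk I))).base := by
  have hle : I ≤ nilradical A := by
    intro x hx
    refine ⟨2, ?_⟩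
    have : x ^ 2 ∈ I ^ 2 := Ideal.pow_mem_pow hx 2
    rw [hI] at this
    exact this
  exact (PrimeSpectrum.comap_quotientMk_bijective_of_le_nilradical hle).2

/-- A morphism `Spec A → X` whose restriction to `Spec (A ⧸ I)` (with `I ^ 2 = ⊥`) factors
through an open `U` factors through `U`. -/
lemma exists_lift_open {X : Scheme.{u}} (U : X.Opens) (A : Type u) [CommRing A] (I : Ideal A)
    (hI : I ^ 2 = ⊥) (a : Spec (CommRingCat.of (A ⧸ I)) ⟶ (U : Scheme.{u}))
    (l0 : Spec (CommRingCat.of A) ⟶ X)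
    (h : Spec.map (CommRingCat.ofHom (Ideal.Quotient.mk I)) ≫ l0 = a ≫ U.ι) :
    ∃ l : Spec (CommRingCat.of A) ⟶ (U : Scheme.{u}), l ≫ U.ι = l0 := by
  have hrange : Set.range l0.base ⊆ Set.range U.ι.base := by
    rintro _ ⟨p, rfl⟩
    obtain ⟨p', rfl⟩ := specQuot_surjective A I hI p
    refine ⟨a.base p', ?_⟩
    have := congrArg (fun φ => φ.base p') h
    simpa using this.symm
  exact ⟨IsOpenImmersion.lift U.ι l0 hrange, IsOpenImmersion.lift_fac _ _ _⟩

end Groth.Agent.Lib.FormalLift_helper5
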