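import Mathlib

/-!
# Limits of adic systems of finite modules over a complete Noetherian ring
-/

namespace Groth.Agent.Lib.FormalLimMod

universe u

theorem exists_compatible {M : ℕ → Type u} (f : ∀ n, M (n + 1) → M n)
    (hf : ∀ n, Function.Surjective (f n)) (n : ℕ) (y : M n) :
    ∃ x : ∀ k, M k, (∀ k, f k (x (k + 1)) = x k) ∧ x n = y := by
  induction n generalizing M with
  | zero =>
    choose g hg using hf
    refine ⟨fun k => @Nat.rec (fun k => M k) y (fun k z => g k z) k, fun k => ?_, rfl⟩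
    exact hg k _
  | succ n ih =>
    obtain ⟨x', hx', hx'n⟩ :=
      ih (M := fun k => M (k + 1)) (fun k => f (k + 1)) (fun k => hf (k + 1)) y
    refine ⟨fun k => match k with
      | 0 => f 0 (x' 0)
      | (k + 1) => x' k, fun k => ?_, hx'n⟩
    cases k with
    | zero => rfl
    | succ k => exact hx' k

theorem main (A : Type u) [CommRing A] [IsNoetherianRing A] (I : Ideal A)
    [IsAdicComplete I A] (M : ℕ → Type u) [∀ n, AddCommGroup (M n)] [∀ n, Module A (M n)]
    [∀ n, Module.Finite A (M n)] (f : ∀ n, M (n + 1) →ₗ[A] M n)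
    (hf : ∀ n, Function.Surjective (f n))
    (hk : ∀ n, I ^ (n + 1) • (⊤ : Submodule A (M n)) = ⊥)
    (hker : ∀ n, LinearMap.ker (f n) = I ^ (n + 1) • (⊤ : Submodule A (M (n + 1))))
    (L : Submodule A (∀ n, M n)) (hL : ∀ x : ∀ n, M n, x ∈ L ↔ ∀ n, f n (x (n + 1)) = x n) :
    Module.Finite A L ∧ ∀ n,
      Function.Surjective ((LinearMap.proj n).comp L.subtype : L →ₗ[A] M n) ∧
      LinearMap.ker ((LinearMap.proj n).comp L.subtype : L →ₗ[A] M n) =
        I ^ (n + 1) • (⊤ : Submodule A L) := by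
  classical
  -- generators of M 0 and their lifts
  obtain ⟨r, m, hm⟩ := Module.Finite.exists_fin (R := A) (M := M 0)
  have hlift : ∀ i : Fin r, ∃ x : ∀ k, M k, (∀ k, f k (x (k + 1)) = x k) ∧ x 0 = m i :=
    fun i => exists_compatible (fun n => f n) hf 0 (m i)
  choose l hlc hl0 using hlift
  have hlL : ∀ i, l i ∈ L := fun i => (hL (l i)).mpr (hlc i)
  -- the maps
  obtain ⟨Φ', hΦ'def⟩ : ∃ Φ' : (Fin r → A) →ₗ[A] (∀ n, M n), Φ' = Fintype.linearCombination A l :=
    ⟨_, rfl⟩
  have hΦ'apply : ∀ (a : Fin r → A) (n : ℕ), Φ' a n = ∑ i, a i • l i n := by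
    intro a n
    rw [hΦ'def, Fintype.linearCombination_apply, Finset.sum_apply]
    rfl
  have hΦ'mem : ∀ a, Φ' a ∈ L := by
    intro a
    rw [hΦ'def, Fintype.linearCombination_apply]
    exact Submodule.sum_mem _ fun i _ => Submodule.smul_mem _ _ (hlL i)
  have hcompat : ∀ (a : Fin r → A) (n : ℕ), f n (Φ' a (n + 1)) = Φ' a n :=
    fun a n => (hL (Φ' a)).mp (hΦ'mem a) n
  have hpow_le : ∀ {a b : ℕ}, a ≤ b → I ^ b ≤ I ^ a := fun h => Ideal.pow_le_pow_right h
  -- if all coefficients are in I^(n+1) then the image at level n vanishes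
  have hvanish : ∀ (n : ℕ) (b : Fin r → A), (∀ i, b i ∈ I ^ (n + 1)) → Φ' b n = 0 := by
    intro n b hb
    rw [hΦ'apply]
    refine Finset.sum_eq_zero fun i _ => ?_
    have : b i • l i n ∈ I ^ (n + 1) • (⊤ : Submodule A (M n)) :=
      Submodule.smul_mem_smul (hb i) Submodule.mem_top
    rw [hk n] at this
    exact (Submodule.mem_bot A).mp this
  -- componentwise membership
  have hcomp : ∀ (k : ℕ) (b : Fin r → A), b ∈ I ^ k • (⊤ : Submodule A (Fin r → A)) →
      ∀ i, b i ∈ I ^ k := by
    intro k b hb i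
    refine Submodule.smul_induction_on hb ?_ ?_
    · intro c hc n _
      rw [Pi.smul_apply, smul_eq_mul]
      exact Ideal.mul_mem_right _ _ hc
    · intro x y hx hy
      rw [Pi.add_apply]; exact Ideal.add_mem _ hx hy
  -- Claim A: surjectivity at each level
  have hΦsurj : ∀ n, ∀ y : M n, ∃ a : Fin r → A, Φ' a n = y := by
    intro n
    induction n with
    | zero =>
      intro y
      have hy : y ∈ Submodule.span A (Set.range m) := by rw [hm]; exact Submodule.mem_top
      obtain ⟨c, hc⟩ := Submodule.mem_span_range_iff_exists_fun A |>.mp hy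
      refine ⟨c, ?_⟩
      rw [hΦ'apply, ← hc]
      exact Finset.sum_congr rfl fun i _ => by rw [hl0 i]
    | succ n ih =>
      obtain ⟨N, hN⟩ : ∃ N : Submodule A (M (n + 1)),
          N = LinearMap.range ((LinearMap.proj (n + 1)).comp Φ') := ⟨_, rfl⟩
      have hNmem : ∀ a, Φ' a (n + 1) ∈ N := fun a => by rw [hN]; exact ⟨a, rfl⟩
      have htop : (⊤ : Submodule A (M (n + 1))) ≤ N ⊔ I • (⊤ : Submodule A (M (n + 1))) := by
        intro y _
        obtain ⟨a, ha⟩ := ih (f n y)
        have hy : y - Φ' a (n + 1) ∈ LinearMap.ker (f n) := by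
          rw [LinearMap.mem_ker, map_sub, hcompat a n, ha, sub_self]
        rw [hker n] at hy
        have hy' : y - Φ' a (n + 1) ∈ I • (⊤ : Submodule A (M (n + 1))) :=
          Submodule.smul_mono_left (Ideal.pow_le_self (Nat.succ_ne_zero n)) hy
        have e : y = Φ' a (n + 1) + (y - Φ' a (n + 1)) := by abel
        rw [e]
        exact Submodule.add_mem_sup (hNmem a) hy'
      have hfg : (⊤ : Submodule A (M (n + 1))).FG := Module.Finite.fg_top
      have hle := Submodule.le_of_le_smul_of_le_jacobson_bot hfg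
        (IsAdicComplete.le_jacobson_bot I) htop
      intro y
      have hyN : y ∈ N := hle Submodule.mem_top
      rw [hN] at hyN
      obtain ⟨a, ha⟩ := hyN
      exact ⟨a, ha⟩
  -- Claim B: one approximation step
  have hB : ∀ x ∈ L, ∀ (n : ℕ) (a : Fin r → A), Φ' a n = x n →
      ∃ a' : Fin r → A, Φ' a' (n + 1) = x (n + 1) ∧ ∀ i, a' i - a i ∈ I ^ (n + 1) := by
    intro x hx n a ha
    have hy : x (n + 1) - Φ' a (n + 1) ∈ LinearMap.ker (f n) := by
      rw [LinearMap.mem_ker, map_sub, (hL x).mp hx n, hcompat a n, ha, sub_self]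
    rw [hker n] at hy
    have htop : (⊤ : Submodule A (M (n + 1))) =
        Submodule.map ((LinearMap.proj (n + 1)).comp Φ') ⊤ := by
      rw [Submodule.map_top, eq_comm, LinearMap.range_eq_top]
      intro y
      obtain ⟨a, ha⟩ := hΦsurj (n + 1) y
      exact ⟨a, ha⟩
    rw [htop, ← Submodule.map_smul''] at hy
    obtain ⟨b, hb, hby⟩ := Submodule.mem_map.mp hy
    have hby' : Φ' b (n + 1) = x (n + 1) - Φ' a (n + 1) := hby
    refine ⟨a + b, ?_, fun i => ?_⟩
    · rw [map_add, Pi.add_apply, hby']; abel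
    · rw [Pi.add_apply, add_sub_cancel_left]; exact hcomp _ _ hb i
  -- Lemma D: agreement at a higher level implies agreement below
  have hD : ∀ z ∈ L, ∀ z' ∈ L, ∀ (n d : ℕ), z (n + d) = z' (n + d) → z n = z' n := by
    intro z hz z' hz' n d
    induction d with
    | zero => exact fun h => h
    | succ d ih =>
      intro h
      apply ih
      have h1 := (hL z).mp hz (n + d)
      have h2 := (hL z').mp hz' (n + d)
      rw [← h1, ← h2]
      exact congrArg (f (n + d)) h
  -- Lemma E
  have hE : ∀ x ∈ L, ∀ (n₀ : ℕ) (a₀ : Fin r → A), Φ' a₀ n₀ = x n₀ →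
      ∃ a : Fin r → A, Φ' a = x ∧ ∀ i, a i - a₀ i ∈ I ^ (n₀ + 1) := by
    intro x hx n₀ a₀ ha₀
    choose! nxt hnxt using hB x hx
    let s : ℕ → (Fin r → A) := fun j => Nat.rec a₀ (fun j a => nxt (n₀ + j) a) j
    have hs : ∀ j, Φ' (s j) (n₀ + j) = x (n₀ + j) := by
      intro j
      induction j with
      | zero => exact ha₀
      | succ j ih => exact (hnxt (n₀ + j) (s j) ih).1
    have hstep : ∀ j i, s (j + 1) i - s j i ∈ I ^ (n₀ + j + 1) :=
      fun j i => (hnxt (n₀ + j) (s j) (hs j)).2 i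
    have hcauchy : ∀ i j j', j ≤ j' → s j' i - s j i ∈ I ^ (n₀ + j + 1) := by
      intro i j j' hjj'
      induction j', hjj' using Nat.le_induction with
      | base => rw [sub_self]; exact Ideal.zero_mem _
      | succ j' hjj' ih =>
        have e : s (j' + 1) i - s j i = (s (j' + 1) i - s j' i) + (s j' i - s j i) := by ring
        rw [e]
        exact Ideal.add_mem _ (hpow_le (by omega) (hstep j' i)) ih
    have hlim : ∀ i, ∃ c : A, ∀ n, s n i ≡ c [SMOD (I ^ n • ⊤ : Submodule A A)] := by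
      intro i
      refine IsPrecomplete.prec (IsAdicComplete.toIsPrecomplete) ?_
      intro m n hmn
      rw [SModEq.sub_mem, smul_eq_mul, Ideal.mul_top]
      have h1 := hcauchy i m n hmn
      have h2 : s n i - s m i ∈ I ^ m := hpow_le (by omega) h1
      have e : s m i - s n i = -(s n i - s m i) := by ring
      rw [e]; exact Ideal.neg_mem_iff _ |>.mpr h2
    choose a ha using hlim
    have hlim' : ∀ i j, a i - s j i ∈ I ^ (n₀ + j + 1) := by
      intro i j
      have h1 := ha i (n₀ + j + 1)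
      rw [SModEq.sub_mem, smul_eq_mul, Ideal.mul_top] at h1
      have h2 := hcauchy i j (n₀ + j + 1) (by omega)
      have e : a i - s j i = -(s (n₀ + j + 1) i - a i) + (s (n₀ + j + 1) i - s j i) := by ring
      rw [e]
      exact Ideal.add_mem _ ((Ideal.neg_mem_iff _).mpr h1) h2
    refine ⟨a, ?_, fun i => hlim' i 0⟩
    funext n
    refine hD (Φ' a) (hΦ'mem a) x hx n n₀ ?_
    -- level N = n + n₀ = n₀ + n
    have hN : n + n₀ = n₀ + n := Nat.add_comm n n₀
    rw [hN, ← hs n]
    have hsub : Φ' (a - s n) (n₀ + n) = 0 :=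
      hvanish (n₀ + n) (a - s n) (fun i => by rw [Pi.sub_apply]; exact hlim' i n)
    rw [map_sub, Pi.sub_apply, sub_eq_zero] at hsub
    exact hsub
  -- assemble
  refine ⟨?_, fun n => ⟨?_, ?_⟩⟩
  · let Φ : (Fin r → A) →ₗ[A] L := LinearMap.codRestrict L Φ' hΦ'mem
    have hΦs : Function.Surjective Φ := by
      intro x
      obtain ⟨a₀, ha₀⟩ := hΦsurj 0 (x.1 0)
      obtain ⟨a, ha, -⟩ := hE x.1 x.2 0 a₀ ha₀
      exact ⟨a, Subtype.ext ha⟩
    exact Module.Finite.of_surjective Φ hΦs
  · intro y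
    obtain ⟨a, ha⟩ := hΦsurj n y
    exact ⟨⟨Φ' a, hΦ'mem a⟩, ha⟩
  · apply le_antisymm
    · intro x hx
      have hx0 : x.1 n = 0 := hx
      have h0 : Φ' 0 n = x.1 n := by rw [map_zero, hx0]; rfl
      obtain ⟨a, ha, hai⟩ := hE x.1 x.2 n 0 h0
      have hxa : x = ∑ i, a i • (⟨l i, hlL i⟩ : L) := by
        apply Subtype.ext
        rw [← ha, hΦ'def, Fintype.linearCombination_apply]
        simp only [Submodule.coe_sum, Submodule.coe_smul]
      rw [hxa]
      refine Submodule.sum_mem _ fun i _ => Submodule.smul_mem_smul ?_ Submodule.mem_top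
      have := hai i
      rwa [Pi.zero_apply, sub_zero] at this
    · rw [Submodule.smul_le]
      intro c hc z _
      rw [LinearMap.mem_ker]
      show (c • z).1 n = 0
      have : c • z.1 n ∈ I ^ (n + 1) • (⊤ : Submodule A (M n)) :=
        Submodule.smul_mem_smul hc Submodule.mem_top
      rw [hk n] at this
      exact (Submodule.mem_bot A).mp this

end Groth.Agent.Lib.FormalLimMod
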