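import Mathlib
import Groth.Prelude
import Groth.Agent.Lib.FormalMod2_helper5

/-!
# The completion of `Spec A` along `V(J)` as an affine adic system (helper5)
APPEND-ONLY once landed.
-/

set_option autoImplicit false
universe u

namespace Groth.Agent.FormalMod

open CategoryTheory AlgebraicGeometry Opposite TopologicalSpace

section ComplSpec

variable (A : Type u) [CommRing A] (J : Ideal A)

/-- the completion of `Spec A` along `V(J)`. -/
noncomputable abbrev cSpec : FSch.Sys.{u} :=
  FSch.completionAlong (Spec (CommRingCat.of A)) (FSch.idealSpec A J)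

theorem isAffine_cSpec (n : ℕ) : IsAffine ((cSpec A J).X n) := by
  show IsAffine ((FSch.idealSpec A J ^ (n + 1)).subscheme)
  exact isAffine_of_isAffineHom (FSch.idealSpec A J ^ (n + 1)).subschemeι

/-- the ideal of `idealSpec` on the whole of `Spec A`. -/
theorem idealSpec_ideal_top :
    (FSch.idealSpec A J).ideal ⟨⊤, isAffineOpen_top _⟩ =
      J.comap (Scheme.ΓSpecIso (CommRingCat.of A)).hom.hom := by
  unfold FSch.idealSpec
  rw [Scheme.Hom.ker_apply]
  ext x
  rw [RingHom.mem_ker, Ideal.mem_comap]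
  have hnat := Scheme.ΓSpecIso_naturality (CommRingCat.ofHom (Ideal.Quotient.mk J))
  have h1 := congrArg (fun t => t.hom x) hnat
  simp only [CommRingCat.hom_comp, RingHom.comp_apply, CommRingCat.hom_ofHom] at h1
  rw [← Ideal.Quotient.eq_zero_iff_mem, ← h1]
  have hinj : Function.Injective (Scheme.ΓSpecIso (CommRingCat.of (A ⧸ J))).hom.hom :=
    (ConcreteCategory.bijective_of_isIso (Scheme.ΓSpecIso (CommRingCat.of (A ⧸ J))).hom).injective
  constructor
  · intro h
    have h' : (Scheme.Hom.appTop (Spec.map (CommRingCat.ofHom (Ideal.Quotient.mk J)))).hom x = 0 := h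
    rw [h']; exact map_zero _
  · intro h
    apply hinj
    exact h.trans (map_zero _).symm

/-- the ring maps `A → Γ(X_n, ⊤)` for the levels of the completion of `Spec A` along `V(J)`. -/
noncomputable def rhoC (n : ℕ) : A →+* Γ((cSpec A J).X n, ⊤) :=
  (FSch.completionToX (Spec (CommRingCat.of A)) (FSch.idealSpec A J) n).appTop.hom.comp
    (Scheme.ΓSpecIso (CommRingCat.of A)).inv.hom

theorem rhoC_apply (n : ℕ) (a : A) :
    rhoC A J n a =
      (FSch.completionToX (Spec (CommRingCat.of A)) (FSch.idealSpec A J) n).appTop.hom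
        ((Scheme.ΓSpecIso (CommRingCat.of A)).inv.hom a) := rfl

theorem rhoC_compat (n : ℕ) (a : A) :
    ((cSpec A J).ι n).appTop.hom (rhoC A J (n + 1) a) = rhoC A J n a := by
  have h1 : (cSpec A J).ι n ≫
      FSch.completionToX (Spec (CommRingCat.of A)) (FSch.idealSpec A J) (n + 1) =
      FSch.completionToX (Spec (CommRingCat.of A)) (FSch.idealSpec A J) n :=
    Scheme.IdealSheafData.inclusion_subschemeι _
  rw [rhoC_apply, rhoC_apply, ← h1, Scheme.Hom.comp_appTop]
  rfl

theorem rhoC_surjective (n : ℕ) : Function.Surjective (rhoC A J n) := by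
  intro y
  obtain ⟨x, hx⟩ := (FSch.idealSpec A J ^ (n + 1)).subschemeι_app_surjective
    ⟨⊤, isAffineOpen_top _⟩ y
  obtain ⟨a, ha⟩ :=
    (ConcreteCategory.bijective_of_isIso (Scheme.ΓSpecIso (CommRingCat.of A)).inv).2 x
  refine ⟨a, ?_⟩
  rw [rhoC_apply]
  exact (congrArg _ ha).trans hx

theorem ker_rhoC (n : ℕ) : RingHom.ker (rhoC A J n) = J ^ (n + 1) := by
  have h1 : RingHom.ker
      (FSch.completionToX (Spec (CommRingCat.of A)) (FSch.idealSpec A J) n).appTop.hom =
      (J.comap (Scheme.ΓSpecIso (CommRingCat.of A)).hom.hom) ^ (n + 1) := by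
    have := (FSch.idealSpec A J ^ (n + 1)).ker_subschemeι_app ⟨⊤, isAffineOpen_top _⟩
    rw [Scheme.IdealSheafData.ideal_pow, Pi.pow_apply, idealSpec_ideal_top] at this
    exact this
  have hbij : Function.Bijective (Scheme.ΓSpecIso (CommRingCat.of A)).hom.hom :=
    ConcreteCategory.bijective_of_isIso (Scheme.ΓSpecIso (CommRingCat.of A)).hom
  have hinvhom : ∀ a, (Scheme.ΓSpecIso (CommRingCat.of A)).hom.hom
      ((Scheme.ΓSpecIso (CommRingCat.of A)).inv.hom a) = a := fun a => by
    rw [← RingHom.comp_apply, ← CommRingCat.hom_comp, Iso.inv_hom_id]; rfl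
  have hcomap : J.comap (Scheme.ΓSpecIso (CommRingCat.of A)).hom.hom =
      J.map (Scheme.ΓSpecIso (CommRingCat.of A)).inv.hom := by
    apply le_antisymm
    · intro x hx
      obtain ⟨a, rfl⟩ : ∃ a, (Scheme.ΓSpecIso (CommRingCat.of A)).inv.hom a = x :=
        ⟨(Scheme.ΓSpecIso (CommRingCat.of A)).hom.hom x, by
          rw [← RingHom.comp_apply, ← CommRingCat.hom_comp, Iso.hom_inv_id]; rfl⟩
      rw [Ideal.mem_comap, hinvhom] at hx
      exact Ideal.mem_map_of_mem _ hx
    · rw [Ideal.map_le_iff_le_comap]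
      intro a ha
      rw [Ideal.mem_comap, Ideal.mem_comap, hinvhom]
      exact ha
  ext a
  rw [RingHom.mem_ker, rhoC_apply, ← RingHom.mem_ker, h1, hcomap, ← Ideal.map_pow]
  constructor
  · intro h
    have h2 := Ideal.mem_map_of_mem (Scheme.ΓSpecIso (CommRingCat.of A)).hom.hom h
    rw [Ideal.map_map, hinvhom] at h2
    have h3 : (Scheme.ΓSpecIso (CommRingCat.of A)).hom.hom.comp
        (Scheme.ΓSpecIso (CommRingCat.of A)).inv.hom = RingHom.id A := by
      ext b; exact hinvhom b
    rw [h3, Ideal.map_id] at h2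
    exact h2
  · intro h
    exact Ideal.mem_map_of_mem _ h

end ComplSpec

end Groth.Agent.FormalMod
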