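import Mathlib
import Groth.Prelude
import Groth.Agent.Lib.FormalMod3_helper5
import Groth.Agent.Lib.LimHomGlue_helper2

/-!
# Sections of the pullback of `M~` and morphisms out of it (helper5)
APPEND-ONLY once landed.

For `c : Y ⟶ Spec R` and an `R`-module `M`, the canonical sections `sec c M m` of `c^* M~`, the
morphisms `c^* M~ ⟶ G` attached to semilinear maps `M → Γ(G, ⊤)` and the fact that such morphisms
are determined by their values on the canonical sections.
-/

set_option autoImplicit false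
universe u

namespace Groth.Agent.FormalMod

open CategoryTheory AlgebraicGeometry Opposite TopologicalSpace

section Sec

variable {R : CommRingCat.{u}} {Y : Scheme.{u}} (c : Y ⟶ Spec R) (M : ModuleCat.{u} R)

/-- the ring map `R → Γ(Y, ⊤)` attached to `c : Y ⟶ Spec R`. -/
noncomputable def rhoOf : R →+* Γ(Y, ⊤) := c.appTop.hom.comp (Scheme.ΓSpecIso R).inv.hom

theorem rhoOf_apply (r : R) : rhoOf c r = c.appTop.hom ((Scheme.ΓSpecIso R).inv.hom r) := rfl

/-- the global section of `M~` attached to `m`. -/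
noncomputable def gsec (m : M) : Γ(tilde M, ⊤) := (tilde.toOpen M ⊤).hom m

theorem gsec_add (m m' : M) : gsec M (m + m') = gsec M m + gsec M m' :=
  map_add (tilde.toOpen M ⊤).hom m m'

theorem gsec_smul (r : R) (m : M) :
    gsec M (r • m) = (Scheme.ΓSpecIso R).inv.hom r • gsec M m := by
  have h1 : gsec M (r • m) = r • gsec M m := map_smul (tilde.toOpen M ⊤).hom r m
  rw [h1, Scheme.Modules.smul_Spec_def]
  congr 1

theorem gsec_bijective : Function.Bijective (gsec M) :=
  ConcreteCategory.bijective_of_isIso (tilde.toOpen M ⊤)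

/-- the canonical section of `c^* M~` attached to `m`. -/
noncomputable def sec (m : M) : Γ((Scheme.Modules.pullback c).obj (tilde M), ⊤) :=
  PBH8.cUV c (tilde M) (top_le_preimage_top c) (gsec M m)

theorem sec_add (m m' : M) : sec c M (m + m') = sec c M m + sec c M m' := by
  unfold sec
  rw [gsec_add, PBH8.cUV_add]

theorem sec_smul (r : R) (m : M) : sec c M (r • m) = rhoOf c r • sec c M m := by
  unfold sec
  rw [gsec_smul, PBH8.cUV_smul, appLE_top_top]
  rfl

theorem sec_zero : sec c M 0 = 0 := by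
  have h := sec_add c M 0 0
  rw [add_zero] at h
  exact left_eq_add.mp h

section Affine

variable [IsAffine Y] (hsurj : Function.Surjective (rhoOf c))

include hsurj in
theorem sec_surjective : Function.Surjective (sec c M) := by
  have h' : (⊤ : Y.Opens) ≤ c ⁻¹ᵁ ⊤ := top_le_preimage_top c
  letI := (c.appLE ⊤ ⊤ h').hom.toAlgebra
  letI mA : Module Γ(Spec R, ⊤)
      Γ((Scheme.Modules.pullback c).obj (tilde M), (⊤ : Y.Opens)) :=
    Module.compHom _ (c.appLE ⊤ ⊤ h').hom
  haveI : IsScalarTower Γ(Spec R, ⊤) Γ(Y, ⊤)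
      Γ((Scheme.Modules.pullback c).obj (tilde M), (⊤ : Y.Opens)) :=
    IsScalarTower.of_algebraMap_smul fun _ _ => rfl
  have hb := PBH8.isBaseChange_cUV c (tilde M) h' (isAffineOpen_top Y)
    (isAffineOpen_top (Spec R))
  have hrs : Function.Surjective (algebraMap Γ(Spec R, ⊤) Γ(Y, ⊤)) := by
    intro y
    obtain ⟨r, rfl⟩ := hsurj y
    refine ⟨(Scheme.ΓSpecIso R).inv.hom r, ?_⟩
    show (c.appLE ⊤ ⊤ h').hom _ = _
    rw [appLE_top_top]
    rfl
  intro y
  obtain ⟨x, hx⟩ := PBH8.IsBaseChange.surjective_of_surjective hrs hb y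
  obtain ⟨m, rfl⟩ := (gsec_bijective M).2 x
  exact ⟨m, hx⟩

include hsurj in
theorem sec_eq_zero_iff (m : M) :
    sec c M m = 0 ↔ m ∈ (RingHom.ker (rhoOf c)) • (⊤ : Submodule R M) := by
  constructor
  · intro hm
    have h' : (⊤ : Y.Opens) ≤ c ⁻¹ᵁ ⊤ := top_le_preimage_top c
    letI := (c.appLE ⊤ ⊤ h').hom.toAlgebra
    letI mA : Module Γ(Spec R, ⊤)
        Γ((Scheme.Modules.pullback c).obj (tilde M), (⊤ : Y.Opens)) :=
      Module.compHom _ (c.appLE ⊤ ⊤ h').hom
    haveI : IsScalarTower Γ(Spec R, ⊤) Γ(Y, ⊤)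
        Γ((Scheme.Modules.pullback c).obj (tilde M), (⊤ : Y.Opens)) :=
      IsScalarTower.of_algebraMap_smul fun _ _ => rfl
    have hb := PBH8.isBaseChange_cUV c (tilde M) h' (isAffineOpen_top Y)
      (isAffineOpen_top (Spec R))
    have hrs : Function.Surjective (algebraMap Γ(Spec R, ⊤) Γ(Y, ⊤)) := by
      intro y
      obtain ⟨r, rfl⟩ := hsurj y
      refine ⟨(Scheme.ΓSpecIso R).inv.hom r, ?_⟩
      show (c.appLE ⊤ ⊤ h').hom _ = _
      rw [appLE_top_top]
      rfl
    have h1 := PBH8.IsBaseChange.ker_le_smul_top hrs hb (gsec M m) hm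
    have key : ∃ m' ∈ (RingHom.ker (rhoOf c)) • (⊤ : Submodule R M), gsec M m' = gsec M m := by
      refine Submodule.smul_induction_on h1 (fun b hb y _ => ?_) (fun y z hy hz => ?_)
      · obtain ⟨m', rfl⟩ := (gsec_bijective M).2 y
        obtain ⟨r, rfl⟩ :=
          (ConcreteCategory.bijective_of_isIso (Scheme.ΓSpecIso R).inv).2 b
        refine ⟨r • m', Submodule.smul_mem_smul ?_ Submodule.mem_top, gsec_smul M r m'⟩
        rw [RingHom.mem_ker, rhoOf_apply, ← appLE_top_top c h']
        exact hb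
      · obtain ⟨m₁, hm₁, e₁⟩ := hy
        obtain ⟨m₂, hm₂, e₂⟩ := hz
        exact ⟨m₁ + m₂, Submodule.add_mem _ hm₁ hm₂, by rw [gsec_add, e₁, e₂]⟩
    obtain ⟨m', hm', e⟩ := key
    rw [← (gsec_bijective M).1 e]
    exact hm'
  · intro hm
    refine Submodule.smul_induction_on hm (fun r hr m' _ => ?_) (fun y z hy hz => ?_)
    · rw [sec_smul, (RingHom.mem_ker).mp hr, zero_smul]
    · rw [sec_add, hy, hz, add_zero]

end Affine

/-- the composite adjunction `(c^* ∘ ~) ⊣ (Γ ∘ c_*)`. -/
noncomputable def adjT : tilde.functor R ⋙ Scheme.Modules.pullback c ⊣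
    Scheme.Modules.pushforward c ⋙ moduleSpecΓFunctor (R := R) :=
  (tilde.adjunction (R := R)).comp (Scheme.Modules.pullbackPushforwardAdjunction c)

theorem adjT_homEquiv_apply (G : Y.Modules)
    (α : (Scheme.Modules.pullback c).obj (tilde M) ⟶ G) (m : M) :
    G.presheaf.map (homOfLE (top_le_preimage_top c)).op
      (((adjT c).homEquiv M G α).hom m) = α.app ⊤ (sec c M m) := by
  rw [Adjunction.homEquiv_unit]
  unfold adjT
  rw [Adjunction.comp_unit_app]
  show G.presheaf.map _ (α.app (c ⁻¹ᵁ ⊤)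
    (((Scheme.Modules.pullbackPushforwardAdjunction c).unit.app (tilde M)).app ⊤ (gsec M m))) = _
  unfold sec PBH8.cUV
  exact (QCohCrit.app_naturality α (homOfLE (top_le_preimage_top c)) _).symm

theorem isIso_homOfLE_top : IsIso (homOfLE (top_le_preimage_top c)) :=
  ⟨homOfLE le_top, Subsingleton.elim _ _, Subsingleton.elim _ _⟩

theorem res_top_bijective (G : Y.Modules) :
    Function.Bijective (G.presheaf.map (homOfLE (top_le_preimage_top c)).op) := by
  haveI := isIso_homOfLE_top c
  haveI : IsIso (G.presheaf.map (homOfLE (top_le_preimage_top c)).op) := Functor.map_isIso _ _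
  exact ConcreteCategory.bijective_of_isIso _

theorem res_top_apply (G : Y.Modules) (x : Γ(G, ⊤)) :
    G.presheaf.map (homOfLE (top_le_preimage_top c)).op x = x := by
  have h2 : (homOfLE (top_le_preimage_top c)).op = 𝟙 (op (⊤ : Y.Opens)) := Subsingleton.elim _ _
  have h3 : G.presheaf.map (homOfLE (top_le_preimage_top c)).op =
      𝟙 (G.presheaf.obj (op (⊤ : Y.Opens))) :=
    (congrArg (fun f : op (⊤ : Y.Opens) ⟶ op (⊤ : Y.Opens) => G.presheaf.map f) h2).trans
      (G.presheaf.map_id _)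
  exact congrArg (fun f : G.presheaf.obj (op (⊤ : Y.Opens)) ⟶ G.presheaf.obj (op (⊤ : Y.Opens)) =>
    f.hom x) h3

/-- morphisms out of `c^* M~` are determined by their values on the canonical sections. -/
theorem hom_ext_sec (G : Y.Modules) (α β : (Scheme.Modules.pullback c).obj (tilde M) ⟶ G)
    (h : ∀ m, α.app ⊤ (sec c M m) = β.app ⊤ (sec c M m)) : α = β := by
  apply ((adjT c).homEquiv M G).injective
  apply ModuleCat.hom_ext
  apply LinearMap.ext
  intro m
  apply (res_top_bijective c G).1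
  rw [adjT_homEquiv_apply, adjT_homEquiv_apply]
  exact h m

/-- a semilinear map `M → Γ(G, ⊤)` gives a morphism `c^* M~ ⟶ G`. -/
theorem exists_hom_of_semilinear (G : Y.Modules) (ψ : M →+ Γ(G, ⊤))
    (hψ : ∀ (r : R) (m : M), ψ (r • m) = rhoOf c r • ψ m) :
    ∃ α : (Scheme.Modules.pullback c).obj (tilde M) ⟶ G, ∀ m, α.app ⊤ (sec c M m) = ψ m := by
  let N : ModuleCat R :=
    (modulesSpecToSheaf.obj ((Scheme.Modules.pushforward c).obj G)).presheaf.obj (.op ⊤)
  let ψL : M →ₗ[R] N :=
    { toFun := fun m => (show Γ(G, ⊤) from ψ m)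
      map_add' := fun x y => map_add ψ x y
      map_smul' := fun r m => by
        rw [RingHom.id_apply]
        refine (hψ r m).trans ?_
        rfl }
  let φ : M ⟶ N := ModuleCat.ofHom (X := M) (Y := N) ψL
  let φ' : M ⟶ (Scheme.Modules.pushforward c ⋙ moduleSpecΓFunctor (R := R)).obj G := φ
  refine ⟨((adjT c).homEquiv M G).symm φ', fun m => ?_⟩
  rw [← adjT_homEquiv_apply, Equiv.apply_symm_apply]
  exact res_top_apply c G (ψ m)

end Sec

end Groth.Agent.FormalMod
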