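import Mathlib
import Groth.Prelude
import Groth.Agent.Lib.FormalMod4_helper5

/-!
# Morphisms out of `c^* M~`: isomorphism criterion, transition compatibility (helper5)
APPEND-ONLY once landed.
-/

set_option autoImplicit false
universe u

namespace Groth.Agent.FormalMod

open CategoryTheory AlgebraicGeometry Opposite TopologicalSpace

section Iso

variable {R : CommRingCat.{u}} {Y : Scheme.{u}} (c : Y ⟶ Spec R) (M : ModuleCat.{u} R)

/-- a morphism `c^* M~ ⟶ G` on an affine scheme is an isomorphism as soon as the induced map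
`M → Γ(G, ⊤)` is surjective with kernel `(ker ρ) M`. -/
theorem isIso_of_sec [IsAffine Y] (hsurj : Function.Surjective (rhoOf c)) (G : Y.Modules)
    [G.IsQuasicoherent] (α : (Scheme.Modules.pullback c).obj (tilde M) ⟶ G)
    (hαsurj : ∀ y : Γ(G, ⊤), ∃ m, α.app ⊤ (sec c M m) = y)
    (hαker : ∀ m, α.app ⊤ (sec c M m) = 0 → m ∈ (RingHom.ker (rhoOf c)) • (⊤ : Submodule R M)) :
    IsIso α := by
  refine Groth.Agent.Lib.LimMod.isIso_of_affine_cover α
    (fun x => ⟨⊤, isAffineOpen_top Y, trivial, ?_, ?_⟩)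
  · intro x y hxy
    obtain ⟨m, hm⟩ := sec_surjective c M hsurj (x - y)
    have h1 : α.app ⊤ (sec c M m) = 0 := by
      rw [hm, map_sub, hxy, sub_self]
    have h2 := (sec_eq_zero_iff c M hsurj m).mpr (hαker m h1)
    rw [hm] at h2
    exact sub_eq_zero.mp h2
  · intro y
    obtain ⟨m, hm⟩ := hαsurj y
    exact ⟨sec c M m, hm⟩

/-- naturality of the canonical sections in the module. -/
theorem map_sec {N : ModuleCat.{u} R} (u : M ⟶ N) (m : M) :
    ((Scheme.Modules.pullback c).map ((tilde.functor R).map u)).app ⊤ (sec c M m) =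
      sec c N (u.hom m) := by
  unfold sec
  refine (PBH8.cUV_naturality c ((tilde.functor R).map u) (top_le_preimage_top c)
    (gsec M m)).trans ?_
  congr 1
  have h := tilde.toOpen_map_app u (⊤ : Opens (PrimeSpectrum R))
  exact congrArg (fun φ => φ.hom m) h

end Iso

section Trans

variable {R : CommRingCat.{u}} {Y' Y : Scheme.{u}} (a : Y' ⟶ Y) (b : Y ⟶ Spec R)
  (c : Y' ⟶ Spec R) (w : a ≫ b = c) (M : ModuleCat.{u} R)

/-- the canonical isomorphism `a^* b^* M~ ≅ c^* M~` on canonical sections. -/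
theorem pbIso_sec (m : M) :
    ((DescH8.pbIso a b c w).hom.app (tilde M)).app ⊤
      (PBH8.cUV a ((Scheme.Modules.pullback b).obj (tilde M)) (top_le_preimage_top a)
        (sec b M m)) = sec c M m :=
  Groth.Agent.Lib.LimMod.pbIso_cUV a b c w (tilde M) (top_le_preimage_top a)
    (top_le_preimage_top b) (top_le_preimage_top c) (gsec M m)

theorem pbIso_inv_sec (m : M) :
    ((DescH8.pbIso a b c w).inv.app (tilde M)).app ⊤ (sec c M m) =
      PBH8.cUV a ((Scheme.Modules.pullback b).obj (tilde M)) (top_le_preimage_top a)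
        (sec b M m) := by
  rw [← pbIso_sec a b c w M m]
  have h : (DescH8.pbIso a b c w).hom.app (tilde M) ≫ (DescH8.pbIso a b c w).inv.app (tilde M) =
      𝟙 _ := Iso.hom_inv_id_app _ _
  have h2 := congrArg (fun φ => φ.app ⊤
    (PBH8.cUV a ((Scheme.Modules.pullback b).obj (tilde M)) (top_le_preimage_top a)
      (sec b M m))) h
  exact h2

/-- compatibility of morphisms out of `b^* M~` and `c^* M~` with a transition morphism, checked
on canonical sections. -/
theorem comm_of_sec (G : Y.Modules) (G' : Y'.Modules)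
    (e : (Scheme.Modules.pullback a).obj G ⟶ G')
    (β : (Scheme.Modules.pullback b).obj (tilde M) ⟶ G)
    (γ : (Scheme.Modules.pullback c).obj (tilde M) ⟶ G')
    (h : ∀ m, e.app ⊤ (PBH8.cUV a G (top_le_preimage_top a) (β.app ⊤ (sec b M m))) =
      γ.app ⊤ (sec c M m)) :
    (Scheme.Modules.pullback a).map β ≫ e = (DescH8.pbIso a b c w).hom.app (tilde M) ≫ γ := by
  have key : ((DescH8.pbIso a b c w).app (tilde M)).inv ≫
      ((Scheme.Modules.pullback a).map β ≫ e) = γ := by
    apply hom_ext_sec c M G'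
    intro m
    rw [← h m, Scheme.Modules.Hom.comp_app, Scheme.Modules.Hom.comp_app,
      ConcreteCategory.comp_apply, ConcreteCategory.comp_apply]
    have h1 : (((DescH8.pbIso a b c w).app (tilde M)).inv.app ⊤) (sec c M m) =
        PBH8.cUV a ((Scheme.Modules.pullback b).obj (tilde M)) (top_le_preimage_top a)
          (sec b M m) := pbIso_inv_sec a b c w M m
    rw [h1, PBH8.cUV_naturality]
  have key2 := (Iso.inv_comp_eq ((DescH8.pbIso a b c w).app (tilde M))).mp key
  rw [Iso.app_hom] at key2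
  exact key2

end Trans

section ModSys

variable {𝔛 : FSch.Sys.{u}} {𝔐 𝔑 : FSch.ModSys 𝔛}

/-- a morphism of systems of modules which is an isomorphism at every level is an isomorphism. -/
theorem modSys_isIso_of_app (φ : 𝔐 ⟶ 𝔑) (h : ∀ n, IsIso ((φ : FSch.ModSys.Hom 𝔐 𝔑).app n)) :
    IsIso φ := by
  let φ' : FSch.ModSys.Hom 𝔐 𝔑 := φ
  let ψ : FSch.ModSys.Hom 𝔑 𝔐 :=
    ⟨fun n => inv (φ'.app n), fun n => by
      rw [IsIso.eq_comp_inv, Category.assoc, ← φ'.comm n, ← Category.assoc, ← Functor.map_comp,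
        IsIso.inv_hom_id, CategoryTheory.Functor.map_id, Category.id_comp]⟩
  refine ⟨⟨ψ, ?_, ?_⟩⟩
  · apply FSch.ModSys.Hom.ext
    funext n
    exact IsIso.hom_inv_id (φ'.app n)
  · apply FSch.ModSys.Hom.ext
    funext n
    exact IsIso.inv_hom_id (φ'.app n)

end ModSys

section ComplMod

variable {X : Scheme.{u}} (𝓘 : X.IdealSheafData)

theorem complTransIso_eq (n : ℕ) :
    FSch.complTransIso 𝓘 n =
      DescH8.pbIso ((FSch.completionAlong X 𝓘).ι n) (FSch.completionToX X 𝓘 (n + 1))
        (FSch.completionToX X 𝓘 n)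
        (Scheme.IdealSheafData.inclusion_subschemeι (FSch.pow_succ_le X 𝓘 n)) := by
  unfold FSch.complTransIso DescH8.pbIso
  rfl

theorem complMod_e_hom (F : X.Modules) (n : ℕ) :
    ((FSch.complMod 𝓘 F).e n).hom =
      (DescH8.pbIso ((FSch.completionAlong X 𝓘).ι n) (FSch.completionToX X 𝓘 (n + 1))
        (FSch.completionToX X 𝓘 n)
        (Scheme.IdealSheafData.inclusion_subschemeι (FSch.pow_succ_le X 𝓘 n))).hom.app F := by
  rw [FSch.complMod_e, Iso.app_hom, complTransIso_eq]

end ComplMod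

end Groth.Agent.FormalMod
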