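import Mathlib
import Groth.Prelude
import Groth.Agent.Lib.FormalMod5_helper5

/-!
# A system of modules on the completion of `Spec R` along `𝓘` is `M^Δ` (helper5)
APPEND-ONLY once landed.
-/

set_option autoImplicit false
universe u

namespace Groth.Agent.FormalMod

open CategoryTheory AlgebraicGeometry Opposite TopologicalSpace

section Main

variable {R : CommRingCat.{u}} (𝓘 : (Spec R).IdealSheafData) (M : ModuleCat.{u} R)
  (𝔐 : FSch.ModSys (FSch.completionAlong (Spec R) 𝓘))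

/-- compatibility with the transition isomorphisms, checked on canonical sections. -/
theorem complMod_comm_of_sec (n : ℕ)
    (β : (Scheme.Modules.pullback (FSch.completionToX (Spec R) 𝓘 (n + 1))).obj (tilde M) ⟶
      𝔐.F (n + 1))
    (γ : (Scheme.Modules.pullback (FSch.completionToX (Spec R) 𝓘 n)).obj (tilde M) ⟶ 𝔐.F n)
    (h : ∀ m, trans 𝔐 n (β.app ⊤ (sec (FSch.completionToX (Spec R) 𝓘 (n + 1)) M m)) =
      γ.app ⊤ (sec (FSch.completionToX (Spec R) 𝓘 n) M m)) :
    (Scheme.Modules.pullback ((FSch.completionAlong (Spec R) 𝓘).ι n)).map β ≫ (𝔐.e n).hom =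
      ((FSch.complMod 𝓘 (tilde M)).e n).hom ≫ γ := by
  rw [complMod_e_hom]
  exact comm_of_sec ((FSch.completionAlong (Spec R) 𝓘).ι n)
    (FSch.completionToX (Spec R) 𝓘 (n + 1)) (FSch.completionToX (Spec R) 𝓘 n)
    (Scheme.IdealSheafData.inclusion_subschemeι (FSch.pow_succ_le (Spec R) 𝓘 n)) M
    (𝔐.F (n + 1)) (𝔐.F n) (𝔐.e n).hom β γ h

/-- **A system of quasi-coherent modules on the completion of `Spec R` along `𝓘` is `M^Δ`** as
soon as `M` maps compatibly onto the global sections of all levels with the right kernels. -/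
theorem nonempty_iso_complMod
    (hX : ∀ n, IsAffine ((FSch.completionAlong (Spec R) 𝓘).X n))
    (hq : ∀ n, (𝔐.F n).IsQuasicoherent)
    (hsurj : ∀ n, Function.Surjective (rhoOf (FSch.completionToX (Spec R) 𝓘 n)))
    (ψ : ∀ n, M →+ Γ(𝔐.F n, ⊤))
    (hψsm : ∀ n (r : R) (m : M),
      ψ n (r • m) = rhoOf (FSch.completionToX (Spec R) 𝓘 n) r • ψ n m)
    (hψsurj : ∀ n, Function.Surjective (ψ n))
    (hψker : ∀ n m, ψ n m = 0 →
      m ∈ (RingHom.ker (rhoOf (FSch.completionToX (Spec R) 𝓘 n))) • (⊤ : Submodule R M))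
    (hψtr : ∀ n m, trans 𝔐 n (ψ (n + 1) m) = ψ n m) :
    Nonempty (𝔐 ≅ FSch.complMod 𝓘 (tilde M)) := by
  have hα : ∀ n, ∃ α : (Scheme.Modules.pullback (FSch.completionToX (Spec R) 𝓘 n)).obj
      (tilde M) ⟶ 𝔐.F n,
      ∀ m : M, α.app ⊤ (sec (FSch.completionToX (Spec R) 𝓘 n) M m) = ψ n m :=
    fun n => exists_hom_of_semilinear (FSch.completionToX (Spec R) 𝓘 n) M (𝔐.F n) (ψ n)
      (hψsm n)
  choose α hα using hα
  have hiso : ∀ n, IsIso (α n) := by
    intro n
    haveI := hX n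
    haveI := hq n
    refine isIso_of_sec (FSch.completionToX (Spec R) 𝓘 n) M (hsurj n) (𝔐.F n) (α n) ?_ ?_
    · intro y
      obtain ⟨m, hm⟩ := hψsurj n y
      exact ⟨m, (hα n m).trans hm⟩
    · intro m hm
      rw [hα n m] at hm
      exact hψker n m hm
  have hcomm : ∀ n, (Scheme.Modules.pullback ((FSch.completionAlong (Spec R) 𝓘).ι n)).map
      (α (n + 1)) ≫ (𝔐.e n).hom = ((FSch.complMod 𝓘 (tilde M)).e n).hom ≫ α n := by
    intro n
    refine complMod_comm_of_sec 𝓘 M 𝔐 n (α (n + 1)) (α n) (fun m => ?_)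
    rw [hα (n + 1) m, hα n m]
    exact hψtr n m
  let φ : FSch.complMod 𝓘 (tilde M) ⟶ 𝔐 := (⟨α, hcomm⟩ : FSch.ModSys.Hom _ _)
  haveI : IsIso φ := modSys_isIso_of_app φ hiso
  exact ⟨(asIso φ).symm⟩

end Main

end Groth.Agent.FormalMod
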