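import Mathlib
import Groth.Prelude
import Groth.Agent.Lib.FormalMod6_helper5
import Groth.Agent.Lib.AdicLift1_helper5

/-!
# Morphisms `M^Δ ⟶ N^Δ` on the completion of `Spec R` along `𝓘` (helper5)
APPEND-ONLY once landed.
-/

set_option autoImplicit false
universe u

namespace Groth.Agent.FormalMod

open CategoryTheory AlgebraicGeometry Opposite TopologicalSpace

section General

variable {𝔛 : FSch.Sys.{u}}

theorem trans_apply (𝔐 : FSch.ModSys 𝔛) (n : ℕ) (x : Γ(𝔐.F (n + 1), ⊤)) :
    trans 𝔐 n x = (𝔐.e n).hom.app ⊤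
      (PBH8.cUV (𝔛.ι n) (𝔐.F (n + 1)) (top_le_preimage_top (𝔛.ι n)) x) := rfl

/-- morphisms of systems of modules commute with the transition maps on global sections. -/
theorem trans_naturality {𝔐 𝔑 : FSch.ModSys 𝔛} (Φ : 𝔐 ⟶ 𝔑) (n : ℕ) (x : Γ(𝔐.F (n + 1), ⊤)) :
    trans 𝔑 n (((Φ : FSch.ModSys.Hom 𝔐 𝔑).app (n + 1)).app ⊤ x) =
      ((Φ : FSch.ModSys.Hom 𝔐 𝔑).app n).app ⊤ (trans 𝔐 n x) := by
  rw [trans_apply, trans_apply, ← PBH8.cUV_naturality]
  have hc := (Φ : FSch.ModSys.Hom 𝔐 𝔑).comm n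
  have h1 := congrArg (fun φ => φ.app ⊤
    (PBH8.cUV (𝔛.ι n) (𝔐.F (n + 1)) (top_le_preimage_top (𝔛.ι n)) x)) hc
  simp only [Scheme.Modules.Hom.comp_app, ConcreteCategory.comp_apply] at h1
  exact h1

end General

section ComplGeneral

variable {X : Scheme.{u}} (𝓘 : X.IdealSheafData) (F : X.Modules)

/-- the transition map of `F^Δ` in terms of the canonical isomorphism `a^* b^* ≅ c^*`. -/
theorem trans_complMod_apply (n : ℕ)
    (x : Γ((Scheme.Modules.pullback (FSch.completionToX X 𝓘 (n + 1))).obj F, ⊤)) :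
    trans (FSch.complMod 𝓘 F) n x =
      ((DescH8.pbIso ((FSch.completionAlong X 𝓘).ι n) (FSch.completionToX X 𝓘 (n + 1))
        (FSch.completionToX X 𝓘 n)
        (Scheme.IdealSheafData.inclusion_subschemeι (FSch.pow_succ_le X 𝓘 n))).hom.app F).app ⊤
        (PBH8.cUV ((FSch.completionAlong X 𝓘).ι n)
          ((Scheme.Modules.pullback (FSch.completionToX X 𝓘 (n + 1))).obj F)
          (top_le_preimage_top _) x) := by
  rw [trans_apply]
  have h' := congrArg (fun φ : (Scheme.Modules.pullback ((FSch.completionAlong X 𝓘).ι n)).obj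
      ((FSch.complMod 𝓘 F).F (n + 1)) ⟶ (FSch.complMod 𝓘 F).F n =>
    φ.app ⊤ (PBH8.cUV ((FSch.completionAlong X 𝓘).ι n)
      ((FSch.complMod 𝓘 F).F (n + 1)) (top_le_preimage_top _) x)) (complMod_e_hom 𝓘 F n)
  have e1 : PBH8.cUV ((FSch.completionAlong X 𝓘).ι n)
      ((FSch.complMod 𝓘 F).F (n + 1)) (top_le_preimage_top _) x =
      PBH8.cUV ((FSch.completionAlong X 𝓘).ι n)
        ((Scheme.Modules.pullback (FSch.completionToX X 𝓘 (n + 1))).obj F)
        (top_le_preimage_top _) x := rfl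
  refine h'.trans ?_
  beta_reduce
  rw [e1]
  rfl

end ComplGeneral

section HomDelta

variable {R : CommRingCat.{u}} (𝓘 : (Spec R).IdealSheafData) (M N : ModuleCat.{u} R)

/-- the transition map of `N^Δ` on canonical sections. -/
theorem trans_complMod_sec (n : ℕ) (y : N) :
    trans (FSch.complMod 𝓘 (tilde N)) n (sec (FSch.completionToX (Spec R) 𝓘 (n + 1)) N y) =
      sec (FSch.completionToX (Spec R) 𝓘 n) N y := by
  rw [trans_complMod_apply]
  exact pbIso_sec ((FSch.completionAlong (Spec R) 𝓘).ι n)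
    (FSch.completionToX (Spec R) 𝓘 (n + 1)) (FSch.completionToX (Spec R) 𝓘 n)
    (Scheme.IdealSheafData.inclusion_subschemeι (FSch.pow_succ_le (Spec R) 𝓘 n)) N y

/-- the canonical sections as an additive map. -/
noncomputable def secHom {Y : Scheme.{u}} (c : Y ⟶ Spec R) :
    N →+ Γ((Scheme.Modules.pullback c).obj (tilde N), ⊤) where
  toFun := sec c N
  map_zero' := sec_zero c N
  map_add' := sec_add c N

theorem secHom_apply {Y : Scheme.{u}} (c : Y ⟶ Spec R) (y : N) : secHom N c y = sec c N y := rfl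

/-- compatibility of a morphism `M^Δ ⟶ N^Δ` with the transition maps, on canonical sections. -/
theorem hom_trans_sec (Φ : FSch.complMod 𝓘 (tilde M) ⟶ FSch.complMod 𝓘 (tilde N)) (n : ℕ)
    (m : M) :
    trans (FSch.complMod 𝓘 (tilde N)) n
      (((Φ : FSch.ModSys.Hom _ _).app (n + 1)).app ⊤
        (sec (FSch.completionToX (Spec R) 𝓘 (n + 1)) M m)) =
    ((Φ : FSch.ModSys.Hom _ _).app n).app ⊤ (sec (FSch.completionToX (Spec R) 𝓘 n) M m) := by
  rw [trans_naturality, trans_complMod_sec]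

/-- **Morphisms `M^Δ ⟶ N^Δ`**: when the levels of the completion of `Spec R` along `𝓘` are affine
with rings `R/J^(n+1)` and `N` is `J`-adically complete, `u ↦ u^Δ` is a bijection from
`Hom_R(M, N)` onto the morphisms of systems `M^Δ ⟶ N^Δ`. -/
theorem bijective_complModMap (J : Ideal R)
    (hX : ∀ n, IsAffine ((FSch.completionAlong (Spec R) 𝓘).X n))
    (hsurj : ∀ n, Function.Surjective (rhoOf (FSch.completionToX (Spec R) 𝓘 n)))
    (hker : ∀ n, RingHom.ker (rhoOf (FSch.completionToX (Spec R) 𝓘 n)) = J ^ (n + 1))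
    [IsAdicComplete J N] :
    Function.Bijective (fun u : M ⟶ N =>
      FSch.complModMap 𝓘 ((tilde.functor R).map u)) := by
  have hs : ∀ n, Function.Surjective (secHom N (FSch.completionToX (Spec R) 𝓘 n)) := fun n => by
    haveI := hX n
    exact sec_surjective (FSch.completionToX (Spec R) 𝓘 n) N (hsurj n)
  have hk : ∀ n (y : N), secHom N (FSch.completionToX (Spec R) 𝓘 n) y = 0 ↔
      y ∈ (J ^ (n + 1)) • (⊤ : Submodule R N) := fun n y => by
    haveI := hX n
    rw [← hker n]
    exact sec_eq_zero_iff (FSch.completionToX (Spec R) 𝓘 n) N (hsurj n) y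
  constructor
  · intro u v huv
    apply ModuleCat.hom_ext
    apply LinearMap.ext
    intro m
    apply Groth.Agent.AdicLift.eq_of_forall_eq J
      (fun n => secHom N (FSch.completionToX (Spec R) 𝓘 n)) (fun n y => (hk n y).mp)
    intro n
    have h1 : (Scheme.Modules.pullback (FSch.completionToX (Spec R) 𝓘 n)).map
        ((tilde.functor R).map u) =
        (Scheme.Modules.pullback (FSch.completionToX (Spec R) 𝓘 n)).map
          ((tilde.functor R).map v) :=
      congrArg (fun Φ : FSch.ModSys.Hom (FSch.complMod 𝓘 (tilde M))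
        (FSch.complMod 𝓘 (tilde N)) => Φ.app n) huv
    show sec (FSch.completionToX (Spec R) 𝓘 n) N (u.hom m) =
      sec (FSch.completionToX (Spec R) 𝓘 n) N (v.hom m)
    rw [← map_sec, ← map_sec, h1]
  · intro Φ
    obtain ⟨u, hu⟩ := Groth.Agent.AdicLift.exists_linearMap_of_compat J
      (fun n => secHom N (FSch.completionToX (Spec R) 𝓘 n))
      (fun n => trans (FSch.complMod 𝓘 (tilde N)) n)
      (fun n y => trans_complMod_sec 𝓘 N n y) hs hk
      (fun n m => ((Φ : FSch.ModSys.Hom _ _).app n).app ⊤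
        (sec (FSch.completionToX (Spec R) 𝓘 n) M m))
      (fun n m => hom_trans_sec 𝓘 M N Φ n m)
      (fun n m m' => by rw [sec_add]; exact map_add _ _ _)
      (fun n a m y hy => by
        rw [secHom_apply] at hy ⊢
        rw [sec_smul, sec_smul, hy]
        exact (Scheme.Modules.Hom.app_smul _ _ _).symm)
    refine ⟨ModuleCat.ofHom u, ?_⟩
    apply FSch.ModSys.Hom.ext
    funext n
    apply hom_ext_sec (FSch.completionToX (Spec R) 𝓘 n) M
    intro m
    rw [FSch.complModMap_app]
    refine (map_sec (FSch.completionToX (Spec R) 𝓘 n) M (N := N) (ModuleCat.ofHom u) m).trans ?_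
    exact hu n m

end HomDelta

end Groth.Agent.FormalMod
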