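import Mathlib
import Groth.Prelude.Def_FSch5
import Groth.Agent.Lib.AdicLim2_helper5
import Groth.Agent.Lib.ThickAff5_helper6

/-!
# Affine adic formal systems are formal spectra (helper5)
APPEND-ONLY once landed.

`exists_spf`: an adic system of thickenings with `X 0` affine locally Noetherian and
`ker (X 0 → X 1)` of finite type is isomorphic to `FSch.spf A J` with `A` Noetherian and
`J`-adically complete (EGA I 10.6.3–10.6.5).
-/

set_option autoImplicit false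
universe u

open AlgebraicGeometry CategoryTheory

namespace Groth.Agent.FormalSys

section Iso

variable {𝔛 𝔜 : FSch.Sys.{u}}

/-- a morphism of systems which is an isomorphism at every level is an isomorphism. -/
theorem sys_isIso_of_app (f : 𝔛 ⟶ 𝔜) (h : ∀ n, IsIso ((f : FSch.Hom 𝔛 𝔜).app n)) :
    IsIso f := by
  let f' : FSch.Hom 𝔛 𝔜 := f
  let ψ : FSch.Hom 𝔜 𝔛 :=
    ⟨fun n => inv (f'.app n), fun n => by
      rw [IsIso.inv_comp_eq, ← Category.assoc, f'.comm n, Category.assoc, IsIso.hom_inv_id,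
        Category.comp_id]⟩
  refine ⟨⟨ψ, ?_, ?_⟩⟩
  · apply FSch.Hom.ext
    funext n
    exact IsIso.hom_inv_id (f'.app n)
  · apply FSch.Hom.ext
    funext n
    exact IsIso.inv_hom_id (f'.app n)

end Iso

section Tower

variable (𝔛 : FSch.Sys.{u})

theorem isAffine_level (hF : 𝔛.IsFormal) [IsAffine (𝔛.X 0)] (n : ℕ) : IsAffine (𝔛.X n) := by
  haveI := FSch.Sys.toX_isClosedImmersion 𝔛 hF n
  haveI : Surjective (𝔛.toX n) := ⟨FSch.Sys.toX_surjective 𝔛 hF n⟩
  exact Groth.Agent.Lib.ThickAffH6.isAffine_of_thickening (𝔛.toX n)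

/-- The rings of global sections of the levels. -/
abbrev R (n : ℕ) : Type u := Γ(𝔛.X n, ⊤)

/-- The transition maps on global sections. -/
noncomputable def φ (n : ℕ) : R 𝔛 (n + 1) →+* R 𝔛 n := (𝔛.ι n).appTop.hom

theorem toZero_eq (n : ℕ) : AdicLim.toZero (R 𝔛) (φ 𝔛) n = (𝔛.toX n).appTop.hom := by
  induction n with
  | zero =>
    show RingHom.id _ = (𝟙 (𝔛.X 0) : 𝔛.X 0 ⟶ 𝔛.X 0).appTop.hom
    rw [Scheme.Hom.id_appTop]
    rfl
  | succ n ih =>
    rw [AdicLim.toZero_succ, ih]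
    show _ = (𝔛.toX n ≫ 𝔛.ι n).appTop.hom
    rw [Scheme.Hom.comp_appTop]
    rfl

end Tower

section Main

variable (𝔛 : FSch.Sys.{u}) (hF : 𝔛.IsFormal)

include hF

theorem φ_surjective [∀ n, IsAffine (𝔛.X n)] (n : ℕ) : Function.Surjective (φ 𝔛 n) := by
  haveI := (hF n).1
  exact (IsClosedImmersion.isAffine_surjective_of_isAffine (𝔛.ι n)).2

theorem ker_φ [∀ n, IsAffine (𝔛.X n)] (n : ℕ) :
    RingHom.ker (φ 𝔛 n) = (𝔛.ι n).ker.ideal ⟨⊤, isAffineOpen_top _⟩ := by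
  haveI := (hF n).1
  rw [Scheme.Hom.ker_apply]
  rfl

theorem ker_toX [∀ n, IsAffine (𝔛.X n)] (n : ℕ) :
    RingHom.ker (𝔛.toX n).appTop.hom = (𝔛.toX n).ker.ideal ⟨⊤, isAffineOpen_top _⟩ := by
  haveI := FSch.Sys.toX_isClosedImmersion 𝔛 hF n
  rw [Scheme.Hom.ker_apply]
  rfl

theorem hadic (hA : 𝔛.IsAdic) [∀ n, IsAffine (𝔛.X n)] (n : ℕ) :
    RingHom.ker (φ 𝔛 n) = (RingHom.ker (AdicLim.toZero (R 𝔛) (φ 𝔛) (n + 1))) ^ (n + 1) := by
  rw [toZero_eq, ker_φ 𝔛 hF n, ker_toX 𝔛 hF (n + 1), hA n]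
  rfl

/-- **EGA I 10.6.3–10.6.5**: an adic system of thickenings of an affine locally Noetherian
scheme, with `ker (X 0 → X 1)` of finite type, is a formal spectrum `Spf A` with `A` Noetherian and
adically complete. -/
theorem exists_spf (hA : 𝔛.IsAdic) [IsAffine (𝔛.X 0)] [IsLocallyNoetherian (𝔛.X 0)]
    (hft : FSch.IdealFT (𝔛.ι 0).ker) :
    ∃ (A : Type u) (_ : CommRing A) (J : Ideal A),
      IsNoetherianRing A ∧ IsAdicComplete J A ∧ Nonempty (𝔛 ≅ FSch.spf A J) := by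
  haveI : ∀ n, IsAffine (𝔛.X n) := isAffine_level 𝔛 hF
  haveI : IsNoetherianRing (R 𝔛 0) :=
    IsLocallyNoetherian.component_noetherian ⟨⊤, isAffineOpen_top _⟩
  have hfg : (RingHom.ker (φ 𝔛 0)).FG := by
    rw [ker_φ 𝔛 hF 0]
    exact hft _
  obtain ⟨A, instA, J, hN, hC, e, he⟩ := AdicLim.exists_adic_ring (R 𝔛) (φ 𝔛)
    (φ_surjective 𝔛 hF) (hadic 𝔛 hF hA) hfg
  refine ⟨A, instA, J, hN, hC, ?_⟩
  let f : FSch.Hom 𝔛 (FSch.spf A J) :=
    ⟨fun n => (𝔛.X n).isoSpec.hom ≫ Spec.map (CommRingCat.ofHom (e n).toRingHom), fun n => by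
      show ((𝔛.X n).isoSpec.hom ≫ Spec.map (CommRingCat.ofHom (e n).toRingHom)) ≫
          Spec.map (CommRingCat.ofHom
            (Ideal.Quotient.factor (Ideal.pow_le_pow_right (Nat.le_succ (n + 1))))) =
        𝔛.ι n ≫ (𝔛.X (n + 1)).isoSpec.hom ≫
          Spec.map (CommRingCat.ofHom (e (n + 1)).toRingHom)
      rw [Scheme.isoSpec_hom, Scheme.isoSpec_hom, Scheme.toSpecΓ_naturality_assoc,
        Category.assoc, ← Spec.map_comp, ← Spec.map_comp]
      congr 2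
      ext x
      exact (congrArg (fun g => g x) (he n)).symm⟩
  let f' : 𝔛 ⟶ FSch.spf A J := f
  haveI : IsIso f' :=
    sys_isIso_of_app f' (fun n => by
      show IsIso ((𝔛.X n).isoSpec.hom ≫ Spec.map (CommRingCat.ofHom (e n).toRingHom))
      haveI : IsIso (CommRingCat.ofHom (e n).toRingHom) :=
        (e n).toCommRingCatIso.isIso_hom
      infer_instance)
  exact ⟨asIso f'⟩

end Main

end Groth.Agent.FormalSys
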