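import Mathlib

set_option autoImplicit false
universe u

namespace Groth.Agent.Lib.FourTerm_helper6

variable {B : Type u} [CommRing B]

/-- factor a linear map through a surjection whose kernel it kills -/
lemma exists_factor {M N P : Type u} [AddCommGroup M] [Module B M] [AddCommGroup N] [Module B N]
    [AddCommGroup P] [Module B P] (π : M →ₗ[B] N) (hπ : Function.Surjective π) (ψ : M →ₗ[B] P)
    (h : LinearMap.ker π ≤ LinearMap.ker ψ) : ∃ φ : N →ₗ[B] P, φ ∘ₗ π = ψ := by
  refine ⟨(LinearMap.ker π).liftQ ψ h ∘ₗ (π.quotKerEquivOfSurjective hπ).symm.toLinearMap,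
    LinearMap.ext fun x => ?_⟩
  have hx : (π.quotKerEquivOfSurjective hπ).symm (π x) = Submodule.Quotient.mk x := by
    rw [LinearEquiv.symm_apply_eq, LinearMap.quotKerEquivOfSurjective_apply_mk]
  change (LinearMap.ker π).liftQ ψ h ((π.quotKerEquivOfSurjective hπ).symm (π x)) = ψ x
  rw [hx]
  rfl

/-- if `h ρ h = s h` with `s ∈ S`, the localization of `coker h` is projective. -/
theorem projective_localized_coker {n m : ℕ} (S : Submonoid B)
    (h : (Fin n → B) →ₗ[B] (Fin m → B)) (ρ : (Fin m → B) →ₗ[B] (Fin n → B))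
    (s : B) (hs : s ∈ S) (hρ : h ∘ₗ ρ ∘ₗ h = s • h) :
    Module.Projective (Localization S)
      (LocalizedModule S ((Fin m → B) ⧸ LinearMap.range h)) := by
  let proj : (Fin m → B) →ₗ[B] ((Fin m → B) ⧸ LinearMap.range h) := (LinearMap.range h).mkQ
  let E : (Fin m → B) →ₗ[B] (Fin m → B) := s • LinearMap.id - h ∘ₗ ρ
  have hE : LinearMap.range h ≤ LinearMap.ker E := by
    rintro _ ⟨x, rfl⟩
    rw [LinearMap.mem_ker]
    have := LinearMap.congr_fun hρ x
    simp only [LinearMap.comp_apply, LinearMap.smul_apply] at this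
    simp only [E, LinearMap.sub_apply, LinearMap.smul_apply, LinearMap.id_apply,
      LinearMap.comp_apply]
    rw [this, sub_self]
  let Ebar : ((Fin m → B) ⧸ LinearMap.range h) →ₗ[B] (Fin m → B) :=
    (LinearMap.range h).liftQ E hE
  have h1 : ∀ y, proj (Ebar y) = s • y := by
    intro y
    obtain ⟨x, rfl⟩ := Submodule.Quotient.mk_surjective _ y
    change proj (E x) = s • Submodule.Quotient.mk x
    simp only [E, LinearMap.sub_apply, LinearMap.smul_apply, LinearMap.id_apply,
      LinearMap.comp_apply, map_sub, map_smul]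
    have h0 : proj (h (ρ x)) = 0 := (Submodule.Quotient.mk_eq_zero _).2 ⟨ρ x, rfl⟩
    rw [h0, sub_zero]
    rfl
  let i₀ := LocalizedModule.map S Ebar
  let p₀ := LocalizedModule.map S proj
  have hu : IsUnit (algebraMap B (Localization S) s) :=
    IsLocalization.map_units (Localization S) (⟨s, hs⟩ : S)
  have h2 : ∀ z, p₀ (i₀ z) = (algebraMap B (Localization S) s) • z := by
    intro z
    induction z using LocalizedModule.induction_on with
    | h y t =>
      simp only [i₀, p₀, LocalizedModule.map_mk, h1]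
      rw [algebraMap_smul, LocalizedModule.smul'_mk]
  refine Module.Projective.of_split ((↑hu.unit⁻¹ : Localization S) • i₀) p₀ ?_
  ext z
  simp only [LinearMap.comp_apply, LinearMap.smul_apply, map_smul, h2, LinearMap.id_apply]
  rw [smul_smul]
  rw [hu.val_inv_mul, one_smul]

/-- a finitely presented module whose localization is projective is `s`-projective. -/
theorem exists_smul_section {D : Type u} [AddCommGroup D] [Module B D]
    [Module.FinitePresentation B D] (S : Submonoid B)
    [Module.Projective (Localization S) (LocalizedModule S D)]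
    {n : ℕ} (π : (Fin n → B) →ₗ[B] D) (hπ : Function.Surjective π) :
    ∃ (j : D →ₗ[B] (Fin n → B)) (s : B), s ∈ S ∧ π ∘ₗ j = s • LinearMap.id := by
  let πq := LocalizedModule.map S π
  have hπq : Function.Surjective πq := LocalizedModule.map_surjective S π hπ
  obtain ⟨σq, hσq⟩ := Module.projective_lifting_property πq LinearMap.id hπq
  let g' : D →ₗ[B] LocalizedModule S (Fin n → B) :=
    (σq.restrictScalars B) ∘ₗ LocalizedModule.mkLinearMap S D
  obtain ⟨j₀, s₀, hj₀⟩ := Module.FinitePresentation.exists_lift_of_isLocalizedModule S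
    (LocalizedModule.mkLinearMap S (Fin n → B)) g'
  have hcomp : (LocalizedModule.mkLinearMap S D) ∘ₗ (π ∘ₗ j₀) =
      (LocalizedModule.mkLinearMap S D) ∘ₗ ((s₀ : B) • LinearMap.id) := by
    refine LinearMap.ext fun x => ?_
    have e1 : LocalizedModule.mkLinearMap S (Fin n → B) (j₀ x) = (s₀ : B) • σq (LocalizedModule.mkLinearMap S D x) :=
      LinearMap.congr_fun hj₀ x
    have e2 : πq (LocalizedModule.mkLinearMap S (Fin n → B) (j₀ x)) =
        LocalizedModule.mkLinearMap S D (π (j₀ x)) := by
      simp only [LocalizedModule.mkLinearMap_apply, πq, LocalizedModule.map_mk]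
    have e3 : πq (σq (LocalizedModule.mkLinearMap S D x)) = LocalizedModule.mkLinearMap S D x :=
      LinearMap.congr_fun hσq _
    change LocalizedModule.mkLinearMap S D (π (j₀ x)) =
      LocalizedModule.mkLinearMap S D ((s₀ : B) • x)
    rw [← e2, e1, ← algebraMap_smul (Localization S) (s₀ : B)
      (σq (LocalizedModule.mkLinearMap S D x)), map_smul, e3, algebraMap_smul]
    exact (map_smul _ _ _).symm
  obtain ⟨s₁, hs₁⟩ := Module.Finite.exists_smul_of_comp_eq_of_isLocalizedModule S
    (LocalizedModule.mkLinearMap S D) _ _ hcomp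
  refine ⟨(s₁ : B) • j₀, (s₁ : B) * (s₀ : B), S.mul_mem s₁.2 s₀.2, ?_⟩
  have : (s₁ : B) • (π ∘ₗ j₀) = (s₁ : B) • ((s₀ : B) • LinearMap.id) := hs₁
  rw [LinearMap.comp_smul, this, smul_smul]

/-- from an `s`-section of `π` to a regular inverse of `τ` (where `range τ = ker π`). -/
theorem exists_regular_inverse {D : Type u} [AddCommGroup D] [Module B D] {n m : ℕ}
    (π : (Fin n → B) →ₗ[B] D) (τ : (Fin m → B) →ₗ[B] (Fin n → B))
    (hex : LinearMap.range τ = LinearMap.ker π) (j : D →ₗ[B] (Fin n → B)) (s : B)
    (hj : π ∘ₗ j = s • LinearMap.id) :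
    ∃ l : (Fin n → B) →ₗ[B] (Fin m → B), τ ∘ₗ l ∘ₗ τ = s • τ := by
  let u : (Fin n → B) →ₗ[B] (Fin n → B) := s • LinearMap.id - j ∘ₗ π
  have hu : ∀ x, u x ∈ LinearMap.range τ := by
    intro x
    rw [hex, LinearMap.mem_ker]
    have := LinearMap.congr_fun hj (π x)
    simp only [LinearMap.comp_apply, LinearMap.smul_apply, LinearMap.id_apply] at this
    simp only [u, LinearMap.sub_apply, LinearMap.smul_apply, LinearMap.id_apply,
      LinearMap.comp_apply, map_sub, map_smul]
    rw [this, sub_self]
  obtain ⟨l, hl⟩ := Module.projective_lifting_property τ.rangeRestrict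
    (u.codRestrict (LinearMap.range τ) hu) τ.surjective_rangeRestrict
  have hl' : ∀ x, τ (l x) = u x := fun x => congrArg Subtype.val (LinearMap.congr_fun hl x)
  have hπτ : ∀ x, π (τ x) = 0 := fun x => by
    rw [← LinearMap.mem_ker, ← hex]
    exact ⟨x, rfl⟩
  refine ⟨l, LinearMap.ext fun x => ?_⟩
  simp only [LinearMap.comp_apply, LinearMap.smul_apply, hl']
  simp only [u, LinearMap.sub_apply, LinearMap.smul_apply, LinearMap.id_apply,
    LinearMap.comp_apply, hπτ, map_zero, sub_zero]

theorem main (B : Type u) [CommRing B] [IsNoetherianRing B]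
    (F : Type u) [AddCommGroup F] [Module B F] [Module.Finite B F] [Module.IsReflexive B F] :
    ∃ (n m : ℕ) (g : F →ₗ[B] (Fin n → B)) (h : (Fin n → B) →ₗ[B] (Fin m → B)),
      Function.Injective g ∧ Function.Exact g h ∧
      ∀ (S : Submonoid B), Module.Free (Localization S) (LocalizedModule S F) →
        Module.Projective (Localization S)
          (LocalizedModule S ((Fin m → B) ⧸ LinearMap.range h)) := by
  classical
  haveI : Module.FinitePresentation B F := Module.finitePresentation_of_finite B F
  haveI : Module.FinitePresentation B (Module.Dual B F) :=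
    Module.finitePresentation_of_finite B (Module.Dual B F)
  obtain ⟨n, π, hπ⟩ := Module.Finite.exists_fin' B (Module.Dual B F)
  haveI : Module.Finite B (LinearMap.ker π) := Module.Finite.iff_fg.2 (IsNoetherian.noetherian _)
  obtain ⟨m, σ, hσ⟩ := Module.Finite.exists_fin' B (LinearMap.ker π)
  let τ : (Fin m → B) →ₗ[B] (Fin n → B) := (LinearMap.ker π).subtype ∘ₗ σ
  have hex : LinearMap.range τ = LinearMap.ker π := by
    rw [LinearMap.range_comp, LinearMap.range_eq_top.2 hσ, Submodule.map_top,
      Submodule.range_subtype]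
  let en : (Fin n → B) ≃ₗ[B] Module.Dual B (Fin n → B) := (Pi.basisFun B (Fin n)).toDualEquiv
  let em : (Fin m → B) ≃ₗ[B] Module.Dual B (Fin m → B) := (Pi.basisFun B (Fin m)).toDualEquiv
  let ev : F ≃ₗ[B] Module.Dual B (Module.Dual B F) := Module.evalEquiv B F
  let g : F →ₗ[B] (Fin n → B) := en.symm.toLinearMap ∘ₗ π.dualMap ∘ₗ ev.toLinearMap
  let h : (Fin n → B) →ₗ[B] (Fin m → B) := em.symm.toLinearMap ∘ₗ τ.dualMap ∘ₗ en.toLinearMap
  have hπτ : π ∘ₗ τ = 0 := by
    refine LinearMap.ext fun x => ?_
    change π (τ x) = 0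
    rw [← LinearMap.mem_ker, ← hex]
    exact ⟨x, rfl⟩
  have hg : ∀ x, g x = en.symm (π.dualMap (ev x)) := fun x => rfl
  have hh : ∀ y, h y = em.symm (τ.dualMap (en y)) := fun y => rfl
  refine ⟨n, m, g, h, ?_, ?_, ?_⟩
  · intro x y hxy
    rw [hg, hg] at hxy
    exact ev.injective (LinearMap.dualMap_injective_of_surjective hπ (en.symm.injective hxy))
  · intro y
    constructor
    · intro hy
      rw [hh] at hy
      have h0 : τ.dualMap (en y) = 0 := em.symm.injective (by rw [map_zero]; exact hy)
      have hle : LinearMap.ker π ≤ LinearMap.ker (en y) := by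
        intro x hx
        rw [← hex] at hx
        obtain ⟨z, rfl⟩ := hx
        rw [LinearMap.mem_ker]
        have := LinearMap.congr_fun h0 z
        rwa [LinearMap.dualMap_apply] at this
      obtain ⟨φ, hφ⟩ := exists_factor π hπ (en y) hle
      refine ⟨ev.symm φ, ?_⟩
      rw [hg, ev.apply_symm_apply, LinearEquiv.symm_apply_eq, LinearMap.dualMap_apply']
      exact hφ
    · rintro ⟨x, rfl⟩
      rw [hh, hg, en.apply_symm_apply, LinearMap.dualMap_apply', LinearMap.dualMap_apply',
        LinearMap.comp_assoc, hπτ, LinearMap.comp_zero, map_zero]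
  · intro S hfree
    haveI := hfree
    haveI : Module.Projective (Localization S) (LocalizedModule S (Module.Dual B F)) := by
      let e₀ := Module.FinitePresentation.linearEquivMapExtendScalars S (M := F) (N := B)
      let e₁ := e₀.extendScalarsOfIsLocalization S (Localization S)
      exact Module.Projective.of_equiv e₁.symm
    obtain ⟨j, s, hs, hj⟩ := exists_smul_section S π hπ
    obtain ⟨l, hl⟩ := exists_regular_inverse π τ hex j s hj
    let ρ : (Fin m → B) →ₗ[B] (Fin n → B) :=
      en.symm.toLinearMap ∘ₗ l.dualMap ∘ₗ em.toLinearMap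
    have hρ : ∀ y, ρ y = en.symm (l.dualMap (em y)) := fun y => rfl
    refine projective_localized_coker S h ρ s hs (LinearMap.ext fun x => ?_)
    change h (ρ (h x)) = s • h x
    rw [hh, hρ, hh, en.apply_symm_apply, em.apply_symm_apply, ← map_smul]
    congr 1
    rw [LinearMap.dualMap_apply', LinearMap.dualMap_apply', LinearMap.dualMap_apply',
      LinearMap.comp_assoc, LinearMap.comp_assoc, hl, LinearMap.comp_smul]

end Groth.Agent.Lib.FourTerm_helper6
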