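import Mathlib

/-!
# Slicing a finite type algebra over a field down to dimension zero (helper3)

`exists_slice`: for a nontrivial Noetherian Jacobson ring `F` of finite Krull dimension which is an
`S`-algebra such that every element of `F` is a unit times an element coming from `S`, there is a
list `gs` of elements of `S` which is a weakly regular sequence on `F` and such that `F/(gs)F` is
nontrivial of Krull dimension `0`.
-/

set_option autoImplicit false
universe u

namespace Groth.Agent.Lib.QFCoverH3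

open RingTheory.Sequence Pointwise

/-- A Noetherian Jacobson ring of positive dimension has a nonunit nonzerodivisor. -/
theorem exists_nonunit_nonZeroDivisor (F : Type u) [CommRing F] [IsNoetherianRing F]
    [IsJacobsonRing F] (h : ¬ Ring.KrullDimLE 0 F) :
    ∃ g : F, g ∈ nonZeroDivisors F ∧ ¬ IsUnit g := by
  by_contra hcon
  push_neg at hcon
  apply h
  rw [Ring.krullDimLE_zero_iff]
  have fin := associatedPrimes.finite F F
  have hmax : ∀ m : Ideal F, m.IsMaximal → m ∈ associatedPrimes F F := by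
    intro m hm
    obtain ⟨P, hP⟩ := (m.subset_union_prime_finite fin (f := id) 0 0
      fun _ h _ _ ↦ h.isPrime).1 (by
      simp_rw [id, biUnion_associatedPrimes_eq_compl_nonZeroDivisors]
      exact fun x hx h ↦ hm.ne_top (m.eq_top_of_isUnit_mem hx (hcon x h)))
    exact hm.eq_of_le hP.1.isPrime.ne_top hP.2 ▸ hP.1
  intro P hP
  have hjac : P.jacobson = P := IsJacobsonRing.out' P hP.isRadical
  have hT : {J : Ideal F | P ≤ J ∧ J.IsMaximal}.Finite :=
    fin.subset fun J hJ => hmax J hJ.2
  have h1 : hT.toFinset.inf id ≤ P := by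
    rw [Finset.inf_id_eq_sInf, Set.Finite.coe_toFinset]
    exact hjac.le
  obtain ⟨J, hJ, hJP⟩ := (Ideal.IsPrime.inf_le' hP).1 h1
  rw [Set.Finite.mem_toFinset] at hJ
  have : J = P := le_antisymm hJP hJ.1
  rw [← this]
  exact hJ.2

/-- Transfer of the conclusion along the double quotient isomorphism. -/
theorem transfer {F : Type u} [CommRing F] (I J K : Ideal F) (K' : Ideal (F ⧸ I))
    (hK : K = I ⊔ J) (hK' : K' = J.map (Ideal.Quotient.mk I))
    (h : Nontrivial ((F ⧸ I) ⧸ K') ∧ Ring.KrullDimLE 0 ((F ⧸ I) ⧸ K')) :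
    Nontrivial (F ⧸ K) ∧ Ring.KrullDimLE 0 (F ⧸ K) := by
  subst hK hK'
  obtain ⟨h1, h2⟩ := h
  let e := DoubleQuot.quotQuotEquivQuotSup I J
  refine ⟨e.symm.toEquiv.nontrivial, ?_⟩
  rw [Ring.krullDimLE_iff] at h2 ⊢
  rwa [← ringKrullDim_eq_of_ringEquiv e]

theorem base (S : Type u) [CommRing S] (F : Type u) [CommRing F] [Nontrivial F] [Algebra S F]
    (h0 : Ring.KrullDimLE 0 F) :
    ∃ gs : List S, IsWeaklyRegular F gs ∧
      Nontrivial (F ⧸ (Ideal.ofList gs).map (algebraMap S F)) ∧
      Ring.KrullDimLE 0 (F ⧸ (Ideal.ofList gs).map (algebraMap S F)) := by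
  refine ⟨[], IsWeaklyRegular.nil S F, ?_, ?_⟩
  · rw [Ideal.ofList_nil, Ideal.map_bot, Ideal.Quotient.nontrivial_iff]
    exact bot_ne_top
  · rw [Ring.krullDimLE_iff] at h0 ⊢
    exact le_trans (ringKrullDim_quotient_le _) h0

theorem exists_slice (S : Type u) [CommRing S] :
    ∀ (n : ℕ) (F : Type u) [CommRing F] [IsNoetherianRing F] [IsJacobsonRing F] [Nontrivial F]
      [Algebra S F],
      ringKrullDim F ≤ n →
      (∀ x : F, ∃ s : S, ∃ u : F, IsUnit u ∧ x = u * algebraMap S F s) →
      ∃ gs : List S, IsWeaklyRegular F gs ∧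
        Nontrivial (F ⧸ (Ideal.ofList gs).map (algebraMap S F)) ∧
        Ring.KrullDimLE 0 (F ⧸ (Ideal.ofList gs).map (algebraMap S F)) := by
  intro n
  induction n with
  | zero =>
    intro F _ _ _ _ _ hdim _
    refine base S F ?_
    rw [Ring.krullDimLE_iff]
    exact hdim
  | succ n ih =>
    intro F _ _ _ _ _ hdim hunit
    by_cases h0 : Ring.KrullDimLE 0 F
    · exact base S F h0
    obtain ⟨g₀, hg₀, hg₀u⟩ := exists_nonunit_nonZeroDivisor F h0
    obtain ⟨s, u, hu, hg₀s⟩ := hunit g₀
    set a : F := algebraMap S F s with ha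
    have hanzd : a ∈ nonZeroDivisors F := by
      rw [hg₀s, mul_mem_nonZeroDivisors] at hg₀
      exact hg₀.2
    have hau : ¬ IsUnit a := fun h => hg₀u (by rw [hg₀s]; exact hu.mul h)
    set I : Ideal F := Ideal.span {a} with hI
    have hItop : I ≠ ⊤ := by
      rw [hI, Ne, Ideal.span_singleton_eq_top]
      exact hau
    haveI : Nontrivial (F ⧸ I) := Ideal.Quotient.nontrivial_iff.mpr hItop
    have hdim' : ringKrullDim (F ⧸ I) ≤ n := by
      have h1 := ringKrullDim_quotient_succ_le_of_nonZeroDivisor hanzd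
      have h2 : ringKrullDim (F ⧸ I) + 1 ≤ ((n : ℕ) : WithBot ℕ∞) + 1 := by
        refine le_trans h1 (le_trans hdim ?_)
        push_cast
        exact le_rfl
      generalize ringKrullDim (F ⧸ I) = d at h2
      induction d using WithBot.recBotCoe with
      | bot => exact bot_le
      | coe d =>
        have h3 : ((d + 1 : ℕ∞) : WithBot ℕ∞) ≤ ((n + 1 : ℕ∞) : WithBot ℕ∞) := by
          exact_mod_cast h2
        rw [WithBot.coe_le_coe] at h3
        have h4 : d ≤ (n : ℕ∞) := by
          rwa [ENat.add_le_add_iff_right ENat.one_ne_top] at h3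
        exact_mod_cast h4
    have hunit' : ∀ x : F ⧸ I, ∃ s : S, ∃ u : F ⧸ I, IsUnit u ∧
        x = u * algebraMap S (F ⧸ I) s := by
      intro x
      obtain ⟨x, rfl⟩ := Ideal.Quotient.mk_surjective x
      obtain ⟨s', u', hu', hx⟩ := hunit x
      refine ⟨s', Ideal.Quotient.mk I u', hu'.map _, ?_⟩
      rw [hx, map_mul]
      rfl
    obtain ⟨gs', hreg', hnt', hdim0'⟩ := ih (F ⧸ I) hdim' hunit'
    refine ⟨s :: gs', ?_, ?_⟩
    · rw [isWeaklyRegular_cons_iff]
      refine ⟨?_, ?_⟩
      · intro x y hxy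
        simp only [Algebra.smul_def] at hxy
        exact (mul_cancel_left_mem_nonZeroDivisors hanzd).mp hxy
      · have heq : (s • ⊤ : Submodule S F) = I.restrictScalars S := by
          ext x
          rw [Submodule.mem_smul_pointwise_iff_exists, Submodule.restrictScalars_mem, hI,
            Ideal.mem_span_singleton']
          constructor
          · rintro ⟨y, -, rfl⟩
            exact ⟨y, by rw [Algebra.smul_def, mul_comm]⟩
          · rintro ⟨y, rfl⟩
            exact ⟨y, trivial, by rw [Algebra.smul_def, mul_comm]⟩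
        let e : QuotSMulTop s F ≃ₗ[S] F ⧸ I :=
          (Submodule.quotEquivOfEq _ _ heq) ≪≫ₗ (Submodule.Quotient.restrictScalarsEquiv S I)
        exact (LinearEquiv.isWeaklyRegular_congr e gs').mpr hreg'
    · refine transfer I ((Ideal.ofList gs').map (algebraMap S F)) _
        ((Ideal.ofList gs').map (algebraMap S (F ⧸ I))) ?_ ?_ ⟨hnt', hdim0'⟩
      · rw [Ideal.ofList_cons, Ideal.map_sup, Ideal.map_span, Set.image_singleton]
      · rw [Ideal.map_map]
        rfl

end Groth.Agent.Lib.QFCoverH3
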