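import Mathlib
import Groth.Agent.Lib.QFCover1_helper3

/-!
# Slicing the fibre of a finite type algebra at a prime (helper3)

For a finite type `R`-algebra `S` and a prime `p` of `R` with nonzero fibre, `exists_local_slice`
produces a prime `q` of `S` over `p` and a list `gs ⊆ q` which is a regular sequence on the
localization at `q` of the fibre `S ⊗[R] κ(p)` and such that the fibre of `S/(gs)` over `p` is
Artinian.
-/

set_option autoImplicit false
universe u

namespace Groth.Agent.Lib.QFCoverH3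

open TensorProduct RingTheory.Sequence

section Fibre

variable {R S : Type u} [CommRing R] [CommRing S] [Algebra R S] (p : Ideal R) [p.IsPrime]

theorem fibre_unit_mul (x : S ⊗[R] p.ResidueField) :
    ∃ s : S, ∃ u : S ⊗[R] p.ResidueField, IsUnit u ∧
      x = u * algebraMap S (S ⊗[R] p.ResidueField) s := by
  have key : ∃ t : R, t ∉ p ∧ ∃ s : S,
      x * ((1 : S) ⊗ₜ[R] algebraMap R p.ResidueField t) = s ⊗ₜ[R] 1 := by
    induction x using TensorProduct.induction_on with
    | zero =>
      exact ⟨1, fun h => (inferInstance : p.IsPrime).ne_top ((Ideal.eq_top_iff_one _).2 h), 0,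
        by rw [zero_mul, TensorProduct.zero_tmul]⟩
    | tmul s a =>
      obtain ⟨x, y, hy, rfl⟩ := IsFractionRing.div_surjective (A := R ⧸ p) a
      obtain ⟨r, rfl⟩ := Ideal.Quotient.mk_surjective x
      obtain ⟨t, rfl⟩ := Ideal.Quotient.mk_surjective y
      have ht0 : algebraMap (R ⧸ p) p.ResidueField (Ideal.Quotient.mk p t) ≠ 0 := by
        intro h
        have := (IsFractionRing.injective (R ⧸ p) p.ResidueField) (h.trans (map_zero _).symm)
        exact nonZeroDivisors.ne_zero hy this
      have ht : t ∉ p := by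
        intro h
        apply ht0
        rw [Ideal.Quotient.eq_zero_iff_mem.mpr h, map_zero]
      have e1 : ∀ r : R, algebraMap (R ⧸ p) p.ResidueField (Ideal.Quotient.mk p r) =
          algebraMap R p.ResidueField r := fun r =>
        (IsScalarTower.algebraMap_apply R (R ⧸ p) p.ResidueField r).symm
      refine ⟨t, ht, r • s, ?_⟩
      rw [Algebra.TensorProduct.tmul_mul_tmul, mul_one, ← e1 t, div_mul_cancel₀ _ ht0, e1,
        Algebra.algebraMap_eq_smul_one, TensorProduct.smul_tmul]
    | add x y hx hy =>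
      obtain ⟨t₁, ht₁, s₁, h₁⟩ := hx
      obtain ⟨t₂, ht₂, s₂, h₂⟩ := hy
      refine ⟨t₁ * t₂, fun h => ((inferInstance : p.IsPrime).mem_or_mem h).elim ht₁ ht₂,
        t₂ • s₁ + t₁ • s₂, ?_⟩
      have e : ((1 : S) ⊗ₜ[R] algebraMap R p.ResidueField (t₁ * t₂)) =
          ((1 : S) ⊗ₜ[R] algebraMap R p.ResidueField t₁) *
            ((1 : S) ⊗ₜ[R] algebraMap R p.ResidueField t₂) := by
        rw [Algebra.TensorProduct.tmul_mul_tmul, mul_one, map_mul]
      have e2 : ∀ (s : S) (t : R), (s ⊗ₜ[R] (1 : p.ResidueField)) *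
          ((1 : S) ⊗ₜ[R] algebraMap R p.ResidueField t) = (t • s) ⊗ₜ[R] 1 := by
        intro s t
        rw [Algebra.TensorProduct.tmul_mul_tmul, mul_one, one_mul,
          Algebra.algebraMap_eq_smul_one, TensorProduct.smul_tmul]
      have e3 : (x + y) * (((1 : S) ⊗ₜ[R] algebraMap R p.ResidueField t₁) *
            ((1 : S) ⊗ₜ[R] algebraMap R p.ResidueField t₂)) =
          (x * ((1 : S) ⊗ₜ[R] algebraMap R p.ResidueField t₁)) *
            ((1 : S) ⊗ₜ[R] algebraMap R p.ResidueField t₂) +
          (y * ((1 : S) ⊗ₜ[R] algebraMap R p.ResidueField t₂)) *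
            ((1 : S) ⊗ₜ[R] algebraMap R p.ResidueField t₁) := by ring
      rw [e, e3, h₁, h₂, e2, e2, TensorProduct.add_tmul]
  obtain ⟨t, ht, s, hts⟩ := key
  have ht0 : algebraMap R p.ResidueField t ≠ 0 := by
    rw [Ne, Ideal.algebraMap_residueField_eq_zero]
    exact ht
  have hw : IsUnit ((1 : S) ⊗ₜ[R] algebraMap R p.ResidueField t) :=
    (IsUnit.mk0 _ ht0).map (Algebra.TensorProduct.includeRight : p.ResidueField →ₐ[R]
      S ⊗[R] p.ResidueField)
  refine ⟨s, ↑(hw.unit⁻¹), Units.isUnit _, ?_⟩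
  have h1 : algebraMap S (S ⊗[R] p.ResidueField) s = s ⊗ₜ[R] 1 := by
    rw [Algebra.TensorProduct.algebraMap_apply]
    rfl
  rw [h1, ← hts, mul_comm x, ← mul_assoc]
  have h2 : (↑(hw.unit⁻¹) : S ⊗[R] p.ResidueField) *
      ((1 : S) ⊗ₜ[R] algebraMap R p.ResidueField t) = 1 := by
    have := Units.inv_mul hw.unit
    simpa using this
  rw [h2, one_mul]

theorem fibre_props [Algebra.FiniteType R S] :
    IsNoetherianRing (S ⊗[R] p.ResidueField) ∧ IsJacobsonRing (S ⊗[R] p.ResidueField) ∧
      ∃ n : ℕ, ringKrullDim (S ⊗[R] p.ResidueField) ≤ n := by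
  let e : S ⊗[R] p.ResidueField ≃ₐ[R] p.ResidueField ⊗[R] S :=
    Algebra.TensorProduct.comm R S _
  haveI : IsNoetherianRing (p.ResidueField ⊗[R] S) :=
    Algebra.FiniteType.isNoetherianRing p.ResidueField _
  haveI : IsJacobsonRing (p.ResidueField ⊗[R] S) :=
    isJacobsonRing_of_finiteType (A := p.ResidueField)
  refine ⟨isNoetherianRing_of_ringEquiv _ e.symm.toRingEquiv,
    isJacobsonRing_of_surjective ⟨e.symm.toRingEquiv.toRingHom, e.symm.surjective⟩, ?_⟩
  obtain ⟨ι, hι, f, hf⟩ := Algebra.FiniteType.iff_quotient_mvPolynomial'.mp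
    (inferInstance : Algebra.FiniteType p.ResidueField (p.ResidueField ⊗[R] S))
  refine ⟨Nat.card ι, ?_⟩
  rw [ringKrullDim_eq_of_ringEquiv e.toRingEquiv]
  refine le_trans (ringKrullDim_le_of_surjective f.toRingHom hf) ?_
  rw [MvPolynomial.ringKrullDim_of_isNoetherianRing, ringKrullDim_eq_zero_of_field, zero_add]

theorem comap_algebraMap_eq (Q : Ideal (S ⊗[R] p.ResidueField)) [Q.IsPrime] :
    (Q.comap (algebraMap S (S ⊗[R] p.ResidueField))).comap (algebraMap R S) = p := by
  rw [Ideal.comap_comap, ← IsScalarTower.algebraMap_eq R S (S ⊗[R] p.ResidueField)]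
  have h1 : algebraMap R (S ⊗[R] p.ResidueField) =
      (Algebra.TensorProduct.includeRight : p.ResidueField →ₐ[R]
        S ⊗[R] p.ResidueField).toRingHom.comp (algebraMap R p.ResidueField) :=
    RingHom.ext fun r => ((Algebra.TensorProduct.includeRight : p.ResidueField →ₐ[R]
        S ⊗[R] p.ResidueField).commutes r).symm
  rw [h1, ← Ideal.comap_comap]
  have h2 : Q.comap (Algebra.TensorProduct.includeRight : p.ResidueField →ₐ[R]
        S ⊗[R] p.ResidueField).toRingHom = ⊥ :=
    Ideal.eq_bot_of_prime _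
  rw [h2, ← RingHom.ker_eq_comap_bot, Ideal.ker_algebraMap_residueField]

theorem exists_local_slice [Algebra.FiniteType R S]
    (hnt : Nontrivial (S ⊗[R] p.ResidueField)) :
    ∃ (q : Ideal S) (_ : q.IsPrime) (gs : List S), q.comap (algebraMap R S) = p ∧
      (∀ g ∈ gs, g ∈ q) ∧
      IsRegular (LocalizedModule q.primeCompl (S ⊗[R] p.ResidueField)) gs ∧
      IsArtinianRing (p.Fiber (S ⧸ Ideal.ofList gs)) := by
  obtain ⟨hN, hJ, n, hn⟩ := fibre_props (S := S) p
  haveI := hN
  haveI := hJ
  obtain ⟨gs, hreg, hnt', hdim⟩ :=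
    exists_slice S n (S ⊗[R] p.ResidueField) hn (fibre_unit_mul p)
  set F := S ⊗[R] p.ResidueField with hF
  set K : Ideal F := (Ideal.ofList gs).map (algebraMap S F) with hK
  have hKtop : K ≠ ⊤ := Ideal.Quotient.nontrivial_iff.mp hnt'
  obtain ⟨Q, hQmax, hKQ⟩ := Ideal.exists_le_maximal K hKtop
  haveI := hQmax.isPrime
  set q : Ideal S := Q.comap (algebraMap S F) with hq
  have hgq : ∀ g ∈ gs, g ∈ q := fun g hg =>
    hKQ (Ideal.mem_map_of_mem _ (Ideal.subset_span hg))
  refine ⟨q, inferInstance, gs, comap_algebraMap_eq p Q, hgq, ⟨?_, ?_⟩, ?_⟩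
  · have h1 := IsWeaklyRegular.of_isLocalizedModule (Localization q.primeCompl) q.primeCompl
      (LocalizedModule.mkLinearMap q.primeCompl F) hreg
    exact (isWeaklyRegular_map_algebraMap_iff (Localization q.primeCompl) _ gs).mp h1
  · -- the quotient is nontrivial
    intro htop
    let ψ : F →ₗ[S] F ⧸ K := (Ideal.Quotient.mkₐ S K).toLinearMap
    let φ : LocalizedModule q.primeCompl F →ₗ[S] LocalizedModule q.primeCompl (F ⧸ K) :=
      IsLocalizedModule.map q.primeCompl (LocalizedModule.mkLinearMap q.primeCompl F)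
        (LocalizedModule.mkLinearMap q.primeCompl (F ⧸ K)) ψ
    have hkill : ∀ r ∈ Ideal.ofList gs, ∀ y : LocalizedModule q.primeCompl (F ⧸ K),
        r • y = 0 := by
      intro r hr y
      induction y using LocalizedModule.induction_on with
      | h m t =>
        rw [LocalizedModule.smul'_mk]
        have : r • m = 0 := by
          obtain ⟨m, rfl⟩ := Ideal.Quotient.mk_surjective m
          have h2 : r • (Ideal.Quotient.mk K m) = Ideal.Quotient.mk K (r • m) := rfl
          rw [h2, Ideal.Quotient.eq_zero_iff_mem, Algebra.smul_def]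
          exact K.mul_mem_right _ (Ideal.mem_map_of_mem _ hr)
        rw [this, LocalizedModule.zero_mk]
    have hφ0 : ∀ x : LocalizedModule q.primeCompl F, φ x = 0 := by
      intro x
      have hx : x ∈ (Ideal.ofList gs • ⊤ : Submodule S (LocalizedModule q.primeCompl F)) := by
        rw [← htop]; trivial
      refine Submodule.smul_induction_on hx ?_ ?_
      · intro r hr y _
        rw [map_smul]
        exact hkill r hr _
      · intro x y hx hy
        rw [map_add, hx, hy, add_zero]
    have h1 := hφ0 (LocalizedModule.mkLinearMap q.primeCompl F 1)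
    rw [IsLocalizedModule.map_apply] at h1
    have h2 : LocalizedModule.mk (ψ 1) (1 : q.primeCompl) = 0 := h1
    rw [← LocalizedModule.zero_mk (1 : q.primeCompl), LocalizedModule.mk_eq] at h2
    obtain ⟨t, ht⟩ := h2
    simp only [smul_zero, one_smul] at ht
    have h3 : algebraMap S F (t : S) ∈ K := by
      have h4 : (t : S) • ψ 1 = 0 := ht
      have h5 : (t : S) • ψ 1 = Ideal.Quotient.mk K ((t : S) • (1 : F)) := rfl
      rw [h5, Ideal.Quotient.eq_zero_iff_mem, Algebra.smul_def, mul_one] at h4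
      exact h4
    exact t.2 (hKQ h3)
  · haveI : Ring.KrullDimLE 0 (F ⧸ K) := hdim
    haveI : IsArtinianRing (F ⧸ K) := isArtinianRing_iff_krullDimLE_zero.mpr inferInstance
    let e₁ : p.ResidueField ⊗[R] (S ⧸ Ideal.ofList gs) ≃ₐ[R]
        (S ⧸ Ideal.ofList gs) ⊗[R] p.ResidueField := Algebra.TensorProduct.comm R _ _
    let e₂ : (S ⧸ Ideal.ofList gs) ⊗[R] p.ResidueField ≃ₐ[S] F ⧸ K :=
      Algebra.TensorProduct.quotientTensorEquiv (R := R) S p.ResidueField S (Ideal.ofList gs)
    exact (e₁.toRingEquiv.trans e₂.toRingEquiv).symm.isArtinianRing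

end Fibre

end Groth.Agent.Lib.QFCoverH3
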