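import Mathlib
import Groth.Agent.Lib.QFCover2_helper3
import Groth.Agent.Lib.RegFib2_helper8
import Groth.Agent.Lib.FlatLocFP1_helper6
import Groth.Agent.Lib.GenFreeG_helper8
import Groth.Agent.S0387

/-!
# A quasi-finite flat finitely presented slice through a point of the fibre (helper3)

`exists_local_piece`: for a flat finitely presented `R`-algebra `S` and a prime `p` of `R` with
nonzero fibre there is a flat, finitely presented, quasi-finite `R`-algebra `T` with an `R`-algebra
map `S → T` and a prime of `T` lying over `p`.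
-/

set_option autoImplicit false
universe u

namespace Groth.Agent.Lib.QFCoverH3

open TensorProduct RingTheory.Sequence

section Local

variable {R : Type u} [CommRing R]

/-- Flatness of a principal localization from pointwise flatness on `D(h)`. -/
theorem flat_away_of_forall {T₀ : Type u} [CommRing T₀] [Algebra R T₀] (h : T₀)
    (H : ∀ Q : PrimeSpectrum T₀, h ∉ Q.asIdeal →
      Module.Flat R (LocalizedModule Q.asIdeal.primeCompl T₀)) :
    Module.Flat R (Localization.Away h) := by
  have h1 : Module.Flat R (LocalizedModule (Submonoid.powers h) T₀) := by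
    rw [Groth.Agent.Lib.FlatLocFP1H6.flat_localizedModule_iff]
    intro I ξ hξ
    let ann : Ideal T₀ := LinearMap.ker (LinearMap.toSpanSingleton T₀ (T₀ ⊗[R] I) ξ)
    have hmem : h ∈ ann.radical := by
      rw [Ideal.radical_eq_sInf, Ideal.mem_sInf]
      rintro Q ⟨hQ, hQp⟩
      by_contra hh
      obtain ⟨t, ht, ht0⟩ := (Groth.Agent.Lib.FlatLocFP1H6.flat_localizedModule_iff
        Q.primeCompl T₀).mp (H ⟨Q, hQp⟩ hh) I ξ hξ
      refine ht (hQ ?_)
      show LinearMap.toSpanSingleton T₀ (T₀ ⊗[R] I) ξ t = 0
      rw [LinearMap.toSpanSingleton_apply]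
      exact ht0
    obtain ⟨n, hn⟩ := hmem
    refine ⟨h ^ n, ⟨n, rfl⟩, ?_⟩
    have : LinearMap.toSpanSingleton T₀ (T₀ ⊗[R] I) ξ (h ^ n) = 0 := hn
    rwa [LinearMap.toSpanSingleton_apply] at this
  exact (Groth.Agent.Lib.FlatLocFP1H6.flat_iff_of_isLocalizedModule (A := R)
    (Submonoid.powers h) (Algebra.linearMap T₀ (Localization.Away h))).mpr h1

variable {S : Type u} [CommRing S] [Algebra R S]

set_option backward.isDefEq.respectTransparency false in
theorem exists_local_piece [Algebra.FinitePresentation R S] [Module.Flat R S] (p : Ideal R)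
    [p.IsPrime] (hnt : Nontrivial (S ⊗[R] p.ResidueField)) :
    ∃ (T : Type u) (_ : CommRing T) (_ : Algebra R T), Algebra.FinitePresentation R T ∧
      Module.Flat R T ∧ Algebra.QuasiFinite R T ∧ Nonempty (S →ₐ[R] T) ∧
      ∃ Q : Ideal T, Q.IsPrime ∧ Q.comap (algebraMap R T) = p := by
  obtain ⟨q, hqp, gs, hq, hgq, hreg, hart⟩ := exists_local_slice (S := S) p hnt
  subst hq
  haveI := hqp
  -- flatness at `q` of the quotient
  have hflatS : Module.Flat R (LocalizedModule q.primeCompl S) :=
    GenFreeH8.flat_of_isLocalizedModule_algebra q.primeCompl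
      (LocalizedModule.mkLinearMap q.primeCompl S)
  obtain ⟨-, hfl⟩ := Groth.Agent.Lib.RegFibH8.main (A := R) (B := S) S q gs hgq hflatS hreg
  have hfl' := hfl gs.length le_rfl
  rw [List.take_length] at hfl'
  set J : Ideal S := Ideal.ofList gs with hJ
  have hJq : J ≤ q := Ideal.span_le.mpr hgq
  have hJfg : J.FG := Submodule.fg_span (List.finite_toSet gs)
  have hsub : (Ideal.span {b | b ∈ gs} • (⊤ : Submodule S S)) = J := by
    show (Ideal.span {b | b ∈ gs}) • (⊤ : Ideal S) = J
    rw [smul_eq_mul, Ideal.mul_top]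
  have hfl2 : Module.Flat R (LocalizedModule q.primeCompl (S ⧸ J)) :=
    Groth.Agent.Lib.FlatLocFP1H6.flat_localizedModule_of_linearEquiv q.primeCompl
      (Submodule.quotEquivOfEq _ _ hsub) hfl'
  -- the quotient ring
  haveI : Algebra.FinitePresentation R (S ⧸ J) := Algebra.FinitePresentation.quotient hJfg
  have hsurj : Function.Surjective (algebraMap S (S ⧸ J)) := Ideal.Quotient.mk_surjective
  have hker : RingHom.ker (algebraMap S (S ⧸ J)) ≤ q := by
    rw [Ideal.Quotient.algebraMap_eq, Ideal.mk_ker]; exact hJq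
  set qb : Ideal (S ⧸ J) := q.map (algebraMap S (S ⧸ J)) with hqb
  haveI hqbp : qb.IsPrime := Ideal.map_isPrime_of_surjective hsurj hker
  have hqbcomap : qb.comap (algebraMap S (S ⧸ J)) = q := by
    rw [hqb, Ideal.comap_map_of_surjective _ hsurj, ← RingHom.ker_eq_comap_bot]
    exact sup_eq_left.mpr hker
  have hfl3 : Module.Flat R (LocalizedModule qb.primeCompl (S ⧸ J)) := by
    have key : ∀ (q' : Ideal S) [q'.IsPrime], q' = q →
        Module.Flat R (LocalizedModule q'.primeCompl (S ⧸ J)) := by
      rintro q' _ rfl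
      exact hfl2
    exact (Groth.Agent.Lib.FlatLocFP1H6.flat_localized_comap_iff (R := R) (P := S)
      (S := S ⧸ J) (S ⧸ J) hsurj qb).mp (key _ hqbcomap)
  -- quasi-finiteness at `qb`
  haveI hqf : Algebra.QuasiFiniteAt R qb := by
    let qs : PrimeSpectrum (S ⧸ J) := ⟨qb, hqbp⟩
    have hP : (qs.comap (algebraMap R (S ⧸ J))).asIdeal = q.comap (algebraMap R S) := by
      show qb.comap (algebraMap R (S ⧸ J)) = _
      rw [IsScalarTower.algebraMap_eq R S (S ⧸ J), ← Ideal.comap_comap, hqbcomap]
    have key : ∀ P : PrimeSpectrum R, P.asIdeal = q.comap (algebraMap R S) →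
        DiscreteTopology (PrimeSpectrum.comap (algebraMap R (S ⧸ J)) ⁻¹' {P}) := by
      rintro ⟨P, hP'⟩ h
      simp only at h
      subst h
      haveI : IsArtinianRing (Ideal.Fiber (q.comap (algebraMap R S)) (S ⧸ J)) := hart
      exact (PrimeSpectrum.preimageHomeomorphFiber R (S ⧸ J) _).symm.discreteTopology
    haveI := key _ hP
    exact Algebra.QuasiFiniteAt.of_isOpen_singleton_fiber qs (isOpen_discrete _)
  -- open flat locus
  have hopen := Groth.Agent.S0387.result (R := R) (S := S ⧸ J) (M := S ⧸ J)
  obtain ⟨_, ⟨_, ⟨h, rfl⟩, rfl⟩, hqh, hsubU⟩ := PrimeSpectrum.isBasis_basic_opens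
    |>.exists_subset_of_mem_open (a := (⟨qb, hqbp⟩ : PrimeSpectrum (S ⧸ J))) (ou := hopen) hfl3
  have hhq : h ∉ qb := hqh
  haveI hflat1 : Module.Flat R (Localization.Away h) :=
    flat_away_of_forall h fun Q hQ => hsubU hQ
  haveI : Algebra.FinitePresentation (S ⧸ J) (Localization.Away h) :=
    IsLocalization.Away.finitePresentation h
  haveI : Algebra.FinitePresentation R (Localization.Away h) :=
    Algebra.FinitePresentation.trans R (S ⧸ J) (Localization.Away h)
  have hdisj : Disjoint (Submonoid.powers h : Set (S ⧸ J)) qb :=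
    (Ideal.disjoint_powers_iff_notMem_of_isPrime h).mpr hhq
  set q₁ : Ideal (Localization.Away h) := qb.map (algebraMap (S ⧸ J) (Localization.Away h))
    with hq₁
  haveI hq₁p : q₁.IsPrime :=
    IsLocalization.isPrime_of_isPrime_disjoint (Submonoid.powers h) _ qb hqbp hdisj
  have hq₁comap : q₁.comap (algebraMap (S ⧸ J) (Localization.Away h)) = qb :=
    IsLocalization.comap_map_of_isPrime_disjoint (Submonoid.powers h) _ hqbp hdisj
  haveI : Algebra.QuasiFiniteAt R q₁ :=
    Algebra.QuasiFiniteAt.of_surjectiveOnStalks qb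
      (IsScalarTower.toAlgHom R (S ⧸ J) (Localization.Away h))
      (RingHom.surjectiveOnStalks_of_isLocalization (Submonoid.powers h) _) q₁ hq₁comap.symm
  obtain ⟨S', hS', r, hrq, Hbij⟩ :=
    Algebra.QuasiFiniteAt.exists_fg_and_exists_notMem_and_awayMap_bijective (R := R) q₁
  haveI : Module.Finite R S' := ⟨(Submodule.fg_top _).mpr hS'⟩
  haveI : Algebra.QuasiFinite R (Localization.Away r) := .trans R S' _
  haveI : Algebra.QuasiFinite R (Localization.Away r.1) := by
    let f : Localization.Away r →ₐ[R] Localization.Away r.1 := Localization.awayMapₐ S'.val r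
    have hs : Function.Surjective f := Hbij.2
    exact Algebra.QuasiFinite.of_surjective_algHom f hs
  haveI : Algebra.FinitePresentation (Localization.Away h) (Localization.Away r.1) :=
    IsLocalization.Away.finitePresentation r.1
  haveI : Algebra.FinitePresentation R (Localization.Away r.1) :=
    Algebra.FinitePresentation.trans R (Localization.Away h) (Localization.Away r.1)
  have hdisj2 : Disjoint (Submonoid.powers r.1 : Set (Localization.Away h)) q₁ :=
    (Ideal.disjoint_powers_iff_notMem_of_isPrime r.1).mpr hrq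
  refine ⟨Localization.Away r.1, inferInstance, inferInstance, inferInstance, inferInstance,
    inferInstance, ⟨((IsScalarTower.toAlgHom R (Localization.Away h) (Localization.Away r.1)).comp
      (IsScalarTower.toAlgHom R (S ⧸ J) (Localization.Away h))).comp
        (Ideal.Quotient.mkₐ R J)⟩,
    q₁.map (algebraMap (Localization.Away h) (Localization.Away r.1)),
    IsLocalization.isPrime_of_isPrime_disjoint (Submonoid.powers r.1) _ q₁ hq₁p hdisj2, ?_⟩
  have h2 : (q₁.map (algebraMap (Localization.Away h) (Localization.Away r.1))).comap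
      (algebraMap (Localization.Away h) (Localization.Away r.1)) = q₁ :=
    IsLocalization.comap_map_of_isPrime_disjoint (Submonoid.powers r.1) _ hq₁p hdisj2
  rw [IsScalarTower.algebraMap_eq R (Localization.Away h) (Localization.Away r.1),
    ← Ideal.comap_comap, h2, IsScalarTower.algebraMap_eq R (S ⧸ J) (Localization.Away h),
    ← Ideal.comap_comap, hq₁comap, IsScalarTower.algebraMap_eq R S (S ⧸ J),
    ← Ideal.comap_comap, hqbcomap]

end Local

end Groth.Agent.Lib.QFCoverH3
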