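import Mathlib
import Groth.Agent.Lib.FppfQF3_helper8

/-!
# Étale-local finite flat refinements of fppf covers; S1379 (helper3)
APPEND-ONLY once landed.
-/

set_option autoImplicit false
set_option linter.all false
set_option maxHeartbeats 1600000

universe u

open CategoryTheory Limits AlgebraicGeometry

namespace Groth.Agent.Lib.FppfFinH3

/-- pointed form: an fppf morphism `g : S₁ ⟶ S` and a point `x` of `S₁`: there are an étale
`e : S' ⟶ S` with `g x` in its image and a surjective finite flat finitely presented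
`π : V ⟶ S'` together with `r : V ⟶ S₁` over `S`. -/
theorem exists_etale_finite_flat {S₁ S : Scheme.{u}} (g : S₁ ⟶ S) [Flat g]
    [LocallyOfFinitePresentation g] (x : S₁) :
    ∃ (S' V : Scheme.{u}) (e : S' ⟶ S) (π : V ⟶ S') (r : V ⟶ S₁), Etale e ∧
      g x ∈ Set.range ⇑e ∧ Surjective π ∧ IsFinite π ∧ Flat π ∧
      LocallyOfFinitePresentation π ∧ r ≫ g = π ≫ e := by
  obtain ⟨T, hT, h, ⟨⟨h1, h2⟩, h3⟩, ⟨t, ht⟩⟩ := FppfQFH8.local_qsection g x
  obtain ⟨f, hf⟩ : ∃ f : T ⟶ S, f = h ≫ g := ⟨_, rfl⟩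
  haveI : Flat f := hf ▸ h1
  haveI : LocallyOfFinitePresentation f := hf ▸ h2
  haveI : LocallyQuasiFinite f := hf ▸ h3
  haveI : IsSeparated f := inferInstance
  have hft : f t = g x := by rw [hf]; exact ht
  obtain ⟨U, e, he, -, V, W, v, -, hfin, hv⟩ :=
    exists_etale_isCompl_of_quasiFiniteAt f hft (f.quasiFiniteAt t)
  obtain ⟨p, hp⟩ : ∃ p : (V : Scheme.{u}) ⟶ U, p = V.ι ≫ pullback.snd f e := ⟨_, rfl⟩
  haveI : IsFinite p := hp ▸ hfin
  haveI : Flat p := by rw [hp]; infer_instance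
  haveI : LocallyOfFinitePresentation p := by rw [hp]; infer_instance
  obtain ⟨O, hO⟩ : ∃ O : U.Opens, (O : Set U) = Set.range p := ⟨⟨_, p.isOpenMap.isOpen_range⟩, rfl⟩
  refine ⟨O, (p ⁻¹ᵁ O : Scheme.{u}), O.ι ≫ e, p ∣_ O,
    (p ⁻¹ᵁ O).ι ≫ V.ι ≫ pullback.fst f e ≫ h, inferInstance, ?_, ?_, inferInstance,
    inferInstance, inferInstance, ?_⟩
  · have hmem : p v ∈ O := by
      rw [← SetLike.mem_coe, hO]; exact ⟨v, rfl⟩
    refine ⟨⟨p v, hmem⟩, ?_⟩
    rw [Scheme.Hom.comp_apply]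
    show e (p v) = g x
    rw [hp, ← Scheme.Hom.comp_apply, Category.assoc, ← pullback.condition,
      Scheme.Hom.comp_apply, Scheme.Hom.comp_apply]
    show f (pullback.fst f e v.1) = g x
    rw [hv, hft]
  · constructor
    rintro ⟨y, hy⟩
    have : y ∈ Set.range p := by rw [← hO]; exact hy
    obtain ⟨w, rfl⟩ := this
    refine ⟨⟨w, hy⟩, ?_⟩
    apply Subtype.ext
    exact morphismRestrict_base_coe p O ⟨w, hy⟩
  · rw [← Category.assoc (p ∣_ O), morphismRestrict_ι, hp]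
    simp only [Category.assoc]
    rw [← hf, pullback.condition]

theorem main1379 {S₁ S : Scheme.{u}} (g : S₁ ⟶ S) [Flat g] [LocallyOfFinitePresentation g]
    [Surjective g] (s : S) :
    ∃ (S' V : Scheme.{u}) (e : S' ⟶ S) (π : V ⟶ S'), Etale e ∧ s ∈ Set.range ⇑e ∧ Surjective π ∧
      IsFinite π ∧ Flat π ∧ LocallyOfFinitePresentation π ∧
      ∀ v : ↑V, ∃ (W : V.Opens) (r : ↑W ⟶ S₁), v ∈ W ∧ r ≫ g = W.ι ≫ π ≫ e := by
  obtain ⟨x, rfl⟩ := g.surjective s
  obtain ⟨S', V, e, π, r, h1, h2, h3, h4, h5, h6, h7⟩ := exists_etale_finite_flat g x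
  refine ⟨S', V, e, π, h1, h2, h3, h4, h5, h6, fun v => ⟨⊤, (⊤ : V.Opens).ι ≫ r, trivial, ?_⟩⟩
  rw [Category.assoc, h7]

end Groth.Agent.Lib.FppfFinH3
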