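import Mathlib

/-!
# Étale covers are dominated Zariski-locally by finite free covers: ring-level part (helper3)
APPEND-ONLY once landed.
-/

set_option autoImplicit false
set_option linter.all false
set_option maxHeartbeats 1600000

universe u

open CategoryTheory Limits AlgebraicGeometry Polynomial TensorProduct

namespace Groth.Agent.Lib.FppfFinH3

/-- two primes over the same prime of the base come from a prime of the tensor product -/
theorem exists_prime_tensor (A C₀ B : Type u) [CommRing A] [CommRing C₀] [CommRing B]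
    [Algebra A C₀] [Algebra A B] (w : PrimeSpectrum C₀) (v : PrimeSpectrum B)
    (h : w.comap (algebraMap A C₀) = v.comap (algebraMap A B)) :
    ∃ z : PrimeSpectrum (C₀ ⊗[A] B),
      z.comap (Algebra.TensorProduct.includeLeftRingHom) = w ∧
      z.comap (Algebra.TensorProduct.includeRight (R := A) (A := C₀) (B := B)).toRingHom = v := by
  obtain ⟨z, hz1, hz2⟩ := Scheme.Pullback.exists_preimage_pullback
    (f := Spec.map (CommRingCat.ofHom (algebraMap A C₀)))
    (g := Spec.map (CommRingCat.ofHom (algebraMap A B))) w v h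
  refine ⟨(pullbackSpecIso A C₀ B).hom z, ?_, ?_⟩
  · rw [← hz1]
    rw [← pullbackSpecIso_hom_fst A C₀ B, Scheme.Hom.comp_apply]
    rfl
  · rw [← hz2]
    rw [← pullbackSpecIso_hom_snd A C₀ B, Scheme.Hom.comp_apply]
    rfl

/-- the key computation: over a prime of a ring receiving both the splitting ring `C₀` of `f`
and a ring `B` with a point of the standard étale pair, some root `t` has `g t` outside. -/
theorem exists_root_not_mem {A C₀ B D : Type u} [CommRing A] [CommRing C₀] [CommRing B]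
    [CommRing D] [Algebra A C₀] [Algebra A B] (α : C₀ →+* D) (β : B →+* D)
    (hαβ : α.comp (algebraMap A C₀) = β.comp (algebraMap A B))
    (P : StandardEtalePair A) (x : B) (hx : P.HasMap x) (m : Multiset C₀)
    (hm : P.f.map (algebraMap A C₀) = (m.map (fun t => X - C t)).prod)
    (𝔷 : Ideal D) [h𝔷 : 𝔷.IsPrime] : ∃ t ∈ m, α (aeval t P.g) ∉ 𝔷 := by
  -- `f (β x) = 0`
  have hf0 : (P.f.map (α.comp (algebraMap A C₀))).eval (β x) = 0 := by
    rw [hαβ, Polynomial.eval_map, ← Polynomial.hom_eval₂, ← Polynomial.aeval_def, hx.1, map_zero]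
  have hfprod : (P.f.map (α.comp (algebraMap A C₀))).eval (β x) =
      (m.map (fun t => β x - α t)).prod := by
    rw [← Polynomial.map_map, hm, Polynomial.map_multiset_prod, Polynomial.eval_multiset_prod,
      Multiset.map_map, Multiset.map_map]
    congr 1
    refine Multiset.map_congr rfl fun t _ => ?_
    simp
  rw [hfprod] at hf0
  have hmem : (m.map (fun t => β x - α t)).prod ∈ 𝔷 := by rw [hf0]; exact 𝔷.zero_mem
  obtain ⟨_, hp, hp𝔷⟩ := (h𝔷.multiset_prod_mem_iff_exists_mem _).mp hmem
  obtain ⟨t, ht, rfl⟩ := Multiset.mem_map.mp hp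
  refine ⟨t, ht, fun hg => ?_⟩
  have hdvd := Polynomial.sub_dvd_eval_sub (β x) (α t) (P.g.map (α.comp (algebraMap A C₀)))
  have h1 : (P.g.map (α.comp (algebraMap A C₀))).eval (β x) = β (aeval x P.g) := by
    rw [hαβ, Polynomial.eval_map, ← Polynomial.hom_eval₂, ← Polynomial.aeval_def]
  have h2 : (P.g.map (α.comp (algebraMap A C₀))).eval (α t) = α (aeval t P.g) := by
    rw [Polynomial.eval_map, ← Polynomial.hom_eval₂, ← Polynomial.aeval_def]
  rw [h1, h2] at hdvd
  have h3 : β (aeval x P.g) - α (aeval t P.g) ∈ 𝔷 := by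
    obtain ⟨c, hc⟩ := hdvd
    rw [hc]
    exact 𝔷.mul_mem_right _ hp𝔷
  have h4 : β (aeval x P.g) ∈ 𝔷 := by
    have := 𝔷.add_mem h3 hg
    simpa using this
  exact h𝔷.ne_top (𝔷.eq_top_of_isUnit_mem h4 (hx.2.map β))

/-- **Key lemma (affine form).** An étale morphism to `Spec A` is dominated, over a basic open
neighbourhood of the image of a given point, by a finite free cover Zariski-locally. -/
theorem exists_split_cover {A : Type u} [CommRing A] {Y : Scheme.{u}}
    (e : Y ⟶ Spec (CommRingCat.of A)) [Etale e] (y : Y) :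
    ∃ (a : A) (C₀ : Type u) (_ : CommRing C₀) (φ : A →+* C₀) (n : ℕ) (c : Fin n → C₀)
      (q : ∀ i, Spec (CommRingCat.of (Localization.Away (c i))) ⟶ Y),
      (e y : PrimeSpectrum A) ∈ PrimeSpectrum.basicOpen a ∧ φ.Finite ∧ φ.Flat ∧
      φ.FinitePresentation ∧ Function.Surjective (PrimeSpectrum.comap φ) ∧
      (∀ i, q i ≫ e = Spec.map (CommRingCat.ofHom
        ((algebraMap C₀ (Localization.Away (c i))).comp φ))) ∧
      ∀ w : PrimeSpectrum C₀, φ a ∉ w.asIdeal → ∃ i, c i ∉ w.asIdeal := by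
  classical
  obtain ⟨_, ⟨V₁, hV₁, rfl⟩, hyV₁, -⟩ :=
    Y.isBasis_affineOpens.exists_subset_of_mem_open (Set.mem_univ y) isOpen_univ
  obtain ⟨ψ, hψ⟩ := Spec.map_surjective (hV₁.fromSpec ≫ e)
  have hψet : Etale (Spec.map ψ) := by rw [hψ]; infer_instance
  rw [HasRingHomProperty.Spec_iff (P := @Etale)] at hψet
  algebraize [ψ.hom]
  obtain ⟨Q, hQ⟩ : ∃ Q : PrimeSpectrum Γ(Y, V₁), Q = hV₁.primeIdealOf ⟨y, hyV₁⟩ := ⟨_, rfl⟩
  obtain ⟨b, hbQ, hstd⟩ := Algebra.IsEtaleAt.exists_isStandardEtale (R := A) Q.asIdeal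
  obtain ⟨Pres⟩ := hstd.nonempty_standardEtalePresentation
  -- the open immersion `Spec B_b ⟶ Y`
  obtain ⟨ι₀, hι₀⟩ : ∃ ι₀ : Spec (CommRingCat.of (Localization.Away b)) ⟶ Y,
      ι₀ = Spec.map (CommRingCat.ofHom (algebraMap Γ(Y, V₁) (Localization.Away b))) ≫
        hV₁.fromSpec := ⟨_, rfl⟩
  have hι₀e : ι₀ ≫ e = Spec.map (CommRingCat.ofHom (algebraMap A (Localization.Away b))) := by
    rw [hι₀, Category.assoc, ← hψ, ← Spec.map_comp]
    congr 1
  have hyι₀ : y ∈ Set.range ι₀ := by
    have h1 : Q ∈ Set.range (PrimeSpectrum.comap (algebraMap Γ(Y, V₁) (Localization.Away b))) := by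
      rw [PrimeSpectrum.localization_away_comap_range (Localization.Away b) b]
      exact hbQ
    obtain ⟨Q', hQ'⟩ := h1
    refine ⟨Q', ?_⟩
    rw [hι₀, Scheme.Hom.comp_apply]
    have h2 : (Spec.map (CommRingCat.ofHom (algebraMap Γ(Y, V₁) (Localization.Away b)))) Q' = Q :=
      hQ'
    rw [h2, hQ]
    exact hV₁.fromSpec_primeIdealOf ⟨y, hyV₁⟩
  -- the image is open
  haveI : IsOpenImmersion ι₀ := by rw [hι₀]; infer_instance
  haveI : Etale (ι₀ ≫ e) := inferInstance
  have hopen : IsOpen (Set.range (ι₀ ≫ e)) := (ι₀ ≫ e).isOpenMap.isOpen_range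
  have hey : e y ∈ Set.range (ι₀ ≫ e) := by
    obtain ⟨y', rfl⟩ := hyι₀
    exact ⟨y', by rw [Scheme.Hom.comp_apply]⟩
  obtain ⟨_, ⟨a, rfl⟩, hya, hasub⟩ :=
    (PrimeSpectrum.isTopologicalBasis_basic_opens (R := A)).exists_subset_of_mem_open hey hopen
  -- the splitting algebra
  haveI : Nontrivial A := (e y : PrimeSpectrum A).nontrivial
  obtain ⟨C₀, _, _, _, _, _, hsplit⟩ := Pres.monic_f.exists_splits_map
  obtain ⟨m, hm⟩ := splits_iff_exists_multiset.mp hsplit
  rw [(Pres.monic_f.map _).leadingCoeff, map_one, one_mul] at hm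
  obtain ⟨tl, htl⟩ : ∃ tl : Fin m.toList.length → C₀, tl = m.toList.get := ⟨_, rfl⟩
  have htlm : ∀ i, tl i ∈ m := fun i => by
    rw [htl, ← Multiset.mem_toList]; exact List.get_mem _ _
  have hroot : ∀ i, aeval (tl i) Pres.f = 0 := by
    intro i
    rw [Polynomial.aeval_def, ← Polynomial.eval_map, hm, Polynomial.eval_multiset_prod]
    apply Multiset.prod_eq_zero
    rw [Multiset.map_map]
    exact Multiset.mem_map.mpr ⟨tl i, htlm i, by simp⟩
  have hasmap : ∀ i, Pres.HasMap
      (algebraMap C₀ (Localization.Away (aeval (tl i) Pres.g)) (tl i)) := by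
    intro i
    refine ⟨?_, ?_⟩
    · rw [Polynomial.aeval_algebraMap_apply, hroot i, map_zero]
    · rw [Polynomial.aeval_algebraMap_apply]
      exact IsLocalization.Away.algebraMap_isUnit _
  obtain ⟨θ, hθ⟩ : ∃ θ : ∀ i, Localization.Away b →ₐ[A]
      Localization.Away (aeval (tl i) Pres.g),
      θ = fun i => (Pres.lift _ (hasmap i)).comp Pres.equivRing.toAlgHom := ⟨_, rfl⟩
  haveI : Module.FinitePresentation A C₀ := Module.finitePresentation_of_projective A C₀
  refine ⟨a, C₀, inferInstance, algebraMap A C₀, m.toList.length,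
    fun i => aeval (tl i) Pres.g,
    fun i => Spec.map (CommRingCat.ofHom (θ i).toRingHom) ≫ ι₀, hya, ?_, ?_, ?_, ?_, ?_, ?_⟩
  · exact RingHom.finite_algebraMap.mpr inferInstance
  · exact RingHom.flat_algebraMap_iff.mpr inferInstance
  · exact RingHom.finitePresentation_algebraMap.mpr inferInstance
  · exact PrimeSpectrum.comap_surjective_of_faithfullyFlat
  · intro i
    rw [Category.assoc, hι₀e, ← Spec.map_comp]
    congr 1
    ext r
    show (θ i) (algebraMap A (Localization.Away b) r) = _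
    rw [(θ i).commutes]
    exact IsScalarTower.algebraMap_apply A C₀ _ r
  · intro w hw
    have hx : w.comap (algebraMap A C₀) ∈ Set.range (ι₀ ≫ e) := hasub hw
    rw [hι₀e] at hx
    obtain ⟨v, hv⟩ := hx
    have hv' : w.comap (algebraMap A C₀) = PrimeSpectrum.comap
        (algebraMap A (Localization.Away b)) v := hv.symm
    obtain ⟨z, hz1, hz2⟩ := exists_prime_tensor A C₀ (Localization.Away b) w v hv'
    obtain ⟨t, htm, ht⟩ := exists_root_not_mem
      (Algebra.TensorProduct.includeLeftRingHom (R := A) (A := C₀) (B := Localization.Away b))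
      (Algebra.TensorProduct.includeRight (R := A) (A := C₀)
        (B := Localization.Away b)).toRingHom
      (by
        ext r
        show (algebraMap A C₀ r) ⊗ₜ[A] (1 : Localization.Away b) =
          (1 : C₀) ⊗ₜ[A] (algebraMap A (Localization.Away b) r)
        rw [Algebra.algebraMap_eq_smul_one, Algebra.algebraMap_eq_smul_one,
          TensorProduct.smul_tmul])
      Pres.P Pres.x Pres.hasMap m hm z.asIdeal
    obtain ⟨i, hi⟩ : ∃ i, tl i = t := by
      have : t ∈ m.toList := Multiset.mem_toList.mpr htm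
      obtain ⟨i, hi⟩ := List.mem_iff_get.mp this
      exact ⟨i, by rw [htl]; exact hi⟩
    refine ⟨i, ?_⟩
    show aeval (tl i) Pres.g ∉ w.asIdeal
    rw [hi]
    intro hmem
    apply ht
    have : aeval t Pres.g ∈ (z.comap
        (Algebra.TensorProduct.includeLeftRingHom (R := A) (A := C₀)
          (B := Localization.Away b))).asIdeal := by
      rw [hz1]; exact hmem
    exact this

end Groth.Agent.Lib.FppfFinH3
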