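import Mathlib
import Groth.Agent.Lib.FppfFin1_helper3
import Groth.Agent.Lib.FppfFin2_helper3

/-!
# Étale covers are dominated Zariski-locally by finite free covers: scheme-level part (helper3)
APPEND-ONLY once landed.
-/

set_option autoImplicit false
set_option linter.all false
set_option maxHeartbeats 1600000

universe u

open CategoryTheory Limits AlgebraicGeometry

namespace Groth.Agent.Lib.FppfFinH3

/-- **Key lemma.** For an étale `e : S' ⟶ S` and a point `s'` of `S'` there are an affine open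
neighbourhood `U` of `e s'` and a surjective finite locally free `π : W ⟶ U` such that `W ⟶ S`
factors through `e` Zariski-locally on `W`. -/
theorem exists_finite_free_split {S' S : Scheme.{u}} (e : S' ⟶ S) [Etale e] (s' : S') :
    ∃ (U : S.Opens) (W : Scheme.{u}) (π : W ⟶ (U : Scheme.{u})), IsAffineOpen U ∧ e s' ∈ U ∧
      IsFinite π ∧ Flat π ∧ LocallyOfFinitePresentation π ∧ Surjective π ∧
      ∀ w : W, ∃ (W' : W.Opens) (q : (W' : Scheme.{u}) ⟶ S'), w ∈ W' ∧
        q ≫ e = W'.ι ≫ π ≫ U.ι := by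
  obtain ⟨_, ⟨U₀, hU₀, rfl⟩, hsU₀, -⟩ :=
    S.isBasis_affineOpens.exists_subset_of_mem_open (Set.mem_univ (e s')) isOpen_univ
  obtain ⟨j, hj⟩ : ∃ j : Spec Γ(S, U₀) ⟶ S, j = hU₀.fromSpec := ⟨_, rfl⟩
  haveI : IsOpenImmersion j := by rw [hj]; infer_instance
  have hjs : j (hU₀.primeIdealOf ⟨e s', hsU₀⟩) = e s' := by
    rw [hj]; exact hU₀.fromSpec_primeIdealOf ⟨e s', hsU₀⟩
  obtain ⟨y, hy1, hy2⟩ := Scheme.Pullback.exists_preimage_pullback (f := e) (g := j) s'
    (hU₀.primeIdealOf ⟨e s', hsU₀⟩) hjs.symm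
  obtain ⟨a, C₀, _, φ, n, c, q, hya, hfin, hflat, hfp, hsurj, hq, hcov⟩ :=
    exists_split_cover (A := Γ(S, U₀)) (pullback.snd e j) y
  obtain ⟨p, hp⟩ : ∃ p : Spec (CommRingCat.of C₀) ⟶ Spec Γ(S, U₀),
      p = Spec.map (CommRingCat.ofHom φ) := ⟨_, rfl⟩
  haveI : IsFinite p := by rw [hp]; exact (IsFinite.SpecMap_iff _).mpr hfin
  haveI : Flat p := by rw [hp]; exact (HasRingHomProperty.Spec_iff (P := @Flat)).mpr hflat
  haveI : LocallyOfFinitePresentation p := by
    rw [hp]; exact (HasRingHomProperty.Spec_iff (P := @LocallyOfFinitePresentation)).mpr hfp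
  obtain ⟨O, hO⟩ : ∃ O : (Spec Γ(S, U₀)).Opens, O = PrimeSpectrum.basicOpen a := ⟨_, rfl⟩
  have hOaff : IsAffineOpen O := by rw [hO]; exact IsAffineOpen.Spec_basicOpen a
  refine ⟨j ''ᵁ O, (p ⁻¹ᵁ O : Scheme.{u}), (p ∣_ O) ≫ (j.isoImage O).hom, ?_, ?_, inferInstance,
    inferInstance, inferInstance, ?_, ?_⟩
  · exact hOaff.image_of_isOpenImmersion j
  · refine ⟨hU₀.primeIdealOf ⟨e s', hsU₀⟩, ?_, hjs⟩
    rw [hO]
    rw [hy2] at hya
    exact hya
  · haveI : Surjective (p ∣_ O) := by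
      constructor
      rintro ⟨x, hx⟩
      obtain ⟨w, hw⟩ := hsurj x
      have hw' : p w = x := by rw [hp]; exact hw
      have hwO : w ∈ p ⁻¹ᵁ O := by
        show p w ∈ O
        rw [hw']; exact hx
      refine ⟨⟨w, hwO⟩, ?_⟩
      apply Subtype.ext
      rw [morphismRestrict_base_coe]
      exact hw'
    infer_instance
  · rintro ⟨w, hw⟩
    have hwa : φ a ∉ (w : PrimeSpectrum C₀).asIdeal := by
      have h1 : p w ∈ O := hw
      rw [hO, hp] at h1
      exact h1
    obtain ⟨i, hi⟩ := hcov w hwa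
    obtain ⟨κ, hκ⟩ : ∃ κ : Spec (CommRingCat.of (Localization.Away (c i))) ⟶
        Spec (CommRingCat.of C₀),
        κ = Spec.map (CommRingCat.ofHom (algebraMap C₀ (Localization.Away (c i)))) := ⟨_, rfl⟩
    haveI : IsOpenImmersion κ := by rw [hκ]; infer_instance
    have hκrange : Set.range κ = (PrimeSpectrum.basicOpen (c i) : Set (PrimeSpectrum C₀)) := by
      rw [hκ]
      exact PrimeSpectrum.localization_away_comap_range (Localization.Away (c i)) (c i)
    obtain ⟨W', hW'⟩ : ∃ W' : (p ⁻¹ᵁ O : Scheme.{u}).Opens,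
        W' = (p ⁻¹ᵁ O).ι ⁻¹ᵁ (PrimeSpectrum.basicOpen (c i) : (Spec (CommRingCat.of C₀)).Opens) :=
      ⟨_, rfl⟩
    have hmemW' : ∀ z : ↥(p ⁻¹ᵁ O : Scheme.{u}), z ∈ W' →
        (p ⁻¹ᵁ O).ι z ∈ (PrimeSpectrum.basicOpen (c i) : Set (PrimeSpectrum C₀)) := by
      rw [hW']
      intro z hz
      exact hz
    have hrange : Set.range (W'.ι ≫ (p ⁻¹ᵁ O).ι) ⊆ Set.range κ := by
      rw [hκrange]
      rintro _ ⟨x, rfl⟩
      rw [Scheme.Hom.comp_apply]
      exact hmemW' _ x.2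
    refine ⟨W', IsOpenImmersion.lift κ (W'.ι ≫ (p ⁻¹ᵁ O).ι) hrange ≫ q i ≫ pullback.fst e j,
      ?_, ?_⟩
    · rw [hW']
      exact hi
    · simp only [Category.assoc]
      rw [pullback.condition, ← Category.assoc (q i), hq i, Scheme.Hom.isoImage_hom_ι,
        ← Category.assoc (p ∣_ O), morphismRestrict_ι]
      have h2 : Spec.map (CommRingCat.ofHom
          ((algebraMap C₀ (Localization.Away (c i))).comp φ)) = κ ≫ p := by
        rw [hκ, hp, ← Spec.map_comp]
        rfl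
      rw [h2]
      simp only [Category.assoc]
      rw [← Category.assoc _ κ, IsOpenImmersion.lift_fac]
      simp only [Category.assoc]

end Groth.Agent.Lib.FppfFinH3
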