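import Mathlib
import Groth.Prelude.Def_Mor2
import Groth.Agent.Lib.FppfFin3_helper3

/-!
# fppf coverings are refined by Zariski–finite locally free towers; S7198 (helper3)
APPEND-ONLY once landed.
-/

set_option autoImplicit false
set_option linter.all false
set_option maxHeartbeats 1600000

universe w u

open CategoryTheory Limits AlgebraicGeometry

namespace Groth.Agent.Lib.FppfFinH3

/-- pointed local form: around the image of a point of an fppf morphism. -/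
theorem exists_tower {S₁ S : Scheme.{u}} (g : S₁ ⟶ S) [Flat g]
    [LocallyOfFinitePresentation g] (x : S₁) :
    ∃ (U : S.Opens) (W : Scheme.{u}) (π : W ⟶ (U : Scheme.{u})), IsAffineOpen U ∧ g x ∈ U ∧
      IsFinite π ∧ Flat π ∧ LocallyOfFinitePresentation π ∧ Surjective π ∧
      ∀ w : W, ∃ (W' : W.Opens) (T : Scheme.{u}) (ρ : T ⟶ (W' : Scheme.{u})) (r : T ⟶ S₁),
        w ∈ W' ∧ IsFinite ρ ∧ Flat ρ ∧ LocallyOfFinitePresentation ρ ∧ Surjective ρ ∧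
        r ≫ g = ρ ≫ W'.ι ≫ π ≫ U.ι := by
  obtain ⟨S', V, e, π₀, r₀, h1, ⟨s', hs'⟩, h3, h4, h5, h6, h7⟩ := exists_etale_finite_flat g x
  haveI := h1
  haveI := h3
  haveI := h4
  haveI := h5
  haveI := h6
  obtain ⟨U, W, π, hU, hsU, k1, k2, k3, k4, hW⟩ := exists_finite_free_split e s'
  refine ⟨U, W, π, hU, hs' ▸ hsU, k1, k2, k3, k4, fun w => ?_⟩
  obtain ⟨W', q, hwW', hq⟩ := hW w
  refine ⟨W', pullback q π₀, pullback.fst q π₀, pullback.snd q π₀ ≫ r₀, hwW', inferInstance,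
    inferInstance, inferInstance, inferInstance, ?_⟩
  rw [Category.assoc, h7, ← Category.assoc, ← pullback.condition, Category.assoc, hq]

theorem main7198 {S : Scheme.{u}} (E : PreZeroHypercover.{w} S)
    (hflat : ∀ i, Flat (E.f i)) (hfp : ∀ i, LocallyOfFinitePresentation (E.f i))
    (hsurj : ∀ s : S, ∃ (i : E.I₀) (x : E.X i), E.f i x = s) (s : S) :
    ∃ (U : S.Opens) (W : Scheme.{u}) (π : W ⟶ U.toScheme), s ∈ U ∧ Mor2.IsFinLocFree π ∧
      Surjective π ∧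
      ∀ w : W, ∃ (W' : W.Opens) (T : Scheme.{u}) (ρ : T ⟶ W'.toScheme) (i : E.I₀)
        (r : T ⟶ E.X i),
        w ∈ W' ∧ Mor2.IsFinLocFree ρ ∧ Surjective ρ ∧ r ≫ E.f i = ρ ≫ W'.ι ≫ π ≫ U.ι := by
  obtain ⟨i, x, rfl⟩ := hsurj s
  haveI := hflat i
  haveI := hfp i
  obtain ⟨U, W, π, -, hsU, k1, k2, k3, k4, hW⟩ := exists_tower (E.f i) x
  refine ⟨U, W, π, hsU, ⟨k1, k2, k3⟩, k4, fun w => ?_⟩
  obtain ⟨W', T, ρ, r, hw, l1, l2, l3, l4, hr⟩ := hW w
  exact ⟨W', T, ρ, i, r, hw, ⟨l1, l2, l3⟩, l4, hr⟩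

end Groth.Agent.Lib.FppfFinH3
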