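import Mathlib

/-!
# Patching finite surjective covers which split a sieve Zariski-locally (helper3)
APPEND-ONLY once landed.
-/

set_option autoImplicit false
set_option linter.all false
set_option maxHeartbeats 1600000

universe u

open CategoryTheory Limits AlgebraicGeometry TopologicalSpace

namespace Groth.Agent.Lib.FppfFinH3

variable {S : Scheme.{u}} (F : ∀ ⦃V : Scheme.{u}⦄, (V ⟶ S) → Prop)

/-- closed under precomposition -/
def IsSieveLike : Prop := ∀ ⦃V V' : Scheme.{u}⦄ (h : V' ⟶ V) (q : V ⟶ S), F q → F (h ≫ q)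

/-- there is a finite surjective `q : Q ⟶ Y` such that `q ≫ a` belongs to `F` Zariski-locally at
the points over `O`. -/
def Good {Y : Scheme.{u}} (a : Y ⟶ S) (O : Y.Opens) : Prop :=
  ∃ (Q : Scheme.{u}) (q : Q ⟶ Y), IsFinite q ∧ Surjective q ∧
    ∀ y : Q, q y ∈ O → ∃ V : Q.Opens, y ∈ V ∧ F (V.ι ≫ q ≫ a)

variable {F}

theorem good_bot {Y : Scheme.{u}} (a : Y ⟶ S) : Good F a ⊥ :=
  ⟨Y, 𝟙 Y, inferInstance, inferInstance, fun y hy => (hy : False).elim⟩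

theorem Good.mono {Y : Scheme.{u}} {a : Y ⟶ S} {O O' : Y.Opens} (h : Good F a O) (hle : O' ≤ O) :
    Good F a O' := by
  obtain ⟨Q, q, h1, h2, h3⟩ := h
  exact ⟨Q, q, h1, h2, fun y hy => h3 y (hle hy)⟩

theorem Good.sup (hF : IsSieveLike F) {Y : Scheme.{u}} {a : Y ⟶ S} {O₁ O₂ : Y.Opens}
    (h₁ : Good F a O₁) (h₂ : Good F a O₂) : Good F a (O₁ ⊔ O₂) := by
  obtain ⟨Q₁, q₁, f1, s1, g1⟩ := h₁
  obtain ⟨Q₂, q₂, f2, s2, g2⟩ := h₂
  refine ⟨pullback q₁ q₂, pullback.fst q₁ q₂ ≫ q₁, inferInstance, inferInstance, ?_⟩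
  intro y hy
  have hy' : (pullback.fst q₁ q₂ ≫ q₁) y ∈ (O₁ : Set Y) ∪ (O₂ : Set Y) := hy
  rcases hy' with hy1 | hy2
  · rw [Scheme.Hom.comp_apply] at hy1
    obtain ⟨V₁, hyV₁, hV₁⟩ := g1 _ hy1
    refine ⟨pullback.fst q₁ q₂ ⁻¹ᵁ V₁, hyV₁, ?_⟩
    have := hF (pullback.fst q₁ q₂ ∣_ V₁) _ hV₁
    rw [← Category.assoc, morphismRestrict_ι] at this
    simpa only [Category.assoc] using this
  · rw [pullback.condition, Scheme.Hom.comp_apply] at hy2
    obtain ⟨V₂, hyV₂, hV₂⟩ := g2 _ hy2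
    refine ⟨pullback.snd q₁ q₂ ⁻¹ᵁ V₂, hyV₂, ?_⟩
    have := hF (pullback.snd q₁ q₂ ∣_ V₂) _ hV₂
    rw [← Category.assoc, morphismRestrict_ι] at this
    rw [Category.assoc, ← Category.assoc (pullback.fst q₁ q₂), pullback.condition]
    simpa only [Category.assoc] using this

theorem good_top (hF : IsSieveLike F) {Y : Scheme.{u}} [CompactSpace Y] (a : Y ⟶ S)
    (h : ∀ y : Y, ∃ O : Y.Opens, y ∈ O ∧ Good F a O) : Good F a ⊤ := by
  have key : ∃ O : Y.Opens, (Set.univ : Set Y) ⊆ (O : Set Y) ∧ Good F a O := by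
    refine isCompact_univ.induction_on
      (p := fun s => ∃ O : Y.Opens, s ⊆ (O : Set Y) ∧ Good F a O)
      ?_ ?_ ?_ ?_
    · exact ⟨⊥, Set.empty_subset _, good_bot a⟩
    · rintro s t hst ⟨O, htO, hO⟩
      exact ⟨O, hst.trans htO, hO⟩
    · rintro s t ⟨O₁, h1, g1⟩ ⟨O₂, h2, g2⟩
      refine ⟨O₁ ⊔ O₂, ?_, g1.sup hF g2⟩
      intro x hx
      rcases hx with hx | hx
      · exact Or.inl (h1 hx)
      · exact Or.inr (h2 hx)
    · intro y _
      obtain ⟨O, hyO, hO⟩ := h y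
      exact ⟨O, mem_nhdsWithin_of_mem_nhds (O.2.mem_nhds hyO), O, subset_rfl, hO⟩
  obtain ⟨O, hO, hg⟩ := key
  exact hg.mono (fun x _ => hO (Set.mem_univ x))

end Groth.Agent.Lib.FppfFinH3
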