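import Mathlib
import Groth.Agent.Lib.FppfFin3_helper3

/-!
# Towers with quasi-compact pieces (helper3)
APPEND-ONLY once landed.
-/

set_option autoImplicit false
set_option linter.all false
set_option maxHeartbeats 1600000

universe u

open CategoryTheory Limits AlgebraicGeometry

namespace Groth.Agent.Lib.FppfFinH3

/-- the key lemma with affine pieces `W'`. -/
theorem exists_finite_free_split' {S' S : Scheme.{u}} (e : S' ⟶ S) [Etale e] (s' : S') :
    ∃ (U : S.Opens) (W : Scheme.{u}) (π : W ⟶ (U : Scheme.{u})), IsAffineOpen U ∧ e s' ∈ U ∧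
      IsFinite π ∧ Flat π ∧ LocallyOfFinitePresentation π ∧ Surjective π ∧
      ∀ w : W, ∃ (W' : W.Opens) (q : (W' : Scheme.{u}) ⟶ S'), w ∈ W' ∧ IsAffineOpen W' ∧
        q ≫ e = W'.ι ≫ π ≫ U.ι := by
  obtain ⟨U, W, π, hU, hsU, k1, k2, k3, k4, hW⟩ := exists_finite_free_split e s'
  refine ⟨U, W, π, hU, hsU, k1, k2, k3, k4, fun w => ?_⟩
  obtain ⟨W', q, hwW', hq⟩ := hW w
  obtain ⟨_, ⟨W'', hW'', rfl⟩, hwW'', hle⟩ :=
    W.isBasis_affineOpens.exists_subset_of_mem_open hwW' W'.2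
  refine ⟨W'', W.homOfLE hle ≫ q, hwW'', hW'', ?_⟩
  rw [Category.assoc, hq, ← Category.assoc, Scheme.homOfLE_ι]

/-- pointed local form with affine pieces. -/
theorem exists_tower' {S₁ S : Scheme.{u}} (g : S₁ ⟶ S) [Flat g]
    [LocallyOfFinitePresentation g] (x : S₁) :
    ∃ (U : S.Opens) (W : Scheme.{u}) (π : W ⟶ (U : Scheme.{u})), IsAffineOpen U ∧ g x ∈ U ∧
      IsFinite π ∧ Flat π ∧ LocallyOfFinitePresentation π ∧ Surjective π ∧
      ∀ w : W, ∃ (W' : W.Opens) (T : Scheme.{u}) (ρ : T ⟶ (W' : Scheme.{u})) (r : T ⟶ S₁),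
        w ∈ W' ∧ IsAffineOpen W' ∧ IsFinite ρ ∧ Flat ρ ∧ LocallyOfFinitePresentation ρ ∧
        Surjective ρ ∧ r ≫ g = ρ ≫ W'.ι ≫ π ≫ U.ι := by
  obtain ⟨S', V, e, π₀, r₀, h1, ⟨s', hs'⟩, h3, h4, h5, h6, h7⟩ := exists_etale_finite_flat g x
  haveI := h1
  haveI := h3
  haveI := h4
  haveI := h5
  haveI := h6
  obtain ⟨U, W, π, hU, hsU, k1, k2, k3, k4, hW⟩ := exists_finite_free_split' e s'
  refine ⟨U, W, π, hU, hs' ▸ hsU, k1, k2, k3, k4, fun w => ?_⟩
  obtain ⟨W', q, hwW', hW'aff, hq⟩ := hW w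
  refine ⟨W', pullback q π₀, pullback.fst q π₀, pullback.snd q π₀ ≫ r₀, hwW', hW'aff,
    inferInstance, inferInstance, inferInstance, inferInstance, ?_⟩
  rw [Category.assoc, h7, ← Category.assoc, ← pullback.condition, Category.assoc, hq]

end Groth.Agent.Lib.FppfFinH3
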