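import Mathlib
import Groth.Agent.Lib.FinExt_helper7
import Groth.Agent.Lib.FppfFin5_helper3
import Groth.Agent.Lib.FppfFin6_helper3

/-!
# fppf covers of qcqs schemes are dominated by finite surjective covers Zariski-locally (helper3)
APPEND-ONLY once landed.
-/

set_option autoImplicit false
set_option linter.all false
set_option maxHeartbeats 1600000

universe u

open CategoryTheory Limits AlgebraicGeometry TopologicalSpace

namespace Groth.Agent.Lib.FppfFinH3

variable {S : Scheme.{u}} {F : ∀ ⦃V : Scheme.{u}⦄, (V ⟶ S) → Prop}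

/-- extension step: a finite surjective cover of a quasi-compact open which splits `F`
Zariski-locally extends to a finite surjective cover of the whole scheme. -/
theorem Good.of_finite_over_open (hF : IsSieveLike F) {Y : Scheme.{u}} [CompactSpace Y]
    [QuasiSeparatedSpace Y] (a : Y ⟶ S) (O : Y.Opens) (hO : IsCompact (O : Set Y))
    {Z : Scheme.{u}} (v : Z ⟶ (O : Scheme.{u})) [IsFinite v] [Surjective v]
    (hv : ∀ z : Z, ∃ V : Z.Opens, z ∈ V ∧ F (V.ι ≫ v ≫ O.ι ≫ a)) : Good F a O := by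
  obtain ⟨Z', π', i, hsurj, hfin, hpb⟩ := FinExtH7.main1376 O hO v
  haveI : IsOpenImmersion i :=
    MorphismProperty.of_isPullback (P := @IsOpenImmersion) hpb.flip inferInstance
  refine ⟨Z', π', hfin, hsurj, fun y hy => ?_⟩
  obtain ⟨t, ht1, -⟩ := Scheme.Pullback.exists_preimage_pullback (f := π') (g := O.ι) y
    ⟨π' y, hy⟩ rfl
  obtain ⟨z, hz⟩ : ∃ z : Z, i z = y := by
    refine ⟨hpb.isoPullback.inv t, ?_⟩
    rw [← Scheme.Hom.comp_apply, hpb.isoPullback_inv_fst, ht1]
  obtain ⟨V₀, hzV₀, hV₀⟩ := hv z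
  refine ⟨i ''ᵁ V₀, ⟨z, hzV₀, hz⟩, ?_⟩
  have h1 : (i ''ᵁ V₀).ι = (i.isoImage V₀).inv ≫ V₀.ι ≫ i := by
    rw [← Scheme.Hom.isoImage_hom_ι, Iso.inv_hom_id_assoc]
  have h2 := hF (i.isoImage V₀).inv _ hV₀
  rw [h1]
  simp only [Category.assoc]
  rw [← Category.assoc i, hpb.w]
  simpa only [Category.assoc] using h2

/-- **Finite version.** On a quasi-compact quasi-separated scheme, if every point is in the
image of an fppf morphism all of whose precomposites belong to `F`, then some finite surjective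
morphism belongs to `F` Zariski-locally on the source. -/
theorem exists_finite_split (hF : IsSieveLike F) [CompactSpace S] [QuasiSeparatedSpace S]
    (h : ∀ s : S, ∃ (S₁ : Scheme.{u}) (g : S₁ ⟶ S) (_ : Flat g)
      (_ : LocallyOfFinitePresentation g) (x : S₁), g x = s ∧
        ∀ ⦃V : Scheme.{u}⦄ (r : V ⟶ S₁), F (r ≫ g)) :
    ∃ (P : Scheme.{u}) (p : P ⟶ S), IsFinite p ∧ Surjective p ∧
      ∀ y : P, ∃ V : P.Opens, y ∈ V ∧ F (V.ι ≫ p) := by
  have hgood : Good F (𝟙 S) ⊤ := by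
    refine good_top hF (𝟙 S) fun s => ?_
    obtain ⟨S₁, g, hg1, hg2, x, rfl, hgF⟩ := h s
    obtain ⟨U, W, π, hU, hsU, k1, k2, k3, k4, hW⟩ := exists_tower' g x
    refine ⟨U, hsU, ?_⟩
    haveI : IsAffine (U : Scheme.{u}) := hU
    haveI : IsAffine W := isAffine_of_isAffineHom π
    -- level `W`
    have hgoodW : Good F (π ≫ U.ι) ⊤ := by
      refine good_top hF (π ≫ U.ι) fun w => ?_
      obtain ⟨W', T, ρ, r, hwW', hW'aff, l1, l2, l3, l4, hr⟩ := hW w
      refine ⟨W', hwW', Good.of_finite_over_open hF (π ≫ U.ι) W' hW'aff.isCompact ρ fun z => ?_⟩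
      refine ⟨⊤, trivial, ?_⟩
      have := hF ((⊤ : T.Opens).ι) _ (hgF r)
      rw [hr] at this
      exact this
    obtain ⟨Q, q, q1, q2, hq⟩ := hgoodW
    refine Good.of_finite_over_open hF (𝟙 S) U hU.isCompact (q ≫ π) fun z => ?_
    obtain ⟨V, hzV, hV⟩ := hq z trivial
    refine ⟨V, hzV, ?_⟩
    simpa only [Category.assoc, Category.comp_id] using hV
  obtain ⟨Q, q, q1, q2, hq⟩ := hgood
  refine ⟨Q, q, q1, q2, fun y => ?_⟩
  obtain ⟨V, hyV, hV⟩ := hq y trivial
  exact ⟨V, hyV, by simpa only [Category.comp_id] using hV⟩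

end Groth.Agent.Lib.FppfFinH3
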