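import Mathlib
import Groth.Prelude.Def_HTop
import Groth.Agent.Lib.FppfFin7_helper3

/-!
# fppf coverings are ph coverings; S7190 (helper3)
APPEND-ONLY once landed.
-/

set_option autoImplicit false
set_option linter.all false
set_option maxHeartbeats 1600000

universe w u

open CategoryTheory Limits AlgebraicGeometry TopologicalSpace

namespace Groth.Agent.Lib.FppfFinH3

/-- a finite surjective morphism to an affine scheme which belongs to a sieve Zariski-locally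
has a finite affine open cover whose members belong to the sieve. -/
theorem exists_finite_affine_cover {S : Scheme.{u}} {F : ∀ ⦃V : Scheme.{u}⦄, (V ⟶ S) → Prop}
    (hF : IsSieveLike F) {P : Scheme.{u}} [CompactSpace P] (p : P ⟶ S)
    (h : ∀ y : P, ∃ V : P.Opens, y ∈ V ∧ F (V.ι ≫ p)) :
    ∃ (n : ℕ) (V : Fin n → P.Opens), (∀ k, IsAffineOpen (V k)) ∧ (∀ k, F ((V k).ι ≫ p)) ∧
      ∀ y : P, ∃ k, y ∈ V k := by
  classical
  have h' : ∀ y : P, ∃ V : P.Opens, y ∈ V ∧ IsAffineOpen V ∧ F (V.ι ≫ p) := by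
    intro y
    obtain ⟨V, hyV, hV⟩ := h y
    obtain ⟨_, ⟨V', hV', rfl⟩, hyV', hle⟩ :=
      P.isBasis_affineOpens.exists_subset_of_mem_open hyV V.2
    refine ⟨V', hyV', hV', ?_⟩
    have := hF (P.homOfLE hle) _ hV
    rwa [← Category.assoc, Scheme.homOfLE_ι] at this
  choose V hyV hVaff hVF using h'
  obtain ⟨t, ht⟩ := isCompact_univ.elim_finite_subcover (fun y => (V y : Set P))
    (fun y => (V y).2) (fun y _ => Set.mem_iUnion.mpr ⟨y, hyV y⟩)
  refine ⟨t.card, fun k => V (t.equivFin.symm k).1, fun k => hVaff _, fun k => hVF _, fun y => ?_⟩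
  obtain ⟨y₀, hy₀⟩ := Set.mem_iUnion.mp (ht (Set.mem_univ y))
  obtain ⟨hy₀t, hy₀⟩ := Set.mem_iUnion.mp hy₀
  refine ⟨t.equivFin ⟨y₀, hy₀t⟩, ?_⟩
  show y ∈ V (t.equivFin.symm (t.equivFin ⟨y₀, hy₀t⟩)).1
  rw [Equiv.symm_apply_apply]
  exact hy₀

theorem main7190 {T : Scheme.{u}} (E : PreZeroHypercover.{w} T)
    (hflat : ∀ i, Flat (E.f i)) (hfp : ∀ i, LocallyOfFinitePresentation (E.f i))
    (hsurj : ∀ t : T, ∃ (i : E.I₀) (x : E.X i), E.f i x = t) : HTop.IsPhCover E := by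
  refine ⟨fun i => ?_, fun U => ?_⟩
  · haveI := hfp i
    infer_instance
  obtain ⟨U, hU⟩ := U
  haveI : IsAffine (U : Scheme.{u}) := hU
  -- the sieve on `U`
  obtain ⟨F, hFdef⟩ : ∃ F : ∀ ⦃V : Scheme.{u}⦄, (V ⟶ (U : Scheme.{u})) → Prop,
      F = fun V q => ∃ (i : E.I₀) (r : V ⟶ E.X i), r ≫ E.f i = q ≫ U.ι := ⟨_, rfl⟩
  have hF : IsSieveLike F := by
    rw [hFdef]
    rintro V V' h q ⟨i, r, hr⟩
    exact ⟨i, h ≫ r, by rw [Category.assoc, hr, Category.assoc]⟩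
  have hloc : ∀ s : (U : Scheme.{u}), ∃ (S₁ : Scheme.{u}) (g : S₁ ⟶ (U : Scheme.{u})) (_ : Flat g)
      (_ : LocallyOfFinitePresentation g) (x : S₁), g x = s ∧
        ∀ ⦃V : Scheme.{u}⦄ (r : V ⟶ S₁), F (r ≫ g) := by
    intro s
    obtain ⟨i, x₀, hx₀⟩ := hsurj (U.ι s)
    haveI := hflat i
    haveI := hfp i
    obtain ⟨x, -, hx2⟩ := Scheme.Pullback.exists_preimage_pullback (f := E.f i) (g := U.ι) x₀ s hx₀
    refine ⟨pullback (E.f i) U.ι, pullback.snd (E.f i) U.ι, inferInstance, inferInstance, x, hx2,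
      fun V r => ?_⟩
    rw [hFdef]
    exact ⟨i, r ≫ pullback.fst (E.f i) U.ι, by
      rw [Category.assoc, pullback.condition, Category.assoc]⟩
  obtain ⟨P, p, hpfin, hpsurj, hp⟩ := exists_finite_split hF hloc
  haveI := hpfin
  haveI := hpsurj
  haveI : IsAffine P := isAffine_of_isAffineHom p
  obtain ⟨n, V, hVaff, hVF, hVcov⟩ := exists_finite_affine_cover hF p hp
  refine ⟨⟨Fin n, fun k => (V k : Scheme.{u}), fun k => (V k).ι ≫ p⟩, ?_, ?_⟩
  · refine ⟨inferInstance, inferInstance, fun k => hVaff k, P, p, fun k => (V k).ι, inferInstance,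
      inferInstance, fun k => inferInstance, fun k => rfl, fun x => ?_⟩
    obtain ⟨k, hk⟩ := hVcov x
    exact ⟨k, ⟨⟨x, hk⟩, rfl⟩⟩
  · intro k
    have := hVF k
    rw [hFdef] at this
    obtain ⟨i, r, hr⟩ := this
    exact ⟨i, r, hr⟩

end Groth.Agent.Lib.FppfFinH3
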