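import Mathlib
import Groth.Agent.Lib.FppfFin7_helper3
import Groth.Agent.Lib.NApxE_helper7
import Groth.Agent.Lib.NApxD1_helper7
import Groth.Agent.Lib.LimDescFP6_helper7
import Groth.Agent.Lib.LimSurj_helper7

/-!
# fppf covers of qcqs schemes are refined by finite finitely presented covers; S0441, S0410 (helper3)
APPEND-ONLY once landed.

* `exists_affine_refinement`: an fppf cover of a quasi-compact scheme is refined by an affine one.
* `descendsProp_surjective`: surjectivity descends to a stage of a cofiltered limit.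
* `exists_noetherian_model_fppf`: an fppf cover of qcqs schemes is a base change of an fppf cover
  of a Noetherian scheme.
* `main0441`, `main0410`.
-/

set_option autoImplicit false
set_option linter.all false
set_option maxHeartbeats 1600000

universe u

open CategoryTheory Limits AlgebraicGeometry TopologicalSpace

namespace Groth.Agent.Lib.FppfFinH3

/-- an fppf cover of a quasi-compact scheme is refined by an fppf cover with affine source. -/
theorem exists_affine_refinement {U S : Scheme.{u}} (g : U ⟶ S) [Flat g]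
    [LocallyOfFinitePresentation g] [Surjective g] [CompactSpace S] :
    ∃ (U' : Scheme.{u}) (j : U' ⟶ U), IsAffine U' ∧ Flat (j ≫ g) ∧
      LocallyOfFinitePresentation (j ≫ g) ∧ Surjective (j ≫ g) := by
  classical
  have h : ∀ s : S, ∃ V : U.Opens, IsAffineOpen V ∧ s ∈ g '' (V : Set U) := by
    intro s
    obtain ⟨x, rfl⟩ := g.surjective s
    obtain ⟨_, ⟨V, hV, rfl⟩, hxV, -⟩ :=
      U.isBasis_affineOpens.exists_subset_of_mem_open (Set.mem_univ x) isOpen_univ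
    exact ⟨V, hV, x, hxV, rfl⟩
  choose V hV hsV using h
  obtain ⟨t, ht⟩ := isCompact_univ.elim_finite_subcover (fun s => g '' (V s : Set U))
    (fun s => g.isOpenMap _ (V s).2) (fun s _ => Set.mem_iUnion.mpr ⟨s, hsV s⟩)
  let W : t → Scheme.{u} := fun s => (V s.1 : Scheme.{u})
  haveI : ∀ s, IsAffine (W s) := fun s => hV s.1
  let F : ∀ s, W s ⟶ U := fun s => (V s.1).ι
  have hcomp : Sigma.desc F ≫ g = Sigma.desc (fun s => F s ≫ g) := by
    ext s
    simp
  haveI : IsAffine (∐ W) := inferInstance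
  refine ⟨∐ W, Sigma.desc F, inferInstance, ?_, ?_, ⟨fun s => ?_⟩⟩
  · rw [hcomp]
    exact IsZariskiLocalAtSource.sigmaDesc (fun s => inferInstance)
  · rw [hcomp]
    exact IsZariskiLocalAtSource.sigmaDesc (fun s => inferInstance)
  · obtain ⟨s₀, hs₀⟩ := Set.mem_iUnion.mp (ht (Set.mem_univ s))
    obtain ⟨hs₀t, x, hxV, rfl⟩ := Set.mem_iUnion.mp hs₀
    refine ⟨Sigma.ι W ⟨s₀, hs₀t⟩ ⟨x, hxV⟩, ?_⟩
    rw [← Scheme.Hom.comp_apply, ← Category.assoc, Sigma.ι_desc]
    rfl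

theorem descendsProp_surjective : LimDescFPH7.DescendsProp.{u} @Surjective := by
  intro I _ _ D c hc _ i₀ _ _ X₀ Y₀ f₀ g₀ _ _ _ _ _ X Y f g qY qX hY hX hP
  exact LimDescendH7.exists_descend (P := @Surjective)
    (H := @fun X Y f => LocallyOfFinitePresentation f ∧ QuasiCompact f ∧ QuasiSeparated f)
    LimSurjH7.affineStage_surjective
    (fun f g h => ⟨MorphismProperty.pullback_snd (P := @LocallyOfFinitePresentation) _ _ h.1,
      MorphismProperty.pullback_snd (P := @QuasiCompact) _ _ h.2.1,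
      MorphismProperty.pullback_snd (P := @QuasiSeparated) _ _ h.2.2⟩)
    D c hc i₀ f₀ g₀ ⟨inferInstance, inferInstance, inferInstance⟩ f g qY qX hY hX hP

/-- Noetherian model of an fppf cover between qcqs schemes. -/
theorem exists_noetherian_model_fppf {U S : Scheme.{u}} [CompactSpace U] [QuasiSeparatedSpace U]
    [CompactSpace S] [QuasiSeparatedSpace S] (g : U ⟶ S) [Flat g]
    [LocallyOfFinitePresentation g] [Surjective g] :
    ∃ (Y U₁ : Scheme.{u}) (_ : IsNoetherian Y) (ξ : S ⟶ Y) (g₁ : U₁ ⟶ Y) (q : U ⟶ U₁),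
      Flat g₁ ∧ LocallyOfFinitePresentation g₁ ∧ Surjective g₁ ∧ IsPullback q g g₁ ξ := by
  obtain ⟨Λ, iP, iD, iN, DS₀, cS₀, hcS₀, haff, hft, ⟨eS⟩⟩ :=
    Groth.Agent.Lib.NApxE_helper7.approx_abs S
  haveI : ∀ (i j : Λᵒᵖ) (g : i ⟶ j), IsAffineHom (DS₀.map g) := haff
  haveI : ∀ k, CompactSpace (DS₀.obj k) := fun k => (hft k).1
  have hnoeth : ∀ k, IsNoetherian (DS₀.obj k) := fun k =>
    Groth.Agent.Lib.NApxD1_helper7.isNoetherian_of_ftz (DS₀.obj k) (hft k).2
  haveI : ∀ k, QuasiSeparatedSpace (DS₀.obj k) := fun k => by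
    haveI := hnoeth k
    infer_instance
  haveI : QuasiCompact g := inferInstance
  haveI : QuasiSeparated g := inferInstance
  haveI : Flat (g ≫ eS.inv) := inferInstance
  haveI : Surjective (g ≫ eS.inv) := inferInstance
  haveI : QuasiCompact (g ≫ eS.inv) := inferInstance
  haveI : QuasiSeparated (g ≫ eS.inv) := inferInstance
  haveI : LocallyOfFinitePresentation (g ≫ eS.inv) := inferInstance
  obtain ⟨i₀⟩ : Nonempty Λᵒᵖ := ⟨Opposite.op (Classical.arbitrary Λ)⟩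
  obtain ⟨k, -, Uk, gk, q, hfp, hqc, hqs, ⟨hfl, hsurj⟩, sq⟩ :=
    Groth.Agent.Lib.LimDescFPH7.exists_descend_with
      (Groth.Agent.Lib.LimDescFPH7.DescendsProp.inf
        Groth.Agent.Lib.LimDescFPH7.descendsProp_flat descendsProp_surjective)
      DS₀ cS₀ hcS₀ i₀ (g ≫ eS.inv)
      ⟨(inferInstance : Flat (g ≫ eS.inv)), (inferInstance : Surjective (g ≫ eS.inv))⟩
  refine ⟨DS₀.obj k, Uk, hnoeth k, eS.inv ≫ cS₀.π.app k, gk, q, hfl, hfp, hsurj, ?_⟩
  have h1 : IsPullback (𝟙 U) g (g ≫ eS.inv) eS.inv := IsPullback.of_horiz_isIso ⟨by simp⟩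
  have h2 := h1.paste_horiz sq
  rwa [Category.id_comp] at h2

theorem main0441 {U S : Scheme.{u}} (g : U ⟶ S) [Flat g] [LocallyOfFinitePresentation g]
    [Surjective g] [CompactSpace ↑S] [QuasiSeparatedSpace ↑S] :
    ∃ (S' : Scheme.{u}) (π : S' ⟶ S), Surjective π ∧ IsFinite π ∧ LocallyOfFinitePresentation π ∧
      ∀ y : ↑S', ∃ (V : S'.Opens) (h : ↑V ⟶ U), y ∈ V ∧ h ≫ g = V.ι ≫ π := by
  obtain ⟨U', j, hU', h1, h2, h3⟩ := exists_affine_refinement g
  haveI := hU'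
  haveI := h1
  haveI := h2
  haveI := h3
  obtain ⟨Y, U₁, hY, ξ, g₁, q, k1, k2, k3, sq⟩ := exists_noetherian_model_fppf (j ≫ g)
  haveI := hY
  haveI := k1
  haveI := k2
  haveI := k3
  -- the sieve on `Y`
  obtain ⟨F, hFdef⟩ : ∃ F : ∀ ⦃V : Scheme.{u}⦄, (V ⟶ Y) → Prop,
      F = fun V q => ∃ r : V ⟶ U₁, r ≫ g₁ = q := ⟨_, rfl⟩
  have hF : IsSieveLike F := by
    rw [hFdef]
    rintro V V' h q ⟨r, hr⟩
    exact ⟨h ≫ r, by rw [Category.assoc, hr]⟩
  have hloc : ∀ s : Y, ∃ (S₁ : Scheme.{u}) (g : S₁ ⟶ Y) (_ : Flat g)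
      (_ : LocallyOfFinitePresentation g) (x : S₁), g x = s ∧
        ∀ ⦃V : Scheme.{u}⦄ (r : V ⟶ S₁), F (r ≫ g) := by
    intro s
    obtain ⟨x, hx⟩ := g₁.surjective s
    refine ⟨U₁, g₁, inferInstance, inferInstance, x, hx, fun V r => ?_⟩
    rw [hFdef]
    exact ⟨r, rfl⟩
  obtain ⟨P, p, hpfin, hpsurj, hp⟩ := exists_finite_split hF hloc
  haveI := hpfin
  haveI := hpsurj
  haveI : LocallyOfFinitePresentation p :=
    LocallyOfFinitePresentation.iff_locallyOfFiniteType.mpr inferInstance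
  refine ⟨pullback p ξ, pullback.snd p ξ, inferInstance, inferInstance, inferInstance, fun y => ?_⟩
  obtain ⟨V₁, hyV₁, hV₁⟩ := hp (pullback.fst p ξ y)
  rw [hFdef] at hV₁
  obtain ⟨r, hr⟩ := hV₁
  have hw : ((pullback.fst p ξ).resLE V₁ (pullback.fst p ξ ⁻¹ᵁ V₁) le_rfl ≫ r) ≫ g₁ =
      ((pullback.fst p ξ ⁻¹ᵁ V₁).ι ≫ pullback.snd p ξ) ≫ ξ := by
    rw [Category.assoc, hr, Scheme.Hom.resLE_comp_ι_assoc, Category.assoc, pullback.condition]
  refine ⟨pullback.fst p ξ ⁻¹ᵁ V₁, sq.lift _ _ hw ≫ j, hyV₁, ?_⟩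
  rw [Category.assoc, sq.lift_snd]

theorem main0410 {U X : Scheme.{u}} (g : U ⟶ X) [Etale g] [Surjective g] [CompactSpace ↑X]
    [QuasiSeparatedSpace ↑X] :
    ∃ (Y : Scheme.{u}) (π : Y ⟶ X), Surjective π ∧ IsFinite π ∧ LocallyOfFinitePresentation π ∧
      ∀ y : ↑Y, ∃ (V : Y.Opens) (h : ↑V ⟶ U), y ∈ V ∧ h ≫ g = V.ι ≫ π :=
  main0441 g

end Groth.Agent.Lib.FppfFinH3
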