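import Mathlib
set_option autoImplicit false
open AlgebraicGeometry CategoryTheory CategoryTheory.Limits Polynomial
universe u
namespace FppfLocH8

theorem isAlgClosed_residueField_of_roots {A : Type u} [CommRing A]
    (hroot : ∀ G : A[X], G.Monic → 0 < G.natDegree → ∃ r : A, G.eval r = 0)
    (p : Ideal A) [p.IsPrime] : IsAlgClosed p.ResidueField := by
  apply IsAlgClosed.of_exists_root
  intro f hf hirr
  have hdeg : 0 < f.natDegree := hirr.natDegree_pos
  obtain ⟨c, hcdef⟩ : ∃ c : nonZeroDivisors (A ⧸ p),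
      c = IsLocalization.commonDenom (nonZeroDivisors (A ⧸ p)) f.support f.coeff := ⟨_, rfl⟩
  have hlift := IsLocalization.scaleRoots_commonDenom_mem_lifts (nonZeroDivisors (A ⧸ p)) f
    (by rw [hf.leadingCoeff]; exact ⟨1, map_one _⟩)
  rw [← hcdef] at hlift
  have hc0 : algebraMap (A ⧸ p) p.ResidueField c ≠ 0 :=
    IsFractionRing.to_map_ne_zero_of_mem_nonZeroDivisors c.2
  have hmonic : (f.scaleRoots (algebraMap (A ⧸ p) p.ResidueField c)).Monic :=
    (monic_scaleRoots_iff _).mpr hf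
  obtain ⟨g, hg1, hg2, hg3⟩ := lifts_and_natDegree_eq_and_monic hlift hmonic
  have hglift : g ∈ lifts (Ideal.Quotient.mk p) :=
    (Polynomial.mem_lifts _).mpr (Polynomial.map_surjective _ Ideal.Quotient.mk_surjective g)
  obtain ⟨G, hG1, hG2, hG3⟩ := lifts_and_natDegree_eq_and_monic hglift hg3
  have hGdeg : 0 < G.natDegree := by
    rw [hG2, hg2, natDegree_scaleRoots]
    exact hdeg
  obtain ⟨r, hr⟩ := hroot G hG3 hGdeg
  have h1 : (f.scaleRoots (algebraMap (A ⧸ p) p.ResidueField c)).eval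
      (algebraMap (A ⧸ p) p.ResidueField (Ideal.Quotient.mk p r)) = 0 := by
    rw [← hg1, ← hG1, Polynomial.eval_map_apply, Polynomial.eval_map_apply, hr, map_zero, map_zero]
  refine ⟨(algebraMap (A ⧸ p) p.ResidueField c)⁻¹ *
    algebraMap (A ⧸ p) p.ResidueField (Ideal.Quotient.mk p r), ?_⟩
  have h2 := scaleRoots_eval₂_mul (p := f) (RingHom.id p.ResidueField)
    ((algebraMap (A ⧸ p) p.ResidueField c)⁻¹ *
      algebraMap (A ⧸ p) p.ResidueField (Ideal.Quotient.mk p r))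
    (algebraMap (A ⧸ p) p.ResidueField c)
  rw [RingHom.id_apply, ← mul_assoc, mul_inv_cancel₀ hc0, one_mul, eval₂_id, eval₂_id, h1] at h2
  exact (mul_eq_zero.mp h2.symm).resolve_left (pow_ne_zero _ hc0)

theorem exists_root_of_local {A : Type u} [CommRing A]
    (hloc : ∀ (X : Scheme.{u}) (R : Presieve X),
      R ∈ Scheme.precoverage (@Flat ⊓ @LocallyOfFinitePresentation ⊓ @QuasiCompact ⊓ @QuasiSeparated) X →
      ∀ g : Spec (CommRingCat.of A) ⟶ X,
        ∃ (Y : Scheme.{u}) (v : Y ⟶ X) (h : Spec (CommRingCat.of A) ⟶ Y), R v ∧ h ≫ v = g)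
    (G : A[X]) (hG : G.Monic) (hdeg : 0 < G.natDegree) : ∃ r : A, G.eval r = 0 := by
  rcases subsingleton_or_nontrivial A with hA | hA
  · exact ⟨0, Subsingleton.elim _ _⟩
  obtain ⟨φ, hφ⟩ : ∃ φ : CommRingCat.of A ⟶ CommRingCat.of (AdjoinRoot G),
      φ = CommRingCat.ofHom (algebraMap A (AdjoinRoot G)) := ⟨_, rfl⟩
  haveI : Module.Free A (AdjoinRoot G) := Module.Free.of_basis (AdjoinRoot.powerBasis' hG).basis
  haveI : Nontrivial (AdjoinRoot G) := by
    have hb := (AdjoinRoot.powerBasis' hG).basis.ne_zero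
      (⟨0, by rw [AdjoinRoot.powerBasis'_dim]; exact hdeg⟩ : Fin (AdjoinRoot.powerBasis' hG).dim)
    exact ⟨⟨_, 0, hb⟩⟩
  have hff : φ.hom.FaithfullyFlat := by
    rw [hφ]
    exact RingHom.faithfullyFlat_algebraMap_iff.mpr inferInstance
  obtain ⟨hflat, hsurj⟩ := (flat_and_surjective_SpecMap_iff φ).mpr hff
  have hfp : LocallyOfFinitePresentation (Spec.map φ) := by
    rw [LocallyOfFinitePresentation.SpecMap_iff, hφ]
    exact RingHom.finitePresentation_algebraMap.mpr inferInstance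
  have hmem : Presieve.singleton (Spec.map φ) ∈ Scheme.precoverage
      (@Flat ⊓ @LocallyOfFinitePresentation ⊓ @QuasiCompact ⊓ @QuasiSeparated)
      (Spec (CommRingCat.of A)) := by
    rw [Scheme.singleton_mem_precoverage_iff]
    exact ⟨hsurj.surj, ⟨⟨⟨hflat, hfp⟩, inferInstance⟩, inferInstance⟩⟩
  obtain ⟨Y, v, h, hv, hh⟩ := hloc _ _ hmem (𝟙 _)
  cases hv
  obtain ⟨ψ, rfl⟩ := Spec.map_surjective h
  rw [← Spec.map_comp, ← Spec.map_id] at hh
  have hψ : φ ≫ ψ = 𝟙 _ := Spec.map_injective hh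
  have hψ' : ∀ a : A, ψ.hom (algebraMap A (AdjoinRoot G) a) = a := by
    intro a
    have := congrArg (fun θ => θ.hom a) hψ
    rw [hφ] at this
    exact this
  refine ⟨ψ.hom (AdjoinRoot.root G), ?_⟩
  have h1 := congrArg ψ.hom (AdjoinRoot.eval₂_root G)
  rw [map_zero, Polynomial.hom_eval₂] at h1
  have h2 : ψ.hom.comp (AdjoinRoot.of G) = RingHom.id A := by
    ext a
    exact hψ' a
  rw [h2, eval₂_id] at h1
  exact h1

end FppfLocH8
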