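import Groth.Agent.Lib.CentralExt_lead
import Groth.Agent.Lib.ArtinSchreier_lead

/-! # Rigidity of extensions of a quasi-compact commutative group by a torsion-free constant group (lead) -/

set_option linter.unusedSimpArgs false
set_option linter.unusedVariables false
set_option linter.unusedSectionVars false
set_option linter.style.longLine false
set_option maxHeartbeats 800000

universe u

open CategoryTheory CategoryTheory.Limits MonoidalCategory CartesianMonoidalCategory MonObj GrpObj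
  AlgebraicGeometry Opposite

namespace Groth.Agent.Lib.RigidExt

open SchFpqcCovH7 Groth.Agent.Lib.TorsorSeq Groth.Agent.Lib.ArtinSchreier

theorem grp_aux {Γ : Type*} [Group Γ] (a b x y : Γ) (hcomm : ∀ p q : Γ, p * q = q * p) :
    a * b * (x * y)⁻¹ = (a * x⁻¹) * (b * y⁻¹) := by
  rw [_root_.mul_inv_rev, hcomm y⁻¹ x⁻¹, _root_.mul_assoc a b, ← _root_.mul_assoc b, hcomm b x⁻¹,
    _root_.mul_assoc x⁻¹, ← _root_.mul_assoc a]

theorem ι_mem {X : Scheme.{u}} (W : X.Opens) (a : ↥(W : Scheme.{u})) : W.ι a ∈ W := by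
  have h : W.ι a ∈ Set.range W.ι := Set.mem_range_self a
  rw [Scheme.Opens.range_ι] at h
  exact h

variable {S : Scheme.{u}}

/-- A multiplicative morphism `w : E ⟶ G` to a constant group with torsion-free index group which factors
through a quasi-compact `P` is trivial. -/
theorem const_trivial (Z : Type u) [Group Z] (hZ : ∀ z : Z, IsOfFinOrder z → z = 1)
    (P E G : Over S) [GrpObj E] [GrpObj G] [CompactSpace P.left]
    (eG : G ≅ TwC.const S Z) (hG : TwC.IsConstGrp Z G eG)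
    (v : E ⟶ P) (w : E ⟶ G) (wbar : P ⟶ G) (hw : v ≫ wbar = w)
    (hmul : ∀ (T : Over S) (x y : T ⟶ E), (x * y) ≫ w = (x ≫ w) * (y ≫ w)) : w = 1 := by
  classical
  have hpt1 : TwC.pt S Z 1 ≫ eG.inv = 1 := by
    have h := hG 1 1
    rw [_root_.mul_one] at h
    exact mul_left_cancel (h.trans (_root_.mul_one _).symm)
  have hone : ∀ (T : Over S), (1 : T ⟶ E) ≫ w = 1 := by
    intro T
    have h := hmul T 1 1
    rw [_root_.mul_one] at h
    exact mul_left_cancel (h.symm.trans (_root_.mul_one _).symm)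
  have hpow : ∀ (T : Over S) (x : T ⟶ E) (z : Z), x ≫ w = toUnit T ≫ TwC.pt S Z z ≫ eG.inv →
      ∀ n : ℕ, (x ^ n) ≫ w = toUnit T ≫ TwC.pt S Z (z ^ n) ≫ eG.inv := by
    intro T x z hx n
    induction n with
    | zero =>
      rw [pow_zero, pow_zero, hone T, hpt1]
      exact (MonObj.comp_one (toUnit T)).symm
    | succ n ih =>
      rw [pow_succ, pow_succ, hmul, ih, hx, ← hG]
      exact (MonObj.comp_mul _ _ _).symm
  obtain ⟨w', hw'⟩ : ∃ w' : E ⟶ TwC.const S Z, w' = w ≫ eG.hom := ⟨_, rfl⟩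
  obtain ⟨wb', hwb'⟩ : ∃ wb' : P ⟶ TwC.const S Z, wb' = wbar ≫ eG.hom := ⟨_, rfl⟩
  have hvw : v ≫ wb' = w' := by rw [hwb', hw', ← Category.assoc, hw]
  have hww' : w = w' ≫ eG.inv := by rw [hw', Category.assoc, Iso.hom_inv_id, Category.comp_id]
  let R : Z → (TwC.const S Z).left.Opens := fun z => (Sigma.ι (fun _ : Z => S) z).opensRange
  have hRcov : ∀ c : ↥(TwC.const S Z).left, ∃ z, c ∈ R z := by
    intro c
    obtain ⟨z, y, hy⟩ := (sigmaOpenCover (fun _ : Z => S)).exists_eq c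
    exact ⟨z, y, hy⟩
  have hRdisj : ∀ (z z' : Z) (c : ↥(TwC.const S Z).left), c ∈ R z → c ∈ R z' → z = z' := by
    intro z z' c h1 h2
    obtain ⟨y, hy⟩ := h1
    obtain ⟨y', hy'⟩ := h2
    have h3 := (sigmaι_eq_iff (fun _ : Z => S) z z' y y').mp (hy.trans hy'.symm)
    exact congrArg Sigma.fst h3
  let U : Z → P.left.Opens := fun z => wb'.left ⁻¹ᵁ R z
  let V : Z → E.left.Opens := fun z => w'.left ⁻¹ᵁ R z
  have hVU : ∀ z (e : E.left), e ∈ V z → v.left e ∈ U z := by
    intro z e he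
    show wb'.left (v.left e) ∈ R z
    have h1 : wb'.left (v.left e) = w'.left e := by
      rw [← hvw, Over.comp_left, Scheme.Hom.comp_apply]
    rw [h1]
    exact he
  have hUcov : ∀ p : P.left, ∃ z, p ∈ U z := fun p => hRcov (wb'.left p)
  obtain ⟨t, ht⟩ := isCompact_univ.elim_finite_subcover (fun z => (U z : Set P.left))
      (fun z => (U z).2) (fun p _ => by
        obtain ⟨z, hz⟩ := hUcov p
        exact Set.mem_iUnion.2 ⟨z, hz⟩)
  let A : Set Z := {z | ∃ e : E.left, e ∈ V z}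
  have hAfin : A.Finite := by
    refine Set.Finite.subset t.finite_toSet ?_
    rintro z ⟨e, he⟩
    have h1 := ht (Set.mem_univ (v.left e))
    simp only [Set.mem_iUnion] at h1
    obtain ⟨z', hz't, hz'⟩ := h1
    have h2 : z = z' := hRdisj z z' (wb'.left (v.left e)) (hVU z e he) hz'
    rw [h2]
    exact Finset.mem_coe.2 hz't
  -- the tautological point of `V z`
  have hxV : ∀ z : Z, (Over.homMk (V z).ι rfl : Over.mk ((V z).ι ≫ E.hom) ⟶ E) ≫ w' =
      toUnit (Over.mk ((V z).ι ≫ E.hom)) ≫ TwC.pt S Z z := by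
    intro z
    refine comp_eq_pt w' (V z).ι
      (IsOpenImmersion.lift (Sigma.ι (fun _ : Z => S) z) ((V z).ι ≫ w'.left) ?_) z
      (IsOpenImmersion.lift_fac _ _ _).symm
    rintro _ ⟨a, rfl⟩
    have ha : w'.left ((V z).ι a) ∈ R z := ι_mem (V z) a
    rw [Scheme.Hom.comp_apply]
    exact ha
  have hA1 : ∀ z ∈ A, z = 1 := by
    rintro z ⟨e, he⟩
    apply hZ
    rw [← finite_powers]
    refine hAfin.subset ?_
    intro y hy
    obtain ⟨n, rfl⟩ := (Submonoid.mem_powers_iff y z).1 hy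
    let T : Over S := Over.mk ((V z).ι ≫ E.hom)
    let x : T ⟶ E := Over.homMk (V z).ι rfl
    have hx' : x ≫ w' = toUnit T ≫ TwC.pt S Z z := hxV z
    have hx : x ≫ w = toUnit T ≫ TwC.pt S Z z ≫ eG.inv := by
      rw [hww', ← Category.assoc, hx', Category.assoc]
    have hy' : (x ^ n) ≫ w' = toUnit T ≫ TwC.pt S Z (z ^ n) := by
      rw [hw', ← Category.assoc, hpow T x z hx n, Category.assoc, Category.assoc, Iso.inv_hom_id,
        Category.comp_id]
    have h5 : (x ^ n).left ≫ w'.left = T.hom ≫ Sigma.ι (fun _ : Z => S) (z ^ n) :=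
      congrArg (fun k => k.left) hy'
    let t0 : T.left := ⟨e, he⟩
    have h6 : (Sigma.ι (fun _ : Z => S) (z ^ n)) (T.hom t0) = w'.left ((x ^ n).left t0) := by
      rw [← Scheme.Hom.comp_apply, ← Scheme.Hom.comp_apply, h5]
    exact ⟨(x ^ n).left t0, ⟨T.hom t0, h6⟩⟩
  have hVcov : TopologicalSpace.IsOpenCover V := by
    apply TopologicalSpace.IsOpenCover.mk
    apply eq_top_iff.2
    intro e _
    rw [TopologicalSpace.Opens.mem_iSup]
    exact hRcov (w'.left e)
  rw [hww']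
  apply Over.OverMorphism.ext
  refine hom_ext_of_cover V hVcov _ _ (fun z => ?_)
  by_cases hz : ∃ e : E.left, e ∈ V z
  · have hz1 : z = 1 := hA1 z hz
    have e3 : (Over.homMk (V z).ι rfl : Over.mk ((V z).ι ≫ E.hom) ⟶ E) ≫ (w' ≫ eG.inv) =
        (Over.homMk (V z).ι rfl : Over.mk ((V z).ι ≫ E.hom) ⟶ E) ≫ 1 := by
      rw [← Category.assoc, hxV z, hz1, Category.assoc, hpt1]
      exact (MonObj.comp_one _).trans (MonObj.comp_one _).symm
    exact congrArg (fun k => k.left) e3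
  · haveI : IsEmpty ↑((V z) : Scheme.{u}) := ⟨fun a => hz ⟨(V z).ι a, ι_mem (V z) a⟩⟩
    exact isInitialOfIsEmpty.hom_ext _ _

/-- Rigidity of an extension of a quasi-compact commutative group by a torsion-free constant group. -/
theorem rigid [CompactSpace S] (Z : Type u) [Group Z] (hZ : ∀ z : Z, IsOfFinOrder z → z = 1)
    (P E G : Over S) [GrpObj P] [GrpObj E] [GrpObj G] [IsCommMonObj E] [QuasiCompact P.hom]
    (eG : G ≅ TwC.const S Z) (hG : TwC.IsConstGrp Z G eG)
    (u : G ⟶ E) (v : E ⟶ P) (hex : NonAbH1.IsExactSeq Scheme.fppfPrecoverage u v)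
    (φ : E ≅ E) [IsMonHom φ.hom] (hφu : u ≫ φ.hom = u) (hφv : φ.hom ≫ v = v) :
    φ.hom = 𝟙 E := by
  obtain ⟨hu, hv, huv, hpb, hloc⟩ := hex
  haveI := hu
  haveI := hv
  have hvcov : IsCov v.left := by
    have h1 : NonAbH1.IsLocallyTrivialFor Scheme.fpqcPrecoverage
        (Over.mk v.left : Over P.left) := by
      obtain ⟨R, hR, hs⟩ := hloc
      exact ⟨R, Scheme.fppfPrecoverage_le_fpqcPrecoverage _ hR, hs⟩
    exact isCov_of_locallyTrivial _ h1
  obtain ⟨w, hw⟩ := exists_of_eq_v u v hpb 1 (φ.hom * (𝟙 E)⁻¹) (by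
    rw [MonObj.one_comp v, MonObj.mul_comp φ.hom (𝟙 E)⁻¹ v, GrpObj.inv_comp, hφv, Category.id_comp,
      mul_inv_cancel])
  have hψ : w ≫ u = φ.hom * (𝟙 E)⁻¹ := by rw [hw, _root_.one_mul]
  have hxψ : ∀ (T : Over S) (x : T ⟶ E), (x ≫ w) ≫ u = (x ≫ φ.hom) * x⁻¹ := by
    intro T x
    rw [Category.assoc, hψ, MonObj.comp_mul, GrpObj.comp_inv, Category.comp_id]
  have huw : u ≫ w = 1 := by
    apply u_cancel u v hpb
    rw [hxψ, hφu, mul_inv_cancel, MonObj.one_comp u]
  have hcomm : ∀ (T : Over S) (a b : T ⟶ E), a * b = b * a := fun T a b =>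
    (Hom.commMonoid (X := T) (M := E)).mul_comm a b
  have hmul : ∀ (T : Over S) (x y : T ⟶ E), (x * y) ≫ w = (x ≫ w) * (y ≫ w) := by
    intro T x y
    apply u_cancel u v hpb
    rw [hxψ, MonObj.mul_comp (x ≫ w) (y ≫ w) u, hxψ, hxψ, MonObj.mul_comp x y φ.hom]
    exact grp_aux _ _ _ _ (hcomm T)
  obtain ⟨wbar, hwbar⟩ := desc_of_isCov v hvcov w (by
    intro T a₁ a₂ ha
    obtain ⟨g, hg⟩ := exists_of_eq_v u v hpb a₁ a₂ ha
    rw [hg, hmul, Category.assoc, huw, MonObj.comp_one, _root_.mul_one])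
  haveI : CompactSpace P.left := QuasiCompact.compactSpace_of_compactSpace P.hom
  have hw1 : w = 1 := const_trivial Z hZ P E G eG hG v w wbar hwbar hmul
  have h1 : φ.hom * (𝟙 E)⁻¹ = 1 := by rw [← hψ, hw1, MonObj.one_comp u]
  exact mul_inv_eq_one.1 h1

end Groth.Agent.Lib.RigidExt
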