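import Groth.Agent.Lib.IsogFibre_lead
import Groth.Agent.Lib.RigidExt_lead
import Groth.Agent.S0386
import Groth.Statements.S7800

/-! # Surjective homomorphisms onto group schemes with reduced fibres are flat (lead) -/

set_option backward.isDefEq.respectTransparency false
set_option backward.isDefEq.respectTransparency.types false
set_option linter.unusedSimpArgs false
set_option linter.unusedVariables false
set_option linter.unusedSectionVars false
set_option linter.style.longLine false
set_option linter.style.haveILetI false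
set_option linter.unnecessarySimpa false
set_option maxHeartbeats 800000

universe u

open CategoryTheory CategoryTheory.Limits MonoidalCategory CartesianMonoidalCategory MonObj GrpObj
  AlgebraicGeometry Opposite Topology TopologicalSpace

namespace Groth.Agent.Lib.IsogFibre

open Groth.Agent.Lib.AssocBundle Groth.Agent.Lib.IsogKernel Groth.Agent.Lib.TorsorSeq

section field

variable {k : Type u} [Field k]

/-- a surjective morphism locally of finite type onto a reduced scheme locally of finite type over
a field is flat on a nonempty open of the source (no quasi-compactness) -/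
theorem exists_open_flat' {G H : Over (Spec (CommRingCat.of k))} (φ : G ⟶ H)
    [LocallyOfFiniteType G.hom] [LocallyOfFiniteType H.hom] [IsReduced H.left]
    [Surjective φ.left] (hne : Nonempty H.left) :
    ∃ V : G.left.Opens, (V : Set G.left).Nonempty ∧ Flat (V.ι ≫ φ.left) := by
  haveI : IsNoetherianRing (CommRingCat.of k) := inferInstanceAs (IsNoetherianRing k)
  haveI : IsLocallyNoetherian H.left := LocallyOfFiniteType.isLocallyNoetherian H.hom
  haveI : LocallyOfFiniteType φ.left := Groth.Agent.Lib.GenFlatHom.lft_hom φ
  haveI : LocallyOfFinitePresentation φ.left :=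
    LocallyOfFinitePresentation.iff_locallyOfFiniteType.mpr inferInstance
  obtain ⟨h₀⟩ := hne
  obtain ⟨ξ, -, hmax, -⟩ :=
    Groth.Agent.FlatFibDimH8.exists_generic_of_mem_irreducibleComponents H.left
      (irreducibleComponent h₀) (irreducibleComponent_mem_irreducibleComponents h₀)
  obtain ⟨g, hg⟩ := φ.left.surjective ξ
  have hopen : IsOpen {x : G.left | (φ.left.stalkMap x).hom.Flat} :=
    Groth.Agent.S0386.result φ.left
  have hgF : (φ.left.stalkMap g).hom.Flat := by
    have hdim : ringKrullDim (H.left.presheaf.stalk (φ.left g)) ≤ ((0 : ℕ) : WithBot ℕ∞) := by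
      rw [AlgebraicGeometry.ringKrullDim_stalk_eq_coheight, hg, Order.coheight_eq_zero.mpr hmax]
      simp
    haveI : Ring.KrullDimLE 0 (H.left.presheaf.stalk (φ.left g)) := Ring.krullDimLE_iff.mpr hdim
    have hfield : IsField (H.left.presheaf.stalk (φ.left g)) :=
      Ring.KrullDimLE.isField_of_isReduced
    letI : Field ↥(H.left.presheaf.stalk (φ.left g)) := hfield.toField
    algebraize [(φ.left.stalkMap g).hom]
    change Module.Flat _ _
    infer_instance
  refine ⟨⟨_, hopen⟩, ⟨g, hgF⟩, ?_⟩
  apply Flat.of_stalkMap
  intro x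
  have h1 : (φ.left.stalkMap ((Scheme.Opens.ι ⟨_, hopen⟩) x)).hom.Flat :=
    Groth.Agent.Lib.RigidExt.ι_mem (⟨_, hopen⟩ : G.left.Opens) x
  have h2 : ((Scheme.Opens.ι (⟨_, hopen⟩ : G.left.Opens)).stalkMap x).hom.Flat :=
    Flat.stalkMap _ x
  rw [Scheme.Hom.stalkMap_comp, CommRingCat.hom_comp]
  exact RingHom.Flat.comp h1 h2

/-- a surjective homomorphism onto a reduced group scheme is flat (no quasi-compactness) -/
theorem flat_hom' {G H : Over (Spec (CommRingCat.of k))} [GrpObj G] [GrpObj H] (φ : G ⟶ H)
    [IsMonHom φ] [LocallyOfFiniteType G.hom] [LocallyOfFiniteType H.hom] [IsReduced H.left]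
    [Surjective φ.left] : Flat φ.left := by
  have hne : Nonempty H.left := by
    haveI : Nonempty ↥(Spec (CommRingCat.of k)) := inferInstance
    exact ⟨(η[H]).left.base (Classical.arbitrary ↥(Spec (CommRingCat.of k)))⟩
  obtain ⟨V, hV, hflat⟩ := exists_open_flat' φ hne
  refine Groth.Agent.Lib.GenFlatHom.flat_of_open ((φ ▷ H) ≫ μ[H]) ?_ ?_ φ ?_ V hV hflat
  · intro T x
    rw [act_pt, MonObj.one_comp, _root_.one_mul]
  · intro T g h x
    rw [act_pt, act_pt, act_pt, MonObj.mul_comp, _root_.mul_assoc]
  · intro T g h
    rw [act_pt, MonObj.mul_comp]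

end field

variable {S : Scheme.{u}}

/-- fibrewise flatness for a surjective homomorphism onto a group scheme with reduced fibres
(no quasi-compactness) -/
theorem flat_of_fibres' (G H : Over S) [GrpObj G] [GrpObj H] [Flat G.hom]
    [LocallyOfFinitePresentation G.hom] [LocallyOfFiniteType H.hom]
    (hred : ∀ w : S, IsReduced (Red.bc (S.fromSpecResidueField w) H).left)
    (f : G ⟶ H) [IsMonHom f] [Surjective f.left] : Flat f.left ∧ Flat H.hom := by
  haveI : Flat (f.left ≫ H.hom) := by rw [Over.w f]; infer_instance
  haveI : LocallyOfFinitePresentation (f.left ≫ H.hom) := by rw [Over.w f]; infer_instance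
  have hfib : ∀ w : S, ∃ (Uw Vw : Scheme.{u}) (p1 : Uw ⟶ G.left)
      (p2 : Uw ⟶ Spec (S.residueField w))
      (q1 : Vw ⟶ H.left) (q2 : Vw ⟶ Spec (S.residueField w)) (gw : Uw ⟶ Vw),
      IsPullback p1 p2 (f.left ≫ H.hom) (S.fromSpecResidueField w) ∧
      IsPullback q1 q2 H.hom (S.fromSpecResidueField w) ∧ gw ≫ q1 = p1 ≫ f.left ∧ gw ≫ q2 = p2 ∧
      Flat gw := by
    intro w
    haveI : LocallyOfFiniteType (Red.bc (S.fromSpecResidueField w) G).hom :=
      (inferInstance : LocallyOfFiniteType (pullback.snd G.hom (S.fromSpecResidueField w)))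
    haveI : LocallyOfFiniteType (Red.bc (S.fromSpecResidueField w) H).hom :=
      (inferInstance : LocallyOfFiniteType (pullback.snd H.hom (S.fromSpecResidueField w)))
    haveI := hred w
    have sq := Groth.Agent.Lib.TorsorBC.isPullback_map_left (S.fromSpecResidueField w) f
    haveI : Surjective ((Over.pullback (S.fromSpecResidueField w)).map f).left :=
      MorphismProperty.of_isPullback (P := @Surjective) sq.flip ‹Surjective f.left›
    have hflat : Flat ((Over.pullback (S.fromSpecResidueField w)).map f).left :=
      flat_hom' (k := ↑(S.residueField w)) ((Over.pullback (S.fromSpecResidueField w)).map f)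
    refine ⟨_, _, pullback.fst G.hom (S.fromSpecResidueField w),
      pullback.snd G.hom (S.fromSpecResidueField w),
      pullback.fst H.hom (S.fromSpecResidueField w), pullback.snd H.hom (S.fromSpecResidueField w),
      ((Over.pullback (S.fromSpecResidueField w)).map f).left, ?_,
      IsPullback.of_hasPullback _ _, sq.w, Over.w _, hflat⟩
    rw [Over.w f]
    exact IsPullback.of_hasPullback _ _
  obtain ⟨h1, h2⟩ := Groth.Agent.Lib.AlgSpFibreFlat2H7.flat_of_fibrewise_flat' f.left H.hom hfib
  exact ⟨h1, h2 inferInstance⟩

theorem main7800 (G H : Over S) [GrpObj G] [GrpObj H]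
    [IsSeparated G.hom] [LocallyOfFinitePresentation G.hom] [Flat G.hom]
    [IsSeparated H.hom] [LocallyOfFinitePresentation H.hom] [GeometricallyReduced H.hom]
    (f : G ⟶ H) [IsMonHom f] [Surjective f.left] : Flat f.left ∧ Flat H.hom := by
  have hred : ∀ w : S, IsReduced (Red.bc (S.fromSpecResidueField w) H).left :=
    fun w => (inferInstance : IsReduced (H.hom.fiber w))
  exact flat_of_fibres' G H hred f

end Groth.Agent.Lib.IsogFibre
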