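import Groth.Statements.S18501
import Groth.Agent.Lib.IsogFibre2_lead
import Groth.Agent.Lib.GrpConnComp_helper4
import Groth.Agent.Lib.ConnDepth_helper5

/-! # Homomorphisms of Néron models over a DVR: flat iff onto on identity components (lead) -/

set_option backward.isDefEq.respectTransparency false
set_option backward.isDefEq.respectTransparency.types false
set_option linter.unusedSimpArgs false
set_option linter.unusedVariables false
set_option linter.unusedSectionVars false
set_option linter.style.longLine false
set_option linter.style.haveILetI false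
set_option linter.unnecessarySimpa false
set_option maxHeartbeats 800000

universe u

open CategoryTheory CategoryTheory.Limits MonoidalCategory CartesianMonoidalCategory MonObj GrpObj
  AlgebraicGeometry Opposite Topology TopologicalSpace

namespace Groth.Agent.Lib.NeronIsogFlat

open Groth.Agent.Lib.AssocBundle Groth.Agent.Lib.IsogKernel Groth.Agent.Lib.TorsorSeq

section field

variable {k : Type u} [Field k]

/-- generic flatness at a chosen maximal point of the target which lies in the image -/
theorem exists_open_flat'' {G H : Over (Spec (CommRingCat.of k))} (φ : G ⟶ H)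
    [LocallyOfFiniteType G.hom] [LocallyOfFiniteType H.hom] [IsReduced H.left]
    (ξ : H.left) (hmax : IsMax ξ) (g : G.left) (hg : φ.left g = ξ) :
    ∃ V : G.left.Opens, (V : Set G.left).Nonempty ∧ Flat (V.ι ≫ φ.left) := by
  haveI : IsNoetherianRing (CommRingCat.of k) := inferInstanceAs (IsNoetherianRing k)
  haveI : IsLocallyNoetherian H.left := LocallyOfFiniteType.isLocallyNoetherian H.hom
  haveI : LocallyOfFiniteType φ.left := Groth.Agent.Lib.GenFlatHom.lft_hom φ
  haveI : LocallyOfFinitePresentation φ.left :=
    LocallyOfFinitePresentation.iff_locallyOfFiniteType.mpr inferInstance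
  have hopen : IsOpen {x : G.left | (φ.left.stalkMap x).hom.Flat} :=
    Groth.Agent.S0386.result φ.left
  have hgF : (φ.left.stalkMap g).hom.Flat := by
    have hdim : ringKrullDim (H.left.presheaf.stalk (φ.left g)) ≤ ((0 : ℕ) : WithBot ℕ∞) := by
      rw [AlgebraicGeometry.ringKrullDim_stalk_eq_coheight, hg, Order.coheight_eq_zero.mpr hmax]
      simp
    haveI : Ring.KrullDimLE 0 (H.left.presheaf.stalk (φ.left g)) := Ring.krullDimLE_iff.mpr hdim
    have hfield : IsField (H.left.presheaf.stalk (φ.left g)) :=
      Ring.KrullDimLE.isField_of_isReduced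
    letI : Field ↥(H.left.presheaf.stalk (φ.left g)) := hfield.toField
    algebraize [(φ.left.stalkMap g).hom]
    change Module.Flat _ _
    infer_instance
  refine ⟨⟨_, hopen⟩, ⟨g, hgF⟩, ?_⟩
  apply Flat.of_stalkMap
  intro x
  have h1 : (φ.left.stalkMap ((Scheme.Opens.ι ⟨_, hopen⟩) x)).hom.Flat :=
    Groth.Agent.Lib.RigidExt.ι_mem (⟨_, hopen⟩ : G.left.Opens) x
  have h2 : ((Scheme.Opens.ι (⟨_, hopen⟩ : G.left.Opens)).stalkMap x).hom.Flat :=
    Flat.stalkMap _ x
  rw [Scheme.Hom.stalkMap_comp, CommRingCat.hom_comp]
  exact RingHom.Flat.comp h1 h2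

/-- a homomorphism onto a reduced group scheme whose image contains a maximal point is flat -/
theorem flat_hom_of_generic {G H : Over (Spec (CommRingCat.of k))} [GrpObj G] [GrpObj H]
    (φ : G ⟶ H) [IsMonHom φ] [LocallyOfFiniteType G.hom] [LocallyOfFiniteType H.hom]
    [IsReduced H.left] (ξ : H.left) (hmax : IsMax ξ) (g : G.left) (hg : φ.left g = ξ) :
    Flat φ.left := by
  obtain ⟨V, hV, hflat⟩ := exists_open_flat'' φ ξ hmax g hg
  refine Groth.Agent.Lib.GenFlatHom.flat_of_open ((φ ▷ H) ≫ μ[H]) ?_ ?_ φ ?_ V hV hflat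
  · intro T x
    rw [act_pt, MonObj.one_comp, _root_.one_mul]
  · intro T g h x
    rw [act_pt, act_pt, act_pt, MonObj.mul_comp, _root_.mul_assoc]
  · intro T g h
    rw [act_pt, MonObj.mul_comp]

/-- the connected component of the identity is an irreducible component -/
theorem cc_mem_irreducibleComponents (G : Over (Spec (CommRingCat.of k))) [GrpObj G] :
    connectedComponent (η[G].left (IsLocalRing.closedPoint k)) ∈ irreducibleComponents ↥G.left := by
  obtain ⟨hirr, -⟩ := Groth.Agent.Lib.GrpConnCompH4.main0355 k G
  obtain ⟨Z, hZ, hsub⟩ := exists_mem_irreducibleComponents_subset_of_isIrreducible _ hirr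
  have hZc : Z ⊆ connectedComponent (η[G].left (IsLocalRing.closedPoint k)) :=
    hZ.1.isConnected.isPreconnected.subset_connectedComponent (hsub mem_connectedComponent)
  have hEq : Z = connectedComponent (η[G].left (IsLocalRing.closedPoint k)) :=
    Set.Subset.antisymm hZc hsub
  rw [← hEq]
  exact hZ

/-- an open homomorphism maps the identity component onto the identity component -/
theorem image_cc_eq {G H : Over (Spec (CommRingCat.of k))} [GrpObj G] [GrpObj H] (ψ : G ⟶ H)
    [IsMonHom ψ] (hopen : IsOpenMap ψ.left) [IsLocallyNoetherian G.left]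
    (eG : G.left) (heG : eG = η[G].left (IsLocalRing.closedPoint k))
    (eH : H.left) (heH : eH = η[H].left (IsLocalRing.closedPoint k)) :
    ψ.left '' connectedComponent eG = connectedComponent eH := by
  have hηψ : η[G] ≫ ψ = η[H] := IsMonHom.one_hom ψ
  have hιψ : ψ ≫ ι[H] = ι[G] ≫ ψ := by
    have h := GrpObj.inv_comp (𝟙 G) ψ
    simp only [Hom.inv_def, Category.id_comp] at h
    exact h.symm
  have hμψ : μ[G] ≫ ψ = (ψ ⊗ₘ ψ) ≫ μ[H] := IsMonHom.mul_hom ψ
  have hsubs : Subsingleton ↥(Spec (CommRingCat.of k)) :=
    inferInstanceAs (Subsingleton (PrimeSpectrum k))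
  have hNirr : connectedComponent eG ∈ irreducibleComponents ↥G.left := by
    rw [heG]; exact cc_mem_irreducibleComponents G
  have heGmem : η[G].left (IsLocalRing.closedPoint k) ∈ connectedComponent eG := by
    rw [← heG]; exact mem_connectedComponent
  have heGH : ψ.left eG = eH := by
    have h : (η[G] ≫ ψ).left (IsLocalRing.closedPoint k) = η[H].left (IsLocalRing.closedPoint k) := by
      rw [hηψ]
    rw [heG, heH]
    exact h
  haveI : LocallyConnectedSpace G.left := Groth.Agent.ConnDepth.locallyConnectedSpace_scheme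
  have hNopen : IsOpen (connectedComponent eG) := isOpen_connectedComponent
  have hCopen : IsOpen (ψ.left '' connectedComponent eG) := hopen _ hNopen
  have hsub : ψ.left '' connectedComponent eG ⊆ connectedComponent eH := by
    have hpre : _root_.IsPreconnected (ψ.left '' connectedComponent eG) :=
      isPreconnected_connectedComponent.image _ ψ.left.continuous.continuousOn
    exact hpre.subset_connectedComponent ⟨eG, mem_connectedComponent, heGH⟩
  obtain ⟨U, hU⟩ : ∃ U : H.left.Opens, (U : Set H.left) = ψ.left '' connectedComponent eG :=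
    ⟨⟨_, hCopen⟩, rfl⟩
  have hmemU : ∀ x : H.left, x ∈ U ↔ x ∈ ψ.left '' connectedComponent eG := by
    intro x
    rw [← hU]
    exact Iff.rfl
  have hηι : η[G] ≫ ι[G] = η[G] := by
    have h := _root_.inv_one (G := (𝟙_ (Over (Spec (CommRingCat.of k))) ⟶ G))
    rw [Hom.inv_def, Hom.one_def,
      show toUnit (𝟙_ (Over (Spec (CommRingCat.of k)))) = 𝟙 _ from toUnit_unique _ _,
      Category.id_comp] at h
    exact h
  have hcl : IsClosed (U : Set H.left) := by
    refine OpenSubgrpH4.isClosed_of_stable k H U ?_ ?_ ?_
    · intro pt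
      have hpt : pt = IsLocalRing.closedPoint k := @Subsingleton.elim _ hsubs _ _
      rw [hmemU, ← hηψ]
      refine ⟨η[G].left pt, ?_, rfl⟩
      rw [hpt]
      exact heGmem
    · intro z hz1 hz2
      rw [hmemU] at hz1 hz2 ⊢
      obtain ⟨g₁, hg₁N, hg₁⟩ := hz1
      obtain ⟨g₂, hg₂N, hg₂⟩ := hz2
      have sq1 : IsPullback (H ◁ ψ).left (snd H G).left (snd H H).left ψ.left :=
        Groth.Agent.Lib.FinGrpSplit.isPullback_whiskerLeft H ψ
      obtain ⟨z₁, hz₁a, hz₁b⟩ :=
        Groth.Agent.Lib.ClosedOrbit.exists_of_isPullback sq1 z g₂ hg₂.symm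
      have sq2 : IsPullback (ψ ▷ G).left (fst G G).left (fst H G).left ψ.left :=
        (Groth.Agent.Lib.IsogFibre.sq_whiskerR (X := G) ψ).map (Over.forget _)
      have hz₁c : (fst H G).left z₁ = ψ.left g₁ := by
        have e : (fst H G) = (H ◁ ψ) ≫ fst H H := (whiskerLeft_fst H ψ).symm
        have e' : (fst H G).left z₁ = (fst H H).left ((H ◁ ψ).left z₁) := by rw [e]; rfl
        rw [e', hz₁a, hg₁]
      obtain ⟨w, hwa, hwb⟩ :=
        Groth.Agent.Lib.ClosedOrbit.exists_of_isPullback sq2 z₁ g₁ hz₁c
      have hw2 : (snd G G).left w = g₂ := by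
        have e : (snd G G) = (ψ ▷ G) ≫ snd H G := (whiskerRight_snd ψ G).symm
        have e' : (snd G G).left w = (snd H G).left ((ψ ▷ G).left w) := by rw [e]; rfl
        rw [e', hwa, hz₁b]
      have e : (μ[G] ≫ ψ).left w = μ[H].left z := by
        rw [hμψ, MonoidalCategory.tensorHom_def]
        show μ[H].left ((H ◁ ψ).left ((ψ ▷ G).left w)) = _
        rw [hwa, hz₁a]
      refine ⟨μ[G].left w, ?_, e⟩
      refine Groth.Agent.Lib.GrpConnIrrH4.mul_mem_comp G (connectedComponent eG)
        (connectedComponent eG) hNirr heGmem hNirr w ?_ ?_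
      · rw [hwb]; exact hg₁N
      · rw [hw2]; exact hg₂N
    · intro x hx
      rw [hmemU] at hx ⊢
      obtain ⟨g, hgN, rfl⟩ := hx
      have e : (ι[G] ≫ ψ).left g = ι[H].left (ψ.left g) := by
        rw [← hιψ]; rfl
      refine ⟨ι[G].left g, ?_, e⟩
      have hpre : _root_.IsPreconnected (ι[G].left '' connectedComponent eG) :=
        isPreconnected_connectedComponent.image _ ι[G].left.continuous.continuousOn
      have hιe : ι[G].left eG = eG := by
        have h : (η[G] ≫ ι[G]).left (IsLocalRing.closedPoint k) =
            η[G].left (IsLocalRing.closedPoint k) := by rw [hηι]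
        rw [heG]
        exact h
      exact hpre.subset_connectedComponent ⟨eG, mem_connectedComponent, hιe⟩ ⟨g, hgN, rfl⟩
  have hclopen : IsClopen (U : Set H.left) := ⟨hcl, U.2⟩
  have heHU : eH ∈ (U : Set H.left) := by
    rw [hU]; exact ⟨eG, mem_connectedComponent, heGH⟩
  have hsup : connectedComponent eH ⊆ (U : Set H.left) := hclopen.connectedComponent_subset heHU
  rw [hU] at hsup
  exact Set.Subset.antisymm hsub hsup

end field

section transfer

/-- transfer of a pullback square along an isomorphism of the base point -/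
theorem isPullback_transfer {P X T₁ T₂ S : Scheme.{u}} {p1 : P ⟶ X} {p2 : P ⟶ T₂} {F : X ⟶ S}
    {g₂ : T₂ ⟶ S} (h : IsPullback p1 p2 F g₂) (a : T₁ ⟶ T₂) [IsIso a] (g₁ : T₁ ⟶ S)
    (ha : a ≫ g₂ = g₁) : IsPullback p1 (p2 ≫ inv a) F g₁ := by
  refine IsPullback.of_iso h (Iso.refl _) (Iso.refl _) (asIso a).symm (Iso.refl _) ?_ ?_ ?_ ?_
  · simp
  · simp
  · simp
  · simp [← ha]

variable (R : Type u) [CommRing R]

/-- closed point: `Spec κ(x) ≅ Spec (R/m)` over `Spec R` -/
theorem exists_iso_closedPoint [IsLocalRing R] :
    ∃ a : Spec ((Spec (CommRingCat.of R)).residueField (IsLocalRing.closedPoint R)) ⟶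
        Spec (CommRingCat.of (IsLocalRing.ResidueField R)),
      IsIso a ∧ a ≫ Spec.map (CommRingCat.ofHom (IsLocalRing.residue R)) =
        (Spec (CommRingCat.of R)).fromSpecResidueField (IsLocalRing.closedPoint R) := by
  have hbij := Ideal.bijective_algebraMap_quotient_residueField (IsLocalRing.maximalIdeal R)
  let σ : IsLocalRing.ResidueField R ≃+* (IsLocalRing.maximalIdeal R).ResidueField :=
    RingEquiv.ofBijective
      (algebraMap (R ⧸ IsLocalRing.maximalIdeal R) (IsLocalRing.maximalIdeal R).ResidueField) hbij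
  refine ⟨Spec.map (Scheme.Spec.residueFieldIso (CommRingCat.of R)
      (IsLocalRing.closedPoint R)).inv ≫ Spec.map (σ.toCommRingCatIso.hom), inferInstance, ?_⟩
  rw [Category.assoc, ← Spec.map_comp]
  have e : CommRingCat.ofHom (IsLocalRing.residue R) ≫ σ.toCommRingCatIso.hom =
      CommRingCat.ofHom (algebraMap R (IsLocalRing.closedPoint R).asIdeal.ResidueField) := by
    apply CommRingCat.hom_ext
    apply RingHom.ext
    intro r
    rfl
  rw [e]
  exact Scheme.Spec.map_residueFieldIso_inv_eq_fromSpecResidueField (CommRingCat.of R)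
    (IsLocalRing.closedPoint R)

/-- generic point: `Spec κ(η) ≅ Spec (Frac R)` over `Spec R` -/
theorem exists_iso_genericPoint [IsDomain R] :
    ∃ a : Spec ((Spec (CommRingCat.of R)).residueField
          (⟨⊥, Ideal.isPrime_bot⟩ : PrimeSpectrum R)) ⟶
        Spec (CommRingCat.of (FractionRing R)),
      IsIso a ∧ a ≫ Neron.genPt R =
        (Spec (CommRingCat.of R)).fromSpecResidueField
          (⟨⊥, Ideal.isPrime_bot⟩ : PrimeSpectrum R) := by
  let σ : FractionRing R ≃ₐ[R] (⊥ : Ideal R).ResidueField := FractionRing.algEquiv R _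
  refine ⟨Spec.map (Scheme.Spec.residueFieldIso (CommRingCat.of R)
      (⟨⊥, Ideal.isPrime_bot⟩ : PrimeSpectrum R)).inv ≫
      Spec.map (σ.toRingEquiv.toCommRingCatIso.hom), inferInstance, ?_⟩
  rw [Category.assoc, ← Spec.map_comp]
  have e : CommRingCat.ofHom (algebraMap R (FractionRing R)) ≫
      σ.toRingEquiv.toCommRingCatIso.hom =
      CommRingCat.ofHom (algebraMap R
        (⟨⊥, Ideal.isPrime_bot⟩ : PrimeSpectrum R).asIdeal.ResidueField) := by
    apply CommRingCat.hom_ext
    apply RingHom.ext
    intro r
    exact σ.commutes r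
  rw [e]
  exact Scheme.Spec.map_residueFieldIso_inv_eq_fromSpecResidueField (CommRingCat.of R)
    (⟨⊥, Ideal.isPrime_bot⟩ : PrimeSpectrum R)

end transfer

theorem main18501 (R : Type u) [CommRing R]
    [IsDomain R] [IsDiscreteValuationRing R] (A B : Over (Spec (CommRingCat.of R))) [GrpObj A] [GrpObj B]
    (hA : Neron.IsNeronModelOf R A ((Neron.genericFibre R).obj A) (Iso.refl _))
    (hB : Neron.IsNeronModelOf R B ((Neron.genericFibre R).obj B) (Iso.refl _))
    (φ : A ⟶ B) [IsMonHom φ] (hφ : SGA7.IsIsogenyOver ((Neron.genericFibre R).map φ)) :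
    Flat φ.left ↔
      ((Over.pullback (Spec.map (CommRingCat.ofHom (IsLocalRing.residue R)))).map φ).left.base ''
          connectedComponent ((η[Red.bc (Spec.map (CommRingCat.ofHom (IsLocalRing.residue R))) A]).left.base (IsLocalRing.closedPoint (IsLocalRing.ResidueField R))) =
        connectedComponent ((η[Red.bc (Spec.map (CommRingCat.ofHom (IsLocalRing.residue R))) B]).left.base (IsLocalRing.closedPoint (IsLocalRing.ResidueField R))) := by
  obtain ⟨hAsm, hAsep, hAlft, hAqc, -⟩ := hA
  obtain ⟨hBsm, hBsep, hBlft, hBqc, -⟩ := hB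
  haveI := hAsm
  haveI := hBsm
  haveI := hAlft
  haveI := hBlft
  let sk : Spec (CommRingCat.of (IsLocalRing.ResidueField R)) ⟶ Spec (CommRingCat.of R) :=
    Spec.map (CommRingCat.ofHom (IsLocalRing.residue R))
  let φk : Red.bc sk A ⟶ Red.bc sk B := (Over.pullback sk).map φ
  haveI : Smooth (Red.bc sk A).hom := (inferInstance : Smooth (pullback.snd A.hom sk))
  haveI : Smooth (Red.bc sk B).hom := (inferInstance : Smooth (pullback.snd B.hom sk))
  haveI : LocallyOfFiniteType (Red.bc sk A).hom := inferInstance
  haveI : LocallyOfFiniteType (Red.bc sk B).hom := inferInstance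
  haveI : IsNoetherianRing (CommRingCat.of (IsLocalRing.ResidueField R)) :=
    inferInstanceAs (IsNoetherianRing (IsLocalRing.ResidueField R))
  haveI : IsLocallyNoetherian (Red.bc sk A).left :=
    LocallyOfFiniteType.isLocallyNoetherian (Red.bc sk A).hom
  constructor
  · intro hflat
    haveI : Flat φk.left :=
      MorphismProperty.of_isPullback (P := @Flat)
        (Groth.Agent.Lib.TorsorBC.isPullback_map_left sk φ).flip hflat
    haveI : LocallyOfFinitePresentation (φk.left ≫ (Red.bc sk B).hom) := by
      rw [Over.w φk]; infer_instance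
    haveI : LocallyOfFinitePresentation φk.left :=
      Groth.Agent.Lib.AlgSpLocP9_helper7.locallyOfFinitePresentation_of_comp φk.left
        (Red.bc sk B).hom
    have hopen : IsOpenMap φk.left := φk.left.isOpenMap
    exact image_cc_eq (k := IsLocalRing.ResidueField R) φk hopen _ rfl _ rfl
  · intro himg
    haveI : Flat (φ.left ≫ B.hom) := by rw [Over.w φ]; infer_instance
    haveI : LocallyOfFinitePresentation (φ.left ≫ B.hom) := by rw [Over.w φ]; infer_instance
    refine (Groth.Agent.Lib.AlgSpFibreFlat2H7.flat_of_fibrewise_flat' φ.left B.hom ?_).1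
    intro w
    by_cases hw : w.asIdeal = ⊥
    · obtain rfl : w = (⟨⊥, Ideal.isPrime_bot⟩ : PrimeSpectrum R) := PrimeSpectrum.ext hw
      obtain ⟨a, ha, hag⟩ := exists_iso_genericPoint R
      let φK := (Neron.genericFibre R).map φ
      have hflatK : Flat φK.left := by
        haveI : Surjective φK.left := hφ.1
        haveI : Smooth ((Neron.genericFibre R).obj B).hom :=
          (inferInstance : Smooth (pullback.snd B.hom (Neron.genPt R)))
        haveI : LocallyOfFiniteType ((Neron.genericFibre R).obj A).hom :=
          (inferInstance : LocallyOfFiniteType (pullback.snd A.hom (Neron.genPt R)))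
        haveI : LocallyOfFiniteType ((Neron.genericFibre R).obj B).hom := inferInstance
        haveI : IsReduced ((Neron.genericFibre R).obj B).left :=
          Groth.Agent.Lib.GenFlatHom.isReduced_of_smooth _
        exact Groth.Agent.Lib.IsogFibre.flat_hom' (k := FractionRing R) φK
      refine ⟨_, _, pullback.fst A.hom (Neron.genPt R),
        pullback.snd A.hom (Neron.genPt R) ≫ inv a,
        pullback.fst B.hom (Neron.genPt R), pullback.snd B.hom (Neron.genPt R) ≫ inv a,
        φK.left, ?_, ?_, ?_, ?_, hflatK⟩
      · rw [Over.w φ]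
        exact isPullback_transfer (IsPullback.of_hasPullback _ _) a _ hag
      · exact isPullback_transfer (IsPullback.of_hasPullback _ _) a _ hag
      · exact (Groth.Agent.Lib.TorsorBC.isPullback_map_left (Neron.genPt R) φ).w
      · rw [← Category.assoc]
        congr 1
        exact Over.w φK
    · have hmaxI : w.asIdeal = IsLocalRing.maximalIdeal R :=
        IsLocalRing.eq_maximalIdeal (Ring.DimensionLEOne.maximalOfPrime hw w.isPrime)
      obtain rfl : w = IsLocalRing.closedPoint R := PrimeSpectrum.ext hmaxI
      obtain ⟨a, ha, hag⟩ := exists_iso_closedPoint R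
      have hflatk : Flat φk.left := by
        haveI : IsReduced (Red.bc sk B).left := Groth.Agent.Lib.GenFlatHom.isReduced_of_smooth _
        obtain ⟨ξ, hξcl, hξmax, -⟩ :=
          Groth.Agent.FlatFibDimH8.exists_generic_of_mem_irreducibleComponents (Red.bc sk B).left
            (irreducibleComponent ((η[Red.bc sk B]).left.base
              (IsLocalRing.closedPoint (IsLocalRing.ResidueField R))))
            (irreducibleComponent_mem_irreducibleComponents _)
        have hξmem : ξ ∈ connectedComponent ((η[Red.bc sk B]).left.base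
            (IsLocalRing.closedPoint (IsLocalRing.ResidueField R))) := by
          have h1 : ξ ∈ irreducibleComponent ((η[Red.bc sk B]).left.base
              (IsLocalRing.closedPoint (IsLocalRing.ResidueField R))) := by
            rw [hξcl]; exact subset_closure rfl
          exact isIrreducible_irreducibleComponent.isConnected.isPreconnected.subset_connectedComponent
            mem_irreducibleComponent h1
        obtain ⟨g, -, hg⟩ := himg.ge hξmem
        exact flat_hom_of_generic (k := IsLocalRing.ResidueField R) φk ξ hξmax g hg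
      refine ⟨_, _, pullback.fst A.hom sk, pullback.snd A.hom sk ≫ inv a,
        pullback.fst B.hom sk, pullback.snd B.hom sk ≫ inv a,
        φk.left, ?_, ?_, ?_, ?_, hflatk⟩
      · rw [Over.w φ]
        exact isPullback_transfer (IsPullback.of_hasPullback _ _) a _ hag
      · exact isPullback_transfer (IsPullback.of_hasPullback _ _) a _ hag
      · exact (Groth.Agent.Lib.TorsorBC.isPullback_map_left sk φ).w
      · rw [← Category.assoc]
        congr 1
        exact Over.w φk

end Groth.Agent.Lib.NeronIsogFlat
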