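import Groth.Statements.S5312
import Groth.Statements.S5328
import Groth.Agent.Lib.NeronIsogFlat_lead
import Groth.Agent.Lib.FibreFlatPt_lead

/-! # Flatness of homomorphisms of group schemes: fibrewise, and neutral components (lead) -/

set_option backward.isDefEq.respectTransparency false
set_option backward.isDefEq.respectTransparency.types false
set_option linter.unusedSimpArgs false
set_option linter.unusedVariables false
set_option linter.unusedSectionVars false
set_option linter.style.longLine false
set_option linter.style.haveILetI false
set_option linter.unnecessarySimpa false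
set_option maxHeartbeats 800000

universe u

open CategoryTheory CategoryTheory.Limits MonoidalCategory CartesianMonoidalCategory MonObj GrpObj
  AlgebraicGeometry Opposite Topology TopologicalSpace

namespace Groth.Agent.Lib.GrpFlatLocus

open Groth.Agent.Lib.AssocBundle Groth.Agent.Lib.IsogKernel Groth.Agent.Lib.TorsorSeq

section field

variable {k : Type u} [Field k]

/-- a homomorphism of group schemes over a field which is flat on a nonempty open is flat -/
theorem flat_hom_of_open {G H : Over (Spec (CommRingCat.of k))} [GrpObj G] [GrpObj H]
    (φ : G ⟶ H) [IsMonHom φ] (V : G.left.Opens) (hV : (V : Set G.left).Nonempty)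
    (hflat : Flat (V.ι ≫ φ.left)) : Flat φ.left := by
  refine Groth.Agent.Lib.GenFlatHom.flat_of_open ((φ ▷ H) ≫ μ[H]) ?_ ?_ φ ?_ V hV hflat
  · intro T x
    rw [act_pt, MonObj.one_comp, _root_.one_mul]
  · intro T g h x
    rw [act_pt, act_pt, act_pt, MonObj.mul_comp, _root_.mul_assoc]
  · intro T g h
    rw [act_pt, MonObj.mul_comp]

end field

section top

theorem cc_in_range {X Y : Type*} [TopologicalSpace X] [TopologicalSpace Y] (j : Y → X)
    (hj : Topology.IsEmbedding j) (y : Y) :
    connectedComponentIn (Set.range j) (j y) = j '' connectedComponent y := by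
  apply Set.Subset.antisymm
  · have hC : _root_.IsPreconnected (connectedComponentIn (Set.range j) (j y)) :=
      isPreconnected_connectedComponentIn
    have hsub : connectedComponentIn (Set.range j) (j y) ⊆ Set.range j :=
      connectedComponentIn_subset _ _
    have himg : j '' (j ⁻¹' connectedComponentIn (Set.range j) (j y)) =
        connectedComponentIn (Set.range j) (j y) := Set.image_preimage_eq_of_subset hsub
    have hpre : _root_.IsPreconnected (j ⁻¹' connectedComponentIn (Set.range j) (j y)) := by
      rw [← hj.isInducing.isPreconnected_image, himg]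
      exact hC
    have hy : y ∈ j ⁻¹' connectedComponentIn (Set.range j) (j y) :=
      mem_connectedComponentIn (Set.mem_range_self y)
    have h := hpre.subset_connectedComponent hy
    rw [← himg]
    exact Set.image_mono h
  · have hpre : _root_.IsPreconnected (j '' connectedComponent y) :=
      isPreconnected_connectedComponent.image _ hj.continuous.continuousOn
    exact hpre.subset_connectedComponentIn ⟨y, mem_connectedComponent, rfl⟩
      (Set.image_subset_range _ _)

end top

variable {S : Scheme.{u}}

/-- the fibre datum for the fibrewise criterion -/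
theorem fibData (G H : Over S) (u : G ⟶ H) (w : S)
    (hflat : Flat ((Over.pullback (S.fromSpecResidueField w)).map u).left) :
    ∃ (Uw Vw : Scheme.{u}) (p1 : Uw ⟶ G.left) (p2 : Uw ⟶ Spec (S.residueField w))
      (q1 : Vw ⟶ H.left) (q2 : Vw ⟶ Spec (S.residueField w)) (gw : Uw ⟶ Vw),
      IsPullback p1 p2 (u.left ≫ H.hom) (S.fromSpecResidueField w) ∧
      IsPullback q1 q2 H.hom (S.fromSpecResidueField w) ∧ gw ≫ q1 = p1 ≫ u.left ∧ gw ≫ q2 = p2 ∧
      Flat gw := by
  have sq := Groth.Agent.Lib.TorsorBC.isPullback_map_left (S.fromSpecResidueField w) u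
  refine ⟨_, _, pullback.fst G.hom (S.fromSpecResidueField w),
    pullback.snd G.hom (S.fromSpecResidueField w),
    pullback.fst H.hom (S.fromSpecResidueField w), pullback.snd H.hom (S.fromSpecResidueField w),
    ((Over.pullback (S.fromSpecResidueField w)).map u).left, ?_,
    IsPullback.of_hasPullback _ _, sq.w, Over.w _, hflat⟩
  rw [Over.w u]
  exact IsPullback.of_hasPullback _ _

/-- flatness of the fibre homomorphism gives flatness at the points of the fibre -/
theorem stalk_flat_of_fibre (G H : Over S) (u : G ⟶ H) [Flat G.hom]
    [LocallyOfFinitePresentation G.hom] [LocallyOfFiniteType H.hom] (x : G.left)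
    (hflat : Flat ((Over.pullback (S.fromSpecResidueField (G.hom.base x))).map u).left) :
    (u.left.stalkMap x).hom.Flat := by
  haveI : Flat (u.left ≫ H.hom) := by rw [Over.w u]; infer_instance
  haveI : LocallyOfFinitePresentation (u.left ≫ H.hom) := by rw [Over.w u]; infer_instance
  have hs : H.hom.base (u.left.base x) = G.hom.base x := by
    rw [← Scheme.Hom.comp_apply, Over.w u]
  apply Groth.Agent.Lib.FibreFlatPt.stalk_flat_of_fibre_flat u.left H.hom x
  have hflat' : Flat ((Over.pullback
      (S.fromSpecResidueField (H.hom.base (u.left.base x)))).map u).left := by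
    rw [hs]; exact hflat
  exact fibData G H u _ hflat'

/-- flatness at one point of a fibre gives flatness of the fibre homomorphism -/
theorem fibre_flat_of_stalk (G H : Over S) [GrpObj G] [GrpObj H] (u : G ⟶ H) [IsMonHom u]
    [LocallyOfFinitePresentation G.hom] [LocallyOfFiniteType H.hom] (x : G.left)
    (hx : (u.left.stalkMap x).hom.Flat) :
    Flat ((Over.pullback (S.fromSpecResidueField (G.hom.base x))).map u).left := by
  haveI : LocallyOfFinitePresentation (u.left ≫ H.hom) := by rw [Over.w u]; infer_instance
  haveI : LocallyOfFinitePresentation u.left :=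
    Groth.Agent.Lib.AlgSpLocP9_helper7.locallyOfFinitePresentation_of_comp u.left H.hom
  have hopen : IsOpen {x : G.left | (u.left.stalkMap x).hom.Flat} :=
    Groth.Agent.S0386.result u.left
  let V : G.left.Opens := ⟨_, hopen⟩
  have hVflat : Flat (V.ι ≫ u.left) := by
    apply Flat.of_stalkMap
    intro y
    have h1 : (u.left.stalkMap (V.ι y)).hom.Flat := Groth.Agent.Lib.RigidExt.ι_mem V y
    have h2 : (V.ι.stalkMap y).hom.Flat := Flat.stalkMap _ y
    rw [Scheme.Hom.stalkMap_comp, CommRingCat.hom_comp]
    exact RingHom.Flat.comp h1 h2
  have sqA : IsPullback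
      (pullback.fst G.hom (S.fromSpecResidueField (G.hom.base x)) ∣_ V)
      (pullback.fst G.hom (S.fromSpecResidueField (G.hom.base x)) ⁻¹ᵁ V).ι V.ι
      (pullback.fst G.hom (S.fromSpecResidueField (G.hom.base x))) :=
    isPullback_morphismRestrict _ V
  have sqB := Groth.Agent.Lib.TorsorBC.isPullback_map_left
    (S.fromSpecResidueField (G.hom.base x)) u
  have sq := sqA.paste_vert sqB.flip
  have hflat : Flat ((pullback.fst G.hom (S.fromSpecResidueField (G.hom.base x)) ⁻¹ᵁ V).ι ≫
      ((Over.pullback (S.fromSpecResidueField (G.hom.base x))).map u).left) :=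
    MorphismProperty.of_isPullback (P := @Flat) sq hVflat
  have hne : ((pullback.fst G.hom (S.fromSpecResidueField (G.hom.base x)) ⁻¹ᵁ V :
      (pullback G.hom (S.fromSpecResidueField (G.hom.base x))).Opens) :
      Set ↥(pullback G.hom (S.fromSpecResidueField (G.hom.base x)))).Nonempty := by
    obtain ⟨y, hy1, -⟩ := Scheme.Pullback.exists_preimage_pullback (f := G.hom)
      (g := S.fromSpecResidueField (G.hom.base x)) x
      (IsLocalRing.closedPoint ↑(S.residueField (G.hom.base x)))
      (by rw [Scheme.fromSpecResidueField_apply])
    refine ⟨y, ?_⟩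
    show (pullback.fst G.hom (S.fromSpecResidueField (G.hom.base x))) y ∈ V
    rw [hy1]
    exact hx
  exact flat_hom_of_open (k := ↑(S.residueField (G.hom.base x)))
    ((Over.pullback (S.fromSpecResidueField (G.hom.base x))).map u) _ hne hflat

theorem main5312 (S : Scheme.{u}) (G H : Over S) [GrpObj G] [GrpObj H] (u : G ⟶ H) [IsMonHom u]
    [Flat G.hom] [LocallyOfFinitePresentation G.hom] [LocallyOfFiniteType H.hom] :
    IsOpen {s : S | Flat ((Over.pullback (S.fromSpecResidueField s)).map u).left} ∧
    {x : G.left | (u.left.stalkMap x).hom.Flat} = G.hom.base ⁻¹' {s : S | Flat ((Over.pullback (S.fromSpecResidueField s)).map u).left} := by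
  have h2 : {x : G.left | (u.left.stalkMap x).hom.Flat} = G.hom.base ⁻¹' {s : S | Flat ((Over.pullback (S.fromSpecResidueField s)).map u).left} := by
    ext x
    exact ⟨fun hx => fibre_flat_of_stalk G H u x hx, fun hx => stalk_flat_of_fibre G H u x hx⟩
  refine ⟨?_, h2⟩
  haveI : LocallyOfFinitePresentation (u.left ≫ H.hom) := by rw [Over.w u]; infer_instance
  haveI : LocallyOfFinitePresentation u.left :=
    Groth.Agent.Lib.AlgSpLocP9_helper7.locallyOfFinitePresentation_of_comp u.left H.hom
  have hopen : IsOpen {x : G.left | (u.left.stalkMap x).hom.Flat} :=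
    Groth.Agent.S0386.result u.left
  have hU : {s : S | Flat ((Over.pullback (S.fromSpecResidueField s)).map u).left} =
      G.hom.base '' {x : G.left | (u.left.stalkMap x).hom.Flat} := by
    ext s
    constructor
    · intro hs
      have he : G.hom.base (η[G].left.base s) = s := by
        have hw : η[G].left ≫ G.hom = (𝟙_ (Over S)).hom := Over.w η[G]
        rw [← Scheme.Hom.comp_apply, hw]
        rfl
      refine ⟨η[G].left.base s, ?_, he⟩
      apply stalk_flat_of_fibre G H u
      rw [he]
      exact hs
    · rintro ⟨x, hx, rfl⟩
      exact fibre_flat_of_stalk G H u x hx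
  rw [hU]
  exact G.hom.isOpenMap _ hopen

/-- the unit point of the fibre maps to the unit point -/
theorem unit_fst (G : Over S) [GrpObj G] (s : S)
    (pt : ↥(𝟙_ (Over (Spec (S.residueField s)))).left) :
    (pullback.fst G.hom (S.fromSpecResidueField s)).base
      ((η[Red.bc (S.fromSpecResidueField s) G]).left.base pt) = η[G].left.base s := by
  have key : (η[Red.bc (S.fromSpecResidueField s) G]).left ≫
      pullback.fst G.hom (S.fromSpecResidueField s) =
      ((Functor.LaxMonoidal.ε (Over.pullback (S.fromSpecResidueField s))).left ≫
        pullback.fst (𝟙_ (Over S)).hom (S.fromSpecResidueField s)) ≫ η[G].left := by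
    show ((Functor.LaxMonoidal.ε (Over.pullback (S.fromSpecResidueField s))) ≫
      (Over.pullback (S.fromSpecResidueField s)).map η[G]).left ≫ _ = _
    rw [Over.comp_left, Category.assoc, Category.assoc]
    congr 1
    exact pullback.lift_fst _ _ _
  have hq : (Functor.LaxMonoidal.ε (Over.pullback (S.fromSpecResidueField s))).left ≫
      pullback.fst (𝟙_ (Over S)).hom (S.fromSpecResidueField s) =
      ((Functor.LaxMonoidal.ε (Over.pullback (S.fromSpecResidueField s))).left ≫
        pullback.snd (𝟙_ (Over S)).hom (S.fromSpecResidueField s)) ≫
        S.fromSpecResidueField s := by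
    have hc := pullback.condition (f := (𝟙_ (Over S)).hom) (g := S.fromSpecResidueField s)
    have hc' : pullback.fst (𝟙_ (Over S)).hom (S.fromSpecResidueField s) =
        pullback.snd (𝟙_ (Over S)).hom (S.fromSpecResidueField s) ≫ S.fromSpecResidueField s :=
      (Category.comp_id _).symm.trans hc
    rw [Category.assoc, ← hc']
  rw [hq] at key
  have h2 := congrArg (fun φ : (𝟙_ (Over (Spec (S.residueField s)))).left ⟶ G.left => φ.base pt) key
  simp only [Scheme.Hom.comp_apply] at h2
  exact h2.trans (congrArg (fun z => η[G].left.base z) (Scheme.fromSpecResidueField_apply s _))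

/-- the neutral component of the topological fibre is the image of the identity component of
the scheme-theoretic fibre -/
theorem neutral_eq0 (G : Over S) [GrpObj G] (s : S) :
    connectedComponentIn (G.hom.base ⁻¹' {s}) (η[G].left.base s) =
      (pullback.fst G.hom (S.fromSpecResidueField s)).base ''
        connectedComponent ((η[Red.bc (S.fromSpecResidueField s) G]).left.base
          (IsLocalRing.closedPoint ↑(S.residueField s))) := by
  have hE := unit_fst G s (IsLocalRing.closedPoint ↑(S.residueField s))
  have hemb : Topology.IsEmbedding (pullback.fst G.hom (S.fromSpecResidueField s)).base :=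
    (G.hom.fiberι s).isEmbedding
  have hrange : Set.range (pullback.fst G.hom (S.fromSpecResidueField s)).base =
      G.hom.base ⁻¹' {s} := Scheme.Hom.range_fiberι G.hom s
  rw [← hrange, ← hE]
  exact cc_in_range _ hemb _

theorem main5328 (S : Scheme.{u}) (G H : Over S) [GrpObj G] [GrpObj H]
    [LocallyOfFinitePresentation G.hom] [LocallyOfFinitePresentation H.hom] (u : G ⟶ H) [IsMonHom u] :
    (Flat u.left → u.left.base '' SGA3x.neutralSet G = SGA3x.neutralSet H) ∧
    (Flat G.hom → (∀ s : S, IsReduced (H.hom.fiber s)) → u.left.base '' SGA3x.neutralSet G = SGA3x.neutralSet H →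
      Flat u.left) := by
  haveI : LocallyOfFiniteType H.hom := inferInstance
  constructor
  · intro hflat
    unfold SGA3x.neutralSet
    rw [Set.image_iUnion]
    refine Set.iUnion_congr (fun p => ?_)
    change u.left.base '' connectedComponentIn (G.hom.base ⁻¹' {(p : S)}) (η[G].left.base p) =
      connectedComponentIn (H.hom.base ⁻¹' {(p : S)}) (η[H].left.base p)
    rw [neutral_eq0 G p, neutral_eq0 H p]
    have sqB := Groth.Agent.Lib.TorsorBC.isPullback_map_left (S.fromSpecResidueField p) u
    haveI : Flat ((Over.pullback (S.fromSpecResidueField p)).map u).left :=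
      MorphismProperty.of_isPullback (P := @Flat) sqB.flip hflat
    haveI : LocallyOfFinitePresentation (Red.bc (S.fromSpecResidueField p) G).hom :=
      (inferInstance : LocallyOfFinitePresentation (pullback.snd G.hom (S.fromSpecResidueField p)))
    haveI : LocallyOfFinitePresentation (Red.bc (S.fromSpecResidueField p) H).hom :=
      (inferInstance : LocallyOfFinitePresentation (pullback.snd H.hom (S.fromSpecResidueField p)))
    haveI : LocallyOfFinitePresentation
        (((Over.pullback (S.fromSpecResidueField p)).map u).left ≫
          (Red.bc (S.fromSpecResidueField p) H).hom) := by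
      rw [Over.w ((Over.pullback (S.fromSpecResidueField p)).map u)]; infer_instance
    haveI : LocallyOfFinitePresentation ((Over.pullback (S.fromSpecResidueField p)).map u).left :=
      Groth.Agent.Lib.AlgSpLocP9_helper7.locallyOfFinitePresentation_of_comp
        ((Over.pullback (S.fromSpecResidueField p)).map u).left
        (Red.bc (S.fromSpecResidueField p) H).hom
    have hopen : IsOpenMap ((Over.pullback (S.fromSpecResidueField p)).map u).left.base :=
      ((Over.pullback (S.fromSpecResidueField p)).map u).left.isOpenMap
    haveI : IsLocallyNoetherian (Red.bc (S.fromSpecResidueField p) G).left :=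
      LocallyOfFiniteType.isLocallyNoetherian (Red.bc (S.fromSpecResidueField p) G).hom
    have hcc := Groth.Agent.Lib.NeronIsogFlat.image_cc_eq (k := ↑(S.residueField p))
      ((Over.pullback (S.fromSpecResidueField p)).map u) hopen _ rfl _ rfl
    have h1 : u.left.base '' ((pullback.fst G.hom (S.fromSpecResidueField p)).base ''
        connectedComponent ((η[Red.bc (S.fromSpecResidueField p) G]).left.base
          (IsLocalRing.closedPoint ↑(S.residueField p)))) =
        (pullback.fst H.hom (S.fromSpecResidueField p)).base ''
          (((Over.pullback (S.fromSpecResidueField p)).map u).left.base ''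
            connectedComponent ((η[Red.bc (S.fromSpecResidueField p) G]).left.base
              (IsLocalRing.closedPoint ↑(S.residueField p)))) := by
      rw [Set.image_image, Set.image_image]
      refine Set.image_congr' (fun y => ?_)
      exact (congrArg (fun φ : (pullback G.hom (S.fromSpecResidueField p)) ⟶ H.left => φ.base y)
        sqB.w).symm
    exact h1.trans (congrArg (fun T => (pullback.fst H.hom (S.fromSpecResidueField p)).base '' T) hcc)
  · intro hGflat hred himg
    haveI := hGflat
    haveI : Flat (u.left ≫ H.hom) := by rw [Over.w u]; infer_instance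
    haveI : LocallyOfFinitePresentation (u.left ≫ H.hom) := by rw [Over.w u]; infer_instance
    refine (Groth.Agent.Lib.AlgSpFibreFlat2H7.flat_of_fibrewise_flat' u.left H.hom (fun w => ?_)).1
    apply fibData G H u w
    haveI : LocallyOfFiniteType (Red.bc (S.fromSpecResidueField w) G).hom :=
      (inferInstance : LocallyOfFiniteType (pullback.snd G.hom (S.fromSpecResidueField w)))
    haveI : LocallyOfFiniteType (Red.bc (S.fromSpecResidueField w) H).hom :=
      (inferInstance : LocallyOfFiniteType (pullback.snd H.hom (S.fromSpecResidueField w)))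
    haveI : IsReduced (Red.bc (S.fromSpecResidueField w) H).left := hred w
    obtain ⟨ξ, hξcl, hξmax, -⟩ :=
      Groth.Agent.FlatFibDimH8.exists_generic_of_mem_irreducibleComponents
        (Red.bc (S.fromSpecResidueField w) H).left
        (irreducibleComponent ((η[Red.bc (S.fromSpecResidueField w) H]).left.base
          (IsLocalRing.closedPoint ↑(S.residueField w))))
        (irreducibleComponent_mem_irreducibleComponents _)
    have hξmem : ξ ∈ connectedComponent ((η[Red.bc (S.fromSpecResidueField w) H]).left.base
        (IsLocalRing.closedPoint ↑(S.residueField w))) := by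
      have h1 : ξ ∈ irreducibleComponent ((η[Red.bc (S.fromSpecResidueField w) H]).left.base
          (IsLocalRing.closedPoint ↑(S.residueField w))) := by
        rw [hξcl]; exact subset_closure rfl
      exact isIrreducible_irreducibleComponent.isConnected.isPreconnected.subset_connectedComponent
        mem_irreducibleComponent h1
    have h1 : (pullback.fst H.hom (S.fromSpecResidueField w)).base ξ ∈ SGA3x.neutralSet H := by
      unfold SGA3x.neutralSet
      refine Set.mem_iUnion.mpr ⟨w, ?_⟩
      change _ ∈ connectedComponentIn (H.hom.base ⁻¹' {(w : S)}) (η[H].left.base w)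
      rw [neutral_eq0 H w]
      exact ⟨ξ, hξmem, rfl⟩
    rw [← himg] at h1
    obtain ⟨x, -, hx⟩ := h1
    have sqB := Groth.Agent.Lib.TorsorBC.isPullback_map_left (S.fromSpecResidueField w) u
    obtain ⟨y, hy1, hy2⟩ := Groth.Agent.Lib.ClosedOrbit.exists_of_isPullback sqB ξ x hx.symm
    exact Groth.Agent.Lib.NeronIsogFlat.flat_hom_of_generic (k := ↑(S.residueField w))
      ((Over.pullback (S.fromSpecResidueField w)).map u) ξ hξmax y hy1

end Groth.Agent.Lib.GrpFlatLocus
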