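import Mathlib
import Groth.Agent.Lib.MaxOpenSub_helper4
set_option autoImplicit false
set_option linter.style.haveILetI false

universe v u

open CategoryTheory CategoryTheory.Limits AlgebraicGeometry MonoidalCategory
  CartesianMonoidalCategory MonObj

namespace MaxOpenSub2H4

open MaxOpenSubH4

section abstract

variable {C : Type u} [Category.{v} C] [CartesianMonoidalCategory C]

lemma mrh_aux1 {G B T : C} [GrpObj G] (a : B ⟶ G) (x : T ⟶ G) (yb : T ⟶ B) :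
    lift (x * (yb ≫ a)⁻¹) yb ≫ (fst G B * (snd G B ≫ a)) = x := by
  rw [MonObj.comp_mul, lift_fst, ← Category.assoc, lift_snd, inv_mul_cancel_right]

lemma mrh_aux2 {G H B T : C} [GrpObj G] [GrpObj H] (f : G ⟶ H) [IsMonHom f] (a : B ⟶ G)
    (x : T ⟶ G) (y : T ⟶ H ⊗ B)
    (hxy : x ≫ f = y ≫ (fst H B * (snd H B ≫ a ≫ f))) :
    lift (x * (y ≫ snd H B ≫ a)⁻¹) (y ≫ snd H B) ≫ (f ▷ B) = y := by
  apply CartesianMonoidalCategory.hom_ext
  · rw [Category.assoc, whiskerRight_fst, ← Category.assoc, lift_fst, MonObj.mul_comp,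
      GrpObj.inv_comp, hxy, MonObj.comp_mul]
    simp only [Category.assoc]
    rw [mul_inv_cancel_right]
  · rw [Category.assoc, whiskerRight_snd, lift_snd]

lemma mrh_aux3 {G H B T : C} [GrpObj G] [GrpObj H] (f : G ⟶ H) [IsMonHom f] (a : B ⟶ G)
    (x : T ⟶ G) (y : T ⟶ H ⊗ B) (m : T ⟶ G ⊗ B)
    (h1 : m ≫ (fst G B * (snd G B ≫ a)) = x) (h2 : m ≫ (f ▷ B) = y) :
    m = lift (x * (y ≫ snd H B ≫ a)⁻¹) (y ≫ snd H B) := by
  have h3 : m ≫ snd G B = y ≫ snd H B := by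
    rw [← h2, Category.assoc, whiskerRight_snd]
  apply CartesianMonoidalCategory.hom_ext
  · rw [lift_fst]
    rw [MonObj.comp_mul, ← Category.assoc, h3, Category.assoc] at h1
    exact eq_mul_inv_of_mul_eq h1
  · rw [lift_snd, h3]

lemma isPullback_mulRight_hom {G H B : C} [GrpObj G] [GrpObj H] (f : G ⟶ H) [IsMonHom f]
    (a : B ⟶ G) :
    IsPullback (fst G B * (snd G B ≫ a)) (f ▷ B) f (fst H B * (snd H B ≫ a ≫ f)) := by
  have w : (fst G B * (snd G B ≫ a)) ≫ f = (f ▷ B) ≫ (fst H B * (snd H B ≫ a ≫ f)) := by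
    rw [MonObj.mul_comp, MonObj.comp_mul, whiskerRight_fst, ← Category.assoc (f ▷ B),
      whiskerRight_snd, Category.assoc]
  refine ⟨⟨w⟩, ⟨PullbackCone.IsLimit.mk w
    (fun s => lift (s.fst * (s.snd ≫ snd H B ≫ a)⁻¹) (s.snd ≫ snd H B)) ?_ ?_ ?_⟩⟩
  · intro s
    have := mrh_aux1 a s.fst (s.snd ≫ snd H B)
    rw [Category.assoc] at this
    exact this
  · intro s
    exact mrh_aux2 f a s.fst s.snd s.condition
  · intro s m h1 h2
    exact mrh_aux3 f a s.fst s.snd m h1 h2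

end abstract

section main

variable (P : MorphismProperty Scheme.{u}) [P.IsStableUnderBaseChange]
  [P.DescendsAlong (@Flat ⊓ @Surjective ⊓ @QuasiCompact)]
  {S : Scheme.{u}} {G H : Over S} [GrpObj G] [GrpObj H] (f : G ⟶ H) [IsMonHom f]

set_option maxHeartbeats 1600000 in
/-- translation closure -/
theorem transl_mem (B : Over S) [Flat B.hom] [UniversallyOpen B.hom] (a : B ⟶ G)
    (W : H.left.Opens) (hW : P (f.left ∣_ W))
    (hmax : ∀ W' : H.left.Opens, P (f.left ∣_ W') → W' ≤ W)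
    (y : ↥(H ⊗ B).left) (hy : (fst H B).left y ∈ W) :
    (fst H B * (snd H B ≫ a ≫ f)).left y ∈ W := by
  have sqψ : IsPullback (fst G B * (snd G B ≫ a)).left (f ▷ B).left f.left
      (fst H B * (snd H B ≫ a ≫ f)).left := (isPullback_mulRight_hom f a).map (Over.forget S)
  have sqpr : IsPullback (fst G B).left (f ▷ B).left f.left (fst H B).left :=
    (isPullback_whiskerRight f B).map (Over.forget S)
  have sqB : IsPullback (snd H B).left (fst H B * (snd H B ≫ a ≫ f)).left (toUnit B).left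
      (toUnit H).left := (isPullback_mulRight (a ≫ f)).map (Over.forget S)
  obtain ⟨ψH, hψH⟩ : ∃ ψH : (H ⊗ B).left ⟶ H.left, ψH = (fst H B * (snd H B ≫ a ≫ f)).left :=
    ⟨_, rfl⟩
  obtain ⟨uV, huV⟩ : ∃ uV : (G ⊗ B).left ⟶ (H ⊗ B).left, uV = (f ▷ B).left := ⟨_, rfl⟩
  rw [← hψH] at sqψ sqB ⊢
  rw [← huV] at sqψ sqpr
  haveI hBf : Flat (toUnit B).left := by rw [Over.toUnit_left]; infer_instance
  haveI hBo : UniversallyOpen (toUnit B).left := by rw [Over.toUnit_left]; infer_instance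
  haveI : Flat ψH := MorphismProperty.of_isPullback (P := @Flat) sqB hBf
  haveI : UniversallyOpen ψH := MorphismProperty.of_isPullback (P := @UniversallyOpen) sqB hBo
  -- affine neighbourhoods
  obtain ⟨Bo, hBo_aff, hyB, -⟩ :=
    exists_isAffineOpen_mem_and_subset (x := ψH y) (U := ⊤) (by trivial)
  have hyU : y ∈ (fst H B).left ⁻¹ᵁ W ⊓ ψH ⁻¹ᵁ Bo := ⟨hy, hyB⟩
  obtain ⟨Y₀, hY₀_aff, hyY₀, hY₀_sub⟩ := exists_isAffineOpen_mem_and_subset hyU
  let N : H.left.Opens := ⟨ψH '' (Y₀ : Set _), ψH.isOpenMap _ Y₀.2⟩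
  have hNB : N ≤ Bo := by
    rintro _ ⟨x, hx, rfl⟩
    exact (hY₀_sub hx).2
  have hrψ : Set.range (Y₀.ι ≫ ψH) ⊆ Set.range N.ι := by
    rw [Scheme.Opens.range_ι, Scheme.Hom.comp_base, TopCat.coe_comp, Set.range_comp,
      Scheme.Opens.range_ι]
    exact subset_rfl
  obtain ⟨ψ₀, hψ₀⟩ : ∃ ψ₀ : Y₀.toScheme ⟶ N.toScheme, ψ₀ ≫ N.ι = Y₀.ι ≫ ψH :=
    ⟨IsOpenImmersion.lift N.ι (Y₀.ι ≫ ψH) hrψ, IsOpenImmersion.lift_fac _ _ _⟩
  have hrp : Set.range (Y₀.ι ≫ (fst H B).left) ⊆ Set.range W.ι := by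
    rw [Scheme.Opens.range_ι, Scheme.Hom.comp_base, TopCat.coe_comp, Set.range_comp,
      Scheme.Opens.range_ι]
    rintro _ ⟨x, hx, rfl⟩
    exact (hY₀_sub hx).1
  obtain ⟨p₀, hp₀⟩ : ∃ p₀ : Y₀.toScheme ⟶ W.toScheme, p₀ ≫ W.ι = Y₀.ι ≫ (fst H B).left :=
    ⟨IsOpenImmersion.lift W.ι (Y₀.ι ≫ (fst H B).left) hrp, IsOpenImmersion.lift_fac _ _ _⟩
  have hψ₀_flat : Flat ψ₀ := by
    apply MorphismProperty.of_postcomp @Flat (W' := @IsOpenImmersion) ψ₀ N.ι inferInstance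
    rw [hψ₀]; infer_instance
  have hψ₀_surj : Surjective ψ₀ := by
    refine ⟨fun w => ?_⟩
    obtain ⟨r, hr, hrw⟩ : N.ι w ∈ ψH '' (Y₀ : Set _) := by
      have h0 : N.ι w ∈ Set.range N.ι := Set.mem_range_self w
      rw [Scheme.Opens.range_ι] at h0
      exact h0
    refine ⟨⟨r, hr⟩, ?_⟩
    apply N.ι.isOpenEmbedding.injective
    rw [← Scheme.Hom.comp_apply, hψ₀, Scheme.Hom.comp_apply]
    exact hrw
  have hψ₀_qc : QuasiCompact ψ₀ := by
    haveI : CompactSpace Y₀.toScheme := isCompact_iff_compactSpace.mp hY₀_aff.isCompact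
    haveI : IsAffine Bo.toScheme := hBo_aff
    haveI : QuasiSeparatedSpace N.toScheme :=
      quasiSeparatedSpace_of_quasiSeparated (H.left.homOfLE hNB)
    infer_instance
  -- squares
  have sqR : IsPullback (uV ⁻¹ᵁ Y₀).ι (uV ∣_ Y₀) uV Y₀.ι :=
    (isPullback_morphismRestrict _ Y₀).flip
  have sq1 : IsPullback ((uV ⁻¹ᵁ Y₀).ι ≫ (fst G B).left) (uV ∣_ Y₀) f.left
      (Y₀.ι ≫ (fst H B).left) := sqR.paste_horiz sqpr
  have sq1' : IsPullback ((uV ⁻¹ᵁ Y₀).ι ≫ (fst G B).left) (uV ∣_ Y₀) f.left (p₀ ≫ W.ι) := by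
    rw [hp₀]; exact sq1
  have sq1'' := IsPullback.of_right' sq1' (isPullback_morphismRestrict f.left W).flip
  have hP0 : P (uV ∣_ Y₀) := P.of_isPullback sq1'' hW
  have sq2 : IsPullback ((uV ⁻¹ᵁ Y₀).ι ≫ (fst G B * (snd G B ≫ a)).left) (uV ∣_ Y₀) f.left
      (Y₀.ι ≫ ψH) := sqR.paste_horiz sqψ
  have sq2' : IsPullback ((uV ⁻¹ᵁ Y₀).ι ≫ (fst G B * (snd G B ≫ a)).left) (uV ∣_ Y₀) f.left
      (ψ₀ ≫ N.ι) := by rw [hψ₀]; exact sq2
  have sq2'' := IsPullback.of_right' sq2' (isPullback_morphismRestrict f.left N).flip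
  have hPN : P (f.left ∣_ N) :=
    MorphismProperty.DescendsAlong.of_isPullback (Q := @Flat ⊓ @Surjective ⊓ @QuasiCompact)
      sq2''.flip ⟨⟨hψ₀_flat, hψ₀_surj⟩, hψ₀_qc⟩ hP0
  exact hmax N hPN ⟨y, hyY₀, rfl⟩

set_option maxHeartbeats 1600000 in
theorem main5389 (P : MorphismProperty Scheme.{u}) [P.IsStableUnderBaseChange]
    [IsZariskiLocalAtTarget P]
    [P.DescendsAlong (@Flat ⊓ @Surjective ⊓ @QuasiCompact)]
    (S : Scheme.{u}) (G H : Over S) [GrpObj G] [GrpObj H] (u : G ⟶ H) [IsMonHom u]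
    [Flat G.hom] [UniversallyOpen G.hom]
    (W : H.left.Opens) (hW : P (u.left ∣_ W))
    (hmax : ∀ W' : H.left.Opens, P (u.left ∣_ W') → W' ≤ W) :
    IsOpen (G.hom.base '' ((u.left ⁻¹ᵁ W : G.left.Opens) : Set G.left)) ∧
    (∀ g ∈ (u.left ⁻¹ᵁ W : G.left.Opens), ∀ p : ↥(𝟙_ (Over S)).left,
      (𝟙_ (Over S)).hom.base p = G.hom.base g → η[G].left.base p ∈ (u.left ⁻¹ᵁ W : G.left.Opens)) ∧
    (∀ g ∈ (u.left ⁻¹ᵁ W : G.left.Opens), ι[G].left.base g ∈ (u.left ⁻¹ᵁ W : G.left.Opens)) ∧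
    (∀ z : ↥(G ⊗ G).left, (fst G G).left.base z ∈ (u.left ⁻¹ᵁ W : G.left.Opens) →
      (snd G G).left.base z ∈ (u.left ⁻¹ᵁ W : G.left.Opens) →
      μ[G].left.base z ∈ (u.left ⁻¹ᵁ W : G.left.Opens)) := by
  obtain ⟨V, hVdef⟩ : ∃ V : G.left.Opens, V = u.left ⁻¹ᵁ W := ⟨_, rfl⟩
  rw [← hVdef]
  have hVmem : ∀ g : G.left, g ∈ V ↔ u.left g ∈ W := fun g => by rw [hVdef]; rfl
  -- inversion
  have h_inv : ∀ g ∈ V, ι[G].left g ∈ V := by
    haveI : IsIso ι[G].left := (Over.forget S).map_isIso ι[G]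
    haveI : IsIso ι[H].left := (Over.forget S).map_isIso ι[H]
    have e2 : ι[G].left ≫ u.left = u.left ≫ ι[H].left := by
      rw [← Over.comp_left, ← Over.comp_left, GrpObj.inv_hom]
    have sqι : IsPullback ι[G].left u.left u.left ι[H].left := IsPullback.of_horiz_isIso ⟨e2⟩
    have sqR₁ : IsPullback (u.left ⁻¹ᵁ (ι[H].left ⁻¹ᵁ W)).ι (u.left ∣_ (ι[H].left ⁻¹ᵁ W)) u.left
        (ι[H].left ⁻¹ᵁ W).ι := (isPullback_morphismRestrict _ _).flip
    have sq1 := sqR₁.paste_horiz sqι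
    rw [← morphismRestrict_ι] at sq1
    have sq1'' := IsPullback.of_right' sq1 (isPullback_morphismRestrict u.left W).flip
    have hP1 : P (u.left ∣_ (ι[H].left ⁻¹ᵁ W)) := P.of_isPullback sq1'' hW
    have hle := hmax _ hP1
    intro g hg
    rw [hVmem] at hg ⊢
    have e3 : u.left (ι[G].left g) = ι[H].left (u.left g) := by
      rw [← Scheme.Hom.comp_apply, e2, Scheme.Hom.comp_apply]
    rw [e3]
    apply hle
    show ι[H].left (ι[H].left (u.left g)) ∈ W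
    have e4 : ι[H].left (ι[H].left (u.left g)) = u.left g := by
      rw [← Scheme.Hom.comp_apply, ← Over.comp_left, GrpObj.inv_comp_inv]; rfl
    rw [e4]; exact hg
  -- multiplication
  have h_mul : ∀ z : ↥(G ⊗ G).left, (fst G G).left z ∈ V → (snd G G).left z ∈ V →
      μ[G].left z ∈ V := by
    obtain ⟨iV, hiV⟩ : ∃ iV : Over.mk (V.ι ≫ G.hom) ⟶ G, iV.left = V.ι :=
      ⟨Over.homMk V.ι rfl, rfl⟩
    haveI : Flat (Over.mk (V.ι ≫ G.hom)).hom := by
      show Flat (V.ι ≫ G.hom); infer_instance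
    haveI : UniversallyOpen (Over.mk (V.ι ≫ G.hom)).hom := by
      show UniversallyOpen (V.ι ≫ G.hom); infer_instance
    intro z hz1 hz2
    have hz : z ∈ Set.range (iV ⊗ₘ iV).left := by
      rw [Over.tensorHom_left, Scheme.Pullback.range_map]
      refine ⟨?_, ?_⟩
      · show (fst G G).left z ∈ Set.range iV.left
        rw [hiV, Scheme.Opens.range_ι]; exact hz1
      · show (snd G G).left z ∈ Set.range iV.left
        rw [hiV, Scheme.Opens.range_ι]; exact hz2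
    obtain ⟨z', rfl⟩ := hz
    have key := transl_mem P u (Over.mk (V.ι ≫ G.hom)) iV W hW hmax
      (((iV ≫ u) ▷ Over.mk (V.ι ≫ G.hom)).left z') ?_
    · rw [hVmem]
      have e5 : ((iV ≫ u) ▷ Over.mk (V.ι ≫ G.hom)) ≫
          (fst H (Over.mk (V.ι ≫ G.hom)) * (snd H (Over.mk (V.ι ≫ G.hom)) ≫ iV ≫ u)) =
          ((iV ⊗ₘ iV) ≫ μ[G]) ≫ u := by
        rw [← tensor_mul_eq (iV ≫ u), Category.assoc, IsMonHom.mul_hom, ← Category.assoc,
          tensorHom_comp_tensorHom]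
      rw [← Scheme.Hom.comp_apply, ← Over.comp_left, e5, Over.comp_left, Over.comp_left,
        Scheme.Hom.comp_apply, Scheme.Hom.comp_apply] at key
      exact key
    · rw [← Scheme.Hom.comp_apply, ← Over.comp_left, whiskerRight_fst, Over.comp_left,
        Over.comp_left, Scheme.Hom.comp_apply, Scheme.Hom.comp_apply, ← hVmem]
      have e6 : iV.left ((fst (Over.mk (V.ι ≫ G.hom)) (Over.mk (V.ι ≫ G.hom))).left z') =
          (fst G G).left ((iV ⊗ₘ iV).left z') := by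
        rw [← Scheme.Hom.comp_apply, ← Scheme.Hom.comp_apply, ← Over.comp_left,
          ← Over.comp_left, tensorHom_fst]
      rw [e6]; exact hz1
  refine ⟨?_, ?_, h_inv, h_mul⟩
  · exact G.hom.isOpenMap _ V.2
  · intro g hg p hp
    have hz := h_mul ((lift (𝟙 G) ι[G]).left g) ?_ ?_
    · rw [← Scheme.Hom.comp_apply, ← Over.comp_left, GrpObj.right_inv, Over.comp_left,
        Scheme.Hom.comp_apply, Over.toUnit_left] at hz
      have hp' : p = G.hom g := hp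
      rw [hp']; exact hz
    · rw [← Scheme.Hom.comp_apply, ← Over.comp_left, lift_fst]; exact hg
    · rw [← Scheme.Hom.comp_apply, ← Over.comp_left, lift_snd]; exact h_inv g hg

end main

end MaxOpenSub2H4
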