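import Mathlib
import Groth.Agent.Lib.SmoothFib_helper4
import Groth.Agent.Lib.LocFlatSch_helper9

/-!
# Smooth locus and base change; smoothness on infinitesimal neighbourhoods (helper4)
-/

universe u

set_option linter.style.haveILetI false

open CategoryTheory CategoryTheory.Limits AlgebraicGeometry

namespace Groth.Agent.Lib.UnramLocH4

/-- Smoothness at a point descends along an arbitrary base change, provided `f` is flat at the
image point. -/
theorem stalk_smooth_descent_of_flat_stalk {X Y X' Y' : Scheme.{u}} {f : X ⟶ Y} {g : Y' ⟶ Y}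
    {f' : X' ⟶ Y'} {g' : X' ⟶ X} (sq : IsPullback g' f' f g) [LocallyOfFinitePresentation f]
    [LocallyOfFinitePresentation f'] (x' : X')
    (hs : (f'.stalkMap x').hom.FormallySmooth) (hf : (f.stalkMap (g'.base x')).hom.Flat) :
    (f.stalkMap (g'.base x')).hom.FormallySmooth := by
  haveI : LocallyOfFinitePresentation (f'.fiberToSpecResidueField (f'.base x')) :=
    MorphismProperty.pullback_snd _ _ inferInstance
  haveI : LocallyOfFinitePresentation (f.fiberToSpecResidueField (g.base (f'.base x'))) :=
    MorphismProperty.pullback_snd _ _ inferInstance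
  have hpt' : (f'.fiberι (f'.base x')).base (f'.asFiber x') = x' := f'.fiberι_asFiber x'
  have sq' : IsPullback (f'.fiberι (f'.base x')) (f'.fiberToSpecResidueField (f'.base x')) f'
      (Y'.fromSpecResidueField (f'.base x')) := IsPullback.of_hasPullback _ _
  have h1 : ((f'.fiberToSpecResidueField (f'.base x')).stalkMap
      (f'.asFiber x')).hom.FormallySmooth := by
    apply stalk_smooth_baseChange sq'
    exact (stalk_congr_point (P := RingHom.FormallySmooth) f' hpt').mpr hs
  let Φ : f'.fiber (f'.base x') ⟶ f.fiber (g.base (f'.base x')) :=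
    pullback.map f' (Y'.fromSpecResidueField (f'.base x')) f
      (Y.fromSpecResidueField (g.base (f'.base x'))) g' (Spec.map (g.residueFieldMap (f'.base x')))
      g sq.w.symm (g.SpecMap_residueFieldMap_fromSpecResidueField (f'.base x')).symm
  have sqF : IsPullback Φ (f'.fiberToSpecResidueField (f'.base x'))
      (f.fiberToSpecResidueField (g.base (f'.base x')))
      (Spec.map (g.residueFieldMap (f'.base x'))) :=
    isPullback_fiberToSpecResidueField_of_isPullback sq (f'.base x')
  haveI : Flat (Spec.map (g.residueFieldMap (f'.base x'))) := by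
    rw [Flat.SpecMap_iff]
    letI := (g.residueFieldMap (f'.base x')).hom.toAlgebra
    exact (RingHom.flat_algebraMap_iff (R := Y.residueField (g.base (f'.base x')))
      (S := Y'.residueField (f'.base x'))).mpr inferInstance
  have h2 := (stalk_smooth_iff_of_isPullback_of_flat sqF (f'.asFiber x')).mp h1
  have hΦ : Φ ≫ f.fiberι (g.base (f'.base x')) = f'.fiberι (f'.base x') ≫ g' :=
    pullback.lift_fst _ _ _
  have hpt : (f.fiberι (g.base (f'.base x'))).base (Φ.base (f'.asFiber x')) = g'.base x' := by
    rw [← Scheme.Hom.comp_apply, hΦ, Scheme.Hom.comp_apply, hpt']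
  have h3 := fibProp_of_lfp f (g.base (f'.base x')) _ h2
    ((stalk_congr_point (P := RingHom.Flat) f hpt).mpr hf)
  exact (stalk_congr_point (P := RingHom.FormallySmooth) f hpt).mp h3

theorem main2155 {X S X' S' : Scheme.{u}} (f : X ⟶ S) (g : S' ⟶ S) (f' : X' ⟶ S') (g' : X' ⟶ X)
    (h : IsPullback g' f' f g) [LocallyOfFinitePresentation f] [LocallyOfFinitePresentation f']
    (hflat : Flat f ∨ Flat g) :
    f'.smoothLocus = g' ⁻¹ᵁ f.smoothLocus := by
  ext x'
  show (f'.stalkMap x').hom.FormallySmooth ↔ (f.stalkMap (g'.base x')).hom.FormallySmooth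
  refine ⟨fun hs => ?_, stalk_smooth_baseChange h x'⟩
  rcases hflat with hf | hg
  · exact stalk_smooth_descent_of_flat_stalk h x' hs (Flat.stalkMap f _)
  · exact (stalk_smooth_iff_of_isPullback_of_flat h x').mp hs

theorem main1359 {X S : Scheme.{u}} (f : X ⟶ S) [IsLocallyNoetherian S]
    [LocallyOfFinitePresentation f]
    (I : S.IdealSheafData) (h : ∀ n : ℕ, Smooth (pullback.snd f (I ^ (n + 1)).subschemeι))
    (x : X) (hx : f x ∈ I.support) :
    x ∈ f.smoothLocus := by
  haveI : IsLocallyNoetherian X := LocallyOfFiniteType.isLocallyNoetherian f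
  have hflat : (f.stalkMap x).hom.Flat :=
    Groth.Agent.Lib.LocFlatSch.flat_stalkMap_of_flat_infinitesimal f I
      (fun n => haveI := h n; inferInstance) x hx
  have hx1 : f x ∈ Set.range (I ^ (0 + 1)).subschemeι := by
    rw [Scheme.IdealSheafData.range_subschemeι]
    exact hx
  obtain ⟨z, hz⟩ := hx1
  obtain ⟨x₀, hx₀, -⟩ := Scheme.Pullback.exists_preimage_pullback x z hz.symm
  haveI := h 0
  have sq : IsPullback (pullback.fst f (I ^ (0 + 1)).subschemeι)
      (pullback.snd f (I ^ (0 + 1)).subschemeι) f (I ^ (0 + 1)).subschemeι :=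
    IsPullback.of_hasPullback _ _
  have hs0 : ((pullback.snd f (I ^ (0 + 1)).subschemeι).stalkMap x₀).hom.FormallySmooth := by
    have : x₀ ∈ (pullback.snd f (I ^ (0 + 1)).subschemeι).smoothLocus := by
      rw [Scheme.Hom.smoothLocus_eq_top]; trivial
    exact this
  have := stalk_smooth_descent_of_flat_stalk sq x₀ hs0
    ((stalk_congr_point (P := RingHom.Flat) f hx₀).mpr hflat)
  exact (stalk_congr_point (P := RingHom.FormallySmooth) f hx₀).mp this

end Groth.Agent.Lib.UnramLocH4
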