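import Groth.Statements.S5310
import Groth.Agent.S0114
import Groth.Agent.Lib.MaxOpenSub2_helper4
import Groth.Agent.Lib.SmoothFib2_helper4
import Groth.Agent.Lib.UnramDesc_helper4
import Groth.Agent.Lib.UnramLoc_helper4
import Groth.Agent.Lib.SchSrcLocal_helper7
import Groth.Agent.Lib.FinGrpSplit_lead
import Groth.Agent.Lib.ClosedOrbit_lead

/-! # The largest open on which a homomorphism is flat+lfp / smooth / etale is an open subgroup
(lead) -/

set_option backward.isDefEq.respectTransparency false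
set_option backward.isDefEq.respectTransparency.types false
set_option linter.unusedSimpArgs false
set_option linter.unusedVariables false
set_option linter.unusedSectionVars false
set_option linter.style.longLine false
set_option linter.style.haveILetI false
set_option linter.unnecessarySimpa false
set_option maxHeartbeats 800000

universe u

open CategoryTheory CategoryTheory.Limits MonoidalCategory CartesianMonoidalCategory MonObj GrpObj
  AlgebraicGeometry Opposite Topology TopologicalSpace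

namespace Groth.Agent.Lib.GrpPLocus

open Groth.Agent.Lib.UnramLocH4 MaxOpenSubH4 MaxOpenSub2H4

section descent

variable {X Y X' Y' A : Scheme.{u}} {f : X ⟶ Y} {g : Y' ⟶ Y} {f' : X' ⟶ Y'} {g' : X' ⟶ X}

theorem dl_flp (sq : IsPullback g' f' f g) [Flat g] [LocallyOfFinitePresentation g]
    (j : A ⟶ X') [IsOpenImmersion j] [Surjective (j ≫ g')]
    (h1 : Flat (j ≫ f')) (h2 : LocallyOfFinitePresentation (j ≫ f')) :
    Flat f ∧ LocallyOfFinitePresentation f := by
  haveI : Flat g' := MorphismProperty.of_isPullback (P := @Flat) sq.flip ‹Flat g›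
  haveI : LocallyOfFinitePresentation g' :=
    MorphismProperty.of_isPullback (P := @LocallyOfFinitePresentation) sq.flip ‹_›
  haveI : Flat (j ≫ g') := inferInstance
  haveI : LocallyOfFinitePresentation (j ≫ g') := inferInstance
  have e : (j ≫ g') ≫ f = (j ≫ f') ≫ g := by
    simp only [Category.assoc, sq.w]
  haveI : Flat ((j ≫ g') ≫ f) := by rw [e]; infer_instance
  haveI : LocallyOfFinitePresentation ((j ≫ g') ≫ f) := by rw [e]; infer_instance
  exact ⟨Groth.Agent.Lib.SchSrcLocal_helper7.flat_of_comp_surjective (j ≫ g') f,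
    Groth.Agent.S0114.result (j ≫ g') f⟩

theorem dl_smooth (sq : IsPullback g' f' f g) [Flat g] [LocallyOfFinitePresentation g]
    (j : A ⟶ X') [IsOpenImmersion j] [Surjective (j ≫ g')] (h : Smooth (j ≫ f')) :
    Smooth f := by
  haveI := h
  obtain ⟨hflat, hlfp⟩ := dl_flp sq j inferInstance inferInstance
  haveI := hflat
  haveI := hlfp
  haveI : LocallyOfFinitePresentation f' :=
    MorphismProperty.of_isPullback (P := @LocallyOfFinitePresentation) sq hlfp
  have hloc := main2155 f g f' g' sq (Or.inr ‹Flat g›)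
  rw [← Scheme.Hom.smoothLocus_eq_top_iff, eq_top_iff]
  intro x _
  obtain ⟨a, rfl⟩ := (j ≫ g').surjective x
  have h1 : ((j ≫ f').stalkMap a).hom.FormallySmooth := by
    have h0 : a ∈ (j ≫ f').smoothLocus := by
      rw [Scheme.Hom.smoothLocus_eq_top]; trivial
    exact h0
  have h2 : (f'.stalkMap (j.base a)).hom.FormallySmooth :=
    (stalk_transfer RingHom.FormallySmooth.respectsIso j f' (j ≫ f') (𝟙 _)
      (Category.comp_id _).symm a).mp h1
  have h3 : j.base a ∈ f'.smoothLocus := h2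
  rw [hloc] at h3
  exact h3

theorem dl_etale (sq : IsPullback g' f' f g) [Flat g] [LocallyOfFinitePresentation g]
    (j : A ⟶ X') [IsOpenImmersion j] [Surjective (j ≫ g')] (h : Etale (j ≫ f')) :
    Etale f := by
  haveI := h
  haveI : Smooth f := dl_smooth sq j inferInstance
  haveI : LocallyOfFinitePresentation f := inferInstance
  haveI : FormallyUnramified f := by
    apply formallyUnramified_of_forall_stalk
    intro x
    obtain ⟨a, rfl⟩ := (j ≫ g').surjective x
    have h1 : ((j ≫ f').stalkMap a).hom.FormallyUnramified :=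
      FormallyUnramified.stalkMap (j ≫ f') a
    have h2 : (f'.stalkMap (j.base a)).hom.FormallyUnramified :=
      (stalk_transfer RingHom.FormallyUnramified.respectsIso j f' (j ≫ f') (𝟙 _)
        (Category.comp_id _).symm a).mp h1
    have e1 : sq.isoPullback.hom ≫ pullback.snd f g = f' ≫ 𝟙 _ := by
      rw [Category.comp_id]; exact sq.isoPullback_hom_snd
    have h3 : ((pullback.snd f g).stalkMap
        (sq.isoPullback.hom.base (j.base a))).hom.FormallyUnramified :=
      (stalk_transfer RingHom.FormallyUnramified.respectsIso sq.isoPullback.hom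
        (pullback.snd f g) f' (𝟙 _) e1 (j.base a)).mp h2
    have h4 := stalk_unramified_descent f g _ h3
    have hpt : (pullback.fst f g).base (sq.isoPullback.hom.base (j.base a)) =
        g'.base (j.base a) := by
      rw [← Scheme.Hom.comp_apply, sq.isoPullback_hom_fst]
    exact (stalk_congr_point (P := RingHom.FormallyUnramified) f hpt).mp h4
  exact Etale.of_formallyUnramified_of_flat f

end descent

section generic

variable (P : MorphismProperty Scheme.{u}) [P.RespectsIso] [P.IsStableUnderBaseChange]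

set_option maxHeartbeats 3200000 in
theorem generic
    (hF1 : ∀ {X Y : Scheme.{u}} (f : X ⟶ Y), P f → Flat f ∧ LocallyOfFinitePresentation f)
    (hF4 : ∀ {X Y X' Y' A : Scheme.{u}} {f : X ⟶ Y} {g : Y' ⟶ Y} {f' : X' ⟶ Y'} {g' : X' ⟶ X}
      (sq : IsPullback g' f' f g) [Flat g] [LocallyOfFinitePresentation g] (j : A ⟶ X')
      [IsOpenImmersion j] [Surjective (j ≫ g')], P (j ≫ f') → P f)
    (S : Scheme.{u}) (G H : Over S) [GrpObj G] [GrpObj H] (u : G ⟶ H) [IsMonHom u]
    (hfl : Flat G.hom ∨ Flat H.hom)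
    (hfp : LocallyOfFinitePresentation G.hom ∨ LocallyOfFinitePresentation H.hom)
    (V : G.left.Opens) (hV : P (V.ι ≫ u.left))
    (hmax : ∀ W : G.left.Opens, P (W.ι ≫ u.left) → W ≤ V) :
    IsOpen (G.hom.base '' (V : Set G.left)) ∧
    (∀ g ∈ V, ∀ p : ↥(𝟙_ (Over S)).left, (𝟙_ (Over S)).hom.base p = G.hom.base g →
      η[G].left.base p ∈ V) ∧
    (∀ g ∈ V, ι[G].left.base g ∈ V) ∧
    (∀ z : ↥(G ⊗ G).left, (fst G G).left.base z ∈ V → (snd G G).left.base z ∈ V →
      μ[G].left.base z ∈ V) := by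
  obtain ⟨hVflat, hVlfp⟩ := hF1 _ hV
  haveI := hVflat
  haveI := hVlfp
  have hVo_flat : Flat (V.ι ≫ G.hom) := by
    rcases hfl with h | h
    · haveI := h; infer_instance
    · haveI := h
      have e : V.ι ≫ G.hom = (V.ι ≫ u.left) ≫ H.hom := by rw [Category.assoc, Over.w]
      rw [e]; infer_instance
  have hVo_lfp : LocallyOfFinitePresentation (V.ι ≫ G.hom) := by
    rcases hfp with h | h
    · haveI := h; infer_instance
    · haveI := h
      have e : V.ι ≫ G.hom = (V.ι ≫ u.left) ≫ H.hom := by rw [Category.assoc, Over.w]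
      rw [e]; infer_instance
  -- inversion
  have h_inv : ∀ g ∈ V, ι[G].left g ∈ V := by
    haveI : IsIso ι[G].left := (Over.forget S).map_isIso ι[G]
    haveI : IsIso ι[H].left := (Over.forget S).map_isIso ι[H]
    have e1 : (ι[G].left ⁻¹ᵁ V).ι ≫ u.left =
        ((ι[G].left ∣_ V) ≫ V.ι ≫ u.left) ≫ ι[H].left := by
      have e2 : ι[G].left ≫ u.left = u.left ≫ ι[H].left := by
        rw [← Over.comp_left, ← Over.comp_left, GrpObj.inv_hom]
      have e3 : ι[H].left ≫ ι[H].left = 𝟙 _ := by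
        rw [← Over.comp_left, GrpObj.inv_comp_inv]; rfl
      rw [Category.assoc, Category.assoc, ← Category.assoc (ι[G].left ∣_ V), morphismRestrict_ι,
        Category.assoc, ← Category.assoc ι[G].left, e2, Category.assoc, e3, Category.comp_id]
    have hW : P ((ι[G].left ⁻¹ᵁ V).ι ≫ u.left) := by
      rw [e1]
      exact (P.cancel_right_of_respectsIso _ ι[H].left).mpr
        ((P.cancel_left_of_respectsIso (ι[G].left ∣_ V) _).mpr hV)
    have hle := hmax _ hW
    intro g hg
    apply hle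
    show ι[G].left (ι[G].left g) ∈ V
    have e4 : ι[G].left (ι[G].left g) = g := by
      rw [← Scheme.Hom.comp_apply, ← Over.comp_left, GrpObj.inv_comp_inv]; rfl
    rw [e4]; exact hg
  -- multiplication
  have h_mul : ∀ z : ↥(G ⊗ G).left, (fst G G).left z ∈ V → (snd G G).left z ∈ V →
      μ[G].left z ∈ V := by
    obtain ⟨B, iV, hrange, hflat, hlfp⟩ : ∃ (B : Over S) (iV : B ⟶ G),
        Set.range iV.left.base = (V : Set G.left) ∧ Flat B.hom ∧
          LocallyOfFinitePresentation B.hom :=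
      ⟨Over.mk (V.ι ≫ G.hom), Over.homMk V.ι rfl, Scheme.Opens.range_ι V, hVo_flat, hVo_lfp⟩
    have sqψ : IsPullback (fst G B * (snd G B ≫ iV)).left (u ▷ B).left u.left
        (fst H B * (snd H B ≫ iV ≫ u)).left := (isPullback_mulRight_hom u iV).map (Over.forget S)
    have sqpr : IsPullback (fst G B).left (u ▷ B).left u.left (fst H B).left :=
      (isPullback_whiskerRight u B).map (Over.forget S)
    have sqBG : IsPullback (snd G B).left (fst G B * (snd G B ≫ iV)).left (toUnit B).left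
        (toUnit G).left := (isPullback_mulRight iV).map (Over.forget S)
    have sqBH : IsPullback (snd H B).left (fst H B * (snd H B ≫ iV ≫ u)).left (toUnit B).left
        (toUnit H).left := (isPullback_mulRight (iV ≫ u)).map (Over.forget S)
    have hmulG : (fst G B * (snd G B ≫ iV)) = (G ◁ iV) ≫ μ[G] := by
      have hμ : fst G G * snd G G = μ[G] := by
        rw [Hom.mul_def, lift_fst_snd, Category.id_comp]
      rw [← hμ, MonObj.comp_mul, whiskerLeft_fst, whiskerLeft_snd]
    obtain ⟨ψG, hψG⟩ : ∃ ψG : (G ⊗ B).left ⟶ G.left, ψG = (fst G B * (snd G B ≫ iV)).left :=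
      ⟨_, rfl⟩
    obtain ⟨ψH, hψH⟩ : ∃ ψH : (H ⊗ B).left ⟶ H.left,
      ψH = (fst H B * (snd H B ≫ iV ≫ u)).left := ⟨_, rfl⟩
    obtain ⟨uB, huB⟩ : ∃ uB : (G ⊗ B).left ⟶ (H ⊗ B).left, uB = (u ▷ B).left := ⟨_, rfl⟩
    obtain ⟨pG, hpG⟩ : ∃ pG : (G ⊗ B).left ⟶ G.left, pG = (fst G B).left := ⟨_, rfl⟩
    obtain ⟨pH, hpH⟩ : ∃ pH : (H ⊗ B).left ⟶ H.left, pH = (fst H B).left := ⟨_, rfl⟩
    rw [← hψG, ← hψH, ← huB] at sqψ
    rw [← huB, ← hpG, ← hpH] at sqpr
    rw [← hψG] at sqBG
    rw [← hψH] at sqBH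
    haveI hBf : Flat (toUnit B).left := by rw [Over.toUnit_left]; exact hflat
    haveI hBl : LocallyOfFinitePresentation (toUnit B).left := by
      rw [Over.toUnit_left]; exact hlfp
    haveI : Flat ψG := MorphismProperty.of_isPullback (P := @Flat) sqBG hBf
    haveI : LocallyOfFinitePresentation ψG :=
      MorphismProperty.of_isPullback (P := @LocallyOfFinitePresentation) sqBG hBl
    haveI : Flat ψH := MorphismProperty.of_isPullback (P := @Flat) sqBH hBf
    haveI : LocallyOfFinitePresentation ψH :=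
      MorphismProperty.of_isPullback (P := @LocallyOfFinitePresentation) sqBH hBl
    -- the open Ω₀
    obtain ⟨Ω₀, hΩ₀⟩ : ∃ Ω₀ : (G ⊗ B).left.Opens, Ω₀ = pG ⁻¹ᵁ V := ⟨_, rfl⟩
    have hΩP : P (Ω₀.ι ≫ uB) := by
      have big : IsPullback (pG ∣_ V) ((pG ⁻¹ᵁ V).ι ≫ uB) (V.ι ≫ u.left) pH :=
        (isPullback_morphismRestrict pG V).paste_vert sqpr
      rw [hΩ₀]
      exact P.of_isPullback big hV
    have hψopen : IsOpenMap ψG.base := ψG.isOpenMap
    obtain ⟨N, hN⟩ : ∃ N : G.left.Opens, (N : Set G.left) = ψG.base '' (Ω₀ : Set _) :=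
      ⟨⟨_, hψopen _ Ω₀.2⟩, rfl⟩
    have hsub : Ω₀ ≤ ψG ⁻¹ᵁ N := by
      intro x hx
      show ψG.base x ∈ (N : Set G.left)
      rw [hN]; exact ⟨x, hx, rfl⟩
    have sqN : IsPullback (ψG ∣_ N) ((ψG ⁻¹ᵁ N).ι ≫ uB) (N.ι ≫ u.left) ψH :=
      (isPullback_morphismRestrict ψG N).paste_vert sqψ
    have hr : Set.range Ω₀.ι.base ⊆ Set.range (ψG ⁻¹ᵁ N).ι.base := by
      rw [Scheme.Opens.range_ι, Scheme.Opens.range_ι]; exact hsub
    obtain ⟨j, hj⟩ : ∃ j : (Ω₀ : Scheme.{u}) ⟶
        ((ψG ⁻¹ᵁ N : (G ⊗ B).left.Opens) : Scheme.{u}), j ≫ (ψG ⁻¹ᵁ N).ι = Ω₀.ι :=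
      ⟨IsOpenImmersion.lift _ _ hr, IsOpenImmersion.lift_fac _ _ _⟩
    haveI : IsOpenImmersion j := by
      haveI : IsOpenImmersion (j ≫ (ψG ⁻¹ᵁ N).ι) := by rw [hj]; infer_instance
      exact IsOpenImmersion.of_comp j (ψG ⁻¹ᵁ N).ι
    haveI : Surjective (j ≫ (ψG ∣_ N)) := by
      refine ⟨fun n => ?_⟩
      have hn : N.ι.base n ∈ (N : Set G.left) := by
        have h0 : N.ι.base n ∈ Set.range N.ι.base := ⟨n, rfl⟩
        rw [Scheme.Opens.range_ι] at h0; exact h0
      rw [hN] at hn
      obtain ⟨ω, hω, hωn⟩ := hn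
      refine ⟨⟨ω, hω⟩, ?_⟩
      apply N.ι.isOpenEmbedding.injective
      have e : (j ≫ (ψG ∣_ N)) ≫ N.ι = Ω₀.ι ≫ ψG := by
        rw [Category.assoc, morphismRestrict_ι, ← Category.assoc, hj]
      have e' := congrArg (fun φ : (Ω₀ : Scheme.{u}) ⟶ G.left => φ.base ⟨ω, hω⟩) e
      exact e'.trans hωn
    have hPj : P (j ≫ ((ψG ⁻¹ᵁ N).ι ≫ uB)) := by
      rw [← Category.assoc, hj]; exact hΩP
    have hPN : P (N.ι ≫ u.left) := hF4 sqN j hPj
    have hle := hmax N hPN
    intro z hz1 hz2
    have sqW : IsPullback (G ◁ iV).left (snd G B).left (snd G G).left iV.left :=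
      Groth.Agent.Lib.FinGrpSplit.isPullback_whiskerLeft G iV
    have hz2' : (snd G G).left.base z ∈ Set.range iV.left.base := by rw [hrange]; exact hz2
    obtain ⟨b, hb⟩ := hz2'
    obtain ⟨z', hz'1, hz'2⟩ :=
      Groth.Agent.Lib.ClosedOrbit.exists_of_isPullback sqW z b hb.symm
    have hfst : pG.base z' = (fst G G).left.base z := by
      have e : (G ◁ iV) ≫ fst G G = fst G B := whiskerLeft_fst G iV
      have e' := congrArg (fun φ : G ⊗ B ⟶ G => φ.left.base z') e
      rw [hpG, ← hz'1]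
      exact e'.symm
    have hzΩ : z' ∈ Ω₀ := by
      rw [hΩ₀]
      show pG.base z' ∈ V
      rw [hfst]; exact hz1
    have hψz : ψG.base z' = μ[G].left.base z := by
      have e' := congrArg (fun φ : G ⊗ B ⟶ G => φ.left.base z') hmulG
      rw [hψG, ← hz'1]
      exact e'
    have hmem : ψG.base z' ∈ (N : Set G.left) := by rw [hN]; exact ⟨z', hzΩ, rfl⟩
    show μ[G].left.base z ∈ V
    rw [← hψz]
    exact hle hmem
  refine ⟨?_, ?_, h_inv, h_mul⟩
  · have h1 : G.hom.base '' (V : Set G.left) = Set.range (V.ι ≫ G.hom) := by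
      rw [Scheme.Hom.comp_base, TopCat.coe_comp, Set.range_comp, Scheme.Opens.range_ι]
    rw [h1]
    haveI := hVo_flat
    haveI := hVo_lfp
    exact (V.ι ≫ G.hom).isOpenMap.isOpen_range
  · intro g hg p hp
    have hz := h_mul ((lift (𝟙 G) ι[G]).left g) ?_ ?_
    · rw [← Scheme.Hom.comp_apply, ← Over.comp_left, GrpObj.right_inv, Over.comp_left,
        Scheme.Hom.comp_apply, Over.toUnit_left] at hz
      have hp' : p = G.hom g := hp
      rw [hp']; exact hz
    · rw [← Scheme.Hom.comp_apply, ← Over.comp_left, lift_fst]; exact hg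
    · rw [← Scheme.Hom.comp_apply, ← Over.comp_left, lift_snd]; exact h_inv g hg

end generic

theorem main5310 (S : Scheme.{u}) (G H : Over S) [GrpObj G] [GrpObj H]
    (u : G ⟶ H) [IsMonHom u]
    (hfl : Flat G.hom ∨ Flat H.hom)
    (hfp : LocallyOfFinitePresentation G.hom ∨ LocallyOfFinitePresentation H.hom)
    (P : MorphismProperty Scheme.{u})
    (hP : (∀ (X Y : Scheme.{u}) (f : X ⟶ Y), P f ↔ (Flat f ∧ LocallyOfFinitePresentation f)) ∨
      (∀ (X Y : Scheme.{u}) (f : X ⟶ Y), P f ↔ Smooth f) ∨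
        (∀ (X Y : Scheme.{u}) (f : X ⟶ Y), P f ↔ Etale f))
    (V : G.left.Opens) (hV : P (V.ι ≫ u.left))
    (hmax : ∀ W : G.left.Opens, P (W.ι ≫ u.left) → W ≤ V) :
    IsOpen (G.hom.base '' (V : Set G.left)) ∧
    (∀ g ∈ V, ∀ p : ↥(𝟙_ (Over S)).left, (𝟙_ (Over S)).hom.base p = G.hom.base g →
      η[G].left.base p ∈ V) ∧
    (∀ g ∈ V, ι[G].left.base g ∈ V) ∧
    (∀ z : ↥(G ⊗ G).left, (fst G G).left.base z ∈ V → (snd G G).left.base z ∈ V →
      μ[G].left.base z ∈ V) := by
  rcases hP with h | h | h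
  · obtain rfl : P = (@Flat ⊓ @LocallyOfFinitePresentation : MorphismProperty Scheme.{u}) :=
      MorphismProperty.ext _ _ (fun X Y f => h X Y f)
    exact generic (@Flat ⊓ @LocallyOfFinitePresentation) (fun f hf => hf)
      (by intro X Y X' Y' A f g f' g' sq _ _ j _ _ hj; exact dl_flp sq j hj.1 hj.2)
      S G H u hfl hfp V hV hmax
  · obtain rfl : P = @Smooth := MorphismProperty.ext _ _ (fun X Y f => h X Y f)
    exact generic @Smooth
      (fun f hf => by haveI : Smooth f := hf; exact ⟨inferInstance, inferInstance⟩)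
      (by intro X Y X' Y' A f g f' g' sq _ _ j _ _ hj; exact dl_smooth sq j hj)
      S G H u hfl hfp V hV hmax
  · obtain rfl : P = @Etale := MorphismProperty.ext _ _ (fun X Y f => h X Y f)
    exact generic @Etale
      (fun f hf => by haveI : Etale f := hf; exact ⟨inferInstance, inferInstance⟩)
      (by intro X Y X' Y' A f g f' g' sq _ _ j _ _ hj; exact dl_etale sq j hj)
      S G H u hfl hfp V hV hmax

end Groth.Agent.Lib.GrpPLocus
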