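import Groth.Statements.S5394
import Groth.Agent.Lib.GrpPLocus_lead
import Groth.Agent.Lib.GrpFlatLocus_lead
import Groth.Agent.Lib.GrpDense_helper4
import Groth.Agent.Lib.FlatFibDim_helper8
import Groth.Prelude.Def_ActBC

/-! # (x, y) ↦ f(x) f(y) is an fppf covering of a flat group (lead) -/

set_option backward.isDefEq.respectTransparency false
set_option backward.isDefEq.respectTransparency.types false
set_option linter.unusedSimpArgs false
set_option linter.unusedVariables false
set_option linter.unusedSectionVars false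
set_option linter.style.longLine false
set_option linter.style.haveILetI false
set_option linter.unnecessarySimpa false
set_option maxHeartbeats 800000

universe u

open CategoryTheory CategoryTheory.Limits MonoidalCategory CartesianMonoidalCategory MonObj GrpObj
  AlgebraicGeometry Opposite Topology TopologicalSpace

namespace Groth.Agent.Lib.FppfMulCover

open Groth.Agent.Lib.UnramLocH4 MaxOpenSubH4 MaxOpenSub2H4

theorem dense_of_maximal (Y : Scheme.{u}) (W : Y.Opens)
    (h : ∀ y : Y, closure {y} ∈ irreducibleComponents ↥Y → y ∈ W) : Dense (W : Set Y) := by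
  rw [dense_iff_inter_open]
  intro U hU hne
  obtain ⟨y, hy⟩ := hne
  obtain ⟨ξ, hξcl, -, -⟩ :=
    Groth.Agent.FlatFibDimH8.exists_generic_of_mem_irreducibleComponents Y
      (irreducibleComponent y) (irreducibleComponent_mem_irreducibleComponents _)
  have hyξ : y ∈ closure ({ξ} : Set Y) := by
    rw [← hξcl]; exact mem_irreducibleComponent
  have hspec : ξ ⤳ y := specializes_iff_mem_closure.mpr hyξ
  have hξU : ξ ∈ U := hspec.mem_open hU hy
  have hξW : ξ ∈ W := by
    apply h
    rw [← hξcl]
    exact irreducibleComponent_mem_irreducibleComponents _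
  exact ⟨ξ, hξU, hξW⟩

variable {S : Scheme.{u}}

set_option maxHeartbeats 1600000 in
theorem core5394 (G B : Over S) [GrpObj G] (a : B ⟶ G)
    [Flat a.left] [LocallyOfFinitePresentation a.left] [Flat B.hom]
    [LocallyOfFinitePresentation B.hom]
    (hmaxpt : ∀ (s : S) (ξ : ↥(pullback G.hom (S.fromSpecResidueField s))),
      closure {ξ} ∈ irreducibleComponents ↥(pullback G.hom (S.fromSpecResidueField s)) →
      (pullback.fst G.hom (S.fromSpecResidueField s)).base ξ ∈ Set.range a.left.base) :
    Flat ((a ⊗ₘ a) ≫ μ[G]).left ∧ LocallyOfFinitePresentation ((a ⊗ₘ a) ≫ μ[G]).left ∧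
      Surjective ((a ⊗ₘ a) ≫ μ[G]).left := by
  have hflp : Flat ((a ⊗ₘ a) ≫ μ[G]).left ∧
      LocallyOfFinitePresentation ((a ⊗ₘ a) ≫ μ[G]).left := by
    rw [tensor_mul_eq a, Over.comp_left]
    haveI : Flat (a ▷ B).left := MorphismProperty.of_isPullback (P := @Flat)
      ((isPullback_whiskerRight a B).map (Over.forget S)) ‹Flat a.left›
    haveI : LocallyOfFinitePresentation (a ▷ B).left :=
      MorphismProperty.of_isPullback (P := @LocallyOfFinitePresentation)
        ((isPullback_whiskerRight a B).map (Over.forget S)) ‹LocallyOfFinitePresentation a.left›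
    haveI hBf : Flat (toUnit B).left := by rw [Over.toUnit_left]; infer_instance
    haveI hBl : LocallyOfFinitePresentation (toUnit B).left := by
      rw [Over.toUnit_left]; infer_instance
    haveI : Flat (fst G B * (snd G B ≫ a)).left := MorphismProperty.of_isPullback (P := @Flat)
      ((isPullback_mulRight a).map (Over.forget S)) hBf
    haveI : LocallyOfFinitePresentation (fst G B * (snd G B ≫ a)).left :=
      MorphismProperty.of_isPullback (P := @LocallyOfFinitePresentation)
        ((isPullback_mulRight a).map (Over.forget S)) hBl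
    exact ⟨inferInstance, inferInstance⟩
  refine ⟨hflp.1, hflp.2, ⟨fun g => ?_⟩⟩
  obtain ⟨s, hs⟩ : ∃ s : S, s = G.hom.base g := ⟨_, rfl⟩
  have hopen : IsOpenMap a.left.base := a.left.isOpenMap
  obtain ⟨W, hW⟩ : ∃ W : G.left.Opens, (W : Set G.left) = Set.range a.left.base :=
    ⟨⟨_, hopen.isOpen_range⟩, rfl⟩
  have hdense : Dense (((pullback.fst G.hom (S.fromSpecResidueField s)) ⁻¹ᵁ W :
      (Red.bc (S.fromSpecResidueField s) G).left.Opens) :
        Set ↥(Red.bc (S.fromSpecResidueField s) G).left) := by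
    apply dense_of_maximal
    intro ξ hξ
    show (pullback.fst G.hom (S.fromSpecResidueField s)).base ξ ∈ (W : Set G.left)
    rw [hW]; exact hmaxpt s ξ hξ
  have hrange : Set.range (pullback.fst G.hom (S.fromSpecResidueField s)).base =
      G.hom.base ⁻¹' {s} := Scheme.Hom.range_fiberι G.hom s
  have hg : g ∈ Set.range (pullback.fst G.hom (S.fromSpecResidueField s)).base := by
    rw [hrange]; exact hs.symm
  obtain ⟨gs, hgs⟩ := hg
  have h7823 := Groth.Agent.Lib.GrpDenseH4.main7823 (↑(S.residueField s))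
    (Red.bc (S.fromSpecResidueField s) G) _ _ hdense hdense
  have hgs' : gs ∈ (Set.univ : Set ↥(Red.bc (S.fromSpecResidueField s) G).left) := trivial
  rw [← h7823] at hgs'
  obtain ⟨zs, ⟨hz1, hz2⟩, hz3⟩ := hgs'
  obtain ⟨z, hz⟩ : ∃ z : ↥(G ⊗ G).left,
      z = (pullback.fst (G ⊗ G).hom (S.fromSpecResidueField s)).base
        ((Functor.LaxMonoidal.μ (Over.pullback (S.fromSpecResidueField s)) G G).left.base zs) :=
    ⟨_, rfl⟩
  have hΦ1 : (fst G G).left.base z = (pullback.fst G.hom (S.fromSpecResidueField s)).base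
      ((fst (Red.bc (S.fromSpecResidueField s) G)
        (Red.bc (S.fromSpecResidueField s) G)).left.base zs) := by
    have h := ActBC.μ_left_fst_fst (S.fromSpecResidueField s) G G
    have h2 := congrArg (fun m => m.base zs) h
    rw [hz]
    exact h2
  have hΦ2 : (snd G G).left.base z = (pullback.fst G.hom (S.fromSpecResidueField s)).base
      ((snd (Red.bc (S.fromSpecResidueField s) G)
        (Red.bc (S.fromSpecResidueField s) G)).left.base zs) := by
    have h := ActBC.μ_left_fst_snd (S.fromSpecResidueField s) G G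
    have h2 := congrArg (fun m => m.base zs) h
    rw [hz]
    exact h2
  have hΦ3 : μ[G].left.base z = (pullback.fst G.hom (S.fromSpecResidueField s)).base
      (μ[Red.bc (S.fromSpecResidueField s) G].left.base zs) := by
    have h3 : μ[Red.bc (S.fromSpecResidueField s) G].left.base zs =
        ((Over.pullback (S.fromSpecResidueField s)).map μ[G]).left.base
          ((Functor.LaxMonoidal.μ (Over.pullback (S.fromSpecResidueField s)) G G).left.base zs) :=
      rfl
    have sq := Groth.Agent.Lib.TorsorBC.isPullback_map_left (S.fromSpecResidueField s) μ[G]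
    have h2 := congrArg (fun m => m.base
      ((Functor.LaxMonoidal.μ (Over.pullback (S.fromSpecResidueField s)) G G).left.base zs)) sq.w
    rw [hz, h3]
    exact h2.symm
  have hzW1 : (fst G G).left.base z ∈ Set.range a.left.base := by
    rw [hΦ1, ← hW]; exact hz1
  have hzW2 : (snd G G).left.base z ∈ Set.range a.left.base := by
    rw [hΦ2, ← hW]; exact hz2
  have hrm : Set.range (a ⊗ₘ a).left.base =
      (fst G G).left.base ⁻¹' Set.range a.left.base ∩
        (snd G G).left.base ⁻¹' Set.range a.left.base :=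
    Scheme.Pullback.range_map (f := B.hom) (g := B.hom) G.hom G.hom a.left a.left (𝟙 S)
      (by rw [Category.comp_id]; exact (Over.w a).symm)
      (by rw [Category.comp_id]; exact (Over.w a).symm)
  have hzr : z ∈ Set.range (a ⊗ₘ a).left.base := by
    rw [hrm]; exact ⟨hzW1, hzW2⟩
  obtain ⟨w, hw⟩ := hzr
  refine ⟨w, ?_⟩
  show μ[G].left.base ((a ⊗ₘ a).left.base w) = g
  rw [hw, hΦ3, hz3, hgs]

theorem main5394 (S : Scheme.{u}) (G X : Over S) [GrpObj G] [LocallyOfFinitePresentation G.hom]
    [Flat G.hom] [LocallyOfFinitePresentation X.hom] (f : X ⟶ G)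
    (hf : ∀ (s : S) (g : ↥(G.hom.base ⁻¹' {s})),
      closure {g} ∈ irreducibleComponents ↥(G.hom.base ⁻¹' {s}) →
      ∃ x : X.left, f.left.base x = g.1 ∧ (f.left.stalkMap x).hom.Flat)
    (V : X.left.Opens) (hV : (V : Set X.left) = {x : X.left | (f.left.stalkMap x).hom.Flat}) :
    letI fV : Over.mk (V.ι ≫ X.hom) ⟶ G := Over.homMk (V.ι ≫ f.left)
      ((Category.assoc _ _ _).trans (congrArg (V.ι ≫ ·) (Over.w f)))
    Flat ((fV ⊗ₘ fV) ≫ μ[G]).left ∧ LocallyOfFinitePresentation ((fV ⊗ₘ fV) ≫ μ[G]).left ∧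
      Surjective ((fV ⊗ₘ fV) ≫ μ[G]).left := by
  let fV : Over.mk (V.ι ≫ X.hom) ⟶ G := Over.homMk (V.ι ≫ f.left)
      ((Category.assoc _ _ _).trans (congrArg (V.ι ≫ ·) (Over.w f)))
  show Flat ((fV ⊗ₘ fV) ≫ μ[G]).left ∧ LocallyOfFinitePresentation ((fV ⊗ₘ fV) ≫ μ[G]).left ∧
      Surjective ((fV ⊗ₘ fV) ≫ μ[G]).left
  haveI : LocallyOfFinitePresentation (f.left ≫ G.hom) := by rw [Over.w f]; infer_instance
  haveI : LocallyOfFinitePresentation f.left :=
    Groth.Agent.Lib.AlgSpLocP9_helper7.locallyOfFinitePresentation_of_comp f.left G.hom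
  have hVmem : ∀ v : ↥(V : Scheme.{u}), V.ι.base v ∈ (V : Set X.left) := by
    intro v
    have h0 : V.ι.base v ∈ Set.range V.ι.base := ⟨v, rfl⟩
    rw [Scheme.Opens.range_ι] at h0
    exact h0
  have hflatV : Flat (V.ι ≫ f.left) := by
    rw [Flat.iff_flat_stalkMap]
    intro v
    have h1 : (f.left.stalkMap (V.ι.base v)).hom.Flat := by
      have h0 := hVmem v
      rw [hV] at h0
      exact h0
    exact (stalk_transfer RingHom.Flat.respectsIso V.ι f.left (V.ι ≫ f.left) (𝟙 _)
      (Category.comp_id _).symm v).mpr h1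
  haveI : Flat fV.left := hflatV
  haveI : LocallyOfFinitePresentation fV.left :=
    (inferInstance : LocallyOfFinitePresentation (V.ι ≫ f.left))
  haveI : Flat (Over.mk (V.ι ≫ X.hom)).hom := by
    show Flat (V.ι ≫ X.hom)
    rw [← Over.w f, ← Category.assoc]
    infer_instance
  haveI : LocallyOfFinitePresentation (Over.mk (V.ι ≫ X.hom)).hom :=
    (inferInstance : LocallyOfFinitePresentation (V.ι ≫ X.hom))
  apply core5394 G (Over.mk (V.ι ≫ X.hom)) fV
  intro s ξ hξ
  obtain ⟨e, he⟩ : ∃ e : ↥(G.hom.fiber s) ≃ₜ ↥(G.hom.base ⁻¹' {s}), e = G.hom.fiberHomeo s :=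
    ⟨_, rfl⟩
  have hcomp : closure {e ξ} ∈ irreducibleComponents ↥(G.hom.base ⁻¹' {s}) := by
    have h1 := preimage_mem_irreducibleComponents hξ e.symm.isOpenEmbedding
      ⟨ξ, subset_closure rfl, e ξ, e.symm_apply_apply ξ⟩
    rw [e.symm.preimage_closure] at h1
    have h2 : (e.symm : ↥(G.hom.base ⁻¹' {s}) → ↥(G.hom.fiber s)) ⁻¹' {ξ} = {e ξ} := by
      ext y
      simp only [Set.mem_preimage, Set.mem_singleton_iff]
      exact e.symm_apply_eq
    rw [h2] at h1
    exact h1
  obtain ⟨x, hx1, hx2⟩ := hf s (e ξ) hcomp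
  have hxV : x ∈ (V : Set X.left) := by rw [hV]; exact hx2
  refine ⟨⟨x, hxV⟩, ?_⟩
  have hx3 : (e ξ).1 = (pullback.fst G.hom (S.fromSpecResidueField s)).base ξ := by
    rw [he]; rfl
  rw [← hx3, ← hx1]
  rfl

end Groth.Agent.Lib.FppfMulCover
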