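import Groth.Statements.S4091
import Groth.Agent.Lib.FppfFT_helper6

/-! # Finiteness conditions descend along an fppf cover of the source (lead) -/

set_option backward.isDefEq.respectTransparency false
set_option backward.isDefEq.respectTransparency.types false
set_option linter.unusedSimpArgs false
set_option linter.unusedVariables false
set_option linter.unusedSectionVars false
set_option linter.style.longLine false
set_option linter.style.haveILetI false
set_option maxHeartbeats 800000

universe u

open CategoryTheory CategoryTheory.Limits AlgebraicGeometry Opposite Topology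

namespace Groth.Agent.Lib.FppfSrcQC

theorem qc_of_comp_surj {X Y Z : Scheme.{u}} (p : X ⟶ Y) (q : Y ⟶ Z) [Surjective p]
    [QuasiCompact (p ≫ q)] : QuasiCompact q := by
  constructor
  intro U hU hU'
  have h1 : IsCompact ((p ≫ q) ⁻¹' U) := QuasiCompact.isCompact_preimage U hU hU'
  have h2 : q ⁻¹' U = p '' ((p ≫ q) ⁻¹' U) := by
    ext y
    constructor
    · intro hy
      obtain ⟨x, rfl⟩ := p.surjective y
      refine ⟨x, ?_, rfl⟩
      show (p ≫ q) x ∈ U
      rw [Scheme.Hom.comp_apply]
      exact hy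
    · rintro ⟨x, hx, rfl⟩
      have hx' : (p ≫ q) x ∈ U := hx
      rw [Scheme.Hom.comp_apply] at hx'
      exact hx'
  rw [h2]
  exact h1.image p.continuous

theorem qs_of_comp_surj {X Y Z : Scheme.{u}} (p : X ⟶ Y) (q : Y ⟶ Z) [Surjective p]
    [QuasiCompact p] [QuasiSeparated (p ≫ q)] : QuasiSeparated q := by
  constructor
  have e : p ≫ pullback.diagonal q = pullback.diagonal (p ≫ q) ≫
      pullback.map (p ≫ q) (p ≫ q) q q p p (𝟙 Z) (by simp) (by simp) := by
    apply pullback.hom_ext <;> simp [pullback.map]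
  haveI : QuasiCompact (pullback.map (p ≫ q) (p ≫ q) q q p p (𝟙 Z) (by simp) (by simp)) :=
    MorphismProperty.pullbackMap (P := @QuasiCompact) ‹QuasiCompact p› ‹QuasiCompact p› rfl rfl
  haveI : QuasiCompact (pullback.diagonal (p ≫ q)) := QuasiSeparated.quasiCompact_diagonal
  haveI : QuasiCompact (p ≫ pullback.diagonal q) := by rw [e]; infer_instance
  exact qc_of_comp_surj p (pullback.diagonal q)

theorem main {X Y S : Scheme.{u}} (p : X ⟶ Y) (q : Y ⟶ S)
    [Surjective p] [Flat p] [LocallyOfFinitePresentation p] [QuasiCompact p] [QuasiSeparated p] :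
    ((LocallyOfFiniteType (p ≫ q) ∧ QuasiCompact (p ≫ q)) → (LocallyOfFiniteType q ∧ QuasiCompact q)) ∧
    ((LocallyOfFinitePresentation (p ≫ q) ∧ QuasiCompact (p ≫ q) ∧ QuasiSeparated (p ≫ q)) →
      (LocallyOfFinitePresentation q ∧ QuasiCompact q ∧ QuasiSeparated q)) := by
  refine ⟨fun ⟨h1, h2⟩ => ⟨?_, ?_⟩, fun ⟨h1, h2, h3⟩ => ⟨?_, ?_, ?_⟩⟩
  · exact Groth.Agent.Lib.FppfFTH6.locallyOfFiniteType_of_fppf_family q
      (fun y => ⟨X, p, p.surjective y, ‹Flat p›, ‹LocallyOfFinitePresentation p›, h1⟩)
  · exact qc_of_comp_surj p q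
  · exact Groth.Agent.Lib.FppfFTH6.locallyOfFinitePresentation_of_fppf_family q
      (fun y => ⟨X, p, p.surjective y, ‹Flat p›, ‹LocallyOfFinitePresentation p›, h1⟩)
  · exact qc_of_comp_surj p q
  · exact qs_of_comp_surj p q

end Groth.Agent.Lib.FppfSrcQC
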