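import Groth.Agent.Lib.Fpqc1_helper8
set_option autoImplicit false
open CategoryTheory AlgebraicGeometry Opposite TopologicalSpace TensorProduct
open AlgebraicGeometry.Scheme.Modules
universe u
namespace FpqcH8

section
variable {X X' : Scheme.{u}} (f : X' ⟶ X) [Flat f] [Surjective f] [QuasiCompact f]
  (M : X.Modules) [M.IsQuasicoherent]

/-- Core of fpqc descent for modules: over an affine open `V ⊆ X` there is an affine scheme `W`
over `X'`, faithfully flat over `V`, such that the sections of `k^* f^* M` over `W` are the base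
change of `Γ(M, V)`. -/
theorem core {V : X.Opens} (hV : IsAffineOpen V) :
    ∃ (W : Scheme.{u}) (_ : IsAffine W) (k : W ⟶ X') (φ : Γ(X, V) →+* Γ(W, ⊤)),
      φ.FaithfullyFlat ∧
      letI := φ.toAlgebra
      Nonempty (Γ(W, ⊤) ⊗[Γ(X, V)] Γ(M, V) ≃ₗ[Γ(W, ⊤)]
        Γ((Scheme.Modules.pullback k).obj ((Scheme.Modules.pullback f).obj M), ⊤)) := by
  obtain ⟨W, hW, k, hle, hff⟩ := exists_affine_ff f hV
  refine ⟨W, hW, k, ((k ≫ f).appLE V ⊤ hle).hom, hff, ?_⟩
  letI := ((k ≫ f).appLE V ⊤ hle).hom.toAlgebra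
  letI : Module Γ(X, V) Γ((Scheme.Modules.pullback (k ≫ f)).obj M, ⊤) :=
    Module.compHom _ ((k ≫ f).appLE V ⊤ hle).hom
  haveI : IsScalarTower Γ(X, V) Γ(W, ⊤) Γ((Scheme.Modules.pullback (k ≫ f)).obj M, ⊤) :=
    IsScalarTower.of_algebraMap_smul fun _ _ => rfl
  have bc := PBH8.isBaseChange_cUV (k ≫ f) M hle (isAffineOpen_top W) hV
  exact ⟨bc.equiv.trans (secLinEquiv ((pullbackComp k f).app M).symm ⊤)⟩

include f in
theorem finite_of_pullback
    [SheafOfModules.IsFiniteType (R := X'.ringCatSheaf) ((Scheme.Modules.pullback f).obj M)]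
    {V : X.Opens} (hV : IsAffineOpen V) : Module.Finite Γ(X, V) Γ(M, V) := by
  obtain ⟨W, hW, k, φ, hff, hE⟩ := core f M hV
  letI := φ.toAlgebra
  obtain ⟨E⟩ := hE
  haveI : Module.FaithfullyFlat Γ(X, V) Γ(W, ⊤) := hff
  haveI := isFiniteType_pullback k ((Scheme.Modules.pullback f).obj M)
  haveI : Module.Finite Γ(W, ⊤)
      Γ((Scheme.Modules.pullback k).obj ((Scheme.Modules.pullback f).obj M), ⊤) :=
    QCohFT.finite_of_isFiniteType _ (isAffineOpen_top W)
  haveI : Module.Finite Γ(W, ⊤) (Γ(W, ⊤) ⊗[Γ(X, V)] Γ(M, V)) := Module.Finite.equiv E.symm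
  exact Module.Finite.of_finite_tensorProduct_of_faithfullyFlat Γ(W, ⊤)

include f in
theorem fp_of_pullback
    [SheafOfModules.IsFinitePresentation (R := X'.ringCatSheaf)
      ((Scheme.Modules.pullback f).obj M)]
    {V : X.Opens} (hV : IsAffineOpen V) : Module.FinitePresentation Γ(X, V) Γ(M, V) := by
  obtain ⟨W, hW, k, φ, hff, hE⟩ := core f M hV
  letI := φ.toAlgebra
  obtain ⟨E⟩ := hE
  haveI : Module.FaithfullyFlat Γ(X, V) Γ(W, ⊤) := hff
  haveI := isFP_pullback k ((Scheme.Modules.pullback f).obj M)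
  haveI : Module.FinitePresentation Γ(W, ⊤)
      Γ((Scheme.Modules.pullback k).obj ((Scheme.Modules.pullback f).obj M), ⊤) :=
    QCohFP2.finitePresentation_of_isFinitePresentation _ (isAffineOpen_top W)
  haveI : Module.FinitePresentation Γ(W, ⊤) (Γ(W, ⊤) ⊗[Γ(X, V)] Γ(M, V)) :=
    Module.FinitePresentation.of_equiv E.symm
  exact finitePresentation_of_faithfullyFlat (T := Γ(W, ⊤))

include f in
theorem isFiniteType_of_pullback
    [SheafOfModules.IsFiniteType (R := X'.ringCatSheaf) ((Scheme.Modules.pullback f).obj M)] :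
    SheafOfModules.IsFiniteType (R := X.ringCatSheaf) M :=
  QCohCrit.isFiniteType_of_sections_cover M (fun V : X.affineOpens => (V : X.Opens))
    (fun V => V.2) (iSup_affineOpens_eq_top X) (fun V => finite_of_pullback f M V.2)

include f in
theorem isFP_of_pullback
    [SheafOfModules.IsFinitePresentation (R := X'.ringCatSheaf)
      ((Scheme.Modules.pullback f).obj M)] :
    SheafOfModules.IsFinitePresentation (R := X.ringCatSheaf) M :=
  QCohFP2.isFinitePresentation_of_sections_cover M (fun V : X.affineOpens => (V : X.Opens))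
    (fun V => V.2) (iSup_affineOpens_eq_top X) (fun V => fp_of_pullback f M V.2)

end
end FpqcH8
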