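import Groth.Agent.Lib.PB10_helper8
import Mathlib
set_option autoImplicit false
open CategoryTheory AlgebraicGeometry Opposite TopologicalSpace TensorProduct
open AlgebraicGeometry.Scheme.Modules
universe u
namespace FpqcH8

section
variable {X Y : Scheme.{u}} (f : X ⟶ Y) [Flat f] (F : Y.Modules) [F.IsQuasicoherent]

/-- For a flat morphism, the stalk map `F_{f x} → (f^*F)_x` of a quasi-coherent module is
injective. -/
theorem cStalkHom_injective (x : X) : Function.Injective (PBH8.cStalkHom f F x) := by
  letI := (f.stalkMap x).hom.toAlgebra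
  letI : Module (Y.presheaf.stalk (f x))
      (((Scheme.Modules.pullback f).obj F).presheaf.stalk x) :=
    Module.compHom _ (f.stalkMap x).hom
  haveI : IsScalarTower (Y.presheaf.stalk (f x)) (X.presheaf.stalk x)
      (((Scheme.Modules.pullback f).obj F).presheaf.stalk x) :=
    IsScalarTower.of_algebraMap_smul fun _ _ => rfl
  have bc := PBH8.isBaseChange_cStalk f F x
  haveI : Module.Flat (Y.presheaf.stalk (f x)) (X.presheaf.stalk x) := Flat.stalkMap f x
  haveI : IsLocalHom (algebraMap (Y.presheaf.stalk (f x)) (X.presheaf.stalk x)) :=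
    inferInstanceAs (IsLocalHom (f.stalkMap x).hom)
  haveI : Module.FaithfullyFlat (Y.presheaf.stalk (f x)) (X.presheaf.stalk x) :=
    Module.FaithfullyFlat.of_flat_of_isLocalHom
  have h1 := Module.FaithfullyFlat.tensorProduct_mk_injective (A := Y.presheaf.stalk (f x))
    (B := X.presheaf.stalk x) (F.presheaf.stalk (f x))
  intro a b hab
  apply h1
  apply bc.equiv.injective
  simp only [TensorProduct.mk_apply, IsBaseChange.equiv_tmul, one_smul]
  exact hab

end

section
variable {X X' : Scheme.{u}} (g : X' ⟶ X) [Flat g] [Surjective g]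

theorem separating_of_pullback (F : X.Modules) [F.IsQuasicoherent] {ι : Type*}
    (G : ι → X.Modules) (u : ∀ i, F ⟶ G i)
    (h : ∀ (V : X'.Opens) (t : Γ((Scheme.Modules.pullback g).obj F, V)),
      (∀ i, ((Scheme.Modules.pullback g).map (u i)).app V t = 0) → t = 0)
    (V : X.Opens) (t : Γ(F, V)) (ht : ∀ i, (u i).app V t = 0) : t = 0 := by
  have h0 : PBH8.cUV g F (le_refl (g ⁻¹ᵁ V)) t = 0 := by
    apply h
    intro i
    rw [PBH8.cUV_naturality, ht i]
    have := PBH8.cUV_add g (G i) (le_refl (g ⁻¹ᵁ V)) 0 0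
    rw [add_zero] at this
    exact left_eq_add.mp this
  refine TopCat.Presheaf.section_ext ⟨F.presheaf, F.isSheaf⟩ V t 0 (fun x hx => ?_)
  obtain ⟨x', rfl⟩ := Surjective.surj (f := g) x
  apply cStalkHom_injective g F x'
  have := PBH8.cStalkHom_germ_cUV g F (le_refl (g ⁻¹ᵁ V)) (x := x') hx t
  erw [this, h0]
  simp

end
end FpqcH8
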