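import Mathlib

/-!
# Colimits of schemes can be checked fpqc-locally on the cocone point
-/

namespace Groth.Agent.FpqcColim

open AlgebraicGeometry CategoryTheory Limits

universe w u

variable {J : Type u} [SmallCategory J] (D : J ⥤ Scheme.{u}) (c : Cocone D)

/-- The diagram `D` viewed over the cocone point. -/
noncomputable abbrev G : J ⥤ Over c.pt :=
  D.toOver c.pt (fun j => c.ι.app j) (fun g => c.w g)

/-- The base-changed cocone along `p : Z ⟶ c.pt`. -/
noncomputable abbrev K {Z : Scheme.{u}} (p : Z ⟶ c.pt) :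
    Cocone ((G D c ⋙ Over.pullback p) ⋙ Over.forget Z) :=
  (Over.forgetCocone Z).whisker (G D c ⋙ Over.pullback p)

lemma K_ι {Z : Scheme.{u}} (p : Z ⟶ c.pt) (j : J) :
    (K D c p).ι.app j = pullback.snd (c.ι.app j) p := rfl

/-- A cocone `s` under `D` induces a cocone under the base-changed diagram. -/
noncomputable def sp (s : Cocone D) {Z : Scheme.{u}} (p : Z ⟶ c.pt) :
    Cocone ((G D c ⋙ Over.pullback p) ⋙ Over.forget Z) where
  pt := s.pt
  ι :=
  { app := fun j => pullback.fst (c.ι.app j) p ≫ s.ι.app j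
    naturality := by
      intro j j' g
      have h := pullback.lift_fst_assoc (f := c.ι.app j') (g := p)
        (pullback.fst (c.ι.app j) p ≫ D.map g) (pullback.snd (c.ι.app j) p)
        (by rw [Category.assoc, c.w]; exact pullback.condition) (s.ι.app j')
      have h' : (pullback.fst (c.ι.app j) p ≫ D.map g) ≫ s.ι.app j' =
          pullback.fst (c.ι.app j) p ≫ s.ι.app j := by
        rw [Category.assoc, s.w]
      refine Eq.trans ?_ (Category.comp_id _).symm
      exact h.trans h' }

theorem existsUnique_desc (F : PreZeroHypercover.{w} c.pt)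
    (hF : F.presieve₀ ∈ Scheme.fpqcPrecoverage c.pt)
    (h1 : ∀ a : F.I₀, Nonempty (IsColimit (K D c (F.f a))))
    (h2 : ∀ a b : F.I₀,
      Nonempty (IsColimit (K D c (pullback.fst (F.f a) (F.f b) ≫ F.f a))))
    (s : Cocone D) :
    ∃! m : c.pt ⟶ s.pt, ∀ j, c.ι.app j ≫ m = s.ι.app j := by
  have hP : Presieve.IsSheaf Scheme.fpqcTopology (yoneda.obj s.pt) :=
    GrothendieckTopology.Subcanonical.isSheaf_of_isRepresentable _
  have hsh : Presieve.IsSheafFor (yoneda.obj s.pt) (Presieve.ofArrows F.X F.f) := by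
    rw [Presieve.isSheafFor_iff_generate]
    exact hP _ (Precoverage.generate_mem_toGrothendieck hF)
  -- local descents
  let m : ∀ a : F.I₀, F.X a ⟶ s.pt := fun a => (h1 a).some.desc (sp D c s (F.f a))
  have hm : ∀ a j, pullback.snd (c.ι.app j) (F.f a) ≫ m a =
      pullback.fst (c.ι.app j) (F.f a) ≫ s.ι.app j := fun a j =>
    (h1 a).some.fac (sp D c s (F.f a)) j
  -- compatibility
  have hcompat : ∀ a b, pullback.fst (F.f a) (F.f b) ≫ m a =
      pullback.snd (F.f a) (F.f b) ≫ m b := by
    intro a b
    refine (h2 a b).some.hom_ext fun j => ?_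
    rw [K_ι]
    have e1 : pullback.snd (c.ι.app j) (pullback.fst (F.f a) (F.f b) ≫ F.f a) ≫
        pullback.fst (F.f a) (F.f b) ≫ m a =
        pullback.fst (c.ι.app j) (pullback.fst (F.f a) (F.f b) ≫ F.f a) ≫ s.ι.app j := by
      have hcond : pullback.fst (c.ι.app j) (pullback.fst (F.f a) (F.f b) ≫ F.f a) ≫ c.ι.app j =
          (pullback.snd (c.ι.app j) (pullback.fst (F.f a) (F.f b) ≫ F.f a) ≫
            pullback.fst (F.f a) (F.f b)) ≫ F.f a := by
        rw [Category.assoc]
        exact pullback.condition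
      have h := pullback.lift_snd_assoc _ _ hcond (m a)
      rw [Category.assoc] at h
      rw [← h, hm a j, pullback.lift_fst_assoc]
    have e2 : pullback.snd (c.ι.app j) (pullback.fst (F.f a) (F.f b) ≫ F.f a) ≫
        pullback.snd (F.f a) (F.f b) ≫ m b =
        pullback.fst (c.ι.app j) (pullback.fst (F.f a) (F.f b) ≫ F.f a) ≫ s.ι.app j := by
      have hcond : pullback.fst (c.ι.app j) (pullback.fst (F.f a) (F.f b) ≫ F.f a) ≫ c.ι.app j =
          (pullback.snd (c.ι.app j) (pullback.fst (F.f a) (F.f b) ≫ F.f a) ≫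
            pullback.snd (F.f a) (F.f b)) ≫ F.f b := by
        rw [Category.assoc, ← pullback.condition]
        exact pullback.condition
      have h := pullback.lift_snd_assoc _ _ hcond (m b)
      rw [Category.assoc] at h
      rw [← h, hm b j, pullback.lift_fst_assoc]
    exact e1.trans e2.symm
  -- glue
  obtain ⟨t, ht, htu⟩ := (Presieve.isSheafFor_arrows_iff_pullbacks (yoneda.obj s.pt) F.f).mp hsh
    m (fun a b => hcompat a b)
  have ht' : ∀ a, F.f a ≫ t = m a := fun a => ht a
  -- separatedness on each `D.obj j`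
  have hsep : ∀ j (u v : D.obj j ⟶ s.pt),
      (∀ a, pullback.fst (c.ι.app j) (F.f a) ≫ u = pullback.fst (c.ι.app j) (F.f a) ≫ v) →
      u = v := by
    intro j u v huv
    have hcov : Presieve.ofArrows (fun a => pullback (c.ι.app j) (F.f a))
        (fun a => pullback.fst (c.ι.app j) (F.f a)) ∈ Scheme.fpqcPrecoverage (D.obj j) :=
      Precoverage.mem_coverings_of_isPullback F.f hF (c.ι.app j) _
        (fun a => pullback.snd (c.ι.app j) (F.f a)) (fun a => IsPullback.of_hasPullback _ _)
    have hshj : Presieve.IsSheafFor (yoneda.obj s.pt)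
        (Presieve.ofArrows (fun a => pullback (c.ι.app j) (F.f a))
          (fun a => pullback.fst (c.ι.app j) (F.f a))) := by
      rw [Presieve.isSheafFor_iff_generate]
      exact hP _ (Precoverage.generate_mem_toGrothendieck hcov)
    refine hshj.isSeparatedFor.ext ?_
    rintro Y f ⟨a⟩
    exact huv a
  refine ⟨t, fun j => ?_, fun t' ht'' => ?_⟩
  · refine hsep j _ _ fun a => ?_
    rw [pullback.condition_assoc, ht' a, hm a j]
  · refine htu t' fun a => ?_
    change F.f a ≫ t' = m a
    refine (h1 a).some.hom_ext fun j => ?_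
    have e : pullback.snd (c.ι.app j) (F.f a) ≫ F.f a ≫ t' =
        pullback.snd (c.ι.app j) (F.f a) ≫ m a := by
      rw [hm a j, ← pullback.condition_assoc, ht'' j]
    exact e

theorem nonempty_isColimit (F : PreZeroHypercover.{w} c.pt)
    (hF : F.presieve₀ ∈ Scheme.fpqcPrecoverage c.pt)
    (h1 : ∀ a : F.I₀, Nonempty (IsColimit (K D c (F.f a))))
    (h2 : ∀ a b : F.I₀,
      Nonempty (IsColimit (K D c (pullback.fst (F.f a) (F.f b) ≫ F.f a)))) :
    Nonempty (IsColimit c) := by
  have key := existsUnique_desc D c F hF h1 h2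
  exact ⟨{ desc := fun s => (key s).choose
           fac := fun s j => (key s).choose_spec.1 j
           uniq := fun s m hm => (key s).choose_spec.2 m hm }⟩

end Groth.Agent.FpqcColim
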