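import Mathlib
import Groth.Agent.Lib.FpqcKoszul_helper2
import Groth.Agent.Lib.QRegSpan_helper1
import Groth.Agent.Lib.RegKindFlat_helper2
import Groth.Agent.Lib.QuasiReg_helper5

/-!
# fpqc descent of quasi-regular ideals (helper2)
APPEND-ONLY once landed.
-/

set_option autoImplicit false
universe u
open CategoryTheory TensorProduct

namespace Groth.Agent.Lib.FpqcReg

open Groth.Agent.QuasiReg Groth.Agent.Lib.RegKindFlat

section quasi

lemma tmul_mk_eq_zero {T L : Type u} [CommRing T] [CommRing L] [Algebra T L] (J : Ideal T)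
    (c : T) (hc : algebraMap T L c ∈ J.map (algebraMap T L)) :
    (1 : L) ⊗ₜ[T] (Ideal.Quotient.mk J c) = (0 : L ⊗[T] (T ⧸ J)) := by
  have key : ∀ y ∈ J.map (algebraMap T L),
      y ⊗ₜ[T] (Ideal.Quotient.mk J 1) = (0 : L ⊗[T] (T ⧸ J)) := by
    intro y hy
    refine Submodule.span_induction ?_ ?_ ?_ ?_ hy
    · rintro _ ⟨j, hj, rfl⟩
      rw [Algebra.algebraMap_eq_smul_one, TensorProduct.smul_tmul]
      have h0 : j • (Ideal.Quotient.mk J 1) = 0 := by
        rw [Algebra.smul_def, Ideal.Quotient.algebraMap_eq, map_one, mul_one,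
          Ideal.Quotient.eq_zero_iff_mem.mpr hj]
      rw [h0, tmul_zero]
    · exact zero_tmul _ _
    · intro a b _ _ ha hb
      rw [add_tmul, ha, hb, add_zero]
    · intro e a _ ha
      rw [← TensorProduct.smul_tmul', ha, smul_zero]
  have h1 : (1 : L) ⊗ₜ[T] (Ideal.Quotient.mk J c) =
      (algebraMap T L c) ⊗ₜ[T] (Ideal.Quotient.mk J 1) := by
    rw [Algebra.algebraMap_eq_smul_one, TensorProduct.smul_tmul]
    congr 1
    rw [Algebra.smul_def, Ideal.Quotient.algebraMap_eq, map_one, mul_one]
  rw [h1]
  exact key _ hc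

variable {R : Type u} [CommRing R]

theorem quasi_of_top (l : List R) (h : Ideal.ofList l = ⊤) : CAlgX.IsQuasiRegular l.get := by
  intro n P _ _ d
  rw [← ofList_eq_span_range_get, h]
  trivial

theorem quasi_length_le (g h : List R) (hg : CAlgX.IsQuasiRegular g.get)
    (hne : Ideal.ofList g ≠ ⊤) (hh : Ideal.ofList h = Ideal.ofList g) :
    g.length ≤ h.length := by
  classical
  have hgI : Ideal.span (Set.range g.get) = Ideal.ofList g := (ofList_eq_span_range_get g).symm
  have hgmem : ∀ i, g.get i ∈ Ideal.ofList g := fun i => by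
    rw [← hgI]
    exact Ideal.subset_span ⟨i, rfl⟩
  have hhI : Ideal.span (Set.range h.get) = Ideal.ofList g := by
    rw [← ofList_eq_span_range_get, hh]
  have hhmem : ∀ j, h.get j ∈ Ideal.ofList g := fun j => by
    rw [← hhI]
    exact Ideal.subset_span ⟨j, rfl⟩
  let g' : Fin g.length → Ideal.ofList g := fun i => ⟨g.get i, hgmem i⟩
  let h' : Fin h.length → Ideal.ofList g := fun j => ⟨h.get j, hhmem j⟩
  obtain ⟨hli, -⟩ := Groth.Agent.Lib.QRegSpanH1.basis_of_qr (Ideal.ofList g) g' hg hgI
  haveI : Nontrivial (R ⧸ Ideal.ofList g) := Ideal.Quotient.nontrivial_iff.2 hne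
  have hspan : Submodule.span (R ⧸ Ideal.ofList g)
      (Set.range fun j => (Ideal.ofList g).toCotangent (h' j)) = ⊤ := by
    rw [eq_top_iff]
    intro x _
    obtain ⟨y, rfl⟩ := (Ideal.ofList g).toCotangent_surjective x
    have hy : (y : R) ∈ Ideal.span (Set.range fun j => ((h' j : Ideal.ofList g) : R)) := by
      show (y : R) ∈ Ideal.span (Set.range h.get)
      rw [hhI]
      exact y.2
    obtain ⟨c, hc⟩ := Ideal.mem_span_range_iff_exists_fun.1 hy
    have hy' : y = ∑ i, c i • h' i := by
      apply Subtype.ext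
      rw [Groth.Agent.Lib.QRegSpanH1.coe_sum_smul, hc]
    rw [hy', ← Groth.Agent.Lib.QRegSpanH1.cot_sum]
    refine Submodule.sum_mem _ fun i _ => ?_
    exact Submodule.smul_mem _ _ (Submodule.subset_span (Set.mem_range_self i))
  have h1 := linearIndependent_le_span_aux' _ hli
    (Set.range fun j => (Ideal.ofList g).toCotangent (h' j)) (by rw [hspan]; exact le_top)
  calc g.length = Fintype.card (Fin g.length) := (Fintype.card_fin _).symm
    _ ≤ Fintype.card (Set.range fun j => (Ideal.ofList g).toCotangent (h' j)) := h1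
    _ ≤ Fintype.card (Fin h.length) := Fintype.card_range_le _
    _ = h.length := Fintype.card_fin _

theorem quasi_of_length_le (g x : List R) (hg : CAlgX.IsQuasiRegular g.get)
    (hne : Ideal.ofList g ≠ ⊤) (hx : Ideal.ofList x = Ideal.ofList g)
    (hlen : x.length ≤ g.length) : CAlgX.IsQuasiRegular x.get := by
  have hle := quasi_length_le g x hg hne hx
  have heq : x.length = g.length := le_antisymm hlen hle
  have h1 : CAlgX.IsQuasiRegular (x.get ∘ (finCongr heq.symm)) := by
    apply Groth.Agent.Lib.QRegSpanH1.main3824 g.get _ hg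
    rw [(finCongr heq.symm).surjective.range_comp, ← ofList_eq_span_range_get,
      ← ofList_eq_span_range_get, hx]
  have h2 := qr_comp_equiv (finCongr heq) _ h1
  have h3 : (x.get ∘ (finCongr heq.symm)) ∘ (finCongr heq) = x.get := by
    funext i
    simp
  rw [h3] at h2
  exact h2

theorem quasi_descent {T : Type u} [CommRing T] (x : List T)
    (h : ∀ m : Ideal T, m.IsMaximal → ∃ (L : Type u) (_ : CommRing L) (_ : IsLocalRing L)
      (χ : T →+* L), χ.Flat ∧ m ≤ (IsLocalRing.maximalIdeal L).comap χ ∧
        CAlgX.IsQuasiRegular (x.map χ).get) : CAlgX.IsQuasiRegular x.get := by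
  rw [isQuasiRegular_iff]
  apply ZForm.qr
  intro n P hP hev d
  rw [← Ideal.Quotient.eq_zero_iff_mem]
  apply eq_zero_of_joint_flat (T := T)
  intro m hm
  obtain ⟨L, _, _, χ, hχ, hmle, hQ⟩ := h m hm
  letI : Algebra T L := χ.toAlgebra
  refine ⟨L, inferInstance, inferInstance, χ.toAlgebra, hχ, hmle, ?_⟩
  apply tmul_mk_eq_zero
  show χ (P.coeff d) ∈ (Ideal.span (Set.range x.get)).map χ
  have hQ' : QR (fun i => χ (x.get i)) := by
    have h2 := qr_comp_equiv (finCongr (List.length_map (as := x) χ)).symm _ hQ
    have h3 : (x.map χ).get ∘ (finCongr (List.length_map (as := x) χ)).symm =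
        fun i => χ (x.get i) := by
      funext i
      simp
    rw [h3] at h2
    exact h2
  have h4 := hQ'.zForm n (MvPolynomial.map χ P) (hP.map χ) (by
    rw [MvPolynomial.eval_map]
    have h5 := MvPolynomial.eval₂_comp χ x.get P
    rw [hev, map_zero] at h5
    exact h5.symm) d
  rw [MvPolynomial.coeff_map] at h4
  rw [Ideal.map_span, ← Set.range_comp]
  exact h4

/-- the quasi-regular kind -/
def PQ : ∀ (R : Type u) [CommRing R], List R → Prop := fun _ _ l => CAlgX.IsQuasiRegular l.get

theorem desc_quasi : Desc PQ.{u} where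
  map_flat := fun f hf l hl => quasi_map_of_flat f hf l hl
  of_top := fun l h => quasi_of_top l h
  length_le := fun g h hg hne hh => quasi_length_le g h hg hne hh
  of_length_le := fun g x hg hne hx hlen => quasi_of_length_le g x hg hne hx hlen
  descent := fun x h => quasi_descent x h

/-- **S9252** -/
theorem main9252 (A B : Type u) [CommRing A] [CommRing B] [Algebra A B]
    [Module.FaithfullyFlat A B] (I : Ideal A)
    (h : PP16.IsLocallyQuasiRegular B (Ideal.map (algebraMap A B) I)) :
    PP16.IsLocallyQuasiRegular A I := by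
  have h1 : LocP PQ (I.map (algebraMap A B)) := by
    intro q hq hle
    haveI := hq
    obtain ⟨g, hg, r, f, hf, hspan⟩ := h q hle
    refine ⟨g, hg, Localization.Away g, inferInstance, inferInstance, inferInstance,
      List.ofFn f, ?_, ?_⟩
    · show CAlgX.IsQuasiRegular (List.ofFn f).get
      have h2 := qr_comp_equiv (finCongr (List.length_ofFn (f := f))) f hf
      have h3 : f ∘ (finCongr (List.length_ofFn (f := f))) = (List.ofFn f).get := by
        funext i
        simp
        rfl
      rw [h3] at h2
      exact h2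
    · rw [ofList_ofFn, hspan]
  have h2 := locP_descent A B desc_quasi I h1
  intro P hP hle
  obtain ⟨g, hg, T, _, _, _, l, hl, hI⟩ := h2 P hP hle
  let e : T ≃ₐ[A] Localization.Away g :=
    IsLocalization.algEquiv (Submonoid.powers g) T (Localization.Away g)
  refine ⟨g, hg, l.length, fun i => e (l.get i), ?_, ?_⟩
  · exact qr_comp_of_flat (e : T →+* Localization.Away g)
      (RingHom.Flat.of_bijective e.bijective) l.get hl
  · have hcomp : algebraMap A (Localization.Away g) =
        (e : T →+* Localization.Away g).comp (algebraMap A T) := by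
      ext x
      exact (e.commutes x).symm
    rw [hcomp, ← Ideal.map_map, hI, ofList_eq_span_range_get, Ideal.map_span, ← Set.range_comp]
    rfl

end quasi

end Groth.Agent.Lib.FpqcReg
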