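import Mathlib
import Groth.Prelude.Def_RegImm
import Groth.Agent.Lib.FpqcQuasi_helper2
import Groth.Agent.Lib.FpqcRegImmK_helper2
import Groth.Agent.Lib.H1QReg_helper1
import Groth.Agent.Lib.KoszulLow_helper2

/-!
# fpqc descent of `H_1`-regular ideals and S9849 (helper2)
APPEND-ONLY once landed.
-/

set_option autoImplicit false
universe u
open CategoryTheory CategoryTheory.Limits AlgebraicGeometry TopologicalSpace

namespace Groth.Agent.Lib.FpqcReg

section h1

variable {R : Type u} [CommRing R] {n : ℕ}

/-- the functional attached to a sequence -/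
def phi (f : Fin n → R) : (Fin n → R) →ₗ[R] R :=
  { toFun := fun a => ∑ i, a i * f i
    map_add' := by
      intro a b
      simp only [Pi.add_apply, add_mul, Finset.sum_add_distrib]
    map_smul' := by
      intro c a
      simp only [Pi.smul_apply, smul_eq_mul, RingHom.id_apply, mul_assoc]
      rw [Finset.mul_sum] }

lemma phi_apply (f : Fin n → R) (a : Fin n → R) : phi f a = ∑ i, a i * f i := rfl

/-- trivial relations, coordinate-free -/
def TS (φ : (Fin n → R) →ₗ[R] R) : Submodule R (Fin n → R) :=
  Submodule.span R {w | ∃ u v : Fin n → R, w = φ u • v - φ v • u}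

/-- trivial relations, as in the definition of `H_1`-regularity -/
def G (f : Fin n → R) : Submodule R (Fin n → R) :=
  Submodule.span R {v | ∃ i j : Fin n, v = Pi.single i (f j) - Pi.single j (f i)}

lemma phi_single (f : Fin n → R) (j : Fin n) (c : R) : phi f (Pi.single j c) = c * f j := by
  classical
  rw [phi_apply, Finset.sum_eq_single j]
  · rw [Pi.single_eq_same]
  · intro i _ hij
    rw [Pi.single_eq_of_ne hij, zero_mul]
  · intro h
    exact absurd (Finset.mem_univ j) h

lemma G_le_TS (f : Fin n → R) : G f ≤ TS (phi f) := by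
  classical
  apply Submodule.span_le.mpr
  rintro _ ⟨i, j, rfl⟩
  apply Submodule.subset_span
  refine ⟨Pi.single j 1, Pi.single i 1, ?_⟩
  rw [phi_single, phi_single, one_mul, one_mul]
  congr 1
  · funext k
    simp [Pi.single_apply]
  · funext k
    simp [Pi.single_apply]

lemma T_mem_G (f : Fin n → R) (u v : Fin n → R) : phi f u • v - phi f v • u ∈ G f := by
  classical
  have key : phi f u • v - phi f v • u =
      ∑ i, ∑ j, (u i * v j) • (Pi.single j (f i) - Pi.single i (f j) : Fin n → R) := by
    funext k
    simp only [Pi.sub_apply, Pi.smul_apply, smul_eq_mul, Finset.sum_apply, Pi.single_apply,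
      phi_apply]
    simp only [mul_sub, Finset.sum_sub_distrib, mul_ite, mul_zero]
    rw [Finset.sum_comm (f := fun i j => if k = i then u i * v j * f j else 0)]
    simp only [Finset.sum_ite_eq, Finset.mem_univ, if_true]
    rw [Finset.sum_mul, Finset.sum_mul]
    congr 1 <;> exact Finset.sum_congr rfl (fun i _ => by ring)
  rw [key]
  exact Submodule.sum_mem _ (fun i _ => Submodule.sum_mem _ (fun j _ =>
    Submodule.smul_mem _ _ (Submodule.subset_span ⟨j, i, rfl⟩)))

lemma TS_le_G (f : Fin n → R) : TS (phi f) ≤ G f := by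
  apply Submodule.span_le.mpr
  rintro _ ⟨u, v, rfl⟩
  exact T_mem_G f u v

lemma ker_le_TS_of_equiv (φ φ' : (Fin n → R) →ₗ[R] R) (β β' : (Fin n → R) →ₗ[R] (Fin n → R))
    (h1 : ∀ u, β (β' u) = u) (h2 : ∀ u, β' (β u) = u) (hφ : ∀ u, φ' u = φ (β u))
    (h : ∀ a, φ a = 0 → a ∈ TS φ) : ∀ a, φ' a = 0 → a ∈ TS φ' := by
  intro a ha
  have h3 : β a ∈ TS φ := h _ (by rw [← hφ]; exact ha)
  have hmap : ∀ w ∈ TS φ, β' w ∈ TS φ' := by
    intro w hw
    refine Submodule.span_induction ?_ ?_ ?_ ?_ hw
    · rintro _ ⟨u, v, rfl⟩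
      rw [map_sub, map_smul, map_smul]
      apply Submodule.subset_span
      refine ⟨β' u, β' v, ?_⟩
      rw [hφ, hφ, h1, h1]
    · rw [map_zero]
      exact zero_mem _
    · intro x y _ _ hx hy
      rw [map_add]
      exact add_mem hx hy
    · intro c x _ hx
      rw [map_smul]
      exact Submodule.smul_mem _ _ hx
  have h4 := hmap _ h3
  rw [h2] at h4
  exact h4

lemma coord_mem_of_mem_G (f : Fin n → R) (w : Fin n → R) (hw : w ∈ G f) (k : Fin n) :
    w k ∈ Ideal.span (Set.range f) := by
  classical
  refine Submodule.span_induction (p := fun w _ => w k ∈ Ideal.span (Set.range f))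
    ?_ ?_ ?_ ?_ hw
  · rintro _ ⟨i, j, rfl⟩
    rw [Pi.sub_apply, Pi.single_apply, Pi.single_apply]
    apply sub_mem
    · split_ifs
      · exact Ideal.subset_span ⟨_, rfl⟩
      · exact zero_mem _
    · split_ifs
      · exact Ideal.subset_span ⟨_, rfl⟩
      · exact zero_mem _
  · exact zero_mem _
  · intro x y _ _ hx hy
    exact add_mem hx hy
  · intro c x _ hx
    exact Ideal.mul_mem_left _ _ hx

/-- in a local ring, a sequence of the same length generating the same proper ideal as an
`H_1`-regular sequence is `H_1`-regular. -/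
theorem h1_of_same_span [IsLocalRing R] (f f' : Fin n → R) (hf : CAlgX.IsH1Regular f)
    (hne : Ideal.span (Set.range f) ≠ ⊤)
    (hspan : Ideal.span (Set.range f') = Ideal.span (Set.range f)) :
    CAlgX.IsH1Regular f' := by
  classical
  have hfm : ∀ i, f' i ∈ Ideal.span (Set.range f) := fun i => by
    rw [← hspan]
    exact Ideal.subset_span ⟨i, rfl⟩
  have hfm' : ∀ i, f i ∈ Ideal.span (Set.range f') := fun i => by
    rw [hspan]
    exact Ideal.subset_span ⟨i, rfl⟩
  choose B hB using fun i => Ideal.mem_span_range_iff_exists_fun.mp (hfm i)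
  choose C hC using fun i => Ideal.mem_span_range_iff_exists_fun.mp (hfm' i)
  let Bm : Matrix (Fin n) (Fin n) R := Matrix.of B
  let Cm : Matrix (Fin n) (Fin n) R := Matrix.of C
  have hle : Ideal.span (Set.range f) ≤ IsLocalRing.maximalIdeal R :=
    IsLocalRing.le_maximalIdeal hne
  have hent : ∀ i j, (1 - Cm * Bm) i j ∈ IsLocalRing.maximalIdeal R := by
    intro i j
    apply hle
    have hrel : phi f (fun j => (1 - Cm * Bm) i j) = 0 := by
      rw [phi_apply]
      have e1 : ∑ j, (1 : Matrix (Fin n) (Fin n) R) i j * f j = f i := by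
        rw [Finset.sum_eq_single i]
        · rw [Matrix.one_apply_eq, one_mul]
        · intro j _ hji
          rw [Matrix.one_apply_ne (Ne.symm hji), zero_mul]
        · intro h
          exact absurd (Finset.mem_univ i) h
      have e2 : ∑ j, (Cm * Bm) i j * f j = f i := by
        calc ∑ j, (Cm * Bm) i j * f j = ∑ j, ∑ k, C i k * (B k j * f j) := by
              refine Finset.sum_congr rfl fun j _ => ?_
              rw [Matrix.mul_apply, Finset.sum_mul]
              refine Finset.sum_congr rfl fun k _ => ?_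
              rw [mul_assoc]
              rfl
          _ = ∑ k, ∑ j, C i k * (B k j * f j) := Finset.sum_comm
          _ = ∑ k, C i k * f' k := by
              refine Finset.sum_congr rfl fun k _ => ?_
              rw [← Finset.mul_sum, hB k]
          _ = f i := hC i
      calc ∑ j, (1 - Cm * Bm) i j * f j
          = ∑ j, (1 : Matrix (Fin n) (Fin n) R) i j * f j - ∑ j, (Cm * Bm) i j * f j := by
            rw [← Finset.sum_sub_distrib]
            refine Finset.sum_congr rfl fun j _ => ?_
            rw [Matrix.sub_apply, sub_mul]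
        _ = 0 := by rw [e1, e2, sub_self]
    exact coord_mem_of_mem_G f _ (hf _ hrel) j
  have hdet : IsUnit (Cm * Bm).det := by
    rw [← IsLocalRing.residue_ne_zero_iff_isUnit, RingHom.map_det]
    have h1 : (IsLocalRing.residue R).mapMatrix (Cm * Bm) = 1 := by
      ext i j
      rw [RingHom.mapMatrix_apply, Matrix.map_apply]
      have h2 := (IsLocalRing.residue_eq_zero_iff _).mpr (hent i j)
      rw [Matrix.sub_apply, map_sub, sub_eq_zero] at h2
      rw [← h2]
      by_cases hij : i = j
      · rw [hij, Matrix.one_apply_eq, Matrix.one_apply_eq, map_one]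
      · rw [Matrix.one_apply_ne hij, Matrix.one_apply_ne hij, map_zero]
    rw [h1, Matrix.det_one]
    exact one_ne_zero
  have hdetB : IsUnit Bm.det := by
    rw [Matrix.det_mul] at hdet
    exact isUnit_of_mul_isUnit_right hdet
  have h1 : ∀ u, Bm.vecMulLinear ((Bm⁻¹).vecMulLinear u) = u := fun u => by
    show Matrix.vecMul (Matrix.vecMul u Bm⁻¹) Bm = u
    rw [Matrix.vecMul_vecMul, Matrix.nonsing_inv_mul _ hdetB, Matrix.vecMul_one]
  have h2 : ∀ u, (Bm⁻¹).vecMulLinear (Bm.vecMulLinear u) = u := fun u => by
    show Matrix.vecMul (Matrix.vecMul u Bm) Bm⁻¹ = u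
    rw [Matrix.vecMul_vecMul, Matrix.mul_nonsing_inv _ hdetB, Matrix.vecMul_one]
  have hφ : ∀ u, phi f' u = phi f (Bm.vecMulLinear u) := by
    intro u
    rw [phi_apply, phi_apply]
    have hv : ∀ j, (Bm.vecMulLinear u) j = ∑ i, u i * B i j := fun j => rfl
    calc ∑ i, u i * f' i = ∑ i, ∑ j, u i * B i j * f j := by
          refine Finset.sum_congr rfl fun i _ => ?_
          rw [← hB i, Finset.mul_sum]
          refine Finset.sum_congr rfl fun j _ => ?_
          rw [mul_assoc]
      _ = ∑ j, ∑ i, u i * B i j * f j := Finset.sum_comm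
      _ = ∑ j, (Bm.vecMulLinear u) j * f j := by
          refine Finset.sum_congr rfl fun j _ => ?_
          rw [hv j, Finset.sum_mul]
  intro a ha
  have h3 := ker_le_TS_of_equiv (phi f) (phi f') Bm.vecMulLinear (Bm⁻¹).vecMulLinear h1 h2 hφ
    (fun a ha => G_le_TS f (hf a ha)) a ha
  exact TS_le_G f' h3

end h1

section desc

open Groth.Agent.Lib.KoszulLow Groth.Agent.Lib.RegKindFlat

variable {R : Type u} [CommRing R]

theorem h1_of_top (l : List R) (h : Ideal.ofList l = ⊤) : CAlgX.IsH1Regular l.get :=
  (isZero_homology_neg_one_iff l).mp (koszul_of_top l h (-1))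

theorem h1_length_le (g h : List R) (hg : CAlgX.IsH1Regular g.get)
    (hne : Ideal.ofList g ≠ ⊤) (hh : Ideal.ofList h = Ideal.ofList g) : g.length ≤ h.length :=
  quasi_length_le g h (Groth.Agent.Lib.H1QRegH1.main2103 _ hg) hne hh

theorem h1_of_length_le [IsLocalRing R] (g x : List R) (hg : CAlgX.IsH1Regular g.get)
    (hne : Ideal.ofList g ≠ ⊤) (hx : Ideal.ofList x = Ideal.ofList g)
    (hlen : x.length ≤ g.length) : CAlgX.IsH1Regular x.get := by
  have hle := h1_length_le g x hg hne hx
  have heq : x.length = g.length := le_antisymm hlen hle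
  have h1 : CAlgX.IsH1Regular (x.get ∘ (finCongr heq.symm)) := by
    apply h1_of_same_span g.get _ hg
    · rw [← ofList_eq_span_range_get]
      exact hne
    · rw [(finCongr heq.symm).surjective.range_comp, ← ofList_eq_span_range_get,
        ← ofList_eq_span_range_get, hx]
  exact h1_congr heq.symm (x.get ∘ finCongr heq.symm) x.get (fun i => by simp) h1

theorem h1_descent {T : Type u} [CommRing T] (x : List T)
    (h : ∀ m : Ideal T, m.IsMaximal → ∃ (L : Type u) (_ : CommRing L) (_ : IsLocalRing L)
      (χ : T →+* L), χ.Flat ∧ m ≤ (IsLocalRing.maximalIdeal L).comap χ ∧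
        CAlgX.IsH1Regular (x.map χ).get) : CAlgX.IsH1Regular x.get := by
  rw [← isZero_homology_neg_one_iff]
  apply koszul_descent x (-1)
  intro m hm
  obtain ⟨L, _, _, χ, hχ, hmle, hP⟩ := h m hm
  exact ⟨L, inferInstance, inferInstance, χ, hχ, hmle, (isZero_homology_neg_one_iff _).mpr hP⟩

/-- the `H_1`-regular kind -/
def PH : ∀ (R : Type u) [CommRing R], List R → Prop := fun _ _ l => CAlgX.IsH1Regular l.get

theorem desc_h1 : Desc PH.{u} where
  map_flat := fun f hf l hl => h1_map_of_flat f hf l hl
  of_top := fun l h => h1_of_top l h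
  length_le := fun g h hg hne hh => h1_length_le g h hg hne hh
  of_length_le := fun g x hg hne hx hlen => h1_of_length_le g x hg hne hx hlen
  descent := fun x h => h1_descent x h

theorem desc_kind (k : RegImm.Kind) (hk : k ≠ RegImm.Kind.regular) : Desc (PKind.{u} k) := by
  cases k with
  | regular => exact absurd rfl hk
  | koszul => exact desc_koszul
  | h1 => exact desc_h1
  | quasi => exact desc_quasi

/-- **S9849** -/
theorem main9849 {Z X X' : Scheme.{u}} (i : Z ⟶ X) [IsImmersion i] (g : X' ⟶ X)
    [Flat g] [Surjective g] [QuasiCompact g] (k : RegImm.Kind) (hk : k ≠ RegImm.Kind.regular)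
    (h : RegImm.IsRegularImmersion k (pullback.snd i g)) :
    RegImm.IsRegularImmersion k i :=
  regImm_descent k (desc_kind k hk) i g (pullback.snd i g) (pullback.fst i g)
    (IsPullback.of_hasPullback i g) h

end desc

end Groth.Agent.Lib.FpqcReg
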