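import Mathlib
import Groth.Prelude
import Groth.Agent.Lib.FpqcPC_helper3

/-!
# fpqc descent of `m`-pseudo-coherence for objects of `D_QCoh`, part 2 (helper3; S1057)
-/

set_option autoImplicit false
set_option linter.all false
set_option maxHeartbeats 1600000
set_option backward.isDefEq.respectTransparency false
set_option backward.isDefEq.respectTransparency.types false
set_option backward.defeqAttrib.useBackward true

universe u
open CategoryTheory CategoryTheory.Limits AlgebraicGeometry Opposite TopologicalSpace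
open CategoryTheory.Pretriangulated

attribute [local instance] HasDerivedCategory.standard

namespace Groth.Agent.Lib.FpqcPCH3

open Groth.Agent.Lib.DCohLocLead DerivedCategory DRing Groth.Agent.Lib.DMod_helper6
  Groth.Agent.Lib.TildeAmpL Groth.Agent.Lib.TildePCH3 Groth.Agent.Lib.LpullExH3
  Groth.Agent.Lib.LpullLocH3

noncomputable section

variable {X' X : Scheme.{u}} (f : X' ⟶ X)

/-- a faithfully flat affine chart over an affine open of the base -/
theorem exists_ffCover [Flat f] [Surjective f] [QuasiCompact f] (U : X.Opens)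
    (hU : IsAffineOpen U) :
    ∃ (S : CommRingCat.{u}) (ψ : Γ(X, U) ⟶ S) (g' : Spec S ⟶ X'),
      ψ.hom.FaithfullyFlat ∧ g' ≫ f = Spec.map ψ ≫ hU.fromSpec := by
  let W : X'.Opens := f ⁻¹ᵁ U
  haveI : CompactSpace (W : Scheme.{u}) :=
    isCompact_iff_compactSpace.mp (f.isCompact_preimage hU.isCompact)
  let 𝒲 := (W : Scheme.{u}).affineCover.finiteSubcover
  haveI : ∀ i, IsAffine (𝒲.X i) := fun i => by
    dsimp [𝒲]
    infer_instance
  let T : Scheme.{u} := ∐ 𝒲.X
  let g₀ : T ⟶ (W : Scheme.{u}) := Sigma.desc 𝒲.f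
  haveI : Flat g₀ := inferInstance
  haveI : Surjective g₀ := ⟨fun w => by
    obtain ⟨y, hy⟩ := 𝒲.covers w
    refine ⟨(Sigma.ι 𝒲.X (𝒲.idx w)) y, ?_⟩
    rw [← Scheme.Hom.comp_apply, Sigma.ι_desc]
    exact hy⟩
  haveI : Surjective (f ∣_ U) := ⟨fun u => by
    obtain ⟨x', hx'⟩ := f.surjective u.1
    exact ⟨⟨x', by show f x' ∈ U; rw [hx']; exact u.2⟩,
      Subtype.ext ((morphismRestrict_base_coe f U _).trans hx')⟩⟩
  let q : T ⟶ Spec Γ(X, U) := g₀ ≫ (f ∣_ U) ≫ hU.isoSpec.hom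
  haveI : Flat q := inferInstance
  haveI : Surjective q := inferInstance
  let q' : Spec Γ(T, ⊤) ⟶ Spec Γ(X, U) := T.isoSpec.inv ≫ q
  haveI : Flat q' := inferInstance
  haveI : Surjective q' := inferInstance
  obtain ⟨ψ, hψ⟩ : ∃ ψ, Spec.map ψ = q' := ⟨_, Spec.map_preimage _⟩
  refine ⟨Γ(T, ⊤), ψ, T.isoSpec.inv ≫ g₀ ≫ W.ι, ?_, ?_⟩
  · rw [← flat_and_surjective_SpecMap_iff, hψ]
    exact ⟨inferInstance, inferInstance⟩
  · have e1 : hU.isoSpec.hom ≫ hU.fromSpec = U.ι := by
      rw [← IsAffineOpen.isoSpec_inv_ι, Iso.hom_inv_id_assoc]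
    rw [hψ]
    simp only [q', q, Category.assoc]
    rw [e1, morphismRestrict_ι]

/-- **S1057** -/
theorem main1057 [Flat f] [Surjective f] [QuasiCompact f] [DCoh.HasLpull f] (E : DCoh.D X)
    (hE : DCoh.IsQCohD E) (m : ℤ) :
    DCoh.IsPseudoCoherentD m E ↔ DCoh.IsPseudoCoherentD m ((DCoh.Lpull f).obj E) := by
  constructor
  · exact Groth.Agent.Lib.LpullPCH3.isPC_Lpull f m E
  · intro hpc
    refine isPC_of_cover m E (fun U : X.affineOpens => Spec Γ(X, (U : X.Opens)))
      (fun U => U.2.fromSpec) (fun x => ?_) (fun U => ?_)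
    · obtain ⟨V, hV, hxV, -⟩ := Opens.isBasis_iff_nbhd.mp X.isBasis_affineOpens
        (show x ∈ (⊤ : X.Opens) from trivial)
      have hx : x ∈ Set.range (IsAffineOpen.fromSpec hV) := by
        rw [IsAffineOpen.range_fromSpec]; exact hxV
      obtain ⟨y, hy⟩ := hx
      exact ⟨⟨V, hV⟩, y, hy⟩
    · obtain ⟨S, ψ, g', hψ, hg⟩ := exists_ffCover f U.1 U.2
      exact isPC_restrict_of_ffCover f E hE m hpc Γ(X, (U : X.Opens)) S U.2.fromSpec ψ.hom hψ g' hg

end

end Groth.Agent.Lib.FpqcPCH3
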