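import Mathlib

/-!
# Semi-localization along an ideal: flatness from flatness along the closed fibre (helper7)

For `φ : A → B` and an ideal `I` of `A`, the localization `B' = (1 + IB)⁻¹ B` is flat over `A`
as soon as `A → B_q` is flat for the primes `q ⊇ IB`, and every such prime is in the image of
`Spec B' → Spec B`.
-/

set_option autoImplicit false
universe u
open CategoryTheory AlgebraicGeometry

namespace Groth.Agent.Lib.FpqcRefine1H7

section Algebra

variable {A B : Type u} [CommRing A] [CommRing B]

/-- the submonoid `1 + J` -/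
def oneAdd (J : Ideal B) : Submonoid B where
  carrier := {b | b - 1 ∈ J}
  one_mem' := by simp
  mul_mem' := by
    intro a b ha hb
    change a - 1 ∈ J at ha
    change b - 1 ∈ J at hb
    change a * b - 1 ∈ J
    have : a * b - 1 = a * (b - 1) + (a - 1) := by ring
    rw [this]
    exact J.add_mem (J.mul_mem_left a hb) ha

theorem mem_oneAdd {J : Ideal B} {b : B} : b ∈ oneAdd J ↔ b - 1 ∈ J := Iff.rfl

theorem disjoint_oneAdd {J : Ideal B} (q : Ideal B) [hq : q.IsPrime] (hJ : J ≤ q) :
    Disjoint (oneAdd J : Set B) (q : Set B) := by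
  rw [Set.disjoint_left]
  intro b hb hbq
  apply hq.ne_top
  rw [Ideal.eq_top_iff_one]
  have h1 : b - 1 ∈ q := hJ hb
  have : (1 : B) = b - (b - 1) := by ring
  rw [this]
  exact q.sub_mem hbq h1

theorem le_comap_of_isMaximal {J : Ideal B} (P : Ideal (Localization (oneAdd J)))
    [hP : P.IsMaximal] : J ≤ P.comap (algebraMap B (Localization (oneAdd J))) := by
  intro x hx
  rw [Ideal.mem_comap]
  by_contra hxP
  obtain ⟨y, i, hi, hyi⟩ := hP.exists_inv hxP
  obtain ⟨b, m, rfl⟩ := IsLocalization.exists_mk'_eq (oneAdd J) y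
  have hm : (m : B) - b * x ∈ oneAdd J := by
    rw [mem_oneAdd]
    have : (m : B) - b * x - 1 = ((m : B) - 1) - b * x := by ring
    rw [this]
    exact J.sub_mem m.2 (J.mul_mem_left b hx)
  have hunit : IsUnit (algebraMap B (Localization (oneAdd J)) ((m : B) - b * x)) :=
    IsLocalization.map_units (Localization (oneAdd J)) (⟨(m : B) - b * x, hm⟩ : oneAdd J)
  have hmem : algebraMap B (Localization (oneAdd J)) ((m : B) - b * x) ∈ P := by
    have e : algebraMap B (Localization (oneAdd J)) ((m : B) - b * x) =
        i * algebraMap B (Localization (oneAdd J)) (m : B) := by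
      have h1 : IsLocalization.mk' (Localization (oneAdd J)) b m *
          algebraMap B (Localization (oneAdd J)) (m : B) =
          algebraMap B (Localization (oneAdd J)) b := IsLocalization.mk'_spec _ b m
      have h2 : i = 1 - IsLocalization.mk' (Localization (oneAdd J)) b m *
          algebraMap B (Localization (oneAdd J)) x := by
        rw [← hyi]; ring
      rw [h2, map_sub, map_mul, ← h1]
      ring
    rw [e]
    exact P.mul_mem_right _ hi
  exact hP.ne_top (P.eq_top_of_isUnit_mem hmem hunit)

theorem flat_comp_algebraMap_oneAdd (φ : A →+* B) (I : Ideal A)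
    (H : ∀ (q : Ideal B) [q.IsPrime], I.map φ ≤ q →
      (Localization.localRingHom (q.comap φ) q φ rfl).Flat) :
    ((algebraMap B (Localization (oneAdd (I.map φ)))).comp φ).Flat := by
  algebraize [φ]
  have e1 : (algebraMap B (Localization (oneAdd (I.map φ)))).comp φ =
      algebraMap A (Localization (oneAdd (I.map φ))) :=
    (IsScalarTower.algebraMap_eq A B (Localization (oneAdd (I.map φ)))).symm
  rw [e1, RingHom.flat_algebraMap_iff]
  apply Module.flat_of_isLocalized_maximal (Localization (oneAdd (I.map φ)))
    (Localization (oneAdd (I.map φ)))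
    (fun P => Localization.AtPrime P) (fun P => Algebra.linearMap (Localization (oneAdd (I.map φ))) _)
  intro P hP
  have hq : I.map φ ≤ P.comap (algebraMap B (Localization (oneAdd (I.map φ)))) :=
    le_comap_of_isMaximal P
  have hfl := H (P.comap (algebraMap B (Localization (oneAdd (I.map φ))))) hq
  have h1 : Module.Flat A
      (Localization.AtPrime (P.comap (algebraMap B (Localization (oneAdd (I.map φ)))))) := by
    algebraize_only [Localization.localRingHom
      (Ideal.comap φ (P.comap (algebraMap B (Localization (oneAdd (I.map φ))))))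
      (P.comap (algebraMap B (Localization (oneAdd (I.map φ))))) φ rfl]
    have : IsScalarTower A
        (Localization.AtPrime
          (Ideal.comap φ (P.comap (algebraMap B (Localization (oneAdd (I.map φ)))))))
        (Localization.AtPrime (P.comap (algebraMap B (Localization (oneAdd (I.map φ)))))) :=
      .of_algebraMap_eq fun x ↦ (Localization.localRingHom_to_map _ _ _ rfl x).symm
    replace hfl : Module.Flat
        (Localization.AtPrime
          (Ideal.comap φ (P.comap (algebraMap B (Localization (oneAdd (I.map φ)))))))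
        (Localization.AtPrime (P.comap (algebraMap B (Localization (oneAdd (I.map φ)))))) := hfl
    exact Module.Flat.trans A
      (Localization.AtPrime
        (Ideal.comap φ (P.comap (algebraMap B (Localization (oneAdd (I.map φ)))))))
      (Localization.AtPrime (P.comap (algebraMap B (Localization (oneAdd (I.map φ))))))
  let e := IsLocalization.localizationLocalizationAtPrimeIsoLocalization (oneAdd (I.map φ)) P
  exact Module.Flat.of_linearEquiv (e.symm.toLinearEquiv.restrictScalars A)

end Algebra

section Scheme

/-- For `h : Spec B ⟶ Spec A` flat at all points over `V(I)`, there is a flat affine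
`Spec B' ⟶ Spec B ⟶ Spec A` whose image in `Spec B` contains the preimage of `V(I)`. -/
theorem exists_flat_semiloc {A B : CommRingCat.{u}} (h : Spec B ⟶ Spec A) (I : Ideal A)
    (hfl : ∀ w : Spec B, I ≤ (h w).asIdeal → (h.stalkMap w).hom.Flat) :
    ∃ (B' : CommRingCat.{u}) (c : Spec B' ⟶ Spec B), Flat (c ≫ h) ∧
      ∀ w : Spec B, I ≤ (h w).asIdeal → w ∈ Set.range c := by
  obtain ⟨φ, rfl⟩ := Spec.map_surjective h
  refine ⟨CommRingCat.of (Localization (oneAdd (I.map φ.hom))),
    Spec.map (CommRingCat.ofHom (algebraMap B (Localization (oneAdd (I.map φ.hom))))), ?_, ?_⟩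
  · rw [← Spec.map_comp, Flat.SpecMap_iff]
    show ((algebraMap B (Localization (oneAdd (I.map φ.hom)))).comp φ.hom).Flat
    apply flat_comp_algebraMap_oneAdd
    intro q hq hle
    have := hfl ⟨q, hq⟩ (Ideal.map_le_iff_le_comap.1 hle)
    rwa [RingHom.Flat.respectsIso.arrow_mk_iso_iff
      (Scheme.arrowStalkMapSpecIso φ ⟨q, hq⟩)] at this
  · intro w hw
    have hle : I.map φ.hom ≤ w.asIdeal := Ideal.map_le_iff_le_comap.2 hw
    have hr := PrimeSpectrum.localization_comap_range (Localization (oneAdd (I.map φ.hom)))
      (oneAdd (I.map φ.hom))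
    have hw' : w ∈ Set.range (PrimeSpectrum.comap
        (algebraMap B (Localization (oneAdd (I.map φ.hom))))) := by
      rw [hr]
      exact @disjoint_oneAdd _ _ _ w.asIdeal w.isPrime hle
    obtain ⟨x, hx⟩ := hw'
    exact ⟨x, hx⟩

/-- The same for an arbitrary affine source. -/
theorem exists_flat_semiloc' {A : CommRingCat.{u}} {W : Scheme.{u}} [IsAffine W]
    (h : W ⟶ Spec A) (I : Ideal A)
    (hfl : ∀ w : W, I ≤ (h w).asIdeal → (h.stalkMap w).hom.Flat) :
    ∃ (B' : CommRingCat.{u}) (c : Spec B' ⟶ W), Flat (c ≫ h) ∧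
      ∀ w : W, I ≤ (h w).asIdeal → w ∈ Set.range c := by
  obtain ⟨B', c, hc, hr⟩ := exists_flat_semiloc (W.isoSpec.inv ≫ h) I (by
    intro w hw
    have e := Scheme.Hom.stalkMap_comp W.isoSpec.inv h w
    rw [e]
    have hiso : IsIso (Scheme.Hom.stalkMap W.isoSpec.inv w) := inferInstance
    exact RingHom.Flat.comp (hfl _ hw)
      (RingHom.Flat.of_bijective
        (ConcreteCategory.bijective_of_isIso (Scheme.Hom.stalkMap W.isoSpec.inv w))))
  refine ⟨B', c ≫ W.isoSpec.inv, by rwa [Category.assoc], fun w hw => ?_⟩
  have hinv : W.isoSpec.inv (W.isoSpec.hom w) = w := by simp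
  obtain ⟨x, hx⟩ := hr (W.isoSpec.hom w) (by
    rw [Scheme.Hom.comp_apply, hinv]; exact hw)
  refine ⟨x, ?_⟩
  rw [Scheme.Hom.comp_apply, hx, hinv]

end Scheme

end Groth.Agent.Lib.FpqcRefine1H7
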