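import Groth.Agent.Lib.AlgSpFpqc3_helper7

/-!
# fpqc coverings of an algebraic space built chart by chart (helper7)
-/

set_option autoImplicit false
set_option linter.style.haveILetI false
universe u
open CategoryTheory CategoryTheory.Limits AlgebraicGeometry Opposite MorphismProperty
open AlgSp Groth.Agent.Lib.AlgSpQC2_helper7 Groth.Agent.Lib.AlgSpPoints_helper7
  Groth.Agent.Lib.AlgSpQC_helper7 Groth.Agent.Lib.AlgSpTop_helper7
  Groth.Agent.Lib.AlgSpPullback_helper7
  Groth.Agent.Lib.AlgSpLocP_helper7 Groth.Agent.Lib.AlgSpLocP4_helper7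
  Groth.Agent.Lib.AlgSpFpqc3_helper7

namespace Groth.Agent.Lib.FpqcRefine2H7

variable {S : Scheme.{u}}

/-- Charts of an algebraic space by spectra of rings. -/
theorem exists_spec_charts {X : Sp S} (hX : IsAlgSpace X) :
    ∃ (κ : Type u) (A : κ → CommRingCat.{u}) (s : ∀ k, Spec (A k) ⟶ S)
      (r : ∀ k, (yon S).obj (Over.mk (s k)) ⟶ X), (∀ k, RepWith @Etale (r k)) ∧
      ∀ x : Points X, ∃ (k : κ) (v : ↥(Spec (A k))), Points.ofPt (r k) v = x := by
  obtain ⟨κ, T, r, hT, hr, hs⟩ := exists_affine_charts hX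
  let e : ∀ k, Over.mk ((T k).left.isoSpec.inv ≫ (T k).hom) ⟶ T k :=
    fun k => Over.homMk ((T k).left.isoSpec.inv) rfl
  refine ⟨κ, fun k => Γ((T k).left, ⊤), fun k => (T k).left.isoSpec.inv ≫ (T k).hom,
    fun k => (yon S).map (e k) ≫ r k, fun k => ?_, fun x => ?_⟩
  · have h1 : RepWith @Etale ((yon S).map (e k)) := by
      refine (repWith_yon_map_iff @Etale (e k)).2 ?_
      change Etale ((T k).left.isoSpec.inv)
      infer_instance
    exact repWith_comp _ h1 (hr k)
  · obtain ⟨k, t, rfl⟩ := hs x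
    refine ⟨k, (T k).left.isoSpec.hom t, ?_⟩
    rw [ofPt_comp]
    congr 1
    change (T k).left.isoSpec.inv ((T k).left.isoSpec.hom t) = t
    simp

/-- A family of flat affine schemes over affine étale charts `V k` of `X`, jointly surjective
over each chart, is an fpqc covering of `X`. -/
theorem isFpqcCover_of_charts_std {X : Sp S} {κ : Type u} (V : κ → Over S)
    (hV : ∀ k, IsAffine (V k).left)
    (r : ∀ k, (yon S).obj (V k) ⟶ X) (hr : ∀ k, RepWith @Etale (r k))
    (hs : ∀ x : Points X, ∃ (k : κ) (v : ↥(V k).left), Points.ofPt (r k) v = x)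
    (β : κ → Type u) [∀ k, Finite (β k)] (W : ∀ k, β k → Over S) (c : ∀ k b, W k b ⟶ V k)
    (hW : ∀ k b, IsAffine (W k b).left) (hc : ∀ k b, Flat (c k b).left)
    (hsurj : ∀ k (v : ↥(V k).left), ∃ b, v ∈ Set.range (c k b).left) :
    IsFpqcCover (fun p : Σ k, β k => (yon S).obj (W p.1 p.2))
      (fun p => (yon S).map (c p.1 p.2) ≫ r p.1) := by
  refine ⟨fun p => ?_, fun Z hZ t => ?_⟩
  · have h1 : RepWith @Flat ((yon S).map (c p.1 p.2)) :=
      (repWith_yon_map_iff @Flat _).2 (hc p.1 p.2)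
    have h2 : RepWith @Flat (r p.1) :=
      repWith_mono (fun _ _ g (hg : Etale g) => (inferInstance : Flat g)) (hr p.1)
    exact locP_of_repWith @Flat (fun _ _ g (_ : Etale g) => (inferInstance : Flat g)) _
      (repWith_comp @Flat h1 h2)
  · haveI : IsAffine Z.left := hZ
    let Z' : κ → Over S := fun k => (hr k).rep.pullback t
    let π : ∀ k, Z' k ⟶ Z := fun k => (hr k).rep.snd t
    let t' : ∀ k, Z' k ⟶ V k := fun k => (hr k).rep.fst' t
    have sqZ : ∀ k, IsPullback ((yon S).map (t' k)) ((yon S).map (π k)) (r k) t :=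
      fun k => (hr k).rep.isPullback' t
    have hπe : ∀ k, Etale (π k).left := fun k => (hr k).property_snd t
    let 𝒰 : ∀ k, (Z' k).left.OpenCover := fun k => (Z' k).left.affineCover
    have hopen : ∀ a : (Σ k, (𝒰 k).I₀),
        IsOpen (Set.range ((𝒰 a.1).f a.2 ≫ (π a.1).left)) := fun a => by
      haveI := hπe a.1
      haveI : Etale ((𝒰 a.1).f a.2 ≫ (π a.1).left) := inferInstance
      exact ((𝒰 a.1).f a.2 ≫ (π a.1).left).isOpenMap.isOpen_range
    obtain ⟨s, hs'⟩ := isCompact_univ.elim_finite_subcover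
      (fun a : (Σ k, (𝒰 k).I₀) => Set.range ((𝒰 a.1).f a.2 ≫ (π a.1).left)) hopen (by
        intro z _
        obtain ⟨k, v, hv⟩ := hs (Points.ofPt t z)
        obtain ⟨z', -, hz'⟩ := exists_ofPt_eq_of_isPullback (sqZ k) v z hv
        obtain ⟨a, y, rfl⟩ := (𝒰 k).exists_eq z'
        exact Set.mem_iUnion.2 ⟨⟨k, a⟩, y, by rw [Scheme.Hom.comp_apply]; exact hz'⟩)
    let T : ↥s → Over S := fun a => Over.mk ((𝒰 a.1.1).f a.1.2 ≫ (Z' a.1.1).hom)
    let j : ∀ a : ↥s, T a ⟶ Z' a.1.1 := fun a => Over.homMk ((𝒰 a.1.1).f a.1.2) rfl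
    have hTaff : ∀ a, IsAffine (T a).left := fun a => by dsimp [T]; infer_instance
    refine exists_cover_of_refine (fun T c'' => ∃ (p : Σ k, β k)
      (l'' : (yon S).obj T ⟶ (yon S).obj (W p.1 p.2)),
      l'' ≫ (yon S).map (c p.1 p.2) ≫ r p.1 = (yon S).map c'' ≫ t) T
      (fun a => j a ≫ π a.1.1) (fun a => ?_) (fun z => ?_) fun a => ?_
    · rw [Over.comp_left]
      change Flat ((𝒰 a.1.1).f a.1.2 ≫ (π a.1.1).left)
      haveI := hπe a.1.1
      infer_instance
    · obtain ⟨a, ha, y, hy⟩ : ∃ a ∈ s, z ∈ Set.range ((𝒰 a.1).f a.2 ≫ (π a.1).left) := by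
        simpa using hs' (Set.mem_univ z)
      exact ⟨⟨a, ha⟩, y, hy⟩
    · obtain ⟨n, ⟨e⟩⟩ := Finite.exists_equiv_fin (β a.1.1)
      let τ : T a ⟶ V a.1.1 := j a ≫ t' a.1.1
      let P : Fin n → Over S := fun b =>
        Over.mk (pullback.snd (c a.1.1 (e.symm b)).left τ.left ≫ (T a).hom)
      let c' : ∀ b, P b ⟶ T a := fun b => Over.homMk (pullback.snd _ _) rfl
      let q : ∀ b, P b ⟶ W a.1.1 (e.symm b) := fun b => Over.homMk (pullback.fst _ _) (by
        change pullback.fst (c a.1.1 (e.symm b)).left τ.left ≫ (W a.1.1 (e.symm b)).hom =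
          pullback.snd (c a.1.1 (e.symm b)).left τ.left ≫ (T a).hom
        rw [← Over.w (c a.1.1 (e.symm b)), ← Category.assoc, pullback.condition, Category.assoc,
          Over.w τ])
      have hq : ∀ b, q b ≫ c a.1.1 (e.symm b) = c' b ≫ τ := fun b => by
        apply Over.OverMorphism.ext
        change pullback.fst _ _ ≫ (c a.1.1 (e.symm b)).left = pullback.snd _ _ ≫ τ.left
        exact pullback.condition
      refine ⟨n, P, c', fun b => ?_, fun b => ?_, fun w => ?_, fun b => ?_⟩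
      · haveI := hW a.1.1 (e.symm b)
        haveI := hTaff a
        haveI := hV a.1.1
        change IsAffine (pullback (c a.1.1 (e.symm b)).left τ.left)
        infer_instance
      · haveI := hc a.1.1 (e.symm b)
        change Flat (pullback.snd (c a.1.1 (e.symm b)).left τ.left)
        infer_instance
      · obtain ⟨b0, x, hx⟩ := hsurj a.1.1 (τ.left w)
        obtain ⟨b, rfl⟩ := e.symm.surjective b0
        obtain ⟨y, -, hy2⟩ := Scheme.Pullback.exists_preimage_pullback x w hx
        exact ⟨b, y, hy2⟩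
      · refine ⟨⟨a.1.1, e.symm b⟩, (yon S).map (q b), ?_⟩
        rw [← Category.assoc, ← Functor.map_comp, hq b]
        change (yon S).map (c' b ≫ j a ≫ t' a.1.1) ≫ r a.1.1 = _
        rw [← Category.assoc (c' b), Functor.map_comp, Category.assoc, (sqZ a.1.1).w,
          ← Category.assoc, ← Functor.map_comp, Category.assoc]

end Groth.Agent.Lib.FpqcRefine2H7
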