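import Groth.Agent.Lib.FpqcRefine1_helper7
import Groth.Agent.Lib.FpqcRefine2_helper7
import Groth.Agent.Lib.AlgSpGlue4_helper7
import Groth.Agent.Lib.AlgSpOpen_helper7
import Groth.Agent.Lib.AlgSpLocP7_helper7
import Groth.Prelude.Def_AlgSpMor5

/-!
# An fpqc covering refining `{U → X, Y → X}` for a morphism flat along a closed subspace (helper7)
-/

set_option autoImplicit false
set_option linter.style.haveILetI false
universe u
open CategoryTheory CategoryTheory.Limits AlgebraicGeometry Opposite MorphismProperty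
open AlgSp Groth.Agent.Lib.AlgSpQC2_helper7 Groth.Agent.Lib.AlgSpPoints_helper7
  Groth.Agent.Lib.AlgSpQC_helper7 Groth.Agent.Lib.AlgSpTop_helper7
  Groth.Agent.Lib.AlgSpPullback_helper7
  Groth.Agent.Lib.AlgSpLocP_helper7 Groth.Agent.Lib.AlgSpLocP4_helper7
  Groth.Agent.Lib.AlgSpLocP7_helper7
  Groth.Agent.Lib.AlgSpFpqc3_helper7 Groth.Agent.Lib.FpqcRefine1H7 Groth.Agent.Lib.FpqcRefine2H7
  Groth.Agent.Lib.AlgSpGlue4H7 Groth.Agent.Lib.AlgSpOpen_helper7

namespace Groth.Agent.Lib.FpqcRefine3H7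

variable {S : Scheme.{u}}

theorem fg_of_finitePresentation_mk {A : Type u} [CommRing A] (I : Ideal A)
    (h : (Ideal.Quotient.mk I).FinitePresentation) : I.FG := by
  have h' : (algebraMap A (A ⧸ I)).FinitePresentation := h
  haveI : Algebra.FinitePresentation A (A ⧸ I) := RingHom.finitePresentation_algebraMap.1 h'
  have := Algebra.FinitePresentation.ker_fG_of_surjective (Ideal.Quotient.mkₐ A I)
    (Ideal.Quotient.mkₐ_surjective A I)
  have e : RingHom.ker (Ideal.Quotient.mkₐ A I).toRingHom = I := by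
    ext x
    simp
  rwa [e] at this

/-- A closed immersion of finite presentation into `Spec A` has image `V(I)` for a finitely
generated ideal `I`. -/
theorem exists_fg_ideal_range {A : CommRingCat.{u}} {Z : Scheme.{u}} (ι : Z ⟶ Spec A)
    [IsClosedImmersion ι] [LocallyOfFinitePresentation ι] :
    ∃ I : Ideal A, I.FG ∧ ∀ v : ↥(Spec A), v ∈ Set.range ι ↔ I ≤ v.asIdeal := by
  obtain ⟨I, e, he⟩ := IsClosedImmersion.Spec_iff.1 (inferInstance : IsClosedImmersion ι)
  refine ⟨I, ?_, fun v => ?_⟩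
  · apply fg_of_finitePresentation_mk
    have h2 : LocallyOfFinitePresentation (Spec.map (CommRingCat.ofHom (Ideal.Quotient.mk I))) := by
      have e2 : Spec.map (CommRingCat.ofHom (Ideal.Quotient.mk I)) = e.inv ≫ ι := by
        rw [he, Iso.inv_hom_id_assoc]
      rw [e2]
      infer_instance
    exact (HasRingHomProperty.Spec_iff (P := @LocallyOfFinitePresentation)).1 h2
  · have hz : ∀ z, ι z = (Spec.map (CommRingCat.ofHom (Ideal.Quotient.mk I))) (e.hom z) :=
      fun z => by rw [he, Scheme.Hom.comp_apply]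
    constructor
    · rintro ⟨z, rfl⟩ x hx
      rw [hz]
      show x ∈ Ideal.comap (Ideal.Quotient.mk I) _
      rw [Ideal.mem_comap, Ideal.Quotient.eq_zero_iff_mem.2 hx]
      exact Ideal.zero_mem _
    · intro hv
      have hr := range_comap_of_surjective _ (Ideal.Quotient.mk I)
        Ideal.Quotient.mk_surjective
      have hv' : v ∈ Set.range (PrimeSpectrum.comap (Ideal.Quotient.mk I)) := by
        rw [hr, Ideal.mk_ker]
        exact hv
      have hv'' : ∃ w : ↥(Spec (CommRingCat.of (↑A ⧸ I))),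
          (Spec.map (CommRingCat.ofHom (Ideal.Quotient.mk I))) w = v := by
        obtain ⟨w0, hw0⟩ := hv'
        exact ⟨w0, hw0⟩
      obtain ⟨w, hw⟩ := hv''
      refine ⟨e.inv w, ?_⟩
      have h1 : e.hom (e.inv w) = w := by
        rw [← Scheme.Hom.comp_apply, Iso.inv_hom_id]; rfl
      rw [hz, h1]
      exact hw

theorem chart_cover {X Y Z FZ U : AlgSp.Space S} (f : Y ⟶ X)
    (hqc : IsQuasiCompactMor f.hom) (i : Z ⟶ X)
    (hi : RepWith @IsClosedImmersion i.hom) (hifp : LocP @LocallyOfFinitePresentation i.hom)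
    (iY : FZ ⟶ Y) (fZ : FZ ⟶ Z) (hFZ : IsPullback iY.hom fZ.hom f.hom i.hom) [IsIso fZ]
    (hflat : ∀ y ∈ Set.range (Points.map iY.hom), IsFlatAtMor f.hom y) (j : U ⟶ X)
    (hj : RepWith @IsOpenImmersion j.hom)
    (hU : Set.range (Points.map j.hom) = (Set.range (Points.map i.hom))ᶜ)
    (A : CommRingCat.{u}) (s : Spec A ⟶ S) (r : (yon S).obj (Over.mk s) ⟶ X.obj)
    (hr : RepWith @Etale r) :
    ∃ (β : Type u) (_ : Finite β) (W : β → Over S) (c : ∀ b, W b ⟶ Over.mk s),
      (∀ b, IsAffine (W b).left) ∧ (∀ b, Flat (c b).left) ∧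
      (∀ v : ↥(Over.mk s).left, ∃ b, v ∈ Set.range (c b).left) ∧
      ∀ b, (∃ l : (yon S).obj (W b) ⟶ U.obj, l ≫ j.hom = (yon S).map (c b) ≫ r) ∨
           (∃ l : (yon S).obj (W b) ⟶ Y.obj, l ≫ f.hom = (yon S).map (c b) ≫ r) := by
  classical
  -- the closed subscheme of the chart
  have sqZ : IsPullback (hi.rep.fst r) ((yon S).map (hi.rep.snd r)) i.hom r := hi.rep.isPullback r
  let ιL : (hi.rep.pullback r).left ⟶ Spec A := (hi.rep.snd r).left
  haveI hιci : IsClosedImmersion ιL := hi.property_snd r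
  have hloc : LocP @LocallyOfFinitePresentation ((yon S).map (hi.rep.snd r)) :=
    locP_baseChange etLocal_locallyOfFinitePresentation Z.property X.property
      (IsAlgSpace.yon_obj _) i.hom r (hi.rep.fst r) ((yon S).map (hi.rep.snd r)) sqZ hifp
  have hEt : MorphismProperty.IsMultiplicative @Etale.{u} := inferInstance
  haveI := hEt.toContainsIdentities
  haveI hιfp : LocallyOfFinitePresentation ιL :=
    hloc (𝟙 _) (𝟙 _) (hi.rep.snd r) (AlgSp.repWith_id _ _) (AlgSp.repWith_id _ _)
      (by rw [Category.id_comp, Category.comp_id])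
  obtain ⟨I, hIfg, hIr⟩ := exists_fg_ideal_range ιL
  have hC : ∀ v : ↥(Spec A), I ≤ v.asIdeal ↔
      Points.ofPt r v ∈ Set.range (Points.map i.hom) := by
    intro v
    rw [← hIr v]
    have := ofPt_preimage_range i.hom r (hi.rep.fst r) (hi.rep.snd r) sqZ
    change v ∈ Set.range (hi.rep.snd r).left ↔ _
    rw [← this]
    rfl
  obtain ⟨fs, hfs⟩ := hIfg
  -- the base change of `Y` to the chart
  have sqP := IsPullback.of_hasPullback f.hom r
  have hP : IsAlgSpace (pullback f.hom r) :=
    isAlgSpace_of_isPullback X.property.diag Y.property (IsAlgSpace.yon_obj _) sqP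
  haveI : CompactSpace ↥(Over.mk s).left := by
    change CompactSpace ↥(Spec A); infer_instance
  have hPqc : IsQuasiCompactSp (pullback f.hom r) :=
    hqc (IsAlgSpace.yon_obj _) (isQuasiCompactSp_yon (Over.mk s)) r _ _ sqP
  obtain ⟨κ', hfin, T, ρ, hTaff, hρ, hρs⟩ := exists_finite_affine_charts hPqc
  haveI := hfin
  have hpY : RepWith @Etale (pullback.fst f.hom r) := repWith_fst_of_isPullback _ sqP hr
  have hh : ∀ a, ∃ h : T a ⟶ Over.mk s, (yon S).map h = ρ a ≫ pullback.snd f.hom r :=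
    fun a => (yon S).map_surjective _
  choose h hh using hh
  let hL : ∀ a, (T a).left ⟶ Spec A := fun a => (h a).left
  have hcomm : ∀ a, (ρ a ≫ pullback.fst f.hom r) ≫ f.hom = (yon S).map (h a) ≫ r := fun a => by
    rw [Category.assoc, sqP.w, ← Category.assoc, ← hh a]
  have hfl : ∀ a (w : ↥(T a).left), I ≤ (hL a w).asIdeal →
      (Scheme.Hom.stalkMap (hL a) w).hom.Flat := by
    intro a w hw
    have hy : Points.ofPt (ρ a ≫ pullback.fst f.hom r) w ∈ Set.range (Points.map iY.hom) := by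
      obtain ⟨ζ, hζ⟩ := (hC _).1 hw
      have e1 : Points.map f.hom (Points.ofPt (ρ a ≫ pullback.fst f.hom r) w) =
          Points.map i.hom ζ := by
        rw [Points.map_ofPt, hcomm a, ofPt_comp, hζ]
      obtain ⟨φ, hφ, -⟩ := exists_of_isPullback hFZ _ ζ e1
      exact ⟨φ, hφ⟩
    exact hflat _ hy (ρ a ≫ pullback.fst f.hom r) r (h a) w (repWith_comp _ (hρ a) hpY) hr
      (hcomm a) rfl
  have key : ∀ a, ∃ (B' : CommRingCat.{u}) (c : Spec B' ⟶ (T a).left), Flat (c ≫ hL a) ∧
      ∀ w : ↥(T a).left, I ≤ (hL a w).asIdeal → w ∈ Set.range c := fun a => by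
    haveI := hTaff a
    exact exists_flat_semiloc' (hL a) I (hfl a)
  choose B' cc hccflat hcccov using key
  let W : κ' ⊕ ↥fs → Over S := fun b => match b with
    | Sum.inl a => Over.mk (cc a ≫ (T a).hom)
    | Sum.inr g =>
      Over.mk (Spec.map (CommRingCat.ofHom (algebraMap A (Localization.Away g.1))) ≫ s)
  let c : ∀ b, W b ⟶ Over.mk s := fun b => match b with
    | Sum.inl a => Over.homMk (cc a ≫ hL a) (by
        change (cc a ≫ (h a).left) ≫ s = cc a ≫ (T a).hom
        rw [Category.assoc]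
        congr 1
        exact Over.w (h a))
    | Sum.inr g =>
      Over.homMk (Spec.map (CommRingCat.ofHom (algebraMap A (Localization.Away g.1)))) rfl
  refine ⟨κ' ⊕ ↥fs, inferInstance, W, c, ?_, ?_, ?_, ?_⟩
  · rintro (a | g)
    · change IsAffine (Spec (B' a)); infer_instance
    · change IsAffine (Spec _); infer_instance
  · rintro (a | g)
    · exact hccflat a
    · change Flat (Spec.map (CommRingCat.ofHom (algebraMap A (Localization.Away g.1))))
      infer_instance
  · intro v
    by_cases hv : I ≤ (v : ↥(Spec A)).asIdeal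
    · obtain ⟨ζ, hζ⟩ := (hC v).1 hv
      have hfZ : Points.map fZ.hom (Points.map (inv fZ).hom ζ) = ζ := by
        rw [← Points.map_comp]
        have e0 : (inv fZ).hom ≫ fZ.hom = 𝟙 Z.obj :=
          congrArg (fun t => t.hom) (IsIso.inv_hom_id fZ)
        rw [e0, Points.map_id]
      have e1 : Points.map f.hom (Points.map iY.hom (Points.map (inv fZ).hom ζ)) =
          Points.map r (Points.ofScheme (Over.mk s) v) := by
        rw [← Points.map_comp, hFZ.w, Points.map_comp, hfZ, hζ, Points.ofPt_eq_map_ofScheme]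
      obtain ⟨p, -, hp2⟩ := exists_of_isPullback sqP _ _ e1
      obtain ⟨a, w, hw⟩ := hρs p
      have hwv : hL a w = v := by
        apply ofScheme_injective (Over.mk s)
        rw [← hp2, ← hw, Points.map_ofPt, ← hh a, ofPt_yon_map]
      obtain ⟨x, hx⟩ := hcccov a w (by rw [hwv]; exact hv)
      refine ⟨Sum.inl a, x, ?_⟩
      change (cc a ≫ hL a) x = v
      rw [Scheme.Hom.comp_apply, hx, hwv]
    · have hex : ∃ g ∈ fs, g ∉ (v : ↥(Spec A)).asIdeal := by
        by_contra hcon
        push Not at hcon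
        apply hv
        rw [← hfs, Ideal.span_le]
        exact fun g hg => hcon g hg
      obtain ⟨g, hg, hgv⟩ := hex
      have hrg := PrimeSpectrum.localization_away_comap_range (Localization.Away g) g
      have hv' : (v : PrimeSpectrum A) ∈
          Set.range (PrimeSpectrum.comap (algebraMap A (Localization.Away g))) := by
        rw [hrg]; exact hgv
      obtain ⟨x, hx⟩ := hv'
      exact ⟨Sum.inr ⟨g, hg⟩, x, hx⟩
  · rintro (a | g)
    · right
      refine ⟨(yon S).map (Over.homMk (cc a) rfl : W (Sum.inl a) ⟶ T a) ≫ ρ a ≫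
        pullback.fst f.hom r, ?_⟩
      have hc : c (Sum.inl a) = (Over.homMk (cc a) rfl : W (Sum.inl a) ⟶ T a) ≫ h a := by
        apply Over.OverMorphism.ext; rfl
      calc ((yon S).map (Over.homMk (cc a) rfl : W (Sum.inl a) ⟶ T a) ≫ ρ a ≫
            pullback.fst f.hom r) ≫ f.hom
          = (yon S).map (Over.homMk (cc a) rfl : W (Sum.inl a) ⟶ T a) ≫
            ((ρ a ≫ pullback.fst f.hom r) ≫ f.hom) := by simp only [Category.assoc]
        _ = (yon S).map (Over.homMk (cc a) rfl : W (Sum.inl a) ⟶ T a) ≫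
            ((yon S).map (h a) ≫ r) := by rw [hcomm a]
        _ = (yon S).map (c (Sum.inl a)) ≫ r := by rw [hc, Functor.map_comp, Category.assoc]
    · left
      apply (factors_iff_of_openImmersion j.hom hj _).2
      rintro _ ⟨p, rfl⟩
      obtain ⟨x, rfl⟩ := ofScheme_surjective _ p
      rw [hU, ← Points.ofPt_eq_map_ofScheme, ofPt_comp]
      intro hmem
      have hle := (hC _).2 hmem
      have hgI : (g : A) ∈ I := by rw [← hfs]; exact Ideal.subset_span g.2
      have hx : algebraMap A (Localization.Away (g : A)) g ∈ x.asIdeal := hle hgI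
      exact x.isPrime.ne_top (Ideal.eq_top_of_isUnit_mem _ hx
        (IsLocalization.Away.algebraMap_isUnit (g : A)))

theorem main10704 {X Y Z FZ U : AlgSp.Space S} (f : Y ⟶ X)
    (hqc : IsQuasiCompactMor f.hom) (i : Z ⟶ X)
    (hi : RepWith @IsClosedImmersion i.hom) (hifp : LocP @LocallyOfFinitePresentation i.hom)
    (iY : FZ ⟶ Y) (fZ : FZ ⟶ Z) (hFZ : IsPullback iY.hom fZ.hom f.hom i.hom) [IsIso fZ]
    (hflat : ∀ y ∈ Set.range (Points.map iY.hom), IsFlatAtMor f.hom y) (j : U ⟶ X)
    (hj : RepWith @IsOpenImmersion j.hom)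
    (hU : Set.range (Points.map j.hom) = (Set.range (Points.map i.hom))ᶜ) :
    ∃ (ι : Type u) (W : ι → AlgSp.Space S) (w : ∀ k, W k ⟶ X),
      IsFpqcCover (fun k => (W k).obj) (fun k => (w k).hom) ∧
        ∀ k, (∃ l : W k ⟶ U, l ≫ j = w k) ∨ (∃ l : W k ⟶ Y, l ≫ f = w k) := by
  obtain ⟨κ, A, s, r, hr, hs⟩ := exists_spec_charts X.property
  have key := fun k => chart_cover f hqc i hi hifp iY fZ hFZ hflat j hj hU (A k) (s k) (r k) (hr k)
  choose β hβ W c hW hc hsurj hl using key
  haveI := hβ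
  refine ⟨Σ k, β k, fun p => ⟨(yon S).obj (W p.1 p.2), IsAlgSpace.yon_obj _⟩,
    fun p => ObjectProperty.homMk ((yon S).map (c p.1 p.2) ≫ r p.1), ?_, ?_⟩
  · exact isFpqcCover_of_charts_std (fun k => Over.mk (s k))
      (fun k => by change IsAffine (Spec (A k)); infer_instance) r hr hs β W c hW hc hsurj
  · intro p
    rcases hl p.1 p.2 with ⟨l, hl⟩ | ⟨l, hl⟩
    · left
      exact ⟨ObjectProperty.homMk l, ObjectProperty.hom_ext _ hl⟩
    · right
      exact ⟨ObjectProperty.homMk l, ObjectProperty.hom_ext _ hl⟩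

end Groth.Agent.Lib.FpqcRefine3H7
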