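import Groth.Agent.Lib.FpqcRefine3_helper7

/-!
# The formal glueing functor reflects isomorphisms (helper7)
-/

set_option autoImplicit false
set_option linter.style.haveILetI false
universe u
open CategoryTheory CategoryTheory.Limits AlgebraicGeometry Opposite MorphismProperty
open AlgSp Groth.Agent.Lib.AlgSpPullback_helper7
  Groth.Agent.Lib.AlgSpFpqc3_helper7 Groth.Agent.Lib.FpqcRefine3H7
  Groth.Agent.Lib.AlgSpIso_helper7

namespace Groth.Agent.Lib.FpqcRefine4H7

variable {S : Scheme.{u}}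

/-- If `g : W' ⟶ X₂` lies over `t : W' ⟶ B` and the base change of `a : X₁ ⟶ X₂` to
`X₂ ×_X B` is an isomorphism, then the base change of `a` along `g` is an isomorphism. -/
theorem isIso_snd_of_factor {X X₁ X₂ Q Q₁ B W' P : Sp S} (p₂ : X₂ ⟶ X) (a : X₁ ⟶ X₂)
    (β : B ⟶ X) (qB : Q ⟶ X₂) (rB : Q ⟶ B) (hQ : IsPullback qB rB p₂ β) (aB : Q₁ ⟶ Q)
    (bB : Q₁ ⟶ X₁) (hQ₁ : IsPullback bB aB a qB) [IsIso aB]
    (g : W' ⟶ X₂) (t : W' ⟶ B) (ht : g ≫ p₂ = t ≫ β) (fst : P ⟶ X₁) (snd : P ⟶ W')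
    (sq : IsPullback fst snd a g) : IsIso snd := by
  have hm : hQ.lift g t ht ≫ qB = g := hQ.lift_fst _ _ _
  have hn : fst ≫ a = (snd ≫ hQ.lift g t ht) ≫ qB := by
    rw [Category.assoc, hm, sq.w]
  have outer : IsPullback (hQ₁.lift fst (snd ≫ hQ.lift g t ht) hn ≫ bB) snd a
      (hQ.lift g t ht ≫ qB) := by
    rw [hQ₁.lift_fst, hm]
    exact sq
  have left : IsPullback (hQ₁.lift fst (snd ≫ hQ.lift g t ht) hn) snd aB (hQ.lift g t ht) :=
    IsPullback.of_right outer (hQ₁.lift_snd _ _ _) hQ₁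
  exact left.isIso_snd_of_isIso

theorem main10705 {X Y Z FZ U : AlgSp.Space S} (f : Y ⟶ X)
    (hqc : IsQuasiCompactMor f.hom) (i : Z ⟶ X)
    (hi : RepWith @IsClosedImmersion i.hom) (hifp : LocP @LocallyOfFinitePresentation i.hom)
    (iY : FZ ⟶ Y) (fZ : FZ ⟶ Z) (hFZ : IsPullback iY.hom fZ.hom f.hom i.hom) [IsIso fZ]
    (hflat : ∀ y ∈ Set.range (Points.map iY.hom), IsFlatAtMor f.hom y) (j : U ⟶ X)
    (hj : RepWith @IsOpenImmersion j.hom)
    (hU : Set.range (Points.map j.hom) = (Set.range (Points.map i.hom))ᶜ)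
    {X₁ X₂ QU QU₁ QY QY₁ : AlgSp.Space S} (p₂ : X₂ ⟶ X) (a : X₁ ⟶ X₂)
    (qU : QU ⟶ X₂) (rU : QU ⟶ U) (hQU : IsPullback qU.hom rU.hom p₂.hom j.hom) (aU : QU₁ ⟶ QU)
    (bU : QU₁ ⟶ X₁) (hQU₁ : IsPullback bU.hom aU.hom a.hom qU.hom) [IsIso aU] (qY : QY ⟶ X₂)
    (rY : QY ⟶ Y) (hQY : IsPullback qY.hom rY.hom p₂.hom f.hom) (aY : QY₁ ⟶ QY) (bY : QY₁ ⟶ X₁)
    (hQY₁ : IsPullback bY.hom aY.hom a.hom qY.hom) [IsIso aY] : IsIso a := by
  obtain ⟨ι, W, w, hcov, hw⟩ := main10704 f hqc i hi hifp iY fZ hFZ hflat j hj hU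
  haveI hUiso : IsIso aU.hom :=
    (inferInstance : IsIso ((ObjectProperty.ι (IsAlgSpace (S := S))).map aU))
  haveI hYiso : IsIso aY.hom :=
    (inferInstance : IsIso ((ObjectProperty.ι (IsAlgSpace (S := S))).map aY))
  have sqW : ∀ k, IsPullback (pullback.fst p₂.hom (w k).hom) (pullback.snd p₂.hom (w k).hom)
      p₂.hom (w k).hom := fun k => IsPullback.of_hasPullback _ _
  have hW' : ∀ k, IsAlgSpace (pullback p₂.hom (w k).hom) := fun k =>
    isAlgSpace_of_isPullback X.property.diag X₂.property (W k).property (sqW k)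
  have hcov' : IsFpqcCover (fun k => pullback p₂.hom (w k).hom)
      (fun k => pullback.fst p₂.hom (w k).hom) :=
    isFpqcCover_baseChange X.property X₂.property p₂.hom (fun k => (W k).obj)
      (fun k => (w k).hom) (fun k => (W k).property) _ _ (fun k => pullback.snd p₂.hom (w k).hom)
      sqW hcov
  have sqs : ∀ k, IsPullback (pullback.fst a.hom (pullback.fst p₂.hom (w k).hom))
      (pullback.snd a.hom (pullback.fst p₂.hom (w k).hom)) a.hom
      (pullback.fst p₂.hom (w k).hom) := fun k => IsPullback.of_hasPullback _ _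
  have hXi : ∀ k, IsAlgSpace (pullback a.hom (pullback.fst p₂.hom (w k).hom)) := fun k =>
    isAlgSpace_of_isPullback X₂.property.diag X₁.property (hW' k) (sqs k)
  have hiso : IsIso a.hom := by
    refine (isLocalOnBase_fpqc_isomorphisms _ _ X₂.property hW' hcov' a.hom X₁.property _
      (fun k => pullback.snd a.hom (pullback.fst p₂.hom (w k).hom))
      (fun k => pullback.fst a.hom (pullback.fst p₂.hom (w k).hom)) hXi sqs).2 fun k => ?_
    rcases hw k with ⟨l, hl⟩ | ⟨l, hl⟩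
    · have hl' : l.hom ≫ j.hom = (w k).hom := congrArg (fun t => t.hom) hl
      exact isIso_snd_of_factor p₂.hom a.hom j.hom qU.hom rU.hom hQU aU.hom bU.hom hQU₁
        (pullback.fst p₂.hom (w k).hom) (pullback.snd p₂.hom (w k).hom ≫ l.hom)
        (by rw [Category.assoc, hl', pullback.condition]) _ _ (sqs k)
    · have hl' : l.hom ≫ f.hom = (w k).hom := congrArg (fun t => t.hom) hl
      exact isIso_snd_of_factor p₂.hom a.hom f.hom qY.hom rY.hom hQY aY.hom bY.hom hQY₁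
        (pullback.fst p₂.hom (w k).hom) (pullback.snd p₂.hom (w k).hom ≫ l.hom)
        (by rw [Category.assoc, hl', pullback.condition]) _ _ (sqs k)
  haveI : IsIso ((ObjectProperty.ι (IsAlgSpace (S := S))).map a) := hiso
  exact isIso_of_fully_faithful (ObjectProperty.ι (IsAlgSpace (S := S))) a

end Groth.Agent.Lib.FpqcRefine4H7
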