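import Mathlib
import Groth.Prelude
import Groth.Agent.Lib.Seesaw4_helper9

/-!
# The seesaw principle, part 5: products over a field (helper9)

* `main16682`: invertible modules on `X ×_k Y` (`X` proper geometrically integral) which are
  isomorphic on the fibres over the closed points of `Y` differ by the pullback of an invertible
  module on `Y`.
APPEND-ONLY once landed.
-/

set_option autoImplicit false
universe u
open CategoryTheory Limits AlgebraicGeometry TopologicalSpace Opposite TensorProduct MonoidalCategory

namespace Seesaw9

open Groth.Agent.Lib.BCLocH2 QcqsLoc QCohExtn GenLocH8 FLFH8 TensH8 Groth.Agent.Lib.H0LiftH2 PBH8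
  Groth.Agent.TensInv

theorem geomConnected_of_geomIrreducible {X S : Scheme.{u}} (f : X ⟶ S)
    [GeometricallyIrreducible f] : GeometricallyConnected f :=
  ⟨fun K _ y Z fst snd h => by
    haveI : IrreducibleSpace Z :=
      GeometricallyIrreducible.geometrically_irreducibleSpace (f := f) y fst snd h
    infer_instance⟩

section General

variable {X Y : Scheme.{u}} (f : X ⟶ Y) [IsProper f] [Flat f] [IsLocallyNoetherian Y] [IsReduced Y]

/-- the bijectivity hypothesis for geometrically integral fibres -/
theorem bijective_of_geomIntegral [GeometricallyIntegral f] (y : Y) :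
    Function.Bijective (algebraMap (Y.residueField y) Γ(f.fiber y, ⊤)) := by
  haveI : GeometricallyConnected f := geomConnected_of_geomIrreducible f
  haveI : IsProper (f.fiberToSpecResidueField y) :=
    MorphismProperty.pullback_snd (P := @IsProper) f (Y.fromSpecResidueField y) inferInstance
  haveI : GeometricallyReduced (f.fiberToSpecResidueField y) :=
    inferInstanceAs (GeometricallyReduced (pullback.snd f (Y.fromSpecResidueField y)))
  haveI : GeometricallyConnected (f.fiberToSpecResidueField y) :=
    inferInstanceAs (GeometricallyConnected (pullback.snd f (Y.fromSpecResidueField y)))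
  have h := Groth.Agent.Lib.H0ConstH4.toGlobal_bijective (Y.residueField y)
    (X := f.fiber y) (f.fiberToSpecResidueField y)
  exact h

/-- seesaw with the hypothesis on closed points only, over a Jacobson base -/
theorem exists_iso_tensor_pullback_of_closedPoints [JacobsonSpace Y]
    (hbij : ∀ y : Y, Function.Bijective (algebraMap (Y.residueField y) Γ(f.fiber y, ⊤)))
    (hint : ∀ y : Y, IsIntegral (f.fiber y))
    (L M : X.Modules) (hL : PicF.IsInvertible L) (hM : PicF.IsInvertible M)
    (hLM : ∀ y : Y, IsClosed ({y} : Set Y) →
      Nonempty ((Scheme.Modules.pullback (f.fiberι y)).obj L ≅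
        (Scheme.Modules.pullback (f.fiberι y)).obj M)) :
    ∃ E : Y.Modules, PicF.IsInvertible E ∧
      Nonempty (L ≅ CohB1.tensorMod M ((Scheme.Modules.pullback f).obj E)) := by
  obtain ⟨M', hM', ⟨eM⟩⟩ := Groth.Agent.InvTensP.exists_inverse M hM
  have hN : PicF.IsInvertible (CohB1.tensorMod M' L) := TensH8.isInvertible_tensorMod hM' hL
  have hcl := isClosed_trivial_locus f hint _ hN
  have huniv : {y : Y | Nonempty (CohIII.fiberMod f (CohB1.tensorMod M' L) y ≅
      Coh.structureModule (f.fiber y))} = Set.univ := by
    apply Set.eq_univ_of_univ_subset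
    rw [← closure_closedPoints (X := Y)]
    apply hcl.closure_subset_iff.mpr
    intro y hy
    obtain ⟨ey⟩ := hLM y hy
    exact ⟨(Groth.Agent.InvTensP.pullbackTensorIso (f.fiberι y) hM' hL).symm ≪≫
      mapL ((Scheme.Modules.pullback (f.fiberι y)).obj M') ey ≪≫
      Groth.Agent.InvTensP.pullbackTensorIso (f.fiberι y) hM' hM ≪≫
      (Scheme.Modules.pullback (f.fiberι y)).mapIso (comm M' M ≪≫ eM) ≪≫
      PBH8.pullbackUnitIso (f.fiberι y)⟩
  have htriv : ∀ y : Y, Nonempty (CohIII.fiberMod f (CohB1.tensorMod M' L) y ≅
      Coh.structureModule (f.fiber y)) := fun y => by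
    have h1 : y ∈ {y : Y | Nonempty (CohIII.fiberMod f (CohB1.tensorMod M' L) y ≅
        Coh.structureModule (f.fiber y))} := by
      rw [huniv]
      trivial
    exact h1
  obtain ⟨hE, hiso⟩ := main_push f hbij _ hN htriv
  haveI := hiso
  refine ⟨_, hE, ⟨?_⟩⟩
  have eL : L ≅ CohB1.tensorMod M (CohB1.tensorMod M' L) :=
    (rightUnit L).symm ≪≫ comm L (Coh.structureModule X) ≪≫ mapR eM.symm L ≪≫ assoc M M' L
  exact eL ≪≫ mapL M (asIso ((Scheme.Modules.pullbackPushforwardAdjunction f).counit.app
    (CohB1.tensorMod M' L))).symm

end General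

section Prod

open CartesianMonoidalCategory

/-- **S16682** -/
theorem main16682 (k : Type u) [Field k]
    (X Y : Over (Spec (CommRingCat.of k)))
    [IsProper X.hom] [GeometricallyIntegral X.hom]
    [LocallyOfFiniteType Y.hom] [GeometricallyIntegral Y.hom]
    (L M : (X ⊗ Y).left.Modules) (hL : PicF.IsInvertible L) (hM : PicF.IsInvertible M)
    (h : ∀ y : ↥Y.left, IsClosed ({y} : Set ↥Y.left) →
      Nonempty ((Scheme.Modules.pullback (pullback.fst (snd X Y).left
          (Y.left.fromSpecResidueField y))).obj L ≅
        (Scheme.Modules.pullback (pullback.fst (snd X Y).left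
          (Y.left.fromSpecResidueField y))).obj M)) :
    ∃ N : Y.left.Modules, PicF.IsInvertible N ∧
      Nonempty (L ≅ CohB1.tensorMod M ((Scheme.Modules.pullback (snd X Y).left).obj N)) := by
  haveI : IsProper (snd X Y).left := (inferInstance : IsProper (pullback.snd X.hom Y.hom))
  haveI : Flat X.hom := inferInstance
  haveI : Flat (snd X Y).left := (inferInstance : Flat (pullback.snd X.hom Y.hom))
  haveI : GeometricallyIntegral (snd X Y).left :=
    (inferInstance : GeometricallyIntegral (pullback.snd X.hom Y.hom))
  haveI : IsLocallyNoetherian Y.left := LocallyOfFiniteType.isLocallyNoetherian Y.hom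
  haveI hsub : Subsingleton ↥(Spec (CommRingCat.of k)) :=
    inferInstanceAs (Subsingleton (PrimeSpectrum k))
  haveI : IsIntegral Y.left := GeometricallyIntegral.isIntegral_of_subsingleton Y.hom
  haveI : IsReduced Y.left := inferInstance
  haveI : JacobsonSpace Y.left := LocallyOfFiniteType.jacobsonSpace Y.hom
  exact exists_iso_tensor_pullback_of_closedPoints (snd X Y).left
    (fun y => bijective_of_geomIntegral (snd X Y).left y) (fun y => inferInstance) L M hL hM h

end Prod

end Seesaw9
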