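import Mathlib

/-!
# From `Ω ⊗[A] B` to `Ω ⊗[K] L` for fraction fields `K = Frac A`, `L = Frac B` (helper3)

`A ⊆ B` domains with fraction fields `K ⊆ L`, `Ω` a `K`-algebra.  The natural map
`ν : Ω ⊗[A] B → Ω ⊗[K] L` is injective and every element of the target becomes an element of the
range after multiplication by some `1 ⊗ s`, `s ∈ B ∖ 0`.  Hence `Ω ⊗[K] L` is reduced (a domain)
as soon as `Ω ⊗[A] B` is.
-/

set_option autoImplicit false
set_option maxSynthPendingDepth 3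

namespace Groth.Agent.Lib.FracBridgeH3

universe u

open TensorProduct

variable (A K B L Ω : Type u) [CommRing A] [IsDomain A] [Field K] [Algebra A K] [IsFractionRing A K]
  [CommRing B] [IsDomain B] [Algebra A B] [Field L] [Algebra B L] [IsFractionRing B L]
  [Algebra K L] [Algebra A L] [IsScalarTower A K L] [IsScalarTower A B L]
  [CommRing Ω] [Algebra K Ω] [Algebra A Ω] [IsScalarTower A K Ω]

/-- `K ⊗[A] B → L`. -/
noncomputable def j : K ⊗[A] B →ₐ[K] L :=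
  Algebra.TensorProduct.lift (Algebra.ofId K L) (IsScalarTower.toAlgHom A B L)
    (fun _ _ => Commute.all _ _)

theorem j_tmul (k : K) (b : B) : j A K B L (k ⊗ₜ[A] b) = algebraMap K L k * algebraMap B L b := by
  simp [j, Algebra.ofId_apply]

theorem clear_denominators (y : K ⊗[A] B) :
    ∃ a : A, a ≠ 0 ∧ ∃ b : B, (algebraMap A K a ⊗ₜ[A] (1 : B)) * y = 1 ⊗ₜ[A] b := by
  induction y using TensorProduct.induction_on with
  | zero => exact ⟨1, one_ne_zero, 0, by simp⟩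
  | tmul k b =>
    obtain ⟨c, a, ha, rfl⟩ := IsFractionRing.div_surjective (A := A) k
    have ha0 : a ≠ 0 := nonZeroDivisors.ne_zero ha
    have haK : algebraMap A K a ≠ 0 := by
      rw [Ne, map_eq_zero_iff _ (IsFractionRing.injective A K)]; exact ha0
    refine ⟨a, ha0, c • b, ?_⟩
    rw [Algebra.TensorProduct.tmul_mul_tmul, one_mul, mul_div_cancel₀ _ haK,
      Algebra.algebraMap_eq_smul_one, TensorProduct.smul_tmul]
  | add y₁ y₂ h₁ h₂ =>
    obtain ⟨a₁, ha₁, b₁, hb₁⟩ := h₁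
    obtain ⟨a₂, ha₂, b₂, hb₂⟩ := h₂
    refine ⟨a₁ * a₂, mul_ne_zero ha₁ ha₂, a₂ • b₁ + a₁ • b₂, ?_⟩
    have e1 : (algebraMap A K (a₁ * a₂) ⊗ₜ[A] (1 : B)) =
        (algebraMap A K a₂ ⊗ₜ[A] (1 : B)) * (algebraMap A K a₁ ⊗ₜ[A] (1 : B)) := by
      rw [Algebra.TensorProduct.tmul_mul_tmul, one_mul, map_mul, mul_comm]
    have e2 : (algebraMap A K (a₁ * a₂) ⊗ₜ[A] (1 : B)) =
        (algebraMap A K a₁ ⊗ₜ[A] (1 : B)) * (algebraMap A K a₂ ⊗ₜ[A] (1 : B)) := by
      rw [Algebra.TensorProduct.tmul_mul_tmul, one_mul, map_mul]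
    have e3 : ∀ (a : A) (b : B), (algebraMap A K a ⊗ₜ[A] (1 : B)) * (1 ⊗ₜ[A] b) =
        (1 : K) ⊗ₜ[A] (a • b) := by
      intro a b
      rw [Algebra.TensorProduct.tmul_mul_tmul, one_mul, mul_one, Algebra.algebraMap_eq_smul_one,
        TensorProduct.smul_tmul]
    rw [mul_add]
    nth_rw 1 [e1]
    rw [e2, mul_assoc, mul_assoc, hb₁, hb₂, e3, e3, TensorProduct.tmul_add]

theorem j_injective : Function.Injective (j A K B L) := by
  rw [injective_iff_map_eq_zero]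
  intro y hy
  obtain ⟨a, ha, b, hb⟩ := clear_denominators A K B y
  have haK : algebraMap A K a ≠ 0 := by
    rw [Ne, map_eq_zero_iff _ (IsFractionRing.injective A K)]; exact ha
  have h1 : j A K B L ((algebraMap A K a ⊗ₜ[A] (1 : B)) * y) = 0 := by
    rw [map_mul, hy, mul_zero]
  rw [hb, j_tmul, map_one, one_mul] at h1
  have hb0 : b = 0 := (map_eq_zero_iff _ (IsFractionRing.injective B L)).mp h1
  rw [hb0, TensorProduct.tmul_zero] at hb
  have hunit : ((algebraMap A K a)⁻¹ ⊗ₜ[A] (1 : B)) * (algebraMap A K a ⊗ₜ[A] (1 : B)) = 1 := by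
    rw [Algebra.TensorProduct.tmul_mul_tmul, one_mul, inv_mul_cancel₀ haK]
    rfl
  calc y = (((algebraMap A K a)⁻¹ ⊗ₜ[A] (1 : B)) * (algebraMap A K a ⊗ₜ[A] (1 : B))) * y := by
        rw [hunit, one_mul]
    _ = 0 := by rw [mul_assoc, hb, mul_zero]

/-- `ν : Ω ⊗[A] B → Ω ⊗[K] L`. -/
noncomputable def nu : Ω ⊗[A] B →+* Ω ⊗[K] L :=
  ((Algebra.TensorProduct.map (AlgHom.id K Ω) (j A K B L)).toRingHom).comp
    ((Algebra.TensorProduct.cancelBaseChange A K K Ω B).symm.toRingEquiv.toRingHom)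

theorem nu_tmul (ω : Ω) (b : B) :
    nu A K B L Ω (ω ⊗ₜ[A] b) = ω ⊗ₜ[K] algebraMap B L b := by
  have h1 : (Algebra.TensorProduct.cancelBaseChange A K K Ω B).symm (ω ⊗ₜ[A] b) =
      ω ⊗ₜ[K] ((1 : K) ⊗ₜ[A] b) := by
    rw [AlgEquiv.symm_apply_eq]
    simp
  show (Algebra.TensorProduct.map (AlgHom.id K Ω) (j A K B L))
    ((Algebra.TensorProduct.cancelBaseChange A K K Ω B).symm (ω ⊗ₜ[A] b)) = _
  rw [h1, Algebra.TensorProduct.map_tmul, j_tmul, map_one, one_mul]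
  rfl

theorem nu_injective : Function.Injective (nu A K B L Ω) := by
  have h1 : Function.Injective (Algebra.TensorProduct.map (AlgHom.id K Ω) (j A K B L)) := by
    have : (Algebra.TensorProduct.map (AlgHom.id K Ω) (j A K B L) : Ω ⊗[K] (K ⊗[A] B) → Ω ⊗[K] L) =
        LinearMap.lTensor Ω (j A K B L).toLinearMap := by
      ext z
      induction z using TensorProduct.induction_on with
      | zero => simp
      | tmul a b => simp
      | add a b ha hb => simp only [map_add, ha, hb]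
    rw [this]
    exact Module.Flat.lTensor_preserves_injective_linearMap _ (j_injective A K B L)
  exact h1.comp (Algebra.TensorProduct.cancelBaseChange A K K Ω B).symm.injective

theorem exists_mul_eq_nu (y : Ω ⊗[K] L) :
    ∃ s : B, s ≠ 0 ∧ ∃ t : Ω ⊗[A] B, ((1 : Ω) ⊗ₜ[K] algebraMap B L s) * y = nu A K B L Ω t := by
  induction y using TensorProduct.induction_on with
  | zero => exact ⟨1, one_ne_zero, 0, by simp⟩
  | tmul ω l =>
    obtain ⟨b, s, hs, rfl⟩ := IsFractionRing.div_surjective (A := B) l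
    have hs0 : s ≠ 0 := nonZeroDivisors.ne_zero hs
    have hsL : algebraMap B L s ≠ 0 := by
      rw [Ne, map_eq_zero_iff _ (IsFractionRing.injective B L)]; exact hs0
    refine ⟨s, hs0, ω ⊗ₜ[A] b, ?_⟩
    rw [Algebra.TensorProduct.tmul_mul_tmul, one_mul, mul_div_cancel₀ _ hsL, nu_tmul]
  | add y₁ y₂ h₁ h₂ =>
    obtain ⟨s₁, hs₁, t₁, ht₁⟩ := h₁
    obtain ⟨s₂, hs₂, t₂, ht₂⟩ := h₂
    refine ⟨s₁ * s₂, mul_ne_zero hs₁ hs₂, ((1 : Ω) ⊗ₜ[A] s₂) * t₁ + ((1 : Ω) ⊗ₜ[A] s₁) * t₂, ?_⟩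
    have e1 : ((1 : Ω) ⊗ₜ[K] algebraMap B L (s₁ * s₂)) =
        ((1 : Ω) ⊗ₜ[K] algebraMap B L s₂) * ((1 : Ω) ⊗ₜ[K] algebraMap B L s₁) := by
      rw [Algebra.TensorProduct.tmul_mul_tmul, one_mul, map_mul, mul_comm]
    have e2 : ((1 : Ω) ⊗ₜ[K] algebraMap B L (s₁ * s₂)) =
        ((1 : Ω) ⊗ₜ[K] algebraMap B L s₁) * ((1 : Ω) ⊗ₜ[K] algebraMap B L s₂) := by
      rw [Algebra.TensorProduct.tmul_mul_tmul, one_mul, map_mul]
    calc ((1 : Ω) ⊗ₜ[K] algebraMap B L (s₁ * s₂)) * (y₁ + y₂)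
        = ((1 : Ω) ⊗ₜ[K] algebraMap B L s₂) * (((1 : Ω) ⊗ₜ[K] algebraMap B L s₁) * y₁) +
          ((1 : Ω) ⊗ₜ[K] algebraMap B L s₁) * (((1 : Ω) ⊗ₜ[K] algebraMap B L s₂) * y₂) := by
          rw [mul_add]
          nth_rw 1 [e1]
          rw [e2, mul_assoc, mul_assoc]
      _ = ((1 : Ω) ⊗ₜ[K] algebraMap B L s₂) * nu A K B L Ω t₁ +
          ((1 : Ω) ⊗ₜ[K] algebraMap B L s₁) * nu A K B L Ω t₂ := by rw [ht₁, ht₂]
      _ = nu A K B L Ω (((1 : Ω) ⊗ₜ[A] s₂) * t₁ + ((1 : Ω) ⊗ₜ[A] s₁) * t₂) := by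
          rw [map_add, map_mul, map_mul, nu_tmul, nu_tmul]

theorem isUnit_one_tmul {s : B} (hs : s ≠ 0) :
    IsUnit ((1 : Ω) ⊗ₜ[K] algebraMap B L s) := by
  have hsL : algebraMap B L s ≠ 0 := by
    rw [Ne, map_eq_zero_iff _ (IsFractionRing.injective B L)]; exact hs
  refine IsUnit.of_mul_eq_one ((1 : Ω) ⊗ₜ[K] (algebraMap B L s)⁻¹) ?_
  rw [Algebra.TensorProduct.tmul_mul_tmul, one_mul, mul_inv_cancel₀ hsL]
  rfl

theorem isReduced_tensor (h : IsReduced (Ω ⊗[A] B)) : IsReduced (Ω ⊗[K] L) := by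
  refine ⟨fun y hy => ?_⟩
  obtain ⟨m, hm⟩ := hy
  obtain ⟨s, hs, t, ht⟩ := exists_mul_eq_nu A K B L Ω y
  have h1 : nu A K B L Ω (t ^ m) = 0 := by
    rw [map_pow, ← ht, mul_pow, hm, mul_zero]
  have h2 : t ^ m = 0 := nu_injective A K B L Ω (by rw [h1, map_zero])
  have h3 : t = 0 := IsReduced.eq_zero t ⟨m, h2⟩
  rw [h3, map_zero] at ht
  exact (isUnit_one_tmul K B L Ω hs).mul_right_eq_zero.mp ht

theorem isDomain_tensor (h : IsDomain (Ω ⊗[A] B)) : IsDomain (Ω ⊗[K] L) := by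
  haveI : Nontrivial (Ω ⊗[K] L) := by
    refine ⟨⟨0, 1, fun h01 => ?_⟩⟩
    have : nu A K B L Ω 0 = nu A K B L Ω 1 := by rw [map_zero, map_one, h01]
    exact zero_ne_one (nu_injective A K B L Ω this)
  haveI : NoZeroDivisors (Ω ⊗[K] L) := by
    refine ⟨fun {u v} huv => ?_⟩
    obtain ⟨s, hs, t, ht⟩ := exists_mul_eq_nu A K B L Ω u
    obtain ⟨s', hs', t', ht'⟩ := exists_mul_eq_nu A K B L Ω v
    have h1 : nu A K B L Ω (t * t') = 0 := by
      rw [map_mul, ← ht, ← ht']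
      calc (1 ⊗ₜ[K] algebraMap B L s * u) * (1 ⊗ₜ[K] algebraMap B L s' * v)
          = (1 ⊗ₜ[K] algebraMap B L s) * (1 ⊗ₜ[K] algebraMap B L s') * (u * v) := by ring
        _ = 0 := by rw [huv, mul_zero]
    have h2 : t * t' = 0 := nu_injective A K B L Ω (by rw [h1, map_zero])
    rcases mul_eq_zero.mp h2 with h3 | h3
    · left
      rw [h3, map_zero] at ht
      exact (isUnit_one_tmul K B L Ω hs).mul_right_eq_zero.mp ht
    · right
      rw [h3, map_zero] at ht'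
      exact (isUnit_one_tmul K B L Ω hs').mul_right_eq_zero.mp ht'
  exact NoZeroDivisors.to_isDomain _

section Finrank

variable (K L : Type u) [Field K] [Field L] [Algebra K L]

/-- If `K⟮x⟯ ⊗[K] L` is a domain for an algebraic `x ∈ L` then `x ∈ K`. -/
theorem mem_range_of_isDomain_tensor (x : L) (hx : IsIntegral K x)
    (h : IsDomain ((IntermediateField.adjoin K {x}) ⊗[K] L)) :
    x ∈ Set.range (algebraMap K L) := by
  haveI : FiniteDimensional K (IntermediateField.adjoin K {x}) :=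
    IntermediateField.adjoin.finiteDimensional hx
  haveI : IsDomain (L ⊗[K] (IntermediateField.adjoin K {x})) :=
    (Algebra.TensorProduct.comm K L
      (IntermediateField.adjoin K {x})).toRingEquiv.toMulEquiv.isDomain _
  let μ : L ⊗[K] (IntermediateField.adjoin K {x}) →ₐ[L] L :=
    Algebra.TensorProduct.lift (AlgHom.id L L) (IntermediateField.adjoin K {x}).val
      (fun _ _ => Commute.all _ _)
  have hμsurj : Function.Surjective μ := fun l => ⟨l ⊗ₜ 1, by simp [μ]⟩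
  haveI : Algebra.IsIntegral L (L ⊗[K] (IntermediateField.adjoin K {x})) :=
    Algebra.IsIntegral.of_finite L _
  have hker : RingHom.ker μ = ⊥ := by
    refine Ideal.eq_bot_of_comap_eq_bot (R := L) ?_
    rw [eq_bot_iff]
    intro l hl
    rw [Ideal.mem_comap, RingHom.mem_ker] at hl
    have h1 : μ (algebraMap L _ l) = l := by
      rw [AlgHom.commutes]; rfl
    have h2 : l = 0 := by rw [← h1]; exact hl
    rw [h2]; exact Ideal.zero_mem _
  have hμinj : Function.Injective μ := (RingHom.injective_iff_ker_eq_bot μ).mpr hker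
  let e : L ⊗[K] (IntermediateField.adjoin K {x}) ≃ₗ[L] L :=
    LinearEquiv.ofBijective μ.toLinearMap ⟨hμinj, hμsurj⟩
  have hfr : Module.finrank L (L ⊗[K] (IntermediateField.adjoin K {x})) = 1 := by
    rw [e.finrank_eq, Module.finrank_self]
  rw [Module.finrank_baseChange] at hfr
  have hbot : IntermediateField.adjoin K {x} = ⊥ := IntermediateField.finrank_eq_one_iff.mp hfr
  have hxbot : x ∈ (⊥ : IntermediateField K L) :=
    IntermediateField.adjoin_simple_eq_bot_iff.mp hbot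
  exact IntermediateField.mem_bot.mp hxbot

end Finrank

end Groth.Agent.Lib.FracBridgeH3
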