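import Mathlib
import Groth.Prelude

set_option autoImplicit false
set_option linter.style.haveILetI false

universe u

open TensorProduct

namespace Groth.Agent.Lib.FracFlat2H4

attribute [local instance] Algebra.TensorProduct.rightAlgebra

section
variable (A B : Type u) [CommRing A] [CommRing B] [Algebra A B]

local notation "𝕂" => FractionRing A
local notation "𝕋" => FractionRing A ⊗[A] B

/-- The contraction of a prime of `Q(A) ⊗ B` to `B`. -/
abbrev qOf (Q : Ideal 𝕋) : Ideal B := Q.comap (algebraMap B 𝕋)

theorem flat_TQ [IsNoetherianRing A] [Algebra.HasGoingUp A B]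
    (h4 : ∀ (q : Ideal B) [q.IsPrime], IsAssociatedPrime (q.comap (algebraMap A B)) A →
      Module.Flat A (Localization.AtPrime q))
    (Q : Ideal 𝕋) [Q.IsPrime] : Module.Flat A (Localization.AtPrime Q) := by
  haveI : IsLocalization (Algebra.algebraMapSubmonoid B (nonZeroDivisors A)) 𝕋 :=
    IsLocalization.tensorRight 𝕂 (nonZeroDivisors A)
  have hdisj : ∀ a ∈ nonZeroDivisors A, a ∉ (qOf A B Q).under A := by
    intro a ha hmem
    have h1 : algebraMap B 𝕋 (algebraMap A B a) ∈ Q := hmem
    have h2 : algebraMap B 𝕋 (algebraMap A B a) = algebraMap 𝕂 𝕋 (algebraMap A 𝕂 a) := by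
      rw [← IsScalarTower.algebraMap_apply A B 𝕋, ← IsScalarTower.algebraMap_apply A 𝕂 𝕋]
    have hu : IsUnit (algebraMap 𝕂 𝕋 (algebraMap A 𝕂 a)) :=
      (IsLocalization.map_units 𝕂 (⟨a, ha⟩ : nonZeroDivisors A)).map _
    rw [h2] at h1
    exact (Ideal.IsPrime.ne_top ‹Q.IsPrime›) (Ideal.eq_top_of_isUnit_mem Q h1 hu)
  have hsub : (((qOf A B Q).under A : Ideal A) : Set A) ⊆
      ⋃ P ∈ associatedPrimes A A, (P : Set A) := by
    rw [biUnion_associatedPrimes_eq_compl_nonZeroDivisors]
    intro a ha hnz
    exact hdisj a hnz ha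
  obtain ⟨p', hp'mem, hle⟩ : ∃ p' ∈ associatedPrimes A A, (qOf A B Q).under A ≤ p' := by
    have hfin := associatedPrimes.finite A A
    have h := (Ideal.subset_union_prime (s := hfin.toFinset) (f := fun P : Ideal A => P) ⊥ ⊥
      (fun P hP _ _ => ((hfin.mem_toFinset).1 hP).isPrime)
      (I := (qOf A B Q).under A)).1 (by
        rw [Set.Finite.coe_toFinset]
        exact hsub)
    obtain ⟨P, hP, hle⟩ := h
    exact ⟨P, (hfin.mem_toFinset).1 hP, hle⟩
  haveI : p'.IsPrime := (hp'mem : IsAssociatedPrime p' A).isPrime
  obtain ⟨q', hqq', hq'prime, hq'over⟩ := Ideal.exists_ideal_ge_liesOver_of_le (qOf A B Q)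
    (p := (qOf A B Q).under A) (q := p') hle
  haveI := hq'prime
  have hflat' : Module.Flat A (Localization.AtPrime q') := h4 q' (by
    have h : q'.comap (algebraMap A B) = p' := (hq'over.over).symm
    rw [h]
    exact hp'mem)
  haveI hloc : IsLocalization.AtPrime (Localization.AtPrime Q) (qOf A B Q) :=
    IsLocalization.isLocalization_isLocalization_atPrime_isLocalization
      (Algebra.algebraMapSubmonoid B (nonZeroDivisors A)) (Localization.AtPrime Q) Q
  have hle' : q'.primeCompl ≤ (qOf A B Q).primeCompl := fun x hx hxq => hx (hqq' hxq)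
  letI : Algebra (Localization.AtPrime q') (Localization.AtPrime Q) :=
    IsLocalization.localizationAlgebraOfSubmonoidLe (Localization.AtPrime q')
      (Localization.AtPrime Q) q'.primeCompl (qOf A B Q).primeCompl hle'
  haveI : IsScalarTower B (Localization.AtPrime q') (Localization.AtPrime Q) :=
    IsLocalization.localization_isScalarTower_of_submonoid_le (Localization.AtPrime q')
      (Localization.AtPrime Q) q'.primeCompl (qOf A B Q).primeCompl hle'
  haveI : IsLocalization ((qOf A B Q).primeCompl.map (algebraMap B (Localization.AtPrime q')))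
      (Localization.AtPrime Q) :=
    IsLocalization.isLocalization_of_submonoid_le (Localization.AtPrime q')
      (Localization.AtPrime Q) q'.primeCompl (qOf A B Q).primeCompl hle'
  haveI : Module.Flat (Localization.AtPrime q') (Localization.AtPrime Q) :=
    IsLocalization.flat _ ((qOf A B Q).primeCompl.map (algebraMap B (Localization.AtPrime q')))
  haveI : IsScalarTower A (Localization.AtPrime q') (Localization.AtPrime Q) :=
    IsScalarTower.of_algebraMap_eq (R := A) (S := Localization.AtPrime q')
      (A := Localization.AtPrime Q) (fun a => by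
        rw [IsScalarTower.algebraMap_apply A 𝕋 (Localization.AtPrime Q),
          IsScalarTower.algebraMap_apply A B 𝕋,
          ← IsScalarTower.algebraMap_apply B 𝕋 (Localization.AtPrime Q),
          IsScalarTower.algebraMap_apply B (Localization.AtPrime q') (Localization.AtPrime Q),
          ← IsScalarTower.algebraMap_apply A B (Localization.AtPrime q')])
  exact Module.Flat.trans A (Localization.AtPrime q') (Localization.AtPrime Q)

theorem main8929 [IsNoetherianRing A] [Algebra.HasGoingUp A B]
    (h4 : ∀ (q : Ideal B) [q.IsPrime], IsAssociatedPrime (q.comap (algebraMap A B)) A →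
      Module.Flat A (Localization.AtPrime q)) : Module.Flat 𝕂 𝕋 := by
  apply Module.flat_of_isLocalized_maximal 𝕋 𝕋
    (fun (Q : Ideal 𝕋) [Q.IsMaximal] => Localization.AtPrime Q)
    (fun (Q : Ideal 𝕋) [Q.IsMaximal] => Algebra.linearMap 𝕋 (Localization.AtPrime Q))
  intro Q _
  have h := flat_TQ A B h4 Q
  exact (Module.flat_iff_of_isLocalization 𝕂 (nonZeroDivisors A) (Localization.AtPrime Q)).2 h

end

end Groth.Agent.Lib.FracFlat2H4
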