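import Mathlib
import Groth.Prelude

set_option autoImplicit false
set_option linter.style.haveILetI false

universe u

open TensorProduct

namespace Groth.Agent.Lib.FracFlatH4

attribute [local instance] Algebra.TensorProduct.rightAlgebra

theorem flat_loc (A B : Type u) [CommRing A] [CommRing B] [Algebra A B]
    (h2 : Module.Flat (FractionRing A) (FractionRing A ⊗[A] B)) (q : Ideal B) [q.IsPrime]
    (hq : ∀ s ∈ nonZeroDivisors A, algebraMap A B s ∉ q) :
    Module.Flat A (Localization.AtPrime q) := by
  haveI : IsLocalization (Algebra.algebraMapSubmonoid B (nonZeroDivisors A))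
      (FractionRing A ⊗[A] B) := IsLocalization.tensorRight (FractionRing A) (nonZeroDivisors A)
  have hle : Algebra.algebraMapSubmonoid B (nonZeroDivisors A) ≤ q.primeCompl := by
    rintro _ ⟨s, hs, rfl⟩
    exact hq s hs
  let φ : FractionRing A ⊗[A] B →+* Localization.AtPrime q :=
    IsLocalization.lift (M := Algebra.algebraMapSubmonoid B (nonZeroDivisors A))
      (g := algebraMap B (Localization.AtPrime q))
      (fun s => IsLocalization.map_units (Localization.AtPrime q) (⟨s.1, hle s.2⟩ : q.primeCompl))
  letI : Algebra (FractionRing A ⊗[A] B) (Localization.AtPrime q) := φ.toAlgebra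
  haveI : IsScalarTower B (FractionRing A ⊗[A] B) (Localization.AtPrime q) :=
    IsScalarTower.of_algebraMap_eq (fun b => (IsLocalization.lift_eq _ b).symm)
  haveI : IsLocalization (q.primeCompl.map (algebraMap B (FractionRing A ⊗[A] B)))
      (Localization.AtPrime q) :=
    IsLocalization.isLocalization_of_submonoid_le (FractionRing A ⊗[A] B) (Localization.AtPrime q)
      (Algebra.algebraMapSubmonoid B (nonZeroDivisors A)) q.primeCompl hle
  haveI : Module.Flat (FractionRing A ⊗[A] B) (Localization.AtPrime q) :=
    IsLocalization.flat _ (q.primeCompl.map (algebraMap B (FractionRing A ⊗[A] B)))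
  letI : Algebra (FractionRing A) (Localization.AtPrime q) :=
    (φ.comp (algebraMap (FractionRing A) (FractionRing A ⊗[A] B))).toAlgebra
  haveI : IsScalarTower (FractionRing A) (FractionRing A ⊗[A] B) (Localization.AtPrime q) :=
    IsScalarTower.of_algebraMap_eq (R := FractionRing A) (S := FractionRing A ⊗[A] B)
      (A := Localization.AtPrime q) (fun _ => rfl)
  haveI : Module.Flat (FractionRing A) (Localization.AtPrime q) :=
    Module.Flat.trans (FractionRing A) (FractionRing A ⊗[A] B) (Localization.AtPrime q)
  haveI : IsScalarTower A (FractionRing A) (Localization.AtPrime q) :=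
    IsScalarTower.of_algebraMap_eq (fun a => by
      show algebraMap A (Localization.AtPrime q) a =
        φ (algebraMap (FractionRing A) (FractionRing A ⊗[A] B) (algebraMap A (FractionRing A) a))
      rw [← IsScalarTower.algebraMap_apply A (FractionRing A) (FractionRing A ⊗[A] B),
        IsScalarTower.algebraMap_apply A B (FractionRing A ⊗[A] B),
        IsScalarTower.algebraMap_apply A B (Localization.AtPrime q)]
      exact (IsLocalization.lift_eq _ _).symm)
  exact (Module.flat_iff_of_isLocalization (FractionRing A) (nonZeroDivisors A)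
    (Localization.AtPrime q)).1 inferInstance

theorem main8928 (A B : Type u) [CommRing A] [CommRing B] [IsNoetherianRing A] [IsNoetherianRing B]
    [Algebra A B] (h1 : nonZeroDivisors A ≤ (nonZeroDivisors B).comap (algebraMap A B))
    (h2 : Module.Flat (FractionRing A) (FractionRing A ⊗[A] B)) :
    (∀ (q : Ideal B) [q.IsPrime], IsAssociatedPrime q B → Module.Flat A (Localization.AtPrime q)) ∧
    (∀ (q : Ideal B) [q.IsPrime], IsAssociatedPrime (q.comap (algebraMap A B)) A →
      Module.Flat A (Localization.AtPrime q)) := by
  constructor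
  · intro q _ hq
    apply flat_loc A B h2 q
    intro s hs hsq
    have hmem : algebraMap A B s ∈ ⋃ p ∈ associatedPrimes B B, (p : Set B) :=
      Set.mem_iUnion₂.2 ⟨q, hq, hsq⟩
    rw [biUnion_associatedPrimes_eq_compl_nonZeroDivisors] at hmem
    exact hmem (h1 hs)
  · intro q _ hq
    apply flat_loc A B h2 q
    intro s hs hsq
    have hmem : s ∈ ⋃ p ∈ associatedPrimes A A, (p : Set A) :=
      Set.mem_iUnion₂.2 ⟨q.comap (algebraMap A B), hq, hsq⟩
    rw [biUnion_associatedPrimes_eq_compl_nonZeroDivisors] at hmem
    exact hmem hs

end Groth.Agent.Lib.FracFlatH4
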