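import Mathlib

/-!
# Fredholm index of linear maps between vector spaces

`IsFred f d`: the kernel and cokernel of `f` are finite dimensional and
`dim coker f - dim ker f = d`.  Additivity under composition, invariance under base field
extension.
-/

set_option autoImplicit false
set_option maxSynthPendingDepth 3

namespace Groth.Agent.Lib.FredholmH3

open TensorProduct

section Basic

variable {L : Type*} [Field L] {V W U : Type*} [AddCommGroup V] [Module L V]
  [AddCommGroup W] [Module L W] [AddCommGroup U] [Module L U]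

/-- `f` has finite-dimensional kernel and cokernel and index `d = dim coker - dim ker`. -/
structure IsFred (f : V →ₗ[L] W) (d : ℤ) : Prop where
  finite_ker : Module.Finite L (LinearMap.ker f)
  finite_coker : Module.Finite L (W ⧸ LinearMap.range f)
  index_eq : (Module.finrank L (W ⧸ LinearMap.range f) : ℤ) -
    Module.finrank L (LinearMap.ker f) = d

theorem IsFred.of_exact {Kf Cf : Type*} [AddCommGroup Kf] [Module L Kf] [AddCommGroup Cf]
    [Module L Cf] [Module.Finite L Kf] [Module.Finite L Cf]
    (i : Kf →ₗ[L] V) (f : V →ₗ[L] W) (q : W →ₗ[L] Cf) (hi : Function.Injective i)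
    (h1 : Function.Exact i f) (h2 : Function.Exact f q) (hq : Function.Surjective q) :
    IsFred f ((Module.finrank L Cf : ℤ) - Module.finrank L Kf) := by
  have hr : LinearMap.range i = LinearMap.ker f := (LinearMap.exact_iff.1 h1).symm
  let e₁ : Kf ≃ₗ[L] LinearMap.ker f :=
    (LinearEquiv.ofInjective i hi).trans (LinearEquiv.ofEq _ _ hr)
  let e₂ : (W ⧸ LinearMap.range f) ≃ₗ[L] Cf := h2.linearEquivOfSurjective hq
  refine ⟨Module.Finite.equiv e₁, Module.Finite.equiv e₂.symm, ?_⟩
  rw [e₁.finrank_eq, e₂.finrank_eq]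

theorem IsFred.of_bijective {f : V →ₗ[L] W} (hf : Function.Bijective f) : IsFred f 0 := by
  have hk : LinearMap.ker f = ⊥ := LinearMap.ker_eq_bot.2 hf.1
  have hr : LinearMap.range f = ⊤ := LinearMap.range_eq_top.2 hf.2
  haveI : Subsingleton (W ⧸ LinearMap.range f) := by
    rw [hr]
    exact Submodule.Quotient.subsingleton_iff.2 rfl
  refine ⟨?_, ?_, ?_⟩
  · rw [hk]
    infer_instance
  · infer_instance
  · rw [hk, finrank_bot, Module.finrank_zero_of_subsingleton]
    simp

theorem IsFred.of_injective {Q : Type*} [AddCommGroup Q] [Module L Q] [Module.Finite L Q]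
    {f : V →ₗ[L] W} (hf : Function.Injective f) (e : (W ⧸ LinearMap.range f) ≃ₗ[L] Q) :
    IsFred f (Module.finrank L Q) := by
  have hk : LinearMap.ker f = ⊥ := LinearMap.ker_eq_bot.2 hf
  refine ⟨?_, Module.Finite.equiv e.symm, ?_⟩
  · rw [hk]
    infer_instance
  · rw [hk, finrank_bot, e.finrank_eq]
    simp

theorem IsFred.of_surjective {f : V →ₗ[L] W} (hf : Function.Surjective f)
    [Module.Finite L (LinearMap.ker f)] :
    IsFred f (-(Module.finrank L (LinearMap.ker f) : ℤ)) := by
  have hr : LinearMap.range f = ⊤ := LinearMap.range_eq_top.2 hf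
  haveI : Subsingleton (W ⧸ LinearMap.range f) := by
    rw [hr]
    exact Submodule.Quotient.subsingleton_iff.2 rfl
  refine ⟨inferInstance, inferInstance, ?_⟩
  rw [Module.finrank_zero_of_subsingleton]
  simp

/-- Additivity of the index. -/
theorem IsFred.comp {a : V →ₗ[L] W} {b : W →ₗ[L] U} {d₁ d₂ : ℤ} (ha : IsFred a d₁)
    (hb : IsFred b d₂) : IsFred (b ∘ₗ a) (d₁ + d₂) := by
  classical
  haveI := ha.finite_ker
  haveI := ha.finite_coker
  haveI := hb.finite_ker
  haveI := hb.finite_coker
  let a' : LinearMap.ker (b ∘ₗ a) →ₗ[L] LinearMap.ker b :=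
    a.restrict (p := LinearMap.ker (b ∘ₗ a)) (q := LinearMap.ker b) (fun v hv => hv)
  let c : LinearMap.ker b →ₗ[L] W ⧸ LinearMap.range a :=
    (LinearMap.range a).mkQ ∘ₗ (LinearMap.ker b).subtype
  have hle : LinearMap.range a ≤ (LinearMap.range (b ∘ₗ a)).comap b := by
    rintro _ ⟨v, rfl⟩
    exact ⟨v, rfl⟩
  let b' : W ⧸ LinearMap.range a →ₗ[L] U ⧸ LinearMap.range (b ∘ₗ a) :=
    (LinearMap.range a).mapQ (LinearMap.range (b ∘ₗ a)) b hle
  have hle' : LinearMap.range (b ∘ₗ a) ≤ (LinearMap.range b).comap LinearMap.id := by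
    rintro _ ⟨v, rfl⟩
    exact ⟨a v, rfl⟩
  let q : U ⧸ LinearMap.range (b ∘ₗ a) →ₗ[L] U ⧸ LinearMap.range b :=
    (LinearMap.range (b ∘ₗ a)).mapQ (LinearMap.range b) LinearMap.id hle'
  have ha'v : ∀ x : LinearMap.ker (b ∘ₗ a), ((a' x : LinearMap.ker b) : W) = a x := fun x => rfl
  have hb'mk : ∀ w : W, b' (Submodule.Quotient.mk w) = Submodule.Quotient.mk (b w) := fun w => rfl
  have hqmk : ∀ u : U, q (Submodule.Quotient.mk u) = Submodule.Quotient.mk u := fun u => rfl
  -- (F1)
  let e₁ : LinearMap.ker a ≃ₗ[L] LinearMap.ker a' :=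
    { toFun := fun v => ⟨⟨v.1, by
          rw [LinearMap.mem_ker, LinearMap.comp_apply, LinearMap.mem_ker.1 v.2, map_zero]⟩, by
          rw [LinearMap.mem_ker]
          apply Subtype.ext
          rw [ha'v]
          exact LinearMap.mem_ker.1 v.2⟩
      map_add' := fun v w => rfl
      map_smul' := fun r v => rfl
      invFun := fun x => ⟨x.1.1, by
          have h := LinearMap.mem_ker.1 x.2
          have h2 : ((a' x.1 : LinearMap.ker b) : W) = 0 := by rw [h]; rfl
          rw [ha'v] at h2
          exact LinearMap.mem_ker.2 h2⟩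
      left_inv := fun v => rfl
      right_inv := fun x => rfl }
  -- (F2)
  have hF2 : LinearMap.ker c = LinearMap.range a' := by
    ext x
    rw [LinearMap.mem_ker, LinearMap.mem_range]
    show Submodule.Quotient.mk (x : W) = 0 ↔ _
    rw [Submodule.Quotient.mk_eq_zero, LinearMap.mem_range]
    constructor
    · rintro ⟨v, hv⟩
      have hvk : v ∈ LinearMap.ker (b ∘ₗ a) := by
        rw [LinearMap.mem_ker, LinearMap.comp_apply, hv]
        exact LinearMap.mem_ker.1 x.2
      exact ⟨⟨v, hvk⟩, Subtype.ext hv⟩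
    · rintro ⟨v, hv⟩
      exact ⟨v.1, by rw [← ha'v, hv]⟩
  -- (F3)
  have hF3 : LinearMap.ker b' = LinearMap.range c := by
    ext y
    obtain ⟨w, rfl⟩ := Submodule.Quotient.mk_surjective _ y
    rw [LinearMap.mem_ker, hb'mk, Submodule.Quotient.mk_eq_zero, LinearMap.mem_range]
    constructor
    · rintro ⟨v, hv⟩
      have hx : w - a v ∈ LinearMap.ker b := by
        rw [LinearMap.mem_ker, map_sub, ← hv, LinearMap.comp_apply, sub_self]
      refine ⟨⟨w - a v, hx⟩, ?_⟩
      show Submodule.Quotient.mk (w - a v) = Submodule.Quotient.mk w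
      rw [Submodule.Quotient.eq]
      refine ⟨-v, ?_⟩
      rw [map_neg]
      abel
    · rintro ⟨x, hx⟩
      have h1 : Submodule.Quotient.mk (x : W) = (Submodule.Quotient.mk w : W ⧸ LinearMap.range a) :=
        hx
      rw [Submodule.Quotient.eq] at h1
      obtain ⟨v, hv⟩ := h1
      refine ⟨-v, ?_⟩
      rw [LinearMap.comp_apply, map_neg, hv, map_neg, map_sub, LinearMap.mem_ker.1 x.2]
      abel
  -- (F4)
  have hF4 : LinearMap.ker q = LinearMap.range b' := by
    ext z
    obtain ⟨u, rfl⟩ := Submodule.Quotient.mk_surjective _ z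
    rw [LinearMap.mem_ker, hqmk, Submodule.Quotient.mk_eq_zero, LinearMap.mem_range]
    constructor
    · rintro ⟨w, hw⟩
      exact ⟨Submodule.Quotient.mk w, by rw [hb'mk, hw]⟩
    · rintro ⟨y, hy⟩
      obtain ⟨w, rfl⟩ := Submodule.Quotient.mk_surjective _ y
      rw [hb'mk, Submodule.Quotient.eq] at hy
      obtain ⟨v, hv⟩ := hy
      refine ⟨w - a v, ?_⟩
      rw [map_sub]
      rw [LinearMap.comp_apply] at hv
      rw [hv]
      abel
  have hqsurj : Function.Surjective q := by
    intro z
    obtain ⟨u, rfl⟩ := Submodule.Quotient.mk_surjective _ z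
    exact ⟨Submodule.Quotient.mk u, rfl⟩
  -- finiteness
  haveI : Module.Finite L (LinearMap.ker a') := Module.Finite.equiv e₁
  haveI : Module.Finite L (LinearMap.ker (b ∘ₗ a)) := by
    haveI : Module.Finite L (LinearMap.ker (b ∘ₗ a) ⧸ LinearMap.ker a') :=
      Module.Finite.equiv a'.quotKerEquivRange.symm
    exact Module.Finite.of_submodule_quotient (LinearMap.ker a')
  haveI : Module.Finite L (LinearMap.ker q) := by
    rw [hF4]
    infer_instance
  haveI : Module.Finite L (U ⧸ LinearMap.range (b ∘ₗ a)) := by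
    haveI : Module.Finite L ((U ⧸ LinearMap.range (b ∘ₗ a)) ⧸ LinearMap.ker q) :=
      Module.Finite.equiv (q.quotKerEquivOfSurjective hqsurj).symm
    exact Module.Finite.of_submodule_quotient (LinearMap.ker q)
  refine ⟨inferInstance, inferInstance, ?_⟩
  have R1 := LinearMap.finrank_range_add_finrank_ker a'
  have R2 := LinearMap.finrank_range_add_finrank_ker c
  have R3 := LinearMap.finrank_range_add_finrank_ker b'
  have R4 := LinearMap.finrank_range_add_finrank_ker q
  rw [← e₁.finrank_eq] at R1
  rw [hF2] at R2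
  rw [hF3] at R3
  rw [hF4, LinearMap.range_eq_top.2 hqsurj, finrank_top] at R4
  have i1 := ha.index_eq
  have i2 := hb.index_eq
  omega

end Basic

section BaseChange

variable {E L : Type*} [Field E] [Field L] [Algebra E L] {V W : Type*} [AddCommGroup V]
  [Module E V] [AddCommGroup W] [Module E W]

/-- The index is invariant under extension of the base field. -/
theorem IsFred.baseChange {f : V →ₗ[E] W} {d : ℤ} (h : IsFred f d) :
    IsFred (f.baseChange L) d := by
  haveI := h.finite_ker
  haveI := h.finite_coker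
  have key := IsFred.of_exact (L := L)
    ((LinearMap.ker f).subtype.baseChange L) (f.baseChange L)
    ((LinearMap.range f).mkQ.baseChange L)
    (by
      rw [LinearMap.baseChange_eq_ltensor]
      exact Module.Flat.lTensor_preserves_injective_linearMap _ (LinearMap.ker f).injective_subtype)
    (by
      rw [LinearMap.baseChange_eq_ltensor, LinearMap.baseChange_eq_ltensor]
      exact Module.Flat.lTensor_exact L (LinearMap.exact_subtype_ker_map f))
    (by
      rw [LinearMap.baseChange_eq_ltensor, LinearMap.baseChange_eq_ltensor]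
      exact Module.Flat.lTensor_exact L (LinearMap.exact_map_mkQ_range f))
    (by
      rw [LinearMap.baseChange_eq_ltensor]
      exact LinearMap.lTensor_surjective L (Submodule.mkQ_surjective _))
  rw [Module.finrank_baseChange, Module.finrank_baseChange, h.index_eq] at key
  exact key

end BaseChange

end Groth.Agent.Lib.FredholmH3
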