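import Mathlib

/-!
# Free actions of diagonalisable groups on affine schemes: the algebraic core (helper4)

A coaction `ρ : A → A[M]` (the action of `D(M)` on `Spec A` at the universal point), the points
`(ξ, γ)` of `Spec A × D(M)` with values in a ring `C` being read as ring homomorphisms
`L ξ γ : A[M] → C`.  If the action is free, `A[M]` is generated as a ring by `ρ(A)` and `A`:
the graph morphism is a closed immersion.
-/

set_option backward.isDefEq.respectTransparency.types false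
set_option autoImplicit false
set_option linter.unusedVariables false
set_option linter.unusedTactic false
set_option linter.unreachableTactic false
set_option linter.unusedSectionVars false
set_option linter.style.haveILetI false
set_option linter.deprecated false
set_option linter.unusedSimpArgs false
set_option linter.style.longLine false
set_option maxHeartbeats 1600000

universe u

namespace Groth.Agent.Lib.FreeActH4

section Core

variable {A : Type u} [CommRing A] {M : Type} [AddCommGroup M]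

/-- the ring homomorphism `A[M] → C` attached to a point `(ξ, γ)`. -/
noncomputable def L {C : Type u} [CommRing C] (ξ : A →+* C) (γ : Multiplicative M →* C) :
    AddMonoidAlgebra A M →+* C :=
  AddMonoidAlgebra.liftNCRingHom ξ γ (fun _ _ => Commute.all _ _)

theorem L_single {C : Type u} [CommRing C] (ξ : A →+* C) (γ : Multiplicative M →* C) (m : M)
    (a : A) : L ξ γ (AddMonoidAlgebra.single m a) = ξ a * γ (Multiplicative.ofAdd m) :=
  AddMonoidAlgebra.liftNCRingHom_single _ _ _ _ _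

theorem L_comp {C D : Type u} [CommRing C] [CommRing D] (f : C →+* D) (ξ : A →+* C)
    (γ : Multiplicative M →* C) :
    f.comp (L ξ γ) = L (f.comp ξ) ((f : C →* D).comp γ) := by
  apply AddMonoidAlgebra.ringHom_ext
  · intro r
    rw [RingHom.comp_apply, L_single, L_single, map_mul]
    rfl
  · intro m
    rw [RingHom.comp_apply, L_single, L_single, map_mul]
    rfl

/-! ### Transport of the hypotheses along ring isomorphisms -/

theorem hF_transport (ρ : A →+* AddMonoidAlgebra A M) {C C' : Type u} [CommRing C]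
    [CommRing C'] (e : C' ≃+* C)
    (h : ∀ (ξ' : A →+* C') (γ' : Multiplicative M →* C'), (L ξ' γ').comp ρ = ξ' → γ' = 1)
    (ξ : A →+* C) (γ : Multiplicative M →* C) (hfix : (L ξ γ).comp ρ = ξ) : γ = 1 := by
  have h1 := h ((e.symm : C →+* C').comp ξ) (((e.symm : C →+* C') : C →* C').comp γ) (by
    rw [← L_comp, RingHom.comp_assoc, hfix])
  ext n
  have h2 : e.symm (γ n) = 1 := DFunLike.congr_fun h1 n
  have h3 := congrArg e h2
  rwa [e.apply_symm_apply, map_one] at h3

theorem hA_transport (ρ : A →+* AddMonoidAlgebra A M) {C C' : Type u} [CommRing C]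
    [CommRing C'] (e : C' ≃+* C)
    (h : ∀ (ξ' : A →+* C') (γ₁ γ₂ : Multiplicative M →* C'),
      (L ξ' (γ₁ * γ₂)).comp ρ = (L ((L ξ' γ₂).comp ρ) γ₁).comp ρ)
    (ξ : A →+* C) (γ γ' : Multiplicative M →* C) :
    (L ξ (γ * γ')).comp ρ = (L ((L ξ γ').comp ρ) γ).comp ρ := by
  have key : ((e.symm : C →+* C')).comp ((L ξ (γ * γ')).comp ρ) =
      ((e.symm : C →+* C')).comp ((L ((L ξ γ').comp ρ) γ).comp ρ) := by
    rw [← RingHom.comp_assoc, ← RingHom.comp_assoc, L_comp, L_comp, ← RingHom.comp_assoc, L_comp,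
      MonoidHom.comp_mul]
    exact h _ _ _
  ext b
  exact e.symm.injective (DFunLike.congr_fun key b)

/-! ### The comodule axiom from associativity -/

theorem c2_of_assoc (ρ : A →+* AddMonoidAlgebra A M)
    (hA : ∀ (C : Type u) [CommRing C] (ξ : A →+* C) (γ γ' : Multiplicative M →* C),
      (L ξ (γ * γ')).comp ρ = (L ((L ξ γ').comp ρ) γ).comp ρ) (a : A) (m : M) :
    ρ ((ρ a).coeff m) = AddMonoidAlgebra.single m ((ρ a).coeff m) := by
  classical
  obtain ⟨ι₁, hι₁⟩ : ∃ ι₁ : A →+* AddMonoidAlgebra A M,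
      ∀ r, ι₁ r = AddMonoidAlgebra.single 0 r := ⟨AddMonoidAlgebra.singleZeroRingHom, fun r => rfl⟩
  obtain ⟨ι₂, hι₂⟩ : ∃ ι₂ : AddMonoidAlgebra A M →+* AddMonoidAlgebra (AddMonoidAlgebra A M) M,
      ∀ z, ι₂ z = AddMonoidAlgebra.single 0 z :=
    ⟨AddMonoidAlgebra.singleZeroRingHom, fun r => rfl⟩
  obtain ⟨γ, hγ⟩ : ∃ γ : Multiplicative M →* AddMonoidAlgebra (AddMonoidAlgebra A M) M,
      ∀ n : M, γ (Multiplicative.ofAdd n) = AddMonoidAlgebra.single n 1 :=
    ⟨AddMonoidAlgebra.of (AddMonoidAlgebra A M) M, fun n => rfl⟩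
  obtain ⟨γ', hγ'⟩ : ∃ γ' : Multiplicative M →* AddMonoidAlgebra (AddMonoidAlgebra A M) M,
      ∀ n : M, γ' (Multiplicative.ofAdd n) =
        AddMonoidAlgebra.single 0 (AddMonoidAlgebra.single n 1) :=
    ⟨(ι₂ : AddMonoidAlgebra A M →* AddMonoidAlgebra (AddMonoidAlgebra A M) M).comp
      (AddMonoidAlgebra.of A M), fun n => hι₂ _⟩
  have h1 : L (ι₂.comp ι₁) γ' = ι₂ := by
    apply AddMonoidAlgebra.ringHom_ext
    · intro r
      rw [L_single, hγ', RingHom.comp_apply, hι₁, hι₂]
      simp only [AddMonoidAlgebra.single_mul_single, add_zero, zero_add, mul_one, one_mul]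
    · intro n
      rw [L_single, hγ', RingHom.comp_apply, map_one, map_one, one_mul, hι₂]
  have h := DFunLike.congr_fun (hA _ (ι₂.comp ι₁) γ γ') a
  rw [h1] at h
  have h2 : L (ι₂.comp ι₁) (γ * γ') (ρ a) = L (ι₂.comp ρ) γ (ρ a) := h
  -- the outer coefficient at `m`
  have F1 : ∀ f : AddMonoidAlgebra A M, (L (ι₂.comp ι₁) (γ * γ') f).coeff m =
      AddMonoidAlgebra.single m (f.coeff m) := by
    intro f
    have hhom : ((Finsupp.applyAddHom m).comp
        (AddMonoidAlgebra.coeffAddEquiv (R := AddMonoidAlgebra A M) (M := M)).toAddMonoidHom).comp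
          ((L (ι₂.comp ι₁) (γ * γ') : AddMonoidAlgebra A M →+*
            AddMonoidAlgebra (AddMonoidAlgebra A M) M) : AddMonoidAlgebra A M →+
              AddMonoidAlgebra (AddMonoidAlgebra A M) M) =
        (AddMonoidAlgebra.singleAddHom m).comp ((Finsupp.applyAddHom m).comp
          (AddMonoidAlgebra.coeffAddEquiv (R := A) (M := M)).toAddMonoidHom) := by
      apply AddMonoidAlgebra.addMonoidHom_ext
      intro n r
      show (L (ι₂.comp ι₁) (γ * γ') (AddMonoidAlgebra.single n r)).coeff m =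
        AddMonoidAlgebra.single m ((AddMonoidAlgebra.single n r).coeff m)
      rw [L_single, MonoidHom.mul_apply, hγ, hγ', RingHom.comp_apply, hι₁, hι₂]
      simp only [AddMonoidAlgebra.single_mul_single, one_mul, mul_one, zero_add, add_zero,
        AddMonoidAlgebra.coeff_single, Finsupp.single_apply]
      by_cases hnm : n = m
      · subst hnm
        simp
      · simp [hnm]
    exact DFunLike.congr_fun hhom f
  have F2 : ∀ f : AddMonoidAlgebra A M, (L (ι₂.comp ρ) γ f).coeff m = ρ (f.coeff m) := by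
    intro f
    have hhom : ((Finsupp.applyAddHom m).comp
        (AddMonoidAlgebra.coeffAddEquiv (R := AddMonoidAlgebra A M) (M := M)).toAddMonoidHom).comp
          ((L (ι₂.comp ρ) γ : AddMonoidAlgebra A M →+*
            AddMonoidAlgebra (AddMonoidAlgebra A M) M) : AddMonoidAlgebra A M →+
              AddMonoidAlgebra (AddMonoidAlgebra A M) M) =
        (ρ : A →+ AddMonoidAlgebra A M).comp ((Finsupp.applyAddHom m).comp
          (AddMonoidAlgebra.coeffAddEquiv (R := A) (M := M)).toAddMonoidHom) := by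
      apply AddMonoidAlgebra.addMonoidHom_ext
      intro n r
      show (L (ι₂.comp ρ) γ (AddMonoidAlgebra.single n r)).coeff m =
        ρ ((AddMonoidAlgebra.single n r).coeff m)
      rw [L_single, hγ, RingHom.comp_apply, hι₂]
      simp only [AddMonoidAlgebra.single_mul_single, one_mul, mul_one, zero_add, add_zero,
        AddMonoidAlgebra.coeff_single, Finsupp.single_apply]
      by_cases hnm : n = m
      · subst hnm
        simp
      · simp [hnm]
    exact DFunLike.congr_fun hhom f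
  have h3 := congrArg (fun z => z.coeff m) h2
  simp only [F1, F2] at h3
  exact h3.symm

/-! ### Multiplicativity of a truncated evaluation -/

theorem liftNC_mul_of_supp {K : Type u} [CommRing K] (x : A →+* K) (δ : M → K) (Sg : Set M)
    (hδ : ∀ k l, k ∈ Sg → l ∈ Sg → δ (k + l) = δ k * δ l)
    (f g : AddMonoidAlgebra A M) (hf : ∀ k, x (f.coeff k) ≠ 0 → k ∈ Sg)
    (hg : ∀ k, x (g.coeff k) ≠ 0 → k ∈ Sg) :
    AddMonoidAlgebra.liftNC (x : A →+ K) (fun n => δ (Multiplicative.toAdd n)) (f * g) =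
      AddMonoidAlgebra.liftNC (x : A →+ K) (fun n => δ (Multiplicative.toAdd n)) f *
        AddMonoidAlgebra.liftNC (x : A →+ K) (fun n => δ (Multiplicative.toAdd n)) g := by
  conv_rhs => rw [← AddMonoidAlgebra.sum_coeff_single f, ← AddMonoidAlgebra.sum_coeff_single g]
  simp_rw [AddMonoidAlgebra.mul_def, map_finsuppSum, AddMonoidAlgebra.liftNC_single,
    Finsupp.sum_mul, Finsupp.mul_sum]
  refine Finset.sum_congr rfl fun k hk => Finset.sum_congr rfl fun l hl => ?_
  show x (f.coeff k * g.coeff l) * δ (k + l) = x (f.coeff k) * δ k * (x (g.coeff l) * δ l)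
  rw [map_mul]
  by_cases h1 : x (f.coeff k) = 0
  · rw [h1]
    ring
  by_cases h2 : x (g.coeff l) = 0
  · rw [h2]
    ring
  rw [hδ k l (hf k h1) (hg l h2)]
  ring

/-! ### Every weight occurs at every point -/

theorem all_mem (ρ : A →+* AddMonoidAlgebra A M)
    (hC2 : ∀ a m, ρ ((ρ a).coeff m) = AddMonoidAlgebra.single m ((ρ a).coeff m))
    (hF : ∀ (C : Type u) [CommRing C] (ξ : A →+* C) (γ : Multiplicative M →* C),
      (L ξ γ).comp ρ = ξ → γ = 1)
    (K : Type u) [Field K] (x : A →+* K) (m : M) : ∃ a, x ((ρ a).coeff m) ≠ 0 := by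
  classical
  obtain ⟨Sg, hSg⟩ : ∃ Sg : Set M, ∀ n, n ∈ Sg ↔ ∃ a, x ((ρ a).coeff n) ≠ 0 :=
    ⟨{n | ∃ a, x ((ρ a).coeff n) ≠ 0}, fun n => Iff.rfl⟩
  have h0 : (0 : M) ∈ Sg := by
    rw [hSg]
    refine ⟨1, ?_⟩
    rw [map_one, AddMonoidAlgebra.one_def, AddMonoidAlgebra.coeff_single, Finsupp.single_eq_same,
      map_one]
    exact one_ne_zero
  have hadd : ∀ k l, k ∈ Sg → l ∈ Sg → k + l ∈ Sg := by
    intro k l hk hl
    rw [hSg] at hk hl ⊢
    obtain ⟨b, hb⟩ := hk
    obtain ⟨c, hc⟩ := hl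
    refine ⟨(ρ b).coeff k * (ρ c).coeff l, ?_⟩
    rw [map_mul, hC2, hC2, AddMonoidAlgebra.single_mul_single, AddMonoidAlgebra.coeff_single,
      Finsupp.single_eq_same, map_mul]
    exact mul_ne_zero hb hc
  obtain ⟨U, hU⟩ : ∃ U : AddSubgroup M, ∀ n, n ∈ U ↔ (n ∈ Sg ∧ -n ∈ Sg) :=
    ⟨{ carrier := {n | n ∈ Sg ∧ -n ∈ Sg}
       zero_mem' := ⟨h0, by rw [neg_zero]; exact h0⟩
       add_mem' := fun {k l} hk hl => ⟨hadd k l hk.1 hl.1, by
         rw [neg_add]; exact hadd _ _ hk.2 hl.2⟩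
       neg_mem' := fun {k} hk => ⟨hk.2, by rw [neg_neg]; exact hk.1⟩ }, fun n => Iff.rfl⟩
  have hUadd : ∀ k l, k ∈ Sg → l ∈ Sg → (k + l ∈ U ↔ k ∈ U ∧ l ∈ U) := by
    intro k l hk hl
    constructor
    · intro hkl
      have h2 : -(k + l) ∈ Sg := ((hU _).mp hkl).2
      refine ⟨(hU k).mpr ⟨hk, ?_⟩, (hU l).mpr ⟨hl, ?_⟩⟩
      · have : -k = -(k + l) + l := by abel
        rw [this]
        exact hadd _ _ h2 hl
      · have : -l = -(k + l) + k := by abel
        rw [this]
        exact hadd _ _ h2 hk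
    · rintro ⟨h1, h2⟩
      exact U.add_mem h1 h2
  obtain ⟨δ, hδ1, hδ0⟩ : ∃ δ : M → K, (∀ n, n ∈ U → δ n = 1) ∧ (∀ n, n ∉ U → δ n = 0) :=
    ⟨fun n => if n ∈ U then 1 else 0, fun n hn => if_pos hn, fun n hn => if_neg hn⟩
  have hδ : ∀ k l, k ∈ Sg → l ∈ Sg → δ (k + l) = δ k * δ l := by
    intro k l hk hl
    by_cases hkU : k ∈ U
    · by_cases hlU : l ∈ U
      · rw [hδ1 k hkU, hδ1 l hlU, hδ1 _ ((hUadd k l hk hl).mpr ⟨hkU, hlU⟩), mul_one]
      · rw [hδ0 l hlU, hδ0 _ (fun h => hlU ((hUadd k l hk hl).mp h).2), mul_zero]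
    · rw [hδ0 k hkU, hδ0 _ (fun h => hkU ((hUadd k l hk hl).mp h).1), zero_mul]
  obtain ⟨Λ, hΛs, hΛmul⟩ : ∃ Λ : AddMonoidAlgebra A M →+ K,
      (∀ n c, Λ (AddMonoidAlgebra.single n c) = x c * δ n) ∧
      (∀ b c, Λ (ρ b * ρ c) = Λ (ρ b) * Λ (ρ c)) :=
    ⟨AddMonoidAlgebra.liftNC (x : A →+ K) (fun n => δ (Multiplicative.toAdd n)),
      fun n c => AddMonoidAlgebra.liftNC_single _ _ _ _,
      fun b c => liftNC_mul_of_supp x δ Sg hδ (ρ b) (ρ c)
        (fun k hk => (hSg k).mpr ⟨b, hk⟩) (fun k hk => (hSg k).mpr ⟨c, hk⟩)⟩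
  obtain ⟨y, hy⟩ : ∃ y : A →+* K, ∀ b, y b = Λ (ρ b) :=
    ⟨{ toFun := fun b => Λ (ρ b)
       map_one' := by
         show Λ (ρ 1) = 1
         rw [map_one, AddMonoidAlgebra.one_def, hΛs, map_one, one_mul]
         exact hδ1 0 U.zero_mem
       map_mul' := fun b c => by
         show Λ (ρ (b * c)) = Λ (ρ b) * Λ (ρ c)
         rw [map_mul]
         exact hΛmul b c
       map_zero' := by
         show Λ (ρ 0) = 0
         rw [map_zero, map_zero]
       map_add' := fun b c => by
         show Λ (ρ (b + c)) = Λ (ρ b) + Λ (ρ c)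
         rw [map_add, map_add] }, fun b => rfl⟩
  obtain ⟨ξ, hξ⟩ : ∃ ξ : A →+* AddMonoidAlgebra K (M ⧸ U),
      ∀ b, ξ b = AddMonoidAlgebra.single 0 (y b) :=
    ⟨(AddMonoidAlgebra.singleZeroRingHom).comp y, fun b => rfl⟩
  obtain ⟨γ, hγ⟩ : ∃ γ : Multiplicative M →* AddMonoidAlgebra K (M ⧸ U),
      ∀ n : M, γ (Multiplicative.ofAdd n) =
        AddMonoidAlgebra.single ((QuotientAddGroup.mk' U) n) 1 :=
    ⟨(AddMonoidAlgebra.of K (M ⧸ U)).comp
      (AddMonoidHom.toMultiplicative (QuotientAddGroup.mk' U)), fun n => rfl⟩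
  have hfix : (L ξ γ).comp ρ = ξ := by
    apply RingHom.ext
    intro b
    have e1 : L ξ γ (ρ b) = ∑ n ∈ (ρ b).coeff.support,
        L ξ γ (AddMonoidAlgebra.single n ((ρ b).coeff n)) := by
      conv_lhs => rw [← AddMonoidAlgebra.sum_coeff_single (ρ b)]
      rw [map_finsuppSum]
      rfl
    have e2 : Λ (ρ b) = ∑ n ∈ (ρ b).coeff.support,
        Λ (AddMonoidAlgebra.single n ((ρ b).coeff n)) := by
      conv_lhs => rw [← AddMonoidAlgebra.sum_coeff_single (ρ b)]
      rw [map_finsuppSum]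
      rfl
    have e3 : ∀ n ∈ (ρ b).coeff.support, L ξ γ (AddMonoidAlgebra.single n ((ρ b).coeff n)) =
        AddMonoidAlgebra.singleAddHom (0 : M ⧸ U)
          (Λ (AddMonoidAlgebra.single n ((ρ b).coeff n))) := by
      intro n _
      show _ = AddMonoidAlgebra.single (0 : M ⧸ U) (Λ (AddMonoidAlgebra.single n ((ρ b).coeff n)))
      have hyn : y ((ρ b).coeff n) = x ((ρ b).coeff n) * δ n := by
        rw [hy, hC2, hΛs]
      rw [L_single, hΛs, hξ, hγ, hyn, AddMonoidAlgebra.single_mul_single, zero_add, mul_one]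
      by_cases hn : n ∈ U
      · have h0' : (QuotientAddGroup.mk' U) n = 0 := (QuotientAddGroup.eq_zero_iff n).mpr hn
        rw [h0']
      · rw [hδ0 n hn, mul_zero, AddMonoidAlgebra.single_zero, AddMonoidAlgebra.single_zero]
    show L ξ γ (ρ b) = ξ b
    rw [e1, Finset.sum_congr rfl e3, ← map_sum, ← e2, hξ, hy]
    rfl
  have hγ1 := hF _ ξ γ hfix
  have h1 : γ (Multiplicative.ofAdd m) = 1 := by
    rw [hγ1]
    rfl
  rw [hγ, AddMonoidAlgebra.one_def] at h1
  have h3 := congrArg AddMonoidAlgebra.coeff h1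
  rw [AddMonoidAlgebra.coeff_single, AddMonoidAlgebra.coeff_single] at h3
  have h4 : (QuotientAddGroup.mk' U) m = 0 := (Finsupp.single_left_inj one_ne_zero).mp h3
  have h5 : m ∈ U := (QuotientAddGroup.eq_zero_iff m).mp h4
  exact (hSg m).mp ((hU m).mp h5).1

theorem span_top (ρ : A →+* AddMonoidAlgebra A M)
    (hC2 : ∀ a m, ρ ((ρ a).coeff m) = AddMonoidAlgebra.single m ((ρ a).coeff m))
    (hF : ∀ (C : Type u) [CommRing C] (ξ : A →+* C) (γ : Multiplicative M →* C),
      (L ξ γ).comp ρ = ξ → γ = 1) (m : M) :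
    Ideal.span (Set.range fun a => (ρ a).coeff m) = ⊤ := by
  by_contra hne
  obtain ⟨𝔫, h𝔫, hle⟩ := Ideal.exists_le_maximal _ hne
  haveI := h𝔫
  letI : Field (A ⧸ 𝔫) := Ideal.Quotient.field 𝔫
  obtain ⟨b, hb⟩ := all_mem ρ hC2 hF (A ⧸ 𝔫) (Ideal.Quotient.mk 𝔫) m
  apply hb
  rw [Ideal.Quotient.eq_zero_iff_mem]
  exact hle (Ideal.subset_span ⟨b, rfl⟩)

/-- the graph morphism of a free action is a closed immersion: algebraic form. -/
theorem core (ρ : A →+* AddMonoidAlgebra A M)
    (hC2 : ∀ a m, ρ ((ρ a).coeff m) = AddMonoidAlgebra.single m ((ρ a).coeff m))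
    (hF : ∀ (C : Type u) [CommRing C] (ξ : A →+* C) (γ : Multiplicative M →* C),
      (L ξ γ).comp ρ = ξ → γ = 1) :
    Subring.closure (Set.range ρ ∪
      Set.range (AddMonoidAlgebra.singleZeroRingHom : A →+* AddMonoidAlgebra A M)) = ⊤ := by
  classical
  apply top_unique
  intro f _
  obtain ⟨B, hB⟩ : ∃ B : Subring (AddMonoidAlgebra A M), B = Subring.closure (Set.range ρ ∪
      Set.range (AddMonoidAlgebra.singleZeroRingHom : A →+* AddMonoidAlgebra A M)) := ⟨_, rfl⟩
  rw [← hB]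
  have hρB : ∀ b, ρ b ∈ B := fun b => by
    rw [hB]
    exact Subring.subset_closure (Or.inl ⟨b, rfl⟩)
  have hιB : ∀ b : A, AddMonoidAlgebra.single (0 : M) b ∈ B := fun b => by
    rw [hB]
    exact Subring.subset_closure (Or.inr ⟨b, rfl⟩)
  have hsingle : ∀ m : M, AddMonoidAlgebra.single m (1 : A) ∈ B := by
    intro m
    obtain ⟨J, hJ⟩ : ∃ J : Ideal A, ∀ b, b ∈ J ↔ AddMonoidAlgebra.single m b ∈ B :=
      ⟨{ carrier := {b | AddMonoidAlgebra.single m b ∈ B}
         add_mem' := fun {b c} hb hc => by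
           show AddMonoidAlgebra.single m (b + c) ∈ B
           rw [AddMonoidAlgebra.single_add]
           exact B.add_mem hb hc
         zero_mem' := by
           show AddMonoidAlgebra.single m (0 : A) ∈ B
           rw [AddMonoidAlgebra.single_zero]
           exact B.zero_mem
         smul_mem' := fun c {b} hb => by
           show AddMonoidAlgebra.single m (c * b) ∈ B
           have : AddMonoidAlgebra.single m (c * b) =
               AddMonoidAlgebra.single (0 : M) c * AddMonoidAlgebra.single m b := by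
             rw [AddMonoidAlgebra.single_mul_single, zero_add]
           rw [this]
           exact B.mul_mem (hιB c) hb }, fun b => Iff.rfl⟩
    have hle : Ideal.span (Set.range fun a => (ρ a).coeff m) ≤ J := by
      rw [Ideal.span_le]
      rintro _ ⟨a, rfl⟩
      show (ρ a).coeff m ∈ J
      rw [hJ, ← hC2]
      exact hρB _
    have h1 : (1 : A) ∈ J := hle (by rw [span_top ρ hC2 hF m]; trivial)
    exact (hJ 1).mp h1
  rw [← AddMonoidAlgebra.sum_coeff_single f]
  refine Subring.sum_mem B (fun n _ => ?_)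
  have : AddMonoidAlgebra.single n (f.coeff n) =
      AddMonoidAlgebra.single (0 : M) (f.coeff n) * AddMonoidAlgebra.single n (1 : A) := by
    rw [AddMonoidAlgebra.single_mul_single, zero_add, mul_one]
  rw [this]
  exact B.mul_mem (hιB _) (hsingle n)

end Core

end Groth.Agent.Lib.FreeActH4
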