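import Mathlib
import Groth.Prelude
import Groth.Agent.Lib.KerTriv6_helper4
import Groth.Agent.Lib.FreeAct1_helper4

/-!
# Free actions of groups of multiplicative type on affine schemes: the graph morphism over a
chart (helper4)

Over a base `T ⟶ S` where `G` is diagonalisable (a chart `PtIso G t M`) and `X ×_S T` is affine,
the base change of the graph morphism `G × X ⟶ X × X` of a free action is a closed immersion.
The source is identified with `Spec A[M]`, `A = Γ(X ×_S T)`, by comparing functors of points, and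
the statement becomes the algebraic one of `FreeAct1_helper4`.
-/

set_option backward.isDefEq.respectTransparency.types false
set_option autoImplicit false
set_option linter.unusedVariables false
set_option linter.unusedTactic false
set_option linter.unreachableTactic false
set_option linter.unusedSectionVars false
set_option linter.style.haveILetI false
set_option linter.deprecated false
set_option linter.unusedSimpArgs false
set_option linter.style.longLine false
set_option maxHeartbeats 1600000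

universe u

open CategoryTheory CategoryTheory.Limits MonoidalCategory CartesianMonoidalCategory MonObj GrpObj
  AlgebraicGeometry Opposite TensorProduct

namespace Groth.Agent.Lib.FreeActH4

open Groth.Agent.Lib.RedDictH8 Groth.Agent.Lib.DSDict Groth.Agent.Lib.MultGa
  Groth.Agent.Lib.MultTrivH4 Groth.Agent.Lib.ConnActH4 Groth.Agent.Lib.TwConstFinH4
  Groth.Agent.Lib.MTHomH4 Groth.Agent.Lib.TorusQuotH4

/-! ### Morphisms to affine schemes -/

section Affine

theorem isoSpec_inv_appTop' (Z : Scheme.{u}) [IsAffine Z] :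
    Z.isoSpec.inv.appTop = (Scheme.ΓSpecIso Γ(Z, ⊤)).inv := by
  have h1 : Z.isoSpec.hom.appTop ≫ Z.isoSpec.inv.appTop = 𝟙 _ := by
    rw [← Scheme.Hom.comp_appTop, Iso.inv_hom_id, Scheme.Hom.id_appTop]
  have h2 : Z.isoSpec.hom.appTop = (Scheme.ΓSpecIso Γ(Z, ⊤)).hom := Scheme.toSpecΓ_appTop Z
  rw [h2] at h1
  exact (Iso.hom_comp_eq_id _).mp h1

theorem exists_affine_point {Z W : Scheme.{u}} [IsAffine Z] (φ : Γ(Z, ⊤) ⟶ Γ(W, ⊤)) :
    ∃ w : W ⟶ Z, w.appTop = φ := by
  refine ⟨W.toSpecΓ ≫ Spec.map φ ≫ Z.isoSpec.inv, ?_⟩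
  rw [Scheme.Hom.comp_appTop, Scheme.Hom.comp_appTop, isoSpec_inv_appTop', Scheme.toSpecΓ_appTop,
    ← Scheme.ΓSpecIso_inv_naturality, Category.assoc, Iso.inv_hom_id, Category.comp_id]

end Affine

/-! ### Coordinates of points -/

section Bridge

variable {S T : Scheme.{u}} {G X : Over S} [GrpObj G] (a : AlgGrp.Action G X) (t : T ⟶ S)
  {M : Type} [AddCommGroup M] (e : PtIso G t M)

/-- coordinates of a point of `X`. -/
noncomputable def cx {W : Over T} (x : (Over.map t).obj W ⟶ X) :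
    Γ(pullback X.hom t, ⊤) ⟶ Γ(W.left, ⊤) :=
  (unchk t x).left.appTop

theorem cx_inj [IsAffine (pullback X.hom t)] {W : Over T} (x x' : (Over.map t).obj W ⟶ X)
    (h : cx t x = cx t x') : x = x' := by
  have h1 : (unchk t x).left = (unchk t x').left := ext_of_isAffine (Y := pullback X.hom t) h
  have h2 : unchk t x = unchk t x' := Over.OverMorphism.ext h1
  rw [← chk_unchk t x, ← chk_unchk t x', h2]

theorem cx_nat {W' W : Over T} (c : W' ⟶ W) (x : (Over.map t).obj W ⟶ X) :
    cx t ((Over.map t).map c ≫ x) = cx t x ≫ c.left.appTop := by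
  unfold cx
  rw [unchk_comp, Over.comp_left, Scheme.Hom.comp_appTop]

/-- characters of a point of `G`, read through the chart. -/
noncomputable def cg {W : Over T} (g : (Over.map t).obj W ⟶ G) :
    Multiplicative M →* Γ(W.left, ⊤) where
  toFun m := chr (e.toD W g) (Multiplicative.toAdd m)
  map_one' := chr_zero _
  map_mul' m n := chr_add _ _ _

theorem cg_inj {W : Over T} (g g' : (Over.map t).obj W ⟶ G) (h : cg t e g = cg t e g') :
    g = g' := by
  apply e.to_inj
  apply chr_injective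
  intro m
  exact DFunLike.congr_fun h (Multiplicative.ofAdd m)

theorem cg_mul {W : Over T} (g g' : (Over.map t).obj W ⟶ G) :
    cg t e (g * g') = cg t e g * cg t e g' := by
  apply MonoidHom.ext
  intro m
  show chr (e.toD W (g * g')) _ = chr (e.toD W g) _ * chr (e.toD W g') _
  rw [e.to_mul, chr_mul]

theorem cg_one {W : Over T} : cg t e (1 : (Over.map t).obj W ⟶ G) = 1 := by
  apply MonoidHom.ext
  intro m
  show chr (e.toD W 1) _ = 1
  rw [e.to_one, chr_one]

theorem cg_nat {W' W : Over T} (c : W' ⟶ W) (g : (Over.map t).obj W ⟶ G)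
    (m : Multiplicative M) :
    cg t e ((Over.map t).map c ≫ g) m = c.left.appTop (cg t e g m) := by
  show chr (e.toD W' ((Over.map t).map c ≫ g)) _ = c.left.appTop (chr (e.toD W g) _)
  rw [e.to_nat, chr_comp]

theorem ex_g {W : Over T} (ch : Multiplicative M →* Γ(W.left, ⊤)) :
    ∃ g : (Over.map t).obj W ⟶ G, cg t e g = ch := by
  obtain ⟨d, hd⟩ := exists_chr_eq (S := T) (T := W) ch
  refine ⟨e.ofD W d, ?_⟩
  apply MonoidHom.ext
  intro m
  show chr (e.toD W (e.ofD W d)) (Multiplicative.toAdd m) = ch m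
  rw [e.to_of, hd]
  rfl

/-! ### Test objects -/

/-- the test object attached to a morphism to `X ×_S T`. -/
noncomputable def tW {W₀ : Scheme.{u}} (w : W₀ ⟶ pullback X.hom t) : Over T :=
  Over.mk (w ≫ pullback.snd X.hom t)

/-- the tautological point of `X` over the test object. -/
noncomputable def tx {W₀ : Scheme.{u}} (w : W₀ ⟶ pullback X.hom t) :
    (Over.map t).obj (tW t w) ⟶ X :=
  chk t (Over.homMk (U := tW t w) (V := Red.bc t X) w rfl)

theorem cx_tx {W₀ : Scheme.{u}} (w : W₀ ⟶ pullback X.hom t) : cx t (tx t w) = w.appTop := by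
  unfold cx tx
  rw [unchk_chk]
  rfl

/-- the coordinate ring of the universal point. -/
abbrev UA (X : Over S) (t : T ⟶ S) (M : Type) [AddCommGroup M] : Type u :=
  AddMonoidAlgebra Γ(pullback X.hom t, ⊤) M

section Univ

variable [IsAffine (pullback X.hom t)]
  (w₀ : Spec (CommRingCat.of (UA X t M)) ⟶ pullback X.hom t)
  (hw₀ : ∀ r, w₀.appTop r =
    (Scheme.ΓSpecIso (CommRingCat.of (UA X t M))).inv (AddMonoidAlgebra.single 0 r))
  (g₀ : (Over.map t).obj (tW t w₀) ⟶ G)
  (hg₀ : ∀ m : M, cg t e g₀ (Multiplicative.ofAdd m) =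
    (Scheme.ΓSpecIso (CommRingCat.of (UA X t M))).inv (AddMonoidAlgebra.single m 1))

include hw₀ hg₀ in
theorem classify {W : Over T} (g : (Over.map t).obj W ⟶ G) (x : (Over.map t).obj W ⟶ X) :
    ∃ c : W ⟶ tW t w₀, (Over.map t).map c ≫ g₀ = g ∧ (Over.map t).map c ≫ tx t w₀ = x ∧
      ∀ s : UA X t M, c.left.appTop ((Scheme.ΓSpecIso (CommRingCat.of (UA X t M))).inv s) =
        L (cx t x).hom (cg t e g) s := by
  obtain ⟨c₀, hc₀⟩ := exists_point W.left (CommRingCat.ofHom (L (cx t x).hom (cg t e g)))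
  have hc₀' : ∀ s : UA X t M,
      c₀.appTop ((Scheme.ΓSpecIso (CommRingCat.of (UA X t M))).inv s) =
        L (cx t x).hom (cg t e g) s := fun s => hc₀ s
  have h1 : c₀ ≫ w₀ = (unchk t x).left := by
    apply ext_of_isAffine (Y := pullback X.hom t)
    apply CommRingCat.hom_ext
    apply RingHom.ext
    intro r
    rw [Scheme.Hom.comp_appTop]
    show c₀.appTop (w₀.appTop r) = (cx t x).hom r
    rw [hw₀, hc₀', L_single, ofAdd_zero, map_one, _root_.mul_one]
  refine ⟨Over.homMk c₀ (by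
    show c₀ ≫ (w₀ ≫ pullback.snd X.hom t) = W.hom
    rw [← Category.assoc, h1]
    exact Over.w (unchk t x)), ?_, ?_, ?_⟩
  · apply cg_inj t e
    apply MonoidHom.ext
    intro m
    rw [cg_nat]
    show c₀.appTop (cg t e g₀ m) = cg t e g m
    have e1 := hg₀ (Multiplicative.toAdd m)
    have e2 := hc₀' (AddMonoidAlgebra.single (Multiplicative.toAdd m) 1)
    rw [L_single, map_one, _root_.one_mul] at e2
    exact (congrArg (fun z => c₀.appTop z) e1).trans e2
  · apply cx_inj t
    rw [cx_nat, cx_tx]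
    show w₀.appTop ≫ c₀.appTop = cx t x
    rw [← Scheme.Hom.comp_appTop, h1]
    rfl
  · exact hc₀'

include hw₀ hg₀ in
theorem classify_unique {W : Over T} (c c' : W ⟶ tW t w₀)
    (hg : (Over.map t).map c ≫ g₀ = (Over.map t).map c' ≫ g₀)
    (hx : (Over.map t).map c ≫ tx t w₀ = (Over.map t).map c' ≫ tx t w₀) : c = c' := by
  apply Over.OverMorphism.ext
  have key : ((Scheme.ΓSpecIso (CommRingCat.of (UA X t M))).inv ≫ c.left.appTop).hom =
      ((Scheme.ΓSpecIso (CommRingCat.of (UA X t M))).inv ≫ c'.left.appTop).hom := by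
    apply AddMonoidAlgebra.ringHom_ext
    · intro r
      show c.left.appTop ((Scheme.ΓSpecIso (CommRingCat.of (UA X t M))).inv
          (AddMonoidAlgebra.single 0 r)) =
        c'.left.appTop ((Scheme.ΓSpecIso (CommRingCat.of (UA X t M))).inv
          (AddMonoidAlgebra.single 0 r))
      have e1 := hw₀ r
      have h3 := congrArg (fun y => (cx t y).hom r) hx
      simp only [cx_nat, cx_tx] at h3
      exact ((congrArg (fun z => c.left.appTop z) e1).symm.trans
        (h3.trans (congrArg (fun z => c'.left.appTop z) e1)))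
    · intro m
      show c.left.appTop ((Scheme.ΓSpecIso (CommRingCat.of (UA X t M))).inv
          (AddMonoidAlgebra.single m 1)) =
        c'.left.appTop ((Scheme.ΓSpecIso (CommRingCat.of (UA X t M))).inv
          (AddMonoidAlgebra.single m 1))
      have e1 := hg₀ m
      have e3 := cg_nat t e c g₀ (Multiplicative.ofAdd m)
      have e4 := cg_nat t e c' g₀ (Multiplicative.ofAdd m)
      exact ((congrArg (fun z => c.left.appTop z) e1).symm.trans (e3.symm.trans
        ((congrArg (fun y => cg t e y (Multiplicative.ofAdd m)) hg).trans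
          (e4.trans (congrArg (fun z => c'.left.appTop z) e1)))))
  apply point_ext
  intro s
  exact DFunLike.congr_fun key s

variable (ρ : Γ(pullback X.hom t, ⊤) →+* UA X t M)
  (hρ : ∀ r, cx t (sm a g₀ (tx t w₀)) r =
    (Scheme.ΓSpecIso (CommRingCat.of (UA X t M))).inv (ρ r))

include hw₀ hg₀ hρ in
theorem pf_gen {W : Over T} (g : (Over.map t).obj W ⟶ G) (x : (Over.map t).obj W ⟶ X) :
    (cx t (sm a g x)).hom = (L (cx t x).hom (cg t e g)).comp ρ := by
  obtain ⟨c, hcg, hcx, hcs⟩ := classify t e w₀ hw₀ g₀ hg₀ g x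
  have h1 : sm a g x = (Over.map t).map c ≫ sm a g₀ (tx t w₀) := by
    rw [sm_comp, hcg, hcx]
  apply RingHom.ext
  intro r
  rw [h1, cx_nat]
  show c.left.appTop (cx t (sm a g₀ (tx t w₀)) r) = L (cx t x).hom (cg t e g) (ρ r)
  rw [hρ, hcs]

include hw₀ hg₀ hρ in
theorem ha_gamma (W₀ : Scheme.{u}) (ξ : Γ(pullback X.hom t, ⊤) →+* Γ(W₀, ⊤))
    (ch ch' : Multiplicative M →* Γ(W₀, ⊤)) :
    (L ξ (ch * ch')).comp ρ = (L ((L ξ ch').comp ρ) ch).comp ρ := by
  obtain ⟨w, hw⟩ := exists_affine_point (Z := pullback X.hom t) (W := W₀) (CommRingCat.ofHom ξ)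
  obtain ⟨g, hg⟩ := ex_g t e (W := tW t w) ch
  obtain ⟨g', hg'⟩ := ex_g t e (W := tW t w) ch'
  have hx : (cx t (tx t w)).hom = ξ := by
    rw [cx_tx, hw]
    rfl
  have h1 := pf_gen a t e w₀ hw₀ g₀ hg₀ ρ hρ (g * g') (tx t w)
  have h2 := pf_gen a t e w₀ hw₀ g₀ hg₀ ρ hρ g (sm a g' (tx t w))
  have h3 := pf_gen a t e w₀ hw₀ g₀ hg₀ ρ hρ g' (tx t w)
  rw [sm_mul, h2, h3, hx, hg, hg', cg_mul, hg, hg'] at h1
  exact h1.symm

include hw₀ hg₀ hρ in
theorem hf_gamma (hfree : ∀ (Y : Over S) (g : Y ⟶ G) (x : Y ⟶ X), lift g x ≫ a.act = x → g = 1)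
    (W₀ : Scheme.{u}) (ξ : Γ(pullback X.hom t, ⊤) →+* Γ(W₀, ⊤))
    (ch : Multiplicative M →* Γ(W₀, ⊤)) (hfix : (L ξ ch).comp ρ = ξ) : ch = 1 := by
  obtain ⟨w, hw⟩ := exists_affine_point (Z := pullback X.hom t) (W := W₀) (CommRingCat.ofHom ξ)
  obtain ⟨g, hg⟩ := ex_g t e (W := tW t w) ch
  have hx : (cx t (tx t w)).hom = ξ := by
    rw [cx_tx, hw]
    rfl
  have h1 := pf_gen a t e w₀ hw₀ g₀ hg₀ ρ hρ g (tx t w)
  have h1' : (cx t (sm a g (tx t w))).hom = (cx t (tx t w)).hom :=
    h1.trans ((congrArg₂ (fun z c => (L z c).comp ρ) hx hg).trans (hfix.trans hx.symm))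
  have h2 : sm a g (tx t w) = tx t w := cx_inj t _ _ (CommRingCat.hom_ext h1')
  have h3 : g = 1 := hfree _ g (tx t w) h2
  rw [← hg, h3, cg_one]
  rfl

end Univ

end Bridge

/-! ### The graph morphism over a chart -/

theorem local_closedImm {S T : Scheme.{u}} {G X : Over S} [GrpObj G] (a : AlgGrp.Action G X)
    (hfree : ∀ (Y : Over S) (g : Y ⟶ G) (x : Y ⟶ X), lift g x ≫ a.act = x → g = 1)
    (t : T ⟶ S) {M : Type} [AddCommGroup M] (e : PtIso G t M)
    [IsAffine (pullback X.hom t)] [IsAffine (pullback (X ⊗ X).hom t)] :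
    IsClosedImmersion (bcL (lift a.act (snd G X)) t) := by
  -- the universal point
  obtain ⟨w₀, hw₀'⟩ := exists_affine_point (Z := pullback X.hom t)
    (W := Spec (CommRingCat.of (UA X t M)))
    (CommRingCat.ofHom ((Scheme.ΓSpecIso (CommRingCat.of (UA X t M))).inv.hom.comp
      AddMonoidAlgebra.singleZeroRingHom))
  have hw₀ : ∀ r, w₀.appTop r =
      (Scheme.ΓSpecIso (CommRingCat.of (UA X t M))).inv (AddMonoidAlgebra.single 0 r) := by
    intro r
    rw [hw₀']
    rfl
  obtain ⟨g₀, hg₀'⟩ := ex_g t e (W := tW t w₀)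
    (((Scheme.ΓSpecIso (CommRingCat.of (UA X t M))).inv.hom :
      UA X t M →* Γ(Spec (CommRingCat.of (UA X t M)), ⊤)).comp
        (AddMonoidAlgebra.of Γ(pullback X.hom t, ⊤) M))
  have hg₀ : ∀ m : M, cg t e g₀ (Multiplicative.ofAdd m) =
      (Scheme.ΓSpecIso (CommRingCat.of (UA X t M))).inv (AddMonoidAlgebra.single m 1) := by
    intro m
    rw [hg₀']
    rfl
  obtain ⟨ρ, hρ⟩ : ∃ ρ : Γ(pullback X.hom t, ⊤) →+* UA X t M,
      ∀ r, cx t (sm a g₀ (tx t w₀)) r =
        (Scheme.ΓSpecIso (CommRingCat.of (UA X t M))).inv (ρ r) :=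
    ⟨(cx t (sm a g₀ (tx t w₀)) ≫ (Scheme.ΓSpecIso (CommRingCat.of (UA X t M))).hom).hom,
      fun r => by
        show _ = (Scheme.ΓSpecIso (CommRingCat.of (UA X t M))).inv
          ((Scheme.ΓSpecIso (CommRingCat.of (UA X t M))).hom (cx t (sm a g₀ (tx t w₀)) r))
        rw [Iso.hom_inv_id_apply]⟩
  have HA : ∀ (C : Type u) [CommRing C] (ξ : Γ(pullback X.hom t, ⊤) →+* C)
      (ch ch' : Multiplicative M →* C),
      (L ξ (ch * ch')).comp ρ = (L ((L ξ ch').comp ρ) ch).comp ρ := by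
    intro C _ ξ ch ch'
    exact hA_transport ρ ((Scheme.ΓSpecIso (CommRingCat.of C)).commRingCatIsoToRingEquiv)
      (fun ξ' ch₁ ch₂ => ha_gamma a t e w₀ hw₀ g₀ hg₀ ρ hρ (Spec (CommRingCat.of C)) ξ' ch₁ ch₂)
      ξ ch ch'
  have HF : ∀ (C : Type u) [CommRing C] (ξ : Γ(pullback X.hom t, ⊤) →+* C)
      (ch : Multiplicative M →* C), (L ξ ch).comp ρ = ξ → ch = 1 := by
    intro C _ ξ ch hfix
    exact hF_transport ρ ((Scheme.ΓSpecIso (CommRingCat.of C)).commRingCatIsoToRingEquiv)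
      (fun ξ' ch₁ h' => hf_gamma a t e w₀ hw₀ g₀ hg₀ ρ hρ hfree (Spec (CommRingCat.of C)) ξ' ch₁ h')
      ξ ch hfix
  have hC2 := c2_of_assoc ρ HA
  have hcl := core ρ hC2 HF
  -- comparison of the two universal objects
  obtain ⟨Γm, hΓm⟩ : ∃ Γm : G ⊗ X ⟶ X ⊗ X, Γm = lift a.act (snd G X) := ⟨_, rfl⟩
  rw [← hΓm]
  obtain ⟨θ, hθ⟩ : ∃ θ : tW t w₀ ⟶ Red.bc t (G ⊗ X), chk t θ = lift g₀ (tx t w₀) :=
    ⟨unchk t (lift g₀ (tx t w₀)), chk_unchk t _⟩
  obtain ⟨cY, hcg, hcx, -⟩ := classify t e w₀ hw₀ g₀ hg₀ (W := Red.bc t (G ⊗ X))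
    (chk t (𝟙 (Red.bc t (G ⊗ X))) ≫ fst G X) (chk t (𝟙 (Red.bc t (G ⊗ X))) ≫ snd G X)
  have h1 : cY ≫ θ = 𝟙 _ := by
    have h' : chk t (cY ≫ θ) = chk t (𝟙 (Red.bc t (G ⊗ X))) := by
      rw [chk_comp, hθ, comp_lift, hcg, hcx, lift_comp_fst_snd]
    have h'' := congrArg (unchk t) h'
    rwa [unchk_chk, unchk_chk] at h''
  have h2 : θ ≫ cY = 𝟙 _ := by
    apply classify_unique t e w₀ hw₀ g₀ hg₀
    · rw [Functor.map_comp, Category.assoc, hcg, ← Category.assoc, ← chk_comp, Category.comp_id,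
        hθ, lift_fst, CategoryTheory.Functor.map_id, Category.id_comp]
    · rw [Functor.map_comp, Category.assoc, hcx, ← Category.assoc, ← chk_comp, Category.comp_id,
        hθ, lift_snd, CategoryTheory.Functor.map_id, Category.id_comp]
  haveI : IsIso cY := ⟨θ, h1, h2⟩
  haveI : IsIso cY.left := (isIso_left_iff cY).mpr inferInstance
  obtain ⟨κ, hκ⟩ : ∃ κ : tW t w₀ ⟶ Red.bc t (X ⊗ X), κ = θ ≫ (Over.pullback t).map Γm :=
    ⟨_, rfl⟩
  have hfac : bcL Γm t = cY.left ≫ κ.left := by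
    rw [hκ, ← Over.comp_left, ← Category.assoc, h1, Category.id_comp]
  have hκ1 : (Over.map t).map κ ≫ (chk t (𝟙 (Red.bc t (X ⊗ X))) ≫ fst X X) =
      sm a g₀ (tx t w₀) := by
    rw [← Category.assoc, ← chk_comp, Category.comp_id, hκ, chk_postcomp, hθ, hΓm, Category.assoc,
      lift_fst]
    rfl
  have hκ2 : (Over.map t).map κ ≫ (chk t (𝟙 (Red.bc t (X ⊗ X))) ≫ snd X X) = tx t w₀ := by
    rw [← Category.assoc, ← chk_comp, Category.comp_id, hκ, chk_postcomp, hθ, hΓm, Category.assoc,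
      lift_snd, lift_snd]
  haveI : IsClosedImmersion κ.left := by
    haveI : IsAffine (tW t w₀).left :=
      inferInstanceAs (IsAffine (Spec (CommRingCat.of (UA X t M))))
    haveI : IsAffine (Red.bc t (X ⊗ X)).left :=
      inferInstanceAs (IsAffine (pullback (X ⊗ X).hom t))
    apply IsClosedImmersion.of_surjective_of_isAffine
    intro v
    have hle : Subring.closure (Set.range ρ ∪ Set.range (AddMonoidAlgebra.singleZeroRingHom :
        Γ(pullback X.hom t, ⊤) →+* UA X t M)) ≤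
        Subring.comap (Scheme.ΓSpecIso (CommRingCat.of (UA X t M))).inv.hom
          κ.left.appTop.hom.range := by
      rw [Subring.closure_le]
      rintro _ (⟨r, rfl⟩ | ⟨r, rfl⟩)
      · show (Scheme.ΓSpecIso (CommRingCat.of (UA X t M))).inv.hom (ρ r) ∈
          κ.left.appTop.hom.range
        refine RingHom.mem_range.mpr ⟨cx t (chk t (𝟙 (Red.bc t (X ⊗ X))) ≫ fst X X) r, ?_⟩
        have h3 := congrArg (fun y => (cx t y).hom r) hκ1
        simp only [cx_nat] at h3
        have h4 := hρ r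
        exact h3.trans h4
      · show (Scheme.ΓSpecIso (CommRingCat.of (UA X t M))).inv.hom
          (AddMonoidAlgebra.single 0 r) ∈ κ.left.appTop.hom.range
        refine RingHom.mem_range.mpr ⟨cx t (chk t (𝟙 (Red.bc t (X ⊗ X))) ≫ snd X X) r, ?_⟩
        have h3 := congrArg (fun y => (cx t y).hom r) hκ2
        simp only [cx_nat, cx_tx] at h3
        have h4 := hw₀ r
        exact h3.trans h4
    have hmem : (Scheme.ΓSpecIso (CommRingCat.of (UA X t M))).hom v ∈
        Subring.closure (Set.range ρ ∪ Set.range (AddMonoidAlgebra.singleZeroRingHom :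
          Γ(pullback X.hom t, ⊤) →+* UA X t M)) := by
      rw [hcl]
      trivial
    obtain ⟨z, hz⟩ := RingHom.mem_range.mp (hle hmem)
    refine ⟨z, ?_⟩
    have h5 : (Scheme.ΓSpecIso (CommRingCat.of (UA X t M))).inv
        ((Scheme.ΓSpecIso (CommRingCat.of (UA X t M))).hom v) = v := Iso.hom_inv_id_apply _ _
    exact hz.trans h5
  rw [hfac]
  infer_instance

end Groth.Agent.Lib.FreeActH4
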