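import Mathlib
import Groth.Prelude
import Groth.Agent.Lib.FreeAct2_helper4

/-!
# Free actions of groups of multiplicative type on affine schemes: the graph morphism and the
orbit morphisms are closed immersions (helper4)
-/

set_option backward.isDefEq.respectTransparency.types false
set_option autoImplicit false
set_option linter.unusedVariables false
set_option linter.unusedTactic false
set_option linter.unreachableTactic false
set_option linter.unusedSectionVars false
set_option linter.style.haveILetI false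
set_option linter.deprecated false
set_option linter.unusedSimpArgs false
set_option linter.style.longLine false
set_option maxHeartbeats 1600000

universe u

open CategoryTheory CategoryTheory.Limits MonoidalCategory CartesianMonoidalCategory MonObj GrpObj
  AlgebraicGeometry Opposite TensorProduct

namespace Groth.Agent.Lib.FreeActH4

open Groth.Agent.Lib.RedDictH8 Groth.Agent.Lib.DSDict Groth.Agent.Lib.MultGa
  Groth.Agent.Lib.MultTrivH4 Groth.Agent.Lib.ConnActH4 Groth.Agent.Lib.TwConstFinH4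
  Groth.Agent.Lib.MTHomH4 Groth.Agent.Lib.TorusQuotH4

theorem graph_closedImm {S : Scheme.{u}} (G X : Over S) [GrpObj G]
    (hG : TwC.Locally S TwC.Topology.fpqc (fun S' f => ∃ (M : Type)
      (_ : AddCommGroup M), Nonempty (Grp.mk (Red.bc f G) ≅ Grp.mk (Red.DS S' M))))
    (hX : IsAffineHom X.hom) (a : AlgGrp.Action G X)
    (hfree : ∀ (Y : Over S) (g : Y ⟶ G) (x : Y ⟶ X), lift g x ≫ a.act = x → g = 1) :
    IsClosedImmersion (lift a.act (snd G X)).left := by
  obtain ⟨S', f, hflat, hsurj, hqc, hloc⟩ := hG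
  haveI := hflat
  haveI := hX
  haveI : MorphismProperty.DescendsAlong (@IsClosedImmersion : MorphismProperty Scheme.{u})
      (@Surjective ⊓ @Flat ⊓ @QuasiCompact) :=
    Groth.Agent.Lib.SchDescent_helper6.descendsAlong_isClosedImmersion
  obtain ⟨Γm, hΓm⟩ : ∃ Γm : G ⊗ X ⟶ X ⊗ X, Γm = lift a.act (snd G X) := ⟨_, rfl⟩
  rw [← hΓm]
  have hcov : ∀ V : S.Opens, IsAffineOpen V → ∃ (P' : Scheme.{u}) (p : P' ⟶ (V : Scheme.{u}))
      (m : P' ⟶ S'), Flat p ∧ Surjective p ∧ QuasiCompact p ∧ m ≫ f = p ≫ V.ι := by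
    intro V hV
    obtain ⟨W, hWc, hWV⟩ := hqc V hV
    obtain ⟨fW, hfW, h1, h2, h3⟩ := exists_fpqc_piece f V hV W hWc hWV
    exact ⟨W, fW, W.ι, h1, h2, h3, hfW.symm⟩
  haveI haffX : IsAffineHom (X ⊗ X).hom := by
    rw [Over.tensorObj_hom]
    haveI : IsAffineHom (pullback.fst X.hom X.hom) :=
      MorphismProperty.pullback_fst (P := @IsAffineHom) _ _ inferInstance
    infer_instance
  have hchart : ∀ x : S', ∃ O : S'.Opens, x ∈ O ∧ ∀ {T : Scheme.{u}} (r : T ⟶ S'),
      (∀ t : T, r.base t ∈ O) → IsClosedImmersion (bcL Γm (r ≫ f)) := by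
    intro x
    obtain ⟨U, hxU, M, iM, ⟨eA⟩⟩ := hloc x
    refine ⟨U, hxU, ?_⟩
    intro T r hr
    obtain ⟨a1, ainv, ha1, hainv, h1, h2⟩ := Groth.Agent.Lib.DiagHom.iso_data eA
    haveI := ha1
    haveI := hainv
    refine P_local (P := @IsClosedImmersion) Γm (r ≫ f) (fun V : T.affineOpens => V.1)
      (iSup_affineOpens_eq_top T) (fun V => ?_)
    have hrange : Set.range (V.1.ι ≫ r) ⊆ Set.range U.ι := by
      rintro _ ⟨v, rfl⟩
      exact ⟨⟨r.base (V.1.ι.base v), hr _⟩, rfl⟩
    obtain ⟨r', hr'⟩ : ∃ r' : (V.1 : Scheme.{u}) ⟶ (U : Scheme.{u}), r' ≫ U.ι = V.1.ι ≫ r :=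
      ⟨IsOpenImmersion.lift U.ι (V.1.ι ≫ r) hrange, IsOpenImmersion.lift_fac _ _ _⟩
    obtain ⟨eP⟩ := exists_transport G (U.ι ≫ f) a1 ainv h1 h2 r' (V.1.ι ≫ r ≫ f) (by
      rw [← Category.assoc, hr', Category.assoc])
    haveI : IsAffine (V.1 : Scheme.{u}) := V.2
    haveI : IsAffineHom (pullback.snd X.hom (V.1.ι ≫ r ≫ f)) :=
      MorphismProperty.pullback_snd (P := @IsAffineHom) _ _ inferInstance
    haveI : IsAffineHom (pullback.snd (X ⊗ X).hom (V.1.ι ≫ r ≫ f)) :=
      MorphismProperty.pullback_snd (P := @IsAffineHom) _ _ haffX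
    haveI : IsAffine (pullback X.hom (V.1.ι ≫ r ≫ f)) :=
      isAffine_of_isAffineHom (pullback.snd X.hom (V.1.ι ≫ r ≫ f))
    haveI : IsAffine (pullback (X ⊗ X).hom (V.1.ι ≫ r ≫ f)) :=
      isAffine_of_isAffineHom (pullback.snd (X ⊗ X).hom (V.1.ι ≫ r ≫ f))
    rw [hΓm]
    exact local_closedImm a hfree (V.1.ι ≫ r ≫ f) eP
  obtain ⟨U, hUc, hUmem, hUP⟩ := Groth.Agent.Lib.MTHomH4.core Γm (@IsClosedImmersion : MorphismProperty Scheme.{u}) f
    hcov (by
    intro x
    obtain ⟨O, hxO, hO⟩ := hchart x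
    exact ⟨O, hxO, True, fun _ {T} r hr => hO r hr, fun _ _ _ _ _ => trivial⟩)
  have hU : U = ⊤ := by
    apply top_unique
    intro s _
    obtain ⟨x, hx⟩ := hsurj.surj s
    obtain ⟨O, hxO, hO⟩ := hchart x
    have h3 : IsClosedImmersion (bcL Γm (S'.fromSpecResidueField x ≫ f)) :=
      hO (S'.fromSpecResidueField x) (mem_of_residue_pt x O hxO)
    have h4 := (P_field_iff (P := (@IsClosedImmersion : MorphismProperty Scheme.{u})) Γm f x).mp h3
    have gen : ∀ s' : S, f.base x = s' →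
        IsClosedImmersion (bcL Γm (S.fromSpecResidueField s')) := by
      intro s' hs'
      subst hs'
      exact h4
    have h5 : s ∈ (U : Set S) := (hUmem s).mpr (gen s hx)
    exact h5
  subst hU
  haveI : IsIso (⊤ : S.Opens).ι := inferInstanceAs (IsIso S.topIso.hom)
  haveI : IsIso (pullback.fst (G ⊗ X).hom (⊤ : S.Opens).ι) := inferInstance
  haveI : IsIso (pullback.fst (X ⊗ X).hom (⊤ : S.Opens).ι) := inferInstance
  haveI : IsClosedImmersion (bcL Γm (⊤ : S.Opens).ι) := hUP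
  have e : Γm.left = inv (pullback.fst (G ⊗ X).hom (⊤ : S.Opens).ι) ≫
      bcL Γm (⊤ : S.Opens).ι ≫ pullback.fst (X ⊗ X).hom (⊤ : S.Opens).ι := by
    rw [bcL_fst, IsIso.inv_hom_id_assoc]
  rw [e]
  infer_instance

theorem orbit_closedImm {S : Scheme.{u}} (G X : Over S) [GrpObj G]
    (hX : IsAffineHom X.hom) (a : AlgGrp.Action G X)
    (h1 : IsClosedImmersion (lift a.act (snd G X)).left) (σ : 𝟙_ (Over S) ⟶ X) :
    IsClosedImmersion (a.orbitMap σ).left := by
  haveI := hX
  haveI := h1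
  have hsec : ∀ (Y : Over S), IsClosedImmersion (lift (𝟙 Y) (toUnit Y ≫ σ)).left := by
    intro Y
    haveI : IsSeparated (fst Y X).left := by
      rw [Over.fst_left]
      infer_instance
    haveI : IsClosedImmersion ((lift (𝟙 Y) (toUnit Y ≫ σ)).left ≫ (fst Y X).left) := by
      rw [← Over.comp_left, lift_fst]
      show IsClosedImmersion (𝟙 Y.left)
      infer_instance
    exact IsClosedImmersion.of_comp _ (fst Y X).left
  haveI := hsec G
  haveI := hsec X
  have hcomm : lift (𝟙 G) (toUnit G ≫ σ) ≫ lift a.act (snd G X) =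
      a.orbitMap σ ≫ lift (𝟙 X) (toUnit X ≫ σ) := by
    rw [comp_lift, comp_lift, lift_snd, Category.comp_id, ← Category.assoc,
      toUnit_unique (a.orbitMap σ ≫ toUnit X) (toUnit G)]
    rfl
  haveI : IsClosedImmersion ((a.orbitMap σ).left ≫ (lift (𝟙 X) (toUnit X ≫ σ)).left) := by
    rw [← Over.comp_left, ← hcomm, Over.comp_left]
    infer_instance
  exact IsClosedImmersion.of_comp_isClosedImmersion _ (lift (𝟙 X) (toUnit X ≫ σ)).left

theorem main5284 {S : Scheme.{u}} (G X : Over S) [GrpObj G]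
    (hG : TwC.Locally S TwC.Topology.fpqc (fun S' f => ∃ (M : Type)
      (_ : AddCommGroup M), Nonempty (Grp.mk (Red.bc f G) ≅ Grp.mk (Red.DS S' M))))
    (hX : IsAffineHom X.hom) (a : AlgGrp.Action G X)
    (hfree : ∀ (Y : Over S) (g : Y ⟶ G) (x : Y ⟶ X), lift g x ≫ a.act = x → g = 1) :
    IsClosedImmersion (lift a.act (snd G X)).left ∧
      ∀ σ : 𝟙_ (Over S) ⟶ X, IsClosedImmersion (a.orbitMap σ).left := by
  have h1 := graph_closedImm G X hG hX a hfree
  exact ⟨h1, fun σ => orbit_closedImm G X hX a h1 σ⟩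

end Groth.Agent.Lib.FreeActH4
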