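import Mathlib
set_option autoImplicit false
universe u

/-!
# Free action of a finite group on a finite étale cover (helper6)

`|G| ≤ n` where `n` is the constant cardinality of geometric fibres, and `|G| = n` iff
`∐_G Y ⟶ Y ×_X Y` is an isomorphism.
-/

open CategoryTheory CategoryTheory.Limits AlgebraicGeometry

namespace Groth.Agent.Lib.FreeActFEtH6

theorem exists_factor_sigma {ι : Type u} (Z : ι → Scheme.{u}) {T : Scheme.{u}} (v : T ⟶ ∐ Z)
    (pt : T) (hpt : ∀ y : T, y = pt) : ∃ (i : ι) (w : T ⟶ Z i), w ≫ Sigma.ι Z i = v := by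
  obtain ⟨⟨i, y⟩, hy⟩ := (sigmaMk Z).surjective (v pt)
  rw [sigmaMk_mk] at hy
  have hrange : Set.range v ⊆ Set.range (Sigma.ι Z i) := by
    rintro _ ⟨y', rfl⟩
    rw [hpt y']
    exact ⟨y, hy⟩
  exact ⟨i, IsOpenImmersion.lift (Sigma.ι Z i) v hrange, IsOpenImmersion.lift_fac _ _ _⟩

theorem exists_pt_field (K : Type u) [Field K] :
    ∃ pt : Spec (CommRingCat.of K), ∀ y : Spec (CommRingCat.of K), y = pt := by
  haveI : Subsingleton (Spec (CommRingCat.of K)) := by
    change Subsingleton (PrimeSpectrum K); infer_instance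
  haveI : Nonempty (Spec (CommRingCat.of K)) := by
    change Nonempty (PrimeSpectrum K); infer_instance
  exact ⟨Classical.arbitrary _, fun y => Subsingleton.elim _ _⟩

section

variable {X Yl : Scheme.{u}} (p : Yl ⟶ X) {G : Type u} [Group G] (a : G → (Yl ⟶ Yl))
  (hw : ∀ g, a g ≫ p = p) (hmul : ∀ g h, a (g * h) = a h ≫ a g)
  (hfree : ∀ g : G, g ≠ 1 → ∀ (K : Type u) [Field K] (y : Spec (CommRingCat.of K) ⟶ Yl),
    y ≫ a g ≠ y)

include hmul hfree in
theorem eq_of_comp_eq (K : Type u) [Field K] (y : Spec (CommRingCat.of K) ⟶ Yl) (g g' : G)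
    (h : y ≫ a g = y ≫ a g') : g = g' := by
  by_contra hne
  have hk : g' * g⁻¹ ≠ 1 := fun hk => hne (by rw [mul_inv_eq_one] at hk; exact hk.symm)
  apply hfree _ hk K (y ≫ a g)
  rw [Category.assoc, ← hmul, inv_mul_cancel_right, h]

/-- the graph of the action of `g` -/
noncomputable def graph (g : G) : Yl ⟶ pullback p p :=
  pullback.lift (𝟙 Yl) (a g) ((Category.id_comp p).trans (hw g).symm)

theorem graph_fst (g : G) : graph p a hw g ≫ pullback.fst p p = 𝟙 Yl := pullback.lift_fst _ _ _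

theorem graph_snd (g : G) : graph p a hw g ≫ pullback.snd p p = a g := pullback.lift_snd _ _ _

theorem eq_comp_graph {T : Scheme.{u}} (ω : T ⟶ pullback p p) (g : G)
    (h : (ω ≫ pullback.fst p p) ≫ a g = ω ≫ pullback.snd p p) :
    ω = (ω ≫ pullback.fst p p) ≫ graph p a hw g := by
  apply pullback.hom_ext
  · rw [Category.assoc, graph_fst, Category.comp_id]
  · rw [Category.assoc, graph_snd, h]

variable [Etale p]

theorem isOpenImmersion_graph (g : G) : IsOpenImmersion (graph p a hw g) := by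
  haveI : Etale (graph p a hw g ≫ pullback.fst p p) := by
    rw [graph_fst]
    infer_instance
  haveI : Etale (graph p a hw g) := Etale.of_comp _ (pullback.fst p p)
  haveI : Mono (graph p a hw g) := mono_of_mono_fac (graph_fst p a hw g)
  exact IsOpenImmersion.of_flat_of_mono _

include hmul hfree in
theorem disjoint_graph (g g' : G) (hne : g ≠ g') :
    Disjoint (Set.range (graph p a hw g)) (Set.range (graph p a hw g')) := by
  rw [Set.disjoint_left]
  rintro w ⟨y, rfl⟩ ⟨y', hy'⟩
  apply hne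
  haveI := isOpenImmersion_graph p a hw g
  haveI := isOpenImmersion_graph p a hw g'
  let w := graph p a hw g y
  let ω : Spec ((pullback p p).residueField w) ⟶ pullback p p :=
    (pullback p p).fromSpecResidueField w
  have hr : Set.range ω ⊆ Set.range (graph p a hw g) := by
    rintro _ ⟨z, rfl⟩
    rw [Scheme.fromSpecResidueField_apply]
    exact ⟨y, rfl⟩
  have hr' : Set.range ω ⊆ Set.range (graph p a hw g') := by
    rintro _ ⟨z, rfl⟩
    rw [Scheme.fromSpecResidueField_apply]
    exact ⟨y', hy'⟩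
  obtain ⟨u, e1⟩ : ∃ u, u ≫ graph p a hw g = ω := ⟨_, IsOpenImmersion.lift_fac _ _ hr⟩
  obtain ⟨u', e2⟩ : ∃ u', u' ≫ graph p a hw g' = ω := ⟨_, IsOpenImmersion.lift_fac _ _ hr'⟩
  have f1 : u = ω ≫ pullback.fst p p := by
    rw [← e1, Category.assoc, graph_fst, Category.comp_id]
  have f2 : u' = ω ≫ pullback.fst p p := by
    rw [← e2, Category.assoc, graph_fst, Category.comp_id]
  have s1 : (ω ≫ pullback.fst p p) ≫ a g = ω ≫ pullback.snd p p := by
    calc (ω ≫ pullback.fst p p) ≫ a g = u ≫ a g := by rw [f1]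
      _ = u ≫ graph p a hw g ≫ pullback.snd p p := by rw [graph_snd]
      _ = ω ≫ pullback.snd p p := by rw [← Category.assoc, e1]
  have s2 : (ω ≫ pullback.fst p p) ≫ a g' = ω ≫ pullback.snd p p := by
    calc (ω ≫ pullback.fst p p) ≫ a g' = u' ≫ a g' := by rw [f2]
      _ = u' ≫ graph p a hw g' ≫ pullback.snd p p := by rw [graph_snd]
      _ = ω ≫ pullback.snd p p := by rw [← Category.assoc, e2]
  exact eq_of_comp_eq a hmul hfree ((pullback p p).residueField w)
    (ω ≫ pullback.fst p p) g g' (s1.trans s2.symm)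

variable [Finite G] [Nonempty Yl] (n : ℕ)
  (hfin : ∀ (Ω : Type u) [Field Ω] (ξ : Spec (CommRingCat.of Ω) ⟶ X),
    Finite {s : Spec (CommRingCat.of Ω) ⟶ Yl // s ≫ p = ξ})
  (hn : ∀ (Ω : Type u) [Field Ω] [IsSepClosed Ω] (ξ : Spec (CommRingCat.of Ω) ⟶ X),
    Nat.card {s : Spec (CommRingCat.of Ω) ⟶ Yl // s ≫ p = ξ} = n)

/-- the orbit map on a geometric fibre -/
noncomputable def orbit {Ω : Type u} [Field Ω] (s₀ : Spec (CommRingCat.of Ω) ⟶ Yl) (g : G) :
    {s : Spec (CommRingCat.of Ω) ⟶ Yl // s ≫ p = s₀ ≫ p} :=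
  ⟨s₀ ≫ a g, by rw [Category.assoc, hw]⟩

include hmul hfree in
omit [Etale p] [Finite G] [Nonempty Yl] in
theorem orbit_injective {Ω : Type u} [Field Ω] (s₀ : Spec (CommRingCat.of Ω) ⟶ Yl) :
    Function.Injective (orbit p a hw s₀) := by
  intro g g' h
  exact eq_of_comp_eq a hmul hfree Ω s₀ g g' (congrArg Subtype.val h)

include hmul hfree hfin hn in
theorem main : Nat.card G ≤ n ∧
    (Nat.card G = n ↔ IsIso (Sigma.desc (fun g : G => graph p a hw g) :
      (∐ fun _ : G => Yl) ⟶ pullback p p)) := by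
  classical
  obtain ⟨y₀⟩ := ‹Nonempty Yl›
  let Ω₀ := AlgebraicClosure (Yl.residueField y₀)
  let s₀ : Spec (CommRingCat.of Ω₀) ⟶ Yl :=
    Spec.map (CommRingCat.ofHom (algebraMap (Yl.residueField y₀) Ω₀)) ≫
      Yl.fromSpecResidueField y₀
  haveI := hfin Ω₀ (s₀ ≫ p)
  have hcard₀ := hn Ω₀ (s₀ ≫ p)
  have hle : Nat.card G ≤ n := by
    rw [← hcard₀]
    exact Nat.card_le_card_of_injective _ (orbit_injective p a hw hmul hfree s₀)
  refine ⟨hle, ?_, ?_⟩
  · intro hGn
    haveI : ∀ g, IsOpenImmersion (graph p a hw g) := isOpenImmersion_graph p a hw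
    haveI : IsOpenImmersion (Sigma.desc (fun g : G => graph p a hw g)) :=
      isOpenImmersion_sigmaDesc _ _ (fun g g' hne => disjoint_graph p a hw hmul hfree g g' hne)
    apply isIso_of_isOpenImmersion_of_opensRange_eq_top
    rw [eq_top_iff]
    rintro w -
    let Ω := AlgebraicClosure ((pullback p p).residueField w)
    obtain ⟨pt, hpt⟩ := exists_pt_field Ω
    obtain ⟨ω, hωpt⟩ : ∃ ω : Spec (CommRingCat.of Ω) ⟶ pullback p p, ω pt = w := by
      refine ⟨Spec.map (CommRingCat.ofHom (algebraMap ((pullback p p).residueField w) Ω)) ≫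
        (pullback p p).fromSpecResidueField w, ?_⟩
      rw [Scheme.Hom.comp_apply, Scheme.fromSpecResidueField_apply]
    obtain ⟨a₀, ha₀⟩ : ∃ a₀, a₀ = ω ≫ pullback.fst p p := ⟨_, rfl⟩
    haveI := hfin Ω (a₀ ≫ p)
    have hcard := hn Ω (a₀ ≫ p)
    have hbij : Function.Bijective (orbit p a hw a₀) :=
      (orbit_injective p a hw hmul hfree a₀).bijective_of_nat_card_le (by rw [hcard, hGn])
    obtain ⟨g, hg⟩ := hbij.2 ⟨ω ≫ pullback.snd p p, by
      rw [ha₀, Category.assoc, Category.assoc, pullback.condition]⟩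
    have hg' : a₀ ≫ a g = ω ≫ pullback.snd p p := congrArg Subtype.val hg
    have hω : ω = a₀ ≫ graph p a hw g := by
      rw [ha₀]
      exact eq_comp_graph p a hw ω g (by rw [← ha₀]; exact hg')
    change w ∈ Set.range (Sigma.desc (fun g : G => graph p a hw g))
    refine ⟨Sigma.ι (fun _ : G => Yl) g (a₀ pt), ?_⟩
    rw [← Scheme.Hom.comp_apply, Sigma.ι_desc, ← Scheme.Hom.comp_apply, ← hω, hωpt]
  · intro hiso
    have hsurj : Function.Surjective (orbit p a hw s₀) := by
      rintro ⟨b, hb⟩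
      let ω : Spec (CommRingCat.of Ω₀) ⟶ pullback p p := pullback.lift s₀ b hb.symm
      obtain ⟨pt, hpt⟩ := exists_pt_field Ω₀
      obtain ⟨g, u, hu⟩ := exists_factor_sigma (fun _ : G => Yl)
        (ω ≫ inv (Sigma.desc (fun g : G => graph p a hw g))) pt hpt
      have h1 : ω = u ≫ graph p a hw g := by
        have := congrArg (fun m => m ≫ Sigma.desc (fun g : G => graph p a hw g)) hu
        simp only [Category.assoc, IsIso.inv_hom_id, Category.comp_id, Sigma.ι_desc] at this
        exact this.symm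
      have h2 : s₀ = u := by
        have := congrArg (fun m => m ≫ pullback.fst p p) h1
        simp only [Category.assoc, graph_fst, Category.comp_id] at this
        rw [← this]
        exact (pullback.lift_fst _ _ _).symm
      have h3 : b = u ≫ a g := by
        have := congrArg (fun m => m ≫ pullback.snd p p) h1
        simp only [Category.assoc, graph_snd] at this
        rw [← this]
        exact (pullback.lift_snd _ _ _).symm
      refine ⟨g, Subtype.ext ?_⟩
      change s₀ ≫ a g = b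
      rw [h3, h2]
    rw [← hcard₀]
    exact Nat.card_congr (Equiv.ofBijective _ ⟨orbit_injective p a hw hmul hfree s₀, hsurj⟩)

end

end Groth.Agent.Lib.FreeActFEtH6
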