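import Mathlib

/-!
# Factorisation through a finite "free" object (helper2)

Abstract form, in a preadditive category: `F = coker(ρ : A → B)` with `A`, `B` finite coproducts
of copies of an object `E`; a morphism `φ : F → H` factors through a finite coproduct `L` of copies
of `E` as soon as the images of the generators are combinations `∑ α_{jk} τ_k` with coefficients
`α_{jk} : E → E` killing the relations.
-/

set_option autoImplicit false
open CategoryTheory Limits

namespace Groth.Agent.Lib.FreeFactor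

variable {𝒜 : Type*} [Category 𝒜] [Preadditive 𝒜]

section Proj

variable {I : Type*} [DecidableEq I] {E B : 𝒜} (ιB : I → (E ⟶ B))
  (hB : IsColimit (Cofan.mk B ιB))

/-- the projections of a coproduct of copies of `E` -/
noncomputable def proj (j : I) : B ⟶ E :=
  Cofan.IsColimit.desc hB (fun j' => if j' = j then 𝟙 E else 0)

lemma inj_proj (j' j : I) : ιB j' ≫ proj ιB hB j = if j' = j then 𝟙 E else 0 :=
  Cofan.IsColimit.fac hB _ j'

lemma sum_proj_inj [Fintype I] : ∑ j, proj ιB hB j ≫ ιB j = 𝟙 B := by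
  refine Cofan.IsColimit.hom_ext hB _ _ (fun j' => ?_)
  change ιB j' ≫ _ = ιB j' ≫ _
  rw [Preadditive.comp_sum, Category.comp_id]
  rw [Finset.sum_eq_single j']
  · rw [← Category.assoc, inj_proj, if_pos rfl, Category.id_comp]
  · intro j _ hj
    rw [← Category.assoc, inj_proj, if_neg (Ne.symm hj), zero_comp]
  · intro h
    exact absurd (Finset.mem_univ j') h

lemma map_proj {ℬ : Type*} [Category ℬ] [Preadditive ℬ] (G : 𝒜 ⥤ ℬ) [G.Additive]
    (hB' : IsColimit (Cofan.mk (G.obj B) (fun j => G.map (ιB j)))) (j : I) :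
    G.map (proj ιB hB j) = proj (fun j => G.map (ιB j)) hB' j := by
  refine Cofan.IsColimit.hom_ext hB' _ _ (fun j' => ?_)
  change G.map (ιB j') ≫ _ = G.map (ιB j') ≫ _
  rw [inj_proj (fun j => G.map (ιB j)) hB' j' j, ← G.map_comp, inj_proj]
  split_ifs
  · exact G.map_id E
  · exact G.map_zero _ _

end Proj

/-- **abstract factorisation lemma** -/
theorem exists_factorisation {E A B F H L : 𝒜} {Ir I N : Type*} [Fintype I] [DecidableEq I]
    [Fintype N]
    (ιA : Ir → (E ⟶ A)) (hA : IsColimit (Cofan.mk A ιA))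
    (ιB : I → (E ⟶ B)) (hB : IsColimit (Cofan.mk B ιB))
    (ιL : N → (E ⟶ L)) (hL : IsColimit (Cofan.mk L ιL))
    (ρ : A ⟶ B) (π : B ⟶ F) (w : ρ ≫ π = 0) (hπ : IsColimit (CokernelCofork.ofπ π w))
    (φ : F ⟶ H) (τ : N → (E ⟶ H)) (α : I → N → (E ⟶ E))
    (h1 : ∀ j, ιB j ≫ π ≫ φ = ∑ k, α j k ≫ τ k)
    (h2 : ∀ i k, ∑ j, (ιA i ≫ ρ ≫ proj ιB hB j) ≫ α j k = 0) :
    ∃ (a : F ⟶ L) (b : L ⟶ H), a ≫ b = φ := by
  let β : B ⟶ L := ∑ j, ∑ k, proj ιB hB j ≫ α j k ≫ ιL k
  let γ : L ⟶ H := Cofan.IsColimit.desc hL τ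
  have hγ : ∀ k, ιL k ≫ γ = τ k := fun k => Cofan.IsColimit.fac hL τ k
  have hρβ : ρ ≫ β = 0 := by
    refine Cofan.IsColimit.hom_ext hA _ _ (fun i => ?_)
    change ιA i ≫ ρ ≫ β = ιA i ≫ 0
    rw [comp_zero]
    dsimp only [β]
    rw [Preadditive.comp_sum, Preadditive.comp_sum]
    simp_rw [Preadditive.comp_sum]
    rw [Finset.sum_comm]
    refine Finset.sum_eq_zero (fun k _ => ?_)
    have := h2 i k
    calc ∑ j, ιA i ≫ ρ ≫ proj ιB hB j ≫ α j k ≫ ιL k
        = (∑ j, (ιA i ≫ ρ ≫ proj ιB hB j) ≫ α j k) ≫ ιL k := by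
          rw [Preadditive.sum_comp]
          refine Finset.sum_congr rfl (fun j _ => ?_)
          simp only [Category.assoc]
      _ = 0 := by rw [this, zero_comp]
  let a : F ⟶ L := hπ.desc (CokernelCofork.ofπ β hρβ)
  have ha : π ≫ a = β := Cofork.IsColimit.π_desc hπ
  refine ⟨a, γ, ?_⟩
  refine Cofork.IsColimit.hom_ext hπ ?_
  change π ≫ a ≫ γ = π ≫ φ
  rw [← Category.assoc, ha]
  dsimp only [β]
  rw [Preadditive.sum_comp]
  simp_rw [Preadditive.sum_comp, Category.assoc, hγ]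
  calc ∑ j, ∑ k, proj ιB hB j ≫ α j k ≫ τ k
      = ∑ j, proj ιB hB j ≫ ιB j ≫ π ≫ φ := by
        refine Finset.sum_congr rfl (fun j _ => ?_)
        rw [h1 j, Preadditive.comp_sum]
    _ = (∑ j, proj ιB hB j ≫ ιB j) ≫ π ≫ φ := by
        rw [Preadditive.sum_comp]
        refine Finset.sum_congr rfl (fun j _ => ?_)
        simp only [Category.assoc]
    _ = π ≫ φ := by rw [sum_proj_inj, Category.id_comp]

end Groth.Agent.Lib.FreeFactor
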