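import Groth.Agent.Lib.LocTriv2_helper2
import Groth.Agent.Lib.ModSite20_helper8

/-!
# Morphisms out of the structure sheaf of a slice site and sections (helper2)

On the slice site `C/W` of a ringed site, morphisms `O_W ⟶ M` are determined by their value at the
terminal object `𝟙 W`; compatibility with composition, sums and restriction to `C/W'` along
`W' ⟶ W`.
-/

set_option autoImplicit false
universe u
open CategoryTheory Limits ModSite Opposite

namespace Groth.Agent.Lib.FreeFactor

open Groth.Agent.Lib.StalkFlatPt

variable {C : Type u} [SmallCategory C] {J : GrothendieckTopology C} (O : Sheaf J CommRingCat.{u})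

/-- the terminal object of the slice -/
abbrev tW (W : C) : Over W := Over.mk (𝟙 W)

/-- the structure sheaf of the slice site, as a module -/
noncomputable abbrev unitW (W : C) : Mod (O.over W) := SheafOfModules.unit _

/-- the morphism to the terminal object of the slice -/
abbrev toT {W : C} (Y : Over W) : Y ⟶ tW W := Over.homMk Y.hom (by simp)

lemma toT_tW (W : C) : toT (tW W) = 𝟙 (tW W) := by
  ext
  rfl

variable {O}

/-- evaluation of a morphism `O_W ⟶ M` at the terminal object of the slice -/
noncomputable def ev {W : C} (M : Mod (O.over W)) (f : unitW O W ⟶ M) : M.val.obj (op (tW W)) :=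
  f.val.app (op (tW W)) (1 : (ringSh (O.over W)).obj.obj (op (tW W)))

lemma ev_comp {W : C} {M N : Mod (O.over W)} (f : unitW O W ⟶ M) (p : M ⟶ N) :
    ev N (f ≫ p) = p.val.app (op (tW W)) (ev M f) := rfl

lemma ev_eq_unitHomEquiv {W : C} (M : Mod (O.over W)) (f : unitW O W ⟶ M) :
    ev M f = (M.unitHomEquiv f).val (op (tW W)) := rfl

lemma unitHomEquiv_val {W : C} (M : Mod (O.over W)) (f : unitW O W ⟶ M) (X : (Over W)ᵒᵖ) :
    (M.unitHomEquiv f).val X = M.val.map (toT X.unop).op (ev M f) := by
  rw [ev_eq_unitHomEquiv]
  exact (PresheafOfModules.sections_property (M.unitHomEquiv f) (toT X.unop).op).symm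

lemma ev_injective {W : C} (M : Mod (O.over W)) : Function.Injective (ev M) := by
  intro f f' h
  apply M.unitHomEquiv.injective
  apply PresheafOfModules.sections_ext
  intro X
  rw [unitHomEquiv_val, unitHomEquiv_val, h]

lemma ev_surjective {W : C} (M : Mod (O.over W)) : Function.Surjective (ev M) := by
  intro m
  let s : M.sections := PresheafOfModules.sectionsMk (fun X => M.val.map (toT X.unop).op m) (by
    intro X Y q
    rw [← PresheafOfModules.map_comp_apply]
    apply PresheafOfModules.congr_map_apply
    apply Quiver.Hom.unop_inj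
    ext
    simp)
  refine ⟨M.unitHomEquiv.symm s, ?_⟩
  rw [ev_eq_unitHomEquiv, Equiv.apply_symm_apply]
  change M.val.map (toT (tW W)).op m = m
  rw [PresheafOfModules.congr_map_apply M.val (show (toT (tW W)).op = 𝟙 _ by rw [toT_tW]; rfl) m]
  simp

/-- `ev` as an additive map -/
noncomputable def evHom {W : C} (M : Mod (O.over W)) :
    (unitW O W ⟶ M) →+ M.val.obj (op (tW W)) where
  toFun := ev M
  map_zero' := by
    change ((0 : unitW O W ⟶ M).val.app (op (tW W))) _ = 0
    rfl
  map_add' f f' := by
    change ((f + f').val.app (op (tW W))) _ = _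
    rfl

lemma ev_zero {W : C} (M : Mod (O.over W)) : ev M 0 = 0 := (evHom M).map_zero

lemma ev_add {W : C} (M : Mod (O.over W)) (f f' : unitW O W ⟶ M) :
    ev M (f + f') = ev M f + ev M f' := (evHom M).map_add f f'

lemma ev_sum {W : C} (M : Mod (O.over W)) {ι : Type*} (s : Finset ι) (f : ι → (unitW O W ⟶ M)) :
    ev M (∑ i ∈ s, f i) = ∑ i ∈ s, ev M (f i) := map_sum (evHom M) f s

end Groth.Agent.Lib.FreeFactor
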