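import Mathlib
import Groth.Agent.Lib.CotFlat_helper3
import Groth.Agent.Lib.SmoothRegField_helper3
import Groth.Agent.Lib.PerfectGR_helper3

/-!
# Free differentials in characteristic zero imply regularity (helper3)

* `exists_div`, `mem_of_mul_mem`: if `D x = 1` for a derivation `D` of a `ℚ`-like ring `B`
  stabilising an ideal `I` with `⋂ (I + xⁿB) = I`, then `x` is a nonzerodivisor modulo `I`.
* `isRegular_of_derivations`: in a Noetherian local ring in which the positive integers are
  invertible, a sequence `x₁,…,xₙ` of the maximal ideal admitting derivations `Dᵢ` with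
  `Dᵢ xᵢ = 1`, `Dᵢ xⱼ = 0` (`j < i`) is a regular sequence.
* `isRegularLocalRing_of_derivations`: if moreover the `xᵢ` generate the maximal ideal the ring is
  regular.
* `kerCotangentToTensor_injective`: `m/m² → κ ⊗ Ω[B/k]` is injective when `κ` is formally smooth over `k`.
* `exists_derivations`, `isRegularLocalRing_of_free`: `Ω[B/k]` free ⇒ `B` regular (char. 0 type hypotheses).
* `main5000`.
APPEND-ONLY once landed.
-/

set_option autoImplicit false

universe u

open IsLocalRing TensorProduct KaehlerDifferential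

namespace Groth.Agent.Lib.FreeKaehlerRegH3

section Deriv

variable {R B : Type*} [CommRing R] [CommRing B] [Algebra R B]

theorem exists_div (hinv : ∀ n : ℕ, 0 < n → IsUnit ((n : ℕ) : B)) (I : Ideal B) (x : B)
    (D : Derivation R B B) (hDx : D x = 1) (hDI : ∀ a ∈ I, D a ∈ I) :
    ∀ (j : ℕ) (y : B), x ^ j * y ∈ I → ∃ w : B, x ^ (j + 1) * w ∈ I ∧ y - x * w ∈ I := by
  intro j
  induction j with
  | zero =>
    intro y hy
    refine ⟨0, by simp, ?_⟩
    simpa using hy
  | succ j ih =>
    intro y hy
    have h1 : D (x ^ (j + 1) * y) ∈ I := hDI _ hy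
    have h2 : D (x ^ (j + 1) * y) = x ^ (j + 1) * D y + ((j + 1 : ℕ) : B) * (x ^ j * y) := by
      rw [D.leibniz, D.leibniz_pow, hDx]
      simp only [smul_eq_mul, Nat.add_sub_cancel, nsmul_eq_mul, mul_one]
      ring
    have h3 : x ^ j * (((j + 1 : ℕ) : B) * y + x * D y) ∈ I := by
      have : x ^ j * (((j + 1 : ℕ) : B) * y + x * D y) = D (x ^ (j + 1) * y) := by
        rw [h2]; ring
      rw [this]; exact h1
    obtain ⟨w, hw1, hw2⟩ := ih _ h3
    obtain ⟨c, hc⟩ := (hinv (j + 1) (Nat.succ_pos j)).exists_left_inv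
    refine ⟨c * (w - D y), ?_, ?_⟩
    · have h4 : x ^ (j + 1 + 1) * (c * (w - D y)) =
          c * (x * (x ^ (j + 1) * w)) - c * (x * D (x ^ (j + 1) * y)) +
            c * ((j + 1 : ℕ) : B) * (x ^ (j + 1) * y) := by
        rw [h2]; ring
      rw [h4]
      exact I.add_mem (I.sub_mem (I.mul_mem_left _ (I.mul_mem_left _ hw1))
        (I.mul_mem_left _ (I.mul_mem_left _ h1))) (I.mul_mem_left _ hy)
    · have h5 : y - x * (c * (w - D y)) =
          c * ((((j + 1 : ℕ) : B) * y + x * D y) - x * w) + (1 - c * ((j + 1 : ℕ) : B)) * y := by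
        ring
      rw [h5, hc, sub_self, zero_mul, add_zero]
      exact I.mul_mem_left _ hw2

theorem mem_of_mul_mem (hinv : ∀ n : ℕ, 0 < n → IsUnit ((n : ℕ) : B)) (I : Ideal B) (x : B)
    (D : Derivation R B B) (hDx : D x = 1) (hDI : ∀ a ∈ I, D a ∈ I)
    (hsep : ∀ y : B, (∀ n : ℕ, y ∈ I ⊔ Ideal.span {x ^ n}) → y ∈ I) :
    ∀ y : B, x * y ∈ I → y ∈ I := by
  have key : ∀ (n j : ℕ) (y : B), x ^ j * y ∈ I → y ∈ I ⊔ Ideal.span {x ^ n} := by
    intro n
    induction n with
    | zero => intro j y _; simp
    | succ n ih =>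
      intro j y hy
      obtain ⟨w, hw1, hw2⟩ := exists_div hinv I x D hDx hDI j y hy
      have hw := ih (j + 1) w hw1
      obtain ⟨a, ha, b, hb, hab⟩ := Submodule.mem_sup.1 hw
      obtain ⟨c, rfl⟩ := Ideal.mem_span_singleton'.1 hb
      refine Submodule.mem_sup.2 ⟨(y - x * w) + x * a, I.add_mem hw2 (I.mul_mem_left _ ha),
        c * x ^ (n + 1), Ideal.mem_span_singleton'.2 ⟨c, rfl⟩, ?_⟩
      rw [← hab]; ring
  intro y hy
  exact hsep y (fun n => key n 1 y (by simpa using hy))

theorem isRegular_of_derivations [IsLocalRing B] [IsNoetherianRing B]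
    (hinv : ∀ n : ℕ, 0 < n → IsUnit ((n : ℕ) : B)) (rs : List B)
    (hrs : ∀ r ∈ rs, r ∈ maximalIdeal B)
    (hD : ∀ (i : ℕ) (h : i < rs.length), ∃ D : Derivation R B B, D rs[i] = 1 ∧
      ∀ (j : ℕ) (hj : j < i), D (rs[j]'(hj.trans h)) = 0) :
    RingTheory.Sequence.IsRegular B rs := by
  rw [IsLocalRing.isRegular_iff_isWeaklyRegular_of_subset_maximalIdeal hrs]
  refine ⟨fun i h => ?_⟩
  obtain ⟨D, hD1, hD0⟩ := hD i h
  obtain ⟨I, hI⟩ : ∃ I : Ideal B, I = Ideal.ofList (rs.take i) := ⟨_, rfl⟩
  rw [← hI]
  have hDI : ∀ a ∈ I, D a ∈ I := by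
    intro a ha
    rw [hI] at ha
    induction ha using Submodule.span_induction with
    | mem r hr =>
      obtain ⟨j, hj, rfl⟩ := List.mem_take_iff_getElem.1 hr
      have hji : j < i := (lt_min_iff.1 hj).1
      rw [hD0 j hji]; exact I.zero_mem
    | zero => rw [map_zero]; exact I.zero_mem
    | add a b _ _ ha hb => rw [map_add]; exact I.add_mem ha hb
    | smul c a ha' ih =>
      rw [smul_eq_mul, D.leibniz]
      exact I.add_mem (I.mul_mem_left _ ih) (I.mul_mem_right _ (hI ▸ ha'))
  have hx : rs[i] ∈ maximalIdeal B := hrs _ (List.getElem_mem h)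
  have hsep : ∀ y : B, (∀ n : ℕ, y ∈ I ⊔ Ideal.span {rs[i] ^ n}) → y ∈ I := by
    intro y hy
    have hne : Ideal.span {rs[i]} ≠ ⊤ := by
      intro htop
      exact (mem_nonunits_iff.1 ((mem_maximalIdeal _).1 hx)) (Ideal.span_singleton_eq_top.1 htop)
    have hK := Ideal.iInf_pow_smul_eq_bot_of_isLocalRing (R := B) (M := B ⧸ I)
      (Ideal.span {rs[i]}) hne
    have hmem : Ideal.Quotient.mk I y ∈
        (⨅ n : ℕ, (Ideal.span {rs[i]}) ^ n • ⊤ : Submodule B (B ⧸ I)) := by
      rw [Submodule.mem_iInf]; intro n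
      obtain ⟨a, ha, b, hb, rfl⟩ := Submodule.mem_sup.1 (hy n)
      rw [map_add, Ideal.Quotient.eq_zero_iff_mem.2 ha, zero_add]
      obtain ⟨c, rfl⟩ := Ideal.mem_span_singleton'.1 hb
      have h1 : Ideal.Quotient.mk I (c * rs[i] ^ n) = (c * rs[i] ^ n) • (1 : B ⧸ I) := by
        rw [Algebra.smul_def, mul_one]; rfl
      rw [h1]
      exact Submodule.smul_mem_smul (Ideal.mul_mem_left _ _
        (Ideal.pow_mem_pow (Ideal.mem_span_singleton_self _) n)) Submodule.mem_top
    rw [hK] at hmem
    exact Ideal.Quotient.eq_zero_iff_mem.1 ((Submodule.mem_bot _).1 hmem)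
  have hIsm : (I • ⊤ : Submodule B B) = I := by rw [smul_eq_mul, Ideal.mul_top]
  intro a b hab
  obtain ⟨a, rfl⟩ := Submodule.Quotient.mk_surjective _ a
  obtain ⟨b, rfl⟩ := Submodule.Quotient.mk_surjective _ b
  have h1 : rs[i] * (a - b) ∈ (I • ⊤ : Submodule B B) := by
    have h2 : rs[i] • (Submodule.Quotient.mk a : B ⧸ (I • ⊤ : Submodule B B)) =
        rs[i] • Submodule.Quotient.mk b := hab
    rw [← Submodule.Quotient.mk_smul, ← Submodule.Quotient.mk_smul, Submodule.Quotient.eq] at h2
    rwa [← smul_sub] at h2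
  rw [Submodule.Quotient.eq]
  rw [hIsm] at h1 ⊢
  exact mem_of_mul_mem hinv I rs[i] D hD1 hDI hsep _ h1

theorem isRegularLocalRing_of_derivations [IsLocalRing B] [IsNoetherianRing B]
    (hinv : ∀ n : ℕ, 0 < n → IsUnit ((n : ℕ) : B)) (rs : List B)
    (hspan : Ideal.ofList rs = maximalIdeal B)
    (hD : ∀ (i : ℕ) (h : i < rs.length), ∃ D : Derivation R B B, D rs[i] = 1 ∧
      ∀ (j : ℕ) (hj : j < i), D (rs[j]'(hj.trans h)) = 0) :
    IsRegularLocalRing B := by
  classical
  have hrs : ∀ r ∈ rs, r ∈ maximalIdeal B := fun r hr => hspan ▸ Ideal.subset_span hr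
  have hreg := isRegular_of_derivations hinv rs hrs hD
  have hdim := ringKrullDim_add_length_eq_ringKrullDim_of_isRegular rs hreg
  apply IsRegularLocalRing.of_spanFinrank_maximalIdeal_le
  have h1 : (maximalIdeal B).spanFinrank ≤ rs.length := by
    rw [← hspan]
    calc (Ideal.ofList rs).spanFinrank ≤ {r | r ∈ rs}.ncard :=
          Submodule.spanFinrank_span_le_ncard_of_finite (List.finite_toSet rs)
      _ ≤ rs.length := by
          have : {r | r ∈ rs} = (rs.toFinset : Set B) := by ext; simp
          rw [this, Set.ncard_coe_finset]; exact List.toFinset_card_le rs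
  have h2 : (rs.length : WithBot ℕ∞) ≤ ringKrullDim B := by
    rw [← hdim]
    have h0 : (0 : WithBot ℕ∞) ≤ ringKrullDim (B ⧸ Ideal.ofList rs) := by
      haveI : Nontrivial (B ⧸ Ideal.ofList rs) :=
        Ideal.Quotient.nontrivial_iff.2 (by rw [hspan]; exact Ideal.IsPrime.ne_top')
      exact ringKrullDim_nonneg_of_nontrivial
    calc (rs.length : WithBot ℕ∞) = 0 + rs.length := by simp
      _ ≤ ringKrullDim (B ⧸ Ideal.ofList rs) + rs.length := by gcongr
  exact le_trans (by exact_mod_cast h1) h2

end Deriv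

section Kaehler

variable (k B : Type u) [Field k] [CommRing B] [Algebra k B] [IsLocalRing B]

theorem kerCotangentToTensor_injective [Algebra.FormallySmooth k (ResidueField B)] :
    Function.Injective (kerCotangentToTensor k B (ResidueField B)) := by
  have hf : Function.Surjective (algebraMap B (ResidueField B)) := IsLocalRing.residue_surjective
  let π : (B ⧸ (RingHom.ker (algebraMap B (ResidueField B)) ^ 2)) →ₐ[k] ResidueField B :=
    (IsScalarTower.toAlgHom k B (ResidueField B)).kerSquareLift
  have hπ : Function.Surjective π := by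
    intro y
    obtain ⟨b, rfl⟩ := hf y
    exact ⟨Ideal.Quotient.mk _ b, rfl⟩
  have hnil : IsNilpotent (RingHom.ker (π : (B ⧸ (RingHom.ker (algebraMap B (ResidueField B)) ^ 2))
      →+* ResidueField B)) := by
    refine ⟨2, ?_⟩
    have := (IsScalarTower.toAlgHom k B (ResidueField B)).ker_kerSquareLift
    show (RingHom.ker (IsScalarTower.toAlgHom k B (ResidueField B)).kerSquareLift.toRingHom) ^ 2 = 0
    rw [this]
    exact Ideal.cotangentIdeal_square _
  let g := Algebra.FormallySmooth.liftOfSurjective (AlgHom.id k (ResidueField B)) π hπ hnil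
  have hg : π.comp g = AlgHom.id k (ResidueField B) :=
    Algebra.FormallySmooth.comp_liftOfSurjective _ _ hπ hnil
  obtain ⟨l, hl⟩ := (retractionKerCotangentToTensorEquivSection (R := k) hf).symm ⟨g, hg⟩
  intro x y hxy
  have := congrArg l hxy
  rwa [← LinearMap.comp_apply, ← LinearMap.comp_apply, hl] at this

theorem exists_derivations [IsNoetherianRing B] [Algebra.FormallySmooth k (ResidueField B)]
    [Module.Free B (Ω[B⁄k])] :
    ∃ (n : ℕ) (x : Fin n → B) (D : Fin n → Derivation k B B),
      Ideal.span (Set.range x) = maximalIdeal B ∧ ∀ i j, D i (x j) = if i = j then 1 else 0 := by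
  classical
  obtain ⟨n, x, hxm, hspan, hind⟩ : ∃ (n : ℕ) (x : Fin n → B), (∀ i, x i ∈ maximalIdeal B) ∧
      Ideal.span (Set.range x) = maximalIdeal B ∧ Groth.Agent.Lib.CotFlatH3.Indep x :=
    ⟨_, Groth.Agent.Lib.CotFlatH3.exists_good B⟩
  refine ⟨n, x, ?_⟩
  have hxk : ∀ j, x j ∈ RingHom.ker (algebraMap B (ResidueField B)) := fun j =>
    RingHom.mem_ker.2 ((residue_eq_zero_iff _).2 (hxm j))
  -- the vectors `1 ⊗ d x_j`
  let v : Fin n → ResidueField B ⊗[B] Ω[B⁄k] := fun j => 1 ⊗ₜ[B] KaehlerDifferential.D k B (x j)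
  have hli : LinearIndependent (ResidueField B) v := by
    rw [Fintype.linearIndependent_iff]
    intro gcoef hg
    choose c hc using fun j => residue_surjective (R := B) (gcoef j)
    have hsum : (∑ j, c j * x j) ∈ RingHom.ker (algebraMap B (ResidueField B)) :=
      Ideal.sum_mem _ (fun j _ => Ideal.mul_mem_left _ _ (hxk j))
    have h1 : kerCotangentToTensor k B (ResidueField B)
        (Ideal.toCotangent _ ⟨∑ j, c j * x j, hsum⟩) = 0 := by
      rw [kerCotangentToTensor_toCotangent]
      rw [← hg]
      simp only [map_sum, Derivation.leibniz, tmul_add, tmul_sum]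
      rw [Finset.sum_add_distrib]
      have hz : ∑ j, (1 : ResidueField B) ⊗ₜ[B] (x j • KaehlerDifferential.D k B (c j)) = 0 := by
        refine Finset.sum_eq_zero fun j _ => ?_
        rw [tmul_smul, smul_tmul', Algebra.smul_def, mul_one]
        have : algebraMap B (ResidueField B) (x j) = 0 := RingHom.mem_ker.1 (hxk j)
        rw [this, zero_tmul]
      rw [hz, add_zero]
      refine Finset.sum_congr rfl fun j _ => ?_
      rw [tmul_smul, smul_tmul', ← hc j]
      show (c j • (1 : ResidueField B)) ⊗ₜ[B] _ = (residue B (c j) • v j)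
      rw [Algebra.smul_def, mul_one]
      show _ = residue B (c j) • ((1 : ResidueField B) ⊗ₜ[B] KaehlerDifferential.D k B (x j))
      rw [smul_tmul', smul_eq_mul, mul_one]
      rfl
    have h2 := kerCotangentToTensor_injective k B (h1.trans (map_zero _).symm)
    rw [Ideal.toCotangent_eq_zero] at h2
    have h3 : (∑ j, c j * x j) ∈ maximalIdeal B ^ 2 := by
      have hker : RingHom.ker (algebraMap B (ResidueField B)) = maximalIdeal B := by
        rw [ResidueField.algebraMap_eq, ker_residue]
      rw [← hker]; exact h2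
    intro j
    rw [← hc j]
    exact (residue_eq_zero_iff _).2 (hind c h3 j)
  -- dual functionals on `κ ⊗ Ω`
  have hinj : Function.Injective (Fintype.linearCombination (ResidueField B) v) :=
    linearIndependent_iff_injective_fintypeLinearCombination.1 hli
  obtain ⟨gd, hgd⟩ := LinearMap.exists_leftInverse_of_injective
    (Fintype.linearCombination (ResidueField B) v) (LinearMap.ker_eq_bot.2 hinj)
  have hgv : ∀ j, gd (v j) = Pi.single j 1 := by
    intro j
    have := LinearMap.congr_fun hgd (Pi.single j 1)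
    rw [LinearMap.comp_apply, Fintype.linearCombination_apply_single, one_smul] at this
    exact this
  -- lift to `Ω → Bⁿ`
  let ρ : Ω[B⁄k] →ₗ[B] (Fin n → ResidueField B) :=
    (gd.restrictScalars B) ∘ₗ (TensorProduct.mk B (ResidueField B) (Ω[B⁄k]) 1)
  let πn : (Fin n → B) →ₗ[B] (Fin n → ResidueField B) :=
    (Algebra.linearMap B (ResidueField B)).compLeft (Fin n)
  have hπn : Function.Surjective πn := by
    intro f
    choose b hb using fun i => residue_surjective (R := B) (f i)
    exact ⟨b, funext hb⟩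
  obtain ⟨Φ, hΦ⟩ := Module.projective_lifting_property πn ρ hπn
  have hΦr : ∀ i j, residue B (Φ (KaehlerDifferential.D k B (x j)) i) =
      if i = j then 1 else 0 := by
    intro i j
    have h1 := congrFun (LinearMap.congr_fun hΦ (KaehlerDifferential.D k B (x j))) i
    have h2 : ρ (KaehlerDifferential.D k B (x j)) = gd (v j) := rfl
    rw [h2, hgv, Pi.single_apply] at h1
    exact h1
  let M : Matrix (Fin n) (Fin n) B := fun i j => Φ (KaehlerDifferential.D k B (x j)) i
  have hMres : (residue B).mapMatrix M = 1 := by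
    ext i j
    rw [RingHom.mapMatrix_apply, Matrix.map_apply, Matrix.one_apply]
    exact hΦr i j
  have hdet : IsUnit M.det := by
    have h1 : residue B M.det = 1 := by
      rw [RingHom.map_det, hMres, Matrix.det_one]
    have h2 : IsUnit (residue B M.det) := by rw [h1]; exact isUnit_one
    exact isUnit_of_map_unit (residue B) _ h2
  let Ψ : Ω[B⁄k] →ₗ[B] (Fin n → B) := (Matrix.toLin' M⁻¹) ∘ₗ Φ
  have hΨ : ∀ i j, Ψ (KaehlerDifferential.D k B (x j)) i = if i = j then 1 else 0 := by
    intro i j
    show (Matrix.toLin' M⁻¹ (Φ (KaehlerDifferential.D k B (x j)))) i = _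
    rw [Matrix.toLin'_apply]
    have h1 : (Matrix.mulVec M⁻¹ (Φ (KaehlerDifferential.D k B (x j)))) i = (M⁻¹ * M) i j := by
      rw [Matrix.mul_apply]; rfl
    rw [h1, Matrix.nonsing_inv_mul _ hdet, Matrix.one_apply]
  refine ⟨fun i => ((LinearMap.proj i) ∘ₗ Ψ).compDer (KaehlerDifferential.D k B), hspan, ?_⟩
  intro i j
  exact hΨ i j

theorem isRegularLocalRing_of_free [IsNoetherianRing B]
    [Algebra.FormallySmooth k (ResidueField B)] [Module.Free B (Ω[B⁄k])]
    (hinv : ∀ n : ℕ, 0 < n → IsUnit ((n : ℕ) : B)) : IsRegularLocalRing B := by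
  obtain ⟨n, x, D, hspan, hD⟩ := exists_derivations k B
  have hlen : (List.ofFn x).length = n := List.length_ofFn
  apply isRegularLocalRing_of_derivations (R := k) hinv (List.ofFn x)
  · rw [← hspan]
    have : {r | r ∈ List.ofFn x} = Set.range x := by
      ext r
      rw [Set.mem_setOf_eq, List.mem_ofFn]
      exact Iff.rfl
    show Ideal.span {r | r ∈ List.ofFn x} = _
    rw [this]
  · intro i h
    have hi : i < n := hlen ▸ h
    refine ⟨D ⟨i, hi⟩, ?_, ?_⟩
    · rw [List.getElem_ofFn, hD, if_pos rfl]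
    · intro j hj
      rw [List.getElem_ofFn, hD, if_neg]
      intro hij
      have := congrArg Fin.val hij
      simp at this
      omega

end Kaehler

section Main

theorem main5000 (k A : Type u) [Field k] [CharZero k] [CommRing A]
    [Algebra k A] [Algebra.FiniteType k A] (q : Ideal A) [q.IsPrime] :
    Algebra.IsSmoothAt k q ↔
      Module.Free (Localization.AtPrime q) (KaehlerDifferential k (Localization.AtPrime q)) := by
  haveI : IsNoetherianRing A := Algebra.FiniteType.isNoetherianRing k A
  haveI : IsNoetherianRing (Localization.AtPrime q) :=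
    IsLocalization.isNoetherianRing q.primeCompl _ inferInstance
  haveI : Algebra.EssFiniteType A (Localization.AtPrime q) :=
    Algebra.EssFiniteType.of_isLocalization _ q.primeCompl
  haveI : Algebra.EssFiniteType k (Localization.AtPrime q) :=
    Algebra.EssFiniteType.comp k A (Localization.AtPrime q)
  constructor
  · intro h
    haveI : Algebra.FormallySmooth k (Localization.AtPrime q) := h
    exact Module.free_of_flat_of_isLocalRing
  · intro hfree
    haveI := hfree
    set B := Localization.AtPrime q with hB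
    haveI : Algebra.FiniteType B (ResidueField B) :=
      Algebra.FiniteType.of_surjective (Algebra.ofId B (ResidueField B))
        IsLocalRing.residue_surjective
    haveI : Algebra.EssFiniteType k (ResidueField B) := Algebra.EssFiniteType.comp k B _
    haveI : Algebra.FormallySmooth k (ResidueField B) := inferInstance
    have hinv : ∀ n : ℕ, 0 < n → IsUnit ((n : ℕ) : B) := by
      intro n hn
      have h1 : IsUnit ((n : ℕ) : k) := (Nat.cast_ne_zero.2 hn.ne').isUnit
      have h2 := h1.map (algebraMap k B)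
      rwa [map_natCast] at h2
    have hreg : IsRegularLocalRing B := isRegularLocalRing_of_free k B hinv
    haveI : Algebra.IsGeometricallyReduced k (ResidueField B) :=
      Groth.Agent.Lib.PerfectGRH3.isGeometricallyReduced_of_perfectField k _
    obtain ⟨n, f, hf⟩ := Algebra.FiniteType.iff_quotient_mvPolynomial''.1
      (inferInstance : Algebra.FiniteType k A)
    let g : MvPolynomial (Fin n) k →ₐ[k] B := (IsScalarTower.toAlgHom k A B).comp f
    have hg : ∀ s : B, ∃ F G, IsUnit (g G) ∧ s * g G = g F := by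
      intro s
      obtain ⟨a, t, rfl⟩ := IsLocalization.exists_mk'_eq q.primeCompl s
      obtain ⟨F, hF⟩ := hf a
      obtain ⟨G, hG⟩ := hf (t : A)
      refine ⟨F, G, ?_, ?_⟩
      · show IsUnit (algebraMap A B (f G))
        rw [hG]; exact IsLocalization.map_units _ t
      · show IsLocalization.mk' B a t * algebraMap A B (f G) = algebraMap A B (f F)
        rw [hG, hF, IsLocalization.mk'_spec]
    exact Groth.Agent.Lib.SmoothRegFieldH3.formallySmooth_of_regular_of_bijective
      (k := k) (R₀ := k) (A := B) Function.surjective_id n g hg hreg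

end Main

end Groth.Agent.Lib.FreeKaehlerRegH3
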