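import Mathlib
import Groth.Prelude
import Groth.Agent.Lib.CurveSD6_helper9
import Groth.Agent.Lib.TensBasis6_helper9
import Groth.Agent.Lib.CurveLin3_helper9
import Groth.Agent.Lib.CurveG12b_helper9
import Groth.Agent.Lib.SuppTens2_helper8
import Groth.Agent.Lib.Tens31_helper8
import Groth.Agent.Lib.EllNag1_helper9
import Groth.Agent.Lib.CurveSpec1_helper9
import Groth.Agent.Lib.RelAmpleVan_helper9
import Groth.Agent.Lib.CurveTens4_helper9

/-!
# Vanishing of `H¹(T ⊗ I_E)` from surjectivity of restriction to a divisor (helper9)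

Let `X` be a regular integral proper curve of genus `g` over an algebraically closed field, `T`
finite locally free, `D` an effective Cartier divisor of degree `m ≥ 1` with
`H⁰(T) → H⁰(T ⊗ O_D)` surjective.  Then `H¹(T ⊗ I_E) = 0` for every effective Cartier divisor `E`
of degree `m - 2g`.  The proof uses Serre duality (`CurveSD`): a nonzero map `T ⊗ I_E → ω` gives an
invertible quotient `M` of `T` of degree `≤ m - 2`, for which `H⁰(M) → H⁰(M ⊗ O_D)` is again
surjective, so `h⁰(M) ≥ m`, contradicting `h⁰(M) ≤ deg M + 1`.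
APPEND-ONLY once landed.
-/

set_option autoImplicit false
universe u
open CategoryTheory CategoryTheory.Limits AlgebraicGeometry Opposite TopologicalSpace

namespace FreeSec

open Groth.Agent.HHVan Groth.Agent.TensInv

section Gen

variable {X : Scheme.{u}}

/-- bifunctoriality of the tensor product -/
theorem tL_tR_comm {A A' B B' : X.Modules} (q : A ⟶ A') (u : B ⟶ B') :
    (tL A).map u ≫ (tR B').map q = (tR B).map q ≫ (tL A').map u :=
  ((tB X).map q).naturality u

end Gen

section Main

variable (k : Type u) [Field k] (X : Scheme.{u}) [X.Over (Spec (CommRingCat.of k))]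
  [IsIntegral X] [IsProper (X ↘ Spec (CommRingCat.of k))]

/-- the ideal sheaf of an effective Cartier divisor `D` on a curve has degree `-h⁰(O_D)` -/
theorem deg_idealMod (hdim : topologicalKrullDim X = 1) (D : X.IdealSheafData)
    (hD : BlowUp.IsEffCartierIdeal D) :
    Curv2.deg k X (ClSub.idealMod D) 1 =
      -(Module.finrank k (Coh.HH X (ClSub.quotMod D) 0) : ℤ) := by
  haveI : IsLocallyNoetherian X :=
    LocallyOfFiniteType.isLocallyNoetherian (X ↘ Spec (CommRingCat.of k))
  have h0 : ∀ x ∈ D.support, IsClosed ({x} : Set X) := fun x hx =>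
    TensBasis.isClosed_singleton_of_mem_support_effCartier hdim.le D hD x hx
  have h0'' : ∀ x ∈ CohB1.support (ClSub.quotMod D), IsClosed ({x} : Set X) :=
    fun x hx => h0 x (CurveIdeal.support_quotMod_subset D (Iso.refl _) hx)
  have e4 := TensBasis.euler_structureModule_eq_add k X D
  have e5 := CurveDeg.euler_eq_finrank_of_closed_support k X _ (CurveIdeal.isCoh_quotMod D) h0''
  unfold Curv2.deg
  push_cast
  linarith

/-- `h⁰(M ⊗ O_D) = h⁰(O_D)` for `M` invertible and `D` an effective Cartier divisor on a curve -/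
theorem finrank_HH0_tensor_quotMod (hdim : topologicalKrullDim X = 1) (D : X.IdealSheafData)
    (hD : BlowUp.IsEffCartierIdeal D) {M : X.Modules} (hM : PicF.IsInvertible M) :
    Module.finrank k (Coh.HH X (CohB1.tensorMod M (ClSub.quotMod D)) 0) =
      Module.finrank k (Coh.HH X (ClSub.quotMod D) 0) := by
  haveI : IsLocallyNoetherian X :=
    LocallyOfFiniteType.isLocallyNoetherian (X ↘ Spec (CommRingCat.of k))
  have h0 : ∀ x ∈ D.support, IsClosed ({x} : Set X) := fun x hx =>
    TensBasis.isClosed_singleton_of_mem_support_effCartier hdim.le D hD x hx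
  have hID : PicF.IsInvertible (ClSub.idealMod D) :=
    TensH8.isInvertible_idealMod_of_isEffCartierIdeal D hD
  have hMc := ProperFinH9.isCoh_of_isInvertible hM
  have hOc := CohDevH8.isCoh_structureModule X
  have hQc := CurveIdeal.isCoh_quotMod D
  have hIc := CurveIdeal.isCoh_idealMod D
  have hMQc : Coh.IsCoh (CohB1.tensorMod M (ClSub.quotMod D)) :=
    RelAmpleVanH9.isCoh_tensorMod hMc hQc
  have hsupp : ∀ x ∈ CohB1.support (CohB1.tensorMod M (ClSub.quotMod D)),
      IsClosed ({x} : Set X) := by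
    intro x hx
    haveI := hMc.1
    haveI := hQc.1
    rw [SuppTensH8.support_tensorMod M (ClSub.quotMod D) hMc.2 hQc.2] at hx
    exact h0 x (CurveIdeal.support_quotMod_subset D (Iso.refl _) hx.2)
  have hS := EllNag.shortExact_tL hM (Groth.Agent.HypSurf.ses D)
    (Groth.Agent.HypSurf.ses_shortExact D)
  have hadd := EulerField.euler_additive k X _ hS
    (RelAmpleVanH9.isCoh_tensorMod hMc hIc) (RelAmpleVanH9.isCoh_tensorMod hMc hOc) hMQc
  have e1 : Curv2.euler k X (CohB1.tensorMod M (Coh.structureModule X)) = Curv2.euler k X M :=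
    CurveTens.euler_of_iso k X (rightUnit M)
  have e2 := CurveTens.deg_tensorMod k X hdim.le hM hID
  have e3 := deg_idealMod k X hdim D hD
  have e5 := CurveDeg.euler_eq_finrank_of_closed_support k X _ hMQc hsupp
  have hadd' : Curv2.euler k X (CohB1.tensorMod M (Coh.structureModule X)) =
      Curv2.euler k X (CohB1.tensorMod M (ClSub.idealMod D)) +
        Curv2.euler k X (CohB1.tensorMod M (ClSub.quotMod D)) := hadd
  unfold Curv2.deg at e2 e3
  push_cast at e2 e3
  have : (Module.finrank k (Coh.HH X (CohB1.tensorMod M (ClSub.quotMod D)) 0) : ℤ) =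
      (Module.finrank k (Coh.HH X (ClSub.quotMod D) 0) : ℤ) := by linarith
  exact_mod_cast this

end Main

section Vanish

variable (k : Type u) [Field k] [IsAlgClosed k] (X : Scheme.{u}) [X.Over (Spec (CommRingCat.of k))]
  [IsIntegral X] [IsProper (X ↘ Spec (CommRingCat.of k))]

/-- **statement of S15681** (on a regular curve) -/
theorem main (hdim : topologicalKrullDim X = 1)
    (hreg : ∀ x : X, IsRegularLocalRing (X.presheaf.stalk x))
    (T : X.Modules) (hT : FlatMod.IsFinLocFree T)
    (D : X.IdealSheafData) (hD : BlowUp.IsEffCartierIdeal D)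
    (hD1 : 1 ≤ Module.finrank k (Coh.HH X (ClSub.quotMod D) 0))
    (hsurj : Function.Surjective (hmap ((tL T).map (ClSub.toSubscheme D)) 0))
    (E : X.IdealSheafData) (hE : BlowUp.IsEffCartierIdeal E)
    (hdegE : Module.finrank k (Coh.HH X (ClSub.quotMod E) 0) + 2 * Curv2.genus k X =
      Module.finrank k (Coh.HH X (ClSub.quotMod D) 0)) :
    Subsingleton (Coh.HH X (CohB1.tensorMod T (ClSub.idealMod E)) 1) := by
  haveI : IsLocallyNoetherian X :=
    LocallyOfFiniteType.isLocallyNoetherian (X ↘ Spec (CommRingCat.of k))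
  haveI : Nonempty X := inferInstance
  obtain ⟨D₀⟩ := CurveSD.exists_dualData (k := k) (X := X) hdim hreg
  have hTc := KerFreeH8.isCoh_of_finLocFree hT
  have hIE : PicF.IsInvertible (ClSub.idealMod E) :=
    TensH8.isInvertible_idealMod_of_isEffCartierIdeal E hE
  have hTIc : Coh.IsCoh (CohB1.tensorMod T (ClSub.idealMod E)) :=
    CurveAmple.isCoh_tensorMod X hTc hIE
  apply CurveSD.HH1_subsingleton_of_hom_eq_zero hdim hreg D₀ _ hTIc
  intro φ
  by_contra hφ
  -- an inverse `L` of `I_E`
  obtain ⟨L, hL, ⟨e0⟩⟩ := Groth.Agent.InvTensP.exists_inverse (ClSub.idealMod E) hIE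
  haveI : (tR L).IsEquivalence := isEquivalence_tR (swap ⟨e0⟩)
  have hW : PicF.IsInvertible (CohB1.tensorMod D₀.ω L) := TensH8.isInvertible_tensorMod D₀.hω hL
  -- the twisted morphism `ψ : T ⟶ ω ⊗ L`
  let ι0 : T ≅ CohB1.tensorMod (CohB1.tensorMod T (ClSub.idealMod E)) L :=
    (rightUnit T).symm ≪≫ mapL T e0.symm ≪≫ (assoc T (ClSub.idealMod E) L).symm
  let ψ : T ⟶ CohB1.tensorMod D₀.ω L := ι0.hom ≫ (tR L).map φ
  have hψ : ψ ≠ 0 := by
    intro h
    apply hφ
    apply (tR L).map_injective
    rw [Functor.map_zero]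
    exact (cancel_epi ι0.hom).mp (h.trans comp_zero.symm)
  -- degrees
  have dL : Curv2.deg k X L 1 = (Module.finrank k (Coh.HH X (ClSub.quotMod E) 0) : ℤ) := by
    have h1 := CurveTens.deg_tensorMod k X hdim.le hIE hL
    have h2 := CurveTens.deg_of_iso k X e0 1
    have h3 := CurveDeg.deg_structureModule k X
    have h4 := deg_idealMod k X hdim E hE
    linarith
  have dW : Curv2.deg k X (CohB1.tensorMod D₀.ω L) 1 ≤
      (Module.finrank k (Coh.HH X (ClSub.quotMod D) 0) : ℤ) - 2 := by
    have h1 := CurveTens.deg_tensorMod k X hdim.le D₀.hω hL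
    have h2 := CurveSD.DualData.deg_le hdim D₀
    have h3 : ((Module.finrank k (Coh.HH X (ClSub.quotMod E) 0) : ℕ) : ℤ) +
        2 * (Curv2.genus k X : ℤ) = (Module.finrank k (Coh.HH X (ClSub.quotMod D) 0) : ℤ) := by
      exact_mod_cast hdegE
    linarith
  -- the image of `ψ`
  obtain ⟨r, hTr⟩ := VBCurve.exists_rank hT
  obtain ⟨rK, rI, -, hIm, -, hrI, -, -⟩ := VBCurve.exists_kerIm_data k X hreg hdim.le ψ hψ hTr
    (FLFH8.IsFinLocFreeOfRank.isFinLocFree _ (FLFH8.finLocFreeOfRank_one_of_isInvertible hW))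
  obtain ⟨h1, hdegM⟩ := CurveSD.sub_invertible_deg_le (k := k) hdim hW (Abelian.image.ι ψ) hrI hIm
  subst h1
  have hM : PicF.IsInvertible (Abelian.image ψ) := CurveG12.isInvertible_of_rank_one hIm
  have hMc := ProperFinH9.isCoh_of_isInvertible hM
  have hQc := CurveIdeal.isCoh_quotMod D
  have h0 : ∀ x ∈ D.support, IsClosed ({x} : Set X) := fun x hx =>
    TensBasis.isClosed_singleton_of_mem_support_effCartier hdim.le D hD x hx
  -- surjectivity on `H⁰` of `T ⊗ O_D → M ⊗ O_D`
  have hTQc : Coh.IsCoh (CohB1.tensorMod T (ClSub.quotMod D)) :=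
    RelAmpleVanH9.isCoh_tensorMod hTc hQc
  have hMQc : Coh.IsCoh (CohB1.tensorMod (Abelian.image ψ) (ClSub.quotMod D)) :=
    RelAmpleVanH9.isCoh_tensorMod hMc hQc
  have hKsurj : Function.Surjective
      (hmap ((tR (ClSub.quotMod D)).map (Abelian.factorThruImage ψ)) 0) := by
    apply CurveAmple.hmap_surjective_of_kernel_cokernel _ 0
    · have hKc : Coh.IsCoh (kernel ((tR (ClSub.quotMod D)).map (Abelian.factorThruImage ψ))) :=
        CohKerH8.isCoh_kernel hTQc hMQc _
      refine ZeroDimAcyc.HH_subsingleton_of_zero_dim X _ hKc (fun x hx => ?_) 1 one_pos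
      have hx1 := CohDevH8.support_subset_of_mono (kernel.ι _) hx
      haveI := hTc.1
      haveI := hQc.1
      rw [show (tR (ClSub.quotMod D)).obj T = CohB1.tensorMod T (ClSub.quotMod D) from rfl,
        SuppTensH8.support_tensorMod T (ClSub.quotMod D) hTc.2 hQc.2] at hx1
      exact h0 x (CurveIdeal.support_quotMod_subset D (Iso.refl _) hx1.2)
    · haveI : Epi ((tR (ClSub.quotMod D)).map (Abelian.factorThruImage ψ)) :=
        NodalG0.epi_tR_map _ _
      exact CurveDegAdd.HH_subsingleton_of_isZero X (isZero_cokernel_of_epi _) 0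
  have hMsurj : Function.Surjective
      (hmap ((tL (Abelian.image ψ)).map (ClSub.toSubscheme D)) 0) := by
    intro y
    obtain ⟨y', rfl⟩ := hKsurj y
    obtain ⟨x, rfl⟩ := hsurj y'
    refine ⟨hmap ((tR (Coh.structureModule X)).map (Abelian.factorThruImage ψ)) 0 x, ?_⟩
    rw [← hmap_comp, ← hmap_comp, tL_tR_comm]
  -- count dimensions
  have hcount := finrank_HH0_tensor_quotMod k X hdim D hD hM
  haveI := ProperFinH9.finite_HH_of_proper k X _
    (RelAmpleVanH9.isCoh_tensorMod hMc (CohDevH8.isCoh_structureModule X)) 0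
  have hge : Module.finrank k (Coh.HH X (CohB1.tensorMod (Abelian.image ψ) (ClSub.quotMod D)) 0) ≤
      Module.finrank k (Coh.HH X (CohB1.tensorMod (Abelian.image ψ) (Coh.structureModule X)) 0) :=
    LinearMap.finrank_le_finrank_of_surjective
      (f := Canon.HHlin k ((tL (Abelian.image ψ)).map (ClSub.toSubscheme D)) 0) hMsurj
  have hiso := CurveAmple.finrank_HH_of_iso k X (rightUnit (Abelian.image ψ)) 0
  have hpos : 0 < Module.finrank k (Coh.HH X (Abelian.image ψ) 0) := by omega
  haveI := ProperFinH9.finite_HH_of_proper k X _ hMc 0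
  have hnt : Nontrivial (Coh.HH X (Abelian.image ψ) 0) :=
    Module.nontrivial_of_finrank_pos (R := k) hpos
  have hle := (CurveLin.h0_le_deg_add_one k X hdim (CurveSpec.finrank_HH0_structureModule k X hdim)
    hM hnt).1
  have h5 : (Module.finrank k (Coh.HH X (ClSub.quotMod D) 0) : ℤ) ≤
      (Module.finrank k (Coh.HH X (Abelian.image ψ) 0) : ℤ) := by
    have : Module.finrank k (Coh.HH X (ClSub.quotMod D) 0) ≤
        Module.finrank k (Coh.HH X (Abelian.image ψ) 0) := by omega
    exact_mod_cast this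
  linarith

end Vanish

end FreeSec
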