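import Mathlib
import Groth.Agent.Lib.FreeStrat3_helper8
import Groth.Agent.S4865

/-!
# A finitely presented module flat at the unique minimal prime is free after localisation
-/

namespace Groth.Agent.Lib.FreeStratH8

open TensorProduct

universe u

/-- flatness at a prime spreads out to a principal open neighbourhood. -/
theorem exists_flat_away {A B : Type u} [CommRing A] [CommRing B] [Algebra A B]
    [Algebra.FinitePresentation A B] (p : Ideal A) [p.IsPrime]
    (M : Type u) [AddCommGroup M] [Module B M] [Module A M] [IsScalarTower A B M]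
    [Module.FinitePresentation B M]
    (hflat : Module.Flat A (LocalizedModule p.primeCompl M)) :
    ∃ t : A, t ∉ p ∧ Module.Flat A (LocalizedModule (Submonoid.powers t) M) := by
  have hopen := Groth.Agent.S4865.result (A := A) (B := A) (C := B) M
  have hpU : (⟨p, inferInstance⟩ : PrimeSpectrum A) ∈ {q : PrimeSpectrum A |
      Module.Flat A (LocalizedModule q.asIdeal.primeCompl M)} := hflat
  obtain ⟨_, ⟨t, rfl⟩, hmem, hsub⟩ :=
    PrimeSpectrum.isTopologicalBasis_basic_opens.exists_subset_of_mem_open hpU hopen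
  refine ⟨t, hmem, ?_⟩
  rw [Groth.Agent.Lib.FlatLocFP1H6.flat_localizedModule_iff (A := A) (C := A)]
  intro I ξ hξ
  have ht : t ∈ Ideal.radical (LinearMap.ker (LinearMap.toSpanSingleton A (M ⊗[A] I) ξ)) := by
    rw [Ideal.radical_eq_sInf, Ideal.mem_sInf]
    rintro q ⟨hq𝔫, hqprime⟩
    by_contra htq
    have hqU : (⟨q, hqprime⟩ : PrimeSpectrum A) ∈ {q : PrimeSpectrum A |
        Module.Flat A (LocalizedModule q.asIdeal.primeCompl M)} := hsub htq
    obtain ⟨s, hs, hs0⟩ := (Groth.Agent.Lib.FlatLocFP1H6.flat_localizedModule_iff (A := A) (C := A)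
      q.primeCompl M).mp hqU I ξ hξ
    refine hs (hq𝔫 ?_)
    rw [LinearMap.mem_ker, LinearMap.toSpanSingleton_apply]
    exact hs0
  obtain ⟨k, hk⟩ := ht
  refine ⟨t ^ k, ⟨k, rfl⟩, ?_⟩
  rw [LinearMap.mem_ker, LinearMap.toSpanSingleton_apply] at hk
  exact hk

/-- variant of `exists_finiteType_int_model` recording injectivity of `R₀ → R`. -/
theorem exists_finiteType_int_model' (R : Type u) [CommRing R]
    (S : Type u) [CommRing S] [Algebra R S] [Algebra.FinitePresentation R S] (M : Type u)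
    [AddCommGroup M] [Module S M] [Module R M] [IsScalarTower R S M]
    [Module.FinitePresentation S M] [Module.Flat R M] :
    ∃ (R₀ : Type u) (_ : CommRing R₀) (_ : Algebra R₀ R) (S₀ : Type u) (_ : CommRing S₀)
      (_ : Algebra R₀ S₀) (_ : Algebra S₀ S) (_ : Algebra R₀ S) (_ : IsScalarTower R₀ R S)
      (_ : IsScalarTower R₀ S₀ S) (M₀ : Type u) (_ : AddCommGroup M₀) (_ : Module S₀ M₀)
      (_ : Module R₀ M₀) (_ : IsScalarTower R₀ S₀ M₀) (_ : Module S₀ M) (_ : IsScalarTower S₀ S M)
      (f : M₀ →ₗ[S₀] M),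
      Algebra.FiniteType ℤ R₀ ∧ Algebra.FiniteType R₀ S₀ ∧ Module.Finite S₀ M₀ ∧ Module.Flat R₀ M₀ ∧
        Algebra.IsPushout R₀ R S₀ S ∧ IsBaseChange S f ∧ Function.Injective (algebraMap R₀ R) := by
  obtain ⟨A₁, _, _, _, _, B₁, _, _, _, _, M₁, _, _, _, _, f₁, hft, -, hfp, hfin, hpush, hbc⟩ :=
    FlatDescH8.exists_model R S M
  letI : Module A₁ M₁ := Module.compHom M₁ (algebraMap A₁ B₁)
  haveI : IsScalarTower A₁ B₁ M₁ :=
    ⟨fun a x y => by
      show (a • x) • y = algebraMap A₁ B₁ a • (x • y)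
      rw [Algebra.smul_def, mul_smul]⟩
  obtain ⟨e₀, -⟩ : ∃ e₀ : R ⊗[A₁] M₁ ≃ₗ[R] M, True := ⟨FlatDescH8.modelEquiv hbc, trivial⟩
  haveI : IsNoetherianRing A₁ := Algebra.FiniteType.isNoetherianRing ℤ A₁
  haveI : Module.Flat R (R ⊗[A₁] M₁) := Module.Flat.of_linearEquiv e₀
  obtain ⟨A', _, _, _, _, hA'ft, hinj, hflat⟩ :=
    FlatDescH8.exists_fg_algebra_flat (A₁ := A₁) (B₁ := B₁) M₁ R
  obtain ⟨S₀, i1, i2, i3, i4, i5, i6, M₀, i7, i8, i9, i10, i11, i12, f, h1, h2, h3, h4, h5⟩ :=
    FlatDescH8.exists_model_over (A₁ := A₁) (R := R) (B₁ := B₁) (S := S) hbc A'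
  exact ⟨A', inferInstance, inferInstance, S₀, i1, i2, i3, i4, i5, i6, M₀, i7, i8, i9, i10, i11,
    i12, f, Algebra.FiniteType.trans hft hA'ft, h1, h2, h3, h4, h5, hinj⟩

theorem mem_of_minimalPrimes_eq_singleton {A : Type u} [CommRing A] (p : Ideal A)
    (hp : minimalPrimes A = {p}) {a : A} (ha : a ∈ p) : IsNilpotent a := by
  have h1 : nilradical A = p := by
    have := Ideal.sInf_minimalPrimes (I := (⊥ : Ideal A))
    rw [show (⊥ : Ideal A).minimalPrimes = {p} from hp, sInf_singleton] at this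
    rw [nilradical, Ideal.zero_eq_bot, ← this]
  rw [← mem_nilradical, h1]
  exact ha

section Main

attribute [local instance] Algebra.TensorProduct.rightAlgebra

theorem exists_free_away {A B : Type u} [CommRing A] [CommRing B] [Algebra A B]
    [Algebra.FinitePresentation A B] (p : Ideal A) [p.IsPrime] (hp : minimalPrimes A = {p})
    (M : Type u) [AddCommGroup M] [Module B M] [Module A M] [IsScalarTower A B M]
    [Module.FinitePresentation B M]
    (hflat : Module.Flat A (LocalizedModule p.primeCompl M)) :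
    ∃ t : A, t ∉ p ∧ Module.Free (Localization.Away t) (Localization.Away t ⊗[A] M) := by
  obtain ⟨t₁, ht₁, hfl₁⟩ := exists_flat_away (B := B) p M hflat
  obtain ⟨e', -⟩ : ∃ e' : ((Localization.Away t₁ ⊗[A] B) ⊗[B] M) ≃ₗ[Localization.Away t₁]
      Localization.Away t₁ ⊗[A] M, True :=
    ⟨Algebra.IsPushout.cancelBaseChange A (Localization.Away t₁) B (Localization.Away t₁ ⊗[A] B) M,
      trivial⟩
  obtain ⟨e'', -⟩ : ∃ e'' : Localization.Away t₁ ⊗[A] M ≃ₗ[Localization.Away t₁]
      LocalizedModule (Submonoid.powers t₁) M, True :=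
    ⟨(IsLocalizedModule.isBaseChange (Submonoid.powers t₁) (Localization.Away t₁)
      (LocalizedModule.mkLinearMap (Submonoid.powers t₁) M)).equiv, trivial⟩
  haveI : Module.Flat (Localization.Away t₁) (LocalizedModule (Submonoid.powers t₁) M) :=
    (Module.flat_iff_of_isLocalization (Localization.Away t₁) (Submonoid.powers t₁) _).mpr hfl₁
  haveI : Module.Flat (Localization.Away t₁) ((Localization.Away t₁ ⊗[A] B) ⊗[B] M) :=
    Module.Flat.of_linearEquiv (e' ≪≫ₗ e'')
  obtain ⟨R₀, _, _, S₀, _, _, _, _, _, _, M₀, _, _, _, _, _, _, f, hft, hft', hfin, hflat₀,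
    hpush, hbc, hinj⟩ := exists_finiteType_int_model' (Localization.Away t₁)
      (Localization.Away t₁ ⊗[A] B) ((Localization.Away t₁ ⊗[A] B) ⊗[B] M)
  haveI : IsNoetherianRing R₀ := Algebra.FiniteType.isNoetherianRing ℤ R₀
  obtain ⟨eM, -⟩ : ∃ eM : Localization.Away t₁ ⊗[R₀] M₀ ≃ₗ[Localization.Away t₁]
      ((Localization.Away t₁ ⊗[A] B) ⊗[B] M), True := ⟨FlatDescH8.modelEquiv hbc, trivial⟩
  -- the prime `p₁` of `A₁`
  have hdisj : Disjoint ((Submonoid.powers t₁ : Submonoid A) : Set A) (p : Set A) := by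
    rw [Set.disjoint_left]
    rintro _ ⟨k, rfl⟩ hk
    exact ht₁ (Ideal.IsPrime.mem_of_pow_mem ‹_› k hk)
  haveI hp₁ : (p.map (algebraMap A (Localization.Away t₁))).IsPrime :=
    IsLocalization.isPrime_of_isPrime_disjoint (Submonoid.powers t₁) _ p ‹_› hdisj
  have hp₁nil : ∀ x ∈ p.map (algebraMap A (Localization.Away t₁)), IsNilpotent x := by
    intro x hx
    have hle : p.map (algebraMap A (Localization.Away t₁)) ≤ nilradical (Localization.Away t₁) := by
      rw [Ideal.map_le_iff_le_comap]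
      intro a ha
      rw [Ideal.mem_comap, mem_nilradical]
      exact (mem_of_minimalPrimes_eq_singleton p hp ha).map _
    exact mem_nilradical.mp (hle hx)
  -- the minimal prime `p₀` of `R₀`
  have hp₀min : (p.map (algebraMap A (Localization.Away t₁))).comap
      (algebraMap R₀ (Localization.Away t₁)) ∈ minimalPrimes R₀ := by
    refine ⟨⟨inferInstance, bot_le⟩, ?_⟩
    rintro q ⟨hq, -⟩ -
    intro x hx
    obtain ⟨k, hk⟩ := hp₁nil _ (Ideal.mem_comap.mp hx)
    rw [← map_pow] at hk
    have hk0 : x ^ k = 0 := hinj (by rw [hk, map_zero])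
    exact Ideal.IsPrime.mem_of_pow_mem hq k (by rw [hk0]; exact zero_mem _)
  obtain ⟨f₀, hf₀, hfree₀⟩ := exists_free_away_of_minimalPrime (R := R₀) (S := S₀) M₀ _ hp₀min
  obtain ⟨k, a, hka⟩ := IsLocalization.Away.surj t₁ (algebraMap R₀ (Localization.Away t₁) f₀)
  have hut₁ : IsUnit (algebraMap A (Localization.Away t₁) t₁) :=
    IsLocalization.Away.algebraMap_isUnit t₁
  have ha : a ∉ p := by
    intro hmem
    have h1 : algebraMap R₀ (Localization.Away t₁) f₀ * algebraMap A (Localization.Away t₁) t₁ ^ k ∈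
        p.map (algebraMap A (Localization.Away t₁)) := by
      rw [hka]
      exact Ideal.mem_map_of_mem _ hmem
    rcases Ideal.IsPrime.mem_or_mem hp₁ h1 with h2 | h2
    · exact hf₀ (Ideal.mem_comap.mpr h2)
    · exact hp₁.ne_top (Ideal.eq_top_of_isUnit_mem _ h2 (hut₁.pow k))
  refine ⟨t₁ * a, fun hmem => (Ideal.IsPrime.mem_or_mem ‹_› hmem).elim ht₁ ha, ?_⟩
  -- the algebra structures on `E = A_t`
  have hu : IsUnit (algebraMap A (Localization.Away (t₁ * a)) (t₁ * a)) :=
    IsLocalization.Away.algebraMap_isUnit (t₁ * a)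
  have hu1 : IsUnit (algebraMap A (Localization.Away (t₁ * a)) t₁) := by
    rw [map_mul] at hu
    exact isUnit_of_mul_isUnit_left hu
  have hua : IsUnit (algebraMap A (Localization.Away (t₁ * a)) a) := by
    rw [map_mul] at hu
    exact isUnit_of_mul_isUnit_right hu
  letI algA₁E : Algebra (Localization.Away t₁) (Localization.Away (t₁ * a)) :=
    (IsLocalization.Away.lift t₁ hu1).toAlgebra
  haveI : IsScalarTower A (Localization.Away t₁) (Localization.Away (t₁ * a)) :=
    IsScalarTower.of_algebraMap_eq (fun x => (IsLocalization.Away.lift_eq t₁ hu1 x).symm)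
  letI algR₀E : Algebra R₀ (Localization.Away (t₁ * a)) :=
    ((algebraMap (Localization.Away t₁) (Localization.Away (t₁ * a))).comp
      (algebraMap R₀ (Localization.Away t₁))).toAlgebra
  haveI : IsScalarTower R₀ (Localization.Away t₁) (Localization.Away (t₁ * a)) :=
    IsScalarTower.of_algebraMap_eq (fun _ => rfl)
  have huf : IsUnit (algebraMap R₀ (Localization.Away (t₁ * a)) f₀) := by
    have h1 := congrArg (algebraMap (Localization.Away t₁) (Localization.Away (t₁ * a))) hka
    rw [map_mul, map_pow, ← IsScalarTower.algebraMap_apply A (Localization.Away t₁),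
      ← IsScalarTower.algebraMap_apply A (Localization.Away t₁)] at h1
    have h2 : IsUnit (algebraMap (Localization.Away t₁) (Localization.Away (t₁ * a))
        (algebraMap R₀ (Localization.Away t₁) f₀) *
        algebraMap A (Localization.Away (t₁ * a)) t₁ ^ k) := by
      rw [h1]; exact hua
    exact isUnit_of_mul_isUnit_left h2
  letI algDE : Algebra (Localization.Away f₀) (Localization.Away (t₁ * a)) :=
    (IsLocalization.Away.lift f₀ huf).toAlgebra
  haveI : IsScalarTower R₀ (Localization.Away f₀) (Localization.Away (t₁ * a)) :=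
    IsScalarTower.of_algebraMap_eq (fun x => (IsLocalization.Away.lift_eq f₀ huf x).symm)
  haveI : Module.Free (Localization.Away (t₁ * a))
      (Localization.Away (t₁ * a) ⊗[Localization.Away t₁]
        ((Localization.Away t₁ ⊗[A] B) ⊗[B] M)) :=
    free_transfer' (R₀ := R₀) (A := Localization.Away t₁) (E₀ := Localization.Away f₀)
      (E := Localization.Away (t₁ * a)) M₀ ((Localization.Away t₁ ⊗[A] B) ⊗[B] M) eM
  have e1 : Localization.Away (t₁ * a) ⊗[Localization.Away t₁]
      ((Localization.Away t₁ ⊗[A] B) ⊗[B] M) ≃ₗ[Localization.Away (t₁ * a)]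
      Localization.Away (t₁ * a) ⊗[Localization.Away t₁] (Localization.Away t₁ ⊗[A] M) :=
    LinearEquiv.baseChange (Localization.Away t₁) (Localization.Away (t₁ * a)) _ _ e'
  have e2 : Localization.Away (t₁ * a) ⊗[Localization.Away t₁] (Localization.Away t₁ ⊗[A] M)
      ≃ₗ[Localization.Away (t₁ * a)] Localization.Away (t₁ * a) ⊗[A] M :=
    AlgebraTensorModule.cancelBaseChange A (Localization.Away t₁) (Localization.Away (t₁ * a))
      (Localization.Away (t₁ * a)) M
  exact Module.Free.of_equiv (e1 ≪≫ₗ e2)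

end Main

end Groth.Agent.Lib.FreeStratH8
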