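import Mathlib

set_option autoImplicit false
set_option linter.unusedVariables false
set_option linter.unusedTactic false
set_option linter.unreachableTactic false
set_option linter.unusedSectionVars false
set_option linter.style.haveILetI false
set_option linter.deprecated false
set_option maxHeartbeats 1000000

universe u

/-!
# "Frobenius-linear" algebras `R[x_i] / (x_i^p - Σ_l c_il x_l)`

For a ring `R` with `p = 0`, a finite index type `ι` and an invertible matrix `c` over `R`, the
algebra `R[x_i : i ∈ ι] / (Σ_l c_il x_l - x_i^p)` is finite étale over `R`, and it maps to any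
`R`-algebra `S` containing a family `γ` with `γ_i^p = Σ_l c_il γ_l`.
-/

namespace Groth.Agent.Lib.FrobAlgH4

open MvPolynomial

section

variable (p : ℕ) {R : Type u} [CommRing R] {ι : Type} [Fintype ι] [DecidableEq ι]
  (c : Matrix ι ι R)

/-- The linear form `Σ_l c_il x_l`. -/
noncomputable def lin (i : ι) : MvPolynomial ι R := ∑ l, C (c i l) * X l

/-- The relation `Σ_l c_il x_l - x_i^p`. -/
noncomputable def rel (i : ι) : MvPolynomial ι R := lin c i - X i ^ p

/-- The ideal of relations. -/
noncomputable abbrev II : Ideal (MvPolynomial ι R) := Ideal.span (Set.range (rel p c))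

theorem pderiv_rel (hp : (p : R) = 0) (i j : ι) : pderiv i (rel p c j) = C (c j i) := by
  have hp' : (p : MvPolynomial ι R) = 0 := by
    rw [← map_natCast (C : R →+* MvPolynomial ι R) p, hp, map_zero]
  have h1 : pderiv i (X j ^ p : MvPolynomial ι R) = 0 := by
    rw [Derivation.leibniz_pow, nsmul_eq_mul, hp', zero_mul]
  have h2 : pderiv i (lin c j) = C (c j i) := by
    unfold lin
    rw [map_sum, Finset.sum_eq_single i]
    · rw [pderiv_C_mul, pderiv_X_self, mul_one]
    · intro l _ hl
      rw [pderiv_C_mul, pderiv_X_of_ne hl, mul_zero]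
    · intro h
      exact absurd (Finset.mem_univ i) h
  unfold rel
  rw [map_sub, h1, h2, sub_zero]

theorem etale_QQ (hp : (p : R) = 0) (hc : IsUnit c.det) :
    Algebra.Etale R (MvPolynomial ι R ⧸ II p c) := by
  let P : Algebra.PreSubmersivePresentation R (MvPolynomial ι R ⧸ II p c) ι ι :=
    Algebra.PreSubmersivePresentation.naive (v := rel p c) id Function.injective_id
  have hJ : P.jacobiMatrix = (c.map (C : R → MvPolynomial ι R)).transpose := by
    refine Matrix.ext (fun i j => ?_)
    rw [Algebra.PreSubmersivePresentation.jacobiMatrix_naive, Matrix.transpose_apply,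
      Matrix.map_apply]
    exact pderiv_rel p c hp i j
  have hdet : (c.map (C : R → MvPolynomial ι R)).det = C c.det :=
    (RingHom.map_det (C : R →+* MvPolynomial ι R) c).symm
  have hu : IsUnit P.jacobian := by
    rw [Algebra.PreSubmersivePresentation.jacobian_eq_jacobiMatrix_det, hJ, Matrix.det_transpose,
      hdet]
    exact (hc.map (C : R →+* MvPolynomial ι R)).map (algebraMap _ _)
  let P' : Algebra.SubmersivePresentation R (MvPolynomial ι R ⧸ II p c) ι ι :=
    { toPreSubmersivePresentation := P, jacobian_isUnit := hu }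
  haveI : Algebra.IsStandardSmoothOfRelativeDimension 0 R (MvPolynomial ι R ⧸ II p c) :=
    P'.isStandardSmoothOfRelativeDimension (Nat.sub_self _)
  infer_instance

theorem finite_QQ (hp2 : 2 ≤ p) : Module.Finite R (MvPolynomial ι R ⧸ II p c) := by
  classical
  let π : MvPolynomial ι R →ₐ[R] (MvPolynomial ι R ⧸ II p c) := Ideal.Quotient.mkₐ R (II p c)
  have hπ : Function.Surjective π := Ideal.Quotient.mkₐ_surjective R (II p c)
  let box : Set (ι →₀ ℕ) := {m | ∀ i, m i < p}
  have hbox : box.Finite := by
    refine (Finsupp.finite_of_degree_le (σ := ι) (Fintype.card ι * p)).subset ?_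
    intro m hm
    show Finsupp.degree m ≤ Fintype.card ι * p
    rw [Finsupp.degree_eq_sum]
    calc ∑ i, m i ≤ ∑ _i : ι, p := Finset.sum_le_sum (fun i _ => le_of_lt (hm i))
      _ = Fintype.card ι * p := by rw [Finset.sum_const, Finset.card_univ, smul_eq_mul]
  let W : Submodule R (MvPolynomial ι R ⧸ II p c) :=
    Submodule.span R ((fun m => π (monomial m 1)) '' box)
  have hWfg : W.FG := Submodule.fg_span (hbox.image _)
  have hrel : ∀ i, π (X i ^ p) = π (lin c i) := by
    intro i
    symm
    show Ideal.Quotient.mk (II p c) (lin c i) = Ideal.Quotient.mk (II p c) (X i ^ p)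
    refine Ideal.Quotient.eq.mpr ?_
    exact Ideal.subset_span ⟨i, rfl⟩
  have key : ∀ n : ℕ, ∀ m : ι →₀ ℕ, Finsupp.degree m = n → π (monomial m 1) ∈ W := by
    intro n
    induction n using Nat.strong_induction_on with
    | _ n ih =>
      intro m hm
      by_cases hb : ∀ i, m i < p
      · exact Submodule.subset_span ⟨m, hb, rfl⟩
      · obtain ⟨i, hi⟩ := not_forall.mp hb
        have hi' : p ≤ m i := not_lt.mp hi
        obtain ⟨m', hmm⟩ : ∃ m' : ι →₀ ℕ, Finsupp.single i p + m' = m := by
          refine ⟨m - Finsupp.single i p, ?_⟩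
          ext j
          rw [Finsupp.add_apply, Finsupp.tsub_apply, Finsupp.single_apply]
          split_ifs with h
          · subst h
            omega
          · omega
        have hdeg : Finsupp.degree m = p + Finsupp.degree m' := by
          have h := congrArg Finsupp.degree hmm
          rw [map_add, Finsupp.degree_single] at h
          exact h.symm
        have hmono : (monomial m (1 : R) : MvPolynomial ι R) = X i ^ p * monomial m' 1 := by
          rw [X_pow_eq_monomial, monomial_mul, one_mul, hmm]
        have hexp : lin c i * monomial m' (1 : R)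
            = ∑ l, c i l • monomial (Finsupp.single l 1 + m') (1 : R) := by
          unfold lin
          rw [Finset.sum_mul]
          refine Finset.sum_congr rfl (fun l _ => ?_)
          rw [mul_assoc, C_mul']
          congr 1
          show monomial (Finsupp.single l 1) (1 : R) * monomial m' 1 = _
          rw [monomial_mul, one_mul]
        have h3 : π (monomial m 1)
            = ∑ l, c i l • π (monomial (Finsupp.single l 1 + m') 1) := by
          rw [hmono, map_mul, hrel i, ← map_mul, hexp, map_sum]
          refine Finset.sum_congr rfl (fun l _ => ?_)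
          rw [map_smul]
        rw [h3]
        refine Submodule.sum_mem _ (fun l _ => Submodule.smul_mem _ _ ?_)
        refine ih (Finsupp.degree (Finsupp.single l 1 + m')) ?_ _ rfl
        rw [map_add, Finsupp.degree_single, ← hm, hdeg]
        omega
  have hall : ∀ f : MvPolynomial ι R, π f ∈ W := by
    intro f
    refine MvPolynomial.induction_on' f ?_ ?_
    · intro u a
      have h : (monomial u a : MvPolynomial ι R) = a • monomial u 1 := by
        rw [smul_monomial, smul_eq_mul, mul_one]
      rw [h, map_smul]
      exact Submodule.smul_mem _ _ (key _ u rfl)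
    · intro f g hf hg
      rw [map_add]
      exact Submodule.add_mem _ hf hg
  have hW : W = ⊤ := by
    rw [eq_top_iff]
    intro x _
    obtain ⟨f, rfl⟩ := hπ x
    exact hall f
  exact ⟨by rw [← hW]; exact hWfg⟩

theorem exists_lift {S : Type u} [CommRing S] [Algebra R S] (γ : ι → S)
    (hγ : ∀ i, γ i ^ p = ∑ l, algebraMap R S (c i l) * γ l) :
    ∃ f : (MvPolynomial ι R ⧸ II p c) →ₐ[R] S,
      ∀ i, f (Ideal.Quotient.mk (II p c) (X i)) = γ i := by
  have hle : II p c ≤ RingHom.ker (aeval γ : MvPolynomial ι R →ₐ[R] S) := by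
    refine Ideal.span_le.mpr ?_
    rintro _ ⟨i, rfl⟩
    refine (RingHom.mem_ker).mpr ?_
    show aeval γ (rel p c i) = 0
    unfold rel lin
    rw [map_sub, map_pow, aeval_X, map_sum, hγ i, sub_eq_zero]
    refine Finset.sum_congr rfl (fun l _ => ?_)
    rw [map_mul, aeval_C, aeval_X]
  have hker : ∀ a ∈ II p c, (aeval γ : MvPolynomial ι R →ₐ[R] S) a = 0 :=
    fun a ha => (RingHom.mem_ker).mp (hle ha)
  refine ⟨Ideal.Quotient.liftₐ (II p c) (aeval γ) hker, fun i => ?_⟩
  show aeval γ (X i) = γ i
  exact aeval_X γ i

end

/-- Packaged existence statement. -/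
theorem exists_frobAlg (p : ℕ) (hp2 : 2 ≤ p) (R : Type u) [CommRing R] (hp : (p : R) = 0)
    (ι : Type) [Fintype ι] [DecidableEq ι] (c : Matrix ι ι R) (hc : IsUnit c.det) :
    ∃ (C : Type u) (_ : CommRing C) (_ : Algebra R C), Module.Finite R C ∧ Algebra.Etale R C ∧
      ∀ (S : Type u) [CommRing S] [Algebra R S] (γ : ι → S),
        (∀ i, γ i ^ p = ∑ l, algebraMap R S (c i l) * γ l) →
          ∃ f : C →ₐ[R] S, ∃ x : ι → C, ∀ i, f (x i) = γ i :=
  ⟨MvPolynomial ι R ⧸ II p c, inferInstance, inferInstance, finite_QQ p c hp2,
    etale_QQ p c hp hc, fun S _ _ γ hγ => by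
      obtain ⟨f, hf⟩ := exists_lift p c γ hγ
      exact ⟨f, fun i => Ideal.Quotient.mk (II p c) (X i), hf⟩⟩

end Groth.Agent.Lib.FrobAlgH4
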