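import Mathlib
import Groth.Prelude.Def_W4c1liftfrobW2
import Groth.Agent.Lib.SplitW2_helper1
import Groth.Agent.Lib.FrobLiftW2_helper1

set_option autoImplicit false
set_option maxHeartbeats 1000000

namespace Groth.Agent.Lib.FrobResidueH1

open FrobAlg MvPolynomial Groth.Agent.Lib.SplitW2H1 Groth.Agent.Lib.FrobLiftW2H1

universe u

section flat

variable (p : ℕ) [Fact p.Prime] (k : Type*) [Field k] [CharP k p] [PerfectRing k p]

/-- In a flat `W₂(k)`-module, the `p`-torsion is `pM`. -/
theorem flat_torsion {M : Type*} [AddCommGroup M] [Module (W2 p k) M] [Module.Flat (W2 p k) M]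
    (m : M) (hm : ((p : ℕ) : W2 p k) • m = 0) : ∃ m' : M, m = ((p : ℕ) : W2 p k) • m' := by
  obtain ⟨n, a, y, hx, ha⟩ := Module.Flat.isTrivialRelation_of_sum_smul_eq_zero
    (R := W2 p k) (M := M) (ι := Unit) (f := fun _ => ((p : ℕ) : W2 p k)) (x := fun _ => m) (by
      simp only [Finset.univ_unique, Finset.sum_singleton]; exact hm)
  have hx' : m = ∑ j, a () j • y j := hx ()
  have ha' : ∀ j, ∃ d : W2 p k, a () j = d * ((p : ℕ) : W2 p k) := by
    intro j
    have h0 : ((p : ℕ) : W2 p k) * a () j = 0 := by simpa using ha j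
    have h1 : ((a () j) * ((p : ℕ) : W2 p k)).coeff 1 = 0 := by
      rw [mul_comm, h0, TruncatedWittVector.coeff_zero]
    rw [coeff1_mul_p] at h1
    have h2 := (pow_eq_zero_iff (Fact.out : p.Prime).ne_zero).1 h1
    obtain ⟨d, hd, _⟩ := exists_eq_mul_p p k _ h2
    exact ⟨d, hd⟩
  choose d hd using ha'
  refine ⟨∑ j, d j • y j, ?_⟩
  rw [hx', Finset.smul_sum]
  apply Finset.sum_congr rfl
  intro j _
  rw [hd j, smul_smul, mul_comm]

end flat

section poly

variable (p : ℕ) [Fact p.Prime] (k : Type u) [Field k] [CharP k p] {n : ℕ}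

theorem res_surjective : Function.Surjective (FrobAlg.res p k) := by
  intro a
  exact ⟨tau p a, by rw [FrobAlg.res_apply, tau_coeff0]⟩

theorem pR_sq : ((p : ℕ) : MvPolynomial (Fin n) (W2 p k)) * ((p : ℕ) : MvPolynomial (Fin n) (W2 p k)) = 0 := by
  rw [← map_natCast (C : W2 p k →+* MvPolynomial (Fin n) (W2 p k)), ← map_mul, p_mul_p, map_zero]

theorem polyFrob_C (w : W2 p k) :
    polyFrob p k (Fin n) (C w) = C (sigma p k w) := by
  simp [polyFrob]

theorem polyFrob_X (i : Fin n) :
    polyFrob p k (Fin n) (X i) = X i ^ p := by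
  simp [polyFrob]

/-- The twisted Frobenius lift `x_j ↦ x_j^p - p h_j`. -/
noncomputable def Phit (h : Fin n → MvPolynomial (Fin n) (W2 p k)) :
    MvPolynomial (Fin n) (W2 p k) →+* MvPolynomial (Fin n) (W2 p k) :=
  MvPolynomial.eval₂Hom (MvPolynomial.C.comp (sigma p k))
    fun j => X j ^ p - ((p : ℕ) : MvPolynomial (Fin n) (W2 p k)) * h j

theorem Phit_C (h : Fin n → MvPolynomial (Fin n) (W2 p k)) (w : W2 p k) :
    Phit p k h (C w) = C (sigma p k w) := by
  simp [Phit]

theorem Phit_X (h : Fin n → MvPolynomial (Fin n) (W2 p k)) (i : Fin n) :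
    Phit p k h (X i) = X i ^ p - ((p : ℕ) : MvPolynomial (Fin n) (W2 p k)) * h i := by
  simp [Phit]

theorem res_sigma (w : W2 p k) : FrobAlg.res p k (sigma p k w) = FrobAlg.res p k w ^ p := by
  rw [FrobAlg.res_apply, FrobAlg.res_apply, WittGrp.coeff_frob]

theorem rho_polyFrob (g : MvPolynomial (Fin n) (W2 p k)) :
    MvPolynomial.map (FrobAlg.res p k) (polyFrob p k (Fin n) g)
      = (MvPolynomial.map (FrobAlg.res p k) g) ^ p := by
  have : (MvPolynomial.map (FrobAlg.res p k)).comp (polyFrob p k (Fin n))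
      = (frobenius (MvPolynomial (Fin n) k) p).comp (MvPolynomial.map (FrobAlg.res p k)) := by
    apply MvPolynomial.ringHom_ext
    · intro w
      simp only [RingHom.comp_apply, polyFrob_C, MvPolynomial.map_C, frobenius_def, res_sigma,
        map_pow]
    · intro i
      simp only [RingHom.comp_apply, polyFrob_X, MvPolynomial.map_X, frobenius_def, map_pow]
  have h := RingHom.congr_fun this g
  simpa only [RingHom.comp_apply, frobenius_def] using h

theorem rho_Phit (h : Fin n → MvPolynomial (Fin n) (W2 p k)) (g : MvPolynomial (Fin n) (W2 p k)) :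
    MvPolynomial.map (FrobAlg.res p k) (Phit p k h g)
      = (MvPolynomial.map (FrobAlg.res p k) g) ^ p := by
  have : (MvPolynomial.map (FrobAlg.res p k)).comp (Phit p k h)
      = (frobenius (MvPolynomial (Fin n) k) p).comp (MvPolynomial.map (FrobAlg.res p k)) := by
    apply MvPolynomial.ringHom_ext
    · intro w
      simp only [RingHom.comp_apply, Phit_C, MvPolynomial.map_C, frobenius_def, res_sigma,
        map_pow]
    · intro i
      simp only [RingHom.comp_apply, Phit_X, MvPolynomial.map_X, frobenius_def, map_pow, map_sub,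
        map_mul, map_natCast, CharP.cast_eq_zero, zero_mul, sub_zero]
  have h := RingHom.congr_fun this g
  simpa only [RingHom.comp_apply, frobenius_def] using h

theorem pmul_add_pow (a b : MvPolynomial (Fin n) (W2 p k)) :
    ((p : ℕ) : MvPolynomial (Fin n) (W2 p k)) * (a + b) ^ p
      = ((p : ℕ) : MvPolynomial (Fin n) (W2 p k)) * a ^ p
        + ((p : ℕ) : MvPolynomial (Fin n) (W2 p k)) * b ^ p := by
  obtain ⟨r, hr⟩ := exists_add_pow_prime_eq (Fact.out : p.Prime) a b
  rw [hr]
  linear_combination (a * b * r) * pR_sq (n := n) p k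

variable [PerfectRing k p]

theorem ker_rho : RingHom.ker (MvPolynomial.map (FrobAlg.res p k) :
      MvPolynomial (Fin n) (W2 p k) →+* MvPolynomial (Fin n) k)
    = Ideal.span {((p : ℕ) : MvPolynomial (Fin n) (W2 p k))} := by
  rw [MvPolynomial.ker_map, ker_res, Ideal.map_span, Set.image_singleton, map_natCast]

theorem polyFrob_sub_pow_mem (g : MvPolynomial (Fin n) (W2 p k)) :
    polyFrob p k (Fin n) g - g ^ p ∈ Ideal.span {((p : ℕ) : MvPolynomial (Fin n) (W2 p k))} := by
  rw [← ker_rho, RingHom.mem_ker, map_sub, rho_polyFrob, map_pow, sub_self]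

theorem pmul_polyFrob (g e : MvPolynomial (Fin n) (W2 p k)) :
    ((p : ℕ) : MvPolynomial (Fin n) (W2 p k)) * (polyFrob p k (Fin n) g * e)
      = ((p : ℕ) : MvPolynomial (Fin n) (W2 p k)) * (g ^ p * e) := by
  obtain ⟨c, hc⟩ := Ideal.mem_span_singleton'.1 (polyFrob_sub_pow_mem p k g)
  have := pR_sq (n := n) p k
  linear_combination (-(p : MvPolynomial (Fin n) (W2 p k)) * e) * hc + (c * e) * this

theorem Phit_eq (h : Fin n → MvPolynomial (Fin n) (W2 p k)) (g : MvPolynomial (Fin n) (W2 p k)) :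
    Phit p k h g = polyFrob p k (Fin n) g
      - ((p : ℕ) : MvPolynomial (Fin n) (W2 p k)) * ∑ j, pderiv j g ^ p * h j := by
  have hp : p.Prime := Fact.out
  induction g using MvPolynomial.induction_on with
  | C w =>
    rw [Phit_C, polyFrob_C]
    simp [zero_pow hp.ne_zero]
  | add g₁ g₂ h₁ h₂ =>
    rw [map_add, map_add, h₁, h₂]
    have key : ∀ j, ((p : ℕ) : MvPolynomial (Fin n) (W2 p k)) * (pderiv j (g₁ + g₂) ^ p * h j)
        = ((p : ℕ) : MvPolynomial (Fin n) (W2 p k)) * (pderiv j g₁ ^ p * h j)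
          + ((p : ℕ) : MvPolynomial (Fin n) (W2 p k)) * (pderiv j g₂ ^ p * h j) := by
      intro j
      rw [map_add]
      have := pmul_add_pow p k (pderiv j g₁) (pderiv j g₂)
      linear_combination (h j) * this
    rw [Finset.mul_sum, Finset.mul_sum, Finset.mul_sum, Finset.sum_congr rfl (fun j _ => key j),
      Finset.sum_add_distrib]
    ring
  | mul_X g i hg =>
    rw [map_mul, map_mul, hg, Phit_X, polyFrob_X]
    have hd : ∀ j, pderiv j (g * X i) = pderiv j g * X i + (if i = j then g else 0) := by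
      intro j
      rw [Derivation.leibniz, pderiv_X, Pi.single_apply, smul_eq_mul, smul_eq_mul]
      split_ifs <;> ring
    have key : ∀ j, ((p : ℕ) : MvPolynomial (Fin n) (W2 p k)) * (pderiv j (g * X i) ^ p * h j)
        = ((p : ℕ) : MvPolynomial (Fin n) (W2 p k)) * (X i ^ p * (pderiv j g ^ p * h j))
          + (if i = j then ((p : ℕ) : MvPolynomial (Fin n) (W2 p k)) * (g ^ p * h j) else 0) := by
      intro j
      rw [hd]
      have := pmul_add_pow p k (pderiv j g * X i) (if i = j then g else 0)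
      split_ifs with hij
      · rw [if_pos hij] at this
        linear_combination (h j) * this
      · rw [if_neg hij, zero_pow hp.ne_zero] at this
        linear_combination (h j) * this
    have e1 : ((p : ℕ) : MvPolynomial (Fin n) (W2 p k)) * ∑ j, pderiv j (g * X i) ^ p * h j
        = ((p : ℕ) : MvPolynomial (Fin n) (W2 p k)) * (X i ^ p * ∑ j, pderiv j g ^ p * h j)
          + ((p : ℕ) : MvPolynomial (Fin n) (W2 p k)) * (g ^ p * h i) := by
      rw [Finset.mul_sum, Finset.sum_congr rfl (fun j _ => key j), Finset.sum_add_distrib,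
        Finset.sum_ite_eq, if_pos (Finset.mem_univ i), Finset.mul_sum, Finset.mul_sum]
    rw [e1]
    have h1 := pR_sq (n := n) p k
    have h2 := pmul_polyFrob p k g (h i)
    linear_combination ((∑ j, pderiv j g ^ p * h j) * h i) * h1 - h2

end poly

section main

variable (p : ℕ) [Fact p.Prime] (k : Type u) [Field k] [CharP k p] [PerfectRing k p] {n m : ℕ}
  (f' : Fin m → MvPolynomial (Fin n) (FrobAlg.W2 p k))

theorem inf_le_mul
    (hflat : ((Ideal.Quotient.mk (Ideal.span (Set.range f'))).comp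
      (MvPolynomial.C : FrobAlg.W2 p k →+* MvPolynomial (Fin n) (FrobAlg.W2 p k))).Flat) :
    Ideal.span {((p : ℕ) : MvPolynomial (Fin n) (W2 p k))} ⊓ Ideal.span (Set.range f')
      ≤ Ideal.span {((p : ℕ) : MvPolynomial (Fin n) (W2 p k))} * Ideal.span (Set.range f') := by
  rintro g ⟨hg1, hg2⟩
  obtain ⟨e, he⟩ := Ideal.mem_span_singleton'.1 hg1
  have hF : Module.Flat (W2 p k) (MvPolynomial (Fin n) (W2 p k) ⧸ Ideal.span (Set.range f')) := by
    have h1 : (algebraMap (W2 p k)
        (MvPolynomial (Fin n) (W2 p k) ⧸ Ideal.span (Set.range f'))).Flat := hflat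
    exact RingHom.flat_algebraMap_iff.1 h1
  have hsm : ∀ x : MvPolynomial (Fin n) (W2 p k),
      ((p : ℕ) : W2 p k) • (Ideal.Quotient.mk (Ideal.span (Set.range f')) x)
        = Ideal.Quotient.mk (Ideal.span (Set.range f'))
          (((p : ℕ) : MvPolynomial (Fin n) (W2 p k)) * x) := by
    intro x
    rw [← map_natCast (C : W2 p k →+* MvPolynomial (Fin n) (W2 p k)),
      ← MvPolynomial.smul_eq_C_mul]
    rfl
  have h0 : ((p : ℕ) : W2 p k) • (Ideal.Quotient.mk (Ideal.span (Set.range f')) e) = 0 := by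
    rw [hsm, mul_comm, he]
    exact Ideal.Quotient.eq_zero_iff_mem.2 hg2
  obtain ⟨b', hb'⟩ := flat_torsion p k _ h0
  obtain ⟨e', rfl⟩ := Ideal.Quotient.mk_surjective b'
  have h1 : Ideal.Quotient.mk (Ideal.span (Set.range f')) e
      = Ideal.Quotient.mk (Ideal.span (Set.range f'))
        (((p : ℕ) : MvPolynomial (Fin n) (W2 p k)) * e') := by
    rw [hb', hsm]
  have h2 : e - ((p : ℕ) : MvPolynomial (Fin n) (W2 p k)) * e' ∈ Ideal.span (Set.range f') :=
    Ideal.Quotient.eq.1 h1
  have h3 : g = ((p : ℕ) : MvPolynomial (Fin n) (W2 p k))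
      * (e - ((p : ℕ) : MvPolynomial (Fin n) (W2 p k)) * e') := by
    rw [← he]
    linear_combination e' * pR_sq (n := n) p k
  rw [h3]
  exact Ideal.mul_mem_mul (Ideal.mem_span_singleton_self _) h2

theorem ker_qm (b : MvPolynomial (Fin n) (W2 p k) ⧸ Ideal.span (Set.range f'))
    (hb : Ideal.quotientMap ((Ideal.span (Set.range f')).map (MvPolynomial.map (FrobAlg.res p k)))
          (MvPolynomial.map (FrobAlg.res p k)) Ideal.le_comap_map b = 0) :
    ∃ e : MvPolynomial (Fin n) (W2 p k), b = Ideal.Quotient.mk (Ideal.span (Set.range f'))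
          (((p : ℕ) : MvPolynomial (Fin n) (W2 p k)) * e) := by
  obtain ⟨g, rfl⟩ := Ideal.Quotient.mk_surjective b
  rw [Ideal.quotientMap_mk, Ideal.Quotient.eq_zero_iff_mem,
    Ideal.mem_map_iff_of_surjective _
      (MvPolynomial.map_surjective _ (res_surjective p k))] at hb
  obtain ⟨j, hj, hjg⟩ := hb
  have h1 : g - j ∈ RingHom.ker (MvPolynomial.map (FrobAlg.res p k) :
      MvPolynomial (Fin n) (W2 p k) →+* MvPolynomial (Fin n) k) := by
    rw [RingHom.mem_ker, map_sub, hjg, sub_self]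
  rw [ker_rho, Ideal.mem_span_singleton'] at h1
  obtain ⟨e, he⟩ := h1
  refine ⟨e, ?_⟩
  rw [Ideal.Quotient.eq]
  have : g - ((p : ℕ) : MvPolynomial (Fin n) (W2 p k)) * e = j := by
    linear_combination (-1 : MvPolynomial (Fin n) (W2 p k)) * he
  rw [this]
  exact hj

theorem forward
    (hflat : ((Ideal.Quotient.mk (Ideal.span (Set.range f'))).comp
      (MvPolynomial.C : FrobAlg.W2 p k →+* MvPolynomial (Fin n) (FrobAlg.W2 p k))).Flat)
    (Φ : (MvPolynomial (Fin n) (FrobAlg.W2 p k) ⧸ Ideal.span (Set.range f')) →+*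
        (MvPolynomial (Fin n) (FrobAlg.W2 p k) ⧸ Ideal.span (Set.range f')))
    (hsemi : ∀ w : W2 p k, Φ (Ideal.Quotient.mk (Ideal.span (Set.range f')) (C w))
      = Ideal.Quotient.mk (Ideal.span (Set.range f')) (C (sigma p k w)))
    (hred : ∀ b, Ideal.quotientMap ((Ideal.span (Set.range f')).map (MvPolynomial.map (FrobAlg.res p k)))
          (MvPolynomial.map (FrobAlg.res p k)) Ideal.le_comap_map (Φ b) =
        (Ideal.quotientMap ((Ideal.span (Set.range f')).map (MvPolynomial.map (FrobAlg.res p k)))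
          (MvPolynomial.map (FrobAlg.res p k)) Ideal.le_comap_map b) ^ p) :
    ∃ h : Fin n → MvPolynomial (Fin n) (FrobAlg.W2 p k), ∀ i,
      FrobAlg.polyFrob p k (Fin n) (f' i) - f' i ^ p
        - (p : MvPolynomial (Fin n) (FrobAlg.W2 p k)) * ∑ j, MvPolynomial.pderiv j (f' i) ^ p * h j
        ∈ Ideal.span {(p : MvPolynomial (Fin n) (FrobAlg.W2 p k))} * Ideal.span (Set.range f') := by
  have hp : p.Prime := Fact.out
  have hfmem : ∀ i, f' i ∈ Ideal.span (Set.range f') := fun i => Ideal.subset_span ⟨i, rfl⟩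
  have hx : ∀ j, ∃ e : MvPolynomial (Fin n) (W2 p k),
      Φ (Ideal.Quotient.mk (Ideal.span (Set.range f')) (X j))
        = Ideal.Quotient.mk (Ideal.span (Set.range f'))
          (X j ^ p - ((p : ℕ) : MvPolynomial (Fin n) (W2 p k)) * e) := by
    intro j
    obtain ⟨e, he⟩ := ker_qm p k f' (Φ (Ideal.Quotient.mk (Ideal.span (Set.range f')) (X j))
      - (Ideal.Quotient.mk (Ideal.span (Set.range f')) (X j)) ^ p)
      (by rw [map_sub, hred, map_pow, sub_self])
    refine ⟨-e, ?_⟩
    rw [sub_eq_iff_eq_add] at he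
    rw [he, ← map_pow, ← map_add]
    exact congrArg _ (by ring)
  choose h hh using hx
  refine ⟨h, fun i => ?_⟩
  have hcomp : Φ.comp (Ideal.Quotient.mk (Ideal.span (Set.range f')))
      = (Ideal.Quotient.mk (Ideal.span (Set.range f'))).comp (Phit p k h) := by
    apply MvPolynomial.ringHom_ext
    · intro w
      show Φ (Ideal.Quotient.mk (Ideal.span (Set.range f')) (C w))
        = Ideal.Quotient.mk (Ideal.span (Set.range f')) (Phit p k h (C w))
      rw [hsemi, Phit_C]
    · intro j
      show Φ (Ideal.Quotient.mk (Ideal.span (Set.range f')) (X j))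
        = Ideal.Quotient.mk (Ideal.span (Set.range f')) (Phit p k h (X j))
      rw [hh j, Phit_X]
  have h1 : Phit p k h (f' i) ∈ Ideal.span (Set.range f') := by
    rw [← Ideal.Quotient.eq_zero_iff_mem]
    have : Φ (Ideal.Quotient.mk (Ideal.span (Set.range f')) (f' i))
        = Ideal.Quotient.mk (Ideal.span (Set.range f')) (Phit p k h (f' i)) :=
      RingHom.congr_fun hcomp (f' i)
    rw [← this, Ideal.Quotient.eq_zero_iff_mem.2 (hfmem i), map_zero]
  rw [Phit_eq] at h1
  have h2 : f' i ^ p ∈ Ideal.span (Set.range f') :=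
    Ideal.pow_mem_of_mem _ (hfmem i) p hp.pos
  apply inf_le_mul p k f' hflat
  refine ⟨?_, ?_⟩
  · have h4 := polyFrob_sub_pow_mem p k (f' i)
    have h5 : ((p : ℕ) : MvPolynomial (Fin n) (W2 p k)) * ∑ j, pderiv j (f' i) ^ p * h j
        ∈ Ideal.span {((p : ℕ) : MvPolynomial (Fin n) (W2 p k))} :=
      Ideal.mul_mem_right _ _ (Ideal.mem_span_singleton_self _)
    exact Ideal.sub_mem _ h4 h5
  · have := Ideal.sub_mem _ h1 h2
    have e : polyFrob p k (Fin n) (f' i) - f' i ^ p
        - ((p : ℕ) : MvPolynomial (Fin n) (W2 p k)) * ∑ j, pderiv j (f' i) ^ p * h j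
        = polyFrob p k (Fin n) (f' i)
          - ((p : ℕ) : MvPolynomial (Fin n) (W2 p k)) * ∑ j, pderiv j (f' i) ^ p * h j
          - f' i ^ p := by ring
    rw [e]
    exact this

theorem backward
    (h : Fin n → MvPolynomial (Fin n) (FrobAlg.W2 p k))
    (hh : ∀ i,
      FrobAlg.polyFrob p k (Fin n) (f' i) - f' i ^ p
        - (p : MvPolynomial (Fin n) (FrobAlg.W2 p k)) * ∑ j, MvPolynomial.pderiv j (f' i) ^ p * h j
        ∈ Ideal.span {(p : MvPolynomial (Fin n) (FrobAlg.W2 p k))} * Ideal.span (Set.range f')) :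
    ∃ Φ : (MvPolynomial (Fin n) (FrobAlg.W2 p k) ⧸ Ideal.span (Set.range f')) →+*
        (MvPolynomial (Fin n) (FrobAlg.W2 p k) ⧸ Ideal.span (Set.range f')),
      (∀ w : W2 p k, Φ (Ideal.Quotient.mk (Ideal.span (Set.range f')) (C w))
        = Ideal.Quotient.mk (Ideal.span (Set.range f')) (C (sigma p k w))) ∧
      ∀ b, Ideal.quotientMap ((Ideal.span (Set.range f')).map (MvPolynomial.map (FrobAlg.res p k)))
          (MvPolynomial.map (FrobAlg.res p k)) Ideal.le_comap_map (Φ b) =
        (Ideal.quotientMap ((Ideal.span (Set.range f')).map (MvPolynomial.map (FrobAlg.res p k)))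
          (MvPolynomial.map (FrobAlg.res p k)) Ideal.le_comap_map b) ^ p := by
  have hp : p.Prime := Fact.out
  have hfmem : ∀ i, f' i ∈ Ideal.span (Set.range f') := fun i => Ideal.subset_span ⟨i, rfl⟩
  have hle : Ideal.span (Set.range f') ≤ (Ideal.span (Set.range f')).comap (Phit p k h) := by
    rw [Ideal.span_le]
    rintro _ ⟨i, rfl⟩
    show Phit p k h (f' i) ∈ Ideal.span (Set.range f')
    rw [Phit_eq]
    have h1 := Ideal.mul_le_right (hh i)
    have h2 : f' i ^ p ∈ Ideal.span (Set.range f') :=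
      Ideal.pow_mem_of_mem _ (hfmem i) p hp.pos
    have := Ideal.add_mem _ h1 h2
    have e : polyFrob p k (Fin n) (f' i)
          - ((p : ℕ) : MvPolynomial (Fin n) (W2 p k)) * ∑ j, pderiv j (f' i) ^ p * h j
        = polyFrob p k (Fin n) (f' i) - f' i ^ p
          - ((p : ℕ) : MvPolynomial (Fin n) (W2 p k)) * ∑ j, pderiv j (f' i) ^ p * h j
          + f' i ^ p := by ring
    rw [e]
    exact this
  refine ⟨Ideal.quotientMap (Ideal.span (Set.range f')) (Phit p k h) hle, ?_, ?_⟩
  · intro w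
    rw [Ideal.quotientMap_mk, Phit_C]
  · intro b
    obtain ⟨g, rfl⟩ := Ideal.Quotient.mk_surjective b
    rw [Ideal.quotientMap_mk, Ideal.quotientMap_mk, Ideal.quotientMap_mk, rho_Phit, map_pow]

theorem main13138
    (hflat : ((Ideal.Quotient.mk (Ideal.span (Set.range f'))).comp
      (MvPolynomial.C : FrobAlg.W2 p k →+* MvPolynomial (Fin n) (FrobAlg.W2 p k))).Flat) :
    (∃ Φ : (MvPolynomial (Fin n) (FrobAlg.W2 p k) ⧸ Ideal.span (Set.range f')) →+*
        (MvPolynomial (Fin n) (FrobAlg.W2 p k) ⧸ Ideal.span (Set.range f')),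
      Φ.comp ((Ideal.Quotient.mk (Ideal.span (Set.range f'))).comp MvPolynomial.C) =
        ((Ideal.Quotient.mk (Ideal.span (Set.range f'))).comp MvPolynomial.C).comp (FrobAlg.sigma p k) ∧
      ∀ b, Ideal.quotientMap ((Ideal.span (Set.range f')).map (MvPolynomial.map (FrobAlg.res p k)))
          (MvPolynomial.map (FrobAlg.res p k)) Ideal.le_comap_map (Φ b) =
        (Ideal.quotientMap ((Ideal.span (Set.range f')).map (MvPolynomial.map (FrobAlg.res p k)))
          (MvPolynomial.map (FrobAlg.res p k)) Ideal.le_comap_map b) ^ p) ↔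
    ∃ h : Fin n → MvPolynomial (Fin n) (FrobAlg.W2 p k), ∀ i,
      FrobAlg.polyFrob p k (Fin n) (f' i) - f' i ^ p
        - (p : MvPolynomial (Fin n) (FrobAlg.W2 p k)) * ∑ j, MvPolynomial.pderiv j (f' i) ^ p * h j
        ∈ Ideal.span {(p : MvPolynomial (Fin n) (FrobAlg.W2 p k))} * Ideal.span (Set.range f') := by
  constructor
  · rintro ⟨Φ, hsemi, hred⟩
    exact forward p k f' hflat Φ (fun w => RingHom.congr_fun hsemi w) hred
  · rintro ⟨h, hh⟩
    obtain ⟨Φ, h1, h2⟩ := backward p k f' h hh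
    exact ⟨Φ, RingHom.ext h1, h2⟩

end main

end Groth.Agent.Lib.FrobResidueH1
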