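import Mathlib
import Groth.Prelude.Def_W4c1liftfrobW2
import Groth.Agent.Lib.SplitW2_helper1
import Groth.Agent.Lib.FrobLiftW2_helper1
import Groth.Agent.Lib.FrobResidue_helper1

set_option autoImplicit false
set_option maxHeartbeats 1000000

namespace Groth.Agent.Lib.FrobCIH1

open FrobAlg MvPolynomial Groth.Agent.Lib.SplitW2H1 Groth.Agent.Lib.FrobLiftW2H1
  Groth.Agent.Lib.FrobResidueH1

universe u

section regular

variable (p : ℕ) [Fact p.Prime] (k : Type u) [Field k] [CharP k p] [PerfectRing k p] {n m : ℕ}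

/-- Elementwise form of "R'/I is flat over W₂(k)". -/
def PFlat (I : Ideal (MvPolynomial (Fin n) (W2 p k))) : Prop :=
  ∀ x : MvPolynomial (Fin n) (W2 p k),
    ((p : ℕ) : MvPolynomial (Fin n) (W2 p k)) * x ∈ I →
      ∃ w, x - ((p : ℕ) : MvPolynomial (Fin n) (W2 p k)) * w ∈ I

theorem rho_surjective : Function.Surjective
    (MvPolynomial.map (FrobAlg.res p k) :
      MvPolynomial (Fin n) (W2 p k) → MvPolynomial (Fin n) k) :=
  MvPolynomial.map_surjective _ (res_surjective p k)

theorem exists_of_rho_eq (x y : MvPolynomial (Fin n) (W2 p k))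
    (h : MvPolynomial.map (FrobAlg.res p k) x = MvPolynomial.map (FrobAlg.res p k) y) :
    ∃ z, x - y = z * ((p : ℕ) : MvPolynomial (Fin n) (W2 p k)) := by
  have h1 : x - y ∈ RingHom.ker (MvPolynomial.map (FrobAlg.res p k) :
      MvPolynomial (Fin n) (W2 p k) →+* MvPolynomial (Fin n) k) := by
    rw [RingHom.mem_ker, map_sub, h, sub_self]
  rw [ker_rho, Ideal.mem_span_singleton'] at h1
  obtain ⟨z, hz⟩ := h1
  exact ⟨z, hz.symm⟩

theorem rho_p : MvPolynomial.map (FrobAlg.res p k)
    (((p : ℕ) : MvPolynomial (Fin n) (W2 p k))) = 0 := by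
  rw [map_natCast, CharP.cast_eq_zero]

theorem pflat_bot : PFlat p k (⊥ : Ideal (MvPolynomial (Fin n) (W2 p k))) := by
  intro x hx
  rw [Ideal.mem_bot] at hx
  have h0 : MvPolynomial.map (FrobAlg.res p k) x = 0 := by
    ext d
    rw [MvPolynomial.coeff_map, MvPolynomial.coeff_zero, FrobAlg.res_apply]
    have h1 : ((p : ℕ) : W2 p k) * MvPolynomial.coeff d x = 0 := by
      have := congrArg (MvPolynomial.coeff d) hx
      rwa [← map_natCast (C : W2 p k →+* MvPolynomial (Fin n) (W2 p k)), MvPolynomial.coeff_C_mul,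
        MvPolynomial.coeff_zero] at this
    have h2 : ((MvPolynomial.coeff d x) * ((p : ℕ) : W2 p k)).coeff 1 = 0 := by
      rw [mul_comm, h1, TruncatedWittVector.coeff_zero]
    rw [coeff1_mul_p] at h2
    exact (pow_eq_zero_iff (Fact.out : p.Prime).ne_zero).1 h2
  obtain ⟨z, hz⟩ := exists_of_rho_eq p k x 0 (by rw [h0, map_zero])
  refine ⟨z, ?_⟩
  rw [Ideal.mem_bot]
  linear_combination hz

theorem pflat_step (I' : Ideal (MvPolynomial (Fin n) (W2 p k)))
    (g' : MvPolynomial (Fin n) (W2 p k)) (hI : PFlat p k I')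
    (hreg : ∀ y : MvPolynomial (Fin n) k,
      MvPolynomial.map (FrobAlg.res p k) g' * y ∈ I'.map (MvPolynomial.map (FrobAlg.res p k)) →
        y ∈ I'.map (MvPolynomial.map (FrobAlg.res p k))) :
    PFlat p k (I' ⊔ Ideal.span {g'}) := by
  intro x hx
  obtain ⟨j, hj, z, hz, hxz⟩ := Submodule.mem_sup.1 hx
  obtain ⟨y, rfl⟩ := Ideal.mem_span_singleton'.1 hz
  have h1 : MvPolynomial.map (FrobAlg.res p k) g' * MvPolynomial.map (FrobAlg.res p k) y
      ∈ I'.map (MvPolynomial.map (FrobAlg.res p k)) := by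
    have h2 := congrArg (MvPolynomial.map (FrobAlg.res p k)) hxz
    rw [map_add, map_mul, map_mul, rho_p, zero_mul] at h2
    have h3 : MvPolynomial.map (FrobAlg.res p k) g' * MvPolynomial.map (FrobAlg.res p k) y
        = - MvPolynomial.map (FrobAlg.res p k) j := by
      linear_combination h2
    rw [h3]
    exact neg_mem (Ideal.mem_map_of_mem _ hj)
  have h3 := hreg _ h1
  obtain ⟨j₁, hj₁, hj₁y⟩ :=
    (Ideal.mem_map_iff_of_surjective _ (rho_surjective p k)).1 h3
  obtain ⟨z₁, hz₁⟩ := exists_of_rho_eq p k y j₁ hj₁y.symm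
  have h4 : ((p : ℕ) : MvPolynomial (Fin n) (W2 p k)) * (x - z₁ * g') ∈ I' := by
    have : ((p : ℕ) : MvPolynomial (Fin n) (W2 p k)) * (x - z₁ * g') = j + j₁ * g' := by
      linear_combination (-1 : MvPolynomial (Fin n) (W2 p k)) * hxz + g' * hz₁
    rw [this]
    exact I'.add_mem hj (I'.mul_mem_right _ hj₁)
  obtain ⟨w, hw⟩ := hI _ h4
  refine ⟨w, ?_⟩
  have : x - ((p : ℕ) : MvPolynomial (Fin n) (W2 p k)) * w
      = (x - z₁ * g' - ((p : ℕ) : MvPolynomial (Fin n) (W2 p k)) * w) + z₁ * g' := by ring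
  rw [this]
  exact Ideal.add_mem _ (Ideal.mem_sup_left hw)
    (Ideal.mem_sup_right (Ideal.mul_mem_left _ _ (Ideal.mem_span_singleton_self _)))

theorem pflat_take (f : Fin m → MvPolynomial (Fin n) k)
    (f' : Fin m → MvPolynomial (Fin n) (W2 p k))
    (hf : ∀ i, MvPolynomial.map (FrobAlg.res p k) (f' i) = f i)
    (hreg : RingTheory.Sequence.IsWeaklyRegular (MvPolynomial (Fin n) k) (List.ofFn f)) :
    ∀ i ≤ m, PFlat p k (Ideal.ofList ((List.ofFn f').take i)) := by
  intro i
  induction i with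
  | zero =>
    intro _
    rw [List.take_zero, Ideal.ofList_nil]
    exact pflat_bot p k
  | succ i ih =>
    intro hi
    have hlen : i < (List.ofFn f').length := by rw [List.length_ofFn]; omega
    rw [List.take_succ_eq_append_getElem hlen, Ideal.ofList_append, Ideal.ofList_singleton,
      List.getElem_ofFn]
    apply pflat_step p k _ _ (ih (by omega))
    intro y hy
    have hlen2 : i < (List.ofFn f).length := by rw [List.length_ofFn]; omega
    have hr := hreg.regular_mod_prev i hlen2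
    rw [List.getElem_ofFn] at hr
    have hmap : (Ideal.ofList ((List.ofFn f').take i)).map (MvPolynomial.map (FrobAlg.res p k))
        = Ideal.ofList ((List.ofFn f).take i) := by
      rw [Ideal.map_ofList, List.map_take, List.map_ofFn]
      congr 3
      funext j
      exact hf j
    rw [hmap] at hy ⊢
    rw [hf] at hy
    have hN : (Ideal.ofList ((List.ofFn f).take i) • (⊤ : Submodule (MvPolynomial (Fin n) k)
        (MvPolynomial (Fin n) k))) = Ideal.ofList ((List.ofFn f).take i) := by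
      rw [smul_eq_mul, Ideal.mul_top]
    have h0 := hr (a₁ := Submodule.Quotient.mk y) (a₂ := 0) (by
      show f ⟨i, _⟩ • (Submodule.Quotient.mk y : MvPolynomial (Fin n) k ⧸ _) = f ⟨i, _⟩ • 0
      rw [smul_zero, ← Submodule.Quotient.mk_smul, Submodule.Quotient.mk_eq_zero, hN, smul_eq_mul]
      exact hy)
    rw [Submodule.Quotient.mk_eq_zero, hN] at h0
    exact h0

theorem ofList_ofFn {S : Type*} [CommRing S] (g : Fin m → S) :
    Ideal.ofList (List.ofFn g) = Ideal.span (Set.range g) := by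
  show Ideal.span {r | r ∈ List.ofFn g} = Ideal.span (Set.range g)
  congr 1
  ext r
  simp [List.mem_ofFn]

theorem pflat_range (f : Fin m → MvPolynomial (Fin n) k)
    (f' : Fin m → MvPolynomial (Fin n) (W2 p k))
    (hf : ∀ i, MvPolynomial.map (FrobAlg.res p k) (f' i) = f i)
    (hreg : RingTheory.Sequence.IsWeaklyRegular (MvPolynomial (Fin n) k) (List.ofFn f)) :
    PFlat p k (Ideal.span (Set.range f')) := by
  have := pflat_take p k f f' hf hreg m le_rfl
  rwa [List.take_of_length_le (by rw [List.length_ofFn]), ofList_ofFn] at this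

theorem map_span_range (f : Fin m → MvPolynomial (Fin n) k)
    (f' : Fin m → MvPolynomial (Fin n) (W2 p k))
    (hf : ∀ i, MvPolynomial.map (FrobAlg.res p k) (f' i) = f i) :
    (Ideal.span (Set.range f')).map (MvPolynomial.map (FrobAlg.res p k))
      = Ideal.span (Set.range f) := by
  rw [Ideal.map_span, ← Set.range_comp]
  congr 2
  funext i
  exact hf i

/-- `(p) ⊓ J' ≤ (p) * J'` from the elementwise criterion. -/
theorem inf_le_mul_of_pflat (I : Ideal (MvPolynomial (Fin n) (W2 p k))) (hI : PFlat p k I) :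
    Ideal.span {((p : ℕ) : MvPolynomial (Fin n) (W2 p k))} ⊓ I
      ≤ Ideal.span {((p : ℕ) : MvPolynomial (Fin n) (W2 p k))} * I := by
  rintro g ⟨hg1, hg2⟩
  obtain ⟨e, he⟩ := Ideal.mem_span_singleton'.1 hg1
  have h1 : ((p : ℕ) : MvPolynomial (Fin n) (W2 p k)) * e ∈ I := by rwa [mul_comm, he]
  obtain ⟨w, hw⟩ := hI e h1
  have h3 : g = ((p : ℕ) : MvPolynomial (Fin n) (W2 p k))
      * (e - ((p : ℕ) : MvPolynomial (Fin n) (W2 p k)) * w) := by
    rw [← he]
    linear_combination w * pR_sq (n := n) p k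
  rw [h3]
  exact Ideal.mul_mem_mul (Ideal.mem_span_singleton_self _) hw

end regular

section main

variable (p : ℕ) [Fact p.Prime] (k : Type u) [Field k] [CharP k p] [PerfectRing k p] {n m : ℕ}

theorem Phit_le (f' : Fin m → MvPolynomial (Fin n) (W2 p k))
    (h : Fin n → MvPolynomial (Fin n) (W2 p k))
    (hh : ∀ i,
      FrobAlg.polyFrob p k (Fin n) (f' i) - f' i ^ p
        - (p : MvPolynomial (Fin n) (FrobAlg.W2 p k)) * ∑ j, MvPolynomial.pderiv j (f' i) ^ p * h j
        ∈ Ideal.span {(p : MvPolynomial (Fin n) (FrobAlg.W2 p k))} * Ideal.span (Set.range f')) :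
    Ideal.span (Set.range f') ≤ (Ideal.span (Set.range f')).comap (Phit p k h) := by
  have hp : p.Prime := Fact.out
  have hfmem : ∀ i, f' i ∈ Ideal.span (Set.range f') := fun i => Ideal.subset_span ⟨i, rfl⟩
  rw [Ideal.span_le]
  rintro _ ⟨i, rfl⟩
  show Phit p k h (f' i) ∈ Ideal.span (Set.range f')
  rw [Phit_eq]
  have h1 := Ideal.mul_le_right (hh i)
  have h2 : f' i ^ p ∈ Ideal.span (Set.range f') :=
    Ideal.pow_mem_of_mem _ (hfmem i) p hp.pos
  have := Ideal.add_mem _ h1 h2
  have e : polyFrob p k (Fin n) (f' i)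
        - ((p : ℕ) : MvPolynomial (Fin n) (W2 p k)) * ∑ j, pderiv j (f' i) ^ p * h j
      = polyFrob p k (Fin n) (f' i) - f' i ^ p
        - ((p : ℕ) : MvPolynomial (Fin n) (W2 p k)) * ∑ j, pderiv j (f' i) ^ p * h j
        + f' i ^ p := by ring
  rw [e]
  exact this

theorem isLift_quotient (f : Fin m → MvPolynomial (Fin n) k)
    (f' : Fin m → MvPolynomial (Fin n) (W2 p k))
    (hf : ∀ i, MvPolynomial.map (FrobAlg.res p k) (f' i) = f i)
    (hpf : PFlat p k (Ideal.span (Set.range f')))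
    (hle : Ideal.span (Set.range f') ≤
      (Ideal.span (Set.range f)).comap (MvPolynomial.map (FrobAlg.res p k))) :
    FrobAlg.IsLift p k (MvPolynomial (Fin n) k ⧸ Ideal.span (Set.range f))
      (MvPolynomial (Fin n) (W2 p k) ⧸ Ideal.span (Set.range f'))
      ((Ideal.Quotient.mk (Ideal.span (Set.range f'))).comp
        (MvPolynomial.C : W2 p k →+* MvPolynomial (Fin n) (W2 p k)))
      (Ideal.quotientMap (Ideal.span (Set.range f)) (MvPolynomial.map (FrobAlg.res p k)) hle) := by
  have hιp : ((Ideal.Quotient.mk (Ideal.span (Set.range f'))).comp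
        (MvPolynomial.C : W2 p k →+* MvPolynomial (Fin n) (W2 p k))) ((p : ℕ) : W2 p k)
      = Ideal.Quotient.mk (Ideal.span (Set.range f'))
        ((p : ℕ) : MvPolynomial (Fin n) (W2 p k)) := by
    rw [RingHom.comp_apply, map_natCast]
  refine ⟨?_, ?_, ?_, ?_⟩
  · refine @flat_of_three_ideals (W2 p k)
      (MvPolynomial (Fin n) (W2 p k) ⧸ Ideal.span (Set.range f')) _ _
      (((Ideal.Quotient.mk (Ideal.span (Set.range f'))).comp
        (MvPolynomial.C : W2 p k →+* MvPolynomial (Fin n) (W2 p k))).toAlgebra.toModule)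
      ((p : ℕ) : W2 p k) (p_mul_p p) (ideal_cases p k) ?_
    intro b hb
    obtain ⟨x, rfl⟩ := Ideal.Quotient.mk_surjective b
    have hb1 : ((Ideal.Quotient.mk (Ideal.span (Set.range f'))).comp
        (MvPolynomial.C : W2 p k →+* MvPolynomial (Fin n) (W2 p k))) ((p : ℕ) : W2 p k)
        * Ideal.Quotient.mk (Ideal.span (Set.range f')) x = 0 := hb
    rw [hιp, ← map_mul, Ideal.Quotient.eq_zero_iff_mem] at hb1
    obtain ⟨w, hw⟩ := hpf x hb1
    refine ⟨Ideal.Quotient.mk (Ideal.span (Set.range f')) w, ?_⟩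
    show _ = ((Ideal.Quotient.mk (Ideal.span (Set.range f'))).comp
        (MvPolynomial.C : W2 p k →+* MvPolynomial (Fin n) (W2 p k))) ((p : ℕ) : W2 p k)
        * Ideal.Quotient.mk (Ideal.span (Set.range f')) w
    rw [hιp, ← map_mul]
    exact Ideal.Quotient.eq.2 hw
  · exact Ideal.quotientMap_surjective (rho_surjective p k)
  · rw [ker_res, Ideal.map_span, Set.image_singleton, hιp]
    apply le_antisymm
    · intro b hb
      obtain ⟨g, rfl⟩ := Ideal.Quotient.mk_surjective b
      rw [RingHom.mem_ker, Ideal.quotientMap_mk, Ideal.Quotient.eq_zero_iff_mem,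
        ← map_span_range p k f f' hf,
        Ideal.mem_map_iff_of_surjective _ (rho_surjective p k)] at hb
      obtain ⟨j, hj, hjg⟩ := hb
      obtain ⟨e, he⟩ := exists_of_rho_eq p k g j hjg.symm
      have h1 : Ideal.Quotient.mk (Ideal.span (Set.range f')) g
          = Ideal.Quotient.mk (Ideal.span (Set.range f')) e
            * Ideal.Quotient.mk (Ideal.span (Set.range f'))
              ((p : ℕ) : MvPolynomial (Fin n) (W2 p k)) := by
        rw [← map_mul, Ideal.Quotient.eq, ← he]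
        have : g - (g - j) = j := by ring
        rw [this]
        exact hj
      rw [h1]
      exact Ideal.mul_mem_left _ _ (Ideal.mem_span_singleton_self _)
    · rw [Ideal.span_singleton_le_iff_mem, RingHom.mem_ker, Ideal.quotientMap_mk, rho_p, map_zero]
  · ext1 w
    show Ideal.quotientMap (Ideal.span (Set.range f)) (MvPolynomial.map (FrobAlg.res p k)) hle
        (Ideal.Quotient.mk (Ideal.span (Set.range f')) (C w))
      = algebraMap k (MvPolynomial (Fin n) k ⧸ Ideal.span (Set.range f)) (FrobAlg.res p k w)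
    rw [Ideal.quotientMap_mk, MvPolynomial.map_C]
    rfl

theorem liftable_of_residues (f : Fin m → MvPolynomial (Fin n) k)
    (hreg : RingTheory.Sequence.IsWeaklyRegular (MvPolynomial (Fin n) k) (List.ofFn f))
    (f' : Fin m → MvPolynomial (Fin n) (W2 p k))
    (h : Fin n → MvPolynomial (Fin n) (W2 p k))
    (hf : ∀ i, MvPolynomial.map (FrobAlg.res p k) (f' i) = f i)
    (hh : ∀ i,
      FrobAlg.polyFrob p k (Fin n) (f' i) - f' i ^ p
        - (p : MvPolynomial (Fin n) (FrobAlg.W2 p k)) * ∑ j, MvPolynomial.pderiv j (f' i) ^ p * h j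
        ∈ Ideal.span {(p : MvPolynomial (Fin n) (FrobAlg.W2 p k))} * Ideal.span (Set.range f')) :
    FrobAlg.IsFLiftable p k (MvPolynomial (Fin n) k ⧸ Ideal.span (Set.range f)) := by
  have hle : Ideal.span (Set.range f') ≤
      (Ideal.span (Set.range f)).comap (MvPolynomial.map (FrobAlg.res p k)) := by
    rw [← map_span_range p k f f' hf]
    exact Ideal.le_comap_map
  have hlift := isLift_quotient p k f f' hf (pflat_range p k f f' hf hreg) hle
  refine ⟨MvPolynomial (Fin n) (W2 p k) ⧸ Ideal.span (Set.range f'), inferInstance, _, _,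
    Ideal.quotientMap (Ideal.span (Set.range f')) (Phit p k h) (Phit_le p k f' h hh),
    { toIsLift := hlift, semi := ?_, red := ?_ }⟩
  · ext1 w
    show Ideal.quotientMap (Ideal.span (Set.range f')) (Phit p k h) (Phit_le p k f' h hh)
        (Ideal.Quotient.mk (Ideal.span (Set.range f')) (C w))
      = Ideal.Quotient.mk (Ideal.span (Set.range f')) (C (sigma p k w))
    rw [Ideal.quotientMap_mk, Phit_C]
  · intro b
    obtain ⟨g, rfl⟩ := Ideal.Quotient.mk_surjective b
    rw [Ideal.quotientMap_mk, Ideal.quotientMap_mk, Ideal.quotientMap_mk, rho_Phit, map_pow]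

theorem residues_of_liftable (f : Fin m → MvPolynomial (Fin n) k)
    (B : Type u) [CommRing B] (ι : W2 p k →+* B)
    (π : B →+* MvPolynomial (Fin n) k ⧸ Ideal.span (Set.range f)) (Φ : B →+* B)
    (hΦ : FrobAlg.IsFrobLift p k (MvPolynomial (Fin n) k ⧸ Ideal.span (Set.range f)) B ι π Φ) :
    ∃ (f' : Fin m → MvPolynomial (Fin n) (FrobAlg.W2 p k))
      (h : Fin n → MvPolynomial (Fin n) (FrobAlg.W2 p k)),
      (∀ i, MvPolynomial.map (FrobAlg.res p k) (f' i) = f i) ∧
      ∀ i, FrobAlg.polyFrob p k (Fin n) (f' i) - f' i ^ p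
        - (p : MvPolynomial (Fin n) (FrobAlg.W2 p k)) * ∑ j, MvPolynomial.pderiv j (f' i) ^ p * h j
        ∈ Ideal.span {(p : MvPolynomial (Fin n) (FrobAlg.W2 p k))} * Ideal.span (Set.range f') := by
  have hp : p.Prime := Fact.out
  have hB := hΦ.toIsLift
  have hbx : ∀ i : Fin n, ∃ b : B, π b = Ideal.Quotient.mk (Ideal.span (Set.range f)) (X i) :=
    fun i => hB.surj _
  choose b hb using hbx
  set ψ : MvPolynomial (Fin n) (W2 p k) →+* B := MvPolynomial.eval₂Hom ι b with hψ
  have hψC : ∀ w, ψ (C w) = ι w := fun w => by rw [hψ]; simp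
  have hψX : ∀ i, ψ (X i) = b i := fun i => by rw [hψ]; simp
  have hψp : ψ ((p : ℕ) : MvPolynomial (Fin n) (W2 p k)) = ((p : ℕ) : B) := map_natCast ψ p
  have hπψ : ∀ g, π (ψ g) = Ideal.Quotient.mk (Ideal.span (Set.range f))
      (MvPolynomial.map (FrobAlg.res p k) g) := by
    have : π.comp ψ = (Ideal.Quotient.mk (Ideal.span (Set.range f))).comp
        (MvPolynomial.map (FrobAlg.res p k)) := by
      apply MvPolynomial.ringHom_ext
      · intro w
        show π (ψ (C w)) = Ideal.Quotient.mk (Ideal.span (Set.range f))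
          (MvPolynomial.map (FrobAlg.res p k) (C w))
        rw [hψC, pi_iota p hB, MvPolynomial.map_C, FrobAlg.res_apply]
        rfl
      · intro i
        show π (ψ (X i)) = Ideal.Quotient.mk (Ideal.span (Set.range f))
          (MvPolynomial.map (FrobAlg.res p k) (X i))
        rw [hψX, hb, MvPolynomial.map_X]
    intro g
    exact RingHom.congr_fun this g
  have hpB : ∀ c : B, π c = 0 → ∃ d, c = d * ((p : ℕ) : B) := exists_of_pi_eq_zero p hB
  have hsurj1 : ∀ c : B, ∃ g c', c = ψ g + ((p : ℕ) : B) * c' := by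
    intro c
    obtain ⟨g0, hg0⟩ := Ideal.Quotient.mk_surjective (π c)
    obtain ⟨g, rfl⟩ := rho_surjective p k g0
    obtain ⟨d, hd⟩ := hpB (c - ψ g) (by rw [map_sub, hπψ, hg0, sub_self])
    exact ⟨g, d, by linear_combination hd⟩
  have hsurj : Function.Surjective ψ := by
    intro c
    obtain ⟨g₀, c₁, h₀⟩ := hsurj1 c
    obtain ⟨g₁, c₂, h₁⟩ := hsurj1 c₁
    refine ⟨g₀ + ((p : ℕ) : MvPolynomial (Fin n) (W2 p k)) * g₁, ?_⟩
    rw [map_add, map_mul, hψp, h₀, h₁]
    have := pB_sq p hB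
    linear_combination (-c₂) * this
  have hf' : ∀ i, ∃ f'i : MvPolynomial (Fin n) (W2 p k),
      MvPolynomial.map (FrobAlg.res p k) f'i = f i ∧ ψ f'i = 0 := by
    intro i
    obtain ⟨g, hg⟩ := rho_surjective p k (f i)
    have h0 : π (ψ g) = 0 := by
      rw [hπψ, hg]
      exact Ideal.Quotient.eq_zero_iff_mem.2 (Ideal.subset_span ⟨i, rfl⟩)
    obtain ⟨d, hd⟩ := hpB _ h0
    obtain ⟨e, rfl⟩ := hsurj d
    refine ⟨g - ((p : ℕ) : MvPolynomial (Fin n) (W2 p k)) * e, ?_, ?_⟩
    · rw [map_sub, map_mul, rho_p, zero_mul, sub_zero, hg]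
    · rw [map_sub, map_mul, hψp, hd]
      ring
  choose f' hf'ρ hf'ψ using hf'
  have hJ'ψ : ∀ x ∈ Ideal.span (Set.range f'), ψ x = 0 := by
    have : Ideal.span (Set.range f') ≤ RingHom.ker ψ := by
      rw [Ideal.span_le]
      rintro _ ⟨i, rfl⟩
      exact hf'ψ i
    intro x hx
    exact this hx
  have hmod : ∀ x : MvPolynomial (Fin n) (W2 p k), π (ψ x) = 0 →
      ∃ j ∈ Ideal.span (Set.range f'), ∃ y,
        x = j + ((p : ℕ) : MvPolynomial (Fin n) (W2 p k)) * y := by
    intro x hx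
    rw [hπψ, Ideal.Quotient.eq_zero_iff_mem, ← map_span_range p k f f' hf'ρ,
      Ideal.mem_map_iff_of_surjective _ (rho_surjective p k)] at hx
    obtain ⟨j, hj, hjx⟩ := hx
    obtain ⟨y, hy⟩ := exists_of_rho_eq p k x j hjx.symm
    exact ⟨j, hj, y, by linear_combination hy⟩
  have hker : ∀ x : MvPolynomial (Fin n) (W2 p k), ψ x = 0 →
      x ∈ Ideal.span (Set.range f') := by
    intro x hx
    obtain ⟨j, hj, y, rfl⟩ := hmod x (by rw [hx, map_zero])
    have h1 : ((p : ℕ) : B) * ψ y = 0 := by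
      have := hx
      rwa [map_add, hJ'ψ j hj, zero_add, map_mul, hψp] at this
    have h2 := pi_eq_zero_of_p_mul p hB _ h1
    obtain ⟨j₂, hj₂, z, rfl⟩ := hmod y h2
    have : j + ((p : ℕ) : MvPolynomial (Fin n) (W2 p k))
        * (j₂ + ((p : ℕ) : MvPolynomial (Fin n) (W2 p k)) * z)
        = j + ((p : ℕ) : MvPolynomial (Fin n) (W2 p k)) * j₂ := by
      linear_combination z * pR_sq (n := n) p k
    rw [this]
    exact Ideal.add_mem _ hj (Ideal.mul_mem_left _ _ hj₂)
  have hpflat : PFlat p k (Ideal.span (Set.range f')) := by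
    intro x hx
    have h1 : ((p : ℕ) : B) * ψ x = 0 := by
      rw [← hψp, ← map_mul]
      exact hJ'ψ _ hx
    have h2 := pi_eq_zero_of_p_mul p hB _ h1
    obtain ⟨j, hj, y, rfl⟩ := hmod x h2
    refine ⟨y, ?_⟩
    have : j + ((p : ℕ) : MvPolynomial (Fin n) (W2 p k)) * y
        - ((p : ℕ) : MvPolynomial (Fin n) (W2 p k)) * y = j := by ring
    rw [this]
    exact hj
  have hx : ∀ j, ∃ e : MvPolynomial (Fin n) (W2 p k),
      Φ (ψ (X j)) = ψ (X j ^ p - ((p : ℕ) : MvPolynomial (Fin n) (W2 p k)) * e) := by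
    intro j
    have h0 : π (Φ (ψ (X j)) - ψ (X j) ^ p) = 0 := by rw [map_sub, hΦ.red, map_pow, sub_self]
    obtain ⟨d, hd⟩ := hpB _ h0
    obtain ⟨e, rfl⟩ := hsurj d
    refine ⟨-e, ?_⟩
    rw [map_sub, map_pow, map_mul, hψp, map_neg]
    linear_combination hd
  choose h hh using hx
  have hcomp : ∀ g, Φ (ψ g) = ψ (Phit p k h g) := by
    have : Φ.comp ψ = ψ.comp (Phit p k h) := by
      apply MvPolynomial.ringHom_ext
      · intro w
        show Φ (ψ (C w)) = ψ (Phit p k h (C w))
        rw [Phit_C, hψC, hψC]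
        exact RingHom.congr_fun hΦ.semi w
      · intro j
        show Φ (ψ (X j)) = ψ (Phit p k h (X j))
        rw [hh j, Phit_X]
    intro g
    exact RingHom.congr_fun this g
  refine ⟨f', h, hf'ρ, fun i => ?_⟩
  have hfmem : ∀ i, f' i ∈ Ideal.span (Set.range f') := fun i => Ideal.subset_span ⟨i, rfl⟩
  have h1 : Phit p k h (f' i) ∈ Ideal.span (Set.range f') :=
    hker _ (by rw [← hcomp, hf'ψ, map_zero])
  rw [Phit_eq] at h1
  have h2 : f' i ^ p ∈ Ideal.span (Set.range f') :=
    Ideal.pow_mem_of_mem _ (hfmem i) p hp.pos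
  apply inf_le_mul_of_pflat p k _ hpflat
  refine ⟨?_, ?_⟩
  · have h4 := polyFrob_sub_pow_mem p k (f' i)
    have h5 : ((p : ℕ) : MvPolynomial (Fin n) (W2 p k)) * ∑ j, pderiv j (f' i) ^ p * h j
        ∈ Ideal.span {((p : ℕ) : MvPolynomial (Fin n) (W2 p k))} :=
      Ideal.mul_mem_right _ _ (Ideal.mem_span_singleton_self _)
    exact Ideal.sub_mem _ h4 h5
  · have := Ideal.sub_mem _ h1 h2
    have e : polyFrob p k (Fin n) (f' i) - f' i ^ p
        - ((p : ℕ) : MvPolynomial (Fin n) (W2 p k)) * ∑ j, pderiv j (f' i) ^ p * h j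
        = polyFrob p k (Fin n) (f' i)
          - ((p : ℕ) : MvPolynomial (Fin n) (W2 p k)) * ∑ j, pderiv j (f' i) ^ p * h j
          - f' i ^ p := by ring
    rw [e]
    exact this

theorem main13139 (f : Fin m → MvPolynomial (Fin n) k)
    (hreg : RingTheory.Sequence.IsRegular (MvPolynomial (Fin n) k) (List.ofFn f)) :
    FrobAlg.IsFLiftable p k (MvPolynomial (Fin n) k ⧸ Ideal.span (Set.range f)) ↔
    ∃ (f' : Fin m → MvPolynomial (Fin n) (FrobAlg.W2 p k)) (h : Fin n → MvPolynomial (Fin n) (FrobAlg.W2 p k)),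
      (∀ i, MvPolynomial.map (FrobAlg.res p k) (f' i) = f i) ∧
      ∀ i, FrobAlg.polyFrob p k (Fin n) (f' i) - f' i ^ p
        - (p : MvPolynomial (Fin n) (FrobAlg.W2 p k)) * ∑ j, MvPolynomial.pderiv j (f' i) ^ p * h j
        ∈ Ideal.span {(p : MvPolynomial (Fin n) (FrobAlg.W2 p k))} * Ideal.span (Set.range f') := by
  constructor
  · rintro ⟨B, _, ι, π, Φ, hΦ⟩
    exact residues_of_liftable p k f B ι π Φ hΦ
  · rintro ⟨f', h, hf, hh⟩
    exact liftable_of_residues p k f hreg.toIsWeaklyRegular f' h hf hh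

end main

end Groth.Agent.Lib.FrobCIH1
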