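import Mathlib
import Groth.Prelude

/-!
# The absolute Frobenius of a reduced scheme can be cancelled on the left (helper4).
APPEND-ONLY once landed.
-/

set_option autoImplicit false
set_option linter.style.haveILetI false

universe u

open CategoryTheory CategoryTheory.Limits AlgebraicGeometry Opposite TopologicalSpace

namespace Groth.Agent.Lib.FrobCancelH4

theorem pow_p_injective (p : ℕ) [Fact p.Prime] (R : Type u) [CommRing R] [_root_.IsReduced R]
    (hp : (p : R) = 0) (x y : R) (h : x ^ p = y ^ p) : x = y := by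
  have h1 : (FrobSch.powHom p R hp) (x - y) = 0 := by
    rw [map_sub, FrobSch.powHom_apply, FrobSch.powHom_apply, h, sub_self]
  have h2 : (x - y) ^ p = 0 := h1
  have h3 : IsNilpotent (x - y) := ⟨p, h2⟩
  exact sub_eq_zero.mp h3.eq_zero

theorem frob_cancel (p : ℕ) [Fact p.Prime] {Y Z : Scheme.{u}} [FrobSch.IsCharP Y p]
    [AlgebraicGeometry.IsReduced Y] (g₁ g₂ : Y ⟶ Z)
    (h : FrobSch.frob Y p ≫ g₁ = FrobSch.frob Y p ≫ g₂) : g₁ = g₂ := by
  have hb : g₁.base = g₂.base := by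
    have h0 := congrArg (fun k : Y ⟶ Z => k.base) h
    simpa using h0
  refine (Scheme.Hom.ext hb.symm (fun U => ?_)).symm
  ext s
  have h1 := Scheme.Hom.congr_app h U
  have h2 := congrArg (fun k => k.hom s) h1
  have hp : (p : Γ(Y, g₁ ⁻¹ᵁ U)) = 0 := FrobSch.natCast_eq_zero_app Y p _
  have E : g₁ ⁻¹ᵁ U = g₂ ⁻¹ᵁ U := congrArg (fun (b : Y.toTopCat ⟶ Z.toTopCat) => (Opens.map b).obj U) hb
  have h2' : ((g₁.app U).hom s) ^ p =
      (Y.presheaf.map (eqToHom E).op).hom (((g₂.app U).hom s) ^ p) := h2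
  have h3 : ((g₁.app U).hom s) ^ p =
      ((Y.presheaf.map (eqToHom E).op).hom ((g₂.app U).hom s)) ^ p :=
    h2'.trans (map_pow (Y.presheaf.map (eqToHom E).op).hom ((g₂.app U).hom s) p)
  exact (pow_p_injective p Γ(Y, g₁ ⁻¹ᵁ U) hp _ _ h3).symm

theorem main16482 (p : ℕ) [Fact p.Prime]
    {Y Z S : Scheme.{u}} [FrobSch.IsCharP S p]
    [AlgebraicGeometry.IsReduced Y] (a : Y ⟶ S) (b : Z ⟶ S) (g₁ g₂ : Y ⟶ Z)
    (hg₁ : g₁ ≫ b = a) (hg₂ : g₂ ≫ b = a)
    (h : FrobSch.relFrob a p ≫ pullback.map a (FrobSch.frob S p) b (FrobSch.frob S p) g₁ (𝟙 S) (𝟙 S)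
        ((Category.comp_id a).trans hg₁.symm) ((Category.comp_id _).trans (Category.id_comp _).symm) =
      FrobSch.relFrob a p ≫ pullback.map a (FrobSch.frob S p) b (FrobSch.frob S p) g₂ (𝟙 S) (𝟙 S)
        ((Category.comp_id a).trans hg₂.symm) ((Category.comp_id _).trans (Category.id_comp _).symm)) :
    g₁ = g₂ := by
  haveI : FrobSch.IsCharP Y p := FrobSch.IsCharP.of_hom a p
  have key : ∀ (g : Y ⟶ Z) (e1 : a ≫ 𝟙 S = g ≫ b)
      (e2 : FrobSch.frob S p ≫ 𝟙 S = 𝟙 S ≫ FrobSch.frob S p),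
      (FrobSch.relFrob a p ≫ pullback.map a (FrobSch.frob S p) b (FrobSch.frob S p) g (𝟙 S) (𝟙 S)
        e1 e2) ≫ pullback.fst b (FrobSch.frob S p) = FrobSch.frob Y p ≫ g := by
    intro g e1 e2
    have m1 : pullback.map a (FrobSch.frob S p) b (FrobSch.frob S p) g (𝟙 S) (𝟙 S) e1 e2 ≫
        pullback.fst b (FrobSch.frob S p) = pullback.fst a (FrobSch.frob S p) ≫ g :=
      pullback.lift_fst _ _ _
    exact (Category.assoc _ _ _).trans ((congrArg (fun k => FrobSch.relFrob a p ≫ k) m1).trans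
      ((Category.assoc _ _ _).symm.trans
        (congrArg (fun k => k ≫ g) (FrobSch.relFrob_fst a p))))
  have hh := congrArg (fun k => k ≫ pullback.fst b (FrobSch.frob S p)) h
  exact frob_cancel p g₁ g₂ ((key g₁ _ _).symm.trans (hh.trans (key g₂ _ _)))

end Groth.Agent.Lib.FrobCancelH4
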