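import Mathlib
import Groth.Prelude.Def_WeilCoh
import Groth.Agent.Lib.WeilCohG3_helper9

/-! Weil cohomology, geometry part 4 (helper9): the Lefschetz fixed point formula
`(Γ_φ · Δ) = Σ (-1)^i tr(φ^* | H^i)` and the Künneth decomposition of the class of a graph.
APPEND-ONLY once landed. -/

universe u v w

open CategoryTheory AlgebraicGeometry

namespace Groth.Agent.WCF9

open WeilCoh Groth.Agent.Lib.WeilCohH5

section Formal

variable {k : Type u} [Field k] {Pr : ObjectProperty (Over (Spec (CommRingCat.of k)))}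
variable {K : Type v} [Field K] (T : WeilCoh.TheoryOn.{u, v, w} k Pr K)

/-- Two classes of the same degree on a product are equal if they have the same sandwich
traces. -/
lemma eq_of_sandwich {X Y Q : Pr.FullSubcategory} (p : Q ⟶ X) (q : Q ⟶ Y) (hQ : IsProd p q)
    (N : ℤ) (φ₁ φ₂ : T.H Q) (h₁ : φ₁ ∈ T.gr Q N) (h₂ : φ₂ ∈ T.gr Q N)
    (h : ∀ (i : ℤ) (x : T.H X), x ∈ T.gr X i → ∀ β : T.H Y,
      T.tr Q (T.pull p x * φ₁ * T.pull q β) = T.tr Q (T.pull p x * φ₂ * T.pull q β)) :
    φ₁ = φ₂ := by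
  refine dual_inj_all T Q N _ _ h₁ h₂ ?_
  intro z
  refine kunneth_induction T p q hQ
    (motive := fun z => T.tr Q (φ₁ * z) = T.tr Q (φ₂ * z)) ?_ ?_ z
  · intro i j a b ha _
    rw [← mul_assoc, ← mul_assoc, tr_comm_mul T Q N i _ _ _ h₁ (T.pull_mem p i a ha),
      tr_comm_mul T Q N i _ _ _ h₂ (T.pull_mem p i a ha)]
    congr 1
    exact h i a ha b
  · intro x y hx hy
    rw [mul_add, mul_add, map_add, map_add, hx, hy]

end Formal

section Graph

variable {k : Type u} [Field k] {K : Type v} [Field K]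
  (T : WeilCoh.TheoryOn.{u, v, w} k (IsVar k) K)

/-- Sandwich trace of the class of the graph of `j = (id, φ)`. -/
lemma tr_sandwich_graph {X Y P : Var k} [IrreducibleSpace ↥X.obj.left] (p : P ⟶ X) (q : P ⟶ Y)
    (hP : IsProd p q) (j : X ⟶ P) (hjp : j ≫ p = 𝟙 X) (x : T.H X) (β : T.H Y) :
    T.tr P (T.pull p x * T.cl P (sm j (genericPoint ↥X.obj.left)) * T.pull q β) =
      T.tr X (x * T.pull (j ≫ q) β) := by
  rw [← comm_of_even T P _ _ (T.cl_mem P (sm j (genericPoint ↥X.obj.left))),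
    mul_assoc (T.cl P _), tr_section T p q hP j hjp, cl_genericPoint, one_mul,
    map_mul (T.pull j), pull_pull, pull_pull, hjp, T.pull_id]
  rfl

/-- Sandwich trace of the class of the transposed graph `j = (φ, id)`. -/
lemma tr_sandwich_graph' {X Y P : Var k} [IrreducibleSpace ↥Y.obj.left] (p : P ⟶ X) (q : P ⟶ Y)
    (hP : IsProd p q) (j : Y ⟶ P) (hjq : j ≫ q = 𝟙 Y) (x : T.H X) (β : T.H Y) :
    T.tr P (T.pull p x * T.cl P (sm j (genericPoint ↥Y.obj.left)) * T.pull q β) =
      T.tr Y (T.pull (j ≫ p) x * β) := by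
  rw [← comm_of_even T P _ _ (T.cl_mem P (sm j (genericPoint ↥Y.obj.left))),
    mul_assoc (T.cl P _), tr_section T q p (IsPullback.flip hP) j hjq, cl_genericPoint, one_mul,
    map_mul (T.pull j), pull_pull, pull_pull, hjq, T.pull_id]
  rfl

include T in
lemma codim_graph {X Y P : Var k} [IrreducibleSpace ↥X.obj.left] (p : P ⟶ X) (q : P ⟶ Y)
    (hP : IsProd p q) (j : X ⟶ P) (hjp : j ≫ p = 𝟙 X) :
    codim P.obj.left (sm j (genericPoint ↥X.obj.left)) = dim Y.obj.left := by
  have hd := dim_prod T p q hP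
  have hpd : pdim P.obj.left (sm j (genericPoint ↥X.obj.left)) = dim X.obj.left := by
    rw [pdim_section p q hP j hjp]
    exact natDim_closure_genericPoint _
  unfold codim
  rw [hpd, hd]
  omega

theorem s15450 {X P : Var k} [IrreducibleSpace ↥X.obj.left] (φ : X ⟶ X) (p q : P ⟶ X)
    (hP : IsProd p q) (j d : X ⟶ P) (hjp : j ≫ p = 𝟙 X) (hjq : j ≫ q = φ)
    (hdp : d ≫ p = 𝟙 X) (hdq : d ≫ q = 𝟙 X) :
    T.tr P (T.cl P (sm j (genericPoint ↥X.obj.left)) *
        T.cl P (sm d (genericPoint ↥X.obj.left))) =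
      ∑ i ∈ Finset.range (2 * dim X.obj.left + 1),
        (-1 : K) ^ i * LinearMap.trace K ↥(T.gr X (i : ℤ)) (T.pullDeg φ (i : ℤ)) := by
  have hflip : IsProd q p := IsPullback.flip hP
  have hL := lefschetz T p q q p hflip (𝟙 P) (Category.id_comp _) (Category.id_comp _) _
    (T.cl P (sm d (genericPoint ↥X.obj.left))) (T.cl_mem P _)
    (fun i x => (x : T.H X))
    (fun i x β => by
      rw [tr_sandwich_graph T p q hP d hdp, hdq, T.pull_id]
      rfl)
    (T.cl P (sm j (genericPoint ↥X.obj.left))) (fun i => T.pullDeg φ i)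
    (fun i x β => by
      rw [tr_sandwich_graph' T q p hflip j hjp, hjq]
      rfl)
  have hid : T.pull (𝟙 P) (T.cl P (sm j (genericPoint ↥X.obj.left))) =
      T.cl P (sm j (genericPoint ↥X.obj.left)) := by
    rw [T.pull_id]
    rfl
  rw [hid] at hL
  rw [comm_of_even T P _ _ (T.cl_mem P (sm j (genericPoint ↥X.obj.left)))]
  exact hL

/-- Coefficients in a basis through a dual family. -/
lemma repr_eq_tr (X : Var k) (r : ℕ) {ι : Type} [Fintype ι] [DecidableEq ι]
    (e : Module.Basis ι K ↥(T.gr X (r : ℤ)))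
    (f : ι → ↥(T.gr X (2 * (dim X.obj.left : ℤ) - r)))
    (hef : ∀ i l : ι, T.tr X ((f l : T.H X) * (e i : T.H X)) = if i = l then 1 else 0)
    (b : ↥(T.gr X (r : ℤ))) (l : ι) :
    T.tr X ((f l : T.H X) * (b : T.H X)) = e.repr b l := by
  conv_lhs => rw [← e.sum_repr b]
  rw [Submodule.coe_sum, Finset.mul_sum, map_sum]
  simp only [Submodule.coe_smul, mul_smul_comm, map_smul, smul_eq_mul, hef, mul_ite, mul_one,
    mul_zero, Finset.sum_ite_eq', Finset.mem_univ, if_true]

theorem s15451 {X P : Var k} [IrreducibleSpace ↥X.obj.left] (φ : X ⟶ X) (p q : P ⟶ X)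
    (hP : IsProd p q) (j : X ⟶ P) (hjp : j ≫ p = 𝟙 X) (hjq : j ≫ q = φ)
    (ι : ℕ → Type) [∀ r, Fintype (ι r)] [∀ r, DecidableEq (ι r)]
    (e : (r : ℕ) → Module.Basis (ι r) K ↥(T.gr X (r : ℤ)))
    (f : (r : ℕ) → ι r → ↥(T.gr X (2 * (dim X.obj.left : ℤ) - r)))
    (hef : ∀ r, r ≤ 2 * dim X.obj.left → ∀ i l : ι r,
      T.tr X ((f r l : T.H X) * (e r i : T.H X)) = if i = l then 1 else 0) :
    T.cl P (sm j (genericPoint ↥X.obj.left)) =
      ∑ r ∈ Finset.range (2 * dim X.obj.left + 1), ∑ i : ι r,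
        T.pull p (T.pull φ (e r i : T.H X)) * T.pull q (f r i : T.H X) := by
  have hcod := codim_graph T p q hP j hjp
  have h₁ : T.cl P (sm j (genericPoint ↥X.obj.left)) ∈ T.gr P (2 * (dim X.obj.left : ℤ)) := by
    have := T.cl_mem P (sm j (genericPoint ↥X.obj.left))
    rwa [hcod] at this
  have h₂ : (∑ r ∈ Finset.range (2 * dim X.obj.left + 1), ∑ i : ι r,
        T.pull p (T.pull φ (e r i : T.H X)) * T.pull q (f r i : T.H X)) ∈
      T.gr P (2 * (dim X.obj.left : ℤ)) := by
    refine Submodule.sum_mem _ fun r _ => Submodule.sum_mem _ fun i _ => ?_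
    have hr : (r : ℤ) + (2 * (dim X.obj.left : ℤ) - r) = 2 * (dim X.obj.left : ℤ) := by ring
    have hm := SetLike.mul_mem_graded (T.pull_mem p _ _ (T.pull_mem φ _ _ (e r i).2))
      (T.pull_mem q _ _ (f r i).2)
    rwa [hr] at hm
  refine eq_of_sandwich T p q hP _ _ _ h₁ h₂ ?_
  intro s x hx β
  rw [tr_sandwich_graph T p q hP j hjp, hjq, Finset.mul_sum, Finset.sum_mul, map_sum]
  have hterm : ∀ (r : ℕ) (i : ι r), T.tr P (T.pull p x *
      (T.pull p (T.pull φ (e r i : T.H X)) * T.pull q (f r i : T.H X)) * T.pull q β) =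
      T.tr X (x * T.pull φ (e r i : T.H X)) * T.tr X ((f r i : T.H X) * β) := by
    intro r i
    have e1 : T.pull p x *
        (T.pull p (T.pull φ (e r i : T.H X)) * T.pull q (f r i : T.H X)) * T.pull q β =
        T.pull p (x * T.pull φ (e r i : T.H X)) * T.pull q ((f r i : T.H X) * β) := by
      rw [map_mul (T.pull p), map_mul (T.pull q)]
      simp only [mul_assoc]
    rw [e1, tr_prod_all T p q hP]
  simp only [Finset.mul_sum, Finset.sum_mul, map_sum, hterm]
  -- now a statement on `X` alone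
  refine hom_induction T X (motive := fun β => T.tr X (x * T.pull φ β) =
    ∑ r ∈ Finset.range (2 * dim X.obj.left + 1), ∑ i : ι r,
      T.tr X (x * T.pull φ (e r i : T.H X)) * T.tr X ((f r i : T.H X) * β)) ?_ ?_ β
  · intro t b hb
    by_cases ht : 0 ≤ t ∧ t ≤ 2 * (dim X.obj.left : ℤ)
    · obtain ⟨ht0, ht1⟩ := ht
      obtain ⟨r₀, rfl⟩ := Int.eq_ofNat_of_zero_le ht0
      have hr₀ : r₀ ≤ 2 * dim X.obj.left := by omega
      rw [Finset.sum_eq_single r₀]
      · have hb' : b = ∑ i : ι r₀, T.tr X ((f r₀ i : T.H X) * b) • (e r₀ i : T.H X) := by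
          have h1 := congrArg Subtype.val ((e r₀).sum_repr ⟨b, hb⟩)
          rw [Submodule.coe_sum] at h1
          simp only [Submodule.coe_smul] at h1
          conv_lhs => rw [← h1]
          refine Finset.sum_congr rfl fun i _ => ?_
          rw [← repr_eq_tr T X r₀ (e r₀) (f r₀) (hef r₀ hr₀) ⟨b, hb⟩ i]
        conv_lhs => rw [hb']
        rw [map_sum, Finset.mul_sum, map_sum]
        refine Finset.sum_congr rfl fun i _ => ?_
        rw [map_smul, mul_smul_comm, map_smul, smul_eq_mul, mul_comm]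
      · intro r _ hne
        refine Finset.sum_eq_zero fun i _ => ?_
        rw [T.tr_vanish X _ _ (SetLike.mul_mem_graded (f r i).2 hb) (by
          intro h
          apply hne
          omega), mul_zero]
      · intro hn
        exact absurd (Finset.mem_range.2 (by omega)) hn
    · have hb0 : b = 0 := by
        apply eq_zero_of_vanish T X t b hb
        by_contra hcon
        apply ht
        constructor <;> omega
      rw [hb0]
      simp
  · intro y z hy hz
    rw [map_add, mul_add, map_add, hy, hz, ← Finset.sum_add_distrib]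
    refine Finset.sum_congr rfl fun r _ => ?_
    rw [← Finset.sum_add_distrib]
    refine Finset.sum_congr rfl fun i _ => ?_
    rw [mul_add, map_add, mul_add]

end Graph

end Groth.Agent.WCF9
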