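import Mathlib
import Groth.Prelude.Def_WeilCoh
import Groth.Agent.Lib.WeilCohG4_helper9

/-! Weil cohomology, geometry part 5 (helper9): Künneth projectors are algebraic when the
characteristic polynomials of an endomorphism on the `H^i` are pairwise coprime.
APPEND-ONLY once landed. -/

universe u v w

open CategoryTheory AlgebraicGeometry

namespace Groth.Agent.WCF9

open WeilCoh Groth.Agent.Lib.WeilCohH5

section Lift

variable {k : Type u} [Field k]

/-- Morphisms into a product in `Var k`. -/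
lemma exists_lift {X Y Q Z : Var k} (p : Q ⟶ X) (q : Q ⟶ Y) (hQ : IsProd p q) (a : Z ⟶ X)
    (b : Z ⟶ Y) : ∃ c : Z ⟶ Q, c ≫ p = a ∧ c ≫ q = b := by
  have w : sm a ≫ X.obj.hom = sm b ≫ Y.obj.hom := by
    rw [Over.w a.hom, Over.w b.hom]
  have hw : hQ.lift (sm a) (sm b) w ≫ Q.obj.hom = Z.obj.hom := by
    rw [← Over.w p.hom, ← Category.assoc]
    show (hQ.lift (sm a) (sm b) w ≫ sm p) ≫ X.obj.hom = _
    rw [hQ.lift_fst, Over.w a.hom]
  refine ⟨ObjectProperty.homMk (Over.homMk (hQ.lift (sm a) (sm b) w) hw), ?_, ?_⟩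
  · apply ObjectProperty.hom_ext
    apply Over.OverMorphism.ext
    exact hQ.lift_fst _ _ _
  · apply ObjectProperty.hom_ext
    apply Over.OverMorphism.ext
    exact hQ.lift_snd _ _ _

/-- Iterates of an endomorphism. -/
noncomputable def iter {X : Var k} (F : X ⟶ X) : ℕ → (X ⟶ X)
  | 0 => 𝟙 X
  | n + 1 => F ≫ iter F n

end Lift

section Proj

variable {k : Type u} [Field k] {K : Type v} [Field K]
  (T : WeilCoh.TheoryOn.{u, v, w} k (IsVar k) K)

lemma pull_iter {X : Var k} (F : X ⟶ X) (n : ℕ) (m : ℤ) (b : T.gr X m) :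
    T.pull (iter F n) (b : T.H X) = (((T.pullDeg F m) ^ n) b : T.H X) := by
  induction n generalizing b with
  | zero =>
    rw [iter, T.pull_id, pow_zero]
    rfl
  | succ n ih =>
    rw [iter, ← pull_pull, ih, pow_succ']
    rfl

lemma push_sum_graph {X P : Var k} [IrreducibleSpace ↥X.obj.left] (p q : P ⟶ X)
    (hP : IsProd p q) (s : Finset ℕ) (c : ℕ → K) (J : ℕ → (X ⟶ P)) (hJ : ∀ n, J n ≫ q = 𝟙 X)
    (hu : (∑ n ∈ s, c n • T.cl P (sm (J n) (genericPoint ↥X.obj.left))) ∈
      T.gr P (2 * (dim X.obj.left : ℤ)))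
    (m : ℤ) (b : T.gr X m) :
    (T.push q (m + 2 * (dim X.obj.left : ℤ))
      ⟨T.pull p (b : T.H X) * ∑ n ∈ s, c n • T.cl P (sm (J n) (genericPoint ↥X.obj.left)),
        SetLike.mul_mem_graded (T.pull_mem p m b b.2) hu⟩ : T.H X) =
      ∑ n ∈ s, c n • T.pull (J n ≫ p) (b : T.H X) := by
  have hd := dim_prod T p q hP
  refine push_eq T q _ _ _ m (by omega) ?_ ?_
  · exact Submodule.sum_mem _ fun n _ => Submodule.smul_mem _ _ (T.pull_mem (J n ≫ p) m b b.2)
  · intro β
    dsimp only
    rw [Finset.mul_sum, Finset.sum_mul, map_sum, Finset.sum_mul, map_sum]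
    refine Finset.sum_congr rfl fun n _ => ?_
    rw [mul_smul_comm, smul_mul_assoc, map_smul, smul_mul_assoc, map_smul,
      tr_sandwich_graph' T p q hP (J n) (hJ n)]

theorem s19415 {X P : Var k} (p q : P ⟶ X) (hP : IsProd p q) (F : X ⟶ X)
    (hF : ∀ i j : ℤ, i ≠ j → IsCoprime (T.pullDeg F i).charpoly (T.pullDeg F j).charpoly)
    (i : ℤ) :
    ∃ u : ↥(T.gr P (2 * (dim X.obj.left : ℤ))),
      (u : T.H P) ∈ Submodule.span K (Set.range (T.cl P)) ∧
        ∀ (j : ℤ) (b : ↥(T.gr X j)),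
          (T.push q (j + 2 * (dim X.obj.left : ℤ))
              ⟨T.pull p (b : T.H X) * (u : T.H P),
                SetLike.mul_mem_graded (T.pull_mem p j b b.2) u.2⟩ : T.H X) =
            if j = i then (b : T.H X) else 0 := by
  classical
  haveI : IrreducibleSpace ↥X.obj.left := X.property.2.2
  have hflip : IsProd q p := IsPullback.flip hP
  -- the transposed graphs of the iterates
  have hex : ∀ n : ℕ, ∃ c : X ⟶ P, c ≫ p = iter F n ∧ c ≫ q = 𝟙 X :=
    fun n => exists_lift p q hP (iter F n) (𝟙 X)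
  choose J hJp hJq using hex
  let S : Finset ℤ := Finset.Icc 0 (2 * (dim X.obj.left : ℤ))
  -- the polynomial
  obtain ⟨Pol, hPol0, hPol1⟩ : ∃ Pol : Polynomial K,
      (∀ m ∈ S, m ≠ i → Polynomial.aeval (T.pullDeg F m) Pol = 0) ∧
      (i ∈ S → Polynomial.aeval (T.pullDeg F i) Pol = 1) := by
    have hcop : IsCoprime (T.pullDeg F i).charpoly
        (∏ m ∈ S.erase i, (T.pullDeg F m).charpoly) :=
      IsCoprime.prod_right fun m hm => hF i m (Finset.ne_of_mem_erase hm).symm
    obtain ⟨a, b, hab⟩ := hcop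
    refine ⟨b * ∏ m ∈ S.erase i, (T.pullDeg F m).charpoly, ?_, ?_⟩
    · intro m hm hmi
      obtain ⟨c, hc⟩ := Finset.dvd_prod_of_mem (fun m => (T.pullDeg F m).charpoly)
        (Finset.mem_erase.2 ⟨hmi, hm⟩)
      rw [hc, map_mul, map_mul, LinearMap.aeval_self_charpoly, zero_mul, mul_zero]
    · intro _
      have h1 : b * ∏ m ∈ S.erase i, (T.pullDeg F m).charpoly =
          1 - a * (T.pullDeg F i).charpoly := by
        rw [← hab]
        ring
      rw [h1, map_sub, map_one, map_mul, LinearMap.aeval_self_charpoly, mul_zero]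
      simp
  have hmemn : ∀ n : ℕ, T.cl P (sm (J n) (genericPoint ↥X.obj.left)) ∈
      T.gr P (2 * (dim X.obj.left : ℤ)) := by
    intro n
    have h := T.cl_mem P (sm (J n) (genericPoint ↥X.obj.left))
    rwa [codim_graph T q p hflip (J n) (hJq n)] at h
  let s : Finset ℕ := Finset.range (Pol.natDegree + 1)
  have hu : (∑ n ∈ s, Pol.coeff n • T.cl P (sm (J n) (genericPoint ↥X.obj.left))) ∈
      T.gr P (2 * (dim X.obj.left : ℤ)) :=
    Submodule.sum_mem _ fun n _ => Submodule.smul_mem _ _ (hmemn n)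
  refine ⟨⟨_, hu⟩, ?_, ?_⟩
  · show (∑ n ∈ s, Pol.coeff n • T.cl P (sm (J n) (genericPoint ↥X.obj.left))) ∈
      Submodule.span K (Set.range (T.cl P))
    exact Submodule.sum_mem _ fun n _ => Submodule.smul_mem _ _
      (Submodule.subset_span (Set.mem_range_self _))
  · intro m b
    have key := push_sum_graph T p q hP s Pol.coeff J hJq hu m b
    have hval : (∑ n ∈ s, Pol.coeff n • T.pull (J n ≫ p) (b : T.H X)) =
        ((Polynomial.aeval (T.pullDeg F m) Pol) b : T.H X) := by
      rw [Polynomial.aeval_eq_sum_range, LinearMap.sum_apply, Submodule.coe_sum]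
      refine Finset.sum_congr rfl fun n _ => ?_
      rw [LinearMap.smul_apply, Submodule.coe_smul, hJp, pull_iter]
    show (T.push q (m + 2 * (dim X.obj.left : ℤ))
      ⟨T.pull p (b : T.H X) *
        ∑ n ∈ s, Pol.coeff n • T.cl P (sm (J n) (genericPoint ↥X.obj.left)), _⟩ : T.H X) = _
    rw [key, hval]
    by_cases hm : m ∈ S
    · by_cases hmi : m = i
      · subst hmi
        rw [if_pos rfl, hPol1 hm]
        rfl
      · rw [if_neg hmi, hPol0 m hm hmi]
        rfl
    · have hb0 : (b : T.H X) = 0 := by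
        apply eq_zero_of_vanish T X m _ b.2
        simp only [S, Finset.mem_Icc, not_and_or, not_le] at hm
        exact hm
      have hb0' : b = 0 := Subtype.ext hb0
      rw [hb0', map_zero]
      simp

end Proj

end Groth.Agent.WCF9
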