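import Mathlib
import Groth.Prelude.Def_WeilCoh
import Groth.Agent.Lib.HtTrdeg_helper8
import Groth.Agent.Lib.ClosHt_helper8
import Groth.Agent.Lib.WeilCohG5_helper9

/-! Weil cohomology, geometry part 6 (helper9): a finite residue field extension preserves the
dimension of closures; the push-forward identity against all classes; `f_* cl(Z) = deg · cl(f Z)`.
APPEND-ONLY once landed. -/

universe u v w

open CategoryTheory AlgebraicGeometry

namespace Groth.Agent.WCF9

open WeilCoh Groth.Agent.Lib.WeilCohH5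

lemma pdim_eq_of_height {X : Scheme.{u}} (ξ : X) (n : ℕ) (h : Order.height ξ = n) :
    pdim X ξ = n := by
  unfold pdim natDim
  rw [Groth.Agent.ClosHtH8.topologicalKrullDim_closure_singleton, h]
  simp

section

variable {k : Type u} [Field k]

/-- Compatibility of the `k`-structures on residue fields along a `k`-morphism. -/
lemma resMap_comp {X Y : Scheme.{u}} (pX : X ⟶ Spec (CommRingCat.of k))
    (pY : Y ⟶ Spec (CommRingCat.of k)) (f : X ⟶ Y) (hf : f ≫ pY = pX) (x : X) :
    @Curv2.resMap k _ X ⟨pX⟩ x =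
      (f.residueFieldMap x).hom.comp (@Curv2.resMap k _ Y ⟨pY⟩ (f x)) := by
  ext c
  subst hf
  simp only [Curv2.resMap, Curv2.stalkMap, Coh.toGlobal, RingHom.comp_apply]
  exact (Scheme.Γevaluation_naturality_apply f x _).symm

lemma trdeg_eq_of_finite {X Y : Scheme.{u}} (pX : X ⟶ Spec (CommRingCat.of k))
    (pY : Y ⟶ Spec (CommRingCat.of k)) (f : X ⟶ Y) (hf : f ≫ pY = pX) (x : X)
    (h : f.residueDegree x ≠ 0) :
    @Algebra.trdeg k (X.residueField x) _ _ (@Curv2.resAlgebra k _ X ⟨pX⟩ x) =
      @Algebra.trdeg k (Y.residueField (f x)) _ _ (@Curv2.resAlgebra k _ Y ⟨pY⟩ (f x)) := by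
  letI a1 : Algebra k (Y.residueField (f x)) := @Curv2.resAlgebra k _ Y ⟨pY⟩ (f x)
  letI a2 : Algebra k (X.residueField x) := @Curv2.resAlgebra k _ X ⟨pX⟩ x
  letI a3 : Algebra (Y.residueField (f x)) (X.residueField x) :=
    (f.residueFieldMap x).hom.toAlgebra
  haveI : IsScalarTower k (Y.residueField (f x)) (X.residueField x) :=
    IsScalarTower.of_algebraMap_eq' (resMap_comp pX pY f hf x)
  haveI : Module.Finite (Y.residueField (f x)) (X.residueField x) :=
    Module.finite_of_finrank_pos (Nat.pos_of_ne_zero h)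
  haveI : Algebra.IsAlgebraic (Y.residueField (f x)) (X.residueField x) :=
    Algebra.IsAlgebraic.of_finite _ _
  haveI : FaithfulSMul k (Y.residueField (f x)) :=
    (faithfulSMul_iff_algebraMap_injective _ _).2 (RingHom.injective _)
  haveI : FaithfulSMul (Y.residueField (f x)) (X.residueField x) :=
    (faithfulSMul_iff_algebraMap_injective _ _).2 (RingHom.injective _)
  have h1 := trdeg_add_eq k (Y.residueField (f x)) (A := X.residueField x)
  rw [trdeg_eq_zero (R := Y.residueField (f x)), add_zero] at h1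
  exact h1.symm

/-- A finite residue field extension preserves the dimension of the closure. -/
lemma pdim_eq_of_finite {X Y : Var k} (f : X ⟶ Y) (ξ : X.obj.left)
    (h : (sm f).residueDegree ξ ≠ 0) :
    pdim Y.obj.left (sm f ξ) = pdim X.obj.left ξ := by
  haveI : Smooth X.obj.hom := X.property.1
  haveI : Smooth Y.obj.hom := Y.property.1
  letI ovX : X.obj.left.Over (Spec (CommRingCat.of k)) := ⟨X.obj.hom⟩
  letI ovY : Y.obj.left.Over (Spec (CommRingCat.of k)) := ⟨Y.obj.hom⟩
  haveI : LocallyOfFiniteType (X.obj.left ↘ Spec (CommRingCat.of k)) :=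
    inferInstanceAs (LocallyOfFiniteType X.obj.hom)
  haveI : LocallyOfFiniteType (Y.obj.left ↘ Spec (CommRingCat.of k)) :=
    inferInstanceAs (LocallyOfFiniteType Y.obj.hom)
  obtain ⟨n, hn, hh⟩ := Groth.Agent.HtTrdegH8.height_eq_trdeg k X.obj.left ξ
  obtain ⟨m, hm, hh'⟩ := Groth.Agent.HtTrdegH8.height_eq_trdeg k Y.obj.left (sm f ξ)
  have ht := trdeg_eq_of_finite X.obj.hom Y.obj.hom (sm f) (Over.w f.hom) ξ h
  have hnm : n = m := by
    have : ((n : ℕ) : Cardinal) = ((m : ℕ) : Cardinal) := by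
      rw [← hn, ← hm]
      exact ht
    exact_mod_cast this
  rw [pdim_eq_of_height ξ n hh, pdim_eq_of_height (sm f ξ) m hh', hnm]

end

section Push

variable {k : Type u} [Field k] {K : Type v} [Field K]
  (T : WeilCoh.TheoryOn.{u, v, w} k (IsVar k) K)

/-- The push-forward identity against all classes. -/
theorem cl_push_all {X Y : Var k} (f : X ⟶ Y) (ξ : X.obj.left) (β : T.H Y) :
    T.tr X (T.cl X ξ * T.pull f β) =
      ((sm f).residueDegree ξ : K) * T.tr Y (T.cl Y (sm f ξ) * β) := by
  have hle := pdim_le_dim X ξ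
  have hle' := pdim_le_dim Y (sm f ξ)
  refine hom_induction T Y (motive := fun β => T.tr X (T.cl X ξ * T.pull f β) =
      ((sm f).residueDegree ξ : K) * T.tr Y (T.cl Y (sm f ξ) * β)) ?_ ?_ β
  · intro t b hb
    by_cases ht : t = 2 * (pdim X.obj.left ξ : ℤ)
    · subst ht
      exact T.cl_push f ξ b hb
    · rw [T.tr_vanish X _ _ (SetLike.mul_mem_graded (T.cl_mem X ξ) (T.pull_mem f t b hb)) (by
        unfold codim
        omega)]
      by_cases hdeg : (sm f).residueDegree ξ = 0
      · rw [hdeg, Nat.cast_zero, zero_mul]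
      · have hp := pdim_eq_of_finite f ξ hdeg
        rw [T.tr_vanish Y _ _ (SetLike.mul_mem_graded (T.cl_mem Y (sm f ξ)) hb) (by
          unfold codim
          omega), mul_zero]
  · intro x y hx hy
    rw [map_add, mul_add, map_add, hx, hy, mul_add, map_add, mul_add]

theorem s15448 {X Y : Var k} (f : X ⟶ Y) (ξ : X.obj.left) :
    (T.push f (2 * (codim X.obj.left ξ : ℤ)) ⟨T.cl X ξ, T.cl_mem X ξ⟩ : T.H Y) =
      ((sm f).residueDegree ξ : K) • T.cl Y (sm f ξ) := by
  have hle := pdim_le_dim X ξ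
  have hle' := pdim_le_dim Y (sm f ξ)
  by_cases hdeg : (sm f).residueDegree ξ = 0
  · rw [hdeg, Nat.cast_zero, zero_smul]
    refine push_eq T f _ _ _ _ rfl (Submodule.zero_mem _) ?_
    intro β
    dsimp only
    rw [cl_push_all, hdeg, Nat.cast_zero, zero_mul, zero_mul, map_zero]
  · have hp := pdim_eq_of_finite f ξ hdeg
    refine push_eq T f _ _ _ (2 * (codim Y.obj.left (sm f ξ) : ℤ)) (by
      unfold codim
      omega) (Submodule.smul_mem _ _ (T.cl_mem Y (sm f ξ))) ?_
    intro β
    dsimp only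
    rw [cl_push_all, smul_mul_assoc, map_smul, smul_eq_mul]

end Push

end Groth.Agent.WCF9
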