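import Mathlib
import Groth.Prelude.Def_WeilCoh
import Groth.Agent.Lib.WeilCohG6_helper9

/-! Weil cohomology, geometry part 7 (helper9): the cycle class map is compatible with proper
push-forward of cycles.
APPEND-ONLY once landed. -/

universe u v w

open CategoryTheory AlgebraicGeometry

namespace Groth.Agent.WCF9

open WeilCoh Groth.Agent.Lib.WeilCohH5

/-- Transcendence degrees in a tower of residue fields with finite top step. -/
lemma trdeg_comp_of_finite {X Y S : Scheme.{u}} (f : X ⟶ Y) (g : Y ⟶ S) (x : X)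
    (h : f.residueDegree x ≠ 0) :
    @Algebra.trdeg (S.residueField (g (f x))) (X.residueField x) _ _
        ((f ≫ g).residueFieldMap x).hom.toAlgebra =
      @Algebra.trdeg (S.residueField (g (f x))) (Y.residueField (f x)) _ _
        (g.residueFieldMap (f x)).hom.toAlgebra := by
  letI a1 : Algebra (S.residueField (g (f x))) (Y.residueField (f x)) :=
    (g.residueFieldMap (f x)).hom.toAlgebra
  letI a2 : Algebra (S.residueField (g (f x))) (X.residueField x) :=
    ((f ≫ g).residueFieldMap x).hom.toAlgebra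
  letI a3 : Algebra (Y.residueField (f x)) (X.residueField x) :=
    (f.residueFieldMap x).hom.toAlgebra
  haveI : IsScalarTower (S.residueField (g (f x))) (Y.residueField (f x)) (X.residueField x) :=
    IsScalarTower.of_algebraMap_eq' (by
      show ((f ≫ g).residueFieldMap x).hom = (f.residueFieldMap x).hom.comp
        (g.residueFieldMap (f x)).hom
      rw [Scheme.residueFieldMap_comp]
      rfl)
  haveI : Module.Finite (Y.residueField (f x)) (X.residueField x) :=
    Module.finite_of_finrank_pos (Nat.pos_of_ne_zero h)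
  haveI : Algebra.IsAlgebraic (Y.residueField (f x)) (X.residueField x) :=
    Algebra.IsAlgebraic.of_finite _ _
  haveI : FaithfulSMul (S.residueField (g (f x))) (Y.residueField (f x)) :=
    (faithfulSMul_iff_algebraMap_injective _ _).2 (RingHom.injective _)
  haveI : FaithfulSMul (Y.residueField (f x)) (X.residueField x) :=
    (faithfulSMul_iff_algebraMap_injective _ _).2 (RingHom.injective _)
  have h1 := trdeg_add_eq (S.residueField (g (f x))) (Y.residueField (f x))
    (A := X.residueField x)
  rw [trdeg_eq_zero (R := Y.residueField (f x)), add_zero] at h1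
  exact h1.symm

section

variable {k : Type u} [Field k]

lemma mapCoeff_eq {X Y : Var k} (f : X ⟶ Y) (δX : ↥X.obj.left → ℤ)
    (hδX : Cyc.DeltaCompat X.obj.hom δX (fun _ => 0)) (δY : ↥Y.obj.left → ℤ)
    (hδY : Cyc.DeltaCompat Y.obj.hom δY (fun _ => 0)) (x : X.obj.left) :
    AlgebraicCycle.mapCoeff (sm f) δX δY x = (sm f).residueDegree x := by
  unfold AlgebraicCycle.mapCoeff
  split_ifs with h
  · rfl
  · by_contra hne
    have hne' : (sm f).residueDegree x ≠ 0 := fun h0 => hne h0.symm
    apply h
    have hX : X.obj.hom = sm f ≫ Y.obj.hom := (Over.w f.hom).symm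
    rw [hX] at hδX
    obtain ⟨n, hn, hx⟩ := hδX x
    obtain ⟨m, hm, hy⟩ := hδY (sm f x)
    have ht := trdeg_comp_of_finite (sm f) Y.obj.hom x hne'
    have hnm : n = m := by
      have : ((n : ℕ) : Cardinal) = ((m : ℕ) : Cardinal) := by
        rw [← hn, ← hm]
        exact ht
      exact_mod_cast this
    show δX x = δY ((sm f) x)
    rw [hx, hy, hnm]

end

section Cycle

variable {k : Type u} [Field k] {K : Type v} [Field K]
  (T : WeilCoh.TheoryOn.{u, v, w} k (IsVar k) K)

lemma compactSpace_var (X : Var k) : CompactSpace ↥X.obj.left := by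
  haveI := isProper_var X
  exact QuasiCompact.compactSpace_of_compactSpace X.obj.hom

lemma finite_support_cycle (X : Var k) (α : AlgebraicCycle X.obj.left ℤ) :
    (Function.support α).Finite := by
  haveI := compactSpace_var X
  have := α.locallyFiniteSupport.finite_inter_support_of_isCompact
    (W := Set.univ) isCompact_univ
  simpa using this

lemma clCyc_eq_sum (X : Var k) (α : AlgebraicCycle X.obj.left ℤ) (s : Finset X.obj.left)
    (hs : Function.support α ⊆ s) :
    T.clCyc X α = ∑ ξ ∈ s, ((α ξ : ℤ) : K) • T.cl X ξ := by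
  unfold TheoryOn.clCyc
  refine finsum_eq_sum_of_support_subset _ ?_
  intro ξ hξ
  apply hs
  intro h0
  apply hξ
  simp [h0]

theorem s15458 {X Y : Var k} (f : X ⟶ Y) [QuasiCompact (sm f)]
    (δX : ↥X.obj.left → ℤ) (hδX : Cyc.DeltaCompat X.obj.hom δX (fun _ => 0))
    (δY : ↥Y.obj.left → ℤ) (hδY : Cyc.DeltaCompat Y.obj.hom δY (fun _ => 0))
    (α : AlgebraicCycle X.obj.left ℤ) (b : T.H Y) :
    T.tr Y (T.clCyc Y (AlgebraicCycle.map (sm f) δX δY α) * b) =
      T.tr X (T.clCyc X α * T.pull f b) := by
  classical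
  let sX : Finset X.obj.left := (finite_support_cycle X α).toFinset
  have hsX : Function.support α ⊆ sX := by
    intro x hx
    simpa [sX] using hx
  let sY : Finset Y.obj.left := sX.image (sm f)
  let β := AlgebraicCycle.map (sm f) δX δY α
  -- value of the push-forward
  have hβ : ∀ z, β z = ∑ x ∈ sX with sm f x = z, α x * ((sm f).residueDegree x : ℤ) := by
    intro z
    show (∑ᶠ x ∈ (sm f) ⁻¹' {z}, α x * ((AlgebraicCycle.mapCoeff (sm f) δX δY x : ℕ) : ℤ)) = _
    rw [finsum_mem_eq_sum_of_subset (t := sX.filter (fun x => sm f x = z))]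
    · refine Finset.sum_congr rfl fun x _ => ?_
      rw [mapCoeff_eq f δX hδX δY hδY]
    · rintro x ⟨hx1, hx2⟩
      rw [Finset.coe_filter]
      refine ⟨hsX ?_, hx1⟩
      intro h0
      apply hx2
      simp [h0]
    · intro x hx
      rw [Finset.coe_filter] at hx
      exact hx.2
  have hsY : Function.support β ⊆ sY := by
    intro z hz
    have hz' : β z ≠ 0 := hz
    rw [hβ z] at hz'
    obtain ⟨x, hx, -⟩ := Finset.exists_ne_zero_of_sum_ne_zero hz'
    rw [Finset.mem_filter] at hx
    rw [Finset.coe_image]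
    exact ⟨x, hx.1, hx.2⟩
  rw [clCyc_eq_sum T Y β sY hsY, clCyc_eq_sum T X α sX hsX, Finset.sum_mul, map_sum,
    Finset.sum_mul, map_sum]
  have hR : ∀ ξ ∈ sX, T.tr X (((α ξ : ℤ) : K) • T.cl X ξ * T.pull f b) =
      ((α ξ : ℤ) : K) * (((sm f).residueDegree ξ : K) * T.tr Y (T.cl Y (sm f ξ) * b)) := by
    intro ξ _
    rw [smul_mul_assoc, map_smul, smul_eq_mul, cl_push_all]
  rw [Finset.sum_congr rfl hR]
  have hL : ∀ z ∈ sY, T.tr Y (((β z : ℤ) : K) • T.cl Y z * b) =
      ∑ x ∈ sX with sm f x = z,
        ((α x : ℤ) : K) * (((sm f).residueDegree x : K) * T.tr Y (T.cl Y (sm f x) * b)) := by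
    intro z _
    rw [smul_mul_assoc, map_smul, smul_eq_mul, hβ z, Int.cast_sum, Finset.sum_mul]
    refine Finset.sum_congr rfl fun x hx => ?_
    rw [Finset.mem_filter] at hx
    rw [hx.2]
    push_cast
    ring
  rw [Finset.sum_congr rfl hL]
  exact Finset.sum_fiberwise_of_maps_to (fun x hx => Finset.mem_image_of_mem _ hx) _

end Cycle

end Groth.Agent.WCF9
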