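import Mathlib
import Groth.Prelude.Def_WeilCoh
import Groth.Prelude.Def_ChowOps
import Groth.Agent.Lib.WeilCohG7_helper9

/-! Weil cohomology, geometry part 8 (helper9): degree of a zero-cycle as the trace of its class;
homological equivalence of zero-cycles is detected by the degree.
APPEND-ONLY once landed. -/

universe u v w

open CategoryTheory AlgebraicGeometry

namespace Groth.Agent.WCF9

open WeilCoh Groth.Agent.Lib.WeilCohH5

lemma trdeg_eq_zero_of_residueDegree_ne_zero {X Y : Scheme.{u}} (f : X ⟶ Y) (x : X)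
    (h : f.residueDegree x ≠ 0) :
    @Algebra.trdeg (Y.residueField (f x)) (X.residueField x) _ _
      (f.residueFieldMap x).hom.toAlgebra = 0 := by
  letI a3 : Algebra (Y.residueField (f x)) (X.residueField x) :=
    (f.residueFieldMap x).hom.toAlgebra
  haveI : Module.Finite (Y.residueField (f x)) (X.residueField x) :=
    Module.finite_of_finrank_pos (Nat.pos_of_ne_zero h)
  haveI : Algebra.IsAlgebraic (Y.residueField (f x)) (X.residueField x) :=
    Algebra.IsAlgebraic.of_finite _ _
  exact trdeg_eq_zero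

section

variable {k : Type u} [Field k]

lemma deltaCompat_pt : Cyc.DeltaCompat (pt k).obj.hom (fun _ => (0 : ℤ)) (fun _ => 0) := by
  intro x
  have h1 : Scheme.Hom.residueDegree (𝟙 (Spec (CommRingCat.of k))) x ≠ 0 := by
    rw [Scheme.Hom.residueDegree_id]
    exact one_ne_zero
  refine ⟨0, ?_, by simp⟩
  rw [Nat.cast_zero]
  exact trdeg_eq_zero_of_residueDegree_ne_zero (𝟙 (Spec (CommRingCat.of k))) x h1

end

section Deg

variable {k : Type u} [Field k] {K : Type v} [Field K]
  (T : WeilCoh.TheoryOn.{u, v, w} k (IsVar k) K)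

theorem s15459 (X : Var k) [QuasiCompact X.obj.hom] (δ : ↥X.obj.left → ℤ)
    (hδ : Cyc.DeltaCompat X.obj.hom δ (fun _ => 0)) (α : AlgebraicCycle X.obj.left ℤ) :
    (ChowOps.deg X.obj.hom δ α : K) = T.tr X (T.clCyc X α) := by
  haveI : QuasiCompact (sm (toPt X)) := ‹QuasiCompact X.obj.hom›
  have h := s15458 T (toPt X) δ hδ (fun _ => (0 : ℤ)) deltaCompat_pt α 1
  rw [map_one, mul_one, mul_one] at h
  rw [← h]
  let a₀ : (pt k).obj.left := IsLocalRing.closedPoint k
  unfold TheoryOn.clCyc
  rw [finsum_eq_single _ a₀ (fun z hz => absurd (Subsingleton.elim z a₀) hz), cl_pt, map_smul,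
    tr_pt_one, smul_eq_mul, mul_one]
  rfl

end Deg

section HomEq

variable {k : Type u} [Field k]

lemma isMin_of_subsingleton' {A : Type*} [Preorder A] [Subsingleton A] (a : A) : IsMin a :=
  fun b _ => by rw [Subsingleton.elim a b]

/-- A point of `δ`-dimension zero has a closure of dimension zero. -/
lemma pdim_eq_zero_of_delta (X : Var k) (δ : ↥X.obj.left → ℤ)
    (hδ : Cyc.DeltaCompat X.obj.hom δ (fun _ => 0)) (x : X.obj.left) (hx : δ x = 0) :
    pdim X.obj.left x = 0 := by
  haveI : Smooth X.obj.hom := X.property.1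
  letI ovX : X.obj.left.Over (Spec (CommRingCat.of k)) := ⟨X.obj.hom⟩
  letI ovS : (Spec (CommRingCat.of k)).Over (Spec (CommRingCat.of k)) := ⟨𝟙 _⟩
  haveI : LocallyOfFiniteType (X.obj.left ↘ Spec (CommRingCat.of k)) :=
    inferInstanceAs (LocallyOfFiniteType X.obj.hom)
  haveI : LocallyOfFiniteType (Spec (CommRingCat.of k) ↘ Spec (CommRingCat.of k)) :=
    inferInstanceAs (LocallyOfFiniteType (𝟙 (Spec (CommRingCat.of k))))
  obtain ⟨n, hn, hh⟩ := Groth.Agent.HtTrdegH8.height_eq_trdeg k X.obj.left x
  obtain ⟨m, hm, hh'⟩ := Groth.Agent.HtTrdegH8.height_eq_trdeg k (Spec (CommRingCat.of k))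
    (X.obj.hom x)
  obtain ⟨r, hr, hδx⟩ := hδ x
  have hr0 : r = 0 := by
    rw [hx] at hδx
    simpa using hδx.symm
  subst hr0
  have hm0 : m = 0 := by
    haveI : Subsingleton ↥(Spec (CommRingCat.of k)) :=
      inferInstanceAs (Subsingleton (PrimeSpectrum k))
    have : Order.height (X.obj.hom x) = 0 :=
      Order.height_eq_zero.2 (isMin_of_subsingleton' _)
    rw [this] at hh'
    exact_mod_cast hh'.symm
  subst hm0
  -- the tower k → κ(pt) → κ(x)
  letI a1 : Algebra k ((Spec (CommRingCat.of k)).residueField (X.obj.hom x)) :=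
    @Curv2.resAlgebra k _ (Spec (CommRingCat.of k)) ovS (X.obj.hom x)
  letI a2 : Algebra k (X.obj.left.residueField x) := @Curv2.resAlgebra k _ X.obj.left ovX x
  letI a3 : Algebra ((Spec (CommRingCat.of k)).residueField (X.obj.hom x))
      (X.obj.left.residueField x) := (X.obj.hom.residueFieldMap x).hom.toAlgebra
  haveI : IsScalarTower k ((Spec (CommRingCat.of k)).residueField (X.obj.hom x))
      (X.obj.left.residueField x) :=
    IsScalarTower.of_algebraMap_eq' (resMap_comp X.obj.hom (𝟙 _) X.obj.hom (Category.comp_id _) x)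
  haveI : FaithfulSMul k ((Spec (CommRingCat.of k)).residueField (X.obj.hom x)) :=
    (faithfulSMul_iff_algebraMap_injective _ _).2 (RingHom.injective _)
  haveI : FaithfulSMul ((Spec (CommRingCat.of k)).residueField (X.obj.hom x))
      (X.obj.left.residueField x) :=
    (faithfulSMul_iff_algebraMap_injective _ _).2 (RingHom.injective _)
  have h1 := trdeg_add_eq k ((Spec (CommRingCat.of k)).residueField (X.obj.hom x))
    (A := X.obj.left.residueField x)
  have hn0 : n = 0 := by
    have : ((n : ℕ) : Cardinal) = ((0 : ℕ) : Cardinal) := by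
      rw [← hn, ← h1, hm, hr]
      simp
    exact_mod_cast this
  subst hn0
  exact pdim_eq_of_height x 0 hh

variable {K : Type v} [Field K] [CharZero K]
  (T : WeilCoh.TheoryOn.{u, v, w} k (IsVar k) K)

theorem s15441 (X : Var k) [QuasiCompact X.obj.hom] (δ : ↥X.obj.left → ℤ)
    (hδ : Cyc.DeltaCompat X.obj.hom δ (fun _ => 0)) (α : AlgebraicCycle X.obj.left ℤ)
    (hα : α ∈ Cyc.Zk X.obj.left δ 0) :
    T.IsHomEquivZero X α ↔ ChowOps.deg X.obj.hom δ α = 0 := by
  classical
  have hdeg := s15459 T X δ hδ α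
  constructor
  · intro h
    have h0 : T.clCyc X α = 0 := h
    rw [h0, map_zero] at hdeg
    exact_mod_cast hdeg
  · intro h
    show T.clCyc X α = 0
    rw [h, Int.cast_zero] at hdeg
    let s : Finset X.obj.left := (finite_support_cycle X α).toFinset
    have hs : Function.support α ⊆ s := by
      intro x hx
      simpa [s] using hx
    have hmem : T.clCyc X α ∈ T.gr X (2 * (dim X.obj.left : ℤ)) := by
      rw [clCyc_eq_sum T X α s hs]
      refine Submodule.sum_mem _ fun x hx => Submodule.smul_mem _ _ ?_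
      have hx' : α x ≠ 0 := by simpa [s] using hx
      have hδx : δ x = 0 := by
        by_contra hne
        exact hx' (hα x hne)
      have hp := pdim_eq_zero_of_delta X δ hδ x hδx
      have hc := T.cl_mem X x
      unfold codim at hc
      rw [hp, Nat.sub_zero] at hc
      exact hc
    have hinj := (T.tr_bijective X).1
    have : (⟨T.clCyc X α, hmem⟩ : T.gr X (2 * (dim X.obj.left : ℤ))) = 0 := by
      apply hinj
      show T.tr X (T.clCyc X α) = T.tr X 0
      rw [← hdeg, map_zero]
    exact congrArg Subtype.val this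

end HomEq

end Groth.Agent.WCF9
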