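import Mathlib
import Groth.Prelude.Def_WeilCoh
import Groth.Agent.Lib.FrobDeg2_helper9
import Groth.Agent.Lib.WeilCohG8_helper9

/-! Degree of the relative Frobenius on a variety `X ×_{k₀} k` (helper9): sections level.
APPEND-ONLY once landed. -/

universe u

open CategoryTheory CategoryTheory.Limits AlgebraicGeometry

namespace Groth.Agent.FrobDeg9

section Sections

variable {k₀ : Type u} [Field k₀] [Finite k₀] {k : Type u} [Field k] [IsAlgClosed k]
  [Algebra k₀ k]

/-- In a finite field every element is fixed by the `card`-th power. -/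
lemma pow_natCard_eq (c : k₀) : c ^ Nat.card k₀ = c := by
  classical
  letI : Fintype k₀ := Fintype.ofFinite k₀
  rw [Nat.card_eq_fintype_card]
  exact FiniteField.pow_card c

lemma pow_natCard_eq_of_equiv {R : Type*} [CommRing R] (e : R ≃+* k₀) (c : R) :
    c ^ Nat.card k₀ = c := by
  apply e.injective
  rw [map_pow, pow_natCard_eq]

end Sections


section Sections2

variable {k₀ : Type u} [Field k₀] [Finite k₀] {k : Type u} [Field k] [IsAlgClosed k]
  [Algebra k₀ k]
  {X Y : Scheme.{u}} (f : X ⟶ Spec (CommRingCat.of k₀)) (g : Y ⟶ Spec (CommRingCat.of k))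
  (π : Y ⟶ X) (hπ : IsPullback π g f (Spec.map (CommRingCat.ofHom (algebraMap k₀ k))))
  (FX : X ⟶ X) (hle : ∀ U : X.Opens, U ≤ FX ⁻¹ᵁ U)
  (hFapp : ∀ (U : X.Opens) (s : Γ(X, U)), (FX.appLE U U (hle U)).hom s = s ^ Nat.card k₀)
  (Fb : Y ⟶ Y) (hFg : Fb ≫ g = g) (hF : Fb ≫ π = π ≫ FX)
  (p e : ℕ) [Fact p.Prime] [CharP k p] (hq : Nat.card k₀ = p ^ e)

/-- The preimage of `U` in the base change. -/
noncomputable def UY (U : X.Opens) : Y.Opens := π ⁻¹ᵁ U ⊓ g ⁻¹ᵁ ⊤

include hle hF in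
lemma UY_le (U : X.Opens) : UY g π U ≤ Fb ⁻¹ᵁ UY g π U := by
  intro y hy
  refine ⟨?_, trivial⟩
  have h1 : π y ∈ U := hy.1
  have h2 : (Fb ≫ π) y = (π ≫ FX) y := by rw [hF]
  change π (Fb y) ∈ U
  have h3 : π (Fb y) = FX (π y) := h2
  rw [h3]
  exact hle U h1

include hπ in
lemma isAffineOpen_UY (U : X.Opens) (hU : IsAffineOpen U) : IsAffineOpen (UY g π U) := by
  have hUS : IsAffineOpen (⊤ : (Spec (CommRingCat.of k₀)).Opens) := isAffineOpen_top _
  have hUT : IsAffineOpen (⊤ : (Spec (CommRingCat.of k)).Opens) := isAffineOpen_top _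
  have : IsAffine ((⊤ : (Spec (CommRingCat.of k₀)).Opens) : Scheme) := hUS
  have : IsAffine ((⊤ : (Spec (CommRingCat.of k)).Opens) : Scheme) := hUT
  have : IsAffine (U : Scheme) := hU
  exact .of_isIso (Scheme.Hom.isPullback_resLE hπ (US := ⊤) (UT := ⊤) (UX := U)
    (by simp) (by simp) (UY := UY g π U) rfl).isoPullback.hom

include hπ in
lemma isPushout_UY (U : X.Opens) (hU : IsAffineOpen U) :
    IsPushout (f.appLE ⊤ U (by simp))
      ((Spec.map (CommRingCat.ofHom (algebraMap k₀ k))).appLE ⊤ ⊤ (by simp))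
      (π.appLE U (UY g π U) (by intro y hy; exact hy.1))
      (g.appLE ⊤ (UY g π U) (by intro y hy; exact hy.2)) := by
  have h := isIso_pushoutSection_of_isAffineOpen hπ (US := ⊤) (UT := ⊤) (UX := U)
    (by simp) (by simp) (UY := UY g π U) rfl (isAffineOpen_top _) (isAffineOpen_top _) hU
  exact (isIso_pushoutSection_iff hπ _ _ rfl).mp h


set_option linter.unusedSectionVars false in
include hπ hFapp hFg hF hq in
/-- The relative Frobenius acts on sections over the preimage of an affine open with image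
exactly the `q`-th powers. -/
theorem appLE_frobenius_like (U : X.Opens) (hU : IsAffineOpen U)
    [Nontrivial Γ(Y, UY g π U)] :
    (∀ b : Γ(Y, UY g π U), ∃ b' : Γ(Y, UY g π U),
      (Fb.appLE (UY g π U) (UY g π U) (UY_le g π FX hle Fb hF U)).hom b = b' ^ p ^ e) ∧
    (∀ b' : Γ(Y, UY g π U), ∃ b : Γ(Y, UY g π U),
      (Fb.appLE (UY g π U) (UY g π U) (UY_le g π FX hle Fb hF U)).hom b = b' ^ p ^ e) := by
  have hPO := isPushout_UY f g π hπ U hU
  set V := UY g π U with hV
  set inl := π.appLE U V (by intro y hy; exact hy.1) with hinl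
  set inr := g.appLE ⊤ V (by intro y hy; exact hy.2) with hinr
  set i01 := (Spec.map (CommRingCat.ofHom (algebraMap k₀ k))).appLE ⊤ ⊤ (by simp) with hi01
  set φ := Fb.appLE V V (UY_le g π FX hle Fb hF U) with hφ
  -- characteristic
  haveI : ExpChar k p := ExpChar.prime Fact.out
  haveI : CharP Γ(Y, V) p :=
    charP_of_injective_ringHom
      (f := ((Scheme.ΓSpecIso (CommRingCat.of k)).inv ≫ inr).hom) (RingHom.injective _) p
  haveI : ExpChar Γ(Y, V) p := ExpChar.prime Fact.out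
  let ψ : Γ(Y, V) ⟶ Γ(Y, V) := CommRingCat.ofHom (iterateFrobenius Γ(Y, V) p e)
  have hψ : ∀ b, ψ.hom b = b ^ p ^ e := fun b => iterateFrobenius_def ..
  -- the inverse Frobenius on `Γ(Spec k, ⊤)`
  obtain ⟨σK, frobK, hF1, hF2, hF3⟩ :
      ∃ σK frobK : Γ(Spec (CommRingCat.of k), ⊤) ⟶ Γ(Spec (CommRingCat.of k), ⊤),
        (∀ c, (σK.hom c) ^ p ^ e = c) ∧ (∀ c, σK.hom (frobK.hom c) = c) ∧
        (∀ c, frobK.hom c = c ^ p ^ e) := by
    let σ' : k ≃+* k := (iterateFrobeniusEquiv k p e).symm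
    let iso := Scheme.ΓSpecIso (CommRingCat.of k)
    have hinvhom : ∀ c : k, iso.hom.hom (iso.inv.hom c) = c := fun c => by
      rw [← CommRingCat.comp_apply, iso.inv_hom_id]; rfl
    have hhominv : ∀ c, iso.inv.hom (iso.hom.hom c) = c := fun c => by
      rw [← CommRingCat.comp_apply, iso.hom_inv_id]; rfl
    refine ⟨iso.hom ≫ CommRingCat.ofHom σ'.toRingHom ≫ iso.inv,
      iso.hom ≫ CommRingCat.ofHom (iterateFrobenius k p e) ≫ iso.inv, ?_, ?_, ?_⟩
    · intro c
      change (iso.inv.hom (σ' (iso.hom.hom c))) ^ p ^ e = c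
      rw [← map_pow, ← iterateFrobeniusEquiv_def, RingEquiv.apply_symm_apply, hhominv]
    · intro c
      change iso.inv.hom (σ' (iso.hom.hom (iso.inv.hom
        (iterateFrobenius k p e (iso.hom.hom c))))) = c
      rw [hinvhom]
      have : σ' (iterateFrobenius k p e (iso.hom.hom c)) = iso.hom.hom c :=
        (iterateFrobeniusEquiv k p e).symm_apply_apply _
      rw [this, hhominv]
    · intro c
      change iso.inv.hom (iterateFrobenius k p e (iso.hom.hom c)) = c ^ p ^ e
      rw [iterateFrobenius_def, map_pow, hhominv]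
  -- elements of `Γ(Spec k₀, ⊤)` are fixed by the `q`-th power
  have hF0 : ∀ c0 : Γ(Spec (CommRingCat.of k₀), ⊤), c0 ^ p ^ e = c0 := by
    intro c0
    rw [← hq]
    exact pow_natCard_eq_of_equiv
      (Scheme.ΓSpecIso (CommRingCat.of k₀)).commRingCatIsoToRingEquiv c0
  have hi01frob : i01 ≫ frobK = i01 := by
    ext c0
    rw [CommRingCat.comp_apply, hF3, ← map_pow, hF0]
  have hi01σ : i01 ≫ σK = i01 := by
    ext c0
    have h := hF2 (i01.hom c0)
    rw [hF3, ← map_pow, hF0] at h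
    exact h
  -- the two twisting maps
  let τ : Γ(Y, V) ⟶ Γ(Y, V) := hPO.desc inl (σK ≫ inr) (by
    rw [← Category.assoc, hi01σ]; exact hPO.w)
  let τ' : Γ(Y, V) ⟶ Γ(Y, V) := hPO.desc inl (frobK ≫ inr) (by
    rw [← Category.assoc, hi01frob]; exact hPO.w)
  have hτ'τ : τ' ≫ τ = 𝟙 _ := by
    apply hPO.hom_ext
    · rw [hPO.inl_desc_assoc, hPO.inl_desc, Category.comp_id]
    · rw [hPO.inr_desc_assoc, Category.assoc, hPO.inr_desc, Category.comp_id]
      ext c
      rw [CommRingCat.comp_apply, CommRingCat.comp_apply, hF2]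
  have hφτ : φ = τ ≫ ψ := by
    apply hPO.hom_ext
    · rw [hPO.inl_desc_assoc]
      have h1 : inl ≫ φ = FX.appLE U U (hle U) ≫ inl := by
        rw [hinl, hφ, Scheme.Hom.appLE_comp_appLE, Scheme.Hom.appLE_comp_appLE]
        congr 1
      rw [h1]
      ext a
      rw [CommRingCat.comp_apply, CommRingCat.comp_apply, hFapp, map_pow, hψ, hq]
    · rw [hPO.inr_desc_assoc]
      have h1 : inr ≫ φ = inr := by
        rw [hinr, hφ, Scheme.Hom.appLE_comp_appLE]
        congr 1
      rw [h1]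
      ext c
      rw [CommRingCat.comp_apply, CommRingCat.comp_apply, hψ, ← map_pow, hF1]
  refine ⟨fun b => ⟨τ.hom b, ?_⟩, fun b' => ⟨τ'.hom b', ?_⟩⟩
  · rw [hφτ, CommRingCat.comp_apply, hψ]
  · rw [hφτ, CommRingCat.comp_apply, hψ, ← CommRingCat.comp_apply, hτ'τ]
    rfl

end Sections2

end Groth.Agent.FrobDeg9
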