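import Mathlib
import Groth.Prelude.Def_WeilCoh
import Groth.Agent.Lib.FrobDeg3_helper9
import Groth.Agent.Lib.SchFT_helper8
import Groth.Agent.Lib.HtTrdeg_helper8
import Groth.Agent.Lib.WeilCohG8_helper9

/-! Degree of the relative Frobenius on a variety `X ×_{k₀} k` (helper9): residue fields.
APPEND-ONLY once landed. -/

universe u

open CategoryTheory CategoryTheory.Limits AlgebraicGeometry

namespace Groth.Agent.FrobDeg9

/-- Every element of the residue field at a point of an affine open is a fraction of values of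
sections. -/
lemma exists_frac_evaluation {Y : Scheme.{u}} {V : Y.Opens} (hV : IsAffineOpen V) (x : Y)
    (hx : x ∈ V) (z : Y.residueField x) :
    ∃ a b : Γ(Y, V), z = (Y.evaluation V x hx).hom a / (Y.evaluation V x hx).hom b := by
  obtain ⟨s, rfl⟩ := Y.residue_surjective x z
  letI : Algebra Γ(Y, V) (Y.presheaf.stalk x) :=
    TopCat.Presheaf.algebra_section_stalk Y.presheaf (⟨x, hx⟩ : V)
  haveI : IsLocalization.AtPrime (Y.presheaf.stalk x) (hV.primeIdealOf ⟨x, hx⟩).asIdeal :=
    hV.isLocalization_stalk ⟨x, hx⟩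
  obtain ⟨⟨a, t⟩, h⟩ := IsLocalization.surj (hV.primeIdealOf ⟨x, hx⟩).asIdeal.primeCompl s
  have h' : s * (Y.presheaf.germ V x hx).hom t.1 = (Y.presheaf.germ V x hx).hom a := h
  have hu : IsUnit ((Y.presheaf.germ V x hx).hom t.1) :=
    IsLocalization.map_units (Y.presheaf.stalk x) t
  have h2 : (Y.residue x).hom s * (Y.evaluation V x hx).hom t.1 = (Y.evaluation V x hx).hom a := by
    have := congrArg (Y.residue x).hom h'
    rw [map_mul] at this
    exact this
  have h3 : (Y.evaluation V x hx).hom t.1 ≠ 0 := by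
    have : IsUnit ((Y.residue x).hom ((Y.presheaf.germ V x hx).hom t.1)) := hu.map _
    exact this.ne_zero
  exact ⟨a, t.1, by rw [← h2, mul_div_assoc, div_self h3, mul_one]⟩


section EssFT

variable (k : Type u) [Field k] (Y : Scheme.{u}) [Y.Over (Spec (CommRingCat.of k))]
  [LocallyOfFiniteType (Y ↘ Spec (CommRingCat.of k))]

/-- The residue field at a point of a scheme locally of finite type over `k` is a finitely
generated field extension of `k`. -/
theorem essFiniteType_residueField (x : Y) :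
    @Algebra.EssFiniteType k (Y.residueField x) _ _ (Curv2.resAlgebra k Y x) := by
  classical
  letI := Curv2.resAlgebra k Y x
  obtain ⟨V, hV, hxV⟩ := Groth.Agent.HtTrdegH8.exists_affine Y x
  letI := Groth.Agent.SchFTH8.secAlgebra k Y V
  haveI := Groth.Agent.SchFTH8.finiteType_sec k Y V hV
  obtain ⟨t, ht⟩ := (Algebra.FiniteType.out : (⊤ : Subalgebra k Γ(Y, V)).FG)
  let φ : Γ(Y, V) →ₐ[k] Y.residueField x :=
    { (Groth.Agent.SchFTH8.toRes V x hxV) with
      commutes' := fun c => by
        have := Groth.Agent.SchFTH8.toRes_comp_secMap k V x hxV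
        exact congrArg (fun h => h c) this }
  have hφ : ∀ a, φ a = (Y.evaluation V x hxV).hom a := fun a => rfl
  rw [← IntermediateField.fg_top_iff]
  refine ⟨t.image φ, ?_⟩
  rw [eq_top_iff]
  intro z _
  obtain ⟨a, b, rfl⟩ := exists_frac_evaluation hV x hxV z
  have hmem : ∀ a : Γ(Y, V), φ a ∈ IntermediateField.adjoin k ((t.image φ : Finset _) : Set _) := by
    intro a
    have h1 : a ∈ Algebra.adjoin k (t : Set Γ(Y, V)) := by rw [ht]; trivial
    have h2 : φ a ∈ (Algebra.adjoin k (t : Set Γ(Y, V))).map φ := ⟨a, h1, rfl⟩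
    rw [AlgHom.map_adjoin] at h2
    have h3 := IntermediateField.algebra_adjoin_le_adjoin k (φ '' (t : Set Γ(Y, V))) h2
    simpa using h3
  rw [← hφ, ← hφ]
  exact div_mem (hmem a) (hmem b)

end EssFT


section Main

open WeilCoh Groth.Agent.WCF9

variable {k₀ : Type u} [Field k₀] [Finite k₀] {k : Type u} [Field k] [IsAlgClosed k]
  [Algebra k₀ k]
  {X : Scheme.{u}} (f : X ⟶ Spec (CommRingCat.of k₀))
  (FX : X ⟶ X) (hFb : FX.base = 𝟙 _) (hle : ∀ U : X.Opens, U ≤ FX ⁻¹ᵁ U)
  (hFapp : ∀ (U : X.Opens) (s : Γ(X, U)), (FX.appLE U U (hle U)).hom s = s ^ Nat.card k₀)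
  (Xb : WeilCoh.Var k) (π : Xb.obj.left ⟶ X)
  (hπ : IsPullback π Xb.obj.hom f (Spec.map (CommRingCat.ofHom (algebraMap k₀ k))))
  (F : Xb ⟶ Xb) (hF : WeilCoh.sm F ≫ π = π ≫ FX)

include hFb hFapp hπ hF in
/-- The relative Frobenius of `X ×_{k₀} k` has degree `q ^ dim` at the generic point, and fixes
the generic point. -/
theorem residueDegree_frobenius :
    haveI : IrreducibleSpace ↥Xb.obj.left := Xb.property.2.2
    (WeilCoh.sm F).residueDegree (genericPoint ↥Xb.obj.left) =
        (Nat.card k₀) ^ WeilCoh.dim Xb.obj.left ∧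
      WeilCoh.sm F (genericPoint ↥Xb.obj.left) = genericPoint ↥Xb.obj.left := by
  classical
  haveI : IrreducibleSpace ↥Xb.obj.left := Xb.property.2.2
  haveI : IsReduced Xb.obj.left := isReduced_var Xb
  haveI : IsIntegral Xb.obj.left := isIntegral_of_irreducibleSpace_of_isReduced _
  haveI : Smooth Xb.obj.hom := Xb.property.1
  letI ovY : Xb.obj.left.Over (Spec (CommRingCat.of k)) := ⟨Xb.obj.hom⟩
  haveI : LocallyOfFiniteType (Xb.obj.left ↘ Spec (CommRingCat.of k)) :=
    inferInstanceAs (LocallyOfFiniteType Xb.obj.hom)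
  have hFg : WeilCoh.sm F ≫ Xb.obj.hom = Xb.obj.hom := Over.w F.hom
  -- characteristic
  obtain ⟨p, hp⟩ := CharP.exists k₀
  letI : Fintype k₀ := Fintype.ofFinite k₀
  obtain ⟨e, hpp, hcard⟩ := FiniteField.card k₀ p
  haveI : Fact p.Prime := ⟨hpp⟩
  haveI : CharP k p := charP_of_injective_algebraMap (algebraMap k₀ k).injective p
  haveI : ExpChar k p := ExpChar.prime hpp
  have hq : Nat.card k₀ = p ^ (e : ℕ) := by rw [Nat.card_eq_fintype_card, hcard]
  -- the chart
  set η := genericPoint ↥Xb.obj.left with hη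
  obtain ⟨_, ⟨U, hU, rfl⟩, hηU, -⟩ :=
    X.isBasis_affineOpens.exists_subset_of_mem_open (Set.mem_univ (π η)) isOpen_univ
  set V := UY Xb.obj.hom π U with hV
  have hηV : η ∈ V := ⟨hηU, trivial⟩
  have hbase : ∀ x : X, FX x = x := fun x => by
    change FX.base x = x
    rw [hFb]; rfl
  have hyV : (WeilCoh.sm F) η ∈ V := by
    refine ⟨?_, trivial⟩
    change π ((WeilCoh.sm F) η) ∈ U
    have h2 : ((WeilCoh.sm F) ≫ π) η = (π ≫ FX) η := by rw [hF]
    have h3 : π ((WeilCoh.sm F) η) = FX (π η) := h2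
    rw [h3, hbase]
    exact hηU
  have hVaff : IsAffineOpen V := isAffineOpen_UY f Xb.obj.hom π hπ U hU
  haveI : Nonempty V := ⟨⟨η, hηV⟩⟩
  obtain ⟨h1, h2⟩ := appLE_frobenius_like f Xb.obj.hom π hπ FX hle hFapp (WeilCoh.sm F) hFg hF p e hq U hU
  -- residue fields
  letI algL : Algebra k (Xb.obj.left.residueField η) := Curv2.resAlgebra k Xb.obj.left η
  haveI : CharP (Xb.obj.left.residueField η) p :=
    charP_of_injective_algebraMap (algebraMap k (Xb.obj.left.residueField η)).injective p
  haveI : ExpChar (Xb.obj.left.residueField η) p := ExpChar.prime hpp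
  have hrange := fieldRange_eq_of_frobenius_like (B := Γ(Xb.obj.left, V)) p e
    ((WeilCoh.sm F).residueFieldMap η).hom (Xb.obj.left.evaluation V ((WeilCoh.sm F) η) hyV).hom (Xb.obj.left.evaluation V η hηV).hom
    ((WeilCoh.sm F).appLE V V (UY_le Xb.obj.hom π FX hle (WeilCoh.sm F) hF U)).hom
    (exists_frac_evaluation hVaff ((WeilCoh.sm F) η) hyV) (exists_frac_evaluation hVaff η hηV)
    (fun b => by
      rw [Scheme.evaluation_naturality_apply]
      simp only [Scheme.Hom.appLE, CommRingCat.comp_apply]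
      rw [Scheme.evaluation, Scheme.evaluation, CommRingCat.comp_apply, CommRingCat.comp_apply]
      congr 1
      exact (TopCat.Presheaf.germ_res_apply Xb.obj.left.presheaf
        (homOfLE (UY_le Xb.obj.hom π FX hle (WeilCoh.sm F) hF U)) η hηV _).symm)
    h1 h2
  haveI : Algebra.EssFiniteType k (Xb.obj.left.residueField η) := essFiniteType_residueField k Xb.obj.left η
  obtain ⟨n, hn, hh⟩ := Groth.Agent.HtTrdegH8.height_eq_trdeg k Xb.obj.left η
  have hdeg : (WeilCoh.sm F).residueDegree η = (p ^ (e : ℕ)) ^ n := by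
    have h3 := finrank_eq_of_fieldRange_eq ((WeilCoh.sm F).residueFieldMap η).hom _ hrange
    have h4 := finrank_iterateFrobenius_of_essFiniteType k (Xb.obj.left.residueField η) p n hn e
    rw [h4] at h3
    exact h3
  have hdim : WeilCoh.dim Xb.obj.left = n := by
    have h5 := pdim_eq_of_height η n hh
    unfold pdim at h5
    rw [natDim_closure_genericPoint] at h5
    exact h5
  have hfix : (WeilCoh.sm F) η = η := by
    by_contra hne
    have hsp : η ⤳ (WeilCoh.sm F) η := genericPoint_specializes _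
    have hlt := Groth.Agent.HtTrdegH8.trdeg_lt_of_specializes k Xb.obj.left η ((WeilCoh.sm F) η) hsp (Ne.symm hne)
    have hne0 : (WeilCoh.sm F).residueDegree η ≠ 0 := by
      rw [hdeg]
      exact pow_ne_zero _ (pow_ne_zero _ hpp.ne_zero)
    have heq := trdeg_eq_of_finite Xb.obj.hom Xb.obj.hom (WeilCoh.sm F) hFg η hne0
    exact lt_irrefl _ (heq ▸ hlt)
  exact ⟨by rw [hdeg, hdim, hq], hfix⟩

end Main

end Groth.Agent.FrobDeg9
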