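import Mathlib
import Groth.Prelude.Def_Curv2
import Groth.Prelude.Def_FDesc
import Groth.Agent.Lib.GalAct_helper4
import Groth.Agent.Lib.IrrCompImage_helper4
import Groth.Agent.Lib.GeomIrrComps_helper4
import Groth.Agent.Lib.GeomIrrVar_helper4
import Groth.Agent.Lib.GeomConnPt_helper4

set_option autoImplicit false
set_option linter.style.haveILetI false
set_option linter.unusedSectionVars false

universe u

open scoped TensorProduct
open CategoryTheory CategoryTheory.Limits AlgebraicGeometry

namespace Groth.Agent.Lib.GalCompsH4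

open Groth.Agent.Lib.GalActH4

local notation:max "sm[" k ", " K "]" => Spec.map (CommRingCat.ofHom (algebraMap k K))

section General

variable {k : Type u} [Field k] {X : Scheme.{u}} (f : X ⟶ Spec (CommRingCat.of k))
  (K : Type u) [Field K] [Algebra k K]

theorem gAct_image_of_generic (σ : K ≃ₐ[k] K) {Z' Z'' : Set ↥(pullback f sm[k, K])}
    {η' η'' : ↥(pullback f sm[k, K])} (h' : IsGenericPoint η' Z') (h'' : IsGenericPoint η'' Z'')
    (hσ : (gAct f K σ) η' = η'') : (gAct f K σ) '' Z' = Z'' := by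
  have key : ∀ (τ : K ≃ₐ[k] K) (A B : Set ↥(pullback f sm[k, K])) (a b : ↥(pullback f sm[k, K])),
      IsGenericPoint a A → IsGenericPoint b B → (gAct f K τ) a = b →
      (gAct f K τ) '' A ⊆ B := by
    intro τ A B a b ha hb hτ
    rw [← ha.def, ← hb.def, ← hτ]
    refine (image_closure_subset_closure_image (gAct f K τ).continuous).trans ?_
    rw [Set.image_singleton]
  apply Set.Subset.antisymm (key σ Z' Z'' η' η'' h' h'' hσ)
  intro z hz
  have h2 : (gAct f K σ⁻¹) η'' = η' := by rw [← hσ, gAct_inv_apply']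
  have h3 : (gAct f K σ⁻¹) z ∈ Z' := key σ⁻¹ Z'' Z' η'' η' h'' h' h2 ⟨z, hz, rfl⟩
  exact ⟨_, h3, gAct_inv_apply f K σ z⟩

theorem isGenericPoint_image [Algebra.IsIntegral k K] (Z : Set ↥(pullback f sm[k, K]))
    (η : ↥(pullback f sm[k, K])) (hη : IsGenericPoint η Z) (hcl : IsClosed Z) :
    IsGenericPoint ((pullback.fst f sm[k, K]) η) ((pullback.fst f sm[k, K]) '' Z) := by
  haveI := GeomConnPtH4.isIntegralHom_specMap k K
  have hclosed : IsClosedMap (pullback.fst f sm[k, K]) := (pullback.fst f sm[k, K]).isClosedMap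
  show closure {(pullback.fst f sm[k, K]) η} = (pullback.fst f sm[k, K]) '' Z
  apply Set.Subset.antisymm
  · exact closure_minimal (Set.singleton_subset_iff.mpr (Set.mem_image_of_mem _ hη.mem))
      (hclosed Z hcl)
  · rw [← hη.def]
    refine (image_closure_subset_closure_image (pullback.fst f sm[k, K]).continuous).trans ?_
    rw [Set.image_singleton]

theorem preimage_image_of_invariant [IsGalois k K] (T' : Set ↥(pullback f sm[k, K]))
    (hinv : ∀ σ : K ≃ₐ[k] K, (gAct f K σ) '' T' = T') :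
    (pullback.fst f sm[k, K]) ⁻¹' ((pullback.fst f sm[k, K]) '' T') = T' := by
  apply Set.Subset.antisymm
  · rintro z ⟨z₀, hz₀, hzz⟩
    obtain ⟨σ, hσ⟩ := exists_gAct_eq f K z₀ z hzz
    rw [← hinv σ]
    exact ⟨z₀, hz₀, hσ⟩
  · intro z hz
    exact ⟨z, hz, rfl⟩

theorem gAct_image_preimage (σ : K ≃ₐ[k] K) (T : Set ↥X) :
    (gAct f K σ) '' ((pullback.fst f sm[k, K]) ⁻¹' T) = (pullback.fst f sm[k, K]) ⁻¹' T := by
  apply Set.Subset.antisymm
  · rintro _ ⟨z, hz, rfl⟩
    show (pullback.fst f sm[k, K]) ((gAct f K σ) z) ∈ T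
    rw [gAct_fst_apply]
    exact hz
  · intro z hz
    refine ⟨(gAct f K σ⁻¹) z, ?_, gAct_inv_apply f K σ z⟩
    show (pullback.fst f sm[k, K]) ((gAct f K σ⁻¹) z) ∈ T
    rw [gAct_fst_apply]
    exact hz

theorem closed_descends [IsGalois k K] (T' : Set ↥(pullback f sm[k, K])) (hT' : IsClosed T')
    (hinv : ∀ σ : K ≃ₐ[k] K, (gAct f K σ) '' T' = T') :
    ∃ T : Set ↥X, IsClosed T ∧ (pullback.fst f sm[k, K]) ⁻¹' T = T' := by
  haveI := GeomConnPtH4.isIntegralHom_specMap k K
  have hclosed : IsClosedMap (pullback.fst f sm[k, K]) := (pullback.fst f sm[k, K]).isClosedMap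
  exact ⟨(pullback.fst f sm[k, K]) '' T', hclosed T' hT', preimage_image_of_invariant f K T' hinv⟩

theorem comps_conj_iff [IsGalois k K] (Z' Z'' : Set ↥(pullback f sm[k, K]))
    (hZ' : Z' ∈ irreducibleComponents ↥(pullback f sm[k, K]))
    (hZ'' : Z'' ∈ irreducibleComponents ↥(pullback f sm[k, K])) :
    (pullback.fst f sm[k, K]) '' Z' = (pullback.fst f sm[k, K]) '' Z'' ↔
      ∃ σ : K ≃ₐ[k] K, (gAct f K σ) '' Z' = Z'' := by
  have hZ'cl : IsClosed Z' := isClosed_of_mem_irreducibleComponents Z' hZ'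
  have hZ''cl : IsClosed Z'' := isClosed_of_mem_irreducibleComponents Z'' hZ''
  obtain ⟨η', hη'⟩ : ∃ η, IsGenericPoint η Z' := QuasiSober.sober hZ'.1 hZ'cl
  obtain ⟨η'', hη''⟩ : ∃ η, IsGenericPoint η Z'' := QuasiSober.sober hZ''.1 hZ''cl
  constructor
  · intro heq
    have h1 := isGenericPoint_image f K Z' η' hη' hZ'cl
    have h2 := isGenericPoint_image f K Z'' η'' hη'' hZ''cl
    rw [heq] at h1
    have hπ : (pullback.fst f sm[k, K]) η' = (pullback.fst f sm[k, K]) η'' := h1.eq h2
    obtain ⟨σ, hσ⟩ := exists_gAct_eq f K η' η'' hπ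
    exact ⟨σ, gAct_image_of_generic f K σ hη' hη'' hσ⟩
  · rintro ⟨σ, rfl⟩
    rw [Set.image_image]
    apply Set.image_congr
    intro z _
    exact (gAct_fst_apply f K σ z).symm

theorem invariant_iff [IsGalois k K] [IsSepClosed K] (Z : Set ↥(pullback f sm[k, K]))
    (hZ : Z ∈ irreducibleComponents ↥(pullback f sm[k, K])) :
    (∀ σ : K ≃ₐ[k] K, (gAct f K σ) '' Z = Z) ↔
      ∃ T ∈ irreducibleComponents ↥X, (pullback.fst f sm[k, K]) ⁻¹' T = Z ∧
        ∀ (K' : Type u) [Field K'] [Algebra k K'],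
          IsIrreducible ((pullback.fst f sm[k, K']) ⁻¹' T) := by
  constructor
  · intro hinv
    have hpre := preimage_image_of_invariant f K Z hinv
    refine ⟨(pullback.fst f sm[k, K]) '' Z, IrrCompImageH4.part1 f K Z hZ, hpre, ?_⟩
    intro K' _ _
    refine GeomIrrCompsH4.stepB_irr f K ((pullback.fst f sm[k, K]) '' Z) ?_
    have h1 : IsIrreducible ((pullback.fst f sm[k, K]) ⁻¹' ((pullback.fst f sm[k, K]) '' Z)) := by
      rw [hpre]; exact hZ.1
    exact h1
  · rintro ⟨T, -, rfl, -⟩ σ
    exact gAct_image_preimage f K σ T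

end General

section Variety

theorem main1584 (k : Type u) [Field k] (X : Scheme.{u}) [X.Over (Spec (CommRingCat.of k))]
    (K : Type u) [Field K] [Algebra k K] [IsGalois k K]
    (T' : Set (Curv2.bc k X K)) (hT' : IsClosed T')
    (hinv : ∀ σ : K ≃ₐ[k] K, (Curv2.galAct k X K σ).base '' T' = T') :
    ∃ T : Set X, IsClosed T ∧ (Curv2.bcFst k X K).base ⁻¹' T = T' := by
  simp only [galAct_eq] at hinv
  exact closed_descends (X ↘ Spec (CommRingCat.of k)) K T' hT' hinv

theorem main7598 (k : Type u) [Field k] (X : Scheme.{u}) [X.Over (Spec (CommRingCat.of k))]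
    (Z' Z'' : Set ↥(Curv2.bc k X (SeparableClosure k)))
    (hZ' : Z' ∈ irreducibleComponents ↥(Curv2.bc k X (SeparableClosure k)))
    (hZ'' : Z'' ∈ irreducibleComponents ↥(Curv2.bc k X (SeparableClosure k))) :
    (Curv2.bcFst k X (SeparableClosure k)).base '' Z' =
        (Curv2.bcFst k X (SeparableClosure k)).base '' Z'' ↔
      ∃ σ : SeparableClosure k ≃ₐ[k] SeparableClosure k,
        (Curv2.galAct k X (SeparableClosure k) σ).base '' Z' = Z'' := by
  simp only [galAct_eq]
  exact comps_conj_iff (X ↘ Spec (CommRingCat.of k)) (SeparableClosure k) Z' Z'' hZ' hZ''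

theorem main7597 (k : Type u) [Field k] (X : Scheme.{u}) [X.Over (Spec (CommRingCat.of k))]
    (Z : Set ↥(Curv2.bc k X (SeparableClosure k)))
    (hZ : Z ∈ irreducibleComponents ↥(Curv2.bc k X (SeparableClosure k))) :
    (∀ σ : SeparableClosure k ≃ₐ[k] SeparableClosure k,
        (Curv2.galAct k X (SeparableClosure k) σ).base '' Z = Z) ↔
      ∃ T ∈ irreducibleComponents ↥X, (Curv2.bcFst k X (SeparableClosure k)).base ⁻¹' T = Z ∧
        ∀ (K : Type u) [Field K] [Algebra k K],
          IsIrreducible ((Curv2.bcFst k X K).base ⁻¹' T) := by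
  simp only [galAct_eq]
  exact invariant_iff (X ↘ Spec (CommRingCat.of k)) (SeparableClosure k) Z hZ

theorem main1670 (k : Type u) [Field k] (X : Scheme.{u}) [X.Over (Spec (CommRingCat.of k))]
    [LocallyOfFiniteType (X ↘ (Spec (CommRingCat.of k)))]
    (T : Set X) (hT : T ∈ irreducibleComponents (X : Type u)) :
    {T' : Set (Curv2.bc k X (SeparableClosure k)) |
        T' ∈ irreducibleComponents (Curv2.bc k X (SeparableClosure k) : Type u) ∧
        (Curv2.bcFst k X (SeparableClosure k)).base '' T' ⊆ T}.Finite ∧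
      (Curv2.bcFst k X (SeparableClosure k)).base ⁻¹' T =
        ⋃₀ {T' : Set (Curv2.bc k X (SeparableClosure k)) |
          T' ∈ irreducibleComponents (Curv2.bc k X (SeparableClosure k) : Type u) ∧
          (Curv2.bcFst k X (SeparableClosure k)).base '' T' ⊆ T} ∧
      ∀ T' T'' : Set (Curv2.bc k X (SeparableClosure k)),
        T' ∈ irreducibleComponents (Curv2.bc k X (SeparableClosure k) : Type u) →
        T'' ∈ irreducibleComponents (Curv2.bc k X (SeparableClosure k) : Type u) →
        (Curv2.bcFst k X (SeparableClosure k)).base '' T' ⊆ T →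
        (Curv2.bcFst k X (SeparableClosure k)).base '' T'' ⊆ T →
        ∃ σ : (SeparableClosure k) ≃ₐ[k] (SeparableClosure k),
          (Curv2.galAct k X (SeparableClosure k) σ).base '' T' = T'' := by
  simp only [galAct_eq]
  have hTcl : IsClosed T := isClosed_of_mem_irreducibleComponents T hT
  obtain ⟨ξ, hξ⟩ : ∃ ξ, IsGenericPoint ξ T := QuasiSober.sober hT.1 hTcl
  -- images of components inside `T` are equal to `T`
  have himgT : ∀ T' : Set ↥(pullback (X ↘ Spec (CommRingCat.of k)) sm[k, SeparableClosure k]),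
      T' ∈ irreducibleComponents
        ↥(pullback (X ↘ Spec (CommRingCat.of k)) sm[k, SeparableClosure k]) →
      (pullback.fst (X ↘ Spec (CommRingCat.of k)) sm[k, SeparableClosure k]) '' T' ⊆ T →
      (pullback.fst (X ↘ Spec (CommRingCat.of k)) sm[k, SeparableClosure k]) '' T' = T := by
    intro T' hT' hsub
    have h1 := IrrCompImageH4.part1 (X ↘ Spec (CommRingCat.of k)) (SeparableClosure k) T' hT'
    exact Set.Subset.antisymm hsub (h1.2 hT.1 hsub)
  have hgen : ∀ (T' : Set ↥(pullback (X ↘ Spec (CommRingCat.of k)) sm[k, SeparableClosure k]))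
      (η' : ↥(pullback (X ↘ Spec (CommRingCat.of k)) sm[k, SeparableClosure k])),
      T' ∈ irreducibleComponents
        ↥(pullback (X ↘ Spec (CommRingCat.of k)) sm[k, SeparableClosure k]) →
      (pullback.fst (X ↘ Spec (CommRingCat.of k)) sm[k, SeparableClosure k]) '' T' ⊆ T →
      IsGenericPoint η' T' →
      (pullback.fst (X ↘ Spec (CommRingCat.of k)) sm[k, SeparableClosure k]) η' = ξ := by
    intro T' η' hT' hsub hη'
    have h1 := isGenericPoint_image (X ↘ Spec (CommRingCat.of k)) (SeparableClosure k) T' η' hη'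
      (isClosed_of_mem_irreducibleComponents T' hT')
    rw [himgT T' hT' hsub] at h1
    exact h1.eq hξ
  refine ⟨?_, ?_, ?_⟩
  · obtain ⟨ι, hιfin, Ti, hTi, hcov⟩ := GeomIrrCompsH4.fibre_cover_irr
      (X ↘ Spec (CommRingCat.of k)) ξ (GeomIrrVarH4.residueFieldProp_of_lft k X ξ)
      (SeparableClosure k)
    haveI : Finite ι := hιfin
    refine (Set.finite_range (fun i => closure (Ti i))).subset ?_
    rintro T' ⟨hT', hsub⟩
    have hT'cl : IsClosed T' := isClosed_of_mem_irreducibleComponents T' hT'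
    obtain ⟨η', hη'⟩ : ∃ η, IsGenericPoint η T' := QuasiSober.sober hT'.1 hT'cl
    have hπ := hgen T' η' hT' hsub hη'
    obtain ⟨i, hi⟩ := Set.mem_iUnion.mp (hcov (show η' ∈ _ ⁻¹' {ξ} from hπ))
    have hsub' : T' ⊆ closure (Ti i) := by
      rw [← hη'.def]
      exact closure_minimal (Set.singleton_subset_iff.mpr (subset_closure hi)) isClosed_closure
    exact ⟨i, Set.Subset.antisymm (hT'.2 (hTi i).closure hsub') hsub'⟩
  · haveI : Flat sm[k, SeparableClosure k] := IrrCompImageH4.flat_specMap k (SeparableClosure k)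
    apply Set.Subset.antisymm
    · intro z hz
      have hspec : ξ ⤳ (pullback.fst (X ↘ Spec (CommRingCat.of k)) sm[k, SeparableClosure k]) z :=
        hξ.specializes hz
      obtain ⟨z', hz'z, hz'ξ⟩ := (Flat.generalizingMap
        (pullback.fst (X ↘ Spec (CommRingCat.of k)) sm[k, SeparableClosure k])) hspec
      have hcomp := IrrCompImageH4.part1 (X ↘ Spec (CommRingCat.of k)) (SeparableClosure k)
        (irreducibleComponent z') (irreducibleComponent_mem_irreducibleComponents z')
      have hsubT : T ⊆ (pullback.fst (X ↘ Spec (CommRingCat.of k)) sm[k, SeparableClosure k]) ''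
          irreducibleComponent z' := by
        rw [← hξ.def]
        exact closure_minimal (Set.singleton_subset_iff.mpr ⟨z', mem_irreducibleComponent, hz'ξ⟩)
          (isClosed_of_mem_irreducibleComponents _ hcomp)
      refine Set.mem_sUnion.mpr ⟨irreducibleComponent z',
        ⟨irreducibleComponent_mem_irreducibleComponents z', hT.2 hcomp.1 hsubT⟩, ?_⟩
      have hzcl : z ∈ closure ({z'} : Set _) := specializes_iff_mem_closure.mp hz'z
      exact closure_minimal (Set.singleton_subset_iff.mpr mem_irreducibleComponent)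
        isClosed_irreducibleComponent hzcl
    · intro z hz
      obtain ⟨T', ⟨-, hsub⟩, hzT'⟩ := Set.mem_sUnion.mp hz
      exact hsub ⟨z, hzT', rfl⟩
  · intro T' T'' hT' hT'' hsub' hsub''
    have hT'cl : IsClosed T' := isClosed_of_mem_irreducibleComponents T' hT'
    have hT''cl : IsClosed T'' := isClosed_of_mem_irreducibleComponents T'' hT''
    obtain ⟨η', hη'⟩ : ∃ η, IsGenericPoint η T' := QuasiSober.sober hT'.1 hT'cl
    obtain ⟨η'', hη''⟩ : ∃ η, IsGenericPoint η T'' := QuasiSober.sober hT''.1 hT''cl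
    have hπ : (pullback.fst (X ↘ Spec (CommRingCat.of k)) sm[k, SeparableClosure k]) η' =
        (pullback.fst (X ↘ Spec (CommRingCat.of k)) sm[k, SeparableClosure k]) η'' :=
      (hgen T' η' hT' hsub' hη').trans (hgen T'' η'' hT'' hsub'' hη'').symm
    obtain ⟨σ, hσ⟩ := exists_gAct_eq (X ↘ Spec (CommRingCat.of k)) (SeparableClosure k) η' η'' hπ
    exact ⟨σ, gAct_image_of_generic (X ↘ Spec (CommRingCat.of k)) (SeparableClosure k) σ
      hη' hη'' hσ⟩

end Variety

end Groth.Agent.Lib.GalCompsH4
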