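import Mathlib
import Groth.Prelude.Def_FinFr
import Groth.Agent.Lib.GalComps_helper4

set_option autoImplicit false
set_option linter.style.haveILetI false
set_option linter.unusedSectionVars false

universe u

open scoped TensorProduct
open CategoryTheory CategoryTheory.Limits AlgebraicGeometry

namespace Groth.Agent.Lib.FrobDescendH4

open Groth.Agent.Lib.GalActH4 Groth.Agent.Lib.GeomConnFinH4

local notation:max "sm[" k ", " K "]" => Spec.map (CommRingCat.ofHom (algebraMap k K))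

section FiniteField

variable (k : Type u) [Field k] [Fintype k]

theorem frob_pow_apply (L : Type u) [Field L] [Algebra k L] [Algebra.IsAlgebraic k L] (n : ℕ)
    (x : L) :
    (FiniteField.frobeniusAlgEquivOfAlgebraic k L ^ n) x = x ^ (Fintype.card k ^ n) := by
  rw [AlgEquiv.coe_pow, FiniteField.coe_frobeniusAlgEquivOfAlgebraic_iterate]

variable (K : Type u) [Field K] [Algebra k K] [Algebra.IsAlgebraic k K]

/-- Every `σ ∈ Gal(K/k)` agrees on a given finite set with a non-negative power of the inverse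
Frobenius. -/
theorem exists_pow_inv_frob (σ : K ≃ₐ[k] K) (s : Finset K) :
    ∃ n : ℕ, ∀ c ∈ s, σ c = ((FiniteField.frobeniusAlgEquivOfAlgebraic k K)⁻¹ ^ n) c := by
  classical
  let E : IntermediateField k K := IntermediateField.adjoin k (s : Set K)
  haveI : Finite (s : Set K) := s.finite_toSet.to_subtype
  haveI : FiniteDimensional k E :=
    IntermediateField.finiteDimensional_adjoin (fun x _ => Algebra.IsIntegral.isIntegral x)
  haveI : Finite E := Module.finite_of_finite k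
  obtain ⟨m, hm⟩ := (FiniteField.bijective_frobeniusAlgEquivOfAlgebraic_pow k E).2
    (σ.restrictNormal E)
  have hm' : FiniteField.frobeniusAlgEquivOfAlgebraic k E ^ m.1 = σ.restrictNormal E := hm
  have hd : FiniteField.frobeniusAlgEquivOfAlgebraic k E ^ (Module.finrank k E) = 1 := by
    rw [← FiniteField.orderOf_frobeniusAlgEquivOfAlgebraic k E]
    exact pow_orderOf_eq_one _
  refine ⟨Module.finrank k E - m.1, fun c hc => ?_⟩
  have hcE : c ∈ E := IntermediateField.subset_adjoin k _ hc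
  have h1 : σ c = c ^ (Fintype.card k ^ m.1) := by
    have h := AlgEquiv.restrictNormal_commutes σ E ⟨c, hcE⟩
    have h' : σ c = algebraMap E K ((σ.restrictNormal E) ⟨c, hcE⟩) := h.symm
    rw [h', ← hm', frob_pow_apply, map_pow]
    rfl
  have h2 : c ^ (Fintype.card k ^ Module.finrank k E) = c := by
    have h : algebraMap E K ((FiniteField.frobeniusAlgEquivOfAlgebraic k E ^
        (Module.finrank k E)) ⟨c, hcE⟩) = algebraMap E K ((1 : E ≃ₐ[k] E) ⟨c, hcE⟩) := by
      rw [hd]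
    rw [frob_pow_apply, map_pow] at h
    exact h
  have hle : m.1 ≤ Module.finrank k E := m.2.le
  have h3 : (FiniteField.frobeniusAlgEquivOfAlgebraic k K ^ (Module.finrank k E - m.1)) (σ c) =
      c := by
    rw [frob_pow_apply, h1, ← pow_mul, ← pow_add, Nat.add_sub_cancel' hle]
    exact h2
  have h4 : ((FiniteField.frobeniusAlgEquivOfAlgebraic k K ^ (Module.finrank k E - m.1))⁻¹)
      ((FiniteField.frobeniusAlgEquivOfAlgebraic k K ^ (Module.finrank k E - m.1)) (σ c)) =
      σ c := by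
    rw [← AlgEquiv.mul_apply, inv_mul_cancel, AlgEquiv.one_apply]
  calc σ c = _ := h4.symm
    _ = ((FiniteField.frobeniusAlgEquivOfAlgebraic k K ^ (Module.finrank k E - m.1))⁻¹) c := by
        rw [h3]
    _ = ((FiniteField.frobeniusAlgEquivOfAlgebraic k K)⁻¹ ^ (Module.finrank k E - m.1)) c := by
        rw [inv_pow]

variable (A : Type u) [CommRing A] [Algebra k A]

theorem tmap_one (b : A ⊗[k] K) : tmap A K (1 : K ≃ₐ[k] K) b = b := by
  letI := tAct (k := k) A K
  exact one_smul (K ≃ₐ[k] K) b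

theorem tmap_mul (σ τ : K ≃ₐ[k] K) (b : A ⊗[k] K) :
    tmap A K (σ * τ) b = tmap A K σ (tmap A K τ b) := by
  letI := tAct (k := k) A K
  exact mul_smul σ τ b

theorem exists_tmap_eq (σ : K ≃ₐ[k] K) (b : A ⊗[k] K) :
    ∃ n : ℕ, tmap A K σ b =
      tmap A K ((FiniteField.frobeniusAlgEquivOfAlgebraic k K)⁻¹ ^ n) b := by
  classical
  obtain ⟨S, rfl⟩ := TensorProduct.exists_finset b
  obtain ⟨n, hn⟩ := exists_pow_inv_frob k K σ (S.image Prod.snd)
  refine ⟨n, ?_⟩
  rw [map_sum, map_sum]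
  refine Finset.sum_congr rfl (fun i hi => ?_)
  rw [tmap_tmul, tmap_tmul, hn i.2 (Finset.mem_image_of_mem Prod.snd hi)]

/-- A closed subset of `Spec (A ⊗ K)` stable under the inverse Frobenius is stable under the whole
Galois group. -/
theorem alg_stable (T : Set (PrimeSpectrum (A ⊗[k] K))) (hT : IsClosed T)
    (hΦ : ∀ P ∈ T, PrimeSpectrum.comap
      (tmap A K (FiniteField.frobeniusAlgEquivOfAlgebraic k K)⁻¹).toRingHom P ∈ T)
    (σ : K ≃ₐ[k] K) (P : PrimeSpectrum (A ⊗[k] K)) (hP : P ∈ T) :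
    PrimeSpectrum.comap (tmap A K σ).toRingHom P ∈ T := by
  have hpow : ∀ n : ℕ, ∀ P ∈ T, PrimeSpectrum.comap
      (tmap A K ((FiniteField.frobeniusAlgEquivOfAlgebraic k K)⁻¹ ^ n)).toRingHom P ∈ T := by
    intro n
    induction n with
    | zero =>
      intro P hP
      have h : PrimeSpectrum.comap
          (tmap A K ((FiniteField.frobeniusAlgEquivOfAlgebraic k K)⁻¹ ^ 0)).toRingHom P = P := by
        apply PrimeSpectrum.ext
        ext x
        rw [PrimeSpectrum.comap_asIdeal, Ideal.mem_comap, pow_zero]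
        show tmap A K 1 x ∈ P.asIdeal ↔ _
        rw [tmap_one]
      rw [h]
      exact hP
    | succ n ih =>
      intro P hP
      have h : PrimeSpectrum.comap
          (tmap A K ((FiniteField.frobeniusAlgEquivOfAlgebraic k K)⁻¹ ^ (n + 1))).toRingHom P =
          PrimeSpectrum.comap (tmap A K (FiniteField.frobeniusAlgEquivOfAlgebraic k K)⁻¹).toRingHom
            (PrimeSpectrum.comap
              (tmap A K ((FiniteField.frobeniusAlgEquivOfAlgebraic k K)⁻¹ ^ n)).toRingHom P) := by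
        apply PrimeSpectrum.ext
        ext x
        rw [PrimeSpectrum.comap_asIdeal, PrimeSpectrum.comap_asIdeal, PrimeSpectrum.comap_asIdeal,
          Ideal.mem_comap, Ideal.mem_comap, Ideal.mem_comap, pow_succ]
        show tmap A K ((FiniteField.frobeniusAlgEquivOfAlgebraic k K)⁻¹ ^ n *
            (FiniteField.frobeniusAlgEquivOfAlgebraic k K)⁻¹) x ∈ P.asIdeal ↔
          tmap A K ((FiniteField.frobeniusAlgEquivOfAlgebraic k K)⁻¹ ^ n)
            (tmap A K (FiniteField.frobeniusAlgEquivOfAlgebraic k K)⁻¹ x) ∈ P.asIdeal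
        rw [tmap_mul]
      rw [h]
      exact hΦ _ (ih P hP)
  obtain ⟨I, rfl⟩ := (PrimeSpectrum.isClosed_iff_zeroLocus_ideal T).mp hT
  rw [PrimeSpectrum.mem_zeroLocus]
  intro b hb
  show tmap A K σ b ∈ P.asIdeal
  obtain ⟨n, hn⟩ := exists_tmap_eq k K A σ b
  rw [hn]
  have h1 := hpow n P hP
  rw [PrimeSpectrum.mem_zeroLocus] at h1
  exact h1 hb

end FiniteField

section Chart

theorem exists_chart {k : Type u} [Field k] {X : Scheme.{u}} (f : X ⟶ Spec (CommRingCat.of k))
    (K : Type u) [Field K] [Algebra k K] (z : ↥(pullback f sm[k, K])) :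
    ∃ (A : Type u) (_ : CommRing A) (_ : Algebra k A)
      (ch : Spec (CommRingCat.of (A ⊗[k] K)) ⟶ pullback f sm[k, K])
      (P : PrimeSpectrum (A ⊗[k] K)),
      ch.base P = z ∧ ∀ τ : K ≃ₐ[k] K,
        Spec.map (CommRingCat.ofHom (tmap A K τ).toRingHom) ≫ ch = ch ≫ gAct f K τ := by
  obtain ⟨i, w, hw⟩ := X.affineCover.exists_eq ((pullback.fst f sm[k, K]) z)
  let c' : Spec Γ(X.affineCover.X i, ⊤) ⟶ X := (X.affineCover.X i).isoSpec.inv ≫ X.affineCover.f i
  let φ : CommRingCat.of k ⟶ Γ(X.affineCover.X i, ⊤) := Spec.preimage (c' ≫ f)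
  letI : Algebra k Γ(X.affineCover.X i, ⊤) := φ.hom.toAlgebra
  have hg : sm[k, Γ(X.affineCover.X i, ⊤)] = c' ≫ f := Spec.map_preimage (c' ≫ f)
  have hw' : (pullback.fst f sm[k, K]) z = c' ((X.affineCover.X i).isoSpec.hom w) := by
    show _ = ((X.affineCover.X i).isoSpec.inv ≫ X.affineCover.f i) _
    rw [Scheme.Hom.comp_apply, ← Scheme.Hom.comp_apply _ (X.affineCover.X i).isoSpec.inv,
      Iso.hom_inv_id]
    exact hw.symm
  obtain ⟨a, ha⟩ := mem_range_Gm f c' sm[k, Γ(X.affineCover.X i, ⊤)] hg K z _ hw'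
  refine ⟨↑Γ(X.affineCover.X i, ⊤), inferInstance, inferInstance,
    (pullbackSpecIso k ↑Γ(X.affineCover.X i, ⊤) K).inv ≫
      Gm f c' sm[k, Γ(X.affineCover.X i, ⊤)] hg K,
    (pullbackSpecIso k ↑Γ(X.affineCover.X i, ⊤) K).hom a, ?_, fun τ => ?_⟩
  · have h1 : ((pullbackSpecIso k ↑Γ(X.affineCover.X i, ⊤) K).hom ≫
        (pullbackSpecIso k ↑Γ(X.affineCover.X i, ⊤) K).inv ≫
          Gm f c' sm[k, Γ(X.affineCover.X i, ⊤)] hg K) a =
        (Gm f c' sm[k, Γ(X.affineCover.X i, ⊤)] hg K) a := by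
      rw [Iso.hom_inv_id_assoc]
      rfl
    exact h1.trans ha
  · exact ((Category.assoc _ _ _).symm.trans
      ((congrArg (fun t => t ≫ Gm f c' sm[k, Γ(X.affineCover.X i, ⊤)] hg K)
        (gAct_affine (↑Γ(X.affineCover.X i, ⊤)) K τ).symm).trans
      ((Category.assoc _ _ _).trans
      ((congrArg (fun t => (pullbackSpecIso k ↑Γ(X.affineCover.X i, ⊤) K).inv ≫ t)
        (Gm_gAct f c' sm[k, Γ(X.affineCover.X i, ⊤)] hg K τ).symm).trans
      (Category.assoc _ _ _).symm))))

end Chart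

section Scheme

variable {k : Type u} [Field k] [Fintype k] {X : Scheme.{u}} (f : X ⟶ Spec (CommRingCat.of k))
  (K : Type u) [Field K] [Algebra k K] [Algebra.IsAlgebraic k K]

theorem stable_all (W : Set ↥(pullback f sm[k, K])) (hW : IsClosed W)
    (hΦ : ∀ z ∈ W, (gAct f K (FiniteField.frobeniusAlgEquivOfAlgebraic k K)⁻¹).base z ∈ W)
    (σ : K ≃ₐ[k] K) (z : ↥(pullback f sm[k, K])) (hz : z ∈ W) :
    (gAct f K σ).base z ∈ W := by
  obtain ⟨A, _, _, ch, P, hP, hch⟩ := exists_chart f K z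
  have hpt : ∀ (τ : K ≃ₐ[k] K) (Q : PrimeSpectrum (A ⊗[k] K)),
      ch.base (PrimeSpectrum.comap (tmap A K τ).toRingHom Q) =
        (gAct f K τ).base (ch.base Q) := fun τ Q =>
    congrArg (fun ψ : Spec (CommRingCat.of (A ⊗[k] K)) ⟶ pullback f sm[k, K] => ψ.base Q) (hch τ)
  have hT : IsClosed (ch.base ⁻¹' W : Set (PrimeSpectrum (A ⊗[k] K))) :=
    hW.preimage ch.continuous
  have h1 := alg_stable k K A (ch.base ⁻¹' W : Set (PrimeSpectrum (A ⊗[k] K))) hT
    (fun Q hQ => by
      show ch.base (PrimeSpectrum.comap _ Q) ∈ W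
      rw [hpt]
      exact hΦ _ hQ) σ P (by
      show ch.base P ∈ W
      rw [hP]
      exact hz)
  have h2 : ch.base (PrimeSpectrum.comap (tmap A K σ).toRingHom P) ∈ W := h1
  rw [hpt, hP] at h2
  exact h2

end Scheme

section Frob

variable {k : Type u} [Field k] {X : Scheme.{u}}

/-- Naturality of a "pinned" `q`-Frobenius endomorphism of `X` with respect to field-valued
points. -/
theorem frob_nat (FX : X ⟶ X) (q : ℕ) (hle : ∀ U : X.Opens, U ≤ FX ⁻¹ᵁ U)
    (hFapp : ∀ (U : X.Opens) (s : Γ(X, U)), (FX.appLE U U (hle U)).hom s = s ^ q)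
    (Ω : Type u) [Field Ω] (fr : Ω →+* Ω) (hfr : ∀ x, fr x = x ^ q)
    (a : Spec (CommRingCat.of Ω) ⟶ X) :
    a ≫ FX = Spec.map (CommRingCat.ofHom fr) ≫ a := by
  haveI : Subsingleton ↥(Spec (CommRingCat.of Ω)) :=
    inferInstanceAs (Subsingleton (PrimeSpectrum Ω))
  let pt : ↥(Spec (CommRingCat.of Ω)) := IsLocalRing.closedPoint Ω
  obtain ⟨U, hU, hxU, -⟩ := (TopologicalSpace.Opens.isBasis_iff_nbhd.mp X.isBasis_affineOpens)
    (show a pt ∈ (⊤ : X.Opens) from trivial)
  have hU' : IsAffineOpen U := hU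
  have hrange : Set.range a ⊆ Set.range hU'.fromSpec := by
    rw [hU'.range_fromSpec]
    rintro _ ⟨y, rfl⟩
    rw [Subsingleton.elim y pt]
    exact hxU
  let a' : Spec (CommRingCat.of Ω) ⟶ Spec Γ(X, U) := IsOpenImmersion.lift hU'.fromSpec a hrange
  have ha' : a' ≫ hU'.fromSpec = a := IsOpenImmersion.lift_fac _ _ _
  let ψ : Γ(X, U) ⟶ CommRingCat.of Ω := Spec.preimage a'
  have hψ : Spec.map ψ = a' := Spec.map_preimage a'
  have hring : FX.appLE U U (hle U) ≫ ψ = ψ ≫ CommRingCat.ofHom fr := by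
    ext s
    show ψ.hom ((FX.appLE U U (hle U)).hom s) = fr (ψ.hom s)
    rw [hFapp, map_pow, hfr]
  calc a ≫ FX = (Spec.map ψ ≫ hU'.fromSpec) ≫ FX := by rw [hψ, ha']
    _ = Spec.map ψ ≫ Spec.map (FX.appLE U U (hle U)) ≫ hU'.fromSpec := by
        rw [Category.assoc, IsAffineOpen.SpecMap_appLE_fromSpec FX hU' hU' (hle U)]
    _ = Spec.map (ψ ≫ CommRingCat.ofHom fr) ≫ hU'.fromSpec := by
        rw [← Category.assoc, ← Spec.map_comp, hring]
    _ = Spec.map (CommRingCat.ofHom fr) ≫ a := by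
        rw [Spec.map_comp, Category.assoc, hψ, ha']

variable [Fintype k] (f : X ⟶ Spec (CommRingCat.of k))
  (K : Type u) [Field K] [Algebra k K] [Algebra.IsAlgebraic k K]

theorem F_eq_gAct_aux (FX : X ⟶ X) (hle : ∀ U : X.Opens, U ≤ FX ⁻¹ᵁ U)
    (hFapp : ∀ (U : X.Opens) (s : Γ(X, U)),
      (FX.appLE U U (hle U)).hom s = s ^ Fintype.card k)
    (F : pullback f sm[k, K] ⟶ pullback f sm[k, K])
    (hF1 : F ≫ pullback.fst f sm[k, K] = pullback.fst f sm[k, K] ≫ FX)
    (hF2 : F ≫ pullback.snd f sm[k, K] = pullback.snd f sm[k, K])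
    (Ω : Type u) [Field Ω] (ι : Spec (CommRingCat.of Ω) ⟶ pullback f sm[k, K])
    (pt : ↥(Spec (CommRingCat.of Ω))) :
    F.base (ι.base pt) =
      (gAct f K (FiniteField.frobeniusAlgEquivOfAlgebraic k K)⁻¹).base (ι.base pt) := by
  haveI : Subsingleton ↥(Spec (CommRingCat.of Ω)) :=
    inferInstanceAs (Subsingleton (PrimeSpectrum Ω))
  let β : CommRingCat.of K ⟶ CommRingCat.of Ω := Spec.preimage (ι ≫ pullback.snd f sm[k, K])
  have hβ : Spec.map β = ι ≫ pullback.snd f sm[k, K] := Spec.map_preimage _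
  letI : Algebra K Ω := β.hom.toAlgebra
  letI : Algebra k Ω := ((algebraMap K Ω).comp (algebraMap k K)).toAlgebra
  let fr : Ω →+* Ω := (FiniteField.frobeniusAlgHom k Ω).toRingHom
  have hfr : ∀ x, fr x = x ^ Fintype.card k := fun x =>
    congrFun (FiniteField.coe_frobeniusAlgHom k Ω) x
  have hA2 : Spec.map (CommRingCat.ofHom fr) ≫ Spec.map β =
      Spec.map β ≫ sσ K (FiniteField.frobeniusAlgEquivOfAlgebraic k K) := by
    rw [sσ, ← Spec.map_comp, ← Spec.map_comp]
    congr 1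
    ext c
    show fr (β.hom c) = β.hom ((FiniteField.frobeniusAlgEquivOfAlgebraic k K) c)
    rw [hfr, FiniteField.coe_frobeniusAlgEquivOfAlgebraic, map_pow]
  have key : ι ≫ F = Spec.map (CommRingCat.ofHom fr) ≫ ι ≫
      gAct f K (FiniteField.frobeniusAlgEquivOfAlgebraic k K)⁻¹ := by
    refine pullback.hom_ext (f := f) (g := sm[k, K]) ?_ ?_
    · rw [Category.assoc, hF1, ← Category.assoc,
        frob_nat FX (Fintype.card k) hle hFapp Ω fr hfr (ι ≫ pullback.fst f sm[k, K])]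
      simp only [Category.assoc]
      rw [gAct_fst]
    · rw [Category.assoc, hF2, ← hβ]
      simp only [Category.assoc]
      rw [gAct_snd, ← Category.assoc ι, ← hβ, ← Category.assoc, hA2, Category.assoc, sσ_mul,
        mul_inv_cancel, sσ_one, Category.comp_id]
  have h1 := congrArg (fun ψ : Spec (CommRingCat.of Ω) ⟶ pullback f sm[k, K] => ψ.base pt) key
  have h2 : (Spec.map (CommRingCat.ofHom fr)).base pt = pt := Subsingleton.elim _ _
  calc F.base (ι.base pt) = (ι ≫ F).base pt := rfl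
    _ = (Spec.map (CommRingCat.ofHom fr) ≫ ι ≫
          gAct f K (FiniteField.frobeniusAlgEquivOfAlgebraic k K)⁻¹).base pt := h1
    _ = (gAct f K (FiniteField.frobeniusAlgEquivOfAlgebraic k K)⁻¹).base
          (ι.base ((Spec.map (CommRingCat.ofHom fr)).base pt)) := rfl
    _ = _ := by rw [h2]

theorem F_eq_gAct (FX : X ⟶ X) (hle : ∀ U : X.Opens, U ≤ FX ⁻¹ᵁ U)
    (hFapp : ∀ (U : X.Opens) (s : Γ(X, U)),
      (FX.appLE U U (hle U)).hom s = s ^ Fintype.card k)
    (F : pullback f sm[k, K] ⟶ pullback f sm[k, K])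
    (hF1 : F ≫ pullback.fst f sm[k, K] = pullback.fst f sm[k, K] ≫ FX)
    (hF2 : F ≫ pullback.snd f sm[k, K] = pullback.snd f sm[k, K])
    (z : ↥(pullback f sm[k, K])) :
    F.base z = (gAct f K (FiniteField.frobeniusAlgEquivOfAlgebraic k K)⁻¹).base z := by
  let pt : ↥(Spec (CommRingCat.of ↑((pullback f sm[k, K]).residueField z))) :=
    IsLocalRing.closedPoint ↑((pullback f sm[k, K]).residueField z)
  have hpt : ((pullback f sm[k, K]).fromSpecResidueField z).base pt = z :=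
    Scheme.fromSpecResidueField_apply z pt
  have h := F_eq_gAct_aux f K FX hle hFapp F hF1 hF2 ↑((pullback f sm[k, K]).residueField z)
    ((pullback f sm[k, K]).fromSpecResidueField z) pt
  rw [hpt] at h
  exact h

end Frob

theorem main13072 {k : Type u} [Field k] [Finite k]
    {X : Scheme.{u}} (f : X ⟶ Spec (CommRingCat.of k))
    (FX : X ⟶ X) (hFb : FX.base = 𝟙 _) (hle : ∀ U : X.Opens, U ≤ FX ⁻¹ᵁ U)
    (hFapp : ∀ (U : X.Opens) (s : Γ(X, U)), (FX.appLE U U (hle U)).hom s = s ^ Nat.card k)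
    (F : FinFr.ext (AlgebraicClosure k) f ⟶ FinFr.ext (AlgebraicClosure k) f)
    (hF1 : F ≫ FinFr.extπ (AlgebraicClosure k) f = FinFr.extπ (AlgebraicClosure k) f ≫ FX)
    (hF2 : F ≫ FinFr.extStr (AlgebraicClosure k) f = FinFr.extStr (AlgebraicClosure k) f)
    (W : Set ↑(FinFr.ext (AlgebraicClosure k) f)) (hW : IsClosed W) :
    (∃ Y : Set X, IsClosed Y ∧ (FinFr.extπ (AlgebraicClosure k) f).base ⁻¹' Y = W) ↔
      F.base '' W ⊆ W := by
  haveI := Fintype.ofFinite k
  have hq : Nat.card k = Fintype.card k := Nat.card_eq_fintype_card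
  constructor
  · rintro ⟨Y, -, rfl⟩
    rintro _ ⟨z, hz, rfl⟩
    show (FinFr.extπ (AlgebraicClosure k) f).base (F.base z) ∈ Y
    have h1 := congrArg (fun ψ : FinFr.ext (AlgebraicClosure k) f ⟶ X => ψ.base z) hF1
    have h2 : (FinFr.extπ (AlgebraicClosure k) f).base (F.base z) =
        FX.base ((FinFr.extπ (AlgebraicClosure k) f).base z) := h1
    have h3 : FX.base ((FinFr.extπ (AlgebraicClosure k) f).base z) =
        (FinFr.extπ (AlgebraicClosure k) f).base z := by
      rw [hFb]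
      rfl
    rw [h2, h3]
    exact hz
  · intro hFW
    haveI : IsGalois k (AlgebraicClosure k) := ⟨⟩
    have hΦ : ∀ z ∈ W, (gAct f (AlgebraicClosure k)
        (FiniteField.frobeniusAlgEquivOfAlgebraic k (AlgebraicClosure k))⁻¹).base z ∈ W := by
      intro z hz
      rw [← F_eq_gAct f (AlgebraicClosure k) FX hle
        (fun U s => (hFapp U s).trans (by rw [hq])) F hF1 hF2 z]
      exact hFW ⟨z, hz, rfl⟩
    have hall : ∀ (σ : AlgebraicClosure k ≃ₐ[k] AlgebraicClosure k), ∀ z ∈ W,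
        (gAct f (AlgebraicClosure k) σ).base z ∈ W := fun σ z hz =>
      stable_all f (AlgebraicClosure k) W hW hΦ σ z hz
    refine Groth.Agent.Lib.GalCompsH4.closed_descends f (AlgebraicClosure k) W hW (fun σ => ?_)
    apply Set.Subset.antisymm
    · rintro _ ⟨z, hz, rfl⟩
      exact hall σ z hz
    · intro z hz
      exact ⟨(gAct f (AlgebraicClosure k) σ⁻¹).base z, hall σ⁻¹ z hz,
        gAct_inv_apply f (AlgebraicClosure k) σ z⟩

end Groth.Agent.Lib.FrobDescendH4
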