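import Mathlib
import Groth.Prelude
import Groth.Agent.Lib.OmegaCompat2_helper4
import Groth.Agent.Lib.OmegaCompat3_helper4
import Groth.Agent.Lib.ConeSP_lead

/-!
# Differentials of a fibre product: `p^*Ω_X ⨿ q^*Ω_Y ≅ Ω_Z` for receptacles (helper4).
APPEND-ONLY once landed.
-/

set_option autoImplicit false
set_option linter.style.haveILetI false

universe u

open CategoryTheory CategoryTheory.Limits AlgebraicGeometry Opposite TopologicalSpace TensorProduct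
open AlgebraicGeometry.Scheme.Modules

namespace Groth.Agent.Lib.OmegaProdH4

open Groth.Agent.Lib.OmegaUniv2H4 Groth.Agent.Lib.OmegaResH4 Groth.Agent.Lib.OmegaRecQCH4
open Groth.Agent.Lib.OmegaCompatH4 Groth.Agent.Lib.OmegaCompat2H4 Groth.Agent.Lib.OmegaCompat3H4

section Algebra

open KaehlerDifferential

theorem alg_core_equiv {R A B M N₁ N₂ : Type u} [CommRing R] [CommRing A] [CommRing B]
    [Algebra R A] [Algebra A B] [Algebra R B] [IsScalarTower R A B]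
    [AddCommGroup M] [Module A M] [AddCommGroup N₁] [Module A N₁] [Module B N₁]
    [IsScalarTower A B N₁] [AddCommGroup N₂] [Module B N₂]
    (φ₁ : M →ₗ[A] N₁) (hbc : IsBaseChange B φ₁) (cl : N₁ →ₗ[B] N₂)
    (L₁ : M ≃ₗ[A] Ω[A⁄R]) (L₂ : N₂ ≃ₗ[B] Ω[B⁄R])
    (hform : ∀ m, L₂ (cl (φ₁ m)) = KaehlerDifferential.map R R A B (L₁ m)) :
    ∃ E₁ : (B ⊗[A] Ω[A⁄R]) ≃ₗ[B] N₁,
      ∀ t, L₂ (cl (E₁ t)) = KaehlerDifferential.mapBaseChange R A B t := by
  let E₁ : (B ⊗[A] Ω[A⁄R]) ≃ₗ[B] N₁ := (L₁.symm.baseChange A B _ _).trans hbc.equiv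
  refine ⟨E₁, fun t => ?_⟩
  induction t using TensorProduct.induction_on with
  | zero => rw [map_zero, map_zero, map_zero, map_zero]
  | tmul b x =>
    have h1 : E₁ (b ⊗ₜ x) = b • φ₁ (L₁.symm x) := by
      show hbc.equiv ((L₁.symm.baseChange A B _ _) (b ⊗ₜ x)) = _
      rw [LinearEquiv.baseChange_tmul, IsBaseChange.equiv_tmul]
    rw [h1, cl.map_smul, L₂.map_smul, hform, LinearEquiv.apply_symm_apply,
      KaehlerDifferential.mapBaseChange_tmul]
  | add x y hx hy => rw [map_add, map_add, map_add, map_add, hx, hy]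

theorem map_map_eq (R B A C : Type u) [CommRing R] [CommRing A] [CommRing B] [CommRing C]
    [Algebra R A] [Algebra R B] [Algebra A C] [Algebra B C] [Algebra R C]
    [IsScalarTower R A C] [IsScalarTower R B C] [SMulCommClass B A C] (x : Ω[A⁄R]) :
    KaehlerDifferential.map R B C C (KaehlerDifferential.map R R A C x) =
      KaehlerDifferential.map R B A C x := by
  have key : ((KaehlerDifferential.map R B C C).restrictScalars A).comp
      (KaehlerDifferential.map R R A C) = KaehlerDifferential.map R B A C := by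
    refine LinearMap.ext_on (KaehlerDifferential.span_range_derivation R A) ?_
    rintro _ ⟨a, rfl⟩
    show KaehlerDifferential.map R B C C
        (KaehlerDifferential.map R R A C (KaehlerDifferential.D R A a)) =
      KaehlerDifferential.map R B A C (KaehlerDifferential.D R A a)
    rw [KaehlerDifferential.map_D, KaehlerDifferential.map_D, KaehlerDifferential.map_D]
    rfl
  exact LinearMap.congr_fun key x

set_option maxHeartbeats 1600000 in
theorem alg_prod (R A B C : Type u) [CommRing R] [CommRing A] [CommRing B] [CommRing C]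
    [Algebra R A] [Algebra R B] [Algebra A C] [Algebra B C] [Algebra R C]
    [IsScalarTower R A C] [IsScalarTower R B C] [Algebra.IsPushout R A B C] :
    (∀ (x : C ⊗[A] Ω[A⁄R]) (y : C ⊗[B] Ω[B⁄R]),
      KaehlerDifferential.mapBaseChange R A C x + KaehlerDifferential.mapBaseChange R B C y = 0 →
        x = 0 ∧ y = 0) ∧
    (∀ ω : Ω[C⁄R], ∃ (x : C ⊗[A] Ω[A⁄R]) (y : C ⊗[B] Ω[B⁄R]),
      KaehlerDifferential.mapBaseChange R A C x + KaehlerDifferential.mapBaseChange R B C y = ω) := by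
  haveI ip' : Algebra.IsPushout R B A C := Algebra.IsPushout.symm inferInstance
  haveI sc1 : SMulCommClass B A C := ⟨fun r a b => by simp only [Algebra.smul_def]; ring⟩
  haveI sc2 : SMulCommClass A B C := ⟨fun r a b => by simp only [Algebra.smul_def]; ring⟩
  have hμ₁ : IsBaseChange C (KaehlerDifferential.map R B A C) :=
    isBaseChange_map_of_isPushout R B A C
  have hμ₂ : IsBaseChange C (KaehlerDifferential.map R A B C) :=
    isBaseChange_map_of_isPushout R A B C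
  have key₁ : ∀ t : C ⊗[A] Ω[A⁄R], KaehlerDifferential.map R B C C
      (KaehlerDifferential.mapBaseChange R A C t) = hμ₁.equiv t := by
    intro t
    induction t using TensorProduct.induction_on with
    | zero => rw [map_zero, map_zero, map_zero]
    | tmul c x =>
      rw [KaehlerDifferential.mapBaseChange_tmul, LinearMap.map_smul, map_map_eq R B A C x,
        IsBaseChange.equiv_tmul]
    | add x y hx hy => rw [map_add, map_add, map_add, hx, hy]
  have key₂ : ∀ t : C ⊗[B] Ω[B⁄R], KaehlerDifferential.map R A C C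
      (KaehlerDifferential.mapBaseChange R B C t) = hμ₂.equiv t := by
    intro t
    induction t using TensorProduct.induction_on with
    | zero => rw [map_zero, map_zero, map_zero]
    | tmul c x =>
      rw [KaehlerDifferential.mapBaseChange_tmul, LinearMap.map_smul, map_map_eq R A B C x,
        IsBaseChange.equiv_tmul]
    | add x y hx hy => rw [map_add, map_add, map_add, hx, hy]
  have z₁ : ∀ y : C ⊗[B] Ω[B⁄R], KaehlerDifferential.map R B C C
      (KaehlerDifferential.mapBaseChange R B C y) = 0 :=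
    fun y => (KaehlerDifferential.exact_mapBaseChange_map R B C).apply_apply_eq_zero y
  have z₂ : ∀ x : C ⊗[A] Ω[A⁄R], KaehlerDifferential.map R A C C
      (KaehlerDifferential.mapBaseChange R A C x) = 0 :=
    fun x => (KaehlerDifferential.exact_mapBaseChange_map R A C).apply_apply_eq_zero x
  constructor
  · intro x y hxy
    have e1 := congrArg (KaehlerDifferential.map R B C C) hxy
    rw [map_add, key₁, z₁, add_zero, map_zero] at e1
    have e2 := congrArg (KaehlerDifferential.map R A C C) hxy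
    rw [map_add, z₂, key₂, zero_add, map_zero] at e2
    exact ⟨hμ₁.equiv.map_eq_zero_iff.mp e1, hμ₂.equiv.map_eq_zero_iff.mp e2⟩
  · intro ω
    let y : C ⊗[B] Ω[B⁄R] := hμ₂.equiv.symm (KaehlerDifferential.map R A C C ω)
    have hy : KaehlerDifferential.map R A C C
        (ω - KaehlerDifferential.mapBaseChange R B C y) = 0 := by
      rw [map_sub, key₂, LinearEquiv.apply_symm_apply, sub_self]
    obtain ⟨x, hx⟩ := (KaehlerDifferential.exact_mapBaseChange_map R A C _).mp hy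
    exact ⟨x, y, by rw [hx, sub_add_cancel]⟩

end Algebra

section Biprod

variable {Z : Scheme.{u}} {M₁ M₂ N : Z.Modules}

theorem bijective_desc_app (c₁ : M₁ ⟶ N) (c₂ : M₂ ⟶ N) (W : Z.Opens)
    (hinj : ∀ (x : Γ(M₁, W)) (y : Γ(M₂, W)), c₁.app W x + c₂.app W y = 0 → x = 0 ∧ y = 0)
    (hsurj : ∀ ω : Γ(N, W), ∃ (x : Γ(M₁, W)) (y : Γ(M₂, W)), c₁.app W x + c₂.app W y = ω) :
    Function.Bijective ((biprod.desc c₁ c₂).app W) := by
  have hdec : ∀ s : Γ(M₁ ⊞ M₂, W),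
      (biprod.inl : M₁ ⟶ M₁ ⊞ M₂).app W ((biprod.fst : M₁ ⊞ M₂ ⟶ M₁).app W s) +
        (biprod.inr : M₂ ⟶ M₁ ⊞ M₂).app W ((biprod.snd : M₁ ⊞ M₂ ⟶ M₂).app W s) = s := by
    intro s
    have h3 : ((biprod.fst : M₁ ⊞ M₂ ⟶ M₁) ≫ biprod.inl +
        (biprod.snd : M₁ ⊞ M₂ ⟶ M₂) ≫ biprod.inr).app W s = s :=
      (Groth.Agent.Lib.ConeSP.app_congr biprod.total W s).trans
        (Groth.Agent.Lib.ConeSP.app_id_apply W s)
    exact h3
  have h1 : ∀ x : Γ(M₁, W), (biprod.desc c₁ c₂).app W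
      ((biprod.inl : M₁ ⟶ M₁ ⊞ M₂).app W x) = c₁.app W x :=
    fun x => Groth.Agent.Lib.ConeSP.app_congr (biprod.inl_desc c₁ c₂) W x
  have h2 : ∀ y : Γ(M₂, W), (biprod.desc c₁ c₂).app W
      ((biprod.inr : M₂ ⟶ M₁ ⊞ M₂).app W y) = c₂.app W y :=
    fun y => Groth.Agent.Lib.ConeSP.app_congr (biprod.inr_desc c₁ c₂) W y
  have hadd : ∀ (x : Γ(M₁, W)) (y : Γ(M₂, W)), (biprod.desc c₁ c₂).app W
      ((biprod.inl : M₁ ⟶ M₁ ⊞ M₂).app W x + (biprod.inr : M₂ ⟶ M₁ ⊞ M₂).app W y) =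
      c₁.app W x + c₂.app W y := by
    intro x y
    refine (Groth.Agent.Lib.ConeSP.app_map_add (biprod.desc c₁ c₂) W _ _).trans ?_
    rw [h1, h2]
  constructor
  · intro s t hst
    have hs : (biprod.desc c₁ c₂).app W (s - t) = 0 := by rw [map_sub, hst, sub_self]
    have hu := hdec (s - t)
    rw [← hu] at hs
    rw [hadd] at hs
    obtain ⟨hx, hy⟩ := hinj _ _ hs
    rw [hx, hy, map_zero, map_zero, add_zero] at hu
    exact sub_eq_zero.mp hu.symm
  · intro ω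
    obtain ⟨x, y, hxy⟩ := hsurj ω
    exact ⟨_, (hadd x y).trans hxy⟩

theorem isIso_coprod_desc_of_biprod (c₁ : M₁ ⟶ N) (c₂ : M₂ ⟶ N)
    (hb : IsIso (biprod.desc c₁ c₂)) : IsIso (coprod.desc c₁ c₂) := by
  have heq : coprod.desc c₁ c₂ = (biprod.isoCoprod M₁ M₂).inv ≫ biprod.desc c₁ c₂ := by
    refine coprod.hom_ext ?_ ?_
    · simp
    · simp
  rw [heq]
  infer_instance

end Biprod

section Geom

variable {X Y S Z : Scheme.{u}} (a : X ⟶ S) (b : Y ⟶ S) (p : Z ⟶ X) (q : Z ⟶ Y) (h : Z ⟶ S)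

set_option maxHeartbeats 6400000 in
theorem sections_prod (wp : p ≫ a = h) (wq : q ≫ b = h) (hZ : IsPullback p q a b)
    (ΩX : X.Modules) (dX : OmegaSh.Der a ΩX) (hX : OmegaSh.IsUniversal dX)
    (ΩY : Y.Modules) (dY : OmegaSh.Der b ΩY) (hY : OmegaSh.IsUniversal dY)
    (ΩZ : Z.Modules) (dZ : OmegaSh.Der h ΩZ) (hZu : OmegaSh.IsUniversal dZ)
    (c₁ : (Scheme.Modules.pullback p).obj ΩX ⟶ ΩZ) (hc₁ : OmegaSh.IsDiffCompat p dX dZ c₁)
    (c₂ : (Scheme.Modules.pullback q).obj ΩY ⟶ ΩZ) (hc₂ : OmegaSh.IsDiffCompat q dY dZ c₂)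
    {W : Z.Opens} {U : X.Opens} {V : Y.Opens} {T : S.Opens} (hU : IsAffineOpen U)
    (hV : IsAffineOpen V) (hT : IsAffineOpen T) (hUT : U ≤ a ⁻¹ᵁ T) (hVT : V ≤ b ⁻¹ᵁ T)
    (hWeq : W = p ⁻¹ᵁ U ⊓ q ⁻¹ᵁ V) (hW : IsAffineOpen W) :
    (∀ (x : Γ((Scheme.Modules.pullback p).obj ΩX, W))
      (y : Γ((Scheme.Modules.pullback q).obj ΩY, W)),
      c₁.app W x + c₂.app W y = 0 → x = 0 ∧ y = 0) ∧
    (∀ ω : Γ(ΩZ, W), ∃ (x : Γ((Scheme.Modules.pullback p).obj ΩX, W))
      (y : Γ((Scheme.Modules.pullback q).obj ΩY, W)), c₁.app W x + c₂.app W y = ω) := by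
  have eU : W ≤ p ⁻¹ᵁ U := hWeq.le.trans inf_le_left
  have eV : W ≤ q ⁻¹ᵁ V := hWeq.le.trans inf_le_right
  have hWT : W ≤ h ⁻¹ᵁ T := by
    intro z hz
    have hz1 : a (p z) ∈ T := hUT (eU hz)
    have hz2 : a (p z) = h z := congrArg (fun k : Z ⟶ S => k z) wp
    have hz3 : h z ∈ T := by rw [← hz2]; exact hz1
    exact hz3
  letI aRA : Algebra Γ(S, T) Γ(X, U) := (a.appLE T U hUT).hom.toAlgebra
  letI aRB : Algebra Γ(S, T) Γ(Y, V) := (b.appLE T V hVT).hom.toAlgebra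
  letI aAC : Algebra Γ(X, U) Γ(Z, W) := (p.appLE U W eU).hom.toAlgebra
  letI aBC : Algebra Γ(Y, V) Γ(Z, W) := (q.appLE V W eV).hom.toAlgebra
  letI aRC : Algebra Γ(S, T) Γ(Z, W) := (h.appLE T W hWT).hom.toAlgebra
  have commA : ∀ r : Γ(S, T), (h.appLE T W hWT).hom r =
      (p.appLE U W eU).hom ((a.appLE T U hUT).hom r) := by
    intro r
    have c1 := Scheme.Hom.appLE_comp_appLE p a T U W hUT eU
    have c3 : a.appLE T U hUT ≫ p.appLE U W eU = h.appLE T W hWT :=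
      c1.trans (OmegaSh.appLE_congr_hom wp _ _)
    exact (congrArg (fun k => k.hom r) c3).symm
  have commB : ∀ r : Γ(S, T), (h.appLE T W hWT).hom r =
      (q.appLE V W eV).hom ((b.appLE T V hVT).hom r) := by
    intro r
    have c1 := Scheme.Hom.appLE_comp_appLE q b T V W hVT eV
    have c3 : b.appLE T V hVT ≫ q.appLE V W eV = h.appLE T W hWT :=
      c1.trans (OmegaSh.appLE_congr_hom wq _ _)
    exact (congrArg (fun k => k.hom r) c3).symm
  haveI tA : IsScalarTower Γ(S, T) Γ(X, U) Γ(Z, W) :=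
    IsScalarTower.of_algebraMap_eq (fun r => commA r)
  haveI tB : IsScalarTower Γ(S, T) Γ(Y, V) Γ(Z, W) :=
    IsScalarTower.of_algebraMap_eq (fun r => commB r)
  have hpo : IsPushout (a.appLE T U hUT) (b.appLE T V hVT) (p.appLE U W eU)
      (q.appLE V W eV) :=
    (isIso_pushoutSection_iff hZ hVT hUT hWeq).mp
      (isIso_pushoutSection_of_isAffineOpen hZ hVT hUT hWeq hT hV hU)
  have hpo' : IsPushout (CommRingCat.ofHom (algebraMap Γ(S, T) Γ(X, U)))
      (CommRingCat.ofHom (algebraMap Γ(S, T) Γ(Y, V)))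
      (CommRingCat.ofHom (algebraMap Γ(X, U) Γ(Z, W)))
      (CommRingCat.ofHom (algebraMap Γ(Y, V) Γ(Z, W))) := hpo
  haveI ip : Algebra.IsPushout Γ(S, T) Γ(X, U) Γ(Y, V) Γ(Z, W) :=
    CommRingCat.isPushout_iff_isPushout.mp hpo'
  obtain ⟨LX, hLX⟩ := receptacleSections a dX hX hU hT hUT
  obtain ⟨LY, hLY⟩ := receptacleSections b dY hY hV hT hVT
  obtain ⟨LZ, hLZ⟩ := receptacleSections h dZ hZu hW hT hWT
  haveI qcX : ΩX.IsQuasicoherent := isQuasicoherent a dX hX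
  haveI qcY : ΩY.IsQuasicoherent := isQuasicoherent b dY hY
  -- first factor
  letI mA1 : Module Γ(X, U) Γ((Scheme.Modules.pullback p).obj ΩX, W) :=
    Module.compHom _ (p.appLE U W eU).hom
  haveI tA1 : IsScalarTower Γ(X, U) Γ(Z, W) Γ((Scheme.Modules.pullback p).obj ΩX, W) :=
    IsScalarTower.of_algebraMap_smul fun _ _ => rfl
  letI mA2 : Module Γ(X, U) Γ(ΩZ, W) := Module.compHom _ (p.appLE U W eU).hom
  haveI tA2 : IsScalarTower Γ(X, U) Γ(Z, W) Γ(ΩZ, W) :=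
    IsScalarTower.of_algebraMap_smul fun _ _ => rfl
  have hbc1 := PBH8.isBaseChange_cUV p ΩX eU hW hU
  let cl1 : Γ((Scheme.Modules.pullback p).obj ΩX, W) →ₗ[Γ(Z, W)] Γ(ΩZ, W) :=
    { toFun := fun y => c₁.app W y
      map_add' := fun y z => map_add (c₁.app W).hom y z
      map_smul' := fun r y => Scheme.Modules.Hom.app_smul c₁ r y }
  let lam1 : Γ(ΩX, U) →ₗ[Γ(X, U)] Γ(ΩZ, W) :=
    (cl1.restrictScalars Γ(X, U)).comp (PBH8.cUVLin p ΩX eU)
  have hcomm1 : (KaehlerDifferential.map Γ(S, T) Γ(S, T) Γ(X, U) Γ(Z, W)).comp LX.toLinearMap =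
      (LZ.restrictScalars Γ(X, U)).toLinearMap.comp lam1 := by
    refine LinearMap.ext_on (span_d a dX hX ⟨hU, T, hT, hUT⟩) ?_
    rintro _ ⟨s, rfl⟩
    show KaehlerDifferential.map Γ(S, T) Γ(S, T) Γ(X, U) Γ(Z, W) (LX (dX.app U s)) =
      LZ (c₁.app W (PBH8.cUV p ΩX eU (dX.app U s)))
    rw [hLX, cUV_d p dX dZ c₁ hc₁ eU s, hLZ, KaehlerDifferential.map_D]
    rfl
  have hform1 : ∀ m, LZ (cl1 (PBH8.cUVLin p ΩX eU m)) =
      KaehlerDifferential.map Γ(S, T) Γ(S, T) Γ(X, U) Γ(Z, W) (LX m) :=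
    fun m => (LinearMap.congr_fun hcomm1 m).symm
  obtain ⟨E₁, hE₁⟩ := alg_core_equiv (PBH8.cUVLin p ΩX eU) hbc1 cl1 LX LZ hform1
  -- second factor
  letI mB1 : Module Γ(Y, V) Γ((Scheme.Modules.pullback q).obj ΩY, W) :=
    Module.compHom _ (q.appLE V W eV).hom
  haveI tB1 : IsScalarTower Γ(Y, V) Γ(Z, W) Γ((Scheme.Modules.pullback q).obj ΩY, W) :=
    IsScalarTower.of_algebraMap_smul fun _ _ => rfl
  letI mB2 : Module Γ(Y, V) Γ(ΩZ, W) := Module.compHom _ (q.appLE V W eV).hom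
  haveI tB2 : IsScalarTower Γ(Y, V) Γ(Z, W) Γ(ΩZ, W) :=
    IsScalarTower.of_algebraMap_smul fun _ _ => rfl
  have hbc2 := PBH8.isBaseChange_cUV q ΩY eV hW hV
  let cl2 : Γ((Scheme.Modules.pullback q).obj ΩY, W) →ₗ[Γ(Z, W)] Γ(ΩZ, W) :=
    { toFun := fun y => c₂.app W y
      map_add' := fun y z => map_add (c₂.app W).hom y z
      map_smul' := fun r y => Scheme.Modules.Hom.app_smul c₂ r y }
  let lam2 : Γ(ΩY, V) →ₗ[Γ(Y, V)] Γ(ΩZ, W) :=
    (cl2.restrictScalars Γ(Y, V)).comp (PBH8.cUVLin q ΩY eV)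
  have hcomm2 : (KaehlerDifferential.map Γ(S, T) Γ(S, T) Γ(Y, V) Γ(Z, W)).comp LY.toLinearMap =
      (LZ.restrictScalars Γ(Y, V)).toLinearMap.comp lam2 := by
    refine LinearMap.ext_on (span_d b dY hY ⟨hV, T, hT, hVT⟩) ?_
    rintro _ ⟨s, rfl⟩
    show KaehlerDifferential.map Γ(S, T) Γ(S, T) Γ(Y, V) Γ(Z, W) (LY (dY.app V s)) =
      LZ (c₂.app W (PBH8.cUV q ΩY eV (dY.app V s)))
    rw [hLY, cUV_d q dY dZ c₂ hc₂ eV s, hLZ, KaehlerDifferential.map_D]
    rfl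
  have hform2 : ∀ m, LZ (cl2 (PBH8.cUVLin q ΩY eV m)) =
      KaehlerDifferential.map Γ(S, T) Γ(S, T) Γ(Y, V) Γ(Z, W) (LY m) :=
    fun m => (LinearMap.congr_fun hcomm2 m).symm
  obtain ⟨E₂, hE₂⟩ := alg_core_equiv (PBH8.cUVLin q ΩY eV) hbc2 cl2 LY LZ hform2
  obtain ⟨ainj, asurj⟩ := alg_prod Γ(S, T) Γ(X, U) Γ(Y, V) Γ(Z, W)
  have hE₁' : ∀ x : Γ((Scheme.Modules.pullback p).obj ΩX, W), LZ (c₁.app W x) =
      KaehlerDifferential.mapBaseChange Γ(S, T) Γ(X, U) Γ(Z, W) (E₁.symm x) := by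
    intro x
    have := hE₁ (E₁.symm x)
    rw [LinearEquiv.apply_symm_apply] at this
    exact this
  have hE₂' : ∀ y : Γ((Scheme.Modules.pullback q).obj ΩY, W), LZ (c₂.app W y) =
      KaehlerDifferential.mapBaseChange Γ(S, T) Γ(Y, V) Γ(Z, W) (E₂.symm y) := by
    intro y
    have := hE₂ (E₂.symm y)
    rw [LinearEquiv.apply_symm_apply] at this
    exact this
  constructor
  · intro x y hxy
    have e1 : LZ (c₁.app W x) + LZ (c₂.app W y) = 0 := by
      rw [← map_add, hxy, map_zero]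
    rw [hE₁', hE₂'] at e1
    obtain ⟨h1, h2⟩ := ainj _ _ e1
    exact ⟨E₁.symm.map_eq_zero_iff.mp h1, E₂.symm.map_eq_zero_iff.mp h2⟩
  · intro ω
    obtain ⟨t₁, t₂, ht⟩ := asurj (LZ ω)
    refine ⟨E₁ t₁, E₂ t₂, LZ.injective ?_⟩
    rw [map_add]
    exact ((congrArg₂ (· + ·) (hE₁ t₁) (hE₂ t₂)).trans ht)

theorem main5023 (wp : p ≫ a = h) (wq : q ≫ b = h) (hZ : IsPullback p q a b)
    (ΩX : X.Modules) (dX : OmegaSh.Der a ΩX) (hX : OmegaSh.IsUniversal dX)
    (ΩY : Y.Modules) (dY : OmegaSh.Der b ΩY) (hY : OmegaSh.IsUniversal dY)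
    (ΩZ : Z.Modules) (dZ : OmegaSh.Der h ΩZ) (hZu : OmegaSh.IsUniversal dZ)
    (c₁ : (Scheme.Modules.pullback p).obj ΩX ⟶ ΩZ) (hc₁ : OmegaSh.IsDiffCompat p dX dZ c₁)
    (c₂ : (Scheme.Modules.pullback q).obj ΩY ⟶ ΩZ) (hc₂ : OmegaSh.IsDiffCompat q dY dZ c₂) :
    IsIso (coprod.desc c₁ c₂) := by
  refine isIso_coprod_desc_of_biprod c₁ c₂ ?_
  haveI qcX : ΩX.IsQuasicoherent := isQuasicoherent a dX hX
  haveI qcY : ΩY.IsQuasicoherent := isQuasicoherent b dY hY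
  haveI qcZ : ΩZ.IsQuasicoherent := isQuasicoherent h dZ hZu
  haveI qc1 : ((Scheme.Modules.pullback p).obj ΩX).IsQuasicoherent :=
    PBH8.isQuasicoherent_pullback p ΩX
  haveI qc2 : ((Scheme.Modules.pullback q).obj ΩY).IsQuasicoherent :=
    PBH8.isQuasicoherent_pullback q ΩY
  haveI qc3 : ((Scheme.Modules.pullback p).obj ΩX ⊞
      (Scheme.Modules.pullback q).obj ΩY).IsQuasicoherent :=
    CohOpenH8.isQuasicoherent_biprod _ _
  refine QCohCrit.isIso_of_bijective_on_cover (biprod.desc c₁ c₂)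
    (fun i : {W : Z.Opens // GoodBC a q p b W} => i.1)
    (fun i => isAffineOpen_goodBC a q p b hZ i.2)
    (cover_goodBC a q p b hZ) ?_
  rintro ⟨W, hWg⟩
  have hW : IsAffineOpen W := isAffineOpen_goodBC a q p b hZ hWg
  obtain ⟨U, T, V, hU, hT, hV, hUT, hVT, hWeq⟩ := hWg
  obtain ⟨hinj, hsurj⟩ := sections_prod a b p q h wp wq hZ ΩX dX hX ΩY dY hY ΩZ dZ hZu
    c₁ hc₁ c₂ hc₂ hU hV hT hUT hVT hWeq hW
  exact bijective_desc_app c₁ c₂ W hinj hsurj

end Geom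

end Groth.Agent.Lib.OmegaProdH4
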