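import Mathlib
import Groth.Prelude
import Groth.Agent.Lib.OmegaProd_helper4
import Groth.Agent.Lib.OmegaFunct_helper4
import Groth.Agent.Lib.QcqsLoc_helper9

/-!
# Differentials relative to the relative Frobenius (helper4).
APPEND-ONLY once landed.
-/

set_option autoImplicit false
set_option linter.style.haveILetI false

universe u

open CategoryTheory CategoryTheory.Limits AlgebraicGeometry Opposite TopologicalSpace TensorProduct
open AlgebraicGeometry.Scheme.Modules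

namespace Groth.Agent.Lib.FrobDiffH4

open Groth.Agent.Lib.OmegaUniv2H4 Groth.Agent.Lib.OmegaResH4 Groth.Agent.Lib.OmegaRecQCH4
open Groth.Agent.Lib.OmegaCompatH4 Groth.Agent.Lib.OmegaCompat3H4 Groth.Agent.Lib.OmegaFunctH4

section Pow

variable {X S : Scheme.{u}} {f : X ⟶ S} {Ω : X.Modules} (d : OmegaSh.Der f Ω)

theorem der_pow_succ (U : X.Opens) (s : Γ(X, U)) (n : ℕ) :
    d.app U (s ^ (n + 1)) = ((n + 1 : ℕ) : Γ(X, U)) • (s ^ n • d.app U s) := by
  induction n with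
  | zero => simp
  | succ n ih =>
    have h1 : s ^ (n + 1 + 1) = s * s ^ (n + 1) := pow_succ' s (n + 1)
    rw [h1, der_mul, ih]
    simp only [smul_smul]
    rw [← add_smul]
    congr 1
    push_cast
    ring

theorem der_pow_eq_zero (p : ℕ) (hp0 : p ≠ 0) (U : X.Opens) (hp : (p : Γ(X, U)) = 0)
    (s : Γ(X, U)) : d.app U (s ^ p) = 0 := by
  obtain ⟨n, hn⟩ := Nat.exists_eq_succ_of_ne_zero hp0
  rw [hn] at hp ⊢
  rw [der_pow_succ, hp, zero_smul]

end Pow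

section General

variable {X X' S : Scheme.{u}} (f : X ⟶ S) (F : X ⟶ X') {Ω : X.Modules} (d : OmegaSh.Der f Ω)

/-- The sections of `O_{X'}` whose image under `F♯` is killed by `d`. -/
def K (V : X'.Opens) (a : Γ(X', V)) : Prop := d.app (F ⁻¹ᵁ V) ((F.app V).hom a) = 0

variable {f F d}

theorem K_zero (V : X'.Opens) : K f F d V 0 := by
  show d.app (F ⁻¹ᵁ V) ((F.app V).hom 0) = 0
  rw [map_zero, map_zero]

theorem K_add {V : X'.Opens} {a b : Γ(X', V)} (ha : K f F d V a) (hb : K f F d V b) :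
    K f F d V (a + b) := by
  have ha' : d.app (F ⁻¹ᵁ V) ((F.app V).hom a) = 0 := ha
  have hb' : d.app (F ⁻¹ᵁ V) ((F.app V).hom b) = 0 := hb
  show d.app (F ⁻¹ᵁ V) ((F.app V).hom (a + b)) = 0
  rw [map_add, map_add, ha', hb', add_zero]

theorem K_mul {V : X'.Opens} {a b : Γ(X', V)} (ha : K f F d V a) (hb : K f F d V b) :
    K f F d V (a * b) := by
  have ha' : d.app (F ⁻¹ᵁ V) ((F.app V).hom a) = 0 := ha
  have hb' : d.app (F ⁻¹ᵁ V) ((F.app V).hom b) = 0 := hb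
  show d.app (F ⁻¹ᵁ V) ((F.app V).hom (a * b)) = 0
  rw [map_mul, der_mul, ha', hb', smul_zero, smul_zero, add_zero]

theorem K_res {V V' : X'.Opens} (h : V' ≤ V) {a : Γ(X', V)} (ha : K f F d V a) :
    K f F d V' ((X'.presheaf.map (homOfLE h).op).hom a) := by
  have hnat := congrArg (fun q => q.hom a) (F.naturality (U := V') (U' := V) (homOfLE h).op)
  have e1 : d.app (F ⁻¹ᵁ V') ((F.app V').hom ((X'.presheaf.map (homOfLE h).op).hom a)) =
      d.app (F ⁻¹ᵁ V') ((X.presheaf.map (homOfLE (F.preimage_mono h)).op).hom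
        ((F.app V).hom a)) :=
    congrArg (fun z => d.app (F ⁻¹ᵁ V') z) hnat
  have e2 := der_map d (F.preimage_mono h) ((F.app V).hom a)
  have ha' : d.app (F ⁻¹ᵁ V) ((F.app V).hom a) = 0 := ha
  show d.app (F ⁻¹ᵁ V') ((F.app V').hom ((X'.presheaf.map (homOfLE h).op).hom a)) = 0
  rw [e1]
  refine e2.trans ?_
  rw [ha', map_zero]

theorem K_local {V : X'.Opens} (a : Γ(X', V))
    (h : ∀ x ∈ V, ∃ (V' : X'.Opens) (hV' : V' ≤ V), x ∈ V' ∧
      K f F d V' ((X'.presheaf.map (homOfLE hV').op).hom a)) : K f F d V a := by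
  show d.app (F ⁻¹ᵁ V) ((F.app V).hom a) = 0
  refine QcqsLoc.eq_zero_of_cover Ω _ (fun x hx => ?_)
  obtain ⟨V', hV', hxV', hK⟩ := h (F x) hx
  refine ⟨F ⁻¹ᵁ V', F.preimage_mono hV', hxV', ?_⟩
  have hnat := congrArg (fun q => q.hom a) (F.naturality (U := V') (U' := V) (homOfLE hV').op)
  have e2 := der_map d (F.preimage_mono hV') ((F.app V).hom a)
  have hK' : d.app (F ⁻¹ᵁ V') ((F.app V').hom ((X'.presheaf.map (homOfLE hV').op).hom a)) = 0 :=
    hK
  exact e2.symm.trans ((congrArg (fun z => d.app (F ⁻¹ᵁ V') z) hnat).symm.trans hK')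

theorem K_of_mul_unit {V : X'.Opens} (a b c : Γ(X', V)) (hb : IsUnit b) (hKb : K f F d V b)
    (hKc : K f F d V c) (h : a * b = c) : K f F d V a := by
  have e : d.app (F ⁻¹ᵁ V) ((F.app V).hom (a * b)) =
      (F.app V).hom a • d.app (F ⁻¹ᵁ V) ((F.app V).hom b) +
        (F.app V).hom b • d.app (F ⁻¹ᵁ V) ((F.app V).hom a) :=
    (congrArg (fun z => d.app (F ⁻¹ᵁ V) z) (map_mul (F.app V).hom a b)).trans
      (der_mul d _ _ _)
  have hc' : d.app (F ⁻¹ᵁ V) ((F.app V).hom (a * b)) = 0 := by rw [h]; exact hKc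
  have hb' : d.app (F ⁻¹ᵁ V) ((F.app V).hom b) = 0 := hKb
  rw [hb', smul_zero, zero_add] at e
  have h0 : (F.app V).hom b • d.app (F ⁻¹ᵁ V) ((F.app V).hom a) = 0 := e.symm.trans hc'
  exact ((hb.map (F.app V).hom).smul_eq_zero).mp h0

end General

section Prod

variable {X X' S S' : Scheme.{u}} (f : X ⟶ S) (F : X ⟶ X') {Ω : X.Modules} (d : OmegaSh.Der f Ω)
  (p₁ : X' ⟶ X) (p₂ : X' ⟶ S') (b : S' ⟶ S)

set_option maxHeartbeats 3200000 in
theorem prodAffine_K (hsq : IsPullback p₁ p₂ f b)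
    (h1 : ∀ (U : X.Opens) (u : Γ(X, U)), K f F d (p₁ ⁻¹ᵁ U) ((p₁.app U).hom u))
    (h2 : ∀ (T : S'.Opens) (t : Γ(S', T)), K f F d (p₂ ⁻¹ᵁ T) ((p₂.app T).hom t))
    {U : X.Opens} {T : S'.Opens} {T₀ : S.Opens} (hU : IsAffineOpen U) (hT : IsAffineOpen T)
    (hT₀ : IsAffineOpen T₀) (hUT : U ≤ f ⁻¹ᵁ T₀) (hTT : T ≤ b ⁻¹ᵁ T₀) {W : X'.Opens}
    (hWeq : W = p₁ ⁻¹ᵁ U ⊓ p₂ ⁻¹ᵁ T) (a : Γ(X', W)) : K f F d W a := by
  have eU : W ≤ p₁ ⁻¹ᵁ U := hWeq.le.trans inf_le_left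
  have eT : W ≤ p₂ ⁻¹ᵁ T := hWeq.le.trans inf_le_right
  have hWT : W ≤ (p₁ ≫ f) ⁻¹ᵁ T₀ := fun z hz => hUT (eU hz)
  letI aRA : Algebra Γ(S, T₀) Γ(X, U) := (f.appLE T₀ U hUT).hom.toAlgebra
  letI aRB : Algebra Γ(S, T₀) Γ(S', T) := (b.appLE T₀ T hTT).hom.toAlgebra
  letI aAC : Algebra Γ(X, U) Γ(X', W) := (p₁.appLE U W eU).hom.toAlgebra
  letI aBC : Algebra Γ(S', T) Γ(X', W) := (p₂.appLE T W eT).hom.toAlgebra
  letI aRC : Algebra Γ(S, T₀) Γ(X', W) := ((p₁ ≫ f).appLE T₀ W hWT).hom.toAlgebra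
  have commA : ∀ r : Γ(S, T₀), ((p₁ ≫ f).appLE T₀ W hWT).hom r =
      (p₁.appLE U W eU).hom ((f.appLE T₀ U hUT).hom r) := by
    intro r
    have c1 := Scheme.Hom.appLE_comp_appLE p₁ f T₀ U W hUT eU
    exact (congrArg (fun k => k.hom r) c1).symm
  have commB : ∀ r : Γ(S, T₀), ((p₁ ≫ f).appLE T₀ W hWT).hom r =
      (p₂.appLE T W eT).hom ((b.appLE T₀ T hTT).hom r) := by
    intro r
    have c1 := Scheme.Hom.appLE_comp_appLE p₂ b T₀ T W hTT eT
    have c3 : b.appLE T₀ T hTT ≫ p₂.appLE T W eT = (p₁ ≫ f).appLE T₀ W hWT :=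
      c1.trans (OmegaSh.appLE_congr_hom hsq.w.symm _ _)
    exact (congrArg (fun k => k.hom r) c3).symm
  haveI tA : IsScalarTower Γ(S, T₀) Γ(X, U) Γ(X', W) :=
    IsScalarTower.of_algebraMap_eq (fun r => commA r)
  haveI tB : IsScalarTower Γ(S, T₀) Γ(S', T) Γ(X', W) :=
    IsScalarTower.of_algebraMap_eq (fun r => commB r)
  have hpo : IsPushout (f.appLE T₀ U hUT) (b.appLE T₀ T hTT) (p₁.appLE U W eU)
      (p₂.appLE T W eT) :=
    (isIso_pushoutSection_iff hsq hTT hUT hWeq).mp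
      (isIso_pushoutSection_of_isAffineOpen hsq hTT hUT hWeq hT₀ hT hU)
  have hpo' : IsPushout (CommRingCat.ofHom (algebraMap Γ(S, T₀) Γ(X, U)))
      (CommRingCat.ofHom (algebraMap Γ(S, T₀) Γ(S', T)))
      (CommRingCat.ofHom (algebraMap Γ(X, U) Γ(X', W)))
      (CommRingCat.ofHom (algebraMap Γ(S', T) Γ(X', W))) := hpo
  haveI ip : Algebra.IsPushout Γ(S, T₀) Γ(X, U) Γ(S', T) Γ(X', W) :=
    CommRingCat.isPushout_iff_isPushout.mp hpo'
  refine ip.out.inductionOn a (fun n => K f F d W n) (K_zero W) ?_ ?_ ?_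
  · intro t
    exact K_res eT (h2 T t)
  · intro s n hn
    have hs : s • n = (p₁.appLE U W eU).hom s * n := Algebra.smul_def s n
    rw [hs]
    exact K_mul (K_res eU (h1 U s)) hn
  · intro n₁ n₂ hn₁ hn₂
    exact K_add hn₁ hn₂

end Prod

section Frob

variable (p : ℕ) [Fact p.Prime] {X S : Scheme.{u}} [FrobSch.IsCharP S p] (f : X ⟶ S)
  {Ω : X.Modules} (d : OmegaSh.Der f Ω)

theorem K_fst (U : X.Opens) (u : Γ(X, U)) :
    K f (FrobSch.relFrob f p) d ((pullback.fst f (FrobSch.frob S p)) ⁻¹ᵁ U)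
      (((pullback.fst f (FrobSch.frob S p)).app U).hom u) := by
  haveI : FrobSch.IsCharP X p := FrobSch.IsCharP.of_hom f p
  have hF₁ : FrobSch.relFrob f p ≫ pullback.fst f (FrobSch.frob S p) = FrobSch.frob X p :=
    FrobSch.relFrob_fst f p
  have h' : (FrobSch.relFrob f p) ⁻¹ᵁ ((pullback.fst f (FrobSch.frob S p)) ⁻¹ᵁ U) ≤ U := by
    intro x hx
    have h1 : (pullback.fst f (FrobSch.frob S p)) ((FrobSch.relFrob f p) x) ∈ U := hx
    have h2 : (pullback.fst f (FrobSch.frob S p)) ((FrobSch.relFrob f p) x) = x :=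
      congrArg (fun k : X ⟶ X => k x) hF₁
    rw [h2] at h1
    exact h1
  have c1 := Scheme.Hom.appLE_comp_appLE (FrobSch.relFrob f p)
    (pullback.fst f (FrobSch.frob S p)) U ((pullback.fst f (FrobSch.frob S p)) ⁻¹ᵁ U)
    ((FrobSch.relFrob f p) ⁻¹ᵁ ((pullback.fst f (FrobSch.frob S p)) ⁻¹ᵁ U)) (le_refl _) (le_refl _)
  have c2 := OmegaSh.appLE_congr_hom hF₁ (U := U)
    (V := (FrobSch.relFrob f p) ⁻¹ᵁ ((pullback.fst f (FrobSch.frob S p)) ⁻¹ᵁ U))
    (fun x hx => hx) h'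
  have c3 : (pullback.fst f (FrobSch.frob S p)).app U =
      (pullback.fst f (FrobSch.frob S p)).appLE U
        ((pullback.fst f (FrobSch.frob S p)) ⁻¹ᵁ U) (le_refl _) := Scheme.Hom.app_eq_appLE _
  have c4 : (FrobSch.relFrob f p).app ((pullback.fst f (FrobSch.frob S p)) ⁻¹ᵁ U) =
      (FrobSch.relFrob f p).appLE ((pullback.fst f (FrobSch.frob S p)) ⁻¹ᵁ U)
        ((FrobSch.relFrob f p) ⁻¹ᵁ ((pullback.fst f (FrobSch.frob S p)) ⁻¹ᵁ U)) (le_refl _) :=
    Scheme.Hom.app_eq_appLE _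
  have c5 : (pullback.fst f (FrobSch.frob S p)).app U ≫
      (FrobSch.relFrob f p).app ((pullback.fst f (FrobSch.frob S p)) ⁻¹ᵁ U) =
      (FrobSch.frob X p).appLE U
        ((FrobSch.relFrob f p) ⁻¹ᵁ ((pullback.fst f (FrobSch.frob S p)) ⁻¹ᵁ U)) h' :=
    (congrArg₂ (fun a b => a ≫ b) c3 c4).trans (c1.trans c2)
  have h1 : ((FrobSch.relFrob f p).app ((pullback.fst f (FrobSch.frob S p)) ⁻¹ᵁ U)).hom
      (((pullback.fst f (FrobSch.frob S p)).app U).hom u) =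
      ((X.presheaf.map (homOfLE h').op).hom u) ^ p := by
    refine (congrArg (fun k => k.hom u) c5).trans ?_
    show (X.presheaf.map (homOfLE h').op).hom (u ^ p) = _
    exact map_pow _ u p
  show d.app _ (((FrobSch.relFrob f p).app ((pullback.fst f (FrobSch.frob S p)) ⁻¹ᵁ U)).hom
      (((pullback.fst f (FrobSch.frob S p)).app U).hom u)) = 0
  rw [h1]
  exact der_pow_eq_zero d p (Fact.out : p.Prime).ne_zero _
    (FrobSch.natCast_eq_zero_app X p _) _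

theorem K_snd (T : S.Opens) (t : Γ(S, T)) :
    K f (FrobSch.relFrob f p) d ((pullback.snd f (FrobSch.frob S p)) ⁻¹ᵁ T)
      (((pullback.snd f (FrobSch.frob S p)).app T).hom t) := by
  have hF₂ : FrobSch.relFrob f p ≫ pullback.snd f (FrobSch.frob S p) = f :=
    FrobSch.relFrob_snd f p
  have h' : (FrobSch.relFrob f p) ⁻¹ᵁ ((pullback.snd f (FrobSch.frob S p)) ⁻¹ᵁ T) ≤
      f ⁻¹ᵁ T := by
    intro x hx
    have h1 : (pullback.snd f (FrobSch.frob S p)) ((FrobSch.relFrob f p) x) ∈ T := hx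
    have h2 : (pullback.snd f (FrobSch.frob S p)) ((FrobSch.relFrob f p) x) = f x :=
      congrArg (fun k : X ⟶ S => k x) hF₂
    rw [h2] at h1
    exact h1
  have c1 := Scheme.Hom.appLE_comp_appLE (FrobSch.relFrob f p)
    (pullback.snd f (FrobSch.frob S p)) T ((pullback.snd f (FrobSch.frob S p)) ⁻¹ᵁ T)
    ((FrobSch.relFrob f p) ⁻¹ᵁ ((pullback.snd f (FrobSch.frob S p)) ⁻¹ᵁ T)) (le_refl _) (le_refl _)
  have c2 := OmegaSh.appLE_congr_hom hF₂ (U := T)
    (V := (FrobSch.relFrob f p) ⁻¹ᵁ ((pullback.snd f (FrobSch.frob S p)) ⁻¹ᵁ T))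
    (fun x hx => hx) h'
  have c3 : (pullback.snd f (FrobSch.frob S p)).app T =
      (pullback.snd f (FrobSch.frob S p)).appLE T
        ((pullback.snd f (FrobSch.frob S p)) ⁻¹ᵁ T) (le_refl _) := Scheme.Hom.app_eq_appLE _
  have c4 : (FrobSch.relFrob f p).app ((pullback.snd f (FrobSch.frob S p)) ⁻¹ᵁ T) =
      (FrobSch.relFrob f p).appLE ((pullback.snd f (FrobSch.frob S p)) ⁻¹ᵁ T)
        ((FrobSch.relFrob f p) ⁻¹ᵁ ((pullback.snd f (FrobSch.frob S p)) ⁻¹ᵁ T)) (le_refl _) :=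
    Scheme.Hom.app_eq_appLE _
  have c5 : (pullback.snd f (FrobSch.frob S p)).app T ≫
      (FrobSch.relFrob f p).app ((pullback.snd f (FrobSch.frob S p)) ⁻¹ᵁ T) =
      f.appLE T ((FrobSch.relFrob f p) ⁻¹ᵁ ((pullback.snd f (FrobSch.frob S p)) ⁻¹ᵁ T)) h' :=
    (congrArg₂ (fun a b => a ≫ b) c3 c4).trans (c1.trans c2)
  have h1 : ((FrobSch.relFrob f p).app ((pullback.snd f (FrobSch.frob S p)) ⁻¹ᵁ T)).hom
      (((pullback.snd f (FrobSch.frob S p)).app T).hom t) =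
      (f.appLE T ((FrobSch.relFrob f p) ⁻¹ᵁ ((pullback.snd f (FrobSch.frob S p)) ⁻¹ᵁ T)) h').hom
        t := congrArg (fun k => k.hom t) c5
  show d.app _ (((FrobSch.relFrob f p).app ((pullback.snd f (FrobSch.frob S p)) ⁻¹ᵁ T)).hom
      (((pullback.snd f (FrobSch.frob S p)).app T).hom t)) = 0
  rw [h1]
  exact der_base d h' t

set_option maxHeartbeats 3200000 in
theorem all_K (V : (FrobSch.frobTwist f p).Opens) (a : Γ(FrobSch.frobTwist f p, V)) :
    K f (FrobSch.relFrob f p) d V a := by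
  have hsq : IsPullback (pullback.fst f (FrobSch.frob S p)) (pullback.snd f (FrobSch.frob S p))
      f (FrobSch.frob S p) := IsPullback.of_hasPullback f (FrobSch.frob S p)
  refine K_local a (fun x hx => ?_)
  obtain ⟨W, hW, hxW⟩ := exists_goodBC f (pullback.snd f (FrobSch.frob S p))
    (pullback.fst f (FrobSch.frob S p)) (FrobSch.frob S p) hsq x
  have hWaff : IsAffineOpen W := isAffineOpen_goodBC f (pullback.snd f (FrobSch.frob S p))
    (pullback.fst f (FrobSch.frob S p)) (FrobSch.frob S p) hsq hW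
  obtain ⟨U₁, T₁, T₂, hU₁, hT₁, hT₂, h₁, hg, hWeq⟩ := hW
  have hE : ∀ y : Γ(FrobSch.frobTwist f p, W), K f (FrobSch.relFrob f p) d W y :=
    prodAffine_K f (FrobSch.relFrob f p) d (pullback.fst f (FrobSch.frob S p))
      (pullback.snd f (FrobSch.frob S p)) (FrobSch.frob S p) hsq (K_fst p f d) (K_snd p f d)
      hU₁ hT₂ hT₁ h₁ hg hWeq
  obtain ⟨g₀, hg₀V, hxg₀⟩ := hWaff.exists_basicOpen_le (V := V) ⟨x, hx⟩ hxW
  have hDW : (FrobSch.frobTwist f p).basicOpen g₀ ≤ W := (FrobSch.frobTwist f p).basicOpen_le g₀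
  refine ⟨(FrobSch.frobTwist f p).basicOpen g₀, hg₀V, hxg₀, ?_⟩
  haveI hloc : IsLocalization.Away g₀ Γ(FrobSch.frobTwist f p, (FrobSch.frobTwist f p).basicOpen g₀) :=
    hWaff.isLocalization_basicOpen g₀
  obtain ⟨⟨y, m⟩, hym⟩ := IsLocalization.surj (Submonoid.powers g₀)
    (((FrobSch.frobTwist f p).presheaf.map (homOfLE hg₀V).op).hom a)
  have hunit : IsUnit (algebraMap Γ(FrobSch.frobTwist f p, W)
      Γ(FrobSch.frobTwist f p, (FrobSch.frobTwist f p).basicOpen g₀) (m : Γ(FrobSch.frobTwist f p, W))) :=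
    IsLocalization.map_units _ m
  have hKm : K f (FrobSch.relFrob f p) d ((FrobSch.frobTwist f p).basicOpen g₀)
      (algebraMap Γ(FrobSch.frobTwist f p, W)
        Γ(FrobSch.frobTwist f p, (FrobSch.frobTwist f p).basicOpen g₀)
        (m : Γ(FrobSch.frobTwist f p, W))) := K_res hDW (hE _)
  have hKy : K f (FrobSch.relFrob f p) d ((FrobSch.frobTwist f p).basicOpen g₀)
      (algebraMap Γ(FrobSch.frobTwist f p, W)
        Γ(FrobSch.frobTwist f p, (FrobSch.frobTwist f p).basicOpen g₀) y) := K_res hDW (hE _)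
  exact K_of_mul_unit _ _ _ hunit hKm hKy hym

theorem main14933 (Ω : X.Modules) (d : OmegaSh.Der f Ω) (hd : OmegaSh.IsUniversal d) :
    ∃ d' : OmegaSh.Der (FrobSch.relFrob f p) Ω,
      (∀ (U : X.Opens) (s : Γ(X, U)), d'.app U s = d.app U s) ∧ OmegaSh.IsUniversal d' := by
  have hF₂ : FrobSch.relFrob f p ≫ pullback.snd f (FrobSch.frob S p) = f :=
    FrobSch.relFrob_snd f p
  let d' : OmegaSh.Der (FrobSch.relFrob f p) Ω :=
    { d := d.d
      d_mul := d.d_mul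
      d_map := d.d_map
      d_app := fun {V} a => all_K p f d V.unop a }
  refine ⟨d', fun U s => rfl, fun G D => ?_⟩
  let D₀ : OmegaSh.Der f G :=
    { d := D.d
      d_mul := D.d_mul
      d_map := D.d_map
      d_app := fun {V} c =>
        der_base_comp D (pullback.snd f (FrobSch.frob S p)) f hF₂ V.unop c }
  obtain ⟨α, hα, huniq⟩ := hd G D₀
  refine ⟨α, ?_, fun β hβ => huniq β ?_⟩
  · exact (postcomp_eq_iff d' D α).mpr ((postcomp_eq_iff d D₀ α).mp hα)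
  · exact (postcomp_eq_iff d D₀ β).mpr ((postcomp_eq_iff d' D β).mp hβ)

end Frob

end Groth.Agent.Lib.FrobDiffH4
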