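import Mathlib

/-!
# Fixed vectors of Frobenius-semilinear maps over algebraically closed fields (helper3)

For an algebraically closed field `K` of characteristic `p`, `θ = (x ↦ x ^ p ^ b)` with `b ≠ 0`
and a `θ`-semilinear endomorphism `φ` of a finite-dimensional `K`-vector space `V`:
* `exists_sub_eq`: `φ - 1` is surjective;
* `exists_fixed_ne_zero`: if `φ` is injective and `V ≠ 0` there is a nonzero fixed vector;
* `span_fixed_eq_top`: if `φ` is injective the fixed vectors span `V`.
-/

set_option autoImplicit false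
set_option linter.unusedSectionVars false

noncomputable section

open Polynomial

universe u v

namespace Groth.Agent.Lib.IsocFix_helper3

variable {K : Type u} [Field K]
variable {V : Type v} [AddCommGroup V] [Module K V]

/-- the cyclic identity. -/
lemma cyc_identity {θ : K →+* K} (φ : V →ₛₗ[θ] V) (e : ℕ → V) (he : ∀ j, e (j + 1) = φ (e j))
    (n : ℕ) (c : ℕ → K) (hrel : e (n + 1) = ∑ i ∈ Finset.range (n + 1), c i • e i)
    (x : ℕ → K) (s w₀ : K) (h0 : x 0 = c 0 * s - w₀)
    (hs : ∀ j, j < n → x (j + 1) = θ (x j) + c (j + 1) * s) (hn : θ (x n) = s) :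
    φ (∑ j ∈ Finset.range (n + 1), x j • e j) - ∑ j ∈ Finset.range (n + 1), x j • e j =
      w₀ • e 0 := by
  have hy : ∑ j ∈ Finset.range (n + 1), x j • e j =
      ∑ j ∈ Finset.range n, x (j + 1) • e (j + 1) + x 0 • e 0 := Finset.sum_range_succ' _ _
  have hφ : φ (∑ j ∈ Finset.range (n + 1), x j • e j) =
      ∑ j ∈ Finset.range n, θ (x j) • e (j + 1) + s • e (n + 1) := by
    rw [map_sum, Finset.sum_range_succ]
    simp only [map_smulₛₗ, ← he, hn]
  have hrel' : e (n + 1) = ∑ i ∈ Finset.range n, c (i + 1) • e (i + 1) + c 0 • e 0 := by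
    rw [hrel]; exact Finset.sum_range_succ' _ _
  have hx : ∑ j ∈ Finset.range n, x (j + 1) • e (j + 1) =
      ∑ j ∈ Finset.range n, θ (x j) • e (j + 1) +
        s • ∑ j ∈ Finset.range n, c (j + 1) • e (j + 1) := by
    rw [Finset.smul_sum, ← Finset.sum_add_distrib]
    apply Finset.sum_congr rfl
    intro j hj
    rw [hs j (Finset.mem_range.mp hj), add_smul, smul_smul, mul_comm]
  rw [hφ, hy, hrel', hx, h0, smul_add, sub_smul, smul_smul, mul_comm s (c 0)]
  abel

/-- the polynomials `X_j`. -/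
def Xp (q : ℕ) (c : ℕ → K) (w₀ : K) : ℕ → K[X]
  | 0 => C (c 0) * X ^ q - C w₀
  | (j + 1) => (Xp q c w₀ j) ^ q + C (c (j + 1)) * X ^ q

lemma derivative_Xp (q : ℕ) (hq : (q : K) = 0) (c : ℕ → K) (w₀ : K) (j : ℕ) :
    derivative (Xp q c w₀ j) = 0 := by
  induction j with
  | zero => simp [Xp, derivative_X_pow, hq]
  | succ j ih => simp [Xp, derivative_pow, ih, derivative_X_pow, hq]

lemma eval_Xp_zero (q : ℕ) (c : ℕ → K) (w₀ t : K) :
    eval t (Xp q c w₀ 0) = c 0 * t ^ q - w₀ := by simp [Xp]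

lemma eval_Xp_succ (q : ℕ) (c : ℕ → K) (w₀ t : K) (j : ℕ) :
    eval t (Xp q c w₀ (j + 1)) = (eval t (Xp q c w₀ j)) ^ q + c (j + 1) * t ^ q := by simp [Xp]

lemma exists_rel [FiniteDimensional K V] (e : ℕ → V) :
    ∃ m, e m ∈ Submodule.span K (Set.range fun i : Fin m => e i) := by
  let f : ℕ →o Submodule K V :=
    ⟨fun m => Submodule.span K (Set.range fun i : Fin m => e i), fun m m' h => by
      apply Submodule.span_mono
      rintro _ ⟨i, rfl⟩
      exact ⟨⟨i, lt_of_lt_of_le i.2 h⟩, rfl⟩⟩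
  obtain ⟨n, hn⟩ := monotone_stabilizes_iff_noetherian.mpr (inferInstance : IsNoetherian K V) f
  refine ⟨n, ?_⟩
  have h1 : e n ∈ f (n + 1) := Submodule.subset_span ⟨Fin.last n, rfl⟩
  rw [← hn (n + 1) (Nat.le_succ n)] at h1
  exact h1

lemma exists_coeffs {e : ℕ → V} {m : ℕ}
    (h : e m ∈ Submodule.span K (Set.range fun i : Fin m => e i)) :
    ∃ c : ℕ → K, e m = ∑ i ∈ Finset.range m, c i • e i := by
  obtain ⟨c, hc⟩ := (Submodule.mem_span_range_iff_exists_fun K).mp h
  refine ⟨fun j => if hj : j < m then c ⟨j, hj⟩ else 0, ?_⟩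
  rw [← hc, ← Fin.sum_univ_eq_sum_range (fun j => (if hj : j < m then c ⟨j, hj⟩ else 0) • e j) m]
  apply Finset.sum_congr rfl
  intro i _
  simp [i.2]

lemma sum_mem_span (e : ℕ → V) (n : ℕ) (x : ℕ → K) :
    ∑ j ∈ Finset.range n, x j • e j ∈ Submodule.span K (Set.range fun i : Fin n => e i) :=
  Submodule.sum_mem _ (fun i hi => Submodule.smul_mem _ _
    (Submodule.subset_span ⟨⟨i, Finset.mem_range.mp hi⟩, rfl⟩))

section Main

variable (p : ℕ) [Fact p.Prime] [CharP K p] (b : ℕ)

lemma cast_q_eq_zero (hb : b ≠ 0) : ((p ^ b : ℕ) : K) = 0 := by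
  push_cast
  rw [CharP.cast_eq_zero, zero_pow hb]

lemma two_le_q (hb : b ≠ 0) : 2 ≤ p ^ b := by
  have hp : 2 ≤ p := (Fact.out : p.Prime).two_le
  calc 2 ≤ p := hp
    _ = p ^ 1 := (pow_one p).symm
    _ ≤ p ^ b := Nat.pow_le_pow_right (by omega) (Nat.one_le_iff_ne_zero.mpr hb)

/-- `φ - 1` is surjective. -/
theorem exists_sub_eq [IsAlgClosed K] (hb : b ≠ 0) [FiniteDimensional K V]
    (φ : V →ₛₗ[iterateFrobenius K p b] V) (w : V) : ∃ y, φ y - y = w := by
  have hq0 : ((p ^ b : ℕ) : K) = 0 := cast_q_eq_zero p b hb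
  set e : ℕ → V := fun j => (⇑φ)^[j] w with he_def
  have he : ∀ j, e (j + 1) = φ (e j) := fun j => Function.iterate_succ_apply' _ _ _
  have he0 : e 0 = w := rfl
  obtain ⟨m, hm⟩ := exists_rel (K := K) e
  obtain ⟨c, hc⟩ := exists_coeffs hm
  rcases m with _ | n
  · rw [Finset.range_zero, Finset.sum_empty, he0] at hc
    exact ⟨0, by rw [hc]; simp⟩
  set G : K[X] := Xp (p ^ b) c 1 n - X with hG
  have hdeg : G.degree ≠ 0 := by
    intro h0
    have h1 := eq_C_of_degree_eq_zero h0
    have h2 : derivative G = -1 := by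
      rw [hG, derivative_sub, derivative_Xp (p ^ b) hq0, derivative_X, zero_sub]
    rw [h1, derivative_C] at h2
    have : (1 : K[X]) = 0 := by
      have := congrArg Neg.neg h2
      simpa using this.symm
    exact one_ne_zero this
  obtain ⟨t, ht⟩ := IsAlgClosed.exists_root G hdeg
  have ht' : eval t (Xp (p ^ b) c 1 n) = t := by
    rw [IsRoot, hG, eval_sub, eval_X, sub_eq_zero] at ht; exact ht
  refine ⟨∑ j ∈ Finset.range (n + 1), eval t (Xp (p ^ b) c 1 j) • e j, ?_⟩
  have := cyc_identity φ e he n c hc (fun j => eval t (Xp (p ^ b) c 1 j)) (t ^ (p ^ b)) 1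
    (eval_Xp_zero _ _ _ _)
    (fun j _ => by rw [eval_Xp_succ, iterateFrobenius_def])
    (by rw [iterateFrobenius_def, ht'])
  rw [this, one_smul, he0]

lemma coeff_Xp (hb : b ≠ 0) (c : ℕ → K) (j : ℕ) :
    (Xp (p ^ b) c 0 j).coeff ((p ^ b) ^ (j + 1)) = (c 0) ^ ((p ^ b) ^ j) := by
  have hq2 := two_le_q p b hb
  induction j with
  | zero => simp [Xp]
  | succ j ih =>
    have hne : (p ^ b) ^ (j + 1 + 1) ≠ p ^ b := by
      intro h
      have h1 : (p ^ b) ^ (j + 1 + 1) = (p ^ b) ^ 1 := by rw [h, pow_one]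
      have := Nat.pow_right_injective hq2 h1
      omega
    have h1 : (Xp (p ^ b) c 0 (j + 1)) = (Xp (p ^ b) c 0 j) ^ (p ^ b) + C (c (j + 1)) * X ^ (p ^ b) :=
      rfl
    rw [h1, coeff_add, coeff_C_mul_X_pow, if_neg hne, add_zero,
      ← map_iterateFrobenius_expand, coeff_map, pow_succ' (p ^ b) (j + 1),
      coeff_expand_mul' (by omega), ih, iterateFrobenius_def, ← pow_mul, ← pow_succ]

/-- if `φ` is injective and `V ≠ 0` there is a nonzero fixed vector. -/
theorem exists_fixed_ne_zero [IsAlgClosed K] (hb : b ≠ 0) [FiniteDimensional K V] [Nontrivial V]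
    (φ : V →ₛₗ[iterateFrobenius K p b] V) (hinj : Function.Injective φ) :
    ∃ v, v ≠ 0 ∧ φ v = v := by
  classical
  obtain ⟨v₀, hv₀⟩ := exists_ne (0 : V)
  have hq0 : ((p ^ b : ℕ) : K) = 0 := cast_q_eq_zero p b hb
  have hq2 := two_le_q p b hb
  set e : ℕ → V := fun j => (⇑φ)^[j] v₀ with he_def
  have he : ∀ j, e (j + 1) = φ (e j) := fun j => Function.iterate_succ_apply' _ _ _
  have he0 : e 0 = v₀ := rfl
  have hex := exists_rel (K := K) e
  have hm := Nat.find_spec hex
  have hmin : ∀ j, j < Nat.find hex → e j ∉ Submodule.span K (Set.range fun i : Fin j => e i) :=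
    fun j hj => Nat.find_min hex hj
  obtain ⟨c, hc⟩ := exists_coeffs hm
  rcases hmm : Nat.find hex with _ | n
  · rw [hmm, Finset.range_zero, Finset.sum_empty, he0] at hc
    exact absurd hc hv₀
  rw [hmm] at hc hmin
  have hminn : e n ∉ Submodule.span K (Set.range fun i : Fin n => e i) := hmin n (by omega)
  -- `c 0 ≠ 0`
  have hc0 : c 0 ≠ 0 := by
    intro h0
    apply hminn
    rw [Finset.sum_range_succ', h0, zero_smul, add_zero] at hc
    have hsurj : Function.Surjective (iterateFrobenius K p b) :=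
      (bijective_iterateFrobenius K p b).2
    choose c' hc' using fun i => hsurj (c (i + 1))
    have h1 : φ (e n) = φ (∑ i ∈ Finset.range n, c' i • e i) := by
      rw [← he, hc, map_sum]
      apply Finset.sum_congr rfl
      intro i _
      rw [map_smulₛₗ, hc', he]
    rw [hinj h1]
    exact sum_mem_span e n c'
  -- the polynomial
  set P : K[X] := Xp (p ^ b) c 0 n with hP
  have hP0 : ∀ j, eval 0 (Xp (p ^ b) c 0 j) = 0 := by
    intro j
    induction j with
    | zero => rw [eval_Xp_zero, zero_pow (by omega), mul_zero, sub_zero]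
    | succ j ih => rw [eval_Xp_succ, ih, zero_pow (by omega), mul_zero, add_zero]
  have hPder : derivative P = 0 := derivative_Xp (p ^ b) hq0 c 0 n
  set G : K[X] := P - X with hG
  set H : K[X] := divX G with hH
  have hG0 : G.coeff 0 = 0 := by
    rw [coeff_zero_eq_eval_zero, hG, eval_sub, hP0, eval_X, sub_zero]
  have hGH : G = H * X := by
    have := divX_mul_X_add G
    rw [hG0, C_0, add_zero] at this
    exact this.symm
  have hP1 : P.coeff 1 = 0 := by
    have := congrArg (fun f => coeff f 0) hPder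
    simp only [coeff_derivative, coeff_zero] at this
    simpa using this
  have hH0 : H.coeff 0 = -1 := by
    rw [hH, coeff_divX, hG, coeff_sub, zero_add, hP1, coeff_X_one, zero_sub]
  have hdeg : H.degree ≠ 0 := by
    intro h0
    have h1 := eq_C_of_degree_eq_zero h0
    rw [hH0] at h1
    have hPz : P = 0 := by
      have h2 : P = G + X := by rw [hG]; ring
      rw [h2, hGH, h1]
      simp
    have h3 := coeff_Xp p b hb c n
    rw [← hP, hPz, coeff_zero] at h3
    exact pow_ne_zero _ hc0 h3.symm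
  obtain ⟨t, ht⟩ := IsAlgClosed.exists_root H hdeg
  have ht0 : t ≠ 0 := by
    rintro rfl
    rw [IsRoot, ← coeff_zero_eq_eval_zero, hH0] at ht
    have : (1 : K) = 0 := by
      have := congrArg Neg.neg ht
      simpa using this
    exact one_ne_zero this
  have htP : eval t P = t := by
    have h1 : eval t G = 0 := by rw [hGH, eval_mul, ht, zero_mul]
    rw [hG, eval_sub, eval_X, sub_eq_zero] at h1
    exact h1
  have hfix : φ (∑ j ∈ Finset.range (n + 1), eval t (Xp (p ^ b) c 0 j) • e j) -
      ∑ j ∈ Finset.range (n + 1), eval t (Xp (p ^ b) c 0 j) • e j = 0 := by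
    have := cyc_identity φ e he n c hc (fun j => eval t (Xp (p ^ b) c 0 j)) (t ^ (p ^ b)) 0
      (eval_Xp_zero _ _ _ _)
      (fun j _ => by rw [eval_Xp_succ, iterateFrobenius_def])
      (by rw [iterateFrobenius_def, htP])
    rw [this, zero_smul]
  refine ⟨_, ?_, sub_eq_zero.mp hfix⟩
  intro hy0
  apply hminn
  rw [Finset.sum_range_succ, ← hP, htP] at hy0
  have h2 : e n = -(t⁻¹ • ∑ j ∈ Finset.range n, eval t (Xp (p ^ b) c 0 j) • e j) := by
    have h3 : t • e n = -∑ j ∈ Finset.range n, eval t (Xp (p ^ b) c 0 j) • e j :=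
      eq_neg_of_add_eq_zero_right hy0
    rw [← smul_neg, ← h3, smul_smul, inv_mul_cancel₀ ht0, one_smul]
  rw [h2]
  exact Submodule.neg_mem _ (Submodule.smul_mem _ _ (sum_mem_span e n _))

/-- an injective semilinear endomorphism of a finite-dimensional space is surjective. -/
lemma surjective_of_injective {θ : K →+* K} (hθ : Function.Surjective θ)
    [FiniteDimensional K V] {φ : V →ₛₗ[θ] V} (hinj : Function.Injective φ) :
    Function.Surjective φ := by
  classical
  have hs : RingHomSurjective θ := ⟨hθ⟩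
  let bas := Module.finBasis K V
  have hli : LinearIndependent K (φ ∘ bas) :=
    bas.linearIndependent.map_of_surjective_injective θ φ.toAddMonoidHom hθ
      (fun m hm => hinj (by rw [map_zero]; exact hm)) (fun r m => map_smulₛₗ φ r m)
  have hspan : Submodule.span K (Set.range (φ ∘ bas)) = ⊤ :=
    hli.span_eq_top_of_card_eq_finrank' (by simp)
  have hle : Submodule.span K (Set.range (φ ∘ bas)) ≤ LinearMap.range φ := by
    rw [Submodule.span_le]
    rintro _ ⟨i, rfl⟩
    exact ⟨bas i, rfl⟩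
  rw [hspan] at hle
  intro y
  exact hle (Submodule.mem_top (x := y))

/-- if `φ` is injective the fixed vectors span `V`. -/
theorem span_fixed_eq_top [IsAlgClosed K] (hb : b ≠ 0) [FiniteDimensional K V]
    (φ : V →ₛₗ[iterateFrobenius K p b] V) (hinj : Function.Injective φ) :
    Submodule.span K {v | φ v = v} = ⊤ := by
  set U := Submodule.span K {v | φ v = v} with hU
  by_contra hne
  have hUst : ∀ x ∈ U, φ x ∈ U := by
    have : U ≤ U.comap φ := by
      rw [hU, Submodule.span_le]
      intro v hv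
      rw [Set.mem_setOf_eq] at hv
      rw [SetLike.mem_coe, Submodule.mem_comap, hv]
      exact Submodule.subset_span hv
    exact fun x hx => this hx
  have hsurjθ : Function.Surjective (iterateFrobenius K p b) :=
    (bijective_iterateFrobenius K p b).2
  -- restriction to `U`
  have hinjU : Function.Injective (φ.restrict hUst) := by
    intro x x' h
    apply Subtype.ext
    apply hinj
    exact congrArg Subtype.val h
  have hsurjU := surjective_of_injective hsurjθ hinjU
  have hmem : ∀ x, φ x ∈ U → x ∈ U := by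
    intro x hx
    obtain ⟨u, hu⟩ := hsurjU ⟨φ x, hx⟩
    have : φ u.1 = φ x := congrArg Subtype.val hu
    rw [← hinj this]; exact u.2
  -- the quotient
  have hnt : Nontrivial (V ⧸ U) := Submodule.Quotient.nontrivial_iff.mpr hne
  set φq := U.mapQ U φ (fun x hx => hUst x hx) with hφq
  have hinjq : Function.Injective φq := by
    rw [injective_iff_map_eq_zero]
    intro y hy
    obtain ⟨x, rfl⟩ := Submodule.mkQ_surjective U y
    rw [Submodule.mkQ_apply, hφq, Submodule.mapQ_apply, Submodule.Quotient.mk_eq_zero] at hy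
    rw [Submodule.mkQ_apply, Submodule.Quotient.mk_eq_zero]
    exact hmem x hy
  obtain ⟨zq, hzq0, hzq⟩ := exists_fixed_ne_zero p b hb φq hinjq
  obtain ⟨z, rfl⟩ := Submodule.mkQ_surjective U zq
  rw [Submodule.mkQ_apply, hφq, Submodule.mapQ_apply, ← sub_eq_zero, ← Submodule.Quotient.mk_sub,
    Submodule.Quotient.mk_eq_zero] at hzq
  obtain ⟨u, hu⟩ := exists_sub_eq p b hb (φ.restrict hUst) (-⟨φ z - z, hzq⟩)
  have hu' : φ u.1 - u.1 = -(φ z - z) := congrArg Subtype.val hu
  have hfix : φ (z + u.1) = z + u.1 := by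
    rw [map_add, ← sub_eq_zero]
    have : φ z + φ u.1 - (z + u.1) = (φ z - z) + (φ u.1 - u.1) := by abel
    rw [this, hu', add_neg_cancel]
  have hzU : z + u.1 ∈ U := Submodule.subset_span hfix
  have : z ∈ U := by
    have := U.sub_mem hzU u.2
    rwa [add_sub_cancel_right] at this
  apply hzq0
  rw [Submodule.mkQ_apply, Submodule.Quotient.mk_eq_zero]
  exact this

end Main

end Groth.Agent.Lib.IsocFix_helper3
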