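import Mathlib
import Groth.Agent.Lib.IsocFix_helper3

/-!
# Frobenius-semilinear maps over separably closed fields (helper3)

For a separably closed field `k` of characteristic `p` and a `p`-Frobenius semilinear endomorphism
`φ` of a finite-dimensional `k`-vector space `V` whose image spans `V`:
* `exists_sub_eq`: `φ - 1` is surjective (no spanning hypothesis needed);
* `injective_of_span`: `φ` is injective;
* `exists_fixed_ne_zero`, `span_fixed_eq_top`: the fixed vectors span `V`;
* `card_fixed`: there are exactly `p ^ finrank k V` fixed vectors;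
* `exists_cyclic`: there is a cyclic vector.
-/

set_option autoImplicit false
set_option linter.unusedSectionVars false

noncomputable section

open Polynomial

universe u v

namespace Groth.Agent.Lib.FrobField_helper3

open Groth.Agent.Lib.IsocFix_helper3

variable {k : Type u} [Field k]
variable {V : Type v} [AddCommGroup V] [Module k V]

lemma separable_of_derivative_eq_neg_one {G : k[X]} (h : derivative G = -1) : G.Separable := by
  rw [separable_def, h]
  exact isCoprime_one_right.neg_right

lemma coeff_one_of_derivative_eq_zero {P : k[X]} (h : derivative P = 0) : P.coeff 1 = 0 := by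
  have := congrArg (fun f => coeff f 0) h
  simp only [coeff_derivative, coeff_zero] at this
  simpa using this

section Main

variable (p : ℕ) [Fact p.Prime] [CharP k p]

/-- the coefficient of `X ^ q` in `Xp (j+1)`. -/
lemma coeff_Xp_q (c : ℕ → k) (w₀ : k) (j : ℕ) :
    (Xp (p ^ 1) c w₀ (j + 1)).coeff (p ^ 1) = c (j + 1) := by
  have hq0 : ((p ^ 1 : ℕ) : k) = 0 := cast_q_eq_zero p 1 one_ne_zero
  have hq2 := two_le_q p 1 one_ne_zero
  have h1 : (Xp (p ^ 1) c w₀ (j + 1)) = (Xp (p ^ 1) c w₀ j) ^ (p ^ 1) + C (c (j + 1)) * X ^ (p ^ 1) :=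
    rfl
  have h2 : (Xp (p ^ 1) c w₀ j).coeff 1 = 0 :=
    coeff_one_of_derivative_eq_zero (derivative_Xp (p ^ 1) hq0 c w₀ j)
  rw [h1, coeff_add, coeff_C_mul_X_pow, if_pos rfl, ← map_iterateFrobenius_expand, coeff_map]
  have h3 : (expand k (p ^ 1) (Xp (p ^ 1) c w₀ j)).coeff (p ^ 1) = 0 := by
    have := coeff_expand_mul' (R := k) (p := p ^ 1) (by omega) (Xp (p ^ 1) c w₀ j) 1
    rw [mul_one] at this
    rw [this, h2]
  rw [h3, map_zero, zero_add]

lemma Xp_eq_zero_imp (c : ℕ → k) (n : ℕ) (h : Xp (p ^ 1) c 0 n = 0) : ∀ i, i ≤ n → c i = 0 := by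
  induction n with
  | zero =>
    intro i hi
    have hi0 : i = 0 := by omega
    subst hi0
    have h1 : (Xp (p ^ 1) c 0 0).coeff (p ^ 1) = c 0 := by
      have hq2 := two_le_q p 1 one_ne_zero
      simp only [Xp, map_zero, sub_zero, coeff_C_mul_X_pow, if_pos]
    rw [h, coeff_zero] at h1
    exact h1.symm
  | succ n ih =>
    have h1 := coeff_Xp_q p c 0 n
    rw [h, coeff_zero] at h1
    have h2 : (Xp (p ^ 1) c 0 n) ^ (p ^ 1) = 0 := by
      have h3 : (Xp (p ^ 1) c 0 (n + 1)) =
          (Xp (p ^ 1) c 0 n) ^ (p ^ 1) + C (c (n + 1)) * X ^ (p ^ 1) := rfl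
      rw [h, ← h1, C_0, zero_mul, add_zero] at h3
      exact h3.symm
    have h4 := ih (pow_eq_zero_iff (by
      have := two_le_q p 1 one_ne_zero; omega) |>.mp h2)
    intro i hi
    rcases Nat.lt_or_ge i (n + 1) with h5 | h5
    · exact h4 i (by omega)
    · have : i = n + 1 := by omega
      rw [this]; exact h1.symm

/-- `φ - 1` is surjective. -/
theorem exists_sub_eq [IsSepClosed k] [FiniteDimensional k V]
    (φ : V →ₛₗ[iterateFrobenius k p 1] V) (w : V) : ∃ y, φ y - y = w := by
  have hq0 : ((p ^ 1 : ℕ) : k) = 0 := cast_q_eq_zero p 1 one_ne_zero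
  set e : ℕ → V := fun j => (⇑φ)^[j] w with he_def
  have he : ∀ j, e (j + 1) = φ (e j) := fun j => Function.iterate_succ_apply' _ _ _
  have he0 : e 0 = w := rfl
  obtain ⟨m, hm⟩ := exists_rel (K := k) e
  obtain ⟨c, hc⟩ := exists_coeffs hm
  rcases m with _ | n
  · rw [Finset.range_zero, Finset.sum_empty, he0] at hc
    exact ⟨0, by rw [hc]; simp⟩
  set G : k[X] := Xp (p ^ 1) c 1 n - X with hG
  have h2 : derivative G = -1 := by
    rw [hG, derivative_sub, derivative_Xp (p ^ 1) hq0, derivative_X, zero_sub]
  have hdeg : G.degree ≠ 0 := by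
    intro h0
    have h1 := eq_C_of_degree_eq_zero h0
    rw [h1, derivative_C] at h2
    have : (1 : k[X]) = 0 := by
      have := congrArg Neg.neg h2
      simpa using this.symm
    exact one_ne_zero this
  obtain ⟨t, ht⟩ := IsSepClosed.exists_root G hdeg (separable_of_derivative_eq_neg_one h2)
  have ht' : eval t (Xp (p ^ 1) c 1 n) = t := by
    rw [IsRoot, hG, eval_sub, eval_X, sub_eq_zero] at ht; exact ht
  refine ⟨∑ j ∈ Finset.range (n + 1), eval t (Xp (p ^ 1) c 1 j) • e j, ?_⟩
  have := cyc_identity φ e he n c hc (fun j => eval t (Xp (p ^ 1) c 1 j)) (t ^ (p ^ 1)) 1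
    (eval_Xp_zero _ _ _ _)
    (fun j _ => by rw [eval_Xp_succ, iterateFrobenius_def])
    (by rw [iterateFrobenius_def, ht'])
  rw [this, one_smul, he0]

/-- a semilinear endomorphism (w.r.t. an injective ring hom) whose image spans is injective. -/
lemma injective_of_span {θ : k →+* k} [FiniteDimensional k V] (φ : V →ₛₗ[θ] V)
    (hspan : Submodule.span k (Set.range φ) = ⊤) : Function.Injective φ := by
  classical
  let bas := Module.finBasis k V
  have hle : Submodule.span k (Set.range φ) ≤ Submodule.span k (Set.range (φ ∘ bas)) := by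
    rw [Submodule.span_le]
    rintro _ ⟨v, rfl⟩
    rw [← bas.sum_repr v, map_sum]
    refine Submodule.sum_mem _ (fun i _ => ?_)
    rw [map_smulₛₗ]
    exact Submodule.smul_mem _ _ (Submodule.subset_span ⟨i, rfl⟩)
  have hli : LinearIndependent k (φ ∘ bas) :=
    linearIndependent_of_top_le_span_of_card_eq_finrank (hspan ▸ hle) (by simp)
  rw [injective_iff_map_eq_zero]
  intro v hv
  rw [← bas.sum_repr v, map_sum] at hv
  simp only [map_smulₛₗ] at hv
  have h1 := Fintype.linearIndependent_iff.mp hli (fun i => θ (bas.repr v i)) hv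
  have h2 : bas.repr v = 0 := by
    ext i
    have := h1 i
    rw [Finsupp.zero_apply]
    exact (map_eq_zero θ).mp this
  exact (LinearEquiv.map_eq_zero_iff _).mp h2

/-- if the image of `φ` spans and `V ≠ 0` there is a nonzero fixed vector. -/
theorem exists_fixed_ne_zero [IsSepClosed k] [FiniteDimensional k V] [Nontrivial V]
    (φ : V →ₛₗ[iterateFrobenius k p 1] V) (hinj : Function.Injective φ) :
    ∃ v, v ≠ 0 ∧ φ v = v := by
  classical
  obtain ⟨v₀, hv₀⟩ := exists_ne (0 : V)
  have hq0 : ((p ^ 1 : ℕ) : k) = 0 := cast_q_eq_zero p 1 one_ne_zero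
  have hq2 := two_le_q p 1 one_ne_zero
  set e : ℕ → V := fun j => (⇑φ)^[j] v₀ with he_def
  have he : ∀ j, e (j + 1) = φ (e j) := fun j => Function.iterate_succ_apply' _ _ _
  have he0 : e 0 = v₀ := rfl
  have hex := exists_rel (K := k) e
  have hm := Nat.find_spec hex
  have hmin : ∀ j, j < Nat.find hex → e j ∉ Submodule.span k (Set.range fun i : Fin j => e i) :=
    fun j hj => Nat.find_min hex hj
  obtain ⟨c, hc⟩ := exists_coeffs hm
  rcases hmm : Nat.find hex with _ | n
  · rw [hmm, Finset.range_zero, Finset.sum_empty, he0] at hc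
    exact absurd hc hv₀
  rw [hmm] at hc hmin
  have hminn : e n ∉ Submodule.span k (Set.range fun i : Fin n => e i) := hmin n (by omega)
  -- the polynomial
  set P : k[X] := Xp (p ^ 1) c 0 n with hP
  have hPne : P ≠ 0 := by
    intro hP0
    have hall := Xp_eq_zero_imp p c n hP0
    have h1 : e (n + 1) = 0 := by
      rw [hc]
      apply Finset.sum_eq_zero
      intro i hi
      rw [hall i (by have := Finset.mem_range.mp hi; omega), zero_smul]
    rw [he] at h1
    have h2 : e n = 0 := hinj (by rw [h1, map_zero])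
    apply hminn
    rw [h2]; exact Submodule.zero_mem _
  have hP0 : ∀ j, eval 0 (Xp (p ^ 1) c 0 j) = 0 := by
    intro j
    induction j with
    | zero => rw [eval_Xp_zero, zero_pow (by omega), mul_zero, sub_zero]
    | succ j ih => rw [eval_Xp_succ, ih, zero_pow (by omega), mul_zero, add_zero]
  have hPder : derivative P = 0 := derivative_Xp (p ^ 1) hq0 c 0 n
  set G : k[X] := P - X with hG
  set H : k[X] := divX G with hH
  have hG0 : G.coeff 0 = 0 := by
    rw [coeff_zero_eq_eval_zero, hG, eval_sub, hP0, eval_X, sub_zero]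
  have hGH : G = H * X := by
    have := divX_mul_X_add G
    rw [hG0, C_0, add_zero] at this
    exact this.symm
  have hGder : derivative G = -1 := by
    rw [hG, derivative_sub, hPder, derivative_X, zero_sub]
  have hGsep : G.Separable := separable_of_derivative_eq_neg_one hGder
  have hHsep : H.Separable := by
    rw [hGH] at hGsep
    exact hGsep.of_mul_left
  have hP1 : P.coeff 1 = 0 := coeff_one_of_derivative_eq_zero hPder
  have hH0 : H.coeff 0 = -1 := by
    rw [hH, coeff_divX, hG, coeff_sub, zero_add, hP1, coeff_X_one, zero_sub]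
  have hdeg : H.degree ≠ 0 := by
    intro h0
    have h1 := eq_C_of_degree_eq_zero h0
    rw [hH0] at h1
    have hPz : P = 0 := by
      have h2 : P = G + X := by rw [hG]; ring
      rw [h2, hGH, h1]
      simp
    exact hPne hPz
  obtain ⟨t, ht⟩ := IsSepClosed.exists_root H hdeg hHsep
  have ht0 : t ≠ 0 := by
    rintro rfl
    rw [IsRoot, ← coeff_zero_eq_eval_zero, hH0] at ht
    have : (1 : k) = 0 := by
      have := congrArg Neg.neg ht
      simpa using this
    exact one_ne_zero this
  have htP : eval t P = t := by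
    have h1 : eval t G = 0 := by rw [hGH, eval_mul, ht, zero_mul]
    rw [hG, eval_sub, eval_X, sub_eq_zero] at h1
    exact h1
  have hfix : φ (∑ j ∈ Finset.range (n + 1), eval t (Xp (p ^ 1) c 0 j) • e j) -
      ∑ j ∈ Finset.range (n + 1), eval t (Xp (p ^ 1) c 0 j) • e j = 0 := by
    have := cyc_identity φ e he n c hc (fun j => eval t (Xp (p ^ 1) c 0 j)) (t ^ (p ^ 1)) 0
      (eval_Xp_zero _ _ _ _)
      (fun j _ => by rw [eval_Xp_succ, iterateFrobenius_def])
      (by rw [iterateFrobenius_def, htP])
    rw [this, zero_smul]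
  refine ⟨_, ?_, sub_eq_zero.mp hfix⟩
  intro hy0
  apply hminn
  rw [Finset.sum_range_succ, ← hP, htP] at hy0
  have h2 : e n = -(t⁻¹ • ∑ j ∈ Finset.range n, eval t (Xp (p ^ 1) c 0 j) • e j) := by
    have h3 : t • e n = -∑ j ∈ Finset.range n, eval t (Xp (p ^ 1) c 0 j) • e j :=
      eq_neg_of_add_eq_zero_right hy0
    rw [← smul_neg, ← h3, smul_smul, inv_mul_cancel₀ ht0, one_smul]
  rw [h2]
  exact Submodule.neg_mem _ (Submodule.smul_mem _ _ (sum_mem_span e n _))

/-- if the image of `φ` spans, the fixed vectors span `V`. -/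
theorem span_fixed_eq_top [IsSepClosed k] [FiniteDimensional k V]
    (φ : V →ₛₗ[iterateFrobenius k p 1] V) (hspan : Submodule.span k (Set.range φ) = ⊤) :
    Submodule.span k {v | φ v = v} = ⊤ := by
  set U := Submodule.span k {v | φ v = v} with hU
  by_contra hne
  have hUst : ∀ x ∈ U, φ x ∈ U := by
    have : U ≤ U.comap φ := by
      rw [hU, Submodule.span_le]
      intro v hv
      rw [Set.mem_setOf_eq] at hv
      rw [SetLike.mem_coe, Submodule.mem_comap, hv]
      exact Submodule.subset_span hv
    exact fun x hx => this hx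
  -- the quotient
  have hnt : Nontrivial (V ⧸ U) := Submodule.Quotient.nontrivial_iff.mpr hne
  set φq := U.mapQ U φ (fun x hx => hUst x hx) with hφq
  have hspanq : Submodule.span k (Set.range φq) = ⊤ := by
    rw [eq_top_iff]
    have h1 : Submodule.map U.mkQ (Submodule.span k (Set.range φ)) = ⊤ := by
      rw [hspan, Submodule.map_top, Submodule.range_mkQ]
    rw [← h1, Submodule.map_span]
    apply Submodule.span_mono
    rintro _ ⟨_, ⟨x, rfl⟩, rfl⟩
    exact ⟨U.mkQ x, by rw [hφq]; rfl⟩
  have hinjq : Function.Injective φq := injective_of_span φq hspanq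
  obtain ⟨zq, hzq0, hzq⟩ := exists_fixed_ne_zero p φq hinjq
  obtain ⟨z, rfl⟩ := Submodule.mkQ_surjective U zq
  rw [Submodule.mkQ_apply, hφq, Submodule.mapQ_apply, ← sub_eq_zero, ← Submodule.Quotient.mk_sub,
    Submodule.Quotient.mk_eq_zero] at hzq
  obtain ⟨u, hu⟩ := exists_sub_eq p (φ.restrict hUst) (-⟨φ z - z, hzq⟩)
  have hu' : φ u.1 - u.1 = -(φ z - z) := congrArg Subtype.val hu
  have hfix : φ (z + u.1) = z + u.1 := by
    rw [map_add, ← sub_eq_zero]
    have : φ z + φ u.1 - (z + u.1) = (φ z - z) + (φ u.1 - u.1) := by abel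
    rw [this, hu', add_neg_cancel]
  have hzU : z + u.1 ∈ U := Submodule.subset_span hfix
  have : z ∈ U := by
    have := U.sub_mem hzU u.2
    rwa [add_sub_cancel_right] at this
  apply hzq0
  rw [Submodule.mkQ_apply, Submodule.Quotient.mk_eq_zero]
  exact this

/-- a basis of fixed vectors. -/
theorem exists_fixed_basis [IsSepClosed k] [FiniteDimensional k V]
    (φ : V →ₛₗ[iterateFrobenius k p 1] V) (hspan : Submodule.span k (Set.range φ) = ⊤) :
    ∃ b : Module.Basis (Fin (Module.finrank k V)) k V, ∀ i, φ (b i) = b i := by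
  classical
  have h1 := span_fixed_eq_top p φ hspan
  let b0 := Module.Basis.ofSpan (K := k) (s := {v : V | φ v = v}) h1.ge
  haveI : Fintype ((linearIndepOn_empty k (id : V → V)).extend (Set.empty_subset {v : V | φ v = v})) :=
    FiniteDimensional.fintypeBasisIndex b0
  have hcard := Module.finrank_eq_card_basis b0
  let b := b0.reindex (Fintype.equivFinOfCardEq hcard.symm)
  refine ⟨b, fun i => ?_⟩
  have h2 : b i ∈ {v : V | φ v = v} := by
    apply Module.Basis.ofSpan_subset (K := k) h1.ge
    rw [Module.Basis.reindex_apply]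
    exact ⟨_, rfl⟩
  exact h2

/-- the number of solutions of `x ^ p = x`. -/
lemma card_pow_eq_self [IsSepClosed k] : Nat.card {x : k // x ^ p = x} = p := by
  classical
  have hp1 : 1 < p := (Fact.out : p.Prime).one_lt
  have hsep : (X ^ p - X : k[X]).Separable := galois_poly_separable p p (dvd_refl p)
  have hcard := card_rootSet_eq_natDegree (K := k) hsep
    (IsSepClosed.splits_codomain _ hsep)
  rw [FiniteField.X_pow_card_sub_X_natDegree_eq k hp1] at hcard
  have h1 : Nat.card {x : k // x ^ p = x} = Nat.card ((X ^ p - X : k[X]).rootSet k) := by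
    apply Nat.card_congr
    refine Equiv.subtypeEquivRight (fun x => ?_)
    rw [mem_rootSet]
    simp only [map_sub, map_pow, aeval_X, sub_eq_zero]
    exact ⟨fun h => ⟨FiniteField.X_pow_card_sub_X_ne_zero k hp1, h⟩, fun h => h.2⟩
  rw [h1, Nat.card_eq_fintype_card, hcard]

/-- the number of fixed vectors. -/
theorem card_fixed [IsSepClosed k] [FiniteDimensional k V]
    (φ : V →ₛₗ[iterateFrobenius k p 1] V) (hspan : Submodule.span k (Set.range φ) = ⊤) :
    Nat.card {v : V // φ v = v} = p ^ Module.finrank k V := by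
  classical
  obtain ⟨b, hb⟩ := exists_fixed_basis p φ hspan
  have key : ∀ v : V, b.equivFun (φ v) = fun i => (b.equivFun v i) ^ p := by
    intro v
    have h1 : φ v = b.equivFun.symm (fun i => (b.equivFun v i) ^ p) := by
      rw [Module.Basis.equivFun_symm_apply]
      conv_lhs => rw [← b.sum_equivFun v, map_sum]
      apply Finset.sum_congr rfl
      intro i _
      rw [map_smulₛₗ, hb, iterateFrobenius_def, pow_one]
    rw [h1, LinearEquiv.apply_symm_apply]
  have e1 : {v : V // φ v = v} ≃ {f : Fin (Module.finrank k V) → k // ∀ i, f i ^ p = f i} :=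
    Equiv.subtypeEquiv b.equivFun.toEquiv (fun v => by
      constructor
      · intro hv i
        have := congrFun (key v) i
        rw [hv] at this
        exact this.symm
      · intro hv
        apply b.equivFun.injective
        rw [key v]
        funext i
        exact hv i)
  have e2 : {f : Fin (Module.finrank k V) → k // ∀ i, f i ^ p = f i} ≃
      (Fin (Module.finrank k V) → {x : k // x ^ p = x}) :=
    Equiv.subtypePiEquivPi (β := fun _ => k) (p := fun _ x => x ^ p = x)
  rw [Nat.card_congr (e1.trans e2), Nat.card_pi, Finset.prod_const, card_pow_eq_self p,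
    Finset.card_univ, Fintype.card_fin]

/-- a separably closed field is infinite. -/
lemma infinite_of_isSepClosed [IsSepClosed k] : Infinite k := by
  classical
  by_contra hfin
  rw [not_infinite_iff_finite] at hfin
  haveI := Fintype.ofFinite k
  set q := Fintype.card k with hq
  have hq1 : 1 < q := Fintype.one_lt_card
  set G : k[X] := X ^ q - X + 1 with hG
  have hder : derivative G = -1 := by
    rw [hG, derivative_add, derivative_sub, derivative_X_pow, derivative_X, derivative_one,
      FiniteField.cast_card_eq_zero, C_0, zero_mul, zero_sub, add_zero]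
  have hroot : ∀ t : k, ¬ IsRoot G t := by
    intro t ht
    rw [IsRoot, hG, eval_add, eval_sub, eval_pow, eval_X, eval_one, FiniteField.pow_card, sub_self,
      zero_add] at ht
    exact one_ne_zero ht
  have hdeg : G.degree ≠ 0 := by
    intro h0
    have h1 := eq_C_of_degree_eq_zero h0
    rw [h1, derivative_C] at hder
    have : (1 : k[X]) = 0 := by
      have := congrArg Neg.neg hder
      simpa using this.symm
    exact one_ne_zero this
  obtain ⟨t, ht⟩ := IsSepClosed.exists_root G hdeg (separable_of_derivative_eq_neg_one hder)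
  exact hroot t ht

/-- `N` elements of `k` linearly independent over `𝔽_p`. -/
lemma exists_linearIndependent_zmod [IsSepClosed k] [Algebra (ZMod p) k] (N : ℕ) :
    ∃ c : Fin N → k, LinearIndependent (ZMod p) c := by
  haveI := infinite_of_isSepClosed (k := k)
  apply exists_linearIndependent_of_le_rank
  have h1 : ¬ Module.Finite (ZMod p) k := by
    intro hf
    haveI : Finite k := Module.finite_of_finite (ZMod p)
    exact not_finite k
  have h2 : Cardinal.aleph0 ≤ Module.rank (ZMod p) k := by
    by_contra h3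
    exact h1 (Module.rank_lt_aleph0_iff.mp (not_le.mp h3))
  exact (Cardinal.nat_lt_aleph0 N).le.trans h2

/-- iterates of `φ` on a combination of fixed vectors. -/
lemma iterate_sum_fixed {ι : Type*} [Fintype ι] (φ : V →ₛₗ[iterateFrobenius k p 1] V)
    (b : ι → V) (hb : ∀ i, φ (b i) = b i) (c : ι → k) (j : ℕ) :
    (⇑φ)^[j] (∑ i, c i • b i) = ∑ i, (c i) ^ (p ^ j) • b i := by
  induction j with
  | zero => simp
  | succ j ih =>
    rw [Function.iterate_succ_apply', ih, map_sum]
    apply Finset.sum_congr rfl
    intro i _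
    rw [map_smulₛₗ, hb, iterateFrobenius_def, pow_one, ← pow_mul, ← pow_succ]

/-- Moore independence: if the `c i` are `𝔽_p`-independent and `∑ j, l j * (c i) ^ p ^ j = 0`
for all `i` then `l = 0`. -/
lemma moore_indep [Algebra (ZMod p) k] (N : ℕ) (c : Fin N → k)
    (hc : LinearIndependent (ZMod p) c)
    (l : Fin N → k) (h : ∀ i, ∑ j : Fin N, l j * (c i) ^ (p ^ (j : ℕ)) = 0) : ∀ j, l j = 0 := by
  classical
  rcases Nat.eq_zero_or_pos N with hN | hN
  · intro j; exact absurd j.2 (by omega)
  have hp1 : 1 < p := (Fact.out : p.Prime).one_lt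
  set L : k[X] := ∑ j : Fin N, C (l j) * X ^ (p ^ (j : ℕ)) with hL
  have hLeval : ∀ t : k, eval t L = ∑ j : Fin N, l j * t ^ (p ^ (j : ℕ)) := by
    intro t
    rw [hL, eval_finset_sum]
    apply Finset.sum_congr rfl
    intro j _
    rw [eval_mul, eval_C, eval_pow, eval_X]
  -- `L` vanishes on the span
  have hvan : ∀ a : Fin N → ZMod p, eval (∑ i, a i • c i) L = 0 := by
    intro a
    rw [hLeval]
    have h1 : ∀ j : Fin N, (∑ i, a i • c i) ^ (p ^ (j : ℕ)) =
        ∑ i, a i • (c i) ^ (p ^ (j : ℕ)) := by
      intro j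
      rw [sum_pow_char_pow]
      apply Finset.sum_congr rfl
      intro i _
      rw [Algebra.smul_def, mul_pow, ← map_pow, ZMod.pow_card_pow, ← Algebra.smul_def]
    simp_rw [h1, Finset.mul_sum]
    rw [Finset.sum_comm]
    apply Finset.sum_eq_zero
    intro i _
    have h2 : ∀ j : Fin N, l j * a i • (c i) ^ (p ^ (j : ℕ)) =
        a i • (l j * (c i) ^ (p ^ (j : ℕ))) := by
      intro j
      rw [mul_smul_comm]
    simp_rw [h2]
    rw [← Finset.smul_sum, h i, smul_zero]
  -- so `L = 0`
  have hL0 : L = 0 := by
    by_contra hne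
    have hinj : Function.Injective (fun a : Fin N → ZMod p => ∑ i, a i • c i) := by
      intro a a' haa
      have := Fintype.linearIndependent_iff.mp hc (a - a') (by
        simp only [Pi.sub_apply, sub_smul, Finset.sum_sub_distrib]
        exact sub_eq_zero.mpr haa)
      funext i
      exact sub_eq_zero.mp (this i)
    set Z : Finset k := Finset.univ.image (fun a : Fin N → ZMod p => ∑ i, a i • c i) with hZ
    have hZcard : Z.card = p ^ N := by
      rw [hZ, Finset.card_image_of_injective _ hinj, Finset.card_univ, Fintype.card_fun,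
        ZMod.card, Fintype.card_fin]
    have hsub : Z.val ⊆ L.roots := by
      intro t ht
      rw [Finset.mem_val, hZ, Finset.mem_image] at ht
      obtain ⟨a, -, rfl⟩ := ht
      rw [mem_roots hne]
      exact hvan a
    have h1 := card_le_degree_of_subset_roots hsub
    have h2 : L.natDegree ≤ p ^ (N - 1) := by
      rw [hL]
      apply natDegree_sum_le_of_forall_le
      intro j _
      refine (natDegree_C_mul_X_pow_le _ _).trans ?_
      exact Nat.pow_le_pow_right (by omega) (by have := j.2; omega)
    have h3 : p ^ (N - 1) < p ^ N := Nat.pow_lt_pow_right hp1 (by omega)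
    omega
  intro j
  have h1 : L.coeff (p ^ (j : ℕ)) = l j := by
    rw [hL, finset_sum_coeff]
    rw [Finset.sum_eq_single j]
    · rw [coeff_C_mul_X_pow, if_pos rfl]
    · intro i _ hij
      rw [coeff_C_mul_X_pow, if_neg]
      intro h2
      exact hij (Fin.ext (Nat.pow_right_injective hp1 h2)).symm
    · intro h2; exact absurd (Finset.mem_univ _) h2
  rw [hL0, coeff_zero] at h1
  exact h1.symm

/-- there is a cyclic vector. -/
theorem exists_cyclic [IsSepClosed k] [FiniteDimensional k V]
    (φ : V →ₛₗ[iterateFrobenius k p 1] V) (hspan : Submodule.span k (Set.range φ) = ⊤) :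
    ∃ v : V, LinearIndependent k (fun j : Fin (Module.finrank k V) => (⇑φ)^[(j : ℕ)] v) := by
  classical
  obtain ⟨b, hb⟩ := exists_fixed_basis p φ hspan
  letI : Algebra (ZMod p) k := ZMod.algebra k p
  obtain ⟨c, hc⟩ := exists_linearIndependent_zmod (k := k) p (Module.finrank k V)
  refine ⟨∑ i, c i • b i, ?_⟩
  rw [Fintype.linearIndependent_iff]
  intro l hl
  simp_rw [iterate_sum_fixed p φ b hb c, Finset.smul_sum, smul_smul] at hl
  rw [Finset.sum_comm] at hl
  simp_rw [← Finset.sum_smul] at hl
  have h1 := Fintype.linearIndependent_iff.mp b.linearIndependent _ hl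
  exact moore_indep p _ c hc l h1

end Main

end Groth.Agent.Lib.FrobField_helper3
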