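import Mathlib
import Groth.Prelude.Def_FinFr
import Groth.Agent.Lib.FrobDescend_helper4

set_option autoImplicit false
set_option linter.style.haveILetI false
set_option linter.unusedSectionVars false

universe u

open scoped TensorProduct
open CategoryTheory CategoryTheory.Limits AlgebraicGeometry

namespace Groth.Agent.Lib.FrobFixH4

open Groth.Agent.Lib.GalActH4 Groth.Agent.Lib.FrobDescendH4

local notation:max "sm[" k ", " K "]" => Spec.map (CommRingCat.ofHom (algebraMap k K))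

section Alg

theorem isReduced_of_frob_injective (C : Type u) [CommRing C] (q : ℕ) (hq : 1 < q) (fr : C →+* C)
    (hfr : ∀ x, fr x = x ^ q) (hinj : Function.Injective fr) : IsReduced C := by
  have hiter : ∀ (m : ℕ) (s : C), fr^[m] s = s ^ (q ^ m) := by
    intro m
    induction m with
    | zero =>
      intro s
      rw [Function.iterate_zero, id_eq, pow_zero, pow_one]
    | succ m ih =>
      intro s
      rw [Function.iterate_succ_apply', ih, hfr, ← pow_mul, ← pow_succ]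
  refine ⟨fun s hs => ?_⟩
  obtain ⟨n, hn⟩ := hs
  have hle : n ≤ q ^ n := (Nat.lt_pow_self hq).le
  have h1 : s ^ (q ^ n) = 0 := by
    rw [← Nat.sub_add_cancel hle, pow_add, hn, mul_zero]
  have hqn : q ^ n ≠ 0 := (pow_pos (by omega) n).ne'
  have h2 : fr^[n] s = fr^[n] 0 := by
    rw [hiter, h1, hiter, zero_pow hqn]
  exact (hinj.iterate n) h2

end Alg

section Nat

theorem frob_nat' {X : Scheme.{u}} (FX : X ⟶ X) (q : ℕ) (hle : ∀ U : X.Opens, U ≤ FX ⁻¹ᵁ U)
    (hFapp : ∀ (U : X.Opens) (s : Γ(X, U)), (FX.appLE U U (hle U)).hom s = s ^ q)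
    (C : Type u) [CommRing C] (fr : C →+* C) (hfr : ∀ x, fr x = x ^ q)
    (a : Spec (CommRingCat.of C) ⟶ X) (U : X.Opens) (hU : IsAffineOpen U)
    (hrange : Set.range a ⊆ (U : Set X)) :
    a ≫ FX = Spec.map (CommRingCat.ofHom fr) ≫ a := by
  have hrange' : Set.range a ⊆ Set.range hU.fromSpec := by
    rw [hU.range_fromSpec]
    exact hrange
  let a' : Spec (CommRingCat.of C) ⟶ Spec Γ(X, U) := IsOpenImmersion.lift hU.fromSpec a hrange'
  have ha' : a' ≫ hU.fromSpec = a := IsOpenImmersion.lift_fac _ _ _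
  let ψ : Γ(X, U) ⟶ CommRingCat.of C := Spec.preimage a'
  have hψ : Spec.map ψ = a' := Spec.map_preimage a'
  have hring : FX.appLE U U (hle U) ≫ ψ = ψ ≫ CommRingCat.ofHom fr := by
    ext s
    show ψ.hom ((FX.appLE U U (hle U)).hom s) = fr (ψ.hom s)
    rw [hFapp, map_pow, hfr]
  calc a ≫ FX = (Spec.map ψ ≫ hU.fromSpec) ≫ FX := by rw [hψ, ha']
    _ = Spec.map ψ ≫ Spec.map (FX.appLE U U (hle U)) ≫ hU.fromSpec := by
        rw [Category.assoc, IsAffineOpen.SpecMap_appLE_fromSpec FX hU hU (hle U)]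
    _ = Spec.map (ψ ≫ CommRingCat.ofHom fr) ≫ hU.fromSpec := by
        rw [← Category.assoc, ← Spec.map_comp, hring]
    _ = Spec.map (CommRingCat.ofHom fr) ≫ a := by
        rw [Spec.map_comp, Category.assoc, hψ, ha']

end Nat

section Fix

variable {S Z : Scheme.{u}} (p : Z ⟶ S) (F : Z ⟶ Z) (hF : F ≫ p = p)

noncomputable abbrev gam : Z ⟶ pullback p p :=
  pullback.lift (𝟙 Z) F (by rw [hF, Category.id_comp])

noncomputable abbrev del : Z ⟶ pullback p p := pullback.lift (𝟙 Z) (𝟙 Z) rfl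

noncomputable abbrev Fix : Scheme.{u} := pullback (gam p F hF) (del p)

noncomputable abbrev pr : Fix p F hF ⟶ Z := pullback.fst (gam p F hF) (del p)

theorem pr_F : pr p F hF ≫ F = pr p F hF := by
  have h := pullback.condition (f := gam p F hF) (g := del p)
  have h1 : pullback.fst (gam p F hF) (del p) = pullback.snd (gam p F hF) (del p) := by
    have := congrArg (fun t => t ≫ pullback.fst p p) h
    simpa only [Category.assoc, pullback.lift_fst, Category.comp_id] using this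
  have h2 : pullback.fst (gam p F hF) (del p) ≫ F = pullback.snd (gam p F hF) (del p) := by
    have := congrArg (fun t => t ≫ pullback.snd p p) h
    simpa only [Category.assoc, pullback.lift_snd, Category.comp_id] using this
  exact h2.trans h1.symm

instance mono_del : Mono (del p) :=
  mono_of_mono_fac (pullback.lift_fst (𝟙 Z) (𝟙 Z) rfl)

instance mono_pr : Mono (pr p F hF) := inferInstance

theorem exists_lift {T : Scheme.{u}} (b : T ⟶ Z) (hb : b ≫ F = b) :
    ∃ b' : T ⟶ Fix p F hF, b' ≫ pr p F hF = b := by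
  refine ⟨pullback.lift b b ?_, pullback.lift_fst _ _ _⟩
  refine pullback.hom_ext ?_ ?_
  · simp only [Category.assoc, pullback.lift_fst, Category.comp_id]
  · simp only [Category.assoc, pullback.lift_snd, Category.comp_id, hb]

end Fix

section Core

variable {k : Type u} [Field k] [Fintype k] {X : Scheme.{u}} (f : X ⟶ Spec (CommRingCat.of k))
  (K : Type u) [Field K] [Algebra k K] [Algebra.IsAlgebraic k K]
  (FX : X ⟶ X) (hle : ∀ U : X.Opens, U ≤ FX ⁻¹ᵁ U)
  (hFapp : ∀ (U : X.Opens) (s : Γ(X, U)), (FX.appLE U U (hle U)).hom s = s ^ Fintype.card k)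
  (F : pullback f sm[k, K] ⟶ pullback f sm[k, K])
  (hF1 : F ≫ pullback.fst f sm[k, K] = pullback.fst f sm[k, K] ≫ FX)
  (hF2 : F ≫ pullback.snd f sm[k, K] = pullback.snd f sm[k, K])

local notation "Φ" => FiniteField.frobeniusAlgEquivOfAlgebraic k K

include hF1 hF2 in
theorem F_comm (σ : K ≃ₐ[k] K) : F ≫ gAct f K σ = gAct f K σ ≫ F := by
  refine pullback.hom_ext (f := f) (g := sm[k, K]) ?_ ?_
  · calc (F ≫ gAct f K σ) ≫ pullback.fst f sm[k, K]
        = F ≫ (gAct f K σ ≫ pullback.fst f sm[k, K]) := Category.assoc _ _ _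
      _ = F ≫ pullback.fst f sm[k, K] := by rw [gAct_fst]
      _ = pullback.fst f sm[k, K] ≫ FX := hF1
      _ = (gAct f K σ ≫ pullback.fst f sm[k, K]) ≫ FX := by rw [gAct_fst]
      _ = gAct f K σ ≫ (pullback.fst f sm[k, K] ≫ FX) := Category.assoc _ _ _
      _ = gAct f K σ ≫ (F ≫ pullback.fst f sm[k, K]) := by rw [hF1]
      _ = (gAct f K σ ≫ F) ≫ pullback.fst f sm[k, K] := (Category.assoc _ _ _).symm
  · calc (F ≫ gAct f K σ) ≫ pullback.snd f sm[k, K]
        = F ≫ (gAct f K σ ≫ pullback.snd f sm[k, K]) := Category.assoc _ _ _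
      _ = F ≫ (pullback.snd f sm[k, K] ≫ sσ K σ) := by rw [gAct_snd]
      _ = (F ≫ pullback.snd f sm[k, K]) ≫ sσ K σ := (Category.assoc _ _ _).symm
      _ = pullback.snd f sm[k, K] ≫ sσ K σ := by rw [hF2]
      _ = gAct f K σ ≫ pullback.snd f sm[k, K] := (gAct_snd f K σ).symm
      _ = gAct f K σ ≫ (F ≫ pullback.snd f sm[k, K]) := by rw [hF2]
      _ = (gAct f K σ ≫ F) ≫ pullback.snd f sm[k, K] := (Category.assoc _ _ _).symm

include hFapp hF1 in
theorem local_reduced (C : Type u) [CommRing C]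
    (j : Spec (CommRingCat.of C) ⟶ Fix (pullback.snd f sm[k, K]) F hF2) [IsOpenImmersion j]
    (U : X.Opens) (hU : IsAffineOpen U)
    (hjU : Set.range ((j ≫ pr (pullback.snd f sm[k, K]) F hF2) ≫ pullback.fst f sm[k, K]) ⊆
      (U : Set X)) :
    IsReduced C := by
  have hPF : pr (pullback.snd f sm[k, K]) F hF2 ≫ F = pr (pullback.snd f sm[k, K]) F hF2 :=
    pr_F _ F hF2
  obtain ⟨a, ha⟩ : ∃ a : Spec (CommRingCat.of C) ⟶ pullback f sm[k, K],
      a = j ≫ pr (pullback.snd f sm[k, K]) F hF2 := ⟨_, rfl⟩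
  have haF : a ≫ F = a := by rw [ha, Category.assoc, hPF]
  let β : CommRingCat.of K ⟶ CommRingCat.of C := Spec.preimage (a ≫ pullback.snd f sm[k, K])
  have hβ : Spec.map β = a ≫ pullback.snd f sm[k, K] := Spec.map_preimage _
  letI : Algebra K C := β.hom.toAlgebra
  letI : Algebra k C := ((algebraMap K C).comp (algebraMap k K)).toAlgebra
  let fr : C →+* C := (FiniteField.frobeniusAlgHom k C).toRingHom
  have hfr : ∀ x, fr x = x ^ Fintype.card k := fun x =>
    congrFun (FiniteField.coe_frobeniusAlgHom k C) x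
  have hA1 : (a ≫ pullback.fst f sm[k, K]) ≫ FX =
      Spec.map (CommRingCat.ofHom fr) ≫ a ≫ pullback.fst f sm[k, K] :=
    frob_nat' FX (Fintype.card k) hle hFapp C fr hfr (a ≫ pullback.fst f sm[k, K]) U hU (by
      rw [ha]
      exact hjU)
  have hA2 : Spec.map (CommRingCat.ofHom fr) ≫ Spec.map β = Spec.map β ≫ sσ K Φ := by
    rw [sσ, ← Spec.map_comp, ← Spec.map_comp]
    congr 1
    ext c
    show fr (β.hom c) = β.hom (Φ c)
    rw [hfr, FiniteField.coe_frobeniusAlgEquivOfAlgebraic, map_pow]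
  have hstar : Spec.map (CommRingCat.ofHom fr) ≫ a = a ≫ gAct f K Φ := by
    refine pullback.hom_ext (f := f) (g := sm[k, K]) ?_ ?_
    · calc (Spec.map (CommRingCat.ofHom fr) ≫ a) ≫ pullback.fst f sm[k, K]
          = Spec.map (CommRingCat.ofHom fr) ≫ a ≫ pullback.fst f sm[k, K] := Category.assoc _ _ _
        _ = (a ≫ pullback.fst f sm[k, K]) ≫ FX := hA1.symm
        _ = a ≫ (pullback.fst f sm[k, K] ≫ FX) := Category.assoc _ _ _
        _ = a ≫ (F ≫ pullback.fst f sm[k, K]) := by rw [hF1]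
        _ = (a ≫ F) ≫ pullback.fst f sm[k, K] := (Category.assoc _ _ _).symm
        _ = a ≫ pullback.fst f sm[k, K] := by rw [haF]
        _ = a ≫ (gAct f K Φ ≫ pullback.fst f sm[k, K]) := by rw [gAct_fst]
        _ = (a ≫ gAct f K Φ) ≫ pullback.fst f sm[k, K] := (Category.assoc _ _ _).symm
    · calc (Spec.map (CommRingCat.ofHom fr) ≫ a) ≫ pullback.snd f sm[k, K]
          = Spec.map (CommRingCat.ofHom fr) ≫ (a ≫ pullback.snd f sm[k, K]) :=
            Category.assoc _ _ _
        _ = Spec.map (CommRingCat.ofHom fr) ≫ Spec.map β := by rw [hβ]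
        _ = Spec.map β ≫ sσ K Φ := hA2
        _ = (a ≫ pullback.snd f sm[k, K]) ≫ sσ K Φ := by rw [hβ]
        _ = a ≫ (pullback.snd f sm[k, K] ≫ sσ K Φ) := Category.assoc _ _ _
        _ = a ≫ (gAct f K Φ ≫ pullback.snd f sm[k, K]) := by rw [gAct_snd]
        _ = (a ≫ gAct f K Φ) ≫ pullback.snd f sm[k, K] := (Category.assoc _ _ _).symm
  have hbF : (a ≫ gAct f K Φ⁻¹) ≫ F = a ≫ gAct f K Φ⁻¹ := by
    calc (a ≫ gAct f K Φ⁻¹) ≫ F = a ≫ (gAct f K Φ⁻¹ ≫ F) := Category.assoc _ _ _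
      _ = a ≫ (F ≫ gAct f K Φ⁻¹) := by rw [F_comm f K FX F hF1 hF2]
      _ = (a ≫ F) ≫ gAct f K Φ⁻¹ := (Category.assoc _ _ _).symm
      _ = a ≫ gAct f K Φ⁻¹ := by rw [haF]
  obtain ⟨b', hb'⟩ := exists_lift (pullback.snd f sm[k, K]) F hF2 (a ≫ gAct f K Φ⁻¹) hbF
  have hinj : Function.Injective (pr (pullback.snd f sm[k, K]) F hF2).base :=
    (pr (pullback.snd f sm[k, K]) F hF2).injective
  have hrange : Set.range b' ⊆ Set.range j := by
    rintro _ ⟨c, rfl⟩
    refine ⟨c, hinj ?_⟩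
    have h1 : (pr (pullback.snd f sm[k, K]) F hF2).base (b'.base c) =
        (gAct f K Φ⁻¹).base (a.base c) :=
      congrArg (fun ψ : Spec (CommRingCat.of C) ⟶ pullback f sm[k, K] => ψ.base c) hb'
    have h2 : F.base (a.base c) = (gAct f K Φ⁻¹).base (a.base c) :=
      F_eq_gAct f K FX hle hFapp F hF1 hF2 (a.base c)
    have h3 : F.base (a.base c) = a.base c :=
      congrArg (fun ψ : Spec (CommRingCat.of C) ⟶ pullback f sm[k, K] => ψ.base c) haF
    have h4 : (pr (pullback.snd f sm[k, K]) F hF2).base (j.base c) = a.base c := by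
      rw [ha]
      rfl
    exact h4.trans (h3.symm.trans (h2.trans h1.symm))
  let ψ : Spec (CommRingCat.of C) ⟶ Spec (CommRingCat.of C) := IsOpenImmersion.lift j b' hrange
  have hψ : ψ ≫ j = b' := IsOpenImmersion.lift_fac _ _ _
  let θ : CommRingCat.of C ⟶ CommRingCat.of C := Spec.preimage ψ
  have hθ : Spec.map θ = ψ := Spec.map_preimage ψ
  haveI : Mono a := by
    rw [ha]
    exact mono_comp _ _
  have hcomp : (Spec.map θ ≫ Spec.map (CommRingCat.ofHom fr)) ≫ a = 𝟙 _ ≫ a := by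
    calc (Spec.map θ ≫ Spec.map (CommRingCat.ofHom fr)) ≫ a
        = Spec.map θ ≫ (Spec.map (CommRingCat.ofHom fr) ≫ a) := Category.assoc _ _ _
      _ = Spec.map θ ≫ (a ≫ gAct f K Φ) := by rw [hstar]
      _ = ψ ≫ ((j ≫ pr (pullback.snd f sm[k, K]) F hF2) ≫ gAct f K Φ) := by rw [hθ, ha]
      _ = ((ψ ≫ j) ≫ pr (pullback.snd f sm[k, K]) F hF2) ≫ gAct f K Φ := by
          simp only [Category.assoc]
      _ = (b' ≫ pr (pullback.snd f sm[k, K]) F hF2) ≫ gAct f K Φ := by rw [hψ]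
      _ = (a ≫ gAct f K Φ⁻¹) ≫ gAct f K Φ := by rw [hb']
      _ = a ≫ (gAct f K Φ⁻¹ ≫ gAct f K Φ) := Category.assoc _ _ _
      _ = a := by rw [gAct_mul, inv_mul_cancel, gAct_one, Category.comp_id]
      _ = 𝟙 _ ≫ a := (Category.id_comp a).symm
  have hid : Spec.map θ ≫ Spec.map (CommRingCat.ofHom fr) = 𝟙 _ := (cancel_mono a).mp hcomp
  have hring : CommRingCat.ofHom fr ≫ θ = 𝟙 _ :=
    Spec.map_injective (by rw [Spec.map_comp, hid, Spec.map_id])
  have hleft : ∀ s : C, θ.hom (fr s) = s := fun s =>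
    congrArg (fun t : CommRingCat.of C ⟶ CommRingCat.of C => t.hom s) hring
  have hfrinj : Function.Injective fr := Function.LeftInverse.injective hleft
  exact isReduced_of_frob_injective C (Fintype.card k) Fintype.one_lt_card fr hfr hfrinj

include hFapp hF1 in
theorem fix_reduced : IsReduced (Fix (pullback.snd f sm[k, K]) F hF2) := by
  apply +allowSynthFailures isReduced_of_isReduced_stalk
  intro t
  obtain ⟨U, hU, hxU, -⟩ := (TopologicalSpace.Opens.isBasis_iff_nbhd.mp X.isBasis_affineOpens)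
    (show (pr (pullback.snd f sm[k, K]) F hF2 ≫ pullback.fst f sm[k, K]).base t ∈
      (⊤ : X.Opens) from trivial)
  have hU' : IsAffineOpen U := hU
  obtain ⟨V, hV, htV, hVU⟩ := (TopologicalSpace.Opens.isBasis_iff_nbhd.mp
    (Fix (pullback.snd f sm[k, K]) F hF2).isBasis_affineOpens)
    (show t ∈ (pr (pullback.snd f sm[k, K]) F hF2 ≫ pullback.fst f sm[k, K]) ⁻¹ᵁ U from hxU)
  have hV' : IsAffineOpen V := hV
  haveI hred : _root_.IsReduced ↑Γ(Fix (pullback.snd f sm[k, K]) F hF2, V) :=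
    local_reduced f K FX hle hFapp F hF1 hF2 ↑Γ(Fix (pullback.snd f sm[k, K]) F hF2, V)
      hV'.fromSpec U hU' (by
        rintro _ ⟨c, rfl⟩
        have hc : hV'.fromSpec c ∈ (V : Set _) := by
          rw [← hV'.range_fromSpec]
          exact ⟨c, rfl⟩
        exact hVU hc)
  obtain ⟨c, hc⟩ : t ∈ Set.range hV'.fromSpec := by
    rw [hV'.range_fromSpec]
    exact htV
  subst hc
  haveI : IsReduced (Spec Γ(Fix (pullback.snd f sm[k, K]) F hF2, V)) :=
    (affine_isReduced_iff _).mpr hred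
  exact isReduced_of_injective (hV'.fromSpec.stalkMap c).hom
    ((ConcreteCategory.isIso_iff_bijective _).mp inferInstance).1

end Core

theorem main13067 {k : Type u} [Field k] [Finite k]
    {X : Scheme.{u}} (f : X ⟶ Spec (CommRingCat.of k)) (FX : X ⟶ X)
    (hle : ∀ U : X.Opens, U ≤ FX ⁻¹ᵁ U)
    (hFapp : ∀ (U : X.Opens) (s : Γ(X, U)), (FX.appLE U U (hle U)).hom s = s ^ Nat.card k)
    (F : FinFr.ext (AlgebraicClosure k) f ⟶ FinFr.ext (AlgebraicClosure k) f)
    (hF1 : F ≫ FinFr.extπ (AlgebraicClosure k) f = FinFr.extπ (AlgebraicClosure k) f ≫ FX)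
    (hF2 : F ≫ FinFr.extStr (AlgebraicClosure k) f = FinFr.extStr (AlgebraicClosure k) f) :
    IsReduced (FinFr.fixScheme (FinFr.extStr (AlgebraicClosure k) f) F hF2) := by
  haveI := Fintype.ofFinite k
  have hq : Nat.card k = Fintype.card k := Nat.card_eq_fintype_card
  have hFapp' : ∀ (U : X.Opens) (s : Γ(X, U)),
      (FX.appLE U U (hle U)).hom s = s ^ Fintype.card k :=
    fun U s => (hFapp U s).trans (by rw [hq])
  exact fix_reduced f (AlgebraicClosure k) FX hle hFapp' F hF1 hF2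

end Groth.Agent.Lib.FrobFixH4
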