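import Mathlib

/-!
Power-series helpers for zeta functions (helper8): logarithmic derivatives of finite products,
uniqueness for the ODE `W' = W * D` over `ℚ`, geometric series.
-/

namespace Groth.Agent.ZetaPS

open PowerSeries

theorem derivative_prod_pow {ι : Type*} [DecidableEq ι] (s : Finset ι)
    (u h : ι → PowerSeries ℚ) (a : ι → ℕ)
    (hu : ∀ i ∈ s, derivative ℚ (u i) = u i * h i) :
    derivative ℚ (∏ i ∈ s, u i ^ a i) =
      (∏ i ∈ s, u i ^ a i) * ∑ i ∈ s, (a i : PowerSeries ℚ) * h i := by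
  induction s using Finset.induction_on with
  | empty => simp
  | insert j s hj ih =>
    rw [Finset.prod_insert hj, Finset.sum_insert hj, Derivation.leibniz,
      ih (fun i hi => hu i (Finset.mem_insert_of_mem hi))]
    have h1 : derivative ℚ (u j ^ a j) = u j ^ a j * ((a j : PowerSeries ℚ) * h j) := by
      rw [derivative_pow, hu j (Finset.mem_insert_self j s)]
      cases ha : a j with
      | zero => simp
      | succ m =>
        simp only [Nat.add_sub_cancel, pow_succ]
        ring
    rw [h1]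
    simp only [smul_eq_mul]
    ring

theorem coeff_succ_of_ode {W D : PowerSeries ℚ} (hW : derivative ℚ W = W * D) (j : ℕ) :
    coeff (j + 1) W * ((j : ℚ) + 1) =
      ∑ x ∈ Finset.HasAntidiagonal.antidiagonal j, coeff x.1 W * coeff x.2 D := by
  rw [← coeff_mul, ← hW, coeff_derivative]

theorem ode_unique {W₁ W₂ D : PowerSeries ℚ} (h₁ : derivative ℚ W₁ = W₁ * D)
    (h₂ : derivative ℚ W₂ = W₂ * D) (h0 : constantCoeff W₁ = constantCoeff W₂) : W₁ = W₂ := by
  ext n
  induction n using Nat.strong_induction_on with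
  | _ n ih =>
    cases n with
    | zero => simpa using h0
    | succ j =>
      have e1 := coeff_succ_of_ode h₁ j
      have e2 := coeff_succ_of_ode h₂ j
      have : ∑ x ∈ Finset.HasAntidiagonal.antidiagonal j, coeff x.1 W₁ * coeff x.2 D =
          ∑ x ∈ Finset.HasAntidiagonal.antidiagonal j, coeff x.1 W₂ * coeff x.2 D := by
        apply Finset.sum_congr rfl
        intro x hx
        rw [ih x.1 (by have := Finset.HasAntidiagonal.mem_antidiagonal.mp hx; omega)]
      rw [this, ← e2] at e1
      have hne : ((j : ℚ) + 1) ≠ 0 := by positivity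
      exact mul_right_cancel₀ hne e1

theorem coeff_eq_zero_of_ode {W D : PowerSeries ℚ} (hW : derivative ℚ W = W * D) (n : ℕ)
    (hD : ∀ j < n, coeff j D = 0) : ∀ j, 1 ≤ j → j ≤ n → coeff j W = 0 := by
  intro j hj1 hjn
  obtain ⟨i, rfl⟩ : ∃ i, j = i + 1 := ⟨j - 1, by omega⟩
  have e := coeff_succ_of_ode hW i
  have h0 : ∑ x ∈ Finset.HasAntidiagonal.antidiagonal i, coeff x.1 W * coeff x.2 D = 0 := by
    apply Finset.sum_eq_zero
    intro x hx
    rw [hD x.2 (by have := Finset.HasAntidiagonal.mem_antidiagonal.mp hx; omega), mul_zero]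
  rw [h0] at e
  have hne : ((i : ℚ) + 1) ≠ 0 := by positivity
  exact (mul_eq_zero.mp e).resolve_right hne

theorem derivative_exp_subst {L : PowerSeries ℚ} (hL : constantCoeff L = 0) :
    derivative ℚ (subst L (exp ℚ)) = subst L (exp ℚ) * derivative ℚ L := by
  rw [derivative_subst (HasSubst.of_constantCoeff_zero' hL), derivative_exp]

theorem constantCoeff_exp_subst {L : PowerSeries ℚ} (hL : constantCoeff L = 0) :
    constantCoeff (subst L (exp ℚ)) = 1 := by
  have hs := HasSubst.of_constantCoeff_zero' hL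
  have h1 : subst L (exp ℚ) = 1 + subst L (exp ℚ - 1) := by
    have h2 : subst L (1 : PowerSeries ℚ) = 1 := by rw [← coe_substAlgHom hs, map_one]
    rw [subst_sub hs, h2]; ring
  rw [h1, map_add, map_one]
  have : constantCoeff (subst L (exp ℚ - 1)) = 0 :=
    constantCoeff_subst_eq_zero hL _ (by simp [constantCoeff_exp])
  rw [this, add_zero]

/-- geometric series in `c * X ^ r`. -/
noncomputable def geom (c : ℚ) (r : ℕ) : PowerSeries ℚ :=
  mk fun j => if r ∣ j then c ^ (j / r) else 0

theorem geom_mul (c : ℚ) {r : ℕ} (hr : 1 ≤ r) : geom c r * (1 - C c * X ^ r) = 1 := by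
  ext j
  rw [mul_sub, mul_one, map_sub]
  have e : geom c r * (C c * X ^ r) = C c * (geom c r * X ^ r) := by ring
  rw [e, coeff_C_mul, coeff_mul_X_pow', coeff_one]
  simp only [geom, coeff_mk]
  by_cases hrj : r ≤ j
  · rw [if_pos hrj]
    have hj0 : j ≠ 0 := by omega
    rw [if_neg hj0]
    by_cases hd : r ∣ j
    · obtain ⟨t, rfl⟩ := hd
      have ht : 1 ≤ t := by
        rcases Nat.eq_zero_or_pos t with h | h
        · subst h; simp at hj0
        · exact h
      have h1 : r ∣ r * t - r := ⟨t - 1, by rw [Nat.mul_sub, mul_one]⟩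
      rw [if_pos (Dvd.intro t rfl), if_pos h1]
      have h2 : r * t / r = t := Nat.mul_div_cancel_left t (by omega)
      have h3 : (r * t - r) / r = t - 1 := by
        have : r * t - r = r * (t - 1) := by rw [Nat.mul_sub, mul_one]
        rw [this, Nat.mul_div_cancel_left _ (by omega)]
      rw [h2, h3]
      obtain ⟨t', rfl⟩ : ∃ t', t = t' + 1 := ⟨t - 1, by omega⟩
      simp only [Nat.add_sub_cancel, pow_succ]
      ring
    · have h1 : ¬ r ∣ j - r := by
        intro h
        exact hd ((Nat.dvd_sub_iff_left hrj (dvd_refl r)).mp h)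
      rw [if_neg hd, if_neg h1]
      simp
  · rw [if_neg hrj]
    by_cases hj0 : j = 0
    · subst hj0
      simp
    · have hd : ¬ r ∣ j := by
        intro h
        exact hrj (Nat.le_of_dvd (by omega) h)
      rw [if_neg hd, if_neg hj0]
      simp

theorem derivative_one_sub (c : ℚ) {r : ℕ} (hr : 1 ≤ r) :
    derivative ℚ (1 - C c * X ^ r) =
      (1 - C c * X ^ r) * (-(C c * ((r : PowerSeries ℚ) * X ^ (r - 1))) * geom c r) := by
  have h1 : derivative ℚ (1 - C c * X ^ r : PowerSeries ℚ) =
      -(C c * ((r : PowerSeries ℚ) * X ^ (r - 1))) := by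
    rw [map_sub, derivative_one, zero_sub, Derivation.leibniz, derivative_C, derivative_pow,
      derivative_X]
    simp
  rw [h1]
  have h2 := geom_mul c hr
  linear_combination (C c * ((r : PowerSeries ℚ) * X ^ (r - 1))) * h2

theorem coeff_logDeriv (c : ℚ) {r : ℕ} (hr : 1 ≤ r) (j : ℕ) :
    coeff j (-(C c * ((r : PowerSeries ℚ) * X ^ (r - 1))) * geom c r) =
      if r ∣ j + 1 then -((r : ℚ) * c ^ ((j + 1) / r)) else 0 := by
  have e : -(C c * ((r : PowerSeries ℚ) * X ^ (r - 1))) * geom c r =
      C (-(c * (r : ℚ))) * (X ^ (r - 1) * geom c r) := by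
    rw [show (r : PowerSeries ℚ) = C (r : ℚ) from (map_natCast (C (R := ℚ)) r).symm]
    simp only [map_neg, map_mul]
    ring
  rw [e, coeff_C_mul, coeff_X_pow_mul']
  simp only [geom, coeff_mk]
  by_cases hd : r ∣ j + 1
  · obtain ⟨t, ht⟩ := hd
    have ht1 : 1 ≤ t := by
      rcases Nat.eq_zero_or_pos t with h | h
      · subst h; simp at ht
      · exact h
    have hle : r - 1 ≤ j := by
      have : r ≤ r * t := Nat.le_mul_of_pos_right r ht1
      omega
    have h1 : j - (r - 1) = r * (t - 1) := by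
      rw [Nat.mul_sub, mul_one]
      omega
    have hdvd : r ∣ j + 1 := ⟨t, ht⟩
    rw [if_pos hle, if_pos hdvd, h1, if_pos (Dvd.intro _ rfl),
      Nat.mul_div_cancel_left _ (by omega : 0 < r), ht, Nat.mul_div_cancel_left _ (by omega : 0 < r)]
    obtain ⟨t', rfl⟩ : ∃ t', t = t' + 1 := ⟨t - 1, by omega⟩
    simp only [Nat.add_sub_cancel, pow_succ]
    ring
  · rw [if_neg hd]
    by_cases hle : r - 1 ≤ j
    · rw [if_pos hle]
      have h1 : ¬ r ∣ j - (r - 1) := by
        intro h
        apply hd
        have h2 : j + 1 = (j - (r - 1)) + r := by omega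
        rw [h2]
        exact dvd_add h (dvd_refl r)
      rw [if_neg h1, mul_zero]
    · rw [if_neg hle, mul_zero]

end Groth.Agent.ZetaPS
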