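import Mathlib
import Groth.Prelude.Def_W4c1zetahwZeta
import Groth.Agent.Lib.SchFT_helper8
import Groth.Agent.Lib.ZetaPS_helper8

set_option autoImplicit false
set_option linter.style.haveILetI false
set_option linter.unusedSectionVars false

universe u

open CategoryTheory CategoryTheory.Limits AlgebraicGeometry

namespace Groth.Agent.Lib.ZetaFinH4

/-! ### A1: primes containing all `a ^ N - a` -/

theorem finite_primes_of_pow {k A : Type*} [Field k] [CommRing A] [Algebra k A]
    [Algebra.FiniteType k A] (N : ℕ) (hN : 2 ≤ N) :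
    {p : PrimeSpectrum A | ∀ a : A, a ^ N - a ∈ p.asIdeal}.Finite := by
  classical
  let J : Ideal A := Ideal.span (Set.range fun a : A => a ^ N - a)
  haveI hft : Algebra.FiniteType k (A ⧸ J) :=
    Algebra.FiniteType.of_surjective (Ideal.Quotient.mkₐ k J) (Ideal.Quotient.mkₐ_surjective k J)
  haveI hint : Algebra.IsIntegral k (A ⧸ J) := by
    refine ⟨fun b => ?_⟩
    obtain ⟨a, rfl⟩ := Ideal.Quotient.mk_surjective b
    refine ⟨Polynomial.X ^ N - Polynomial.X, Polynomial.monic_X_pow_sub ?_, ?_⟩
    · rw [Polynomial.degree_X]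
      exact_mod_cast (by omega : 1 < N)
    · rw [Polynomial.eval₂_sub, Polynomial.eval₂_pow, Polynomial.eval₂_X, ← map_pow, ← map_sub,
        Ideal.Quotient.eq_zero_iff_mem]
      exact Ideal.subset_span ⟨a, rfl⟩
  haveI hfin : Module.Finite k (A ⧸ J) := Algebra.IsIntegral.finite
  haveI hart : IsArtinianRing (A ⧸ J) := IsArtinianRing.of_finite k (A ⧸ J)
  haveI hfinP : Finite (PrimeSpectrum (A ⧸ J)) := inferInstance
  refine (Set.finite_range (PrimeSpectrum.comap (Ideal.Quotient.mk J))).subset ?_
  intro p hp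
  rw [range_comap_of_surjective _ _ Ideal.Quotient.mk_surjective, Ideal.mk_ker,
    PrimeSpectrum.mem_zeroLocus, SetLike.coe_subset_coe]
  exact Ideal.span_le.mpr (by rintro _ ⟨a, rfl⟩; exact hp a)

/-! ### A2: points whose residue field satisfies `y ^ N = y` -/

theorem finite_pts_affine {k : Type u} [Field k] {X : Scheme.{u}}
    (f : X ⟶ Spec (CommRingCat.of k)) [LocallyOfFiniteType f]
    (N : ℕ) (hN : 2 ≤ N) (U : X.Opens) (hU : IsAffineOpen U) :
    {x : X | (∀ y : X.residueField x, y ^ N = y) ∧ x ∈ U}.Finite := by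
  letI : X.Over (Spec (CommRingCat.of k)) := ⟨f⟩
  haveI : LocallyOfFiniteType (X ↘ Spec (CommRingCat.of k)) := ‹LocallyOfFiniteType f›
  letI := Groth.Agent.SchFTH8.secAlgebra k X U
  haveI : Algebra.FiniteType k Γ(X, U) := Groth.Agent.SchFTH8.finiteType_sec k X U hU
  refine ((finite_primes_of_pow (k := k) (A := Γ(X, U)) N hN).image
    (fun p => hU.fromSpec p)).subset ?_
  rintro x ⟨hx, hxU⟩
  have hr : x ∈ (Set.range hU.fromSpec : Set X) := by
    rw [hU.range_fromSpec]; exact hxU
  obtain ⟨p, rfl⟩ := hr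
  refine ⟨p, fun a => ?_, rfl⟩
  by_contra hnot
  have h3 : p ∈ hU.fromSpec ⁻¹ᵁ X.basicOpen (a ^ N - a) := by
    rw [hU.fromSpec_preimage_basicOpen]; exact hnot
  have h4 : X.evaluation U (hU.fromSpec p) hxU (a ^ N - a) ≠ 0 :=
    (X.evaluation_ne_zero_iff_mem_basicOpen _ hxU _).mpr h3
  apply h4
  have h5 := hx (X.evaluation U (hU.fromSpec p) hxU a)
  rw [map_sub, map_pow, h5, sub_self]

theorem finite_pts_of_pow {k : Type u} [Field k] {X : Scheme.{u}}
    (f : X ⟶ Spec (CommRingCat.of k)) [LocallyOfFiniteType f] [QuasiCompact f]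
    (N : ℕ) (hN : 2 ≤ N) :
    {x : X | ∀ y : X.residueField x, y ^ N = y}.Finite := by
  haveI : CompactSpace X := QuasiCompact.compactSpace_of_compactSpace f
  have hch : ∀ x : X, ∃ U : X.Opens, IsAffineOpen U ∧ x ∈ U := fun x => by
    obtain ⟨U, hU, hx, -⟩ := TopologicalSpace.Opens.isBasis_iff_nbhd.mp X.isBasis_affineOpens
      (TopologicalSpace.Opens.mem_top x)
    exact ⟨U, hU, hx⟩
  choose U hU hxU using hch
  obtain ⟨t, ht⟩ := isCompact_univ.elim_finite_subcover (fun x => ((U x : X.Opens) : Set X))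
    (fun x => (U x).isOpen) (fun x _ => Set.mem_iUnion.mpr ⟨x, hxU x⟩)
  refine (Set.Finite.biUnion t.finite_toSet
    (fun x _ => finite_pts_affine f N hN (U x) (hU x))).subset ?_
  intro z hz
  obtain ⟨x, hx, hzx⟩ := Set.mem_iUnion₂.mp (ht (Set.mem_univ z))
  exact Set.mem_iUnion₂.mpr ⟨x, Finset.mem_coe.mpr hx, hz, hzx⟩

/-! ### A3: residue fields over a finite field -/

theorem finite_residueField_of_prime {K : Type*} [Field K] [Finite K] (I : Ideal K) [I.IsPrime] :
    Finite I.ResidueField := by
  have hbot : I = ⊥ := Ideal.eq_bot_of_prime I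
  haveI : I.IsMaximal := by rw [hbot]; exact Ideal.bot_isMaximal
  exact Finite.of_surjective _ (Ideal.algebraMap_residueField_surjective I)

theorem finite_residueField_spec {k : Type u} [Field k] [Finite k]
    (s : Spec (CommRingCat.of k)) :
    Finite ((Spec (CommRingCat.of k)).residueField s) := by
  haveI : s.asIdeal.IsPrime := s.isPrime
  haveI : Finite s.asIdeal.ResidueField := finite_residueField_of_prime (K := k) s.asIdeal
  exact Finite.of_equiv _
    (Scheme.Spec.residueFieldIso (CommRingCat.of k) s).commRingCatIsoToRingEquiv.symm.toEquiv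

theorem residueDegree_pos_pow {k : Type u} [Field k] [Finite k] {X : Scheme.{u}}
    (f : X ⟶ Spec (CommRingCat.of k)) (x : X) (e : ℕ) (he : 1 ≤ e)
    (hx : EGA4loc.residueDegree f x = e) (y : X.residueField x) :
    y ^ (Nat.card ((Spec (CommRingCat.of k)).residueField (f.base x)) ^ e) = y := by
  letI : Algebra ((Spec (CommRingCat.of k)).residueField (f.base x)) (X.residueField x) :=
    (f.residueFieldMap x).hom.toAlgebra
  haveI := finite_residueField_spec (f.base x)
  have hfr : Module.finrank ((Spec (CommRingCat.of k)).residueField (f.base x))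
      (X.residueField x) = e := hx
  haveI : Module.Finite ((Spec (CommRingCat.of k)).residueField (f.base x)) (X.residueField x) :=
    Module.finite_of_finrank_pos (by rw [hfr]; exact he)
  haveI : Finite (X.residueField x) :=
    Module.finite_of_finite ((Spec (CommRingCat.of k)).residueField (f.base x))
  have hcard : Nat.card (X.residueField x) =
      Nat.card ((Spec (CommRingCat.of k)).residueField (f.base x)) ^ e := by
    rw [← hfr]; exact Module.natCard_eq_pow_finrank
  letI : Fintype (X.residueField x) := Fintype.ofFinite _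
  rw [← hcard, Nat.card_eq_fintype_card]
  exact FiniteField.pow_card y

theorem finite_deg_pts {k : Type u} [Field k] [Finite k] {X : Scheme.{u}}
    (f : X ⟶ Spec (CommRingCat.of k)) [LocallyOfFiniteType f] [QuasiCompact f]
    (e : ℕ) (he : 1 ≤ e) : {x : X | EGA4loc.residueDegree f x = e}.Finite := by
  haveI : Subsingleton ↥(Spec (CommRingCat.of k)) :=
    inferInstanceAs (Subsingleton (PrimeSpectrum k))
  let pt0 : ↥(Spec (CommRingCat.of k)) := (default : PrimeSpectrum k)
  haveI := finite_residueField_spec pt0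
  have hQ1 : 1 < Nat.card ((Spec (CommRingCat.of k)).residueField pt0) := by
    letI := Fintype.ofFinite ((Spec (CommRingCat.of k)).residueField pt0)
    rw [Nat.card_eq_fintype_card]
    exact Fintype.one_lt_card
  have hN : 2 ≤ Nat.card ((Spec (CommRingCat.of k)).residueField pt0) ^ e := by
    have : 1 < Nat.card ((Spec (CommRingCat.of k)).residueField pt0) ^ e :=
      Nat.one_lt_pow (by omega) hQ1
    omega
  refine (finite_pts_of_pow f _ hN).subset ?_
  intro x hx y
  have hpt : f.base x = pt0 := Subsingleton.elim _ _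
  have h1 := residueDegree_pos_pow f x e he hx y
  rw [hpt] at h1
  exact h1

/-! ### B: immersions, residue degrees and closed points -/

theorem residueFieldMap_bijective {X Y : Scheme.{u}} (g : Y ⟶ X) [IsPreimmersion g] (y : Y) :
    Function.Bijective (g.residueFieldMap y).hom := by
  refine ⟨(g.residueFieldMap y).hom.injective, ?_⟩
  intro z
  obtain ⟨t, rfl⟩ := Y.residue_surjective y z
  obtain ⟨t', rfl⟩ := g.stalkMap_surjective y t
  refine ⟨X.residue (g.base y) t', ?_⟩
  exact congrArg (fun φ => φ.hom t') (Scheme.residue_residueFieldMap g y)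

theorem residueDegree_comp {X Y S : Scheme.{u}} (g : Y ⟶ X) [IsPreimmersion g] (f : X ⟶ S)
    (y : Y) :
    EGA4loc.residueDegree (g ≫ f) y = EGA4loc.residueDegree f (g.base y) := by
  letI a1 : Algebra (S.residueField (f.base (g.base y))) (X.residueField (g.base y)) :=
    (f.residueFieldMap (g.base y)).hom.toAlgebra
  letI a2 : Algebra (S.residueField (f.base (g.base y))) (Y.residueField y) :=
    ((g ≫ f).residueFieldMap y).hom.toAlgebra
  show Module.finrank (S.residueField (f.base (g.base y))) (Y.residueField y) =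
    Module.finrank (S.residueField (f.base (g.base y))) (X.residueField (g.base y))
  symm
  refine Algebra.finrank_eq_of_equiv_equiv (RingEquiv.refl _)
    (RingEquiv.ofBijective (g.residueFieldMap y).hom (residueFieldMap_bijective g y)) ?_
  refine RingHom.ext fun a => ?_
  exact congrArg (fun φ => φ.hom a) (Scheme.residueFieldMap_comp g f y)

theorem isClosed_singleton_iff_of_immersion {k : Type u} [Field k] {X Y : Scheme.{u}}
    (f : X ⟶ Spec (CommRingCat.of k)) [LocallyOfFiniteType f] (g : Y ⟶ X) [IsImmersion g]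
    (y : Y) :
    IsClosed ({y} : Set Y) ↔ IsClosed ({g.base y} : Set X) := by
  haveI : JacobsonSpace X := LocallyOfFiniteType.jacobsonSpace f
  constructor
  · intro h
    exact g.closePoints_subset_preimage_closedPoints h
  · intro h
    have h1 : ({y} : Set Y) = g.base ⁻¹' {g.base y} := by
      ext z
      simp only [Set.mem_singleton_iff, Set.mem_preimage]
      exact ⟨fun hz => by rw [hz], fun hz => g.isEmbedding.injective hz⟩
    rw [h1]
    exact h.preimage g.continuous

section Additive

variable {k : Type u} [Field k] [Finite k] {X : Scheme.{u}}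
    (f : X ⟶ Spec (CommRingCat.of k)) [LocallyOfFiniteType f] [QuasiCompact f]
    {ι : Type*} [Fintype ι] (Y : ι → Scheme.{u}) (g : ∀ i, Y i ⟶ X) [∀ i, IsImmersion (g i)]

abbrev TX (e : ℕ) : Type u :=
  {x : X // IsClosed ({x} : Set X) ∧ EGA4loc.residueDegree f x = e}

abbrev TY (e : ℕ) (i : ι) : Type u :=
  {y : Y i // IsClosed ({y} : Set (Y i)) ∧ EGA4loc.residueDegree (g i ≫ f) y = e}

noncomputable def Φ (e : ℕ) : (Σ i, TY f Y g e i) → TX f e := fun p =>
  ⟨(g p.1).base p.2.1, (isClosed_singleton_iff_of_immersion f (g p.1) p.2.1).mp p.2.2.1,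
    (residueDegree_comp (g p.1) f p.2.1).symm.trans p.2.2.2⟩

theorem Φ_injective (hpart : ∀ x : X, IsClosed ({x} : Set X) → ∃! i, x ∈ Set.range (g i).base)
    (e : ℕ) : Function.Injective (Φ f Y g e) := by
  rintro ⟨i, y⟩ ⟨j, y'⟩ h
  have h0 : (g i).base y.1 = (g j).base y'.1 := congrArg Subtype.val h
  have hcl : IsClosed ({(g i).base y.1} : Set X) :=
    (isClosed_singleton_iff_of_immersion f (g i) y.1).mp y.2.1
  have hij : i = j := (hpart _ hcl).unique ⟨y.1, rfl⟩ ⟨y'.1, h0.symm⟩
  subst hij
  have h2 : y.1 = y'.1 := (g i).isEmbedding.injective h0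
  have h3 : y = y' := Subtype.ext h2
  rw [h3]

theorem Φ_surjective (hpart : ∀ x : X, IsClosed ({x} : Set X) → ∃! i, x ∈ Set.range (g i).base)
    (e : ℕ) : Function.Surjective (Φ f Y g e) := by
  rintro ⟨x, hx, hd⟩
  obtain ⟨i, ⟨y, rfl⟩, -⟩ := hpart x hx
  exact ⟨⟨i, ⟨y, (isClosed_singleton_iff_of_immersion f (g i) y).mpr hx,
    (residueDegree_comp (g i) f y).trans hd⟩⟩, rfl⟩

theorem degCount_sum (hpart : ∀ x : X, IsClosed ({x} : Set X) → ∃! i, x ∈ Set.range (g i).base)
    (e : ℕ) (he : 1 ≤ e) : Zeta.degCount f e = ∑ i, Zeta.degCount (g i ≫ f) e := by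
  haveI hfinX : Finite (TX f e) :=
    ((finite_deg_pts f e he).subset
      (t := {x : X | IsClosed ({x} : Set X) ∧ EGA4loc.residueDegree f x = e})
      (fun x hx => hx.2)).to_subtype
  let E : (Σ i, TY f Y g e i) ≃ TX f e :=
    Equiv.ofBijective (Φ f Y g e) ⟨Φ_injective f Y g hpart e, Φ_surjective f Y g hpart e⟩
  haveI : Finite (Σ i, TY f Y g e i) := Finite.of_equiv _ E.symm
  haveI : ∀ i, Finite (TY f Y g e i) := fun i =>
    Finite.of_injective (Sigma.mk i : TY f Y g e i → Σ i, TY f Y g e i) sigma_mk_injective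
  calc Zeta.degCount f e = Nat.card (TX f e) := rfl
    _ = Nat.card (Σ i, TY f Y g e i) := (Nat.card_congr E).symm
    _ = ∑ i, Nat.card (TY f Y g e i) := Nat.card_sigma
    _ = ∑ i, Zeta.degCount (g i ≫ f) e := rfl

theorem nPts_sum (hpart : ∀ x : X, IsClosed ({x} : Set X) → ∃! i, x ∈ Set.range (g i).base)
    (m : ℕ) : Zeta.nPts f m = ∑ i, Zeta.nPts (g i ≫ f) m := by
  calc Zeta.nPts f m = ∑ e ∈ m.divisors, e * Zeta.degCount f e := rfl
    _ = ∑ e ∈ m.divisors, ∑ i, e * Zeta.degCount (g i ≫ f) e :=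
        Finset.sum_congr rfl fun e he => by
          rw [degCount_sum f Y g hpart e (Nat.pos_of_mem_divisors he), Finset.mul_sum]
    _ = ∑ i, ∑ e ∈ m.divisors, e * Zeta.degCount (g i ≫ f) e := Finset.sum_comm
    _ = ∑ i, Zeta.nPts (g i ≫ f) m := rfl

theorem logZeta_sum (hpart : ∀ x : X, IsClosed ({x} : Set X) → ∃! i, x ∈ Set.range (g i).base) :
    Zeta.logZeta f = ∑ i, Zeta.logZeta (g i ≫ f) := by
  ext m
  rw [map_sum]
  simp only [Zeta.logZeta, PowerSeries.coeff_mk]
  rw [nPts_sum f Y g hpart m, Nat.cast_sum, Finset.sum_div]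

end Additive

theorem constantCoeff_logZeta {k : Type u} [Field k] {X : Scheme.{u}}
    (f : X ⟶ Spec (CommRingCat.of k)) : PowerSeries.constantCoeff (Zeta.logZeta f) = 0 := by
  rw [← PowerSeries.coeff_zero_eq_constantCoeff_apply, Zeta.logZeta, PowerSeries.coeff_mk]
  simp

/-! ### C: exponential of a sum -/

section Exp
open PowerSeries

theorem exp_subst_add {L1 L2 : PowerSeries ℚ} (h1 : constantCoeff L1 = 0)
    (h2 : constantCoeff L2 = 0) :
    subst (L1 + L2) (exp ℚ) = subst L1 (exp ℚ) * subst L2 (exp ℚ) := by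
  have h12 : constantCoeff (L1 + L2) = 0 := by rw [map_add, h1, h2, add_zero]
  refine Groth.Agent.ZetaPS.ode_unique (D := derivative ℚ (L1 + L2))
    (Groth.Agent.ZetaPS.derivative_exp_subst h12) ?_ ?_
  · rw [Derivation.leibniz, Groth.Agent.ZetaPS.derivative_exp_subst h1,
      Groth.Agent.ZetaPS.derivative_exp_subst h2, map_add]
    simp only [smul_eq_mul]
    ring
  · rw [map_mul, Groth.Agent.ZetaPS.constantCoeff_exp_subst h12,
      Groth.Agent.ZetaPS.constantCoeff_exp_subst h1,
      Groth.Agent.ZetaPS.constantCoeff_exp_subst h2, mul_one]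

theorem exp_subst_zero : subst (0 : PowerSeries ℚ) (exp ℚ) = 1 := by
  have h0 : constantCoeff (0 : PowerSeries ℚ) = 0 := map_zero _
  refine Groth.Agent.ZetaPS.ode_unique (D := 0) ?_ ?_ ?_
  · rw [Groth.Agent.ZetaPS.derivative_exp_subst h0, map_zero]
  · rw [mul_zero]; exact derivative_one
  · rw [Groth.Agent.ZetaPS.constantCoeff_exp_subst h0, map_one]

theorem exp_subst_sum {ι : Type*} (s : Finset ι) (L : ι → PowerSeries ℚ)
    (hL : ∀ i, constantCoeff (L i) = 0) :
    subst (∑ i ∈ s, L i) (exp ℚ) = ∏ i ∈ s, subst (L i) (exp ℚ) := by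
  classical
  induction s using Finset.induction_on with
  | empty => rw [Finset.sum_empty, Finset.prod_empty]; exact exp_subst_zero
  | insert j s hj ih =>
    have hs : constantCoeff (∑ i ∈ s, L i) = 0 := by
      rw [map_sum]; exact Finset.sum_eq_zero fun i _ => hL i
    rw [Finset.sum_insert hj, Finset.prod_insert hj, exp_subst_add (hL j) hs, ih]

end Exp

/-! ### main results -/

theorem main14459 {k : Type u} [Field k] [Finite k] {X : Scheme.{u}}
    (f : X ⟶ Spec (CommRingCat.of k)) [LocallyOfFiniteType f] [QuasiCompact f]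
    {ι : Type*} [Fintype ι] (Y : ι → Scheme.{u}) (g : ∀ i, Y i ⟶ X) [∀ i, IsImmersion (g i)]
    (hpart : ∀ x : X, IsClosed ({x} : Set X) → ∃! i, x ∈ Set.range (g i).base) :
    Zeta.zetaFun f = ∏ i, Zeta.zetaFun (g i ≫ f) := by
  unfold Zeta.zetaFun
  rw [logZeta_sum f Y g hpart]
  exact exp_subst_sum Finset.univ _ (fun i => constantCoeff_logZeta (g i ≫ f))

theorem main13052 {k : Type u} [Field k] [Finite k]
    {X Y : Scheme.{u}} (f : X ⟶ Spec (CommRingCat.of k)) [LocallyOfFiniteType f] [QuasiCompact f]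
    (U : X.Opens) (i : Y ⟶ X) [IsClosedImmersion i] (hY : Set.range i.base = (U : Set X)ᶜ) :
    Zeta.zetaFun f = Zeta.zetaFun (i ≫ f) * Zeta.zetaFun (U.ι ≫ f) := by
  let Y' : Bool → Scheme.{u} := fun b => match b with
    | true => Y
    | false => U
  let g' : ∀ b, Y' b ⟶ X := fun b => match b with
    | true => i
    | false => U.ι
  haveI : ∀ b, IsImmersion (g' b) := fun b => by
    cases b
    · exact inferInstanceAs (IsImmersion U.ι)
    · exact inferInstanceAs (IsImmersion i)
  have hU : Set.range (U.ι).base = (U : Set X) := U.range_ι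
  have hpart : ∀ x : X, IsClosed ({x} : Set X) → ∃! b, x ∈ Set.range (g' b).base := by
    intro x _
    by_cases hx : x ∈ U
    · refine ⟨false, ?_, ?_⟩
      · show x ∈ Set.range (U.ι).base
        rw [hU]; exact hx
      · intro b hb
        cases b
        · rfl
        · exfalso
          have h1 : x ∈ Set.range i.base := hb
          rw [hY] at h1
          exact h1 hx
    · refine ⟨true, ?_, ?_⟩
      · show x ∈ Set.range i.base
        rw [hY]; exact hx
      · intro b hb
        cases b
        · exfalso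
          have h1 : x ∈ Set.range (U.ι).base := hb
          rw [hU] at h1
          exact hx h1
        · rfl
  have h := main14459 f Y' g' hpart
  rw [Fintype.prod_bool] at h
  exact h

end Groth.Agent.Lib.ZetaFinH4
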