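import Mathlib
import Groth.Prelude.Def_FinFr
import Groth.Agent.Lib.FrobFix_helper4
import Groth.Agent.Lib.ZetaFin_helper4

set_option autoImplicit false
set_option linter.style.haveILetI false
set_option linter.unusedSectionVars false

universe u

open scoped TensorProduct
open CategoryTheory CategoryTheory.Limits AlgebraicGeometry

namespace Groth.Agent.Lib.FrobFixFinH4

open Groth.Agent.Lib.GalActH4 Groth.Agent.Lib.FrobDescendH4 Groth.Agent.Lib.FrobFixH4

local notation:max "sm[" k ", " K "]" => Spec.map (CommRingCat.ofHom (algebraMap k K))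

/-- If the point `Spec κ(z) ⟶ T ⟶ X` is fixed by the `q`-Frobenius `FX`, then every element of
the residue field of `X` at the image of `z` satisfies `w ^ q = w`. -/
theorem pow_eq_of_comp_frob {X T : Scheme.{u}} (FX : X ⟶ X) (q : ℕ)
    (hle : ∀ U : X.Opens, U ≤ FX ⁻¹ᵁ U)
    (hFapp : ∀ (U : X.Opens) (s : Γ(X, U)), (FX.appLE U U (hle U)).hom s = s ^ q)
    (h : T ⟶ X) (z : T) (fr : ↑(T.residueField z) →+* ↑(T.residueField z))
    (hfr : ∀ x, fr x = x ^ q)
    (hfix : (T.fromSpecResidueField z ≫ h) ≫ FX = T.fromSpecResidueField z ≫ h)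
    (w : X.residueField (h.base z)) : w ^ q = w := by
  obtain ⟨U, hU, hxU, -⟩ := (TopologicalSpace.Opens.isBasis_iff_nbhd.mp X.isBasis_affineOpens)
    (show h.base z ∈ (⊤ : X.Opens) from trivial)
  have hU' : IsAffineOpen U := hU
  have hrange : Set.range (T.fromSpecResidueField z ≫ h) ⊆ (U : Set X) := by
    rintro _ ⟨c, rfl⟩
    show h.base ((T.fromSpecResidueField z).base c) ∈ U
    have hc : (T.fromSpecResidueField z).base c = z := Scheme.fromSpecResidueField_apply z c
    rw [hc]
    exact hxU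
  have hnat : (T.fromSpecResidueField z ≫ h) ≫ FX =
      Spec.map (CommRingCat.ofHom fr) ≫ (T.fromSpecResidueField z ≫ h) :=
    frob_nat' FX q hle hFapp ↑(T.residueField z) fr hfr (T.fromSpecResidueField z ≫ h) U hU' hrange
  have hfac : Spec.map (h.residueFieldMap z) ≫ X.fromSpecResidueField (h.base z) =
      T.fromSpecResidueField z ≫ h := Scheme.Hom.SpecMap_residueFieldMap_fromSpecResidueField h z
  have h1 : Spec.map (h.residueFieldMap z ≫ CommRingCat.ofHom fr) ≫
      X.fromSpecResidueField (h.base z) =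
      Spec.map (h.residueFieldMap z) ≫ X.fromSpecResidueField (h.base z) := by
    calc Spec.map (h.residueFieldMap z ≫ CommRingCat.ofHom fr) ≫
          X.fromSpecResidueField (h.base z)
        = (Spec.map (CommRingCat.ofHom fr) ≫ Spec.map (h.residueFieldMap z)) ≫
          X.fromSpecResidueField (h.base z) := by rw [Spec.map_comp]; rfl
      _ = Spec.map (CommRingCat.ofHom fr) ≫ (Spec.map (h.residueFieldMap z) ≫
          X.fromSpecResidueField (h.base z)) := Category.assoc _ _ _
      _ = Spec.map (CommRingCat.ofHom fr) ≫ (T.fromSpecResidueField z ≫ h) := by rw [hfac]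
      _ = (T.fromSpecResidueField z ≫ h) ≫ FX := hnat.symm
      _ = T.fromSpecResidueField z ≫ h := hfix
      _ = Spec.map (h.residueFieldMap z) ≫ X.fromSpecResidueField (h.base z) := hfac.symm
  have h2 : Spec.map (h.residueFieldMap z ≫ CommRingCat.ofHom fr) =
      Spec.map (h.residueFieldMap z) := (cancel_mono _).mp h1
  have h3 : h.residueFieldMap z ≫ CommRingCat.ofHom fr = h.residueFieldMap z :=
    Spec.map_injective h2
  have h4 : fr ((h.residueFieldMap z).hom w) = (h.residueFieldMap z).hom w :=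
    congrArg (fun t : X.residueField (h.base z) ⟶ T.residueField z => t.hom w) h3
  rw [hfr, ← map_pow] at h4
  exact (h.residueFieldMap z).hom.injective h4

section Core

variable {k : Type u} [Field k] [Fintype k] {X : Scheme.{u}} (f : X ⟶ Spec (CommRingCat.of k))
  (K : Type u) [Field K] [Algebra k K] [Algebra.IsAlgebraic k K]
  (FX : X ⟶ X) (hle : ∀ U : X.Opens, U ≤ FX ⁻¹ᵁ U)
  (hFapp : ∀ (U : X.Opens) (s : Γ(X, U)), (FX.appLE U U (hle U)).hom s = s ^ Fintype.card k)
  (F : pullback f sm[k, K] ⟶ pullback f sm[k, K])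
  (hF1 : F ≫ pullback.fst f sm[k, K] = pullback.fst f sm[k, K] ≫ FX)
  (hF2 : F ≫ pullback.snd f sm[k, K] = pullback.snd f sm[k, K])

local notation "Φ" => FiniteField.frobeniusAlgEquivOfAlgebraic k K

include hFapp hF1 hF2 in
theorem gAct_fixed (w : ↥(pullback f sm[k, K])) (hw : F.base w = w) (σ : K ≃ₐ[k] K) :
    (gAct f K σ).base w = w := by
  have hΦw : (gAct f K Φ⁻¹).base w = w :=
    (F_eq_gAct f K FX hle hFapp F hF1 hF2 w).symm.trans hw
  have hΦ : ∀ z ∈ closure ({w} : Set ↥(pullback f sm[k, K])),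
      (gAct f K Φ⁻¹).base z ∈ closure ({w} : Set ↥(pullback f sm[k, K])) := by
    intro z hz
    refine map_mem_closure (gAct f K Φ⁻¹).continuous hz ?_
    intro t ht
    rw [Set.mem_singleton_iff] at ht
    subst ht
    exact hΦw
  have h1 : ∀ τ : K ≃ₐ[k] K, w ⤳ (gAct f K τ).base w := fun τ =>
    specializes_iff_mem_closure.mpr
      (stable_all f K _ isClosed_closure hΦ τ w (subset_closure rfl))
  have h3 : (gAct f K σ).base w ⤳ (gAct f K σ).base ((gAct f K σ⁻¹).base w) :=
    (h1 σ⁻¹).map (gAct f K σ).continuous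
  have h4 : (gAct f K σ).base ((gAct f K σ⁻¹).base w) = w := gAct_inv_apply f K σ w
  rw [h4] at h3
  exact (h3.antisymm (h1 σ)).eq

include hFapp hF1 in
theorem psi_injective [IsGalois k K] (z₁ z₂ : ↥(Fix (pullback.snd f sm[k, K]) F hF2))
    (h : (pullback.fst f sm[k, K]).base ((pr (pullback.snd f sm[k, K]) F hF2).base z₁) =
      (pullback.fst f sm[k, K]).base ((pr (pullback.snd f sm[k, K]) F hF2).base z₂)) :
    z₁ = z₂ := by
  obtain ⟨σ, hσ⟩ := exists_gAct_eq f K _ _ h
  have hw : F.base ((pr (pullback.snd f sm[k, K]) F hF2).base z₁) =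
      (pr (pullback.snd f sm[k, K]) F hF2).base z₁ :=
    congrArg (fun ψ : Fix (pullback.snd f sm[k, K]) F hF2 ⟶ pullback f sm[k, K] => ψ.base z₁)
      (pr_F (pullback.snd f sm[k, K]) F hF2)
  have h1 := gAct_fixed f K FX hle hFapp F hF1 hF2 _ hw σ
  have h2 : (pr (pullback.snd f sm[k, K]) F hF2).base z₁ =
      (pr (pullback.snd f sm[k, K]) F hF2).base z₂ := h1.symm.trans hσ
  exact (pr (pullback.snd f sm[k, K]) F hF2).injective h2

include hFapp hF1 in
theorem pow_eq_of_fix (z : ↥(Fix (pullback.snd f sm[k, K]) F hF2))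
    (w : X.residueField
      ((pr (pullback.snd f sm[k, K]) F hF2 ≫ pullback.fst f sm[k, K]).base z)) :
    w ^ Fintype.card k = w := by
  let β : CommRingCat.of K ⟶
      CommRingCat.of ↑((Fix (pullback.snd f sm[k, K]) F hF2).residueField z) :=
    Spec.preimage
      (((Fix (pullback.snd f sm[k, K]) F hF2).fromSpecResidueField z ≫
        pr (pullback.snd f sm[k, K]) F hF2) ≫ pullback.snd f sm[k, K])
  letI : Algebra K ↑((Fix (pullback.snd f sm[k, K]) F hF2).residueField z) := β.hom.toAlgebra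
  letI : Algebra k ↑((Fix (pullback.snd f sm[k, K]) F hF2).residueField z) :=
    ((algebraMap K ↑((Fix (pullback.snd f sm[k, K]) F hF2).residueField z)).comp
      (algebraMap k K)).toAlgebra
  let fr : ↑((Fix (pullback.snd f sm[k, K]) F hF2).residueField z) →+*
      ↑((Fix (pullback.snd f sm[k, K]) F hF2).residueField z) :=
    (FiniteField.frobeniusAlgHom k
      ↑((Fix (pullback.snd f sm[k, K]) F hF2).residueField z)).toRingHom
  have hfr : ∀ x, fr x = x ^ Fintype.card k := fun x =>
    congrFun (FiniteField.coe_frobeniusAlgHom k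
      ↑((Fix (pullback.snd f sm[k, K]) F hF2).residueField z)) x
  refine pow_eq_of_comp_frob FX (Fintype.card k) hle hFapp
    (pr (pullback.snd f sm[k, K]) F hF2 ≫ pullback.fst f sm[k, K]) z fr hfr ?_ w
  calc ((Fix (pullback.snd f sm[k, K]) F hF2).fromSpecResidueField z ≫
        (pr (pullback.snd f sm[k, K]) F hF2 ≫ pullback.fst f sm[k, K])) ≫ FX
      = (Fix (pullback.snd f sm[k, K]) F hF2).fromSpecResidueField z ≫
        (pr (pullback.snd f sm[k, K]) F hF2 ≫ (pullback.fst f sm[k, K] ≫ FX)) := by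
        simp only [Category.assoc]
    _ = (Fix (pullback.snd f sm[k, K]) F hF2).fromSpecResidueField z ≫
        (pr (pullback.snd f sm[k, K]) F hF2 ≫ (F ≫ pullback.fst f sm[k, K])) := by rw [hF1]
    _ = (Fix (pullback.snd f sm[k, K]) F hF2).fromSpecResidueField z ≫
        ((pr (pullback.snd f sm[k, K]) F hF2 ≫ F) ≫ pullback.fst f sm[k, K]) := by
        simp only [Category.assoc]
    _ = (Fix (pullback.snd f sm[k, K]) F hF2).fromSpecResidueField z ≫
        (pr (pullback.snd f sm[k, K]) F hF2 ≫ pullback.fst f sm[k, K]) := by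
        rw [pr_F (pullback.snd f sm[k, K]) F hF2]

include hFapp hF1 in
theorem fix_finite [IsGalois k K] [LocallyOfFiniteType f] [QuasiCompact f] :
    Finite ↥(Fix (pullback.snd f sm[k, K]) F hF2) := by
  have hq : 2 ≤ Fintype.card k := Fintype.one_lt_card
  have hfin := Groth.Agent.Lib.ZetaFinH4.finite_pts_of_pow f (Fintype.card k) hq
  haveI : Finite ↥{x : X | ∀ y : X.residueField x, y ^ Fintype.card k = y} := hfin.to_subtype
  refine Finite.of_injective (fun z : ↥(Fix (pullback.snd f sm[k, K]) F hF2) =>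
    (⟨(pr (pullback.snd f sm[k, K]) F hF2 ≫ pullback.fst f sm[k, K]).base z,
      fun w => pow_eq_of_fix f K FX hle hFapp F hF1 hF2 z w⟩ :
      ↥{x : X | ∀ y : X.residueField x, y ^ Fintype.card k = y})) ?_
  intro z₁ z₂ h
  exact psi_injective f K FX hle hFapp F hF1 hF2 z₁ z₂ (congrArg Subtype.val h)

end Core

theorem main14550 {k : Type u} [Field k] [Finite k]
    {X : Scheme.{u}} (f : X ⟶ Spec (CommRingCat.of k)) [LocallyOfFiniteType f] [QuasiCompact f]
    (FX : X ⟶ X) (hle : ∀ U : X.Opens, U ≤ FX ⁻¹ᵁ U)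
    (hFapp : ∀ (U : X.Opens) (s : Γ(X, U)), (FX.appLE U U (hle U)).hom s = s ^ Nat.card k)
    (F : FinFr.ext (AlgebraicClosure k) f ⟶ FinFr.ext (AlgebraicClosure k) f)
    (hF1 : F ≫ FinFr.extπ (AlgebraicClosure k) f = FinFr.extπ (AlgebraicClosure k) f ≫ FX)
    (hF2 : F ≫ FinFr.extStr (AlgebraicClosure k) f = FinFr.extStr (AlgebraicClosure k) f) :
    IsReduced (FinFr.fixScheme (FinFr.extStr (AlgebraicClosure k) f) F hF2) ∧
      Finite ↥(FinFr.fixScheme (FinFr.extStr (AlgebraicClosure k) f) F hF2) := by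
  refine ⟨main13067 f FX hle hFapp F hF1 hF2, ?_⟩
  haveI := Fintype.ofFinite k
  have hq : Nat.card k = Fintype.card k := Nat.card_eq_fintype_card
  have hFapp' : ∀ (U : X.Opens) (s : Γ(X, U)),
      (FX.appLE U U (hle U)).hom s = s ^ Fintype.card k :=
    fun U s => (hFapp U s).trans (by rw [hq])
  haveI : IsGalois k (AlgebraicClosure k) := ⟨⟩
  exact fix_finite f (AlgebraicClosure k) FX hle hFapp' F hF1 hF2

end Groth.Agent.Lib.FrobFixFinH4
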