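import Mathlib

/-!
# Fixed vectors of a `p⁻¹`-linear map with a fixed basis (helper1)
-/

set_option autoImplicit false

namespace Groth.Agent.Lib.FrobFixedH1

universe u v w

theorem S15505 (p : ℕ) [Fact p.Prime]
    (k : Type u) [Field k] [CharP k p] [IsAlgClosed k]
    (V : Type v) [AddCommGroup V] [Module k V]
    (φ : V →ₛₗ[((frobeniusEquiv k p).symm : k →+* k)] V)
    {ι : Type w} [Fintype ι] (b : Module.Basis ι k V) (hb : ∀ i, φ (b i) = b i) (v : V) :
    φ v = v ↔ ∃ c : ι → ZMod p, v = ∑ i, (ZMod.castHom (dvd_refl p) k (c i)) • b i := by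
  classical
  have hφ : ∀ a : ι → k, φ (∑ i, a i • b i) = ∑ i, ((frobeniusEquiv k p).symm (a i)) • b i := by
    intro a
    rw [map_sum]
    refine Finset.sum_congr rfl (fun i _ => ?_)
    rw [map_smulₛₗ, hb]
    rfl
  constructor
  · intro hv
    have hv' := hv
    rw [← b.sum_repr v, hφ] at hv'
    have hcoef : ∀ i, (frobeniusEquiv k p).symm (b.repr v i) = b.repr v i := by
      intro i
      have h1 := congrArg (fun w => b.repr w i) hv'
      simp only [map_sum, map_smul, Module.Basis.repr_self, Finsupp.smul_single, smul_eq_mul,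
        mul_one, Finsupp.coe_finset_sum, Finset.sum_apply, Finsupp.single_apply,
        Finset.sum_ite_eq', Finset.mem_univ, if_true] at h1
      exact h1
    have hpow : ∀ i, b.repr v i ^ p = b.repr v i := by
      intro i
      have := frobeniusEquiv_symm_pow_p k p (b.repr v i)
      rw [hcoef i] at this
      exact this
    have hmem : ∀ i, ∃ n : ℤ, (n : k) = b.repr v i := fun i =>
      (mem_bot_iff_intCast p k).mp ((Subfield.mem_bot_iff_pow_eq_self k p).mpr (hpow i))
    choose n hn using hmem
    refine ⟨fun i => (n i : ZMod p), ?_⟩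
    conv_lhs => rw [← b.sum_repr v]
    refine Finset.sum_congr rfl (fun i _ => ?_)
    rw [map_intCast, hn]
  · rintro ⟨c, rfl⟩
    rw [hφ]
    refine Finset.sum_congr rfl (fun i _ => ?_)
    congr 1
    have h1 : (ZMod.castHom (dvd_refl p) k (c i)) ^ p = ZMod.castHom (dvd_refl p) k (c i) := by
      rw [← map_pow, ZMod.pow_card]
    conv_lhs => rw [← h1]
    exact frobeniusEquiv_symm_pow k p _

end Groth.Agent.Lib.FrobFixedH1
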