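import Mathlib
import Groth.Prelude.Def_FrobAlg
import Groth.Agent.Lib.FrobSm2_helper8

set_option autoImplicit false
universe u v

namespace FrobSmH8

open TensorProduct FrobAlg

attribute [local instance] Algebra.TensorProduct.rightAlgebra in
/-- A commutative square with flat top, étale sides: the bottom is flat. -/
theorem flat_of_square {R S R' S' : Type u} [CommRing R] [CommRing S] [CommRing R'] [CommRing S']
    (f : R →+* S) (m : R →+* R') (g : S →+* S') (f' : R' →+* S')
    (hcomm : f'.comp m = g.comp f) (hf : f.Flat) (hm : m.Etale) (hg : g.Etale) : f'.Flat := by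
  letI := f.toAlgebra
  letI := m.toAlgebra
  letI := g.toAlgebra
  letI := f'.toAlgebra
  letI : Algebra R S' := (g.comp f).toAlgebra
  haveI : IsScalarTower R S S' := .of_algebraMap_eq' rfl
  haveI : IsScalarTower R R' S' := .of_algebraMap_eq' hcomm.symm
  haveI : Algebra.Etale R R' := hm
  haveI : Algebra.Etale S S' := hg
  haveI : Algebra.Etale S (S ⊗[R] R') := inferInstance
  have hflat : (algebraMap R' (S ⊗[R] R')).Flat :=
    RingHom.Flat.isStableUnderBaseChange R S R' (S ⊗[R] R') hf
  let π : S ⊗[R] R' →ₐ[S] S' :=
    Algebra.TensorProduct.lift (Algebra.ofId S S') (IsScalarTower.toAlgHom R R' S')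
      (fun _ _ => Commute.all _ _)
  have hπ : π.toRingHom.Flat := by
    letI := π.toRingHom.toAlgebra
    haveI : IsScalarTower S (S ⊗[R] R') S' := .of_algebraMap_eq' (by
      ext x
      exact (π.commutes x).symm)
    haveI : Algebra.Etale (S ⊗[R] R') S' := Algebra.Etale.of_restrictScalars S (S ⊗[R] R') S'
    show Module.Flat (S ⊗[R] R') S'
    infer_instance
  have : f' = π.toRingHom.comp (algebraMap R' (S ⊗[R] R')) := by
    ext x
    show f' x = π ((1 : S) ⊗ₜ[R] x)
    simp only [π, Algebra.TensorProduct.lift_tmul, map_one, one_mul]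
    rfl
  rw [this]
  exact RingHom.Flat.comp hflat hπ

/-- Base change of a ring-hom property along `- ⊗[A] T`. -/
theorem map_of_isStableUnderBaseChange
    {P : ∀ {R S : Type u} [CommRing R] [CommRing S], (R →+* S) → Prop}
    (hP : RingHom.IsStableUnderBaseChange @P) (A B C T : Type u) [CommRing A] [CommRing B]
    [CommRing C] [CommRing T] [Algebra A B] [Algebra A C] [Algebra B C] [IsScalarTower A B C]
    [Algebra A T] (h : P (algebraMap B C)) :
    P (Algebra.TensorProduct.map (IsScalarTower.toAlgHom A B C) (AlgHom.id A T)).toRingHom := by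
  letI : Algebra (B ⊗[A] T) (C ⊗[A] T) :=
    (Algebra.TensorProduct.map (IsScalarTower.toAlgHom A B C) (AlgHom.id A T)).toRingHom.toAlgebra
  haveI : IsScalarTower B (B ⊗[A] T) (C ⊗[A] T) := .of_algebraMap_eq' (by
    ext b
    simp [RingHom.algebraMap_toAlgebra])
  haveI hpo : Algebra.IsPushout B C (B ⊗[A] T) (C ⊗[A] T) :=
    Algebra.IsPushout.tensorProduct_tensorProduct A T B C (by
      ext
      simp [RingHom.algebraMap_toAlgebra])
  exact hP B C (B ⊗[A] T) (C ⊗[A] T) h

section

variable (p : ℕ) [Fact p.Prime] (A : Type u) [CommRing A] [CharP A p]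

/-- Naturality of the relative Frobenius (universe-polymorphic version). -/
theorem relFrob_map' {C : Type v} {D : Type*} [CommRing C] [Algebra A C] [CharP C p] [CommRing D]
    [Algebra A D] [CharP D p] (φ : C →ₐ[A] D) (y : BaseChange p A C) :
    relFrob p A D (Algebra.TensorProduct.map φ (AlgHom.id A (Twist p A)) y) =
      φ (relFrob p A C y) := by
  induction y using TensorProduct.induction_on with
  | zero => simp
  | add x y hx hy => rw [map_add, map_add, hx, hy, map_add, map_add]
  | tmul c a =>
    rw [Algebra.TensorProduct.map_tmul, relFrob_tmul', relFrob_tmul', map_mul, map_pow,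
      AlgHom.commutes]
    rfl

/-- If `C` is étale over `P` and the relative Frobenius of `P/A` is flat, so is that of `C/A`. -/
theorem relFrob_flat_of_etale (P C : Type u) [CommRing P] [CommRing C] [Algebra A P] [Algebra A C]
    [Algebra P C] [IsScalarTower A P C] [CharP P p] [CharP C p] [Algebra.Etale P C]
    (h : (relFrob p A P).Flat) : (relFrob p A C).Flat := by
  refine flat_of_square (relFrob p A P)
    (Algebra.TensorProduct.map (IsScalarTower.toAlgHom A P C) (AlgHom.id A (Twist p A))).toRingHom
    (algebraMap P C) (relFrob p A C) ?_ h ?_ (RingHom.etale_algebraMap.mpr inferInstance)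
  · refine RingHom.ext fun y => ?_
    exact relFrob_map' p A (IsScalarTower.toAlgHom A P C) y
  · exact map_of_isStableUnderBaseChange RingHom.Etale.isStableUnderBaseChange A P C (Twist p A)
      (RingHom.etale_algebraMap.mpr inferInstance)

theorem relFrob_flat_of_etale_mvPolynomial (n : ℕ) (C : Type u) [CommRing C] [Algebra A C]
    [Algebra (MvPolynomial (Fin n) A) C] [IsScalarTower A (MvPolynomial (Fin n) A) C]
    [CharP C p] [Algebra.Etale (MvPolynomial (Fin n) A) C] : (relFrob p A C).Flat :=
  relFrob_flat_of_etale p A (MvPolynomial (Fin n) A) C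
    (isFreeOn_relFrob_mvPolynomial p A (Fin n)).flat

end

end FrobSmH8
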