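import Mathlib
import Groth.Prelude.Def_FrobAlg
import Groth.Agent.Lib.FrobSm3_helper8

set_option autoImplicit false
universe u v

namespace FrobSmH8

open TensorProduct FrobAlg

theorem charP_of_algebra' (p : ℕ) (hp : p.Prime) (A : Type*) [CommRing A] [CharP A p]
    (D : Type*) [CommRing D] [Algebra A D] [Nontrivial D] : CharP D p := by
  rw [CharP.charP_iff_prime_eq_zero hp]
  have h0 : ((p : ℕ) : A) = 0 := CharP.cast_eq_zero A p
  have := congrArg (algebraMap A D) h0
  rwa [map_natCast, map_zero] at this

theorem nontrivial_away_of_notMem {B : Type*} [CommRing B] (q : Ideal B) [q.IsPrime] (f : B)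
    (hfq : f ∉ q) : Nontrivial (Localization.Away f) := by
  by_contra hnt
  rw [not_nontrivial_iff_subsingleton] at hnt
  have h10 : algebraMap B (Localization.Away f) 1 = algebraMap B (Localization.Away f) 0 :=
    Subsingleton.elim _ _
  obtain ⟨⟨c, k, rfl⟩, hc⟩ := (IsLocalization.eq_iff_exists (Submonoid.powers f) _).mp h10
  simp only [mul_one, mul_zero] at hc
  exact hfq (Ideal.IsPrime.mem_of_pow_mem inferInstance k (hc ▸ q.zero_mem))

variable (p : ℕ) [Fact p.Prime] (A : Type u) [CommRing A] [CharP A p]

/-- The relative Frobenius of a smooth algebra is flat (single-universe version). -/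
theorem relFrob_flat_of_smooth_aux (B : Type u) [CommRing B] [Algebra A B] [CharP B p]
    [Algebra.Smooth A B] : (relFrob p A B).Flat := by
  have hp : p.Prime := Fact.out
  have key : ∀ q : PrimeSpectrum B, ∃ f ∉ q.asIdeal,
      ((algebraMap B (Localization.Away f)).comp (relFrob p A B)).Flat := by
    intro q
    obtain ⟨f, hfq, n, _, _, hse⟩ :=
      Algebra.IsSmoothAt.exists_isStandardEtale_mvPolynomial (R := A) (p := q.asIdeal)
    refine ⟨f, hfq, ?_⟩
    haveI : Nontrivial (Localization.Away f) := nontrivial_away_of_notMem q.asIdeal f hfq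
    haveI : CharP (Localization.Away f) p := charP_of_algebra' p hp A _
    haveI : Algebra.Etale (MvPolynomial (Fin n) A) (Localization.Away f) := inferInstance
    have h1 := relFrob_flat_of_etale_mvPolynomial p A n (Localization.Away f)
    have h2 : ((Algebra.TensorProduct.map (IsScalarTower.toAlgHom A B (Localization.Away f))
        (AlgHom.id A (Twist p A))).toRingHom).Flat :=
      map_of_isStableUnderBaseChange RingHom.Flat.isStableUnderBaseChange A B _ (Twist p A)
        (RingHom.flat_algebraMap_iff.mpr inferInstance)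
    have : (algebraMap B (Localization.Away f)).comp (relFrob p A B) =
        (relFrob p A (Localization.Away f)).comp
          (Algebra.TensorProduct.map (IsScalarTower.toAlgHom A B (Localization.Away f))
            (AlgHom.id A (Twist p A))).toRingHom :=
      RingHom.ext fun y =>
        (relFrob_map' p A (IsScalarTower.toAlgHom A B (Localization.Away f)) y).symm
    rw [this]
    exact h2.comp h1
  choose f hfq hf using key
  refine RingHom.Flat.ofLocalizationSpanTarget (relFrob p A B) (Set.range f) ?_ ?_
  · by_contra H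
    obtain ⟨m, hm, e⟩ := Ideal.exists_le_maximal _ H
    haveI := hm.isPrime
    exact hfq ⟨m, inferInstance⟩
      (e (Ideal.subset_span (Set.mem_range_self (⟨m, inferInstance⟩ : PrimeSpectrum B))))
  · rintro ⟨_, q, rfl⟩
    exact hf q

/-- The relative Frobenius of a smooth algebra is flat. -/
theorem relFrob_flat_of_smooth (B : Type v) [CommRing B] [Algebra A B] [CharP B p]
    [Algebra.Smooth A B] : (relFrob p A B).Flat := by
  have hp : p.Prime := Fact.out
  obtain ⟨n, f, hf, -⟩ := (Algebra.FinitePresentation.out :
    ∃ n, ∃ f : MvPolynomial (Fin n) A →ₐ[A] B, Function.Surjective f ∧ (RingHom.ker f.toRingHom).FG)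
  let e : (MvPolynomial (Fin n) A ⧸ RingHom.ker f.toRingHom) ≃ₐ[A] B :=
    Ideal.quotientKerAlgEquivOfSurjective hf
  haveI : Nontrivial B := CharP.nontrivial_of_char_ne_one (R := B) hp.ne_one
  haveI : Nontrivial (MvPolynomial (Fin n) A ⧸ RingHom.ker f.toRingHom) := e.toEquiv.nontrivial
  haveI : CharP (MvPolynomial (Fin n) A ⧸ RingHom.ker f.toRingHom) p :=
    charP_of_algebra' p hp A _
  haveI : Algebra.Smooth A (MvPolynomial (Fin n) A ⧸ RingHom.ker f.toRingHom) :=
    Algebra.Smooth.of_equiv e.symm
  have h0 := relFrob_flat_of_smooth_aux p A (MvPolynomial (Fin n) A ⧸ RingHom.ker f.toRingHom)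
  have : relFrob p A B = ((e.toAlgHom.toRingHom).comp
      (relFrob p A (MvPolynomial (Fin n) A ⧸ RingHom.ker f.toRingHom))).comp
      (Algebra.TensorProduct.map e.symm.toAlgHom (AlgHom.id A (Twist p A))).toRingHom := by
    refine RingHom.ext fun y => ?_
    show _ = e (relFrob p A _ (Algebra.TensorProduct.map e.symm.toAlgHom (AlgHom.id A (Twist p A)) y))
    rw [relFrob_map' p A e.symm.toAlgHom y]
    exact (e.apply_symm_apply _).symm
  rw [this]
  refine RingHom.Flat.comp (.of_bijective ?_) (RingHom.Flat.comp h0 (.of_bijective e.bijective))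
  exact (Algebra.TensorProduct.congr e.symm (AlgEquiv.refl : Twist p A ≃ₐ[A] Twist p A)).bijective

end FrobSmH8
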