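import Mathlib
import Groth.Prelude.Def_Frob
import Groth.Prelude.Def_FrobAlg
import Groth.Agent.Lib.FrobSm4_helper8

set_option linter.style.haveILetI false
set_option autoImplicit false

universe u

open CategoryTheory CategoryTheory.Limits AlgebraicGeometry TensorProduct

namespace Groth.Agent.Lib.FrobFlatH5

variable (p : ℕ) [Fact p.Prime]

section Functoriality

variable {X S U V : Scheme.{u}} [FrobSch.IsCharP S p] [FrobSch.IsCharP V p]
  (f : X ⟶ S) (g : U ⟶ V) (j : U ⟶ X) (i : V ⟶ S) (w : g ≫ i = j ≫ f)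

/-- Functoriality of the Frobenius twist in a commutative square. -/
noncomputable def twistMap : FrobSch.frobTwist g p ⟶ FrobSch.frobTwist f p :=
  pullback.map g (FrobSch.frob V p) f (FrobSch.frob S p) j i i w (FrobSch.frob_comp p i)

theorem relFrob_twistMap :
    FrobSch.relFrob g p ≫ twistMap p f g j i w = j ≫ FrobSch.relFrob f p := by
  haveI : FrobSch.IsCharP X p := FrobSch.IsCharP.of_hom f p
  haveI : FrobSch.IsCharP U p := FrobSch.IsCharP.of_hom g p
  apply pullback.hom_ext
  · simp only [twistMap, Category.assoc, pullback.lift_fst, FrobSch.relFrob_fst]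
    rw [FrobSch.relFrob_fst_assoc, FrobSch.frob_comp]
  · simp only [twistMap, Category.assoc, pullback.lift_snd, FrobSch.relFrob_snd]
    rw [FrobSch.relFrob_snd_assoc, w]

instance [IsOpenImmersion j] [IsOpenImmersion i] : IsOpenImmersion (twistMap p f g j i w) := by
  unfold twistMap
  infer_instance

end Functoriality

section Affine

/-- Frobenius of `Spec R` is `Spec` of the `p`-th power map. -/
theorem frob_Spec (R : CommRingCat.{u}) [FrobSch.IsCharP (Spec R) p] (h : (p : R) = 0) :
    FrobSch.frob (Spec R) p = Spec.map (CommRingCat.ofHom (FrobSch.powHom p R h)) := by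
  apply ext_of_isAffine
  ext s
  obtain ⟨r, rfl⟩ : ∃ r, (Scheme.ΓSpecIso R).inv r = s :=
    ⟨(Scheme.ΓSpecIso R).hom s, by simp⟩
  have h1 := congr($(Scheme.ΓSpecIso_inv_naturality (CommRingCat.ofHom (FrobSch.powHom p R h))) r)
  simp only [CommRingCat.comp_apply] at h1
  refine Eq.trans ?_ h1
  change ((Scheme.ΓSpecIso R).inv r) ^ p = (Scheme.ΓSpecIso R).inv (r ^ p)
  rw [map_pow]

theorem natCast_eq_zero_of_isCharP_Spec (A : CommRingCat.{u}) [FrobSch.IsCharP (Spec A) p] :
    (p : A) = 0 := by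
  have h := FrobSch.IsCharP.natCast_eq_zero (X := Spec A) (p := p)
  have h2 := congrArg (Scheme.ΓSpecIso A).hom.hom h
  simpa using h2

theorem isPushout_twist (A B : Type u) [CommRing A] [CommRing B] [Algebra A B] [CharP A p]
    (hA : (p : A) = 0) :
    IsPushout (CommRingCat.ofHom (algebraMap A B)) (CommRingCat.ofHom (FrobSch.powHom p A hA))
      (CommRingCat.ofHom (S := B ⊗[A] FrobAlg.Twist p A)
        Algebra.TensorProduct.includeLeftRingHom)
      (CommRingCat.ofHom (S := B ⊗[A] FrobAlg.Twist p A)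
        ((Algebra.TensorProduct.includeRight (R := A) (A := B)
            (B := FrobAlg.Twist p A)).toRingHom.comp
          (FrobAlg.toTwist p A : A →+* FrobAlg.Twist p A))) := by
  have hpo := CommRingCat.isPushout_tensorProduct A B (FrobAlg.Twist p A)
  refine hpo.of_iso (Iso.refl _) (Iso.refl _) (FrobAlg.toTwist p A).symm.toCommRingCatIso
    (Iso.refl _) ?_ ?_ ?_ ?_
  · simp
  · ext a
    simp [FrobAlg.algebraMap_twist]
  · simp
  · ext a
    simp


theorem flat_relFrob_Spec_aux (A B : Type u) [CommRing A] [CommRing B] [Algebra A B]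
    [CharP A p] [CharP B p] [Algebra.Smooth A B] [FrobSch.IsCharP (Spec (.of A)) p] :
    Flat (FrobSch.relFrob (Spec.map (CommRingCat.ofHom (algebraMap A B))) p) := by
  have hA : (p : A) = 0 := CharP.cast_eq_zero A p
  have hB : (p : B) = 0 := CharP.cast_eq_zero B p
  haveI : FrobSch.IsCharP (Spec (.of B)) p := FrobSch.isCharP_Spec B p
  have hpb := isPullback_SpecMap_of_isPushout _ _ _ _ (isPushout_twist p A B hA)
  rw [← frob_Spec p (.of A) hA] at hpb
  -- the comparison
  have key : Spec.map (CommRingCat.ofHom (FrobAlg.relFrob p A B)) ≫ hpb.isoPullback.hom =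
      FrobSch.relFrob (Spec.map (CommRingCat.ofHom (algebraMap A B))) p := by
    apply pullback.hom_ext
    · rw [Category.assoc, IsPullback.isoPullback_hom_fst, FrobSch.relFrob_fst,
        frob_Spec p (.of B) hB, ← Spec.map_comp]
      congr 1
      ext b
      simp [FrobAlg.relFrob, FrobAlg.frobHom, FrobAlg.toTarget, frobenius_def]
    · rw [Category.assoc, IsPullback.isoPullback_hom_snd, FrobSch.relFrob_snd, ← Spec.map_comp]
      congr 1
      ext a
      simp [FrobAlg.relFrob, FrobAlg.inclHom, FrobAlg.toTarget, FrobAlg.toTwist]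
  rw [← key]
  have hflat : Flat (Spec.map (CommRingCat.ofHom (FrobAlg.relFrob p A B))) := by
    rw [HasRingHomProperty.Spec_iff (P := @Flat)]
    exact FrobSmH8.relFrob_flat_of_smooth p A B
  infer_instance


theorem flat_relFrob_Spec {A B : CommRingCat.{u}} (φ : A ⟶ B) [FrobSch.IsCharP (Spec A) p]
    [Smooth (Spec.map φ)] : Flat (FrobSch.relFrob (Spec.map φ) p) := by
  have hA : (p : A) = 0 := natCast_eq_zero_of_isCharP_Spec p A
  have hB : (p : B) = 0 := by simpa using congrArg φ.hom hA
  rcases subsingleton_or_nontrivial B with hBs | hBn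
  · haveI : IsEmpty (Spec B) := inferInstanceAs (IsEmpty (PrimeSpectrum B))
    infer_instance
  · haveI : Nontrivial A := φ.hom.domain_nontrivial
    haveI : CharP A p := (CharP.charP_iff_prime_eq_zero Fact.out).2 hA
    haveI : CharP B p := (CharP.charP_iff_prime_eq_zero Fact.out).2 hB
    letI : Algebra A B := φ.hom.toAlgebra
    haveI : Algebra.Smooth A B := (HasRingHomProperty.Spec_iff (P := @Smooth)).mp ‹_›
    exact flat_relFrob_Spec_aux p A B


theorem flat_comp_relFrob_of_square {X S U V : Scheme.{u}} [FrobSch.IsCharP S p]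
    [FrobSch.IsCharP V p] (f : X ⟶ S) (g : U ⟶ V) (j : U ⟶ X) (i : V ⟶ S)
    (w : g ≫ i = j ≫ f) [IsOpenImmersion j] [IsOpenImmersion i]
    [Flat (FrobSch.relFrob g p)] : Flat (j ≫ FrobSch.relFrob f p) := by
  rw [← relFrob_twistMap p f g j i w]
  infer_instance

theorem flat_relFrob_of_isAffine {U V : Scheme.{u}} [IsAffine U] [IsAffine V]
    [FrobSch.IsCharP V p] (g : U ⟶ V) [Smooth g] : Flat (FrobSch.relFrob g p) := by
  haveI : FrobSch.IsCharP (Spec Γ(V, ⊤)) p := FrobSch.IsCharP.of_hom V.isoSpec.inv p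
  have w : Spec.map g.appTop ≫ V.isoSpec.inv = U.isoSpec.inv ≫ g := by
    rw [Iso.comp_inv_eq, Category.assoc, ← Scheme.isoSpec_hom_naturality, Iso.inv_hom_id_assoc]
  haveI : Smooth (Spec.map g.appTop) := by
    rw [HasRingHomProperty.Spec_iff (P := @Smooth)]
    exact (HasRingHomProperty.iff_of_isAffine (P := @Smooth)).mp ‹_›
  haveI := flat_relFrob_Spec p g.appTop
  have h := flat_comp_relFrob_of_square p g (Spec.map g.appTop) U.isoSpec.inv V.isoSpec.inv w
  exact (MorphismProperty.cancel_left_of_respectsIso @Flat U.isoSpec.inv _).mp h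

theorem flat_relFrob {X S : Scheme.{u}} [FrobSch.IsCharP S p] (f : X ⟶ S) [Smooth f] :
    Flat (FrobSch.relFrob f p) := by
  let 𝒰 : S.OpenCover := S.affineCover
  let 𝒱 : X.OpenCover := 𝒰.pullback₁ f
  let 𝒳 : X.OpenCover := 𝒱.bind (fun i => (𝒱.X i).affineCover)
  rw [IsZariskiLocalAtSource.iff_of_openCover (P := @Flat) 𝒳]
  rintro ⟨i, k⟩
  haveI : FrobSch.IsCharP (𝒰.X i) p := FrobSch.IsCharP.of_hom (𝒰.f i) p
  let a : ((𝒱.X i).affineCover.X k) ⟶ pullback f (𝒰.f i) := (𝒱.X i).affineCover.f k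
  haveI : IsOpenImmersion a := (𝒱.X i).affineCover.map_prop k
  let g : ((𝒱.X i).affineCover.X k) ⟶ 𝒰.X i := a ≫ pullback.snd f (𝒰.f i)
  let j : ((𝒱.X i).affineCover.X k) ⟶ X := a ≫ pullback.fst f (𝒰.f i)
  have hj : 𝒳.f ⟨i, k⟩ = j := rfl
  have w : g ≫ 𝒰.f i = j ≫ f := by
    dsimp only [g, j]
    rw [Category.assoc, Category.assoc, pullback.condition]
  haveI : IsAffine ((𝒱.X i).affineCover.X k) := by
    change IsAffine (Spec _)
    infer_instance
  haveI : IsAffine (𝒰.X i) := by
    change IsAffine (Spec _)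
    infer_instance
  haveI : IsOpenImmersion (𝒰.f i) := 𝒰.map_prop i
  haveI : Smooth g := by
    dsimp only [g]
    infer_instance
  haveI := flat_relFrob_of_isAffine p g
  rw [hj]
  exact flat_comp_relFrob_of_square p f g j (𝒰.f i) w

end Affine

end Groth.Agent.Lib.FrobFlatH5
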