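import Mathlib
set_option autoImplicit false
universe u v w

open TensorProduct

/-!
# Freeness from a Frobenius-semilinear self-isomorphism

Over a local ring `R`, a finitely presented module `M` is free as soon as there is a bijective
additive map `R' ⊗[R] M → M`, semilinear with respect to a ring isomorphism `σ : R' ≃+* R`, where
the structure map `R → R'` followed by `σ` is `a ↦ a ^ p` with `2 ≤ p`.
-/

namespace Groth.Agent.Lib.FrobFree

theorem free_of_semilinear_bijective {R : Type u} [CommRing R] [IsLocalRing R] (p : ℕ) (hp : 2 ≤ p)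
    (R' : Type w) [CommRing R'] [Algebra R R'] (σ : R' ≃+* R)
    (hσ : ∀ a : R, σ (algebraMap R R' a) = a ^ p)
    (M : Type v) [AddCommGroup M] [Module R M] [Module.FinitePresentation R M]
    (e : R' ⊗[R] M →+ M) (he : Function.Bijective e)
    (hsl : ∀ (t : R') (z : R' ⊗[R] M), e (t • z) = σ t • e z) :
    Module.Free R M := by
  classical
  obtain ⟨𝔪, h𝔪⟩ : ∃ 𝔪 : Ideal R, 𝔪 = IsLocalRing.maximalIdeal R := ⟨_, rfl⟩
  have hjac : 𝔪 ≤ Ideal.jacobson (⊥ : Ideal R) := by
    rw [h𝔪]; exact (IsLocalRing.jacobson_eq_maximalIdeal ⊥ bot_ne_top).ge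
  -- a basis of `k ⊗ M` and lifts
  let ι := Module.Free.ChooseBasisIndex (IsLocalRing.ResidueField R)
    (IsLocalRing.ResidueField R ⊗[R] M)
  let b : Module.Basis ι (IsLocalRing.ResidueField R) (IsLocalRing.ResidueField R ⊗[R] M) :=
    Module.Free.chooseBasis _ _
  have hsurj : Function.Surjective (TensorProduct.mk R (IsLocalRing.ResidueField R) M 1) :=
    TensorProduct.mk_surjective R M (IsLocalRing.ResidueField R) Ideal.Quotient.mk_surjective
  choose v hv using fun i => hsurj (b i)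
  have hspan : Submodule.span R (Set.range v) = ⊤ :=
    IsLocalRing.span_eq_top_of_tmul_eq_basis v b hv
  obtain ⟨π, hπdef⟩ : ∃ π : (ι → R) →ₗ[R] M, π = Fintype.linearCombination R v := ⟨_, rfl⟩
  have hπ : Function.Surjective π := by
    rw [← LinearMap.range_eq_top, hπdef, Fintype.range_linearCombination]; exact hspan
  have hπapp : ∀ c : ι → R, π c = ∑ i, c i • v i := fun c => by
    rw [hπdef, Fintype.linearCombination_apply]
  -- the kernel has coordinates in the maximal ideal
  have hKm : ∀ x : ι → R, π x = 0 → ∀ i, x i ∈ 𝔪 := by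
    intro x hx i
    have h0 : ∑ i, x i • v i = 0 := by rw [← hπapp]; exact hx
    have h1 : ∑ i, (IsLocalRing.residue R (x i)) • b i = 0 := by
      have h2 := congrArg (TensorProduct.mk R (IsLocalRing.ResidueField R) M 1) h0
      rw [map_sum, map_zero] at h2
      rw [← h2]
      refine Finset.sum_congr rfl (fun i _ => ?_)
      rw [map_smul, hv i]
      exact algebraMap_smul (IsLocalRing.ResidueField R) (x i) (b i)
    have h3 := Fintype.linearIndependent_iff.mp b.linearIndependent _ h1 i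
    rw [h𝔪]
    exact (IsLocalRing.residue_eq_zero_iff _).mp h3
  -- finite generation of the kernel and the ideal of coordinates
  obtain ⟨S, hS⟩ := Module.FinitePresentation.fg_ker π hπ
  obtain ⟨I, hIdef⟩ : ∃ I : Ideal R, I = Ideal.span (⋃ x ∈ (S : Set (ι → R)), Set.range x) :=
    ⟨_, rfl⟩
  have hSK : ∀ x ∈ S, π x = 0 := fun x hx => by
    have : x ∈ LinearMap.ker π := hS ▸ Submodule.subset_span hx
    exact this
  have hKI : ∀ x : ι → R, π x = 0 → ∀ i, x i ∈ I := by
    have hgen : ∀ x ∈ Submodule.span R (S : Set (ι → R)), ∀ i, x i ∈ I := by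
      intro x hx
      refine Submodule.span_induction (p := fun x _ => ∀ i, x i ∈ I) ?_ ?_ ?_ ?_ hx
      · intro y hy i
        rw [hIdef]
        exact Ideal.subset_span (Set.mem_biUnion hy (Set.mem_range_self i))
      · intro i; exact I.zero_mem
      · intro y z _ _ hy hz i
        exact I.add_mem (hy i) (hz i)
      · intro a y _ hy i
        exact I.mul_mem_left a (hy i)
    intro x hx
    exact hgen x (by rw [hS]; exact hx)
  have hI𝔪 : I ≤ 𝔪 := by
    rw [hIdef]
    refine Ideal.span_le.mpr (fun r hr => ?_)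
    obtain ⟨x, hx, hr⟩ := Set.mem_iUnion₂.mp hr
    obtain ⟨i, rfl⟩ := hr
    exact hKm x (hSK x hx) i
  have hIfg : I.FG := by
    rw [hIdef]
    exact Submodule.fg_span (Set.Finite.biUnion S.finite_toSet (fun x _ => Set.finite_range x))
  -- the second presentation
  obtain ⟨π', hπ'def⟩ : ∃ π' : (ι → R) →ₗ[R] M,
      π' = Fintype.linearCombination R (fun i => e ((1 : R') ⊗ₜ[R] v i)) := ⟨_, rfl⟩
  have hπ'app : ∀ c : ι → R, π' c = ∑ i, c i • e ((1 : R') ⊗ₜ[R] v i) := fun c => by
    rw [hπ'def, Fintype.linearCombination_apply]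
  have htm : ∀ (t : R') (m : M), t ⊗ₜ[R] m = t • ((1 : R') ⊗ₜ[R] m) := fun t m => by
    rw [TensorProduct.smul_tmul', smul_eq_mul, mul_one]
  have hπ' : Function.Surjective π' := by
    intro y
    obtain ⟨z, rfl⟩ := he.2 y
    induction z using TensorProduct.induction_on with
    | zero => exact ⟨0, by rw [map_zero, map_zero]⟩
    | tmul t m =>
      obtain ⟨c, rfl⟩ := hπ m
      refine ⟨fun i => σ (c i • t), ?_⟩
      rw [hπ'app, hπapp, TensorProduct.tmul_sum, map_sum]
      refine Finset.sum_congr rfl (fun i _ => ?_)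
      rw [TensorProduct.tmul_smul, TensorProduct.smul_tmul', htm (c i • t) (v i), hsl]
    | add z₁ z₂ h₁ h₂ =>
      obtain ⟨c₁, h₁⟩ := h₁
      obtain ⟨c₂, h₂⟩ := h₂
      exact ⟨c₁ + c₂, by rw [map_add, map_add, h₁, h₂]⟩
  have hex := lTensor_exact R' (LinearMap.exact_subtype_ker_map π) hπ
  have hpow : ∀ r ∈ I, r ^ p ∈ 𝔪 • I := by
    intro r hr
    obtain ⟨q, rfl⟩ : ∃ q, p = q + 1 := ⟨p - 1, by omega⟩
    rw [pow_succ, smul_eq_mul]
    exact Ideal.mul_mem_mul (Ideal.pow_mem_of_mem 𝔪 (hI𝔪 hr) q (by omega)) hr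
  have hker' : ∀ c : ι → R, π' c = 0 → ∀ j, c j ∈ 𝔪 • I := by
    intro c hc j
    have h1 : e (∑ i, (σ.symm (c i)) ⊗ₜ[R] v i) = 0 := by
      rw [map_sum, ← hc, hπ'app]
      refine Finset.sum_congr rfl (fun i _ => ?_)
      rw [htm, hsl, RingEquiv.apply_symm_apply]
    have h2 : ∑ i, (σ.symm (c i)) ⊗ₜ[R] v i = 0 := he.1 (h1.trans (map_zero e).symm)
    obtain ⟨z, hz⟩ : ∃ z : R' ⊗[R] (ι → R),
        z = ∑ i, (σ.symm (c i)) ⊗ₜ[R] (Pi.single i (1 : R) : ι → R) := ⟨_, rfl⟩
    have h3 : LinearMap.lTensor R' π z = 0 := by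
      rw [hz, map_sum, ← h2]
      refine Finset.sum_congr rfl (fun i _ => ?_)
      rw [LinearMap.lTensor_tmul, hπdef, Fintype.linearCombination_apply_single, one_smul]
    obtain ⟨w, hw⟩ := (hex z).mp h3
    obtain ⟨ε, hε⟩ : ∃ ε : R' ⊗[R] (ι → R) →ₗ[R] R',
        ε = (TensorProduct.rid R R').toLinearMap ∘ₗ
          LinearMap.lTensor R' (LinearMap.proj j : (ι → R) →ₗ[R] R) := ⟨_, rfl⟩
    have hεt : ∀ (t : R') (f : ι → R), ε (t ⊗ₜ[R] f) = f j • t := fun t f => by
      rw [hε, LinearMap.comp_apply, LinearMap.lTensor_tmul]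
      exact TensorProduct.rid_tmul _ _
    have h4 : ε z = σ.symm (c j) := by
      rw [hz, map_sum, Finset.sum_eq_single j]
      · rw [hεt, Pi.single_eq_same, one_smul]
      · intro i _ hij
        rw [hεt, Pi.single_eq_of_ne hij.symm, zero_smul]
      · intro h; exact absurd (Finset.mem_univ j) h
    have h5 : ∀ w : R' ⊗[R] (LinearMap.ker π),
        ε (LinearMap.lTensor R' (LinearMap.ker π).subtype w) ∈
          Ideal.comap (σ : R' →+* R) (𝔪 • I) := by
      intro w
      induction w using TensorProduct.induction_on with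
      | zero => rw [map_zero, map_zero]; exact Ideal.zero_mem _
      | tmul t x =>
        rw [LinearMap.lTensor_tmul, hεt, Ideal.mem_comap,
          Algebra.smul_def ((LinearMap.ker π).subtype x j) t, map_mul]
        have : (σ : R' →+* R) (algebraMap R R' ((LinearMap.ker π).subtype x j)) =
            ((LinearMap.ker π).subtype x j) ^ p := hσ _
        rw [this]
        exact Ideal.mul_mem_right _ _ (hpow _ (hKI x.1 x.2 j))
      | add w₁ w₂ h₁ h₂ => rw [map_add, map_add]; exact Ideal.add_mem _ h₁ h₂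
    have h6 := h5 w
    rw [hw, h4, Ideal.mem_comap] at h6
    have : (σ : R' →+* R) (σ.symm (c j)) = c j := σ.apply_symm_apply (c j)
    rw [this] at h6
    exact h6
  -- the comparison endomorphism
  choose P hP using fun i => hπ (e ((1 : R') ⊗ₜ[R] v i))
  obtain ⟨Φ, hΦdef⟩ : ∃ Φ : (ι → R) →ₗ[R] (ι → R), Φ = Fintype.linearCombination R P := ⟨_, rfl⟩
  have hΦapp : ∀ c : ι → R, Φ c = ∑ i, c i • P i := fun c => by
    rw [hΦdef, Fintype.linearCombination_apply]
  have hπΦ : ∀ c, π (Φ c) = π' c := by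
    intro c
    rw [hΦapp, map_sum, hπ'app]
    refine Finset.sum_congr rfl (fun i _ => ?_)
    rw [map_smul, hP]
  have hΦsurj : Function.Surjective Φ := by
    rw [← LinearMap.range_eq_top, eq_top_iff]
    refine Submodule.le_of_le_smul_of_le_jacobson_bot (I := 𝔪) Module.Finite.fg_top hjac ?_
    intro y _
    obtain ⟨c, hc⟩ := hπ' (π y)
    have hy : y = Φ c + (y - Φ c) := by abel
    rw [hy]
    refine Submodule.add_mem_sup ⟨c, rfl⟩ ?_
    have hd : π (y - Φ c) = 0 := by rw [map_sub, hπΦ, hc, sub_self]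
    have hdm := hKm _ hd
    have hsum : (y - Φ c) = ∑ i, (y - Φ c) i • (Pi.single i (1 : R) : ι → R) := by
      funext k
      rw [Finset.sum_apply, Finset.sum_eq_single k]
      · rw [Pi.smul_apply, Pi.single_eq_same, smul_eq_mul, mul_one]
      · intro i _ hik
        rw [Pi.smul_apply, Pi.single_eq_of_ne hik.symm, smul_zero]
      · intro h; exact absurd (Finset.mem_univ k) h
    rw [hsum]
    exact Submodule.sum_mem _ (fun i _ => Submodule.smul_mem_smul (hdm i) Submodule.mem_top)
  -- Nakayama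
  have hII : I ≤ 𝔪 • I := by
    conv_lhs => rw [hIdef]
    refine Ideal.span_le.mpr (fun r hr => ?_)
    obtain ⟨x, hx, hr⟩ := Set.mem_iUnion₂.mp hr
    obtain ⟨i, rfl⟩ := hr
    obtain ⟨c, rfl⟩ := hΦsurj x
    have hc0 : π' c = 0 := by rw [← hπΦ]; exact hSK _ hx
    have hcj := hker' c hc0
    show (Φ c) i ∈ 𝔪 • I
    rw [hΦapp, Finset.sum_apply]
    refine Ideal.sum_mem _ (fun j _ => ?_)
    rw [Pi.smul_apply, smul_eq_mul]
    exact Ideal.mul_mem_right _ _ (hcj j)
  have hI0 : I = ⊥ := Submodule.eq_bot_of_le_smul_of_le_jacobson_bot 𝔪 I hIfg hII hjac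
  have hinj : Function.Injective π := by
    rw [← LinearMap.ker_eq_bot, eq_bot_iff]
    intro x hx
    have hx0 : ∀ i, x i = 0 := fun i => by
      have := hKI x hx i
      rw [hI0] at this
      exact this
    exact (Submodule.mem_bot R).mpr (funext hx0)
  exact Module.Free.of_equiv (LinearEquiv.ofBijective π ⟨hinj, hπ⟩)

end Groth.Agent.Lib.FrobFree
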