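import Mathlib

set_option autoImplicit false
set_option linter.style.haveILetI false
set_option linter.unusedSectionVars false

universe u

open TensorProduct

namespace Groth.Agent.Lib.FrobGeomRedH4

theorem add_pow_q {T : Type u} [CommRing T] (p : ℕ) (hp : p.Prime) (hp0 : ((p : ℕ) : T) = 0)
    (x y : T) (n : ℕ) : (x + y) ^ p ^ n = x ^ p ^ n + y ^ p ^ n := by
  obtain ⟨r, hr⟩ := exists_add_pow_prime_pow_eq hp x y n
  rw [hr, hp0, zero_mul, zero_mul, zero_mul, add_zero]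

theorem reduced_of_pow (k : Type u) [Field k] (p : ℕ) (hp : p.Prime) [CharP k p]
    (Ω : Type u) [Field Ω] [Algebra k Ω] [IsAlgClosed Ω]
    (R : Type u) [CommRing R] [Algebra k R] (m : ℕ)
    (hnil : ∀ x : Ω ⊗[k] R, IsNilpotent x → x ^ p ^ m = 0)
    (S : Subalgebra k R) (hS : S = Algebra.adjoin k (Set.range (fun x : R => x ^ (p ^ m)))) :
    IsReduced (Ω ⊗[k] S) := by
  have hp0 : ((p : ℕ) : Ω ⊗[k] R) = 0 := by
    have h0 : ((p : ℕ) : k) = 0 := CharP.cast_eq_zero k p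
    rw [← map_natCast (algebraMap k (Ω ⊗[k] R)) p, h0, map_zero]
  have hq : 0 < p ^ m := pow_pos hp.pos m
  let ι : Ω ⊗[k] S →ₐ[Ω] Ω ⊗[k] R := Algebra.TensorProduct.map (AlgHom.id Ω Ω) S.val
  have hι : Function.Injective ι := by
    have h := Module.Flat.lTensor_preserves_injective_linearMap (M := Ω) S.val.toLinearMap
      Subtype.val_injective
    have he : ∀ z, ι z = LinearMap.lTensor Ω S.val.toLinearMap z := by
      intro z
      induction z using TensorProduct.induction_on with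
      | zero => rw [map_zero, map_zero]
      | tmul a b => rfl
      | add x y hx hy => rw [map_add, map_add, hx, hy]
    intro z₁ z₂ h12
    apply h
    rw [← he, ← he, h12]
  have h1 : ∀ s ∈ S, ∃ w : Ω ⊗[k] R, (1 : Ω) ⊗ₜ[k] s = w ^ p ^ m := by
    intro s hs
    rw [hS] at hs
    refine Algebra.adjoin_induction
      (p := fun s _ => ∃ w : Ω ⊗[k] R, (1 : Ω) ⊗ₜ[k] s = w ^ p ^ m) ?_ ?_ ?_ ?_ hs
    · rintro _ ⟨r, rfl⟩
      exact ⟨1 ⊗ₜ r, by rw [Algebra.TensorProduct.tmul_pow, one_pow]⟩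
    · intro a
      obtain ⟨b, hb⟩ := IsAlgClosed.exists_pow_nat_eq (algebraMap k Ω a) hq
      refine ⟨b ⊗ₜ 1, ?_⟩
      have e : (1 : Ω) ⊗ₜ[k] (algebraMap k R a) = (algebraMap k Ω a) ⊗ₜ[k] (1 : R) := by
        rw [Algebra.algebraMap_eq_smul_one, Algebra.algebraMap_eq_smul_one]
        exact (TensorProduct.smul_tmul a (1 : Ω) (1 : R)).symm
      rw [e, Algebra.TensorProduct.tmul_pow, one_pow, hb]
    · rintro x y _ _ ⟨w₁, h₁⟩ ⟨w₂, h₂⟩
      exact ⟨w₁ + w₂, by rw [TensorProduct.tmul_add, h₁, h₂, add_pow_q p hp hp0]⟩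
    · rintro x y _ _ ⟨w₁, h₁⟩ ⟨w₂, h₂⟩
      refine ⟨w₁ * w₂, ?_⟩
      rw [mul_pow, ← h₁, ← h₂, Algebra.TensorProduct.tmul_mul_tmul, one_mul]
  have h2 : ∀ z : Ω ⊗[k] S, ∃ w : Ω ⊗[k] R, ι z = w ^ p ^ m := by
    intro z
    induction z using TensorProduct.induction_on with
    | zero => exact ⟨0, by rw [map_zero, zero_pow hq.ne']⟩
    | tmul c s =>
      obtain ⟨w, hw⟩ := h1 s.1 s.2
      obtain ⟨b, hb⟩ := IsAlgClosed.exists_pow_nat_eq c hq
      refine ⟨b • w, ?_⟩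
      have e0 : ι (c ⊗ₜ[k] s) = c ⊗ₜ[k] (s : R) := rfl
      rw [e0, smul_pow, hb, ← hw, TensorProduct.smul_tmul', smul_eq_mul, mul_one]
    | add x y hx hy =>
      obtain ⟨w₁, h₁⟩ := hx
      obtain ⟨w₂, h₂⟩ := hy
      exact ⟨w₁ + w₂, by rw [map_add, h₁, h₂, add_pow_q p hp hp0]⟩
  refine ⟨fun z hz => ?_⟩
  obtain ⟨w, hw⟩ := h2 z
  have hnz : IsNilpotent (ι z) := hz.map ι
  rw [hw] at hnz
  have hwn : IsNilpotent w := hnz.of_pow
  have h0 : ι z = 0 := by rw [hw]; exact hnil w hwn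
  exact hι (by rw [h0, map_zero])

theorem main14606 (k : Type u) [Field k] (p : ℕ) [Fact p.Prime] [CharP k p]
    (R : Type u) [CommRing R] [Algebra k R] [Algebra.FiniteType k R] :
    ∃ n : ℕ, Algebra.IsGeometricallyReduced k
      ↥(Algebra.adjoin k (Set.range (fun x : R => x ^ (p ^ n)))) := by
  have hp : p.Prime := Fact.out
  haveI : IsNoetherianRing (AlgebraicClosure k ⊗[k] R) :=
    Algebra.FiniteType.isNoetherianRing (AlgebraicClosure k) (AlgebraicClosure k ⊗[k] R)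
  obtain ⟨m, hm⟩ := IsNoetherianRing.isNilpotent_nilradical (AlgebraicClosure k ⊗[k] R)
  have hnil : ∀ x : AlgebraicClosure k ⊗[k] R, IsNilpotent x → x ^ p ^ m = 0 := by
    intro x hx
    have h1 : x ^ m ∈ (nilradical (AlgebraicClosure k ⊗[k] R)) ^ m :=
      Ideal.pow_mem_pow (mem_nilradical.mpr hx) m
    rw [hm] at h1
    have h2 : x ^ m = 0 := h1
    exact pow_eq_zero_of_le (Nat.lt_pow_self hp.one_lt).le h2
  refine ⟨m, ?_⟩
  rw [Algebra.isGeometricallyReduced_field_iff]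
  exact reduced_of_pow k p hp (AlgebraicClosure k) R m hnil _ rfl

end Groth.Agent.Lib.FrobGeomRedH4
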