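import Mathlib

set_option autoImplicit false
set_option maxHeartbeats 1000000

/-!
# Finite Frobenius height = finite with connected geometric fibres (helper1)
-/

namespace FrobHeightH1

open TensorProduct

universe u

/-- the algebraically closed field attached to a prime -/
abbrev KK (A : Type u) [CommRing A] (𝔮 : Ideal A) [𝔮.IsPrime] : Type u :=
  AlgebraicClosure (FractionRing (A ⧸ 𝔮))

/-- the ring map `A → KK A 𝔮` -/
noncomputable def iota (A : Type u) [CommRing A] (𝔮 : Ideal A) [𝔮.IsPrime] : A →+* KK A 𝔮 :=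
  (algebraMap (FractionRing (A ⧸ 𝔮)) (KK A 𝔮)).comp
    ((algebraMap (A ⧸ 𝔮) (FractionRing (A ⧸ 𝔮))).comp (Ideal.Quotient.mk 𝔮))

theorem iota_eq_zero (A : Type u) [CommRing A] (𝔮 : Ideal A) [𝔮.IsPrime] (a : A)
    (h : iota A 𝔮 a = 0) : a ∈ 𝔮 := by
  unfold iota at h
  rw [RingHom.comp_apply, RingHom.comp_apply, map_eq_zero] at h
  have h2 := (IsFractionRing.injective (A ⧸ 𝔮) (FractionRing (A ⧸ 𝔮)))
    (h.trans (map_zero _).symm)
  exact Ideal.Quotient.eq_zero_iff_mem.mp h2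

variable (p : ℕ) [Fact p.Prime] (R : Type u) [CommRing R] [CharP R p] (A : Type u) [CommRing A]
  [HopfAlgebra R A]

omit [Fact p.Prime] [CharP R p] in
theorem sub_counit_mem (a : A) :
    Bialgebra.counitAlgHom R A (a - algebraMap R A (Bialgebra.counitAlgHom R A a)) = 0 := by
  rw [map_sub, AlgHom.commutes, Algebra.algebraMap_self, RingHom.id_apply, sub_self]

theorem forward [Algebra.FiniteType R A] (n : ℕ)
    (h : ∀ a : A, Bialgebra.counitAlgHom R A a = 0 → a ^ p ^ n = 0) :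
    Module.Finite R A ∧
      ∀ (K : Type u) [Field K] [IsAlgClosed K] [Algebra R K], IsLocalRing (K ⊗[R] A) := by
  constructor
  · haveI : Algebra.IsIntegral R A := ⟨fun a => by
      have h1 : a = algebraMap R A (Bialgebra.counitAlgHom R A a) +
          (a - algebraMap R A (Bialgebra.counitAlgHom R A a)) := by ring
      rw [h1]
      apply IsIntegral.add isIntegral_algebraMap
      refine ⟨Polynomial.X ^ (p ^ n), Polynomial.monic_X_pow _, ?_⟩
      rw [Polynomial.eval₂_X_pow]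
      exact h _ (sub_counit_mem R A a)⟩
    exact Algebra.IsIntegral.finite
  · intro K _ _ _
    let g : A →ₐ[R] K := (Algebra.ofId R K).comp (Bialgebra.counitAlgHom R A)
    let φ : K ⊗[R] A →ₐ[R] K := Algebra.TensorProduct.productMap (AlgHom.id R K) g
    have hφ : ∀ (c : K) (a : A), φ (c ⊗ₜ[R] a) =
        c * algebraMap R K (Bialgebra.counitAlgHom R A a) := fun c a => rfl
    haveI : Nontrivial (K ⊗[R] A) := by
      refine ⟨⟨0, 1, fun h01 => ?_⟩⟩
      have h2 := congrArg φ h01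
      rw [map_zero, map_one] at h2
      exact zero_ne_one h2
    have hpK : ((p : ℕ) : K ⊗[R] A) = 0 := by
      have h1 : ((p : ℕ) : R) = 0 := CharP.cast_eq_zero R p
      have h2 : ((p : ℕ) : K ⊗[R] A) = algebraMap R (K ⊗[R] A) ((p : ℕ) : R) := by
        rw [map_natCast]
      rw [h2, h1, map_zero]
    haveI : CharP (K ⊗[R] A) p := (CharP.charP_iff_prime_eq_zero (Fact.out : p.Prime)).mpr hpK
    have hall : ∀ z : K ⊗[R] A, (z - (φ z) ⊗ₜ[R] (1 : A)) ^ p ^ n = 0 := by
      intro z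
      induction z using TensorProduct.induction_on with
      | zero =>
        rw [map_zero, TensorProduct.zero_tmul, sub_zero]
        exact zero_pow (pow_pos (Fact.out : p.Prime).pos n).ne'
      | add x y hx hy =>
        have e1 : x + y - (φ (x + y)) ⊗ₜ[R] (1 : A) =
            (x - (φ x) ⊗ₜ[R] (1 : A)) + (y - (φ y) ⊗ₜ[R] (1 : A)) := by
          rw [map_add, TensorProduct.add_tmul]; ring
        rw [e1, add_pow_char_pow _ _ p n, hx, hy, add_zero]
      | tmul c a =>
        have e1 : c ⊗ₜ[R] a - (φ (c ⊗ₜ[R] a)) ⊗ₜ[R] (1 : A) =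
            c ⊗ₜ[R] (a - algebraMap R A (Bialgebra.counitAlgHom R A a)) := by
          rw [hφ, TensorProduct.tmul_sub, Algebra.algebraMap_eq_smul_one (A := A),
            TensorProduct.tmul_smul, TensorProduct.smul_tmul', Algebra.smul_def, mul_comm]
        rw [e1, Algebra.TensorProduct.tmul_pow, h _ (sub_counit_mem R A a),
          TensorProduct.tmul_zero]
    haveI : IsLocalHom φ.toRingHom := ⟨fun a ha => by
      have hu : IsUnit (algebraMap K (K ⊗[R] A) (φ a)) := ha.map (algebraMap K (K ⊗[R] A))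
      have hnil : IsNilpotent (a - (φ a) ⊗ₜ[R] (1 : A)) := ⟨p ^ n, hall a⟩
      have e2 : algebraMap K (K ⊗[R] A) (φ a) = (φ a) ⊗ₜ[R] (1 : A) := by
        rw [Algebra.TensorProduct.algebraMap_apply, Algebra.algebraMap_self, RingHom.id_apply]
      rw [e2] at hu
      have := hnil.isUnit_add_left_of_commute hu (Commute.all _ _)
      rwa [add_sub_cancel] at this⟩
    exact RingHom.domain_isLocalRing φ.toRingHom

omit [Fact p.Prime] [CharP R p] in
theorem le_nilradical
    (h : ∀ (K : Type u) [Field K] [IsAlgClosed K] [Algebra R K], IsLocalRing (K ⊗[R] A)) :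
    RingHom.ker (Bialgebra.counitAlgHom R A) ≤ nilradical A := by
  intro a ha
  rw [nilradical_eq_sInf, Ideal.mem_sInf]
  intro 𝔮 h𝔮
  haveI : 𝔮.IsPrime := h𝔮
  letI : Algebra R (KK A 𝔮) := ((iota A 𝔮).comp (algebraMap R A)).toAlgebra
  haveI := h (KK A 𝔮)
  let g₁ : A →ₐ[R] KK A 𝔮 := (Algebra.ofId R (KK A 𝔮)).comp (Bialgebra.counitAlgHom R A)
  let g₂ : A →ₐ[R] KK A 𝔮 := { toRingHom := iota A 𝔮, commutes' := fun r => rfl }
  let φ₁ : KK A 𝔮 ⊗[R] A →ₐ[R] KK A 𝔮 :=
    Algebra.TensorProduct.productMap (AlgHom.id R (KK A 𝔮)) g₁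
  let φ₂ : KK A 𝔮 ⊗[R] A →ₐ[R] KK A 𝔮 :=
    Algebra.TensorProduct.productMap (AlgHom.id R (KK A 𝔮)) g₂
  have hsurj : Function.Surjective φ₂.toRingHom := by
    intro c
    refine ⟨c ⊗ₜ[R] (1 : A), ?_⟩
    show c * g₂ 1 = c
    rw [map_one, mul_one]
  have hmax : (RingHom.ker φ₂.toRingHom).IsMaximal :=
    RingHom.ker_isMaximal_of_surjective φ₂.toRingHom hsurj
  have heq := IsLocalRing.eq_maximalIdeal hmax
  have hz : φ₁ ((1 : KK A 𝔮) ⊗ₜ[R] a) = 0 := by
    show (1 : KK A 𝔮) * g₁ a = 0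
    have h0 : Bialgebra.counitAlgHom R A a = 0 := ha
    show (1 : KK A 𝔮) * algebraMap R (KK A 𝔮) (Bialgebra.counitAlgHom R A a) = 0
    rw [h0, map_zero, mul_zero]
  have hnu : (1 : KK A 𝔮) ⊗ₜ[R] a ∈ IsLocalRing.maximalIdeal (KK A 𝔮 ⊗[R] A) := by
    rw [IsLocalRing.mem_maximalIdeal, mem_nonunits_iff]
    intro hu
    have h3 := hu.map φ₁
    rw [hz] at h3
    exact not_isUnit_zero h3
  rw [← heq, RingHom.mem_ker] at hnu
  have h4 : (1 : KK A 𝔮) * iota A 𝔮 a = 0 := hnu
  rw [one_mul] at h4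
  exact iota_eq_zero A 𝔮 a h4

omit [CharP R p] in
theorem backward [IsNoetherianRing R] [Algebra.FiniteType R A]
    (h : ∀ (K : Type u) [Field K] [IsAlgClosed K] [Algebra R K], IsLocalRing (K ⊗[R] A)) :
    ∃ n : ℕ, ∀ a : A, Bialgebra.counitAlgHom R A a = 0 → a ^ p ^ n = 0 := by
  haveI : IsNoetherianRing A := Algebra.FiniteType.isNoetherianRing R A
  have hfg : (RingHom.ker (Bialgebra.counitAlgHom R A)).FG := IsNoetherian.noetherian _
  obtain ⟨N, hN⟩ := hfg.isNilpotent_iff_le_nilradical.mpr (le_nilradical R A h)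
  refine ⟨N, fun a ha => ?_⟩
  have h1 : a ^ N ∈ RingHom.ker (Bialgebra.counitAlgHom R A) ^ N :=
    Ideal.pow_mem_pow (RingHom.mem_ker.mpr ha) N
  rw [hN] at h1
  have h2 : a ^ N = 0 := h1
  exact pow_eq_zero_of_le (Nat.lt_pow_self (Fact.out : p.Prime).one_lt).le h2

theorem main [IsNoetherianRing R] [Algebra.FiniteType R A] :
    (∃ n : ℕ, ∀ a : A, Bialgebra.counitAlgHom R A a = 0 → a ^ p ^ n = 0) ↔
      (Module.Finite R A ∧
        ∀ (K : Type u) [Field K] [IsAlgClosed K] [Algebra R K], IsLocalRing (K ⊗[R] A)) := by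
  constructor
  · rintro ⟨n, hn⟩
    exact forward p R A n hn
  · rintro ⟨_, h⟩
    exact backward p R A h

end FrobHeightH1
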