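import Mathlib
import Groth.Agent.Lib.FrobField_helper3

/-!
# Frobenius modules over strictly henselian local rings (helper3)

`main`: over a strictly henselian local ring `R` of characteristic `p`, for a finite free module `M`
and a Frobenius-semilinear additive map `T` whose values span `M`, the map `T - 1` is surjective and
has exactly `p ^ rank M` fixed vectors.
-/

set_option autoImplicit false
set_option linter.unusedSectionVars false

noncomputable section

open Polynomial

universe u v

namespace Groth.Agent.Lib.FrobHens_helper3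

section Poly

variable {R : Type u} [CommRing R]

/-- the polynomials `X_j`. -/
def Xq (q : ℕ) (c w : ℕ → R) : ℕ → R[X]
  | 0 => C (c 0) * X ^ q - C (w 0)
  | (j + 1) => (Xq q c w j) ^ q + C (c (j + 1)) * X ^ q - C (w (j + 1))

lemma derivative_Xq (q : ℕ) (hq : (q : R) = 0) (c w : ℕ → R) (j : ℕ) :
    derivative (Xq q c w j) = 0 := by
  induction j with
  | zero => simp [Xq, derivative_X_pow, hq]
  | succ j ih => simp [Xq, derivative_pow, ih, derivative_X_pow, hq]

lemma eval_Xq_zero (q : ℕ) (c w : ℕ → R) (t : R) :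
    eval t (Xq q c w 0) = c 0 * t ^ q - w 0 := by simp [Xq]

lemma eval_Xq_succ (q : ℕ) (c w : ℕ → R) (t : R) (j : ℕ) :
    eval t (Xq q c w (j + 1)) = (eval t (Xq q c w j)) ^ q + c (j + 1) * t ^ q - w (j + 1) := by
  simp [Xq]

lemma natDegree_leadingCoeff_Xq [Nontrivial R] (q : ℕ) (hq : 2 ≤ q) (c w : ℕ → R)
    (hc : IsUnit (c 0)) (j : ℕ) :
    (Xq q c w j).natDegree = q ^ (j + 1) ∧ (Xq q c w j).leadingCoeff = (c 0) ^ (q ^ j) := by
  induction j with
  | zero =>
    have h1 : (C (c 0) * X ^ q : R[X]).natDegree = q := natDegree_C_mul_X_pow q (c 0) hc.ne_zero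
    have h2 : (C (w 0) : R[X]).degree < (C (c 0) * X ^ q : R[X]).degree := by
      apply degree_lt_degree
      rw [natDegree_C, h1]; omega
    refine ⟨?_, ?_⟩
    · show (C (c 0) * X ^ q - C (w 0)).natDegree = q ^ (0 + 1)
      rw [natDegree_sub_C, h1, zero_add, pow_one]
    · show (C (c 0) * X ^ q - C (w 0)).leadingCoeff = (c 0) ^ (q ^ 0)
      rw [leadingCoeff_sub_of_degree_lt h2, leadingCoeff_C_mul_X_pow, pow_zero, pow_one]
  | succ j ih =>
    obtain ⟨ih1, ih2⟩ := ih
    have hu : IsUnit ((c 0) ^ (q ^ j)) := hc.pow _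
    have hne : (Xq q c w j).leadingCoeff ^ q ≠ 0 := by
      rw [ih2]; exact (hu.pow q).ne_zero
    have hA1 : ((Xq q c w j) ^ q).natDegree = q ^ (j + 1 + 1) := by
      rw [natDegree_pow' hne, ih1, ← pow_succ']
    have hA2 : ((Xq q c w j) ^ q).leadingCoeff = (c 0) ^ (q ^ (j + 1)) := by
      rw [leadingCoeff_pow' hne, ih2, ← pow_mul, ← pow_succ]
    have hq1 : q < q ^ (j + 1 + 1) := by
      calc q = q ^ 1 := (pow_one q).symm
        _ < q ^ (j + 1 + 1) := Nat.pow_lt_pow_right (by omega) (by omega)
    have hB : (C (c (j + 1)) * X ^ q : R[X]).natDegree < ((Xq q c w j) ^ q).natDegree := by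
      rw [hA1]
      exact lt_of_le_of_lt (natDegree_C_mul_X_pow_le _ _) hq1
    have hAB1 : ((Xq q c w j) ^ q + C (c (j + 1)) * X ^ q).natDegree = q ^ (j + 1 + 1) := by
      rw [natDegree_add_eq_left_of_natDegree_lt hB, hA1]
    have hAB2 : ((Xq q c w j) ^ q + C (c (j + 1)) * X ^ q).leadingCoeff = (c 0) ^ (q ^ (j + 1)) := by
      rw [leadingCoeff_add_of_degree_lt' (degree_lt_degree hB), hA2]
    have h2 : (C (w (j + 1)) : R[X]).degree <
        ((Xq q c w j) ^ q + C (c (j + 1)) * X ^ q).degree := by
      apply degree_lt_degree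
      rw [natDegree_C, hAB1]; omega
    refine ⟨?_, ?_⟩
    · show ((Xq q c w j) ^ q + C (c (j + 1)) * X ^ q - C (w (j + 1))).natDegree = _
      rw [natDegree_sub_C, hAB1]
    · show ((Xq q c w j) ^ q + C (c (j + 1)) * X ^ q - C (w (j + 1))).leadingCoeff = _
      rw [leadingCoeff_sub_of_degree_lt h2, hAB2]

/-- the monic polynomial whose roots parametrise solutions. -/
def Fpoly (q : ℕ) (c w : ℕ → R) (n : ℕ) (u : R) : R[X] := C u * (Xq q c w n - X)

lemma Fpoly_facts [Nontrivial R] (q : ℕ) (hq : 2 ≤ q) (hq0 : (q : R) = 0) (c w : ℕ → R)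
    (hc : IsUnit (c 0)) (n : ℕ) (u : R) (hu : u * (c 0) ^ (q ^ n) = 1) :
    (Fpoly q c w n u).Monic ∧ (Fpoly q c w n u).natDegree = q ^ (n + 1) ∧
      derivative (Fpoly q c w n u) = - C u := by
  obtain ⟨h1, h2⟩ := natDegree_leadingCoeff_Xq q hq c w hc n
  have hq1 : 1 < q ^ (n + 1) := by
    calc 1 < q := by omega
      _ = q ^ 1 := (pow_one q).symm
      _ ≤ q ^ (n + 1) := Nat.pow_le_pow_right (by omega) (by omega)
  have hX : (X : R[X]).degree < (Xq q c w n).degree := by
    apply degree_lt_degree
    rw [natDegree_X, h1]; exact hq1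
  have h3 : (Xq q c w n - X).leadingCoeff = (c 0) ^ (q ^ n) := by
    rw [leadingCoeff_sub_of_degree_lt hX, h2]
  have h4 : (Xq q c w n - X).natDegree = q ^ (n + 1) := by
    rw [natDegree_sub_eq_left_of_natDegree_lt (by rw [natDegree_X, h1]; exact hq1), h1]
  refine ⟨?_, ?_, ?_⟩
  · exact monic_C_mul_of_mul_leadingCoeff_eq_one (by rw [h3, hu])
  · show (C u * (Xq q c w n - X)).natDegree = _
    rw [natDegree_C_mul_of_mul_ne_zero (by rw [h3, hu]; exact one_ne_zero), h4]
  · show derivative (C u * (Xq q c w n - X)) = _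
    rw [derivative_C_mul, derivative_sub, derivative_Xq q hq0, derivative_X, zero_sub, mul_neg,
      mul_one]

lemma Fpoly_isRoot_iff (q : ℕ) (c w : ℕ → R) (n : ℕ) (u : R) (hu : IsUnit u) (t : R) :
    (Fpoly q c w n u).IsRoot t ↔ eval t (Xq q c w n) = t := by
  unfold Fpoly
  rw [IsRoot, eval_mul, eval_C, eval_sub, eval_X, hu.mul_right_eq_zero, sub_eq_zero]

end Poly

section Cyclic

variable {R : Type u} [CommRing R] {M : Type v} [AddCommGroup M] [Module R M]
variable (p : ℕ) (T : M →+ M) (hT : ∀ (r : R) (m : M), T (r • m) = r ^ p • T m)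
variable (e : ℕ → M) (he : ∀ j, e (j + 1) = T (e j)) (n : ℕ) (c : ℕ → R)
variable (hrel : e (n + 1) = ∑ i ∈ Finset.range (n + 1), c i • e i)

/-- coordinates of `T y`. -/
def next (x : ℕ → R) : ℕ → R
  | 0 => c 0 * x n ^ p
  | (j + 1) => x j ^ p + c (j + 1) * x n ^ p

include hT he hrel in
lemma T_sum (x : ℕ → R) :
    T (∑ j ∈ Finset.range (n + 1), x j • e j) =
      ∑ j ∈ Finset.range (n + 1), next p n c x j • e j := by
  have h1 : T (∑ j ∈ Finset.range (n + 1), x j • e j) =
      ∑ j ∈ Finset.range n, x j ^ p • e (j + 1) + x n ^ p • e (n + 1) := by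
    rw [map_sum, Finset.sum_range_succ]
    simp only [hT, ← he]
  have hrel' : e (n + 1) = ∑ i ∈ Finset.range n, c (i + 1) • e (i + 1) + c 0 • e 0 := by
    rw [hrel]; exact Finset.sum_range_succ' _ _
  rw [h1, Finset.sum_range_succ' (fun j => next p n c x j • e j), hrel', smul_add,
    Finset.smul_sum, ← add_assoc, ← Finset.sum_add_distrib]
  congr 1
  · apply Finset.sum_congr rfl
    intro j _
    show _ = (x j ^ p + c (j + 1) * x n ^ p) • e (j + 1)
    rw [add_smul, smul_smul, mul_comm]
  · show _ = (c 0 * x n ^ p) • e 0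
    rw [smul_smul, mul_comm]

variable (hli : LinearIndependent R (fun i : Fin (n + 1) => e i))
variable (hsp : Submodule.span R (Set.range (fun i : Fin (n + 1) => e i)) = ⊤)

include hli in
lemma coeff_ext (a a' : ℕ → R)
    (h : ∑ j ∈ Finset.range (n + 1), a j • e j = ∑ j ∈ Finset.range (n + 1), a' j • e j) :
    ∀ j, j ≤ n → a j = a' j := by
  have h1 : ∑ i : Fin (n + 1), (a i - a' i) • e i = 0 := by
    rw [Fin.sum_univ_eq_sum_range (fun j => (a j - a' j) • e j) (n + 1)]
    simp only [sub_smul, Finset.sum_sub_distrib]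
    exact sub_eq_zero.mpr h
  have h2 := Fintype.linearIndependent_iff.mp hli (fun i => a i - a' i) h1
  intro j hj
  exact sub_eq_zero.mp (h2 ⟨j, by omega⟩)

include hsp in
lemma exists_coords (y : M) : ∃ x : ℕ → R, y = ∑ j ∈ Finset.range (n + 1), x j • e j := by
  have hy : y ∈ Submodule.span R (Set.range (fun i : Fin (n + 1) => e i)) := by
    rw [hsp]; exact Submodule.mem_top
  obtain ⟨x, hx⟩ := (Submodule.mem_span_range_iff_exists_fun R).mp hy
  refine ⟨fun j => if hj : j < n + 1 then x ⟨j, hj⟩ else 0, ?_⟩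
  rw [← hx, ← Fin.sum_univ_eq_sum_range
    (fun j => (if hj : j < n + 1 then x ⟨j, hj⟩ else 0) • e j) (n + 1)]
  apply Finset.sum_congr rfl
  intro i _
  simp [i.2]

/-- the vector attached to a root. -/
def yOf (w : ℕ → R) (t : R) : M :=
  ∑ j ∈ Finset.range (n + 1), eval t (Xq p c w j) • e j

include hT he hrel in
lemma T_yOf_sub (w : ℕ → R) (t : R) (ht : eval t (Xq p c w n) = t) :
    T (yOf p e n c w t) - yOf p e n c w t = ∑ j ∈ Finset.range (n + 1), w j • e j := by
  unfold yOf
  rw [T_sum p T hT e he n c hrel, ← Finset.sum_sub_distrib]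
  apply Finset.sum_congr rfl
  intro j _
  rw [← sub_smul]
  congr 1
  rcases j with _ | j
  · show c 0 * (eval t (Xq p c w n)) ^ p - eval t (Xq p c w 0) = w 0
    rw [ht, eval_Xq_zero]; ring
  · show (eval t (Xq p c w j)) ^ p + c (j + 1) * (eval t (Xq p c w n)) ^ p -
      eval t (Xq p c w (j + 1)) = w (j + 1)
    rw [ht, eval_Xq_succ]; ring

include hT he hrel hli in
lemma coords_of_solution (w x : ℕ → R)
    (h : T (∑ j ∈ Finset.range (n + 1), x j • e j) - ∑ j ∈ Finset.range (n + 1), x j • e j =
      ∑ j ∈ Finset.range (n + 1), w j • e j) :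
    (∀ j, j ≤ n → x j = eval (x n) (Xq p c w j)) := by
  rw [T_sum p T hT e he n c hrel, ← Finset.sum_sub_distrib] at h
  simp only [← sub_smul] at h
  have h1 := coeff_ext e n hli _ _ h
  intro j
  induction j with
  | zero =>
    intro _
    have := h1 0 (by omega)
    have h2 : c 0 * x n ^ p - x 0 = w 0 := this
    rw [eval_Xq_zero, ← h2]; ring
  | succ j ih =>
    intro hj
    have := h1 (j + 1) hj
    have h2 : x j ^ p + c (j + 1) * x n ^ p - x (j + 1) = w (j + 1) := this
    rw [eval_Xq_succ, ← ih (by omega), ← h2]; ring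

include hT he hrel hli hsp in
/-- solutions of `T y - y = W` correspond to roots. -/
lemma exists_root_of_solution (w : ℕ → R) (y : M)
    (h : T y - y = ∑ j ∈ Finset.range (n + 1), w j • e j) :
    ∃ t, eval t (Xq p c w n) = t ∧ y = yOf p e n c w t := by
  obtain ⟨x, rfl⟩ := exists_coords e n hsp y
  have h1 := coords_of_solution p T hT e he n c hrel hli w x h
  refine ⟨x n, (h1 n le_rfl).symm, ?_⟩
  unfold yOf
  apply Finset.sum_congr rfl
  intro j hj
  rw [← h1 j (by have := Finset.mem_range.mp hj; omega)]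

include hli in
lemma yOf_injective (w : ℕ → R) (t t' : R) (ht : eval t (Xq p c w n) = t)
    (ht' : eval t' (Xq p c w n) = t') (h : yOf p e n c w t = yOf p e n c w t') : t = t' := by
  have := coeff_ext e n hli _ _ h n le_rfl
  rw [ht, ht'] at this
  exact this

include hT he hrel hli hsp in
/-- the fixed vectors correspond to the roots of `X_n - X` (with `w = 0`). -/
lemma card_fixed_eq :
    Nat.card {y : M // T y = y} = Nat.card {t : R // eval t (Xq p c 0 n) = t} := by
  symm
  have hz : ∑ j ∈ Finset.range (n + 1), (0 : ℕ → R) j • e j = 0 := by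
    simp only [Pi.zero_apply, zero_smul, Finset.sum_const_zero]
  let f : {t : R // eval t (Xq p c 0 n) = t} → {y : M // T y = y} := fun t =>
    ⟨yOf p e n c 0 t.1, by
      have := T_yOf_sub p T hT e he n c hrel 0 t.1 t.2
      rw [hz] at this
      exact sub_eq_zero.mp this⟩
  apply Nat.card_congr
  refine Equiv.ofBijective f ⟨?_, ?_⟩
  · intro t t' h
    apply Subtype.ext
    exact yOf_injective p e n c hli 0 _ _ t.2 t'.2 (congrArg Subtype.val h)
  · intro y
    obtain ⟨t, ht, hy⟩ := exists_root_of_solution p T hT e he n c hrel hli hsp 0 y.1 (by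
      rw [hz]; exact sub_eq_zero.mpr y.2)
    exact ⟨⟨t, ht⟩, Subtype.ext hy.symm⟩

end Cyclic

section Hensel

open IsLocalRing TensorProduct

variable {R : Type u} [CommRing R]

lemma charP_residueField (p : ℕ) [Fact p.Prime] [IsLocalRing R] [CharP R p] :
    CharP (ResidueField R) p := by
  have h0 : ((p : ℕ) : ResidueField R) = 0 := by
    rw [← map_natCast (residue R), CharP.cast_eq_zero, map_zero]
  exact (CharP.charP_iff_prime_eq_zero Fact.out).mpr h0

/-- roots of a monic polynomial with unit constant derivative over a strictly henselian ring. -/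
lemma hensel_count [HenselianLocalRing R] [IsSepClosed (ResidueField R)]
    (f : R[X]) (hf : f.Monic) (u : R) (hu : IsUnit u) (hder : derivative f = C u) :
    Nat.card {t : R // f.IsRoot t} = f.natDegree := by
  classical
  set g : (ResidueField R)[X] := f.map (residue R) with hg
  have hgm : g.Monic := hf.map _
  have hgdeg : g.natDegree = f.natDegree := hf.natDegree_map _
  have hgder : derivative g = C (residue R u) := by
    rw [hg, derivative_map, hder, map_C]
  have hu' : residue R u ≠ 0 := (hu.map (residue R)).ne_zero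
  have hsep : g.Separable := by
    rw [separable_def, hgder]
    refine ⟨0, C (residue R u)⁻¹, ?_⟩
    rw [zero_mul, zero_add, ← C_mul, inv_mul_cancel₀ hu', C_1]
  have hcard := card_rootSet_eq_natDegree (K := ResidueField R) hsep
    (IsSepClosed.splits_codomain _ hsep)
  rw [← hgdeg, ← hcard, ← Nat.card_eq_fintype_card]
  apply Nat.card_congr
  have hmem : ∀ a : ResidueField R, a ∈ g.rootSet (ResidueField R) ↔ eval a g = 0 := by
    intro a
    rw [mem_rootSet, coe_aeval_eq_eval]
    exact ⟨fun h => h.2, fun h => ⟨hgm.ne_zero, h⟩⟩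
  let F : {t : R // f.IsRoot t} → g.rootSet (ResidueField R) := fun t =>
    ⟨residue R t.1, by
      rw [hmem, hg, eval_map, eval₂_at_apply, t.2.eq_zero, map_zero]⟩
  refine Equiv.ofBijective F ⟨?_, ?_⟩
  · intro t t' h
    have h1 : residue R t.1 = residue R t'.1 := congrArg Subtype.val h
    apply Subtype.ext
    apply IsLocalRing.eq_of_eval_eq_zero_of_not_isUnit_sub t.2 t'.2
    · rw [← mem_nonunits_iff, ← mem_maximalIdeal, ← residue_eq_zero_iff, map_sub, h1, sub_self]
    · rw [hder, eval_C]; exact hu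
  · intro a
    have ha := (hmem a.1).mp a.2
    have H := ((HenselianLocalRing.TFAE R).out 0 2).mp ‹HenselianLocalRing R›
    obtain ⟨t, ht, hta⟩ := H (residue R) residue_surjective f hf a.1
      (by rw [← eval_map]; exact ha)
      (by rw [hder, eval₂_C]; exact hu')
    exact ⟨⟨t, ht⟩, Subtype.ext hta⟩

section BarT

variable (p : ℕ) [Fact p.Prime] {κ : Type u} [Field κ] [Algebra R κ] [CharP κ p]
variable {M : Type v} [AddCommGroup M] [Module R M]
variable (T : M →+ M) (hT : ∀ (r : R) (m : M), T (r • m) = r ^ p • T m)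

/-- the induced additive map on `κ ⊗ M`. -/
def barTAdd : κ ⊗[R] M →+ κ ⊗[R] M :=
  TensorProduct.liftAddHom
    { toFun := fun a => ((TensorProduct.mk R κ M (a ^ p)).toAddMonoidHom).comp T
      map_zero' := by
        ext m
        simp [zero_pow (Fact.out : p.Prime).ne_zero]
      map_add' := fun a b => by
        ext m
        simp [add_pow_char] }
    (fun r a m => by
      simp only [AddMonoidHom.coe_mk, ZeroHom.coe_mk, AddMonoidHom.coe_comp,
        LinearMap.toAddMonoidHom_coe, Function.comp_apply, mk_apply]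
      rw [hT, _root_.smul_pow, tmul_smul, smul_tmul'])

lemma barTAdd_tmul (a : κ) (m : M) : barTAdd p T hT (a ⊗ₜ[R] m) = (a ^ p) ⊗ₜ[R] T m := rfl

/-- the induced semilinear map on `κ ⊗ M`. -/
def barT : κ ⊗[R] M →ₛₗ[iterateFrobenius κ p 1] κ ⊗[R] M where
  toFun := barTAdd p T hT
  map_add' := map_add _
  map_smul' := by
    intro c x
    induction x using TensorProduct.induction_on with
    | zero => simp
    | tmul a m =>
      rw [smul_tmul', smul_eq_mul, barTAdd_tmul, barTAdd_tmul, mul_pow, iterateFrobenius_def,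
        pow_one, smul_tmul', smul_eq_mul]
    | add x y hx hy => rw [smul_add, map_add, hx, hy, map_add, smul_add]

lemma barT_tmul (a : κ) (m : M) : barT p T hT (a ⊗ₜ[R] m) = (a ^ p) ⊗ₜ[R] T m := rfl

lemma barT_one_tmul (m : M) : barT p T hT ((1 : κ) ⊗ₜ[R] m) = (1 : κ) ⊗ₜ[R] T m := by
  rw [barT_tmul, one_pow]

lemma barT_iterate (m : M) (j : ℕ) :
    (⇑(barT (κ := κ) p T hT))^[j] ((1 : κ) ⊗ₜ[R] m) = (1 : κ) ⊗ₜ[R] (⇑T)^[j] m := by
  induction j with
  | zero => rfl
  | succ j ih =>
    rw [Function.iterate_succ_apply', ih, barT_one_tmul, Function.iterate_succ_apply']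

lemma span_range_barT (hspan : Submodule.span R (Set.range T) = ⊤) :
    Submodule.span κ (Set.range (barT (κ := κ) p T hT)) = ⊤ := by
  rw [eq_top_iff]
  rintro x -
  have key : ∀ m : M, m ∈ Submodule.span R (Set.range T) →
      ∀ a : κ, a ⊗ₜ[R] m ∈ Submodule.span κ (Set.range (barT (κ := κ) p T hT)) := by
    intro m hm
    induction hm using Submodule.span_induction with
    | mem m hm =>
      obtain ⟨m', rfl⟩ := hm
      intro a
      have : a ⊗ₜ[R] T m' = a • barT (κ := κ) p T hT ((1 : κ) ⊗ₜ[R] m') := by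
        rw [barT_one_tmul, smul_tmul', smul_eq_mul, mul_one]
      rw [this]
      exact Submodule.smul_mem _ _ (Submodule.subset_span ⟨_, rfl⟩)
    | zero => intro a; rw [tmul_zero]; exact Submodule.zero_mem _
    | add m₁ m₂ _ _ h₁ h₂ => intro a; rw [tmul_add]; exact Submodule.add_mem _ (h₁ a) (h₂ a)
    | smul r m _ h => intro a; rw [tmul_smul, smul_tmul']; exact h (r • a)
  induction x using TensorProduct.induction_on with
  | zero => exact Submodule.zero_mem _
  | tmul a m => exact key m (by rw [hspan]; exact Submodule.mem_top) a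
  | add x y hx hy => exact Submodule.add_mem _ hx hy

end BarT

/-- a cyclic basis of `M`. -/
theorem exists_cyclic_lift (p : ℕ) [Fact p.Prime] [HenselianLocalRing R]
    [IsSepClosed (ResidueField R)] [CharP R p]
    {M : Type v} [AddCommGroup M] [Module R M] [Module.Free R M] [Module.Finite R M]
    (T : M →+ M) (hT : ∀ (r : R) (m : M), T (r • m) = r ^ p • T m)
    (hspan : Submodule.span R (Set.range T) = ⊤) :
    ∃ w : M, LinearIndependent R (fun j : Fin (Module.finrank R M) => (⇑T)^[(j : ℕ)] w) ∧
      Submodule.span R (Set.range (fun j : Fin (Module.finrank R M) => (⇑T)^[(j : ℕ)] w)) = ⊤ := by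
  classical
  haveI : CharP (ResidueField R) p := charP_residueField p
  have hN : Module.finrank (ResidueField R) (ResidueField R ⊗[R] M) = Module.finrank R M :=
    Module.finrank_baseChange
  obtain ⟨v, hv⟩ := FrobField_helper3.exists_cyclic p (barT (κ := ResidueField R) p T hT)
    (span_range_barT p T hT hspan)
  rw [hN] at hv
  obtain ⟨w, rfl⟩ := TensorProduct.mk_surjective R M (ResidueField R) residue_surjective v
  refine ⟨w, ?_⟩
  have hv' : LinearIndependent (ResidueField R)
      (fun j : Fin (Module.finrank R M) => (1 : ResidueField R) ⊗ₜ[R] (⇑T)^[(j : ℕ)] w) := by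
    have heq : (fun j : Fin (Module.finrank R M) =>
        (1 : ResidueField R) ⊗ₜ[R] (⇑T)^[(j : ℕ)] w) =
        fun j : Fin (Module.finrank R M) => (⇑(barT (κ := ResidueField R) p T hT))^[(j : ℕ)]
          ((TensorProduct.mk R (ResidueField R) M 1) w) := by
      funext j
      exact (barT_iterate p T hT w j).symm
    rw [heq]
    exact hv
  let b' := basisOfLinearIndependentOfCardEqFinrank' _ hv' (by rw [Fintype.card_fin, hN])
  have hsp : Submodule.span R
      (Set.range (fun j : Fin (Module.finrank R M) => (⇑T)^[(j : ℕ)] w)) = ⊤ :=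
    IsLocalRing.span_eq_top_of_tmul_eq_basis _ b' (fun i => by
      rw [coe_basisOfLinearIndependentOfCardEqFinrank'])
  exact ⟨linearIndependent_of_top_le_span_of_card_eq_finrank hsp.ge (by rw [Fintype.card_fin]), hsp⟩

end Hensel

section MainThm

open IsLocalRing

variable {R : Type u} [CommRing R]

/-- the `0`-th coordinate of a combination of the basis vectors. -/
lemma repr_zero_sum {M : Type v} [AddCommGroup M] [Module R M] (e : ℕ → M) (n : ℕ)
    (b : Module.Basis (Fin (n + 1)) R M) (hb : ∀ i : Fin (n + 1), b i = e i) (r : ℕ → R) :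
    b.repr (∑ j ∈ Finset.range (n + 1), r j • e j) 0 = r 0 := by
  classical
  rw [← Fin.sum_univ_eq_sum_range (fun j => r j • e j) (n + 1)]
  simp only [← hb, map_sum, map_smul, Module.Basis.repr_self, Finsupp.smul_single, smul_eq_mul,
    mul_one, Finsupp.coe_finset_sum, Finset.sum_apply, Finsupp.single_apply]
  rw [Finset.sum_eq_single (0 : Fin (n + 1))]
  · simp
  · intro i _ hi
    rw [if_neg hi]
  · intro h; exact absurd (Finset.mem_univ _) h

theorem main (p : ℕ) [Fact p.Prime] [HenselianLocalRing R]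
    [IsSepClosed (ResidueField R)] [CharP R p]
    {M : Type v} [AddCommGroup M] [Module R M] [Module.Free R M] [Module.Finite R M]
    (T : M →+ M) (hT : ∀ (r : R) (m : M), T (r • m) = r ^ p • T m)
    (hspan : Submodule.span R (Set.range T) = ⊤) :
    Function.Surjective (fun m => T m - m) ∧
      Nat.card {m : M // T m = m} = p ^ Module.finrank R M := by
  classical
  rcases Nat.eq_zero_or_pos (Module.finrank R M) with h0 | hpos
  · have hss : Subsingleton M := (Module.finrank_eq_zero_iff_of_free R M).mp h0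
    refine ⟨fun y => ⟨0, Subsingleton.elim _ _⟩, ?_⟩
    rw [h0, pow_zero]
    haveI : Unique {m : M // T m = m} :=
      ⟨⟨⟨0, map_zero T⟩⟩, fun a => Subtype.ext (Subsingleton.elim _ _)⟩
    exact Nat.card_unique
  obtain ⟨w, hwli, hwsp⟩ := exists_cyclic_lift p T hT hspan
  obtain ⟨n, hn⟩ : ∃ n, Module.finrank R M = n + 1 := ⟨Module.finrank R M - 1, by omega⟩
  rw [hn] at hwli hwsp ⊢
  set e : ℕ → M := fun j => (⇑T)^[j] w with he_def
  have he : ∀ j, e (j + 1) = T (e j) := fun j => Function.iterate_succ_apply' _ _ _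
  have hli : LinearIndependent R (fun i : Fin (n + 1) => e i) := hwli
  have hsp : Submodule.span R (Set.range (fun i : Fin (n + 1) => e i)) = ⊤ := hwsp
  obtain ⟨c, hrel⟩ := exists_coords e n hsp (e (n + 1))
  have hp2 : 2 ≤ p := (Fact.out : p.Prime).two_le
  have hp0 : ((p : ℕ) : R) = 0 := CharP.cast_eq_zero R p
  -- `c 0` is a unit
  have hc0 : IsUnit (c 0) := by
    let b : Module.Basis (Fin (n + 1)) R M := Module.Basis.mk hli hsp.ge
    have hb : ∀ i : Fin (n + 1), b i = e i := fun i => by
      rw [Module.Basis.mk_apply]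
    let S : Submodule R M := Submodule.comap (b.coord 0) (Ideal.span {c 0})
    have hS : Submodule.span R (Set.range T) ≤ S := by
      rw [Submodule.span_le]
      rintro _ ⟨y, rfl⟩
      obtain ⟨x, rfl⟩ := exists_coords e n hsp y
      rw [T_sum p T hT e he n c hrel]
      show b.coord 0 _ ∈ Ideal.span {c 0}
      rw [Module.Basis.coord_apply, repr_zero_sum e n b hb]
      show c 0 * x n ^ p ∈ Ideal.span {c 0}
      exact Ideal.mul_mem_right _ _ (Ideal.subset_span rfl)
    have h1 : e 0 ∈ S := hS (by rw [hspan]; exact Submodule.mem_top)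
    have h2 : b.coord 0 (e 0) = 1 := by
      have := hb 0
      rw [Module.Basis.coord_apply, show e 0 = e ((0 : Fin (n + 1)) : ℕ) from rfl, ← hb 0,
        Module.Basis.repr_self, Finsupp.single_eq_same]
    have h3 : (1 : R) ∈ Ideal.span {c 0} := by
      rw [← h2]; exact h1
    obtain ⟨a, ha⟩ := Ideal.mem_span_singleton'.mp h3
    exact IsUnit.of_mul_eq_one a (by rw [mul_comm]; exact ha)
  obtain ⟨u, hu⟩ := (hc0.pow (p ^ n)).exists_left_inv
  have huu : IsUnit u := IsUnit.of_mul_eq_one _ hu
  have hfacts := fun w' : ℕ → R => Fpoly_facts p hp2 hp0 c w' hc0 n u hu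
  have hcount : ∀ w' : ℕ → R, Nat.card {t : R // (Fpoly p c w' n u).IsRoot t} = p ^ (n + 1) := by
    intro w'
    obtain ⟨h1, h2, h3⟩ := hfacts w'
    rw [hensel_count (Fpoly p c w' n u) h1 (-u) huu.neg (by rw [h3, C_neg]), h2]
  refine ⟨?_, ?_⟩
  · intro y
    obtain ⟨w', hy⟩ := exists_coords e n hsp y
    have hpos' : 0 < Nat.card {t : R // (Fpoly p c w' n u).IsRoot t} := by
      rw [hcount w']; positivity
    obtain ⟨⟨t, ht⟩⟩ := (Nat.card_pos_iff.mp hpos').1
    rw [Fpoly_isRoot_iff p c w' n u huu] at ht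
    refine ⟨yOf p e n c w' t, ?_⟩
    show T (yOf p e n c w' t) - yOf p e n c w' t = y
    rw [T_yOf_sub p T hT e he n c hrel w' t ht, hy]
  · rw [card_fixed_eq p T hT e he n c hrel hli hsp, ← hcount 0]
    apply Nat.card_congr
    exact Equiv.subtypeEquivRight (fun t => (Fpoly_isRoot_iff p c 0 n u huu t).symm)

end MainThm

end Groth.Agent.Lib.FrobHens_helper3

namespace Groth.Agent.Lib.FrobHens_helper3

section FG

open IsLocalRing TensorProduct

/-- over a noetherian local ring of characteristic `p` with separably closed residue field, a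
finite module with a surjective Frobenius-semilinear additive endomorphism `T` is killed by the
maximal ideal, `T - 1` is surjective, and there are `p ^ dim (κ ⊗ M)` fixed vectors. -/
theorem main_fg (p : ℕ) [Fact p.Prime] {R : Type u} [CommRing R] [IsLocalRing R]
    [IsNoetherianRing R] [IsSepClosed (ResidueField R)] [CharP R p]
    {M : Type v} [AddCommGroup M] [Module R M] [Module.Finite R M]
    (T : M →+ M) (hT : ∀ (r : R) (m : M), T (r • m) = r ^ p • T m)
    (hsurj : Function.Surjective T) :
    Function.Surjective (fun m => T m - m) ∧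
      Nat.card {m : M // T m = m} =
        p ^ Module.finrank (ResidueField R) (TensorProduct R (ResidueField R) M) := by
  classical
  haveI : CharP (ResidueField R) p := charP_residueField p
  have hp2 : 2 ≤ p := (Fact.out : p.Prime).two_le
  have hspan : Submodule.span R (Set.range T) = ⊤ := by
    rw [eq_top_iff]
    intro m _
    exact Submodule.subset_span (hsurj m)
  set φ := barT (κ := ResidueField R) p T hT with hφ
  have hspanφ : Submodule.span (ResidueField R) (Set.range φ) = ⊤ := span_range_barT p T hT hspan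
  have hinjφ : Function.Injective φ := FrobField_helper3.injective_of_span φ hspanφ
  set π : M →ₗ[R] ResidueField R ⊗[R] M := TensorProduct.mk R (ResidueField R) M 1 with hπ
  have hker : LinearMap.ker π = maximalIdeal R • (⊤ : Submodule R M) :=
    LinearMap.ker_tensorProductMk M
  have hπT : ∀ m, π (T m) = φ (π m) := fun m => (barT_one_tmul p T hT m).symm
  have hπsurj : Function.Surjective π :=
    TensorProduct.mk_surjective R M (ResidueField R) residue_surjective
  -- `T` maps `𝔪 M` into `𝔪 (𝔪 M)`
  have hTm : ∀ y ∈ maximalIdeal R • (⊤ : Submodule R M),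
      T y ∈ maximalIdeal R • (maximalIdeal R • (⊤ : Submodule R M)) := by
    intro y hy
    refine Submodule.smul_induction_on hy ?_ ?_
    · intro r hr m _
      rw [hT]
      have h1 : r ^ p = r * r ^ (p - 1) := by
        rw [← pow_succ']; congr 1; omega
      rw [h1, mul_smul]
      refine Submodule.smul_mem_smul hr (Submodule.smul_mem_smul ?_ Submodule.mem_top)
      exact Ideal.pow_mem_of_mem _ hr _ (by omega)
    · intro x y hx hy
      rw [map_add]; exact Submodule.add_mem _ hx hy
  have hle : maximalIdeal R • (⊤ : Submodule R M) ≤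
      maximalIdeal R • (maximalIdeal R • (⊤ : Submodule R M)) := by
    intro x hx
    obtain ⟨y, rfl⟩ := hsurj x
    have h1 : π (T y) = 0 := by
      rw [← LinearMap.mem_ker, hker]; exact hx
    rw [hπT] at h1
    have h2 : π y = 0 := hinjφ (by rw [h1, map_zero])
    have h3 : y ∈ maximalIdeal R • (⊤ : Submodule R M) := by
      rw [← hker, LinearMap.mem_ker]; exact h2
    exact hTm y h3
  have hbot : maximalIdeal R • (⊤ : Submodule R M) = ⊥ :=
    Submodule.eq_bot_of_le_smul_of_le_jacobson_bot (maximalIdeal R) _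
      (IsNoetherian.noetherian _) hle (maximalIdeal_le_jacobson ⊥)
  have hπinj : Function.Injective π := by
    rw [← LinearMap.ker_eq_bot, hker, hbot]
  refine ⟨?_, ?_⟩
  · intro y
    obtain ⟨v, hv⟩ := FrobField_helper3.exists_sub_eq p φ (π y)
    obtain ⟨m, rfl⟩ := hπsurj v
    refine ⟨m, ?_⟩
    apply hπinj
    show π (T m - m) = π y
    rw [map_sub, hπT, hv]
  · rw [← FrobField_helper3.card_fixed p φ hspanφ]
    apply Nat.card_congr
    refine Equiv.subtypeEquiv (Equiv.ofBijective π ⟨hπinj, hπsurj⟩) (fun m => ?_)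
    show T m = m ↔ φ (π m) = π m
    rw [← hπT]
    exact ⟨fun h => by rw [h], fun h => hπinj h⟩

end FG

end Groth.Agent.Lib.FrobHens_helper3
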