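import Mathlib
import Groth.Prelude

/-!
# `Y ⟶ Y♭` (to the image of Frobenius) is an epimorphism (helper4).
APPEND-ONLY once landed.
-/

set_option autoImplicit false
set_option linter.style.haveILetI false

universe u

open CategoryTheory CategoryTheory.Limits AlgebraicGeometry Opposite TopologicalSpace

namespace Groth.Agent.Lib.FrobImageEpiH4

instance quasiCompact_frob (p : ℕ) [Fact p.Prime] (Y : Scheme.{u}) [FrobSch.IsCharP Y p] :
    QuasiCompact (FrobSch.frob Y p) :=
  ⟨fun _ _ hU => hU⟩

/-- For quasi-compact `f`, `f.toImage` is injective on sections over every open. -/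
theorem toImage_app_injective_all {X Y : Scheme.{u}} (f : X ⟶ Y) [QuasiCompact f]
    (V : f.image.Opens) : Function.Injective (f.toImage.app V).hom := by
  intro a b hab
  refine TopCat.Presheaf.section_ext f.image.sheaf V a b (fun x hx => ?_)
  obtain ⟨V', ⟨W, hW, rfl⟩, hxV', hV'V⟩ := Opens.isBasis_iff_nbhd.mp
    (Y.isBasis_affineOpens.of_isInducing f.imageι.isEmbedding.isInducing) hx
  have hinj := f.toImage_app_injective ⟨W, hW⟩
  have nat := fun s => congrArg (fun k => k.hom s) (f.toImage.naturality (homOfLE hV'V).op)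
  have hres : (f.image.presheaf.map (homOfLE hV'V).op).hom a =
      (f.image.presheaf.map (homOfLE hV'V).op).hom b :=
    hinj ((nat a).trans ((congrArg _ hab).trans (nat b).symm))
  have ga := TopCat.Presheaf.germ_res_apply f.image.presheaf (homOfLE hV'V) x hxV' a
  have gb := TopCat.Presheaf.germ_res_apply f.image.presheaf (homOfLE hV'V) x hxV' b
  exact ga.symm.trans ((congrArg _ hres).trans gb)

theorem toImage_surjective (p : ℕ) [Fact p.Prime] (Y : Scheme.{u}) [FrobSch.IsCharP Y p]
    (x : (FrobSch.frob Y p).image) : ∃ y : Y, (FrobSch.frob Y p).toImage y = x := by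
  refine ⟨(FrobSch.frob Y p).imageι x, ?_⟩
  apply (FrobSch.frob Y p).imageι.isEmbedding.injective
  have h1 : ((FrobSch.frob Y p).toImage ≫ (FrobSch.frob Y p).imageι)
      ((FrobSch.frob Y p).imageι x) = (FrobSch.frob Y p) ((FrobSch.frob Y p).imageι x) := by
    rw [Scheme.Hom.toImage_imageι]
  exact h1

theorem main19611 (p : ℕ) [Fact p.Prime] (Y : Scheme.{u}) [FrobSch.IsCharP Y p] :
    Epi (FrobSch.frob Y p).toImage := by
  refine ⟨fun {Z} g₁ g₂ h => ?_⟩
  have hpt : ∀ x, g₁ x = g₂ x := by
    intro x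
    obtain ⟨y, rfl⟩ := toImage_surjective p Y x
    exact congrArg (fun k : Y ⟶ Z => k y) h
  have hb : g₁.base = g₂.base := ConcreteCategory.hom_ext _ _ (fun x => hpt x)
  refine (Scheme.Hom.ext hb.symm (fun U => ?_)).symm
  ext s
  have E : g₁ ⁻¹ᵁ U = g₂ ⁻¹ᵁ U :=
    congrArg (fun (b : (FrobSch.frob Y p).image.toTopCat ⟶ Z.toTopCat) => (Opens.map b).obj U) hb
  have h1 := congrArg (fun k => k.hom s) (Scheme.Hom.congr_app h U)
  have nat := congrArg (fun k => k.hom ((g₂.app U).hom s))
    ((FrobSch.frob Y p).toImage.naturality (eqToHom E).op)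
  have key : ((FrobSch.frob Y p).toImage.app (g₁ ⁻¹ᵁ U)).hom
      (((FrobSch.frob Y p).image.presheaf.map (eqToHom E).op).hom ((g₂.app U).hom s)) =
      ((FrobSch.frob Y p).toImage.app (g₁ ⁻¹ᵁ U)).hom ((g₁.app U).hom s) := nat.trans h1.symm
  exact toImage_app_injective_all _ _ key

end Groth.Agent.Lib.FrobImageEpiH4
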