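import Mathlib
import Groth.Prelude.Def_CAlg
import Groth.Agent.Lib.FlatRegSeq_helper5
import Groth.Agent.Lib.FiniteFree_helper5
import Groth.Agent.Lib.RegQuot_helper5
import Groth.Agent.Lib.FibRegSeq2_helper8
import Groth.Agent.Lib.GorLCI_helper9
import Groth.Agent.Lib.GorFlat_helper9
import Groth.Agent.Lib.InjHull_helper3
import Groth.Agent.S0342

/-!
# Frobenius on regular local rings (helper1), part 1

* `isRegular_map_pow`: powers of a regular system of parameters of a regular local ring form a
  regular sequence;
* `flat_frobenius`: the Frobenius of a regular local ring is flat (Kunz, easy direction);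
* `injective_quot_map_pow`: `R ⧸ (x₁^q, …, x_d^q)` is self-injective;
* `injective_finsupp_quot`: free modules over it are injective.

APPEND-ONLY once landed.
-/

set_option autoImplicit false
universe u

namespace Groth.Agent.Lib.FrobInjH1

open IsLocalRing RingTheory.Sequence

section powers

variable (R : Type u) [CommRing R] [IsRegularLocalRing R]

theorem map_pow_mem_maximalIdeal (l : List R) (hl : Ideal.ofList l = maximalIdeal R) (q : ℕ)
    (hq : 0 < q) : ∀ x ∈ l.map (· ^ q), x ∈ maximalIdeal R := by
  intro x hx
  obtain ⟨y, hy, rfl⟩ := List.mem_map.mp hx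
  have hy' : y ∈ maximalIdeal R := by
    rw [← hl]
    exact Ideal.subset_span hy
  exact Ideal.pow_mem_of_mem _ hy' q hq

theorem ofList_map_pow_le (l : List R) (hl : Ideal.ofList l = maximalIdeal R) (q : ℕ)
    (hq : 0 < q) : Ideal.ofList (l.map (· ^ q)) ≤ maximalIdeal R := by
  refine Ideal.span_le.2 ?_
  intro x hx
  exact map_pow_mem_maximalIdeal R l hl q hq x hx

theorem ringKrullDim_quot_map_pow (l : List R) (hl : Ideal.ofList l = maximalIdeal R) (q : ℕ)
    (hq : 0 < q) : ringKrullDim (R ⧸ Ideal.ofList (l.map (· ^ q))) = 0 := by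
  have hle := ofList_map_pow_le R l hl q hq
  haveI : Nontrivial (R ⧸ Ideal.ofList (l.map (· ^ q))) := by
    refine Ideal.Quotient.nontrivial_iff.mpr (fun h => ?_)
    rw [h] at hle
    exact (maximalIdeal.isMaximal R).ne_top (top_le_iff.mp hle)
  rw [← ringKrullDimZero_iff_ringKrullDim_eq_zero,
    Ideal.krullDimLE_zero_quotient_iff_forall_minimalPrimes_isMaximal]
  intro P hP
  have hP2 : (Ideal.ofList (l.map (· ^ q))).IsMinimalPrime P := hP
  have hPprime : P.IsPrime := hP2.isPrime
  have hm : maximalIdeal R ≤ P := by
    rw [← hl]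
    refine Ideal.span_le.2 ?_
    intro x hx
    have h1 : x ^ q ∈ P := hP2.le (Ideal.subset_span (List.mem_map.mpr ⟨x, hx, rfl⟩))
    exact hPprime.mem_of_pow_mem q h1
  have hP' : P = maximalIdeal R := le_antisymm (le_maximalIdeal hPprime.ne_top) hm
  rw [hP']
  exact maximalIdeal.isMaximal R

/-- powers of a regular system of parameters form a regular sequence. -/
theorem isRegular_map_pow (l : List R) (hl : Ideal.ofList l = maximalIdeal R)
    (hlen : l.length = (maximalIdeal R).spanFinrank) (q : ℕ) (hq : 0 < q) :
    IsRegular R (l.map (· ^ q)) := by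
  haveI : LocCoh.IsCohenMacaulayLocalRing R := ⟨Groth.Agent.RegQuot.isCM_of_regular R⟩
  rw [Groth.Agent.Lib.FibRegSeqH8.isRegular_iff_dim R _ (map_pow_mem_maximalIdeal R l hl q hq),
    ringKrullDim_quot_map_pow R l hl q hq, zero_add, List.length_map, hlen]
  exact IsRegularLocalRing.spanFinrank_maximalIdeal

/-- `R ⧸ (x₁^q, …, x_d^q)` is self-injective. -/
theorem injective_quot_map_pow (l : List R) (hl : Ideal.ofList l = maximalIdeal R)
    (hlen : l.length = (maximalIdeal R).spanFinrank) (q : ℕ) (hq : 0 < q) (J : Ideal R)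
    (hJ : J = Ideal.ofList (l.map (· ^ q))) : Module.Injective (R ⧸ J) (R ⧸ J) := by
  subst hJ
  have hreg := isRegular_map_pow R l hl hlen q hq
  have hG : LocCoh.IsGorensteinLocalRing (R ⧸ Ideal.ofList (l.map (· ^ q))) :=
    Groth.Agent.GorLCI9.gorenstein_quot_ofList (l.map (· ^ q)).length R (l.map (· ^ q)) rfl
      (map_pow_mem_maximalIdeal R l hl q hq) hreg.toIsWeaklyRegular (Groth.Agent.S0342.result R)
  haveI := hG.toIsLocalRing
  exact Groth.Agent.GorFlat9.injective_of_gorenstein (R ⧸ Ideal.ofList (l.map (· ^ q)))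
    (ringKrullDim_quot_map_pow R l hl q hq) hG

end powers

section bass

/-- free modules over a self-injective Noetherian ring are injective. -/
theorem injective_finsupp_of_self {A : Type u} [CommRing A] [IsNoetherianRing A]
    (hA : Module.Injective A A) (ι : Type u) : Module.Injective A (ι →₀ A) := by
  classical
  have h1 : Module.Injective A (DirectSum ι fun _ : ι => A) :=
    Groth.Agent.Lib.InjHull_helper3.injective_directSum (fun _ : ι => A) (fun _ => hA)
  exact Module.Baer.injective
    (Module.Baer.of_equiv (finsuppLEquivDirectSum A A ι).symm (Module.Baer.of_injective h1))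

end bass

section kunz

/-- A copy of `R`, regarded as an `R`-algebra through the Frobenius endomorphism. -/
def FrobCopy (R : Type u) (_p : ℕ) : Type u := R

instance instCommRingFrobCopy (R : Type u) [CommRing R] (p : ℕ) : CommRing (FrobCopy R p) :=
  inferInstanceAs (CommRing R)

noncomputable instance instAlgebraFrobCopy (R : Type u) [CommRing R] (p : ℕ) [ExpChar R p] :
    Algebra R (FrobCopy R p) :=
  RingHom.toAlgebra (show R →+* FrobCopy R p from frobenius R p)

instance (R : Type u) [CommRing R] (p : ℕ) [IsLocalRing R] : IsLocalRing (FrobCopy R p) :=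
  inferInstanceAs (IsLocalRing R)

instance (R : Type u) [CommRing R] (p : ℕ) [IsNoetherianRing R] :
    IsNoetherianRing (FrobCopy R p) :=
  inferInstanceAs (IsNoetherianRing R)

variable (R : Type u) [CommRing R] (p : ℕ) [ExpChar R p]

theorem algebraMap_frobCopy (x : R) : (algebraMap R (FrobCopy R p) x : R) = x ^ p := rfl

theorem isLocalHom_frobCopy [IsLocalRing R] : IsLocalHom (algebraMap R (FrobCopy R p)) := by
  constructor
  intro a ha
  have h1 : IsUnit (a ^ p) := ha
  exact (isUnit_pow_iff (expChar_pos R p).ne').mp h1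

/-- **Kunz** (easy direction): the Frobenius endomorphism of a regular local ring is flat. -/
theorem flat_frobenius [IsRegularLocalRing R] : (frobenius R p).Flat := by
  obtain ⟨l, -, hspan, hlen⟩ := Groth.Agent.FiniteFree.exists_regular_sop R
  have hp : 0 < p := expChar_pos R p
  have hreg : IsRegular R (l.map (· ^ p)) := isRegular_map_pow R l hspan hlen p hp
  haveI := isLocalHom_frobCopy R p
  have hw' : IsWeaklyRegular (FrobCopy R p) l := by
    refine (AddEquiv.isWeaklyRegular_congr (R := R) (S := R) (M := R) (M₂ := FrobCopy R p)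
      (e := (AddEquiv.refl R : R ≃+ FrobCopy R p)) (as := l.map (· ^ p)) (bs := l) ?_).mp
      hreg.toIsWeaklyRegular
    refine List.forall₂_map_left_iff.mpr (List.forall₂_same.mpr fun r _ x => ?_)
    rfl
  have := Groth.Agent.FlatRegSeq.flat_of_isWeaklyRegular (A := R) (B := FrobCopy R p)
    (FrobCopy R p) l hspan hw'
  exact this

end kunz

end Groth.Agent.Lib.FrobInjH1
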