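import Mathlib

/-!
# Flat base change of annihilator submodules (helper1), part 2 of `FrobInj`

For a flat `R`-algebra `S` and a finitely generated ideal `J` of `R`, the elements of `S ⊗[R] M`
killed by `J S` are `S ⊗[R] (elements of M killed by J)`; if the latter is free over `R ⧸ J`,
the former is free over `S ⧸ J S` on the same basis.

APPEND-ONLY once landed.
-/

set_option autoImplicit false
universe u

namespace Groth.Agent.Lib.FrobInjH1

open TensorProduct

section ann

variable {R : Type u} [CommRing R] {M : Type u} [AddCommGroup M] [Module R M]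

theorem mem_ann (J : Ideal R) (x : M) :
    x ∈ Submodule.torsionBySet R M (J : Set R) ↔ ∀ a ∈ J, a • x = 0 := by
  rw [Submodule.mem_torsionBySet_iff]
  exact ⟨fun h a ha => h ⟨a, ha⟩, fun h a => h a.1 a.2⟩

/-- transport of annihilator submodules along a linear equivalence -/
noncomputable def annEquiv {M' : Type u} [AddCommGroup M'] [Module R M'] (θ : M ≃ₗ[R] M')
    (J : Ideal R) :
    ↥(Submodule.torsionBySet R M (J : Set R)) ≃ₗ[R]
      ↥(Submodule.torsionBySet R M' (J : Set R)) :=
  LinearEquiv.ofLinearMap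
    ((θ.toLinearMap.comp (Submodule.subtype _)).codRestrict _ (fun x => by
      rw [mem_ann]
      intro a ha
      rw [LinearMap.comp_apply, Submodule.subtype_apply, LinearEquiv.coe_coe, ← map_smul,
        (mem_ann J _).1 x.2 a ha, map_zero]))
    ((θ.symm.toLinearMap.comp (Submodule.subtype _)).codRestrict _ (fun x => by
      rw [mem_ann]
      intro a ha
      rw [LinearMap.comp_apply, Submodule.subtype_apply, LinearEquiv.coe_coe, ← map_smul,
        (mem_ann J _).1 x.2 a ha, map_zero]))
    (by ext x; simp)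
    (by ext x; simp)

theorem annEquiv_coe {M' : Type u} [AddCommGroup M'] [Module R M'] (θ : M ≃ₗ[R] M')
    (J : Ideal R) (x : ↥(Submodule.torsionBySet R M (J : Set R))) :
    ((annEquiv θ J x : ↥(Submodule.torsionBySet R M' (J : Set R))) : M') = θ x := rfl

variable {S : Type u} [CommRing S] [Algebra R S]

theorem smul_eq_zero_of_mem (J : Ideal R) (a : R) (ha : a ∈ J)
    (u : S ⊗[R] ↥(Submodule.torsionBySet R M (J : Set R))) : a • u = 0 := by
  induction u using TensorProduct.induction_on with
  | zero => rw [smul_zero]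
  | tmul s k =>
    rw [← TensorProduct.tmul_smul]
    have h0 : a • k = 0 := Subtype.ext ((mem_ann J _).1 k.2 a ha)
    rw [h0, TensorProduct.tmul_zero]
  | add x y hx hy => rw [smul_add, hx, hy, add_zero]

/-- flat base change commutes with annihilators of finitely generated ideals. -/
theorem nonempty_ann_tensor_equiv [Module.Flat R S] (J : Ideal R) (hJ : J.FG) :
    Nonempty (↥(Submodule.torsionBySet S (S ⊗[R] M)
        ((J.map (algebraMap R S) : Ideal S) : Set S)) ≃ₗ[S]
      S ⊗[R] ↥(Submodule.torsionBySet R M (J : Set R))) := by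
  classical
  obtain ⟨s, hs⟩ := hJ
  let g : M →ₗ[R] (s → M) := LinearMap.pi (fun a => (a : R) • LinearMap.id)
  have hg : ∀ m (a : s), g m a = (a : R) • m := fun m a => rfl
  have hsJ : ∀ a : s, (a : R) ∈ J := fun a => hs ▸ Ideal.subset_span (Finset.mem_coe.2 a.2)
  have hex : Function.Exact (Submodule.torsionBySet R M (J : Set R)).subtype g := by
    intro m
    constructor
    · intro hm
      refine ⟨⟨m, (mem_ann J m).2 ?_⟩, rfl⟩
      intro a ha
      rw [← hs] at ha
      refine Submodule.span_induction ?_ ?_ ?_ ?_ ha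
      · intro x hx
        have h1 := congrFun hm ⟨x, Finset.mem_coe.1 hx⟩
        exact h1
      · exact zero_smul _ _
      · intro x y _ _ hx hy
        rw [add_smul, hx, hy, add_zero]
      · intro c x _ hx
        rw [smul_eq_mul, mul_smul, hx, smul_zero]
    · rintro ⟨k, rfl⟩
      funext a
      exact (mem_ann J _).1 k.2 a (hsJ a)
  have hex' := Module.Flat.lTensor_exact S hex
  have hinj := Module.Flat.lTensor_preserves_injective_linearMap (M := S)
    (Submodule.torsionBySet R M (J : Set R)).subtype (Submodule.injective_subtype _)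
  let Φ : S ⊗[R] ↥(Submodule.torsionBySet R M (J : Set R)) →ₗ[S] S ⊗[R] M :=
    (Submodule.torsionBySet R M (J : Set R)).subtype.baseChange S
  have hΦ : ∀ u, Φ u = (Submodule.torsionBySet R M (J : Set R)).subtype.lTensor S u := fun u =>
    congrFun (LinearMap.baseChange_eq_ltensor _) u
  have hmem : ∀ u, Φ u ∈ Submodule.torsionBySet S (S ⊗[R] M)
      ((J.map (algebraMap R S) : Ideal S) : Set S) := by
    intro u
    rw [mem_ann]
    have hle : J.map (algebraMap R S) ≤
        LinearMap.ker (LinearMap.toSpanSingleton S (S ⊗[R] M) (Φ u)) := by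
      rw [Ideal.map_le_iff_le_comap]
      intro a ha
      rw [Ideal.mem_comap, LinearMap.mem_ker, LinearMap.toSpanSingleton_apply, ← map_smul,
        algebraMap_smul, smul_eq_zero_of_mem J a ha, map_zero]
    intro b hb
    have h1 := hle hb
    rwa [LinearMap.mem_ker, LinearMap.toSpanSingleton_apply] at h1
  have hpi : ∀ (t : S ⊗[R] M) (a : s),
      TensorProduct.piRight R S S (fun _ : s => M) (g.lTensor S t) a = (a : R) • t := by
    intro t a
    induction t using TensorProduct.induction_on with
    | zero => simp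
    | tmul x m =>
      rw [LinearMap.lTensor_tmul, TensorProduct.piRight_apply, TensorProduct.piRightHom_tmul]
      show x ⊗ₜ[R] g m a = _
      rw [hg, TensorProduct.tmul_smul]
    | add x y hx hy =>
      rw [map_add, map_add, Pi.add_apply, hx, hy, smul_add]
  have hsurj : ∀ t ∈ Submodule.torsionBySet S (S ⊗[R] M)
      ((J.map (algebraMap R S) : Ideal S) : Set S), ∃ u, Φ u = t := by
    intro t ht
    rw [mem_ann] at ht
    have h0 : g.lTensor S t = 0 := by
      apply (TensorProduct.piRight R S S (fun _ : s => M)).injective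
      rw [map_zero]
      funext a
      rw [hpi, Pi.zero_apply, ← algebraMap_smul S (a : R) t]
      exact ht _ (Ideal.mem_map_of_mem _ (hsJ a))
    obtain ⟨u, hu⟩ := (hex' t).1 h0
    exact ⟨u, (hΦ u).trans hu⟩
  have hbij : Function.Bijective (Φ.codRestrict _ hmem) := by
    refine ⟨fun x y h => hinj ?_, fun t => ?_⟩
    · rw [← hΦ, ← hΦ]
      exact congrArg Subtype.val h
    · obtain ⟨u, hu⟩ := hsurj t.1 t.2
      exact ⟨u, Subtype.ext hu⟩
  exact ⟨(LinearEquiv.ofBijective (Φ.codRestrict _ hmem) hbij).symm⟩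

/-- freeness of annihilators is preserved by flat base change. -/
theorem nonempty_ann_tensor_equiv_finsupp [Module.Flat R S] (J : Ideal R) (hJ : J.FG)
    (ι : Type u) (e₀ : ↥(Submodule.torsionBySet R M (J : Set R)) ≃ₗ[R] (ι →₀ R ⧸ J)) :
    Nonempty (↥(Submodule.torsionBySet S (S ⊗[R] M)
        ((J.map (algebraMap R S) : Ideal S) : Set S)) ≃ₗ[S]
      (ι →₀ S ⧸ J.map (algebraMap R S))) := by
  classical
  obtain ⟨e1⟩ := nonempty_ann_tensor_equiv (M := M) (S := S) J hJ
  exact ⟨e1 ≪≫ₗ TensorProduct.AlgebraTensorModule.congr (LinearEquiv.refl S S) e₀ ≪≫ₗ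
    TensorProduct.finsuppRight R S S (R ⧸ J) ι ≪≫ₗ
    Finsupp.mapRange.linearEquiv
      (Algebra.TensorProduct.quotIdealMapEquivTensorQuot S J).symm.toLinearEquiv⟩

end ann

/-- version for `ModuleCat.extendScalars` along a flat ring homomorphism. -/
theorem nonempty_ann_extendScalars_equiv {R S : Type u} [CommRing R] [CommRing S] (φ : R →+* S)
    (hφ : φ.Flat) (M : Type u) [AddCommGroup M] [Module R M] (J : Ideal R) (hJ : J.FG)
    (ι : Type u) (e₀ : ↥(Submodule.torsionBySet R M (J : Set R)) ≃ₗ[R] (ι →₀ R ⧸ J)) :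
    Nonempty (↥(Submodule.torsionBySet S
        ((ModuleCat.extendScalars φ).obj (ModuleCat.of R M)) ((J.map φ : Ideal S) : Set S)) ≃ₗ[S]
      (ι →₀ S ⧸ J.map φ)) := by
  letI := φ.toAlgebra
  haveI : Module.Flat R S := hφ
  exact nonempty_ann_tensor_equiv_finsupp (M := M) (S := S) J hJ ι e₀

end Groth.Agent.Lib.FrobInjH1
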