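import Mathlib
import Groth.Prelude.Def_Wider
import Groth.Agent.Lib.InjHull6_helper3

/-!
# Power-torsion modules over Noetherian local rings: injectivity criteria and structure (helper1)

* `injective_of_baer_maximalIdeal`: a power-torsion module satisfying Baer's criterion for the
  maximal ideal (`Ext¹(k, M) = 0`) is injective.
* `exists_equiv_finsupp_of_injective`: an injective power-torsion module is a direct sum of
  copies of the injective hull of the residue field.
-/

set_option autoImplicit false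
universe u

namespace Groth.Agent.Lib.PTInjH1

open Groth.Agent.Lib.InjHull_helper3 Groth.Agent.Lib.InjHull2_helper3
  Groth.Agent.Lib.InjHull4_helper3 Groth.Agent.Lib.InjHull5_helper3
  Groth.Agent.Lib.InjHull6_helper3

variable {R : Type u} [CommRing R] [IsLocalRing R]

section socle

variable {X : Type u} [AddCommGroup X] [Module R X]

/-- the map from the residue field determined by an element killed by the maximal ideal. -/
noncomputable def socleMap (s : X) (hs : ∀ a ∈ IsLocalRing.maximalIdeal R, a • s = 0) :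
    IsLocalRing.ResidueField R →ₗ[R] X :=
  Submodule.liftQ (IsLocalRing.maximalIdeal R) (LinearMap.toSpanSingleton R X s) (by
    intro a ha
    rw [LinearMap.mem_ker, LinearMap.toSpanSingleton_apply]
    exact hs a ha)

lemma socleMap_residue (s : X) (hs : ∀ a ∈ IsLocalRing.maximalIdeal R, a • s = 0) (a : R) :
    socleMap s hs (IsLocalRing.residue R a) = a • s := rfl

lemma socleMap_injective (s : X) (hs : ∀ a ∈ IsLocalRing.maximalIdeal R, a • s = 0)
    (hs0 : s ≠ 0) : Function.Injective (socleMap s hs) := by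
  rw [← LinearMap.ker_eq_bot, LinearMap.ker_eq_bot']
  intro y hy
  obtain ⟨a, rfl⟩ := IsLocalRing.residue_surjective y
  rw [socleMap_residue] at hy
  by_contra hne
  have ha : IsUnit a := by
    by_contra hnu
    exact hne ((IsLocalRing.residue_eq_zero_iff a).mpr ((IsLocalRing.mem_maximalIdeal a).mpr hnu))
  obtain ⟨u, rfl⟩ := ha
  apply hs0
  calc s = ((↑u⁻¹ : R) * (↑u : R)) • s := by rw [Units.inv_mul, one_smul]
    _ = 0 := by rw [mul_smul, hy, smul_zero]

lemma range_socleMap_ne_bot (s : X) (hs : ∀ a ∈ IsLocalRing.maximalIdeal R, a • s = 0)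
    (hs0 : s ≠ 0) : LinearMap.range (socleMap s hs) ≠ ⊥ := by
  intro h
  apply hs0
  have h1 : socleMap s hs (IsLocalRing.residue R 1) ∈ LinearMap.range (socleMap s hs) := ⟨_, rfl⟩
  rw [h, Submodule.mem_bot, socleMap_residue, one_smul] at h1
  exact h1

end socle

section partA

variable [IsNoetherianRing R] {E : Type u} [AddCommGroup E] [Module R E]

/-- an injective power-torsion module is a direct sum of copies of `E`. -/
theorem exists_equiv_finsupp_of_injective (f : IsLocalRing.ResidueField R →ₗ[R] E)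
    (hf : InjHull.IsInjectiveHull f) {M : Type u} [AddCommGroup M] [Module R M]
    (hM : LocCoh.IsPowerTorsion (IsLocalRing.maximalIdeal R) M) (hinj : Module.Injective R M) :
    ∃ J : Type u, Nonempty (M ≃ₗ[R] (J →₀ E)) := by
  classical
  obtain ⟨ι, Es, hint, hEs⟩ := injective_isInternal_indecomposable hinj
  have hiso : ∀ i, Nonempty (E ≃ₗ[R] ↥(Es i)) := by
    intro i
    obtain ⟨hind, hinji⟩ := hEs i
    haveI := hind.1
    have hPT : LocCoh.IsPowerTorsion (IsLocalRing.maximalIdeal R) ↥(Es i) := by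
      intro y
      obtain ⟨n, hn⟩ := hM (y : M)
      refine ⟨n, fun a ha => ?_⟩
      apply Subtype.ext
      rw [Submodule.coe_smul, hn a ha]
      rfl
    have hsoc := socle_essential hPT
    have htop : (⊤ : Submodule R ↥(Es i)) ≠ ⊥ := top_ne_bot
    obtain ⟨s, ⟨-, ⟨⟨s', hs'⟩, rfl⟩⟩, hs0⟩ := (Submodule.ne_bot_iff _).1 (hsoc.essential ⊤ htop)
    have hs : ∀ a ∈ IsLocalRing.maximalIdeal R, a • s' = 0 := fun a ha =>
      ((Submodule.mem_torsionBySet_iff _ _).1 hs') ⟨a, ha⟩
    have hs0' : s' ≠ 0 := hs0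
    have hg : InjHull.IsInjectiveHull (socleMap s' hs) :=
      ⟨⟨socleMap_injective s' hs hs0', fun N hN =>
        inf_ne_bot_of_indecomposable hind hinji N _ hN (range_socleMap_ne_bot s' hs hs0')⟩, hinji⟩
    obtain ⟨e, -⟩ := hull_unique f hf (socleMap s' hs) hg
    exact ⟨e⟩
  choose e he using fun i => (⟨(hiso i).some, trivial⟩ : ∃ _ : E ≃ₗ[R] ↥(Es i), True)
  let e1 : (DirectSum ι fun i => ↥(Es i)) ≃ₗ[R] M :=
    LinearEquiv.ofBijective (DirectSum.coeLinearMap Es) hint
  let e2 : (DirectSum ι fun _ => E) ≃ₗ[R] (DirectSum ι fun i => ↥(Es i)) :=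
    DFinsupp.mapRange.linearEquiv e
  let e3 : (ι →₀ E) ≃ₗ[R] (DirectSum ι fun _ => E) := finsuppLEquivDirectSum R E ι
  exact ⟨ι, ⟨((e3.trans e2).trans e1).symm⟩⟩

end partA

section partB

variable [IsNoetherianRing R]

/-- Baer's criterion for the maximal ideal alone suffices for power-torsion modules over a
Noetherian local ring. -/
theorem injective_of_baer_maximalIdeal {M : Type u} [AddCommGroup M] [Module R M]
    (hM : LocCoh.IsPowerTorsion (IsLocalRing.maximalIdeal R) M)
    (hK : ∀ φ : ↥(IsLocalRing.maximalIdeal R) →ₗ[R] M, ∃ m : M,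
      ∀ (a : R) (ha : a ∈ IsLocalRing.maximalIdeal R), φ ⟨a, ha⟩ = a • m) :
    Module.Injective R M := by
  classical
  obtain ⟨I, _, _, i, hI, hi⟩ := exists_injective_embedding (R := R) M
  have hX : Module.Injective R ↥(Γ (IsLocalRing.maximalIdeal R) I) := injective_Γ hI _
  have hmem : ∀ m, i m ∈ Γ (IsLocalRing.maximalIdeal R) I := fun m => by
    rw [mem_Γ_iff]
    obtain ⟨n, hn⟩ := hM m
    exact ⟨n, fun a ha => by rw [← map_smul, hn a ha, map_zero]⟩
  let j : M →ₗ[R] ↥(Γ (IsLocalRing.maximalIdeal R) I) := LinearMap.codRestrict _ i hmem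
  have hj : Function.Injective j := fun y y' hyy' => hi (congrArg Subtype.val hyy')
  obtain ⟨H, C, hNH, hess, hc⟩ := exists_hull_summand hX (LinearMap.range j)
  have hHinj : Module.Injective R ↥H := injective_of_isCompl hX H C hc
  have hHN : H ≤ LinearMap.range j := by
    by_contra hnot
    obtain ⟨q', hq'H, hq'N⟩ := SetLike.not_le_iff_exists.mp hnot
    obtain ⟨n, hn⟩ := (mem_Γ_iff _ (q' : I)).1 q'.2
    have hex : ∃ n : ℕ, ∀ a ∈ IsLocalRing.maximalIdeal R ^ n, a • q' ∈ LinearMap.range j :=
      ⟨n, fun a ha => by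
        have h0 : a • q' = 0 := Subtype.ext (by rw [Submodule.coe_smul, hn a ha]; rfl)
        rw [h0]
        exact Submodule.zero_mem _⟩
    have hpos : Nat.find hex ≠ 0 := by
      intro h0
      have h1 := Nat.find_spec hex
      rw [h0, pow_zero, Ideal.one_eq_top] at h1
      apply hq'N
      have h2 := h1 1 Submodule.mem_top
      rwa [one_smul] at h2
    obtain ⟨e', he'⟩ := Nat.exists_eq_succ_of_ne_zero hpos
    have hmin : ¬ ∀ a ∈ IsLocalRing.maximalIdeal R ^ e', a • q' ∈ LinearMap.range j :=
      Nat.find_min hex (by rw [he']; exact Nat.lt_succ_self e')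
    push Not at hmin
    obtain ⟨a, ha, haq⟩ := hmin
    have hq𝔪 : ∀ b ∈ IsLocalRing.maximalIdeal R, b • (a • q') ∈ LinearMap.range j := by
      intro b hb
      rw [smul_smul]
      have h1 := Nat.find_spec hex
      rw [he'] at h1
      refine h1 (b * a) ?_
      rw [pow_succ']
      exact Ideal.mul_mem_mul hb ha
    choose mb hmb using fun b : ↥(IsLocalRing.maximalIdeal R) => hq𝔪 b.1 b.2
    let φ : ↥(IsLocalRing.maximalIdeal R) →ₗ[R] M :=
      { toFun := mb
        map_add' := fun b b' => hj (by
          rw [map_add, hmb, hmb, hmb]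
          exact add_smul _ _ _)
        map_smul' := fun r b => hj (by
          rw [map_smul, hmb, hmb]
          exact mul_smul _ _ _) }
    obtain ⟨m, hm⟩ := hK φ
    have hs𝔪 : ∀ b ∈ IsLocalRing.maximalIdeal R, b • (a • q' - j m) = 0 := by
      intro b hb
      have h1 : j (mb ⟨b, hb⟩) = b • (a • q') := hmb ⟨b, hb⟩
      have h2 : mb ⟨b, hb⟩ = b • m := hm b hb
      rw [smul_sub, ← h1, h2, map_smul, sub_self]
    have hjmH : j m ∈ H := hNH ⟨m, rfl⟩
    have hsH : a • q' - j m ∈ H := H.sub_mem (H.smul_mem a hq'H) hjmH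
    by_cases hs0 : a • q' - j m = 0
    · apply haq
      rw [sub_eq_zero.mp hs0]
      exact ⟨m, rfl⟩
    · have hDle : Submodule.span R {a • q' - j m} ≤ H :=
        (Submodule.span_singleton_le_iff_mem _ _).mpr hsH
      have hDne : Submodule.span R {a • q' - j m} ≠ ⊥ := by
        intro h
        apply hs0
        have := Submodule.mem_span_singleton_self (R := R) (a • q' - j m)
        rwa [h, Submodule.mem_bot] at this
      obtain ⟨y, ⟨hyD, hyN⟩, hy0⟩ := (Submodule.ne_bot_iff _).1 (hess _ hDle hDne)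
      obtain ⟨r, rfl⟩ := Submodule.mem_span_singleton.1 hyD
      have hr : IsUnit r := by
        by_contra hnu
        exact hy0 (hs𝔪 r ((IsLocalRing.mem_maximalIdeal r).mpr hnu))
      obtain ⟨u, rfl⟩ := hr
      have hsN : a • q' - j m ∈ LinearMap.range j := by
        have h1 : a • q' - j m = (↑u⁻¹ : R) • ((↑u : R) • (a • q' - j m)) := by
          rw [smul_smul, Units.inv_mul, one_smul]
        rw [h1]
        exact Submodule.smul_mem _ _ hyN
      apply haq
      have h2 : a • q' = (a • q' - j m) + j m := by abel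
      rw [h2]
      exact Submodule.add_mem _ hsN ⟨m, rfl⟩
  have hHeq : H = LinearMap.range j := le_antisymm hHN hNH
  let e : M ≃ₗ[R] ↥H := (LinearEquiv.ofInjective j hj).trans (LinearEquiv.ofEq _ _ hHeq.symm)
  exact Module.Baer.injective (Module.Baer.of_equiv e.symm (Module.Baer.of_injective hHinj))

end partB

end Groth.Agent.Lib.PTInjH1
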