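import Mathlib
import Groth.Prelude.Def_Wider
import Groth.Agent.Lib.FrobInj1_helper1
import Groth.Agent.Lib.FrobInj2_helper1
import Groth.Agent.Lib.PTInj_helper1

/-!
# Frobenius-stable power-torsion modules over regular local rings are injective (helper1), part 3

`main338`: over a regular local ring of characteristic `p`, a module killed elementwise by powers of
the maximal ideal and isomorphic to its own Frobenius base change is injective.

APPEND-ONLY once landed.
-/

set_option autoImplicit false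
universe u

namespace Groth.Agent.Lib.FrobInjH1

open IsLocalRing

section Jn

variable (R : Type u) [CommRing R] [IsLocalRing R] (p : ℕ) [Fact p.Prime] [CharP R p]

/-- iterated Frobenius powers of the maximal ideal -/
noncomputable def Jn : ℕ → Ideal R
  | 0 => maximalIdeal R
  | (e + 1) => (Jn e).map (frobenius R p)

theorem Jn_zero : Jn R p 0 = maximalIdeal R := rfl

theorem Jn_succ (e : ℕ) : Jn R p (e + 1) = (Jn R p e).map (frobenius R p) := rfl

theorem Jn_succ_le (e : ℕ) : Jn R p (e + 1) ≤ Jn R p e := by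
  rw [Jn_succ, Ideal.map_le_iff_le_comap]
  intro a ha
  rw [Ideal.mem_comap, frobenius_def]
  exact Ideal.pow_mem_of_mem _ ha p (Fact.out : p.Prime).pos

theorem Jn_le_maximalIdeal (e : ℕ) : Jn R p e ≤ maximalIdeal R := by
  induction e with
  | zero => exact le_rfl
  | succ e ih => exact (Jn_succ_le R p e).trans ih

theorem Jn_le_pow (e : ℕ) : Jn R p e ≤ maximalIdeal R ^ (e + 1) := by
  induction e with
  | zero => rw [Jn_zero, zero_add, pow_one]
  | succ e ih =>
    rw [Jn_succ, Ideal.map_le_iff_le_comap]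
    intro a ha
    have h2 : 2 ≤ p := (Fact.out : p.Prime).two_le
    rw [Ideal.mem_comap, frobenius_def, ← mul_pow_sub_one (Fact.out : p.Prime).ne_zero a,
      pow_succ (maximalIdeal R) (e + 1), mul_comm]
    exact Ideal.mul_mem_mul_rev (Ideal.pow_mem_of_mem _ (Jn_le_maximalIdeal R p e ha) (p - 1)
      (by omega)) (ih ha)

theorem Jn_eq_ofList (l : List R) (hl : Ideal.ofList l = maximalIdeal R) (e : ℕ) :
    Jn R p e = Ideal.ofList (l.map (· ^ p ^ e)) := by
  induction e with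
  | zero =>
    rw [Jn_zero, ← hl]
    congr 1
    simp
  | succ e ih =>
    rw [Jn_succ, ih, Ideal.map_ofList, List.map_map]
    congr 1
    apply List.map_congr_left
    intro x _
    simp only [Function.comp_apply, frobenius_def, ← pow_mul, pow_succ]

variable {M : Type u} [AddCommGroup M] [Module R M]

/-- a linear map on the maximal ideal whose image is killed by `Jn e` vanishes on `Jn (e + 1)`. -/
theorem map_eq_zero_of_mem_Jn_succ (φ : ↥(maximalIdeal R) →ₗ[R] M) (e : ℕ)
    (hφ : ∀ x, φ x ∈ Submodule.torsionBySet R M (Jn R p e : Set R)) (a : R)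
    (ha : a ∈ Jn R p (e + 1)) : φ ⟨a, Jn_le_maximalIdeal R p (e + 1) ha⟩ = 0 := by
  have hK : Jn R p (e + 1) ≤ (LinearMap.ker φ).map (Submodule.subtype (maximalIdeal R)) := by
    rw [Jn_succ, Ideal.map_le_iff_le_comap]
    intro b hb
    have hbm : b ∈ maximalIdeal R := Jn_le_maximalIdeal R p e hb
    have h2 : 2 ≤ p := (Fact.out : p.Prime).two_le
    have hpow : b ^ (p - 1) ∈ maximalIdeal R := Ideal.pow_mem_of_mem _ hbm _ (by omega)
    rw [Ideal.mem_comap, frobenius_def]
    refine ⟨⟨b ^ p, Ideal.pow_mem_of_mem _ hbm p (Fact.out : p.Prime).pos⟩, ?_, rfl⟩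
    rw [SetLike.mem_coe, LinearMap.mem_ker]
    have hx : (⟨b ^ p, Ideal.pow_mem_of_mem _ hbm p (Fact.out : p.Prime).pos⟩ :
        ↥(maximalIdeal R)) = b • ⟨b ^ (p - 1), hpow⟩ := by
      apply Subtype.ext
      rw [Submodule.coe_smul, smul_eq_mul, mul_pow_sub_one (Fact.out : p.Prime).ne_zero b]
    rw [hx, map_smul]
    exact (mem_ann _ _).1 (hφ _) b hb
  obtain ⟨x, hx, hxa⟩ := hK ha
  have hxe : x = ⟨a, Jn_le_maximalIdeal R p (e + 1) ha⟩ := Subtype.ext hxa
  rw [← hxe]
  exact LinearMap.mem_ker.1 hx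

variable (M)

theorem exists_base_equiv :
    ∃ ι : Type u, Nonempty (↥(Submodule.torsionBySet R M (Jn R p 0 : Set R)) ≃ₗ[R]
      (ι →₀ R ⧸ Jn R p 0)) := by
  letI : Field (R ⧸ maximalIdeal R) := Ideal.Quotient.field (maximalIdeal R)
  exact ⟨Module.Free.ChooseBasisIndex (R ⧸ maximalIdeal R)
      ↥(Submodule.torsionBySet R M (maximalIdeal R : Set R)),
    ⟨(Module.Free.chooseBasis (R ⧸ maximalIdeal R)
      ↥(Submodule.torsionBySet R M (maximalIdeal R : Set R))).repr.restrictScalars R⟩⟩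

end Jn

section step

variable (R : Type u) [CommRing R] [IsRegularLocalRing R] (p : ℕ) [Fact p.Prime] [CharP R p]
  (M : Type u) [AddCommGroup M] [Module R M]

/-- the induction step: freeness of the annihilator of `Jn e` propagates to `Jn (e + 1)`. -/
theorem step_equiv
    (θ : ↑((ModuleCat.extendScalars (frobenius R p)).obj (ModuleCat.of R M)) ≃ₗ[R] M)
    (ι : Type u) (e : ℕ)
    (e₀ : ↥(Submodule.torsionBySet R M (Jn R p e : Set R)) ≃ₗ[R] (ι →₀ R ⧸ Jn R p e)) :
    Nonempty (↥(Submodule.torsionBySet R M (Jn R p (e + 1) : Set R)) ≃ₗ[R]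
      (ι →₀ R ⧸ Jn R p (e + 1))) := by
  obtain ⟨e1⟩ := nonempty_ann_extendScalars_equiv (frobenius R p) (flat_frobenius R p) M
    (Jn R p e) (IsNoetherian.noetherian _) ι e₀
  rw [Jn_succ]
  exact ⟨(annEquiv θ ((Jn R p e).map (frobenius R p))).symm ≪≫ₗ e1⟩

end step

section baer

variable {R : Type u} [CommRing R] [IsLocalRing R] {M : Type u} [AddCommGroup M] [Module R M]

theorem exists_pow_kills [IsNoetherianRing R]
    (hM : LocCoh.IsPowerTorsion (maximalIdeal R) M) (φ : ↥(maximalIdeal R) →ₗ[R] M) :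
    ∃ N : ℕ, ∀ x : ↥(maximalIdeal R), ∀ a ∈ maximalIdeal R ^ N, a • φ x = 0 := by
  classical
  obtain ⟨t, ht⟩ := (Module.Finite.fg_top : (⊤ : Submodule R ↥(maximalIdeal R)).FG)
  choose n hn using fun y : ↥(maximalIdeal R) => hM (φ y)
  refine ⟨t.sup n, fun x a ha => ?_⟩
  have hx : x ∈ Submodule.span R (t : Set ↥(maximalIdeal R)) := by
    rw [ht]
    trivial
  induction hx using Submodule.span_induction with
  | mem y hy =>
    exact hn y a (Ideal.pow_le_pow_right (Finset.le_sup (f := n) (Finset.mem_coe.1 hy)) ha)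
  | zero => rw [map_zero, smul_zero]
  | add y z _ _ hy hz => rw [map_add, smul_add, hy, hz, add_zero]
  | smul c y _ hy => rw [map_smul, smul_comm, hy, smul_zero]

/-- extension of maps from the maximal ideal, given that the annihilator of `J` is an injective
`R ⧸ J`-module. -/
theorem exists_smul_of_equiv (J : Ideal R) (hJle : J ≤ maximalIdeal R) (ι : Type u)
    (hinj : Module.Injective (R ⧸ J) (ι →₀ R ⧸ J))
    (ε : ↥(Submodule.torsionBySet R M (J : Set R)) ≃ₗ[R] (ι →₀ R ⧸ J))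
    (f : ↥(maximalIdeal R) →ₗ[R] M)
    (hfQ : ∀ x, f x ∈ Submodule.torsionBySet R M (J : Set R))
    (hfJ : ∀ a (ha : a ∈ J), f ⟨a, hJle ha⟩ = 0) :
    ∃ m : M, ∀ (a : R) (ha : a ∈ maximalIdeal R), f ⟨a, ha⟩ = a • m := by
  classical
  let f₁ : ↥(maximalIdeal R) →ₗ[R] (ι →₀ R ⧸ J) := ε.toLinearMap.comp (f.codRestrict _ hfQ)
  let 𝔪' : Ideal (R ⧸ J) := (maximalIdeal R).map (Ideal.Quotient.mk J)
  let π : ↥(maximalIdeal R) →ₗ[R] ↥(𝔪'.restrictScalars R) :=
    ((Submodule.mkQ J).domRestrict (maximalIdeal R)).codRestrict (𝔪'.restrictScalars R)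
      (fun x => Ideal.mem_map_of_mem (Ideal.Quotient.mk J) x.2)
  have hπsurj : Function.Surjective π := by
    rintro ⟨y, hy⟩
    obtain ⟨a, ha, rfl⟩ := (Ideal.mem_map_iff_of_surjective (Ideal.Quotient.mk J)
      Ideal.Quotient.mk_surjective).1 hy
    exact ⟨⟨a, ha⟩, rfl⟩
  have hker : LinearMap.ker π ≤ LinearMap.ker f₁ := by
    intro x hx
    rw [LinearMap.mem_ker] at hx ⊢
    have h1 : (Ideal.Quotient.mk J) (x : R) = 0 := congrArg Subtype.val hx
    have h2 : (x : R) ∈ J := Ideal.Quotient.eq_zero_iff_mem.1 h1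
    have h3 : f x = 0 := hfJ x.1 h2
    have h4 : f.codRestrict _ hfQ x = 0 := Subtype.ext h3
    show ε (f.codRestrict _ hfQ x) = 0
    rw [h4, map_zero]
  let f₂ : ↥(𝔪'.restrictScalars R) →ₗ[R] (ι →₀ R ⧸ J) :=
    ((LinearMap.ker π).liftQ f₁ hker).comp
      (LinearMap.quotKerEquivOfSurjective π hπsurj).symm.toLinearMap
  have hf₂ : ∀ x, f₂ (π x) = f₁ x := by
    intro x
    show (LinearMap.ker π).liftQ f₁ hker
      ((LinearMap.quotKerEquivOfSurjective π hπsurj).symm (π x)) = _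
    rw [LinearMap.quotKerEquivOfSurjective_symm_apply, Submodule.liftQ_apply]
  have hsurj : Function.Surjective (algebraMap R (R ⧸ J)) := Ideal.Quotient.mk_surjective
  let f₃ : ↥𝔪' →ₗ[R ⧸ J] (ι →₀ R ⧸ J) :=
    (f₂.extendScalarsOfSurjective hsurj).comp
      (Submodule.restrictScalarsEquiv R (R ⧸ J) (R ⧸ J) 𝔪').symm.toLinearMap
  obtain ⟨g', hg'⟩ := Module.Baer.of_injective hinj 𝔪' f₃
  refine ⟨((ε.symm (g' 1) : ↥(Submodule.torsionBySet R M (J : Set R))) : M), fun a ha => ?_⟩
  have hmem : Ideal.Quotient.mk J a ∈ 𝔪' := Ideal.mem_map_of_mem _ ha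
  have h2 : g' (Ideal.Quotient.mk J a) = f₃ ⟨_, hmem⟩ := hg' _ hmem
  have h3 : f₃ ⟨Ideal.Quotient.mk J a, hmem⟩ = f₁ ⟨a, ha⟩ := hf₂ ⟨a, ha⟩
  have hone : Ideal.Quotient.mk J a = a • (1 : R ⧸ J) := by
    rw [Algebra.smul_def, mul_one]
    rfl
  have h4 : g' (Ideal.Quotient.mk J a) = a • g' 1 := by
    rw [hone, LinearMap.map_smul_of_tower]
  have h1 : ε (f.codRestrict _ hfQ ⟨a, ha⟩) = a • g' 1 := by
    rw [← h4, h2, h3]
    rfl
  have h5 : f.codRestrict _ hfQ ⟨a, ha⟩ = a • ε.symm (g' 1) := by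
    rw [← map_smul, ← h1, LinearEquiv.symm_apply_apply]
  exact congrArg Subtype.val h5

end baer

section main

/-- over a regular local ring of characteristic `p`, a power-torsion module isomorphic to its own
Frobenius base change is injective. -/
theorem main338 (p : ℕ) [Fact p.Prime] (R : Type u) [CommRing R] [IsRegularLocalRing R]
    [CharP R p] (M : Type u) [AddCommGroup M] [Module R M]
    (hM : LocCoh.IsPowerTorsion (IsLocalRing.maximalIdeal R) M)
    (h : Nonempty ((ModuleCat.extendScalars (frobenius R p)).obj (ModuleCat.of R M) ≅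
      ModuleCat.of R M)) :
    Module.Injective R M := by
  obtain ⟨iso⟩ := h
  obtain ⟨l, -, hspan, hlen⟩ := Groth.Agent.FiniteFree.exists_regular_sop R
  obtain ⟨ι, ⟨ε0⟩⟩ := exists_base_equiv R p M
  have hε : ∀ e, Nonempty (↥(Submodule.torsionBySet R M (Jn R p e : Set R)) ≃ₗ[R]
      (ι →₀ R ⧸ Jn R p e)) := by
    intro e
    induction e with
    | zero => exact ⟨ε0⟩
    | succ e ih =>
      obtain ⟨e₀⟩ := ih
      exact step_equiv R p M iso.toLinearEquiv ι e e₀
  have hinjq : ∀ e, Module.Injective (R ⧸ Jn R p e) (ι →₀ R ⧸ Jn R p e) := by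
    intro e
    exact injective_finsupp_of_self (injective_quot_map_pow R l hspan hlen (p ^ e)
      (pow_pos (Fact.out : p.Prime).pos e) (Jn R p e) (Jn_eq_ofList R p l hspan e)) ι
  apply Groth.Agent.Lib.PTInjH1.injective_of_baer_maximalIdeal hM
  intro φ
  obtain ⟨N, hN⟩ := exists_pow_kills hM φ
  have hφQ : ∀ x, φ x ∈ Submodule.torsionBySet R M (Jn R p (N + 1) : Set R) := by
    intro x
    rw [mem_ann]
    intro a ha
    exact hN x a (Ideal.pow_le_pow_right (by omega) (Jn_le_pow R p (N + 1) ha))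
  have hφQ' : ∀ x, φ x ∈ Submodule.torsionBySet R M (Jn R p N : Set R) := by
    intro x
    rw [mem_ann]
    intro a ha
    exact hN x a (Ideal.pow_le_pow_right (by omega) (Jn_le_pow R p N ha))
  have hφJ : ∀ a (ha : a ∈ Jn R p (N + 1)),
      φ ⟨a, Jn_le_maximalIdeal R p (N + 1) ha⟩ = 0 :=
    fun a ha => map_eq_zero_of_mem_Jn_succ R p φ N hφQ' a ha
  obtain ⟨ε⟩ := hε (N + 1)
  exact exists_smul_of_equiv (Jn R p (N + 1)) (Jn_le_maximalIdeal R p (N + 1)) ι
    (hinjq (N + 1)) ε φ hφQ hφJ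

end main

end Groth.Agent.Lib.FrobInjH1
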