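import Mathlib
import Groth.Prelude.Def_Conn

set_option autoImplicit false
set_option linter.unusedSimpArgs false
set_option linter.unusedVariables false
set_option linter.unusedSectionVars false
set_option linter.style.longLine false
set_option linter.unnecessarySimpa false
set_option maxHeartbeats 1600000

universe v u

open TensorProduct Finset

namespace Groth.Agent.Lib.PCurv16794

section Abstract

variable {B : Type*} [CommRing B]

/-- shift of a coefficient sequence (multiplication by `t`). -/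
def sh (f : ℕ → B) : ℕ → B
  | 0 => 0
  | k + 1 => f k

@[simp] lemma sh_zero (f : ℕ → B) : sh f 0 = 0 := rfl
@[simp] lemma sh_succ (f : ℕ → B) (k : ℕ) : sh f (k + 1) = f k := rfl

variable (h : B) (d : B →+ B)

/-- coefficients of `(h X + d)^n 1`. -/
def bb : ℕ → ℕ → B
  | 0 => fun k => if k = 0 then 1 else 0
  | n + 1 => fun k => h * sh (bb n) k + d (bb n k)

lemma bb_zero (k : ℕ) : bb h d 0 k = if k = 0 then 1 else 0 := rfl
lemma bb_succ (n k : ℕ) : bb h d (n + 1) k = h * sh (bb h d n) k + d (bb h d n k) := rfl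

lemma bb_eq_zero_of_lt : ∀ (n k : ℕ), n < k → bb h d n k = 0 := by
  intro n
  induction n with
  | zero => intro k hk; rw [bb_zero, if_neg (by omega)]
  | succ n ih =>
    intro k hk
    obtain ⟨k', rfl⟩ : ∃ k', k = k' + 1 := ⟨k - 1, by omega⟩
    rw [bb_succ, sh_succ, ih k' (by omega), ih (k' + 1) (by omega), mul_zero, map_zero, add_zero]

lemma bb_diag (n : ℕ) : bb h d n n = h ^ n := by
  induction n with
  | zero => simp [bb_zero]
  | succ n ih =>
    rw [bb_succ, sh_succ, ih, bb_eq_zero_of_lt h d n (n + 1) (Nat.lt_succ_self n), map_zero,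
      add_zero, pow_succ']

lemma d_natCast_mul (m : ℕ) (x : B) : d ((m : B) * x) = (m : B) * d x := by
  rw [← nsmul_eq_mul, map_nsmul, nsmul_eq_mul]

section WithMul

variable (hmul : ∀ x y : B, d (x * y) = d x * y + x * d y)

include hmul

lemma d_one : d 1 = 0 := by
  have h1 := hmul 1 1
  rw [mul_one, mul_one, one_mul] at h1
  exact add_eq_left.1 h1.symm

lemma bb_zero_right (n : ℕ) : bb h d n 0 = if n = 0 then 1 else 0 := by
  induction n with
  | zero => rfl
  | succ n ih =>
    rw [bb_succ, sh_zero, mul_zero, zero_add, ih, if_neg (Nat.succ_ne_zero n)]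
    split_ifs
    · exact d_one d hmul
    · exact map_zero d

lemma key (n : ℕ) : ∀ k : ℕ, ((k + 1 : ℕ) : B) * bb h d n (k + 1) =
    ∑ i ∈ Finset.range n, ((n.choose (i + 1) : ℕ) : B) *
      ((⇑d)^[i] h * bb h d (n - (i + 1)) k) := by
  induction n with
  | zero =>
    intro k
    rw [bb_zero, if_neg (Nat.succ_ne_zero k), mul_zero, Finset.range_zero, Finset.sum_empty]
  | succ n ih =>
    intro k
    have hQ : ((k : ℕ) : B) * bb h d n k = ∑ i ∈ Finset.range n, ((n.choose (i + 1) : ℕ) : B) *
        ((⇑d)^[i] h * sh (bb h d (n - (i + 1))) k) := by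
      cases k with
      | zero => simp
      | succ k' => exact ih k'
    have hd' : d (((k + 1 : ℕ) : B) * bb h d n (k + 1)) =
        ∑ i ∈ Finset.range n, ((n.choose (i + 1) : ℕ) : B) *
          ((⇑d)^[i + 1] h * bb h d (n - (i + 1)) k +
            (⇑d)^[i] h * d (bb h d (n - (i + 1)) k)) := by
      rw [ih k, map_sum]
      apply Finset.sum_congr rfl
      intro i _
      rw [d_natCast_mul, hmul, Function.iterate_succ_apply']
    have hrec : ∀ i ∈ Finset.range n, bb h d (n - i) k =
        h * sh (bb h d (n - (i + 1))) k + d (bb h d (n - (i + 1)) k) := by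
      intro i hi
      rw [Finset.mem_range] at hi
      have e : n - i = (n - (i + 1)) + 1 := by omega
      rw [e, bb_succ]
    have hL1 : h * (∑ i ∈ Finset.range n, ((n.choose (i + 1) : ℕ) : B) *
          ((⇑d)^[i] h * sh (bb h d (n - (i + 1))) k)) +
        ∑ i ∈ Finset.range n, ((n.choose (i + 1) : ℕ) : B) *
          ((⇑d)^[i + 1] h * bb h d (n - (i + 1)) k +
            (⇑d)^[i] h * d (bb h d (n - (i + 1)) k)) =
        ∑ i ∈ Finset.range n, ((n.choose (i + 1) : ℕ) : B) *
          ((⇑d)^[i + 1] h * bb h d (n - (i + 1)) k) +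
        ∑ i ∈ Finset.range n, ((n.choose (i + 1) : ℕ) : B) *
          ((⇑d)^[i] h * bb h d (n - i) k) := by
      rw [Finset.mul_sum, ← Finset.sum_add_distrib, ← Finset.sum_add_distrib]
      apply Finset.sum_congr rfl
      intro i hi
      rw [hrec i hi]
      ring
    have hR1 : ∑ i ∈ Finset.range (n + 1), (((n + 1).choose (i + 1) : ℕ) : B) *
          ((⇑d)^[i] h * bb h d (n + 1 - (i + 1)) k) =
        ∑ i ∈ Finset.range (n + 1), ((n.choose i : ℕ) : B) *
          ((⇑d)^[i] h * bb h d (n - i) k) +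
        ∑ i ∈ Finset.range (n + 1), ((n.choose (i + 1) : ℕ) : B) *
          ((⇑d)^[i] h * bb h d (n - i) k) := by
      rw [← Finset.sum_add_distrib]
      apply Finset.sum_congr rfl
      intro i _
      rw [Nat.choose_succ_succ', Nat.cast_add, Nat.add_sub_add_right, add_mul]
    have hR2 : ∑ i ∈ Finset.range (n + 1), ((n.choose i : ℕ) : B) *
          ((⇑d)^[i] h * bb h d (n - i) k) =
        ∑ i ∈ Finset.range n, ((n.choose (i + 1) : ℕ) : B) *
          ((⇑d)^[i + 1] h * bb h d (n - (i + 1)) k) + h * bb h d n k := by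
      rw [Finset.sum_range_succ']
      simp only [Nat.choose_zero_right, Nat.cast_one, one_mul, Function.iterate_zero, id_eq,
        Nat.sub_zero]
    have hR3 : ∑ i ∈ Finset.range (n + 1), ((n.choose (i + 1) : ℕ) : B) *
          ((⇑d)^[i] h * bb h d (n - i) k) =
        ∑ i ∈ Finset.range n, ((n.choose (i + 1) : ℕ) : B) *
          ((⇑d)^[i] h * bb h d (n - i) k) := by
      rw [Finset.sum_range_succ, Nat.choose_succ_self, Nat.cast_zero, zero_mul, add_zero]
    have hlhs : ((k + 1 : ℕ) : B) * bb h d (n + 1) (k + 1) =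
        h * bb h d n k + h * (((k : ℕ) : B) * bb h d n k) +
          d (((k + 1 : ℕ) : B) * bb h d n (k + 1)) := by
      rw [bb_succ, sh_succ, d_natCast_mul]
      push_cast
      ring
    rw [hlhs, hQ, hd', hR1, hR2, hR3]
    linear_combination hL1

lemma iterate_mul (n : ℕ) (x y : B) : (⇑d)^[n] (x * y) =
    ∑ ij ∈ antidiagonal n, n.choose ij.1 • ((⇑d)^[ij.1] x * (⇑d)^[ij.2] y) := by
  have hmul' : ∀ x y : B, d (x * y) = x * d y + d x * y := fun x y =>
    (hmul x y).trans (add_comm _ _)
  induction n with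
  | zero => simp
  | succ n ih =>
    rw [Finset.sum_antidiagonal_choose_succ_nsmul (M := B)
      (fun i j => (⇑d)^[i] x * (⇑d)^[j] y) n]
    simp only [Function.iterate_succ_apply', ih, map_sum, map_nsmul, hmul', smul_add,
      Finset.sum_add_distrib, add_right_inj]
    refine Finset.sum_congr rfl fun ⟨i, j⟩ hij => ?_
    rw [n.choose_symm_of_eq_add (HasAntidiagonal.mem_antidiagonal.1 hij).symm]

variable (p : ℕ) [hp : Fact p.Prime] [CharP B p]

lemma iterate_mul_char (x y : B) :
    (⇑d)^[p] (x * y) = (⇑d)^[p] x * y + x * (⇑d)^[p] y := by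
  have hp0 : p ≠ 0 := hp.out.ne_zero
  rw [iterate_mul d hmul p x y, Finset.sum_eq_add ((0, p) : ℕ × ℕ) ((p, 0) : ℕ × ℕ)]
  · simp only [Nat.choose_zero_right, Nat.choose_self, one_smul, Function.iterate_zero, id_eq]
    rw [add_comm]
  · intro h0
    have := (Prod.mk.inj h0).1
    exact hp0 this.symm
  · rintro ⟨i, j⟩ hij ⟨h1, h2⟩
    rw [HasAntidiagonal.mem_antidiagonal] at hij
    have hi0 : i ≠ 0 := by
      rintro rfl
      apply h1
      simp only [zero_add] at hij
      rw [hij]
    have hip : i < p := by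
      rcases Nat.lt_or_ge i p with h | h
      · exact h
      · exfalso
        apply h2
        have hj : j = 0 := by omega
        have hi : i = p := by omega
        rw [hi, hj]
    have hz : ((p.choose i : ℕ) : B) = 0 :=
      (CharP.cast_eq_zero_iff B p _).2 (hp.out.dvd_choose_self hi0 hip)
    show p.choose i • ((⇑d)^[i] x * (⇑d)^[j] y) = 0
    rw [nsmul_eq_mul, hz, zero_mul]
  · intro hn
    exact absurd (HasAntidiagonal.mem_antidiagonal.2 (zero_add p)) hn
  · intro hn
    exact absurd (HasAntidiagonal.mem_antidiagonal.2 (add_zero p)) hn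

lemma key_p (k : ℕ) : ((k + 1 : ℕ) : B) * bb h d p (k + 1) =
    (⇑d)^[p - 1] h * (if k = 0 then 1 else 0) := by
  have hp1 : p - 1 + 1 = p := Nat.sub_add_cancel hp.out.one_le
  rw [key h d hmul p k, Finset.sum_eq_single (p - 1)]
  · rw [hp1, Nat.choose_self, Nat.cast_one, one_mul, Nat.sub_self, bb_zero]
  · intro i hi hne
    rw [Finset.mem_range] at hi
    have hz : ((p.choose (i + 1) : ℕ) : B) = 0 :=
      (CharP.cast_eq_zero_iff B p _).2
        (hp.out.dvd_choose_self (Nat.succ_ne_zero i) (by omega))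
    rw [hz, zero_mul]
  · intro hnot
    exfalso
    apply hnot
    rw [Finset.mem_range]
    have := hp.out.one_lt
    omega

omit hmul in
lemma cancel_nat (m : ℕ) (hm0 : 0 < m) (hmp : m < p) (x : B) (hx : (m : B) * x = 0) : x = 0 := by
  have hcop : Nat.Coprime m p :=
    (Nat.Coprime.symm ((Nat.Prime.coprime_iff_not_dvd hp.out).2
      (Nat.not_dvd_of_pos_of_lt hm0 hmp)))
  have hb := Nat.gcd_eq_gcd_ab m p
  rw [hcop.gcd_eq_one] at hb
  have hB : (1 : B) = (m : B) * ((Nat.gcdA m p : ℤ) : B) + (p : B) * ((Nat.gcdB m p : ℤ) : B) := by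
    have h1 := congrArg (Int.cast : ℤ → B) hb
    push_cast at h1
    exact h1
  rw [CharP.cast_eq_zero B p, zero_mul, add_zero] at hB
  calc x = 1 * x := (one_mul x).symm
    _ = ((m : B) * ((Nat.gcdA m p : ℤ) : B)) * x := by rw [← hB]
    _ = ((Nat.gcdA m p : ℤ) : B) * ((m : B) * x) := by ring
    _ = 0 := by rw [hx, mul_zero]

lemma bb_p_mid (k : ℕ) (hk1 : 1 ≤ k) (hk2 : k + 1 < p) : bb h d p (k + 1) = 0 := by
  have h1 := key_p h d hmul p k
  rw [if_neg (by omega), mul_zero] at h1
  exact cancel_nat p (k + 1) (Nat.succ_pos k) hk2 _ h1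

lemma bb_p_one : bb h d p 1 = (⇑d)^[p - 1] h := by
  have h1 := key_p h d hmul p 0
  simpa using h1

end WithMul

section RingE

variable {E : Type*} [Ring E] (μ : B →+* E) (θ : B →+ B) (D : E) (c : B)

/-- the derivation `c θ`. -/
def dc : B →+ B := AddMonoidHom.mk' (fun x => c * θ x) (fun x y => by rw [map_add, mul_add])

lemma dc_apply (x : B) : dc θ c x = c * θ x := rfl

lemma dc_mul (hθ : ∀ x y : B, θ (x * y) = θ x * y + x * θ y) (x y : B) :
    dc θ c (x * y) = dc θ c x * y + x * dc θ c y := by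
  rw [dc_apply, dc_apply, dc_apply, hθ]
  ring

lemma pow_formula (hD : ∀ b, D * μ b = μ b * D + μ (θ b)) (n : ℕ) :
    (μ c * D) ^ n = ∑ k ∈ Finset.range (n + 1), μ (bb c (dc θ c) n k) * D ^ k := by
  induction n with
  | zero => simp [bb_zero]
  | succ n ih =>
    have hterm : ∀ (x : B) (k : ℕ), μ c * D * (μ x * D ^ k) =
        μ (c * x) * D ^ (k + 1) + μ (dc θ c x) * D ^ k := by
      intro x k
      rw [mul_assoc (μ c) D, ← mul_assoc D (μ x), hD x, add_mul, mul_add, mul_assoc (μ x) D,
        ← pow_succ', ← mul_assoc (μ c) (μ x), ← map_mul, ← mul_assoc (μ c) (μ (θ x)), ← map_mul,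
        dc_apply]
    rw [pow_succ', ih, Finset.mul_sum]
    have h1 : ∑ k ∈ Finset.range (n + 1), μ c * D * (μ (bb c (dc θ c) n k) * D ^ k) =
        ∑ k ∈ Finset.range (n + 1), μ (c * bb c (dc θ c) n k) * D ^ (k + 1) +
        ∑ k ∈ Finset.range (n + 1), μ (dc θ c (bb c (dc θ c) n k)) * D ^ k := by
      rw [← Finset.sum_add_distrib]
      exact Finset.sum_congr rfl (fun k _ => hterm _ k)
    have h2 : ∑ k ∈ Finset.range (n + 1 + 1), μ (bb c (dc θ c) (n + 1) k) * D ^ k =
        ∑ k ∈ Finset.range (n + 1 + 1), μ (c * sh (bb c (dc θ c) n) k) * D ^ k +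
        ∑ k ∈ Finset.range (n + 1 + 1), μ (dc θ c (bb c (dc θ c) n k)) * D ^ k := by
      rw [← Finset.sum_add_distrib]
      apply Finset.sum_congr rfl
      intro k _
      rw [bb_succ, map_add, add_mul]
    have h3 : ∑ k ∈ Finset.range (n + 1 + 1), μ (c * sh (bb c (dc θ c) n) k) * D ^ k =
        ∑ k ∈ Finset.range (n + 1), μ (c * bb c (dc θ c) n k) * D ^ (k + 1) := by
      rw [Finset.sum_range_succ']
      simp only [sh_succ, sh_zero, mul_zero, map_zero, zero_mul, add_zero]
    have h4 : ∑ k ∈ Finset.range (n + 1 + 1), μ (dc θ c (bb c (dc θ c) n k)) * D ^ k =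
        ∑ k ∈ Finset.range (n + 1), μ (dc θ c (bb c (dc θ c) n k)) * D ^ k := by
      rw [Finset.sum_range_succ, bb_eq_zero_of_lt c (dc θ c) n (n + 1) (Nat.lt_succ_self n),
        map_zero, map_zero, zero_mul, add_zero]
    rw [h1, h2, h3, h4]

theorem hochschild (p : ℕ) [hp : Fact p.Prime] [CharP B p]
    (hθ : ∀ x y : B, θ (x * y) = θ x * y + x * θ y)
    (hD : ∀ b, D * μ b = μ b * D + μ (θ b)) :
    (μ c * D) ^ p = μ (c ^ p) * D ^ p + μ ((⇑(dc θ c))^[p - 1] c) * D := by
  have hm := dc_mul θ c hθ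
  rw [pow_formula μ θ D c hD p]
  have hp2 := hp.out.two_le
  rw [Finset.sum_eq_add 1 p (by omega)]
  · rw [bb_p_one c (dc θ c) hm p, bb_diag, pow_one, add_comm]
  · intro k hk hne
    rw [Finset.mem_range] at hk
    rcases Nat.eq_zero_or_pos k with rfl | hkpos
    · rw [bb_zero_right c (dc θ c) hm, if_neg (by omega), map_zero, zero_mul]
    · obtain ⟨k', rfl⟩ : ∃ k', k = k' + 1 := ⟨k - 1, by omega⟩
      rw [bb_p_mid c (dc θ c) hm p k' (by omega) (by omega), map_zero, zero_mul]
  · intro h
    exfalso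
    apply h
    rw [Finset.mem_range]
    omega
  · intro h
    exfalso
    apply h
    rw [Finset.mem_range]
    omega

end RingE

end Abstract

section Concrete

variable {A : Type v} {B M : Type u} [CommRing A] [CommRing B] [Algebra A B]
  [AddCommGroup M] [Module B M] [Module A M] [IsScalarTower A B M]

/-- multiplication operators. -/
noncomputable def mu (A : Type v) {B : Type u} (M : Type u) [CommRing A] [CommRing B] [Algebra A B]
    [AddCommGroup M] [Module B M] [Module A M] [IsScalarTower A B M] : B →+* Module.End A M where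
  toFun b :=
    { toFun := fun m => b • m
      map_add' := smul_add b
      map_smul' := fun a m => smul_comm b a m }
  map_one' := LinearMap.ext fun m => one_smul B m
  map_mul' x y := LinearMap.ext fun m => mul_smul x y m
  map_zero' := LinearMap.ext fun m => zero_smul B m
  map_add' x y := LinearMap.ext fun m => add_smul x y m

lemma mu_apply (b : B) (m : M) : mu A M b m = b • m := rfl

/-- a derivation as an additive map. -/
def derAdd (θ₀ : Derivation A B B) : B →+ B := (θ₀ : B →ₗ[A] B).toAddMonoidHom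

lemma derAdd_apply (θ₀ : Derivation A B B) (x : B) : derAdd θ₀ x = θ₀ x := rfl

lemma derAdd_mul (θ₀ : Derivation A B B) (x y : B) :
    derAdd θ₀ (x * y) = derAdd θ₀ x * y + x * derAdd θ₀ y := by
  rw [derAdd_apply, derAdd_apply, derAdd_apply, Derivation.leibniz, smul_eq_mul, smul_eq_mul]
  ring

noncomputable def iterDer (p : ℕ) [Fact p.Prime] [CharP B p] (θ₀ : Derivation A B B) :
    Derivation A B B :=
  Derivation.mk' ((θ₀ : B →ₗ[A] B) ^ p) (by
    intro a b
    rw [Module.End.pow_apply, Module.End.pow_apply, Module.End.pow_apply]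
    have h1 := iterate_mul_char (derAdd θ₀) (derAdd_mul θ₀) p a b
    have h2 : (⇑(derAdd θ₀))^[p] (a * b) = a • (⇑(derAdd θ₀))^[p] b + b • (⇑(derAdd θ₀))^[p] a := by
      rw [h1, smul_eq_mul, smul_eq_mul]
      ring
    exact h2)

lemma iterDer_apply (p : ℕ) [Fact p.Prime] [CharP B p] (θ₀ : Derivation A B B) (b : B) :
    iterDer p θ₀ b = (⇑θ₀)^[p] b := by
  show ((θ₀ : B →ₗ[A] B) ^ p) b = _
  rw [Module.End.pow_apply]
  rfl

variable (nabla : M →ₗ[A] M ⊗[B] KaehlerDifferential A B)

lemma alongDer_smul (hc : Conn.IsConn (KaehlerDifferential.D A B) nabla)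
    (θ : Derivation A B B) (b : B) (m : M) :
    Conn.alongDer nabla θ (b • m) = b • Conn.alongDer nabla θ m + θ b • m := by
  unfold Conn.alongDer
  rw [Conn.along_apply, Conn.along_apply, hc b m, map_add, map_add, map_smul, map_smul,
    TensorProduct.map_tmul, TensorProduct.rid_tmul, LinearMap.id_apply,
    Derivation.liftKaehlerDifferential_comp_D]

lemma lift_eq (θ₀ θ' : Derivation A B B) (c' : B) (h : ∀ b, θ' b = c' * θ₀ b) :
    θ'.liftKaehlerDifferential = c' • θ₀.liftKaehlerDifferential := by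
  apply LinearMap.ext_on (KaehlerDifferential.span_range_derivation A B)
  rintro _ ⟨b, rfl⟩
  rw [LinearMap.smul_apply, Derivation.liftKaehlerDifferential_comp_D,
    Derivation.liftKaehlerDifferential_comp_D, h b, smul_eq_mul]

lemma alongDer_eq (θ₀ θ' : Derivation A B B) (c' : B) (h : ∀ b, θ' b = c' * θ₀ b) :
    Conn.alongDer nabla θ' = mu A M c' * Conn.alongDer nabla θ₀ := by
  apply LinearMap.ext
  intro m
  show Conn.alongDer nabla θ' m = c' • Conn.alongDer nabla θ₀ m
  unfold Conn.alongDer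
  rw [Conn.along_apply, Conn.along_apply, lift_eq θ₀ θ' c' h, TensorProduct.map_smul_right,
    LinearMap.smul_apply, map_smul]

lemma der_eq_of_basis (bΩ : Module.Basis (Fin 1) B (KaehlerDifferential A B))
    (θ₀ : Derivation A B B) (hθ₀ : θ₀.liftKaehlerDifferential (bΩ 0) = 1)
    (θ : Derivation A B B) (b : B) :
    θ b = θ.liftKaehlerDifferential (bΩ 0) * θ₀ b := by
  have hl : θ.liftKaehlerDifferential =
      (θ.liftKaehlerDifferential (bΩ 0)) • θ₀.liftKaehlerDifferential := by
    apply bΩ.ext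
    intro i
    have hi : i = 0 := Subsingleton.elim i 0
    rw [hi, LinearMap.smul_apply, hθ₀, smul_eq_mul, mul_one]
  have h1 : θ b = θ.liftKaehlerDifferential (KaehlerDifferential.D A B b) :=
    (Derivation.liftKaehlerDifferential_comp_D θ b).symm
  have h2 : θ.liftKaehlerDifferential (KaehlerDifferential.D A B b) =
      ((θ.liftKaehlerDifferential (bΩ 0)) • θ₀.liftKaehlerDifferential)
        (KaehlerDifferential.D A B b) := by
    rw [← hl]
  rw [h1, h2, LinearMap.smul_apply, Derivation.liftKaehlerDifferential_comp_D, smul_eq_mul]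

theorem main16794 (p : ℕ) [Fact p.Prime] [CharP B p]
    (bΩ : Module.Basis (Fin 1) B (KaehlerDifferential A B)) (θ₀ : Derivation A B B)
    (hθ₀ : θ₀.liftKaehlerDifferential (bΩ 0) = 1)
    (hc : Conn.IsConn (KaehlerDifferential.D A B) nabla) :
    (∀ θ θp : Derivation A B B, Conn.IsIterPow θ p θp → Conn.pCurv p nabla θ θp = 0) ↔
      (∀ θp : Derivation A B B, Conn.IsIterPow θ₀ p θp → Conn.pCurv p nabla θ₀ θp = 0) := by
  constructor
  · intro H θp h
    exact H θ₀ θp h
  · intro H₀ θ θp hiter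
    set D : Module.End A M := Conn.alongDer nabla θ₀ with hDdef
    have hrel : ∀ b, D * mu A M b = mu A M b * D + mu A M (derAdd θ₀ b) := by
      intro b
      apply LinearMap.ext
      intro m
      show Conn.alongDer nabla θ₀ (b • m) = b • Conn.alongDer nabla θ₀ m + θ₀ b • m
      exact alongDer_smul nabla hc θ₀ b m
    -- decomposition of θ
    set c : B := θ.liftKaehlerDifferential (bΩ 0) with hcdef
    have hθ : ∀ b, θ b = c * θ₀ b := der_eq_of_basis bΩ θ₀ hθ₀ θ
    have hA1 : Conn.alongDer nabla θ = mu A M c * D := alongDer_eq nabla θ₀ θ c hθ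
    -- the p-th iterate of θ₀
    have hit0 : Conn.IsIterPow θ₀ p (iterDer p θ₀) := fun b => iterDer_apply p θ₀ b
    have h0 := H₀ (iterDer p θ₀) hit0
    set e : B := (iterDer p θ₀).liftKaehlerDifferential (bΩ 0) with hedef
    have hθ₀p : ∀ b, iterDer p θ₀ b = e * θ₀ b := der_eq_of_basis bΩ θ₀ hθ₀ (iterDer p θ₀)
    have hA2 : Conn.alongDer nabla (iterDer p θ₀) = mu A M e * D :=
      alongDer_eq nabla θ₀ (iterDer p θ₀) e hθ₀p
    have hDp : D ^ p = mu A M e * D := by
      have h1 : Conn.alongDer nabla θ₀ ^ p - Conn.alongDer nabla (iterDer p θ₀) = 0 := h0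
      rw [sub_eq_zero] at h1
      rw [← hA2]
      exact h1
    -- Hochschild on M
    have hM := hochschild (mu A M) (derAdd θ₀) D c p (derAdd_mul θ₀) hrel
    -- Hochschild on B
    have hrelB : ∀ b, (θ₀ : Module.End A B) * mu A B b =
        mu A B b * (θ₀ : Module.End A B) + mu A B (derAdd θ₀ b) := by
      intro b
      apply LinearMap.ext
      intro a
      show θ₀ (b • a) = b • θ₀ a + θ₀ b • a
      rw [smul_eq_mul, Derivation.leibniz, smul_eq_mul, smul_eq_mul, smul_eq_mul]
      ring
    have hBB := hochschild (mu A B) (derAdd θ₀) (θ₀ : Module.End A B) c p (derAdd_mul θ₀) hrelB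
    have hfun : ⇑(mu A B c * (θ₀ : Module.End A B)) = ⇑θ := funext fun x => (hθ x).symm
    have hB : ∀ b, (⇑θ)^[p] b = c ^ p * (⇑θ₀)^[p] b +
        ((⇑(dc (derAdd θ₀) c))^[p - 1] c) * θ₀ b := by
      intro b
      have h1 := LinearMap.congr_fun hBB b
      rw [Module.End.pow_apply, hfun] at h1
      rw [h1]
      show c ^ p • ((θ₀ : Module.End A B) ^ p) b +
        ((⇑(dc (derAdd θ₀) c))^[p - 1] c) • θ₀ b = _
      rw [Module.End.pow_apply, smul_eq_mul, smul_eq_mul]
      rfl
    have hθp : ∀ b, θp b = (c ^ p * e + (⇑(dc (derAdd θ₀) c))^[p - 1] c) * θ₀ b := by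
      intro b
      rw [hiter b, hB b, ← iterDer_apply p θ₀ b, hθ₀p b]
      ring
    have hA3 := alongDer_eq nabla θ₀ θp _ hθp
    show Conn.alongDer nabla θ ^ p - Conn.alongDer nabla θp = 0
    rw [hA1, hM, hDp, hA3, sub_eq_zero, map_add, map_mul, add_mul, mul_assoc]

end Concrete

end Groth.Agent.Lib.PCurv16794
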