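import Mathlib
import Groth.Agent.Lib.PCurv16794_lead

/-!
# Jacobian determinant `det (t_i^{p-1} δ_ij + ∂f_i/∂t_j) ≠ 0` in characteristic `p`
(helper library of helper1 for S18154)

`A` a commutative `k`-algebra of characteristic `p` with a basis `dt_i` of `Ω_{A/k}`.
Dual derivations `∂_j`.  `V = Σ_j im ∂_j`.  Expanding the determinant, every term but
`∏ t_i^{p-1}` lies in `V` (Piola identity), while `∏ t_i^{p-1} ∉ V` (apply `∂_k^{p-1}` repeatedly,
using `∂_k^p = 0`).
-/

namespace Groth.Agent.Lib.FrobJacH1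

open Finset

universe u v

section Generic

variable {R : Type*} [CommRing R] {n : ℕ}

/-- the `T`-term in the expansion of `det (diag u + J)` -/
noncomputable def term (u : Fin n → R) (J : Fin n → Fin n → R) (T : Finset (Fin n)) : R :=
  ∑ σ : Equiv.Perm (Fin n), ((Equiv.Perm.sign σ : ℤ) : R) *
    ((if ∀ i ∈ T, i = σ i then ∏ i ∈ T, u i else 0) * ∏ i ∈ univ \ T, J i (σ i))

lemma det_expand (u : Fin n → R) (J : Fin n → Fin n → R) :
    (Matrix.of fun i j : Fin n => (if i = j then u i else 0) + J i j).det =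
      ∑ T ∈ (univ : Finset (Fin n)).powerset, term u J T := by
  rw [← Matrix.det_transpose, Matrix.det_apply']
  unfold term
  rw [Finset.sum_comm]
  apply Finset.sum_congr rfl
  intro σ _
  rw [← Finset.mul_sum]
  congr 1
  have h1 : ∀ i, (Matrix.of fun i j : Fin n => (if i = j then u i else 0) + J i j).transpose (σ i) i
      = (if i = σ i then u i else 0) + J i (σ i) := fun i => rfl
  rw [Finset.prod_congr rfl (fun i _ => h1 i), Finset.prod_add]
  apply Finset.sum_congr rfl
  intro T _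
  congr 1
  by_cases h : ∀ i ∈ T, i = σ i
  · rw [if_pos h]
    exact Finset.prod_congr rfl (fun i hi => if_pos (h i hi))
  · rw [if_neg h]
    push_neg at h
    obtain ⟨i, hi, hne⟩ := h
    exact Finset.prod_eq_zero hi (if_neg hne)

lemma term_univ (u : Fin n → R) (J : Fin n → Fin n → R) :
    term u J univ = ∏ i, u i := by
  unfold term
  rw [Finset.sum_eq_single (1 : Equiv.Perm (Fin n))]
  · simp
  · intro σ _ hσ
    have : ¬ ∀ i ∈ (univ : Finset (Fin n)), i = σ i := by
      intro h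
      exact hσ (Equiv.ext fun i => (h i (mem_univ i)).symm)
    rw [if_neg this, zero_mul, mul_zero]
  · intro h
    exact absurd (mem_univ _) h

end Generic

variable {k : Type u} [CommRing k] {A : Type v} [CommRing A] [Algebra k A]

section Iter

lemma iter_sum {ι : Type*} (δ : Derivation k A A) (m : ℕ) (s : Finset ι) (g : ι → A) :
    (⇑δ)^[m] (∑ i ∈ s, g i) = ∑ i ∈ s, (⇑δ)^[m] (g i) := by
  induction m generalizing g with
  | zero => rfl
  | succ m ih =>
    show (⇑δ)^[m] (δ (∑ i ∈ s, g i)) = ∑ i ∈ s, (⇑δ)^[m] (δ (g i))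
    rw [map_sum, ih]

lemma iter_comm (δ₁ δ₂ : Derivation k A A) (h : ∀ a, δ₁ (δ₂ a) = δ₂ (δ₁ a)) (m : ℕ) (a : A) :
    (⇑δ₁)^[m] (δ₂ a) = δ₂ ((⇑δ₁)^[m] a) := by
  induction m generalizing a with
  | zero => rfl
  | succ m ih =>
    show (⇑δ₁)^[m] (δ₁ (δ₂ a)) = δ₂ ((⇑δ₁)^[m] (δ₁ a))
    rw [h, ih]

lemma iter_zero (δ : Derivation k A A) (m : ℕ) : (⇑δ)^[m] (0 : A) = 0 := by
  induction m with
  | zero => rfl
  | succ m ih =>
    show (⇑δ)^[m] (δ 0) = 0
    rw [map_zero, ih]

lemma iter_succ (δ : Derivation k A A) (m : ℕ) (a : A) :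
    (⇑δ)^[m + 1] a = (⇑δ)^[m] (δ a) := rfl

lemma iter_pow_mul (δ : Derivation k A A) (x r : A) (hx : δ x = 1) (hr : δ r = 0) (N : ℕ) :
    ∀ m : ℕ, (⇑δ)^[m] (x ^ N * r) = (N.descFactorial m : A) * (x ^ (N - m) * r) := by
  intro m
  induction m with
  | zero => simp
  | succ m ih =>
    rw [Function.iterate_succ_apply', ih, Derivation.leibniz, Derivation.map_natCast, smul_zero,
      add_zero, Derivation.leibniz, hr, smul_zero, zero_add, Derivation.leibniz_pow, hx,
      Nat.descFactorial_succ, Nat.sub_add_eq]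
    simp only [smul_eq_mul, nsmul_eq_mul, Nat.cast_mul, mul_one]
    ring

lemma der_prod {ι : Type*} [DecidableEq ι] (δ : Derivation k A A) (s : Finset ι) (g : ι → A) :
    δ (∏ i ∈ s, g i) = ∑ l ∈ s, (∏ i ∈ s.erase l, g i) * δ (g l) := by
  induction s using Finset.induction_on with
  | empty => simp
  | insert a s ha ih =>
    rw [Finset.prod_insert ha, Derivation.leibniz, ih, Finset.sum_insert ha,
      Finset.erase_insert ha, smul_eq_mul, smul_eq_mul, Finset.mul_sum, add_comm]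
    congr 1
    apply Finset.sum_congr rfl
    intro l hl
    have hla : a ≠ l := fun h => ha (h ▸ hl)
    rw [Finset.erase_insert_of_ne hla,
      Finset.prod_insert (fun h => ha (Finset.mem_of_mem_erase h)), mul_assoc]

end Iter

variable {n : ℕ} (t : Fin n → A) (b : Module.Basis (Fin n) A (KaehlerDifferential k A))

/-- the derivation dual to `b j` -/
noncomputable def dd (j : Fin n) : Derivation k A A :=
  (b.coord j).compDer (KaehlerDifferential.D k A)

lemma dd_apply (j : Fin n) (a : A) :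
    dd b j a = b.coord j (KaehlerDifferential.D k A a) := rfl

/-- the sum of the images of the `dd b j` -/
def InV (x : A) : Prop := ∃ H : Fin n → A, x = ∑ j, dd b j (H j)

lemma inV_zero : InV b (0 : A) := ⟨fun _ => 0, by simp⟩

lemma inV_add {x y : A} (hx : InV b x) (hy : InV b y) : InV b (x + y) := by
  obtain ⟨H, rfl⟩ := hx
  obtain ⟨H', rfl⟩ := hy
  refine ⟨fun j => H j + H' j, ?_⟩
  rw [← Finset.sum_add_distrib]
  exact Finset.sum_congr rfl (fun j _ => (map_add _ _ _).symm)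

lemma inV_zsmul (z : ℤ) {x : A} (hx : InV b x) : InV b (z • x) := by
  obtain ⟨H, rfl⟩ := hx
  refine ⟨fun j => z • H j, ?_⟩
  rw [Finset.smul_sum]
  exact Finset.sum_congr rfl (fun j _ => (map_zsmul _ _ _).symm)

lemma inV_neg {x : A} (hx : InV b x) : InV b (-x) := by
  simpa using inV_zsmul b (-1) hx

lemma inV_sum {ι : Type*} (s : Finset ι) (g : ι → A) (h : ∀ i ∈ s, InV b (g i)) :
    InV b (∑ i ∈ s, g i) := by
  classical
  induction s using Finset.induction_on with
  | empty => simpa using inV_zero b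
  | insert a s ha ih =>
    rw [Finset.sum_insert ha]
    exact inV_add b (h a (mem_insert_self a s)) (ih (fun i hi => h i (mem_insert_of_mem hi)))

lemma inV_dd (j : Fin n) (a : A) : InV b (dd b j a) := by
  refine ⟨fun l => if l = j then a else 0, ?_⟩
  rw [Finset.sum_eq_single j]
  · beta_reduce
    rw [if_pos rfl]
  · intro l _ hl
    beta_reduce
    rw [if_neg hl, map_zero]
  · intro h
    exact absurd (mem_univ j) h

variable (hb : ∀ i, b i = KaehlerDifferential.D k A (t i))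

include hb in
lemma dd_t (i j : Fin n) : dd b j (t i) = if i = j then 1 else 0 := by
  rw [dd_apply, ← hb i, Module.Basis.coord_apply, Module.Basis.repr_self, Finsupp.single_apply]

include hb in
lemma der_eq_zero (δ : Derivation k A A) (h : ∀ l, δ (t l) = 0) : δ = 0 := by
  have h1 : δ.liftKaehlerDifferential = 0 := by
    refine b.ext (fun l => ?_)
    rw [hb l, Derivation.liftKaehlerDifferential_comp_D, h l, LinearMap.zero_apply]
  ext a
  rw [← Derivation.liftKaehlerDifferential_comp_D δ a, h1, LinearMap.zero_apply,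
    Derivation.zero_apply]

include hb in
lemma dd_comm (i j : Fin n) (a : A) : dd b i (dd b j a) = dd b j (dd b i a) := by
  have h0 : ⁅dd b i, dd b j⁆ = 0 := by
    apply der_eq_zero t b hb
    intro l
    rw [Derivation.commutator_apply, dd_t t b hb, dd_t t b hb]
    split_ifs <;> simp [Derivation.map_one_eq_zero]
  have h1 : ⁅dd b i, dd b j⁆ a = 0 := by rw [h0, Derivation.zero_apply]
  rw [Derivation.commutator_apply] at h1
  exact sub_eq_zero.mp h1

include hb in
lemma dd_mT (T : Finset (Fin n)) (l : Fin n) (hl : l ∉ T) (N : ℕ) :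
    dd b l (∏ i ∈ T, t i ^ N) = 0 := by
  rw [der_prod]
  apply Finset.sum_eq_zero
  intro i hi
  have hil : i ≠ l := fun h => hl (h ▸ hi)
  rw [Derivation.leibniz_pow, dd_t t b hb, if_neg hil, smul_zero, smul_zero, mul_zero]

include hb in
lemma piola_gen (f : Fin n → A) (S T : Finset (Fin n)) (hST : ∀ i ∈ S, i ∉ T) (i₀ : Fin n)
    (hi₀ : i₀ ∈ S) (N : ℕ) :
    InV b (∑ σ : Equiv.Perm (Fin n), ((Equiv.Perm.sign σ : ℤ) : A) *
      ((if ∀ i ∈ T, i = σ i then ∏ i ∈ T, t i ^ N else 0) * ∏ i ∈ S, dd b (σ i) (f i))) := by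
  have hi₀T : i₀ ∉ T := hST i₀ hi₀
  have key : ∀ σ : Equiv.Perm (Fin n), (∀ i ∈ T, i = σ i) →
      (∏ i ∈ T, t i ^ N) * ∏ i ∈ S, dd b (σ i) (f i) =
        dd b (σ i₀) ((∏ i ∈ T, t i ^ N) * f i₀ * ∏ i ∈ S.erase i₀, dd b (σ i) (f i)) -
          (∏ i ∈ T, t i ^ N) * f i₀ * ∑ l ∈ S.erase i₀,
            (∏ i ∈ (S.erase i₀).erase l, dd b (σ i) (f i)) *
              dd b (σ i₀) (dd b (σ l) (f l)) := by
    intro σ hσ
    have hσi₀ : σ i₀ ∉ T := by
      intro h
      have h1 : σ i₀ = σ (σ i₀) := hσ _ h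
      have h2 : i₀ = σ i₀ := σ.injective h1
      rw [← h2] at h
      exact hi₀T h
    have h0 : dd b (σ i₀) (∏ i ∈ T, t i ^ N) = 0 := dd_mT t b hb T (σ i₀) hσi₀ N
    rw [Derivation.leibniz, Derivation.leibniz, h0, der_prod, ← Finset.mul_prod_erase S _ hi₀]
    simp only [smul_eq_mul]
    ring
  have hinv : ∀ l ∈ S.erase i₀, ∑ σ : Equiv.Perm (Fin n),
      (if ∀ i ∈ T, i = σ i then ((Equiv.Perm.sign σ : ℤ) : A) *
        ((∏ i ∈ (S.erase i₀).erase l, dd b (σ i) (f i)) *
          dd b (σ i₀) (dd b (σ l) (f l))) else 0) = 0 := by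
    intro l hl
    have hne : i₀ ≠ l := fun h => (Finset.mem_erase.mp hl).1 h.symm
    have hlT : l ∉ T := hST l (Finset.mem_of_mem_erase hl)
    apply Finset.sum_ninvolution (fun σ => σ * Equiv.swap i₀ l)
    · intro σ
      beta_reduce
      have hfix : (∀ i ∈ T, i = (σ * Equiv.swap i₀ l) i) ↔ (∀ i ∈ T, i = σ i) := by
        apply forall₂_congr
        intro i hi
        have h1 : i ≠ i₀ := fun h => hi₀T (by rw [← h]; exact hi)
        have h2 : i ≠ l := fun h => hlT (by rw [← h]; exact hi)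
        rw [Equiv.Perm.mul_apply, Equiv.swap_apply_of_ne_of_ne h1 h2]
      by_cases hσ : ∀ i ∈ T, i = σ i
      · rw [if_pos hσ, if_pos (hfix.mpr hσ)]
        have e1 : (σ * Equiv.swap i₀ l) i₀ = σ l := by
          rw [Equiv.Perm.mul_apply, Equiv.swap_apply_left]
        have e2 : (σ * Equiv.swap i₀ l) l = σ i₀ := by
          rw [Equiv.Perm.mul_apply, Equiv.swap_apply_right]
        have e3 : ∏ i ∈ (S.erase i₀).erase l, dd b ((σ * Equiv.swap i₀ l) i) (f i) =
            ∏ i ∈ (S.erase i₀).erase l, dd b (σ i) (f i) := by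
          apply Finset.prod_congr rfl
          intro i hi
          have h1 : i ≠ l := (Finset.mem_erase.mp hi).1
          have h2 : i ≠ i₀ := (Finset.mem_erase.mp (Finset.mem_erase.mp hi).2).1
          rw [Equiv.Perm.mul_apply, Equiv.swap_apply_of_ne_of_ne h2 h1]
        have e4 : ((Equiv.Perm.sign (σ * Equiv.swap i₀ l) : ℤ) : A) =
            -((Equiv.Perm.sign σ : ℤ) : A) := by
          rw [Equiv.Perm.sign_mul, Equiv.Perm.sign_swap hne, mul_neg, mul_one, Units.val_neg,
            Int.cast_neg]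
        rw [e1, e2, e3, e4, dd_comm t b hb (σ l) (σ i₀) (f l)]
        ring
      · rw [if_neg hσ, if_neg (fun h => hσ (hfix.mp h)), add_zero]
    · intro σ _ h
      have h' : σ * Equiv.swap i₀ l = σ := h
      have h1 : (σ * Equiv.swap i₀ l) i₀ = σ i₀ := by rw [h']
      rw [Equiv.Perm.mul_apply, Equiv.swap_apply_left] at h1
      exact hne (σ.injective h1).symm
    · intro σ
      exact Finset.mem_univ _
    · intro σ
      show σ * Equiv.swap i₀ l * Equiv.swap i₀ l = σ
      rw [mul_assoc, Equiv.swap_mul_self, mul_one]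
  have hsplit : ∀ σ : Equiv.Perm (Fin n), ((Equiv.Perm.sign σ : ℤ) : A) *
      ((if ∀ i ∈ T, i = σ i then ∏ i ∈ T, t i ^ N else 0) * ∏ i ∈ S, dd b (σ i) (f i)) =
      (if ∀ i ∈ T, i = σ i then (Equiv.Perm.sign σ : ℤ) •
          dd b (σ i₀) ((∏ i ∈ T, t i ^ N) * f i₀ * ∏ i ∈ S.erase i₀, dd b (σ i) (f i))
        else 0) -
        ∑ l ∈ S.erase i₀, ((∏ i ∈ T, t i ^ N) * f i₀) *
          (if ∀ i ∈ T, i = σ i then ((Equiv.Perm.sign σ : ℤ) : A) *
            ((∏ i ∈ (S.erase i₀).erase l, dd b (σ i) (f i)) *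
              dd b (σ i₀) (dd b (σ l) (f l))) else 0) := by
    intro σ
    by_cases hσ : ∀ i ∈ T, i = σ i
    · rw [if_pos hσ, if_pos hσ, key σ hσ, zsmul_eq_mul, mul_sub]
      congr 1
      rw [Finset.mul_sum, Finset.mul_sum]
      apply Finset.sum_congr rfl
      intro l _
      rw [if_pos hσ]
      ring
    · rw [if_neg hσ, if_neg hσ, zero_mul, mul_zero, zero_sub, eq_comm, neg_eq_zero]
      apply Finset.sum_eq_zero
      intro l _
      rw [if_neg hσ, mul_zero]
  have h2 : ∑ σ : Equiv.Perm (Fin n), ∑ l ∈ S.erase i₀, ((∏ i ∈ T, t i ^ N) * f i₀) *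
          (if ∀ i ∈ T, i = σ i then ((Equiv.Perm.sign σ : ℤ) : A) *
            ((∏ i ∈ (S.erase i₀).erase l, dd b (σ i) (f i)) *
              dd b (σ i₀) (dd b (σ l) (f l))) else 0) = 0 := by
    rw [Finset.sum_comm]
    apply Finset.sum_eq_zero
    intro l hl
    rw [← Finset.mul_sum, hinv l hl, mul_zero]
  rw [Finset.sum_congr rfl (fun σ _ => hsplit σ), Finset.sum_sub_distrib, h2, sub_zero]
  apply inV_sum
  intro σ _
  split_ifs
  · exact inV_zsmul b _ (inV_dd b _ _)
  · exact inV_zero b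

include hb in
lemma piola (f : Fin n → A) (T : Finset (Fin n)) (hT : T ≠ univ) (N : ℕ) :
    InV b (term (fun i => t i ^ N) (fun i j => dd b j (f i)) T) := by
  obtain ⟨i₀, hi₀⟩ : ∃ i₀, i₀ ∉ T := by
    by_contra hcon
    push_neg at hcon
    exact hT (Finset.eq_univ_iff_forall.mpr hcon)
  exact piola_gen t b hb f (univ \ T) T (fun i hi => (Finset.mem_sdiff.mp hi).2) i₀
    (Finset.mem_sdiff.mpr ⟨Finset.mem_univ _, hi₀⟩) N

variable (p : ℕ) [Fact p.Prime] [CharP A p]

include hb in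
lemma dd_iter_p (j : Fin n) (a : A) : (⇑(dd b j))^[p] a = 0 := by
  have h0 : Groth.Agent.Lib.PCurv16794.iterDer p (dd b j) = 0 := by
    apply der_eq_zero t b hb
    intro l
    rw [Groth.Agent.Lib.PCurv16794.iterDer_apply]
    obtain ⟨m, hm⟩ : ∃ m, p = m + 2 :=
      ⟨p - 2, by have := (Fact.out : p.Prime).two_le; omega⟩
    rw [hm]
    show (⇑(dd b j))^[m] (dd b j (dd b j (t l))) = 0
    rw [dd_t t b hb]
    have h3 : dd b j (if l = j then (1 : A) else 0) = 0 := by
      split_ifs <;> simp [Derivation.map_one_eq_zero]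
    rw [h3, iter_zero]
  rw [← Groth.Agent.Lib.PCurv16794.iterDer_apply, h0, Derivation.zero_apply]

include hb in
lemma step (R : Finset (Fin n)) (k₀ : Fin n) (hk : k₀ ∈ R) (C : ℕ) (H : Fin n → A)
    (hH : (C : A) * ∏ i ∈ R, t i ^ (p - 1) = ∑ j ∈ R, dd b j (H j)) :
    ∃ H' : Fin n → A, ((C * (p - 1).factorial : ℕ) : A) * ∏ i ∈ R.erase k₀, t i ^ (p - 1) =
      ∑ j ∈ R.erase k₀, dd b j (H' j) := by
  refine ⟨fun j => (⇑(dd b k₀))^[p - 1] (H j), ?_⟩
  have hL : (⇑(dd b k₀))^[p - 1] ((C : A) * ∏ i ∈ R, t i ^ (p - 1)) =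
      ((C * (p - 1).factorial : ℕ) : A) * ∏ i ∈ R.erase k₀, t i ^ (p - 1) := by
    have hr : dd b k₀ ((C : A) * ∏ i ∈ R.erase k₀, t i ^ (p - 1)) = 0 := by
      rw [Derivation.leibniz, Derivation.map_natCast, smul_zero, add_zero,
        dd_mT t b hb (R.erase k₀) k₀ (Finset.notMem_erase k₀ R) (p - 1), smul_zero]
    have hx : dd b k₀ (t k₀) = 1 := by rw [dd_t t b hb, if_pos rfl]
    have h1 : (C : A) * ∏ i ∈ R, t i ^ (p - 1) =
        t k₀ ^ (p - 1) * ((C : A) * ∏ i ∈ R.erase k₀, t i ^ (p - 1)) := by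
      rw [← Finset.mul_prod_erase R _ hk]
      ring
    rw [h1, iter_pow_mul (dd b k₀) (t k₀) _ hx hr (p - 1) (p - 1), Nat.descFactorial_self,
      Nat.sub_self, pow_zero, one_mul, Nat.cast_mul]
    ring
  have hR : (⇑(dd b k₀))^[p - 1] (∑ j ∈ R, dd b j (H j)) =
      ∑ j ∈ R.erase k₀, dd b j ((⇑(dd b k₀))^[p - 1] (H j)) := by
    rw [iter_sum, ← Finset.add_sum_erase R _ hk]
    have h0 : (⇑(dd b k₀))^[p - 1] (dd b k₀ (H k₀)) = 0 := by
      have h3 := dd_iter_p t b hb p k₀ (H k₀)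
      have hp1 : p = (p - 1) + 1 := by have := (Fact.out : p.Prime).two_le; omega
      rw [hp1, iter_succ] at h3
      exact h3
    rw [h0, zero_add]
    apply Finset.sum_congr rfl
    intro j _
    exact iter_comm (dd b k₀) (dd b j) (fun a => dd_comm t b hb k₀ j a) (p - 1) (H j)
  rw [← hL, hH, hR]

include hb in
lemma not_inV_prod : ¬ InV b (∏ i, t i ^ (p - 1)) := by
  rintro ⟨H0, hH0⟩
  have claim : ∀ s : Finset (Fin n), ∃ H : Fin n → A,
      (((p - 1).factorial ^ s.card : ℕ) : A) * ∏ i ∈ univ \ s, t i ^ (p - 1) =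
        ∑ j ∈ univ \ s, dd b j (H j) := by
    intro s
    induction s using Finset.induction_on with
    | empty =>
      refine ⟨H0, ?_⟩
      rw [Finset.card_empty, pow_zero, Nat.cast_one, one_mul, Finset.sdiff_empty]
      exact hH0
    | insert k₀ s hk ih =>
      obtain ⟨H, hH⟩ := ih
      have hkR : k₀ ∈ univ \ s := Finset.mem_sdiff.mpr ⟨Finset.mem_univ _, hk⟩
      obtain ⟨H', hH'⟩ := step t b hb p (univ \ s) k₀ hkR _ H hH
      refine ⟨H', ?_⟩
      rw [Finset.sdiff_insert, Finset.card_insert_of_notMem hk, pow_succ]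
      exact hH'
  obtain ⟨H, hH⟩ := claim univ
  rw [Finset.sdiff_self, Finset.prod_empty, Finset.sum_empty, mul_one,
    CharP.cast_eq_zero_iff A p] at hH
  have hp : p.Prime := Fact.out
  have h1 : p ∣ (p - 1).factorial := hp.dvd_of_dvd_pow hH
  rw [hp.dvd_factorial] at h1
  have := hp.two_le
  omega

include hb in
/-- **Main theorem.** -/
theorem det_ne_zero (f : Fin n → A) :
    (Matrix.of fun i j : Fin n => (if i = j then t i ^ (p - 1) else 0) +
      b.coord j (KaehlerDifferential.D k A (f i))).det ≠ 0 := by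
  intro hdet
  have hexp := det_expand (fun i => t i ^ (p - 1)) (fun i j => dd b j (f i))
  have hdet' : ∑ T ∈ (univ : Finset (Fin n)).powerset,
      term (fun i => t i ^ (p - 1)) (fun i j => dd b j (f i)) T = 0 := by
    rw [← hexp]
    exact hdet
  rw [← Finset.add_sum_erase _ _ (Finset.mem_powerset.mpr (Finset.Subset.refl univ)),
    term_univ] at hdet'
  have hV : InV b (∑ T ∈ (univ : Finset (Fin n)).powerset.erase univ,
      term (fun i => t i ^ (p - 1)) (fun i j => dd b j (f i)) T) := by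
    apply inV_sum
    intro T hT
    exact piola t b hb f T (Finset.mem_erase.mp hT).1 (p - 1)
  apply not_inV_prod t b hb p
  rw [eq_neg_of_add_eq_zero_left hdet']
  exact inV_neg b hV

end Groth.Agent.Lib.FrobJacH1
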