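import Mathlib
import Groth.Prelude
import Groth.Agent.Lib.FrobImageEpi_helper4

/-!
# Frobenius maps the `n`-th Frobenius-kernel thickening to the `(n+1)`-st (helper4).
APPEND-ONLY once landed.
-/

set_option autoImplicit false
set_option linter.style.haveILetI false

universe u

open CategoryTheory CategoryTheory.Limits AlgebraicGeometry Opposite TopologicalSpace

namespace Groth.Agent.Lib.FrobKerLiftH4

open Groth.Agent.Lib.FrobImageEpiH4

instance quasiCompact_frobIter (p : ℕ) [Fact p.Prime] (T : Scheme.{u}) [FrobSch.IsCharP T p]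
    (n : ℕ) : QuasiCompact (FrobSch.frobIter T p n) := by
  induction n with
  | zero =>
    rw [FrobSch.frobIter_zero]
    infer_instance
  | succ n ih =>
    rw [FrobSch.frobIter_succ]
    infer_instance

theorem ker_le (p : ℕ) [Fact p.Prime] (T : Scheme.{u}) [FrobSch.IsCharP T p] (n : ℕ) :
    (FrobSch.frobIter T p (n + 1)).ker ≤
      ((FrobSch.frobIter T p n).ker.subschemeι ≫ FrobSch.frob T p).ker := by
  rw [Scheme.IdealSheafData.le_def]
  intro U s hs
  have h1 : ((FrobSch.frobIter T p (n + 1)).app U).hom s = 0 :=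
    RingHom.mem_ker.mp (Scheme.Hom.ideal_ker_le _ U hs)
  rw [Scheme.Hom.ker_apply, RingHom.mem_ker]
  show (((FrobSch.frobIter T p n).ker.subschemeι).app U).hom (s ^ p) = 0
  have h2 : s ^ p ∈ (FrobSch.frobIter T p n).ker.ideal U := by
    rw [Scheme.Hom.ker_apply, RingHom.mem_ker, map_pow]
    exact h1
  rw [← Scheme.IdealSheafData.ker_subschemeι_app] at h2
  exact RingHom.mem_ker.mp h2

theorem main16483 (p : ℕ) [Fact p.Prime]
    (k : Type u) [Field k] [CharP k p] (n : ℕ)
    {T X : Scheme.{u}} [FrobSch.IsCharP T p] (t : T ⟶ Spec (CommRingCat.of k))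
    (x : X ⟶ Spec (CommRingCat.of k))
    (i : T.nilradical.subscheme ⟶ (FrobSch.frobIter T p (n + 1)).ker.subscheme)
    (hi : i ≫ (FrobSch.frobIter T p (n + 1)).ker.subschemeι = T.nilradical.subschemeι)
    (j : T.nilradical.subscheme ⟶ (FrobSch.frobIter T p n).ker.subscheme)
    (hj : j ≫ (FrobSch.frobIter T p n).ker.subschemeι = T.nilradical.subschemeι)
    (w : (FrobSch.frobIter T p (n + 1)).ker.subscheme ⟶ X)
    (hw : w ≫ x = (FrobSch.frobIter T p (n + 1)).ker.subschemeι ≫ t) :
    ∃ v : (FrobSch.frobIter T p n).ker.subscheme ⟶ FrobSch.frobTwist x p,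
      v ≫ pullback.snd x (FrobSch.frob (Spec (CommRingCat.of k)) p) =
          (FrobSch.frobIter T p n).ker.subschemeι ≫ t ∧
        j ≫ v = i ≫ w ≫ FrobSch.relFrob x p := by
  haveI : FrobSch.IsCharP X p := FrobSch.IsCharP.of_hom x p
  haveI : FrobSch.IsCharP (FrobSch.frobIter T p n).ker.subscheme p :=
    FrobSch.IsCharP.of_hom (FrobSch.frobIter T p n).ker.subschemeι p
  haveI : FrobSch.IsCharP (FrobSch.frobIter T p (n + 1)).ker.subscheme p :=
    FrobSch.IsCharP.of_hom (FrobSch.frobIter T p (n + 1)).ker.subschemeι p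
  haveI : FrobSch.IsCharP T.nilradical.subscheme p :=
    FrobSch.IsCharP.of_hom T.nilradical.subschemeι p
  have H : (FrobSch.frobIter T p (n + 1)).ker.subschemeι.ker ≤
      ((FrobSch.frobIter T p n).ker.subschemeι ≫ FrobSch.frob T p).ker := by
    rw [Scheme.IdealSheafData.ker_subschemeι]
    exact ker_le p T n
  let Φ : (FrobSch.frobIter T p n).ker.subscheme ⟶ (FrobSch.frobIter T p (n + 1)).ker.subscheme :=
    IsClosedImmersion.lift (FrobSch.frobIter T p (n + 1)).ker.subschemeι
      ((FrobSch.frobIter T p n).ker.subschemeι ≫ FrobSch.frob T p) H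
  have hΦ : Φ ≫ (FrobSch.frobIter T p (n + 1)).ker.subschemeι =
      (FrobSch.frobIter T p n).ker.subschemeι ≫ FrobSch.frob T p :=
    IsClosedImmersion.lift_fac _ _ _
  have hcond : (Φ ≫ w) ≫ x = ((FrobSch.frobIter T p n).ker.subschemeι ≫ t) ≫
      FrobSch.frob (Spec (CommRingCat.of k)) p := by
    rw [Category.assoc, hw, ← Category.assoc, hΦ, Category.assoc, Category.assoc,
      FrobSch.frob_comp]
  have key : j ≫ Φ = FrobSch.frob T.nilradical.subscheme p ≫ i := by
    rw [← cancel_mono (FrobSch.frobIter T p (n + 1)).ker.subschemeι, Category.assoc, hΦ,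
      ← Category.assoc, hj, Category.assoc, hi, FrobSch.frob_comp]
  refine ⟨(pullback.lift (Φ ≫ w) ((FrobSch.frobIter T p n).ker.subschemeι ≫ t) hcond :
    _ ⟶ pullback x (FrobSch.frob (Spec (CommRingCat.of k)) p)), pullback.lift_snd _ _ _, ?_⟩
  apply pullback.hom_ext
  · calc (j ≫ pullback.lift (Φ ≫ w) ((FrobSch.frobIter T p n).ker.subschemeι ≫ t) hcond) ≫
          pullback.fst x (FrobSch.frob (Spec (CommRingCat.of k)) p)
        = j ≫ (Φ ≫ w) := by rw [Category.assoc, pullback.lift_fst]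
      _ = (j ≫ Φ) ≫ w := (Category.assoc _ _ _).symm
      _ = (FrobSch.frob T.nilradical.subscheme p ≫ i) ≫ w := by rw [key]
      _ = FrobSch.frob T.nilradical.subscheme p ≫ (i ≫ w) := Category.assoc _ _ _
      _ = (i ≫ w) ≫ FrobSch.frob X p := FrobSch.frob_comp p (i ≫ w)
      _ = (i ≫ w) ≫ (FrobSch.relFrob x p ≫
          pullback.fst x (FrobSch.frob (Spec (CommRingCat.of k)) p)) := by
        rw [FrobSch.relFrob_fst]
      _ = (i ≫ w ≫ FrobSch.relFrob x p) ≫
          pullback.fst x (FrobSch.frob (Spec (CommRingCat.of k)) p) := by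
        simp only [Category.assoc]
  · calc (j ≫ pullback.lift (Φ ≫ w) ((FrobSch.frobIter T p n).ker.subschemeι ≫ t) hcond) ≫
          pullback.snd x (FrobSch.frob (Spec (CommRingCat.of k)) p)
        = j ≫ ((FrobSch.frobIter T p n).ker.subschemeι ≫ t) := by
          rw [Category.assoc, pullback.lift_snd]
      _ = (j ≫ (FrobSch.frobIter T p n).ker.subschemeι) ≫ t := (Category.assoc _ _ _).symm
      _ = (i ≫ (FrobSch.frobIter T p (n + 1)).ker.subschemeι) ≫ t := by rw [hj, hi]
      _ = i ≫ (w ≫ x) := by rw [Category.assoc, hw]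
      _ = i ≫ (w ≫ (FrobSch.relFrob x p ≫
          pullback.snd x (FrobSch.frob (Spec (CommRingCat.of k)) p))) := by
        rw [FrobSch.relFrob_snd]
      _ = (i ≫ w ≫ FrobSch.relFrob x p) ≫
          pullback.snd x (FrobSch.frob (Spec (CommRingCat.of k)) p) := by
        simp only [Category.assoc]

end Groth.Agent.Lib.FrobKerLiftH4
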