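import Mathlib
import Groth.Prelude.Def_PolLaw
import Groth.Prelude.Def_FrobAlg

/-!
# The Frobenius polynomial law `Twist p A → A` (S19489) — helper1

For a ring `A` of characteristic `p`, `a ↦ a^p` is a multiplicative polynomial law
`FrobAlg.Twist p A →ₚₗ[A] A`, homogeneous of degree `p`, with zero kernel; for
`A = F_p(t_0, t_1, …)` the twist is not a finite `A`-module.
-/

set_option autoImplicit false
universe u

namespace Groth.Agent.Lib.FrobLawH1

open scoped TensorProduct

section General

variable (p : ℕ) [Fact p.Prime] (A : Type u) [CommRing A] [CharP A p]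

lemma natCast_eq_zero (S : Type u) [CommSemiring S] [Algebra A S] : (p : S) = 0 := by
  rw [← map_natCast (algebraMap A S) p, CharP.cast_eq_zero A p, map_zero]

lemma add_pow_p (S : Type u) [CommSemiring S] [Algebra A S] (x y : S) :
    (x + y) ^ p = x ^ p + y ^ p := by
  obtain ⟨r, hr⟩ := exists_add_pow_prime_eq (Fact.out : p.Prime) x y
  rw [hr, natCast_eq_zero p A S, zero_mul, zero_mul, zero_mul, add_zero]

noncomputable def innerHom (S : Type u) [CommSemiring S] [Algebra A S] :
    S →+ FrobAlg.Twist p A →+ S ⊗[A] A where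
  toFun s :=
    { toFun := fun a => (s ^ p) ⊗ₜ[A] ((FrobAlg.toTwist p A).symm a)
      map_zero' := by rw [map_zero, TensorProduct.tmul_zero]
      map_add' := fun a b => by rw [map_add, TensorProduct.tmul_add] }
  map_zero' := by
    ext a
    show ((0 : S) ^ p) ⊗ₜ[A] ((FrobAlg.toTwist p A).symm a) = 0
    rw [zero_pow (Fact.out : p.Prime).ne_zero, TensorProduct.zero_tmul]
  map_add' := fun s t => by
    ext a
    show ((s + t) ^ p) ⊗ₜ[A] ((FrobAlg.toTwist p A).symm a) =
      (s ^ p) ⊗ₜ[A] ((FrobAlg.toTwist p A).symm a) + (t ^ p) ⊗ₜ[A] ((FrobAlg.toTwist p A).symm a)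
    rw [add_pow_p p A S, TensorProduct.add_tmul]

lemma innerHom_apply (S : Type u) [CommSemiring S] [Algebra A S] (s : S)
    (a : FrobAlg.Twist p A) :
    innerHom p A S s a = (s ^ p) ⊗ₜ[A] ((FrobAlg.toTwist p A).symm a) := rfl

lemma twist_smul (r : A) (a : FrobAlg.Twist p A) :
    (FrobAlg.toTwist p A).symm (r • a) = r ^ p * (FrobAlg.toTwist p A).symm a := by
  rw [Algebra.smul_def, FrobAlg.algebraMap_twist, map_mul, RingEquiv.symm_apply_apply]

noncomputable def gHom (S : Type u) [CommSemiring S] [Algebra A S] :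
    S ⊗[A] FrobAlg.Twist p A →+ S ⊗[A] A :=
  TensorProduct.liftAddHom (innerHom p A S) (fun r s a => by
    rw [innerHom_apply, innerHom_apply, twist_smul, smul_pow, TensorProduct.smul_tmul,
      smul_eq_mul])

lemma gHom_tmul (S : Type u) [CommSemiring S] [Algebra A S] (s : S) (a : FrobAlg.Twist p A) :
    gHom p A S (s ⊗ₜ[A] a) = (s ^ p) ⊗ₜ[A] ((FrobAlg.toTwist p A).symm a) := rfl

noncomputable def frobLaw : FrobAlg.Twist p A →ₚₗ[A] A where
  toFun' S _ _ := fun x => gHom p A S x
  isCompat' {S} _ _ {S'} _ _ φ := by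
    funext x
    simp only [Function.comp_apply]
    induction x using TensorProduct.induction_on with
    | zero => rw [map_zero, map_zero, map_zero, map_zero]
    | tmul s a =>
      simp only [gHom_tmul, LinearMap.rTensor_tmul, AlgHom.toLinearMap_apply, map_pow]
    | add x y hx hy => rw [map_add, map_add, hx, hy, map_add, map_add]

lemma frobLaw_toFun' (S : Type u) [CommSemiring S] [Algebra A S]
    (x : S ⊗[A] FrobAlg.Twist p A) : (frobLaw p A).toFun' S x = gHom p A S x := rfl

lemma frobLaw_homog : PolLaw.IsHomog (frobLaw p A) p := by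
  intro S _ _ s x
  rw [frobLaw_toFun', frobLaw_toFun']
  induction x using TensorProduct.induction_on with
  | zero => rw [smul_zero, map_zero, smul_zero]
  | tmul t a =>
    rw [TensorProduct.smul_tmul', smul_eq_mul, gHom_tmul, gHom_tmul, mul_pow,
      TensorProduct.smul_tmul', smul_eq_mul]
  | add x y hx hy => rw [smul_add, map_add, hx, hy, map_add, smul_add]

lemma frobLaw_mult : PolLaw.IsMult (frobLaw p A) := by
  intro S _ _
  refine ⟨?_, ?_⟩
  · rw [frobLaw_toFun', Algebra.TensorProduct.one_def, gHom_tmul, one_pow, map_one]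
    rfl
  · intro x y
    rw [frobLaw_toFun', frobLaw_toFun', frobLaw_toFun']
    induction x using TensorProduct.induction_on with
    | zero => rw [zero_mul, map_zero, zero_mul]
    | tmul s a =>
      induction y using TensorProduct.induction_on with
      | zero => rw [mul_zero, map_zero, mul_zero]
      | tmul t b =>
        rw [Algebra.TensorProduct.tmul_mul_tmul, gHom_tmul, gHom_tmul, gHom_tmul,
          Algebra.TensorProduct.tmul_mul_tmul, mul_pow, map_mul]
      | add y z hy hz => rw [mul_add, map_add, hy, hz, map_add, mul_add]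
    | add x z hx hz => rw [add_mul, map_add, hx, hz, map_add, add_mul]

noncomputable def frobMulLaw : PolLaw.MulLaw A (FrobAlg.Twist p A) A p :=
  ⟨frobLaw p A, frobLaw_homog p A, frobLaw_mult p A⟩

lemma frobMulLaw_tmul (S : Type u) [CommSemiring S] [Algebra A S] (s : S)
    (a : FrobAlg.Twist p A) :
    (frobMulLaw p A).law.toFun' S (s ⊗ₜ[A] a) =
      (s ^ p) ⊗ₜ[A] ((FrobAlg.toTwist p A).symm a) := rfl

theorem ker_eq_bot (F : PolLaw.MulLaw A (FrobAlg.Twist p A) A p)
    (hF : ∀ (S : Type u) [CommSemiring S] [Algebra A S] (s : S) (a : FrobAlg.Twist p A),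
      F.law.toFun' S (s ⊗ₜ[A] a) = (s ^ p) ⊗ₜ[A] ((FrobAlg.toTwist p A).symm a)) :
    PolLaw.ker F.law = ⊥ := by
  rw [eq_bot_iff]
  intro b hb
  rw [Ideal.mem_bot]
  have hb' : ∀ (S : Type u) [CommSemiring S] [Algebra A S] (x w : S ⊗[A] FrobAlg.Twist p A),
      F.law.toFun' S (x + w * (1 ⊗ₜ[A] b)) = F.law.toFun' S x := hb
  have h := hb' A (0 : A ⊗[A] FrobAlg.Twist p A) ((1 : A) ⊗ₜ[A] (1 : FrobAlg.Twist p A))
  rw [zero_add, Algebra.TensorProduct.tmul_mul_tmul, mul_one, one_mul] at h
  have h0 : F.law.toFun' A (0 : A ⊗[A] FrobAlg.Twist p A) = 0 := by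
    have := hF A (0 : A) (0 : FrobAlg.Twist p A)
    rw [TensorProduct.zero_tmul, zero_pow (Fact.out : p.Prime).ne_zero,
      TensorProduct.zero_tmul] at this
    exact this
  rw [hF, h0, one_pow] at h
  have h2 := congrArg (TensorProduct.lid A A) h
  rw [TensorProduct.lid_tmul, map_zero, one_smul] at h2
  exact (FrobAlg.toTwist p A).symm.injective (by rw [h2, map_zero])

end General

section Indep

variable (p : ℕ) [Fact p.Prime]

lemma poly_indep (s : Finset ℕ) (f : ℕ → MvPolynomial ℕ (ZMod p))
    (h : ∑ i ∈ s, (f i) ^ p * MvPolynomial.X i = 0) : ∀ j ∈ s, f j = 0 := by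
  classical
  intro j hj
  ext m
  rw [MvPolynomial.coeff_zero]
  have hp : p ≠ 0 := (Fact.out : p.Prime).ne_zero
  have hp2 : 2 ≤ p := (Fact.out : p.Prime).two_le
  have hc := congrArg (MvPolynomial.coeff (p • m + Finsupp.single j 1)) h
  rw [MvPolynomial.coeff_sum, MvPolynomial.coeff_zero] at hc
  rw [Finset.sum_eq_single j] at hc
  · rw [MvPolynomial.coeff_mul_X', if_pos, add_tsub_cancel_right, ← MvPolynomial.expand_zmod,
      MvPolynomial.coeff_expand_smul p hp] at hc
    · exact hc
    · rw [Finsupp.mem_support_iff, Finsupp.add_apply, Finsupp.single_eq_same]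
      omega
  · intro i _ hij
    rw [MvPolynomial.coeff_mul_X']
    split_ifs with hi
    · rw [← MvPolynomial.expand_zmod]
      apply MvPolynomial.coeff_expand_of_not_dvd (i := j)
      have hval : (p • m + Finsupp.single j 1 - Finsupp.single i 1 : ℕ →₀ ℕ) j = p * m j + 1 := by
        simp [Finsupp.tsub_apply, Finsupp.single_apply, hij]
      rw [hval]
      intro hdvd
      have h1 : p ∣ 1 := (Nat.dvd_add_right (dvd_mul_right p (m j))).mp hdvd
      have := Nat.le_of_dvd Nat.one_pos h1
      omega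
    · rfl
  · intro hj'
    exact absurd hj hj'

theorem twist_not_finite : ¬ Module.Finite (FractionRing (MvPolynomial ℕ (ZMod p)))
    (FrobAlg.Twist p (FractionRing (MvPolynomial ℕ (ZMod p)))) := by
  intro hfin
  have hli : LinearIndependent (FractionRing (MvPolynomial ℕ (ZMod p)))
      (fun i : ℕ => FrobAlg.toTwist p (FractionRing (MvPolynomial ℕ (ZMod p)))
        (algebraMap (MvPolynomial ℕ (ZMod p)) (FractionRing (MvPolynomial ℕ (ZMod p)))
          (MvPolynomial.X i))) := by
    rw [linearIndependent_iff']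
    intro s g hsum j hj
    have hterm : ∀ i, g i • FrobAlg.toTwist p (FractionRing (MvPolynomial ℕ (ZMod p)))
        (algebraMap (MvPolynomial ℕ (ZMod p)) (FractionRing (MvPolynomial ℕ (ZMod p)))
          (MvPolynomial.X i)) =
        FrobAlg.toTwist p (FractionRing (MvPolynomial ℕ (ZMod p))) ((g i) ^ p *
          algebraMap (MvPolynomial ℕ (ZMod p)) (FractionRing (MvPolynomial ℕ (ZMod p)))
            (MvPolynomial.X i)) := by
      intro i
      rw [Algebra.smul_def, FrobAlg.algebraMap_twist, map_mul]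
    have hsum' : ∑ i ∈ s, (g i) ^ p *
        algebraMap (MvPolynomial ℕ (ZMod p)) (FractionRing (MvPolynomial ℕ (ZMod p)))
          (MvPolynomial.X i) = 0 := by
      apply (FrobAlg.toTwist p (FractionRing (MvPolynomial ℕ (ZMod p)))).injective
      rw [map_sum, map_zero, ← hsum]
      exact Finset.sum_congr rfl (fun i _ => (hterm i).symm)
    obtain ⟨d, hd⟩ := IsLocalization.exist_integer_multiples_of_finset
      (nonZeroDivisors (MvPolynomial ℕ (ZMod p))) (s.image g)
    have hf : ∀ i, ∃ fi : MvPolynomial ℕ (ZMod p), i ∈ s →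
        algebraMap (MvPolynomial ℕ (ZMod p)) (FractionRing (MvPolynomial ℕ (ZMod p))) fi =
          (d : MvPolynomial ℕ (ZMod p)) • g i := by
      intro i
      by_cases hi : i ∈ s
      · obtain ⟨fi, hfi⟩ := RingHom.mem_rangeS.mp (hd (g i) (Finset.mem_image_of_mem g hi))
        exact ⟨fi, fun _ => hfi⟩
      · exact ⟨0, fun h => absurd h hi⟩
    choose f hf using hf
    have hinj := IsFractionRing.injective (MvPolynomial ℕ (ZMod p))
      (FractionRing (MvPolynomial ℕ (ZMod p)))
    have hpoly : ∑ i ∈ s, (f i) ^ p * MvPolynomial.X i = 0 := by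
      apply hinj
      rw [map_sum, map_zero]
      have hh : ∀ i ∈ s, algebraMap (MvPolynomial ℕ (ZMod p))
          (FractionRing (MvPolynomial ℕ (ZMod p))) ((f i) ^ p * MvPolynomial.X i) =
          (algebraMap (MvPolynomial ℕ (ZMod p)) (FractionRing (MvPolynomial ℕ (ZMod p)))
            (d : MvPolynomial ℕ (ZMod p))) ^ p * ((g i) ^ p *
            algebraMap (MvPolynomial ℕ (ZMod p)) (FractionRing (MvPolynomial ℕ (ZMod p)))
              (MvPolynomial.X i)) := by
        intro i hi
        rw [map_mul, map_pow, hf i hi, Algebra.smul_def, mul_pow, mul_assoc]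
      rw [Finset.sum_congr rfl hh, ← Finset.mul_sum, hsum', mul_zero]
    have hfj := poly_indep p s f hpoly j hj
    have hz : (d : MvPolynomial ℕ (ZMod p)) • g j = 0 := by
      rw [← hf j hj, hfj, map_zero]
    rw [Algebra.smul_def] at hz
    rcases mul_eq_zero.mp hz with h | h
    · exact absurd ((map_eq_zero_iff _ hinj).mp h) (nonZeroDivisors.coe_ne_zero d)
    · exact h
  haveI : IsNoetherian (FractionRing (MvPolynomial ℕ (ZMod p)))
      (FrobAlg.Twist p (FractionRing (MvPolynomial ℕ (ZMod p)))) := inferInstance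
  have hfinN := hli.finite_of_isNoetherian
  exact _root_.not_finite ℕ

theorem main19489 :
    (∃ F : PolLaw.MulLaw (FractionRing (MvPolynomial ℕ (ZMod p)))
        (FrobAlg.Twist p (FractionRing (MvPolynomial ℕ (ZMod p))))
        (FractionRing (MvPolynomial ℕ (ZMod p))) p,
      ∀ (S : Type) [CommSemiring S] [Algebra (FractionRing (MvPolynomial ℕ (ZMod p))) S] (s : S)
        (a : FrobAlg.Twist p (FractionRing (MvPolynomial ℕ (ZMod p)))),
        F.law.toFun' S (s ⊗ₜ[FractionRing (MvPolynomial ℕ (ZMod p))] a) =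
          (s ^ p) ⊗ₜ[FractionRing (MvPolynomial ℕ (ZMod p))]
            (FrobAlg.toTwist p (FractionRing (MvPolynomial ℕ (ZMod p)))).symm a) ∧
    (∀ F : PolLaw.MulLaw (FractionRing (MvPolynomial ℕ (ZMod p)))
        (FrobAlg.Twist p (FractionRing (MvPolynomial ℕ (ZMod p))))
        (FractionRing (MvPolynomial ℕ (ZMod p))) p,
      (∀ (S : Type) [CommSemiring S] [Algebra (FractionRing (MvPolynomial ℕ (ZMod p))) S] (s : S)
        (a : FrobAlg.Twist p (FractionRing (MvPolynomial ℕ (ZMod p)))),
        F.law.toFun' S (s ⊗ₜ[FractionRing (MvPolynomial ℕ (ZMod p))] a) =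
          (s ^ p) ⊗ₜ[FractionRing (MvPolynomial ℕ (ZMod p))]
            (FrobAlg.toTwist p (FractionRing (MvPolynomial ℕ (ZMod p)))).symm a) →
      PolLaw.ker F.law = ⊥) ∧
    ¬ Module.Finite (FractionRing (MvPolynomial ℕ (ZMod p)))
      (FrobAlg.Twist p (FractionRing (MvPolynomial ℕ (ZMod p)))) :=
  ⟨⟨frobMulLaw p _, fun S _ _ s a => rfl⟩, fun F hF => ker_eq_bot p _ F hF, twist_not_finite p⟩

end Indep

end Groth.Agent.Lib.FrobLawH1
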