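import Mathlib

/-! Linear algebra for the functional equation (helper9): endomorphisms adjoint up to a scalar for a
perfect pairing. APPEND-ONLY once landed. -/

universe u

open Polynomial Matrix

namespace Groth.Agent.FrobLA9

theorem matrix_charpoly_identity {n : Type*} [Fintype n] [DecidableEq n] {K : Type*} [Field K]
    (M N : Matrix n n K) (c : K) (h : M * N = c • (1 : Matrix n n K)) :
    C M.det * N.charpoly.reverse = (-1) ^ Fintype.card n * M.charpoly.comp (C c * X) := by
  rw [Matrix.reverse_charpoly, Matrix.charpolyRev]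
  have h1 : C M.det = (M.map C).det := by
    rw [← RingHom.mapMatrix_apply, ← RingHom.map_det]
  rw [h1, ← Matrix.det_mul]
  have h2 : M.map C * (1 - (X : K[X]) • N.map C) =
      M.map C - (C c * X) • (1 : Matrix n n K[X]) := by
    rw [mul_sub, mul_one, Matrix.mul_smul, ← Matrix.map_mul, h]
    congr 1
    ext i j
    by_cases hij : i = j
    · subst hij
      simp only [Matrix.smul_apply, Matrix.map_apply, Matrix.one_apply_eq, smul_eq_mul, mul_one]
      rw [mul_comm]
    · simp [Matrix.smul_apply, Matrix.one_apply_ne hij]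
  rw [h2]
  have h3 : M.charpoly.comp (C c * X) = ((C c * X) • (1 : Matrix n n K[X]) - M.map C).det := by
    rw [Matrix.charpoly, ← Polynomial.coe_compRingHom_apply, RingHom.map_det]
    congr 1
    ext i j
    by_cases hij : i = j
    · subst hij
      simp
    · simp [charmatrix_apply, Matrix.one_apply_ne hij, hij]
  rw [h3, ← Matrix.det_neg, neg_sub]


section LA

variable {K : Type*} [Field K]

/-- Endomorphisms `θ`, `ψ'` of a finite-dimensional space with `θ ∘ ψ' = c`. -/
theorem identities_of_comp {E : Type*} [AddCommGroup E] [Module K E] [FiniteDimensional K E]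
    (θ ψ' : E →ₗ[K] E) (c : K) (h : θ ∘ₗ ψ' = c • LinearMap.id) :
    LinearMap.det θ * LinearMap.det ψ' = c ^ Module.finrank K E ∧
    C (LinearMap.det θ) * ψ'.charpoly.reverse =
      (-1) ^ Module.finrank K E * θ.charpoly.comp (C c * X) := by
  classical
  let b := Module.finBasis K E
  have hMN : LinearMap.toMatrix b b θ * LinearMap.toMatrix b b ψ' =
      c • (1 : Matrix (Fin (Module.finrank K E)) (Fin (Module.finrank K E)) K) := by
    rw [← LinearMap.toMatrix_comp, h, map_smul, LinearMap.toMatrix_id]
  constructor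
  · rw [← LinearMap.det_toMatrix b, ← LinearMap.det_toMatrix b, ← Matrix.det_mul, hMN,
      Matrix.det_smul, Matrix.det_one, mul_one, Fintype.card_fin]
  · have := matrix_charpoly_identity _ _ c hMN
    rw [LinearMap.charpoly_toMatrix, LinearMap.charpoly_toMatrix, LinearMap.det_toMatrix,
      Fintype.card_fin] at this
    exact this

variable {V W : Type*} [AddCommGroup V] [Module K V] [AddCommGroup W] [Module K W]
  [FiniteDimensional K V] [FiniteDimensional K W]

lemma charpoly_dualMap (φ : V →ₗ[K] V) : φ.dualMap.charpoly = φ.charpoly := by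
  classical
  let b := Module.finBasis K V
  rw [← LinearMap.charpoly_toMatrix φ b, ← LinearMap.charpoly_toMatrix φ.dualMap b.dualBasis]
  have : LinearMap.toMatrix b.dualBasis b.dualBasis φ.dualMap = (LinearMap.toMatrix b b φ)ᵀ := by
    rw [← LinearMap.toMatrix_transpose]
    rfl
  rw [this, Matrix.charpoly_transpose]

/-- Two endomorphisms adjoint up to the scalar `c` with respect to a perfect pairing. -/
theorem adjoint_identities (P : V →ₗ[K] W →ₗ[K] K) [P.IsPerfPair] (φ : V →ₗ[K] V)
    (ψ : W →ₗ[K] W) (c : K) (h : ∀ a b, P (φ a) (ψ b) = c * P a b) :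
    LinearMap.det ψ * LinearMap.det φ = c ^ Module.finrank K V ∧
    LinearMap.det φ • ψ.charpoly.reverse =
      (-1) ^ Module.finrank K V * φ.charpoly.comp (C c * X) := by
  let D : W ≃ₗ[K] Module.Dual K V := P.flip.toPerfPair
  have hD : ∀ b a, D b a = P a b := fun b a => rfl
  have hcomp : φ.dualMap ∘ₗ (D.conj ψ) = c • LinearMap.id := by
    ext ℓ a
    obtain ⟨b, rfl⟩ := D.surjective ℓ
    simp only [LinearMap.comp_apply, LinearEquiv.conj_apply_apply, LinearEquiv.symm_apply_apply,
      LinearMap.dualMap_apply, LinearMap.smul_apply, LinearMap.id_apply]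
    rw [hD, h, hD, smul_eq_mul]
  obtain ⟨h1, h2⟩ := identities_of_comp _ _ c hcomp
  have hfr : Module.finrank K (Module.Dual K V) = Module.finrank K V :=
    Subspace.dual_finrank_eq
  have hdet : LinearMap.det (D.conj ψ) = LinearMap.det ψ := by
    rw [LinearEquiv.conj_apply, LinearMap.comp_assoc]
    exact LinearMap.det_conj ψ D
  rw [LinearMap.det_dualMap, hdet, hfr] at h1
  rw [LinearMap.det_dualMap, LinearEquiv.charpoly_conj, charpoly_dualMap, hfr] at h2
  refine ⟨by rw [mul_comm]; exact h1, ?_⟩
  rw [Polynomial.smul_eq_C_mul]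
  exact h2

end LA

end Groth.Agent.FrobLA9
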