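import Mathlib
import Groth.Agent.Lib.FrobLinAlg_helper9

/-! More algebra for the functional equation (helper9): skew forms, splitting sums, and the
abstract functional equation in `RatFunc`. APPEND-ONLY once landed. -/

universe u

open Polynomial Matrix

namespace Groth.Agent.FrobLA9

/-- A finite-dimensional space with a nondegenerate skew-symmetric form has even dimension
(characteristic different from 2). -/
theorem even_finrank_of_skew {K V : Type*} [Field K] [NeZero (2 : K)] [AddCommGroup V]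
    [Module K V] [FiniteDimensional K V] (P : V →ₗ[K] V →ₗ[K] K)
    (hinj : Function.Injective P) (hinj' : Function.Injective P.flip)
    (hskew : ∀ a b, P a b = - P b a) : Even (Module.finrank K V) := by
  classical
  by_contra hodd
  rw [Nat.not_even_iff_odd] at hodd
  let b := Module.finBasis K V
  have hnd : LinearMap.BilinForm.Nondegenerate P := by
    refine ⟨?_, ?_⟩
    · rw [LinearMap.separatingLeft_iff_ker_eq_bot]
      exact LinearMap.ker_eq_bot.2 hinj
    · rw [LinearMap.separatingRight_iff_flip_ker_eq_bot]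
      exact LinearMap.ker_eq_bot.2 hinj'
  have hdet := (LinearMap.BilinForm.nondegenerate_iff_det_ne_zero b).1 hnd
  set A := LinearMap.BilinForm.toMatrix b P with hA
  have hT : Aᵀ = -A := by
    ext i j
    simp only [Matrix.transpose_apply, Matrix.neg_apply, hA, LinearMap.BilinForm.toMatrix_apply]
    exact hskew _ _
  have h1 : A.det = -A.det := by
    conv_lhs => rw [← Matrix.det_transpose, hT, Matrix.det_neg, Fintype.card_fin, hodd.neg_one_pow]
    ring
  have h2 : (2 : K) * A.det = 0 := by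
    rw [two_mul]
    nth_rewrite 1 [h1]
    ring
  rcases mul_eq_zero.1 h2 with h | h
  · exact NeZero.ne (2 : K) h
  · exact hdet h

/-- Split a sum over `range (2 n + 1)` into even and odd indices. -/
theorem sum_range_even_odd {M : Type*} [AddCommMonoid M] (g : ℕ → M) (n : ℕ) :
    ∑ i ∈ Finset.range (2 * n + 1), g i =
      ∑ j ∈ Finset.range (n + 1), g (2 * j) + ∑ j ∈ Finset.range n, g (2 * j + 1) := by
  induction n with
  | zero => simp
  | succ n ih =>
    rw [show 2 * (n + 1) + 1 = (2 * n + 1) + 1 + 1 by ring, Finset.sum_range_succ,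
      Finset.sum_range_succ, ih, Finset.sum_range_succ (fun j => g (2 * j)) (n + 1),
      Finset.sum_range_succ (fun j => g (2 * j + 1)) n]
    rw [show 2 * (n + 1) = 2 * n + 1 + 1 by ring]
    abel

/-- Split a product over `range (2 n + 1)` into even and odd indices. -/
theorem prod_range_even_odd {M : Type*} [CommMonoid M] (g : ℕ → M) (n : ℕ) :
    ∏ i ∈ Finset.range (2 * n + 1), g i =
      (∏ j ∈ Finset.range (n + 1), g (2 * j)) * ∏ j ∈ Finset.range n, g (2 * j + 1) :=
  sum_range_even_odd (M := Additive M) g n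


section Abstract

variable {K : Type*} [Field K]

/-- Step A: evaluating a reversed polynomial at `1 / (q^n X)`. -/
lemma aeval_reverse_step (n : ℕ) (q : K) (hq : q ≠ 0) (χ₁ χ₂ : K[X]) (d : K) (B : ℕ)
    (h1 : χ₁.natDegree = B)
    (h2 : C d * χ₂.reverse = (-1) ^ B * χ₁.comp (C (q ^ n) * X)) :
    Polynomial.aeval ((RatFunc.X : RatFunc K)⁻¹ * RatFunc.C (q ^ n)⁻¹) χ₁.reverse =
      RatFunc.C ((-1) ^ B * d) * ((RatFunc.C (q ^ n) * RatFunc.X) ^ B)⁻¹ *
        algebraMap K[X] (RatFunc K) χ₂.reverse := by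
  set x : RatFunc K := RatFunc.C (q ^ n) * RatFunc.X with hx
  have hx0 : x ≠ 0 := by
    rw [hx]
    refine mul_ne_zero ?_ RatFunc.X_ne_zero
    rw [Ne, map_eq_zero]
    exact pow_ne_zero _ hq
  have hy : (RatFunc.X : RatFunc K)⁻¹ * RatFunc.C (q ^ n)⁻¹ = x⁻¹ := by
    rw [hx, map_inv₀, mul_inv, mul_comm]
  letI : Invertible x := invertibleOfNonzero hx0
  have key := Polynomial.eval₂_reverse_mul_pow (algebraMap K (RatFunc K)) x χ₁
  rw [invOf_eq_inv, h1] at key
  have hxalg : x = algebraMap K[X] (RatFunc K) (C (q ^ n) * X) := by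
    rw [map_mul, RatFunc.algebraMap_C, RatFunc.algebraMap_X]
  have hcomp : Polynomial.eval₂ (algebraMap K (RatFunc K)) x χ₁ =
      algebraMap K[X] (RatFunc K) (χ₁.comp (C (q ^ n) * X)) := by
    rw [← Polynomial.aeval_def, hxalg, Polynomial.aeval_algebraMap_apply, Polynomial.comp_eq_aeval]
  have h2' : χ₁.comp (C (q ^ n) * X) = (-1) ^ B * (C d * χ₂.reverse) := by
    rw [h2, ← mul_assoc, ← pow_add, ← two_mul, pow_mul]
    simp
  rw [hy, Polynomial.aeval_def]
  have hxB : x ^ B ≠ 0 := pow_ne_zero _ hx0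
  rw [eq_comm, mul_assoc, mul_comm ((x ^ B)⁻¹), ← mul_assoc, ← div_eq_mul_inv, div_eq_iff hxB,
    key, hcomp, h2']
  simp only [map_mul, map_pow, map_neg, map_one, RatFunc.algebraMap_C]
  ring


/-- Step B: products of step A. -/
lemma aeval_prod_step (n : ℕ) (q : K) (χ : ℕ → K[X]) (d : ℕ → K) (B : ℕ → ℕ)
    (s : Finset ℕ) (idx idx' : ℕ → ℕ)
    (h : ∀ j ∈ s, Polynomial.aeval ((RatFunc.X : RatFunc K)⁻¹ * RatFunc.C (q ^ n)⁻¹)
        (χ (idx j)).reverse =
      RatFunc.C ((-1) ^ B (idx j) * d (idx j)) *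
        ((RatFunc.C (q ^ n) * RatFunc.X) ^ B (idx j))⁻¹ *
        algebraMap K[X] (RatFunc K) (χ (idx' j)).reverse) :
    Polynomial.aeval ((RatFunc.X : RatFunc K)⁻¹ * RatFunc.C (q ^ n)⁻¹)
        (∏ j ∈ s, (χ (idx j)).reverse) =
      RatFunc.C ((-1) ^ (∑ j ∈ s, B (idx j)) * ∏ j ∈ s, d (idx j)) *
        ((RatFunc.C (q ^ n) * RatFunc.X) ^ (∑ j ∈ s, B (idx j)))⁻¹ *
        algebraMap K[X] (RatFunc K) (∏ j ∈ s, (χ (idx' j)).reverse) := by
  rw [map_prod, Finset.prod_congr rfl h, Finset.prod_mul_distrib, Finset.prod_mul_distrib,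
    ← map_prod, Finset.prod_mul_distrib, Finset.prod_pow_eq_pow_sum, Finset.prod_inv_distrib,
    Finset.prod_pow_eq_pow_sum, ← map_prod]


/-- The functional equation, abstractly. -/
theorem zeta_fe_abstract (n : ℕ) (q : K) (hq : q ≠ 0) (χ : ℕ → K[X]) (d : ℕ → K) (B : ℕ → ℕ)
    (h1 : ∀ i ≤ 2 * n, (χ i).natDegree = B i)
    (h2 : ∀ i ≤ 2 * n, C (d i) * (χ (2 * n - i)).reverse =
      (-1) ^ (B i) * (χ i).comp (C (q ^ n) * X))
    (h3 : ∀ i ≤ 2 * n, d (2 * n - i) * d i = q ^ (n * B i))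
    (h4 : Even ((n : ℤ) * ∑ i ∈ Finset.range (2 * n + 1), (-1 : ℤ) ^ i * (B i : ℤ))) :
    ∃ ε : K, (ε = 1 ∨ ε = -1) ∧
      Polynomial.aeval ((RatFunc.X : RatFunc K)⁻¹ * RatFunc.C (q ^ n)⁻¹)
          (∏ i ∈ Finset.range n, (χ (2 * i + 1)).reverse) /
        Polynomial.aeval ((RatFunc.X : RatFunc K)⁻¹ * RatFunc.C (q ^ n)⁻¹)
          (∏ i ∈ Finset.range (n + 1), (χ (2 * i)).reverse) =
      RatFunc.C ε * RatFunc.C q ^
          ((n : ℤ) * (∑ i ∈ Finset.range (2 * n + 1), (-1 : ℤ) ^ i * (B i : ℤ)) / 2) *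
        (RatFunc.X : RatFunc K) ^ (∑ i ∈ Finset.range (2 * n + 1), (-1 : ℤ) ^ i * (B i : ℤ)) *
        (algebraMap K[X] (RatFunc K) (∏ i ∈ Finset.range n, (χ (2 * i + 1)).reverse) /
         algebraMap K[X] (RatFunc K) (∏ i ∈ Finset.range (n + 1), (χ (2 * i)).reverse)) := by
  set t : RatFunc K := RatFunc.X with ht
  set x : RatFunc K := RatFunc.C (q ^ n) * t with hx
  set Podd : K[X] := ∏ i ∈ Finset.range n, (χ (2 * i + 1)).reverse with hPodd
  set Pev : K[X] := ∏ i ∈ Finset.range (n + 1), (χ (2 * i)).reverse with hPev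
  set Bo : ℕ := ∑ j ∈ Finset.range n, B (2 * j + 1) with hBo
  set Be : ℕ := ∑ j ∈ Finset.range (n + 1), B (2 * j) with hBe
  set E : ℤ := ∑ i ∈ Finset.range (2 * n + 1), (-1 : ℤ) ^ i * (B i : ℤ) with hE
  set Do : K := ∏ j ∈ Finset.range n, d (2 * j + 1) with hDo
  set De : K := ∏ j ∈ Finset.range (n + 1), d (2 * j) with hDe
  have hx0 : x ≠ 0 := by
    rw [hx]
    refine mul_ne_zero ?_ RatFunc.X_ne_zero
    rw [Ne, map_eq_zero]
    exact pow_ne_zero _ hq
  have hCq0 : RatFunc.C q ≠ (0 : RatFunc K) := by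
    rw [Ne, map_eq_zero]; exact hq
  -- `E = Be - Bo`
  have hE' : E = (Be : ℤ) - Bo := by
    have e1 : ∀ j, (-1 : ℤ) ^ (2 * j) = 1 := fun j => by rw [pow_mul]; simp
    have e2 : ∀ j, (-1 : ℤ) ^ (2 * j + 1) = -1 := fun j => by rw [pow_succ, e1]; simp
    rw [hE, sum_range_even_odd, hBe, hBo]
    push_cast
    simp only [e1, e2, one_mul, neg_one_mul, Finset.sum_neg_distrib]
    ring
  -- squares of the determinants
  have hDo2 : Do * Do = q ^ (n * Bo) := by
    have hrefl : Do = ∏ j ∈ Finset.range n, d (2 * n - (2 * j + 1)) := by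
      rw [hDo, ← Finset.prod_range_reflect]
      refine Finset.prod_congr rfl (fun j hj => ?_)
      have := Finset.mem_range.1 hj
      congr 1
      omega
    nth_rewrite 1 [hrefl]
    rw [hDo, ← Finset.prod_mul_distrib, hBo, Finset.mul_sum, ← Finset.prod_pow_eq_pow_sum]
    refine Finset.prod_congr rfl (fun j hj => h3 _ ?_)
    have := Finset.mem_range.1 hj
    omega
  have hDe2 : De * De = q ^ (n * Be) := by
    have hrefl : De = ∏ j ∈ Finset.range (n + 1), d (2 * n - 2 * j) := by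
      rw [hDe, ← Finset.prod_range_reflect]
      refine Finset.prod_congr rfl (fun j hj => ?_)
      have := Finset.mem_range.1 hj
      congr 1
      omega
    nth_rewrite 1 [hrefl]
    rw [hDe, ← Finset.prod_mul_distrib, hBe, Finset.mul_sum, ← Finset.prod_pow_eq_pow_sum]
    refine Finset.prod_congr rfl (fun j hj => h3 _ ?_)
    have := Finset.mem_range.1 hj
    omega
  have hDo0 : Do ≠ 0 := by
    intro h0
    rw [h0, mul_zero] at hDo2
    exact pow_ne_zero _ hq hDo2.symm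
  have hDe0 : De ≠ 0 := by
    intro h0
    rw [h0, mul_zero] at hDe2
    exact pow_ne_zero _ hq hDe2.symm
  -- evaluation of the two products
  have hodd : Polynomial.aeval (t⁻¹ * RatFunc.C (q ^ n)⁻¹) Podd =
      RatFunc.C ((-1) ^ Bo * Do) * (x ^ Bo)⁻¹ * algebraMap K[X] (RatFunc K) Podd := by
    have := aeval_prod_step n q χ d B (Finset.range n) (fun j => 2 * j + 1)
      (fun j => 2 * n - (2 * j + 1)) (fun j hj => aeval_reverse_step n q hq _ _ _ _
        (h1 _ (by have := Finset.mem_range.1 hj; omega))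
        (h2 _ (by have := Finset.mem_range.1 hj; omega)))
    rw [this]
    congr 2
    rw [hPodd, ← Finset.prod_range_reflect (fun j => (χ (2 * j + 1)).reverse) n]
    refine Finset.prod_congr rfl (fun j hj => ?_)
    have := Finset.mem_range.1 hj
    congr 2
    omega
  have hev : Polynomial.aeval (t⁻¹ * RatFunc.C (q ^ n)⁻¹) Pev =
      RatFunc.C ((-1) ^ Be * De) * (x ^ Be)⁻¹ * algebraMap K[X] (RatFunc K) Pev := by
    have := aeval_prod_step n q χ d B (Finset.range (n + 1)) (fun j => 2 * j)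
      (fun j => 2 * n - 2 * j) (fun j hj => aeval_reverse_step n q hq _ _ _ _
        (h1 _ (by have := Finset.mem_range.1 hj; omega))
        (h2 _ (by have := Finset.mem_range.1 hj; omega)))
    rw [this]
    congr 2
    rw [hPev, ← Finset.prod_range_reflect (fun j => (χ (2 * j)).reverse) (n + 1)]
    refine Finset.prod_congr rfl (fun j hj => ?_)
    have := Finset.mem_range.1 hj
    congr 2
    omega
  -- the half exponent
  obtain ⟨m, hm⟩ := h4
  have hm2 : (n : ℤ) * E / 2 = m := by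
    rw [hm, ← two_mul, Int.mul_ediv_cancel_left _ (by norm_num : (2 : ℤ) ≠ 0)]
  -- the sign
  refine ⟨(-1) ^ Bo * (-1) ^ Be * (Do / De) * q ^ m, ?_, ?_⟩
  · rw [← mul_self_eq_one_iff]
    have hs1 : ((-1 : K) ^ Bo) * ((-1 : K) ^ Bo) = 1 := by
      rw [← pow_add, ← two_mul, pow_mul]; simp
    have hs2 : ((-1 : K) ^ Be) * ((-1 : K) ^ Be) = 1 := by
      rw [← pow_add, ← two_mul, pow_mul]; simp
    have hq2 : q ^ m * q ^ m = q ^ ((n : ℤ) * Be) / q ^ ((n : ℤ) * Bo) := by
      rw [← zpow_add₀ hq, ← hm, hE', ← zpow_sub₀ hq]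
      congr 1
      ring
    have hD : Do / De * (Do / De) = q ^ ((n : ℤ) * Bo) / q ^ ((n : ℤ) * Be) := by
      rw [div_mul_div_comm, hDo2, hDe2]
      norm_cast
    calc (-1) ^ Bo * (-1) ^ Be * (Do / De) * q ^ m * ((-1) ^ Bo * (-1) ^ Be * (Do / De) * q ^ m)
        = ((-1) ^ Bo * (-1) ^ Bo) * ((-1) ^ Be * (-1) ^ Be) * (Do / De * (Do / De)) *
            (q ^ m * q ^ m) := by ring
      _ = 1 := by
        rw [hs1, hs2, hD, hq2, one_mul, one_mul, div_mul_div_comm, mul_comm, div_self]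
        exact mul_ne_zero (zpow_ne_zero _ hq) (zpow_ne_zero _ hq)
  · rw [hodd, hev, hm2]
    have hxE : x ^ E = RatFunc.C q ^ m * RatFunc.C q ^ m * t ^ E := by
      rw [hx, mul_zpow, map_pow, ← zpow_natCast (RatFunc.C q) n, ← _root_.zpow_mul, hm, zpow_add₀ hCq0]
    have hxBe : (x ^ Be)⁻¹ ≠ 0 := inv_ne_zero (pow_ne_zero _ hx0)
    have hratio : (x ^ Bo)⁻¹ / (x ^ Be)⁻¹ = x ^ E := by
      rw [hE', zpow_sub₀ hx0, zpow_natCast, zpow_natCast, inv_div_inv]
    have hCε : RatFunc.C ((-1) ^ Bo * (-1) ^ Be * (Do / De) * q ^ m) =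
        RatFunc.C ((-1) ^ Bo * Do) / RatFunc.C ((-1) ^ Be * De) * RatFunc.C q ^ m := by
      rw [← map_zpow₀, ← map_div₀, ← map_mul]
      congr 1
      have hinv : ((-1 : K) ^ Be)⁻¹ = (-1) ^ Be := by rw [← inv_pow, inv_neg_one]
      rw [div_eq_mul_inv ((-1) ^ Bo * Do), mul_inv, hinv]
      ring
    rw [hCε, mul_div_mul_comm, mul_div_mul_comm, hratio, hxE]
    ring

end Abstract


/-- Parity of `n · Σ (-1)^i B_i` for a symmetric sequence with even middle term when `n` is
odd. -/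
theorem even_mul_alt_sum (n : ℕ) (B : ℕ → ℕ) (hsymm : ∀ i ≤ 2 * n, B (2 * n - i) = B i)
    (hmid : Odd n → Even (B n)) :
    Even ((n : ℤ) * ∑ i ∈ Finset.range (2 * n + 1), (-1 : ℤ) ^ i * (B i : ℤ)) := by
  set g : ℕ → ℤ := fun i => (-1 : ℤ) ^ i * (B i : ℤ) with hg
  have hrefl : ∀ j < n, g (n + (n - 1 - j + 1)) = g j := by
    intro j hj
    have e1 : n + (n - 1 - j + 1) = 2 * n - j := by omega
    rw [e1, hg]
    dsimp only
    rw [hsymm j (by omega)]
    congr 1
    have e2 : (-1 : ℤ) ^ (2 * n - j) * (-1) ^ j = 1 := by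
      rw [← pow_add, show 2 * n - j + j = 2 * n by omega, pow_mul]
      simp
    have e3 : (-1 : ℤ) ^ j * (-1) ^ j = 1 := by
      rw [← pow_add, ← two_mul, pow_mul]
      simp
    calc (-1 : ℤ) ^ (2 * n - j) = (-1 : ℤ) ^ (2 * n - j) * ((-1) ^ j * (-1) ^ j) := by
          rw [e3, mul_one]
      _ = (-1) ^ j := by rw [← mul_assoc, e2, one_mul]
  have hsum : ∑ i ∈ Finset.range (2 * n + 1), g i = 2 * ∑ i ∈ Finset.range n, g i + g n := by
    rw [show 2 * n + 1 = n + (n + 1) by ring, Finset.sum_range_add, Finset.sum_range_succ',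
      ← Finset.sum_range_reflect (fun j => g (n + (j + 1))) n,
      Finset.sum_congr rfl (fun j hj => hrefl j (Finset.mem_range.1 hj))]
    simp only [add_zero]
    ring
  rw [hsum, mul_add]
  refine Even.add ⟨(n : ℤ) * ∑ i ∈ Finset.range n, g i, by ring⟩ ?_
  rcases Nat.even_or_odd n with hn | hn
  · exact Even.mul_right (by exact_mod_cast hn) _
  · refine Even.mul_left ?_ _
    rw [hg]
    dsimp only
    refine Even.mul_left ?_ _
    exact_mod_cast hmid hn

end Groth.Agent.FrobLA9
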