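import Mathlib

namespace Groth.Agent.Lib.FrobLinEtale

open MvPolynomial

universe u

variable (p : ℕ) [Fact p.Prime] (A : Type u) [CommRing A] [CharP A p] (n : ℕ)
  (h : Matrix (Fin n) (Fin n) A)

/-- the relations -/
noncomputable abbrev rel (j : Fin n) : MvPolynomial (Fin n) A :=
  (X j) ^ p - ∑ i : Fin n, C (h i j) * X i

theorem pderiv_rel (i j : Fin n) : pderiv i (rel p A n h j) = C (-(h i j)) := by
  have hp0 : ((p : ℕ) : MvPolynomial (Fin n) A) = 0 := by
    rw [← map_natCast (C : A →+* MvPolynomial (Fin n) A), CharP.cast_eq_zero A p, map_zero]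
  unfold rel
  rw [map_sub, Derivation.leibniz_pow, nsmul_eq_mul, hp0, zero_mul, zero_sub, map_sum]
  simp only [pderiv_C_mul, pderiv_X, Pi.single_apply]
  rw [Finset.sum_eq_single i]
  · simp
  · intro b _ hb
    simp [hb]
  · intro hi
    exact absurd (Finset.mem_univ _) hi

theorem etale_of_isUnit (hu : IsUnit h.det) :
    Algebra.Etale A (MvPolynomial (Fin n) A ⧸ Ideal.span (Set.range (rel p A n h))) := by
  classical
  let P₀ := Algebra.PreSubmersivePresentation.naive (R := A) (v := rel p A n h)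
    (id : Fin n → Fin n) Function.injective_id
  have hjac : IsUnit P₀.jacobian := by
    rw [Algebra.PreSubmersivePresentation.jacobian_eq_jacobiMatrix_det]
    apply IsUnit.map
    have hm : P₀.jacobiMatrix = (C : A →+* MvPolynomial (Fin n) A).mapMatrix (-h) := by
      ext i j
      rw [Algebra.PreSubmersivePresentation.jacobiMatrix_naive]
      simp [pderiv_rel]
    rw [hm, ← RingHom.map_det, Matrix.det_neg]
    apply IsUnit.map
    exact (IsUnit.pow _ isUnit_one.neg).mul hu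
  let P : Algebra.SubmersivePresentation A
      (MvPolynomial (Fin n) A ⧸ Ideal.span (Set.range (rel p A n h))) (Fin n) (Fin n) :=
    { toPreSubmersivePresentation := P₀, jacobian_isUnit := hjac }
  haveI : Algebra.IsStandardSmoothOfRelativeDimension 0 A
      (MvPolynomial (Fin n) A ⧸ Ideal.span (Set.range (rel p A n h))) :=
    P.isStandardSmoothOfRelativeDimension (by simp [Algebra.Presentation.dimension])
  infer_instance

theorem isUnit_of_unramified
    [Algebra.FormallyUnramified A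
      (MvPolynomial (Fin n) A ⧸ Ideal.span (Set.range (rel p A n h)))] :
    IsUnit h.det := by
  classical
  by_contra hnu
  obtain ⟨m, hm, hmem⟩ := exists_max_ideal_of_mem_nonunits (mem_nonunits_iff.mpr hnu)
  haveI := hm
  letI : Field (A ⧸ m) := Ideal.Quotient.field m
  let hbar : Matrix (Fin n) (Fin n) (A ⧸ m) := (Ideal.Quotient.mk m).mapMatrix h
  have hdet : hbar.det = 0 := by
    rw [← RingHom.map_det]
    exact Ideal.Quotient.eq_zero_iff_mem.mpr hmem
  obtain ⟨w, hw0, hw⟩ := Matrix.exists_vecMul_eq_zero_iff.mpr hdet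
  have hp2 : 2 ≤ p := (Fact.out : p.Prime).two_le
  have hpow : ∀ x : A ⧸ m, (TrivSqZeroExt.inr x : TrivSqZeroExt (A ⧸ m) (A ⧸ m)) ^ p = 0 := by
    intro x
    obtain ⟨q, rfl⟩ := Nat.exists_eq_add_of_le hp2
    rw [pow_add, pow_two, TrivSqZeroExt.inr_mul_inr, zero_mul]
  have hrel : ∀ (f : Fin n → TrivSqZeroExt (A ⧸ m) (A ⧸ m)),
      (∀ j, (f j) ^ p - ∑ i, algebraMap A (TrivSqZeroExt (A ⧸ m) (A ⧸ m)) (h i j) * f i = 0) →
      ∀ a ∈ Ideal.span (Set.range (rel p A n h)), MvPolynomial.aeval f a = 0 := by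
    intro f hf a ha
    have hle : Ideal.span (Set.range (rel p A n h)) ≤ RingHom.ker
        (MvPolynomial.aeval f :
          MvPolynomial (Fin n) A →ₐ[A] TrivSqZeroExt (A ⧸ m) (A ⧸ m)).toRingHom := by
      rw [Ideal.span_le]
      rintro _ ⟨j, rfl⟩
      rw [SetLike.mem_coe, RingHom.mem_ker]
      change MvPolynomial.aeval f (rel p A n h j) = 0
      unfold rel
      simp only [map_sub, map_pow, map_sum, map_mul, MvPolynomial.aeval_X, MvPolynomial.aeval_C]
      exact hf j
    exact hle ha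
  have h1 : ∀ j, ((fun i => (TrivSqZeroExt.inr (w i) : TrivSqZeroExt (A ⧸ m) (A ⧸ m))) j) ^ p
      - ∑ i, algebraMap A (TrivSqZeroExt (A ⧸ m) (A ⧸ m)) (h i j) *
          (fun i => (TrivSqZeroExt.inr (w i) : TrivSqZeroExt (A ⧸ m) (A ⧸ m))) i = 0 := by
    intro j
    simp only
    rw [hpow, zero_sub, neg_eq_zero]
    have h3 : ∀ i, algebraMap A (TrivSqZeroExt (A ⧸ m) (A ⧸ m)) (h i j) * TrivSqZeroExt.inr (w i)
        = TrivSqZeroExt.inr (w i * hbar i j) := by
      intro i
      rw [TrivSqZeroExt.algebraMap_eq_inl', TrivSqZeroExt.inl_mul_inr, smul_eq_mul, mul_comm]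
      rfl
    simp_rw [h3]
    rw [← TrivSqZeroExt.inr_sum]
    have h4 := congrFun hw j
    simp only [Matrix.vecMul, dotProduct, Pi.zero_apply] at h4
    rw [h4, TrivSqZeroExt.inr_zero]
  have h0 : ∀ j, ((fun _ => (0 : TrivSqZeroExt (A ⧸ m) (A ⧸ m))) j) ^ p
      - ∑ i, algebraMap A (TrivSqZeroExt (A ⧸ m) (A ⧸ m)) (h i j) *
          (fun _ => (0 : TrivSqZeroExt (A ⧸ m) (A ⧸ m))) i = 0 := by
    intro j
    simp [zero_pow (Fact.out : p.Prime).ne_zero]
  let g₁ := Ideal.Quotient.liftₐ (Ideal.span (Set.range (rel p A n h)))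
    (MvPolynomial.aeval fun i => (TrivSqZeroExt.inr (w i) : TrivSqZeroExt (A ⧸ m) (A ⧸ m)))
    (hrel _ h1)
  let g₀ := Ideal.Quotient.liftₐ (Ideal.span (Set.range (rel p A n h)))
    (MvPolynomial.aeval fun _ => (0 : TrivSqZeroExt (A ⧸ m) (A ⧸ m))) (hrel _ h0)
  have e1 : ∀ i, g₁ (Ideal.Quotient.mk _ (X i)) = TrivSqZeroExt.inr (w i) := by
    intro i
    simp [g₁]
  have e0 : ∀ i, g₀ (Ideal.Quotient.mk _ (X i)) = 0 := by
    intro i
    simp [g₀]
  let J : Ideal (TrivSqZeroExt (A ⧸ m) (A ⧸ m)) := Ideal.span {TrivSqZeroExt.inr (1 : A ⧸ m)}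
  have hJ : J ^ 2 = ⊥ := by
    rw [pow_two, Ideal.span_singleton_mul_span_singleton, TrivSqZeroExt.inr_mul_inr,
      Ideal.span_singleton_eq_bot]
  have hcomp : (Ideal.Quotient.mkₐ A J).comp g₁ = (Ideal.Quotient.mkₐ A J).comp g₀ := by
    apply Ideal.Quotient.algHom_ext
    apply MvPolynomial.algHom_ext
    intro i
    simp only [AlgHom.comp_apply, Ideal.Quotient.mkₐ_eq_mk]
    rw [e1, e0, map_zero, Ideal.Quotient.eq_zero_iff_mem]
    exact Ideal.mem_span_singleton'.mpr ⟨TrivSqZeroExt.inl (w i), by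
      rw [TrivSqZeroExt.inl_mul_inr, smul_eq_mul, mul_one]⟩
  have hgg := Algebra.FormallyUnramified.comp_injective J hJ hcomp
  apply hw0
  funext i
  have h5 := e1 i
  rw [hgg, e0 i] at h5
  have h6 : (TrivSqZeroExt.inr (w i) : TrivSqZeroExt (A ⧸ m) (A ⧸ m)) = TrivSqZeroExt.inr 0 := by
    rw [← h5, TrivSqZeroExt.inr_zero]
  exact TrivSqZeroExt.inr_injective h6

theorem main :
    Algebra.Etale A (MvPolynomial (Fin n) A ⧸ Ideal.span (Set.range fun j : Fin n =>
        (MvPolynomial.X j : MvPolynomial (Fin n) A) ^ p -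
          ∑ i : Fin n, MvPolynomial.C (h i j) * MvPolynomial.X i)) ↔
      IsUnit h.det := by
  constructor
  · intro hE
    exact isUnit_of_unramified p A n h
  · intro hu
    exact etale_of_isUnit p A n h hu

end Groth.Agent.Lib.FrobLinEtale
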