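import Mathlib
import Groth.Prelude.Def_Fitting

set_option autoImplicit false
set_option linter.unusedVariables false
set_option linter.unusedTactic false
set_option linter.unreachableTactic false
set_option linter.unusedSectionVars false
set_option linter.style.haveILetI false
set_option linter.deprecated false
set_option maxHeartbeats 1600000

universe u

namespace Groth.Agent.Lib.FrobNormH4

open CategoryTheory AlgebraicGeometry TopologicalSpace Opposite

/-- A uniform nilpotency bound passes to localizations. -/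
lemma pow_eq_zero_of_isLocalization {R S : Type*} [CommRing R] [CommRing S] [Algebra R S]
    (M : Submonoid R) (hloc : IsLocalization M S) (N : ℕ) (hN : nilradical R ^ N = ⊥)
    (z : S) (hz : IsNilpotent z) : z ^ N = 0 := by
  haveI := hloc
  have h1 : (nilradical R).map (algebraMap R S) = nilradical S := by
    have h := IsLocalization.map_radical M S (⊥ : Ideal R)
    rw [Ideal.map_bot] at h
    exact h
  have h2 : nilradical S ^ N = ⊥ := by
    rw [← h1, ← Ideal.map_pow, hN, Ideal.map_bot]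
  have h3 : z ^ N ∈ nilradical S ^ N := Ideal.pow_mem_pow (mem_nilradical.mpr hz) N
  rw [h2] at h3
  exact (Submodule.mem_bot S).mp h3

/-- On a Noetherian scheme, nilpotent sections are killed by a uniform power. -/
lemma exists_nilp_bound (X : Scheme.{u}) [IsNoetherian X] :
    ∃ N : ℕ, ∀ (U : X.Opens) (a : Γ(X, U)), IsNilpotent a → a ^ N = 0 := by
  have hloc : ∀ x : X, ∃ V : X.Opens, IsAffineOpen V ∧ x ∈ V ∧
      ∃ n : ℕ, nilradical Γ(X, V) ^ n = ⊥ := by
    intro x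
    obtain ⟨V, hV, hxV, -⟩ := exists_isAffineOpen_mem_and_subset (x := x) (U := ⊤) trivial
    haveI : IsNoetherianRing Γ(X, V) := IsLocallyNoetherian.component_noetherian ⟨V, hV⟩
    obtain ⟨n, hn⟩ := IsNoetherianRing.isNilpotent_nilradical Γ(X, V)
    exact ⟨V, hV, hxV, n, hn.trans Ideal.zero_eq_bot⟩
  choose V hV hxV n hn using hloc
  obtain ⟨t, ht⟩ := CompactSpace.elim_nhds_subcover (fun x => (V x : Set X))
    (fun x => (V x).isOpen.mem_nhds (hxV x))
  refine ⟨t.sup n, fun U a ha => ?_⟩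
  refine TopCat.Presheaf.section_ext X.sheaf U _ _ (fun y hy => ?_)
  have hy' : y ∈ ⋃ x ∈ t, (V x : Set X) := by rw [ht]; trivial
  obtain ⟨x, hxt, hyx'⟩ : ∃ x ∈ t, y ∈ (V x : Set X) := by
    simpa only [Set.mem_iUnion, exists_prop] using hy'
  have hyx : y ∈ V x := hyx'
  have hNx : nilradical Γ(X, V x) ^ (t.sup n) = ⊥ := by
    have hle : n x ≤ t.sup n := Finset.le_sup hxt
    exact le_bot_iff.mp ((Ideal.pow_le_pow_right hle).trans (hn x).le)
  letI alg : Algebra Γ(X, V x) (X.presheaf.stalk y) :=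
    X.presheaf.algebra_section_stalk ⟨y, hyx⟩
  have hlocz : IsLocalization ((hV x).primeIdealOf ⟨y, hyx⟩).asIdeal.primeCompl
      (X.presheaf.stalk y) := (hV x).isLocalization_stalk ⟨y, hyx⟩
  have hz : IsNilpotent ((X.presheaf.germ U y hy).hom a) := ha.map _
  have hzN := pow_eq_zero_of_isLocalization (R := Γ(X, V x)) (S := X.presheaf.stalk y)
    _ hlocz (t.sup n) hNx _ hz
  show (X.presheaf.germ U y hy).hom (a ^ t.sup n) = (X.presheaf.germ U y hy).hom 0
  rw [map_pow, hzN, map_zero]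

/-- The `p^e`-power ring endomorphism of a ring killed by `p`. -/
def powHom (R : Type*) [CommRing R] (p : ℕ) (hp : p.Prime) (h0 : (p : R) = 0) (e : ℕ) :
    R →+* R where
  toFun x := x ^ p ^ e
  map_one' := one_pow _
  map_mul' x y := mul_pow x y _
  map_zero' := zero_pow (pow_ne_zero e hp.ne_zero)
  map_add' x y := by
    show (x + y) ^ p ^ e = x ^ p ^ e + y ^ p ^ e
    obtain ⟨r, hr⟩ := exists_add_pow_prime_pow_eq hp x y e
    rw [hr, h0, zero_mul, zero_mul, zero_mul, add_zero]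

lemma powHom_apply {R : Type*} [CommRing R] (p : ℕ) (hp : p.Prime) (h0 : (p : R) = 0) (e : ℕ)
    (x : R) : powHom R p hp h0 e x = x ^ p ^ e := rfl

section Frob

variable (X : Scheme.{u}) (p : ℕ) (hp : p.Prime) (h0 : ∀ U : X.Opens, (p : Γ(X, U)) = 0) (e : ℕ)

/-- The `p^e`-power endomorphism of the structure presheaf. -/
noncomputable def frobNat : X.presheaf ⟶ X.presheaf where
  app U := CommRingCat.ofHom (powHom (X.presheaf.obj U) p hp (h0 U.unop) e)
  naturality U V i := by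
    ext a
    show ((X.presheaf.map i).hom a) ^ p ^ e = (X.presheaf.map i).hom (a ^ p ^ e)
    exact (map_pow _ _ _).symm

/-- Absolute Frobenius (iterated) as a morphism of presheafed spaces. -/
noncomputable def frobPS : X.toPresheafedSpace.Hom X.toPresheafedSpace where
  base := 𝟙 _
  c := frobNat X p hp h0 e

lemma frobPS_local (x : X) : IsLocalHom ((frobPS X p hp h0 e).stalkMap x).hom := by
  constructor
  intro a ha
  obtain ⟨U, hxU, s, rfl⟩ := X.presheaf.exists_germ_eq a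
  have h1 := PresheafedSpace.stalkMap_germ_apply (frobPS X p hp h0 e) U x hxU s
  have h2 : IsUnit ((X.presheaf.germ U x hxU).hom ((s : Γ(X, U)) ^ p ^ e)) :=
    (congrArg IsUnit h1).mp ha
  rw [map_pow] at h2
  exact (isUnit_pow_iff (pow_ne_zero e hp.ne_zero)).mp h2

/-- Absolute Frobenius (iterated `e` times) of a scheme killed by `p`. -/
noncomputable def frob : X ⟶ X :=
  Scheme.Hom.mk ⟨frobPS X p hp h0 e, frobPS_local X p hp h0 e⟩

lemma frob_apply (y : X) : (frob X p hp h0 e) y = y := rfl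

lemma frob_appLE (U : X.Opens) (g : Γ(X, U)) (h : U ≤ (frob X p hp h0 e) ⁻¹ᵁ U) :
    ((frob X p hp h0 e).appLE U U h).hom g = g ^ p ^ e := by
  have key : ∀ (j : op U ⟶ op U), (X.presheaf.map j).hom (g ^ p ^ e) = g ^ p ^ e := by
    intro j
    have hj : X.presheaf.map j = 𝟙 _ := X.presheaf.map_id (op U)
    rw [hj]
    rfl
  exact key (homOfLE h).op

lemma frob_ker_le (hker : ∀ (U : X.Opens) (a : Γ(X, U)), IsNilpotent a → a ^ p ^ e = 0) :
    X.nilradical.subschemeι.ker ≤ (frob X p hp h0 e).ker := by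
  rw [Scheme.IdealSheafData.ker_subschemeι]
  refine Scheme.IdealSheafData.le_ofIdeals_iff.mpr (fun U a ha => ?_)
  have ha1 : a ∈ ((⊥ : X.IdealSheafData).ideal U).radical := by
    have ha0 := ha
    rw [Scheme.nilradical, Scheme.IdealSheafData.radical_ideal] at ha0
    exact ha0
  obtain ⟨n, hn⟩ := ha1
  have hn' : a ^ n = 0 := by
    have hn1 : a ^ n ∈ (⊥ : Ideal Γ(X, U.1)) := hn
    exact (Submodule.mem_bot _).mp hn1
  exact RingHom.mem_ker.mpr (hker U.1 a ⟨n, hn'⟩)

end Frob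

/-- A retraction-like morphism `ψ : X ⟶ Xr` of an injective `ι : Xr ⟶ X` whose composite
`ψ ≫ ι` is the identity on points and the `q`-th power on sections gives a norm of degree `q`. -/
theorem hasNorm_of_section {X Xr : Scheme.{u}} (ι : Xr ⟶ X) (ψ : X ⟶ Xr) (q : ℕ) (hq : 1 ≤ q)
    (hinj : ∀ x x' : Xr, ι x = ι x' → x = x')
    (hbase : ∀ y : X, (ψ ≫ ι) y = y)
    (happ : ∀ (U : X.Opens) (g : Γ(X, U)) (h : U ≤ (ψ ≫ ι) ⁻¹ᵁ U),
      ((ψ ≫ ι).appLE U U h).hom g = g ^ q) :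
    Nrm.HasNorm ι q := by
  have hιψ : ∀ y : X, ι (ψ y) = y := fun y =>
    (Scheme.Hom.comp_apply ψ ι y).symm.trans (hbase y)
  have hψι : ∀ x : Xr, ψ (ι x) = x := fun x => hinj _ _ (hιψ (ι x))
  have hle : ∀ U : X.Opens, U ≤ ψ ⁻¹ᵁ (ι ⁻¹ᵁ U) := fun U y hy => by
    show ι (ψ y) ∈ U
    rw [hιψ y]; exact hy
  refine ⟨{ one_le := hq
            norm := fun U => (ψ.appLE (ι ⁻¹ᵁ U) U (hle U)).hom.toMonoidHom
            norm_res := ?_
            norm_app := ?_
            norm_mem := ?_ }⟩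
  · intro U V i s
    have h1 : ψ.appLE (ι ⁻¹ᵁ U) U (hle U) ≫ X.presheaf.map i.op
        = ψ.appLE (ι ⁻¹ᵁ U) V (i.le.trans (hle U)) :=
      Scheme.Hom.appLE_map ψ (hle U) i.op
    have h2 : Xr.presheaf.map ((Opens.map ι.base).map i).op ≫ ψ.appLE (ι ⁻¹ᵁ V) V (hle V)
        = ψ.appLE (ι ⁻¹ᵁ U) V (i.le.trans (hle U)) :=
      Scheme.Hom.map_appLE ψ (hle V) ((Opens.map ι.base).map i).op
    exact (congrArg (fun f => f.hom s) h1).trans (congrArg (fun f => f.hom s) h2).symm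
  · intro U g
    have h := Scheme.Hom.comp_appLE ψ ι U U (hle U)
    exact (congrArg (fun f => f.hom g) h).symm.trans (happ U g (hle U))
  · intro U s x hx hs
    rw [IsLocalRing.mem_maximalIdeal, mem_nonunits_iff] at hs ⊢
    intro hu
    apply hs
    have h1 : ι x ∈ X.basicOpen ((ψ.appLE (ι ⁻¹ᵁ U) U (hle U)).hom s) :=
      (X.mem_basicOpen _ (ι x) hx).mpr hu
    have h2 : X.basicOpen ((ψ.appLE (ι ⁻¹ᵁ U) U (hle U)).hom s)
        = U ⊓ X.basicOpen ((ψ.app (ι ⁻¹ᵁ U)).hom s) :=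
      X.basicOpen_res ((ψ.app (ι ⁻¹ᵁ U)).hom s) (homOfLE (hle U)).op
    rw [h2] at h1
    have h3 : ι x ∈ X.basicOpen ((ψ.app (ι ⁻¹ᵁ U)).hom s) := h1.2
    have h3' : ι x ∈ ψ ⁻¹ᵁ Xr.basicOpen s := by
      rw [Scheme.preimage_basicOpen]; exact h3
    have h4 : ψ (ι x) ∈ Xr.basicOpen s := h3'
    rw [hψι x] at h4
    exact (Xr.mem_basicOpen s x hx).mp h4

theorem hasNorm (X : Scheme.{u}) (p : ℕ) (hp : p.Prime)
    (h0 : ∀ U : X.Opens, (p : Γ(X, U)) = 0) (e : ℕ)
    (hker : ∀ (U : X.Opens) (a : Γ(X, U)), IsNilpotent a → a ^ p ^ e = 0) :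
    Nrm.HasNorm X.nilradical.subschemeι (p ^ e) := by
  have hle := frob_ker_le X p hp h0 e hker
  obtain ⟨ψ, hψ⟩ : ∃ ψ : X ⟶ X.nilradical.subscheme,
      ψ ≫ X.nilradical.subschemeι = frob X p hp h0 e :=
    ⟨IsClosedImmersion.lift _ _ hle, IsClosedImmersion.lift_fac _ _ hle⟩
  refine hasNorm_of_section X.nilradical.subschemeι ψ (p ^ e)
    (Nat.succ_le_of_lt (pow_pos hp.pos e))
    (fun x x' h => (Scheme.Hom.isEmbedding X.nilradical.subschemeι).injective h) ?_ ?_
  · rw [hψ]; intro y; rfl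
  · rw [hψ]; exact frob_appLE X p hp h0 e

theorem main8882 (X : Scheme.{u}) [IsNoetherian X] (p : ℕ) (hp : p.Prime)
    (hpX : (p : Γ(X, ⊤)) = 0) :
    ∃ e : ℕ, 0 < e ∧ Nrm.HasNorm X.nilradical.subschemeι (p ^ e) := by
  obtain ⟨N, hN⟩ := exists_nilp_bound X
  have h0 : ∀ U : X.Opens, (p : Γ(X, U)) = 0 := fun U => by
    have h : (X.presheaf.map (homOfLE (le_top : U ≤ ⊤)).op).hom ((p : ℕ) : Γ(X, ⊤))
        = (X.presheaf.map (homOfLE (le_top : U ≤ ⊤)).op).hom 0 := congrArg _ hpX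
    rw [map_natCast, map_zero] at h
    exact h
  have hker : ∀ (U : X.Opens) (a : Γ(X, U)), IsNilpotent a → a ^ p ^ (N + 1) = 0 :=
    fun U a ha => pow_eq_zero_of_le
      ((Nat.le_succ N).trans (Nat.lt_pow_self hp.one_lt).le) (hN U a ha)
  exact ⟨N + 1, Nat.succ_pos N, hasNorm X p hp h0 (N + 1) hker⟩

end Groth.Agent.Lib.FrobNormH4
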