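import Mathlib

/-!
# Frobenius degree `[K : K^p]` (helper3)

`HasPBasis p R N` : there is a family `e` of `N` elements of `R` such that every element of `R` is
uniquely `∑ cᵢ^p eᵢ`.  Stability under power series over a perfect field, polynomial rings,
fraction fields; computation of `[K : K^p]`; invariance under finite extensions.
APPEND-ONLY once landed.
-/

set_option autoImplicit false

namespace Groth.Agent.Lib.FrobRankH3

section arith

theorem sel_iff {p n j : ℕ} (hj : j < p) : (j ≤ n ∧ p ∣ n - j) ↔ j = n % p := by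
  constructor
  · rintro ⟨h1, q, hq⟩
    have hn : n = p * q + j := by omega
    rw [hn, Nat.mul_add_mod, Nat.mod_eq_of_lt hj]
  · intro h
    subst h
    refine ⟨Nat.mod_le n p, ⟨n / p, ?_⟩⟩
    have := Nat.div_add_mod n p
    omega

theorem sel_div {p n : ℕ} (hp : 0 < p) : (n - n % p) / p = n / p := by
  have h := Nat.div_add_mod n p
  have h2 : n - n % p = p * (n / p) := by omega
  rw [h2, Nat.mul_div_cancel_left _ hp]

theorem sum_sel {M : Type*} [AddCommMonoid M] {p : ℕ} (hp : 0 < p) (n : ℕ)
    (T : Fin p → ℕ → M) :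
    ∑ j : Fin p, (if ((j : ℕ) ≤ n ∧ p ∣ n - j) then T j ((n - j) / p) else 0) =
      T ⟨n % p, Nat.mod_lt n hp⟩ (n / p) := by
  rw [Finset.sum_eq_single ⟨n % p, Nat.mod_lt n hp⟩]
  · rw [if_pos ((sel_iff (Nat.mod_lt n hp)).mpr rfl)]
    simp only [sel_div hp]
  · intro j _ hj
    rw [if_neg]
    intro h
    apply hj
    exact Fin.ext ((sel_iff j.2).mp h)
  · intro h; exact absurd (Finset.mem_univ _) h

end arith

/-- `R` has a "`p`-basis over `R^p`" with `N` elements. -/
def HasPBasis (p : ℕ) (R : Type*) [CommRing R] (N : ℕ) : Prop :=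
  ∃ (J : Type) (_ : Fintype J) (e : J → R), Fintype.card J = N ∧
    (∀ x : R, ∃ c : J → R, x = ∑ i, c i ^ p * e i) ∧
    (∀ c : J → R, ∑ i, c i ^ p * e i = 0 → ∀ i, c i = 0)

theorem HasPBasis.of_ringEquiv {p : ℕ} {R S : Type*} [CommRing R] [CommRing S] (φ : R ≃+* S)
    {N : ℕ} (h : HasPBasis p R N) : HasPBasis p S N := by
  obtain ⟨J, hJ, e, hcard, hspan, hind⟩ := h
  refine ⟨J, hJ, fun i => φ (e i), hcard, ?_, ?_⟩
  · intro x
    obtain ⟨c, hc⟩ := hspan (φ.symm x)
    refine ⟨fun i => φ (c i), ?_⟩
    have := congrArg φ hc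
    rw [RingEquiv.apply_symm_apply] at this
    rw [this, map_sum]
    simp only [map_mul, map_pow]
  · intro c hc i
    have h1 : ∑ i, (φ.symm (c i)) ^ p * e i = 0 := by
      apply φ.injective
      rw [map_sum, map_zero, ← hc]
      simp only [map_mul, map_pow, RingEquiv.apply_symm_apply]
    have := hind _ h1 i
    simpa using congrArg φ this

section powerSeries

variable (p : ℕ) [hp : Fact p.Prime] (k : Type*) [Field k] [CharP k p]

theorem ps_pow_eq (c : PowerSeries k) :
    c ^ p = (PowerSeries.expand p hp.out.ne_zero c).map (frobenius k p) := by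
  haveI : ExpChar k p := ExpChar.prime hp.out
  exact (MvPowerSeries.map_frobenius_expand p hp.out.ne_zero).symm

theorem ps_coeff_pow_mul (c : PowerSeries k) (j n : ℕ) :
    PowerSeries.coeff n (c ^ p * PowerSeries.X ^ j) =
      if (j ≤ n ∧ p ∣ n - j) then (PowerSeries.coeff ((n - j) / p) c) ^ p else 0 := by
  haveI : ExpChar k p := ExpChar.prime hp.out
  rw [PowerSeries.coeff_mul_X_pow', ps_pow_eq]
  by_cases h1 : j ≤ n
  · rw [if_pos h1, PowerSeries.coeff_map, PowerSeries.coeff_expand]
    by_cases h2 : p ∣ n - j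
    · rw [if_pos h2, if_pos ⟨h1, h2⟩, frobenius_def]
    · rw [if_neg h2, if_neg (fun h => h2 h.2), map_zero]
  · rw [if_neg h1, if_neg (fun h => h1 h.1)]

theorem hasPBasis_powerSeries [PerfectField k] : HasPBasis p (PowerSeries k) p := by
  haveI : ExpChar k p := ExpChar.prime hp.out
  have hp0 : 0 < p := hp.out.pos
  refine ⟨Fin p, inferInstance, fun j => PowerSeries.X ^ (j : ℕ), Fintype.card_fin p, ?_, ?_⟩
  · intro f
    refine ⟨fun j => PowerSeries.mk fun m =>
      (frobeniusEquiv k p).symm (PowerSeries.coeff (p * m + j) f), ?_⟩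
    ext n
    rw [map_sum]
    simp only [ps_coeff_pow_mul, PowerSeries.coeff_mk]
    rw [sum_sel hp0 n (fun j m => ((frobeniusEquiv k p).symm
      (PowerSeries.coeff (p * m + j) f)) ^ p)]
    simp only [frobeniusEquiv_symm_pow_p]
    rw [Nat.div_add_mod]
  · intro c hc j
    ext m
    have h1 := congrArg (PowerSeries.coeff (p * m + j)) hc
    rw [map_sum, map_zero] at h1
    simp only [ps_coeff_pow_mul] at h1
    rw [sum_sel hp0 (p * m + j) (fun j m => (PowerSeries.coeff m (c j)) ^ p)] at h1
    have h2 : (p * m + (j : ℕ)) % p = j := by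
      rw [Nat.mul_add_mod, Nat.mod_eq_of_lt j.2]
    have h3 : (p * m + (j : ℕ)) / p = m := by
      rw [Nat.mul_add_div hp0, Nat.div_eq_of_lt j.2, add_zero]
    have h4 : (⟨(p * m + (j : ℕ)) % p, Nat.mod_lt _ hp0⟩ : Fin p) = j := Fin.ext h2
    rw [h4, h3] at h1
    rw [map_zero]
    exact pow_eq_zero_iff hp.out.ne_zero |>.mp h1

end powerSeries

section polynomial

open Polynomial

variable (p : ℕ) [hp : Fact p.Prime] (R : Type*) [CommRing R] [CharP R p]

theorem poly_coeff_pow_mul (c : R[X]) (j n : ℕ) :
    (c ^ p * X ^ j).coeff n =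
      if (j ≤ n ∧ p ∣ n - j) then (c.coeff ((n - j) / p)) ^ p else 0 := by
  haveI : ExpChar R p := ExpChar.prime hp.out
  rw [Polynomial.coeff_mul_X_pow', ← Polynomial.map_frobenius_expand]
  by_cases h1 : j ≤ n
  · rw [if_pos h1, Polynomial.coeff_map, Polynomial.coeff_expand hp.out.pos]
    by_cases h2 : p ∣ n - j
    · rw [if_pos h2, if_pos ⟨h1, h2⟩, frobenius_def]
    · rw [if_neg h2, if_neg (fun h => h2 h.2), map_zero]
  · rw [if_neg h1, if_neg (fun h => h1 h.1)]

theorem hasPBasis_polynomial {N : ℕ} (h : HasPBasis p R N) : HasPBasis p R[X] (N * p) := by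
  classical
  haveI : ExpChar R p := ExpChar.prime hp.out
  have hp0 : 0 < p := hp.out.pos
  obtain ⟨J, hJ, e, hcard, hspan, hind⟩ := h
  refine ⟨J × Fin p, inferInstance, fun x => C (e x.1) * X ^ (x.2 : ℕ), ?_, ?_, ?_⟩
  · rw [Fintype.card_prod, hcard, Fintype.card_fin]
  · intro f
    choose γ hγ using hspan
    have hγ0 : ∀ i, γ 0 i = 0 := hind (γ 0) (hγ 0).symm
    let g : J → Fin p → R[X] := fun i j =>
      ∑ m ∈ Finset.range (f.natDegree + 1), C (γ (f.coeff (p * m + j)) i) * X ^ m
    have hg : ∀ i j m, (g i j).coeff m = γ (f.coeff (p * m + j)) i := by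
      intro i j m
      simp only [g, Polynomial.finset_sum_coeff, Polynomial.coeff_C_mul_X_pow]
      rw [Finset.sum_ite_eq]
      by_cases hm : m ∈ Finset.range (f.natDegree + 1)
      · rw [if_pos hm]
      · rw [if_neg hm]
        rw [Finset.mem_range] at hm
        have : f.coeff (p * m + j) = 0 := by
          apply Polynomial.coeff_eq_zero_of_natDegree_lt
          have : m ≤ p * m := Nat.le_mul_of_pos_left m hp0
          omega
        rw [this, hγ0]
    refine ⟨fun x => g x.1 x.2, ?_⟩
    ext n
    rw [Fintype.sum_prod_type, Polynomial.finset_sum_coeff]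
    simp only [Polynomial.finset_sum_coeff]
    have h1 : ∀ i j, ((g i j) ^ p * (C (e i) * X ^ (j : ℕ))).coeff n =
        e i * ((g i j) ^ p * X ^ (j : ℕ)).coeff n := by
      intro i j
      rw [show (g i j) ^ p * (C (e i) * X ^ (j : ℕ)) = C (e i) * ((g i j) ^ p * X ^ (j : ℕ)) by ring,
        Polynomial.coeff_C_mul]
    simp only [h1, ← Finset.mul_sum, poly_coeff_pow_mul]
    have h2 : ∀ i, ∑ j : Fin p, (if ((j : ℕ) ≤ n ∧ p ∣ n - j) then
        ((g i j).coeff ((n - j) / p)) ^ p else 0) = (γ (f.coeff n) i) ^ p := by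
      intro i
      rw [sum_sel hp0 n (fun j m => ((g i j).coeff m) ^ p), hg]
      simp only [Nat.div_add_mod]
    simp only [h2]
    rw [hγ (f.coeff n)]
    apply Finset.sum_congr rfl
    intro i _
    rw [mul_comm, ← hγ (f.coeff n)]
  · intro c hc x
    obtain ⟨i₀, j₀⟩ := x
    ext m
    have h1 := congrArg (fun q : R[X] => q.coeff (p * m + j₀)) hc
    simp only [Fintype.sum_prod_type, Polynomial.finset_sum_coeff, Polynomial.coeff_zero] at h1
    have h1' : ∀ i j, ((c (i, j)) ^ p * (C (e i) * X ^ (j : ℕ))).coeff (p * m + j₀) =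
        e i * ((c (i, j)) ^ p * X ^ (j : ℕ)).coeff (p * m + j₀) := by
      intro i j
      rw [show (c (i, j)) ^ p * (C (e i) * X ^ (j : ℕ)) =
        C (e i) * ((c (i, j)) ^ p * X ^ (j : ℕ)) by ring, Polynomial.coeff_C_mul]
    simp only [h1', ← Finset.mul_sum, poly_coeff_pow_mul] at h1
    have h2 : (p * m + (j₀ : ℕ)) % p = j₀ := by
      rw [Nat.mul_add_mod, Nat.mod_eq_of_lt j₀.2]
    have h3 : (p * m + (j₀ : ℕ)) / p = m := by
      rw [Nat.mul_add_div hp0, Nat.div_eq_of_lt j₀.2, add_zero]
    have h4 : (⟨(p * m + (j₀ : ℕ)) % p, Nat.mod_lt _ hp0⟩ : Fin p) = j₀ := Fin.ext h2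
    have h5 : ∀ i, ∑ j : Fin p, (if ((j : ℕ) ≤ p * m + j₀ ∧ p ∣ p * m + j₀ - j) then
        ((c (i, j)).coeff ((p * m + j₀ - j) / p)) ^ p else 0) = ((c (i, j₀)).coeff m) ^ p := by
      intro i
      rw [sum_sel hp0 (p * m + j₀) (fun j m => ((c (i, j)).coeff m) ^ p), h4, h3]
    simp only [h5] at h1
    have h6 : ∑ i, ((c (i, j₀)).coeff m) ^ p * e i = 0 := by
      rw [← h1]
      apply Finset.sum_congr rfl
      intro i _
      rw [mul_comm]
    have := hind (fun i => (c (i, j₀)).coeff m) h6 i₀
    simpa using this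

end polynomial

section mvPolynomial

theorem hasPBasis_mvPolynomial (p : ℕ) [hp : Fact p.Prime] (R : Type*) [CommRing R] [CharP R p]
    {N : ℕ} (h : HasPBasis p R N) (d : ℕ) :
    HasPBasis p (MvPolynomial (Fin d) R) (N * p ^ d) := by
  induction d with
  | zero =>
    rw [pow_zero, mul_one]
    exact h.of_ringEquiv (MvPolynomial.isEmptyRingEquiv R (Fin 0)).symm
  | succ d ih =>
    have h1 := hasPBasis_polynomial p (MvPolynomial (Fin d) R) ih
    have h2 := h1.of_ringEquiv (MvPolynomial.finSuccEquiv R d).symm.toRingEquiv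
    rwa [pow_succ, ← mul_assoc]

end mvPolynomial

section fractionRing

theorem HasPBasis.fractionRing {p : ℕ} (hp : 0 < p) {B E : Type*} [CommRing B] [IsDomain B]
    [Field E] [Algebra B E] [IsFractionRing B E] {N : ℕ} (h : HasPBasis p B N) :
    HasPBasis p E N := by
  classical
  obtain ⟨J, hJ, e, hcard, hspan, hind⟩ := h
  have hinj := IsFractionRing.injective B E
  refine ⟨J, hJ, fun i => algebraMap B E (e i), hcard, ?_, ?_⟩
  · intro x
    obtain ⟨a, b, hb, rfl⟩ := IsFractionRing.div_surjective (A := B) x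
    obtain ⟨c, hc⟩ := hspan (a * b ^ (p - 1))
    refine ⟨fun i => algebraMap B E (c i) / algebraMap B E b, ?_⟩
    have hb0 : algebraMap B E b ≠ 0 := by
      intro h0
      rw [← map_zero (algebraMap B E)] at h0
      exact nonZeroDivisors.ne_zero hb (hinj h0)
    have h1 : algebraMap B E a / algebraMap B E b =
        algebraMap B E (a * b ^ (p - 1)) / (algebraMap B E b) ^ p := by
      rw [map_mul, map_pow, div_eq_div_iff hb0 (pow_ne_zero _ hb0)]
      have : p = (p - 1) + 1 := by omega
      conv_lhs => rw [this, pow_succ]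
      ring
    rw [h1, hc, map_sum, Finset.sum_div]
    apply Finset.sum_congr rfl
    intro i _
    rw [map_mul, map_pow, div_pow]
    ring
  · intro c hc i
    obtain ⟨b, hb⟩ := IsLocalization.exist_integer_multiples (nonZeroDivisors B) Finset.univ c
    choose a ha using fun i => hb i (Finset.mem_univ i)
    have hb0 : algebraMap B E (b : B) ≠ 0 := by
      intro h0
      rw [← map_zero (algebraMap B E)] at h0
      exact nonZeroDivisors.ne_zero b.2 (hinj h0)
    have h1 : ∑ i, (a i) ^ p * e i = 0 := by
      apply hinj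
      rw [map_sum, map_zero]
      have h2 : ∀ i, algebraMap B E ((a i) ^ p * e i) =
          (algebraMap B E b) ^ p * ((c i) ^ p * algebraMap B E (e i)) := by
        intro i
        rw [map_mul, map_pow, ha i, Algebra.smul_def, mul_pow]
        ring
      simp only [h2, ← Finset.mul_sum, hc, mul_zero]
    have h2 := hind a h1 i
    have h3 := ha i
    rw [h2, map_zero, Algebra.smul_def] at h3
    rcases mul_eq_zero.mp h3.symm with h | h
    · exact absurd h hb0
    · exact h

end fractionRing

section finrank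

theorem finrank_of_hasPBasis (p : ℕ) [hp : Fact p.Prime] (E : Type*) [Field E] [CharP E p]
    {N : ℕ} (h : HasPBasis p E N) :
    Module.finrank (frobenius E p).fieldRange E = N := by
  classical
  obtain ⟨J, hJ, e, hcard, hspan, hind⟩ := h
  have hli : LinearIndependent (frobenius E p).fieldRange e := by
    rw [Fintype.linearIndependent_iff]
    intro g hg i
    have hmem : ∀ i, ∃ c : E, c ^ p = (g i : E) := fun i => by
      obtain ⟨c, hc⟩ := RingHom.mem_fieldRange.mp (g i).2
      exact ⟨c, hc⟩
    choose c hc using hmem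
    have h1 : ∑ i, c i ^ p * e i = 0 := by
      rw [← hg]
      apply Finset.sum_congr rfl
      intro i _
      rw [hc i]
      rfl
    have h2 := hind c h1 i
    apply Subtype.ext
    rw [← hc i, h2, zero_pow hp.out.ne_zero]
    rfl
  have hsp : ⊤ ≤ Submodule.span (frobenius E p).fieldRange (Set.range e) := by
    intro x _
    obtain ⟨c, hc⟩ := hspan x
    rw [hc]
    refine Submodule.sum_mem _ fun i _ => ?_
    have h1 : c i ^ p * e i = (⟨c i ^ p, ⟨c i, rfl⟩⟩ : (frobenius E p).fieldRange) • e i := rfl
    rw [h1]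
    exact Submodule.smul_mem _ _ (Submodule.subset_span ⟨i, rfl⟩)
  rw [Module.finrank_eq_card_basis (Module.Basis.mk hli hsp), hcard]

/-- `[M : M^p] = [L : L^p]` for a finite extension `M/L` of fields of characteristic `p`. -/
theorem finrank_frobenius_eq_of_finite (p : ℕ) [hp : Fact p.Prime] (L M : Type*) [Field L]
    [Field M] [Algebra L M] [FiniteDimensional L M] [CharP L p] [CharP M p] :
    Module.finrank (frobenius M p).fieldRange M = Module.finrank (frobenius L p).fieldRange L := by
  set i : L →+* M := algebraMap L M with hi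
  set M₀ : Subfield M := i.fieldRange with hM₀
  set M₁ : Subfield M := (frobenius M p).fieldRange with hM₁
  set L₁ : Subfield L := (frobenius L p).fieldRange with hL₁
  set M₂ : Subfield M := L₁.map i with hM₂d
  have hM₂ : M₂ = M₀.map (frobenius M p) := by
    ext x
    constructor
    · rintro ⟨y, ⟨z, rfl⟩, rfl⟩
      exact ⟨i z, ⟨z, rfl⟩, by simp [frobenius_def]⟩
    · rintro ⟨y, ⟨z, rfl⟩, rfl⟩
      exact ⟨z ^ p, ⟨z, rfl⟩, by simp [frobenius_def]⟩
  have h20 : M₂ ≤ M₀ := by
    rintro _ ⟨y, -, rfl⟩
    exact ⟨y, rfl⟩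
  have h21 : M₂ ≤ M₁ := by
    rw [hM₂]
    rintro _ ⟨y, -, rfl⟩
    exact ⟨y, rfl⟩
  have e1 := Subfield.relfinrank_mul_finrank_top h20
  have e2 := Subfield.relfinrank_mul_finrank_top h21
  have a1 : Subfield.relfinrank M₂ M₀ = Module.finrank L₁ L := by
    have h : M₀ = (⊤ : Subfield L).map i := RingHom.fieldRange_eq_map i
    rw [h, hM₂d, Subfield.relfinrank_map_map, Subfield.relfinrank_top_right]
  have a2 : Subfield.relfinrank M₂ M₁ = Module.finrank M₀ M := by
    have h : M₁ = (⊤ : Subfield M).map (frobenius M p) := RingHom.fieldRange_eq_map _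
    rw [hM₂, h, Subfield.relfinrank_map_map, Subfield.relfinrank_top_right]
  have hpos : 0 < Module.finrank M₀ M := by
    have h : Module.finrank L M = Module.finrank M₀ M :=
      Algebra.finrank_eq_of_equiv_equiv i.rangeRestrictFieldEquiv (RingEquiv.refl M)
        (by ext; rfl)
    rw [← h]
    exact Module.finrank_pos
  rw [a1] at e1
  rw [a2] at e2
  have h := e1.trans e2.symm
  rw [mul_comm] at h
  exact (Nat.eq_of_mul_eq_mul_left hpos h).symm

end finrank

section finite

theorem finite_of_span {A B : Type*} [CommRing A] [CommRing B] (f : A →+* B) {J : Type*}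
    [Fintype J] (e : J → B) (h : ∀ x : B, ∃ c : J → A, x = ∑ i, f (c i) * e i) : f.Finite := by
  classical
  letI := f.toAlgebra
  show Module.Finite A B
  refine ⟨⟨Finset.univ.image e, ?_⟩⟩
  rw [eq_top_iff]
  intro x _
  obtain ⟨c, hc⟩ := h x
  rw [hc]
  refine Submodule.sum_mem _ fun i _ => ?_
  have h1 : f (c i) * e i = c i • e i := (Algebra.smul_def (c i) (e i)).symm
  rw [h1]
  exact Submodule.smul_mem _ _ (Submodule.subset_span (by simp))

theorem frobenius_finite_of_hasPBasis (p : ℕ) [hp : Fact p.Prime] (R : Type*) [CommRing R]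
    [CharP R p] {N : ℕ} (h : HasPBasis p R N) : (frobenius R p).Finite := by
  obtain ⟨J, hJ, e, hcard, hspan, hind⟩ := h
  exact finite_of_span (frobenius R p) e hspan

end finite

section main

universe u

open Cardinal in
/-- `[K : K^p] = p^(d+1)` for a finitely generated extension `K` of transcendence degree `d` of
`k((t))`, `k` a finite field of characteristic `p`. -/
theorem finrank_frobenius_laurent (p : ℕ) [hp : Fact p.Prime] (k : Type u) [Field k] [Finite k]
    [CharP k p] (K : Type u) [Field K] [Algebra (LaurentSeries k) K] [CharP K p]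
    (hfg : (⊤ : IntermediateField (LaurentSeries k) K).FG) (d : ℕ)
    (hd : Algebra.trdeg (LaurentSeries k) K = d) :
    Module.finrank (frobenius K p).fieldRange K = p ^ (d + 1) := by
  classical
  haveI : CharP (LaurentSeries k) p :=
    (RingHom.charP_iff (algebraMap (LaurentSeries k) K)
      (algebraMap (LaurentSeries k) K).injective p).mpr inferInstance
  haveI : CharP (PowerSeries k) p :=
    (RingHom.charP_iff (algebraMap (PowerSeries k) (LaurentSeries k))
      (IsFractionRing.injective (PowerSeries k) (LaurentSeries k)) p).mpr inferInstance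
  have h1 : HasPBasis p (PowerSeries k) p := hasPBasis_powerSeries p k
  have h2 : HasPBasis p (LaurentSeries k) p := h1.fractionRing hp.out.pos
  obtain ⟨ι, x, hx⟩ := exists_isTranscendenceBasis' (LaurentSeries k) K
  have hcardι : #ι = d := hx.cardinalMk_eq_trdeg.trans hd
  haveI : Finite ι := lt_aleph0_iff_finite.mp (by rw [hcardι]; exact nat_lt_aleph0 d)
  letI : Fintype ι := Fintype.ofFinite ι
  have hcard : Fintype.card ι = d := by
    rw [mk_fintype] at hcardι
    exact_mod_cast hcardι
  let ε : ι ≃ Fin d := Fintype.equivFinOfCardEq hcard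
  have h3 : HasPBasis p (MvPolynomial (Fin d) (LaurentSeries k)) (p * p ^ d) :=
    hasPBasis_mvPolynomial p (LaurentSeries k) h2 d
  have h3' : HasPBasis p (MvPolynomial ι (LaurentSeries k)) (p * p ^ d) :=
    h3.of_ringEquiv (MvPolynomial.renameEquiv (LaurentSeries k) ε).symm.toRingEquiv
  have h4 : HasPBasis p (FractionRing (MvPolynomial ι (LaurentSeries k))) (p * p ^ d) :=
    h3'.fractionRing hp.out.pos
  have h5 : HasPBasis p (IntermediateField.adjoin (LaurentSeries k) (Set.range x)) (p * p ^ d) :=
    h4.of_ringEquiv hx.1.aevalEquivField.toRingEquiv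
  haveI : CharP (IntermediateField.adjoin (LaurentSeries k) (Set.range x)) p :=
    (RingHom.charP_iff (algebraMap (IntermediateField.adjoin (LaurentSeries k) (Set.range x)) K)
      (algebraMap (IntermediateField.adjoin (LaurentSeries k) (Set.range x)) K).injective
        p).mpr inferInstance
  have h6 := finrank_of_hasPBasis p (IntermediateField.adjoin (LaurentSeries k) (Set.range x)) h5
  haveI : Algebra.IsAlgebraic (IntermediateField.adjoin (LaurentSeries k) (Set.range x)) K :=
    hx.isAlgebraic_field
  haveI : FiniteDimensional (IntermediateField.adjoin (LaurentSeries k) (Set.range x)) K := by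
    obtain ⟨S, hS⟩ := hfg
    have htop : IntermediateField.adjoin
        (IntermediateField.adjoin (LaurentSeries k) (Set.range x)) (S : Set K) = ⊤ := by
      apply (IntermediateField.restrictScalars_eq_top_iff (K := LaurentSeries k)).mp
      rw [IntermediateField.restrictScalars_adjoin, eq_top_iff, ← hS]
      exact IntermediateField.adjoin.mono _ _ _ Set.subset_union_right
    have hfd : FiniteDimensional (IntermediateField.adjoin (LaurentSeries k) (Set.range x))
        (IntermediateField.adjoin
          (IntermediateField.adjoin (LaurentSeries k) (Set.range x)) (S : Set K)) :=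
      IntermediateField.finiteDimensional_adjoin
        (fun z _ => (Algebra.IsAlgebraic.isAlgebraic z).isIntegral)
    rw [htop] at hfd
    exact Module.Finite.equiv (IntermediateField.topEquiv
      (F := IntermediateField.adjoin (LaurentSeries k) (Set.range x)) (E := K)).toLinearEquiv
  rw [finrank_frobenius_eq_of_finite p
    (IntermediateField.adjoin (LaurentSeries k) (Set.range x)) K, h6, pow_succ, mul_comm]

/-- Frobenius of a localization of a finite type `k[[t]]`-algebra is finite (`k` perfect). -/
theorem frobenius_finite_of_finiteType (p : ℕ) [hp : Fact p.Prime] (k : Type u) [Field k]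
    [PerfectField k] [CharP k p] (A : Type u) [CommRing A] [Algebra (PowerSeries k) A]
    [Algebra.FiniteType (PowerSeries k) A] [CharP A p] : (frobenius A p).Finite := by
  haveI : CharP (PowerSeries k) p :=
    (RingHom.charP_iff (PowerSeries.C : k →+* PowerSeries k) PowerSeries.C_injective p).mp
      inferInstance
  obtain ⟨n, f, hf⟩ := Algebra.FiniteType.iff_quotient_mvPolynomial''.mp
    (inferInstance : Algebra.FiniteType (PowerSeries k) A)
  have h1 : HasPBasis p (PowerSeries k) p := hasPBasis_powerSeries p k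
  have h2 := hasPBasis_mvPolynomial p (PowerSeries k) h1 n
  have h3 := frobenius_finite_of_hasPBasis p (MvPolynomial (Fin n) (PowerSeries k)) h2
  haveI : ExpChar A p := ExpChar.prime hp.out
  haveI : ExpChar (MvPolynomial (Fin n) (PowerSeries k)) p := ExpChar.prime hp.out
  apply RingHom.Finite.of_comp_finite (f := (f : MvPolynomial (Fin n) (PowerSeries k) →+* A))
  rw [← RingHom.frobenius_comm]
  exact (RingHom.Finite.of_surjective _ hf).comp h3

end main

end Groth.Agent.Lib.FrobRankH3
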