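import Mathlib
import Groth.Agent.Lib.FrobSm4_helper8
import Groth.Agent.Lib.FrobEt2_helper8

set_option autoImplicit false
universe u v

namespace FrobSmH8

open TensorProduct

theorem IsFreeOn.of_basis {R S : Type*} [CommRing R] [CommRing S] [Algebra R S] {E : Type*}
    (b : Module.Basis E R S) : IsFreeOn (algebraMap R S) b := by
  unfold IsFreeOn
  have : (fun c : E →₀ R => c.sum fun e r => algebraMap R S r * b e) = b.repr.symm := by
    ext c
    rw [Module.Basis.repr_symm_apply, Finsupp.linearCombination_apply]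
    simp only [Algebra.smul_def]
  rw [this]
  exact b.repr.symm.bijective

theorem add_pow_of_natCast_eq_zero {R : Type*} [CommRing R] (p : ℕ) (hp : p.Prime)
    (hp0 : ((p : ℕ) : R) = 0) (x y : R) : (x + y) ^ p = x ^ p + y ^ p := by
  obtain ⟨r, hr⟩ := exists_add_pow_prime_eq hp x y
  rw [hr, hp0, zero_mul, zero_mul, zero_mul, add_zero]

attribute [local instance] Algebra.TensorProduct.rightAlgebra in
/-- A commutative square of "Frobenius-like" maps with étale sides is a pushout; in particular a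
basis of the top map transfers to the bottom map. -/
theorem isFreeOn_of_square (p : ℕ) (hp : p.Prime) {R S R' S' : Type u} [CommRing R] [CommRing S]
    [CommRing R'] [CommRing S']
    (f : R →+* S) (m : R →+* R') (g : S →+* S') (f' : R' →+* S')
    (hcomm : f'.comp m = g.comp f) (hm : m.Etale) (hg : g.Etale)
    (hpR : ((p : ℕ) : R) = 0) (w : S →+* R) (w' : S' →+* R')
    (hw1 : ∀ x, f (w x) = x ^ p) (hw1' : ∀ x, f' (w' x) = x ^ p) (hw2' : ∀ y, w' (f' y) = y ^ p)
    (hcompat : ∀ x, m (w x) = w' (g x))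
    {E : Type*} {s : E → S} (h : IsFreeOn f s) : IsFreeOn f' (fun e => g (s e)) := by
  letI := f.toAlgebra
  letI := m.toAlgebra
  letI := g.toAlgebra
  letI := f'.toAlgebra
  letI : Algebra R S' := (g.comp f).toAlgebra
  haveI : IsScalarTower R S S' := .of_algebraMap_eq' rfl
  haveI : IsScalarTower R R' S' := .of_algebraMap_eq' hcomm.symm
  have hincl : (algebraMap S (R' ⊗[R] S)).Etale :=
    RingHom.Etale.isStableUnderBaseChange R R' S (R' ⊗[R] S) hm
  let π : R' ⊗[R] S →ₐ[R'] S' :=
    Algebra.TensorProduct.lift (Algebra.ofId R' S') (IsScalarTower.toAlgHom R S S')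
      (fun _ _ => Commute.all _ _)
  have hπtmul : ∀ (a : R') (b : S), π (a ⊗ₜ[R] b) = f' a * g b := by
    intro a b
    simp only [π, Algebra.TensorProduct.lift_tmul]
    rfl
  have hπincl : π.toRingHom.comp (algebraMap S (R' ⊗[R] S)) = g := by
    ext x
    show π ((1 : R') ⊗ₜ[R] x) = g x
    rw [hπtmul, map_one, one_mul]
  have hπet : π.toRingHom.Etale :=
    FrobEtH8.etale_of_comp _ _ hincl (by rw [hπincl]; exact hg)
  have hp0Q : ((p : ℕ) : R' ⊗[R] S) = 0 := by
    have := congrArg (algebraMap R (R' ⊗[R] S)) hpR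
    rwa [map_natCast, map_zero] at this
  have hp0S' : ((p : ℕ) : S') = 0 := by
    have := congrArg (algebraMap R S') hpR
    rwa [map_natCast, map_zero] at this
  let σ : S' →+* R' ⊗[R] S := (algebraMap R' (R' ⊗[R] S)).comp w'
  have hσ : ∀ c, σ c = (w' c) ⊗ₜ[R] (1 : S) := fun c => rfl
  have hσπ : ∀ x, σ (π x) = x ^ p := by
    intro x
    induction x using TensorProduct.induction_on with
    | zero => rw [map_zero, map_zero, zero_pow hp.ne_zero]
    | add x y hx hy =>
      rw [map_add, map_add, hx, hy, add_pow_of_natCast_eq_zero p hp hp0Q]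
    | tmul a b =>
      rw [hπtmul, hσ, map_mul, hw2', ← hcompat, Algebra.TensorProduct.tmul_pow, ← hw1 b]
      have : a ^ p * m (w b) = (w b) • (a ^ p) := by
        rw [Algebra.smul_def, mul_comm]; rfl
      rw [this, TensorProduct.smul_tmul, Algebra.smul_def, mul_one]
      rfl
  have hπσ : ∀ c, π (σ c) = c ^ p := by
    intro c
    rw [hσ, hπtmul, map_one, mul_one, hw1']
  have hsurj : Function.Surjective (PrimeSpectrum.comap π.toRingHom) := by
    intro Q
    refine ⟨PrimeSpectrum.comap σ Q, ?_⟩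
    apply PrimeSpectrum.ext
    ext x
    show σ (π x) ∈ Q.asIdeal ↔ x ∈ Q.asIdeal
    rw [hσπ]
    exact Q.isPrime.pow_mem_iff_mem p hp.pos
  have hbij : Function.Bijective π.toRingHom :=
    FrobEtH8.bijective_of_etale_of_pow_mem' p hp π.toRingHom hπet hp0S'
      (fun c => ⟨σ c, hπσ c⟩) hsurj
  have hfree : IsFreeOn (algebraMap R' (R' ⊗[R] S)) (fun e => (1 : R') ⊗ₜ[R] s e) := by
    have h' : IsFreeOn (algebraMap R S) s := h
    have h2 := IsFreeOn.of_basis (Algebra.TensorProduct.basis R' h'.basis)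
    have h3 : (fun e => (1 : R') ⊗ₜ[R] s e) = ⇑(Algebra.TensorProduct.basis R' h'.basis) := by
      ext e
      rw [Algebra.TensorProduct.basis_apply, h'.basis_apply]
    rw [h3]
    exact h2
  have h4 := hfree.equiv_comp (RingEquiv.ofBijective π.toRingHom hbij)
  have h5 : ((RingEquiv.ofBijective π.toRingHom hbij : R' ⊗[R] S →+* S').comp
      (algebraMap R' (R' ⊗[R] S))) = f' := by
    ext x
    show π (x ⊗ₜ[R] (1 : S)) = f' x
    rw [hπtmul, map_one, mul_one]
  have h6 : (fun e => (RingEquiv.ofBijective π.toRingHom hbij) ((1 : R') ⊗ₜ[R] s e)) =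
      fun e => g (s e) := by
    ext e
    show π ((1 : R') ⊗ₜ[R] s e) = g (s e)
    rw [hπtmul, map_one, one_mul]
  rw [h5, h6] at h4
  exact h4

end FrobSmH8
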