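import Mathlib
import Groth.Agent.Lib.FrobSm5_helper8

set_option autoImplicit false
universe u v

namespace FrobSmH8

open TensorProduct FrobAlg

variable (p : ℕ) [Fact p.Prime] (A : Type u) [CommRing A] [CharP A p]

/-- If `C` is étale over `P`, a basis of the relative Frobenius of `P/A` gives one for `C/A`. -/
theorem isFreeOn_relFrob_of_etale (P C : Type u) [CommRing P] [CommRing C] [Algebra A P]
    [Algebra A C] [Algebra P C] [IsScalarTower A P C] [CharP P p] [CharP C p] [Algebra.Etale P C]
    {E : Type*} {s : E → P} (h : IsFreeOn (relFrob p A P) s) :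
    IsFreeOn (relFrob p A C) (fun e => algebraMap P C (s e)) := by
  have hp : p.Prime := Fact.out
  refine isFreeOn_of_square p hp (relFrob p A P)
    (Algebra.TensorProduct.map (IsScalarTower.toAlgHom A P C) (AlgHom.id A (Twist p A))).toRingHom
    (algebraMap P C) (relFrob p A C) ?_ ?_ (RingHom.etale_algebraMap.mpr inferInstance)
    (FrobEtH8.natCast_baseChange_eq_zero p A P)
    (Algebra.TensorProduct.includeLeft : P →ₐ[A] BaseChange p A P).toRingHom
    (Algebra.TensorProduct.includeLeft : C →ₐ[A] BaseChange p A C).toRingHom ?_ ?_ ?_ ?_ h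
  · refine RingHom.ext fun y => ?_
    exact relFrob_map' p A (IsScalarTower.toAlgHom A P C) y
  · exact map_of_isStableUnderBaseChange RingHom.Etale.isStableUnderBaseChange A P C (Twist p A)
      (RingHom.etale_algebraMap.mpr inferInstance)
  · intro x
    show relFrob p A P (x ⊗ₜ[A] 1) = x ^ p
    rw [relFrob_tmul', map_one, map_one, mul_one]
  · intro x
    show relFrob p A C (x ⊗ₜ[A] 1) = x ^ p
    rw [relFrob_tmul', map_one, map_one, mul_one]
  · intro y
    exact FrobEtH8.includeLeft_relFrob p A C y
  · intro x
    show Algebra.TensorProduct.map (IsScalarTower.toAlgHom A P C) (AlgHom.id A (Twist p A))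
      (x ⊗ₜ[A] 1) = (algebraMap P C x) ⊗ₜ[A] 1
    rw [Algebra.TensorProduct.map_tmul, map_one]
    rfl

theorem isFreeOn_relFrob_of_etale_mvPolynomial (n : ℕ) (C : Type u) [CommRing C] [Algebra A C]
    [Algebra (MvPolynomial (Fin n) A) C] [IsScalarTower A (MvPolynomial (Fin n) A) C]
    [CharP C p] [Algebra.Etale (MvPolynomial (Fin n) A) C] :
    IsFreeOn (relFrob p A C) (fun e : SmallExp (Fin n) p =>
      algebraMap (MvPolynomial (Fin n) A) C (MvPolynomial.monomial e.1 (1 : A))) :=
  isFreeOn_relFrob_of_etale p A (MvPolynomial (Fin n) A) C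
    (isFreeOn_relFrob_mvPolynomial p A (Fin n))

/-- The structure map `A → B^{(p)}`, `a ↦ 1 ⊗ a`. -/
noncomputable def twistIncl (B : Type v) [CommRing B] [Algebra A B] : A →+* BaseChange p A B :=
  (algebraMap (Twist p A) (BaseChange p A B)).comp (toTwist p A : A →+* Twist p A)

theorem relFrob_comp_twistIncl (B : Type v) [CommRing B] [Algebra A B] [CharP B p] :
    (relFrob p A B).comp (twistIncl p A B) = algebraMap A B := by
  ext a
  show relFrob p A B ((1 : B) ⊗ₜ[A] (toTwist p A a)) = algebraMap A B a
  rw [relFrob_tmul', one_pow, one_mul, RingEquiv.symm_apply_apply]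

theorem relFrob_isIntegral (B : Type v) [CommRing B] [Algebra A B] [CharP B p] :
    (relFrob p A B).IsIntegral := by
  have hp : p.Prime := Fact.out
  intro b
  refine ⟨Polynomial.X ^ p - Polynomial.C (b ⊗ₜ[A] 1), Polynomial.monic_X_pow_sub_C _ hp.ne_zero, ?_⟩
  rw [Polynomial.eval₂_sub, Polynomial.eval₂_pow, Polynomial.eval₂_X, Polynomial.eval₂_C,
    relFrob_tmul', map_one, map_one, mul_one, sub_self]

theorem relFrob_finite (B : Type v) [CommRing B] [Algebra A B] [CharP B p]
    [Algebra.FiniteType A B] : (relFrob p A B).Finite := by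
  refine RingHom.IsIntegral.to_finite (relFrob_isIntegral p A B) ?_
  refine RingHom.FiniteType.of_comp_finiteType (f := twistIncl p A B) ?_
  rw [relFrob_comp_twistIncl]
  exact RingHom.finiteType_algebraMap.mpr inferInstance

theorem twistIncl_finiteType (B : Type u) [CommRing B] [Algebra A B] [CharP B p]
    [Algebra.FiniteType A B] : (twistIncl p A B).FiniteType := by
  refine RingHom.FiniteType.comp ?_ ?_
  · exact RingHom.finiteType_isStableUnderBaseChange A B (Twist p A) (BaseChange p A B)
      (RingHom.finiteType_algebraMap.mpr inferInstance)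
  · exact RingHom.FiniteType.of_surjective _ (toTwist p A).surjective

theorem relFrob_finitePresentation (B : Type u) [CommRing B] [Algebra A B] [CharP B p]
    [Algebra.FinitePresentation A B] : (relFrob p A B).FinitePresentation := by
  refine RingHom.FinitePresentation.of_comp_finiteType (twistIncl p A B) ?_
    (twistIncl_finiteType p A B)
  rw [relFrob_comp_twistIncl]
  exact RingHom.finitePresentation_algebraMap.mpr inferInstance

end FrobSmH8
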