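import Mathlib
import Groth.Agent.Lib.FrobSm6_helper8

set_option autoImplicit false
universe u v

namespace FrobSmH8

open TensorProduct FrobAlg

/-- Étale chart of dimension `n` on a nontrivial localization of `B` forces `n = r`. -/
theorem rank_eq_of_chart (A B : Type u) [CommRing A] [CommRing B] [Algebra A B]
    [Algebra.Smooth A B] (r : ℕ)
    (hr : ∀ q : PrimeSpectrum B, Module.rankAtStalk (R := B) (KaehlerDifferential A B) q = r)
    (f : B) (n : ℕ) [Algebra (MvPolynomial (Fin n) A) (Localization.Away f)]
    [IsScalarTower A (MvPolynomial (Fin n) A) (Localization.Away f)]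
    [Algebra.Etale (MvPolynomial (Fin n) A) (Localization.Away f)]
    [Nontrivial (Localization.Away f)] : n = r := by
  obtain ⟨q'⟩ : Nonempty (PrimeSpectrum (Localization.Away f)) := inferInstance
  haveI : Algebra.FormallyEtale B (Localization.Away f) :=
    Algebra.FormallyEtale.of_isLocalization (Rₘ := Localization.Away f) (Submonoid.powers f)
  have h1 : Module.rankAtStalk (R := Localization.Away f) (Ω[Localization.Away f⁄A]) q' =
      Module.rankAtStalk (R := B) (Ω[B⁄A]) (PrimeSpectrum.comap (algebraMap B _) q') :=
    Module.rankAtStalk_isBaseChange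
      (KaehlerDifferential.isBaseChange_of_formallyEtale A B (Localization.Away f)) q'
  have h2 : Module.rankAtStalk (R := Localization.Away f) (Ω[Localization.Away f⁄A]) q' =
      Module.rankAtStalk (R := MvPolynomial (Fin n) A) (Ω[MvPolynomial (Fin n) A⁄A])
        (PrimeSpectrum.comap (algebraMap (MvPolynomial (Fin n) A) _) q') :=
    Module.rankAtStalk_isBaseChange
      (KaehlerDifferential.isBaseChange_of_formallyEtale A (MvPolynomial (Fin n) A)
        (Localization.Away f)) q'
  haveI : Module.Free (MvPolynomial (Fin n) A) (Ω[MvPolynomial (Fin n) A⁄A]) :=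
    Module.Free.of_basis (KaehlerDifferential.mvPolynomialBasis A (Fin n))
  haveI : Nontrivial A := (algebraMap A (Localization.Away f)).domain_nontrivial
  have h3 : Module.rankAtStalk (R := MvPolynomial (Fin n) A) (Ω[MvPolynomial (Fin n) A⁄A])
        (PrimeSpectrum.comap (algebraMap (MvPolynomial (Fin n) A) _) q') = n := by
    rw [Module.rankAtStalk_eq_finrank_of_free]
    simp [Module.finrank_eq_card_basis (KaehlerDifferential.mvPolynomialBasis A (Fin n))]
  rw [hr] at h1
  rw [h1, h3] at h2
  exact h2.symm

/-- Rank of a finite flat algebra computed on a principal open where it becomes free. -/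
theorem rankAtStalk_of_localization_square {R S R' S' : Type u} [CommRing R] [CommRing S]
    [CommRing R'] [CommRing S'] [Algebra R S] [Algebra R R'] [Algebra S S'] [Algebra R' S']
    [Algebra R S'] [IsScalarTower R R' S'] [IsScalarTower R S S']
    (t : R) [IsLocalization.Away t R'] [IsLocalization.Away (algebraMap R S t) S']
    [Module.Flat R S] [Module.Finite R S]
    {E : Type*} [Finite E] {s : E → S'} (h : IsFreeOn (algebraMap R' S') s)
    (Q : PrimeSpectrum R) (hQ : t ∉ Q.asIdeal) :
    Module.rankAtStalk (R := R) S Q = Nat.card E := by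
  haveI : IsLocalization (Algebra.algebraMapSubmonoid S (Submonoid.powers t)) S' := by
    rw [Algebra.algebraMapSubmonoid_powers]
    infer_instance
  haveI : Algebra.IsPushout R S R' S' :=
    (Algebra.isLocalization_iff_isPushout (Submonoid.powers t) R').mp inferInstance
  have hmem : Q ∈ Set.range (PrimeSpectrum.comap (algebraMap R R')) := by
    rw [PrimeSpectrum.localization_away_comap_range R' t]
    exact hQ
  obtain ⟨Q', rfl⟩ := hmem
  rw [← Algebra.rankAtStalk_eq_of_isPushout R S R' S' Q']
  haveI : Nontrivial R' := ⟨⟨0, 1, fun h01 =>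
    Q'.isPrime.ne_top ((Ideal.eq_top_iff_one _).mpr (h01 ▸ Q'.asIdeal.zero_mem))⟩⟩
  haveI : Module.Free R' S' := Module.Free.of_basis h.basis
  rw [Module.rankAtStalk_eq_finrank_of_free]
  simp [Module.finrank_eq_nat_card_basis h.basis]

theorem rankAtStalk_of_localization_square' {R S R' S' : Type u} [CommRing R] [CommRing S]
    [CommRing R'] [CommRing S'] [Algebra S S']
    (f : R →+* S) (m : R →+* R') (f' : R' →+* S')
    (hcomm : f'.comp m = (algebraMap S S').comp f) (t : R)
    (hm : @IsLocalization.Away R _ t R' _ m.toAlgebra) [hg : IsLocalization.Away (f t) S']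
    (hflat : f.Flat) (hfin : f.Finite) {E : Type*} [Finite E] {s : E → S'} (h : IsFreeOn f' s)
    (Q : PrimeSpectrum R) (hQ : t ∉ Q.asIdeal) :
    letI := f.toAlgebra
    Module.rankAtStalk (R := R) S Q = Nat.card E := by
  letI := f.toAlgebra
  letI := m.toAlgebra
  letI := f'.toAlgebra
  letI : Algebra R S' := ((algebraMap S S').comp f).toAlgebra
  haveI : IsScalarTower R S S' := .of_algebraMap_eq' rfl
  haveI : IsScalarTower R R' S' := .of_algebraMap_eq' hcomm.symm
  haveI : IsLocalization.Away t R' := hm
  haveI : IsLocalization.Away (algebraMap R S t) S' := hg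
  haveI : Module.Flat R S := hflat
  haveI : Module.Finite R S := hfin
  exact rankAtStalk_of_localization_square t h Q hQ

theorem card_smallExp (n p : ℕ) : Nat.card (SmallExp (Fin n) p) = p ^ n := by
  let e : SmallExp (Fin n) p ≃ (Fin n → Fin p) :=
    { toFun := fun x i => ⟨x.1 i, x.2 i⟩
      invFun := fun g => ⟨Finsupp.equivFunOnFinite.symm (fun i => (g i : ℕ)), fun i => by
        simp⟩
      left_inv := fun x => by
        apply Subtype.ext
        ext i
        simp
      right_inv := fun g => by
        ext i
        simp }
  rw [Nat.card_congr e, Nat.card_fun, Nat.card_fin, Nat.card_fin]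

instance (n p : ℕ) : Finite (SmallExp (Fin n) p) := by
  let e : SmallExp (Fin n) p → (Fin n → Fin p) := fun x i => ⟨x.1 i, x.2 i⟩
  refine Finite.of_injective e ?_
  intro x y hxy
  apply Subtype.ext
  ext i
  have := congrFun hxy i
  exact congrArg Fin.val this

section

variable (p : ℕ) [Fact p.Prime] (A : Type u) [CommRing A] [CharP A p]

theorem isLocalization_away_baseChange (B C : Type u) [CommRing B] [CommRing C] [Algebra A B]
    [Algebra A C] [Algebra B C] [IsScalarTower A B C] (f : B) [IsLocalization.Away f C] :
    @IsLocalization.Away (BaseChange p A B) _ (f ⊗ₜ[A] (1 : Twist p A)) (BaseChange p A C) _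
      (Algebra.TensorProduct.map (IsScalarTower.toAlgHom A B C)
        (AlgHom.id A (Twist p A))).toRingHom.toAlgebra := by
  letI : Algebra (BaseChange p A B) (BaseChange p A C) :=
    (Algebra.TensorProduct.map (IsScalarTower.toAlgHom A B C)
      (AlgHom.id A (Twist p A))).toRingHom.toAlgebra
  haveI : IsScalarTower B (BaseChange p A B) (BaseChange p A C) := .of_algebraMap_eq' (by
    ext b
    simp [RingHom.algebraMap_toAlgebra])
  have := IsLocalization.tensorProduct_tensorProduct A (Twist p A) (Submonoid.powers f) C (by
    ext
    simp [RingHom.algebraMap_toAlgebra])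
  rw [Algebra.algebraMapSubmonoid_powers] at this
  exact this

theorem rankAtStalk_relFrob_of_chart (B C : Type u) [CommRing B] [CommRing C] [Algebra A B]
    [Algebra A C] [Algebra B C] [IsScalarTower A B C] [CharP B p] [CharP C p] (f : B)
    [IsLocalization.Away f C] (hflat : (relFrob p A B).Flat) (hfin : (relFrob p A B).Finite)
    {E : Type*} [Finite E] {s : E → C} (hfree : IsFreeOn (relFrob p A C) s)
    (Q : PrimeSpectrum (BaseChange p A B)) (hQ : f ⊗ₜ[A] (1 : Twist p A) ∉ Q.asIdeal) :
    letI := (relFrob p A B).toAlgebra
    Module.rankAtStalk (R := BaseChange p A B) B Q = Nat.card E := by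
  have hp : p.Prime := Fact.out
  have heq : (relFrob p A C).comp (Algebra.TensorProduct.map (IsScalarTower.toAlgHom A B C)
      (AlgHom.id A (Twist p A))).toRingHom = (algebraMap B C).comp (relFrob p A B) :=
    RingHom.ext fun y => (relFrob_map' p A (IsScalarTower.toAlgHom A B C) y)
  haveI h2 : IsLocalization.Away (relFrob p A B (f ⊗ₜ[A] (1 : Twist p A))) C := by
    have h3 : relFrob p A B (f ⊗ₜ[A] (1 : Twist p A)) = f * f ^ (p - 1) := by
      rw [relFrob_tmul', map_one, map_one, mul_one, ← pow_succ', Nat.sub_add_cancel hp.pos]
    rw [h3]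
    exact IsLocalization.Away.mul_of_isUnit f _ (by
      rw [map_pow]
      exact (IsLocalization.Away.algebraMap_isUnit f).pow _)
  exact rankAtStalk_of_localization_square' (relFrob p A B) _ (relFrob p A C) heq
    (f ⊗ₜ[A] (1 : Twist p A)) (isLocalization_away_baseChange p A B C f) hflat hfin hfree Q hQ

/-- The relative Frobenius of a smooth algebra of relative dimension `r` is finite locally free of
rank `p ^ r`. -/
theorem relFrob_finite_projective_rank (B : Type u) [CommRing B] [Algebra A B] [CharP B p]
    [Algebra.Smooth A B] (r : ℕ)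
    (hr : ∀ q : PrimeSpectrum B, Module.rankAtStalk (R := B) (KaehlerDifferential A B) q = r) :
    letI := (relFrob p A B).toAlgebra
    Module.Finite (BaseChange p A B) B ∧ Module.Projective (BaseChange p A B) B ∧
      ∀ q : PrimeSpectrum (BaseChange p A B),
        Module.rankAtStalk (R := BaseChange p A B) B q = p ^ r := by
  have hp : p.Prime := Fact.out
  have hflat := relFrob_flat_of_smooth p A B
  have hfin := relFrob_finite p A B
  have hfp := relFrob_finitePresentation p A B
  have hrank : ∀ Q : PrimeSpectrum (BaseChange p A B),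
      (letI := (relFrob p A B).toAlgebra
       Module.rankAtStalk (R := BaseChange p A B) B Q) = p ^ r := by
    intro Q
    let q : PrimeSpectrum B := PrimeSpectrum.comap
      (Algebra.TensorProduct.includeLeft : B →ₐ[A] BaseChange p A B).toRingHom Q
    obtain ⟨f, hfq, n, _, _, hse⟩ :=
      Algebra.IsSmoothAt.exists_isStandardEtale_mvPolynomial (R := A) (p := q.asIdeal)
    haveI : Nontrivial (Localization.Away f) := nontrivial_away_of_notMem q.asIdeal f hfq
    haveI : CharP (Localization.Away f) p := charP_of_algebra' p hp A _
    haveI : Algebra.Etale (MvPolynomial (Fin n) A) (Localization.Away f) := inferInstance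
    have hn : n = r := rank_eq_of_chart A B r hr f n
    have hfree := isFreeOn_relFrob_of_etale_mvPolynomial p A n (Localization.Away f)
    have := rankAtStalk_relFrob_of_chart p A B (Localization.Away f) f hflat hfin hfree Q hfq
    rw [this, card_smallExp, hn]
  letI := (relFrob p A B).toAlgebra
  haveI : Module.Finite (BaseChange p A B) B := hfin
  haveI : Module.Flat (BaseChange p A B) B := hflat
  haveI : Algebra.FinitePresentation (BaseChange p A B) B := hfp
  haveI : Module.FinitePresentation (BaseChange p A B) B :=
    Module.FinitePresentation.of_finite_of_finitePresentation _ _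
  exact ⟨hfin, Module.Flat.projective_of_finitePresentation, hrank⟩

end

end FrobSmH8
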