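import Mathlib
import Groth.Prelude.Def_ActBC
import Groth.Agent.Lib.TDescC_helper4

set_option autoImplicit false
set_option linter.style.haveILetI false
universe u
open CategoryTheory CategoryTheory.Limits AlgebraicGeometry MonoidalCategory CartesianMonoidalCategory MonObj

namespace Groth.Agent.Lib.InfTorsH4

/-- Ring-level: a ring `A` with a unique prime and a retraction `ret` of `inc : K → A` onto a field (domain)
`K`: every element differs from its image under `inc ∘ ret` by a nilpotent. -/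
theorem isNilpotent_sub {K A : Type*} [CommRing K] [IsDomain K] [CommRing A]
    [Subsingleton (PrimeSpectrum A)] (inc : K →+* A) (ret : A →+* K) (h : ret.comp inc = RingHom.id K)
    (a : A) : IsNilpotent (a - inc (ret a)) := by
  have hker : a - inc (ret a) ∈ RingHom.ker ret := by
    rw [RingHom.mem_ker, map_sub]
    have := congrArg (fun f => f (ret a)) h
    simp only [RingHom.comp_apply, RingHom.id_apply] at this
    rw [this, sub_self]
  haveI : (RingHom.ker ret).IsPrime := RingHom.ker_isPrime ret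
  rw [← mem_nilradical, nilradical_eq_sInf, Ideal.mem_sInf]
  intro J hJ
  have : (⟨J, hJ⟩ : PrimeSpectrum A) = ⟨RingHom.ker ret, inferInstance⟩ := Subsingleton.elim _ _
  have hJ' : J = RingHom.ker ret := congrArg PrimeSpectrum.asIdeal this
  rw [hJ']
  exact hker

/-- two ring maps out of such an `A` into a reduced ring which agree on `K` are equal -/
theorem ringHom_ext_of_reduced {K A C : Type*} [CommRing K] [IsDomain K] [CommRing A] [CommRing C]
    [IsReduced C] [Subsingleton (PrimeSpectrum A)] (inc : K →+* A) (ret : A →+* K)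
    (h : ret.comp inc = RingHom.id K) (β₁ β₂ : A →+* C) (hβ : β₁.comp inc = β₂.comp inc) : β₁ = β₂ := by
  ext a
  have hn := isNilpotent_sub inc ret h a
  have h1 : β₁ (a - inc (ret a)) = 0 := (hn.map β₁).eq_zero
  have h2 : β₂ (a - inc (ret a)) = 0 := (hn.map β₂).eq_zero
  rw [map_sub, sub_eq_zero] at h1 h2
  rw [h1, h2]
  exact congrArg (fun f => f (ret a)) hβ

end Groth.Agent.Lib.InfTorsH4

namespace Groth.Agent.Lib.InfTorsH4

/-- (a) points of an infinitesimal group with values in a reduced scheme are all equal -/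
theorem hom_ext_of_isReduced {k : Type u} [Field k] (I : Over (Spec (CommRingCat.of k)))
    [GrpObj I] [IsFinite I.hom] [Subsingleton ↥(I.left)] (T : Over (Spec (CommRingCat.of k)))
    [IsReduced T.left] (g₁ g₂ : T ⟶ I) : g₁ = g₂ := by
  haveI : IsAffine I.left := isAffine_of_isAffineHom I.hom
  haveI : Subsingleton (PrimeSpectrum Γ(I.left, ⊤)) :=
    I.left.isoSpec.inv.homeomorph.injective.subsingleton
  apply Over.OverMorphism.ext
  apply ext_of_isAffine
  have hret : (I.hom.appTop ≫ η[I].left.appTop) = 𝟙 _ := by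
    rw [← Scheme.Hom.comp_appTop]
    have : η[I].left ≫ I.hom = 𝟙 _ := Over.w η[I]
    rw [this]
    rfl
  have h1 : I.hom.appTop ≫ g₁.left.appTop = I.hom.appTop ≫ g₂.left.appTop := by
    rw [← Scheme.Hom.comp_appTop, ← Scheme.Hom.comp_appTop, Over.w g₁, Over.w g₂]
  have key := ringHom_ext_of_reduced (K := Γ(Spec (CommRingCat.of k), ⊤)) (A := Γ(I.left, ⊤))
    (C := Γ(T.left, ⊤)) I.hom.appTop.hom η[I].left.appTop.hom
    (by
      have := congrArg CommRingCat.Hom.hom hret
      exact this)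
    g₁.left.appTop.hom g₂.left.appTop.hom
    (by
      have := congrArg CommRingCat.Hom.hom h1
      exact this)
  exact CommRingCat.hom_ext key

end Groth.Agent.Lib.InfTorsH4

namespace Groth.Agent.Lib.InfTorsH4

/-- (b) in a pseudo-torsor, if the group has only one `T`-point then the torsor has at most one -/
theorem point_ext_of_pseudoTorsor {B : Scheme.{u}} {I X : Over B} [GrpObj I]
    (a : AlgGrp.Action I X) (ha : NonAbH1.IsPseudoTorsorSch a) (T : Over B)
    (hT : ∀ g₁ g₂ : T ⟶ I, g₁ = g₂) (x₁ x₂ : T ⟶ X) : x₁ = x₂ := by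
  haveI : IsIso (lift a.act (snd I X)) := ha
  obtain ⟨w, hw⟩ : ∃ w : T ⟶ I ⊗ X, w = lift x₁ x₂ ≫ inv (lift a.act (snd I X)) := ⟨_, rfl⟩
  have hwσ : w ≫ lift a.act (snd I X) = lift x₁ x₂ := by
    rw [hw, Category.assoc, IsIso.inv_hom_id, Category.comp_id]
  have h1 : w ≫ a.act = x₁ := by
    have := congrArg (fun t => t ≫ fst X X) hwσ
    simpa only [Category.assoc, lift_fst] using this
  have h2 : w ≫ snd I X = x₂ := by
    have := congrArg (fun t => t ≫ snd X X) hwσ
    simpa only [Category.assoc, lift_snd] using this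
  have hw' : w = lift (1 : T ⟶ I) x₂ := by
    apply CartesianMonoidalCategory.hom_ext
    · rw [lift_fst]; exact hT _ _
    · rw [lift_snd, h2]
  rw [← h1, hw', AlgGrp.Action.lift_one_act]

end Groth.Agent.Lib.InfTorsH4

namespace Groth.Agent.Lib.InfTorsH4

open TensorProduct in
theorem main13959 (k : Type u) [Field k] (L : Type u) [Field L] [Algebra k L]
    [IsReduced (L ⊗[k] L)]
    (I E : Over (Spec (CommRingCat.of k))) [GrpObj I] [IsFinite I.hom] [Subsingleton ↥(I.left)]
    (a : AlgGrp.Action I E) (hE : NonAbH1.IsTorsorFor Scheme.fppfPrecoverage a)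
    (hL : NonAbH1.HasSectionOver E (Spec.map (CommRingCat.ofHom (algebraMap k L)))) :
    NonAbH1.HasSectionOver E (𝟙 (Spec (CommRingCat.of k))) := by
  obtain ⟨x, hx⟩ := hL
  obtain ⟨π, hπ⟩ : ∃ π : Spec (CommRingCat.of L) ⟶ Spec (CommRingCat.of k),
      π = Spec.map (CommRingCat.ofHom (algebraMap k L)) := ⟨_, rfl⟩
  rw [← hπ] at hx
  -- `π` is an fpqc cover
  haveI : Flat π := by
    rw [hπ, HasRingHomProperty.Spec_iff (P := @Flat)]
    exact RingHom.flat_algebraMap_iff.mpr inferInstance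
  haveI : Surjective π := by
    constructor
    intro y
    obtain ⟨p⟩ : Nonempty (Spec (CommRingCat.of L)) := inferInstance
    exact ⟨p, Subsingleton.elim _ _⟩
  haveI : QuasiCompact π := by
    rw [HasAffineProperty.iff_of_isAffine (P := @QuasiCompact)]
    infer_instance
  have hcov : SchFpqcCovH7.IsCov π := Groth.Agent.Lib.TLineH4.isCov_of_fpqc π
  -- the objects over `Spec k`
  obtain ⟨A, hA⟩ : ∃ A : Over (Spec (CommRingCat.of k)), A = Over.mk π := ⟨_, rfl⟩
  obtain ⟨c, hc⟩ : ∃ c : Over.mk π ⟶ 𝟙_ (Over (Spec (CommRingCat.of k))), c.left = π :=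
    ⟨Over.homMk π (Category.comp_id _), rfl⟩
  obtain ⟨fx, hfx⟩ : ∃ fx : Over.mk π ⟶ E, fx.left = x := ⟨Over.homMk x hx, rfl⟩
  -- the self-product is reduced
  haveI : IsReduced (Over.mk π ⊗ Over.mk π).left := by
    have e : (Over.mk π ⊗ Over.mk π).left ≅ Spec (CommRingCat.of (L ⊗[k] L)) := by
      refine ?_ ≪≫ pullbackSpecIso k L L
      rw [hπ]
      exact Iso.refl _
    exact isReduced_of_isOpenImmersion e.hom
  have hWI : ∀ g₁ g₂ : Over.mk π ⊗ Over.mk π ⟶ I, g₁ = g₂ :=
    fun g₁ g₂ => hom_ext_of_isReduced I _ g₁ g₂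
  have hkey : fst (Over.mk π) (Over.mk π) ≫ fx = snd (Over.mk π) (Over.mk π) ≫ fx :=
    point_ext_of_pseudoTorsor a hE.1 _ hWI _ _
  obtain ⟨y, hy⟩ := SchFpqcCovH7.desc_of_isCov c (by rw [hc]; exact hcov) fx (by
    intro T a₁ a₂ _
    calc a₁ ≫ fx = lift a₁ a₂ ≫ fst (Over.mk π) (Over.mk π) ≫ fx := by rw [lift_fst_assoc]
      _ = lift a₁ a₂ ≫ snd (Over.mk π) (Over.mk π) ≫ fx := by rw [hkey]
      _ = a₂ ≫ fx := by rw [lift_snd_assoc])
  exact ⟨y.left, Over.w y⟩

end Groth.Agent.Lib.InfTorsH4
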