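import Mathlib
import Groth.Prelude.Def_ActBC
import Groth.Agent.Lib.InfTors_helper4
import Groth.Agent.Lib.EtNormD_helper4

set_option autoImplicit false
set_option linter.style.haveILetI false
set_option linter.unusedSectionVars false
universe u
open CategoryTheory CategoryTheory.Limits AlgebraicGeometry MonoidalCategory CartesianMonoidalCategory MonObj

namespace Groth.Agent.Lib.FrobTorsH4

/-- a finite connected scheme over a field has at most one point -/
theorem subsingleton_of_finite_connected {K : Type u} [Field K] {G : Scheme.{u}}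
    (g : G ⟶ Spec (CommRingCat.of K)) [IsFinite g] [ConnectedSpace G] : Subsingleton G := by
  haveI : DiscreteTopology G := Groth.Agent.Lib.EtNormH4.discreteTopology_of_locallyQuasiFinite g
  exact PreconnectedSpace.trivial_of_discrete

/-- ring level: `A` with a unique prime, noetherian, and `ret : A → K` onto a domain: the kernel is nilpotent -/
theorem exists_ker_pow_eq_bot {K A : Type*} [CommRing K] [IsDomain K] [CommRing A] [IsNoetherianRing A]
    [Subsingleton (PrimeSpectrum A)] (ret : A →+* K) : ∃ N : ℕ, (RingHom.ker ret) ^ N = ⊥ := by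
  obtain ⟨N, hN⟩ := IsNoetherianRing.isNilpotent_nilradical A
  refine ⟨N, ?_⟩
  rw [← le_bot_iff, ← Ideal.zero_eq_bot, ← hN]
  refine Ideal.pow_right_mono ?_ N
  intro a ha
  haveI : (RingHom.ker ret).IsPrime := RingHom.ker_isPrime ret
  rw [nilradical_eq_sInf, Ideal.mem_sInf]
  intro J hJ
  have : (⟨J, hJ⟩ : PrimeSpectrum A) = ⟨RingHom.ker ret, inferInstance⟩ := Subsingleton.elim _ _
  have hJ' : J = RingHom.ker ret := congrArg PrimeSpectrum.asIdeal this
  rw [hJ']
  exact ha

end Groth.Agent.Lib.FrobTorsH4
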