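import Groth.Agent.Lib.FrobTorsA_helper4

set_option autoImplicit false
set_option linter.style.haveILetI false
set_option linter.unusedSectionVars false
universe u
open CategoryTheory CategoryTheory.Limits AlgebraicGeometry MonoidalCategory CartesianMonoidalCategory MonObj

namespace Groth.Agent.Lib.FrobTorsH4

/-- the closed subscheme of an affine scheme cut out by an ideal of global sections, with the formula for
its comorphism -/
theorem exists_closed_of_ideal (T : Scheme.{u}) [IsAffine T] (I : Ideal Γ(T, ⊤)) :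
    ∃ (T₀ : Scheme.{u}) (i : T₀ ⟶ T), ∀ r : Γ(T, ⊤), i.appTop.hom r = 0 ↔ r ∈ I := by
  refine ⟨Spec (CommRingCat.of (Γ(T, ⊤) ⧸ I)),
    Spec.map (CommRingCat.ofHom (Ideal.Quotient.mk I)) ≫ T.isoSpec.inv, fun r => ?_⟩
  have h2 : T.isoSpec.hom.appTop = (Scheme.ΓSpecIso Γ(T, ⊤)).hom := Scheme.toSpecΓ_appTop T
  have h3 : T.isoSpec.hom.appTop ≫ T.isoSpec.inv.appTop = 𝟙 _ := by
    rw [← Scheme.Hom.comp_appTop, Iso.inv_hom_id]; rfl
  rw [h2] at h3
  have h4 : T.isoSpec.inv.appTop = (Scheme.ΓSpecIso Γ(T, ⊤)).inv :=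
    ((Iso.eq_inv_comp _).mpr h3).trans (Category.comp_id _)
  have h1 : (Spec.map (CommRingCat.ofHom (Ideal.Quotient.mk I)) ≫ T.isoSpec.inv).appTop =
      CommRingCat.ofHom (Ideal.Quotient.mk I) ≫ (Scheme.ΓSpecIso (CommRingCat.of (Γ(T, ⊤) ⧸ I))).inv := by
    rw [Scheme.Hom.comp_appTop, h4]
    exact (Scheme.ΓSpecIso_inv_naturality (CommRingCat.ofHom (Ideal.Quotient.mk I))).symm
  rw [h1]
  change (Scheme.ΓSpecIso (CommRingCat.of (Γ(T, ⊤) ⧸ I))).inv.hom (Ideal.Quotient.mk I r) = 0 ↔ _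
  rw [← Ideal.Quotient.eq_zero_iff_mem]
  constructor
  · intro h
    have := congrArg (Scheme.ΓSpecIso (CommRingCat.of (Γ(T, ⊤) ⧸ I))).hom.hom h
    rw [map_zero] at this
    rw [← this]
    change _ = ((Scheme.ΓSpecIso (CommRingCat.of (Γ(T, ⊤) ⧸ I))).inv ≫
      (Scheme.ΓSpecIso (CommRingCat.of (Γ(T, ⊤) ⧸ I))).hom).hom _
    rw [Iso.inv_hom_id]
    rfl
  · intro h
    rw [h, map_zero]

theorem isoSpec_inv_appTop (T : Scheme.{u}) [IsAffine T] :
    T.isoSpec.inv.appTop = (Scheme.ΓSpecIso Γ(T, ⊤)).inv := by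
  have h2 : T.isoSpec.hom.appTop = (Scheme.ΓSpecIso Γ(T, ⊤)).hom := Scheme.toSpecΓ_appTop T
  have h3 : T.isoSpec.hom.appTop ≫ T.isoSpec.inv.appTop = 𝟙 _ := by
    rw [← Scheme.Hom.comp_appTop, Iso.inv_hom_id]; rfl
  rw [h2] at h3
  exact ((Iso.eq_inv_comp _).mpr h3).trans (Category.comp_id _)

/-- an endomorphism of an affine scheme with prescribed comorphism -/
theorem exists_endo_of_ringHom (T : Scheme.{u}) [IsAffine T] (φ : Γ(T, ⊤) ⟶ Γ(T, ⊤)) :
    ∃ Fr : T ⟶ T, Fr.appTop = φ := by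
  refine ⟨T.isoSpec.hom ≫ Spec.map φ ≫ T.isoSpec.inv, ?_⟩
  have h2 : T.isoSpec.hom.appTop = (Scheme.ΓSpecIso Γ(T, ⊤)).hom := Scheme.toSpecΓ_appTop T
  rw [Scheme.Hom.comp_appTop, Scheme.Hom.comp_appTop, isoSpec_inv_appTop, h2,
    ← Scheme.ΓSpecIso_inv_naturality, Category.assoc, Iso.inv_hom_id, Category.comp_id]

variable {S : Scheme.{u}} [IsAffine S] {G X : Over S} [GrpObj G]

/-- On `G × X`, modulo the ideal generated by the augmentation ideal of `G`, the action equals the projection. -/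
theorem act_sub_snd_mem (a : AlgGrp.Action G X) [IsAffine G.left] [IsAffine X.left]
    (b : Γ(X.left, ⊤)) :
    a.act.left.appTop.hom b - (snd G X).left.appTop.hom b ∈
      Ideal.map (fst G X).left.appTop.hom (RingHom.ker η[G].left.appTop.hom) := by
  haveI : IsAffine (G ⊗ X).left := by
    change IsAffine (pullback G.hom X.hom)
    infer_instance
  obtain ⟨T₀, i, hi⟩ := exists_closed_of_ideal (G ⊗ X).left
    (Ideal.map (fst G X).left.appTop.hom (RingHom.ker η[G].left.appTop.hom))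
  rw [← hi, map_sub, sub_eq_zero]
  -- the object `T₀` over `S`
  obtain ⟨T, hT⟩ : ∃ T : Over S, T = Over.mk (i ≫ (G ⊗ X).hom) := ⟨_, rfl⟩
  obtain ⟨jj, hjj⟩ : ∃ jj : Over.mk (i ≫ (G ⊗ X).hom) ⟶ G ⊗ X, jj.left = i := ⟨Over.homMk i rfl, rfl⟩
  -- claim 1: the `G`-coordinate restricted to `T₀` is trivial
  have h1 : jj ≫ fst G X = (1 : Over.mk (i ≫ (G ⊗ X).hom) ⟶ G) := by
    apply Over.OverMorphism.ext
    apply ext_of_isAffine
    rw [Hom.one_def]
    apply CommRingCat.hom_ext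
    ext x
    -- x - G.hom^*(ε x) lies in the augmentation ideal
    have hx : x - G.hom.appTop.hom (η[G].left.appTop.hom x) ∈ RingHom.ker η[G].left.appTop.hom := by
      rw [RingHom.mem_ker, map_sub, sub_eq_zero]
      have : η[G].left ≫ G.hom = 𝟙 _ := Over.w η[G]
      have h' : G.hom.appTop ≫ η[G].left.appTop = 𝟙 _ := by
        rw [← Scheme.Hom.comp_appTop, this]; rfl
      have := congrArg (fun f => f.hom (η[G].left.appTop.hom x)) h'
      exact this.symm
    have hx2 := (hi _).mpr (Ideal.mem_map_of_mem (fst G X).left.appTop.hom hx)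
    rw [map_sub, map_sub, sub_eq_zero] at hx2
    rw [Over.comp_left, hjj, Scheme.Hom.comp_appTop]
    change i.appTop.hom ((fst G X).left.appTop.hom x) = _
    rw [hx2]
    have e1 : (toUnit (Over.mk (i ≫ (G ⊗ X).hom)) ≫ η[G]).left =
        i ≫ (fst G X).left ≫ G.hom ≫ η[G].left := by
      rw [Over.comp_left, Over.w_assoc (fst G X)]
      have : (toUnit (Over.mk (i ≫ (G ⊗ X).hom))).left = i ≫ (G ⊗ X).hom := by
        simp
      rw [this, Category.assoc]
    rw [e1]
    simp only [Scheme.Hom.comp_appTop, CommRingCat.hom_comp, RingHom.comp_apply]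
  -- claim 2: on `T₀` the action is the projection
  have h2 : jj ≫ a.act = jj ≫ snd G X := by
    have e : jj = lift (jj ≫ fst G X) (jj ≫ snd G X) := by
      apply CartesianMonoidalCategory.hom_ext
      · rw [lift_fst]
      · rw [lift_snd]
    calc jj ≫ a.act = lift (jj ≫ fst G X) (jj ≫ snd G X) ≫ a.act := by rw [← e]
      _ = lift (1 : Over.mk (i ≫ (G ⊗ X).hom) ⟶ G) (jj ≫ snd G X) ≫ a.act := by rw [h1]
      _ = jj ≫ snd G X := AlgGrp.Action.lift_one_act a _
  have h3 := congrArg (fun f => f.left.appTop.hom b) h2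
  simp only [Over.comp_left, hjj, Scheme.Hom.comp_appTop, CommRingCat.hom_comp, RingHom.comp_apply] at h3
  exact h3

end Groth.Agent.Lib.FrobTorsH4
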