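import Groth.Agent.Lib.FrobTorsB_helper4

set_option autoImplicit false
set_option linter.style.haveILetI false
set_option linter.unusedSectionVars false
universe u
open CategoryTheory CategoryTheory.Limits AlgebraicGeometry MonoidalCategory CartesianMonoidalCategory MonObj

namespace Groth.Agent.Lib.FrobTorsH4

/-- in a ring receiving a field of characteristic `p`, nilpotent differences die after `p^N`-th powers -/
theorem pow_eq_of_sub_pow_eq_zero {K P : Type*} [Field K] [CommRing P] (φ : K →+* P) (p : ℕ) [ExpChar K p]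
    (hp : p.Prime) (N : ℕ) (x y : P) (h : (x - y) ^ N = 0) : x ^ p ^ N = y ^ p ^ N := by
  rcases subsingleton_or_nontrivial P with hs | hn
  · exact Subsingleton.elim _ _
  · haveI : ExpChar P p := expChar_of_injective_ringHom φ.injective p
    have hN : N ≤ p ^ N := (Nat.lt_pow_self hp.one_lt).le
    have : (x - y) ^ p ^ N = 0 := by
      rw [← Nat.sub_add_cancel hN, pow_add, h, mul_zero]
    rw [sub_pow_expChar_pow, sub_eq_zero] at this
    exact this

variable {K : Type u} [Field K] {G X : Over (Spec (CommRingCat.of K))} [GrpObj G]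

/-- the two pullbacks of `b^(p^N)` to `X × X` agree -/
theorem fst_pow_eq_snd_pow (p : ℕ) [ExpChar K p] (hp : p.Prime) (a : AlgGrp.Action G X)
    (ha : NonAbH1.IsPseudoTorsorSch a) [IsAffine G.left] [IsAffine X.left] (N : ℕ)
    (hN : (RingHom.ker η[G].left.appTop.hom) ^ N = ⊥) (b : Γ(X.left, ⊤)) :
    (fst X X).left.appTop.hom (b ^ p ^ N) = (snd X X).left.appTop.hom (b ^ p ^ N) := by
  have h1 := act_sub_snd_mem a b
  have h2 : (a.act.left.appTop.hom b - (snd G X).left.appTop.hom b) ^ N = 0 := by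
    have := Ideal.pow_mem_pow h1 N
    rw [← Ideal.map_pow, hN, Ideal.map_bot] at this
    exact this
  -- a ring map from `K`
  let φ : K →+* Γ((G ⊗ X).left, ⊤) :=
    ((G ⊗ X).hom.appTop.hom).comp (Scheme.ΓSpecIso (CommRingCat.of K)).inv.hom
  have h3 := pow_eq_of_sub_pow_eq_zero φ p hp N _ _ h2
  rw [← map_pow, ← map_pow] at h3
  -- transport along the torsor isomorphism
  haveI : IsIso (lift a.act (snd G X)) := ha
  have hinj : Function.Injective (lift a.act (snd G X)).left.appTop.hom := by
    haveI : IsIso (lift a.act (snd G X)).left :=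
      (inferInstance : IsIso ((Over.forget _).map (lift a.act (snd G X))))
    haveI : IsIso (lift a.act (snd G X)).left.appTop := by
      have : IsIso ((Scheme.Γ.map (lift a.act (snd G X)).left.op)) := inferInstance
      exact this
    exact ((ConcreteCategory.isIso_iff_bijective _).mp ‹_›).1
  apply hinj
  have e1 : (lift a.act (snd G X)).left.appTop.hom ((fst X X).left.appTop.hom (b ^ p ^ N)) =
      a.act.left.appTop.hom (b ^ p ^ N) := by
    have := congrArg (fun f => f.left.appTop.hom (b ^ p ^ N)) (lift_fst a.act (snd G X))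
    simpa only [Over.comp_left, Scheme.Hom.comp_appTop, CommRingCat.hom_comp, RingHom.comp_apply] using this
  have e2 : (lift a.act (snd G X)).left.appTop.hom ((snd X X).left.appTop.hom (b ^ p ^ N)) =
      (snd G X).left.appTop.hom (b ^ p ^ N) := by
    have := congrArg (fun f => f.left.appTop.hom (b ^ p ^ N)) (lift_snd a.act (snd G X))
    simpa only [Over.comp_left, Scheme.Hom.comp_appTop, CommRingCat.hom_comp, RingHom.comp_apply] using this
  rw [e1, e2, h3]

theorem nonempty_of_locallyTrivial {S : Scheme.{u}} [Nonempty S] (Y : Over S)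
    (h : NonAbH1.IsLocallyTrivialFor Scheme.fppfPrecoverage Y) : Nonempty Y.left := by
  obtain ⟨R, hR, hsec⟩ := h
  have hR' : R ∈ Scheme.jointlySurjectivePrecoverage S := hR.1
  rw [Scheme.jointlySurjectivePrecoverage, Presieve.mem_comap_jointlySurjectivePrecoverage_iff] at hR'
  obtain ⟨s⟩ := ‹Nonempty S›
  obtain ⟨Z, f, hf, y, hy⟩ := hR' s
  obtain ⟨σ, hσ⟩ := hsec f hf
  exact ⟨σ y⟩

/-- Frobenius descent: a torsor under `G` with `(ker ε)^N = 0` has a section over the `N`-fold Frobenius. -/
theorem hasSection_frob (p : ℕ) [ExpChar K p] (hp : p.Prime) (a : AlgGrp.Action G X)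
    (ha : NonAbH1.IsTorsorFor Scheme.fppfPrecoverage a) [IsFinite G.hom] (N : ℕ)
    (hN : (RingHom.ker η[G].left.appTop.hom) ^ N = ⊥) :
    NonAbH1.HasSectionOver X (Spec.map (CommRingCat.ofHom (iterateFrobenius K p N))) := by
  haveI : IsAffine G.left := isAffine_of_isAffineHom G.hom
  haveI := Groth.Agent.Lib.TorsorProp_helper7.isFinite_descends.{u}
  haveI : IsFinite X.hom :=
    Groth.Agent.Lib.TorsorProp_helper7.prop_of_torsor @IsFinite a
      (Groth.Agent.Lib.EtNormH4.fpqc_of_fppf ha) inferInstance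
  haveI : IsAffine X.left := isAffine_of_isAffineHom X.hom
  haveI : Nonempty X.left := nonempty_of_locallyTrivial X ha.2
  -- the ring of functions has characteristic `p`
  let φ : K →+* Γ(X.left, ⊤) :=
    (X.hom.appTop.hom).comp (Scheme.ΓSpecIso (CommRingCat.of K)).inv.hom
  haveI : Nonempty (⊤ : X.left.Opens) := by
    obtain ⟨x⟩ := ‹Nonempty X.left›
    exact ⟨⟨x, trivial⟩⟩
  haveI : Nontrivial Γ(X.left, ⊤) := Scheme.component_nontrivial X.left ⊤
  haveI : ExpChar Γ(X.left, ⊤) p := expChar_of_injective_ringHom φ.injective p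
  obtain ⟨Fr, hFr⟩ := exists_endo_of_ringHom X.left
    (CommRingCat.ofHom (iterateFrobenius Γ(X.left, ⊤) p N))
  have hFr' : ∀ b : Γ(X.left, ⊤), Fr.appTop.hom b = b ^ p ^ N := by
    intro b
    rw [hFr]
    exact iterateFrobenius_def _ _ _
  -- Frobenius on `Spec K`
  have hFK : ∀ r : Γ(Spec (CommRingCat.of K), ⊤),
      (Spec.map (CommRingCat.ofHom (iterateFrobenius K p N))).appTop.hom r = r ^ p ^ N := by
    intro r
    have h1 := Scheme.ΓSpecIso_naturality (CommRingCat.ofHom (iterateFrobenius K p N))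
    have h2 := congrArg (fun f => f.hom r) h1
    simp only [CommRingCat.hom_comp, RingHom.comp_apply, CommRingCat.hom_ofHom] at h2
    rw [iterateFrobenius_def, ← map_pow] at h2
    have hinj : Function.Injective (Scheme.ΓSpecIso (CommRingCat.of K)).hom.hom :=
      ((ConcreteCategory.isIso_iff_bijective (Scheme.ΓSpecIso (CommRingCat.of K)).hom).mp inferInstance).1
    exact hinj h2
  have hFrX : Fr ≫ X.hom = X.hom ≫ Spec.map (CommRingCat.ofHom (iterateFrobenius K p N)) := by
    apply ext_of_isAffine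
    apply CommRingCat.hom_ext
    ext r
    simp only [Scheme.Hom.comp_appTop, CommRingCat.hom_comp, RingHom.comp_apply]
    rw [hFr', hFK, map_pow]
  -- descent along the fpqc cover `X ⟶ Spec K`
  obtain ⟨FK, hFKdef⟩ : ∃ FK : Spec (CommRingCat.of K) ⟶ Spec (CommRingCat.of K),
      FK = Spec.map (CommRingCat.ofHom (iterateFrobenius K p N)) := ⟨_, rfl⟩
  rw [← hFKdef] at hFrX ⊢
  obtain ⟨c, hc⟩ : ∃ c : Over.mk (X.hom ≫ FK) ⟶ Over.mk FK, c.left = X.hom := ⟨Over.homMk X.hom rfl, rfl⟩
  obtain ⟨f, hf⟩ : ∃ f : Over.mk (X.hom ≫ FK) ⟶ X, f.left = Fr := ⟨Over.homMk Fr hFrX, rfl⟩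
  have hcov : SchFpqcCovH7.IsCov c.left := by
    rw [hc]
    haveI : Surjective X.hom := ⟨fun y => by
      obtain ⟨x⟩ := ‹Nonempty X.left›
      exact ⟨x, Subsingleton.elim _ _⟩⟩
    exact Groth.Agent.Lib.TLineH4.isCov_of_fpqc X.hom
  obtain ⟨f', hf'⟩ := SchFpqcCovH7.desc_of_isCov c hcov f (fun T a₁ a₂ h12 => by
    apply Over.OverMorphism.ext
    apply ext_of_isAffine
    apply CommRingCat.hom_ext
    ext b
    have hcl : a₁.left ≫ X.hom = a₂.left ≫ X.hom := by
      have := congrArg (fun t => t.left) h12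
      simpa only [Over.comp_left, hc] using this
    obtain ⟨t, ht1, ht2⟩ : ∃ t : T.left ⟶ (X ⊗ X).left, t ≫ (fst X X).left = a₁.left ∧
        t ≫ (snd X X).left = a₂.left :=
      ⟨pullback.lift a₁.left a₂.left hcl, pullback.lift_fst _ _ _, pullback.lift_snd _ _ _⟩
    have key := fst_pow_eq_snd_pow p hp a ha.1 N hN b
    simp only [Over.comp_left, hf, Scheme.Hom.comp_appTop, CommRingCat.hom_comp, RingHom.comp_apply]
    rw [hFr', ← ht1, ← ht2]
    simp only [Scheme.Hom.comp_appTop, CommRingCat.hom_comp, RingHom.comp_apply]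
    rw [key])
  exact ⟨f'.left, Over.w f'⟩

end Groth.Agent.Lib.FrobTorsH4
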