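import Groth.Agent.Lib.FrobTorsC_helper4

set_option autoImplicit false
set_option linter.style.haveILetI false
set_option linter.unusedSectionVars false
universe u
open CategoryTheory CategoryTheory.Limits AlgebraicGeometry MonoidalCategory CartesianMonoidalCategory MonObj

namespace Groth.Agent.Lib.FrobTorsH4

variable {K : Type u} [Field K] {G X : Over (Spec (CommRingCat.of K))} [GrpObj G]

theorem exists_N [IsFinite G.hom] [ConnectedSpace G.left] :
    ∃ N : ℕ, (RingHom.ker η[G].left.appTop.hom) ^ N = ⊥ := by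
  haveI : IsAffine G.left := isAffine_of_isAffineHom G.hom
  haveI : Subsingleton G.left := subsingleton_of_finite_connected G.hom
  haveI : Subsingleton (PrimeSpectrum Γ(G.left, ⊤)) :=
    G.left.isoSpec.inv.homeomorph.injective.subsingleton
  haveI : IsLocallyNoetherian G.left := LocallyOfFiniteType.isLocallyNoetherian G.hom
  haveI : IsNoetherianRing Γ(G.left, ⊤) :=
    IsLocallyNoetherian.component_noetherian ⟨⊤, isAffineOpen_top G.left⟩
  have hd : IsDomain Γ(Spec (CommRingCat.of K), ⊤) :=
    (Scheme.ΓSpecIso (CommRingCat.of K)).commRingCatIsoToRingEquiv.toMulEquiv.isDomain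
  haveI : IsDomain Γ((𝟙_ (Over (Spec (CommRingCat.of K)))).left, ⊤) := hd
  exact exists_ker_pow_eq_bot η[G].left.appTop.hom

open scoped TensorProduct in
theorem isReduced_tensor_of_charZero (K L : Type u) [Field K] [Field L] [Algebra K L] [Module.Finite K L]
    [CharZero K] : IsReduced (L ⊗[K] L) := by
  haveI : Algebra.IsSeparable K L := Algebra.IsAlgebraic.isSeparable_of_perfectField
  haveI : Algebra.FormallyUnramified K L := Algebra.FormallyUnramified.of_isSeparable K L
  exact Algebra.FormallyUnramified.isReduced_of_field L (L ⊗[K] L)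

/-- characteristic zero: torsors under a finite connected group are trivial -/
theorem hasSection_charZero [CharZero K] [IsFinite G.hom] [ConnectedSpace G.left] (a : AlgGrp.Action G X)
    (ha : NonAbH1.IsTorsorFor Scheme.fppfPrecoverage a) :
    NonAbH1.HasSectionOver X (𝟙 (Spec (CommRingCat.of K))) := by
  haveI : Subsingleton G.left := subsingleton_of_finite_connected G.hom
  haveI := Groth.Agent.Lib.TorsorProp_helper7.isFinite_descends.{u}
  haveI : IsFinite X.hom :=
    Groth.Agent.Lib.TorsorProp_helper7.prop_of_torsor @IsFinite a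
      (Groth.Agent.Lib.EtNormH4.fpqc_of_fppf ha) inferInstance
  haveI : IsAffine X.left := isAffine_of_isAffineHom X.hom
  haveI : Nonempty X.left := nonempty_of_locallyTrivial X ha.2
  haveI : Nonempty (⊤ : X.left.Opens) := by
    obtain ⟨x⟩ := ‹Nonempty X.left›
    exact ⟨⟨x, trivial⟩⟩
  haveI : Nontrivial Γ(X.left, ⊤) := Scheme.component_nontrivial X.left ⊤
  -- a residue field of `X`
  obtain ⟨m, hm⟩ := Ideal.exists_maximal Γ(X.left, ⊤)
  letI : Field (Γ(X.left, ⊤) ⧸ m) := Ideal.Quotient.field m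
  let ψ : CommRingCat.of K ⟶ CommRingCat.of (Γ(X.left, ⊤) ⧸ m) :=
    (Scheme.ΓSpecIso (CommRingCat.of K)).inv ≫ X.hom.appTop ≫ CommRingCat.ofHom (Ideal.Quotient.mk m)
  letI : Algebra K (Γ(X.left, ⊤) ⧸ m) := ψ.hom.toAlgebra
  haveI : Module.Finite K (Γ(X.left, ⊤) ⧸ m) := by
    have h1 : (X.hom.appTop).hom.Finite :=
      ((HasAffineProperty.iff_of_isAffine (P := @IsFinite)).mp (inferInstance : IsFinite X.hom)).2
    have h2 : (Scheme.ΓSpecIso (CommRingCat.of K)).inv.hom.Finite :=
      RingHom.Finite.of_surjective _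
        ((ConcreteCategory.isIso_iff_bijective (Scheme.ΓSpecIso (CommRingCat.of K)).inv).mp inferInstance).2
    have h3 : (Ideal.Quotient.mk m).Finite := RingHom.Finite.of_surjective _ Ideal.Quotient.mk_surjective
    have h4 : ψ.hom.Finite := by
      change ((Ideal.Quotient.mk m).comp ((X.hom.appTop).hom.comp
        (Scheme.ΓSpecIso (CommRingCat.of K)).inv.hom)).Finite
      exact h3.comp (h1.comp h2)
    exact h4
  haveI := isReduced_tensor_of_charZero K (Γ(X.left, ⊤) ⧸ m)
  refine Groth.Agent.Lib.InfTorsH4.main13959 K (Γ(X.left, ⊤) ⧸ m) G X a ha ?_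
  refine ⟨Spec.map (CommRingCat.ofHom (Ideal.Quotient.mk m)) ≫ X.left.isoSpec.inv, ?_⟩
  have h1 : X.left.isoSpec.inv ≫ X.hom =
      Spec.map X.hom.appTop ≫ Spec.map (Scheme.ΓSpecIso (CommRingCat.of K)).inv := by
    rw [← Scheme.isoSpec_Spec_inv, Iso.inv_comp_eq, ← Category.assoc, Scheme.isoSpec_hom_naturality,
      Category.assoc, Iso.hom_inv_id, Category.comp_id]
  rw [Category.assoc, h1, ← Spec.map_comp, ← Spec.map_comp]
  rfl

theorem main18318 (K : Type u) [Field K]
    (p : ℕ) [hE : ExpChar K p] (G : Over (Spec (CommRingCat.of K))) [GrpObj G] [IsFinite G.hom]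
    [ConnectedSpace G.left] :
    ∃ n : ℕ, ∀ (X : Over (Spec (CommRingCat.of K))) (a : AlgGrp.Action G X),
      NonAbH1.IsTorsorFor Scheme.fppfPrecoverage a →
      NonAbH1.HasSectionOver X (Spec.map (CommRingCat.ofHom (iterateFrobenius K p n))) := by
  rcases hE with _ | ⟨hp⟩
  · refine ⟨0, fun X a ha => ?_⟩
    have h0 : iterateFrobenius K 1 0 = RingHom.id K := by
      ext x
      rw [iterateFrobenius_def]
      simp
    rw [h0]
    have h1 : Spec.map (CommRingCat.ofHom (RingHom.id K)) = 𝟙 _ := Spec.map_id _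
    rw [h1]
    exact hasSection_charZero a ha
  · obtain ⟨N, hN⟩ := exists_N (G := G)
    haveI : ExpChar K p := ExpChar.prime hp
    exact ⟨N, fun X a ha => hasSection_frob p hp a ha N hN⟩

end Groth.Agent.Lib.FrobTorsH4
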