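import Mathlib
import Groth.Prelude
import Groth.Agent.Lib.FrobTw3_helper9
import Groth.Agent.Lib.Hurwitz_helper9
import Groth.Agent.Lib.FEtEuler4_helper9
import Groth.Agent.Lib.OmField_helper9

/-!
# The genus does not increase along a finite morphism of smooth proper curves (helper9)
APPEND-ONLY once landed.
-/

set_option autoImplicit false
universe u
open CategoryTheory CategoryTheory.Limits AlgebraicGeometry Opposite TopologicalSpace

namespace FrobTw9

attribute [local instance] Curv2.stalkAlgebra

section Gen

/-- a finite morphism of integral curves maps the generic point to the generic point -/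
theorem generic_of_finite {X Y : Scheme.{u}} [IsIntegral X] [IsIntegral Y]
    (hdimX : topologicalKrullDim X = 1) (hdimY : topologicalKrullDim Y = 1)
    (f : X ⟶ Y) [IsFinite f] : f (genericPoint X) = genericPoint Y := by
  by_contra hne
  have hcl : IsClosed ({f (genericPoint X)} : Set Y) :=
    DegPull.isClosed_singleton_of_ne_generic hdimY.le _ hne
  have hall : ∀ x : X, f x = f (genericPoint X) := fun x => by
    have h1 : genericPoint X ⤳ x := genericPoint_specializes x
    have h2 : f (genericPoint X) ⤳ f x := h1.map f.continuous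
    exact h2.mem_closed hcl rfl
  have hdisc := f.isDiscrete_preimage_singleton (f (genericPoint X))
  have huniv : f ⁻¹' {f (genericPoint X)} = Set.univ := Set.eq_univ_of_forall hall
  rw [huniv, isDiscrete_univ_iff] at hdisc
  haveI := hdisc
  exact DegPull.not_isClosed_generic hdimX (isClosed_discrete _)

end Gen

section Alg

/-- a tower of fields of the same finite transcendence degree one is algebraic -/
theorem isAlgebraic_of_trdeg (k L K : Type u) [Field k] [Field L] [Field K] [Algebra k L]
    [Algebra k K] [Algebra L K] [IsScalarTower k L K] (hL : Algebra.trdeg k L = 1)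
    (hK : Algebra.trdeg k K = 1) : Algebra.IsAlgebraic L K := by
  have h := trdeg_add_eq k L (A := K)
  rw [hL, hK] at h
  rw [← trdeg_eq_zero_iff]
  have hle : Algebra.trdeg L K ≤ 1 := by
    calc Algebra.trdeg L K ≤ 1 + Algebra.trdeg L K := self_le_add_left _ _
      _ = 1 := h
  have hlt : Algebra.trdeg L K < Cardinal.aleph0 := lt_of_le_of_lt hle Cardinal.one_lt_aleph0
  obtain ⟨n, hn⟩ := Cardinal.lt_aleph0.mp hlt
  rw [hn] at h ⊢
  have h2 : (1 + n : ℕ) = 1 := by exact_mod_cast h
  have h3 : n = 0 := by omega
  rw [h3]
  rfl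

end Alg

section Closed

variable (k : Type u) [Field k] [IsAlgClosed k] (X : Scheme.{u}) [X.Over (Spec (CommRingCat.of k))]
  [IsIntegral X] [IsProper (X ↘ Spec (CommRingCat.of k))]
  (Y : Scheme.{u}) [Y.Over (Spec (CommRingCat.of k))]
  [IsIntegral Y] [IsProper (Y ↘ Spec (CommRingCat.of k))]

/-- over an algebraically closed field: the genus does not increase along a dominant morphism of
regular proper curves -/
theorem genus_le_algClosed (hdimX : topologicalKrullDim X = 1)
    (hregX : ∀ x : X, IsRegularLocalRing (X.presheaf.stalk x))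
    (hdimY : topologicalKrullDim Y = 1)
    (hregY : ∀ x : Y, IsRegularLocalRing (Y.presheaf.stalk x))
    (f : X ⟶ Y)
    (hf : f ≫ (Y ↘ Spec (CommRingCat.of k)) = X ↘ Spec (CommRingCat.of k))
    (e : f (genericPoint X) = genericPoint Y) :
    Curv2.genus k Y ≤ Curv2.genus k X := by
  obtain ⟨p, hp⟩ := ExpChar.exists k
  haveI := hp
  letI alg : Algebra Y.functionField X.functionField :=
    ((Y.presheaf.stalkSpecializes (specializes_of_eq e) ≫
      f.stalkMap (genericPoint X)).hom).toAlgebra
  haveI : IsScalarTower k Y.functionField X.functionField :=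
    IsScalarTower.of_algebraMap_eq (fun c => (stalkMap_comm k f hf e c).symm)
  have hX : ∀ x : X, IsClosed ({x} : Set X) → ringKrullDim (X.presheaf.stalk x) = 1 :=
    fun x hx => CurvePtInv.ringKrullDim_stalk_of_closed hdimX hx
  have hY : ∀ y : Y, IsClosed ({y} : Set Y) → ringKrullDim (Y.presheaf.stalk y) = 1 :=
    fun y hy => CurvePtInv.ringKrullDim_stalk_of_closed hdimY hy
  haveI : Algebra.IsAlgebraic Y.functionField X.functionField :=
    isAlgebraic_of_trdeg k _ _ (CurveComp9.trdeg_functionField k Y hY)
      (CurveComp9.trdeg_functionField k X hX)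
  haveI : IsScalarTower k (separableClosure Y.functionField X.functionField) X.functionField :=
    IsScalarTower.of_algebraMap_eq (fun c => rfl)
  obtain ⟨n, ψ, -⟩ := exists_tw_equiv k X p hX (separableClosure Y.functionField X.functionField)
  haveI := isProper_tw k X (iterateFrobeniusEquiv k p n).symm
  let φ : Y.functionField →ₐ[k]
      (Tw k X ((iterateFrobeniusEquiv k p n).symm : k →+* k)).functionField :=
    ψ.toAlgHom.comp (IsScalarTower.toAlgHom k Y.functionField
      (separableClosure Y.functionField X.functionField))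
  obtain ⟨u, ⟨hu1, hu, hu2⟩, -⟩ := Groth.Agent.S4445.result k
    (Tw k X ((iterateFrobeniusEquiv k p n).symm : k →+* k)) Y hX
    (isNormal_of_regular X hregX) hY φ
  haveI : IsFinite u := DegPull.isFinite_of_dominant k
    (X := Tw k X ((iterateFrobeniusEquiv k p n).symm : k →+* k)) (Y := Y) hdimX hdimY u hu1 hu
  have hsep : @Algebra.IsSeparable Y.functionField
      (Tw k X ((iterateFrobeniusEquiv k p n).symm : k →+* k)).functionField _ _
      ((Y.presheaf.stalkSpecializes (specializes_of_eq hu) ≫
        u.stalkMap (genericPoint _)).hom).toAlgebra := by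
    rw [hu2]
    letI := (φ : Y.functionField →+*
      (Tw k X ((iterateFrobeniusEquiv k p n).symm : k →+* k)).functionField).toAlgebra
    let ψ' : (separableClosure Y.functionField X.functionField) ≃ₐ[Y.functionField]
        (Tw k X ((iterateFrobeniusEquiv k p n).symm : k →+* k)).functionField :=
      { ψ.toRingEquiv with commutes' := fun y => rfl }
    exact AlgEquiv.Algebra.isSeparable ψ'
  have H := Hurwitz.main11332 k (Tw k X ((iterateFrobeniusEquiv k p n).symm : k →+* k)) Y
    hdimX hregX hdimY hregY u hu1 hu hsep
  have hpos := FEtEuler9.residueDegree_pos u (genericPoint _)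
  rw [genus_tw] at H
  by_cases h0 : Curv2.genus k Y = 0
  · omega
  · have h1 : (1 : ℤ) ≤ (Curv2.genus k Y : ℤ) := by
      have : 1 ≤ Curv2.genus k Y := Nat.one_le_iff_ne_zero.mpr h0
      exact_mod_cast this
    have h2 : (1 : ℤ) ≤ (u.residueDegree (genericPoint _) : ℤ) := by exact_mod_cast hpos
    have h3 : (0 : ℤ) ≤ (Module.finrank k (Coh.HH _ (Omega.sheaf u) 0) : ℤ) := Int.natCast_nonneg _
    have h4 : (0 : ℤ) ≤ ((u.residueDegree (genericPoint _) : ℤ) - 1) *
        (2 * (Curv2.genus k Y : ℤ) - 2) := mul_nonneg (by linarith) (by linarith)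
    have h5 : (Curv2.genus k Y : ℤ) ≤ (Curv2.genus k X : ℤ) := by nlinarith
    exact_mod_cast h5

end Closed

end FrobTw9
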