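import Mathlib
import Groth.Prelude
import Groth.Agent.Lib.FrobTw4_helper9

/-!
# The genus does not increase along a finite morphism of smooth proper curves: arbitrary base
field, by base change to the algebraic closure (helper9)
APPEND-ONLY once landed.
-/

set_option autoImplicit false
universe u
open CategoryTheory CategoryTheory.Limits AlgebraicGeometry Opposite TopologicalSpace

namespace FrobTw9

section BC

attribute [local instance] OmField.overK OmField.properK OmField.smoothK OmField.geomConnK
  OmField.integralK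

variable (k : Type u) [Field k] {X Y : Scheme.{u}}
  (p : X ⟶ Spec (CommRingCat.of k)) (q : Y ⟶ Spec (CommRingCat.of k))
  [IsProper p] [Smooth p] [GeometricallyConnected p]
  [IsProper q] [Smooth q] [GeometricallyConnected q]

theorem main7811 (hX : topologicalKrullDim X = 1) (hY : topologicalKrullDim Y = 1)
    (f : X ⟶ Y) [IsFinite f] (hf : f ≫ q = p) :
    @Curv2.genus k _ Y ⟨q⟩ ≤ @Curv2.genus k _ X ⟨p⟩ := by
  letI : X.Over (Spec (CommRingCat.of k)) := ⟨p⟩
  letI : Y.Over (Spec (CommRingCat.of k)) := ⟨q⟩
  have hoverX : X ↘ Spec (CommRingCat.of k) = p := rfl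
  have hoverY : Y ↘ Spec (CommRingCat.of k) = q := rfl
  haveI : IsProper (X ↘ Spec (CommRingCat.of k)) := by rw [hoverX]; infer_instance
  haveI : Smooth (X ↘ Spec (CommRingCat.of k)) := by rw [hoverX]; infer_instance
  haveI : GeometricallyConnected (X ↘ Spec (CommRingCat.of k)) := by rw [hoverX]; infer_instance
  haveI : IsProper (Y ↘ Spec (CommRingCat.of k)) := by rw [hoverY]; infer_instance
  haveI : Smooth (Y ↘ Spec (CommRingCat.of k)) := by rw [hoverY]; infer_instance
  haveI : GeometricallyConnected (Y ↘ Spec (CommRingCat.of k)) := by rw [hoverY]; infer_instance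
  show Curv2.genus k Y ≤ Curv2.genus k X
  rw [← OmField.genus_bc k X, ← OmField.genus_bc k Y]
  have e₁ : (X ↘ Spec (CommRingCat.of k)) = f ≫ (Y ↘ Spec (CommRingCat.of k)) := hf.symm
  have e₂ : Spec.map (CommRingCat.ofHom (algebraMap k (AlgebraicClosure k))) =
      𝟙 _ ≫ Spec.map (CommRingCat.ofHom (algebraMap k (AlgebraicClosure k))) :=
    (Category.id_comp _).symm
  let fK : Curv2.bc k X (AlgebraicClosure k) ⟶ Curv2.bc k Y (AlgebraicClosure k) :=
    pullback.map _ _ _ _ f (𝟙 _) (𝟙 _) ((Category.comp_id _).trans e₁)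
      ((Category.comp_id _).trans e₂)
  haveI : IsFinite fK :=
    MorphismProperty.pullbackMap (P := @IsFinite) ‹IsFinite f› (inferInstance : IsFinite (𝟙 _)) e₁ e₂
  have hfK : fK ≫ (Curv2.bc k Y (AlgebraicClosure k) ↘ Spec (CommRingCat.of (AlgebraicClosure k))) =
      Curv2.bc k X (AlgebraicClosure k) ↘ Spec (CommRingCat.of (AlgebraicClosure k)) := by
    show fK ≫ pullback.snd _ _ = pullback.snd _ _
    exact (pullback.lift_snd _ _ _).trans (Category.comp_id _)
  have hdX := OmField.hdimK k X hX
  have hdY := OmField.hdimK k Y hY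
  exact genus_le_algClosed (AlgebraicClosure k) _ _ hdX
    (fun x => VBCurve.hreg_of_smooth (AlgebraicClosure k) _ x) hdY
    (fun y => VBCurve.hreg_of_smooth (AlgebraicClosure k) _ y) fK hfK
    (generic_of_finite hdX hdY fK)

end BC

end FrobTw9
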