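import Mathlib
import Groth.Prelude.Def_Curv2
import Groth.Agent.Lib.GeomRedSch_helper4

set_option autoImplicit false
set_option linter.style.haveILetI false
set_option linter.unusedSectionVars false

universe u

open scoped TensorProduct
open CategoryTheory CategoryTheory.Limits AlgebraicGeometry

namespace Groth.Agent.Lib.FrobTwistRedH4

open Groth.Agent.Lib.GeomRedInsepH4 Groth.Agent.Lib.GeomRedSchH4

section Algebra

variable (p : ℕ) [hp : Fact p.Prime] (k A : Type u) [Field k] [CommRing A] [Algebra k A]
  [CharP k p]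

/-- MacLane-type criterion for a general commutative algebra (adapted from the field case). -/
theorem isGeometricallyReduced_of_linearIndependent_pow [Nontrivial A]
    (H : ∀ s : Module.Basis.ofVectorSpaceIndex k A → A,
      LinearIndependent k s → LinearIndependent k (fun j => s j ^ p)) :
    Algebra.IsGeometricallyReduced k A := by
  classical
  rw [Algebra.isGeometricallyReduced_field_iff]
  let b := Module.Basis.ofVectorSpace k A
  haveI : Nontrivial (AlgebraicClosure k ⊗[k] A) :=
    (Algebra.TensorProduct.includeLeft_injective (S := k)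
      (algebraMap k A).injective : Function.Injective
        (Algebra.TensorProduct.includeLeft : AlgebraicClosure k →ₐ[k] _)).nontrivial
  haveI : CharP (AlgebraicClosure k ⊗[k] A) p :=
    charP_of_injective_algebraMap (algebraMap k (AlgebraicClosure k ⊗[k] A)).injective p
  refine ⟨fun θ hθ => ?_⟩
  obtain ⟨N, hN⟩ := hθ
  obtain ⟨m, hm⟩ : ∃ m, N ≤ p ^ m := ⟨N, (Nat.lt_pow_self hp.out.one_lt).le⟩
  have hθm : θ ^ (p ^ m) = 0 := pow_eq_zero_of_le hm hN
  let B := b.baseChange (AlgebraicClosure k)
  have hθ' : θ = ∑ j ∈ (B.repr θ).support,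
      (B.repr θ j) • ((1 : AlgebraicClosure k) ⊗ₜ[k] b j) := by
    conv_lhs => rw [← B.linearCombination_repr θ, Finsupp.linearCombination_apply, Finsupp.sum]
    refine Finset.sum_congr rfl fun j _ => ?_
    rw [Module.Basis.baseChange_apply]
  have hli : ∀ m : ℕ, LinearIndependent k (fun j => b j ^ (p ^ m)) := by
    intro m
    induction m with
    | zero => simpa using b.linearIndependent
    | succ m ih =>
      have := H _ ih
      convert this using 2
      rw [pow_succ, pow_mul]
  have hli' := Module.Flat.linearIndependent_one_tmul (S := AlgebraicClosure k) (hli m)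
  have h1 : θ ^ (p ^ m) = ∑ j ∈ (B.repr θ).support,
      (B.repr θ j) ^ (p ^ m) • ((1 : AlgebraicClosure k) ⊗ₜ[k] (b j ^ (p ^ m))) := by
    conv_lhs => rw [hθ']
    rw [sum_pow_char_pow]
    refine Finset.sum_congr rfl fun j _ => ?_
    rw [smul_pow, Algebra.TensorProduct.tmul_pow, one_pow]
  rw [h1] at hθm
  have h2 := (linearIndependent_iff'.1 hli') _ _ hθm
  have h3 : B.repr θ = 0 := by
    ext j
    by_cases hj : j ∈ (B.repr θ).support
    · have := h2 j hj
      exact (pow_eq_zero_iff (pow_ne_zero m hp.out.ne_zero)).1 this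
    · simpa using hj
  rw [← B.linearCombination_repr θ, h3]
  simp

theorem linearIndependent_pow_of_isReduced [Nontrivial A] (N : Type u) [Field N] [Algebra k N]
    (hN : ∀ c : k, ∃ x : N, x ^ p = algebraMap k N c) [IsReduced (N ⊗[k] A)]
    {J : Type*} (s : J → A) (hs : LinearIndependent k s) :
    LinearIndependent k (fun j => s j ^ p) := by
  classical
  haveI : Nontrivial (N ⊗[k] A) :=
    (Algebra.TensorProduct.includeLeft_injective (S := k)
      (algebraMap k A).injective : Function.Injective
        (Algebra.TensorProduct.includeLeft : N →ₐ[k] _)).nontrivial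
  haveI : CharP (N ⊗[k] A) p :=
    charP_of_injective_algebraMap (algebraMap k (N ⊗[k] A)).injective p
  rw [linearIndependent_iff']
  intro t g hg i hi
  choose x hx using hN
  have hli' := Module.Flat.linearIndependent_one_tmul (S := N) hs
  have h0 : ∀ j ∈ t, (x (g j) • ((1 : N) ⊗ₜ[k] s j)) ^ p = (1 : N) ⊗ₜ[k] (g j • s j ^ p) := by
    intro j _
    rw [smul_pow, Algebra.TensorProduct.tmul_pow, one_pow, hx, TensorProduct.smul_tmul',
      smul_eq_mul, mul_one, ← TensorProduct.smul_tmul, Algebra.smul_def, mul_one]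
  have h1 : (∑ j ∈ t, x (g j) • ((1 : N) ⊗ₜ[k] s j)) ^ p = 0 := by
    rw [sum_pow_char, Finset.sum_congr rfl h0, ← TensorProduct.tmul_sum, hg,
      TensorProduct.tmul_zero]
  have h2 : ∑ j ∈ t, x (g j) • ((1 : N) ⊗ₜ[k] s j) = 0 := IsReduced.eq_zero _ ⟨p, h1⟩
  have h3 : x (g i) = 0 := (linearIndependent_iff'.1 hli') t (fun j => x (g j)) h2 i hi
  have h4 : algebraMap k N (g i) = 0 := by rw [← hx, h3, zero_pow hp.out.ne_zero]
  exact (map_eq_zero (algebraMap k N)).mp h4

theorem isGeometricallyReduced_of_twist (N : Type u) [Field N] [Algebra k N]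
    (hN : ∀ c : k, ∃ x : N, x ^ p = algebraMap k N c) [IsReduced (N ⊗[k] A)] :
    Algebra.IsGeometricallyReduced k A := by
  rcases subsingleton_or_nontrivial A with h | h
  · rw [Algebra.isGeometricallyReduced_field_iff]
    haveI : Subsingleton (AlgebraicClosure k ⊗[k] A) := by
      refine subsingleton_of_zero_eq_one ?_
      rw [Algebra.TensorProduct.one_def, Subsingleton.elim (1 : A) 0, TensorProduct.tmul_zero]
    exact ⟨fun x _ => Subsingleton.elim x 0⟩
  · exact isGeometricallyReduced_of_linearIndependent_pow p k A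
      (fun s hs => linearIndependent_pow_of_isReduced p k A N hN s hs)

end Algebra

/-- `k` regarded as a `k`-algebra through Frobenius. -/
def FrobTwist (k : Type u) (_p : ℕ) : Type u := k

noncomputable instance (k : Type u) [Field k] (p : ℕ) : Field (FrobTwist k p) :=
  inferInstanceAs (Field k)

noncomputable instance frobAlg (k : Type u) [Field k] (p : ℕ) [Fact p.Prime] [CharP k p] :
    Algebra k (FrobTwist k p) :=
  (frobenius k p).toAlgebra

theorem affine_piece (k : Type u) [Field k] (p : ℕ) [Fact p.Prime] [CharP k p]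
    (U : Scheme.{u}) [IsAffine U] (a : U ⟶ Spec (CommRingCat.of k))
    (h : IsReduced (pullback a (Spec.map (CommRingCat.ofHom (frobenius k p)))))
    (K : Type u) [Field K] (y : Spec (CommRingCat.of K) ⟶ Spec (CommRingCat.of k)) :
    IsReduced (pullback a y) := by
  obtain ⟨φ, hφ⟩ : ∃ φ : CommRingCat.of k ⟶ Γ(U, ⊤), Spec.map φ = U.isoSpec.inv ≫ a :=
    ⟨Spec.preimage _, Spec.map_preimage _⟩
  letI : Algebra k Γ(U, ⊤) := φ.hom.toAlgebra
  have ha : Spec.map (CommRingCat.ofHom (algebraMap k Γ(U, ⊤))) = U.isoSpec.inv ≫ a := hφ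
  obtain ⟨ψ, rfl⟩ : ∃ ψ : CommRingCat.of k ⟶ CommRingCat.of K, Spec.map ψ = y :=
    ⟨Spec.preimage _, Spec.map_preimage _⟩
  letI : Algebra k K := ψ.hom.toAlgebra
  have h1 : IsReduced (pullback a
      (Spec.map (CommRingCat.ofHom (algebraMap k (FrobTwist k p))))) := h
  have h2 : _root_.IsReduced (FrobTwist k p ⊗[k] Γ(U, ⊤)) :=
    (pullback_reduced_iff k U a ha (FrobTwist k p)).mp h1
  haveI := h2
  have hg : Algebra.IsGeometricallyReduced k Γ(U, ⊤) :=
    isGeometricallyReduced_of_twist p k Γ(U, ⊤) (FrobTwist k p) (fun c => ⟨c, rfl⟩)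
  have t := (main9634 (k := k) (S := Γ(U, ⊤))).out 1 2
  have h3 : _root_.IsReduced (K ⊗[k] Γ(U, ⊤)) := t.mp hg K
  exact (pullback_reduced_iff k U a ha K).mpr h3

theorem main7678 (k : Type u) [Field k] (X : Scheme.{u}) [X.Over (Spec (CommRingCat.of k))]
    (p : ℕ) [Fact p.Prime] [CharP k p] :
    GeometricallyReduced (X ↘ (Spec (CommRingCat.of k))) ↔
      IsReduced ↑(pullback (X ↘ (Spec (CommRingCat.of k)))
        (Spec.map (CommRingCat.ofHom (frobenius k p)))) := by
  constructor
  · intro h
    exact h.geometrically_isReduced (K := k) (Spec.map (CommRingCat.ofHom (frobenius k p)))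
      (pullback.fst _ _) (pullback.snd _ _) (IsPullback.of_hasPullback _ _)
  · intro h
    refine ⟨fun K _ y Z fst snd hpb => ?_⟩
    haveI : IsReduced (pullback (X ↘ Spec (CommRingCat.of k)) y) := by
      haveI : ∀ i, IsReduced ((Scheme.Pullback.openCoverOfLeft X.affineCover
          (X ↘ Spec (CommRingCat.of k)) y).X i) := by
        intro (i : X.affineCover.I₀)
        show IsReduced (pullback (X.affineCover.f i ≫ (X ↘ Spec (CommRingCat.of k))) y)
        refine affine_piece k p _ (X.affineCover.f i ≫ (X ↘ Spec (CommRingCat.of k))) ?_ K y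
        exact @isReduced_of_isOpenImmersion _ _ ((Scheme.Pullback.openCoverOfLeft X.affineCover
            (X ↘ Spec (CommRingCat.of k)) (Spec.map (CommRingCat.ofHom (frobenius k p)))).f i)
          (Scheme.Cover.map_prop (Scheme.Pullback.openCoverOfLeft X.affineCover
            (X ↘ Spec (CommRingCat.of k)) (Spec.map (CommRingCat.ofHom (frobenius k p)))) i)
          h
      exact IsReduced.of_openCover _ (Scheme.Pullback.openCoverOfLeft X.affineCover
        (X ↘ Spec (CommRingCat.of k)) y)
    exact isReduced_of_isOpenImmersion hpb.isoPullback.hom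

end Groth.Agent.Lib.FrobTwistRedH4
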