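import Mathlib

/-!
# Finite type morphisms from Artinian local schemes (helper9)
-/

set_option autoImplicit false

open AlgebraicGeometry CategoryTheory TopologicalSpace

namespace Groth.Agent.Lib.FtPts2

universe u

/-- If `A` is Artinian local with residue field `K` (via a surjection `π`) and `K` is a finitely
generated `B`-algebra, then so is `A`. -/
theorem finiteType_of_artinian_local {B A K : Type*} [CommRing B] [CommRing A] [IsArtinianRing A]
    [IsLocalRing A] [Field K] (φ : B →+* A) (π : A →+* K) (hπ : Function.Surjective π)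
    (h : (π.comp φ).FiniteType) : φ.FiniteType := by
  classical
  letI : Algebra B A := φ.toAlgebra
  letI : Algebra B K := (π.comp φ).toAlgebra
  let πA : A →ₐ[B] K := { π with commutes' := fun _ => rfl }
  have hπA : ∀ a, πA a = π a := fun _ => rfl
  set 𝔪 : Ideal A := RingHom.ker π with h𝔪
  haveI : 𝔪.IsMaximal := RingHom.ker_isMaximal_of_surjective π hπ
  have h𝔪' : 𝔪 = IsLocalRing.maximalIdeal A := IsLocalRing.eq_maximalIdeal inferInstance
  obtain ⟨n, hn⟩ : ∃ n : ℕ, 𝔪 ^ n = ⊥ := by
    have := IsArtinianRing.isNilpotent_jacobson_bot (R := A)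
    rw [IsLocalRing.jacobson_eq_maximalIdeal _ bot_ne_top, ← h𝔪'] at this
    obtain ⟨n, hn⟩ := this
    exact ⟨n, hn⟩
  obtain ⟨t, ht⟩ : 𝔪.FG := IsNoetherian.noetherian 𝔪
  obtain ⟨sK, hsK⟩ := (h : Algebra.FiniteType B K).out
  let s : Finset A := sK.image (Function.surjInv hπ)
  have hs : (πA '' (s : Set A)) = sK := by
    ext k
    simp only [s, Finset.coe_image, Set.mem_image, Finset.mem_coe]
    constructor
    · rintro ⟨_, ⟨k', hk', rfl⟩, rfl⟩
      rw [hπA, Function.surjInv_eq hπ]; exact hk'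
    · intro hk
      exact ⟨_, ⟨k, hk, rfl⟩, by rw [hπA, Function.surjInv_eq hπ]⟩
  set C : Subalgebra B A := Algebra.adjoin B ((s : Set A) ∪ (t : Set A)) with hC
  set C' : Submodule B A := Subalgebra.toSubmodule C with hC'
  set M : Submodule B A := 𝔪.restrictScalars B with hM
  set T : Submodule B A := Submodule.span B (t : Set A) with hT
  have hTC : T ≤ C' := Submodule.span_le.mpr fun y hy =>
    Algebra.subset_adjoin (Or.inr hy)
  have hTM : T ≤ M := Submodule.span_le.mpr fun y hy => by
    show y ∈ 𝔪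
    rw [← ht]; exact Ideal.subset_span hy
  have hCC : C' * C' = C' := (Subalgebra.isIdempotentElem_toSubmodule C).eq
  -- (a) C' ⊔ M = ⊤
  have ha : C' ⊔ M = ⊤ := by
    rw [eq_top_iff]
    intro a _
    have hmap : (Algebra.adjoin B (s : Set A)).map πA = ⊤ := by
      rw [AlgHom.map_adjoin, hs, hsK]
    have : πA a ∈ (Algebra.adjoin B (s : Set A)).map πA := by rw [hmap]; trivial
    obtain ⟨c, hc, hca⟩ := this
    have hcC : c ∈ C' := Algebra.adjoin_mono Set.subset_union_left hc
    have hm : a - c ∈ M := by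
      show a - c ∈ RingHom.ker π
      rw [RingHom.mem_ker, map_sub, sub_eq_zero]
      exact hca.symm
    have : a = c + (a - c) := by ring
    rw [this]
    exact Submodule.add_mem_sup hcC hm
  -- M ≤ T * ⊤
  have hMT : M ≤ T * ⊤ := by
    intro z hz
    have hz' : z ∈ Ideal.span (t : Set A) := by rw [ht]; exact hz
    refine Submodule.span_induction (p := fun z _ => z ∈ T * (⊤ : Submodule B A)) ?_ ?_ ?_ ?_ hz'
    · intro y hy
      have := Submodule.mul_mem_mul (Submodule.subset_span hy : y ∈ T)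
        (Submodule.mem_top : (1 : A) ∈ (⊤ : Submodule B A))
      rwa [mul_one] at this
    · exact Submodule.zero_mem _
    · intro x y _ _ hx hy
      exact Submodule.add_mem _ hx hy
    · intro a x _ hx
      have h1 : x * a ∈ T * ⊤ * (⊤ : Submodule B A) := Submodule.mul_mem_mul hx Submodule.mem_top
      rw [mul_assoc] at h1
      have h2 : T * ((⊤ : Submodule B A) * ⊤) ≤ T * ⊤ := mul_le_mul' le_rfl le_top
      rw [smul_eq_mul, mul_comm a x]
      exact h2 h1
  -- powers
  have hTnC : ∀ k : ℕ, T ^ k * C' ≤ C' := by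
    intro k
    induction k with
    | zero => rw [pow_zero, one_mul]
    | succ k ih =>
      rw [pow_succ, mul_assoc]
      calc T ^ k * (T * C') ≤ T ^ k * (C' * C') :=
            mul_le_mul' le_rfl (mul_le_mul' hTC le_rfl)
        _ = T ^ k * C' := by rw [hCC]
        _ ≤ C' := ih
  have hpow_le : ∀ k : ℕ, T ^ k ≤ M ^ k := fun k => pow_le_pow_left' hTM k
  have hstep : ∀ k : ℕ, M ^ k ≤ C' ⊔ M ^ (k + 1) := by
    intro k
    calc M ^ k ≤ (T * ⊤) ^ k := pow_le_pow_left' hMT k
      _ = T ^ k * ⊤ ^ k := mul_pow _ _ _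
      _ ≤ T ^ k * ⊤ := mul_le_mul' le_rfl le_top
      _ = T ^ k * (C' ⊔ M) := by rw [ha]
      _ = T ^ k * C' ⊔ T ^ k * M := Submodule.mul_sup _ _ _
      _ ≤ C' ⊔ M ^ (k + 1) := by
        refine sup_le_sup (hTnC k) ?_
        rw [pow_succ]
        exact mul_le_mul' (hpow_le k) le_rfl
  have hall : ∀ k : ℕ, C' ⊔ M ^ (k + 1) = ⊤ := by
    intro k
    induction k with
    | zero => rw [zero_add, pow_one]; exact ha
    | succ k ih =>
      rw [eq_top_iff, ← ih]
      exact sup_le le_sup_left (hstep (k + 1))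
  have hMpow : ∀ k : ℕ, M ^ k ≤ (𝔪 ^ k).restrictScalars B := by
    intro k
    induction k with
    | zero =>
      rw [pow_zero, pow_zero, Ideal.one_eq_top]
      exact le_top
    | succ k ih =>
      rw [pow_succ, pow_succ]
      refine Submodule.mul_le.mpr fun x hx y hy => ?_
      exact Ideal.mul_mem_mul (ih hx) hy
  have hMn : M ^ (n + 1) = ⊥ := by
    rw [eq_bot_iff]
    refine (hMpow (n + 1)).trans ?_
    rw [pow_succ, hn, Ideal.bot_mul]
    exact le_of_eq rfl
  have hCtop : C' = ⊤ := by
    have := hall n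
    rwa [hMn, sup_bot_eq] at this
  have hCtop' : C = ⊤ := by
    rw [eq_top_iff]
    intro a _
    have : a ∈ C' := by rw [hCtop]; trivial
    exact this
  refine ⟨⟨s ∪ t, ?_⟩⟩
  rw [Finset.coe_union]
  exact hCtop'

end Groth.Agent.Lib.FtPts2
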