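import Mathlib

/-!
# G-domains (Goldman domains): domains `B` such that `B_f` is a field for some `f ≠ 0`.
Pure-Mathlib library (helper6).
-/

set_option autoImplicit false

namespace Groth.Agent.Lib.GDomain

open Ideal

section Domain
variable {B : Type*} [CommRing B] [IsDomain B]

theorem away_injective {f : B} (hf : f ≠ 0) :
    Function.Injective (algebraMap B (Localization.Away f)) :=
  IsLocalization.injective _ (powers_le_nonZeroDivisors_of_noZeroDivisors hf)

/-- `B_f` is a field iff every nonzero prime contains `f`. -/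
theorem isField_away_iff {f : B} (hf : f ≠ 0) :
    IsField (Localization.Away f) ↔ ∀ p : Ideal B, p.IsPrime → p ≠ ⊥ → f ∈ p := by
  have hinj := away_injective hf
  haveI : Nontrivial (Localization.Away f) := hinj.nontrivial
  constructor
  · intro hF p hp hp0
    by_contra hfp
    have hdisj : Disjoint (Submonoid.powers f : Set B) (p : Set B) :=
      (Ideal.disjoint_powers_iff_notMem_of_isPrime f).2 hfp
    have hprime := IsLocalization.isPrime_of_isPrime_disjoint (Submonoid.powers f)
      (Localization.Away f) p hp hdisj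
    have hunder := IsLocalization.under_map_of_isPrime_disjoint (Submonoid.powers f)
      (Localization.Away f) hp hdisj
    have hbot : Ideal.map (algebraMap B (Localization.Away f)) p = ⊥ := by
      rw [eq_bot_iff]
      intro x hx
      by_contra hx0
      have hx0' : x ≠ 0 := fun h => hx0 (h ▸ Ideal.zero_mem _)
      obtain ⟨y, hy⟩ := hF.mul_inv_cancel hx0'
      exact hprime.ne_top ((Ideal.eq_top_iff_one _).2 (hy ▸ Ideal.mul_mem_right y _ hx))
    apply hp0
    rw [← hunder, hbot, Ideal.under_def, ← RingHom.ker_eq_comap_bot,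
      (RingHom.injective_iff_ker_eq_bot _).1 hinj]
  · intro h
    by_contra hF
    obtain ⟨P, hP0, hP⟩ := Ring.not_isField_iff_exists_prime.1 hF
    obtain ⟨hP', hdisj⟩ := (IsLocalization.isPrime_iff_isPrime_disjoint (Submonoid.powers f)
      (Localization.Away f) P).1 hP
    haveI := hP'
    have hfP : f ∉ P.under B := (Ideal.disjoint_powers_iff_notMem_of_isPrime f).1 hdisj
    have h0 : P.under B = ⊥ := by
      by_contra h0
      exact hfP (h _ hP' h0)
    apply hP0
    rw [← IsLocalization.map_under (Submonoid.powers f) (Localization.Away f) P, h0, Ideal.map_bot]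

theorem isOpen_bot_iff :
    IsOpen ({⟨⊥, Ideal.bot_prime⟩} : Set (PrimeSpectrum B)) ↔
      ∃ f : B, f ≠ 0 ∧ ∀ p : Ideal B, p.IsPrime → p ≠ ⊥ → f ∈ p := by
  constructor
  · intro h
    obtain ⟨_, ⟨f, rfl⟩, hf1, hf2⟩ :=
      PrimeSpectrum.isTopologicalBasis_basic_opens.exists_subset_of_mem_open
        (Set.mem_singleton _) h
    refine ⟨f, ?_, ?_⟩
    · rintro rfl
      exact hf1 (Ideal.zero_mem _)
    · intro p hp hp0
      by_contra hfp
      have hmem : (⟨p, hp⟩ : PrimeSpectrum B) ∈
          ({⟨⊥, Ideal.bot_prime⟩} : Set (PrimeSpectrum B)) := hf2 hfp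
      exact hp0 (congrArg PrimeSpectrum.asIdeal (Set.mem_singleton_iff.1 hmem))
  · rintro ⟨f, hf, h⟩
    have heq : ({⟨⊥, Ideal.bot_prime⟩} : Set (PrimeSpectrum B)) =
        (PrimeSpectrum.basicOpen f : Set _) := by
      ext q
      simp only [Set.mem_singleton_iff, SetLike.mem_coe, PrimeSpectrum.mem_basicOpen]
      constructor
      · rintro rfl
        simpa using hf
      · intro hfq
        by_contra hq
        exact hfq (h q.asIdeal q.2 (fun h0 => hq (PrimeSpectrum.ext h0)))
    rw [heq]
    exact (PrimeSpectrum.basicOpen f).2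

theorem exists_away_isField_iff :
    (∃ f : B, f ≠ 0 ∧ IsField (Localization.Away f)) ↔
      ∃ f : B, f ≠ 0 ∧ ∀ p : Ideal B, p.IsPrime → p ≠ ⊥ → f ∈ p :=
  ⟨fun ⟨f, hf, h⟩ => ⟨f, hf, (isField_away_iff hf).1 h⟩,
    fun ⟨f, hf, h⟩ => ⟨f, hf, (isField_away_iff hf).2 h⟩⟩

theorem exists_of_finite {s : Set (Ideal B)} (hs : s.Finite) (hs0 : ∀ p ∈ s, p ≠ ⊥) :
    ∃ f : B, f ≠ 0 ∧ ∀ p ∈ s, f ∈ p := by
  classical
  choose! g hg using fun p (hp : p ∈ s) => Submodule.exists_mem_ne_zero_of_ne_bot (hs0 p hp)
  refine ⟨∏ p ∈ hs.toFinset, g p, ?_, ?_⟩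
  · rw [Finset.prod_ne_zero_iff]
    intro p hp
    exact (hg p (hs.mem_toFinset.1 hp)).2
  · intro p hp
    exact Ideal.mem_of_dvd _ (Finset.dvd_prod_of_mem g (hs.mem_toFinset.2 hp)) (hg p hp).1

/-- finitely many nonzero primes ⇒ some `f ≠ 0` lies in all of them -/
theorem exists_of_finite_primes (hs : {p : Ideal B | p.IsPrime ∧ p ≠ ⊥}.Finite) :
    ∃ f : B, f ≠ 0 ∧ ∀ p : Ideal B, p.IsPrime → p ≠ ⊥ → f ∈ p := by
  obtain ⟨f, hf, h⟩ := exists_of_finite hs (fun p hp => hp.2)
  exact ⟨f, hf, fun p hp hp0 => h p ⟨hp, hp0⟩⟩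

/-- Main lemma: in a Noetherian domain in which every nonzero prime contains `f ≠ 0`, every nonzero
prime is minimal over `(f)`. -/
theorem mem_minimalPrimes_span_of_forall_mem [IsNoetherianRing B] {f : B} (hf : f ≠ 0)
    (h : ∀ p : Ideal B, p.IsPrime → p ≠ ⊥ → f ∈ p) (p : Ideal B) [hp : p.IsPrime] (hp0 : p ≠ ⊥) :
    p ∈ (Ideal.span {f}).minimalPrimes := by
  classical
  by_contra hpmin
  have hfp : Ideal.span {f} ≤ p := (Ideal.span_singleton_le_iff_mem _).2 (h p hp hp0)
  have hfin := Ideal.finite_minimalPrimes_of_isNoetherianRing B (Ideal.span {f})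
  have hnle : ∀ q ∈ (Ideal.span {f}).minimalPrimes, ¬ p ≤ q := by
    intro q hq hpq
    have hqp : q ≤ p := hq.2 ⟨hp, hfp⟩ hpq
    exact hpmin ((le_antisymm hpq hqp) ▸ hq)
  have hav : ¬ ((p : Set B) ⊆ ⋃ q ∈ (hfin.toFinset : Set (Ideal B)), ((id q : Ideal B) : Set B)) := by
    rw [Ideal.subset_union_prime (f := id) ⊥ ⊥ (fun q hq _ _ => (hfin.mem_toFinset.1 hq).1.1)]
    rintro ⟨q, hq, hpq⟩
    exact hnle q (hfin.mem_toFinset.1 hq) hpq
  obtain ⟨g, hgp, hgq⟩ := Set.not_subset.1 hav
  have hgq'' : ∀ q ∈ (Ideal.span {f}).minimalPrimes, g ∉ q := by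
    intro q hq hgq1
    apply hgq
    simp only [Set.mem_iUnion]
    exact ⟨q, by simpa using hq, hgq1⟩
  have hgp' : Ideal.span {g} ≤ p := (Ideal.span_singleton_le_iff_mem _).2 hgp
  obtain ⟨q, hq, hqp⟩ := Ideal.exists_minimalPrimes_le hgp'
  haveI := hq.1.1
  have hq1 : q.height ≤ 1 := Ideal.height_le_one_of_isPrincipal_of_mem_minimalPrimes _ q hq
  have hgq' : g ∈ q := hq.1.2 (Ideal.mem_span_singleton_self g)
  have hg0 : g ≠ 0 := by
    rintro rfl
    obtain ⟨q', hq', _⟩ := Ideal.exists_minimalPrimes_le hfp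
    exact hgq'' q' hq' (Ideal.zero_mem q')
  have hq0 : q ≠ ⊥ := fun h0 => hg0 (by simpa [h0] using hgq')
  have hfq : Ideal.span {f} ≤ q := (Ideal.span_singleton_le_iff_mem _).2 (h q hq.1.1 hq0)
  obtain ⟨q', hq', hq'q⟩ := Ideal.exists_minimalPrimes_le hfq
  haveI := hq'.1.1
  have hq'0 : q' ≠ ⊥ := fun h0 =>
    hf (by simpa [h0] using hq'.1.2 (Ideal.mem_span_singleton_self f))
  have heq : q' = q := by
    by_contra hne
    have hlt : q' < q := lt_of_le_of_ne hq'q hne
    have hlt' := Ideal.height_strict_mono_of_isPrime hlt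
    have h0 : q'.height = 0 := ENat.lt_one_iff_eq_zero.1 (hlt'.trans_le hq1)
    exact hq'0 (Ideal.height_eq_zero_iff_eq_bot.1 h0)
  exact hgq'' q' hq' (heq ▸ hgq')

theorem finite_primeSpectrum_of_forall_mem [IsNoetherianRing B] {f : B} (hf : f ≠ 0)
    (h : ∀ p : Ideal B, p.IsPrime → p ≠ ⊥ → f ∈ p) : Finite (PrimeSpectrum B) := by
  have hfin := Ideal.finite_minimalPrimes_of_isNoetherianRing B (Ideal.span {f})
  have hsub : (Set.univ : Set (PrimeSpectrum B)) ⊆
      PrimeSpectrum.asIdeal ⁻¹' (insert ⊥ (Ideal.span {f}).minimalPrimes) := by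
    intro q _
    by_cases hq : q.asIdeal = ⊥
    · exact Or.inl hq
    · exact Or.inr (mem_minimalPrimes_span_of_forall_mem hf h q.asIdeal hq)
  have hfin2 : (PrimeSpectrum.asIdeal ⁻¹' (insert ⊥ (Ideal.span {f}).minimalPrimes)).Finite :=
    (hfin.insert ⊥).preimage (fun a _ b _ hab => PrimeSpectrum.ext hab)
  exact Set.finite_univ_iff.1 (hfin2.subset hsub)

theorem ringKrullDim_le_one_of_forall_mem [IsNoetherianRing B] {f : B} (hf : f ≠ 0)
    (h : ∀ p : Ideal B, p.IsPrime → p ≠ ⊥ → f ∈ p) : ringKrullDim B ≤ 1 := by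
  rw [ringKrullDim_le_iff_height_le]
  intro p hp
  by_cases hp0 : p = ⊥
  · subst hp0
    rw [Ideal.height_bot]
    exact_mod_cast zero_le_one
  · have := Ideal.height_le_one_of_isPrincipal_of_mem_minimalPrimes _ p
      (mem_minimalPrimes_span_of_forall_mem hf h p hp0)
    exact_mod_cast this

/-- if `B_f` is a field then `Frac B` is a finitely generated `B`-algebra -/
theorem finiteType_fractionRing_of_isField_away {f : B} (hf : f ≠ 0)
    (hF : IsField (Localization.Away f)) : Algebra.FiniteType B (FractionRing B) := by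
  have hinj := away_injective hf
  haveI : IsFractionRing B (Localization.Away f) := by
    refine IsLocalization.of_le (M := Submonoid.powers f) (nonZeroDivisors B)
      (powers_le_nonZeroDivisors_of_noZeroDivisors hf) ?_
    intro r hr
    have hr0 : algebraMap B (Localization.Away f) r ≠ 0 := by
      rw [Ne, map_eq_zero_iff _ hinj]
      exact nonZeroDivisors.ne_zero hr
    obtain ⟨y, hy⟩ := hF.mul_inv_cancel hr0
    exact IsUnit.of_mul_eq_one y hy
  have e : Localization.Away f ≃ₐ[B] FractionRing B :=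
    IsLocalization.algEquiv (nonZeroDivisors B) _ _
  haveI : Algebra.FinitePresentation B (Localization.Away f) :=
    IsLocalization.Away.finitePresentation f
  exact Algebra.FiniteType.equiv inferInstance e

/-- A field which is a finitely generated algebra over a subdomain `B`: then `B_f` is a field
for some `f ≠ 0`. -/
theorem exists_away_isField_of_finiteType_field (K : Type*) [Field K] [Algebra B K]
    (hinj : Function.Injective (algebraMap B K)) [hft : Algebra.FiniteType B K] :
    ∃ f : B, f ≠ 0 ∧ IsField (Localization.Away f) := by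
  classical
  letI : Algebra (FractionRing B) K := (IsFractionRing.lift hinj).toAlgebra
  haveI : IsScalarTower B (FractionRing B) K :=
    IsScalarTower.of_algebraMap_eq (fun x => (IsFractionRing.lift_algebraMap hinj x).symm)
  haveI : Algebra.FiniteType (FractionRing B) K :=
    Algebra.FiniteType.of_restrictScalars_finiteType B (FractionRing B) K
  haveI : Module.Finite (FractionRing B) K := finite_of_finite_type_of_isJacobsonRing _ K
  haveI : Algebra.IsAlgebraic (FractionRing B) K := Algebra.IsAlgebraic.of_finite _ K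
  haveI : Algebra.IsAlgebraic B K :=
    (IsFractionRing.comap_isAlgebraic_iff (A := B) (K := FractionRing B) (C := K)).2 ‹_›
  obtain ⟨s, hs⟩ := hft.out
  have hp : ∀ x : K, ∃ p : Polynomial B, p ≠ 0 ∧ Polynomial.aeval x p = 0 :=
    fun x => Algebra.IsAlgebraic.isAlgebraic x
  choose p hp0 hpx using hp
  let f : B := ∏ x ∈ s, (p x).leadingCoeff
  have hf : f ≠ 0 :=
    Finset.prod_ne_zero_iff.2 (fun x _ => Polynomial.leadingCoeff_ne_zero.2 (hp0 x))
  refine ⟨f, hf, ?_⟩
  have hfu : ∀ y : Submonoid.powers f, IsUnit (algebraMap B K y) := by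
    rintro ⟨_, n, rfl⟩
    rw [map_pow]
    exact (IsUnit.mk0 _ ((map_ne_zero_iff _ hinj).2 hf)).pow n
  letI : Algebra (Localization.Away f) K := (IsLocalization.lift hfu).toAlgebra
  haveI : IsScalarTower B (Localization.Away f) K :=
    IsScalarTower.of_algebraMap_eq (fun x => (IsLocalization.lift_eq hfu x).symm)
  have hint : ∀ x ∈ s, IsIntegral (Localization.Away f) x := by
    intro x hx
    have h1 : IsIntegral B ((p x).leadingCoeff • x) := isIntegral_leadingCoeff_smul (p x) x (hpx x)
    have h2 : IsIntegral (Localization.Away f) ((p x).leadingCoeff • x) := h1.tower_top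
    have hu : IsUnit (algebraMap B (Localization.Away f) (p x).leadingCoeff) := by
      have hdvd : (p x).leadingCoeff ∣ f := Finset.dvd_prod_of_mem _ hx
      exact isUnit_of_dvd_unit ((algebraMap B (Localization.Away f)).map_dvd hdvd)
        (IsLocalization.Away.algebraMap_isUnit f)
    obtain ⟨u, hu'⟩ := hu
    have hx' : x = (↑u⁻¹ : Localization.Away f) • ((p x).leadingCoeff • x) := by
      rw [← algebraMap_smul (Localization.Away f) (p x).leadingCoeff x, ← hu', smul_smul,
        Units.inv_mul, one_smul]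
    rw [hx']
    exact h2.smul _
  haveI : Algebra.IsIntegral (Localization.Away f) K := by
    have hle : Algebra.adjoin B (s : Set K) ≤
        (integralClosure (Localization.Away f) K).restrictScalars B :=
      Algebra.adjoin_le (fun x hx => hint x hx)
    rw [hs] at hle
    exact ⟨fun x => hle Algebra.mem_top⟩
  have hinj' : Function.Injective (algebraMap (Localization.Away f) K) := by
    show Function.Injective (IsLocalization.lift hfu)
    rw [IsLocalization.lift_injective_iff]
    intro a b
    rw [(away_injective hf).eq_iff, hinj.eq_iff]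
  exact isField_of_isIntegral_of_isField hinj' (Field.toIsField K)

end Domain

end Groth.Agent.Lib.GDomain
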