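import Mathlib
import Groth.Agent.Lib.GDomain_helper6

/-!
# G-domain type finiteness for Noetherian rings/schemes (helper6)
If `{x}` is open in its closure (in a Noetherian scheme) then the closure of `x` is finite and
of dimension ≤ 1.
-/

set_option autoImplicit false

namespace Groth.Agent.Lib.GDomain

open AlgebraicGeometry CategoryTheory TopologicalSpace

section Ring
variable {A : Type*} [CommRing A]

theorem quot_forall_mem (p : Ideal A) [p.IsPrime] (g : A)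
    (h : ∀ q : Ideal A, q.IsPrime → p < q → g ∈ q) :
    ∀ 𝔮 : Ideal (A ⧸ p), 𝔮.IsPrime → 𝔮 ≠ ⊥ → Ideal.Quotient.mk p g ∈ 𝔮 := by
  intro 𝔮 h𝔮 h𝔮0
  have hlt : p < 𝔮.comap (Ideal.Quotient.mk p) := by
    refine lt_of_le_of_ne ?_ ?_
    · intro a ha
      show Ideal.Quotient.mk p a ∈ 𝔮
      rw [Ideal.Quotient.eq_zero_iff_mem.2 ha]
      exact 𝔮.zero_mem
    · intro heq
      apply h𝔮0
      rw [← Ideal.map_comap_of_surjective (Ideal.Quotient.mk p) Ideal.Quotient.mk_surjective 𝔮,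
        ← heq, Ideal.map_quotient_self]
  exact h _ (Ideal.comap_isPrime _ _) hlt

theorem finite_primes_ge [IsNoetherianRing A] (p : Ideal A) [hp : p.IsPrime] (g : A) (hg : g ∉ p)
    (h : ∀ q : Ideal A, q.IsPrime → p < q → g ∈ q) :
    {q : PrimeSpectrum A | p ≤ q.asIdeal}.Finite := by
  have hf : Ideal.Quotient.mk p g ≠ 0 := by rwa [Ne, Ideal.Quotient.eq_zero_iff_mem]
  haveI := finite_primeSpectrum_of_forall_mem hf (quot_forall_mem p g h)
  have hsub : {q : PrimeSpectrum A | p ≤ q.asIdeal} ⊆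
      Set.range (PrimeSpectrum.comap (Ideal.Quotient.mk p)) := by
    rw [_root_.range_comap_of_surjective _ _ Ideal.Quotient.mk_surjective, Ideal.mk_ker]
    intro q hq
    exact hq
  exact (Set.finite_range _).subset hsub

theorem eq_of_lt_of_le [IsNoetherianRing A] (p : Ideal A) [hp : p.IsPrime] (g : A) (hg : g ∉ p)
    (h : ∀ q : Ideal A, q.IsPrime → p < q → g ∈ q) {q₁ q₂ : Ideal A} [q₁.IsPrime] [q₂.IsPrime]
    (h1 : p < q₁) (h2 : q₁ ≤ q₂) : q₁ = q₂ := by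
  have hf : Ideal.Quotient.mk p g ≠ 0 := by rwa [Ne, Ideal.Quotient.eq_zero_iff_mem]
  have h' := quot_forall_mem p g h
  have hq1 : (q₁.map (Ideal.Quotient.mk p)).IsPrime :=
    Ideal.map_isPrime_of_surjective Ideal.Quotient.mk_surjective (by rw [Ideal.mk_ker]; exact h1.le)
  have hq2 : (q₂.map (Ideal.Quotient.mk p)).IsPrime :=
    Ideal.map_isPrime_of_surjective Ideal.Quotient.mk_surjective
      (by rw [Ideal.mk_ker]; exact h1.le.trans h2)
  have hq10 : q₁.map (Ideal.Quotient.mk p) ≠ ⊥ := by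
    rw [Ne, Ideal.map_eq_bot_iff_le_ker, Ideal.mk_ker]
    exact not_le_of_gt h1
  have hq20 : q₂.map (Ideal.Quotient.mk p) ≠ ⊥ := by
    rw [Ne, Ideal.map_eq_bot_iff_le_ker, Ideal.mk_ker]
    exact not_le_of_gt (h1.trans_le h2)
  have hm₂ := mem_minimalPrimes_span_of_forall_mem hf h' (q₂.map (Ideal.Quotient.mk p)) hq20
  have hle : q₂.map (Ideal.Quotient.mk p) ≤ q₁.map (Ideal.Quotient.mk p) :=
    hm₂.2 ⟨hq1, (Ideal.span_singleton_le_iff_mem _).2 (h' _ hq1 hq10)⟩ (Ideal.map_mono h2)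
  refine le_antisymm h2 ?_
  calc q₂ ≤ (q₂.map (Ideal.Quotient.mk p)).comap (Ideal.Quotient.mk p) := Ideal.le_comap_map
    _ ≤ (q₁.map (Ideal.Quotient.mk p)).comap (Ideal.Quotient.mk p) := Ideal.comap_mono hle
    _ = q₁ := by
      rw [Ideal.comap_map_of_surjective _ Ideal.Quotient.mk_surjective,
        ← RingHom.ker_eq_comap_bot, Ideal.mk_ker, sup_eq_left]
      exact h1.le

theorem exists_of_finite_primes_gt (p : Ideal A) [hp : p.IsPrime]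
    (hfin : {q : Ideal A | q.IsPrime ∧ p < q}.Finite) :
    ∃ g : A, g ∉ p ∧ ∀ q : Ideal A, q.IsPrime → p < q → g ∈ q := by
  classical
  have hex : ∀ q ∈ {q : Ideal A | q.IsPrime ∧ p < q}, ∃ a, a ∈ q ∧ a ∉ p :=
    fun q hq => SetLike.exists_of_lt hq.2
  choose! a ha using hex
  refine ⟨∏ q ∈ hfin.toFinset, a q, ?_, ?_⟩
  · intro hmem
    obtain ⟨q, hq, hq'⟩ := Ideal.IsPrime.prod_mem_iff.1 hmem
    exact (ha q (hfin.mem_toFinset.1 hq)).2 hq'
  · intro q hq hpq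
    exact Ideal.mem_of_dvd _ (Finset.dvd_prod_of_mem a (hfin.mem_toFinset.2 ⟨hq, hpq⟩))
      (ha q ⟨hq, hpq⟩).1

theorem exists_of_isOpen (p : PrimeSpectrum A) (W : Set (PrimeSpectrum A)) (hW : IsOpen W)
    (hpW : p ∈ W) (h : W ∩ PrimeSpectrum.zeroLocus (p.asIdeal : Set A) ⊆ {p}) :
    ∃ g : A, g ∉ p.asIdeal ∧ ∀ q : Ideal A, q.IsPrime → p.asIdeal < q → g ∈ q := by
  obtain ⟨_, ⟨g, rfl⟩, hg1, hg2⟩ :=
    PrimeSpectrum.isTopologicalBasis_basic_opens.exists_subset_of_mem_open hpW hW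
  refine ⟨g, hg1, fun q hq hpq => ?_⟩
  by_contra hgq
  have hmem : (⟨q, hq⟩ : PrimeSpectrum A) ∈ ({p} : Set _) :=
    h ⟨hg2 hgq, (PrimeSpectrum.mem_zeroLocus _ _).2 hpq.le⟩
  have heq : q = p.asIdeal := congrArg PrimeSpectrum.asIdeal (Set.mem_singleton_iff.1 hmem)
  exact hpq.ne' heq

end Ring

section Scheme
universe u
variable {X : Scheme.{u}}

theorem primeIdealOf_le_iff {U : X.Opens} (hU : IsAffineOpen U) {a b : X} (ha : a ∈ U)
    (hb : b ∈ U) :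
    (hU.primeIdealOf ⟨a, ha⟩).asIdeal ≤ (hU.primeIdealOf ⟨b, hb⟩).asIdeal ↔ a ⤳ b := by
  have h1 : (hU.primeIdealOf ⟨a, ha⟩).asIdeal ≤ (hU.primeIdealOf ⟨b, hb⟩).asIdeal ↔
      hU.primeIdealOf ⟨a, ha⟩ ⤳ hU.primeIdealOf ⟨b, hb⟩ :=
    PrimeSpectrum.le_iff_specializes _ _
  rw [h1]
  have h2 := hU.fromSpec.isOpenEmbedding.isInducing.specializes_iff
    (x := hU.primeIdealOf ⟨a, ha⟩) (y := hU.primeIdealOf ⟨b, hb⟩)
  rw [hU.fromSpec_primeIdealOf, hU.fromSpec_primeIdealOf] at h2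
  exact h2.symm

variable [IsLocallyNoetherian X]

theorem exists_of_affineOpen {x : X} {V : Set X} (hV : IsOpen V) (hxV : x ∈ V)
    (hcl : closure {x} ∩ V ⊆ {x}) {U : X.Opens} (hU : IsAffineOpen U) (hxU : x ∈ U) :
    ∃ g : Γ(X, U), g ∉ (hU.primeIdealOf ⟨x, hxU⟩).asIdeal ∧
      ∀ q : Ideal Γ(X, U), q.IsPrime → (hU.primeIdealOf ⟨x, hxU⟩).asIdeal < q → g ∈ q := by
  apply exists_of_isOpen (hU.primeIdealOf ⟨x, hxU⟩) (hU.fromSpec ⁻¹' V)
    (hV.preimage hU.fromSpec.continuous)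
  · show hU.fromSpec (hU.primeIdealOf ⟨x, hxU⟩) ∈ V
    rw [hU.fromSpec_primeIdealOf]
    exact hxV
  · rintro q ⟨hqV, hq⟩
    have hspec : hU.primeIdealOf ⟨x, hxU⟩ ⤳ q :=
      (PrimeSpectrum.le_iff_specializes _ _).1 ((PrimeSpectrum.mem_zeroLocus _ _).1 hq)
    have h2 : hU.fromSpec (hU.primeIdealOf ⟨x, hxU⟩) ⤳ hU.fromSpec q :=
      hspec.map hU.fromSpec.continuous
    rw [hU.fromSpec_primeIdealOf] at h2
    have h3 : hU.fromSpec q ∈ closure {x} ∩ V := ⟨h2.mem_closure, hqV⟩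
    have h4 : hU.fromSpec q = x := hcl h3
    apply hU.fromSpec.isOpenEmbedding.injective
    rw [h4, hU.fromSpec_primeIdealOf]

theorem finite_closure_inter_affine {x : X} {V : Set X} (hV : IsOpen V) (hxV : x ∈ V)
    (hcl : closure {x} ∩ V ⊆ {x}) {U : X.Opens} (hU : IsAffineOpen U) :
    (closure {x} ∩ (U : Set X)).Finite := by
  by_cases hxU : x ∈ U
  · haveI : IsNoetherianRing Γ(X, U) := IsLocallyNoetherian.component_noetherian ⟨U, hU⟩
    obtain ⟨g, hg, h⟩ := exists_of_affineOpen hV hxV hcl hU hxU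
    haveI := (hU.primeIdealOf ⟨x, hxU⟩).2
    have hfin := finite_primes_ge (hU.primeIdealOf ⟨x, hxU⟩).asIdeal g hg h
    refine (hfin.image hU.fromSpec).subset ?_
    rintro y ⟨hy, hyU⟩
    refine ⟨hU.primeIdealOf ⟨y, hyU⟩, ?_, hU.fromSpec_primeIdealOf ⟨y, hyU⟩⟩
    exact (primeIdealOf_le_iff hU hxU hyU).2 (specializes_iff_mem_closure.2 hy)
  · convert Set.finite_empty
    rw [Set.eq_empty_iff_forall_notMem]
    rintro y ⟨hy, hyU⟩
    exact hxU ((specializes_iff_mem_closure.2 hy).mem_open U.2 hyU)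

theorem finite_closure_of_isCompact [CompactSpace X] {x : X} {V : Set X} (hV : IsOpen V)
    (hxV : x ∈ V) (hcl : closure {x} ∩ V ⊆ {x}) : (closure ({x} : Set X)).Finite := by
  have hex : ∀ y : X, ∃ U : X.Opens, IsAffineOpen U ∧ y ∈ U := fun y => by
    obtain ⟨U, hU, hyU, -⟩ :=
      Opens.isBasis_iff_nbhd.mp X.isBasis_affineOpens (Opens.mem_top y)
    exact ⟨U, hU, hyU⟩
  choose U hU hyU using hex
  obtain ⟨t, -, ht⟩ := isCompact_univ.elim_nhds_subcover (fun y => (U y : Set X))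
    (fun y _ => (U y).2.mem_nhds (hyU y))
  have hsub : closure ({x} : Set X) ⊆ ⋃ y ∈ t, closure {x} ∩ (U y : Set X) := by
    intro z hz
    obtain ⟨y, hy, hzy⟩ := Set.mem_iUnion₂.1 (ht (Set.mem_univ z))
    exact Set.mem_iUnion₂.2 ⟨y, hy, hz, hzy⟩
  exact (Set.Finite.biUnion t.finite_toSet
    (fun y _ => finite_closure_inter_affine hV hxV hcl (hU y))).subset hsub

theorem eq_of_specializes {x : X} {V : Set X} (hV : IsOpen V) (hxV : x ∈ V)
    (hcl : closure {x} ∩ V ⊆ {x}) {y₁ y₂ : X} (h1 : x ⤳ y₁) (hne : x ≠ y₁) (h2 : y₁ ⤳ y₂) :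
    y₁ = y₂ := by
  obtain ⟨U, hU, hyU, -⟩ :=
    Opens.isBasis_iff_nbhd.mp X.isBasis_affineOpens (Opens.mem_top y₂)
  have hy1U : y₁ ∈ U := h2.mem_open U.2 hyU
  have hxU : x ∈ U := h1.mem_open U.2 hy1U
  haveI : IsNoetherianRing Γ(X, U) := IsLocallyNoetherian.component_noetherian ⟨U, hU⟩
  obtain ⟨g, hg, h⟩ := exists_of_affineOpen hV hxV hcl hU hxU
  haveI := (hU.primeIdealOf ⟨x, hxU⟩).2
  haveI := (hU.primeIdealOf ⟨y₁, hy1U⟩).2
  haveI := (hU.primeIdealOf ⟨y₂, hyU⟩).2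
  have hle1 := (primeIdealOf_le_iff hU hxU hy1U).2 h1
  have hle2 := (primeIdealOf_le_iff hU hy1U hyU).2 h2
  have hlt : (hU.primeIdealOf ⟨x, hxU⟩).asIdeal < (hU.primeIdealOf ⟨y₁, hy1U⟩).asIdeal := by
    refine lt_of_le_of_ne hle1 (fun heq => hne ?_)
    have e : hU.primeIdealOf ⟨x, hxU⟩ = hU.primeIdealOf ⟨y₁, hy1U⟩ := PrimeSpectrum.ext heq
    calc x = hU.fromSpec (hU.primeIdealOf ⟨x, hxU⟩) := (hU.fromSpec_primeIdealOf ⟨x, hxU⟩).symm
      _ = hU.fromSpec (hU.primeIdealOf ⟨y₁, hy1U⟩) := by rw [e]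
      _ = y₁ := hU.fromSpec_primeIdealOf ⟨y₁, hy1U⟩
  have heq := eq_of_lt_of_le _ g hg h hlt hle2
  have e : hU.primeIdealOf ⟨y₁, hy1U⟩ = hU.primeIdealOf ⟨y₂, hyU⟩ := PrimeSpectrum.ext heq
  calc y₁ = hU.fromSpec (hU.primeIdealOf ⟨y₁, hy1U⟩) :=
        (hU.fromSpec_primeIdealOf ⟨y₁, hy1U⟩).symm
    _ = hU.fromSpec (hU.primeIdealOf ⟨y₂, hyU⟩) := by rw [e]
    _ = y₂ := hU.fromSpec_primeIdealOf ⟨y₂, hyU⟩

end Scheme

end Groth.Agent.Lib.GDomain
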