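import Mathlib
import Groth.Agent.Lib.GDomainSch_helper6

/-!
# Finite type points of schemes (helper9)
-/

set_option autoImplicit false

open AlgebraicGeometry CategoryTheory TopologicalSpace

namespace Groth.Agent.Lib.FtPts

universe u

/-- A closed point of an affine open is a finite type point. -/
theorem loft_of_isClosed {S : Scheme.{u}} (s : S) (U : S.Opens) (hs : s ∈ U)
    (hcl : IsClosed ({⟨s, hs⟩} : Set ↥U)) : LocallyOfFiniteType (S.fromSpecResidueField s) := by
  set g := S.fromSpecResidueField s with hg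
  have hrange : Set.range g ⊆ Set.range U.ι := by
    rw [Scheme.range_fromSpecResidueField, Scheme.Opens.range_ι]
    simpa using hs
  set l := IsOpenImmersion.lift U.ι g hrange with hl
  have hfac : l ≫ U.ι = g := IsOpenImmersion.lift_fac _ _ _
  haveI : IsPreimmersion (l ≫ U.ι) := by rw [hfac]; infer_instance
  haveI : IsPreimmersion l := IsPreimmersion.of_comp l U.ι
  have hrl : Set.range l = {⟨s, hs⟩} := by
    ext y
    constructor
    · rintro ⟨z, rfl⟩
      have : U.ι (l z) = s := by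
        rw [← Scheme.Hom.comp_apply, hfac]; exact Scheme.fromSpecResidueField_apply _ _
      exact Subtype.ext this
    · rintro rfl
      obtain ⟨z⟩ : Nonempty (Spec (S.residueField s)) := inferInstance
      refine ⟨z, Subtype.ext ?_⟩
      show U.ι (l z) = s
      rw [← Scheme.Hom.comp_apply, hfac]; exact Scheme.fromSpecResidueField_apply _ _
  haveI : IsClosedImmersion l := IsClosedImmersion.of_isPreimmersion l (by rw [hrl]; exact hcl)
  rw [← hfac]
  infer_instance

/-- If `a ∉ 𝔭_s` lies in every prime strictly containing `𝔭_s`, then `s` is closed in `D(a)`. -/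
theorem isClosed_in_basicOpen {S : Scheme.{u}} {U : S.Opens} (hU : IsAffineOpen U) (s : S)
    (hs : s ∈ U) (a : Γ(S, U)) (ha : a ∉ (hU.primeIdealOf ⟨s, hs⟩).asIdeal)
    (h : ∀ q : Ideal Γ(S, U), q.IsPrime → (hU.primeIdealOf ⟨s, hs⟩).asIdeal < q → a ∈ q) :
    ∃ hs' : s ∈ S.basicOpen a, IsClosed ({⟨s, hs'⟩} : Set ↥(S.basicOpen a)) := by
  have hmem : ∀ (y : S) (hy : y ∈ U), y ∈ S.basicOpen a ↔ a ∉ (hU.primeIdealOf ⟨y, hy⟩).asIdeal := by
    intro y hy
    have h1 : hU.fromSpec (hU.primeIdealOf ⟨y, hy⟩) = y := hU.fromSpec_primeIdealOf ⟨y, hy⟩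
    have h2 := hU.fromSpec_preimage_basicOpen a
    have h3 : hU.primeIdealOf ⟨y, hy⟩ ∈ hU.fromSpec ⁻¹ᵁ S.basicOpen a ↔
        a ∉ (hU.primeIdealOf ⟨y, hy⟩).asIdeal := by rw [h2]; exact Iff.rfl
    rw [← h3]
    show _ ↔ hU.fromSpec (hU.primeIdealOf ⟨y, hy⟩) ∈ S.basicOpen a
    rw [h1]
  have hs' : s ∈ S.basicOpen a := (hmem s hs).mpr ha
  refine ⟨hs', ?_⟩
  rw [Topology.IsInducing.subtypeVal.isClosed_iff]
  refine ⟨closure {s}, isClosed_closure, ?_⟩
  ext ⟨y, hy⟩
  simp only [Set.mem_preimage, Set.mem_singleton_iff, Subtype.mk.injEq]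
  constructor
  · intro hys
    have hyU : y ∈ U := S.basicOpen_le a hy
    have hsy : s ⤳ y := specializes_iff_mem_closure.mpr hys
    have hle := (Groth.Agent.Lib.GDomain.primeIdealOf_le_iff hU hs hyU).mpr hsy
    have hay := (hmem y hyU).mp hy
    by_contra hne
    have hlt : (hU.primeIdealOf ⟨s, hs⟩).asIdeal < (hU.primeIdealOf ⟨y, hyU⟩).asIdeal := by
      refine lt_of_le_of_ne hle fun heq => hne ?_
      have : hU.primeIdealOf ⟨s, hs⟩ = hU.primeIdealOf ⟨y, hyU⟩ := PrimeSpectrum.ext heq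
      have h1 := hU.fromSpec_primeIdealOf ⟨s, hs⟩
      have h2 := hU.fromSpec_primeIdealOf ⟨y, hyU⟩
      rw [this] at h1
      exact h2.symm.trans h1
    exact hay (h _ (hU.primeIdealOf ⟨y, hyU⟩).2 hlt)
  · rintro rfl
    exact subset_closure rfl

/-- The image point of a morphism locally of finite type from the spectrum of a field is closed in
some affine open neighbourhood. -/
theorem exists_affine_isClosed_of_loft {S : Scheme.{u}} (R : CommRingCat.{u}) (hR : IsField R)
    (h : Spec R ⟶ S) [LocallyOfFiniteType h] (x : Spec R) :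
    ∃ U : S.Opens, IsAffineOpen U ∧ ∃ hs : h x ∈ U, IsClosed ({⟨h x, hs⟩} : Set ↥U) := by
  set s := h x with hsdef
  obtain ⟨_, ⟨U, hU : IsAffineOpen U, rfl⟩, hsU, -⟩ :=
    S.isBasis_affineOpens.exists_subset_of_mem_open (Set.mem_univ s) isOpen_univ
  letI : Field R := hR.toField
  haveI : Subsingleton (Spec R) := inferInstanceAs (Subsingleton (PrimeSpectrum R))
  have hall : ∀ z : Spec R, h z = s := fun z => by rw [Subsingleton.elim z x]
  have e : (⊤ : (Spec R).Opens) ≤ h ⁻¹ᵁ U := fun z _ => by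
    show h z ∈ U
    rw [hall z]; exact hsU
  set φ := h.appLE U ⊤ e with hφ
  have hft : φ.hom.FiniteType := h.finiteType_appLE hU (isAffineOpen_top _) e
  have hKf : IsField Γ(Spec R, ⊤) :=
    MulEquiv.isField hR (Scheme.ΓSpecIso R).commRingCatIsoToRingEquiv.toMulEquiv
  letI : Field Γ(Spec R, ⊤) := hKf.toField
  -- the prime ideal of `s` is `ker φ`
  have hker : (hU.primeIdealOf ⟨s, hsU⟩).asIdeal = RingHom.ker φ.hom := by
    have hcomm := IsAffineOpen.SpecMap_appLE_fromSpec h hU (isAffineOpen_top (Spec R)) e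
    obtain ⟨x'⟩ : Nonempty (Spec Γ(Spec R, ⊤)) :=
      inferInstanceAs (Nonempty (PrimeSpectrum Γ(Spec R, ⊤)))
    have h1 : hU.fromSpec (Spec.map φ x') = s := by
      rw [← Scheme.Hom.comp_apply, hcomm, Scheme.Hom.comp_apply, hall]
    have h2 : hU.fromSpec (hU.primeIdealOf ⟨s, hsU⟩) = s := hU.fromSpec_primeIdealOf ⟨s, hsU⟩
    have h3 : hU.primeIdealOf ⟨s, hsU⟩ = Spec.map φ x' :=
      hU.fromSpec.isOpenEmbedding.injective (h2.trans h1.symm)
    rw [h3]
    have hx' : (x' : PrimeSpectrum Γ(Spec R, ⊤)).asIdeal = ⊥ := by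
      rcases Ideal.eq_bot_or_top (x' : PrimeSpectrum Γ(Spec R, ⊤)).asIdeal with h | h
      · exact h
      · exact absurd h (x' : PrimeSpectrum Γ(Spec R, ⊤)).2.ne_top
    show Ideal.comap φ.hom (x' : PrimeSpectrum Γ(Spec R, ⊤)).asIdeal = _
    rw [hx']
    rfl
  set p := RingHom.ker φ.hom with hp
  haveI : p.IsPrime := RingHom.ker_isPrime φ.hom
  letI : Algebra Γ(S, U) Γ(Spec R, ⊤) := φ.hom.toAlgebra
  letI : Algebra (Γ(S, U) ⧸ p) Γ(Spec R, ⊤) := (RingHom.kerLift φ.hom).toAlgebra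
  haveI : IsScalarTower Γ(S, U) (Γ(S, U) ⧸ p) Γ(Spec R, ⊤) :=
    IsScalarTower.of_algebraMap_eq (fun a => rfl)
  haveI : Algebra.FiniteType Γ(S, U) Γ(Spec R, ⊤) := hft
  haveI : Algebra.FiniteType (Γ(S, U) ⧸ p) Γ(Spec R, ⊤) :=
    Algebra.FiniteType.of_restrictScalars_finiteType Γ(S, U) _ _
  obtain ⟨f, hf0, hfF⟩ := Groth.Agent.Lib.GDomain.exists_away_isField_of_finiteType_field
    (B := Γ(S, U) ⧸ p) Γ(Spec R, ⊤) (RingHom.kerLift_injective φ.hom)
  obtain ⟨a, rfl⟩ := Ideal.Quotient.mk_surjective f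
  have hap : a ∉ p := fun hmem => hf0 (Ideal.Quotient.eq_zero_iff_mem.mpr hmem)
  have hall' := (Groth.Agent.Lib.GDomain.isField_away_iff hf0).mp hfF
  have key : ∀ q : Ideal Γ(S, U), q.IsPrime → (hU.primeIdealOf ⟨s, hsU⟩).asIdeal < q → a ∈ q := by
    intro q hq hlt
    rw [hker] at hlt
    have hq' : (q.map (Ideal.Quotient.mk p)).IsPrime :=
      Ideal.map_isPrime_of_surjective Ideal.Quotient.mk_surjective (by rw [Ideal.mk_ker]; exact hlt.le)
    have hne : q.map (Ideal.Quotient.mk p) ≠ ⊥ := by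
      intro hbot
      obtain ⟨b, hbq, hbp⟩ := SetLike.exists_of_lt hlt
      have : Ideal.Quotient.mk p b ∈ q.map (Ideal.Quotient.mk p) := Ideal.mem_map_of_mem _ hbq
      rw [hbot, Ideal.mem_bot, Ideal.Quotient.eq_zero_iff_mem] at this
      exact hbp this
    have hmem := hall' _ hq' hne
    have hcm : Ideal.comap (Ideal.Quotient.mk p) (q.map (Ideal.Quotient.mk p)) = q := by
      rw [Ideal.comap_map_of_surjective _ Ideal.Quotient.mk_surjective, ← RingHom.ker_eq_comap_bot,
        Ideal.mk_ker, sup_eq_left]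
      exact hlt.le
    rw [← hcm]
    exact hmem
  obtain ⟨hs', hcl⟩ := isClosed_in_basicOpen hU s hsU a (by rw [hker]; exact hap) key
  exact ⟨S.basicOpen a, hU.basicOpen a, hs', hcl⟩

/-- Every nonempty locally closed subset contains a finite type point. -/
theorem exists_ft_point_of_isLocallyClosed (S : Scheme.{u}) (Z : Set S) (hZ : IsLocallyClosed Z)
    (hne : Z.Nonempty) :
    (Z ∩ {s : S | LocallyOfFiniteType (S.fromSpecResidueField s)}).Nonempty := by
  obtain ⟨O, C, hO, hC, rfl⟩ := hZ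
  obtain ⟨z, hzO, hzC⟩ := hne
  obtain ⟨_, ⟨V, hV : IsAffineOpen V, rfl⟩, hzV, hVO⟩ :=
    S.isBasis_affineOpens.exists_subset_of_mem_open hzO hO
  haveI : CompactSpace ↥V := isCompact_iff_compactSpace.mp hV.isCompact
  have hcl : IsClosed ((↑) ⁻¹' C : Set ↥V) := hC.preimage continuous_subtype_val
  obtain ⟨x, hxC, hx⟩ := hcl.exists_closed_singleton ⟨⟨z, hzV⟩, hzC⟩
  exact ⟨x.1, ⟨hVO x.2, hxC⟩, loft_of_isClosed x.1 V x.2 hx⟩

/-- For a field `R`, the canonical map `Spec κ(x) ⟶ Spec R` is an isomorphism. -/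
theorem isIso_fromSpecResidueField_of_isField (R : CommRingCat.{u}) (hR : IsField R) (x : Spec R) :
    IsIso ((Spec R).fromSpecResidueField x) := by
  letI : Field R := hR.toField
  haveI : Subsingleton (Spec R) := inferInstanceAs (Subsingleton (PrimeSpectrum R))
  haveI : IsClosedImmersion ((Spec R).fromSpecResidueField x) :=
    isClosed_singleton_iff_isClosedImmersion.mp (Set.subsingleton_singleton.isClosed)
  haveI : Surjective ((Spec R).fromSpecResidueField x) := ⟨fun y => by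
    obtain ⟨z⟩ : Nonempty (Spec ((Spec R).residueField x)) := inferInstance
    exact ⟨z, Subsingleton.elim _ _⟩⟩
  haveI : IsReduced (Spec R) := by
    haveI : IsReduced R := inferInstance
    infer_instance
  exact isIso_of_isClosedImmersion_of_surjective _

end Groth.Agent.Lib.FtPts
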