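import Mathlib
import Groth.Agent.Lib.FunFldGeomC_helper2

/-! Geometric function fields (helper2), part D: the product rule for Hasse derivatives of
Laurent series; expansions of Hasse derivatives. -/

open Module

namespace FunFld

universe u v w

section LaurentHasse

variable {F : Type*} [CommRing F]

theorem laurent_coeff_mul_Icc (f g : LaurentSeries F) (N₁ N₂ : ℤ)
    (h₁ : ∀ i < N₁, f.coeff i = 0) (h₂ : ∀ i < N₂, g.coeff i = 0) (a : ℤ) :
    (f * g).coeff a = ∑ i ∈ Finset.Icc N₁ (a - N₂), f.coeff i * g.coeff (a - i) := by
  classical
  rw [HahnSeries.coeff_mul]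
  let emb : ℤ ↪ ℤ × ℤ := ⟨fun i => (i, a - i), fun i j h => (Prod.mk.inj h).1⟩
  have hmap : ∑ i ∈ Finset.Icc N₁ (a - N₂), f.coeff i * g.coeff (a - i) =
      ∑ p ∈ (Finset.Icc N₁ (a - N₂)).map emb, f.coeff p.1 * g.coeff p.2 := by
    rw [Finset.sum_map]
    rfl
  rw [hmap]
  apply Finset.sum_subset
  · intro p hp
    rw [Finset.mem_antidiagonal] at hp
    obtain ⟨hp1, hp2, hp3⟩ := hp
    rw [Finset.mem_map]
    refine ⟨p.1, ?_, ?_⟩
    · rw [Finset.mem_Icc]
      constructor
      · by_contra hlt
        push Not at hlt
        exact hp1 (h₁ _ hlt)
      · by_contra hlt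
        push Not at hlt
        apply hp2
        apply h₂
        omega
    · show (p.1, a - p.1) = p
      apply Prod.ext
      · rfl
      · show a - p.1 = p.2
        omega
  · intro p hp hnp
    rw [Finset.mem_map] at hp
    obtain ⟨i, -, rfl⟩ := hp
    rw [Finset.mem_antidiagonal] at hnp
    show f.coeff i * g.coeff (a - i) = 0
    by_cases hf : f.coeff i = 0
    · rw [hf, zero_mul]
    · by_cases hg : g.coeff (a - i) = 0
      · rw [hg, mul_zero]
      · exfalso
        apply hnp
        refine ⟨hf, hg, ?_⟩
        show i + (a - i) = a
        ring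

/-- The product rule for Hasse derivatives of Laurent series. -/
theorem laurent_hasseDeriv_mul (f g : LaurentSeries F) (n : ℕ) :
    LaurentSeries.hasseDeriv F n (f * g) =
      ∑ ij ∈ Finset.HasAntidiagonal.antidiagonal n,
        LaurentSeries.hasseDeriv F ij.1 f * LaurentSeries.hasseDeriv F ij.2 g := by
  ext m
  rw [LaurentSeries.hasseDeriv_coeff, HahnSeries.coeff_sum]
  have h₁ : ∀ i < f.order, f.coeff i = 0 := fun i hi => HahnSeries.coeff_eq_zero_of_lt_order hi
  have h₂ : ∀ i < g.order, g.coeff i = 0 := fun i hi => HahnSeries.coeff_eq_zero_of_lt_order hi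
  rw [laurent_coeff_mul_Icc f g f.order g.order h₁ h₂]
  have hterm : ∀ ij ∈ Finset.HasAntidiagonal.antidiagonal n,
      (LaurentSeries.hasseDeriv F ij.1 f * LaurentSeries.hasseDeriv F ij.2 g).coeff m =
        ∑ a ∈ Finset.Icc f.order (m + n - g.order),
          (Ring.choose a ij.1 * Ring.choose (m + n - a) ij.2) •
            (f.coeff a * g.coeff (m + n - a)) := by
    rintro ⟨i, j⟩ hij
    rw [Finset.HasAntidiagonal.mem_antidiagonal] at hij
    have hij' : (n : ℤ) = (i : ℤ) + (j : ℤ) := by
      have : i + j = n := hij
      rw [← this]
      push_cast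
      ring
    rw [laurent_coeff_mul_Icc _ _ (f.order - i) (g.order - j) ?_ ?_]
    · have hIcc : Finset.Icc f.order (m + n - g.order) =
          (Finset.Icc (f.order - i) (m - (g.order - j))).map (addRightEmbedding (i : ℤ)) := by
        rw [Finset.map_add_right_Icc]
        congr 1
        · ring
        · rw [hij']
          ring
      rw [hIcc, Finset.sum_map]
      apply Finset.sum_congr rfl
      intro a' _
      simp only [addRightEmbedding_apply, LaurentSeries.hasseDeriv_coeff]
      have e : m - a' + (j : ℤ) = m + (n : ℤ) - (a' + (i : ℤ)) := by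
        rw [hij']
        ring
      rw [e, smul_mul_smul_comm]
    · intro a' ha'
      rw [LaurentSeries.hasseDeriv_coeff, h₁ _ (by omega), smul_zero]
    · intro a' ha'
      rw [LaurentSeries.hasseDeriv_coeff, h₂ _ (by omega), smul_zero]
  rw [Finset.sum_congr rfl hterm, Finset.sum_comm, Finset.smul_sum]
  apply Finset.sum_congr rfl
  intro a _
  rw [← Finset.sum_smul, ← Ring.add_choose_eq n (Commute.all _ _)]
  congr 2
  ring

theorem laurent_hasseDeriv_X (n : ℕ) :
    LaurentSeries.hasseDeriv F n (HahnSeries.single 1 (1 : F)) =
      if n = 0 then HahnSeries.single 1 (1 : F) else if n = 1 then 1 else 0 := by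
  rw [LaurentSeries.hasseDeriv_single]
  rcases n with _ | _ | n
  · simp
  · simp
  · have h1 : Ring.choose (1 : ℤ) (n + 1 + 1) = 0 := by
      have := Ring.choose_natCast (R := ℤ) 1 (n + 1 + 1)
      simp only [Nat.cast_one] at this
      rw [this, Nat.choose_eq_zero_of_lt (by omega)]
      rfl
    rw [h1, zero_smul, HahnSeries.single_eq_zero]
    simp

end LaurentHasse

section Expansion

variable {k : Type u} {K : Type v} [Field k] [Field K] [Algebra k K]
variable {F : Type w} [Field F] [Algebra k F]

/-- The expansion of the Hasse derivatives with respect to `t`, through an expansion homomorphism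
with `φ t = X`: `φ (D_t^{(n)} x) = D_X^{(n)} (φ x)`. -/
theorem expansion_hasseD (hK : IsFunctionField k K) (hg : IsGeometric k K)
    (φ : K →ₐ[k] LaurentSeries F) (t : K) (ht : φ t = HahnSeries.single 1 1)
    (H : K →ₐ[k] PowerSeries K) (hH : LocRes.IsHasseFamily t H) :
    ∀ (n : ℕ) (x : K), φ (LocRes.hasseD H n x) = LaurentSeries.hasseDeriv F n (φ x) := by
  classical
  letI : Algebra K (LaurentSeries F) := φ.toRingHom.toAlgebra
  haveI : IsScalarTower k K (LaurentSeries F) := LocRes.isScalarTower_exp φ
  have hsmul : ∀ (a : K) (s : LaurentSeries F), a • s = φ a * s := fun a s => rfl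
  have hdt : KaehlerDifferential.D k K t ≠ 0 := by
    intro h0
    have h1 : (LocRes.dExp φ).liftKaehlerDifferential (KaehlerDifferential.D k K t) =
        LocRes.dExp φ t := Derivation.liftKaehlerDifferential_comp_D _ _
    rw [h0, map_zero] at h1
    have h2 : LocRes.dExp φ t = LocRes.D F (φ t) := rfl
    rw [h2, ht] at h1
    have h3 : (LocRes.D F (HahnSeries.single 1 (1 : F))).coeff 0 = 1 := by
      rw [LocRes.D_coeff]
      simp
    rw [← h1] at h3
    simp at h3
  haveI := isSeparable_of_D_ne_zero hK hg hdt
  intro n
  induction n using Nat.strong_induction_on with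
  | _ n ih =>
    rcases Nat.eq_zero_or_pos n with rfl | hn
    · intro x
      rw [hasseD_zero_apply hH, LaurentSeries.hasseDeriv_zero]
      rfl
    · have hleib : ∀ x y : K,
          LaurentSeries.hasseDeriv F n (φ (x * y)) - φ (LocRes.hasseD H n (x * y)) =
            φ x * (LaurentSeries.hasseDeriv F n (φ y) - φ (LocRes.hasseD H n y)) +
              φ y * (LaurentSeries.hasseDeriv F n (φ x) - φ (LocRes.hasseD H n x)) := by
        intro x y
        rw [map_mul, laurent_hasseDeriv_mul, hasseD_mul, map_sum, ← Finset.sum_sub_distrib]
        have hterm : ∀ p ∈ Finset.HasAntidiagonal.antidiagonal n,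
            LaurentSeries.hasseDeriv F p.1 (φ x) * LaurentSeries.hasseDeriv F p.2 (φ y) -
              φ (LocRes.hasseD H p.1 x * LocRes.hasseD H p.2 y) =
            (if p = (0, n) then
              φ x * (LaurentSeries.hasseDeriv F n (φ y) - φ (LocRes.hasseD H n y)) else 0) +
            (if p = (n, 0) then
              φ y * (LaurentSeries.hasseDeriv F n (φ x) - φ (LocRes.hasseD H n x)) else 0) := by
          rintro ⟨a, b⟩ hp
          rw [Finset.HasAntidiagonal.mem_antidiagonal] at hp
          simp only at hp
          rw [map_mul]
          by_cases ha0 : a = 0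
          · have hb : b = n := by omega
            subst ha0
            subst hb
            rw [if_pos rfl, if_neg (by
              intro h
              have := (Prod.mk.inj h).1
              omega), hasseD_zero_apply hH, LaurentSeries.hasseDeriv_zero, add_zero]
            simp only [LinearMap.id_coe, id_eq]
            ring
          · by_cases haj : a = n
            · have hb : b = 0 := by omega
              subst haj
              subst hb
              rw [if_neg (by
                intro h
                have := (Prod.mk.inj h).1
                omega), if_pos rfl, hasseD_zero_apply hH, LaurentSeries.hasseDeriv_zero,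
                zero_add]
              simp only [LinearMap.id_coe, id_eq]
              ring
            · have halt : a < n := by omega
              have hblt : b < n := by omega
              rw [if_neg (by
                intro h
                exact ha0 (Prod.mk.inj h).1), if_neg (by
                intro h
                exact haj (Prod.mk.inj h).1), ih a halt x, ih b hblt y, sub_self, add_zero]
        rw [Finset.sum_congr rfl hterm, Finset.sum_add_distrib, Finset.sum_ite_eq',
          Finset.sum_ite_eq', if_pos (by simp), if_pos (by simp)]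
      have hφs : ∀ (c : k) (y : K), φ (c • y) = (algebraMap k F c) • φ y := by
        intro c y
        rw [Algebra.smul_def, map_mul, LocRes.map_algebraMap, HahnSeries.C_mul_eq_smul]
      let δ : Derivation k K (LaurentSeries F) :=
        { toFun := fun x => LaurentSeries.hasseDeriv F n (φ x) - φ (LocRes.hasseD H n x)
          map_add' := fun x y => by
            show LaurentSeries.hasseDeriv F n (φ (x + y)) - φ (LocRes.hasseD H n (x + y)) =
              (LaurentSeries.hasseDeriv F n (φ x) - φ (LocRes.hasseD H n x)) +
                (LaurentSeries.hasseDeriv F n (φ y) - φ (LocRes.hasseD H n y))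
            rw [map_add, map_add, hasseD_add, map_add]
            abel
          map_smul' := fun c x => by
            show LaurentSeries.hasseDeriv F n (φ (c • x)) - φ (LocRes.hasseD H n (c • x)) =
              c • (LaurentSeries.hasseDeriv F n (φ x) - φ (LocRes.hasseD H n x))
            rw [hφs, hasseD_smul, hφs, map_smul, ← smul_sub, algebraMap_smul]
          map_one_eq_zero' := by
            show LaurentSeries.hasseDeriv F n (φ 1) - φ (LocRes.hasseD H n 1) = 0
            have h1 := hleib 1 1
            rw [mul_one, map_one, one_mul] at h1
            have h2 : ∀ z : LaurentSeries F, z = z + z → z = 0 := fun z hz => by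
              have := sub_eq_zero.2 hz.symm
              simpa using this
            rw [← map_one φ] at h1
            exact h2 _ h1
          leibniz' := fun x y => by
            show LaurentSeries.hasseDeriv F n (φ (x * y)) - φ (LocRes.hasseD H n (x * y)) =
              x • (LaurentSeries.hasseDeriv F n (φ y) - φ (LocRes.hasseD H n y)) +
                y • (LaurentSeries.hasseDeriv F n (φ x) - φ (LocRes.hasseD H n x))
            rw [hleib x y, hsmul, hsmul] }
      have hδt : δ t = 0 := by
        show LaurentSeries.hasseDeriv F n (φ t) - φ (LocRes.hasseD H n t) = 0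
        have hn0 : ¬ n = 0 := by omega
        rw [ht, laurent_hasseDeriv_X, LocRes.hasseD_apply, hH.1, map_add, PowerSeries.coeff_C,
          PowerSeries.coeff_X, if_neg hn0, if_neg hn0, zero_add]
        by_cases h1 : n = 1
        · rw [if_pos h1, if_pos h1, map_one, sub_self]
        · rw [if_neg h1, if_neg h1, map_zero, sub_self]
      have hδ0 := derivation_eq_zero_of_separating t δ hδt
      intro x
      have h3 : δ x = 0 := by rw [hδ0]; rfl
      exact (sub_eq_zero.1 h3).symm

end Expansion

end FunFld
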