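import Mathlib
import Groth.Agent.Lib.FunFldGeomD_helper2

/-! Geometric function fields (helper2), part E: local parameters at separable places are
separating variables. -/

open Module

namespace FunFld

universe u v

section PIndep

variable {k : Type*} [Field k]

/-- Elements of `k` that are linearly independent over `k^p` stay linearly independent over
`F^p` for a finite separable extension `F` of `k`. -/
theorem eq_zero_of_sum_smul_pow_eq_zero {F : Type*} [Field F] [Algebra k F]
    [FiniteDimensional k F] [Algebra.IsSeparable k F] (p : ℕ) [hp : Fact p.Prime] [CharP k p]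
    {ι : Type*} (s : Finset ι) (c : ι → k)
    (hc : ∀ l : ι → k, ∑ i ∈ s, c i * (l i) ^ p = 0 → ∀ i ∈ s, l i = 0)
    (w : ι → F) (hw : ∑ i ∈ s, c i • (w i) ^ p = 0) : ∀ i ∈ s, w i = 0 := by
  classical
  haveI : ExpChar k p := ExpChar.prime hp.out
  haveI : CharP F p := charP_of_injective_algebraMap (algebraMap k F).injective p
  haveI : ExpChar F p := ExpChar.prime hp.out
  obtain ⟨b, -⟩ : ∃ b : Basis (Fin (finrank k F)) k F, b = Module.finBasis k F := ⟨_, rfl⟩
  obtain ⟨b', hb'⟩ : ∃ b' : Basis (Fin (finrank k F)) k F, ∀ j, b' j = (b j) ^ p := by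
    refine ⟨b.mapPowExpCharPowOfIsSeparable p 1, fun j => ?_⟩
    simp [Module.Basis.mapPowExpCharPowOfIsSeparable]
  have hpow : ∀ i, (w i) ^ p = ∑ j, (b.repr (w i) j) ^ p • b' j := by
    intro i
    conv_lhs => rw [← b.sum_repr (w i)]
    rw [sum_pow_char p]
    apply Finset.sum_congr rfl
    intro j _
    rw [hb', Algebra.smul_def, mul_pow, ← map_pow, ← Algebra.smul_def]
  have h2 : ∑ j, (∑ i ∈ s, c i * (b.repr (w i) j) ^ p) • b' j = 0 := by
    rw [← hw]
    simp_rw [hpow, Finset.smul_sum, smul_smul, Finset.sum_smul]
    rw [Finset.sum_comm]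
  have h3 := Fintype.linearIndependent_iff.1 b'.linearIndependent _ h2
  intro i hi
  have h4 : b.repr (w i) = 0 := by
    ext j
    exact hc (fun i => b.repr (w i) j) (h3 j) i hi
  exact (LinearEquiv.map_eq_zero_iff b.repr).1 h4

end PIndep

section Span

variable {k K : Type*} [Field k] [Field K] [Algebra k K]

/-- Every element of `k K^p` is a finite sum `∑ c_i y_i^p`. -/
theorem mem_span_of_mem_kKp (p : ℕ) [hp : Fact p.Prime] [CharP K p] {z : K}
    (hz : z ∈ kKp k K p) : z ∈ Submodule.span k (Set.range fun y : K => y ^ p) := by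
  have hS : (Set.range fun y : K => y ^ p) = ((MonoidHom.mrange (powMonoidHom p : K →* K)) : Set K) := by
    rw [MonoidHom.coe_mrange]
    rfl
  have hspan : Subalgebra.toSubmodule (Algebra.adjoin k (Set.range fun y : K => y ^ p)) =
      Submodule.span k (Set.range fun y : K => y ^ p) := by
    rw [Algebra.adjoin_eq_span, hS, Submonoid.closure_eq]
  have hinv : ∀ x ∈ Algebra.adjoin k (Set.range fun y : K => y ^ p),
      x⁻¹ ∈ Algebra.adjoin k (Set.range fun y : K => y ^ p) := by
    intro x hx
    by_cases hx0 : x = 0
    · rw [hx0, inv_zero]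
      exact Subalgebra.zero_mem _
    · have h1 : x⁻¹ = x ^ (p - 1) * (x⁻¹) ^ p := by
        have hp1 : p - 1 + 1 = p := by
          have := hp.out.pos
          omega
        have hxp : x ^ p = x ^ (p - 1) * x := by
          rw [← pow_succ, hp1]
        rw [inv_pow, hxp, mul_inv, ← mul_assoc, mul_inv_cancel₀ (pow_ne_zero _ hx0), one_mul]
      rw [h1]
      exact Subalgebra.mul_mem _ (Subalgebra.pow_mem _ hx _)
        (Algebra.subset_adjoin ⟨x⁻¹, rfl⟩)
  have h2 := IntermediateField.adjoin_eq_algebra_adjoin k _ hinv
  have h3 : z ∈ (IntermediateField.adjoin k (Set.range fun y : K => y ^ p)).toSubalgebra := hz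
  rw [h2] at h3
  rw [← hspan]
  exact h3

end Span

section Val

variable {k : Type u} {K : Type v} [Field k] [Field K] [Algebra k K]

open WithZero in
/-- The order at a separable place of a nonzero element of `k K^p` is divisible by `p`. -/
theorem dvd_ord_of_sum_smul_pow (hK : IsFunctionField k K) (P : Place k K)
    [hsepF : Algebra.IsSeparable k (IsLocalRing.ResidueField P.O)] (p : ℕ) [hp : Fact p.Prime]
    [CharP K p] {ι : Type*} (s : Finset ι) (c : ι → k) (y : ι → K)
    (hz : ∑ i ∈ s, c i • (y i) ^ p ≠ 0) : (p : ℤ) ∣ P.ord (∑ i ∈ s, c i • (y i) ^ p) := by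
  classical
  haveI : CharP k p := RingHom.charP (algebraMap k K) (algebraMap k K).injective p
  haveI := finiteDimensional_residueField hK P
  induction hcard : s.card using Nat.strong_induction_on generalizing s c y with
  | _ N ih =>
    by_cases hind : ∀ l : ι → k, ∑ i ∈ s, c i * (l i) ^ p = 0 → ∀ i ∈ s, l i = 0
    · -- independent coefficients
      have hne : (s.filter fun i => y i ≠ 0).Nonempty := by
        by_contra hemp
        rw [Finset.not_nonempty_iff_eq_empty] at hemp
        apply hz
        apply Finset.sum_eq_zero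
        intro i hi
        have : y i = 0 := by
          by_contra hyi
          have : i ∈ s.filter fun i => y i ≠ 0 := Finset.mem_filter.2 ⟨hi, hyi⟩
          rw [hemp] at this
          exact absurd this (Finset.notMem_empty i)
        rw [this, zero_pow hp.out.ne_zero, smul_zero]
      obtain ⟨i₀, hi₀, hmin⟩ := Finset.exists_min_image _ (fun i => P.ord (y i)) hne
      rw [Finset.mem_filter] at hi₀
      obtain ⟨π, hπ⟩ := P.exists_uniformizer
      have hπ0 : π ≠ 0 := by
        rintro rfl
        rw [map_zero] at hπ
        exact (exp_ne_zero).symm hπ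
      have hordπ : P.ord π = 1 := by
        unfold Place.ord
        rw [hπ, log_exp]
        ring
      obtain ⟨u, hu⟩ : ∃ u : K, u = π ^ (-(P.ord (y i₀))) := ⟨_, rfl⟩
      have hu0 : u ≠ 0 := by
        rw [hu]
        exact zpow_ne_zero _ hπ0
      have hordu : P.ord u = -(P.ord (y i₀)) := by
        rw [hu, P.ord_zpow, hordπ, mul_one]
      have hzi : ∀ i ∈ s, P.1 (y i * u) ≤ 1 := by
        intro i hi
        by_cases hyi : y i = 0
        · rw [hyi, zero_mul, map_zero]
          exact zero_le
        · have hm := hmin i (Finset.mem_filter.2 ⟨hi, hyi⟩)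
          rw [← P.ord_nonneg_iff (mul_ne_zero hyi hu0), P.ord_mul hyi hu0, hordu]
          omega
      have hzi₀ : P.1 (y i₀ * u) = 1 := by
        rw [← P.ord_eq_zero_iff (mul_ne_zero hi₀.2 hu0), P.ord_mul hi₀.2 hu0, hordu]
        ring
      have hz' : ∑ i ∈ s, c i • (y i * u) ^ p = (∑ i ∈ s, c i • (y i) ^ p) * u ^ p := by
        rw [Finset.sum_mul]
        apply Finset.sum_congr rfl
        intro i _
        rw [mul_pow, smul_mul_assoc]
      have hup : u ^ p ≠ 0 := pow_ne_zero _ hu0
      have hord' : P.ord (∑ i ∈ s, c i • (y i * u) ^ p) =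
          P.ord (∑ i ∈ s, c i • (y i) ^ p) + p * P.ord u := by
        rw [hz', P.ord_mul hz hup, P.ord_pow]
      have hz'0 : ∑ i ∈ s, c i • (y i * u) ^ p ≠ 0 := by
        rw [hz']
        exact mul_ne_zero hz hup
      by_contra hndvd
      have hndvd' : ¬ (p : ℤ) ∣ P.ord (∑ i ∈ s, c i • (y i * u) ^ p) := by
        rw [hord']
        intro h
        apply hndvd
        have := (Int.dvd_add_left (Dvd.intro _ rfl : (p : ℤ) ∣ p * P.ord u)).1 h
        exact this
      -- elements of the valuation ring
      let zO : ι → P.O := fun i => if h : i ∈ s then ⟨y i * u, hzi i h⟩ else 0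
      have hzO : ∀ i ∈ s, ((zO i : P.O) : K) = y i * u := by
        intro i hi
        simp only [zO, dif_pos hi]
      have hsumO : ((∑ i ∈ s, algebraMap k P.O (c i) * (zO i) ^ p : P.O) : K) =
          ∑ i ∈ s, c i • (y i * u) ^ p := by
        rw [← P.O.subtype_apply, map_sum]
        apply Finset.sum_congr rfl
        intro i hi
        rw [map_mul, map_pow, P.O.subtype_apply, P.O.subtype_apply, hzO i hi, Algebra.smul_def]
        rfl
      have hle1 : P.1 (∑ i ∈ s, c i • (y i * u) ^ p) ≤ 1 := by
        rw [← hsumO]
        exact (∑ i ∈ s, algebraMap k P.O (c i) * (zO i) ^ p : P.O).2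
      have hpos : P.1 (∑ i ∈ s, c i • (y i * u) ^ p) < 1 := by
        rw [← P.ord_pos_iff hz'0]
        have h0 := (P.ord_nonneg_iff hz'0).2 hle1
        have hne0 : P.ord (∑ i ∈ s, c i • (y i * u) ^ p) ≠ 0 := by
          intro h
          apply hndvd'
          rw [h]
          exact dvd_zero _
        omega
      have hres : IsLocalRing.residue P.O (∑ i ∈ s, algebraMap k P.O (c i) * (zO i) ^ p) = 0 := by
        rw [P.residue_eq_zero_iff, hsumO]
        exact hpos
      have hres' : ∑ i ∈ s, c i • (IsLocalRing.residue P.O (zO i)) ^ p = 0 := by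
        rw [← hres, map_sum]
        apply Finset.sum_congr rfl
        intro i _
        rw [map_mul, map_pow, Algebra.smul_def]
        rfl
      have hfd : FiniteDimensional k (IsLocalRing.ResidueField P.O) :=
        finiteDimensional_residueField hK P
      have hall := @eq_zero_of_sum_smul_pow_eq_zero k _ (IsLocalRing.ResidueField P.O) _ _ hfd
        hsepF p _ _ ι s c hind
        (fun i => IsLocalRing.residue P.O (zO i)) hres'
      have h1 := hall i₀ hi₀.1
      rw [P.residue_eq_zero_iff, hzO i₀ hi₀.1, hzi₀] at h1
      exact lt_irrefl _ h1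
    · -- dependent coefficients: reduce the number of terms
      push Not at hind
      obtain ⟨l, hl, j, hj, hlj⟩ := hind
      have hsplit : c j * (l j) ^ p + ∑ i ∈ s.erase j, c i * (l i) ^ p = 0 := by
        rw [Finset.add_sum_erase s (fun i => c i * (l i) ^ p) hj]
        exact hl
      have hcj : c j = -∑ i ∈ s.erase j, c i * (l i / l j) ^ p := by
        have hljp : (l j) ^ p ≠ 0 := pow_ne_zero _ hlj
        have h1 : c j = -(∑ i ∈ s.erase j, c i * (l i) ^ p) / (l j) ^ p := by
          field_simp
          linear_combination hsplit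
        rw [h1, neg_div, Finset.sum_div]
        congr 1
        apply Finset.sum_congr rfl
        intro i _
        rw [div_pow, mul_div_assoc]
      have hnew : ∑ i ∈ s, c i • (y i) ^ p =
          ∑ i ∈ s.erase j, c i • (y i - algebraMap k K (l i / l j) * y j) ^ p := by
        rw [← Finset.add_sum_erase s (fun i => c i • (y i) ^ p) hj, hcj, neg_smul, Finset.sum_smul]
        rw [← sub_eq_neg_add, ← Finset.sum_sub_distrib]
        apply Finset.sum_congr rfl
        intro i _
        rw [sub_pow_char, mul_pow, smul_sub, ← map_pow, mul_smul, Algebra.smul_def (_ ^ p)]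
      rw [hnew] at hz ⊢
      have hlt : (s.erase j).card < N := by
        rw [← hcard]
        exact Finset.card_erase_lt_of_mem hj
      exact ih _ hlt (s.erase j) c _ hz rfl

/-- A local parameter at a place with separable residue field is a separating variable. -/
theorem D_uniformizer_ne_zero (hK : IsFunctionField k K) (hg : IsGeometric k K) (P : Place k K)
    [Algebra.IsSeparable k (IsLocalRing.ResidueField P.O)] (t : K)
    (ht : P.1 t = WithZero.exp (-1)) : KaehlerDifferential.D k K t ≠ 0 := by
  classical
  have htr : Transcendental k t := by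
    intro halg
    obtain ⟨c, rfl⟩ := hK.2 t halg
    by_cases hc : c = 0
    · rw [hc, map_zero, map_zero] at ht
      exact WithZero.exp_ne_zero.symm ht
    · rw [P.val_algebraMap hc, ← WithZero.exp_zero, WithZero.exp_inj] at ht
      norm_num at ht
  obtain h0 | ⟨p, hp, hpK⟩ := CharP.exists' K
  · haveI : FiniteDimensional (IntermediateField.adjoin k ({t} : Set K)) K :=
      finiteDimensional_of_transcendental hK htr
    haveI : CharZero (IntermediateField.adjoin k ({t} : Set K)) :=
      (algebraMap (IntermediateField.adjoin k ({t} : Set K)) K).charZero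
    haveI : Algebra.IsAlgebraic (IntermediateField.adjoin k ({t} : Set K)) K :=
      Algebra.IsAlgebraic.of_finite _ _
    haveI : Algebra.IsSeparable (IntermediateField.adjoin k ({t} : Set K)) K :=
      Algebra.IsAlgebraic.isSeparable_of_perfectField
    exact D_ne_zero_of_isSeparable hK t
  · haveI := hp
    haveI := hpK
    intro h0
    have h1 := (mem_kKp_iff_D_eq_zero p hK hg t).2 h0
    have h2 := mem_span_of_mem_kKp p h1
    rw [Finsupp.mem_span_range_iff_exists_finsupp] at h2
    obtain ⟨cf, hcf⟩ := h2
    have ht0 : t ≠ 0 := by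
      rintro rfl
      rw [map_zero] at ht
      exact WithZero.exp_ne_zero.symm ht
    have h3 : ∑ y ∈ cf.support, cf y • y ^ p = t := hcf
    have h4 := dvd_ord_of_sum_smul_pow hK P p cf.support (fun y => cf y) (fun y => y)
      (by rw [h3]; exact ht0)
    rw [h3] at h4
    have hordt : P.ord t = 1 := by
      unfold Place.ord
      rw [ht, WithZero.log_exp]
      ring
    rw [hordt] at h4
    have h5 := Int.eq_one_of_dvd_one (by positivity) h4
    have h6 : p = 1 := by exact_mod_cast h5
    exact hp.out.one_lt.ne' h6

end Val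

end FunFld
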