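import Mathlib
import Groth.Agent.Lib.FunFldGeomE_helper2

/-! Second-order Taylor expansion of polynomials at a place (helper2). -/

open Module WithZero

namespace FunFld

variable {k K : Type*} [Field k] [Field K] [Algebra k K]

/-- Second-order Taylor estimate with explicit first-order coefficients: for `x i = α i + ε i`
with `α i ∈ k` and `ε i` in the maximal ideal,
`f(x) ≡ f(α) + ∑ ∂ᵢf(α) εᵢ` modulo the square of the maximal ideal. -/
theorem taylor_two_pderiv (P : Place k K) {σ : Type*} [Fintype σ] (α : σ → k) (ε : σ → K)
    (hε : ∀ i, P.1 (ε i) ≤ exp (-1 : ℤ)) (f : MvPolynomial σ k) :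
    P.1 (MvPolynomial.aeval (fun i => algebraMap k K (α i) + ε i) f
        - algebraMap k K (MvPolynomial.eval α f)
        - ∑ i, algebraMap k K (MvPolynomial.eval α (MvPolynomial.pderiv i f)) * ε i)
      ≤ exp (-2 : ℤ) := by
  classical
  have h11 : exp (-1 : ℤ) ≤ (1 : ℤᵐ⁰) := exp_neg_one_lt_one.le
  induction f using MvPolynomial.induction_on with
  | C a =>
    have e : MvPolynomial.aeval (fun i => algebraMap k K (α i) + ε i) (MvPolynomial.C a : MvPolynomial σ k)
        - algebraMap k K (MvPolynomial.eval α (MvPolynomial.C a : MvPolynomial σ k))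
        - ∑ i, algebraMap k K (MvPolynomial.eval α
            (MvPolynomial.pderiv i (MvPolynomial.C a : MvPolynomial σ k))) * ε i = 0 := by
      simp
    rw [e, map_zero]
    exact zero_le
  | add p q hp hq =>
    have e : MvPolynomial.aeval (fun i => algebraMap k K (α i) + ε i) (p + q)
        - algebraMap k K (MvPolynomial.eval α (p + q))
        - ∑ i, algebraMap k K (MvPolynomial.eval α (MvPolynomial.pderiv i (p + q))) * ε i =
        (MvPolynomial.aeval (fun i => algebraMap k K (α i) + ε i) p
        - algebraMap k K (MvPolynomial.eval α p)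
        - ∑ i, algebraMap k K (MvPolynomial.eval α (MvPolynomial.pderiv i p)) * ε i) +
        (MvPolynomial.aeval (fun i => algebraMap k K (α i) + ε i) q
        - algebraMap k K (MvPolynomial.eval α q)
        - ∑ i, algebraMap k K (MvPolynomial.eval α (MvPolynomial.pderiv i q)) * ε i) := by
      simp only [map_add, add_mul, Finset.sum_add_distrib]
      ring
    rw [e]
    exact (P.1.map_add _ _).trans (max_le hp hq)
  | mul_X p j hp =>
    have hsum : ∑ i, algebraMap k K (MvPolynomial.eval α
          (MvPolynomial.pderiv i (p * MvPolynomial.X j))) * ε i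
        = (∑ i, algebraMap k K (MvPolynomial.eval α (MvPolynomial.pderiv i p)) * ε i)
            * algebraMap k K (α j)
          + algebraMap k K (MvPolynomial.eval α p) * ε j := by
      have h1 : ∀ i, algebraMap k K (MvPolynomial.eval α
          (MvPolynomial.pderiv i (p * MvPolynomial.X j))) * ε i
          = algebraMap k K (MvPolynomial.eval α (MvPolynomial.pderiv i p)) * ε i
              * algebraMap k K (α j)
            + (if i = j then algebraMap k K (MvPolynomial.eval α p) * ε j else 0) := by
        intro i
        rw [Derivation.leibniz, MvPolynomial.pderiv_X]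
        by_cases hij : i = j
        · subst hij
          simp only [Pi.single_eq_same, smul_eq_mul, map_add, map_mul, MvPolynomial.eval_X,
            mul_one, if_true]
          ring
        · have h0 : (Pi.single (M := fun _ => MvPolynomial σ k) i 1 j) = 0 :=
            Pi.single_eq_of_ne (fun h => hij h.symm) _
          rw [h0, if_neg hij]
          simp only [smul_eq_mul, mul_zero, zero_add, map_mul, MvPolynomial.eval_X, add_zero]
          ring
      simp_rw [h1, Finset.sum_add_distrib, Finset.sum_mul]
      rw [Finset.sum_ite_eq' Finset.univ j, if_pos (Finset.mem_univ j)]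
    have hL : P.1 (∑ i, algebraMap k K (MvPolynomial.eval α (MvPolynomial.pderiv i p)) * ε i)
        ≤ exp (-1 : ℤ) := by
      refine P.1.map_sum_le (fun i _ => ?_)
      rw [map_mul]
      calc P.1 (algebraMap k K _) * P.1 (ε i) ≤ 1 * exp (-1 : ℤ) := mul_le_mul' (P.2.1 _) (hε i)
        _ = exp (-1 : ℤ) := one_mul _
    have hxj : P.1 (algebraMap k K (α j) + ε j) ≤ 1 :=
      (P.1.map_add _ _).trans (max_le (P.2.1 _) ((hε j).trans h11))
    have e : MvPolynomial.aeval (fun i => algebraMap k K (α i) + ε i) (p * MvPolynomial.X j)
        - algebraMap k K (MvPolynomial.eval α (p * MvPolynomial.X j))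
        - ∑ i, algebraMap k K (MvPolynomial.eval α
            (MvPolynomial.pderiv i (p * MvPolynomial.X j))) * ε i =
        (MvPolynomial.aeval (fun i => algebraMap k K (α i) + ε i) p
        - algebraMap k K (MvPolynomial.eval α p)
        - ∑ i, algebraMap k K (MvPolynomial.eval α (MvPolynomial.pderiv i p)) * ε i)
          * (algebraMap k K (α j) + ε j)
        + (∑ i, algebraMap k K (MvPolynomial.eval α (MvPolynomial.pderiv i p)) * ε i) * ε j := by
      rw [hsum]
      simp only [map_mul, MvPolynomial.aeval_X, MvPolynomial.eval_X]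
      ring
    rw [e]
    refine (P.1.map_add _ _).trans (max_le ?_ ?_)
    · rw [map_mul]
      calc _ ≤ exp (-2 : ℤ) * 1 := mul_le_mul' hp hxj
        _ = exp (-2 : ℤ) := mul_one _
    · rw [map_mul]
      calc _ ≤ exp (-1 : ℤ) * exp (-1 : ℤ) := mul_le_mul' hL (hε j)
        _ = exp (-2 : ℤ) := by rw [← exp_add]; norm_num

/-- The residue of an element of the valuation ring congruent to a constant. -/
theorem residue_eq_algebraMap_of_val_sub_lt (P : Place k K) (x : P.O) (c : k)
    (h : P.1 ((x : K) - algebraMap k K c) < 1) :
    IsLocalRing.residue P.O x = algebraMap k (IsLocalRing.ResidueField P.O) c := by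
  have h1 : algebraMap k (IsLocalRing.ResidueField P.O) c =
      IsLocalRing.residue P.O (algebraMap k P.O c) := rfl
  rw [h1, ← sub_eq_zero, ← map_sub, P.residue_eq_zero_iff]
  exact h

end FunFld
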