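import Mathlib
import Groth.Agent.Lib.FunFldTan_helper2

/-! Local rings of projective maps (helper2): finiteness of the integral closure and the
criterion for nonsingularity. -/

open Module WithZero

namespace FunFld

variable {k K : Type*} [Field k] [Field K] [Algebra k K]

section LocSub

/-- The localization inside `K` of a subalgebra `A` at the place `P`. -/
def locSub (A : Subalgebra k K) (P : Place k K) : Subalgebra k K where
  carrier := {z | ∃ u ∈ A, ∃ w ∈ A, P.1 w = 1 ∧ z * w = u}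
  mul_mem' := by
    rintro z z' ⟨u, hu, w, hw, hw1, h⟩ ⟨u', hu', w', hw', hw1', h'⟩
    refine ⟨u * u', mul_mem hu hu', w * w', mul_mem hw hw', ?_, ?_⟩
    · rw [map_mul, hw1, hw1', one_mul]
    · rw [← h, ← h']; ring
  add_mem' := by
    rintro z z' ⟨u, hu, w, hw, hw1, h⟩ ⟨u', hu', w', hw', hw1', h'⟩
    refine ⟨u * w' + u' * w, add_mem (mul_mem hu hw') (mul_mem hu' hw), w * w',
      mul_mem hw hw', ?_, ?_⟩
    · rw [map_mul, hw1, hw1', one_mul]
    · rw [← h, ← h']; ring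
  algebraMap_mem' := fun c =>
    ⟨algebraMap k K c, A.algebraMap_mem c, 1, one_mem _, map_one _, mul_one _⟩

theorem mem_locSub {A : Subalgebra k K} {P : Place k K} {z : K} :
    z ∈ locSub A P ↔ ∃ u ∈ A, ∃ w ∈ A, P.1 w = 1 ∧ z * w = u := Iff.rfl

theorem le_locSub (A : Subalgebra k K) (P : Place k K) : A ≤ locSub A P :=
  fun u hu => ⟨u, hu, 1, one_mem _, map_one _, mul_one _⟩

theorem val_le_one_of_mem_locSub {A : Subalgebra k K} {P : Place k K}
    (hA : ∀ u ∈ A, P.1 u ≤ 1) {z : K} (hz : z ∈ locSub A P) : P.1 z ≤ 1 := by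
  obtain ⟨u, hu, w, hw, hw1, h⟩ := hz
  have h1 := hA u hu
  rw [← h, map_mul, hw1, mul_one] at h1
  exact h1

theorem inv_mem_locSub {A : Subalgebra k K} {P : Place k K} {z : K}
    (hz : z ∈ locSub A P) (hz1 : P.1 z = 1) : z⁻¹ ∈ locSub A P := by
  obtain ⟨u, hu, w, hw, hw1, h⟩ := hz
  have hz0 : z ≠ 0 := fun h0 => by rw [h0, map_zero] at hz1; exact zero_ne_one hz1
  refine ⟨w, hw, u, hu, ?_, ?_⟩
  · rw [← h, map_mul, hz1, hw1, one_mul]
  · rw [← h]; field_simp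

theorem exists_mul_pow_mem_adjoin {ι : Type*} (φ : ι → K) (j j' : ι) (hj : φ j ≠ 0)
    (hj' : φ j' ≠ 0) {u : K}
    (hu : u ∈ Algebra.adjoin k (Set.range fun i => φ i / φ j')) :
    ∃ d : ℕ, u * (φ j' / φ j) ^ d ∈ Algebra.adjoin k (Set.range fun i => φ i / φ j) := by
  have hx : φ j' / φ j ∈ Algebra.adjoin k (Set.range fun i => φ i / φ j) :=
    Algebra.subset_adjoin ⟨j', rfl⟩
  induction hu using Algebra.adjoin_induction with
  | mem x hx' =>
    obtain ⟨i, rfl⟩ := hx'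
    refine ⟨1, ?_⟩
    have e : φ i / φ j' * (φ j' / φ j) ^ 1 = φ i / φ j := by
      rw [pow_one]; field_simp
    rw [e]
    exact Algebra.subset_adjoin ⟨i, rfl⟩
  | algebraMap r => exact ⟨0, by rw [pow_zero, mul_one]; exact Subalgebra.algebraMap_mem _ r⟩
  | add x y _ _ hx' hy' =>
    obtain ⟨d, hd⟩ := hx'
    obtain ⟨e, he⟩ := hy'
    refine ⟨d + e, ?_⟩
    have e1 : (x + y) * (φ j' / φ j) ^ (d + e) =
        x * (φ j' / φ j) ^ d * (φ j' / φ j) ^ e + y * (φ j' / φ j) ^ e * (φ j' / φ j) ^ d := by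
      rw [pow_add]; ring
    rw [e1]
    exact add_mem (mul_mem hd (pow_mem hx e)) (mul_mem he (pow_mem hx d))
  | mul x y _ _ hx' hy' =>
    obtain ⟨d, hd⟩ := hx'
    obtain ⟨e, he⟩ := hy'
    refine ⟨d + e, ?_⟩
    have e1 : (x * y) * (φ j' / φ j) ^ (d + e) =
        (x * (φ j' / φ j) ^ d) * (y * (φ j' / φ j) ^ e) := by
      rw [pow_add]; ring
    rw [e1]
    exact mul_mem hd he

theorem inLocRing_iff {ι : Type*} (φ : ι → K) (P : Place k K) (j : ι) (hj0 : φ j ≠ 0)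
    (hjP : ∀ i, P.1 (φ i) ≤ P.1 (φ j)) (z : K) :
    InLocRing φ P z ↔ z ∈ locSub (Algebra.adjoin k (Set.range fun i => φ i / φ j)) P := by
  constructor
  · rintro ⟨j', hj'0, hj'P, u, hu, w, hw, hw1, h⟩
    obtain ⟨d, hd⟩ := exists_mul_pow_mem_adjoin φ j j' hj0 hj'0 hu
    obtain ⟨e, he⟩ := exists_mul_pow_mem_adjoin φ j j' hj0 hj'0 hw
    have hx : φ j' / φ j ∈ Algebra.adjoin k (Set.range fun i => φ i / φ j) :=
      Algebra.subset_adjoin ⟨j', rfl⟩
    have hx1 : P.1 (φ j' / φ j) = 1 := by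
      rw [map_div₀, le_antisymm (hjP j') (hj'P j)]
      exact div_self ((P.1.ne_zero_iff).mpr hj0)
    refine ⟨u * (φ j' / φ j) ^ d * (φ j' / φ j) ^ e, mul_mem hd (pow_mem hx e),
      w * (φ j' / φ j) ^ e * (φ j' / φ j) ^ d, mul_mem he (pow_mem hx d), ?_, ?_⟩
    · rw [map_mul, map_mul, map_pow, map_pow, hx1, hw1, one_pow, one_pow, one_mul, one_mul]
    · rw [← h]; ring
  · rintro ⟨u, hu, w, hw, hw1, h⟩
    exact ⟨j, hj0, hjP, u, hu, w, hw, hw1, h⟩

end LocSub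

section Finiteness

theorem mapDiv_nonneg_of_one (hK : IsFunctionField k K) {n : ℕ} (ψ : Fin (n + 1) → K)
    (j : Fin (n + 1)) (hj : ψ j = 1) : 0 ≤ mapDiv k ψ := by
  intro Q
  rw [mapDiv_apply hK]
  have h1 : minOrd Q ψ ≤ Q.ord (ψ j) := Finset.inf'_le _ (Finset.mem_univ j)
  rw [hj, ord_one] at h1
  show (0 : ℤ) ≤ -minOrd Q ψ
  omega

theorem mapDiv_eq_zero_iff_of_one (hK : IsFunctionField k K) {n : ℕ} (ψ : Fin (n + 1) → K)
    (hψ0 : ∀ i, ψ i ≠ 0) (j : Fin (n + 1)) (hj : ψ j = 1) (Q : Place k K) :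
    mapDiv k ψ Q = 0 ↔ ∀ i, Q.1 (ψ i) ≤ 1 := by
  constructor
  · intro h i
    rw [mapDiv_apply hK, neg_eq_zero] at h
    have h1 : minOrd Q ψ ≤ Q.ord (ψ i) := Finset.inf'_le _ (Finset.mem_univ i)
    rw [h] at h1
    exact (Q.ord_nonneg_iff (hψ0 i)).mp h1
  · intro h
    exact mapDiv_apply_eq_zero Q ψ h ⟨j, by rw [hj, map_one]⟩

variable [IsAlgClosed k]

theorem one_le_deg_mapDiv_of_one (hK : IsFunctionField k K) {n : ℕ} (hn : 1 ≤ n)
    (ψ : Fin (n + 1) → K) (hψ : LinearIndependent k ψ) (j : Fin (n + 1)) (hj : ψ j = 1) :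
    1 ≤ Divisor.deg (mapDiv k ψ) := by
  classical
  haveI : Nontrivial (Fin (n + 1)) := Fin.nontrivial_iff_two_le.mpr (by omega)
  obtain ⟨i, hij⟩ := exists_ne j
  have hψ0 : ∀ i, ψ i ≠ 0 := fun i => hψ.ne_zero i
  have hnotL : ψ i ∉ L (0 : Divisor k K) := by
    rw [L_zero_eq_one hK, Submodule.mem_one]
    rintro ⟨c, hc⟩
    have h1 := hψ.notMem_span_image (s := {j}) (x := i) (by simpa using hij)
    apply h1
    rw [Set.image_singleton, hj, ← hc, Algebra.algebraMap_eq_smul_one]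
    exact Submodule.smul_mem _ _ (Submodule.subset_span rfl)
  rw [mem_L] at hnotL
  push Not at hnotL
  obtain ⟨Q, hQ⟩ := hnotL
  have hQ' : 1 < Q.1 (ψ i) := by simpa using hQ
  have hord : Q.ord (ψ i) < 0 := (Q.ord_neg_iff (hψ0 i)).mpr hQ'
  have hmin : minOrd Q ψ ≤ Q.ord (ψ i) := Finset.inf'_le _ (Finset.mem_univ i)
  have hDQ : 1 ≤ mapDiv k ψ Q := by rw [mapDiv_apply hK]; omega
  have hle : (Finsupp.single Q 1 : Divisor k K) ≤ mapDiv k ψ := by
    intro Q'
    by_cases h : Q' = Q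
    · rw [h, Finsupp.single_eq_same]; exact hDQ
    · rw [single_apply_ne (Ne.symm h)]; exact mapDiv_nonneg_of_one hK ψ j hj Q'
  have h3 := deg_mono hle
  rw [deg_single, Place.deg_eq_one hK Q] at h3
  simpa using h3

/-- A generic element of a span has the least order at finitely many given places. -/
theorem exists_mem_span_ord_eq_minOrd (hK : IsFunctionField k K) {ι : Type*} [Fintype ι]
    [Nonempty ι] (ψ : ι → K) (hψ0 : ∀ i, ψ i ≠ 0) (Z : Finset (Place k K)) :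
    ∃ s ∈ Submodule.span k (Set.range ψ), s ≠ 0 ∧ ∀ Q ∈ Z, Q.ord s = minOrd Q ψ := by
  classical
  obtain ⟨Q₀⟩ := exists_place hK
  set W := Submodule.span k (Set.range ψ) with hW
  have hWL : ∀ f ∈ W, f ∈ L (mapDiv k ψ) := fun f hf => mem_L_mapDiv_of_mem_span hK ψ hψ0 hf
  have hne : ∀ Q : ↥(insert Q₀ Z),
      Submodule.comap W.subtype (L (mapDiv k ψ - Finsupp.single (Q : Place k K) 1)) ≠ ⊤ := by
    intro Q htop
    obtain ⟨i, -, hi⟩ := Finset.exists_mem_eq_inf' Finset.univ_nonempty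
      (fun i => (Q : Place k K).ord (ψ i))
    have hmem : ψ i ∈ W := Submodule.subset_span ⟨i, rfl⟩
    have h3 : (⟨ψ i, hmem⟩ : W) ∈
        Submodule.comap W.subtype (L (mapDiv k ψ - Finsupp.single (Q : Place k K) 1)) := by
      rw [htop]; trivial
    have h4 : ψ i ∈ L (mapDiv k ψ - Finsupp.single (Q : Place k K) 1) := h3
    have h5 := (mem_L.mp h4) (Q : Place k K)
    rw [Finsupp.sub_apply, Finsupp.single_eq_same, mapDiv_apply hK,
      (Q : Place k K).val_eq_exp_neg_ord (hψ0 i), exp_le_exp] at h5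
    have h6 : minOrd (Q : Place k K) ψ = (Q : Place k K).ord (ψ i) := hi
    omega
  obtain ⟨x, hx⟩ := Submodule.exists_forall_notMem_of_forall_ne_top _ hne
  have hxL : (x : K) ∈ L (mapDiv k ψ) := hWL x x.2
  refine ⟨x.1, x.2, ?_, fun Q hQ => ?_⟩
  · exact (ord_eq_of_mem_L_not_mem hxL (hx ⟨Q₀, Finset.mem_insert_self _ _⟩)).1
  · have h1 := (ord_eq_of_mem_L_not_mem hxL (hx ⟨Q, Finset.mem_insert_of_mem hQ⟩)).2
    rw [h1, mapDiv_apply hK, neg_neg]

/-- Finiteness: the functions with poles only along `D = [ψ]` form a finite module over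
`k[ψ]`, generated by `L (m₀ D)`. -/
theorem finiteness (hK : IsFunctionField k K) {n : ℕ} (hn : 1 ≤ n) (ψ : Fin (n + 1) → K)
    (hψ : LinearIndependent k ψ) (j : Fin (n + 1)) (hj : ψ j = 1) :
    ∃ m₀ : ℕ, ∀ m : ℕ, ∀ z ∈ L (m • mapDiv k ψ),
      z ∈ Submodule.span (Algebra.adjoin k (Set.range ψ)) (L (m₀ • mapDiv k ψ) : Set K) := by
  classical
  have hψ0 : ∀ i, ψ i ≠ 0 := fun i => hψ.ne_zero i
  have hDnn := mapDiv_nonneg_of_one hK ψ j hj
  have hdeg1 := one_le_deg_mapDiv_of_one hK hn ψ hψ j hj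
  set D := mapDiv k ψ with hD
  have hspanL : ∀ f ∈ Submodule.span k (Set.range ψ), f ∈ L D := fun f hf =>
    mem_L_mapDiv_of_mem_span hK ψ hψ0 hf
  have hspanA : ∀ f ∈ Submodule.span k (Set.range ψ), f ∈ Algebra.adjoin k (Set.range ψ) :=
    fun f hf => Algebra.span_le_adjoin k _ hf
  have h1L : (1 : K) ∈ L D := hspanL 1 (hj ▸ Submodule.subset_span ⟨j, rfl⟩)
  obtain ⟨s₂, hs₂W, hs₂0, hs₂⟩ := exists_mem_span_ord_eq_minOrd hK ψ hψ0 D.support
  have hs₂L := hspanL s₂ hs₂W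
  have hs₂A := hspanA s₂ hs₂W
  have hbpf : ∀ Q : Place k K, Q.ord (1 : K) = -D Q ∨ Q.ord s₂ = -D Q := fun Q => by
    by_cases hQ : Q ∈ D.support
    · right
      rw [hs₂ Q hQ, hD, mapDiv_apply hK, neg_neg]
    · left
      rw [ord_one, Finsupp.notMem_support_iff.mp hQ, neg_zero]
  obtain ⟨g, hg⟩ : ∃ g : ℕ, g = genus k K := ⟨_, rfl⟩
  refine ⟨2 * g + 1, ?_⟩
  have hdegn : ∀ m : ℕ, Divisor.deg (m • D) = m * Divisor.deg D := fun m => deg_nsmul m D
  have hstep : ∀ m : ℕ, 2 * g + 1 ≤ m → ∀ r ∈ L ((m + 1) • D),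
      ∃ a ∈ L (m • D), ∃ b ∈ L (m • D), r = 1 * a + s₂ * b := by
    intro m hm r hr
    have e1 : (m + 1) • D = m • D + D := succ_nsmul D m
    rw [e1] at hr
    refine pencil hK h1L hs₂L one_ne_zero hs₂0 hbpf ?_ hr
    have hm' : (2 * (g : ℤ) + 1) ≤ (m : ℤ) := by exact_mod_cast hm
    have hg0 : (0 : ℤ) ≤ g := Int.natCast_nonneg _
    have hprod : 0 ≤ ((m : ℤ) - 1) * (Divisor.deg D - 1) :=
      mul_nonneg (by linarith) (by linarith)
    have hd : (m : ℤ) - 1 ≤ m * Divisor.deg D - Divisor.deg D := by nlinarith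
    have hA := ell_eq_of_deg_ge hK (m • D + D) (by rw [deg_add, hdegn, ← hg]; linarith)
    have hB := ell_eq_of_deg_ge hK (m • D) (by rw [hdegn, ← hg]; linarith)
    have hC := ell_eq_of_deg_ge hK (m • D - D) (by rw [deg_sub, hdegn, ← hg]; linarith)
    rw [hA, hB, hC, deg_add, deg_sub, hdegn]
    ring
  have hmain : ∀ m : ℕ, 2 * g + 1 ≤ m → ∀ z ∈ L (m • D),
      z ∈ Submodule.span (Algebra.adjoin k (Set.range ψ)) (L ((2 * g + 1) • D) : Set K) := by
    intro m hm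
    induction m, hm using Nat.le_induction with
    | base => intro z hz; exact Submodule.subset_span hz
    | succ m hm ih =>
      intro z hz
      obtain ⟨a, ha, b, hb, rfl⟩ := hstep m hm z hz
      rw [one_mul]
      refine Submodule.add_mem _ (ih a ha) ?_
      have e : s₂ * b = (⟨s₂, hs₂A⟩ : Algebra.adjoin k (Set.range ψ)) • b := rfl
      rw [e]
      exact Submodule.smul_mem _ _ (ih b hb)
  intro m z hz
  by_cases hm : 2 * g + 1 ≤ m
  · exact hmain m hm z hz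
  · apply Submodule.subset_span
    exact L_mono (nsmul_le_nsmul_left hDnn (by omega)) hz

omit [IsAlgClosed k] in
/-- A function whose poles lie in the support of the effective divisor `D` is in some
`L (m D)`. -/
theorem exists_mem_L_nsmul (hK : IsFunctionField k K) {D : Divisor k K} (hD : 0 ≤ D) {z : K}
    (hz : ∀ Q : Place k K, D Q = 0 → Q.1 z ≤ 1) : ∃ m : ℕ, z ∈ L (m • D) := by
  classical
  by_cases hz0 : z = 0
  · exact ⟨0, by rw [hz0]; exact Submodule.zero_mem _⟩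
  have hfin := finite_support_ord hK z
  refine ⟨hfin.toFinset.sup (fun Q => (-Q.ord z).toNat), ?_⟩
  rw [mem_L]
  intro Q
  rw [Finsupp.smul_apply, nsmul_eq_mul]
  by_cases hDQ : D Q = 0
  · rw [hDQ, mul_zero, exp_zero]; exact hz Q hDQ
  · have hDQ0 : 0 ≤ D Q := hD Q
    have hDQ1 : 1 ≤ D Q := by omega
    rw [Q.val_eq_exp_neg_ord hz0, exp_le_exp]
    have hM0 : (0 : ℤ) ≤ (hfin.toFinset.sup (fun Q => (-Q.ord z).toNat) : ℕ) :=
      Int.natCast_nonneg _
    have hmul : ((hfin.toFinset.sup (fun Q => (-Q.ord z).toNat) : ℕ) : ℤ) * 1 ≤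
        (hfin.toFinset.sup (fun Q => (-Q.ord z).toNat) : ℕ) * D Q :=
      mul_le_mul_of_nonneg_left hDQ1 hM0
    by_cases hord : Q.ord z = 0
    · rw [hord]; linarith
    · have hQT : Q ∈ hfin.toFinset := by rw [Set.Finite.mem_toFinset]; exact hord
      have h1 : (-Q.ord z).toNat ≤ hfin.toFinset.sup (fun Q => (-Q.ord z).toNat) :=
        Finset.le_sup (f := fun Q => (-Q.ord z).toNat) hQT
      have h2 : -Q.ord z ≤ ((-Q.ord z).toNat : ℤ) := Int.self_le_toNat _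
      have h3 : ((-Q.ord z).toNat : ℤ) ≤
          (hfin.toFinset.sup (fun Q => (-Q.ord z).toNat) : ℕ) := by exact_mod_cast h1
      linarith

omit [IsAlgClosed k] in
/-- Clearing the poles outside the support of `D` by a denominator that is a unit at `P`. -/
theorem exists_unit_mul_mem_L (hK : IsFunctionField k K) {D : Divisor k K} (hD : 0 ≤ D)
    (A : Subalgebra k K) (hAint : ∀ Q : Place k K, D Q = 0 → ∀ u ∈ A, Q.1 u ≤ 1)
    (P : Place k K)
    (hfib : ∀ Q : Place k K, Q ≠ P → D Q = 0 → ∃ w ∈ A, P.1 w = 1 ∧ Q.1 w < 1)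
    {z : K} (hz : P.1 z ≤ 1) : ∃ w ∈ A, P.1 w = 1 ∧ ∃ m : ℕ, z * w ∈ L (m • D) := by
  classical
  by_cases hz0 : z = 0
  · exact ⟨1, one_mem _, map_one _, 0, by rw [hz0, zero_mul]; exact Submodule.zero_mem _⟩
  have hex : ∀ Q : Place k K, ∃ w ∈ A, P.1 w = 1 ∧ (Q ≠ P → D Q = 0 → Q.1 w < 1) := by
    intro Q
    by_cases h : Q ≠ P ∧ D Q = 0
    · obtain ⟨w, hw, hw1, hwQ⟩ := hfib Q h.1 h.2
      exact ⟨w, hw, hw1, fun _ _ => hwQ⟩
    · exact ⟨1, one_mem _, map_one _, fun h1 h2 => absurd ⟨h1, h2⟩ h⟩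
  choose wf hwfA hwf1 hwfQ using hex
  have hfin := finite_support_ord hK z
  set T : Finset (Place k K) := hfin.toFinset.filter (fun Q => D Q = 0) with hT
  set w₀ : K := ∏ Q ∈ T, wf Q with hw₀
  have hw₀A : w₀ ∈ A := Subalgebra.prod_mem _ (fun Q _ => hwfA Q)
  have hw₀1 : P.1 w₀ = 1 := by
    rw [hw₀, map_prod]
    exact Finset.prod_eq_one (fun Q _ => hwf1 Q)
  set N : ℕ := T.sup (fun Q => (-Q.ord z).toNat) with hN
  refine ⟨w₀ ^ N, pow_mem hw₀A N, by rw [map_pow, hw₀1, one_pow], ?_⟩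
  apply exists_mem_L_nsmul hK hD
  intro Q hDQ
  have hw₀Q : Q.1 w₀ ≤ 1 := hAint Q hDQ w₀ hw₀A
  rw [map_mul, map_pow]
  by_cases hzQ : Q.1 z ≤ 1
  · calc Q.1 z * Q.1 w₀ ^ N ≤ 1 * 1 := mul_le_mul' hzQ (pow_le_one' hw₀Q N)
      _ = 1 := one_mul 1
  · push Not at hzQ
    have hQP : Q ≠ P := fun h => absurd hz (not_le.mpr (h ▸ hzQ))
    have hordneg : Q.ord z < 0 := (Q.ord_neg_iff hz0).mpr hzQ
    have hQT : Q ∈ T := by
      rw [hT, Finset.mem_filter, Set.Finite.mem_toFinset]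
      exact ⟨by rw [Function.mem_support]; omega, hDQ⟩
    have hwfQ' : Q.1 (wf Q) < 1 := hwfQ Q hQP hDQ
    have hw₀lt : Q.1 w₀ ≤ exp (-1 : ℤ) := by
      rw [← lt_one_iff_le_exp_neg_one]
      rw [hw₀, map_prod, ← Finset.mul_prod_erase T _ hQT]
      calc Q.1 (wf Q) * ∏ x ∈ T.erase Q, Q.1 (wf x) ≤ Q.1 (wf Q) * 1 :=
            mul_le_mul' le_rfl (Finset.prod_le_one' (fun x _ => hAint Q hDQ _ (hwfA x)))
        _ = Q.1 (wf Q) := mul_one _
        _ < 1 := hwfQ'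
    have h1 : (-Q.ord z).toNat ≤ N := Finset.le_sup (f := fun Q => (-Q.ord z).toNat) hQT
    have h2 : -Q.ord z ≤ (N : ℤ) := by
      have h4 := Int.self_le_toNat (-Q.ord z)
      have h3 : ((-Q.ord z).toNat : ℤ) ≤ (N : ℤ) := by exact_mod_cast h1
      linarith
    calc Q.1 z * Q.1 w₀ ^ N ≤ exp (-Q.ord z) * exp (-1 : ℤ) ^ N :=
          mul_le_mul' (Q.val_eq_exp_neg_ord hz0).le (pow_le_pow_left' hw₀lt N)
      _ = exp (-Q.ord z + N • (-1 : ℤ)) := by rw [exp_add, exp_nsmul]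
      _ ≤ 1 := by
          rw [← exp_zero, exp_le_exp, nsmul_eq_mul]
          linarith

/-- The main criterion: if the local ring of `k[ψ]` at `P` separates `P` from the other places
and contains a local parameter at `P`, then it is the whole valuation ring. -/
theorem locSub_eq_of_separated_of_uniformizer (hK : IsFunctionField k K) {n : ℕ} (hn : 1 ≤ n)
    (ψ : Fin (n + 1) → K) (hψ : LinearIndependent k ψ) (j : Fin (n + 1)) (hj : ψ j = 1)
    (P : Place k K) (hP : ∀ i, P.1 (ψ i) ≤ 1)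
    (hfib : ∀ Q : Place k K, Q ≠ P → (∀ i, Q.1 (ψ i) ≤ 1) →
      ∃ w ∈ Algebra.adjoin k (Set.range ψ), P.1 w = 1 ∧ Q.1 w < 1)
    {t : K} (ht : t ∈ locSub (Algebra.adjoin k (Set.range ψ)) P) (htv : P.1 t = exp (-1 : ℤ))
    {z : K} (hz : P.1 z ≤ 1) : z ∈ locSub (Algebra.adjoin k (Set.range ψ)) P := by
  classical
  have hψ0 : ∀ i, ψ i ≠ 0 := fun i => hψ.ne_zero i
  obtain ⟨A, hA⟩ : ∃ A : Subalgebra k K, A = Algebra.adjoin k (Set.range ψ) := ⟨_, rfl⟩
  obtain ⟨D, hD⟩ : ∃ D : Divisor k K, D = mapDiv k ψ := ⟨_, rfl⟩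
  have hDnn : 0 ≤ D := hD ▸ mapDiv_nonneg_of_one hK ψ j hj
  have hDiff : ∀ Q : Place k K, D Q = 0 ↔ ∀ i, Q.1 (ψ i) ≤ 1 := fun Q =>
    hD ▸ mapDiv_eq_zero_iff_of_one hK ψ hψ0 j hj Q
  have hDP : D P = 0 := (hDiff P).mpr hP
  have hAint : ∀ Q : Place k K, D Q = 0 → ∀ u ∈ A, Q.1 u ≤ 1 := fun Q hQ u hu =>
    val_le_one_of_mem_adjoin Q (by rintro _ ⟨i, rfl⟩; exact (hDiff Q).mp hQ i) (hA ▸ hu)
  have hAP : ∀ u ∈ A, P.1 u ≤ 1 := hAint P hDP
  rw [← hA] at ht hfib ⊢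
  obtain ⟨R, hR⟩ : ∃ R : Subalgebra k K, R = locSub A P := ⟨_, rfl⟩
  rw [← hR] at ht ⊢
  have hRP : ∀ r ∈ R, P.1 r ≤ 1 := fun r hr => val_le_one_of_mem_locSub hAP (hR ▸ hr)
  have hAR : A ≤ R := hR ▸ le_locSub A P
  have hRinv : ∀ r ∈ R, P.1 r = 1 → r⁻¹ ∈ R := fun r hr hr1 => by
    rw [hR] at hr ⊢
    exact inv_mem_locSub hr hr1
  obtain ⟨m₀, hm₀⟩ := finiteness hK hn ψ hψ j hj
  rw [← hD, ← hA] at hm₀
  haveI := finiteDimensional_L hK (m₀ • D)
  obtain ⟨S, hS⟩ := (Module.Finite.iff_fg.mp (inferInstance : Module.Finite k (L (m₀ • D))))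
  obtain ⟨M, hM⟩ : ∃ M : Submodule R K, M = Submodule.span R (S : Set K) := ⟨_, rfl⟩
  have hMfg : M.FG := hM ▸ Submodule.fg_span S.finite_toSet
  have hVM : ∀ v ∈ L (m₀ • D), v ∈ M := by
    intro v hv
    rw [← hS] at hv
    rw [hM]
    induction hv using Submodule.span_induction with
    | mem x hx => exact Submodule.subset_span hx
    | zero => exact Submodule.zero_mem _
    | add x y _ _ hx hy => exact Submodule.add_mem _ hx hy
    | smul c x _ hx =>
      have e : c • x = (algebraMap k R c) • x := (algebraMap_smul R c x).symm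
      rw [e]
      exact Submodule.smul_mem _ _ hx
  have hAM : ∀ v ∈ Submodule.span A (L (m₀ • D) : Set K), v ∈ M := by
    intro v hv
    induction hv using Submodule.span_induction with
    | mem x hx => exact hVM x hx
    | zero => exact Submodule.zero_mem _
    | add x y _ _ hx hy => exact Submodule.add_mem _ hx hy
    | smul a x _ hx =>
      have e : a • x = (⟨a.1, hAR a.2⟩ : R) • x := rfl
      rw [e]
      exact Submodule.smul_mem _ _ hx
  have hOM : ∀ y : K, P.1 y ≤ 1 → y ∈ M := by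
    intro y hy
    obtain ⟨w, hw, hw1, m, hm⟩ := exists_unit_mul_mem_L hK hDnn A hAint P
      (fun Q hQP hQ => hfib Q hQP ((hDiff Q).mp hQ)) hy
    have h1 : y * w ∈ M := hAM _ (hm₀ m _ hm)
    have hw0 : w ≠ 0 := fun h0 => by rw [h0, map_zero] at hw1; exact zero_ne_one hw1
    have hwinv : w⁻¹ ∈ R := hRinv w (hAR hw) hw1
    have e : y = (⟨w⁻¹, hwinv⟩ : R) • (y * w) := by
      show y = w⁻¹ * (y * w)
      field_simp
    rw [e]
    exact Submodule.smul_mem _ _ h1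
  have hMO : ∀ y ∈ M, P.1 y ≤ 1 := by
    intro y hy
    rw [hM] at hy
    induction hy using Submodule.span_induction with
    | mem x hx =>
      have hxL : x ∈ L (m₀ • D) := by rw [← hS]; exact Submodule.subset_span hx
      have h5 := (mem_L.mp hxL) P
      rwa [Finsupp.smul_apply, hDP, smul_zero, exp_zero] at h5
    | zero => rw [map_zero]; exact zero_le_one
    | add x y _ _ hx hy => exact (P.1.map_add _ _).trans (max_le hx hy)
    | smul r x _ hx =>
      show P.1 ((r : K) * x) ≤ 1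
      rw [map_mul]
      calc _ ≤ 1 * 1 := mul_le_mul' (hRP r r.2) hx
        _ = 1 := one_mul 1
  -- the maximal ideal
  let I : Ideal R :=
    { carrier := {r | P.1 (r : K) < 1}
      add_mem' := fun {a b} ha hb => lt_of_le_of_lt (P.1.map_add _ _) (max_lt ha hb)
      zero_mem' := by
        show P.1 ((0 : R) : K) < 1
        rw [ZeroMemClass.coe_zero, map_zero]
        exact zero_lt_one
      smul_mem' := fun c x hx => by
        show P.1 ((c : K) * (x : K)) < 1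
        rw [map_mul]
        calc _ ≤ 1 * P.1 (x : K) := mul_le_mul' (hRP c c.2) le_rfl
          _ = P.1 (x : K) := one_mul _
          _ < 1 := hx }
  have hIjac : I ≤ Ideal.jacobson ⊥ := by
    intro x hx
    rw [Ideal.mem_jacobson_bot]
    intro y
    have hx' : P.1 (x : K) < 1 := hx
    have hxy : P.1 ((x : K) * (y : K)) < 1 := by
      rw [map_mul]
      calc _ ≤ P.1 (x : K) * 1 := mul_le_mul' le_rfl (hRP y y.2)
        _ = P.1 (x : K) := mul_one _
        _ < 1 := hx'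
    have hu1 : P.1 (((x * y + 1 : R)) : K) = 1 := by
      show P.1 ((x : K) * (y : K) + 1) = 1
      rw [add_comm]
      exact Valuation.map_one_add_of_lt P.1 hxy
    have hne : ((x * y + 1 : R) : K) ≠ 0 := fun h0 => by
      rw [h0, map_zero] at hu1; exact zero_ne_one hu1
    refine isUnit_iff_exists_inv.mpr
      ⟨⟨((x * y + 1 : R) : K)⁻¹, hRinv _ (x * y + 1).2 hu1⟩, ?_⟩
    exact Subtype.ext (mul_inv_cancel₀ hne)
  obtain ⟨N, hN⟩ : ∃ N : Submodule R K, N = Submodule.span R {(1 : K)} := ⟨_, rfl⟩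
  have ht0 : t ≠ 0 := fun h0 => by rw [h0, map_zero] at htv; exact exp_ne_zero htv.symm
  have hNN : M ≤ N ⊔ I • M := by
    intro y hy
    have hy1 := hMO y hy
    obtain ⟨c, hc⟩ := exists_sub_algebraMap_lt_one hK P hy1
    have hc' : P.1 (y - algebraMap k K c) ≤ exp (-1 : ℤ) := (lt_one_iff_le_exp_neg_one _).mp hc
    have hy' : P.1 ((y - algebraMap k K c) / t) ≤ 1 := by
      rw [map_div₀, htv]
      exact (div_le_one₀ (zero_lt_iff.mpr exp_ne_zero)).mpr hc'
    have hyM := hOM _ hy'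
    have htI : (⟨t, ht⟩ : R) ∈ I := by
      show P.1 t < 1
      rw [htv]; exact exp_neg_one_lt_one
    rw [Submodule.mem_sup]
    refine ⟨algebraMap k K c, ?_, (⟨t, ht⟩ : R) • ((y - algebraMap k K c) / t),
      Submodule.smul_mem_smul htI hyM, ?_⟩
    · have e : algebraMap k K c = (algebraMap k R c) • (1 : K) := by
        show algebraMap k K c = algebraMap k K c * 1
        rw [mul_one]
      rw [e, hN]
      exact Submodule.smul_mem _ _ (Submodule.subset_span rfl)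
    · show algebraMap k K c + t * ((y - algebraMap k K c) / t) = y
      field_simp
      ring
  have hMN := Submodule.le_of_le_smul_of_le_jacobson_bot hMfg hIjac hNN
  have hzN := hMN (hOM z hz)
  rw [hN, Submodule.mem_span_singleton] at hzN
  obtain ⟨a, ha⟩ := hzN
  have e : z = (a : K) := by
    rw [← ha]
    show (a : K) * 1 = (a : K)
    rw [mul_one]
  rw [e]
  exact a.2

end Finiteness

end FunFld
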