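import Mathlib
import Groth.Agent.Lib.FunFldLoc_helper2

/-! Local rings of projective maps (helper2), part B: criteria for nonsingularity. -/

open Module WithZero

namespace FunFld

variable {k K : Type*} [Field k] [Field K] [Algebra k K]

theorem exists_least_index {n : ℕ} (φ : Fin (n + 1) → K) (hφ : LinearIndependent k φ)
    (P : Place k K) :
    ∃ j, φ j ≠ 0 ∧ (∀ i, P.1 (φ i) ≤ P.1 (φ j)) ∧
      LinearIndependent k (fun i => φ i / φ j) ∧ (∀ i, P.1 (φ i / φ j) ≤ 1) := by
  obtain ⟨j, _, hj⟩ := Finset.exists_max_image Finset.univ (fun i => P.1 (φ i))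
    ⟨0, Finset.mem_univ 0⟩
  have hjP : ∀ i, P.1 (φ i) ≤ P.1 (φ j) := fun i => hj i (Finset.mem_univ i)
  have hj0 : φ j ≠ 0 := hφ.ne_zero j
  refine ⟨j, hj0, hjP, ?_, fun i => val_div_le_one P hj0 (hjP i)⟩
  have h1 := hφ.map' (LinearMap.mulLeft k (φ j)⁻¹)
    (LinearMap.ker_eq_bot.mpr (mul_right_injective₀ (inv_ne_zero hj0)))
  have e : (fun i => φ i / φ j) = (LinearMap.mulLeft k (φ j)⁻¹) ∘ φ := by
    funext i
    simp [div_eq_inv_mul]
  rw [e]; exact h1

theorem linearIndependent_div {n : ℕ} (φ : Fin (n + 1) → K) (hφ : LinearIndependent k φ)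
    (j : Fin (n + 1)) : LinearIndependent k (fun i => φ i / φ j) := by
  have hj0 : φ j ≠ 0 := hφ.ne_zero j
  have h1 := hφ.map' (LinearMap.mulLeft k (φ j)⁻¹)
    (LinearMap.ker_eq_bot.mpr (mul_right_injective₀ (inv_ne_zero hj0)))
  have e : (fun i => φ i / φ j) = (LinearMap.mulLeft k (φ j)⁻¹) ∘ φ := by
    funext i
    simp [div_eq_inv_mul]
  rw [e]; exact h1

theorem minOrd_eq_of_least {ι : Type*} [Fintype ι] [Nonempty ι] (P : Place k K) (φ : ι → K)
    (hφ0 : ∀ i, φ i ≠ 0) (j : ι) (hjP : ∀ i, P.1 (φ i) ≤ P.1 (φ j)) :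
    minOrd P φ = P.ord (φ j) := by
  apply le_antisymm
  · exact Finset.inf'_le _ (Finset.mem_univ j)
  · apply Finset.le_inf'
    intro i _
    have h1 := hjP i
    rw [P.val_eq_exp_neg_ord (hφ0 j)] at h1
    have h2 := (P.val_le_exp_iff (hφ0 i) _).mp h1
    omega

theorem sameImage_refl [IsAlgClosed k] (hK : IsFunctionField k K) {n : ℕ}
    (φ : Fin (n + 1) → K) (hφ : LinearIndependent k φ) (P : Place k K) : SameImage φ P P := by
  obtain ⟨j, hj0, hjP, -, hPψ⟩ := exists_least_index φ hφ P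
  refine ⟨j, hj0, hjP, hjP, fun i => ?_⟩
  obtain ⟨c, hc⟩ := exists_sub_algebraMap_lt_one hK P (hPψ i)
  exact ⟨c, hc, hc⟩

section Criteria

variable [IsAlgClosed k]

/-- Nonsingularity in terms of the fibre and a local parameter. -/
theorem isNonsingularAt_iff_fibre (hK : IsFunctionField k K) {n : ℕ} (hn : 1 ≤ n)
    (φ : Fin (n + 1) → K) (hφ : LinearIndependent k φ) (P : Place k K) :
    IsNonsingularAt φ P ↔ (∀ Q : Place k K, SameImage φ P Q → Q = P) ∧
      ∃ t : K, InLocRing φ P t ∧ P.1 t = exp (-1 : ℤ) := by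
  constructor
  · intro hns
    refine ⟨fun Q hQ => ?_, ?_⟩
    · have h1 := (sameImage_iff hK φ hφ P Q).mp hQ
      exact (Place.eq_of_forall_le_one (fun a ha => (h1 a (hns a ha)).1)).symm
    · obtain ⟨t, ht⟩ := P.exists_uniformizer
      exact ⟨t, hns t (by rw [ht]; exact exp_neg_one_lt_one.le), ht⟩
  · rintro ⟨hfibre, t, htloc, htv⟩
    obtain ⟨j, hj0, hjP, hψ, hPψ⟩ := exists_least_index φ hφ P
    intro z hz
    rw [inLocRing_iff φ P j hj0 hjP]
    have hfib : ∀ Q : Place k K, Q ≠ P → (∀ i, Q.1 (φ i / φ j) ≤ 1) →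
        ∃ w ∈ Algebra.adjoin k (Set.range fun i => φ i / φ j), P.1 w = 1 ∧ Q.1 w < 1 := by
      intro Q hQP hQψ
      have hns : ¬ SameImage φ P Q := fun h => hQP (hfibre Q h)
      have hjQ : ∀ i, Q.1 (φ i) ≤ Q.1 (φ j) := fun i =>
        val_le_of_val_div_le_one Q hj0 (hQψ i)
      have h2 : ¬ ∀ i, ∃ c : k, P.1 (φ i / φ j - algebraMap k K c) < 1 ∧
          Q.1 (φ i / φ j - algebraMap k K c) < 1 := fun h => hns ⟨j, hj0, hjP, hjQ, h⟩
      push Not at h2
      obtain ⟨i, hi⟩ := h2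
      obtain ⟨c, hc⟩ := exists_sub_algebraMap_lt_one hK Q (hQψ i)
      have h3 : 1 ≤ P.1 (φ i / φ j - algebraMap k K c) := by
        by_contra h4
        push Not at h4
        exact absurd hc (not_lt.mpr (hi c h4))
      have h5 : P.1 (φ i / φ j - algebraMap k K c) ≤ 1 :=
        (P.1.map_sub _ _).trans (max_le (hPψ i) (P.2.1 c))
      exact ⟨φ i / φ j - algebraMap k K c,
        sub_mem (Algebra.subset_adjoin ⟨i, rfl⟩) (Subalgebra.algebraMap_mem _ c),
        le_antisymm h5 h3, hc⟩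
    exact locSub_eq_of_separated_of_uniformizer hK hn _ hψ j (div_self hj0) P hPψ hfib
      ((inLocRing_iff φ P j hj0 hjP t).mp htloc) htv hz

/-- The local ring contains a local parameter iff some member of the linear system vanishes to
order exactly one more than the least order. -/
theorem exists_uniformizer_inLocRing_iff_ord (hK : IsFunctionField k K) {n : ℕ}
    (φ : Fin (n + 1) → K) (hφ : LinearIndependent k φ) (P : Place k K) :
    (∃ t : K, InLocRing φ P t ∧ P.1 t = exp (-1 : ℤ)) ↔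
      ∃ s ∈ Submodule.span k (Set.range φ), s ≠ 0 ∧ P.ord s = minOrd P φ + 1 := by
  obtain ⟨j, hj0, hjP, hψ, hPψ⟩ := exists_least_index φ hφ P
  have hφ0 : ∀ i, φ i ≠ 0 := fun i => hφ.ne_zero i
  have hmin : minOrd P φ = P.ord (φ j) := minOrd_eq_of_least P φ hφ0 j hjP
  constructor
  · rintro ⟨t, htloc, htv⟩
    obtain ⟨u, hu, w, hw, hw1, h⟩ := (inLocRing_iff φ P j hj0 hjP t).mp htloc
    have hfun : (fun i => (fun i => φ i / φ j) i / (fun i => φ i / φ j) j) =
        fun i => φ i / φ j := by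
      funext i
      show φ i / φ j / (φ j / φ j) = φ i / φ j
      rw [div_self hj0, div_one]
    have hψloc : InLocRing (fun i => φ i / φ j) P t := by
      refine ⟨j, ?_, ?_, u, ?_, w, ?_, hw1, h⟩
      · show φ j / φ j ≠ 0
        rw [div_self hj0]; exact one_ne_zero
      · intro i
        show P.1 (φ i / φ j) ≤ P.1 (φ j / φ j)
        rw [div_self hj0, map_one]; exact hPψ i
      · rw [hfun]; exact hu
      · rw [hfun]; exact hw
    have heff : (1 : K) ∈ Submodule.span k (Set.range fun i => φ i / φ j) :=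
      Submodule.subset_span ⟨j, div_self hj0⟩
    obtain ⟨t', ht'span, ht'v⟩ :=
      (exists_uniformizer_inLocRing_iff hK (fun i => φ i / φ j) P heff hPψ).mp ⟨t, hψloc, htv⟩
    have ht'0 : t' ≠ 0 := fun h0 => by
      rw [h0, map_zero] at ht'v; exact exp_ne_zero ht'v.symm
    have hmulspan : ∀ x ∈ Submodule.span k (Set.range fun i => φ i / φ j),
        φ j * x ∈ Submodule.span k (Set.range φ) := by
      intro x hx
      induction hx using Submodule.span_induction with
      | mem x hx =>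
        obtain ⟨i, rfl⟩ := hx
        have e : φ j * (φ i / φ j) = φ i := by field_simp
        rw [e]
        exact Submodule.subset_span ⟨i, rfl⟩
      | zero => rw [mul_zero]; exact Submodule.zero_mem _
      | add x y _ _ hx hy => rw [mul_add]; exact Submodule.add_mem _ hx hy
      | smul c x _ hx => rw [mul_smul_comm]; exact Submodule.smul_mem _ _ hx
    refine ⟨φ j * t', hmulspan t' ht'span, mul_ne_zero hj0 ht'0, ?_⟩
    rw [P.ord_mul hj0 ht'0, hmin]
    have h3 := P.val_eq_exp_neg_ord ht'0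
    rw [ht'v] at h3
    have h4 := exp_injective h3
    omega
  · rintro ⟨s, hs, hs0, hsord⟩
    have ht0 : s / φ j ≠ 0 := div_ne_zero hs0 hj0
    refine ⟨s / φ j, ⟨j, hj0, hjP, s / φ j, div_mem_adjoin_of_mem_span φ j hs, 1, one_mem _,
      map_one _, mul_one _⟩, ?_⟩
    rw [P.val_eq_exp_neg_ord ht0, div_eq_mul_inv, P.ord_mul hs0 (inv_ne_zero hj0), P.ord_inv,
      hsord, hmin]
    congr 1
    ring

/-- Nonsingularity in terms of the fibre and the linear system. -/
theorem isNonsingularAt_iff_fibre_ord (hK : IsFunctionField k K) {n : ℕ} (hn : 1 ≤ n)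
    (φ : Fin (n + 1) → K) (hφ : LinearIndependent k φ) (P : Place k K) :
    IsNonsingularAt φ P ↔ (∀ Q : Place k K, SameImage φ P Q → Q = P) ∧
      ∃ s ∈ Submodule.span k (Set.range φ), s ≠ 0 ∧ P.ord s = minOrd P φ + 1 := by
  rw [isNonsingularAt_iff_fibre hK hn φ hφ P, exists_uniformizer_inLocRing_iff_ord hK φ hφ P]

/-- For places with the same image, a member of the linear system vanishes at one iff it
vanishes at the other (relative to the least order). -/
theorem sameImage_ord_pos_iff (hK : IsFunctionField k K) {n : ℕ}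
    (φ : Fin (n + 1) → K) (hφ : LinearIndependent k φ) {P Q : Place k K}
    (h : SameImage φ P Q) {s : K} (hs : s ∈ Submodule.span k (Set.range φ)) (hs0 : s ≠ 0) :
    minOrd Q φ + 1 ≤ Q.ord s ↔ minOrd P φ + 1 ≤ P.ord s := by
  have hφ0 : ∀ i, φ i ≠ 0 := fun i => hφ.ne_zero i
  have h' := h
  obtain ⟨j, hj0, hjP, hjQ, -⟩ := h
  have hy : InLocRing φ P (s / φ j) :=
    ⟨j, hj0, hjP, s / φ j, div_mem_adjoin_of_mem_span φ j hs, 1, one_mem _, map_one _,
      mul_one _⟩
  have h1 := ((sameImage_iff hK φ hφ P Q).mp h' _ hy).2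
  have hy0 : s / φ j ≠ 0 := div_ne_zero hs0 hj0
  rw [← Q.ord_pos_iff hy0, ← P.ord_pos_iff hy0, div_eq_mul_inv,
    Q.ord_mul hs0 (inv_ne_zero hj0), P.ord_mul hs0 (inv_ne_zero hj0), Q.ord_inv, P.ord_inv] at h1
  rw [minOrd_eq_of_least P φ hφ0 j hjP, minOrd_eq_of_least Q φ hφ0 j hjQ]
  constructor
  · intro h2
    have := h1.mp (by omega)
    omega
  · intro h2
    have := h1.mpr (by omega)
    omega

omit [IsAlgClosed k] in
theorem minOrd_le_ord_of_mem_span (hK : IsFunctionField k K) {n : ℕ}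
    (φ : Fin (n + 1) → K) (hφ : LinearIndependent k φ) (Q : Place k K) {s : K}
    (hs : s ∈ Submodule.span k (Set.range φ)) (hs0 : s ≠ 0) : minOrd Q φ ≤ Q.ord s := by
  have h1 := mem_L_mapDiv_of_mem_span hK φ (fun i => hφ.ne_zero i) hs
  have h2 := (mem_L.mp h1) Q
  rw [mapDiv_apply hK] at h2
  have h3 := (Q.val_le_exp_iff hs0 _).mp h2
  omega

end Criteria

end FunFld
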