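import Mathlib
import Groth.Agent.Lib.FunFldLocB_helper2

/-! Local rings of projective maps (helper2), part C: the codimension-two criterion. -/

open Module WithZero

namespace FunFld

variable {k K : Type*} [Field k] [Field K] [Algebra k K] [IsAlgClosed k]

/-- One step of the order filtration on a finite-dimensional space of functions has
codimension at most one, and exactly one iff the bound is attained. -/
theorem finrank_inf_ball (hK : IsFunctionField k K) (U : Submodule k K)
    [FiniteDimensional k U] (P : Place k K) (m : ℤ) (hU : U ≤ ball P m) :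
    (Module.finrank k ↥(U ⊓ ball P (m - 1)) + 1 = Module.finrank k U ↔
        ∃ u ∈ U, P.1 u = exp m) ∧
      Module.finrank k U ≤ Module.finrank k ↥(U ⊓ ball P (m - 1)) + 1 := by
  classical
  have hle : U ⊓ ball P (m - 1) ≤ U := inf_le_left
  have hmono := Submodule.finrank_mono hle
  have hkey : ∀ u₀ ∈ U, P.1 u₀ = exp m →
      Module.finrank k U ≤ Module.finrank k ↥(U ⊓ ball P (m - 1)) + 1 ∧
        Module.finrank k ↥(U ⊓ ball P (m - 1)) < Module.finrank k U := by
    intro u₀ hu₀ hu₀v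
    have hu₀0 : u₀ ≠ 0 := fun h0 => by
      rw [h0, map_zero] at hu₀v; exact exp_ne_zero hu₀v.symm
    have hsup : U ≤ (U ⊓ ball P (m - 1)) ⊔ Submodule.span k {u₀} := by
      intro u hu
      have h1 : P.1 (u / u₀) ≤ 1 := by
        rw [map_div₀, hu₀v]
        exact (div_le_one₀ (zero_lt_iff.mpr exp_ne_zero)).mpr (hU hu)
      obtain ⟨c, hc⟩ := exists_sub_algebraMap_lt_one hK P h1
      have h2 : u - c • u₀ ∈ U ⊓ ball P (m - 1) := by
        refine ⟨U.sub_mem hu (U.smul_mem c hu₀), ?_⟩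
        show P.1 (u - c • u₀) ≤ exp (m - 1)
        have e : u - c • u₀ = u₀ * (u / u₀ - algebraMap k K c) := by
          rw [Algebra.smul_def]; field_simp
        rw [e, map_mul, hu₀v]
        calc exp m * P.1 (u / u₀ - algebraMap k K c) ≤ exp m * exp (-1 : ℤ) :=
              mul_le_mul' le_rfl ((lt_one_iff_le_exp_neg_one _).mp hc)
          _ = exp (m - 1) := by rw [← exp_add, sub_eq_add_neg]
      rw [Submodule.mem_sup]
      exact ⟨u - c • u₀, h2, c • u₀,
        Submodule.smul_mem _ _ (Submodule.mem_span_singleton_self u₀), sub_add_cancel _ _⟩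
    have h3 := Submodule.finrank_mono hsup
    have h4 := Submodule.finrank_add_le_finrank_add_finrank (U ⊓ ball P (m - 1))
      (Submodule.span k {u₀})
    have h5 : Module.finrank k (Submodule.span k {u₀}) = 1 := finrank_span_singleton hu₀0
    refine ⟨by omega, ?_⟩
    apply Submodule.finrank_lt_finrank_of_lt
    refine lt_of_le_of_ne hle (fun heq => ?_)
    have h6 : u₀ ∈ U ⊓ ball P (m - 1) := by rw [heq]; exact hu₀
    have h7 : P.1 u₀ ≤ exp (m - 1) := h6.2
    rw [hu₀v, exp_le_exp] at h7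
    omega
  by_cases hex : ∃ u ∈ U, P.1 u = exp m
  · obtain ⟨u₀, hu₀, hu₀v⟩ := hex
    obtain ⟨h1, h2⟩ := hkey u₀ hu₀ hu₀v
    exact ⟨⟨fun _ => ⟨u₀, hu₀, hu₀v⟩, fun _ => by omega⟩, h1⟩
  · have heq : U ⊓ ball P (m - 1) = U := by
      apply le_antisymm hle
      intro u hu
      refine ⟨hu, ?_⟩
      by_cases hu0 : u = 0
      · rw [hu0]; exact Submodule.zero_mem _
      · have h1 : P.1 u ≤ exp m := hU hu
        have h2 : P.1 u ≠ exp m := fun h => hex ⟨u, hu, h⟩
        show P.1 u ≤ exp (m - 1)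
        rw [P.val_eq_exp_neg_ord hu0] at h1 h2 ⊢
        rw [exp_le_exp] at h1 ⊢
        have h3 : -P.ord u ≠ m := fun h => h2 (by rw [h])
        omega
    refine ⟨⟨fun h => ?_, fun h => absurd h hex⟩, by rw [heq]; omega⟩
    rw [heq] at h
    omega

/-- The codimension-two criterion for nonsingularity. -/
theorem isNonsingularAt_iff_codim_two (hK : IsFunctionField k K) {n : ℕ} (hn : 1 ≤ n)
    (φ : Fin (n + 1) → K) (hφ : LinearIndependent k φ) (P : Place k K) :
    IsNonsingularAt φ P ↔ ∀ Q : Place k K,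
      Module.finrank k ↥(Submodule.span k (Set.range φ) ⊓
          L (mapDiv k φ - Finsupp.single P 1 - Finsupp.single Q 1)) + 2 =
        Module.finrank k ↥(Submodule.span k (Set.range φ)) := by
  classical
  have hφ0 : ∀ i, φ i ≠ 0 := fun i => hφ.ne_zero i
  rw [isNonsingularAt_iff_fibre_ord hK hn φ hφ P]
  have hWL0 : ∀ s ∈ Submodule.span k (Set.range φ), s ∈ L (mapDiv k φ) := fun s hs =>
    mem_L_mapDiv_of_mem_span hK φ hφ0 hs
  have hmem0 : ∀ i, φ i ∈ Submodule.span k (Set.range φ) := fun i =>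
    Submodule.subset_span ⟨i, rfl⟩
  haveI : FiniteDimensional k (Submodule.span k (Set.range φ)) :=
    FiniteDimensional.span_of_finite k (Set.finite_range φ)
  have hsame0 : ∀ {Q : Place k K}, SameImage φ P Q → ∀ {s : K},
      s ∈ Submodule.span k (Set.range φ) → s ≠ 0 →
      (minOrd Q φ + 1 ≤ Q.ord s ↔ minOrd P φ + 1 ≤ P.ord s) := fun h _ hs hs0 =>
    sameImage_ord_pos_iff hK φ hφ h hs hs0
  obtain ⟨W, hWdef⟩ : ∃ W : Submodule k K, W = Submodule.span k (Set.range φ) := ⟨_, rfl⟩
  obtain ⟨G, hGdef⟩ : ∃ G : Divisor k K, G = mapDiv k φ := ⟨_, rfl⟩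
  rw [← hWdef] at hWL0 hmem0 hsame0 ⊢
  rw [← hGdef] at hWL0 ⊢
  haveI : FiniteDimensional k W := by rw [hWdef]; infer_instance
  have hGapp : ∀ R : Place k K, G R = -minOrd R φ := fun R => by rw [hGdef, mapDiv_apply hK]
  have hWball : ∀ R : Place k K, W ≤ ball R (G R) := fun R s hs => (hWL0 s hs) R
  obtain ⟨j, hj0, hjP, -, hPψ⟩ := exists_least_index φ hφ P
  have hφjP : P.1 (φ j) = exp (G P) := by
    rw [P.val_eq_exp_neg_ord hj0, hGapp, minOrd_eq_of_least P φ hφ0 j hjP]
  obtain ⟨U₁, hU₁def⟩ : ∃ U₁ : Submodule k K, U₁ = W ⊓ ball P (G P - 1) := ⟨_, rfl⟩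
  have hU₁W : U₁ ≤ W := hU₁def ▸ inf_le_left
  have hrankW : Module.finrank k U₁ + 1 = Module.finrank k W := by
    rw [hU₁def]
    exact ((finrank_inf_ball hK W P (G P) (hWball P)).1).mpr ⟨φ j, hmem0 j, hφjP⟩
  haveI : FiniteDimensional k U₁ := Submodule.finiteDimensional_of_le hU₁W
  -- the condition at `P`
  have hCP : (Module.finrank k ↥(W ⊓ L (G - Finsupp.single P 1 - Finsupp.single P 1)) + 2 =
      Module.finrank k W) ↔ ∃ s ∈ W, s ≠ 0 ∧ P.ord s = minOrd P φ + 1 := by
    have hE1 : W ⊓ L (G - Finsupp.single P 1 - Finsupp.single P 1) =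
        U₁ ⊓ ball P (G P - 1 - 1) := by
      rw [hU₁def]
      ext s
      simp only [Submodule.mem_inf, mem_ball]
      constructor
      · rintro ⟨hsW, hsL⟩
        have h1 := (mem_L.mp hsL) P
        rw [Finsupp.sub_apply, Finsupp.sub_apply, Finsupp.single_eq_same] at h1
        exact ⟨⟨hsW, h1.trans (exp_le_exp.mpr (by omega))⟩, h1⟩
      · rintro ⟨⟨hsW, -⟩, hs2⟩
        refine ⟨hsW, mem_L.mpr fun R => ?_⟩
        by_cases hR : R = P
        · rw [hR, Finsupp.sub_apply, Finsupp.sub_apply, Finsupp.single_eq_same]; exact hs2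
        · rw [Finsupp.sub_apply, Finsupp.sub_apply, single_apply_ne (Ne.symm hR), sub_zero,
            sub_zero]
          exact (hWL0 s hsW) R
    have hU₁ball : U₁ ≤ ball P (G P - 1) := hU₁def ▸ inf_le_right
    have h2 := (finrank_inf_ball hK U₁ P (G P - 1) hU₁ball).1
    rw [hE1]
    constructor
    · intro h
      obtain ⟨u, hu, huv⟩ := h2.mp (by omega)
      have hu0 : u ≠ 0 := fun h0 => by rw [h0, map_zero] at huv; exact exp_ne_zero huv.symm
      refine ⟨u, hU₁W hu, hu0, ?_⟩
      rw [P.val_eq_exp_neg_ord hu0] at huv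
      have h3 := exp_injective huv
      rw [hGapp] at h3
      omega
    · rintro ⟨s, hsW, hs0, hsord⟩
      have hsv : P.1 s = exp (G P - 1) := by
        rw [P.val_eq_exp_neg_ord hs0, hsord, hGapp]; congr 1; ring
      have hsU₁ : s ∈ U₁ := by rw [hU₁def]; exact ⟨hsW, hsv.le⟩
      have h3 := h2.mpr ⟨s, hsU₁, hsv⟩
      omega
  -- the condition at `Q ≠ P`
  have hCQ : ∀ Q : Place k K, Q ≠ P →
      ((Module.finrank k ↥(W ⊓ L (G - Finsupp.single P 1 - Finsupp.single Q 1)) + 2 =
        Module.finrank k W) ↔ ¬ SameImage φ P Q) := by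
    intro Q hQP
    have hE2 : W ⊓ L (G - Finsupp.single P 1 - Finsupp.single Q 1) =
        U₁ ⊓ ball Q (G Q - 1) := by
      rw [hU₁def]
      ext s
      simp only [Submodule.mem_inf, mem_ball]
      constructor
      · rintro ⟨hsW, hsL⟩
        have h1 := (mem_L.mp hsL) P
        rw [Finsupp.sub_apply, Finsupp.sub_apply, Finsupp.single_eq_same,
          single_apply_ne hQP, sub_zero] at h1
        have h2 := (mem_L.mp hsL) Q
        rw [Finsupp.sub_apply, Finsupp.sub_apply, Finsupp.single_eq_same,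
          single_apply_ne (Ne.symm hQP), sub_zero] at h2
        exact ⟨⟨hsW, h1⟩, h2⟩
      · rintro ⟨⟨hsW, hs1⟩, hs2⟩
        refine ⟨hsW, mem_L.mpr fun R => ?_⟩
        by_cases hRP : R = P
        · rw [hRP, Finsupp.sub_apply, Finsupp.sub_apply, Finsupp.single_eq_same,
            single_apply_ne hQP, sub_zero]
          exact hs1
        · by_cases hRQ : R = Q
          · rw [hRQ, Finsupp.sub_apply, Finsupp.sub_apply, Finsupp.single_eq_same,
              single_apply_ne (Ne.symm hQP), sub_zero]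
            exact hs2
          · rw [Finsupp.sub_apply, Finsupp.sub_apply, single_apply_ne (Ne.symm hRP),
              single_apply_ne (Ne.symm hRQ), sub_zero, sub_zero]
            exact (hWL0 s hsW) R
    have hU₁ball : U₁ ≤ ball Q (G Q) := fun s hs => hWball Q (hU₁W hs)
    have h2 := (finrank_inf_ball hK U₁ Q (G Q) hU₁ball).1
    rw [hE2]
    have hmk : ∀ i (c : k), P.1 (φ i / φ j - algebraMap k K c) < 1 → φ i - c • φ j ∈ U₁ := by
      intro i c hc
      rw [hU₁def]
      refine ⟨W.sub_mem (hmem0 i) (W.smul_mem c (hmem0 j)), ?_⟩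
      show P.1 (φ i - c • φ j) ≤ exp (G P - 1)
      have e : φ i - c • φ j = φ j * (φ i / φ j - algebraMap k K c) := by
        rw [Algebra.smul_def]; field_simp
      rw [e, map_mul, hφjP]
      calc exp (G P) * P.1 (φ i / φ j - algebraMap k K c) ≤ exp (G P) * exp (-1 : ℤ) :=
            mul_le_mul' le_rfl ((lt_one_iff_le_exp_neg_one _).mp hc)
        _ = exp (G P - 1) := by rw [← exp_add, sub_eq_add_neg]
    have hiff : (∃ u ∈ U₁, Q.1 u = exp (G Q)) ↔ ¬ SameImage φ P Q := by
      constructor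
      · rintro ⟨u, hu, huQ⟩ hsame
        have hu0 : u ≠ 0 := fun h0 => by rw [h0, map_zero] at huQ; exact exp_ne_zero huQ.symm
        have huW : u ∈ W := hU₁W hu
        have huP : P.1 u ≤ exp (G P - 1) := by
          rw [hU₁def] at hu; exact hu.2
        have h3 := (P.val_le_exp_iff hu0 _).mp huP
        rw [hGapp] at h3
        have h4 := (hsame0 hsame huW hu0).mpr (by omega)
        rw [Q.val_eq_exp_neg_ord hu0] at huQ
        have h5 := exp_injective huQ
        rw [hGapp] at h5
        omega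
      · intro hns
        by_cases hjQ : ∀ i, Q.1 (φ i) ≤ Q.1 (φ j)
        · have h3 : ¬ ∀ i, ∃ c : k, P.1 (φ i / φ j - algebraMap k K c) < 1 ∧
              Q.1 (φ i / φ j - algebraMap k K c) < 1 := fun h => hns ⟨j, hj0, hjP, hjQ, h⟩
          push Not at h3
          obtain ⟨i, hi⟩ := h3
          obtain ⟨c, hc⟩ := exists_sub_algebraMap_lt_one hK P (hPψ i)
          have h4 : 1 ≤ Q.1 (φ i / φ j - algebraMap k K c) := hi c hc
          have h5 : Q.1 (φ i / φ j - algebraMap k K c) ≤ 1 :=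
            (Q.1.map_sub _ _).trans (max_le (val_div_le_one Q hj0 (hjQ i)) (Q.2.1 c))
          refine ⟨φ i - c • φ j, hmk i c hc, ?_⟩
          have e : φ i - c • φ j = φ j * (φ i / φ j - algebraMap k K c) := by
            rw [Algebra.smul_def]; field_simp
          rw [e, map_mul, le_antisymm h5 h4, mul_one, Q.val_eq_exp_neg_ord hj0, hGapp,
            minOrd_eq_of_least Q φ hφ0 j hjQ]
        · push Not at hjQ
          obtain ⟨i₁, hi₁⟩ := hjQ
          obtain ⟨i₀, _, hi₀⟩ := Finset.exists_max_image Finset.univ (fun i => Q.1 (φ i))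
            ⟨0, Finset.mem_univ 0⟩
          have hi₀Q : ∀ i, Q.1 (φ i) ≤ Q.1 (φ i₀) := fun i => hi₀ i (Finset.mem_univ i)
          have hlt : Q.1 (φ j) < Q.1 (φ i₀) := lt_of_lt_of_le hi₁ (hi₀Q i₁)
          obtain ⟨c, hc⟩ := exists_sub_algebraMap_lt_one hK P (hPψ i₀)
          refine ⟨φ i₀ - c • φ j, hmk i₀ c hc, ?_⟩
          have h6 : Q.1 (c • φ j) < Q.1 (φ i₀) := by
            rw [Algebra.smul_def, map_mul]
            calc Q.1 (algebraMap k K c) * Q.1 (φ j) ≤ 1 * Q.1 (φ j) :=
                  mul_le_mul' (Q.2.1 c) le_rfl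
              _ = Q.1 (φ j) := one_mul _
              _ < Q.1 (φ i₀) := hlt
          rw [Valuation.map_sub_eq_of_lt_left Q.1 h6, Q.val_eq_exp_neg_ord (hφ0 i₀), hGapp,
            minOrd_eq_of_least Q φ hφ0 i₀ hi₀Q]
    rw [← hiff, ← h2]
    omega
  constructor
  · rintro ⟨hfibre, hs⟩ Q
    by_cases hQP : Q = P
    · rw [hQP]; exact hCP.mpr hs
    · exact (hCQ Q hQP).mpr (fun h => hQP (hfibre Q h))
  · intro h
    refine ⟨fun Q hQ => ?_, hCP.mp (h P)⟩
    by_contra hQP
    exact (hCQ Q hQP).mp (h Q) hQ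

end FunFld
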