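import Mathlib
import Groth.Agent.Lib.FunFldLocC_helper2

/-! Local rings of projective maps (helper2), part D: common denominators and the conductor. -/

open Module WithZero

namespace FunFld

variable {k K : Type*} [Field k] [Field K] [Algebra k K]

/-- Clearing the poles outside the support of `D` by a denominator that is a unit at `P`
(version with separation only required at the poles of `z`). -/
theorem exists_unit_mul_mem_L' (hK : IsFunctionField k K) {D : Divisor k K} (hD : 0 ≤ D)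
    (A : Subalgebra k K) (hAint : ∀ Q : Place k K, D Q = 0 → ∀ u ∈ A, Q.1 u ≤ 1)
    (P : Place k K) {z : K}
    (hsep : ∀ Q : Place k K, D Q = 0 → 1 < Q.1 z → ∃ w ∈ A, P.1 w = 1 ∧ Q.1 w < 1) :
    ∃ w ∈ A, P.1 w = 1 ∧ ∃ m : ℕ, z * w ∈ L (m • D) := by
  classical
  by_cases hz0 : z = 0
  · exact ⟨1, one_mem _, map_one _, 0, by rw [hz0, zero_mul]; exact Submodule.zero_mem _⟩
  have hex : ∀ Q : Place k K, ∃ w ∈ A, P.1 w = 1 ∧ (D Q = 0 → 1 < Q.1 z → Q.1 w < 1) := by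
    intro Q
    by_cases h : D Q = 0 ∧ 1 < Q.1 z
    · obtain ⟨w, hw, hw1, hwQ⟩ := hsep Q h.1 h.2
      exact ⟨w, hw, hw1, fun _ _ => hwQ⟩
    · exact ⟨1, one_mem _, map_one _, fun h1 h2 => absurd ⟨h1, h2⟩ h⟩
  choose wf hwfA hwf1 hwfQ using hex
  have hfin := finite_support_ord hK z
  set T : Finset (Place k K) := hfin.toFinset.filter (fun Q => D Q = 0) with hT
  set w₀ : K := ∏ Q ∈ T, wf Q with hw₀
  have hw₀A : w₀ ∈ A := Subalgebra.prod_mem _ (fun Q _ => hwfA Q)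
  have hw₀1 : P.1 w₀ = 1 := by
    rw [hw₀, map_prod]
    exact Finset.prod_eq_one (fun Q _ => hwf1 Q)
  set N : ℕ := T.sup (fun Q => (-Q.ord z).toNat) with hN
  refine ⟨w₀ ^ N, pow_mem hw₀A N, by rw [map_pow, hw₀1, one_pow], ?_⟩
  apply exists_mem_L_nsmul hK hD
  intro Q hDQ
  have hw₀Q : Q.1 w₀ ≤ 1 := hAint Q hDQ w₀ hw₀A
  rw [map_mul, map_pow]
  by_cases hzQ : Q.1 z ≤ 1
  · calc Q.1 z * Q.1 w₀ ^ N ≤ 1 * 1 := mul_le_mul' hzQ (pow_le_one' hw₀Q N)
      _ = 1 := one_mul 1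
  · push Not at hzQ
    have hordneg : Q.ord z < 0 := (Q.ord_neg_iff hz0).mpr hzQ
    have hQT : Q ∈ T := by
      rw [hT, Finset.mem_filter, Set.Finite.mem_toFinset]
      exact ⟨by rw [Function.mem_support]; omega, hDQ⟩
    have hwfQ' : Q.1 (wf Q) < 1 := hwfQ Q hDQ hzQ
    have hw₀lt : Q.1 w₀ ≤ exp (-1 : ℤ) := by
      rw [← lt_one_iff_le_exp_neg_one]
      rw [hw₀, map_prod, ← Finset.mul_prod_erase T _ hQT]
      calc Q.1 (wf Q) * ∏ x ∈ T.erase Q, Q.1 (wf x) ≤ Q.1 (wf Q) * 1 :=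
            mul_le_mul' le_rfl (Finset.prod_le_one' (fun x _ => hAint Q hDQ _ (hwfA x)))
        _ = Q.1 (wf Q) := mul_one _
        _ < 1 := hwfQ'
    have h1 : (-Q.ord z).toNat ≤ N := Finset.le_sup (f := fun Q => (-Q.ord z).toNat) hQT
    have h2 : -Q.ord z ≤ (N : ℤ) := by
      have h4 := Int.self_le_toNat (-Q.ord z)
      have h3 : ((-Q.ord z).toNat : ℤ) ≤ (N : ℤ) := by exact_mod_cast h1
      linarith
    calc Q.1 z * Q.1 w₀ ^ N ≤ exp (-Q.ord z) * exp (-1 : ℤ) ^ N :=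
          mul_le_mul' (Q.val_eq_exp_neg_ord hz0).le (pow_le_pow_left' hw₀lt N)
      _ = exp (-Q.ord z + N • (-1 : ℤ)) := by rw [exp_add, exp_nsmul]
      _ ≤ 1 := by
          rw [← exp_zero, exp_le_exp, nsmul_eq_mul]
          linarith

variable [IsAlgClosed k]

/-- A common denominator: for a birational `ψ` containing `1`, some nonzero `d₀ ∈ k[ψ]`
multiplies every function with poles only along `[ψ]` into `k[ψ]`. -/
theorem exists_denominator (hK : IsFunctionField k K) {n : ℕ} (hn : 1 ≤ n)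
    (ψ : Fin (n + 1) → K) (hψ : LinearIndependent k ψ) (j : Fin (n + 1)) (hj : ψ j = 1)
    (hbir : IntermediateField.adjoin k (Set.range ψ) = ⊤) :
    ∃ d₀ ∈ Algebra.adjoin k (Set.range ψ), d₀ ≠ 0 ∧
      ∀ m : ℕ, ∀ z ∈ L (m • mapDiv k ψ), d₀ * z ∈ Algebra.adjoin k (Set.range ψ) := by
  classical
  obtain ⟨A, hA⟩ : ∃ A : Subalgebra k K, A = Algebra.adjoin k (Set.range ψ) := ⟨_, rfl⟩
  obtain ⟨D, hD⟩ : ∃ D : Divisor k K, D = mapDiv k ψ := ⟨_, rfl⟩
  obtain ⟨m₀, hm₀⟩ := finiteness hK hn ψ hψ j hj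
  rw [← hD, ← hA] at hm₀ ⊢
  haveI := finiteDimensional_L hK (m₀ • D)
  obtain ⟨S, hS⟩ :=
    (Module.Finite.iff_fg.mp (inferInstance : Module.Finite k (L (m₀ • D))))
  have hfrac : ∀ s : K, ∃ d ∈ A, d ≠ 0 ∧ d * s ∈ A := by
    intro s
    have hs : s ∈ IntermediateField.adjoin k (Set.range ψ) := by rw [hbir]; trivial
    obtain ⟨r, hr, d, hd, rfl⟩ := IntermediateField.mem_adjoin_iff_div.mp hs
    by_cases hd0 : d = 0
    · exact ⟨1, one_mem _, one_ne_zero, by rw [hd0, div_zero, mul_zero]; exact zero_mem _⟩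
    · refine ⟨d, hA ▸ hd, hd0, ?_⟩
      have e : d * (r / d) = r := by field_simp
      rw [e]; exact hA ▸ hr
  choose df hdfA hdf0 hdfs using hfrac
  obtain ⟨d₀, hd₀def⟩ : ∃ d₀ : K, d₀ = ∏ s ∈ S, df s := ⟨_, rfl⟩
  have hd₀A : d₀ ∈ A := by
    rw [hd₀def]; exact Subalgebra.prod_mem _ (fun s _ => hdfA s)
  have hd₀0 : d₀ ≠ 0 := by
    rw [hd₀def]; exact Finset.prod_ne_zero_iff.mpr (fun s _ => hdf0 s)
  have hd₀S : ∀ s ∈ S, d₀ * s ∈ A := by
    intro s hs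
    have e : d₀ * s = (∏ x ∈ S.erase s, df x) * (df s * s) := by
      rw [hd₀def, ← Finset.mul_prod_erase S _ hs]; ring
    rw [e]
    exact mul_mem (Subalgebra.prod_mem _ (fun x _ => hdfA x)) (hdfs s)
  have hd₀V : ∀ v ∈ L (m₀ • D), d₀ * v ∈ A := by
    intro v hv
    rw [← hS] at hv
    induction hv using Submodule.span_induction with
    | mem x hx => exact hd₀S x hx
    | zero => rw [mul_zero]; exact zero_mem _
    | add x y _ _ hx hy => rw [mul_add]; exact add_mem hx hy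
    | smul c x _ hx => rw [mul_smul_comm]; exact Subalgebra.smul_mem _ hx c
  have hd₀span : ∀ y ∈ Submodule.span A (L (m₀ • D) : Set K), d₀ * y ∈ A := by
    intro y hy
    induction hy using Submodule.span_induction with
    | mem x hx => exact hd₀V x hx
    | zero => rw [mul_zero]; exact zero_mem _
    | add x y _ _ hx hy => rw [mul_add]; exact add_mem hx hy
    | smul a x _ hx =>
      have e : d₀ * (a • x) = (a : K) * (d₀ * x) := by
        show d₀ * ((a : K) * x) = (a : K) * (d₀ * x); ring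
      rw [e]; exact mul_mem a.2 hx
  exact ⟨d₀, hd₀A, hd₀0, fun m z hz => hd₀span _ (hm₀ m z hz)⟩

/-- Places with different images are separated by the affine coordinate ring. -/
theorem exists_separating_of_not_sameImage (hK : IsFunctionField k K) {n : ℕ}
    (φ : Fin (n + 1) → K) (P Q : Place k K) (j : Fin (n + 1)) (hj0 : φ j ≠ 0)
    (hjP : ∀ i, P.1 (φ i) ≤ P.1 (φ j)) (hQψ : ∀ i, Q.1 (φ i / φ j) ≤ 1)
    (hns : ¬ SameImage φ P Q) :
    ∃ w ∈ Algebra.adjoin k (Set.range fun i => φ i / φ j), P.1 w = 1 ∧ Q.1 w < 1 := by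
  have hPψ : ∀ i, P.1 (φ i / φ j) ≤ 1 := fun i => val_div_le_one P hj0 (hjP i)
  have hjQ : ∀ i, Q.1 (φ i) ≤ Q.1 (φ j) := fun i =>
    val_le_of_val_div_le_one Q hj0 (hQψ i)
  have h2 : ¬ ∀ i, ∃ c : k, P.1 (φ i / φ j - algebraMap k K c) < 1 ∧
      Q.1 (φ i / φ j - algebraMap k K c) < 1 := fun h => hns ⟨j, hj0, hjP, hjQ, h⟩
  push Not at h2
  obtain ⟨i, hi⟩ := h2
  obtain ⟨c, hc⟩ := exists_sub_algebraMap_lt_one hK Q (hQψ i)
  have h3 : 1 ≤ P.1 (φ i / φ j - algebraMap k K c) := by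
    by_contra h4
    push Not at h4
    exact absurd hc (not_lt.mpr (hi c h4))
  have h5 : P.1 (φ i / φ j - algebraMap k K c) ≤ 1 :=
    (P.1.map_sub _ _).trans (max_le (hPψ i) (P.2.1 c))
  exact ⟨φ i / φ j - algebraMap k K c,
    sub_mem (Algebra.subset_adjoin ⟨i, rfl⟩) (Subalgebra.algebraMap_mem _ c),
    le_antisymm h5 h3, hc⟩

omit [IsAlgClosed k] in
/-- Birationality does not depend on the index of the denominator. -/
theorem adjoin_div_eq_top {n : ℕ} (φ : Fin (n + 1) → K) (j₀ j : Fin (n + 1)) (hj : φ j ≠ 0)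
    (hbir : IntermediateField.adjoin k (Set.range fun i => φ i / φ j₀) = ⊤) :
    IntermediateField.adjoin k (Set.range fun i => φ i / φ j) = ⊤ := by
  rw [eq_top_iff, ← hbir, IntermediateField.adjoin_le_iff]
  rintro _ ⟨i, rfl⟩
  by_cases h0 : φ j₀ = 0
  · show φ i / φ j₀ ∈ _
    rw [h0, div_zero]; exact zero_mem _
  · have e : φ i / φ j₀ = (φ i / φ j) / (φ j₀ / φ j) := by field_simp
    show φ i / φ j₀ ∈ _
    rw [e]
    exact div_mem (IntermediateField.subset_adjoin k _ ⟨i, rfl⟩)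
      (IntermediateField.subset_adjoin k _ ⟨j₀, rfl⟩)

/-- The conductor: functions vanishing to high order along the fibre lie in the local ring. -/
theorem exists_bound_inLocRing (hK : IsFunctionField k K) {n : ℕ} (hn : 1 ≤ n)
    (φ : Fin (n + 1) → K) (hφ : LinearIndependent k φ)
    (hbir : IntermediateField.adjoin k (Set.range fun i => φ i / φ 0) = ⊤) (P : Place k K) :
    ∃ N : ℕ, ∀ z : K, (∀ Q : Place k K, SameImage φ P Q → Q.1 z ≤ exp (-(N : ℤ))) →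
      InLocRing φ P z := by
  classical
  obtain ⟨j, hj0, hjP, hψ, hPψ⟩ := exists_least_index φ hφ P
  have hbirj := adjoin_div_eq_top φ 0 j hj0 hbir
  have hψ0 : ∀ i, (fun i => φ i / φ j) i ≠ 0 := fun i => hψ.ne_zero i
  have hψj : (fun i => φ i / φ j) j = 1 := div_self hj0
  obtain ⟨d₀, hd₀A, hd₀0, hd₀⟩ := exists_denominator hK hn _ hψ j hψj hbirj
  obtain ⟨A, hA⟩ : ∃ A : Subalgebra k K, A = Algebra.adjoin k (Set.range fun i => φ i / φ j) :=
    ⟨_, rfl⟩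
  obtain ⟨D, hD⟩ : ∃ D : Divisor k K, D = mapDiv k (fun i => φ i / φ j) := ⟨_, rfl⟩
  rw [← hA] at hd₀A
  rw [← hA, ← hD] at hd₀
  have hDnn : 0 ≤ D := hD ▸ mapDiv_nonneg_of_one hK _ j hψj
  have hDiff : ∀ Q : Place k K, D Q = 0 ↔ ∀ i, Q.1 (φ i / φ j) ≤ 1 := fun Q =>
    hD ▸ mapDiv_eq_zero_iff_of_one hK _ hψ0 j hψj Q
  have hAint : ∀ Q : Place k K, D Q = 0 → ∀ u ∈ A, Q.1 u ≤ 1 := fun Q hQ u hu =>
    val_le_one_of_mem_adjoin Q (by rintro _ ⟨i, rfl⟩; exact (hDiff Q).mp hQ i) (hA ▸ hu)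
  have hF : {Q : Place k K | SameImage φ P Q}.Finite :=
    (finite_zeroPlaces_and_fibre hK hn φ hφ).2 P
  have hFint : ∀ Q : Place k K, SameImage φ P Q → ∀ i, Q.1 (φ i / φ j) ≤ 1 := by
    intro Q hQ i
    have hloc : InLocRing φ P (φ i / φ j) :=
      ⟨j, hj0, hjP, φ i / φ j, Algebra.subset_adjoin ⟨i, rfl⟩, 1, one_mem _, map_one _,
        mul_one _⟩
    exact ((sameImage_iff hK φ hφ P Q).mp hQ _ hloc).1
  refine ⟨hF.toFinset.sup (fun Q => (Q.ord d₀).toNat), ?_⟩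
  intro z hz
  rw [inLocRing_iff φ P j hj0 hjP, ← hA]
  have hyF : ∀ Q : Place k K, SameImage φ P Q → Q.1 (z / d₀) ≤ 1 := by
    intro Q hQ
    have h1 := hz Q hQ
    have hQmem : Q ∈ hF.toFinset := by rw [Set.Finite.mem_toFinset]; exact hQ
    have h2 : (Q.ord d₀).toNat ≤ hF.toFinset.sup (fun Q => (Q.ord d₀).toNat) :=
      Finset.le_sup (f := fun Q => (Q.ord d₀).toNat) hQmem
    have h3 : Q.ord d₀ ≤ ((Q.ord d₀).toNat : ℤ) := Int.self_le_toNat _
    have h4 : ((Q.ord d₀).toNat : ℤ) ≤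
        (hF.toFinset.sup (fun Q => (Q.ord d₀).toNat) : ℕ) := by exact_mod_cast h2
    rw [map_div₀, Q.val_eq_exp_neg_ord hd₀0]
    rw [div_le_one₀ (zero_lt_iff.mpr exp_ne_zero)]
    exact h1.trans (exp_le_exp.mpr (by linarith))
  have hsep : ∀ Q : Place k K, D Q = 0 → 1 < Q.1 (z / d₀) →
      ∃ w ∈ A, P.1 w = 1 ∧ Q.1 w < 1 := by
    intro Q hDQ hpole
    have hns : ¬ SameImage φ P Q := fun h => absurd (hyF Q h) (not_le.mpr hpole)
    have := exists_separating_of_not_sameImage hK φ P Q j hj0 hjP ((hDiff Q).mp hDQ) hns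
    rw [← hA] at this
    exact this
  obtain ⟨w, hw, hw1, m, hm⟩ := exists_unit_mul_mem_L' hK hDnn A hAint P hsep
  have h1 := hd₀ m _ hm
  have e : d₀ * (z / d₀ * w) = z * w := by field_simp
  rw [e] at h1
  exact ⟨z * w, h1, w, hw, hw1, rfl⟩

end FunFld
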