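import Mathlib
import Groth.Agent.Lib.FunFldLocD_helper2

/-! Plane models (helper2): the genus bound `g ≤ (d-1)(d-2)/2`. -/

open Module WithZero IntermediateField

namespace FunFld

variable {k K : Type*} [Field k] [Field K] [Algebra k K]

theorem pow_mem_L_nsmul {D : Divisor k K} (hD : 0 ≤ D) {x : K} (hx : x ∈ L D) (a : ℕ) :
    x ^ a ∈ L (a • D) := by
  induction a with
  | zero =>
    rw [pow_zero, zero_smul]
    exact one_mem_L le_rfl
  | succ a ih =>
    rw [pow_succ, succ_nsmul]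
    exact mul_mem_L ih hx

theorem two_mul_sum_range_sub_int (m : ℕ) : ∀ n : ℕ, n ≤ m + 1 →
    2 * ∑ i ∈ Finset.range n, ((m + 1 - i : ℕ) : ℤ) = 2 * (n : ℤ) * (m + 1) - n * (n - 1) := by
  intro n
  induction n with
  | zero => intro _; simp
  | succ n ih =>
    intro hn
    have h1 := ih (by omega)
    rw [Finset.sum_range_succ, mul_add, h1]
    have h2 : ((m + 1 - n : ℕ) : ℤ) = (m : ℤ) + 1 - n := by
      rw [Nat.cast_sub (by omega)]; push_cast; ring
    rw [h2]
    push_cast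
    ring

/-- The core estimate: a plane model `(1 : ℓ : y)` whose divisor `D` is the pole divisor of
`ℓ` gives `2g ≤ (d-1)(d-2)`. -/
theorem two_mul_genus_le_core (hK : IsFunctionField k K) (ℓ y : K) (hℓ : Transcendental k ℓ)
    (hgen : IntermediateField.adjoin k ({ℓ, y} : Set K) = ⊤) (D : Divisor k K) (hD : 0 ≤ D)
    (hℓD : ℓ ∈ L D) (hyD : y ∈ L D)
    (hdeg : Divisor.deg D = (Module.finrank k⟮ℓ⟯ K : ℤ)) :
    2 * (genus k K : ℤ) ≤ (Divisor.deg D - 1) * (Divisor.deg D - 2) := by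
  classical
  haveI hfd : FiniteDimensional k⟮ℓ⟯ K := finiteDimensional_of_transcendental hK hℓ
  have hdpos : 0 < Module.finrank k⟮ℓ⟯ K := Module.finrank_pos
  -- `y` generates `K` over `k(ℓ)`
  have htop : k⟮ℓ⟯⟮y⟯ = ⊤ := by
    rw [← IntermediateField.restrictScalars_eq_top_iff (K := k), IntermediateField.adjoin_adjoin_left,
      ← hgen]
    congr 1
  have hyint : IsIntegral k⟮ℓ⟯ y := IsIntegral.of_finite _ _
  have hnat : (minpoly k⟮ℓ⟯ y).natDegree = Module.finrank k⟮ℓ⟯ K := by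
    rw [← IntermediateField.adjoin.finrank hyint, htop, IntermediateField.finrank_top']
  -- independent families
  have hc : LinearIndependent k⟮ℓ⟯ fun i : Fin (minpoly k⟮ℓ⟯ y).natDegree => y ^ (i : ℕ) :=
    linearIndependent_pow y
  have hgentr : Transcendental k (AdjoinSimple.gen k ℓ) := by
    intro halg
    apply hℓ
    have := halg.algebraMap (A := K)
    rwa [AdjoinSimple.algebraMap_gen] at this
  have hb : LinearIndependent k fun a : ℕ => (AdjoinSimple.gen k ℓ) ^ a := by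
    have h1 := (Polynomial.basisMonomials k).linearIndependent.map'
      (Polynomial.aeval (AdjoinSimple.gen k ℓ)).toLinearMap
      (LinearMap.ker_eq_bot.mpr (transcendental_iff_injective.mp hgentr))
    have e : (fun a : ℕ => (AdjoinSimple.gen k ℓ) ^ a) =
        (Polynomial.aeval (AdjoinSimple.gen k ℓ)).toLinearMap ∘ (Polynomial.basisMonomials k) := by
      funext a
      simp [Polynomial.coe_basisMonomials]
    rw [e]; exact h1
  have hprod := linearIndependent_smul hb hc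
  -- the degree
  obtain ⟨d, hd⟩ : ∃ d : ℕ, d = Module.finrank k⟮ℓ⟯ K := ⟨_, rfl⟩
  obtain ⟨g, hg⟩ : ∃ g : ℕ, g = genus k K := ⟨_, rfl⟩
  rw [← hd] at hdeg hdpos hnat
  rw [← hg, hdeg]
  obtain ⟨m, hm⟩ : ∃ m : ℕ, m = 2 * g + d := ⟨_, rfl⟩
  -- the index type
  let ι := Σ b : Fin (minpoly k⟮ℓ⟯ y).natDegree, Fin (m + 1 - (b : ℕ))
  let emb : ι → ℕ × Fin (minpoly k⟮ℓ⟯ y).natDegree := fun p => ((p.2 : ℕ), p.1)
  have hemb : Function.Injective emb := by
    rintro ⟨b, a⟩ ⟨b', a'⟩ h
    have h1 : b = b' := (Prod.ext_iff.mp h).2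
    subst h1
    have h2 : (a : ℕ) = (a' : ℕ) := (Prod.ext_iff.mp h).1
    rw [Fin.ext h2]
  have hv := hprod.comp emb hemb
  have hvmem : ∀ p : ι, ((fun p : ℕ × Fin (minpoly k⟮ℓ⟯ y).natDegree =>
      (AdjoinSimple.gen k ℓ) ^ p.1 • y ^ (p.2 : ℕ)) ∘ emb) p ∈ L (m • D) := by
    rintro ⟨b, a⟩
    show (AdjoinSimple.gen k ℓ) ^ (a : ℕ) • y ^ (b : ℕ) ∈ L (m • D)
    rw [Algebra.smul_def, map_pow, AdjoinSimple.algebraMap_gen]
    have h1 := mul_mem_L (pow_mem_L_nsmul hD hℓD (a : ℕ)) (pow_mem_L_nsmul hD hyD (b : ℕ))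
    rw [← add_nsmul] at h1
    have h2 : (a : ℕ) + (b : ℕ) ≤ m := by
      have := a.2
      omega
    exact L_mono (nsmul_le_nsmul_left hD h2) h1
  haveI := finiteDimensional_L hK (m • D)
  have hv' : LinearIndependent k (fun p : ι => (⟨_, hvmem p⟩ : L (m • D))) :=
    LinearIndependent.of_comp (L (m • D)).subtype hv
  have hcard := hv'.fintype_card_le_finrank
  have hcardι : Fintype.card ι = ∑ b : Fin (minpoly k⟮ℓ⟯ y).natDegree, (m + 1 - (b : ℕ)) := by
    rw [Fintype.card_sigma]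
    exact Finset.sum_congr rfl (fun b _ => Fintype.card_fin _)
  have hsum : (2 : ℤ) * (Fintype.card ι : ℤ) = 2 * (d : ℤ) * (m + 1) - d * (d - 1) := by
    rw [hcardι, Fin.sum_univ_eq_sum_range (fun i => m + 1 - i) (minpoly k⟮ℓ⟯ y).natDegree, hnat]
    push_cast [Nat.cast_sum]
    exact two_mul_sum_range_sub_int m d (by omega)
  have hRR := ell_eq_of_deg_ge hK (m • D) (by
    rw [deg_nsmul, hdeg, ← hg, hm]
    push_cast
    have h1 : (1 : ℤ) ≤ d := by exact_mod_cast hdpos
    have h2 : (0 : ℤ) ≤ g := Int.natCast_nonneg _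
    nlinarith)
  rw [deg_nsmul, hdeg, ← hg] at hRR
  have hcard' : (Fintype.card ι : ℤ) ≤ (ell (m • D) : ℤ) := by
    unfold ell
    exact_mod_cast hcard
  rw [hRR] at hcard'
  nlinarith

variable [IsAlgClosed k]

omit [IsAlgClosed k] in
theorem adjoin_pair_eq_top_of_linear {x y ℓ : K}
    (hxy : IntermediateField.adjoin k ({x, y} : Set K) = ⊤) (c₀ c₁ c₂ : k)
    (hℓ : ℓ = c₀ • (1 : K) + c₁ • x + c₂ • y) (hc₂ : c₂ ≠ 0) :
    IntermediateField.adjoin k ({ℓ, x} : Set K) = ⊤ := by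
  rw [eq_top_iff, ← hxy, IntermediateField.adjoin_le_iff]
  intro z hz
  have hℓmem : ℓ ∈ IntermediateField.adjoin k ({ℓ, x} : Set K) :=
    IntermediateField.subset_adjoin k _ (Set.mem_insert _ _)
  have hxmem : x ∈ IntermediateField.adjoin k ({ℓ, x} : Set K) :=
    IntermediateField.subset_adjoin k _ (Set.mem_insert_of_mem _ rfl)
  rcases hz with rfl | hz
  · exact hxmem
  · rw [Set.mem_singleton_iff] at hz
    subst hz
    have e : z = c₂⁻¹ • (ℓ - algebraMap k K c₀ - c₁ • x) := by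
      rw [hℓ, Algebra.algebraMap_eq_smul_one]
      have : c₀ • (1 : K) + c₁ • x + c₂ • z - c₀ • (1 : K) - c₁ • x = c₂ • z := by ring
      rw [this, inv_smul_smul₀ hc₂]
    show z ∈ IntermediateField.adjoin k ({ℓ, x} : Set K)
    rw [e]
    exact IntermediateField.smul_mem _ (sub_mem (sub_mem hℓmem (IntermediateField.algebraMap_mem _ c₀))
      (IntermediateField.smul_mem _ hxmem))

/-- The genus bound for a plane model with nonzero coordinates. -/
theorem two_mul_genus_le_plane_aux (hK : IsFunctionField k K) (x y : K) (hx0 : x ≠ 0) (hy0 : y ≠ 0)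
    (hxy : IntermediateField.adjoin k ({x, y} : Set K) = ⊤) :
    2 * (genus k K : ℤ) ≤
      (Divisor.deg (mapDiv k ![(1 : K), x, y]) - 1) *
        (Divisor.deg (mapDiv k ![(1 : K), x, y]) - 2) := by
  classical
  obtain ⟨φ, hφdef⟩ : ∃ φ : Fin 3 → K, φ = ![(1 : K), x, y] := ⟨_, rfl⟩
  rw [← hφdef]
  have hφ0 : ∀ i, φ i ≠ 0 := by
    intro i
    rw [hφdef]
    fin_cases i
    · exact one_ne_zero
    · exact hx0
    · exact hy0
  have hφ00 : φ 0 = 1 := by rw [hφdef]; rfl
  have hφ1 : φ 1 = x := by rw [hφdef]; rfl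
  have hφ2 : φ 2 = y := by rw [hφdef]; rfl
  obtain ⟨D, hD⟩ : ∃ D : Divisor k K, D = mapDiv k φ := ⟨_, rfl⟩
  rw [← hD]
  have hDnn : 0 ≤ D := hD ▸ mapDiv_nonneg_of_one hK φ 0 hφ00
  have hspanL : ∀ f ∈ Submodule.span k (Set.range φ), f ∈ L D := fun f hf =>
    hD ▸ mem_L_mapDiv_of_mem_span hK φ hφ0 hf
  have hxL : x ∈ L D := hspanL x (hφ1 ▸ Submodule.subset_span ⟨1, rfl⟩)
  have hyL : y ∈ L D := hspanL y (hφ2 ▸ Submodule.subset_span ⟨2, rfl⟩)
  -- some coordinate has a pole
  have hpole : ∃ Q : Place k K, 1 ≤ D Q := by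
    have hex : ∃ z ∈ ({x, y} : Set K), Transcendental k z := by
      by_contra hno
      push Not at hno
      have hle : IntermediateField.adjoin k ({x, y} : Set K) ≤ ⊥ := by
        rw [IntermediateField.adjoin_le_iff]
        intro z hz
        have halg : IsAlgebraic k z := by
          by_contra h
          exact hno z hz h
        obtain ⟨c, rfl⟩ := hK.2 z halg
        exact IntermediateField.algebraMap_mem _ c
      rw [hxy] at hle
      obtain ⟨t, ht, -⟩ := hK.1
      have htbot : t ∈ (⊥ : IntermediateField k K) := hle (IntermediateField.mem_top)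
      rw [IntermediateField.mem_bot] at htbot
      obtain ⟨c, rfl⟩ := htbot
      exact ht (isAlgebraic_algebraMap c)
    obtain ⟨z, hz, hztr⟩ := hex
    have hzL : z ∈ L D := by
      rcases hz with rfl | hz
      · exact hxL
      · rw [Set.mem_singleton_iff] at hz; rw [hz]; exact hyL
    have hz0 : z ≠ 0 := fun h => hztr (h ▸ isAlgebraic_zero)
    obtain ⟨Q, hQ⟩ := exists_place_val_lt_one hK (transcendental_inv hK hztr)
    refine ⟨Q, ?_⟩
    have h1 : 1 < Q.1 z := by
      rw [map_inv₀] at hQ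
      have hpos : 0 < Q.1 z := zero_lt_iff.mpr ((Q.1.ne_zero_iff).mpr hz0)
      exact (inv_lt_one₀ hpos).mp hQ
    have h2 := (mem_L.mp hzL) Q
    have h3 := lt_of_lt_of_le h1 h2
    rw [← exp_zero, exp_lt_exp] at h3
    omega
  obtain ⟨Q₁, hQ₁⟩ := hpole
  obtain ⟨ℓ, hℓspan, hℓ0, hℓord⟩ := exists_mem_span_ord_eq_minOrd hK φ hφ0 D.support
  have hDapp : ∀ Q : Place k K, D Q = -minOrd Q φ := fun Q => by rw [hD, mapDiv_apply hK]
  have hQ₁supp : Q₁ ∈ D.support := Finsupp.mem_support_iff.mpr (by omega)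
  have hℓtr : Transcendental k ℓ := by
    apply transcendental_of_ord_ne_zero hK (P := Q₁)
    rw [hℓord Q₁ hQ₁supp]
    have := hDapp Q₁
    omega
  have hℓL : ℓ ∈ L D := hspanL ℓ hℓspan
  have hpoleDiv : poleDiv k ℓ = D := by
    ext Q
    rw [poleDiv_apply hK]
    by_cases hQ : Q ∈ D.support
    · rw [hℓord Q hQ]
      have h1 := hDapp Q
      have h2 : 0 ≤ D Q := hDnn Q
      rw [max_eq_left (by omega)]
      omega
    · have h0 : D Q = 0 := Finsupp.notMem_support_iff.mp hQ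
      have h1 := (mem_L.mp hℓL) Q
      rw [h0, exp_zero] at h1
      have h2 := (Q.ord_nonneg_iff hℓ0).mpr h1
      rw [h0, max_eq_right (by omega)]
  have hdeg : Divisor.deg D = (Module.finrank k⟮ℓ⟯ K : ℤ) := by
    rw [← hpoleDiv]; exact deg_poleDiv_eq hK hℓtr
  obtain ⟨c, hc⟩ := (Submodule.mem_span_range_iff_exists_fun k).mp hℓspan
  rw [Fin.sum_univ_three, hφ00, hφ1, hφ2] at hc
  by_cases hc₂ : c 2 = 0
  · by_cases hc₁ : c 1 = 0
    · exfalso
      apply hℓtr
      rw [← hc, hc₂, hc₁, zero_smul, zero_smul, add_zero, add_zero, ← Algebra.algebraMap_eq_smul_one]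
      exact isAlgebraic_algebraMap _
    · have hyx : IntermediateField.adjoin k ({y, x} : Set K) = ⊤ := by
        rw [Set.pair_comm]; exact hxy
      have hℓeq : ℓ = c 0 • (1 : K) + c 2 • y + c 1 • x := by rw [← hc]; abel
      have hgen := adjoin_pair_eq_top_of_linear hyx (c 0) (c 2) (c 1) hℓeq hc₁
      exact two_mul_genus_le_core hK ℓ y hℓtr hgen D hDnn hℓL hyL hdeg
  · have hgen := adjoin_pair_eq_top_of_linear hxy (c 0) (c 1) (c 2) hc.symm hc₂
    exact two_mul_genus_le_core hK ℓ x hℓtr hgen D hDnn hℓL hxL hdeg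

omit [IsAlgClosed k] in
theorem mapDiv_congr_ord (hK : IsFunctionField k K) {ι : Type*} [Fintype ι] [Nonempty ι]
    (φ ψ : ι → K) (h : ∀ (Q : Place k K) i, Q.ord (φ i) = Q.ord (ψ i)) :
    mapDiv k φ = mapDiv k ψ := by
  ext Q
  rw [mapDiv_apply hK, mapDiv_apply hK]
  unfold minOrd
  congr 2
  funext i
  exact h Q i

/-- The genus bound `2g ≤ (d-1)(d-2)` for a plane model `(1 : x : y)`. -/
theorem two_mul_genus_le_plane (hK : IsFunctionField k K) (x y : K)
    (hxy : IntermediateField.adjoin k ({x, y} : Set K) = ⊤) :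
    2 * (genus k K : ℤ) ≤
      (Divisor.deg (mapDiv k ![(1 : K), x, y]) - 1) *
        (Divisor.deg (mapDiv k ![(1 : K), x, y]) - 2) := by
  classical
  obtain ⟨x', hx'⟩ : ∃ x' : K, x' = if x = 0 then 1 else x := ⟨_, rfl⟩
  obtain ⟨y', hy'⟩ : ∃ y' : K, y' = if y = 0 then 1 else y := ⟨_, rfl⟩
  have hx'0 : x' ≠ 0 := by
    rw [hx']; split_ifs with h
    · exact one_ne_zero
    · exact h
  have hy'0 : y' ≠ 0 := by
    rw [hy']; split_ifs with h
    · exact one_ne_zero
    · exact h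
  have hordx : ∀ Q : Place k K, Q.ord x = Q.ord x' := fun Q => by
    rw [hx']; split_ifs with h
    · rw [h, Q.ord_zero, ord_one]
    · rfl
  have hordy : ∀ Q : Place k K, Q.ord y = Q.ord y' := fun Q => by
    rw [hy']; split_ifs with h
    · rw [h, Q.ord_zero, ord_one]
    · rfl
  have hmap : mapDiv k ![(1 : K), x, y] = mapDiv k ![(1 : K), x', y'] := by
    apply mapDiv_congr_ord hK
    intro Q i
    fin_cases i
    · rfl
    · exact hordx Q
    · exact hordy Q
  have hxy' : IntermediateField.adjoin k ({x', y'} : Set K) = ⊤ := by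
    rw [eq_top_iff, ← hxy, IntermediateField.adjoin_le_iff]
    intro z hz
    rcases hz with rfl | hz
    · by_cases h : z = 0
      · rw [h]; exact zero_mem _
      · have : x' = z := by rw [hx', if_neg h]
        rw [← this]
        exact IntermediateField.subset_adjoin k _ (Set.mem_insert _ _)
    · rw [Set.mem_singleton_iff] at hz
      subst hz
      by_cases h : z = 0
      · rw [h]; exact zero_mem _
      · have : y' = z := by rw [hy', if_neg h]
        rw [← this]
        exact IntermediateField.subset_adjoin k _ (Set.mem_insert_of_mem _ rfl)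
  rw [hmap]
  exact two_mul_genus_le_plane_aux hK x' y' hx'0 hy'0 hxy'

end FunFld
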