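import Mathlib
import Groth.Agent.Lib.FunFldPlane_helper2

/-! A second generator whose linear system contains local parameters everywhere (helper2). -/

open Module WithZero IntermediateField

namespace FunFld

variable {k K : Type*} [Field k] [Field K] [Algebra k K] [IsAlgClosed k]

omit [IsAlgClosed k] in
theorem transcendental_of_isSeparable_adjoin (hK : IsFunctionField k K) (x : K)
    [Algebra.IsSeparable k⟮x⟯ K] : Transcendental k x := by
  intro halg
  obtain ⟨t, ht, -⟩ := hK.1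
  apply ht
  haveI : Algebra.IsAlgebraic k k⟮x⟯ := IntermediateField.isAlgebraic_adjoin_simple halg.isIntegral
  have h1 : IsAlgebraic k⟮x⟯ t := (Algebra.IsSeparable.isIntegral k⟮x⟯ t).isAlgebraic
  exact h1.restrictScalars k

/-- For a separating variable `x` there is `y` with `K = k(x, y)` such that the span of
`1, x, y` contains a local parameter at every place. -/
theorem exists_generator_span_uniformizers (hK : IsFunctionField k K) (x : K)
    (hsep : Algebra.IsSeparable k⟮x⟯ K) :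
    ∃ y : K, IntermediateField.adjoin k ({x, y} : Set K) = ⊤ ∧
      ∀ P : Place k K, ∃ f ∈ Submodule.span k ({1, x, y} : Set K), P.1 f = exp (-1 : ℤ) := by
  classical
  haveI := hsep
  have hxtr : Transcendental k x := transcendental_of_isSeparable_adjoin hK x
  haveI hfd : FiniteDimensional k⟮x⟯ K := finiteDimensional_of_transcendental hK hxtr
  -- the bad places
  obtain ⟨δ, hδ⟩ := exists_derivation_of_D_ne_zero (D_ne_zero_of_isSeparable hK x)
  obtain ⟨Z₀, hZ₀fin, hZ₀⟩ := exists_finite_bad hK δ hδ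
  obtain ⟨Z, hZdef⟩ : ∃ Z : Finset (Place k K), Z = hZ₀fin.toFinset := ⟨_, rfl⟩
  have hZmem : ∀ P, P ∈ Z ↔ P ∈ Z₀ := fun P => by rw [hZdef, Set.Finite.mem_toFinset]
  -- an element of order one at the bad places
  haveI := infinite_place hK
  obtain ⟨P₀, hP₀⟩ := hZ₀fin.exists_notMem
  obtain ⟨g, hg⟩ : ∃ g : ℕ, g = genus k K := ⟨_, rfl⟩
  obtain ⟨G, hGdef⟩ : ∃ G : Divisor k K,
      G = Finsupp.single P₀ ((2 * g + Z.card : ℕ) : ℤ) - ∑ P ∈ Z, Finsupp.single P 1 := ⟨_, rfl⟩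
  have hGdeg : 2 * (genus k K : ℤ) ≤ Divisor.deg G := by
    rw [hGdef, deg_sub, deg_single, Place.deg_eq_one hK P₀, deg_sum_single hK Z, ← hg]
    push_cast
    linarith
  obtain ⟨y₀, hy₀L, hy₀0, hy₀ord⟩ := exists_mem_L_ord_eq hK hGdeg Z
  have hy₀Z : ∀ P ∈ Z, P.1 y₀ = exp (-1 : ℤ) := by
    intro P hP
    have hPP₀ : P₀ ≠ P := fun h => hP₀ (h ▸ (hZmem P).mp hP)
    rw [P.val_eq_exp_neg_ord hy₀0, hy₀ord P hP, hGdef, Finsupp.sub_apply, single_apply_ne hPP₀,
      sum_single_apply, if_pos hP]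
    norm_num
  -- a primitive element vanishing to high order at the bad places
  obtain ⟨θ, hθ⟩ := Field.exists_primitive_element k⟮x⟯ K
  -- a constant avoiding the values of `x` at the bad places
  have hc₀ : ∃ c₀ : k, ∀ P ∈ Z, 1 ≤ P.1 (x - algebraMap k K c₀) := by
    have hres : ∀ P : Place k K, ∃ c : k, P.1 x ≤ 1 → P.1 (x - algebraMap k K c) < 1 := by
      intro P
      by_cases h : P.1 x ≤ 1
      · obtain ⟨c, hc⟩ := exists_sub_algebraMap_lt_one hK P h
        exact ⟨c, fun _ => hc⟩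
      · exact ⟨0, fun h' => absurd h' h⟩
    choose r hr using hres
    haveI : Infinite k := IsAlgClosed.instInfinite
    obtain ⟨c₀, hc₀⟩ := Infinite.exists_notMem_finset (Z.image r)
    refine ⟨c₀, fun P hP => ?_⟩
    by_contra hlt
    push Not at hlt
    have hx1 : P.1 x ≤ 1 := by
      have e : x = (x - algebraMap k K c₀) + algebraMap k K c₀ := by ring
      rw [e]
      exact (P.1.map_add _ _).trans (max_le hlt.le (P.2.1 c₀))
    have h1 := hr P hx1
    -- both `c₀` and `r P` are residues of `x`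
    have h2 : P.1 (algebraMap k K (r P - c₀)) < 1 := by
      have e : algebraMap k K (r P - c₀) =
          (x - algebraMap k K c₀) - (x - algebraMap k K (r P)) := by
        rw [map_sub]; ring
      rw [e]
      exact lt_of_le_of_lt (P.1.map_sub _ _) (max_lt hlt h1)
    have h3 : r P - c₀ = 0 := by
      by_contra hne
      rw [P.val_algebraMap hne] at h2
      exact lt_irrefl _ h2
    apply hc₀
    rw [Finset.mem_image]
    exact ⟨P, hP, by rw [sub_eq_zero] at h3; exact h3⟩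
  obtain ⟨c₀, hc₀⟩ := hc₀
  have hxc₀ : x - algebraMap k K c₀ ≠ 0 := by
    intro h0
    apply hxtr
    rw [sub_eq_zero] at h0
    rw [h0]
    exact isAlgebraic_algebraMap c₀
  obtain ⟨x', hx'def⟩ : ∃ x' : K, x' = (x - algebraMap k K c₀)⁻¹ := ⟨_, rfl⟩
  have hxmem : x ∈ k⟮x⟯ := mem_adjoin_simple_self k x
  have hx'F : x' ∈ k⟮x⟯ := by
    rw [hx'def]
    exact inv_mem (sub_mem hxmem (IntermediateField.algebraMap_mem _ c₀))
  have hx'Z : ∀ P ∈ Z, P.1 x' ≤ 1 := by
    intro P hP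
    rw [hx'def, map_inv₀]
    exact inv_le_one_of_one_le₀ (hc₀ P hP)
  have hx'tr : Transcendental k x' := by
    intro halg
    apply hxtr
    have h1 : IsAlgebraic k (x'⁻¹ + algebraMap k K c₀) :=
      (halg.inv).add (isAlgebraic_algebraMap c₀)
    rw [hx'def, inv_inv, sub_add_cancel] at h1
    exact h1
  have hres' : ∀ P : Place k K, ∃ c : k, P ∈ Z → P.1 (x' - algebraMap k K c) < 1 := by
    intro P
    by_cases h : P ∈ Z
    · obtain ⟨c, hc⟩ := exists_sub_algebraMap_lt_one hK P (hx'Z P h)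
      exact ⟨c, fun _ => hc⟩
    · exact ⟨0, fun h' => absurd h' h⟩
  choose r' hr' using hres'
  obtain ⟨t, htdef⟩ : ∃ t : K, t = ∏ P ∈ Z, (x' - algebraMap k K (r' P)) := ⟨_, rfl⟩
  have htF : t ∈ k⟮x⟯ := by
    rw [htdef]
    exact prod_mem (fun P _ => sub_mem hx'F (IntermediateField.algebraMap_mem _ _))
  have ht0 : t ≠ 0 := by
    rw [htdef, Finset.prod_ne_zero_iff]
    intro P _ h0
    apply hx'tr
    rw [sub_eq_zero] at h0
    rw [h0]
    exact isAlgebraic_algebraMap _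
  have htZ : ∀ P ∈ Z, P.1 t ≤ exp (-1 : ℤ) := by
    intro P hP
    rw [← lt_one_iff_le_exp_neg_one, htdef, map_prod, ← Finset.mul_prod_erase Z _ hP]
    calc P.1 (x' - algebraMap k K (r' P)) * ∏ Q ∈ Z.erase P, P.1 (x' - algebraMap k K (r' Q))
        ≤ P.1 (x' - algebraMap k K (r' P)) * 1 :=
          mul_le_mul' le_rfl (Finset.prod_le_one' (fun Q _ =>
            (P.1.map_sub _ _).trans (max_le (hx'Z P hP) (P.2.1 _))))
      _ = P.1 (x' - algebraMap k K (r' P)) := mul_one _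
      _ < 1 := hr' P hP
  obtain ⟨N, hNdef⟩ : ∃ N : ℕ, N = Z.sup (fun P => (2 - P.ord θ).toNat) := ⟨_, rfl⟩
  obtain ⟨θ', hθ'def⟩ : ∃ θ' : K, θ' = t ^ N * θ := ⟨_, rfl⟩
  have hθ'Z : ∀ P ∈ Z, P.1 θ' ≤ exp (-2 : ℤ) := by
    intro P hP
    by_cases hθ0 : θ = 0
    · rw [hθ'def, hθ0, mul_zero, map_zero]; exact zero_le
    · have h1 : (2 - P.ord θ).toNat ≤ N := by
        rw [hNdef]; exact Finset.le_sup (f := fun P => (2 - P.ord θ).toNat) hP
      have h2 : 2 - P.ord θ ≤ ((2 - P.ord θ).toNat : ℤ) := Int.self_le_toNat _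
      have h3 : ((2 - P.ord θ).toNat : ℤ) ≤ (N : ℤ) := by exact_mod_cast h1
      rw [hθ'def, map_mul, map_pow, P.val_eq_exp_neg_ord hθ0]
      calc P.1 t ^ N * exp (-P.ord θ) ≤ exp (-1 : ℤ) ^ N * exp (-P.ord θ) :=
            mul_le_mul' (pow_le_pow_left' (htZ P hP) N) le_rfl
        _ = exp (N • (-1 : ℤ) + -P.ord θ) := by rw [exp_add, exp_nsmul]
        _ ≤ exp (-2 : ℤ) := by
            rw [exp_le_exp, nsmul_eq_mul]
            linarith
  have hθ'top : k⟮x⟯⟮θ'⟯ = ⊤ := by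
    rw [eq_top_iff, ← hθ, IntermediateField.adjoin_simple_le_iff]
    have h1 : θ' ∈ k⟮x⟯⟮θ'⟯ := mem_adjoin_simple_self _ θ'
    have h2 : t ^ N ∈ k⟮x⟯⟮θ'⟯ := by
      have : t ^ N = algebraMap k⟮x⟯ K (⟨t, htF⟩ ^ N) := by
        rw [map_pow]; rfl
      rw [this]
      exact IntermediateField.algebraMap_mem _ _
    have e : θ = (t ^ N)⁻¹ * θ' := by
      rw [hθ'def]
      field_simp
    rw [e]
    exact mul_mem (inv_mem h2) h1
  -- the pencil `y₀ + λ θ'`
  haveI : Algebra.IsAlgebraic k⟮x⟯ K := Algebra.IsAlgebraic.of_finite _ _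
  haveI hfinI : Finite (IntermediateField k⟮x⟯ K) :=
    Field.finite_intermediateField_of_exists_primitive_element k⟮x⟯ K ⟨θ, hθ⟩
  haveI : Infinite k := IsAlgClosed.instInfinite
  obtain ⟨c₁, c₂, hne, heq⟩ := Finite.exists_ne_map_eq_of_infinite
    (fun c : k => k⟮x⟯⟮y₀ + c • θ'⟯)
  have hEtop : k⟮x⟯⟮y₀ + c₁ • θ'⟯ = ⊤ := by
    have heq' : k⟮x⟯⟮y₀ + c₁ • θ'⟯ = k⟮x⟯⟮y₀ + c₂ • θ'⟯ := heq
    rw [eq_top_iff, ← hθ'top, IntermediateField.adjoin_simple_le_iff]
    have h1 : y₀ + c₁ • θ' ∈ k⟮x⟯⟮y₀ + c₁ • θ'⟯ := mem_adjoin_simple_self _ _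
    have h2 : y₀ + c₂ • θ' ∈ k⟮x⟯⟮y₀ + c₁ • θ'⟯ := by
      rw [heq']; exact mem_adjoin_simple_self _ _
    have h3 : (c₁ - c₂) • θ' ∈ k⟮x⟯⟮y₀ + c₁ • θ'⟯ := by
      have e : (c₁ - c₂) • θ' = (y₀ + c₁ • θ') - (y₀ + c₂ • θ') := by
        rw [sub_smul]; ring
      rw [e]
      exact sub_mem h1 h2
    have hc : c₁ - c₂ ≠ 0 := sub_ne_zero.mpr hne
    have h4 : algebraMap k K (c₁ - c₂)⁻¹ ∈ k⟮x⟯⟮y₀ + c₁ • θ'⟯ := by
      have : algebraMap k K (c₁ - c₂)⁻¹ = algebraMap k⟮x⟯ K (algebraMap k k⟮x⟯ (c₁ - c₂)⁻¹) := by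
        rw [← IsScalarTower.algebraMap_apply]
      rw [this]
      exact IntermediateField.algebraMap_mem _ _
    have e : θ' = algebraMap k K (c₁ - c₂)⁻¹ * ((c₁ - c₂) • θ') := by
      rw [Algebra.smul_def, ← mul_assoc, ← map_mul, inv_mul_cancel₀ hc, map_one, one_mul]
    have h5 := mul_mem h4 h3
    rwa [← e] at h5
  obtain ⟨y, hydef⟩ : ∃ y : K, y = y₀ + c₁ • θ' := ⟨_, rfl⟩
  rw [← hydef] at hEtop
  have hyZ : ∀ P ∈ Z, P.1 y = exp (-1 : ℤ) := by
    intro P hP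
    have h1 : P.1 (c₁ • θ') < P.1 y₀ := by
      rw [hy₀Z P hP, Algebra.smul_def, map_mul]
      calc P.1 (algebraMap k K c₁) * P.1 θ' ≤ 1 * exp (-2 : ℤ) :=
            mul_le_mul' (P.2.1 c₁) (hθ'Z P hP)
        _ = exp (-2 : ℤ) := one_mul _
        _ < exp (-1 : ℤ) := by rw [exp_lt_exp]; norm_num
    rw [hydef, Valuation.map_add_eq_of_lt_left P.1 h1, hy₀Z P hP]
  refine ⟨y, ?_, fun P => ?_⟩
  · rw [← IntermediateField.restrictScalars_eq_top_iff (K := k),
      IntermediateField.adjoin_adjoin_left] at hEtop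
    rw [← hEtop]
    congr 1
  · by_cases hP : P ∈ Z
    · exact ⟨y, Submodule.subset_span (by simp), hyZ P hP⟩
    · obtain ⟨-, c, hc⟩ := hZ₀ P (fun h => hP ((hZmem P).mpr h))
      refine ⟨x - algebraMap k K c, ?_, hc⟩
      rw [Algebra.algebraMap_eq_smul_one]
      exact Submodule.sub_mem _ (Submodule.subset_span (by simp))
        (Submodule.smul_mem _ _ (Submodule.subset_span (by simp)))

end FunFld
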