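import Mathlib
import Groth.Agent.Lib.FunFldGen_helper2

/-! Scalar extension of a geometric function field (helper2). -/

open Module TensorProduct IntermediateField

namespace FunFld

universe u v w

section ScalarExt

variable (k k' : Type u) (K : Type v) (K' : Type w) [Field k] [Field k'] [Field K] [Field K']
    [Algebra k k'] [Algebra k K] [Algebra K K'] [Algebra k' K'] [Algebra k K']
    [IsScalarTower k k' K'] [IsScalarTower k K K']

/-- The `k'`-algebra version of the product map. -/
noncomputable def prodLeft : k' ⊗[k] K →ₐ[k'] K' :=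
  Algebra.TensorProduct.productLeftAlgHom (Algebra.ofId k' K') (IsScalarTower.toAlgHom k K K')

theorem prodLeft_apply (τ : k' ⊗[k] K) :
    prodLeft k k' K K' τ = Algebra.TensorProduct.productMap
      (IsScalarTower.toAlgHom k k' K') (IsScalarTower.toAlgHom k K K') τ := by
  induction τ using TensorProduct.induction_on with
  | zero => simp
  | tmul c z => rfl
  | add a b ha hb => rw [map_add, map_add, ha, hb]

variable {k k' K K'}

theorem isGeometric_scalar_ext [FiniteDimensional k k']
    (h : Function.Bijective (Algebra.TensorProduct.productMap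
      (IsScalarTower.toAlgHom k k' K') (IsScalarTower.toAlgHom k K K')))
    (hg : IsGeometric k K) : IsGeometric k' K' := by
  intro k₂ _ _ hfd
  haveI := hfd
  letI : Algebra k k₂ := ((algebraMap k' k₂).comp (algebraMap k k')).toAlgebra
  haveI : IsScalarTower k k' k₂ := IsScalarTower.of_algebraMap_eq (fun _ => rfl)
  haveI : FiniteDimensional k k₂ := FiniteDimensional.trans k k' k₂
  have hF := hg k₂ inferInstance
  have hbij : Function.Bijective (prodLeft k k' K K') := by
    have e : ⇑(prodLeft k k' K K') = ⇑(Algebra.TensorProduct.productMap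
        (IsScalarTower.toAlgHom k k' K') (IsScalarTower.toAlgHom k K K')) :=
      funext (prodLeft_apply k k' K K')
    rw [e]; exact h
  let e' : (k' ⊗[k] K) ≃ₐ[k'] K' := AlgEquiv.ofBijective (prodLeft k k' K K') hbij
  let e₁ : k₂ ⊗[k'] K' ≃ₐ[k'] k₂ ⊗[k'] (k' ⊗[k] K) :=
    Algebra.TensorProduct.congr AlgEquiv.refl e'.symm
  let e₂ : k₂ ⊗[k'] (k' ⊗[k] K) ≃ₐ[k'] k₂ ⊗[k] K :=
    Algebra.TensorProduct.cancelBaseChange k k' k' k₂ K
  exact MulEquiv.isField hF (e₁.trans e₂).toMulEquiv

theorem algebraMap_mem_adjoin_of_mem_adjoin (x : K) {a : K} (ha : a ∈ k⟮x⟯) :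
    algebraMap K K' a ∈ k'⟮algebraMap K K' x⟯ := by
  induction ha using IntermediateField.adjoin_induction with
  | mem y hy =>
    rw [Set.mem_singleton_iff] at hy
    rw [hy]
    exact mem_adjoin_simple_self _ _
  | algebraMap c =>
    rw [← IsScalarTower.algebraMap_apply k K K', IsScalarTower.algebraMap_apply k k' K']
    exact IntermediateField.algebraMap_mem _ _
  | add y z _ _ hy hz => rw [map_add]; exact add_mem hy hz
  | inv y _ hy => rw [map_inv₀]; exact inv_mem hy
  | mul y z _ _ hy hz => rw [map_mul]; exact mul_mem hy hz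

theorem isFunctionField_scalar_ext [FiniteDimensional k k']
    (h : Function.Bijective (Algebra.TensorProduct.productMap
      (IsScalarTower.toAlgHom k k' K') (IsScalarTower.toAlgHom k K K')))
    (hK : IsFunctionField k K) (hg : IsGeometric k K) : IsFunctionField k' K' := by
  classical
  have hgeo' : IsGeometric k' K' := isGeometric_scalar_ext h hg
  have hinj : Function.Injective (algebraMap K K') := (algebraMap K K').injective
  refine ⟨?_, ?_⟩
  · obtain ⟨x, hx, hfin⟩ := hK.1
    haveI := hfin
    refine ⟨algebraMap K K' x, ?_, ?_⟩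
    · intro halg
      apply hx
      haveI : Algebra.IsAlgebraic k k' := Algebra.IsAlgebraic.of_finite k k'
      have h1 : IsAlgebraic k (algebraMap K K' x) := halg.restrictScalars k
      exact (isAlgebraic_algebraMap_iff hinj).mp h1
    · -- finiteness
      let b := Module.finBasis k⟮x⟯ K
      refine ⟨⟨Finset.univ.image (fun i => algebraMap K K' (b i)), ?_⟩⟩
      rw [eq_top_iff]
      rintro w -
      obtain ⟨τ, rfl⟩ := h.2 w
      induction τ using TensorProduct.induction_on with
      | zero => rw [map_zero]; exact Submodule.zero_mem _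
      | tmul c z =>
        rw [Algebra.TensorProduct.productMap_apply_tmul]
        have hz : z = ∑ i, (b.repr z i) • b i := (b.sum_repr z).symm
        rw [hz, map_sum, Finset.mul_sum]
        refine Submodule.sum_mem _ (fun i _ => ?_)
        have hmem : algebraMap k' K' c * algebraMap K K' ((b.repr z i : k⟮x⟯) : K) ∈
            k'⟮algebraMap K K' x⟯ :=
          mul_mem (IntermediateField.algebraMap_mem _ c)
            (algebraMap_mem_adjoin_of_mem_adjoin x (b.repr z i).2)
        have e : (IsScalarTower.toAlgHom k k' K') c *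
            (IsScalarTower.toAlgHom k K K') ((b.repr z i) • b i) =
            (⟨_, hmem⟩ : k'⟮algebraMap K K' x⟯) • algebraMap K K' (b i) := by
          show algebraMap k' K' c * algebraMap K K' ((b.repr z i) • b i) =
            (algebraMap k' K' c * algebraMap K K' ((b.repr z i : k⟮x⟯) : K)) *
              algebraMap K K' (b i)
          rw [Algebra.smul_def, map_mul, mul_assoc]
          rfl
        rw [e]
        refine Submodule.smul_mem _ _ (Submodule.subset_span ?_)
        rw [Finset.coe_image]
        exact ⟨i, Finset.mem_coe.mpr (Finset.mem_univ i), rfl⟩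
      | add a b' ha hb => rw [map_add]; exact Submodule.add_mem _ ha hb
  · -- `k'` is algebraically closed in `K'`
    intro z hz
    have hzint : IsIntegral k' z := hz.isIntegral
    haveI : Fact (Irreducible (minpoly k' z)) := ⟨minpoly.irreducible hzint⟩
    have hne : minpoly k' z ≠ 0 := minpoly.ne_zero hzint
    let k₂ := AdjoinRoot (minpoly k' z)
    haveI : FiniteDimensional k' k₂ := (AdjoinRoot.powerBasis hne).finite
    have hF := hgeo' k₂ inferInstance
    have hφ : (minpoly k' z).eval₂ ((Algebra.ofId k' K' : k' →ₐ[k'] K') : k' →+* K') z = 0 := by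
      have h1 := minpoly.aeval k' z
      rw [Polynomial.aeval_def] at h1
      exact h1
    let φ : k₂ →ₐ[k'] K' := AdjoinRoot.liftAlgHom (minpoly k' z) (Algebra.ofId k' K') z hφ
    have hFT : IsField (K' ⊗[k'] k₂) :=
      MulEquiv.isField hF (Algebra.TensorProduct.comm k' K' k₂).toMulEquiv
    let m : K' ⊗[k'] k₂ →ₐ[K'] K' :=
      Algebra.TensorProduct.productLeftAlgHom (AlgHom.id K' K') φ
    have hmsurj : Function.Surjective m := fun w => ⟨w ⊗ₜ 1, by simp [m]⟩
    have hminj : Function.Injective m := by
      letI := hFT.toField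
      exact (m : K' ⊗[k'] k₂ →+* K').injective
    have hrank : Module.finrank K' (K' ⊗[k'] k₂) = 1 := by
      have e := LinearEquiv.ofBijective m.toLinearMap ⟨hminj, hmsurj⟩
      rw [e.finrank_eq, Module.finrank_self]
    rw [Module.finrank_baseChange] at hrank
    have h2 : Module.finrank k' k₂ = (minpoly k' z).natDegree := by
      rw [(AdjoinRoot.powerBasis hne).finrank, AdjoinRoot.powerBasis_dim]
    rw [h2] at hrank
    obtain ⟨c, hc⟩ := (minpoly.natDegree_eq_one_iff).mp hrank
    exact ⟨c, hc⟩

end ScalarExt

end FunFld
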