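import Mathlib
import Groth.Agent.Lib.FunFldScalar_helper2
import Groth.Prelude.Def_W4bk4goldsch23Ext

/-! Finite extensions of function fields, part A (helper2): constant field of the extension,
transfer of places, degree bookkeeping. -/

open Polynomial IntermediateField WithZero Module

namespace FunFld

section General

variable {K : Type*} [Field K]

theorem val_le_one_of_isIntegral {R Γ₀ : Type*} [CommRing R] [Algebra R K]
    [LinearOrderedCommGroupWithZero Γ₀] (v : Valuation K Γ₀)
    (hv : ∀ r : R, v (algebraMap R K r) ≤ 1) {z : K} (hz : IsIntegral R z) : v z ≤ 1 := by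
  letI : Algebra R v.valuationSubring :=
    ((algebraMap R K).codRestrict v.valuationSubring.toSubring
      (fun r => (Valuation.mem_valuationSubring_iff v _).mpr (hv r))).toAlgebra
  haveI : IsScalarTower R v.valuationSubring K := IsScalarTower.of_algebraMap_eq (fun _ => rfl)
  have h1 : IsIntegral v.valuationSubring z := hz.tower_top
  obtain ⟨y, hy⟩ := IsIntegrallyClosed.algebraMap_eq_of_integral h1
  rw [← hy]
  exact (Valuation.mem_valuationSubring_iff v _).mp y.2

end General

section AdjoinMap

variable {k k' K K' : Type*} [Field k] [Field k'] [Field K] [Field K']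
    [Algebra k k'] [Algebra k K] [Algebra K K'] [Algebra k' K'] [Algebra k K']
    [IsScalarTower k k' K'] [IsScalarTower k K K']

theorem algebraMap_mem_adjoin_of_mem_adjoin' (x : K) {a : K} (ha : a ∈ k⟮x⟯) :
    algebraMap K K' a ∈ k'⟮algebraMap K K' x⟯ := by
  induction ha using IntermediateField.adjoin_induction with
  | mem y hy =>
    rw [Set.mem_singleton_iff] at hy
    rw [hy]
    exact mem_adjoin_simple_self _ _
  | algebraMap c =>
    rw [← IsScalarTower.algebraMap_apply k K K', IsScalarTower.algebraMap_apply k k' K']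
    exact IntermediateField.algebraMap_mem _ _
  | add y z _ _ hy hz => rw [map_add]; exact add_mem hy hz
  | inv y _ hy => rw [map_inv₀]; exact inv_mem hy
  | mul y z _ _ hy hz => rw [map_mul]; exact mul_mem hy hz

end AdjoinMap

section Tower

variable {k K K' : Type*} [Field k] [Field K] [Field K'] [Algebra k K] [Algebra K K']
    [Algebra k K'] [IsScalarTower k K K']

theorem finrank_adjoin_algebraMap (x : K) :
    Module.finrank k⟮algebraMap K K' x⟯ K' = Module.finrank k⟮x⟯ K * Module.finrank K K' := by
  let f : K →ₐ[k] K' := IsScalarTower.toAlgHom k K K'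
  have h : k⟮x⟯.map f = k⟮algebraMap K K' x⟯ := by
    rw [IntermediateField.adjoin_map, Set.image_singleton]
    rfl
  let i : k⟮x⟯ ≃ₐ[k] k⟮algebraMap K K' x⟯ :=
    (IntermediateField.equivMap k⟮x⟯ f).trans (IntermediateField.equivOfEq h)
  rw [Module.finrank_mul_finrank k⟮x⟯ K K']
  symm
  exact Algebra.finrank_eq_of_equiv_equiv i.toRingEquiv (RingEquiv.refl K')
    (RingHom.ext fun a => rfl)

end Tower

section Const

variable {k K' : Type*} [Field k] [Field K'] [Algebra k K']

/-- Extend the constants of a place to an algebraic intermediate field. -/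
def Place.extendConst (k₁ : IntermediateField k K') [Algebra.IsAlgebraic k k₁] (Q : Place k K') :
    Place k₁ K' :=
  ⟨Q.1, fun c => val_le_one_of_isIntegral Q.1 Q.2.1
      ((Algebra.IsIntegral.isIntegral (R := k) c).map k₁.val), Q.2.2⟩

/-- Restrict the constants of a place. -/
def Place.restrictConst (k₁ : IntermediateField k K') (Q : Place k₁ K') : Place k K' :=
  ⟨Q.1, fun c => Q.2.1 (algebraMap k k₁ c), Q.2.2⟩

variable (k₁ : IntermediateField k K') [Algebra.IsAlgebraic k k₁]

@[simp] theorem Place.extendConst_val (Q : Place k K') : (Q.extendConst k₁).1 = Q.1 := rfl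

@[simp] theorem Place.restrictConst_val (Q : Place k₁ K') : (Q.restrictConst k₁).1 = Q.1 := rfl

theorem Place.extendConst_restrictConst (Q : Place k₁ K') :
    (Q.restrictConst k₁).extendConst k₁ = Q := Subtype.ext rfl

theorem Place.restrictConst_extendConst (Q : Place k K') :
    (Q.extendConst k₁).restrictConst k₁ = Q := Subtype.ext rfl

theorem Place.extendConst_injective : Function.Injective (Place.extendConst (k := k) k₁) := by
  intro Q Q' h
  have := congrArg (Place.restrictConst k₁) h
  rwa [Place.restrictConst_extendConst, Place.restrictConst_extendConst] at this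

theorem Place.extendConst_surjective : Function.Surjective (Place.extendConst (k := k) k₁) :=
  fun Q => ⟨Q.restrictConst k₁, Place.extendConst_restrictConst k₁ Q⟩

theorem Place.ord_extendConst (Q : Place k K') (z : K') : (Q.extendConst k₁).ord z = Q.ord z := rfl

theorem Place.deg_eq_mul_deg_extendConst (Q : Place k K') :
    Q.deg = Module.finrank k k₁ * (Q.extendConst k₁).deg := by
  unfold Place.deg
  letI a0 : Algebra k (IsLocalRing.ResidueField Q.O) := Place.algRes Q
  letI a1 : Algebra k₁ (IsLocalRing.ResidueField Q.O) := Place.algRes (Q.extendConst k₁)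
  have t0 : IsScalarTower k k₁ (IsLocalRing.ResidueField Q.O) :=
    IsScalarTower.of_algebraMap_eq (fun c => rfl)
  exact (@Module.finrank_mul_finrank k k₁ (IsLocalRing.ResidueField Q.O) _ _ _ _ _ _ t0
    _ _ _ _).symm

end Const

section ConstField

variable {k K K' : Type*} [Field k] [Field K] [Field K'] [Algebra k K] [Algebra K K']
    [Algebra k K'] [IsScalarTower k K K']

theorem isFunctionField_algebraicClosure (hK : IsFunctionField k K) [FiniteDimensional K K'] :
    IsFunctionField (algebraicClosure k K') K' := by
  classical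
  haveI : Algebra.IsAlgebraic k (algebraicClosure k K') := algebraicClosure.isAlgebraic k K'
  refine ⟨?_, ?_⟩
  · obtain ⟨x, hx, hfin⟩ := hK.1
    haveI := hfin
    have hinj : Function.Injective (algebraMap K K') := (algebraMap K K').injective
    refine ⟨algebraMap K K' x, ?_, ?_⟩
    · intro halg
      exact hx ((isAlgebraic_algebraMap_iff hinj).mp (halg.restrictScalars k))
    · let b := Module.finBasis k⟮x⟯ K
      let c := Module.finBasis K K'
      refine ⟨⟨Finset.univ.image (fun p : Fin _ × Fin _ => algebraMap K K' (b p.1) * c p.2), ?_⟩⟩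
      rw [eq_top_iff]
      rintro w -
      have hw : w = ∑ j, (c.repr w j) • c j := (c.sum_repr w).symm
      rw [hw]
      refine Submodule.sum_mem _ (fun j _ => ?_)
      have hz : c.repr w j = ∑ i, (b.repr (c.repr w j) i) • b i := (b.sum_repr _).symm
      rw [hz, Finset.sum_smul]
      refine Submodule.sum_mem _ (fun i _ => ?_)
      have hmem : algebraMap K K' ((b.repr (c.repr w j) i : k⟮x⟯) : K) ∈
          (algebraicClosure k K')⟮algebraMap K K' x⟯ :=
        algebraMap_mem_adjoin_of_mem_adjoin' x (b.repr (c.repr w j) i).2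
      have e : ((b.repr (c.repr w j) i) • b i) • c j =
          (⟨_, hmem⟩ : (algebraicClosure k K')⟮algebraMap K K' x⟯) •
            (algebraMap K K' (b i) * c j) := by
        rw [Algebra.smul_def, Algebra.smul_def, Algebra.smul_def, map_mul, mul_assoc]
        rfl
      rw [e]
      refine Submodule.smul_mem _ _ (Submodule.subset_span ?_)
      rw [Finset.coe_image]
      exact ⟨(i, j), Finset.mem_coe.mpr (Finset.mem_univ _), rfl⟩
  · intro z hz
    have h1 : IsAlgebraic k z := hz.restrictScalars k
    exact ⟨⟨z, mem_algebraicClosure_iff.mpr h1⟩, rfl⟩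

end ConstField

section Indep

variable {k K' : Type*} [Field k] [Field K'] [Algebra k K']

theorem linearIndependent_adjoin_simple_of_isAlgebraic {y : K'} (hy : Transcendental k y)
    {ι : Type*} [Fintype ι] (z : ι → K') (hz : ∀ i, IsAlgebraic k (z i))
    (hli : LinearIndependent k z) : LinearIndependent k⟮y⟯ z := by
  classical
  haveI : Algebra.IsAlgebraic k (algebraicClosure k K') := algebraicClosure.isAlgebraic k K'
  have hy₁ : Transcendental (algebraicClosure k K') y := fun h => hy (h.restrictScalars k)
  apply linearIndependent_adjoin_simple hy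
  intro φ hφ hsum
  let z' : ι → algebraicClosure k K' := fun i => ⟨z i, mem_algebraicClosure_iff.mpr (hz i)⟩
  let Pp : (algebraicClosure k K')[X] :=
    ∑ i, (φ i).map (algebraMap k (algebraicClosure k K')) * C (z' i)
  have hP : aeval y Pp = 0 := by
    simp only [Pp, map_sum, map_mul, aeval_C, aeval_map_algebraMap]
    exact hsum
  have hP0 : Pp = 0 := by
    by_contra hne
    exact hy₁ ⟨Pp, hne, hP⟩
  have hc : ∑ i, (φ i).coeff 0 • z' i = 0 := by
    have h1 := congrArg (fun p => p.coeff 0) hP0
    simp only [Pp, finsetSum_coeff, coeff_mul_C, coeff_map, coeff_zero] at h1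
    rw [← h1]
    exact Finset.sum_congr rfl (fun i _ => Algebra.smul_def _ _)
  have hli' : LinearIndependent k z' :=
    LinearIndependent.of_comp (algebraicClosure k K').val.toLinearMap hli
  obtain ⟨i, hi⟩ := hφ
  exact hi (Fintype.linearIndependent_iff.mp hli' _ hc i)

theorem finiteDimensional_algebraicClosure_of_transcendental {y : K'} (hy : Transcendental k y)
    [FiniteDimensional k⟮y⟯ K'] : FiniteDimensional k (algebraicClosure k K') := by
  classical
  have hle : Module.rank k (algebraicClosure k K') ≤ (Module.finrank k⟮y⟯ K' : ℕ) := by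
    apply rank_le
    intro s hs
    have hli : LinearIndependent k (fun i : s => (((i : algebraicClosure k K')) : K')) :=
      hs.map' (algebraicClosure k K').val.toLinearMap
        (LinearMap.ker_eq_bot.mpr (algebraicClosure k K').val.injective)
    have h2 := linearIndependent_adjoin_simple_of_isAlgebraic hy _
      (fun i : s => mem_algebraicClosure_iff.mp (i : algebraicClosure k K').2) hli
    have h3 := h2.fintype_card_le_finrank
    simpa using h3
  exact Module.rank_lt_aleph0_iff.mp (lt_of_le_of_lt hle Cardinal.natCast_lt_aleph0)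

/-- `k(y) ⊆ k₁(y)` for an intermediate field `k₁`. -/
theorem mem_adjoin_simple_of_mem_adjoin_simple (k₁ : IntermediateField k K') {y a : K'}
    (ha : a ∈ k⟮y⟯) : a ∈ k₁⟮y⟯ :=
  algebraMap_mem_adjoin_of_mem_adjoin' (k' := k₁) (K := K') (K' := K') y ha

theorem finiteDimensional_adjoin_simple_of_le (k₁ : IntermediateField k K') {y : K'}
    [FiniteDimensional k⟮y⟯ K'] : FiniteDimensional k₁⟮y⟯ K' := by
  obtain ⟨s, hs⟩ := (Module.finite_def.mp (inferInstance : Module.Finite k⟮y⟯ K'))
  refine ⟨⟨s, ?_⟩⟩
  rw [eq_top_iff]
  rintro w -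
  have hw : w ∈ Submodule.span k⟮y⟯ (s : Set K') := by rw [hs]; trivial
  induction hw using Submodule.span_induction with
  | mem z hz => exact Submodule.subset_span hz
  | zero => exact Submodule.zero_mem _
  | add a b _ _ ha hb => exact Submodule.add_mem _ ha hb
  | smul c z _ hz =>
    have hmem : (c : K') ∈ k₁⟮y⟯ := mem_adjoin_simple_of_mem_adjoin_simple k₁ c.2
    have e : c • z = (⟨(c : K'), hmem⟩ : k₁⟮y⟯) • z := by
      rw [Algebra.smul_def, Algebra.smul_def]
      rfl
    rw [e]
    exact Submodule.smul_mem _ _ hz

theorem finrank_adjoin_eq_mul {y : K'} (hy : Transcendental k y) [FiniteDimensional k⟮y⟯ K'] :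
    Module.finrank k⟮y⟯ K' = Module.finrank k (algebraicClosure k K') *
      Module.finrank (algebraicClosure k K')⟮y⟯ K' := by
  classical
  haveI : Algebra.IsAlgebraic k (algebraicClosure k K') := algebraicClosure.isAlgebraic k K'
  haveI : FiniteDimensional k (algebraicClosure k K') :=
    finiteDimensional_algebraicClosure_of_transcendental hy
  haveI : FiniteDimensional (algebraicClosure k K')⟮y⟯ K' :=
    finiteDimensional_adjoin_simple_of_le (algebraicClosure k K')
  haveI : Algebra.IsAlgebraic k⟮y⟯ K' := Algebra.IsAlgebraic.of_finite _ _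
  let b := Module.finBasis k (algebraicClosure k K')
  let c := Module.finBasis (algebraicClosure k K')⟮y⟯ K'
  let b' : Fin (Module.finrank k (algebraicClosure k K')) → K' := fun i => ((b i : _) : K')
  let v : Fin (Module.finrank k (algebraicClosure k K')) ×
      Fin (Module.finrank (algebraicClosure k K')⟮y⟯ K') → K' := fun p => b' p.1 * c p.2
  have hb'alg : ∀ i, IsAlgebraic k (b' i) := fun i => mem_algebraicClosure_iff.mp (b i).2
  have hb'li : LinearIndependent k b' :=
    b.linearIndependent.map' (algebraicClosure k K').val.toLinearMap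
      (LinearMap.ker_eq_bot.mpr (algebraicClosure k K').val.injective)
  have hb'li' : LinearIndependent k⟮y⟯ b' :=
    linearIndependent_adjoin_simple_of_isAlgebraic hy b' hb'alg hb'li
  -- linear independence of the products
  have hli : LinearIndependent k⟮y⟯ v := by
    rw [Fintype.linearIndependent_iff]
    intro μ hμ p
    have hmem : ∀ j, ∑ i, ((μ (i, j) : k⟮y⟯) : K') * b' i ∈ (algebraicClosure k K')⟮y⟯ :=
      fun j => sum_mem (fun i _ => mul_mem
        (mem_adjoin_simple_of_mem_adjoin_simple _ (μ (i, j)).2)
        (IntermediateField.algebraMap_mem _ (b i)))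
    let lam : Fin (Module.finrank (algebraicClosure k K')⟮y⟯ K') → (algebraicClosure k K')⟮y⟯ :=
      fun j => ⟨_, hmem j⟩
    have h2 : ∑ j, lam j • c j = 0 := by
      rw [← hμ, Fintype.sum_prod_type, Finset.sum_comm]
      refine Finset.sum_congr rfl (fun j _ => ?_)
      rw [Algebra.smul_def]
      show (∑ i, ((μ (i, j) : k⟮y⟯) : K') * b' i) * c j = _
      rw [Finset.sum_mul]
      refine Finset.sum_congr rfl (fun i _ => ?_)
      rw [Algebra.smul_def, mul_assoc]
      rfl
    have h3 := Fintype.linearIndependent_iff.mp c.linearIndependent lam h2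
    have h4 : ∑ i, μ (i, p.2) • b' i = 0 := by
      have h5 := congrArg Subtype.val (h3 p.2)
      rw [← show ((0 : (algebraicClosure k K')⟮y⟯) : K') = 0 from rfl, ← h5]
      refine Finset.sum_congr rfl (fun i _ => ?_)
      rw [Algebra.smul_def]
      rfl
    exact Fintype.linearIndependent_iff.mp hb'li' (fun i => μ (i, p.2)) h4 p.1
  -- spanning
  let N : Submodule k⟮y⟯ K' := Submodule.span k⟮y⟯ (Set.range b')
  have hC : ∀ z : algebraicClosure k K', (z : K') ∈ N := by
    intro z
    have hz : z = ∑ i, b.repr z i • b i := (b.sum_repr z).symm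
    have h1 : (z : K') = ∑ i, (algebraMap k k⟮y⟯ (b.repr z i)) • b' i := by
      conv_lhs => rw [hz]
      rw [AddSubmonoidClass.coe_finsetSum]
      refine Finset.sum_congr rfl (fun i _ => ?_)
      rw [Algebra.smul_def]
      rfl
    rw [h1]
    exact Submodule.sum_mem _ (fun i _ => Submodule.smul_mem _ _ (Submodule.subset_span ⟨i, rfl⟩))
  have h_one : (1 : K') ∈ N := hC 1
  have h_mul : ∀ a a' : K', a ∈ N → a' ∈ N → a * a' ∈ N := by
    intro a a' ha hb
    have h1 : a * a' ∈ N * N := Submodule.mul_mem_mul ha hb
    rw [Submodule.span_mul_span] at h1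
    refine (Submodule.span_le.mpr ?_) h1
    rintro w ⟨u, ⟨i, rfl⟩, u', ⟨i', rfl⟩, rfl⟩
    exact hC (b i * b i')
  let A : Subalgebra k⟮y⟯ K' := N.toSubalgebra h_one h_mul
  have hB : ∀ a : K', a ∈ (algebraicClosure k K')⟮y⟯ → a ∈ A := by
    intro a ha
    induction ha using IntermediateField.adjoin_induction with
    | mem w hw =>
      rw [Set.mem_singleton_iff] at hw
      rw [hw]
      exact A.algebraMap_mem ⟨y, mem_adjoin_simple_self k y⟩
    | algebraMap z => exact hC z
    | add u w _ _ hu hw => exact A.add_mem hu hw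
    | inv u _ hu =>
      exact A.inv_mem_of_algebraic (x := ⟨u, hu⟩) (Algebra.IsAlgebraic.isAlgebraic _)
    | mul u w _ _ hu hw => exact A.mul_mem hu hw
  have hA : ∀ u : K', u ∈ N → ∀ j, u * c j ∈ Submodule.span k⟮y⟯ (Set.range v) := by
    intro u hu j
    induction hu using Submodule.span_induction with
    | mem u hu =>
      obtain ⟨i, rfl⟩ := hu
      exact Submodule.subset_span ⟨(i, j), rfl⟩
    | zero => rw [zero_mul]; exact Submodule.zero_mem _
    | add u u' _ _ hu hu' => rw [add_mul]; exact Submodule.add_mem _ hu hu'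
    | smul r u _ hu => rw [smul_mul_assoc]; exact Submodule.smul_mem _ _ hu
  have hsp : ⊤ ≤ Submodule.span k⟮y⟯ (Set.range v) := by
    rintro w -
    have hw : w = ∑ j, (c.repr w j) • c j := (c.sum_repr w).symm
    rw [hw]
    refine Submodule.sum_mem _ (fun j _ => ?_)
    have h1 : ((c.repr w j : (algebraicClosure k K')⟮y⟯) : K') ∈ N := hB _ (c.repr w j).2
    rw [Algebra.smul_def]
    exact hA _ h1 j
  have hcard := Module.finrank_eq_card_basis (Module.Basis.mk hli hsp)
  rw [hcard, Fintype.card_prod, Fintype.card_fin, Fintype.card_fin]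

end Indep

end FunFld
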