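import Mathlib
import Groth.Agent.Lib.FunFldExtA_helper2

/-! Finite extensions of function fields, part B (helper2): places below, the degree theorem
over `k` in the extension, and the fundamental identity `∑ e f = n`. -/

open Polynomial IntermediateField WithZero Module

namespace FunFld

variable {k K K' : Type*} [Field k] [Field K] [Field K'] [Algebra k K] [Algebra K K']
    [Algebra k K'] [IsScalarTower k K K']

section Over

theorem IsOverWith.pos {Q : Place k K'} {P : Place k K} {e : ℕ} (h : IsOverWith Q P e) :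
    0 < e := by
  rcases Nat.eq_zero_or_pos e with rfl | h0
  · have h1 := h 0
    rw [map_zero, map_zero, map_zero, pow_zero] at h1
    exact absurd h1 zero_ne_one
  · exact h0

theorem IsOverWith.ord_eq {Q : Place k K'} {P : Place k K} {e : ℕ} (h : IsOverWith Q P e)
    (x : K) : Q.ord (algebraMap K K' x) = e * P.ord x := by
  unfold Place.ord
  rw [h x, log_pow, nsmul_eq_mul]
  ring

theorem isOverWith_of_ord {Q : Place k K'} {P : Place k K} {e : ℕ} (he : 0 < e)
    (h : ∀ x : K, x ≠ 0 → Q.ord (algebraMap K K' x) = e * P.ord x) : IsOverWith Q P e := by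
  intro x
  by_cases hx : x = 0
  · subst hx
    rw [map_zero, map_zero, map_zero, zero_pow he.ne']
  · have hx' : algebraMap K K' x ≠ 0 := (_root_.map_ne_zero _).mpr hx
    rw [Q.val_eq_exp_neg_ord hx', P.val_eq_exp_neg_ord hx, ← exp_nsmul, h x hx, nsmul_eq_mul]
    congr 1
    ring

theorem IsOverWith.unique_idx {Q : Place k K'} {P : Place k K} {e e' : ℕ}
    (h : IsOverWith Q P e) (h' : IsOverWith Q P e') : e = e' := by
  obtain ⟨t, ht⟩ := P.exists_uniformizer
  have h1 := h t
  have h2 := h' t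
  rw [ht] at h1 h2
  rw [h1, ← exp_nsmul, ← exp_nsmul, exp_inj, nsmul_eq_mul, nsmul_eq_mul] at h2
  have h3 : (e : ℤ) = e' := by linarith
  exact_mod_cast h3

theorem ramIdx_eq {Q : Place k K'} {P : Place k K} {e : ℕ} (h : IsOverWith Q P e) :
    ramIdx Q P = e := by
  classical
  have hex : IsOver Q P := ⟨e, h⟩
  unfold ramIdx
  rw [dif_pos hex]
  exact (Nat.find_spec hex).unique_idx h

theorem IsOver.isOverWith_ramIdx {Q : Place k K'} {P : Place k K} (h : IsOver Q P) :
    IsOverWith Q P (ramIdx Q P) := by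
  obtain ⟨e, he⟩ := h
  rw [ramIdx_eq he]
  exact he

theorem IsOverWith.unique_below {Q : Place k K'} {P P' : Place k K} {e e' : ℕ}
    (h : IsOverWith Q P e) (h' : IsOverWith Q P' e') : P = P' := by
  apply Place.eq_of_forall_le_one
  intro a ha
  have h1 : Q.1 (algebraMap K K' a) ≤ 1 := by
    rw [h a]
    exact pow_le_one' ha e
  rw [h' a] at h1
  exact (pow_le_one_iff h'.pos.ne').mp h1

theorem IsOver.unique_below {Q : Place k K'} {P P' : Place k K}
    (h : IsOver Q P) (h' : IsOver Q P') : P = P' := by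
  obtain ⟨e, he⟩ := h
  obtain ⟨e', he'⟩ := h'
  exact he.unique_below he'

theorem exists_isOverWith (hK : IsFunctionField k K) [Algebra.IsAlgebraic K K']
    (Q : Place k K') : ∃ (P : Place k K) (e : ℕ), IsOverWith Q P e := by
  classical
  set w : Valuation K ℤᵐ⁰ := Q.1.comap (algebraMap K K') with hw
  have hwk : ∀ c : k, w (algebraMap k K c) ≤ 1 := fun c => by
    show Q.1 (algebraMap K K' (algebraMap k K c)) ≤ 1
    rw [← IsScalarTower.algebraMap_apply]
    exact Q.2.1 c
  have hne : w.valuationSubring ≠ ⊤ := by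
    intro htop
    have hall : ∀ x : K, w x ≤ 1 := fun x =>
      (Valuation.mem_valuationSubring_iff w x).mp (htop ▸ ValuationSubring.mem_top x)
    obtain ⟨z, hz⟩ := Q.2.2 (exp (1 : ℤ))
    have hz1 : Q.1 z ≤ 1 :=
      val_le_one_of_isIntegral (R := K) Q.1 hall (Algebra.IsIntegral.isIntegral z)
    rw [hz] at hz1
    exact absurd hz1 (not_le.mpr ((one_lt_iff_exp_one_le _).mpr le_rfl))
  obtain ⟨P, hP⟩ := exists_place_of_valuationSubring hK w.valuationSubring
    (fun c => (Valuation.mem_valuationSubring_iff w _).mpr (hwk c)) hne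
  have hP' : ∀ x : K, P.1 x ≤ 1 ↔ w x ≤ 1 := fun x =>
    (hP x).trans (Valuation.mem_valuationSubring_iff w x)
  obtain ⟨t, ht⟩ := P.exists_uniformizer
  have ht0 : t ≠ 0 := uniformizer_ne_zero P ht
  have hPt : P.ord t = 1 := by
    have h1 := P.val_eq_exp_neg_ord ht0
    rw [ht, exp_inj] at h1
    omega
  have hunit : ∀ u : K, u ≠ 0 → P.ord u = 0 → w u = 1 := by
    intro u hu0 hu
    have hPu : P.1 u = 1 := (P.ord_eq_zero_iff hu0).mp hu
    have h1 : w u ≤ 1 := (hP' u).mp hPu.le
    have h2 : w u⁻¹ ≤ 1 := (hP' u⁻¹).mp (by rw [map_inv₀, hPu, inv_one])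
    rw [map_inv₀] at h2
    have hw0 : w u ≠ 0 := (Valuation.ne_zero_iff w).mpr hu0
    exact le_antisymm h1 ((inv_le_one₀ (zero_lt_iff.mpr hw0)).mp h2)
  have hwt0 : w t ≠ 0 := (Valuation.ne_zero_iff w).mpr ht0
  have hwt : w t < 1 := by
    rw [← not_le]
    intro h
    have h1 : w t⁻¹ ≤ 1 := by
      rw [map_inv₀]
      exact inv_le_one_of_one_le₀ h
    have h2 := (hP' t⁻¹).mpr h1
    rw [map_inv₀, ht, ← exp_neg, neg_neg] at h2
    exact absurd h2 (not_le.mpr ((one_lt_iff_exp_one_le _).mpr le_rfl))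
  set e' : ℤ := -log (w t) with he'
  have hwt' : w t = exp (-e') := by rw [he', neg_neg, exp_log hwt0]
  have he'pos : 0 < e' := by
    rw [hwt', ← exp_zero, exp_lt_exp] at hwt
    omega
  refine ⟨P, e'.toNat, isOverWith_of_ord (by omega) (fun x hx => ?_)⟩
  have htn : t ^ (P.ord x) ≠ 0 := zpow_ne_zero _ ht0
  have hu0 : x * (t ^ (P.ord x))⁻¹ ≠ 0 := mul_ne_zero hx (inv_ne_zero htn)
  have hPu : P.ord (x * (t ^ (P.ord x))⁻¹) = 0 := by
    rw [P.ord_mul hx (inv_ne_zero htn), P.ord_inv, P.ord_zpow, hPt]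
    ring
  have hwu := hunit _ hu0 hPu
  have hx_eq : x = t ^ (P.ord x) * (x * (t ^ (P.ord x))⁻¹) := by
    field_simp
  have hwx : w x = exp (-e') ^ (P.ord x) := by
    conv_lhs => rw [hx_eq]
    rw [map_mul, hwu, mul_one, map_zpow₀, hwt']
  have hQ : Q.ord (algebraMap K K' x) = -log (w x) := rfl
  rw [hQ, hwx, ← exp_zsmul, log_exp, Int.toNat_of_nonneg he'pos.le, smul_eq_mul]
  ring

theorem exists_isOver (hK : IsFunctionField k K) [Algebra.IsAlgebraic K K']
    (Q : Place k K') : ∃ P : Place k K, IsOver Q P := by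
  obtain ⟨P, e, h⟩ := exists_isOverWith hK Q
  exact ⟨P, e, h⟩

end Over

section PoleOnly

theorem exists_pole_only (hK : IsFunctionField k K) (P : Place k K) :
    ∃ (x : K) (m : ℤ), 0 < m ∧ P.ord x = -m ∧ ∀ P' : Place k K, P' ≠ P → 0 ≤ P'.ord x := by
  classical
  set n : ℤ := 2 * (genus k K : ℤ) with hn
  have hdP : (1 : ℤ) ≤ P.deg := by exact_mod_cast P.deg_pos hK
  have h1 := ell_eq_of_deg_ge hK (Finsupp.single P n : Divisor k K) (by
    rw [deg_single]
    nlinarith [Int.natCast_nonneg (genus k K)])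
  have h2 := ell_eq_of_deg_ge hK (Finsupp.single P (n + 1) : Divisor k K) (by
    rw [deg_single]
    nlinarith [Int.natCast_nonneg (genus k K)])
  rw [deg_single] at h1 h2
  have hlt : ell (Finsupp.single P n : Divisor k K) < ell (Finsupp.single P (n + 1) : Divisor k K) := by
    have : (ell (Finsupp.single P n : Divisor k K) : ℤ) <
        ell (Finsupp.single P (n + 1) : Divisor k K) := by
      rw [h1, h2]
      nlinarith
    exact_mod_cast this
  obtain ⟨x, hx1, hx2⟩ := exists_mem_L_not_mem hK hlt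
  obtain ⟨-, h3, h4⟩ := ord_of_mem_L_single hK (n := n + 1) (n' := n) rfl hx1 hx2
  exact ⟨x, n + 1, by positivity, h3, h4⟩

end PoleOnly

section DegreeExt

variable [FiniteDimensional K K']

theorem finite_support_ord_ext (hK : IsFunctionField k K) (z : K') :
    (Function.support fun Q : Place k K' => Q.ord z).Finite := by
  classical
  haveI : Algebra.IsAlgebraic k (algebraicClosure k K') := algebraicClosure.isAlgebraic k K'
  have hK₁ := isFunctionField_algebraicClosure (K' := K') hK
  have h := finite_support_ord hK₁ z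
  refine (h.image (Place.restrictConst (algebraicClosure k K'))).subset ?_
  intro Q hQ
  exact ⟨Q.extendConst _, hQ, Place.restrictConst_extendConst _ Q⟩

theorem div_apply_ext (hK : IsFunctionField k K) (z : K') (Q : Place k K') :
    div k z Q = Q.ord z := by
  unfold div
  rw [dif_pos (finite_support_ord_ext hK z)]
  rfl

/-- The degree theorem in the extension, with degrees over `k`. -/
theorem sum_poles_eq_finrank (hK : IsFunctionField k K) {x : K} (hx : Transcendental k x)
    (Qs : Finset (Place k K')) (hQs : ∀ Q, Q ∈ Qs ↔ Q.ord (algebraMap K K' x) < 0) :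
    ∑ Q ∈ Qs, (-Q.ord (algebraMap K K' x)) * (Q.deg : ℤ) =
      (Module.finrank k⟮x⟯ K : ℤ) * Module.finrank K K' := by
  classical
  set y := algebraMap K K' x with hy
  haveI : Algebra.IsAlgebraic k (algebraicClosure k K') := algebraicClosure.isAlgebraic k K'
  have hK₁ := isFunctionField_algebraicClosure (K' := K') hK
  have hyt : Transcendental k y := fun h =>
    hx ((isAlgebraic_algebraMap_iff (algebraMap K K').injective).mp h)
  have hyt₁ : Transcendental (algebraicClosure k K') y := fun h => hyt (h.restrictScalars k)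
  haveI : FiniteDimensional k⟮x⟯ K := finiteDimensional_of_transcendental hK hx
  have hfr := finrank_adjoin_algebraMap (k := k) (K' := K') x
  have hpos : 0 < Module.finrank k⟮y⟯ K' := by
    rw [hfr]
    exact Nat.mul_pos Module.finrank_pos Module.finrank_pos
  haveI : FiniteDimensional k⟮y⟯ K' := Module.finite_of_finrank_pos hpos
  have hmul := finrank_adjoin_eq_mul hyt
  have hdeg := deg_poleDiv_eq hK₁ hyt₁
  have hsum : Divisor.deg (poleDiv (algebraicClosure k K') y) =
      ∑ Q ∈ Qs, (-Q.ord y) * ((Q.extendConst (algebraicClosure k K')).deg : ℤ) := by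
    unfold Divisor.deg
    rw [Finsupp.sum_of_support_subset _
      (s := Qs.image (Place.extendConst (algebraicClosure k K'))) _ _ (fun _ _ => zero_mul _)]
    · rw [Finset.sum_image (fun a _ b _ h => Place.extendConst_injective _ h)]
      refine Finset.sum_congr rfl (fun Q hQ => ?_)
      rw [poleDiv_apply hK₁]
      have h1 : Q.ord y < 0 := (hQs Q).mp hQ
      rw [Place.ord_extendConst, max_eq_left (by omega)]
    · intro Q' hQ'
      rw [Finsupp.mem_support_iff, poleDiv_apply hK₁] at hQ'
      have h1 : Q'.ord y < 0 := by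
        by_contra hh
        push Not at hh
        exact hQ' (max_eq_right (by omega))
      rw [Finset.mem_image]
      exact ⟨Q'.restrictConst _, (hQs _).mpr h1, Place.extendConst_restrictConst _ Q'⟩
  have h3 : ∑ Q ∈ Qs, (-Q.ord y) * (Q.deg : ℤ) =
      (Module.finrank k (algebraicClosure k K') : ℤ) *
        ∑ Q ∈ Qs, (-Q.ord y) * ((Q.extendConst (algebraicClosure k K')).deg : ℤ) := by
    rw [Finset.mul_sum]
    refine Finset.sum_congr rfl (fun Q _ => ?_)
    rw [Place.deg_eq_mul_deg_extendConst (algebraicClosure k K') Q]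
    push_cast
    ring
  rw [h3, ← hsum, hdeg, ← Nat.cast_mul, ← hmul, hfr, Nat.cast_mul]

/-- The places above `P` are the poles of a function with a pole only at `P`. -/
theorem isOver_iff_ord_neg (hK : IsFunctionField k K) {P : Place k K} {x : K} {m : ℤ}
    (hm : 0 < m) (hP : P.ord x = -m) (hP' : ∀ P' : Place k K, P' ≠ P → 0 ≤ P'.ord x)
    (Q : Place k K') : IsOver Q P ↔ Q.ord (algebraMap K K' x) < 0 := by
  constructor
  · rintro ⟨e, he⟩
    rw [he.ord_eq, hP]
    have := he.pos
    have h2 : (0 : ℤ) < e := by exact_mod_cast this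
    nlinarith
  · intro h
    obtain ⟨P₀, e, he⟩ := exists_isOverWith hK Q
    rw [he.ord_eq] at h
    have h2 : (0 : ℤ) < e := by exact_mod_cast he.pos
    have h3 : P₀.ord x < 0 := by
      by_contra hh
      push Not at hh
      nlinarith
    have h4 : P₀ = P := by
      by_contra hne
      have := hP' P₀ hne
      omega
    rw [← h4]
    exact ⟨e, he⟩

theorem finite_isOver (hK : IsFunctionField k K) (P : Place k K) :
    {Q : Place k K' | IsOver Q P}.Finite := by
  obtain ⟨x, m, hm, hP, hP'⟩ := exists_pole_only hK P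
  refine (finite_support_ord_ext hK (algebraMap K K' x)).subset ?_
  intro Q hQ
  have := (isOver_iff_ord_neg hK hm hP hP' Q).mp hQ
  rw [Function.mem_support]
  omega

/-- The fundamental identity `∑ e(Q|P) deg Q = [K' : K] deg P`. -/
theorem sum_ramIdx_mul_deg (hK : IsFunctionField k K) (P : Place k K)
    (Qs : Finset (Place k K')) (hQs : ∀ Q, Q ∈ Qs ↔ IsOver Q P) :
    ∑ Q ∈ Qs, ramIdx Q P * Q.deg = Module.finrank K K' * P.deg := by
  classical
  obtain ⟨x, m, hm, hP, hP'⟩ := exists_pole_only hK P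
  have hx : Transcendental k x := transcendental_of_ord_ne_zero hK (P := P) (by omega)
  have hQs' : ∀ Q, Q ∈ Qs ↔ Q.ord (algebraMap K K' x) < 0 := fun Q =>
    (hQs Q).trans (isOver_iff_ord_neg hK hm hP hP' Q)
  have hD := sum_poles_eq_finrank hK hx Qs hQs'
  have hpd : poleDiv k x = Finsupp.single P m := poleDiv_eq_single hK hm.le hP hP'
  have hdeg := deg_poleDiv_eq hK hx
  rw [hpd, deg_single] at hdeg
  have h1 : ∑ Q ∈ Qs, (-Q.ord (algebraMap K K' x)) * (Q.deg : ℤ) =
      m * ∑ Q ∈ Qs, ((ramIdx Q P * Q.deg : ℕ) : ℤ) := by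
    rw [Finset.mul_sum]
    refine Finset.sum_congr rfl (fun Q hQ => ?_)
    have hover := ((hQs Q).mp hQ).isOverWith_ramIdx
    rw [hover.ord_eq, hP]
    push_cast
    ring
  rw [h1, ← hdeg] at hD
  have h2 : (∑ Q ∈ Qs, ((ramIdx Q P * Q.deg : ℕ) : ℤ)) = (Module.finrank K K' : ℤ) * P.deg := by
    have hm0 : m ≠ 0 := hm.ne'
    apply mul_left_cancel₀ hm0
    rw [hD]
    ring
  have h3 : ((∑ Q ∈ Qs, ramIdx Q P * Q.deg : ℕ) : ℤ) = ((Module.finrank K K' * P.deg : ℕ) : ℤ) := by
    push_cast
    push_cast at h2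
    exact h2
  exact_mod_cast h3

end DegreeExt

end FunFld
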