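import Mathlib
import Groth.Agent.Lib.FunFldExtB_helper2

/-! Finite extensions of function fields, part C (helper2): the conorm. -/

open Polynomial IntermediateField WithZero Module

namespace FunFld

variable {k K K' : Type*} [Field k] [Field K] [Field K'] [Algebra k K] [Algebra K K']
    [Algebra k K'] [IsScalarTower k K K']

section Conorm

theorem ramIdx_eq_zero {Q : Place k K'} {P : Place k K} (h : ¬ IsOver Q P) : ramIdx Q P = 0 := by
  classical
  unfold ramIdx
  rw [dif_neg h]

/-- The conorm of a single place. -/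
noncomputable def conormP {P : Place k K} (hfin : {Q : Place k K' | IsOver Q P}.Finite) :
    Divisor k K' :=
  hfin.toFinset.sum (fun Q => (ramIdx Q P : ℤ) • Finsupp.single Q 1)

theorem conormP_apply {P : Place k K} (hfin : {Q : Place k K' | IsOver Q P}.Finite)
    (Q : Place k K') : conormP hfin Q = ramIdx Q P := by
  classical
  unfold conormP
  rw [Finsupp.finsetSum_apply]
  by_cases h : IsOver Q P
  · rw [Finset.sum_eq_single Q]
    · rw [Finsupp.smul_apply, Finsupp.single_eq_same, smul_eq_mul, mul_one]
    · intro Q' _ hne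
      rw [Finsupp.smul_apply, Finsupp.single_apply, if_neg hne, smul_zero]
    · intro hQ
      exact absurd (hfin.mem_toFinset.mpr h) hQ
  · rw [ramIdx_eq_zero h, Nat.cast_zero]
    apply Finset.sum_eq_zero
    intro Q' hQ'
    have hQ'over : IsOver Q' P := hfin.mem_toFinset.mp hQ'
    have hne : Q' ≠ Q := fun heq => h (heq ▸ hQ'over)
    rw [Finsupp.smul_apply, Finsupp.single_apply, if_neg hne, smul_zero]

theorem conorm_eq (hfin : ∀ P : Place k K, {Q : Place k K' | IsOver Q P}.Finite)
    (D : Divisor k K) : conorm K' D = D.sum fun P n => n • conormP (hfin P) := by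
  classical
  unfold conorm
  refine Finsupp.sum_congr (fun P _ => ?_)
  rw [dif_pos (hfin P)]
  rfl

theorem conorm_apply (hfin : ∀ P : Place k K, {Q : Place k K' | IsOver Q P}.Finite)
    (D : Divisor k K) (Q : Place k K')
    {P : Place k K} (hQP : IsOver Q P) : conorm K' D Q = D P * ramIdx Q P := by
  classical
  rw [conorm_eq hfin, Finsupp.sum_apply]
  have h1 : ∀ (P' : Place k K) (n : ℤ), (n • conormP (hfin P')) Q =
      if P' = P then n * (ramIdx Q P : ℤ) else 0 := by
    intro P' n
    rw [Finsupp.smul_apply, conormP_apply, smul_eq_mul]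
    split_ifs with h
    · rw [h]
    · have h2 : ¬ IsOver Q P' := fun h' => h (h'.unique_below hQP)
      rw [ramIdx_eq_zero h2, Nat.cast_zero, mul_zero]
  simp only [h1]
  rw [Finsupp.sum_ite_eq']
  split_ifs with h
  · rfl
  · rw [Finsupp.notMem_support_iff.mp h, zero_mul]

/-- If no place below, the conorm vanishes there. -/
theorem conorm_apply_of_forall_not (hfin : ∀ P : Place k K, {Q : Place k K' | IsOver Q P}.Finite)
    (D : Divisor k K) (Q : Place k K') (hQ : ∀ P : Place k K, ¬ IsOver Q P) :
    conorm K' D Q = 0 := by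
  classical
  rw [conorm_eq hfin, Finsupp.sum_apply]
  apply Finset.sum_eq_zero
  intro P _
  show (D P • conormP (hfin P)) Q = 0
  rw [Finsupp.smul_apply, conormP_apply, ramIdx_eq_zero (hQ P), Nat.cast_zero, smul_zero]

variable [FiniteDimensional K K']

theorem deg_conormP (hK : IsFunctionField k K) (P : Place k K) :
    Divisor.deg (conormP (finite_isOver (K' := K') hK P)) = (Module.finrank K K' : ℤ) * P.deg := by
  classical
  unfold conormP
  rw [deg_eq_degAddHomH, map_sum]
  have h1 : ∀ Q : Place k K', degAddHomH ((ramIdx Q P : ℤ) • Finsupp.single Q 1 : Divisor k K') =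
      ((ramIdx Q P * Q.deg : ℕ) : ℤ) := by
    intro Q
    rw [map_zsmul, ← deg_eq_degAddHomH, deg_single, smul_eq_mul]
    push_cast
    ring
  simp only [h1]
  rw [← Nat.cast_sum, sum_ramIdx_mul_deg hK P _
    (fun Q => (finite_isOver (K' := K') hK P).mem_toFinset)]
  push_cast
  rfl

theorem deg_conorm (hK : IsFunctionField k K) (D : Divisor k K) :
    Divisor.deg (conorm K' D) = (Module.finrank K K' : ℤ) * Divisor.deg D := by
  classical
  rw [conorm_eq (fun P => finite_isOver hK P), deg_eq_degAddHomH, map_finsuppSum]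
  have h2 : Divisor.deg D = D.sum fun P n => n * (P.deg : ℤ) := rfl
  rw [h2, Finsupp.mul_sum]
  refine Finsupp.sum_congr (fun P _ => ?_)
  rw [map_zsmul, ← deg_eq_degAddHomH, deg_conormP hK P, smul_eq_mul]
  ring

theorem div_algebraMap_eq_conorm (hK : IsFunctionField k K) (x : K) :
    div k (algebraMap K K' x) = conorm K' (div k x) := by
  ext Q
  obtain ⟨P, e, he⟩ := exists_isOverWith hK Q
  rw [div_apply_ext hK, conorm_apply (fun P => finite_isOver hK P) _ Q ⟨e, he⟩, div_apply hK,
    he.ord_eq, ramIdx_eq he]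
  ring

theorem mapDiv_algebraMap_eq_conorm (hK : IsFunctionField k K) (hK' : IsFunctionField k K')
    {ι : Type*} [Fintype ι] [Nonempty ι] (φ : ι → K) :
    mapDiv k (fun i => algebraMap K K' (φ i)) = conorm K' (mapDiv k φ) := by
  ext Q
  obtain ⟨P, e, he⟩ := exists_isOverWith hK Q
  rw [mapDiv_apply hK', conorm_apply (fun P => finite_isOver hK P) _ Q ⟨e, he⟩, mapDiv_apply hK,
    ramIdx_eq he]
  unfold minOrd
  have h1 : (fun i => Q.ord (algebraMap K K' (φ i))) = (fun x : ℤ => (e : ℤ) * x) ∘
      (fun i => P.ord (φ i)) := by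
    funext i
    exact he.ord_eq (φ i)
  rw [h1, ← Finset.apply_inf'_eq_inf'_comp Finset.univ_nonempty (fun x : ℤ => (e : ℤ) * x)
    (fun x y => mul_min_of_nonneg x y (Int.natCast_nonneg e))]
  ring

end Conorm

end FunFld
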