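import Mathlib
import Groth.Agent.Lib.FunFldExtC_helper2

/-! Finite extensions of function fields, part D (helper2): Galois extensions. -/

open Polynomial IntermediateField WithZero Module

namespace FunFld

variable {k K K' : Type*} [Field k] [Field K] [Field K'] [Algebra k K] [Algebra K K']
    [Algebra k K'] [IsScalarTower k K K']

section Galois

/-- Transport of a place along an automorphism: `Q ∘ σ`. -/
def Place.comapAlgEquiv (Q : Place k K') (σ : K' ≃ₐ[K] K') : Place k K' :=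
  ⟨Q.1.comap (σ : K' →+* K'), fun c => by
      show Q.1 (σ (algebraMap k K' c)) ≤ 1
      rw [IsScalarTower.algebraMap_apply k K K', σ.commutes, ← IsScalarTower.algebraMap_apply]
      exact Q.2.1 c,
    fun γ => by
      obtain ⟨z, hz⟩ := Q.2.2 γ
      refine ⟨σ.symm z, ?_⟩
      show Q.1 (σ (σ.symm z)) = γ
      rw [σ.apply_symm_apply]
      exact hz⟩

theorem Place.comapAlgEquiv_apply (Q : Place k K') (σ : K' ≃ₐ[K] K') (z : K') :
    (Q.comapAlgEquiv σ).1 z = Q.1 (σ z) := rfl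

theorem Place.comapAlgEquiv_one (Q : Place k K') :
    Q.comapAlgEquiv (1 : K' ≃ₐ[K] K') = Q := Subtype.ext (Valuation.ext fun _ => rfl)

theorem Place.comapAlgEquiv_mul (Q : Place k K') (σ τ : K' ≃ₐ[K] K') :
    (Q.comapAlgEquiv σ).comapAlgEquiv τ = Q.comapAlgEquiv (σ * τ) :=
  Subtype.ext (Valuation.ext fun _ => rfl)

theorem IsOverWith.comapAlgEquiv {Q : Place k K'} {P : Place k K} {e : ℕ}
    (h : IsOverWith Q P e) (σ : K' ≃ₐ[K] K') : IsOverWith (Q.comapAlgEquiv σ) P e := by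
  intro x
  show Q.1 (σ (algebraMap K K' x)) = _
  rw [σ.commutes]
  exact h x

theorem IsOver.comapAlgEquiv {Q : Place k K'} {P : Place k K}
    (h : IsOver Q P) (σ : K' ≃ₐ[K] K') : IsOver (Q.comapAlgEquiv σ) P := by
  obtain ⟨e, he⟩ := h
  exact ⟨e, he.comapAlgEquiv σ⟩

/-- The induced isomorphism of valuation rings. -/
def Place.comapEquivO (Q : Place k K') (σ : K' ≃ₐ[K] K') : (Q.comapAlgEquiv σ).O ≃+* Q.O where
  toFun z := ⟨σ z, z.2⟩
  invFun w := ⟨σ.symm w, by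
    show Q.1 (σ (σ.symm w)) ≤ 1
    rw [σ.apply_symm_apply]
    exact w.2⟩
  left_inv z := Subtype.ext (σ.symm_apply_apply z)
  right_inv w := Subtype.ext (σ.apply_symm_apply w)
  map_mul' a b := Subtype.ext (map_mul σ (a : K') (b : K'))
  map_add' a b := Subtype.ext (map_add σ (a : K') (b : K'))

theorem Place.deg_comapAlgEquiv (Q : Place k K') (σ : K' ≃ₐ[K] K') :
    (Q.comapAlgEquiv σ).deg = Q.deg := by
  unfold Place.deg
  refine Algebra.finrank_eq_of_equiv_equiv (RingEquiv.refl k)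
    (IsLocalRing.ResidueField.mapEquiv (Q.comapEquivO σ)) ?_
  ext c
  show IsLocalRing.residue Q.O ⟨algebraMap k K' c, _⟩ =
    IsLocalRing.ResidueField.mapEquiv (Q.comapEquivO σ)
      (IsLocalRing.residue (Q.comapAlgEquiv σ).O ⟨algebraMap k K' c, _⟩)
  have h1 : IsLocalRing.ResidueField.mapEquiv (Q.comapEquivO σ)
      (IsLocalRing.residue (Q.comapAlgEquiv σ).O ⟨algebraMap k K' c, (Q.comapAlgEquiv σ).2.1 c⟩) =
      IsLocalRing.residue Q.O ((Q.comapEquivO σ) ⟨algebraMap k K' c, (Q.comapAlgEquiv σ).2.1 c⟩) :=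
    rfl
  rw [h1]
  congr 1
  apply Subtype.ext
  show algebraMap k K' c = σ (algebraMap k K' c)
  rw [IsScalarTower.algebraMap_apply k K K', σ.commutes]

variable [FiniteDimensional K K']

/-- The Galois group acts transitively on the places above `P`. -/
theorem exists_comapAlgEquiv_eq [IsGalois K K'] {Q₁ Q₂ : Place k K'} {P : Place k K}
    (h₁ : IsOver Q₁ P) (h₂ : IsOver Q₂ P) : ∃ σ : K' ≃ₐ[K] K', Q₁.comapAlgEquiv σ = Q₂ := by
  classical
  by_contra hno
  push Not at hno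
  let T₁ : Finset (Place k K') := Finset.univ.image (fun σ : K' ≃ₐ[K] K' => Q₁.comapAlgEquiv σ)
  let T₂ : Finset (Place k K') := Finset.univ.image (fun σ : K' ≃ₐ[K] K' => Q₂.comapAlgEquiv σ)
  have hdisj : ∀ τ : K' ≃ₐ[K] K', Q₂.comapAlgEquiv τ ∉ T₁ := by
    intro τ hmem
    obtain ⟨σ, -, hσ⟩ := Finset.mem_image.mp hmem
    apply hno (σ * τ⁻¹)
    rw [← Place.comapAlgEquiv_mul, hσ, Place.comapAlgEquiv_mul, mul_inv_cancel,
      Place.comapAlgEquiv_one]
  have hsub₁ : ∀ σ : K' ≃ₐ[K] K', Q₁.comapAlgEquiv σ ∈ T₁ ∪ T₂ := fun σ =>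
    Finset.mem_union_left _ (Finset.mem_image_of_mem _ (Finset.mem_univ σ))
  have hsub₂ : ∀ σ : K' ≃ₐ[K] K', Q₂.comapAlgEquiv σ ∈ T₁ ∪ T₂ := fun σ =>
    Finset.mem_union_right _ (Finset.mem_image_of_mem _ (Finset.mem_univ σ))
  obtain ⟨z, hz⟩ := exists_approx (fun v : {v // v ∈ T₁ ∪ T₂} => (v : Place k K'))
    Subtype.val_injective (fun v => if (v : Place k K') ∈ T₁ then (1 : K') else 0) 1
  have h1 : ∀ σ : K' ≃ₐ[K] K', Q₁.1 (σ z) = 1 := by
    intro σ
    have hmem : Q₁.comapAlgEquiv σ ∈ T₁ := Finset.mem_image_of_mem _ (Finset.mem_univ σ)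
    have h := hz ⟨_, hsub₁ σ⟩
    simp only [if_pos hmem] at h
    have hlt : (Q₁.comapAlgEquiv σ).1 (z - 1) < (Q₁.comapAlgEquiv σ).1 (1 : K') := by
      rw [map_one]
      exact lt_of_le_of_lt h exp_neg_one_lt_one
    have h3 : z = 1 + (z - 1) := by ring
    have h4 : (Q₁.comapAlgEquiv σ).1 z = 1 := by
      rw [h3, Valuation.map_add_eq_of_lt_left _ hlt, map_one]
    exact h4
  have h2 : ∀ τ : K' ≃ₐ[K] K', Q₂.1 (τ z) < 1 := by
    intro τ
    have h := hz ⟨_, hsub₂ τ⟩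
    simp only [if_neg (hdisj τ), sub_zero] at h
    exact lt_of_le_of_lt h exp_neg_one_lt_one
  have hN : algebraMap K K' (Algebra.norm K z) = ∏ σ : K' ≃ₐ[K] K', σ z :=
    Algebra.norm_eq_prod_automorphisms K z
  have hQ1 : Q₁.1 (algebraMap K K' (Algebra.norm K z)) = 1 := by
    rw [hN, map_prod]
    exact Finset.prod_eq_one (fun σ _ => h1 σ)
  have hQ2 : Q₂.1 (algebraMap K K' (Algebra.norm K z)) < 1 := by
    rw [hN, map_prod, ← Finset.mul_prod_erase Finset.univ _ (Finset.mem_univ (1 : K' ≃ₐ[K] K'))]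
    calc Q₂.1 ((1 : K' ≃ₐ[K] K') z) * ∏ σ ∈ Finset.univ.erase (1 : K' ≃ₐ[K] K'), Q₂.1 (σ z)
        ≤ Q₂.1 ((1 : K' ≃ₐ[K] K') z) * 1 :=
          mul_le_mul' le_rfl (Finset.prod_le_one' (fun σ _ => (h2 σ).le))
      _ = Q₂.1 ((1 : K' ≃ₐ[K] K') z) := mul_one _
      _ < 1 := h2 1
  obtain ⟨e₁, he₁⟩ := h₁
  obtain ⟨e₂, he₂⟩ := h₂
  rw [he₁] at hQ1
  rw [he₂] at hQ2
  have h5 : P.1 (Algebra.norm K z) = 1 := (pow_eq_one_iff.mp hQ1).resolve_right he₁.pos.ne'
  rw [h5, one_pow] at hQ2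
  exact lt_irrefl _ hQ2

open scoped Pointwise in
theorem Place.O_comapAlgEquiv (Q : Place k K') (σ : K' ≃ₐ[K] K') :
    (Q.comapAlgEquiv σ).O = σ⁻¹ • Q.O := by
  ext z
  rw [ValuationSubring.mem_inv_pointwise_smul_iff]
  rfl

theorem Place.eq_of_O_eq {Q Q' : Place k K'} (h : Q.O = Q'.O) : Q = Q' :=
  Place.eq_of_forall_le_one (fun a ha => by
    have h1 : a ∈ Q.O := ha
    rw [h] at h1
    exact h1)

open scoped Pointwise in
theorem card_isOver_mul_card_decomposition [IsGalois K K'] {Q : Place k K'} {P : Place k K}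
    (h : IsOver Q P) :
    Nat.card {Q' : Place k K' // IsOver Q' P} * Nat.card (Q.O.decompositionSubgroup K) =
      Module.finrank K K' := by
  classical
  have himg : MulAction.orbit (K' ≃ₐ[K] K') Q.O =
      (fun Q' : Place k K' => Q'.O) '' {Q' | IsOver Q' P} := by
    ext A
    constructor
    · rintro ⟨σ, rfl⟩
      refine ⟨Q.comapAlgEquiv σ⁻¹, h.comapAlgEquiv _, ?_⟩
      show (Q.comapAlgEquiv σ⁻¹).O = σ • Q.O
      rw [Place.O_comapAlgEquiv, inv_inv]
    · rintro ⟨Q', hQ', rfl⟩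
      obtain ⟨σ, hσ⟩ := exists_comapAlgEquiv_eq h hQ'
      refine ⟨σ⁻¹, ?_⟩
      show σ⁻¹ • Q.O = Q'.O
      rw [← hσ, Place.O_comapAlgEquiv]
  have hinj : Set.InjOn (fun Q' : Place k K' => Q'.O) {Q' | IsOver Q' P} :=
    fun a _ b _ hab => Place.eq_of_O_eq hab
  have hcard : Nat.card {Q' : Place k K' // IsOver Q' P} =
      (MulAction.orbit (K' ≃ₐ[K] K') Q.O).ncard := by
    rw [himg, hinj.ncard_image]
    exact Nat.card_coe_set_eq _
  rw [hcard, ← MulAction.index_stabilizer, mul_comm, Subgroup.card_mul_index,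
    IsGalois.card_aut_eq_finrank]

theorem isOverWith_and_deg_eq [IsGalois K K'] {Q : Place k K'} {P : Place k K} {e : ℕ}
    (he : IsOverWith Q P e) {Q' : Place k K'} (hQ' : IsOver Q' P) :
    IsOverWith Q' P e ∧ Q'.deg = Q.deg := by
  obtain ⟨σ, rfl⟩ := exists_comapAlgEquiv_eq ⟨e, he⟩ hQ'
  exact ⟨he.comapAlgEquiv σ, Place.deg_comapAlgEquiv Q σ⟩

theorem card_decomposition_mul_deg [IsGalois K K'] (hK : IsFunctionField k K) {Q : Place k K'}
    {P : Place k K} {e : ℕ} (he : IsOverWith Q P e) :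
    Nat.card (Q.O.decompositionSubgroup K) * P.deg = e * Q.deg := by
  classical
  have hfin := finite_isOver (K' := K') hK P
  have hsum := sum_ramIdx_mul_deg hK P hfin.toFinset (fun Q' => hfin.mem_toFinset)
  have hconst : ∀ Q' ∈ hfin.toFinset, ramIdx Q' P * Q'.deg = e * Q.deg := by
    intro Q' hQ'
    obtain ⟨h1, h2⟩ := isOverWith_and_deg_eq he (hfin.mem_toFinset.mp hQ')
    rw [ramIdx_eq h1, h2]
  rw [Finset.sum_congr rfl hconst, Finset.sum_const, smul_eq_mul] at hsum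
  have hcount := card_isOver_mul_card_decomposition (⟨e, he⟩ : IsOver Q P)
  have hcard : hfin.toFinset.card = Nat.card {Q' : Place k K' // IsOver Q' P} := by
    rw [← Set.ncard_eq_toFinset_card _ hfin]
    exact (Nat.card_coe_set_eq _).symm
  rw [← hcount, hcard, mul_assoc] at hsum
  have hpos : 0 < Nat.card {Q' : Place k K' // IsOver Q' P} := by
    haveI : Finite {Q' : Place k K' // IsOver Q' P} := hfin.to_subtype
    haveI : Nonempty {Q' : Place k K' // IsOver Q' P} := ⟨⟨Q, e, he⟩⟩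
    exact Nat.card_pos
  exact (Nat.eq_of_mul_eq_mul_left hpos hsum).symm

end Galois

end FunFld
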