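import Mathlib
import Groth.Agent.Lib.FunFldExtD_helper2

/-! Residue field embeddings for places above, total ramification, quadratic extensions
(helper2). -/

open Polynomial IntermediateField WithZero Module

namespace FunFld

variable {k K K' : Type*} [Field k] [Field K] [Field K'] [Algebra k K] [Algebra K K']
    [Algebra k K'] [IsScalarTower k K K']

section Residue

theorem Place.isUnit_iff_val (P : Place k K) (u : P.O) : IsUnit u ↔ P.1 (u : K) = 1 := by
  have hu1 : P.1 (u : K) ≤ 1 := u.2
  rw [← IsLocalRing.notMem_maximalIdeal, ← IsLocalRing.residue_eq_zero_iff,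
    P.residue_eq_zero_iff]
  constructor
  · intro h
    exact le_antisymm hu1 (not_lt.mp h)
  · intro h
    rw [h]
    exact lt_irrefl _

variable {Q : Place k K'} {P : Place k K} {e : ℕ}

/-- The inclusion of valuation rings for a place above another. -/
def IsOverWith.mapO (h : IsOverWith Q P e) : P.O →+* Q.O where
  toFun a := ⟨algebraMap K K' (a : K), by
    show Q.1 (algebraMap K K' (a : K)) ≤ 1
    have ha : P.1 (a : K) ≤ 1 := a.2
    rw [h (a : K)]
    exact pow_le_one₀ zero_le ha⟩
  map_one' := Subtype.ext (map_one (algebraMap K K'))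
  map_mul' a b := Subtype.ext (map_mul (algebraMap K K') (a : K) (b : K))
  map_zero' := Subtype.ext (map_zero (algebraMap K K'))
  map_add' a b := Subtype.ext (map_add (algebraMap K K') (a : K) (b : K))

theorem IsOverWith.mapO_coe (h : IsOverWith Q P e) (a : P.O) :
    ((h.mapO a : Q.O) : K') = algebraMap K K' (a : K) := rfl

theorem IsOverWith.isLocalHom_mapO (h : IsOverWith Q P e) : IsLocalHom h.mapO := by
  constructor
  intro a ha
  have hu : Q.1 (algebraMap K K' (a : K)) = 1 := (Q.isUnit_iff_val _).mp ha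
  rw [P.isUnit_iff_val]
  have ha1 : P.1 (a : K) ≤ 1 := a.2
  by_contra hne
  have hlt : P.1 (a : K) < 1 := lt_of_le_of_ne ha1 hne
  have h2 := pow_lt_one₀ (zero_le : (0 : ℤᵐ⁰) ≤ P.1 (a : K)) hlt h.pos.ne'
  rw [← h (a : K), hu] at h2
  exact lt_irrefl _ h2

/-- The induced embedding of residue fields. -/
noncomputable def IsOverWith.resMap (h : IsOverWith Q P e) :
    IsLocalRing.ResidueField P.O →ₐ[k] IsLocalRing.ResidueField Q.O :=
  haveI := h.isLocalHom_mapO
  { IsLocalRing.ResidueField.map h.mapO with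
    commutes' := fun c => by
      show IsLocalRing.ResidueField.map h.mapO
        (IsLocalRing.residue P.O ⟨algebraMap k K c, P.2.1 c⟩) =
        IsLocalRing.residue Q.O ⟨algebraMap k K' c, Q.2.1 c⟩
      rw [IsLocalRing.ResidueField.map_residue]
      congr 1
      apply Subtype.ext
      show algebraMap K K' (algebraMap k K c) = algebraMap k K' c
      rw [← IsScalarTower.algebraMap_apply] }

theorem IsOverWith.resMap_residue (h : IsOverWith Q P e) (a : P.O) :
    h.resMap (IsLocalRing.residue P.O a) = IsLocalRing.residue Q.O (h.mapO a) := rfl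

theorem IsOverWith.resMap_injective (h : IsOverWith Q P e) : Function.Injective h.resMap :=
  h.resMap.toRingHom.injective

theorem IsOverWith.deg_le (h : IsOverWith Q P e) (hQ : 0 < Q.deg) : P.deg ≤ Q.deg := by
  haveI : Module.Finite k (IsLocalRing.ResidueField Q.O) := Module.finite_of_finrank_pos hQ
  exact LinearMap.finrank_le_finrank_of_injective (f := h.resMap.toLinearMap) h.resMap_injective

theorem IsOverWith.exists_sub_lt_one (h : IsOverWith Q P e) (hdeg : Q.deg = P.deg)
    (hpos : 0 < Q.deg) {w : K'} (hw : Q.1 w ≤ 1) :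
    ∃ a : K, P.1 a ≤ 1 ∧ Q.1 (w - algebraMap K K' a) < 1 := by
  haveI : Module.Finite k (IsLocalRing.ResidueField Q.O) := Module.finite_of_finrank_pos hpos
  haveI : Module.Finite k (IsLocalRing.ResidueField P.O) :=
    Module.finite_of_finrank_pos (show 0 < P.deg by rw [← hdeg]; exact hpos)
  have hinj : Function.Injective h.resMap.toLinearMap := h.resMap_injective
  have hsurj : Function.Surjective h.resMap.toLinearMap :=
    (LinearMap.injective_iff_surjective_of_finrank_eq_finrank
      (show Module.finrank k (IsLocalRing.ResidueField P.O) =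
        Module.finrank k (IsLocalRing.ResidueField Q.O) from hdeg.symm)).mp hinj
  obtain ⟨r, hr⟩ := hsurj (IsLocalRing.residue Q.O ⟨w, hw⟩)
  obtain ⟨a, rfl⟩ := IsLocalRing.residue_surjective r
  have ha : P.1 (a : K) ≤ 1 := a.2
  refine ⟨(a : K), ha, ?_⟩
  have hr' : IsLocalRing.residue Q.O (h.mapO a) = IsLocalRing.residue Q.O ⟨w, hw⟩ := by
    rw [← h.resMap_residue]
    exact hr
  have h1 : IsLocalRing.residue Q.O ((⟨w, hw⟩ : Q.O) - h.mapO a) = 0 := by
    rw [map_sub, hr', sub_self]
  exact (Q.residue_eq_zero_iff _).mp h1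

end Residue

section Ext

variable [FiniteDimensional K K'] {Q : Place k K'} {P : Place k K} {e : ℕ}

theorem Place.deg_pos_ext (hK : IsFunctionField k K) (Q : Place k K') : 0 < Q.deg := by
  classical
  haveI : Algebra.IsAlgebraic k (algebraicClosure k K') := algebraicClosure.isAlgebraic k K'
  have hK₁ := isFunctionField_algebraicClosure (K' := K') hK
  obtain ⟨x, hx, hfin⟩ := hK.1
  haveI := hfin
  have hyt : Transcendental k (algebraMap K K' x) := fun h =>
    hx ((isAlgebraic_algebraMap_iff (algebraMap K K').injective).mp h)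
  have hfr := finrank_adjoin_algebraMap (k := k) (K' := K') x
  have hpos : 0 < Module.finrank k⟮algebraMap K K' x⟯ K' := by
    rw [hfr]
    exact Nat.mul_pos Module.finrank_pos Module.finrank_pos
  haveI : FiniteDimensional k⟮algebraMap K K' x⟯ K' := Module.finite_of_finrank_pos hpos
  haveI : FiniteDimensional k (algebraicClosure k K') :=
    finiteDimensional_algebraicClosure_of_transcendental hyt
  rw [Place.deg_eq_mul_deg_extendConst (algebraicClosure k K') Q]
  exact Nat.mul_pos Module.finrank_pos ((Q.extendConst _).deg_pos hK₁)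

theorem exists_isOver_above (hK : IsFunctionField k K) (P : Place k K) :
    ∃ Q : Place k K', IsOver Q P := by
  classical
  have hfin := finite_isOver (K' := K') hK P
  have hsum := sum_ramIdx_mul_deg hK P hfin.toFinset
    (fun Q' => by rw [Set.Finite.mem_toFinset]; rfl)
  by_contra hne
  push Not at hne
  have hempty : hfin.toFinset = ∅ :=
    Finset.eq_empty_of_forall_notMem (fun Q' hQ' => hne Q' (hfin.mem_toFinset.mp hQ'))
  rw [hempty, Finset.sum_empty] at hsum
  have := Nat.mul_pos (Module.finrank_pos (R := K) (M := K')) (P.deg_pos hK)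
  omega

theorem IsOverWith.mul_deg_le (hK : IsFunctionField k K) (h : IsOverWith Q P e) :
    e * Q.deg ≤ Module.finrank K K' * P.deg := by
  classical
  have hfin := finite_isOver (K' := K') hK P
  have hsum := sum_ramIdx_mul_deg hK P hfin.toFinset
    (fun Q' => by rw [Set.Finite.mem_toFinset]; rfl)
  rw [← hsum]
  have hQ : Q ∈ hfin.toFinset := by
    rw [Set.Finite.mem_toFinset]
    exact ⟨e, h⟩
  have := Finset.single_le_sum (f := fun Q' : Place k K' => ramIdx Q' P * Q'.deg)
    (fun _ _ => Nat.zero_le _) hQ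
  rwa [ramIdx_eq h] at this

theorem IsOverWith.le_finrank (hK : IsFunctionField k K) (h : IsOverWith Q P e) :
    e ≤ Module.finrank K K' := by
  have h1 := h.mul_deg_le hK
  have h2 := h.deg_le (Q.deg_pos_ext hK)
  have h3 := P.deg_pos hK
  exact Nat.le_of_mul_le_mul_right ((Nat.mul_le_mul_left e h2).trans h1) h3

theorem IsOverWith.unique_of_eq_finrank (hK : IsFunctionField k K) (h : IsOverWith Q P e)
    (he : e = Module.finrank K K') :
    (∀ Q' : Place k K', IsOver Q' P → Q' = Q) ∧ Q.deg = P.deg := by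
  classical
  have hfin := finite_isOver (K' := K') hK P
  have hsum := sum_ramIdx_mul_deg hK P hfin.toFinset
    (fun Q' => by rw [Set.Finite.mem_toFinset]; rfl)
  have hQ : Q ∈ hfin.toFinset := by
    rw [Set.Finite.mem_toFinset]
    exact ⟨e, h⟩
  have h2 := h.deg_le (Q.deg_pos_ext hK)
  have h1 := h.mul_deg_le hK
  have hn : 0 < Module.finrank K K' := Module.finrank_pos
  have hdeg : Q.deg = P.deg := by
    rw [he] at h1
    exact le_antisymm (Nat.le_of_mul_le_mul_left h1 hn) h2
  refine ⟨fun Q' hQ' => ?_, hdeg⟩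
  by_contra hne
  have hQ'mem : Q' ∈ hfin.toFinset := by
    rw [Set.Finite.mem_toFinset]
    exact hQ'
  have hsub : ({Q, Q'} : Finset (Place k K')) ⊆ hfin.toFinset := by
    intro R hR
    rw [Finset.mem_insert, Finset.mem_singleton] at hR
    rcases hR with rfl | rfl
    · exact hQ
    · exact hQ'mem
  have hpair := Finset.sum_le_sum_of_subset (f := fun R : Place k K' => ramIdx R P * R.deg) hsub
  rw [Finset.sum_pair (Ne.symm hne), hsum, ramIdx_eq h, he, hdeg] at hpair
  have hpos : 0 < ramIdx Q' P * Q'.deg :=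
    Nat.mul_pos (by rw [ramIdx_eq hQ'.isOverWith_ramIdx]; exact hQ'.isOverWith_ramIdx.pos)
      (Q'.deg_pos_ext hK)
  omega

/-- At a totally ramified place, every automorphism acts trivially on the residue field. -/
theorem IsOverWith.val_conj_sub_lt_one (hK : IsFunctionField k K) (h : IsOverWith Q P e)
    (he : e = Module.finrank K K') (σ : K' ≃ₐ[K] K') {w : K'} (hw : Q.1 w ≤ 1) :
    Q.1 (σ w - w) < 1 := by
  obtain ⟨huniq, hdeg⟩ := h.unique_of_eq_finrank hK he
  have hσ : Q.comapAlgEquiv σ = Q := huniq _ (IsOver.comapAlgEquiv (⟨e, h⟩ : IsOver Q P) σ)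
  obtain ⟨a, -, hlt⟩ := h.exists_sub_lt_one hdeg (Q.deg_pos_ext hK) hw
  have h1 : Q.1 (σ (w - algebraMap K K' a)) < 1 := by
    rw [← Place.comapAlgEquiv_apply, hσ]
    exact hlt
  have h2 : σ w - w = σ (w - algebraMap K K' a) - (w - algebraMap K K' a) := by
    rw [map_sub, σ.commutes]
    ring
  rw [h2]
  exact lt_of_le_of_lt (Valuation.map_sub _ _ _) (max_lt h1 hlt)

theorem isOverWith_two_of_odd (hK : IsFunctionField k K) (h2 : Module.finrank K K' = 2)
    (hQP : IsOver Q P) {w : K'} {a : K}
    (hw : 2 * Q.ord w = Q.ord (algebraMap K K' a)) (ha : Odd (P.ord a)) : IsOverWith Q P 2 := by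
  obtain ⟨e, he⟩ := hQP
  have h1 := he.ord_eq a
  have hle := he.le_finrank hK
  rw [h2] at hle
  have hpos := he.pos
  have hne1 : e ≠ 1 := by
    rintro rfl
    rw [h1] at hw
    obtain ⟨m, hm⟩ := ha
    push_cast at hw
    omega
  have : e = 2 := by omega
  rwa [this] at he

theorem totally_ramified_of_odd (hK : IsFunctionField k K) (h2 : Module.finrank K K' = 2)
    (P : Place k K)
    (H : ∀ Q : Place k K', IsOver Q P → ∃ (w : K') (a : K),
      2 * Q.ord w = Q.ord (algebraMap K K' a) ∧ Odd (P.ord a)) :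
    (∃! Q : Place k K', IsOver Q P) ∧
      ∀ Q : Place k K', IsOver Q P → IsOverWith Q P 2 ∧ Q.deg = P.deg := by
  have key : ∀ Q : Place k K', IsOver Q P → IsOverWith Q P 2 := fun Q hQ => by
    obtain ⟨w, a, hw, ha⟩ := H Q hQ
    exact isOverWith_two_of_odd hK h2 hQ hw ha
  obtain ⟨Q₀, hQ₀⟩ := exists_isOver_above (K' := K') hK P
  have hu := (key Q₀ hQ₀).unique_of_eq_finrank hK h2.symm
  refine ⟨⟨Q₀, hQ₀, fun Q' hQ' => hu.1 Q' hQ'⟩, fun Q hQ => ⟨key Q hQ, ?_⟩⟩
  exact ((key Q hQ).unique_of_eq_finrank hK h2.symm).2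

end Ext

end FunFld
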