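import Mathlib
import Groth.Agent.Lib.FunFldQuad_helper2

/-! Places of the rational function field, quadratic normal forms, Artin–Schreier pole
reduction (helper2). -/

open Polynomial IntermediateField WithZero Module

namespace FunFld

section Rat

variable {k : Type*} [Field k]

theorem isFunctionField_ratFunc : IsFunctionField k (RatFunc k) := by
  refine ⟨⟨RatFunc.X, RatFunc.transcendental_X, ?_⟩, ?_⟩
  · have h1 : Module.finrank (IntermediateField.adjoin k ({(RatFunc.X : RatFunc k)} : Set (RatFunc k)))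
        (RatFunc k) = 1 :=
      IntermediateField.finrank_eq_one_iff_eq_top.mpr RatFunc.adjoin_X
    exact Module.finite_of_finrank_pos (by rw [h1]; exact one_pos)
  · intro y hy
    by_contra hne
    refine RatFunc.transcendental_of_ne_C y (fun ⟨c, hc⟩ => hne ⟨c, ?_⟩) hy
    rw [hc, RatFunc.algebraMap_eq_C]

theorem ratFunc_exists_inf : ∃ P : Place k (RatFunc k), P.deg = 1 ∧
    P.ord (RatFunc.X : RatFunc k) = -1 ∧
      ∀ Q : Place k (RatFunc k), Q ≠ P → 0 ≤ Q.ord (RatFunc.X : RatFunc k) :=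
  exists_simple_pole_of_adjoin_eq_top isFunctionField_ratFunc RatFunc.adjoin_X

theorem ratFunc_genus : genus k (RatFunc k) = 0 := by
  obtain ⟨P, hP, hxo, hxQ⟩ := ratFunc_exists_inf (k := k)
  exact (adjoin_eq_top_of_simple_pole isFunctionField_ratFunc hP hxo hxQ).2

theorem Place.ratFunc_inf (P : Place k (RatFunc k)) (h : P.ord (RatFunc.X : RatFunc k) < 0) :
    P.ord (RatFunc.X : RatFunc k) = -1 ∧ P.deg = 1 := by
  obtain ⟨P', hdeg, hord, hall⟩ := ratFunc_exists_inf (k := k)
  have : P = P' := by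
    by_contra hne
    have := hall P hne
    omega
  rw [this]
  exact ⟨hord, hdeg⟩

theorem Place.ratFunc_ord_poly_of_inf (P : Place k (RatFunc k))
    (h : P.ord (RatFunc.X : RatFunc k) < 0) {q : k[X]} (hq : q ≠ 0) :
    P.ord (algebraMap k[X] (RatFunc k) q) = -(q.natDegree : ℤ) := by
  have hX0 : (RatFunc.X : RatFunc k) ≠ 0 := RatFunc.X_ne_zero
  have h1 : 1 < P.1 RatFunc.X := (P.ord_neg_iff hX0).mp h
  have h2 := val_aeval_of_one_lt P h1 hq
  rw [RatFunc.aeval_X_left_eq_algebraMap] at h2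
  have h3 : P.ord (algebraMap k[X] (RatFunc k) q) =
      P.ord ((RatFunc.X : RatFunc k) ^ q.natDegree) := by
    unfold Place.ord
    rw [h2, map_pow]
  rw [h3, P.ord_pow, (P.ratFunc_inf h).1]
  ring

theorem Place.ratFunc_val_poly_le_one (P : Place k (RatFunc k))
    (hX : P.1 (RatFunc.X : RatFunc k) ≤ 1) (q : k[X]) :
    P.1 (algebraMap k[X] (RatFunc k) q) ≤ 1 := by
  rw [← RatFunc.aeval_X_left_eq_algebraMap]
  exact val_aeval_le_one P.1 P.2.1 hX q

theorem Place.ratFunc_val_X_le_one (P : Place k (RatFunc k)) {q : k[X]} (hq0 : q ≠ 0)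
    (hq : P.1 (algebraMap k[X] (RatFunc k) q) < 1) : P.1 (RatFunc.X : RatFunc k) ≤ 1 := by
  by_contra h
  push Not at h
  have h2 := val_aeval_of_one_lt P h hq0
  rw [RatFunc.aeval_X_left_eq_algebraMap] at h2
  rw [h2] at hq
  exact absurd hq (not_lt.mpr (one_le_pow₀ h.le))

theorem Place.ratFunc_val_eq_one_of_not_dvd (P : Place k (RatFunc k)) {p : k[X]}
    (hp : Irreducible p) (hP : P.1 (algebraMap k[X] (RatFunc k) p) < 1) {g : k[X]}
    (hg : ¬ p ∣ g) : P.1 (algebraMap k[X] (RatFunc k) g) = 1 := by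
  have hX := P.ratFunc_val_X_le_one hp.ne_zero hP
  obtain ⟨a, b, hab⟩ := hp.coprime_iff_not_dvd.mpr hg
  have hg1 := P.ratFunc_val_poly_le_one hX g
  by_contra hne
  have hglt : P.1 (algebraMap k[X] (RatFunc k) g) < 1 := lt_of_le_of_ne hg1 hne
  have h1 : P.1 (algebraMap k[X] (RatFunc k) (a * p + b * g)) < 1 := by
    rw [map_add, map_mul, map_mul]
    refine lt_of_le_of_lt (P.1.map_add _ _) (max_lt ?_ ?_)
    · rw [map_mul]
      calc P.1 (algebraMap k[X] (RatFunc k) a) * P.1 (algebraMap k[X] (RatFunc k) p)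
          ≤ 1 * P.1 (algebraMap k[X] (RatFunc k) p) :=
            mul_le_mul' (P.ratFunc_val_poly_le_one hX a) le_rfl
        _ < 1 := by rwa [one_mul]
    · rw [map_mul]
      calc P.1 (algebraMap k[X] (RatFunc k) b) * P.1 (algebraMap k[X] (RatFunc k) g)
          ≤ 1 * P.1 (algebraMap k[X] (RatFunc k) g) :=
            mul_le_mul' (P.ratFunc_val_poly_le_one hX b) le_rfl
        _ < 1 := by rwa [one_mul]
  rw [hab, map_one, map_one] at h1
  exact lt_irrefl _ h1

theorem Place.ratFunc_ord_irreducible (P : Place k (RatFunc k)) {p : k[X]}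
    (hp : Irreducible p) (hP : P.1 (algebraMap k[X] (RatFunc k) p) < 1) :
    P.ord (algebraMap k[X] (RatFunc k) p) = 1 := by
  have hp0 : algebraMap k[X] (RatFunc k) p ≠ 0 := RatFunc.algebraMap_ne_zero hp.ne_zero
  have hm : 0 < P.ord (algebraMap k[X] (RatFunc k) p) := (P.ord_pos_iff hp0).mpr hP
  have key : ∀ q : k[X], q ≠ 0 → ∃ i : ℕ, P.ord (algebraMap k[X] (RatFunc k) q) =
      i * P.ord (algebraMap k[X] (RatFunc k) p) := by
    intro q hq
    obtain ⟨n, q', hndvd, rfl⟩ := WfDvdMonoid.max_power_factor hq hp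
    refine ⟨n, ?_⟩
    have hq'0 : q' ≠ 0 := right_ne_zero_of_mul hq
    have hq'0' : algebraMap k[X] (RatFunc k) q' ≠ 0 := RatFunc.algebraMap_ne_zero hq'0
    have hv : P.1 (algebraMap k[X] (RatFunc k) q') = 1 :=
      P.ratFunc_val_eq_one_of_not_dvd hp hP hndvd
    have ho : P.ord (algebraMap k[X] (RatFunc k) q') = 0 := (P.ord_eq_zero_iff hq'0').mpr hv
    rw [map_mul, map_pow, P.ord_mul (pow_ne_zero _ hp0) hq'0', P.ord_pow, ho, add_zero]
  obtain ⟨t, ht⟩ := P.exists_uniformizer
  have ht0 : t ≠ 0 := by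
    rintro rfl
    rw [map_zero] at ht
    exact exp_ne_zero ht.symm
  have hto : P.ord t = 1 := by
    unfold Place.ord
    rw [ht, log_exp]
    norm_num
  have hnd := RatFunc.num_div_denom t
  obtain ⟨i, hi⟩ := key t.num (RatFunc.num_ne_zero ht0)
  obtain ⟨j, hj⟩ := key t.denom (RatFunc.denom_ne_zero t)
  have hsub : P.ord t = P.ord (algebraMap k[X] (RatFunc k) t.num) -
      P.ord (algebraMap k[X] (RatFunc k) t.denom) := by
    conv_lhs => rw [← hnd]
    rw [div_eq_mul_inv, P.ord_mul (RatFunc.algebraMap_ne_zero (RatFunc.num_ne_zero ht0))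
      (inv_ne_zero (RatFunc.algebraMap_ne_zero (RatFunc.denom_ne_zero t))), P.ord_inv]
    ring
  rw [hto, hi, hj] at hsub
  refine Int.eq_one_of_dvd_one hm.le ⟨(i : ℤ) - j, ?_⟩
  rw [hsub]
  ring

theorem Place.ratFunc_ord_squarefree (P : Place k (RatFunc k)) {p f : k[X]}
    (hp : Irreducible p) (hP : P.1 (algebraMap k[X] (RatFunc k) p) < 1) (hf : Squarefree f)
    (hpf : p ∣ f) : P.ord (algebraMap k[X] (RatFunc k) f) = 1 := by
  obtain ⟨g, rfl⟩ := hpf
  have hg : ¬ p ∣ g := by
    rintro ⟨g', rfl⟩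
    exact hp.not_isUnit (hf p ⟨g', by ring⟩)
  have hg0 : g ≠ 0 := by
    rintro rfl
    exact hg (dvd_zero _)
  have hp0 : algebraMap k[X] (RatFunc k) p ≠ 0 := RatFunc.algebraMap_ne_zero hp.ne_zero
  have hg0' : algebraMap k[X] (RatFunc k) g ≠ 0 := RatFunc.algebraMap_ne_zero hg0
  rw [map_mul, P.ord_mul hp0 hg0', P.ratFunc_ord_irreducible hp hP,
    (P.ord_eq_zero_iff hg0').mpr (P.ratFunc_val_eq_one_of_not_dvd hp hP hg)]
  norm_num

theorem Place.ratFunc_exists_irreducible (P : Place k (RatFunc k))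
    (hX : P.1 (RatFunc.X : RatFunc k) ≤ 1) {f : k[X]} (hf0 : f ≠ 0)
    (hf : P.1 (algebraMap k[X] (RatFunc k) f) < 1) :
    ∃ p, Irreducible p ∧ p ∣ f ∧ P.1 (algebraMap k[X] (RatFunc k) p) < 1 := by
  induction f using UniqueFactorizationMonoid.induction_on_prime with
  | h₁ => exact absurd rfl hf0
  | h₂ x hx =>
    exfalso
    obtain ⟨c, hc, rfl⟩ := Polynomial.isUnit_iff.mp hx
    have h1 : algebraMap k[X] (RatFunc k) (C c) = algebraMap k (RatFunc k) c := by
      rw [Polynomial.C_eq_algebraMap, ← IsScalarTower.algebraMap_apply]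
    rw [h1, P.val_algebraMap hc.ne_zero] at hf
    exact lt_irrefl _ hf
  | h₃ a p ha0 hp ih =>
    by_cases hpv : P.1 (algebraMap k[X] (RatFunc k) p) < 1
    · exact ⟨p, hp.irreducible, dvd_mul_right _ _, hpv⟩
    · have hp1 : P.1 (algebraMap k[X] (RatFunc k) p) = 1 :=
        le_antisymm (P.ratFunc_val_poly_le_one hX p) (not_lt.mp hpv)
      rw [map_mul, map_mul, hp1, one_mul] at hf
      obtain ⟨p', hp', hdvd, hlt⟩ := ih ha0 hf
      exact ⟨p', hp', dvd_mul_of_dvd_right hdvd _, hlt⟩

theorem ratFunc_exists_place_of_irreducible {p : k[X]} (hp : Irreducible p) :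
    ∃ P : Place k (RatFunc k), P.1 (algebraMap k[X] (RatFunc k) p) < 1 := by
  apply exists_place_val_lt_one isFunctionField_ratFunc
  obtain ⟨P', hdeg, hord, hall⟩ := ratFunc_exists_inf (k := k)
  refine transcendental_of_ord_ne_zero isFunctionField_ratFunc (P := P') ?_
  rw [P'.ratFunc_ord_poly_of_inf (by omega) hp.ne_zero]
  have : 0 < p.natDegree := hp.natDegree_pos
  omega

theorem ratFunc_not_sq {f : k[X]} (hf : Squarefree f) (hd : 1 ≤ f.natDegree) (c : k)
    (r : RatFunc k) :
    algebraMap k[X] (RatFunc k) f ≠ algebraMap k (RatFunc k) c * r ^ 2 := by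
  intro h
  have hf0 : f ≠ 0 := by
    rintro rfl
    simp at hd
  have hfu : ¬ IsUnit f := by
    intro hu
    have := natDegree_eq_zero_of_isUnit hu
    omega
  obtain ⟨p, hp, hpf⟩ := WfDvdMonoid.exists_irreducible_factor hfu hf0
  obtain ⟨P, hP⟩ := ratFunc_exists_place_of_irreducible hp
  have h1 := P.ratFunc_ord_squarefree hp hP hf hpf
  have hιf : algebraMap k[X] (RatFunc k) f ≠ 0 := RatFunc.algebraMap_ne_zero hf0
  rw [h] at h1 hιf
  have hc0 : algebraMap k (RatFunc k) c ≠ 0 := left_ne_zero_of_mul hιf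
  have hr0 : r ^ 2 ≠ 0 := right_ne_zero_of_mul hιf
  rw [P.ord_mul hc0 hr0, P.ord_algebraMap, P.ord_pow] at h1
  push_cast at h1
  omega

end Rat

section Field2

variable {F E : Type*} [Field F] [Field E] [Algebra F E]

theorem exists_notMem_range_of_finrank_eq_two (hdeg : Module.finrank F E = 2) :
    ∃ z : E, z ∉ (algebraMap F E).range := by
  by_contra h
  push Not at h
  have h1 : (⊥ : IntermediateField F E) = ⊤ := by
    rw [eq_top_iff]
    intro z _
    obtain ⟨a, ha⟩ := h z
    exact IntermediateField.mem_bot.mpr ⟨a, ha⟩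
  have := IntermediateField.bot_eq_top_iff_finrank_eq_one.mp h1
  omega

theorem adjoin_eq_top_of_notMem_range (hdeg : Module.finrank F E = 2) {y : E}
    (hy : y ∉ (algebraMap F E).range) : IntermediateField.adjoin F ({y} : Set E) = ⊤ := by
  haveI : FiniteDimensional F E := Module.finite_of_finrank_pos (by omega)
  have hint : IsIntegral F y := IsIntegral.of_finite F y
  have h1 := IntermediateField.adjoin.finrank hint
  have h2 : 2 ≤ (minpoly F y).natDegree := (minpoly.two_le_natDegree_iff hint).mpr hy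
  have h3 := minpoly.natDegree_le (A := F) y
  have h4 := Module.finrank_mul_finrank F F⟮y⟯ E
  rw [hdeg] at h3 h4
  have h5 : Module.finrank F F⟮y⟯ = 2 := by omega
  rw [h5] at h4
  have h6 : Module.finrank F⟮y⟯ E = 1 := by omega
  exact IntermediateField.finrank_eq_one_iff_eq_top.mp h6

theorem exists_quadratic_rel (hdeg : Module.finrank F E = 2) {z : E}
    (hz : z ∉ (algebraMap F E).range) :
    ∃ b c : F, z ^ 2 + algebraMap F E b * z + algebraMap F E c = 0 ∧
      minpoly F z = X ^ 2 + C b * X + C c ∧ (minpoly F z).natDegree = 2 := by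
  haveI : FiniteDimensional F E := Module.finite_of_finrank_pos (by omega)
  have hint : IsIntegral F z := IsIntegral.of_finite F z
  have h2 : 2 ≤ (minpoly F z).natDegree := (minpoly.two_le_natDegree_iff hint).mpr hz
  have h3 := minpoly.natDegree_le (A := F) z
  rw [hdeg] at h3
  have hnd : (minpoly F z).natDegree = 2 := le_antisymm h3 h2
  have hmonic := minpoly.monic hint
  have hc2 : (minpoly F z).coeff 2 = 1 := by
    rw [← hnd]
    exact hmonic.coeff_natDegree
  have hp : minpoly F z = X ^ 2 + C ((minpoly F z).coeff 1) * X + C ((minpoly F z).coeff 0) := by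
    conv_lhs => rw [(minpoly F z).as_sum_range_C_mul_X_pow, hnd]
    rw [Finset.sum_range_succ, Finset.sum_range_succ, Finset.sum_range_one, hc2]
    simp only [pow_zero, mul_one, pow_one, map_one, one_mul]
    ring
  refine ⟨_, _, ?_, hp, hnd⟩
  have h0 := minpoly.aeval F z
  rw [hp] at h0
  simpa using h0

theorem exists_artinSchreier (h2 : (2 : F) = 0) (hdeg : Module.finrank F E = 2)
    [Algebra.IsSeparable F E] :
    ∃ (y : E) (f : F), y ^ 2 + y = algebraMap F E f ∧
      IntermediateField.adjoin F ({y} : Set E) = ⊤ := by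
  obtain ⟨z, hz⟩ := exists_notMem_range_of_finrank_eq_two hdeg
  obtain ⟨b, c, hrel, hp, hnd⟩ := exists_quadratic_rel hdeg hz
  have hsep : (minpoly F z).Separable := Algebra.IsSeparable.isSeparable F z
  have hb : b ≠ 0 := by
    rintro rfl
    have hder : derivative (minpoly F z) = 0 := by
      rw [hp, derivative_add, derivative_add, derivative_X_sq, derivative_C_mul, derivative_X,
        mul_one, derivative_C, add_zero, h2]
      simp
    rw [separable_def, hder, isCoprime_zero_right] at hsep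
    have := natDegree_eq_zero_of_isUnit hsep
    omega
  have hB : algebraMap F E b ≠ 0 := (_root_.map_ne_zero _).mpr hb
  refine ⟨z * (algebraMap F E b)⁻¹, -c / b ^ 2, ?_, ?_⟩
  · rw [map_div₀, map_neg, map_pow]
    field_simp
    linear_combination hrel
  · apply adjoin_eq_top_of_notMem_range hdeg
    rintro ⟨a, ha⟩
    apply hz
    refine ⟨a * b, ?_⟩
    rw [map_mul, ha]
    field_simp

theorem exists_sqrt_generator (h2 : (2 : F) ≠ 0) (hdeg : Module.finrank F E = 2) :
    ∃ (y : E) (r : F), y ^ 2 = algebraMap F E r ∧ y ∉ (algebraMap F E).range := by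
  obtain ⟨z, hz⟩ := exists_notMem_range_of_finrank_eq_two hdeg
  obtain ⟨b, c, hrel, -, -⟩ := exists_quadratic_rel hdeg hz
  have h2E : (2 : E) ≠ 0 := by
    rw [← map_ofNat (algebraMap F E) 2]
    exact (_root_.map_ne_zero _).mpr h2
  refine ⟨z + algebraMap F E (b / 2), b ^ 2 / 4 - c, ?_, ?_⟩
  · rw [map_sub, map_div₀, map_div₀, map_pow]
    have h4 : (algebraMap F E 4) = 4 := map_ofNat _ 4
    have h2' : (algebraMap F E 2) = 2 := map_ofNat _ 2
    rw [h4, h2']
    have h4E : (4 : E) ≠ 0 := by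
      have : (4 : E) = 2 * 2 := by norm_num
      rw [this]
      exact mul_ne_zero h2E h2E
    field_simp
    linear_combination 16 * hrel
  · rintro ⟨a, ha⟩
    apply hz
    refine ⟨a - b / 2, ?_⟩
    rw [map_sub, ha]
    ring

theorem exists_algEquiv_of_quadratic (hdeg : Module.finrank F E = 2) {y y' : E}
    (hy : y ∉ (algebraMap F E).range) {q : F[X]} (hq : q.Monic) (hq2 : q.natDegree = 2)
    (h0 : aeval y q = 0) (h0' : aeval y' q = 0) : ∃ σ : E ≃ₐ[F] E, σ y = y' := by
  haveI : FiniteDimensional F E := Module.finite_of_finrank_pos (by omega)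
  haveI : Algebra.IsQuadraticExtension F E := { finrank_eq_two' := hdeg }
  have hint : IsIntegral F y := IsIntegral.of_finite F y
  have h2 : 2 ≤ (minpoly F y).natDegree := (minpoly.two_le_natDegree_iff hint).mpr hy
  have hmin : q = minpoly F y :=
    Polynomial.eq_of_monic_of_dvd_of_natDegree_le (minpoly.monic hint) hq (minpoly.dvd F y h0)
      (by omega)
  have hroot : aeval y' (minpoly F y) = 0 := by
    rw [← hmin]
    exact h0'
  exact minpoly.exists_algEquiv_of_root' (Algebra.IsAlgebraic.isAlgebraic y) hroot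

theorem exists_algEquiv_neg (hdeg : Module.finrank F E = 2) {y : E} {r : F}
    (hy : y ∉ (algebraMap F E).range) (heq : y ^ 2 = algebraMap F E r) :
    ∃ σ : E ≃ₐ[F] E, σ y = -y := by
  refine exists_algEquiv_of_quadratic hdeg hy (q := X ^ 2 - C r)
    (monic_X_pow_sub_C r two_ne_zero) natDegree_X_pow_sub_C ?_ ?_
  · rw [map_sub, map_pow, aeval_X, aeval_C, heq, sub_self]
  · rw [map_sub, map_pow, aeval_X, aeval_C, neg_sq, heq, sub_self]

theorem exists_algEquiv_add_one (h2 : (2 : F) = 0) (hdeg : Module.finrank F E = 2) {y : E} {r : F}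
    (hy : y ∉ (algebraMap F E).range) (heq : y ^ 2 + y = algebraMap F E r) :
    ∃ σ : E ≃ₐ[F] E, σ y = y + 1 := by
  have h2E : (2 : E) = 0 := by
    rw [← map_ofNat (algebraMap F E) 2, h2, map_zero]
  have hdeg1 : (X - C r : F[X]).natDegree = 1 := natDegree_X_sub_C r
  refine exists_algEquiv_of_quadratic hdeg hy (q := X ^ 2 + (X - C r))
    (monic_X_pow_add (by rw [degree_X_sub_C]; norm_num)) ?_ ?_ ?_
  · rw [natDegree_add_eq_left_of_natDegree_lt (by rw [hdeg1, natDegree_X_pow]; norm_num),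
      natDegree_X_pow]
  · rw [map_add, map_sub, map_pow, aeval_X, aeval_C]
    linear_combination heq
  · rw [map_add, map_sub, map_pow, aeval_X, aeval_C]
    linear_combination heq + (y + 1) * h2E

end Field2

section Sqfree

variable {k : Type*} [Field k]

theorem exists_sq_mul_squarefree (g : k[X]) (hg : g ≠ 0) :
    ∃ s h : k[X], g = s ^ 2 * h ∧ Squarefree h := by
  induction' hn : g.natDegree using Nat.strong_induction_on with n ih generalizing g
  by_cases hsq : Squarefree g
  · exact ⟨1, g, by ring, hsq⟩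
  · unfold Squarefree at hsq
    push Not at hsq
    obtain ⟨x, ⟨g', hg'⟩, hx⟩ := hsq
    have hx0 : x ≠ 0 := by
      rintro rfl
      apply hg
      rw [hg']
      ring
    have hg'0 : g' ≠ 0 := by
      rintro rfl
      exact hg (by rw [hg', mul_zero])
    have hxd : 0 < x.natDegree := by
      rw [Nat.pos_iff_ne_zero]
      intro h0
      apply hx
      rw [Polynomial.isUnit_iff_degree_eq_zero, degree_eq_natDegree hx0, h0]
      rfl
    have hdeg : g'.natDegree < n := by
      rw [← hn, hg', natDegree_mul (mul_ne_zero hx0 hx0) hg'0, natDegree_mul hx0 hx0]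
      omega
    obtain ⟨s, h, hsh, hh⟩ := ih _ hdeg g' hg'0 rfl
    exact ⟨x * s, h, by rw [hg', hsh]; ring, hh⟩

end Sqfree

section AS

variable {k K : Type*} [Field k] [Field K] [Algebra k K]

/-- If `ℓ(D') = ℓ(D' - P) + deg P` then the leading-coefficient map `L(D') → F_P` is onto. -/
theorem L_step_surjective (hK : IsFunctionField k K) (D' : Divisor k K) (P : Place k K) {t : K}
    (ht : P.1 t = exp (-1 : ℤ))
    (heq : ell D' = ell (D' - Finsupp.single P 1) + P.deg)
    (ξ : IsLocalRing.ResidueField P.O) :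
    ∃ x : ball P (D' P), (x : K) ∈ L D' ∧ resMap P ht (D' P) x = ξ := by
  classical
  obtain ⟨D, hD⟩ : ∃ D : Divisor k K, D = D' - Finsupp.single P 1 := ⟨_, rfl⟩
  rw [← hD] at heq
  haveI := finiteDimensional_L hK D
  haveI := finiteDimensional_L hK D'
  haveI := finiteDimensional_residueField hK P
  have hDP : D P = D' P - 1 := by
    rw [hD, Finsupp.sub_apply, Finsupp.single_eq_same]
  have hDQ : ∀ Q, Q ≠ P → D Q = D' Q := fun Q hQ => by
    rw [hD, Finsupp.sub_apply, Finsupp.single_apply, if_neg (fun h => hQ h.symm), sub_zero]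
  have hle : L D ≤ L D' := by
    apply L_mono
    rw [hD]
    exact sub_le_self _ (Finsupp.single_nonneg.mpr zero_le_one)
  let φ : L D' →ₗ[k] IsLocalRing.ResidueField P.O :=
    (resMap P ht (D' P)).comp (Submodule.inclusion (L_le_ball D' P))
  have hker : LinearMap.ker φ = Submodule.comap (L D').subtype (L D) := by
    ext x
    rw [LinearMap.mem_ker, Submodule.mem_comap]
    show resMap P ht (D' P) (Submodule.inclusion (L_le_ball D' P) x) = 0 ↔ (x : K) ∈ L D
    rw [resMap_eq_zero_iff]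
    show P.1 (x : K) ≤ exp (D' P - 1) ↔ _
    rw [← hDP]
    constructor
    · intro h Q
      by_cases hQ : Q = P
      · rw [hQ]
        exact h
      · have h3 := (mem_L.mp x.2) Q
        rw [← hDQ Q hQ] at h3
        exact h3
    · intro h
      exact h P
  have hkerrank : Module.finrank k (LinearMap.ker φ) = ell D := by
    rw [hker]
    exact (Submodule.comapSubtypeEquivOfLe hle).finrank_eq
  have h := LinearMap.finrank_range_add_finrank_ker φ
  have hrange : Module.finrank k (LinearMap.range φ) =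
      Module.finrank k (IsLocalRing.ResidueField P.O) := by
    rw [hkerrank] at h
    unfold ell at heq h
    unfold Place.deg at heq
    omega
  have htop : LinearMap.range φ = ⊤ := Submodule.eq_top_of_finrank_eq hrange
  obtain ⟨x, hx⟩ := LinearMap.range_eq_top.mp htop ξ
  exact ⟨Submodule.inclusion (L_le_ball D' P) x, x.2, hx⟩

theorem exists_reduce_even_pole [PerfectField k] (h2 : (2 : k) = 0) (hK : IsFunctionField k K)
    (hg : genus k K = 0) (P : Place k K) {f : K} {m : ℤ} (hm : 1 ≤ m)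
    (hf : P.1 f = exp (2 * m)) :
    ∃ a : K, (∀ Q : Place k K, Q ≠ P → Q.1 a ≤ 1) ∧ P.1 (f + a ^ 2 + a) ≤ exp (2 * m - 1) := by
  classical
  obtain ⟨t, ht⟩ := P.exists_uniformizer
  have ht0 := uniformizer_ne_zero P ht
  obtain ⟨D', hD'⟩ : ∃ D' : Divisor k K, D' = Finsupp.single P m := ⟨_, rfl⟩
  have hD'P : D' P = m := by rw [hD', Finsupp.single_eq_same]
  have hdP : (1 : ℤ) ≤ P.deg := by exact_mod_cast P.deg_pos hK
  have hnn : 0 ≤ m * (P.deg : ℤ) := mul_nonneg (by linarith) (by linarith)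
  have hnn' : 0 ≤ (m - 1) * (P.deg : ℤ) := mul_nonneg (by linarith) (by linarith)
  have hell1 : (ell D' : ℤ) = m * P.deg + 1 := by
    have := ell_eq_of_deg_ge hK D' (by rw [hg, hD', deg_single]; push_cast; linarith)
    rw [this, hg, hD', deg_single]
    push_cast
    ring
  have hsub : D' - Finsupp.single P 1 = Finsupp.single P (m - 1) := by
    rw [hD', ← Finsupp.single_sub]
  have hell2 : (ell (D' - Finsupp.single P 1) : ℤ) = (m - 1) * P.deg + 1 := by
    rw [hsub]
    have := ell_eq_of_deg_ge hK (Finsupp.single P (m - 1) : Divisor k K)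
      (by rw [hg, deg_single]; push_cast; linarith)
    rw [this, hg, deg_single]
    push_cast
    ring
  have heq : ell D' = ell (D' - Finsupp.single P 1) + P.deg := by
    have : (ell D' : ℤ) = ell (D' - Finsupp.single P 1) + P.deg := by
      rw [hell1, hell2]
      ring
    exact_mod_cast this
  have hu1 : P.1 (t ^ (2 * m) * f) ≤ 1 := val_zpow_mul_le_one P ht hf.le
  have hfinres : @Module.Finite k (IsLocalRing.ResidueField P.O) _ _ Algebra.toModule :=
    finiteDimensional_residueField hK P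
  haveI := hfinres
  haveI : Algebra.IsAlgebraic k (IsLocalRing.ResidueField P.O) := inferInstance
  haveI : PerfectField (IsLocalRing.ResidueField P.O) := Algebra.IsAlgebraic.perfectField k
  have h2F : (2 : IsLocalRing.ResidueField P.O) = 0 := by
    rw [← map_ofNat (algebraMap k (IsLocalRing.ResidueField P.O)) 2, h2, map_zero]
  haveI : CharP (IsLocalRing.ResidueField P.O) 2 :=
    CharTwo.of_one_ne_zero_of_two_eq_zero one_ne_zero h2F
  haveI : ExpChar (IsLocalRing.ResidueField P.O) 2 := ExpChar.prime Nat.prime_two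
  haveI : PerfectRing (IsLocalRing.ResidueField P.O) 2 := PerfectField.toPerfectRing 2
  obtain ⟨s, hs⟩ := surjective_frobenius (IsLocalRing.ResidueField P.O) 2
    (IsLocalRing.residue P.O ⟨t ^ (2 * m) * f, hu1⟩)
  rw [frobenius_def] at hs
  obtain ⟨x, hxL, hxs⟩ := L_step_surjective hK D' P ht heq s
  have hxa : P.1 (x : K) ≤ exp m :=
    (mem_ball.mp x.2).trans_eq (congrArg exp hD'P)
  refine ⟨(x : K), ?_, ?_⟩
  · intro Q hQ
    have h5 : D' Q = 0 := by rw [hD', Finsupp.single_apply, if_neg (Ne.symm hQ)]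
    exact ((mem_L.mp hxL) Q).trans_eq (by rw [h5, exp_zero])
  · have hw1 : P.1 (t ^ m * (x : K)) ≤ 1 := val_zpow_mul_le_one P ht hxa
    have hres : IsLocalRing.residue P.O ⟨t ^ m * (x : K), hw1⟩ = s := by
      rw [← hxs]
      show _ = IsLocalRing.residue P.O ⟨t ^ (D' P) * (x : K), _⟩
      congr 1
      apply Subtype.ext
      exact congrArg (fun n : ℤ => t ^ n * (x : K)) hD'P.symm
    have hx2 : P.1 ((x : K) ^ 2) ≤ exp (2 * m) := by
      rw [map_pow]
      calc P.1 (x : K) ^ 2 ≤ exp m ^ 2 := pow_le_pow_left₀ zero_le hxa 2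
        _ = exp (2 * m) := by rw [← exp_nsmul, nsmul_eq_mul]; rfl
    have hsum : P.1 (f + (x : K) ^ 2) ≤ exp (2 * m) :=
      (P.1.map_add _ _).trans (max_le hf.le hx2)
    have hsum1 : P.1 (t ^ (2 * m) * (f + (x : K) ^ 2)) ≤ 1 := val_zpow_mul_le_one P ht hsum
    have hsplit : (⟨t ^ (2 * m) * (f + (x : K) ^ 2), hsum1⟩ : P.O) =
        ⟨t ^ (2 * m) * f, hu1⟩ + ⟨t ^ m * (x : K), hw1⟩ ^ 2 := by
      apply Subtype.ext
      show t ^ (2 * m) * (f + (x : K) ^ 2) = t ^ (2 * m) * f + (t ^ m * (x : K)) ^ 2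
      rw [two_mul, zpow_add₀ ht0]
      ring
    have hzero : IsLocalRing.residue P.O ⟨t ^ (2 * m) * (f + (x : K) ^ 2), hsum1⟩ = 0 := by
      rw [hsplit, map_add, map_pow, hres, ← hs, ← two_mul, h2F, zero_mul]
    have hlt := (P.residue_eq_zero_iff _).mp hzero
    have hlt' : P.1 (t ^ (2 * m) * (f + (x : K) ^ 2)) < 1 := hlt
    rw [map_mul, val_uniformizer_zpow P ht, exp_neg_mul_lt_one_iff] at hlt'
    have hxa' : P.1 (x : K) ≤ exp (2 * m - 1) := hxa.trans (exp_le_exp.mpr (by omega))
    exact (P.1.map_add _ _).trans (max_le hlt' hxa')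

theorem exists_odd_poles [PerfectField k] (h2 : (2 : k) = 0) (hK : IsFunctionField k K)
    (hg : genus k K = 0) (f : K) :
    ∃ a : K, ∀ P : Place k K, P.ord (f + a ^ 2 + a) < 0 → Odd (P.ord (f + a ^ 2 + a)) := by
  classical
  have h2K : (2 : K) = 0 := by
    rw [← map_ofNat (algebraMap k K) 2, h2, map_zero]
  obtain ⟨n, hn⟩ : ∃ n : ℕ, (poleDiv k f).deg ≤ n :=
    ⟨(poleDiv k f).deg.toNat, Int.self_le_toNat _⟩
  induction n using Nat.strong_induction_on generalizing f with
  | _ n ih =>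
  by_cases hall : ∀ P : Place k K, P.ord f < 0 → Odd (P.ord f)
  · exact ⟨0, by simpa using hall⟩
  · push Not at hall
    obtain ⟨P, hPneg, hPodd⟩ := hall
    rw [Int.not_odd_iff_even] at hPodd
    obtain ⟨r, hr⟩ := hPodd
    obtain ⟨m, hm⟩ : ∃ m : ℤ, m = -r := ⟨_, rfl⟩
    have hm1 : 1 ≤ m := by omega
    have hf0 : f ≠ 0 := by
      rintro rfl
      rw [P.ord_zero] at hPneg
      exact lt_irrefl _ hPneg
    have hfv : P.1 f = exp (2 * m) := by
      rw [P.val_eq_exp_neg_ord hf0, hr, hm]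
      congr 1
      ring
    obtain ⟨a₁, ha₁Q, ha₁P⟩ := exists_reduce_even_pole h2 hK hg P hm1 hfv
    obtain ⟨f₁, hf₁⟩ : ∃ f₁ : K, f₁ = f + a₁ ^ 2 + a₁ := ⟨_, rfl⟩
    rw [← hf₁] at ha₁P
    have hcmp : poleDiv k f₁ + Finsupp.single P 1 ≤ poleDiv k f := by
      intro Q
      rw [Finsupp.add_apply, poleDiv_apply hK, poleDiv_apply hK]
      by_cases hQ : Q = P
      · rw [hQ, Finsupp.single_eq_same]
        have h1 : -(P.ord f₁) ≤ 2 * m - 1 := by
          by_cases h0 : f₁ = 0
          · rw [h0, P.ord_zero]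
            omega
          · have := (P.val_le_exp_iff h0 (2 * m - 1)).mp ha₁P
            omega
        have h3 : P.ord f = -(2 * m) := by
          rw [hr, hm]
          ring
        rw [h3, neg_neg, max_eq_left (by omega : (0 : ℤ) ≤ 2 * m)]
        have : max (-(P.ord f₁)) 0 ≤ 2 * m - 1 := max_le h1 (by omega)
        omega
      · rw [Finsupp.single_apply, if_neg (Ne.symm hQ), add_zero]
        have hQa : Q.1 a₁ ≤ 1 := ha₁Q Q hQ
        have hQa2 : Q.1 (a₁ ^ 2 + a₁) ≤ 1 := by
          refine (Q.1.map_add _ _).trans (max_le ?_ hQa)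
          rw [map_pow]
          exact pow_le_one₀ zero_le hQa
        have hv : Q.1 f₁ ≤ max (Q.1 f) 1 := by
          rw [hf₁, add_assoc]
          exact (Q.1.map_add _ _).trans (max_le_max le_rfl hQa2)
        by_cases h0 : f₁ = 0
        · rw [h0, Q.ord_zero, neg_zero, max_self]
          exact le_max_right _ _
        · rcases le_total (Q.1 f) 1 with hle | hle
          · have h5 : Q.1 f₁ ≤ 1 := hv.trans (max_le hle le_rfl)
            have h6 := (Q.ord_nonneg_iff h0).mpr h5
            rw [max_eq_right (by omega : -(Q.ord f₁) ≤ 0)]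
            exact le_max_right _ _
          · have h5 : Q.1 f₁ ≤ Q.1 f := hv.trans (max_le le_rfl hle)
            rw [Q.val_eq_exp_neg_ord h0, Q.val_eq_exp_neg_ord hf0, exp_le_exp] at h5
            exact max_le_max h5 le_rfl
    have hdeg : (poleDiv k f₁).deg < (poleDiv k f).deg := by
      have := deg_mono hcmp
      rw [deg_add, deg_single] at this
      have hdP : (1 : ℤ) ≤ P.deg := by exact_mod_cast P.deg_pos hK
      linarith
    have hnn : 0 ≤ (poleDiv k f₁).deg := deg_nonneg_of_nonneg (poleDiv_nonneg f₁)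
    obtain ⟨a₂, ha₂⟩ := ih (poleDiv k f₁).deg.toNat (by omega) f₁ (Int.self_le_toNat _)
    refine ⟨a₁ + a₂, ?_⟩
    have e : f + (a₁ + a₂) ^ 2 + (a₁ + a₂) = f₁ + a₂ ^ 2 + a₂ := by
      rw [hf₁]
      linear_combination (a₁ * a₂) * h2K
    rw [e]
    exact ha₂

end AS

end FunFld
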