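import Mathlib
import Groth.Agent.Lib.FunFldRat_helper2

/-! Hyperelliptic function fields `y² = f(x)` (helper2). -/

open Polynomial IntermediateField WithZero Module

namespace FunFld

section Decomp

variable {F E : Type*} [Field F] [Field E] [Algebra F E]

theorem exists_eq_mul_add_of_adjoin_eq_top {y : E} {r : F} (heq : y ^ 2 = algebraMap F E r)
    (hgen : IntermediateField.adjoin F ({y} : Set E) = ⊤) (z : E) :
    ∃ a b : F, z = algebraMap F E a * y + algebraMap F E b := by
  have hq : (X ^ 2 - C r : F[X]).Monic := monic_X_pow_sub_C r two_ne_zero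
  have h0 : aeval y (X ^ 2 - C r : F[X]) = 0 := by
    rw [map_sub, map_pow, aeval_X, aeval_C, heq, sub_self]
  have halg : IsAlgebraic F y := ⟨_, hq.ne_zero, h0⟩
  have hz : z ∈ IntermediateField.adjoin F ({y} : Set E) := by
    rw [hgen]
    trivial
  have hz' : z ∈ (IntermediateField.adjoin F ({y} : Set E)).toSubalgebra := hz
  rw [IntermediateField.adjoin_simple_toSubalgebra_of_isAlgebraic halg,
    Algebra.adjoin_singleton_eq_range_aeval] at hz'
  obtain ⟨g, rfl⟩ := hz'
  have h1 : aeval y (g %ₘ (X ^ 2 - C r)) = aeval y g := aeval_modByMonic_eq_self_of_root h0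
  have h2 : (g %ₘ (X ^ 2 - C r)).natDegree < 2 := by
    have := natDegree_modByMonic_lt g hq (by
      intro h
      have := congrArg natDegree h
      rw [natDegree_X_pow_sub_C, natDegree_one] at this
      omega)
    rwa [natDegree_X_pow_sub_C] at this
  obtain ⟨a, b, hab⟩ := exists_eq_X_add_C_of_natDegree_le_one
    (by omega : (g %ₘ (X ^ 2 - C r)).natDegree ≤ 1)
  refine ⟨a, b, ?_⟩
  show aeval y g = _
  rw [← h1, hab, map_add, map_mul, aeval_C, aeval_X, aeval_C]

end Decomp

section Hyp

variable {k K : Type*} [Field k] [Field K] [Algebra k K]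

/-- The `k(x)`-algebra structure on `K` given by a transcendental `x`. -/
@[instance_reducible]
noncomputable def ratFuncAlgebra {x : K} (hx : Transcendental k x) : Algebra (RatFunc k) K :=
  ((IntermediateField.val (IntermediateField.adjoin k ({x} : Set K))).comp
    (RatFunc.algEquivOfTranscendental x hx).toAlgHom).toRingHom.toAlgebra

theorem ratFuncAlgebra_isScalarTower {x : K} (hx : Transcendental k x) :
    letI := ratFuncAlgebra hx
    IsScalarTower k (RatFunc k) K := by
  letI := ratFuncAlgebra hx
  exact IsScalarTower.of_algebraMap_eq (fun c =>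
    (((IntermediateField.val (IntermediateField.adjoin k ({x} : Set K))).comp
      (RatFunc.algEquivOfTranscendental x hx).toAlgHom).commutes c).symm)

theorem ratFuncAlgebra_poly {x : K} (hx : Transcendental k x) (q : k[X]) :
    letI := ratFuncAlgebra hx
    algebraMap (RatFunc k) K (algebraMap k[X] (RatFunc k) q) = aeval x q := by
  letI := ratFuncAlgebra hx
  show (((RatFunc.algEquivOfTranscendental x hx) (algebraMap k[X] (RatFunc k) q) :
    IntermediateField.adjoin k ({x} : Set K)) : K) = _
  rw [RatFunc.algEquivOfTranscendental_algebraMap]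
  have := Polynomial.aeval_algHom_apply (IntermediateField.val (IntermediateField.adjoin k ({x} : Set K)))
    (IntermediateField.AdjoinSimple.gen k x) q
  exact this.symm

theorem ratFuncAlgebra_X {x : K} (hx : Transcendental k x) :
    letI := ratFuncAlgebra hx
    algebraMap (RatFunc k) K (RatFunc.X : RatFunc k) = x := by
  letI := ratFuncAlgebra hx
  have := ratFuncAlgebra_poly hx (X : k[X])
  rw [RatFunc.algebraMap_X, aeval_X] at this
  exact this

/-- Core of S11019, for `K` already a `k(x)`-algebra. -/
theorem hyp_facts [Algebra (RatFunc k) K] [IsScalarTower k (RatFunc k) K] (h2 : (2 : k) ≠ 0)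
    {y : K} {f : k[X]} (hf : Squarefree f) (hd : 1 ≤ f.natDegree)
    (heq : y ^ 2 = algebraMap (RatFunc k) K (algebraMap k[X] (RatFunc k) f))
    (hgen : IntermediateField.adjoin (RatFunc k) ({y} : Set K) = ⊤) :
    y ∉ (algebraMap (RatFunc k) K).range ∧ Module.finrank (RatFunc k) K = 2 ∧
      ∀ z : K, IsAlgebraic k z → z ∈ Set.range (algebraMap k K) := by
  classical
  have hKr := isFunctionField_ratFunc (k := k)
  have hyr : y ∉ (algebraMap (RatFunc k) K).range := by
    rintro ⟨a, ha⟩
    apply ratFunc_not_sq hf hd 1 a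
    apply (algebraMap (RatFunc k) K).injective
    rw [map_one, one_mul, map_pow, ha, heq]
  have h0 : aeval y (X ^ 2 - C (algebraMap k[X] (RatFunc k) f) : (RatFunc k)[X]) = 0 := by
    rw [map_sub, map_pow, aeval_X, aeval_C, heq, sub_self]
  have hmonic : (X ^ 2 - C (algebraMap k[X] (RatFunc k) f) : (RatFunc k)[X]).Monic :=
    monic_X_pow_sub_C _ two_ne_zero
  have hint : IsIntegral (RatFunc k) y := ⟨_, hmonic, by rw [← aeval_def]; exact h0⟩
  have hdeg : Module.finrank (RatFunc k) K = 2 := by
    have h1 := IntermediateField.adjoin.finrank hint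
    rw [hgen, IntermediateField.finrank_top'] at h1
    have h3 : 2 ≤ (minpoly (RatFunc k) y).natDegree := (minpoly.two_le_natDegree_iff hint).mpr hyr
    have h4 := natDegree_le_of_dvd (minpoly.dvd (RatFunc k) y h0) hmonic.ne_zero
    rw [natDegree_X_pow_sub_C] at h4
    omega
  refine ⟨hyr, hdeg, ?_⟩
  intro z hz
  obtain ⟨σ, hσ⟩ := exists_algEquiv_neg hdeg hyr heq
  obtain ⟨a, b, hab⟩ := exists_eq_mul_add_of_adjoin_eq_top heq hgen z
  have hσz : σ z = -(algebraMap (RatFunc k) K a * y) + algebraMap (RatFunc k) K b := by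
    rw [hab, map_add, map_mul, σ.commutes, σ.commutes, hσ]
    ring
  have hσalg : IsAlgebraic k (σ z) :=
    (isAlgebraic_algHom_iff ((σ.restrictScalars k : K ≃ₐ[k] K) : K →ₐ[k] K)
      (σ.restrictScalars k).injective).mpr hz
  have hinj : Function.Injective (algebraMap (RatFunc k) K) := (algebraMap (RatFunc k) K).injective
  -- `b` is constant
  have hsum : z + σ z = algebraMap (RatFunc k) K (2 * b) := by
    rw [hσz, hab, map_mul, map_ofNat]
    ring
  have h2b : IsAlgebraic k (2 * b) := by
    have := hz.add hσalg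
    rw [hsum] at this
    exact (isAlgebraic_algebraMap_iff hinj).mp this
  obtain ⟨c, hc⟩ := hKr.2 _ h2b
  have h2F : (2 : RatFunc k) ≠ 0 := by
    rw [← map_ofNat (algebraMap k (RatFunc k)) 2]
    exact (_root_.map_ne_zero _).mpr h2
  have hb : b = algebraMap k (RatFunc k) (c / 2) := by
    rw [map_div₀, hc, map_ofNat]
    field_simp
  -- `a y` is algebraic
  have hbK : algebraMap (RatFunc k) K b = algebraMap k K (c / 2) := by
    rw [hb, ← IsScalarTower.algebraMap_apply]
  have hay : IsAlgebraic k (algebraMap (RatFunc k) K a * y) := by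
    have h3 : algebraMap (RatFunc k) K a * y = z - algebraMap k K (c / 2) := by
      rw [hab, hbK]
      ring
    rw [h3]
    exact hz.sub (isAlgebraic_algebraMap (c / 2))
  have hsq : (algebraMap (RatFunc k) K a * y) ^ 2 =
      algebraMap (RatFunc k) K (a ^ 2 * algebraMap k[X] (RatFunc k) f) := by
    rw [mul_pow, heq, map_mul, map_pow]
  have ha2 : IsAlgebraic k (a ^ 2 * algebraMap k[X] (RatFunc k) f) := by
    have := hay.pow 2
    rw [hsq] at this
    exact (isAlgebraic_algebraMap_iff hinj).mp this
  obtain ⟨c₁, hc₁⟩ := hKr.2 _ ha2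
  have ha0 : a = 0 := by
    by_contra hne
    apply ratFunc_not_sq hf hd c₁ a⁻¹
    rw [hc₁]
    field_simp
  refine ⟨c / 2, ?_⟩
  rw [hab, ha0, map_zero, zero_mul, zero_add, hbK]

/-- S11019. -/
theorem isFunctionField_hyp (h2 : (2 : k) ≠ 0) {x y : K} (hx : Transcendental k x)
    (hxy : IntermediateField.adjoin k ({x, y} : Set K) = ⊤)
    {f : k[X]} (hf : Squarefree f) (hd : 1 ≤ f.natDegree) (heq : y ^ 2 = aeval x f) :
    IsFunctionField k K := by
  classical
  letI := ratFuncAlgebra hx
  haveI := ratFuncAlgebra_isScalarTower hx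
  have heq' : y ^ 2 = algebraMap (RatFunc k) K (algebraMap k[X] (RatFunc k) f) := by
    rw [ratFuncAlgebra_poly hx f]
    exact heq
  have hX : algebraMap (RatFunc k) K (RatFunc.X : RatFunc k) = x := ratFuncAlgebra_X hx
  have hgen : IntermediateField.adjoin (RatFunc k) ({y} : Set K) = ⊤ := by
    rw [← IntermediateField.restrictScalars_eq_top_iff (K := k), eq_top_iff, ← hxy,
      IntermediateField.adjoin_le_iff]
    intro z hz
    rcases Set.mem_insert_iff.mp hz with rfl | hz'
    · show z ∈ IntermediateField.adjoin (RatFunc k) ({y} : Set K)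
      rw [← hX]
      exact IntermediateField.algebraMap_mem _ _
    · rw [Set.mem_singleton_iff] at hz'
      subst hz'
      exact IntermediateField.mem_adjoin_simple_self _ _
  obtain ⟨hyr, hdeg, hconst⟩ := hyp_facts h2 hf hd heq' hgen
  refine ⟨⟨x, hx, ?_⟩, hconst⟩
  -- finiteness over `k(x)`
  have hint : IsIntegral (IntermediateField.adjoin k ({x} : Set K)) y := by
    refine ⟨X ^ 2 - C (⟨aeval x f, ?_⟩ : IntermediateField.adjoin k ({x} : Set K)),
      monic_X_pow_sub_C _ two_ne_zero, ?_⟩
    · have h7 := Polynomial.aeval_algHom_apply (IntermediateField.val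
        (IntermediateField.adjoin k ({x} : Set K))) (IntermediateField.AdjoinSimple.gen k x) f
      have h8 : aeval x f = ((aeval (IntermediateField.AdjoinSimple.gen k x) f :
          IntermediateField.adjoin k ({x} : Set K)) : K) := h7
      rw [h8]
      exact (aeval (IntermediateField.AdjoinSimple.gen k x) f).2
    · rw [← aeval_def, map_sub, map_pow, aeval_X, aeval_C, heq]
      exact sub_self _
  haveI := IntermediateField.adjoin.finiteDimensional hint
  have htop : IntermediateField.adjoin (IntermediateField.adjoin k ({x} : Set K)) ({y} : Set K) = ⊤ := by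
    rw [← IntermediateField.restrictScalars_eq_top_iff (K := k),
      IntermediateField.adjoin_adjoin_left, ← hxy]
    congr 1
  have h6 : FiniteDimensional (IntermediateField.adjoin k ({x} : Set K))
      (IntermediateField.adjoin (IntermediateField.adjoin k ({x} : Set K)) ({y} : Set K)) :=
    inferInstance
  rw [htop] at h6
  exact Module.Finite.equiv (IntermediateField.topEquiv
    (F := IntermediateField.adjoin k ({x} : Set K)) (E := K)).toLinearEquiv

end Hyp

end FunFld
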