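import Mathlib
import Groth.Agent.Lib.FunFldHyp_helper2

/-! Genus of hyperelliptic function fields `y² = f(x)` (helper2). -/

open Polynomial IntermediateField WithZero Module

namespace FunFld

section ConormL

variable {k K K' : Type*} [Field k] [Field K] [Field K'] [Algebra k K] [Algebra K K']
    [Algebra k K'] [IsScalarTower k K K'] [FiniteDimensional K K']

theorem conorm_apply_isOverWith (hK : IsFunctionField k K) (D : Divisor k K) {Q : Place k K'}
    {P : Place k K} {e : ℕ} (h : IsOverWith Q P e) : conorm K' D Q = e * D P := by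
  rw [conorm_apply (fun P => finite_isOver hK P) D Q ⟨e, h⟩, ramIdx_eq h]
  ring

theorem exp_natCast_mul (e : ℕ) (n : ℤ) : exp ((e : ℤ) * n) = exp n ^ e := by
  rw [← exp_nsmul, nsmul_eq_mul]

/-- `L(Con D) ∩ K = L(D)`. -/
theorem algebraMap_mem_L_conorm_iff (hK : IsFunctionField k K) (D : Divisor k K) (x : K) :
    algebraMap K K' x ∈ L (conorm K' D) ↔ x ∈ L D := by
  rw [mem_L, mem_L]
  constructor
  · intro h P
    obtain ⟨Q, e, he⟩ := exists_isOver_above (K' := K') hK P
    have h1 := h Q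
    rw [he x, conorm_apply_isOverWith hK D he, exp_natCast_mul] at h1
    exact (pow_le_pow_iff_left₀ zero_le zero_le he.pos.ne').mp h1
  · intro h Q
    obtain ⟨P, e, he⟩ := exists_isOverWith hK Q
    rw [he x, conorm_apply_isOverWith hK D he, exp_natCast_mul]
    exact pow_le_pow_left₀ zero_le (h P) e

theorem algEquiv_mem_L_conorm (hK : IsFunctionField k K) (D : Divisor k K) (σ : K' ≃ₐ[K] K')
    {z : K'} (hz : z ∈ L (conorm K' D)) : σ z ∈ L (conorm K' D) := by
  rw [mem_L] at hz ⊢
  intro Q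
  obtain ⟨P, e, he⟩ := exists_isOverWith hK Q
  have h1 := hz (Q.comapAlgEquiv σ)
  rw [Place.comapAlgEquiv_apply, conorm_apply_isOverWith hK D (he.comapAlgEquiv σ)] at h1
  rwa [conorm_apply_isOverWith hK D he]

end ConormL

section HypGenus

variable {k K : Type*} [Field k] [Field K] [Algebra k K] [Algebra (RatFunc k) K]
    [IsScalarTower k (RatFunc k) K]

theorem Place.ratFunc_val_X_le_one_of_ne (P Pinf : Place k (RatFunc k))
    (hinf : Pinf.ord (RatFunc.X : RatFunc k) < 0) (hne : P ≠ Pinf) :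
    P.1 (RatFunc.X : RatFunc k) ≤ 1 := by
  obtain ⟨P', -, -, hall⟩ := ratFunc_exists_inf (k := k)
  have h1 : Pinf = P' := by
    by_contra h
    have := hall Pinf h
    omega
  rw [← h1] at hall
  exact (P.ord_nonneg_iff RatFunc.X_ne_zero).mp (hall P hne)

theorem Place.ratFunc_ord_squarefree_le_one (P : Place k (RatFunc k))
    (hX : P.1 (RatFunc.X : RatFunc k) ≤ 1) {f : k[X]} (hf : Squarefree f) (hf0 : f ≠ 0) :
    P.ord (algebraMap k[X] (RatFunc k) f) ≤ 1 := by
  have h1 := P.ratFunc_val_poly_le_one hX f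
  have hF0 : algebraMap k[X] (RatFunc k) f ≠ 0 := RatFunc.algebraMap_ne_zero hf0
  by_cases hlt : P.1 (algebraMap k[X] (RatFunc k) f) < 1
  · obtain ⟨p, hp, hpf, hpv⟩ := P.ratFunc_exists_irreducible hX hf0 hlt
    rw [P.ratFunc_ord_squarefree hp hpv hf hpf]
  · have h3 : P.1 (algebraMap k[X] (RatFunc k) f) = 1 := le_antisymm h1 (not_lt.mp hlt)
    rw [(P.ord_eq_zero_iff hF0).mpr h3]
    norm_num

theorem hyp_mem_L_iff (h2 : (2 : k) ≠ 0) {y : K} {f : k[X]} (hf : Squarefree f)
    (hd : 1 ≤ f.natDegree)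
    (heq : y ^ 2 = algebraMap (RatFunc k) K (algebraMap k[X] (RatFunc k) f))
    (hdeg : Module.finrank (RatFunc k) K = 2) (hyr : y ∉ (algebraMap (RatFunc k) K).range)
    (Pinf : Place k (RatFunc k)) (hinf : Pinf.ord (RatFunc.X : RatFunc k) < 0) (n : ℤ)
    (a b : RatFunc k) :
    algebraMap (RatFunc k) K a * y + algebraMap (RatFunc k) K b ∈
        L (conorm K (Finsupp.single Pinf n : Divisor k (RatFunc k))) ↔
      a ∈ L (Finsupp.single Pinf (n - ((f.natDegree + 1) / 2 : ℕ)) : Divisor k (RatFunc k)) ∧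
        b ∈ L (Finsupp.single Pinf n : Divisor k (RatFunc k)) := by
  classical
  have hKr := isFunctionField_ratFunc (k := k)
  haveI : FiniteDimensional (RatFunc k) K := Module.finite_of_finrank_pos (by omega)
  have hf0 : f ≠ 0 := by
    rintro rfl
    simp at hd
  have hF0 : algebraMap k[X] (RatFunc k) f ≠ 0 := RatFunc.algebraMap_ne_zero hf0
  have hordf : Pinf.ord (algebraMap k[X] (RatFunc k) f) = -(f.natDegree : ℤ) :=
    Pinf.ratFunc_ord_poly_of_inf hinf hf0
  have hvalf : Pinf.1 (algebraMap k[X] (RatFunc k) f) = exp (f.natDegree : ℤ) := by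
    rw [Pinf.val_eq_exp_neg_ord hF0, hordf, neg_neg]
  obtain ⟨c, hc⟩ : ∃ c : ℕ, c = (f.natDegree + 1) / 2 := ⟨_, rfl⟩
  rw [← hc]
  have hsq : ∀ a' : RatFunc k, (algebraMap (RatFunc k) K a' * y) ^ 2 =
      algebraMap (RatFunc k) K (a' ^ 2 * algebraMap k[X] (RatFunc k) f) := by
    intro a'
    rw [mul_pow, heq, map_mul, map_pow]
  -- key equivalence for the `y`-part, place by place
  have keyQ : ∀ (Q : Place k K) (P : Place k (RatFunc k)) (e : ℕ), IsOverWith Q P e → ∀ j : ℤ,
      (Q.1 (algebraMap (RatFunc k) K a * y) ≤ exp ((e : ℤ) * j) ↔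
        P.1 (a ^ 2 * algebraMap k[X] (RatFunc k) f) ≤ exp (2 * j)) := by
    intro Q P e he j
    have h1 : Q.1 (algebraMap (RatFunc k) K a * y) ≤ exp ((e : ℤ) * j) ↔
        Q.1 (algebraMap (RatFunc k) K a * y) ^ 2 ≤ exp ((e : ℤ) * j) ^ 2 :=
      (pow_le_pow_iff_left₀ zero_le zero_le two_ne_zero).symm
    have h2' : Q.1 (algebraMap (RatFunc k) K a * y) ^ 2 =
        P.1 (a ^ 2 * algebraMap k[X] (RatFunc k) f) ^ e := by
      rw [← map_pow, hsq, he]
    have h3 : exp ((e : ℤ) * j) ^ 2 = exp (2 * j) ^ e := by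
      rw [← exp_nsmul, ← exp_nsmul]
      congr 1
      simp only [nsmul_eq_mul]
      push_cast
      ring
    rw [h1, h2', h3]
    exact pow_le_pow_iff_left₀ zero_le zero_le he.pos.ne'
  constructor
  · intro hz
    obtain ⟨σ, hσ⟩ := exists_algEquiv_neg hdeg hyr heq
    have hσz := algEquiv_mem_L_conorm hKr (Finsupp.single Pinf n) σ hz
    rw [map_add, map_mul, σ.commutes, σ.commutes, hσ] at hσz
    have hsum := Submodule.add_mem _ hz hσz
    have h2b : algebraMap (RatFunc k) K b ∈
        L (conorm K (Finsupp.single Pinf n : Divisor k (RatFunc k))) := by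
      have h3 := Submodule.smul_mem _ ((2 : k)⁻¹) hsum
      have h4 : (2 : k)⁻¹ • (algebraMap (RatFunc k) K a * y + algebraMap (RatFunc k) K b +
          (algebraMap (RatFunc k) K a * -y + algebraMap (RatFunc k) K b)) =
          algebraMap (RatFunc k) K b := by
        rw [Algebra.smul_def, map_inv₀, map_ofNat]
        have h2K : (2 : K) ≠ 0 := by
          rw [← map_ofNat (algebraMap k K) 2]
          exact (_root_.map_ne_zero _).mpr h2
        field_simp
        ring
      rwa [h4] at h3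
    have hbL := (algebraMap_mem_L_conorm_iff hKr _ b).mp h2b
    have hay : algebraMap (RatFunc k) K a * y ∈
        L (conorm K (Finsupp.single Pinf n : Divisor k (RatFunc k))) := by
      have := Submodule.sub_mem _ hz h2b
      rwa [add_sub_cancel_right] at this
    refine ⟨?_, hbL⟩
    rw [mem_L]
    intro P
    by_cases ha0 : a = 0
    · rw [ha0, map_zero]
      exact zero_le
    obtain ⟨Q, e, he⟩ := exists_isOver_above (K' := K) hKr P
    have h5 := (mem_L.mp hay) Q
    rw [conorm_apply_isOverWith hKr _ he, keyQ Q P e he] at h5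
    have haf0 : a ^ 2 * algebraMap k[X] (RatFunc k) f ≠ 0 := mul_ne_zero (pow_ne_zero 2 ha0) hF0
    have h6 := (P.val_le_exp_iff haf0 _).mp h5
    rw [P.ord_mul (pow_ne_zero 2 ha0) hF0, P.ord_pow] at h6
    push_cast at h6
    rw [P.val_le_exp_iff ha0]
    by_cases hP : P = Pinf
    · rw [hP] at h6 ⊢
      rw [Finsupp.single_eq_same] at h6 ⊢
      rw [hordf] at h6
      omega
    · rw [Finsupp.single_apply, if_neg (Ne.symm hP)] at h6 ⊢
      have hX := P.ratFunc_val_X_le_one_of_ne Pinf hinf hP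
      have h7 := P.ratFunc_ord_squarefree_le_one hX hf hf0
      omega
  · rintro ⟨haL, hbL⟩
    refine Submodule.add_mem _ ?_ ((algebraMap_mem_L_conorm_iff hKr _ b).mpr hbL)
    rw [mem_L]
    intro Q
    obtain ⟨P, e, he⟩ := exists_isOverWith hKr Q
    rw [conorm_apply_isOverWith hKr _ he, keyQ Q P e he]
    have haP := (mem_L.mp haL) P
    rw [map_mul, map_pow]
    by_cases hP : P = Pinf
    · rw [hP] at haP ⊢
      rw [Finsupp.single_eq_same] at haP ⊢
      rw [hvalf]
      calc Pinf.1 a ^ 2 * exp (f.natDegree : ℤ)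
          ≤ exp (n - (c : ℤ)) ^ 2 * exp (f.natDegree : ℤ) :=
            mul_le_mul' (pow_le_pow_left₀ zero_le haP 2) le_rfl
        _ = exp (2 * (n - (c : ℤ)) + f.natDegree) := by
            rw [← exp_nsmul, ← exp_add, nsmul_eq_mul]
            rfl
        _ ≤ exp (2 * n) := exp_le_exp.mpr (by omega)
    · rw [Finsupp.single_apply, if_neg (Ne.symm hP)] at haP ⊢
      rw [exp_zero] at haP
      rw [mul_zero, exp_zero]
      have hX := P.ratFunc_val_X_le_one_of_ne Pinf hinf hP
      calc P.1 a ^ 2 * P.1 (algebraMap k[X] (RatFunc k) f) ≤ 1 * 1 :=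
            mul_le_mul' (pow_le_one₀ zero_le haP) (P.ratFunc_val_poly_le_one hX f)
        _ = 1 := one_mul 1

theorem hyp_genus (hK : IsFunctionField k K) (h2 : (2 : k) ≠ 0) {y : K} {f : k[X]}
    (hf : Squarefree f) (hd : 1 ≤ f.natDegree)
    (heq : y ^ 2 = algebraMap (RatFunc k) K (algebraMap k[X] (RatFunc k) f))
    (hgen : IntermediateField.adjoin (RatFunc k) ({y} : Set K) = ⊤) :
    genus k K = (f.natDegree - 1) / 2 := by
  classical
  have hKr := isFunctionField_ratFunc (k := k)
  obtain ⟨hyr, hdeg, -⟩ := hyp_facts h2 hf hd heq hgen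
  haveI : FiniteDimensional (RatFunc k) K := Module.finite_of_finrank_pos (by omega)
  obtain ⟨Pinf, hPdeg, hPord, -⟩ := ratFunc_exists_inf (k := k)
  have hinf : Pinf.ord (RatFunc.X : RatFunc k) < 0 := by omega
  obtain ⟨-, N, hN⟩ := riemann hK
  obtain ⟨c, hc⟩ : ∃ c : ℕ, c = (f.natDegree + 1) / 2 := ⟨_, rfl⟩
  obtain ⟨n, hn1, hn2⟩ : ∃ n : ℕ, (c : ℤ) ≤ n ∧ N ≤ 2 * (n : ℤ) :=
    ⟨max c N.toNat, by
      have := le_max_left c N.toNat
      exact_mod_cast this, by
      have h3 := le_max_right c N.toNat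
      have h4 := Int.self_le_toNat N
      have h5 : (N.toNat : ℤ) ≤ (max c N.toNat : ℕ) := by exact_mod_cast h3
      have h6 : (0 : ℤ) ≤ (max c N.toNat : ℕ) := Int.natCast_nonneg _
      linarith⟩
  obtain ⟨D₂, hD₂⟩ : ∃ D₂ : Divisor k (RatFunc k), D₂ = Finsupp.single Pinf (n : ℤ) := ⟨_, rfl⟩
  obtain ⟨D₁, hD₁⟩ : ∃ D₁ : Divisor k (RatFunc k),
      D₁ = Finsupp.single Pinf ((n : ℤ) - (c : ℤ)) := ⟨_, rfl⟩
  have hdegC : Divisor.deg (conorm K D₂) = 2 * (n : ℤ) := by
    rw [deg_conorm hKr, hdeg, hD₂, deg_single, hPdeg]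
    push_cast
    ring
  have hRR := hN (conorm K D₂) (by rw [hdegC]; exact hn2)
  have hell1 : (ell D₁ : ℤ) = (n : ℤ) - c + 1 := by
    have := ell_eq_of_deg_ge hKr D₁ (by
      rw [ratFunc_genus, hD₁, deg_single, hPdeg]
      push_cast
      linarith)
    rw [this, ratFunc_genus, hD₁, deg_single, hPdeg]
    push_cast
    ring
  have hell2 : (ell D₂ : ℤ) = (n : ℤ) + 1 := by
    have := ell_eq_of_deg_ge hKr D₂ (by
      rw [ratFunc_genus, hD₂, deg_single, hPdeg]
      push_cast
      linarith)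
    rw [this, ratFunc_genus, hD₂, deg_single, hPdeg]
    push_cast
    ring
  haveI := finiteDimensional_L hKr D₁
  haveI := finiteDimensional_L hKr D₂
  have hsmul : ∀ (t : k) (u : RatFunc k),
      algebraMap (RatFunc k) K (t • u) = t • algebraMap (RatFunc k) K u := by
    intro t u
    rw [Algebra.smul_def, Algebra.smul_def, map_mul, ← IsScalarTower.algebraMap_apply]
  let ψ : (L D₁ × L D₂) →ₗ[k] K :=
    { toFun := fun p => algebraMap (RatFunc k) K (p.1 : RatFunc k) * y +
        algebraMap (RatFunc k) K (p.2 : RatFunc k)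
      map_add' := fun p q => by
        show algebraMap (RatFunc k) K ((p.1 : RatFunc k) + (q.1 : RatFunc k)) * y +
          algebraMap (RatFunc k) K ((p.2 : RatFunc k) + (q.2 : RatFunc k)) = _
        rw [map_add, map_add]
        ring
      map_smul' := fun t p => by
        show algebraMap (RatFunc k) K (t • (p.1 : RatFunc k)) * y +
          algebraMap (RatFunc k) K (t • (p.2 : RatFunc k)) = t • _
        rw [hsmul, hsmul, smul_add, smul_mul_assoc] }
  have hiff : ∀ a b : RatFunc k, algebraMap (RatFunc k) K a * y + algebraMap (RatFunc k) K b ∈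
      L (conorm K D₂) ↔ a ∈ L D₁ ∧ b ∈ L D₂ := by
    intro a b
    rw [hD₂, hD₁, hc]
    exact hyp_mem_L_iff h2 hf hd heq hdeg hyr Pinf hinf n a b
  have hmem : ∀ p : L D₁ × L D₂, ψ p ∈ L (conorm K D₂) := fun p =>
    (hiff _ _).mpr ⟨p.1.2, p.2.2⟩
  let Ψ : (L D₁ × L D₂) →ₗ[k] L (conorm K D₂) := LinearMap.codRestrict _ ψ hmem
  have hinj : Function.Injective Ψ := by
    rw [injective_iff_map_eq_zero]
    intro p hp
    have h0 : algebraMap (RatFunc k) K (p.1 : RatFunc k) * y +
        algebraMap (RatFunc k) K (p.2 : RatFunc k) = 0 := congrArg Subtype.val hp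
    have ha0 : (p.1 : RatFunc k) = 0 := by
      by_contra hne
      apply hyr
      refine ⟨-(p.2 : RatFunc k) / (p.1 : RatFunc k), ?_⟩
      have hA : algebraMap (RatFunc k) K (p.1 : RatFunc k) ≠ 0 := (_root_.map_ne_zero _).mpr hne
      rw [map_div₀, map_neg]
      field_simp
      linear_combination -h0
    rw [ha0, map_zero, zero_mul, zero_add] at h0
    have hb0 : (p.2 : RatFunc k) = 0 := (_root_.map_eq_zero _).mp h0
    exact Prod.ext (Subtype.ext ha0) (Subtype.ext hb0)
  have hsurj : Function.Surjective Ψ := by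
    intro z
    obtain ⟨a, b, hab⟩ := exists_eq_mul_add_of_adjoin_eq_top heq hgen (z : K)
    have hz : (z : K) ∈ L (conorm K D₂) := z.2
    rw [hab, hiff] at hz
    refine ⟨(⟨a, hz.1⟩, ⟨b, hz.2⟩), Subtype.ext ?_⟩
    exact hab.symm
  have hfin := (LinearEquiv.ofBijective Ψ ⟨hinj, hsurj⟩).finrank_eq
  rw [Module.finrank_prod] at hfin
  have hellC : (ell (conorm K D₂) : ℤ) = ((n : ℤ) - c + 1) + ((n : ℤ) + 1) := by
    rw [← hell1, ← hell2]
    unfold ell
    rw [← hfin]
    push_cast
    ring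
  rw [hdegC, hellC] at hRR
  omega

end HypGenus

section HypGenus'

variable {k K : Type*} [Field k] [Field K] [Algebra k K]

/-- S11014. -/
theorem hyp_genus' (hK : IsFunctionField k K) (h2 : (2 : k) ≠ 0) {x y : K}
    (hx : Transcendental k x) (hxy : IntermediateField.adjoin k ({x, y} : Set K) = ⊤)
    {f : k[X]} (hf : Squarefree f) (hd : 1 ≤ f.natDegree) (heq : y ^ 2 = aeval x f) :
    genus k K = (f.natDegree - 1) / 2 := by
  classical
  letI := ratFuncAlgebra hx
  haveI := ratFuncAlgebra_isScalarTower hx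
  have heq' : y ^ 2 = algebraMap (RatFunc k) K (algebraMap k[X] (RatFunc k) f) := by
    rw [ratFuncAlgebra_poly hx f]
    exact heq
  have hX : algebraMap (RatFunc k) K (RatFunc.X : RatFunc k) = x := ratFuncAlgebra_X hx
  have hgen : IntermediateField.adjoin (RatFunc k) ({y} : Set K) = ⊤ := by
    rw [← IntermediateField.restrictScalars_eq_top_iff (K := k), eq_top_iff, ← hxy,
      IntermediateField.adjoin_le_iff]
    intro z hz
    rcases Set.mem_insert_iff.mp hz with rfl | hz'
    · show z ∈ IntermediateField.adjoin (RatFunc k) ({y} : Set K)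
      rw [← hX]
      exact IntermediateField.algebraMap_mem _ _
    · rw [Set.mem_singleton_iff] at hz'
      subst hz'
      exact IntermediateField.mem_adjoin_simple_self _ _
  exact hyp_genus hK h2 hf hd heq' hgen

end HypGenus'

end FunFld
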