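import Mathlib
import Groth.Agent.Lib.FunFldQuad_helper2

/-! Decomposition and inertia groups in Galois extensions of function fields (helper2). -/

open Polynomial IntermediateField WithZero Module
open scoped Pointwise

namespace FunFld

variable {k K K' : Type*} [Field k] [Field K] [Field K'] [Algebra k K] [Algebra K K']
    [Algebra k K'] [IsScalarTower k K K']

variable [FiniteDimensional K K']

theorem mem_decomposition_iff (Q : Place k K') (σ : K' ≃ₐ[K] K') :
    σ ∈ Q.O.decompositionSubgroup K ↔ Q.comapAlgEquiv σ = Q := by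
  rw [MulAction.mem_stabilizer_iff]
  constructor
  · intro h
    apply Place.eq_of_O_eq
    rw [Place.O_comapAlgEquiv, inv_smul_eq_iff, h]
  · intro h
    have h2 := congrArg Place.O h
    rw [Place.O_comapAlgEquiv, inv_smul_eq_iff] at h2
    exact h2.symm

theorem fixed_residue_mem_range [IsGalois K K'] (hK : IsFunctionField k K) {Q : Place k K'}
    {P : Place k K} {e : ℕ} (he : IsOverWith Q P e)
    [Algebra.IsSeparable k (IsLocalRing.ResidueField Q.O)]
    (ā : IsLocalRing.ResidueField Q.O)
    (hfix : ∀ z : Q.O.decompositionSubgroup K, z • ā = ā) :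
    ā ∈ Set.range he.resMap := by
  classical
  by_cases h0 : ā = 0
  · exact ⟨0, by rw [map_zero, h0]⟩
  obtain ⟨a₀, ha₀⟩ := IsLocalRing.residue_surjective ā
  have hfin := finite_isOver (K' := K') hK P
  obtain ⟨a, ha⟩ := exists_approx (fun v : {v // v ∈ hfin.toFinset} => (v : Place k K'))
    Subtype.val_injective (fun v => if (v : Place k K') = Q then (a₀ : K') else 0) 1
  have hQmem : Q ∈ hfin.toFinset := hfin.mem_toFinset.mpr ⟨e, he⟩
  have haQ : Q.1 (a - a₀) < 1 := by
    have h := ha ⟨Q, hQmem⟩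
    simp only [if_pos rfl] at h
    exact lt_of_le_of_lt h exp_neg_one_lt_one
  have haO : Q.1 a ≤ 1 := by
    have h3 : a = (a - a₀) + a₀ := by ring
    rw [h3]
    exact (Q.1.map_add _ _).trans (max_le haQ.le a₀.2)
  have hres : IsLocalRing.residue Q.O ⟨a, haO⟩ = ā := by
    rw [← ha₀, ← sub_eq_zero, ← map_sub, Q.residue_eq_zero_iff]
    exact haQ
  have hother : ∀ Q' : Place k K', IsOver Q' P → Q' ≠ Q → Q'.1 a < 1 := by
    intro Q' hQ' hne
    have h := ha ⟨Q', hfin.mem_toFinset.mpr hQ'⟩
    simp only [if_neg hne, sub_zero] at h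
    exact lt_of_le_of_lt h exp_neg_one_lt_one
  have hconj : ∀ σ : K' ≃ₐ[K] K', Q.1 (σ a) ≤ 1 := by
    intro σ
    by_cases hσ : Q.comapAlgEquiv σ = Q
    · have h1 : (Q.comapAlgEquiv σ).1 a ≤ 1 := by rw [hσ]; exact haO
      exact h1
    · exact (hother _ (IsOver.comapAlgEquiv ⟨e, he⟩ σ) hσ).le
  have hconj_res : ∀ σ : K' ≃ₐ[K] K', IsLocalRing.residue Q.O ⟨σ a, hconj σ⟩ = ā ∨
      IsLocalRing.residue Q.O ⟨σ a, hconj σ⟩ = 0 := by
    intro σ
    by_cases hσ : Q.comapAlgEquiv σ = Q
    · left
      have hmem : σ ∈ Q.O.decompositionSubgroup K := (mem_decomposition_iff Q σ).mpr hσ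
      have h2 : ((⟨σ, hmem⟩ : Q.O.decompositionSubgroup K) • (⟨a, haO⟩ : Q.O)) =
          ⟨σ a, hconj σ⟩ := Subtype.ext rfl
      calc IsLocalRing.residue Q.O ⟨σ a, hconj σ⟩
          = IsLocalRing.residue Q.O
              ((⟨σ, hmem⟩ : Q.O.decompositionSubgroup K) • (⟨a, haO⟩ : Q.O)) := by rw [h2]
        _ = (⟨σ, hmem⟩ : Q.O.decompositionSubgroup K) • IsLocalRing.residue Q.O ⟨a, haO⟩ :=
            IsLocalRing.ResidueField.residue_smul _ _ _
        _ = ā := by rw [hres]; exact hfix _
    · right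
      rw [Q.residue_eq_zero_iff]
      exact hother _ (IsOver.comapAlgEquiv ⟨e, he⟩ σ) hσ
  let GQ : (Q.O)[X] := ∏ σ : K' ≃ₐ[K] K', (X - C (⟨σ a, hconj σ⟩ : Q.O))
  have hGQmap : GQ.map Q.O.subtype = MulSemiringAction.charpoly (K' ≃ₐ[K] K') a := by
    rw [MulSemiringAction.charpoly_eq, Polynomial.map_prod]
    refine Finset.prod_congr rfl fun σ _ => ?_
    rw [Polynomial.map_sub, Polynomial.map_X, Polynomial.map_C]
    rfl
  have hcoef : ∀ n, GQ.coeff n ∈ Set.range he.mapO := by
    intro n
    have h1 : ((GQ.coeff n : Q.O) : K') =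
        (MulSemiringAction.charpoly (K' ≃ₐ[K] K') a).coeff n := by
      rw [← hGQmap, Polynomial.coeff_map]; rfl
    have hfixn : ∀ σ : K' ≃ₐ[K] K', σ ((GQ.coeff n : Q.O) : K') = ((GQ.coeff n : Q.O) : K') := by
      intro σ
      rw [h1]
      exact MulSemiringAction.smul_coeff_charpoly a n σ
    obtain ⟨c, hc⟩ := (IsGalois.mem_range_algebraMap_iff_fixed _).mpr hfixn
    have hcP : P.1 c ≤ 1 := by
      by_contra hlt
      push Not at hlt
      have h2 := one_lt_pow₀ hlt he.pos.ne'
      rw [← he c, hc] at h2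
      exact absurd (GQ.coeff n).2 (not_le.mpr h2)
    exact ⟨⟨c, hcP⟩, Subtype.ext hc⟩
  obtain ⟨g₀, hg₀⟩ := (Polynomial.mem_lifts _).mp ((Polynomial.lifts_iff_coeff_lifts _).mpr hcoef)
  let gbar : (IsLocalRing.ResidueField P.O)[X] := g₀.map (IsLocalRing.residue P.O)
  have hcomp : (IsLocalRing.residue Q.O).comp he.mapO =
      he.resMap.toRingHom.comp (IsLocalRing.residue P.O) := by
    ext x; rfl
  have hgbar : gbar.map he.resMap.toRingHom =
      ∏ σ : K' ≃ₐ[K] K', (X - C (IsLocalRing.residue Q.O ⟨σ a, hconj σ⟩)) := by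
    show (g₀.map (IsLocalRing.residue P.O)).map he.resMap.toRingHom = _
    rw [Polynomial.map_map, ← hcomp, ← Polynomial.map_map, hg₀, Polynomial.map_prod]
    refine Finset.prod_congr rfl fun σ _ => ?_
    rw [Polynomial.map_sub, Polynomial.map_X, Polynomial.map_C]
  letI algPQ : Algebra (IsLocalRing.ResidueField P.O) (IsLocalRing.ResidueField Q.O) :=
    he.resMap.toRingHom.toAlgebra
  haveI : IsScalarTower k (IsLocalRing.ResidueField P.O) (IsLocalRing.ResidueField Q.O) :=
    IsScalarTower.of_algebraMap_eq (fun c => (he.resMap.commutes c).symm)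
  haveI : Algebra.IsSeparable (IsLocalRing.ResidueField P.O) (IsLocalRing.ResidueField Q.O) :=
    Algebra.isSeparable_tower_top_of_isSeparable k _ _
  have halg : algebraMap (IsLocalRing.ResidueField P.O) (IsLocalRing.ResidueField Q.O) =
      he.resMap.toRingHom := rfl
  have hroot : Polynomial.aeval ā gbar = 0 := by
    rw [Polynomial.aeval_def, ← Polynomial.eval_map, halg, hgbar, Polynomial.eval_prod]
    apply Finset.prod_eq_zero (Finset.mem_univ (1 : K' ≃ₐ[K] K'))
    rw [Polynomial.eval_sub, Polynomial.eval_X, Polynomial.eval_C, sub_eq_zero]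
    exact hres.symm
  have hsep : (minpoly (IsLocalRing.ResidueField P.O) ā).Separable :=
    Algebra.IsSeparable.isSeparable _ ā
  have hint : IsIntegral (IsLocalRing.ResidueField P.O) ā := Algebra.IsSeparable.isIntegral _ ā
  have hdvd : minpoly (IsLocalRing.ResidueField P.O) ā ∣ gbar := minpoly.dvd _ _ hroot
  set μ := (minpoly (IsLocalRing.ResidueField P.O) ā).map
    (algebraMap _ (IsLocalRing.ResidueField Q.O)) with hμ
  have hμdvd : μ ∣ ∏ σ : K' ≃ₐ[K] K', (X - C (IsLocalRing.residue Q.O ⟨σ a, hconj σ⟩)) := by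
    rw [← hgbar, ← halg]
    exact Polynomial.map_dvd _ hdvd
  have hμsep : μ.Separable := hsep.map
  have hμne : μ ≠ 0 := hμsep.ne_zero
  have hprod_ne : (∏ σ : K' ≃ₐ[K] K', (X - C (IsLocalRing.residue Q.O ⟨σ a, hconj σ⟩))) ≠ 0 :=
    (monic_prod_of_monic _ _ (fun _ _ => monic_X_sub_C _)).ne_zero
  have hμsplits : μ.Splits :=
    Polynomial.Splits.of_dvd (Polynomial.Splits.prod fun σ _ => Polynomial.Splits.X_sub_C _)
      hprod_ne hμdvd
  have hroots : ∀ x ∈ μ.roots, x = ā := by
    intro x hx
    have hx0 : μ.IsRoot x := (Polynomial.mem_roots hμne).mp hx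
    have hx1 : (∏ σ : K' ≃ₐ[K] K',
        (X - C (IsLocalRing.residue Q.O ⟨σ a, hconj σ⟩))).eval x = 0 := by
      obtain ⟨q, hq⟩ := hμdvd
      rw [hq, Polynomial.eval_mul, hx0, zero_mul]
    rw [Polynomial.eval_prod, Finset.prod_eq_zero_iff] at hx1
    obtain ⟨σ, -, hσ⟩ := hx1
    rw [Polynomial.eval_sub, Polynomial.eval_X, Polynomial.eval_C, sub_eq_zero] at hσ
    rcases hconj_res σ with h | h
    · rw [hσ, h]
    · exfalso
      rw [h] at hσ
      rw [hσ] at hx0
      have h5 : μ.coeff 0 = 0 := by rw [Polynomial.coeff_zero_eq_eval_zero]; exact hx0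
      rw [hμ, Polynomial.coeff_map] at h5
      have h6 := (map_eq_zero (algebraMap (IsLocalRing.ResidueField P.O)
        (IsLocalRing.ResidueField Q.O))).mp h5
      exact minpoly.coeff_zero_ne_zero hint h0 h6
  have hcard : μ.roots.card ≤ 1 := by
    have hnodup : μ.roots.Nodup := Polynomial.nodup_roots hμsep
    have hsub : μ.roots.toFinset ⊆ {ā} := by
      intro x hx
      rw [Multiset.mem_toFinset] at hx
      rw [Finset.mem_singleton]
      exact hroots x hx
    rw [← Multiset.toFinset_card_of_nodup hnodup]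
    exact (Finset.card_le_card hsub).trans (Finset.card_singleton _).le
  have hdeg : (minpoly (IsLocalRing.ResidueField P.O) ā).natDegree = 1 := by
    have h1 : μ.natDegree = μ.roots.card := hμsplits.natDegree_eq_card_roots
    have h2 : μ.natDegree = (minpoly (IsLocalRing.ResidueField P.O) ā).natDegree :=
      Polynomial.natDegree_map _
    have h3 := minpoly.natDegree_pos hint
    omega
  obtain ⟨r, hr⟩ := minpoly.natDegree_eq_one_iff.mp hdeg
  exact ⟨r, hr⟩

theorem card_inertia [IsGalois K K'] (hK : IsFunctionField k K) {Q : Place k K'}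
    {P : Place k K} {e : ℕ} (he : IsOverWith Q P e)
    [Algebra.IsSeparable k (IsLocalRing.ResidueField Q.O)] :
    Nat.card (Q.O.inertiaSubgroup K) = e := by
  classical
  let ρ : Q.O.decompositionSubgroup K →* RingAut (IsLocalRing.ResidueField Q.O) :=
    MulSemiringAction.toRingAut (Q.O.decompositionSubgroup K) (IsLocalRing.ResidueField Q.O)
  have hT : Q.O.inertiaSubgroup K = ρ.ker := rfl
  haveI : Finite ρ.range := inferInstance
  haveI : Fintype ρ.range := Fintype.ofFinite _
  have hfix_card : Module.finrank (FixedPoints.subfield ρ.range (IsLocalRing.ResidueField Q.O))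
      (IsLocalRing.ResidueField Q.O) = Fintype.card ρ.range :=
    FixedPoints.finrank_eq_card ρ.range (IsLocalRing.ResidueField Q.O)
  have hmem : ∀ x : IsLocalRing.ResidueField P.O,
      he.resMap.toRingHom x ∈ FixedPoints.subfield ρ.range (IsLocalRing.ResidueField Q.O) := by
    intro x
    rintro ⟨_, z, rfl⟩
    obtain ⟨p, rfl⟩ := IsLocalRing.residue_surjective x
    show z • (he.resMap (IsLocalRing.residue P.O p)) = _
    rw [he.resMap_residue, ← IsLocalRing.ResidueField.residue_smul]
    show IsLocalRing.residue Q.O (z • he.mapO p) = IsLocalRing.residue Q.O (he.mapO p)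
    congr 1
    apply Subtype.ext
    show (z : K' ≃ₐ[K] K') (algebraMap K K' p) = algebraMap K K' p
    exact (z : K' ≃ₐ[K] K').commutes _
  let φ : IsLocalRing.ResidueField P.O →+*
      FixedPoints.subfield ρ.range (IsLocalRing.ResidueField Q.O) :=
    he.resMap.toRingHom.codRestrict _ hmem
  have hφbij : Function.Bijective φ := by
    constructor
    · intro x y hxy
      exact he.resMap_injective (congrArg Subtype.val hxy)
    · rintro ⟨y, hy⟩
      have hy' : ∀ z : Q.O.decompositionSubgroup K, z • y = y := fun z => hy ⟨ρ z, z, rfl⟩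
      obtain ⟨x, hx⟩ := fixed_residue_mem_range hK he y hy'
      exact ⟨x, Subtype.ext hx⟩
  let ψ : IsLocalRing.ResidueField P.O ≃+*
      FixedPoints.subfield ρ.range (IsLocalRing.ResidueField Q.O) := RingEquiv.ofBijective φ hφbij
  letI algPQ : Algebra (IsLocalRing.ResidueField P.O) (IsLocalRing.ResidueField Q.O) :=
    he.resMap.toRingHom.toAlgebra
  haveI : IsScalarTower k (IsLocalRing.ResidueField P.O) (IsLocalRing.ResidueField Q.O) :=
    IsScalarTower.of_algebraMap_eq (fun c => (he.resMap.commutes c).symm)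
  have hfr : Module.finrank (IsLocalRing.ResidueField P.O) (IsLocalRing.ResidueField Q.O) =
      Module.finrank (FixedPoints.subfield ρ.range (IsLocalRing.ResidueField Q.O))
        (IsLocalRing.ResidueField Q.O) :=
    Algebra.finrank_eq_of_equiv_equiv ψ (RingEquiv.refl _) (by ext x; rfl)
  have htower0 :=
    @Module.finrank_mul_finrank k (IsLocalRing.ResidueField P.O) (IsLocalRing.ResidueField Q.O)
      _ _ _ Algebra.toModule Algebra.toModule Algebra.toModule inferInstance _ _ _ _
  have htower : P.deg * Module.finrank (IsLocalRing.ResidueField P.O)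
      (IsLocalRing.ResidueField Q.O) = Q.deg := htower0
  have hZ := card_decomposition_mul_deg hK he
  have hidx : Nat.card ρ.ker * Nat.card ρ.range = Nat.card (Q.O.decompositionSubgroup K) := by
    rw [← Subgroup.index_ker]
    exact Subgroup.card_mul_index _
  have hHc : Nat.card ρ.range = Fintype.card ρ.range := Nat.card_eq_fintype_card
  have hPpos := Place.deg_pos hK P
  have hHpos : 0 < Fintype.card ρ.range := Fintype.card_pos
  rw [hT]
  rw [hfr, hfix_card] at htower
  rw [← hidx, ← htower, hHc] at hZ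
  have h5 : Nat.card ρ.ker * (P.deg * Fintype.card ρ.range) =
      e * (P.deg * Fintype.card ρ.range) := by
    rw [← hZ]; ring
  exact Nat.eq_of_mul_eq_mul_right (Nat.mul_pos hPpos hHpos) h5

end FunFld
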