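import Mathlib
import Groth.Agent.Lib.FunFldInertia_helper2

/-! Higher ramification groups in Galois extensions of function fields (helper2). -/

open Polynomial IntermediateField WithZero Module
open scoped Pointwise

namespace FunFld

variable {k K K' : Type*} [Field k] [Field K] [Field K'] [Algebra k K] [Algebra K K']
    [Algebra k K'] [IsScalarTower k K K']

theorem lt_exp_iff_le_exp_sub_one (x : ℤᵐ⁰) (n : ℤ) : x < exp n ↔ x ≤ exp (n - 1) := by
  have h := lt_mul_exp_iff_le (x := x) (y := exp (n - 1)) exp_ne_zero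
  rw [← exp_add] at h
  simpa using h

theorem exp_neg_le_one {n : ℤ} (hn : 0 ≤ n) : (exp (-n) : ℤᵐ⁰) ≤ 1 := by
  rw [← exp_zero (M := ℤ), exp_le_exp]; omega

theorem val_unif_pow_nat (Q : Place k K') {t : K'} (ht : Q.1 t = exp (-1 : ℤ)) (i : ℕ) :
    Q.1 (t ^ i) = exp (-(i : ℤ)) := by
  rw [map_pow, ht, ← exp_nsmul]
  congr 1
  simp

/-- Membership in the ramification group `{σ | v(σ x - x) ≥ n on O_Q}`. -/
def InRam (Q : Place k K') (σ : K' ≃ₐ[K] K') (n : ℤ) : Prop :=
  ∀ x : K', Q.1 x ≤ 1 → Q.1 (σ x - x) ≤ exp (-n)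

section Basic

variable {Q : Place k K'} {σ τ : K' ≃ₐ[K] K'} {n m : ℤ}

theorem InRam.stab (hn : 0 ≤ n) (h : InRam Q σ n) {x : K'} (hx : Q.1 x ≤ 1) :
    Q.1 (σ x) ≤ 1 := by
  have h1 : σ x = (σ x - x) + x := by ring
  rw [h1]
  exact (Q.1.map_add _ _).trans (max_le ((h x hx).trans (exp_neg_le_one hn)) hx)

theorem val_algEquiv_eq_of_stab (h : ∀ x, Q.1 x ≤ 1 → Q.1 (σ x) ≤ 1) (y : K') :
    Q.1 (σ y) = Q.1 y := by
  have h1 : Q = Q.comapAlgEquiv σ := Place.eq_of_forall_le_one (fun a ha => h a ha)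
  have h2 : (Q.comapAlgEquiv σ).1 y = Q.1 (σ y) := rfl
  rw [← h2, ← h1]

theorem InRam.val_eq (hn : 0 ≤ n) (h : InRam Q σ n) (y : K') : Q.1 (σ y) = Q.1 y :=
  val_algEquiv_eq_of_stab (fun _ hx => h.stab hn hx) y

theorem InRam.one (Q : Place k K') (n : ℤ) : InRam Q (1 : K' ≃ₐ[K] K') n := by
  intro x _
  rw [AlgEquiv.one_apply, sub_self, map_zero]
  exact zero_le

theorem InRam.mul (hn : 0 ≤ n) (hσ : InRam Q σ n) (hτ : InRam Q τ n) : InRam Q (σ * τ) n := by
  intro x hx
  have h1 : (σ * τ) x - x = σ (τ x - x) + (σ x - x) := by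
    rw [AlgEquiv.mul_apply, map_sub]; ring
  rw [h1]
  refine (Q.1.map_add _ _).trans (max_le ?_ (hσ x hx))
  rw [hσ.val_eq hn]
  exact hτ x hx

theorem InRam.inv (hn : 0 ≤ n) (hσ : InRam Q σ n) : InRam Q σ⁻¹ n := by
  intro x hx
  have h0 : σ⁻¹ (σ x) = x := σ.symm_apply_apply x
  have h1 : σ⁻¹ x - x = -(σ⁻¹ (σ x - x)) := by
    rw [map_sub, h0]; ring
  rw [h1, Valuation.map_neg]
  have h2 := hσ.val_eq hn (σ⁻¹ (σ x - x))
  have h3 : σ (σ⁻¹ (σ x - x)) = σ x - x := σ.apply_symm_apply _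
  rw [h3] at h2
  rw [← h2]
  exact hσ x hx

theorem InRam.pow (hn : 0 ≤ n) (hσ : InRam Q σ n) (j : ℕ) : InRam Q (σ ^ j) n := by
  induction j with
  | zero => rw [pow_zero]; exact InRam.one Q n
  | succ j ih => rw [pow_succ]; exact ih.mul hn hσ

theorem InRam.mono (hσ : InRam Q σ n) (hmn : m ≤ n) : InRam Q σ m :=
  fun x hx => (hσ x hx).trans (exp_le_exp.mpr (by omega))

variable (K) in
/-- The ramification groups as subgroups. -/
def ramGroup (Q : Place k K') (n : ℤ) (hn : 0 ≤ n) : Subgroup (K' ≃ₐ[K] K') where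
  carrier := {σ | InRam Q σ n}
  mul_mem' := fun ha hb => InRam.mul hn ha hb
  one_mem' := InRam.one Q n
  inv_mem' := fun ha => InRam.inv hn ha

theorem mem_ramGroup (Q : Place k K') (n : ℤ) (hn : 0 ≤ n) (σ : K' ≃ₐ[K] K') :
    σ ∈ ramGroup K Q n hn ↔ InRam Q σ n := Iff.rfl

end Basic

section Galois

variable [FiniteDimensional K K'] [IsGalois K K']

/-- If the whole Galois group is contained in the first ramification group, the residue field
does not grow. -/
theorem exists_sub_lt_one_of_forall_inRam (hK : IsFunctionField k K) (Q : Place k K')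
    [Algebra.IsSeparable k (IsLocalRing.ResidueField Q.O)]
    (hall : ∀ σ : K' ≃ₐ[K] K', InRam Q σ 1) {x : K'} (hx : Q.1 x ≤ 1) :
    ∃ c : K, Q.1 (x - algebraMap K K' c) < 1 := by
  haveI : Algebra.IsAlgebraic K K' := Algebra.IsAlgebraic.of_finite K K'
  obtain ⟨P, e, he⟩ := exists_isOverWith hK Q
  have hZ := card_decomposition_mul_deg hK he
  have hI := card_inertia hK he
  have htop : Q.O.inertiaSubgroup K = ⊤ := by
    rw [eq_top_iff]
    rintro z -
    show z ∈ MonoidHom.ker (MulSemiringAction.toRingAut (Q.O.decompositionSubgroup K)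
      (IsLocalRing.ResidueField Q.O))
    rw [MonoidHom.mem_ker]
    apply RingEquiv.ext
    intro ā
    obtain ⟨a, rfl⟩ := IsLocalRing.residue_surjective ā
    show z • IsLocalRing.residue Q.O a = IsLocalRing.residue Q.O a
    rw [← IsLocalRing.ResidueField.residue_smul, ← sub_eq_zero, ← map_sub,
      Q.residue_eq_zero_iff]
    have h1 := hall (z : K' ≃ₐ[K] K') (a : K') a.2
    exact lt_of_le_of_lt h1 exp_neg_one_lt_one
  have hcard : Nat.card (Q.O.decompositionSubgroup K) = e := by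
    rw [← hI, htop, Subgroup.card_top]
  rw [hcard] at hZ
  have hdeg : Q.deg = P.deg := (Nat.eq_of_mul_eq_mul_left he.pos hZ).symm
  have hpos := Place.deg_pos_ext hK Q
  obtain ⟨c, -, hc⟩ := he.exists_sub_lt_one hdeg hpos hx
  exact ⟨c, hc⟩

/-- Intermediate-field version. -/
theorem exists_mem_sub_lt_one (hK : IsFunctionField k K) (Q : Place k K')
    [Algebra.IsSeparable k (IsLocalRing.ResidueField Q.O)] (E : IntermediateField K K')
    (hall : ∀ σ : K' ≃ₐ[K] K', (∀ y ∈ E, σ y = y) → InRam Q σ 1) {x : K'} (hx : Q.1 x ≤ 1) :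
    ∃ c ∈ E, Q.1 (x - c) < 1 := by
  haveI : Algebra.IsAlgebraic k (algebraicClosure k E) := algebraicClosure.isAlgebraic k E
  have hE : IsFunctionField (algebraicClosure k E) E := isFunctionField_algebraicClosure hK
  haveI t2 : IsScalarTower k (algebraicClosure k E) K' :=
    IsScalarTower.of_algebraMap_eq (fun c => rfl)
  let Q₁ : Place (algebraicClosure k E) K' :=
    ⟨Q.1, fun c => val_le_one_of_isIntegral Q.1 Q.2.1
      ((Algebra.IsIntegral.isIntegral (R := k) c).map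
        (IsScalarTower.toAlgHom k (algebraicClosure k E) K')), Q.2.2⟩
  haveI : Algebra.IsSeparable (algebraicClosure k E) (IsLocalRing.ResidueField Q₁.O) := by
    letI a0 : Algebra k (IsLocalRing.ResidueField Q₁.O) := Place.algRes Q
    haveI t3 : IsScalarTower k (algebraicClosure k E) (IsLocalRing.ResidueField Q₁.O) :=
      IsScalarTower.of_algebraMap_eq (fun c => rfl)
    haveI : Algebra.IsSeparable k (IsLocalRing.ResidueField Q₁.O) :=
      ‹Algebra.IsSeparable k (IsLocalRing.ResidueField Q.O)›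
    exact Algebra.isSeparable_tower_top_of_isSeparable k _ _
  have hall' : ∀ τ : K' ≃ₐ[E] K', InRam Q₁ τ 1 := by
    intro τ
    exact hall (τ.restrictScalars K) (fun y hy => τ.commutes ⟨y, hy⟩)
  obtain ⟨c, hc⟩ := exists_sub_lt_one_of_forall_inRam hE Q₁ hall' (x := x) hx
  exact ⟨c, c.2, hc⟩

theorem inRam_of_uniformizer (hK : IsFunctionField k K) (Q : Place k K')
    [Algebra.IsSeparable k (IsLocalRing.ResidueField Q.O)] {σ : K' ≃ₐ[K] K'}
    (hσ : InRam Q σ 1) {t : K'} (ht : Q.1 t = exp (-1 : ℤ)) (j : ℕ)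
    (hj : Q.1 (σ t - t) ≤ exp (-((j : ℤ) + 1))) : InRam Q σ ((j : ℤ) + 1) := by
  have ht0 : t ≠ 0 := uniformizer_ne_zero Q ht
  let E : IntermediateField K K' := IntermediateField.fixedField (ramGroup K Q 1 zero_le_one)
  have hall : ∀ τ : K' ≃ₐ[K] K', (∀ y ∈ E, τ y = y) → InRam Q τ 1 := by
    intro τ hτ
    have h1 : τ ∈ E.fixingSubgroup := (IntermediateField.mem_fixingSubgroup_iff E τ).mpr hτ
    rw [IntermediateField.fixingSubgroup_fixedField] at h1
    exact h1
  have hfixE : ∀ c ∈ E, σ c = c := by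
    intro c hc
    exact (IntermediateField.mem_fixedField_iff _ c).mp hc σ hσ
  induction j with
  | zero =>
    simpa using hσ
  | succ j ih =>
    have hj' : Q.1 (σ t - t) ≤ exp (-((j : ℤ) + 1)) :=
      hj.trans (exp_le_exp.mpr (by push_cast; omega))
    have ih' := ih hj'
    intro x hx
    obtain ⟨c, hcE, hc⟩ := exists_mem_sub_lt_one hK Q E hall hx
    have hσc : σ c = c := hfixE c hcE
    have hyO : Q.1 ((x - c) / t) ≤ 1 := by
      rw [map_div₀, ht, div_le_one₀ exp_pos]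
      exact (lt_one_iff_le_exp_neg_one _).mp hc
    have hxy : x = c + t * ((x - c) / t) := by
      field_simp
      ring
    have h1 : σ x - x = (σ t - t) * σ ((x - c) / t) + t * (σ ((x - c) / t) - (x - c) / t) := by
      conv_lhs => rw [hxy]
      rw [map_add, map_mul, hσc]
      ring
    rw [h1]
    have hn0 : (0 : ℤ) ≤ (j : ℤ) + 1 := by omega
    refine (Q.1.map_add _ _).trans (max_le ?_ ?_)
    · rw [map_mul]
      calc Q.1 (σ t - t) * Q.1 (σ ((x - c) / t))
          ≤ exp (-(((j + 1 : ℕ) : ℤ) + 1)) * 1 := mul_le_mul' hj (ih'.stab hn0 hyO)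
        _ = _ := mul_one _
    · rw [map_mul, ht]
      calc exp (-1 : ℤ) * Q.1 (σ ((x - c) / t) - (x - c) / t)
          ≤ exp (-1 : ℤ) * exp (-((j : ℤ) + 1)) := mul_le_mul' le_rfl (ih' _ hyO)
        _ = exp (-(((j + 1 : ℕ) : ℤ) + 1)) := by
            rw [← exp_add]; congr 1; push_cast; ring

theorem inRam_iff_uniformizer (hK : IsFunctionField k K) (Q : Place k K')
    [Algebra.IsSeparable k (IsLocalRing.ResidueField Q.O)] {σ : K' ≃ₐ[K] K'}
    (hσ : InRam Q σ 1) {t : K'} (ht : Q.1 t = exp (-1 : ℤ)) {n : ℤ} (hn : 1 ≤ n) :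
    InRam Q σ n ↔ Q.1 (σ t - t) ≤ exp (-n) := by
  constructor
  · intro h
    exact h t (by rw [ht]; exact exp_neg_one_lt_one.le)
  · intro h
    obtain ⟨j, rfl⟩ : ∃ j : ℕ, n = (j : ℤ) + 1 := ⟨(n - 1).toNat, by omega⟩
    exact inRam_of_uniformizer hK Q hσ ht j h

end Galois

end FunFld
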