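import Mathlib
import Groth.Agent.Lib.FunFldRam_helper2

/-! Quotients of higher ramification groups (helper2). -/

open Polynomial IntermediateField WithZero Module
open scoped Pointwise

namespace FunFld

variable {k K K' : Type*} [Field k] [Field K] [Field K'] [Algebra k K] [Algebra K K']
    [Algebra k K'] [IsScalarTower k K K']

section Basic

variable {Q : Place k K'} {σ τ : K' ≃ₐ[K] K'}

omit [Algebra k K] [IsScalarTower k K K'] in
theorem val_pow_sub_one_le {a : K'} (ha : Q.1 (a - 1) ≤ exp (-1 : ℤ)) (n : ℕ) :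
    Q.1 (a ^ n - 1) ≤ exp (-1 : ℤ) := by
  have ha1 : Q.1 a ≤ 1 := by
    have h : a = (a - 1) + 1 := by ring
    rw [h]
    exact (Q.1.map_add _ _).trans
      (max_le (ha.trans exp_neg_one_lt_one.le) (by rw [map_one]))
  induction n with
  | zero => rw [pow_zero, sub_self, map_zero]; exact zero_le
  | succ n ih =>
    have h : a ^ (n + 1) - 1 = a * (a ^ n - 1) + (a - 1) := by ring
    rw [h]
    refine (Q.1.map_add _ _).trans (max_le ?_ ha)
    rw [map_mul]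
    calc Q.1 a * Q.1 (a ^ n - 1) ≤ 1 * exp (-1 : ℤ) := mul_le_mul' ha1 ih
      _ = _ := one_mul _

/-- `G₂'` acts trivially on `m^i / m^{i+1}`. -/
theorem InRam.val_sub_le_of_le (hσ : InRam Q σ 2) {t : K'} (ht : Q.1 t = exp (-1 : ℤ)) (i : ℕ)
    {x : K'} (hx : Q.1 x ≤ exp (-(i : ℤ))) : Q.1 (σ x - x) ≤ exp (-((i : ℤ) + 1)) := by
  have ht0 : t ≠ 0 := uniformizer_ne_zero Q ht
  have hti : Q.1 (t ^ i) = exp (-(i : ℤ)) := val_unif_pow_nat Q ht i
  have hti0 : t ^ i ≠ 0 := pow_ne_zero _ ht0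
  have hσt0 : σ t ≠ 0 := (_root_.map_ne_zero σ).mpr ht0
  obtain ⟨w, hw, hxw⟩ : ∃ w : K', Q.1 w ≤ 1 ∧ x = t ^ i * w := by
    refine ⟨x / t ^ i, ?_, by field_simp⟩
    rw [map_div₀, hti, div_le_one₀ exp_pos]
    exact hx
  subst hxw
  have ha : Q.1 (σ t / t - 1) ≤ exp (-1 : ℤ) := by
    have h1 : σ t / t - 1 = (σ t - t) / t := by field_simp
    rw [h1, map_div₀, ht, div_le_iff₀ exp_pos, ← exp_add]
    exact hσ t (by rw [ht]; exact exp_neg_one_lt_one.le)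
  have hai := val_pow_sub_one_le ha i
  have hσ1 : InRam Q σ 1 := hσ.mono (by norm_num)
  have hpow : (σ t) ^ i = t ^ i * (σ t / t) ^ i := by
    rw [div_pow]; field_simp
  have key : σ (t ^ i * w) - t ^ i * w = t ^ i * (((σ t / t) ^ i - 1) * σ w + (σ w - w)) := by
    rw [map_mul, map_pow, hpow]
    ring
  rw [key, map_mul, hti]
  have h2 : Q.1 (((σ t / t) ^ i - 1) * σ w + (σ w - w)) ≤ exp (-1 : ℤ) := by
    refine (Q.1.map_add _ _).trans (max_le ?_ ?_)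
    · rw [map_mul]
      calc Q.1 ((σ t / t) ^ i - 1) * Q.1 (σ w) ≤ exp (-1 : ℤ) * 1 :=
            mul_le_mul' hai (hσ1.stab zero_le_one hw)
        _ = _ := mul_one _
    · exact hσ1 _ hw
  calc exp (-(i : ℤ)) * Q.1 (((σ t / t) ^ i - 1) * σ w + (σ w - w))
      ≤ exp (-(i : ℤ)) * exp (-1 : ℤ) := mul_le_mul' le_rfl h2
    _ = exp (-((i : ℤ) + 1)) := by rw [← exp_add]; congr 1; ring

theorem InRam.val_W_le_one {i : ℕ} (hσ : InRam Q σ i) {t : K'} (ht : Q.1 t = exp (-1 : ℤ)) :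
    Q.1 ((σ t - t) / t ^ i) ≤ 1 := by
  rw [map_div₀, val_unif_pow_nat Q ht i, div_le_one₀ exp_pos]
  exact hσ t (by rw [ht]; exact exp_neg_one_lt_one.le)

theorem val_W_mul_sub_le {i : ℕ} (hi : 2 ≤ i) (hσ : InRam Q σ i) (hτ : InRam Q τ i) {t : K'}
    (ht : Q.1 t = exp (-1 : ℤ)) :
    Q.1 (((σ * τ) t - t) / t ^ i - ((σ t - t) / t ^ i + (τ t - t) / t ^ i)) ≤ exp (-1 : ℤ) := by
  have h1 : ((σ * τ) t - t) / t ^ i - ((σ t - t) / t ^ i + (τ t - t) / t ^ i) =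
      (σ (τ t - t) - (τ t - t)) / t ^ i := by
    rw [AlgEquiv.mul_apply, map_sub]; ring
  have hσ2 : InRam Q σ 2 := hσ.mono (by exact_mod_cast hi)
  have h2 := hσ2.val_sub_le_of_le ht i (hτ t (by rw [ht]; exact exp_neg_one_lt_one.le))
  rw [h1, map_div₀, val_unif_pow_nat Q ht i, div_le_iff₀ exp_pos, ← exp_add]
  refine h2.trans (le_of_eq ?_)
  congr 1; ring

end Basic

section Galois

variable [FiniteDimensional K K'] [IsGalois K K']

theorem inRam_succ_of_val_W_lt (hK : IsFunctionField k K) (Q : Place k K')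
    [Algebra.IsSeparable k (IsLocalRing.ResidueField Q.O)] {σ : K' ≃ₐ[K] K'} {i : ℕ}
    (hi : 1 ≤ i) (hσ : InRam Q σ i) {t : K'} (ht : Q.1 t = exp (-1 : ℤ))
    (h : Q.1 ((σ t - t) / t ^ i) < 1) : InRam Q σ ((i : ℤ) + 1) := by
  rw [map_div₀, val_unif_pow_nat Q ht i, div_lt_one₀ exp_pos, lt_exp_iff_le_exp_sub_one] at h
  refine inRam_of_uniformizer hK Q (hσ.mono (by exact_mod_cast hi)) ht i ?_
  rw [neg_add']
  exact h

/-- `G₁'/G₂'` is cyclic. -/
theorem exists_generator_ram_one (hK : IsFunctionField k K) (Q : Place k K')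
    [Algebra.IsSeparable k (IsLocalRing.ResidueField Q.O)] :
    ∃ σ₀ : K' ≃ₐ[K] K', InRam Q σ₀ 1 ∧
      ∀ σ : K' ≃ₐ[K] K', InRam Q σ 1 → ∃ n : ℕ, InRam Q ((σ₀ ^ n)⁻¹ * σ) 2 := by
  classical
  obtain ⟨t, ht⟩ := Q.exists_uniformizer
  have ht0 : t ≠ 0 := uniformizer_ne_zero Q ht
  let G₁ : Subgroup (K' ≃ₐ[K] K') := ramGroup K Q 1 zero_le_one
  have hu : ∀ σ : G₁, Q.1 ((σ : K' ≃ₐ[K] K') t / t) = 1 := by
    intro σ
    rw [map_div₀, InRam.val_eq zero_le_one σ.2, div_self]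
    rw [ht]; exact exp_ne_zero
  let u : G₁ → Q.O := fun σ => ⟨(σ : K' ≃ₐ[K] K') t / t, (hu σ).le⟩
  have hures : ∀ σ : G₁, IsLocalRing.residue Q.O (u σ) ≠ 0 := by
    intro σ h
    rw [Q.residue_eq_zero_iff] at h
    exact absurd (hu σ) (ne_of_lt h)
  have hmul : ∀ σ τ : G₁, IsLocalRing.residue Q.O (u (σ * τ)) =
      IsLocalRing.residue Q.O (u σ) * IsLocalRing.residue Q.O (u τ) := by
    intro σ τ
    rw [← map_mul, ← sub_eq_zero, ← map_sub, Q.residue_eq_zero_iff]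
    have hσt : (σ : K' ≃ₐ[K] K') t ≠ 0 := (_root_.map_ne_zero _).mpr ht0
    have h1 : (((u (σ * τ) - u σ * u τ : Q.O)) : K') =
        ((σ : K' ≃ₐ[K] K') ((τ : K' ≃ₐ[K] K') t / t) - (τ : K' ≃ₐ[K] K') t / t) *
          ((σ : K' ≃ₐ[K] K') t / t) := by
      show ((σ : K' ≃ₐ[K] K') * (τ : K' ≃ₐ[K] K')) t / t -
        ((σ : K' ≃ₐ[K] K') t / t) * ((τ : K' ≃ₐ[K] K') t / t) = _
      rw [AlgEquiv.mul_apply, map_div₀]
      field_simp
    rw [h1, map_mul, hu σ, mul_one]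
    exact lt_of_le_of_lt (σ.2 _ (hu τ).le) exp_neg_one_lt_one
  let θ : G₁ →* (IsLocalRing.ResidueField Q.O)ˣ :=
    { toFun := fun σ => Units.mk0 _ (hures σ)
      map_one' := by
        apply Units.ext
        show IsLocalRing.residue Q.O (u 1) = 1
        have h1 : u 1 = 1 := Subtype.ext (by
          show (1 : K' ≃ₐ[K] K') t / t = 1
          rw [AlgEquiv.one_apply, div_self ht0])
        rw [h1, map_one]
      map_mul' := fun σ τ => Units.ext (hmul σ τ) }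
  have hker : ∀ σ : G₁, θ σ = 1 → InRam Q (σ : K' ≃ₐ[K] K') 2 := by
    intro σ h
    have h1 : IsLocalRing.residue Q.O (u σ) = 1 := congrArg Units.val h
    rw [← map_one (IsLocalRing.residue Q.O), ← sub_eq_zero, ← map_sub,
      Q.residue_eq_zero_iff] at h1
    have h2 : ((u σ - 1 : Q.O) : K') = ((σ : K' ≃ₐ[K] K') t - t) / t ^ 1 := by
      show (σ : K' ≃ₐ[K] K') t / t - 1 = _
      field_simp
    rw [h2] at h1
    have h3 := inRam_succ_of_val_W_lt hK Q (i := 1) le_rfl (by exact_mod_cast σ.2) ht h1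
    exact h3
  haveI : Finite θ.range := inferInstance
  haveI : IsCyclic θ.range := inferInstance
  obtain ⟨g, hg⟩ := IsCyclic.exists_monoid_generator (α := θ.range)
  obtain ⟨σ₀, hσ₀⟩ := g.2
  refine ⟨σ₀.1, σ₀.2, fun σ hσ => ?_⟩
  obtain ⟨n, hn⟩ := hg ⟨θ ⟨σ, hσ⟩, ⟨⟨σ, hσ⟩, rfl⟩⟩
  refine ⟨n, ?_⟩
  have h4 : (g : (IsLocalRing.ResidueField Q.O)ˣ) ^ n = θ ⟨σ, hσ⟩ := by
    have := congrArg Subtype.val hn
    simpa using this
  have h3 : θ ((σ₀ ^ n)⁻¹ * ⟨σ, hσ⟩) = 1 := by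
    rw [map_mul, map_inv, map_pow, hσ₀, h4, inv_mul_cancel]
  exact hker _ h3

/-- `G_i'/G_{i+1}'` is abelian and killed by the characteristic, `i ≥ 2`. -/
theorem ram_quotient_elementary (hK : IsFunctionField k K) (Q : Place k K')
    [Algebra.IsSeparable k (IsLocalRing.ResidueField Q.O)] {i : ℕ} (hi : 2 ≤ i)
    {σ τ : K' ≃ₐ[K] K'} (hσ : InRam Q σ i) (hτ : InRam Q τ i) :
    InRam Q (σ * τ * σ⁻¹ * τ⁻¹) ((i : ℤ) + 1) ∧
    (ringChar K = 0 → InRam Q σ ((i : ℤ) + 1)) ∧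
    ∀ p : ℕ, p.Prime → ringChar K = p → InRam Q (σ ^ p) ((i : ℤ) + 1) := by
  classical
  obtain ⟨t, ht⟩ := Q.exists_uniformizer
  have ht0 : t ≠ 0 := uniformizer_ne_zero Q ht
  have hi0 : (0 : ℤ) ≤ (i : ℤ) := by omega
  let G : Subgroup (K' ≃ₐ[K] K') := ramGroup K Q i hi0
  let w : G → Q.O := fun σ => ⟨((σ : K' ≃ₐ[K] K') t - t) / t ^ i, InRam.val_W_le_one σ.2 ht⟩
  have hadd : ∀ σ τ : G, IsLocalRing.residue Q.O (w (σ * τ)) =
      IsLocalRing.residue Q.O (w σ) + IsLocalRing.residue Q.O (w τ) := by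
    intro σ τ
    rw [← map_add, ← sub_eq_zero, ← map_sub, Q.residue_eq_zero_iff]
    exact lt_of_le_of_lt (val_W_mul_sub_le hi σ.2 τ.2 ht) exp_neg_one_lt_one
  let θ : G →* Multiplicative (IsLocalRing.ResidueField Q.O) :=
    { toFun := fun σ => Multiplicative.ofAdd (IsLocalRing.residue Q.O (w σ))
      map_one' := by
        have h1 : w 1 = 0 := Subtype.ext (by
          show ((1 : K' ≃ₐ[K] K') t - t) / t ^ i = 0
          rw [AlgEquiv.one_apply, sub_self, zero_div])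
        show Multiplicative.ofAdd (IsLocalRing.residue Q.O (w 1)) = 1
        rw [h1, map_zero]
        rfl
      map_mul' := fun σ τ => by
        show Multiplicative.ofAdd (IsLocalRing.residue Q.O (w (σ * τ))) = _
        rw [hadd]
        rfl }
  have hθ : ∀ σ : G, θ σ = Multiplicative.ofAdd (IsLocalRing.residue Q.O (w σ)) := fun _ => rfl
  have hker : ∀ σ : G, θ σ = 1 → InRam Q (σ : K' ≃ₐ[K] K') ((i : ℤ) + 1) := by
    intro σ h
    have h1 : IsLocalRing.residue Q.O (w σ) = 0 := h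
    rw [Q.residue_eq_zero_iff] at h1
    exact inRam_succ_of_val_W_lt hK Q (by omega) σ.2 ht h1
  -- characteristic of the residue field
  haveI : CharP K (ringChar K) := ringChar.charP K
  haveI : CharP k (ringChar K) :=
    (RingHom.charP_iff (algebraMap k K) (algebraMap k K).injective (ringChar K)).mpr inferInstance
  haveI : CharP (IsLocalRing.ResidueField Q.O) (ringChar K) :=
    charP_of_injective_algebraMap (algebraMap k (IsLocalRing.ResidueField Q.O)).injective _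
  refine ⟨?_, ?_, ?_⟩
  · have h1 : θ (⟨σ, hσ⟩ * ⟨τ, hτ⟩ * ⟨σ, hσ⟩⁻¹ * ⟨τ, hτ⟩⁻¹) = 1 := by
      rw [map_mul, map_mul, map_mul, map_inv, map_inv, mul_comm (θ ⟨σ, hσ⟩) (θ ⟨τ, hτ⟩),
        mul_inv_cancel_right, mul_inv_cancel]
    exact hker _ h1
  · intro h0
    have hpos : 0 < orderOf (⟨σ, hσ⟩ : G) := orderOf_pos _
    have h1 : θ ⟨σ, hσ⟩ ^ orderOf (⟨σ, hσ⟩ : G) = 1 := by
      rw [← map_pow, pow_orderOf_eq_one, map_one]
    rw [hθ, ← ofAdd_nsmul] at h1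
    have h2 : orderOf (⟨σ, hσ⟩ : G) • IsLocalRing.residue Q.O (w ⟨σ, hσ⟩) = 0 := h1
    rw [nsmul_eq_mul] at h2
    haveI : CharP (IsLocalRing.ResidueField Q.O) 0 := h0 ▸ ‹CharP (IsLocalRing.ResidueField Q.O) (ringChar K)›
    haveI : CharZero (IsLocalRing.ResidueField Q.O) := CharP.charP_to_charZero _
    have h3 : IsLocalRing.residue Q.O (w ⟨σ, hσ⟩) = 0 := by
      rcases mul_eq_zero.mp h2 with h | h
      · exact absurd (Nat.cast_eq_zero.mp h) hpos.ne'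
      · exact h
    exact hker ⟨σ, hσ⟩ (by rw [hθ, h3]; rfl)
  · intro p _ hp
    have h1 : θ (⟨σ, hσ⟩ ^ p) = 1 := by
      rw [map_pow, hθ, ← ofAdd_nsmul, nsmul_eq_mul]
      haveI : CharP (IsLocalRing.ResidueField Q.O) p := hp ▸ ‹CharP (IsLocalRing.ResidueField Q.O) (ringChar K)›
      rw [CharP.cast_eq_zero, zero_mul]
      rfl
    exact hker _ h1

end Galois

end FunFld
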