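import Mathlib
import Groth.Agent.Lib.FunFldRamB_helper2

/-! The inertia field (helper2). -/

open Polynomial IntermediateField WithZero Module
open scoped Pointwise

namespace FunFld

variable {k K K' : Type*} [Field k] [Field K] [Field K'] [Algebra k K] [Algebra K K']
    [Algebra k K'] [IsScalarTower k K K']

theorem dvd_of_exp_pow_mem_range {e e' : ℕ} (he' : 0 < e')
    (h : (exp (-1 : ℤ) : ℤᵐ⁰) ^ e ∈ Set.range (fun γ : ℤᵐ⁰ => γ ^ e')) : e' ∣ e := by
  obtain ⟨γ, hγ⟩ := h
  have hγ' : γ ^ e' = exp (-1 : ℤ) ^ e := hγ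
  have hγ0 : γ ≠ 0 := by
    rintro rfl
    rw [zero_pow he'.ne'] at hγ'
    exact (pow_ne_zero e exp_ne_zero) hγ'.symm
  obtain ⟨m, rfl⟩ : ∃ m : ℤ, γ = exp m := ⟨log γ, (exp_log hγ0).symm⟩
  rw [← exp_nsmul, ← exp_nsmul, exp_inj] at hγ'
  simp only [nsmul_eq_mul] at hγ'
  have h2 : (e' : ℤ) ∣ (e : ℤ) := ⟨-m, by linarith⟩
  exact Int.natCast_dvd_natCast.mp h2

theorem range_pow_eq_iff {e e' : ℕ} (he : 0 < e) (he' : 0 < e') :
    Set.range (fun γ : ℤᵐ⁰ => γ ^ e) = Set.range (fun γ : ℤᵐ⁰ => γ ^ e') ↔ e = e' := by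
  constructor
  · intro h
    apply Nat.dvd_antisymm
    · have h1 : (exp (-1 : ℤ) : ℤᵐ⁰) ^ e' ∈ Set.range (fun γ : ℤᵐ⁰ => γ ^ e) := by
        rw [h]; exact ⟨_, rfl⟩
      exact dvd_of_exp_pow_mem_range he h1
    · have h1 : (exp (-1 : ℤ) : ℤᵐ⁰) ^ e ∈ Set.range (fun γ : ℤᵐ⁰ => γ ^ e') := by
        rw [← h]; exact ⟨_, rfl⟩
      exact dvd_of_exp_pow_mem_range he' h1
  · rintro rfl; rfl

section Galois

variable [FiniteDimensional K K']

theorem inertia_map_eq_ramGroup (Q : Place k K') :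
    (Q.O.inertiaSubgroup K).map (Q.O.decompositionSubgroup K).subtype =
      ramGroup K Q 1 zero_le_one := by
  ext σ
  rw [Subgroup.mem_map, mem_ramGroup]
  constructor
  · rintro ⟨z, hz, rfl⟩
    intro x hx
    have h1 : MulSemiringAction.toRingAut (Q.O.decompositionSubgroup K)
        (IsLocalRing.ResidueField Q.O) z = 1 := hz
    have h2 : z • IsLocalRing.residue Q.O ⟨x, hx⟩ = IsLocalRing.residue Q.O ⟨x, hx⟩ :=
      RingEquiv.congr_fun h1 (IsLocalRing.residue Q.O ⟨x, hx⟩)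
    rw [← IsLocalRing.ResidueField.residue_smul, ← sub_eq_zero, ← map_sub,
      Q.residue_eq_zero_iff] at h2
    exact (lt_one_iff_le_exp_neg_one _).mp h2
  · intro h
    have hmem : σ ∈ Q.O.decompositionSubgroup K := by
      rw [mem_decomposition_iff]
      exact (Place.eq_of_forall_le_one (fun a ha => h.stab zero_le_one ha)).symm
    refine ⟨⟨σ, hmem⟩, ?_, rfl⟩
    show (⟨σ, hmem⟩ : Q.O.decompositionSubgroup K) ∈ MonoidHom.ker
      (MulSemiringAction.toRingAut (Q.O.decompositionSubgroup K) (IsLocalRing.ResidueField Q.O))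
    rw [MonoidHom.mem_ker]
    apply RingEquiv.ext
    intro ā
    obtain ⟨a, rfl⟩ := IsLocalRing.residue_surjective ā
    show (⟨σ, hmem⟩ : Q.O.decompositionSubgroup K) • IsLocalRing.residue Q.O a =
      IsLocalRing.residue Q.O a
    rw [← IsLocalRing.ResidueField.residue_smul, ← sub_eq_zero, ← map_sub,
      Q.residue_eq_zero_iff]
    exact lt_of_le_of_lt (h (a : K') a.2) exp_neg_one_lt_one

variable [IsGalois K K']

theorem exists_ramIdx_base (hK : IsFunctionField k K) (Q : Place k K')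
    [Algebra.IsSeparable k (IsLocalRing.ResidueField Q.O)] :
    ∃ e : ℕ, 0 < e ∧
      Set.range (Q.1.comap (algebraMap K K')) = Set.range (fun γ : ℤᵐ⁰ => γ ^ e) ∧
      Nat.card (ramGroup K Q 1 zero_le_one) = e := by
  haveI : Algebra.IsAlgebraic K K' := Algebra.IsAlgebraic.of_finite K K'
  obtain ⟨P, e, he⟩ := exists_isOverWith hK Q
  refine ⟨e, he.pos, ?_, ?_⟩
  · ext γ
    constructor
    · rintro ⟨x, rfl⟩
      exact ⟨P.1 x, (he x).symm⟩
    · rintro ⟨γ', rfl⟩
      obtain ⟨x, rfl⟩ := P.2.2 γ'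
      exact ⟨x, he x⟩
  · rw [← inertia_map_eq_ramGroup, Subgroup.card_subtype]
    exact card_inertia hK he

theorem exists_ramIdx_intermediate (hK : IsFunctionField k K) (Q : Place k K')
    [Algebra.IsSeparable k (IsLocalRing.ResidueField Q.O)] (E : IntermediateField K K') :
    ∃ e : ℕ, 0 < e ∧
      Set.range (Q.1.comap (algebraMap E K')) = Set.range (fun γ : ℤᵐ⁰ => γ ^ e) ∧
      Nat.card {τ : K' ≃ₐ[E] K' //
        ∀ x : K', Q.1 x ≤ 1 → Q.1 (τ x - x) ≤ exp (-(1 : ℤ))} = e := by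
  haveI : Algebra.IsAlgebraic k (algebraicClosure k E) := algebraicClosure.isAlgebraic k E
  have hE : IsFunctionField (algebraicClosure k E) E := isFunctionField_algebraicClosure hK
  haveI t2 : IsScalarTower k (algebraicClosure k E) K' :=
    IsScalarTower.of_algebraMap_eq (fun c => rfl)
  let Q₁ : Place (algebraicClosure k E) K' :=
    ⟨Q.1, fun c => val_le_one_of_isIntegral Q.1 Q.2.1
      ((Algebra.IsIntegral.isIntegral (R := k) c).map
        (IsScalarTower.toAlgHom k (algebraicClosure k E) K')), Q.2.2⟩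
  haveI : Algebra.IsSeparable (algebraicClosure k E) (IsLocalRing.ResidueField Q₁.O) := by
    letI a0 : Algebra k (IsLocalRing.ResidueField Q₁.O) := Place.algRes Q
    haveI t3 : IsScalarTower k (algebraicClosure k E) (IsLocalRing.ResidueField Q₁.O) :=
      IsScalarTower.of_algebraMap_eq (fun c => rfl)
    haveI : Algebra.IsSeparable k (IsLocalRing.ResidueField Q₁.O) :=
      ‹Algebra.IsSeparable k (IsLocalRing.ResidueField Q.O)›
    exact Algebra.isSeparable_tower_top_of_isSeparable k _ _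
  obtain ⟨e, he0, hr, hc⟩ := exists_ramIdx_base hE Q₁
  exact ⟨e, he0, hr, hc⟩

theorem unramified_iff_le_inertiaField (hK : IsFunctionField k K) (Q : Place k K')
    [Algebra.IsSeparable k (IsLocalRing.ResidueField Q.O)] (E : IntermediateField K K') :
    Set.range (Q.1.comap (algebraMap E K')) = Set.range (Q.1.comap (algebraMap K K')) ↔
      E ≤ IntermediateField.fixedField
        ((Q.O.inertiaSubgroup K).map (Q.O.decompositionSubgroup K).subtype) := by
  classical
  obtain ⟨e, he0, hrK, hcK⟩ := exists_ramIdx_base hK Q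
  obtain ⟨e', he'0, hrE, hcE⟩ := exists_ramIdx_intermediate hK Q E
  rw [hrE, hrK, range_pow_eq_iff he'0 he0, inertia_map_eq_ramGroup, IntermediateField.le_iff_le]
  let ι : {τ : K' ≃ₐ[E] K' // ∀ x : K', Q.1 x ≤ 1 → Q.1 (τ x - x) ≤ exp (-(1 : ℤ))} →
      ramGroup K Q 1 zero_le_one := fun τ => ⟨τ.1.restrictScalars K, τ.2⟩
  have hι : Function.Injective ι := by
    intro τ₁ τ₂ h
    apply Subtype.ext
    ext x
    exact congrArg (fun s : ramGroup K Q 1 zero_le_one => (s : K' ≃ₐ[K] K') x) h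
  constructor
  · intro hee
    have hbij : Function.Bijective ι := hι.bijective_of_nat_card_le (by rw [hcK, hcE, hee])
    intro σ hσ
    obtain ⟨τ, hτ⟩ := hbij.2 ⟨σ, hσ⟩
    have h1 : σ = τ.1.restrictScalars K := (congrArg Subtype.val hτ).symm
    rw [h1, IntermediateField.mem_fixingSubgroup_iff]
    intro y hy
    exact τ.1.commutes ⟨y, hy⟩
  · intro hle
    have hsurj : Function.Surjective ι := by
      rintro ⟨σ, hσ⟩
      have hσE : σ ∈ E.fixingSubgroup := hle hσ
      refine ⟨⟨IntermediateField.fixingSubgroupEquiv E ⟨σ, hσE⟩, hσ⟩, ?_⟩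
      apply Subtype.ext
      ext x
      rfl
    rw [← hcK, ← hcE]
    exact Nat.card_eq_of_bijective ι ⟨hι, hsurj⟩

end Galois

end FunFld
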