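import Mathlib
import Groth.Prelude.Def_LocRes
import Groth.Agent.Lib.FunFldRamC_helper2

/-! Orders of differentials through Laurent expansions; the different exponent (helper2). -/

open Polynomial IntermediateField WithZero Module

namespace FunFld

universe u v w v' w'

section Laurent

variable {F : Type*} [Field F]

theorem laurent_val_D_le (f : LaurentSeries F) (n : ℤ) (h : Valued.v f ≤ exp (-n)) :
    Valued.v (LocRes.D F f) ≤ exp (-(n - 1)) := by
  rw [LaurentSeries.valuation_le_iff_coeff_lt_eq_zero]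
  intro m hm
  rw [LocRes.D_coeff, LaurentSeries.coeff_zero_of_lt_valuation F h (by omega), smul_zero]

theorem laurent_val_D_le_of_cast_eq_zero (f : LaurentSeries F) (n : ℤ)
    (h : Valued.v f ≤ exp (-n)) (hn : (n : F) = 0) : Valued.v (LocRes.D F f) ≤ exp (-n) := by
  rw [LaurentSeries.valuation_le_iff_coeff_lt_eq_zero]
  intro m hm
  rw [LocRes.D_coeff]
  rcases lt_or_eq_of_le (show m + 1 ≤ n by omega) with h1 | h1
  · rw [LaurentSeries.coeff_zero_of_lt_valuation F h h1, smul_zero]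
  · rw [h1, zsmul_eq_mul, hn, zero_mul]

theorem laurent_val_D_eq (f : LaurentSeries F) (n : ℤ) (h : Valued.v f = exp (-n))
    (hn : (n : F) ≠ 0) : Valued.v (LocRes.D F f) = exp (-(n - 1)) := by
  apply le_antisymm (laurent_val_D_le f n h.le)
  by_contra hlt
  rw [not_le, lt_exp_iff_le_exp_sub_one] at hlt
  have hlt' : Valued.v (LocRes.D F f) ≤ exp (-n) := by
    convert hlt using 2; ring
  have h1 : (LocRes.D F f).coeff (n - 1) = 0 :=
    LaurentSeries.coeff_zero_of_lt_valuation F hlt' (by omega)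
  rw [LocRes.D_coeff, zsmul_eq_mul, show n - 1 + 1 = n by ring] at h1
  have h2 : f.coeff n = 0 := (mul_eq_zero.mp h1).resolve_left hn
  have h3 : Valued.v f ≤ exp (-(n + 1)) := by
    rw [LaurentSeries.valuation_le_iff_coeff_lt_eq_zero]
    intro m hm
    rcases lt_or_eq_of_le (show m ≤ n by omega) with h4 | h4
    · exact LaurentSeries.coeff_zero_of_lt_valuation F h.le h4
    · rw [h4]; exact h2
  rw [h, exp_le_exp] at h3
  omega

end Laurent

section Expansion

variable {k : Type u} {K : Type v} {F : Type w} [Field k] [Field K] [Field F]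
  [Algebra k K] [Algebra k F]

theorem vDiff_one_left (φ : K →ₐ[k] LaurentSeries F) (x : K) :
    LocRes.vDiff φ 1 x = Valued.v (LocRes.D F (φ x)) := by
  unfold LocRes.vDiff
  rw [map_one, one_mul]

theorem resExp_eq_zero_of_le_one {w : Valuation K (WithZero (Multiplicative ℤ))}
    {φ : K →ₐ[k] LaurentSeries F} (hφ : LocRes.IsExpansionAt w φ) {u v : K}
    (hu : w u ≤ 1) (hv : w v ≤ 1) : LocRes.resExp φ u v = 0 := by
  unfold LocRes.resExp
  rw [LocRes.res_apply]
  have h1 : Valued.v (φ u) ≤ exp (-(0 : ℤ)) := by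
    rw [hφ.1, neg_zero, exp_zero]; exact hu
  have h2 : Valued.v (φ v) ≤ exp (-(0 : ℤ)) := by
    rw [hφ.1, neg_zero, exp_zero]; exact hv
  have h3 : Valued.v (LocRes.D F (φ v)) ≤ exp (-(0 : ℤ)) :=
    laurent_val_D_le_of_cast_eq_zero _ 0 h2 (by simp)
  have h4 : Valued.v (φ u * LocRes.D F (φ v)) ≤ exp (-(0 : ℤ)) := by
    rw [neg_zero, exp_zero] at h1 h3 ⊢
    rw [map_mul]
    exact mul_le_one' h1 h3
  exact LaurentSeries.coeff_zero_of_lt_valuation F h4 (by norm_num)

theorem D_exp_of_kaehler (χ : K →ₐ[k] LaurentSeries F) {x x' u : K}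
    (h : KaehlerDifferential.D k K x' = u • KaehlerDifferential.D k K x) :
    LocRes.D F (χ x') = χ u * LocRes.D F (χ x) := by
  letI := χ.toRingHom.toAlgebra
  haveI : IsScalarTower k K (LaurentSeries F) := LocRes.isScalarTower_exp χ
  have h1 := congrArg (LocRes.dExp χ).liftKaehlerDifferential h
  rw [map_smul, Derivation.liftKaehlerDifferential_comp_D,
    Derivation.liftKaehlerDifferential_comp_D] at h1
  exact h1

theorem kaehler_D_ne_zero_of_exp (χ : K →ₐ[k] LaurentSeries F) {x : K}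
    (h : LocRes.D F (χ x) ≠ 0) : KaehlerDifferential.D k K x ≠ 0 := by
  intro h0
  apply h
  have h1 := D_exp_of_kaehler χ (x := x) (x' := x) (u := 0) (by rw [h0, smul_zero])
  rw [h1, map_zero, zero_mul]

theorem exists_kaehler_D_eq_smul (hK : IsFunctionField k K) (hg : IsGeometric k K) {x : K}
    (hx : KaehlerDifferential.D k K x ≠ 0) (x' : K) :
    ∃ u : K, KaehlerDifferential.D k K x' = u • KaehlerDifferential.D k K x := by
  have h1 := finrank_kaehler_eq_one hK hg
  obtain ⟨c, hc⟩ := (finrank_eq_one_iff_of_nonzero' _ hx).mp h1 (KaehlerDifferential.D k K x')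
  exact ⟨c, hc.symm⟩

theorem D_exp_ne_zero_of_vDiff {φ : K →ₐ[k] LaurentSeries F} {x : K}
    (hx : LocRes.vDiff φ 1 x ≠ 0) : LocRes.D F (φ x) ≠ 0 := by
  intro h
  apply hx
  rw [vDiff_one_left, h, map_zero]

end Expansion

section Different

variable {k : Type u} {K : Type v} {K' : Type v'} [Field k] [Field K] [Field K'] [Algebra k K]
  [Algebra K K'] [Algebra k K'] [IsScalarTower k K K']
  {F : Type w} {F' : Type w'} [Field F] [Algebra k F] [Field F'] [Algebra k F']

/-- Change of differential: both orders shift compatibly. -/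
theorem vDiff_change (hK : IsFunctionField k K) (hg : IsGeometric k K)
    {P : Place k K} {Q : Place k K'} {e : ℕ} (he : IsOverWith Q P e)
    {φ : K →ₐ[k] LaurentSeries F} (hφ : LocRes.IsExpansionAt P.1 φ)
    {ψ : K' →ₐ[k] LaurentSeries F'} (hψ : LocRes.IsExpansionAt Q.1 ψ)
    {x : K} (hx : LocRes.vDiff φ 1 x ≠ 0) (x' : K) :
    ∃ u : K, LocRes.vDiff φ 1 x' = P.1 u * LocRes.vDiff φ 1 x ∧
      LocRes.vDiff ψ 1 (algebraMap K K' x') =
        P.1 u ^ e * LocRes.vDiff ψ 1 (algebraMap K K' x) := by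
  have hDx := D_exp_ne_zero_of_vDiff hx
  have hKx := kaehler_D_ne_zero_of_exp φ hDx
  obtain ⟨u, hu⟩ := exists_kaehler_D_eq_smul hK hg hKx x'
  have h1 := D_exp_of_kaehler φ hu
  have h2 := D_exp_of_kaehler (ψ.comp (IsScalarTower.toAlgHom k K K')) hu
  refine ⟨u, ?_, ?_⟩
  · rw [vDiff_one_left, vDiff_one_left, h1, map_mul, hφ.1]
  · rw [vDiff_one_left, vDiff_one_left]
    have h3 : LocRes.D F' (ψ (algebraMap K K' x')) =
        ψ (algebraMap K K' u) * LocRes.D F' (ψ (algebraMap K K' x)) := h2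
    rw [h3, map_mul, hψ.1, he u]

theorem diffExp_eq_diffExp (hK : IsFunctionField k K) (hg : IsGeometric k K)
    {P : Place k K} {Q : Place k K'} {e : ℕ} (he : IsOverWith Q P e)
    {φ : K →ₐ[k] LaurentSeries F} (hφ : LocRes.IsExpansionAt P.1 φ)
    {ψ : K' →ₐ[k] LaurentSeries F'} (hψ : LocRes.IsExpansionAt Q.1 ψ)
    {x : K} (hx : LocRes.vDiff φ 1 x ≠ 0) (hx' : LocRes.vDiff ψ 1 (algebraMap K K' x) ≠ 0)
    {x' : K} (hx2 : LocRes.vDiff φ 1 x' ≠ 0) :
    LocRes.diffExp φ ψ e x = LocRes.diffExp φ ψ e x' := by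
  obtain ⟨u, hv1, hv2⟩ := vDiff_change hK hg he hφ hψ hx x'
  have hu0 : P.1 u ≠ 0 := by
    intro h
    rw [h, zero_mul] at hv1
    exact hx2 hv1
  unfold LocRes.diffExp LocRes.ordDiff
  rw [hv1, hv2, log_mul hu0 hx, log_mul (pow_ne_zero e hu0) hx', log_pow]
  simp only [nsmul_eq_mul]
  ring

/-- The different exponent is the order above of `dt`, `t` a uniformizer below. -/
theorem diffExp_via_uniformizer (hK : IsFunctionField k K) (hg : IsGeometric k K)
    {P : Place k K} {Q : Place k K'} {e : ℕ} (he : IsOverWith Q P e)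
    {φ : K →ₐ[k] LaurentSeries F} (hφ : LocRes.IsExpansionAt P.1 φ)
    {ψ : K' →ₐ[k] LaurentSeries F'} (hψ : LocRes.IsExpansionAt Q.1 ψ)
    {x : K} (hx : LocRes.vDiff φ 1 x ≠ 0) (hx' : LocRes.vDiff ψ 1 (algebraMap K K' x) ≠ 0)
    {t : K} (ht : P.1 t = exp (-1 : ℤ)) :
    LocRes.vDiff φ 1 t = 1 ∧ LocRes.vDiff ψ 1 (algebraMap K K' t) ≠ 0 ∧
      LocRes.diffExp φ ψ e x = -log (LocRes.vDiff ψ 1 (algebraMap K K' t)) := by
  have hφt : Valued.v (φ t) = exp (-(1 : ℤ)) := by rw [hφ.1, ht]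
  have hDφt : Valued.v (LocRes.D F (φ t)) = exp (-((1 : ℤ) - 1)) :=
    laurent_val_D_eq (φ t) 1 hφt (by simp)
  have hvφt : LocRes.vDiff φ 1 t = 1 := by
    rw [vDiff_one_left, hDφt]; simp
  have hvφt0 : LocRes.vDiff φ 1 t ≠ 0 := by rw [hvφt]; exact one_ne_zero
  obtain ⟨u, hv1, hv2⟩ := vDiff_change hK hg he hφ hψ hvφt0 x
  have hvψt0 : LocRes.vDiff ψ 1 (algebraMap K K' t) ≠ 0 := by
    intro h
    rw [h, mul_zero] at hv2
    exact hx' hv2
  have hswitch : LocRes.diffExp φ ψ e x = LocRes.diffExp φ ψ e t :=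
    (diffExp_eq_diffExp hK hg he hφ hψ hvφt0 hvψt0 hx).symm
  have hdt : LocRes.diffExp φ ψ e t = -log (LocRes.vDiff ψ 1 (algebraMap K K' t)) := by
    unfold LocRes.diffExp LocRes.ordDiff
    rw [hvφt, log_one]
    ring
  exact ⟨hvφt, hvψt0, hswitch.trans hdt⟩

/-- The different exponent through a uniformizer below. -/
theorem diffExp_cases (hK : IsFunctionField k K) (hg : IsGeometric k K)
    {P : Place k K} {Q : Place k K'} {e : ℕ} (he : IsOverWith Q P e)
    {φ : K →ₐ[k] LaurentSeries F} (hφ : LocRes.IsExpansionAt P.1 φ)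
    {ψ : K' →ₐ[k] LaurentSeries F'} (hψ : LocRes.IsExpansionAt Q.1 ψ)
    {x : K} (hx : LocRes.vDiff φ 1 x ≠ 0) (hx' : LocRes.vDiff ψ 1 (algebraMap K K' x) ≠ 0) :
    (¬ (ringChar K ∣ e) → LocRes.diffExp φ ψ e x = (e : ℤ) - 1) ∧
    (ringChar K ∣ e → (e : ℤ) ≤ LocRes.diffExp φ ψ e x) := by
  obtain ⟨t, ht⟩ := P.exists_uniformizer
  -- below: order of dt is 0
  have hφt : Valued.v (φ t) = exp (-(1 : ℤ)) := by rw [hφ.1, ht]
  have hDφt : Valued.v (LocRes.D F (φ t)) = exp (-((1 : ℤ) - 1)) :=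
    laurent_val_D_eq (φ t) 1 hφt (by simp)
  have hvφt : LocRes.vDiff φ 1 t = 1 := by
    rw [vDiff_one_left, hDφt]; simp
  have hvφt0 : LocRes.vDiff φ 1 t ≠ 0 := by rw [hvφt]; exact one_ne_zero
  -- above: dt ≠ 0
  obtain ⟨u, hv1, hv2⟩ := vDiff_change hK hg he hφ hψ hvφt0 x
  have hvψt0 : LocRes.vDiff ψ 1 (algebraMap K K' t) ≠ 0 := by
    intro h
    rw [h, mul_zero] at hv2
    exact hx' hv2
  have hswitch : LocRes.diffExp φ ψ e x = LocRes.diffExp φ ψ e t :=
    (diffExp_eq_diffExp hK hg he hφ hψ hvφt0 hvψt0 hx).symm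
  have hdt : LocRes.diffExp φ ψ e t = -log (LocRes.vDiff ψ 1 (algebraMap K K' t)) := by
    unfold LocRes.diffExp LocRes.ordDiff
    rw [hvφt, log_one]
    ring
  have hψt : Valued.v (ψ (algebraMap K K' t)) = exp (-((e : ℕ) : ℤ)) := by
    rw [hψ.1, he t, ht, ← exp_nsmul]
    congr 1
    simp
  have hcast : ∀ (A : Type w') [Field A] [Algebra k A], ((e : ℕ) : A) = 0 ↔ ringChar K ∣ e := by
    intro A _ _
    rw [← ringChar.spec K e]
    have h1 : ((e : ℕ) : A) = algebraMap k A (e : k) := (map_natCast _ e).symm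
    have h2 : ((e : ℕ) : K) = algebraMap k K (e : k) := (map_natCast _ e).symm
    rw [h1, h2, map_eq_zero, map_eq_zero]
  rw [hswitch, hdt]
  constructor
  · intro hne
    have hne' : (((e : ℕ) : ℤ) : F') ≠ 0 := by
      rw [Int.cast_natCast]
      exact fun h => hne ((hcast F').mp h)
    have h1 := laurent_val_D_eq (ψ (algebraMap K K' t)) (e : ℤ) hψt hne'
    rw [vDiff_one_left, h1, log_exp]
    ring
  · intro hdvd
    have heq : (((e : ℕ) : ℤ) : F') = 0 := by
      rw [Int.cast_natCast]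
      exact (hcast F').mpr hdvd
    have h1 := laurent_val_D_le_of_cast_eq_zero (ψ (algebraMap K K' t)) (e : ℤ) hψt.le heq
    rw [← vDiff_one_left] at h1
    have h2 := (log_le_iff_le_exp hvψt0).mpr h1
    omega

end Different

end FunFld
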