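import Mathlib
import Groth.Agent.Lib.FunFldLocRes_helper2

/-! The different exponent of a totally ramified place via the derivative of the minimal
polynomial of a uniformizer (helper2). -/

open Polynomial IntermediateField WithZero Module

namespace FunFld

universe u v w v' w'

section Eisenstein

variable {k : Type*} {K : Type*} {K' : Type*} [Field k] [Field K] [Field K'] [Algebra k K]
  [Algebra K K'] [Algebra k K'] [IsScalarTower k K K']

theorem val_term_eq {P : Place k K} {Q : Place k K'} {e : ℕ} (he : IsOverWith Q P e)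
    {s : K'} (hs : Q.1 s = exp (-1 : ℤ)) {a : K} (ha : a ≠ 0) (i : ℕ) :
    Q.1 (algebraMap K K' a * s ^ i) = exp (-((e : ℤ) * P.ord a + i)) := by
  rw [map_mul, he a, map_pow, hs, P.val_eq_exp_neg_ord ha, ← exp_nsmul, ← exp_nsmul, ← exp_add]
  congr 1
  simp only [nsmul_eq_mul]
  ring

/-- A monic polynomial of degree at most `e` killing a uniformizer of a place of index `e` is
Eisenstein. -/
theorem eisenstein_of_index {P : Place k K} {Q : Place k K'} {e : ℕ} (he : IsOverWith Q P e)
    {s : K'} (hs : Q.1 s = exp (-1 : ℤ)) {f : K[X]} (hf : f.Monic) (hfs : aeval s f = 0)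
    (hdeg : f.natDegree ≤ e) :
    f.natDegree = e ∧ P.1 (f.coeff 0) = exp (-1 : ℤ) ∧ ∀ i, P.1 (f.coeff i) ≤ 1 := by
  classical
  have hepos : 0 < e := he.pos
  set m := f.natDegree with hm
  have hs0 : s ≠ 0 := uniformizer_ne_zero Q hs
  let T : ℕ → K' := fun i => algebraMap K K' (f.coeff i) * s ^ i
  have hsum : ∑ i ∈ Finset.range (m + 1), T i = 0 := by
    rw [← hfs, aeval_eq_sum_range]
    refine Finset.sum_congr rfl fun i _ => ?_
    rw [Algebra.smul_def]
  have hTm : T m = s ^ m := by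
    show algebraMap K K' (f.coeff m) * s ^ m = s ^ m
    rw [hm, hf.coeff_natDegree, map_one, one_mul]
  have hwm : Q.1 (T m) = exp (-(m : ℤ)) := by
    rw [hTm, val_unif_pow_nat Q hs]
  obtain ⟨j, hjmem, hjmax⟩ := Finset.exists_max_image (Finset.range (m + 1)) (fun i => Q.1 (T i))
    ⟨m, Finset.mem_range.mpr (Nat.lt_succ_self m)⟩
  have hjm : j ≤ m := Nat.lt_succ_iff.mp (Finset.mem_range.mp hjmem)
  have hwj0 : Q.1 (T j) ≠ 0 := by
    have h1 : Q.1 (T m) ≤ Q.1 (T j) := hjmax m (Finset.mem_range.mpr (Nat.lt_succ_self m))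
    rw [hwm] at h1
    intro h0
    rw [h0] at h1
    exact absurd h1 (not_le.mpr exp_pos)
  obtain ⟨i, himem, hij, hwij⟩ : ∃ i ∈ Finset.range (m + 1), i ≠ j ∧ Q.1 (T i) = Q.1 (T j) := by
    by_contra hno
    push Not at hno
    have h1 : Q.1 (∑ i ∈ Finset.range (m + 1), T i) = Q.1 (T j) := by
      apply Valuation.map_sum_eq_of_lt _ hjmem
      intro i hi
      rw [Finset.mem_sdiff, Finset.mem_singleton] at hi
      exact lt_of_le_of_ne (hjmax i hi.1) (hno i hi.1 hi.2)
    rw [hsum, map_zero] at h1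
    exact hwj0 h1.symm
  have him : i ≤ m := Nat.lt_succ_iff.mp (Finset.mem_range.mp himem)
  have hci : f.coeff i ≠ 0 := by
    intro h0
    apply hwj0
    rw [← hwij]
    show Q.1 (algebraMap K K' (f.coeff i) * s ^ i) = 0
    rw [h0, map_zero, zero_mul, map_zero]
  have hcj : f.coeff j ≠ 0 := by
    intro h0
    apply hwj0
    show Q.1 (algebraMap K K' (f.coeff j) * s ^ j) = 0
    rw [h0, map_zero, zero_mul, map_zero]
  have hvi : Q.1 (T i) = exp (-((e : ℤ) * P.ord (f.coeff i) + i)) := val_term_eq he hs hci i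
  have hvj : Q.1 (T j) = exp (-((e : ℤ) * P.ord (f.coeff j) + j)) := val_term_eq he hs hcj j
  have hrel : (e : ℤ) * P.ord (f.coeff i) + i = (e : ℤ) * P.ord (f.coeff j) + j := by
    rw [hvi, hvj, exp_inj] at hwij
    omega
  -- divisibility forces {i, j} = {0, e}
  have hkey : m = e ∧ ((i = 0 ∧ j = e) ∨ (i = e ∧ j = 0)) := by
    set d : ℤ := P.ord (f.coeff i) - P.ord (f.coeff j) with hd
    have h1 : (e : ℤ) * d = (j : ℤ) - i := by rw [hd]; linarith
    have he' : (0 : ℤ) < e := by exact_mod_cast hepos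
    rcases lt_trichotomy d 0 with hneg | hzero | hpos
    · have h2 : (e : ℤ) * d ≤ -(e : ℤ) := by nlinarith
      have h3 : (i : ℤ) - j ≥ e := by linarith
      have : i = e ∧ j = 0 := by omega
      exact ⟨by omega, Or.inr this⟩
    · rw [hzero, mul_zero] at h1
      exact absurd (by omega : i = j) hij
    · have h2 : (e : ℤ) ≤ (e : ℤ) * d := by nlinarith
      have h3 : (j : ℤ) - i ≥ e := by linarith
      have : i = 0 ∧ j = e := by omega
      exact ⟨by omega, Or.inl this⟩
  obtain ⟨hme, hcases⟩ := hkey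
  -- the maximal value is exp (-e)
  have hmax : Q.1 (T j) = exp (-(e : ℤ)) := by
    rcases hcases with ⟨-, hj⟩ | ⟨hi, -⟩
    · rw [hj, ← hme, hwm]
    · rw [← hwij, hi, ← hme, hwm]
  have hall : ∀ l, l ≤ m → Q.1 (T l) ≤ exp (-(e : ℤ)) := fun l hl =>
    hmax ▸ hjmax l (Finset.mem_range.mpr (Nat.lt_succ_of_le hl))
  have h0max : Q.1 (T 0) = exp (-(e : ℤ)) := by
    rcases hcases with ⟨hi, -⟩ | ⟨-, hj⟩
    · rw [← hi, hwij, hmax]
    · rw [← hj, hmax]
  refine ⟨hme, ?_, ?_⟩
  · have hc0 : f.coeff 0 ≠ 0 := by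
      intro h0
      have : Q.1 (T 0) = 0 := by
        show Q.1 (algebraMap K K' (f.coeff 0) * s ^ 0) = 0
        rw [h0, map_zero, zero_mul, map_zero]
      rw [this] at h0max
      exact exp_ne_zero h0max.symm
    have h1 := val_term_eq he hs hc0 0
    have h2 : Q.1 (T 0) = Q.1 (algebraMap K K' (f.coeff 0) * s ^ 0) := rfl
    rw [h2, h1, exp_inj] at h0max
    have h3 : P.ord (f.coeff 0) = 1 := by
      have he' : (0 : ℤ) < e := by exact_mod_cast hepos
      have h4 : (e : ℤ) * P.ord (f.coeff 0) = e := by push_cast at h0max; linarith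
      have h5 : (e : ℤ) * (P.ord (f.coeff 0) - 1) = 0 := by linarith
      rcases mul_eq_zero.mp h5 with h | h
      · omega
      · omega
    rw [P.val_eq_exp_neg_ord hc0, h3]
  · intro l
    by_cases hl : l ≤ m
    · by_cases hcl : f.coeff l = 0
      · rw [hcl, map_zero]; exact zero_le
      · have h1 := hall l hl
        have h2 : Q.1 (T l) = exp (-((e : ℤ) * P.ord (f.coeff l) + l)) := val_term_eq he hs hcl l
        rw [h2, exp_le_exp] at h1
        have he' : (0 : ℤ) < e := by exact_mod_cast hepos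
        have h3 : (0 : ℤ) ≤ P.ord (f.coeff l) := by
          by_contra hneg
          push Not at hneg
          have h4 : (e : ℤ) * P.ord (f.coeff l) ≤ -(e : ℤ) := by nlinarith
          have h5 : (l : ℤ) ≤ e := by exact_mod_cast (hme ▸ hl)
          omega
        exact (P.ord_nonneg_iff hcl).mp h3
    · rw [coeff_eq_zero_of_natDegree_lt (not_le.mp hl), map_zero]
      exact zero_le

end Eisenstein

section Deriv

variable {k : Type u} {K : Type v} {K' : Type v'} [Field k] [Field K] [Field K'] [Algebra k K]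
  [Algebra K K'] [Algebra k K'] {F' : Type w'} [Field F'] [Algebra k F']

theorem D_exp_aeval (ψ : K' →ₐ[k] LaurentSeries F') (f : K[X]) (s : K') :
    LocRes.D F' (ψ (aeval s f)) =
      ψ (aeval s (derivative f)) * LocRes.D F' (ψ s) +
        ∑ i ∈ Finset.range (f.natDegree + 1),
          (ψ s) ^ i * LocRes.D F' (ψ (algebraMap K K' (f.coeff i))) := by
  have h1 : ψ (aeval s f) = ∑ i ∈ Finset.range (f.natDegree + 1),
      ψ (algebraMap K K' (f.coeff i)) * (ψ s) ^ i := by
    rw [aeval_eq_sum_range, map_sum]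
    refine Finset.sum_congr rfl fun i _ => ?_
    rw [Algebra.smul_def, map_mul, map_pow]
  have h2 : ψ (aeval s (derivative f)) = ∑ i ∈ Finset.range (f.natDegree + 1),
      ψ (algebraMap K K' (f.coeff i)) * ((i : LaurentSeries F') * (ψ s) ^ (i - 1)) := by
    rw [derivative_apply, Polynomial.sum_over_range _ (fun n => by simp), map_sum, map_sum]
    refine Finset.sum_congr rfl fun i _ => ?_
    rw [map_mul, aeval_C, map_pow, aeval_X, map_mul, map_mul, map_pow, map_mul, map_natCast,
      map_natCast]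
    ring
  rw [h1, h2, map_sum, Finset.sum_mul, ← Finset.sum_add_distrib]
  refine Finset.sum_congr rfl fun i _ => ?_
  rw [Derivation.leibniz, Derivation.leibniz_pow, smul_eq_mul, smul_eq_mul, nsmul_eq_mul,
    smul_eq_mul]
  ring

end Deriv

section Main

variable {k : Type u} {K : Type v} {K' : Type v'} [Field k] [Field K] [Field K'] [Algebra k K]
  [Algebra K K'] [Algebra k K'] [IsScalarTower k K K'] [FiniteDimensional K K']
  {F : Type w} {F' : Type w'} [Field F] [Algebra k F] [Field F'] [Algebra k F']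

theorem ord_derivative_minpoly_eq_diffExp (hK : IsFunctionField k K) (hg : IsGeometric k K)
    {P : Place k K} {Q : Place k K'} {e : ℕ} (he : IsOverWith Q P e)
    {φ : K →ₐ[k] LaurentSeries F} (hφ : LocRes.IsExpansionAt P.1 φ)
    {ψ : K' →ₐ[k] LaurentSeries F'} (hψ : LocRes.IsExpansionAt Q.1 ψ)
    {x : K} (hx : LocRes.vDiff φ 1 x ≠ 0) (hx' : LocRes.vDiff ψ 1 (algebraMap K K' x) ≠ 0)
    (hn : e = Module.finrank K K') {s : K'} (hs : Q.1 s = exp (-1 : ℤ)) :
    Q.ord (aeval s (derivative (minpoly K s))) = LocRes.diffExp φ ψ e x := by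
  classical
  obtain ⟨t, ht⟩ := P.exists_uniformizer
  obtain ⟨hvφt, hvψt0, hd⟩ := diffExp_via_uniformizer hK hg he hφ hψ hx hx' ht
  rw [hd]
  have hint : IsIntegral K s := Algebra.IsIntegral.isIntegral s
  set f := minpoly K s with hf
  have hfm : f.Monic := minpoly.monic hint
  have hfs : aeval s f = 0 := minpoly.aeval K s
  have hdeg : f.natDegree ≤ e := hn ▸ minpoly.natDegree_le s
  obtain ⟨hme, hc0, hcall⟩ := eisenstein_of_index he hs hfm hfs hdeg
  -- d/dt of coefficients
  have hvφt0 : LocRes.vDiff φ 1 t ≠ 0 := by rw [hvφt]; exact one_ne_zero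
  have hKt := kaehler_D_ne_zero_of_exp φ (D_exp_ne_zero_of_vDiff hvφt0)
  choose u hu using fun i : ℕ => exists_kaehler_D_eq_smul hK hg hKt (f.coeff i)
  have hDφt : Valued.v (LocRes.D F (φ t)) = 1 := by rw [← vDiff_one_left]; exact hvφt
  have huval : ∀ i, P.1 (u i) = Valued.v (LocRes.D F (φ (f.coeff i))) := by
    intro i
    rw [D_exp_of_kaehler φ (hu i), map_mul, hφ.1, hDφt, mul_one]
  have hule : ∀ i, P.1 (u i) ≤ 1 := by
    intro i
    rw [huval]
    have h1 : Valued.v (φ (f.coeff i)) ≤ exp (-(0 : ℤ)) := by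
      rw [hφ.1, neg_zero, exp_zero]; exact hcall i
    have h2 := laurent_val_D_le_of_cast_eq_zero _ 0 h1 (by simp)
    rwa [neg_zero, exp_zero] at h2
  have hu0 : P.1 (u 0) = 1 := by
    rw [huval]
    have h1 : Valued.v (φ (f.coeff 0)) = exp (-(1 : ℤ)) := by rw [hφ.1, hc0]
    have h2 := laurent_val_D_eq _ 1 h1 (by simp)
    rw [h2]; simp
  -- the main identity
  have hmain := D_exp_aeval ψ f s
  rw [hfs, map_zero, map_zero] at hmain
  have hterm : ∀ i, LocRes.D F' (ψ (algebraMap K K' (f.coeff i))) =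
      ψ (algebraMap K K' (u i)) * LocRes.D F' (ψ (algebraMap K K' t)) := fun i =>
    D_exp_of_kaehler (ψ.comp (IsScalarTower.toAlgHom k K K')) (hu i)
  set g : K' := ∑ i ∈ Finset.range (f.natDegree + 1), algebraMap K K' (u i) * s ^ i with hg'
  have hsum : ∑ i ∈ Finset.range (f.natDegree + 1),
      (ψ s) ^ i * LocRes.D F' (ψ (algebraMap K K' (f.coeff i))) =
      ψ g * LocRes.D F' (ψ (algebraMap K K' t)) := by
    rw [hg', map_sum, Finset.sum_mul]
    refine Finset.sum_congr rfl fun i _ => ?_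
    rw [hterm, map_mul, map_pow]
    ring
  rw [hsum] at hmain
  -- valuation of g
  have hgval : Q.1 g = 1 := by
    rw [hg', Finset.sum_range_succ']
    have h0 : Q.1 (algebraMap K K' (u 0) * s ^ 0) = 1 := by
      rw [pow_zero, mul_one, he (u 0), hu0, one_pow]
    have hsmall : Q.1 (∑ i ∈ Finset.range f.natDegree,
        algebraMap K K' (u (i + 1)) * s ^ (i + 1)) < 1 := by
      apply Valuation.map_sum_lt _ one_ne_zero
      intro i _
      rw [map_mul, he, val_unif_pow_nat Q hs]
      calc P.1 (u (i + 1)) ^ e * exp (-((i + 1 : ℕ) : ℤ))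
          ≤ 1 * exp (-((i + 1 : ℕ) : ℤ)) :=
            mul_le_mul' (pow_le_one₀ zero_le (hule _)) le_rfl
        _ = exp (-((i + 1 : ℕ) : ℤ)) := one_mul _
        _ < 1 := by
            rw [← exp_zero (M := ℤ), exp_lt_exp]
            push_cast
            omega
    rw [Valuation.map_add_eq_of_lt_right _ (by rw [h0]; exact hsmall), h0]
  -- compare valuations
  have hDs : Valued.v (LocRes.D F' (ψ s)) = 1 := by
    have h1 : Valued.v (ψ s) = exp (-(1 : ℤ)) := by rw [hψ.1, hs]
    have h2 := laurent_val_D_eq _ 1 h1 (by simp)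
    rw [h2]; simp
  have heq : ψ (aeval s (derivative f)) * LocRes.D F' (ψ s) =
      -(ψ g * LocRes.D F' (ψ (algebraMap K K' t))) := eq_neg_of_add_eq_zero_left hmain.symm
  have hval := congrArg (fun z : LaurentSeries F' => Valued.v z) heq
  simp only [map_mul, Valuation.map_neg, hψ.1, hDs, mul_one, hgval, one_mul] at hval
  rw [vDiff_one_left, ← hval]
  rfl

end Main

end FunFld
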