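import Mathlib
import Groth.Agent.Lib.FunFldLocResC_helper2
import Groth.Agent.Lib.FunFldHypB_helper2

/-! Differentials of a double cover of the line through Laurent expansions (helper2). -/

open Polynomial IntermediateField WithZero Module

namespace FunFld

universe u v w

section Aux

theorem mul_exp_le_iff (w : WithZero (Multiplicative ℤ)) (a c : ℤ) :
    w * exp a ≤ exp c ↔ w ≤ exp (c - a) := by
  rw [exp_sub, le_div_iff₀ exp_pos]

theorem mul_exp_neg_le_one_iff (w : WithZero (Multiplicative ℤ)) (a b c : ℤ) (h : a = b + c) :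
    w * exp (-a) ≤ 1 ↔ w * exp (-b) ≤ exp c := by
  rw [← exp_zero (M := ℤ), mul_exp_le_iff, mul_exp_le_iff]
  have h1 : (0 : ℤ) - -a = c - -b := by rw [h]; ring
  rw [h1]

end Aux

section Quadratic

variable {k : Type*} {K : Type*} {K' : Type*} [Field k] [Field K] [Field K'] [Algebra k K]
  [Algebra K K'] [Algebra k K'] [IsScalarTower k K K'] [FiniteDimensional K K']

theorem idx_eq_one_of_unit_neg (hK : IsFunctionField k K) (hdeg : Module.finrank K K' = 2)
    (h2 : (2 : k) ≠ 0) {Q : Place k K'} {P : Place k K} {e : ℕ} (he : IsOverWith Q P e)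
    (σ : K' ≃ₐ[K] K') {u : K'} (hu : Q.1 u = 1) (hσ : σ u = -u) : e = 1 := by
  have hle := he.le_finrank hK
  have hpos := he.pos
  rw [hdeg] at hle
  by_contra hne
  have he2 : e = 2 := by omega
  have h1 := he.val_conj_sub_lt_one hK (he2.trans hdeg.symm) σ hu.le
  rw [hσ] at h1
  have h3 : -u - u = -(algebraMap k K' 2 * u) := by rw [map_ofNat]; ring
  rw [h3, Valuation.map_neg, map_mul, hu, mul_one, Q.val_algebraMap h2] at h1
  exact lt_irrefl _ h1

/-- Ramification and the order of `y` in `K(√r)`, `char ≠ 2`. -/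
theorem sqrt_idx_ord (hK : IsFunctionField k K) (hdeg : Module.finrank K K' = 2)
    (h2 : (2 : k) ≠ 0) {y : K'} {r : K} (hr : r ≠ 0) (heq : y ^ 2 = algebraMap K K' r)
    (σ : K' ≃ₐ[K] K') (hσ : σ y = -y) {Q : Place k K'} {P : Place k K} {e : ℕ}
    (he : IsOverWith Q P e) :
    (Odd (P.ord r) → e = 2 ∧ Q.ord y = P.ord r) ∧
      (Even (P.ord r) → e = 1 ∧ 2 * Q.ord y = P.ord r) := by
  have hle := he.le_finrank hK
  have hpos := he.pos
  rw [hdeg] at hle
  have hy0 : y ≠ 0 := by
    rintro rfl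
    rw [zero_pow two_ne_zero] at heq
    exact hr ((map_eq_zero _).mp heq.symm)
  have h1 : 2 * Q.ord y = (e : ℤ) * P.ord r := by
    rw [← he.ord_eq r, ← heq, Q.ord_pow]
    norm_num
  constructor
  · intro hodd
    obtain ⟨m, hm⟩ := hodd
    have hne1 : e ≠ 1 := by
      rintro rfl
      rw [hm] at h1
      push_cast at h1
      omega
    have he2 : e = 2 := by omega
    refine ⟨he2, ?_⟩
    rw [he2] at h1
    push_cast at h1
    omega
  · intro heven
    obtain ⟨m, hm⟩ := heven
    obtain ⟨w, hw⟩ := P.2.2 (exp m)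
    have hb : Q.ord y = (e : ℤ) * m := by
      have h3 : (2 : ℤ) * Q.ord y = 2 * ((e : ℤ) * m) := by rw [h1, hm]; ring
      exact mul_left_cancel₀ two_ne_zero h3
    have hu : Q.1 (y * algebraMap K K' w) = 1 := by
      rw [map_mul, he w, hw, Q.val_eq_exp_neg_ord hy0, hb, ← exp_nsmul, ← exp_add, nsmul_eq_mul,
        neg_add_cancel, exp_zero]
    have hσu : σ (y * algebraMap K K' w) = -(y * algebraMap K K' w) := by
      rw [map_mul, σ.commutes, hσ]
      ring
    have he1 := idx_eq_one_of_unit_neg hK hdeg h2 he σ hu hσu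
    refine ⟨he1, ?_⟩
    rw [he1] at h1
    push_cast at h1
    omega

end Quadratic

section Basic

variable {k : Type u} {K : Type v} [Field k] [Field K] [Algebra k K] [Algebra (RatFunc k) K]
  [IsScalarTower k (RatFunc k) K] {F : Type w} [Field F] [Algebra k F]

theorem algebraMap_poly_eq_aeval (q : k[X]) :
    algebraMap (RatFunc k) K (algebraMap k[X] (RatFunc k) q) =
      aeval (algebraMap (RatFunc k) K RatFunc.X) q := by
  rw [← RatFunc.aeval_X_left_eq_algebraMap, Polynomial.aeval_algebraMap_apply]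

omit [Algebra (RatFunc k) K] [IsScalarTower k (RatFunc k) K] in
theorem D_exp_const (ψ : K →ₐ[k] LaurentSeries F) (c : k) :
    LocRes.D F (ψ (algebraMap k K c)) = 0 := by
  rw [LocRes.map_algebraMap, LocRes.D_apply, LocRes.derivative_C]

omit [Algebra (RatFunc k) K] [IsScalarTower k (RatFunc k) K] in
theorem D_exp_poly (ψ : K →ₐ[k] LaurentSeries F) (q : k[X]) (s : K) :
    LocRes.D F (ψ (aeval s q)) = ψ (aeval s (derivative q)) * LocRes.D F (ψ s) := by
  have h := D_exp_aeval (K := k) ψ q s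
  rw [h, Finset.sum_eq_zero, add_zero]
  intro i _
  rw [D_exp_const, mul_zero]

omit [Algebra (RatFunc k) K] [IsScalarTower k (RatFunc k) K] in
theorem D_exp_inv (ψ : K →ₐ[k] LaurentSeries F) (a : K) :
    LocRes.D F (ψ a⁻¹) = -((ψ a)⁻¹ ^ 2 * LocRes.D F (ψ a)) := by
  rw [map_inv₀, Derivation.leibniz_inv, smul_eq_mul, neg_mul]

theorem Place.ratFunc_exists_irreducible_of_finite (p : Place k (RatFunc k))
    (hX : p.1 (RatFunc.X : RatFunc k) ≤ 1) :
    ∃ q : k[X], Irreducible q ∧ p.1 (algebraMap k[X] (RatFunc k) q) < 1 := by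
  obtain ⟨t, ht⟩ := p.exists_uniformizer
  have ht0 : t ≠ 0 := uniformizer_ne_zero p ht
  have hnd := RatFunc.num_div_denom t
  have hden := p.ratFunc_val_poly_le_one hX t.denom
  have hd0 : algebraMap k[X] (RatFunc k) t.denom ≠ 0 :=
    RatFunc.algebraMap_ne_zero (RatFunc.denom_ne_zero t)
  have hnum : p.1 (algebraMap k[X] (RatFunc k) t.num) < 1 := by
    have h1 : algebraMap k[X] (RatFunc k) t.num = t * algebraMap k[X] (RatFunc k) t.denom :=
      (div_eq_iff hd0).mp hnd
    rw [h1, map_mul, ht]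
    calc exp (-1 : ℤ) * p.1 (algebraMap k[X] (RatFunc k) t.denom)
        ≤ exp (-1 : ℤ) * 1 := mul_le_mul' le_rfl hden
      _ = exp (-1 : ℤ) := mul_one _
      _ < 1 := by rw [← exp_zero (M := ℤ), exp_lt_exp]; norm_num
  obtain ⟨q, hq, -, hqv⟩ := p.ratFunc_exists_irreducible hX (RatFunc.num_ne_zero ht0) hnum
  exact ⟨q, hq, hqv⟩

theorem val_D_exp_X_of_finite {Q : Place k K} {p : Place k (RatFunc k)} {e : ℕ}
    (he : IsOverWith Q p e) (hX : p.1 (RatFunc.X : RatFunc k) ≤ 1)
    {φ : K →ₐ[k] LaurentSeries F} (hφ : LocRes.IsExpansionAt Q.1 φ) (heF : ((e : ℕ) : F) ≠ 0) :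
    Valued.v (LocRes.D F (φ (algebraMap (RatFunc k) K RatFunc.X))) = exp (-((e : ℤ) - 1)) := by
  obtain ⟨q, hq, hqv⟩ := p.ratFunc_exists_irreducible_of_finite hX
  have hqo := p.ratFunc_ord_irreducible hq hqv
  have hq0 : algebraMap k[X] (RatFunc k) q ≠ 0 := RatFunc.algebraMap_ne_zero hq.ne_zero
  have hqval : p.1 (algebraMap k[X] (RatFunc k) q) = exp (-(1 : ℤ)) := by
    rw [p.val_eq_exp_neg_ord hq0, hqo]
  set x := algebraMap (RatFunc k) K RatFunc.X with hx
  have htval : Valued.v (φ (aeval x q)) = exp (-(e : ℤ)) := by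
    rw [hφ.1, ← algebraMap_poly_eq_aeval, he, hqval, ← exp_nsmul]
    congr 1
    simp
  have hD1 := laurent_val_D_eq (φ (aeval x q)) (e : ℤ) htval (by rwa [Int.cast_natCast])
  rw [D_exp_poly, map_mul] at hD1
  have hq'0 : derivative q ≠ 0 := by
    intro h0
    rw [h0, map_zero, map_zero, map_zero, zero_mul] at hD1
    exact exp_ne_zero hD1.symm
  have hndvd : ¬ q ∣ derivative q := by
    intro hdvd
    have h1 := natDegree_le_of_dvd hdvd hq'0
    have h2 := natDegree_derivative_lt (p := q) hq.natDegree_pos.ne'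
    omega
  have hq'val := p.ratFunc_val_eq_one_of_not_dvd hq hqv hndvd
  have h3 : Valued.v (φ (aeval x (derivative q))) = 1 := by
    rw [hφ.1, ← algebraMap_poly_eq_aeval, he, hq'val, one_pow]
  rw [h3, one_mul] at hD1
  exact hD1

theorem val_D_exp_X_of_inf {Q : Place k K} {p : Place k (RatFunc k)} {e : ℕ}
    (he : IsOverWith Q p e) (hinf : p.ord (RatFunc.X : RatFunc k) < 0)
    {φ : K →ₐ[k] LaurentSeries F} (hφ : LocRes.IsExpansionAt Q.1 φ) (heF : ((e : ℕ) : F) ≠ 0) :
    Valued.v (LocRes.D F (φ (algebraMap (RatFunc k) K RatFunc.X))) = exp ((e : ℤ) + 1) := by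
  have hXo := (p.ratFunc_inf hinf).1
  have hXval : p.1 (RatFunc.X : RatFunc k) = exp (1 : ℤ) := by
    rw [p.val_eq_exp_neg_ord RatFunc.X_ne_zero, hXo, neg_neg]
  set x := algebraMap (RatFunc k) K RatFunc.X with hx
  have hxval : Valued.v (φ x) = exp (e : ℤ) := by
    rw [hφ.1, he, hXval, ← exp_nsmul]
    congr 1
    simp
  have htval : Valued.v (φ x⁻¹) = exp (-(e : ℤ)) := by
    rw [map_inv₀, map_inv₀, hxval, exp_neg]
  have hD1 := laurent_val_D_eq (φ x⁻¹) (e : ℤ) htval (by rwa [Int.cast_natCast])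
  rw [D_exp_inv, Valuation.map_neg, map_mul, map_pow, map_inv₀, hxval] at hD1
  have h2 : Valued.v (LocRes.D F (φ x)) = exp (e : ℤ) ^ 2 * exp (-((e : ℤ) - 1)) := by
    rw [← hD1, ← mul_assoc, inv_pow, mul_inv_cancel₀ (pow_ne_zero 2 exp_ne_zero), one_mul]
  rw [h2, ← exp_nsmul, ← exp_add]
  congr 1
  simp only [nsmul_eq_mul]
  push_cast
  ring

end Basic

section Hyp

variable {k : Type u} {K : Type v} [Field k] [Field K] [Algebra k K] [Algebra (RatFunc k) K]
  [IsScalarTower k (RatFunc k) K] {F : Type w} [Field F] [Algebra k F]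

omit [Field K] [Algebra k K] [Algebra (RatFunc k) K] [IsScalarTower k (RatFunc k) K] in
theorem natCast_ne_zero_of_le_two (h2 : (2 : k) ≠ 0) {e : ℕ} (h1 : 1 ≤ e) (h2' : e ≤ 2) :
    ((e : ℕ) : F) ≠ 0 := by
  have h2F : (2 : F) ≠ 0 := by
    rw [← map_ofNat (algebraMap k F) 2]
    exact (_root_.map_ne_zero _).mpr h2
  interval_cases e
  · simp
  · exact_mod_cast h2F

theorem hyp_vDiff_le_one_iff (hK : IsFunctionField k K) (h2 : (2 : k) ≠ 0) {y : K} {f : k[X]}
    (hf : Squarefree f) (hd : 1 ≤ f.natDegree)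
    (heq : y ^ 2 = algebraMap (RatFunc k) K (algebraMap k[X] (RatFunc k) f))
    (hdeg : Module.finrank (RatFunc k) K = 2)
    (Pinf : Place k (RatFunc k)) (hinf : Pinf.ord (RatFunc.X : RatFunc k) < 0)
    (Q : Place k K) {φ : K →ₐ[k] LaurentSeries F} (hφ : LocRes.IsExpansionAt Q.1 φ) (z : K) :
    LocRes.vDiff φ z (algebraMap (RatFunc k) K RatFunc.X) ≤ 1 ↔
      Q.1 (z * y) ≤ exp ((conorm K (Finsupp.single Pinf
        ((((f.natDegree - 1) / 2 : ℕ) : ℤ) - 1) : Divisor k (RatFunc k))) Q) := by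
  classical
  have hKr := isFunctionField_ratFunc (k := k)
  haveI : FiniteDimensional (RatFunc k) K := Module.finite_of_finrank_pos (by omega)
  have hf0 : f ≠ 0 := by
    rintro rfl
    simp at hd
  have hF0 : algebraMap k[X] (RatFunc k) f ≠ 0 := RatFunc.algebraMap_ne_zero hf0
  have hyr : y ∉ (algebraMap (RatFunc k) K).range := by
    rintro ⟨a, ha⟩
    apply ratFunc_not_sq hf hd 1 a
    apply (algebraMap (RatFunc k) K).injective
    rw [map_one, one_mul, map_pow, ha, heq]
  obtain ⟨σ, hσ⟩ := exists_algEquiv_neg hdeg hyr heq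
  have hy0 : y ≠ 0 := by
    rintro rfl
    rw [zero_pow two_ne_zero] at heq
    exact hF0 ((map_eq_zero _).mp heq.symm)
  obtain ⟨p, e, he⟩ := exists_isOverWith hKr Q
  have hle := he.le_finrank hKr
  rw [hdeg] at hle
  have hpos := he.pos
  have heF : ((e : ℕ) : F) ≠ 0 := natCast_ne_zero_of_le_two h2 hpos hle
  obtain ⟨hodd, heven⟩ := sqrt_idx_ord hKr hdeg h2 hF0 heq σ hσ he
  rw [conorm_apply_isOverWith hKr _ he]
  unfold LocRes.vDiff
  rw [map_mul, hφ.1, map_mul, Q.val_eq_exp_neg_ord hy0]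
  by_cases hp : p = Pinf
  · rw [hp] at he hodd heven
    rw [hp, Finsupp.single_eq_same]
    have hordf : Pinf.ord (algebraMap k[X] (RatFunc k) f) = -(f.natDegree : ℤ) :=
      Pinf.ratFunc_ord_poly_of_inf hinf hf0
    rw [val_D_exp_X_of_inf he hinf hφ heF]
    have harith : -((e : ℤ) + 1) =
        Q.ord y + (e : ℤ) * ((((f.natDegree - 1) / 2 : ℕ) : ℤ) - 1) := by
      rcases Nat.even_or_odd f.natDegree with hev | hod
      · have hev' : Even (Pinf.ord (algebraMap k[X] (RatFunc k) f)) := by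
          rw [hordf]
          exact (Int.even_coe_nat _).mpr hev |>.neg
        obtain ⟨he1, hb⟩ := heven hev'
        obtain ⟨m, hm⟩ := hev
        rw [hordf] at hb
        rw [he1]
        push_cast
        omega
      · have hod' : Odd (Pinf.ord (algebraMap k[X] (RatFunc k) f)) := by
          rw [hordf]
          exact (Int.odd_coe_nat _).mpr hod |>.neg
        obtain ⟨he2, hb⟩ := hodd hod'
        obtain ⟨m, hm⟩ := hod
        rw [hordf] at hb
        rw [he2]
        push_cast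
        omega
    have key := mul_exp_neg_le_one_iff (Q.1 z) (-((e : ℤ) + 1)) (Q.ord y)
      ((e : ℤ) * ((((f.natDegree - 1) / 2 : ℕ) : ℤ) - 1)) harith
    rw [neg_neg] at key
    exact key
  · rw [Finsupp.single_apply, if_neg (Ne.symm hp)]
    have hX := p.ratFunc_val_X_le_one_of_ne Pinf hinf hp
    rw [val_D_exp_X_of_finite he hX hφ heF]
    have h1 := p.ratFunc_ord_squarefree_le_one hX hf hf0
    have h0 : 0 ≤ p.ord (algebraMap k[X] (RatFunc k) f) :=
      (p.ord_nonneg_iff hF0).mpr (p.ratFunc_val_poly_le_one hX f)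
    have harith : (e : ℤ) - 1 = Q.ord y + (e : ℤ) * 0 := by
      rcases (show p.ord (algebraMap k[X] (RatFunc k) f) = 0 ∨
          p.ord (algebraMap k[X] (RatFunc k) f) = 1 by omega) with h | h
      · obtain ⟨he1, hb⟩ := heven (by rw [h]; exact Even.zero)
        rw [h] at hb
        rw [he1]
        push_cast
        omega
      · obtain ⟨he2, hb⟩ := hodd (by rw [h]; exact odd_one)
        rw [h] at hb
        rw [he2]
        push_cast
        omega
    exact mul_exp_neg_le_one_iff (Q.1 z) ((e : ℤ) - 1) (Q.ord y) ((e : ℤ) * 0) harith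

omit [Field K] [Algebra k K] [Algebra (RatFunc k) K] [IsScalarTower k (RatFunc k) K] in
theorem ratFunc_mem_L_single_inf (Pinf : Place k (RatFunc k))
    (hinf : Pinf.ord (RatFunc.X : RatFunc k) < 0) (n : ℤ) {b : RatFunc k}
    (hb : b ∈ L (Finsupp.single Pinf n : Divisor k (RatFunc k))) :
    ∃ a : k[X], b = algebraMap k[X] (RatFunc k) a ∧ (a ≠ 0 → (a.natDegree : ℤ) ≤ n) := by
  classical
  by_cases hb0 : b = 0
  · exact ⟨0, by rw [hb0, map_zero], fun h => absurd rfl h⟩
  have hd0 : algebraMap k[X] (RatFunc k) b.denom ≠ 0 :=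
    RatFunc.algebraMap_ne_zero (RatFunc.denom_ne_zero b)
  have hden : b.denom = 1 := by
    by_contra hne
    have hnu : ¬ IsUnit b.denom := fun hu => hne ((RatFunc.monic_denom b).eq_one_of_isUnit hu)
    obtain ⟨q, hq, hqd⟩ := WfDvdMonoid.exists_irreducible_factor hnu (RatFunc.denom_ne_zero b)
    obtain ⟨P, hP⟩ := ratFunc_exists_place_of_irreducible hq
    have hPne : P ≠ Pinf := by
      rintro rfl
      have h1 := P.ratFunc_ord_poly_of_inf hinf hq.ne_zero
      have h2 := (P.ord_pos_iff (RatFunc.algebraMap_ne_zero hq.ne_zero)).mpr hP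
      omega
    have hX := P.ratFunc_val_X_le_one_of_ne Pinf hinf hPne
    have hPb := (mem_L.mp hb) P
    rw [Finsupp.single_apply, if_neg (Ne.symm hPne), exp_zero] at hPb
    have hqn : ¬ q ∣ b.num := fun hqn =>
      hq.not_isUnit ((RatFunc.isCoprime_num_denom b).isUnit_of_dvd' hqn hqd)
    have hnum := P.ratFunc_val_eq_one_of_not_dvd hq hP hqn
    have hdenlt : P.1 (algebraMap k[X] (RatFunc k) b.denom) < 1 := by
      obtain ⟨c, hc⟩ := hqd
      rw [hc, map_mul, map_mul]
      calc P.1 (algebraMap k[X] (RatFunc k) q) * P.1 (algebraMap k[X] (RatFunc k) c)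
          ≤ P.1 (algebraMap k[X] (RatFunc k) q) * 1 :=
            mul_le_mul' le_rfl (P.ratFunc_val_poly_le_one hX c)
        _ = P.1 (algebraMap k[X] (RatFunc k) q) := mul_one _
        _ < 1 := hP
    have h1 : algebraMap k[X] (RatFunc k) b.num = b * algebraMap k[X] (RatFunc k) b.denom :=
      (div_eq_iff hd0).mp (RatFunc.num_div_denom b)
    have h2 : P.1 (algebraMap k[X] (RatFunc k) b.num) < 1 := by
      rw [h1, map_mul]
      calc P.1 b * P.1 (algebraMap k[X] (RatFunc k) b.denom)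
          ≤ 1 * P.1 (algebraMap k[X] (RatFunc k) b.denom) := mul_le_mul' hPb le_rfl
        _ = P.1 (algebraMap k[X] (RatFunc k) b.denom) := one_mul _
        _ < 1 := hdenlt
    rw [hnum] at h2
    exact lt_irrefl _ h2
  have hb' : b = algebraMap k[X] (RatFunc k) b.num := by
    have := RatFunc.num_div_denom b
    rw [hden, map_one, div_one] at this
    exact this.symm
  refine ⟨b.num, hb', fun hnum0 => ?_⟩
  have hPb := (mem_L.mp hb) Pinf
  rw [Finsupp.single_eq_same, Pinf.val_le_exp_iff hb0] at hPb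
  have h3 : Pinf.ord b = -(b.num.natDegree : ℤ) := by
    conv_lhs => rw [hb']
    exact Pinf.ratFunc_ord_poly_of_inf hinf hnum0
  rw [h3] at hPb
  omega

theorem hyp_regular_differentials (hK : IsFunctionField k K)
    (hdeg : Module.finrank (RatFunc k) K = 2) (h2 : (2 : k) ≠ 0)
    {y : K} {f : k[X]} (hf : Squarefree f) (hd : 1 ≤ f.natDegree)
    (heq : y ^ 2 = algebraMap (RatFunc k) K (algebraMap k[X] (RatFunc k) f))
    (F : Place k K → Type w) [∀ P, Field (F P)] [∀ P, Algebra k (F P)]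
    (φ : ∀ P, K →ₐ[k] LaurentSeries (F P)) (hφ : ∀ P, LocRes.IsExpansionAt P.1 (φ P)) :
    (∀ i : ℕ, i < genus k K → ∀ P,
      LocRes.vDiff (φ P) (algebraMap (RatFunc k) K RatFunc.X ^ i / y)
        (algebraMap (RatFunc k) K RatFunc.X) ≤ 1) ∧
    ∀ z : K, (∀ P, LocRes.vDiff (φ P) z (algebraMap (RatFunc k) K RatFunc.X) ≤ 1) →
      ∃ a : k[X], a.degree < (genus k K : WithBot ℕ) ∧
        z = algebraMap (RatFunc k) K (algebraMap k[X] (RatFunc k) a) / y := by
  classical
  have hKr := isFunctionField_ratFunc (k := k)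
  haveI : FiniteDimensional (RatFunc k) K := Module.finite_of_finrank_pos (by omega)
  have hf0 : f ≠ 0 := by
    rintro rfl
    simp at hd
  have hF0 : algebraMap k[X] (RatFunc k) f ≠ 0 := RatFunc.algebraMap_ne_zero hf0
  have hyr : y ∉ (algebraMap (RatFunc k) K).range := by
    rintro ⟨a, ha⟩
    apply ratFunc_not_sq hf hd 1 a
    apply (algebraMap (RatFunc k) K).injective
    rw [map_one, one_mul, map_pow, ha, heq]
  have hy0 : y ≠ 0 := by
    rintro rfl
    rw [zero_pow two_ne_zero] at heq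
    exact hF0 ((map_eq_zero _).mp heq.symm)
  have hgen := adjoin_eq_top_of_notMem_range hdeg hyr
  have hg := hyp_genus hK h2 hf hd heq hgen
  obtain ⟨Pinf, hPdeg, hPord, hPall⟩ := ratFunc_exists_inf (k := k)
  have hinf : Pinf.ord (RatFunc.X : RatFunc k) < 0 := by omega
  obtain ⟨g, hgdef⟩ : ∃ g : ℕ, g = (f.natDegree - 1) / 2 := ⟨_, rfl⟩
  rw [← hgdef] at hg
  have key : ∀ (Q : Place k K) (z : K),
      LocRes.vDiff (φ Q) z (algebraMap (RatFunc k) K RatFunc.X) ≤ 1 ↔
      Q.1 (z * y) ≤ exp ((conorm K (Finsupp.single Pinf ((g : ℤ) - 1) :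
        Divisor k (RatFunc k))) Q) := by
    intro Q z
    rw [hgdef]
    exact hyp_vDiff_le_one_iff hK h2 hf hd heq hdeg Pinf hinf Q (hφ Q) z
  constructor
  · intro i hi P
    rw [hg] at hi
    rw [key, div_mul_cancel₀ _ hy0]
    have h1 : (RatFunc.X : RatFunc k) ^ i ∈
        L (Finsupp.single Pinf ((g : ℤ) - 1) : Divisor k (RatFunc k)) := by
      rw [mem_L]
      intro p
      by_cases hp : p = Pinf
      · rw [hp, Finsupp.single_eq_same, Pinf.val_le_exp_iff (pow_ne_zero i RatFunc.X_ne_zero),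
          Pinf.ord_pow, hPord]
        omega
      · rw [Finsupp.single_apply, if_neg (Ne.symm hp), exp_zero, map_pow]
        exact pow_le_one₀ zero_le (p.ratFunc_val_X_le_one_of_ne Pinf hinf hp)
    have h2' := (algebraMap_mem_L_conorm_iff (K' := K) hKr _ _).mpr h1
    rw [map_pow] at h2'
    exact (mem_L.mp h2') P
  · intro z hz
    have hzy : z * y ∈ L (conorm K (Finsupp.single Pinf ((g : ℤ) - 1) :
        Divisor k (RatFunc k))) := by
      rw [mem_L]
      intro Q
      exact (key Q z).mp (hz Q)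
    obtain ⟨a', b', hab⟩ := exists_eq_mul_add_of_adjoin_eq_top heq hgen (z * y)
    rw [hab] at hzy
    obtain ⟨ha', hb'⟩ := (hyp_mem_L_iff h2 hf hd heq hdeg hyr Pinf hinf _ a' b').mp hzy
    have ha0 : a' = 0 := by
      have hneg : Divisor.deg (Finsupp.single Pinf
          ((g : ℤ) - 1 - ((f.natDegree + 1) / 2 : ℕ)) : Divisor k (RatFunc k)) < 0 := by
        rw [deg_single, hPdeg]
        push_cast
        omega
      rw [L_eq_bot_of_deg_neg hKr _ hneg] at ha'
      exact (Submodule.mem_bot _).mp ha'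
    obtain ⟨a, hba, hadeg⟩ := ratFunc_mem_L_single_inf Pinf hinf _ hb'
    refine ⟨a, ?_, ?_⟩
    · rw [hg]
      by_cases ha : a = 0
      · rw [ha, degree_zero]
        exact WithBot.bot_lt_coe _
      · have := hadeg ha
        rw [← natDegree_lt_iff_degree_lt ha]
        omega
    · rw [eq_div_iff hy0, hab, ha0, map_zero, zero_mul, zero_add, hba]

end Hyp

end FunFld
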