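import Mathlib
import Groth.Agent.Lib.FunFldHypB_helper2

/-! Genus of Artin–Schreier extensions `y² + y = f(x)` in characteristic 2 (helper2). -/

open Polynomial IntermediateField WithZero Module

namespace FunFld

section Decomp2

variable {F E : Type*} [Field F] [Field E] [Algebra F E]

theorem exists_eq_mul_add_of_quadratic {y : E} {q : F[X]} (hq : q.Monic) (hq2 : q.natDegree = 2)
    (h0 : aeval y q = 0) (hgen : IntermediateField.adjoin F ({y} : Set E) = ⊤) (z : E) :
    ∃ a b : F, z = algebraMap F E a * y + algebraMap F E b := by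
  have halg : IsAlgebraic F y := ⟨_, hq.ne_zero, h0⟩
  have hz : z ∈ IntermediateField.adjoin F ({y} : Set E) := by
    rw [hgen]
    trivial
  have hz' : z ∈ (IntermediateField.adjoin F ({y} : Set E)).toSubalgebra := hz
  rw [IntermediateField.adjoin_simple_toSubalgebra_of_isAlgebraic halg,
    Algebra.adjoin_singleton_eq_range_aeval] at hz'
  obtain ⟨g, rfl⟩ := hz'
  have h1 : aeval y (g %ₘ q) = aeval y g := aeval_modByMonic_eq_self_of_root h0
  have h2 : (g %ₘ q).natDegree < 2 := by
    have := natDegree_modByMonic_lt g hq (by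
      intro h
      have := congrArg natDegree h
      rw [hq2, natDegree_one] at this
      omega)
    rwa [hq2] at this
  obtain ⟨a, b, hab⟩ := exists_eq_X_add_C_of_natDegree_le_one
    (by omega : (g %ₘ q).natDegree ≤ 1)
  refine ⟨a, b, ?_⟩
  show aeval y g = _
  rw [← h1, hab, map_add, map_mul, aeval_C, aeval_X, aeval_C]

end Decomp2

section AS

variable {k K : Type*} [Field k] [Field K] [Algebra k K] [Algebra (RatFunc k) K]
    [IsScalarTower k (RatFunc k) K]

theorem as_ord_y {y : K} {f : RatFunc k} (heq : y ^ 2 + y = algebraMap (RatFunc k) K f)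
    {Q : Place k K} {p : Place k (RatFunc k)} {e : ℕ} (he : IsOverWith Q p e)
    (hneg : p.ord f < 0) : y ≠ 0 ∧ 2 * Q.ord y = Q.ord (algebraMap (RatFunc k) K f) := by
  have hof : Q.ord (algebraMap (RatFunc k) K f) = e * p.ord f := he.ord_eq f
  have hepos : (0 : ℤ) < e := by exact_mod_cast he.pos
  have hfneg : Q.ord (algebraMap (RatFunc k) K f) < 0 := by
    rw [hof]
    nlinarith
  have hf0 : algebraMap (RatFunc k) K f ≠ 0 := by
    intro h0
    rw [h0, Q.ord_zero] at hfneg
    exact lt_irrefl _ hfneg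
  have hy0 : y ≠ 0 := by
    rintro rfl
    apply hf0
    rw [← heq]
    ring
  refine ⟨hy0, ?_⟩
  have hyneg : Q.ord y < 0 := by
    by_contra hge
    push Not at hge
    have h1 : Q.1 y ≤ 1 := (Q.ord_nonneg_iff hy0).mp hge
    have h2' : Q.1 (y ^ 2 + y) ≤ 1 :=
      (Q.1.map_add _ _).trans (max_le (by rw [map_pow]; exact pow_le_one₀ zero_le h1) h1)
    rw [heq] at h2'
    have := (Q.ord_nonneg_iff hf0).mpr h2'
    omega
  have hlt : Q.1 y < Q.1 (y ^ 2) := by
    rw [Q.val_eq_exp_neg_ord hy0, Q.val_eq_exp_neg_ord (pow_ne_zero 2 hy0),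
      WithZero.exp_lt_exp, Q.ord_pow]
    push_cast
    omega
  have hv : Q.1 (y ^ 2 + y) = Q.1 (y ^ 2) := Valuation.map_add_eq_of_lt_left _ hlt
  have hoo : Q.ord (y ^ 2 + y) = Q.ord (y ^ 2) := by
    unfold Place.ord
    rw [hv]
  rw [← heq, hoo, Q.ord_pow]
  push_cast
  ring

theorem as_val_y_le_one {y : K} {f : RatFunc k} (heq : y ^ 2 + y = algebraMap (RatFunc k) K f)
    {Q : Place k K} {p : Place k (RatFunc k)} {e : ℕ} (he : IsOverWith Q p e)
    (hreg : p.1 f ≤ 1) : Q.1 y ≤ 1 := by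
  by_contra hgt
  push Not at hgt
  have hlt : Q.1 y < Q.1 (y ^ 2) := by
    rw [map_pow, pow_two]
    calc Q.1 y = Q.1 y * 1 := (mul_one _).symm
      _ < Q.1 y * Q.1 y := by
        have h0 : (0 : ℤᵐ⁰) < Q.1 y := lt_trans zero_lt_one hgt
        exact mul_lt_mul_of_pos_left hgt h0
  have hv : Q.1 (y ^ 2 + y) = Q.1 (y ^ 2) := Valuation.map_add_eq_of_lt_left _ hlt
  rw [heq, he f, map_pow] at hv
  have h3 : p.1 f ^ e ≤ 1 := pow_le_one₀ zero_le hreg
  rw [hv] at h3
  have h4 : (1 : ℤᵐ⁰) < Q.1 y ^ 2 := one_lt_pow₀ hgt two_ne_zero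
  exact absurd h3 (not_le.mpr h4)

/-- Local analysis at a (totally ramified) pole of `f` of order `2d - 1`. -/
theorem as_local_pole {y : K} {f : RatFunc k} (heq : y ^ 2 + y = algebraMap (RatFunc k) K f)
    {Q : Place k K} {p : Place k (RatFunc k)} (he : IsOverWith Q p 2) {d : ℤ} (hd : 1 ≤ d)
    (hord : p.ord f = 1 - 2 * d) (a b : RatFunc k) (j : ℤ) :
    Q.1 (algebraMap (RatFunc k) K a * y + algebraMap (RatFunc k) K b) ≤ exp (2 * j) ↔
      p.1 a ≤ exp (j - d) ∧ p.1 b ≤ exp j := by
  obtain ⟨hy0, hoy⟩ := as_ord_y heq he (by omega)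
  have hoy' : Q.ord y = 1 - 2 * d := by
    have := he.ord_eq f
    rw [this, hord] at hoy
    push_cast at hoy
    omega
  have hB : ∀ b' : RatFunc k, Q.1 (algebraMap (RatFunc k) K b') ≤ exp (2 * j) ↔
      p.1 b' ≤ exp j := by
    intro b'
    rw [he b', show (2 : ℤ) * j = ((2 : ℕ) : ℤ) * j by norm_num, exp_natCast_mul]
    exact pow_le_pow_iff_left₀ zero_le zero_le two_ne_zero
  have hinj : Function.Injective (algebraMap (RatFunc k) K) := (algebraMap (RatFunc k) K).injective
  have hA : ∀ a' : RatFunc k, a' ≠ 0 →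
      (Q.1 (algebraMap (RatFunc k) K a' * y) ≤ exp (2 * j) ↔ p.1 a' ≤ exp (j - d)) := by
    intro a' ha'
    have hA0 : algebraMap (RatFunc k) K a' ≠ 0 := (_root_.map_ne_zero _).mpr ha'
    rw [Q.val_le_exp_iff (mul_ne_zero hA0 hy0), p.val_le_exp_iff ha', Q.ord_mul hA0 hy0,
      he.ord_eq, hoy']
    push_cast
    constructor <;> intro h <;> omega
  by_cases ha : a = 0
  · rw [ha, map_zero, zero_mul, zero_add, map_zero, hB]
    exact ⟨fun h => ⟨zero_le, h⟩, fun h => h.2⟩
  by_cases hb : b = 0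
  · rw [hb, map_zero, add_zero, map_zero, hA a ha]
    exact ⟨fun h => ⟨h, zero_le⟩, fun h => h.1⟩
  have hA0 : algebraMap (RatFunc k) K a ≠ 0 := (_root_.map_ne_zero _).mpr ha
  have hB0 : algebraMap (RatFunc k) K b ≠ 0 := (_root_.map_ne_zero _).mpr hb
  have hne : Q.1 (algebraMap (RatFunc k) K a * y) ≠ Q.1 (algebraMap (RatFunc k) K b) := by
    intro h
    rw [Q.val_eq_exp_neg_ord (mul_ne_zero hA0 hy0), Q.val_eq_exp_neg_ord hB0] at h
    have h1 := exp_injective h
    rw [Q.ord_mul hA0 hy0, he.ord_eq, he.ord_eq, hoy'] at h1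
    push_cast at h1
    omega
  rw [Valuation.map_add_of_distinct_val _ hne, max_le_iff, hA a ha, hB]

/-- The shape of `L(Con D)` for an Artin–Schreier extension: `A` is the divisor `∑ dᵢ pᵢ`. -/
theorem as_mem_L_iff (h2 : (2 : k) = 0) (hdeg : Module.finrank (RatFunc k) K = 2) {y : K}
    (hyr : y ∉ (algebraMap (RatFunc k) K).range) {f : RatFunc k}
    (heq : y ^ 2 + y = algebraMap (RatFunc k) K f) (A : Divisor k (RatFunc k))
    (hA : ∀ p : Place k (RatFunc k), p.ord f < 0 → p.ord f = 1 - 2 * A p ∧ 1 ≤ A p)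
    (hA0 : ∀ p : Place k (RatFunc k), 0 ≤ p.ord f → A p = 0)
    (D : Divisor k (RatFunc k)) (a b : RatFunc k) :
    algebraMap (RatFunc k) K a * y + algebraMap (RatFunc k) K b ∈ L (conorm K D) ↔
      a ∈ L (D - A) ∧ b ∈ L D := by
  classical
  have hKr := isFunctionField_ratFunc (k := k)
  haveI : FiniteDimensional (RatFunc k) K := Module.finite_of_finrank_pos (by omega)
  have h2F : (2 : RatFunc k) = 0 := by
    rw [← map_ofNat (algebraMap k (RatFunc k)) 2, h2, map_zero]
  have hreg : ∀ p : Place k (RatFunc k), 0 ≤ p.ord f → p.1 f ≤ 1 := by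
    intro p hp
    by_cases hf0 : f = 0
    · rw [hf0, map_zero]
      exact zero_le
    · exact (p.ord_nonneg_iff hf0).mp hp
  have htwo : ∀ (Q : Place k K) (p : Place k (RatFunc k)) (e : ℕ), IsOverWith Q p e →
      p.ord f < 0 → IsOverWith Q p 2 := by
    intro Q p e he hneg
    obtain ⟨hd1, hd2⟩ := hA p hneg
    exact isOverWith_two_of_odd hKr hdeg ⟨e, he⟩ (as_ord_y heq he hneg).2
      ⟨-A p, by rw [hd1]; ring⟩
  constructor
  · intro hz
    obtain ⟨σ, hσ⟩ := exists_algEquiv_add_one h2F hdeg hyr heq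
    have hσz := algEquiv_mem_L_conorm hKr D σ hz
    rw [map_add, map_mul, σ.commutes, σ.commutes, hσ] at hσz
    have haK : algebraMap (RatFunc k) K a ∈ L (conorm K D) := by
      have := Submodule.sub_mem _ hσz hz
      have h3 : algebraMap (RatFunc k) K a * (y + 1) + algebraMap (RatFunc k) K b -
          (algebraMap (RatFunc k) K a * y + algebraMap (RatFunc k) K b) =
          algebraMap (RatFunc k) K a := by ring
      rwa [h3] at this
    have haD := (algebraMap_mem_L_conorm_iff hKr D a).mp haK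
    have key : ∀ p : Place k (RatFunc k), p.1 a ≤ exp ((D - A) p) ∧ p.1 b ≤ exp (D p) := by
      intro p
      obtain ⟨Q, e, he⟩ := exists_isOver_above (K' := K) hKr p
      have hzQ := (mem_L.mp hz) Q
      rw [Finsupp.sub_apply]
      by_cases hneg : p.ord f < 0
      · have he2 := htwo Q p e he hneg
        obtain ⟨hd1, hd2⟩ := hA p hneg
        rw [conorm_apply_isOverWith hKr D he2] at hzQ
        exact (as_local_pole heq he2 hd2 hd1 a b (D p)).mp hzQ
      · push Not at hneg
        rw [hA0 p hneg, sub_zero]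
        refine ⟨(mem_L.mp haD) p, ?_⟩
        have hy1 := as_val_y_le_one heq he (hreg p hneg)
        have haQ := (mem_L.mp haK) Q
        have hbQ : Q.1 (algebraMap (RatFunc k) K b) ≤ exp (conorm K D Q) := by
          have h4 : algebraMap (RatFunc k) K b =
              (algebraMap (RatFunc k) K a * y + algebraMap (RatFunc k) K b) -
                algebraMap (RatFunc k) K a * y := by ring
          rw [h4]
          refine (Valuation.map_sub _ _ _).trans (max_le hzQ ?_)
          rw [map_mul]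
          calc Q.1 (algebraMap (RatFunc k) K a) * Q.1 y
              ≤ exp (conorm K D Q) * 1 := mul_le_mul' haQ hy1
            _ = exp (conorm K D Q) := mul_one _
        rw [he b, conorm_apply_isOverWith hKr D he, exp_natCast_mul] at hbQ
        exact (pow_le_pow_iff_left₀ zero_le zero_le he.pos.ne').mp hbQ
    exact ⟨mem_L.mpr fun p => (key p).1, mem_L.mpr fun p => (key p).2⟩
  · rintro ⟨haL, hbL⟩
    rw [mem_L]
    intro Q
    obtain ⟨p, e, he⟩ := exists_isOverWith hKr Q
    have hap := (mem_L.mp haL) p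
    have hbp := (mem_L.mp hbL) p
    rw [Finsupp.sub_apply] at hap
    by_cases hneg : p.ord f < 0
    · have he2 := htwo Q p e he hneg
      obtain ⟨hd1, hd2⟩ := hA p hneg
      rw [conorm_apply_isOverWith hKr D he2]
      exact (as_local_pole heq he2 hd2 hd1 a b (D p)).mpr ⟨hap, hbp⟩
    · push Not at hneg
      rw [hA0 p hneg, sub_zero] at hap
      have hy1 := as_val_y_le_one heq he (hreg p hneg)
      rw [conorm_apply_isOverWith hKr D he, exp_natCast_mul]
      refine (Q.1.map_add _ _).trans (max_le ?_ ?_)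
      · rw [map_mul, he a]
        calc p.1 a ^ e * Q.1 y ≤ exp (D p) ^ e * 1 :=
              mul_le_mul' (pow_le_pow_left₀ zero_le hap e) hy1
          _ = exp (D p) ^ e := mul_one _
      · rw [he b]
        exact pow_le_pow_left₀ zero_le hbp e

theorem as_genus (h2 : (2 : k) = 0) (hK : IsFunctionField k K)
    (hdeg : Module.finrank (RatFunc k) K = 2) {y : K}
    (hyr : y ∉ (algebraMap (RatFunc k) K).range) {f : RatFunc k}
    (heq : y ^ 2 + y = algebraMap (RatFunc k) K f) (A : Divisor k (RatFunc k))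
    (hA : ∀ p : Place k (RatFunc k), p.ord f < 0 → p.ord f = 1 - 2 * A p ∧ 1 ≤ A p)
    (hA0 : ∀ p : Place k (RatFunc k), 0 ≤ p.ord f → A p = 0) :
    (genus k K : ℤ) = Divisor.deg A - 1 := by
  classical
  have hKr := isFunctionField_ratFunc (k := k)
  haveI : FiniteDimensional (RatFunc k) K := Module.finite_of_finrank_pos (by omega)
  have hgen := adjoin_eq_top_of_notMem_range hdeg hyr
  obtain ⟨Pinf, hPdeg, hPord, -⟩ := ratFunc_exists_inf (k := k)
  obtain ⟨-, N, hN⟩ := riemann hK
  obtain ⟨n, hn1, hn2⟩ : ∃ n : ℕ, Divisor.deg A ≤ n ∧ N ≤ 2 * (n : ℤ) :=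
    ⟨max (Divisor.deg A).toNat N.toNat, by
      have h3 := le_max_left (Divisor.deg A).toNat N.toNat
      have h4 := Int.self_le_toNat (Divisor.deg A)
      have h5 : ((Divisor.deg A).toNat : ℤ) ≤ (max (Divisor.deg A).toNat N.toNat : ℕ) := by
        exact_mod_cast h3
      linarith, by
      have h3 := le_max_right (Divisor.deg A).toNat N.toNat
      have h4 := Int.self_le_toNat N
      have h5 : (N.toNat : ℤ) ≤ (max (Divisor.deg A).toNat N.toNat : ℕ) := by exact_mod_cast h3
      have h6 : (0 : ℤ) ≤ (max (Divisor.deg A).toNat N.toNat : ℕ) := Int.natCast_nonneg _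
      linarith⟩
  obtain ⟨D₂, hD₂⟩ : ∃ D₂ : Divisor k (RatFunc k), D₂ = Finsupp.single Pinf (n : ℤ) := ⟨_, rfl⟩
  obtain ⟨D₁, hD₁⟩ : ∃ D₁ : Divisor k (RatFunc k), D₁ = D₂ - A := ⟨_, rfl⟩
  have hdegD₂ : Divisor.deg D₂ = n := by
    rw [hD₂, deg_single, hPdeg]
    push_cast
    ring
  have hdegD₁ : Divisor.deg D₁ = n - Divisor.deg A := by
    rw [hD₁, deg_sub, hdegD₂]
  have hdegC : Divisor.deg (conorm K D₂) = 2 * (n : ℤ) := by
    rw [deg_conorm hKr, hdeg, hdegD₂]
    push_cast
    ring
  have hRR := hN (conorm K D₂) (by rw [hdegC]; exact hn2)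
  have hell1 : (ell D₁ : ℤ) = (n : ℤ) - Divisor.deg A + 1 := by
    have := ell_eq_of_deg_ge hKr D₁ (by
      rw [ratFunc_genus, hdegD₁]
      push_cast
      linarith)
    rw [this, ratFunc_genus, hdegD₁]
    push_cast
    ring
  have hell2 : (ell D₂ : ℤ) = (n : ℤ) + 1 := by
    have := ell_eq_of_deg_ge hKr D₂ (by
      rw [ratFunc_genus, hdegD₂]
      push_cast
      linarith)
    rw [this, ratFunc_genus, hdegD₂]
    push_cast
    ring
  haveI := finiteDimensional_L hKr D₁
  haveI := finiteDimensional_L hKr D₂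
  have hsmul : ∀ (t : k) (u : RatFunc k),
      algebraMap (RatFunc k) K (t • u) = t • algebraMap (RatFunc k) K u := by
    intro t u
    rw [Algebra.smul_def, Algebra.smul_def, map_mul, ← IsScalarTower.algebraMap_apply]
  let ψ : (L D₁ × L D₂) →ₗ[k] K :=
    { toFun := fun p => algebraMap (RatFunc k) K (p.1 : RatFunc k) * y +
        algebraMap (RatFunc k) K (p.2 : RatFunc k)
      map_add' := fun p q => by
        show algebraMap (RatFunc k) K ((p.1 : RatFunc k) + (q.1 : RatFunc k)) * y +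
          algebraMap (RatFunc k) K ((p.2 : RatFunc k) + (q.2 : RatFunc k)) = _
        rw [map_add, map_add]
        ring
      map_smul' := fun t p => by
        show algebraMap (RatFunc k) K (t • (p.1 : RatFunc k)) * y +
          algebraMap (RatFunc k) K (t • (p.2 : RatFunc k)) = t • _
        rw [hsmul, hsmul, smul_add, smul_mul_assoc] }
  have hiff : ∀ a b : RatFunc k, algebraMap (RatFunc k) K a * y + algebraMap (RatFunc k) K b ∈
      L (conorm K D₂) ↔ a ∈ L D₁ ∧ b ∈ L D₂ := by
    intro a b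
    rw [hD₁]
    exact as_mem_L_iff h2 hdeg hyr heq A hA hA0 D₂ a b
  have hmem : ∀ p : L D₁ × L D₂, ψ p ∈ L (conorm K D₂) := fun p =>
    (hiff _ _).mpr ⟨p.1.2, p.2.2⟩
  let Ψ : (L D₁ × L D₂) →ₗ[k] L (conorm K D₂) := LinearMap.codRestrict _ ψ hmem
  have hinj : Function.Injective Ψ := by
    rw [injective_iff_map_eq_zero]
    intro p hp
    have h0 : algebraMap (RatFunc k) K (p.1 : RatFunc k) * y +
        algebraMap (RatFunc k) K (p.2 : RatFunc k) = 0 := congrArg Subtype.val hp
    have ha0 : (p.1 : RatFunc k) = 0 := by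
      by_contra hne
      apply hyr
      refine ⟨-(p.2 : RatFunc k) / (p.1 : RatFunc k), ?_⟩
      have hA' : algebraMap (RatFunc k) K (p.1 : RatFunc k) ≠ 0 := (_root_.map_ne_zero _).mpr hne
      rw [map_div₀, map_neg]
      field_simp
      linear_combination -h0
    rw [ha0, map_zero, zero_mul, zero_add] at h0
    have hb0 : (p.2 : RatFunc k) = 0 := (_root_.map_eq_zero _).mp h0
    exact Prod.ext (Subtype.ext ha0) (Subtype.ext hb0)
  have h2F : (2 : RatFunc k) = 0 := by
    rw [← map_ofNat (algebraMap k (RatFunc k)) 2, h2, map_zero]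
  have hq0 : aeval y (X ^ 2 + (X - C f) : (RatFunc k)[X]) = 0 := by
    rw [map_add, map_sub, map_pow, aeval_X, aeval_C]
    linear_combination heq
  have hqm : (X ^ 2 + (X - C f) : (RatFunc k)[X]).Monic :=
    monic_X_pow_add (by rw [degree_X_sub_C]; norm_num)
  have hq2 : (X ^ 2 + (X - C f) : (RatFunc k)[X]).natDegree = 2 := by
    have hdeg1 : (X - C f : (RatFunc k)[X]).natDegree = 1 := natDegree_X_sub_C f
    rw [natDegree_add_eq_left_of_natDegree_lt (by rw [hdeg1, natDegree_X_pow]; norm_num),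
      natDegree_X_pow]
  have hsurj : Function.Surjective Ψ := by
    intro z
    obtain ⟨a, b, hab⟩ := exists_eq_mul_add_of_quadratic hqm hq2 hq0 hgen (z : K)
    have hz : (z : K) ∈ L (conorm K D₂) := z.2
    rw [hab, hiff] at hz
    refine ⟨(⟨a, hz.1⟩, ⟨b, hz.2⟩), Subtype.ext ?_⟩
    exact hab.symm
  have hfin := (LinearEquiv.ofBijective Ψ ⟨hinj, hsurj⟩).finrank_eq
  rw [Module.finrank_prod] at hfin
  have hellC : (ell (conorm K D₂) : ℤ) = ((n : ℤ) - Divisor.deg A + 1) + ((n : ℤ) + 1) := by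
    rw [← hell1, ← hell2]
    unfold ell
    rw [← hfin]
    push_cast
    ring
  rw [hdegC, hellC] at hRR
  linarith

end AS

end FunFld
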