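import Mathlib
import Groth.Agent.Lib.FunFldLocRes_helper2
import Groth.Agent.Lib.FunFldAS_helper2
import Groth.Agent.Lib.FunFldGeomC_helper2

/-! Different exponents of Artin–Schreier extensions via Laurent expansions (helper2). -/

open Polynomial IntermediateField WithZero Module

namespace FunFld

universe u v w w'

theorem cast_odd_ne_zero {k : Type*} {A : Type*} [Field k] [Field A] [Algebra k A]
    (h2 : (2 : k) = 0) {n : ℤ} (hn : Odd n) : (n : A) ≠ 0 := by
  have h2A : (2 : A) = 0 := by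
    have := congrArg (algebraMap k A) h2
    rwa [map_ofNat, map_zero] at this
  obtain ⟨m, hm⟩ := hn
  rw [hm]
  push_cast
  rw [h2A, zero_mul, zero_add]
  exact one_ne_zero

theorem as_diffExp {k : Type u} {K : Type v} [Field k] [Field K] [Algebra k K]
    [Algebra (RatFunc k) K] [IsScalarTower k (RatFunc k) K]
    (hK : IsFunctionField k K) (hdeg : Module.finrank (RatFunc k) K = 2) [PerfectField k]
    (h2 : ringChar k = 2) {y : K} {f : RatFunc k}
    (heq : y ^ 2 + y = algebraMap (RatFunc k) K f)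
    {p : Place k (RatFunc k)} (hp : 1 < p.1 f) (hodd : Odd (p.ord f))
    {P : Place k K} {e : ℕ} (he : IsOverWith P p e)
    {F : Type w} {F' : Type w'} [Field F] [Algebra k F] [Field F'] [Algebra k F']
    {φ : RatFunc k →ₐ[k] LaurentSeries F} (hφ : LocRes.IsExpansionAt p.1 φ)
    {ψ : K →ₐ[k] LaurentSeries F'} (hψ : LocRes.IsExpansionAt P.1 ψ)
    {z : RatFunc k} (hz : LocRes.vDiff φ 1 z ≠ 0)
    (hz' : LocRes.vDiff ψ 1 (algebraMap (RatFunc k) K z) ≠ 0) :
    LocRes.diffExp φ ψ e z = 1 - p.ord f := by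
  classical
  haveI : CharP k 2 := ringChar.of_eq h2
  have h2k : (2 : k) = 0 := CharTwo.two_eq_zero
  have hK₀ : IsFunctionField k (RatFunc k) := isFunctionField_ratFunc
  have hg₀ : IsGeometric k (RatFunc k) := isGeometric_of_perfectField hK₀
  haveI : FiniteDimensional (RatFunc k) K :=
    Module.finite_of_finrank_pos (by rw [hdeg]; norm_num)
  have hf0 : f ≠ 0 := by
    rintro rfl
    rw [map_zero] at hp
    exact absurd hp (by simp)
  have hneg : p.ord f < 0 := (p.ord_neg_iff hf0).mpr hp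
  obtain ⟨hy0, hoy⟩ := as_ord_y heq he hneg
  have hof := he.ord_eq f
  have hele : e ≤ 2 := hdeg ▸ he.le_finrank hK₀
  have hepos := he.pos
  have hodd' := hodd
  obtain ⟨m, hm⟩ := hodd'
  have he2 : e = 2 := by
    rcases (by omega : e = 1 ∨ e = 2) with h | h
    · exfalso
      rw [h] at hof
      rw [hof] at hoy
      push_cast at hoy
      omega
    · exact h
  subst he2
  have hoy' : P.ord y = p.ord f := by
    rw [hof] at hoy
    push_cast at hoy
    omega
  obtain ⟨t, ht⟩ := p.exists_uniformizer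
  obtain ⟨hvφt, hvψt0, hd⟩ := diffExp_via_uniformizer hK₀ hg₀ he hφ hψ hz hz' ht
  rw [hd]
  have hvφf : LocRes.vDiff φ 1 f = exp (-(p.ord f - 1)) := by
    rw [vDiff_one_left]
    exact laurent_val_D_eq (φ f) (p.ord f) (by rw [hφ.1, p.val_eq_exp_neg_ord hf0])
      (cast_odd_ne_zero h2k hodd)
  have hvφt0 : LocRes.vDiff φ 1 t ≠ 0 := by rw [hvφt]; exact one_ne_zero
  obtain ⟨u, hu1, hu2⟩ := vDiff_change hK₀ hg₀ he hφ hψ hvφt0 f
  rw [hvφt, mul_one] at hu1
  have hDy : LocRes.D F' (ψ (algebraMap (RatFunc k) K f)) = LocRes.D F' (ψ y) := by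
    rw [← heq, map_add, map_pow, map_add, pow_two, Derivation.leibniz]
    have h2L : (2 : LaurentSeries F') = 0 := by
      have := congrArg (algebraMap k (LaurentSeries F')) h2k
      rwa [map_ofNat, map_zero] at this
    have h3 : ψ y • LocRes.D F' (ψ y) + ψ y • LocRes.D F' (ψ y) = 0 := by
      rw [← two_smul (LaurentSeries F') (ψ y • LocRes.D F' (ψ y)), h2L, zero_smul]
    rw [h3, zero_add]
  have hvψf : LocRes.vDiff ψ 1 (algebraMap (RatFunc k) K f) = exp (-(p.ord f - 1)) := by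
    rw [vDiff_one_left, hDy]
    exact laurent_val_D_eq (ψ y) (p.ord f)
      (by rw [hψ.1, P.val_eq_exp_neg_ord hy0, hoy']) (cast_odd_ne_zero h2k hodd)
  rw [hvψf, ← hu1, hvφf] at hu2
  obtain ⟨c, hc⟩ : ∃ c : ℤ, LocRes.vDiff ψ 1 (algebraMap (RatFunc k) K t) = exp c :=
    ⟨log _, (exp_log hvψt0).symm⟩
  rw [hc, ← exp_nsmul, ← exp_add, exp_inj] at hu2
  rw [hc, log_exp]
  simp only [nsmul_eq_mul] at hu2
  push_cast at hu2
  omega

end FunFld
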